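import Mathlib.RingTheory.LocalRing.Basic
import Mathlib.RingTheory.LocalRing.MaximalIdeal.Basic
import Mathlib.RingTheory.Ideal.Operations
import Mathlib.Data.Fintype.Pigeonhole

/-!
# A cheap coset prime avoidance in a local ring (helper1)

In a local ring, if `y` is a nonunit lying in none of finitely many primes `P`, then for every `x`
some `x + y ^ a` with `a ≥ 2` lies in none of the `P`.
-/

set_option autoImplicit false
universe u

namespace Groth.Agent.Lib.H1LocalAvoid

theorem exists_pow_add_notMem {R : Type u} [CommRing R] [IsLocalRing R] (s : Finset (Ideal R))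
    (hs : ∀ P ∈ s, P.IsPrime) (x y : R) (hy : y ∈ IsLocalRing.maximalIdeal R)
    (hyP : ∀ P ∈ s, y ∉ P) : ∃ a, 2 ≤ a ∧ ∀ P ∈ s, x + y ^ a ∉ P := by
  classical
  by_contra hcon
  push Not at hcon
  choose f hf using hcon
  -- pigeonhole on the exponents `2, …, s.card + 2`
  let t : Finset ℕ := Finset.Icc 2 (s.card + 2)
  have hcard : s.card < t.card := by simp [t]
  have hmaps : ∀ a ∈ t, (if h : 2 ≤ a then f a h else ⊥) ∈ s := by
    intro a ha
    have h2 : 2 ≤ a := (Finset.mem_Icc.mp ha).1
    rw [dif_pos h2]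
    exact (hf a h2).1
  obtain ⟨a, ha, b, hb, hab, hfab⟩ := Finset.exists_ne_map_eq_of_card_lt_of_maps_to hcard hmaps
  have ha2 : 2 ≤ a := (Finset.mem_Icc.mp ha).1
  have hb2 : 2 ≤ b := (Finset.mem_Icc.mp hb).1
  rw [dif_pos ha2, dif_pos hb2] at hfab
  -- symmetric situation: reduce to `a < b`
  have key : ∀ (a b : ℕ) (P : Ideal R), P ∈ s → a < b → x + y ^ a ∈ P → x + y ^ b ∈ P → False := by
    intro a b P hP hab h1 h2
    have hPprime := hs P hP
    have hsub : y ^ a * (1 - y ^ (b - a)) ∈ P := by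
      have : y ^ a * (1 - y ^ (b - a)) = (x + y ^ a) - (x + y ^ b) := by
        have hb : b = a + (b - a) := by omega
        conv_rhs => rw [hb, pow_add]
        ring
      rw [this]
      exact P.sub_mem h1 h2
    have hunit : IsUnit (1 - y ^ (b - a)) := by
      apply IsLocalRing.isUnit_one_sub_self_of_mem_nonunits
      have : y ^ (b - a) ∈ IsLocalRing.maximalIdeal R :=
        Ideal.pow_mem_of_mem _ hy _ (by omega)
      exact this
    rcases hPprime.mem_or_mem hsub with h | h
    · exact hyP P hP (hPprime.mem_of_pow_mem _ h)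
    · exact hPprime.ne_top (Ideal.eq_top_of_isUnit_mem _ h hunit)
  rcases lt_or_gt_of_ne hab with h | h
  · exact key a b (f a ha2) (hf a ha2).1 h (hf a ha2).2 (hfab ▸ (hf b hb2).2)
  · exact key b a (f b hb2) (hf b hb2).1 h (hf b hb2).2 (hfab ▸ (hf a ha2).2)

end Groth.Agent.Lib.H1LocalAvoid
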