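import Groth.Prelude.Def_DCoh2
import Mathlib.CategoryTheory.Limits.Shapes.CombinedProducts
import Mathlib.Algebra.Homology.HomotopyCofiber

/-!
# helper3: finite locally free modules are closed under binary biproducts
-/

set_option autoImplicit false
universe u
open CategoryTheory CategoryTheory.Limits AlgebraicGeometry TopologicalSpace

namespace Groth.Agent.H3.FLF

variable {X : Scheme.{u}}

/-- restriction along an open immersion sends `O_X^n` to `O_Z^n`. -/
noncomputable def restrictFreeMod {Z : Scheme.{u}} (g : Z ⟶ X) [IsOpenImmersion g] (n : ℕ) :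
    (FlatMod.freeMod X n).restrict g ≅ FlatMod.freeMod Z n :=
  PreservesCoproduct.iso (Scheme.Modules.restrictFunctor g) (fun _ : Fin n => Coh.structureModule X) ≪≫
    Sigma.mapIso (fun _ => Scheme.Modules.restrictUnitIso g)

/-- a module free over `U` is free over every smaller open -/
lemma nonempty_restrict_iso_freeMod_of_le (M : X.Modules) {U U' : X.Opens} (h : U' ≤ U) {n : ℕ}
    (e : M.restrict U.ι ≅ FlatMod.freeMod (↑U) n) :
    Nonempty (M.restrict U'.ι ≅ FlatMod.freeMod (↑U') n) := by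
  let j : (U' : Scheme.{u}) ⟶ U := X.homOfLE h
  have hj : j ≫ U.ι = U'.ι := X.homOfLE_ι h
  exact ⟨(Scheme.Modules.restrictFunctorCongr hj.symm).app M ≪≫
    (Scheme.Modules.restrictFunctorComp j U.ι).app M ≪≫
    (Scheme.Modules.restrictFunctor j).mapIso e ≪≫ restrictFreeMod j n⟩

lemma isFinLocFree_of_iso {M N : X.Modules} (e : M ≅ N) (h : FlatMod.IsFinLocFree M) :
    FlatMod.IsFinLocFree N := fun x => by
  obtain ⟨U, n, hx, ⟨i⟩⟩ := h x
  exact ⟨U, n, hx, ⟨(Scheme.Modules.restrictFunctor U.ι).mapIso e.symm ≪≫ i⟩⟩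

attribute [local instance] Abelian.hasFiniteBiproducts in
/-- `O^n ⊞ O^m ≅ O^(n+m)` -/
lemma nonempty_biprod_freeMod_iso (n m : ℕ) :
    Nonempty ((FlatMod.freeMod X n ⊞ FlatMod.freeMod X m) ≅ FlatMod.freeMod X (n + m)) := by
  let f₁ : Fin n → X.Modules := fun _ => Coh.structureModule X
  let f₂ : Fin m → X.Modules := fun _ => Coh.structureModule X
  let c₁ : Cofan f₁ := Cofan.mk _ (Sigma.ι f₁)
  let c₂ : Cofan f₂ := Cofan.mk _ (Sigma.ι f₂)
  have h₁ : IsColimit c₁ := coproductIsCoproduct f₁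
  have h₂ : IsColimit c₂ := coproductIsCoproduct f₂
  let bc : BinaryCofan c₁.pt c₂.pt := (BinaryBiproduct.bicone c₁.pt c₂.pt).toCocone
  have hbc : IsColimit bc := BinaryBiproduct.isColimit _ _
  have hcomb := Cofan.combPairIsColimit h₁ h₂ hbc
  -- the combined cofan is a colimit cofan over `Fin n ⊕ Fin m` with all terms `O`
  let e1 : bc.pt ≅ ∐ (Sum.elim f₁ f₂) :=
    hcomb.coconePointUniqueUpToIso (coproductIsCoproduct _)
  refine ⟨e1 ≪≫ Sigma.whiskerEquiv (f := Sum.elim f₁ f₂)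
    (g := fun _ : Fin (n + m) => Coh.structureModule X) finSumFinEquiv (fun i => ?_)⟩
  cases i <;> exact Iso.refl _

attribute [local instance] Abelian.hasFiniteBiproducts in
/-- a binary biproduct of finite locally free modules is finite locally free -/
theorem isFinLocFree_biprod (M N : X.Modules) (hM : FlatMod.IsFinLocFree M)
    (hN : FlatMod.IsFinLocFree N) : FlatMod.IsFinLocFree (M ⊞ N) := fun x => by
  obtain ⟨U1, n, hx1, ⟨e1⟩⟩ := hM x
  obtain ⟨U2, m, hx2, ⟨e2⟩⟩ := hN x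
  obtain ⟨a⟩ := nonempty_restrict_iso_freeMod_of_le M (inf_le_left : U1 ⊓ U2 ≤ U1) e1
  obtain ⟨b⟩ := nonempty_restrict_iso_freeMod_of_le N (inf_le_right : U1 ⊓ U2 ≤ U2) e2
  obtain ⟨c⟩ := nonempty_biprod_freeMod_iso (X := ((U1 ⊓ U2 : X.Opens) : Scheme.{u})) n m
  refine ⟨U1 ⊓ U2, n + m, ⟨hx1, hx2⟩, ⟨?_⟩⟩
  have := preservesBinaryBiproducts_of_preservesBiproducts
    (Scheme.Modules.restrictFunctor (U1 ⊓ U2).ι)
  exact (Scheme.Modules.restrictFunctor (U1 ⊓ U2).ι).mapBiprod M N ≪≫ biprod.mapIso a b ≪≫ c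

end Groth.Agent.H3.FLF
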