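import Mathlib.RingTheory.IsTensorProduct
import Mathlib.RingTheory.Localization.BaseChange
import Mathlib.RingTheory.Flat.Stability
import Mathlib.RingTheory.Flat.Localization
import Mathlib.RingTheory.Ideal.Maps

/-!
# helper3: flatness at primes and base change
-/

set_option autoImplicit false
universe u
open TensorProduct

namespace Groth.Agent.H3.FlatLocBC

section Tower
variable {R B : Type*} [CommRing R] [CommRing B] [Algebra R B]
  {M M' : Type*} [AddCommGroup M] [Module R M] [Module B M] [IsScalarTower R B M]
  [AddCommGroup M'] [Module R M'] [Module B M'] [IsScalarTower R B M']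

/-- Tower version: a localization (at a submonoid of `B`) of an `R`-flat `B`-module is `R`-flat. -/
theorem flat_of_isLocalizedModule_tower (T : Submonoid B) (g : M →ₗ[B] M') [IsLocalizedModule T g]
    [H : Module.Flat R M] : Module.Flat R M' := by
  simp_rw [Module.Flat.iff_lTensor_injectiveₛ] at H ⊢
  simp_rw [← AlgebraTensorModule.coe_lTensor (A := B)]
  intro P _ _ N
  have h1 := IsLocalizedModule.map_injective T (AlgebraTensorModule.rTensor R N g)
    (AlgebraTensorModule.rTensor R P g) (AlgebraTensorModule.lTensor B M N.subtype) (by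
      simpa using H N)
  rw [IsLocalizedModule.map_lTensor] at h1
  simpa using h1

end Tower

section BC

variable {S S' : Type u} [CommRing S] [CommRing S'] [Algebra S S']
  {M M' : Type u} [AddCommGroup M] [Module S M] [AddCommGroup M'] [Module S' M'] [Module S M']
  [IsScalarTower S S' M']

/-- Base change of a localization map is a localization at the image submonoid. -/
theorem isLocalizedModule_baseChange (f : M →ₗ[S] M') (hf : IsBaseChange S' f) (T : Submonoid S)
    {N : Type u} [AddCommGroup N] [Module S N] (g : M →ₗ[S] N) [IsLocalizedModule T g] :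
    IsLocalizedModule (Algebra.algebraMapSubmonoid S' T)
      ((LinearMap.baseChange S' g) ∘ₗ hf.equiv.symm.toLinearMap) := by
  set ψ : M' →ₗ[S'] S' ⊗[S] N := (LinearMap.baseChange S' g) ∘ₗ hf.equiv.symm.toLinearMap with hψ
  have : IsLocalizedModule T (ψ.restrictScalars S) := by
    let e₁ : M ⊗[S] S' ≃ₗ[S] M' :=
      (TensorProduct.comm S M S') ≪≫ₗ (hf.equiv.restrictScalars S)
    let e₂ : N ⊗[S] S' ≃ₗ[S] S' ⊗[S] N := TensorProduct.comm S N S'
    have key : ψ.restrictScalars S =
        (e₂.toLinearMap ∘ₗ (AlgebraTensorModule.rTensor S S' g)) ∘ₗ e₁.symm.toLinearMap := by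
      apply LinearMap.ext
      intro y
      obtain ⟨x, rfl⟩ := e₁.surjective y
      induction x using TensorProduct.induction_on with
      | zero => simp
      | add a b ha hb => simp only [map_add, ha, hb]
      | tmul m s =>
        have h1 : e₁ (m ⊗ₜ[S] s) = s • f m := by
          simp [e₁, IsBaseChange.equiv_tmul]
        have h2 : hf.equiv.symm (s • f m) = s ⊗ₜ[S] m := by
          rw [LinearEquiv.symm_apply_eq, IsBaseChange.equiv_tmul]
        simp only [LinearMap.coe_comp, LinearEquiv.coe_coe, Function.comp_apply,
          LinearEquiv.symm_apply_apply, LinearMap.coe_restrictScalars]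
        rw [h1]
        simp only [ψ, LinearMap.coe_comp, LinearEquiv.coe_coe, Function.comp_apply, h2]
        simp [e₂]
    rw [key]
    infer_instance
  exact IsLocalizedModule.of_restrictScalars T ψ

end BC

section Main

variable {R S R' S' : Type u} [CommRing R] [CommRing S] [CommRing R'] [CommRing S']
  [Algebra R S] [Algebra R R'] [Algebra S S'] [Algebra R' S'] [Algebra R S'] [IsScalarTower R S S']
  [IsScalarTower R R' S'] [Algebra.IsPushout R S R' S']
  {M M' : Type u} [AddCommGroup M] [Module S M] [Module R M] [IsScalarTower R S M]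
  [AddCommGroup M'] [Module S' M'] [Module R' M'] [IsScalarTower R' S' M'] [Module S M']
  [IsScalarTower S S' M']

/-- If `M_T` is `R`-flat, then `(M')_{T'}` is `R'`-flat for `M' = S' ⊗_S M`, `S' = S ⊗_R R'` and
`T' ⊇` the image of `T`. -/
theorem flat_localizedModule_of_isPushout (f : M →ₗ[S] M') (hf : IsBaseChange S' f)
    (T : Submonoid S) (T' : Submonoid S') (hT : Algebra.algebraMapSubmonoid S' T ≤ T')
    [Module.Flat R (LocalizedModule T M)] : Module.Flat R' (LocalizedModule T' M') := by
  let N := LocalizedModule T M
  let g : M →ₗ[S] N := LocalizedModule.mkLinearMap T M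
  let ψ : M' →ₗ[S'] S' ⊗[S] N := (LinearMap.baseChange S' g) ∘ₗ hf.equiv.symm.toLinearMap
  have hψ : IsLocalizedModule (Algebra.algebraMapSubmonoid S' T) ψ :=
    isLocalizedModule_baseChange f hf T g
  have : Algebra.IsPushout R R' S S' := Algebra.IsPushout.symm inferInstance
  have hflat : Module.Flat R' (S' ⊗[S] N) :=
    Module.Flat.of_linearEquiv (Algebra.IsPushout.cancelBaseChange R R' S S' N)
  let k := IsLocalizedModule.liftOfLE (Algebra.algebraMapSubmonoid S' T) T' hT ψ
    (LocalizedModule.mkLinearMap T' M')
  exact flat_of_isLocalizedModule_tower (R := R') (B := S') T' k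

end Main

end Groth.Agent.H3.FlatLocBC
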