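import Mathlib

/-!
# helper4: a finite type algebra is a filtered colimit of finitely presented algebras with
surjective transition maps (quotients of one polynomial ring by finitely generated subideals of
the kernel).
-/

universe u

namespace Groth.Agent.Lib.H4FTColim

open CategoryTheory MvPolynomial

section Data

variable {R A : Type u} [CommRing R] [CommRing A] [Algebra R A] {n : ℕ}
  (f : MvPolynomial (Fin n) R →ₐ[R] A)

/-- The index preorder: finite subsets of the kernel. -/
def J : Type u := {s : Finset (MvPolynomial (Fin n) R) // ∀ t ∈ s, f t = 0}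

instance : Preorder (J f) where
  le j k := j.1 ⊆ k.1
  le_refl j := Finset.Subset.refl _
  le_trans _ _ _ h₁ h₂ := Finset.Subset.trans h₁ h₂

/-- The quotient by the span of a finite set. -/
abbrev Q (s : Finset (MvPolynomial (Fin n) R)) : Type u :=
  MvPolynomial (Fin n) R ⧸ Ideal.span (s : Set (MvPolynomial (Fin n) R))

theorem span_mono {s s' : Finset (MvPolynomial (Fin n) R)} (h : s ⊆ s') :
    Ideal.span (s : Set (MvPolynomial (Fin n) R)) ≤ Ideal.span (s' : Set (MvPolynomial (Fin n) R)) :=
  Ideal.span_mono (by exact_mod_cast h)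

/-- Transition maps. -/
noncomputable def tau {s s' : Finset (MvPolynomial (Fin n) R)} (h : s ⊆ s') : Q s →ₐ[R] Q s' :=
  Ideal.Quotient.factorₐ R (span_mono h)

theorem tau_mk {s s' : Finset (MvPolynomial (Fin n) R)} (h : s ⊆ s') (p : MvPolynomial (Fin n) R) :
    tau h (Ideal.Quotient.mk _ p) = Ideal.Quotient.mk _ p := rfl

theorem tau_surjective {s s' : Finset (MvPolynomial (Fin n) R)} (h : s ⊆ s') :
    Function.Surjective (tau (R := R) h) := by
  intro x
  obtain ⟨p, rfl⟩ := Ideal.Quotient.mk_surjective x
  exact ⟨Ideal.Quotient.mk _ p, rfl⟩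

theorem span_le_ker (j : J f) :
    Ideal.span (j.1 : Set (MvPolynomial (Fin n) R)) ≤ RingHom.ker f.toRingHom := by
  rw [Ideal.span_le]
  intro t ht
  exact j.2 t (by exact_mod_cast ht)

/-- Maps to `A`. -/
noncomputable def iota (j : J f) : Q j.1 →ₐ[R] A :=
  Ideal.Quotient.liftₐ _ f (fun a ha => span_le_ker f j ha)

theorem iota_mk (j : J f) (p : MvPolynomial (Fin n) R) :
    iota f j (Ideal.Quotient.mk _ p) = f p := rfl

theorem finitePresentation_Q (s : Finset (MvPolynomial (Fin n) R)) :
    Algebra.FinitePresentation R (Q s) :=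
  Algebra.FinitePresentation.quotient ⟨s, rfl⟩

/-- The diagram. -/
noncomputable def F : J f ⥤ Under (CommRingCat.of R) where
  obj j := Under.mk (CommRingCat.ofHom (algebraMap R (Q j.1)))
  map {j k} g := Under.homMk (CommRingCat.ofHom (tau (leOfHom g)).toRingHom) (by
    ext a
    exact (tau (leOfHom g)).commutes a)
  map_id j := by
    apply Under.UnderMorphism.ext
    apply CommRingCat.hom_ext
    refine RingHom.ext fun x => ?_
    obtain ⟨p, rfl⟩ := Ideal.Quotient.mk_surjective x
    rfl
  map_comp {j k l} g h := by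
    apply Under.UnderMorphism.ext
    apply CommRingCat.hom_ext
    refine RingHom.ext fun x => ?_
    obtain ⟨p, rfl⟩ := Ideal.Quotient.mk_surjective x
    rfl

/-- The cocone. -/
noncomputable def cocone : Limits.Cocone (F f) where
  pt := Under.mk (CommRingCat.ofHom (algebraMap R A))
  ι :=
    { app := fun j => Under.homMk (CommRingCat.ofHom (iota f j).toRingHom) (by
        ext a
        exact (iota f j).commutes a)
      naturality := by
        intro j k g
        apply Under.UnderMorphism.ext
        apply CommRingCat.hom_ext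
        refine RingHom.ext fun x => ?_
        obtain ⟨p, rfl⟩ := Ideal.Quotient.mk_surjective x
        rfl }

instance : Nonempty (J f) := ⟨⟨∅, by intro t ht; simp at ht⟩⟩

instance : IsDirected (J f) (· ≤ ·) := by
  classical
  constructor
  intro j k
  refine ⟨⟨j.1 ∪ k.1, ?_⟩, Finset.subset_union_left, Finset.subset_union_right⟩
  intro t ht
  rcases Finset.mem_union.mp ht with h | h
  · exact j.2 t h
  · exact k.2 t h

instance : IsFiltered (J f) := inferInstance

/-- The cocone is a colimit. -/
noncomputable def isColimitCocone (hf : Function.Surjective f) :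
    Limits.IsColimit (cocone f) := by
  classical
  haveI : IsConnected (J f) := IsFiltered.isConnected _
  apply Limits.isColimitOfReflects (Under.forget (CommRingCat.of R))
  haveI : Limits.ReflectsColimit (F f ⋙ Under.forget (CommRingCat.of R))
      (forget CommRingCat.{u}) :=
    Limits.reflectsColimit_of_reflectsIsomorphisms _ _
  apply Limits.isColimitOfReflects (forget CommRingCat.{u})
  apply Limits.Types.FilteredColimit.isColimitOf'
  · intro x
    have hx : ∃ b : A, b = x := ⟨x, rfl⟩
    obtain ⟨b, hb⟩ := hx
    obtain ⟨p, hp⟩ := hf b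
    refine ⟨⟨∅, by intro t ht; simp at ht⟩, Ideal.Quotient.mk _ p, ?_⟩
    rw [← hb, ← hp]
    rfl
  · intro j x y hxy
    have hx : ∃ x' : Q j.1, x' = x := ⟨x, rfl⟩
    obtain ⟨x', hx'⟩ := hx
    have hy : ∃ y' : Q j.1, y' = y := ⟨y, rfl⟩
    obtain ⟨y', hy'⟩ := hy
    have hxy' : iota f j x' = iota f j y' := by
      rw [hx', hy']
      exact hxy
    obtain ⟨p, hp⟩ := Ideal.Quotient.mk_surjective x'
    obtain ⟨q, hq⟩ := Ideal.Quotient.mk_surjective y'
    rw [← hp, ← hq, iota_mk, iota_mk] at hxy'
    let k : J f := ⟨insert (p - q) j.1, by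
      intro t ht
      rcases Finset.mem_insert.mp ht with rfl | ht
      · rw [map_sub, hxy', sub_self]
      · exact j.2 t ht⟩
    have hjk : j ≤ k := Finset.subset_insert _ _
    refine ⟨k, homOfLE hjk, ?_⟩
    rw [← hx', ← hy', ← hp, ← hq]
    show tau hjk (Ideal.Quotient.mk _ p) = tau hjk (Ideal.Quotient.mk _ q)
    rw [tau_mk, tau_mk, Ideal.Quotient.eq]
    exact Ideal.subset_span (by simp [k])

end Data

theorem exists_filtered_colimit_surjective (R A : Type u) [CommRing R] [CommRing A]
    [Algebra R A] [Algebra.FiniteType R A] :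
    ∃ (I : Type u) (_ : SmallCategory I) (_ : IsFiltered I) (D : I ⥤ Under (CommRingCat.of R))
      (c : Limits.Cocone D) (_ : Limits.IsColimit c),
      (∀ i, (D.obj i).hom.hom.FinitePresentation) ∧
      (∀ (i j : I) (φ : i ⟶ j), Function.Surjective (D.map φ).right.hom) ∧
      c.pt = Under.mk (CommRingCat.ofHom (algebraMap R A)) := by
  obtain ⟨n, f, hf⟩ := Algebra.FiniteType.iff_quotient_mvPolynomial''.mp
    (inferInstance : Algebra.FiniteType R A)
  refine ⟨J f, inferInstance, inferInstance, F f, cocone f, isColimitCocone f hf, ?_, ?_, rfl⟩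
  · intro j
    exact RingHom.finitePresentation_algebraMap.mpr (finitePresentation_Q j.1)
  · intro i j φ
    exact tau_surjective (leOfHom φ)

end Groth.Agent.Lib.H4FTColim
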