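import Mathlib

/-!
# helper4: for a short exact sequence with flat cokernel, `I N₂ ∩ N₁ = I N₁`
-/

open TensorProduct

namespace Groth.Agent.Lib.H4FlatInf

variable {R : Type*} [CommRing R]

/-- If `N₁ → N₂ → N₃ → 0` is exact with `N₁ → N₂` injective and `N₃` flat, then an element of
`N₁` whose image lies in `I • N₂` lies in `I • N₁`. -/
theorem mem_smul_top_of_flat {N₁ N₂ N₃ : Type*} [AddCommGroup N₁] [Module R N₁]
    [AddCommGroup N₂] [Module R N₂] [AddCommGroup N₃] [Module R N₃]
    (g₁ : N₁ →ₗ[R] N₂) (g₂ : N₂ →ₗ[R] N₃) (hg₁ : Function.Injective g₁)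
    (hex : Function.Exact g₁ g₂) (hg₂ : Function.Surjective g₂) [Module.Flat R N₃]
    (I : Ideal R) (y : N₁) (hy : g₁ y ∈ I • (⊤ : Submodule R N₂)) :
    y ∈ I • (⊤ : Submodule R N₁) := by
  have hinj : Function.Injective (g₁.lTensor (R ⧸ I)) :=
    lTensor_injective_of_exact_of_exact_of_rTensor_injective
      (f₁ := I.subtype) (f₂ := I.mkQ) (g₁ := g₁) (g₂ := g₂)
      (LinearMap.exact_subtype_mkQ I) (Submodule.mkQ_surjective I) hex hg₂
      (Module.Flat.rTensor_preserves_injective_linearMap _ I.injective_subtype)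
      (Module.Flat.lTensor_preserves_injective_linearMap _ hg₁)
  have h0 : (1 : R ⧸ I) ⊗ₜ[R] g₁ y = 0 := by
    have := (TensorProduct.quotTensorEquivQuotSMul N₂ I).injective
    apply this
    rw [map_zero, ← map_one (Ideal.Quotient.mk I), TensorProduct.quotTensorEquivQuotSMul_mk_tmul,
      one_smul, Submodule.Quotient.mk_eq_zero]
    exact hy
  have h1 : (1 : R ⧸ I) ⊗ₜ[R] y = 0 := by
    apply hinj
    rw [LinearMap.lTensor_tmul, h0, map_zero]
  have h2 := congrArg (TensorProduct.quotTensorEquivQuotSMul N₁ I) h1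
  rw [map_zero, ← map_one (Ideal.Quotient.mk I), TensorProduct.quotTensorEquivQuotSMul_mk_tmul,
    one_smul, Submodule.Quotient.mk_eq_zero] at h2
  exact h2

end Groth.Agent.Lib.H4FlatInf
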