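import Mathlib
import Groth.Prelude.Def_AlgGrp
import Groth.Prelude.Def_Grpd

/-!
# The action groupoid of a group scheme acting on a scheme (helper5)

For `G X : Over S`, `G` a group object and `a : AlgGrp.Action G X`, `actGrpd a` is the groupoid scheme
with `U = X`, `R = G ×_S X`, `s = pr₂`, `t = a.act`, `e x = (1, x)`, `i (g, x) = (g⁻¹, g x)` and
`(g, h y) ∘ (h, y) = (g h, y)`.
-/

set_option autoImplicit false
set_option linter.style.haveILetI false
set_option linter.unusedSectionVars false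
set_option linter.unusedSimpArgs false
universe u

open CategoryTheory CategoryTheory.Limits MonoidalCategory CartesianMonoidalCategory MonObj GrpObj
  AlgebraicGeometry

namespace Groth.Agent.Lib.H5bAct

variable {S : Scheme.{u}} {G X : Over S} [GrpObj G] (a : AlgGrp.Action G X)

section OverLevel

variable {T T' : Over S}

theorem lift_mul_act (g h : T ⟶ G) (x : T ⟶ X) :
    lift (g * h) x ≫ a.act = lift g (lift h x ≫ a.act) ≫ a.act := by
  have h1 : lift (g * h) x = lift (lift g h) x ≫ (μ[G] ▷ X) := by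
    rw [lift_whiskerRight, Hom.mul_def]
  have h2 : lift (lift g h) x ≫ (α_ G G X).hom = lift g (lift h x) := by
    rw [lift_lift_associator_hom]
  rw [h1, Category.assoc, a.mul_act, ← Category.assoc, h2, ← Category.assoc, lift_whiskerLeft]

theorem lift_one_act (x : T ⟶ X) : lift (1 : T ⟶ G) x ≫ a.act = x := by
  have h1 : lift (1 : T ⟶ G) x = lift (toUnit T) x ≫ (η[G] ▷ X) := by
    rw [lift_whiskerRight, Hom.one_def]
  rw [h1, Category.assoc, a.one_act, leftUnitor_hom, lift_snd]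

/-- identity of the action groupoid. -/
noncomputable def eO : X ⟶ G ⊗ X := lift (1 : X ⟶ G) (𝟙 X)

/-- inverse of the action groupoid. -/
noncomputable def iO : G ⊗ X ⟶ G ⊗ X := lift (fst G X)⁻¹ a.act

/-- composition of `T`-points of the action groupoid. -/
noncomputable def cmp (α β : T ⟶ G ⊗ X) : T ⟶ G ⊗ X :=
  lift ((α ≫ fst G X) * (β ≫ fst G X)) (β ≫ snd G X)

theorem comp_cmp (f : T' ⟶ T) (α β : T ⟶ G ⊗ X) : f ≫ cmp α β = cmp (f ≫ α) (f ≫ β) := by
  unfold cmp
  rw [comp_lift, MonObj.comp_mul]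
  simp only [Category.assoc]

theorem cmp_fst (α β : T ⟶ G ⊗ X) : cmp α β ≫ fst G X = (α ≫ fst G X) * (β ≫ fst G X) :=
  lift_fst _ _

theorem cmp_snd (α β : T ⟶ G ⊗ X) : cmp α β ≫ snd G X = β ≫ snd G X := lift_snd _ _

theorem cmp_act (α β : T ⟶ G ⊗ X) (h : α ≫ snd G X = β ≫ a.act) :
    cmp α β ≫ a.act = α ≫ a.act := by
  unfold cmp
  rw [lift_mul_act, lift_comp_fst_snd, ← h, lift_comp_fst_snd]

theorem cmp_assoc (α β c3 : T ⟶ G ⊗ X) : cmp (cmp α β) c3 = cmp α (cmp β c3) := by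
  apply CartesianMonoidalCategory.hom_ext
  · rw [cmp_fst, cmp_fst, cmp_fst, cmp_fst, _root_.mul_assoc]
  · rw [cmp_snd, cmp_snd, cmp_snd]

theorem eO_fst : eO ≫ fst G X = (1 : X ⟶ G) := lift_fst _ _

theorem eO_snd : (eO : X ⟶ G ⊗ X) ≫ snd G X = 𝟙 X := lift_snd _ _

theorem eO_act : eO ≫ a.act = 𝟙 X := lift_one_act a _

theorem cmp_eO (α : T ⟶ G ⊗ X) : cmp α (α ≫ snd G X ≫ eO) = α := by
  apply CartesianMonoidalCategory.hom_ext
  · rw [cmp_fst, Category.assoc, Category.assoc, eO_fst, MonObj.comp_one, MonObj.comp_one, _root_.mul_one]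
  · rw [cmp_snd, Category.assoc, Category.assoc, eO_snd, Category.comp_id]

theorem eO_cmp (α : T ⟶ G ⊗ X) : cmp (α ≫ a.act ≫ eO) α = α := by
  apply CartesianMonoidalCategory.hom_ext
  · rw [cmp_fst, Category.assoc, Category.assoc, eO_fst, MonObj.comp_one, MonObj.comp_one, _root_.one_mul]
  · rw [cmp_snd]

theorem iO_fst : iO a ≫ fst G X = (fst G X)⁻¹ := lift_fst _ _

theorem iO_snd : iO a ≫ snd G X = a.act := lift_snd _ _

theorem iO_act : iO a ≫ a.act = snd G X := by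
  unfold iO
  calc lift (fst G X)⁻¹ a.act ≫ a.act
      = lift (fst G X)⁻¹ (lift (fst G X) (snd G X) ≫ a.act) ≫ a.act := by
        rw [lift_fst_snd, Category.id_comp]
    _ = snd G X := by rw [← lift_mul_act, inv_mul_cancel, lift_one_act]

theorem cmp_iO (α : T ⟶ G ⊗ X) : cmp α (α ≫ iO a) = α ≫ a.act ≫ eO := by
  apply CartesianMonoidalCategory.hom_ext
  · rw [cmp_fst, Category.assoc, iO_fst, GrpObj.comp_inv, mul_inv_cancel, Category.assoc,
      Category.assoc, eO_fst, MonObj.comp_one, MonObj.comp_one]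
  · rw [cmp_snd, Category.assoc, iO_snd, Category.assoc, Category.assoc, eO_snd, Category.comp_id]

theorem iO_cmp (α : T ⟶ G ⊗ X) : cmp (α ≫ iO a) α = α ≫ snd G X ≫ eO := by
  apply CartesianMonoidalCategory.hom_ext
  · rw [cmp_fst, Category.assoc, iO_fst, GrpObj.comp_inv, inv_mul_cancel, Category.assoc,
      Category.assoc, eO_fst, MonObj.comp_one, MonObj.comp_one]
  · rw [cmp_snd, Category.assoc, Category.assoc, eO_snd, Category.comp_id]

end OverLevel

section SchemeLevel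

/-- a `T`-point as a morphism over `S`. -/
abbrev pt {Z : Over S} {T : Scheme.{u}} (π : T ⟶ S) (α : T ⟶ Z.left) (h : α ≫ Z.hom = π) :
    Over.mk π ⟶ Z := Over.homMk α h

/-- the fibre product `R ×_{s,U,t} R` as an object over `S`. -/
noncomputable abbrev PO : Over S :=
  Over.mk (pullback.fst (snd G X).left a.act.left ≫ (G ⊗ X).hom)

/-- first projection. -/
noncomputable def π₁ : PO a ⟶ G ⊗ X := Over.homMk (pullback.fst _ _) rfl

/-- second projection. -/
noncomputable def π₂ : PO a ⟶ G ⊗ X := Over.homMk (pullback.snd _ _) (by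
  show pullback.snd (snd G X).left a.act.left ≫ (G ⊗ X).hom = pullback.fst _ _ ≫ (G ⊗ X).hom
  calc pullback.snd (snd G X).left a.act.left ≫ (G ⊗ X).hom
      = pullback.snd (snd G X).left a.act.left ≫ a.act.left ≫ X.hom := by rw [Over.w a.act]
    _ = pullback.fst (snd G X).left a.act.left ≫ (snd G X).left ≫ X.hom := by
        rw [← Category.assoc, ← pullback.condition, Category.assoc]
    _ = pullback.fst (snd G X).left a.act.left ≫ (G ⊗ X).hom := by rw [Over.w (snd G X)])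

/-- the composition. -/
noncomputable def cO : PO a ⟶ G ⊗ X := cmp (π₁ a) (π₂ a)

theorem lift_cO' {T : Scheme.{u}} (π : T ⟶ S) (α' β' : Over.mk π ⟶ G ⊗ X)
    (h : α'.left ≫ (snd G X).left = β'.left ≫ a.act.left) :
    pullback.lift α'.left β'.left h ≫ (cO a).left = (cmp α' β').left := by
  let l : Over.mk π ⟶ PO a := Over.homMk (pullback.lift α'.left β'.left h) (by
    show pullback.lift α'.left β'.left h ≫ pullback.fst _ _ ≫ (G ⊗ X).hom = π
    rw [pullback.lift_fst_assoc]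
    exact Over.w α')
  have h1 : l ≫ π₁ a = α' := by
    apply Over.OverMorphism.ext
    exact pullback.lift_fst _ _ _
  have h2 : l ≫ π₂ a = β' := by
    apply Over.OverMorphism.ext
    exact pullback.lift_snd _ _ _
  have h3 : l ≫ cO a = cmp α' β' := by
    rw [cO, comp_cmp, h1, h2]
  exact congrArg (fun φ => Over.Hom.left φ) h3

theorem lift_cO {T : Scheme.{u}} (π : T ⟶ S) (α' β' : Over.mk π ⟶ G ⊗ X)
    (f g : T ⟶ (G ⊗ X).left) (hf : f = α'.left) (hg : g = β'.left)
    (h : f ≫ (snd G X).left = g ≫ a.act.left) :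
    pullback.lift f g h ≫ (cO a).left = (cmp α' β').left := by
  subst hf hg
  exact lift_cO' a π α' β' h

theorem hom_of_comp_eq {T : Scheme.{u}} (α β : T ⟶ (G ⊗ X).left)
    (h : α ≫ (snd G X).left = β ≫ a.act.left) : β ≫ (G ⊗ X).hom = α ≫ (G ⊗ X).hom := by
  calc β ≫ (G ⊗ X).hom = β ≫ a.act.left ≫ X.hom := by rw [Over.w a.act]
    _ = α ≫ (snd G X).left ≫ X.hom := by rw [← Category.assoc, ← h, Category.assoc]
    _ = α ≫ (G ⊗ X).hom := by rw [Over.w (snd G X)]

/-- the action groupoid. -/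
noncomputable def actGrpd : Grpd.GroupoidScheme S where
  U := X.left
  R := (G ⊗ X).left
  pU := X.hom
  pR := (G ⊗ X).hom
  s := (snd G X).left
  t := a.act.left
  e := (eO : X ⟶ G ⊗ X).left
  i := (iO a).left
  c := (cO a).left
  s_over := Over.w _
  t_over := Over.w _
  comp_s := fun {T} α β h => by
    rw [lift_cO a (α ≫ (G ⊗ X).hom) (pt _ α rfl) (pt _ β (hom_of_comp_eq a α β h)) α β rfl rfl h]
    exact congrArg (fun φ => Over.Hom.left φ) (cmp_snd _ _)
  comp_t := fun {T} α β h => by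
    rw [lift_cO a (α ≫ (G ⊗ X).hom) (pt _ α rfl) (pt _ β (hom_of_comp_eq a α β h)) α β rfl rfl h]
    refine congrArg (fun φ => Over.Hom.left φ) (cmp_act a _ _ ?_)
    apply Over.OverMorphism.ext
    exact h
  assoc := fun {T} α β c3 h₁ h₂ => by
    have hβ := hom_of_comp_eq a α β h₁
    have hγ : c3 ≫ (G ⊗ X).hom = α ≫ (G ⊗ X).hom := (hom_of_comp_eq a β c3 h₂).trans hβ
    have e1 := lift_cO a (α ≫ (G ⊗ X).hom) (pt _ α rfl) (pt _ β hβ) α β rfl rfl h₁
    have e2 := lift_cO a (α ≫ (G ⊗ X).hom) (pt _ β hβ) (pt _ c3 hγ) β c3 rfl rfl h₂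
    rw [lift_cO a (α ≫ (G ⊗ X).hom) (cmp (pt _ α rfl) (pt _ β hβ)) (pt _ c3 hγ) _ c3 e1 rfl,
      lift_cO a (α ≫ (G ⊗ X).hom) (pt _ α rfl) (cmp (pt _ β hβ) (pt _ c3 hγ)) α _ rfl e2,
      cmp_assoc]
  e_s := congrArg (fun φ => Over.Hom.left φ) (eO_snd (G := G) (X := X))
  e_t := congrArg (fun φ => Over.Hom.left φ) (eO_act a)
  comp_e := fun {T} α => by
    rw [lift_cO a (α ≫ (G ⊗ X).hom) (pt _ α rfl) (pt _ α rfl ≫ snd G X ≫ eO) α
      (α ≫ (snd G X).left ≫ (eO : X ⟶ G ⊗ X).left) rfl rfl,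
      cmp_eO]
    rfl
  e_comp := fun {T} α => by
    rw [lift_cO a (α ≫ (G ⊗ X).hom) (pt _ α rfl ≫ a.act ≫ eO) (pt _ α rfl)
      (α ≫ a.act.left ≫ (eO : X ⟶ G ⊗ X).left) α rfl rfl,
      eO_cmp]
    rfl
  i_s := congrArg (fun φ => Over.Hom.left φ) (iO_snd a)
  i_t := congrArg (fun φ => Over.Hom.left φ) (iO_act a)
  comp_i := fun {T} α => by
    rw [lift_cO a (α ≫ (G ⊗ X).hom) (pt _ α rfl) (pt _ α rfl ≫ iO a) α (α ≫ (iO a).left)
      rfl rfl, cmp_iO]
    rfl
  i_comp := fun {T} α => by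
    rw [lift_cO a (α ≫ (G ⊗ X).hom) (pt _ α rfl ≫ iO a) (pt _ α rfl) (α ≫ (iO a).left) α
      rfl rfl, iO_cmp]
    rfl

end SchemeLevel

end Groth.Agent.Lib.H5bAct
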