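import Mathlib

/-!
# Descent of morphisms along surjective scheme-theoretically dominant quasi-compact morphisms (helper5)

* `epi_pullback_snd`: a flat base change of a surjective, scheme-theoretically dominant, quasi-compact
  morphism is an epimorphism of schemes.
* `exists_desc_of_local`: local factorisations through `ξ` over opens covering `V` glue.
-/

set_option autoImplicit false
set_option linter.style.haveILetI false
set_option linter.unusedSectionVars false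
set_option linter.unusedSimpArgs false
universe u

open CategoryTheory CategoryTheory.Limits AlgebraicGeometry

namespace Groth.Agent.Lib.H5bGQ

variable {X S : Scheme.{u}} (ξ : X ⟶ S) [Surjective ξ] [IsSchemeTheoreticallyDominant ξ]
  [QuasiCompact ξ]

set_option backward.isDefEq.respectTransparency false in
theorem injective_appTop_restrict' {P Q : Scheme.{u}} (g : P ⟶ Q)
    (hg : ∀ V : Q.Opens, Function.Injective (g.app V).hom) (W : Q.Opens) :
    Function.Injective (g ∣_ W).appTop.hom := by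
  rw [morphismRestrict_appTop]
  have h2 : Function.Injective
      (P.presheaf.map (eqToHom (image_morphismRestrict_preimage g W ⊤)).op).hom :=
    ((ConcreteCategory.isIso_iff_bijective _).mp inferInstance).1
  exact h2.comp (hg _)

/-- a surjective morphism with injective comorphisms is an epimorphism of schemes
(same argument as helper9's `H9RigH.eq_of_comp_eq`, restated here to avoid a heavy import). -/
theorem eq_of_comp_eq' {P Q Y : Scheme.{u}} (g : P ⟶ Q) [Surjective g]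
    (hg : ∀ V : Q.Opens, Function.Injective (g.app V).hom) (a b : Q ⟶ Y)
    (h : g ≫ a = g ≫ b) : a = b := by
  have hbase : ∀ t : Q, a t = b t := by
    intro t
    obtain ⟨x, rfl⟩ := g.surjective t
    rw [← Scheme.Hom.comp_apply, ← Scheme.Hom.comp_apply, h]
  have hcov : TopologicalSpace.IsOpenCover (fun V : Y.affineOpens => a ⁻¹ᵁ V.1) := by
    refine top_le_iff.mp ?_
    intro t _
    obtain ⟨_, ⟨V, hV, rfl⟩, htV, -⟩ :=
      (Y.isBasis_affineOpens).exists_subset_of_mem_open (Set.mem_univ (a t)) isOpen_univ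
    exact TopologicalSpace.Opens.mem_iSup.mpr ⟨⟨V, hV⟩, htV⟩
  refine (Q.openCoverOfIsOpenCover _ hcov).hom_ext _ _ fun V => ?_
  set W : Q.Opens := a ⁻¹ᵁ V.1 with hW
  show W.ι ≫ a = W.ι ≫ b
  have hra : Set.range (W.ι ≫ a) ⊆ Set.range V.1.ι := by
    rintro _ ⟨t, rfl⟩
    rw [Scheme.Opens.range_ι]
    exact t.2
  have hrb : Set.range (W.ι ≫ b) ⊆ Set.range V.1.ι := by
    rintro _ ⟨t, rfl⟩
    rw [Scheme.Opens.range_ι, Scheme.Hom.comp_apply, ← hbase]
    exact t.2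
  let aV := IsOpenImmersion.lift V.1.ι (W.ι ≫ a) hra
  let bV := IsOpenImmersion.lift V.1.ι (W.ι ≫ b) hrb
  have haV : aV ≫ V.1.ι = W.ι ≫ a := IsOpenImmersion.lift_fac _ _ _
  have hbV : bV ≫ V.1.ι = W.ι ≫ b := IsOpenImmersion.lift_fac _ _ _
  haveI : IsAffine (V.1 : Scheme.{u}) := V.2
  have hab : aV = bV := by
    apply ext_of_isAffine
    have h1 : (g ∣_ W) ≫ aV = (g ∣_ W) ≫ bV := by
      rw [← cancel_mono V.1.ι, Category.assoc, Category.assoc, haV, hbV,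
        ← Category.assoc, ← Category.assoc, morphismRestrict_ι, Category.assoc, Category.assoc, h]
    have h2 := congr(($h1).appTop)
    rw [Scheme.Hom.comp_appTop, Scheme.Hom.comp_appTop] at h2
    ext z
    exact injective_appTop_restrict' g hg W congr($(h2).hom z)
  rw [← haV, ← hbV, hab]

theorem eq_of_comp_eq {Z : Scheme.{u}} (a b : S ⟶ Z) (h : ξ ≫ a = ξ ≫ b) : a = b :=
  eq_of_comp_eq' ξ (fun V => ξ.app_injective V) a b h

/-- flat base changes of `ξ` are epimorphisms. -/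
theorem epi_pullback_snd {P Z : Scheme.{u}} (g : P ⟶ S) [Flat g] (a b : P ⟶ Z)
    (h : pullback.snd ξ g ≫ a = pullback.snd ξ g ≫ b) : a = b :=
  eq_of_comp_eq (pullback.snd ξ g) a b h

theorem morphismRestrict_homOfLE {W V : S.Opens} (hWV : W ≤ V) :
    (ξ ∣_ W) ≫ S.homOfLE hWV =
      X.homOfLE (show ξ ⁻¹ᵁ W ≤ ξ ⁻¹ᵁ V from fun _ hx => hWV hx) ≫ (ξ ∣_ V) := by
  rw [← cancel_mono V.ι, Category.assoc, Category.assoc, Scheme.homOfLE_ι, morphismRestrict_ι,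
    morphismRestrict_ι, ← Category.assoc, Scheme.homOfLE_ι]

/-- gluing local factorisations. -/
theorem exists_desc_of_local {Z : Scheme.{u}} (V : S.Opens) (h : (ξ ⁻¹ᵁ V).toScheme ⟶ Z)
    (hloc : ∀ y ∈ V, ∃ (W : S.Opens) (hWV : W ≤ V) (k : W.toScheme ⟶ Z), y ∈ W ∧
      X.homOfLE (show ξ ⁻¹ᵁ W ≤ ξ ⁻¹ᵁ V from fun _ hx => hWV hx) ≫ h = (ξ ∣_ W) ≫ k) :
    ∃ k : V.toScheme ⟶ Z, (ξ ∣_ V) ≫ k = h := by
  choose W hWV k hmem hfac using fun y' : V.toScheme => hloc y'.1 y'.2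
  let 𝒰 : V.toScheme.OpenCover := Scheme.Cover.mkOfCovers V.toScheme
    (fun i => (W i).toScheme) (fun i => S.homOfLE (hWV i)) (fun y' => by
      refine ⟨y', ⟨y'.1, hmem y'⟩, ?_⟩
      apply Subtype.ext
      have := congrArg (fun φ : (W y').toScheme ⟶ S => φ ⟨y'.1, hmem y'⟩)
        (Scheme.homOfLE_ι S (hWV y'))
      simpa [Scheme.Hom.comp_apply] using this)
  -- key: any point of `X` over `W i` computes `k i` through `h`
  have key : ∀ (i : V.toScheme) {Q : Scheme.{u}} (q : Q ⟶ X) (c : Q ⟶ (W i).toScheme)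
      (hqc : q ≫ ξ = c ≫ (W i).ι) (l : Q ⟶ (ξ ⁻¹ᵁ V).toScheme) (hl : l ≫ (ξ ⁻¹ᵁ V).ι = q),
      c ≫ k i = l ≫ h := by
    intro i Q q c hqc l hl
    have hr : Set.range q ⊆ Set.range (ξ ⁻¹ᵁ W i).ι := by
      rintro _ ⟨z, rfl⟩
      rw [Scheme.Opens.range_ι]
      show ξ (q z) ∈ W i
      rw [← Scheme.Hom.comp_apply, hqc, Scheme.Hom.comp_apply]
      exact (c z).2
    let li := IsOpenImmersion.lift (ξ ⁻¹ᵁ W i).ι q hr
    have hli : li ≫ (ξ ⁻¹ᵁ W i).ι = q := IsOpenImmersion.lift_fac _ _ _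
    have h1 : li ≫ (ξ ∣_ W i) = c := by
      rw [← cancel_mono (W i).ι, Category.assoc, morphismRestrict_ι, reassoc_of% hli, hqc]
    have h2 : li ≫ X.homOfLE (show ξ ⁻¹ᵁ W i ≤ ξ ⁻¹ᵁ V from fun _ hx => hWV i hx) = l := by
      rw [← cancel_mono (ξ ⁻¹ᵁ V).ι, Category.assoc, Scheme.homOfLE_ι, hli, hl]
    rw [← h1, Category.assoc, ← hfac i, ← Category.assoc, h2]
  have hcompat : ∀ i j : V.toScheme,
      pullback.fst (𝒰.f i) (𝒰.f j) ≫ k i = pullback.snd (𝒰.f i) (𝒰.f j) ≫ k j := by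
    intro i j
    let g : pullback (𝒰.f i) (𝒰.f j) ⟶ S := pullback.fst (𝒰.f i) (𝒰.f j) ≫ 𝒰.f i ≫ V.ι
    haveI : IsOpenImmersion g := by
      have : IsOpenImmersion (𝒰.f i) := inferInstanceAs (IsOpenImmersion (S.homOfLE (hWV i)))
      have : IsOpenImmersion (𝒰.f j) := inferInstanceAs (IsOpenImmersion (S.homOfLE (hWV j)))
      infer_instance
    apply epi_pullback_snd ξ g
    have hq : pullback.fst ξ g ≫ ξ = pullback.snd ξ g ≫ g := pullback.condition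
    have hr : Set.range (pullback.fst ξ g) ⊆ Set.range (ξ ⁻¹ᵁ V).ι := by
      rintro _ ⟨z, rfl⟩
      rw [Scheme.Opens.range_ι]
      show ξ (pullback.fst ξ g z) ∈ V
      rw [← Scheme.Hom.comp_apply, hq]
      simp only [g, Scheme.Hom.comp_apply]
      exact ((𝒰.f i) _).2
    let l := IsOpenImmersion.lift (ξ ⁻¹ᵁ V).ι (pullback.fst ξ g) hr
    have hl : l ≫ (ξ ⁻¹ᵁ V).ι = pullback.fst ξ g := IsOpenImmersion.lift_fac _ _ _
    have e1 := key i (pullback.fst ξ g) (pullback.snd ξ g ≫ pullback.fst (𝒰.f i) (𝒰.f j)) (by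
      rw [hq, Category.assoc]
      show _ = _ ≫ _ ≫ (W i).ι
      rw [← Scheme.homOfLE_ι S (hWV i)]
      rfl) l hl
    have e2 := key j (pullback.fst ξ g) (pullback.snd ξ g ≫ pullback.snd (𝒰.f i) (𝒰.f j)) (by
      rw [hq, Category.assoc]
      show _ = _ ≫ _ ≫ (W j).ι
      rw [← Scheme.homOfLE_ι S (hWV j)]
      show pullback.snd ξ g ≫ pullback.fst (𝒰.f i) (𝒰.f j) ≫ 𝒰.f i ≫ V.ι =
        pullback.snd ξ g ≫ pullback.snd (𝒰.f i) (𝒰.f j) ≫ 𝒰.f j ≫ V.ι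
      rw [pullback.condition_assoc]) l hl
    rw [Category.assoc] at e1 e2
    exact e1.trans e2.symm
  refine ⟨𝒰.glueMorphisms k hcompat, ?_⟩
  apply Scheme.hom_ext_of_forall
  intro x
  let y' : V.toScheme := (ξ ∣_ V) x
  refine ⟨(ξ ⁻¹ᵁ V).ι ⁻¹ᵁ (ξ ⁻¹ᵁ W y'), ?_, ?_⟩
  · show ξ x.1 ∈ W y'
    have : ((ξ ∣_ V) x).1 = ξ x.1 := by simp
    rw [← this]
    exact hmem y'
  · set O : (ξ ⁻¹ᵁ V).toScheme.Opens := (ξ ⁻¹ᵁ V).ι ⁻¹ᵁ (ξ ⁻¹ᵁ W y') with hO
    have hr : Set.range (O.ι ≫ (ξ ⁻¹ᵁ V).ι) ⊆ Set.range (ξ ⁻¹ᵁ W y').ι := by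
      rintro _ ⟨z, rfl⟩
      rw [Scheme.Opens.range_ι]
      exact z.2
    let li := IsOpenImmersion.lift (ξ ⁻¹ᵁ W y').ι (O.ι ≫ (ξ ⁻¹ᵁ V).ι) hr
    have hli : li ≫ (ξ ⁻¹ᵁ W y').ι = O.ι ≫ (ξ ⁻¹ᵁ V).ι := IsOpenImmersion.lift_fac _ _ _
    have h1 := key y' (O.ι ≫ (ξ ⁻¹ᵁ V).ι) (li ≫ (ξ ∣_ W y')) (by
      simp only [Category.assoc, morphismRestrict_ι]
      rw [reassoc_of% hli]) O.ι rfl
    rw [← h1]
    have h2 : O.ι ≫ (ξ ∣_ V) = (li ≫ (ξ ∣_ W y')) ≫ 𝒰.f y' := by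
      show O.ι ≫ (ξ ∣_ V) = (li ≫ (ξ ∣_ W y')) ≫ S.homOfLE (hWV y')
      rw [← cancel_mono V.ι]
      simp only [Category.assoc, Scheme.homOfLE_ι, morphismRestrict_ι]
      rw [reassoc_of% hli]
    have h3 : 𝒰.f y' ≫ 𝒰.glueMorphisms k hcompat = k y' := 𝒰.ι_glueMorphisms k hcompat y'
    rw [reassoc_of% h2]
    exact (congrArg (fun t => li ≫ (ξ ∣_ W y') ≫ t) h3).trans (Category.assoc _ _ _).symm

end Groth.Agent.Lib.H5bGQ
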