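import Mathlib
import Groth.Prelude.Def_Grpd
import Groth.Agent.S1880

/-!
# Abstract ring groupoids (helper5)

`RG C A B D`: the ring-level data of an affine groupoid scheme `(U = Spec A, R = Spec B,
R ×_{s,U,t} R = Spec D)` linear over a base ring `C` (mapping into the invariants), with
`s = Spec σ` finite locally free.  Base change along `C → C'` (`RG.baseChange`), and the ring groupoid
of an affine groupoid scheme over its ring of invariants (`RG.ofG`).
-/

set_option autoImplicit false
set_option linter.style.haveILetI false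
set_option linter.unusedSectionVars false
universe u

open CategoryTheory CategoryTheory.Limits TensorProduct

namespace Groth.Agent.Lib.H5bRG

/-- ring groupoid data over `C`. -/
structure RG (C A B D : Type u) [CommRing C] [CommRing A] [CommRing B] [CommRing D]
    [Algebra C A] [Algebra C B] [Algebra C D] where
  σ : A →ₐ[C] B
  τ : A →ₐ[C] B
  ε : B →ₐ[C] A
  p0 : B →ₐ[C] D
  p1 : B →ₐ[C] D
  c : B →ₐ[C] D
  hεσ : ∀ a, ε (σ a) = a
  hετ : ∀ a, ε (τ a) = a
  hcτ : ∀ a, c (τ a) = p0 (τ a)
  hcσ : ∀ a, c (σ a) = p1 (σ a)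
  hp : ∀ a, p0 (σ a) = p1 (τ a)
  po1 : IsPushout (CommRingCat.ofHom (σ : A →+* B)) (CommRingCat.ofHom (τ : A →+* B))
      (CommRingCat.ofHom (p0 : B →+* D)) (CommRingCat.ofHom (p1 : B →+* D))
  po2 : IsPushout (CommRingCat.ofHom (σ : A →+* B)) (CommRingCat.ofHom (σ : A →+* B))
      (CommRingCat.ofHom (c : B →+* D)) (CommRingCat.ofHom (p1 : B →+* D))
  fin : (σ : A →+* B).Finite
  flat : (σ : A →+* B).Flat
  fp : (σ : A →+* B).FinitePresentation

section BaseChange

variable {C : Type u} [CommRing C] (C' : Type u) [CommRing C'] [Algebra C C']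

/-- base change of a `C`-algebra map. -/
noncomputable abbrev bc {A B : Type u} [CommRing A] [CommRing B] [Algebra C A] [Algebra C B]
    (f : A →ₐ[C] B) : C' ⊗[C] A →ₐ[C'] C' ⊗[C] B :=
  Algebra.TensorProduct.map (AlgHom.id C' C') f

/-- the inclusion `A → C' ⊗ A` as a ring hom. -/
noncomputable abbrev incl (A : Type u) [CommRing A] [Algebra C A] : A →+* C' ⊗[C] A :=
  (Algebra.TensorProduct.includeRight : A →ₐ[C] C' ⊗[C] A)

theorem bc_incl {A B : Type u} [CommRing A] [CommRing B] [Algebra C A] [Algebra C B]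
    (f : A →ₐ[C] B) (a : A) : bc C' f (incl C' A a) = incl C' B (f a) := by
  simp [bc, incl]

/-- BC1: the base change square of a `C`-algebra map is a pushout. -/
theorem isPushout_bc {A B : Type u} [CommRing A] [CommRing B] [Algebra C A] [Algebra C B]
    (f : A →ₐ[C] B) :
    IsPushout (CommRingCat.ofHom (f : A →+* B)) (CommRingCat.ofHom (incl C' A))
      (CommRingCat.ofHom (incl C' B)) (CommRingCat.ofHom (bc C' f : C' ⊗[C] A →+* C' ⊗[C] B)) := by
  have H1 := (CommRingCat.isPushout_tensorProduct C C' A).flip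
  have H2 := (CommRingCat.isPushout_tensorProduct C C' B).flip
  have e1 : CommRingCat.ofHom (algebraMap C B) =
      CommRingCat.ofHom (algebraMap C A) ≫ CommRingCat.ofHom (f : A →+* B) := by
    ext x
    simp
  have e2 : CommRingCat.ofHom (S := C' ⊗[C] B) Algebra.TensorProduct.includeLeftRingHom =
      CommRingCat.ofHom (S := C' ⊗[C] A) Algebra.TensorProduct.includeLeftRingHom ≫
        CommRingCat.ofHom (bc C' f : C' ⊗[C] A →+* C' ⊗[C] B) := by
    ext x
    simp [bc]
  rw [e1, e2] at H2
  refine IsPushout.of_left H2 ?_ H1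
  ext x
  simp [bc, incl]

/-- BC2: base change preserves pushout squares of `C`-algebras. -/
theorem isPushout_bc_of_isPushout {A B₁ B₂ D : Type u} [CommRing A] [CommRing B₁] [CommRing B₂]
    [CommRing D] [Algebra C A] [Algebra C B₁] [Algebra C B₂] [Algebra C D]
    (f : A →ₐ[C] B₁) (g : A →ₐ[C] B₂) (k : B₁ →ₐ[C] D) (l : B₂ →ₐ[C] D)
    (h : IsPushout (CommRingCat.ofHom (f : A →+* B₁)) (CommRingCat.ofHom (g : A →+* B₂))
      (CommRingCat.ofHom (k : B₁ →+* D)) (CommRingCat.ofHom (l : B₂ →+* D))) :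
    IsPushout (CommRingCat.ofHom (bc C' f : C' ⊗[C] A →+* C' ⊗[C] B₁))
      (CommRingCat.ofHom (bc C' g : C' ⊗[C] A →+* C' ⊗[C] B₂))
      (CommRingCat.ofHom (bc C' k : C' ⊗[C] B₁ →+* C' ⊗[C] D))
      (CommRingCat.ofHom (bc C' l : C' ⊗[C] B₂ →+* C' ⊗[C] D)) := by
  have hk := isPushout_bc C' k
  have hg := isPushout_bc C' g
  have h1 := h.flip.paste_vert hk
  have e1 : CommRingCat.ofHom (f : A →+* B₁) ≫ CommRingCat.ofHom (incl C' B₁) =
      CommRingCat.ofHom (incl C' A) ≫
        CommRingCat.ofHom (bc C' f : C' ⊗[C] A →+* C' ⊗[C] B₁) := by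
    ext x
    simp [bc, incl]
  have e2 : CommRingCat.ofHom (l : B₂ →+* D) ≫ CommRingCat.ofHom (incl C' D) =
      CommRingCat.ofHom (incl C' B₂) ≫
        CommRingCat.ofHom (bc C' l : C' ⊗[C] B₂ →+* C' ⊗[C] D) := by
    ext x
    simp [bc, incl]
  rw [e1, e2] at h1
  refine (IsPushout.of_top h1 ?_ hg).flip
  have h3 := congrArg (fun φ => φ.hom) h.w
  have h4 : ∀ a, k (f a) = l (g a) := fun a => by
    have := DFunLike.congr_fun h3 a
    simpa using this
  ext x
  · simp [bc]
  · simp [bc, h4]

/-- ring hom properties stable under base change pass to `bc`. -/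
theorem bc_property {P : ∀ {R S : Type u} [CommRing R] [CommRing S], (R →+* S) → Prop}
    (hP : RingHom.IsStableUnderBaseChange @P)
    {A B : Type u} [CommRing A] [CommRing B] [Algebra C A] [Algebra C B]
    (f : A →ₐ[C] B) (hf : P (f : A →+* B)) : P (bc C' f : C' ⊗[C] A →+* C' ⊗[C] B) := by
  have := (RingHom.isStableUnderCobaseChange_toMorphismProperty_iff (P := @P)).mpr hP
  exact MorphismProperty.of_isPushout (P := RingHom.toMorphismProperty @P)
    (isPushout_bc C' f).flip hf

end BaseChange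

namespace RG

variable {C A B D : Type u} [CommRing C] [CommRing A] [CommRing B] [CommRing D]
  [Algebra C A] [Algebra C B] [Algebra C D]

/-- base change of a ring groupoid along `C → C'`. -/
noncomputable def baseChange (h : RG C A B D) (C' : Type u) [CommRing C'] [Algebra C C'] :
    RG C' (C' ⊗[C] A) (C' ⊗[C] B) (C' ⊗[C] D) where
  σ := bc C' h.σ
  τ := bc C' h.τ
  ε := bc C' h.ε
  p0 := bc C' h.p0
  p1 := bc C' h.p1
  c := bc C' h.c
  hεσ := by
    have : (bc C' h.ε).comp (bc C' h.σ) = AlgHom.id C' _ := by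
      ext a
      simp [bc, h.hεσ]
    exact fun a => DFunLike.congr_fun this a
  hετ := by
    have : (bc C' h.ε).comp (bc C' h.τ) = AlgHom.id C' _ := by
      ext a
      simp [bc, h.hετ]
    exact fun a => DFunLike.congr_fun this a
  hcτ := by
    have : (bc C' h.c).comp (bc C' h.τ) = (bc C' h.p0).comp (bc C' h.τ) := by
      ext a
      simp [bc, h.hcτ]
    exact fun a => DFunLike.congr_fun this a
  hcσ := by
    have : (bc C' h.c).comp (bc C' h.σ) = (bc C' h.p1).comp (bc C' h.σ) := by
      ext a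
      simp [bc, h.hcσ]
    exact fun a => DFunLike.congr_fun this a
  hp := by
    have : (bc C' h.p0).comp (bc C' h.σ) = (bc C' h.p1).comp (bc C' h.τ) := by
      ext a
      simp [bc, h.hp]
    exact fun a => DFunLike.congr_fun this a
  po1 := isPushout_bc_of_isPushout C' h.σ h.τ h.p0 h.p1 h.po1
  po2 := isPushout_bc_of_isPushout C' h.σ h.σ h.c h.p1 h.po2
  fin := bc_property C' RingHom.finite_isStableUnderBaseChange h.σ h.fin
  flat := bc_property C' RingHom.Flat.isStableUnderBaseChange h.σ h.flat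
  fp := bc_property C' RingHom.finitePresentation_isStableUnderBaseChange h.σ h.fp

@[simp] theorem baseChange_σ (h : RG C A B D) (C' : Type u) [CommRing C'] [Algebra C C'] :
    (h.baseChange C').σ = bc C' h.σ := rfl
@[simp] theorem baseChange_τ (h : RG C A B D) (C' : Type u) [CommRing C'] [Algebra C C'] :
    (h.baseChange C').τ = bc C' h.τ := rfl
@[simp] theorem baseChange_ε (h : RG C A B D) (C' : Type u) [CommRing C'] [Algebra C C'] :
    (h.baseChange C').ε = bc C' h.ε := rfl

/-- `C` is exactly the ring of invariants. -/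
structure IsExact (h : RG C A B D) : Prop where
  inj : Function.Injective (algebraMap C A)
  inv : ∀ a, h.σ a = h.τ a → a ∈ Set.range (algebraMap C A)

/-- the comparison map `A ⊗[C] A → B`, `a ⊗ a' ↦ τ a * σ a'`. -/
noncomputable def φ (h : RG C A B D) : A ⊗[C] A →ₐ[C] B :=
  Algebra.TensorProduct.productMap h.τ h.σ

@[simp] theorem φ_tmul (h : RG C A B D) (a a' : A) : h.φ (a ⊗ₜ a') = h.τ a * h.σ a' := by
  simp [φ]

/-- `B` is generated by `τ(A)` and `σ(A)`: `j` is a closed immersion. -/
def IsGen (h : RG C A B D) : Prop := Function.Surjective h.φ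

theorem IsGen.baseChange {h : RG C A B D} (hg : h.IsGen) (C' : Type u) [CommRing C']
    [Algebra C C'] : (h.baseChange C').IsGen := by
  intro x
  induction x using TensorProduct.induction_on with
  | zero => exact ⟨0, map_zero _⟩
  | add x y hx hy =>
    obtain ⟨x', rfl⟩ := hx
    obtain ⟨y', rfl⟩ := hy
    exact ⟨x' + y', map_add _ _ _⟩
  | tmul c b =>
    obtain ⟨z, rfl⟩ := hg b
    induction z using TensorProduct.induction_on with
    | zero => exact ⟨0, by simp⟩
    | add x y hx hy =>
      obtain ⟨x', hx'⟩ := hx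
      obtain ⟨y', hy'⟩ := hy
      exact ⟨x' + y', by rw [map_add, hx', hy', map_add, TensorProduct.tmul_add]⟩
    | tmul a a' =>
      refine ⟨(c ⊗ₜ a) ⊗ₜ (1 ⊗ₜ a'), ?_⟩
      simp [bc]

end RG

end Groth.Agent.Lib.H5bRG
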