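import Mathlib
import Groth.Agent.Lib.H5bRG
import Groth.Agent.Lib.Helper2RetCharpoly

/-!
# Characteristic polynomials, integrality and norms for ring groupoids (helper5)
-/

set_option autoImplicit false
set_option linter.style.haveILetI false
set_option linter.unusedSectionVars false
set_option linter.unusedSimpArgs false
universe u

open CategoryTheory CategoryTheory.Limits TensorProduct Polynomial
open Groth.Agent.Lib.Helper2.RetCharpoly

namespace Groth.Agent.Lib.H5bRG

section N1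
variable {R S : Type*} [CommRing R] [CommRing S] [Algebra R S] {n : ℕ}

/-- the endomorphism `i ∘ m_v ∘ p + (1 - i ∘ p)` of `R^n`. -/
noncomputable def Ret.E (r : Ret R S n) (v : S) : (Fin n → R) →ₗ[R] (Fin n → R) :=
  r.i ∘ₗ (Algebra.lmul R S v) ∘ₗ r.p + (LinearMap.id - r.i ∘ₗ r.p)

theorem Ret.E_mul (r : Ret R S n) (v w : S) : Ret.E r v ∘ₗ Ret.E r w = Ret.E r (v * w) := by
  ext x j
  simp only [Ret.E, LinearMap.comp_apply, LinearMap.add_apply, LinearMap.sub_apply,
    LinearMap.id_apply, map_add, map_sub, r.pi_apply, Algebra.coe_lmul_eq_mul,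
    LinearMap.mul_apply']
  simp [mul_assoc]

theorem Ret.E_one (r : Ret R S n) : Ret.E r 1 = LinearMap.id := by
  ext x j
  simp [Ret.E]

theorem isUnit_eval_neg_one {u : S} {χ : R[X]} (hχ : IsRCP R S n (u - 1) χ) (hu : IsUnit u) :
    IsUnit (χ.eval (-1)) := by
  obtain ⟨r, rfl⟩ := hχ
  obtain ⟨v, hv⟩ := hu.exists_right_inv
  have h1 : Ret.E r u ∘ₗ Ret.E r v = LinearMap.id := by rw [Ret.E_mul, hv, Ret.E_one]
  have h2 : LinearMap.det (Ret.E r u) * LinearMap.det (Ret.E r v) = 1 := by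
    rw [← LinearMap.det_comp, h1, LinearMap.det_id]
  have h3 : IsUnit (LinearMap.det (Ret.E r u)) := IsUnit.of_mul_eq_one _ h2
  have h4 : Ret.E r u = LinearMap.id + r.endo (Algebra.lmul R S (u - 1)) := by
    ext x j
    simp [Ret.E, Ret.endo, sub_mul]
    ring
  unfold Ret.cp
  rw [Matrix.eval_charpoly]
  have h5 : Matrix.scalar (Fin n) (-1 : R) - LinearMap.toMatrix' (r.endo (Algebra.lmul R S (u - 1))) =
      - LinearMap.toMatrix' (Ret.E r u) := by
    rw [h4, map_add, LinearMap.toMatrix'_id]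
    ext i j
    by_cases hij : i = j
    · subst hij
      simp [Matrix.scalar_apply, Matrix.one_apply]
      ring
    · simp [Matrix.scalar_apply, Matrix.one_apply, hij]
  rw [h5, Matrix.det_neg, LinearMap.det_toMatrix']
  exact (IsUnit.pow _ isUnit_one.neg).mul h3

end N1

namespace RG

variable {C A B D : Type u} [CommRing C] [CommRing A] [CommRing B] [CommRing D]
  [Algebra C A] [Algebra C B] [Algebra C D] (h : RG C A B D)

/-- the invariants subring. -/
def Inv : Subring A := RingHom.eqLocus (h.σ : A →+* B) (h.τ : A →+* B)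

theorem mem_Inv {a : A} : a ∈ h.Inv ↔ h.σ a = h.τ a := Iff.rfl

theorem algebraMap_mem_Inv (c : C) : algebraMap C A c ∈ h.Inv := by
  rw [mem_Inv, AlgHom.commutes, AlgHom.commutes]

theorem projective : letI := (h.σ : A →+* B).toAlgebra; Module.Projective A B := by
  letI := (h.σ : A →+* B).toAlgebra
  have hfin : Module.Finite A B := h.fin
  have hflat : Module.Flat A B := h.flat
  have hfp : Algebra.FinitePresentation A B := h.fp
  have : Module.FinitePresentation A B :=
    Module.FinitePresentation.of_finite_of_finitePresentation _ _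
  exact Module.Flat.projective_of_finitePresentation

theorem exists_isRCP : letI := (h.σ : A →+* B).toAlgebra;
    ∃ n, ∀ b : B, ∃ χ, IsRCP A B n b χ := by
  letI := (h.σ : A →+* B).toAlgebra
  have hfin : Module.Finite A B := h.fin
  have := h.projective
  exact Groth.Agent.Lib.Helper2.RetCharpoly.exists_isRCP _ _

theorem map_cp_eq (n : ℕ) (a : A) (χ : A[X])
    (hχ : letI := (h.σ : A →+* B).toAlgebra; IsRCP A B n (h.τ a) χ) :
    χ.map (h.σ : A →+* B) = χ.map (h.τ : A →+* B) := by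
  have e1 := isRCP_cat h.po1 n (h.τ a) χ hχ
  have e2 := isRCP_cat h.po2 n (h.τ a) χ hχ
  have hc : (CommRingCat.ofHom (h.c : B →+* D)).hom (h.τ a) =
      (CommRingCat.ofHom (h.p0 : B →+* D)).hom (h.τ a) := h.hcτ a
  rw [hc] at e2
  letI := (CommRingCat.ofHom (h.p1 : B →+* D)).hom.toAlgebra
  exact IsRCP.unique e2 e1

theorem coeff_mem_Inv (n : ℕ) (a : A) (χ : A[X])
    (hχ : letI := (h.σ : A →+* B).toAlgebra; IsRCP A B n (h.τ a) χ) (k : ℕ) :
    χ.coeff k ∈ h.Inv := by
  have := congrArg (fun q => q.coeff k) (h.map_cp_eq n a χ hχ)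
  simp only [Polynomial.coeff_map] at this
  exact this

theorem eval_cp (n : ℕ) (a : A) (χ : A[X])
    (hχ : letI := (h.σ : A →+* B).toAlgebra; IsRCP A B n (h.τ a) χ) : χ.eval a = 0 := by
  have h0 : (letI := (h.σ : A →+* B).toAlgebra; aeval (h.τ a) χ) = 0 := by
    letI := (h.σ : A →+* B).toAlgebra
    exact hχ.aeval_eq_zero
  have h2 : eval₂ (h.σ : A →+* B) (h.τ a) χ = 0 := h0
  have h3 := congrArg h.ε h2
  have h3' : (h.ε : B →+* A) (eval₂ (h.σ : A →+* B) (h.τ a) χ) = 0 := by
    rw [h2, map_zero]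
  rw [Polynomial.hom_eval₂] at h3'
  have h4 : (h.ε : B →+* A).comp (h.σ : A →+* B) = RingHom.id _ := RingHom.ext h.hεσ
  have h5 : (h.ε : B →+* A) (h.τ a) = a := h.hετ a
  rw [h4, h5] at h3'
  simpa [Polynomial.eval₂_id] using h3'

theorem eval_mem_Inv {χ : A[X]} (hχ : ∀ k, χ.coeff k ∈ h.Inv) {x : A} (hx : x ∈ h.Inv) :
    χ.eval x ∈ h.Inv := by
  rw [Polynomial.eval_eq_sum_range]
  exact Subring.sum_mem _ fun k _ => Subring.mul_mem _ (hχ k) (Subring.pow_mem _ hx k)

/-- `A` is integral over the invariants. -/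
theorem isIntegral_Inv : Algebra.IsIntegral h.Inv A := by
  obtain ⟨n, hn⟩ := h.exists_isRCP
  constructor
  intro f
  obtain ⟨χ, hχ⟩ := hn (h.τ f)
  have hmonic : χ.Monic := by
    letI := (h.σ : A →+* B).toAlgebra
    exact hχ.monic
  have hsub : (↑χ.coeffs : Set A) ⊆ h.Inv := by
    intro a ha
    obtain ⟨k, -, rfl⟩ := Polynomial.mem_coeffs_iff.mp ha
    exact h.coeff_mem_Inv n f χ hχ k
  refine ⟨χ.toSubring h.Inv hsub, (Polynomial.monic_toSubring _ _ _).mpr hmonic, ?_⟩
  have h5 : (χ.toSubring h.Inv hsub).map (Subring.subtype h.Inv) = χ :=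
    Polynomial.map_toSubring _ _ _
  have h1 : eval₂ (RingHom.id _) f χ = 0 := by
    rw [Polynomial.eval₂_id]; exact h.eval_cp n f χ hχ
  rw [← h5, Polynomial.eval₂_map] at h1
  exact h1

/-- the norm-type invariant: for `f : A` there is an invariant `N ∈ f A` such that whenever `N` lies
in a prime `p₁`, some prime `q` of `B` over `p₁` (through `σ`) contains `τ f`. -/
theorem exists_norm (f : A) : ∃ N : A, N ∈ h.Inv ∧ f ∣ N ∧
    ∀ (p₁ : Ideal A) [p₁.IsPrime], N ∈ p₁ →
      ∃ q : Ideal B, q.IsPrime ∧ q.comap (h.σ : A →+* B) = p₁ ∧ h.τ f ∈ q := by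
  obtain ⟨n, hn⟩ := h.exists_isRCP
  obtain ⟨χ, hχ⟩ := hn (h.τ (f - 1))
  refine ⟨χ.eval (-1), ?_, ?_, ?_⟩
  · exact h.eval_mem_Inv (h.coeff_mem_Inv n _ χ hχ) (Subring.neg_mem _ (Subring.one_mem _))
  · have h1 := Polynomial.sub_dvd_eval_sub (-1) (f - 1) χ
    rw [h.eval_cp n _ χ hχ, sub_zero] at h1
    have h2 : (-1 : A) - (f - 1) = -f := by ring
    rw [h2] at h1
    exact (neg_dvd).mp h1
  · intro p₁ _ hN
    by_contra hcon
    push Not at hcon
    letI := (h.σ : A →+* B).toAlgebra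
    have hfin : Module.Finite A B := h.fin
    let κ := p₁.ResidueField
    let F := κ ⊗[A] B
    letI : Algebra B F := Algebra.TensorProduct.rightAlgebra
    have hbc : IsRCP κ F n (algebraMap B F (h.τ (f - 1))) (χ.map (algebraMap A κ)) :=
      IsRCP.bc hχ
    have hu : IsUnit (algebraMap B F (h.τ f)) := by
      by_contra hnu
      obtain ⟨M, hM, hmem⟩ := exists_max_ideal_of_mem_nonunits hnu
      have hMp : M.IsPrime := hM.isPrime
      let q : Ideal B := M.comap (algebraMap B F)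
      have hq : q.IsPrime := Ideal.comap_isPrime _ _
      refine hcon q hq ?_ hmem
      have : M.LiesOver p₁ := inferInstance
      have h1 : q.comap (algebraMap A B) = M.comap (algebraMap A F) := by
        rw [Ideal.comap_comap]
        congr 1
        ext a
        simp [F, Algebra.TensorProduct.algebraMap_apply, Algebra.TensorProduct.right_algebraMap_apply,
          Algebra.algebraMap_eq_smul_one, TensorProduct.smul_tmul]
      have h2 : M.comap (algebraMap A F) = p₁ := (Ideal.LiesOver.over (p := p₁) (P := M)).symm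
      exact h1.trans h2
    have h6 : algebraMap B F (h.τ (f - 1)) = algebraMap B F (h.τ f) - 1 := by
      rw [map_sub, map_sub, map_one, map_one]
    rw [h6] at hbc
    have h7 := isUnit_eval_neg_one hbc hu
    have h8 : (χ.map (algebraMap A κ)).eval (-1) = algebraMap A κ (χ.eval (-1)) := by
      have h9 : (-1 : κ) = algebraMap A κ (-1) := by simp
      rw [h9, Polynomial.eval_map, Polynomial.eval₂_at_apply]
    rw [h8, Ideal.algebraMap_residueField_eq_zero.mpr hN] at h7
    exact not_isUnit_zero h7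

/-- fibres of `Spec A → Spec Inv` are orbits. -/
theorem exists_prime_orbit (p₀ p₁ : Ideal A) [hp₀ : p₀.IsPrime] [hp₁ : p₁.IsPrime]
    (hpp : ∀ a, h.σ a = h.τ a → (a ∈ p₀ ↔ a ∈ p₁)) :
    ∃ q : Ideal B, q.IsPrime ∧ q.comap (h.τ : A →+* B) = p₀ ∧ q.comap (h.σ : A →+* B) = p₁ := by
  classical
  letI := (h.σ : A →+* B).toAlgebra
  have hfin : Module.Finite A B := h.fin
  have hQfin : (p₁.primesOver B).Finite := Algebra.QuasiFinite.finite_primesOver p₁
  by_contra hcon
  push Not at hcon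
  let T : Finset (Ideal A) := hQfin.toFinset.image (fun q => q.comap (h.τ : A →+* B))
  have hint := h.isIntegral_Inv
  have hT : ∀ p ∈ T, p.IsPrime ∧ ¬ p₀ ≤ p := by
    intro p hp
    obtain ⟨q, hq, rfl⟩ := Finset.mem_image.mp hp
    rw [Set.Finite.mem_toFinset] at hq
    obtain ⟨hqp, hqo⟩ := hq
    have hqσ : q.comap (h.σ : A →+* B) = p₁ := hqo.over.symm
    refine ⟨Ideal.comap_isPrime _ _, fun hle => ?_⟩
    have hne : p₀ ≠ q.comap (h.τ : A →+* B) := fun he => hcon q hqp he.symm hqσ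
    have hlt : p₀ < q.comap (h.τ : A →+* B) := lt_of_le_of_ne hle hne
    have h1 := Ideal.IsIntegral.comap_lt_comap (R := h.Inv) hlt
    have h2 : p₀.comap (algebraMap h.Inv A) = (q.comap (h.τ : A →+* B)).comap (algebraMap h.Inv A) := by
      ext x
      simp only [Ideal.mem_comap]
      have hx : h.σ (x : A) = h.τ (x : A) := x.2
      rw [show algebraMap h.Inv A x = (x : A) from rfl, hpp _ hx, ← hqσ, Ideal.mem_comap]
      show h.σ (x : A) ∈ q ↔ h.τ (x : A) ∈ q
      rw [hx]
    exact absurd h2 (ne_of_lt h1)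
  have havoid : ¬ ((p₀ : Set A) ⊆ ⋃ p ∈ (T : Set (Ideal A)), ((id p : Ideal A) : Set A)) := by
    rw [Ideal.subset_union_prime (f := id) p₀ p₀ (fun p hp _ _ => (hT p hp).1)]
    rintro ⟨p, hp, hle⟩
    exact (hT p hp).2 hle
  obtain ⟨f, hf0, hfT⟩ := Set.not_subset.mp havoid
  obtain ⟨N, hNinv, hfN, hN⟩ := h.exists_norm f
  have hN0 : N ∈ p₀ := Ideal.mem_of_dvd _ hfN hf0
  have hN1 : N ∈ p₁ := (hpp N hNinv).mp hN0
  obtain ⟨q, hq, hqσ, hqf⟩ := hN p₁ hN1
  apply hfT
  have hqmem : q ∈ p₁.primesOver B := ⟨hq, ⟨hqσ.symm⟩⟩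
  have : q.comap (h.τ : A →+* B) ∈ T :=
    Finset.mem_image.mpr ⟨q, (Set.Finite.mem_toFinset hQfin).mpr hqmem, rfl⟩
  exact Set.mem_biUnion (Finset.mem_coe.mpr this) hqf

end RG

end Groth.Agent.Lib.H5bRG
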