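import Mathlib
import Groth.Agent.Lib.Helper2RetCharpoly
import Groth.Agent.Lib.H5bRGChar

/-!
# Norms for finite locally free morphisms (helper5)

* `exists_norm_general`: for `B` finite projective over `A` and `b : B` there is `N : A` (the norm of
  `b`) such that `N ∈ p` iff `b` lies in some prime of `B` over `p`.
* `exists_norm_affineOpen`: for `π : X ⟶ Y` finite locally free, `W ⊆ Y` affine open and
  `b ∈ Γ(X, π⁻¹W)` there is `N ∈ Γ(Y, W)` such that `D(N) = {y ∈ W | π⁻¹(y) ⊆ D(b)}`.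
-/

set_option autoImplicit false
set_option linter.style.haveILetI false
set_option linter.unusedSectionVars false
set_option linter.unusedSimpArgs false
universe u

open CategoryTheory CategoryTheory.Limits TensorProduct Polynomial AlgebraicGeometry
open Groth.Agent.Lib.Helper2.RetCharpoly

namespace Groth.Agent.Lib.H5bRG

theorem exists_norm_general {A B : Type u} [CommRing A] [CommRing B] [Algebra A B]
    [Module.Finite A B] [Module.Projective A B] (b : B) :
    ∃ N : A, ∀ (p : Ideal A) [p.IsPrime], N ∈ p ↔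
      ∃ q : Ideal B, q.IsPrime ∧ q.comap (algebraMap A B) = p ∧ b ∈ q := by
  obtain ⟨n, hn⟩ := exists_isRCP A B
  obtain ⟨χ, hχ⟩ := hn (b - 1)
  refine ⟨χ.eval (-1), fun p _ => ⟨?_, ?_⟩⟩
  · intro hN
    by_contra hcon
    push Not at hcon
    let κ := p.ResidueField
    let F := κ ⊗[A] B
    letI : Algebra B F := Algebra.TensorProduct.rightAlgebra
    have hbc : IsRCP κ F n (algebraMap B F (b - 1)) (χ.map (algebraMap A κ)) := IsRCP.bc hχ
    have hu : IsUnit (algebraMap B F b) := by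
      by_contra hnu
      obtain ⟨M, hM, hmem⟩ := exists_max_ideal_of_mem_nonunits hnu
      have hMp : M.IsPrime := hM.isPrime
      let q : Ideal B := M.comap (algebraMap B F)
      have hq : q.IsPrime := Ideal.comap_isPrime _ _
      refine hcon q hq ?_ hmem
      have : M.LiesOver p := inferInstance
      have h1 : q.comap (algebraMap A B) = M.comap (algebraMap A F) := by
        rw [Ideal.comap_comap]
        congr 1
        ext a
        simp [F, Algebra.TensorProduct.algebraMap_apply,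
          Algebra.TensorProduct.right_algebraMap_apply, Algebra.algebraMap_eq_smul_one,
          TensorProduct.smul_tmul]
      have h2 : M.comap (algebraMap A F) = p := (Ideal.LiesOver.over (p := p) (P := M)).symm
      exact h1.trans h2
    have h6 : algebraMap B F (b - 1) = algebraMap B F b - 1 := by
      rw [map_sub, map_one]
    rw [h6] at hbc
    have h7 := isUnit_eval_neg_one hbc hu
    have h8 : (χ.map (algebraMap A κ)).eval (-1) = algebraMap A κ (χ.eval (-1)) := by
      have h9 : (-1 : κ) = algebraMap A κ (-1) := by simp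
      rw [h9, Polynomial.eval_map, Polynomial.eval₂_at_apply]
    rw [h8, Ideal.algebraMap_residueField_eq_zero.mpr hN] at h7
    exact not_isUnit_zero h7
  · rintro ⟨q, hq, hqp, hbq⟩
    have h0 : aeval (b - 1) χ = 0 := hχ.aeval_eq_zero
    have h1 := Polynomial.sub_dvd_eval_sub (algebraMap A B (-1)) (b - 1)
      (χ.map (algebraMap A B))
    rw [Polynomial.eval_map, Polynomial.eval₂_at_apply, Polynomial.eval_map,
      ← Polynomial.aeval_def, h0, sub_zero] at h1
    have h2 : algebraMap A B (-1) - (b - 1) = -b := by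
      rw [map_neg, map_one]; ring
    rw [h2] at h1
    have h3 : algebraMap A B (χ.eval (-1)) ∈ q :=
      Ideal.mem_of_dvd _ ((neg_dvd).mp h1) hbq
    rw [← hqp]
    exact h3

/-- the norm along a finite locally free morphism over an affine open. -/
theorem exists_norm_affineOpen {X Y : Scheme.{u}} (π : X ⟶ Y) [IsFinite π] [Flat π]
    [LocallyOfFinitePresentation π] (W : Y.Opens) (hW : IsAffineOpen W) (b : Γ(X, π ⁻¹ᵁ W)) :
    ∃ N : Γ(Y, W), ∀ y ∈ W, (y ∈ Y.basicOpen N ↔ ∀ x : X, π x = y → x ∈ X.basicOpen b) := by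
  have hW' : IsAffineOpen (π ⁻¹ᵁ W) := hW.preimage π
  let φ : Γ(Y, W) →+* Γ(X, π ⁻¹ᵁ W) := (π.app W).hom
  letI : Algebra Γ(Y, W) Γ(X, π ⁻¹ᵁ W) := φ.toAlgebra
  have hfin : Module.Finite Γ(Y, W) Γ(X, π ⁻¹ᵁ W) := π.finite_app W hW
  have happ : π.app W = π.appLE W (π ⁻¹ᵁ W) le_rfl := Scheme.Hom.app_eq_appLE _
  have hflat : Module.Flat Γ(Y, W) Γ(X, π ⁻¹ᵁ W) := by
    have := HasRingHomProperty.appLE (P := @Flat) π inferInstance ⟨W, hW⟩ ⟨_, hW'⟩ le_rfl
    rw [← happ] at this
    exact this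
  have hfp : Algebra.FinitePresentation Γ(Y, W) Γ(X, π ⁻¹ᵁ W) := by
    have := π.finitePresentation_appLE hW hW' le_rfl
    rw [← happ] at this
    exact this
  have : Module.FinitePresentation Γ(Y, W) Γ(X, π ⁻¹ᵁ W) :=
    Module.FinitePresentation.of_finite_of_finitePresentation _ _
  have hproj : Module.Projective Γ(Y, W) Γ(X, π ⁻¹ᵁ W) :=
    Module.Flat.projective_of_finitePresentation
  obtain ⟨N, hN⟩ := exists_norm_general (A := Γ(Y, W)) (B := Γ(X, π ⁻¹ᵁ W)) b
  refine ⟨N, fun y hy => ?_⟩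
  -- points and primes
  have hmemY : ∀ (y' : W.toScheme) (g : Γ(Y, W)),
      y'.1 ∈ Y.basicOpen g ↔ g ∉ (W.toSpecΓ y').asIdeal := by
    intro y' g
    have := congrArg (fun O : W.toScheme.Opens => y' ∈ O)
      (Scheme.Opens.toSpecΓ_preimage_basicOpen W g)
    simp only [eq_iff_iff] at this
    exact this.symm
  have hmemX : ∀ (x' : (π ⁻¹ᵁ W).toScheme) (g : Γ(X, π ⁻¹ᵁ W)),
      x'.1 ∈ X.basicOpen g ↔ g ∉ ((π ⁻¹ᵁ W).toSpecΓ x').asIdeal := by
    intro x' g
    have := congrArg (fun O : (π ⁻¹ᵁ W).toScheme.Opens => x' ∈ O)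
      (Scheme.Opens.toSpecΓ_preimage_basicOpen (π ⁻¹ᵁ W) g)
    simp only [eq_iff_iff] at this
    exact this.symm
  have hnat : ∀ x' : (π ⁻¹ᵁ W).toScheme,
      ((π ⁻¹ᵁ W).toSpecΓ x').asIdeal.comap φ = (W.toSpecΓ ((π ∣_ W) x')).asIdeal := by
    intro x'
    have := congrArg (fun ψ : (π ⁻¹ᵁ W).toScheme ⟶ _ => ψ x')
      (Scheme.Opens.toSpecΓ_naturality π W)
    simp only [Scheme.Hom.comp_apply] at this
    rw [← this]
    rfl
  have hres : ∀ x' : (π ⁻¹ᵁ W).toScheme, ((π ∣_ W) x').1 = π x'.1 := by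
    intro x'
    simp
  have hisoY : IsIso W.toSpecΓ := hW.isoSpec_hom ▸ inferInstance
  have hisoX : IsIso (π ⁻¹ᵁ W).toSpecΓ := hW'.isoSpec_hom ▸ inferInstance
  let y' : W.toScheme := ⟨y, hy⟩
  haveI : (W.toSpecΓ y').asIdeal.IsPrime := (W.toSpecΓ y').isPrime
  rw [hmemY y' N, hN (W.toSpecΓ y').asIdeal]
  constructor
  · intro hno x hx
    have hxW : x ∈ π ⁻¹ᵁ W := by
      show π x ∈ W
      rw [hx]; exact hy
    let x' : (π ⁻¹ᵁ W).toScheme := ⟨x, hxW⟩
    rw [hmemX x' b]
    intro hb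
    apply hno
    refine ⟨((π ⁻¹ᵁ W).toSpecΓ x').asIdeal, ((π ⁻¹ᵁ W).toSpecΓ x').isPrime, ?_, hb⟩
    show ((π ⁻¹ᵁ W).toSpecΓ x').asIdeal.comap φ = _
    rw [hnat x']
    congr 2
    apply Subtype.ext
    rw [hres x']
    exact hx
  · intro hall
    rintro ⟨q, hq, hqp, hbq⟩
    obtain ⟨x', hx'⟩ := (π ⁻¹ᵁ W).toSpecΓ.homeomorph.surjective ⟨q, hq⟩
    have hx'' : (π ⁻¹ᵁ W).toSpecΓ x' = ⟨q, hq⟩ := hx'
    have h1 : W.toSpecΓ ((π ∣_ W) x') = W.toSpecΓ y' := by
      apply PrimeSpectrum.ext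
      rw [← hnat x', hx'']
      exact hqp
    have h2 : (π ∣_ W) x' = y' := W.toSpecΓ.homeomorph.injective h1
    have h3 : π x'.1 = y := by
      rw [← hres x', h2]
    have h4 := hall x'.1 h3
    rw [hmemX x' b, hx''] at h4
    exact h4 hbq

end Groth.Agent.Lib.H5bRG
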