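import Mathlib
import Groth.Prelude.Def_Grpd
import Groth.Agent.S1880
import Groth.Agent.Lib.H5bNorm

/-!
# Orbits of a groupoid scheme and invariant affine opens (helper5)

* `Orb G u w`: `w` lies in the orbit of `u`; an equivalence relation.
* `exists_basicOpen_of_finite`: finitely many points of an affine open lying in an open `W'` lie in a
  basic open contained in `W'`.
* `exists_invariant_affine_open`: if `s` is finite locally free and the orbit of `u` lies in an affine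
  open then `u` has an invariant affine open neighbourhood.
-/

set_option autoImplicit false
set_option linter.style.haveILetI false
set_option linter.unusedSectionVars false
set_option linter.unusedSimpArgs false
universe u

open CategoryTheory CategoryTheory.Limits AlgebraicGeometry

namespace Groth.Agent.Lib.H5bRG

section Orbit
variable {S : Scheme.{u}} (G : Grpd.GroupoidScheme S)

/-- `w` is in the orbit of `u`. -/
def Orb (u w : G.U) : Prop := ∃ r : G.R, G.s r = u ∧ G.t r = w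

theorem s_e_apply (u : G.U) : G.s (G.e u) = u := by
  have := congrArg (fun φ : G.U ⟶ G.U => φ u) G.e_s
  simpa [Scheme.Hom.comp_apply] using this

theorem t_e_apply (u : G.U) : G.t (G.e u) = u := by
  have := congrArg (fun φ : G.U ⟶ G.U => φ u) G.e_t
  simpa [Scheme.Hom.comp_apply] using this

theorem s_i_apply (r : G.R) : G.s (G.i r) = G.t r := by
  have := congrArg (fun φ : G.R ⟶ G.U => φ r) G.i_s
  simpa [Scheme.Hom.comp_apply] using this

theorem t_i_apply (r : G.R) : G.t (G.i r) = G.s r := by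
  have := congrArg (fun φ : G.R ⟶ G.U => φ r) G.i_t
  simpa [Scheme.Hom.comp_apply] using this

theorem Orb.refl (u : G.U) : Orb G u u := ⟨G.e u, s_e_apply G u, t_e_apply G u⟩

variable {G}

theorem Orb.symm {u w : G.U} (h : Orb G u w) : Orb G w u := by
  obtain ⟨r, hs, ht⟩ := h
  exact ⟨G.i r, (s_i_apply G r).trans ht, (t_i_apply G r).trans hs⟩

theorem Orb.trans {u w z : G.U} (h₁ : Orb G u w) (h₂ : Orb G w z) : Orb G u z := by
  obtain ⟨r₁, hs₁, ht₁⟩ := h₁
  obtain ⟨r₂, hs₂, ht₂⟩ := h₂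
  obtain ⟨p, hp₁, hp₂⟩ := Scheme.Pullback.exists_preimage_pullback (f := G.s) (g := G.t) r₂ r₁
    (hs₂.trans ht₁.symm)
  refine ⟨G.c p, ?_, ?_⟩
  · have := congrArg (fun φ : pullback G.s G.t ⟶ G.U => φ p) (Groth.Agent.S1880.c_s G)
    simp only [Scheme.Hom.comp_apply] at this
    rw [this, hp₂, hs₁]
  · have := congrArg (fun φ : pullback G.s G.t ⟶ G.U => φ p) (Groth.Agent.S1880.c_t G)
    simp only [Scheme.Hom.comp_apply] at this
    rw [this, hp₁, ht₂]

theorem Orb.s_t (r : G.R) : Orb G (G.s r) (G.t r) := ⟨r, rfl, rfl⟩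

end Orbit

/-- membership in a basic open of an affine open in terms of primes. -/
theorem mem_basicOpen_iff_toSpecΓ {X : Scheme.{u}} (V : X.Opens) (y' : V.toScheme)
    (g : Γ(X, V)) : y'.1 ∈ X.basicOpen g ↔ g ∉ (V.toSpecΓ y').asIdeal := by
  have := congrArg (fun O : V.toScheme.Opens => y' ∈ O)
    (Scheme.Opens.toSpecΓ_preimage_basicOpen V g)
  simp only [eq_iff_iff] at this
  exact this.symm

/-- finitely many points of an affine open `V` lying in an open `W'` lie in a basic open of `V`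
contained in `W'`. -/
theorem exists_basicOpen_of_finite {X : Scheme.{u}} (V : X.Opens) (hV : IsAffineOpen V)
    (W' : X.Opens) (O : Set X) (hO : O.Finite) (hOV : O ⊆ V) (hOW : O ⊆ W') :
    ∃ f : Γ(X, V), O ⊆ X.basicOpen f ∧ X.basicOpen f ≤ W' := by
  classical
  have hiso : IsIso V.toSpecΓ := hV.isoSpec_hom ▸ inferInstance
  let h := V.toSpecΓ.homeomorph
  let Z : Set V.toScheme := {y' | y'.1 ∉ W'}
  have hZ : IsClosed Z := by
    have : Z = (V.ι ⁻¹ᵁ W' : Set V.toScheme)ᶜ := by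
      ext y'
      simp [Z]
    rw [this]
    exact (V.ι ⁻¹ᵁ W').2.isClosed_compl
  have hT : IsClosed (h '' Z) := h.isClosedMap _ hZ
  obtain ⟨I, hI⟩ := (PrimeSpectrum.isClosed_iff_zeroLocus_ideal _).mp hT
  let O' : Set V.toScheme := {o' | o'.1 ∈ O}
  have hO' : O'.Finite := hO.preimage (Subtype.val_injective.injOn)
  let T : Finset (Ideal Γ(X, V)) := hO'.toFinset.image (fun o' => (V.toSpecΓ o').asIdeal)
  have hTp : ∀ p ∈ T, p.IsPrime ∧ ¬ I ≤ p := by
    intro p hp
    obtain ⟨o', ho', rfl⟩ := Finset.mem_image.mp hp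
    rw [Set.Finite.mem_toFinset] at ho'
    refine ⟨(V.toSpecΓ o').isPrime, fun hle => ?_⟩
    have h1 : V.toSpecΓ o' ∈ h '' Z := by
      rw [hI]
      exact (PrimeSpectrum.mem_zeroLocus (V.toSpecΓ o' : PrimeSpectrum Γ(X, V))
        (I : Set Γ(X, V))).mpr hle
    obtain ⟨z, hz, hzo⟩ := h1
    have h2 : z = o' := h.injective hzo
    rw [h2] at hz
    exact hz (hOW ho')
  have havoid : ¬ ((I : Set Γ(X, V)) ⊆ ⋃ p ∈ (T : Set (Ideal Γ(X, V))),
      ((id p : Ideal Γ(X, V)) : Set Γ(X, V))) := by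
    by_cases hTe : T = ∅
    · rw [hTe]
      simp only [Finset.coe_empty, Set.mem_empty_iff_false, Set.iUnion_of_empty,
        Set.iUnion_empty, Set.subset_empty_iff]
      intro hemp
      have : (0 : Γ(X, V)) ∈ (I : Set Γ(X, V)) := I.zero_mem
      rw [hemp] at this
      exact this
    · obtain ⟨p₀, hp₀⟩ := Finset.nonempty_iff_ne_empty.mpr hTe
      rw [Ideal.subset_union_prime (f := id) p₀ p₀ (fun p hp _ _ => (hTp p hp).1)]
      rintro ⟨p, hp, hle⟩
      exact (hTp p hp).2 hle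
  obtain ⟨f, hfI, hfT⟩ := Set.not_subset.mp havoid
  refine ⟨f, ?_, ?_⟩
  · intro o ho
    let o' : V.toScheme := ⟨o, hOV ho⟩
    show o'.1 ∈ X.basicOpen f
    rw [mem_basicOpen_iff_toSpecΓ]
    intro hmem
    apply hfT
    have : (V.toSpecΓ o').asIdeal ∈ T :=
      Finset.mem_image.mpr ⟨o', (Set.Finite.mem_toFinset hO').mpr ho, rfl⟩
    exact Set.mem_biUnion (Finset.mem_coe.mpr this) hmem
  · intro x hx
    have hxV : x ∈ V := X.basicOpen_le f hx
    let x' : V.toScheme := ⟨x, hxV⟩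
    have h1 : x'.1 ∈ X.basicOpen f := hx
    rw [mem_basicOpen_iff_toSpecΓ] at h1
    by_contra hxW
    have h2 : V.toSpecΓ x' ∈ h '' Z := ⟨x', hxW, rfl⟩
    rw [hI] at h2
    have h2' := (PrimeSpectrum.mem_zeroLocus (V.toSpecΓ x' : PrimeSpectrum Γ(X, V))
      (I : Set Γ(X, V))).mp h2
    exact h1 (h2' hfI)

section Main
variable {S : Scheme.{u}} (G : Grpd.GroupoidScheme S)

/-- **invariant affine open neighbourhoods**. -/
theorem exists_invariant_affine_open [IsFinite G.s] [Flat G.s]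
    [LocallyOfFinitePresentation G.s] (u : G.U) (V : G.U.Opens) (hV : IsAffineOpen V)
    (huV : ∀ r : G.R, G.s r = u → G.t r ∈ V) :
    ∃ W : G.U.Opens, IsAffineOpen W ∧ u ∈ W ∧ G.s ⁻¹ᵁ W = G.t ⁻¹ᵁ W := by
  -- the largest invariant subset of `V`
  let W'set : Set G.U := {w | ∀ r : G.R, G.s r = w → G.t r ∈ V}
  have hW'open : IsOpen W'set := by
    have h1 : W'setᶜ = G.s '' (G.t ⁻¹' ((V : Set G.U)ᶜ)) := by
      ext w
      simp only [W'set, Set.mem_compl_iff, Set.mem_ofPred_eq, not_forall, Set.mem_image,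
        Set.mem_preimage, SetLike.mem_coe]
      constructor
      · rintro ⟨r, hr, hrV⟩
        exact ⟨r, hrV, hr⟩
      · rintro ⟨r, hrV, hr⟩
        exact ⟨r, hr, hrV⟩
    rw [← isClosed_compl_iff, h1]
    exact G.s.isClosedMap _ (V.2.isClosed_compl.preimage G.t.continuous)
  let W' : G.U.Opens := ⟨W'set, hW'open⟩
  have hW'V : ∀ w, w ∈ W' → w ∈ V := fun w hw => by
    have := hw (G.e w) (s_e_apply G w)
    rwa [t_e_apply] at this
  -- the orbit of `u`
  let O : Set G.U := G.t '' (G.s ⁻¹' {u})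
  have hOfin : O.Finite := (G.s.finite_preimage_singleton u).image _
  have hOW : O ⊆ W' := by
    rintro o ⟨r, hr, rfl⟩ r' hr'
    have h1 : Orb G u (G.t r) := ⟨r, hr, rfl⟩
    have h2 : Orb G (G.t r) (G.t r') := ⟨r', hr', rfl⟩
    obtain ⟨r'', hs'', ht''⟩ := h1.trans h2
    rw [← ht'']
    exact huV r'' hs''
  have hOV : O ⊆ V := fun o ho => hW'V o (hOW ho)
  obtain ⟨f, hOf, hfW'⟩ := exists_basicOpen_of_finite V hV W' O hOfin hOV hOW
  let W₁ : G.U.Opens := G.U.basicOpen f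
  have hW₁ : IsAffineOpen W₁ := hV.basicOpen f
  have hle : G.s ⁻¹ᵁ W₁ ≤ G.t ⁻¹ᵁ V := by
    intro r hr
    exact hfW' hr r rfl
  let b : Γ(G.R, G.s ⁻¹ᵁ W₁) := G.t.appLE V (G.s ⁻¹ᵁ W₁) hle f
  have hb : ∀ r : G.R, r ∈ G.R.basicOpen b ↔ G.s r ∈ W₁ ∧ G.t r ∈ W₁ := by
    intro r
    rw [Scheme.basicOpen_appLE]
    rfl
  obtain ⟨N, hN⟩ := exists_norm_affineOpen G.s W₁ hW₁ b
  let W₂ : G.U.Opens := G.U.basicOpen N
  have hW₂ : IsAffineOpen W₂ := hW₁.basicOpen N
  have hchar : ∀ y : G.U, y ∈ W₂ ↔ ∀ y', Orb G y y' → y' ∈ W₁ := by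
    intro y
    constructor
    · intro hy y' ⟨r, hs, ht⟩
      have hy₁ : y ∈ W₁ := G.U.basicOpen_le N hy
      have := ((hN y hy₁).mp hy) r hs
      rw [hb] at this
      rw [← ht]
      exact this.2
    · intro hall
      have hy₁ : y ∈ W₁ := hall y (Orb.refl G y)
      rw [show (y ∈ W₂) = (y ∈ G.U.basicOpen N) from rfl, hN y hy₁]
      intro r hr
      rw [hb, hr]
      exact ⟨hy₁, hall _ ⟨r, hr, rfl⟩⟩
  refine ⟨W₂, hW₂, ?_, ?_⟩
  · rw [hchar]
    rintro y' ⟨r, hs, ht⟩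
    exact hOf ⟨r, hs, ht⟩
  · ext r
    show G.s r ∈ W₂ ↔ G.t r ∈ W₂
    rw [hchar, hchar]
    constructor
    · intro h y' hy'
      exact h y' ((Orb.s_t r).trans hy')
    · intro h y' hy'
      exact h y' ((Orb.s_t r).symm.trans hy')

end Main

end Groth.Agent.Lib.H5bRG
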