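import Mathlib
import Groth.Prelude.Def_Grpd
import Groth.Agent.Lib.Helper2Grpd
import Groth.Agent.Lib.H5bOrbit

/-!
# Restriction of a groupoid scheme to an invariant open (helper5)

* `i_i`: the inverse is an involution; `t` inherits the properties of `s`.
* `monoGroupoid`: the groupoid induced on monomorphisms `ιU : U' ⟶ U`, `ιR : R' ⟶ R` through which the
  structure maps factor.
* `restr G W hW`: the restriction of `G` to an open `W ⊆ U` with `s⁻¹W = t⁻¹W`.
-/

set_option autoImplicit false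
set_option linter.style.haveILetI false
set_option linter.unusedSectionVars false
set_option linter.unusedSimpArgs false
universe u

open CategoryTheory CategoryTheory.Limits AlgebraicGeometry
open Groth.Agent.Lib.Helper2.Grpd

namespace Groth.Agent.Lib.H5bGQ

variable {S : Scheme.{u}} (G : Grpd.GroupoidScheme S)

section Inv

/-- the inverse of a groupoid scheme is an involution. -/
theorem i_i : G.i ≫ G.i = 𝟙 G.R := by
  obtain ⟨α, hα⟩ : ∃ α : G.R ⟶ G.R, α = 𝟙 G.R := ⟨_, rfl⟩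
  obtain ⟨a, ha⟩ : ∃ a : G.R ⟶ G.R, a = α ≫ G.i := ⟨_, rfl⟩
  obtain ⟨b, hb⟩ : ∃ b : G.R ⟶ G.R, b = a ≫ G.i := ⟨_, rfl⟩
  have has : a ≫ G.s = α ≫ G.t := by rw [ha, Category.assoc, G.i_s]
  have hat : a ≫ G.t = α ≫ G.s := by rw [ha, Category.assoc, G.i_t]
  have hbs : b ≫ G.s = a ≫ G.t := by rw [hb, Category.assoc, G.i_s]
  have hbt : b ≫ G.t = a ≫ G.s := by rw [hb, Category.assoc, G.i_t]
  have h1 : comp G a α has = α ≫ G.s ≫ G.e := by
    subst ha
    exact i_comp G α _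
  have h2 : comp G b a hbs = a ≫ G.s ≫ G.e := by
    subst hb
    exact i_comp G a _
  have h3 : b = comp G b (comp G a α has) (by rw [comp_t, hbs]) := by
    refine (comp_e G b _ ?_ _).symm
    rw [h1, reassoc_of% hbs, reassoc_of% hat]
  have h4 : comp G b (comp G a α has) (by rw [comp_t, hbs]) =
      comp G (comp G b a hbs) α (by rw [comp_s, has]) := (comp_assoc G b a α hbs has).symm
  have h5 : comp G (comp G b a hbs) α (by rw [comp_s, has]) = α := by
    refine e_comp G α _ ?_ _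
    rw [h2, reassoc_of% has]
  have h6 : b = α := h3.trans (h4.trans h5)
  rw [hb, ha, hα, Category.id_comp] at h6
  exact h6

instance isIso_i : IsIso G.i := ⟨G.i, i_i G, i_i G⟩

theorem isFinite_t [IsFinite G.s] : IsFinite G.t := by
  rw [← G.i_s]; infer_instance

theorem flat_t [Flat G.s] : Flat G.t := by
  rw [← G.i_s]; infer_instance

theorem lofp_t [LocallyOfFinitePresentation G.s] : LocallyOfFinitePresentation G.t := by
  rw [← G.i_s]; infer_instance

end Inv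

section Mono

variable {U' R' : Scheme.{u}} (ιU : U' ⟶ G.U) (ιR : R' ⟶ G.R)
  (s' t' : R' ⟶ U') (hs : s' ≫ ιU = ιR ≫ G.s) (ht : t' ≫ ιU = ιR ≫ G.t)
  (c' : pullback s' t' ⟶ R')
  (hc : c' ≫ ιR = pullback.map s' t' G.s G.t ιR ιR ιU hs ht ≫ G.c)

include hc in
lemma key {T : Scheme.{u}} (α β : T ⟶ R') (h : α ≫ s' = β ≫ t') :
    (pullback.lift α β h ≫ c') ≫ ιR =
      comp G (α ≫ ιR) (β ≫ ιR) (by
        rw [Category.assoc, ← hs, ← Category.assoc, h, Category.assoc, ht, Category.assoc]) := by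
  rw [Category.assoc, hc, ← Category.assoc]
  unfold comp
  congr 1
  apply pullback.hom_ext
  · rw [Category.assoc, pullback.lift_fst, ← Category.assoc, pullback.lift_fst, pullback.lift_fst]
  · rw [Category.assoc, pullback.lift_snd, ← Category.assoc, pullback.lift_snd, pullback.lift_snd]

variable [Mono ιU] [Mono ιR]
  (e' : U' ⟶ R') (he : e' ≫ ιR = ιU ≫ G.e) (i' : R' ⟶ R') (hi : i' ≫ ιR = ιR ≫ G.i)

/-- The groupoid induced on monomorphisms `ιU : U' ⟶ U`, `ιR : R' ⟶ R` through which source, target,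
identity, inverse and composition factor. -/
noncomputable def monoGroupoid : Grpd.GroupoidScheme S where
  U := U'
  R := R'
  pU := ιU ≫ G.pU
  pR := ιR ≫ G.pR
  s := s'
  t := t'
  e := e'
  i := i'
  c := c'
  s_over := by rw [← Category.assoc, hs, Category.assoc, G.s_over]
  t_over := by rw [← Category.assoc, ht, Category.assoc, G.t_over]
  comp_s := fun α β h => by
    rw [← cancel_mono ιU, Category.assoc, hs, ← Category.assoc, key G ιU ιR s' t' hs ht c' hc α β h,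
      comp_s, Category.assoc, Category.assoc, hs]
  comp_t := fun α β h => by
    rw [← cancel_mono ιU, Category.assoc, ht, ← Category.assoc, key G ιU ιR s' t' hs ht c' hc α β h,
      comp_t, Category.assoc, Category.assoc, ht]
  assoc := fun α β γ h₁ h₂ => by
    rw [← cancel_mono ιR]
    refine (key G ιU ιR s' t' hs ht c' hc _ _ _).trans ?_
    refine Eq.trans ?_ (key G ιU ιR s' t' hs ht c' hc _ _ _).symm
    rw [comp_congr G _ (key G ιU ιR s' t' hs ht c' hc α β h₁) rfl,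
      comp_congr G _ rfl (key G ιU ιR s' t' hs ht c' hc β γ h₂)]
    exact comp_assoc G (α ≫ ιR) (β ≫ ιR) (γ ≫ ιR) _ _
  e_s := by rw [← cancel_mono ιU, Category.assoc, hs, ← Category.assoc, he, Category.assoc, G.e_s,
    Category.comp_id, Category.id_comp]
  e_t := by rw [← cancel_mono ιU, Category.assoc, ht, ← Category.assoc, he, Category.assoc, G.e_t,
    Category.comp_id, Category.id_comp]
  comp_e := fun α => by
    rw [← cancel_mono ιR, key G ιU ιR s' t' hs ht c' hc]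
    refine comp_e G (α ≫ ιR) _ ?_ _
    simp only [Category.assoc, he]
    rw [← Category.assoc s', hs, Category.assoc]
  e_comp := fun α => by
    rw [← cancel_mono ιR, key G ιU ιR s' t' hs ht c' hc]
    refine e_comp G (α ≫ ιR) _ ?_ _
    simp only [Category.assoc, he]
    rw [← Category.assoc t', ht, Category.assoc]
  i_s := by rw [← cancel_mono ιU, Category.assoc, hs, ← Category.assoc, hi, Category.assoc, G.i_s, ht]
  i_t := by rw [← cancel_mono ιU, Category.assoc, ht, ← Category.assoc, hi, Category.assoc, G.i_t, hs]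
  comp_i := fun α => by
    rw [← cancel_mono ιR, key G ιU ιR s' t' hs ht c' hc]
    have h1 : (α ≫ i') ≫ ιR = (α ≫ ιR) ≫ G.i := by rw [Category.assoc, hi, Category.assoc]
    rw [comp_congr G _ rfl h1, comp_i]
    simp only [Category.assoc, he]
    rw [← Category.assoc t', ht, Category.assoc]
  i_comp := fun α => by
    rw [← cancel_mono ιR, key G ιU ιR s' t' hs ht c' hc]
    have h1 : (α ≫ i') ≫ ιR = (α ≫ ιR) ≫ G.i := by rw [Category.assoc, hi, Category.assoc]
    rw [comp_congr G _ h1 rfl, i_comp]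
    simp only [Category.assoc, he]
    rw [← Category.assoc s', hs, Category.assoc]

end Mono

section Restr

open Groth.Agent.Lib.H5bRG

variable (W : G.U.Opens) (hW : G.s ⁻¹ᵁ W = G.t ⁻¹ᵁ W)

include hW in
theorem range_t_subset : Set.range ((G.s ⁻¹ᵁ W).ι ≫ G.t) ⊆ Set.range W.ι := by
  rintro _ ⟨r, rfl⟩
  rw [Scheme.Opens.range_ι]
  have h1 : r.1 ∈ G.t ⁻¹ᵁ W := hW ▸ r.2
  simpa [Scheme.Hom.comp_apply] using h1

theorem range_e_subset : Set.range (W.ι ≫ G.e) ⊆ Set.range (G.s ⁻¹ᵁ W).ι := by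
  rintro _ ⟨x, rfl⟩
  rw [Scheme.Opens.range_ι]
  show G.s ((W.ι ≫ G.e) x) ∈ W
  rw [Scheme.Hom.comp_apply, s_e_apply]
  exact x.2

include hW in
theorem range_i_subset : Set.range ((G.s ⁻¹ᵁ W).ι ≫ G.i) ⊆ Set.range (G.s ⁻¹ᵁ W).ι := by
  rintro _ ⟨r, rfl⟩
  rw [Scheme.Opens.range_ι]
  show G.s (((G.s ⁻¹ᵁ W).ι ≫ G.i) r) ∈ W
  rw [Scheme.Hom.comp_apply, s_i_apply]
  have h1 : r.1 ∈ G.t ⁻¹ᵁ W := hW ▸ r.2
  exact h1

/-- the restricted target map. -/
noncomputable def tW : (G.s ⁻¹ᵁ W).toScheme ⟶ W.toScheme :=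
  IsOpenImmersion.lift W.ι ((G.s ⁻¹ᵁ W).ι ≫ G.t) (range_t_subset G W hW)

theorem tW_ι : tW G W hW ≫ W.ι = (G.s ⁻¹ᵁ W).ι ≫ G.t := IsOpenImmersion.lift_fac _ _ _

/-- the restricted identity. -/
noncomputable def eW : W.toScheme ⟶ (G.s ⁻¹ᵁ W).toScheme :=
  IsOpenImmersion.lift (G.s ⁻¹ᵁ W).ι (W.ι ≫ G.e) (range_e_subset G W)

theorem eW_ι : eW G W ≫ (G.s ⁻¹ᵁ W).ι = W.ι ≫ G.e := IsOpenImmersion.lift_fac _ _ _

/-- the restricted inverse. -/
noncomputable def iW : (G.s ⁻¹ᵁ W).toScheme ⟶ (G.s ⁻¹ᵁ W).toScheme :=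
  IsOpenImmersion.lift (G.s ⁻¹ᵁ W).ι ((G.s ⁻¹ᵁ W).ι ≫ G.i) (range_i_subset G W hW)

theorem iW_ι : iW G W hW ≫ (G.s ⁻¹ᵁ W).ι = (G.s ⁻¹ᵁ W).ι ≫ G.i := IsOpenImmersion.lift_fac _ _ _

/-- the map on fibre products. -/
noncomputable def prodW : pullback (G.s ∣_ W) (tW G W hW) ⟶ pullback G.s G.t :=
  pullback.map (G.s ∣_ W) (tW G W hW) G.s G.t (G.s ⁻¹ᵁ W).ι (G.s ⁻¹ᵁ W).ι W.ι
    (morphismRestrict_ι G.s W) (tW_ι G W hW)

theorem range_c_subset :
    Set.range (prodW G W hW ≫ G.c) ⊆ Set.range (G.s ⁻¹ᵁ W).ι := by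
  rintro _ ⟨z, rfl⟩
  rw [Scheme.Opens.range_ι]
  show G.s ((prodW G W hW ≫ G.c) z) ∈ W
  have h1 := congrArg (fun φ : pullback (G.s ∣_ W) (tW G W hW) ⟶ G.U => φ z)
    (show (prodW G W hW ≫ G.c) ≫ G.s =
      pullback.snd (G.s ∣_ W) (tW G W hW) ≫ (G.s ⁻¹ᵁ W).ι ≫ G.s by
      rw [Category.assoc, Groth.Agent.S1880.c_s, prodW, pullback.lift_snd_assoc, Category.assoc])
  simp only [Scheme.Hom.comp_apply] at h1
  rw [Scheme.Hom.comp_apply, h1]
  exact (pullback.snd (G.s ∣_ W) (tW G W hW) z).2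

/-- the restricted composition. -/
noncomputable def cW : pullback (G.s ∣_ W) (tW G W hW) ⟶ (G.s ⁻¹ᵁ W).toScheme :=
  IsOpenImmersion.lift (G.s ⁻¹ᵁ W).ι (prodW G W hW ≫ G.c) (range_c_subset G W hW)

theorem cW_ι : cW G W hW ≫ (G.s ⁻¹ᵁ W).ι = prodW G W hW ≫ G.c := IsOpenImmersion.lift_fac _ _ _

/-- the restriction of a groupoid scheme to an invariant open. -/
noncomputable def restr : Grpd.GroupoidScheme S :=
  monoGroupoid G W.ι (G.s ⁻¹ᵁ W).ι (G.s ∣_ W) (tW G W hW) (morphismRestrict_ι G.s W)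
    (tW_ι G W hW) (cW G W hW) (cW_ι G W hW) (eW G W) (eW_ι G W) (iW G W hW) (iW_ι G W hW)

theorem restr_s_ι : (restr G W hW).s ≫ W.ι = (G.s ⁻¹ᵁ W).ι ≫ G.s := morphismRestrict_ι G.s W

theorem restr_t_ι : (restr G W hW).t ≫ W.ι = (G.s ⁻¹ᵁ W).ι ≫ G.t := tW_ι G W hW

instance restr_isFinite_s [IsFinite G.s] : IsFinite (restr G W hW).s :=
  inferInstanceAs (IsFinite (G.s ∣_ W))

instance restr_flat_s [Flat G.s] : Flat (restr G W hW).s :=
  inferInstanceAs (Flat (G.s ∣_ W))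

instance restr_lofp_s [LocallyOfFinitePresentation G.s] :
    LocallyOfFinitePresentation (restr G W hW).s :=
  inferInstanceAs (LocallyOfFinitePresentation (G.s ∣_ W))

theorem restr_isAffine_U (hWa : IsAffineOpen W) : IsAffine (restr G W hW).U := hWa

theorem restr_isAffine_R [IsAffineHom G.s] (hWa : IsAffineOpen W) : IsAffine (restr G W hW).R :=
  hWa.preimage G.s

theorem sW_apply (r : (G.s ⁻¹ᵁ W).toScheme) : ((G.s ∣_ W) r).1 = G.s r.1 := by
  simp

theorem tW_apply (r : (G.s ⁻¹ᵁ W).toScheme) : ((tW G W hW) r).1 = G.t r.1 := by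
  have := congrArg (fun φ : (G.s ⁻¹ᵁ W).toScheme ⟶ G.U => φ r) (tW_ι G W hW)
  simpa [Scheme.Hom.comp_apply] using this

/-- orbits of the restriction. -/
theorem orb_restr_iff (x x' : W.toScheme) :
    Orb (restr G W hW) x x' ↔ Orb G x.1 x'.1 := by
  constructor
  · rintro ⟨r, hs, ht⟩
    have hs' : (G.s ∣_ W) r = x := hs
    have ht' : (tW G W hW) r = x' := ht
    refine ⟨r.1, ?_, ?_⟩
    · rw [← sW_apply, hs']
    · rw [← tW_apply G W hW, ht']
  · rintro ⟨r, hs, ht⟩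
    have hr : r ∈ G.s ⁻¹ᵁ W := by
      show G.s r ∈ W
      rw [hs]; exact x.2
    refine ⟨⟨r, hr⟩, ?_, ?_⟩
    · show (G.s ∣_ W) ⟨r, hr⟩ = x
      apply Subtype.ext
      rw [sW_apply]
      exact hs
    · show (tW G W hW) ⟨r, hr⟩ = x'
      apply Subtype.ext
      rw [tW_apply]
      exact ht

end Restr

end Groth.Agent.Lib.H5bGQ
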