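import Mathlib

/-!
# Avoiding finitely many proper submodules; simultaneous bases (helper5)

`exists_notMem_of_units`: over a ring with infinitely many elements whose pairwise differences are
units, a module is not a finite union of proper submodules.
`exists_fin_linearIndependent`: simultaneous choice of `r` vectors of a `C`-module `W` whose images
under finitely many `C`-linear maps `T i : W → V i` into `r`-dimensional vector spaces (over varying
fields) spanned by the images are bases.
-/

set_option autoImplicit false
set_option linter.style.haveILetI false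
set_option linter.unusedSectionVars false
set_option linter.unusedSimpArgs false

namespace Groth.Agent.Lib.H5bRG

theorem exists_notMem_of_units {C W : Type*} [CommRing C] [AddCommGroup W] [Module C W]
    (c : ℕ → C) (hc : ∀ k l, k ≠ l → IsUnit (c k - c l)) (s : Finset (Submodule C W))
    (hs : ∀ H ∈ s, H ≠ ⊤) : ∃ w, ∀ H ∈ s, w ∉ H := by
  classical
  induction s using Finset.induction_on with
  | empty => exact ⟨0, fun H hH => absurd hH (Finset.notMem_empty H)⟩
  | insert H₁ s' hH₁ ih =>
    obtain ⟨v, hv⟩ := ih (fun H hH => hs H (Finset.mem_insert_of_mem hH))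
    by_cases hv1 : v ∈ H₁
    · have hH₁top : H₁ ≠ ⊤ := hs H₁ (Finset.mem_insert_self _ _)
      obtain ⟨w, hw⟩ : ∃ w, w ∉ H₁ := by
        by_contra hcon
        push Not at hcon
        exact hH₁top (eq_top_iff.mpr fun x _ => hcon x)
      have hk : ∃ k, ∀ H ∈ s', w + c k • v ∉ H := by
        by_contra hcon
        push Not at hcon
        choose F hF1 hF2 using hcon
        have : Finite (s' : Set (Submodule C W)) := Finset.finite_toSet s'
        obtain ⟨k, l, hkl, hFkl⟩ := Finite.exists_ne_map_eq_of_infinite
          (fun k : ℕ => (⟨F k, hF1 k⟩ : (s' : Set (Submodule C W))))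
        have hFkl' : F k = F l := congrArg Subtype.val hFkl
        have h1 : w + c k • v ∈ F k := hF2 k
        have h2 : w + c l • v ∈ F k := hFkl' ▸ hF2 l
        have h3 : (c k - c l) • v ∈ F k := by
          have := (F k).sub_mem h1 h2
          rwa [add_sub_add_left_eq_sub, ← sub_smul] at this
        obtain ⟨u, hu⟩ := hc k l hkl
        have h4 : v ∈ F k := by
          have := (F k).smul_mem (↑u⁻¹ : C) h3
          rwa [← hu, smul_smul, Units.inv_mul, one_smul] at this
        exact hv (F k) (hF1 k) h4
      obtain ⟨k, hk⟩ := hk
      refine ⟨w + c k • v, fun H hH => ?_⟩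
      rcases Finset.mem_insert.mp hH with rfl | hH'
      · intro hmem
        exact hw (by simpa using H.sub_mem hmem (H.smul_mem (c k) hv1))
      · exact hk H hH'
    · refine ⟨v, fun H hH => ?_⟩
      rcases Finset.mem_insert.mp hH with rfl | hH'
      · exact hv1
      · exact hv H hH'

theorem exists_fin_linearIndependent {C W : Type*} [CommRing C] [AddCommGroup W] [Module C W]
    (c : ℕ → C) (hc : ∀ k l, k ≠ l → IsUnit (c k - c l))
    {ι : Type*} [Finite ι] (κ : ι → Type*) [∀ i, Field (κ i)] [∀ i, Algebra C (κ i)]
    (V : ι → Type*) [∀ i, AddCommGroup (V i)] [∀ i, Module (κ i) (V i)] [∀ i, Module C (V i)]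
    [∀ i, IsScalarTower C (κ i) (V i)] [∀ i, Module.Finite (κ i) (V i)]
    (T : ∀ i, W →ₗ[C] V i) (hT : ∀ i, Submodule.span (κ i) (Set.range (T i)) = ⊤)
    (r : ℕ) (hr : ∀ i, Module.finrank (κ i) (V i) = r) :
    ∃ x : Fin r → W, ∀ i, LinearIndependent (κ i) (fun j => T i (x j)) := by
  classical
  have key : ∀ j, j ≤ r → ∃ x : Fin j → W, ∀ i, LinearIndependent (κ i) (fun l => T i (x l)) := by
    intro j
    induction j with
    | zero => intro _; exact ⟨Fin.elim0, fun i => linearIndependent_empty_type⟩
    | succ j ih =>
      intro hj
      obtain ⟨x, hx⟩ := ih (Nat.le_of_succ_le hj)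
      have : Fintype ι := Fintype.ofFinite ι
      let H : ι → Submodule C W := fun i =>
        ((Submodule.span (κ i) (Set.range fun l => T i (x l))).restrictScalars C).comap (T i)
      have hH : ∀ K ∈ Finset.univ.image H, K ≠ ⊤ := by
        intro K hK
        obtain ⟨i, -, rfl⟩ := Finset.mem_image.mp hK
        intro htop
        have h1 : Set.range (T i) ⊆ Submodule.span (κ i) (Set.range fun l => T i (x l)) := by
          rintro _ ⟨w, rfl⟩
          have : w ∈ H i := htop ▸ Submodule.mem_top
          exact this
        have h2 : (⊤ : Submodule (κ i) (V i)) ≤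
            Submodule.span (κ i) (Set.range fun l => T i (x l)) := by
          rw [← hT i]
          exact Submodule.span_le.mpr h1
        have h3 : Module.finrank (κ i) (V i) ≤ j := by
          have h4 := finrank_span_le_card (R := κ i) (Set.range fun l => T i (x l))
          rw [eq_top_iff.mpr h2, finrank_top] at h4
          refine h4.trans ?_
          rw [Set.toFinset_range]
          exact (Finset.card_image_le).trans (by simp)
        rw [hr i] at h3
        omega
      obtain ⟨w, hw⟩ := exists_notMem_of_units c hc (Finset.univ.image H) hH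
      refine ⟨Fin.cons w x, fun i => ?_⟩
      have e : (fun l => T i ((Fin.cons w x : Fin (j + 1) → W) l)) =
          Fin.cons (T i w) (fun l => T i (x l)) := by
        funext l
        refine Fin.cases ?_ (fun l' => ?_) l <;> simp
      rw [e, linearIndependent_finCons]
      refine ⟨hx i, ?_⟩
      have := hw (H i) (Finset.mem_image.mpr ⟨i, Finset.mem_univ _, rfl⟩)
      exact this
  exact key r le_rfl

end Groth.Agent.Lib.H5bRG
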