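import Mathlib
import Groth.Agent.Lib.H5bRG
import Groth.Agent.S7486

/-!
# Invariants of ring groupoids commute with flat base change; the basis lemma over `C` (helper5)
-/

set_option autoImplicit false
set_option linter.style.haveILetI false
set_option linter.unusedSectionVars false
set_option linter.unusedSimpArgs false
universe u

open CategoryTheory CategoryTheory.Limits TensorProduct

namespace Groth.Agent.Lib.H5bRG

namespace RG

variable {C A B D : Type u} [CommRing C] [CommRing A] [CommRing B] [CommRing D]
  [Algebra C A] [Algebra C B] [Algebra C D] {h : RG C A B D}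

/-- invariants commute with flat base change. -/
theorem IsExact.baseChange (he : h.IsExact) (C' : Type u) [CommRing C'] [Algebra C C']
    [Module.Flat C C'] : (h.baseChange C').IsExact := by
  refine ⟨?_, ?_⟩
  · exact Algebra.TensorProduct.includeLeft_injective (S := C') he.inj
  · intro x hx
    let f : C →ₗ[C] A := Algebra.linearMap C A
    let g : A →ₗ[C] B := h.σ.toLinearMap - h.τ.toLinearMap
    have hex : Function.Exact f g := by
      intro a
      constructor
      · intro ha
        have : h.σ a = h.τ a := by
          have : h.σ a - h.τ a = 0 := ha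
          exact sub_eq_zero.mp this
        exact he.inv a this
      · rintro ⟨c, rfl⟩
        show h.σ (algebraMap C A c) - h.τ (algebraMap C A c) = 0
        rw [AlgHom.commutes, AlgHom.commutes, sub_self]
    have hex' := Module.Flat.lTensor_exact C' hex
    have hgx : g.lTensor C' x = 0 := by
      have h1 : g.lTensor C' = (h.σ.toLinearMap).lTensor C' - (h.τ.toLinearMap).lTensor C' :=
        LinearMap.lTensor_sub _ _
      rw [h1, LinearMap.sub_apply, sub_eq_zero]
      have h2 : ∀ (k : A →ₐ[C] B) (y : C' ⊗[C] A), (k.toLinearMap).lTensor C' y = bc C' k y := by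
        intro k y
        induction y using TensorProduct.induction_on with
        | zero => simp
        | tmul c a => simp [bc]
        | add y z hy hz => simp only [map_add, hy, hz]
      rw [h2, h2]
      exact hx
    obtain ⟨y, rfl⟩ := (hex' x).mp hgx
    refine ⟨TensorProduct.rid C C' y, ?_⟩
    clear hx hgx
    induction y using TensorProduct.induction_on with
    | zero => simp
    | tmul c' c =>
      simp only [TensorProduct.rid_tmul, LinearMap.lTensor_tmul, f, Algebra.linearMap_apply]
      rw [Algebra.TensorProduct.algebraMap_apply, Algebra.algebraMap_self, RingHom.id_apply,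
        Algebra.algebraMap_eq_smul_one c, TensorProduct.tmul_smul, TensorProduct.smul_tmul']
    | add y z hy hz => simp only [map_add, hy, hz]

/-- If `B` has an `A`-basis (through `σ`) of the form `τ (x i)`, and `C` is the ring of invariants,
then the `x i` form a `C`-basis of `A` and `A ⊗[C] A → B` is bijective. -/
theorem basis_of_basis (he : h.IsExact) {I : Type u} (x : I → A)
    (hB : letI := (h.σ : A →+* B).toAlgebra;
      ∃ b : Module.Basis I A B, ∀ i, b i = h.τ (x i)) :
    (∃ b : Module.Basis I C A, ∀ i, b i = x i) ∧ Function.Bijective h.φ := by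
  let σ : A →+* B := h.σ
  let τ : A →+* B := h.τ
  let ε : B →+* A := h.ε
  let p0 : B →+* D := h.p0
  let p1 : B →+* D := h.p1
  let c : B →+* D := h.c
  have LI_D : ∀ f g : I →₀ B, (f.sum fun i β => p1 β * p0 (τ (x i))) =
      (g.sum fun i β => p1 β * p0 (τ (x i))) → f = g := by
    intro f g hfg
    exact Groth.Agent.S7486.li_of_isPushout h.po1 (fun i => τ (x i)) hB f g hfg
  have hBB := hB
  letI := (h.σ : A →+* B).toAlgebra
  obtain ⟨b, hb⟩ := hBB
  have hlc : ∀ f : I →₀ A, Finsupp.linearCombination A b f =
      f.sum fun i a => σ a * τ (x i) := by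
    intro f
    rw [Finsupp.linearCombination_apply]
    refine Finsupp.sum_congr fun i _ => ?_
    rw [hb, Algebra.smul_def]
    rfl
  have LI_B : ∀ f g : I →₀ A, (f.sum fun i a => σ a * τ (x i)) =
      (g.sum fun i a => σ a * τ (x i)) → f = g := by
    intro f g hfg
    rw [← hlc, ← hlc] at hfg
    have := congrArg b.repr hfg
    simpa using this
  have SP_B : ∀ β : B, ∃ f : I →₀ A, β = f.sum fun i a => σ a * τ (x i) := by
    intro β
    refine ⟨b.repr β, ?_⟩
    rw [← hlc, Module.Basis.linearCombination_repr]
  -- every element of `A` is a `C`-combination of the `x i`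
  have hrepA : ∀ a : A, ∃ g : I →₀ C, a = g.sum fun i r => r • x i := by
    intro a
    obtain ⟨f, hf1, hf2⟩ := Groth.Agent.S7486.exists_repr σ τ ε p0 p1 c h.hεσ h.hετ h.hcτ h.hcσ h.hp x
      SP_B LI_D a
    have hc : ∀ i, ∃ r : C, algebraMap C A r = f i := fun i => he.inv (f i) (hf1 i)
    choose r hr using hc
    have hr0 : ∀ i, f i = 0 → r i = 0 := by
      intro i hi
      apply he.inj
      rw [hr, hi, map_zero]
    refine ⟨Finsupp.onFinset f.support r (fun i hi => by
      rw [Finsupp.mem_support_iff]
      exact fun h0 => hi (hr0 i h0)), ?_⟩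
    rw [hf2, Finsupp.sum, Finsupp.sum]
    have hsupp : (Finsupp.onFinset f.support r (fun i hi => by
      rw [Finsupp.mem_support_iff]
      exact fun h0 => hi (hr0 i h0))).support ⊆ f.support := Finsupp.support_onFinset_subset
    rw [Finset.sum_subset hsupp]
    · refine Finset.sum_congr rfl fun i _ => ?_
      rw [Finsupp.onFinset_apply, Algebra.smul_def, hr]
    · intro i _ hi
      rw [Finsupp.notMem_support_iff] at hi
      rw [hi, zero_smul]
  have hτC : ∀ (r : C) (a : A), τ (r • a) = σ (algebraMap C A r) * τ a := by
    intro r a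
    rw [Algebra.smul_def, map_mul]
    congr 1
    show h.τ (algebraMap C A r) = h.σ (algebraMap C A r)
    rw [AlgHom.commutes, AlgHom.commutes]
  refine ⟨?_, ?_⟩
  · have hli : LinearIndependent C x := by
      rw [linearIndependent_iff]
      intro l hl
      rw [Finsupp.linearCombination_apply] at hl
      let f : I →₀ A := l.mapRange (algebraMap C A) (map_zero _)
      have h1 : (f.sum fun i a => σ a * τ (x i)) = ((0 : I →₀ A).sum fun i a => σ a * τ (x i)) := by
        rw [Finsupp.sum_zero_index, Finsupp.sum_mapRange_index (by intro i; simp)]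
        have := congrArg τ hl
        rw [map_zero, map_finsuppSum] at this
        rw [← this]
        refine Finsupp.sum_congr fun i _ => ?_
        rw [hτC]
      have h2 := LI_B _ _ h1
      ext i
      have := DFunLike.congr_fun h2 i
      apply he.inj
      simpa [f] using this
    have hsp : ⊤ ≤ Submodule.span C (Set.range x) := by
      intro a _
      obtain ⟨g, rfl⟩ := hrepA a
      refine Submodule.sum_mem _ fun i _ => ?_
      exact Submodule.smul_mem _ _ (Submodule.subset_span ⟨i, rfl⟩)
    exact ⟨Module.Basis.mk hli hsp, fun i => Module.Basis.mk_apply hli hsp i⟩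
  · have hrepr : ∀ z : A ⊗[C] A, ∃ g : I →₀ A, z = g.sum fun i a => x i ⊗ₜ[C] a := by
      intro z
      induction z using TensorProduct.induction_on with
      | zero => exact ⟨0, by simp⟩
      | tmul a a' =>
        obtain ⟨g, rfl⟩ := hrepA a
        refine ⟨g.mapRange (fun r => r • a') (zero_smul _ a'), ?_⟩
        rw [Finsupp.sum_mapRange_index (by intro i; simp)]
        rw [Finsupp.sum, TensorProduct.sum_tmul]
        refine Finset.sum_congr rfl fun i _ => ?_
        rw [TensorProduct.smul_tmul]
      | add z w hz hw =>
        obtain ⟨g1, rfl⟩ := hz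
        obtain ⟨g2, rfl⟩ := hw
        refine ⟨g1 + g2, ?_⟩
        rw [Finsupp.sum_add_index' (by intro i; simp) (by intro i a b; rw [TensorProduct.tmul_add])]
    have hφsum : ∀ g : I →₀ A, h.φ (g.sum fun i a => x i ⊗ₜ[C] a) =
        g.sum fun i a => σ a * τ (x i) := by
      intro g
      rw [map_finsuppSum]
      refine Finsupp.sum_congr fun i _ => ?_
      rw [φ_tmul, mul_comm]
      rfl
    constructor
    · rw [injective_iff_map_eq_zero]
      intro z hz
      obtain ⟨g, rfl⟩ := hrepr z
      rw [hφsum] at hz
      have h0 : g = 0 := LI_B g 0 (by rw [hz, Finsupp.sum_zero_index])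
      rw [h0, Finsupp.sum_zero_index]
    · intro β
      obtain ⟨g, hg⟩ := SP_B β
      exact ⟨g.sum fun i a => x i ⊗ₜ[C] a, by rw [hφsum, hg]⟩

end RG

end Groth.Agent.Lib.H5bRG
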