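import Mathlib
import Groth.Agent.Lib.H5bRG
import Groth.Agent.Lib.H5bRGChar
import Groth.Agent.Lib.H5bRGFlat
import Groth.Agent.Lib.H5bRGAvoid

/-!
# Ring groupoids over a local base with infinite residue field: a basis of `B` of the form `τ(x_i)`
(helper5)
-/

set_option autoImplicit false
set_option linter.style.haveILetI false
set_option linter.unusedSectionVars false
set_option linter.unusedSimpArgs false
universe u

open CategoryTheory CategoryTheory.Limits TensorProduct Polynomial
open Groth.Agent.Lib.Helper2.RetCharpoly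

namespace Groth.Agent.Lib.H5bRG

namespace RG

variable {C A B D : Type u} [CommRing C] [CommRing A] [CommRing B] [CommRing D]
  [Algebra C A] [Algebra C B] [Algebra C D] (h : RG C A B D)

/-- for an exact ring groupoid, `A` is integral over `C`. -/
theorem isIntegral_of_isExact (he : h.IsExact) : Algebra.IsIntegral C A := by
  obtain ⟨n, hn⟩ := h.exists_isRCP
  constructor
  intro a
  rcases subsingleton_or_nontrivial A with hA | hA
  · rw [Subsingleton.elim a 0]
    exact isIntegral_zero
  obtain ⟨χ, hχ⟩ := hn (h.τ a)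
  have hmonic : χ.Monic := by
    letI := (h.σ : A →+* B).toAlgebra
    exact hχ.monic
  have hl : χ ∈ Polynomial.lifts (algebraMap C A) := by
    rw [Polynomial.lifts_iff_coeff_lifts]
    intro k
    exact he.inv _ (h.coeff_mem_Inv n a χ hχ k)
  obtain ⟨q, hq1, -, hq3⟩ := Polynomial.lifts_and_degree_eq_and_monic hl hmonic
  refine ⟨q, hq3, ?_⟩
  rw [← Polynomial.eval_map, hq1]
  exact h.eval_cp n a χ hχ

theorem comap_eq_maximalIdeal [IsLocalRing C] (he : h.IsExact) (m : Ideal A) [m.IsMaximal] :
    m.comap (algebraMap C A) = IsLocalRing.maximalIdeal C := by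
  have := h.isIntegral_of_isExact he
  have : (m.comap (algebraMap C A)).IsMaximal := Ideal.isMaximal_comap_of_isIntegral_of_isMaximal m
  exact IsLocalRing.eq_maximalIdeal this

theorem exists_prime_of_maximal [IsLocalRing C] (he : h.IsExact) (m m₁ : Ideal A) [m.IsMaximal]
    [m₁.IsMaximal] :
    ∃ q : Ideal B, q.IsPrime ∧ q.comap (h.τ : A →+* B) = m ∧ q.comap (h.σ : A →+* B) = m₁ := by
  apply h.exists_prime_orbit m m₁
  intro a ha
  obtain ⟨c, rfl⟩ := he.inv a ha
  rw [← Ideal.mem_comap, ← Ideal.mem_comap, h.comap_eq_maximalIdeal he m,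
    h.comap_eq_maximalIdeal he m₁]

theorem finite_maximalSpectrum [IsLocalRing C] (he : h.IsExact) : Finite (MaximalSpectrum A) := by
  classical
  by_cases hne : Nonempty (MaximalSpectrum A)
  · obtain ⟨m₁⟩ := hne
    letI := (h.σ : A →+* B).toAlgebra
    have hfin : Module.Finite A B := h.fin
    have hQfin : (m₁.asIdeal.primesOver B).Finite := Algebra.QuasiFinite.finite_primesOver _
    have hfin2 : ((fun q : Ideal B => q.comap (h.τ : A →+* B)) '' (m₁.asIdeal.primesOver B)).Finite :=
      hQfin.image _
    have hmem : ∀ m : MaximalSpectrum A, m.asIdeal ∈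
        ((fun q : Ideal B => q.comap (h.τ : A →+* B)) '' (m₁.asIdeal.primesOver B)) := by
      intro m
      obtain ⟨q, hq, hqτ, hqσ⟩ := h.exists_prime_of_maximal he m.asIdeal m₁.asIdeal
      exact ⟨q, ⟨hq, ⟨hqσ.symm⟩⟩, hqτ⟩
    have := hfin2.to_subtype
    refine Finite.of_injective (fun m : MaximalSpectrum A =>
      (⟨m.asIdeal, hmem m⟩ : ((fun q : Ideal B => q.comap (h.τ : A →+* B)) ''
        (m₁.asIdeal.primesOver B)))) ?_
    intro m m' hmm
    have : m.asIdeal = m'.asIdeal := congrArg Subtype.val hmm
    exact MaximalSpectrum.ext this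
  · have : IsEmpty (MaximalSpectrum A) := not_nonempty_iff.mp hne
    infer_instance

theorem finrank_comap_eq (q : PrimeSpectrum B) :
    (h.σ : A →+* B).finrank (PrimeSpectrum.comap (h.τ : A →+* B) q) =
      (h.σ : A →+* B).finrank (PrimeSpectrum.comap (h.σ : A →+* B) q) := by
  have h1 := CommRingCat.finrank_eq_of_isPushout h.po1 h.flat h.fin q
  have h2 := CommRingCat.finrank_eq_of_isPushout h.po2 h.flat h.fin q
  exact h1.symm.trans h2

/-- a sequence with unit differences in a local ring with infinite residue field. -/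
theorem exists_units_seq [IsLocalRing C] [Infinite (IsLocalRing.ResidueField C)] :
    ∃ c : ℕ → C, ∀ k l, k ≠ l → IsUnit (c k - c l) := by
  let e := Infinite.natEmbedding (IsLocalRing.ResidueField C)
  choose c hc using fun k => IsLocalRing.residue_surjective (e k)
  refine ⟨c, fun k l hkl => ?_⟩
  rw [← IsLocalRing.residue_ne_zero_iff_isUnit, map_sub, hc, hc, sub_ne_zero]
  exact fun he => hkl (e.injective he)

section Local

variable [IsLocalRing C] [Infinite (IsLocalRing.ResidueField C)]

theorem exists_basis_of_isLocalRing (he : h.IsExact) (hg : h.IsGen) :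
    ∃ (r : ℕ) (x : Fin r → A), letI := (h.σ : A →+* B).toAlgebra;
      ∃ b : Module.Basis (Fin r) A B, ∀ i, b i = h.τ (x i) := by
  classical
  letI := (h.σ : A →+* B).toAlgebra
  have hfin : Module.Finite A B := h.fin
  have hflat : Module.Flat A B := h.flat
  haveI : IsScalarTower C A B := IsScalarTower.of_algebraMap_eq (fun c => (h.σ.commutes c).symm)
  obtain ⟨c, hc⟩ := exists_units_seq (C := C)
  have hfinM := h.finite_maximalSpectrum he
  have hnt : Nontrivial A := he.inj.nontrivial
  obtain ⟨m₁, hm₁⟩ := Ideal.exists_maximal A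
  let r := Module.rankAtStalk (R := A) B ⟨m₁, hm₁.isPrime⟩
  have hrank : ∀ m : MaximalSpectrum A, Module.rankAtStalk (R := A) B m.toPrimeSpectrum = r := by
    intro m
    obtain ⟨q, hq, hqτ, hqσ⟩ := h.exists_prime_of_maximal he m.asIdeal m₁
    have := h.finrank_comap_eq ⟨q, hq⟩
    have e1 : PrimeSpectrum.comap (h.τ : A →+* B) ⟨q, hq⟩ = m.toPrimeSpectrum :=
      PrimeSpectrum.ext hqτ
    have e2 : PrimeSpectrum.comap (h.σ : A →+* B) ⟨q, hq⟩ = ⟨m₁, hm₁.isPrime⟩ :=
      PrimeSpectrum.ext hqσ
    rw [e1, e2] at this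
    exact this
  -- the maps `T m`
  let T : ∀ m : MaximalSpectrum A, A →ₗ[C] (m.asIdeal.ResidueField ⊗[A] B) := fun m =>
    ((TensorProduct.mk A m.asIdeal.ResidueField B 1).restrictScalars C).comp h.τ.toLinearMap
  have hTapp : ∀ (m : MaximalSpectrum A) (a : A),
      T m a = (1 : m.asIdeal.ResidueField) ⊗ₜ[A] h.τ a := fun m a => rfl
  have hT : ∀ m : MaximalSpectrum A,
      Submodule.span m.asIdeal.ResidueField (Set.range (T m)) = ⊤ := by
    intro m
    have hb : ∀ b : B, (1 : m.asIdeal.ResidueField) ⊗ₜ[A] b ∈
        Submodule.span m.asIdeal.ResidueField (Set.range (T m)) := by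
      intro b
      obtain ⟨w, rfl⟩ := hg b
      induction w using TensorProduct.induction_on with
      | zero => simp
      | add z w hz hw =>
        rw [map_add, TensorProduct.tmul_add]
        exact Submodule.add_mem _ hz hw
      | tmul a a' =>
        rw [φ_tmul]
        have h2 : h.τ a * h.σ a' = a' • h.τ a := by
          rw [Algebra.smul_def, mul_comm]
          rfl
        have h3 : (1 : m.asIdeal.ResidueField) ⊗ₜ[A] (a' • h.τ a) =
            (algebraMap A m.asIdeal.ResidueField a') • ((1 : m.asIdeal.ResidueField) ⊗ₜ[A] h.τ a) := by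
          rw [TensorProduct.smul_tmul', smul_eq_mul, mul_one, ← TensorProduct.smul_tmul,
            Algebra.algebraMap_eq_smul_one]
        rw [h2, h3]
        exact Submodule.smul_mem _ _ (Submodule.subset_span ⟨a, rfl⟩)
    rw [eq_top_iff]
    intro z _
    induction z using TensorProduct.induction_on with
    | zero => exact Submodule.zero_mem _
    | add z w hz hw => exact Submodule.add_mem _ (hz trivial) (hw trivial)
    | tmul k b =>
      have h1 : k ⊗ₜ[A] b = k • ((1 : m.asIdeal.ResidueField) ⊗ₜ[A] b) := by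
        rw [TensorProduct.smul_tmul', smul_eq_mul, mul_one]
      rw [h1]
      exact Submodule.smul_mem _ _ (hb b)
  have hr : ∀ m : MaximalSpectrum A,
      Module.finrank m.asIdeal.ResidueField (m.asIdeal.ResidueField ⊗[A] B) = r := by
    intro m
    rw [← hrank m, Module.rankAtStalk_eq]
    rfl
  obtain ⟨x, hx⟩ := exists_fin_linearIndependent c hc
    (κ := fun m : MaximalSpectrum A => m.asIdeal.ResidueField)
    (V := fun m : MaximalSpectrum A => m.asIdeal.ResidueField ⊗[A] B) T hT r hr
  have hspan : ∀ m : MaximalSpectrum A,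
      Submodule.span m.asIdeal.ResidueField (Set.range fun j => T m (x j)) = ⊤ := by
    intro m
    exact (hx m).span_eq_top_of_card_eq_finrank' (by rw [Fintype.card_fin, hr m])
  let N : Submodule A B := Submodule.span A (Set.range fun j => h.τ (x j))
  have hN : N = ⊤ := by
    have hsub : Subsingleton (B ⧸ N) := by
      rw [← Module.support_eq_empty_iff (R := A)]
      by_contra hne
      obtain ⟨p, hp⟩ := Set.nonempty_iff_ne_empty.mpr hne
      obtain ⟨m, hm, hpm⟩ := p.asIdeal.exists_le_maximal p.2.ne_top
      let M : MaximalSpectrum A := ⟨m, hm⟩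
      have hM : M.toPrimeSpectrum ∈ Module.support A (B ⧸ N) :=
        Module.mem_support_mono (q := M.toPrimeSpectrum) hpm hp
      rw [Module.mem_support_iff_nontrivial_residueField_tensorProduct] at hM
      have hss : Subsingleton (M.asIdeal.ResidueField ⊗[A] (B ⧸ N)) := by
        let g : M.asIdeal.ResidueField ⊗[A] B →ₗ[M.asIdeal.ResidueField]
            M.asIdeal.ResidueField ⊗[A] (B ⧸ N) := (N.mkQ).baseChange M.asIdeal.ResidueField
        have hgs : Function.Surjective g :=
          LinearMap.lTensor_surjective _ N.mkQ_surjective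
        have hg0 : g = 0 := by
          apply LinearMap.ext_on (hspan M)
          rintro _ ⟨j, rfl⟩
          show g ((1 : M.asIdeal.ResidueField) ⊗ₜ[A] h.τ (x j)) = 0
          simp only [g, LinearMap.baseChange_tmul, Submodule.mkQ_apply]
          have : (Submodule.Quotient.mk (h.τ (x j)) : B ⧸ N) = 0 :=
            (Submodule.Quotient.mk_eq_zero N).mpr (Submodule.subset_span ⟨j, rfl⟩)
          rw [this, TensorProduct.tmul_zero]
        refine ⟨fun a b => ?_⟩
        obtain ⟨a', rfl⟩ := hgs a
        obtain ⟨b', rfl⟩ := hgs b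
        rw [hg0]
        rfl
      exact (not_nontrivial_iff_subsingleton.mpr hss) hM
    exact Submodule.Quotient.subsingleton_iff.mp hsub
  let f : (Fin r → A) →ₗ[A] B := Fintype.linearCombination A (fun j => h.τ (x j))
  have hfs : Function.Surjective f := by
    rw [← LinearMap.range_eq_top, Fintype.range_linearCombination]
    exact hN
  have hfb : Function.Bijective f := by
    refine Module.bijective_of_surjective_of_rankAtStalk_eq hfs (fun m hm => ?_)
    rw [Module.rankAtStalk_eq_finrank_of_free]
    have := hrank ⟨m, hm⟩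
    simp only [Pi.natCast_def, Module.finrank_fin_fun]
    exact this.symm
  refine ⟨r, x, ?_⟩
  let e : (Fin r → A) ≃ₗ[A] B := LinearEquiv.ofBijective f hfb
  refine ⟨(Pi.basisFun A (Fin r)).map e, fun i => ?_⟩
  simp [e, f]

end Local

end RG

end Groth.Agent.Lib.H5bRG
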