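import Mathlib
import Groth.Agent.Lib.Helper2RetCharpoly

/-!
# The rank polynomial of a retract of a finite free module (helper5)

For `r : Ret R S n` (`S` a retract of `R^n`), `emat r` is the idempotent matrix of `i ∘ p` and
`lam r = det (1 + (X - 1) • E)` is the rank polynomial (`∑ ε_k X^k` with `ε_k` the idempotent cutting
out the locus where `S` has rank `k`).  Evaluated at `x` it is the norm of multiplication by `x`.
-/

set_option autoImplicit false
set_option linter.style.haveILetI false
set_option linter.unusedSectionVars false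
set_option linter.unusedSimpArgs false
universe u

open CategoryTheory CategoryTheory.Limits TensorProduct Polynomial
open Groth.Agent.Lib.Helper2.RetCharpoly

namespace Groth.Agent.Lib.H5bRG

section Mat
variable {R : Type*} [CommRing R] {n : ℕ}

theorem one_add_smul_mul (E : Matrix (Fin n) (Fin n) R) (hE : E * E = E) (a b : R) :
    (1 + a • E) * (1 + b • E) = 1 + (a + b + a * b) • E := by
  rw [mul_add, add_mul, add_mul, one_mul, mul_one, one_mul, Matrix.smul_mul, Matrix.mul_smul, hE,
    smul_smul, add_smul, add_smul]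
  abel

theorem det_one_add_smul_mul (E : Matrix (Fin n) (Fin n) R) (hE : E * E = E) (x y : R) :
    (1 + (x - 1) • E).det * (1 + (y - 1) • E).det = (1 + (x * y - 1) • E).det := by
  rw [← Matrix.det_mul, one_add_smul_mul E hE]
  congr 3
  ring

end Mat

section Lam
variable {R S : Type*} [CommRing R] [AddCommGroup S] [Module R S] {n : ℕ}

/-- the idempotent matrix of `i ∘ p`. -/
noncomputable def emat (r : Ret R S n) : Matrix (Fin n) (Fin n) R :=
  LinearMap.toMatrix' (r.i ∘ₗ r.p)

theorem emat_mul_emat (r : Ret R S n) : emat r * emat r = emat r := by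
  unfold emat
  rw [← LinearMap.toMatrix'_comp]
  congr 1
  ext x j
  simp [r.pi_apply]

/-- the rank polynomial. -/
noncomputable def lam (r : Ret R S n) : R[X] :=
  (1 + (X - 1 : R[X]) • (emat r).map (C : R →+* R[X])).det

theorem lam_eval₂ (r : Ret R S n) {R' : Type*} [CommRing R'] (g : R →+* R') (x : R') :
    (lam r).eval₂ g x = (1 + (x - 1) • (emat r).map g).det := by
  have h1 : (lam r).eval₂ g x = eval₂RingHom g x (lam r) := rfl
  rw [h1, lam, RingHom.map_det]
  congr 1
  ext i j
  simp [Matrix.add_apply, Matrix.one_apply, Matrix.smul_apply, Matrix.map_apply]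
  split_ifs <;> simp

theorem emat_map_mul (r : Ret R S n) {R' : Type*} [CommRing R'] (g : R →+* R') :
    (emat r).map g * (emat r).map g = (emat r).map g := by
  rw [← Matrix.map_mul, emat_mul_emat]

theorem lam_eval₂_mul (r : Ret R S n) {R' : Type*} [CommRing R'] (g : R →+* R') (x y : R') :
    (lam r).eval₂ g x * (lam r).eval₂ g y = (lam r).eval₂ g (x * y) := by
  rw [lam_eval₂, lam_eval₂, lam_eval₂, det_one_add_smul_mul _ (emat_map_mul r g)]

theorem lam_eval₂_one (r : Ret R S n) {R' : Type*} [CommRing R'] (g : R →+* R') :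
    (lam r).eval₂ g 1 = 1 := by
  rw [lam_eval₂]
  simp

/-- if `S` has a unimodular element, the rank is nowhere zero. -/
theorem lam_coeff_zero (r : Ret R S n) (s₀ : S) (φ : S →ₗ[R] R) (hφ : φ s₀ = 1) :
    (lam r).coeff 0 = 0 := by
  have h0 : (lam r).coeff 0 = (lam r).eval₂ (RingHom.id R) 0 := by
    rw [Polynomial.eval₂_id, Polynomial.coeff_zero_eq_eval_zero]
  rw [h0, lam_eval₂]
  set M : Matrix (Fin n) (Fin n) R := 1 + ((0 : R) - 1) • (emat r).map (RingHom.id R) with hM
  let v : Fin n → R := r.i s₀
  have hv : M.mulVec v = 0 := by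
    have h1 : (emat r).map (RingHom.id R) = emat r := by
      ext i j; simp
    rw [hM, h1, Matrix.add_mulVec, Matrix.one_mulVec, Matrix.smul_mulVec]
    have h2 : (emat r).mulVec v = v := by
      unfold emat
      rw [LinearMap.toMatrix'_mulVec]
      simp [v, r.pi_apply]
    rw [h2]
    simp
  have h3 : M.det • v = 0 := by
    have h4 : (M.adjugate * M).mulVec v = 0 := by
      rw [← Matrix.mulVec_mulVec, hv, Matrix.mulVec_zero]
    rw [Matrix.adjugate_mul, Matrix.smul_mulVec, Matrix.one_mulVec] at h4
    exact h4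
  have h5 := congrArg (fun w => φ (r.p w)) h3
  simp only [map_smul, map_zero] at h5
  rw [show r.p v = s₀ from r.pi_apply s₀, hφ, smul_eq_mul, mul_one] at h5
  exact h5

end Lam

section Alg
variable {R S : Type*} [CommRing R] [CommRing S] [Algebra R S] {n : ℕ}

theorem toMatrix'_endo_lmul_algebraMap (r : Ret R S n) (x : R) :
    LinearMap.toMatrix' (r.endo (Algebra.lmul R S (algebraMap R S x))) = x • emat r := by
  have h1 : r.endo (Algebra.lmul R S (algebraMap R S x)) = x • (r.i ∘ₗ r.p) := by
    ext v j
    simp only [Ret.endo, LinearMap.comp_apply, Algebra.lmul_algebraMap, LinearMap.smul_apply,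
      Pi.smul_apply, smul_eq_mul, LinearMap.coe_single, Algebra.coe_lmul_eq_mul,
      LinearMap.mul_apply']
    rw [Algebra.lsmul_coe, map_smul]
    rfl
  rw [h1, map_smul]
  rfl

theorem cp_eval_neg_one (r : Ret R S n) (x : R) :
    (r.cp (Algebra.lmul R S (algebraMap R S x - 1))).eval (-1) =
      (-1) ^ n * (lam r).eval₂ (RingHom.id R) x := by
  have h1 : algebraMap R S x - 1 = algebraMap R S (x - 1) := by rw [map_sub, map_one]
  rw [h1]
  unfold Ret.cp
  rw [Matrix.eval_charpoly, toMatrix'_endo_lmul_algebraMap, lam_eval₂]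
  have h2 : (emat r).map (RingHom.id R) = emat r := by
    ext i j; simp
  rw [h2]
  have h3 : Matrix.scalar (Fin n) (-1 : R) - (x - 1) • emat r = -(1 + (x - 1) • emat r) := by
    ext i j
    by_cases hij : i = j
    · subst hij
      simp [Matrix.scalar_apply, Matrix.one_apply]
      ring
    · simp [Matrix.scalar_apply, Matrix.one_apply, hij]
  rw [h3, Matrix.det_neg, Fintype.card_fin]

end Alg

section BC
variable {R S T P : Type*} [CommRing R] [CommRing S] [CommRing T] [CommRing P]
  [Algebra R S] [Algebra R T] [Algebra S P] [Algebra T P] [Algebra R P]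
  [IsScalarTower R S P] [IsScalarTower R T P] [Algebra.IsPushout R T S P] {n : ℕ}

theorem bc_emat (r : Ret R S n) :
    emat (r.bc (T := T) (P := P)) = (emat r).map (algebraMap R T) := by
  ext j k
  unfold emat
  rw [Matrix.map_apply, LinearMap.toMatrix'_apply, LinearMap.toMatrix'_apply]
  simp only [LinearMap.comp_apply, Ret.bc]
  rw [Fintype.linearCombination_apply]
  have h1 : (∑ i, (Pi.single k (1 : T) : Fin n → T) i • algebraMap S P (r.p (Pi.single i 1))) =
      algebraMap S P (r.p (Pi.single k 1)) := by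
    rw [Finset.sum_eq_single k]
    · simp
    · intro i _ hik
      simp [hik]
    · intro hk
      exact (hk (Finset.mem_univ k)).elim
  rw [h1, lift_algebraMap]
  simp

theorem IsRCP.eval_neg_one (r : Ret R S n) (x : T) (χ : T[X])
    (hχ : IsRCP T P n (algebraMap T P x - 1) χ) :
    χ.eval (-1) = (-1) ^ n * (lam r).eval₂ (algebraMap R T) x := by
  have h1 : χ = (r.bc (T := T) (P := P)).cp (Algebra.lmul T P (algebraMap T P x - 1)) :=
    hχ.unique ⟨r.bc, rfl⟩
  rw [h1, cp_eval_neg_one, lam_eval₂, lam_eval₂, bc_emat]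
  congr 4

end BC

theorem eval_neg_one_cat {R S T P : CommRingCat.{u}} {f : R ⟶ S} {g : R ⟶ T} {inl : S ⟶ P}
    {inr : T ⟶ P} (h : IsPushout f g inl inr) (n : ℕ)
    (r : letI := f.hom.toAlgebra; Ret R S n) (x : T) (χ : (T : Type u)[X])
    (hχ : letI := inr.hom.toAlgebra; IsRCP T P n (inr.hom x - 1) χ) :
    χ.eval (-1) = (-1) ^ n * (letI := f.hom.toAlgebra; lam r).eval₂ g.hom x := by
  algebraize [f.hom, g.hom, inl.hom, inr.hom, inl.hom.comp f.hom]
  have : IsScalarTower R T P := .of_algebraMap_eq' <| congr($(h.1.1).hom)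
  have h1 : Algebra.IsPushout R S T P := CommRingCat.isPushout_iff_isPushout.mp h
  have h2 : Algebra.IsPushout R T S P := h1.symm
  exact IsRCP.eval_neg_one r x χ hχ

/-- existence of a retract of the same size after base change. -/
theorem ret_cat {R S T P : CommRingCat.{u}} {f : R ⟶ S} {g : R ⟶ T} {inl : S ⟶ P}
    {inr : T ⟶ P} (h : IsPushout f g inl inr) (n : ℕ)
    (r : letI := f.hom.toAlgebra; Ret R S n) :
    letI := inr.hom.toAlgebra; Nonempty (Ret T P n) := by
  algebraize [f.hom, g.hom, inl.hom, inr.hom, inl.hom.comp f.hom]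
  have : IsScalarTower R T P := .of_algebraMap_eq' <| congr($(h.1.1).hom)
  have h1 : Algebra.IsPushout R S T P := CommRingCat.isPushout_iff_isPushout.mp h
  have h2 : Algebra.IsPushout R T S P := h1.symm
  exact ⟨r.bc⟩

end Groth.Agent.Lib.H5bRG
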