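import Mathlib
import Groth.Agent.Lib.H5bRG
import Groth.Agent.Lib.H5bRGChar
import Groth.Agent.Lib.H5bRGFlat
import Groth.Agent.Lib.H5bRGLam

/-!
# The universal characteristic polynomial of a ring groupoid (helper5)

For an exact ring groupoid `h` over `C` (i.e. `C` is the ring of invariants), any `C`-algebra `C'` and any
`a' : C' ⊗ A`, the characteristic polynomial of `τ' a'` has coefficients coming from `C'`
(`RG.exists_poly_isRCP`), and the norm of an invariant element of `C' ⊗ A` comes from `C'`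
(`RG.exists_norm_mem`).
-/

set_option autoImplicit false
set_option linter.style.haveILetI false
set_option linter.unusedSectionVars false
set_option linter.unusedSimpArgs false
universe u

open CategoryTheory CategoryTheory.Limits TensorProduct Polynomial
open Groth.Agent.Lib.Helper2.RetCharpoly

namespace Groth.Agent.Lib.H5bRG

section Nat
variable {C : Type u} [CommRing C] {C₁ C' : Type u} [CommRing C₁] [CommRing C'] [Algebra C C₁]
  [Algebra C C'] (ev : C₁ →ₐ[C] C')

/-- change of the base-changing ring. -/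
noncomputable abbrev cb (A : Type u) [CommRing A] [Algebra C A] : C₁ ⊗[C] A →ₐ[C] C' ⊗[C] A :=
  Algebra.TensorProduct.map ev (AlgHom.id C A)

theorem cb_bc {A B : Type u} [CommRing A] [CommRing B] [Algebra C A] [Algebra C B]
    (f : A →ₐ[C] B) (x : C₁ ⊗[C] A) : cb ev B (bc C₁ f x) = bc C' f (cb ev A x) := by
  induction x using TensorProduct.induction_on with
  | zero => simp
  | tmul c a => simp [bc, cb]
  | add y z hy hz => simp only [map_add, hy, hz]

theorem isPushout_cb {A B : Type u} [CommRing A] [CommRing B] [Algebra C A] [Algebra C B]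
    (f : A →ₐ[C] B) :
    IsPushout (CommRingCat.ofHom (bc C₁ f : C₁ ⊗[C] A →+* C₁ ⊗[C] B))
      (CommRingCat.ofHom (cb ev A : C₁ ⊗[C] A →+* C' ⊗[C] A))
      (CommRingCat.ofHom (cb ev B : C₁ ⊗[C] B →+* C' ⊗[C] B))
      (CommRingCat.ofHom (bc C' f : C' ⊗[C] A →+* C' ⊗[C] B)) := by
  have htop := isPushout_bc C₁ f
  have hout := isPushout_bc C' f
  have e1 : CommRingCat.ofHom (incl C' A) =
      CommRingCat.ofHom (incl C₁ A) ≫ CommRingCat.ofHom (cb ev A : C₁ ⊗[C] A →+* C' ⊗[C] A) := by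
    ext x
    simp [incl, cb]
  have e2 : CommRingCat.ofHom (incl C' B) =
      CommRingCat.ofHom (incl C₁ B) ≫ CommRingCat.ofHom (cb ev B : C₁ ⊗[C] B →+* C' ⊗[C] B) := by
    ext x
    simp [incl, cb]
  rw [e1, e2] at hout
  refine IsPushout.of_top hout ?_ htop
  apply CommRingCat.hom_ext
  apply RingHom.ext
  intro x
  exact cb_bc ev f x

end Nat

namespace RG

variable {C A B D : Type u} [CommRing C] [CommRing A] [CommRing B] [CommRing D]
  [Algebra C A] [Algebra C B] [Algebra C D] (h : RG C A B D)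

/-- **universal characteristic polynomial**: the characteristic polynomial of `τ' a'` comes from
`C'[X]`. -/
theorem exists_poly_isRCP (he : h.IsExact) (n : ℕ)
    (r : letI := (h.σ : A →+* B).toAlgebra; Ret A B n)
    (C' : Type u) [CommRing C'] [Algebra C C'] (a' : C' ⊗[C] A) :
    ∃ P : C'[X], letI := ((h.baseChange C').σ : C' ⊗[C] A →+* C' ⊗[C] B).toAlgebra;
      IsRCP (C' ⊗[C] A) (C' ⊗[C] B) n ((h.baseChange C').τ a')
        (P.map (algebraMap C' (C' ⊗[C] A))) := by
  classical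
  obtain ⟨S, hS⟩ := TensorProduct.exists_finset a'
  let ev : (MvPolynomial S C) →ₐ[C] C' := MvPolynomial.aeval (fun i : S => (i : C' × A).1)
  have he₁ : (h.baseChange (MvPolynomial S C)).IsExact := he.baseChange (MvPolynomial S C)
  let a₁ : (MvPolynomial S C) ⊗[C] A := ∑ i : S, (MvPolynomial.X i : (MvPolynomial S C)) ⊗ₜ[C] (i : C' × A).2
  have ha₁ : cb ev A a₁ = a' := by
    rw [hS, map_sum, ← Finset.sum_coe_sort S]
    refine Finset.sum_congr rfl fun i _ => ?_
    show cb ev A ((MvPolynomial.X i : MvPolynomial S C) ⊗ₜ[C] (i : C' × A).2) = _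
    rw [Algebra.TensorProduct.map_tmul]
    simp only [ev, MvPolynomial.aeval_X, AlgHom.id_apply]
  obtain ⟨r₁⟩ := ret_cat (isPushout_bc (MvPolynomial S C) h.σ) n r
  letI alg₁ : Algebra ((MvPolynomial S C) ⊗[C] A) ((MvPolynomial S C) ⊗[C] B) :=
    ((h.baseChange (MvPolynomial S C)).σ : (MvPolynomial S C) ⊗[C] A →+* (MvPolynomial S C) ⊗[C] B).toAlgebra
  let χ₁ : ((MvPolynomial S C) ⊗[C] A)[X] := r₁.cp (Algebra.lmul _ _ ((h.baseChange (MvPolynomial S C)).τ a₁))
  have hχ₁ : IsRCP ((MvPolynomial S C) ⊗[C] A) ((MvPolynomial S C) ⊗[C] B) n ((h.baseChange (MvPolynomial S C)).τ a₁) χ₁ := ⟨r₁, rfl⟩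
  have hlift : χ₁ ∈ Polynomial.lifts (algebraMap (MvPolynomial S C) ((MvPolynomial S C) ⊗[C] A)) := by
    rw [Polynomial.lifts_iff_coeff_lifts]
    intro k
    exact he₁.inv _ ((h.baseChange (MvPolynomial S C)).coeff_mem_Inv n a₁ χ₁ hχ₁ k)
  obtain ⟨P₁, hP₁⟩ := (Polynomial.mem_lifts _).mp hlift
  refine ⟨P₁.map (ev : (MvPolynomial S C) →+* C'), ?_⟩
  have hbot := isPushout_cb ev h.σ
  have key := isRCP_cat hbot n ((h.baseChange (MvPolynomial S C)).τ a₁) χ₁ hχ₁
  have e1 : (CommRingCat.ofHom (cb ev B : (MvPolynomial S C) ⊗[C] B →+* C' ⊗[C] B)).hom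
      ((h.baseChange (MvPolynomial S C)).τ a₁) = (h.baseChange C').τ a' := by
    rw [← ha₁]
    exact cb_bc ev h.τ a₁
  have e2 : χ₁.map (CommRingCat.ofHom (cb ev A : (MvPolynomial S C) ⊗[C] A →+* C' ⊗[C] A)).hom =
      (P₁.map (ev : (MvPolynomial S C) →+* C')).map (algebraMap C' (C' ⊗[C] A)) := by
    rw [← hP₁, Polynomial.map_map, Polynomial.map_map]
    congr 1
  rw [e1, e2] at key
  exact key

/-- the norm of an invariant element of `C' ⊗ A` comes from `C'`. -/
theorem exists_norm_mem (he : h.IsExact) (n : ℕ)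
    (r : letI := (h.σ : A →+* B).toAlgebra; Ret A B n)
    (C' : Type u) [CommRing C'] [Algebra C C'] (g : C' ⊗[C] A)
    (hg : (h.baseChange C').σ g = (h.baseChange C').τ g) :
    ∃ m : C', algebraMap C' (C' ⊗[C] A) m =
      (letI := (h.σ : A →+* B).toAlgebra; lam r).eval₂ (incl C' A) g := by
  obtain ⟨P, hP⟩ := h.exists_poly_isRCP he n r C' (g - 1)
  have e1 : (h.baseChange C').τ (g - 1) =
      (CommRingCat.ofHom (bc C' h.σ : C' ⊗[C] A →+* C' ⊗[C] B)).hom g - 1 := by
    rw [map_sub, map_one, ← hg]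
    rfl
  rw [e1] at hP
  have key := eval_neg_one_cat (isPushout_bc C' h.σ) n r g _ hP
  have e2 : (P.map (algebraMap C' (C' ⊗[C] A))).eval (-1) =
      algebraMap C' (C' ⊗[C] A) (P.eval (-1)) := by
    have : (-1 : C' ⊗[C] A) = algebraMap C' (C' ⊗[C] A) (-1) := by rw [map_neg, map_one]
    rw [this, Polynomial.eval_map, Polynomial.eval₂_at_apply]
  rw [e2] at key
  refine ⟨(-1) ^ n * P.eval (-1), ?_⟩
  rw [map_mul, key, map_pow, map_neg, map_one, ← mul_assoc, ← pow_add, ← two_mul, pow_mul]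
  simp

end RG

end Groth.Agent.Lib.H5bRG
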