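import Mathlib

/-!
# The local rings `C[X]_{pC[X]}` and joint faithful flatness (helper5)

For a prime `p` of `C`, `Sloc p = C[X]_{pC[X]}` is a local flat `C`-algebra with infinite residue field
and `p • ⊤ ≠ ⊤`.  The family `Sloc p`, `p` maximal, is jointly faithfully flat:
`subsingleton_of_Sloc`, `injective_of_Sloc`, `surjective_of_Sloc`, `flat_of_Sloc`.
-/

set_option autoImplicit false
set_option linter.style.haveILetI false
set_option linter.unusedSectionVars false
set_option linter.unusedSimpArgs false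
universe u

open TensorProduct Polynomial

namespace Groth.Agent.Lib.H5bRG

variable {C : Type u} [CommRing C]

/-- `C[X]` localized at the prime `p C[X]`. -/
abbrev Sloc (p : Ideal C) [p.IsPrime] : Type u :=
  Localization.AtPrime (Ideal.map (Polynomial.C : C →+* C[X]) p)

instance Sloc.flat (p : Ideal C) [p.IsPrime] : Module.Flat C (Sloc p) :=
  Module.Flat.trans C C[X] (Sloc p)

theorem Sloc.algebraMap_mem (p : Ideal C) [p.IsPrime] {c : C} (hc : c ∈ p) :
    algebraMap C (Sloc p) c ∈ IsLocalRing.maximalIdeal (Sloc p) := by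
  rw [IsScalarTower.algebraMap_apply C C[X] (Sloc p)]
  rw [IsLocalization.AtPrime.to_map_mem_maximal_iff (Sloc p)
    (Ideal.map (Polynomial.C : C →+* C[X]) p)]
  exact Ideal.mem_map_of_mem _ hc

theorem Sloc.smul_top_ne_top (p : Ideal C) [p.IsPrime] :
    (p • ⊤ : Submodule C (Sloc p)) ≠ ⊤ := by
  intro htop
  have hle : (p • ⊤ : Submodule C (Sloc p)) ≤
      (IsLocalRing.maximalIdeal (Sloc p)).restrictScalars C := by
    rw [Submodule.smul_le]
    intro c hc s _
    rw [Submodule.restrictScalars_mem, Algebra.smul_def]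
    exact Ideal.mul_mem_right _ _ (Sloc.algebraMap_mem p hc)
  have h1 : (1 : Sloc p) ∈ (p • ⊤ : Submodule C (Sloc p)) := by
    rw [htop]
    exact Submodule.mem_top
  have h2 : (1 : Sloc p) ∈ IsLocalRing.maximalIdeal (Sloc p) := hle h1
  exact (Ideal.ne_top_iff_one _).mp (IsLocalRing.maximalIdeal.isMaximal _).ne_top h2

instance Sloc.infinite (p : Ideal C) [p.IsPrime] :
    Infinite (IsLocalRing.ResidueField (Sloc p)) := by
  refine Infinite.of_injective
    (fun k : ℕ => IsLocalRing.residue (Sloc p) (algebraMap C[X] (Sloc p) (X ^ k))) ?_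
  intro k l hkl
  by_contra hne
  have h1 : IsLocalRing.residue (Sloc p) (algebraMap C[X] (Sloc p) (X ^ k - X ^ l)) = 0 := by
    rw [map_sub, map_sub, sub_eq_zero]
    exact hkl
  rw [IsLocalRing.residue_eq_zero_iff,
    IsLocalization.AtPrime.to_map_mem_maximal_iff (Sloc p)
      (Ideal.map (Polynomial.C : C →+* C[X]) p), Ideal.mem_map_C_iff] at h1
  have h2 := h1 k
  rw [Polynomial.coeff_sub, Polynomial.coeff_X_pow, Polynomial.coeff_X_pow, if_pos rfl,
    if_neg hne, sub_zero] at h2
  exact (Ideal.ne_top_iff_one p).mp (Ideal.IsPrime.ne_top ‹_›) h2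

/-- joint faithful flatness of the `Sloc p`. -/
theorem subsingleton_of_Sloc (K : Type*) [AddCommGroup K] [Module C K]
    (H : ∀ (p : Ideal C) [p.IsMaximal], Subsingleton (Sloc p ⊗[C] K)) : Subsingleton K := by
  by_contra hK
  rw [not_subsingleton_iff_nontrivial] at hK
  obtain ⟨n, hn⟩ := nontrivial_iff_exists_ne (0 : K) |>.1 hK
  let I := (Submodule.span C {n}).annihilator
  have I_ne_top : I ≠ ⊤ := by
    intro htop
    rw [Ideal.eq_top_iff_one, Submodule.mem_annihilator_span_singleton, one_smul] at htop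
    exact hn htop
  obtain ⟨p, hp, hIp⟩ := I.exists_le_maximal I_ne_top
  let inc : C ⧸ I →ₗ[C] K := Submodule.liftQ _ ((LinearMap.lsmul C K).flip n) <| fun r hr => by
    simpa only [LinearMap.mem_ker, LinearMap.flip_apply, LinearMap.lsmul_apply,
      Submodule.mem_annihilator_span_singleton, I] using hr
  have injective_inc : Function.Injective inc := LinearMap.ker_eq_bot.1 <| eq_bot_iff.2 <| by
    intro r hr
    induction r using Quotient.inductionOn' with | h r =>
    simpa only [Submodule.Quotient.mk''_eq_mk, Submodule.mem_bot, Submodule.Quotient.mk_eq_zero,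
      Submodule.mem_annihilator_span_singleton, LinearMap.mem_ker, Submodule.liftQ_apply,
      LinearMap.flip_apply, LinearMap.lsmul_apply, I, inc] using hr
  have hss := H p
  have h1 : Subsingleton (Sloc p ⊗[C] (C ⧸ I)) :=
    (Module.Flat.lTensor_preserves_injective_linearMap (M := Sloc p) inc
      injective_inc).subsingleton
  have h2 : Subsingleton (Sloc p ⧸ (I • ⊤ : Submodule C (Sloc p))) :=
    (tensorQuotEquivQuotSMul (Sloc p) I).symm.injective.subsingleton
  rw [Submodule.Quotient.subsingleton_iff] at h2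
  apply Sloc.smul_top_ne_top p
  rw [eq_top_iff]
  calc (⊤ : Submodule C (Sloc p)) = I • ⊤ := h2.symm
    _ ≤ p • ⊤ := Submodule.smul_mono hIp le_rfl

theorem injective_of_Sloc {M N : Type*} [AddCommGroup M] [AddCommGroup N] [Module C M] [Module C N]
    (ψ : M →ₗ[C] N)
    (H : ∀ (p : Ideal C) [p.IsMaximal], Function.Injective (ψ.lTensor (Sloc p))) :
    Function.Injective ψ := by
  rw [← LinearMap.ker_eq_bot, ← Submodule.subsingleton_iff_eq_bot]
  apply subsingleton_of_Sloc (C := C)
  intro p _
  have h1 : Function.Injective ((LinearMap.ker ψ).subtype.lTensor (Sloc p)) :=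
    Module.Flat.lTensor_preserves_injective_linearMap _ (Submodule.injective_subtype _)
  have h2 : Function.Injective ((ψ.lTensor (Sloc p)) ∘ₗ ((LinearMap.ker ψ).subtype.lTensor (Sloc p))) :=
    (H p).comp h1
  have h3 : (ψ.lTensor (Sloc p)) ∘ₗ ((LinearMap.ker ψ).subtype.lTensor (Sloc p)) = 0 := by
    rw [← LinearMap.lTensor_comp]
    have : ψ ∘ₗ (LinearMap.ker ψ).subtype = 0 := by
      ext x
      exact x.2
    rw [this, LinearMap.lTensor_zero]
  rw [h3] at h2
  refine ⟨fun a b => h2 ?_⟩
  simp

theorem surjective_of_Sloc {M N : Type*} [AddCommGroup M] [AddCommGroup N] [Module C M]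
    [Module C N] (ψ : M →ₗ[C] N)
    (H : ∀ (p : Ideal C) [p.IsMaximal], Function.Surjective (ψ.lTensor (Sloc p))) :
    Function.Surjective ψ := by
  rw [← LinearMap.range_eq_top, ← Submodule.Quotient.subsingleton_iff]
  apply subsingleton_of_Sloc (C := C)
  intro p _
  have h1 : Function.Surjective ((LinearMap.range ψ).mkQ.lTensor (Sloc p)) :=
    LinearMap.lTensor_surjective _ (Submodule.mkQ_surjective _)
  have h3 : ((LinearMap.range ψ).mkQ.lTensor (Sloc p)) ∘ₗ (ψ.lTensor (Sloc p)) = 0 := by
    rw [← LinearMap.lTensor_comp]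
    have : (LinearMap.range ψ).mkQ ∘ₗ ψ = 0 := by
      ext x
      simp
    rw [this, LinearMap.lTensor_zero]
  refine ⟨fun a b => ?_⟩
  obtain ⟨a', rfl⟩ := h1 a
  obtain ⟨b', rfl⟩ := h1 b
  obtain ⟨a'', rfl⟩ := H p a'
  obtain ⟨b'', rfl⟩ := H p b'
  have ha := LinearMap.congr_fun h3 a''
  have hb := LinearMap.congr_fun h3 b''
  simp only [LinearMap.comp_apply, LinearMap.zero_apply] at ha hb
  rw [ha, hb]

theorem flat_of_Sloc (M : Type u) [AddCommGroup M] [Module C M]
    (H : ∀ (p : Ideal C) [p.IsMaximal], Module.Flat (Sloc p) (Sloc p ⊗[C] M)) :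
    Module.Flat C M := by
  rw [Module.Flat.iff_lTensor_preserves_injective_linearMap]
  intro N P _ _ _ _ f hf
  apply injective_of_Sloc
  intro p _
  have := H p
  have : Module.Flat C (Sloc p ⊗[C] M) := Module.Flat.trans _ (Sloc p) _
  have hh : LinearMap.lTensor (Sloc p) (LinearMap.lTensor M f) =
      (TensorProduct.assoc _ _ _ _).toLinearMap ∘ₗ LinearMap.lTensor (Sloc p ⊗[C] M) f ∘ₗ
        (TensorProduct.assoc _ _ _ _).symm.toLinearMap := by
    ext
    simp
  simpa [hh] using Module.Flat.lTensor_preserves_injective_linearMap (M := Sloc p ⊗[C] M) f hf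

end Groth.Agent.Lib.H5bRG
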