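import Mathlib
import Groth.Agent.Lib.H5bRG
import Groth.Agent.Lib.H5bRGChar
import Groth.Agent.Lib.H5bRGFlat
import Groth.Agent.Lib.H5bRGLocal
import Groth.Agent.Lib.H5bRGSloc

/-!
# Ring groupoids with `j` a closed immersion: `A` is finite locally free over the invariants and
`A ⊗[C] A ≅ B` (helper5)
-/

set_option autoImplicit false
set_option linter.style.haveILetI false
set_option linter.unusedSectionVars false
set_option linter.unusedSimpArgs false
universe u

open CategoryTheory CategoryTheory.Limits TensorProduct Polynomial

namespace Groth.Agent.Lib.H5bRG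

namespace RG

variable {C A B D : Type u} [CommRing C] [CommRing A] [CommRing B] [CommRing D]
  [Algebra C A] [Algebra C B] [Algebra C D] (h : RG C A B D)

/-- over a local base with infinite residue field. -/
theorem free_and_bijective_of_isLocalRing [IsLocalRing C] [Infinite (IsLocalRing.ResidueField C)]
    (he : h.IsExact) (hg : h.IsGen) : Module.Free C A ∧ Function.Bijective h.φ := by
  obtain ⟨r, x, hb⟩ := h.exists_basis_of_isLocalRing he hg
  have hB : letI := (h.σ : A →+* B).toAlgebra;
      ∃ b : Module.Basis (ULift.{u} (Fin r)) A B, ∀ i, b i = h.τ ((x ∘ ULift.down) i) := by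
    letI := (h.σ : A →+* B).toAlgebra
    obtain ⟨b, hb⟩ := hb
    exact ⟨b.reindex Equiv.ulift.symm, fun i => by simp [hb]⟩
  obtain ⟨⟨b, -⟩, hbij⟩ := basis_of_basis he (x ∘ ULift.down) hB
  exact ⟨Module.Free.of_basis b, hbij⟩

/-- compatibility of `φ` with base change. -/
theorem baseChange_φ_comp (C' : Type u) [CommRing C'] [Algebra C C'] (z : C' ⊗[C] (A ⊗[C] A)) :
    (h.baseChange C').φ (AlgebraTensorModule.distribBaseChange C C' A A z) =
      (h.φ.toLinearMap.lTensor C') z := by
  induction z using TensorProduct.induction_on with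
  | zero => simp
  | add x y hx hy => simp only [map_add, hx, hy]
  | tmul s w =>
    induction w using TensorProduct.induction_on with
    | zero => simp
    | add x y hx hy => simp only [map_add, TensorProduct.tmul_add, hx, hy]
    | tmul a a' =>
      simp [bc]

theorem flat_and_bijective (he : h.IsExact) (hg : h.IsGen) :
    Module.Flat C A ∧ Function.Bijective h.φ := by
  have key : ∀ (p : Ideal C) [p.IsMaximal], Module.Free (Sloc p) (Sloc p ⊗[C] A) ∧
      Function.Bijective (h.baseChange (Sloc p)).φ := fun p _ =>
    (h.baseChange (Sloc p)).free_and_bijective_of_isLocalRing (he.baseChange (Sloc p))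
      (hg.baseChange (Sloc p))
  have hbc : ∀ (p : Ideal C) [p.IsMaximal],
      Function.Bijective (h.φ.toLinearMap.lTensor (Sloc p)) := by
    intro p _
    have h1 : ⇑(h.φ.toLinearMap.lTensor (Sloc p)) = (h.baseChange (Sloc p)).φ ∘
        (AlgebraTensorModule.distribBaseChange C (Sloc p) A A) := by
      funext z
      exact (h.baseChange_φ_comp (Sloc p) z).symm
    rw [h1]
    exact (key p).2.comp (AlgebraTensorModule.distribBaseChange C (Sloc p) A A).bijective
  refine ⟨flat_of_Sloc A (fun p _ => ?_), ?_, ?_⟩
  · have := (key p).1
    infer_instance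
  · exact injective_of_Sloc h.φ.toLinearMap (fun p _ => (hbc p).1)
  · exact surjective_of_Sloc h.φ.toLinearMap (fun p _ => (hbc p).2)

theorem comap_surjective_of_isExact (he : h.IsExact) :
    Function.Surjective (PrimeSpectrum.comap (algebraMap C A)) := by
  have := h.isIntegral_of_isExact he
  have : FaithfulSMul C A := (faithfulSMul_iff_algebraMap_injective C A).mpr he.inj
  exact Algebra.IsIntegral.comap_surjective C A

/-- `A` is a finite, finitely presented, faithfully flat `C`-algebra. -/
theorem finite_and_fp (he : h.IsExact) (hg : h.IsGen) :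
    Module.Finite C A ∧ Algebra.FinitePresentation C A := by
  obtain ⟨hflat, hbij⟩ := h.flat_and_bijective he hg
  have hff : Module.FaithfullyFlat C A :=
    Module.FaithfullyFlat.of_comap_surjective (h.comap_surjective_of_isExact he)
  letI := (h.σ : A →+* B).toAlgebra
  have hfin : Module.Finite A B := h.fin
  have hfp : Algebra.FinitePresentation A B := h.fp
  haveI : IsScalarTower C A B := IsScalarTower.of_algebraMap_eq (fun c => (h.σ.commutes c).symm)
  let ψ : A ⊗[C] A →ₐ[A] B :=
    Algebra.TensorProduct.lift (Algebra.ofId A B) h.τ (fun _ _ => Commute.all _ _)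
  have hψ : ∀ z, ψ z = h.φ (TensorProduct.comm C A A z) := by
    intro z
    induction z using TensorProduct.induction_on with
    | zero => simp
    | add x y hx hy => simp only [map_add, hx, hy]
    | tmul a a' =>
      simp only [ψ, Algebra.TensorProduct.lift_tmul, TensorProduct.comm_tmul, φ_tmul]
      rw [mul_comm]
      rfl
  have hψb : Function.Bijective ψ := by
    have : ⇑ψ = h.φ ∘ (TensorProduct.comm C A A) := funext hψ
    rw [this]
    exact hbij.comp (TensorProduct.comm C A A).bijective
  let e : A ⊗[C] A ≃ₐ[A] B := AlgEquiv.ofBijective ψ hψb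
  have h1 : Module.Finite A (A ⊗[C] A) := Module.Finite.equiv e.symm.toLinearEquiv
  have h2 : Algebra.FinitePresentation A (A ⊗[C] A) := Algebra.FinitePresentation.equiv e.symm
  exact ⟨Module.Finite.of_finite_tensorProduct_of_faithfullyFlat A,
    Algebra.FinitePresentation.of_finitePresentation_tensorProduct_of_faithfullyFlat A⟩

end RG

end Groth.Agent.Lib.H5bRG
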