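import Mathlib
import Groth.Agent.Lib.H5bRG
import Groth.Agent.Lib.H5bRGChar
import Groth.Agent.Lib.H5bRGLocal
import Groth.Agent.Lib.H5bRGGlobal
import Groth.Agent.Lib.H5bRGGen

/-!
# Geometric points of the quotient of a ring groupoid (helper5)

Ring-level statements: for an exact ring groupoid `h` over `C` and an algebraically closed field `k`,
every `C → k` lifts to `A → k` (`RG.exists_ringHom_lift`), and two `A → k` agreeing on `C` are the
`τ`- and `σ`-restrictions of some `B → k` (`RG.exists_ringHom_orbit`).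
-/

set_option autoImplicit false
set_option linter.style.haveILetI false
set_option linter.unusedSectionVars false
set_option linter.unusedSimpArgs false
universe u

open CategoryTheory CategoryTheory.Limits TensorProduct Polynomial AlgebraicGeometry
open Groth.Agent.Lib.Helper2.RetCharpoly

namespace Groth.Agent.Lib.H5bRG

/-- surjectivity on spectra is stable under base change. -/
theorem comap_surjective_bc {C A : Type u} [CommRing C] [CommRing A] [Algebra C A]
    (C' : Type u) [CommRing C'] [Algebra C C']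
    (hs : Function.Surjective (PrimeSpectrum.comap (algebraMap C A))) :
    Function.Surjective (PrimeSpectrum.comap (algebraMap C' (C' ⊗[C] A))) := by
  have hpo := CommRingCat.isPushout_tensorProduct C C' A
  have hpb := (isPullback_SpecMap_of_isPushout _ _ _ _ hpo).flip
  have h1 : Surjective (Spec.map (CommRingCat.ofHom (algebraMap C A))) := ⟨hs⟩
  have h2 := MorphismProperty.of_isPullback (P := @Surjective) hpb h1
  exact h2.surj

/-- a prime of an integral algebra over an algebraically closed field is the kernel of a rational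
point. -/
theorem exists_algHom_of_prime (k : Type u) [Field k] [IsAlgClosed k] (K : Type u) [CommRing K]
    [Algebra k K] [Algebra.IsIntegral k K] (q : Ideal K) [q.IsPrime] :
    ∃ ρ : K →ₐ[k] k, ∀ x, ρ x = 0 ↔ x ∈ q := by
  have hint : Algebra.IsIntegral k (K ⧸ q) := inferInstance
  have hbij := IsAlgClosed.algebraMap_bijective_of_isIntegral (k := k) (K := K ⧸ q)
  let e : k ≃ₐ[k] K ⧸ q := AlgEquiv.ofBijective (Algebra.ofId k _) hbij
  refine ⟨(e.symm : K ⧸ q →ₐ[k] k).comp (Ideal.Quotient.mkₐ k q), fun x => ?_⟩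
  rw [← Ideal.Quotient.eq_zero_iff_mem]
  simp

theorem exists_ringHom_lift {C A : Type u} [CommRing C] [CommRing A] [Algebra C A]
    [Algebra.IsIntegral C A]
    (hs : Function.Surjective (PrimeSpectrum.comap (algebraMap C A)))
    (k : Type u) [Field k] [IsAlgClosed k] (μ : C →+* k) :
    ∃ ξ : A →+* k, ξ.comp (algebraMap C A) = μ := by
  letI := μ.toAlgebra
  have h1 := comap_surjective_bc k hs
  obtain ⟨q, -⟩ := h1 ⟨⊥, Ideal.isPrime_bot⟩
  obtain ⟨ρ, -⟩ := exists_algHom_of_prime k (k ⊗[C] A) q.asIdeal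
  refine ⟨(ρ : k ⊗[C] A →+* k).comp (incl k A), ?_⟩
  ext c
  have e1 : incl k A (algebraMap C A c) = algebraMap k (k ⊗[C] A) (μ c) := by
    have := (Algebra.TensorProduct.includeRight : A →ₐ[C] k ⊗[C] A).commutes c
    rw [IsScalarTower.algebraMap_apply C k (k ⊗[C] A)] at this
    exact this
  show ρ (incl k A (algebraMap C A c)) = μ c
  rw [e1, AlgHom.commutes]
  rfl

namespace RG

variable {C A B D : Type u} [CommRing C] [CommRing A] [CommRing B] [CommRing D]
  [Algebra C A] [Algebra C B] [Algebra C D] (h : RG C A B D)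

theorem exists_ret_lam : ∃ (n : ℕ) (r : letI := (h.σ : A →+* B).toAlgebra; Ret A B n),
    (letI := (h.σ : A →+* B).toAlgebra; lam r).coeff 0 = 0 := by
  letI := (h.σ : A →+* B).toAlgebra
  have hfin : Module.Finite A B := h.fin
  have := h.projective
  obtain ⟨n, ⟨r⟩⟩ := exists_ret A B
  refine ⟨n, r, ?_⟩
  let φ : B →ₗ[A] A :=
    { toFun := h.ε
      map_add' := map_add _
      map_smul' := fun a b => by
        show h.ε (h.σ a * b) = a * h.ε b
        rw [map_mul, h.hεσ] }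
  exact lam_coeff_zero r (1 : B) φ (map_one h.ε)

theorem isIntegral_B (he : h.IsExact) : Algebra.IsIntegral C B := by
  have h1 := h.isIntegral_of_isExact he
  letI := (h.σ : A →+* B).toAlgebra
  have hfin : Module.Finite A B := h.fin
  haveI : IsScalarTower C A B := IsScalarTower.of_algebraMap_eq (fun c => (h.σ.commutes c).symm)
  exact Algebra.IsIntegral.trans A

theorem exists_ringHom_orbit (he : h.IsExact) (k : Type u) [Field k] [IsAlgClosed k]
    (ξ₀ ξ₁ : A →+* k) (hξ : ξ₀.comp (algebraMap C A) = ξ₁.comp (algebraMap C A)) :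
    ∃ ρ : B →+* k, ρ.comp (h.τ : A →+* B) = ξ₀ ∧ ρ.comp (h.σ : A →+* B) = ξ₁ := by
  letI := (ξ₀.comp (algebraMap C A)).toAlgebra
  let ξ₀' : A →ₐ[C] k := { ξ₀ with commutes' := fun c => rfl }
  let ξ₁' : A →ₐ[C] k := { ξ₁ with commutes' := fun c => (RingHom.congr_fun hξ c).symm }
  let Ξ₀ : k ⊗[C] A →ₐ[k] k :=
    Algebra.TensorProduct.lift (AlgHom.id k k) ξ₀' (fun _ _ => Commute.all _ _)
  let Ξ₁ : k ⊗[C] A →ₐ[k] k :=
    Algebra.TensorProduct.lift (AlgHom.id k k) ξ₁' (fun _ _ => Commute.all _ _)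
  have hΞ₀ : (Ξ₀ : k ⊗[C] A →+* k).comp (incl k A) = ξ₀ := by
    ext a
    simp [Ξ₀, ξ₀', incl]
  have hΞ₁ : (Ξ₁ : k ⊗[C] A →+* k).comp (incl k A) = ξ₁ := by
    ext a
    simp [Ξ₁, ξ₁', incl]
  obtain ⟨n, r, hr0⟩ := h.exists_ret_lam
  letI algσ : Algebra A B := (h.σ : A →+* B).toAlgebra
  -- the rank polynomial vanishes only at zero
  have aux : ∀ (ξ : A →+* k) (y : k), (lam r).eval₂ ξ y = 0 ↔ y = 0 := by
    intro ξ y
    constructor
    · intro hy
      by_contra hne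
      have h1 := lam_eval₂_mul r ξ y y⁻¹
      rw [mul_inv_cancel₀ hne, lam_eval₂_one, hy, zero_mul] at h1
      exact zero_ne_one h1
    · rintro rfl
      rw [Polynomial.eval₂_at_zero, hr0, map_zero]
  let p₀ : Ideal (k ⊗[C] A) := RingHom.ker (Ξ₀ : k ⊗[C] A →+* k)
  let p₁ : Ideal (k ⊗[C] A) := RingHom.ker (Ξ₁ : k ⊗[C] A →+* k)
  haveI hp₀ : p₀.IsPrime := RingHom.ker_isPrime _
  haveI hp₁ : p₁.IsPrime := RingHom.ker_isPrime _
  have hpp : ∀ g, (h.baseChange k).σ g = (h.baseChange k).τ g → (g ∈ p₀ ↔ g ∈ p₁) := by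
    intro g hg
    obtain ⟨m, hm⟩ := h.exists_norm_mem he n r k g hg
    have key : ∀ (Ξ : k ⊗[C] A →ₐ[k] k) (ξ : A →+* k),
        (Ξ : k ⊗[C] A →+* k).comp (incl k A) = ξ →
        m = (lam r).eval₂ ξ (Ξ g) := by
      intro Ξ ξ hΞ
      have h1 := congrArg (Ξ : k ⊗[C] A →+* k) hm
      rw [Polynomial.hom_eval₂, hΞ] at h1
      have h1' : Ξ (algebraMap k _ m) = (lam r).eval₂ ξ (Ξ g) := h1
      rw [← h1', AlgHom.commutes]
      rfl
    have k0 := key Ξ₀ ξ₀ hΞ₀
    have k1 := key Ξ₁ ξ₁ hΞ₁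
    show Ξ₀ g = 0 ↔ Ξ₁ g = 0
    rw [← aux ξ₀ (Ξ₀ g), ← aux ξ₁ (Ξ₁ g), ← k0, ← k1]
  obtain ⟨q, hq, hq₀, hq₁⟩ := (h.baseChange k).exists_prime_orbit p₀ p₁ hpp
  have hintB := h.isIntegral_B he
  obtain ⟨ρk, hρk⟩ := exists_algHom_of_prime k (k ⊗[C] B) q
  have hρ : ∀ (f : A →ₐ[C] B) (Ξ : k ⊗[C] A →ₐ[k] k),
      q.comap (bc k f : k ⊗[C] A →+* k ⊗[C] B) = RingHom.ker (Ξ : k ⊗[C] A →+* k) →
      ∀ x, ρk (bc k f x) = Ξ x := by
    intro f Ξ hker x
    have h1 : x - algebraMap k _ (Ξ x) ∈ RingHom.ker (Ξ : k ⊗[C] A →+* k) := by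
      rw [RingHom.mem_ker]
      show Ξ (x - algebraMap k _ (Ξ x)) = 0
      rw [map_sub, AlgHom.commutes, sub_eq_zero]
      rfl
    rw [← hker, Ideal.mem_comap] at h1
    have h2 := (hρk _).mpr h1
    have h3 : (bc k f : k ⊗[C] A →+* k ⊗[C] B) (x - algebraMap k _ (Ξ x)) =
        bc k f x - algebraMap k _ (Ξ x) := by
      show bc k f (x - algebraMap k _ (Ξ x)) = _
      rw [map_sub, AlgHom.commutes]
    rw [h3, map_sub, AlgHom.commutes, sub_eq_zero] at h2
    exact h2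
  refine ⟨(ρk : k ⊗[C] B →+* k).comp (incl k B), ?_, ?_⟩
  · ext a
    show ρk (incl k B (h.τ a)) = ξ₀ a
    rw [← bc_incl, hρ h.τ Ξ₀ hq₀, ← hΞ₀]
    rfl
  · ext a
    show ρk (incl k B (h.σ a)) = ξ₁ a
    rw [← bc_incl, hρ h.σ Ξ₁ hq₁, ← hΞ₁]
    rfl

end RG

end Groth.Agent.Lib.H5bRG
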