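import Mathlib
import Groth.Prelude.Def_Grpd
import Groth.Agent.S1880
import Groth.Agent.Lib.H5bRG

/-!
# The ring groupoid of an affine groupoid scheme (helper5)
-/

set_option autoImplicit false
set_option linter.style.haveILetI false
set_option linter.unusedSectionVars false
universe u

open CategoryTheory CategoryTheory.Limits AlgebraicGeometry TensorProduct

namespace Groth.Agent.Lib.H5bRG

variable {S : Scheme.{u}} (G : Grpd.GroupoidScheme S)

/-- `Γ(R)` as an algebra over the invariants, through `s`. -/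
noncomputable abbrev algB : Algebra G.invariants Γ(G.R, ⊤) :=
  (G.s.appTop.hom.comp G.invariants.subtype).toAlgebra

/-- `Γ(R ×_{s,U,t} R)` as an algebra over the invariants, through `snd ≫ s`. -/
noncomputable abbrev algD : Algebra G.invariants Γ(pullback G.s G.t, ⊤) :=
  ((pullback.snd G.s G.t).appTop.hom.comp (G.s.appTop.hom.comp G.invariants.subtype)).toAlgebra

attribute [local instance] algB algD

theorem hεσ (a : Γ(G.U, ⊤)) : G.e.appTop.hom (G.s.appTop.hom a) = a := by
  have := congrArg (fun φ : G.U ⟶ G.U => φ.appTop.hom a) G.e_s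
  simpa [Scheme.Hom.comp_appTop] using this

theorem hετ (a : Γ(G.U, ⊤)) : G.e.appTop.hom (G.t.appTop.hom a) = a := by
  have := congrArg (fun φ : G.U ⟶ G.U => φ.appTop.hom a) G.e_t
  simpa [Scheme.Hom.comp_appTop] using this

theorem hcτ (a : Γ(G.U, ⊤)) : G.c.appTop.hom (G.t.appTop.hom a) =
    (pullback.fst G.s G.t).appTop.hom (G.t.appTop.hom a) := by
  have := congrArg (fun φ : pullback G.s G.t ⟶ G.U => φ.appTop.hom a) (Groth.Agent.S1880.c_t G)
  simpa [Scheme.Hom.comp_appTop] using this

theorem hcσ (a : Γ(G.U, ⊤)) : G.c.appTop.hom (G.s.appTop.hom a) =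
    (pullback.snd G.s G.t).appTop.hom (G.s.appTop.hom a) := by
  have := congrArg (fun φ : pullback G.s G.t ⟶ G.U => φ.appTop.hom a) (Groth.Agent.S1880.c_s G)
  simpa [Scheme.Hom.comp_appTop] using this

theorem hp (a : Γ(G.U, ⊤)) : (pullback.fst G.s G.t).appTop.hom (G.s.appTop.hom a) =
    (pullback.snd G.s G.t).appTop.hom (G.t.appTop.hom a) := by
  have := congrArg (fun φ : pullback G.s G.t ⟶ G.U => φ.appTop.hom a)
    (pullback.condition (f := G.s) (g := G.t))
  simpa [Scheme.Hom.comp_appTop] using this

theorem hinv (c : G.invariants) : G.s.appTop.hom (c : Γ(G.U, ⊤)) = G.t.appTop.hom (c : Γ(G.U, ⊤)) :=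
  c.2

/-- the ring groupoid of an affine groupoid scheme with `s` finite locally free, over its ring of
invariants. -/
noncomputable def ofG [IsAffine G.U] [IsAffine G.R] [IsFinite G.s] [Flat G.s]
    [LocallyOfFinitePresentation G.s] :
    RG G.invariants Γ(G.U, ⊤) Γ(G.R, ⊤) Γ(pullback G.s G.t, ⊤) where
  σ := { G.s.appTop.hom with commutes' := fun _ => rfl }
  τ := { G.t.appTop.hom with commutes' := fun c => (hinv G c).symm }
  ε := { G.e.appTop.hom with commutes' := fun c => hεσ G c }
  p0 := { (pullback.fst G.s G.t).appTop.hom with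
    commutes' := fun c => by
      show (pullback.fst G.s G.t).appTop.hom (G.s.appTop.hom c) =
        (pullback.snd G.s G.t).appTop.hom (G.s.appTop.hom c)
      rw [hp, ← hinv] }
  p1 := { (pullback.snd G.s G.t).appTop.hom with commutes' := fun _ => rfl }
  c := { G.c.appTop.hom with commutes' := fun c => hcσ G c }
  hεσ := hεσ G
  hετ := hετ G
  hcτ := hcτ G
  hcσ := hcσ G
  hp := hp G
  po1 := isPushout_appTop_of_isPullback (IsPullback.of_hasPullback G.s G.t)
  po2 := isPushout_appTop_of_isPullback (Groth.Agent.S1880.isPullback_c G)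
  fin := G.s.finite_appTop
  flat := G.s.flat_appTop
  fp := G.s.finitePresentation_appTop

theorem ofG_isExact [IsAffine G.U] [IsAffine G.R] [IsFinite G.s] [Flat G.s]
    [LocallyOfFinitePresentation G.s] : (ofG G).IsExact where
  inj := Subtype.val_injective
  inv := fun a ha => ⟨⟨a, ha⟩, rfl⟩

end Groth.Agent.Lib.H5bRG
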