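import Mathlib
import Groth.Prelude.Def_Grpd
import Groth.Agent.Lib.H5bRG
import Groth.Agent.Lib.H5bRGofG
import Groth.Agent.Lib.H5bRGGlobal

/-!
# The quotient of an affine groupoid scheme by a finite locally free equivalence relation
(helper5): scheme-level consequences of `RG.flat_and_bijective`, `RG.finite_and_fp`.
-/

set_option autoImplicit false
set_option linter.style.haveILetI false
set_option linter.unusedSectionVars false
set_option linter.unusedSimpArgs false
universe u

open CategoryTheory CategoryTheory.Limits AlgebraicGeometry TensorProduct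

namespace Groth.Agent.Lib.H5bRG

variable {S : Scheme.{u}} (G : Grpd.GroupoidScheme S)

theorem t_toQuot : G.t ≫ G.toQuot = G.s ≫ G.toQuot := by
  unfold Grpd.GroupoidScheme.toQuot
  rw [← Category.assoc, ← Category.assoc, Scheme.toSpecΓ_naturality, Scheme.toSpecΓ_naturality,
    Category.assoc, Category.assoc, ← Spec.map_comp, ← Spec.map_comp]
  congr 2
  ext c
  exact (hinv G c).symm

attribute [local instance] algB algD

theorem isGen_ofG [IsAffine G.U] [IsAffine G.R] [IsFinite G.s] [Flat G.s]
    [LocallyOfFinitePresentation G.s] [Mono G.j] : (ofG G).IsGen := by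
  let q := G.toQuot
  let j' : G.R ⟶ pullback q q := pullback.lift G.t G.s (t_toQuot G)
  have hj1 : j' ≫ pullback.fst q q = G.t := pullback.lift_fst _ _ _
  have hj2 : j' ≫ pullback.snd q q = G.s := pullback.lift_snd _ _ _
  have hmono : Mono j' := ⟨fun {T} r r' hrr => by
    have h1 : r ≫ G.t = r' ≫ G.t := by
      have := congrArg (· ≫ pullback.fst q q) hrr
      simp only [Category.assoc, hj1] at this
      exact this
    have h2 : r ≫ G.s = r' ≫ G.s := by
      have := congrArg (· ≫ pullback.snd q q) hrr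
      simp only [Category.assoc, hj2] at this
      exact this
    apply (cancel_mono G.j).mp
    unfold Grpd.GroupoidScheme.j
    apply pullback.hom_ext
    · rw [Category.assoc, Category.assoc, pullback.lift_fst, h1]
    · rw [Category.assoc, Category.assoc, pullback.lift_snd, h2]⟩
  have hfin : IsFinite j' := by
    have : IsFinite (j' ≫ pullback.snd q q) := by
      rw [hj2]
      infer_instance
    exact IsFinite.of_comp j' (pullback.snd q q)
  have hci : IsClosedImmersion j' := (IsClosedImmersion.iff_isFinite_and_mono j').mpr ⟨hfin, hmono⟩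
  have hsurj : Function.Surjective j'.appTop :=
    (IsClosedImmersion.isAffine_surjective_of_isAffine j').2
  have hpo := isPushout_appTop_of_isPullback (IsPullback.of_hasPullback q q)
  have hcl := CommRingCat.closure_range_union_range_eq_top_of_isPushout hpo
  intro b
  obtain ⟨z, rfl⟩ := hsurj b
  have hz : z ∈ Subring.closure (Set.range (pullback.fst q q).appTop ∪
      Set.range (pullback.snd q q).appTop) := by
    rw [hcl]
    exact Subring.mem_top z
  have h1 : ∀ a, j'.appTop ((pullback.fst q q).appTop a) = G.t.appTop a := by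
    intro a
    have := congrArg (fun φ : G.R ⟶ G.U => φ.appTop.hom a) hj1
    simpa [Scheme.Hom.comp_appTop] using this
  have h2 : ∀ a, j'.appTop ((pullback.snd q q).appTop a) = G.s.appTop a := by
    intro a
    have := congrArg (fun φ : G.R ⟶ G.U => φ.appTop.hom a) hj2
    simpa [Scheme.Hom.comp_appTop] using this
  induction hz using Subring.closure_induction with
  | mem x hx =>
    rcases hx with ⟨a, rfl⟩ | ⟨a, rfl⟩
    · exact ⟨a ⊗ₜ 1, by rw [RG.φ_tmul, map_one, mul_one, h1]; rfl⟩
    · exact ⟨1 ⊗ₜ a, by rw [RG.φ_tmul, map_one, one_mul, h2]; rfl⟩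
  | zero => exact ⟨0, by simp⟩
  | one => exact ⟨1, by simp⟩
  | add x y _ _ hx hy =>
    obtain ⟨x', hx'⟩ := hx
    obtain ⟨y', hy'⟩ := hy
    exact ⟨x' + y', by rw [map_add, map_add, hx', hy']⟩
  | neg x _ hx =>
    obtain ⟨x', hx'⟩ := hx
    exact ⟨-x', by rw [map_neg, map_neg, hx']⟩
  | mul x y _ _ hx hy =>
    obtain ⟨x', hx'⟩ := hx
    obtain ⟨y', hy'⟩ := hy
    exact ⟨x' * y', by rw [map_mul, map_mul, hx', hy']⟩

/-- `U → M = Spec C` is finite locally free and `R = U ×_M U`. -/
theorem quotient_props [IsAffine G.U] [IsAffine G.R] [IsFinite G.s] [Flat G.s]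
    [LocallyOfFinitePresentation G.s] [Mono G.j] :
    (IsFinite G.toQuot ∧ Flat G.toQuot ∧ LocallyOfFinitePresentation G.toQuot) ∧
      IsPullback G.t G.s G.toQuot G.toQuot := by
  have he := ofG_isExact G
  have hg := isGen_ofG G
  obtain ⟨hflat, hbij⟩ := (ofG G).flat_and_bijective he hg
  obtain ⟨hfin, hfp⟩ := (ofG G).finite_and_fp he hg
  let ι : CommRingCat.of G.invariants ⟶ Γ(G.U, ⊤) := CommRingCat.ofHom G.invariants.subtype
  have e0 : algebraMap G.invariants Γ(G.U, ⊤) = G.invariants.subtype := rfl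
  have h1 : ι.hom.Finite := by
    show (G.invariants.subtype).Finite
    rw [← e0]
    exact RingHom.finite_algebraMap.mpr hfin
  have h2 : ι.hom.Flat := by
    show (G.invariants.subtype).Flat
    rw [← e0]
    exact RingHom.flat_algebraMap_iff.mpr hflat
  have h3 : ι.hom.FinitePresentation := by
    show (G.invariants.subtype).FinitePresentation
    rw [← e0]
    exact RingHom.finitePresentation_algebraMap.mpr hfp
  have i1 : IsFinite (Spec.map ι) := (IsFinite.SpecMap_iff ι).mpr h1
  have i2 : Flat (Spec.map ι) := Flat.SpecMap_iff.mpr h2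
  have i3 : LocallyOfFinitePresentation (Spec.map ι) :=
    (LocallyOfFinitePresentation.SpecMap_iff ι).mpr h3
  have hq : G.toQuot = G.U.toSpecΓ ≫ Spec.map ι := rfl
  refine ⟨⟨?_, ?_, ?_⟩, ?_⟩
  · rw [hq]; infer_instance
  · rw [hq]; infer_instance
  · rw [hq]; infer_instance
  · let e : Γ(G.U, ⊤) ⊗[G.invariants] Γ(G.U, ⊤) ≃+* Γ(G.R, ⊤) :=
      RingEquiv.ofBijective (ofG G).φ hbij
    have hpo : IsPushout ι ι G.t.appTop G.s.appTop := by
      refine (CommRingCat.isPushout_tensorProduct G.invariants Γ(G.U, ⊤) Γ(G.U, ⊤)).of_iso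
        (Iso.refl _) (Iso.refl _) (Iso.refl _) e.toCommRingCatIso ?_ ?_ ?_ ?_
      · rfl
      · rfl
      · ext a
        show (ofG G).φ (a ⊗ₜ 1) = G.t.appTop.hom a
        rw [RG.φ_tmul, map_one, mul_one]
        rfl
      · ext a
        show (ofG G).φ (1 ⊗ₜ a) = G.s.appTop.hom a
        rw [RG.φ_tmul, map_one, one_mul]
        rfl
    have hpb := isPullback_SpecMap_of_isPushout ι ι G.t.appTop G.s.appTop hpo
    refine IsPullback.of_iso hpb (asIso G.R.toSpecΓ).symm (asIso G.U.toSpecΓ).symm
      (asIso G.U.toSpecΓ).symm (Iso.refl _) ?_ ?_ ?_ ?_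
    · simp only [Iso.symm_hom, asIso_inv, IsIso.eq_inv_comp, ← Category.assoc, IsIso.comp_inv_eq]
      exact (Scheme.toSpecΓ_naturality G.t).symm
    · simp only [Iso.symm_hom, asIso_inv, IsIso.eq_inv_comp, ← Category.assoc, IsIso.comp_inv_eq]
      exact (Scheme.toSpecΓ_naturality G.s).symm
    · simp only [Iso.symm_hom, asIso_inv, Iso.refl_hom, Category.comp_id, hq, IsIso.inv_hom_id_assoc]
    · simp only [Iso.symm_hom, asIso_inv, Iso.refl_hom, Category.comp_id, hq, IsIso.inv_hom_id_assoc]

end Groth.Agent.Lib.H5bRG
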