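import Mathlib
import Groth.Prelude.Def_Grpd
import Groth.Prelude.Def_QuotSh
import Groth.Agent.Lib.H5bRGSch
import Groth.Agent.Lib.Helper12QuotSh

/-!
# `U → Spec C` is the fppf quotient sheaf (helper5)
-/

set_option autoImplicit false
set_option linter.style.haveILetI false
set_option linter.unusedSectionVars false
set_option linter.unusedSimpArgs false
universe u

open CategoryTheory CategoryTheory.Limits AlgebraicGeometry TensorProduct

namespace Groth.Agent.Lib.H5bRG

variable {S : Scheme.{u}} (G : Grpd.GroupoidScheme S)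

attribute [local instance] algB algD

theorem surjective_toQuot [IsAffine G.U] [IsAffine G.R] [IsFinite G.s] [Flat G.s]
    [LocallyOfFinitePresentation G.s] : Surjective G.toQuot := by
  have he := ofG_isExact G
  have hsurj := (ofG G).comap_surjective_of_isExact he
  let ι : CommRingCat.of G.invariants ⟶ Γ(G.U, ⊤) := CommRingCat.ofHom G.invariants.subtype
  have hq : G.toQuot = G.U.toSpecΓ ≫ Spec.map ι := rfl
  have h1 : Surjective (Spec.map ι) := ⟨hsurj⟩
  rw [hq]
  infer_instance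

theorem exists_unique_structure [IsAffine G.U] [IsAffine G.R] [IsFinite G.s] [Flat G.s]
    [LocallyOfFinitePresentation G.s] [Mono G.j] :
    ∃! m : Spec (CommRingCat.of G.invariants) ⟶ S, ∃ h : G.toQuot ≫ m = G.pU,
      QuotSh.IsQuotient Scheme.fppfPrecoverage
        (Over.homMk G.s G.s_over : Over.mk G.pR ⟶ Over.mk G.pU)
        (Over.homMk G.t G.t_over : Over.mk G.pR ⟶ Over.mk G.pU)
        (Over.homMk G.toQuot h : Over.mk G.pU ⟶ Over.mk m) := by
  obtain ⟨⟨h1, h2, h3⟩, hpb⟩ := quotient_props G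
  have h4 := surjective_toQuot G
  have hee : EffectiveEpi G.toQuot := inferInstance
  have hw : ∀ {Z : Scheme.{u}} (g₁ g₂ : Z ⟶ G.U), g₁ ≫ G.toQuot = g₂ ≫ G.toQuot →
      g₁ ≫ G.pU = g₂ ≫ G.pU := by
    intro Z g₁ g₂ hg
    have e1 : hpb.lift g₁ g₂ hg ≫ G.t = g₁ := hpb.lift_fst _ _ _
    have e2 : hpb.lift g₁ g₂ hg ≫ G.s = g₂ := hpb.lift_snd _ _ _
    calc g₁ ≫ G.pU = (hpb.lift g₁ g₂ hg ≫ G.t) ≫ G.pU := by rw [e1]
      _ = (hpb.lift g₁ g₂ hg ≫ G.s) ≫ G.pU := by
        rw [Category.assoc, Category.assoc, G.t_over, G.s_over]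
      _ = g₂ ≫ G.pU := by rw [e2]
  let m := EffectiveEpi.desc G.toQuot G.pU hw
  have hm : G.toQuot ≫ m = G.pU := EffectiveEpi.fac G.toQuot G.pU hw
  refine ⟨m, ⟨hm, ?_⟩, ?_⟩
  · apply Groth.Agent.Lib.Helper12.QuotShLib.isQuotient_of_isKernelPair
    · refine IsPullback.of_map (Over.forget S) ?_ ?_
      · apply Over.OverMorphism.ext
        simp only [Over.comp_left, Over.homMk_left]
        exact (t_toQuot G).symm
      · exact hpb.flip
    · exact G.toQuot.singleton_mem_fppfPrecoverage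
  · rintro m' ⟨hm', -⟩
    have : Epi G.toQuot := inferInstance
    rw [← cancel_epi G.toQuot, hm, hm']

end Groth.Agent.Lib.H5bRG
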