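import Mathlib
import Groth.Prelude.Def_Grpd
import Groth.Agent.Lib.H5bRGofG
import Groth.Agent.Lib.H5bRGSch
import Groth.Agent.Lib.H5bRGSch2
import Groth.Agent.Lib.H5bRGPts

/-!
# Points and geometric points of the quotient `U → Spec C` of an affine groupoid scheme with
finite locally free source map (helper5)
-/

set_option autoImplicit false
set_option linter.style.haveILetI false
set_option linter.unusedSectionVars false
set_option linter.unusedSimpArgs false
universe u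

open CategoryTheory CategoryTheory.Limits AlgebraicGeometry TensorProduct

namespace Groth.Agent.Lib.H5bRG

variable {S : Scheme.{u}} (G : Grpd.GroupoidScheme S)

attribute [local instance] algB algD

/-- fibres of `U → Spec C` are the orbits. -/
theorem toQuot_eq_iff [IsAffine G.U] [IsAffine G.R] [IsFinite G.s] [Flat G.s]
    [LocallyOfFinitePresentation G.s] (u₀ u₁ : G.U) :
    G.toQuot u₀ = G.toQuot u₁ ↔ ∃ r : G.R, G.t r = u₀ ∧ G.s r = u₁ := by
  constructor
  · intro hq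
    let P₀ : PrimeSpectrum Γ(G.U, ⊤) := G.U.toSpecΓ u₀
    let P₁ : PrimeSpectrum Γ(G.U, ⊤) := G.U.toSpecΓ u₁
    have hq' : PrimeSpectrum.comap G.invariants.subtype P₀ =
        PrimeSpectrum.comap G.invariants.subtype P₁ := hq
    have hpp : ∀ a, (ofG G).σ a = (ofG G).τ a → (a ∈ P₀.asIdeal ↔ a ∈ P₁.asIdeal) := by
      intro a ha
      have := congrArg (fun P : PrimeSpectrum G.invariants =>
        (⟨a, ha⟩ : G.invariants) ∈ P.asIdeal) hq'
      simpa using this
    obtain ⟨q, hq, hq₀, hq₁⟩ := (ofG G).exists_prime_orbit P₀.asIdeal P₁.asIdeal hpp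
    obtain ⟨r, hr⟩ := (G.R.toSpecΓ).homeomorph.surjective ⟨q, hq⟩
    have hr' : G.R.toSpecΓ r = ⟨q, hq⟩ := hr
    refine ⟨r, ?_, ?_⟩
    · apply (G.U.toSpecΓ).homeomorph.injective
      show G.U.toSpecΓ (G.t r) = G.U.toSpecΓ u₀
      rw [← Scheme.Hom.comp_apply, Scheme.toSpecΓ_naturality, Scheme.Hom.comp_apply, hr',
        Spec.map_apply]
      apply PrimeSpectrum.ext
      exact hq₀
    · apply (G.U.toSpecΓ).homeomorph.injective
      show G.U.toSpecΓ (G.s r) = G.U.toSpecΓ u₁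
      rw [← Scheme.Hom.comp_apply, Scheme.toSpecΓ_naturality, Scheme.Hom.comp_apply, hr',
        Spec.map_apply]
      apply PrimeSpectrum.ext
      exact hq₁
  · rintro ⟨r, rfl, rfl⟩
    rw [← Scheme.Hom.comp_apply, ← Scheme.Hom.comp_apply, t_toQuot]

/-- every geometric point of `Spec C` lifts to `U`. -/
theorem exists_kpoint_lift [IsAffine G.U] [IsAffine G.R] [IsFinite G.s] [Flat G.s]
    [LocallyOfFinitePresentation G.s] (k : Type u) [Field k] [IsAlgClosed k]
    (m : Spec (CommRingCat.of k) ⟶ Spec (CommRingCat.of G.invariants)) :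
    ∃ x : Spec (CommRingCat.of k) ⟶ G.U, x ≫ G.toQuot = m := by
  have he := ofG_isExact G
  have hint := (ofG G).isIntegral_of_isExact he
  have hs := (ofG G).comap_surjective_of_isExact he
  obtain ⟨ξ, hξ⟩ := exists_ringHom_lift hs k (Spec.preimage m).hom
  refine ⟨Spec.map (CommRingCat.ofHom ξ) ≫ G.U.isoSpec.inv, ?_⟩
  have h1 : G.U.isoSpec.inv ≫ G.U.toSpecΓ = 𝟙 _ := G.U.isoSpec.inv_hom_id
  unfold Grpd.GroupoidScheme.toQuot
  rw [Category.assoc, reassoc_of% h1, ← Spec.map_comp]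
  conv_rhs => rw [← Spec.map_preimage m]
  congr 1
  ext c
  exact RingHom.congr_fun hξ c

/-- two geometric points of `U` with the same image in `Spec C` are joined by a geometric point of
`R`. -/
theorem kpoint_eq_iff [IsAffine G.U] [IsAffine G.R] [IsFinite G.s] [Flat G.s]
    [LocallyOfFinitePresentation G.s] (k : Type u) [Field k] [IsAlgClosed k]
    (x₀ x₁ : Spec (CommRingCat.of k) ⟶ G.U) :
    x₀ ≫ G.toQuot = x₁ ≫ G.toQuot ↔
      ∃ r : Spec (CommRingCat.of k) ⟶ G.R, r ≫ G.t = x₀ ∧ r ≫ G.s = x₁ := by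
  constructor
  · intro hx
    have he := ofG_isExact G
    let Ξ₀ : Γ(G.U, ⊤) ⟶ CommRingCat.of k := Spec.preimage (x₀ ≫ G.U.toSpecΓ)
    let Ξ₁ : Γ(G.U, ⊤) ⟶ CommRingCat.of k := Spec.preimage (x₁ ≫ G.U.toSpecΓ)
    have hΞ₀ : Spec.map Ξ₀ = x₀ ≫ G.U.toSpecΓ := Spec.map_preimage _
    have hΞ₁ : Spec.map Ξ₁ = x₁ ≫ G.U.toSpecΓ := Spec.map_preimage _
    let ι : CommRingCat.of G.invariants ⟶ Γ(G.U, ⊤) := CommRingCat.ofHom G.invariants.subtype
    have hι : ι ≫ Ξ₀ = ι ≫ Ξ₁ := by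
      apply Spec.map_injective
      rw [Spec.map_comp, Spec.map_comp, hΞ₀, hΞ₁, Category.assoc, Category.assoc]
      exact hx
    obtain ⟨ρ, hρ₀, hρ₁⟩ := (ofG G).exists_ringHom_orbit he k Ξ₀.hom Ξ₁.hom (by
      ext c
      have := congrArg (fun φ => φ.hom c) hι
      exact this)
    have h1 : G.R.isoSpec.inv ≫ G.R.toSpecΓ = 𝟙 _ := G.R.isoSpec.inv_hom_id
    refine ⟨Spec.map (CommRingCat.ofHom ρ) ≫ G.R.isoSpec.inv, ?_, ?_⟩
    · rw [← cancel_mono G.U.toSpecΓ, Category.assoc, Category.assoc, Scheme.toSpecΓ_naturality,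
        reassoc_of% h1, ← Spec.map_comp, ← hΞ₀]
      congr 1
      ext a
      exact RingHom.congr_fun hρ₀ a
    · rw [← cancel_mono G.U.toSpecΓ, Category.assoc, Category.assoc, Scheme.toSpecΓ_naturality,
        reassoc_of% h1, ← Spec.map_comp, ← hΞ₁]
      congr 1
      ext a
      exact RingHom.congr_fun hρ₁ a
  · rintro ⟨r, rfl, rfl⟩
    rw [Category.assoc, Category.assoc, t_toQuot]

end Groth.Agent.Lib.H5bRG
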