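import Mathlib
import Groth.Prelude.Def_Grpd
import Groth.Agent.Lib.H5bRGSch2
import Groth.Agent.Lib.H5bRGPtsSch
import Groth.Agent.Lib.H5bRGLocal
import Groth.Agent.Lib.H5bGQRestr
import Groth.Agent.Lib.H5bGQEpi

/-!
# The quotient `U → Spec C` of an affine groupoid scheme with finite locally free source (helper5)

Topological and categorical properties of `G.toQuot` for `U`, `R` affine and `s` finite locally free
(no monomorphism hypothesis): integral, closed, open, an epimorphism of schemes, factorisation of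
invariant morphisms to affine opens, invariant basic open neighbourhoods inside invariant opens.
-/

set_option autoImplicit false
set_option linter.style.haveILetI false
set_option linter.unusedSectionVars false
set_option linter.unusedSimpArgs false
universe u

open CategoryTheory CategoryTheory.Limits AlgebraicGeometry

namespace Groth.Agent.Lib.H5bGQ

open Groth.Agent.Lib.H5bRG

variable {S : Scheme.{u}} (G : Grpd.GroupoidScheme S)

attribute [local instance] algB algD

section Affine

variable [IsAffine G.U] [IsAffine G.R] [IsFinite G.s] [Flat G.s] [LocallyOfFinitePresentation G.s]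

theorem toQuot_def :
    G.toQuot = G.U.toSpecΓ ≫ Spec.map (CommRingCat.ofHom G.invariants.subtype) := rfl

theorem isIntegralHom_toQuot : IsIntegralHom G.toQuot := by
  have he := ofG_isExact G
  have hint : Algebra.IsIntegral G.invariants Γ(G.U, ⊤) := (ofG G).isIntegral_of_isExact he
  have h1 : IsIntegralHom (Spec.map (CommRingCat.ofHom G.invariants.subtype)) := by
    rw [IsIntegralHom.SpecMap_iff]
    show (G.invariants.subtype).IsIntegral
    exact algebraMap_isIntegral_iff.mpr hint
  rw [toQuot_def]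
  infer_instance

theorem isClosedMap_toQuot : IsClosedMap G.toQuot := by
  haveI := isIntegralHom_toQuot G
  exact G.toQuot.isClosedMap

theorem isQuotientMap_toQuot : Topology.IsQuotientMap G.toQuot := by
  haveI := surjective_toQuot G
  exact (isClosedMap_toQuot G).isQuotientMap G.toQuot.continuous G.toQuot.surjective

theorem preimage_image_toQuot (O : Set G.U) :
    G.toQuot ⁻¹' (G.toQuot '' O) = G.t '' (G.s ⁻¹' O) := by
  ext x
  constructor
  · rintro ⟨y, hy, hxy⟩
    obtain ⟨r, hr1, hr2⟩ := (toQuot_eq_iff G x y).mp hxy.symm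
    exact ⟨r, by simpa [hr2] using hy, hr1⟩
  · rintro ⟨r, hr, rfl⟩
    exact ⟨G.s r, hr, ((toQuot_eq_iff G (G.t r) (G.s r)).mpr ⟨r, rfl, rfl⟩).symm⟩

theorem isOpenMap_toQuot : IsOpenMap G.toQuot := by
  intro O hO
  rw [← (isQuotientMap_toQuot G).isOpen_preimage, preimage_image_toQuot]
  haveI := flat_t G
  haveI := lofp_t G
  exact G.t.isOpenMap _ (hO.preimage G.s.continuous)

theorem injective_appTop_toQuot : Function.Injective G.toQuot.appTop.hom := by
  rw [toQuot_def, Scheme.Hom.comp_appTop]
  have h1 : Function.Injective (Spec.map (CommRingCat.ofHom G.invariants.subtype)).appTop.hom := by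
    have h2 := Scheme.ΓSpecIso_naturality (CommRingCat.ofHom G.invariants.subtype)
    have h3 : (Spec.map (CommRingCat.ofHom G.invariants.subtype)).appTop =
        (Scheme.ΓSpecIso _).hom ≫ CommRingCat.ofHom G.invariants.subtype ≫
          (Scheme.ΓSpecIso _).inv := by
      rw [← Category.assoc, ← h2, Category.assoc, Iso.hom_inv_id, Category.comp_id]
    rw [h3]
    intro a b hab
    simp only [CommRingCat.hom_comp, RingHom.coe_comp, Function.comp_apply] at hab
    have h4 := (ConcreteCategory.bijective_of_isIso (Scheme.ΓSpecIso Γ(G.U, ⊤)).inv).1 hab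
    have h5 := Subtype.val_injective h4
    exact (ConcreteCategory.bijective_of_isIso
      (Scheme.ΓSpecIso (CommRingCat.of G.invariants)).hom).1 h5
  have h6 : Function.Injective G.U.toSpecΓ.appTop.hom := by
    rw [Scheme.toSpecΓ_appTop]
    exact (ConcreteCategory.bijective_of_isIso (Scheme.ΓSpecIso Γ(G.U, ⊤)).hom).1
  intro a b hab
  simp only [CommRingCat.hom_comp, RingHom.coe_comp, Function.comp_apply] at hab
  exact h1 (h6 hab)

instance isSchemeTheoreticallyDominant_toQuot : IsSchemeTheoreticallyDominant G.toQuot := by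
  rw [isSchemeTheoreticallyDominant_iff]
  apply Scheme.IdealSheafData.ext_of_isAffine
  rw [Scheme.Hom.ker_apply]
  simp only [Scheme.IdealSheafData.ideal_bot, Pi.bot_apply]
  exact (RingHom.injective_iff_ker_eq_bot _).mp (injective_appTop_toQuot G)

/-- `G.toQuot` is an epimorphism of schemes. -/
theorem epi_toQuot {Z : Scheme.{u}} (a b : Spec (CommRingCat.of G.invariants) ⟶ Z)
    (h : G.toQuot ≫ a = G.toQuot ≫ b) : a = b := by
  haveI := surjective_toQuot G
  exact eq_of_comp_eq G.toQuot a b h

/-- invariant morphisms landing in an affine open factor through the quotient. -/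
theorem exists_desc_affine {Z : Scheme.{u}} (h : G.U ⟶ Z) (hh : G.t ≫ h = G.s ≫ h)
    (D : Z.Opens) (hD : IsAffineOpen D) (hr : ∀ x, h x ∈ D) :
    ∃ k : Spec (CommRingCat.of G.invariants) ⟶ Z, G.toQuot ≫ k = h := by
  have hr' : Set.range h ⊆ Set.range D.ι := by
    rw [Scheme.Opens.range_ι]
    rintro _ ⟨x, rfl⟩
    exact hr x
  let h' : G.U ⟶ D.toScheme := IsOpenImmersion.lift D.ι h hr'
  have hh' : h' ≫ D.ι = h := IsOpenImmersion.lift_fac _ _ _
  haveI : IsAffine D.toScheme := hD
  have hts : G.t ≫ h' = G.s ≫ h' := by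
    rw [← cancel_mono D.ι, Category.assoc, Category.assoc, hh', hh]
  have hmem : ∀ d, h'.appTop.hom d ∈ G.invariants := by
    intro d
    have := congrArg (fun φ : G.R ⟶ D.toScheme => φ.appTop.hom d) hts
    simp only [Scheme.Hom.comp_appTop, CommRingCat.hom_comp, RingHom.coe_comp,
      Function.comp_apply] at this
    exact this.symm
  let φ : Γ(D.toScheme, ⊤) →+* G.invariants := RingHom.codRestrict h'.appTop.hom G.invariants hmem
  let k' : Spec (CommRingCat.of G.invariants) ⟶ D.toScheme :=
    Spec.map (CommRingCat.ofHom φ) ≫ D.toScheme.isoSpec.inv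
  refine ⟨k' ≫ D.ι, ?_⟩
  rw [← hh', ← Category.assoc]
  congr 1
  have e1 : CommRingCat.ofHom φ ≫ CommRingCat.ofHom G.invariants.subtype = h'.appTop := by
    ext d
    rfl
  have e2 : D.toScheme.toSpecΓ ≫ D.toScheme.isoSpec.inv = 𝟙 _ := D.toScheme.isoSpec.hom_inv_id
  show G.toQuot ≫ Spec.map (CommRingCat.ofHom φ) ≫ D.toScheme.isoSpec.inv = h'
  rw [toQuot_def, Category.assoc, ← Category.assoc (Spec.map _), ← Spec.map_comp, e1,
    ← Category.assoc, ← Scheme.toSpecΓ_naturality, Category.assoc, e2, Category.comp_id]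

theorem mem_basicOpen_iff_toQuot (c : G.invariants) (x : G.U) :
    x ∈ G.U.basicOpen (c : Γ(G.U, ⊤)) ↔
      G.toQuot x ∈ PrimeSpectrum.basicOpen c := by
  have h1 := congrArg (fun O : G.U.Opens => x ∈ O)
    (Scheme.toSpecΓ_preimage_basicOpen G.U (c : Γ(G.U, ⊤)))
  simp only [eq_iff_iff] at h1
  rw [← h1]
  rfl

theorem toQuot_preimage_basicOpen (c : G.invariants) :
    G.toQuot ⁻¹ᵁ PrimeSpectrum.basicOpen c = G.U.basicOpen (c : Γ(G.U, ⊤)) := by
  ext x
  exact (mem_basicOpen_iff_toQuot G c x).symm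

/-- a point of an invariant open has an invariant basic open neighbourhood inside it. -/
theorem exists_invariant_basicOpen (x : G.U) (Ω : G.U.Opens) (hx : x ∈ Ω)
    (hΩ : ∀ r : G.R, G.t r ∈ Ω → G.s r ∈ Ω) :
    ∃ c : G.invariants, x ∈ G.U.basicOpen (c : Γ(G.U, ⊤)) ∧
      G.U.basicOpen (c : Γ(G.U, ⊤)) ≤ Ω := by
  have hcl : IsClosed (G.toQuot '' ((Ω : Set G.U)ᶜ)) :=
    isClosedMap_toQuot G _ Ω.isOpen.isClosed_compl
  have hx' : G.toQuot x ∈ (G.toQuot '' ((Ω : Set G.U)ᶜ))ᶜ := by
    rintro ⟨z, hz, hzx⟩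
    obtain ⟨r, hr1, hr2⟩ := (toQuot_eq_iff G x z).mp hzx.symm
    apply hz
    rw [← hr2]
    apply hΩ
    rw [hr1]
    exact hx
  obtain ⟨_, ⟨c, rfl⟩, hc1, hc2⟩ :=
    PrimeSpectrum.isTopologicalBasis_basic_opens.exists_subset_of_mem_open hx' hcl.isOpen_compl
  refine ⟨c, (mem_basicOpen_iff_toQuot G c x).mpr hc1, ?_⟩
  intro z hz
  by_contra hzΩ
  exact hc2 ((mem_basicOpen_iff_toQuot G c z).mp hz) ⟨z, hzΩ, rfl⟩

end Affine

end Groth.Agent.Lib.H5bGQ
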