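import Mathlib

/-!
# Gluing local quotients along a locally directed family of saturated opens (helper5)

* `isOpenImmersion_of_local`: an injective morphism which is locally on the source an open immersion
  is an open immersion.
* `Glue.isLocallyDirected`, `Glue.exists_glue`: given opens `O i` of `X` (indexed by a preorder, closed
  under "local intersections"), surjective morphisms `q i : O i ⟶ F i` compatible with open immersions
  `F i ⟶ F j` and saturated, the `F i` glue to a scheme `Y = colimit F` with a morphism `p : X ⟶ Y`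
  restricting to the `q i`.
-/

set_option autoImplicit false
set_option linter.style.haveILetI false
set_option linter.unusedSectionVars false
set_option linter.unusedSimpArgs false
universe u

open CategoryTheory CategoryTheory.Limits AlgebraicGeometry

namespace Groth.Agent.Lib.H5bGQ

theorem isOpenImmersion_of_local {X Y : Scheme.{u}} (f : X ⟶ Y) (hinj : Function.Injective f)
    (hloc : ∀ x : X, ∃ (X' : Scheme.{u}) (i : X' ⟶ X), IsOpenImmersion i ∧ x ∈ Set.range i ∧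
      IsOpenImmersion (i ≫ f)) : IsOpenImmersion f := by
  have hopen : IsOpenMap f := by
    intro O hO
    rw [isOpen_iff_forall_mem_open]
    rintro _ ⟨x, hxO, rfl⟩
    obtain ⟨X', i, hi, ⟨x', rfl⟩, hif⟩ := hloc x
    refine ⟨(i ≫ f) '' (i ⁻¹' O), ?_, ?_, ?_⟩
    · rintro _ ⟨z, hz, rfl⟩
      exact ⟨i z, hz, by rw [Scheme.Hom.comp_apply]⟩
    · exact (i ≫ f).isOpenEmbedding.isOpenMap _ (hO.preimage i.continuous)
    · exact ⟨x', hxO, by rw [Scheme.Hom.comp_apply]⟩
  have hemb : Topology.IsOpenEmbedding f :=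
    Topology.IsOpenEmbedding.of_continuous_injective_isOpenMap f.continuous hinj hopen
  have hst : ∀ x, IsIso (f.stalkMap x) := by
    intro x
    obtain ⟨X', i, hi, ⟨x', rfl⟩, hif⟩ := hloc x
    haveI : IsOpenImmersion i := hi
    haveI : IsOpenImmersion (i ≫ f) := hif
    have h0 : IsIso ((i ≫ f).stalkMap x') := inferInstance
    have h1 : IsIso (f.stalkMap (i x') ≫ i.stalkMap x') := by
      rw [← Scheme.Hom.stalkMap_comp]
      exact h0
    exact IsIso.of_isIso_comp_right (f.stalkMap (i x')) (i.stalkMap x')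
  exact IsOpenImmersion.of_isIso_stalkMap f hemb

namespace Glue

variable {X : Scheme.{u}} {J : Type u} [Preorder J] (O : J → X.Opens) (hO : Monotone O)
  (F : J ⥤ Scheme.{u}) [∀ {i j : J} (f : i ⟶ j), IsOpenImmersion (F.map f)]
  (q : ∀ i, (O i).toScheme ⟶ F.obj i)
  (hq : ∀ {i j : J} (f : i ⟶ j), X.homOfLE (hO (leOfHom f)) ≫ q j = q i ≫ F.map f)
  (hsurj : ∀ i, Function.Surjective (q i))
  (hcov : ∀ x : X, ∃ i, x ∈ O i)
  (hinter : ∀ (i j : J) (x : X), x ∈ O i → x ∈ O j → ∃ k, k ≤ i ∧ k ≤ j ∧ x ∈ O k)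
  (hsat : ∀ {i j : J} (f : i ⟶ j) (x : (O j).toScheme), q j x ∈ Set.range (F.map f) → x.1 ∈ O i)

include hq in
theorem q_apply {i j : J} (f : i ⟶ j) (x : X) (hx : x ∈ O i) :
    q j ⟨x, hO (leOfHom f) hx⟩ = F.map f (q i ⟨x, hx⟩) := by
  have := congrArg (fun φ : (O i).toScheme ⟶ F.obj j => φ ⟨x, hx⟩) (hq f)
  simp only [Scheme.Hom.comp_apply] at this
  rw [← this, Scheme.homOfLE_apply']

include hO hq hsurj hinter hsat in
theorem isLocallyDirected : (F ⋙ Scheme.forget).IsLocallyDirected := by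
  constructor
  intro i j k fi fj xi xj hx
  have hx' : F.map fi xi = F.map fj xj := hx
  obtain ⟨ui, rfl⟩ := hsurj i xi
  obtain ⟨uj, rfl⟩ := hsurj j xj
  have h1 : q k ⟨uj.1, hO (leOfHom fj) uj.2⟩ = F.map fj (q j uj) :=
    q_apply O hO F q hq fj uj.1 uj.2
  have h2 : uj.1 ∈ O i := by
    apply hsat fi ⟨uj.1, hO (leOfHom fj) uj.2⟩
    rw [h1, ← hx']
    exact ⟨_, rfl⟩
  obtain ⟨l, hli, hlj, hl⟩ := hinter i j uj.1 h2 uj.2
  refine ⟨l, homOfLE hli, homOfLE hlj, q l ⟨uj.1, hl⟩, ?_, ?_⟩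
  · show F.map (homOfLE hli) (q l ⟨uj.1, hl⟩) = q i ui
    rw [← q_apply O hO F q hq (homOfLE hli) uj.1 hl]
    apply (F.map fi).isOpenEmbedding.injective
    rw [hx', ← h1, ← q_apply O hO F q hq fi uj.1 h2]
  · show F.map (homOfLE hlj) (q l ⟨uj.1, hl⟩) = q j uj
    rw [← q_apply O hO F q hq (homOfLE hlj) uj.1 hl]
    rfl

variable [(F ⋙ Scheme.forget).IsLocallyDirected]

include hO hq hcov hinter hsat in
theorem exists_glue :
    ∃ p : X ⟶ colimit F, (∀ i, (O i).ι ≫ p = q i ≫ colimit.ι F i) ∧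
      (∀ i, p ⁻¹ᵁ (colimit.ι F i).opensRange = O i) := by
  let 𝒰 : X.OpenCover := Scheme.Cover.mkOfCovers J (fun i => (O i).toScheme) (fun i => (O i).ι)
    (fun x => by
      obtain ⟨i, hi⟩ := hcov x
      exact ⟨i, ⟨x, hi⟩, rfl⟩)
  have hcompat : ∀ i j : J, pullback.fst (O i).ι (O j).ι ≫ q i ≫ colimit.ι F i =
      pullback.snd (O i).ι (O j).ι ≫ q j ≫ colimit.ι F j := by
    intro i j
    apply Scheme.hom_ext_of_forall
    intro z
    have hcond : pullback.fst (O i).ι (O j).ι ≫ (O i).ι = pullback.snd (O i).ι (O j).ι ≫ (O j).ι :=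
      pullback.condition
    have hxi : (pullback.fst (O i).ι (O j).ι ≫ (O i).ι) z ∈ O i := by
      rw [Scheme.Hom.comp_apply]
      exact (pullback.fst (O i).ι (O j).ι z).2
    have hxj : (pullback.fst (O i).ι (O j).ι ≫ (O i).ι) z ∈ O j := by
      rw [hcond, Scheme.Hom.comp_apply]
      exact (pullback.snd (O i).ι (O j).ι z).2
    obtain ⟨k, hki, hkj, hk⟩ := hinter i j _ hxi hxj
    refine ⟨(pullback.fst (O i).ι (O j).ι ≫ (O i).ι) ⁻¹ᵁ (O k), hk, ?_⟩
    set Q := (pullback.fst (O i).ι (O j).ι ≫ (O i).ι) ⁻¹ᵁ (O k) with hQ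
    have hr : Set.range (Q.ι ≫ pullback.fst (O i).ι (O j).ι ≫ (O i).ι) ⊆ Set.range (O k).ι := by
      rintro _ ⟨w, rfl⟩
      rw [Scheme.Opens.range_ι]
      exact w.2
    let l := IsOpenImmersion.lift (O k).ι (Q.ι ≫ pullback.fst (O i).ι (O j).ι ≫ (O i).ι) hr
    have hl : l ≫ (O k).ι = Q.ι ≫ pullback.fst (O i).ι (O j).ι ≫ (O i).ι :=
      IsOpenImmersion.lift_fac _ _ _
    have e1 : Q.ι ≫ pullback.fst (O i).ι (O j).ι = l ≫ X.homOfLE (hO hki) := by
      rw [← cancel_mono (O i).ι, Category.assoc, Category.assoc, Scheme.homOfLE_ι, hl]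
    have e2 : Q.ι ≫ pullback.snd (O i).ι (O j).ι = l ≫ X.homOfLE (hO hkj) := by
      rw [← cancel_mono (O j).ι, Category.assoc, Category.assoc, Scheme.homOfLE_ι, hl, hcond]
    have w1 : F.map (homOfLE hki) ≫ colimit.ι F i = colimit.ι F k := colimit.w F (homOfLE hki)
    have w2 : F.map (homOfLE hkj) ≫ colimit.ι F j = colimit.ι F k := colimit.w F (homOfLE hkj)
    rw [← Category.assoc, e1, ← Category.assoc Q.ι, e2, Category.assoc, Category.assoc,
      ← Category.assoc (X.homOfLE _), hq (homOfLE hki), ← Category.assoc (X.homOfLE _),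
      hq (homOfLE hkj), Category.assoc, Category.assoc, w1, w2]
  let p : X ⟶ colimit F := 𝒰.glueMorphisms (fun i => q i ≫ colimit.ι F i) hcompat
  have hp : ∀ i, (O i).ι ≫ p = q i ≫ colimit.ι F i := fun i =>
    𝒰.ι_glueMorphisms (fun i => q i ≫ colimit.ι F i) hcompat i
  have hp' : ∀ (i : J) (x : X) (hx : x ∈ O i), p x = colimit.ι F i (q i ⟨x, hx⟩) := by
    intro i x hx
    have := congrArg (fun φ : (O i).toScheme ⟶ colimit F => φ ⟨x, hx⟩) (hp i)
    simpa [Scheme.Hom.comp_apply] using this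
  refine ⟨p, hp, fun i => ?_⟩
  ext x
  constructor
  · rintro ⟨y, hy⟩
    obtain ⟨j, hj⟩ := hcov x
    have h1 : colimit.ι F i y = colimit.ι F j (q j ⟨x, hj⟩) := by
      rw [← hp' j x hj]
      exact hy
    obtain ⟨k, fi, fj, z, hz1, hz2⟩ := (Scheme.IsLocallyDirected.ι_eq_ι_iff F).mp h1
    have h2 : x ∈ O k := hsat fj ⟨x, hj⟩ ⟨z, hz2⟩
    exact hO (leOfHom fi) h2
  · intro hx
    exact ⟨q i ⟨x, hx⟩, (hp' i x hx).symm⟩

end Glue

end Groth.Agent.Lib.H5bGQ
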