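import Mathlib
import Groth.Prelude.Def_Grpd

/-!
# Invariants commute with localisation at an invariant function (helper5)

* `away_eqLocus`: ring-level statement: the equaliser of a localised pair is the localisation of the
  equaliser.
* `locAway_of_openImm`: an open immersion into an affine scheme with range a basic open is a
  localisation on global sections.
* `isOpenImmersion_SpecMap_inv`: for an "open immersion of affine groupoids" onto an invariant basic open,
  the induced map on spectra of rings of invariants is an open immersion onto the basic open.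
-/

set_option autoImplicit false
set_option linter.style.haveILetI false
set_option linter.unusedSectionVars false
set_option linter.unusedSimpArgs false
universe u

open CategoryTheory CategoryTheory.Limits AlgebraicGeometry

namespace Groth.Agent.Lib.H5bGQ

theorem away_of_ringHom_eq {R S : Type*} [CommRing R] [CommRing S] (f g : R →+* S) (h : f = g)
    (x : R) (H : @IsLocalization.Away _ _ x S _ f.toAlgebra) :
    @IsLocalization.Away _ _ x S _ g.toAlgebra := by
  subst h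
  exact H

theorem KL_surj {A B A' B' : Type*} [CommRing A] [CommRing B] [CommRing A'] [CommRing B']
    (ρA : A →+* A') (ρB : B →+* B') (σ τ : A →+* B) (σ' τ' : A' →+* B') (c : A) (hc : σ c = τ c)
    (hA : @IsLocalization.Away _ _ c A' _ ρA.toAlgebra)
    (hB : @IsLocalization.Away _ _ (σ c) B' _ ρB.toAlgebra)
    (hσ : ∀ a, σ' (ρA a) = ρB (σ a)) (hτ : ∀ a, τ' (ρA a) = ρB (τ a))
    (a' : A') (ha' : σ' a' = τ' a') :
    ∃ (a : A) (n : ℕ), σ a = τ a ∧ a' * ρA c ^ n = ρA a := by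
  letI := ρA.toAlgebra
  letI := ρB.toAlgebra
  obtain ⟨n, a₁, h1⟩ := IsLocalization.Away.surj c a'
  have h1' : a' * ρA c ^ n = ρA a₁ := h1
  have h2 : ρB (σ a₁) = ρB (τ a₁) := by
    rw [← hσ, ← hτ, ← h1', map_mul, map_mul, map_pow, map_pow, hσ, hτ, ha', hc]
  obtain ⟨m, hm⟩ := IsLocalization.Away.exists_of_eq (σ c) (S := B') h2
  refine ⟨c ^ m * a₁, n + m, ?_, ?_⟩
  · rw [map_mul, map_mul, map_pow, map_pow, hm, hc]
  · rw [pow_add, ← mul_assoc, h1', map_mul, map_pow, mul_comm]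

theorem away_eqLocus {A B A' B' : Type*} [CommRing A] [CommRing B] [CommRing A'] [CommRing B']
    (ρA : A →+* A') (ρB : B →+* B') (σ τ : A →+* B) (σ' τ' : A' →+* B') (c : A) (hc : σ c = τ c)
    (hA : @IsLocalization.Away _ _ c A' _ ρA.toAlgebra)
    (hB : @IsLocalization.Away _ _ (σ c) B' _ ρB.toAlgebra)
    (hσ : ∀ a, σ' (ρA a) = ρB (σ a)) (hτ : ∀ a, τ' (ρA a) = ρB (τ a))
    (ρC : RingHom.eqLocus σ τ →+* RingHom.eqLocus σ' τ')
    (hρC : ∀ x, (ρC x : A') = ρA x) :
    @IsLocalization.Away _ _ (⟨c, hc⟩ : RingHom.eqLocus σ τ) (RingHom.eqLocus σ' τ') _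
      ρC.toAlgebra := by
  letI := ρC.toAlgebra
  have hu : IsUnit (ρA c) := by
    letI := ρA.toAlgebra
    exact IsLocalization.Away.algebraMap_isUnit c
  apply IsLocalization.Away.mk
  · -- the image of `c` is a unit
    obtain ⟨u, hu'⟩ := hu
    have h1 : σ' (ρA c) = τ' (ρA c) := by rw [hσ, hτ, hc]
    have h2 : σ' (↑u⁻¹ : A') = τ' (↑u⁻¹ : A') := by
      have e1 : σ' (↑u⁻¹ : A') * σ' (ρA c) = 1 := by
        rw [← map_mul, ← hu', Units.inv_mul, map_one]
      have e2 : τ' (↑u⁻¹ : A') * σ' (ρA c) = 1 := by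
        rw [h1, ← map_mul, ← hu', Units.inv_mul, map_one]
      have e3 : σ' (ρA c) * σ' (↑u⁻¹ : A') = 1 := by rw [mul_comm, e1]
      calc σ' (↑u⁻¹ : A') = (τ' (↑u⁻¹ : A') * σ' (ρA c)) * σ' (↑u⁻¹ : A') := by rw [e2, one_mul]
        _ = τ' (↑u⁻¹ : A') := by rw [mul_assoc, e3, mul_one]
    refine IsUnit.of_mul_eq_one (⟨(↑u⁻¹ : A'), h2⟩ : RingHom.eqLocus σ' τ') ?_
    apply Subtype.ext
    show ((algebraMap (RingHom.eqLocus σ τ) (RingHom.eqLocus σ' τ') ⟨c, hc⟩ : _) : A') *
      (↑u⁻¹ : A') = 1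
    have : ((algebraMap (RingHom.eqLocus σ τ) (RingHom.eqLocus σ' τ') ⟨c, hc⟩ : _) : A') = ρA c :=
      hρC ⟨c, hc⟩
    rw [this, ← hu', Units.mul_inv]
  · intro s
    obtain ⟨a, n, ha, hn⟩ := KL_surj ρA ρB σ τ σ' τ' c hc hA hB hσ hτ s.1 s.2
    refine ⟨n, ⟨a, ha⟩, ?_⟩
    apply Subtype.ext
    show (s : A') * ((algebraMap (RingHom.eqLocus σ τ) (RingHom.eqLocus σ' τ') ⟨c, hc⟩ : _) : A') ^ n
      = ((algebraMap (RingHom.eqLocus σ τ) (RingHom.eqLocus σ' τ') ⟨a, ha⟩ : _) : A')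
    have e1 : ((algebraMap (RingHom.eqLocus σ τ) (RingHom.eqLocus σ' τ') ⟨c, hc⟩ : _) : A') = ρA c :=
      hρC ⟨c, hc⟩
    have e2 : ((algebraMap (RingHom.eqLocus σ τ) (RingHom.eqLocus σ' τ') ⟨a, ha⟩ : _) : A') = ρA a :=
      hρC ⟨a, ha⟩
    rw [e1, e2, hn]
  · intro a b hab
    have h1 : ρA a = ρA b := by
      rw [← hρC a, ← hρC b]
      exact congrArg Subtype.val hab
    letI := ρA.toAlgebra
    obtain ⟨n, hn⟩ := IsLocalization.Away.exists_of_eq c (S := A') (a := (a : A)) (b := (b : A)) h1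
    refine ⟨n, ?_⟩
    apply Subtype.ext
    exact hn

/-- an open immersion into an affine scheme with range a basic open is a localisation on global
sections. -/
theorem locAway_of_openImm {X₃ X₂ : Scheme.{u}} [IsAffine X₂] (j : X₃ ⟶ X₂) [IsOpenImmersion j]
    (c : Γ(X₂, ⊤)) (hr : j.opensRange = X₂.basicOpen c) :
    @IsLocalization.Away _ _ c Γ(X₃, ⊤) _ j.appTop.hom.toAlgebra := by
  have h1 := (isAffineOpen_top X₂).isLocalization_of_eq_basicOpen c
    (homOfLE le_top : j.opensRange ⟶ ⊤) hr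
  have hle : (⊤ : X₃.Opens) ≤ j ⁻¹ᵁ j.opensRange := fun x _ => ⟨x, rfl⟩
  let e₀ : Γ(X₂, j.opensRange) ⟶ Γ(X₃, ⊤) := j.appLE j.opensRange ⊤ hle
  have he₀ : IsIso e₀ := by
    have : IsIso (j.app j.opensRange) := j.isIso_app _ le_rfl
    show IsIso (j.app j.opensRange ≫ X₃.presheaf.map (homOfLE hle).op)
    have h2 : IsIso (X₃.presheaf.map (homOfLE hle).op) := by
      have : (homOfLE hle) = eqToHom (le_antisymm hle le_top) := rfl
      rw [this]
      infer_instance
    infer_instance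
  have hcomp : X₂.presheaf.map (homOfLE (le_top : j.opensRange ≤ ⊤)).op ≫ e₀ = j.appTop := by
    rw [Scheme.Hom.map_appLE]
    exact Scheme.Hom.appLE_eq_app j
  let e : Γ(X₂, j.opensRange) ≃+* Γ(X₃, ⊤) := (asIso e₀).commRingCatIsoToRingEquiv
  have h3 := (@IsLocalization.isLocalization_iff_of_ringEquiv _ _ (Submonoid.powers c) _ _
    (X₂.presheaf.map (homOfLE (le_top : j.opensRange ≤ ⊤)).op).hom.toAlgebra _ _ e).mp h1
  refine away_of_ringHom_eq _ _ ?_ c h3
  ext x
  have := congrArg (fun φ => φ.hom x) hcomp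
  exact this

variable {S : Scheme.{u}}

/-- for an open immersion of affine groupoids onto an invariant basic open, the induced map on
spectra of invariants is an open immersion onto the basic open. -/
theorem isOpenImmersion_SpecMap_inv (G₂ G₃ : Grpd.GroupoidScheme S) [IsAffine G₂.U] [IsAffine G₂.R]
    (jU : G₃.U ⟶ G₂.U) (jR : G₃.R ⟶ G₂.R) [IsOpenImmersion jU] [IsOpenImmersion jR]
    (hs : jR ≫ G₂.s = G₃.s ≫ jU) (ht : jR ≫ G₂.t = G₃.t ≫ jU)
    (c : G₂.invariants) (hU : jU.opensRange = G₂.U.basicOpen (c : Γ(G₂.U, ⊤)))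
    (hR : jR.opensRange = G₂.R.basicOpen (G₂.s.appTop.hom (c : Γ(G₂.U, ⊤))))
    (ρ : G₂.invariants →+* G₃.invariants) (hρ : ∀ x, (ρ x : Γ(G₃.U, ⊤)) = jU.appTop.hom x) :
    IsOpenImmersion (Spec.map (CommRingCat.ofHom ρ)) ∧
      Set.range (Spec.map (CommRingCat.ofHom ρ)) =
        ((PrimeSpectrum.basicOpen c : TopologicalSpace.Opens _) : Set (PrimeSpectrum G₂.invariants)) := by
  have hA := locAway_of_openImm jU (c : Γ(G₂.U, ⊤)) hU
  have hB := locAway_of_openImm jR (G₂.s.appTop.hom (c : Γ(G₂.U, ⊤))) hR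
  have hσ : ∀ a, G₃.s.appTop.hom (jU.appTop.hom a) = jR.appTop.hom (G₂.s.appTop.hom a) := by
    intro a
    have := congrArg (fun φ : G₃.R ⟶ G₂.U => φ.appTop.hom a) hs
    simp only [Scheme.Hom.comp_appTop, CommRingCat.hom_comp, RingHom.coe_comp,
      Function.comp_apply] at this
    exact this.symm
  have hτ : ∀ a, G₃.t.appTop.hom (jU.appTop.hom a) = jR.appTop.hom (G₂.t.appTop.hom a) := by
    intro a
    have := congrArg (fun φ : G₃.R ⟶ G₂.U => φ.appTop.hom a) ht
    simp only [Scheme.Hom.comp_appTop, CommRingCat.hom_comp, RingHom.coe_comp,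
      Function.comp_apply] at this
    exact this.symm
  have hloc := away_eqLocus jU.appTop.hom jR.appTop.hom G₂.s.appTop.hom G₂.t.appTop.hom
    G₃.s.appTop.hom G₃.t.appTop.hom (c : Γ(G₂.U, ⊤)) c.2 hA hB hσ hτ ρ hρ
  letI : Algebra G₂.invariants G₃.invariants := ρ.toAlgebra
  have hloc' : IsLocalization.Away c G₃.invariants := hloc
  constructor
  · exact IsOpenImmersion.of_isLocalization (R := G₂.invariants) (S := G₃.invariants) c
  · exact PrimeSpectrum.localization_away_comap_range G₃.invariants c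

end Groth.Agent.Lib.H5bGQ
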