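import Mathlib
import Groth.Prelude.Def_Grpd
import Groth.Agent.Lib.H5bGQAff
import Groth.Agent.Lib.H5bGQLoc
import Groth.Agent.Lib.H5bGQGlue

/-!
# The diagram of local quotients of a groupoid scheme with finite locally free source (helper5)

For a groupoid scheme `G` with `s` finite locally free: the preorder `IAO G` of invariant affine opens,
the restricted affine groupoids `GW G W`, the functor `F G : IAO G ⥤ Scheme` of spectra of invariant
rings, whose transition maps are open immersions, and the quotient maps `pW G W : W ⟶ F.obj W`.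
-/

set_option autoImplicit false
set_option linter.style.haveILetI false
set_option linter.unusedSectionVars false
set_option linter.unusedSimpArgs false
universe u

open CategoryTheory CategoryTheory.Limits AlgebraicGeometry

namespace Groth.Agent.Lib.H5bGQ

open Groth.Agent.Lib.H5bRG

variable {S : Scheme.{u}} (G : Grpd.GroupoidScheme S)

theorem toQuot_naturality (G₁ G₂ : Grpd.GroupoidScheme S) (jU : G₁.U ⟶ G₂.U)
    (ρ : G₂.invariants →+* G₁.invariants)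
    (hρ : ∀ x, (ρ x : Γ(G₁.U, ⊤)) = jU.appTop.hom x) :
    jU ≫ G₂.toQuot = G₁.toQuot ≫ Spec.map (CommRingCat.ofHom ρ) := by
  unfold Grpd.GroupoidScheme.toQuot
  rw [← Category.assoc, Scheme.toSpecΓ_naturality, Category.assoc,
    Category.assoc, ← Spec.map_comp, ← Spec.map_comp]
  congr 2
  ext x
  exact (hρ x).symm

/-- invariant affine opens. -/
abbrev IAO : Type u := {W : G.U.Opens // IsAffineOpen W ∧ G.s ⁻¹ᵁ W = G.t ⁻¹ᵁ W}

/-- the restriction of `G` to an invariant affine open. -/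
noncomputable abbrev GW (W : IAO G) : Grpd.GroupoidScheme S := restr G W.1 W.2.2

variable [IsFinite G.s] [Flat G.s] [LocallyOfFinitePresentation G.s]

instance isAffine_GW_U (W : IAO G) : IsAffine (GW G W).U := restr_isAffine_U G W.1 W.2.2 W.2.1

instance isAffine_GW_R (W : IAO G) : IsAffine (GW G W).R := restr_isAffine_R G W.1 W.2.2 W.2.1

instance isAffine_IAO (W : IAO G) : IsAffine W.1.toScheme := W.2.1

instance isAffine_IAO_R (W : IAO G) : IsAffine (G.s ⁻¹ᵁ W.1).toScheme :=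
  restr_isAffine_R G W.1 W.2.2 W.2.1

theorem GW_s_apply (W : IAO G) (r : (G.s ⁻¹ᵁ W.1).toScheme) : ((GW G W).s r).1 = G.s r.1 :=
  sW_apply G W.1 r

theorem GW_t_apply (W : IAO G) (r : (G.s ⁻¹ᵁ W.1).toScheme) : ((GW G W).t r).1 = G.t r.1 :=
  tW_apply G W.1 W.2.2 r

theorem IAO.mem_iff (W : IAO G) (r : G.R) : G.s r ∈ W.1 ↔ G.t r ∈ W.1 := by
  have := congrArg (fun O : G.R.Opens => r ∈ O) W.2.2
  simpa using this

section Res

variable {G} {W₁ W₂ : IAO G} (h : W₁ ≤ W₂)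

include h in
theorem le_R : G.s ⁻¹ᵁ W₁.1 ≤ G.s ⁻¹ᵁ W₂.1 := fun _ hx => h hx

/-- the inclusion of object schemes. -/
noncomputable abbrev jU : W₁.1.toScheme ⟶ W₂.1.toScheme := G.U.homOfLE h

/-- the inclusion of arrow schemes. -/
noncomputable abbrev jR : (G.s ⁻¹ᵁ W₁.1).toScheme ⟶ (G.s ⁻¹ᵁ W₂.1).toScheme :=
  G.R.homOfLE (le_R h)

theorem jR_s : jR h ≫ (GW G W₂).s = (GW G W₁).s ≫ jU h := by
  apply (cancel_mono W₂.1.ι).mp
  have e1 : (jR h ≫ (GW G W₂).s) ≫ W₂.1.ι = (G.s ⁻¹ᵁ W₁.1).ι ≫ G.s :=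
    calc (jR h ≫ (GW G W₂).s) ≫ W₂.1.ι = jR h ≫ ((GW G W₂).s ≫ W₂.1.ι) := Category.assoc _ _ _
      _ = jR h ≫ ((G.s ⁻¹ᵁ W₂.1).ι ≫ G.s) :=
        congrArg (fun m => jR h ≫ m) (restr_s_ι G W₂.1 W₂.2.2)
      _ = (jR h ≫ (G.s ⁻¹ᵁ W₂.1).ι) ≫ G.s := (Category.assoc _ _ _).symm
      _ = (G.s ⁻¹ᵁ W₁.1).ι ≫ G.s := congrArg (fun m => m ≫ G.s) (Scheme.homOfLE_ι _ _)
  have e2 : ((GW G W₁).s ≫ jU h) ≫ W₂.1.ι = (G.s ⁻¹ᵁ W₁.1).ι ≫ G.s :=
    calc ((GW G W₁).s ≫ jU h) ≫ W₂.1.ι = (GW G W₁).s ≫ (jU h ≫ W₂.1.ι) := Category.assoc _ _ _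
      _ = (GW G W₁).s ≫ W₁.1.ι := congrArg (fun m => (GW G W₁).s ≫ m) (Scheme.homOfLE_ι _ _)
      _ = (G.s ⁻¹ᵁ W₁.1).ι ≫ G.s := restr_s_ι G W₁.1 W₁.2.2
  exact e1.trans e2.symm

theorem jR_t : jR h ≫ (GW G W₂).t = (GW G W₁).t ≫ jU h := by
  apply (cancel_mono W₂.1.ι).mp
  have e1 : (jR h ≫ (GW G W₂).t) ≫ W₂.1.ι = (G.s ⁻¹ᵁ W₁.1).ι ≫ G.t :=
    calc (jR h ≫ (GW G W₂).t) ≫ W₂.1.ι = jR h ≫ ((GW G W₂).t ≫ W₂.1.ι) := Category.assoc _ _ _
      _ = jR h ≫ ((G.s ⁻¹ᵁ W₂.1).ι ≫ G.t) :=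
        congrArg (fun m => jR h ≫ m) (restr_t_ι G W₂.1 W₂.2.2)
      _ = (jR h ≫ (G.s ⁻¹ᵁ W₂.1).ι) ≫ G.t := (Category.assoc _ _ _).symm
      _ = (G.s ⁻¹ᵁ W₁.1).ι ≫ G.t := congrArg (fun m => m ≫ G.t) (Scheme.homOfLE_ι _ _)
  have e2 : ((GW G W₁).t ≫ jU h) ≫ W₂.1.ι = (G.s ⁻¹ᵁ W₁.1).ι ≫ G.t :=
    calc ((GW G W₁).t ≫ jU h) ≫ W₂.1.ι = (GW G W₁).t ≫ (jU h ≫ W₂.1.ι) := Category.assoc _ _ _
      _ = (GW G W₁).t ≫ W₁.1.ι := congrArg (fun m => (GW G W₁).t ≫ m) (Scheme.homOfLE_ι _ _)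
      _ = (G.s ⁻¹ᵁ W₁.1).ι ≫ G.t := restr_t_ι G W₁.1 W₁.2.2
  exact e1.trans e2.symm

theorem s_jU_appTop (a : Γ((GW G W₂).U, ⊤)) :
    (GW G W₁).s.appTop.hom ((jU h).appTop.hom a) = (jR h).appTop.hom ((GW G W₂).s.appTop.hom a) := by
  have := congrArg (fun φ : (GW G W₁).R ⟶ (GW G W₂).U => φ.appTop.hom a) (jR_s h)
  simp only [Scheme.Hom.comp_appTop, CommRingCat.hom_comp, RingHom.coe_comp,
    Function.comp_apply] at this
  exact this.symm

theorem t_jU_appTop (a : Γ((GW G W₂).U, ⊤)) :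
    (GW G W₁).t.appTop.hom ((jU h).appTop.hom a) = (jR h).appTop.hom ((GW G W₂).t.appTop.hom a) := by
  have := congrArg (fun φ : (GW G W₁).R ⟶ (GW G W₂).U => φ.appTop.hom a) (jR_t h)
  simp only [Scheme.Hom.comp_appTop, CommRingCat.hom_comp, RingHom.coe_comp,
    Function.comp_apply] at this
  exact this.symm

theorem jU_appTop_mem (a : (GW G W₂).invariants) :
    (jU h).appTop.hom (a : Γ((GW G W₂).U, ⊤)) ∈ (GW G W₁).invariants := by
  show (GW G W₁).s.appTop.hom _ = (GW G W₁).t.appTop.hom _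
  rw [s_jU_appTop, t_jU_appTop]
  congr 1
  exact a.2

/-- restriction of invariant functions. -/
noncomputable def resInv : (GW G W₂).invariants →+* (GW G W₁).invariants :=
  RingHom.codRestrict ((jU h).appTop.hom.comp (GW G W₂).invariants.subtype) (GW G W₁).invariants
    (fun a => jU_appTop_mem h a)

theorem resInv_coe (a : (GW G W₂).invariants) :
    ((resInv h a : (GW G W₁).invariants) : Γ((GW G W₁).U, ⊤)) =
      (jU h).appTop.hom (a : Γ((GW G W₂).U, ⊤)) := rfl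

end Res

theorem resInv_refl (W : IAO G) : resInv (le_refl W) = RingHom.id _ := by
  ext a
  rw [resInv_coe]
  have : jU (le_refl W) = 𝟙 _ := Scheme.homOfLE_rfl _ _
  rw [this]
  simp

theorem resInv_trans {W₁ W₂ W₃ : IAO G} (h₁₂ : W₁ ≤ W₂) (h₂₃ : W₂ ≤ W₃) :
    resInv (h₁₂.trans h₂₃) = (resInv h₁₂).comp (resInv h₂₃) := by
  ext a
  rw [resInv_coe, RingHom.comp_apply, resInv_coe, resInv_coe]
  have : jU (h₁₂.trans h₂₃) = jU h₁₂ ≫ jU h₂₃ := (Scheme.homOfLE_homOfLE _ _ _).symm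
  rw [this, Scheme.Hom.comp_appTop]
  rfl

/-- the functor of local quotients. -/
noncomputable def F : IAO G ⥤ Scheme.{u} where
  obj W := Spec (CommRingCat.of (GW G W).invariants)
  map f := Spec.map (CommRingCat.ofHom (resInv (leOfHom f)))
  map_id W := by
    rw [show resInv (leOfHom (𝟙 W)) = RingHom.id _ from resInv_refl G W]
    exact Spec.map_id _
  map_comp f g := by
    rw [show resInv (leOfHom (f ≫ g)) = (resInv (leOfHom f)).comp (resInv (leOfHom g)) from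
      resInv_trans G (leOfHom f) (leOfHom g), CommRingCat.ofHom_comp, Spec.map_comp]

/-- the local quotient maps. -/
noncomputable abbrev pW (W : IAO G) : W.1.toScheme ⟶ (F G).obj W := (GW G W).toQuot

instance surjective_pW (W : IAO G) : Surjective (pW G W) := surjective_toQuot (GW G W)

theorem pW_naturality {W₁ W₂ : IAO G} (f : W₁ ⟶ W₂) :
    G.U.homOfLE (leOfHom f) ≫ pW G W₂ = pW G W₁ ≫ (F G).map f := by
  exact toQuot_naturality (GW G W₁) (GW G W₂) (jU (leOfHom f)) (resInv (leOfHom f))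
    (resInv_coe (leOfHom f))

end Groth.Agent.Lib.H5bGQ
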