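import Mathlib
import Groth.Prelude.Def_Grpd
import Groth.Agent.Lib.H5bGQFun

/-!
# Transition maps of the diagram of local quotients are open immersions (helper5)
-/

set_option autoImplicit false
set_option linter.style.haveILetI false
set_option linter.unusedSectionVars false
set_option linter.unusedSimpArgs false
universe u

open CategoryTheory CategoryTheory.Limits AlgebraicGeometry

namespace Groth.Agent.Lib.H5bGQ

open Groth.Agent.Lib.H5bRG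

variable {S : Scheme.{u}} {G : Grpd.GroupoidScheme S}
  [IsFinite G.s] [Flat G.s] [LocallyOfFinitePresentation G.s]

section Basic

variable (W : IAO G) (c : (GW G W).invariants)

/-- the basic open of an invariant function, as an open of `G.U`. -/
noncomputable def boOpen : G.U.Opens :=
  W.1.ι ''ᵁ (W.1.toScheme.basicOpen (c : Γ((GW G W).U, ⊤)))

theorem mem_boOpen_iff (x : G.U) :
    x ∈ boOpen W c ↔ ∃ hx : x ∈ W.1,
      (⟨x, hx⟩ : W.1.toScheme) ∈ W.1.toScheme.basicOpen (c : Γ((GW G W).U, ⊤)) := by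
  constructor
  · rintro ⟨y, hy, rfl⟩
    exact ⟨y.2, hy⟩
  · rintro ⟨hx, h⟩
    exact ⟨⟨x, hx⟩, h, rfl⟩

theorem boOpen_le : boOpen W c ≤ W.1 := by
  intro x hx
  obtain ⟨hx', -⟩ := (mem_boOpen_iff W c x).mp hx
  exact hx'

theorem bo_mem_iff' (y : (GW G W).U) :
    y.1 ∈ boOpen W c ↔ y ∈ (GW G W).U.basicOpen (c : Γ((GW G W).U, ⊤)) := by
  rw [mem_boOpen_iff]
  constructor
  · rintro ⟨_, h⟩
    exact h
  · intro h
    exact ⟨y.2, h⟩

theorem mem_basicOpen_s_iff_t (r : (GW G W).R) :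
    (GW G W).s r ∈ (GW G W).U.basicOpen (c : Γ((GW G W).U, ⊤)) ↔
      (GW G W).t r ∈ (GW G W).U.basicOpen (c : Γ((GW G W).U, ⊤)) := by
  have h1 := Scheme.preimage_basicOpen_top (GW G W).s (c : Γ((GW G W).U, ⊤))
  have h2 := Scheme.preimage_basicOpen_top (GW G W).t (c : Γ((GW G W).U, ⊤))
  have h3 : (GW G W).s.appTop.hom (c : Γ((GW G W).U, ⊤)) =
      (GW G W).t.appTop.hom (c : Γ((GW G W).U, ⊤)) := c.2
  have h4 : (GW G W).s ⁻¹ᵁ (GW G W).U.basicOpen (c : Γ((GW G W).U, ⊤)) =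
      (GW G W).t ⁻¹ᵁ (GW G W).U.basicOpen (c : Γ((GW G W).U, ⊤)) := by
    rw [h1, h2]
    exact congrArg _ h3
  have := congrArg (fun O : (GW G W).R.Opens => r ∈ O) h4
  exact iff_of_eq this

theorem boOpen_invariant : G.s ⁻¹ᵁ boOpen W c = G.t ⁻¹ᵁ boOpen W c := by
  ext r
  show G.s r ∈ boOpen W c ↔ G.t r ∈ boOpen W c
  constructor
  · intro h
    have hx : G.s r ∈ W.1 := boOpen_le W c h
    let r' : (GW G W).R := ⟨r, hx⟩
    have A : ((GW G W).s r').1 ∈ boOpen W c := by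
      rw [GW_s_apply]
      exact h
    have D := (bo_mem_iff' W c _).mpr ((mem_basicOpen_s_iff_t W c r').mp ((bo_mem_iff' W c _).mp A))
    rw [GW_t_apply] at D
    exact D
  · intro h
    have hx' : G.t r ∈ W.1 := boOpen_le W c h
    have hx : G.s r ∈ W.1 := (IAO.mem_iff G W r).mpr hx'
    let r' : (GW G W).R := ⟨r, hx⟩
    have A : ((GW G W).t r').1 ∈ boOpen W c := by
      rw [GW_t_apply]
      exact h
    have D := (bo_mem_iff' W c _).mpr ((mem_basicOpen_s_iff_t W c r').mpr ((bo_mem_iff' W c _).mp A))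
    rw [GW_s_apply] at D
    exact D

theorem boOpen_isAffineOpen : IsAffineOpen (boOpen W c) :=
  ((isAffineOpen_top W.1.toScheme).basicOpen (c : Γ((GW G W).U, ⊤))).image_of_isOpenImmersion W.1.ι

/-- the invariant affine open `D(c) ⊆ W`. -/
noncomputable def bo : IAO G := ⟨boOpen W c, boOpen_isAffineOpen W c, boOpen_invariant W c⟩

theorem bo_le : bo W c ≤ W := boOpen_le W c

end Basic

/-- the transition map to `W₂` from an invariant affine open cut out by an invariant function. -/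
theorem KLgen {W₃ W₂ : IAO G} (h : W₃ ≤ W₂) (c : (GW G W₂).invariants)
    (hc : ∀ x' : W₂.1.toScheme,
      x'.1 ∈ W₃.1 ↔ x' ∈ W₂.1.toScheme.basicOpen (c : Γ((GW G W₂).U, ⊤))) :
    IsOpenImmersion (Spec.map (CommRingCat.ofHom (resInv h))) ∧
      Set.range (Spec.map (CommRingCat.ofHom (resInv h))) =
        ((PrimeSpectrum.basicOpen c : TopologicalSpace.Opens _) :
          Set (PrimeSpectrum (GW G W₂).invariants)) := by
  haveI i1 : @IsOpenImmersion (GW G W₃).U (GW G W₂).U (jU h) :=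
    inferInstanceAs (IsOpenImmersion (G.U.homOfLE h))
  haveI i2 : @IsOpenImmersion (GW G W₃).R (GW G W₂).R (jR h) :=
    inferInstanceAs (IsOpenImmersion (G.R.homOfLE (le_R h)))
  refine @isOpenImmersion_SpecMap_inv S (GW G W₂) (GW G W₃) _ _ (jU h) (jR h) i1 i2
    (jR_s h) (jR_t h) c ?_ ?_ (resInv h) (resInv_coe h)
  · have e : (G.U.homOfLE h).opensRange = W₂.1.ι ⁻¹ᵁ W₃.1 := Scheme.opensRange_homOfLE h
    refine e.trans ?_
    ext x'
    exact hc x'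
  · have e : (G.R.homOfLE (le_R h)).opensRange = (G.s ⁻¹ᵁ W₂.1).ι ⁻¹ᵁ (G.s ⁻¹ᵁ W₃.1) :=
      Scheme.opensRange_homOfLE _
    have e' := Scheme.preimage_basicOpen_top (GW G W₂).s (c : Γ((GW G W₂).U, ⊤))
    refine e.trans (Eq.trans ?_ e')
    ext r'
    show G.s r'.1 ∈ W₃.1 ↔ (GW G W₂).s r' ∈ (GW G W₂).U.basicOpen (c : Γ((GW G W₂).U, ⊤))
    have h1 := hc ((GW G W₂).s r')
    have h2 : ((GW G W₂).s r').1 = G.s r'.1 := GW_s_apply G W₂ r'
    exact (by rw [← h2] : G.s r'.1 ∈ W₃.1 ↔ ((GW G W₂).s r').1 ∈ W₃.1).trans h1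

theorem bo_mem_iff (W : IAO G) (c : (GW G W).invariants) (x' : W.1.toScheme) :
    x'.1 ∈ (bo W c).1 ↔ x' ∈ W.1.toScheme.basicOpen (c : Γ((GW G W).U, ⊤)) := by
  show x'.1 ∈ boOpen W c ↔ _
  rw [mem_boOpen_iff]
  constructor
  · rintro ⟨_, h⟩
    exact h
  · intro h
    exact ⟨x'.2, h⟩

/-- invariant affine open neighbourhoods inside invariant opens. -/
theorem exists_bo_le (W₀ : IAO G) (x : G.U) (hx₀ : x ∈ W₀.1) (Ω : G.U.Opens) (hx : x ∈ Ω)
    (hΩ : ∀ r : G.R, G.t r ∈ Ω → G.s r ∈ Ω) :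
    ∃ c : (GW G W₀).invariants, x ∈ (bo W₀ c).1 ∧ (bo W₀ c).1 ≤ Ω := by
  obtain ⟨c, hc1, hc2⟩ := exists_invariant_basicOpen (GW G W₀) (⟨x, hx₀⟩ : W₀.1.toScheme)
    (W₀.1.ι ⁻¹ᵁ Ω) hx (by
      intro r' hr'
      show ((GW G W₀).s r').1 ∈ Ω
      rw [GW_s_apply]
      apply hΩ
      rw [← GW_t_apply]
      exact hr')
  refine ⟨c, (bo_mem_iff W₀ c ⟨x, hx₀⟩).mpr hc1, ?_⟩
  intro z hz
  obtain ⟨hz', hz''⟩ := (mem_boOpen_iff W₀ c z).mp hz
  exact hc2 hz''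

theorem F_map_injective {W₁ W₂ : IAO G} (f : W₁ ⟶ W₂) : Function.Injective ((F G).map f) := by
  intro y y' hyy
  obtain ⟨x, rfl⟩ := (pW G W₁).surjective y
  obtain ⟨x', rfl⟩ := (pW G W₁).surjective y'
  have h1 : pW G W₂ (G.U.homOfLE (leOfHom f) x) = pW G W₂ (G.U.homOfLE (leOfHom f) x') := by
    have e := pW_naturality G f
    have e1 := congrArg (fun φ : W₁.1.toScheme ⟶ (F G).obj W₂ => φ x) e
    have e2 := congrArg (fun φ : W₁.1.toScheme ⟶ (F G).obj W₂ => φ x') e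
    simp only [Scheme.Hom.comp_apply] at e1 e2
    rw [e1, e2, hyy]
  obtain ⟨r, hr1, hr2⟩ := (toQuot_eq_iff (GW G W₂) _ _).mp h1
  have hr1' : G.t r.1 = x.1 := by
    rw [← GW_t_apply G W₂ r, hr1, Scheme.homOfLE_apply]
  have hr2' : G.s r.1 = x'.1 := by
    rw [← GW_s_apply G W₂ r, hr2, Scheme.homOfLE_apply]
  have hmem : G.s r.1 ∈ W₁.1 := hr2' ▸ x'.2
  let r₁ : (GW G W₁).R := ⟨r.1, hmem⟩
  refine (toQuot_eq_iff (GW G W₁) x x').mpr ⟨r₁, ?_, ?_⟩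
  · apply Subtype.ext
    rw [GW_t_apply]
    exact hr1'
  · apply Subtype.ext
    rw [GW_s_apply]
    exact hr2'

instance F_map_isOpenImmersion {W₁ W₂ : IAO G} (f : W₁ ⟶ W₂) : IsOpenImmersion ((F G).map f) := by
  apply isOpenImmersion_of_local _ (F_map_injective f)
  intro y
  obtain ⟨x, rfl⟩ := (pW G W₁).surjective y
  have h12 : W₁ ≤ W₂ := leOfHom f
  -- an invariant basic open of `W₂` around `x` inside `W₁`
  obtain ⟨c, hc1, hc2⟩ := exists_bo_le W₂ x.1 (h12 x.2) W₁.1 x.2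
    (fun r hr => (IAO.mem_iff G W₁ r).mpr hr)
  let W₃ : IAO G := bo W₂ c
  have h32 : W₃ ≤ W₂ := bo_le W₂ c
  have h31 : W₃ ≤ W₁ := hc2
  obtain ⟨hoi2, -⟩ := KLgen h32 c (bo_mem_iff W₂ c)
  let c₁ : (GW G W₁).invariants := resInv h12 c
  have hc₁ : ∀ x' : W₁.1.toScheme,
      x'.1 ∈ W₃.1 ↔ x' ∈ W₁.1.toScheme.basicOpen (c₁ : Γ((GW G W₁).U, ⊤)) := by
    intro x'
    have e1 : (c₁ : Γ((GW G W₁).U, ⊤)) = (jU h12).appTop.hom (c : Γ((GW G W₂).U, ⊤)) :=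
      resInv_coe h12 c
    rw [e1]
    have e2 := Scheme.preimage_basicOpen_top (jU h12) (c.1 : Γ(W₂.1.toScheme, ⊤))
    have e3 : x' ∈ (jU h12) ⁻¹ᵁ W₂.1.toScheme.basicOpen (c.1 : Γ(W₂.1.toScheme, ⊤)) ↔
        x' ∈ W₁.1.toScheme.basicOpen ((jU h12).appTop.hom (c.1 : Γ(W₂.1.toScheme, ⊤))) :=
      iff_of_eq (congrArg (fun O : W₁.1.toScheme.Opens => x' ∈ O) e2)
    refine Iff.trans ?_ e3
    show x'.1 ∈ (bo W₂ c).1 ↔ (jU h12) x' ∈ W₂.1.toScheme.basicOpen (c.1 : Γ(W₂.1.toScheme, ⊤))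
    have h4 := bo_mem_iff W₂ c ((jU h12) x')
    have h5 : ((jU h12) x').1 = x'.1 := Scheme.homOfLE_apply _ _
    exact (by rw [h5] : x'.1 ∈ (bo W₂ c).1 ↔ ((jU h12) x').1 ∈ (bo W₂ c).1).trans h4
  obtain ⟨hoi1, hrange1⟩ := KLgen h31 c₁ hc₁
  refine ⟨(F G).obj W₃, (F G).map (homOfLE h31), hoi1, ?_, ?_⟩
  · show pW G W₁ x ∈ Set.range (Spec.map (CommRingCat.ofHom (resInv h31)))
    rw [hrange1]
    exact (mem_basicOpen_iff_toQuot (GW G W₁) c₁ x).mp ((hc₁ x).mp hc1)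
  · rw [← Functor.map_comp]
    exact hoi2

end Groth.Agent.Lib.H5bGQ
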