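import Mathlib
import Groth.Prelude.Def_Grpd
import Groth.Agent.Lib.H5bGQFunB

/-!
# Properties of the local quotient maps `pW G W : W ⟶ F.obj W` (helper5)

Interface lemmas phrased in terms of `G` itself, and the hypotheses of the gluing construction.
-/

set_option autoImplicit false
set_option linter.style.haveILetI false
set_option linter.unusedSectionVars false
set_option linter.unusedSimpArgs false
universe u

open CategoryTheory CategoryTheory.Limits AlgebraicGeometry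

namespace Groth.Agent.Lib.H5bGQ

open Groth.Agent.Lib.H5bRG

variable {S : Scheme.{u}} (G : Grpd.GroupoidScheme S)
  [IsFinite G.s] [Flat G.s] [LocallyOfFinitePresentation G.s]

section Interface

variable (W : IAO G)

theorem tW_pW : tW G W.1 W.2.2 ≫ pW G W = (G.s ∣_ W.1) ≫ pW G W := t_toQuot (GW G W)

theorem pW_eq_iff (x x' : W.1.toScheme) :
    pW G W x = pW G W x' ↔ ∃ r : G.R, G.t r = x.1 ∧ G.s r = x'.1 := by
  refine (toQuot_eq_iff (GW G W) x x').trans ?_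
  constructor
  · rintro ⟨r, hr1, hr2⟩
    refine ⟨r.1, ?_, ?_⟩
    · rw [← GW_t_apply G W r, hr1]
    · rw [← GW_s_apply G W r, hr2]
  · rintro ⟨r, hr1, hr2⟩
    have hr : G.s r ∈ W.1 := hr2 ▸ x'.2
    refine ⟨⟨r, hr⟩, ?_, ?_⟩
    · apply Subtype.ext
      rw [GW_t_apply]
      exact hr1
    · apply Subtype.ext
      rw [GW_s_apply]
      exact hr2

theorem pW_mem_basicOpen_iff (c : (GW G W).invariants) (x' : W.1.toScheme) :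
    pW G W x' ∈ PrimeSpectrum.basicOpen c ↔ x'.1 ∈ (bo W c).1 :=
  (mem_basicOpen_iff_toQuot (GW G W) c x').symm.trans (bo_mem_iff W c x').symm

theorem pW_epi {Z : Scheme.{u}} (a b : (F G).obj W ⟶ Z) (h : pW G W ≫ a = pW G W ≫ b) : a = b :=
  epi_toQuot (GW G W) a b h

theorem pW_desc_affine {Z : Scheme.{u}} (h : G.U ⟶ Z) (hh : G.t ≫ h = G.s ≫ h)
    (D : Z.Opens) (hD : IsAffineOpen D) (hWD : W.1 ≤ h ⁻¹ᵁ D) :
    ∃ k : (F G).obj W ⟶ Z, pW G W ≫ k = W.1.ι ≫ h := by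
  have e1 : (GW G W).t ≫ W.1.ι ≫ h = (G.s ⁻¹ᵁ W.1).ι ≫ G.t ≫ h :=
    calc (GW G W).t ≫ W.1.ι ≫ h = ((GW G W).t ≫ W.1.ι) ≫ h := (Category.assoc _ _ _).symm
      _ = ((G.s ⁻¹ᵁ W.1).ι ≫ G.t) ≫ h := congrArg (fun m => m ≫ h) (restr_t_ι G W.1 W.2.2)
      _ = (G.s ⁻¹ᵁ W.1).ι ≫ G.t ≫ h := Category.assoc _ _ _
  have e2 : (GW G W).s ≫ W.1.ι ≫ h = (G.s ⁻¹ᵁ W.1).ι ≫ G.s ≫ h :=
    calc (GW G W).s ≫ W.1.ι ≫ h = ((GW G W).s ≫ W.1.ι) ≫ h := (Category.assoc _ _ _).symm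
      _ = ((G.s ⁻¹ᵁ W.1).ι ≫ G.s) ≫ h := congrArg (fun m => m ≫ h) (restr_s_ι G W.1 W.2.2)
      _ = (G.s ⁻¹ᵁ W.1).ι ≫ G.s ≫ h := Category.assoc _ _ _
  exact exists_desc_affine (GW G W) (W.1.ι ≫ h) (by rw [e1, e2, hh]) D hD (fun x => hWD x.2)

theorem pW_kpoint (k : Type u) [Field k] [IsAlgClosed k]
    (a b : Spec (CommRingCat.of k) ⟶ W.1.toScheme) (hab : a ≫ pW G W = b ≫ pW G W) :
    ∃ r : Spec (CommRingCat.of k) ⟶ G.R, r ≫ G.t = a ≫ W.1.ι ∧ r ≫ G.s = b ≫ W.1.ι := by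
  obtain ⟨r', hr1, hr2⟩ := (kpoint_eq_iff (GW G W) k a b).mp hab
  refine ⟨r' ≫ (G.s ⁻¹ᵁ W.1).ι, ?_, ?_⟩
  · calc (r' ≫ (G.s ⁻¹ᵁ W.1).ι) ≫ G.t = r' ≫ ((G.s ⁻¹ᵁ W.1).ι ≫ G.t) := Category.assoc _ _ _
      _ = r' ≫ ((GW G W).t ≫ W.1.ι) := congrArg (fun m => r' ≫ m) (restr_t_ι G W.1 W.2.2).symm
      _ = (r' ≫ (GW G W).t) ≫ W.1.ι := (Category.assoc _ _ _).symm
      _ = a ≫ W.1.ι := congrArg (fun m => m ≫ W.1.ι) hr1
  · calc (r' ≫ (G.s ⁻¹ᵁ W.1).ι) ≫ G.s = r' ≫ ((G.s ⁻¹ᵁ W.1).ι ≫ G.s) := Category.assoc _ _ _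
      _ = r' ≫ ((GW G W).s ≫ W.1.ι) := congrArg (fun m => r' ≫ m) (restr_s_ι G W.1 W.2.2).symm
      _ = (r' ≫ (GW G W).s) ≫ W.1.ι := (Category.assoc _ _ _).symm
      _ = b ≫ W.1.ι := congrArg (fun m => m ≫ W.1.ι) hr2

theorem pW_isIntegralHom : IsIntegralHom (pW G W) := isIntegralHom_toQuot (GW G W)

theorem pW_isOpenMap : IsOpenMap (pW G W) := isOpenMap_toQuot (GW G W)

section Mono

variable [Mono G.j]

theorem hom_ext_R {T : Scheme.{u}} (r r' : T ⟶ G.R) (ht : r ≫ G.t = r' ≫ G.t)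
    (hs : r ≫ G.s = r' ≫ G.s) : r = r' := by
  apply (cancel_mono G.j).mp
  unfold Grpd.GroupoidScheme.j
  apply pullback.hom_ext
  · rw [Category.assoc, Category.assoc, pullback.lift_fst, ht]
  · rw [Category.assoc, Category.assoc, pullback.lift_snd, hs]

instance mono_GW_j : Mono (GW G W).j := by
  refine ⟨fun {T} r r' hrr => ?_⟩
  have h1 : r ≫ (GW G W).t = r' ≫ (GW G W).t := by
    have := congrArg (· ≫ pullback.fst (GW G W).pU (GW G W).pU) hrr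
    simp only [Category.assoc] at this
    unfold Grpd.GroupoidScheme.j at this
    rw [pullback.lift_fst] at this
    exact this
  have h2 : r ≫ (GW G W).s = r' ≫ (GW G W).s := by
    have := congrArg (· ≫ pullback.snd (GW G W).pU (GW G W).pU) hrr
    simp only [Category.assoc] at this
    unfold Grpd.GroupoidScheme.j at this
    rw [pullback.lift_snd] at this
    exact this
  apply (cancel_mono (G.s ⁻¹ᵁ W.1).ι).mp
  apply hom_ext_R G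
  · calc (r ≫ (G.s ⁻¹ᵁ W.1).ι) ≫ G.t = r ≫ ((G.s ⁻¹ᵁ W.1).ι ≫ G.t) := Category.assoc _ _ _
      _ = r ≫ ((GW G W).t ≫ W.1.ι) := congrArg (fun m => r ≫ m) (restr_t_ι G W.1 W.2.2).symm
      _ = (r ≫ (GW G W).t) ≫ W.1.ι := (Category.assoc _ _ _).symm
      _ = (r' ≫ (GW G W).t) ≫ W.1.ι := congrArg (fun m => m ≫ W.1.ι) h1
      _ = r' ≫ ((GW G W).t ≫ W.1.ι) := Category.assoc _ _ _
      _ = r' ≫ ((G.s ⁻¹ᵁ W.1).ι ≫ G.t) := congrArg (fun m => r' ≫ m) (restr_t_ι G W.1 W.2.2)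
      _ = (r' ≫ (G.s ⁻¹ᵁ W.1).ι) ≫ G.t := (Category.assoc _ _ _).symm
  · calc (r ≫ (G.s ⁻¹ᵁ W.1).ι) ≫ G.s = r ≫ ((G.s ⁻¹ᵁ W.1).ι ≫ G.s) := Category.assoc _ _ _
      _ = r ≫ ((GW G W).s ≫ W.1.ι) := congrArg (fun m => r ≫ m) (restr_s_ι G W.1 W.2.2).symm
      _ = (r ≫ (GW G W).s) ≫ W.1.ι := (Category.assoc _ _ _).symm
      _ = (r' ≫ (GW G W).s) ≫ W.1.ι := congrArg (fun m => m ≫ W.1.ι) h2
      _ = r' ≫ ((GW G W).s ≫ W.1.ι) := Category.assoc _ _ _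
      _ = r' ≫ ((G.s ⁻¹ᵁ W.1).ι ≫ G.s) := congrArg (fun m => r' ≫ m) (restr_s_ι G W.1 W.2.2)
      _ = (r' ≫ (G.s ⁻¹ᵁ W.1).ι) ≫ G.s := (Category.assoc _ _ _).symm

theorem pW_props : IsFinite (pW G W) ∧ Flat (pW G W) ∧ LocallyOfFinitePresentation (pW G W) :=
  (quotient_props (GW G W)).1

theorem pW_lift {T : Scheme.{u}} (a b : T ⟶ W.1.toScheme) (hab : a ≫ pW G W = b ≫ pW G W) :
    ∃ r : T ⟶ G.R, r ≫ G.t = a ≫ W.1.ι ∧ r ≫ G.s = b ≫ W.1.ι := by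
  have hpb := (quotient_props (GW G W)).2
  let r' : T ⟶ (GW G W).R := hpb.lift a b hab
  have hr1 : r' ≫ (GW G W).t = a := hpb.lift_fst a b hab
  have hr2 : r' ≫ (GW G W).s = b := hpb.lift_snd a b hab
  refine ⟨r' ≫ (G.s ⁻¹ᵁ W.1).ι, ?_, ?_⟩
  · calc (r' ≫ (G.s ⁻¹ᵁ W.1).ι) ≫ G.t = r' ≫ ((G.s ⁻¹ᵁ W.1).ι ≫ G.t) := Category.assoc _ _ _
      _ = r' ≫ ((GW G W).t ≫ W.1.ι) := congrArg (fun m => r' ≫ m) (restr_t_ι G W.1 W.2.2).symm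
      _ = (r' ≫ (GW G W).t) ≫ W.1.ι := (Category.assoc _ _ _).symm
      _ = a ≫ W.1.ι := congrArg (fun m => m ≫ W.1.ι) hr1
  · calc (r' ≫ (G.s ⁻¹ᵁ W.1).ι) ≫ G.s = r' ≫ ((G.s ⁻¹ᵁ W.1).ι ≫ G.s) := Category.assoc _ _ _
      _ = r' ≫ ((GW G W).s ≫ W.1.ι) := congrArg (fun m => r' ≫ m) (restr_s_ι G W.1 W.2.2).symm
      _ = (r' ≫ (GW G W).s) ≫ W.1.ι := (Category.assoc _ _ _).symm
      _ = b ≫ W.1.ι := congrArg (fun m => m ≫ W.1.ι) hr2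

end Mono

end Interface

section GlueHyp

theorem IAO_mono : Monotone (fun W : IAO G => W.1) := fun _ _ h => h

theorem IAO_inter (i j : IAO G) (x : G.U) (hi : x ∈ i.1) (hj : x ∈ j.1) :
    ∃ k : IAO G, k ≤ i ∧ k ≤ j ∧ x ∈ k.1 := by
  obtain ⟨c, hc1, hc2⟩ := exists_bo_le i x hi j.1 hj (fun r hr => (IAO.mem_iff G j r).mpr hr)
  exact ⟨bo i c, bo_le i c, hc2, hc1⟩

theorem IAO_sat {i j : IAO G} (f : i ⟶ j) (x : j.1.toScheme)
    (hx : pW G j x ∈ Set.range ((F G).map f)) : x.1 ∈ i.1 := by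
  obtain ⟨y, hy⟩ := hx
  obtain ⟨x', rfl⟩ := (pW G i).surjective y
  have e := congrArg (fun φ : i.1.toScheme ⟶ (F G).obj j => φ x') (pW_naturality G f)
  simp only [Scheme.Hom.comp_apply] at e
  rw [← e] at hy
  obtain ⟨r, hr1, hr2⟩ := (pW_eq_iff G j _ _).mp hy.symm
  rw [Scheme.homOfLE_apply] at hr2
  rw [← hr1]
  apply (IAO.mem_iff G i r).mp
  rw [hr2]
  exact x'.2

instance F_isLocallyDirected : (F G ⋙ Scheme.forget).IsLocallyDirected :=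
  Glue.isLocallyDirected (fun W : IAO G => W.1) (IAO_mono G) (F G) (pW G)
    (fun f => pW_naturality G f) (fun W => (pW G W).surjective) (IAO_inter G)
    (fun f x hx => IAO_sat G f x hx)

end GlueHyp

end Groth.Agent.Lib.H5bGQ
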