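import Mathlib
import Groth.Prelude.Def_Grpd
import Groth.Agent.Lib.H5bGQFunC

/-!
# Quotients of groupoid schemes with finite locally free source whose orbits lie in affine opens
(helper5)

`QData G`: a scheme `Y` with `p : G.U ⟶ Y` glued from the local quotients `pW G W`. Its existence
(`exists_qdata`) and its properties: coequaliser, surjective, fibres are orbits, local-on-target
properties, `R ⟶ U ×_Y U` surjective, affine when `U` is, and for an equivalence relation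
(`Mono G.j`) the square is cartesian.
-/

set_option autoImplicit false
set_option linter.style.haveILetI false
set_option linter.unusedSectionVars false
set_option linter.unusedSimpArgs false
universe u

open CategoryTheory CategoryTheory.Limits AlgebraicGeometry

namespace Groth.Agent.Lib.H5bGQ

open Groth.Agent.Lib.H5bRG

variable {S : Scheme.{u}} (G : Grpd.GroupoidScheme S)
  [IsFinite G.s] [Flat G.s] [LocallyOfFinitePresentation G.s]

/-- a quotient glued from the local quotients. -/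
structure QData where
  Y : Scheme.{u}
  p : G.U ⟶ Y
  ι : ∀ W : IAO G, (F G).obj W ⟶ Y
  ι_open : ∀ W, IsOpenImmersion (ι W)
  hp : ∀ W : IAO G, W.1.ι ≫ p = pW G W ≫ ι W
  hpre : ∀ W : IAO G, p ⁻¹ᵁ (ι W).opensRange = W.1
  hι : ∀ {W₁ W₂ : IAO G} (f : W₁ ⟶ W₂), (F G).map f ≫ ι W₂ = ι W₁
  hjs : ∀ y : Y, ∃ (W : IAO G) (z : (F G).obj W), ι W z = y

attribute [instance] QData.ι_open

variable (hcov : ∀ x : G.U, ∃ W : IAO G, x ∈ W.1)

include hcov in
theorem exists_qdata : Nonempty (QData G) := by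
  obtain ⟨p, hp, hpre⟩ := Glue.exists_glue (fun W : IAO G => W.1) (IAO_mono G) (F G) (pW G)
    (fun f => pW_naturality G f) hcov (IAO_inter G) (fun f x hx => IAO_sat G f x hx)
  exact ⟨{ Y := colimit (F G), p := p, ι := fun W => colimit.ι (F G) W,
           ι_open := fun W => inferInstance, hp := hp, hpre := hpre,
           hι := fun f => colimit.w (F G) f,
           hjs := fun y => Scheme.IsLocallyDirected.ι_jointly_surjective (F G) y }⟩

namespace QData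

variable {G} (D : QData G)

theorem p_apply (W : IAO G) (x : G.U) (hx : x ∈ W.1) : D.p x = D.ι W (pW G W ⟨x, hx⟩) := by
  have := congrArg (fun φ : W.1.toScheme ⟶ D.Y => φ ⟨x, hx⟩) (D.hp W)
  simpa [Scheme.Hom.comp_apply] using this

include hcov in
theorem w : G.t ≫ D.p = G.s ≫ D.p := by
  apply Scheme.hom_ext_of_forall
  intro r
  obtain ⟨W, hW⟩ := hcov (G.s r)
  refine ⟨G.s ⁻¹ᵁ W.1, hW, ?_⟩
  calc (G.s ⁻¹ᵁ W.1).ι ≫ G.t ≫ D.p = ((G.s ⁻¹ᵁ W.1).ι ≫ G.t) ≫ D.p := (Category.assoc _ _ _).symm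
    _ = (tW G W.1 W.2.2 ≫ W.1.ι) ≫ D.p := by rw [tW_ι]
    _ = tW G W.1 W.2.2 ≫ (W.1.ι ≫ D.p) := Category.assoc _ _ _
    _ = tW G W.1 W.2.2 ≫ (pW G W ≫ D.ι W) := by rw [D.hp]
    _ = (tW G W.1 W.2.2 ≫ pW G W) ≫ D.ι W := (Category.assoc _ _ _).symm
    _ = ((G.s ∣_ W.1) ≫ pW G W) ≫ D.ι W := by rw [tW_pW]
    _ = (G.s ∣_ W.1) ≫ (pW G W ≫ D.ι W) := Category.assoc _ _ _
    _ = (G.s ∣_ W.1) ≫ (W.1.ι ≫ D.p) := by rw [D.hp]
    _ = ((G.s ∣_ W.1) ≫ W.1.ι) ≫ D.p := (Category.assoc _ _ _).symm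
    _ = ((G.s ⁻¹ᵁ W.1).ι ≫ G.s) ≫ D.p := by rw [morphismRestrict_ι]
    _ = (G.s ⁻¹ᵁ W.1).ι ≫ G.s ≫ D.p := Category.assoc _ _ _

theorem surjective : Surjective D.p := by
  refine ⟨fun y => ?_⟩
  obtain ⟨W, z, rfl⟩ := D.hjs y
  obtain ⟨x, rfl⟩ := (pW G W).surjective z
  exact ⟨x.1, D.p_apply W x.1 x.2⟩

include hcov in
theorem fibre_iff (x y : G.U) : D.p x = D.p y ↔ ∃ r : G.R, G.t r = x ∧ G.s r = y := by
  constructor
  · intro hxy
    obtain ⟨W, hW⟩ := hcov x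
    have hy : y ∈ W.1 := by
      rw [← D.hpre W]
      show D.p y ∈ (D.ι W).opensRange
      rw [← hxy, D.p_apply W x hW]
      exact ⟨_, rfl⟩
    rw [D.p_apply W x hW, D.p_apply W y hy] at hxy
    exact (pW_eq_iff G W ⟨x, hW⟩ ⟨y, hy⟩).mp ((D.ι W).isOpenEmbedding.injective hxy)
  · rintro ⟨r, rfl, rfl⟩
    rw [← Scheme.Hom.comp_apply, ← Scheme.Hom.comp_apply, D.w hcov]

theorem isPullback_loc (W : IAO G) : IsPullback (pW G W) W.1.ι (D.ι W) D.p :=
  IsOpenImmersion.isPullback (pW G W) W.1.ι (D.ι W) D.p (D.hp W)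
    (by rw [D.hpre, Scheme.Opens.opensRange_ι])

/-- the open cover of the quotient by the local quotients. -/
noncomputable def cover : D.Y.OpenCover :=
  Scheme.Cover.mkOfCovers (IAO G) (fun W => (F G).obj W) (fun W => D.ι W) D.hjs

theorem of_local (P : MorphismProperty Scheme.{u}) [IsZariskiLocalAtTarget P]
    (hP : ∀ W : IAO G, P (pW G W)) : P D.p := by
  apply IsZariskiLocalAtTarget.of_openCover D.cover
  intro W
  have hpb := (D.isPullback_loc W).flip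
  have e : hpb.isoPullback.hom ≫ pullback.snd D.p (D.ι W) = pW G W := hpb.isoPullback_hom_snd
  show P (pullback.snd D.p (D.ι W))
  rw [← P.cancel_left_of_respectsIso hpb.isoPullback.hom, e]
  exact hP W

theorem isIntegralHom : IsIntegralHom D.p :=
  D.of_local @IsIntegralHom (fun W => pW_isIntegralHom G W)

theorem isOpenMap : IsOpenMap D.p :=
  D.of_local (topologically @IsOpenMap) (fun W => pW_isOpenMap G W)

include hcov in
/-- the quotient is a coequaliser of `(t, s)` in the category of schemes. -/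
theorem exists_unique_desc {Z : Scheme.{u}} (h : G.U ⟶ Z) (hh : G.t ≫ h = G.s ≫ h) :
    ∃! k : D.Y ⟶ Z, D.p ≫ k = h := by
  let J' : Type u := {W : IAO G // ∃ D' : Z.Opens, IsAffineOpen D' ∧ W.1 ≤ h ⁻¹ᵁ D'}
  have hJ' : ∀ x : G.U, ∃ W : J', x ∈ W.1.1 := by
    intro x
    obtain ⟨W₀, hW₀⟩ := hcov x
    obtain ⟨_, ⟨D', hD', rfl⟩, hxD', -⟩ :=
      Z.isBasis_affineOpens.exists_subset_of_mem_open (Set.mem_univ (h x)) isOpen_univ
    obtain ⟨c, hc1, hc2⟩ := exists_bo_le W₀ x hW₀ (h ⁻¹ᵁ D') hxD' (fun r hr => by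
      show h (G.s r) ∈ D'
      have e : h (G.t r) = h (G.s r) := by
        rw [← Scheme.Hom.comp_apply, ← Scheme.Hom.comp_apply, hh]
      rw [← e]
      exact hr)
    exact ⟨⟨bo W₀ c, D', hD', hc2⟩, hc1⟩
  have hk : ∀ W : J', ∃ k : (F G).obj W.1 ⟶ Z, pW G W.1 ≫ k = W.1.1.ι ≫ h := by
    rintro ⟨W, D', hD', hWD'⟩
    exact pW_desc_affine G W h hh D' hD' hWD'
  choose k hk using hk
  have hkuniq : ∀ (W : IAO G) (a b : (F G).obj W ⟶ Z), pW G W ≫ a = W.1.ι ≫ h →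
      pW G W ≫ b = W.1.ι ≫ h → a = b :=
    fun W a b ha hb => pW_epi G W a b (ha.trans hb.symm)
  haveI := D.surjective
  have hjs : ∀ y : D.Y, ∃ (W : J') (z : (F G).obj W.1), D.ι W.1 z = y := by
    intro y
    obtain ⟨x, rfl⟩ := D.p.surjective y
    obtain ⟨W, hW⟩ := hJ' x
    exact ⟨W, pW G W.1 ⟨x, hW⟩, (D.p_apply W.1 x hW).symm⟩
  let 𝒴 : D.Y.OpenCover := Scheme.Cover.mkOfCovers J' (fun W => (F G).obj W.1)
    (fun W => D.ι W.1) hjs
  have hcompat : ∀ W W' : J', pullback.fst (D.ι W.1) (D.ι W'.1) ≫ k W =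
      pullback.snd (D.ι W.1) (D.ι W'.1) ≫ k W' := by
    intro W W'
    apply Scheme.hom_ext_of_forall
    intro z
    have hcond : pullback.fst (D.ι W.1) (D.ι W'.1) ≫ D.ι W.1 =
        pullback.snd (D.ι W.1) (D.ι W'.1) ≫ D.ι W'.1 := pullback.condition
    obtain ⟨x, hx⟩ := D.p.surjective ((pullback.fst (D.ι W.1) (D.ι W'.1) ≫ D.ι W.1) z)
    have hxW : x ∈ W.1.1 := by
      rw [← D.hpre W.1]
      show D.p x ∈ (D.ι W.1).opensRange
      rw [hx, Scheme.Hom.comp_apply]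
      exact ⟨_, rfl⟩
    have hxW' : x ∈ W'.1.1 := by
      rw [← D.hpre W'.1]
      show D.p x ∈ (D.ι W'.1).opensRange
      rw [hx, hcond, Scheme.Hom.comp_apply]
      exact ⟨_, rfl⟩
    obtain ⟨W'', h1, h2, hxW''⟩ := IAO_inter G W.1 W'.1 x hxW hxW'
    refine ⟨(pullback.fst (D.ι W.1) (D.ι W'.1) ≫ D.ι W.1) ⁻¹ᵁ (D.ι W'').opensRange, ?_, ?_⟩
    · show (pullback.fst (D.ι W.1) (D.ι W'.1) ≫ D.ι W.1) z ∈ (D.ι W'').opensRange
      rw [← hx, D.p_apply W'' x hxW'']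
      exact ⟨_, rfl⟩
    · set Q := (pullback.fst (D.ι W.1) (D.ι W'.1) ≫ D.ι W.1) ⁻¹ᵁ (D.ι W'').opensRange with hQ
      have hr : Set.range (Q.ι ≫ pullback.fst (D.ι W.1) (D.ι W'.1) ≫ D.ι W.1) ⊆
          Set.range (D.ι W'') := by
        rintro _ ⟨w, rfl⟩
        exact w.2
      let l := IsOpenImmersion.lift (D.ι W'') (Q.ι ≫ pullback.fst (D.ι W.1) (D.ι W'.1) ≫ D.ι W.1) hr
      have hl : l ≫ D.ι W'' = Q.ι ≫ pullback.fst (D.ι W.1) (D.ι W'.1) ≫ D.ι W.1 :=
        IsOpenImmersion.lift_fac _ _ _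
      have e1 : Q.ι ≫ pullback.fst (D.ι W.1) (D.ι W'.1) = l ≫ (F G).map (homOfLE h1) := by
        rw [← cancel_mono (D.ι W.1), Category.assoc, Category.assoc, D.hι, hl]
      have e2 : Q.ι ≫ pullback.snd (D.ι W.1) (D.ι W'.1) = l ≫ (F G).map (homOfLE h2) := by
        rw [← cancel_mono (D.ι W'.1), Category.assoc, Category.assoc, D.hι, hl, hcond]
      have e3 : (F G).map (homOfLE h1) ≫ k W = (F G).map (homOfLE h2) ≫ k W' := by
        apply hkuniq W''
        · rw [← Category.assoc, ← pW_naturality, Category.assoc, hk, ← Category.assoc,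
            Scheme.homOfLE_ι]
        · rw [← Category.assoc, ← pW_naturality, Category.assoc, hk, ← Category.assoc,
            Scheme.homOfLE_ι]
      rw [← Category.assoc, e1, ← Category.assoc Q.ι, e2, Category.assoc, Category.assoc, e3]
  let kk : D.Y ⟶ Z := 𝒴.glueMorphisms k hcompat
  have hkk : ∀ W : J', D.ι W.1 ≫ kk = k W := fun W => 𝒴.ι_glueMorphisms k hcompat W
  have hpk : D.p ≫ kk = h := by
    apply Scheme.hom_ext_of_forall
    intro x
    obtain ⟨W, hW⟩ := hJ' x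
    refine ⟨W.1.1, hW, ?_⟩
    rw [← Category.assoc, D.hp, Category.assoc, hkk, hk]
  refine ⟨kk, hpk, ?_⟩
  intro m hm
  apply 𝒴.hom_ext
  intro W
  show D.ι W.1 ≫ m = D.ι W.1 ≫ kk
  apply pW_epi G W.1
  rw [← Category.assoc, ← D.hp, Category.assoc, hm, ← Category.assoc, ← D.hp, Category.assoc, hpk]

end QData

end Groth.Agent.Lib.H5bGQ
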