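import Mathlib
import Groth.Prelude.Def_Grpd
import Groth.Agent.Lib.H5bGQMain

/-!
# Further properties of the glued quotient (helper5)

`R ⟶ U ×_Y U` is surjective; `Y` is affine when `U` is; for an equivalence relation the square is
cartesian and `p` is finite locally free.
-/

set_option autoImplicit false
set_option linter.style.haveILetI false
set_option linter.unusedSectionVars false
set_option linter.unusedSimpArgs false
universe u

open CategoryTheory CategoryTheory.Limits AlgebraicGeometry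

namespace Groth.Agent.Lib.H5bGQ

open Groth.Agent.Lib.H5bRG

variable {S : Scheme.{u}} {G : Grpd.GroupoidScheme S}
  [IsFinite G.s] [Flat G.s] [LocallyOfFinitePresentation G.s]

namespace QData

variable (D : QData G) (hcov : ∀ x : G.U, ∃ W : IAO G, x ∈ W.1)

include hcov in
theorem surjective_lift : Function.Surjective (pullback.lift G.t G.s (D.w hcov)) := by
  intro z
  let K := AlgebraicClosure ((pullback D.p D.p).residueField z)
  let ζ : Spec (CommRingCat.of K) ⟶ pullback D.p D.p :=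
    Spec.map (CommRingCat.ofHom (algebraMap ((pullback D.p D.p).residueField z) K)) ≫
      (pullback D.p D.p).fromSpecResidueField z
  have hζ : ∀ pt : Spec (CommRingCat.of K), ζ pt = z := by
    intro pt
    show (Spec.map (CommRingCat.ofHom (algebraMap ((pullback D.p D.p).residueField z) K)) ≫
      (pullback D.p D.p).fromSpecResidueField z) pt = z
    rw [Scheme.Hom.comp_apply]
    exact Scheme.fromSpecResidueField_apply _ _
  let a : Spec (CommRingCat.of K) ⟶ G.U := ζ ≫ pullback.fst D.p D.p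
  let b : Spec (CommRingCat.of K) ⟶ G.U := ζ ≫ pullback.snd D.p D.p
  have hab : a ≫ D.p = b ≫ D.p := by
    simp only [a, b, Category.assoc, pullback.condition]
  let pt : Spec (CommRingCat.of K) := IsLocalRing.closedPoint K
  obtain ⟨W, hW⟩ := hcov (a pt)
  have hsub : ∀ pt' : Spec (CommRingCat.of K), pt' = pt := fun pt' => Subsingleton.elim _ _
  have hbW : b pt ∈ W.1 := by
    rw [← D.hpre W]
    show D.p (b pt) ∈ (D.ι W).opensRange
    rw [← Scheme.Hom.comp_apply, ← hab, Scheme.Hom.comp_apply, D.p_apply W _ hW]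
    exact ⟨_, rfl⟩
  have hra : Set.range a ⊆ Set.range W.1.ι := by
    rintro _ ⟨pt', rfl⟩
    rw [Scheme.Opens.range_ι, hsub pt']
    exact hW
  have hrb : Set.range b ⊆ Set.range W.1.ι := by
    rintro _ ⟨pt', rfl⟩
    rw [Scheme.Opens.range_ι, hsub pt']
    exact hbW
  let a' := IsOpenImmersion.lift W.1.ι a hra
  let b' := IsOpenImmersion.lift W.1.ι b hrb
  have ha' : a' ≫ W.1.ι = a := IsOpenImmersion.lift_fac _ _ _
  have hb' : b' ≫ W.1.ι = b := IsOpenImmersion.lift_fac _ _ _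
  have hab' : a' ≫ pW G W = b' ≫ pW G W := by
    rw [← cancel_mono (D.ι W), Category.assoc, Category.assoc, ← D.hp, ← Category.assoc,
      ← Category.assoc, ha', hb', hab]
  obtain ⟨r, hr1, hr2⟩ := pW_kpoint G W K a' b' hab'
  rw [ha'] at hr1
  rw [hb'] at hr2
  have hrζ : r ≫ pullback.lift G.t G.s (D.w hcov) = ζ := by
    apply pullback.hom_ext
    · rw [Category.assoc, pullback.lift_fst, hr1]
    · rw [Category.assoc, pullback.lift_snd, hr2]
  refine ⟨r pt, ?_⟩
  rw [← Scheme.Hom.comp_apply, hrζ, hζ]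

theorem isAffine [IsAffine G.U] : IsAffine D.Y := by
  let Wtop : IAO G := ⟨⊤, isAffineOpen_top G.U, rfl⟩
  have hr : (D.ι Wtop).opensRange = ⊤ := by
    rw [eq_top_iff]
    intro y _
    haveI := D.surjective
    obtain ⟨x, rfl⟩ := D.p.surjective y
    exact ⟨_, (D.p_apply Wtop x trivial).symm⟩
  haveI := isIso_of_isOpenImmersion_of_opensRange_eq_top (D.ι Wtop) hr
  haveI : IsAffine ((F G).obj Wtop) := by
    show IsAffine (Spec _)
    infer_instance
  exact IsAffine.of_isIso (inv (D.ι Wtop))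

section Mono

variable [Mono G.j]

include hcov in
theorem exists_lift {T : Scheme.{u}} (a b : T ⟶ G.U) (hab : a ≫ D.p = b ≫ D.p) :
    ∃ r : T ⟶ G.R, r ≫ G.t = a ∧ r ≫ G.s = b := by
  have hloc : ∀ W : IAO G, ∃ ρ : (a ⁻¹ᵁ W.1).toScheme ⟶ G.R,
      ρ ≫ G.t = (a ⁻¹ᵁ W.1).ι ≫ a ∧ ρ ≫ G.s = (a ⁻¹ᵁ W.1).ι ≫ b := by
    intro W
    have hra : Set.range ((a ⁻¹ᵁ W.1).ι ≫ a) ⊆ Set.range W.1.ι := by
      rintro _ ⟨z, rfl⟩
      rw [Scheme.Opens.range_ι]
      exact z.2
    have hrb : Set.range ((a ⁻¹ᵁ W.1).ι ≫ b) ⊆ Set.range W.1.ι := by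
      rintro _ ⟨z, rfl⟩
      rw [Scheme.Opens.range_ι]
      show ((a ⁻¹ᵁ W.1).ι ≫ b) z ∈ W.1
      have hmem : ((a ⁻¹ᵁ W.1).ι ≫ b) z ∈ D.p ⁻¹ᵁ (D.ι W).opensRange := by
        show D.p (((a ⁻¹ᵁ W.1).ι ≫ b) z) ∈ (D.ι W).opensRange
        have hz : ((a ⁻¹ᵁ W.1).ι ≫ a) z ∈ W.1 := z.2
        rw [← Scheme.Hom.comp_apply, Category.assoc, ← hab, ← Category.assoc,
          Scheme.Hom.comp_apply, D.p_apply W _ hz]
        exact ⟨_, rfl⟩
      rw [D.hpre W] at hmem
      exact hmem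
    let a' := IsOpenImmersion.lift W.1.ι ((a ⁻¹ᵁ W.1).ι ≫ a) hra
    let b' := IsOpenImmersion.lift W.1.ι ((a ⁻¹ᵁ W.1).ι ≫ b) hrb
    have ha' : a' ≫ W.1.ι = (a ⁻¹ᵁ W.1).ι ≫ a := IsOpenImmersion.lift_fac _ _ _
    have hb' : b' ≫ W.1.ι = (a ⁻¹ᵁ W.1).ι ≫ b := IsOpenImmersion.lift_fac _ _ _
    have hab' : a' ≫ pW G W = b' ≫ pW G W := by
      rw [← cancel_mono (D.ι W), Category.assoc, Category.assoc, ← D.hp, ← Category.assoc,
        ← Category.assoc, ha', hb', Category.assoc, Category.assoc, hab]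
    obtain ⟨r, hr1, hr2⟩ := pW_lift G W a' b' hab'
    exact ⟨r, hr1.trans ha', hr2.trans hb'⟩
  choose ρ hρ1 hρ2 using hloc
  let 𝒯 : T.OpenCover := Scheme.Cover.mkOfCovers (IAO G) (fun W => (a ⁻¹ᵁ W.1).toScheme)
    (fun W => (a ⁻¹ᵁ W.1).ι) (fun z => by
      obtain ⟨W, hW⟩ := hcov (a z)
      exact ⟨W, ⟨z, hW⟩, rfl⟩)
  have hcompat : ∀ W W' : IAO G, pullback.fst (a ⁻¹ᵁ W.1).ι (a ⁻¹ᵁ W'.1).ι ≫ ρ W =
      pullback.snd (a ⁻¹ᵁ W.1).ι (a ⁻¹ᵁ W'.1).ι ≫ ρ W' := by
    intro W W'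
    apply hom_ext_R G
    · rw [Category.assoc, Category.assoc, hρ1, hρ1, ← Category.assoc, ← Category.assoc,
        pullback.condition]
    · rw [Category.assoc, Category.assoc, hρ2, hρ2, ← Category.assoc, ← Category.assoc,
        pullback.condition]
  let r : T ⟶ G.R := 𝒯.glueMorphisms ρ hcompat
  have hr : ∀ W : IAO G, (a ⁻¹ᵁ W.1).ι ≫ r = ρ W := fun W => 𝒯.ι_glueMorphisms ρ hcompat W
  refine ⟨r, ?_, ?_⟩
  · apply 𝒯.hom_ext
    intro W
    show (a ⁻¹ᵁ W.1).ι ≫ r ≫ G.t = (a ⁻¹ᵁ W.1).ι ≫ a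
    rw [← Category.assoc, hr, hρ1]
  · apply 𝒯.hom_ext
    intro W
    show (a ⁻¹ᵁ W.1).ι ≫ r ≫ G.s = (a ⁻¹ᵁ W.1).ι ≫ b
    rw [← Category.assoc, hr, hρ2]

include hcov in
theorem isPullback : IsPullback G.t G.s D.p D.p := by
  refine ⟨⟨D.w hcov⟩, ⟨PullbackCone.IsLimit.mk _
    (fun s => Classical.choose (D.exists_lift hcov s.fst s.snd s.condition))
    (fun s => (Classical.choose_spec (D.exists_lift hcov s.fst s.snd s.condition)).1)
    (fun s => (Classical.choose_spec (D.exists_lift hcov s.fst s.snd s.condition)).2)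
    (fun s m h1 h2 => hom_ext_R G _ _
      (h1.trans (Classical.choose_spec (D.exists_lift hcov s.fst s.snd s.condition)).1.symm)
      (h2.trans (Classical.choose_spec (D.exists_lift hcov s.fst s.snd s.condition)).2.symm))⟩⟩

theorem isFinite : IsFinite D.p := D.of_local @IsFinite (fun W => (pW_props G W).1)

theorem flat : Flat D.p := D.of_local @Flat (fun W => (pW_props G W).2.1)

theorem locallyOfFinitePresentation : LocallyOfFinitePresentation D.p :=
  D.of_local @LocallyOfFinitePresentation (fun W => (pW_props G W).2.2)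

end Mono

end QData

end Groth.Agent.Lib.H5bGQ
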