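import Mathlib
import Groth.Prelude.Def_Grpd
import Groth.Agent.Lib.H5bGQMain2
import Groth.Agent.Lib.H5bOrbit

/-!
# The quotient theorem for groupoid schemes with finite locally free source (helper5)

`main`: if every point of `U` has an invariant affine open neighbourhood, the quotient exists with all
its properties. `hcov_of_orbit`: the neighbourhood hypothesis follows when every orbit lies in an affine
open. `cofork_isColimit`: the universal property packaged as `IsColimit (Cofork.ofπ p w)`.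
-/

set_option autoImplicit false
set_option linter.style.haveILetI false
set_option linter.unusedSectionVars false
set_option linter.unusedSimpArgs false
universe u

open CategoryTheory CategoryTheory.Limits AlgebraicGeometry

namespace Groth.Agent.Lib.H5bGQ

open Groth.Agent.Lib.H5bRG

variable {S : Scheme.{u}} (G : Grpd.GroupoidScheme S)
  [IsFinite G.s] [Flat G.s] [LocallyOfFinitePresentation G.s]

theorem hcov_of_orbit
    (hb : ∀ x : G.U, ∃ V : G.U.Opens, IsAffineOpen V ∧ ∀ r : G.R, G.s r = x → G.t r ∈ V) :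
    ∀ x : G.U, ∃ W : IAO G, x ∈ W.1 := by
  intro x
  obtain ⟨V, hV, hxV⟩ := hb x
  obtain ⟨W, hW1, hW2, hW3⟩ := exists_invariant_affine_open G x V hV hxV
  exact ⟨⟨W, hW1, hW3⟩, hW2⟩

/-- the neighbourhood hypothesis follows if every nonempty closed subset contains a point whose orbit
lies in an affine open. -/
theorem hcov_of_closed
    (h3 : ∀ Z : Set G.U, IsClosed Z → Z.Nonempty →
      ∃ u ∈ Z, ∃ W : G.U.Opens, IsAffineOpen W ∧ ∀ r : G.R, G.s r = u → G.t r ∈ W) :
    ∀ x : G.U, ∃ W : IAO G, x ∈ W.1 := by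
  let Ω : Set G.U := {x | ∃ W : IAO G, x ∈ W.1}
  have hΩ : IsOpen Ω := by
    rw [isOpen_iff_forall_mem_open]
    rintro x ⟨W, hW⟩
    exact ⟨W.1, fun y hy => ⟨W, hy⟩, W.1.isOpen, hW⟩
  by_contra hne
  push Not at hne
  obtain ⟨x, hx⟩ := hne
  have hZ : (Ωᶜ).Nonempty := ⟨x, fun ⟨W, hW⟩ => hx W hW⟩
  obtain ⟨u, hu, V, hV, huV⟩ := h3 Ωᶜ hΩ.isClosed_compl hZ
  obtain ⟨W, hW1, hW2, hW3⟩ := exists_invariant_affine_open G u V hV huV
  exact hu ⟨⟨W, hW1, hW3⟩, hW2⟩

theorem main (hcov : ∀ x : G.U, ∃ W : IAO G, x ∈ W.1) :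
    ∃ (Y : Scheme.{u}) (p : G.U ⟶ Y) (w : G.t ≫ p = G.s ≫ p),
      (∀ (Z : Scheme.{u}) (h : G.U ⟶ Z), G.t ≫ h = G.s ≫ h → ∃! k : Y ⟶ Z, p ≫ k = h) ∧
      IsIntegralHom p ∧ Surjective p ∧ IsOpenMap p ∧
      (∀ x y : G.U, p x = p y ↔ ∃ r : G.R, G.t r = x ∧ G.s r = y) ∧
      Function.Surjective (pullback.lift G.t G.s w) ∧ (IsAffine G.U → IsAffine Y) ∧
      (Mono G.j → IsFinite p ∧ Flat p ∧ LocallyOfFinitePresentation p ∧
        IsPullback G.t G.s p p) := by
  obtain ⟨D⟩ := exists_qdata G hcov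
  refine ⟨D.Y, D.p, D.w hcov, fun Z h hh => D.exists_unique_desc hcov h hh, D.isIntegralHom,
    D.surjective, D.isOpenMap, D.fibre_iff hcov, D.surjective_lift hcov,
    fun _ => D.isAffine, fun _ => ⟨D.isFinite, D.flat, D.locallyOfFinitePresentation,
      D.isPullback hcov⟩⟩

omit [IsFinite G.s] [Flat G.s] [LocallyOfFinitePresentation G.s] in
/-- the universal property as a colimit cofork. -/
theorem cofork_isColimit {X Y Q : Scheme.{u}} (f g : X ⟶ Y) (p : Y ⟶ Q) (w : f ≫ p = g ≫ p)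
    (h : ∀ (Z : Scheme.{u}) (h : Y ⟶ Z), f ≫ h = g ≫ h → ∃! k : Q ⟶ Z, p ≫ k = h) :
    Nonempty (IsColimit (Cofork.ofπ p w)) := by
  refine ⟨Cofork.IsColimit.mk' _ (fun s => ?_)⟩
  have hs := h s.pt s.π s.condition
  refine ⟨Classical.choose hs.exists, Classical.choose_spec hs.exists, ?_⟩
  intro m hm
  exact hs.unique hm (Classical.choose_spec hs.exists)

end Groth.Agent.Lib.H5bGQ
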