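import Mathlib
import Groth.Prelude.Def_AlgGrp
import Groth.Prelude.Def_Grpd
import Groth.Agent.Lib.H5bActGrpd
import Groth.Agent.Lib.H5bGQThm

/-!
# Quotient of a scheme by a free action of a finite locally free group scheme (helper5)

* `actGrpd` has finite locally free source when `G ⟶ S` is finite locally free;
* `mono_j_of_free`: a free action gives a monomorphism `j = (t, s)`;
* `orbit_affine_of_*`: orbits lie in affine opens when `X ⟶ S` is affine, `X` is open in an affine
  scheme, or `G ⟶ S` is universally injective.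
-/

set_option autoImplicit false
set_option linter.style.haveILetI false
set_option linter.unusedSectionVars false
set_option linter.unusedSimpArgs false
universe u

open CategoryTheory CategoryTheory.Limits MonoidalCategory CartesianMonoidalCategory MonObj GrpObj
  AlgebraicGeometry

namespace Groth.Agent.Lib.H5bAct

variable {S : Scheme.{u}} {G X : Over S} [GrpObj G] (a : AlgGrp.Action G X)

theorem actGrpd_s : (actGrpd a).s = pullback.snd G.hom X.hom := rfl

instance actGrpd_isFinite_s [IsFinite G.hom] : IsFinite (actGrpd a).s :=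
  inferInstanceAs (IsFinite (pullback.snd G.hom X.hom))

instance actGrpd_flat_s [Flat G.hom] : Flat (actGrpd a).s :=
  inferInstanceAs (Flat (pullback.snd G.hom X.hom))

instance actGrpd_lofp_s [LocallyOfFinitePresentation G.hom] :
    LocallyOfFinitePresentation (actGrpd a).s :=
  inferInstanceAs (LocallyOfFinitePresentation (pullback.snd G.hom X.hom))

theorem mono_j_of_free
    (hfree : ∀ (T : Over S) (g : T ⟶ G) (x : T ⟶ X), lift g x ≫ a.act = x → g = toUnit T ≫ η[G]) :
    Mono (actGrpd a).j := by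
  constructor
  intro T (α : T ⟶ (G ⊗ X).left) (β : T ⟶ (G ⊗ X).left) h
  have ht : α ≫ a.act.left = β ≫ a.act.left := by
    have := congrArg (fun φ => φ ≫ pullback.fst (actGrpd a).pU (actGrpd a).pU) h
    simp only [Category.assoc, Grpd.GroupoidScheme.j, pullback.lift_fst] at this
    exact this
  have hs : α ≫ (snd G X).left = β ≫ (snd G X).left := by
    have := congrArg (fun φ => φ ≫ pullback.snd (actGrpd a).pU (actGrpd a).pU) h
    simp only [Category.assoc, Grpd.GroupoidScheme.j, pullback.lift_snd] at this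
    exact this
  have hβ : β ≫ (G ⊗ X).hom = α ≫ (G ⊗ X).hom := by
    rw [← Over.w (snd G X), ← Category.assoc, ← hs, Category.assoc]
  let α' : Over.mk (α ≫ (G ⊗ X).hom) ⟶ G ⊗ X := pt _ α rfl
  let β' : Over.mk (α ≫ (G ⊗ X).hom) ⟶ G ⊗ X := pt _ β hβ
  have hs' : α' ≫ snd G X = β' ≫ snd G X := Over.OverMorphism.ext hs
  have ht' : α' ≫ a.act = β' ≫ a.act := Over.OverMorphism.ext ht
  -- `g = α' ≫ fst`, `h = β' ≫ fst`, `x = α' ≫ snd`
  have h1 : lift ((β' ≫ fst G X)⁻¹ * (α' ≫ fst G X)) (α' ≫ snd G X) ≫ a.act = α' ≫ snd G X := by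
    rw [lift_mul_act, lift_comp_fst_snd, ht']
    conv_rhs => rw [hs']
    have h2 : β' ≫ a.act = lift (β' ≫ fst G X) (β' ≫ snd G X) ≫ a.act := by
      rw [lift_comp_fst_snd]
    rw [h2, ← lift_mul_act, inv_mul_cancel, lift_one_act]
  have h3 := hfree _ _ _ h1
  have h4 : (β' ≫ fst G X)⁻¹ * (α' ≫ fst G X) = 1 := h3
  have h5 : α' ≫ fst G X = β' ≫ fst G X := by
    have := congrArg (fun z => (β' ≫ fst G X) * z) h4
    simp only [mul_inv_cancel_left, _root_.mul_one] at this
    exact this
  have h6 : α' = β' := CartesianMonoidalCategory.hom_ext _ _ h5 hs'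
  exact congrArg (fun φ => Over.Hom.left φ) h6

/-- orbits lie in affine opens when `X ⟶ S` is affine. -/
theorem orbit_affine_of_isAffineHom [IsAffineHom X.hom] (x : X.left) :
    ∃ V : X.left.Opens, IsAffineOpen V ∧
      ∀ r : (G ⊗ X).left, (snd G X).left r = x → a.act.left r ∈ V := by
  obtain ⟨_, ⟨S₀, hS₀, rfl⟩, hxS₀, -⟩ :=
    (S.isBasis_affineOpens).exists_subset_of_mem_open (Set.mem_univ (X.hom x)) isOpen_univ
  refine ⟨X.hom ⁻¹ᵁ S₀, hS₀.preimage X.hom, fun r hr => ?_⟩
  show X.hom (a.act.left r) ∈ S₀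
  have h1 : X.hom (a.act.left r) = X.hom ((snd G X).left r) := by
    rw [← Scheme.Hom.comp_apply, ← Scheme.Hom.comp_apply, Over.w, Over.w]
  rw [h1, hr]
  exact hxS₀

/-- orbits lie in affine opens when `X` is open in an affine scheme. -/
theorem orbit_affine_of_open_in_affine [IsFinite G.hom] (R : CommRingCat.{u})
    (i : X.left ⟶ Spec R) [IsOpenImmersion i] (x : X.left) :
    ∃ V : X.left.Opens, IsAffineOpen V ∧
      ∀ r : (G ⊗ X).left, (snd G X).left r = x → a.act.left r ∈ V := by
  haveI : IsFinite (snd G X).left := inferInstanceAs (IsFinite (pullback.snd G.hom X.hom))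
  let O : Set X.left := a.act.left '' ((snd G X).left ⁻¹' {x})
  have hO : O.Finite := ((snd G X).left.finite_preimage_singleton x).image _
  obtain ⟨f, hOf, hfW⟩ := Groth.Agent.Lib.H5bRG.exists_basicOpen_of_finite (X := Spec R) ⊤
    (isAffineOpen_top _) i.opensRange (i '' O) (hO.image _) (fun _ _ => trivial)
    (by rintro _ ⟨y, -, rfl⟩; exact ⟨y, rfl⟩)
  refine ⟨i ⁻¹ᵁ (Spec R).basicOpen f,
    ((isAffineOpen_top (Spec R)).basicOpen f).preimage_of_isOpenImmersion i hfW, fun r hr => ?_⟩
  exact hOf ⟨a.act.left r, ⟨r, hr, rfl⟩, rfl⟩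

/-- orbits are points when `G ⟶ S` is universally injective. -/
theorem orbit_affine_of_universallyInjective [UniversallyInjective G.hom] (x : X.left) :
    ∃ V : X.left.Opens, IsAffineOpen V ∧
      ∀ r : (G ⊗ X).left, (snd G X).left r = x → a.act.left r ∈ V := by
  haveI : UniversallyInjective (snd G X).left :=
    MorphismProperty.pullback_snd (P := @UniversallyInjective) G.hom X.hom inferInstance
  obtain ⟨_, ⟨V, hV, rfl⟩, hxV, -⟩ :=
    (X.left.isBasis_affineOpens).exists_subset_of_mem_open (Set.mem_univ x) isOpen_univ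
  refine ⟨V, hV, fun r hr => ?_⟩
  have h1 : (snd G X).left ((eO : X ⟶ G ⊗ X).left x) = x := by
    rw [← Scheme.Hom.comp_apply]
    exact congrArg (fun φ : X.left ⟶ X.left => φ x) (actGrpd a).e_s
  have h2 : r = (eO : X ⟶ G ⊗ X).left x := (snd G X).left.injective (hr.trans h1.symm)
  have h3 : a.act.left ((eO : X ⟶ G ⊗ X).left x) = x := by
    rw [← Scheme.Hom.comp_apply]
    exact congrArg (fun φ : X.left ⟶ X.left => φ x) (actGrpd a).e_t
  rw [h2, h3]
  exact hxV

end Groth.Agent.Lib.H5bAct
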