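import Mathlib

/-!
# Multilinear maps vanishing on adjacent equal arguments are alternating (helper5, second run)
-/

set_option autoImplicit false

namespace Groth.Agent.Lib.H5b

open Function

variable {K : Type*} [CommRing K] {M N : Type*} [AddCommGroup M] [Module K M]
  [AddCommGroup N] [Module K N] {m : ℕ}

/-- Swapping two adjacent arguments changes the sign. -/
theorem map_comp_swap_adjacent (Ψ : MultilinearMap K (fun _ : Fin (m + 1) => M) N)
    (hadj : ∀ (v : Fin (m + 1) → M) (p : Fin m), v p.castSucc = v p.succ → Ψ v = 0)
    (v : Fin (m + 1) → M) (p : Fin m) :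
    Ψ (v ∘ Equiv.swap p.castSucc p.succ) = - Ψ v := by
  classical
  have hne : p.castSucc ≠ p.succ := (Fin.castSucc_lt_succ).ne
  set a := v p.castSucc with ha
  set b := v p.succ with hb
  have h0 : Ψ (update (update v p.succ (a + b)) p.castSucc (a + b)) = 0 := by
    apply hadj _ p
    rw [update_self, update_of_ne hne.symm, update_self]
  rw [MultilinearMap.map_update_add] at h0
  have c1 : update (update v p.succ (a + b)) p.castSucc a
      = update (update v p.castSucc a) p.succ (a + b) := update_comm hne.symm _ _ _
  have c2 : update (update v p.succ (a + b)) p.castSucc b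
      = update (update v p.castSucc b) p.succ (a + b) := update_comm hne.symm _ _ _
  rw [c1, c2] at h0
  rw [MultilinearMap.map_update_add, MultilinearMap.map_update_add] at h0
  have h1 : Ψ (update (update v p.castSucc a) p.succ a) = 0 := by
    apply hadj _ p
    rw [update_self, update_of_ne hne, update_self]
  have h2 : Ψ (update (update v p.castSucc b) p.succ b) = 0 := by
    apply hadj _ p
    rw [update_self, update_of_ne hne, update_self]
  have h3 : update (update v p.castSucc a) p.succ b = v := by
    rw [ha, hb, update_eq_self, update_eq_self]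
  have h4 : update (update v p.castSucc b) p.succ a = v ∘ Equiv.swap p.castSucc p.succ := by
    funext x
    simp only [comp_apply]
    by_cases hx1 : x = p.succ
    · subst hx1
      rw [update_self, Equiv.swap_apply_right]
    · rw [update_of_ne hx1]
      by_cases hx2 : x = p.castSucc
      · subst hx2
        rw [update_self, Equiv.swap_apply_left]
      · rw [update_of_ne hx2, Equiv.swap_apply_of_ne_of_ne hx2 hx1]
  rw [h1, h2, h3, h4] at h0
  rw [eq_neg_iff_add_eq_zero]
  rw [zero_add, add_zero] at h0
  rw [add_comm]
  exact h0

/-- A multilinear map vanishing on tuples with two adjacent equal entries vanishes on tuples with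
two equal entries. -/
theorem map_eq_zero_of_eq_of_adjacent (Ψ : MultilinearMap K (fun _ : Fin (m + 1) => M) N)
    (hadj : ∀ (v : Fin (m + 1) → M) (p : Fin m), v p.castSucc = v p.succ → Ψ v = 0)
    (v : Fin (m + 1) → M) (a b : Fin (m + 1)) (hv : v a = v b) (hab : a ≠ b) : Ψ v = 0 := by
  classical
  wlog hlt : a < b generalizing a b
  · exact this b a hv.symm hab.symm (lt_of_le_of_ne (not_lt.mp hlt) hab.symm)
  induction' hk : b.val - a.val using Nat.strong_induction_on with k ih generalizing v a b
  -- `b = q.succ` for some `q`
  have hb0 : b ≠ 0 := by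
    intro h0
    rw [h0] at hlt
    exact absurd hlt (Fin.not_lt_zero a)
  obtain ⟨q, rfl⟩ := Fin.exists_succ_eq.mpr hb0
  by_cases haq : a = q.castSucc
  · subst haq
    exact hadj v q hv
  · have hlt' : a < q.castSucc := by
      rw [Fin.lt_def] at hlt ⊢
      have : a.val ≠ q.val := fun h => haq (Fin.ext (by simpa using h))
      simp only [Fin.val_succ, Fin.val_castSucc] at hlt ⊢
      omega
    have hswap := map_comp_swap_adjacent Ψ hadj v q
    have hz : Ψ (v ∘ Equiv.swap q.castSucc q.succ) = 0 := by
      apply ih (q.castSucc.val - a.val) _ (v ∘ Equiv.swap q.castSucc q.succ) a q.castSucc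
        _ (ne_of_lt hlt') hlt' rfl
      · simp only [Fin.val_succ, Fin.val_castSucc] at hk ⊢
        rw [Fin.lt_def] at hlt'
        simp only [Fin.val_castSucc] at hlt'
        omega
      · simp only [comp_apply]
        rw [Equiv.swap_apply_left, Equiv.swap_apply_of_ne_of_ne haq (ne_of_lt hlt)]
        exact hv
    rw [hz] at hswap
    exact neg_eq_zero.mp hswap.symm

/-- The alternating map attached to a multilinear map vanishing on adjacent equal arguments. -/
def alternatingOfAdjacent (Ψ : MultilinearMap K (fun _ : Fin (m + 1) => M) N)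
    (hadj : ∀ (v : Fin (m + 1) → M) (p : Fin m), v p.castSucc = v p.succ → Ψ v = 0) :
    M [⋀^Fin (m + 1)]→ₗ[K] N :=
  { Ψ with
    map_eq_zero_of_eq' := fun v a b hv hab => map_eq_zero_of_eq_of_adjacent Ψ hadj v a b hv hab }

theorem alternatingOfAdjacent_apply (Ψ : MultilinearMap K (fun _ : Fin (m + 1) => M) N)
    (hadj : ∀ (v : Fin (m + 1) → M) (p : Fin m), v p.castSucc = v p.succ → Ψ v = 0)
    (v : Fin (m + 1) → M) : alternatingOfAdjacent Ψ hadj v = Ψ v := rfl

/-- Over a field, a multilinear map in `d + 1` vectors of `K^d` vanishing on adjacent equal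
arguments is zero. -/
theorem map_eq_zero_of_adjacent_of_card {F : Type*} [Field F] {d : ℕ}
    (Ψ : MultilinearMap F (fun _ : Fin (d + 1) => (Fin d → F)) F)
    (hadj : ∀ (v : Fin (d + 1) → (Fin d → F)) (p : Fin d), v p.castSucc = v p.succ → Ψ v = 0)
    (v : Fin (d + 1) → (Fin d → F)) : Ψ v = 0 := by
  rw [← alternatingOfAdjacent_apply Ψ hadj v]
  apply AlternatingMap.map_linearDependent
  intro hli
  have := hli.fintype_card_le_finrank
  rw [Fintype.card_fin, Module.finrank_fin_fun] at this
  omega

end Groth.Agent.Lib.H5b
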