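import Groth.Agent.Lib.H9RegSm

/-! Smooth divisors through a point of a smooth morphism: a function `h` with `dh ≠ 0` at `x`
extends to an etale coordinate system, so `V(h)` is a smooth effective Cartier divisor (helper9). -/

set_option autoImplicit false
set_option linter.style.haveILetI false
set_option linter.unusedSimpArgs false
set_option linter.unusedVariables false
universe u
open TensorProduct KaehlerDifferential IsLocalRing
open AlgebraicGeometry CategoryTheory CategoryTheory.Limits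

namespace Groth.Agent.Lib.H9SmDiv

-- ===== part G1.0 =====
section

/-- `A[Option σ]/(X none)` is smooth over `A` for finite `σ`. -/
theorem smooth_quot_X_none (A : Type u) [CommRing A] (σ : Type) [Finite σ] :
    Algebra.Smooth A (MvPolynomial (Option σ) A ⧸
      Ideal.span {(MvPolynomial.X none : MvPolynomial (Option σ) A)}) := by
  let e₁ := MvPolynomial.optionEquivLeft A σ
  have hIJ : Ideal.span {(Polynomial.X - Polynomial.C (0 : MvPolynomial σ A) :
        Polynomial (MvPolynomial σ A))} =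
      (Ideal.span {(MvPolynomial.X none : MvPolynomial (Option σ) A)}).map
        (e₁ : MvPolynomial (Option σ) A →+* Polynomial (MvPolynomial σ A)) := by
    rw [Ideal.map_span, Set.image_singleton, map_zero, sub_zero]
    congr 2
    exact (MvPolynomial.optionEquivLeft_X_none A σ).symm
  let e₂ := Ideal.quotientEquivAlg _ _ e₁ hIJ
  let e₃ : (Polynomial (MvPolynomial σ A) ⧸ Ideal.span
      {(Polynomial.X - Polynomial.C (0 : MvPolynomial σ A) : Polynomial (MvPolynomial σ A))})
      ≃ₐ[A] MvPolynomial σ A :=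
    (Polynomial.quotientSpanXSubCAlgEquiv (0 : MvPolynomial σ A)).restrictScalars A
  haveI : Algebra.Smooth A (MvPolynomial σ A) := ⟨inferInstance, inferInstance⟩
  exact Algebra.Smooth.of_equiv (e₂.trans e₃).symm

end

-- ===== part G2.0 =====
section

theorem smooth_quot_of_etale (A P D : Type u) [CommRing A] [CommRing P] [CommRing D]
    [Algebra A P] [Algebra P D] [Algebra A D] [IsScalarTower A P D] [Algebra.Etale P D]
    (I : Ideal P) [Algebra.Smooth A (P ⧸ I)] :
    Algebra.Smooth A (D ⧸ I.map (algebraMap P D)) := by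
  let E := Algebra.TensorProduct.quotIdealMapEquivQuotTensor D I
  haveI : Algebra.Smooth (P ⧸ I) ((P ⧸ I) ⊗[P] D) := inferInstance
  haveI : Algebra.Smooth A ((P ⧸ I) ⊗[P] D) := Algebra.Smooth.comp A (P ⧸ I) _
  haveI : IsScalarTower A (P ⧸ I) (D ⧸ I.map (algebraMap P D)) := by
    refine IsScalarTower.of_algebraMap_eq (fun a => ?_)
    rw [IsScalarTower.algebraMap_apply A P (P ⧸ I), IsScalarTower.algebraMap_apply A D (D ⧸ _),
      IsScalarTower.algebraMap_apply A P D]
    rfl
  exact Algebra.Smooth.of_equiv (E.restrictScalars A).symm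

end

-- ===== part G3.0 =====
section

open Groth.Agent.Lib.H9EtCoord Groth.Agent.Lib.H9RegSm

/-- the reindexing `Option (Fin m) ≃ Fin 1 ⊕ Fin m` -/
def optEquiv (m : ℕ) : Option (Fin m) ≃ Fin 1 ⊕ Fin m where
  toFun o := o.elim (Sum.inl 0) Sum.inr
  invFun s := Sum.elim (fun _ => none) some s
  left_inv o := by cases o <;> rfl
  right_inv s := by
    rcases s with i | j
    · have : i = 0 := Subsingleton.elim _ _
      subst this; rfl
    · rfl

theorem ring_main_div (A B : Type u) [CommRing A] [CommRing B] (φ : A →+* B)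
    (hfp : φ.FinitePresentation) (q : Ideal B) [q.IsPrime]
    (hsm : letI := φ.toAlgebra; Algebra.IsSmoothAt A q) (h₀ : B)
    (hd : letI := φ.toAlgebra
      (1 : ResidueField (Localization.AtPrime q)) ⊗ₜ[Localization.AtPrime q]
        D A (Localization.AtPrime q) (algebraMap B (Localization.AtPrime q) h₀) ≠ 0) :
    ∃ (g : B) (_ : g ∉ q), ∀ (C : Type u) [CommRing C] (ψ : B →+* C),
      (letI := ψ.toAlgebra; IsLocalization.Away g C) →
        ψ h₀ ∈ nonZeroDivisors C ∧
          ((Ideal.Quotient.mk (Ideal.span {ψ h₀})).comp (ψ.comp φ)).Smooth := by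
  letI := φ.toAlgebra
  haveI : Algebra.FinitePresentation A B := hfp
  haveI : Algebra.IsSmoothAt A q := hsm
  obtain ⟨hfree, hfin⟩ := free_kaehler A B (q := q)
  have hLI : LinearIndependent (ResidueField (Localization.AtPrime q))
      (fun _ : Fin 1 => (1 : ResidueField (Localization.AtPrime q)) ⊗ₜ[Localization.AtPrime q]
        D A (Localization.AtPrime q) (algebraMap B (Localization.AtPrime q) h₀)) :=
    LinearIndependent.of_subsingleton 0 hd
  obtain ⟨m, w, hli, hsp⟩ := exists_extend_local (R := Localization.AtPrime q)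
    (M := Ω[Localization.AtPrime q⁄A]) (T := B)
    (fun b => D A (Localization.AtPrime q) (algebraMap B (Localization.AtPrime q) b))
    (span_D_algebraMap A B q) (fun _ : Fin 1 => h₀) hLI
  let c : Option (Fin m) → B := fun o => o.elim h₀ w
  have hfam : (fun o : Option (Fin m) =>
      D A (Localization.AtPrime q) (algebraMap B (Localization.AtPrime q) (c o))) =
      (Sum.elim ((fun b => D A (Localization.AtPrime q)
        (algebraMap B (Localization.AtPrime q) b)) ∘ (fun _ : Fin 1 => h₀))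
        ((fun b => D A (Localization.AtPrime q)
        (algebraMap B (Localization.AtPrime q) b)) ∘ w)) ∘ optEquiv m := by
    funext o
    cases o <;> rfl
  let φ₀ : MvPolynomial (Option (Fin m)) A →ₐ[A] B := MvPolynomial.aeval c
  letI : Algebra (MvPolynomial (Option (Fin m)) A) B := φ₀.toRingHom.toAlgebra
  haveI : IsScalarTower A (MvPolynomial (Option (Fin m)) A) B :=
    IsScalarTower.of_algebraMap_eq (fun a => (φ₀.commutes a).symm)
  have hX : ∀ i, algebraMap (MvPolynomial (Option (Fin m)) A) B (MvPolynomial.X i) = c i :=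
    fun i => MvPolynomial.aeval_X _ i
  haveI : Algebra.IsEtaleAt (MvPolynomial (Option (Fin m)) A) q :=
    isEtaleAt_of_basis A B (Option (Fin m)) q
      (by simp only [hX]; rw [hfam]; exact hli.comp _ (optEquiv m).injective)
      (by
        simp only [hX]; rw [hfam, Set.range_comp, Equiv.range_eq_univ, Set.image_univ]
        exact hsp)
  haveI : Algebra.FinitePresentation (MvPolynomial (Option (Fin m)) A) B :=
    Algebra.FinitePresentation.of_restrict_scalars_finitePresentation A _ _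
  obtain ⟨g, hg, hE⟩ := Algebra.exists_etale_of_isEtaleAt
    (R := MvPolynomial (Option (Fin m)) A) q
  refine ⟨g, hg, ?_⟩
  intro C _ ψ hloc
  letI algBC : Algebra B C := ψ.toAlgebra
  haveI : IsLocalization.Away g C := hloc
  let eD : Localization.Away g ≃ₐ[B] C := IsLocalization.algEquiv (.powers g) _ _
  letI algAC : Algebra A C := (ψ.comp φ).toAlgebra
  haveI : IsScalarTower A B C := IsScalarTower.of_algebraMap_eq (fun _ => rfl)
  letI algPC : Algebra (MvPolynomial (Option (Fin m)) A) C :=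
    (ψ.comp (algebraMap (MvPolynomial (Option (Fin m)) A) B)).toAlgebra
  haveI : IsScalarTower (MvPolynomial (Option (Fin m)) A) B C :=
    IsScalarTower.of_algebraMap_eq (fun _ => rfl)
  haveI : IsScalarTower A (MvPolynomial (Option (Fin m)) A) C := by
    refine IsScalarTower.of_algebraMap_eq (fun a => ?_)
    rw [IsScalarTower.algebraMap_apply A B C,
      IsScalarTower.algebraMap_apply (MvPolynomial (Option (Fin m)) A) B C,
      ← IsScalarTower.algebraMap_apply A (MvPolynomial (Option (Fin m)) A) B]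
  haveI : Algebra.Etale (MvPolynomial (Option (Fin m)) A) C :=
    Algebra.Etale.of_equiv (eD.restrictScalars (MvPolynomial (Option (Fin m)) A))
  have hXC : algebraMap (MvPolynomial (Option (Fin m)) A) C (MvPolynomial.X none) = ψ h₀ := by
    rw [IsScalarTower.algebraMap_apply (MvPolynomial (Option (Fin m)) A) B C, hX]
    rfl
  constructor
  · -- nonzerodivisor
    have h1 := (isWeaklyRegular_X (R := A) [(none : Option (Fin m))]
      (List.nodup_singleton _)).of_flat (S := C)
    rw [List.map_singleton, List.map_singleton, hXC,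
      RingTheory.Sequence.isWeaklyRegular_singleton_iff] at h1
    rw [mem_nonZeroDivisors_iff_right]
    intro x hx
    apply h1
    change ψ h₀ • x = ψ h₀ • 0
    rw [smul_eq_mul, smul_eq_mul, mul_zero, mul_comm]
    exact hx
  · -- smooth quotient
    haveI := smooth_quot_X_none A (Fin m)
    have h2 := smooth_quot_of_etale A (MvPolynomial (Option (Fin m)) A) C
      (Ideal.span {(MvPolynomial.X none : MvPolynomial (Option (Fin m)) A)})
    have h3 : (Ideal.span {(MvPolynomial.X none : MvPolynomial (Option (Fin m)) A)}).map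
        (algebraMap (MvPolynomial (Option (Fin m)) A) C) = Ideal.span {ψ h₀} := by
      rw [Ideal.map_span, Set.image_singleton, hXC]
    rw [h3] at h2
    exact RingHom.smooth_algebraMap.mpr h2

end

-- ===== part G4.0 =====
section

lemma one_tmul_eq_zero_iff {R M : Type*} [CommRing R] [IsLocalRing R] [AddCommGroup M]
    [Module R M] (ω : M) :
    (1 : ResidueField R) ⊗ₜ[R] ω = 0 ↔ ω ∈ (maximalIdeal R • ⊤ : Submodule R M) := by
  have h := TensorProduct.quotTensorEquivQuotSMul_mk_one_tmul (M := M) (maximalIdeal R) ω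
  constructor
  · intro h0
    have h1 : (TensorProduct.quotTensorEquivQuotSMul M (maximalIdeal R))
        ((1 : R ⧸ maximalIdeal R) ⊗ₜ[R] ω) = 0 := by
      have : ((1 : R ⧸ maximalIdeal R) ⊗ₜ[R] ω) = 0 := h0
      rw [this, map_zero]
    rw [h] at h1
    exact (Submodule.Quotient.mk_eq_zero _).mp h1
  · intro hω
    have h1 : (TensorProduct.quotTensorEquivQuotSMul M (maximalIdeal R))
        ((1 : R ⧸ maximalIdeal R) ⊗ₜ[R] ω) = 0 := by
      rw [h]
      exact (Submodule.Quotient.mk_eq_zero _).mpr hω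
    exact (LinearEquiv.map_eq_zero_iff _).mp h1

lemma map_mem_maximalIdeal_smul_top {R R' M M' : Type*} [CommRing R] [IsLocalRing R]
    [CommRing R'] [IsLocalRing R'] [Algebra R R'] [IsLocalHom (algebraMap R R')]
    [AddCommGroup M] [Module R M] [AddCommGroup M'] [Module R M'] [Module R' M']
    [IsScalarTower R R' M'] (ℓ : M →ₗ[R] M') (ω : M)
    (hω : ω ∈ (maximalIdeal R • ⊤ : Submodule R M)) :
    ℓ ω ∈ (maximalIdeal R' • ⊤ : Submodule R' M') := by
  refine Submodule.smul_induction_on (p := fun ω => ℓ ω ∈ (maximalIdeal R' • ⊤ : Submodule R' M'))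
    hω ?_ ?_
  · intro a ha x _
    rw [map_smul, ← algebraMap_smul R' a (ℓ x)]
    refine Submodule.smul_mem_smul ?_ Submodule.mem_top
    exact (IsLocalRing.mem_maximalIdeal _).mpr
      (fun hu => ((IsLocalRing.mem_maximalIdeal a).mp ha)
        (isUnit_of_map_unit (algebraMap R R') a hu))
  · intro x y hx hy
    rw [map_add]; exact Submodule.add_mem _ hx hy

end

-- ===== part G5.0 =====
section

/-- transport of the non-vanishing of `dh` at a point from the local rings to the localization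
of an affine chart. -/
theorem hd_transport (A B Os Ox : Type u) [CommRing A] [CommRing B] [CommRing Os] [CommRing Ox]
    [Algebra A B] [Algebra A Os] [Algebra Os Ox] [Algebra B Ox] [Algebra A Ox]
    [IsScalarTower A B Ox] [IsScalarTower A Os Ox] (q : Ideal B) [q.IsPrime]
    [IsLocalization.AtPrime Ox q] [IsLocalRing Ox] (h₀ : B)
    (hd : (1 : ResidueField Ox) ⊗ₜ[Ox] D Os Ox (algebraMap B Ox h₀) ≠ 0) :
    (1 : ResidueField (Localization.AtPrime q)) ⊗ₜ[Localization.AtPrime q]
      D A (Localization.AtPrime q) (algebraMap B (Localization.AtPrime q) h₀) ≠ 0 := by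
  let e : Localization.AtPrime q ≃ₐ[B] Ox := IsLocalization.algEquiv q.primeCompl _ _
  letI : Algebra (Localization.AtPrime q) Ox := e.toAlgHom.toRingHom.toAlgebra
  haveI : IsScalarTower B (Localization.AtPrime q) Ox :=
    IsScalarTower.of_algebraMap_eq (fun b => (e.commutes b).symm)
  haveI : IsScalarTower A (Localization.AtPrime q) Ox := by
    refine IsScalarTower.of_algebraMap_eq (fun a => ?_)
    rw [IsScalarTower.algebraMap_apply A B Ox, IsScalarTower.algebraMap_apply A B
      (Localization.AtPrime q), ← IsScalarTower.algebraMap_apply B (Localization.AtPrime q) Ox]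
  haveI : IsLocalHom (algebraMap (Localization.AtPrime q) Ox) := by
    refine ⟨fun a ha => ?_⟩
    have : IsUnit (e.symm (e a)) := ha.map e.symm
    rwa [e.symm_apply_apply] at this
  intro h0
  rw [one_tmul_eq_zero_iff] at h0
  have h1 := map_mem_maximalIdeal_smul_top (R := Localization.AtPrime q) (R' := Ox)
    (KaehlerDifferential.map A Os (Localization.AtPrime q) Ox) _ h0
  rw [KaehlerDifferential.map_D, ← IsScalarTower.algebraMap_apply B (Localization.AtPrime q) Ox,
    ← one_tmul_eq_zero_iff] at h1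
  exact hd h1

end

-- ===== part G6.0 =====
section

open Groth.Agent.Lib.H9SecChart

variable {X S : Scheme.{u}}

/-- smoothness of the ring map of an affine chart inside an open where `f` is smooth -/
lemma smooth_appLE_of_le (f : X ⟶ S) (W : X.Opens) (hW : Smooth (W.ι ≫ f)) (S₀ : S.Opens)
    (hS₀ : IsAffineOpen S₀) (X₀ : X.Opens) (hX₀ : IsAffineOpen X₀) (hXW : X₀ ≤ W)
    (hXS : X₀ ≤ f ⁻¹ᵁ S₀) : (f.appLE S₀ X₀ hXS).hom.Smooth := by
  haveI : Smooth (X₀.ι ≫ f) := by
    rw [← X.homOfLE_ι hXW, Category.assoc]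
    infer_instance
  haveI : IsAffine (X₀ : Scheme.{u}) := hX₀
  have e : (⊤ : (X₀ : Scheme.{u}).Opens) ≤ (X₀.ι ≫ f) ⁻¹ᵁ S₀ := by
    rintro ⟨t, ht⟩ -
    exact hXS ht
  have h1 := (X₀.ι ≫ f).smooth_appLE hS₀ (isAffineOpen_top _) e
  have h2 : (X₀.ι ≫ f).appLE S₀ ⊤ e = f.appLE S₀ X₀ hXS ≫ X₀.ι.appLE X₀ ⊤ (by simp) :=
    (Scheme.Hom.appLE_comp_appLE _ _ _ _ _ _ _).symm
  rw [h2] at h1
  haveI : IsIso (X₀.ι.appLE X₀ ⊤ (by simp)) := by
    have h3 : X₀.ι.appLE X₀ ⊤ (by simp) = X₀.topIso.inv := by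
      rw [Scheme.Opens.ι_appLE]
      exact congrArg X.presheaf.map (Subsingleton.elim _ _)
    rw [h3]
    infer_instance
  exact (RingHom.Smooth.respectsIso.cancel_right_isIso _ _).mp h1

end

-- ===== part G6.1 =====
section

open Groth.Agent.Lib.H9SecChart

variable {X S : Scheme.{u}}

theorem main (f : X ⟶ S) (x : X)
    (W : X.Opens) (hxW : x ∈ W) (hW : Smooth (W.ι ≫ f))
    (h : ↑(X.presheaf.stalk x)) (hm : h ∈ IsLocalRing.maximalIdeal ↑(X.presheaf.stalk x))
    (hd : letI := (f.stalkMap x).hom.toAlgebra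
      (1 : IsLocalRing.ResidueField ↑(X.presheaf.stalk x)) ⊗ₜ[↑(X.presheaf.stalk x)]
          (KaehlerDifferential.D ↑(S.presheaf.stalk (f x)) ↑(X.presheaf.stalk x) h) ≠ 0) :
    ∃ (U : X.Opens) (hU : IsAffineOpen U) (hx : x ∈ U) (h' : Γ(X, U)),
      X.presheaf.germ U x hx h' = h ∧
      h' ∈ nonZeroDivisors Γ(X, U) ∧
      Smooth (Spec.map (CommRingCat.ofHom (Ideal.Quotient.mk (Ideal.span {h'}))) ≫
        hU.fromSpec ≫ f) := by
  -- affine opens and a section representing `h`
  obtain ⟨V, hxV, s, hs⟩ := X.presheaf.exists_germ_eq h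
  obtain ⟨_, ⟨S₀, hS₀, rfl⟩, hsS₀, -⟩ :=
    S.isBasis_affineOpens.exists_subset_of_mem_open (Set.mem_univ (f x)) isOpen_univ
  obtain ⟨_, ⟨X₀, hX₀, rfl⟩, hxX₀, hX₀'⟩ :=
    X.isBasis_affineOpens.exists_subset_of_mem_open
      (show x ∈ V ⊓ W ⊓ f ⁻¹ᵁ S₀ from ⟨⟨hxV, hxW⟩, hsS₀⟩) (V ⊓ W ⊓ f ⁻¹ᵁ S₀).2
  have hX₀le : X₀ ≤ V ⊓ W ⊓ f ⁻¹ᵁ S₀ := hX₀'
  have hXV : X₀ ≤ V := hX₀le.trans (inf_le_left.trans inf_le_left)
  have hXW : X₀ ≤ W := hX₀le.trans (inf_le_left.trans inf_le_right)
  have hXS : X₀ ≤ f ⁻¹ᵁ S₀ := hX₀le.trans inf_le_right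
  set h₀ : Γ(X, X₀) := (X.presheaf.map (homOfLE hXV).op).hom s with hh₀
  have hgerm₀ : X.presheaf.germ X₀ x hxX₀ h₀ = h := by
    rw [hh₀]
    erw [X.presheaf.germ_res_apply (homOfLE hXV) x hxX₀ s]
    exact hs
  -- ring data
  have hsmφ := smooth_appLE_of_le f W hW S₀ hS₀ X₀ hX₀ hXW hXS
  have hfp := hsmφ.finitePresentation
  have hd' : letI := (f.appLE S₀ X₀ hXS).hom.toAlgebra
      (1 : IsLocalRing.ResidueField (Localization.AtPrime (hX₀.primeIdealOf ⟨x, hxX₀⟩).asIdeal))
        ⊗ₜ[Localization.AtPrime (hX₀.primeIdealOf ⟨x, hxX₀⟩).asIdeal]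
        KaehlerDifferential.D Γ(S, S₀) (Localization.AtPrime (hX₀.primeIdealOf ⟨x, hxX₀⟩).asIdeal)
          (algebraMap Γ(X, X₀) (Localization.AtPrime (hX₀.primeIdealOf ⟨x, hxX₀⟩).asIdeal) h₀)
        ≠ 0 := by
    letI := (f.appLE S₀ X₀ hXS).hom.toAlgebra
    letI : Algebra Γ(S, S₀) (S.presheaf.stalk (f x)) :=
      (S.presheaf.germ S₀ (f x) hsS₀).hom.toAlgebra
    letI : Algebra (S.presheaf.stalk (f x)) (X.presheaf.stalk x) := (f.stalkMap x).hom.toAlgebra
    letI : Algebra Γ(X, X₀) (X.presheaf.stalk x) := (X.presheaf.germ X₀ x hxX₀).hom.toAlgebra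
    letI : Algebra Γ(S, S₀) (X.presheaf.stalk x) :=
      ((X.presheaf.germ X₀ x hxX₀).hom.comp (f.appLE S₀ X₀ hXS).hom).toAlgebra
    haveI : IsScalarTower Γ(S, S₀) Γ(X, X₀) (X.presheaf.stalk x) :=
      IsScalarTower.of_algebraMap_eq (fun _ => rfl)
    haveI : IsScalarTower Γ(S, S₀) (S.presheaf.stalk (f x)) (X.presheaf.stalk x) := by
      refine IsScalarTower.of_algebraMap_eq (fun a => ?_)
      change (X.presheaf.germ X₀ x hxX₀).hom ((f.appLE S₀ X₀ hXS).hom a) =
        (f.stalkMap x).hom ((S.presheaf.germ S₀ (f x) hsS₀).hom a)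
      erw [Scheme.Hom.germ_stalkMap_apply f S₀ x hsS₀ a]
      simp only [Scheme.Hom.appLE, CommRingCat.hom_comp, RingHom.comp_apply]
      exact (X.presheaf.germ_res_apply (homOfLE hXS) x hxX₀ _)
    haveI : IsLocalization.AtPrime (X.presheaf.stalk x) (hX₀.primeIdealOf ⟨x, hxX₀⟩).asIdeal :=
      hX₀.isLocalization_stalk ⟨x, hxX₀⟩
    refine hd_transport Γ(S, S₀) Γ(X, X₀) (S.presheaf.stalk (f x)) (X.presheaf.stalk x)
      (hX₀.primeIdealOf ⟨x, hxX₀⟩).asIdeal h₀ ?_
    change (1 : IsLocalRing.ResidueField ↑(X.presheaf.stalk x)) ⊗ₜ[↑(X.presheaf.stalk x)]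
      (KaehlerDifferential.D ↑(S.presheaf.stalk (f x)) ↑(X.presheaf.stalk x)
        ((X.presheaf.germ X₀ x hxX₀).hom h₀)) ≠ 0
    rw [show (X.presheaf.germ X₀ x hxX₀).hom h₀ = h from hgerm₀]
    exact hd
  obtain ⟨g, hg, H⟩ := ring_main_div Γ(S, S₀) Γ(X, X₀) (f.appLE S₀ X₀ hXS).hom hfp
    (hX₀.primeIdealOf ⟨x, hxX₀⟩).asIdeal
    (by
      algebraize [(f.appLE S₀ X₀ hXS).hom]
      infer_instance)
    h₀ hd'
  have hxg : x ∈ X.basicOpen g := mem_basicOpen_of_notMem_primeIdealOf hX₀ x hxX₀ g hg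
  set U : X.Opens := X.basicOpen g with hUdef
  have hUX₀ : U ≤ X₀ := X.basicOpen_le g
  have hUS₀ : U ≤ f ⁻¹ᵁ S₀ := hUX₀.trans hXS
  have hU : IsAffineOpen U := hX₀.basicOpen g
  set ψ : Γ(X, X₀) →+* Γ(X, U) := (X.presheaf.map (homOfLE hUX₀).op).hom with hψ
  have hloc : (letI := ψ.toAlgebra; IsLocalization.Away g Γ(X, U)) :=
    hX₀.isLocalization_of_eq_basicOpen g (homOfLE hUX₀) rfl
  obtain ⟨hnzd, hsmq⟩ := H Γ(X, U) ψ hloc
  refine ⟨U, hU, hxg, ψ h₀, ?_, hnzd, ?_⟩
  · rw [hψ]
    erw [X.presheaf.germ_res_apply (homOfLE hUX₀) x hxg h₀]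
    exact hgerm₀
  · have h1 : Spec.map (f.appLE S₀ U hUS₀) ≫ hS₀.fromSpec = hU.fromSpec ≫ f :=
      IsAffineOpen.SpecMap_appLE_fromSpec f hS₀ hU hUS₀
    rw [← h1, ← Category.assoc, ← Spec.map_comp]
    have h2 : (f.appLE S₀ U hUS₀ ≫
        CommRingCat.ofHom (Ideal.Quotient.mk (Ideal.span {ψ h₀}))).hom.Smooth := by
      have h3 : f.appLE S₀ U hUS₀ = f.appLE S₀ X₀ hXS ≫ X.presheaf.map (homOfLE hUX₀).op :=
        (Scheme.Hom.appLE_map f hXS (homOfLE hUX₀).op).symm
      rw [h3]
      exact hsmq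
    haveI : Smooth (Spec.map (f.appLE S₀ U hUS₀ ≫
        CommRingCat.ofHom (Ideal.Quotient.mk (Ideal.span {ψ h₀})))) :=
      (HasRingHomProperty.Spec_iff (P := @Smooth)).mpr h2
    haveI : IsOpenImmersion (IsAffineOpen.fromSpec hS₀) := IsAffineOpen.isOpenImmersion_fromSpec hS₀
    infer_instance

end

end Groth.Agent.Lib.H9SmDiv
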