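import Groth.Agent.Lib.H9SecChart
import Groth.Agent.Lib.H9SmDiv

/-! Étale slices through separable closed points of smooth morphisms (helper9): if the residue
field at `q` is formally unramified over the base, differentials of elements of `q` span
`Ω[B_q/A]`, so coordinates vanishing at the point give an étale chart, and their zero locus is an
étale locally closed subscheme through the point. -/

set_option autoImplicit false
set_option linter.style.haveILetI false
set_option linter.unusedSimpArgs false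
set_option linter.unusedVariables false
universe u

namespace Groth.Agent.Lib.H9Slice

-- ===== part Slice1 =====
section

open KaehlerDifferential IsLocalRing TensorProduct
open Groth.Agent.Lib.H9SmDiv


/-- if the residue field at `q` is formally unramified over `A`, then the differentials of the
elements of `q` span `Ω[B_q/A]`. -/
theorem span_D_of_unramified (A B : Type u) [CommRing A] [CommRing B] [Algebra A B]
    (q : Ideal B) [q.IsPrime]
    [Module.Finite (Localization.AtPrime q) Ω[Localization.AtPrime q⁄A]]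
    [Algebra.FormallyUnramified A (ResidueField (Localization.AtPrime q))] :
    Submodule.span (Localization.AtPrime q)
      (Set.range fun b : q => D A (Localization.AtPrime q)
        (algebraMap B (Localization.AtPrime q) b)) = ⊤ := by
  set R := Localization.AtPrime q with hR
  set N := Submodule.span R
      (Set.range fun b : q => D A R (algebraMap B R b)) with hN
  rw [eq_top_iff]
  refine Submodule.le_of_le_smul_of_le_jacobson_bot (I := maximalIdeal R) Module.Finite.fg_top
    (IsLocalRing.maximalIdeal_le_jacobson _) ?_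
  rintro ω -
  -- step 1: D x ∈ N ⊔ m • ⊤ for x ∈ m
  have h1 : ∀ x ∈ maximalIdeal R, D A R x ∈ N ⊔ maximalIdeal R • (⊤ : Submodule R Ω[R⁄A]) := by
    intro x hx
    rw [← Localization.AtPrime.map_eq_maximalIdeal, Ideal.map, ← Ideal.submodule_span_eq] at hx
    induction hx using Submodule.span_induction with
    | mem x hx =>
      obtain ⟨b, hb, rfl⟩ := hx
      exact Submodule.mem_sup_left (Submodule.subset_span ⟨⟨b, hb⟩, rfl⟩)
    | zero => rw [map_zero]; exact Submodule.zero_mem _
    | add x y _ _ hx hy => rw [map_add]; exact Submodule.add_mem _ hx hy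
    | smul a x hx' hx =>
      rw [smul_eq_mul, Derivation.leibniz]
      refine Submodule.add_mem _ (Submodule.smul_mem _ _ hx) (Submodule.mem_sup_right ?_)
      refine Submodule.smul_mem_smul ?_ Submodule.mem_top
      rw [← Localization.AtPrime.map_eq_maximalIdeal, Ideal.map, ← Ideal.submodule_span_eq]
      exact hx'
  -- step 2: find x ∈ m with 1 ⊗ D x = 1 ⊗ ω
  have hsurj : Function.Surjective (algebraMap R (ResidueField R)) := residue_surjective
  have hex := KaehlerDifferential.exact_kerCotangentToTensor_mapBaseChange A R (ResidueField R) hsurj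
  have h0 : mapBaseChange A R (ResidueField R) ((1 : ResidueField R) ⊗ₜ[R] ω) = 0 :=
    Subsingleton.elim _ _
  obtain ⟨c, hc⟩ := (hex _).mp h0
  obtain ⟨x, rfl⟩ := Ideal.toCotangent_surjective _ c
  rw [kerCotangentToTensor_toCotangent] at hc
  have hxm : (x : R) ∈ maximalIdeal R := by
    have := x.2
    rw [RingHom.mem_ker] at this
    exact (IsLocalRing.residue_eq_zero_iff _).mp this
  have h2 : (1 : ResidueField R) ⊗ₜ[R] (ω - D A R (x : R)) = 0 := by
    rw [TensorProduct.tmul_sub, hc, sub_self]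
  rw [one_tmul_eq_zero_iff] at h2
  have : ω = D A R (x : R) + (ω - D A R (x : R)) := by abel
  rw [this]
  exact Submodule.add_mem _ (h1 _ hxm) (Submodule.mem_sup_right h2)

end

-- ===== part Slice2 =====
section

open KaehlerDifferential IsLocalRing TensorProduct


/-- `A[X_σ]/(X_i : i ∈ σ) ≃ A`. -/
noncomputable def quotXEquiv (A : Type u) [CommRing A] (σ : Type*) :
    (MvPolynomial σ A ⧸ Ideal.span (Set.range (MvPolynomial.X : σ → MvPolynomial σ A))) ≃ₐ[A] A := by
  refine AlgEquiv.ofAlgHom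
    (Ideal.Quotient.liftₐ _ (MvPolynomial.aeval (fun _ : σ => (0 : A))) ?_)
    (Algebra.ofId A _) ?_ ?_
  · intro p hp
    rw [← RingHom.mem_ker]
    revert p
    change Ideal.span _ ≤ RingHom.ker _
    rw [Ideal.span_le]
    rintro _ ⟨i, rfl⟩
    simp
  · ext
  · apply Ideal.Quotient.algHom_ext
    apply MvPolynomial.algHom_ext
    intro i
    simp only [AlgHom.comp_apply, Ideal.Quotient.mkₐ_eq_mk, Ideal.Quotient.liftₐ_apply,
      Ideal.Quotient.lift_mk, AlgHom.id_apply]
    have h1 : (Ideal.Quotient.mk (Ideal.span (Set.range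
        (MvPolynomial.X : σ → MvPolynomial σ A)))) (MvPolynomial.X i) = 0 :=
      Ideal.Quotient.eq_zero_iff_mem.mpr (Ideal.subset_span ⟨i, rfl⟩)
    rw [h1]
    simp

theorem etale_quot_X (A : Type u) [CommRing A] (σ : Type*) :
    Algebra.Etale A
      (MvPolynomial σ A ⧸ Ideal.span (Set.range (MvPolynomial.X : σ → MvPolynomial σ A))) :=
  Algebra.Etale.of_equiv (quotXEquiv A σ).symm

theorem etale_quot_of_etale (A P D : Type u) [CommRing A] [CommRing P] [CommRing D]
    [Algebra A P] [Algebra P D] [Algebra A D] [IsScalarTower A P D] [Algebra.Etale P D]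
    (I : Ideal P) [Algebra.Etale A (P ⧸ I)] :
    Algebra.Etale A (D ⧸ I.map (algebraMap P D)) := by
  let E := Algebra.TensorProduct.quotIdealMapEquivQuotTensor D I
  haveI : Algebra.Etale (P ⧸ I) ((P ⧸ I) ⊗[P] D) := inferInstance
  haveI : Algebra.Etale A ((P ⧸ I) ⊗[P] D) := Algebra.Etale.comp A (P ⧸ I) _
  haveI : IsScalarTower A (P ⧸ I) (D ⧸ I.map (algebraMap P D)) := by
    refine IsScalarTower.of_algebraMap_eq (fun a => ?_)
    rw [IsScalarTower.algebraMap_apply A P (P ⧸ I), IsScalarTower.algebraMap_apply A D (D ⧸ _),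
      IsScalarTower.algebraMap_apply A P D]
    rfl
  exact Algebra.Etale.of_equiv (E.restrictScalars A).symm

end

-- ===== part Slice3 =====
section

open KaehlerDifferential IsLocalRing TensorProduct
open Groth.Agent.Lib.H9EtCoord Groth.Agent.Lib.H9SecChart


theorem ring_main_sep (A B : Type u) [CommRing A] [CommRing B] (φ : A →+* B)
    (hfp : φ.FinitePresentation) (q : Ideal B) [q.IsPrime]
    (hsm : letI := φ.toAlgebra; Algebra.IsSmoothAt A q)
    (hun : letI := φ.toAlgebra
      Algebra.FormallyUnramified A (ResidueField (Localization.AtPrime q))) :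
    ∃ (g : B) (_ : g ∉ q) (m : ℕ) (b : Fin m → B), (∀ j, b j ∈ q) ∧
      ∀ (C : Type u) [CommRing C] (ψ : B →+* C),
        (letI := ψ.toAlgebra; IsLocalization.Away g C) →
        ((Ideal.Quotient.mk (Ideal.span (Set.range (ψ ∘ b)))).comp (ψ.comp φ)).Etale := by
  letI := φ.toAlgebra
  haveI : Algebra.FinitePresentation A B := hfp
  haveI : Algebra.IsSmoothAt A q := hsm
  haveI : Algebra.FormallyUnramified A (ResidueField (Localization.AtPrime q)) := hun
  obtain ⟨hfree, hfin⟩ := free_kaehler A B (q := q)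
  obtain ⟨m, w, hli, hsp⟩ := exists_basis_local (R := Localization.AtPrime q)
    (M := Ω[Localization.AtPrime q⁄A]) (T := q)
    (fun b => D A (Localization.AtPrime q) (algebraMap B (Localization.AtPrime q) b))
    (span_D_of_unramified A B q)
  let b : Fin m → B := fun j => (w j : B)
  have hb : ∀ j, b j ∈ q := fun j => (w j).2
  let φ₀ : MvPolynomial (Fin m) A →ₐ[A] B := MvPolynomial.aeval b
  letI : Algebra (MvPolynomial (Fin m) A) B := φ₀.toRingHom.toAlgebra
  haveI : IsScalarTower A (MvPolynomial (Fin m) A) B :=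
    IsScalarTower.of_algebraMap_eq (fun a => (φ₀.commutes a).symm)
  have hX : ∀ i, algebraMap (MvPolynomial (Fin m) A) B (MvPolynomial.X i) = b i :=
    fun i => MvPolynomial.aeval_X _ i
  haveI : Algebra.IsEtaleAt (MvPolynomial (Fin m) A) q :=
    isEtaleAt_of_basis A B (Fin m) q (by simp only [hX]; exact hli)
      (by simp only [hX]; exact hsp)
  haveI : Algebra.FinitePresentation (MvPolynomial (Fin m) A) B :=
    Algebra.FinitePresentation.of_restrict_scalars_finitePresentation A _ _
  obtain ⟨g, hg, hE⟩ := Algebra.exists_etale_of_isEtaleAt (R := MvPolynomial (Fin m) A) q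
  refine ⟨g, hg, m, b, hb, ?_⟩
  intro C _ ψ hψ
  letI := ψ.toAlgebra
  haveI : IsLocalization.Away g C := hψ
  let e : Localization.Away g ≃ₐ[B] C := IsLocalization.algEquiv (.powers g) _ _
  -- `C` as an étale `P`-algebra
  letI : Algebra (MvPolynomial (Fin m) A) C :=
    (ψ.comp (algebraMap (MvPolynomial (Fin m) A) B)).toAlgebra
  haveI : IsScalarTower (MvPolynomial (Fin m) A) B C := IsScalarTower.of_algebraMap_eq (fun _ => rfl)
  letI : Algebra A C := (ψ.comp φ).toAlgebra
  haveI : IsScalarTower A B C := IsScalarTower.of_algebraMap_eq (fun _ => rfl)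
  haveI : IsScalarTower A (MvPolynomial (Fin m) A) C := by
    refine IsScalarTower.of_algebraMap_eq (fun a => ?_)
    rw [IsScalarTower.algebraMap_apply A B C, IsScalarTower.algebraMap_apply (MvPolynomial (Fin m) A) B C,
      ← IsScalarTower.algebraMap_apply A (MvPolynomial (Fin m) A) B]
  haveI : Algebra.Etale (MvPolynomial (Fin m) A) C :=
    Algebra.Etale.of_equiv (e.restrictScalars (MvPolynomial (Fin m) A))
  haveI := etale_quot_X A (Fin m)
  have hE2 := etale_quot_of_etale A (MvPolynomial (Fin m) A) C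
    (Ideal.span (Set.range (MvPolynomial.X : Fin m → MvPolynomial (Fin m) A)))
  have hJ : (Ideal.span (Set.range (MvPolynomial.X : Fin m → MvPolynomial (Fin m) A))).map
      (algebraMap (MvPolynomial (Fin m) A) C) = Ideal.span (Set.range (ψ ∘ b)) := by
    rw [Ideal.map_span, ← Set.range_comp]
    congr 2
    funext i
    change ψ (algebraMap (MvPolynomial (Fin m) A) B (MvPolynomial.X i)) = ψ (b i)
    rw [hX]
  rw [hJ] at hE2
  exact hE2

end

-- ===== part Slice4 =====
section

open KaehlerDifferential IsLocalRing TensorProduct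


theorem hun_transport (A B Os Ox : Type u) [CommRing A] [CommRing B] [CommRing Os] [CommRing Ox]
    [Algebra A B] [Algebra A Os] [Algebra Os Ox] [Algebra B Ox] [Algebra A Ox]
    [IsScalarTower A B Ox] [IsScalarTower A Os Ox] (q : Ideal B) [q.IsPrime]
    [IsLocalization.AtPrime Ox q] [IsLocalRing Ox] [IsLocalRing Os]
    (p : Ideal A) [p.IsPrime] [IsLocalization.AtPrime Os p]
    (ρ : ResidueField Os →+* ResidueField Ox)
    (hρ : ∀ a, ρ (residue Os a) = residue Ox (algebraMap Os Ox a))
    (hsep : letI := ρ.toAlgebra; Algebra.IsSeparable (ResidueField Os) (ResidueField Ox)) :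
    Algebra.FormallyUnramified A (ResidueField (Localization.AtPrime q)) := by
  letI := ρ.toAlgebra
  haveI : Algebra.IsSeparable (ResidueField Os) (ResidueField Ox) := hsep
  haveI : Algebra.FormallyUnramified (ResidueField Os) (ResidueField Ox) :=
    Algebra.FormallyUnramified.of_isSeparable _ _
  haveI : IsScalarTower Os (ResidueField Os) (ResidueField Ox) :=
    .of_algebraMap_eq (fun a => (hρ a).symm)
  haveI : Algebra.FormallyUnramified Os (ResidueField Os) :=
    .of_surjective (Algebra.ofId _ _) residue_surjective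
  haveI : Algebra.FormallyUnramified Os (ResidueField Ox) := .comp Os (ResidueField Os) _
  haveI : Algebra.FormallyUnramified A Os := .of_isLocalization p.primeCompl
  haveI : Algebra.FormallyUnramified A (ResidueField Ox) := .comp A Os _
  let e : Localization.AtPrime q ≃ₐ[B] Ox := IsLocalization.algEquiv q.primeCompl _ _
  let e' : ResidueField (Localization.AtPrime q) ≃+* ResidueField Ox :=
    ResidueField.mapEquiv e.toRingEquiv
  let e'' : ResidueField Ox ≃ₐ[A] ResidueField (Localization.AtPrime q) :=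
    AlgEquiv.ofRingEquiv (f := e'.symm) (fun a => by
      rw [RingEquiv.symm_apply_eq]
      rw [IsScalarTower.algebraMap_apply A (Localization.AtPrime q)
        (ResidueField (Localization.AtPrime q)), IsScalarTower.algebraMap_apply A Ox (ResidueField Ox)]
      change _ = ResidueField.map _ (residue _ _)
      rw [ResidueField.map_residue]
      congr 1
      rw [IsScalarTower.algebraMap_apply A B Ox, IsScalarTower.algebraMap_apply A B
        (Localization.AtPrime q)]
      exact (e.commutes _).symm)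
  exact Algebra.FormallyUnramified.of_equiv e''

end

-- ===== part Slice5 =====
section

open AlgebraicGeometry CategoryTheory CategoryTheory.Limits IsLocalRing
open Groth.Agent.Lib.H9SecChart

variable {X S : Scheme.{u}}

lemma locallyQuasiFinite_of_etale {Z T : Scheme.{u}} (g : Z ⟶ T) [Etale g] :
    LocallyQuasiFinite g where
  quasiFinite_appLE {U} hU {V} hV e := by
    have h := g.etale_appLE hU hV e
    algebraize [(g.appLE _ _ e).hom]
    exact inferInstanceAs (Algebra.QuasiFinite _ _)

set_option backward.defeqAttrib.useBackward true in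
set_option backward.isDefEq.respectTransparency false in
lemma notMem_primeIdealOf_iff {V : X.Opens} (hV : IsAffineOpen V) (x : X)
    (hx : x ∈ V) (s : Γ(X, V)) :
    s ∉ (hV.primeIdealOf ⟨x, hx⟩).asIdeal ↔ x ∈ X.basicOpen s := by
  rw [← PrimeSpectrum.mem_basicOpen, IsAffineOpen.primeIdealOf,
    ← hV.fromSpec_preimage_basicOpen, Scheme.Hom.mem_preimage, ← Scheme.Hom.comp_apply,
    IsAffineOpen.isoSpec_hom, IsAffineOpen.toSpecΓ_fromSpec]
  rfl



open AlgebraicGeometry CategoryTheory CategoryTheory.Limits IsLocalRing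
open Groth.Agent.Lib.H9SecChart

variable {X S : Scheme.{u}}

theorem main (f : X ⟶ S) [Smooth f] (x : X)
    (hsep : @Algebra.IsSeparable (S.residueField (f x)) (X.residueField x) _ _
      (f.residueFieldMap x).hom.toAlgebra) :
    ∃ (Z : Scheme.{u}) (i : Z ⟶ X) (z : Z), IsImmersion i ∧ Etale (i ≫ f) ∧ i z = x ∧
      ∀ z' : ↑Z, f (i z') = f x → z' = z := by
  obtain ⟨_, ⟨S₀, hS₀, rfl⟩, hsS₀, -⟩ :=
    S.isBasis_affineOpens.exists_subset_of_mem_open (Set.mem_univ (f x)) isOpen_univ
  obtain ⟨_, ⟨X₀, hX₀, rfl⟩, hxX₀, hX₀'⟩ :=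
    X.isBasis_affineOpens.exists_subset_of_mem_open
      (show x ∈ f ⁻¹ᵁ S₀ from hsS₀) (f ⁻¹ᵁ S₀).2
  have hXS : X₀ ≤ f ⁻¹ᵁ S₀ := hX₀'
  have hsmφ := f.smooth_appLE hS₀ hX₀ hXS
  have hfp := hsmφ.finitePresentation
  have hun : letI := (f.appLE S₀ X₀ hXS).hom.toAlgebra
      Algebra.FormallyUnramified Γ(S, S₀)
        (ResidueField (Localization.AtPrime (hX₀.primeIdealOf ⟨x, hxX₀⟩).asIdeal)) := by
    letI := (f.appLE S₀ X₀ hXS).hom.toAlgebra
    letI : Algebra Γ(S, S₀) (S.presheaf.stalk (f x)) :=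
      (S.presheaf.germ S₀ (f x) hsS₀).hom.toAlgebra
    letI : Algebra (S.presheaf.stalk (f x)) (X.presheaf.stalk x) := (f.stalkMap x).hom.toAlgebra
    letI : Algebra Γ(X, X₀) (X.presheaf.stalk x) := (X.presheaf.germ X₀ x hxX₀).hom.toAlgebra
    letI : Algebra Γ(S, S₀) (X.presheaf.stalk x) :=
      ((X.presheaf.germ X₀ x hxX₀).hom.comp (f.appLE S₀ X₀ hXS).hom).toAlgebra
    haveI : IsScalarTower Γ(S, S₀) Γ(X, X₀) (X.presheaf.stalk x) :=
      IsScalarTower.of_algebraMap_eq (fun _ => rfl)
    haveI : IsScalarTower Γ(S, S₀) (S.presheaf.stalk (f x)) (X.presheaf.stalk x) := by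
      refine IsScalarTower.of_algebraMap_eq (fun a => ?_)
      change (X.presheaf.germ X₀ x hxX₀).hom ((f.appLE S₀ X₀ hXS).hom a) =
        (f.stalkMap x).hom ((S.presheaf.germ S₀ (f x) hsS₀).hom a)
      erw [Scheme.Hom.germ_stalkMap_apply f S₀ x hsS₀ a]
      simp only [Scheme.Hom.appLE, CommRingCat.hom_comp, RingHom.comp_apply]
      exact (X.presheaf.germ_res_apply (homOfLE hXS) x hxX₀ _)
    haveI : IsLocalization.AtPrime (X.presheaf.stalk x) (hX₀.primeIdealOf ⟨x, hxX₀⟩).asIdeal :=
      hX₀.isLocalization_stalk ⟨x, hxX₀⟩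
    haveI : IsLocalization.AtPrime (S.presheaf.stalk (f x))
        (hS₀.primeIdealOf ⟨f x, hsS₀⟩).asIdeal :=
      hS₀.isLocalization_stalk ⟨f x, hsS₀⟩
    refine hun_transport Γ(S, S₀) Γ(X, X₀) (S.presheaf.stalk (f x)) (X.presheaf.stalk x)
      (hX₀.primeIdealOf ⟨x, hxX₀⟩).asIdeal (hS₀.primeIdealOf ⟨f x, hsS₀⟩).asIdeal
      (f.residueFieldMap x).hom ?_ hsep
    intro a
    exact congr($(Scheme.residue_residueFieldMap f x).hom a)
  obtain ⟨g, hg, m, b, hb, H⟩ := ring_main_sep Γ(S, S₀) Γ(X, X₀) (f.appLE S₀ X₀ hXS).hom hfp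
    (hX₀.primeIdealOf ⟨x, hxX₀⟩).asIdeal
    (by
      algebraize [(f.appLE S₀ X₀ hXS).hom]
      infer_instance)
    hun
  have hxg : x ∈ X.basicOpen g := (notMem_primeIdealOf_iff hX₀ x hxX₀ g).mp hg
  set U : X.Opens := X.basicOpen g with hUdef
  have hUX₀ : U ≤ X₀ := X.basicOpen_le g
  have hUS₀ : U ≤ f ⁻¹ᵁ S₀ := hUX₀.trans hXS
  have hU : IsAffineOpen U := hX₀.basicOpen g
  set ψ : Γ(X, X₀) →+* Γ(X, U) := (X.presheaf.map (homOfLE hUX₀).op).hom with hψ
  have hloc : (letI := ψ.toAlgebra; IsLocalization.Away g Γ(X, U)) :=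
    hX₀.isLocalization_of_eq_basicOpen g (homOfLE hUX₀) rfl
  have hE := H Γ(X, U) ψ hloc
  set J : Ideal Γ(X, U) := Ideal.span (Set.range (ψ ∘ b)) with hJ
  -- the closed subscheme and its point
  let i₁ : Spec (CommRingCat.of (Γ(X, U) ⧸ J)) ⟶ X :=
    Spec.map (CommRingCat.ofHom (Ideal.Quotient.mk J)) ≫ hU.fromSpec
  haveI : IsOpenImmersion hU.fromSpec := IsAffineOpen.isOpenImmersion_fromSpec hU
  haveI : IsClosedImmersion (Spec.map (CommRingCat.ofHom (Ideal.Quotient.mk J))) :=
    IsClosedImmersion.spec_of_surjective _ Ideal.Quotient.mk_surjective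
  haveI : IsImmersion i₁ := inferInstance
  haveI hEt : Etale (i₁ ≫ f) := by
    have h1 : Spec.map (f.appLE S₀ U hUS₀) ≫ hS₀.fromSpec = hU.fromSpec ≫ f :=
      IsAffineOpen.SpecMap_appLE_fromSpec f hS₀ hU hUS₀
    change Etale ((Spec.map (CommRingCat.ofHom (Ideal.Quotient.mk J)) ≫ hU.fromSpec) ≫ f)
    rw [Category.assoc, ← h1, ← Category.assoc, ← Spec.map_comp]
    have h2 : (f.appLE S₀ U hUS₀ ≫
        CommRingCat.ofHom (Ideal.Quotient.mk J)).hom.Etale := by
      have h3 : f.appLE S₀ U hUS₀ = f.appLE S₀ X₀ hXS ≫ X.presheaf.map (homOfLE hUX₀).op :=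
        (Scheme.Hom.appLE_map f hXS (homOfLE hUX₀).op).symm
      rw [h3]
      exact hE
    haveI : Etale (Spec.map (f.appLE S₀ U hUS₀ ≫
        CommRingCat.ofHom (Ideal.Quotient.mk J))) :=
      (HasRingHomProperty.Spec_iff (P := @Etale)).mpr h2
    haveI : IsOpenImmersion (IsAffineOpen.fromSpec hS₀) := IsAffineOpen.isOpenImmersion_fromSpec hS₀
    infer_instance
  -- the point
  have hJle : J ≤ (hU.primeIdealOf ⟨x, hxg⟩).asIdeal := by
    rw [hJ, Ideal.span_le]
    rintro _ ⟨j, rfl⟩
    by_contra hcon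
    have h1 : x ∈ X.basicOpen (ψ (b j)) := (notMem_primeIdealOf_iff hU x hxg _).mp hcon
    have h2 : x ∈ X.basicOpen (b j) := by
      have := Scheme.basicOpen_res X (b j) (homOfLE hUX₀).op
      rw [hψ] at h1
      erw [this] at h1
      exact h1.2
    exact ((notMem_primeIdealOf_iff hX₀ x hxX₀ (b j)).mpr h2) (hb j)
  obtain ⟨z₁, hz₁⟩ : ∃ z₁ : Spec (CommRingCat.of (Γ(X, U) ⧸ J)),
      Spec.map (CommRingCat.ofHom (Ideal.Quotient.mk J)) z₁ = hU.primeIdealOf ⟨x, hxg⟩ := by
    have hr : hU.primeIdealOf ⟨x, hxg⟩ ∈ Set.range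
        (PrimeSpectrum.comap (Ideal.Quotient.mk J)) := by
      rw [_root_.range_comap_of_surjective _ _ Ideal.Quotient.mk_surjective,
        Ideal.mk_ker]
      exact hJle
    obtain ⟨z₁, hz₁⟩ := hr
    exact ⟨z₁, hz₁⟩
  have hiz₁ : i₁ z₁ = x := by
    change (Spec.map (CommRingCat.ofHom (Ideal.Quotient.mk J)) ≫ hU.fromSpec) z₁ = x
    rw [Scheme.Hom.comp_apply, hz₁]
    exact hU.fromSpec_primeIdealOf ⟨x, hxg⟩
  -- shrink to isolate the point in its fibre
  haveI : LocallyQuasiFinite (i₁ ≫ f) := locallyQuasiFinite_of_etale _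
  have hdisc := (i₁ ≫ f).isDiscrete_preimage_singleton (f x)
  rw [isDiscrete_iff_forall_mem_exists_isOpen] at hdisc
  obtain ⟨O, hO, hOs⟩ := hdisc z₁ (by
    change (i₁ ≫ f) z₁ = f x
    rw [Scheme.Hom.comp_apply, hiz₁])
  let O' : (Spec (CommRingCat.of (Γ(X, U) ⧸ J))).Opens := ⟨O, hO⟩
  have hzO : z₁ ∈ O' := by
    have : z₁ ∈ O ∩ (i₁ ≫ f) ⁻¹' {f x} := by rw [hOs]; rfl
    exact this.1
  let z : (O' : Scheme.{u}) := ⟨z₁, hzO⟩
  have hιz : O'.ι z = z₁ := rfl
  refine ⟨O'.toScheme, O'.ι ≫ i₁, z, inferInstance, ?_, ?_, ?_⟩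
  · rw [Category.assoc]
    infer_instance
  · rw [Scheme.Hom.comp_apply, hιz]
    exact hiz₁
  · intro z' hz'
    have h1 : O'.ι z' ∈ O ∩ (i₁ ≫ f) ⁻¹' {f x} := by
      refine ⟨z'.2, ?_⟩
      change (i₁ ≫ f) (O'.ι z') = f x
      rw [Scheme.Hom.comp_apply]
      rw [Scheme.Hom.comp_apply] at hz'
      exact hz'
    rw [hOs] at h1
    exact Subtype.ext h1

end

end Groth.Agent.Lib.H9Slice
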