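import Mathlib
import Groth.Prelude.Def_AlgSp3
import Groth.Prelude.Def_AlgSp4
import Groth.Agent.Lib.Helper12AffineDescent
import Groth.Agent.Lib.H9Slice

/-!
# Affineness of a morphism of schemes is local for flat open covers of the target (helper5)

`isAffineHom_of_local`: a morphism `f : W ⟶ Z` to a quasi-separated scheme is affine as soon as every
point of `Z` is in the (open) image of a flat morphism `v : V ⟶ Z` from a quasi-compact scheme over
which the base change of `f` is affine.
-/

set_option autoImplicit false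
set_option linter.style.haveILetI false
universe u
open CategoryTheory CategoryTheory.Limits AlgebraicGeometry Topology TopologicalSpace

namespace Groth.Agent.Lib.H5bArtAff

theorem isAffineHom_of_local {W Z : Scheme.{u}} (f : W ⟶ Z) [QuasiSeparatedSpace Z]
    (h : ∀ z : Z, ∃ (V P : Scheme.{u}) (v : V ⟶ Z) (p1 : P ⟶ W) (p2 : P ⟶ V),
      IsPullback p1 p2 f v ∧ Flat v ∧ IsOpenMap v.base ∧ z ∈ Set.range v.base ∧ CompactSpace V ∧
        IsAffineHom p2) :
    IsAffineHom f := by
  choose V P v p1 p2 hsq hfl hop hz hc haff using h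
  let O : Z → Z.Opens := fun z => ⟨Set.range (v z).base, (hop z).isOpen_range⟩
  have hO : ⨆ z, O z = ⊤ :=
    top_le_iff.mp fun z _ => TopologicalSpace.Opens.mem_iSup.mpr ⟨z, hz z⟩
  rw [IsZariskiLocalAtTarget.iff_of_iSup_eq_top (P := @IsAffineHom) O hO]
  intro z
  -- factor `v z` through the open `O z`
  have hrange : Set.range (v z).base ⊆ Set.range (O z).ι.base := by
    rw [Scheme.Opens.range_ι]; exact subset_rfl
  let v' : V z ⟶ (O z : Scheme.{u}) := IsOpenImmersion.lift (O z).ι (v z) hrange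
  have hv' : v' ≫ (O z).ι = v z := IsOpenImmersion.lift_fac _ _ _
  -- `v'` is a base change of `v z`
  have sqv : IsPullback (𝟙 (V z)) v' (v z) (O z).ι := by
    have h1 : IsPullback (𝟙 (V z)) v' v' (𝟙 _) := IsPullback.of_horiz_isIso ⟨by simp⟩
    have h2 : IsPullback (𝟙 (O z : Scheme.{u})) (𝟙 _) (O z).ι (O z).ι :=
      (IsKernelPair.id_of_mono (O z).ι)
    have := h1.paste_vert h2
    simpa [hv'] using this
  haveI : Flat (v z) := hfl z
  haveI : CompactSpace (V z) := hc z
  have hflat : Flat v' := MorphismProperty.of_isPullback (P := @Flat) sqv (hfl z)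
  have hsurj : Surjective v' := by
    constructor
    intro x
    obtain ⟨y, hy⟩ : (O z).ι.base x ∈ Set.range (v z).base := x.2
    refine ⟨y, ?_⟩
    apply (O z).ι.isOpenEmbedding.injective
    rw [← Scheme.Hom.comp_apply, hv']
    exact hy
  haveI : QuasiSeparatedSpace (O z : Scheme.{u}) :=
    quasiSeparatedSpace_of_quasiSeparated (O z).ι
  have hqc : QuasiCompact v' := inferInstance
  -- lift `p1 z` to the preimage of `O z`
  have hrange1 : Set.range (p1 z).base ⊆ Set.range (f ⁻¹ᵁ O z).ι.base := by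
    rw [Scheme.Opens.range_ι]
    rintro _ ⟨x, rfl⟩
    change f.base ((p1 z).base x) ∈ O z
    rw [← Scheme.Hom.comp_apply, (hsq z).w, Scheme.Hom.comp_apply]
    exact ⟨_, rfl⟩
  let p1' : P z ⟶ (f ⁻¹ᵁ O z : Scheme.{u}) := IsOpenImmersion.lift (f ⁻¹ᵁ O z).ι (p1 z) hrange1
  have hp1' : p1' ≫ (f ⁻¹ᵁ O z).ι = p1 z := IsOpenImmersion.lift_fac _ _ _
  have hcomm : p1' ≫ (f ∣_ O z) = p2 z ≫ v' := by
    rw [← cancel_mono (O z).ι, Category.assoc, Category.assoc, hv', morphismRestrict_ι,
      ← Category.assoc, hp1', (hsq z).w]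
  have sq' : IsPullback p1' (p2 z) (f ∣_ O z) v' := by
    refine IsPullback.of_right ?_ hcomm (isPullback_morphismRestrict f (O z)).flip
    rw [hp1', hv']
    exact hsq z
  haveI := Groth.Agent.Lib.Helper12.descendsAlong_isAffineHom.{u}
  exact MorphismProperty.of_isPullback_of_descendsAlong (P := @IsAffineHom)
    (Q := (@Surjective ⊓ @Flat ⊓ @QuasiCompact : MorphismProperty Scheme.{u})) sq'.flip
    ⟨⟨hsurj, hflat⟩, hqc⟩ (haff z)

end Groth.Agent.Lib.H5bArtAff
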