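import Mathlib
import Groth.Prelude.Def_AlgSp
import Groth.Prelude.Def_AlgSp3
import Groth.Agent.S9885
import Groth.Agent.Lib.Helper12OpenSub2

/-!
# Descent of morphisms along an étale atlas (helper5)

* `appTop_injective_of_flat_surjective`: a flat surjective morphism of schemes is injective on
  global functions;
* `exists_hom_appTop`: morphisms to an affine scheme with prescribed map on global functions;
* `epi_of_atlas`, `exists_desc_of_atlas`, `exists_desc_of_atlas'`: an étale surjective chart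
  `h_U ⟶ X` is an effective epimorphism of fppf sheaves.
-/

set_option autoImplicit false
universe u

namespace Groth.Agent.Lib.H5bAtlasDesc

open CategoryTheory CategoryTheory.Limits AlgebraicGeometry AlgSp Opposite

lemma appTop_injective_of_flat_surjective {A B : Scheme.{u}} (g : A ⟶ B) [Flat g] [Surjective g] :
    Function.Injective g.appTop.hom := by
  rw [injective_iff_map_eq_zero]
  intro s hs
  apply TopCat.Presheaf.section_ext B.sheaf ⊤
  intro b hb
  obtain ⟨a, rfl⟩ := g.surjective b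
  have hinj : Function.Injective (g.stalkMap a).hom := by
    have hfl : (g.stalkMap a).hom.Flat := Flat.stalkMap g a
    have hloc : IsLocalHom (g.stalkMap a).hom := inferInstance
    algebraize [(g.stalkMap a).hom]
    have : IsLocalHom (algebraMap (B.presheaf.stalk (g a)) (A.presheaf.stalk a)) := hloc
    have : Module.FaithfullyFlat (B.presheaf.stalk (g a)) (A.presheaf.stalk a) :=
      Module.FaithfullyFlat.of_flat_of_isLocalHom
    exact FaithfulSMul.algebraMap_injective _ _
  apply hinj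
  have h1 := Scheme.Hom.germ_stalkMap_apply g ⊤ a trivial s
  have h0 : (g.app ⊤).hom s = 0 := hs
  have h2 : (g.stalkMap a).hom ((B.presheaf.germ ⊤ (g a) trivial).hom s) = 0 := by
    refine h1.trans ?_
    change (A.presheaf.germ (g ⁻¹ᵁ ⊤) a trivial).hom ((g.app ⊤).hom s) = 0
    rw [h0, map_zero]
  have h3 : (g.stalkMap a).hom ((B.presheaf.germ ⊤ (g a) trivial).hom 0) = 0 := by
    rw [map_zero, map_zero]
  exact h2.trans h3.symm

lemma exists_hom_appTop {Y T₀ : Scheme.{u}} [IsAffine T₀] (ψ : Γ(T₀, ⊤) ⟶ Γ(Y, ⊤)) :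
    ∃ g : Y ⟶ T₀, g.appTop = ψ := by
  refine ⟨Y.toSpecΓ ≫ Spec.map ψ ≫ T₀.isoSpec.inv, ?_⟩
  have h1 : T₀.isoSpec.inv.appTop ≫ (Scheme.ΓSpecIso Γ(T₀, ⊤)).hom = 𝟙 _ := by
    rw [← Scheme.toSpecΓ_appTop, ← Scheme.Hom.comp_appTop]
    have : T₀.toSpecΓ ≫ T₀.isoSpec.inv = 𝟙 _ := T₀.isoSpec.hom_inv_id
    rw [this]
    rfl
  rw [Scheme.Hom.comp_appTop, Scheme.Hom.comp_appTop, Scheme.toSpecΓ_appTop, Category.assoc,
    Scheme.ΓSpecIso_naturality, ← Category.assoc, h1, Category.id_comp]

variable {S : Scheme.{u}}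

/-- an étale surjective chart is an epimorphism of fppf sheaves. -/
theorem epi_of_atlas {X : AlgSp.Sp S} {U : Over S} (p : (yon S).obj U ⟶ X)
    (hpe : RepWith @Etale p) (hps : RepWith @Surjective p) : Epi p := by
  haveI : Sheaf.IsLocallySurjective p :=
    Groth.Agent.S9885.isLocallySurjective_of_repWith p
      (Groth.Agent.Lib.Helper12.OpenSub.repWith_mono
        (fun _ _ g hg => by haveI : Etale g := hg; infer_instance) hpe)
      (Groth.Agent.Lib.Helper12.OpenSub.repWith_mono
        (fun _ _ g hg => by haveI : Etale g := hg; infer_instance) hpe) hps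
  infer_instance

/-- an étale surjective chart is an effective epimorphism of fppf sheaves. -/
theorem exists_desc_of_atlas {X Z : AlgSp.Sp S} {U : Over S} (p : (yon S).obj U ⟶ X)
    (hpe : RepWith @Etale p) (hps : RepWith @Surjective p) (e : (yon S).obj U ⟶ Z)
    (h : ∀ {Q : AlgSp.Sp S} (g₁ g₂ : Q ⟶ (yon S).obj U), g₁ ≫ p = g₂ ≫ p → g₁ ≫ e = g₂ ≫ e) :
    ∃ m : X ⟶ Z, p ≫ m = e := by
  haveI := epi_of_atlas p hpe hps
  haveI := IsRegularEpiCategory.regularEpiOfEpi p
  haveI : EffectiveEpi p := inferInstance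
  exact ⟨EffectiveEpi.desc p e h, EffectiveEpi.fac p e h⟩

/-- descent along an étale surjective chart, with the condition on a represented kernel pair. -/
theorem exists_desc_of_atlas' {X Z : AlgSp.Sp S} {U R : Over S} (p : (yon S).obj U ⟶ X)
    (hpe : RepWith @Etale p) (hps : RepWith @Surjective p) (r₁ r₂ : R ⟶ U)
    (sq : IsPullback ((yon S).map r₁) ((yon S).map r₂) p p) (e : (yon S).obj U ⟶ Z)
    (h : (yon S).map r₁ ≫ e = (yon S).map r₂ ≫ e) : ∃ m : X ⟶ Z, p ≫ m = e := by
  refine exists_desc_of_atlas p hpe hps e ?_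
  intro Q g₁ g₂ hg
  rw [← sq.lift_fst g₁ g₂ hg, Category.assoc, h, ← Category.assoc, sq.lift_snd]

end Groth.Agent.Lib.H5bAtlasDesc
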