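import Mathlib
import Groth.Prelude.Def_W4bk4grassmannianPl

/-!
# Evaluation of signed Plücker coordinates at the minors of a matrix (helper5, second run)

`evalMinors A (coord a) = det (A.submatrix a id)` for every tuple of rows `a`.
-/

set_option autoImplicit false

universe u

noncomputable section

open MvPolynomial W4bk4grassmannian

namespace Groth.Agent.Lib.H5b

variable {K : Type u} [CommRing K] {d n : ℕ}

theorem injective_of_card_image {a : Fin d → Fin n} (h : (Finset.univ.image a).card = d) :
    Function.Injective a := by
  have h' : (Finset.univ.image a).card = (Finset.univ : Finset (Fin d)).card := by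
    rw [h, Finset.card_univ, Fintype.card_fin]
  have hio : Set.InjOn a (↑(Finset.univ : Finset (Fin d))) := Finset.card_image_iff.mp h'
  intro x y hxy
  exact hio (by simp) (by simp) hxy

/-- The permutation sorting an injective tuple. -/
def sortPerm (a : Fin d → Fin n) (h : (Finset.univ.image a).card = d) : Equiv.Perm (Fin d) :=
  Equiv.ofBijective
    (fun k => ((Finset.univ.image a).orderIsoOfFin h).symm
      ⟨a k, Finset.mem_image_of_mem a (Finset.mem_univ k)⟩)
    (by
      have hinj : Function.Injective (fun k => ((Finset.univ.image a).orderIsoOfFin h).symm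
          ⟨a k, Finset.mem_image_of_mem a (Finset.mem_univ k)⟩) := by
        intro k k' hkk'
        have := ((Finset.univ.image a).orderIsoOfFin h).symm.injective hkk'
        exact injective_of_card_image h (Subtype.ext_iff.mp this)
      exact ⟨hinj, Finite.surjective_of_injective hinj⟩)

theorem sortIdx_sortPerm (a : Fin d → Fin n) (h : (Finset.univ.image a).card = d) (k : Fin d) :
    (sortIdx d n a h).1 (sortPerm a h k) = a k := by
  have key : ∀ x : ↥(Finset.univ.image a), ((Finset.univ.image a).orderEmbOfFin h)
      (((Finset.univ.image a).orderIsoOfFin h).symm x) = x := by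
    intro x
    rw [← Finset.coe_orderIsoOfFin_apply, OrderIso.apply_symm_apply]
  exact key ⟨a k, Finset.mem_image_of_mem a (Finset.mem_univ k)⟩

theorem sortPerm_lt_iff (a : Fin d → Fin n) (h : (Finset.univ.image a).card = d) (k l : Fin d) :
    sortPerm a h k < sortPerm a h l ↔ a k < a l := by
  rw [← sortIdx_sortPerm a h k, ← sortIdx_sortPerm a h l]
  exact ((sortIdx d n a h).2.lt_iff_lt).symm

theorem sign_sortPerm (a : Fin d → Fin n) (h : (Finset.univ.image a).card = d) :
    ((Equiv.Perm.sign (sortPerm a h) : ℤ) : K) = (-1 : K) ^ invCount d n a := by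
  classical
  have hinj := injective_of_card_image h
  rw [Equiv.Perm.sign_eq_prod_prod_Iio]
  simp_rw [sortPerm_lt_iff]
  unfold invCount
  have h1 : ∀ j : Fin d, ∏ i ∈ Finset.Iio j, (if a i < a j then (1 : ℤˣ) else -1) =
      ∏ i : Fin d, (if i < j ∧ a j < a i then (-1 : ℤˣ) else 1) := by
    intro j
    rw [← Finset.prod_filter_mul_prod_filter_not Finset.univ (fun i : Fin d => i < j)]
    have e1 : ∏ x ∈ Finset.univ.filter (fun i : Fin d => ¬ i < j),
        (if x < j ∧ a j < a x then (-1 : ℤˣ) else 1) = 1 := by
      refine Finset.prod_eq_one (fun i hi => ?_)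
      rw [if_neg]
      rintro ⟨hij, _⟩
      exact (Finset.mem_filter.mp hi).2 hij
    rw [e1, mul_one]
    have e2 : Finset.univ.filter (fun i : Fin d => i < j) = Finset.Iio j := by
      ext i; simp
    rw [e2]
    refine Finset.prod_congr rfl (fun i hi => ?_)
    have hij : i < j := Finset.mem_Iio.mp hi
    have hne : a i ≠ a j := fun hh => (ne_of_lt hij) (hinj hh)
    by_cases hlt : a i < a j
    · rw [if_pos hlt, if_neg]
      rintro ⟨_, h2⟩
      exact absurd hlt (not_lt.mpr h2.le)
    · rw [if_neg hlt, if_pos]
      exact ⟨hij, lt_of_le_of_ne (not_lt.mp hlt) (Ne.symm hne)⟩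
  simp_rw [h1]
  rw [Finset.prod_comm, ← Finset.prod_product' (s := Finset.univ) (t := Finset.univ)
    (f := fun i j : Fin d => (if i < j ∧ a j < a i then (-1 : ℤˣ) else 1))]
  rw [Finset.univ_product_univ, Finset.prod_ite, Finset.prod_const_one, mul_one, Finset.prod_const]
  push_cast
  rfl

theorem evalMinors_X (A : Matrix (Fin n) (Fin d) K) (θ : Idx d n) :
    evalMinors K d n A (X θ) = (A.submatrix θ.1 id).det := by
  unfold evalMinors
  rw [aeval_X]

/-- The signed Plücker coordinate of a tuple of rows evaluates to the minor on these rows. -/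
theorem evalMinors_coord (A : Matrix (Fin n) (Fin d) K) (a : Fin d → Fin n) :
    evalMinors K d n A (coord K d n a) = (A.submatrix a id).det := by
  classical
  unfold coord
  split_ifs with h
  · rw [map_mul, map_pow, map_neg, map_one, evalMinors_X]
    have hsub : A.submatrix a id = (A.submatrix (sortIdx d n a h).1 id).submatrix (sortPerm a h) id := by
      ext s t
      simp only [Matrix.submatrix_apply, id_eq]
      rw [sortIdx_sortPerm]
    rw [hsub, Matrix.det_permute, sign_sortPerm]
  · rw [map_zero]
    have hninj : ¬ Function.Injective a := by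
      intro hinj
      apply h
      rw [Finset.card_image_of_injective _ hinj, Finset.card_univ, Fintype.card_fin]
    rw [Function.Injective] at hninj
    push Not at hninj
    obtain ⟨s, t, hst, hne⟩ := hninj
    symm
    apply Matrix.det_zero_of_row_eq hne
    ext k
    simp only [Matrix.submatrix_apply, id_eq]
    rw [hst]

end Groth.Agent.Lib.H5b
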