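import Mathlib
import Groth.Prelude.Def_W4bk4grassmannianPl
import Groth.Agent.Lib.Helper24Grass
import Groth.Agent.Lib.H5bCoord
import Groth.Agent.Lib.H5bAdjAlt

/-!
# The shuffle relations vanish at the minors of a matrix (helper5, second run)
-/

set_option autoImplicit false
set_option linter.unusedSectionVars false

noncomputable section

open MvPolynomial W4bk4grassmannian Function

namespace Groth.Agent.Lib.H5b

variable {K : Type*} [CommRing K] {d : ℕ}

theorem card_compl_of_card (r : Fin d) (S : Finset (Fin (d + 1))) (hS : S.card = r.val + 1) :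
    Sᶜ.card = d - r.val := by
  rw [Finset.card_compl, hS, Fintype.card_fin]; omega

/-- Rows of the first determinant of a shuffle term. -/
def leftRows (r : Fin d) (S : Finset (Fin (d + 1))) (hS : S.card = r.val + 1)
    (U : Fin d → (Fin d → K)) (v : Fin (d + 1) → (Fin d → K)) : Fin d → (Fin d → K) :=
  fun t => if h : t.val ≤ r.val then v (S.orderEmbOfFin hS ⟨t.val, by omega⟩) else U t

/-- Rows of the second determinant of a shuffle term. -/
def rightRows (r : Fin d) (S : Finset (Fin (d + 1))) (hS : S.card = r.val + 1)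
    (W : Fin d → (Fin d → K)) (v : Fin (d + 1) → (Fin d → K)) : Fin d → (Fin d → K) :=
  fun t => if h : t.val < r.val then W t
    else v (Sᶜ.orderEmbOfFin (card_compl_of_card r S hS)
      ⟨t.val - r.val, by have := t.isLt; omega⟩)

theorem leftRows_update_of_mem (r : Fin d) (S : Finset (Fin (d + 1))) (hS : S.card = r.val + 1)
    (U : Fin d → (Fin d → K)) (v : Fin (d + 1) → (Fin d → K)) (k : Fin (d + 1)) (hk : k ∈ S) :
    ∃ t0 : Fin d, ∀ x, leftRows r S hS U (update v k x) = update (leftRows r S hS U v) t0 x := by
  have hk' : k ∈ Set.range (S.orderEmbOfFin hS) := by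
    rw [Finset.range_orderEmbOfFin]; exact hk
  obtain ⟨s0, hs0⟩ := hk'
  have hs0lt : s0.val < d := by have := s0.isLt; have := r.isLt; omega
  refine ⟨⟨s0.val, hs0lt⟩, fun x => ?_⟩
  funext t
  unfold leftRows
  by_cases ht : t = ⟨s0.val, hs0lt⟩
  · subst ht
    rw [update_self]
    have h1 : s0.val ≤ r.val := by have := s0.isLt; omega
    rw [dif_pos h1]
    have h2 : (⟨s0.val, by omega⟩ : Fin (r.val + 1)) = s0 := Fin.ext rfl
    rw [h2, hs0, update_self]
  · rw [update_of_ne ht]
    by_cases h : t.val ≤ r.val
    · rw [dif_pos h, dif_pos h, update_of_ne]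
      intro he
      rw [← hs0] at he
      have h3 := (S.orderEmbOfFin hS).injective he
      apply ht
      apply Fin.ext
      have h4 := congrArg Fin.val h3
      simpa using h4
    · rw [dif_neg h, dif_neg h]

theorem leftRows_update_of_not_mem (r : Fin d) (S : Finset (Fin (d + 1)))
    (hS : S.card = r.val + 1)
    (U : Fin d → (Fin d → K)) (v : Fin (d + 1) → (Fin d → K)) (k : Fin (d + 1)) (hk : k ∉ S)
    (x : Fin d → K) :
    leftRows r S hS U (update v k x) = leftRows r S hS U v := by
  funext t
  unfold leftRows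
  by_cases h : t.val ≤ r.val
  · rw [dif_pos h, dif_pos h, update_of_ne]
    intro he
    apply hk
    rw [← he]
    exact Finset.orderEmbOfFin_mem S hS _
  · rw [dif_neg h, dif_neg h]

theorem rightRows_update_of_not_mem (r : Fin d) (S : Finset (Fin (d + 1)))
    (hS : S.card = r.val + 1)
    (W : Fin d → (Fin d → K)) (v : Fin (d + 1) → (Fin d → K)) (k : Fin (d + 1)) (hk : k ∉ S) :
    ∃ t0 : Fin d, ∀ x,
      rightRows r S hS W (update v k x) = update (rightRows r S hS W v) t0 x := by
  have hC := card_compl_of_card r S hS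
  have hk' : k ∈ Set.range (Sᶜ.orderEmbOfFin hC) := by
    rw [Finset.range_orderEmbOfFin]; simpa using hk
  obtain ⟨s0, hs0⟩ := hk'
  have hs0lt : r.val + s0.val < d := by have := s0.isLt; have := r.isLt; omega
  refine ⟨⟨r.val + s0.val, hs0lt⟩, fun x => ?_⟩
  funext t
  unfold rightRows
  by_cases ht : t = ⟨r.val + s0.val, hs0lt⟩
  · subst ht
    rw [update_self]
    have h1 : ¬ (r.val + s0.val < r.val) := by omega
    rw [dif_neg h1]
    have h2 : (⟨r.val + s0.val - r.val, by have := s0.isLt; omega⟩ : Fin (d - r.val)) = s0 :=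
      Fin.ext (by simp)
    rw [h2, hs0, update_self]
  · rw [update_of_ne ht]
    by_cases h : t.val < r.val
    · rw [dif_pos h, dif_pos h]
    · rw [dif_neg h, dif_neg h, update_of_ne]
      intro he
      rw [← hs0] at he
      have h3 := (Sᶜ.orderEmbOfFin hC).injective he
      apply ht
      apply Fin.ext
      have h4 := congrArg Fin.val h3
      simp only at h4
      simp only
      omega

theorem rightRows_update_of_mem (r : Fin d) (S : Finset (Fin (d + 1)))
    (hS : S.card = r.val + 1)
    (W : Fin d → (Fin d → K)) (v : Fin (d + 1) → (Fin d → K)) (k : Fin (d + 1)) (hk : k ∈ S)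
    (x : Fin d → K) :
    rightRows r S hS W (update v k x) = rightRows r S hS W v := by
  funext t
  unfold rightRows
  by_cases h : t.val < r.val
  · rw [dif_pos h, dif_pos h]
  · rw [dif_neg h, dif_neg h, update_of_ne]
    intro he
    have h1 := Finset.orderEmbOfFin_mem Sᶜ (card_compl_of_card r S hS)
      ⟨t.val - r.val, by have := t.isLt; omega⟩
    rw [he, Finset.mem_compl] at h1
    exact h1 hk

/-- One term of the evaluated shuffle relation. -/
def shTerm (r : Fin d) (U W : Fin d → (Fin d → K)) (S : Finset (Fin (d + 1)))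
    (v : Fin (d + 1) → (Fin d → K)) : K :=
  if hS : S.card = r.val + 1 then
    (-1 : K) ^ shuffleSign r S * Matrix.det (leftRows r S hS U v) *
      Matrix.det (rightRows r S hS W v)
  else 0

theorem det_update_add (M : Fin d → (Fin d → K)) (t : Fin d) (x y : Fin d → K) :
    Matrix.det (update M t (x + y)) = Matrix.det (update M t x) + Matrix.det (update M t y) :=
  (Matrix.detRowAlternating : (Fin d → K) [⋀^Fin d]→ₗ[K] K).map_update_add M t x y

theorem det_update_smul (M : Fin d → (Fin d → K)) (t : Fin d) (c : K) (x : Fin d → K) :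
    Matrix.det (update M t (c • x)) = c * Matrix.det (update M t x) :=
  (Matrix.detRowAlternating : (Fin d → K) [⋀^Fin d]→ₗ[K] K).map_update_smul M t c x

theorem shTerm_update_add (r : Fin d) (U W : Fin d → (Fin d → K)) (S : Finset (Fin (d + 1)))
    (v : Fin (d + 1) → (Fin d → K)) (k : Fin (d + 1)) (x y : Fin d → K) :
    shTerm r U W S (update v k (x + y)) =
      shTerm r U W S (update v k x) + shTerm r U W S (update v k y) := by
  unfold shTerm
  by_cases hS : S.card = r.val + 1
  · simp only [dif_pos hS]
    by_cases hk : k ∈ S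
    · obtain ⟨t0, ht0⟩ := leftRows_update_of_mem r S hS U v k hk
      rw [ht0, ht0, ht0, rightRows_update_of_mem r S hS W v k hk,
        rightRows_update_of_mem r S hS W v k hk, rightRows_update_of_mem r S hS W v k hk,
        det_update_add]
      ring
    · obtain ⟨t0, ht0⟩ := rightRows_update_of_not_mem r S hS W v k hk
      rw [ht0, ht0, ht0, leftRows_update_of_not_mem r S hS U v k hk,
        leftRows_update_of_not_mem r S hS U v k hk, leftRows_update_of_not_mem r S hS U v k hk,
        det_update_add]
      ring
  · simp only [dif_neg hS, add_zero]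

theorem shTerm_update_smul (r : Fin d) (U W : Fin d → (Fin d → K)) (S : Finset (Fin (d + 1)))
    (v : Fin (d + 1) → (Fin d → K)) (k : Fin (d + 1)) (c : K) (x : Fin d → K) :
    shTerm r U W S (update v k (c • x)) = c * shTerm r U W S (update v k x) := by
  unfold shTerm
  by_cases hS : S.card = r.val + 1
  · simp only [dif_pos hS]
    by_cases hk : k ∈ S
    · obtain ⟨t0, ht0⟩ := leftRows_update_of_mem r S hS U v k hk
      rw [ht0, ht0, rightRows_update_of_mem r S hS W v k hk,
        rightRows_update_of_mem r S hS W v k hk, det_update_smul]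
      ring
    · obtain ⟨t0, ht0⟩ := rightRows_update_of_not_mem r S hS W v k hk
      rw [ht0, ht0, leftRows_update_of_not_mem r S hS U v k hk,
        leftRows_update_of_not_mem r S hS U v k hk, det_update_smul]
      ring
  · simp only [dif_neg hS, mul_zero]

/-- The evaluated shuffle relation as a multilinear map of the moving rows. -/
def shSum (r : Fin d) (U W : Fin d → (Fin d → K)) :
    MultilinearMap K (fun _ : Fin (d + 1) => (Fin d → K)) K where
  toFun v := ∑ S : Finset (Fin (d + 1)), shTerm r U W S v
  map_update_add' := by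
    intro inst v k x y
    have hi : inst = instDecidableEqFin _ := Subsingleton.elim _ _
    subst hi
    rw [← Finset.sum_add_distrib]
    exact Finset.sum_congr rfl fun S _ => shTerm_update_add r U W S v k x y
  map_update_smul' := by
    intro inst v k c x
    have hi : inst = instDecidableEqFin _ := Subsingleton.elim _ _
    subst hi
    rw [smul_eq_mul, Finset.mul_sum]
    exact Finset.sum_congr rfl fun S _ => shTerm_update_smul r U W S v k c x

theorem shSum_apply (r : Fin d) (U W : Fin d → (Fin d → K)) (v : Fin (d + 1) → (Fin d → K)) :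
    shSum r U W v = ∑ S : Finset (Fin (d + 1)), shTerm r U W S v := rfl

/-! ### The adjacent transposition on subsets -/

/-- value of an adjacent transposition -/
theorem swap_adj_val (p : Fin d) (x : Fin (d + 1)) :
    (Equiv.swap p.castSucc p.succ x).val =
      if x.val = p.val then p.val + 1 else if x.val = p.val + 1 then p.val else x.val := by
  rw [Equiv.swap_apply_def]
  by_cases h1 : x = p.castSucc
  · subst h1
    simp
  · have h1' : x.val ≠ p.val := fun h => h1 (Fin.ext (by simpa using h))
    rw [if_neg h1, if_neg h1']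
    by_cases h2 : x = p.succ
    · subst h2
      simp
    · have h2' : x.val ≠ p.val + 1 := fun h => h2 (Fin.ext (by simpa using h))
      rw [if_neg h2, if_neg h2']

theorem swap_adj_lt (p : Fin d) (a b : Fin (d + 1)) (hab : a < b)
    (hne : ¬ (a = p.castSucc ∧ b = p.succ)) :
    Equiv.swap p.castSucc p.succ a < Equiv.swap p.castSucc p.succ b := by
  have hne' : ¬ (a.val = p.val ∧ b.val = p.val + 1) := by
    rintro ⟨h1, h2⟩
    exact hne ⟨Fin.ext (by simpa using h1), Fin.ext (by simpa using h2)⟩
  rw [Fin.lt_def] at hab ⊢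
  rw [swap_adj_val, swap_adj_val]
  split_ifs <;> omega

/-- the subset obtained by applying the adjacent transposition -/
def swapSet (p : Fin d) (S : Finset (Fin (d + 1))) : Finset (Fin (d + 1)) :=
  S.map (Equiv.swap p.castSucc p.succ).toEmbedding

theorem mem_swapSet (p : Fin d) (S : Finset (Fin (d + 1))) (x : Fin (d + 1)) :
    x ∈ swapSet p S ↔ Equiv.swap p.castSucc p.succ x ∈ S := by
  unfold swapSet
  rw [Finset.mem_map_equiv, Equiv.symm_swap]

theorem card_swapSet (p : Fin d) (S : Finset (Fin (d + 1))) : (swapSet p S).card = S.card :=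
  Finset.card_map _

theorem swapSet_swapSet (p : Fin d) (S : Finset (Fin (d + 1))) : swapSet p (swapSet p S) = S := by
  ext x
  rw [mem_swapSet, mem_swapSet, Equiv.swap_apply_self]

theorem compl_swapSet (p : Fin d) (S : Finset (Fin (d + 1))) :
    (swapSet p S)ᶜ = swapSet p Sᶜ := by
  ext x
  rw [Finset.mem_compl, mem_swapSet, mem_swapSet, Finset.mem_compl]

theorem castSucc_mem_swapSet (p : Fin d) (S : Finset (Fin (d + 1))) :
    p.castSucc ∈ swapSet p S ↔ p.succ ∈ S := by
  rw [mem_swapSet, Equiv.swap_apply_left]

theorem succ_mem_swapSet (p : Fin d) (S : Finset (Fin (d + 1))) :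
    p.succ ∈ swapSet p S ↔ p.castSucc ∈ S := by
  rw [mem_swapSet, Equiv.swap_apply_right]

theorem orderEmbOfFin_swapSet (p : Fin d) (S : Finset (Fin (d + 1))) {k : ℕ} (hS : S.card = k)
    (hS' : (swapSet p S).card = k) (hex : ¬ (p.castSucc ∈ S ∧ p.succ ∈ S)) (t : Fin k) :
    (swapSet p S).orderEmbOfFin hS' t = Equiv.swap p.castSucc p.succ (S.orderEmbOfFin hS t) := by
  have h := Finset.orderEmbOfFin_unique hS'
    (f := fun t => Equiv.swap p.castSucc p.succ (S.orderEmbOfFin hS t)) ?_ ?_
  · exact (congrFun h t).symm
  · intro x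
    rw [mem_swapSet, Equiv.swap_apply_self]
    exact Finset.orderEmbOfFin_mem S hS x
  · intro a b hab
    apply swap_adj_lt p _ _ ((S.orderEmbOfFin hS).strictMono hab)
    rintro ⟨h1, h2⟩
    apply hex
    rw [← h1, ← h2]
    exact ⟨Finset.orderEmbOfFin_mem S hS a, Finset.orderEmbOfFin_mem S hS b⟩

theorem orderEmbOfFin_congr {α : Type*} [LinearOrder α] (T T' : Finset α) (h : T = T') {k : ℕ}
    (hT : T.card = k) (hT' : T'.card = k) (t : Fin k) :
    T.orderEmbOfFin hT t = T'.orderEmbOfFin hT' t := by
  subst h
  rfl

/-- sum of the positions -/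
def posSum (S : Finset (Fin (d + 1))) : ℕ := S.sum fun a => a.val

theorem posSum_ge (S : Finset (Fin (d + 1))) {k : ℕ} (hS : S.card = k) :
    k * (k - 1) / 2 ≤ posSum S := by
  unfold posSum
  rw [← Finset.map_orderEmbOfFin_univ S hS, Finset.sum_map, ← Finset.sum_range_id,
    ← Fin.sum_univ_eq_sum_range (fun i => i) k]
  apply Finset.sum_le_sum
  intro t _
  exact Helper24Grass.val_le_of_strictMono _ (S.orderEmbOfFin hS).strictMono t

theorem posSum_swapSet (p : Fin d) (S : Finset (Fin (d + 1))) (h1 : p.castSucc ∈ S)
    (h2 : p.succ ∉ S) : posSum (swapSet p S) = posSum S + 1 := by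
  unfold posSum swapSet
  rw [Finset.sum_map, ← Finset.add_sum_erase S _ h1, ← Finset.add_sum_erase S (fun a => a.val) h1]
  simp only [Equiv.coe_toEmbedding, Equiv.swap_apply_left, Fin.val_succ, Fin.val_castSucc]
  have : ∑ x ∈ S.erase p.castSucc, (Equiv.swap p.castSucc p.succ x).val
      = ∑ x ∈ S.erase p.castSucc, x.val := by
    apply Finset.sum_congr rfl
    intro x hx
    rw [Finset.mem_erase] at hx
    rw [Equiv.swap_apply_of_ne_of_ne hx.1]
    rintro rfl
    exact h2 hx.2
  rw [this]
  omega

theorem shuffleSign_swapSet (r : Fin d) (p : Fin d) (S : Finset (Fin (d + 1)))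
    (hS : S.card = r.val + 1) (hex : ¬ (p.castSucc ∈ S ↔ p.succ ∈ S)) :
    (-1 : K) ^ shuffleSign r (swapSet p S) = - (-1 : K) ^ shuffleSign r S := by
  have hS' : (swapSet p S).card = r.val + 1 := by rw [card_swapSet, hS]
  have b1 := posSum_ge S hS
  have b2 := posSum_ge (swapSet p S) hS'
  have e : (r.val + 1) * (r.val + 1 - 1) / 2 = r.val * (r.val + 1) / 2 := by
    rw [Nat.add_sub_cancel, mul_comm]
  rw [e] at b1 b2
  unfold shuffleSign
  change (-1 : K) ^ (posSum (swapSet p S) - r.val * (r.val + 1) / 2) =
    - (-1 : K) ^ (posSum S - r.val * (r.val + 1) / 2)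
  by_cases h1 : p.castSucc ∈ S
  · have h2 : p.succ ∉ S := fun h2 => hex ⟨fun _ => h2, fun _ => h1⟩
    have h3 := posSum_swapSet p S h1 h2
    have h4 : posSum (swapSet p S) - r.val * (r.val + 1) / 2
        = (posSum S - r.val * (r.val + 1) / 2) + 1 := by omega
    rw [h4, pow_succ]
    ring
  · have h2 : p.succ ∈ S := by
      by_contra h2
      exact hex ⟨fun h => absurd h h1, fun h => absurd h h2⟩
    have h3 := posSum_swapSet p (swapSet p S) ((castSucc_mem_swapSet p S).mpr h2)
      (fun h => h1 ((succ_mem_swapSet p S).mp h))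
    rw [swapSet_swapSet] at h3
    have h4 : posSum S - r.val * (r.val + 1) / 2
        = (posSum (swapSet p S) - r.val * (r.val + 1) / 2) + 1 := by omega
    rw [h4, pow_succ]
    ring

/-! ### Vanishing on adjacent equal arguments -/

theorem leftRows_apply_of_orderEmb (r : Fin d) (S : Finset (Fin (d + 1)))
    (hS : S.card = r.val + 1) (U : Fin d → (Fin d → K)) (v : Fin (d + 1) → (Fin d → K))
    (s : Fin (r.val + 1)) :
    leftRows r S hS U v ⟨s.val, by have := s.isLt; have := r.isLt; omega⟩
      = v (S.orderEmbOfFin hS s) := by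
  unfold leftRows
  have h1 : s.val ≤ r.val := by have := s.isLt; omega
  rw [dif_pos h1]

theorem rightRows_apply_of_orderEmb (r : Fin d) (S : Finset (Fin (d + 1)))
    (hS : S.card = r.val + 1) (W : Fin d → (Fin d → K)) (v : Fin (d + 1) → (Fin d → K))
    (s : Fin (d - r.val)) :
    rightRows r S hS W v ⟨r.val + s.val, by have := s.isLt; have := r.isLt; omega⟩
      = v (Sᶜ.orderEmbOfFin (card_compl_of_card r S hS) s) := by
  unfold rightRows
  have h1 : ¬ (r.val + s.val < r.val) := by omega
  rw [dif_neg h1]
  congr 2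
  apply Fin.ext
  simp

theorem shTerm_eq_zero_of_both (r p : Fin d) (U W : Fin d → (Fin d → K))
    (S : Finset (Fin (d + 1))) (v : Fin (d + 1) → (Fin d → K))
    (hv : v p.castSucc = v p.succ) (hb : p.castSucc ∈ S ↔ p.succ ∈ S) :
    shTerm r U W S v = 0 := by
  unfold shTerm
  by_cases hS : S.card = r.val + 1
  · rw [dif_pos hS]
    have hne : p.castSucc ≠ p.succ := (Fin.castSucc_lt_succ).ne
    by_cases h1 : p.castSucc ∈ S
    · have h2 : p.succ ∈ S := hb.mp h1
      have h1' : p.castSucc ∈ Set.range (S.orderEmbOfFin hS) := by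
        rw [Finset.range_orderEmbOfFin]; exact h1
      have h2' : p.succ ∈ Set.range (S.orderEmbOfFin hS) := by
        rw [Finset.range_orderEmbOfFin]; exact h2
      obtain ⟨s1, hs1⟩ := h1'
      obtain ⟨s2, hs2⟩ := h2'
      have hs12 : s1.val ≠ s2.val := by
        intro h
        apply hne
        rw [← hs1, ← hs2, Fin.ext h]
      have hdet : Matrix.det (leftRows r S hS U v) = 0 := by
        apply Matrix.det_zero_of_row_eq
          (i := ⟨s1.val, by have := s1.isLt; have := r.isLt; omega⟩)
          (j := ⟨s2.val, by have := s2.isLt; have := r.isLt; omega⟩)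
        · intro h
          exact hs12 (Fin.mk.inj_iff.mp h)
        · rw [leftRows_apply_of_orderEmb, leftRows_apply_of_orderEmb, hs1, hs2, hv]
      rw [hdet, mul_zero, zero_mul]
    · have h2 : p.succ ∉ S := fun h => h1 (hb.mpr h)
      have hC := card_compl_of_card r S hS
      have h1' : p.castSucc ∈ Set.range (Sᶜ.orderEmbOfFin hC) := by
        rw [Finset.range_orderEmbOfFin]; simpa using h1
      have h2' : p.succ ∈ Set.range (Sᶜ.orderEmbOfFin hC) := by
        rw [Finset.range_orderEmbOfFin]; simpa using h2
      obtain ⟨s1, hs1⟩ := h1'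
      obtain ⟨s2, hs2⟩ := h2'
      have hs12 : s1.val ≠ s2.val := by
        intro h
        apply hne
        rw [← hs1, ← hs2, Fin.ext h]
      have hdet : Matrix.det (rightRows r S hS W v) = 0 := by
        apply Matrix.det_zero_of_row_eq
          (i := ⟨r.val + s1.val, by have := s1.isLt; have := r.isLt; omega⟩)
          (j := ⟨r.val + s2.val, by have := s2.isLt; have := r.isLt; omega⟩)
        · intro h
          have := congrArg Fin.val h
          simp only at this
          omega
        · rw [rightRows_apply_of_orderEmb, rightRows_apply_of_orderEmb, hs1, hs2, hv]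
      rw [hdet, mul_zero]
  · rw [dif_neg hS]

theorem shTerm_swapSet (r p : Fin d) (U W : Fin d → (Fin d → K))
    (S : Finset (Fin (d + 1))) (v : Fin (d + 1) → (Fin d → K))
    (hv : v p.castSucc = v p.succ) (hS : S.card = r.val + 1)
    (hex : ¬ (p.castSucc ∈ S ↔ p.succ ∈ S)) :
    shTerm r U W (swapSet p S) v = - shTerm r U W S v := by
  have hS' : (swapSet p S).card = r.val + 1 := by rw [card_swapSet, hS]
  have hvs : ∀ x, v (Equiv.swap p.castSucc p.succ x) = v x := by
    intro x
    rw [Equiv.swap_apply_def]
    split_ifs with h1 h2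
    · rw [h1, hv]
    · rw [h2, hv]
    · rfl
  unfold shTerm
  rw [dif_pos hS, dif_pos hS', shuffleSign_swapSet r p S hS hex]
  have hl : leftRows r (swapSet p S) hS' U v = leftRows r S hS U v := by
    funext t
    unfold leftRows
    by_cases h : t.val ≤ r.val
    · rw [dif_pos h, dif_pos h, orderEmbOfFin_swapSet p S hS hS' (fun hh => hex ⟨fun _ => hh.2,
        fun _ => hh.1⟩), hvs]
    · rw [dif_neg h, dif_neg h]
  have hr : rightRows r (swapSet p S) hS' W v = rightRows r S hS W v := by
    funext t
    unfold rightRows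
    by_cases h : t.val < r.val
    · rw [dif_pos h, dif_pos h]
    · rw [dif_neg h, dif_neg h]
      have hC := card_compl_of_card r S hS
      have hC' : (swapSet p Sᶜ).card = d - r.val := by rw [card_swapSet, hC]
      rw [orderEmbOfFin_congr _ _ (compl_swapSet p S) _ hC',
        orderEmbOfFin_swapSet p Sᶜ hC hC' (fun hh => hex ⟨fun h1 =>
          absurd h1 (Finset.mem_compl.mp hh.1), fun h2 => absurd h2 (Finset.mem_compl.mp hh.2)⟩),
        hvs]
  rw [hl, hr]
  ring

theorem shSum_eq_zero_of_adjacent (r : Fin d) (U W : Fin d → (Fin d → K))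
    (v : Fin (d + 1) → (Fin d → K)) (p : Fin d) (hv : v p.castSucc = v p.succ) :
    shSum r U W v = 0 := by
  rw [shSum_apply]
  apply Finset.sum_ninvolution (swapSet p)
  · intro S
    by_cases hb : p.castSucc ∈ S ↔ p.succ ∈ S
    · have hb' : p.castSucc ∈ swapSet p S ↔ p.succ ∈ swapSet p S := by
        rw [castSucc_mem_swapSet, succ_mem_swapSet]
        exact hb.symm
      rw [shTerm_eq_zero_of_both r p U W S v hv hb,
        shTerm_eq_zero_of_both r p U W (swapSet p S) v hv hb', add_zero]
    · by_cases hS : S.card = r.val + 1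
      · rw [shTerm_swapSet r p U W S v hv hS hb, add_neg_cancel]
      · have hS' : ¬ (swapSet p S).card = r.val + 1 := by rw [card_swapSet]; exact hS
        unfold shTerm
        rw [dif_neg hS, dif_neg hS', add_zero]
  · intro S hne hSS
    apply hne
    apply shTerm_eq_zero_of_both r p U W S v hv
    have h := castSucc_mem_swapSet p S
    rw [hSS] at h
    exact h
  · intro S
    exact Finset.mem_univ _
  · intro S
    exact swapSet_swapSet p S

/-- The evaluated shuffle relation vanishes identically over a field. -/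
theorem shSum_eq_zero {F : Type*} [Field F] (r : Fin d) (U W : Fin d → (Fin d → F))
    (v : Fin (d + 1) → (Fin d → F)) : shSum r U W v = 0 :=
  map_eq_zero_of_adjacent_of_card (shSum r U W)
    (fun v p hv => shSum_eq_zero_of_adjacent r U W v p hv) v

/-! ### The shuffle relations vanish at the minors of any matrix over a field -/

theorem evalMinors_shuffleTerm {n : ℕ} (A : Matrix (Fin n) (Fin d) K) (i j : Idx d n) (r : Fin d)
    (S : Finset (Fin (d + 1))) :
    evalMinors K d n A (shuffleTerm K i j r S) =
      shTerm r (fun t => A (i.1 t)) (fun t => A (j.1 t)) S (fun k => A (movingRows i j r k)) := by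
  unfold shuffleTerm shTerm
  by_cases hS : S.card = r.val + 1
  · rw [dif_pos hS, dif_pos hS, map_mul, map_mul, map_pow, map_neg, map_one, evalMinors_coord,
      evalMinors_coord]
    congr 2
    · congr 1
      funext t c
      rw [Matrix.submatrix_apply, id_eq]
      unfold leftRows shuffleI
      by_cases h : t.val ≤ r.val
      · simp only [dif_pos h]
      · simp only [dif_neg h]
    · funext t c
      rw [Matrix.submatrix_apply, id_eq]
      unfold rightRows shuffleJ
      by_cases h : t.val < r.val
      · simp only [dif_pos h]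
      · simp only [dif_neg h]
  · rw [dif_neg hS, dif_neg hS, map_zero]

theorem evalMinors_shuffleRel_eq {n : ℕ} (A : Matrix (Fin n) (Fin d) K) (i j : Idx d n)
    (r : Fin d) :
    evalMinors K d n A (shuffleRel K i j r) =
      shSum r (fun t => A (i.1 t)) (fun t => A (j.1 t)) (fun k => A (movingRows i j r k)) := by
  unfold shuffleRel
  rw [map_sum, shSum_apply]
  exact Finset.sum_congr rfl fun S _ => evalMinors_shuffleTerm A i j r S

/-- **Plücker relations**: every shuffle relation vanishes at the minors of any matrix. -/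
theorem evalMinors_shuffleRel {F : Type*} [Field F] {n : ℕ} (A : Matrix (Fin n) (Fin d) F)
    (i j : Idx d n) (r : Fin d) : evalMinors F d n A (shuffleRel F i j r) = 0 := by
  rw [evalMinors_shuffleRel_eq, shSum_eq_zero]

end Groth.Agent.Lib.H5b
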