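import Mathlib

/-!
# Leading monomials with respect to a weight (helper5, second run)

`LeadsWith w p s`: the monomial `s` occurs in `p` with coefficient one and every other monomial
of `p` has strictly smaller `w`-weight.  Products of such polynomials lead with the sum of the
monomials, and a family of polynomials with pairwise distinct leading monomials is linearly
independent.
-/

set_option autoImplicit false

namespace Groth.Agent.Lib.H5b

open MvPolynomial

variable {σ : Type*} {K : Type*} [CommRing K]

/-- `p` has the monomial `s` with coefficient one, and all other monomials of `p` have strictly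
smaller weight. -/
def LeadsWith (w : σ → ℕ) (p : MvPolynomial σ K) (s : σ →₀ ℕ) : Prop :=
  coeff s p = 1 ∧ ∀ t ∈ p.support, t ≠ s → Finsupp.weight w t < Finsupp.weight w s

theorem LeadsWith.weight_le {w : σ → ℕ} {p : MvPolynomial σ K} {s : σ →₀ ℕ}
    (h : LeadsWith w p s) {t : σ →₀ ℕ} (ht : t ∈ p.support) :
    Finsupp.weight w t ≤ Finsupp.weight w s := by
  by_cases hts : t = s
  · rw [hts]
  · exact (h.2 t ht hts).le

theorem leadsWith_one (w : σ → ℕ) : LeadsWith w (1 : MvPolynomial σ K) 0 := by
  classical
  refine ⟨by simp, ?_⟩
  intro t ht hts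
  exfalso
  rw [mem_support_iff, coeff_one] at ht
  exact ht (if_neg (Ne.symm hts))

theorem LeadsWith.mul {w : σ → ℕ} {p q : MvPolynomial σ K} {s t : σ →₀ ℕ}
    (hp : LeadsWith w p s) (hq : LeadsWith w q t) : LeadsWith w (p * q) (s + t) := by
  classical
  constructor
  · rw [coeff_mul]
    rw [Finset.sum_eq_single (s, t)]
    · simp [hp.1, hq.1]
    · rintro ⟨a, b⟩ hab hne
      rw [Finset.HasAntidiagonal.mem_antidiagonal] at hab
      simp only at hab
      by_contra hcon
      have ha : a ∈ p.support := by
        rw [mem_support_iff]; intro h0; exact hcon (by rw [h0, zero_mul])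
      have hb : b ∈ q.support := by
        rw [mem_support_iff]; intro h0; exact hcon (by rw [h0, mul_zero])
      have hwa := hp.weight_le ha
      have hwb := hq.weight_le hb
      have hsum : Finsupp.weight w a + Finsupp.weight w b =
          Finsupp.weight w s + Finsupp.weight w t := by
        rw [← map_add, ← map_add, hab]
      by_cases has : a = s
      · subst has
        have : b = t := add_left_cancel hab
        subst this
        exact hne rfl
      · have := hp.2 a ha has
        omega
    · intro h
      exfalso
      exact h (Finset.HasAntidiagonal.mem_antidiagonal.mpr rfl)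
  · intro u hu hus
    have hu' := support_mul p q hu
    rw [Finset.mem_add] at hu'
    obtain ⟨a, ha, b, hb, rfl⟩ := hu'
    rw [map_add, map_add]
    have hwa := hp.weight_le ha
    have hwb := hq.weight_le hb
    by_cases has : a = s
    · subst has
      have hbt : b ≠ t := by
        rintro rfl; exact hus rfl
      have := hq.2 b hb hbt
      omega
    · have := hp.2 a ha has
      omega

theorem LeadsWith.prod {w : σ → ℕ} {ι : Type*} (T : Finset ι) (p : ι → MvPolynomial σ K)
    (s : ι → σ →₀ ℕ) (h : ∀ i ∈ T, LeadsWith w (p i) (s i)) :
    LeadsWith w (∏ i ∈ T, p i) (∑ i ∈ T, s i) := by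
  classical
  induction T using Finset.induction_on with
  | empty => simpa using leadsWith_one (K := K) w
  | insert a T ha ih =>
    rw [Finset.prod_insert ha, Finset.sum_insert ha]
    exact (h a (Finset.mem_insert_self a T)).mul
      (ih (fun i hi => h i (Finset.mem_insert_of_mem hi)))

/-- A family of polynomials with pairwise distinct leading monomials is linearly independent. -/
theorem linearIndependent_of_leadsWith [Nontrivial K] {w : σ → ℕ} {ι : Type*}
    (G : ι → MvPolynomial σ K) (μ : ι → σ →₀ ℕ) (hμ : Function.Injective μ)
    (h : ∀ i, LeadsWith w (G i) (μ i)) : LinearIndependent K G := by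
  classical
  rw [linearIndependent_iff']
  intro T c hc
  by_contra hne
  push Not at hne
  obtain ⟨i1, hi1T, hi1⟩ := hne
  -- the indices with nonzero coefficient
  let T' := T.filter (fun i => c i ≠ 0)
  have hT' : T'.Nonempty := ⟨i1, Finset.mem_filter.mpr ⟨hi1T, hi1⟩⟩
  obtain ⟨i0, hi0, hmax⟩ := Finset.exists_max_image T' (fun i => Finsupp.weight w (μ i)) hT'
  have hi0T : i0 ∈ T := (Finset.mem_filter.mp hi0).1
  have hci0 : c i0 ≠ 0 := (Finset.mem_filter.mp hi0).2
  have hcoeff := congrArg (coeff (μ i0)) hc
  rw [coeff_sum, coeff_zero] at hcoeff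
  rw [Finset.sum_eq_single i0] at hcoeff
  · rw [coeff_smul, (h i0).1, smul_eq_mul, mul_one] at hcoeff
    exact hci0 hcoeff
  · intro i hiT hii0
    rw [coeff_smul, smul_eq_mul]
    by_cases hci : c i = 0
    · rw [hci, zero_mul]
    · have hiT' : i ∈ T' := Finset.mem_filter.mpr ⟨hiT, hci⟩
      have hle := hmax i hiT'
      have hcz : coeff (μ i0) (G i) = 0 := by
        by_contra hcon
        have hmem : μ i0 ∈ (G i).support := mem_support_iff.mpr hcon
        have hne' : μ i0 ≠ μ i := fun hh => hii0 (hμ hh).symm
        have := (h i).2 (μ i0) hmem hne'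
        omega
      rw [hcz, mul_zero]
  · intro hh; exact absurd hi0T hh

end Groth.Agent.Lib.H5b
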