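import Mathlib
import Groth.Prelude.Def_W4bk4grassmannianPl
import Groth.Agent.Lib.H5bLead

/-!
# Linear independence of standard monomials on Schubert varieties (helper5, second run)

For `τ ∈ I(d,n)` let `shapeMat τ` be the `n × d` matrix whose `(i,k)` entry is the variable
`x_{ik}` when `i ≤ τ_k` and zero otherwise.  Its minors on rows `φ ≰ τ` vanish, so a polynomial in
the Plücker coordinates vanishing on the Schubert variety `X(τ)` is killed by substituting the
minors of `shapeMat τ` (over an infinite field).  The minor on rows `θ ≤ τ` has the diagonal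
monomial `∏_k x_{θ_k,k}` as its unique term of largest weight `∑ i·k`, and the products of these
monomials along antitone chains are pairwise distinct.  Hence standard monomials on `X(τ)` are
linearly independent modulo the vanishing ideal.
-/

set_option autoImplicit false

universe u

noncomputable section

open MvPolynomial W4bk4grassmannian

namespace Groth.Agent.Lib.H5b

section ZeroBlock

variable {R : Type*} [CommRing R] {d n : ℕ}

theorem Idx.le_iff (φ τ : Idx d n) : φ ≤ τ ↔ ∀ t, φ.1 t ≤ τ.1 t := Iff.rfl

/-- A matrix of shape `τ` has vanishing minors on all rows `φ ≰ τ`. -/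
theorem det_submatrix_eq_zero_of_shape (τ : Idx d n) (A : Matrix (Fin n) (Fin d) R)
    (hA : ∀ i k, τ.1 k < i → A i k = 0) (φ : Idx d n) (hφ : ¬ φ ≤ τ) :
    (A.submatrix φ.1 id).det = 0 := by
  classical
  rw [Idx.le_iff] at hφ
  push Not at hφ
  obtain ⟨t, ht⟩ := hφ
  rw [Matrix.det_apply]
  refine Finset.sum_eq_zero (fun σ _ => ?_)
  -- some column `k ≤ t` is sent to a row `σ k ≥ t`
  have hex : ∃ k : Fin d, k ≤ t ∧ t ≤ σ k := by
    by_contra hcon
    push Not at hcon
    have hsub : (Finset.Iic t).image σ ⊆ Finset.Iio t := by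
      intro s hs
      rw [Finset.mem_image] at hs
      obtain ⟨k, hk, rfl⟩ := hs
      rw [Finset.mem_Iio]
      exact hcon k (Finset.mem_Iic.mp hk)
    have hcard := Finset.card_le_card hsub
    rw [Finset.card_image_of_injective _ σ.injective, Fin.card_Iic, Fin.card_Iio] at hcard
    omega
  obtain ⟨k, hk1, hk2⟩ := hex
  have hz : A.submatrix φ.1 id (σ k) k = 0 := by
    rw [Matrix.submatrix_apply]
    apply hA
    calc τ.1 k ≤ τ.1 t := τ.2.monotone hk1
      _ < φ.1 t := ht
      _ ≤ φ.1 (σ k) := φ.2.monotone hk2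
  have hprod : ∏ i, A.submatrix φ.1 id (σ i) i = 0 :=
    Finset.prod_eq_zero (f := fun i => A.submatrix φ.1 id (σ i) i) (Finset.mem_univ k) hz
  rw [hprod, smul_zero]

end ZeroBlock

variable (K : Type u) [Field K] {d n : ℕ}

/-- The generic matrix of shape `τ`: the `(i,k)` entry is the variable `x_{ik}` when `i ≤ τ_k` and
zero otherwise. -/
def shapeMat (τ : Idx d n) : Matrix (Fin n) (Fin d) (MatRing K d n) :=
  Matrix.of fun i k => if i ≤ τ.1 k then (X (i, k) : MatRing K d n) else 0

/-- Substituting the minors of the generic matrix of shape `τ` for the Plücker coordinates. -/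
def shapeMap (τ : Idx d n) : PlRing K d n →ₐ[K] MatRing K d n :=
  MvPolynomial.aeval fun θ : Idx d n => ((shapeMat K τ).submatrix θ.1 id).det

theorem shapeMap_X (τ θ : Idx d n) :
    shapeMap K τ (X θ) = ((shapeMat K τ).submatrix θ.1 id).det := by
  unfold shapeMap
  rw [aeval_X]

/-- The point of shape `τ` attached to an assignment of the variables. -/
def shapePt (τ : Idx d n) (x : Fin n × Fin d → K) : Matrix (Fin n) (Fin d) K :=
  Matrix.of fun i k => if i ≤ τ.1 k then x (i, k) else 0

theorem eval_shapeMap (τ : Idx d n) (x : Fin n × Fin d → K) (f : PlRing K d n) :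
    MvPolynomial.eval x (shapeMap K τ f) = evalMinors K d n (shapePt K τ x) f := by
  have h : ((MvPolynomial.aeval x : MatRing K d n →ₐ[K] K).comp (shapeMap K τ)) =
      evalMinors K d n (shapePt K τ x) := by
    apply MvPolynomial.algHom_ext
    intro θ
    rw [AlgHom.comp_apply, shapeMap_X]
    unfold evalMinors
    rw [aeval_X]
    rw [← AlgHom.coe_toRingHom, RingHom.map_det]
    congr 1
    ext s k
    simp only [RingHom.mapMatrix_apply, Matrix.map_apply, Matrix.submatrix_apply, id_eq,
      shapeMat, shapePt, Matrix.of_apply]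
    split_ifs <;> simp
  have := congrArg (fun g => g f) h
  simpa [MvPolynomial.coe_aeval_eq_eval] using this

theorem shapeMap_eq_zero_of_mem [Infinite K] (τ : Idx d n) (f : PlRing K d n)
    (hf : f ∈ schubertVanishing K d n τ) : shapeMap K τ f = 0 := by
  apply MvPolynomial.funext
  intro x
  rw [eval_shapeMap, map_zero]
  unfold schubertVanishing at hf
  rw [Ideal.mem_iInf] at hf
  have h1 := hf (shapePt K τ x)
  rw [Ideal.mem_iInf] at h1
  have h2 := h1 (fun φ hφ => det_submatrix_eq_zero_of_shape τ (shapePt K τ x)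
    (fun i k hik => by
      simp only [shapePt, Matrix.of_apply]
      rw [if_neg (not_le.mpr hik)]) φ hφ)
  rw [RingHom.mem_ker] at h2
  exact h2

/-- The weight of the variable `x_{ik}`. -/
def wgt : Fin n × Fin d → ℕ := fun p => p.1.val * p.2.val

/-- The exponent of the term of the minor on rows `θ` attached to the permutation `σ`. -/
def permMono (θ : Idx d n) (σ : Equiv.Perm (Fin d)) : (Fin n × Fin d) →₀ ℕ :=
  ∑ k : Fin d, Finsupp.single (θ.1 (σ k), k) 1

/-- The exponent of the diagonal monomial `∏_k x_{θ_k,k}`. -/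
def diagMono (θ : Idx d n) : (Fin n × Fin d) →₀ ℕ :=
  ∑ k : Fin d, Finsupp.single (θ.1 k, k) 1

theorem permMono_one (θ : Idx d n) : permMono θ 1 = diagMono θ := rfl

theorem weight_permMono (θ : Idx d n) (σ : Equiv.Perm (Fin d)) :
    Finsupp.weight (wgt (d := d) (n := n)) (permMono θ σ) = ∑ k : Fin d, (θ.1 (σ k)).val * k.val := by
  unfold permMono
  rw [map_sum]
  refine Finset.sum_congr rfl (fun k _ => ?_)
  rw [Finsupp.weight_single]
  simp [wgt]

theorem weight_diagMono (θ : Idx d n) :
    Finsupp.weight (wgt (d := d) (n := n)) (diagMono θ) = ∑ k : Fin d, (θ.1 k).val * k.val := by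
  rw [← permMono_one, weight_permMono]
  rfl

theorem perm_eq_one_of_strictMono (σ : Equiv.Perm (Fin d)) (h : StrictMono σ) : σ = 1 := by
  have h2 : StrictMono (σ⁻¹ : Equiv.Perm (Fin d)) := by
    intro a b hab
    by_contra hcon
    rw [not_lt] at hcon
    have := h.monotone hcon
    simp only [Equiv.Perm.inv_def, Equiv.apply_symm_apply] at this
    exact absurd hab (not_lt.mpr this)
  ext k
  have h3 : k ≤ σ k := h.le_apply
  have h4 : σ k ≤ σ⁻¹ (σ k) := h2.le_apply
  simp only [Equiv.Perm.inv_def, Equiv.symm_apply_apply] at h4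
  simp only [Equiv.Perm.coe_one, id_eq]
  exact congrArg Fin.val (le_antisymm h4 h3)

theorem weight_permMono_lt (θ : Idx d n) (σ : Equiv.Perm (Fin d)) (hσ : σ ≠ 1) :
    Finsupp.weight (wgt (d := d) (n := n)) (permMono θ σ) <
      Finsupp.weight (wgt (d := d) (n := n)) (diagMono θ) := by
  rw [weight_permMono, weight_diagMono]
  have hmono : Monovary (fun k : Fin d => (θ.1 k).val) (fun k : Fin d => k.val) := by
    intro i j hij
    exact (θ.2.monotone (le_of_lt (Fin.lt_def.mpr hij)))
  have := (Monovary.sum_comp_perm_mul_lt_sum_mul_iff (σ := σ) hmono).mpr ?_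
  · exact this
  · intro hcon
    apply hσ
    apply perm_eq_one_of_strictMono
    intro a b hab
    have h1 : (θ.1 (σ a)).val ≤ (θ.1 (σ b)).val := hcon (Fin.lt_def.mp hab)
    have h2 : σ a ≤ σ b := θ.2.le_iff_le.mp (Fin.le_def.mpr h1)
    exact lt_of_le_of_ne h2 (fun h => (ne_of_lt hab) (σ.injective h))

theorem prod_submatrix_shapeMat (τ θ : Idx d n) (σ : Equiv.Perm (Fin d)) :
    ∏ k : Fin d, ((shapeMat K τ).submatrix θ.1 id) (σ k) k =
      monomial (permMono θ σ) (∏ k : Fin d, (if θ.1 (σ k) ≤ τ.1 k then (1 : K) else 0)) := by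
  unfold permMono
  rw [monomial_sum_prod]
  refine Finset.prod_congr rfl (fun k _ => ?_)
  simp only [shapeMat, Matrix.submatrix_apply, Matrix.of_apply, id_eq]
  split_ifs
  · rfl
  · simp

theorem det_submatrix_shapeMat (τ θ : Idx d n) :
    ((shapeMat K τ).submatrix θ.1 id).det =
      ∑ σ : Equiv.Perm (Fin d), Equiv.Perm.sign σ •
        monomial (permMono θ σ) (∏ k : Fin d, (if θ.1 (σ k) ≤ τ.1 k then (1 : K) else 0)) := by
  rw [Matrix.det_apply]
  refine Finset.sum_congr rfl (fun σ _ => ?_)
  rw [prod_submatrix_shapeMat]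

theorem leadsWith_shapeMap_X (τ θ : Idx d n) (h : θ ≤ τ) :
    LeadsWith (wgt (d := d) (n := n)) (shapeMap K τ (X θ)) (diagMono θ) := by
  classical
  rw [shapeMap_X, det_submatrix_shapeMat]
  constructor
  · rw [coeff_sum, Finset.sum_eq_single (1 : Equiv.Perm (Fin d))]
    · rw [Equiv.Perm.sign_one, one_smul, permMono_one, coeff_monomial, if_pos rfl]
      refine Finset.prod_eq_one (fun k _ => ?_)
      rw [if_pos]
      exact h k
    · intro σ _ hσ
      rw [Units.smul_def, coeff_smul, coeff_monomial, if_neg, smul_zero]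
      intro heq
      have := weight_permMono_lt θ σ hσ
      rw [heq] at this
      exact lt_irrefl _ this
    · intro hh; exact absurd (Finset.mem_univ _) hh
  · intro t ht hne
    rw [mem_support_iff, coeff_sum] at ht
    obtain ⟨σ, -, hσ⟩ := Finset.exists_ne_zero_of_sum_ne_zero ht
    rw [Units.smul_def, coeff_smul, coeff_monomial] at hσ
    have hts : permMono θ σ = t := by
      by_contra hcon
      rw [if_neg hcon, smul_zero] at hσ
      exact hσ rfl
    have hσ1 : σ ≠ 1 := by
      rintro rfl
      exact hne hts.symm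
    rw [← hts]
    exact weight_permMono_lt θ σ hσ1

/-! ### Antitone sequences are determined by their fibre cardinalities -/

section Fibres

variable {m N : ℕ}

/-- A lower set of `Fin m` consists of the elements below its cardinality. -/
theorem mem_iff_val_lt_card_of_lower (S : Finset (Fin m))
    (hS : ∀ j ∈ S, ∀ j' : Fin m, j' ≤ j → j' ∈ S) (j : Fin m) : j ∈ S ↔ j.val < S.card := by
  constructor
  · intro hj
    have hsub : Finset.Iic j ⊆ S := fun j' hj' => hS j hj j' (Finset.mem_Iic.mp hj')
    have := Finset.card_le_card hsub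
    rw [Fin.card_Iic] at this
    omega
  · intro hj
    by_contra hcon
    have hsub : S ⊆ Finset.Iio j := by
      intro j' hj'
      rw [Finset.mem_Iio]
      by_contra hlt
      exact hcon (hS j' hj' j (not_lt.mp hlt))
    have := Finset.card_le_card hsub
    rw [Fin.card_Iio] at this
    omega

theorem lt_apply_iff_of_antitone (f : Fin m → Fin N) (hf : Antitone f) (i : Fin N) (j : Fin m) :
    i < f j ↔ j.val < ∑ i' ∈ Finset.Ioi i, (Finset.univ.filter (fun j' => f j' = i')).card := by
  classical
  have h1 := mem_iff_val_lt_card_of_lower (Finset.univ.filter (fun j' => i < f j'))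
    (fun j hj j' hj' => by
      rw [Finset.mem_filter] at hj ⊢
      exact ⟨Finset.mem_univ _, lt_of_lt_of_le hj.2 (hf hj')⟩) j
  have h2 : (Finset.univ.filter (fun j' => i < f j')).card =
      ∑ i' ∈ Finset.Ioi i, (Finset.univ.filter (fun j' => f j' = i')).card := by
    rw [Finset.card_eq_sum_card_fiberwise (f := f) (t := Finset.Ioi i)]
    · refine Finset.sum_congr rfl (fun i' hi' => ?_)
      congr 1
      ext j'
      simp only [Finset.mem_filter, Finset.mem_univ, true_and]
      constructor
      · rintro ⟨_, h⟩; exact h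
      · intro h; exact ⟨by rw [h]; exact Finset.mem_Ioi.mp hi', h⟩
    · intro j' hj'
      simp only [Finset.coe_filter, Finset.mem_univ, true_and, Set.mem_ofPred_eq] at hj'
      simpa using hj'
  rw [← h2, ← h1]
  simp

/-- Two antitone maps `Fin m → Fin N` with the same fibre cardinalities are equal. -/
theorem eq_of_antitone_of_card_fibre_eq (f g : Fin m → Fin N) (hf : Antitone f) (hg : Antitone g)
    (h : ∀ i : Fin N, (Finset.univ.filter (fun j => f j = i)).card =
      (Finset.univ.filter (fun j => g j = i)).card) : f = g := by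
  funext j
  apply eq_of_forall_lt_iff
  intro i
  rw [lt_apply_iff_of_antitone f hf, lt_apply_iff_of_antitone g hg]
  simp_rw [h]

end Fibres

/-! ### The exponent of a chain -/

/-- The exponent of the product of the diagonal monomials along a tuple of indices. -/
def chainExp {m : ℕ} (c : Fin m → Idx d n) : (Fin n × Fin d) →₀ ℕ := ∑ j : Fin m, diagMono (c j)

theorem chainExp_apply {m : ℕ} (c : Fin m → Idx d n) (i : Fin n) (k : Fin d) :
    chainExp c (i, k) = (Finset.univ.filter (fun j : Fin m => (c j).1 k = i)).card := by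
  classical
  unfold chainExp diagMono
  rw [Finsupp.finsetSum_apply, Finset.card_filter]
  refine Finset.sum_congr rfl (fun j _ => ?_)
  rw [Finsupp.finsetSum_apply]
  simp only [Finsupp.single_apply, Prod.mk.injEq]
  rw [Finset.sum_eq_single k]
  · simp
  · intro k' _ hk'
    rw [if_neg]
    rintro ⟨_, h⟩
    exact hk' h
  · intro hh; exact absurd (Finset.mem_univ _) hh

theorem sum_chainExp {m : ℕ} (c : Fin m → Idx d n) (k : Fin d) :
    ∑ i : Fin n, chainExp c (i, k) = m := by
  classical
  simp_rw [chainExp_apply]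
  have := Finset.card_eq_sum_card_fiberwise (s := (Finset.univ : Finset (Fin m)))
    (t := (Finset.univ : Finset (Fin n))) (f := fun j => (c j).1 k)
    (fun _ _ => Finset.mem_coe.mpr (Finset.mem_univ _))
  rw [Finset.card_univ, Fintype.card_fin] at this
  exact this.symm

/-- The type of antitone chains (standard monomials). -/
abbrev Chain (d n : ℕ) : Type := Σ m : ℕ, {c : Fin m → Idx d n // Antitone c}

theorem chainExp_injective (hd : 0 < d) :
    Function.Injective (fun c : Chain d n => chainExp c.2.1) := by
  rintro ⟨m, c, hc⟩ ⟨m', c', hc'⟩ h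
  simp only at h
  have hm : m = m' := by
    rw [← sum_chainExp c ⟨0, hd⟩, ← sum_chainExp c' ⟨0, hd⟩, h]
  subst hm
  have : c = c' := by
    funext j
    apply Subtype.ext
    funext k
    have hf : Antitone (fun j => (c j).1 k) := fun a b hab => hc hab k
    have hg : Antitone (fun j => (c' j).1 k) := fun a b hab => hc' hab k
    have := eq_of_antitone_of_card_fibre_eq _ _ hf hg (fun i => by
      rw [← chainExp_apply, ← chainExp_apply, h])
    exact congrFun this j
  subst this
  rfl

theorem shapeMap_chainMon {m : ℕ} (τ : Idx d n) (c : Fin m → Idx d n) :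
    shapeMap K τ (chainMon K c) = ∏ j : Fin m, shapeMap K τ (X (c j)) := by
  unfold chainMon
  rw [map_prod]

theorem leadsWith_shapeMap_chainMon {m : ℕ} (τ : Idx d n) (c : Fin m → Idx d n)
    (hc : ∀ j, c j ≤ τ) :
    LeadsWith (wgt (d := d) (n := n)) (shapeMap K τ (chainMon K c)) (chainExp c) := by
  rw [shapeMap_chainMon]
  exact LeadsWith.prod _ _ _ (fun j _ => leadsWith_shapeMap_X K τ (c j) (hc j))

theorem shapeMap_chainMon_eq_zero {m : ℕ} (τ : Idx d n) (c : Fin m → Idx d n)
    (hc : ¬ ∀ j, c j ≤ τ) : shapeMap K τ (chainMon K c) = 0 := by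
  push Not at hc
  obtain ⟨j, hj⟩ := hc
  rw [shapeMap_chainMon]
  apply Finset.prod_eq_zero (Finset.mem_univ j)
  rw [shapeMap_X]
  apply det_submatrix_eq_zero_of_shape τ (shapeMat K τ) _ (c j) hj
  intro i k hik
  simp only [shapeMat, Matrix.of_apply]
  rw [if_neg (not_le.mpr hik)]

/-- The images under `shapeMap τ` of the standard monomials below `τ` are linearly independent. -/
theorem linearIndependent_shapeMap (hd : 0 < d) (τ : Idx d n) :
    LinearIndependent K (fun c : {c : Chain d n // ∀ j, c.2.1 j ≤ τ} =>
      shapeMap K τ (chainMon K c.1.2.1)) := by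
  apply linearIndependent_of_leadsWith (w := wgt (d := d) (n := n)) _
    (fun c : {c : Chain d n // ∀ j, c.2.1 j ≤ τ} => chainExp c.1.2.1)
  · intro a b hab
    exact Subtype.ext (chainExp_injective hd hab)
  · intro c
    exact leadsWith_shapeMap_chainMon K τ c.1.2.1 c.2

/-- If a linear combination of standard monomials vanishes on the Schubert variety `X(τ)`, then the
coefficients of the standard monomials below `τ` are zero. -/
theorem coeff_eq_zero_of_mem_schubertVanishing [Infinite K] (hd : 0 < d) (τ : Idx d n)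
    (l : Chain d n →₀ K)
    (h : Finsupp.linearCombination K (fun c : Chain d n => chainMon K c.2.1) l ∈
      schubertVanishing K d n τ) (c : Chain d n) (hc : ∀ j, c.2.1 j ≤ τ) : l c = 0 := by
  classical
  have h0 := shapeMap_eq_zero_of_mem K τ _ h
  rw [Finsupp.linearCombination_apply, Finsupp.sum, map_sum] at h0
  simp_rw [map_smul] at h0
  -- split off the chains below `τ`
  rw [← Finset.sum_filter_add_sum_filter_not l.support (fun c : Chain d n => ∀ j, c.2.1 j ≤ τ)] at h0
  have hz : ∑ x ∈ l.support.filter (fun c : Chain d n => ¬ ∀ j, c.2.1 j ≤ τ),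
      l x • shapeMap K τ (chainMon K x.2.1) = 0 := by
    refine Finset.sum_eq_zero (fun x hx => ?_)
    rw [shapeMap_chainMon_eq_zero K τ x.2.1 (Finset.mem_filter.mp hx).2, smul_zero]
  rw [hz, add_zero] at h0
  have hli := linearIndependent_shapeMap K hd τ
  rw [linearIndependent_iff'] at hli
  by_contra hne
  have hmem : c ∈ l.support.filter (fun c : Chain d n => ∀ j, c.2.1 j ≤ τ) :=
    Finset.mem_filter.mpr ⟨Finsupp.mem_support_iff.mpr hne, hc⟩
  have := hli ((l.support.filter (fun c : Chain d n => ∀ j, c.2.1 j ≤ τ)).subtype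
    (fun c : Chain d n => ∀ j, c.2.1 j ≤ τ)) (fun c => l c.1) (by
      rw [Finset.sum_subtype_of_mem (f := fun x : Chain d n => l x • shapeMap K τ (chainMon K x.2.1))]
      · exact h0
      · intro x hx; exact (Finset.mem_filter.mp hx).2) ⟨c, hc⟩ (by
      rw [Finset.mem_subtype]; exact hmem)
  exact hne this

end Groth.Agent.Lib.H5b
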