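import Mathlib
import Groth.Prelude.Def_W4bk4grassmannianPl
import Groth.Agent.Lib.Helper24Grass
import Groth.Agent.Lib.H5bStdIndep
import Groth.Agent.Lib.H5bPlucker

/-!
# The homogeneous ideal of a Schubert variety (helper5, second run)

`plIdeal τ = schubertVanishing τ` over an infinite field, from the Plücker relations
(`H5bPlucker`), the straightening law (`Helper24Grass`) and the linear independence of standard
monomials on `X(τ)` (`H5bStdIndep`).
-/

set_option autoImplicit false
set_option linter.unusedSectionVars false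

universe u

noncomputable section

open MvPolynomial W4bk4grassmannian

namespace Groth.Agent.Lib.H5b

variable (K : Type u) [Field K] {d n : ℕ}

/-- the linear combination of standard monomials attached to a finitely supported family -/
def stdComb (l : Chain d n →₀ K) : PlRing K d n :=
  Finsupp.linearCombination K (fun c : Chain d n => chainMon K c.2.1) l

theorem stdComb_add (l₁ l₂ : Chain d n →₀ K) :
    stdComb K (l₁ + l₂) = stdComb K l₁ + stdComb K l₂ := by
  unfold stdComb
  rw [map_add]

theorem plIdealTop_le_plIdeal (τ : Idx d n) : plIdealTop (d := d) (n := n) K ≤ plIdeal K τ := by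
  unfold plIdealTop plIdeal
  exact Ideal.span_mono Set.subset_union_left

theorem X_mem_plIdeal (τ φ : Idx d n) (h : ¬ φ ≤ τ) : (X φ : PlRing K d n) ∈ plIdeal K τ :=
  Ideal.subset_span (Or.inr ⟨φ, h, rfl⟩)

theorem plIdeal_le_schubertVanishing (τ : Idx d n) :
    plIdeal K τ ≤ schubertVanishing K d n τ := by
  unfold plIdeal
  rw [Ideal.span_le]
  intro f hf
  unfold schubertVanishing
  simp only [Submodule.coe_iInf, Set.mem_iInter, SetLike.mem_coe, RingHom.mem_ker]
  intro A hA
  rcases hf with ⟨i, j, r, -, rfl⟩ | ⟨φ, hφ, rfl⟩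
  · exact evalMinors_shuffleRel A i j r
  · change evalMinors K d n A (X φ) = 0
    rw [evalMinors_X]
    exact hA φ hφ

theorem schubertVanishing_mono {τ φ : Idx d n} (h : φ ≤ τ) :
    schubertVanishing K d n τ ≤ schubertVanishing K d n φ := by
  intro f hf
  unfold schubertVanishing at hf ⊢
  simp only [Submodule.mem_iInf] at hf ⊢
  intro A hA
  exact hf A (fun ψ hψ => hA ψ (fun hψ' => hψ (le_trans hψ' h)))

theorem chainMon_mem_plIdeal {m : ℕ} (τ : Idx d n) (c : Fin m → Idx d n) (k : Fin m)
    (h : ¬ c k ≤ τ) : chainMon K c ∈ plIdeal K τ := by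
  unfold chainMon
  obtain ⟨q, hq⟩ := Finset.dvd_prod_of_mem (fun k => (X (c k) : PlRing K d n))
    (Finset.mem_univ k)
  rw [hq]
  exact Ideal.mul_mem_right _ _ (X_mem_plIdeal K τ (c k) h)

/-- straightening: every polynomial is a combination of standard monomials modulo the shuffle
relations -/
theorem exists_stdComb (f : PlRing K d n) :
    ∃ l : Chain d n →₀ K, f - stdComb K l ∈ plIdealTop (d := d) (n := n) K := by
  have h : Ideal.Quotient.mk (plIdealTop (d := d) (n := n) K) f ∈ Helper24Grass.Std K d n := by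
    rw [Helper24Grass.std_eq_top]; trivial
  unfold Helper24Grass.Std at h
  rw [Finsupp.mem_span_range_iff_exists_finsupp] at h
  obtain ⟨l, hl⟩ := h
  refine ⟨l, ?_⟩
  rw [← Ideal.Quotient.eq, ← hl]
  unfold stdComb
  rw [Finsupp.linearCombination_apply, Finsupp.sum, Finsupp.sum, map_sum]
  apply Finset.sum_congr rfl
  intro c _
  exact map_smul (Ideal.Quotient.mkₐ K (plIdealTop (d := d) (n := n) K)) (l c) _

/-- the part of a combination supported on the chains satisfying `P` -/
theorem stdComb_filter_mem (I : Ideal (PlRing K d n)) (P : Chain d n → Prop) [DecidablePred P]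
    (hP : ∀ c, P c → chainMon K c.2.1 ∈ I) (l : Chain d n →₀ K) :
    stdComb K (l.filter P) ∈ I := by
  unfold stdComb
  rw [Finsupp.linearCombination_apply, Finsupp.sum]
  apply Ideal.sum_mem
  intro c hc
  rw [Finsupp.support_filter, Finset.mem_filter] at hc
  rw [Algebra.smul_def]
  exact Ideal.mul_mem_left _ _ (hP c hc.2)

variable [Infinite K]

theorem filter_eq_zero_of_mem (hd : 0 < d) (τ : Idx d n) (l : Chain d n →₀ K)
    (P : Chain d n → Prop) [DecidablePred P] (hP : ∀ c, P c → ∀ j, c.2.1 j ≤ τ)
    (h : stdComb K (l.filter P) ∈ schubertVanishing K d n τ) : l.filter P = 0 := by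
  ext c
  rw [Finsupp.coe_zero, Pi.zero_apply]
  by_cases hc : P c
  · exact coeff_eq_zero_of_mem_schubertVanishing K hd τ _ h c (hP c hc)
  · exact Finsupp.filter_apply_neg P l hc

theorem schubertVanishing_le_plIdeal (hd : 0 < d) (τ : Idx d n) :
    schubertVanishing K d n τ ≤ plIdeal K τ := by
  classical
  intro f hf
  obtain ⟨l, hl⟩ := exists_stdComb K f
  have hl' : f - stdComb K l ∈ plIdeal K τ := plIdealTop_le_plIdeal K τ hl
  have hsplit : stdComb K l = stdComb K (l.filter (fun c : Chain d n => ∀ j, c.2.1 j ≤ τ)) +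
      stdComb K (l.filter (fun c : Chain d n => ¬ ∀ j, c.2.1 j ≤ τ)) := by
    rw [← stdComb_add, Finsupp.filter_add_filter_not]
  have h2 : stdComb K (l.filter (fun c : Chain d n => ¬ ∀ j, c.2.1 j ≤ τ)) ∈ plIdeal K τ := by
    apply stdComb_filter_mem
    intro c hc
    push Not at hc
    obtain ⟨j, hj⟩ := hc
    exact chainMon_mem_plIdeal K τ c.2.1 j hj
  have h1 : stdComb K (l.filter (fun c : Chain d n => ∀ j, c.2.1 j ≤ τ)) ∈
      schubertVanishing K d n τ := by
    have e : stdComb K (l.filter (fun c : Chain d n => ∀ j, c.2.1 j ≤ τ)) =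
        f - (f - stdComb K l) -
          stdComb K (l.filter (fun c : Chain d n => ¬ ∀ j, c.2.1 j ≤ τ)) := by
      rw [hsplit]
      ring
    rw [e]
    exact Ideal.sub_mem _ (Ideal.sub_mem _ hf (plIdeal_le_schubertVanishing K τ hl'))
      (plIdeal_le_schubertVanishing K τ h2)
  have h0 := filter_eq_zero_of_mem K hd τ l _ (fun c hc => hc) h1
  have e : f = (f - stdComb K l) +
      stdComb K (l.filter (fun c : Chain d n => ¬ ∀ j, c.2.1 j ≤ τ)) := by
    have e0 : stdComb K (0 : Chain d n →₀ K) = 0 := by
      unfold stdComb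
      rw [map_zero]
    rw [hsplit, h0, e0, zero_add]
    ring
  rw [e]
  exact Ideal.add_mem _ hl' h2

/-- **The shuffle relations and the vanishing coordinates generate the ideal of `X(τ)`.** -/
theorem plIdeal_eq_schubertVanishing (hd : 0 < d) (τ : Idx d n) :
    plIdeal K τ = schubertVanishing K d n τ :=
  le_antisymm (plIdeal_le_schubertVanishing K τ) (schubertVanishing_le_plIdeal K hd τ)

end Groth.Agent.Lib.H5b
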