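import Mathlib
import Groth.Prelude.Def_W4bk4grassmannianPl
import Groth.Agent.Lib.H5bStdIndep
import Groth.Agent.Lib.H5bSchubert

/-!
# Standard monomials on Richardson varieties (helper5, second run)

For `σ, τ ∈ I(d,n)` let `richMat σ τ` be the `n × d` matrix whose `(i,k)` entry is the variable
`x_{ik}` when `σ_k ≤ i ≤ τ_k` and zero otherwise.  Its minors on rows `θ` vanish unless
`σ ≤ θ ≤ τ`, and the minors with `σ ≤ θ ≤ τ` have the diagonal monomial as unique term of largest
weight.  Consequently the kernel of the substitution `richMap σ τ` is the ideal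
`J(τ) + (X_θ : θ ≱ σ)`, which is therefore prime.
-/

set_option autoImplicit false
set_option linter.unusedSectionVars false

universe u

noncomputable section

open MvPolynomial W4bk4grassmannian

namespace Groth.Agent.Lib.H5b

section ZeroBlockLower

variable {R : Type*} [CommRing R] {d n : ℕ}

/-- A matrix with zeros above the staircase `σ` has vanishing minors on all rows `φ ≱ σ`. -/
theorem det_submatrix_eq_zero_of_lower (σ : Idx d n) (A : Matrix (Fin n) (Fin d) R)
    (hA : ∀ i k, i < σ.1 k → A i k = 0) (φ : Idx d n) (hφ : ¬ σ ≤ φ) :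
    (A.submatrix φ.1 id).det = 0 := by
  classical
  rw [Idx.le_iff] at hφ
  push Not at hφ
  obtain ⟨t, ht⟩ := hφ
  rw [Matrix.det_apply]
  refine Finset.sum_eq_zero (fun π _ => ?_)
  -- some column `k ≥ t` is sent to a row `π k ≤ t`
  have hex : ∃ k : Fin d, t ≤ k ∧ π k ≤ t := by
    by_contra hcon
    push Not at hcon
    have hsub : (Finset.Ici t).image π ⊆ Finset.Ioi t := by
      intro s hs
      rw [Finset.mem_image] at hs
      obtain ⟨k, hk, rfl⟩ := hs
      rw [Finset.mem_Ioi]
      exact hcon k (Finset.mem_Ici.mp hk)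
    have hcard := Finset.card_le_card hsub
    rw [Finset.card_image_of_injective _ π.injective, Fin.card_Ici, Fin.card_Ioi] at hcard
    have := t.isLt
    omega
  obtain ⟨k, hk1, hk2⟩ := hex
  have hz : A.submatrix φ.1 id (π k) k = 0 := by
    rw [Matrix.submatrix_apply]
    apply hA
    calc φ.1 (π k) ≤ φ.1 t := φ.2.monotone hk2
      _ < σ.1 t := ht
      _ ≤ σ.1 k := σ.2.monotone hk1
  have hprod : ∏ i, A.submatrix φ.1 id (π i) i = 0 :=
    Finset.prod_eq_zero (f := fun i => A.submatrix φ.1 id (π i) i) (Finset.mem_univ k) hz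
  rw [hprod, smul_zero]

end ZeroBlockLower

variable (K : Type u) [Field K] {d n : ℕ}

/-- The generic matrix of skew shape `[σ, τ]`. -/
def richMat (σ τ : Idx d n) : Matrix (Fin n) (Fin d) (MatRing K d n) :=
  Matrix.of fun i k => if σ.1 k ≤ i ∧ i ≤ τ.1 k then (X (i, k) : MatRing K d n) else 0

/-- Substituting the minors of the generic matrix of skew shape `[σ, τ]`. -/
def richMap (σ τ : Idx d n) : PlRing K d n →ₐ[K] MatRing K d n :=
  MvPolynomial.aeval fun θ : Idx d n => ((richMat K σ τ).submatrix θ.1 id).det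

theorem richMap_X (σ τ θ : Idx d n) :
    richMap K σ τ (X θ) = ((richMat K σ τ).submatrix θ.1 id).det := by
  unfold richMap
  rw [aeval_X]

/-- The point of skew shape `[σ, τ]` attached to an assignment of the variables. -/
def richPt (σ τ : Idx d n) (x : Fin n × Fin d → K) : Matrix (Fin n) (Fin d) K :=
  Matrix.of fun i k => if σ.1 k ≤ i ∧ i ≤ τ.1 k then x (i, k) else 0

theorem eval_richMap (σ τ : Idx d n) (x : Fin n × Fin d → K) (f : PlRing K d n) :
    MvPolynomial.eval x (richMap K σ τ f) = evalMinors K d n (richPt K σ τ x) f := by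
  have h : ((MvPolynomial.aeval x : MatRing K d n →ₐ[K] K).comp (richMap K σ τ)) =
      evalMinors K d n (richPt K σ τ x) := by
    apply MvPolynomial.algHom_ext
    intro θ
    rw [AlgHom.comp_apply, richMap_X]
    unfold evalMinors
    rw [aeval_X]
    rw [← AlgHom.coe_toRingHom, RingHom.map_det]
    congr 1
    ext s k
    simp only [RingHom.mapMatrix_apply, Matrix.map_apply, Matrix.submatrix_apply, id_eq,
      richMat, richPt, Matrix.of_apply]
    split_ifs <;> simp
  have := congrArg (fun g => g f) h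
  simpa [MvPolynomial.coe_aeval_eq_eval] using this

theorem richMap_eq_zero_of_mem [Infinite K] (σ τ : Idx d n) (f : PlRing K d n)
    (hf : f ∈ schubertVanishing K d n τ) : richMap K σ τ f = 0 := by
  apply MvPolynomial.funext
  intro x
  rw [eval_richMap, map_zero]
  unfold schubertVanishing at hf
  rw [Ideal.mem_iInf] at hf
  have h1 := hf (richPt K σ τ x)
  rw [Ideal.mem_iInf] at h1
  have h2 := h1 (fun φ hφ => det_submatrix_eq_zero_of_shape τ (richPt K σ τ x)
    (fun i k hik => by
      simp only [richPt, Matrix.of_apply]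
      rw [if_neg (fun h => absurd h.2 (not_le.mpr hik))]) φ hφ)
  rw [RingHom.mem_ker] at h2
  exact h2

theorem richMap_X_eq_zero_of_not_le (σ τ θ : Idx d n) (h : ¬ θ ≤ τ) :
    richMap K σ τ (X θ) = 0 := by
  rw [richMap_X]
  apply det_submatrix_eq_zero_of_shape τ (richMat K σ τ) _ θ h
  intro i k hik
  simp only [richMat, Matrix.of_apply]
  rw [if_neg (fun h => absurd h.2 (not_le.mpr hik))]

theorem richMap_X_eq_zero_of_not_ge (σ τ θ : Idx d n) (h : ¬ σ ≤ θ) :
    richMap K σ τ (X θ) = 0 := by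
  rw [richMap_X]
  apply det_submatrix_eq_zero_of_lower σ (richMat K σ τ) _ θ h
  intro i k hik
  simp only [richMat, Matrix.of_apply]
  rw [if_neg (fun h => absurd h.1 (not_le.mpr hik))]

theorem prod_submatrix_richMat (σ τ θ : Idx d n) (π : Equiv.Perm (Fin d)) :
    ∏ k : Fin d, ((richMat K σ τ).submatrix θ.1 id) (π k) k =
      monomial (permMono θ π)
        (∏ k : Fin d, (if σ.1 k ≤ θ.1 (π k) ∧ θ.1 (π k) ≤ τ.1 k then (1 : K) else 0)) := by
  unfold permMono
  rw [monomial_sum_prod]
  refine Finset.prod_congr rfl (fun k _ => ?_)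
  simp only [richMat, Matrix.submatrix_apply, Matrix.of_apply, id_eq]
  split_ifs
  · rfl
  · simp

theorem det_submatrix_richMat (σ τ θ : Idx d n) :
    ((richMat K σ τ).submatrix θ.1 id).det =
      ∑ π : Equiv.Perm (Fin d), Equiv.Perm.sign π •
        monomial (permMono θ π)
          (∏ k : Fin d, (if σ.1 k ≤ θ.1 (π k) ∧ θ.1 (π k) ≤ τ.1 k then (1 : K) else 0)) := by
  rw [Matrix.det_apply]
  refine Finset.sum_congr rfl (fun π _ => ?_)
  rw [prod_submatrix_richMat]

theorem leadsWith_richMap_X (σ τ θ : Idx d n) (h1 : σ ≤ θ) (h2 : θ ≤ τ) :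
    LeadsWith (wgt (d := d) (n := n)) (richMap K σ τ (X θ)) (diagMono θ) := by
  classical
  rw [richMap_X, det_submatrix_richMat]
  constructor
  · rw [coeff_sum, Finset.sum_eq_single (1 : Equiv.Perm (Fin d))]
    · rw [Equiv.Perm.sign_one, one_smul, permMono_one, coeff_monomial, if_pos rfl]
      refine Finset.prod_eq_one (fun k _ => ?_)
      rw [if_pos]
      exact ⟨h1 k, h2 k⟩
    · intro π _ hπ
      rw [Units.smul_def, coeff_smul, coeff_monomial, if_neg, smul_zero]
      intro heq
      have := weight_permMono_lt θ π hπ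
      rw [heq] at this
      exact lt_irrefl _ this
    · intro hh; exact absurd (Finset.mem_univ _) hh
  · intro t ht hne
    rw [mem_support_iff, coeff_sum] at ht
    obtain ⟨π, -, hπ⟩ := Finset.exists_ne_zero_of_sum_ne_zero ht
    rw [Units.smul_def, coeff_smul, coeff_monomial] at hπ
    have hts : permMono θ π = t := by
      by_contra hcon
      rw [if_neg hcon, smul_zero] at hπ
      exact hπ rfl
    have hπ1 : π ≠ 1 := by
      rintro rfl
      exact hne hts.symm
    rw [← hts]
    exact weight_permMono_lt θ π hπ1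

theorem richMap_chainMon {m : ℕ} (σ τ : Idx d n) (c : Fin m → Idx d n) :
    richMap K σ τ (chainMon K c) = ∏ j : Fin m, richMap K σ τ (X (c j)) := by
  unfold chainMon
  rw [map_prod]

theorem leadsWith_richMap_chainMon {m : ℕ} (σ τ : Idx d n) (c : Fin m → Idx d n)
    (hc : ∀ j, σ ≤ c j ∧ c j ≤ τ) :
    LeadsWith (wgt (d := d) (n := n)) (richMap K σ τ (chainMon K c)) (chainExp c) := by
  rw [richMap_chainMon]
  exact LeadsWith.prod _ _ _ (fun j _ => leadsWith_richMap_X K σ τ (c j) (hc j).1 (hc j).2)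

theorem richMap_chainMon_eq_zero {m : ℕ} (σ τ : Idx d n) (c : Fin m → Idx d n)
    (hc : ¬ ∀ j, σ ≤ c j ∧ c j ≤ τ) : richMap K σ τ (chainMon K c) = 0 := by
  push Not at hc
  obtain ⟨j, hj⟩ := hc
  rw [richMap_chainMon]
  apply Finset.prod_eq_zero (Finset.mem_univ j)
  by_cases h1 : σ ≤ c j
  · exact richMap_X_eq_zero_of_not_le K σ τ (c j) (hj h1)
  · exact richMap_X_eq_zero_of_not_ge K σ τ (c j) h1

/-- The images under `richMap σ τ` of the standard monomials in `[σ, τ]` are linearly independent. -/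
theorem linearIndependent_richMap (hd : 0 < d) (σ τ : Idx d n) :
    LinearIndependent K (fun c : {c : Chain d n // ∀ j, σ ≤ c.2.1 j ∧ c.2.1 j ≤ τ} =>
      richMap K σ τ (chainMon K c.1.2.1)) := by
  apply linearIndependent_of_leadsWith (w := wgt (d := d) (n := n)) _
    (fun c : {c : Chain d n // ∀ j, σ ≤ c.2.1 j ∧ c.2.1 j ≤ τ} => chainExp c.1.2.1)
  · intro a b hab
    exact Subtype.ext (chainExp_injective hd hab)
  · intro c
    exact leadsWith_richMap_chainMon K σ τ c.1.2.1 c.2

/-- If a linear combination of standard monomials is killed by `richMap σ τ`, then the coefficients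
of the standard monomials in `[σ, τ]` are zero. -/
theorem coeff_eq_zero_of_richMap_eq_zero (hd : 0 < d) (σ τ : Idx d n)
    (l : Chain d n →₀ K) (h0 : richMap K σ τ (stdComb K l) = 0) (c : Chain d n)
    (hc : ∀ j, σ ≤ c.2.1 j ∧ c.2.1 j ≤ τ) : l c = 0 := by
  classical
  unfold stdComb at h0
  rw [Finsupp.linearCombination_apply, Finsupp.sum, map_sum] at h0
  simp_rw [map_smul] at h0
  rw [← Finset.sum_filter_add_sum_filter_not l.support
    (fun c : Chain d n => ∀ j, σ ≤ c.2.1 j ∧ c.2.1 j ≤ τ)] at h0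
  have hz : ∑ x ∈ l.support.filter (fun c : Chain d n => ¬ ∀ j, σ ≤ c.2.1 j ∧ c.2.1 j ≤ τ),
      l x • richMap K σ τ (chainMon K x.2.1) = 0 := by
    refine Finset.sum_eq_zero (fun x hx => ?_)
    rw [richMap_chainMon_eq_zero K σ τ x.2.1 (Finset.mem_filter.mp hx).2, smul_zero]
  rw [hz, add_zero] at h0
  have hli := linearIndependent_richMap K hd σ τ
  rw [linearIndependent_iff'] at hli
  by_contra hne
  have hmem : c ∈ l.support.filter (fun c : Chain d n => ∀ j, σ ≤ c.2.1 j ∧ c.2.1 j ≤ τ) :=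
    Finset.mem_filter.mpr ⟨Finsupp.mem_support_iff.mpr hne, hc⟩
  have := hli ((l.support.filter (fun c : Chain d n => ∀ j, σ ≤ c.2.1 j ∧ c.2.1 j ≤ τ)).subtype
    (fun c : Chain d n => ∀ j, σ ≤ c.2.1 j ∧ c.2.1 j ≤ τ)) (fun c => l c.1) (by
      rw [Finset.sum_subtype_of_mem
        (f := fun x : Chain d n => l x • richMap K σ τ (chainMon K x.2.1))]
      · exact h0
      · intro x hx; exact (Finset.mem_filter.mp hx).2) ⟨c, hc⟩ (by
      rw [Finset.mem_subtype]; exact hmem)
  exact hne this

/-- The ideal generated by the coordinates `X_θ` with `θ ≱ σ`. -/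
def lowerIdeal (σ : Idx d n) : Ideal (PlRing K d n) :=
  Ideal.span {f | ∃ θ : Idx d n, ¬ σ ≤ θ ∧ f = X θ}

theorem lowerIdeal_le_ker (σ τ : Idx d n) :
    lowerIdeal K σ ≤ RingHom.ker (richMap K σ τ).toRingHom := by
  unfold lowerIdeal
  rw [Ideal.span_le]
  rintro f ⟨θ, hθ, rfl⟩
  exact richMap_X_eq_zero_of_not_ge K σ τ θ hθ

theorem chainMon_mem_lowerIdeal {m : ℕ} (σ : Idx d n) (c : Fin m → Idx d n) (k : Fin m)
    (h : ¬ σ ≤ c k) : chainMon K c ∈ lowerIdeal K σ := by
  unfold chainMon
  obtain ⟨q, hq⟩ := Finset.dvd_prod_of_mem (fun k => (X (c k) : PlRing K d n))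
    (Finset.mem_univ k)
  rw [hq]
  exact Ideal.mul_mem_right _ _ (Ideal.subset_span ⟨c k, h, rfl⟩)

variable [Infinite K]

/-- The kernel of `richMap σ τ` is `J(τ) + (X_θ : θ ≱ σ)`. -/
theorem ker_richMap (hd : 0 < d) (σ τ : Idx d n) :
    RingHom.ker (richMap K σ τ).toRingHom = schubertVanishing K d n τ ⊔ lowerIdeal K σ := by
  classical
  apply le_antisymm
  · intro f hf
    obtain ⟨l, hl⟩ := exists_stdComb K f
    have hl' : f - stdComb K l ∈ schubertVanishing K d n τ :=
      plIdeal_le_schubertVanishing K τ (plIdealTop_le_plIdeal K τ hl)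
    have hsplit : stdComb K l =
        stdComb K (l.filter (fun c : Chain d n => ∀ j, σ ≤ c.2.1 j ∧ c.2.1 j ≤ τ)) +
        stdComb K (l.filter (fun c : Chain d n => ¬ ∀ j, σ ≤ c.2.1 j ∧ c.2.1 j ≤ τ)) := by
      rw [← stdComb_add, Finsupp.filter_add_filter_not]
    have h2 : stdComb K (l.filter (fun c : Chain d n => ¬ ∀ j, σ ≤ c.2.1 j ∧ c.2.1 j ≤ τ)) ∈
        schubertVanishing K d n τ ⊔ lowerIdeal K σ := by
      apply stdComb_filter_mem
      intro c hc
      push Not at hc
      obtain ⟨j, hj⟩ := hc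
      by_cases h1 : σ ≤ c.2.1 j
      · exact Ideal.mem_sup_left (plIdeal_le_schubertVanishing K τ
          (chainMon_mem_plIdeal K τ c.2.1 j (hj h1)))
      · exact Ideal.mem_sup_right (chainMon_mem_lowerIdeal K σ c.2.1 j h1)
    have hker : schubertVanishing K d n τ ⊔ lowerIdeal K σ ≤
        RingHom.ker (richMap K σ τ).toRingHom :=
      sup_le (fun g hg => richMap_eq_zero_of_mem K σ τ g hg) (lowerIdeal_le_ker K σ τ)
    have h1 : richMap K σ τ
        (stdComb K (l.filter (fun c : Chain d n => ∀ j, σ ≤ c.2.1 j ∧ c.2.1 j ≤ τ))) = 0 := by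
      have e : stdComb K (l.filter (fun c : Chain d n => ∀ j, σ ≤ c.2.1 j ∧ c.2.1 j ≤ τ)) =
          f - (f - stdComb K l) -
            stdComb K (l.filter (fun c : Chain d n => ¬ ∀ j, σ ≤ c.2.1 j ∧ c.2.1 j ≤ τ)) := by
        rw [hsplit]
        ring
      rw [e]
      have a1 : richMap K σ τ f = 0 := hf
      have a2 : richMap K σ τ (f - stdComb K l) = 0 := hker (Ideal.mem_sup_left hl')
      have a3 : richMap K σ τ
          (stdComb K (l.filter (fun c : Chain d n => ¬ ∀ j, σ ≤ c.2.1 j ∧ c.2.1 j ≤ τ))) = 0 :=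
        hker h2
      rw [map_sub, map_sub, a1, a2, a3, sub_zero, sub_zero]
    have h0 : l.filter (fun c : Chain d n => ∀ j, σ ≤ c.2.1 j ∧ c.2.1 j ≤ τ) = 0 := by
      ext c
      rw [Finsupp.coe_zero, Pi.zero_apply]
      by_cases hc : ∀ j, σ ≤ c.2.1 j ∧ c.2.1 j ≤ τ
      · exact coeff_eq_zero_of_richMap_eq_zero K hd σ τ _ h1 c hc
      · exact Finsupp.filter_apply_neg _ l hc
    have e : f = (f - stdComb K l) +
        stdComb K (l.filter (fun c : Chain d n => ¬ ∀ j, σ ≤ c.2.1 j ∧ c.2.1 j ≤ τ)) := by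
      have e0 : stdComb K (0 : Chain d n →₀ K) = 0 := by
        unfold stdComb
        rw [map_zero]
      rw [hsplit, h0, e0, zero_add]
      ring
    rw [e]
    exact Ideal.add_mem _ (Ideal.mem_sup_left hl') h2
  · exact sup_le (fun g hg => richMap_eq_zero_of_mem K σ τ g hg) (lowerIdeal_le_ker K σ τ)

theorem isPrime_schubertVanishing_sup_lowerIdeal (hd : 0 < d) (σ τ : Idx d n) :
    (schubertVanishing K d n τ ⊔ lowerIdeal K σ).IsPrime := by
  rw [← ker_richMap K hd σ τ]
  exact RingHom.ker_isPrime _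

end Groth.Agent.Lib.H5b
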