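import Mathlib
import Groth.Prelude.Def_W4bk4grassmannianPl
import Groth.Agent.Lib.H5bRich
import Groth.Agent.S11268

/-!
# The least Plücker coordinate is prime on every Schubert variety (helper5, second run)
-/

set_option autoImplicit false
set_option linter.unusedSectionVars false

universe u

noncomputable section

open MvPolynomial W4bk4grassmannian

namespace Groth.Agent.Lib.H5b

variable (K : Type u) [Field K] {d n : ℕ}

/-- the least element `(0, 1, …, d - 1)` of `I(d,n)` -/
def botIdx (hdn : d < n) : Idx d n := ⟨fun t => ⟨t.val, lt_trans t.isLt hdn⟩, fun _ _ h => h⟩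

/-- the unique cover `(0, 1, …, d - 2, d)` of the least element -/
def botCover (hdn : d < n) : Idx d n :=
  ⟨fun t => if t.val + 1 = d then ⟨d, hdn⟩ else ⟨t.val, lt_trans t.isLt hdn⟩, by
    intro a b hab
    have ha := a.isLt
    have hb := b.isLt
    rw [Fin.lt_def] at hab
    beta_reduce
    by_cases h1 : a.val + 1 = d
    · omega
    · by_cases h2 : b.val + 1 = d
      · rw [if_neg h1, if_pos h2, Fin.lt_def]
        simp only
        omega
      · rw [if_neg h1, if_neg h2, Fin.lt_def]
        exact hab⟩

theorem botIdx_le (hdn : d < n) (θ : Idx d n) : botIdx hdn ≤ θ := by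
  intro t
  rw [Fin.le_def]
  exact Groth.Agent.S11268.le_val d n θ t.val t.isLt

theorem not_botCover_le_iff (hd : 0 < d) (hdn : d < n) (θ : Idx d n) :
    ¬ botCover hdn ≤ θ ↔ θ = botIdx hdn := by
  constructor
  · intro h
    rw [Idx.le_iff] at h
    push Not at h
    obtain ⟨t, ht⟩ := h
    have hge : ∀ s : Fin d, s.val ≤ (θ.1 s).val := fun s =>
      Groth.Agent.S11268.le_val d n θ s.val s.isLt
    have ht1 : t.val + 1 = d := by
      by_contra hne
      unfold botCover at ht
      simp only at ht
      rw [if_neg hne, Fin.lt_def] at ht
      have := hge t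
      simp only at ht
      omega
    have hlast : (θ.1 t).val = t.val := by
      unfold botCover at ht
      simp only at ht
      rw [if_pos ht1, Fin.lt_def] at ht
      have := hge t
      simp only at ht
      omega
    -- all entries are forced
    have hle : ∀ s : Fin d, (θ.1 s).val + (t.val - s.val) ≤ (θ.1 t).val := by
      intro s
      have hs := s.isLt
      have key : ∀ (k : ℕ) (s : Fin d), s.val + k = t.val → (θ.1 s).val + k ≤ (θ.1 t).val := by
        intro k
        induction k with
        | zero =>
          intro s hs
          have : s = t := Fin.ext (by omega)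
          rw [this]
          omega
        | succ k ih =>
          intro s hs
          have hs1 : s.val + 1 < d := by omega
          have h1 := ih ⟨s.val + 1, hs1⟩ (by simp only; omega)
          have h2 : θ.1 s < θ.1 ⟨s.val + 1, hs1⟩ := θ.2 (by rw [Fin.lt_def]; simp)
          rw [Fin.lt_def] at h2
          omega
      exact key (t.val - s.val) s (by omega)
    apply Subtype.ext
    funext s
    apply Fin.ext
    unfold botIdx
    simp only
    have := hle s
    have := hge s
    have := s.isLt
    omega
  · rintro rfl h
    have := h ⟨d - 1, by omega⟩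
    unfold botCover botIdx at this
    simp only at this
    rw [if_pos (by omega), Fin.le_def] at this
    simp only at this
    omega

theorem lowerIdeal_botCover (hd : 0 < d) (hdn : d < n) :
    lowerIdeal K (botCover hdn) = Ideal.span {(X (botIdx hdn) : PlRing K d n)} := by
  unfold lowerIdeal
  congr 1
  ext f
  simp only [Set.mem_ofPred_eq, Set.mem_singleton_iff]
  constructor
  · rintro ⟨θ, hθ, rfl⟩
    rw [(not_botCover_le_iff hd hdn θ).mp hθ]
  · rintro rfl
    exact ⟨botIdx hdn, (not_botCover_le_iff hd hdn _).mpr rfl, rfl⟩

variable [Infinite K]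

theorem X_not_mem_schubertVanishing (hd : 0 < d) (w θ : Idx d n) (h : θ ≤ w) :
    (X θ : PlRing K d n) ∉ schubertVanishing K d n w := by
  classical
  intro hmem
  let c : Chain d n := ⟨1, ⟨fun _ => θ, fun _ _ _ => le_refl _⟩⟩
  have e : Finsupp.linearCombination K (fun c : Chain d n => chainMon K c.2.1)
      (Finsupp.single c (1 : K)) = X θ := by
    rw [Finsupp.linearCombination_single, one_smul]
    unfold chainMon
    simp [c]
  have h0 := coeff_eq_zero_of_mem_schubertVanishing K hd w (Finsupp.single c (1 : K))
    (by rw [e]; exact hmem) c (fun _ => h)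
  rw [Finsupp.single_eq_same] at h0
  exact one_ne_zero h0

/-- The class of the least Plücker coordinate is a prime element of `S/J(w)`. -/
theorem prime_mk_X_botIdx (hd : 0 < d) (hdn : d < n) (w : Idx d n) :
    Prime (Ideal.Quotient.mk (schubertVanishing K d n w) (X (botIdx hdn) : PlRing K d n)) := by
  have hprime := isPrime_schubertVanishing_sup_lowerIdeal K hd (botCover hdn) w
  rw [lowerIdeal_botCover K hd hdn] at hprime
  have hne : Ideal.Quotient.mk (schubertVanishing K d n w) (X (botIdx hdn) : PlRing K d n) ≠ 0 := by
    rw [Ne, Ideal.Quotient.eq_zero_iff_mem]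
    exact X_not_mem_schubertVanishing K hd w (botIdx hdn) (botIdx_le hdn w)
  rw [← Ideal.span_singleton_prime hne]
  have hmap : Ideal.map (Ideal.Quotient.mk (schubertVanishing K d n w))
      (schubertVanishing K d n w ⊔ Ideal.span {(X (botIdx hdn) : PlRing K d n)}) =
      Ideal.span {Ideal.Quotient.mk (schubertVanishing K d n w) (X (botIdx hdn) : PlRing K d n)} := by
    rw [Ideal.map_sup, Ideal.map_quotient_self, bot_sup_eq, Ideal.map_span, Set.image_singleton]
  rw [← hmap]
  apply Ideal.map_isPrime_of_surjective Ideal.Quotient.mk_surjective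
  rw [Ideal.mk_ker]
  exact le_sup_left

end Groth.Agent.Lib.H5b
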