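import Groth.Agent.Lib.H5bDet
import Groth.Agent.Lib.H5bBottom

/-!
# First fundamental theorem for `SL_d` (helper5)

`K[X]^{SL_d}` is generated by the maximal minors.
-/

set_option autoImplicit false

universe u

noncomputable section

open MvPolynomial W4bk4grassmannian

namespace Groth.Agent.Lib.H5b

section Top

variable {d n : ℕ}

/-- the largest index `(n-d, …, n-1)` -/
def topIdx (hdn : d ≤ n) : Idx d n :=
  ⟨fun t => ⟨n - d + t.val, by have := t.isLt; omega⟩, by
    intro a b hab
    have hab' : a.val < b.val := hab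
    rw [Fin.lt_def]
    simp only
    omega⟩

theorem le_topIdx (hdn : d ≤ n) (θ : Idx d n) : θ ≤ topIdx hdn := by
  intro t
  rw [Fin.le_def]
  simp only [topIdx]
  have hd : 0 < d := lt_of_le_of_lt (Nat.zero_le _) t.isLt
  let l : Fin d := ⟨d - 1, by omega⟩
  have h1 := Idx.add_le θ (d - 1 - t.val) t l (by simp only [l]; have := t.isLt; omega)
  have h2 := (θ.1 l).isLt
  have h3 := t.isLt
  omega

end Top

section Invariance

variable (K : Type u) [Field K] (d n : ℕ)

theorem rightTranslate_minor (g : Matrix.SpecialLinearGroup (Fin d) K) (a : Fin d → Fin n) :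
    rightTranslate K d n g (minor K d n a) = minor K d n a := by
  unfold minor
  rw [AlgHom.map_det]
  have h1 : (rightTranslate K d n g).mapMatrix
      (Matrix.of fun s t : Fin d => (X (a s, t) : MatRing K d n)) =
      (Matrix.of fun s t : Fin d => (X (a s, t) : MatRing K d n)) *
        ((g : Matrix (Fin d) (Fin d) K).map C) := by
    ext s t
    simp [rightTranslate, Matrix.mul_apply]
  rw [h1, Matrix.det_mul]
  have h2 : ((g : Matrix (Fin d) (Fin d) K).map (C : K →+* MatRing K d n)).det = 1 := by
    rw [← RingHom.mapMatrix_apply, ← RingHom.map_det, g.2, map_one]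
  rw [h2, mul_one]

theorem rightTranslate_pluckerMap (g : Matrix.SpecialLinearGroup (Fin d) K) (F : PlRing K d n) :
    rightTranslate K d n g (pluckerMap K d n F) = pluckerMap K d n F := by
  have h : (rightTranslate K d n g).comp (pluckerMap K d n) = pluckerMap K d n := by
    apply MvPolynomial.algHom_ext
    intro θ
    rw [AlgHom.comp_apply]
    unfold pluckerMap
    rw [aeval_X]
    exact rightTranslate_minor K d n g θ.1
  exact congrArg (fun φ => φ F) h

theorem eval_rightTranslate (g : Matrix.SpecialLinearGroup (Fin d) K) (x : Fin n × Fin d → K)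
    (f : MatRing K d n) :
    MvPolynomial.eval x (rightTranslate K d n g f) =
      MvPolynomial.eval (fun p : Fin n × Fin d =>
        ∑ k, x (p.1, k) * (g : Matrix (Fin d) (Fin d) K) k p.2) f := by
  have h : ((MvPolynomial.aeval x : MatRing K d n →ₐ[K] K).comp (rightTranslate K d n g)) =
      (MvPolynomial.aeval (fun p : Fin n × Fin d =>
        ∑ k, x (p.1, k) * (g : Matrix (Fin d) (Fin d) K) k p.2) : MatRing K d n →ₐ[K] K) := by
    apply MvPolynomial.algHom_ext
    intro p
    rw [AlgHom.comp_apply]
    unfold rightTranslate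
    rw [aeval_X, aeval_X, map_sum]
    simp
  have := congrArg (fun φ => φ f) h
  simpa [MvPolynomial.coe_aeval_eq_eval] using this

theorem eval_pluckerMap (x : Fin n × Fin d → K) (F : PlRing K d n) :
    MvPolynomial.eval x (pluckerMap K d n F) =
      evalMinors K d n (Matrix.of fun i k => x (i, k)) F := by
  have h : ((MvPolynomial.aeval x : MatRing K d n →ₐ[K] K).comp (pluckerMap K d n)) =
      evalMinors K d n (Matrix.of fun i k => x (i, k)) := by
    apply MvPolynomial.algHom_ext
    intro θ
    rw [AlgHom.comp_apply]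
    unfold pluckerMap evalMinors minor
    rw [aeval_X, aeval_X, ← AlgHom.coe_toRingHom, RingHom.map_det]
    congr 1
    ext s k
    simp
  have := congrArg (fun φ => φ F) h
  simpa [MvPolynomial.coe_aeval_eq_eval] using this

end Invariance

section Dagger

variable (K : Type u) [Field K] {d n : ℕ}

/-- setting the variables outside the skew shape to zero -/
def richEps (σ τ : Idx d n) : MatRing K d n →ₐ[K] MatRing K d n :=
  MvPolynomial.aeval fun p : Fin n × Fin d =>
    if σ.1 p.2 ≤ p.1 ∧ p.1 ≤ τ.1 p.2 then (X p : MatRing K d n) else 0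

theorem richMap_eq_comp (σ τ : Idx d n) :
    richMap K σ τ = (richEps K σ τ).comp (pluckerMap K d n) := by
  apply MvPolynomial.algHom_ext
  intro θ
  rw [AlgHom.comp_apply, richMap_X]
  unfold pluckerMap minor
  rw [aeval_X, AlgHom.map_det]
  congr 1
  ext s k
  simp [richMat, richEps]

variable [Infinite K]

theorem pluckerMap_eq_zero_iff (hdn : d ≤ n) (F : PlRing K d n) :
    pluckerMap K d n F = 0 ↔ F ∈ schubertVanishing K d n (topIdx hdn) := by
  unfold schubertVanishing
  constructor
  · intro h
    rw [Ideal.mem_iInf]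
    intro A
    rw [Ideal.mem_iInf]
    intro _
    rw [RingHom.mem_ker]
    change evalMinors K d n A F = 0
    have h1 := eval_pluckerMap K d n (fun p : Fin n × Fin d => A p.1 p.2) F
    rw [h, map_zero] at h1
    rw [h1]
    rfl
  · intro h
    apply MvPolynomial.funext
    intro x
    rw [eval_pluckerMap, map_zero]
    rw [Ideal.mem_iInf] at h
    have h1 := h (Matrix.of fun i k => x (i, k))
    rw [Ideal.mem_iInf] at h1
    exact h1 (fun φ hφ => absurd (le_topIdx hdn φ) hφ)

theorem minor_botIdx_ne_zero (hd : 0 < d) (hdn : d < n) :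
    minor K d n (botIdx hdn).1 ≠ 0 := by
  intro h
  have h1 : pluckerMap K d n (X (botIdx hdn)) = 0 := by
    unfold pluckerMap
    rw [aeval_X]
    exact h
  rw [pluckerMap_eq_zero_iff K hdn.le] at h1
  exact X_not_mem_schubertVanishing K hd _ _ (le_topIdx hdn.le _) h1

/-- if the bottom minor divides an element of the Plücker algebra, the quotient is in the
Plücker algebra -/
theorem exists_of_pluckerMap_eq_mul (hd : 0 < d) (hdn : d < n) (F : PlRing K d n)
    (h : MatRing K d n)
    (hF : pluckerMap K d n F = minor K d n (botIdx hdn).1 * h) :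
    ∃ F', pluckerMap K d n F' = h := by
  have hδ : pluckerMap K d n (X (botIdx hdn)) = minor K d n (botIdx hdn).1 := by
    unfold pluckerMap
    rw [aeval_X]
  have h1 : richMap K (botCover hdn) (topIdx hdn.le) F = 0 := by
    rw [richMap_eq_comp, AlgHom.comp_apply, hF, map_mul, ← hδ, ← AlgHom.comp_apply,
      ← richMap_eq_comp,
      richMap_X_eq_zero_of_not_ge K _ _ _ ((not_botCover_le_iff hd hdn _).mpr rfl), zero_mul]
  have h2 : F ∈ schubertVanishing K d n (topIdx hdn.le) ⊔
      Ideal.span {(X (botIdx hdn) : PlRing K d n)} := by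
    rw [← lowerIdeal_botCover K hd hdn, ← ker_richMap K hd]
    exact h1
  obtain ⟨J, hJ, G, hG, rfl⟩ := Submodule.mem_sup.mp h2
  obtain ⟨F', rfl⟩ := Ideal.mem_span_singleton'.mp hG
  refine ⟨F', ?_⟩
  rw [map_add, (pluckerMap_eq_zero_iff K hdn.le J).mpr hJ, zero_add, map_mul, hδ, mul_comm] at hF
  exact mul_left_cancel₀ (minor_botIdx_ne_zero K hd hdn) hF

theorem exists_of_pluckerMap_eq_pow_mul (hd : 0 < d) (hdn : d < n) (M : ℕ) :
    ∀ (F : PlRing K d n) (f : MatRing K d n),
      pluckerMap K d n F = minor K d n (botIdx hdn).1 ^ M * f →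
        ∃ F', pluckerMap K d n F' = f := by
  induction M with
  | zero =>
    intro F f hF
    exact ⟨F, by rw [hF, pow_zero, one_mul]⟩
  | succ M ih =>
    intro F f hF
    rw [pow_succ', mul_assoc] at hF
    obtain ⟨F', hF'⟩ := exists_of_pluckerMap_eq_mul K hd hdn F _ hF
    exact ih F' f hF'

end Dagger

section Igusa

theorem sum_mul_adjugate {R : Type*} [CommRing R] {d : ℕ} (M : Matrix (Fin d) (Fin d) R)
    (b : Fin d → R) (k : Fin d) :
    ∑ l, b l * M.adjugate l k = (M.updateRow k b).det := by
  rw [← Matrix.cramer_transpose_apply, Matrix.cramer_eq_adjugate_mulVec, ← Matrix.adjugate_transpose]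
  simp only [Matrix.mulVec, dotProduct, Matrix.transpose_apply]
  exact Finset.sum_congr rfl (fun l _ => mul_comm _ _)

variable (K : Type u) [Field K] {d n : ℕ}

/-- the Plücker-algebra lifts of the entries of `A · adj(A₀) · diag(δ,1,…,1)` -/
def zMat (hdn : d < n) (i : Fin n) (k : Fin d) : PlRing K d n :=
  coord K d n (Function.update (botIdx hdn).1 k i) *
    (if k.val = 0 then X (botIdx hdn) else 1)

/-- substitution of `zMat` -/
def zSub (hdn : d < n) : MatRing K d n →ₐ[K] PlRing K d n :=
  MvPolynomial.aeval fun p : Fin n × Fin d => zMat K hdn p.1 p.2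

/-- the point-level matrix `adj(A₀) · diag(δ,1,…,1)` -/
def hPt (hdn : d < n) (A : Matrix (Fin n) (Fin d) K) : Matrix (Fin d) (Fin d) K :=
  (A.submatrix (botIdx hdn).1 id).adjugate *
    Matrix.diagonal (fun k : Fin d => if k.val = 0 then (A.submatrix (botIdx hdn).1 id).det else 1)

theorem evalMinors_zMat (hdn : d < n) (A : Matrix (Fin n) (Fin d) K) (i : Fin n) (k : Fin d) :
    evalMinors K d n A (zMat K hdn i k) = (A * hPt K hdn A) i k := by
  classical
  unfold zMat hPt
  rw [map_mul, evalMinors_coord, ← Matrix.mul_assoc, Matrix.mul_diagonal]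
  congr 1
  · rw [Matrix.mul_apply, sum_mul_adjugate]
    congr 1
    ext s t
    simp only [Matrix.submatrix_apply, id_eq, Matrix.updateRow_apply, Function.update_apply]
    split_ifs <;> rfl
  · split_ifs
    · rw [evalMinors_X]
    · rw [map_one]

theorem evalMinors_zSub (hdn : d < n) (A : Matrix (Fin n) (Fin d) K) (f : MatRing K d n) :
    evalMinors K d n A (zSub K hdn f) =
      MvPolynomial.eval (fun p : Fin n × Fin d => (A * hPt K hdn A) p.1 p.2) f := by
  have h : (evalMinors K d n A).comp (zSub K hdn) =
      (MvPolynomial.aeval (fun p : Fin n × Fin d => (A * hPt K hdn A) p.1 p.2) :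
        MatRing K d n →ₐ[K] K) := by
    apply MvPolynomial.algHom_ext
    intro p
    rw [AlgHom.comp_apply]
    unfold zSub
    rw [aeval_X, aeval_X, evalMinors_zMat]
  have := congrArg (fun φ => φ f) h
  simpa [MvPolynomial.coe_aeval_eq_eval] using this

theorem det_hPt (hd : 0 < d) (hdn : d < n) (A : Matrix (Fin n) (Fin d) K) :
    (hPt K hdn A).det = (A.submatrix (botIdx hdn).1 id).det ^ d := by
  unfold hPt
  rw [Matrix.det_mul, Matrix.det_adjugate, Matrix.det_diagonal, Fintype.card_fin]
  have h2 : ∏ k : Fin d, (if k.val = 0 then (A.submatrix (botIdx hdn).1 id).det else 1) =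
      (A.submatrix (botIdx hdn).1 id).det := by
    rw [Finset.prod_eq_single (⟨0, hd⟩ : Fin d)]
    · simp
    · intro b _ hb
      rw [if_neg]
      intro h0
      exact hb (Fin.ext h0)
    · intro h
      exact absurd (Finset.mem_univ _) h
  rw [h2, ← pow_succ, Nat.sub_add_cancel hd]

variable [Infinite K]

/-- Igusa's trick: an `SL_d`-invariant times a power of the bottom minor lies in the Plücker
algebra -/
theorem exists_pluckerMap_eq_pow_mul_of_invariant (hd : 0 < d) (hdn : d < n) (f : MatRing K d n)
    (hf : ∀ g : Matrix.SpecialLinearGroup (Fin d) K, rightTranslate K d n g f = f) :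
    ∃ (M : ℕ) (F : PlRing K d n),
      pluckerMap K d n F = minor K d n (botIdx hdn).1 ^ M * f := by
  set M := f.totalDegree + 1 with hM
  refine ⟨M, ∑ j ∈ Finset.range M,
    X (botIdx hdn) ^ (M - j) * zSub K hdn (homogeneousComponent j f), ?_⟩
  apply MvPolynomial.funext
  intro x
  set A : Matrix (Fin n) (Fin d) K := Matrix.of fun i k => x (i, k) with hA
  set δx := (A.submatrix (botIdx hdn).1 id).det with hδx
  have hδ : MvPolynomial.eval x (minor K d n (botIdx hdn).1) = δx := by
    have h1 := eval_pluckerMap K d n x (X (botIdx hdn))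
    rw [evalMinors_X] at h1
    rw [hδx, hA, ← h1]
    unfold pluckerMap
    rw [aeval_X]
  rw [eval_pluckerMap, map_sum, map_mul, map_pow, hδ]
  simp_rw [map_mul, map_pow, evalMinors_X, evalMinors_zSub]
  rw [← hA, ← hδx]
  by_cases h0 : δx = 0
  · rw [h0, zero_pow (by omega), zero_mul]
    apply Finset.sum_eq_zero
    intro j hj
    have := Finset.mem_range.mp hj
    rw [zero_pow (by omega), zero_mul]
  · -- the element of `SL_d`
    set g : Matrix (Fin d) (Fin d) K := δx⁻¹ • hPt K hdn A with hg
    have hgdet : g.det = 1 := by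
      rw [hg, Matrix.det_smul, det_hPt K hd hdn, Fintype.card_fin, ← hδx, inv_pow,
        inv_mul_cancel₀ (pow_ne_zero d h0)]
    have hh : hPt K hdn A = δx • g := by
      rw [hg, smul_smul, mul_inv_cancel₀ h0, one_smul]
    have hterm : ∀ j, MvPolynomial.eval (fun p : Fin n × Fin d => (A * hPt K hdn A) p.1 p.2)
        (homogeneousComponent j f) = δx ^ j * MvPolynomial.eval (fun p : Fin n × Fin d =>
          ∑ k, x (p.1, k) * g k p.2) (homogeneousComponent j f) := by
      intro j
      rw [← eval_mul_of_isHomogeneous _ j (homogeneousComponent_isHomogeneous j f)]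
      congr 2
      funext p
      rw [hh, Matrix.mul_smul, Matrix.smul_apply, smul_eq_mul, Matrix.mul_apply]
      rfl
    have hinv := eval_rightTranslate K d n ⟨g, hgdet⟩ x f
    have hfg := hf ⟨g, hgdet⟩
    rw [hfg] at hinv
    have hsum : ∑ j ∈ Finset.range M, MvPolynomial.eval (fun p : Fin n × Fin d =>
        ∑ k, x (p.1, k) * g k p.2) (homogeneousComponent j f) = MvPolynomial.eval x f := by
      rw [hinv, ← map_sum, hM, sum_homogeneousComponent]
    rw [← hsum, Finset.mul_sum]
    refine Finset.sum_congr rfl (fun j hj => ?_)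
    have := Finset.mem_range.mp hj
    rw [hterm, ← mul_assoc, ← pow_add, Nat.sub_add_cancel (by omega)]

/-- the first fundamental theorem for `SL_d` -/
theorem mem_range_pluckerMap_of_invariant (hd : 0 < d) (hdn : d < n) (f : MatRing K d n)
    (hf : ∀ g : Matrix.SpecialLinearGroup (Fin d) K, rightTranslate K d n g f = f) :
    ∃ F : PlRing K d n, pluckerMap K d n F = f := by
  obtain ⟨M, F, hF⟩ := exists_pluckerMap_eq_pow_mul_of_invariant K hd hdn f hf
  exact exists_of_pluckerMap_eq_pow_mul K hd hdn M F f hF

end Igusa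

end Groth.Agent.Lib.H5b

end
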