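import Groth.Agent.Lib.H5bDehom
import Groth.Agent.Lib.H5bFFT

/-!
# Standard monomials on the opposite cell (helper5)

If `comap cellMap I = J(w) + (X_ι - 1)`, the `ι`-free standard monomials on `X(w)` map to a basis
of `R/I`.
-/

set_option autoImplicit false

universe u

noncomputable section

open MvPolynomial W4bk4grassmannian

namespace Groth.Agent.Lib.H5b

section TopComp

variable {σ : Type*} {R : Type*} [CommSemiring R]

theorem homogeneousComponent_totalDegree_ne_zero (f : MvPolynomial σ R) (hf : f ≠ 0) :
    homogeneousComponent f.totalDegree f ≠ 0 := by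
  have hne : f.support.Nonempty := by
    rwa [Finset.nonempty_iff_ne_empty, Ne, MvPolynomial.support_eq_empty]
  obtain ⟨m, hm, hmax⟩ := Finset.exists_mem_eq_sup f.support hne (fun s => s.sum fun _ e => e)
  intro h0
  have h1 := congrArg (coeff m) h0
  rw [coeff_homogeneousComponent, coeff_zero, if_pos] at h1
  · exact (mem_support_iff.mp hm) h1
  · exact hmax.symm

end TopComp

section HomogMem

variable {σ : Type*} {R : Type*} [CommRing R] (𝔞 : Ideal (MvPolynomial σ R)) (y : σ)

theorem homog_mem_of_mem_sup [h𝔞 : 𝔞.IsPrime] (hy : (X y : MvPolynomial σ R) ∉ 𝔞)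
    (hhom : ∀ F ∈ 𝔞, ∀ k, homogeneousComponent k F ∈ 𝔞) (G : MvPolynomial σ R)
    (hG : G ∈ 𝔞 ⊔ Ideal.span {(X y - 1 : MvPolynomial σ R)}) :
    homog G.totalDegree y G ∈ 𝔞 := by
  rw [← ker_dehom 𝔞 y hy hhom, RingHom.mem_ker] at hG
  have h1 : dehomPhi 𝔞 y (homog G.totalDegree y G) = 0 := by
    rw [← dehom_mul_pow 𝔞 y _ _ (homog_isHomogeneous _ y G), dehom_homog, hG, zero_mul]
  exact (dehomPhi_eq_zero_iff 𝔞 y hy _).mp h1

theorem homogeneousComponent_totalDegree_mem_sup (G : MvPolynomial σ R)
    (hG : homog G.totalDegree y G ∈ 𝔞) :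
    homogeneousComponent G.totalDegree G ∈ 𝔞 ⊔ Ideal.span {(X y : MvPolynomial σ R)} := by
  unfold homog at hG
  rw [Finset.sum_range_succ, Nat.sub_self, pow_zero, one_mul] at hG
  have h2 : ∑ k ∈ Finset.range G.totalDegree,
      X y ^ (G.totalDegree - k) * homogeneousComponent k G ∈
        Ideal.span {(X y : MvPolynomial σ R)} := by
    apply Ideal.sum_mem
    intro k hk
    have := Finset.mem_range.mp hk
    apply Ideal.mul_mem_right
    obtain ⟨j, hj⟩ : ∃ j, G.totalDegree - k = j + 1 := ⟨G.totalDegree - k - 1, by omega⟩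
    rw [hj, pow_succ]
    exact Ideal.mul_mem_left _ _ (Ideal.subset_span rfl)
  have e : homogeneousComponent G.totalDegree G =
      (∑ k ∈ Finset.range G.totalDegree,
        X y ^ (G.totalDegree - k) * homogeneousComponent k G +
          homogeneousComponent G.totalDegree G) -
      ∑ k ∈ Finset.range G.totalDegree,
        X y ^ (G.totalDegree - k) * homogeneousComponent k G := by ring
  rw [e]
  exact Ideal.sub_mem _ (Ideal.mem_sup_left hG) (Ideal.mem_sup_right h2)

end HomogMem

section StdCell

variable (K : Type u) [Field K] [Infinite K] {d n : ℕ}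

omit [Infinite K] in
theorem chainMon_isHomogeneous {m : ℕ} (c : Fin m → Idx d n) :
    (chainMon K c).IsHomogeneous m := by
  unfold chainMon
  have := IsHomogeneous.prod (Finset.univ : Finset (Fin m))
    (fun k => (X (c k) : PlRing K d n)) (fun _ => 1) (fun k _ => isHomogeneous_X K (c k))
  simpa using this

omit [Infinite K] in
theorem homogeneousComponent_stdComb (D : ℕ) (l : Chain d n →₀ K) :
    homogeneousComponent D (stdComb K l) = stdComb K (l.filter (fun c => c.1 = D)) := by
  classical
  unfold stdComb
  rw [Finsupp.linearCombination_apply, Finsupp.linearCombination_apply, Finsupp.sum, map_sum,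
    Finsupp.sum, Finsupp.support_filter, Finset.sum_filter]
  refine Finset.sum_congr rfl (fun c _ => ?_)
  rw [map_smul, homogeneousComponent_of_mem (chainMon_isHomogeneous K c.2.1)]
  by_cases hc : c.1 = D
  · rw [if_pos hc.symm, if_pos hc, Finsupp.filter_apply_pos (fun c : Chain d n => c.1 = D) l hc]
  · rw [if_neg (Ne.symm hc), if_neg hc, smul_zero]

end StdCell

section CellBasis

variable (K : Type u) [Field K] [Infinite K] (d r : ℕ) (hd : 0 < d) (hr : 0 < r)
  (w : Idx d (d + r)) (I : Ideal (CellRing K d r))
  (hI : Ideal.comap (cellMap K d r) I = schubertVanishing K d (d + r) w ⊔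
    Ideal.span {(X (cellBot d hr) - 1 : PlRing K d (d + r))})

/-- `S → R → R/I` -/
def cellQuot : PlRing K d (d + r) →ₐ[K] (CellRing K d r ⧸ I) :=
  (Ideal.Quotient.mkₐ K I).comp (cellMap K d r)

omit [Infinite K] in
theorem cellQuot_apply (f : PlRing K d (d + r)) :
    cellQuot K d r I f = Ideal.Quotient.mk I (cellMap K d r f) := rfl

include hI in
omit [Infinite K] in
theorem cellQuot_eq_zero_iff (f : PlRing K d (d + r)) :
    cellQuot K d r I f = 0 ↔ f ∈ schubertVanishing K d (d + r) w ⊔
      Ideal.span {(X (cellBot d hr) - 1 : PlRing K d (d + r))} := by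
  rw [← hI, Ideal.mem_comap, cellQuot_apply, Ideal.Quotient.eq_zero_iff_mem]

include hr in
omit [Infinite K] in
theorem cellQuot_surjective : Function.Surjective (cellQuot K d r I) := by
  intro y
  obtain ⟨g, rfl⟩ := Ideal.Quotient.mk_surjective y
  exact ⟨cellLift K d r hr g, by rw [cellQuot_apply, cellMap_cellLift]⟩

include hd hI in
/-- the `ι`-free standard monomials on `X(w)` are linearly independent in `R/I` -/
theorem eq_zero_of_cellQuot_stdComb_eq_zero (l : Chain d (d + r) →₀ K)
    (hl : ∀ c ∈ l.support, ∀ j, botCover (Nat.lt_add_of_pos_right hr) ≤ c.2.1 j ∧ c.2.1 j ≤ w)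
    (h0 : cellQuot K d r I (stdComb K l) = 0) : l = 0 := by
  classical
  have hdn : d < d + r := Nat.lt_add_of_pos_right hr
  set ι := cellBot d hr with hι
  have hprime := isPrime_schubertVanishing K hd hdn w
  have hy := X_not_mem_schubertVanishing K hd w ι (botIdx_le hdn w)
  have hhom := homogeneousComponent_mem_schubertVanishing K hd w
  set f := stdComb K l with hf
  have hmem := (cellQuot_eq_zero_iff K d r hr w I hI f).mp h0
  have hf0 : f = 0 := by
    by_contra hne
    have h1 := homog_mem_of_mem_sup (schubertVanishing K d (d + r) w) ι hy hhom f hmem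
    have h2 := homogeneousComponent_totalDegree_mem_sup (schubertVanishing K d (d + r) w) ι f h1
    rw [hf, homogeneousComponent_stdComb] at h2
    have h3 : richMap K (botCover hdn) w
        (stdComb K (l.filter (fun c => c.1 = (stdComb K l).totalDegree))) = 0 := by
      have hk : stdComb K (l.filter (fun c => c.1 = (stdComb K l).totalDegree)) ∈
          RingHom.ker (richMap K (botCover hdn) w).toRingHom := by
        rw [ker_richMap K hd, lowerIdeal_botCover K hd hdn]
        exact h2
      exact hk
    have h4 : l.filter (fun c => c.1 = (stdComb K l).totalDegree) = 0 := by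
      ext c
      rw [Finsupp.zero_apply]
      by_cases hc : c ∈ l.support
      · exact coeff_eq_zero_of_richMap_eq_zero K hd _ w _ h3 c (hl c hc)
      · rw [Finsupp.filter_apply]
        split_ifs
        · exact Finsupp.notMem_support_iff.mp hc
        · rfl
    apply homogeneousComponent_totalDegree_ne_zero f hne
    rw [hf, homogeneousComponent_stdComb, h4]
    unfold stdComb
    rw [map_zero]
  ext c
  rw [Finsupp.zero_apply]
  by_cases hc : c ∈ l.support
  · apply coeff_eq_zero_of_mem_schubertVanishing K hd w l _ c (fun j => (hl c hc j).2)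
    have : stdComb K l ∈ schubertVanishing K d (d + r) w := by
      rw [← hf, hf0]
      exact zero_mem _
    exact this
  · exact Finsupp.notMem_support_iff.mp hc

include hd hI in
/-- `R/I` is spanned by the standard monomials on `X(w)` -/
theorem exists_stdComb_cellQuot (y : CellRing K d r ⧸ I) :
    ∃ l : Chain d (d + r) →₀ K, (∀ c ∈ l.support, ∀ j, c.2.1 j ≤ w) ∧
      cellQuot K d r I (stdComb K l) = y := by
  classical
  obtain ⟨f, rfl⟩ := cellQuot_surjective K d r hr I y
  obtain ⟨l, hl⟩ := exists_stdComb K f
  refine ⟨l.filter (fun c => ∀ j, c.2.1 j ≤ w), ?_, ?_⟩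
  · intro c hc
    rw [Finsupp.support_filter, Finset.mem_filter] at hc
    exact hc.2
  · have h1 : f - stdComb K (l.filter (fun c => ∀ j, c.2.1 j ≤ w)) ∈
        schubertVanishing K d (d + r) w := by
      have h2 : stdComb K (l.filter (fun c => ¬ ∀ j, c.2.1 j ≤ w)) ∈
          schubertVanishing K d (d + r) w := by
        apply stdComb_filter_mem
        intro c hc
        push Not at hc
        obtain ⟨j, hj⟩ := hc
        exact chainMon_mem_schubertVanishing K w c.2.1 j hj
      have h3 : stdComb K l = stdComb K (l.filter (fun c => ∀ j, c.2.1 j ≤ w)) +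
          stdComb K (l.filter (fun c => ¬ ∀ j, c.2.1 j ≤ w)) := by
        rw [← stdComb_add, Finsupp.filter_add_filter_not]
      have e : f - stdComb K (l.filter (fun c => ∀ j, c.2.1 j ≤ w)) =
          (f - stdComb K l) + stdComb K (l.filter (fun c => ¬ ∀ j, c.2.1 j ≤ w)) := by
        rw [h3]
        ring
      rw [e]
      exact Ideal.add_mem _ (plIdealTop_le_schubertVanishing K w hl) h2
    have h4 := (cellQuot_eq_zero_iff K d r hr w I hI _).mpr (Ideal.mem_sup_left h1)
    rw [map_sub, sub_eq_zero] at h4
    exact h4.symm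

end CellBasis

end Groth.Agent.Lib.H5b

end
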