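import Mathlib
import Groth.Prelude.Def_W4bk4grassmannianPl

/-!
# Combinatorics of the dictionary between minors and Plücker coordinates (helper5)
-/

set_option autoImplicit false

noncomputable section

open W4bk4grassmannian

namespace Groth.Agent.Lib.H5b

section Count

variable {p p' N : ℕ}

/-- number of entries below `x` -/
def cntLt (a : Fin p → Fin N) (x : ℕ) : ℕ :=
  (Finset.univ.filter fun j : Fin p => (a j).val < x).card

theorem lt_iff_lt_cntLt (a : Fin p → Fin N) (ha : StrictMono a) (k : Fin p) (x : ℕ) :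
    (a k).val < x ↔ k.val < cntLt a x := by
  unfold cntLt
  constructor
  · intro h
    have hsub : Finset.Iic k ⊆ Finset.univ.filter fun j : Fin p => (a j).val < x := by
      intro j hj
      rw [Finset.mem_Iic] at hj
      rw [Finset.mem_filter]
      refine ⟨Finset.mem_univ _, lt_of_le_of_lt ?_ h⟩
      exact Fin.le_def.mp (ha.monotone hj)
    have := Finset.card_le_card hsub
    rw [Fin.card_Iic] at this
    omega
  · intro h
    by_contra hx
    have hsub : (Finset.univ.filter fun j : Fin p => (a j).val < x) ⊆ Finset.Iio k := by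
      intro j hj
      rw [Finset.mem_filter] at hj
      rw [Finset.mem_Iio]
      by_contra hjk
      have hkj : k ≤ j := not_lt.mp hjk
      have := Fin.le_def.mp (ha.monotone hkj)
      omega
    have := Finset.card_le_card hsub
    rw [Fin.card_Iio] at this
    omega

theorem le_iff_cntLt_le (a : Fin p → Fin N) (ha : StrictMono a) (a' : Fin p' → Fin N)
    (ha' : StrictMono a') (hpp : p' ≤ p) :
    (∀ j : Fin p', a (Fin.castLE hpp j) ≤ a' j) ↔ ∀ x, cntLt a' x ≤ cntLt a x := by
  constructor
  · intro h x
    unfold cntLt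
    apply Finset.card_le_card_of_injOn (Fin.castLE hpp)
    · intro j hj
      simp only [Finset.coe_filter, Finset.mem_univ, true_and, Set.mem_setOf_eq] at hj ⊢
      exact lt_of_le_of_lt (Fin.le_def.mp (h j)) hj
    · intro j _ j' _ hjj
      exact Fin.castLE_injective hpp hjj
  · intro h j
    rw [Fin.le_def]
    have h1 : j.val < cntLt a' ((a' j).val + 1) :=
      (lt_iff_lt_cntLt a' ha' j _).mp (Nat.lt_succ_self _)
    have h2 : (Fin.castLE hpp j).val < cntLt a ((a' j).val + 1) := by
      have := h ((a' j).val + 1)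
      simp only [Fin.val_castLE]
      omega
    have h3 := (lt_iff_lt_cntLt a ha (Fin.castLE hpp j) _).mpr h2
    omega

end Count

section Compl

variable {t d : ℕ}

theorem card_compl_image (B : Idx t d) :
    (Finset.univ \ Finset.univ.image B.1).card = d - t := by
  rw [Finset.card_sdiff_of_subset (Finset.subset_univ _), Finset.card_univ, Fintype.card_fin,
    Finset.card_image_of_injective _ B.2.injective, Finset.card_univ, Fintype.card_fin]

/-- the increasing enumeration of the complement of an increasing tuple -/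
def complIdx (B : Idx t d) : Idx (d - t) d :=
  ⟨(Finset.univ \ Finset.univ.image B.1).orderEmbOfFin (card_compl_image B),
    (Finset.orderEmbOfFin _ _).strictMono⟩

theorem complIdx_ne (B : Idx t d) (k : Fin (d - t)) (j : Fin t) : (complIdx B).1 k ≠ B.1 j := by
  have h := Finset.orderEmbOfFin_mem (Finset.univ \ Finset.univ.image B.1) (card_compl_image B) k
  rw [Finset.mem_sdiff] at h
  intro heq
  apply h.2
  rw [Finset.mem_image]
  exact ⟨j, Finset.mem_univ _, heq.symm⟩

theorem exists_complIdx_eq (B : Idx t d) (y : Fin d) (hy : ∀ j, B.1 j ≠ y) :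
    ∃ k, (complIdx B).1 k = y := by
  have hmem : y ∈ (Finset.univ \ Finset.univ.image B.1 : Finset (Fin d)) := by
    rw [Finset.mem_sdiff]
    refine ⟨Finset.mem_univ _, ?_⟩
    rw [Finset.mem_image]
    rintro ⟨j, -, hj⟩
    exact hy j hj
  have := Finset.range_orderEmbOfFin (Finset.univ \ Finset.univ.image B.1) (card_compl_image B)
  rw [← Finset.mem_coe, ← this] at hmem
  exact hmem

theorem cntLt_complIdx_add (B : Idx t d) (x : ℕ) :
    cntLt (complIdx B).1 x + cntLt B.1 x =
      (Finset.univ.filter fun y : Fin d => y.val < x).card := by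
  classical
  set s := Finset.univ.filter fun y : Fin d => y.val < x with hs
  have h1 : cntLt B.1 x = (s.filter fun y => y ∈ Finset.univ.image B.1).card := by
    unfold cntLt
    rw [← Finset.card_image_of_injective _ B.2.injective]
    congr 1
    ext y
    simp only [Finset.mem_image, Finset.mem_filter, Finset.mem_univ, true_and, hs]
    constructor
    · rintro ⟨j, hj, rfl⟩
      exact ⟨hj, j, rfl⟩
    · rintro ⟨hy, j, rfl⟩
      exact ⟨j, hy, rfl⟩
  have h2 : cntLt (complIdx B).1 x = (s.filter fun y => ¬ y ∈ Finset.univ.image B.1).card := by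
    unfold cntLt
    rw [← Finset.card_image_of_injective _ (complIdx B).2.injective]
    congr 1
    ext y
    simp only [Finset.mem_image, Finset.mem_filter, Finset.mem_univ, true_and, hs]
    constructor
    · rintro ⟨k, hk, rfl⟩
      refine ⟨hk, ?_⟩
      rintro ⟨j, hj⟩
      exact complIdx_ne B k j hj.symm
    · rintro ⟨hy, hny⟩
      obtain ⟨k, rfl⟩ := exists_complIdx_eq B y (fun j hj => hny ⟨j, hj⟩)
      exact ⟨k, hy, rfl⟩
  rw [h1, h2, add_comm]
  exact Finset.card_filter_add_card_filter_not _

/-- complement duality for the entrywise order -/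
theorem complIdx_le_iff {t' : ℕ} (B : Idx t d) (B' : Idx t' d) (htt : t ≤ t') :
    (∀ j : Fin t, B'.1 (Fin.castLE htt j) ≤ B.1 j) ↔
      ∀ k : Fin (d - t'), (complIdx B).1 (Fin.castLE (by omega) k) ≤ (complIdx B').1 k := by
  rw [le_iff_cntLt_le B'.1 B'.2 B.1 B.2 htt,
    le_iff_cntLt_le (complIdx B).1 (complIdx B).2 (complIdx B').1 (complIdx B').2 (by omega)]
  constructor
  · intro h x
    have h1 := cntLt_complIdx_add B x
    have h2 := cntLt_complIdx_add B' x
    have := h x
    omega
  · intro h x
    have h1 := cntLt_complIdx_add B x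
    have h2 := cntLt_complIdx_add B' x
    have := h x
    omega

end Compl

section Theta

variable {r d : ℕ}

theorem idx_card_le {t N : ℕ} (B : Idx t N) : t ≤ N := by
  have := Fintype.card_le_of_injective B.1 B.2.injective
  simpa using this

/-- the Plücker index attached to a minor: the complement of the columns, then the reversed rows -/
def thetaFun (M : MinorIdx r d) (k : Fin d) : Fin (d + r) :=
  if h : k.val < d - (M.1 + 1) then Fin.castAdd r ((complIdx M.2.2).1 ⟨k.val, h⟩)
  else Fin.natAdd d (Fin.rev (M.2.1.1 ⟨d - 1 - k.val, by have := k.isLt; omega⟩))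

theorem thetaFun_val_of_lt (M : MinorIdx r d) (k : Fin d) (h : k.val < d - (M.1 + 1)) :
    (thetaFun M k).val = ((complIdx M.2.2).1 ⟨k.val, h⟩).val := by
  unfold thetaFun
  rw [dif_pos h]
  rfl

theorem thetaFun_val_of_not_lt (M : MinorIdx r d) (k : Fin d) (h : ¬ k.val < d - (M.1 + 1)) :
    (thetaFun M k).val =
      d + (r - 1 - (M.2.1.1 ⟨d - 1 - k.val, by have := k.isLt; omega⟩).val) := by
  unfold thetaFun
  rw [dif_neg h]
  simp only [Fin.val_natAdd, Fin.val_rev]
  omega

theorem thetaFun_strictMono (M : MinorIdx r d) : StrictMono (thetaFun M) := by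
  intro k k' hkk
  rw [Fin.lt_def] at hkk ⊢
  by_cases h : k.val < d - (M.1 + 1)
  · by_cases h' : k'.val < d - (M.1 + 1)
    · rw [thetaFun_val_of_lt M k h, thetaFun_val_of_lt M k' h']
      exact Fin.lt_def.mp ((complIdx M.2.2).2 (by rw [Fin.lt_def]; exact hkk))
    · rw [thetaFun_val_of_lt M k h, thetaFun_val_of_not_lt M k' h']
      have := ((complIdx M.2.2).1 ⟨k.val, h⟩).isLt
      omega
  · have h' : ¬ k'.val < d - (M.1 + 1) := by omega
    rw [thetaFun_val_of_not_lt M k h, thetaFun_val_of_not_lt M k' h']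
    have hk' := k'.isLt
    have hlt : M.2.1.1 ⟨d - 1 - k'.val, by omega⟩ < M.2.1.1 ⟨d - 1 - k.val, by omega⟩ :=
      M.2.1.2 (by rw [Fin.lt_def]; simp only; omega)
    rw [Fin.lt_def] at hlt
    have := (M.2.1.1 ⟨d - 1 - k.val, by omega⟩).isLt
    omega

/-- the Plücker index attached to a minor -/
def thetaIdx (M : MinorIdx r d) : Idx d (d + r) := ⟨thetaFun M, thetaFun_strictMono M⟩

/-- the dictionary is an order isomorphism onto its image -/
theorem thetaIdx_le_iff (M M' : MinorIdx r d) : MinorGE M M' ↔ thetaIdx M ≤ thetaIdx M' := by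
  have hsd := idx_card_le M.2.2
  have hsd' := idx_card_le M'.2.2
  constructor
  · rintro ⟨hs, h⟩ k
    rw [Fin.le_def]
    change (thetaFun M k).val ≤ (thetaFun M' k).val
    by_cases h1 : k.val < d - (M'.1 + 1)
    · have h2 : k.val < d - (M.1 + 1) := by omega
      rw [thetaFun_val_of_lt M k h2, thetaFun_val_of_lt M' k h1]
      have hc := (complIdx_le_iff M.2.2 M'.2.2 (by omega)).mp
        (fun j => (h j (Fin.castLE (by omega) j) rfl).2) ⟨k.val, h1⟩
      exact Fin.le_def.mp hc
    · by_cases h2 : k.val < d - (M.1 + 1)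
      · rw [thetaFun_val_of_lt M k h2, thetaFun_val_of_not_lt M' k h1]
        have := ((complIdx M.2.2).1 ⟨k.val, h2⟩).isLt
        omega
      · rw [thetaFun_val_of_not_lt M k h2, thetaFun_val_of_not_lt M' k h1]
        have hk := k.isLt
        have := (h ⟨d - 1 - k.val, by omega⟩ ⟨d - 1 - k.val, by omega⟩ rfl).1
        rw [Fin.le_def] at this
        omega
  · intro hle
    have hs : M.1 ≤ M'.1 := by
      by_contra hlt
      have hk : d - (M.1 + 1) < d := by omega
      have h1 := hle ⟨d - (M.1 + 1), hk⟩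
      rw [Fin.le_def] at h1
      change (thetaFun M _).val ≤ (thetaFun M' _).val at h1
      rw [thetaFun_val_of_not_lt M _ (by simp), thetaFun_val_of_lt M' _ (by simp only; omega)] at h1
      have := ((complIdx M'.2.2).1 ⟨d - (M.1 + 1), by omega⟩).isLt
      omega
    refine ⟨hs, fun j j' hjj => ⟨?_, ?_⟩⟩
    · have hj := j.isLt
      have hk : d - 1 - j.val < d := by omega
      have h1 := hle ⟨d - 1 - j.val, hk⟩
      rw [Fin.le_def] at h1
      change (thetaFun M _).val ≤ (thetaFun M' _).val at h1
      rw [thetaFun_val_of_not_lt M _ (by simp only; omega),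
        thetaFun_val_of_not_lt M' _ (by simp only; omega)] at h1
      have e1 : (⟨d - 1 - (d - 1 - j.val), by omega⟩ : Fin (M.1 + 1)) = j := Fin.ext (by
        simp only; omega)
      have e2 : (⟨d - 1 - (d - 1 - j.val), by omega⟩ : Fin (M'.1 + 1)) = j' := Fin.ext (by
        simp only; omega)
      simp only at h1
      rw [e1, e2] at h1
      rw [Fin.le_def]
      have := (M.2.1.1 j).isLt
      have := (M'.2.1.1 j').isLt
      omega
    · have hc := (complIdx_le_iff M.2.2 M'.2.2 (by omega)).mpr (fun k => by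
        have hk : k.val < d := by have := k.isLt; omega
        have h1 := hle ⟨k.val, hk⟩
        rw [Fin.le_def] at h1
        change (thetaFun M _).val ≤ (thetaFun M' _).val at h1
        rw [thetaFun_val_of_lt M _ (by simp only; have := k.isLt; omega),
          thetaFun_val_of_lt M' _ k.isLt] at h1
        exact Fin.le_def.mpr h1) j
      have e : Fin.castLE (by omega) j = j' := Fin.ext (by simp only [Fin.val_castLE]; exact hjj)
      rw [e] at hc
      exact hc

theorem thetaIdx_last_ge (M : MinorIdx r d) (hd : 0 < d) :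
    d ≤ ((thetaIdx M).1 ⟨d - 1, by omega⟩).val := by
  have hsd := idx_card_le M.2.2
  change d ≤ (thetaFun M _).val
  rw [thetaFun_val_of_not_lt M _ (by simp only; omega)]
  omega

/-- the number of `Z`-rows of `θ(M)` is the size of `M` -/
theorem thetaIdx_val_lt_iff (M : MinorIdx r d) (k : Fin d) :
    ((thetaIdx M).1 k).val < d ↔ k.val < d - (M.1 + 1) := by
  change (thetaFun M k).val < d ↔ _
  constructor
  · intro h
    by_contra hk
    rw [thetaFun_val_of_not_lt M k hk] at h
    omega
  · intro hk
    rw [thetaFun_val_of_lt M k hk]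
    exact ((complIdx M.2.2).1 ⟨k.val, hk⟩).isLt

end Theta

section Inverse

variable {r d : ℕ}

/-- every index with a `Z`-row comes from a minor -/
theorem exists_thetaIdx_eq (θ : Idx d (d + r)) (hθ : ∃ k, d ≤ (θ.1 k).val) :
    ∃ M : MinorIdx r d, thetaIdx M = θ := by
  classical
  set p := cntLt θ.1 d with hp
  have hpk : ∀ k : Fin d, (θ.1 k).val < d ↔ k.val < p := fun k =>
    lt_iff_lt_cntLt θ.1 θ.2 k d
  have hpd : p < d := by
    obtain ⟨k, hk⟩ := hθ
    have h1 : ¬ k.val < p := fun h => by
      have := (hpk k).mpr h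
      omega
    have := k.isLt
    omega
  have hs : d - p - 1 + 1 = d - p := by omega
  -- the first block
  let C : Idx p d := ⟨fun k => ⟨(θ.1 (Fin.castLE hpd.le k)).val,
    (hpk _).mpr (by simp only [Fin.val_castLE]; exact k.isLt)⟩, by
    intro a b hab
    rw [Fin.lt_def]
    simp only
    exact Fin.lt_def.mp (θ.2 (by rw [Fin.lt_def]; simpa using hab))⟩
  let B : Idx (d - p - 1 + 1) d := ⟨fun j => (complIdx C).1 (Fin.cast hs j), by
    intro a b hab
    exact (complIdx C).2 (by rw [Fin.lt_def]; simpa using hab)⟩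
  have hge : ∀ j : Fin (d - p - 1 + 1), d - 1 - j.val < d := fun j => by
    have := j.isLt
    omega
  have hval : ∀ j : Fin (d - p - 1 + 1), d ≤ (θ.1 ⟨d - 1 - j.val, hge j⟩).val := by
    intro j
    by_contra hlt
    have h1 := (hpk ⟨d - 1 - j.val, hge j⟩).mp (by omega)
    have := j.isLt
    simp only at h1
    omega
  let A : Idx (d - p - 1 + 1) r := ⟨fun j => Fin.rev ⟨(θ.1 ⟨d - 1 - j.val, hge j⟩).val - d, by
      have := (θ.1 ⟨d - 1 - j.val, hge j⟩).isLt
      have := hval j
      omega⟩, by
    intro a b hab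
    rw [Fin.lt_def] at hab
    have h1 : θ.1 ⟨d - 1 - b.val, hge b⟩ < θ.1 ⟨d - 1 - a.val, hge a⟩ :=
      θ.2 (by rw [Fin.lt_def]; simp only; have := b.isLt; omega)
    rw [Fin.lt_def] at h1
    rw [Fin.lt_def]
    simp only [Fin.val_rev]
    have := hval a
    have := hval b
    have := (θ.1 ⟨d - 1 - a.val, hge a⟩).isLt
    omega⟩
  let M : MinorIdx r d := ⟨d - p - 1, A, B⟩
  refine ⟨M, ?_⟩
  -- double complement
  have hcc : ∀ k' : Fin (d - (d - p - 1 + 1)),
      (complIdx B).1 k' = C.1 (Fin.cast (by omega) k') := by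
    have hfun : (fun k' : Fin (d - (d - p - 1 + 1)) => C.1 (Fin.cast (by omega) k')) =
        (Finset.univ \ Finset.univ.image B.1).orderEmbOfFin (card_compl_image B) := by
      apply Finset.orderEmbOfFin_unique
      · intro k'
        rw [Finset.mem_sdiff]
        refine ⟨Finset.mem_univ _, ?_⟩
        rw [Finset.mem_image]
        rintro ⟨j, -, hj⟩
        exact complIdx_ne C _ _ hj
      · intro a b hab
        exact C.2 (by rw [Fin.lt_def]; simpa using hab)
    intro k'
    exact (congrFun hfun k').symm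
  apply Subtype.ext
  funext k
  apply Fin.ext
  change (thetaFun M k).val = (θ.1 k).val
  by_cases hk : k.val < d - (M.1 + 1)
  · rw [thetaFun_val_of_lt M k hk]
    have h1 := hcc ⟨k.val, hk⟩
    change ((complIdx B).1 ⟨k.val, hk⟩).val = _
    rw [h1]
    change (θ.1 (Fin.castLE hpd.le (Fin.cast _ ⟨k.val, hk⟩))).val = _
    congr 2
  · rw [thetaFun_val_of_not_lt M k hk]
    have hk' := k.isLt
    have hk2 : ¬ k.val < d - (d - p - 1 + 1) := hk
    have h1 : d ≤ (θ.1 k).val := by
      by_contra hlt
      have := (hpk k).mp (by omega)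
      omega
    have h2 := (θ.1 k).isLt
    have hj : d - 1 - k.val < d - p - 1 + 1 := by omega
    change d + (r - 1 - (A.1 ⟨d - 1 - k.val, hj⟩).val) = _
    have e : (⟨d - 1 - (⟨d - 1 - k.val, hj⟩ : Fin (d - p - 1 + 1)).val,
        hge ⟨d - 1 - k.val, hj⟩⟩ : Fin d) = k := Fin.ext (by simp only; omega)
    have h3 : (A.1 ⟨d - 1 - k.val, hj⟩).val = r - ((θ.1 k).val - d + 1) := by
      simp only [A, Fin.val_rev]
      rw [e]
    rw [h3]
    omega

end Inverse

end Groth.Agent.Lib.H5b

end
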