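import Groth.Agent.Lib.H5bDetRing
import Groth.Agent.Lib.Helper5IntDim

/-!
# Dimension of the generic determinantal ring over an arbitrary field (helper5)
-/

set_option autoImplicit false

universe u

noncomputable section

open MvPolynomial W4bk4grassmannian TensorProduct

namespace Groth.Agent.Lib.H5b

section BaseChange

attribute [local instance] Algebra.TensorProduct.rightAlgebra in
theorem ringKrullDim_tensor_eq (k : Type u) [Field k] (K : Type u) [Field K] [Algebra k K]
    [Algebra.IsAlgebraic k K] (A : Type u) [CommRing A] [Algebra k A] :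
    ringKrullDim (K ⊗[k] A) = ringKrullDim A := by
  have : Algebra.IsIntegral k K := Algebra.IsAlgebraic.isIntegral
  have : Algebra.IsIntegral A (K ⊗[k] A) :=
    Algebra.IsPushout.isIntegral (R := k) (S := K) (A := A) (K ⊗[k] A)
  apply Groth.Agent.Lib.Helper5.ringKrullDim_eq_of_isIntegral_of_injective A (K ⊗[k] A)
  exact Algebra.TensorProduct.includeRight_injective (algebraMap k K).injective

theorem map_minorIdeal {R S : Type u} [CommRing R] [CommRing S] (f : R →+* S) {m n : Type}
    [Fintype m] [Fintype n] (A : Matrix m n R) (r : ℕ) :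
    (CAlgX.minorIdeal A r).map f = CAlgX.minorIdeal (A.map f) r := by
  unfold CAlgX.minorIdeal
  rw [Ideal.map_span]
  congr 1
  ext x
  simp only [Set.mem_image, Set.mem_range, exists_exists_eq_and]
  constructor
  · rintro ⟨fg, rfl⟩
    refine ⟨fg, ?_⟩
    rw [RingHom.map_det]
    rfl
  · rintro ⟨fg, rfl⟩
    refine ⟨fg, ?_⟩
    rw [RingHom.map_det]
    rfl

end BaseChange

section DetDimField

variable (k : Type u) [Field k] (d r t : ℕ)

theorem genMatrix_map (K : Type u) [Field K] [Algebra k K] :
    (genMatrix k r d).map (MvPolynomial.map (algebraMap k K)) = genMatrix K r d := by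
  ext i j
  simp [genMatrix]

theorem ringKrullDim_detRing_eq_of_algebraic (K : Type u) [Field K] [Algebra k K]
    [Algebra.IsAlgebraic k K] :
    ringKrullDim (CellRing k d r ⧸ CAlgX.minorIdeal (genMatrix k r d) t) =
      ringKrullDim (CellRing K d r ⧸ CAlgX.minorIdeal (genMatrix K r d) t) := by
  rw [← ringKrullDim_tensor_eq k K (CellRing k d r ⧸ CAlgX.minorIdeal (genMatrix k r d) t)]
  set I := CAlgX.minorIdeal (genMatrix k r d) t with hI
  let e1 := Algebra.TensorProduct.tensorQuotientEquiv (R := k) K (CellRing k d r) K I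
  let e2 : K ⊗[k] CellRing k d r ≃ₐ[K] CellRing K d r := MvPolynomial.algebraTensorAlgEquiv k K
  let ι : CellRing k d r →+* K ⊗[k] CellRing k d r :=
    (Algebra.TensorProduct.includeRight (R := k) (A := K) (B := CellRing k d r) :
      CellRing k d r →ₐ[k] K ⊗[k] CellRing k d r).toRingHom
  have hcomp : ((e2 : K ⊗[k] CellRing k d r ≃+* CellRing K d r) : _ →+* _).comp ι =
      MvPolynomial.map (algebraMap k K) := by
    ext p
    · simp [e2, ι, MvPolynomial.algebraTensorAlgEquiv_tmul]
    · simp [e2, ι, MvPolynomial.algebraTensorAlgEquiv_tmul]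
  have hmap : CAlgX.minorIdeal (genMatrix K r d) t =
      (I.map ι).map ((e2 : K ⊗[k] CellRing k d r ≃+* CellRing K d r) : _ →+* _) := by
    rw [Ideal.map_map, hcomp, hI, map_minorIdeal, genMatrix_map]
  let e3 := Ideal.quotientEquiv _ _ (e2 : K ⊗[k] CellRing k d r ≃+* CellRing K d r) hmap
  exact ringKrullDim_eq_of_ringEquiv (e1.toRingEquiv.trans e3)

/-- dimension of the determinantal ring over an arbitrary field -/
theorem ringKrullDim_detRing_field (ht : 0 < t) (htd : t ≤ d) (htr : t ≤ r) :
    ringKrullDim (CellRing k d r ⧸ CAlgX.minorIdeal (genMatrix k r d) t) =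
      (((t - 1) * (r + d - t + 1) : ℕ) : WithBot ℕ∞) := by
  have hinf : Infinite (AlgebraicClosure k) := IsAlgClosed.instInfinite
  rw [ringKrullDim_detRing_eq_of_algebraic k d r t (AlgebraicClosure k)]
  exact ringKrullDim_detRing (AlgebraicClosure k) d r t ht htd htr

end DetDimField

end Groth.Agent.Lib.H5b

end
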