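import Groth.Agent.Lib.H5bBitB
import Groth.Agent.Lib.H5bDetDim

/-!
# Minors of the generic matrix as Plücker coordinates on the opposite cell (helper5)
-/

set_option autoImplicit false

universe u

noncomputable section

open MvPolynomial W4bk4grassmannian

namespace Groth.Agent.Lib.H5b

section ColPerm

variable {r d : ℕ}

/-- the column permutation: complement of the columns first, then the columns -/
def colPermFun (M : MinorIdx r d) (k : Fin d) : Fin d :=
  if h : k.val < d - (M.1 + 1) then (complIdx M.2.2).1 ⟨k.val, h⟩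
  else M.2.2.1 ⟨k.val - (d - (M.1 + 1)), by
    have := k.isLt
    have := idx_card_le M.2.2
    omega⟩

theorem colPermFun_injective (M : MinorIdx r d) : Function.Injective (colPermFun M) := by
  intro k k' hkk
  unfold colPermFun at hkk
  have hsd := idx_card_le M.2.2
  by_cases h : k.val < d - (M.1 + 1)
  · by_cases h' : k'.val < d - (M.1 + 1)
    · rw [dif_pos h, dif_pos h'] at hkk
      have := (complIdx M.2.2).2.injective hkk
      exact Fin.ext (by simpa using congrArg Fin.val this)
    · rw [dif_pos h, dif_neg h'] at hkk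
      exact absurd hkk (complIdx_ne M.2.2 _ _)
  · by_cases h' : k'.val < d - (M.1 + 1)
    · rw [dif_neg h, dif_pos h'] at hkk
      exact absurd hkk.symm (complIdx_ne M.2.2 _ _)
    · rw [dif_neg h, dif_neg h'] at hkk
      have := M.2.2.2.injective hkk
      have h2 := congrArg Fin.val this
      simp only at h2
      exact Fin.ext (by omega)

/-- the column permutation as an equivalence -/
def colPerm (M : MinorIdx r d) : Equiv.Perm (Fin d) :=
  Equiv.ofBijective (colPermFun M)
    ⟨colPermFun_injective M, Finite.surjective_of_injective (colPermFun_injective M)⟩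

end ColPerm

section DetId

variable (K : Type u) [Field K] {r d : ℕ}

/-- the minor with reversed rows attached to `M` -/
def revMinorMat (M : MinorIdx r d) : Matrix (Fin (M.1 + 1)) (Fin (M.1 + 1)) (CellRing K d r) :=
  Matrix.of fun a b => X (Fin.rev (M.2.1.1 (Fin.rev a)), M.2.2.1 b)

theorem cellMinor_thetaIdx (M : MinorIdx r d) :
    cellMinor K d r (thetaIdx M) =
      ((Equiv.Perm.sign (colPerm M).symm : ℤˣ) : ℤ) * (revMinorMat K M).det := by
  classical
  have hsd := idx_card_le M.2.2
  set p := d - (M.1 + 1) with hp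
  set N : Matrix (Fin d) (Fin d) (CellRing K d r) :=
    (cellMatrix K d r).submatrix (thetaIdx M).1 id with hN
  set τ := colPerm M with hτ
  set N' : Matrix (Fin d) (Fin d) (CellRing K d r) := N.submatrix id τ with hN'
  have hNN' : N = N'.submatrix id τ.symm := by
    ext i j
    simp [hN']
  have hdet : N.det = Equiv.Perm.sign τ.symm * N'.det := by
    conv_lhs => rw [hNN']
    exact Matrix.det_permute' τ.symm N'
  have hτv : ∀ j, τ j = colPermFun M j := fun j => rfl
  have hent1 : ∀ (i j : Fin d), i.val < p → N' i j = if i = j then 1 else 0 := by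
    intro i j hi
    simp only [hN', hN, Matrix.submatrix_apply, id_eq, cellMatrix, Matrix.of_apply]
    have h1 := thetaFun_val_of_lt M i hi
    have h2 : ((thetaIdx M).1 i).val = (thetaFun M i).val := rfl
    have h3 := ((complIdx M.2.2).1 ⟨i.val, hi⟩).isLt
    rw [dif_pos (by rw [h2, h1]; exact h3), h2, h1]
    have h4 : (complIdx M.2.2).1 ⟨i.val, hi⟩ = τ i := by
      rw [hτv]
      unfold colPermFun
      rw [dif_pos hi]
    rw [h4]
    by_cases hij : i = j
    · subst hij
      rw [if_pos rfl, if_pos rfl]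
    · rw [if_neg hij, if_neg]
      intro h
      exact hij (τ.injective (Fin.ext h))
  have hent2 : ∀ (i j : Fin d) (hi : ¬ i.val < p) (hj : ¬ j.val < p),
      N' i j = X (Fin.rev (M.2.1.1 ⟨d - 1 - i.val, by have := i.isLt; omega⟩),
        M.2.2.1 ⟨j.val - p, by have := j.isLt; omega⟩) := by
    intro i j hi hj
    simp only [hN', hN, Matrix.submatrix_apply, id_eq, cellMatrix, Matrix.of_apply]
    have h1 := thetaFun_val_of_not_lt M i hi
    have h2 : ((thetaIdx M).1 i).val = (thetaFun M i).val := rfl
    rw [dif_neg (by rw [h2, h1]; omega)]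
    congr 1
    apply Prod.ext
    · apply Fin.ext
      simp only [Fin.val_rev]
      rw [h2, h1]
      have := (M.2.1.1 ⟨d - 1 - i.val, by have := i.isLt; omega⟩).isLt
      omega
    · simp only
      rw [hτv]
      unfold colPermFun
      rw [dif_neg hj]
  have htri := Matrix.twoBlockTriangular_det N' (fun i : Fin d => ¬ i.val < p) (by
    intro i hi j hj
    have hi' : i.val < p := not_not.mp hi
    rw [hent1 i j hi', if_neg]
    intro h
    rw [h] at hi'
    exact hj hi')
  have hblock1 : (Matrix.toSquareBlockProp N' fun i : Fin d => ¬ ¬ i.val < p) = 1 := by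
    ext ⟨i, hi⟩ ⟨j, hj⟩
    rw [Matrix.toSquareBlockProp_def, Matrix.of_apply, hent1 i j (not_not.mp hi),
      Matrix.one_apply]
    simp only [Subtype.mk.injEq]
  let e : Fin (M.1 + 1) ≃ {i : Fin d // ¬ i.val < p} :=
    { toFun := fun a => ⟨⟨p + a.val, by have := a.isLt; omega⟩, by simp⟩
      invFun := fun i => ⟨i.1.val - p, by have := i.1.isLt; have := i.2; omega⟩
      left_inv := by
        intro a
        apply Fin.ext
        simp
      right_inv := by
        rintro ⟨i, hi⟩
        apply Subtype.ext
        apply Fin.ext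
        simp only
        omega }
  have hblock2 : (Matrix.toSquareBlockProp N' fun i : Fin d => ¬ i.val < p).submatrix e e =
      revMinorMat K M := by
    refine Matrix.ext fun a b => ?_
    rw [Matrix.submatrix_apply, Matrix.toSquareBlockProp_def, Matrix.of_apply,
      hent2 _ _ (e a).2 (e b).2]
    simp only [revMinorMat, Matrix.of_apply, e, Equiv.coe_fn_mk]
    have ha := a.isLt
    have e1 : ∀ h, (⟨d - 1 - (p + a.val), h⟩ : Fin (M.1 + 1)) = Fin.rev a := fun h =>
      Fin.ext (by simp only [Fin.val_rev]; omega)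
    have e2 : ∀ h, (⟨p + b.val - p, h⟩ : Fin (M.1 + 1)) = b := fun h => Fin.ext (by simp)
    rw [e1, e2]
  have h1 : cellMinor K d r (thetaIdx M) = N.det := rfl
  rw [h1, hdet, htri, hblock1, Matrix.det_one, mul_one, ← hblock2,
    Matrix.det_submatrix_equiv_self]

end DetId

section RowRev

variable (K : Type u) [Field K] (d r : ℕ)

/-- reversal of the rows of the generic matrix -/
def rowRev : CellRing K d r ≃ₐ[K] CellRing K d r :=
  MvPolynomial.renameEquiv K ((Fin.revPerm : Equiv.Perm (Fin r)).prodCongr (Equiv.refl (Fin d)))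

theorem rowRev_X (i : Fin r) (k : Fin d) :
    rowRev K d r (X (i, k)) = X (Fin.rev i, k) := by
  unfold rowRev
  rw [renameEquiv_apply, rename_X]
  rfl

variable {d r}

theorem rowRev_det_revMinorMat (M : MinorIdx r d) :
    rowRev K d r (revMinorMat K M).det =
      ((Equiv.Perm.sign (Fin.revPerm : Equiv.Perm (Fin (M.1 + 1))) : ℤˣ) : ℤ) * minorOf K M := by
  have h1 : rowRev K d r (revMinorMat K M).det =
      (((rowRev K d r : CellRing K d r ≃ₐ[K] CellRing K d r) : CellRing K d r →ₐ[K]
        CellRing K d r).mapMatrix (revMinorMat K M)).det := by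
    rw [← AlgHom.map_det]
    rfl
  have h2 : ((rowRev K d r : CellRing K d r ≃ₐ[K] CellRing K d r) : CellRing K d r →ₐ[K]
      CellRing K d r).mapMatrix (revMinorMat K M) =
      ((genMatrix K r d).submatrix M.2.1.1 M.2.2.1).submatrix
        (Fin.revPerm : Equiv.Perm (Fin (M.1 + 1))) id := by
    refine Matrix.ext fun a b => ?_
    simp only [AlgHom.mapMatrix_apply, Matrix.map_apply, revMinorMat, Matrix.of_apply,
      Matrix.submatrix_apply, genMatrix, id_eq, Fin.revPerm_apply]
    change rowRev K d r (X _) = _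
    rw [rowRev_X, Fin.rev_rev]
  rw [h1, h2, Matrix.det_permute]
  rfl

/-- a minor is, up to sign and row reversal, a Plücker coordinate on the cell -/
theorem exists_minorOf_eq (M : MinorIdx r d) : ∃ s : ℤˣ,
    minorOf K M = ((s : ℤ) : CellRing K d r) *
      rowRev K d r (cellMinor K d r (thetaIdx M)) := by
  refine ⟨Equiv.Perm.sign (colPerm M).symm *
    Equiv.Perm.sign (Fin.revPerm : Equiv.Perm (Fin (M.1 + 1))), ?_⟩
  rw [cellMinor_thetaIdx, map_mul, map_intCast, rowRev_det_revMinorMat]
  set s₁ : ℤˣ := Equiv.Perm.sign (colPerm M).symm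
  set s₂ : ℤˣ := Equiv.Perm.sign (Fin.revPerm : Equiv.Perm (Fin (M.1 + 1)))
  have h1 : ((s₁ : ℤ) : CellRing K d r) * ((s₁ : ℤ) : CellRing K d r) = 1 := by
    rw [← Int.cast_mul, ← Units.val_mul, Int.units_mul_self]
    simp
  have h2 : ((s₂ : ℤ) : CellRing K d r) * ((s₂ : ℤ) : CellRing K d r) = 1 := by
    rw [← Int.cast_mul, ← Units.val_mul, Int.units_mul_self]
    simp
  rw [Units.val_mul, Int.cast_mul]
  calc minorOf K M = (((s₁ : ℤ) : CellRing K d r) * ((s₁ : ℤ) : CellRing K d r)) *
        ((((s₂ : ℤ) : CellRing K d r) * ((s₂ : ℤ) : CellRing K d r)) * minorOf K M) := by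
        rw [h1, h2, one_mul, one_mul]
    _ = _ := by ring

theorem genMatrix_map_rowRev :
    (genMatrix K r d).map ((rowRev K d r : CellRing K d r ≃ₐ[K] CellRing K d r) :
      CellRing K d r →+* CellRing K d r) = (genMatrix K r d).submatrix Fin.rev id := by
  refine Matrix.ext fun i k => ?_
  simp only [Matrix.map_apply, genMatrix, Matrix.of_apply, Matrix.submatrix_apply, id_eq]
  exact rowRev_X K d r i k

theorem minorIdeal_submatrix_rev {R : Type u} [CommRing R] (G : Matrix (Fin r) (Fin d) R)
    (t : ℕ) : CAlgX.minorIdeal (G.submatrix Fin.rev id) t = CAlgX.minorIdeal G t := by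
  unfold CAlgX.minorIdeal
  apply le_antisymm
  · rw [Ideal.span_le]
    rintro _ ⟨⟨a, b⟩, rfl⟩
    apply Ideal.subset_span
    exact ⟨(Fin.rev ∘ a, b), rfl⟩
  · rw [Ideal.span_le]
    rintro _ ⟨⟨a, b⟩, rfl⟩
    apply Ideal.subset_span
    refine ⟨(Fin.rev ∘ a, b), ?_⟩
    simp only
    congr 1
    ext i j
    simp [Matrix.submatrix_apply]

theorem map_rowRev_minorIdeal (t : ℕ) :
    (CAlgX.minorIdeal (genMatrix K r d) t).map
      ((rowRev K d r : CellRing K d r ≃ₐ[K] CellRing K d r) :
        CellRing K d r →+* CellRing K d r) = CAlgX.minorIdeal (genMatrix K r d) t := by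
  rw [map_minorIdeal, genMatrix_map_rowRev, minorIdeal_submatrix_rev]

/-- row reversal on the determinantal ring -/
def rowRevQuot (t : ℕ) : (CellRing K d r ⧸ CAlgX.minorIdeal (genMatrix K r d) t) ≃ₐ[K]
    (CellRing K d r ⧸ CAlgX.minorIdeal (genMatrix K r d) t) :=
  Ideal.quotientEquivAlg _ _ (rowRev K d r) (map_rowRev_minorIdeal K t).symm

theorem rowRevQuot_mk (t : ℕ) (x : CellRing K d r) :
    rowRevQuot K t (Ideal.Quotient.mk _ x) = Ideal.Quotient.mk _ (rowRev K d r x) := rfl

end RowRev

end Groth.Agent.Lib.H5b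

end
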