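import Groth.Agent.Lib.H5bBitA
import Groth.Agent.Lib.H5bBitC

/-!
# The standard bitableaux basis of a determinantal ring (helper5)
-/

set_option autoImplicit false

universe u

noncomputable section

open MvPolynomial W4bk4grassmannian

namespace Groth.Agent.Lib.H5b

section ThetaMore

variable {r d : ℕ}

theorem thetaIdx_injective : Function.Injective (thetaIdx : MinorIdx r d → Idx d (d + r)) := by
  intro M M' h
  have h1 := (thetaIdx_le_iff M M').mpr (le_of_eq h)
  have h2 := (thetaIdx_le_iff M' M).mpr (le_of_eq h.symm)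
  obtain ⟨s, A, B⟩ := M
  obtain ⟨s', A', B'⟩ := M'
  obtain ⟨hs1, e1⟩ := h1
  obtain ⟨hs2, e2⟩ := h2
  have hss : s = s' := le_antisymm hs1 hs2
  subst hss
  have hA : A = A' := Subtype.ext (funext fun j =>
    le_antisymm ((e2 j j rfl).1) ((e1 j j rfl).1))
  have hB : B = B' := Subtype.ext (funext fun j =>
    le_antisymm ((e2 j j rfl).2) ((e1 j j rfl).2))
  rw [hA, hB]

theorem thetaIdx_ne_botIdx (hd : 0 < d) (hdn : d < d + r) (M : MinorIdx r d) :
    thetaIdx M ≠ botIdx hdn := by
  intro h
  have h1 := thetaIdx_last_ge M hd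
  rw [h] at h1
  simp only [botIdx] at h1
  omega

theorem exists_ge_of_ne_botIdx (hdn : d < d + r) (θ : Idx d (d + r)) (hθ : θ ≠ botIdx hdn) :
    ∃ k, d ≤ (θ.1 k).val := by
  by_contra hcon
  push Not at hcon
  apply hθ
  apply Subtype.ext
  funext k
  apply Fin.ext
  simp only [botIdx]
  have hd : 0 < d := lt_of_le_of_lt (Nat.zero_le _) k.isLt
  have h1 : k.val ≤ (θ.1 k).val := Groth.Agent.S11268.le_val d (d + r) θ k.val k.isLt
  have h2 := Idx.add_le θ (d - 1 - k.val) k ⟨d - 1, by omega⟩ (by
    have := k.isLt
    simp only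
    omega)
  have h3 := hcon ⟨d - 1, by omega⟩
  have h4 := k.isLt
  omega

end ThetaMore

section Main

variable (K : Type u) [Field K] (d r t : ℕ)

/-- index type of the standard bitableaux -/
abbrev BitIdx : Type := Σ k : ℕ, {c : Fin k → MinorIdx r d //
  (∀ i, (c i).1 + 1 ≤ t - 1) ∧ ∀ i j, i < j → MinorGE (c i) (c j)}

/-- the chain of Plücker indices of a standard bitableau -/
def bitChain (c : BitIdx d r t) : Chain d (d + r) :=
  ⟨c.1, ⟨fun i => thetaIdx (c.2.1 (Fin.rev i)), by
    intro i j hij
    rcases eq_or_lt_of_le hij with h | h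
    · rw [h]
    · exact (thetaIdx_le_iff _ _).mp (c.2.2.2 _ _ (Fin.rev_lt_rev.mpr h))⟩⟩

theorem bitChain_injective : Function.Injective (bitChain d r t) := by
  rintro ⟨k, f, hf⟩ ⟨k', f', hf'⟩ h
  have hk : k = k' := congrArg Sigma.fst h
  subst hk
  have h2 := eq_of_heq (Sigma.mk.inj h).2
  have h3 : ∀ i, thetaIdx (f (Fin.rev i)) = thetaIdx (f' (Fin.rev i)) := fun i =>
    congrFun (congrArg Subtype.val h2) i
  have h4 : f = f' := funext fun i => by
    have := thetaIdx_injective (h3 (Fin.rev i))
    rwa [Fin.rev_rev] at this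
  subst h4
  rfl

/-- the sign relating a minor to its Plücker coordinate -/
def signOf (M : MinorIdx r d) : ℤˣ := Classical.choose (exists_minorOf_eq K M)

theorem signOf_spec (M : MinorIdx r d) :
    minorOf K M = ((signOf K d r M : ℤ) : CellRing K d r) *
      rowRev K d r (cellMinor K d r (thetaIdx M)) :=
  Classical.choose_spec (exists_minorOf_eq K M)

/-- the sign of a bitableau, as a unit of `K` -/
def bitSign (c : BitIdx d r t) : Kˣ :=
  Units.map (Int.castRingHom K).toMonoidHom (∏ i, signOf K d r (c.2.1 i))

theorem mk_prod_minorOf (c : BitIdx d r t) :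
    Ideal.Quotient.mk (CAlgX.minorIdeal (genMatrix K r d) t) (∏ i, minorOf K (c.2.1 i)) =
      bitSign K d r t c • rowRevQuot K t (cellQuot K d r (CAlgX.minorIdeal (genMatrix K r d) t)
        (chainMon K (bitChain d r t c).2.1)) := by
  have e1 : cellMap K d r (chainMon K (bitChain d r t c).2.1) =
      ∏ i : Fin c.1, cellMinor K d r (thetaIdx (c.2.1 (Fin.rev i))) := by
    unfold chainMon
    rw [map_prod]
    exact Finset.prod_congr rfl (fun i _ => cellMap_X K d r _)
  have e2 : rowRev K d r (∏ i : Fin c.1, cellMinor K d r (thetaIdx (c.2.1 (Fin.rev i)))) =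
      ∏ i : Fin c.1, rowRev K d r (cellMinor K d r (thetaIdx (c.2.1 i))) := by
    rw [map_prod]
    exact Equiv.prod_comp (Fin.revPerm : Equiv.Perm (Fin c.1))
      (fun i => rowRev K d r (cellMinor K d r (thetaIdx (c.2.1 i))))
  have e3 : ∏ i : Fin c.1, minorOf K (c.2.1 i) =
      (∏ i : Fin c.1, ((signOf K d r (c.2.1 i) : ℤ) : CellRing K d r)) *
        ∏ i : Fin c.1, rowRev K d r (cellMinor K d r (thetaIdx (c.2.1 i))) := by
    rw [← Finset.prod_mul_distrib]
    exact Finset.prod_congr rfl (fun i _ => signOf_spec K d r (c.2.1 i))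
  rw [cellQuot_apply, rowRevQuot_mk, e1, e2, e3, map_mul, Units.smul_def, Algebra.smul_def]
  congr 1
  rw [map_prod]
  simp only [map_intCast]
  rw [← Int.cast_prod, ← Units.coe_prod]
  simp only [bitSign, Units.coe_map, MonoidHom.coe_coe, RingHom.toMonoidHom_eq_coe,
    eq_intCast, map_intCast]

end Main

section Basis

variable (K : Type u) [Field K] [Infinite K] (d r t : ℕ) (hd : 0 < d) (hr : 0 < r)
  (w : Idx d (d + r))
  (hI : Ideal.comap (cellMap K d r) (CAlgX.minorIdeal (genMatrix K r d) t) =
    schubertVanishing K d (d + r) w ⊔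
      Ideal.span {(X (cellBot d hr) - 1 : PlRing K d (d + r))})
  (hsize : ∀ M : MinorIdx r d, M.1 + 1 ≤ t - 1 ↔ thetaIdx M ≤ w)

include hd hI hsize in
theorem linearIndependent_cellQuot_bitChain :
    LinearIndependent K (fun c : BitIdx d r t =>
      cellQuot K d r (CAlgX.minorIdeal (genMatrix K r d) t)
        (chainMon K (bitChain d r t c).2.1)) := by
  classical
  have hdn : d < d + r := Nat.lt_add_of_pos_right hr
  rw [linearIndependent_iff]
  intro l hl
  set L := Finsupp.mapDomain (bitChain d r t) l with hL
  have h1 : cellQuot K d r (CAlgX.minorIdeal (genMatrix K r d) t) (stdComb K L) = 0 := by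
    unfold stdComb
    rw [hL, Finsupp.linearCombination_mapDomain]
    have := Finsupp.apply_linearCombination K
      (cellQuot K d r (CAlgX.minorIdeal (genMatrix K r d) t)).toLinearMap
      ((fun c : Chain d (d + r) => chainMon K c.2.1) ∘ bitChain d r t) l
    rw [AlgHom.toLinearMap_apply] at this
    rw [this]
    exact hl
  have hsupp : ∀ c ∈ L.support, ∀ j, botCover hdn ≤ c.2.1 j ∧ c.2.1 j ≤ w := by
    intro c hc j
    have hc' := Finsupp.mapDomain_support hc
    rw [Finset.mem_image] at hc'
    obtain ⟨b, -, rfl⟩ := hc'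
    constructor
    · by_contra hnot
      exact thetaIdx_ne_botIdx hd hdn _ ((not_botCover_le_iff hd hdn _).mp hnot)
    · exact (hsize _).mp (b.2.2.1 _)
  have h2 := eq_zero_of_cellQuot_stdComb_eq_zero K d r hd hr w _ hI L hsupp h1
  apply Finsupp.mapDomain_injective (bitChain_injective d r t)
  rw [← hL, h2, Finsupp.mapDomain_zero]

include hd hI hsize in
theorem cellQuot_chainMon_mem_span : ∀ (k : ℕ) (c : Fin k → Idx d (d + r)), Antitone c →
    (∀ j, c j ≤ w) →
      cellQuot K d r (CAlgX.minorIdeal (genMatrix K r d) t) (chainMon K c) ∈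
        Submodule.span K (Set.range fun c : BitIdx d r t =>
          cellQuot K d r (CAlgX.minorIdeal (genMatrix K r d) t)
            (chainMon K (bitChain d r t c).2.1)) := by
  classical
  have hdn : d < d + r := Nat.lt_add_of_pos_right hr
  intro k
  induction k with
  | zero =>
    intro c _ _
    apply Submodule.subset_span
    refine ⟨⟨0, ⟨fun i => i.elim0, fun i => i.elim0, fun i => i.elim0⟩⟩, ?_⟩
    simp only
    congr 1
  | succ k ih =>
    intro c hc hcw
    by_cases hlast : c (Fin.last k) = botIdx hdn
    · have h1 : chainMon K c = chainMon K (fun i : Fin k => c (Fin.castSucc i)) *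
          X (botIdx hdn) := by
        unfold chainMon
        rw [Fin.prod_univ_castSucc, hlast]
      rw [h1, map_mul]
      have h2 : cellQuot K d r (CAlgX.minorIdeal (genMatrix K r d) t)
          (X (botIdx hdn) : PlRing K d (d + r)) = 1 := by
        rw [cellQuot_apply]
        have := cellMap_X_bot K d r hr
        rw [this, map_one]
      rw [h2, mul_one]
      exact ih _ (fun i j hij => hc (Fin.castSucc_le_castSucc_iff.mpr hij))
        (fun j => hcw _)
    · have hne : ∀ i, c i ≠ botIdx hdn := by
        intro i hi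
        apply hlast
        have h1 : c (Fin.last k) ≤ c i := hc (Fin.le_last i)
        rw [hi] at h1
        exact le_antisymm h1 (botIdx_le hdn _)
      have hex : ∀ i, ∃ M : MinorIdx r d, thetaIdx M = c i := fun i =>
        exists_thetaIdx_eq (c i) (exists_ge_of_ne_botIdx hdn (c i) (hne i))
      choose Mf hMf using hex
      apply Submodule.subset_span
      refine ⟨⟨k + 1, ⟨fun i => Mf (Fin.rev i), ?_, ?_⟩⟩, ?_⟩
      · intro i
        rw [hsize, hMf]
        exact hcw _
      · intro i j hij
        rw [thetaIdx_le_iff, hMf, hMf]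
        exact hc (Fin.rev_le_rev.mpr hij.le)
      · simp only
        congr 2
        funext i
        simp only [bitChain, Fin.rev_rev]
        exact hMf i

include hd hI hsize in
theorem span_cellQuot_bitChain :
    Submodule.span K (Set.range fun c : BitIdx d r t =>
      cellQuot K d r (CAlgX.minorIdeal (genMatrix K r d) t)
        (chainMon K (bitChain d r t c).2.1)) = ⊤ := by
  rw [eq_top_iff]
  rintro y -
  obtain ⟨l, hl, rfl⟩ := exists_stdComb_cellQuot K d r hd hr w _ hI y
  unfold stdComb
  rw [Finsupp.linearCombination_apply, Finsupp.sum, map_sum]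
  apply Submodule.sum_mem
  intro c hc
  rw [map_smul]
  apply Submodule.smul_mem
  exact cellQuot_chainMon_mem_span K d r t hd hr w hI hsize c.1 c.2.1 c.2.2 (hl c hc)

include hd hI hsize in
/-- the standard bitableaux form a basis of the determinantal ring -/
theorem bitableaux_basis :
    LinearIndependent K (fun c : BitIdx d r t =>
        Ideal.Quotient.mk (CAlgX.minorIdeal (genMatrix K r d) t)
          (Finset.univ.prod fun i => minorOf K (c.2.1 i))) ∧
      Submodule.span K (Set.range fun c : BitIdx d r t =>
        Ideal.Quotient.mk (CAlgX.minorIdeal (genMatrix K r d) t)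
          (Finset.univ.prod fun i => minorOf K (c.2.1 i))) = ⊤ := by
  have hli := linearIndependent_cellQuot_bitChain K d r t hd hr w hI hsize
  have hsp := span_cellQuot_bitChain K d r t hd hr w hI hsize
  have hli2 := hli.map' (rowRevQuot K (d := d) (r := r) t).toLinearMap
    (LinearMap.ker_eq_bot.mpr (rowRevQuot K (d := d) (r := r) t).injective)
  have hli3 := hli2.units_smul (bitSign K d r t)
  have hfun : (fun c : BitIdx d r t =>
      Ideal.Quotient.mk (CAlgX.minorIdeal (genMatrix K r d) t)
        (Finset.univ.prod fun i => minorOf K (c.2.1 i))) =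
      bitSign K d r t • ((rowRevQuot K (d := d) (r := r) t).toLinearMap ∘
        fun c : BitIdx d r t => cellQuot K d r (CAlgX.minorIdeal (genMatrix K r d) t)
          (chainMon K (bitChain d r t c).2.1)) := by
    funext c
    rw [mk_prod_minorOf]
    rfl
  rw [hfun]
  refine ⟨hli3, ?_⟩
  rw [eq_top_iff]
  rintro y -
  obtain ⟨y', rfl⟩ := (rowRevQuot K (d := d) (r := r) t).surjective y
  have hy' : y' ∈ Submodule.span K (Set.range fun c : BitIdx d r t =>
      cellQuot K d r (CAlgX.minorIdeal (genMatrix K r d) t)
        (chainMon K (bitChain d r t c).2.1)) := by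
    rw [hsp]
    trivial
  have hmap := Submodule.mem_map_of_mem (f := (rowRevQuot K (d := d) (r := r) t).toLinearMap) hy'
  rw [Submodule.map_span] at hmap
  refine Submodule.span_le.mpr ?_ hmap
  rintro _ ⟨_, ⟨c, rfl⟩, rfl⟩
  have h1 : (rowRevQuot K (d := d) (r := r) t).toLinearMap
      (cellQuot K d r (CAlgX.minorIdeal (genMatrix K r d) t)
        (chainMon K (bitChain d r t c).2.1)) =
      (bitSign K d r t c)⁻¹ • ((bitSign K d r t • ((rowRevQuot K (d := d) (r := r) t).toLinearMap ∘
        fun c : BitIdx d r t => cellQuot K d r (CAlgX.minorIdeal (genMatrix K r d) t)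
          (chainMon K (bitChain d r t c).2.1))) c) := by
    rw [Pi.smul_apply', smul_smul, inv_mul_cancel, one_smul]
    rfl
  rw [h1]
  exact Submodule.smul_mem _ _ (Submodule.subset_span ⟨c, rfl⟩)

end Basis

section Cases

variable (K : Type u) [Field K] [Infinite K] (d r t : ℕ)

/-- the case of the zero ideal: the whole polynomial ring is the dehomogenization of the
Grassmannian cone -/
theorem comap_cellMap_bot_eq (hd : 0 < d) (hr : 0 < r) :
    Ideal.comap (cellMap K d r) (⊥ : Ideal (CellRing K d r)) =
      schubertVanishing K d (d + r) (topIdx (Nat.le_add_right d r)) ⊔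
        Ideal.span {(X (cellBot d hr) - 1 : PlRing K d (d + r))} := by
  apply le_antisymm
  · intro F hF
    rw [Ideal.mem_comap, Ideal.mem_bot] at hF
    exact ker_cellMap_le K d r hd hr _ F hF
  · apply sup_le
    · intro F hF
      rw [Ideal.mem_comap, Ideal.mem_bot]
      apply MvPolynomial.funext
      intro x
      have hx : x = fun p : Fin r × Fin d => (Matrix.of fun i k => x (i, k) :
          Matrix (Fin r) (Fin d) K) p.1 p.2 := by
        funext p
        simp
      rw [hx, eval_cellMap, map_zero]
      unfold schubertVanishing at hF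
      rw [Ideal.mem_iInf] at hF
      have h1 := hF (cellPt K d r (Matrix.of fun i k => x (i, k)))
      rw [Ideal.mem_iInf] at h1
      exact h1 (fun φ hφ => absurd (le_topIdx _ φ) hφ)
    · rw [Ideal.span_le, Set.singleton_subset_iff, SetLike.mem_coe, Ideal.mem_comap, map_sub,
        cellMap_X_bot K d r hr, map_one, sub_self]
      exact zero_mem _

omit [Infinite K] in
theorem minorIdeal_eq_bot_of_lt (h : ¬ (t ≤ d ∧ t ≤ r)) :
    CAlgX.minorIdeal (genMatrix K r d) t = ⊥ := by
  classical
  unfold CAlgX.minorIdeal
  rw [Ideal.span_eq_bot]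
  rintro _ ⟨⟨a, b⟩, rfl⟩
  by_cases hd : t ≤ d
  · have hr : ¬ t ≤ r := fun hr => h ⟨hd, hr⟩
    have hninj : ¬ Function.Injective a := by
      intro hinj
      have := Fintype.card_le_of_injective a hinj
      simp at this
      omega
    rw [Function.Injective] at hninj
    push Not at hninj
    obtain ⟨s, s', hst, hne⟩ := hninj
    apply Matrix.det_zero_of_row_eq hne
    ext j
    simp [hst]
  · have hninj : ¬ Function.Injective b := by
      intro hinj
      have := Fintype.card_le_of_injective b hinj
      simp at this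
      omega
    rw [Function.Injective] at hninj
    push Not at hninj
    obtain ⟨s, s', hst, hne⟩ := hninj
    apply Matrix.det_zero_of_column_eq hne
    intro j
    simp [hst]

end Cases

end Groth.Agent.Lib.H5b

end
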