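import Mathlib
import Groth.Prelude.Def_Desc

/-!
# Descent data for schemes: basic lemmas (helper5)

`isoOfInv` (isomorphism of descent data from an inverse of the underlying morphism),
`exists_lift` (lifting a morphism of descent data through an open immersion of descent data),
`isPullback_toDD_map`, `saturated` (the preimage of a stable open under a morphism from a canonical
descent datum is saturated for the projection to the descended scheme).
-/

set_option autoImplicit false
universe u

namespace Groth.Agent.Lib.H5bDDGlue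

open CategoryTheory CategoryTheory.Limits AlgebraicGeometry Desc

variable {X S : Scheme.{u}} {p : X ⟶ S}

/-- an isomorphism of descent data from an inverse of the underlying morphism. -/
def isoOfInv {D D' : SchDD p} (a : D ⟶ D') (b : D'.obj ⟶ D.obj)
    (h1 : a.hom ≫ b = 𝟙 _) (h2 : b ≫ a.hom = 𝟙 _) : D ≅ D' where
  hom := a
  inv := ⟨b, by
    intro T x₀ x₁ h v w hw
    have h2' : b.left ≫ a.hom.left = 𝟙 _ := congrArg (fun m => m.left) h2
    have h1' : a.hom.left ≫ b.left = 𝟙 _ := congrArg (fun m => m.left) h1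
    have hv : v.1 = w.1 ≫ a.hom.left := by
      rw [hw, Category.assoc, h2', Category.comp_id]
    rw [a.comm x₀ x₁ h w v hv, Category.assoc, h1', Category.comp_id]⟩
  hom_inv_id := SchDD.hom_ext h1
  inv_hom_id := SchDD.hom_ext h2

/-- the compatibility of a morphism of descent data, in pushed form. -/
lemma comm_push {D D' : SchDD p} (j : D ⟶ D') {T : Scheme.{u}} (x₀ x₁ : T ⟶ X)
    (h : x₀ ≫ p = x₁ ≫ p) (v : Lifts D.obj x₀) :
    (D'.φ x₀ x₁ h (SchDD.Hom.push j v)).1 = (D.φ x₀ x₁ h v).1 ≫ j.hom.left :=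
  j.comm x₀ x₁ h v (SchDD.Hom.push j v) rfl

/-- lifting a morphism of descent data through an open immersion. -/
lemma exists_lift {D₁ D₂ D : SchDD p} (j₁ : D₁ ⟶ D) (j₂ : D₂ ⟶ D) [IsOpenImmersion j₂.hom.left]
    (h : Set.range j₁.hom.left ⊆ Set.range j₂.hom.left) :
    ∃ l : D₁ ⟶ D₂, l ≫ j₂ = j₁ := by
  let l0 : D₁.obj.left ⟶ D₂.obj.left := IsOpenImmersion.lift j₂.hom.left j₁.hom.left h
  have hl0 : l0 ≫ j₂.hom.left = j₁.hom.left := IsOpenImmersion.lift_fac _ _ _
  have hw : l0 ≫ D₂.obj.hom = D₁.obj.hom := by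
    rw [← Over.w j₂.hom, ← Category.assoc, hl0, Over.w j₁.hom]
  refine ⟨⟨Over.homMk l0 hw, ?_⟩, ?_⟩
  · intro T x₀ x₁ hx v w hw'
    have hw'' : w.1 = v.1 ≫ l0 := hw'
    rw [← cancel_mono j₂.hom.left, Category.assoc]
    change _ = _ ≫ l0 ≫ _
    rw [hl0, ← comm_push j₁ x₀ x₁ hx v, ← comm_push j₂ x₀ x₁ hx w]
    congr 2
    apply Subtype.ext
    change w.1 ≫ j₂.hom.left = v.1 ≫ j₁.hom.left
    rw [hw'', Category.assoc, hl0]
  · apply SchDD.hom_ext
    apply Over.OverMorphism.ext
    exact hl0

/-- a monomorphism criterion: morphisms into the source of an open immersion of descent data are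
determined by their composites. -/
lemma hom_ext_of_mono {D₁ D₂ D : SchDD p} (j : D₂ ⟶ D) [Mono j.hom.left] {a b : D₁ ⟶ D₂}
    (h : a ≫ j = b ≫ j) : a = b := by
  apply SchDD.hom_ext
  apply Over.OverMorphism.ext
  rw [← cancel_mono j.hom.left]
  exact congrArg (fun m => m.hom.left) h

/-- the projection from the scheme of the canonical descent datum of `U` to `U`. -/
noncomputable def sndU (p : X ⟶ S) (U : Over S) : ((toDD p).obj U).obj.left ⟶ U.left :=
  pullback.snd p U.hom

lemma isPullback_toDD (U : Over S) :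
    IsPullback ((toDD p).obj U).obj.hom (sndU p U) p U.hom :=
  IsPullback.of_hasPullback p U.hom

lemma toDD_cond (U : Over S) : ((toDD p).obj U).obj.hom ≫ p = sndU p U ≫ U.hom :=
  pullback.condition

lemma toDD_hom_ext {U : Over S} {T : Scheme.{u}} {a b : T ⟶ ((toDD p).obj U).obj.left}
    (h1 : a ≫ ((toDD p).obj U).obj.hom = b ≫ ((toDD p).obj U).obj.hom)
    (h2 : a ≫ sndU p U = b ≫ sndU p U) : a = b :=
  pullback.hom_ext h1 h2

lemma toDD_map_snd {U U' : Over S} (g : U ⟶ U') :
    ((toDD p).map g).hom.left ≫ sndU p U' = sndU p U ≫ g.left :=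
  pullback.lift_snd _ _ _

lemma toDD_φ_snd {U : Over S} {T : Scheme.{u}} (x₀ x₁ : T ⟶ X) (h : x₀ ≫ p = x₁ ≫ p)
    (v : Lifts ((toDD p).obj U).obj x₀) :
    (((toDD p).obj U).φ x₀ x₁ h v).1 ≫ sndU p U = v.1 ≫ sndU p U :=
  pullback.lift_snd _ _ _

instance (U : Over S) [Surjective p] : Surjective (sndU p U) :=
  inferInstanceAs (Surjective (pullback.snd p U.hom))

instance (U : Over S) [Flat p] : Flat (sndU p U) :=
  inferInstanceAs (Flat (pullback.snd p U.hom))

instance (U : Over S) [QuasiCompact p] : QuasiCompact (sndU p U) :=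
  inferInstanceAs (QuasiCompact (pullback.snd p U.hom))

/-- the canonical descent datum functor sends a morphism to a cartesian square over it. -/
lemma isPullback_toDD_map {U U' : Over S} (g : U ⟶ U') :
    IsPullback ((toDD p).map g).hom.left (sndU p U) (sndU p U') g.left := by
  refine IsPullback.of_right ?_ (toDD_map_snd g) (isPullback_toDD U')
  rw [Over.w ((toDD p).map g).hom, Over.w g]
  exact isPullback_toDD U

instance {U U' : Over S} (g : U ⟶ U') [IsOpenImmersion g.left] :
    IsOpenImmersion ((toDD p).map g).hom.left :=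
  MorphismProperty.of_isPullback (P := @IsOpenImmersion) (isPullback_toDD_map g).flip inferInstance

lemma range_toDD_map {U U' : Over S} (g : U ⟶ U') :
    Set.range ((toDD p).map g).hom.left = (sndU p U') ⁻¹' Set.range g.left := by
  have := Scheme.image_preimage_eq_of_isPullback (isPullback_toDD_map (p := p) g).flip Set.univ
  rw [Set.preimage_univ, Set.image_univ, Set.image_univ] at this
  exact this

end Groth.Agent.Lib.H5bDDGlue
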