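import Mathlib
import Groth.Prelude.Def_Desc
import Groth.Prelude.Def_DescFam
import Groth.Agent.Lib.H5bDDGlueA

/-!
# Descent data for schemes: an effectivity criterion and pullback of descent data (helper5)

* `toDD_lift`: morphisms into the scheme of a canonical descent datum.
* `nonempty_iso_of_invariant`: `D` is isomorphic to the canonical descent datum of `U` as soon as
  there is an invariant morphism `c : V ⟶ U` inducing an isomorphism `V ≅ X ×_S U`.
* `pullDD`: pullback of a descent datum along a commutative square.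
-/

set_option autoImplicit false
universe u

namespace Groth.Agent.Lib.H5bDDGlue

open CategoryTheory CategoryTheory.Limits AlgebraicGeometry Desc

variable {X S : Scheme.{u}} {p : X ⟶ S}

/-- morphisms into the scheme of a canonical descent datum. -/
noncomputable def toDD_lift {U : Over S} {T : Scheme.{u}} (x : T ⟶ X) (c : T ⟶ U.left)
    (h : x ≫ p = c ≫ U.hom) : T ⟶ ((toDD p).obj U).obj.left :=
  pullback.lift x c h

@[reassoc (attr := simp)]
lemma toDD_lift_hom {U : Over S} {T : Scheme.{u}} (x : T ⟶ X) (c : T ⟶ U.left)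
    (h : x ≫ p = c ≫ U.hom) : toDD_lift x c h ≫ ((toDD p).obj U).obj.hom = x :=
  pullback.lift_fst _ _ _

@[reassoc (attr := simp)]
lemma toDD_lift_snd {U : Over S} {T : Scheme.{u}} (x : T ⟶ X) (c : T ⟶ U.left)
    (h : x ≫ p = c ≫ U.hom) : toDD_lift x c h ≫ sndU p U = c :=
  pullback.lift_snd _ _ _

lemma isIso_toDD_lift_of_isPullback {U : Over S} {V : Scheme.{u}} {f : V ⟶ X} {c : V ⟶ U.left}
    (hpb : IsPullback f c p U.hom) : IsIso (toDD_lift f c hpb.w) := by
  have : toDD_lift f c hpb.w = (hpb.isoIsPullback _ _ (isPullback_toDD U)).hom := by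
    apply toDD_hom_ext
    · rw [toDD_lift_hom, IsPullback.isoIsPullback_hom_fst]
    · rw [toDD_lift_snd, IsPullback.isoIsPullback_hom_snd]
  rw [this]
  infer_instance

/-- invariance of the projection to `U` under the canonical gluing bijections, transported along an
isomorphism of descent data. -/
lemma invariant_of_iso {D : SchDD p} {U : Over S} (e : (toDD p).obj U ≅ D) {T : Scheme.{u}}
    (x₀ x₁ : T ⟶ X) (h : x₀ ≫ p = x₁ ≫ p) (w : Lifts D.obj x₀) :
    (D.φ x₀ x₁ h w).1 ≫ e.inv.hom.left ≫ sndU p U = w.1 ≫ e.inv.hom.left ≫ sndU p U := by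
  have := comm_push e.inv x₀ x₁ h w
  rw [← Category.assoc, ← this, toDD_φ_snd]
  exact Category.assoc _ _ _

/-- the effectivity criterion. -/
theorem nonempty_iso_of_invariant (D : SchDD p) (U : Over S) (c : D.obj.left ⟶ U.left)
    (hc : D.obj.hom ≫ p = c ≫ U.hom) [IsIso (toDD_lift D.obj.hom c hc)]
    (hinv : ∀ ⦃T : Scheme.{u}⦄ (x₀ x₁ : T ⟶ X) (h : x₀ ≫ p = x₁ ≫ p) (w : Lifts D.obj x₀),
      (D.φ x₀ x₁ h w).1 ≫ c = w.1 ≫ c) :
    Nonempty ((toDD p).obj U ≅ D) := by
  let b := toDD_lift D.obj.hom c hc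
  let a : D ⟶ (toDD p).obj U := ⟨Over.homMk b (toDD_lift_hom _ _ _), by
    intro T x₀ x₁ h v w hw
    have hw' : w.1 = v.1 ≫ b := hw
    change _ = _ ≫ b
    apply toDD_hom_ext
    · rw [Category.assoc, toDD_lift_hom]
      exact (((toDD p).obj U).φ x₀ x₁ h w).2.trans (D.φ x₀ x₁ h v).2.symm
    · rw [toDD_φ_snd, hw']
      simp only [Category.assoc, b, toDD_lift_snd, hinv]⟩
  have hb : inv b ≫ D.obj.hom = ((toDD p).obj U).obj.hom := by
    rw [IsIso.inv_comp_eq, toDD_lift_hom]
  exact ⟨(isoOfInv a (Over.homMk (inv b) hb) (Over.OverMorphism.ext (IsIso.hom_inv_id b))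
    (Over.OverMorphism.ext (IsIso.inv_hom_id b))).symm⟩

section pull

set_option backward.isDefEq.respectTransparency false
set_option backward.isDefEq.respectTransparency.types false

variable {X' S' : Scheme.{u}} {q : X' ⟶ X} {s : S' ⟶ S} {p' : X' ⟶ S'} (w : q ≫ p = p' ≫ s)

include w in
lemma pull_compat {T : Scheme.{u}} (x₀ x₁ : T ⟶ X') (h : x₀ ≫ p' = x₁ ≫ p') :
    (x₀ ≫ q) ≫ p = (x₁ ≫ q) ≫ p := by
  rw [Category.assoc, w, ← Category.assoc, h, Category.assoc, ← w, Category.assoc]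

/-- pullback of a descent datum along a commutative square. -/
noncomputable def pullDD (D : SchDD p) : SchDD p' where
  obj := Over.mk (pullback.snd D.obj.hom q)
  φ T x₀ x₁ h :=
    (liftsPullbackEquiv D.obj q x₀).trans
      ((D.φ (x₀ ≫ q) (x₁ ≫ q) (pull_compat w x₀ x₁ h)).trans
        (liftsPullbackEquiv D.obj q x₁).symm)
  φ_natural T T' g x₀ x₁ h h' v v' hv' := by
    apply pullback.hom_ext
    · simp only [Equiv.trans_apply, liftsPullbackEquiv, Equiv.coe_fn_mk, Equiv.coe_fn_symm_mk,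
        pullback.lift_fst, Category.assoc]
      have := D.φ_natural g (x₀ ≫ q) (x₁ ≫ q) (pull_compat w x₀ x₁ h)
        (by rw [← Category.assoc, ← Category.assoc]; exact pull_compat w (g ≫ x₀) (g ≫ x₁) h')
        (liftsPullbackEquiv D.obj q x₀ v)
        ⟨v'.1 ≫ pullback.fst D.obj.hom q, by
          rw [Category.assoc, pullback.condition, ← Category.assoc]
          have e : v'.1 ≫ pullback.snd D.obj.hom q = g ≫ x₀ := v'.2
          rw [e, Category.assoc]⟩ (by simp [liftsPullbackEquiv, hv'])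
      refine Eq.trans ?_ this
      congr 1
    · simp [liftsPullbackEquiv]
  φ_self T x v := by
    apply Subtype.ext
    simp only [Equiv.trans_apply, D.φ_self]
    apply pullback.hom_ext
    · simp [liftsPullbackEquiv]
    · simpa [liftsPullbackEquiv] using v.2.symm
  φ_comp T x₀ x₁ x₂ h₀₁ h₁₂ v := by
    simp only [Equiv.trans_apply, Equiv.apply_symm_apply, D.φ_comp]

lemma pullDD_φ_fst (D : SchDD p) {T : Scheme.{u}} (x₀ x₁ : T ⟶ X') (h : x₀ ≫ p' = x₁ ≫ p')
    (u : Lifts (pullDD w D).obj x₀) :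
    ((pullDD w D).φ x₀ x₁ h u).1 ≫ pullback.fst D.obj.hom q =
      (D.φ (x₀ ≫ q) (x₁ ≫ q) (pull_compat w x₀ x₁ h) (liftsPullbackEquiv D.obj q x₀ u)).1 :=
  pullback.lift_fst _ _ _

/-- the projection from the scheme of the pulled back descent datum. -/
noncomputable def prD (D : SchDD p) : (pullDD w D).obj.left ⟶ D.obj.left :=
  pullback.fst D.obj.hom q

lemma isPullback_pullDD (D : SchDD p) :
    IsPullback (prD w D) (pullDD w D).obj.hom D.obj.hom q :=
  IsPullback.of_hasPullback D.obj.hom q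

lemma prD_cond (D : SchDD p) : prD w D ≫ D.obj.hom = (pullDD w D).obj.hom ≫ q :=
  pullback.condition

lemma pullDD_hom_ext (D : SchDD p) {T : Scheme.{u}} {a b : T ⟶ (pullDD w D).obj.left}
    (h1 : a ≫ prD w D = b ≫ prD w D)
    (h2 : a ≫ (pullDD w D).obj.hom = b ≫ (pullDD w D).obj.hom) : a = b :=
  pullback.hom_ext h1 h2

/-- morphisms into the scheme of the pulled back descent datum. -/
noncomputable def pullDD_lift (D : SchDD p) {T : Scheme.{u}} (v : T ⟶ D.obj.left) (y : T ⟶ X')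
    (h : v ≫ D.obj.hom = y ≫ q) : T ⟶ (pullDD w D).obj.left :=
  pullback.lift v y h

@[reassoc (attr := simp)]
lemma pullDD_lift_pr (D : SchDD p) {T : Scheme.{u}} (v : T ⟶ D.obj.left) (y : T ⟶ X')
    (h : v ≫ D.obj.hom = y ≫ q) : pullDD_lift w D v y h ≫ prD w D = v :=
  pullback.lift_fst _ _ _

@[reassoc (attr := simp)]
lemma pullDD_lift_hom (D : SchDD p) {T : Scheme.{u}} (v : T ⟶ D.obj.left) (y : T ⟶ X')
    (h : v ≫ D.obj.hom = y ≫ q) : pullDD_lift w D v y h ≫ (pullDD w D).obj.hom = y :=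
  pullback.lift_snd _ _ _

lemma pullDD_φ_pr (D : SchDD p) {T : Scheme.{u}} (x₀ x₁ : T ⟶ X') (h : x₀ ≫ p' = x₁ ≫ p')
    (u : Lifts (pullDD w D).obj x₀) (v : Lifts D.obj (x₀ ≫ q)) (hv : v.1 = u.1 ≫ prD w D) :
    ((pullDD w D).φ x₀ x₁ h u).1 ≫ prD w D =
      (D.φ (x₀ ≫ q) (x₁ ≫ q) (pull_compat w x₀ x₁ h) v).1 := by
  have : v = liftsPullbackEquiv D.obj q x₀ u := Subtype.ext hv
  rw [this]
  exact pullback.lift_fst _ _ _

instance (D : SchDD p) [IsOpenImmersion q] : IsOpenImmersion (prD w D) :=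
  inferInstanceAs (IsOpenImmersion (pullback.fst D.obj.hom q))

instance (D : SchDD p) [Surjective q] : Surjective (prD w D) :=
  inferInstanceAs (Surjective (pullback.fst D.obj.hom q))

instance (D : SchDD p) [Flat q] : Flat (prD w D) :=
  inferInstanceAs (Flat (pullback.fst D.obj.hom q))

instance (D : SchDD p) [QuasiCompact q] : QuasiCompact (prD w D) :=
  inferInstanceAs (QuasiCompact (pullback.fst D.obj.hom q))

instance (D : SchDD p) [IsAffineHom D.obj.hom] : IsAffineHom (pullDD w D).obj.hom :=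
  MorphismProperty.pullback_snd (P := @IsAffineHom) D.obj.hom q inferInstance

end pull

/-- the gluing bijections only depend on the points up to equality. -/
lemma φ_congr (D : SchDD p) {T : Scheme.{u}} {x₀ y₀ x₁ y₁ : T ⟶ X} (e₀ : x₀ = y₀) (e₁ : x₁ = y₁)
    (h : x₀ ≫ p = x₁ ≫ p) (h' : y₀ ≫ p = y₁ ≫ p) (v : Lifts D.obj x₀) (v' : Lifts D.obj y₀)
    (hv : v.1 = v'.1) : (D.φ x₀ x₁ h v).1 = (D.φ y₀ y₁ h' v').1 := by
  subst e₀ e₁
  have : v = v' := Subtype.ext hv
  rw [this]

end Groth.Agent.Lib.H5bDDGlue
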