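import Mathlib
import Groth.Prelude.Def_Desc
import Groth.Agent.Lib.H5bDDGlueA

/-!
# Descent data for schemes: saturation and intersections of effective stable opens (helper5)
-/

set_option autoImplicit false
universe u

namespace Groth.Agent.Lib.H5bDDGlue

open CategoryTheory CategoryTheory.Limits AlgebraicGeometry Desc

variable {X S : Scheme.{u}} {p : X ⟶ S} {D : SchDD p}

/-- The preimage, under a morphism from a canonical descent datum, of the range of an open
immersion of descent data is saturated for the projection to the descended scheme. -/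
lemma saturated {U₁ : Over S} {D₂ : SchDD p} (j₁ : (toDD p).obj U₁ ⟶ D) (j₂ : D₂ ⟶ D)
    [IsOpenImmersion j₂.hom.left] (z z' : ↥((toDD p).obj U₁).obj.left)
    (hz : sndU p U₁ z = sndU p U₁ z')
    (hzW : j₁.hom.left z ∈ Set.range j₂.hom.left) :
    j₁.hom.left z' ∈ Set.range j₂.hom.left := by
  obtain ⟨y, hy1, hy2⟩ := Scheme.Pullback.exists_preimage_pullback
    (f := sndU p U₁) (g := sndU p U₁) z z' hz
  let P2 := pullback (sndU p U₁) (sndU p U₁)
  let T := Spec (P2.residueField y)
  let t0 : T ⟶ P2 := P2.fromSpecResidueField y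
  let t : T ⟶ ((toDD p).obj U₁).obj.left := t0 ≫ pullback.fst _ _
  let t' : T ⟶ ((toDD p).obj U₁).obj.left := t0 ≫ pullback.snd _ _
  have htt' : t ≫ sndU p U₁ = t' ≫ sndU p U₁ := by
    simp only [t, t', Category.assoc, pullback.condition]
  let x₀ : T ⟶ X := t ≫ ((toDD p).obj U₁).obj.hom
  let x₁ : T ⟶ X := t' ≫ ((toDD p).obj U₁).obj.hom
  have h : x₀ ≫ p = x₁ ≫ p := by
    simp only [x₀, x₁, Category.assoc, toDD_cond]
    rw [← Category.assoc, htt', Category.assoc]
  let v : Lifts ((toDD p).obj U₁).obj x₀ := ⟨t, rfl⟩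
  have hφ : (((toDD p).obj U₁).φ x₀ x₁ h v).1 = t' := by
    apply toDD_hom_ext
    · exact (((toDD p).obj U₁).φ x₀ x₁ h v).2
    · exact (toDD_φ_snd x₀ x₁ h v).trans htt'
  have e1 := comm_push j₁ x₀ x₁ h v
  rw [hφ] at e1
  have hpt : ∀ a : T, t0 a = y := by
    intro a
    have : t0 a ∈ Set.range t0 := ⟨a, rfl⟩
    rw [Scheme.range_fromSpecResidueField] at this
    exact this
  have hr : Set.range (t ≫ j₁.hom.left) ⊆ Set.range j₂.hom.left := by
    rintro _ ⟨a, rfl⟩
    have : t a = z := by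
      change (t0 ≫ pullback.fst _ _) a = z
      rw [Scheme.Hom.comp_apply, hpt a]
      exact hy1
    rw [Scheme.Hom.comp_apply, this]
    exact hzW
  let s : T ⟶ D₂.obj.left := IsOpenImmersion.lift j₂.hom.left (t ≫ j₁.hom.left) hr
  have hs : s ≫ j₂.hom.left = t ≫ j₁.hom.left := IsOpenImmersion.lift_fac _ _ _
  have hs2 : s ≫ D₂.obj.hom = x₀ := by
    rw [← Over.w j₂.hom, ← Category.assoc, hs, Category.assoc, Over.w j₁.hom]
  have e2 := comm_push j₂ x₀ x₁ h ⟨s, hs2⟩
  have e3 : SchDD.Hom.push j₂ ⟨s, hs2⟩ = SchDD.Hom.push j₁ v := Subtype.ext hs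
  rw [e3, e1] at e2
  obtain ⟨a⟩ : Nonempty T := inferInstance
  have ha : t' a = z' := by
    change (t0 ≫ pullback.snd _ _) a = z'
    rw [Scheme.Hom.comp_apply, hpt a]
    exact hy2
  rw [← ha, ← Scheme.Hom.comp_apply, e2, Scheme.Hom.comp_apply]
  exact ⟨_, rfl⟩

/-- An open of the scheme of a descent datum is *good* if it is the range of an open immersion of
descent data from a canonical descent datum. -/
def Good (D : SchDD p) (W : D.obj.left.Opens) : Prop :=
  ∃ (U' : Over S) (j : (toDD p).obj U' ⟶ D), IsOpenImmersion j.hom.left ∧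
    Set.range j.hom.left = (W : Set D.obj.left)

variable [Surjective p] [Flat p] [QuasiCompact p]

/-- good opens are closed under binary intersections. -/
lemma Good.inf {W₁ W₂ : D.obj.left.Opens} (h₁ : Good D W₁) (h₂ : Good D W₂) : Good D (W₁ ⊓ W₂) := by
  obtain ⟨U₁, j₁, hj₁, hW₁⟩ := h₁
  obtain ⟨U₂, j₂, hj₂, hW₂⟩ := h₂
  let π := sndU p U₁
  let Z : Set ↥((toDD p).obj U₁).obj.left := j₁.hom.left ⁻¹' Set.range j₂.hom.left
  have hZo : IsOpen Z := j₂.hom.left.isOpenEmbedding.isOpen_range.preimage j₁.hom.left.continuous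
  let O : Set U₁.left := π '' Z
  have hsat : π ⁻¹' O = Z := by
    apply subset_antisymm
    · rintro z' ⟨z, hzZ, hz⟩
      exact saturated j₁ j₂ z z' hz hzZ
    · exact Set.subset_preimage_image _ _
  have hO : IsOpen O := by
    rw [← (Flat.isQuotientMap_of_surjective π).isOpen_preimage, hsat]
    exact hZo
  let O' : U₁.left.Opens := ⟨O, hO⟩
  let U₀ : Over S := Over.mk (O'.ι ≫ U₁.hom)
  let i₀ : U₀ ⟶ U₁ := Over.homMk O'.ι rfl
  have : IsOpenImmersion i₀.left := inferInstanceAs (IsOpenImmersion O'.ι)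
  refine ⟨U₀, (toDD p).map i₀ ≫ j₁, ?_, ?_⟩
  · change IsOpenImmersion (((toDD p).map i₀).hom.left ≫ j₁.hom.left)
    infer_instance
  · rw [TopologicalSpace.Opens.coe_inf, ← hW₁, ← hW₂]
    change Set.range (((toDD p).map i₀).hom.left ≫ j₁.hom.left) =
      Set.range j₁.hom.left ∩ Set.range j₂.hom.left
    rw [Scheme.Hom.comp_base, TopCat.coe_comp, Set.range_comp, range_toDD_map]
    have hr : Set.range i₀.left = O := by
      change Set.range O'.ι = O
      rw [Scheme.Opens.range_ι]
      rfl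
    rw [hr]
    change j₁.hom.left '' (π ⁻¹' O) = _
    rw [hsat, Set.image_preimage_eq_inter_range, Set.inter_comm]

end Groth.Agent.Lib.H5bDDGlue
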