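import Mathlib
import Groth.Prelude.Def_Desc
import Groth.Prelude.Def_DescFam
import Groth.Agent.Lib.H5bDDGlueB
import Groth.Agent.Lib.H5bDDEffA

/-!
# Descent data for schemes: effectivity is Zariski local on the base (helper5)

`good_of_pull_effective`: if the pullback of a descent datum to an open of the base is effective,
the preimage of this open is a good open.
-/

set_option autoImplicit false
set_option linter.unusedSectionVars false
universe u

namespace Groth.Agent.Lib.H5bDDGlue

open CategoryTheory CategoryTheory.Limits AlgebraicGeometry Desc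

variable {X S : Scheme.{u}} {p : X ⟶ S}

/-- the underlying isomorphism of schemes of an isomorphism of descent data. -/
def leftIso {D D' : SchDD p} (e : D ≅ D') : D.obj.left ≅ D'.obj.left where
  hom := e.hom.hom.left
  inv := e.inv.hom.left
  hom_inv_id := congrArg (fun m => m.hom.left) e.hom_inv_id
  inv_hom_id := congrArg (fun m => m.hom.left) e.inv_hom_id

/-- an isomorphism of descent data from a canonical one gives a cartesian square. -/
lemma isPullback_of_iso {D : SchDD p} {U : Over S} (e : (toDD p).obj U ≅ D) :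
    IsPullback D.obj.hom (e.inv.hom.left ≫ sndU p U) p U.hom :=
  IsPullback.of_iso (isPullback_toDD (p := p) U) (leftIso e) (Iso.refl _) (Iso.refl _) (Iso.refl _)
    (by simp [leftIso])
    (by
      have : e.hom.hom.left ≫ e.inv.hom.left = 𝟙 _ := (leftIso e).hom_inv_id
      simp [leftIso, reassoc_of% this])
    (by simp) (by simp)

variable {X' S' : Scheme.{u}} {q : X' ⟶ X} {s : S' ⟶ S} {p' : X' ⟶ S'}

/-- If the pullback of a descent datum along an open immersion of the base is effective, then the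
preimage of the open is a good open. -/
theorem good_of_pull_effective (sq : IsPullback q p' p s) [IsOpenImmersion q] (D : SchDD p)
    (U' : Over S') (e : (toDD p').obj U' ≅ pullDD sq.w D) :
    Good D (D.obj.hom ⁻¹ᵁ q.opensRange) := by
  let fstV : pullback D.obj.hom q ⟶ D.obj.left := pullback.fst D.obj.hom q
  let sndV : pullback D.obj.hom q ⟶ X' := pullback.snd D.obj.hom q
  let c' : pullback D.obj.hom q ⟶ U'.left := e.inv.hom.left ≫ sndU p' U'
  let U : Over S := Over.mk (U'.hom ≫ s)
  have h1 : IsPullback sndV c' p' U'.hom := isPullback_of_iso e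
  have h2 : IsPullback (fstV ≫ D.obj.hom) c' p U.hom := by
    have := h1.paste_horiz sq
    rwa [show sndV ≫ q = fstV ≫ D.obj.hom from pullback.condition.symm] at this
  let b : pullback D.obj.hom q ⟶ ((toDD p).obj U).obj.left := toDD_lift (fstV ≫ D.obj.hom) c' h2.w
  have hb : IsIso b := by
    have : b = h2.isoPullback.hom := by
      apply pullback.hom_ext
      · rw [h2.isoPullback_hom_fst]; exact pullback.lift_fst _ _ _
      · rw [h2.isoPullback_hom_snd]; exact pullback.lift_snd _ _ _
    rw [this]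
    infer_instance
  have hbh : b ≫ ((toDD p).obj U).obj.hom = fstV ≫ D.obj.hom := toDD_lift_hom _ _ _
  have hbs : b ≫ sndU p U = c' := toDD_lift_snd _ _ _
  have hjw : (inv b ≫ fstV) ≫ D.obj.hom = ((toDD p).obj U).obj.hom := by
    rw [Category.assoc, IsIso.inv_comp_eq, hbh]
  let j : (toDD p).obj U ⟶ D := ⟨Over.homMk (inv b ≫ fstV) hjw, by
    intro T x₀ x₁ h v w' hw'
    have hw'' : w'.1 = v.1 ≫ inv b ≫ fstV := hw'
    change _ = _ ≫ inv b ≫ fstV
    let w : T ⟶ pullback D.obj.hom q := v.1 ≫ inv b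
    let x₀' : T ⟶ X' := w ≫ sndV
    have hx₀ : x₀' ≫ q = x₀ := by
      have e1 : sndV ≫ q = fstV ≫ D.obj.hom := pullback.condition.symm
      calc x₀' ≫ q = (v.1 ≫ inv b) ≫ (sndV ≫ q) := by simp only [x₀', w, Category.assoc]
        _ = (v.1 ≫ inv b ≫ fstV) ≫ D.obj.hom := by rw [e1]; simp only [Category.assoc]
        _ = w'.1 ≫ D.obj.hom := by rw [hw'']
        _ = x₀ := w'.2
    have hx1 : x₁ ≫ p = (x₀' ≫ p') ≫ s := by
      rw [Category.assoc, ← sq.w, ← Category.assoc, hx₀, h]
    let x₁' : T ⟶ X' := sq.lift x₁ (x₀' ≫ p') hx1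
    have hx₁ : x₁' ≫ q = x₁ := sq.lift_fst _ _ _
    have h' : x₀' ≫ p' = x₁' ≫ p' := (sq.lift_snd _ _ _).symm
    let u : Lifts (pullDD sq.w D).obj x₀' := ⟨w, rfl⟩
    let w₂ : T ⟶ pullback D.obj.hom q := ((pullDD sq.w D).φ x₀' x₁' h' u).1
    have hw₂s : w₂ ≫ sndV = x₁' := ((pullDD sq.w D).φ x₀' x₁' h' u).2
    have hw₂f : w₂ ≫ fstV = (D.φ x₀ x₁ h w').1 := by
      refine (pullDD_φ_fst sq.w D x₀' x₁' h' u).trans ?_
      refine φ_congr D hx₀ hx₁ _ h _ w' ?_
      change w ≫ fstV = w'.1
      rw [hw'']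
      exact Category.assoc _ _ _
    have hw₂c : w₂ ≫ c' = w ≫ c' := invariant_of_iso e x₀' x₁' h' u
    have hw₂b : w₂ ≫ b = (((toDD p).obj U).φ x₀ x₁ h v).1 := by
      apply toDD_hom_ext
      · rw [Category.assoc, hbh, (((toDD p).obj U).φ x₀ x₁ h v).2, ← Category.assoc, hw₂f,
          (D.φ x₀ x₁ h w').2]
      · rw [Category.assoc, hbs, hw₂c, toDD_φ_snd]
        simp only [w, Category.assoc]
        rw [← hbs, IsIso.inv_hom_id_assoc]
    rw [← hw₂b, Category.assoc, IsIso.hom_inv_id_assoc, hw₂f]⟩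
  have hoi : IsOpenImmersion j.hom.left := by
    change IsOpenImmersion (inv b ≫ fstV)
    infer_instance
  refine ⟨U, j, hoi, ?_⟩
  change Set.range (inv b ≫ fstV) = D.obj.hom ⁻¹' Set.range q
  rw [Scheme.Hom.comp_base, TopCat.coe_comp, Set.range_comp, Set.range_eq_univ.mpr (inv b).surjective,
    Set.image_univ]
  exact Scheme.Pullback.range_fst D.obj.hom q

end Groth.Agent.Lib.H5bDDGlue
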