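import Mathlib
import Groth.Prelude.Def_Desc
import Groth.Prelude.Def_DescFam
import Groth.Agent.Lib.H5bDDEffB

/-!
# Descent data for schemes: effectivity can be checked after refining the cover (helper5)

`effective_of_pull_effective`: for `q : X' ⟶ X` surjective, flat and quasi-compact and a descent
datum `D` relative to `p : X ⟶ S`, if the pullback of `D` to a descent datum relative to `q ≫ p`
is effective then `D` is effective.
-/

set_option autoImplicit false
set_option linter.unusedSectionVars false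
universe u

namespace Groth.Agent.Lib.H5bDDGlue

open CategoryTheory CategoryTheory.Limits AlgebraicGeometry Desc

variable {X S : Scheme.{u}} {p : X ⟶ S}

theorem effective_of_pull_effective_gen (Q : MorphismProperty Scheme.{u})
    [Q.IsStableUnderBaseChange] (hQE : ∀ {Y Z : Scheme.{u}} (f : Y ⟶ Z), Q f → EffectiveEpi f)
    (hQepi : ∀ {Y Z : Scheme.{u}} (f : Y ⟶ Z), Q f → Epi f)
    [(MorphismProperty.isomorphisms Scheme.{u}).DescendsAlong Q]
    {X' : Scheme.{u}} (q : X' ⟶ X) (hQ : Q q) (D : SchDD p) (U : Over S)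
    (e : (toDD (q ≫ p)).obj U ≅
      pullDD (s := 𝟙 S) (p' := q ≫ p) (Category.comp_id (q ≫ p)).symm D) :
    Nonempty ((toDD p).obj U ≅ D) := by
  have w : q ≫ p = (q ≫ p) ≫ 𝟙 S := (Category.comp_id (q ≫ p)).symm
  let pr : (pullDD w D).obj.left ⟶ D.obj.left := prD w D
  have hcondV : pr ≫ D.obj.hom = (pullDD w D).obj.hom ≫ q := prD_cond w D
  let c' : (pullDD w D).obj.left ⟶ U.left := e.inv.hom.left ≫ sndU (q ≫ p) U
  have hinv' : ∀ ⦃T : Scheme.{u}⦄ (y₀ y₁ : T ⟶ X') (h : y₀ ≫ q ≫ p = y₁ ≫ q ≫ p)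
      (u : Lifts (pullDD w D).obj y₀), ((pullDD w D).φ y₀ y₁ h u).1 ≫ c' = u.1 ≫ c' :=
    fun T y₀ y₁ h u => invariant_of_iso e y₀ y₁ h u
  have hQpr : Q pr := MorphismProperty.pullback_fst (P := Q) D.obj.hom q hQ
  have hEE : EffectiveEpi pr := hQE pr hQpr
  have hepi : Epi pr := hQepi pr hQpr
  have hcond : ∀ {Z : Scheme.{u}} (a b : Z ⟶ (pullDD w D).obj.left), a ≫ pr = b ≫ pr →
      a ≫ c' = b ≫ c' := by
    intro Z a b hab
    let y₀ : Z ⟶ X' := a ≫ (pullDD w D).obj.hom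
    let y₁ : Z ⟶ X' := b ≫ (pullDD w D).obj.hom
    have hq : y₀ ≫ q = y₁ ≫ q := by
      simp only [y₀, y₁, Category.assoc, ← hcondV]
      rw [← Category.assoc, hab, Category.assoc]
    have h : y₀ ≫ q ≫ p = y₁ ≫ q ≫ p := by rw [← Category.assoc, hq, Category.assoc]
    let u : Lifts (pullDD w D).obj y₀ := ⟨a, rfl⟩
    have hv2 : (a ≫ pr) ≫ D.obj.hom = y₁ ≫ q := by
      rw [Category.assoc, hcondV, ← Category.assoc]; exact hq
    have hv1 : (a ≫ pr) ≫ D.obj.hom = y₀ ≫ q := by rw [hv2, hq]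
    have hu : ((pullDD w D).φ y₀ y₁ h u).1 = b := by
      apply pullDD_hom_ext w D
      · refine (pullDD_φ_pr w D y₀ y₁ h u ⟨a ≫ pr, hv1⟩ rfl).trans ?_
        have := D.φ_self (y₁ ≫ q) ⟨a ≫ pr, hv2⟩
        refine (φ_congr D hq rfl _ rfl ⟨a ≫ pr, hv1⟩ ⟨a ≫ pr, hv2⟩ rfl).trans ?_
        rw [this]
        exact hab
      · exact ((pullDD w D).φ y₀ y₁ h u).2
    have := hinv' y₀ y₁ h u
    rw [hu] at this
    exact this.symm
  let c : D.obj.left ⟶ U.left := EffectiveEpi.desc pr c' hcond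
  have hc : pr ≫ c = c' := EffectiveEpi.fac pr c' hcond
  have hc'U : c' ≫ U.hom = (pullDD w D).obj.hom ≫ q ≫ p := by
    simp only [c', Category.assoc]
    rw [← toDD_cond, ← Category.assoc, Over.w e.inv.hom]
  have hcU : D.obj.hom ≫ p = c ≫ U.hom := by
    rw [← cancel_epi pr, ← Category.assoc, hcondV, ← Category.assoc pr, hc, hc'U, Category.assoc]
  -- invariance of `c`
  have hinv : ∀ ⦃T : Scheme.{u}⦄ (x₀ x₁ : T ⟶ X) (h : x₀ ≫ p = x₁ ≫ p) (v : Lifts D.obj x₀),
      (D.φ x₀ x₁ h v).1 ≫ c = v.1 ≫ c := by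
    intro T x₀ x₁ h v
    let π₁ : pullback x₀ q ⟶ T := pullback.fst x₀ q
    let π₂ : pullback (π₁ ≫ x₁) q ⟶ pullback x₀ q := pullback.fst (π₁ ≫ x₁) q
    let π : pullback (π₁ ≫ x₁) q ⟶ T := π₂ ≫ π₁
    have hπ₁ : Epi π₁ := hQepi π₁ (MorphismProperty.pullback_fst (P := Q) x₀ q hQ)
    have hπ₂ : Epi π₂ := hQepi π₂ (MorphismProperty.pullback_fst (P := Q) (π₁ ≫ x₁) q hQ)
    have hπ : Epi π := epi_comp π₂ π₁
    let y₀ : pullback (π₁ ≫ x₁) q ⟶ X' := π₂ ≫ pullback.snd x₀ q
    let y₁ : pullback (π₁ ≫ x₁) q ⟶ X' := pullback.snd (π₁ ≫ x₁) q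
    have hy₀ : y₀ ≫ q = π ≫ x₀ := by
      simp only [y₀, π, π₁, Category.assoc, pullback.condition]
    have hy₁ : y₁ ≫ q = π ≫ x₁ := by
      simp only [π, Category.assoc]
      exact pullback.condition.symm
    have hu0 : (π ≫ v.1) ≫ D.obj.hom = y₀ ≫ q := by rw [Category.assoc, v.2, hy₀]
    let u0 : pullback (π₁ ≫ x₁) q ⟶ (pullDD w D).obj.left := pullDD_lift w D (π ≫ v.1) y₀ hu0
    have hu0f : u0 ≫ pr = π ≫ v.1 := pullDD_lift_pr w D _ _ _
    let u : Lifts (pullDD w D).obj y₀ := ⟨u0, pullDD_lift_hom w D _ _ _⟩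
    have hπh : (π ≫ x₀) ≫ p = (π ≫ x₁) ≫ p := by simp only [Category.assoc, h]
    have h' : y₀ ≫ q ≫ p = y₁ ≫ q ≫ p := by
      rw [← Category.assoc, hy₀, ← Category.assoc y₁, hy₁]
      exact hπh
    have e1 : ((pullDD w D).φ y₀ y₁ h' u).1 ≫ pr = π ≫ (D.φ x₀ x₁ h v).1 := by
      refine (pullDD_φ_pr w D y₀ y₁ h' u ⟨u0 ≫ pr, by rw [hu0f]; exact hu0⟩ rfl).trans ?_
      refine (φ_congr D hy₀ hy₁ _ hπh _ ⟨π ≫ v.1, by rw [Category.assoc, v.2]⟩ hu0f).trans ?_
      exact D.φ_natural π x₀ x₁ h hπh v _ rfl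
    have e2 := hinv' y₀ y₁ h' u
    rw [← hc, ← Category.assoc, e1, ← Category.assoc] at e2
    change _ = (u0 ≫ pr) ≫ c at e2
    rw [hu0f] at e2
    rw [← cancel_epi π]
    simpa only [Category.assoc] using e2
  -- the comparison is an isomorphism, by descent
  let b : D.obj.left ⟶ ((toDD p).obj U).obj.left := toDD_lift D.obj.hom c hcU
  let prP : ((toDD (q ≫ p)).obj U).obj.left ⟶ ((toDD p).obj U).obj.left :=
    toDD_lift (((toDD (q ≫ p)).obj U).obj.hom ≫ q) (sndU (q ≫ p) U) (by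
      rw [Category.assoc]; exact toDD_cond U)
  have hps : prP ≫ sndU p U = sndU (q ≫ p) U := toDD_lift_snd _ _ _
  have hph : prP ≫ ((toDD p).obj U).obj.hom = ((toDD (q ≫ p)).obj U).obj.hom ≫ q :=
    toDD_lift_hom _ _ _
  have hR : IsPullback ((toDD (q ≫ p)).obj U).obj.hom prP q ((toDD p).obj U).obj.hom := by
    have h0 := isPullback_toDD (p := q ≫ p) U
    rw [← hps] at h0
    exact IsPullback.of_bot h0 hph.symm (isPullback_toDD (p := p) U)
  have hcomm : e.inv.hom.left ≫ prP = pr ≫ b := by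
    apply toDD_hom_ext
    · have hbh : b ≫ ((toDD p).obj U).obj.hom = D.obj.hom := toDD_lift_hom _ _ _
      rw [Category.assoc e.inv.hom.left, hph, Category.assoc pr, hbh,
        ← Category.assoc e.inv.hom.left, Over.w e.inv.hom, hcondV]
    · have hbs : b ≫ sndU p U = c := toDD_lift_snd _ _ _
      rw [Category.assoc e.inv.hom.left, hps, Category.assoc pr, hbs, hc]
  have hL : IsPullback e.inv.hom.left pr prP b := by
    refine IsPullback.of_right ?_ hcomm hR
    rw [Over.w e.inv.hom, toDD_lift_hom]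
    exact (isPullback_pullDD w D).flip
  have hprP : Q prP := MorphismProperty.of_isPullback hR hQ
  have hiso' : IsIso e.inv.hom.left := (leftIso e).isIso_inv
  have hb : IsIso b :=
    MorphismProperty.of_isPullback_of_descendsAlong (P := MorphismProperty.isomorphisms Scheme.{u})
      (Q := Q) hL hprP hiso'
  exact nonempty_iso_of_invariant D U c hcU hinv

/-- the fpqc case. -/
theorem effective_of_pull_effective {X' : Scheme.{u}} (q : X' ⟶ X) [Surjective q] [Flat q]
    [QuasiCompact q] (D : SchDD p) (U : Over S)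
    (e : (toDD (q ≫ p)).obj U ≅
      pullDD (s := 𝟙 S) (p' := q ≫ p) (Category.comp_id (q ≫ p)).symm D) :
    Nonempty ((toDD p).obj U ≅ D) :=
  effective_of_pull_effective_gen (@Surjective ⊓ @Flat ⊓ @QuasiCompact)
    (fun f hf => by
      have := hf.1.1; have := hf.1.2; have := hf.2
      infer_instance)
    (fun f hf => by
      have := hf.1.1; have := hf.1.2
      exact Flat.epi_of_flat_of_surjective f)
    q ⟨⟨inferInstance, inferInstance⟩, inferInstance⟩ D U e

/-- the fppf case. -/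
theorem effective_of_pull_effective_fppf {X' : Scheme.{u}} (q : X' ⟶ X) [Surjective q] [Flat q]
    [LocallyOfFinitePresentation q] (D : SchDD p) (U : Over S)
    (e : (toDD (q ≫ p)).obj U ≅
      pullDD (s := 𝟙 S) (p' := q ≫ p) (Category.comp_id (q ≫ p)).symm D) :
    Nonempty ((toDD p).obj U ≅ D) :=
  effective_of_pull_effective_gen (@Surjective ⊓ @Flat ⊓ @LocallyOfFinitePresentation)
    (fun f hf => by
      have := hf.1.1; have := hf.1.2; have := hf.2
      infer_instance)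
    (fun f hf => by
      have := hf.1.1; have := hf.1.2
      exact Flat.epi_of_flat_of_surjective f)
    q ⟨⟨inferInstance, inferInstance⟩, inferInstance⟩ D U e

end Groth.Agent.Lib.H5bDDGlue
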