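import Mathlib
import Groth.Prelude.Def_Desc
import Groth.Agent.Lib.H5bDDGlueB

/-!
# Descent covers (helper5)

`IsDescCover p`: every base change of `p` is an effective epimorphism, a topological quotient map,
and isomorphisms and open immersions descend along it.  Surjective flat morphisms that are
quasi-compact or locally of finite presentation are descent covers.  For a descent cover `p` the
functor `toDD p` is fully faithful.
-/

set_option autoImplicit false
set_option linter.unusedSectionVars false
set_option linter.style.haveILetI false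
universe u

namespace Groth.Agent.Lib.H5bDDGen

open CategoryTheory CategoryTheory.Limits AlgebraicGeometry Desc Groth.Agent.Lib.H5bDDGlue

/-- a good epimorphism of schemes. -/
structure GoodEpi {A B : Scheme.{u}} (f : A ⟶ B) : Prop where
  effectiveEpi : EffectiveEpi f
  quotient : Topology.IsQuotientMap f
  descIso : ∀ {Y P : Scheme.{u}} {g : Y ⟶ B} {fst : P ⟶ A} {snd : P ⟶ Y},
    IsPullback fst snd f g → IsIso fst → IsIso g
  descOpen : ∀ {Y P : Scheme.{u}} {g : Y ⟶ B} {fst : P ⟶ A} {snd : P ⟶ Y},
    IsPullback fst snd f g → IsOpenImmersion fst → IsOpenImmersion g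

/-- universally good epimorphisms. -/
def UGood : MorphismProperty Scheme.{u} := fun A B f =>
  ∀ ⦃A₁ B₁ : Scheme.{u}⦄ (f₁ : A₁ ⟶ B₁) (a : A₁ ⟶ A) (b : B₁ ⟶ B), IsPullback a f₁ f b → GoodEpi f₁

instance : UGood.{u}.IsStableUnderBaseChange where
  of_isPullback sq hg := fun _ _ f₁ _ _ sq₁ => hg f₁ _ _ (sq₁.paste_horiz sq)

lemma UGood.goodEpi {A B : Scheme.{u}} {f : A ⟶ B} (h : UGood f) : GoodEpi f :=
  h f (𝟙 _) (𝟙 _) (IsPullback.id_horiz f)

lemma UGood.effectiveEpi {A B : Scheme.{u}} {f : A ⟶ B} (h : UGood f) : EffectiveEpi f :=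
  h.goodEpi.effectiveEpi

lemma UGood.epi {A B : Scheme.{u}} {f : A ⟶ B} (h : UGood f) : Epi f := by
  haveI := h.effectiveEpi
  infer_instance

lemma UGood.surjective {A B : Scheme.{u}} {f : A ⟶ B} (h : UGood f) : Function.Surjective f :=
  h.goodEpi.quotient.surjective

instance : (MorphismProperty.isomorphisms Scheme.{u}).DescendsAlong UGood.{u} where
  of_isPullback sq hf hfst := hf.goodEpi.descIso sq hfst

instance : (@IsOpenImmersion).DescendsAlong UGood.{u} where
  of_isPullback sq hf hfst := hf.goodEpi.descOpen sq hfst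

lemma uGood_of_fpqc {A B : Scheme.{u}} (f : A ⟶ B) [Surjective f] [Flat f] [QuasiCompact f] :
    UGood f := by
  intro A₁ B₁ f₁ a b sq
  haveI : Surjective f₁ := MorphismProperty.of_isPullback (P := @Surjective) sq inferInstance
  haveI : Flat f₁ := MorphismProperty.of_isPullback (P := @Flat) sq inferInstance
  haveI : QuasiCompact f₁ := MorphismProperty.of_isPullback (P := @QuasiCompact) sq inferInstance
  have hQ : (@Surjective ⊓ @Flat ⊓ @QuasiCompact : MorphismProperty Scheme.{u}) f₁ :=
    ⟨⟨inferInstance, inferInstance⟩, inferInstance⟩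
  exact ⟨inferInstance, Flat.isQuotientMap_of_surjective f₁,
    fun sq' h => MorphismProperty.of_isPullback_of_descendsAlong
      (P := MorphismProperty.isomorphisms Scheme.{u}) sq' hQ h,
    fun sq' h => MorphismProperty.of_isPullback_of_descendsAlong (P := @IsOpenImmersion) sq' hQ h⟩

lemma uGood_of_fppf {A B : Scheme.{u}} (f : A ⟶ B) [Surjective f] [Flat f]
    [LocallyOfFinitePresentation f] : UGood f := by
  intro A₁ B₁ f₁ a b sq
  haveI : Surjective f₁ := MorphismProperty.of_isPullback (P := @Surjective) sq inferInstance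
  haveI : Flat f₁ := MorphismProperty.of_isPullback (P := @Flat) sq inferInstance
  haveI : LocallyOfFinitePresentation f₁ :=
    MorphismProperty.of_isPullback (P := @LocallyOfFinitePresentation) sq inferInstance
  have hQ : (@Surjective ⊓ @Flat ⊓ @LocallyOfFinitePresentation : MorphismProperty Scheme.{u}) f₁ :=
    ⟨⟨inferInstance, inferInstance⟩, inferInstance⟩
  exact ⟨inferInstance, f₁.isOpenMap.isQuotientMap f₁.continuous f₁.surjective,
    fun sq' h => MorphismProperty.of_isPullback_of_descendsAlong
      (P := MorphismProperty.isomorphisms Scheme.{u}) sq' hQ h,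
    fun sq' h => MorphismProperty.of_isPullback_of_descendsAlong (P := @IsOpenImmersion) sq' hQ h⟩

/-- descent covers. -/
class IsDescCover {X S : Scheme.{u}} (p : X ⟶ S) : Prop where
  out : UGood p

instance (priority := 100) isDescCover_of_fpqc {X S : Scheme.{u}} (p : X ⟶ S) [Surjective p]
    [Flat p] [QuasiCompact p] : IsDescCover p := ⟨uGood_of_fpqc p⟩

instance (priority := 100) isDescCover_of_fppf {X S : Scheme.{u}} (p : X ⟶ S) [Surjective p]
    [Flat p] [LocallyOfFinitePresentation p] : IsDescCover p := ⟨uGood_of_fppf p⟩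

lemma IsDescCover.of_isPullback {X S X' S' : Scheme.{u}} {p : X ⟶ S} {p' : X' ⟶ S'} {a : X' ⟶ X}
    {b : S' ⟶ S} (sq : IsPullback a p' p b) [IsDescCover p] : IsDescCover p' :=
  ⟨MorphismProperty.of_isPullback (P := UGood) sq IsDescCover.out⟩

instance {X S T : Scheme.{u}} (p : X ⟶ S) (g : T ⟶ S) [IsDescCover p] :
    IsDescCover (pullback.snd p g) :=
  IsDescCover.of_isPullback (IsPullback.of_hasPullback p g)

instance {X S T : Scheme.{u}} (p : X ⟶ S) (g : T ⟶ S) [IsDescCover p] :
    IsDescCover (pullback.fst g p) :=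
  IsDescCover.of_isPullback (IsPullback.of_hasPullback g p).flip

section

variable {X S : Scheme.{u}} (p : X ⟶ S) [IsDescCover p]

lemma goodEpi_self : GoodEpi p := (IsDescCover.out (p := p)).goodEpi

instance (U : Over S) : IsDescCover (sndU p U) :=
  inferInstanceAs (IsDescCover (pullback.snd p U.hom))

lemma isQuotientMap_sndU (U : Over S) : Topology.IsQuotientMap (sndU p U) :=
  (goodEpi_self (sndU p U)).quotient

lemma surjective_sndU (U : Over S) : Function.Surjective (sndU p U) :=
  (isQuotientMap_sndU p U).surjective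

lemma effectiveEpi_of_isDescCover : EffectiveEpi p := (goodEpi_self p).effectiveEpi

lemma epi_of_isDescCover : Epi p := (IsDescCover.out (p := p)).epi

/-- `toDD p` is faithful for a descent cover. -/
theorem toDD_faithful : (Desc.toDD p).Faithful := by
  refine ⟨fun {U U'} g g' h => ?_⟩
  have hepi : Epi (pullback.snd p U.hom) := epi_of_isDescCover _
  have e : ∀ g : U ⟶ U', (((Desc.toDD p).map g).hom.left : pullback p U.hom ⟶ pullback p U'.hom) ≫
      pullback.snd p U'.hom = pullback.snd p U.hom ≫ g.left := fun g =>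
    pullback.lift_snd _ _ _
  have h1 : pullback.snd p U.hom ≫ g.left = pullback.snd p U.hom ≫ g'.left := by
    rw [← e, ← e, h]
  ext
  exact (cancel_epi _).1 h1

/-- `toDD p` is full for a descent cover. -/
theorem toDD_full : (Desc.toDD p).Full := by
  refine ⟨fun {U U'} F => ?_⟩
  let q : pullback p U.hom ⟶ U.left := pullback.snd p U.hom
  have hq : EffectiveEpi q := effectiveEpi_of_isDescCover _
  have hqepi : Epi q := epi_of_isDescCover _
  let Fl : pullback p U.hom ⟶ pullback p U'.hom := F.hom.left
  have hFl : Fl ≫ pullback.fst p U'.hom = pullback.fst p U.hom := Over.w F.hom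
  let h : pullback p U.hom ⟶ U'.left := Fl ≫ pullback.snd p U'.hom
  have hcond : ∀ {Z : Scheme.{u}} (a b : Z ⟶ pullback p U.hom), a ≫ q = b ≫ q → a ≫ h = b ≫ h := by
    intro Z a b hab
    have hx : (a ≫ pullback.fst p U.hom) ≫ p = (b ≫ pullback.fst p U.hom) ≫ p := by
      rw [Category.assoc, Category.assoc, pullback.condition, ← Category.assoc, ← Category.assoc]
      exact congrArg (· ≫ U.hom) hab
    have hc : (Desc.canMap p U' (a ≫ pullback.fst p U.hom) (b ≫ pullback.fst p U.hom) hx
        ⟨a ≫ Fl, by
          change (a ≫ Fl) ≫ pullback.fst p U'.hom = _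
          rw [Category.assoc, hFl]⟩).1 =
        (Desc.canMap p U (a ≫ pullback.fst p U.hom) (b ≫ pullback.fst p U.hom) hx ⟨a, rfl⟩).1 ≫ Fl :=
      F.comm (a ≫ pullback.fst p U.hom) (b ≫ pullback.fst p U.hom) hx ⟨a, rfl⟩
        ⟨a ≫ Fl, by
          change (a ≫ Fl) ≫ pullback.fst p U'.hom = _
          rw [Category.assoc, hFl]⟩ rfl
    have hb : (Desc.canMap p U (a ≫ pullback.fst p U.hom) (b ≫ pullback.fst p U.hom) hx
        ⟨a, rfl⟩).1 = b := by
      apply pullback.hom_ext
      · rw [Desc.canMap_val, pullback.lift_fst]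
      · rw [Desc.canMap_val, pullback.lift_snd]
        exact hab
    rw [hb] at hc
    have := congrArg (· ≫ pullback.snd p U'.hom) hc
    rw [Desc.canMap_val, pullback.lift_snd] at this
    dsimp [h]
    rw [← Category.assoc, ← Category.assoc]
    exact this
  let g : U.left ⟶ U'.left := EffectiveEpi.desc q h hcond
  have hg : q ≫ g = h := EffectiveEpi.fac q h hcond
  have hgS : g ≫ U'.hom = U.hom := by
    rw [← cancel_epi q, ← Category.assoc, hg]
    dsimp [h, q]
    rw [Category.assoc, ← pullback.condition, ← Category.assoc, hFl, pullback.condition]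
  refine ⟨Over.homMk g hgS, ?_⟩
  apply Desc.SchDD.hom_ext
  apply Over.OverMorphism.ext
  apply pullback.hom_ext
  · change pullback.map p U.hom p U'.hom (𝟙 X) g (𝟙 S) (by simp) (by simp [hgS]) ≫
        pullback.fst p U'.hom = Fl ≫ pullback.fst p U'.hom
    rw [hFl, pullback.lift_fst, Category.comp_id]
  · change pullback.map p U.hom p U'.hom (𝟙 X) g (𝟙 S) (by simp) (by simp [hgS]) ≫
        pullback.snd p U'.hom = Fl ≫ pullback.snd p U'.hom
    rw [pullback.lift_snd]
    exact hg

end

end Groth.Agent.Lib.H5bDDGen
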