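import Mathlib
import Groth.Prelude.Def_Desc
import Groth.Agent.Lib.H5bDDGenA

/-!
# Descent data for schemes: intersections of effective stable opens (helper5; descent cover version)
-/

set_option autoImplicit false
universe u

namespace Groth.Agent.Lib.H5bDDGen

open CategoryTheory CategoryTheory.Limits AlgebraicGeometry Desc Groth.Agent.Lib.H5bDDGlue

variable {X S : Scheme.{u}} {p : X ⟶ S} {D : SchDD p} [IsDescCover p]

/-- good opens are closed under binary intersections. -/
lemma good_inf {W₁ W₂ : D.obj.left.Opens} (h₁ : Good D W₁) (h₂ : Good D W₂) : Good D (W₁ ⊓ W₂) := by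
  obtain ⟨U₁, j₁, hj₁, hW₁⟩ := h₁
  obtain ⟨U₂, j₂, hj₂, hW₂⟩ := h₂
  let π := sndU p U₁
  let Z : Set ↥((toDD p).obj U₁).obj.left := j₁.hom.left ⁻¹' Set.range j₂.hom.left
  have hZo : IsOpen Z := j₂.hom.left.isOpenEmbedding.isOpen_range.preimage j₁.hom.left.continuous
  let O : Set U₁.left := π '' Z
  have hsat : π ⁻¹' O = Z := by
    apply subset_antisymm
    · rintro z' ⟨z, hzZ, hz⟩
      exact saturated j₁ j₂ z z' hz hzZ
    · exact Set.subset_preimage_image _ _
  have hO : IsOpen O := by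
    rw [← (isQuotientMap_sndU p U₁).isOpen_preimage, hsat]
    exact hZo
  let O' : U₁.left.Opens := ⟨O, hO⟩
  let U₀ : Over S := Over.mk (O'.ι ≫ U₁.hom)
  let i₀ : U₀ ⟶ U₁ := Over.homMk O'.ι rfl
  have : IsOpenImmersion i₀.left := inferInstanceAs (IsOpenImmersion O'.ι)
  refine ⟨U₀, (toDD p).map i₀ ≫ j₁, ?_, ?_⟩
  · change IsOpenImmersion (((toDD p).map i₀).hom.left ≫ j₁.hom.left)
    infer_instance
  · rw [TopologicalSpace.Opens.coe_inf, ← hW₁, ← hW₂]
    change Set.range (((toDD p).map i₀).hom.left ≫ j₁.hom.left) =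
      Set.range j₁.hom.left ∩ Set.range j₂.hom.left
    rw [Scheme.Hom.comp_base, TopCat.coe_comp, Set.range_comp, range_toDD_map]
    have hr : Set.range i₀.left = O := by
      change Set.range O'.ι = O
      rw [Scheme.Opens.range_ι]
      rfl
    rw [hr]
    change j₁.hom.left '' (π ⁻¹' O) = _
    rw [hsat, Set.image_preimage_eq_inter_range, Set.inter_comm]

end Groth.Agent.Lib.H5bDDGen
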