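import Mathlib
import Groth.Prelude.Def_Desc
import Groth.Agent.Lib.H5bDDGenC

/-!
# Descent data for schemes: gluing effective stable opens, the glued scheme (helper5; descent cover version)
-/

set_option autoImplicit false
set_option linter.style.haveILetI false
set_option linter.unusedSectionVars false
universe u

namespace Groth.Agent.Lib.H5bDDGen

open CategoryTheory CategoryTheory.Limits AlgebraicGeometry Desc Groth.Agent.Lib.H5bDDGlue

variable {X S : Scheme.{u}} {p : X ⟶ S} [IsDescCover p] (D : SchDD p)

/-- the cocone of structure morphisms to `S`. -/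
noncomputable def coconeS : Cocone (F D) where
  pt := S
  ι :=
    { app := fun W => ((G D).obj W).hom
      naturality := fun W W' f => by
        simp only [Functor.const_obj_obj, Functor.const_obj_map, Category.comp_id]
        exact Over.w ((G D).map f) }

/-- the glued scheme over `S`. -/
noncomputable def Ug : Over S := Over.mk (colimit.desc (F D) (coconeS D))

/-- the inclusions into the glued scheme. -/
noncomputable def ιU (W : J D) : (G D).obj W ⟶ Ug D :=
  Over.homMk (colimit.ι (F D) W) (colimit.ι_desc _ _)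

instance (W : J D) : IsOpenImmersion (ιU D W).left :=
  inferInstanceAs (IsOpenImmersion (colimit.ι (F D) W))

lemma G_map_ιU {W W' : J D} (f : W ⟶ W') : (G D).map f ≫ ιU D W' = ιU D W := by
  apply Over.OverMorphism.ext
  exact colimit.w (F D) f

/-- the cover of the scheme of the canonical descent datum of the glued scheme. -/
noncomputable def cov : (((toDD p).obj (Ug D)).obj.left).OpenCover where
  I₀ := J D
  X W := ((toDD p).obj ((G D).obj W)).obj.left
  f W := ((toDD p).map (ιU D W)).hom.left
  mem₀ := by
    rw [Scheme.presieve₀_mem_precoverage_iff]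
    refine ⟨fun x => ?_, fun W => inferInstance⟩
    obtain ⟨W, u, hu⟩ := Scheme.IsLocallyDirected.ι_jointly_surjective (F D) (sndU p (Ug D) x)
    obtain ⟨a, ha1, ha2⟩ := Scheme.exists_preimage_of_isPullback
      (isPullback_toDD_map (p := p) (ιU D W)) x u hu.symm
    exact ⟨W, a, ha1⟩

instance : Category (cov D).I₀ := inferInstanceAs (Category (J D))

lemma cov_trans_f {i j : J D} (f : i ⟶ j) :
    ((toDD p).map ((G D).map f)).hom.left ≫ ((toDD p).map (ιU D j)).hom.left =
      ((toDD p).map (ιU D i)).hom.left := by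
  rw [← G_map_ιU D f, Functor.map_comp]
  rfl

lemma trans_id' (i : J D) : ((toDD p).map ((G D).map (𝟙 i))).hom.left = 𝟙 _ := by
  rw [(G D).map_id, (toDD p).map_id]
  rfl

lemma trans_comp' {i j k : J D} (f : i ⟶ j) (g : j ⟶ k) :
    ((toDD p).map ((G D).map (f ≫ g))).hom.left =
      ((toDD p).map ((G D).map f)).hom.left ≫ ((toDD p).map ((G D).map g)).hom.left := by
  rw [(G D).map_comp, (toDD p).map_comp]
  rfl

lemma cov_directed {i j : J D}
    (ai : ↥((toDD p).obj ((G D).obj i)).obj.left) (aj : ↥((toDD p).obj ((G D).obj j)).obj.left)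
    (hc : ((toDD p).map (ιU D i)).hom.left ai = ((toDD p).map (ιU D j)).hom.left aj) :
    ∃ (k : J D) (fi : k ⟶ i) (fj : k ⟶ j) (b : ↥((toDD p).obj ((G D).obj k)).obj.left),
      ((toDD p).map ((G D).map fi)).hom.left b = ai ∧
      ((toDD p).map ((G D).map fj)).hom.left b = aj := by
  have hu : colimit.ι (F D) i (sndU p ((G D).obj i) ai) =
      colimit.ι (F D) j (sndU p ((G D).obj j) aj) := by
    have e1 := congr($(toDD_map_snd (p := p) (ιU D i)) ai)
    have e2 := congr($(toDD_map_snd (p := p) (ιU D j)) aj)
    rw [Scheme.Hom.comp_apply, Scheme.Hom.comp_apply] at e1 e2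
    exact e1.symm.trans ((congrArg _ hc).trans e2)
  obtain ⟨k, fi, fj, y, hy1, hy2⟩ := (Scheme.IsLocallyDirected.ι_eq_ι_iff (F D)).mp hu
  obtain ⟨b, hb1, hb2⟩ := Scheme.exists_preimage_of_isPullback
    (isPullback_toDD_map (p := p) ((G D).map fi)) ai y hy1.symm
  refine ⟨k, fi, fj, b, hb1, ?_⟩
  apply ((toDD p).map (ιU D j)).hom.left.isOpenEmbedding.injective
  rw [← hc, ← hb1, ← Scheme.Hom.comp_apply, ← Scheme.Hom.comp_apply, cov_trans_f, cov_trans_f]

noncomputable instance : (cov D).LocallyDirected where
  trans {i j} f := ((toDD p).map ((G D).map f)).hom.left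
  trans_id i := trans_id' D i
  trans_comp f g := trans_comp' D f g
  w {i j} f := cov_trans_f D f
  directed {i j} x := by
    have hc := congr($(pullback.condition (f := (cov D).f i) (g := (cov D).f j)) x)
    rw [Scheme.Hom.comp_apply, Scheme.Hom.comp_apply] at hc
    obtain ⟨k, fi, fj, b, hb1, hb2⟩ := cov_directed D _ _ hc
    refine ⟨k, fi, fj, b, ?_⟩
    apply (pullback.fst ((cov D).f i) ((cov D).f j)).isOpenEmbedding.injective
    rw [← Scheme.Hom.comp_apply, pullback.lift_fst]
    exact hb1
  property_trans {i j} f := isOpenImmersion_toDD_map_G D f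

end Groth.Agent.Lib.H5bDDGen
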