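import Mathlib
import Groth.Prelude.Def_Desc
import Groth.Agent.Lib.H5bDDEffA
import Groth.Agent.Lib.Helper12AffineDescent

/-!
# Quasi-affine descent data: generalities (helper5)

* `φV`: the gluing bijections of a descent datum, on bare morphisms.
* `isIso_appTop_of_flat`: flat base change of an open subscheme with the same global sections.
* `ext_of_isIso_appTop`, `exists_ext_of_isIso_appTop`: morphisms to affine schemes extend uniquely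
  along morphisms inducing isomorphisms on global sections.
-/

set_option autoImplicit false
set_option linter.unusedSectionVars false
universe u

namespace Groth.Agent.Lib.H5bDDGlue

open CategoryTheory CategoryTheory.Limits AlgebraicGeometry Desc

section phiV

variable {X S : Scheme.{u}} {p : X ⟶ S} (D : SchDD p)

/-- the gluing bijections on bare morphisms. -/
noncomputable def φV {T : Scheme.{u}} (x₀ x₁ : T ⟶ X) (h : x₀ ≫ p = x₁ ≫ p)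
    (s : T ⟶ D.obj.left) (hs : s ≫ D.obj.hom = x₀) : T ⟶ D.obj.left :=
  (D.φ x₀ x₁ h ⟨s, hs⟩).1

lemma φV_hom {T : Scheme.{u}} (x₀ x₁ : T ⟶ X) (h : x₀ ≫ p = x₁ ≫ p)
    (s : T ⟶ D.obj.left) (hs : s ≫ D.obj.hom = x₀) : φV D x₀ x₁ h s hs ≫ D.obj.hom = x₁ :=
  (D.φ x₀ x₁ h ⟨s, hs⟩).2

lemma φV_congr {T : Scheme.{u}} {x₀ x₁ y₀ y₁ : T ⟶ X} (e₀ : x₀ = y₀) (e₁ : x₁ = y₁)
    (h : x₀ ≫ p = x₁ ≫ p) (h' : y₀ ≫ p = y₁ ≫ p) {s s' : T ⟶ D.obj.left} (es : s = s')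
    (hs : s ≫ D.obj.hom = x₀) (hs' : s' ≫ D.obj.hom = y₀) :
    φV D x₀ x₁ h s hs = φV D y₀ y₁ h' s' hs' := by
  subst e₀ e₁ es
  rfl

lemma φV_natural {T T' : Scheme.{u}} (g : T' ⟶ T) (x₀ x₁ : T ⟶ X) (h : x₀ ≫ p = x₁ ≫ p)
    (s : T ⟶ D.obj.left) (hs : s ≫ D.obj.hom = x₀)
    (h' : (g ≫ x₀) ≫ p = (g ≫ x₁) ≫ p) (hs' : (g ≫ s) ≫ D.obj.hom = g ≫ x₀) :
    φV D (g ≫ x₀) (g ≫ x₁) h' (g ≫ s) hs' = g ≫ φV D x₀ x₁ h s hs :=
  D.φ_natural g x₀ x₁ h h' ⟨s, hs⟩ ⟨g ≫ s, hs'⟩ rfl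

lemma φV_self {T : Scheme.{u}} (x : T ⟶ X) (s : T ⟶ D.obj.left) (hs : s ≫ D.obj.hom = x) :
    φV D x x rfl s hs = s := by
  change (D.φ x x rfl ⟨s, hs⟩).1 = s
  rw [D.φ_self]

lemma φV_comp {T : Scheme.{u}} (x₀ x₁ x₂ : T ⟶ X) (h₀₁ : x₀ ≫ p = x₁ ≫ p)
    (h₁₂ : x₁ ≫ p = x₂ ≫ p) (s : T ⟶ D.obj.left) (hs : s ≫ D.obj.hom = x₀) :
    φV D x₁ x₂ h₁₂ (φV D x₀ x₁ h₀₁ s hs) (φV_hom D x₀ x₁ h₀₁ s hs) =
      φV D x₀ x₂ (h₀₁.trans h₁₂) s hs := by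
  change (D.φ x₁ x₂ h₁₂ ⟨(D.φ x₀ x₁ h₀₁ ⟨s, hs⟩).1, _⟩).1 = (D.φ x₀ x₂ _ ⟨s, hs⟩).1
  have : (⟨(D.φ x₀ x₁ h₀₁ ⟨s, hs⟩).1, φV_hom D x₀ x₁ h₀₁ s hs⟩ : Lifts D.obj x₁) =
      D.φ x₀ x₁ h₀₁ ⟨s, hs⟩ := rfl
  rw [this, D.φ_comp]

lemma φV_of_lift {T : Scheme.{u}} (x₀ x₁ : T ⟶ X) (h : x₀ ≫ p = x₁ ≫ p) (w : Lifts D.obj x₀) :
    (D.φ x₀ x₁ h w).1 = φV D x₀ x₁ h w.1 w.2 := rfl

end phiV

section ext

/-- morphisms to affine schemes are determined by their restriction along a morphism inducing an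
isomorphism on global sections. -/
lemma ext_of_isIso_appTop {Y₀ Y Z : Scheme.{u}} [IsAffine Z] (ι : Y₀ ⟶ Y) [IsIso ι.appTop]
    {g₁ g₂ : Y ⟶ Z} (h : ι ≫ g₁ = ι ≫ g₂) : g₁ = g₂ := by
  apply ext_of_isAffine
  have := congrArg Scheme.Hom.appTop h
  rw [Scheme.Hom.comp_appTop, Scheme.Hom.comp_appTop] at this
  exact (cancel_mono ι.appTop).mp this

/-- morphisms to affine schemes extend along a morphism inducing an isomorphism on global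
sections. -/
lemma exists_ext_of_isIso_appTop {Y₀ Y Z : Scheme.{u}} [IsAffine Z] (ι : Y₀ ⟶ Y) [IsIso ι.appTop]
    (g : Y₀ ⟶ Z) : ∃ g' : Y ⟶ Z, ι ≫ g' = g := by
  refine ⟨Y.toSpecΓ ≫ inv (Spec.map ι.appTop) ≫ Spec.map g.appTop ≫ inv Z.toSpecΓ, ?_⟩
  rw [← Category.assoc, ← Category.assoc, ← Category.assoc, IsIso.comp_inv_eq,
    Scheme.toSpecΓ_naturality g, Category.assoc, Category.assoc]
  rw [← Category.assoc ι, Scheme.toSpecΓ_naturality ι, Category.assoc, IsIso.hom_inv_id_assoc]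

/-- flat base change: if `j : V ⟶ Z` induces an isomorphism on global sections, so does its base
change along a flat morphism of affine schemes. -/
lemma isIso_appTop_of_flat {V Z Y Y₀ : Scheme.{u}} [IsAffine Z] [IsAffine Y] [CompactSpace V]
    [QuasiSeparatedSpace V] {j : V ⟶ Z} {f : Y ⟶ Z} {r : Y₀ ⟶ V} {ι : Y₀ ⟶ Y}
    (H : IsPullback r ι j f) [Flat f] [IsIso j.appTop] : IsIso ι.appTop := by
  have hpo := Groth.Agent.Lib.Helper12.isPushout_appTop H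
  exact hpo.isIso_inr_of_isIso

end ext

end Groth.Agent.Lib.H5bDDGlue
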