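import Mathlib
import Groth.Prelude.Def_Desc
import Groth.Agent.Lib.H5bDDGenE
import Groth.Agent.Lib.H5bDDEffC
import Groth.Agent.Lib.H5bDDQAffA

/-!
# Descent data for schemes: twisting and pulling back (helper5)

* `twistIso`: for `a b : Y ⟶ X` with the same composite to the base, the pullbacks of a descent
  datum along `a` and `b` are isomorphic.
* `pull_effective`: the pullback of an effective descent datum is effective.
* `effective_of_pull_effective_of_cover`: if `q : X' ⟶ X` is ANY morphism such that `q ≫ p` is a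
  descent cover and the pullback of `D` to `X'` is effective, then `D` is effective.
-/

set_option autoImplicit false
set_option linter.unusedSectionVars false
set_option linter.style.haveILetI false
universe u

namespace Groth.Agent.Lib.H5bDDGen

open CategoryTheory CategoryTheory.Limits AlgebraicGeometry Desc Groth.Agent.Lib.H5bDDGlue

variable {X S : Scheme.{u}} {p : X ⟶ S}

section pr

variable {X' S' : Scheme.{u}} {q : X' ⟶ X} {s : S' ⟶ S} {p' : X' ⟶ S'} (w : q ≫ p = p' ≫ s)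

lemma pullDD_φV_pr (D : SchDD p) {T : Scheme.{u}} (x₀ x₁ : T ⟶ X') (h : x₀ ≫ p' = x₁ ≫ p')
    (t : T ⟶ (pullDD w D).obj.left) (ht : t ≫ (pullDD w D).obj.hom = x₀)
    (ht' : (t ≫ prD w D) ≫ D.obj.hom = x₀ ≫ q) :
    φV (pullDD w D) x₀ x₁ h t ht ≫ prD w D =
      φV D (x₀ ≫ q) (x₁ ≫ q) (pull_compat w x₀ x₁ h) (t ≫ prD w D) ht' :=
  pullDD_φ_pr w D x₀ x₁ h ⟨t, ht⟩ ⟨t ≫ prD w D, ht'⟩ rfl

end pr

section twist

variable {Y S' : Scheme.{u}} {a b : Y ⟶ X} {s : S' ⟶ S} {pY : Y ⟶ S'}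
  (wa : a ≫ p = pY ≫ s) (wb : b ≫ p = pY ≫ s) (D : SchDD p)

include wa wb in
lemma twist_compat {T : Scheme.{u}} (y : T ⟶ Y) : (y ≫ a) ≫ p = (y ≫ b) ≫ p := by
  rw [Category.assoc, Category.assoc, wa, wb]

/-- the twist between the pullbacks of a descent datum along two morphisms with the same composite
to the base. -/
noncomputable def twist : (pullDD wa D).obj.left ⟶ (pullDD wb D).obj.left :=
  pullDD_lift wb D
    (φV D ((pullDD wa D).obj.hom ≫ a) ((pullDD wa D).obj.hom ≫ b) (twist_compat wa wb _)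
      (prD wa D) (prD_cond wa D))
    (pullDD wa D).obj.hom (φV_hom D _ _ _ _ _)

lemma twist_hom : twist wa wb D ≫ (pullDD wb D).obj.hom = (pullDD wa D).obj.hom :=
  pullDD_lift_hom wb D _ _ _

lemma comp_twist_pr {T : Scheme.{u}} (t : T ⟶ (pullDD wa D).obj.left) (y : T ⟶ Y)
    (ht : t ≫ (pullDD wa D).obj.hom = y) (ht' : (t ≫ prD wa D) ≫ D.obj.hom = y ≫ a) :
    t ≫ twist wa wb D ≫ prD wb D =
      φV D (y ≫ a) (y ≫ b) (twist_compat wa wb y) (t ≫ prD wa D) ht' := by
  rw [twist, pullDD_lift_pr]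
  have h' : (t ≫ (pullDD wa D).obj.hom ≫ a) ≫ p = (t ≫ (pullDD wa D).obj.hom ≫ b) ≫ p := by
    rw [← Category.assoc, ← Category.assoc]
    exact twist_compat wa wb _
  have hs' : (t ≫ prD wa D) ≫ D.obj.hom = t ≫ (pullDD wa D).obj.hom ≫ a := by
    rw [Category.assoc, prD_cond]
  rw [← φV_natural D t _ _ (twist_compat wa wb _) (prD wa D) (prD_cond wa D) h' hs']
  exact φV_congr D (by rw [← Category.assoc, ht]) (by rw [← Category.assoc, ht]) _ _ rfl _ _

lemma twist_twist : twist wa wb D ≫ twist wb wa D = 𝟙 _ := by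
  apply pullDD_hom_ext wa D
  · rw [Category.assoc, Category.id_comp]
    have e1 := comp_twist_pr wb wa D (twist wa wb D) (pullDD wa D).obj.hom (twist_hom wa wb D)
      (by rw [Category.assoc, prD_cond, ← Category.assoc, twist_hom])
    rw [e1]
    have e2 := comp_twist_pr wa wb D (𝟙 _) (pullDD wa D).obj.hom (Category.id_comp _)
      (by rw [Category.id_comp, prD_cond])
    rw [Category.id_comp] at e2
    have e3 : φV D ((pullDD wa D).obj.hom ≫ b) ((pullDD wa D).obj.hom ≫ a)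
        (twist_compat wb wa _) (twist wa wb D ≫ prD wb D)
        (by rw [Category.assoc, prD_cond, ← Category.assoc, twist_hom]) =
        φV D ((pullDD wa D).obj.hom ≫ b) ((pullDD wa D).obj.hom ≫ a) (twist_compat wb wa _)
          (φV D ((pullDD wa D).obj.hom ≫ a) ((pullDD wa D).obj.hom ≫ b) (twist_compat wa wb _)
            (𝟙 _ ≫ prD wa D) (by rw [Category.id_comp, prD_cond])) (φV_hom D _ _ _ _ _) :=
      φV_congr D rfl rfl _ _ e2 _ _
    rw [e3, φV_comp, φV_self, Category.id_comp]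
  · rw [Category.assoc, twist_hom, twist_hom, Category.id_comp]

/-- the twist as a morphism of descent data. -/
noncomputable def twistHom : pullDD wa D ⟶ pullDD wb D :=
  ⟨Over.homMk (twist wa wb D) (twist_hom wa wb D), by
    intro T y₀ y₁ h v w hw
    have hw' : w.1 = v.1 ≫ twist wa wb D := hw
    change _ = _ ≫ twist wa wb D
    apply pullDD_hom_ext wb D
    · -- left side
      have hv0 : (v.1 ≫ prD wa D) ≫ D.obj.hom = y₀ ≫ a := by
        rw [Category.assoc, prD_cond, ← Category.assoc, v.2]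
      have hw0 : (w.1 ≫ prD wb D) ≫ D.obj.hom = y₀ ≫ b := by
        rw [Category.assoc, prD_cond, ← Category.assoc, w.2]
      have eL : ((pullDD wb D).φ y₀ y₁ h w).1 ≫ prD wb D =
          φV D (y₀ ≫ b) (y₁ ≫ b) (pull_compat wb y₀ y₁ h) (w.1 ≫ prD wb D) hw0 :=
        pullDD_φV_pr wb D y₀ y₁ h w.1 w.2 hw0
      have ew : w.1 ≫ prD wb D =
          φV D (y₀ ≫ a) (y₀ ≫ b) (twist_compat wa wb y₀) (v.1 ≫ prD wa D) hv0 := by
        rw [hw', Category.assoc]
        exact comp_twist_pr wa wb D v.1 y₀ v.2 hv0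
      have eL2 : φV D (y₀ ≫ b) (y₁ ≫ b) (pull_compat wb y₀ y₁ h) (w.1 ≫ prD wb D) hw0 =
          φV D (y₀ ≫ b) (y₁ ≫ b) (pull_compat wb y₀ y₁ h)
            (φV D (y₀ ≫ a) (y₀ ≫ b) (twist_compat wa wb y₀) (v.1 ≫ prD wa D) hv0)
            (φV_hom D _ _ _ _ _) := φV_congr D rfl rfl _ _ ew _ _
      have eLL := eL.trans (eL2.trans (φV_comp D _ _ _ _ _ _ _))
      -- right side
      have hv1 : (((pullDD wa D).φ y₀ y₁ h v).1 ≫ prD wa D) ≫ D.obj.hom = y₁ ≫ a := by
        rw [Category.assoc, prD_cond, ← Category.assoc, ((pullDD wa D).φ y₀ y₁ h v).2]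
      have eR : ((pullDD wa D).φ y₀ y₁ h v).1 ≫ twist wa wb D ≫ prD wb D =
          φV D (y₁ ≫ a) (y₁ ≫ b) (twist_compat wa wb y₁)
            (((pullDD wa D).φ y₀ y₁ h v).1 ≫ prD wa D) hv1 :=
        comp_twist_pr wa wb D _ y₁ ((pullDD wa D).φ y₀ y₁ h v).2 hv1
      have eR1 : ((pullDD wa D).φ y₀ y₁ h v).1 ≫ prD wa D =
          φV D (y₀ ≫ a) (y₁ ≫ a) (pull_compat wa y₀ y₁ h) (v.1 ≫ prD wa D) hv0 :=
        pullDD_φV_pr wa D y₀ y₁ h v.1 v.2 hv0
      have eR2 : φV D (y₁ ≫ a) (y₁ ≫ b) (twist_compat wa wb y₁)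
            (((pullDD wa D).φ y₀ y₁ h v).1 ≫ prD wa D) hv1 =
          φV D (y₁ ≫ a) (y₁ ≫ b) (twist_compat wa wb y₁)
            (φV D (y₀ ≫ a) (y₁ ≫ a) (pull_compat wa y₀ y₁ h) (v.1 ≫ prD wa D) hv0)
            (φV_hom D _ _ _ _ _) := φV_congr D rfl rfl _ _ eR1 _ _
      have eRR := (Category.assoc _ _ _).trans (eR.trans (eR2.trans (φV_comp D _ _ _ _ _ _ _)))
      exact eLL.trans eRR.symm
    · rw [Category.assoc, twist_hom]
      exact ((pullDD wb D).φ y₀ y₁ h w).2.trans ((pullDD wa D).φ y₀ y₁ h v).2.symm⟩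

/-- the twist isomorphism. -/
noncomputable def twistIso : pullDD wa D ≅ pullDD wb D :=
  isoOfInv (twistHom wa wb D) (Over.homMk (twist wb wa D) (twist_hom wb wa D))
    (Over.OverMorphism.ext (twist_twist wa wb D)) (Over.OverMorphism.ext (twist_twist wb wa D))

end twist

end Groth.Agent.Lib.H5bDDGen
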