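import Mathlib
import Groth.Prelude.Def_Desc
import Groth.Agent.Lib.H5bDDGenF

/-!
# Descent data for schemes: pulling back effectivity, refinement by arbitrary morphisms (helper5)

* `pull_effective`: the pullback of an effective descent datum is effective.
* `effective_of_pull_effective_of_cover`: if `q : X' ⟶ X` is ANY morphism such that `q ≫ p` is a
  descent cover and the pullback of `D` to `X'` is effective, then `D` is effective.
-/

set_option autoImplicit false
set_option linter.unusedSectionVars false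
set_option linter.style.haveILetI false
universe u

namespace Groth.Agent.Lib.H5bDDGen

open CategoryTheory CategoryTheory.Limits AlgebraicGeometry Desc Groth.Agent.Lib.H5bDDGlue

variable {X S : Scheme.{u}} {p : X ⟶ S}

section pull

variable {X' S' : Scheme.{u}} {q : X' ⟶ X} {s : S' ⟶ S} {p' : X' ⟶ S'} (w : q ≫ p = p' ≫ s)

/-- the pullback of an effective descent datum is effective. -/
theorem pull_effective {Y : Scheme.{u}} (r : Y ⟶ X') {pY : Y ⟶ S'} (hY : r ≫ p' = pY)
    (w' : (r ≫ q) ≫ p = pY ≫ s) (D : SchDD p) (U' : Over S') (e : (toDD p').obj U' ≅ pullDD w D) :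
    Nonempty ((toDD pY).obj U' ≅ pullDD w' D) := by
  subst hY
  let ρ : (pullDD w' D).obj.left ⟶ (pullDD w D).obj.left :=
    pullDD_lift w D (prD w' D) ((pullDD w' D).obj.hom ≫ r) (by rw [prD_cond, Category.assoc])
  have hρpr : ρ ≫ prD w D = prD w' D := pullDD_lift_pr w D _ _ _
  have hρhom : ρ ≫ (pullDD w D).obj.hom = (pullDD w' D).obj.hom ≫ r := pullDD_lift_hom w D _ _ _
  let c' : (pullDD w D).obj.left ⟶ U'.left := e.inv.hom.left ≫ sndU p' U'
  have h1 : IsPullback (pullDD w D).obj.hom c' p' U'.hom := isPullback_of_iso e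
  have hbig : IsPullback (ρ ≫ prD w D) (pullDD w' D).obj.hom D.obj.hom (r ≫ q) := by
    rw [hρpr]
    exact isPullback_pullDD w' D
  have hleft : IsPullback ρ (pullDD w' D).obj.hom (pullDD w D).obj.hom r :=
    IsPullback.of_right hbig hρhom (isPullback_pullDD w D)
  have h2 : IsPullback (pullDD w' D).obj.hom (ρ ≫ c') (r ≫ p') U'.hom := hleft.flip.paste_vert h1
  haveI : IsIso (toDD_lift (pullDD w' D).obj.hom (ρ ≫ c') h2.w) := isIso_toDD_lift_of_isPullback h2
  refine nonempty_iso_of_invariant (pullDD w' D) U' (ρ ≫ c') h2.w ?_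
  intro T y₀ y₁ h u
  have h' : (y₀ ≫ r) ≫ p' = (y₁ ≫ r) ≫ p' := by
    rw [Category.assoc, Category.assoc]
    exact h
  have hu' : (u.1 ≫ ρ) ≫ (pullDD w D).obj.hom = y₀ ≫ r := by
    rw [Category.assoc, hρhom, ← Category.assoc, u.2]
  have key : ((pullDD w D).φ (y₀ ≫ r) (y₁ ≫ r) h' ⟨u.1 ≫ ρ, hu'⟩).1 =
      ((pullDD w' D).φ y₀ y₁ h u).1 ≫ ρ := by
    apply pullDD_hom_ext w D
    · have hA : ((u.1 ≫ ρ) ≫ prD w D) ≫ D.obj.hom = (y₀ ≫ r) ≫ q := by
        rw [Category.assoc, prD_cond, ← Category.assoc, hu']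
      have eL := pullDD_φV_pr w D (y₀ ≫ r) (y₁ ≫ r) h' (u.1 ≫ ρ) hu' hA
      have hB : (u.1 ≫ prD w' D) ≫ D.obj.hom = y₀ ≫ r ≫ q := by
        rw [Category.assoc, prD_cond, ← Category.assoc, u.2]
      have eR := pullDD_φV_pr w' D y₀ y₁ h u.1 u.2 hB
      have eRR : (((pullDD w' D).φ y₀ y₁ h u).1 ≫ ρ) ≫ prD w D =
          φV D (y₀ ≫ r ≫ q) (y₁ ≫ r ≫ q) (pull_compat w' y₀ y₁ h) (u.1 ≫ prD w' D) hB := by
        rw [Category.assoc, hρpr]
        exact eR
      refine Eq.trans ?_ eRR.symm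
      refine Eq.trans eL ?_
      exact φV_congr D (Category.assoc _ _ _) (Category.assoc _ _ _) _ _
        (by rw [Category.assoc, hρpr]) _ _
    · rw [Category.assoc, hρhom, ← Category.assoc, ((pullDD w' D).φ y₀ y₁ h u).2]
      exact ((pullDD w D).φ (y₀ ≫ r) (y₁ ≫ r) h' ⟨u.1 ≫ ρ, hu'⟩).2
  have hinv := invariant_of_iso e (y₀ ≫ r) (y₁ ≫ r) h' ⟨u.1 ≫ ρ, hu'⟩
  rw [key] at hinv
  simpa only [Category.assoc] using hinv

end pull

/-- Refinement by an arbitrary morphism: if `q ≫ p` is a descent cover and the pullback of `D` along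
`q` is effective, then `D` is effective. -/
theorem effective_of_pull_effective_of_cover {X' : Scheme.{u}} (q : X' ⟶ X) [IsDescCover (q ≫ p)]
    (D : SchDD p) (U : Over S)
    (e : (toDD (q ≫ p)).obj U ≅
      pullDD (s := 𝟙 S) (p' := q ≫ p) (Category.comp_id (q ≫ p)).symm D) :
    Nonempty ((toDD p).obj U ≅ D) := by
  let π₁ : pullback (q ≫ p) p ⟶ X' := pullback.fst _ _
  let π₂ : pullback (q ≫ p) p ⟶ X := pullback.snd _ _
  have hcond : π₁ ≫ q ≫ p = π₂ ≫ p := pullback.condition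
  have hQ : UGood π₂ := (inferInstance : IsDescCover (pullback.snd (q ≫ p) p)).out
  have wa : (π₁ ≫ q) ≫ p = (π₂ ≫ p) ≫ 𝟙 S := by rw [Category.comp_id, Category.assoc, hcond]
  have wb : π₂ ≫ p = (π₂ ≫ p) ≫ 𝟙 S := (Category.comp_id _).symm
  obtain ⟨e₁⟩ := pull_effective (Category.comp_id (q ≫ p)).symm π₁ (pY := π₂ ≫ p) hcond wa D U e
  let e₂ := e₁ ≪≫ twistIso wa wb D
  exact effective_of_pull_effective_gen UGood (fun f hf => hf.effectiveEpi) (fun f hf => hf.epi)
    π₂ hQ D U e₂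

end Groth.Agent.Lib.H5bDDGen
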