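import Mathlib
import Groth.Prelude.Def_Desc
import Groth.Agent.Lib.H5bDDGenG

/-!
# Effectivity along fppf covers reduces to quasi-compact fppf covers with affine source (helper5)
-/

set_option autoImplicit false
set_option linter.unusedSectionVars false
set_option linter.style.haveILetI false
universe u

namespace Groth.Agent.Lib.H5bDDGen

open CategoryTheory CategoryTheory.Limits AlgebraicGeometry Desc Groth.Agent.Lib.H5bDDGlue

/-- If descent data with structure morphism in `P` (a property stable under base change) are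
effective along all surjective flat finitely presented quasi-compact morphisms with affine source,
they are effective along all surjective flat locally finitely presented morphisms. -/
theorem effective_fppf_of_affine_source (P : MorphismProperty Scheme.{u})
    (hPbc : ∀ {X Y Y' : Scheme.{u}} (f : X ⟶ Y) (g : Y' ⟶ Y), P f → P (pullback.snd f g))
    (H : ∀ {X S : Scheme.{u}} (p : X ⟶ S) [IsAffine X] [Surjective p] [Flat p]
      [LocallyOfFinitePresentation p] [QuasiCompact p] (D : SchDD p), P D.obj.hom →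
      ∃ U : Over S, Nonempty ((toDD p).obj U ≅ D))
    {X S : Scheme.{u}} (p : X ⟶ S) [Surjective p] [Flat p] [LocallyOfFinitePresentation p]
    (D : SchDD p) (hD : P D.obj.hom) : ∃ U : Over S, Nonempty ((toDD p).obj U ≅ D) := by
  apply effective_of_good_cover D
  intro v
  obtain ⟨⟨S₀, hS₀⟩, hxS₀⟩ : ∃ S₀ : S.affineOpens, p (D.obj.hom v) ∈ S₀.1 := by
    obtain ⟨_, ⟨S₀, hS₀, rfl⟩, hv, -⟩ :=
      S.isBasis_affineOpens.exists_subset_of_mem_open (Set.mem_univ (p (D.obj.hom v))) isOpen_univ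
    exact ⟨⟨S₀, hS₀⟩, hv⟩
  obtain ⟨_, ⟨X₀, hX₀, rfl⟩, hxX₀, hX₀S₀⟩ :=
    X.isBasis_affineOpens.exists_subset_of_mem_open
      (show D.obj.hom v ∈ ((p ⁻¹ᵁ S₀ : X.Opens) : Set X) from hxS₀) (p ⁻¹ᵁ S₀).isOpen
  let S₁ : S.Opens := ⟨p '' (X₀ : Set X), p.isOpenMap _ X₀.isOpen⟩
  have hS₁S₀ : (S₁ : Set S) ⊆ (S₀ : Set S) := by
    rintro _ ⟨y, hy, rfl⟩
    exact hX₀S₀ hy
  have hX₀S₁ : X₀ ≤ p ⁻¹ᵁ S₁ := fun y hy => ⟨y, hy, rfl⟩
  have sq : IsPullback (p ⁻¹ᵁ S₁).ι (p ∣_ S₁) p S₁.ι := (isPullback_morphismRestrict p S₁).flip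
  let D₁ := pullDD sq.w D
  have hD₁ : P D₁.obj.hom := hPbc _ _ hD
  let q : (X₀ : Scheme.{u}) ⟶ (p ⁻¹ᵁ S₁ : Scheme.{u}) := X.homOfLE hX₀S₁
  haveI : IsAffine (X₀ : Scheme.{u}) := hX₀
  haveI : Flat (p ∣_ S₁) := MorphismProperty.of_isPullback (P := @Flat) sq inferInstance
  haveI : LocallyOfFinitePresentation (p ∣_ S₁) :=
    MorphismProperty.of_isPullback (P := @LocallyOfFinitePresentation) sq inferInstance
  have hqp : (q ≫ p ∣_ S₁) ≫ S₁.ι = Scheme.Opens.ι X₀ ≫ p := by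
    rw [Category.assoc, morphismRestrict_ι, ← Category.assoc, X.homOfLE_ι]
  haveI : Surjective (q ≫ p ∣_ S₁) := by
    refine ⟨fun s => ?_⟩
    obtain ⟨y, hy, hs⟩ := s.2
    refine ⟨⟨y, hy⟩, ?_⟩
    apply Subtype.ext
    have := congr($(hqp) ⟨y, hy⟩)
    rw [Scheme.Hom.comp_apply, Scheme.Hom.comp_apply] at this
    exact this.trans hs
  haveI : QuasiSeparatedSpace ↥(S₁ : Scheme.{u}) :=
    (isQuasiSeparated_iff_quasiSeparatedSpace _ S₁.isOpen).mp (hS₀.isQuasiSeparated.of_subset hS₁S₀)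
  haveI : QuasiCompact (q ≫ p ∣_ S₁) := quasiCompact_of_compactSpace _
  let D₀ := pullDD (s := 𝟙 _) (p' := q ≫ p ∣_ S₁) (Category.comp_id (q ≫ p ∣_ S₁)).symm D₁
  have hD₀ : P D₀.obj.hom := hPbc _ _ hD₁
  obtain ⟨U₁, ⟨e⟩⟩ := H (q ≫ p ∣_ S₁) D₀ hD₀
  obtain ⟨e₁⟩ := effective_of_pull_effective_of_cover q D₁ U₁ e
  refine ⟨_, good_of_pull_effective sq D U₁ e₁, ?_⟩
  change D.obj.hom v ∈ (p ⁻¹ᵁ S₁).ι.opensRange
  rw [Scheme.Opens.opensRange_ι]
  exact ⟨D.obj.hom v, hxX₀, rfl⟩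

end Groth.Agent.Lib.H5bDDGen
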