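import Mathlib
import Groth.Prelude.Def_Desc
import Groth.Agent.Lib.H5bDDEffB
import Groth.Agent.Lib.H5bDDQAffA

/-!
# Restriction of a descent datum to a stable open (helper5)

`restrictDD D W hst`: for an open `W` of the scheme of a descent datum `D` which is stable under the
gluing bijections, the restricted descent datum; `restrictHom`: its open immersion into `D`;
`good_of_restrict_effective`: if the restriction is effective then `W` is a good open.
-/

set_option autoImplicit false
set_option linter.unusedSectionVars false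
set_option linter.style.haveILetI false
universe u

namespace Groth.Agent.Lib.H5bDDGen

open CategoryTheory CategoryTheory.Limits AlgebraicGeometry Desc Groth.Agent.Lib.H5bDDGlue

variable {X S : Scheme.{u}} {p : X ⟶ S} (D : SchDD p) (W : D.obj.left.Opens)

/-- stability of an open under the gluing bijections. -/
def IsStable : Prop :=
  ∀ ⦃T : Scheme.{u}⦄ (x₀ x₁ : T ⟶ X) (h : x₀ ≫ p = x₁ ≫ p) (w : Lifts D.obj x₀),
    Set.range w.1 ⊆ (W : Set D.obj.left) → Set.range (D.φ x₀ x₁ h w).1 ⊆ (W : Set D.obj.left)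

variable {D W} (hst : IsStable D W)

/-- the object of the restricted descent datum. -/
noncomputable abbrev restrictObj (D : SchDD p) (W : D.obj.left.Opens) : Over X :=
  Over.mk (W.ι ≫ D.obj.hom)

/-- the push of a point of `W` to a point of `V`. -/
noncomputable def pushW {T : Scheme.{u}} {x : T ⟶ X} (t : Lifts (restrictObj D W) x) :
    Lifts D.obj x :=
  ⟨t.1 ≫ W.ι, by rw [Category.assoc]; exact t.2⟩

lemma range_pushW {T : Scheme.{u}} {x : T ⟶ X} (t : Lifts (restrictObj D W) x) :
    Set.range (pushW t).1 ⊆ (W : Set D.obj.left) := by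
  rintro _ ⟨a, rfl⟩
  change (t.1 ≫ W.ι) a ∈ _
  rw [Scheme.Hom.comp_apply]
  exact (t.1 a).2

include hst in
lemma range_φ_pushW {T : Scheme.{u}} (x₀ x₁ : T ⟶ X) (h : x₀ ≫ p = x₁ ≫ p)
    (t : Lifts (restrictObj D W) x₀) :
    Set.range (D.φ x₀ x₁ h (pushW t)).1 ⊆ Set.range W.ι := by
  rw [Scheme.Opens.range_ι]
  exact hst x₀ x₁ h (pushW t) (range_pushW t)

/-- the restricted gluing map. -/
noncomputable def resMap {T : Scheme.{u}} (x₀ x₁ : T ⟶ X) (h : x₀ ≫ p = x₁ ≫ p)
    (t : Lifts (restrictObj D W) x₀) : Lifts (restrictObj D W) x₁ :=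
  ⟨IsOpenImmersion.lift W.ι (D.φ x₀ x₁ h (pushW t)).1 (range_φ_pushW hst x₀ x₁ h t), by
    change _ ≫ W.ι ≫ D.obj.hom = x₁
    rw [← Category.assoc, IsOpenImmersion.lift_fac]
    exact (D.φ x₀ x₁ h (pushW t)).2⟩

lemma resMap_ι {T : Scheme.{u}} (x₀ x₁ : T ⟶ X) (h : x₀ ≫ p = x₁ ≫ p)
    (t : Lifts (restrictObj D W) x₀) :
    (resMap hst x₀ x₁ h t).1 ≫ W.ι = (D.φ x₀ x₁ h (pushW t)).1 :=
  IsOpenImmersion.lift_fac _ _ _

lemma pushW_resMap {T : Scheme.{u}} (x₀ x₁ : T ⟶ X) (h : x₀ ≫ p = x₁ ≫ p)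
    (t : Lifts (restrictObj D W) x₀) :
    pushW (resMap hst x₀ x₁ h t) = D.φ x₀ x₁ h (pushW t) :=
  Subtype.ext (resMap_ι hst x₀ x₁ h t)

lemma lifts_ext {T : Scheme.{u}} {x : T ⟶ X} {t t' : Lifts (restrictObj D W) x}
    (h : pushW t = pushW t') : t = t' := by
  apply Subtype.ext
  rw [← cancel_mono W.ι]
  exact congrArg Subtype.val h

/-- the restriction of a descent datum to a stable open. -/
noncomputable def restrictDD : SchDD p where
  obj := restrictObj D W
  φ T x₀ x₁ h :=
    { toFun := resMap hst x₀ x₁ h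
      invFun := resMap hst x₁ x₀ h.symm
      left_inv := fun t => by
        apply lifts_ext
        rw [pushW_resMap, pushW_resMap, D.φ_comp, D.φ_self]
      right_inv := fun t => by
        apply lifts_ext
        rw [pushW_resMap, pushW_resMap, D.φ_comp, D.φ_self] }
  φ_natural T T' g x₀ x₁ h h' t t' ht' := by
    change (resMap hst (g ≫ x₀) (g ≫ x₁) h' t').1 = g ≫ (resMap hst x₀ x₁ h t).1
    rw [← cancel_mono W.ι, Category.assoc, resMap_ι, resMap_ι]
    refine D.φ_natural g x₀ x₁ h h' (pushW t) (pushW t') ?_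
    change t'.1 ≫ W.ι = g ≫ t.1 ≫ W.ι
    rw [ht', Category.assoc]
  φ_self T x t := by
    apply lifts_ext
    change pushW (resMap hst x x rfl t) = _
    rw [pushW_resMap, D.φ_self]
  φ_comp T x₀ x₁ x₂ h₀₁ h₁₂ t := by
    apply lifts_ext
    change pushW (resMap hst x₁ x₂ h₁₂ (resMap hst x₀ x₁ h₀₁ t)) =
      pushW (resMap hst x₀ x₂ (h₀₁.trans h₁₂) t)
    rw [pushW_resMap, pushW_resMap, pushW_resMap, D.φ_comp]

/-- the inclusion of the restricted descent datum. -/
noncomputable def restrictHom : restrictDD hst ⟶ D :=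
  ⟨Over.homMk W.ι rfl, by
    intro T x₀ x₁ h t w hw
    have hw' : w = pushW t := Subtype.ext hw
    rw [hw']
    exact (resMap_ι hst x₀ x₁ h t).symm⟩

lemma restrictHom_left : (restrictHom hst).hom.left = W.ι := rfl

/-- if the restriction to a stable open is effective then the open is good. -/
theorem good_of_restrict_effective (U : Over S) (e : (toDD p).obj U ≅ restrictDD hst) :
    Good D W := by
  let i : ((toDD p).obj U).obj.left ⟶ (W : Scheme.{u}) := e.hom.hom.left
  haveI : IsIso i := (leftIso e).isIso_hom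
  have hj : (e.hom ≫ restrictHom hst).hom.left = i ≫ W.ι := rfl
  refine ⟨U, e.hom ≫ restrictHom hst, ?_, ?_⟩
  · rw [hj]
    infer_instance
  · rw [hj, Scheme.Hom.comp_base, TopCat.coe_comp, Set.range_comp,
      Set.range_eq_univ.mpr i.surjective, Set.image_univ, Scheme.Opens.range_ι]

end Groth.Agent.Lib.H5bDDGen
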