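import Mathlib
import Groth.Prelude.Def_Desc
import Groth.Agent.Lib.H5bDDGenF
import Groth.Agent.Lib.H5bDDGenI

/-!
# The stable hull of an open of a descent datum (helper5)

For a descent datum `D` relative to `p : X ⟶ S` with scheme `V`, the scheme `R = V ×_S X` with its
projection `prV : R ⟶ V` and its action `act : R ⟶ V`; the stable hull `hull W = act (prV⁻¹ W)` of an
open `W` of `V`, which is open for `p` flat locally of finite presentation, quasi-compact if `W`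
and `p` are, and stable under the gluing bijections.
-/

set_option autoImplicit false
set_option linter.unusedSectionVars false
set_option linter.style.haveILetI false
universe u

namespace Groth.Agent.Lib.H5bDDGen

open CategoryTheory CategoryTheory.Limits AlgebraicGeometry Desc Groth.Agent.Lib.H5bDDGlue

variable {X S : Scheme.{u}} (p : X ⟶ S) (D : SchDD p)

/-- `X ×_S X`. -/
noncomputable abbrev YY : Scheme.{u} := pullback p p

/-- first projection. -/
noncomputable abbrev π₁ : YY p ⟶ X := pullback.fst p p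

/-- second projection. -/
noncomputable abbrev π₂ : YY p ⟶ X := pullback.snd p p

lemma wa : π₁ p ≫ p = (π₁ p ≫ p) ≫ 𝟙 S := (Category.comp_id _).symm

lemma wb : π₂ p ≫ p = (π₁ p ≫ p) ≫ 𝟙 S := by
  rw [Category.comp_id]
  exact pullback.condition.symm

/-- `R = V ×_S X`. -/
noncomputable abbrev RR' : Scheme.{u} := (pullDD (wa p) D).obj.left

/-- the projection `R ⟶ V`. -/
noncomputable def prV : RR' p D ⟶ D.obj.left := prD (wa p) D

/-- the structure morphism `R ⟶ X ×_S X`. -/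
noncomputable def homR : RR' p D ⟶ YY p := (pullDD (wa p) D).obj.hom

lemma prV_cond : prV p D ≫ D.obj.hom = homR p D ≫ π₁ p := prD_cond (wa p) D

/-- the action `R ⟶ V`. -/
noncomputable def act : RR' p D ⟶ D.obj.left := twist (wa p) (wb p) D ≫ prD (wb p) D

lemma comp_act {T : Scheme.{u}} (t : T ⟶ RR' p D) (y : T ⟶ YY p) (ht : t ≫ homR p D = y)
    (ht' : (t ≫ prV p D) ≫ D.obj.hom = y ≫ π₁ p) :
    t ≫ act p D = φV D (y ≫ π₁ p) (y ≫ π₂ p) (twist_compat (wa p) (wb p) y) (t ≫ prV p D) ht' :=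
  comp_twist_pr (wa p) (wb p) D t y ht ht'

/-- points of `R`. -/
noncomputable def Rlift {T : Scheme.{u}} (u : T ⟶ D.obj.left) (x₁ : T ⟶ X)
    (h : (u ≫ D.obj.hom) ≫ p = x₁ ≫ p) : T ⟶ RR' p D :=
  pullDD_lift (wa p) D u (pullback.lift (u ≫ D.obj.hom) x₁ h) (pullback.lift_fst _ _ _).symm

lemma Rlift_prV {T : Scheme.{u}} (u : T ⟶ D.obj.left) (x₁ : T ⟶ X)
    (h : (u ≫ D.obj.hom) ≫ p = x₁ ≫ p) : Rlift p D u x₁ h ≫ prV p D = u :=
  pullDD_lift_pr (wa p) D _ _ _

lemma Rlift_homR {T : Scheme.{u}} (u : T ⟶ D.obj.left) (x₁ : T ⟶ X)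
    (h : (u ≫ D.obj.hom) ≫ p = x₁ ≫ p) :
    Rlift p D u x₁ h ≫ homR p D = pullback.lift (u ≫ D.obj.hom) x₁ h :=
  pullDD_lift_hom (wa p) D _ _ _

lemma Rlift_act {T : Scheme.{u}} (u : T ⟶ D.obj.left) (x₁ : T ⟶ X)
    (h : (u ≫ D.obj.hom) ≫ p = x₁ ≫ p) :
    Rlift p D u x₁ h ≫ act p D = φV D (u ≫ D.obj.hom) x₁ h u rfl := by
  have ht' : (Rlift p D u x₁ h ≫ prV p D) ≫ D.obj.hom =
      pullback.lift (u ≫ D.obj.hom) x₁ h ≫ π₁ p := by
    rw [Rlift_prV, pullback.lift_fst]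
  rw [comp_act p D _ _ (Rlift_homR p D u x₁ h) ht']
  exact φV_congr D (pullback.lift_fst _ _ _) (pullback.lift_snd _ _ _) _ _ (Rlift_prV p D u x₁ h) _ _

/-- the diagonal point. -/
noncomputable def δR : D.obj.left ⟶ RR' p D := Rlift p D (𝟙 _) D.obj.hom (by rw [Category.id_comp])

lemma δR_prV : δR p D ≫ prV p D = 𝟙 _ := Rlift_prV p D _ _ _

lemma δR_act : δR p D ≫ act p D = 𝟙 _ := by
  rw [δR, Rlift_act]
  have : φV D (𝟙 D.obj.left ≫ D.obj.hom) D.obj.hom (by rw [Category.id_comp]) (𝟙 _) rfl =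
      φV D D.obj.hom D.obj.hom rfl (𝟙 _) (Category.id_comp _) :=
    φV_congr D (Category.id_comp _) rfl _ _ rfl _ _
  rw [this, φV_self]

section hull

variable [Flat p] [LocallyOfFinitePresentation p]

lemma isOpenMap_act : IsOpenMap (act p D) := by
  haveI : IsIso (twist (wa p) (wb p) D) :=
    ⟨twist (wb p) (wa p) D, twist_twist _ _ D, twist_twist _ _ D⟩
  haveI : Flat (prD (wb p) D) := inferInstance
  haveI : LocallyOfFinitePresentation (prD (wb p) D) :=
    inferInstanceAs (LocallyOfFinitePresentation (pullback.fst D.obj.hom (π₂ p)))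
  have h1 : IsOpenMap (prD (wb p) D) := (prD (wb p) D).isOpenMap
  have h2 : IsOpenMap (twist (wa p) (wb p) D) :=
    (twist (wa p) (wb p) D).homeomorph.isOpenMap
  have : ⇑(act p D) = ⇑(prD (wb p) D) ∘ ⇑(twist (wa p) (wb p) D) := by
    ext a
    exact Scheme.Hom.comp_apply _ _ a
  rw [this]
  exact h1.comp h2

/-- the stable hull of an open. -/
noncomputable def hull (W : D.obj.left.Opens) : D.obj.left.Opens :=
  ⟨act p D '' (prV p D ⁻¹' (W : Set D.obj.left)),
    isOpenMap_act p D _ (W.isOpen.preimage (prV p D).continuous)⟩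

lemma mem_hull {W : D.obj.left.Opens} {y : D.obj.left} :
    y ∈ hull p D W ↔ ∃ r : RR' p D, prV p D r ∈ W ∧ act p D r = y := Iff.rfl

lemma le_hull (W : D.obj.left.Opens) : W ≤ hull p D W := by
  intro y hy
  refine ⟨δR p D y, ?_, ?_⟩
  · change prV p D (δR p D y) ∈ W
    rw [← Scheme.Hom.comp_apply, δR_prV]
    exact hy
  · rw [← Scheme.Hom.comp_apply, δR_act]
    rfl

lemma isCompact_hull [QuasiCompact p] {W : D.obj.left.Opens} (hW : IsCompact (W : Set D.obj.left)) :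
    IsCompact (hull p D W : Set D.obj.left) := by
  haveI : QuasiCompact (prV p D) :=
    inferInstanceAs (QuasiCompact (pullback.fst D.obj.hom (π₁ p)))
  have h1 : IsCompact ((prV p D) ⁻¹ᵁ W : Set (RR' p D)) := (prV p D).isCompact_preimage hW
  exact h1.image (act p D).continuous

/-- the hull is stable under the gluing bijections. -/
theorem isStable_hull (W : D.obj.left.Opens) : IsStable D (hull p D W) := by
  intro T x₀ x₁ h w hw
  rintro _ ⟨t, rfl⟩
  obtain ⟨r, hrW, hr⟩ := hw ⟨t, rfl⟩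
  obtain ⟨z, hz1, hz2⟩ := Scheme.Pullback.exists_preimage_pullback
    (f := w.1) (g := act p D) t r hr.symm
  let P2 := pullback w.1 (act p D)
  let T' := Spec (P2.residueField z)
  let t0 : T' ⟶ P2 := P2.fromSpecResidueField z
  let α : T' ⟶ T := t0 ≫ pullback.fst _ _
  let β : T' ⟶ RR' p D := t0 ≫ pullback.snd _ _
  have hαβ : α ≫ w.1 = β ≫ act p D := by
    simp only [α, β, Category.assoc, pullback.condition]
  have hpt : ∀ a : T', t0 a = z := by
    intro a
    have : t0 a ∈ Set.range t0 := ⟨a, rfl⟩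
    rw [Scheme.range_fromSpecResidueField] at this
    exact this
  let u : T' ⟶ D.obj.left := β ≫ prV p D
  let y : T' ⟶ YY p := β ≫ homR p D
  have hu : u ≫ D.obj.hom = y ≫ π₁ p := by
    simp only [u, y, Category.assoc, prV_cond]
  have e1 : β ≫ act p D = φV D (y ≫ π₁ p) (y ≫ π₂ p) (twist_compat (wa p) (wb p) y) u hu :=
    comp_act p D β y rfl hu
  have hx₀ : α ≫ x₀ = y ≫ π₂ p := by
    rw [← w.2, ← Category.assoc, hαβ, e1]
    exact φV_hom D _ _ _ _ _
  have hh : (α ≫ x₀) ≫ p = (α ≫ x₁) ≫ p := by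
    rw [Category.assoc α x₀ p, Category.assoc α x₁ p, h]
  have e2 : α ≫ (D.φ x₀ x₁ h w).1 = φV D (α ≫ x₀) (α ≫ x₁) hh (α ≫ w.1)
      (by rw [Category.assoc, w.2]) :=
    (φV_natural D α x₀ x₁ h w.1 w.2 hh (by rw [Category.assoc, w.2])).symm
  have hh2 : (y ≫ π₂ p) ≫ p = (α ≫ x₁) ≫ p := by rw [← hx₀]; exact hh
  have e3 : φV D (α ≫ x₀) (α ≫ x₁) hh (α ≫ w.1) (by rw [Category.assoc, w.2]) =
      φV D (y ≫ π₂ p) (α ≫ x₁) hh2
        (φV D (y ≫ π₁ p) (y ≫ π₂ p) (twist_compat (wa p) (wb p) y) u hu) (φV_hom D _ _ _ _ _) :=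
    φV_congr D hx₀ rfl _ _ (hαβ.trans e1) _ _
  have e4 := φV_comp D (y ≫ π₁ p) (y ≫ π₂ p) (α ≫ x₁) (twist_compat (wa p) (wb p) y) hh2 u hu
  have hux : (u ≫ D.obj.hom) ≫ p = (α ≫ x₁) ≫ p := by
    rw [hu]
    exact (twist_compat (wa p) (wb p) y).trans hh2
  let r'' : T' ⟶ RR' p D := Rlift p D u (α ≫ x₁) hux
  have e5 : r'' ≫ act p D = φV D (y ≫ π₁ p) (α ≫ x₁)
      ((twist_compat (wa p) (wb p) y).trans hh2) u hu :=
    (Rlift_act p D u (α ≫ x₁) hux).trans (φV_congr D hu rfl _ _ rfl _ _)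
  have key : α ≫ (D.φ x₀ x₁ h w).1 = r'' ≫ act p D :=
    e2.trans (e3.trans (e4.trans e5.symm))
  obtain ⟨a⟩ : Nonempty T' := inferInstance
  have hαa : α a = t := by
    change (t0 ≫ pullback.fst _ _) a = t
    rw [Scheme.Hom.comp_apply, hpt a]
    exact hz1
  have hβa : β a = r := by
    change (t0 ≫ pullback.snd _ _) a = r
    rw [Scheme.Hom.comp_apply, hpt a]
    exact hz2
  refine ⟨r'' a, ?_, ?_⟩
  · change prV p D (r'' a) ∈ W
    rw [← Scheme.Hom.comp_apply, Rlift_prV]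
    change (β ≫ prV p D) a ∈ W
    rw [Scheme.Hom.comp_apply, hβa]
    exact hrW
  · rw [← Scheme.Hom.comp_apply, ← key, Scheme.Hom.comp_apply, hαa]

end hull

end Groth.Agent.Lib.H5bDDGen
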