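import Mathlib

/-!
# Faithfully flat descent in coalgebra form (helper5)

For a flat ring map `A → A'`, an `A'`-module `N` and a coaction `θ : N → A' ⊗[A] N` for the comonad
`A' ⊗[A] -` (linear over `A'`, counital and coassociative), the module of invariants
`M = {n | θ n = 1 ⊗ n}` satisfies `A' ⊗[A] M ≃ N` (`coalg_descent`).  The algebra version
`isPushout_equalizer` gives `Algebra.IsPushout A A' B B'` for the equalizer subalgebra `B`.
-/

set_option autoImplicit false
universe u

namespace Groth.Agent.Lib.H5bCoalgDesc

open TensorProduct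

section Module

variable (A A' : Type u) [CommRing A] [CommRing A'] [Algebra A A']
variable (N : Type u) [AddCommGroup N] [Module A N] [Module A' N] [IsScalarTower A A' N]

/-- the counit `A' ⊗[A] N → N`, `a ⊗ n ↦ a • n`. -/
noncomputable abbrev ε : A' ⊗[A] N →ₗ[A] N := TensorProduct.lift (Algebra.lsmul A A N).toLinearMap

lemma ε_tmul (a : A') (n : N) : ε A A' N (a ⊗ₜ n) = a • n := by simp [ε]

variable {A A' N}

theorem coalg_descent [Module.Flat A A'] (θ : N →ₗ[A] A' ⊗[A] N)
    (hlin : ∀ (a : A') (n : N), θ (a • n) = a • θ n)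
    (hcounit : ∀ n, ε A A' N (θ n) = n)
    (hcoassoc : ∀ n, LinearMap.lTensor A' θ (θ n) =
      LinearMap.lTensor A' (TensorProduct.mk A A' N 1) (θ n))
    (M : Submodule A N) (hM : ∀ n, n ∈ M ↔ θ n = 1 ⊗ₜ n) :
    Function.Bijective (ε A A' N ∘ₗ LinearMap.lTensor A' M.subtype) := by
  let ι₁ : N →ₗ[A] A' ⊗[A] N := TensorProduct.mk A A' N 1
  have hexact : Function.Exact M.subtype (θ - ι₁) := by
    have hMker : M = LinearMap.ker (θ - ι₁) := by
      ext n
      rw [hM, LinearMap.mem_ker, LinearMap.sub_apply, sub_eq_zero]
      rfl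
    rw [hMker]
    exact LinearMap.exact_subtype_ker_map _
  have hexact' := Module.Flat.lTensor_exact A' hexact
  have hinjM : Function.Injective (LinearMap.lTensor A' M.subtype) :=
    Module.Flat.lTensor_preserves_injective_linearMap _ M.injective_subtype
  have key1 : ∀ x : A' ⊗[A] N, θ (ε A A' N x) = ε A A' (A' ⊗[A] N) (LinearMap.lTensor A' θ x) := by
    intro x
    induction x using TensorProduct.induction_on with
    | zero => simp
    | tmul a n => rw [ε_tmul, hlin, LinearMap.lTensor_tmul, ε_tmul]
    | add x y hx hy => simp only [map_add, hx, hy]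
  have key2 : ∀ x : A' ⊗[A] N, ε A A' (A' ⊗[A] N) (LinearMap.lTensor A' ι₁ x) = x := by
    intro x
    induction x using TensorProduct.induction_on with
    | zero => simp
    | tmul a n =>
      rw [LinearMap.lTensor_tmul, ε_tmul]
      change a • ((1 : A') ⊗ₜ[A] n) = a ⊗ₜ n
      rw [TensorProduct.smul_tmul', smul_eq_mul, mul_one]
    | add x y hx hy => simp only [map_add, hx, hy]
  have hE : ∀ x : A' ⊗[A] N, LinearMap.lTensor A' (θ - ι₁) x = 0 → θ (ε A A' N x) = x := by
    intro x hx
    rw [LinearMap.lTensor_sub, LinearMap.sub_apply, sub_eq_zero] at hx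
    rw [key1, hx, key2]
  constructor
  · rw [injective_iff_map_eq_zero]
    intro s hs
    apply hinjM
    rw [map_zero]
    have h0 : LinearMap.lTensor A' (θ - ι₁) (LinearMap.lTensor A' M.subtype s) = 0 :=
      (hexact' _).mpr ⟨s, rfl⟩
    have := hE _ h0
    rw [LinearMap.comp_apply] at hs
    rw [hs, map_zero] at this
    exact this.symm
  · intro n
    have h0 : LinearMap.lTensor A' (θ - ι₁) (θ n) = 0 := by
      rw [LinearMap.lTensor_sub, LinearMap.sub_apply, sub_eq_zero]
      exact hcoassoc n
    obtain ⟨s, hs⟩ := (hexact' _).mp h0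
    exact ⟨s, by rw [LinearMap.comp_apply, hs, hcounit]⟩

end Module

section Alg

variable {A A' B' : Type u} [CommRing A] [CommRing A'] [CommRing B'] [Algebra A A'] [Algebra A B']
  [Algebra A' B'] [IsScalarTower A A' B']

/-- the algebra version: the equalizer subalgebra is a descent of `B'`. -/
theorem isPushout_equalizer [Module.Flat A A'] (θ : B' →ₐ[A] A' ⊗[A] B')
    (hθ : ∀ a : A', θ (algebraMap A' B' a) = a ⊗ₜ 1)
    (hcounit : ∀ b, Algebra.TensorProduct.productMap (IsScalarTower.toAlgHom A A' B')
      (AlgHom.id A B') (θ b) = b)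
    (hcoassoc : ∀ b, Algebra.TensorProduct.map (AlgHom.id A A') θ (θ b) =
      Algebra.TensorProduct.map (AlgHom.id A A') Algebra.TensorProduct.includeRight (θ b)) :
    Algebra.IsPushout A A' (AlgHom.equalizer θ Algebra.TensorProduct.includeRight) B' := by
  set B : Subalgebra A B' := AlgHom.equalizer θ Algebra.TensorProduct.includeRight with hB
  have hlin : ∀ (a : A') (n : B'), θ.toLinearMap (a • n) = a • θ.toLinearMap n := by
    intro a n
    change θ (a • n) = a • θ n
    rw [Algebra.smul_def, map_mul, hθ, Algebra.smul_def]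
    rfl
  have hcounit' : ∀ n : B', ε A A' B' (θ.toLinearMap n) = n := by
    intro n
    have : ∀ x : A' ⊗[A] B', ε A A' B' x = Algebra.TensorProduct.productMap
        (IsScalarTower.toAlgHom A A' B') (AlgHom.id A B') x := by
      intro x
      induction x using TensorProduct.induction_on with
      | zero => simp
      | tmul a b => simp [ε_tmul, Algebra.smul_def]
      | add x y hx hy => simp only [map_add, hx, hy]
    rw [this]
    exact hcounit n
  have hcoassoc' : ∀ n : B', LinearMap.lTensor A' θ.toLinearMap (θ.toLinearMap n) =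
      LinearMap.lTensor A' (TensorProduct.mk A A' B' 1) (θ.toLinearMap n) := by
    intro n
    have h1 : ∀ x : A' ⊗[A] B', LinearMap.lTensor A' θ.toLinearMap x =
        Algebra.TensorProduct.map (AlgHom.id A A') θ x := by
      intro x
      induction x using TensorProduct.induction_on with
      | zero => simp
      | tmul a b => simp
      | add x y hx hy => simp only [map_add, hx, hy]
    have h2 : ∀ x : A' ⊗[A] B', LinearMap.lTensor A' (TensorProduct.mk A A' B' 1) x =
        Algebra.TensorProduct.map (AlgHom.id A A') Algebra.TensorProduct.includeRight x := by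
      intro x
      induction x using TensorProduct.induction_on with
      | zero => simp
      | tmul a b => simp
      | add x y hx hy => simp only [map_add, hx, hy]
    rw [h1, h2]
    exact hcoassoc n
  have hM : ∀ n : B', n ∈ Subalgebra.toSubmodule B ↔ θ.toLinearMap n = 1 ⊗ₜ n := by
    intro n
    rfl
  have hbij := coalg_descent θ.toLinearMap hlin hcounit' hcoassoc' (Subalgebra.toSubmodule B) hM
  -- the `A'`-linear map
  let f : A' ⊗[A] B →ₗ[A'] B' :=
    TensorProduct.AlgebraTensorModule.lift
      (((Algebra.linearMap A' (Module.End A' (B →ₗ[A] B'))).flip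
        (IsScalarTower.toAlgHom A B B').toLinearMap))
  have hf : ∀ x, f x = (ε A A' B' ∘ₗ LinearMap.lTensor A' (Subalgebra.toSubmodule B).subtype) x := by
    intro x
    induction x using TensorProduct.induction_on with
    | zero => simp
    | tmul a b => simp [f, ε_tmul]
    | add x y hx hy => simp only [map_add, hx, hy]
  have hfb : Function.Bijective f := by
    have : (f : A' ⊗[A] B → B') =
        (ε A A' B' ∘ₗ LinearMap.lTensor A' (Subalgebra.toSubmodule B).subtype) := funext hf
    rw [this]
    exact hbij
  refine ⟨IsBaseChange.of_equiv (LinearEquiv.ofBijective f hfb) ?_⟩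
  intro x
  simp [f]

end Alg

end Groth.Agent.Lib.H5bCoalgDesc
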