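import Mathlib
import Groth.Prelude.Def_Desc
import Groth.Agent.Lib.H5bDDEffA
import Groth.Agent.Lib.H5bCoalgDesc

/-!
# Effectivity of affine descent data over an affine base (helper5)

`affine_core`: for a flat ring map `A → A'` and a descent datum relative to `Spec A' ⟶ Spec A`
whose scheme is `Spec B'`, the descent datum is effective.
-/

set_option autoImplicit false
set_option linter.unusedSectionVars false
universe u

namespace Groth.Agent.Lib.H5bDDGlue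

open CategoryTheory CategoryTheory.Limits AlgebraicGeometry Desc TensorProduct

/-- `Spec` of a ring. -/
noncomputable abbrev sp (R : Type u) [CommRing R] : Scheme.{u} := Spec (CommRingCat.of R)

/-- `Spec` of a ring homomorphism. -/
noncomputable abbrev spm {R S : Type u} [CommRing R] [CommRing S] (f : R →+* S) : sp S ⟶ sp R :=
  Spec.map (CommRingCat.ofHom f)

lemma spm_comp {R S T : Type u} [CommRing R] [CommRing S] [CommRing T] (f : R →+* S) (g : S →+* T) :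
    spm (g.comp f) = spm g ≫ spm f := by
  rw [spm, spm, spm, ← Spec.map_comp]
  rfl

lemma spm_id {R : Type u} [CommRing R] : spm (RingHom.id R) = 𝟙 (sp R) := by
  rw [spm]
  exact Spec.map_id _

lemma spm_injective {R S : Type u} [CommRing R] [CommRing S] {f g : R →+* S} (h : spm f = spm g) :
    f = g := by
  have := Spec.map_injective h
  exact congrArg (fun m => m.hom) this

lemma exists_spm {R S : Type u} [CommRing R] [CommRing S] (f : sp S ⟶ sp R) :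
    ∃ g : R →+* S, spm g = f :=
  ⟨(Spec.preimage f).hom, Spec.map_preimage f⟩

section core

variable {A A' B' : Type u} [CommRing A] [CommRing A'] [CommRing B'] [Algebra A A'] [Algebra A' B']
  [Algebra A B'] [IsScalarTower A A' B']
variable (D : SchDD (spm (algebraMap A A'))) (iV : sp B' ≅ D.obj.left)
  (hiV : iV.hom ≫ D.obj.hom = spm (algebraMap A' B'))

/-- a lift from a point of `Spec B'`. -/
noncomputable def liftOf {T : Scheme.{u}} (x : T ⟶ sp A') (v : T ⟶ sp B')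
    (hv : v ≫ spm (algebraMap A' B') = x) : Lifts D.obj x :=
  ⟨v ≫ iV.hom, by rw [Category.assoc, hiV, hv]⟩

/-- the gluing bijections on points of `Spec B'`. -/
noncomputable def φB {T : Scheme.{u}} (x₀ x₁ : T ⟶ sp A')
    (h : x₀ ≫ spm (algebraMap A A') = x₁ ≫ spm (algebraMap A A')) (v : T ⟶ sp B')
    (hv : v ≫ spm (algebraMap A' B') = x₀) : T ⟶ sp B' :=
  (D.φ x₀ x₁ h (liftOf D iV hiV x₀ v hv)).1 ≫ iV.inv

lemma φB_hom {T : Scheme.{u}} (x₀ x₁ : T ⟶ sp A')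
    (h : x₀ ≫ spm (algebraMap A A') = x₁ ≫ spm (algebraMap A A')) (v : T ⟶ sp B')
    (hv : v ≫ spm (algebraMap A' B') = x₀) :
    φB D iV hiV x₀ x₁ h v hv ≫ spm (algebraMap A' B') = x₁ := by
  rw [φB, Category.assoc, ← hiV, Iso.inv_hom_id_assoc]
  exact (D.φ x₀ x₁ h (liftOf D iV hiV x₀ v hv)).2

lemma φB_congr {T : Scheme.{u}} {x₀ x₁ y₀ y₁ : T ⟶ sp A'} (e₀ : x₀ = y₀) (e₁ : x₁ = y₁)
    (h : x₀ ≫ spm (algebraMap A A') = x₁ ≫ spm (algebraMap A A'))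
    (h' : y₀ ≫ spm (algebraMap A A') = y₁ ≫ spm (algebraMap A A')) {v v' : T ⟶ sp B'} (ev : v = v')
    (hv : v ≫ spm (algebraMap A' B') = x₀) (hv' : v' ≫ spm (algebraMap A' B') = y₀) :
    φB D iV hiV x₀ x₁ h v hv = φB D iV hiV y₀ y₁ h' v' hv' := by
  subst e₀ e₁ ev
  rfl

lemma φB_natural {T T' : Scheme.{u}} (g : T' ⟶ T) (x₀ x₁ : T ⟶ sp A')
    (h : x₀ ≫ spm (algebraMap A A') = x₁ ≫ spm (algebraMap A A')) (v : T ⟶ sp B')
    (hv : v ≫ spm (algebraMap A' B') = x₀)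
    (h' : (g ≫ x₀) ≫ spm (algebraMap A A') = (g ≫ x₁) ≫ spm (algebraMap A A'))
    (hv' : (g ≫ v) ≫ spm (algebraMap A' B') = g ≫ x₀) :
    φB D iV hiV (g ≫ x₀) (g ≫ x₁) h' (g ≫ v) hv' = g ≫ φB D iV hiV x₀ x₁ h v hv := by
  rw [φB, φB, ← Category.assoc]
  congr 1
  exact D.φ_natural g x₀ x₁ h h' (liftOf D iV hiV x₀ v hv) (liftOf D iV hiV (g ≫ x₀) (g ≫ v) hv')
    (Category.assoc _ _ _)

lemma φB_self {T : Scheme.{u}} (x : T ⟶ sp A') (v : T ⟶ sp B')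
    (hv : v ≫ spm (algebraMap A' B') = x) : φB D iV hiV x x rfl v hv = v := by
  change (D.φ x x rfl (liftOf D iV hiV x v hv)).1 ≫ iV.inv = v
  rw [D.φ_self]
  change (v ≫ iV.hom) ≫ iV.inv = v
  rw [Category.assoc, Iso.hom_inv_id, Category.comp_id]

lemma φB_comp {T : Scheme.{u}} (x₀ x₁ x₂ : T ⟶ sp A')
    (h₀₁ : x₀ ≫ spm (algebraMap A A') = x₁ ≫ spm (algebraMap A A'))
    (h₁₂ : x₁ ≫ spm (algebraMap A A') = x₂ ≫ spm (algebraMap A A')) (v : T ⟶ sp B')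
    (hv : v ≫ spm (algebraMap A' B') = x₀) :
    φB D iV hiV x₁ x₂ h₁₂ (φB D iV hiV x₀ x₁ h₀₁ v hv) (φB_hom D iV hiV x₀ x₁ h₀₁ v hv) =
      φB D iV hiV x₀ x₂ (h₀₁.trans h₁₂) v hv := by
  have key : liftOf D iV hiV x₁ (φB D iV hiV x₀ x₁ h₀₁ v hv) (φB_hom D iV hiV x₀ x₁ h₀₁ v hv) =
      D.φ x₀ x₁ h₀₁ (liftOf D iV hiV x₀ v hv) := by
    apply Subtype.ext
    change ((D.φ x₀ x₁ h₀₁ (liftOf D iV hiV x₀ v hv)).1 ≫ iV.inv) ≫ iV.hom = _
    rw [Category.assoc, Iso.inv_hom_id, Category.comp_id]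
  change (D.φ x₁ x₂ h₁₂ (liftOf D iV hiV x₁ (φB D iV hiV x₀ x₁ h₀₁ v hv)
    (φB_hom D iV hiV x₀ x₁ h₀₁ v hv))).1 ≫ iV.inv =
      (D.φ x₀ x₂ (h₀₁.trans h₁₂) (liftOf D iV hiV x₀ v hv)).1 ≫ iV.inv
  rw [key, D.φ_comp]

lemma φB_of_lift {T : Scheme.{u}} (x₀ x₁ : T ⟶ sp A')
    (h : x₀ ≫ spm (algebraMap A A') = x₁ ≫ spm (algebraMap A A')) (w : Lifts D.obj x₀) :
    (D.φ x₀ x₁ h w).1 ≫ iV.inv = φB D iV hiV x₀ x₁ h (w.1 ≫ iV.inv) (by
      rw [Category.assoc, ← hiV, Iso.inv_hom_id_assoc]; exact w.2) := by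
  have key : w = liftOf D iV hiV x₀ (w.1 ≫ iV.inv) (by
      rw [Category.assoc, ← hiV, Iso.inv_hom_id_assoc]; exact w.2) := by
    apply Subtype.ext
    change w.1 = (w.1 ≫ iV.inv) ≫ iV.hom
    rw [Category.assoc, Iso.inv_hom_id, Category.comp_id]
  change _ = (D.φ x₀ x₁ h (liftOf D iV hiV x₀ (w.1 ≫ iV.inv) _)).1 ≫ iV.inv
  rw [← key]

end core

end Groth.Agent.Lib.H5bDDGlue
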