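import Mathlib
import Groth.Prelude.Def_Desc
import Groth.Agent.Lib.H5bDDAffine

/-!
# Effectivity of affine descent data over an affine base: the coaction (helper5)
-/

set_option autoImplicit false
set_option linter.unusedSectionVars false
universe u

namespace Groth.Agent.Lib.H5bDDGlue

open CategoryTheory CategoryTheory.Limits AlgebraicGeometry Desc TensorProduct

section core

variable {A A' B' : Type u} [CommRing A] [CommRing A'] [CommRing B'] [Algebra A A'] [Algebra A' B']
  [Algebra A B'] [IsScalarTower A A' B']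
variable (D : SchDD (spm (algebraMap A A'))) (iV : sp B' ≅ D.obj.left)
  (hiV : iV.hom ≫ D.obj.hom = spm (algebraMap A' B'))

variable (A A' B') in
/-- the ring `A' ⊗[A] B'`. -/
abbrev RR : Type u := A' ⊗[A] B'

variable (A A' B') in
/-- `a ↦ a ⊗ 1`. -/
noncomputable abbrev incL : A' →+* RR A A' B' := Algebra.TensorProduct.includeLeftRingHom

variable (A A' B') in
/-- `b ↦ 1 ⊗ b`. -/
noncomputable abbrev incR : B' →+* RR A A' B' :=
  (Algebra.TensorProduct.includeRight : B' →ₐ[A] A' ⊗[A] B').toRingHom

lemma hx_univ : (spm (incR A A' B') ≫ spm (algebraMap A' B')) ≫ spm (algebraMap A A') =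
    spm (incL A A' B') ≫ spm (algebraMap A A') := by
  rw [← spm_comp, ← spm_comp, ← spm_comp]
  congr 1
  ext a
  simp only [RingHom.comp_apply]
  change (1 : A') ⊗ₜ[A] (algebraMap A' B' (algebraMap A A' a)) = (algebraMap A A' a) ⊗ₜ[A] (1 : B')
  rw [← IsScalarTower.algebraMap_apply, Algebra.algebraMap_eq_smul_one, Algebra.algebraMap_eq_smul_one,
    TensorProduct.tmul_smul, TensorProduct.smul_tmul']

/-- the universal twisted point. -/
noncomputable def wUniv : sp (RR A A' B') ⟶ sp B' :=
  φB D iV hiV (spm (incR A A' B') ≫ spm (algebraMap A' B')) (spm (incL A A' B')) hx_univ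
    (spm (incR A A' B')) rfl

lemma wUniv_hom : wUniv D iV hiV ≫ spm (algebraMap A' B') = spm (incL A A' B') :=
  φB_hom D iV hiV _ _ _ _ _

/-- every twisted point is a pullback of the universal one. -/
lemma φB_eq_wUniv {T : Scheme.{u}} (g : T ⟶ sp (RR A A' B')) (x₀ x₁ : T ⟶ sp A')
    (h : x₀ ≫ spm (algebraMap A A') = x₁ ≫ spm (algebraMap A A')) (v : T ⟶ sp B')
    (hv : v ≫ spm (algebraMap A' B') = x₀) (hg1 : g ≫ spm (incL A A' B') = x₁)
    (hg2 : g ≫ spm (incR A A' B') = v) :
    φB D iV hiV x₀ x₁ h v hv = g ≫ wUniv D iV hiV := by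
  have e0 : g ≫ spm (incR A A' B') ≫ spm (algebraMap A' B') = x₀ := by
    rw [← Category.assoc, hg2, hv]
  have h' : (g ≫ spm (incR A A' B') ≫ spm (algebraMap A' B')) ≫ spm (algebraMap A A') =
      (g ≫ spm (incL A A' B')) ≫ spm (algebraMap A A') := by
    rw [e0, hg1, h]
  rw [wUniv, ← φB_natural D iV hiV g _ _ hx_univ _ rfl h' (Category.assoc _ _ _)]
  exact φB_congr D iV hiV e0.symm hg1.symm h h' hg2.symm hv _

/-- the coaction as a ring homomorphism. -/
noncomputable def θr : B' →+* RR A A' B' := (exists_spm (wUniv D iV hiV)).choose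

lemma spm_θr : spm (θr D iV hiV) = wUniv D iV hiV := (exists_spm (wUniv D iV hiV)).choose_spec

lemma θr_comp_algebraMap : (θr D iV hiV).comp (algebraMap A' B') = incL A A' B' := by
  apply spm_injective
  rw [spm_comp, spm_θr, wUniv_hom]

lemma θr_algebraMap (a : A') : θr D iV hiV (algebraMap A' B' a) = a ⊗ₜ[A] (1 : B') :=
  congrArg (fun f => f a) (θr_comp_algebraMap D iV hiV)

/-- the coaction as an algebra homomorphism. -/
noncomputable def θa : B' →ₐ[A] A' ⊗[A] B' :=
  { θr D iV hiV with
    commutes' := fun a => by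
      change θr D iV hiV (algebraMap A B' a) = algebraMap A (A' ⊗[A] B') a
      rw [IsScalarTower.algebraMap_apply A A' B', θr_algebraMap,
        Algebra.TensorProduct.algebraMap_apply] }

lemma θa_apply (b : B') : θa D iV hiV b = θr D iV hiV b := rfl

end core

end Groth.Agent.Lib.H5bDDGlue
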