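import Mathlib
import Groth.Prelude.Def_Desc
import Groth.Agent.Lib.H5bDDAffine2

/-!
# Effectivity of affine descent data over an affine base: the coalgebra axioms (helper5)
-/

set_option autoImplicit false
set_option linter.unusedSectionVars false
universe u

namespace Groth.Agent.Lib.H5bDDGlue

open CategoryTheory CategoryTheory.Limits AlgebraicGeometry Desc TensorProduct

section core

variable {A A' B' : Type u} [CommRing A] [CommRing A'] [CommRing B'] [Algebra A A'] [Algebra A' B']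
  [Algebra A B'] [IsScalarTower A A' B']
variable (D : SchDD (spm (algebraMap A A'))) (iV : sp B' ≅ D.obj.left)
  (hiV : iV.hom ≫ D.obj.hom = spm (algebraMap A' B'))

/-- counit axiom. -/
lemma θa_counit (b : B') :
    Algebra.TensorProduct.productMap (IsScalarTower.toAlgHom A A' B') (AlgHom.id A B')
      (θa D iV hiV b) = b := by
  let m : RR A A' B' →+* B' :=
    (Algebra.TensorProduct.productMap (IsScalarTower.toAlgHom A A' B') (AlgHom.id A B')).toRingHom
  have hmL : m.comp (incL A A' B') = algebraMap A' B' := by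
    ext a
    simp [m]
  have hmR : m.comp (incR A A' B') = RingHom.id B' := by
    ext b
    simp [m]
  have hg1 : spm m ≫ spm (incL A A' B') = spm (algebraMap A' B') := by rw [← spm_comp, hmL]
  have hg2 : spm m ≫ spm (incR A A' B') = 𝟙 _ := by rw [← spm_comp, hmR, spm_id]
  have key := φB_eq_wUniv D iV hiV (spm m) (spm (algebraMap A' B')) (spm (algebraMap A' B')) rfl
    (𝟙 _) (Category.id_comp _) hg1 hg2
  rw [φB_self, ← spm_θr, ← spm_comp, ← spm_id] at key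
  have := spm_injective key
  exact (congrArg (fun f => f b) this).symm

/-- coassociativity axiom. -/
lemma θa_coassoc (b : B') :
    Algebra.TensorProduct.map (AlgHom.id A A') (θa D iV hiV) (θa D iV hiV b) =
      Algebra.TensorProduct.map (AlgHom.id A A') Algebra.TensorProduct.includeRight
        (θa D iV hiV b) := by
  -- the three maps `R → A' ⊗ R`
  let k₀₁ : RR A A' B' →+* A' ⊗[A] RR A A' B' :=
    (Algebra.TensorProduct.includeRight : RR A A' B' →ₐ[A] A' ⊗[A] RR A A' B').toRingHom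
  let k₀₂ : RR A A' B' →+* A' ⊗[A] RR A A' B' :=
    (Algebra.TensorProduct.map (AlgHom.id A A')
      (Algebra.TensorProduct.includeRight : B' →ₐ[A] A' ⊗[A] B')).toRingHom
  let k₁₂ : RR A A' B' →+* A' ⊗[A] RR A A' B' :=
    (Algebra.TensorProduct.map (AlgHom.id A A') (θa D iV hiV)).toRingHom
  let i₃ : A' →+* A' ⊗[A] RR A A' B' := Algebra.TensorProduct.includeLeftRingHom
  -- ring identities
  have r1 : k₀₂.comp (incR A A' B') = k₀₁.comp (incR A A' B') := by
    ext b; simp [k₀₂, k₀₁]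
  have r2 : k₀₂.comp (incL A A' B') = i₃ := by
    ext a; simp [k₀₂, i₃]
  have r3 : k₁₂.comp (incR A A' B') = k₀₁.comp (θr D iV hiV) := by
    ext b; simp [k₁₂, k₀₁, θa_apply]
  have r4 : k₁₂.comp (incL A A' B') = i₃ := by
    ext a; simp [k₁₂, i₃]
  -- points
  let v : sp (A' ⊗[A] RR A A' B') ⟶ sp B' := spm k₀₁ ≫ spm (incR A A' B')
  let y₀ : sp (A' ⊗[A] RR A A' B') ⟶ sp A' := v ≫ spm (algebraMap A' B')
  let y₁ : sp (A' ⊗[A] RR A A' B') ⟶ sp A' := spm k₀₁ ≫ spm (incL A A' B')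
  let y₂ : sp (A' ⊗[A] RR A A' B') ⟶ sp A' := spm i₃
  have h₀₁ : y₀ ≫ spm (algebraMap A A') = y₁ ≫ spm (algebraMap A A') := by
    simp only [y₀, y₁, v, Category.assoc]
    rw [← Category.assoc (spm (incR A A' B')), hx_univ]
  have h₁₂ : y₁ ≫ spm (algebraMap A A') = y₂ ≫ spm (algebraMap A A') := by
    simp only [y₁, y₂, ← spm_comp]
    congr 1
    ext a
    simp only [RingHom.comp_apply]
    change (1 : A') ⊗ₜ[A] ((algebraMap A A' a) ⊗ₜ[A] (1 : B')) =
      (algebraMap A A' a) ⊗ₜ[A] (1 : RR A A' B')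
    rw [Algebra.algebraMap_eq_smul_one]
    have e1 : ((a • (1 : A')) ⊗ₜ[A] (1 : B') : RR A A' B') = a • ((1 : A') ⊗ₜ[A] (1 : B')) :=
      (TensorProduct.smul_tmul' a 1 1).symm
    have e2 : ((a • (1 : A')) ⊗ₜ[A] (1 : RR A A' B')) = a • ((1 : A') ⊗ₜ[A] (1 : RR A A' B')) :=
      (TensorProduct.smul_tmul' a 1 1).symm
    rw [e1, e2, TensorProduct.tmul_smul]
    rfl
  -- (a)
  have ea : φB D iV hiV y₀ y₁ h₀₁ v rfl = spm k₀₁ ≫ wUniv D iV hiV :=
    φB_eq_wUniv D iV hiV (spm k₀₁) y₀ y₁ h₀₁ v rfl rfl rfl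
  -- (b)
  have eb : φB D iV hiV y₀ y₂ (h₀₁.trans h₁₂) v rfl = spm k₀₂ ≫ wUniv D iV hiV :=
    φB_eq_wUniv D iV hiV (spm k₀₂) y₀ y₂ (h₀₁.trans h₁₂) v rfl
      (by rw [← spm_comp, r2]) (by rw [← spm_comp, r1, spm_comp])
  -- (c)
  have hv1 : (spm k₀₁ ≫ wUniv D iV hiV) ≫ spm (algebraMap A' B') = y₁ := by
    rw [Category.assoc, wUniv_hom]
  have ec : φB D iV hiV y₁ y₂ h₁₂ (spm k₀₁ ≫ wUniv D iV hiV) hv1 = spm k₁₂ ≫ wUniv D iV hiV :=
    φB_eq_wUniv D iV hiV (spm k₁₂) y₁ y₂ h₁₂ _ hv1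
      (by rw [← spm_comp, r4]) (by rw [← spm_comp, r3, spm_comp, spm_θr])
  have hcomp := φB_comp D iV hiV y₀ y₁ y₂ h₀₁ h₁₂ v rfl
  have e1 : φB D iV hiV y₁ y₂ h₁₂ (φB D iV hiV y₀ y₁ h₀₁ v rfl)
      (φB_hom D iV hiV y₀ y₁ h₀₁ v rfl) = spm k₁₂ ≫ wUniv D iV hiV := by
    rw [← ec]
    exact φB_congr D iV hiV rfl rfl h₁₂ h₁₂ ea _ hv1
  rw [e1, eb, ← spm_θr, ← spm_comp, ← spm_comp] at hcomp
  have := spm_injective hcomp
  exact congrArg (fun f => f b) this

end core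

end Groth.Agent.Lib.H5bDDGlue
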