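import Mathlib
import Groth.Prelude.Def_Desc
import Groth.Agent.Lib.H5bDDAffine3

/-!
# Effectivity of affine descent data over an affine base (helper5)

`affine_core`: for a flat ring map `A → A'` and a descent datum relative to `Spec A' ⟶ Spec A`
whose scheme is identified with `Spec B'` over `Spec A'`, the descent datum is effective.
-/

set_option autoImplicit false
set_option linter.unusedSectionVars false
universe u

namespace Groth.Agent.Lib.H5bDDGlue

open CategoryTheory CategoryTheory.Limits AlgebraicGeometry Desc TensorProduct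

section core

variable {A A' B' : Type u} [CommRing A] [CommRing A'] [CommRing B'] [Algebra A A'] [Algebra A' B']
  [Algebra A B'] [IsScalarTower A A' B']

theorem affine_core [Module.Flat A A'] (D : SchDD (spm (algebraMap A A'))) (iV : sp B' ≅ D.obj.left)
    (hiV : iV.hom ≫ D.obj.hom = spm (algebraMap A' B')) :
    ∃ U : Over (sp A), Nonempty ((toDD (spm (algebraMap A A'))).obj U ≅ D) := by
  let θ := θa D iV hiV
  let B : Subalgebra A B' := AlgHom.equalizer θ Algebra.TensorProduct.includeRight
  have hpush : Algebra.IsPushout A A' B B' :=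
    Groth.Agent.Lib.H5bCoalgDesc.isPushout_equalizer θ (θr_algebraMap D iV hiV)
      (θa_counit D iV hiV) (θa_coassoc D iV hiV)
  have hpb : IsPullback (spm (algebraMap A' B')) (spm (algebraMap B B')) (spm (algebraMap A A'))
      (spm (algebraMap A B)) :=
    isPullback_SpecMap_of_isPushout _ _ _ _ (CommRingCat.isPushout_of_isPushout A A' B B')
  let U : Over (sp A) := Over.mk (spm (algebraMap A B))
  let cB : sp B' ⟶ sp B := spm (algebraMap B B')
  let c : D.obj.left ⟶ U.left := iV.inv ≫ cB
  have hDhom : D.obj.hom = iV.inv ≫ spm (algebraMap A' B') := by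
    rw [← hiV, Iso.inv_hom_id_assoc]
  have hc : D.obj.hom ≫ spm (algebraMap A A') = c ≫ U.hom := by
    rw [hDhom]
    simp only [c, Category.assoc]
    congr 1
    exact hpb.w
  have hpb' : IsPullback D.obj.hom c (spm (algebraMap A A')) U.hom :=
    IsPullback.of_iso hpb iV (Iso.refl _) (Iso.refl _) (Iso.refl _)
      (by rw [Iso.refl_hom, Category.comp_id, hiV])
      (by simp only [c, Iso.refl_hom, Category.comp_id, Iso.hom_inv_id_assoc]; rfl)
      (by simp) (by simp; rfl)
  have hiso : IsIso (toDD_lift D.obj.hom c hc) := isIso_toDD_lift_of_isPullback hpb'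
  refine ⟨U, nonempty_iso_of_invariant D U c hc ?_⟩
  intro T x₀ x₁ h w
  -- reduce to points of `Spec B'`
  have hv' : (w.1 ≫ iV.inv) ≫ spm (algebraMap A' B') = x₀ := by
    rw [Category.assoc, ← hDhom]; exact w.2
  have e1 : (D.φ x₀ x₁ h w).1 ≫ c = φB D iV hiV x₀ x₁ h (w.1 ≫ iV.inv) hv' ≫ cB := by
    simp only [c]
    rw [← Category.assoc, φB_of_lift D iV hiV x₀ x₁ h w]
  -- the universal point
  have hT : IsPullback (spm (incL A A' B')) (spm (incR A A' B')) (spm (algebraMap A A'))
      (spm (algebraMap A B')) :=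
    isPullback_SpecMap_of_isPushout _ _ _ _ (CommRingCat.isPushout_tensorProduct A A' B')
  have hAB' : spm (algebraMap A B') = spm (algebraMap A' B') ≫ spm (algebraMap A A') := by
    rw [← spm_comp]
    congr 1
    exact IsScalarTower.algebraMap_eq A A' B'
  have hcond : x₁ ≫ spm (algebraMap A A') = (w.1 ≫ iV.inv) ≫ spm (algebraMap A B') := by
    rw [hAB', ← Category.assoc, hv', h]
  let g : T ⟶ sp (RR A A' B') := hT.lift x₁ (w.1 ≫ iV.inv) hcond
  have hg1 : g ≫ spm (incL A A' B') = x₁ := hT.lift_fst _ _ _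
  have hg2 : g ≫ spm (incR A A' B') = w.1 ≫ iV.inv := hT.lift_snd _ _ _
  have e2 := φB_eq_wUniv D iV hiV g x₀ x₁ h (w.1 ≫ iV.inv) hv' hg1 hg2
  rw [e1, e2]
  simp only [c]
  rw [← Category.assoc w.1, ← hg2, Category.assoc, Category.assoc, ← spm_θr, ← spm_comp, ← spm_comp]
  congr 2
  ext b
  exact b.2
  
end core

end Groth.Agent.Lib.H5bDDGlue
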