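import Mathlib
import Groth.Prelude.Def_Desc
import Groth.Agent.Lib.H5bDDGlueB
import Groth.Agent.S1131
import Groth.Agent.S1132

/-!
# Descent data for schemes: gluing effective stable opens (helper5)

The diagram of descended schemes indexed by the good opens, its colimit, and the covers.
-/

set_option autoImplicit false
set_option linter.style.haveILetI false
set_option linter.unusedSectionVars false
universe u

namespace Groth.Agent.Lib.H5bDDGlue

open CategoryTheory CategoryTheory.Limits AlgebraicGeometry Desc

variable {X S : Scheme.{u}} {p : X ⟶ S} [Surjective p] [Flat p] [QuasiCompact p] (D : SchDD p)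

/-- the index category: good opens. -/
abbrev J (D : SchDD p) : Type u := {W : D.obj.left.Opens // Good D W}

/-- the descended scheme of a good open. -/
noncomputable def UU (W : J D) : Over S := W.2.choose

/-- the open immersion of descent data of a good open. -/
noncomputable def jj (W : J D) : (toDD p).obj (UU D W) ⟶ D := W.2.choose_spec.choose

instance (W : J D) : IsOpenImmersion (jj D W).hom.left := W.2.choose_spec.choose_spec.1

lemma range_jj (W : J D) : Set.range (jj D W).hom.left = (W.1 : Set D.obj.left) :=
  W.2.choose_spec.choose_spec.2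

lemma exists_trans {W W' : J D} (h : W ≤ W') :
    ∃ g : UU D W ⟶ UU D W', (toDD p).map g ≫ jj D W' = jj D W := by
  obtain ⟨l, hl⟩ := exists_lift (jj D W) (jj D W') (by
    rw [range_jj, range_jj]
    exact h)
  haveI := Groth.Agent.S1131.result p
  exact ⟨(toDD p).preimage l, by rw [Functor.map_preimage]; exact hl⟩

/-- the transition morphisms. -/
noncomputable def tr {W W' : J D} (h : W ≤ W') : UU D W ⟶ UU D W' := (exists_trans D h).choose

lemma tr_spec {W W' : J D} (h : W ≤ W') : (toDD p).map (tr D h) ≫ jj D W' = jj D W :=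
  (exists_trans D h).choose_spec

lemma tr_unique {W W' : J D} (h : W ≤ W') (g : UU D W ⟶ UU D W')
    (hg : (toDD p).map g ≫ jj D W' = jj D W) : g = tr D h := by
  haveI := Groth.Agent.S1132.result p
  apply (toDD p).map_injective
  apply hom_ext_of_mono (jj D W')
  rw [hg, tr_spec]

/-- the diagram of descended schemes over `S`. -/
noncomputable def G : J D ⥤ Over S where
  obj := UU D
  map f := tr D (leOfHom f)
  map_id W := (tr_unique D _ (𝟙 _) (by simp)).symm
  map_comp f g := (tr_unique D _ _ (by
    rw [Functor.map_comp, Category.assoc, tr_spec, tr_spec])).symm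

/-- the diagram of descended schemes. -/
noncomputable abbrev F : J D ⥤ Scheme.{u} := G D ⋙ Over.forget S

/-- the open immersion of descent data of a good open, typed with `(G D).obj`. -/
noncomputable def jG (W : J D) : (toDD p).obj ((G D).obj W) ⟶ D := jj D W

instance (W : J D) : IsOpenImmersion (jG D W).hom.left :=
  inferInstanceAs (IsOpenImmersion (jj D W).hom.left)

lemma range_jG (W : J D) : Set.range (jG D W).hom.left = (W.1 : Set D.obj.left) := range_jj D W

lemma toDD_map_G_jG {W W' : J D} (f : W ⟶ W') : (toDD p).map ((G D).map f) ≫ jG D W' = jG D W :=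
  tr_spec D (leOfHom f)

lemma toDD_map_G_jG_left {W W' : J D} (f : W ⟶ W') :
    ((toDD p).map ((G D).map f)).hom.left ≫ (jG D W').hom.left = (jG D W).hom.left :=
  congrArg (fun m => m.hom.left) (toDD_map_G_jG D f)

instance isOpenImmersion_toDD_map_G {W W' : J D} (f : W ⟶ W') :
    IsOpenImmersion ((toDD p).map ((G D).map f)).hom.left := by
  have : IsOpenImmersion (((toDD p).map ((G D).map f)).hom.left ≫ (jG D W').hom.left) := by
    rw [toDD_map_G_jG_left]
    infer_instance
  exact IsOpenImmersion.of_comp _ (jG D W').hom.left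

instance isOpenImmersion_F_map {W W' : J D} (f : W ⟶ W') : IsOpenImmersion ((F D).map f) := by
  change IsOpenImmersion ((G D).map f).left
  exact MorphismProperty.of_isPullback_of_descendsAlong (P := @IsOpenImmersion)
    (Q := @Surjective ⊓ @Flat ⊓ @QuasiCompact) (isPullback_toDD_map (p := p) ((G D).map f))
    ⟨⟨inferInstance, inferInstance⟩, inferInstance⟩ (isOpenImmersion_toDD_map_G D f)

/-- key lifting property: a point of `P_i` whose image in `V` lies in `W_l` for `l ≤ i` comes from
`P_l`. -/
lemma exists_of_mem {i l : J D} (f : l ⟶ i) (a : ↥((toDD p).obj ((G D).obj i)).obj.left)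
    (ha : (jG D i).hom.left a ∈ (l.1 : Set D.obj.left)) :
    ∃ b : ↥((toDD p).obj ((G D).obj l)).obj.left,
      ((toDD p).map ((G D).map f)).hom.left b = a := by
  rw [← range_jG] at ha
  obtain ⟨b, hb⟩ := ha
  refine ⟨b, ?_⟩
  apply (jG D i).hom.left.isOpenEmbedding.injective
  rw [← hb, ← Scheme.Hom.comp_apply, toDD_map_G_jG_left]

instance isLocallyDirected_F : ((F D) ⋙ Scheme.forget).IsLocallyDirected where
  cond {i j k} fi fj xi xj heq := by
    have heq' : ((G D).map fi).left xi = ((G D).map fj).left xj := heq
    let l : J D := ⟨i.1 ⊓ j.1, Good.inf i.2 j.2⟩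
    have hli : l ≤ i := (inf_le_left : i.1 ⊓ j.1 ≤ i.1)
    have hlj : l ≤ j := (inf_le_right : i.1 ⊓ j.1 ≤ j.1)
    obtain ⟨ai, hai⟩ := (sndU p ((G D).obj i)).surjective xi
    obtain ⟨aj, haj1, haj2⟩ := Scheme.exists_preimage_of_isPullback
      (isPullback_toDD_map (p := p) ((G D).map fj)) (((toDD p).map ((G D).map fi)).hom.left ai) xj (by
        rw [← Scheme.Hom.comp_apply, toDD_map_snd, Scheme.Hom.comp_apply, hai]
        exact heq')
    have hij : (jG D i).hom.left ai = (jG D j).hom.left aj := by
      rw [← toDD_map_G_jG_left D fi, ← toDD_map_G_jG_left D fj, Scheme.Hom.comp_apply,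
        Scheme.Hom.comp_apply, haj1]
    have hmem : (jG D i).hom.left ai ∈ (l.1 : Set D.obj.left) := by
      refine ⟨?_, ?_⟩
      · rw [← range_jG]; exact ⟨ai, rfl⟩
      · rw [hij, ← range_jG]; exact ⟨aj, rfl⟩
    obtain ⟨b, hb⟩ := exists_of_mem D (homOfLE hli) ai hmem
    obtain ⟨b', hb'⟩ := exists_of_mem D (homOfLE hlj) aj (hij ▸ hmem)
    have hbb' : b = b' := by
      apply (jG D l).hom.left.isOpenEmbedding.injective
      have e1 : (jG D l).hom.left b = (jG D i).hom.left ai := by
        rw [← toDD_map_G_jG_left D (homOfLE hli), Scheme.Hom.comp_apply, hb]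
      have e2 : (jG D l).hom.left b' = (jG D j).hom.left aj := by
        rw [← toDD_map_G_jG_left D (homOfLE hlj), Scheme.Hom.comp_apply, hb']
      exact e1.trans (hij.trans e2.symm)
    refine ⟨l, homOfLE hli, homOfLE hlj, sndU p ((G D).obj l) b, ?_, ?_⟩
    · change ((G D).map (homOfLE hli)).left (sndU p ((G D).obj l) b) = xi
      rw [← Scheme.Hom.comp_apply, ← toDD_map_snd, Scheme.Hom.comp_apply, hb, hai]
    · change ((G D).map (homOfLE hlj)).left (sndU p ((G D).obj l) b) = xj
      rw [hbb', ← Scheme.Hom.comp_apply, ← toDD_map_snd, Scheme.Hom.comp_apply, hb', haj2]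

end Groth.Agent.Lib.H5bDDGlue
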