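import Mathlib
import Groth.Prelude.Def_Desc
import Groth.Agent.Lib.H5bDDGlueD

/-!
# Descent data for schemes: a locally effective descent datum is effective (helper5)
-/

set_option autoImplicit false
set_option linter.style.haveILetI false
set_option linter.unusedSectionVars false
universe u

namespace Groth.Agent.Lib.H5bDDGlue

open CategoryTheory CategoryTheory.Limits AlgebraicGeometry Desc

variable {X S : Scheme.{u}} {p : X ⟶ S} [Surjective p] [Flat p] [QuasiCompact p] (D : SchDD p)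
  (hcov : ∀ v : D.obj.left, ∃ W : D.obj.left.Opens, Good D W ∧ v ∈ W)

/-- the cover of the scheme of the descent datum by the good opens. -/
noncomputable def covV : D.obj.left.OpenCover where
  I₀ := J D
  X W := ((toDD p).obj ((G D).obj W)).obj.left
  f W := (jG D W).hom.left
  mem₀ := by
    rw [Scheme.presieve₀_mem_precoverage_iff]
    refine ⟨fun v => ?_, fun W => inferInstance⟩
    obtain ⟨W, hW, hv⟩ := hcov v
    have : v ∈ Set.range (jG D ⟨W, hW⟩).hom.left := by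
      rw [range_jG]
      exact hv
    exact ⟨⟨W, hW⟩, this⟩

instance : Category (covV D hcov).I₀ := inferInstanceAs (Category (J D))

lemma covV_directed {i j : J D}
    (ai : ↥((toDD p).obj ((G D).obj i)).obj.left) (aj : ↥((toDD p).obj ((G D).obj j)).obj.left)
    (hc : (jG D i).hom.left ai = (jG D j).hom.left aj) :
    ∃ (k : J D) (fi : k ⟶ i) (fj : k ⟶ j) (b : ↥((toDD p).obj ((G D).obj k)).obj.left),
      ((toDD p).map ((G D).map fi)).hom.left b = ai ∧
      ((toDD p).map ((G D).map fj)).hom.left b = aj := by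
  let l : J D := ⟨i.1 ⊓ j.1, Good.inf i.2 j.2⟩
  have hli : l ≤ i := (inf_le_left : i.1 ⊓ j.1 ≤ i.1)
  have hlj : l ≤ j := (inf_le_right : i.1 ⊓ j.1 ≤ j.1)
  have hmem : (jG D i).hom.left ai ∈ (l.1 : Set D.obj.left) := by
    refine ⟨?_, ?_⟩
    · rw [← range_jG]; exact ⟨ai, rfl⟩
    · rw [hc, ← range_jG]; exact ⟨aj, rfl⟩
  obtain ⟨b, hb⟩ := exists_of_mem D (homOfLE hli) ai hmem
  refine ⟨l, homOfLE hli, homOfLE hlj, b, hb, ?_⟩
  apply (jG D j).hom.left.isOpenEmbedding.injective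
  rw [← hc, ← hb, ← Scheme.Hom.comp_apply, ← Scheme.Hom.comp_apply, toDD_map_G_jG_left,
    toDD_map_G_jG_left]

noncomputable instance : (covV D hcov).LocallyDirected where
  trans {i j} f := ((toDD p).map ((G D).map f)).hom.left
  trans_id i := trans_id' D i
  trans_comp f g := trans_comp' D f g
  w {i j} f := toDD_map_G_jG_left D f
  directed {i j} x := by
    have hc := congr($(pullback.condition (f := (covV D hcov).f i) (g := (covV D hcov).f j)) x)
    rw [Scheme.Hom.comp_apply, Scheme.Hom.comp_apply] at hc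
    obtain ⟨k, fi, fj, b, hb1, hb2⟩ := covV_directed D _ _ hc
    refine ⟨k, fi, fj, b, ?_⟩
    apply (pullback.fst ((covV D hcov).f i) ((covV D hcov).f j)).isOpenEmbedding.injective
    rw [← Scheme.Hom.comp_apply, pullback.lift_fst]
    exact hb1
  property_trans {i j} f := isOpenImmersion_toDD_map_G D f

/-- the glued morphism from the canonical descent datum of the glued scheme. -/
noncomputable def Ψ : ((toDD p).obj (Ug D)).obj.left ⟶ D.obj.left :=
  (cov D).glueMorphismsOfLocallyDirected (fun W => (jG D W).hom.left)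
    (fun f => toDD_map_G_jG_left D f)

lemma cov_Ψ (W : J D) : ((toDD p).map (ιU D W)).hom.left ≫ Ψ D = (jG D W).hom.left :=
  (cov D).map_glueMorphismsOfLocallyDirected _ _ W

/-- the glued morphism to the canonical descent datum of the glued scheme. -/
noncomputable def Φ : D.obj.left ⟶ ((toDD p).obj (Ug D)).obj.left :=
  (covV D hcov).glueMorphismsOfLocallyDirected (fun W => ((toDD p).map (ιU D W)).hom.left)
    (fun f => cov_trans_f D f)

lemma covV_Φ (W : J D) : (jG D W).hom.left ≫ Φ D hcov = ((toDD p).map (ιU D W)).hom.left :=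
  (covV D hcov).map_glueMorphismsOfLocallyDirected _ _ W

lemma Ψ_Φ : Ψ D ≫ Φ D hcov = 𝟙 _ := by
  apply (cov D).hom_ext
  intro W
  change ((toDD p).map (ιU D W)).hom.left ≫ Ψ D ≫ Φ D hcov = ((toDD p).map (ιU D W)).hom.left ≫ 𝟙 _
  rw [← Category.assoc, cov_Ψ, covV_Φ, Category.comp_id]

lemma Φ_Ψ : Φ D hcov ≫ Ψ D = 𝟙 _ := by
  apply (covV D hcov).hom_ext
  intro W
  change (jG D W).hom.left ≫ Φ D hcov ≫ Ψ D = (jG D W).hom.left ≫ 𝟙 _
  rw [← Category.assoc, covV_Φ, cov_Ψ, Category.comp_id]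

lemma Ψ_hom : Ψ D ≫ D.obj.hom = ((toDD p).obj (Ug D)).obj.hom := by
  apply (cov D).hom_ext
  intro W
  change ((toDD p).map (ιU D W)).hom.left ≫ Ψ D ≫ D.obj.hom =
    ((toDD p).map (ιU D W)).hom.left ≫ ((toDD p).obj (Ug D)).obj.hom
  rw [← Category.assoc, cov_Ψ, Over.w, Over.w]

lemma Φ_hom : Φ D hcov ≫ ((toDD p).obj (Ug D)).obj.hom = D.obj.hom := by
  rw [← Ψ_hom D, ← Category.assoc, Φ_Ψ, Category.id_comp]

/-- `Ψ` is compatible with the gluing bijections. -/
lemma Ψ_comm {T : Scheme.{u}} (x₀ x₁ : T ⟶ X) (h : x₀ ≫ p = x₁ ≫ p)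
    (v : Lifts ((toDD p).obj (Ug D)).obj x₀) (w : Lifts D.obj x₀) (hw : w.1 = v.1 ≫ Ψ D) :
    (D.φ x₀ x₁ h w).1 = (((toDD p).obj (Ug D)).φ x₀ x₁ h v).1 ≫ Ψ D := by
  apply Scheme.hom_ext_of_forall
  intro t
  obtain ⟨W, a, ha⟩ := (cov D).exists_eq (v.1 t)
  let T' : T.Opens := v.1 ⁻¹ᵁ ((cov D).f W).opensRange
  have htT' : t ∈ T' := ⟨a, ha⟩
  refine ⟨T', htT', ?_⟩
  have hr : Set.range (T'.ι ≫ v.1) ⊆ Set.range ((toDD p).map (ιU D W)).hom.left := by
    rintro _ ⟨s, rfl⟩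
    exact s.2
  let v' : T'.toScheme ⟶ ((toDD p).obj ((G D).obj W)).obj.left :=
    IsOpenImmersion.lift ((toDD p).map (ιU D W)).hom.left (T'.ι ≫ v.1) hr
  have hv' : v' ≫ ((toDD p).map (ιU D W)).hom.left = T'.ι ≫ v.1 := IsOpenImmersion.lift_fac _ _ _
  have hv'2 : v' ≫ ((toDD p).obj ((G D).obj W)).obj.hom = T'.ι ≫ x₀ := by
    rw [← Over.w ((toDD p).map (ιU D W)).hom, ← Category.assoc, hv', Category.assoc, v.2]
  have h' : (T'.ι ≫ x₀) ≫ p = (T'.ι ≫ x₁) ≫ p := by
    rw [Category.assoc, Category.assoc, h]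
  let v'' : Lifts ((toDD p).obj ((G D).obj W)).obj (T'.ι ≫ x₀) := ⟨v', hv'2⟩
  -- left side
  have eL : T'.ι ≫ (D.φ x₀ x₁ h w).1 =
      (D.φ (T'.ι ≫ x₀) (T'.ι ≫ x₁) h' (SchDD.Hom.push (jG D W) v'')).1 := by
    refine (D.φ_natural T'.ι x₀ x₁ h h' w (SchDD.Hom.push (jG D W) v'') ?_).symm
    change v' ≫ (jG D W).hom.left = T'.ι ≫ w.1
    rw [hw, ← cov_Ψ D W, ← Category.assoc, hv', Category.assoc]
  -- right side
  have eR : T'.ι ≫ (((toDD p).obj (Ug D)).φ x₀ x₁ h v).1 =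
      (((toDD p).obj (Ug D)).φ (T'.ι ≫ x₀) (T'.ι ≫ x₁) h'
        (SchDD.Hom.push ((toDD p).map (ιU D W)) v'')).1 := by
    refine (((toDD p).obj (Ug D)).φ_natural T'.ι x₀ x₁ h h' v
      (SchDD.Hom.push ((toDD p).map (ιU D W)) v'') ?_).symm
    exact hv'
  rw [eL, comm_push (jG D W), ← Category.assoc, eR, comm_push ((toDD p).map (ιU D W)),
    Category.assoc, cov_Ψ]

/-- the isomorphism of descent data. -/
noncomputable def isoGlue : (toDD p).obj (Ug D) ≅ D :=
  isoOfInv ⟨Over.homMk (Ψ D) (Ψ_hom D), fun _ x₀ x₁ h v w hw => Ψ_comm D x₀ x₁ h v w hw⟩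
    (Over.homMk (Φ D hcov) (Φ_hom D hcov))
    (Over.OverMorphism.ext (Ψ_Φ D hcov)) (Over.OverMorphism.ext (Φ_Ψ D hcov))

include hcov in
/-- A descent datum covered by good opens is effective. -/
theorem effective_of_good_cover : ∃ U : Over S, Nonempty ((toDD p).obj U ≅ D) :=
  ⟨Ug D, ⟨isoGlue D hcov⟩⟩

end Groth.Agent.Lib.H5bDDGlue
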