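import Mathlib
import Groth.Prelude.Def_Desc
import Groth.Agent.Lib.H5bDDGlueE
import Groth.Agent.Lib.H5bDDEffC
import Groth.Agent.Lib.H5bDDAffine4

/-!
# Effectivity of affine descent data along fpqc morphisms (helper5)

`effective_of_isAffineHom`: for `p : X ⟶ S` surjective, flat and quasi-compact, every descent datum
relative to `p` whose scheme is affine over `X` is effective.
-/

set_option autoImplicit false
set_option linter.unusedSectionVars false
set_option linter.style.haveILetI false
universe u

namespace Groth.Agent.Lib.H5bDDGlue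

open CategoryTheory CategoryTheory.Limits AlgebraicGeometry Desc TensorProduct

/-- a descent datum with `⊤` good is effective. -/
lemma effective_of_good_top {X S : Scheme.{u}} {p : X ⟶ S} [Surjective p] [Flat p] [QuasiCompact p]
    (D : SchDD p) {W : D.obj.left.Opens} (hW : Good D W) (htop : W = ⊤) :
    ∃ U : Over S, Nonempty ((toDD p).obj U ≅ D) :=
  effective_of_good_cover D (fun _ => ⟨W, hW, by rw [htop]; trivial⟩)

/-- Step A: the case of a morphism of literal spectra. -/
lemma effective_spec {A A' : Type u} [CommRing A] [CommRing A'] [Algebra A A'] [Module.Flat A A']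
    (D : SchDD (spm (algebraMap A A'))) [IsAffine D.obj.left] :
    ∃ U : Over (sp A), Nonempty ((toDD (spm (algebraMap A A'))).obj U ≅ D) := by
  let B' : Type u := Γ(D.obj.left, ⊤)
  let iV : sp B' ≅ D.obj.left := D.obj.left.isoSpec.symm
  obtain ⟨f, hf⟩ := exists_spm (iV.hom ≫ D.obj.hom)
  letI : Algebra A' B' := f.toAlgebra
  letI : Algebra A B' := (f.comp (algebraMap A A')).toAlgebra
  haveI : IsScalarTower A A' B' := IsScalarTower.of_algebraMap_eq fun _ => rfl
  exact affine_core D iV hf.symm

/-- Step A': the case of a flat surjective morphism of affine schemes. -/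
lemma effective_of_isAffine {X S : Scheme.{u}} (p : X ⟶ S) [IsAffine X] [IsAffine S] [Surjective p]
    [Flat p] (D : SchDD p) [IsAffineHom D.obj.hom] :
    ∃ U : Over S, Nonempty ((toDD p).obj U ≅ D) := by
  haveI : QuasiCompact p := inferInstance
  let A : Type u := Γ(S, ⊤)
  let A' : Type u := Γ(X, ⊤)
  letI : Algebra A A' := p.appTop.hom.toAlgebra
  have hp₁ : spm (algebraMap A A') = Spec.map p.appTop := rfl
  let q : sp A' ⟶ X := X.isoSpec.inv
  let s : sp A ⟶ S := S.isoSpec.inv
  have hw : q ≫ p = spm (algebraMap A A') ≫ s := by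
    rw [hp₁]
    exact (Scheme.isoSpec_inv_naturality p).symm
  have sq : IsPullback q (spm (algebraMap A A')) p s := IsPullback.of_horiz_isIso ⟨hw⟩
  haveI : Flat (spm (algebraMap A A')) := by
    have h1 : spm (algebraMap A A') = (q ≫ p) ≫ S.isoSpec.hom := by
      rw [hw, Category.assoc, Iso.inv_hom_id, Category.comp_id]
    rw [h1]
    infer_instance
  haveI : Module.Flat A A' := by
    have := (Flat.SpecMap_iff (f := CommRingCat.ofHom (algebraMap A A'))).mp inferInstance
    exact this
  let D₁ := pullDD sq.w D
  haveI : IsAffineHom D₁.obj.hom := inferInstance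
  haveI : IsAffine D₁.obj.left := isAffine_of_isAffineHom D₁.obj.hom
  obtain ⟨U₁, ⟨e⟩⟩ := effective_spec D₁
  have hgood := good_of_pull_effective sq D U₁ e
  refine effective_of_good_top D hgood ?_
  have : q.opensRange = ⊤ := by
    apply TopologicalSpace.Opens.ext
    simp [Set.range_eq_univ.mpr q.surjective]
  rw [this]
  rfl

end Groth.Agent.Lib.H5bDDGlue
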