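import Mathlib
import Groth.Prelude.Def_Desc
import Groth.Agent.Lib.H5bDDAffineEff

/-!
# Effectivity of affine descent data along fpqc morphisms (helper5)

`effective_of_isAffineHom`: for `p : X ⟶ S` surjective, flat and quasi-compact, every descent datum
relative to `p` whose scheme is affine over `X` is effective.
-/

set_option autoImplicit false
set_option linter.unusedSectionVars false
set_option linter.style.haveILetI false
universe u

namespace Groth.Agent.Lib.H5bDDGlue

open CategoryTheory CategoryTheory.Limits AlgebraicGeometry Desc TensorProduct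

/-- Step B: affine base, quasi-compact source. -/
lemma effective_of_isAffine_base {X S : Scheme.{u}} (p : X ⟶ S) [IsAffine S] [Surjective p]
    [Flat p] [QuasiCompact p] (D : SchDD p) [IsAffineHom D.obj.hom] :
    ∃ U : Over S, Nonempty ((toDD p).obj U ≅ D) := by
  haveI : CompactSpace X := QuasiCompact.compactSpace_of_compactSpace p
  let 𝒰 := X.affineCover.finiteSubcover
  haveI : ∀ i, IsAffine (𝒰.X i) := fun i => by
    dsimp [𝒰]
    infer_instance
  let X' : Scheme.{u} := ∐ 𝒰.X
  haveI : IsAffine X' := inferInstance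
  let q : X' ⟶ X := Sigma.desc 𝒰.f
  haveI : Flat q := IsZariskiLocalAtSource.sigmaDesc (P := @Flat) (fun i => inferInstance)
  haveI : LocallyOfFinitePresentation q :=
    IsZariskiLocalAtSource.sigmaDesc (P := @LocallyOfFinitePresentation) (fun i => inferInstance)
  haveI : Surjective q := by
    refine ⟨fun x => ?_⟩
    obtain ⟨i, y, hy⟩ := 𝒰.exists_eq x
    refine ⟨Sigma.ι 𝒰.X i y, ?_⟩
    rw [← Scheme.Hom.comp_apply, Sigma.ι_desc]
    exact hy
  let D' := pullDD (s := 𝟙 S) (p' := q ≫ p) (Category.comp_id (q ≫ p)).symm D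
  haveI : IsAffineHom D'.obj.hom := inferInstance
  obtain ⟨U, ⟨e⟩⟩ := effective_of_isAffine (q ≫ p) D'
  exact ⟨U, effective_of_pull_effective_fppf q D U e⟩

/-- Effectivity of descent for affine morphisms along fpqc morphisms. -/
theorem effective_of_isAffineHom {X S : Scheme.{u}} (p : X ⟶ S) [Surjective p] [Flat p]
    [QuasiCompact p] (D : SchDD p) [IsAffineHom D.obj.hom] :
    ∃ U : Over S, Nonempty ((toDD p).obj U ≅ D) := by
  apply effective_of_good_cover D
  intro v
  obtain ⟨⟨S₀, hS₀⟩, hv⟩ : ∃ S₀ : S.affineOpens, p (D.obj.hom v) ∈ S₀.1 := by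
    obtain ⟨_, ⟨S₀, hS₀, rfl⟩, hv, -⟩ :=
      S.isBasis_affineOpens.exists_subset_of_mem_open (Set.mem_univ (p (D.obj.hom v))) isOpen_univ
    exact ⟨⟨S₀, hS₀⟩, hv⟩
  have sq : IsPullback (p ⁻¹ᵁ S₀).ι (p ∣_ S₀) p S₀.ι := (isPullback_morphismRestrict p S₀).flip
  haveI : IsAffine S₀.toScheme := hS₀
  haveI : Surjective (p ∣_ S₀) := MorphismProperty.of_isPullback (P := @Surjective) sq inferInstance
  haveI : Flat (p ∣_ S₀) := MorphismProperty.of_isPullback (P := @Flat) sq inferInstance
  haveI : QuasiCompact (p ∣_ S₀) :=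
    MorphismProperty.of_isPullback (P := @QuasiCompact) sq inferInstance
  let D₀ := pullDD sq.w D
  haveI : IsAffineHom D₀.obj.hom := inferInstance
  obtain ⟨U₀, ⟨e⟩⟩ := effective_of_isAffine_base (p ∣_ S₀) D₀
  refine ⟨_, good_of_pull_effective sq D U₀ e, ?_⟩
  change D.obj.hom v ∈ (p ⁻¹ᵁ S₀).ι.opensRange
  rw [Scheme.Opens.opensRange_ι]
  exact hv

end Groth.Agent.Lib.H5bDDGlue
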