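import Mathlib
import Groth.Prelude.Def_Desc
import Groth.Agent.Lib.H5bDDQAffA
import Groth.Agent.Lib.H5bDDAffine2

/-!
# Quasi-affine descent data over an affine base: the coaction (helper5)

Setting: a flat ring map `A → A'`, a descent datum `D` relative to `Spec A' ⟶ Spec A` and an open
immersion `j : V ⟶ Spec B'` of its scheme over `Spec A'` inducing an isomorphism on global sections.
We construct the coaction `θq : B' → A' ⊗[A] B'`.
-/

set_option autoImplicit false
set_option linter.unusedSectionVars false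
set_option linter.style.haveILetI false
universe u

namespace Groth.Agent.Lib.H5bDDGlue

open CategoryTheory CategoryTheory.Limits AlgebraicGeometry Desc TensorProduct

lemma flat_spm_algebraMap (A A' : Type u) [CommRing A] [CommRing A'] [Algebra A A']
    [Module.Flat A A'] : Flat (spm (algebraMap A A')) := by
  refine (Flat.SpecMap_iff (f := CommRingCat.ofHom (algebraMap A A'))).mpr ?_
  change (algebraMap A A').Flat
  rw [RingHom.flat_algebraMap_iff]
  infer_instance

lemma isPullback_tensor (A A' C : Type u) [CommRing A] [CommRing A'] [CommRing C]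
    [Algebra A A'] [Algebra A C] :
    IsPullback (spm (Algebra.TensorProduct.includeLeftRingHom : A' →+* A' ⊗[A] C))
      (spm ((Algebra.TensorProduct.includeRight : C →ₐ[A] A' ⊗[A] C).toRingHom))
      (spm (algebraMap A A')) (spm (algebraMap A C)) :=
  isPullback_SpecMap_of_isPushout _ _ _ _ (CommRingCat.isPushout_tensorProduct A A' C)

lemma flat_spm_includeRight (A A' C : Type u) [CommRing A] [CommRing A'] [CommRing C]
    [Algebra A A'] [Algebra A C] [Module.Flat A A'] :
    Flat (spm ((Algebra.TensorProduct.includeRight : C →ₐ[A] A' ⊗[A] C).toRingHom)) := by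
  haveI := flat_spm_algebraMap A A'
  exact MorphismProperty.of_isPullback (P := @Flat) (isPullback_tensor A A' C) inferInstance

section core

variable {A A' B' : Type u} [CommRing A] [CommRing A'] [CommRing B'] [Algebra A A'] [Algebra A' B']
  [Algebra A B'] [IsScalarTower A A' B'] [Module.Flat A A']
variable (D : SchDD (spm (algebraMap A A'))) (j : D.obj.left ⟶ sp B') [IsOpenImmersion j]
  [CompactSpace D.obj.left] [QuasiSeparatedSpace D.obj.left] [IsIso j.appTop]
  (hj : j ≫ spm (algebraMap A' B') = D.obj.hom)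

/-- the open part of `Spec (A' ⊗ B')` lying over `V`. -/
noncomputable abbrev WW : Scheme.{u} := pullback j (spm (incR A A' B'))

/-- the projection `W ⟶ V`. -/
noncomputable abbrev rW : WW D j ⟶ D.obj.left := pullback.fst j (spm (incR A A' B'))

/-- the inclusion `W ⟶ Spec (A' ⊗ B')`. -/
noncomputable abbrev ιW : WW D j ⟶ sp (RR A A' B') := pullback.snd j (spm (incR A A' B'))

lemma rW_cond : rW D j ≫ j = ιW D j ≫ spm (incR A A' B') := pullback.condition

include hj in
lemma hcompatW : (rW D j ≫ D.obj.hom) ≫ spm (algebraMap A A') =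
    (ιW D j ≫ spm (incL A A' B')) ≫ spm (algebraMap A A') := by
  rw [← hj, ← Category.assoc (rW D j), rW_cond, Category.assoc, Category.assoc, Category.assoc,
    ← Category.assoc (spm (incR A A' B')), hx_univ]

instance isIso_ιW_appTop : IsIso (ιW D j).appTop := by
  haveI : Flat (spm (incR A A' B')) := flat_spm_includeRight A A' B'
  exact isIso_appTop_of_flat (IsPullback.of_hasPullback j (spm (incR A A' B')))

/-- the universal twisted point. -/
noncomputable def wU : WW D j ⟶ D.obj.left :=
  φV D (rW D j ≫ D.obj.hom) (ιW D j ≫ spm (incL A A' B')) (hcompatW D j hj) (rW D j) rfl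

lemma wU_hom : wU D j hj ≫ D.obj.hom = ιW D j ≫ spm (incL A A' B') := φV_hom D _ _ _ _ _

/-- every twisted point is a pullback of the universal one. -/
lemma φV_eq_wU {T : Scheme.{u}} (g : T ⟶ WW D j) (x₀ x₁ : T ⟶ sp A')
    (h : x₀ ≫ spm (algebraMap A A') = x₁ ≫ spm (algebraMap A A')) (s : T ⟶ D.obj.left)
    (hs : s ≫ D.obj.hom = x₀) (hg1 : g ≫ ιW D j ≫ spm (incL A A' B') = x₁)
    (hg2 : g ≫ rW D j = s) : φV D x₀ x₁ h s hs = g ≫ wU D j hj := by
  have e0 : g ≫ rW D j ≫ D.obj.hom = x₀ := by rw [← Category.assoc, hg2, hs]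
  have h' : (g ≫ rW D j ≫ D.obj.hom) ≫ spm (algebraMap A A') =
      (g ≫ ιW D j ≫ spm (incL A A' B')) ≫ spm (algebraMap A A') := by rw [e0, hg1, h]
  rw [wU, ← φV_natural D g _ _ (hcompatW D j hj) _ rfl h' (Category.assoc _ _ _)]
  exact φV_congr D e0.symm hg1.symm h h' hg2.symm hs _

/-- the extension of the universal twisted point to `Spec (A' ⊗ B')`. -/
noncomputable def wUa : sp (RR A A' B') ⟶ sp B' :=
  (exists_ext_of_isIso_appTop (ιW D j) (wU D j hj ≫ j)).choose

lemma ιW_wUa : ιW D j ≫ wUa D j hj = wU D j hj ≫ j :=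
  (exists_ext_of_isIso_appTop (ιW D j) (wU D j hj ≫ j)).choose_spec

/-- the coaction as a ring homomorphism. -/
noncomputable def θq : B' →+* RR A A' B' := (exists_spm (wUa D j hj)).choose

lemma spm_θq : spm (θq D j hj) = wUa D j hj := (exists_spm (wUa D j hj)).choose_spec

lemma wUa_hom : wUa D j hj ≫ spm (algebraMap A' B') = spm (incL A A' B') := by
  apply ext_of_isIso_appTop (ιW D j)
  rw [← Category.assoc, ιW_wUa, Category.assoc, hj, wU_hom]

lemma θq_comp_algebraMap : (θq D j hj).comp (algebraMap A' B') = incL A A' B' := by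
  apply spm_injective
  rw [spm_comp, spm_θq, wUa_hom]

lemma θq_algebraMap (a : A') : θq D j hj (algebraMap A' B' a) = a ⊗ₜ[A] (1 : B') :=
  congrArg (fun f => f a) (θq_comp_algebraMap D j hj)

/-- the coaction as an algebra homomorphism. -/
noncomputable def θqa : B' →ₐ[A] A' ⊗[A] B' :=
  { θq D j hj with
    commutes' := fun a => by
      change θq D j hj (algebraMap A B' a) = algebraMap A (A' ⊗[A] B') a
      rw [IsScalarTower.algebraMap_apply A A' B', θq_algebraMap,
        Algebra.TensorProduct.algebraMap_apply] }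

lemma θqa_apply (b : B') : θqa D j hj b = θq D j hj b := rfl

/-- lifting into `W`. -/
noncomputable def WW_lift {T : Scheme.{u}} (s : T ⟶ D.obj.left) (a : T ⟶ sp (RR A A' B'))
    (h : s ≫ j = a ≫ spm (incR A A' B')) : T ⟶ WW D j := pullback.lift s a h

@[reassoc (attr := simp)]
lemma WW_lift_r {T : Scheme.{u}} (s : T ⟶ D.obj.left) (a : T ⟶ sp (RR A A' B'))
    (h : s ≫ j = a ≫ spm (incR A A' B')) : WW_lift D j s a h ≫ rW D j = s :=
  pullback.lift_fst _ _ _

@[reassoc (attr := simp)]
lemma WW_lift_ι {T : Scheme.{u}} (s : T ⟶ D.obj.left) (a : T ⟶ sp (RR A A' B'))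
    (h : s ≫ j = a ≫ spm (incR A A' B')) : WW_lift D j s a h ≫ ιW D j = a :=
  pullback.lift_snd _ _ _

/-- counit axiom. -/
lemma θqa_counit (b : B') :
    Algebra.TensorProduct.productMap (IsScalarTower.toAlgHom A A' B') (AlgHom.id A B')
      (θqa D j hj b) = b := by
  let m : RR A A' B' →+* B' :=
    (Algebra.TensorProduct.productMap (IsScalarTower.toAlgHom A A' B') (AlgHom.id A B')).toRingHom
  have hmL : m.comp (incL A A' B') = algebraMap A' B' := by
    ext a
    simp [m]
  have hmR : m.comp (incR A A' B') = RingHom.id B' := by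
    ext b
    simp [m]
  have hg1 : spm m ≫ spm (incL A A' B') = spm (algebraMap A' B') := by rw [← spm_comp, hmL]
  have hg2 : spm m ≫ spm (incR A A' B') = 𝟙 _ := by rw [← spm_comp, hmR, spm_id]
  let δ : D.obj.left ⟶ WW D j := WW_lift D j (𝟙 _) (j ≫ spm m) (by
    rw [Category.id_comp, Category.assoc, hg2, Category.comp_id])
  have hδ : δ ≫ wU D j hj = 𝟙 _ := by
    rw [← φV_eq_wU D j hj δ D.obj.hom D.obj.hom rfl (𝟙 _) (Category.id_comp _)
      (by rw [WW_lift_ι_assoc, Category.assoc, hg1, hj]) (WW_lift_r _ _ _ _ _), φV_self]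
  have key : spm m ≫ wUa D j hj = 𝟙 _ := by
    apply ext_of_isIso_appTop j
    have : j ≫ spm m = δ ≫ ιW D j := (WW_lift_ι _ _ _ _ _).symm
    rw [← Category.assoc, this, Category.assoc, ιW_wUa, ← Category.assoc, hδ, Category.id_comp,
      Category.comp_id]
  rw [← spm_θq, ← spm_comp, ← spm_id] at key
  have := spm_injective key
  exact congrArg (fun f => f b) this

end core

end Groth.Agent.Lib.H5bDDGlue
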