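import Mathlib
import Groth.Prelude.Def_Desc
import Groth.Agent.Lib.H5bDDQAffB

/-!
# Quasi-affine descent data over an affine base: coassociativity of the coaction (helper5)
-/

set_option autoImplicit false
set_option linter.unusedSectionVars false
set_option linter.style.haveILetI false
universe u

namespace Groth.Agent.Lib.H5bDDGlue

open CategoryTheory CategoryTheory.Limits AlgebraicGeometry Desc TensorProduct

section core

variable {A A' B' : Type u} [CommRing A] [CommRing A'] [CommRing B'] [Algebra A A'] [Algebra A' B']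
  [Algebra A B'] [IsScalarTower A A' B'] [Module.Flat A A']
variable (D : SchDD (spm (algebraMap A A'))) (j : D.obj.left ⟶ sp B') [IsOpenImmersion j]
  [CompactSpace D.obj.left] [QuasiSeparatedSpace D.obj.left] [IsIso j.appTop]
  (hj : j ≫ spm (algebraMap A' B') = D.obj.hom)

/-- coassociativity axiom. -/
lemma θqa_coassoc (b : B') :
    Algebra.TensorProduct.map (AlgHom.id A A') (θqa D j hj) (θqa D j hj b) =
      Algebra.TensorProduct.map (AlgHom.id A A') Algebra.TensorProduct.includeRight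
        (θqa D j hj b) := by
  -- the three maps `R → A' ⊗ R`
  let k₀₁ : RR A A' B' →+* A' ⊗[A] RR A A' B' :=
    (Algebra.TensorProduct.includeRight : RR A A' B' →ₐ[A] A' ⊗[A] RR A A' B').toRingHom
  let k₀₂ : RR A A' B' →+* A' ⊗[A] RR A A' B' :=
    (Algebra.TensorProduct.map (AlgHom.id A A')
      (Algebra.TensorProduct.includeRight : B' →ₐ[A] A' ⊗[A] B')).toRingHom
  let k₁₂ : RR A A' B' →+* A' ⊗[A] RR A A' B' :=
    (Algebra.TensorProduct.map (AlgHom.id A A') (θqa D j hj)).toRingHom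
  let i₃ : A' →+* A' ⊗[A] RR A A' B' := Algebra.TensorProduct.includeLeftRingHom
  -- ring identities
  have r1 : k₀₂.comp (incR A A' B') = k₀₁.comp (incR A A' B') := by
    ext b; simp [k₀₂, k₀₁]
  have r2 : k₀₂.comp (incL A A' B') = i₃ := by
    ext a; simp [k₀₂, i₃]
  have r3 : k₁₂.comp (incR A A' B') = k₀₁.comp (θq D j hj) := by
    ext b; simp [k₁₂, k₀₁, θqa_apply]
  have r4 : k₁₂.comp (incL A A' B') = i₃ := by
    ext a; simp [k₁₂, i₃]
  -- the open part of the triple product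
  let f3 : sp (A' ⊗[A] RR A A' B') ⟶ sp B' := spm k₀₁ ≫ spm (incR A A' B')
  haveI : Flat (spm k₀₁) := flat_spm_includeRight A A' (RR A A' B')
  haveI : Flat (spm (incR A A' B')) := flat_spm_includeRight A A' B'
  haveI : Flat f3 := inferInstanceAs (Flat (spm k₀₁ ≫ spm (incR A A' B')))
  let T3 : Scheme.{u} := pullback j f3
  let r3' : T3 ⟶ D.obj.left := pullback.fst j f3
  let ι3 : T3 ⟶ sp (A' ⊗[A] RR A A' B') := pullback.snd j f3
  have hcond3 : r3' ≫ j = ι3 ≫ spm k₀₁ ≫ spm (incR A A' B') := pullback.condition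
  haveI : IsIso ι3.appTop := isIso_appTop_of_flat (IsPullback.of_hasPullback j f3)
  -- points
  let y₀ : T3 ⟶ sp A' := r3' ≫ D.obj.hom
  let y₁ : T3 ⟶ sp A' := ι3 ≫ spm k₀₁ ≫ spm (incL A A' B')
  let y₂ : T3 ⟶ sp A' := ι3 ≫ spm i₃
  have h₀₁ : y₀ ≫ spm (algebraMap A A') = y₁ ≫ spm (algebraMap A A') := by
    simp only [y₀, y₁, Category.assoc]
    rw [← hj, Category.assoc, ← Category.assoc r3', hcond3]
    simp only [Category.assoc]
    rw [← Category.assoc (spm (incR A A' B')), hx_univ]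
  have h₁₂ : y₁ ≫ spm (algebraMap A A') = y₂ ≫ spm (algebraMap A A') := by
    simp only [y₁, y₂, Category.assoc, ← spm_comp]
    congr 2
    ext a
    simp only [RingHom.comp_apply]
    change (1 : A') ⊗ₜ[A] ((algebraMap A A' a) ⊗ₜ[A] (1 : B')) =
      (algebraMap A A' a) ⊗ₜ[A] (1 : RR A A' B')
    rw [Algebra.algebraMap_eq_smul_one]
    have e1 : ((a • (1 : A')) ⊗ₜ[A] (1 : B') : RR A A' B') = a • ((1 : A') ⊗ₜ[A] (1 : B')) :=
      (TensorProduct.smul_tmul' a 1 1).symm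
    have e2 : ((a • (1 : A')) ⊗ₜ[A] (1 : RR A A' B')) = a • ((1 : A') ⊗ₜ[A] (1 : RR A A' B')) :=
      (TensorProduct.smul_tmul' a 1 1).symm
    rw [e1, e2, TensorProduct.tmul_smul]
    rfl
  -- the three points of `W`
  let a₀₁ : T3 ⟶ WW D j := WW_lift D j r3' (ι3 ≫ spm k₀₁) (by rw [hcond3, Category.assoc])
  let a₀₂ : T3 ⟶ WW D j := WW_lift D j r3' (ι3 ≫ spm k₀₂) (by
    rw [hcond3, Category.assoc, ← spm_comp, ← spm_comp, r1])
  have ea : φV D y₀ y₁ h₀₁ r3' rfl = a₀₁ ≫ wU D j hj :=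
    φV_eq_wU D j hj a₀₁ y₀ y₁ h₀₁ r3' rfl (by rw [WW_lift_ι_assoc, Category.assoc])
      (WW_lift_r _ _ _ _ _)
  have eb : φV D y₀ y₂ (h₀₁.trans h₁₂) r3' rfl = a₀₂ ≫ wU D j hj :=
    φV_eq_wU D j hj a₀₂ y₀ y₂ (h₀₁.trans h₁₂) r3' rfl
      (by rw [WW_lift_ι_assoc, Category.assoc, ← spm_comp, r2]) (WW_lift_r _ _ _ _ _)
  let s1 : T3 ⟶ D.obj.left := a₀₁ ≫ wU D j hj
  have hs1 : s1 ≫ D.obj.hom = y₁ := by
    simp only [s1]
    rw [← ea]
    exact φV_hom D _ _ _ _ _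
  have hs1j : s1 ≫ j = (ι3 ≫ spm k₁₂) ≫ spm (incR A A' B') := by
    simp only [s1]
    rw [Category.assoc, ← ιW_wUa, WW_lift_ι_assoc, Category.assoc, Category.assoc, ← spm_θq,
      ← spm_comp, ← spm_comp, r3]
  let a₁₂ : T3 ⟶ WW D j := WW_lift D j s1 (ι3 ≫ spm k₁₂) hs1j
  have ec : φV D y₁ y₂ h₁₂ s1 hs1 = a₁₂ ≫ wU D j hj :=
    φV_eq_wU D j hj a₁₂ y₁ y₂ h₁₂ s1 hs1
      (by rw [WW_lift_ι_assoc, Category.assoc, ← spm_comp, r4]) (WW_lift_r _ _ _ _ _)
  have hcomp := φV_comp D y₀ y₁ y₂ h₀₁ h₁₂ r3' rfl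
  have e1 : φV D y₁ y₂ h₁₂ (φV D y₀ y₁ h₀₁ r3' rfl) (φV_hom D y₀ y₁ h₀₁ r3' rfl) =
      a₁₂ ≫ wU D j hj := by
    rw [← ec]
    exact φV_congr D rfl rfl h₁₂ h₁₂ ea _ hs1
  rw [e1, eb] at hcomp
  -- extend
  have key : spm k₁₂ ≫ wUa D j hj = spm k₀₂ ≫ wUa D j hj := by
    apply ext_of_isIso_appTop ι3
    have e12 : ι3 ≫ spm k₁₂ = a₁₂ ≫ ιW D j := (WW_lift_ι _ _ _ _ _).symm
    have e02 : ι3 ≫ spm k₀₂ = a₀₂ ≫ ιW D j := (WW_lift_ι _ _ _ _ _).symm
    rw [← Category.assoc, ← Category.assoc, e12, e02, Category.assoc, Category.assoc, ιW_wUa,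
      ← Category.assoc, ← Category.assoc, hcomp]
  rw [← spm_θq, ← spm_comp, ← spm_comp] at key
  have := spm_injective key
  exact congrArg (fun f => f b) this

end core

end Groth.Agent.Lib.H5bDDGlue
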