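import Mathlib
import Groth.Prelude.Def_Desc
import Groth.Agent.Lib.H5bDDQAffC
import Groth.Agent.Lib.H5bDDAffine4

/-!
# Quasi-affine descent data over an affine base are effective (helper5)

`qaff_core`: for a faithfully flat ring map `A → A'`, a descent datum `D` relative to
`Spec A' ⟶ Spec A` whose scheme `V` is quasi-compact, quasi-separated and admits an open immersion
`j : V ⟶ Spec B'` over `Spec A'` inducing an isomorphism on global sections, is effective.
-/

set_option autoImplicit false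
set_option linter.unusedSectionVars false
set_option linter.style.haveILetI false
universe u

namespace Groth.Agent.Lib.H5bDDGlue

open CategoryTheory CategoryTheory.Limits AlgebraicGeometry Desc TensorProduct

section core

variable {A A' B' : Type u} [CommRing A] [CommRing A'] [CommRing B'] [Algebra A A'] [Algebra A' B']
  [Algebra A B'] [IsScalarTower A A' B'] [Module.Flat A A']

theorem qaff_core [Surjective (spm (algebraMap A A'))]
    (D : SchDD (spm (algebraMap A A'))) (j : D.obj.left ⟶ sp B') [IsOpenImmersion j]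
    [CompactSpace D.obj.left] [QuasiSeparatedSpace D.obj.left] [IsIso j.appTop]
    (hj : j ≫ spm (algebraMap A' B') = D.obj.hom) :
    ∃ U : Over (sp A), Nonempty ((toDD (spm (algebraMap A A'))).obj U ≅ D) := by
  let θ := θqa D j hj
  let B : Subalgebra A B' := AlgHom.equalizer θ Algebra.TensorProduct.includeRight
  have hpush : Algebra.IsPushout A A' B B' :=
    Groth.Agent.Lib.H5bCoalgDesc.isPushout_equalizer θ (θq_algebraMap D j hj)
      (θqa_counit D j hj) (θqa_coassoc D j hj)
  have hpb : IsPullback (spm (algebraMap A' B')) (spm (algebraMap B B')) (spm (algebraMap A A'))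
      (spm (algebraMap A B)) :=
    isPullback_SpecMap_of_isPushout _ _ _ _ (CommRingCat.isPushout_of_isPushout A A' B B')
  let π : sp B' ⟶ sp B := spm (algebraMap B B')
  haveI : Flat (spm (algebraMap A A')) := flat_spm_algebraMap A A'
  haveI : Surjective π := MorphismProperty.of_isPullback (P := @Surjective) hpb inferInstance
  haveI : Flat π := MorphismProperty.of_isPullback (P := @Flat) hpb inferInstance
  -- invariance
  have cinv : ∀ ⦃T : Scheme.{u}⦄ (x₀ x₁ : T ⟶ sp A')
      (h : x₀ ≫ spm (algebraMap A A') = x₁ ≫ spm (algebraMap A A')) (w : Lifts D.obj x₀),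
      (D.φ x₀ x₁ h w).1 ≫ j ≫ π = w.1 ≫ j ≫ π := by
    intro T x₀ x₁ h w
    have hT := isPullback_tensor A A' B'
    have hAB' : spm (algebraMap A B') = spm (algebraMap A' B') ≫ spm (algebraMap A A') := by
      rw [← spm_comp]
      congr 1
      exact IsScalarTower.algebraMap_eq A A' B'
    have hcond : x₁ ≫ spm (algebraMap A A') = (w.1 ≫ j) ≫ spm (algebraMap A B') := by
      rw [hAB', Category.assoc, ← Category.assoc j, hj, ← Category.assoc, w.2, h]
    let g0 : T ⟶ sp (RR A A' B') := hT.lift x₁ (w.1 ≫ j) hcond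
    have hg01 : g0 ≫ spm (incL A A' B') = x₁ := hT.lift_fst _ _ _
    have hg02 : g0 ≫ spm (incR A A' B') = w.1 ≫ j := hT.lift_snd _ _ _
    let g : T ⟶ WW D j := WW_lift D j w.1 g0 hg02.symm
    have e2 := φV_eq_wU D j hj g x₀ x₁ h w.1 w.2 (by rw [WW_lift_ι_assoc, hg01])
      (WW_lift_r _ _ _ _ _)
    rw [φV_of_lift, e2, Category.assoc, ← Category.assoc (wU D j hj), ← ιW_wUa, Category.assoc,
      ← Category.assoc g, WW_lift_ι, ← spm_θq, ← Category.assoc w.1, ← hg02, Category.assoc]
    congr 1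
    simp only [π]
    rw [← spm_comp, ← spm_comp]
    congr 1
    ext b
    exact b.2
  -- saturation
  have hsat : ∀ (y₁ : D.obj.left) (y : sp B'), π (j y₁) = π y → y ∈ Set.range j := by
    intro y₁ y hy
    obtain ⟨y', hy1, hy2⟩ := Scheme.Pullback.exists_preimage_pullback (f := π) (g := π) (j y₁) y hy
    let P2 := pullback π π
    let T := Spec (P2.residueField y')
    let t0 : T ⟶ P2 := P2.fromSpecResidueField y'
    let t₁ : T ⟶ sp B' := t0 ≫ pullback.fst _ _
    let t₂ : T ⟶ sp B' := t0 ≫ pullback.snd _ _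
    have htt : t₁ ≫ π = t₂ ≫ π := by
      simp only [t₁, t₂, Category.assoc, pullback.condition]
    have hpt : ∀ a : T, t0 a = y' := by
      intro a
      have : t0 a ∈ Set.range t0 := ⟨a, rfl⟩
      rw [Scheme.range_fromSpecResidueField] at this
      exact this
    have hr : Set.range t₁ ⊆ Set.range j := by
      rintro _ ⟨a, rfl⟩
      have : t₁ a = j y₁ := by
        change (t0 ≫ pullback.fst _ _) a = _
        rw [Scheme.Hom.comp_apply, hpt a]
        exact hy1
      rw [this]
      exact ⟨y₁, rfl⟩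
    let s : T ⟶ D.obj.left := IsOpenImmersion.lift j t₁ hr
    have hs : s ≫ j = t₁ := IsOpenImmersion.lift_fac _ _ _
    let x₀ : T ⟶ sp A' := s ≫ D.obj.hom
    let x₁ : T ⟶ sp A' := t₂ ≫ spm (algebraMap A' B')
    have hx₀ : x₀ = t₁ ≫ spm (algebraMap A' B') := by
      simp only [x₀]
      rw [← hj, ← Category.assoc, hs]
    have h : x₀ ≫ spm (algebraMap A A') = x₁ ≫ spm (algebraMap A A') := by
      rw [hx₀]
      simp only [x₁, Category.assoc]
      rw [hpb.w, ← Category.assoc, htt, Category.assoc]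
    let s' : T ⟶ D.obj.left := (D.φ x₀ x₁ h ⟨s, rfl⟩).1
    have hs' : s' ≫ j = t₂ := by
      apply hpb.hom_ext
      · rw [Category.assoc, hj]
        exact (D.φ x₀ x₁ h ⟨s, rfl⟩).2
      · rw [Category.assoc]
        have := cinv x₀ x₁ h ⟨s, rfl⟩
        rw [this]
        change s ≫ j ≫ π = _
        rw [← Category.assoc, hs, htt]
    obtain ⟨a⟩ : Nonempty T := inferInstance
    have ha : t₂ a = y := by
      change (t0 ≫ pullback.snd _ _) a = y
      rw [Scheme.Hom.comp_apply, hpt a]
      exact hy2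
    rw [← ha, ← hs', Scheme.Hom.comp_apply]
    exact ⟨_, rfl⟩
  -- the descended open
  let Z : Set (sp B') := Set.range j
  have hZo : IsOpen Z := j.isOpenEmbedding.isOpen_range
  let O : Set (sp B) := π '' Z
  have hsatO : π ⁻¹' O = Z := by
    apply subset_antisymm
    · rintro y ⟨_, ⟨y₁, rfl⟩, hz⟩
      exact hsat y₁ y hz
    · exact Set.subset_preimage_image _ _
  have hO : IsOpen O := by
    rw [← (Flat.isQuotientMap_of_surjective π).isOpen_preimage, hsatO]
    exact hZo
  let Uo : (sp B).Opens := ⟨O, hO⟩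
  let U : Over (sp A) := Over.mk (Uo.ι ≫ spm (algebraMap A B))
  have hrange : Set.range (j ≫ π) ⊆ Set.range Uo.ι := by
    rw [Scheme.Opens.range_ι]
    rintro _ ⟨y₁, rfl⟩
    rw [Scheme.Hom.comp_apply]
    exact ⟨j y₁, ⟨y₁, rfl⟩, rfl⟩
  let c : D.obj.left ⟶ U.left := IsOpenImmersion.lift Uo.ι (j ≫ π) hrange
  have hcι : c ≫ Uo.ι = j ≫ π := IsOpenImmersion.lift_fac _ _ _
  -- the pullback square
  have sq1 : IsPullback (π ⁻¹ᵁ Uo).ι (π ∣_ Uo) π Uo.ι := (isPullback_morphismRestrict π Uo).flip
  have sq3 := sq1.paste_horiz hpb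
  have hrg : Set.range j = Set.range (π ⁻¹ᵁ Uo).ι := by
    rw [Scheme.Opens.range_ι]
    exact hsatO.symm
  let e : D.obj.left ≅ (π ⁻¹ᵁ Uo : Scheme.{u}) := IsOpenImmersion.isoOfRangeEq j (π ⁻¹ᵁ Uo).ι hrg
  have he : e.inv ≫ j = (π ⁻¹ᵁ Uo).ι := IsOpenImmersion.isoOfRangeEq_inv_fac _ _ _
  have hpb' : IsPullback D.obj.hom c (spm (algebraMap A A')) U.hom := by
    refine IsPullback.of_iso sq3 e.symm (Iso.refl _) (Iso.refl _) (Iso.refl _) ?_ ?_ (by simp) ?_
    · rw [Iso.refl_hom, Category.comp_id, Iso.symm_hom, ← hj, ← Category.assoc, he]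
    · rw [Iso.refl_hom, Category.comp_id, Iso.symm_hom, ← cancel_mono Uo.ι, Category.assoc, hcι,
        ← Category.assoc, he, morphismRestrict_ι]
    · simp only [Iso.refl_hom, Category.comp_id, Category.id_comp]
      rfl
  haveI hiso : IsIso (toDD_lift D.obj.hom c hpb'.w) := isIso_toDD_lift_of_isPullback hpb'
  refine ⟨U, nonempty_iso_of_invariant D U c hpb'.w ?_⟩
  intro T x₀ x₁ h w
  rw [← cancel_mono Uo.ι, Category.assoc, Category.assoc, hcι]
  exact cinv x₀ x₁ h w

end core

end Groth.Agent.Lib.H5bDDGlue
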