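import Mathlib
import Groth.Prelude.Def_Desc
import Groth.Prelude.Def_Mor2
import Groth.Agent.Lib.H5bDDQAffD
import Groth.Agent.Lib.H5bDDAffineEff2
import Groth.Agent.S2339

/-!
# Effectivity of quasi-affine descent data along fpqc morphisms (helper5)

`effective_of_quasiAffine`: for `p : X ⟶ S` surjective, flat and quasi-compact, every descent datum
relative to `p` whose scheme is quasi-affine over `X` is effective.
-/

set_option autoImplicit false
set_option linter.unusedSectionVars false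
set_option linter.style.haveILetI false
universe u

namespace Groth.Agent.Lib.H5bDDGlue

open CategoryTheory CategoryTheory.Limits AlgebraicGeometry Desc TensorProduct

/-- Step A: the case of a morphism of literal spectra. -/
lemma effective_spec_qa {A A' : Type u} [CommRing A] [CommRing A'] [Algebra A A']
    [Module.Flat A A'] [Surjective (spm (algebraMap A A'))]
    (D : SchDD (spm (algebraMap A A'))) [D.obj.left.IsQuasiAffine] :
    ∃ U : Over (sp A), Nonempty ((toDD (spm (algebraMap A A'))).obj U ≅ D) := by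
  let B' : Type u := Γ(D.obj.left, ⊤)
  let j : D.obj.left ⟶ sp B' := D.obj.left.toSpecΓ
  haveI : IsOpenImmersion j := inferInstanceAs (IsOpenImmersion D.obj.left.toSpecΓ)
  haveI : IsIso j.appTop := by
    have : j.appTop = (Scheme.ΓSpecIso Γ(D.obj.left, ⊤)).hom := Scheme.toSpecΓ_appTop _
    rw [this]
    infer_instance
  obtain ⟨g', hg'⟩ := exists_ext_of_isIso_appTop (Z := sp A') j D.obj.hom
  obtain ⟨f, hf⟩ := exists_spm g'
  letI : Algebra A' B' := f.toAlgebra
  letI : Algebra A B' := (f.comp (algebraMap A A')).toAlgebra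
  haveI : IsScalarTower A A' B' := IsScalarTower.of_algebraMap_eq fun _ => rfl
  haveI : QuasiSeparatedSpace D.obj.left := inferInstance
  exact qaff_core D j (by rw [← hg', ← hf])

/-- Step A': the case of a flat surjective morphism of affine schemes. -/
lemma effective_of_isAffine_qa {X S : Scheme.{u}} (p : X ⟶ S) [IsAffine X] [IsAffine S]
    [Surjective p] [Flat p] (D : SchDD p) [D.obj.left.IsQuasiAffine] :
    ∃ U : Over S, Nonempty ((toDD p).obj U ≅ D) := by
  haveI : QuasiCompact p := inferInstance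
  let A : Type u := Γ(S, ⊤)
  let A' : Type u := Γ(X, ⊤)
  letI : Algebra A A' := p.appTop.hom.toAlgebra
  have hp₁ : spm (algebraMap A A') = Spec.map p.appTop := rfl
  let q : sp A' ⟶ X := X.isoSpec.inv
  let s : sp A ⟶ S := S.isoSpec.inv
  have hw : q ≫ p = spm (algebraMap A A') ≫ s := by
    rw [hp₁]
    exact (Scheme.isoSpec_inv_naturality p).symm
  have sq : IsPullback q (spm (algebraMap A A')) p s := IsPullback.of_horiz_isIso ⟨hw⟩
  have h1 : spm (algebraMap A A') = (q ≫ p) ≫ S.isoSpec.hom := by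
    rw [hw, Category.assoc, Iso.inv_hom_id, Category.comp_id]
  haveI : Flat (spm (algebraMap A A')) := by
    rw [h1]
    infer_instance
  haveI : Surjective (spm (algebraMap A A')) := by
    rw [h1]
    infer_instance
  haveI : Module.Flat A A' := by
    have := (Flat.SpecMap_iff (f := CommRingCat.ofHom (algebraMap A A'))).mp inferInstance
    exact this
  let D₁ := pullDD sq.w D
  haveI : IsAffineHom (prD sq.w D) :=
    inferInstanceAs (IsAffineHom (pullback.fst D.obj.hom q))
  haveI : D₁.obj.left.IsQuasiAffine := Scheme.IsQuasiAffine.of_isAffineHom (prD sq.w D)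
  obtain ⟨U₁, ⟨e⟩⟩ := effective_spec_qa D₁
  have hgood := good_of_pull_effective sq D U₁ e
  refine effective_of_good_top D hgood ?_
  have : q.opensRange = ⊤ := by
    apply TopologicalSpace.Opens.ext
    simp [Set.range_eq_univ.mpr q.surjective]
  rw [this]
  rfl

/-- a quasi-affine morphism to an affine scheme has quasi-affine source. -/
lemma isQuasiAffine_of_mor2 {V X : Scheme.{u}} [IsAffine X] (f : V ⟶ X)
    (hf : Mor2.IsQuasiAffine f) : V.IsQuasiAffine := by
  haveI : (f ⁻¹ᵁ ⊤ : Scheme.{u}).IsQuasiAffine := hf.2 ⊤ (isAffineOpen_top X)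
  let e : V ≅ (f ⁻¹ᵁ ⊤ : Scheme.{u}) :=
    IsOpenImmersion.isoOfRangeEq (𝟙 V) (f ⁻¹ᵁ ⊤).ι (by
      rw [Scheme.Opens.range_ι]; simp)
  exact Scheme.IsQuasiAffine.of_isAffineHom e.hom

/-- Step B: affine base, quasi-compact source. -/
lemma effective_of_isAffine_base_qa {X S : Scheme.{u}} (p : X ⟶ S) [IsAffine S] [Surjective p]
    [Flat p] [QuasiCompact p] (D : SchDD p) (hD : Mor2.IsQuasiAffine D.obj.hom) :
    ∃ U : Over S, Nonempty ((toDD p).obj U ≅ D) := by
  haveI : CompactSpace X := QuasiCompact.compactSpace_of_compactSpace p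
  let 𝒰 := X.affineCover.finiteSubcover
  haveI : ∀ i, IsAffine (𝒰.X i) := fun i => by
    dsimp [𝒰]
    infer_instance
  let X' : Scheme.{u} := ∐ 𝒰.X
  haveI : IsAffine X' := inferInstance
  let q : X' ⟶ X := Sigma.desc 𝒰.f
  haveI : Flat q := IsZariskiLocalAtSource.sigmaDesc (P := @Flat) (fun i => inferInstance)
  haveI : LocallyOfFinitePresentation q :=
    IsZariskiLocalAtSource.sigmaDesc (P := @LocallyOfFinitePresentation) (fun i => inferInstance)
  haveI : Surjective q := by
    refine ⟨fun x => ?_⟩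
    obtain ⟨i, y, hy⟩ := 𝒰.exists_eq x
    refine ⟨Sigma.ι 𝒰.X i y, ?_⟩
    rw [← Scheme.Hom.comp_apply, Sigma.ι_desc]
    exact hy
  let D' := pullDD (s := 𝟙 S) (p' := q ≫ p) (Category.comp_id (q ≫ p)).symm D
  have hD' : Mor2.IsQuasiAffine D'.obj.hom := Groth.Agent.S2339.result D.obj.hom hD q
  haveI : D'.obj.left.IsQuasiAffine := isQuasiAffine_of_mor2 D'.obj.hom hD'
  obtain ⟨U, ⟨e⟩⟩ := effective_of_isAffine_qa (q ≫ p) D'
  exact ⟨U, effective_of_pull_effective_fppf q D U e⟩

/-- Effectivity of descent for quasi-affine morphisms along fpqc morphisms. -/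
theorem effective_of_quasiAffine {X S : Scheme.{u}} (p : X ⟶ S) [Surjective p] [Flat p]
    [QuasiCompact p] (D : SchDD p) (hD : Mor2.IsQuasiAffine D.obj.hom) :
    ∃ U : Over S, Nonempty ((toDD p).obj U ≅ D) := by
  apply effective_of_good_cover D
  intro v
  obtain ⟨⟨S₀, hS₀⟩, hv⟩ : ∃ S₀ : S.affineOpens, p (D.obj.hom v) ∈ S₀.1 := by
    obtain ⟨_, ⟨S₀, hS₀, rfl⟩, hv, -⟩ :=
      S.isBasis_affineOpens.exists_subset_of_mem_open (Set.mem_univ (p (D.obj.hom v))) isOpen_univ
    exact ⟨⟨S₀, hS₀⟩, hv⟩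
  have sq : IsPullback (p ⁻¹ᵁ S₀).ι (p ∣_ S₀) p S₀.ι := (isPullback_morphismRestrict p S₀).flip
  haveI : IsAffine S₀.toScheme := hS₀
  haveI : Surjective (p ∣_ S₀) := MorphismProperty.of_isPullback (P := @Surjective) sq inferInstance
  haveI : Flat (p ∣_ S₀) := MorphismProperty.of_isPullback (P := @Flat) sq inferInstance
  haveI : QuasiCompact (p ∣_ S₀) :=
    MorphismProperty.of_isPullback (P := @QuasiCompact) sq inferInstance
  let D₀ := pullDD sq.w D
  have hD₀ : Mor2.IsQuasiAffine D₀.obj.hom := Groth.Agent.S2339.result D.obj.hom hD (p ⁻¹ᵁ S₀).ι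
  obtain ⟨U₀, ⟨e⟩⟩ := effective_of_isAffine_base_qa (p ∣_ S₀) D₀ hD₀
  refine ⟨_, good_of_pull_effective sq D U₀ e, ?_⟩
  change D.obj.hom v ∈ (p ⁻¹ᵁ S₀).ι.opensRange
  rw [Scheme.Opens.opensRange_ι]
  exact hv

end Groth.Agent.Lib.H5bDDGlue
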