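import Mathlib
import Groth.Prelude.Def_Desc
import Groth.Prelude.Def_Mor2
import Groth.Agent.Lib.H5bDDQAffE
import Groth.Agent.Lib.H9Slice
import Groth.Agent.S1402
import Groth.Agent.S0079
import Groth.Agent.S0081

/-!
# Quasi-affineness of separated quasi-finite morphisms, and descent of étale separated
quasi-compact schemes (helper5)
-/

set_option autoImplicit false
set_option linter.unusedSectionVars false
set_option linter.style.haveILetI false
universe u

namespace Groth.Agent.Lib.H5bDDGlue

open CategoryTheory CategoryTheory.Limits AlgebraicGeometry Desc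

/-- Zariski's main theorem: quasi-compact separated locally quasi-finite morphisms are
quasi-affine. -/
lemma mor2_isQuasiAffine_of_sep_lqf {X Y : Scheme.{u}} (f : X ⟶ Y) [QuasiCompact f]
    [IsSeparated f] [LocallyQuasiFinite f] [LocallyOfFiniteType f] : Mor2.IsQuasiAffine f := by
  refine ⟨inferInstance, fun V hV => ?_⟩
  have h := Groth.Agent.S1402.result f V hV
  have hcV : IsCompact ((f ⁻¹ᵁ V : X.Opens) : Set X) := f.isCompact_preimage hV.isCompact
  haveI : CompactSpace ↥(f ⁻¹ᵁ V : Scheme.{u}) := isCompact_iff_compactSpace.mp hcV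
  haveI := h ⊤ isCompact_univ
  exact Scheme.IsQuasiAffine.of_isAffineHom (Scheme.topIso _).inv

/-- quasi-compact separated étale morphisms are quasi-affine. -/
lemma mor2_isQuasiAffine_of_sep_etale {X Y : Scheme.{u}} (f : X ⟶ Y) [QuasiCompact f]
    [IsSeparated f] [Etale f] : Mor2.IsQuasiAffine f := by
  haveI : LocallyQuasiFinite f := Groth.Agent.Lib.H9Slice.locallyQuasiFinite_of_etale f
  exact mor2_isQuasiAffine_of_sep_lqf f

/-- fpqc descent of étale, separated, quasi-compact schemes is effective. -/
theorem effective_etale_sep_qc {S' S : Scheme.{u}} (g : S' ⟶ S) [Flat g] [Surjective g]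
    [QuasiCompact g] (D : SchDD g) [QuasiCompact D.obj.hom] [IsSeparated D.obj.hom]
    [Etale D.obj.hom] :
    ∃ U : Over S, QuasiCompact U.hom ∧ IsSeparated U.hom ∧ Etale U.hom ∧
      Nonempty ((toDD g).obj U ≅ D) := by
  obtain ⟨U, ⟨e⟩⟩ := effective_of_quasiAffine g D (mor2_isQuasiAffine_of_sep_etale D.obj.hom)
  have hQ : (@Surjective ⊓ @Flat ⊓ @QuasiCompact : MorphismProperty Scheme.{u}) g :=
    ⟨⟨inferInstance, inferInstance⟩, inferInstance⟩
  have hfst : pullback.fst g U.hom = (leftIso e).hom ≫ D.obj.hom := (Over.w e.hom.hom).symm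
  haveI := Groth.Agent.S0079.result.{u}
  haveI := Groth.Agent.S0081.result.{u}
  refine ⟨U, ?_, ?_, ?_, ⟨e⟩⟩
  · refine MorphismProperty.of_pullback_fst_of_descendsAlong (P := @QuasiCompact) hQ ?_
    rw [hfst]
    exact (MorphismProperty.cancel_left_of_respectsIso @QuasiCompact (leftIso e).hom D.obj.hom).mpr
      inferInstance
  · refine MorphismProperty.of_pullback_fst_of_descendsAlong (P := @IsSeparated) hQ ?_
    rw [hfst]
    exact (MorphismProperty.cancel_left_of_respectsIso @IsSeparated (leftIso e).hom D.obj.hom).mpr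
      inferInstance
  · refine MorphismProperty.of_pullback_fst_of_descendsAlong (P := @Etale) hQ ?_
    rw [hfst]
    exact (MorphismProperty.cancel_left_of_respectsIso @Etale (leftIso e).hom D.obj.hom).mpr
      inferInstance

end Groth.Agent.Lib.H5bDDGlue
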