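import Mathlib
import Groth.Prelude.Def_Desc
import Groth.Agent.Lib.H5bDDGenH
import Groth.Agent.Lib.H5bDDGenJ
import Groth.Agent.Lib.H5bDDQAffF

/-!
# Effectivity of descent along fppf covers: affine, quasi-affine, separated locally quasi-finite
(helper5)
-/

set_option autoImplicit false
set_option linter.unusedSectionVars false
set_option linter.style.haveILetI false
universe u

namespace Groth.Agent.Lib.H5bDDGen

open CategoryTheory CategoryTheory.Limits AlgebraicGeometry Desc Groth.Agent.Lib.H5bDDGlue

/-- fppf descent of affine morphisms is effective. -/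
theorem effective_of_isAffineHom_fppf {X S : Scheme.{u}} (p : X ⟶ S) [Surjective p] [Flat p]
    [LocallyOfFinitePresentation p] (D : SchDD p) [IsAffineHom D.obj.hom] :
    ∃ U : Over S, Nonempty ((toDD p).obj U ≅ D) :=
  effective_fppf_of_affine_source @IsAffineHom
    (fun f g hf => MorphismProperty.pullback_snd (P := @IsAffineHom) f g hf)
    (fun p _ _ _ _ _ D hD => by
      haveI : IsAffineHom D.obj.hom := hD
      exact effective_of_isAffineHom p D) p D inferInstance

/-- fppf descent of quasi-affine morphisms is effective. -/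
theorem effective_of_quasiAffine_fppf {X S : Scheme.{u}} (p : X ⟶ S) [Surjective p] [Flat p]
    [LocallyOfFinitePresentation p] (D : SchDD p) (hD : Mor2.IsQuasiAffine D.obj.hom) :
    ∃ U : Over S, Nonempty ((toDD p).obj U ≅ D) :=
  effective_fppf_of_affine_source (fun _ _ f => Mor2.IsQuasiAffine f)
    (fun f g hf => Groth.Agent.S2339.result f hf g)
    (fun p _ _ _ _ _ D hD => effective_of_quasiAffine p D hD) p D hD

/-- separated locally quasi-finite descent along quasi-compact fppf covers with quasi-separated
source. -/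
theorem effective_sep_lqf_qc {X S : Scheme.{u}} (p : X ⟶ S) [QuasiSeparatedSpace X] [Surjective p]
    [Flat p] [LocallyOfFinitePresentation p] [QuasiCompact p] (D : SchDD p)
    [IsSeparated D.obj.hom] [LocallyQuasiFinite D.obj.hom] [LocallyOfFiniteType D.obj.hom] :
    ∃ U : Over S, Nonempty ((toDD p).obj U ≅ D) := by
  apply Groth.Agent.Lib.H5bDDGlue.effective_of_good_cover D
  intro y
  obtain ⟨_, ⟨W₀, hW₀, rfl⟩, hy, -⟩ :=
    D.obj.left.isBasis_affineOpens.exists_subset_of_mem_open (Set.mem_univ y) isOpen_univ
  have hst : IsStable D (hull p D W₀) := isStable_hull p D W₀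
  have hc : IsCompact (hull p D W₀ : Set D.obj.left) := isCompact_hull p D hW₀.isCompact
  refine ⟨hull p D W₀, ?_, le_hull p D W₀ hy⟩
  haveI : CompactSpace ↥(hull p D W₀ : Scheme.{u}) := isCompact_iff_compactSpace.mp hc
  have hqa : Mor2.IsQuasiAffine (restrictDD hst).obj.hom := by
    change Mor2.IsQuasiAffine ((hull p D W₀).ι ≫ D.obj.hom)
    haveI : QuasiCompact ((hull p D W₀).ι ≫ D.obj.hom) := quasiCompact_of_compactSpace _
    exact mor2_isQuasiAffine_of_sep_lqf _
  obtain ⟨U, ⟨e⟩⟩ := effective_of_quasiAffine p (restrictDD hst) hqa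
  exact good_of_restrict_effective hst U e

/-- fppf descent of separated locally quasi-finite schemes is effective. -/
theorem effective_sep_lqf_fppf {X S : Scheme.{u}} (p : X ⟶ S) [Surjective p] [Flat p]
    [LocallyOfFinitePresentation p] (D : SchDD p)
    [IsSeparated D.obj.hom] [LocallyQuasiFinite D.obj.hom] [LocallyOfFiniteType D.obj.hom] :
    ∃ U : Over S, Nonempty ((toDD p).obj U ≅ D) :=
  effective_fppf_of_affine_source (@IsSeparated ⊓ @LocallyQuasiFinite ⊓ @LocallyOfFiniteType)
    (fun f g hf => ⟨⟨MorphismProperty.pullback_snd (P := @IsSeparated) f g hf.1.1,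
      MorphismProperty.pullback_snd (P := @LocallyQuasiFinite) f g hf.1.2⟩,
      MorphismProperty.pullback_snd (P := @LocallyOfFiniteType) f g hf.2⟩)
    (fun p _ _ _ _ _ D hD => by
      haveI : IsSeparated D.obj.hom := hD.1.1
      haveI : LocallyQuasiFinite D.obj.hom := hD.1.2
      haveI : LocallyOfFiniteType D.obj.hom := hD.2
      exact effective_sep_lqf_qc p D) p D ⟨⟨inferInstance, inferInstance⟩, inferInstance⟩

end Groth.Agent.Lib.H5bDDGen
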