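import Mathlib
import Groth.Prelude
import Groth.Agent.S13210
import Groth.Agent.S9928
import Groth.Agent.Lib.Helper9QuotSh
import Groth.Agent.Lib.Helper12MonoFactor
import Groth.Agent.Lib.Helper15AlgSpInf

/-!
Uniqueness of lifts for formally unramified morphisms of fppf sheaves along first order
thickenings of algebraic spaces (reduction to affine etale charts).
-/

set_option autoImplicit false
universe u
open CategoryTheory CategoryTheory.Limits AlgebraicGeometry Opposite

namespace Groth.Agent.Lib.Helper8FOThick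

open Groth.Agent.S13210 Groth.Agent.Lib.Helper12.ZarGlue

variable {S : Scheme.{u}}

/-- two maps from a representable sheaf agree if they agree on a covering sieve. -/
theorem hom_ext_of_mem_J {F : AlgSp.Sp S} {T : Over S} (R : Sieve T) (hR : R ∈ AlgSp.J S T)
    (a b : (AlgSp.yon S).obj T ⟶ F)
    (h : ∀ ⦃Z : Over S⦄ (g : Z ⟶ T), R g → (AlgSp.yon S).map g ≫ a = (AlgSp.yon S).map g ≫ b) :
    a = b := by
  have hsh : Presieve.IsSheaf (AlgSp.J S) F.obj := (isSheaf_iff_isSheaf_of_type _ _).1 F.property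
  apply (yEquiv T F).injective
  apply (hsh R hR).isSeparatedFor.ext
  intro Z g hg
  rw [map_yEquiv, map_yEquiv, h g hg]

/-- two maps from a representable sheaf agree if they agree on a covering family. -/
theorem hom_ext_of_ofArrows_mem {F : AlgSp.Sp S} {T : Over S} {ι : Type*} (Y : ι → Over S)
    (g : ∀ i, Y i ⟶ T) (hR : Sieve.ofArrows Y g ∈ AlgSp.J S T)
    (a b : (AlgSp.yon S).obj T ⟶ F)
    (h : ∀ i, (AlgSp.yon S).map (g i) ≫ a = (AlgSp.yon S).map (g i) ≫ b) : a = b := by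
  apply hom_ext_of_mem_J _ hR
  intro Z m hm
  rw [Sieve.mem_ofArrows_iff] at hm
  obtain ⟨i, c, rfl⟩ := hm
  rw [Functor.map_comp, Category.assoc, Category.assoc, h i]

/-- uniqueness of lifts along `Spec (A/I) ⟶ Spec A`, `I ^ 2 = 0`. -/
theorem eq_of_sqZero_spec {F G : AlgSp.Sp S} (f : F ⟶ G) (hf : AlgSp.IsFormallyUnramifiedMor f)
    (A : Type u) [CommRing A] (I : Ideal A) (hI : I ^ 2 = ⊥) (str : Spec (.of A) ⟶ S)
    (l l' : (AlgSp.yon S).obj (Over.mk str) ⟶ F)
    (h1 : (AlgSp.yon S).map (Over.homMk (Spec.map (CommRingCat.ofHom (Ideal.Quotient.mk I))) rfl :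
        Over.mk (Spec.map (CommRingCat.ofHom (Ideal.Quotient.mk I)) ≫ str) ⟶ Over.mk str) ≫ l =
      (AlgSp.yon S).map (Over.homMk (Spec.map (CommRingCat.ofHom (Ideal.Quotient.mk I))) rfl :
        Over.mk (Spec.map (CommRingCat.ofHom (Ideal.Quotient.mk I)) ≫ str) ⟶ Over.mk str) ≫ l')
    (h2 : l ≫ f = l' ≫ f) : l = l' := by
  let sq : AlgSp.InfSq f :=
    { A := A, I := I, sq_zero := hI, str := str,
      top := (AlgSp.yon S).map
        (Over.homMk (Spec.map (CommRingCat.ofHom (Ideal.Quotient.mk I))) rfl :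
        Over.mk (Spec.map (CommRingCat.ofHom (Ideal.Quotient.mk I)) ≫ str) ⟶ Over.mk str) ≫ l
      bot := l ≫ f
      comm := Category.assoc _ _ _ }
  exact hf sq l l' rfl rfl h1.symm h2.symm

/-- uniqueness of lifts along a closed immersion into an affine scheme with square zero ideal. -/
theorem eq_of_sqZero_affine {F G : AlgSp.Sp S} (f : F ⟶ G) (hf : AlgSp.IsFormallyUnramifiedMor f)
    {V V₀ : Over S} [IsAffine V.left] (i : V₀ ⟶ V) [IsClosedImmersion i.left]
    (hi : i.left.ker * i.left.ker = ⊥)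
    (l l' : (AlgSp.yon S).obj V ⟶ F)
    (h1 : (AlgSp.yon S).map i ≫ l = (AlgSp.yon S).map i ≫ l') (h2 : l ≫ f = l' ≫ f) : l = l' := by
  obtain ⟨hV₀, hsurj⟩ := IsClosedImmersion.isAffine_surjective_of_isAffine i.left
  haveI := hV₀
  let φ : Γ(V.left, ⊤) →+* Γ(V₀.left, ⊤) := i.left.appTop.hom
  have hsurj' : Function.Surjective φ := hsurj
  let I : Ideal Γ(V.left, ⊤) := RingHom.ker φ
  have hI : I ^ 2 = ⊥ := by
    have h0 : (i.left.ker * i.left.ker).ideal ⟨⊤, isAffineOpen_top V.left⟩ =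
        (⊥ : V.left.IdealSheafData).ideal ⟨⊤, isAffineOpen_top V.left⟩ := by rw [hi]
    rw [Scheme.IdealSheafData.ideal_mul, Scheme.IdealSheafData.ideal_bot, Pi.mul_apply,
      Pi.bot_apply, Scheme.Hom.ker_apply] at h0
    rw [pow_two]
    exact h0
  let ψ : Γ(V₀.left, ⊤) →+* Γ(V.left, ⊤) ⧸ I :=
    (RingHom.quotientKerEquivOfSurjective hsurj').symm.toRingHom
  have hψ : ψ.comp φ = Ideal.Quotient.mk I := RingHom.quotientKerEquivOfSurjective_symm_comp hsurj'
  let str : Spec (CommRingCat.of Γ(V.left, ⊤)) ⟶ S := V.left.isoSpec.inv ≫ V.hom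
  let eO : Over.mk str ≅ V := Over.isoMk V.left.isoSpec.symm rfl
  let k : Spec (CommRingCat.of (Γ(V.left, ⊤) ⧸ I)) ⟶ V₀.left :=
    Spec.map (CommRingCat.ofHom ψ) ≫ V₀.left.isoSpec.inv
  have hcomp : i.left.appTop ≫ CommRingCat.ofHom ψ = CommRingCat.ofHom (Ideal.Quotient.mk I) := by
    apply CommRingCat.hom_ext
    exact hψ
  have hk : k ≫ i.left =
      Spec.map (CommRingCat.ofHom (Ideal.Quotient.mk I)) ≫ V.left.isoSpec.inv := by
    calc k ≫ i.left = Spec.map (CommRingCat.ofHom ψ) ≫ (V₀.left.isoSpec.inv ≫ i.left) :=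
          Category.assoc _ _ _
      _ = Spec.map (CommRingCat.ofHom ψ) ≫ (Spec.map i.left.appTop ≫ V.left.isoSpec.inv) := by
          rw [Scheme.isoSpec_inv_naturality]
      _ = Spec.map (i.left.appTop ≫ CommRingCat.ofHom ψ) ≫ V.left.isoSpec.inv := by
          rw [Spec.map_comp, Category.assoc]
      _ = _ := by rw [hcomp]
  have hk' : k ≫ V₀.hom = Spec.map (CommRingCat.ofHom (Ideal.Quotient.mk I)) ≫ str := by
    rw [← Over.w i, ← Category.assoc, hk, Category.assoc]
  have key : (AlgSp.yon S).map eO.hom ≫ l = (AlgSp.yon S).map eO.hom ≫ l' := by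
    apply eq_of_sqZero_spec f hf Γ(V.left, ⊤) I hI str
    · let J : Over.mk (Spec.map (CommRingCat.ofHom (Ideal.Quotient.mk I)) ≫ str) ⟶ Over.mk str :=
        Over.homMk (Spec.map (CommRingCat.ofHom (Ideal.Quotient.mk I))) rfl
      let K : Over.mk (Spec.map (CommRingCat.ofHom (Ideal.Quotient.mk I)) ≫ str) ⟶ V₀ :=
        Over.homMk k hk'
      have hji : J ≫ eO.hom = K ≫ i := by
        apply Over.OverMorphism.ext
        exact hk.symm
      have e1 : ∀ m : (AlgSp.yon S).obj V ⟶ F,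
          (AlgSp.yon S).map J ≫ (AlgSp.yon S).map eO.hom ≫ m =
            (AlgSp.yon S).map K ≫ (AlgSp.yon S).map i ≫ m := fun m =>
        calc (AlgSp.yon S).map J ≫ (AlgSp.yon S).map eO.hom ≫ m
            = (AlgSp.yon S).map (J ≫ eO.hom) ≫ m :=
              ((AlgSp.yon S).map_comp_assoc J eO.hom m).symm
          _ = (AlgSp.yon S).map (K ≫ i) ≫ m :=
              congrArg (fun t => (AlgSp.yon S).map t ≫ m) hji
          _ = _ := (AlgSp.yon S).map_comp_assoc K i m
      exact (e1 l).trans ((congrArg (fun t => (AlgSp.yon S).map K ≫ t) h1).trans (e1 l').symm)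
    · rw [Category.assoc, Category.assoc, h2]
  exact (cancel_epi ((AlgSp.yon S).map eO.hom)).1 key

/-- a formally unramified morphism of algebraic spaces has at most one lift along a first order
thickening of algebraic spaces. -/
theorem eq_of_foThick {X Y : AlgSp.Space S} (f : X ⟶ Y)
    (hf : AlgSp.IsFormallyUnramifiedMor f.hom) {T T' : AlgSp.Space S} (j : T ⟶ T')
    (hj : AlgSp.IsFOThickMor j.hom) (l l' : T' ⟶ X) (h1 : j ≫ l = j ≫ l')
    (h2 : l ≫ f = l' ≫ f) : l = l' := by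
  have h1' : j.hom ≫ l.hom = j.hom ≫ l'.hom := congrArg (fun m => m.hom) h1
  have h2' : l.hom ≫ f.hom = l'.hom ≫ f.hom := congrArg (fun m => m.hom) h2
  apply ObjectProperty.hom_ext
  obtain ⟨W, p, hpe, hps⟩ := T'.property.atlas
  -- affine etale charts
  have hchart : ∀ (V : Over S) (c : (AlgSp.yon S).obj V ⟶ T'.obj), IsAffine V.left →
      AlgSp.RepWith @Etale c → c ≫ l.hom = c ≫ l'.hom := by
    intro V c hVaff hc
    haveI := hVaff
    obtain ⟨V₀, snd₀, fst₀, sq₀⟩ := hj.1.1 c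
    have hthick : AlgSp.thick snd₀.left := hj.1.2 c fst₀ snd₀ sq₀
    have hsq : AlgSp.sqZero snd₀.left := hj.2 c fst₀ snd₀ hVaff hc sq₀
    haveI : IsClosedImmersion snd₀.left := hthick.1
    apply eq_of_sqZero_affine f.hom hf snd₀ hsq (c ≫ l.hom) (c ≫ l'.hom)
    · rw [← Category.assoc, ← Category.assoc, ← sq₀.w, Category.assoc, Category.assoc, h1']
    · rw [Category.assoc, Category.assoc, h2']
  -- the atlas
  have hstep1 : p ≫ l.hom = p ≫ l'.hom := by
    have hO : ∀ w : W.left, ∃ k : W.left.affineOpens, w ∈ (k.1 : W.left.Opens) := by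
      intro w
      obtain ⟨U, hU, hwU, -⟩ :=
        exists_isAffineOpen_mem_and_subset (X := W.left) (x := w) (U := ⊤) trivial
      exact ⟨⟨U, hU⟩, hwU⟩
    apply hom_ext_of_ofArrows_mem _ _
      (Groth.Agent.Lib.Helper12.MonoFactor.ofArrows_opens_mem
        (fun k : W.left.affineOpens => (k.1 : W.left.Opens)) hO)
    intro k
    have hι : AlgSp.RepWith @Etale ((AlgSp.yon S).map
        (Over.homMk k.1.ι rfl : Over.mk (k.1.ι ≫ W.hom) ⟶ W)) :=
      (AlgSp.repWith_yon_map_iff _ _).2 (inferInstanceAs (Etale k.1.ι))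
    have hc : AlgSp.RepWith @Etale ((AlgSp.yon S).map
        (Over.homMk k.1.ι rfl : Over.mk (k.1.ι ≫ W.hom) ⟶ W) ≫ p) :=
      (AlgSp.repWith_isMultiplicative (S := S) @Etale).comp_mem _ _ hι hpe
    have := hchart (Over.mk (k.1.ι ≫ W.hom)) _
      (show IsAffine (Over.mk (k.1.ι ≫ W.hom)).left from k.2) hc
    rw [Category.assoc, Category.assoc] at this
    exact this
  apply Groth.Agent.S9928.sp_hom_ext
  intro T₀ x
  obtain ⟨W₀, snd, fst, sq⟩ := hpe.1 x
  haveI : Etale snd.left := hpe.2 x fst snd sq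
  haveI : Surjective snd.left := hps.2 x fst snd sq
  apply hom_ext_of_mem_J _ (Groth.Agent.Lib.Helper9.generate_singleton_mem_J_fppf snd)
  rintro Z g ⟨Z', a, b, ⟨⟩, rfl⟩
  rw [Functor.map_comp, Category.assoc, Category.assoc]
  congr 1
  rw [← Category.assoc, ← Category.assoc, ← sq.w, Category.assoc, Category.assoc, hstep1]

end Groth.Agent.Lib.Helper8FOThick
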