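import Mathlib
import Groth.Prelude.Def_AlgSp
import Groth.Prelude.Def_AlgSp3
import Groth.Prelude.Def_AlgSpDec
import Groth.Agent.S10176
import Groth.Agent.S10177
import Groth.Agent.Lib.Helper8FOThick

/-!
# Jointly surjective étale families of algebraic spaces are effective epimorphic (helper5)

* `hom_ext_yon`: morphisms of fppf sheaves are determined by their composites with maps from
  representables;
* `hom_ext_of_jointly_surjective`: two étale morphisms from algebraic spaces which are jointly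
  surjective on points are jointly epimorphic in the category of fppf sheaves;
* `effectiveEpiFamily_of_jointly_surjective`: they form an effective epimorphic family.
-/

set_option autoImplicit false
universe u

namespace Groth.Agent.Lib.H5bJointEpi

open CategoryTheory CategoryTheory.Limits AlgebraicGeometry AlgSp Opposite

variable {S : Scheme.{u}}

/-- morphisms of sheaves are determined on representables. -/
theorem hom_ext_yon {B Z : AlgSp.Sp S} (g g' : B ⟶ Z)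
    (h : ∀ (T : Over S) (w : (yon S).obj T ⟶ B), w ≫ g = w ≫ g') : g = g' := by
  apply Sheaf.hom_ext
  ext T x
  have h1 := h T.unop ((J S).uliftYonedaEquiv.symm x)
  have h2 := congrArg (J S).uliftYonedaEquiv h1
  rw [GrothendieckTopology.uliftYonedaEquiv_comp, GrothendieckTopology.uliftYonedaEquiv_comp,
    Equiv.apply_symm_apply] at h2
  exact h2

/-- two étale morphisms from algebraic spaces which are jointly surjective on points are jointly
epimorphic in the category of fppf sheaves. -/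
theorem hom_ext_of_jointly_surjective {B X₁ X₂ Z : AlgSp.Sp S} (hX₁ : IsAlgSpace X₁)
    (hX₂ : IsAlgSpace X₂) (π₁ : X₁ ⟶ B) (π₂ : X₂ ⟶ B) (h₁ : IsEtaleMor π₁) (h₂ : IsEtaleMor π₂)
    (hs : ∀ x : Points B, x ∈ Set.range (Points.map π₁) ∨ x ∈ Set.range (Points.map π₂))
    (g g' : B ⟶ Z) (e₁ : π₁ ≫ g = π₁ ≫ g') (e₂ : π₂ ≫ g = π₂ ≫ g') : g = g' := by
  obtain ⟨U₁, p₁, hp₁e, hp₁s⟩ := hX₁.atlas
  obtain ⟨U₂, p₂, hp₂e, hp₂s⟩ := hX₂.atlas
  have hc₁ : RepWith @Etale (p₁ ≫ π₁) := h₁ p₁ hp₁e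
  have hc₂ : RepWith @Etale (p₂ ≫ π₂) := h₂ p₂ hp₂e
  apply hom_ext_yon
  intro T w
  obtain ⟨T₁, s₁, f₁', sq₁⟩ := hc₁.1 w
  obtain ⟨T₂, s₂, f₂', sq₂⟩ := hc₂.1 w
  obtain ⟨f₁, rfl⟩ := (yon S).map_surjective f₁'
  obtain ⟨f₂, rfl⟩ := (yon S).map_surjective f₂'
  have hs₁ : Etale s₁.left := hc₁.2 w _ s₁ sq₁
  have hs₂ : Etale s₂.left := hc₂.2 w _ s₂ sq₂
  let Y : Bool → Over S := fun b => Bool.rec T₂ T₁ b
  let c : ∀ b, Y b ⟶ T := fun b => Bool.rec (motive := fun b => Y b ⟶ T) s₂ s₁ b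
  have hmem : Sieve.ofArrows Y c ∈ AlgSp.J S T := by
    rw [GrothendieckTopology.mem_over_iff, Sieve.overEquiv_ofArrows]
    apply Precoverage.generate_mem_toGrothendieck
    refine (Scheme.ofArrows_mem_precoverage_iff
      (fun {A B : Scheme.{u}} (m : A ⟶ B) => Flat m ∧ LocallyOfFinitePresentation m)).2
      ⟨fun t => ?_, fun b => ?_⟩
    · rcases hs (Points.ofPt w t) with ⟨x, hx⟩ | ⟨x, hx⟩
      · obtain ⟨u, rfl⟩ := Groth.Agent.S10177.surjective_ofPt p₁ hp₁s x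
        rw [Points.map_ofPt] at hx
        obtain ⟨y, -, hy⟩ := Groth.Agent.S10176.exists_point_of_isPullback_yon sq₁ u t hx
        exact ⟨true, y, hy⟩
      · obtain ⟨u, rfl⟩ := Groth.Agent.S10177.surjective_ofPt p₂ hp₂s x
        rw [Points.map_ofPt] at hx
        obtain ⟨y, -, hy⟩ := Groth.Agent.S10176.exists_point_of_isPullback_yon sq₂ u t hx
        exact ⟨false, y, hy⟩
    · cases b
      · exact ⟨inferInstance, inferInstance⟩
      · exact ⟨inferInstance, inferInstance⟩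
  apply Groth.Agent.Lib.Helper8FOThick.hom_ext_of_ofArrows_mem Y c hmem
  intro b
  cases b
  · change (yon S).map s₂ ≫ w ≫ g = (yon S).map s₂ ≫ w ≫ g'
    rw [← Category.assoc, ← Category.assoc, ← sq₂.w, Category.assoc, Category.assoc,
      Category.assoc, Category.assoc, e₂]
  · change (yon S).map s₁ ≫ w ≫ g = (yon S).map s₁ ≫ w ≫ g'
    rw [← Category.assoc, ← Category.assoc, ← sq₁.w, Category.assoc, Category.assoc,
      Category.assoc, Category.assoc, e₁]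

/-- descent of morphisms along a jointly surjective pair of étale morphisms from algebraic spaces. -/
theorem exists_desc_of_jointly_surjective {B X₁ X₂ Z : AlgSp.Sp S} (hX₁ : IsAlgSpace X₁)
    (hX₂ : IsAlgSpace X₂) (π₁ : X₁ ⟶ B) (π₂ : X₂ ⟶ B) (h₁ : IsEtaleMor π₁) (h₂ : IsEtaleMor π₂)
    (hs : ∀ x : Points B, x ∈ Set.range (Points.map π₁) ∨ x ∈ Set.range (Points.map π₂))
    (e₁ : X₁ ⟶ Z) (e₂ : X₂ ⟶ Z)
    (h11 : ∀ {T : AlgSp.Sp S} (g₁ g₂ : T ⟶ X₁), g₁ ≫ π₁ = g₂ ≫ π₁ → g₁ ≫ e₁ = g₂ ≫ e₁)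
    (h12 : ∀ {T : AlgSp.Sp S} (g₁ : T ⟶ X₁) (g₂ : T ⟶ X₂), g₁ ≫ π₁ = g₂ ≫ π₂ →
      g₁ ≫ e₁ = g₂ ≫ e₂)
    (h22 : ∀ {T : AlgSp.Sp S} (g₁ g₂ : T ⟶ X₂), g₁ ≫ π₂ = g₂ ≫ π₂ → g₁ ≫ e₂ = g₂ ≫ e₂) :
    ∃ m : B ⟶ Z, π₁ ≫ m = e₁ ∧ π₂ ≫ m = e₂ := by
  let X : Bool → AlgSp.Sp S := fun b => Bool.rec X₂ X₁ b
  let π : ∀ b, X b ⟶ B := fun b => Bool.rec (motive := fun b => X b ⟶ B) π₂ π₁ b
  let e : ∀ b, X b ⟶ Z := fun b => Bool.rec (motive := fun b => X b ⟶ Z) e₂ e₁ b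
  haveI : Epi (Sigma.desc π) := by
    refine ⟨fun g g' h => ?_⟩
    refine hom_ext_of_jointly_surjective hX₁ hX₂ π₁ π₂ h₁ h₂ hs g g' ?_ ?_
    · have := congrArg (fun m => Sigma.ι X true ≫ m) h
      simpa only [← Category.assoc, Sigma.ι_desc] using this
    · have := congrArg (fun m => Sigma.ι X false ≫ m) h
      simpa only [← Category.assoc, Sigma.ι_desc] using this
  haveI := IsRegularEpiCategory.regularEpiOfEpi (Sigma.desc π)
  haveI : EffectiveEpiFamily X π := by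
    rw [← effectiveEpi_desc_iff_effectiveEpiFamily]
    infer_instance
  have hcompat : ∀ {T : AlgSp.Sp S} (a₁ a₂ : Bool) (g₁ : T ⟶ X a₁) (g₂ : T ⟶ X a₂),
      g₁ ≫ π _ = g₂ ≫ π _ → g₁ ≫ e _ = g₂ ≫ e _ := by
    intro T a₁ a₂ g₁ g₂ h
    cases a₁ <;> cases a₂
    · exact h22 g₁ g₂ h
    · exact (h12 g₂ g₁ h.symm).symm
    · exact h12 g₁ g₂ h
    · exact h11 g₁ g₂ h
  exact ⟨EffectiveEpiFamily.desc X π e hcompat, EffectiveEpiFamily.fac X π e hcompat true,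
    EffectiveEpiFamily.fac X π e hcompat false⟩

end Groth.Agent.Lib.H5bJointEpi
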