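import Mathlib

/-!
# fppf-locality on the target from descent (helper5)

* `isLocalAtTarget_fppf`: a property of morphisms of schemes which is Zariski-local on the target,
  stable under base change and descends along surjective flat morphisms locally of finite
  presentation is local on the target for the fppf precoverage;
* instances for `Etale`, `Smooth`, `LocallyOfFiniteType`, `LocallyOfFinitePresentation`,
  `Surjective`.
-/

set_option autoImplicit false
universe u

namespace Groth.Agent.Lib.H5bFppfLocal

open CategoryTheory CategoryTheory.Limits AlgebraicGeometry MorphismProperty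

/-- fppf-locality on the target from Zariski-locality and descent along fppf coverings. -/
theorem isLocalAtTarget_fppf (P : MorphismProperty Scheme.{u}) [IsZariskiLocalAtTarget P]
    [P.IsStableUnderBaseChange]
    [P.DescendsAlong (@Surjective ⊓ @Flat ⊓ @LocallyOfFinitePresentation)] :
    P.IsLocalAtTarget Scheme.fppfPrecoverage := by
  haveI : P.RespectsIso := inferInstance
  haveI : Precoverage.Small.{u} Scheme.fppfPrecoverage.{u} := by
    unfold Scheme.fppfPrecoverage
    infer_instance
  haveI : Precoverage.HasPullbacks Scheme.fppfPrecoverage.{u} := by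
    unfold Scheme.fppfPrecoverage
    infer_instance
  refine IsLocalAtTarget.mk_of_small.{u} (fun 𝒰 hf i => P.pullback_snd _ _ hf) ?_
  intro X Y f 𝒰 h
  obtain ⟨hs, hp⟩ := (Scheme.presieve₀_mem_precoverage_iff
    (P := @Flat ⊓ @LocallyOfFinitePresentation) 𝒰.toPreZeroHypercover).1 𝒰.mem₀
  let π : ∐ 𝒰.X ⟶ Y := Sigma.desc 𝒰.f
  have hπ : (@Surjective ⊓ @Flat ⊓ @LocallyOfFinitePresentation : MorphismProperty Scheme.{u}) π := by
    refine ⟨⟨⟨fun y => ?_⟩, ?_⟩, ?_⟩
    · obtain ⟨i, x, hx⟩ := hs y
      refine ⟨Sigma.ι 𝒰.X i x, ?_⟩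
      rw [← Scheme.Hom.comp_apply, Sigma.ι_desc]
      exact hx
    · exact IsZariskiLocalAtSource.sigmaDesc (fun i => (hp i).1)
    · exact IsZariskiLocalAtSource.sigmaDesc (fun i => (hp i).2)
  refine of_isPullback_of_descendsAlong
    (Q := @Surjective ⊓ @Flat ⊓ @LocallyOfFinitePresentation) (IsPullback.of_hasPullback π f) hπ ?_
  refine (IsZariskiLocalAtTarget.iff_of_openCover (P := P) (sigmaOpenCover 𝒰.X)).2 (fun i => ?_)
  have sqA := IsPullback.of_hasPullback (pullback.fst π f) ((sigmaOpenCover 𝒰.X).f i)
  have sqB := (IsPullback.of_hasPullback π f).flip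
  have sqC := sqA.paste_horiz sqB
  have e1 : (sigmaOpenCover 𝒰.X).f i ≫ π = 𝒰.f i := Sigma.ι_desc _ _
  rw [e1] at sqC
  have h1 := h i
  show P (pullback.snd (pullback.fst π f) ((sigmaOpenCover 𝒰.X).f i))
  rw [← sqC.isoPullback_hom_snd, P.cancel_left_of_respectsIso]
  exact h1

instance : IsLocalAtTarget (@Etale : MorphismProperty Scheme.{u}) Scheme.fppfPrecoverage :=
  isLocalAtTarget_fppf _

instance : IsLocalAtTarget (@Smooth : MorphismProperty Scheme.{u}) Scheme.fppfPrecoverage :=
  isLocalAtTarget_fppf _

instance : IsLocalAtTarget (@LocallyOfFiniteType : MorphismProperty Scheme.{u})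
    Scheme.fppfPrecoverage :=
  isLocalAtTarget_fppf _

instance : IsLocalAtTarget (@LocallyOfFinitePresentation : MorphismProperty Scheme.{u})
    Scheme.fppfPrecoverage :=
  isLocalAtTarget_fppf _

instance : DescendsAlong (@Surjective : MorphismProperty Scheme.{u})
    (@Surjective ⊓ @Flat ⊓ @LocallyOfFinitePresentation) where
  of_isPullback {A X Y Z fst snd f g} h hf hfst := by
    haveI : Surjective f := hf.1.1
    haveI : Surjective fst := hfst
    constructor
    intro z
    obtain ⟨x, rfl⟩ := f.surjective z
    obtain ⟨a, rfl⟩ := fst.surjective x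
    refine ⟨snd a, ?_⟩
    rw [← Scheme.Hom.comp_apply, ← h.w, Scheme.Hom.comp_apply]

instance : IsLocalAtTarget (@Surjective : MorphismProperty Scheme.{u}) Scheme.fppfPrecoverage :=
  isLocalAtTarget_fppf _

end Groth.Agent.Lib.H5bFppfLocal
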