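import Mathlib
import Groth.Prelude.Def_AlgSp4
import Groth.Agent.S13210
import Groth.Agent.S10175
import Groth.Agent.S10509
import Groth.Agent.S9884
import Groth.Agent.S14276
import Groth.Agent.S9869
import Groth.Agent.Lib.Helper12OpenSub
import Groth.Agent.Lib.Helper9Shf
import Groth.Agent.Lib.Helper9QuotSh

/-!
# Restriction of an equivalence relation along a flat morphism: the open subsheaf (helper5)

* `epi_yon_map`: `h_p` is an epimorphism of fppf sheaves for `p` surjective, flat and locally of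
  finite presentation;
* `exists_open_subsheaf`: for an effective equivalence relation `s, t : R ⟶ U` with quotient
  `π : h_U ⟶ F` and `g : U' ⟶ U` flat and locally of finite presentation, the image of
  `h_{U'} ⟶ F` is an open subsheaf `F''` of `F`, and the kernel pair of `h_{U'} ⟶ F''` is the
  restricted relation.
-/

set_option autoImplicit false
set_option linter.style.haveILetI false
universe u

namespace Groth.Agent.Lib.H5bQuotOpen

open CategoryTheory CategoryTheory.Limits AlgebraicGeometry Opposite MorphismProperty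
open AlgSp Groth.Agent.S13210 Groth.Agent.Lib.Helper12

variable {S : Scheme.{u}}

/-- `h_p` is an epimorphism of fppf sheaves for an fppf covering morphism `p`. -/
lemma epi_yon_map {Z T : Over S} (p : Z ⟶ T) [Flat p.left] [Surjective p.left]
    [LocallyOfFinitePresentation p.left] : Epi ((AlgSp.yon S).map p) := by
  haveI := Groth.Agent.Lib.Helper9.epi_repMap_fppf p
  have h := Groth.Agent.S9869.repMap_comp_repIso p
  have h2 : (AlgSp.yon S).map p = (QuotSh.repIsoUliftYoneda Scheme.fppfPrecoverage Z).inv ≫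
      QuotSh.repMap Scheme.fppfPrecoverage p ≫
        (QuotSh.repIsoUliftYoneda Scheme.fppfPrecoverage T).hom := by
    rw [h, Iso.inv_hom_id_assoc]
  rw [h2]
  infer_instance

theorem exists_open_subsheaf {R U R' U' : Over S} (s t : R ⟶ U) (g : U' ⟶ U) (s' t' : R' ⟶ U')
    (r : R' ⟶ R) (hsq : IsPullback (prod.lift t' s') r (prod.map g g) (prod.lift t s))
    (hinj : ∀ (T : Over S) (ρ ρ' : T ⟶ R), ρ ≫ t = ρ' ≫ t → ρ ≫ s = ρ' ≫ s → ρ = ρ')
    [Flat t.left] [LocallyOfFinitePresentation t.left]
    [Flat g.left] [LocallyOfFinitePresentation g.left]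
    {F : AlgSp.Sp S} (π : (AlgSp.yon S).obj U ⟶ F) [Epi π]
    (hk : IsPullback ((AlgSp.yon S).map s) ((AlgSp.yon S).map t) π π) :
    ∃ (F'' : AlgSp.Sp S) (incl : F'' ⟶ F) (q : (AlgSp.yon S).obj U' ⟶ F''),
      AlgSp.RepWith @IsOpenImmersion incl ∧ Mono incl ∧ q ≫ incl = (AlgSp.yon S).map g ≫ π ∧
        Epi q ∧ IsPullback ((AlgSp.yon S).map s') ((AlgSp.yon S).map t') q q := by
  classical
  have hts : t' ≫ g = r ≫ t := by
    have := congrArg (fun m => m ≫ prod.fst) hsq.w
    simpa only [Category.assoc, prod.lift_fst, prod.map_fst, prod.lift_fst_assoc] using this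
  have hss : s' ≫ g = r ≫ s := by
    have := congrArg (fun m => m ≫ prod.snd) hsq.w
    simpa only [Category.assoc, prod.lift_snd, prod.map_snd, prod.lift_snd_assoc] using this
  haveI : Sheaf.IsLocallySurjective π := (Sheaf.isLocallySurjective_iff_epi _).2 inferInstance
  let W : Set (AlgSp.Points F) := Set.range (AlgSp.Points.map ((AlgSp.yon S).map g ≫ π))
  -- the points of `U` mapping into `W`
  have hV : ∀ u : U.left, AlgSp.Points.ofPt π u ∈ W ↔
      ∃ ρ : R.left, t.left ρ = u ∧ s.left ρ ∈ Set.range g.left := by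
    intro u
    constructor
    · rintro ⟨x', hx'⟩
      obtain ⟨u', rfl⟩ := (AlgSp.Points.schemeHomeo U').surjective x'
      have e : AlgSp.Points.map π (AlgSp.Points.schemeHomeo U (g.left u')) =
          AlgSp.Points.map π (AlgSp.Points.schemeHomeo U u) := by
        rw [← AlgSp.Points.map_yon_map_apply, ← AlgSp.Points.map_comp, hx',
          AlgSp.Points.ofPt_eq_map_ofScheme]
        rfl
      obtain ⟨p, hp1, hp2⟩ := Groth.Agent.S10175.exists_point_of_isPullback hk _ _ e
      obtain ⟨ρ, rfl⟩ := (AlgSp.Points.schemeHomeo R).surjective p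
      rw [AlgSp.Points.map_yon_map_apply] at hp1 hp2
      exact ⟨ρ, (AlgSp.Points.schemeHomeo U).injective hp2, u',
        ((AlgSp.Points.schemeHomeo U).injective hp1).symm⟩
    · rintro ⟨ρ, rfl, u', hu'⟩
      refine ⟨AlgSp.Points.schemeHomeo U' u', ?_⟩
      rw [AlgSp.Points.map_comp, AlgSp.Points.map_yon_map_apply, hu',
        ← AlgSp.Points.map_yon_map_apply s, ← AlgSp.Points.map_comp, hk.w, AlgSp.Points.map_comp,
        AlgSp.Points.map_yon_map_apply, AlgSp.Points.ofPt_eq_map_ofScheme]
      rfl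
  have hVopen : IsOpen {u : U.left | AlgSp.Points.ofPt π u ∈ W} := by
    have h1 : {u : U.left | AlgSp.Points.ofPt π u ∈ W} =
        t.left '' (s.left ⁻¹' Set.range g.left) := by
      ext u
      rw [Set.mem_setOf_eq, hV u]
      constructor
      · rintro ⟨ρ, h1, h2⟩
        exact ⟨ρ, h2, h1⟩
      · rintro ⟨ρ, h2, h1⟩
        exact ⟨ρ, h1, h2⟩
    rw [h1]
    exact t.left.isOpenMap _ (g.left.isOpenMap.isOpen_range.preimage s.left.continuous)
  have hWopen : IsOpen W := by
    rw [AlgSp.Points.isOpen_iff]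
    intro T x
    rw [isOpen_iff_forall_mem_open]
    intro t₀ ht₀
    obtain ⟨Rc, hRc, hlift⟩ := Groth.Agent.S9884.exists_fppf_lift π x
    obtain ⟨hRs, hRp⟩ := (Groth.Agent.S14276.mem_precoverage_iff').1 hRc
    obtain ⟨Y, γ, hγ, y₀, hy₀⟩ := hRs t₀
    obtain ⟨d, hd⟩ := hlift γ hγ
    obtain ⟨a, rfl⟩ := (AlgSp.yon S).map_surjective d
    haveI : Flat γ := (hRp γ hγ).1
    haveI : LocallyOfFinitePresentation γ := (hRp γ hγ).2
    have key : ∀ y : Y, AlgSp.Points.ofPt x (γ y) = AlgSp.Points.ofPt π (a.left y) := by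
      intro y
      rw [← Groth.Agent.S10509.ofPt_yon_map_comp a π y, hd,
        Groth.Agent.S10509.ofPt_yon_map_comp]
      rfl
    refine ⟨γ '' (a.left ⁻¹' {u : U.left | AlgSp.Points.ofPt π u ∈ W}), ?_,
      γ.isOpenMap _ (hVopen.preimage a.left.continuous), ⟨y₀, ?_, hy₀⟩⟩
    · rintro _ ⟨y, hy, rfl⟩
      show AlgSp.Points.ofPt x (γ y) ∈ W
      rw [key]
      exact hy
    · show AlgSp.Points.ofPt π (a.left y₀) ∈ W
      rw [← key, hy₀]
      exact ht₀
  have hincl := OpenSub.repWith_incl hWopen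
  obtain ⟨q, hq⟩ := (OpenSub.factor_iff W ((AlgSp.yon S).map g ≫ π)).2 (fun u' =>
    ⟨AlgSp.Points.schemeHomeo U' u', by rw [AlgSp.Points.ofPt_eq_map_ofScheme]; rfl⟩)
  -- the kernel pair of `h_{U'} ⟶ F`
  have hw'' : (AlgSp.yon S).map s' ≫ (AlgSp.yon S).map g ≫ π =
      (AlgSp.yon S).map t' ≫ (AlgSp.yon S).map g ≫ π := by
    rw [← Category.assoc, ← Category.assoc, ← Functor.map_comp, ← Functor.map_comp, hss, hts,
      Functor.map_comp, Functor.map_comp, Category.assoc, Category.assoc, hk.w]
  have hk'' : IsPullback ((AlgSp.yon S).map s') ((AlgSp.yon S).map t')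
      ((AlgSp.yon S).map g ≫ π) ((AlgSp.yon S).map g ≫ π) := by
    refine isPullback_of_yon hw'' (fun T b c hbc => ?_)
    obtain ⟨u₁, rfl⟩ := (AlgSp.yon S).map_surjective b
    obtain ⟨u₂, rfl⟩ := (AlgSp.yon S).map_surjective c
    have hbc' : (AlgSp.yon S).map (u₁ ≫ g) ≫ π = (AlgSp.yon S).map (u₂ ≫ g) ≫ π := by
      rw [Functor.map_comp, Functor.map_comp, Category.assoc, Category.assoc]
      exact hbc
    obtain ⟨ρ₀, hρ₀⟩ := (AlgSp.yon S).map_surjective (hk.lift _ _ hbc')
    have hρs : ρ₀ ≫ s = u₁ ≫ g := by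
      apply (AlgSp.yon S).map_injective
      rw [Functor.map_comp, hρ₀, hk.lift_fst]
    have hρt : ρ₀ ≫ t = u₂ ≫ g := by
      apply (AlgSp.yon S).map_injective
      rw [Functor.map_comp, hρ₀, hk.lift_snd]
    have hcond : prod.lift u₂ u₁ ≫ prod.map g g = ρ₀ ≫ prod.lift t s := by
      apply Limits.prod.hom_ext
      · simp only [Category.assoc, prod.map_fst, prod.lift_fst_assoc, prod.lift_fst, hρt]
      · simp only [Category.assoc, prod.map_snd, prod.lift_snd_assoc, prod.lift_snd, hρs]
    have hr1 : hsq.lift _ _ hcond ≫ prod.lift t' s' = prod.lift u₂ u₁ := hsq.lift_fst _ _ _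
    have hr't : hsq.lift _ _ hcond ≫ t' = u₂ := by
      have := congrArg (fun m => m ≫ prod.fst) hr1
      simpa only [Category.assoc, prod.lift_fst] using this
    have hr's : hsq.lift _ _ hcond ≫ s' = u₁ := by
      have := congrArg (fun m => m ≫ prod.snd) hr1
      simpa only [Category.assoc, prod.lift_snd] using this
    refine ⟨(AlgSp.yon S).map (hsq.lift _ _ hcond), ⟨?_, ?_⟩, ?_⟩
    · rw [← Functor.map_comp, hr's]
    · rw [← Functor.map_comp, hr't]
    · rintro a' ⟨ha1, ha2⟩
      obtain ⟨r'', rfl⟩ := (AlgSp.yon S).map_surjective a'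
      rw [← Functor.map_comp] at ha1 ha2
      have h1 : r'' ≫ s' = u₁ := (AlgSp.yon S).map_injective ha1
      have h2 : r'' ≫ t' = u₂ := (AlgSp.yon S).map_injective ha2
      congr 1
      apply hsq.hom_ext
      · rw [hr1]
        apply Limits.prod.hom_ext
        · rw [Category.assoc, prod.lift_fst, prod.lift_fst, h2]
        · rw [Category.assoc, prod.lift_snd, prod.lift_snd, h1]
      · apply hinj
        · rw [Category.assoc, ← hts, ← Category.assoc, h2, hsq.lift_snd, hρt]
        · rw [Category.assoc, ← hss, ← Category.assoc, h1, hsq.lift_snd, hρs]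
  have hkq : IsPullback ((AlgSp.yon S).map s') ((AlgSp.yon S).map t') q q := by
    have h1 : IsKernelPair (q ≫ OpenSub.incl F W) ((AlgSp.yon S).map s') ((AlgSp.yon S).map t') := by
      rw [hq]
      exact hk''
    exact IsKernelPair.cancel_right_of_mono h1
  -- `q` is an epimorphism
  have hepi : Epi q := by
    have sqV := hincl.rep.isPullback π
    haveI : IsOpenImmersion (hincl.rep.snd π).left := hincl.property_snd π
    haveI : Epi (hincl.rep.fst π) := Groth.Agent.Lib.Helper9.epi_of_isPullback_sheaf _ sqV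
    let Z : Over S := Over.mk (pullback.fst g.left s.left ≫ U'.hom)
    let pr₁ : Z ⟶ U' := CategoryTheory.Over.homMk (pullback.fst g.left s.left)
    let pr₂ : Z ⟶ R := CategoryTheory.Over.homMk (pullback.snd g.left s.left) (by
      show pullback.snd g.left s.left ≫ R.hom = pullback.fst g.left s.left ≫ U'.hom
      rw [← Over.w s, ← Over.w g, ← Category.assoc, ← Category.assoc, pullback.condition])
    have hpr : pr₁ ≫ g = pr₂ ≫ s := by
      apply Over.OverMorphism.ext
      exact pullback.condition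
    have hcond : ((AlgSp.yon S).map pr₁ ≫ q) ≫ OpenSub.incl F W =
        (AlgSp.yon S).map (pr₂ ≫ t) ≫ π := by
      rw [Category.assoc, hq, ← Category.assoc, ← Functor.map_comp, hpr, Functor.map_comp,
        Functor.map_comp, Category.assoc, Category.assoc, hk.w]
    obtain ⟨τ', hτ'⟩ := (AlgSp.yon S).map_surjective (sqV.lift _ _ hcond)
    have hτ'1 : τ' ≫ hincl.rep.snd π = pr₂ ≫ t := by
      apply (AlgSp.yon S).map_injective
      rw [Functor.map_comp, hτ', sqV.lift_snd]
    have hτ'2 : (AlgSp.yon S).map τ' ≫ hincl.rep.fst π = (AlgSp.yon S).map pr₁ ≫ q := by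
      rw [hτ', sqV.lift_fst]
    have hτl : τ'.left ≫ (hincl.rep.snd π).left = pullback.snd g.left s.left ≫ t.left := by
      rw [← Over.comp_left, hτ'1]
      rfl
    haveI : Flat τ'.left := by
      refine MorphismProperty.of_postcomp (W := @Flat) (W' := @IsOpenImmersion) τ'.left
        (hincl.rep.snd π).left inferInstance ?_
      rw [hτl]
      infer_instance
    haveI : LocallyOfFinitePresentation τ'.left := by
      refine MorphismProperty.of_postcomp (W := @LocallyOfFinitePresentation)
        (W' := @IsOpenImmersion) τ'.left (hincl.rep.snd π).left inferInstance ?_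
      rw [hτl]
      infer_instance
    haveI : Surjective τ'.left := by
      constructor
      intro v
      have hv : AlgSp.Points.ofPt π ((hincl.rep.snd π).left v) ∈ W := by
        have h1 : AlgSp.Points.ofPt π ((hincl.rep.snd π).left v) =
            AlgSp.Points.map (OpenSub.incl F W) (AlgSp.Points.ofPt (hincl.rep.fst π) v) := by
          rw [AlgSp.Points.map_ofPt, sqV.w, Groth.Agent.S10509.ofPt_yon_map_comp]
        rw [h1]
        exact (OpenSub.range_map_incl W).subset ⟨_, rfl⟩
      obtain ⟨ρ, hρ1, u', hu'⟩ := (hV _).1 hv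
      obtain ⟨z, hz1, hz2⟩ := Scheme.Pullback.exists_preimage_pullback
        (f := g.left) (g := s.left) u' ρ hu'
      refine ⟨z, ?_⟩
      apply (hincl.rep.snd π).left.injective
      rw [← Scheme.Hom.comp_apply, hτl, Scheme.Hom.comp_apply, hz2, hρ1]
    haveI := epi_yon_map τ'
    haveI : Epi ((AlgSp.yon S).map pr₁ ≫ q) := by
      rw [← hτ'2]
      exact epi_comp _ _
    exact epi_of_epi ((AlgSp.yon S).map pr₁) q
  exact ⟨OpenSub.obj F W, OpenSub.incl F W, q, hincl, inferInstance, hq, hepi, hkq⟩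

end Groth.Agent.Lib.H5bQuotOpen
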