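import Mathlib
import Groth.Prelude.Def_Desc
import Groth.Prelude.Def_AlgSp
import Groth.Agent.S13210

/-!
# The descent datum on a scheme representing the pullback of a sheaf to a cover (helper5)

Setting: `pT : T' ⟶ T` in `Over S`, a sheaf `F'` with `c : F' ⟶ h_T`, and a pullback square of
sheaves exhibiting `h_{W'}` as `F' ×_{h_T} h_{T'}`, with `g' : W' ⟶ T'`.  Then `W'.left` over
`T'.left` carries a canonical descent datum relative to `pT.left` (`sheafDD`).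
-/

set_option autoImplicit false
set_option linter.unusedSectionVars false
set_option linter.style.haveILetI false
universe u

namespace Groth.Agent.Lib.H5bSpDesc

open CategoryTheory CategoryTheory.Limits AlgebraicGeometry Desc AlgSp Opposite

variable {S : Scheme.{u}} {T T' W' : Over S} {pT : T' ⟶ T} {F' : AlgSp.Sp S}
  {c : F' ⟶ (yon S).obj T} {g' : W' ⟶ T'} {σ : (yon S).obj W' ⟶ F'}
  (sq : IsPullback σ ((yon S).map g') c ((yon S).map pT))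

include sq in
lemma tw_cond {Z : Over S} (t : Z ⟶ W') (x₁ : Z ⟶ T') (h : t ≫ g' ≫ pT = x₁ ≫ pT) :
    ((yon S).map t ≫ σ) ≫ c = (yon S).map x₁ ≫ (yon S).map pT := by
  rw [Category.assoc, sq.w, ← Functor.map_comp, ← Functor.map_comp, ← Functor.map_comp, h]

/-- the twisted point. -/
noncomputable def tw {Z : Over S} (t : Z ⟶ W') (x₁ : Z ⟶ T') (h : t ≫ g' ≫ pT = x₁ ≫ pT) :
    Z ⟶ W' :=
  (yon S).preimage (sq.lift ((yon S).map t ≫ σ) ((yon S).map x₁) (tw_cond sq t x₁ h))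

lemma tw_g' {Z : Over S} (t : Z ⟶ W') (x₁ : Z ⟶ T') (h : t ≫ g' ≫ pT = x₁ ≫ pT) :
    tw sq t x₁ h ≫ g' = x₁ := by
  apply (yon S).map_injective
  rw [Functor.map_comp, tw, Functor.map_preimage, sq.lift_snd]

lemma yon_tw_σ {Z : Over S} (t : Z ⟶ W') (x₁ : Z ⟶ T') (h : t ≫ g' ≫ pT = x₁ ≫ pT) :
    (yon S).map (tw sq t x₁ h) ≫ σ = (yon S).map t ≫ σ := by
  rw [tw, Functor.map_preimage, sq.lift_fst]

include sq in
lemma eq_of_σ_g' {Z : Over S} {t t' : Z ⟶ W'} (h1 : t ≫ g' = t' ≫ g')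
    (h2 : (yon S).map t ≫ σ = (yon S).map t' ≫ σ) : t = t' := by
  apply (yon S).map_injective
  apply sq.hom_ext h2
  rw [← Functor.map_comp, ← Functor.map_comp, h1]

lemma tw_unique {Z : Over S} (t : Z ⟶ W') (x₁ : Z ⟶ T') (h : t ≫ g' ≫ pT = x₁ ≫ pT)
    (t₁ : Z ⟶ W') (h1 : t₁ ≫ g' = x₁) (h2 : (yon S).map t₁ ≫ σ = (yon S).map t ≫ σ) :
    t₁ = tw sq t x₁ h :=
  eq_of_σ_g' sq (h1.trans (tw_g' sq t x₁ h).symm) (h2.trans (yon_tw_σ sq t x₁ h).symm)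

/-! ### scheme-level version with an explicit structure morphism -/

/-- `t` and `t₁` have the same image in `F'`. -/
def SameImg (σ : (yon S).obj W' ⟶ F') {Z : Scheme.{u}} (s : Z ⟶ S) (t t₁ : Z ⟶ W'.left)
    (ht : t ≫ W'.hom = s) (ht₁ : t₁ ≫ W'.hom = s) : Prop :=
  (yon S).map (Over.homMk t ht : Over.mk s ⟶ W') ≫ σ =
    (yon S).map (Over.homMk t₁ ht₁ : Over.mk s ⟶ W') ≫ σ

lemma SameImg.refl {Z : Scheme.{u}} (s : Z ⟶ S) (t : Z ⟶ W'.left) (ht : t ≫ W'.hom = s) :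
    SameImg σ s t t ht ht := rfl

lemma SameImg.symm {Z : Scheme.{u}} {s : Z ⟶ S} {t t₁ : Z ⟶ W'.left} {ht : t ≫ W'.hom = s}
    {ht₁ : t₁ ≫ W'.hom = s} (h : SameImg σ s t t₁ ht ht₁) : SameImg σ s t₁ t ht₁ ht := Eq.symm h

lemma SameImg.trans {Z : Scheme.{u}} {s : Z ⟶ S} {t t₁ t₂ : Z ⟶ W'.left} {ht : t ≫ W'.hom = s}
    {ht₁ : t₁ ≫ W'.hom = s} {ht₂ : t₂ ≫ W'.hom = s} (h : SameImg σ s t t₁ ht ht₁)
    (h' : SameImg σ s t₁ t₂ ht₁ ht₂) : SameImg σ s t t₂ ht ht₂ := Eq.trans h h'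

lemma SameImg.of_eq {Z : Scheme.{u}} {s : Z ⟶ S} {t t₁ : Z ⟶ W'.left} (e : t = t₁)
    (ht : t ≫ W'.hom = s) (ht₁ : t₁ ≫ W'.hom = s) : SameImg σ s t t₁ ht ht₁ := by
  subst e
  rfl

lemma SameImg.congr_s {Z : Scheme.{u}} {s s' : Z ⟶ S} (e : s = s') {t t₁ : Z ⟶ W'.left}
    {ht : t ≫ W'.hom = s} {ht₁ : t₁ ≫ W'.hom = s} (h : SameImg σ s t t₁ ht ht₁) :
    SameImg σ s' t t₁ (ht.trans e) (ht₁.trans e) := by
  subst e
  exact h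

lemma SameImg.precomp {Z Z' : Scheme.{u}} (k : Z' ⟶ Z) {s : Z ⟶ S} {t t₁ : Z ⟶ W'.left}
    {ht : t ≫ W'.hom = s} {ht₁ : t₁ ≫ W'.hom = s} (h : SameImg σ s t t₁ ht ht₁) :
    SameImg σ (k ≫ s) (k ≫ t) (k ≫ t₁) (by rw [Category.assoc, ht]) (by rw [Category.assoc, ht₁]) := by
  let K : Over.mk (k ≫ s) ⟶ Over.mk s := Over.homMk k rfl
  have hkt : (k ≫ t) ≫ W'.hom = k ≫ s := by rw [Category.assoc, ht]
  have hkt₁ : (k ≫ t₁) ≫ W'.hom = k ≫ s := by rw [Category.assoc, ht₁]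
  have e1 : (Over.homMk (k ≫ t) hkt : Over.mk (k ≫ s) ⟶ W') = K ≫ Over.homMk t ht := by
    ext
    rfl
  have e2 : (Over.homMk (k ≫ t₁) hkt₁ : Over.mk (k ≫ s) ⟶ W') = K ≫ Over.homMk t₁ ht₁ := by
    ext
    rfl
  change (yon S).map (Over.homMk (k ≫ t) hkt : Over.mk (k ≫ s) ⟶ W') ≫ σ =
    (yon S).map (Over.homMk (k ≫ t₁) hkt₁ : Over.mk (k ≫ s) ⟶ W') ≫ σ
  rw [e1, e2, Functor.map_comp, Functor.map_comp, Category.assoc, Category.assoc]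
  exact congrArg (fun m => (yon S).map K ≫ m) h

include sq in
lemma eq_of_sameImg {Z : Scheme.{u}} {s : Z ⟶ S} {t t₁ : Z ⟶ W'.left} {ht : t ≫ W'.hom = s}
    {ht₁ : t₁ ≫ W'.hom = s} (h : SameImg σ s t t₁ ht ht₁) (hg : t ≫ g'.left = t₁ ≫ g'.left) :
    t = t₁ := by
  have := eq_of_σ_g' sq (t := (Over.homMk t ht : Over.mk s ⟶ W')) (t' := Over.homMk t₁ ht₁)
    (by ext; exact hg) h
  exact congrArg (fun m => m.left) this

/-- the twisted point, on schemes. -/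
noncomputable def twL {Z : Scheme.{u}} (s : Z ⟶ S) (t : Z ⟶ W'.left) (ht : t ≫ W'.hom = s)
    (x₁ : Z ⟶ T'.left) (hx₁ : x₁ ≫ T'.hom = s) (h : t ≫ g'.left ≫ pT.left = x₁ ≫ pT.left) :
    Z ⟶ W'.left :=
  (tw sq (Z := Over.mk s) (Over.homMk t ht) (Over.homMk x₁ hx₁) (by ext; exact h)).left

lemma twL_hom {Z : Scheme.{u}} (s : Z ⟶ S) (t : Z ⟶ W'.left) (ht : t ≫ W'.hom = s)
    (x₁ : Z ⟶ T'.left) (hx₁ : x₁ ≫ T'.hom = s) (h : t ≫ g'.left ≫ pT.left = x₁ ≫ pT.left) :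
    twL sq s t ht x₁ hx₁ h ≫ W'.hom = s :=
  Over.w (tw sq (Z := Over.mk s) (Over.homMk t ht) (Over.homMk x₁ hx₁) (by ext; exact h))

lemma twL_g' {Z : Scheme.{u}} (s : Z ⟶ S) (t : Z ⟶ W'.left) (ht : t ≫ W'.hom = s)
    (x₁ : Z ⟶ T'.left) (hx₁ : x₁ ≫ T'.hom = s) (h : t ≫ g'.left ≫ pT.left = x₁ ≫ pT.left) :
    twL sq s t ht x₁ hx₁ h ≫ g'.left = x₁ :=
  congrArg (fun m => m.left)
    (tw_g' sq (Z := Over.mk s) (Over.homMk t ht) (Over.homMk x₁ hx₁) (by ext; exact h))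

lemma twL_sameImg {Z : Scheme.{u}} (s : Z ⟶ S) (t : Z ⟶ W'.left) (ht : t ≫ W'.hom = s)
    (x₁ : Z ⟶ T'.left) (hx₁ : x₁ ≫ T'.hom = s) (h : t ≫ g'.left ≫ pT.left = x₁ ≫ pT.left) :
    SameImg σ s (twL sq s t ht x₁ hx₁ h) t (twL_hom sq s t ht x₁ hx₁ h) ht := by
  have := yon_tw_σ sq (Z := Over.mk s) (Over.homMk t ht) (Over.homMk x₁ hx₁) (by ext; exact h)
  refine Eq.trans ?_ this
  congr 2

lemma twL_unique {Z : Scheme.{u}} (s : Z ⟶ S) (t : Z ⟶ W'.left) (ht : t ≫ W'.hom = s)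
    (x₁ : Z ⟶ T'.left) (hx₁ : x₁ ≫ T'.hom = s) (h : t ≫ g'.left ≫ pT.left = x₁ ≫ pT.left)
    (t₁ : Z ⟶ W'.left) (ht₁ : t₁ ≫ W'.hom = s) (h1 : t₁ ≫ g'.left = x₁)
    (h2 : SameImg σ s t₁ t ht₁ ht) : t₁ = twL sq s t ht x₁ hx₁ h :=
  eq_of_sameImg sq (h2.trans (twL_sameImg sq s t ht x₁ hx₁ h).symm)
    (h1.trans (twL_g' sq s t ht x₁ hx₁ h).symm)

end Groth.Agent.Lib.H5bSpDesc
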