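import Mathlib
import Groth.Prelude.Def_Desc
import Groth.Prelude.Def_AlgSp
import Groth.Agent.Lib.H5bSpDescA

/-!
# The descent datum on a scheme representing the pullback of a sheaf to a cover, II (helper5)

`sheafDD sq : SchDD pT.left` with object `g'.left : W'.left ⟶ T'.left`.
-/

set_option autoImplicit false
set_option linter.unusedSectionVars false
set_option linter.style.haveILetI false
universe u

namespace Groth.Agent.Lib.H5bSpDesc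

open CategoryTheory CategoryTheory.Limits AlgebraicGeometry Desc AlgSp Opposite

variable {S : Scheme.{u}} {T T' W' : Over S} {pT : T' ⟶ T} {F' : AlgSp.Sp S}
  {c : F' ⟶ (yon S).obj T} {g' : W' ⟶ T'} {σ : (yon S).obj W' ⟶ F'}
  (sq : IsPullback σ ((yon S).map g') c ((yon S).map pT))

lemma lifts_hom {Z : Scheme.{u}} {x₀ : Z ⟶ T'.left} (v : Lifts (Over.mk g'.left) x₀) :
    v.1 ≫ W'.hom = x₀ ≫ T'.hom := by
  have : v.1 ≫ g'.left = x₀ := v.2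
  calc v.1 ≫ W'.hom = v.1 ≫ g'.left ≫ T'.hom := by rw [Over.w g']
    _ = x₀ ≫ T'.hom := by rw [← Category.assoc, this]

lemma hom_eq_of_compat {Z : Scheme.{u}} {x₀ x₁ : Z ⟶ T'.left}
    (h : x₀ ≫ pT.left = x₁ ≫ pT.left) : x₁ ≫ T'.hom = x₀ ≫ T'.hom := by
  rw [← Over.w pT, ← Category.assoc, ← h, Category.assoc]

lemma lifts_compat {Z : Scheme.{u}} {x₀ x₁ : Z ⟶ T'.left} (h : x₀ ≫ pT.left = x₁ ≫ pT.left)
    (v : Lifts (Over.mk g'.left) x₀) : v.1 ≫ g'.left ≫ pT.left = x₁ ≫ pT.left := by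
  have : v.1 ≫ g'.left = x₀ := v.2
  rw [← Category.assoc, this, h]

/-- the gluing map. -/
noncomputable def sheafMap {Z : Scheme.{u}} (x₀ x₁ : Z ⟶ T'.left)
    (h : x₀ ≫ pT.left = x₁ ≫ pT.left) (v : Lifts (Over.mk g'.left) x₀) :
    Lifts (Over.mk g'.left) x₁ :=
  ⟨twL sq (x₀ ≫ T'.hom) v.1 (lifts_hom v) x₁ (hom_eq_of_compat h) (lifts_compat h v),
    twL_g' sq (x₀ ≫ T'.hom) v.1 (lifts_hom v) x₁ (hom_eq_of_compat h) (lifts_compat h v)⟩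

lemma sheafMap_sameImg {Z : Scheme.{u}} (x₀ x₁ : Z ⟶ T'.left)
    (h : x₀ ≫ pT.left = x₁ ≫ pT.left) (v : Lifts (Over.mk g'.left) x₀) :
    SameImg σ (x₀ ≫ T'.hom) (sheafMap sq x₀ x₁ h v).1 v.1
      ((lifts_hom (sheafMap sq x₀ x₁ h v)).trans (hom_eq_of_compat h)) (lifts_hom v) :=
  twL_sameImg sq (x₀ ≫ T'.hom) v.1 (lifts_hom v) x₁ (hom_eq_of_compat h) (lifts_compat h v)

lemma sheafMap_unique {Z : Scheme.{u}} (x₀ x₁ : Z ⟶ T'.left)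
    (h : x₀ ≫ pT.left = x₁ ≫ pT.left) (v : Lifts (Over.mk g'.left) x₀)
    (w : Lifts (Over.mk g'.left) x₁) {s : Z ⟶ S} (hs : x₀ ≫ T'.hom = s)
    (hw : SameImg σ s w.1 v.1 ((lifts_hom w).trans ((hom_eq_of_compat h).trans hs))
      ((lifts_hom v).trans hs)) : w = sheafMap sq x₀ x₁ h v := by
  subst hs
  apply Subtype.ext
  exact twL_unique sq (x₀ ≫ T'.hom) v.1 (lifts_hom v) x₁ (hom_eq_of_compat h) (lifts_compat h v)
    w.1 _ w.2 hw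

lemma sheafMap_sheafMap {Z : Scheme.{u}} (x₀ x₁ : Z ⟶ T'.left)
    (h : x₀ ≫ pT.left = x₁ ≫ pT.left) (v : Lifts (Over.mk g'.left) x₀) :
    sheafMap sq x₁ x₀ h.symm (sheafMap sq x₀ x₁ h v) = v := by
  symm
  exact sheafMap_unique sq x₁ x₀ h.symm (sheafMap sq x₀ x₁ h v) v
    (hom_eq_of_compat h) (sheafMap_sameImg sq x₀ x₁ h v).symm

lemma sheafMap_self {Z : Scheme.{u}} (x : Z ⟶ T'.left) (v : Lifts (Over.mk g'.left) x) :
    sheafMap sq x x rfl v = v := by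
  symm
  exact sheafMap_unique sq x x rfl v v rfl (SameImg.refl _ _ _)

lemma sheafMap_comp {Z : Scheme.{u}} (x₀ x₁ x₂ : Z ⟶ T'.left)
    (h₀₁ : x₀ ≫ pT.left = x₁ ≫ pT.left) (h₁₂ : x₁ ≫ pT.left = x₂ ≫ pT.left)
    (v : Lifts (Over.mk g'.left) x₀) :
    sheafMap sq x₁ x₂ h₁₂ (sheafMap sq x₀ x₁ h₀₁ v) = sheafMap sq x₀ x₂ (h₀₁.trans h₁₂) v := by
  refine sheafMap_unique sq x₀ x₂ (h₀₁.trans h₁₂) v _ rfl ?_
  have h1 := sheafMap_sameImg sq x₁ x₂ h₁₂ (sheafMap sq x₀ x₁ h₀₁ v)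
  have h2 := sheafMap_sameImg sq x₀ x₁ h₀₁ v
  exact (h1.congr_s (hom_eq_of_compat h₀₁)).trans h2

lemma sheafMap_natural {Z Z' : Scheme.{u}} (k : Z' ⟶ Z) (x₀ x₁ : Z ⟶ T'.left)
    (h : x₀ ≫ pT.left = x₁ ≫ pT.left) (h' : (k ≫ x₀) ≫ pT.left = (k ≫ x₁) ≫ pT.left)
    (v : Lifts (Over.mk g'.left) x₀) (v' : Lifts (Over.mk g'.left) (k ≫ x₀))
    (hv' : v'.1 = k ≫ v.1) :
    (sheafMap sq (k ≫ x₀) (k ≫ x₁) h' v').1 = k ≫ (sheafMap sq x₀ x₁ h v).1 := by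
  have hw : (k ≫ (sheafMap sq x₀ x₁ h v).1) ≫ g'.left = k ≫ x₁ := by
    rw [Category.assoc]
    exact congrArg (fun m => k ≫ m) (sheafMap sq x₀ x₁ h v).2
  have h1 := (sheafMap_sameImg sq x₀ x₁ h v).precomp k
  have hkv : (k ≫ v.1) ≫ W'.hom = k ≫ x₀ ≫ T'.hom := by rw [Category.assoc, lifts_hom v]
  have h2 : SameImg σ (k ≫ x₀ ≫ T'.hom) (k ≫ v.1) v'.1 hkv
      ((lifts_hom v').trans (Category.assoc _ _ _)) :=
    SameImg.of_eq (σ := σ) hv'.symm hkv ((lifts_hom v').trans (Category.assoc _ _ _))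
  have h3 := h1.trans h2
  have := sheafMap_unique sq (k ≫ x₀) (k ≫ x₁) h' v' ⟨k ≫ (sheafMap sq x₀ x₁ h v).1, hw⟩
    (Category.assoc k x₀ T'.hom) h3
  exact (congrArg Subtype.val this).symm

/-- the descent datum. -/
noncomputable def sheafDD : SchDD pT.left where
  obj := Over.mk g'.left
  φ _ x₀ x₁ h :=
    { toFun := sheafMap sq x₀ x₁ h
      invFun := sheafMap sq x₁ x₀ h.symm
      left_inv := fun v => sheafMap_sheafMap sq x₀ x₁ h v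
      right_inv := fun v => sheafMap_sheafMap sq x₁ x₀ h.symm v }
  φ_natural _ _ k x₀ x₁ h h' v v' hv' := sheafMap_natural sq k x₀ x₁ h h' v v' hv'
  φ_self _ x v := sheafMap_self sq x v
  φ_comp _ x₀ x₁ x₂ h₀₁ h₁₂ v := sheafMap_comp sq x₀ x₁ x₂ h₀₁ h₁₂ v

lemma sheafDD_obj : (sheafDD sq).obj = Over.mk g'.left := rfl

/-- characterization of the gluing bijections of `sheafDD`. -/
lemma sheafDD_φ_sameImg {Z : Scheme.{u}} (x₀ x₁ : Z ⟶ T'.left)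
    (h : x₀ ≫ pT.left = x₁ ≫ pT.left) (v : Lifts (sheafDD sq).obj x₀) :
    SameImg σ (x₀ ≫ T'.hom) ((sheafDD sq).φ x₀ x₁ h v).1 v.1
      ((lifts_hom (sheafMap sq x₀ x₁ h v)).trans (hom_eq_of_compat h)) (lifts_hom v) :=
  sheafMap_sameImg sq x₀ x₁ h v

end Groth.Agent.Lib.H5bSpDesc
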