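import Mathlib
import Groth.Prelude.Def_Desc
import Groth.Prelude.Def_AlgSp
import Groth.Agent.Lib.H5bSpDescB
import Groth.Agent.Lib.H5bQuotOpen
import Groth.Agent.Lib.H5bJointEpi

/-!
# Descending a sheaf which is representable after an fppf base change (helper5)

Setting of `H5bSpDescA/B`: `pT : T' ⟶ T` in `Over S` an fppf covering morphism, a sheaf `F'` with
`c : F' ⟶ h_T`, a pullback square exhibiting `h_{W'}` as `F' ×_{h_T} h_{T'}`.  If the descent datum
`sheafDD sq` on `W'.left` over `T'.left` is effective, then `F'` is representable by a scheme over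
`T` (`exists_rep_of_iso`).
-/

set_option autoImplicit false
set_option linter.unusedSectionVars false
set_option linter.style.haveILetI false
universe u

namespace Groth.Agent.Lib.H5bSpDesc

open CategoryTheory CategoryTheory.Limits AlgebraicGeometry Desc AlgSp Opposite

variable {S : Scheme.{u}} {T T' W' : Over S} {pT : T' ⟶ T} {F' : AlgSp.Sp S}
  {c : F' ⟶ (yon S).obj T} {g' : W' ⟶ T'} {σ : (yon S).obj W' ⟶ F'}
  (sq : IsPullback σ ((yon S).map g') c ((yon S).map pT))
  (W₀ : Over T.left) (e : (toDD pT.left).obj W₀ ≅ sheafDD sq)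

/-- the map `T' ×_T W₀ ⟶ W'`. -/
noncomputable def el : pullback pT.left W₀.hom ⟶ W'.left := e.hom.hom.left

/-- its inverse. -/
noncomputable def eli : W'.left ⟶ pullback pT.left W₀.hom := e.inv.hom.left

lemma el_g' : el sq W₀ e ≫ g'.left = pullback.fst pT.left W₀.hom := Over.w e.hom.hom

lemma eli_fst : eli sq W₀ e ≫ pullback.fst pT.left W₀.hom = g'.left := Over.w e.inv.hom

lemma el_eli : el sq W₀ e ≫ eli sq W₀ e = 𝟙 _ :=
  congrArg (fun m => m.hom.left) e.hom_inv_id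

lemma eli_el : eli sq W₀ e ≫ el sq W₀ e = 𝟙 _ :=
  congrArg (fun m => m.hom.left) e.inv_hom_id

lemma el_hom : el sq W₀ e ≫ W'.hom =
    pullback.snd pT.left W₀.hom ≫ W₀.hom ≫ T.hom := by
  rw [← Over.w g', ← Category.assoc, el_g', ← Over.w pT, ← Category.assoc, pullback.condition,
    Category.assoc]

lemma eli_hom : eli sq W₀ e ≫ pullback.snd pT.left W₀.hom ≫ W₀.hom ≫ T.hom = W'.hom := by
  rw [← el_hom sq W₀ e, ← Category.assoc, eli_el, Category.id_comp]

lemma el_sameImg {Q : Scheme.{u}} (a b : Q ⟶ pullback pT.left W₀.hom)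
    (hab : a ≫ pullback.snd pT.left W₀.hom = b ≫ pullback.snd pT.left W₀.hom) (s : Q ⟶ S)
    (hs : a ≫ pullback.snd pT.left W₀.hom ≫ W₀.hom ≫ T.hom = s) :
    SameImg σ s (a ≫ el sq W₀ e) (b ≫ el sq W₀ e)
      (by rw [Category.assoc, el_hom, hs])
      (by rw [Category.assoc, el_hom, ← Category.assoc, ← hab, Category.assoc, hs]) := by
  set x₀ : Q ⟶ T'.left := a ≫ pullback.fst pT.left W₀.hom with hx₀
  set x₁ : Q ⟶ T'.left := b ≫ pullback.fst pT.left W₀.hom with hx₁
  have h : x₀ ≫ pT.left = x₁ ≫ pT.left := by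
    rw [hx₀, hx₁, Category.assoc, Category.assoc, pullback.condition, ← Category.assoc, hab,
      Category.assoc]
  let v : Lifts ((toDD pT.left).obj W₀).obj x₀ := ⟨a, rfl⟩
  have hw0 : (a ≫ el sq W₀ e) ≫ g'.left = x₀ := by
    rw [Category.assoc, el_g']
  let w : Lifts (sheafDD sq).obj x₀ := ⟨a ≫ el sq W₀ e, hw0⟩
  have hcomm := e.hom.comm x₀ x₁ h v w rfl
  have hcan : (((toDD pT.left).obj W₀).φ x₀ x₁ h v).1 = b := by
    apply pullback.hom_ext
    · exact (((toDD pT.left).obj W₀).φ x₀ x₁ h v).2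
    · change pullback.lift x₁ (a ≫ pullback.snd pT.left W₀.hom) _ ≫ pullback.snd pT.left W₀.hom = _
      rw [pullback.lift_snd, hab]
  have hφ : ((sheafDD sq).φ x₀ x₁ h w).1 = b ≫ el sq W₀ e := by
    rw [hcomm, hcan]
    rfl
  have hsame := sheafDD_φ_sameImg sq x₀ x₁ h w
  have hs' : x₀ ≫ T'.hom = s := by
    rw [hx₀, ← hs, ← Over.w pT, Category.assoc, ← Category.assoc (pullback.fst pT.left W₀.hom),
      pullback.condition, Category.assoc]
  have hb : (b ≫ el sq W₀ e) ≫ W'.hom = x₀ ≫ T'.hom := by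
    rw [hs', Category.assoc, el_hom, ← Category.assoc, ← hab, Category.assoc, hs]
  have h1 : SameImg σ (x₀ ≫ T'.hom) (b ≫ el sq W₀ e) ((sheafDD sq).φ x₀ x₁ h w).1 hb
      ((lifts_hom (sheafMap sq x₀ x₁ h w)).trans (hom_eq_of_compat h)) :=
    SameImg.of_eq hφ.symm _ _
  exact ((h1.trans hsame).symm).congr_s hs'

variable (pT)

/-- the descended scheme, over `S`. -/
noncomputable def Wd : Over S := Over.mk (W₀.hom ≫ T.hom)

/-- its structure morphism to `T`. -/
noncomputable def wd : Wd W₀ ⟶ T := Over.homMk W₀.hom rfl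

/-- its base change `T' ×_T W`. -/
noncomputable def Wdd : Over S := Over.mk (pullback.snd pT.left W₀.hom ≫ W₀.hom ≫ T.hom)

/-- the projection. -/
noncomputable def πd : Wdd pT W₀ ⟶ Wd W₀ := Over.homMk (pullback.snd pT.left W₀.hom) rfl

variable {pT}

/-- the comparison isomorphism `T' ×_T W ⟶ W'` in `Over S`. -/
noncomputable def εd : Wdd pT W₀ ⟶ W' := Over.homMk (el sq W₀ e) (el_hom sq W₀ e)

/-- its inverse. -/
noncomputable def εdi : W' ⟶ Wdd pT W₀ := Over.homMk (eli sq W₀ e) (eli_hom sq W₀ e)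

lemma εd_εdi : εd sq W₀ e ≫ εdi sq W₀ e = 𝟙 _ := by
  ext
  exact el_eli sq W₀ e

lemma εdi_εd : εdi sq W₀ e ≫ εd sq W₀ e = 𝟙 _ := by
  ext
  exact eli_el sq W₀ e

lemma εd_g'_pT : εd sq W₀ e ≫ g' ≫ pT = πd pT W₀ ≫ wd W₀ := by
  ext
  change el sq W₀ e ≫ g'.left ≫ pT.left = pullback.snd pT.left W₀.hom ≫ W₀.hom
  rw [← Category.assoc, el_g', pullback.condition]

lemma cond_yon {Z : Over S} (a b : Z ⟶ Wdd pT W₀) (hab : a ≫ πd pT W₀ = b ≫ πd pT W₀) :
    (yon S).map a ≫ (yon S).map (εd sq W₀ e) ≫ σ =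
      (yon S).map b ≫ (yon S).map (εd sq W₀ e) ≫ σ := by
  let al : Z.left ⟶ pullback pT.left W₀.hom := a.left
  let bl : Z.left ⟶ pullback pT.left W₀.hom := b.left
  have hab' : al ≫ pullback.snd pT.left W₀.hom = bl ≫ pullback.snd pT.left W₀.hom :=
    congrArg (fun m => m.left) hab
  have ha : al ≫ pullback.snd pT.left W₀.hom ≫ W₀.hom ≫ T.hom = Z.hom := Over.w a
  have key := el_sameImg sq W₀ e al bl hab' Z.hom ha
  have h1 : (al ≫ el sq W₀ e) ≫ W'.hom = Z.hom := by
    rw [Category.assoc, el_hom, ha]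
  have h2 : (bl ≫ el sq W₀ e) ≫ W'.hom = Z.hom := by
    rw [Category.assoc, el_hom, ← Category.assoc, ← hab', Category.assoc, ha]
  have e1 : a ≫ εd sq W₀ e = (Over.homMk (al ≫ el sq W₀ e) h1 : Over.mk Z.hom ⟶ W') := by
    ext
    rfl
  have e2 : b ≫ εd sq W₀ e = (Over.homMk (bl ≫ el sq W₀ e) h2 : Over.mk Z.hom ⟶ W') := by
    ext
    rfl
  rw [← Category.assoc, ← Category.assoc, ← Functor.map_comp, ← Functor.map_comp, e1, e2]
  exact key

lemma cond_sp {H : AlgSp.Sp S} (g₁ g₂ : H ⟶ (yon S).obj (Wdd pT W₀))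
    (h : g₁ ≫ (yon S).map (πd pT W₀) = g₂ ≫ (yon S).map (πd pT W₀)) :
    g₁ ≫ (yon S).map (εd sq W₀ e) ≫ σ = g₂ ≫ (yon S).map (εd sq W₀ e) ≫ σ := by
  apply Groth.Agent.Lib.H5bJointEpi.hom_ext_yon
  intro Z x
  obtain ⟨a, ha⟩ := (yon S).map_surjective (x ≫ g₁)
  obtain ⟨b, hb⟩ := (yon S).map_surjective (x ≫ g₂)
  have hab : a ≫ πd pT W₀ = b ≫ πd pT W₀ := by
    apply (yon S).map_injective
    rw [Functor.map_comp, Functor.map_comp, ha, hb, Category.assoc, Category.assoc, h]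
  have := cond_yon sq W₀ e a b hab
  rw [ha, hb, Category.assoc, Category.assoc] at this
  exact this

section fppf

variable [Surjective pT.left] [Flat pT.left] [LocallyOfFinitePresentation pT.left]

instance epi_πd : Epi ((yon S).map (πd pT W₀)) := by
  haveI : Surjective (πd pT W₀).left :=
    inferInstanceAs (Surjective (pullback.snd pT.left W₀.hom))
  haveI : Flat (πd pT W₀).left :=
    inferInstanceAs (Flat (pullback.snd pT.left W₀.hom))
  haveI : LocallyOfFinitePresentation (πd pT W₀).left :=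
    inferInstanceAs (LocallyOfFinitePresentation (pullback.snd pT.left W₀.hom))
  exact Groth.Agent.Lib.H5bQuotOpen.epi_yon_map _

lemma effectiveEpi_πd : EffectiveEpi ((yon S).map (πd pT W₀)) :=
  (isRegularEpi_iff_effectiveEpi _).1 (IsRegularEpiCategory.regularEpiOfEpi _)

/-- the comparison map `h_W ⟶ F'`. -/
noncomputable def τd : (yon S).obj (Wd W₀) ⟶ F' :=
  haveI := effectiveEpi_πd (pT := pT) W₀
  EffectiveEpi.desc ((yon S).map (πd pT W₀)) ((yon S).map (εd sq W₀ e) ≫ σ)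
    (fun g₁ g₂ h => cond_sp sq W₀ e g₁ g₂ h)

lemma πd_τd : (yon S).map (πd pT W₀) ≫ τd sq W₀ e = (yon S).map (εd sq W₀ e) ≫ σ := by
  haveI := effectiveEpi_πd (pT := pT) W₀
  exact EffectiveEpi.fac _ _ _

lemma τd_c : τd sq W₀ e ≫ c = (yon S).map (wd W₀) := by
  rw [← cancel_epi ((yon S).map (πd pT W₀)), ← Category.assoc, πd_τd, Category.assoc, sq.w,
    ← Functor.map_comp, ← Functor.map_comp, ← Functor.map_comp, εd_g'_pT]

/-- base change of the covering `pT` along `z`. -/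
lemma epi_yon_fst {Z : Over S} (z : Z ⟶ T) : Epi ((yon S).map (pullback.fst z pT)) := by
  have hsq : IsPullback (pullback.fst z pT).left (pullback.snd z pT).left z.left pT.left :=
    (IsPullback.of_hasPullback z pT).map (Over.forget S)
  haveI : Surjective (pullback.fst z pT).left :=
    MorphismProperty.of_isPullback (P := @Surjective) hsq.flip inferInstance
  haveI : Flat (pullback.fst z pT).left :=
    MorphismProperty.of_isPullback (P := @Flat) hsq.flip inferInstance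
  haveI : LocallyOfFinitePresentation (pullback.fst z pT).left :=
    MorphismProperty.of_isPullback (P := @LocallyOfFinitePresentation) hsq.flip inferInstance
  exact Groth.Agent.Lib.H5bQuotOpen.epi_yon_map _

lemma epi_τd : Epi (τd sq W₀ e) := by
  constructor
  intro H u v huv
  apply Groth.Agent.Lib.H5bJointEpi.hom_ext_yon
  intro Z x
  obtain ⟨z, hz⟩ := (yon S).map_surjective (x ≫ c)
  haveI := epi_yon_fst (pT := pT) z
  have hcompat : ((yon S).map (pullback.fst z pT) ≫ x) ≫ c =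
      (yon S).map (pullback.snd z pT) ≫ (yon S).map pT := by
    rw [Category.assoc, ← hz, ← Functor.map_comp, ← Functor.map_comp, pullback.condition]
  obtain ⟨t, ht⟩ := (yon S).map_surjective
    (sq.lift ((yon S).map (pullback.fst z pT) ≫ x) ((yon S).map (pullback.snd z pT)) hcompat)
  have ht1 : (yon S).map t ≫ σ = (yon S).map (pullback.fst z pT) ≫ x := by
    rw [ht, sq.lift_fst]
  have ht2 : t = (t ≫ εdi sq W₀ e) ≫ εd sq W₀ e := by
    rw [Category.assoc, εdi_εd, Category.comp_id]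
  have h3 : (yon S).map (pullback.fst z pT) ≫ x =
      (yon S).map ((t ≫ εdi sq W₀ e) ≫ πd pT W₀) ≫ τd sq W₀ e := by
    rw [← ht1, Functor.map_comp, Category.assoc, πd_τd, ← Category.assoc, ← Functor.map_comp,
      ← ht2]
  rw [← cancel_epi ((yon S).map (pullback.fst z pT))]
  calc _ = ((yon S).map (pullback.fst z pT) ≫ x) ≫ u := (Category.assoc _ _ _).symm
    _ = ((yon S).map ((t ≫ εdi sq W₀ e) ≫ πd pT W₀) ≫ τd sq W₀ e) ≫ u := by rw [h3]
    _ = ((yon S).map ((t ≫ εdi sq W₀ e) ≫ πd pT W₀) ≫ τd sq W₀ e) ≫ v := by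
      simp only [Category.assoc, huv]
    _ = ((yon S).map (pullback.fst z pT) ≫ x) ≫ v := by rw [h3]
    _ = _ := Category.assoc _ _ _

lemma mono_τd : Mono (τd sq W₀ e) := by
  constructor
  intro H y₁ y₂ hy
  apply Groth.Agent.Lib.H5bJointEpi.hom_ext_yon
  intro Z x
  obtain ⟨b₁, hb₁⟩ := (yon S).map_surjective (x ≫ y₁)
  obtain ⟨b₂, hb₂⟩ := (yon S).map_surjective (x ≫ y₂)
  rw [← hb₁, ← hb₂]
  have hb : (yon S).map b₁ ≫ τd sq W₀ e = (yon S).map b₂ ≫ τd sq W₀ e := by
    rw [hb₁, hb₂, Category.assoc, Category.assoc, hy]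
  have hz : b₁ ≫ wd W₀ = b₂ ≫ wd W₀ := by
    apply (yon S).map_injective
    rw [Functor.map_comp, Functor.map_comp, ← τd_c sq W₀ e, ← Category.assoc, ← Category.assoc, hb]
  set z : Z ⟶ T := b₁ ≫ wd W₀ with hzdef
  haveI := epi_yon_fst (pT := pT) z
  have hcond : (pullback.fst z pT).left ≫ z.left = (pullback.snd z pT).left ≫ pT.left :=
    congrArg (fun m => m.left) (pullback.condition (f := z) (g := pT))
  let b₁l : Z.left ⟶ W₀.left := b₁.left
  let b₂l : Z.left ⟶ W₀.left := b₂.left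
  have hz1 : z.left = b₁l ≫ W₀.hom := rfl
  have hz2 : z.left = b₂l ≫ W₀.hom := congrArg (fun m => m.left) hz
  have c₁ : (pullback.snd z pT).left ≫ pT.left = ((pullback.fst z pT).left ≫ b₁l) ≫ W₀.hom := by
    rw [← hcond, hz1, Category.assoc]
  have c₂ : (pullback.snd z pT).left ≫ pT.left = ((pullback.fst z pT).left ≫ b₂l) ≫ W₀.hom := by
    rw [← hcond, hz2, Category.assoc]
  have hw₁ : pullback.lift _ _ c₁ ≫ (Wdd pT W₀).hom = (pullback z pT).hom := by
    change pullback.lift _ _ c₁ ≫ pullback.snd pT.left W₀.hom ≫ W₀.hom ≫ T.hom = _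
    rw [pullback.lift_snd_assoc, Category.assoc]
    have : b₁l ≫ W₀.hom ≫ T.hom = Z.hom := Over.w b₁
    rw [this, Over.w]
  have hw₂ : pullback.lift _ _ c₂ ≫ (Wdd pT W₀).hom = (pullback z pT).hom := by
    change pullback.lift _ _ c₂ ≫ pullback.snd pT.left W₀.hom ≫ W₀.hom ≫ T.hom = _
    rw [pullback.lift_snd_assoc, Category.assoc]
    have : b₂l ≫ W₀.hom ≫ T.hom = Z.hom := Over.w b₂
    rw [this, Over.w]
  let b₁' : pullback z pT ⟶ Wdd pT W₀ := Over.homMk (pullback.lift _ _ c₁) hw₁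
  let b₂' : pullback z pT ⟶ Wdd pT W₀ := Over.homMk (pullback.lift _ _ c₂) hw₂
  have hπ₁ : b₁' ≫ πd pT W₀ = pullback.fst z pT ≫ b₁ := by
    ext
    exact pullback.lift_snd _ _ c₁
  have hπ₂ : b₂' ≫ πd pT W₀ = pullback.fst z pT ≫ b₂ := by
    ext
    exact pullback.lift_snd _ _ c₂
  have hg₁ : (b₁' ≫ εd sq W₀ e) ≫ g' = pullback.snd z pT := by
    ext
    change (pullback.lift _ _ c₁ ≫ el sq W₀ e) ≫ g'.left = _
    rw [Category.assoc, el_g', pullback.lift_fst]
  have hg₂ : (b₂' ≫ εd sq W₀ e) ≫ g' = pullback.snd z pT := by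
    ext
    change (pullback.lift _ _ c₂ ≫ el sq W₀ e) ≫ g'.left = _
    rw [Category.assoc, el_g', pullback.lift_fst]
  have hσ₁ : (yon S).map (b₁' ≫ εd sq W₀ e) ≫ σ =
      (yon S).map (pullback.fst z pT) ≫ (yon S).map b₁ ≫ τd sq W₀ e := by
    rw [Functor.map_comp, Category.assoc, ← πd_τd, ← Category.assoc, ← Functor.map_comp, hπ₁,
      Functor.map_comp, Category.assoc]
  have hσ₂ : (yon S).map (b₂' ≫ εd sq W₀ e) ≫ σ =
      (yon S).map (pullback.fst z pT) ≫ (yon S).map b₂ ≫ τd sq W₀ e := by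
    rw [Functor.map_comp, Category.assoc, ← πd_τd, ← Category.assoc, ← Functor.map_comp, hπ₂,
      Functor.map_comp, Category.assoc]
  have heq : b₁' ≫ εd sq W₀ e = b₂' ≫ εd sq W₀ e :=
    eq_of_σ_g' sq (hg₁.trans hg₂.symm) (by rw [hσ₁, hσ₂, hb])
  have heq' : b₁' = b₂' := by
    have := congrArg (fun m => m ≫ εdi sq W₀ e) heq
    simpa only [Category.assoc, εd_εdi, Category.comp_id] using this
  rw [← cancel_epi ((yon S).map (pullback.fst z pT)), ← Functor.map_comp, ← Functor.map_comp,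
    ← hπ₁, ← hπ₂, heq']

include sq e in
/-- **Descent of representability.** If the descent datum `sheafDD sq` is effective then `F'` is
representable by a scheme over `T`. -/
theorem exists_rep_of_iso :
    ∃ (W : Over S) (w : W ⟶ T) (τ : (yon S).obj W ≅ F'), τ.hom ≫ c = (yon S).map w := by
  haveI := epi_τd sq W₀ e
  haveI := mono_τd sq W₀ e
  haveI : IsIso (τd sq W₀ e) := isIso_of_mono_of_epi _
  exact ⟨Wd W₀, wd W₀, asIso (τd sq W₀ e), τd_c sq W₀ e⟩

end fppf

end Groth.Agent.Lib.H5bSpDesc
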