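import Mathlib
import Groth.Prelude.Def_Desc
import Groth.Prelude.Def_AlgSp
import Groth.Agent.Lib.H5bSpDescC
import Groth.Agent.Lib.H5bDDGenK

/-!
# Descent of representability with a property along a single fppf covering (helper5)

* `exists_rep_of_single_cover`: if the base change of `f : G ⟶ F` along `h_{T'} ⟶ h_T ⟶ F`, for
  `T' ⟶ T` an fppf covering morphism of schemes, is a scheme `W'` with `W' ⟶ T'` in `P`, descent
  data with structure morphism in `P` are effective along fppf covering morphisms and `P` descends
  along them, then the base change of `f` along `h_T ⟶ F` is a scheme `W` with `W ⟶ T` in `P`;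
* `exists_rep_of_single_cover_immersion`: the case of immersions;
* `exists_open_image_factor`: a flat morphism locally of finite presentation factors as a
  surjective such morphism followed by the open immersion of its image.
-/

set_option autoImplicit false
set_option linter.unusedSectionVars false
set_option linter.style.haveILetI false
universe u

namespace Groth.Agent.Lib.H5bFppfBase

open CategoryTheory CategoryTheory.Limits AlgebraicGeometry Desc AlgSp Opposite
open Groth.Agent.Lib.H5bSpDesc

/-- descent of representability together with a property along a single fppf covering. -/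
theorem exists_rep_of_single_cover {S : Scheme.{u}} (P : MorphismProperty Scheme.{u})
    [P.DescendsAlong (@Surjective ⊓ @Flat ⊓ @LocallyOfFinitePresentation)]
    (hdesc : ∀ ⦃X' S' : Scheme.{u}⦄ (p : X' ⟶ S'), Surjective p → Flat p →
      LocallyOfFinitePresentation p →
      ∀ D : Desc.SchDD p, P D.obj.hom → (Desc.toDD p).essImage D)
    {F G : AlgSp.Sp S} (f : G ⟶ F) {T T' W' : Over S} (b : (yon S).obj T ⟶ F) (pT : T' ⟶ T)
    [Surjective pT.left] [Flat pT.left] [LocallyOfFinitePresentation pT.left]
    (g' : W' ⟶ T') (fst' : (yon S).obj W' ⟶ G)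
    (sq' : IsPullback fst' ((yon S).map g') f ((yon S).map pT ≫ b)) (hP : P g'.left) :
    ∃ (W : Over S) (w : W ⟶ T) (a₀ : (yon S).obj W ⟶ G),
      IsPullback a₀ ((yon S).map w) f b ∧ P w.left := by
  have hw : fst' ≫ f = ((yon S).map g' ≫ (yon S).map pT) ≫ b := by
    rw [sq'.w, Category.assoc]
  let σ : (yon S).obj W' ⟶ pullback f b := pullback.lift fst' ((yon S).map g' ≫ (yon S).map pT) hw
  have hσ1 : σ ≫ pullback.fst f b = fst' := pullback.lift_fst _ _ _
  have hσ2 : σ ≫ pullback.snd f b = (yon S).map g' ≫ (yon S).map pT := pullback.lift_snd _ _ _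
  have sq'' : IsPullback σ ((yon S).map g') (pullback.snd f b) ((yon S).map pT) := by
    refine IsPullback.of_right ?_ hσ2 (IsPullback.of_hasPullback f b)
    rw [hσ1]
    exact sq'
  obtain ⟨W₀, ⟨e⟩⟩ := hdesc pT.left inferInstance inferInstance inferInstance (sheafDD sq'') hP
  obtain ⟨W, w, τ, hτ⟩ := exists_rep_of_iso sq'' W₀ e
  have sq₀ : IsPullback (τ.hom ≫ pullback.fst f b) ((yon S).map w) f b :=
    IsPullback.of_iso (IsPullback.of_hasPullback f b) τ.symm (Iso.refl _) (Iso.refl _)
      (Iso.refl _) (by simp) (by simp [← hτ]) (by simp) (by simp)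
  refine ⟨W, w, τ.hom ≫ pullback.fst f b, sq₀, ?_⟩
  obtain ⟨k, hk⟩ := (yon S).map_surjective (σ ≫ τ.inv)
  have sqk : IsPullback ((yon S).map k) ((yon S).map g') ((yon S).map w) ((yon S).map pT) := by
    rw [hk]
    exact IsPullback.of_iso sq'' (Iso.refl _) τ.symm (Iso.refl _) (Iso.refl _) (by simp) (by simp)
      (by simp [← hτ]) (by simp)
  have sqs : IsPullback k g' w pT := IsPullback.of_map (yon S) (by
    apply (yon S).map_injective
    rw [Functor.map_comp, Functor.map_comp]
    exact sqk.w) sqk
  have sql : IsPullback k.left g'.left w.left pT.left := sqs.map (Over.forget S)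
  exact MorphismProperty.of_isPullback_of_descendsAlong
    (Q := @Surjective ⊓ @Flat ⊓ @LocallyOfFinitePresentation) sql.flip
    ⟨⟨inferInstance, inferInstance⟩, inferInstance⟩ hP

/-- descent data whose structure morphism is an immersion are effective along fppf coverings. -/
lemma effective_immersion {X' S' : Scheme.{u}} (p : X' ⟶ S') (hs : Surjective p) (hf : Flat p)
    (hfp : LocallyOfFinitePresentation p) (D : Desc.SchDD p) (hD : IsImmersion D.obj.hom) :
    (Desc.toDD p).essImage D := by
  haveI := hs
  haveI := hf
  haveI := hfp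
  haveI := hD
  haveI : LocallyOfFiniteType D.obj.hom := inferInstance
  haveI : Mono D.obj.hom := inferInstance
  haveI : IsSeparated D.obj.hom := inferInstance
  haveI : LocallyQuasiFinite D.obj.hom := inferInstance
  exact Groth.Agent.Lib.H5bDDGen.effective_sep_lqf_fppf p D

end Groth.Agent.Lib.H5bFppfBase
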