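import Mathlib
import Groth.Prelude.Def_Grpd
import Groth.Agent.Lib.Helper2Grpd

/-!
# Equivalence relations over a base scheme and their base change (helper5)

`Rel Z`: schemes `U`, `R`, maps `π : U ⟶ Z`, `s t : R ⟶ U` with `s ≫ π = t ≫ π`, jointly
monomorphic `(t, s)`, and reflexivity / symmetry / transitivity witnesses.  `Rel.grpd` is the
associated groupoid scheme over `Z` (all axioms follow from joint injectivity), `Rel.bc g` the base
change along `g : Z' ⟶ Z`.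
-/

set_option autoImplicit false
set_option linter.style.haveILetI false
set_option linter.unusedSectionVars false
set_option linter.unusedSimpArgs false
universe u

open CategoryTheory CategoryTheory.Limits AlgebraicGeometry

namespace Groth.Agent.Lib.H5bLqf

/-- an equivalence relation `R ⇉ U` over `Z`. -/
structure Rel (Z : Scheme.{u}) where
  U : Scheme.{u}
  R : Scheme.{u}
  π : U ⟶ Z
  s : R ⟶ U
  t : R ⟶ U
  w : s ≫ π = t ≫ π
  inj : ∀ {T : Scheme.{u}} (a b : T ⟶ R), a ≫ t = b ≫ t → a ≫ s = b ≫ s → a = b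
  e : U ⟶ R
  e_s : e ≫ s = 𝟙 U
  e_t : e ≫ t = 𝟙 U
  i : R ⟶ R
  i_s : i ≫ s = t
  i_t : i ≫ t = s
  c : pullback s t ⟶ R
  c_s : c ≫ s = pullback.snd s t ≫ s
  c_t : c ≫ t = pullback.fst s t ≫ t

namespace Rel

variable {Z : Scheme.{u}} (ρ : Rel Z)

theorem lift_c_t {T : Scheme.{u}} (α β : T ⟶ ρ.R) (h : α ≫ ρ.s = β ≫ ρ.t) :
    (pullback.lift α β h ≫ ρ.c) ≫ ρ.t = α ≫ ρ.t := by
  rw [Category.assoc, ρ.c_t, pullback.lift_fst_assoc]

theorem lift_c_s {T : Scheme.{u}} (α β : T ⟶ ρ.R) (h : α ≫ ρ.s = β ≫ ρ.t) :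
    (pullback.lift α β h ≫ ρ.c) ≫ ρ.s = β ≫ ρ.s := by
  rw [Category.assoc, ρ.c_s, pullback.lift_snd_assoc]

/-- the groupoid scheme over `Z` of an equivalence relation. -/
@[reducible] noncomputable def grpd : Grpd.GroupoidScheme Z where
  U := ρ.U
  R := ρ.R
  pU := ρ.π
  pR := ρ.s ≫ ρ.π
  s := ρ.s
  t := ρ.t
  e := ρ.e
  i := ρ.i
  c := ρ.c
  s_over := rfl
  t_over := ρ.w.symm
  comp_s := fun α β h => ρ.lift_c_s α β h
  comp_t := fun α β h => ρ.lift_c_t α β h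
  assoc := by
    intro T α β γ h₁ h₂
    apply ρ.inj
    · simp only [lift_c_t]
    · simp only [lift_c_s]
  e_s := ρ.e_s
  e_t := ρ.e_t
  comp_e := by
    intro T α
    apply ρ.inj
    · rw [lift_c_t]
    · rw [lift_c_s, Category.assoc, Category.assoc, ρ.e_s, Category.comp_id]
  e_comp := by
    intro T α
    apply ρ.inj
    · rw [lift_c_t, Category.assoc, Category.assoc, ρ.e_t, Category.comp_id]
    · rw [lift_c_s]
  i_s := ρ.i_s
  i_t := ρ.i_t
  comp_i := by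
    intro T α
    apply ρ.inj
    · rw [lift_c_t, Category.assoc, Category.assoc, ρ.e_t, Category.comp_id]
    · rw [lift_c_s, Category.assoc, ρ.i_s, Category.assoc, Category.assoc, ρ.e_s,
        Category.comp_id]
  i_comp := by
    intro T α
    apply ρ.inj
    · rw [lift_c_t, Category.assoc, ρ.i_t, Category.assoc, Category.assoc, ρ.e_t,
        Category.comp_id]
    · rw [lift_c_s, Category.assoc, Category.assoc, ρ.e_s, Category.comp_id]

@[simp] theorem grpd_U : ρ.grpd.U = ρ.U := rfl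
@[simp] theorem grpd_R : ρ.grpd.R = ρ.R := rfl
theorem grpd_s : ρ.grpd.s = ρ.s := rfl
theorem grpd_t : ρ.grpd.t = ρ.t := rfl
theorem grpd_pU : ρ.grpd.pU = ρ.π := rfl

instance mono_grpd_j : Mono ρ.grpd.j := by
  constructor
  intro T a b h
  have h1 : a ≫ ρ.t = b ≫ ρ.t := by
    have := congrArg (· ≫ pullback.fst ρ.grpd.pU ρ.grpd.pU) h
    simp only [Category.assoc, Grpd.GroupoidScheme.j, pullback.lift_fst] at this
    exact this
  have h2 : a ≫ ρ.s = b ≫ ρ.s := by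
    have := congrArg (· ≫ pullback.snd ρ.grpd.pU ρ.grpd.pU) h
    simp only [Category.assoc, Grpd.GroupoidScheme.j, pullback.lift_snd] at this
    exact this
  exact ρ.inj a b h1 h2

section BaseChange

variable {Z' : Scheme.{u}} (g : Z' ⟶ Z)

/-- objects of the base change. -/
noncomputable abbrev bcU : Scheme.{u} := pullback ρ.π g

/-- arrows of the base change. -/
noncomputable abbrev bcR : Scheme.{u} := pullback (ρ.s ≫ ρ.π) g

/-- source of the base change. -/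
noncomputable def bcs : ρ.bcR g ⟶ ρ.bcU g :=
  pullback.lift (pullback.fst _ _ ≫ ρ.s) (pullback.snd _ _)
    (by rw [Category.assoc, pullback.condition])

/-- target of the base change. -/
noncomputable def bct : ρ.bcR g ⟶ ρ.bcU g :=
  pullback.lift (pullback.fst _ _ ≫ ρ.t) (pullback.snd _ _)
    (by rw [Category.assoc, ← ρ.w, pullback.condition])

@[reassoc (attr := simp)]
theorem bcs_fst : ρ.bcs g ≫ pullback.fst ρ.π g = pullback.fst (ρ.s ≫ ρ.π) g ≫ ρ.s :=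
  pullback.lift_fst _ _ _

@[reassoc (attr := simp)]
theorem bcs_snd : ρ.bcs g ≫ pullback.snd ρ.π g = pullback.snd (ρ.s ≫ ρ.π) g :=
  pullback.lift_snd _ _ _

@[reassoc (attr := simp)]
theorem bct_fst : ρ.bct g ≫ pullback.fst ρ.π g = pullback.fst (ρ.s ≫ ρ.π) g ≫ ρ.t :=
  pullback.lift_fst _ _ _

@[reassoc (attr := simp)]
theorem bct_snd : ρ.bct g ≫ pullback.snd ρ.π g = pullback.snd (ρ.s ≫ ρ.π) g :=
  pullback.lift_snd _ _ _

theorem bc_inj {T : Scheme.{u}} (a b : T ⟶ ρ.bcR g) (h1 : a ≫ ρ.bct g = b ≫ ρ.bct g)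
    (h2 : a ≫ ρ.bcs g = b ≫ ρ.bcs g) : a = b := by
  apply pullback.hom_ext
  · apply ρ.inj
    · have := congrArg (· ≫ pullback.fst ρ.π g) h1
      simpa only [Category.assoc, bct_fst] using this
    · have := congrArg (· ≫ pullback.fst ρ.π g) h2
      simpa only [Category.assoc, bcs_fst] using this
  · have := congrArg (· ≫ pullback.snd ρ.π g) h2
    simpa only [Category.assoc, bcs_snd] using this

/-- identity of the base change. -/
noncomputable def bce : ρ.bcU g ⟶ ρ.bcR g :=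
  pullback.lift (pullback.fst _ _ ≫ ρ.e) (pullback.snd _ _)
    (by rw [Category.assoc, ← Category.assoc ρ.e, ρ.e_s, Category.id_comp, pullback.condition])

/-- inverse of the base change. -/
noncomputable def bci : ρ.bcR g ⟶ ρ.bcR g :=
  pullback.lift (pullback.fst _ _ ≫ ρ.i) (pullback.snd _ _)
    (by rw [Category.assoc, ← Category.assoc ρ.i, ρ.i_s, ← ρ.w, pullback.condition])

theorem bc_cond1 :
    (pullback.fst (ρ.bcs g) (ρ.bct g) ≫ pullback.fst (ρ.s ≫ ρ.π) g) ≫ ρ.s =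
      (pullback.snd (ρ.bcs g) (ρ.bct g) ≫ pullback.fst (ρ.s ≫ ρ.π) g) ≫ ρ.t := by
  have := congrArg (· ≫ pullback.fst ρ.π g) (pullback.condition (f := ρ.bcs g) (g := ρ.bct g))
  simpa only [Category.assoc, bcs_fst, bct_fst] using this

theorem bc_cond2 :
    pullback.fst (ρ.bcs g) (ρ.bct g) ≫ pullback.snd (ρ.s ≫ ρ.π) g =
      pullback.snd (ρ.bcs g) (ρ.bct g) ≫ pullback.snd (ρ.s ≫ ρ.π) g := by
  have := congrArg (· ≫ pullback.snd ρ.π g) (pullback.condition (f := ρ.bcs g) (g := ρ.bct g))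
  simpa only [Category.assoc, bcs_snd, bct_snd] using this

/-- the underlying composable pair. -/
noncomputable def bcl : pullback (ρ.bcs g) (ρ.bct g) ⟶ pullback ρ.s ρ.t :=
  pullback.lift (pullback.fst (ρ.bcs g) (ρ.bct g) ≫ pullback.fst (ρ.s ≫ ρ.π) g)
    (pullback.snd (ρ.bcs g) (ρ.bct g) ≫ pullback.fst (ρ.s ≫ ρ.π) g) (ρ.bc_cond1 g)

theorem bcl_c_s : (ρ.bcl g ≫ ρ.c) ≫ ρ.s =
    (pullback.snd (ρ.bcs g) (ρ.bct g) ≫ pullback.fst (ρ.s ≫ ρ.π) g) ≫ ρ.s :=
  ρ.lift_c_s _ _ _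

theorem bcl_c_t : (ρ.bcl g ≫ ρ.c) ≫ ρ.t =
    (pullback.fst (ρ.bcs g) (ρ.bct g) ≫ pullback.fst (ρ.s ≫ ρ.π) g) ≫ ρ.t :=
  ρ.lift_c_t _ _ _

theorem bcc_cond : (ρ.bcl g ≫ ρ.c) ≫ ρ.s ≫ ρ.π =
    (pullback.fst (ρ.bcs g) (ρ.bct g) ≫ pullback.snd (ρ.s ≫ ρ.π) g) ≫ g := by
  calc (ρ.bcl g ≫ ρ.c) ≫ ρ.s ≫ ρ.π = ((ρ.bcl g ≫ ρ.c) ≫ ρ.s) ≫ ρ.π := (Category.assoc _ _ _).symm
    _ = ((pullback.snd (ρ.bcs g) (ρ.bct g) ≫ pullback.fst (ρ.s ≫ ρ.π) g) ≫ ρ.s) ≫ ρ.π := by
        rw [bcl_c_s]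
    _ = pullback.snd (ρ.bcs g) (ρ.bct g) ≫ pullback.fst (ρ.s ≫ ρ.π) g ≫ ρ.s ≫ ρ.π := by
        simp only [Category.assoc]
    _ = pullback.snd (ρ.bcs g) (ρ.bct g) ≫ pullback.snd (ρ.s ≫ ρ.π) g ≫ g := by
        rw [pullback.condition]
    _ = (pullback.fst (ρ.bcs g) (ρ.bct g) ≫ pullback.snd (ρ.s ≫ ρ.π) g) ≫ g := by
        rw [← Category.assoc, ← ρ.bc_cond2 g]

/-- composition of the base change. -/
noncomputable def bcc : pullback (ρ.bcs g) (ρ.bct g) ⟶ ρ.bcR g :=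
  pullback.lift (ρ.bcl g ≫ ρ.c)
    (pullback.fst (ρ.bcs g) (ρ.bct g) ≫ pullback.snd (ρ.s ≫ ρ.π) g) (ρ.bcc_cond g)

@[reassoc]
theorem bcc_fst : ρ.bcc g ≫ pullback.fst (ρ.s ≫ ρ.π) g = ρ.bcl g ≫ ρ.c := pullback.lift_fst _ _ _

@[reassoc]
theorem bcc_snd : ρ.bcc g ≫ pullback.snd (ρ.s ≫ ρ.π) g =
    pullback.fst (ρ.bcs g) (ρ.bct g) ≫ pullback.snd (ρ.s ≫ ρ.π) g := pullback.lift_snd _ _ _

/-- the base change of an equivalence relation. -/
@[reducible] noncomputable def bc : Rel Z' where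
  U := ρ.bcU g
  R := ρ.bcR g
  π := pullback.snd ρ.π g
  s := ρ.bcs g
  t := ρ.bct g
  w := by rw [bcs_snd, bct_snd]
  inj := fun a b h1 h2 => ρ.bc_inj g a b h1 h2
  e := ρ.bce g
  e_s := by
    apply pullback.hom_ext
    · rw [Category.assoc, bcs_fst, bce, pullback.lift_fst_assoc, Category.assoc, ρ.e_s,
        Category.comp_id, Category.id_comp]
    · rw [Category.assoc, bcs_snd, bce, pullback.lift_snd, Category.id_comp]
  e_t := by
    apply pullback.hom_ext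
    · rw [Category.assoc, bct_fst, bce, pullback.lift_fst_assoc, Category.assoc, ρ.e_t,
        Category.comp_id, Category.id_comp]
    · rw [Category.assoc, bct_snd, bce, pullback.lift_snd, Category.id_comp]
  i := ρ.bci g
  i_s := by
    apply pullback.hom_ext
    · rw [Category.assoc, bcs_fst, bci, pullback.lift_fst_assoc, Category.assoc, ρ.i_s, bct_fst]
    · rw [Category.assoc, bcs_snd, bci, pullback.lift_snd, bct_snd]
  i_t := by
    apply pullback.hom_ext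
    · rw [Category.assoc, bct_fst, bci, pullback.lift_fst_assoc, Category.assoc, ρ.i_t, bcs_fst]
    · rw [Category.assoc, bct_snd, bci, pullback.lift_snd, bcs_snd]
  c := ρ.bcc g
  c_s := by
    apply pullback.hom_ext
    · rw [Category.assoc, bcs_fst, bcc_fst_assoc, Category.assoc, bcs_fst, ← Category.assoc,
        ← Category.assoc, bcl_c_s]
    · rw [Category.assoc, bcs_snd, bcc_snd, Category.assoc, bcs_snd, ρ.bc_cond2 g]
  c_t := by
    apply pullback.hom_ext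
    · rw [Category.assoc, bct_fst, bcc_fst_assoc, Category.assoc, bct_fst, ← Category.assoc,
        ← Category.assoc, bcl_c_t]
    · rw [Category.assoc, bct_snd, bcc_snd, Category.assoc, bct_snd]

@[simp] theorem bc_U : (ρ.bc g).U = pullback ρ.π g := rfl
@[simp] theorem bc_R : (ρ.bc g).R = pullback (ρ.s ≫ ρ.π) g := rfl
theorem bc_π : (ρ.bc g).π = pullback.snd ρ.π g := rfl
theorem bc_s : (ρ.bc g).s = ρ.bcs g := rfl
theorem bc_t : (ρ.bc g).t = ρ.bct g := rfl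

/-- `s'` is the base change of `s`. -/
theorem isPullback_bcs :
    IsPullback (ρ.bcs g) (pullback.fst (ρ.s ≫ ρ.π) g) (pullback.fst ρ.π g) ρ.s := by
  refine IsPullback.of_right ?_ (ρ.bcs_fst g) (IsPullback.of_hasPullback ρ.π g).flip
  rw [bcs_snd]
  exact (IsPullback.of_hasPullback (ρ.s ≫ ρ.π) g).flip

/-- `t'` is the base change of `t`. -/
theorem isPullback_bct :
    IsPullback (ρ.bct g) (pullback.fst (ρ.s ≫ ρ.π) g) (pullback.fst ρ.π g) ρ.t := by
  refine IsPullback.of_right ?_ (ρ.bct_fst g) (IsPullback.of_hasPullback ρ.π g).flip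
  rw [bct_snd, ← ρ.w]
  exact (IsPullback.of_hasPullback (ρ.s ≫ ρ.π) g).flip

instance etale_bcs [Etale ρ.s] : Etale (ρ.bc g).s :=
  MorphismProperty.of_isPullback (P := @Etale) (ρ.isPullback_bcs g).flip inferInstance

instance etale_bct [Etale ρ.t] : Etale (ρ.bc g).t :=
  MorphismProperty.of_isPullback (P := @Etale) (ρ.isPullback_bct g).flip inferInstance

instance lqf_bcπ [LocallyQuasiFinite ρ.π] : LocallyQuasiFinite (ρ.bc g).π :=
  MorphismProperty.pullback_snd (P := @LocallyQuasiFinite) _ _ inferInstance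

instance loft_bcπ [LocallyOfFiniteType ρ.π] : LocallyOfFiniteType (ρ.bc g).π :=
  MorphismProperty.pullback_snd (P := @LocallyOfFiniteType) _ _ inferInstance

instance isAffine_bcU [IsAffine Z] [IsAffine Z'] [IsAffine ρ.U] : IsAffine (ρ.bc g).U :=
  inferInstanceAs (IsAffine (pullback ρ.π g))

instance isAffine_bcR [IsAffine Z] [IsAffine Z'] [IsAffine ρ.R] : IsAffine (ρ.bc g).R :=
  inferInstanceAs (IsAffine (pullback (ρ.s ≫ ρ.π) g))

/-- the comparison `U' ×_{Z'} U' ⟶ U ×_Z U`. -/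
noncomputable def bcκ :
    pullback (ρ.bc g).grpd.pU (ρ.bc g).grpd.pU ⟶ pullback ρ.grpd.pU ρ.grpd.pU :=
  pullback.lift (pullback.fst (ρ.bc g).grpd.pU (ρ.bc g).grpd.pU ≫ pullback.fst ρ.π g)
    (pullback.snd (ρ.bc g).grpd.pU (ρ.bc g).grpd.pU ≫ pullback.fst ρ.π g)
    (by
      have h := pullback.condition (f := (ρ.bc g).grpd.pU) (g := (ρ.bc g).grpd.pU)
      change pullback.fst _ _ ≫ pullback.snd ρ.π g = pullback.snd _ _ ≫ pullback.snd ρ.π g at h
      change (_ ≫ pullback.fst ρ.π g) ≫ ρ.π = (_ ≫ pullback.fst ρ.π g) ≫ ρ.π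
      rw [Category.assoc, Category.assoc, pullback.condition, ← Category.assoc, h,
        Category.assoc])

@[reassoc]
theorem bcκ_fst : ρ.bcκ g ≫ pullback.fst ρ.grpd.pU ρ.grpd.pU =
    pullback.fst (ρ.bc g).grpd.pU (ρ.bc g).grpd.pU ≫ pullback.fst ρ.π g :=
  pullback.lift_fst _ _ _

@[reassoc]
theorem bcκ_snd : ρ.bcκ g ≫ pullback.snd ρ.grpd.pU ρ.grpd.pU =
    pullback.snd (ρ.bc g).grpd.pU (ρ.bc g).grpd.pU ≫ pullback.fst ρ.π g :=
  pullback.lift_snd _ _ _

theorem j_fst : ρ.grpd.j ≫ pullback.fst ρ.grpd.pU ρ.grpd.pU = ρ.t := pullback.lift_fst _ _ _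

theorem j_snd : ρ.grpd.j ≫ pullback.snd ρ.grpd.pU ρ.grpd.pU = ρ.s := pullback.lift_snd _ _ _

/-- `j'` is the base change of `j`. -/
theorem isPullback_bcj :
    IsPullback (ρ.bc g).grpd.j (pullback.fst (ρ.s ≫ ρ.π) g) (ρ.bcκ g) ρ.grpd.j := by
  have hw : (ρ.bc g).grpd.j ≫ ρ.bcκ g = pullback.fst (ρ.s ≫ ρ.π) g ≫ ρ.grpd.j := by
    apply pullback.hom_ext
    · rw [Category.assoc, bcκ_fst, Category.assoc, j_fst, ← Category.assoc, j_fst]
      exact ρ.bct_fst g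
    · rw [Category.assoc, bcκ_snd, Category.assoc, j_snd, ← Category.assoc, j_snd]
      exact ρ.bcs_fst g
  have hs : ∀ c : PullbackCone (ρ.bcκ g) ρ.grpd.j,
      c.fst ≫ pullback.snd (ρ.bc g).grpd.pU (ρ.bc g).grpd.pU ≫ pullback.fst ρ.π g =
        c.snd ≫ ρ.s := by
    intro c
    have h1 : (c.fst ≫ ρ.bcκ g) ≫ pullback.snd ρ.grpd.pU ρ.grpd.pU =
        (c.snd ≫ ρ.grpd.j) ≫ pullback.snd ρ.grpd.pU ρ.grpd.pU := by rw [c.condition]
    rw [Category.assoc, Category.assoc, bcκ_snd, j_snd] at h1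
    exact h1
  have ht : ∀ c : PullbackCone (ρ.bcκ g) ρ.grpd.j,
      c.fst ≫ pullback.fst (ρ.bc g).grpd.pU (ρ.bc g).grpd.pU ≫ pullback.fst ρ.π g =
        c.snd ≫ ρ.t := by
    intro c
    have h1 : (c.fst ≫ ρ.bcκ g) ≫ pullback.fst ρ.grpd.pU ρ.grpd.pU =
        (c.snd ≫ ρ.grpd.j) ≫ pullback.fst ρ.grpd.pU ρ.grpd.pU := by rw [c.condition]
    rw [Category.assoc, Category.assoc, bcκ_fst, j_fst] at h1
    exact h1
  have hpc : pullback.fst (ρ.bc g).grpd.pU (ρ.bc g).grpd.pU ≫ pullback.snd ρ.π g =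
      pullback.snd (ρ.bc g).grpd.pU (ρ.bc g).grpd.pU ≫ pullback.snd ρ.π g :=
    pullback.condition (f := (ρ.bc g).grpd.pU) (g := (ρ.bc g).grpd.pU)
  have hcond : ∀ c : PullbackCone (ρ.bcκ g) ρ.grpd.j,
      c.snd ≫ ρ.s ≫ ρ.π =
        (c.fst ≫ pullback.snd (ρ.bc g).grpd.pU (ρ.bc g).grpd.pU ≫ pullback.snd ρ.π g) ≫ g := by
    intro c
    rw [← Category.assoc, ← hs c, Category.assoc, Category.assoc, Category.assoc, Category.assoc,
      pullback.condition]
  let L : ∀ c : PullbackCone (ρ.bcκ g) ρ.grpd.j, c.pt ⟶ ρ.bcR g := fun c =>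
    pullback.lift c.snd
      (c.fst ≫ pullback.snd (ρ.bc g).grpd.pU (ρ.bc g).grpd.pU ≫ pullback.snd ρ.π g) (hcond c)
  have hLt : ∀ c, L c ≫ ρ.bct g = c.fst ≫ pullback.fst (ρ.bc g).grpd.pU (ρ.bc g).grpd.pU := by
    intro c
    apply pullback.hom_ext
    · rw [Category.assoc, bct_fst, pullback.lift_fst_assoc, Category.assoc]
      exact (ht c).symm
    · rw [Category.assoc, bct_snd, pullback.lift_snd, Category.assoc, hpc]
  have hLs : ∀ c, L c ≫ ρ.bcs g = c.fst ≫ pullback.snd (ρ.bc g).grpd.pU (ρ.bc g).grpd.pU := by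
    intro c
    apply pullback.hom_ext
    · rw [Category.assoc, bcs_fst, pullback.lift_fst_assoc, Category.assoc]
      exact (hs c).symm
    · rw [Category.assoc, bcs_snd, pullback.lift_snd, Category.assoc]
  have hL1 : ∀ c, L c ≫ (ρ.bc g).grpd.j = c.fst := by
    intro c
    apply pullback.hom_ext
    · rw [Category.assoc, j_fst]
      exact hLt c
    · rw [Category.assoc, j_snd]
      exact hLs c
  have hL2 : ∀ c, L c ≫ pullback.fst (ρ.s ≫ ρ.π) g = c.snd := fun c => pullback.lift_fst _ _ _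
  haveI : Mono (ρ.bc g).grpd.j := mono_grpd_j (ρ.bc g)
  exact ⟨⟨hw⟩, ⟨PullbackCone.IsLimit.mk _ L hL1 hL2 (fun c m h1 h2 => by
    rw [← cancel_mono (ρ.bc g).grpd.j, h1]
    exact (hL1 c).symm)⟩⟩

instance isClosedImmersion_bcj [IsClosedImmersion ρ.grpd.j] :
    IsClosedImmersion (ρ.bc g).grpd.j :=
  MorphismProperty.of_isPullback (P := @IsClosedImmersion) (ρ.isPullback_bcj g).flip inferInstance

end BaseChange

end Rel

end Groth.Agent.Lib.H5bLqf
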