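import Mathlib
import Groth.Agent.Lib.H5bLqfRel
import Groth.Agent.Lib.Helper12AffineDescent

/-!
# Flat base change of the ring of invariants (helper5)

`Rel.Ex ρ`: `Γ(Z) ⟶ Γ(U)` is injective with image the equalizer of `s♯, t♯ : Γ(U) ⇉ Γ(R)`.
`Rel.Ex.bc`: this is preserved by flat base change between affine bases (for `U`, `R` quasi-compact
and quasi-separated).
-/

set_option autoImplicit false
set_option linter.style.haveILetI false
set_option linter.unusedSectionVars false
set_option linter.unusedSimpArgs false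
universe u

open CategoryTheory CategoryTheory.Limits AlgebraicGeometry TensorProduct

namespace Groth.Agent.Lib.H5bLqf

section Alg

variable {A C D A' : Type u} [CommRing A] [CommRing C] [CommRing D] [CommRing A']
  [Algebra A C] [Algebra A D] [Algebra A A']

/-- exactness of `0 → A → C ⇉ D` is preserved by a flat base change `A → A'`. -/
theorem exact_tensor [Module.Flat A A'] (σ τ : C →ₐ[A] D)
    (hinj : Function.Injective (algebraMap A C))
    (hex : ∀ c, σ c = τ c → c ∈ Set.range (algebraMap A C)) :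
    Function.Injective (algebraMap A' (A' ⊗[A] C)) ∧
      ∀ x : A' ⊗[A] C, Algebra.TensorProduct.map (AlgHom.id A' A') σ x =
        Algebra.TensorProduct.map (AlgHom.id A' A') τ x →
        x ∈ Set.range (algebraMap A' (A' ⊗[A] C)) := by
  refine ⟨Algebra.TensorProduct.includeLeft_injective (S := A') hinj, ?_⟩
  intro x hx
  let f : A →ₗ[A] C := Algebra.linearMap A C
  let g : C →ₗ[A] D := σ.toLinearMap - τ.toLinearMap
  have hex' : Function.Exact f g := by
    intro a
    constructor
    · intro ha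
      have : σ a = τ a := by
        have : σ a - τ a = 0 := ha
        exact sub_eq_zero.mp this
      exact hex a this
    · rintro ⟨c, rfl⟩
      show σ (algebraMap A C c) - τ (algebraMap A C c) = 0
      rw [AlgHom.commutes, AlgHom.commutes, sub_self]
  have hex'' := Module.Flat.lTensor_exact A' hex'
  have hgx : g.lTensor A' x = 0 := by
    have h1 : g.lTensor A' = (σ.toLinearMap).lTensor A' - (τ.toLinearMap).lTensor A' :=
      LinearMap.lTensor_sub _ _
    rw [h1, LinearMap.sub_apply, sub_eq_zero]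
    have h2 : ∀ (k : C →ₐ[A] D) (y : A' ⊗[A] C), (k.toLinearMap).lTensor A' y =
        Algebra.TensorProduct.map (AlgHom.id A' A') k y := by
      intro k y
      induction y using TensorProduct.induction_on with
      | zero => simp
      | tmul c a => simp
      | add y z hy hz => simp only [map_add, hy, hz]
    rw [h2, h2]
    exact hx
  obtain ⟨y, rfl⟩ := (hex'' x).mp hgx
  refine ⟨TensorProduct.rid A A' y, ?_⟩
  clear hx hgx
  induction y using TensorProduct.induction_on with
  | zero => simp
  | tmul c' c =>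
    simp only [TensorProduct.rid_tmul, LinearMap.lTensor_tmul, f, Algebra.linearMap_apply]
    rw [Algebra.TensorProduct.algebraMap_apply, Algebra.algebraMap_self, RingHom.id_apply,
      Algebra.algebraMap_eq_smul_one c, TensorProduct.tmul_smul, TensorProduct.smul_tmul']
  | add y z hy hz => simp only [map_add, hy, hz]

end Alg

/-- the same in terms of pushout squares of commutative rings. -/
theorem ex_of_isPushout {A C D A' C' D' : CommRingCat.{u}} (p : A ⟶ C) (γ : A ⟶ A')
    (a : C ⟶ C') (p' : A' ⟶ C') (σ τ : C ⟶ D) (b : D ⟶ D') (q' : A' ⟶ D') (σ' τ' : C' ⟶ D')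
    (hC : IsPushout p γ a p') (hD : IsPushout (p ≫ σ) γ b q')
    (hpστ : p ≫ σ = p ≫ τ)
    (hσa : a ≫ σ' = σ ≫ b) (hσp : p' ≫ σ' = q') (hτa : a ≫ τ' = τ ≫ b) (hτp : p' ≫ τ' = q')
    (hflat : γ.hom.Flat)
    (hinj : Function.Injective p.hom) (hex : ∀ c, σ.hom c = τ.hom c → c ∈ Set.range p.hom) :
    Function.Injective p'.hom ∧ ∀ c', σ'.hom c' = τ'.hom c' → c' ∈ Set.range p'.hom := by
  letI : Algebra A C := p.hom.toAlgebra
  letI : Algebra A D := (p ≫ σ).hom.toAlgebra
  letI : Algebra A A' := γ.hom.toAlgebra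
  haveI : Module.Flat A A' := hflat
  let σa : C →ₐ[A] D := { σ.hom with commutes' := fun x => rfl }
  let τa : C →ₐ[A] D :=
    { τ.hom with commutes' := fun x => (congrArg (fun φ : A ⟶ D => φ.hom x) hpστ).symm }
  obtain ⟨h1, h2⟩ := exact_tensor (A' := A') σa τa hinj hex
  have hTC : IsPushout γ p
      (CommRingCat.ofHom (S := A' ⊗[A] C) Algebra.TensorProduct.includeLeftRingHom)
      (CommRingCat.ofHom (S := A' ⊗[A] C) Algebra.TensorProduct.includeRight.toRingHom) :=
    CommRingCat.isPushout_tensorProduct A A' C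
  have hTD : IsPushout γ (p ≫ σ)
      (CommRingCat.ofHom (S := A' ⊗[A] D) Algebra.TensorProduct.includeLeftRingHom)
      (CommRingCat.ofHom (S := A' ⊗[A] D) Algebra.TensorProduct.includeRight.toRingHom) :=
    CommRingCat.isPushout_tensorProduct A A' D
  let eC := hTC.isoIsPushout _ _ hC.flip
  let eD := hTD.isoIsPushout _ _ hD.flip
  have eC_l : CommRingCat.ofHom (S := A' ⊗[A] C) Algebra.TensorProduct.includeLeftRingHom ≫
      eC.hom = p' := IsPushout.inl_isoIsPushout_hom _ _ hTC hC.flip
  have eC_r : CommRingCat.ofHom (S := A' ⊗[A] C) Algebra.TensorProduct.includeRight.toRingHom ≫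
      eC.hom = a := IsPushout.inr_isoIsPushout_hom _ _ hTC hC.flip
  have eD_l : CommRingCat.ofHom (S := A' ⊗[A] D) Algebra.TensorProduct.includeLeftRingHom ≫
      eD.hom = q' := IsPushout.inl_isoIsPushout_hom _ _ hTD hD.flip
  have eD_r : CommRingCat.ofHom (S := A' ⊗[A] D) Algebra.TensorProduct.includeRight.toRingHom ≫
      eD.hom = b := IsPushout.inr_isoIsPushout_hom _ _ hTD hD.flip
  let mσ : CommRingCat.of (A' ⊗[A] C) ⟶ CommRingCat.of (A' ⊗[A] D) :=
    CommRingCat.ofHom (Algebra.TensorProduct.map (AlgHom.id A' A') σa).toRingHom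
  let mτ : CommRingCat.of (A' ⊗[A] C) ⟶ CommRingCat.of (A' ⊗[A] D) :=
    CommRingCat.ofHom (Algebra.TensorProduct.map (AlgHom.id A' A') τa).toRingHom
  have hmσ : eC.hom ≫ σ' = mσ ≫ eD.hom := by
    apply hTC.hom_ext
    · rw [← Category.assoc, eC_l, hσp]
      have : CommRingCat.ofHom (S := A' ⊗[A] C) Algebra.TensorProduct.includeLeftRingHom ≫ mσ =
          CommRingCat.ofHom (S := A' ⊗[A] D) Algebra.TensorProduct.includeLeftRingHom := by
        ext x
        simp [mσ]
      rw [← Category.assoc, this, eD_l]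
    · rw [← Category.assoc, eC_r, hσa]
      have : CommRingCat.ofHom (S := A' ⊗[A] C) Algebra.TensorProduct.includeRight.toRingHom ≫
          mσ = σ ≫ CommRingCat.ofHom (S := A' ⊗[A] D)
            Algebra.TensorProduct.includeRight.toRingHom := by
        ext x
        simp [mσ, σa]
      rw [← Category.assoc, this, Category.assoc, eD_r]
  have hmτ : eC.hom ≫ τ' = mτ ≫ eD.hom := by
    apply hTC.hom_ext
    · rw [← Category.assoc, eC_l, hτp]
      have : CommRingCat.ofHom (S := A' ⊗[A] C) Algebra.TensorProduct.includeLeftRingHom ≫ mτ =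
          CommRingCat.ofHom (S := A' ⊗[A] D) Algebra.TensorProduct.includeLeftRingHom := by
        ext x
        simp [mτ]
      rw [← Category.assoc, this, eD_l]
    · rw [← Category.assoc, eC_r, hτa]
      have : CommRingCat.ofHom (S := A' ⊗[A] C) Algebra.TensorProduct.includeRight.toRingHom ≫
          mτ = τ ≫ CommRingCat.ofHom (S := A' ⊗[A] D)
            Algebra.TensorProduct.includeRight.toRingHom := by
        ext x
        simp [mτ, τa]
      rw [← Category.assoc, this, Category.assoc, eD_r]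
  have hp' : ∀ y : A', p'.hom y = eC.hom.hom (algebraMap A' (A' ⊗[A] C) y) := by
    intro y
    have := congrArg (fun φ : A' ⟶ C' => φ.hom y) eC_l
    exact this.symm
  have heCinj : Function.Injective eC.hom.hom := by
    intro x y hxy
    have := congrArg eC.inv.hom hxy
    have hx : eC.inv.hom (eC.hom.hom x) = x := by
      have := congrArg (fun φ : CommRingCat.of (A' ⊗[A] C) ⟶ CommRingCat.of (A' ⊗[A] C) =>
        φ.hom x) eC.hom_inv_id
      exact this
    have hy : eC.inv.hom (eC.hom.hom y) = y := by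
      have := congrArg (fun φ : CommRingCat.of (A' ⊗[A] C) ⟶ CommRingCat.of (A' ⊗[A] C) =>
        φ.hom y) eC.hom_inv_id
      exact this
    rw [hx, hy] at this
    exact this
  have heDinj : Function.Injective eD.hom.hom := by
    intro x y hxy
    have := congrArg eD.inv.hom hxy
    have hx : eD.inv.hom (eD.hom.hom x) = x := by
      have := congrArg (fun φ : CommRingCat.of (A' ⊗[A] D) ⟶ CommRingCat.of (A' ⊗[A] D) =>
        φ.hom x) eD.hom_inv_id
      exact this
    have hy : eD.inv.hom (eD.hom.hom y) = y := by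
      have := congrArg (fun φ : CommRingCat.of (A' ⊗[A] D) ⟶ CommRingCat.of (A' ⊗[A] D) =>
        φ.hom y) eD.hom_inv_id
      exact this
    rw [hx, hy] at this
    exact this
  refine ⟨?_, ?_⟩
  · intro y y' hyy
    rw [hp', hp'] at hyy
    exact h1 (heCinj hyy)
  · intro c' hc'
    set x : A' ⊗[A] C := eC.inv.hom c' with hx
    have hxc : eC.hom.hom x = c' := by
      have := congrArg (fun φ : C' ⟶ C' => φ.hom c') eC.inv_hom_id
      exact this
    have e1 : eD.hom.hom (Algebra.TensorProduct.map (AlgHom.id A' A') σa x) = σ'.hom c' := by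
      have := congrArg (fun φ : CommRingCat.of (A' ⊗[A] C) ⟶ D' => φ.hom x) hmσ
      rw [← hxc]
      exact this.symm
    have e2 : eD.hom.hom (Algebra.TensorProduct.map (AlgHom.id A' A') τa x) = τ'.hom c' := by
      have := congrArg (fun φ : CommRingCat.of (A' ⊗[A] C) ⟶ D' => φ.hom x) hmτ
      rw [← hxc]
      exact this.symm
    have e3 : Algebra.TensorProduct.map (AlgHom.id A' A') σa x =
        Algebra.TensorProduct.map (AlgHom.id A' A') τa x :=
      heDinj (by rw [e1, e2, hc'])
    obtain ⟨y, hy⟩ := h2 x e3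
    exact ⟨y, by rw [hp', hy, hxc]⟩

namespace Rel

variable {Z : Scheme.{u}} (ρ : Rel Z)

/-- `Γ(Z)` is the ring of invariant functions on `U`. -/
def Ex : Prop :=
  Function.Injective ρ.π.appTop.hom ∧
    ∀ f : Γ(ρ.U, ⊤), ρ.s.appTop.hom f = ρ.t.appTop.hom f → f ∈ Set.range ρ.π.appTop.hom

variable {ρ}

/-- exactness is preserved by flat base change between affine bases. -/
theorem Ex.bc (h : ρ.Ex) {Z' : Scheme.{u}} (g : Z' ⟶ Z) [IsAffine Z] [IsAffine Z'] [Flat g]
    [CompactSpace ρ.U] [QuasiSeparatedSpace ρ.U] [CompactSpace ρ.R] [QuasiSeparatedSpace ρ.R] :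
    (ρ.bc g).Ex := by
  have hC := Groth.Agent.Lib.Helper12.isPushout_appTop (IsPullback.of_hasPullback ρ.π g)
  have hD := Groth.Agent.Lib.Helper12.isPushout_appTop (IsPullback.of_hasPullback (ρ.s ≫ ρ.π) g)
  have hD' : IsPushout (ρ.π.appTop ≫ ρ.s.appTop) g.appTop (pullback.fst (ρ.s ≫ ρ.π) g).appTop
      (pullback.snd (ρ.s ≫ ρ.π) g).appTop := by
    rw [← Scheme.Hom.comp_appTop]
    exact hD
  have key := ex_of_isPushout ρ.π.appTop g.appTop (pullback.fst ρ.π g).appTop
    (pullback.snd ρ.π g).appTop ρ.s.appTop ρ.t.appTop (pullback.fst (ρ.s ≫ ρ.π) g).appTop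
    (pullback.snd (ρ.s ≫ ρ.π) g).appTop (ρ.bcs g).appTop (ρ.bct g).appTop hC hD'
    (by rw [← Scheme.Hom.comp_appTop, ← Scheme.Hom.comp_appTop, ρ.w])
    (by rw [← Scheme.Hom.comp_appTop, ← Scheme.Hom.comp_appTop, ρ.bcs_fst])
    (by rw [← Scheme.Hom.comp_appTop, ρ.bcs_snd])
    (by rw [← Scheme.Hom.comp_appTop, ← Scheme.Hom.comp_appTop, ρ.bct_fst])
    (by rw [← Scheme.Hom.comp_appTop, ρ.bct_snd])
    (by
      have := (HasRingHomProperty.iff_of_isAffine (P := @Flat) (f := g)).mp inferInstance
      exact this)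
    h.1 h.2
  exact key

end Rel

end Groth.Agent.Lib.H5bLqf
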