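import Mathlib
import Groth.Prelude.Def_Grpd
import Groth.Agent.Lib.Helper2Grpd
import Groth.Agent.Lib.H5bGQRestr

/-!
# Restriction of a groupoid scheme along a monomorphism `u : U' ⟶ U` (helper5)

`V G u = R ×_{t,U} U'` (arrows with target in `U'`), `σ = s ∘ pr₁ : V ⟶ U`, `τ = pr₂ : V ⟶ U'`,
`R' G u = V ×_{σ,U} U'` (arrows with source and target in `U'`), and the induced groupoid `res G u`
on `U'`.
-/

set_option autoImplicit false
set_option linter.style.haveILetI false
set_option linter.unusedSectionVars false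
set_option linter.unusedSimpArgs false
universe u

open CategoryTheory CategoryTheory.Limits AlgebraicGeometry
open Groth.Agent.Lib.Helper2.Grpd

namespace Groth.Agent.Lib.H5bQS

variable {S : Scheme.{u}} (G : Grpd.GroupoidScheme S) {U' : Scheme.{u}} (u : U' ⟶ G.U)

/-- arrows with target in `U'`. -/
noncomputable abbrev V : Scheme.{u} := pullback G.t u

/-- the source of an arrow with target in `U'`. -/
noncomputable def σ : V G u ⟶ G.U := pullback.fst G.t u ≫ G.s

/-- the target of an arrow with target in `U'`. -/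
noncomputable def τ : V G u ⟶ U' := pullback.snd G.t u

/-- the underlying arrow. -/
noncomputable def ιV : V G u ⟶ G.R := pullback.fst G.t u

theorem ιV_s : ιV G u ≫ G.s = σ G u := rfl

theorem ιV_t : ιV G u ≫ G.t = τ G u ≫ u := pullback.condition

/-- lifting to `V`. -/
noncomputable def liftV {T : Scheme.{u}} (f : T ⟶ G.R) (a : T ⟶ U') (ha : f ≫ G.t = a ≫ u) :
    T ⟶ V G u := pullback.lift f a ha

section
variable {T : Scheme.{u}} (f : T ⟶ G.R) (a : T ⟶ U') (ha : f ≫ G.t = a ≫ u)

theorem liftV_ι : liftV G u f a ha ≫ ιV G u = f := pullback.lift_fst _ _ _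

theorem liftV_τ : liftV G u f a ha ≫ τ G u = a := pullback.lift_snd _ _ _

theorem liftV_σ : liftV G u f a ha ≫ σ G u = f ≫ G.s := by
  rw [← ιV_s, ← Category.assoc, liftV_ι]

end

theorem V_hom_ext {T : Scheme.{u}} {a b : T ⟶ V G u} (h1 : a ≫ ιV G u = b ≫ ιV G u)
    (h2 : a ≫ τ G u = b ≫ τ G u) : a = b := pullback.hom_ext h1 h2

/-- arrows with source and target in `U'`. -/
noncomputable abbrev R' : Scheme.{u} := pullback (σ G u) u

/-- the underlying arrow. -/
noncomputable def ιR : R' G u ⟶ G.R := pullback.fst (σ G u) u ≫ ιV G u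

/-- the restricted source. -/
noncomputable def s' : R' G u ⟶ U' := pullback.snd (σ G u) u

/-- the restricted target. -/
noncomputable def t' : R' G u ⟶ U' := pullback.fst (σ G u) u ≫ τ G u

theorem hs : s' G u ≫ u = ιR G u ≫ G.s := by
  unfold s' ιR
  rw [Category.assoc, ιV_s]
  exact pullback.condition.symm

theorem ht : t' G u ≫ u = ιR G u ≫ G.t := by
  unfold t' ιR
  rw [Category.assoc, Category.assoc, ιV_t]

/-- lifting to `R'`. -/
noncomputable def liftR {T : Scheme.{u}} (f : T ⟶ G.R) (a b : T ⟶ U') (ha : f ≫ G.t = a ≫ u)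
    (hb : f ≫ G.s = b ≫ u) : T ⟶ R' G u :=
  pullback.lift (liftV G u f a ha) b (by rw [liftV_σ, hb])

section
variable {T : Scheme.{u}} (f : T ⟶ G.R) (a b : T ⟶ U') (ha : f ≫ G.t = a ≫ u)
  (hb : f ≫ G.s = b ≫ u)

theorem liftR_ι : liftR G u f a b ha hb ≫ ιR G u = f := by
  unfold liftR ιR
  rw [pullback.lift_fst_assoc, liftV_ι]

theorem liftR_t : liftR G u f a b ha hb ≫ t' G u = a := by
  unfold liftR t'
  rw [pullback.lift_fst_assoc, liftV_τ]

theorem liftR_s : liftR G u f a b ha hb ≫ s' G u = b := pullback.lift_snd _ _ _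

end

theorem R'_hom_ext {T : Scheme.{u}} {a b : T ⟶ R' G u} (h1 : a ≫ ιR G u = b ≫ ιR G u)
    (h2 : a ≫ t' G u = b ≫ t' G u) (h3 : a ≫ s' G u = b ≫ s' G u) : a = b := by
  apply pullback.hom_ext
  · apply V_hom_ext
    · exact (Category.assoc _ _ _).trans (h1.trans (Category.assoc _ _ _).symm)
    · exact (Category.assoc _ _ _).trans (h2.trans (Category.assoc _ _ _).symm)
  · exact h3

instance mono_ιR [Mono u] : Mono (ιR G u) := by
  constructor
  intro T a b h
  have h2 : a ≫ t' G u = b ≫ t' G u := by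
    rw [← cancel_mono u, Category.assoc, Category.assoc, ht, reassoc_of% h]
  have h3 : a ≫ s' G u = b ≫ s' G u := by
    rw [← cancel_mono u, Category.assoc, Category.assoc, hs, reassoc_of% h]
  exact R'_hom_ext G u h h2 h3

/-- the restricted identity. -/
noncomputable def e' : U' ⟶ R' G u :=
  liftR G u (u ≫ G.e) (𝟙 _) (𝟙 _)
    (by rw [Category.assoc, G.e_t, Category.comp_id, Category.id_comp])
    (by rw [Category.assoc, G.e_s, Category.comp_id, Category.id_comp])

theorem he : e' G u ≫ ιR G u = u ≫ G.e := liftR_ι _ _ _ _ _ _ _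

/-- the restricted inverse. -/
noncomputable def i' : R' G u ⟶ R' G u :=
  liftR G u (ιR G u ≫ G.i) (s' G u) (t' G u)
    (by rw [Category.assoc, G.i_t, hs]) (by rw [Category.assoc, G.i_s, ht])

theorem hi : i' G u ≫ ιR G u = ιR G u ≫ G.i := liftR_ι _ _ _ _ _ _ _

/-- the restricted composition. -/
noncomputable def c' : pullback (s' G u) (t' G u) ⟶ R' G u :=
  liftR G u
    (pullback.map (s' G u) (t' G u) G.s G.t (ιR G u) (ιR G u) u (hs G u) (ht G u) ≫ G.c)
    (pullback.fst _ _ ≫ t' G u) (pullback.snd _ _ ≫ s' G u)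
    (by
      rw [Category.assoc, Groth.Agent.S1880.c_t, pullback.lift_fst_assoc, Category.assoc,
        Category.assoc, ht])
    (by
      rw [Category.assoc, Groth.Agent.S1880.c_s, pullback.lift_snd_assoc, Category.assoc,
        Category.assoc, hs])

theorem hc : c' G u ≫ ιR G u =
    pullback.map (s' G u) (t' G u) G.s G.t (ιR G u) (ιR G u) u (hs G u) (ht G u) ≫ G.c :=
  liftR_ι _ _ _ _ _ _ _

variable [Mono u]

/-- the groupoid induced on `U'`. -/
noncomputable def res : Grpd.GroupoidScheme S :=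
  Groth.Agent.Lib.H5bGQ.monoGroupoid G u (ιR G u) (s' G u) (t' G u) (hs G u) (ht G u)
    (c' G u) (hc G u) (e' G u) (he G u) (i' G u) (hi G u)

@[simp] theorem res_U : (res G u).U = U' := rfl
@[simp] theorem res_R : (res G u).R = R' G u := rfl
theorem res_s : (res G u).s = s' G u := rfl
theorem res_t : (res G u).t = t' G u := rfl
theorem res_pU : (res G u).pU = u ≫ G.pU := rfl

instance res_isFinite_s [IsFinite (σ G u)] : IsFinite (res G u).s :=
  inferInstanceAs (IsFinite (pullback.snd (σ G u) u))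

instance res_flat_s [Flat (σ G u)] : Flat (res G u).s :=
  inferInstanceAs (Flat (pullback.snd (σ G u) u))

instance res_lofp_s [LocallyOfFinitePresentation (σ G u)] :
    LocallyOfFinitePresentation (res G u).s :=
  inferInstanceAs (LocallyOfFinitePresentation (pullback.snd (σ G u) u))

omit [Mono u] in
theorem ιR_ext_of_t_s [Mono G.j] {T : Scheme.{u}} (a b : T ⟶ R' G u)
    (h2 : a ≫ t' G u = b ≫ t' G u) (h3 : a ≫ s' G u = b ≫ s' G u) :
    a ≫ ιR G u = b ≫ ιR G u := by
  rw [← cancel_mono G.j]
  apply pullback.hom_ext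
  · simp only [Category.assoc, Grpd.GroupoidScheme.j, pullback.lift_fst]
    rw [← ht, reassoc_of% h2]
  · simp only [Category.assoc, Grpd.GroupoidScheme.j, pullback.lift_snd]
    rw [← hs, reassoc_of% h3]

/-- the restriction has a monomorphic `j` when `G` has. -/
theorem mono_res_j [Mono G.j] : Mono (res G u).j := by
  constructor
  intro T (a : T ⟶ R' G u) (b : T ⟶ R' G u) h
  have h2 : a ≫ t' G u = b ≫ t' G u := by
    have := congrArg (fun φ => φ ≫ pullback.fst (res G u).pU (res G u).pU) h
    simp only [Category.assoc, Grpd.GroupoidScheme.j, pullback.lift_fst] at this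
    exact this
  have h3 : a ≫ s' G u = b ≫ s' G u := by
    have := congrArg (fun φ => φ ≫ pullback.snd (res G u).pU (res G u).pU) h
    simp only [Category.assoc, Grpd.GroupoidScheme.j, pullback.lift_snd] at this
    exact this
  exact R'_hom_ext G u (ιR_ext_of_t_s G u a b h2 h3) h2 h3

end Groth.Agent.Lib.H5bQS
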