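import Mathlib
import Groth.Prelude.Def_Grpd
import Groth.Agent.Lib.H5bQSRes
import Groth.Agent.Lib.H5bOrbit

/-!
# Saturation of a finite piece under a groupoid with closed `j` (helper5)

For a groupoid scheme `G` over `S` with `j = (t, s)` a closed immersion and `u : U' ⟶ U` with
`U' ⟶ S` finite, the map `σ : R ×_{t,U} U' ⟶ U` (source of arrows with target in `U'`) is finite.
Its range (the saturation of `U'`) is invariant.
-/

set_option autoImplicit false
set_option linter.style.haveILetI false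
set_option linter.unusedSectionVars false
set_option linter.unusedSimpArgs false
universe u

open CategoryTheory CategoryTheory.Limits AlgebraicGeometry
open Groth.Agent.Lib.H5bQS Groth.Agent.Lib.H5bRG

namespace Groth.Agent.Lib.H5bLqf

variable {S : Scheme.{u}} (G : Grpd.GroupoidScheme S) {U' : Scheme.{u}} (u : U' ⟶ G.U)

theorem vP_cond : τ G u ≫ u ≫ G.pU = σ G u ≫ G.pU := by
  rw [← Category.assoc, ← ιV_t, Category.assoc, G.t_over, ← ιV_s, Category.assoc, G.s_over]

/-- `V ⟶ U' ×_S U`, an arrow with target in `U'` goes to (target, source). -/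
noncomputable def vP : V G u ⟶ pullback (u ≫ G.pU) G.pU :=
  pullback.lift (τ G u) (σ G u) (vP_cond G u)

/-- `U' ×_S U ⟶ U ×_S U`. -/
noncomputable def pP : pullback (u ≫ G.pU) G.pU ⟶ pullback G.pU G.pU :=
  pullback.lift (pullback.fst _ _ ≫ u) (pullback.snd _ _)
    (by rw [Category.assoc, pullback.condition])

@[reassoc] theorem vP_fst : vP G u ≫ pullback.fst (u ≫ G.pU) G.pU = τ G u := pullback.lift_fst _ _ _
@[reassoc] theorem vP_snd : vP G u ≫ pullback.snd (u ≫ G.pU) G.pU = σ G u := pullback.lift_snd _ _ _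
@[reassoc] theorem pP_fst : pP G u ≫ pullback.fst G.pU G.pU = pullback.fst (u ≫ G.pU) G.pU ≫ u :=
  pullback.lift_fst _ _ _
@[reassoc] theorem pP_snd : pP G u ≫ pullback.snd G.pU G.pU = pullback.snd (u ≫ G.pU) G.pU :=
  pullback.lift_snd _ _ _

theorem j_fst' : G.j ≫ pullback.fst G.pU G.pU = G.t := pullback.lift_fst _ _ _
theorem j_snd' : G.j ≫ pullback.snd G.pU G.pU = G.s := pullback.lift_snd _ _ _

theorem isPullback_vP : IsPullback (vP G u) (ιV G u) (pP G u) G.j := by
  have hw : vP G u ≫ pP G u = ιV G u ≫ G.j := by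
    apply pullback.hom_ext
    · rw [Category.assoc, pP_fst, vP_fst_assoc, Category.assoc, j_fst', ιV_t]
    · rw [Category.assoc, pP_snd, vP_snd, Category.assoc, j_snd', ιV_s]
  have ht : ∀ c : PullbackCone (pP G u) G.j,
      c.snd ≫ G.t = (c.fst ≫ pullback.fst (u ≫ G.pU) G.pU) ≫ u := by
    intro c
    have h1 : (c.fst ≫ pP G u) ≫ pullback.fst G.pU G.pU =
        (c.snd ≫ G.j) ≫ pullback.fst G.pU G.pU := by rw [c.condition]
    rw [Category.assoc, Category.assoc, pP_fst, j_fst'] at h1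
    rw [Category.assoc]
    exact h1.symm
  have hs : ∀ c : PullbackCone (pP G u) G.j,
      c.snd ≫ G.s = c.fst ≫ pullback.snd (u ≫ G.pU) G.pU := by
    intro c
    have h1 : (c.fst ≫ pP G u) ≫ pullback.snd G.pU G.pU =
        (c.snd ≫ G.j) ≫ pullback.snd G.pU G.pU := by rw [c.condition]
    rw [Category.assoc, Category.assoc, pP_snd, j_snd'] at h1
    exact h1.symm
  let L : ∀ c : PullbackCone (pP G u) G.j, c.pt ⟶ V G u := fun c =>
    liftV G u c.snd (c.fst ≫ pullback.fst (u ≫ G.pU) G.pU) (ht c)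
  have hL1 : ∀ c, L c ≫ vP G u = c.fst := by
    intro c
    apply pullback.hom_ext
    · rw [Category.assoc, vP_fst, liftV_τ]
    · rw [Category.assoc, vP_snd, liftV_σ, hs c]
  have hL2 : ∀ c, L c ≫ ιV G u = c.snd := fun c => liftV_ι _ _ _ _ _
  refine ⟨⟨hw⟩, ⟨PullbackCone.IsLimit.mk _ L hL1 hL2 (fun c m h1 h2 => ?_)⟩⟩
  apply V_hom_ext
  · rw [h2, hL2]
  · have e1 : m ≫ τ G u = c.fst ≫ pullback.fst (u ≫ G.pU) G.pU := by
      rw [← vP_fst, ← Category.assoc, h1]
    rw [e1, liftV_τ]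

instance isClosedImmersion_vP [IsClosedImmersion G.j] : IsClosedImmersion (vP G u) :=
  MorphismProperty.of_isPullback (P := @IsClosedImmersion) (isPullback_vP G u).flip inferInstance

theorem σ_eq_vP : σ G u = vP G u ≫ pullback.snd (u ≫ G.pU) G.pU := (vP_snd G u).symm

/-- if `U' ⟶ S` is finite and `j` is a closed immersion then `σ` is finite. -/
instance isFinite_σ [IsClosedImmersion G.j] [IsFinite (u ≫ G.pU)] : IsFinite (σ G u) := by
  rw [σ_eq_vP]
  infer_instance

instance etale_σ [IsOpenImmersion u] [Etale G.s] : Etale (σ G u) := by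
  unfold σ
  infer_instance

/-- points of the saturation. -/
theorem mem_range_σ (x : G.U) :
    x ∈ Set.range (σ G u) ↔ ∃ r : G.R, G.s r = x ∧ G.t r ∈ Set.range u := by
  constructor
  · rintro ⟨v, rfl⟩
    refine ⟨ιV G u v, ?_, τ G u v, ?_⟩
    · rw [← Scheme.Hom.comp_apply, ιV_s]
    · rw [← Scheme.Hom.comp_apply, ← Scheme.Hom.comp_apply, ιV_t]
  · rintro ⟨r, rfl, u', hu'⟩
    obtain ⟨v, hv1, hv2⟩ := Scheme.Pullback.exists_preimage_pullback (f := G.t) (g := u) r u'
      hu'.symm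
    refine ⟨v, ?_⟩
    show (pullback.fst G.t u ≫ G.s) v = G.s r
    rw [Scheme.Hom.comp_apply, hv1]

/-- the saturation is invariant. -/
theorem s_mem_range_σ_iff (r : G.R) :
    G.s r ∈ Set.range (σ G u) ↔ G.t r ∈ Set.range (σ G u) := by
  rw [mem_range_σ, mem_range_σ]
  constructor
  · rintro ⟨r₁, h1, h2⟩
    have o1 : Orb G (G.s r) (G.t r₁) := ⟨r₁, h1, rfl⟩
    have o2 : Orb G (G.s r) (G.t r) := Orb.s_t r
    obtain ⟨r₂, h3, h4⟩ := o2.symm.trans o1
    exact ⟨r₂, h3, h4 ▸ h2⟩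
  · rintro ⟨r₁, h1, h2⟩
    have o1 : Orb G (G.t r) (G.t r₁) := ⟨r₁, h1, rfl⟩
    have o2 : Orb G (G.s r) (G.t r) := Orb.s_t r
    obtain ⟨r₂, h3, h4⟩ := o2.trans o1
    exact ⟨r₂, h3, h4 ▸ h2⟩

theorem isClosed_range_σ [IsClosedImmersion G.j] [IsFinite (u ≫ G.pU)] :
    IsClosed (Set.range (σ G u)) :=
  (σ G u).isClosedMap.isClosed_range

theorem isOpen_range_σ [IsOpenImmersion u] [Etale G.s] : IsOpen (Set.range (σ G u)) :=
  (σ G u).isOpenMap.isOpen_range

end Groth.Agent.Lib.H5bLqf
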