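import Mathlib
import Groth.Agent.S0112
import Groth.Agent.S0113
import Groth.Agent.Lib.Helper20EtSrc

/-!
# Locally of finite type / presentation are fppf local on the source (schemes)
-/

set_option autoImplicit false
universe u

namespace Groth.Agent.Lib.H5bFppfSrc

open AlgebraicGeometry CategoryTheory Limits MorphismProperty

/-- Pointwise descent along a flat, locally finitely presented morphism to the source. -/
theorem exists_appLE_of_fppf_source {P : MorphismProperty Scheme.{u}}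
    {Q : ∀ {R S : Type u} [CommRing R] [CommRing S], (R →+* S) → Prop}
    [HasRingHomProperty P Q]
    (hdesc : ∀ {R A B : Type u} [CommRing R] [CommRing A] [CommRing B] (φ : R →+* A)
      (ψ : A →+* B), ψ.Flat → ψ.FinitePresentation →
        Function.Surjective (PrimeSpectrum.comap ψ) → Q (ψ.comp φ) → Q φ)
    {X' X Y : Scheme.{u}} (f : X' ⟶ X) (g : X ⟶ Y) [Flat f] [LocallyOfFinitePresentation f]
    (h : P (f ≫ g)) (x' : X') :
    ∃ (U : Y.affineOpens) (V : X.affineOpens) (_ : f x' ∈ V.1) (e : V.1 ≤ g ⁻¹ᵁ U.1),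
      Q (g.appLE U V e).hom := by
  obtain ⟨U, hU, hgx, -⟩ := TopologicalSpace.Opens.isBasis_iff_nbhd.mp Y.isBasis_affineOpens
    (TopologicalSpace.Opens.mem_top (g (f x')))
  obtain ⟨V₀, hV₀, hxV₀, eV₀⟩ := TopologicalSpace.Opens.isBasis_iff_nbhd.mp X.isBasis_affineOpens
    (show f x' ∈ g ⁻¹ᵁ U from hgx)
  obtain ⟨W₀, hW₀, hxW₀, eW₀⟩ := TopologicalSpace.Opens.isBasis_iff_nbhd.mp X'.isBasis_affineOpens
    (show x' ∈ f ⁻¹ᵁ V₀ from hxV₀)
  let O : X.Opens := ⟨f '' W₀, f.isOpenMap _ W₀.isOpen⟩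
  obtain ⟨a, haO, hxa⟩ := hV₀.exists_basicOpen_le (V := O) ⟨f x', ⟨x', hxW₀, rfl⟩⟩ hxV₀
  let V : X.Opens := X.basicOpen a
  have hV : IsAffineOpen V := hV₀.basicOpen a
  let W : X'.Opens := X'.basicOpen (f.appLE V₀ W₀ eW₀ a)
  have hW : IsAffineOpen W := hW₀.basicOpen _
  have hWeq : W = W₀ ⊓ f ⁻¹ᵁ V := Scheme.basicOpen_appLE f W₀ V₀ eW₀ a
  have eW : W ≤ f ⁻¹ᵁ V := hWeq ▸ inf_le_right
  have eV : V ≤ g ⁻¹ᵁ U := (X.basicOpen_le a).trans eV₀
  refine ⟨⟨U, hU⟩, ⟨V, hV⟩, hxa, eV, ?_⟩
  apply hdesc (g.appLE U V eV).hom (f.appLE V W eW).hom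
  · exact HasRingHomProperty.appLE (P := @Flat) f inferInstance ⟨V, hV⟩ ⟨W, hW⟩ eW
  · exact HasRingHomProperty.appLE (P := @LocallyOfFinitePresentation) f inferInstance
      ⟨V, hV⟩ ⟨W, hW⟩ eW
  · apply Groth.Agent.Lib.Helper20.EtSrc.comap_appLE_surjective f hV hW eW
    intro y hy
    obtain ⟨w, hw, rfl⟩ := haO hy
    exact ⟨w, hWeq ▸ ⟨hw, hy⟩, rfl⟩
  · rw [← CommRingCat.hom_comp, Scheme.Hom.appLE_comp_appLE]
    exact HasRingHomProperty.appLE (P := P) _ h ⟨U, hU⟩ ⟨W, hW⟩ _

/-- Generic: a property with a ring-theoretic fppf descent is fppf local at the source. -/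
theorem isLocalAtSource_fppf {P : MorphismProperty Scheme.{u}}
    {Q : ∀ {R S : Type u} [CommRing R] [CommRing S], (R →+* S) → Prop}
    [HasRingHomProperty P Q]
    (hQ : RingHom.StableUnderCompositionWithLocalizationAwaySource Q)
    (hdesc : ∀ {R A B : Type u} [CommRing R] [CommRing A] [CommRing B] (φ : R →+* A)
      (ψ : A →+* B), ψ.Flat → ψ.FinitePresentation →
        Function.Surjective (PrimeSpectrum.comap ψ) → Q (ψ.comp φ) → Q φ)
    (hcomp : ∀ {X' X Y : Scheme.{u}} (j : X' ⟶ X) (f : X ⟶ Y), Flat j →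
      LocallyOfFinitePresentation j → P f → P (j ≫ f)) :
    P.IsLocalAtSource Scheme.fppfPrecoverage := by
  have : P.RespectsIso := inferInstance
  refine MorphismProperty.IsLocalAtSource.mk_of_iff_of_zeroHypercover ?_
  intro X Y f 𝒰
  have hmem := (Scheme.ofArrows_mem_precoverage_iff
    (@Flat ⊓ @LocallyOfFinitePresentation)).1 𝒰.mem₀
  constructor
  · intro hf i
    exact hcomp _ _ (hmem.2 i).1 (hmem.2 i).2 hf
  · intro hi
    rw [HasRingHomProperty.iff_exists_appLE (P := P) hQ]
    intro x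
    obtain ⟨i, x', rfl⟩ := hmem.1 x
    have : Flat (𝒰.f i) := (hmem.2 i).1
    have : LocallyOfFinitePresentation (𝒰.f i) := (hmem.2 i).2
    exact exists_appLE_of_fppf_source (P := P) hdesc (𝒰.f i) f (hi i) x'

theorem locallyOfFiniteType_isLocalAtSource_fppf :
    MorphismProperty.IsLocalAtSource (@LocallyOfFiniteType : MorphismProperty Scheme.{u})
      Scheme.fppfPrecoverage := by
  refine isLocalAtSource_fppf (P := @LocallyOfFiniteType) (Q := @RingHom.FiniteType) ?_ ?_ ?_
  · intro R S T _ _ _ _ r _ φ hφ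
    exact hφ.comp (RingHom.finiteType_holdsForLocalizationAway S r)
  · intro R A B _ _ _ φ ψ hψ1 hψ2 hs hc
    algebraize [φ, ψ, ψ.comp φ]
    have : Module.Flat A B := hψ1
    have : Algebra.FinitePresentation A B := hψ2
    have : Algebra.FiniteType R B := hc
    have : Module.FaithfullyFlat A B := Module.FaithfullyFlat.of_comap_surjective hs
    exact Groth.Agent.S0113.result (R := R) (A := A) (B := B)
  · intro X' X Y j f hj1 hj2 hf
    have : LocallyOfFiniteType f := hf
    show LocallyOfFiniteType (j ≫ f)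
    infer_instance

theorem locallyOfFinitePresentation_isLocalAtSource_fppf :
    MorphismProperty.IsLocalAtSource
      (@LocallyOfFinitePresentation : MorphismProperty Scheme.{u}) Scheme.fppfPrecoverage := by
  refine isLocalAtSource_fppf (P := @LocallyOfFinitePresentation)
    (Q := @RingHom.FinitePresentation) ?_ ?_ ?_
  · intro R S T _ _ _ _ r _ φ hφ
    exact hφ.comp (RingHom.finitePresentation_holdsForLocalizationAway S r)
  · intro R A B _ _ _ φ ψ hψ1 hψ2 hs hc
    algebraize [φ, ψ, ψ.comp φ]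
    have : Module.Flat A B := hψ1
    have : Algebra.FinitePresentation A B := hψ2
    have : Algebra.FinitePresentation R B := hc
    have : Module.FaithfullyFlat A B := Module.FaithfullyFlat.of_comap_surjective hs
    exact Groth.Agent.S0112.result (R := R) (A := A) (B := B)
  · intro X' X Y j f hj1 hj2 hf
    have : LocallyOfFinitePresentation f := hf
    show LocallyOfFinitePresentation (j ≫ f)
    infer_instance

end Groth.Agent.Lib.H5bFppfSrc
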