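import Mathlib
import Groth.Prelude.Def_Grpd
import Groth.Agent.Lib.H5bQSRes
import Groth.Agent.S10557

/-!
# Quotient of a groupoid scheme with a quasi-section (helper5)

Given a monomorphism `u : U' ⟶ U` such that `σ : V = R ×_{t,U} U' ⟶ U` is flat, locally of finite
presentation and surjective, and a coequalizer `p' : U' ⟶ Y` of the restricted groupoid, we construct
`pQ : U ⟶ Y` with `σ ≫ pQ = τ ≫ p'` and transfer the properties of `p'` to `pQ`.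
-/

set_option autoImplicit false
set_option linter.style.haveILetI false
set_option linter.unusedSectionVars false
set_option linter.unusedSimpArgs false
universe u

open CategoryTheory CategoryTheory.Limits AlgebraicGeometry
open Groth.Agent.Lib.Helper2.Grpd

namespace Groth.Agent.Lib.H5bQS

variable {S : Scheme.{u}} (G : Grpd.GroupoidScheme S) {U' : Scheme.{u}} (u : U' ⟶ G.U)
  {Y : Scheme.{u}} (p' : U' ⟶ Y) (w' : t' G u ≫ p' = s' G u ≫ p')

include w' in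
theorem desc_cond {Z : Scheme.{u}} (g₁ g₂ : Z ⟶ V G u) (h : g₁ ≫ σ G u = g₂ ≫ σ G u) :
    g₁ ≫ τ G u ≫ p' = g₂ ≫ τ G u ≫ p' := by
  have hh : (g₁ ≫ ιV G u) ≫ G.s = ((g₂ ≫ ιV G u) ≫ G.i) ≫ G.t := by
    rw [Category.assoc, Category.assoc, Category.assoc, G.i_t, ιV_s, h]
  obtain ⟨ρ, hρ⟩ : ∃ ρ, ρ = comp G (g₁ ≫ ιV G u) ((g₂ ≫ ιV G u) ≫ G.i) hh := ⟨_, rfl⟩
  have hρt : ρ ≫ G.t = (g₁ ≫ τ G u) ≫ u := by
    rw [hρ, comp_t, Category.assoc, ιV_t, Category.assoc]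
  have hρs : ρ ≫ G.s = (g₂ ≫ τ G u) ≫ u := by
    rw [hρ, comp_s, Category.assoc, G.i_s, Category.assoc, ιV_t, Category.assoc]
  calc g₁ ≫ τ G u ≫ p' = (liftR G u ρ _ _ hρt hρs ≫ t' G u) ≫ p' := by
        rw [liftR_t, Category.assoc]
    _ = (liftR G u ρ _ _ hρt hρs ≫ s' G u) ≫ p' := by
        rw [Category.assoc, w', ← Category.assoc]
    _ = g₂ ≫ τ G u ≫ p' := by rw [liftR_s, Category.assoc]

/-- the unit arrows with target in `U'`. -/
noncomputable def v₀ : U' ⟶ V G u :=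
  liftV G u (u ≫ G.e) (𝟙 _) (by rw [Category.assoc, G.e_t, Category.comp_id, Category.id_comp])

theorem v₀_σ : v₀ G u ≫ σ G u = u := by
  rw [v₀, liftV_σ, Category.assoc, G.e_s, Category.comp_id]

theorem v₀_τ : v₀ G u ≫ τ G u = 𝟙 _ := liftV_τ _ _ _ _ _

variable [Flat (σ G u)] [LocallyOfFinitePresentation (σ G u)] [Surjective (σ G u)]

/-- the quotient morphism `U ⟶ Y`. -/
noncomputable def pQ : G.U ⟶ Y :=
  EffectiveEpi.desc (σ G u) (τ G u ≫ p') (fun g₁ g₂ h => desc_cond G u p' w' g₁ g₂ h)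

theorem σ_pQ : σ G u ≫ pQ G u p' w' = τ G u ≫ p' := EffectiveEpi.fac _ _ _

theorem u_pQ : u ≫ pQ G u p' w' = p' := by
  calc u ≫ pQ G u p' w' = (v₀ G u ≫ σ G u) ≫ pQ G u p' w' := by rw [v₀_σ]
    _ = p' := by rw [Category.assoc, σ_pQ, ← Category.assoc, v₀_τ, Category.id_comp]

theorem pQ_w : G.t ≫ pQ G u p' w' = G.s ≫ pQ G u p' w' := by
  haveI : Epi (pullback.snd (σ G u) G.t) := Flat.epi_of_flat_of_surjective _
  rw [← cancel_epi (pullback.snd (σ G u) G.t)]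
  obtain ⟨a₁, ha₁⟩ : ∃ a₁, a₁ = pullback.fst (σ G u) G.t := ⟨_, rfl⟩
  obtain ⟨a₂, ha₂⟩ : ∃ a₂, a₂ = pullback.snd (σ G u) G.t := ⟨_, rfl⟩
  rw [← ha₂]
  have hc : a₁ ≫ σ G u = a₂ ≫ G.t := by rw [ha₁, ha₂]; exact pullback.condition
  have hh : (a₁ ≫ ιV G u) ≫ G.s = a₂ ≫ G.t := by rw [Category.assoc, ιV_s, hc]
  obtain ⟨ρ, hρ⟩ : ∃ ρ, ρ = comp G (a₁ ≫ ιV G u) a₂ hh := ⟨_, rfl⟩
  have hρt : ρ ≫ G.t = (a₁ ≫ τ G u) ≫ u := by
    rw [hρ, comp_t, Category.assoc, ιV_t, Category.assoc]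
  have hρs : ρ ≫ G.s = a₂ ≫ G.s := by rw [hρ, comp_s]
  calc a₂ ≫ G.t ≫ pQ G u p' w' = a₁ ≫ σ G u ≫ pQ G u p' w' := by
        rw [← Category.assoc, ← hc, Category.assoc]
    _ = a₁ ≫ τ G u ≫ p' := by rw [σ_pQ]
    _ = (liftV G u ρ (a₁ ≫ τ G u) hρt ≫ τ G u) ≫ p' := by rw [liftV_τ, Category.assoc]
    _ = liftV G u ρ (a₁ ≫ τ G u) hρt ≫ σ G u ≫ pQ G u p' w' := by rw [Category.assoc, σ_pQ]
    _ = a₂ ≫ G.s ≫ pQ G u p' w' := by rw [← Category.assoc, liftV_σ, hρs, Category.assoc]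

theorem exists_unique_desc
    (huniv' : ∀ (Z : Scheme.{u}) (h : U' ⟶ Z), t' G u ≫ h = s' G u ≫ h →
      ∃! k : Y ⟶ Z, p' ≫ k = h)
    (Z : Scheme.{u}) (h : G.U ⟶ Z) (hh : G.t ≫ h = G.s ≫ h) :
    ∃! k : Y ⟶ Z, pQ G u p' w' ≫ k = h := by
  have h1 : t' G u ≫ u ≫ h = s' G u ≫ u ≫ h := by
    rw [← Category.assoc, ht, Category.assoc, hh, ← Category.assoc, ← hs, Category.assoc]
  obtain ⟨k, hk, hk'⟩ := huniv' Z (u ≫ h) h1
  refine ⟨k, ?_, ?_⟩
  · haveI : Epi (σ G u) := Flat.epi_of_flat_of_surjective _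
    show pQ G u p' w' ≫ k = h
    rw [← cancel_epi (σ G u), ← Category.assoc, σ_pQ, Category.assoc, hk,
      ← Category.assoc, ← ιV_t, Category.assoc, hh, ← Category.assoc, ιV_s]
  · intro k' hk2
    apply hk'
    show p' ≫ k' = u ≫ h
    rw [← u_pQ G u p' w', Category.assoc, hk2]

theorem surjective_pQ [Surjective p'] : Surjective (pQ G u p' w') := by
  haveI : Surjective (u ≫ pQ G u p' w') := by rw [u_pQ]; infer_instance
  exact Surjective.of_comp u _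

theorem pQ_σ_apply (v : V G u) : pQ G u p' w' (σ G u v) = p' (τ G u v) := by
  rw [← Scheme.Hom.comp_apply, σ_pQ, Scheme.Hom.comp_apply]

theorem image_pQ (O : Set G.U) :
    pQ G u p' w' '' O = p' '' (u ⁻¹' (G.t '' (G.s ⁻¹' O))) := by
  ext y
  constructor
  · rintro ⟨x, hx, rfl⟩
    obtain ⟨v, rfl⟩ := (σ G u).surjective x
    refine ⟨τ G u v, ⟨ιV G u v, ?_, ?_⟩, (pQ_σ_apply G u p' w' v).symm⟩
    · show G.s (ιV G u v) ∈ O
      rw [← Scheme.Hom.comp_apply, ιV_s]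
      exact hx
    · rw [← Scheme.Hom.comp_apply, ιV_t, Scheme.Hom.comp_apply]
  · rintro ⟨x', ⟨r, hr, hrx⟩, rfl⟩
    obtain ⟨v, hv1, hv2⟩ := Scheme.Pullback.exists_preimage_pullback (f := G.t) (g := u) r x' hrx
    refine ⟨σ G u v, ?_, ?_⟩
    · show (pullback.fst G.t u ≫ G.s) v ∈ O
      rw [Scheme.Hom.comp_apply, hv1]
      exact hr
    · rw [pQ_σ_apply]
      show p' (pullback.snd G.t u v) = p' x'
      rw [hv2]

theorem isOpenMap_pQ (hp' : IsOpenMap p') (ht : IsOpenMap G.t) : IsOpenMap (pQ G u p' w') := by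
  intro O hO
  rw [image_pQ]
  exact hp' _ ((ht _ (hO.preimage G.s.continuous)).preimage u.continuous)

theorem universallyClosed_pQ [UniversallyClosed p'] [UniversallyClosed G.t] :
    UniversallyClosed (pQ G u p' w') := by
  haveI : UniversallyClosed (τ G u) := inferInstanceAs (UniversallyClosed (pullback.snd G.t u))
  haveI : UniversallyClosed (σ G u ≫ pQ G u p' w') := by rw [σ_pQ]; infer_instance
  exact UniversallyClosed.of_comp_surjective (σ G u) _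

theorem flat_pQ [Flat p'] [Flat G.t] : Flat (pQ G u p' w') := by
  haveI : Flat (τ G u) := inferInstanceAs (Flat (pullback.snd G.t u))
  have h1 : Flat (σ G u ≫ pQ G u p' w') := by rw [σ_pQ]; infer_instance
  refine Groth.Agent.S10557.flat_of_hasLocalSections (σ G u) _ ?_ h1
  intro x
  obtain ⟨v, hv⟩ := (σ G u).surjective x
  refine ⟨V G u, 𝟙 _, v, hv, ?_, ?_⟩
  · rw [Category.id_comp]; infer_instance
  · rw [Category.id_comp]; infer_instance

end Groth.Agent.Lib.H5bQS
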