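import Mathlib
import Groth.Prelude.Def_Grpd
import Groth.Agent.Lib.H5bQSMain

/-!
# Quotient of a groupoid scheme with a quasi-section: the comparison `R ⟶ U ×_Y U` (helper5)

`surjective_jQ`: `R ⟶ U ×_Y U` is surjective when `R' ⟶ U' ×_Y U'` is.
`isIso_jQ`: `R ⟶ U ×_Y U` is an isomorphism when `j` is a monomorphism and `R' ⟶ U' ×_Y U'` is an
isomorphism.
-/

set_option autoImplicit false
set_option linter.style.haveILetI false
set_option linter.unusedSectionVars false
set_option linter.unusedSimpArgs false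
universe u

open CategoryTheory CategoryTheory.Limits AlgebraicGeometry
open Groth.Agent.Lib.Helper2.Grpd

namespace Groth.Agent.Lib.H5bQS

variable {S : Scheme.{u}} (G : Grpd.GroupoidScheme S) {U' : Scheme.{u}} (u : U' ⟶ G.U)
  {Y : Scheme.{u}} (p' : U' ⟶ Y) (w' : t' G u ≫ p' = s' G u ≫ p')
  [Flat (σ G u)] [LocallyOfFinitePresentation (σ G u)] [Surjective (σ G u)]

/-- `U ×_Y U`. -/
noncomputable abbrev PP : Scheme.{u} := pullback (pQ G u p' w') (pQ G u p' w')

/-- the comparison `R ⟶ U ×_Y U`. -/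
noncomputable def jQ : G.R ⟶ PP G u p' w' := pullback.lift G.t G.s (pQ_w G u p' w')

/-- the comparison `R' ⟶ U' ×_Y U'`. -/
noncomputable def jQ' : R' G u ⟶ pullback p' p' := pullback.lift (t' G u) (s' G u) w'

/-- `V ×_U (U ×_Y U)` along the first projection. -/
noncomputable abbrev PA : Scheme.{u} :=
  pullback (σ G u) (pullback.fst (pQ G u p' w') (pQ G u p' w'))

noncomputable def zA : PA G u p' w' ⟶ PP G u p' w' := pullback.snd _ _

noncomputable def v₁A : PA G u p' w' ⟶ V G u := pullback.fst _ _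

theorem v₁A_σ : v₁A G u p' w' ≫ σ G u =
    zA G u p' w' ≫ pullback.fst (pQ G u p' w') (pQ G u p' w') := pullback.condition

/-- `V ×_U (V ×_U (U ×_Y U))` along the second projection. -/
noncomputable abbrev PB : Scheme.{u} :=
  pullback (σ G u) (zA G u p' w' ≫ pullback.snd (pQ G u p' w') (pQ G u p' w'))

noncomputable def yB : PB G u p' w' ⟶ PA G u p' w' := pullback.snd _ _

noncomputable def v₂B : PB G u p' w' ⟶ V G u := pullback.fst _ _

noncomputable def πB : PB G u p' w' ⟶ PP G u p' w' := yB G u p' w' ≫ zA G u p' w'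

noncomputable def v₁B : PB G u p' w' ⟶ V G u := yB G u p' w' ≫ v₁A G u p' w'

theorem v₁B_σ : v₁B G u p' w' ≫ σ G u =
    πB G u p' w' ≫ pullback.fst (pQ G u p' w') (pQ G u p' w') := by
  unfold v₁B πB
  rw [Category.assoc, v₁A_σ, Category.assoc]

theorem v₂B_σ : v₂B G u p' w' ≫ σ G u =
    πB G u p' w' ≫ pullback.snd (pQ G u p' w') (pQ G u p' w') := by
  unfold v₂B πB yB
  rw [Category.assoc]
  exact pullback.condition

instance : Surjective (zA G u p' w') := by unfold zA; infer_instance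
instance : Flat (zA G u p' w') := by unfold zA; infer_instance
instance : LocallyOfFinitePresentation (zA G u p' w') := by unfold zA; infer_instance
instance : Surjective (yB G u p' w') := by unfold yB; infer_instance
instance : Flat (yB G u p' w') := by unfold yB; infer_instance
instance : LocallyOfFinitePresentation (yB G u p' w') := by unfold yB; infer_instance
instance : Surjective (πB G u p' w') := by unfold πB; infer_instance
instance : Flat (πB G u p' w') := by unfold πB; infer_instance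
instance : LocallyOfFinitePresentation (πB G u p' w') := by unfold πB; infer_instance

/-- the induced map to `U' ×_Y U'`. -/
noncomputable def qB : PB G u p' w' ⟶ pullback p' p' :=
  pullback.lift (v₁B G u p' w' ≫ τ G u) (v₂B G u p' w' ≫ τ G u) (by
    rw [Category.assoc, Category.assoc, ← σ_pQ G u p' w', ← Category.assoc, ← Category.assoc,
      v₁B_σ, v₂B_σ, Category.assoc, Category.assoc, pullback.condition])

theorem exists_lift_of {C : Scheme.{u}} (c₁ : C ⟶ PB G u p' w') (c₂ : C ⟶ R' G u)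
    (hc : c₁ ≫ qB G u p' w' = c₂ ≫ jQ' G u p' w') :
    ∃ ρ : C ⟶ G.R, ρ ≫ jQ G u p' w' = c₁ ≫ πB G u p' w' := by
  have hc1 : c₂ ≫ t' G u = c₁ ≫ v₁B G u p' w' ≫ τ G u := by
    have := congrArg (fun φ => φ ≫ pullback.fst p' p') hc
    simp only [Category.assoc, qB, jQ', pullback.lift_fst] at this
    exact this.symm
  have hc2 : c₂ ≫ s' G u = c₁ ≫ v₂B G u p' w' ≫ τ G u := by
    have := congrArg (fun φ => φ ≫ pullback.snd p' p') hc
    simp only [Category.assoc, qB, jQ', pullback.lift_snd] at this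
    exact this.symm
  obtain ⟨r₁, hr₁⟩ : ∃ r₁ : C ⟶ G.R, r₁ = c₁ ≫ v₁B G u p' w' ≫ ιV G u := ⟨_, rfl⟩
  obtain ⟨r₂, hr₂⟩ : ∃ r₂ : C ⟶ G.R, r₂ = c₁ ≫ v₂B G u p' w' ≫ ιV G u := ⟨_, rfl⟩
  obtain ⟨r, hr⟩ : ∃ r : C ⟶ G.R, r = c₂ ≫ ιR G u := ⟨_, rfl⟩
  have hrt : r ≫ G.t = r₁ ≫ G.t := by
    rw [hr, hr₁, Category.assoc, ← ht, reassoc_of% hc1, Category.assoc, Category.assoc, ιV_t]
  have hrs : r ≫ G.s = r₂ ≫ G.t := by
    rw [hr, hr₂, Category.assoc, ← hs, reassoc_of% hc2, Category.assoc, Category.assoc, ιV_t]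
  have hr₁s : r₁ ≫ G.s = c₁ ≫ πB G u p' w' ≫ pullback.fst (pQ G u p' w') (pQ G u p' w') := by
    rw [hr₁, Category.assoc, Category.assoc, ιV_s, v₁B_σ]
  have hr₂s : r₂ ≫ G.s = c₁ ≫ πB G u p' w' ≫ pullback.snd (pQ G u p' w') (pQ G u p' w') := by
    rw [hr₂, Category.assoc, Category.assoc, ιV_s, v₂B_σ]
  have h1 : (r₁ ≫ G.i) ≫ G.s = r ≫ G.t := by rw [Category.assoc, G.i_s, hrt]
  have h2 : comp G (r₁ ≫ G.i) r h1 ≫ G.s = r₂ ≫ G.t := by rw [comp_s, hrs]
  refine ⟨comp G (comp G (r₁ ≫ G.i) r h1) r₂ h2, ?_⟩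
  apply pullback.hom_ext
  · rw [Category.assoc, jQ, pullback.lift_fst, comp_t, comp_t, Category.assoc, G.i_t, hr₁s,
      Category.assoc]
  · rw [Category.assoc, jQ, pullback.lift_snd, comp_s, hr₂s, Category.assoc]

theorem surjective_jQ (hj' : Function.Surjective (jQ' G u p' w')) :
    Function.Surjective (jQ G u p' w') := by
  haveI : Surjective (jQ' G u p' w') := ⟨hj'⟩
  intro x
  obtain ⟨b, rfl⟩ := (πB G u p' w').surjective x
  obtain ⟨c, rfl⟩ := (pullback.fst (qB G u p' w') (jQ' G u p' w')).surjective b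
  obtain ⟨ρ, hρ⟩ := exists_lift_of G u p' w' (pullback.fst (qB G u p' w') (jQ' G u p' w'))
    (pullback.snd _ _) pullback.condition
  exact ⟨ρ c, by rw [← Scheme.Hom.comp_apply, hρ, Scheme.Hom.comp_apply]⟩

theorem mono_jQ [Mono G.j] : Mono (jQ G u p' w') := by
  constructor
  intro T a b h
  have h1 : a ≫ G.t = b ≫ G.t := by
    have := congrArg (fun φ => φ ≫ pullback.fst (pQ G u p' w') (pQ G u p' w')) h
    simp only [Category.assoc, jQ, pullback.lift_fst] at this
    exact this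
  have h2 : a ≫ G.s = b ≫ G.s := by
    have := congrArg (fun φ => φ ≫ pullback.snd (pQ G u p' w') (pQ G u p' w')) h
    simp only [Category.assoc, jQ, pullback.lift_snd] at this
    exact this
  rw [← cancel_mono G.j]
  apply pullback.hom_ext
  · simp only [Category.assoc, Grpd.GroupoidScheme.j, pullback.lift_fst, h1]
  · simp only [Category.assoc, Grpd.GroupoidScheme.j, pullback.lift_snd, h2]

theorem isIso_jQ [Mono G.j] [IsIso (jQ' G u p' w')] : IsIso (jQ G u p' w') := by
  obtain ⟨ρ, hρ⟩ := exists_lift_of G u p' w' (𝟙 _) (qB G u p' w' ≫ inv (jQ' G u p' w'))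
    (by rw [Category.id_comp, Category.assoc, IsIso.inv_hom_id, Category.comp_id])
  rw [Category.id_comp] at hρ
  haveI : Mono (jQ G u p' w') := mono_jQ G u p' w'
  have hcond : ∀ {Z : Scheme.{u}} (g₁ g₂ : Z ⟶ PB G u p' w'),
      g₁ ≫ πB G u p' w' = g₂ ≫ πB G u p' w' → g₁ ≫ ρ = g₂ ≫ ρ := by
    intro Z g₁ g₂ h
    rw [← cancel_mono (jQ G u p' w'), Category.assoc, Category.assoc, hρ, h]
  obtain ⟨g, hg⟩ : ∃ g, πB G u p' w' ≫ g = ρ :=
    ⟨EffectiveEpi.desc (πB G u p' w') ρ hcond, EffectiveEpi.fac _ _ _⟩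
  haveI : Epi (πB G u p' w') := Flat.epi_of_flat_of_surjective _
  have h1 : g ≫ jQ G u p' w' = 𝟙 _ := by
    rw [← cancel_epi (πB G u p' w'), ← Category.assoc, hg, hρ, Category.comp_id]
  have h2 : jQ G u p' w' ≫ g = 𝟙 _ := by
    rw [← cancel_mono (jQ G u p' w'), Category.assoc, h1, Category.comp_id, Category.id_comp]
  exact ⟨g, h2, h1⟩

theorem isPullback_pQ [Mono G.j] (hpb : IsPullback (t' G u) (s' G u) p' p') :
    IsPullback G.t G.s (pQ G u p' w') (pQ G u p' w') := by
  haveI : IsIso (jQ' G u p' w') := by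
    have : jQ' G u p' w' = hpb.isoPullback.hom := by
      apply pullback.hom_ext
      · rw [jQ', pullback.lift_fst, IsPullback.isoPullback_hom_fst]
      · rw [jQ', pullback.lift_snd, IsPullback.isoPullback_hom_snd]
    rw [this]
    infer_instance
  haveI := isIso_jQ G u p' w'
  exact IsPullback.of_iso_pullback ⟨pQ_w G u p' w'⟩ (asIso (jQ G u p' w'))
    (pullback.lift_fst _ _ _) (pullback.lift_snd _ _ _)

end Groth.Agent.Lib.H5bQS
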