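import Mathlib
import Groth.Agent.S17968

/-! Henselian couples (helper9): clopen subsets of a scheme vs idempotent global sections (`exists_idem_of_isClopen`, `idem_ext`, `isClopen_basicOpen`), flat base change of global sections along `X.toSpecΓ` (`isIso_snd_appTop`, `mem_map_ker_of_appTop_eq_zero`), and `main`: a henselian couple `(X, X₀)` with `X` qcqs gives a henselian pair `(Γ(X), ker (Γ(X) → Γ(X₀)))` (S17959). -/

set_option autoImplicit false
set_option linter.style.haveILetI false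
set_option linter.unusedSimpArgs false
set_option linter.unusedVariables false
universe u

namespace Groth.Agent.Lib.H9HensCouple

open CategoryTheory CategoryTheory.Limits AlgebraicGeometry TopologicalSpace Opposite TensorProduct

-- ===== part HcA =====
section

/-- An idempotent in a local ring is `0` or `1`. -/
theorem idem_local {R : Type*} [CommRing R] [IsLocalRing R] {e : R} (he : IsIdempotentElem e) :
    e = 0 ∨ e = 1 := by
  have h : e * (1 - e) = 0 := by rw [mul_sub, mul_one, he.eq, sub_self]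
  rcases IsLocalRing.isUnit_or_isUnit_one_sub_self e with hu | hu
  · right
    have := hu.mul_right_eq_zero.mp h
    exact (sub_eq_zero.mp this).symm
  · left
    exact hu.mul_left_eq_zero.mp h

variable {Y : Scheme.{u}}

theorem germ_eq_one {U : Y.Opens} {e : Γ(Y, U)} (he : IsIdempotentElem e) (y : Y) (hy : y ∈ U)
    (hmem : y ∈ Y.basicOpen e) : Y.presheaf.germ U y hy e = 1 := by
  have hu : IsUnit (Y.presheaf.germ U y hy e) := (Y.mem_basicOpen e y hy).mp hmem
  have hi : IsIdempotentElem (Y.presheaf.germ U y hy e) := he.map _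
  rcases idem_local hi with h | h
  · rw [h] at hu
    exact absurd hu not_isUnit_zero
  · exact h

theorem germ_eq_zero {U : Y.Opens} {e : Γ(Y, U)} (he : IsIdempotentElem e) (y : Y) (hy : y ∈ U)
    (hmem : y ∉ Y.basicOpen e) : Y.presheaf.germ U y hy e = 0 := by
  have hu : ¬ IsUnit (Y.presheaf.germ U y hy e) := fun h => hmem ((Y.mem_basicOpen e y hy).mpr h)
  have hi : IsIdempotentElem (Y.presheaf.germ U y hy e) := he.map _
  rcases idem_local hi with h | h
  · exact h
  · rw [h] at hu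
    exact absurd isUnit_one hu

/-- Idempotent sections with the same basic open are equal. -/
theorem idem_ext {U : Y.Opens} {e₁ e₂ : Γ(Y, U)} (h₁ : IsIdempotentElem e₁)
    (h₂ : IsIdempotentElem e₂) (h : Y.basicOpen e₁ = Y.basicOpen e₂) : e₁ = e₂ := by
  refine TopCat.Presheaf.section_ext Y.sheaf U e₁ e₂ ?_
  intro y hy
  by_cases hm : y ∈ Y.basicOpen e₁
  · have e1 := germ_eq_one h₁ y hy hm
    have e2 := germ_eq_one h₂ y hy (h ▸ hm)
    exact e1.trans e2.symm
  · have e1 := germ_eq_zero h₁ y hy hm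
    have e2 := germ_eq_zero h₂ y hy (h ▸ hm)
    exact e1.trans e2.symm

/-- The basic open of an idempotent global section is clopen. -/
theorem isClopen_basicOpen {e : Γ(Y, ⊤)} (he : IsIdempotentElem e) :
    IsClopen ((Y.basicOpen e : Y.Opens) : Set Y) := by
  refine ⟨?_, (Y.basicOpen e).isOpen⟩
  have hc : ((Y.basicOpen e : Y.Opens) : Set Y)ᶜ = ((Y.basicOpen (1 - e) : Y.Opens) : Set Y) := by
    ext y
    simp only [Set.mem_compl_iff, SetLike.mem_coe]
    constructor
    · intro hy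
      have h0 := germ_eq_zero he y (Opens.mem_top y) hy
      rw [Y.mem_basicOpen (U := ⊤) (1 - e) y (Opens.mem_top y), map_sub, map_one, h0, sub_zero]
      exact isUnit_one
    · intro hy hy'
      have h1 := germ_eq_one he y (Opens.mem_top y) hy'
      rw [Y.mem_basicOpen (U := ⊤) (1 - e) y (Opens.mem_top y), map_sub, map_one, h1, sub_self] at hy
      exact not_isUnit_zero hy
  rw [← isOpen_compl_iff, hc]
  exact (Y.basicOpen (1 - e)).isOpen

end

-- ===== part HcB =====
section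

variable {Y : Scheme.{u}}

/-- A clopen subset of a scheme is the basic open of an idempotent global section. -/
theorem exists_idem_of_isClopen (U : Set Y) (hU : IsClopen U) :
    ∃ e : Γ(Y, ⊤), IsIdempotentElem e ∧ ((Y.basicOpen e : Y.Opens) : Set Y) = U := by
  let U₁ : Y.Opens := ⟨U, hU.isOpen⟩
  let U₂ : Y.Opens := ⟨Uᶜ, hU.compl.isOpen⟩
  have hdisj : U₁ ⊓ U₂ = ⊥ := by
    ext y
    simp [U₁, U₂]
  have hsup : (⊤ : Y.Opens) = U₁ ⊔ U₂ := by
    ext y
    simp [U₁, U₂, em]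
  let ε := (Y.sheaf.isProductOfDisjoint U₁ U₂ hdisj).conePointUniqueUpToIso
      (CommRingCat.prodFanIsLimit _ _)
  let s : Γ(Y, U₁ ⊔ U₂) := ε.inv ((1, 0) : Γ(Y, U₁) × Γ(Y, U₂))
  have hs1 : Y.presheaf.map (homOfLE (le_sup_left : U₁ ≤ U₁ ⊔ U₂)).op s = 1 := by
    have := IsLimit.conePointUniqueUpToIso_inv_comp (Y.sheaf.isProductOfDisjoint U₁ U₂ hdisj)
      (CommRingCat.prodFanIsLimit _ _) ⟨WalkingPair.left⟩
    have h2 := congrArg (fun φ => φ.hom ((1, 0) : Γ(Y, U₁) × Γ(Y, U₂))) this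
    exact h2
  have hs2 : Y.presheaf.map (homOfLE (le_sup_right : U₂ ≤ U₁ ⊔ U₂)).op s = 0 := by
    have := IsLimit.conePointUniqueUpToIso_inv_comp (Y.sheaf.isProductOfDisjoint U₁ U₂ hdisj)
      (CommRingCat.prodFanIsLimit _ _) ⟨WalkingPair.right⟩
    have h2 := congrArg (fun φ => φ.hom ((1, 0) : Γ(Y, U₁) × Γ(Y, U₂))) this
    exact h2
  have hsi : IsIdempotentElem s := by
    have h0 : IsIdempotentElem ((1, 0) : Γ(Y, U₁) × Γ(Y, U₂)) := by
      change ((1, 0) : Γ(Y, U₁) × Γ(Y, U₂)) * (1, 0) = (1, 0)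
      simp
    exact h0.map ε.inv.hom
  refine ⟨Y.presheaf.map (homOfLE (le_of_eq hsup)).op s, hsi.map _, ?_⟩
  rw [Scheme.basicOpen_res]
  ext y
  simp only [Opens.coe_inf, Opens.coe_top, Set.univ_inter, SetLike.mem_coe]
  by_cases hy : y ∈ U
  · have hy1 : y ∈ U₁ := hy
    have hy' : y ∈ U₁ ⊔ U₂ := le_sup_left (a := U₁) hy1
    rw [Y.mem_basicOpen s y hy']
    have hg := TopCat.Presheaf.germ_res_apply Y.presheaf
      (homOfLE (le_sup_left : U₁ ≤ U₁ ⊔ U₂)) y hy1 s
    rw [hs1, map_one] at hg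
    simp only [hy, iff_true]
    rw [← hg]
    exact isUnit_one
  · have hy2 : y ∈ U₂ := hy
    have hy' : y ∈ U₁ ⊔ U₂ := le_sup_right (a := U₁) hy2
    rw [Y.mem_basicOpen s y hy']
    have hg := TopCat.Presheaf.germ_res_apply Y.presheaf
      (homOfLE (le_sup_right : U₂ ≤ U₁ ⊔ U₂)) y hy2 s
    rw [hs2, map_zero] at hg
    simp only [hy, iff_false]
    rw [← hg]
    exact not_isUnit_zero

end

-- ===== part HcC =====
section

variable {X X₀ : Scheme.{u}}

/-- In a henselian couple `(X, X₀)`, every nonempty closed subset meets `X₀`; hence the kernel of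
`Γ(X) → Γ(X₀)` lies in the Jacobson radical. -/
theorem ker_le_jacobson (i : X₀ ⟶ X)
    (hX : ∀ (Y : Scheme.{u}) (g : Y ⟶ X), IsFinite g →
      ∀ V : Set ↥(pullback g (i)), IsClopen V →
        ∃! U : Set ↥Y, IsClopen U ∧ (pullback.fst g (i)).base ⁻¹' U = V) :
    RingHom.ker i.appTop.hom ≤ Ideal.jacobson ⊥ := by
  intro z hz
  rw [Ideal.mem_jacobson_bot]
  intro y
  set s : Γ(X, ⊤) := z * y + 1 with hs
  have hs1 : i.appTop.hom s = 1 := by
    have hz0 : i.appTop.hom z = 0 := hz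
    rw [hs, map_add, map_mul, hz0, zero_mul, zero_add, map_one]
  -- the closed complement of `D(s)`
  let Z : Closeds X := ⟨((X.basicOpen s : X.Opens) : Set X)ᶜ, (X.basicOpen s).isOpen.isClosed_compl⟩
  let I := Scheme.IdealSheafData.vanishingIdeal Z
  have hrange : Set.range I.subschemeι = (Z : Set X) := by
    rw [Scheme.IdealSheafData.range_subschemeι, Scheme.IdealSheafData.coe_support_vanishingIdeal]
  have hdisj : Disjoint (Set.range I.subschemeι) (Set.range i) := by
    rw [hrange, Set.disjoint_left]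
    rintro _ hx ⟨x₀, rfl⟩
    apply hx
    change i x₀ ∈ X.basicOpen s
    have h1 : x₀ ∈ i ⁻¹ᵁ (X.basicOpen s) := by
      rw [Scheme.preimage_basicOpen]
      have : (i.app ⊤) s = 1 := hs1
      rw [this, Scheme.basicOpen_of_isUnit _ isUnit_one]
      trivial
    exact h1
  haveI : IsEmpty ↑(pullback I.subschemeι i) := Scheme.isEmpty_pullback _ _ hdisj
  obtain ⟨U, -, hUuniq⟩ := hX _ I.subschemeι inferInstance ∅ isClopen_empty
  have h1 := hUuniq ∅ ⟨isClopen_empty, Set.eq_empty_of_isEmpty _⟩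
  have h2 := hUuniq Set.univ ⟨isClopen_univ, Set.eq_empty_of_isEmpty _⟩
  have hemp : (Set.univ : Set I.subscheme) = ∅ := h2.trans h1.symm
  have hZ : (Z : Set X) = ∅ := by
    rw [← hrange, ← Set.image_univ, hemp, Set.image_empty]
  apply RingedSpace.isUnit_of_isUnit_germ X.toRingedSpace ⊤ s
  intro x hx
  have hxs : x ∈ X.basicOpen s := by
    by_contra hcon
    have : x ∈ (Z : Set X) := hcon
    rw [hZ] at this
    exact this
  exact (X.mem_basicOpen s x hx).mp hxs

end

-- ===== part HcD =====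
section

/-- For a flat `R`-algebra `C`, the kernel of `C → A ⊗[R] C` is the extension of `ker (R → A)`. -/
theorem mem_map_ker_of_one_tmul_eq_zero (R A C : Type*) [CommRing R] [CommRing A] [CommRing C]
    [Algebra R A] [Algebra R C] [Module.Flat R C] (c : C) (h : (1 : A) ⊗ₜ[R] c = 0) :
    c ∈ (RingHom.ker (algebraMap R A)).map (algebraMap R C) := by
  set K : Ideal R := RingHom.ker (algebraMap R A) with hK
  have hle : K ≤ LinearMap.ker (Algebra.linearMap R A) := by
    intro x hx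
    exact hx
  let ι : (R ⧸ K) →ₗ[R] A := Submodule.liftQ K (Algebra.linearMap R A) hle
  have hι : Function.Injective ι := by
    rw [← LinearMap.ker_eq_bot]
    apply Submodule.ker_liftQ_eq_bot
    intro x hx
    exact hx
  have hinj : Function.Injective (ι.rTensor C) :=
    Module.Flat.rTensor_preserves_injective_linearMap ι hι
  have h1 : (Ideal.Quotient.mk K (1 : R)) ⊗ₜ[R] c = (0 : (R ⧸ K) ⊗[R] C) := by
    apply hinj
    rw [map_zero, LinearMap.rTensor_tmul]
    have : ι (Ideal.Quotient.mk K (1 : R)) = 1 := by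
      change Submodule.liftQ K (Algebra.linearMap R A) hle (Submodule.Quotient.mk 1) = 1
      rw [Submodule.liftQ_apply]
      simp
    rw [this, h]
  have h2 := congrArg (TensorProduct.quotTensorEquivQuotSMul C K) h1
  rw [TensorProduct.quotTensorEquivQuotSMul_mk_tmul, map_zero, one_smul,
    Submodule.Quotient.mk_eq_zero, Ideal.smul_top_eq_map] at h2
  exact h2

/-- Categorical form: kernel of `pushout.inr` for a flat right leg. -/
theorem mem_map_ker_of_inr_eq_zero {R A C : CommRingCat.{u}} (φ₁ : R ⟶ A) (φ₂ : R ⟶ C)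
    (hflat : φ₂.hom.Flat) (c : C) (h : (pushout.inr φ₁ φ₂).hom c = 0) :
    c ∈ (RingHom.ker φ₁.hom).map φ₂.hom := by
  letI := φ₁.hom.toAlgebra
  letI := φ₂.hom.toAlgebra
  haveI : Module.Flat R C := hflat
  have hP := CommRingCat.isPushout_tensorProduct R A C
  have h1 : (hP.isoPushout.hom).hom (Algebra.TensorProduct.includeRight (R := R) (A := A) c)
      = (pushout.inr (CommRingCat.ofHom (algebraMap R A)) (CommRingCat.ofHom (algebraMap R C))).hom c :=
    congrArg (fun φ => φ.hom c) hP.inr_isoPushout_hom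
  have h2 : (hP.isoPushout.hom).hom (Algebra.TensorProduct.includeRight (R := R) (A := A) c) = 0 := by
    rw [h1]
    exact h
  have h3 : (Algebra.TensorProduct.includeRight (R := R) (A := A) c) = 0 := by
    have hinj : Function.Injective (hP.isoPushout.hom).hom :=
      (ConcreteCategory.bijective_of_isIso hP.isoPushout.hom).1
    apply hinj
    rw [h2, map_zero]
  exact mem_map_ker_of_one_tmul_eq_zero R A C c h3

end

-- ===== part HcE =====
section

variable {X X₀ : Scheme.{u}}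

section
variable {T : Scheme.{u}} (f : T ⟶ Spec Γ(X, ⊤)) [IsAffine T] [Flat f]
  [CompactSpace X] [QuasiSeparatedSpace X]

/-- Flat base change of global sections along `X.toSpecΓ`: the second projection induces an
isomorphism on global sections. -/
theorem isIso_snd_appTop : IsIso (pullback.snd X.toSpecΓ f).appTop := by
  have H₂ : IsPullback (pullback.fst X.toSpecΓ f) (pullback.snd X.toSpecΓ f) X.toSpecΓ f :=
    IsPullback.of_hasPullback _ _
  have hUST : (⊤ : T.Opens) ≤ f ⁻¹ᵁ ⊤ := le_of_eq rfl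
  have hUSX : (⊤ : X.Opens) ≤ X.toSpecΓ ⁻¹ᵁ ⊤ := le_of_eq rfl
  have hUY : (⊤ : (pullback X.toSpecΓ f).Opens) =
      (pullback.fst X.toSpecΓ f) ⁻¹ᵁ ⊤ ⊓ (pullback.snd X.toSpecΓ f) ⁻¹ᵁ ⊤ := by simp
  have hiso := isIso_pushoutSection_of_isQuasiSeparated_of_flat_right H₂ hUST hUSX hUY
    (isAffineOpen_top _) (isAffineOpen_top _) isCompact_univ isQuasiSeparated_univ
  have hpo := (isIso_pushoutSection_iff H₂ hUST hUSX hUY).mp hiso
  have e1 : X.toSpecΓ.appLE ⊤ ⊤ hUSX = X.toSpecΓ.appTop := by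
    simp [Scheme.Hom.appLE]
  haveI : IsIso (X.toSpecΓ.appLE ⊤ ⊤ hUSX) := by
    rw [e1, Scheme.toSpecΓ_appTop]
    infer_instance
  have h3 := hpo.isIso_inr_of_isIso
  have e2 : (pullback.snd X.toSpecΓ f).appLE ⊤ ⊤ (by simp) = (pullback.snd X.toSpecΓ f).appTop := by
    simp [Scheme.Hom.appLE]
  rw [← e2]
  exact h3

end




variable {X X₀ : Scheme.{u}}

section
variable {T : Scheme.{u}} (f : T ⟶ Spec Γ(X, ⊤)) [IsAffine T] [Flat f]
  (i : X₀ ⟶ X) [CompactSpace X₀]

/-- Kernel of `Γ(T) → Γ(Y₀)` where `Y₀ = (X ×_{Spec Γ(X)} T) ×_X X₀`. -/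
theorem mem_map_ker_of_appTop_eq_zero (c : Γ(T, ⊤))
    (hc : (pullback.fst (pullback.fst X.toSpecΓ f) i ≫ pullback.snd X.toSpecΓ f).appTop.hom c = 0) :
    c ∈ (RingHom.ker (i ≫ X.toSpecΓ).appTop.hom).map f.appTop.hom := by
  have H₂ : IsPullback (pullback.fst X.toSpecΓ f) (pullback.snd X.toSpecΓ f) X.toSpecΓ f :=
    IsPullback.of_hasPullback _ _
  have H₁ : IsPullback (pullback.fst (pullback.fst X.toSpecΓ f) i)
      (pullback.snd (pullback.fst X.toSpecΓ f) i) (pullback.fst X.toSpecΓ f) i :=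
    IsPullback.of_hasPullback _ _
  have H₀ := H₁.flip.paste_vert H₂
  have hUST : (⊤ : T.Opens) ≤ f ⁻¹ᵁ ⊤ := le_of_eq rfl
  have hUSX : (⊤ : X₀.Opens) ≤ (i ≫ X.toSpecΓ) ⁻¹ᵁ ⊤ := le_of_eq rfl
  have hUY : (⊤ : (pullback (pullback.fst X.toSpecΓ f) i).Opens) =
      (pullback.snd (pullback.fst X.toSpecΓ f) i) ⁻¹ᵁ ⊤ ⊓
        (pullback.fst (pullback.fst X.toSpecΓ f) i ≫ pullback.snd X.toSpecΓ f) ⁻¹ᵁ ⊤ := by simp
  have hmono := mono_pushoutSection_of_isCompact_of_flat_right H₀ hUST hUSX hUY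
    (isAffineOpen_top _) (isAffineOpen_top _) isCompact_univ
  have hinj : Function.Injective (pushoutSection H₀ hUST hUSX hUY).hom :=
    (@ConcreteCategory.mono_iff_injective_of_preservesPullback _ _ _ _ _ _ _ _ _ _).mp hmono
  have hflat : (f.appLE ⊤ ⊤ hUST).hom.Flat := f.flat_appLE (isAffineOpen_top _) (isAffineOpen_top _) _
  have e1 : f.appLE ⊤ ⊤ hUST = f.appTop := by simp [Scheme.Hom.appLE]
  have e2 : (i ≫ X.toSpecΓ).appLE ⊤ ⊤ hUSX = (i ≫ X.toSpecΓ).appTop := by simp [Scheme.Hom.appLE]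
  have h1 : (pushout.inr ((i ≫ X.toSpecΓ).appLE ⊤ ⊤ hUSX) (f.appLE ⊤ ⊤ hUST)).hom c = 0 := by
    apply hinj
    rw [map_zero]
    have hT2 : (⊤ : (pullback (pullback.fst X.toSpecΓ f) i).Opens) ≤
        (pullback.fst (pullback.fst X.toSpecΓ f) i ≫ pullback.snd X.toSpecΓ f) ⁻¹ᵁ ⊤ := le_of_eq rfl
    have : pushout.inr ((i ≫ X.toSpecΓ).appLE ⊤ ⊤ hUSX) (f.appLE ⊤ ⊤ hUST) ≫
        pushoutSection H₀ hUST hUSX hUY =
        (pullback.fst (pullback.fst X.toSpecΓ f) i ≫ pullback.snd X.toSpecΓ f).appLE ⊤ ⊤ hT2 :=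
      pushout.inr_desc _ _ _
    have h2 := congrArg (fun φ => φ.hom c) this
    simp only [CommRingCat.hom_comp, RingHom.coe_comp, Function.comp_apply] at h2
    rw [h2]
    have e3 : (pullback.fst (pullback.fst X.toSpecΓ f) i ≫ pullback.snd X.toSpecΓ f).appLE ⊤ ⊤
        hT2 = (pullback.fst (pullback.fst X.toSpecΓ f) i ≫
          pullback.snd X.toSpecΓ f).appTop := by simp [Scheme.Hom.appLE]
    rw [e3]
    exact hc
  have h3 := mem_map_ker_of_inr_eq_zero _ _ hflat c h1
  rw [e1, e2] at h3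
  exact h3

end

end

-- ===== part HcF =====
section


variable {X X₀ : Scheme.{u}}

theorem idem_surjOn (i : X₀ ⟶ X) [IsClosedImmersion i] [CompactSpace X] [QuasiSeparatedSpace X]
    (hX : ∀ (Y : Scheme.{u}) (g : Y ⟶ X), IsFinite g →
      ∀ V : Set ↥(pullback g (i)), IsClopen V →
        ∃! U : Set ↥Y, IsClopen U ∧ (pullback.fst g (i)).base ⁻¹' U = V)
    (p : Polynomial Γ(X, ⊤)) (hp : p.Monic) :
    Set.SurjOn (Ideal.Quotient.mk (Ideal.map (algebraMap Γ(X, ⊤) (AdjoinRoot p))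
        (RingHom.ker i.appTop.hom)))
      {e : AdjoinRoot p | IsIdempotentElem e} {e | IsIdempotentElem e} := by
  haveI : Module.Finite Γ(X, ⊤) (AdjoinRoot p) := hp.finite_adjoinRoot
  haveI : Module.Free Γ(X, ⊤) (AdjoinRoot p) := hp.free_adjoinRoot
  let ψ : Γ(X, ⊤) ⟶ CommRingCat.of (AdjoinRoot p) :=
    CommRingCat.ofHom (algebraMap Γ(X, ⊤) (AdjoinRoot p))
  have hψfin : ψ.hom.Finite := RingHom.finite_algebraMap.mpr inferInstance
  have hψflat : ψ.hom.Flat := RingHom.flat_algebraMap_iff.mpr inferInstance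
  let f : Spec (CommRingCat.of (AdjoinRoot p)) ⟶ Spec Γ(X, ⊤) := Spec.map ψ
  haveI : IsFinite f := (IsFinite.SpecMap_iff ψ).mpr hψfin
  haveI : Flat f := Flat.SpecMap_iff.mpr hψflat
  haveI : CompactSpace X₀ := i.isClosedEmbedding.compactSpace
  let g := pullback.fst X.toSpecΓ f
  let π := pullback.snd X.toSpecΓ f
  haveI : IsFinite g := inferInstance
  let fs := pullback.fst g i
  let sn := pullback.snd g i
  let ε := Scheme.ΓSpecIso (CommRingCat.of (AdjoinRoot p))
  let α : AdjoinRoot p →+* Γ(pullback X.toSpecΓ f, ⊤) := π.appTop.hom.comp ε.inv.hom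
  have hα : Function.Bijective α := by
    haveI := isIso_snd_appTop (X := X) f
    have h1 : Function.Bijective π.appTop.hom := ConcreteCategory.bijective_of_isIso π.appTop
    have h2 : Function.Bijective ε.inv.hom := ConcreteCategory.bijective_of_isIso ε.inv
    exact h1.comp h2
  let κ : AdjoinRoot p →+* Γ(pullback g i, ⊤) := fs.appTop.hom.comp α
  set J := RingHom.ker i.appTop.hom with hJ
  -- kernel of κ
  have hκ : ∀ b, κ b = 0 → b ∈ J.map (algebraMap Γ(X, ⊤) (AdjoinRoot p)) := by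
    intro b hb
    have hc : (fs ≫ π).appTop.hom (ε.inv.hom b) = 0 := by
      rw [Scheme.Hom.comp_appTop]
      exact hb
    have h1 := mem_map_ker_of_appTop_eq_zero f i (ε.inv.hom b) hc
    have h2 : ε.hom.hom (ε.inv.hom b) ∈
        ((RingHom.ker (i ≫ X.toSpecΓ).appTop.hom).map f.appTop.hom).map ε.hom.hom :=
      Ideal.mem_map_of_mem _ h1
    have h3 : ε.hom.hom (ε.inv.hom b) = b := by
      change (ε.inv ≫ ε.hom).hom b = b
      rw [Iso.inv_hom_id]
      rfl
    rw [h3, Ideal.map_map] at h2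
    have h4 : ε.hom.hom.comp f.appTop.hom =
        (algebraMap Γ(X, ⊤) (AdjoinRoot p)).comp (Scheme.ΓSpecIso Γ(X, ⊤)).hom.hom := by
      have := Scheme.ΓSpecIso_naturality ψ
      have h5 := congrArg CommRingCat.Hom.hom this
      exact h5
    rw [h4, ← Ideal.map_map] at h2
    refine Ideal.map_mono ?_ h2
    rw [Ideal.map_le_iff_le_comap]
    intro r hr
    rw [Ideal.mem_comap, hJ, RingHom.mem_ker]
    have h6 : (i ≫ X.toSpecΓ).appTop.hom r = 0 := hr
    rw [Scheme.Hom.comp_appTop, Scheme.toSpecΓ_appTop] at h6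
    exact h6
  have hκ' : ∀ b ∈ J.map (algebraMap Γ(X, ⊤) (AdjoinRoot p)), κ b = 0 := by
    suffices h : J.map (algebraMap Γ(X, ⊤) (AdjoinRoot p)) ≤ RingHom.ker κ from fun b hb => h hb
    rw [Ideal.map_le_iff_le_comap]
    intro r hr
    rw [Ideal.mem_comap, RingHom.mem_ker]
    have h1 : κ (algebraMap Γ(X, ⊤) (AdjoinRoot p) r) =
        (ψ ≫ ε.inv ≫ π.appTop ≫ fs.appTop).hom r := rfl
    have h2 : ψ ≫ ε.inv ≫ π.appTop ≫ fs.appTop = i.appTop ≫ sn.appTop := by
      rw [Scheme.ΓSpecIso_inv_naturality_assoc, ← Scheme.Hom.comp_appTop_assoc,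
        ← Scheme.Hom.comp_appTop]
      have hw : fs ≫ π ≫ f = sn ≫ i ≫ X.toSpecΓ := by
        rw [← pullback.condition (f := X.toSpecΓ) (g := f), ← Category.assoc,
          pullback.condition (f := g) (g := i), Category.assoc]
      rw [hw, Scheme.Hom.comp_appTop, Scheme.Hom.comp_appTop, Scheme.toSpecΓ_appTop]
      simp only [Category.assoc, Iso.inv_hom_id_assoc]
    rw [h1, h2]
    have h3 : i.appTop.hom r = 0 := hr
    simp only [CommRingCat.hom_comp, RingHom.coe_comp, Function.comp_apply, h3, map_zero]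
  -- main argument
  intro e₀ he₀
  obtain ⟨t, rfl⟩ := Ideal.Quotient.mk_surjective e₀
  have hmem : t * t - t ∈ J.map (algebraMap Γ(X, ⊤) (AdjoinRoot p)) := by
    rw [← Ideal.Quotient.eq, map_mul]
    exact he₀
  have hκi : IsIdempotentElem (κ t) := by
    have := hκ' _ hmem
    rw [map_sub, map_mul, sub_eq_zero] at this
    exact this
  obtain ⟨U, ⟨hUc, hUV⟩, -⟩ := hX _ g inferInstance _ (isClopen_basicOpen hκi)
  obtain ⟨eY, heY, heYU⟩ := exists_idem_of_isClopen U hUc
  obtain ⟨e, rfl⟩ := hα.2 eY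
  have he : IsIdempotentElem e := by
    apply hα.1
    rw [map_mul]
    exact heY
  refine ⟨e, he, ?_⟩
  rw [Ideal.Quotient.eq]
  apply hκ
  rw [map_sub, sub_eq_zero]
  apply idem_ext (he.map κ) hκi
  have h1 : (pullback g i).basicOpen (κ e) = fs ⁻¹ᵁ ((pullback X.toSpecΓ f).basicOpen (α e)) := by
    rw [Scheme.preimage_basicOpen]
    rfl
  apply SetLike.coe_injective
  rw [h1, ← hUV, ← heYU]
  rfl

end

-- ===== part HcG =====
section

/-- Henselian couple `(X, X₀)` with `X` qcqs ⟹ `(Γ(X), ker (Γ(X) → Γ(X₀)))` is a Henselian pair. -/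
theorem main {X X₀ : Scheme.{u}}
    (i : X₀ ⟶ X) [IsClosedImmersion i] [CompactSpace ↥X] [QuasiSeparatedSpace ↥X]
    (hX : ∀ (Y : Scheme.{u}) (g : Y ⟶ X), IsFinite g →
      ∀ V : Set ↥(pullback g (i)), IsClopen V →
        ∃! U : Set ↥Y, IsClopen U ∧ (pullback.fst g (i)).base ⁻¹' U = V) :
    HenselianRing (Γ(X, ⊤) : Type u) (RingHom.ker i.appTop.hom) :=
  Groth.Agent.S17968.aux _ _ (ker_le_jacobson i hX) (fun _ p hp _ => idem_surjOn i hX p hp)

end

end Groth.Agent.Lib.H9HensCouple
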