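import Mathlib
import Groth.Agent.Lib.H5bLqfEx
import Groth.Agent.Lib.H5bLqfSat
import Groth.Agent.Lib.H5bQSLift
import Groth.Agent.Lib.H5bGQThm
import Groth.Agent.Lib.H9HensCouple
import Groth.Agent.Lib.Helper20EtSections
import Groth.Agent.Lib.Helper12PullbackPts
import Groth.Agent.S1354

/-!
# Local structure of a quasi-finite étale equivalence relation with closed diagonal (helper5)

* `exists_finite_piece`: étale localisation of a locally quasi-finite morphism at a point, with an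
  affine étale neighbourhood.
* `exists_idem`: the saturation of a finite open piece is cut out by an idempotent of the base
  (when the base carries exactly the invariant functions).
* `quotient_of_surjective`: if a finite open piece meets every orbit then `π : U ⟶ Z` is flat,
  surjective, locally of finite presentation with kernel pair `R`.
-/

set_option autoImplicit false
set_option linter.style.haveILetI false
set_option linter.unusedSectionVars false
set_option linter.unusedSimpArgs false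
set_option linter.unusedVariables false
universe u

open CategoryTheory CategoryTheory.Limits AlgebraicGeometry
open Groth.Agent.Lib.H5bQS Groth.Agent.Lib.H5bRG Groth.Agent.Lib.H5bGQ

namespace Groth.Agent.Lib.H5bLqf

/-- étale localisation at one point, with affine neighbourhood. -/
theorem exists_finite_piece {X S : Scheme.{u}} (f : X ⟶ S) [LocallyOfFiniteType f]
    [LocallyQuasiFinite f] (x : X) :
    ∃ (Z₁ : Scheme.{u}) (g : Z₁ ⟶ S) (V : (pullback f g).Opens) (v : ↥(pullback f g)),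
      IsAffine Z₁ ∧ Etale g ∧ v ∈ V ∧ IsFinite (V.ι ≫ pullback.snd f g) ∧
        pullback.fst f g v = x := by
  obtain ⟨U, g, u, hnb, V, v, hV⟩ := Groth.Agent.S1354.result f (f x) (fun _ : Unit => x)
    (fun _ => rfl) (fun _ => f.quasiFiniteAt x)
  obtain ⟨hvV, hfin, hvu, -, hvx, -⟩ := hV ()
  haveI : Etale g := hnb.etale
  obtain ⟨_, ⟨(W : U.Opens), (hW : IsAffineOpen W), rfl⟩, huW, -⟩ := U.isBasis_affineOpens.exists_subset_of_mem_open
    (Set.mem_univ u) isOpen_univ
  haveI : IsAffine W.toScheme := hW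
  let b := Groth.Agent.Lib.Helper20.EtSections.bcMap f g W.ι
  have hb : IsPullback b (pullback.snd f (W.ι ≫ g)) (pullback.snd f g) W.ι :=
    Groth.Agent.Lib.Helper20.EtSections.isPullback_bcMap f g W.ι
  obtain ⟨v₁, hv₁, -⟩ := Groth.Agent.Lib.Helper12.exists_preimage_of_isPullback hb (v ())
    (⟨u, huW⟩ : W.toScheme) hvu
  have hpaste := (isPullback_morphismRestrict b (V ())).paste_vert hb
  haveI : IsFinite ((V ()).ι ≫ pullback.snd f g) := hfin
  refine ⟨W.toScheme, W.ι ≫ g, b ⁻¹ᵁ (V ()), v₁, hW, inferInstance, ?_, ?_, ?_⟩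
  · show b v₁ ∈ V ()
    rw [hv₁]
    exact hvV
  · exact MorphismProperty.of_isPullback (P := @IsFinite) hpaste hfin
  · rw [← hvx, ← hv₁]
    exact (Groth.Agent.Lib.Helper20.EtSections.bcMap_fst_apply f g W.ι v₁).symm

theorem isPullback_comp_mono {C : Type*} [Category C] {P X Y Z W : C} {fst : P ⟶ X}
    {snd : P ⟶ Y} {f : X ⟶ Z} {g : Y ⟶ Z} (h : IsPullback fst snd f g) (i : Z ⟶ W) [Mono i] :
    IsPullback fst snd (f ≫ i) (g ≫ i) := by
  refine ⟨⟨by rw [← Category.assoc, h.w, Category.assoc]⟩,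
    ⟨PullbackCone.IsLimit.mk _ (fun c => h.lift c.fst c.snd (by
      rw [← cancel_mono i, Category.assoc, Category.assoc, c.condition])) ?_ ?_ ?_⟩⟩
  · intro c
    exact h.lift_fst _ _ _
  · intro c
    exact h.lift_snd _ _ _
  · intro c m h1 h2
    apply h.hom_ext
    · rw [h1, h.lift_fst]
    · rw [h2, h.lift_snd]

variable {Z : Scheme.{u}} (ρ : Rel Z)

section Idem

variable [IsClosedImmersion ρ.grpd.j] [Etale ρ.s] (V : ρ.U.Opens) [IsFinite (V.ι ≫ ρ.π)]

theorem isClopen_sat : IsClopen (Set.range (σ ρ.grpd V.ι)) := by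
  haveI : IsFinite (V.ι ≫ ρ.grpd.pU) := ‹IsFinite (V.ι ≫ ρ.π)›
  haveI : Etale ρ.grpd.s := ‹Etale ρ.s›
  exact ⟨isClosed_range_σ ρ.grpd V.ι, isOpen_range_σ ρ.grpd V.ι⟩

/-- the saturation of a finite open piece is the preimage of a clopen subset of the base. -/
theorem exists_idem (hEx : ρ.Ex) :
    ∃ e₀ : Γ(Z, ⊤), ∀ x : ρ.U, ρ.π x ∈ Z.basicOpen e₀ ↔ x ∈ Set.range (σ ρ.grpd V.ι) := by
  obtain ⟨e, he, hbe⟩ := Groth.Agent.Lib.H9HensCouple.exists_idem_of_isClopen _
    (isClopen_sat ρ V)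
  have hmem : ∀ x : ρ.U, x ∈ ρ.U.basicOpen e ↔ x ∈ Set.range (σ ρ.grpd V.ι) := by
    intro x
    rw [← hbe]
    rfl
  have hse : ρ.s.appTop.hom e = ρ.t.appTop.hom e := by
    apply Groth.Agent.Lib.H9HensCouple.idem_ext (he.map _) (he.map _)
    have h1 : ρ.R.basicOpen (ρ.s.appTop.hom e) = ρ.s ⁻¹ᵁ ρ.U.basicOpen e :=
      (Scheme.preimage_basicOpen_top ρ.s e).symm
    have h2 : ρ.R.basicOpen (ρ.t.appTop.hom e) = ρ.t ⁻¹ᵁ ρ.U.basicOpen e :=
      (Scheme.preimage_basicOpen_top ρ.t e).symm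
    rw [h1, h2]
    ext r
    show ρ.s r ∈ ρ.U.basicOpen e ↔ ρ.t r ∈ ρ.U.basicOpen e
    rw [hmem, hmem]
    exact s_mem_range_σ_iff ρ.grpd V.ι r
  obtain ⟨e₀, he₀⟩ := hEx.2 e hse
  refine ⟨e₀, fun x => ?_⟩
  rw [← hmem x]
  have h3 : ρ.π ⁻¹ᵁ Z.basicOpen e₀ = ρ.U.basicOpen (ρ.π.appTop.hom e₀) :=
    Scheme.preimage_basicOpen_top ρ.π e₀
  rw [he₀] at h3
  rw [← h3]
  rfl

end Idem

section Quot

variable [IsAffine Z] [IsAffine ρ.U] [IsClosedImmersion ρ.grpd.j] [Etale ρ.s] [Etale ρ.t]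
  (V : ρ.U.Opens) [IsFinite (V.ι ≫ ρ.π)]

/-- if the finite open piece `V` meets every orbit then `π` is an fppf covering with kernel pair
`(t, s)`. -/
theorem quotient_of_surjective (hEx : ρ.Ex) (hsurj : Function.Surjective (σ ρ.grpd V.ι)) :
    Flat ρ.π ∧ Surjective ρ.π ∧ LocallyOfFinitePresentation ρ.π ∧
      IsPullback ρ.t ρ.s ρ.π ρ.π := by
  let G := ρ.grpd
  let u : V.toScheme ⟶ G.U := V.ι
  haveI : IsFinite (u ≫ G.pU) := ‹IsFinite (V.ι ≫ ρ.π)›
  haveI : Etale G.s := ‹Etale ρ.s›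
  haveI : Etale G.t := ‹Etale ρ.t›
  haveI : IsClosedImmersion G.j := ‹IsClosedImmersion ρ.grpd.j›
  haveI : Mono G.j := Rel.mono_grpd_j ρ
  haveI : IsOpenImmersion u := inferInstanceAs (IsOpenImmersion V.ι)
  haveI : Mono u := inferInstance
  haveI : IsFinite (σ G u) := isFinite_σ G u
  haveI : Etale (σ G u) := etale_σ G u
  haveI : Flat (σ G u) := inferInstance
  haveI : LocallyOfFinitePresentation (σ G u) := inferInstance
  haveI : Surjective (σ G u) := ⟨hsurj⟩
  haveI : IsAffine V.toScheme := isAffine_of_isAffineHom (V.ι ≫ ρ.π)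
  haveI : Mono (res G u).j := mono_res_j G u
  have hcov : ∀ x : (res G u).U, ∃ W : IAO (res G u), x ∈ W.1 := by
    intro x
    refine ⟨⟨⊤, ?_, rfl⟩, trivial⟩
    exact isAffineOpen_top V.toScheme
  obtain ⟨Y, (p' : V.toScheme ⟶ Y), w', huniv, -, hp'surj, -, -, -, hYaff, hmono⟩ :=
    main (res G u) hcov
  obtain ⟨hp'fin, hp'flat, hp'lofp, hp'pb⟩ := hmono inferInstance
  haveI : IsAffine Y := hYaff (inferInstanceAs (IsAffine V.toScheme))
  haveI : Surjective p' := hp'surj
  haveI : Flat p' := hp'flat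
  have w'' : t' G u ≫ p' = s' G u ≫ p' := w'
  let q : G.U ⟶ Y := pQ G u p' w''
  haveI : Flat q := flat_pQ G u p' w''
  haveI : Surjective q := surjective_pQ G u p' w''
  have hqpb : IsPullback G.t G.s q q := isPullback_pQ G u p' w'' hp'pb
  obtain ⟨κ, hκ, -⟩ := exists_unique_desc G u p' w'' huniv Z ρ.π ρ.w.symm
  have hκ' : q ≫ κ = ρ.π := hκ
  -- `q` is étale by descent
  haveI : IsAffine G.U := ‹IsAffine ρ.U›
  haveI : QuasiCompact q := inferInstance
  have hqet : Etale q :=
    MorphismProperty.of_isPullback_of_descendsAlong (P := @Etale)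
      (Q := @Surjective ⊓ @Flat ⊓ @QuasiCompact) hqpb ⟨⟨inferInstance, inferInstance⟩, inferInstance⟩
      (inferInstanceAs (Etale G.t))
  -- `κ` is an isomorphism
  have hff : q.appTop.hom.FaithfullyFlat :=
    (Flat.flat_and_surjective_iff_faithfullyFlat_of_isAffine (f := q)).mp
      ⟨inferInstance, inferInstance⟩
  have hqinj : Function.Injective q.appTop.hom := hff.injective
  have hcomp : ∀ a : Γ(Z, ⊤), q.appTop.hom (κ.appTop.hom a) = ρ.π.appTop.hom a := by
    intro a
    have := congrArg (fun φ : G.U ⟶ Z => φ.appTop.hom a) hκ'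
    simpa only [Scheme.Hom.comp_appTop, CommRingCat.hom_comp, RingHom.comp_apply] using this
  have hinv : ∀ f : Γ(Y, ⊤), ρ.s.appTop.hom (q.appTop.hom f) = ρ.t.appTop.hom (q.appTop.hom f) := by
    intro f
    have h1 : ρ.s ≫ q = ρ.t ≫ q := (pQ_w G u p' w'').symm
    have := congrArg (fun φ : ρ.R ⟶ Y => φ.appTop.hom f) h1
    simpa only [Scheme.Hom.comp_appTop, CommRingCat.hom_comp, RingHom.comp_apply] using this
  have hbij : Function.Bijective κ.appTop.hom := by
    constructor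
    · intro a b hab
      apply hEx.1
      rw [← hcomp, ← hcomp, hab]
    · intro f
      obtain ⟨a, ha⟩ := hEx.2 (q.appTop.hom f) (hinv f)
      exact ⟨a, hqinj (by rw [hcomp, ha])⟩
  haveI : IsIso κ.appTop := (ConcreteCategory.isIso_iff_bijective κ.appTop).mpr hbij
  haveI : IsIso κ :=
    (HasAffineProperty.iff_of_isAffine (P := MorphismProperty.isomorphisms Scheme)).mpr
      ⟨inferInstance, inferInstance⟩
  refine ⟨?_, ?_, ?_, ?_⟩
  · rw [← hκ']
    infer_instance
  · rw [← hκ']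
    infer_instance
  · rw [← hκ']
    infer_instance
  · have := isPullback_comp_mono hqpb κ
    rw [hκ'] at this
    exact this

end Quot

end Groth.Agent.Lib.H5bLqf
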