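import Mathlib
import Groth.Agent.Lib.H5bLqfLocalA

/-!
# Local data for a quasi-finite étale equivalence relation with closed diagonal (helper5)

`exists_localData`: for `ρ : Rel Z` (affine, `π` locally quasi-finite of finite type, `s, t` étale,
`j` a closed immersion, `Γ(Z)` the invariants) and a point `u` of `U`, there is an étale
`g : Z' ⟶ Z` such that the base change `U' ⟶ Z'` is an fppf covering with kernel pair the base
change of `R`, and `u` lifts to `U'`.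
-/

set_option autoImplicit false
set_option linter.style.haveILetI false
set_option linter.unusedSectionVars false
set_option linter.unusedSimpArgs false
set_option linter.unusedVariables false
universe u

open CategoryTheory CategoryTheory.Limits AlgebraicGeometry
open Groth.Agent.Lib.H5bQS Groth.Agent.Lib.H5bRG

namespace Groth.Agent.Lib.H5bLqf

/-- local data at a point `u`. -/
structure LocalData {Z U R : Scheme.{u}} (π : U ⟶ Z) (s t : R ⟶ U) (u : U) where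
  Z' : Scheme.{u}
  g : Z' ⟶ Z
  U' : Scheme.{u}
  R' : Scheme.{u}
  k : U' ⟶ U
  π' : U' ⟶ Z'
  kR : R' ⟶ R
  s' : R' ⟶ U'
  t' : R' ⟶ U'
  etale_g : Etale g
  sq : IsPullback k π' π g
  hs : s' ≫ k = kR ≫ s
  ht : t' ≫ k = kR ≫ t
  kp : IsPullback t' s' π' π'
  surj : Surjective π'
  flat : Flat π'
  lofp : LocallyOfFinitePresentation π'
  x : U'
  hx : k x = u

variable {Z : Scheme.{u}} (ρ : Rel Z)

/-- the statement after the first (affine étale) localisation. -/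
theorem exists_localData_aux [IsAffine Z] [IsAffine ρ.U] [IsAffine ρ.R]
    [IsClosedImmersion ρ.grpd.j] [Etale ρ.s] [Etale ρ.t] (hEx : ρ.Ex)
    (V : ρ.U.Opens) [IsFinite (V.ι ≫ ρ.π)] (v : ρ.U) (hv : v ∈ V) :
    ∃ (Z₂ : Z.Opens), IsAffineOpen Z₂ ∧
      (Flat (ρ.bc Z₂.ι).π ∧ Surjective (ρ.bc Z₂.ι).π ∧
        LocallyOfFinitePresentation (ρ.bc Z₂.ι).π ∧
        IsPullback (ρ.bc Z₂.ι).t (ρ.bc Z₂.ι).s (ρ.bc Z₂.ι).π (ρ.bc Z₂.ι).π) ∧
      ∃ x₂ : (ρ.bc Z₂.ι).U, pullback.fst ρ.π Z₂.ι x₂ = v := by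
  obtain ⟨e₀, he₀⟩ := exists_idem ρ V hEx
  let Z₂ : Z.Opens := Z.basicOpen e₀
  have hZ₂ : IsAffineOpen Z₂ := (isAffineOpen_top Z).basicOpen e₀
  haveI : IsAffine Z₂.toScheme := hZ₂
  let ρ₂ := ρ.bc Z₂.ι
  have hEx₂ : ρ₂.Ex := hEx.bc Z₂.ι
  let fstU : ρ₂.U ⟶ ρ.U := pullback.fst ρ.π Z₂.ι
  haveI : IsOpenImmersion fstU := inferInstanceAs (IsOpenImmersion (pullback.fst ρ.π Z₂.ι))
  let V₂ : ρ₂.U.Opens := fstU ⁻¹ᵁ V
  have hpaste := (isPullback_morphismRestrict fstU V).paste_vert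
    (IsPullback.of_hasPullback ρ.π Z₂.ι)
  haveI hfin₂ : IsFinite (V₂.ι ≫ ρ₂.π) :=
    MorphismProperty.of_isPullback (P := @IsFinite) hpaste ‹IsFinite (V.ι ≫ ρ.π)›
  haveI : IsClosedImmersion ρ₂.grpd.j := Rel.isClosedImmersion_bcj ρ Z₂.ι
  haveI : Etale ρ₂.s := Rel.etale_bcs ρ Z₂.ι
  haveI : Etale ρ₂.t := Rel.etale_bct ρ Z₂.ι
  haveI : IsAffine ρ₂.U := Rel.isAffine_bcU ρ Z₂.ι
  -- every point of `U₂` is equivalent to a point of `V₂`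
  have hsurj : Function.Surjective (σ ρ₂.grpd V₂.ι) := by
    intro x
    have hx₁ : fstU x ∈ Set.range (σ ρ.grpd V.ι) := by
      rw [← he₀]
      have h1 : ρ.π (fstU x) = Z₂.ι (pullback.snd ρ.π Z₂.ι x) := by
        rw [← Scheme.Hom.comp_apply, ← Scheme.Hom.comp_apply, pullback.condition]
      rw [h1]
      exact (pullback.snd ρ.π Z₂.ι x).2
    rw [mem_range_σ] at hx₁
    obtain ⟨r₁, hr₁s, ⟨v', hv'⟩⟩ := hx₁
    have hr₁ : (ρ.s ≫ ρ.π) r₁ = Z₂.ι (pullback.snd ρ.π Z₂.ι x) := by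
      rw [Scheme.Hom.comp_apply]
      change ρ.π (ρ.s r₁) = _
      rw [hr₁s, ← Scheme.Hom.comp_apply, ← Scheme.Hom.comp_apply, pullback.condition]
    obtain ⟨r₂, hr₂1, hr₂2⟩ := Scheme.Pullback.exists_preimage_pullback (f := ρ.s ≫ ρ.π)
      (g := Z₂.ι) r₁ (pullback.snd ρ.π Z₂.ι x) hr₁
    have hmem : x ∈ Set.range (σ ρ₂.grpd V₂.ι) := by
      rw [mem_range_σ]
      refine ⟨r₂, ?_, ?_⟩
      · apply fstU.isOpenEmbedding.injective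
        change fstU (ρ.bcs Z₂.ι r₂) = fstU x
        rw [← Scheme.Hom.comp_apply, Rel.bcs_fst, Scheme.Hom.comp_apply, hr₂1]
        exact hr₁s
      · have h2 : fstU (ρ.bct Z₂.ι r₂) ∈ V := by
          rw [← Scheme.Hom.comp_apply, Rel.bct_fst, Scheme.Hom.comp_apply, hr₂1]
          change ρ.t r₁ ∈ V
          rw [← hv']
          exact v'.2
        exact ⟨⟨ρ.bct Z₂.ι r₂, h2⟩, rfl⟩
    exact hmem
  have hq := quotient_of_surjective ρ₂ V₂ hEx₂ hsurj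
  refine ⟨Z₂, hZ₂, hq, ?_⟩
  -- the point
  have hvsat : v ∈ Set.range (σ ρ.grpd V.ι) := by
    rw [mem_range_σ]
    refine ⟨ρ.e v, ?_, ⟨⟨v, hv⟩, ?_⟩⟩
    · exact s_e_apply ρ.grpd v
    · exact (t_e_apply ρ.grpd v).symm
  have hvZ : ρ.π v ∈ Z₂ := (he₀ v).mpr hvsat
  obtain ⟨x₂, hx₂, -⟩ := Scheme.Pullback.exists_preimage_pullback (f := ρ.π) (g := Z₂.ι) v
    (⟨ρ.π v, hvZ⟩ : Z₂.toScheme) rfl
  exact ⟨x₂, hx₂⟩

/-- **local structure**. -/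
theorem exists_localData [IsAffine Z] [IsAffine ρ.U] [IsAffine ρ.R]
    [IsClosedImmersion ρ.grpd.j] [Etale ρ.s] [Etale ρ.t] [LocallyOfFiniteType ρ.π]
    [LocallyQuasiFinite ρ.π] (hEx : ρ.Ex) (u : ρ.U) : Nonempty (LocalData ρ.π ρ.s ρ.t u) := by
  obtain ⟨Z₁, g₁, V, v, hZ₁, hg₁, hvV, hfin, hvu⟩ := exists_finite_piece ρ.π u
  haveI : IsAffine Z₁ := hZ₁
  haveI : Etale g₁ := hg₁
  let ρ₁ := ρ.bc g₁
  have hEx₁ : ρ₁.Ex := hEx.bc g₁
  haveI : IsClosedImmersion ρ₁.grpd.j := Rel.isClosedImmersion_bcj ρ g₁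
  haveI : Etale ρ₁.s := Rel.etale_bcs ρ g₁
  haveI : Etale ρ₁.t := Rel.etale_bct ρ g₁
  haveI : IsAffine ρ₁.U := Rel.isAffine_bcU ρ g₁
  haveI : IsAffine ρ₁.R := Rel.isAffine_bcR ρ g₁
  let V₁ : ρ₁.U.Opens := V
  haveI : IsFinite (V₁.ι ≫ ρ₁.π) := hfin
  obtain ⟨Z₂, hZ₂, ⟨hfl, hsu, hfp, hkp⟩, x₂, hx₂⟩ := exists_localData_aux ρ₁ hEx₁ V₁ v hvV
  let ρ₂ := ρ₁.bc Z₂.ι
  refine ⟨{
    Z' := Z₂.toScheme
    g := Z₂.ι ≫ g₁
    U' := ρ₂.U
    R' := ρ₂.R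
    k := pullback.fst ρ₁.π Z₂.ι ≫ pullback.fst ρ.π g₁
    π' := ρ₂.π
    kR := pullback.fst (ρ₁.s ≫ ρ₁.π) Z₂.ι ≫ pullback.fst (ρ.s ≫ ρ.π) g₁
    s' := ρ₂.s
    t' := ρ₂.t
    etale_g := inferInstance
    sq := (IsPullback.of_hasPullback ρ₁.π Z₂.ι).paste_horiz (IsPullback.of_hasPullback ρ.π g₁)
    hs := ?_
    ht := ?_
    kp := hkp
    surj := hsu
    flat := hfl
    lofp := hfp
    x := x₂
    hx := ?_ }⟩
  · change ρ₁.bcs Z₂.ι ≫ _ ≫ _ = _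
    rw [← Category.assoc, Rel.bcs_fst, Category.assoc, Category.assoc]
    congr 1
    exact Rel.bcs_fst ρ g₁
  · change ρ₁.bct Z₂.ι ≫ _ ≫ _ = _
    rw [← Category.assoc, Rel.bct_fst, Category.assoc, Category.assoc]
    congr 1
    exact Rel.bct_fst ρ g₁
  · rw [Scheme.Hom.comp_apply, hx₂]
    exact hvu

end Groth.Agent.Lib.H5bLqf
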