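import Mathlib
import Groth.Prelude.Def_AlgSp
import Groth.Agent.S9878
import Groth.Agent.S9874
import Groth.Agent.Lib.Helper12ZarGlue

/-!
# Coproducts of fppf sheaves over `S` (helper5)

* `repWith_inj`: the coprojections of a coproduct of sheaves are (representable) open immersions;
* `subsingleton_hom_of_isEmpty`: an empty scheme has exactly one point in every sheaf;
* `isPullback_inj_of_map`: a morphism of coproducts induced by morphisms of the summands is
  cartesian over each summand;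
* `exists_yon_iso`: a coproduct of representable sheaves is representable;
* `repWith_desc_of_zariskiLocal`: a coproduct of morphisms representable with a Zariski-local
  property is representable with that property;
* `representable_diag`: the diagonal of a coproduct of sheaves with representable diagonals is
  representable.
-/

set_option autoImplicit false
set_option linter.style.haveILetI false
universe u

namespace Groth.Agent.Lib.H5bCoprodSp

open CategoryTheory CategoryTheory.Limits AlgebraicGeometry Opposite MorphismProperty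
open AlgSp Groth.Agent.S13210 Groth.Agent.S9878 Groth.Agent.S9900 Groth.Agent.S9874
open Groth.Agent.Lib.Helper12.ZarGlue

variable {S : Scheme.{u}}

/-- the empty sieve covers an empty scheme. -/
lemma ofArrows_pempty_mem (Z : Over S) [IsEmpty Z.left] :
    Sieve.ofArrows (fun i : PEmpty.{u + 1} => (i.elim : Over S)) (fun i => (i.elim : _ ⟶ Z)) ∈
      AlgSp.J S Z := by
  rw [GrothendieckTopology.mem_over_iff, Sieve.overEquiv_ofArrows]
  apply Precoverage.generate_mem_toGrothendieck
  rw [Scheme.fppfPrecoverage, Scheme.ofArrows_mem_precoverage_iff]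
  exact ⟨fun x => (IsEmpty.false x).elim, fun i => i.elim⟩

/-- an empty scheme has at most one point in any sheaf. -/
lemma subsingleton_hom_of_isEmpty (G : AlgSp.Sp S) (Z : Over S) [IsEmpty Z.left] :
    Subsingleton ((AlgSp.yon S).obj Z ⟶ G) := by
  have hsh : Presieve.IsSheaf (AlgSp.J S) G.obj := (isSheaf_iff_isSheaf_of_type _ _).1 G.property
  have h1 := (hsh.isSeparated _ (ofArrows_pempty_mem Z))
  refine ⟨fun a b => ?_⟩
  apply (yEquiv Z G).injective
  refine h1 (fun Y f hf => False.elim ?_) _ _ ?_ ?_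
  · obtain ⟨_, _, _, ⟨i⟩, _⟩ := hf
    exact i.elim
  · rintro Y f ⟨_, _, _, ⟨i⟩, _⟩
    exact i.elim
  · rintro Y f ⟨_, _, _, ⟨i⟩, _⟩
    exact i.elim

section Cofan

variable {ι : Type u} {F : ι → AlgSp.Sp S} (c : Cofan F) (hc : IsColimit c)

include hc in
/-- the coprojections of a coproduct of sheaves are open immersions. -/
lemma repWith_inj (i : ι) : AlgSp.RepWith @IsOpenImmersion (c.inj i) := by
  refine MorphismProperty.relative.of_exists (fun T x => ?_)
  obtain ⟨W, hd, hcov, hW⟩ := exists_clopen_decomposition c hc x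
  obtain ⟨a, sq⟩ := hW i
  exact ⟨_, a, _, sq, (inferInstance : IsOpenImmersion (W i).ι)⟩

include hc in
/-- a point of the coproduct which lies over the `i`-th summand comes from the `i`-th summand:
a morphism of coproducts induced by morphisms of the summands is cartesian over each summand. -/
lemma isPullback_inj_of_map {F' : ι → AlgSp.Sp S} (c' : Cofan F') (hc' : IsColimit c')
    (φ : ∀ i, F' i ⟶ F i) (Φ : c'.pt ⟶ c.pt) (hΦ : ∀ i, c'.inj i ≫ Φ = φ i ≫ c.inj i) (i : ι) :
    IsPullback (c'.inj i) (φ i) Φ (c.inj i) := by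
  haveI := mono_inj c hc i
  haveI := mono_inj c' hc' i
  refine isPullback_of_yon (hΦ i) (fun T u b hub => ?_)
  obtain ⟨W, hd, hcov, hW⟩ := exists_clopen_decomposition c' hc' u
  choose a sq using hW
  have hempty : ∀ j, j ≠ i → IsEmpty (W j) := by
    intro j hj
    refine isEmpty_of_inj_eq c hc hj (P := Over.mk ((W j).ι ≫ T.hom))
      ((AlgSp.yon S).map (Over.homMk (W j).ι : Over.mk ((W j).ι ≫ T.hom) ⟶ T) ≫ b)
      (a j ≫ φ j) ?_
    rw [Category.assoc, Category.assoc, ← hΦ j, ← hub, ← Category.assoc, ← Category.assoc,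
      (sq j).w]
  have htop : (W i).ι.opensRange = ⊤ := by
    rw [Scheme.Opens.opensRange_ι]
    rw [eq_top_iff]
    intro t _
    have ht : t ∈ ⨆ j, W j := by rw [hcov]; trivial
    obtain ⟨j, hj⟩ := TopologicalSpace.Opens.mem_iSup.1 ht
    by_cases hji : j = i
    · rw [← hji]; exact hj
    · exact ((hempty j hji).false ⟨t, hj⟩).elim
  haveI : IsIso (W i).ι := isIso_of_isOpenImmersion_of_opensRange_eq_top _ htop
  let jj : Over.mk ((W i).ι ≫ T.hom) ⟶ T := Over.homMk (W i).ι
  haveI : IsIso jj := by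
    haveI : IsIso ((Over.forget S).map jj) := (inferInstance : IsIso (W i).ι)
    exact isIso_of_reflects_iso jj (Over.forget S)
  have h1 : ((AlgSp.yon S).map (inv jj) ≫ a i) ≫ c'.inj i = u := by
    rw [Category.assoc, (sq i).w, ← Category.assoc, ← Functor.map_comp, IsIso.inv_hom_id,
      CategoryTheory.Functor.map_id, Category.id_comp]
  refine ⟨(AlgSp.yon S).map (inv jj) ≫ a i, ⟨h1, ?_⟩, fun l hl => ?_⟩
  · rw [← cancel_mono (c.inj i), Category.assoc, ← hΦ i, ← Category.assoc, h1, hub]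
  · rw [← cancel_mono (c'.inj i), hl.1, h1]

include hc in
/-- the coprojections are jointly surjective on points of schemes. -/
lemma jointlySurjective_inj (hf : ∀ i, AlgSp.RepWith @IsOpenImmersion (c.inj i))
    {T : Over S} (g : (AlgSp.yon S).obj T ⟶ c.pt) (t : T.left) :
    ∃ i, t ∈ Set.range ((hf i).rep.snd g).left := by
  obtain ⟨W, hd, hcov, hW⟩ := exists_clopen_decomposition c hc g
  have ht : t ∈ ⨆ j, W j := by rw [hcov]; trivial
  obtain ⟨i, hi⟩ := TopologicalSpace.Opens.mem_iSup.1 ht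
  obtain ⟨a, sq⟩ := hW i
  refine ⟨i, ?_⟩
  have sq' := (hf i).rep.isPullback g
  obtain ⟨m, hm⟩ := (AlgSp.yon S).map_surjective (sq'.lift a _ sq.w)
  have hm2 : m ≫ (hf i).rep.snd g =
      (CategoryTheory.Over.homMk (W i).ι : Over.mk ((W i).ι ≫ T.hom) ⟶ T) := by
    apply (AlgSp.yon S).map_injective
    rw [Functor.map_comp, hm, sq'.lift_snd]
  have hm3 : m.left ≫ ((hf i).rep.snd g).left = (W i).ι := by
    rw [← Over.comp_left, hm2]
    rfl
  refine ⟨m.left ⟨t, hi⟩, ?_⟩
  have h4 := congrArg (fun q => q ⟨t, hi⟩) hm3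
  exact h4

include hc in
/-- a morphism of coproducts induced by morphisms of the summands which are representable with a
Zariski-local property is representable with this property. -/
theorem repWith_map_of_zariskiLocal (P : MorphismProperty Scheme.{u}) [IsZariskiLocalAtTarget P]
    {F' : ι → AlgSp.Sp S} (c' : Cofan F') (hc' : IsColimit c')
    (φ : ∀ i, F' i ⟶ F i) (Φ : c'.pt ⟶ c.pt) (hΦ : ∀ i, c'.inj i ≫ Φ = φ i ≫ c.inj i)
    (h : ∀ i, AlgSp.RepWith P (φ i)) : AlgSp.RepWith P Φ := by
  haveI : P.RespectsIso := inferInstance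
  haveI : (P.inverseImage (Over.forget S)).RespectsIso :=
    MorphismProperty.RespectsIso.inverseImage P _
  refine MorphismProperty.relative.of_exists (fun T x => ?_)
  obtain ⟨W, hd, hcov, hW⟩ := exists_clopen_decomposition c hc x
  choose a sq using hW
  let Ti : ι → Over S := fun i => Over.mk ((W i).ι ≫ T.hom)
  let j : ∀ i, Ti i ⟶ T := fun i => CategoryTheory.Over.homMk (W i).ι
  haveI : ∀ i, IsOpenImmersion (j i).left := fun i => inferInstanceAs (IsOpenImmersion (W i).ι)
  have hj : ∀ t : T.left, ∃ i, t ∈ Set.range (j i).left := by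
    intro t
    have ht : t ∈ ⨆ j, W j := by rw [hcov]; trivial
    obtain ⟨i, hi⟩ := TopologicalSpace.Opens.mem_iSup.1 ht
    exact ⟨i, ⟨t, hi⟩, rfl⟩
  let Q : ι → Over S := fun i => (h i).rep.pullback (a i)
  let w : ∀ i, Q i ⟶ Ti i := fun i => (h i).rep.snd (a i)
  let b : ∀ i, (AlgSp.yon S).obj (Q i) ⟶ c'.pt := fun i => (h i).rep.fst (a i) ≫ c'.inj i
  have sqb : ∀ i, IsPullback (b i) ((AlgSp.yon S).map (w i)) Φ ((AlgSp.yon S).map (j i) ≫ x) := by
    intro i
    have h1 := ((h i).rep.isPullback (a i)).paste_horiz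
      (isPullback_inj_of_map c hc c' hc' φ Φ hΦ i)
    rw [(sq i).w] at h1
    exact h1
  obtain ⟨W₀, w₀, a₀, sq₀, hk⟩ := exists_rep_of_openCover Φ x Ti j Q w b sqb hj
  choose k hk1 _ using hk
  exact ⟨W₀, a₀, w₀, sq₀, property_of_openCover P w₀ Ti j hj Q w k hk1
    (fun i => (h i).property_snd _)⟩

include hc in
/-- local equalizer loci in a coproduct of sheaves with representable diagonals. -/
lemma exists_isEqLocus_of_factor (h : ∀ i, AlgSp.Representable (Limits.diag (F i)))
    {T V : Over S} (a b : (AlgSp.yon S).obj T ⟶ c.pt) (v : V ⟶ T) {i j : ι}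
    (α : (AlgSp.yon S).obj V ⟶ F i) (β : (AlgSp.yon S).obj V ⟶ F j)
    (hα : α ≫ c.inj i = (AlgSp.yon S).map v ≫ a) (hβ : β ≫ c.inj j = (AlgSp.yon S).map v ≫ b) :
    ∃ (E : Over S) (e : E ⟶ V), IsEqLocus ((AlgSp.yon S).map v ≫ a) ((AlgSp.yon S).map v ≫ b) e := by
  by_cases hij : j = i
  · subst hij
    haveI := mono_inj c hc j
    obtain ⟨E, e, he⟩ := exists_isEqLocus (h j) α β
    refine ⟨E, e, he.1, fun T' t => ?_⟩
    rw [← he.2 T' t, ← hα, ← hβ, ← Category.assoc, ← Category.assoc, cancel_mono]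
  · let E : Over S := Over.mk (initial.to V.left ≫ V.hom)
    let e : E ⟶ V := CategoryTheory.Over.homMk (initial.to V.left)
    haveI : Mono e := by
      haveI : Mono e.left := (inferInstance : Mono (initial.to V.left))
      exact Over.mono_of_mono_left e
    refine ⟨E, e, inferInstance, fun T' t => ⟨fun hab => ?_, ?_⟩⟩
    · haveI : IsEmpty T'.left := isEmpty_of_inj_eq c hc hij ((AlgSp.yon S).map t ≫ α)
        ((AlgSp.yon S).map t ≫ β) (by
          rw [Category.assoc, Category.assoc, hα, hβ, hab])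
      have hI : IsInitial T'.left := isInitialOfIsEmpty
      refine ⟨CategoryTheory.Over.homMk (hI.to _) (hI.hom_ext _ _), ?_⟩
      apply Over.OverMorphism.ext
      exact hI.hom_ext _ _
    · rintro ⟨t', -⟩
      haveI : IsEmpty T'.left := ⟨fun p => (inferInstance : IsEmpty ↥(⊥_ Scheme.{u})).false (t'.left p)⟩
      haveI := subsingleton_hom_of_isEmpty c.pt T'
      exact Subsingleton.elim _ _

include hc in
/-- the diagonal of a coproduct of sheaves with representable diagonals is representable. -/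
theorem representable_diag (h : ∀ i, AlgSp.Representable (Limits.diag (F i))) :
    AlgSp.Representable (Limits.diag c.pt) := by
  intro T g
  obtain ⟨Wa, -, hcova, hWa⟩ := exists_clopen_decomposition c hc (g ≫ prod.fst)
  obtain ⟨Wb, -, hcovb, hWb⟩ := exists_clopen_decomposition c hc (g ≫ prod.snd)
  choose a sqa using hWa
  choose b sqb using hWb
  let V : ι × ι → T.left.Opens := fun ij => Wa ij.1 ⊓ Wb ij.2
  let Ti : ι × ι → Over S := fun ij => Over.mk ((V ij).ι ≫ T.hom)
  let j : ∀ ij, Ti ij ⟶ T := fun ij => CategoryTheory.Over.homMk (V ij).ι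
  haveI : ∀ ij, IsOpenImmersion (j ij).left := fun ij =>
    inferInstanceAs (IsOpenImmersion (V ij).ι)
  have hj : ∀ t : T.left, ∃ ij, t ∈ Set.range (j ij).left := by
    intro t
    have hta : t ∈ ⨆ j, Wa j := by rw [hcova]; trivial
    have htb : t ∈ ⨆ j, Wb j := by rw [hcovb]; trivial
    obtain ⟨i₁, hi₁⟩ := TopologicalSpace.Opens.mem_iSup.1 hta
    obtain ⟨i₂, hi₂⟩ := TopologicalSpace.Opens.mem_iSup.1 htb
    exact ⟨(i₁, i₂), ⟨t, ⟨hi₁, hi₂⟩⟩, rfl⟩
  let ra : ∀ ij, Ti ij ⟶ Over.mk ((Wa ij.1).ι ≫ T.hom) := fun ij =>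
    CategoryTheory.Over.homMk (T.left.homOfLE (inf_le_left : V ij ≤ Wa ij.1)) (by
      show T.left.homOfLE _ ≫ (Wa ij.1).ι ≫ T.hom = (V ij).ι ≫ T.hom
      rw [← Category.assoc, Scheme.homOfLE_ι])
  let rb : ∀ ij, Ti ij ⟶ Over.mk ((Wb ij.2).ι ≫ T.hom) := fun ij =>
    CategoryTheory.Over.homMk (T.left.homOfLE (inf_le_right : V ij ≤ Wb ij.2)) (by
      show T.left.homOfLE _ ≫ (Wb ij.2).ι ≫ T.hom = (V ij).ι ≫ T.hom
      rw [← Category.assoc, Scheme.homOfLE_ι])
  have hra : ∀ ij, ra ij ≫ (CategoryTheory.Over.homMk (Wa ij.1).ι :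
      Over.mk ((Wa ij.1).ι ≫ T.hom) ⟶ T) = j ij := fun ij => by
    apply Over.OverMorphism.ext
    exact Scheme.homOfLE_ι T.left (inf_le_left : V ij ≤ Wa ij.1)
  have hrb : ∀ ij, rb ij ≫ (CategoryTheory.Over.homMk (Wb ij.2).ι :
      Over.mk ((Wb ij.2).ι ≫ T.hom) ⟶ T) = j ij := fun ij => by
    apply Over.OverMorphism.ext
    exact Scheme.homOfLE_ι T.left (inf_le_right : V ij ≤ Wb ij.2)
  have hloc : ∀ ij, ∃ (E : Over S) (e : E ⟶ Ti ij),
      IsEqLocus (((AlgSp.yon S).map (j ij) ≫ g) ≫ prod.fst)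
        (((AlgSp.yon S).map (j ij) ≫ g) ≫ prod.snd) e := by
    intro ij
    rw [Category.assoc, Category.assoc]
    refine exists_isEqLocus_of_factor c hc h (g ≫ prod.fst) (g ≫ prod.snd) (j ij)
      ((AlgSp.yon S).map (ra ij) ≫ a ij.1) ((AlgSp.yon S).map (rb ij) ≫ b ij.2) ?_ ?_
    · rw [Category.assoc, (sqa ij.1).w, ← Category.assoc, ← Functor.map_comp, hra]
    · rw [Category.assoc, (sqb ij.2).w, ← Category.assoc, ← Functor.map_comp, hrb]
  choose E e he using hloc
  obtain ⟨W₀, w₀, a₀, sq₀, -⟩ := exists_rep_of_openCover (Limits.diag c.pt) g Ti j E e _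
    (fun ij => IsEqLocus.isPullback_diag _ (he ij)) hj
  exact ⟨W₀, w₀, a₀, sq₀⟩

end Cofan

/-- a coproduct of representable sheaves is representable (by the coproduct of the schemes). -/
theorem exists_yon_iso {ι : Type u} (U : ι → Over S) (c : Cofan (fun i => (AlgSp.yon S).obj (U i)))
    (hc : IsColimit c) :
    ∃ (W : Over S) (e : (AlgSp.yon S).obj W ≅ c.pt) (k : ∀ i, U i ⟶ W),
      (∀ i, (AlgSp.yon S).map (k i) ≫ e.hom = c.inj i) ∧ ∀ i, IsOpenImmersion (k i).left :=
  exists_iso (G := c.pt) (X := U) (f := fun i => c.inj i) (fun i => repWith_inj c hc i)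
    (fun _ g t => jointlySurjective_inj c hc (fun i => repWith_inj c hc i) g t)

end Groth.Agent.Lib.H5bCoprodSp
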