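import Mathlib
import Groth.Prelude.Def_Desc
import Groth.Prelude.Def_AlgSp
import Groth.Agent.Lib.H5bSpDescC
import Groth.Agent.Lib.H5bDDGenK
import Groth.Agent.S9900
import Groth.Agent.S9874

/-!
# Representability of the diagonal from an étale chart (helper5)

If `q : h_U ⟶ F` is representable, étale and surjective, then the diagonal of the sheaf `F` is
representable (`representable_diag_of_chart`).  The equalizer locus of two points of `F` is
representable after an étale covering (by a monomorphism locally of finite type), and descent of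
separated locally quasi-finite schemes is effective.
-/

set_option autoImplicit false
set_option linter.unusedSectionVars false
set_option linter.style.haveILetI false
universe u

namespace Groth.Agent.Lib.H5bSpDesc

open CategoryTheory CategoryTheory.Limits AlgebraicGeometry Desc AlgSp Opposite
open Groth.Agent.S9900

variable {S : Scheme.{u}}

set_option backward.isDefEq.respectTransparency false in
/-- equalizers in `Over S` are immersions. -/
lemma isImmersion_equalizer_ι_left {X Y : Over S} (f g : X ⟶ Y) :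
    IsImmersion (equalizer.ι f g).left := by
  refine MorphismProperty.of_isPullback
    ((Limits.isPullback_equalizer_prod f g).map (Over.forget _)).flip ?_
  rw [← MorphismProperty.cancel_right_of_respectsIso @IsImmersion _
    (Over.prodLeftIsoPullback Y Y).hom]
  convert! (inferInstance : IsImmersion (pullback.diagonal Y.hom))
  ext1 <;> simp [← Over.comp_left]

/-- the equalizer locus of two points which lift to an étale chart. -/
lemma exists_isEqLocus_of_lift {F : AlgSp.Sp S} {U : Over S} (q : (yon S).obj U ⟶ F)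
    (hqe : AlgSp.RepWith @Etale q) {T' : Over S} (α β : T' ⟶ U) :
    ∃ (W' : Over S) (g' : W' ⟶ T'),
      IsEqLocus ((yon S).map α ≫ q) ((yon S).map β ≫ q) g' ∧ LocallyOfFiniteType g'.left := by
  obtain ⟨V₁, v, u₁', sq₁⟩ := hqe.1 ((yon S).map α ≫ q)
  obtain ⟨u₁, rfl⟩ := (yon S).map_surjective u₁'
  haveI : Etale v.left := hqe.2 _ _ v sq₁
  let ι : equalizer u₁ (v ≫ β) ⟶ V₁ := equalizer.ι u₁ (v ≫ β)
  have hι : ι ≫ u₁ = ι ≫ v ≫ β := equalizer.condition u₁ (v ≫ β)
  refine ⟨equalizer u₁ (v ≫ β), ι ≫ v, ⟨⟨fun {Z} x₁ x₂ hx => ?_⟩, fun Z t => ⟨fun h => ?_, ?_⟩⟩, ?_⟩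
  · have h1 : (x₁ ≫ ι) ≫ v = (x₂ ≫ ι) ≫ v := by
      rw [Category.assoc, Category.assoc]
      exact hx
    have h2 : (x₁ ≫ ι) ≫ u₁ = (x₂ ≫ ι) ≫ u₁ := by
      rw [Category.assoc, Category.assoc, hι, ← Category.assoc, ← Category.assoc,
        ← Category.assoc, ← Category.assoc, h1]
    have h3 : x₁ ≫ ι = x₂ ≫ ι := by
      apply (yon S).map_injective
      apply sq₁.hom_ext
      · rw [← Functor.map_comp, ← Functor.map_comp, h2]
      · rw [← Functor.map_comp, ← Functor.map_comp, h1]
    exact (cancel_mono ι).1 h3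
  · have hw : (yon S).map (t ≫ β) ≫ q = (yon S).map t ≫ (yon S).map α ≫ q := by
      rw [Functor.map_comp, Category.assoc]
      exact h.symm
    obtain ⟨z₀, hz₀⟩ := (yon S).map_surjective (sq₁.lift _ _ hw)
    have hz1 : z₀ ≫ u₁ = t ≫ β := by
      apply (yon S).map_injective
      rw [Functor.map_comp, hz₀, sq₁.lift_fst]
    have hz2 : z₀ ≫ v = t := by
      apply (yon S).map_injective
      rw [Functor.map_comp, hz₀, sq₁.lift_snd]
    have hz3 : z₀ ≫ u₁ = z₀ ≫ v ≫ β := by
      rw [hz1, ← Category.assoc, hz2]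
    refine ⟨equalizer.lift z₀ hz3, ?_⟩
    rw [← Category.assoc]
    have : equalizer.lift z₀ hz3 ≫ ι = z₀ := equalizer.lift_ι z₀ hz3
    rw [this, hz2]
  · rintro ⟨t', rfl⟩
    have e1 : (yon S).map ((t' ≫ ι) ≫ v) ≫ (yon S).map α ≫ q =
        (yon S).map ((t' ≫ ι) ≫ u₁) ≫ q := by
      rw [Functor.map_comp, Category.assoc, ← sq₁.w, ← Category.assoc, ← Functor.map_comp]
    have e2 : (t' ≫ ι) ≫ u₁ = ((t' ≫ ι) ≫ v) ≫ β := by
      rw [Category.assoc, hι, Category.assoc, Category.assoc]
    have e3 : t' ≫ ι ≫ v = (t' ≫ ι) ≫ v := (Category.assoc _ _ _).symm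
    rw [e3, e1, e2, Functor.map_comp, Category.assoc]
  · haveI : IsImmersion ι.left := isImmersion_equalizer_ι_left u₁ (v ≫ β)
    have : (ι ≫ v).left = ι.left ≫ v.left := rfl
    rw [this]
    infer_instance

/-- equalizer loci of points of a sheaf with an étale surjective chart are representable. -/
theorem exists_isEqLocus_of_chart {F : AlgSp.Sp S} {U : Over S} (q : (yon S).obj U ⟶ F)
    (hqe : AlgSp.RepWith @Etale q) (hqs : AlgSp.RepWith @Surjective q) {T : Over S}
    (a b : (yon S).obj T ⟶ F) : ∃ (E : Over S) (e : E ⟶ T), IsEqLocus a b e := by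
  -- the covering on which both points lift
  obtain ⟨T₁, p₁, a₁, sqa⟩ := hqe.1 a
  haveI : Etale p₁.left := hqe.2 _ _ p₁ sqa
  haveI : Surjective p₁.left := hqs.2 _ _ p₁ sqa
  obtain ⟨T', p₂, b₁, sqb⟩ := hqe.1 ((yon S).map p₁ ≫ b)
  haveI : Etale p₂.left := hqe.2 _ _ p₂ sqb
  haveI : Surjective p₂.left := hqs.2 _ _ p₂ sqb
  obtain ⟨pT, hpT⟩ : ∃ pT : T' ⟶ T, pT = p₂ ≫ p₁ := ⟨_, rfl⟩
  have hpTl : pT.left = p₂.left ≫ p₁.left := by rw [hpT]; rfl
  haveI : Etale pT.left := by rw [hpTl]; infer_instance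
  haveI : Surjective pT.left := by rw [hpTl]; infer_instance
  obtain ⟨α, hα⟩ := (yon S).map_surjective ((yon S).map p₂ ≫ a₁)
  obtain ⟨β, hβ⟩ := (yon S).map_surjective b₁
  have hαq : (yon S).map α ≫ q = (yon S).map pT ≫ a := by
    rw [hα, Category.assoc, sqa.w, ← Category.assoc, ← Functor.map_comp, hpT]
  have hβq : (yon S).map β ≫ q = (yon S).map pT ≫ b := by
    rw [hβ, sqb.w, ← Category.assoc, ← Functor.map_comp, hpT]
  obtain ⟨W', g', hg', hlft⟩ := exists_isEqLocus_of_lift q hqe α β
  rw [hαq, hβq] at hg'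
  haveI : Mono g' := hg'.1
  haveI : Mono g'.left := inferInstance
  -- the equalizer sheaf
  have hσ : (yon S).map (g' ≫ pT) ≫ a = (yon S).map (g' ≫ pT) ≫ b := by
    rw [Functor.map_comp, Category.assoc, Category.assoc]
    exact hg'.eq
  let σ : (yon S).obj W' ⟶ equalizer a b := equalizer.lift _ hσ
  have hσι : σ ≫ equalizer.ι a b = (yon S).map g' ≫ (yon S).map pT := by
    rw [← Functor.map_comp]
    exact equalizer.lift_ι _ hσ
  have sq : IsPullback σ ((yon S).map g') (equalizer.ι a b) ((yon S).map pT) := by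
    refine Groth.Agent.S13210.isPullback_of_yon hσι (fun Z b₀ x' hb => ?_)
    obtain ⟨x, rfl⟩ := (yon S).map_surjective x'
    have hx : (yon S).map x ≫ (yon S).map pT ≫ a = (yon S).map x ≫ (yon S).map pT ≫ b := by
      rw [← Category.assoc, ← Category.assoc, ← hb, Category.assoc, Category.assoc,
        equalizer.condition]
    obtain ⟨t', ht'⟩ := (hg'.2 Z x).1 hx
    refine ⟨(yon S).map t', ⟨?_, ?_⟩, ?_⟩
    · rw [← cancel_mono (equalizer.ι a b), Category.assoc, hσι, ← Category.assoc,
        ← Functor.map_comp, ht', hb]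
    · rw [← Functor.map_comp, ht']
    · rintro z ⟨-, hz⟩
      obtain ⟨t'', rfl⟩ := (yon S).map_surjective z
      congr 1
      rw [← cancel_mono g', ht']
      apply (yon S).map_injective
      rw [Functor.map_comp, hz]
  -- effectivity of the descent datum
  haveI : LocallyOfFiniteType (sheafDD sq).obj.hom := hlft
  haveI : Mono (sheafDD sq).obj.hom := inferInstanceAs (Mono g'.left)
  haveI : IsSeparated (sheafDD sq).obj.hom := inferInstance
  haveI : LocallyQuasiFinite (sheafDD sq).obj.hom := inferInstance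
  obtain ⟨W₀, ⟨e⟩⟩ := Groth.Agent.Lib.H5bDDGen.effective_sep_lqf_fppf pT.left (sheafDD sq)
  obtain ⟨W, w, τ, hτ⟩ := exists_rep_of_iso sq W₀ e
  refine ⟨W, w, ?_, fun Z t => ⟨fun h => ?_, ?_⟩⟩
  · haveI : Mono ((yon S).map w) := by
      rw [← hτ]
      infer_instance
    exact (yon S).mono_of_mono_map inferInstance
  · obtain ⟨t', ht'⟩ := (yon S).map_surjective (equalizer.lift _ h ≫ τ.inv)
    refine ⟨t', (yon S).map_injective ?_⟩
    rw [Functor.map_comp, ht', ← hτ, Category.assoc, Iso.inv_hom_id_assoc, equalizer.lift_ι]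
  · rintro ⟨t', rfl⟩
    rw [Functor.map_comp, ← hτ, Category.assoc, Category.assoc, Category.assoc, Category.assoc,
      equalizer.condition]

/-- a sheaf with a representable étale surjective chart has representable diagonal. -/
theorem representable_diag_of_chart {F : AlgSp.Sp S} {U : Over S} (q : (yon S).obj U ⟶ F)
    (hqe : AlgSp.RepWith @Etale q) (hqs : AlgSp.RepWith @Surjective q) :
    AlgSp.Representable (Limits.diag F) :=
  Groth.Agent.S9874.representable_diag_of_isEqLocus
    (fun a b => exists_isEqLocus_of_chart q hqe hqs a b)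

/-- a sheaf with a representable étale surjective chart is an algebraic space. -/
theorem isAlgSpace_of_chart {F : AlgSp.Sp S} {U : Over S} (q : (yon S).obj U ⟶ F)
    (hqe : AlgSp.RepWith @Etale q) (hqs : AlgSp.RepWith @Surjective q) : AlgSp.IsAlgSpace F :=
  ⟨representable_diag_of_chart q hqe hqs, U, q, hqe, hqs⟩

end Groth.Agent.Lib.H5bSpDesc
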