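import Mathlib
import Groth.Prelude.Def_Desc
import Groth.Prelude.Def_AlgSp
import Groth.Agent.Lib.H5bSpDescE0
import Groth.Agent.Lib.H5bCoprodSp
import Groth.Agent.S9884
import Groth.Agent.S14276

/-!
# Equalizer loci fppf-locally, and sheaves with a representable kernel pair (helper5)

* `exists_single_cover_lift`: a point of the target of a locally surjective map of fppf sheaves
  lifts after base change along a single fppf covering morphism of schemes;
* `exists_isEqLocus_of_cover`: representability of the equalizer locus of two points of a sheaf is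
  fppf-local, if the local equalizer locus is locally of finite type;
* `exists_isEqLocus_of_kernelPair`: equalizer loci of points lifting to `h_U`, where the kernel
  pair of `q : h_U ⟶ F` is represented by `s, t : R ⟶ U` with `t` locally of finite type;
* `representable_diag_of_kernelPair`.
-/

set_option autoImplicit false
set_option linter.unusedSectionVars false
set_option linter.style.haveILetI false
universe u

namespace Groth.Agent.Lib.H5bSpDesc

open CategoryTheory CategoryTheory.Limits AlgebraicGeometry Desc AlgSp Opposite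
open Groth.Agent.S9900

variable {S : Scheme.{u}}

/-- local lifting along a locally surjective map, on a single fppf covering morphism. -/
theorem exists_single_cover_lift {H G : AlgSp.Sp S} (b : H ⟶ G) [Sheaf.IsLocallySurjective b]
    {T : Over S} (c : (yon S).obj T ⟶ G) :
    ∃ (T' : Over S) (pT : T' ⟶ T) (d : (yon S).obj T' ⟶ H), Surjective pT.left ∧ Flat pT.left ∧
      LocallyOfFinitePresentation pT.left ∧ d ≫ b = (yon S).map pT ≫ c := by
  obtain ⟨R, hR, hlift⟩ := Groth.Agent.S9884.exists_fppf_lift b c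
  obtain ⟨hRs, hRp⟩ := (Groth.Agent.S14276.mem_precoverage_iff').1 hR
  choose Y g hg hx using hRs
  choose d hd using fun x => hlift (g x) (hg x)
  let U : T.left → Over S := fun x => Over.mk (g x ≫ T.hom)
  let f : ∀ x, U x ⟶ T := fun x => Over.homMk (g x)
  let cof : Cofan (fun x => (yon S).obj (U x)) :=
    Cofan.mk (∐ fun x => (yon S).obj (U x)) (Sigma.ι _)
  have hcof : IsColimit cof := coproductIsCoproduct _
  obtain ⟨W, e, k, hk, hko⟩ := Groth.Agent.Lib.H5bCoprodSp.exists_yon_iso U cof hcof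
  let Φ : cof.pt ⟶ (yon S).obj T := Sigma.desc (fun x => (yon S).map (f x))
  have hΦ : ∀ x, cof.inj x ≫ Φ = (yon S).map (f x) := fun x => Sigma.ι_desc _ _
  let Δ : cof.pt ⟶ H := Sigma.desc d
  have hΔ : ∀ x, cof.inj x ≫ Δ = d x := fun x => Sigma.ι_desc _ _
  obtain ⟨pT, hpT⟩ := (yon S).map_surjective (e.hom ≫ Φ)
  have hkp : ∀ x, k x ≫ pT = f x := fun x => by
    apply (yon S).map_injective
    rw [Functor.map_comp, hpT, ← Category.assoc, hk, hΦ]
  -- the decomposition of `W`
  obtain ⟨Wo, -, hcov, hWo⟩ := Groth.Agent.S9878.exists_clopen_decomposition cof hcof e.hom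
  have hloc : ∀ x, ∃ m : (Wo x : Scheme.{u}) ⟶ (U x).left, IsIso m ∧
      (Wo x).ι ≫ pT.left = m ≫ g x := by
    intro x
    obtain ⟨a, sq⟩ := hWo x
    haveI : IsIso a := sq.isIso_fst_of_isIso
    obtain ⟨a', ha'⟩ := (yon S).map_surjective a
    haveI : IsIso ((yon S).map a') := by rw [ha']; infer_instance
    haveI : IsIso a' := isIso_of_fully_faithful (yon S) a'
    haveI : IsIso a'.left := inferInstanceAs (IsIso ((Over.forget S).map a'))
    refine ⟨a'.left, inferInstance, ?_⟩
    have h1 : (Over.homMk (Wo x).ι : Over.mk ((Wo x).ι ≫ W.hom) ⟶ W) ≫ pT = a' ≫ f x := by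
      apply (yon S).map_injective
      rw [Functor.map_comp, Functor.map_comp, hpT, ← Category.assoc, ← sq.w, ha', Category.assoc,
        hΦ]
    exact congrArg (fun m => m.left) h1
  refine ⟨W, pT, e.hom ≫ Δ, ⟨fun t => ?_⟩, ?_, ?_, ?_⟩
  · obtain ⟨y, hy⟩ := hx t
    refine ⟨(k t).left y, ?_⟩
    rw [← Scheme.Hom.comp_apply, ← Over.comp_left, hkp]
    exact hy
  · refine IsZariskiLocalAtSource.of_iSup_eq_top (P := @Flat) Wo hcov (fun x => ?_)
    obtain ⟨m, hm, hmg⟩ := hloc x
    rw [hmg]
    haveI : Flat (g x) := (hRp (g x) (hg x)).1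
    infer_instance
  · refine IsZariskiLocalAtSource.of_iSup_eq_top (P := @LocallyOfFinitePresentation) Wo hcov
      (fun x => ?_)
    obtain ⟨m, hm, hmg⟩ := hloc x
    rw [hmg]
    haveI : LocallyOfFinitePresentation (g x) := (hRp (g x) (hg x)).2
    infer_instance
  · rw [hpT, Category.assoc, Category.assoc]
    congr 1
    refine Cofan.IsColimit.hom_ext hcof _ _ (fun x => ?_)
    rw [← Category.assoc, hΔ, ← Category.assoc, hΦ]
    exact hd x

/-- representability of equalizer loci is fppf-local. -/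
theorem exists_isEqLocus_of_cover {F : AlgSp.Sp S} {T T' W' : Over S} (pT : T' ⟶ T)
    [Surjective pT.left] [Flat pT.left] [LocallyOfFinitePresentation pT.left]
    (a b : (yon S).obj T ⟶ F) (g' : W' ⟶ T')
    (hg' : IsEqLocus ((yon S).map pT ≫ a) ((yon S).map pT ≫ b) g')
    (hlft : LocallyOfFiniteType g'.left) : ∃ (E : Over S) (e : E ⟶ T), IsEqLocus a b e := by
  haveI : Mono g' := hg'.1
  haveI : Mono g'.left := inferInstance
  have hσ : (yon S).map (g' ≫ pT) ≫ a = (yon S).map (g' ≫ pT) ≫ b := by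
    rw [Functor.map_comp, Category.assoc, Category.assoc]
    exact hg'.eq
  let σ : (yon S).obj W' ⟶ equalizer a b := equalizer.lift _ hσ
  have hσι : σ ≫ equalizer.ι a b = (yon S).map g' ≫ (yon S).map pT := by
    rw [← Functor.map_comp]
    exact equalizer.lift_ι _ hσ
  have sq : IsPullback σ ((yon S).map g') (equalizer.ι a b) ((yon S).map pT) := by
    refine Groth.Agent.S13210.isPullback_of_yon hσι (fun Z b₀ x' hb => ?_)
    obtain ⟨x, rfl⟩ := (yon S).map_surjective x'
    have hx : (yon S).map x ≫ (yon S).map pT ≫ a = (yon S).map x ≫ (yon S).map pT ≫ b := by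
      rw [← Category.assoc, ← Category.assoc, ← hb, Category.assoc, Category.assoc,
        equalizer.condition]
    obtain ⟨t', ht'⟩ := (hg'.2 Z x).1 hx
    refine ⟨(yon S).map t', ⟨?_, ?_⟩, ?_⟩
    · rw [← cancel_mono (equalizer.ι a b), Category.assoc, hσι, ← Category.assoc,
        ← Functor.map_comp, ht', hb]
    · rw [← Functor.map_comp, ht']
    · rintro z ⟨-, hz⟩
      obtain ⟨t'', rfl⟩ := (yon S).map_surjective z
      congr 1
      rw [← cancel_mono g', ht']
      apply (yon S).map_injective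
      rw [Functor.map_comp, hz]
  haveI : LocallyOfFiniteType (sheafDD sq).obj.hom := hlft
  haveI : Mono (sheafDD sq).obj.hom := inferInstanceAs (Mono g'.left)
  haveI : IsSeparated (sheafDD sq).obj.hom := inferInstance
  haveI : LocallyQuasiFinite (sheafDD sq).obj.hom := inferInstance
  obtain ⟨W₀, ⟨e⟩⟩ := Groth.Agent.Lib.H5bDDGen.effective_sep_lqf_fppf pT.left (sheafDD sq)
  obtain ⟨W, w, τ, hτ⟩ := exists_rep_of_iso sq W₀ e
  refine ⟨W, w, ?_, fun Z t => ⟨fun h => ?_, ?_⟩⟩
  · haveI : Mono ((yon S).map w) := by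
      rw [← hτ]
      infer_instance
    exact (yon S).mono_of_mono_map inferInstance
  · obtain ⟨t', ht'⟩ := (yon S).map_surjective (equalizer.lift _ h ≫ τ.inv)
    refine ⟨t', (yon S).map_injective ?_⟩
    rw [Functor.map_comp, ht', ← hτ, Category.assoc, Iso.inv_hom_id_assoc, equalizer.lift_ι]
  · rintro ⟨t', rfl⟩
    rw [Functor.map_comp, ← hτ, Category.assoc, Category.assoc, Category.assoc, Category.assoc,
      equalizer.condition]

/-- the equalizer locus of two points which lift to `h_U`, when the kernel pair of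
`q : h_U ⟶ F` is representable. -/
lemma exists_isEqLocus_of_kernelPair {F : AlgSp.Sp S} {U R : Over S} (q : (yon S).obj U ⟶ F)
    (s t : R ⟶ U) (hk : IsPullback ((yon S).map s) ((yon S).map t) q q)
    [LocallyOfFiniteType t.left] {T' : Over S} (α β : T' ⟶ U) :
    ∃ (W' : Over S) (g' : W' ⟶ T'),
      IsEqLocus ((yon S).map α ≫ q) ((yon S).map β ≫ q) g' ∧ LocallyOfFiniteType g'.left := by
  obtain ⟨v, hv⟩ : ∃ v : pullback t α ⟶ T', v = pullback.snd t α := ⟨_, rfl⟩
  obtain ⟨u₁, hu₁⟩ : ∃ u₁ : pullback t α ⟶ U, u₁ = pullback.fst t α ≫ s := ⟨_, rfl⟩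
  have sq₁ : IsPullback ((yon S).map u₁) ((yon S).map v) q ((yon S).map α ≫ q) := by
    have h1 : IsPullback ((yon S).map (pullback.fst t α)) ((yon S).map (pullback.snd t α))
        ((yon S).map t) ((yon S).map α) := (IsPullback.of_hasPullback t α).map (yon S)
    have := h1.paste_horiz hk
    rw [hu₁, hv, Functor.map_comp]
    exact this
  haveI : LocallyOfFiniteType v.left := by
    rw [hv]
    have hsq : IsPullback (pullback.fst t α).left (pullback.snd t α).left t.left α.left :=
      (IsPullback.of_hasPullback t α).map (Over.forget S)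
    exact MorphismProperty.of_isPullback (P := @LocallyOfFiniteType) hsq inferInstance
  let ι : equalizer u₁ (v ≫ β) ⟶ pullback t α := equalizer.ι u₁ (v ≫ β)
  have hι : ι ≫ u₁ = ι ≫ v ≫ β := equalizer.condition u₁ (v ≫ β)
  refine ⟨equalizer u₁ (v ≫ β), ι ≫ v, ⟨⟨fun {Z} x₁ x₂ hx => ?_⟩, fun Z t₀ => ⟨fun h => ?_, ?_⟩⟩, ?_⟩
  · have h1 : (x₁ ≫ ι) ≫ v = (x₂ ≫ ι) ≫ v := by
      rw [Category.assoc, Category.assoc]
      exact hx
    have h2 : (x₁ ≫ ι) ≫ u₁ = (x₂ ≫ ι) ≫ u₁ := by
      rw [Category.assoc, Category.assoc, hι, ← Category.assoc, ← Category.assoc,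
        ← Category.assoc, ← Category.assoc, h1]
    have h3 : x₁ ≫ ι = x₂ ≫ ι := by
      apply (yon S).map_injective
      apply sq₁.hom_ext
      · rw [← Functor.map_comp, ← Functor.map_comp, h2]
      · rw [← Functor.map_comp, ← Functor.map_comp, h1]
    exact (cancel_mono ι).1 h3
  · have hw : (yon S).map (t₀ ≫ β) ≫ q = (yon S).map t₀ ≫ (yon S).map α ≫ q := by
      rw [Functor.map_comp, Category.assoc]
      exact h.symm
    obtain ⟨z₀, hz₀⟩ := (yon S).map_surjective (sq₁.lift _ _ hw)
    have hz1 : z₀ ≫ u₁ = t₀ ≫ β := by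
      apply (yon S).map_injective
      rw [Functor.map_comp, hz₀, sq₁.lift_fst]
    have hz2 : z₀ ≫ v = t₀ := by
      apply (yon S).map_injective
      rw [Functor.map_comp, hz₀, sq₁.lift_snd]
    have hz3 : z₀ ≫ u₁ = z₀ ≫ v ≫ β := by
      rw [hz1, ← Category.assoc, hz2]
    refine ⟨equalizer.lift z₀ hz3, ?_⟩
    rw [← Category.assoc]
    have : equalizer.lift z₀ hz3 ≫ ι = z₀ := equalizer.lift_ι z₀ hz3
    rw [this, hz2]
  · rintro ⟨t', rfl⟩
    have e1 : (yon S).map ((t' ≫ ι) ≫ v) ≫ (yon S).map α ≫ q =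
        (yon S).map ((t' ≫ ι) ≫ u₁) ≫ q := by
      rw [Functor.map_comp, Category.assoc, ← sq₁.w, ← Category.assoc, ← Functor.map_comp]
    have e2 : (t' ≫ ι) ≫ u₁ = ((t' ≫ ι) ≫ v) ≫ β := by
      rw [Category.assoc, hι, Category.assoc, Category.assoc]
    have e3 : t' ≫ ι ≫ v = (t' ≫ ι) ≫ v := (Category.assoc _ _ _).symm
    rw [e3, e1, e2, Functor.map_comp, Category.assoc]
  · haveI : IsImmersion ι.left := isImmersion_equalizer_ι_left u₁ (v ≫ β)
    have : (ι ≫ v).left = ι.left ≫ v.left := rfl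
    rw [this]
    infer_instance

/-- a sheaf `F` with a locally surjective `q : h_U ⟶ F` whose kernel pair is represented by
`s, t : R ⟶ U` with `t` locally of finite type has representable diagonal. -/
theorem representable_diag_of_kernelPair {F : AlgSp.Sp S} {U R : Over S} (q : (yon S).obj U ⟶ F)
    [Sheaf.IsLocallySurjective q] (s t : R ⟶ U)
    (hk : IsPullback ((yon S).map s) ((yon S).map t) q q) [LocallyOfFiniteType t.left] :
    AlgSp.Representable (Limits.diag F) := by
  refine Groth.Agent.S9874.representable_diag_of_isEqLocus (fun {T} a b => ?_)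
  obtain ⟨T₁, p₁, d₁, hs₁, hf₁, hp₁, hd₁⟩ := exists_single_cover_lift q a
  obtain ⟨T', p₂, d₂, hs₂, hf₂, hp₂, hd₂⟩ := exists_single_cover_lift q ((yon S).map p₁ ≫ b)
  obtain ⟨pT, hpT⟩ : ∃ pT : T' ⟶ T, pT = p₂ ≫ p₁ := ⟨_, rfl⟩
  have hpTl : pT.left = p₂.left ≫ p₁.left := by rw [hpT]; rfl
  haveI : Surjective pT.left := by rw [hpTl]; infer_instance
  haveI : Flat pT.left := by rw [hpTl]; infer_instance
  haveI : LocallyOfFinitePresentation pT.left := by rw [hpTl]; infer_instance
  obtain ⟨α, hα⟩ := (yon S).map_surjective ((yon S).map p₂ ≫ d₁)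
  obtain ⟨β, hβ⟩ := (yon S).map_surjective d₂
  have hαq : (yon S).map α ≫ q = (yon S).map pT ≫ a := by
    rw [hα, Category.assoc, hd₁, ← Category.assoc, ← Functor.map_comp, hpT]
  have hβq : (yon S).map β ≫ q = (yon S).map pT ≫ b := by
    rw [hβ, hd₂, ← Category.assoc, ← Functor.map_comp, hpT]
  obtain ⟨W', g', hg', hlft⟩ := exists_isEqLocus_of_kernelPair q s t hk α β
  rw [hαq, hβq] at hg'
  exact exists_isEqLocus_of_cover pT a b g' hg' hlft

end Groth.Agent.Lib.H5bSpDesc
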