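import Mathlib
import Groth.Prelude.Def_AlgSp
import Groth.Agent.Lib.H5bLqfLocalB
import Groth.Agent.Lib.H5bSpDescF0
import Groth.Agent.Lib.H5bQuotOpen
import Groth.Agent.Lib.H5bJointEpi
import Groth.Agent.Lib.Helper8FOThick

/-!
# From local data to representability (helper5)

`exists_iso_of_localData`: a sheaf `X` with an epimorphism `a : h_U ⟶ X` whose kernel pair is
`(h_t, h_s)`, together with `π : U ⟶ Z` equalizing `s, t` and local data `LocalData` at every point
of `U`, is representable by the open subscheme `π(U)` of `Z`.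
-/

set_option autoImplicit false
set_option linter.style.haveILetI false
set_option linter.unusedSectionVars false
set_option linter.unusedSimpArgs false
set_option linter.unusedVariables false
universe u

open CategoryTheory CategoryTheory.Limits AlgebraicGeometry AlgSp

namespace Groth.Agent.Lib.H5bLqf

variable {S : Scheme.{u}}

/-- a flat, locally finitely presented, jointly surjective family is an fppf covering. -/
theorem ofArrows_mem_J {T : Over S} {ι : Type u} (Y : ι → Over S) (c : ∀ i, Y i ⟶ T)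
    (hfl : ∀ i, Flat (c i).left) (hfp : ∀ i, LocallyOfFinitePresentation (c i).left)
    (hsurj : ∀ τ : T.left, ∃ i, τ ∈ Set.range (c i).left) :
    Sieve.ofArrows Y c ∈ AlgSp.J S T := by
  rw [GrothendieckTopology.mem_over_iff, Sieve.overEquiv_ofArrows]
  apply Precoverage.generate_mem_toGrothendieck
  refine (Scheme.ofArrows_mem_precoverage_iff
    (fun {A B : Scheme.{u}} (m : A ⟶ B) => Flat m ∧ LocallyOfFinitePresentation m)).2 ?_
  refine ⟨fun x => ?_, fun i => ⟨hfl i, hfp i⟩⟩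
  obtain ⟨i, y, hy⟩ := hsurj x
  exact ⟨i, y, hy⟩

variable {U R Zo : Over S} {s t : R ⟶ U} {π : U ⟶ Zo}
  (D : ∀ u : U.left, LocalData π.left s.left t.left u)

/-- the image of `π`, an open subset of `Z`. -/
def imO : Zo.left.Opens :=
  ⟨⋃ u, Set.range (D u).g, isOpen_iUnion fun u => by
    haveI := (D u).etale_g
    exact (D u).g.isOpenMap.isOpen_range⟩

theorem range_π_subset : Set.range π.left ⊆ Set.range (imO D).ι := by
  rintro _ ⟨u, rfl⟩
  rw [Scheme.Opens.range_ι]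
  refine Set.mem_iUnion.mpr ⟨u, (D u).π' (D u).x, ?_⟩
  rw [← Scheme.Hom.comp_apply, ← (D u).sq.w, Scheme.Hom.comp_apply, (D u).hx]

/-- `π` corestricted to its image. -/
noncomputable def πO : U.left ⟶ (imO D).toScheme :=
  IsOpenImmersion.lift (imO D).ι π.left (range_π_subset D)

@[reassoc]
theorem πO_ι : πO D ≫ (imO D).ι = π.left := IsOpenImmersion.lift_fac _ _ _

/-- the image as a scheme over `S`. -/
noncomputable abbrev Oo : Over S := Over.mk ((imO D).ι ≫ Zo.hom)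

/-- `π` corestricted to its image, over `S`. -/
noncomputable def πOo : U ⟶ Oo D := Over.homMk (πO D) (by
  change πO D ≫ (imO D).ι ≫ Zo.hom = U.hom
  rw [← Category.assoc, πO_ι, Over.w])

/-- the inclusion of the image. -/
noncomputable def ιOo : Oo D ⟶ Zo := Over.homMk (imO D).ι rfl

theorem πOo_ιOo : πOo D ≫ ιOo D = π := by
  ext
  exact πO_ι D

section Cover

variable {T : Over S} (z : T ⟶ Oo D)

/-- the covering of `T` on which `z` lifts to `U`. -/
noncomputable def Tc (u : U.left) : Over S :=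
  Over.mk (pullback.fst (z.left ≫ (imO D).ι) ((D u).π' ≫ (D u).g) ≫ T.hom)

/-- the covering maps. -/
noncomputable def cT (u : U.left) : Tc D z u ⟶ T := Over.homMk (pullback.fst _ _) rfl

theorem xT_w (u : U.left) :
    (pullback.snd (z.left ≫ (imO D).ι) ((D u).π' ≫ (D u).g) ≫ (D u).k) ≫ U.hom =
      (Tc D z u).hom := by
  have h1 : U.hom = π.left ≫ Zo.hom := (Over.w π).symm
  have h2 : z.left ≫ (imO D).ι ≫ Zo.hom = T.hom := Over.w z
  change _ = pullback.fst (z.left ≫ (imO D).ι) ((D u).π' ≫ (D u).g) ≫ T.hom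
  calc (pullback.snd (z.left ≫ (imO D).ι) ((D u).π' ≫ (D u).g) ≫ (D u).k) ≫ U.hom
      = pullback.snd (z.left ≫ (imO D).ι) ((D u).π' ≫ (D u).g) ≫
          ((D u).k ≫ π.left) ≫ Zo.hom := by
        rw [h1]
        simp only [Category.assoc]
    _ = (pullback.snd (z.left ≫ (imO D).ι) ((D u).π' ≫ (D u).g) ≫
          ((D u).π' ≫ (D u).g)) ≫ Zo.hom := by
        rw [(D u).sq.w]
        simp only [Category.assoc]
    _ = (pullback.fst (z.left ≫ (imO D).ι) ((D u).π' ≫ (D u).g) ≫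
          (z.left ≫ (imO D).ι)) ≫ Zo.hom := by
        rw [← pullback.condition]
    _ = pullback.fst (z.left ≫ (imO D).ι) ((D u).π' ≫ (D u).g) ≫ T.hom := by
        rw [Category.assoc, Category.assoc, h2]

/-- the lifts. -/
noncomputable def xT (u : U.left) : Tc D z u ⟶ U :=
  Over.homMk (pullback.snd _ _ ≫ (D u).k) (xT_w D z u)

theorem xT_πOo (u : U.left) : xT D z u ≫ πOo D = cT D z u ≫ z := by
  ext
  change (pullback.snd (z.left ≫ (imO D).ι) ((D u).π' ≫ (D u).g) ≫ (D u).k) ≫ πO D =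
    pullback.fst (z.left ≫ (imO D).ι) ((D u).π' ≫ (D u).g) ≫ z.left
  rw [← cancel_mono (imO D).ι]
  calc ((pullback.snd (z.left ≫ (imO D).ι) ((D u).π' ≫ (D u).g) ≫ (D u).k) ≫ πO D) ≫ (imO D).ι
      = pullback.snd (z.left ≫ (imO D).ι) ((D u).π' ≫ (D u).g) ≫ (D u).k ≫ π.left := by
        rw [Category.assoc, Category.assoc, πO_ι]
    _ = pullback.snd (z.left ≫ (imO D).ι) ((D u).π' ≫ (D u).g) ≫ (D u).π' ≫ (D u).g := by
        rw [(D u).sq.w]
    _ = pullback.fst (z.left ≫ (imO D).ι) ((D u).π' ≫ (D u).g) ≫ z.left ≫ (imO D).ι :=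
        pullback.condition.symm
    _ = (pullback.fst (z.left ≫ (imO D).ι) ((D u).π' ≫ (D u).g) ≫ z.left) ≫ (imO D).ι :=
        (Category.assoc _ _ _).symm

theorem cT_mem_J : Sieve.ofArrows (Tc D z) (cT D z) ∈ AlgSp.J S T := by
  refine ofArrows_mem_J _ _ (fun u => ?_) (fun u => ?_) (fun τ => ?_)
  · haveI := (D u).etale_g
    haveI := (D u).flat
    change Flat (pullback.fst (z.left ≫ (imO D).ι) ((D u).π' ≫ (D u).g))
    infer_instance
  · haveI := (D u).etale_g
    haveI := (D u).lofp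
    change LocallyOfFinitePresentation (pullback.fst (z.left ≫ (imO D).ι) ((D u).π' ≫ (D u).g))
    infer_instance
  · have hmem : (imO D).ι (z.left τ) ∈ (imO D : Set Zo.left) := (z.left τ).2
    obtain ⟨u, ζ, hζ⟩ := Set.mem_iUnion.mp hmem
    haveI := (D u).surj
    obtain ⟨ξ, rfl⟩ := (D u).π'.surjective ζ
    obtain ⟨p, hp, -⟩ := Scheme.Pullback.exists_preimage_pullback
      (f := z.left ≫ (imO D).ι) (g := (D u).π' ≫ (D u).g) τ ξ (by
        rw [Scheme.Hom.comp_apply, Scheme.Hom.comp_apply]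
        exact hζ.symm)
    exact ⟨u, p, hp⟩

end Cover

section LocalEq

variable {T : Over S} (η₁ η₂ : T ⟶ U) (h : η₁ ≫ π = η₂ ≫ π)

/-- the covering of `T` on which `(η₁, η₂)` lifts to `R`. -/
noncomputable def Tr (u : U.left) : Over S :=
  Over.mk (pullback.fst (η₂.left ≫ π.left) (D u).g ≫ T.hom)

/-- the covering maps. -/
noncomputable def cR (u : U.left) : Tr D η₂ u ⟶ T := Over.homMk (pullback.fst _ _) rfl

theorem cR_mem_J : Sieve.ofArrows (Tr D η₂) (cR D η₂) ∈ AlgSp.J S T := by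
  refine ofArrows_mem_J _ _ (fun u => ?_) (fun u => ?_) (fun τ => ?_)
  · haveI := (D u).etale_g
    change Flat (pullback.fst (η₂.left ≫ π.left) (D u).g)
    infer_instance
  · haveI := (D u).etale_g
    change LocallyOfFinitePresentation (pullback.fst (η₂.left ≫ π.left) (D u).g)
    infer_instance
  · let u₀ : U.left := η₂.left τ
    obtain ⟨p, hp, -⟩ := Scheme.Pullback.exists_preimage_pullback
      (f := η₂.left ≫ π.left) (g := (D u₀).g) τ ((D u₀).π' (D u₀).x) (by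
        rw [Scheme.Hom.comp_apply, ← Scheme.Hom.comp_apply (D u₀).π', ← (D u₀).sq.w,
          Scheme.Hom.comp_apply, (D u₀).hx])
    exact ⟨u₀, p, hp⟩

include h in
theorem exists_lift_R (u : U.left) :
    ∃ ρ : Tr D η₂ u ⟶ R, ρ ≫ t = cR D η₂ u ≫ η₁ ∧ ρ ≫ s = cR D η₂ u ≫ η₂ := by
  have hl : η₁.left ≫ π.left = η₂.left ≫ π.left := congrArg (fun m => m.left) h
  let f₀ := pullback.fst (η₂.left ≫ π.left) (D u).g
  let f₁ := pullback.snd (η₂.left ≫ π.left) (D u).g
  have c₂ : (f₀ ≫ η₂.left) ≫ π.left = f₁ ≫ (D u).g := by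
    rw [Category.assoc]
    exact pullback.condition
  have c₁ : (f₀ ≫ η₁.left) ≫ π.left = f₁ ≫ (D u).g := by
    rw [Category.assoc, hl]
    exact pullback.condition
  let ξ₁ := (D u).sq.lift (f₀ ≫ η₁.left) f₁ c₁
  let ξ₂ := (D u).sq.lift (f₀ ≫ η₂.left) f₁ c₂
  have hξ : ξ₁ ≫ (D u).π' = ξ₂ ≫ (D u).π' := by
    rw [(D u).sq.lift_snd, (D u).sq.lift_snd]
  let r := (D u).kp.lift ξ₁ ξ₂ hξ
  have hrt : r ≫ (D u).t' = ξ₁ := (D u).kp.lift_fst _ _ _
  have hrs : r ≫ (D u).s' = ξ₂ := (D u).kp.lift_snd _ _ _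
  have e1 : (r ≫ (D u).kR) ≫ t.left = f₀ ≫ η₁.left := by
    rw [Category.assoc, ← (D u).ht, ← Category.assoc, hrt, (D u).sq.lift_fst]
  have e2 : (r ≫ (D u).kR) ≫ s.left = f₀ ≫ η₂.left := by
    rw [Category.assoc, ← (D u).hs, ← Category.assoc, hrs, (D u).sq.lift_fst]
  have hw : (r ≫ (D u).kR) ≫ R.hom = (Tr D η₂ u).hom := by
    have h1 : R.hom = t.left ≫ U.hom := (Over.w t).symm
    have h2 : η₁.left ≫ U.hom = T.hom := Over.w η₁
    change _ = f₀ ≫ T.hom
    rw [h1, ← Category.assoc, e1, Category.assoc, h2]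
  refine ⟨Over.homMk (r ≫ (D u).kR) hw, ?_, ?_⟩
  · ext
    exact e1
  · ext
    exact e2

include D h in
/-- two points of `U` with the same image in `Z` have the same image in `X`. -/
theorem local_eq {X : AlgSp.Sp S} (a : (yon S).obj U ⟶ X)
    (hk : (yon S).map t ≫ a = (yon S).map s ≫ a) :
    (yon S).map η₁ ≫ a = (yon S).map η₂ ≫ a := by
  apply Groth.Agent.Lib.Helper8FOThick.hom_ext_of_ofArrows_mem (Tr D η₂) (cR D η₂)
    (cR_mem_J D η₂)
  intro u
  obtain ⟨ρ, h1, h2⟩ := exists_lift_R D η₁ η₂ h u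
  rw [← Category.assoc, ← Category.assoc, ← Functor.map_comp, ← Functor.map_comp, ← h1, ← h2,
    Functor.map_comp, Functor.map_comp, Category.assoc, Category.assoc, hk]

end LocalEq

include D in
/-- **representability from local data**. -/
theorem exists_iso_of_localData (hw : s ≫ π = t ≫ π) (X : AlgSp.Sp S)
    (a : (yon S).obj U ⟶ X) [Epi a]
    (hk : IsPullback ((yon S).map t) ((yon S).map s) a a) :
    ∃ (W : Over S) (ι : W ⟶ Zo) (p : U ⟶ W) (e : (yon S).obj W ≅ X),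
      IsOpenImmersion ι.left ∧ p ≫ ι = π ∧ (yon S).map p ≫ e.hom = a := by
  have hts : t ≫ πOo D = s ≫ πOo D := by
    ext
    change t.left ≫ πO D = s.left ≫ πO D
    rw [← cancel_mono (imO D).ι, Category.assoc, Category.assoc, πO_ι]
    exact (congrArg (fun m => m.left) hw).symm
  let b : (yon S).obj U ⟶ (yon S).obj (Oo D) := (yon S).map (πOo D)
  haveI : EffectiveEpi a :=
    (isRegularEpi_iff_effectiveEpi _).1 (IsRegularEpiCategory.regularEpiOfEpi _)
  have hcond : ∀ {W : AlgSp.Sp S} (g₁ g₂ : W ⟶ (yon S).obj U), g₁ ≫ a = g₂ ≫ a →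
      g₁ ≫ b = g₂ ≫ b := by
    intro W g₁ g₂ h
    have e1 : hk.lift g₁ g₂ h ≫ (yon S).map t = g₁ := hk.lift_fst _ _ _
    have e2 : hk.lift g₁ g₂ h ≫ (yon S).map s = g₂ := hk.lift_snd _ _ _
    calc g₁ ≫ b = hk.lift g₁ g₂ h ≫ (yon S).map t ≫ b := by rw [← Category.assoc, e1]
      _ = hk.lift g₁ g₂ h ≫ (yon S).map s ≫ b := by
          rw [← Functor.map_comp, ← Functor.map_comp, hts]
      _ = g₂ ≫ b := by rw [← Category.assoc, e2]
  let φ : X ⟶ (yon S).obj (Oo D) := EffectiveEpi.desc a b hcond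
  have hφ : a ≫ φ = b := EffectiveEpi.fac a b hcond
  haveI : Epi φ := by
    constructor
    intro H f₁ f₂ hf
    apply Groth.Agent.Lib.H5bJointEpi.hom_ext_yon
    intro T z
    obtain ⟨z₀, rfl⟩ := (yon S).map_surjective z
    apply Groth.Agent.Lib.Helper8FOThick.hom_ext_of_ofArrows_mem (Tc D z₀) (cT D z₀)
      (cT_mem_J D z₀)
    intro u
    have e1 : (yon S).map (cT D z₀ u) ≫ (yon S).map z₀ =
        ((yon S).map (xT D z₀ u) ≫ a) ≫ φ := by
      rw [Category.assoc, hφ, ← Functor.map_comp, ← Functor.map_comp, xT_πOo]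
    calc (yon S).map (cT D z₀ u) ≫ (yon S).map z₀ ≫ f₁
        = (((yon S).map (xT D z₀ u) ≫ a) ≫ φ) ≫ f₁ := by rw [← Category.assoc, e1]
      _ = (((yon S).map (xT D z₀ u) ≫ a) ≫ φ) ≫ f₂ := by
          simp only [Category.assoc, hf]
      _ = (yon S).map (cT D z₀ u) ≫ (yon S).map z₀ ≫ f₂ := by rw [← Category.assoc, e1]
  have key : ∀ (T : Over S) (x₁ x₂ : (yon S).obj T ⟶ X), x₁ ≫ φ = x₂ ≫ φ → x₁ = x₂ := by
    intro T x₁ x₂ hx
    haveI : Sheaf.IsLocallySurjective a := (Sheaf.isLocallySurjective_iff_epi _).2 inferInstance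
    obtain ⟨T₁, c₁, d₁, hc₁s, hc₁f, hc₁p, hd₁⟩ :=
      Groth.Agent.Lib.H5bSpDesc.exists_single_cover_lift a x₁
    obtain ⟨T₂, c₂, d₂, hc₂s, hc₂f, hc₂p, hd₂⟩ :=
      Groth.Agent.Lib.H5bSpDesc.exists_single_cover_lift a ((yon S).map c₁ ≫ x₂)
    obtain ⟨ξ₁, rfl⟩ := (yon S).map_surjective d₁
    obtain ⟨ξ₂, rfl⟩ := (yon S).map_surjective d₂
    haveI := Groth.Agent.Lib.H5bQuotOpen.epi_yon_map c₁
    haveI := Groth.Agent.Lib.H5bQuotOpen.epi_yon_map c₂
    rw [← cancel_epi ((yon S).map c₁), ← cancel_epi ((yon S).map c₂)]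
    have hb : a ≫ φ = (yon S).map (πOo D) := hφ
    have hπ : (c₂ ≫ ξ₁) ≫ π = ξ₂ ≫ π := by
      rw [← πOo_ιOo D, ← Category.assoc, ← Category.assoc]
      congr 1
      apply (yon S).map_injective
      have e1 : (yon S).map ((c₂ ≫ ξ₁) ≫ πOo D) =
          (yon S).map c₂ ≫ (yon S).map c₁ ≫ x₁ ≫ φ := by
        rw [Functor.map_comp, Functor.map_comp, ← hb, Category.assoc,
          ← Category.assoc ((yon S).map ξ₁) a φ, hd₁, Category.assoc]
      have e2 : (yon S).map (ξ₂ ≫ πOo D) = (yon S).map c₂ ≫ (yon S).map c₁ ≫ x₂ ≫ φ := by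
        rw [Functor.map_comp, ← hb, ← Category.assoc ((yon S).map ξ₂) a φ, hd₂, Category.assoc,
          Category.assoc]
      rw [e1, e2, hx]
    have hle := local_eq D (c₂ ≫ ξ₁) ξ₂ hπ a hk.w
    calc (yon S).map c₂ ≫ (yon S).map c₁ ≫ x₁ = (yon S).map (c₂ ≫ ξ₁) ≫ a := by
          rw [← hd₁, ← Category.assoc, ← Functor.map_comp]
      _ = (yon S).map ξ₂ ≫ a := hle
      _ = (yon S).map c₂ ≫ (yon S).map c₁ ≫ x₂ := hd₂
  haveI : Mono φ := by
    constructor
    intro H y₁ y₂ hy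
    apply Groth.Agent.Lib.H5bJointEpi.hom_ext_yon
    intro T x
    exact key T (x ≫ y₁) (x ≫ y₂) (by rw [Category.assoc, Category.assoc, hy])
  haveI : IsIso φ := isIso_of_mono_of_epi φ
  refine ⟨Oo D, ιOo D, πOo D, (asIso φ).symm, ?_, πOo_ιOo D, ?_⟩
  · exact inferInstanceAs (IsOpenImmersion (imO D).ι)
  · change (yon S).map (πOo D) ≫ inv φ = a
    have hb : a ≫ φ = (yon S).map (πOo D) := hφ
    rw [← hb, Category.assoc, IsIso.hom_inv_id, Category.comp_id]

end Groth.Agent.Lib.H5bLqf
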