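import Mathlib
import Groth.Prelude.Def_AlgSp
import Groth.Agent.Lib.H5bLqfGlobal

/-!
# Representability of a quotient sheaf with affine quasi-finite chart (helper5)

`representable_of_affine_chart`: `U`, `W` affine schemes over `S`, `h : U ⟶ W` locally quasi-finite of
finite type, `s, t : R ⟶ U` étale with `(t, s) : R ⟶ U ×_W U` a closed immersion, and `X` a sheaf
with an epimorphism `a : h_U ⟶ X` whose kernel pair is `(h_t, h_s)`.  Then `X` is representable.
-/

set_option autoImplicit false
set_option linter.style.haveILetI false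
set_option linter.unusedSectionVars false
set_option linter.unusedSimpArgs false
set_option linter.unusedVariables false
universe u

open CategoryTheory CategoryTheory.Limits AlgebraicGeometry AlgSp

namespace Groth.Agent.Lib.H5bLqf

variable {S : Scheme.{u}}

section KernelPair

variable {U R : Over S} {s t : R ⟶ U} {X : AlgSp.Sp S} {a : (yon S).obj U ⟶ X}
  (hk : IsPullback ((yon S).map t) ((yon S).map s) a a)

include hk

theorem kp_inj {T : Scheme.{u}} (α β : T ⟶ R.left) (h1 : α ≫ t.left = β ≫ t.left)
    (h2 : α ≫ s.left = β ≫ s.left) : α = β := by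
  have hβ : β ≫ R.hom = α ≫ R.hom := by
    rw [← Over.w s, ← Category.assoc, ← Category.assoc, h2]
  let T' : Over S := Over.mk (α ≫ R.hom)
  let α' : T' ⟶ R := Over.homMk α rfl
  let β' : T' ⟶ R := Over.homMk β hβ
  have h3 : (yon S).map α' = (yon S).map β' := by
    apply hk.hom_ext
    · rw [← Functor.map_comp, ← Functor.map_comp]
      congr 1
      ext
      exact h1
    · rw [← Functor.map_comp, ← Functor.map_comp]
      congr 1
      ext
      exact h2
  have h4 := (yon S).map_injective h3
  exact congrArg (fun m => m.left) h4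

/-- reflexivity. -/
noncomputable def kpE : U ⟶ R := (yon S).preimage (hk.lift (𝟙 _) (𝟙 _) rfl)

theorem kpE_s : kpE hk ≫ s = 𝟙 U := by
  apply (yon S).map_injective
  rw [Functor.map_comp, kpE, Functor.map_preimage, hk.lift_snd, (yon S).map_id]

theorem kpE_t : kpE hk ≫ t = 𝟙 U := by
  apply (yon S).map_injective
  rw [Functor.map_comp, kpE, Functor.map_preimage, hk.lift_fst, (yon S).map_id]

/-- symmetry. -/
noncomputable def kpI : R ⟶ R := (yon S).preimage (hk.lift ((yon S).map s) ((yon S).map t) hk.w.symm)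

theorem kpI_s : kpI hk ≫ s = t := by
  apply (yon S).map_injective
  rw [Functor.map_comp, kpI, Functor.map_preimage, hk.lift_snd]

theorem kpI_t : kpI hk ≫ t = s := by
  apply (yon S).map_injective
  rw [Functor.map_comp, kpI, Functor.map_preimage, hk.lift_fst]

theorem exists_kpC : ∃ c : pullback s.left t.left ⟶ R.left,
    c ≫ s.left = pullback.snd s.left t.left ≫ s.left ∧
      c ≫ t.left = pullback.fst s.left t.left ≫ t.left := by
  let P : Over S := Over.mk (pullback.fst s.left t.left ≫ R.hom)
  let p1 : P ⟶ R := Over.homMk (pullback.fst _ _) rfl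
  have h2 : pullback.snd s.left t.left ≫ R.hom = pullback.fst s.left t.left ≫ R.hom := by
    calc pullback.snd s.left t.left ≫ R.hom
        = (pullback.snd s.left t.left ≫ t.left) ≫ U.hom := by rw [Category.assoc, Over.w t]
      _ = (pullback.fst s.left t.left ≫ s.left) ≫ U.hom := by rw [pullback.condition]
      _ = pullback.fst s.left t.left ≫ R.hom := by rw [Category.assoc, Over.w s]
  let p2 : P ⟶ R := Over.homMk (pullback.snd _ _) h2
  have hp : p1 ≫ s = p2 ≫ t := by
    ext
    exact pullback.condition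
  have hcond : (yon S).map (p1 ≫ t) ≫ a = (yon S).map (p2 ≫ s) ≫ a := by
    calc (yon S).map (p1 ≫ t) ≫ a = (yon S).map p1 ≫ (yon S).map t ≫ a := by
          rw [Functor.map_comp, Category.assoc]
      _ = (yon S).map p1 ≫ (yon S).map s ≫ a := by rw [hk.w]
      _ = (yon S).map (p1 ≫ s) ≫ a := by rw [Functor.map_comp, Category.assoc]
      _ = (yon S).map (p2 ≫ t) ≫ a := by rw [hp]
      _ = (yon S).map p2 ≫ (yon S).map t ≫ a := by rw [Functor.map_comp, Category.assoc]
      _ = (yon S).map p2 ≫ (yon S).map s ≫ a := by rw [hk.w]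
      _ = (yon S).map (p2 ≫ s) ≫ a := by rw [Functor.map_comp, Category.assoc]
  let c : P ⟶ R := (yon S).preimage (hk.lift _ _ hcond)
  have hcs : c ≫ s = p2 ≫ s := by
    apply (yon S).map_injective
    rw [Functor.map_comp, Functor.map_preimage, hk.lift_snd]
  have hct : c ≫ t = p1 ≫ t := by
    apply (yon S).map_injective
    rw [Functor.map_comp, Functor.map_preimage, hk.lift_fst]
  exact ⟨c.left, congrArg (fun m => m.left) hcs, congrArg (fun m => m.left) hct⟩

end KernelPair

section Core

variable {U R W : Over S} (s t : R ⟶ U) (h : U ⟶ W)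

/-- the ring of invariant functions. -/
abbrev Inv : Subring Γ(U.left, ⊤) := RingHom.eqLocus s.left.appTop.hom t.left.appTop.hom

/-- its spectrum. -/
noncomputable abbrev ZZ : Scheme.{u} := Spec (CommRingCat.of (Inv s t))

/-- the map to the spectrum of the invariants. -/
noncomputable def π₀ : U.left ⟶ ZZ s t :=
  U.left.toSpecΓ ≫ Spec.map (CommRingCat.ofHom (Inv s t).subtype)

theorem s_π₀ : s.left ≫ π₀ s t = t.left ≫ π₀ s t := by
  unfold π₀
  rw [← Category.assoc, ← Category.assoc, Scheme.toSpecΓ_naturality, Scheme.toSpecΓ_naturality,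
    Category.assoc, Category.assoc, ← Spec.map_comp, ← Spec.map_comp]
  congr 2
  ext x
  exact x.2

theorem π₀_appTop : (π₀ s t).appTop =
    (Scheme.ΓSpecIso (CommRingCat.of (Inv s t))).hom ≫
      CommRingCat.ofHom (Inv s t).subtype := by
  unfold π₀
  rw [Scheme.Hom.comp_appTop, Scheme.toSpecΓ_appTop, Scheme.ΓSpecIso_naturality]

variable {s t h}

theorem mem_inv (hw : s ≫ h = t ≫ h) (d : Γ(W.left, ⊤)) : h.left.appTop.hom d ∈ Inv s t := by
  have := congrArg (fun φ : R.left ⟶ W.left => φ.appTop.hom d) (congrArg (fun m => m.left) hw)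
  simp only [Over.comp_left, Scheme.Hom.comp_appTop, CommRingCat.hom_comp, RingHom.coe_comp,
    Function.comp_apply] at this
  exact this

/-- the descended map of rings. -/
noncomputable def φ₀ (hw : s ≫ h = t ≫ h) : Γ(W.left, ⊤) →+* Inv s t :=
  RingHom.codRestrict h.left.appTop.hom (Inv s t) (mem_inv hw)

/-- the map `Z ⟶ W`. -/
noncomputable def q₀ [IsAffine W.left] (hw : s ≫ h = t ≫ h) : ZZ s t ⟶ W.left :=
  Spec.map (CommRingCat.ofHom (φ₀ hw)) ≫ W.left.isoSpec.inv

theorem π₀_q₀ [IsAffine W.left] (hw : s ≫ h = t ≫ h) : π₀ s t ≫ q₀ hw = h.left := by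
  have e1 : CommRingCat.ofHom (φ₀ hw) ≫ CommRingCat.ofHom (Inv s t).subtype = h.left.appTop := by
    ext d
    rfl
  have e2 : W.left.toSpecΓ ≫ W.left.isoSpec.inv = 𝟙 _ := W.left.isoSpec.hom_inv_id
  unfold π₀ q₀
  rw [Category.assoc, ← Category.assoc (Spec.map _), ← Spec.map_comp, e1,
    ← Category.assoc, ← Scheme.toSpecΓ_naturality, Category.assoc, e2, Category.comp_id]

end Core

section Main

variable {U R W : Over S} {s t : R ⟶ U} {X : AlgSp.Sp S} {a : (yon S).obj U ⟶ X}

/-- the equivalence relation over the spectrum of invariants. -/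
@[reducible] noncomputable def relOf (hk : IsPullback ((yon S).map t) ((yon S).map s) a a) :
    Rel (ZZ s t) where
  U := U.left
  R := R.left
  π := π₀ s t
  s := s.left
  t := t.left
  w := s_π₀ s t
  inj := fun α β h1 h2 => kp_inj hk α β h1 h2
  e := (kpE hk).left
  e_s := congrArg (fun m => m.left) (kpE_s hk)
  e_t := congrArg (fun m => m.left) (kpE_t hk)
  i := (kpI hk).left
  i_s := congrArg (fun m => m.left) (kpI_s hk)
  i_t := congrArg (fun m => m.left) (kpI_t hk)
  c := (exists_kpC hk).choose
  c_s := (exists_kpC hk).choose_spec.1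
  c_t := (exists_kpC hk).choose_spec.2

theorem ex_relOf (hk : IsPullback ((yon S).map t) ((yon S).map s) a a) : (relOf hk).Ex := by
  constructor
  · show Function.Injective (π₀ s t).appTop.hom
    rw [π₀_appTop]
    intro x y hxy
    simp only [CommRingCat.hom_comp, RingHom.coe_comp, Function.comp_apply] at hxy
    have h5 := Subtype.val_injective hxy
    exact (ConcreteCategory.bijective_of_isIso
      (Scheme.ΓSpecIso (CommRingCat.of (Inv s t))).hom).1 h5
  · intro f hf
    show f ∈ Set.range (π₀ s t).appTop.hom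
    rw [π₀_appTop]
    obtain ⟨y, hy⟩ := (ConcreteCategory.bijective_of_isIso
      (Scheme.ΓSpecIso (CommRingCat.of (Inv s t))).hom).2 (⟨f, hf⟩ : Inv s t)
    refine ⟨y, ?_⟩
    simp only [CommRingCat.hom_comp, RingHom.coe_comp, Function.comp_apply]
    rw [hy]
    rfl

/-- **representability with affine quasi-finite chart**. -/
theorem representable_of_affine_chart (h : U ⟶ W) [IsAffine U.left] [IsAffine W.left]
    [Etale s.left] [Etale t.left] [LocallyOfFiniteType h.left] [LocallyQuasiFinite h.left]
    (hts : t.left ≫ h.left = s.left ≫ h.left)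
    (hj : IsClosedImmersion (pullback.lift t.left s.left hts))
    [Epi a] (hk : IsPullback ((yon S).map t) ((yon S).map s) a a) :
    ∃ V : Over S, Nonempty ((yon S).obj V ≅ X) := by
  have hw : s ≫ h = t ≫ h := by
    ext
    exact hts.symm
  let ρ := relOf hk
  have hEx : ρ.Ex := ex_relOf hk
  have hπq : ρ.π ≫ q₀ hw = h.left := π₀_q₀ hw
  haveI : IsAffine ρ.U := inferInstanceAs (IsAffine U.left)
  haveI : IsAffine (pullback h.left h.left) := inferInstance
  haveI : IsAffine R.left := isAffine_of_isAffineHom (pullback.lift t.left s.left hts)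
  haveI : IsAffine ρ.R := inferInstanceAs (IsAffine R.left)
  haveI : Etale ρ.s := inferInstanceAs (Etale s.left)
  haveI : Etale ρ.t := inferInstanceAs (Etale t.left)
  haveI : LocallyOfFiniteType (ρ.π ≫ q₀ hw) := by rw [hπq]; infer_instance
  haveI : LocallyQuasiFinite (ρ.π ≫ q₀ hw) := by rw [hπq]; infer_instance
  haveI : LocallyOfFiniteType ρ.π := locallyOfFiniteType_of_comp ρ.π (q₀ hw)
  haveI : LocallyQuasiFinite ρ.π := LocallyQuasiFinite.of_comp ρ.π (q₀ hw)
  haveI : IsClosedImmersion ρ.grpd.j := by
    let m : pullback ρ.grpd.pU ρ.grpd.pU ⟶ pullback h.left h.left :=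
      pullback.map _ _ _ _ (𝟙 _) (𝟙 _) (q₀ hw) (by rw [Category.id_comp]; exact hπq)
        (by rw [Category.id_comp]; exact hπq)
    have hm : ρ.grpd.j ≫ m = pullback.lift t.left s.left hts := by
      apply pullback.hom_ext
      · simp only [m, Category.assoc, pullback.lift_fst, pullback.map, Category.comp_id,
          Grpd.GroupoidScheme.j]
        rfl
      · simp only [m, Category.assoc, pullback.lift_snd, pullback.map, Category.comp_id,
          Grpd.GroupoidScheme.j]
        rfl
    haveI : IsAffine (pullback ρ.grpd.pU ρ.grpd.pU) :=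
      inferInstanceAs (IsAffine (pullback (π₀ s t) (π₀ s t)))
    haveI : IsClosedImmersion (ρ.grpd.j ≫ m) := by rw [hm]; exact hj
    exact IsClosedImmersion.of_comp ρ.grpd.j m
  let Zo : Over S := Over.mk (q₀ hw ≫ W.hom)
  let πo : U ⟶ Zo := Over.homMk (π₀ s t) (by
    show π₀ s t ≫ q₀ hw ≫ W.hom = U.hom
    rw [← Category.assoc, π₀_q₀ hw, Over.w h])
  have hwo : s ≫ πo = t ≫ πo := by
    ext
    exact s_π₀ s t
  let D : ∀ u : U.left, LocalData πo.left s.left t.left u :=
    fun u => Classical.choice (exists_localData ρ hEx u)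
  obtain ⟨V, ι, p, e, -, -, -⟩ := exists_iso_of_localData D hwo X a hk
  exact ⟨V, ⟨e⟩⟩

end Main

end Groth.Agent.Lib.H5bLqf
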