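import Mathlib
import Groth.Agent.S9923
import Groth.Agent.S9924
import Groth.Agent.S10191
import Groth.Agent.S10175
import Groth.Agent.Lib.Helper26UnivClosed
import Groth.Agent.Lib.Helper12OpenSub2

/-!
# Universal closedness and affine spaces for algebraic spaces: general lemmas (helper5)
-/

set_option autoImplicit false
set_option linter.style.haveILetI false

universe u
open CategoryTheory CategoryTheory.Limits AlgebraicGeometry Opposite TensorProduct

namespace Groth.Agent.Lib.H5bUCAff

open Groth.Agent.S13210 Groth.Agent.S9908 Groth.Agent.S9909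

variable {S : Scheme.{u}}

/-- closedness can be tested on an affine open cover. -/
lemma isClosed_of_forall_exists_affineOpen {T : Scheme.{u}} (B : Set ↥T)
    (h : ∀ t : T, ∃ V : T.affineOpens, t ∈ V.1 ∧ IsClosed (V.1.ι ⁻¹' B)) : IsClosed B := by
  rw [← isOpen_compl_iff, isOpen_iff_forall_mem_open]
  intro t ht
  obtain ⟨V, htV, hV⟩ := h t
  refine ⟨V.1.ι '' (V.1.ι ⁻¹' Bᶜ), Set.image_preimage_subset _ _,
    V.1.ι.isOpenEmbedding.isOpenMap _ ?_, ⟨⟨t, htV⟩, ht, rfl⟩⟩
  rw [Set.preimage_compl]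
  exact hV.isOpen_compl

/-- closedness on points can be tested after base change to a covering family of affine schemes. -/
lemma isClosedMap_map_of_good {Z Z' : AlgSp.Sp S} (snd : Z' ⟶ Z)
    (Good : ∀ T : Over S, ((AlgSp.yon S).obj T ⟶ Z) → Prop)
    (hcov : ∀ (T : Over S) (c : (AlgSp.yon S).obj T ⟶ Z) (t : T.left),
      ∃ V : T.left.affineOpens, t ∈ V.1 ∧ Good (Over.mk (V.1.ι ≫ T.hom))
        ((AlgSp.yon S).map (Over.homMk V.1.ι rfl : Over.mk (V.1.ι ≫ T.hom) ⟶ T) ≫ c))
    (h : ∀ (T : Over S), IsAffine T.left → ∀ (c : (AlgSp.yon S).obj T ⟶ Z), Good T c →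
      ∀ (P : AlgSp.Sp S) (pr : P ⟶ Z') (sndT : P ⟶ (AlgSp.yon S).obj T),
        IsPullback pr sndT snd c → IsClosedMap (AlgSp.Points.map sndT)) :
    IsClosedMap (AlgSp.Points.map snd) := by
  intro A hA
  rw [Groth.Agent.S9922.isClosed_iff]
  intro T c
  refine isClosed_of_forall_exists_affineOpen _ (fun t => ?_)
  obtain ⟨V, htV, hG⟩ := hcov T c t
  refine ⟨V, htV, ?_⟩
  rw [preimage_ι_preimage_ofPt c V.1]
  set c' := (AlgSp.yon S).map (Over.homMk V.1.ι rfl : Over.mk (V.1.ι ≫ T.hom) ⟶ T) ≫ c with hc'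
  have sq := IsPullback.of_hasPullback snd c'
  rw [preimage_map_image sq A]
  have hop := h (Over.mk (V.1.ι ≫ T.hom)) V.2 c' hG _ _ _ sq
  exact (hop _ (hA.preimage (AlgSp.Points.continuous_map _))).preimage
    (AlgSp.Points.continuous_ofPt _)

/-- an isomorphism of sheaves is a closed map on points. -/
lemma isClosedMap_map_of_iso {F G : AlgSp.Sp S} (e : F ≅ G) :
    IsClosedMap (AlgSp.Points.map e.hom) := by
  intro A hA
  have h1 : AlgSp.Points.map e.hom '' A = AlgSp.Points.map e.inv ⁻¹' A := by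
    refine congrFun (Set.image_eq_preimage_of_inverse ?_ ?_) A
    · intro x
      rw [← AlgSp.Points.map_comp, e.hom_inv_id, AlgSp.Points.map_id]
    · intro x
      rw [← AlgSp.Points.map_comp, e.inv_hom_id, AlgSp.Points.map_id]
  rw [h1]
  exact hA.preimage (AlgSp.Points.continuous_map _)

/-- closedness on points is preserved by base change along an open immersion of schemes. -/
theorem isClosedMap_of_openImmersion {P P' : AlgSp.Sp S} (hP : AlgSp.IsAlgSpace P)
    (hP' : AlgSp.IsAlgSpace P') {Z U : Over S} (snd : P ⟶ (AlgSp.yon S).obj Z) (ι : U ⟶ Z)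
    [IsOpenImmersion ι.left] (pr : P' ⟶ P) (snd' : P' ⟶ (AlgSp.yon S).obj U)
    (sq : IsPullback pr snd' snd ((AlgSp.yon S).map ι))
    (h : IsClosedMap (AlgSp.Points.map snd)) : IsClosedMap (AlgSp.Points.map snd') := by
  have hι : AlgSp.RepWith @IsOpenImmersion ((AlgSp.yon S).map ι) :=
    (AlgSp.repWith_yon_map_iff @IsOpenImmersion ι).2 inferInstance
  have hpr : AlgSp.RepWith @IsOpenImmersion pr :=
    MorphismProperty.of_isPullback (P := AlgSp.RepWith @IsOpenImmersion) sq.flip hι
  have hpr' : AlgSp.RepWith @IsImmersion pr :=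
    Groth.Agent.Lib.Helper12.OpenSub.repWith_mono (fun _ _ g hg => by
      haveI : IsOpenImmersion g := hg; infer_instance) hpr
  have hemb : Topology.IsEmbedding (AlgSp.Points.map pr) :=
    (Groth.Agent.S10191.result (Z := ⟨P', hP'⟩) (X := ⟨P, hP⟩) (ObjectProperty.homMk pr) hpr').1
  intro D hD
  have hE : IsClosed (AlgSp.Points.map snd '' closure (AlgSp.Points.map pr '' D)) :=
    h _ isClosed_closure
  have hEq : AlgSp.Points.map snd' '' D = AlgSp.Points.map ((AlgSp.yon S).map ι) ⁻¹'
      (AlgSp.Points.map snd '' closure (AlgSp.Points.map pr '' D)) := by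
    ext x
    constructor
    · rintro ⟨d, hd, rfl⟩
      refine ⟨AlgSp.Points.map pr d, subset_closure ⟨d, hd, rfl⟩, ?_⟩
      rw [← AlgSp.Points.map_comp, ← AlgSp.Points.map_comp, sq.w]
    · rintro ⟨d', hd', he⟩
      obtain ⟨e, he1, he2⟩ := Groth.Agent.S10175.exists_point_of_isPullback sq d' x he
      refine ⟨e, ?_, he2⟩
      have h2 := hemb.isInducing.closure_eq_preimage_closure_image D
      have h3 : e ∈ closure D := by
        rw [h2, Set.mem_preimage, he1]
        exact hd'
      rwa [hD.closure_eq] at h3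
  rw [hEq]
  exact hE.preimage (AlgSp.Points.continuous_map _)

section Ring

variable {R A' B : Type u} [CommRing R] [CommRing A'] [CommRing B] [Algebra R A'] [Algebra R B]

/-- the key finiteness statement on prime spectra. -/
theorem spec_key (D : Set (PrimeSpectrum (B ⊗[R] A'))) (hD : IsClosed D) (t : PrimeSpectrum A')
    (ht : t ∉ PrimeSpectrum.comap
      (Algebra.TensorProduct.includeRight : A' →ₐ[R] B ⊗[R] A').toRingHom '' D) :
    ∃ F : Finset A', ∀ (A : Type u) [CommRing A] [Algebra R A] (h : A →ₐ[R] A'),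
      (↑F ⊆ Set.range h) →
      PrimeSpectrum.comap h.toRingHom t ∉ PrimeSpectrum.comap
        (Algebra.TensorProduct.includeRight : A →ₐ[R] B ⊗[R] A).toRingHom ''
          closure (PrimeSpectrum.comap
            (Algebra.TensorProduct.map (AlgHom.id R B) h).toRingHom '' D) := by
  set I := PrimeSpectrum.vanishingIdeal D with hI
  have hDI : D = PrimeSpectrum.zeroLocus (I : Set (B ⊗[R] A')) := by
    rw [hI, PrimeSpectrum.zeroLocus_vanishingIdeal_eq_closure, hD.closure_eq]
  haveI := t.2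
  obtain ⟨F, hF⟩ := Groth.Agent.Lib.Helper26.UnivClosed.ring_key (R := R) (B := B) I t.asIdeal
    (by
      intro q hq hIq hcon
      apply ht
      refine ⟨⟨q, hq⟩, ?_, ?_⟩
      · rw [hDI]
        exact hIq
      · exact PrimeSpectrum.ext hcon)
  refine ⟨F, fun A _ _ h hFh => ?_⟩
  rintro ⟨q₀, hq₀, hq₀t⟩
  rw [hDI, PrimeSpectrum.closure_image_comap_zeroLocus] at hq₀
  refine hF A h hFh q₀.asIdeal q₀.2 hq₀ ?_
  exact congrArg PrimeSpectrum.asIdeal hq₀t

end Ring

end Groth.Agent.Lib.H5bUCAff
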