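import Mathlib
import Groth.Agent.Lib.H5bUCAff1
import Groth.Agent.S10176
import Groth.Agent.S10177

/-!
# Universal closedness and affine spaces for algebraic spaces: the affine core (helper5)
-/

set_option autoImplicit false
set_option linter.style.haveILetI false

universe u
open CategoryTheory CategoryTheory.Limits AlgebraicGeometry Opposite TensorProduct

namespace Groth.Agent.Lib.H5bUCAff

open Groth.Agent.S13210 Groth.Agent.S9908 Groth.Agent.S9909

variable {S : Scheme.{u}}

/-- a scheme-level pullback square of schemes over `S` gives a pullback of representable sheaves. -/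
theorem isPullback_yon_of_left {A B C D : Over S} (f : A ⟶ B) (g : A ⟶ C) (h : B ⟶ D) (k : C ⟶ D)
    (w : f ≫ h = g ≫ k) (sq : IsPullback f.left g.left h.left k.left) :
    IsPullback ((AlgSp.yon S).map f) ((AlgSp.yon S).map g) ((AlgSp.yon S).map h)
      ((AlgSp.yon S).map k) := by
  have : IsPullback f g h k := IsPullback.of_map (Over.forget S) w sq
  exact this.map (AlgSp.yon S)

section Core

variable {R : Type u} [CommRing R] (sR : Spec (CommRingCat.of R) ⟶ S)

/-- the spectrum of an `R`-algebra, over `S`. -/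
noncomputable abbrev SpO (C : Type u) [CommRing C] [Algebra R C] : Over S :=
  Over.mk (Spec.map (CommRingCat.ofHom (algebraMap R C)) ≫ sR)

/-- the structure map. -/
noncomputable abbrev strO (C : Type u) [CommRing C] [Algebra R C] : SpO sR C ⟶ Over.mk sR :=
  Over.homMk (Spec.map (CommRingCat.ofHom (algebraMap R C))) rfl

/-- the map induced by an `R`-algebra homomorphism. -/
noncomputable def mapO {C C' : Type u} [CommRing C] [CommRing C'] [Algebra R C] [Algebra R C']
    (h : C →ₐ[R] C') : SpO sR C' ⟶ SpO sR C :=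
  Over.homMk (Spec.map (CommRingCat.ofHom h.toRingHom)) (by
    change Spec.map _ ≫ Spec.map _ ≫ sR = Spec.map _ ≫ sR
    rw [← Category.assoc, ← Spec.map_comp, ← CommRingCat.ofHom_comp]
    exact congrArg (fun φ => Spec.map (CommRingCat.ofHom φ) ≫ sR) h.comp_algebraMap)

lemma mapO_strO {C C' : Type u} [CommRing C] [CommRing C'] [Algebra R C] [Algebra R C']
    (h : C →ₐ[R] C') : mapO sR h ≫ strO sR C = strO sR C' := by
  apply Over.OverMorphism.ext
  change Spec.map _ ≫ Spec.map _ = Spec.map _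
  rw [← Spec.map_comp, ← CommRingCat.ofHom_comp]
  exact congrArg (fun φ => Spec.map (CommRingCat.ofHom φ)) h.comp_algebraMap

lemma mapO_comp {C C' C'' : Type u} [CommRing C] [CommRing C'] [CommRing C''] [Algebra R C]
    [Algebra R C'] [Algebra R C''] (h : C →ₐ[R] C') (h' : C' →ₐ[R] C'') :
    mapO sR h' ≫ mapO sR h = mapO sR (h'.comp h) := by
  apply Over.OverMorphism.ext
  change Spec.map _ ≫ Spec.map _ = Spec.map _
  rw [← Spec.map_comp, ← CommRingCat.ofHom_comp]
  rfl

variable {B : Type u} [CommRing B] [Algebra R B]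

/-- the tensor product square, on representable sheaves. -/
lemma isPullback_tensor (C : Type u) [CommRing C] [Algebra R C] :
    IsPullback ((AlgSp.yon S).map (mapO sR (Algebra.TensorProduct.includeLeft : B →ₐ[R] B ⊗[R] C)))
      ((AlgSp.yon S).map (mapO sR (Algebra.TensorProduct.includeRight : C →ₐ[R] B ⊗[R] C)))
      ((AlgSp.yon S).map (strO sR B)) ((AlgSp.yon S).map (strO sR C)) := by
  apply isPullback_yon_of_left
  · rw [mapO_strO, mapO_strO]
  · exact isPullback_SpecMap_of_isPushout _ _ _ _ (CommRingCat.isPushout_tensorProduct R B C)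

variable {X' : AlgSp.Sp S} (b : X' ⟶ (AlgSp.yon S).obj (Over.mk sR))
  (w : (AlgSp.yon S).obj (SpO sR B) ⟶ X') (hwb : w ≫ b = (AlgSp.yon S).map (strO sR B))

include hwb in
/-- the chart of a base change. -/
lemma exists_chart (C : Type u) [CommRing C] [Algebra R C] {P : AlgSp.Sp S} (prC : P ⟶ X')
    (sndC : P ⟶ (AlgSp.yon S).obj (SpO sR C))
    (sqC : IsPullback prC sndC b ((AlgSp.yon S).map (strO sR C))) :
    ∃ ω : (AlgSp.yon S).obj (SpO sR (B ⊗[R] C)) ⟶ P,
      IsPullback ω
        ((AlgSp.yon S).map (mapO sR (Algebra.TensorProduct.includeLeft : B →ₐ[R] B ⊗[R] C)))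
        prC w ∧
      ω ≫ sndC =
        (AlgSp.yon S).map (mapO sR (Algebra.TensorProduct.includeRight : C →ₐ[R] B ⊗[R] C)) := by
  have hT := isPullback_tensor sR (B := B) C
  have hcomm : ((AlgSp.yon S).map (mapO sR
      (Algebra.TensorProduct.includeLeft : B →ₐ[R] B ⊗[R] C)) ≫ w) ≫ b =
      (AlgSp.yon S).map (mapO sR (Algebra.TensorProduct.includeRight : C →ₐ[R] B ⊗[R] C)) ≫
        (AlgSp.yon S).map (strO sR C) := by
    rw [Category.assoc, hwb, hT.w]
  refine ⟨sqC.lift _ _ hcomm, ?_, sqC.lift_snd _ _ _⟩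
  refine IsPullback.of_right ?_ (sqC.lift_fst _ _ hcomm) sqC.flip
  rw [sqC.lift_snd, hwb]
  exact hT.flip

/-- the transition square between the charts of two base changes. -/
lemma isPullback_transition {C C' : Type u} [CommRing C] [CommRing C'] [Algebra R C]
    [Algebra R C'] (h : C →ₐ[R] C') {P P' : AlgSp.Sp S}
    (prC : P ⟶ X') (sndC : P ⟶ (AlgSp.yon S).obj (SpO sR C))
    (sqC : IsPullback prC sndC b ((AlgSp.yon S).map (strO sR C)))
    (prC' : P' ⟶ X') (sndC' : P' ⟶ (AlgSp.yon S).obj (SpO sR C'))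
    (ρ : P' ⟶ P) (hρ1 : ρ ≫ prC = prC') (hρ2 : ρ ≫ sndC = sndC' ≫ (AlgSp.yon S).map (mapO sR h))
    (ω : (AlgSp.yon S).obj (SpO sR (B ⊗[R] C)) ⟶ P)
    (hω : IsPullback ω
        ((AlgSp.yon S).map (mapO sR (Algebra.TensorProduct.includeLeft : B →ₐ[R] B ⊗[R] C)))
        prC w)
    (hω2 : ω ≫ sndC =
        (AlgSp.yon S).map (mapO sR (Algebra.TensorProduct.includeRight : C →ₐ[R] B ⊗[R] C)))
    (ω' : (AlgSp.yon S).obj (SpO sR (B ⊗[R] C')) ⟶ P')
    (hω' : IsPullback ω'
        ((AlgSp.yon S).map (mapO sR (Algebra.TensorProduct.includeLeft : B →ₐ[R] B ⊗[R] C')))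
        prC' w)
    (hω'2 : ω' ≫ sndC' =
        (AlgSp.yon S).map (mapO sR (Algebra.TensorProduct.includeRight : C' →ₐ[R] B ⊗[R] C'))) :
    IsPullback ((AlgSp.yon S).map (mapO sR (Algebra.TensorProduct.map (AlgHom.id R B) h))) ω' ω ρ := by
  have hθ1 : mapO sR (Algebra.TensorProduct.map (AlgHom.id R B) h) ≫
      mapO sR (Algebra.TensorProduct.includeLeft : B →ₐ[R] B ⊗[R] C) =
      mapO sR (Algebra.TensorProduct.includeLeft : B →ₐ[R] B ⊗[R] C') := by
    rw [mapO_comp]
    congr 1
    ext x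
    simp
  have hθ2 : mapO sR (Algebra.TensorProduct.map (AlgHom.id R B) h) ≫
      mapO sR (Algebra.TensorProduct.includeRight : C →ₐ[R] B ⊗[R] C) =
      mapO sR (Algebra.TensorProduct.includeRight : C' →ₐ[R] B ⊗[R] C') ≫ mapO sR h := by
    rw [mapO_comp, mapO_comp]
    congr 1
  have hp : (AlgSp.yon S).map (mapO sR (Algebra.TensorProduct.map (AlgHom.id R B) h)) ≫ ω =
      ω' ≫ ρ := by
    apply sqC.hom_ext
    · rw [Category.assoc, hω.w, ← Category.assoc, ← Functor.map_comp, hθ1, Category.assoc, hρ1,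
        hω'.w]
    · rw [Category.assoc, hω2, ← Functor.map_comp, hθ2, Category.assoc, hρ2, ← Category.assoc,
        hω'2, ← Functor.map_comp]
  refine IsPullback.of_right ?_ hp hω.flip
  rw [← Functor.map_comp, hθ1, hρ1]
  exact hω'.flip

include hwb in
/-- **The affine core.** If the base changes of `b : X' ⟶ Spec R` to all polynomial rings over `R`
in finitely many variables are closed on points, and `X'` has an affine étale surjective chart,
then every base change to an affine scheme over `Spec R` is closed on points. -/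
theorem affine_core (hwe : AlgSp.RepWith @Etale w) (hws : AlgSp.RepWith @Surjective w)
    (Hn : ∀ (n : ℕ) (P : AlgSp.Sp S) (pr : P ⟶ X')
      (snd : P ⟶ (AlgSp.yon S).obj (SpO sR (MvPolynomial (ULift.{u} (Fin n)) R))),
      IsPullback pr snd b ((AlgSp.yon S).map (strO sR (MvPolynomial (ULift.{u} (Fin n)) R))) →
        IsClosedMap (AlgSp.Points.map snd))
    (A' : Type u) [CommRing A'] [Algebra R A'] {P : AlgSp.Sp S} (prT : P ⟶ X')
    (sndT : P ⟶ (AlgSp.yon S).obj (SpO sR A'))
    (sqT : IsPullback prT sndT b ((AlgSp.yon S).map (strO sR A'))) :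
    IsClosedMap (AlgSp.Points.map sndT) := by
  classical
  intro D hD
  rw [← isOpen_compl_iff, isOpen_iff_forall_mem_open]
  intro y hy
  obtain ⟨t, rfl⟩ := (AlgSp.Points.schemeHomeo (SpO sR A')).surjective y
  -- the chart of `P`
  obtain ⟨ωT, hωT, hωT2⟩ := exists_chart sR b w hwb A' prT sndT sqT
  have hωTe : AlgSp.RepWith @Etale ωT :=
    MorphismProperty.of_isPullback (P := AlgSp.RepWith @Etale) hωT.flip hwe
  let DW : Set (PrimeSpectrum (B ⊗[R] A')) := AlgSp.Points.ofPt ωT ⁻¹' D
  have hDW : IsClosed DW := hD.preimage (AlgSp.Points.continuous_ofPt ωT)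
  have hsnd : ∀ q : PrimeSpectrum (B ⊗[R] A'), AlgSp.Points.map sndT (AlgSp.Points.ofPt ωT q) =
      AlgSp.Points.schemeHomeo (SpO sR A') (PrimeSpectrum.comap
        (Algebra.TensorProduct.includeRight : A' →ₐ[R] B ⊗[R] A').toRingHom q) := by
    intro q
    rw [AlgSp.Points.map_ofPt, hωT2, AlgSp.Points.ofPt_eq_map_ofScheme]
    exact AlgSp.Points.map_yon_map_apply
      (mapO sR (Algebra.TensorProduct.includeRight : A' →ₐ[R] B ⊗[R] A'))
      (show ↥(SpO sR (B ⊗[R] A')).left from q)
  have ht : t ∉ PrimeSpectrum.comap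
      (Algebra.TensorProduct.includeRight : A' →ₐ[R] B ⊗[R] A').toRingHom '' DW := by
    rintro ⟨q, hq, rfl⟩
    apply hy
    exact ⟨_, hq, hsnd q⟩
  obtain ⟨F, hF⟩ := spec_key (R := R) (B := B) DW hDW t ht
  -- the polynomial ring
  let h : MvPolynomial (ULift.{u} (Fin F.card)) R →ₐ[R] A' :=
    MvPolynomial.aeval (fun i => ((F.equivFin.symm i.down : F) : A'))
  have hFh : (↑F : Set A') ⊆ Set.range h := by
    intro a ha
    refine ⟨MvPolynomial.X ⟨F.equivFin ⟨a, ha⟩⟩, ?_⟩
    change MvPolynomial.aeval _ _ = a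
    rw [MvPolynomial.aeval_X]
    simp
  have hkey := hF _ h hFh
  have sqA := IsPullback.of_hasPullback b
    ((AlgSp.yon S).map (strO sR (MvPolynomial (ULift.{u} (Fin F.card)) R)))
  have hclA := Hn F.card _ _ _ sqA
  have hρc : prT ≫ b = (sndT ≫ (AlgSp.yon S).map (mapO sR h)) ≫
      (AlgSp.yon S).map (strO sR (MvPolynomial (ULift.{u} (Fin F.card)) R)) := by
    rw [Category.assoc, ← Functor.map_comp, mapO_strO, sqT.w]
  let ρ := sqA.lift prT (sndT ≫ (AlgSp.yon S).map (mapO sR h)) hρc
  have hρ1 : ρ ≫ pullback.fst _ _ = prT := sqA.lift_fst _ _ _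
  have hρ2 : ρ ≫ pullback.snd _ _ = sndT ≫ (AlgSp.yon S).map (mapO sR h) := sqA.lift_snd _ _ _
  obtain ⟨ωA, hωA, hωA2⟩ := exists_chart sR b w hwb _ _ _ sqA
  have hωAe : AlgSp.RepWith @Etale ωA :=
    MorphismProperty.of_isPullback (P := AlgSp.RepWith @Etale) hωA.flip hwe
  have hωAs : AlgSp.RepWith @Surjective ωA :=
    MorphismProperty.of_isPullback (P := AlgSp.RepWith @Surjective) hωA.flip hws
  have htr := isPullback_transition sR b w h _ _ sqA prT sndT ρ hρ1 hρ2 ωA hωA hωA2 ωT hωT hωT2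
  -- the closed subset of the finite level
  let D' := closure (AlgSp.Points.map ρ '' D)
  have hE : IsClosed (AlgSp.Points.map (pullback.snd b
      ((AlgSp.yon S).map (strO sR (MvPolynomial (ULift.{u} (Fin F.card)) R)))) '' D') :=
    hclA _ isClosed_closure
  refine ⟨AlgSp.Points.map ((AlgSp.yon S).map (mapO sR h)) ⁻¹'
    (AlgSp.Points.map (pullback.snd b
      ((AlgSp.yon S).map (strO sR (MvPolynomial (ULift.{u} (Fin F.card)) R)))) '' D')ᶜ, ?_,
    hE.isOpen_compl.preimage (AlgSp.Points.continuous_map _), ?_⟩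
  · rintro x hx ⟨d, hd, rfl⟩
    apply hx
    refine ⟨AlgSp.Points.map ρ d, subset_closure ⟨d, hd, rfl⟩, ?_⟩
    rw [← AlgSp.Points.map_comp, hρ2, AlgSp.Points.map_comp]
  · rintro ⟨d', hd', he⟩
    obtain ⟨q₀, rfl⟩ := Groth.Agent.S10177.surjective_ofPt ωA hωAs d'
    have hq₀ : q₀ ∈ closure (PrimeSpectrum.comap
        (Algebra.TensorProduct.map (AlgHom.id R B) h).toRingHom '' DW) := by
      have h1 : q₀ ∈ AlgSp.Points.ofPt ωA ⁻¹' closure (AlgSp.Points.map ρ '' D) := hd'
      rw [(Groth.Agent.S10176.isOpenMap_ofPt ωA hωAe).preimage_closure_eq_closure_preimage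
        (AlgSp.Points.continuous_ofPt ωA), preimage_ofPt_map_image htr.flip D] at h1
      exact h1
    apply hkey
    refine ⟨q₀, hq₀, ?_⟩
    apply (AlgSp.Points.schemeHomeo (SpO sR (MvPolynomial (ULift.{u} (Fin F.card)) R))).injective
    have e1 : AlgSp.Points.map (pullback.snd b
        ((AlgSp.yon S).map (strO sR (MvPolynomial (ULift.{u} (Fin F.card)) R))))
        (AlgSp.Points.ofPt ωA q₀) =
        AlgSp.Points.schemeHomeo (SpO sR (MvPolynomial (ULift.{u} (Fin F.card)) R))
          (PrimeSpectrum.comap (Algebra.TensorProduct.includeRight :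
            MvPolynomial (ULift.{u} (Fin F.card)) R →ₐ[R]
              B ⊗[R] MvPolynomial (ULift.{u} (Fin F.card)) R).toRingHom q₀) := by
      rw [AlgSp.Points.map_ofPt, hωA2, AlgSp.Points.ofPt_eq_map_ofScheme]
      exact AlgSp.Points.map_yon_map_apply
        (mapO sR (Algebra.TensorProduct.includeRight :
            MvPolynomial (ULift.{u} (Fin F.card)) R →ₐ[R]
              B ⊗[R] MvPolynomial (ULift.{u} (Fin F.card)) R)) q₀
    have e2 : AlgSp.Points.map ((AlgSp.yon S).map (mapO sR h))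
        (AlgSp.Points.schemeHomeo (SpO sR A') t) =
        AlgSp.Points.schemeHomeo (SpO sR (MvPolynomial (ULift.{u} (Fin F.card)) R))
          (PrimeSpectrum.comap h.toRingHom t) :=
      AlgSp.Points.map_yon_map_apply (mapO sR h) t
    exact e1.symm.trans (he.trans e2)

end Core

end Groth.Agent.Lib.H5bUCAff
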