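import Mathlib
import Groth.Agent.Lib.H5bUCAff2
import Groth.Agent.Lib.H5bQuotOpen
import Groth.Agent.Lib.Helper12Proper
import Groth.Agent.S10176
import Groth.Agent.S10177
import Groth.Agent.S9874

/-!
# Lifting sections over a discrete valuation ring along proper morphisms (helper5)

For `pr : P ⟶ h_{Spec A}` separated, locally of finite type and universally closed, with `A` a
discrete valuation ring with fraction field `K`, every section over `Spec K` extends to a section
over `Spec A` (no extension of `A` needed).  The proof: specialise the `K`-point, take an affine étale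
chart `W = Spec R` at the specialisation, the closed subscheme `Spec D ⊆ W_K` where the chart agrees
with the section, its closure `Spec C ⊆ W`, which is flat of finite type over `A` and surjective,
and descend along the fppf covering `Spec C ⟶ Spec A` using separatedness.
-/

set_option autoImplicit false
set_option linter.style.haveILetI false

universe u
open CategoryTheory CategoryTheory.Limits AlgebraicGeometry Opposite TensorProduct

namespace Groth.Agent.Lib.H5bDvrLift

open Groth.Agent.Lib.H5bUCAff IsLocalRing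

variable {S : Scheme.{u}}

/-- two morphisms from an affine scheme to a sheaf separated over `B`, equal over `B`, which agree
after restriction along a morphism injective on global functions, are equal. -/
theorem eq_of_isSeparatedMor {P B : AlgSp.Sp S} (pr : P ⟶ B) (hsep : AlgSp.IsSeparatedMor pr)
    {T T' : Over S} [IsAffine T.left] (g : T' ⟶ T) (hg : Function.Injective g.left.appTop.hom)
    (α β : (AlgSp.yon S).obj T ⟶ P) (hpr : α ≫ pr = β ≫ pr)
    (hαβ : (AlgSp.yon S).map g ≫ α = (AlgSp.yon S).map g ≫ β) : α = β := by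
  obtain ⟨W, w, e', psq⟩ := hsep.1 (pullback.lift α β hpr)
  haveI : IsClosedImmersion w.left := hsep.2 _ _ w psq
  have e1 : e' = (AlgSp.yon S).map w ≫ α := by
    have := psq.w =≫ pullback.fst pr pr
    rwa [Category.assoc, pullback.diagonal_fst, Category.comp_id, Category.assoc,
      pullback.lift_fst] at this
  have e2 : e' = (AlgSp.yon S).map w ≫ β := by
    have := psq.w =≫ pullback.snd pr pr
    rwa [Category.assoc, pullback.diagonal_snd, Category.comp_id, Category.assoc,
      pullback.lift_snd] at this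
  have hk : ((AlgSp.yon S).map g ≫ α) ≫ pullback.diagonal pr =
      (AlgSp.yon S).map g ≫ pullback.lift α β hpr := by
    apply pullback.hom_ext
    · rw [Category.assoc, pullback.diagonal_fst, Category.comp_id, Category.assoc,
        pullback.lift_fst]
    · rw [Category.assoc, pullback.diagonal_snd, Category.comp_id, Category.assoc,
        pullback.lift_snd, hαβ]
  obtain ⟨k, hk1⟩ := (AlgSp.yon S).map_surjective (psq.lift _ _ hk)
  have hk2 : k ≫ w = g := by
    apply (AlgSp.yon S).map_injective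
    rw [Functor.map_comp, hk1, psq.lift_snd]
  have hinj : Function.Injective w.left.appTop.hom := by
    have h3 : g.left.appTop = w.left.appTop ≫ k.left.appTop := by
      rw [← Scheme.Hom.comp_appTop, ← Over.comp_left, hk2]
    have h4 : g.left.appTop.hom = k.left.appTop.hom.comp w.left.appTop.hom := by
      rw [h3]; rfl
    rw [h4] at hg
    exact Function.Injective.of_comp hg
  haveI : IsIso w.left := IsClosedImmersion.isIso_of_injective_of_isAffine hinj
  haveI : IsIso ((Over.forget S).map w) := by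
    show IsIso w.left
    infer_instance
  haveI : IsIso w := isIso_of_reflects_iso w (Over.forget S)
  rw [← cancel_epi ((AlgSp.yon S).map w), ← e1, ← e2]

/-- the "magic square": the locus where two morphisms to `P` over `B` agree, on a fibre product
over `B`, is the fibre product over `P`. -/
theorem isPullback_magic {C : Type*} [Category C] [HasPullbacks C] {P B W T WT E : C} (pr : P ⟶ B)
    {c₁ : W ⟶ B} {c₂ : T ⟶ B} {p₁ : WT ⟶ W} {p₂ : WT ⟶ T} (sq : IsPullback p₁ p₂ c₁ c₂)
    (q : W ⟶ P) (s : T ⟶ P) (hq : q ≫ pr = c₁) (hs : s ≫ pr = c₂)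
    (hw : (p₁ ≫ q) ≫ pr = (p₂ ≫ s) ≫ pr) {e' : E ⟶ P} {i : E ⟶ WT}
    (sqE : IsPullback e' i (pullback.diagonal pr) (pullback.lift (p₁ ≫ q) (p₂ ≫ s) hw)) :
    IsPullback (i ≫ p₁) (i ≫ p₂) q s := by
  have e1 : e' = i ≫ p₁ ≫ q := by
    have := sqE.w =≫ pullback.fst pr pr
    rwa [Category.assoc, pullback.diagonal_fst, Category.comp_id, Category.assoc,
      pullback.lift_fst] at this
  have e2 : e' = i ≫ p₂ ≫ s := by
    have := sqE.w =≫ pullback.snd pr pr
    rwa [Category.assoc, pullback.diagonal_snd, Category.comp_id, Category.assoc,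
      pullback.lift_snd] at this
  refine ⟨⟨by rw [Category.assoc, Category.assoc, ← e1, ← e2]⟩, ⟨PullbackCone.IsLimit.mk _
    (fun c => sqE.lift (c.fst ≫ q)
      (sq.lift c.fst c.snd (by rw [← hq, ← hs, ← Category.assoc, c.condition, Category.assoc]))
      (by
        apply pullback.hom_ext
        · rw [Category.assoc, pullback.diagonal_fst, Category.comp_id, Category.assoc,
            pullback.lift_fst, ← Category.assoc, sq.lift_fst]
        · rw [Category.assoc, pullback.diagonal_snd, Category.comp_id, Category.assoc,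
            pullback.lift_snd, ← Category.assoc, sq.lift_snd, c.condition]))
    (fun c => by rw [← Category.assoc, sqE.lift_snd, sq.lift_fst])
    (fun c => by rw [← Category.assoc, sqE.lift_snd, sq.lift_snd])
    (fun c m hm1 hm2 => by
      have hmi : m ≫ i = sq.lift c.fst c.snd (by
          rw [← hq, ← hs, ← Category.assoc, c.condition, Category.assoc]) := by
        apply sq.hom_ext
        · rw [Category.assoc, hm1, sq.lift_fst]
        · rw [Category.assoc, hm2, sq.lift_snd]
      apply sqE.hom_ext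
      · rw [sqE.lift_fst, e1, ← Category.assoc, ← Category.assoc, Category.assoc m, hm1]
      · rw [sqE.lift_snd, hmi])⟩⟩


/-- `eq_of_isSeparatedMor` for spectra of algebras. -/
theorem eq_of_isSeparatedMor_SpO {P B : AlgSp.Sp S} (pr : P ⟶ B) (hsep : AlgSp.IsSeparatedMor pr)
    {A : Type u} [CommRing A] (a : Spec (CommRingCat.of A) ⟶ S) {R₁ R₂ : Type u} [CommRing R₁]
    [CommRing R₂] [Algebra A R₁] [Algebra A R₂] (ψ : R₁ →ₐ[A] R₂) (hψ : Function.Injective ψ)
    (α β : (AlgSp.yon S).obj (SpO a R₁) ⟶ P) (hpr : α ≫ pr = β ≫ pr)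
    (hαβ : (AlgSp.yon S).map (mapO a ψ) ≫ α = (AlgSp.yon S).map (mapO a ψ) ≫ β) : α = β := by
  haveI : IsAffine (SpO a R₁).left := inferInstanceAs (IsAffine (Spec (CommRingCat.of R₁)))
  refine eq_of_isSeparatedMor pr hsep (mapO a ψ) ?_ α β hpr hαβ
  show Function.Injective (Spec.map (CommRingCat.ofHom ψ.toRingHom)).appTop.hom
  have h1 := Scheme.ΓSpecIso_naturality (CommRingCat.ofHom ψ.toRingHom)
  have h2 : (Spec.map (CommRingCat.ofHom ψ.toRingHom)).appTop =
      (Scheme.ΓSpecIso (CommRingCat.of R₁)).hom ≫ CommRingCat.ofHom ψ.toRingHom ≫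
        (Scheme.ΓSpecIso (CommRingCat.of R₂)).inv := by
    rw [← Category.assoc, ← h1, Category.assoc, Iso.hom_inv_id, Category.comp_id]
  rw [h2]
  have i1 : Function.Injective (Scheme.ΓSpecIso (CommRingCat.of R₁)).hom.hom :=
    (ConcreteCategory.bijective_of_isIso (Scheme.ΓSpecIso (CommRingCat.of R₁)).hom).1
  have i2 : Function.Injective (Scheme.ΓSpecIso (CommRingCat.of R₂)).inv.hom :=
    (ConcreteCategory.bijective_of_isIso (Scheme.ΓSpecIso (CommRingCat.of R₂)).inv).1
  exact i2.comp (hψ.comp i1)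

/-- descent along an epimorphism of sheaves with a given kernel pair. -/
theorem exists_desc_of_epi {X Y Z R : AlgSp.Sp S} (p : X ⟶ Y) [Epi p] (r₁ r₂ : R ⟶ X)
    (sq : IsPullback r₁ r₂ p p) (e : X ⟶ Z) (h : r₁ ≫ e = r₂ ≫ e) : ∃ m : Y ⟶ Z, p ≫ m = e := by
  haveI := IsRegularEpiCategory.regularEpiOfEpi p
  haveI : EffectiveEpi p := inferInstance
  have hh : ∀ {Q : AlgSp.Sp S} (g₁ g₂ : Q ⟶ X), g₁ ≫ p = g₂ ≫ p → g₁ ≫ e = g₂ ≫ e := by
    intro Q g₁ g₂ hg
    rw [← sq.lift_fst g₁ g₂ hg, Category.assoc, h, ← Category.assoc, sq.lift_snd]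
  exact ⟨EffectiveEpi.desc p e hh, EffectiveEpi.fac p e hh⟩

section Algebra

variable {A : Type u} [CommRing A] [IsDomain A] [IsBezout A] {K : Type u} [Field K] [Algebra A K]
  [IsFractionRing A K]

set_option linter.unusedSectionVars false

/-- nonzero elements of `A` are units in any `A`-algebra receiving `K`. -/
lemma isUnit_algebraMap_of_algHom {D : Type u} [CommRing D] [Algebra A D] (κ : K →ₐ[A] D) {a : A}
    (ha : a ≠ 0) : IsUnit (algebraMap A D a) := by
  rw [← κ.commutes a]
  exact (IsUnit.mk0 _ ((map_ne_zero_iff _ (IsFractionRing.injective A K)).2 ha)).map κ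

lemma flat_of_injective {D M : Type u} [CommRing D] [Algebra A D] (κ : K →ₐ[A] D)
    [AddCommGroup M] [Module A M] (ι : M →ₗ[A] D) (hι : Function.Injective ι) :
    Module.Flat A M := by
  rw [Module.Flat.flat_iff_torsion_eq_bot_of_isBezout, Submodule.eq_bot_iff]
  intro m hm
  rw [Submodule.mem_torsion_iff] at hm
  obtain ⟨⟨a, ha⟩, hm⟩ := hm
  apply hι
  rw [map_zero]
  have h1 : algebraMap A D a * ι m = 0 := by
    rw [← Algebra.smul_def, ← map_smul]
    have : a • m = 0 := hm
    rw [this, map_zero]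
  exact (isUnit_algebraMap_of_algHom κ (nonZeroDivisors.ne_zero ha)).mul_right_eq_zero.1 h1

lemma tensor_map_injective {C D : Type u} [CommRing C] [CommRing D] [Algebra A C] [Algebra A D]
    [Module.Flat A C] [Module.Flat A D] (ι : C →ₐ[A] D) (hι : Function.Injective ι) :
    Function.Injective (Algebra.TensorProduct.map ι ι) := by
  have h1 : Function.Injective (ι.toLinearMap.lTensor C) :=
    Module.Flat.lTensor_preserves_injective_linearMap _ hι
  have h2 : Function.Injective (ι.toLinearMap.rTensor D) :=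
    Module.Flat.rTensor_preserves_injective_linearMap _ hι
  have h3 : (Algebra.TensorProduct.map ι ι : C ⊗[A] C → D ⊗[A] D) =
      (ι.toLinearMap.rTensor D) ∘ (ι.toLinearMap.lTensor C) := by
    funext x
    rw [Function.comp_apply, ← LinearMap.comp_apply, LinearMap.rTensor_comp_lTensor]
    rfl
  rw [h3]
  exact h2.comp h1

lemma include_comp_eq {D : Type u} [CommRing D] [Algebra A D] (κ : K →ₐ[A] D) :
    (Algebra.TensorProduct.includeLeft : D →ₐ[A] D ⊗[A] D).comp κ =
      (Algebra.TensorProduct.includeRight : D →ₐ[A] D ⊗[A] D).comp κ :=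
  (IsLocalization.algHom_subsingleton (nonZeroDivisors A)).elim _ _

end Algebra

section Core

variable {A : Type u} [CommRing A] [IsDomain A] [IsBezout A] {K : Type u} [Field K] [Algebra A K]
  [IsFractionRing A K] (a : Spec (CommRingCat.of A) ⟶ S)
  {P : AlgSp.Sp S} (pr : P ⟶ (AlgSp.yon S).obj (Over.mk a)) (hsep : AlgSp.IsSeparatedMor pr)
  (s : (AlgSp.yon S).obj (SpO a K) ⟶ P) (hs : s ≫ pr = (AlgSp.yon S).map (strO a K))
  {R : Type u} [CommRing R] [Algebra A R] (q : (AlgSp.yon S).obj (SpO a R) ⟶ P)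
  (hq : q ≫ pr = (AlgSp.yon S).map (strO a R))

set_option linter.unusedSectionVars false

include hsep hs hq in
/-- the fibre product of an affine chart with the `K`-point is the spectrum of a `K`-algebra. -/
theorem exists_fibre_ring : ∃ (D : Type u) (_ : CommRing D) (_ : Algebra A D) (φ : R →ₐ[A] D)
    (κD : K →ₐ[A] D),
    IsPullback ((AlgSp.yon S).map (mapO a φ)) ((AlgSp.yon S).map (mapO a κD)) q s := by
  have sqT := isPullback_tensor a (B := R) K
  have hw : ((AlgSp.yon S).map (mapO a (Algebra.TensorProduct.includeLeft : R →ₐ[A] R ⊗[A] K)) ≫ q)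
      ≫ pr = ((AlgSp.yon S).map (mapO a (Algebra.TensorProduct.includeRight : K →ₐ[A] R ⊗[A] K))
        ≫ s) ≫ pr := by
    rw [Category.assoc, hq, Category.assoc, hs]; exact sqT.w
  obtain ⟨E, i, e', sqE⟩ := hsep.1 (pullback.lift _ _ hw)
  haveI hci : IsClosedImmersion i.left := hsep.2 _ _ i sqE
  have hmagic := isPullback_magic pr sqT q s hq hs hw sqE
  obtain ⟨J, e, he⟩ := (IsClosedImmersion.Spec_iff
    (R := CommRingCat.of (R ⊗[A] K)) (f := i.left)).1 hci
  let D : Type u := (R ⊗[A] K) ⧸ J
  let mk : (R ⊗[A] K) →ₐ[A] D := Ideal.Quotient.mkₐ A J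
  have hmk : Spec.map (CommRingCat.ofHom (Ideal.Quotient.mk J)) = (mapO a mk).left := rfl
  let eO : E ≅ SpO a D := Over.isoMk e (by
    have h1 := Over.w i
    rw [he] at h1
    rw [← h1, Category.assoc]
    congr 1
    exact (Over.w (mapO a mk)).symm)
  have heO : eO.inv ≫ i = mapO a mk := by
    apply Over.OverMorphism.ext
    change e.inv ≫ i.left = _
    rw [he, Iso.inv_hom_id_assoc, hmk]
  refine ⟨D, inferInstance, inferInstance, mk.comp Algebra.TensorProduct.includeLeft,
    mk.comp Algebra.TensorProduct.includeRight, ?_⟩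
  rw [← mapO_comp, ← mapO_comp, ← heO]
  simp only [Functor.map_comp, Category.assoc]
  exact IsPullback.of_iso hmagic ((AlgSp.yon S).mapIso eO) (Iso.refl _) (Iso.refl _) (Iso.refl _)
    (by simp) (by simp) (by simp) (by simp)

end Core

section Core2

variable {A : Type u} [CommRing A] [IsDomain A] [IsDiscreteValuationRing A] {K : Type u} [Field K]
  [Algebra A K] [IsFractionRing A K] (a : Spec (CommRingCat.of A) ⟶ S)
  {P : AlgSp.Sp S} (pr : P ⟶ (AlgSp.yon S).obj (Over.mk a)) (hsep : AlgSp.IsSeparatedMor pr)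
  (s : (AlgSp.yon S).obj (SpO a K) ⟶ P) (hs : s ≫ pr = (AlgSp.yon S).map (strO a K))
  {R : Type u} [CommRing R] [Algebra A R] (q : (AlgSp.yon S).obj (SpO a R) ⟶ P)
  (hq : q ≫ pr = (AlgSp.yon S).map (strO a R))

include hsep hs hq in
/-- **the affine core**: a `K`-section specialising to a point of an affine étale chart of finite
type over the closed point extends over `Spec A`. -/
theorem exists_section_of_chart [Algebra.FiniteType A R] (hqe : AlgSp.RepWith @Etale q)
    (w' : PrimeSpectrum R)
    (hspec : AlgSp.Points.ofPt s (closedPoint K) ⤳ AlgSp.Points.ofPt q w')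
    (hw' : (strO a R).left w' = closedPoint A) :
    ∃ l : (AlgSp.yon S).obj (Over.mk a) ⟶ P,
      l ≫ pr = 𝟙 _ ∧ (AlgSp.yon S).map (strO a K) ≫ l = s := by
  obtain ⟨D, _, _, φ, κD, sqx⟩ := exists_fibre_ring a pr hsep s hs q hq
  let C : Type u := ↥φ.range
  let ρ : R →ₐ[A] C := φ.rangeRestrict
  let ι : C →ₐ[A] D := φ.range.val
  have hρ : Function.Surjective ρ := φ.rangeRestrict_surjective
  have hι : Function.Injective ι := Subtype.val_injective
  have hιρ : ι.comp ρ = φ := φ.val_comp_rangeRestrict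
  haveI : Module.Flat A C := flat_of_injective κD ι.toLinearMap hι
  haveI : Module.Flat A D := flat_of_injective κD LinearMap.id Function.injective_id
  haveI : Algebra.FiniteType A C := Algebra.FiniteType.of_surjective ρ hρ
  obtain ⟨ζ, hζdef⟩ : ∃ ζ, ζ = (AlgSp.yon S).map (mapO a ρ) ≫ q := ⟨_, rfl⟩
  have hζ : ζ ≫ pr = (AlgSp.yon S).map (strO a C) := by
    rw [hζdef, Category.assoc, hq, ← Functor.map_comp, mapO_strO]
  -- the chart point lies in the closure
  have hker : RingHom.ker ρ.toRingHom ≤ w'.asIdeal := by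
    intro g hg
    by_contra hgw
    have hφg : φ g = 0 := by
      have h1 : ρ g = 0 := hg
      rw [← hιρ, AlgHom.comp_apply, h1, map_zero]
    have hopen : IsOpen (AlgSp.Points.ofPt q '' (PrimeSpectrum.basicOpen g : Set (PrimeSpectrum R))) :=
      Groth.Agent.S10176.isOpenMap_ofPt q hqe _ (PrimeSpectrum.basicOpen g).isOpen
    obtain ⟨w₁, hw₁, e⟩ := hspec.mem_open hopen ⟨w', hgw, rfl⟩
    obtain ⟨y, hy1, -⟩ := Groth.Agent.S10176.exists_point_of_isPullback_yon sqx w₁ _ e
    apply hw₁
    rw [← hy1]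
    show g ∈ (PrimeSpectrum.comap φ.toRingHom y).asIdeal
    rw [PrimeSpectrum.comap_asIdeal, Ideal.mem_comap]
    show φ g ∈ y.asIdeal
    rw [hφg]; exact zero_mem _
  obtain ⟨z, hz⟩ : ∃ z : PrimeSpectrum C, (mapO a ρ).left z = w' := by
    have : w' ∈ Set.range (PrimeSpectrum.comap ρ.toRingHom) := by
      rw [range_comap_of_surjective _ _ hρ, PrimeSpectrum.mem_zeroLocus]
      exact hker
    exact this
  -- the covering `Spec C ⟶ Spec A`
  have hzc : (strO a C).left z = closedPoint A := by
    rw [← mapO_strO a ρ, Over.comp_left, Scheme.Hom.comp_apply, hz, hw']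
  haveI hfl : Flat (strO a C).left := by
    show Flat (Spec.map (CommRingCat.ofHom (algebraMap A C)))
    rw [Flat.SpecMap_iff]
    exact (RingHom.flat_algebraMap_iff).2 inferInstance
  haveI hfp : LocallyOfFinitePresentation (strO a C).left := by
    show LocallyOfFinitePresentation (Spec.map (CommRingCat.ofHom (algebraMap A C)))
    rw [HasRingHomProperty.Spec_iff (P := @LocallyOfFinitePresentation)]
    haveI : Algebra.FinitePresentation A C := Algebra.FinitePresentation.of_finiteType.1 inferInstance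
    exact RingHom.finitePresentation_algebraMap.2 inferInstance
  haveI hsurj : Surjective (strO a C).left := by
    refine ⟨fun p => ?_⟩
    have hop : IsOpen (Set.range (strO a C).left) := (strO a C).left.isOpenMap.isOpen_range
    exact (specializes_closedPoint (R := A) p).mem_open hop ⟨z, hzc⟩
  haveI hepi : Epi ((AlgSp.yon S).map (strO a C)) := Groth.Agent.Lib.H5bQuotOpen.epi_yon_map _
  -- the descent datum
  have sq2 := isPullback_tensor a (B := C) C
  have hιρO : mapO a ι ≫ mapO a ρ = mapO a φ := by rw [mapO_comp, hιρ]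
  have hagree : (AlgSp.yon S).map (mapO a (Algebra.TensorProduct.includeLeft : C →ₐ[A] C ⊗[A] C)) ≫ ζ =
      (AlgSp.yon S).map (mapO a (Algebra.TensorProduct.includeRight : C →ₐ[A] C ⊗[A] C)) ≫ ζ := by
    refine eq_of_isSeparatedMor_SpO pr hsep a (Algebra.TensorProduct.map ι ι)
      (tensor_map_injective ι hι) _ _ ?_ ?_
    · rw [Category.assoc, Category.assoc, hζ]
      exact sq2.w
    · have hL : mapO a (Algebra.TensorProduct.map ι ι) ≫
          mapO a (Algebra.TensorProduct.includeLeft : C →ₐ[A] C ⊗[A] C) =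
          mapO a (Algebra.TensorProduct.includeLeft : D →ₐ[A] D ⊗[A] D) ≫ mapO a ι := by
        rw [mapO_comp, mapO_comp, Algebra.TensorProduct.map_comp_includeLeft]
      have hR : mapO a (Algebra.TensorProduct.map ι ι) ≫
          mapO a (Algebra.TensorProduct.includeRight : C →ₐ[A] C ⊗[A] C) =
          mapO a (Algebra.TensorProduct.includeRight : D →ₐ[A] D ⊗[A] D) ≫ mapO a ι := by
        rw [mapO_comp, mapO_comp, Algebra.TensorProduct.map_comp_includeRight]
      have hkey : ∀ (incl : D →ₐ[A] D ⊗[A] D),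
          (AlgSp.yon S).map (mapO a incl ≫ mapO a ι) ≫ ζ =
            (AlgSp.yon S).map (mapO a (incl.comp κD)) ≫ s := by
        intro incl
        rw [hζdef, ← Category.assoc, ← Functor.map_comp, Category.assoc, hιρO, Functor.map_comp,
          Category.assoc, sqx.w, ← Category.assoc, ← Functor.map_comp, mapO_comp]
      rw [← Category.assoc, ← Functor.map_comp, hL, ← Category.assoc, ← Functor.map_comp, hR,
        hkey, hkey, include_comp_eq κD]
  obtain ⟨l, hl⟩ := exists_desc_of_epi ((AlgSp.yon S).map (strO a C)) _ _ sq2 ζ hagree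
  have hlpr : l ≫ pr = 𝟙 _ := by
    rw [← cancel_epi ((AlgSp.yon S).map (strO a C)), ← Category.assoc, hl, hζ, Category.comp_id]
  refine ⟨l, hlpr, ?_⟩
  -- the restriction to `Spec K`
  haveI : Nontrivial C := ⟨⟨0, 1, fun h01 => z.isPrime.ne_top ((Ideal.eq_top_iff_one _).2
    (h01 ▸ zero_mem _))⟩⟩
  haveI : Nontrivial D := hι.nontrivial
  refine eq_of_isSeparatedMor_SpO pr hsep a κD (κD : K →+* D).injective _ _ ?_ ?_
  · rw [Category.assoc, hlpr, Category.comp_id, hs]
  · have h1 : mapO a κD ≫ strO a K = mapO a ι ≫ strO a C := by rw [mapO_strO, mapO_strO]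
    rw [← Category.assoc, ← Functor.map_comp, h1, Functor.map_comp, Category.assoc, hl, hζdef,
      ← Category.assoc, ← Functor.map_comp, hιρO, sqx.w]

end Core2

section Main

variable {A : Type u} [CommRing A] [IsDomain A] [IsDiscreteValuationRing A] {K : Type u} [Field K]
  [Algebra A K] [IsFractionRing A K] (a : Spec (CommRingCat.of A) ⟶ S)
  {P : AlgSp.Sp S} (pr : P ⟶ (AlgSp.yon S).obj (Over.mk a))
  (s : (AlgSp.yon S).obj (SpO a K) ⟶ P)

lemma ofPt_yon_map {T T' : Over S} (φ : T ⟶ T') (t : ↥T.left) :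
    AlgSp.Points.ofPt ((AlgSp.yon S).map φ) t = AlgSp.Points.schemeHomeo T' (φ.left t) := by
  rw [AlgSp.Points.ofPt_eq_map_ofScheme]
  exact AlgSp.Points.map_yon_map_apply φ t

/-- **extension of sections over a discrete valuation ring**: for `pr : P ⟶ h_{Spec A}` separated,
locally of finite type and universally closed, a section over `Spec K` extends to `Spec A`. -/
theorem exists_section (hP : AlgSp.IsAlgSpace P) (hsep : AlgSp.IsSeparatedMor pr)
    (hlft : AlgSp.LocP @LocallyOfFiniteType pr) (huc : AlgSp.IsUnivClosedMor pr)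
    (hs : s ≫ pr = (AlgSp.yon S).map (strO a K)) :
    ∃ l : (AlgSp.yon S).obj (Over.mk a) ⟶ P,
      l ≫ pr = 𝟙 _ ∧ (AlgSp.yon S).map (strO a K) ≫ l = s := by
  -- a specialisation over the closed point
  have hcl : IsClosedMap (AlgSp.Points.map pr) :=
    huc (AlgSp.IsAlgSpace.yon_obj _) (𝟙 _) (𝟙 P) pr (IsPullback.id_horiz pr)
  obtain ⟨x, hx⟩ : ∃ x, x = AlgSp.Points.ofPt s (closedPoint K) := ⟨_, rfl⟩
  have hprx : AlgSp.Points.map pr x =
      AlgSp.Points.schemeHomeo (Over.mk a) ((strO a K).left (closedPoint K)) := by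
    rw [hx, AlgSp.Points.map_ofPt, hs, ofPt_yon_map]
  have hsp : AlgSp.Points.map pr x ⤳ AlgSp.Points.schemeHomeo (Over.mk a) (closedPoint A) := by
    rw [hprx]
    exact (specializes_closedPoint (R := A) ((strO a K).left (closedPoint K))).map
      (AlgSp.Points.schemeHomeo (Over.mk a)).continuous
  obtain ⟨x', hx', hx'c⟩ : ∃ x', x ⤳ x' ∧
      AlgSp.Points.map pr x' = AlgSp.Points.schemeHomeo (Over.mk a) (closedPoint A) := by
    have h1 : IsClosed (AlgSp.Points.map pr '' closure {x}) := hcl _ isClosed_closure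
    have h2 : AlgSp.Points.schemeHomeo (Over.mk a) (closedPoint A) ∈
        AlgSp.Points.map pr '' closure {x} := by
      have h3 : closure {AlgSp.Points.map pr x} ⊆ AlgSp.Points.map pr '' closure {x} :=
        closure_minimal (by
          rintro _ rfl
          exact ⟨x, subset_closure rfl, rfl⟩) h1
      exact h3 (specializes_iff_mem_closure.1 hsp)
    obtain ⟨x', hx'1, hx'2⟩ := h2
    exact ⟨x', specializes_iff_mem_closure.2 hx'1, hx'2⟩
  -- an affine étale chart at the specialisation
  obtain ⟨U, p, hpe, hps⟩ := hP.atlas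
  obtain ⟨u₀, hu₀⟩ := Groth.Agent.S10177.surjective_ofPt p hps x'
  obtain ⟨_, ⟨U₀, hU₀, rfl⟩, hu₀U, -⟩ :=
    (U.left.isBasis_affineOpens).exists_subset_of_mem_open (Set.mem_univ u₀) isOpen_univ
  let U' : U.left.Opens := U₀
  haveI : IsAffine U' := hU₀
  let W₀ : Over S := Over.mk (U'.ι ≫ U.hom)
  let jO : W₀ ⟶ U := Over.homMk U'.ι rfl
  haveI : IsAffine W₀.left := hU₀
  obtain ⟨q₀, hq₀⟩ : ∃ q₀, q₀ = (AlgSp.yon S).map jO ≫ p := ⟨_, rfl⟩
  have hq₀e : AlgSp.RepWith @Etale q₀ := by
    rw [hq₀]
    exact (AlgSp.RepWith @Etale).comp_mem _ _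
      ((AlgSp.repWith_yon_map_iff @Etale jO).2 (inferInstanceAs (Etale U'.ι))) hpe
  let w'₀ : ↥W₀.left := (⟨u₀, hu₀U⟩ : U')
  have hw'₀ : AlgSp.Points.ofPt q₀ w'₀ = x' := by
    rw [hq₀, Groth.Agent.S10176.ofPt_map_comp jO p]
    exact hu₀
  obtain ⟨c₀, hc₀⟩ := (AlgSp.yon S).map_surjective (q₀ ≫ pr)
  haveI : LocallyOfFiniteType c₀.left :=
    hlft q₀ (𝟙 _) c₀ hq₀e (AlgSp.repWith_id _ _) (by rw [hc₀, Category.comp_id])
  -- the chart as a spectrum
  let B : Type u := Γ(W₀.left, ⊤)
  let eW : W₀.left ≅ Spec (CommRingCat.of B) := W₀.left.isoSpec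
  let φ₀ : CommRingCat.of A ⟶ CommRingCat.of B := Spec.preimage (eW.inv ≫ c₀.left)
  have hφ₀ : Spec.map φ₀ = eW.inv ≫ c₀.left := Spec.map_preimage _
  letI : Algebra A B := φ₀.hom.toAlgebra
  have hφ₀' : Spec.map (CommRingCat.ofHom (algebraMap A B)) = eW.inv ≫ c₀.left := hφ₀
  let eWO : SpO a B ≅ W₀ := Over.isoMk eW.symm (by
    change eW.inv ≫ W₀.hom = Spec.map (CommRingCat.ofHom (algebraMap A B)) ≫ a
    rw [hφ₀', Category.assoc]
    exact congrArg (eW.inv ≫ ·) (Over.w c₀).symm)
  have heWO : eWO.hom ≫ c₀ = strO a B := Over.OverMorphism.ext hφ₀'.symm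
  haveI : Algebra.FiniteType A B := by
    have h1 : LocallyOfFiniteType (Spec.map (CommRingCat.ofHom (algebraMap A B))) := by
      rw [hφ₀']; infer_instance
    rw [HasRingHomProperty.Spec_iff (P := @LocallyOfFiniteType)] at h1
    exact RingHom.finiteType_algebraMap.1 h1
  obtain ⟨q, hqdef⟩ : ∃ q, q = (AlgSp.yon S).map eWO.hom ≫ q₀ := ⟨_, rfl⟩
  have hqe : AlgSp.RepWith @Etale q := by
    rw [hqdef]
    exact (MorphismProperty.cancel_left_of_respectsIso (AlgSp.RepWith @Etale)
      ((AlgSp.yon S).map eWO.hom) q₀).2 hq₀e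
  have hq : q ≫ pr = (AlgSp.yon S).map (strO a B) := by
    rw [hqdef, Category.assoc, ← hc₀, ← Functor.map_comp, heWO]
  let w' : ↥(SpO a B).left := eWO.inv.left w'₀
  have hw'1 : eWO.hom.left w' = w'₀ := by
    show eWO.hom.left (eWO.inv.left w'₀) = w'₀
    rw [← Scheme.Hom.comp_apply, ← Over.comp_left, Iso.inv_hom_id]
    rfl
  have hqw' : AlgSp.Points.ofPt q w' = x' := by
    rw [hqdef, Groth.Agent.S10176.ofPt_map_comp eWO.hom q₀, hw'1, hw'₀]
  have hw'c : (strO a B).left w' = closedPoint A := by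
    apply (AlgSp.Points.schemeHomeo (Over.mk a)).injective
    rw [← hx'c, ← hqw', AlgSp.Points.map_ofPt, hq, ofPt_yon_map]
  exact exists_section_of_chart a pr hsep s hs q hq hqe w' (by rw [← hx, hqw']; exact hx') hw'c

end Main

end Groth.Agent.Lib.H5bDvrLift
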