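import Mathlib
import Groth.Prelude.Def_AlgSp3
import Groth.Prelude.Def_AlgSpEt
import Groth.Agent.S9874
import Groth.Agent.S10210

/-!
# Charts of fibres of morphisms of algebraic spaces

* `repWith_etale_of_comp`: cancellation for representable étale maps from a scheme.
* `repWith_etale_fibre_chart`: for `h : Y ⟶ Z`, compatible charts `V ⟶ W`, a morphism `pt : K' ⟶ W`
  of schemes and the scheme fibre product `Vs = V ×_W K'`, the induced map
  `h_{Vs} ⟶ Y ×_Z h_{K'}` is representable étale.
-/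

set_option autoImplicit false
universe u

namespace Groth.Agent.Lib.H5bFibChart

open CategoryTheory CategoryTheory.Limits AlgebraicGeometry AlgSp

variable {S : Scheme.{u}}

/-- the identity of `h_U` is representable étale. -/
theorem repWith_etale_id (U : Over S) : RepWith @Etale (𝟙 ((yon S).obj U)) := by
  rw [← (yon S).map_id]
  exact (repWith_yon_map_iff @Etale (𝟙 U)).2 (inferInstanceAs (Etale (𝟙 U.left)))

/-- cancellation: a map from a scheme into an algebraic space étale over `X`, whose composite to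
`X` is representable étale, is representable étale. -/
theorem repWith_etale_of_comp {X X' : AlgSp.Sp S} (hX' : IsAlgSpace X') {U : Over S}
    (a' : (yon S).obj U ⟶ X') (g : X' ⟶ X) (hg : RepWith @Etale g)
    (ha : RepWith @Etale (a' ≫ g)) : RepWith @Etale a' := by
  have hgE : IsEtaleMor g := fun _ _ hφ =>
    (repWith_isMultiplicative (S := S) @Etale).comp_mem _ _ hφ hg
  have haE : IsEtaleMor (a' ≫ g) := isEtaleMor_of_repWith _ ha
  have := Groth.Agent.S10210.isEtaleMor_of_comp (IsAlgSpace.yon_obj U) hX' a' g haE hgE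
  have h2 := this (𝟙 _) (repWith_etale_id U)
  rwa [Category.id_comp] at h2

/-- the chart of a fibre. -/
theorem repWith_etale_fibre_chart {Y Z : AlgSp.Sp S} (hY : IsAlgSpace Y) (hZ : IsAlgSpace Z)
    (h : Y ⟶ Z) {V W : Over S} (b : (yon S).obj V ⟶ Y) (c : (yon S).obj W ⟶ Z) (q : V ⟶ W)
    (hb : RepWith @Etale b) (hc : RepWith @Etale c) (comm : b ≫ h = (yon S).map q ≫ c)
    {K' Vs : Over S} (pt : K' ⟶ W) (ιV : Vs ⟶ V) (πV : Vs ⟶ K')
    (sqV : IsPullback ((yon S).map ιV) ((yon S).map πV) ((yon S).map q) ((yon S).map pt))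
    {Yz : AlgSp.Sp S} {pY : Yz ⟶ Y} {qY : Yz ⟶ (yon S).obj K'}
    (sqY : IsPullback pY qY h ((yon S).map pt ≫ c))
    (β : (yon S).obj Vs ⟶ Yz) (hβ1 : β ≫ pY = (yon S).map ιV ≫ b)
    (hβ2 : β ≫ qY = (yon S).map πV) : RepWith @Etale β := by
  -- `Y_W = Y ×_Z h_W`
  have sqYW := IsPullback.of_hasPullback h c
  set YW := pullback h c
  set prY := pullback.fst h c
  set prW := pullback.snd h c
  have hYW : IsAlgSpace YW :=
    Groth.Agent.S9874.isAlgSpace_of_isPullback hZ.diag hY (IsAlgSpace.yon_obj W) sqYW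
  have hprY : RepWith @Etale prY :=
    (repWith_isStableUnderBaseChange (S := S) @Etale).of_isPullback sqYW.flip hc
  -- `b' : h_V ⟶ Y_W`
  let b' : (yon S).obj V ⟶ YW := sqYW.lift b ((yon S).map q) comm
  have hb'1 : b' ≫ prY = b := sqYW.lift_fst _ _ _
  have hb'2 : b' ≫ prW = (yon S).map q := sqYW.lift_snd _ _ _
  have hb' : RepWith @Etale b' := repWith_etale_of_comp hYW b' prY hprY (hb'1 ▸ hb)
  -- `Yz ⟶ Y_W`
  let j : Yz ⟶ YW := sqYW.lift pY (qY ≫ (yon S).map pt) (by rw [sqY.w, Category.assoc])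
  have hj1 : j ≫ prY = pY := sqYW.lift_fst _ _ _
  have hj2 : j ≫ prW = qY ≫ (yon S).map pt := sqYW.lift_snd _ _ _
  have sqL : IsPullback j qY prW ((yon S).map pt) :=
    IsPullback.of_right (by rw [hj1]; exact sqY) hj2 sqYW
  -- the square exhibiting `β` as a base change of `b'`
  have hw : β ≫ j = (yon S).map ιV ≫ b' := by
    apply sqYW.hom_ext
    · rw [Category.assoc, hj1, hβ1, Category.assoc, hb'1]
    · rw [Category.assoc, hj2, ← Category.assoc, hβ2, Category.assoc, hb'2, sqV.w]
  have sqβ : IsPullback ((yon S).map ιV) β b' j := by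
    refine IsPullback.of_bot ?_ hw.symm sqL
    rw [hβ2, hb'2]
    exact sqV
  exact (repWith_isStableUnderBaseChange (S := S) @Etale).of_isPullback sqβ hb'

end Groth.Agent.Lib.H5bFibChart
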