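import Mathlib
import Groth.Prelude.Def_AlgSp3
import Groth.Prelude.Def_AlgSp4
import Groth.Prelude.Def_AlgSpEt
import Groth.Prelude.Def_MoreMor
import Groth.Agent.Lib.H5bFibChart
import Groth.Agent.Lib.Helper5FiberMor
import Groth.Agent.S10557
import Groth.Agent.S10175
import Groth.Agent.S10176
import Groth.Agent.S10177

/-!
# Fibrewise flatness criteria for algebraic spaces: reduction to charts

* `FibHyp f h`: all fibres `X_z ⟶ Y_z` of `f` over field points of `Z` are flat.
* `flat_fiberMap_of_charts`: under `FibHyp`, for compatible étale charts `U ⟶ V ⟶ W` the scheme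
  maps of fibres `U_s ⟶ V_s`, `s ∈ W`, are flat.
* `locP_flat_of_crit`: reduction of `LocP @Flat f` to a criterion on such chart triples.
* `locP_flat_second`: `f` flat surjective and `f ≫ h` flat imply `h` flat.
-/

set_option autoImplicit false
set_option linter.style.haveILetI false
universe u

namespace Groth.Agent.Lib.H5bFibCrit

open CategoryTheory CategoryTheory.Limits AlgebraicGeometry Opposite AlgSp
open Groth.Agent.Lib.H5bFibChart

variable {S : Scheme.{u}}

/-- a scheme-level pullback square of schemes over `S` gives a pullback of representable sheaves. -/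
theorem isPullback_yon_of_left {A B C D : Over S} (f : A ⟶ B) (g : A ⟶ C) (h : B ⟶ D) (k : C ⟶ D)
    (w : f ≫ h = g ≫ k) (sq : IsPullback f.left g.left h.left k.left) :
    IsPullback ((yon S).map f) ((yon S).map g) ((yon S).map h) ((yon S).map k) := by
  have : IsPullback f g h k := IsPullback.of_map (Over.forget S) w sq
  exact this.map (yon S)


/-- the hypothesis on fibres -/
def FibHyp {X Y Z : AlgSp.Space S} (f : X ⟶ Y) (h : Y ⟶ Z) : Prop :=
  ∀ (K : Type u) [Field K] (sK : Spec (CommRingCat.of K) ⟶ S)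
      (z : (AlgSp.yon S).obj (Over.mk sK) ⟶ Z.obj) (Xz Yz : AlgSp.Sp S)
      (pX : Xz ⟶ X.obj) (qX : Xz ⟶ (AlgSp.yon S).obj (Over.mk sK))
      (pY : Yz ⟶ Y.obj) (qY : Yz ⟶ (AlgSp.yon S).obj (Over.mk sK)) (fz : Xz ⟶ Yz),
      IsPullback pX qX (f ≫ h).hom z → IsPullback pY qY h.hom z → fz ≫ pY = pX ≫ f.hom → fz ≫ qY = qX →
      AlgSp.LocP @Flat fz

theorem flat_fiberMap_of_charts {X Y Z : AlgSp.Space S} (f : X ⟶ Y) (h : Y ⟶ Z)
    (hfib : FibHyp f h) {U V W : Over S}
    (a : (yon S).obj U ⟶ X.obj) (b : (yon S).obj V ⟶ Y.obj) (c : (yon S).obj W ⟶ Z.obj)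
    (p : U ⟶ V) (q : V ⟶ W) (ha : RepWith @Etale a) (hb : RepWith @Etale b) (hc : RepWith @Etale c)
    (comm1 : a ≫ f.hom = (yon S).map p ≫ b) (comm2 : b ≫ h.hom = (yon S).map q ≫ c)
    (s : W.left) : Flat (MoreMor.fiberMap p.left q.left s) := by
  have comm12 : a ≫ (f ≫ h).hom = (yon S).map (p ≫ q) ≫ c := by
    show a ≫ f.hom ≫ h.hom = _
    rw [← Category.assoc, comm1, Category.assoc, comm2, Functor.map_comp, Category.assoc]
  let sK : Spec (W.left.residueField s) ⟶ S := W.left.fromSpecResidueField s ≫ W.hom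
  let pt : Over.mk sK ⟶ W := Over.homMk (W.left.fromSpecResidueField s) rfl
  -- the fibres as schemes over `S`
  let Us : Over S := Over.mk ((p.left ≫ q.left).fiberToSpecResidueField s ≫ sK)
  let Vs : Over S := Over.mk (q.left.fiberToSpecResidueField s ≫ sK)
  let ιU : Us ⟶ U := Over.homMk ((p.left ≫ q.left).fiberι s) (by
    have h1 : U.hom = (p.left ≫ q.left) ≫ W.hom := by
      rw [Category.assoc, Over.w q, Over.w p]
    show _ ≫ U.hom = _ ≫ _ ≫ W.hom
    rw [h1, ← Category.assoc, (p.left ≫ q.left).fiber_fac s, Category.assoc])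
  let πU : Us ⟶ Over.mk sK := Over.homMk ((p.left ≫ q.left).fiberToSpecResidueField s) rfl
  let ιV : Vs ⟶ V := Over.homMk (q.left.fiberι s) (by
    show _ ≫ V.hom = _ ≫ _ ≫ W.hom
    rw [← Over.w q, ← Category.assoc, q.left.fiber_fac s, Category.assoc])
  let πV : Vs ⟶ Over.mk sK := Over.homMk (q.left.fiberToSpecResidueField s) rfl
  let FM : Us ⟶ Vs := Over.homMk (MoreMor.fiberMap p.left q.left s) (by
    show _ ≫ _ ≫ sK = _ ≫ sK
    rw [← Category.assoc]
    congr 1
    exact pullback.lift_snd _ _ _)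
  have sqUs : IsPullback ((yon S).map ιU) ((yon S).map πU) ((yon S).map (p ≫ q)) ((yon S).map pt) :=
    isPullback_yon_of_left ιU πU (p ≫ q) pt (by
      apply Over.OverMorphism.ext
      exact (p.left ≫ q.left).fiber_fac s)
      (IsPullback.of_hasPullback (p.left ≫ q.left) (W.left.fromSpecResidueField s))
  have sqVs : IsPullback ((yon S).map ιV) ((yon S).map πV) ((yon S).map q) ((yon S).map pt) :=
    isPullback_yon_of_left ιV πV q pt (by
      apply Over.OverMorphism.ext
      exact q.left.fiber_fac s)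
      (IsPullback.of_hasPullback q.left (W.left.fromSpecResidueField s))
  -- the fibres of the spaces
  let z : (yon S).obj (Over.mk sK) ⟶ Z.obj := (yon S).map pt ≫ c
  have sqX := IsPullback.of_hasPullback (f ≫ h).hom z
  have sqY := IsPullback.of_hasPullback h.hom z
  let fz : pullback (f ≫ h).hom z ⟶ pullback h.hom z :=
    pullback.lift (pullback.fst (f ≫ h).hom z ≫ f.hom) (pullback.snd (f ≫ h).hom z) (by
      rw [Category.assoc]; exact pullback.condition)
  have hfz1 : fz ≫ pullback.fst h.hom z = pullback.fst (f ≫ h).hom z ≫ f.hom := pullback.lift_fst _ _ _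
  have hfz2 : fz ≫ pullback.snd h.hom z = pullback.snd (f ≫ h).hom z := pullback.lift_snd _ _ _
  have hloc : AlgSp.LocP @Flat fz :=
    hfib (W.left.residueField s) sK z _ _ _ _ _ _ fz sqX sqY hfz1 hfz2
  -- charts of the fibres
  let α : (yon S).obj Us ⟶ pullback (f ≫ h).hom z :=
    pullback.lift ((yon S).map ιU ≫ a) ((yon S).map πU) (by
      rw [Category.assoc, comm12, ← Category.assoc, sqUs.w, Category.assoc])
  let β : (yon S).obj Vs ⟶ pullback h.hom z :=
    pullback.lift ((yon S).map ιV ≫ b) ((yon S).map πV) (by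
      rw [Category.assoc, comm2, ← Category.assoc, sqVs.w, Category.assoc])
  have hα : RepWith @Etale α :=
    repWith_etale_fibre_chart X.property Z.property (f ≫ h).hom a c (p ≫ q) ha hc comm12 pt ιU πU
      sqUs sqX α (pullback.lift_fst _ _ _) (pullback.lift_snd _ _ _)
  have hβ : RepWith @Etale β :=
    repWith_etale_fibre_chart Y.property Z.property h.hom b c q hb hc comm2 pt ιV πV
      sqVs sqY β (pullback.lift_fst _ _ _) (pullback.lift_snd _ _ _)
  have hcomm : α ≫ fz = (yon S).map FM ≫ β := by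
    apply pullback.hom_ext
    · rw [Category.assoc, hfz1, ← Category.assoc, pullback.lift_fst, Category.assoc, comm1,
        Category.assoc, pullback.lift_fst, ← Category.assoc, ← Category.assoc,
        ← Functor.map_comp, ← Functor.map_comp]
      congr 2
      apply Over.OverMorphism.ext
      exact (pullback.lift_fst _ _ _).symm
    · rw [Category.assoc, hfz2, pullback.lift_snd, Category.assoc, pullback.lift_snd,
        ← Functor.map_comp]
      congr 1
      apply Over.OverMorphism.ext
      exact (pullback.lift_snd _ _ _).symm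
  exact hloc α β FM hα hβ hcomm


/-- flatness descends along an étale surjective morphism to the source -/
theorem flat_of_etale_surjective_comp {U' U V : Scheme.{u}} (e : U' ⟶ U) (p : U ⟶ V) [Etale e]
    [Surjective e] (hfl : Flat (e ≫ p)) : Flat p := by
  refine Groth.Agent.S10557.flat_of_hasLocalSections e p ?_ hfl
  intro v
  obtain ⟨u', hu'⟩ := Surjective.surj (f := e) v
  refine ⟨U', 𝟙 _, u', hu', ?_, ?_⟩
  · rw [Category.id_comp]; infer_instance
  · rw [Category.id_comp]; infer_instance


/-- reduction of flatness of `f` to a criterion for compatible charts `U ⟶ V ⟶ W` in terms of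
the fibres over the points of `W`. -/
theorem locP_flat_of_crit {X Y Z : AlgSp.Space S} (f : X ⟶ Y) (h : Y ⟶ Z)
    (hfib : FibHyp f h)
    (crit : ∀ ⦃U V W : Over S⦄ (a : (yon S).obj U ⟶ X.obj) (b : (yon S).obj V ⟶ Y.obj)
      (c : (yon S).obj W ⟶ Z.obj) (p : U ⟶ V) (q : V ⟶ W), RepWith @Etale a → RepWith @Etale b →
      RepWith @Etale c → a ≫ f.hom = (yon S).map p ≫ b → b ≫ h.hom = (yon S).map q ≫ c →
      (∀ s : W.left, Flat (MoreMor.fiberMap p.left q.left s)) → Flat p.left) :
    AlgSp.LocP @Flat f.hom := by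
  intro U V a b p ha hb comm1
  obtain ⟨W, c, hc, hcs⟩ := Z.property.atlas
  -- `V' = V ×_Z W`
  have sqV := hc.rep.isPullback' (b ≫ h.hom)
  set q' := hc.rep.fst' (b ≫ h.hom) with hq'
  set eV := hc.rep.snd (b ≫ h.hom) with heV
  haveI heVe : Etale eV.left := hc.property_snd (b ≫ h.hom)
  haveI heVs : Surjective eV.left := hcs.property_snd (b ≫ h.hom)
  -- `U' = U ×_V V'`
  have hE : RepWith @Etale ((yon S).map eV) := (repWith_yon_map_iff @Etale eV).2 heVe
  have hEs : RepWith @Surjective ((yon S).map eV) := (repWith_yon_map_iff @Surjective eV).2 heVs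
  have sqU := hE.rep.isPullback' ((yon S).map p)
  set p' := hE.rep.fst' ((yon S).map p) with hp'
  set eU := hE.rep.snd ((yon S).map p) with heU
  haveI heUe : Etale eU.left := hE.property_snd ((yon S).map p)
  haveI heUs : Surjective eU.left := hEs.property_snd ((yon S).map p)
  have hcommO : p' ≫ eV = eU ≫ p := by
    apply (yon S).map_injective
    rw [Functor.map_comp, Functor.map_comp]
    exact sqU.w
  have hcommL : p'.left ≫ eV.left = eU.left ≫ p.left := by
    have := congrArg CommaMorphism.left hcommO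
    simp only [Over.comp_left] at this
    exact this
  have ha' : RepWith @Etale ((yon S).map eU ≫ a) :=
    (repWith_isMultiplicative (S := S) @Etale).comp_mem _ _
      ((repWith_yon_map_iff @Etale eU).2 heUe) ha
  have hb' : RepWith @Etale ((yon S).map eV ≫ b) :=
    (repWith_isMultiplicative (S := S) @Etale).comp_mem _ _ hE hb
  have c1 : ((yon S).map eU ≫ a) ≫ f.hom = (yon S).map p' ≫ ((yon S).map eV ≫ b) := by
    rw [Category.assoc, comm1, ← Category.assoc, ← Category.assoc, ← Functor.map_comp,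
      ← Functor.map_comp, hcommO]
  have c2 : ((yon S).map eV ≫ b) ≫ h.hom = (yon S).map q' ≫ c := by
    rw [Category.assoc]; exact sqV.w.symm
  have hflat' : Flat p'.left :=
    crit _ _ c p' q' ha' hb' hc c1 c2
      (fun s => flat_fiberMap_of_charts f h hfib _ _ c p' q' ha' hb' hc c1 c2 s)
  have : Flat (eU.left ≫ p.left) := by
    rw [← hcommL]; infer_instance
  exact flat_of_etale_surjective_comp eU.left p.left this


/-- a chart of `X` surjecting onto a given chart of `Y`, for surjective `f`. -/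
theorem exists_surjective_chart {X Y : AlgSp.Space S} (f : X ⟶ Y)
    (hs : AlgSp.IsSurjectiveMor f.hom) {V : Over S} (b : (yon S).obj V ⟶ Y.obj)
    (hb : RepWith @Etale b) :
    ∃ (T : Over S) (a : (yon S).obj T ⟶ X.obj) (t : T ⟶ V), RepWith @Etale a ∧
      a ≫ f.hom = (yon S).map t ≫ b ∧ Function.Surjective t.left := by
  have sq := IsPullback.of_hasPullback f.hom b
  set Pb := pullback f.hom b with hPbdef
  set fst := pullback.fst f.hom b with hfst
  set snd := pullback.snd f.hom b with hsnd
  have hPb : AlgSp.IsAlgSpace Pb :=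
    Groth.Agent.S9874.isAlgSpace_of_isPullback Y.property.diag X.property
      (AlgSp.IsAlgSpace.yon_obj V) sq
  obtain ⟨T, p₀, hp₀e, hp₀s⟩ := hPb.atlas
  have hfstE : AlgSp.RepWith @Etale fst :=
    (AlgSp.repWith_isStableUnderBaseChange (S := S) @Etale).of_isPullback sq.flip hb
  let t : T ⟶ V := (AlgSp.yon S).preimage (p₀ ≫ snd)
  have ht : (AlgSp.yon S).map t = p₀ ≫ snd := (AlgSp.yon S).map_preimage _
  refine ⟨T, p₀ ≫ fst, t, (AlgSp.repWith_isMultiplicative (S := S) @Etale).comp_mem _ _ hp₀e hfstE,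
    ?_, ?_⟩
  · rw [Category.assoc, sq.w, ← Category.assoc, ← ht]
  · intro v
    obtain ⟨x, hx⟩ := hs (AlgSp.Points.ofPt b v)
    obtain ⟨ρ, hρ1, hρ2⟩ := Groth.Agent.S10175.exists_point_of_isPullback sq.flip
      (AlgSp.Points.ofScheme V v) x (by
        rw [hx, AlgSp.Points.ofPt_eq_map_ofScheme])
    obtain ⟨τ, hτ⟩ := Groth.Agent.S10177.surjective_ofPt p₀ hp₀s ρ
    refine ⟨τ, ?_⟩
    apply (AlgSp.Points.schemeEquiv V).injective
    show AlgSp.Points.ofScheme V (t.left τ) = AlgSp.Points.ofScheme V v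
    rw [← hρ1, ← hτ, AlgSp.Points.map_ofPt, ← ht]
    have h3 := Groth.Agent.S10176.ofPt_map_comp t (𝟙 _) τ
    rw [Category.comp_id] at h3
    exact h3.symm

theorem locP_flat_second {X Y Z : AlgSp.Space S} (f : X ⟶ Y) (h : Y ⟶ Z)
    (hfl : AlgSp.LocP @Flat (f ≫ h).hom) (hf : AlgSp.LocP @Flat f.hom)
    (hs : AlgSp.IsSurjectiveMor f.hom) : AlgSp.LocP @Flat h.hom := by
  intro V W b c q hb hc comm2
  obtain ⟨T, a, t, ha, hat, hts⟩ := exists_surjective_chart f hs b hb
  have comm12 : a ≫ (f ≫ h).hom = (yon S).map (t ≫ q) ≫ c := by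
    show a ≫ f.hom ≫ h.hom = _
    rw [← Category.assoc, hat, Category.assoc, comm2, Functor.map_comp, Category.assoc]
  have h1 : Flat (t.left ≫ q.left) := hfl a c (t ≫ q) ha hc comm12
  have h2 : Flat t.left := hf a b t ha hb hat
  apply Flat.of_stalkMap
  intro v
  obtain ⟨τ, rfl⟩ := hts v
  exact Groth.Agent.Lib.Helper5.FiberMor.flat_of_comp t.left q.left τ (Flat.stalkMap _ τ)
    (Flat.stalkMap _ τ)


end Groth.Agent.Lib.H5bFibCrit
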