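import Mathlib
import Groth.Prelude.Def_AlgSp
import Groth.Prelude.Def_AlgSp3
import Groth.Agent.Lib.H5bFibCrit
import Groth.Agent.Lib.H5bDvrLift

/-!
# Separatedness of a chart and restriction of the relation to an open (helper5)

* `closedImmersion_of_separated`: for `f : X ⟶ h_T` separated and a chart `a₀ : h_{U₀} ⟶ X` with
  kernel pair `(t₀, s₀) : R₀ ⇉ U₀`, the map `(t₀, s₀) : R₀ ⟶ U₀ ×_T U₀` is a closed immersion.
* `exists_restrict`: restriction of `(U₀, R₀, s₀, t₀, h₀ : U₀ ⟶ T)` to opens `W' ⊆ U₀`, `W ⊆ T`.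
-/

set_option autoImplicit false
set_option linter.style.haveILetI false
set_option linter.unusedSectionVars false
set_option linter.unusedSimpArgs false
set_option linter.unusedVariables false
universe u

open CategoryTheory CategoryTheory.Limits AlgebraicGeometry AlgSp

namespace Groth.Agent.Lib.H5bLqf

variable {S : Scheme.{u}}

theorem closedImmersion_of_separated {X : AlgSp.Sp S} {T U₀ R₀ : Over S}
    (f : X ⟶ (yon S).obj T) (hsep : AlgSp.IsSeparatedMor f) (a₀ : (yon S).obj U₀ ⟶ X)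
    (h₀ : U₀ ⟶ T) (hh : (yon S).map h₀ = a₀ ≫ f) {s₀ t₀ : R₀ ⟶ U₀}
    (hk₀ : IsPullback ((yon S).map t₀) ((yon S).map s₀) a₀ a₀) :
    ∃ hts : t₀.left ≫ h₀.left = s₀.left ≫ h₀.left,
      IsClosedImmersion (pullback.lift t₀.left s₀.left hts) := by
  have hts' : t₀ ≫ h₀ = s₀ ≫ h₀ := by
    apply (yon S).map_injective
    rw [Functor.map_comp, Functor.map_comp, hh, ← Category.assoc, ← Category.assoc, hk₀.w]
  have hts : t₀.left ≫ h₀.left = s₀.left ≫ h₀.left := congrArg (fun m => m.left) hts'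
  refine ⟨hts, ?_⟩
  let P₀ : Over S := Over.mk (pullback.fst h₀.left h₀.left ≫ U₀.hom)
  let p1 : P₀ ⟶ U₀ := Over.homMk (pullback.fst _ _) rfl
  have hp2 : pullback.snd h₀.left h₀.left ≫ U₀.hom = pullback.fst h₀.left h₀.left ≫ U₀.hom := by
    calc pullback.snd h₀.left h₀.left ≫ U₀.hom
        = (pullback.snd h₀.left h₀.left ≫ h₀.left) ≫ T.hom := by rw [Category.assoc, Over.w h₀]
      _ = (pullback.fst h₀.left h₀.left ≫ h₀.left) ≫ T.hom := by rw [pullback.condition]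
      _ = pullback.fst h₀.left h₀.left ≫ U₀.hom := by rw [Category.assoc, Over.w h₀]
  let p2 : P₀ ⟶ U₀ := Over.homMk (pullback.snd _ _) hp2
  have hp : p1 ≫ h₀ = p2 ≫ h₀ := by
    ext
    exact pullback.condition
  have sqP : IsPullback ((yon S).map p1) ((yon S).map p2) ((yon S).map h₀) ((yon S).map h₀) :=
    Groth.Agent.Lib.H5bFibCrit.isPullback_yon_of_left p1 p2 h₀ h₀ hp
      (IsPullback.of_hasPullback _ _)
  have hw : ((yon S).map p1 ≫ a₀) ≫ f = ((yon S).map p2 ≫ a₀) ≫ f := by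
    rw [Category.assoc, Category.assoc, ← hh, ← Functor.map_comp, ← Functor.map_comp, hp]
  obtain ⟨V, w, e', psq⟩ :=
    hsep.1 (pullback.lift ((yon S).map p1 ≫ a₀) ((yon S).map p2 ≫ a₀) hw)
  haveI : IsClosedImmersion w.left := hsep.2 _ _ w psq
  have hmag := Groth.Agent.Lib.H5bDvrLift.isPullback_magic f sqP a₀ a₀ hh.symm hh.symm hw psq
  let φ : (yon S).obj R₀ ≅ (yon S).obj V := hk₀.isoIsPullback _ _ hmag
  let ε : R₀ ≅ V := (yon S).preimageIso φ
  have hε1 : ε.hom ≫ w ≫ p1 = t₀ := by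
    apply (yon S).map_injective
    rw [Functor.map_comp, Functor.map_comp, Functor.preimageIso_hom, Functor.map_preimage]
    exact hk₀.isoIsPullback_hom_fst _ _ hmag
  have hε2 : ε.hom ≫ w ≫ p2 = s₀ := by
    apply (yon S).map_injective
    rw [Functor.map_comp, Functor.map_comp, Functor.preimageIso_hom, Functor.map_preimage]
    exact hk₀.isoIsPullback_hom_snd _ _ hmag
  have hj : pullback.lift t₀.left s₀.left hts = ε.hom.left ≫ w.left := by
    apply pullback.hom_ext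
    · rw [pullback.lift_fst, Category.assoc]
      exact (congrArg (fun m => m.left) hε1).symm
    · rw [pullback.lift_snd, Category.assoc]
      exact (congrArg (fun m => m.left) hε2).symm
  rw [hj]
  haveI : IsIso ε.hom.left := by
    have : IsIso ((Over.forget S).map ε.hom) := inferInstance
    exact this
  infer_instance

section Restrict

variable {U₀ R₀ T : Over S} (s₀ t₀ : R₀ ⟶ U₀) (h₀ : U₀ ⟶ T)
  (W' : U₀.left.Opens) (W : T.left.Opens)

/-- restricted chart. -/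
abbrev rU : Over S := Over.mk (W'.ι ≫ U₀.hom)

/-- its inclusion. -/
abbrev rg : rU W' ⟶ U₀ := Over.homMk W'.ι rfl

/-- the open of the target. -/
abbrev rW : Over S := Over.mk (W.ι ≫ T.hom)

/-- its inclusion. -/
abbrev rι : rW W ⟶ T := Over.homMk W.ι rfl

/-- the open subset of the relation. -/
def rO : R₀.left.Opens := t₀.left ⁻¹ᵁ W' ⊓ s₀.left ⁻¹ᵁ W'

/-- restricted relation. -/
abbrev rR : Over S := Over.mk ((rO s₀ t₀ W').ι ≫ R₀.hom)

/-- its inclusion. -/
abbrev rr : rR s₀ t₀ W' ⟶ R₀ := Over.homMk (rO s₀ t₀ W').ι rfl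

theorem range_rt : Set.range ((rO s₀ t₀ W').ι ≫ t₀.left) ⊆ Set.range W'.ι := by
  rw [Scheme.Opens.range_ι]
  rintro _ ⟨x, rfl⟩
  exact x.2.1

theorem range_rs : Set.range ((rO s₀ t₀ W').ι ≫ s₀.left) ⊆ Set.range W'.ι := by
  rw [Scheme.Opens.range_ι]
  rintro _ ⟨x, rfl⟩
  exact x.2.2

/-- restricted target map. -/
noncomputable def rtL : (rO s₀ t₀ W').toScheme ⟶ W'.toScheme :=
  IsOpenImmersion.lift W'.ι ((rO s₀ t₀ W').ι ≫ t₀.left) (range_rt s₀ t₀ W')

/-- restricted source map. -/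
noncomputable def rsL : (rO s₀ t₀ W').toScheme ⟶ W'.toScheme :=
  IsOpenImmersion.lift W'.ι ((rO s₀ t₀ W').ι ≫ s₀.left) (range_rs s₀ t₀ W')

@[reassoc]
theorem rtL_ι : rtL s₀ t₀ W' ≫ W'.ι = (rO s₀ t₀ W').ι ≫ t₀.left := IsOpenImmersion.lift_fac _ _ _

@[reassoc]
theorem rsL_ι : rsL s₀ t₀ W' ≫ W'.ι = (rO s₀ t₀ W').ι ≫ s₀.left := IsOpenImmersion.lift_fac _ _ _

/-- restricted target map over `S`. -/
noncomputable def rt : rR s₀ t₀ W' ⟶ rU W' := Over.homMk (rtL s₀ t₀ W') (by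
  show rtL s₀ t₀ W' ≫ W'.ι ≫ U₀.hom = (rO s₀ t₀ W').ι ≫ R₀.hom
  rw [rtL_ι_assoc, Over.w t₀])

/-- restricted source map over `S`. -/
noncomputable def rs : rR s₀ t₀ W' ⟶ rU W' := Over.homMk (rsL s₀ t₀ W') (by
  show rsL s₀ t₀ W' ≫ W'.ι ≫ U₀.hom = (rO s₀ t₀ W').ι ≫ R₀.hom
  rw [rsL_ι_assoc, Over.w s₀])

theorem rt_rg : rt s₀ t₀ W' ≫ rg W' = rr s₀ t₀ W' ≫ t₀ := by
  ext
  exact rtL_ι s₀ t₀ W'

theorem rs_rg : rs s₀ t₀ W' ≫ rg W' = rr s₀ t₀ W' ≫ s₀ := by
  ext
  exact rsL_ι s₀ t₀ W'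

instance etale_rt [Etale t₀.left] : Etale (rt s₀ t₀ W').left := by
  show Etale (rtL s₀ t₀ W')
  haveI : Etale (rtL s₀ t₀ W' ≫ W'.ι) := by
    rw [rtL_ι]
    infer_instance
  exact Etale.of_comp (rtL s₀ t₀ W') W'.ι

instance etale_rs [Etale s₀.left] : Etale (rs s₀ t₀ W').left := by
  show Etale (rsL s₀ t₀ W')
  haveI : Etale (rsL s₀ t₀ W' ≫ W'.ι) := by
    rw [rsL_ι]
    infer_instance
  exact Etale.of_comp (rsL s₀ t₀ W') W'.ι

theorem mem_rO_of {Y : Scheme.{u}} (y : Y ⟶ R₀.left) (x1 x2 : Y ⟶ W'.toScheme)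
    (h1 : x1 ≫ W'.ι = y ≫ t₀.left) (h2 : x2 ≫ W'.ι = y ≫ s₀.left) :
    Set.range y ⊆ Set.range (rO s₀ t₀ W').ι := by
  rw [Scheme.Opens.range_ι]
  rintro _ ⟨p, rfl⟩
  constructor
  · show t₀.left (y p) ∈ W'
    have : t₀.left (y p) = W'.ι (x1 p) := by
      rw [← Scheme.Hom.comp_apply, ← Scheme.Hom.comp_apply, h1]
    rw [this]
    exact (x1 p).2
  · show s₀.left (y p) ∈ W'
    have : s₀.left (y p) = W'.ι (x2 p) := by
      rw [← Scheme.Hom.comp_apply, ← Scheme.Hom.comp_apply, h2]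
    rw [this]
    exact (x2 p).2

theorem isPullback_restrict :
    IsPullback (prod.lift (rt s₀ t₀ W') (rs s₀ t₀ W')) (rr s₀ t₀ W') (prod.map (rg W') (rg W'))
      (prod.lift t₀ s₀) := by
  have w : prod.lift (rt s₀ t₀ W') (rs s₀ t₀ W') ≫ prod.map (rg W') (rg W') =
      rr s₀ t₀ W' ≫ prod.lift t₀ s₀ := by
    apply prod.hom_ext
    · rw [Category.assoc, prod.map_fst, prod.lift_fst_assoc, Category.assoc, prod.lift_fst, rt_rg]
    · rw [Category.assoc, prod.map_snd, prod.lift_snd_assoc, Category.assoc, prod.lift_snd, rs_rg]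
  haveI : Mono (rg W') := Over.mono_of_mono_left _
  have hc : ∀ c : PullbackCone (prod.map (rg W') (rg W')) (prod.lift t₀ s₀),
      (c.fst ≫ prod.fst) ≫ rg W' = c.snd ≫ t₀ ∧ (c.fst ≫ prod.snd) ≫ rg W' = c.snd ≫ s₀ := by
    intro c
    constructor
    · have := congrArg (fun m => m ≫ prod.fst) c.condition
      simpa only [Category.assoc, prod.map_fst, prod.lift_fst] using this
    · have := congrArg (fun m => m ≫ prod.snd) c.condition
      simpa only [Category.assoc, prod.map_snd, prod.lift_snd] using this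
  have hr : ∀ c : PullbackCone (prod.map (rg W') (rg W')) (prod.lift t₀ s₀),
      Set.range c.snd.left ⊆ Set.range (rO s₀ t₀ W').ι := fun c =>
    mem_rO_of s₀ t₀ W' c.snd.left (c.fst ≫ prod.fst).left (c.fst ≫ prod.snd).left
      (congrArg (fun m => m.left) (hc c).1) (congrArg (fun m => m.left) (hc c).2)
  let l : ∀ c : PullbackCone (prod.map (rg W') (rg W')) (prod.lift t₀ s₀), c.pt ⟶ rR s₀ t₀ W' :=
    fun c => Over.homMk (IsOpenImmersion.lift (rO s₀ t₀ W').ι c.snd.left (hr c)) (by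
      show IsOpenImmersion.lift (rO s₀ t₀ W').ι c.snd.left (hr c) ≫ (rO s₀ t₀ W').ι ≫ R₀.hom =
        c.pt.hom
      rw [IsOpenImmersion.lift_fac_assoc, Over.w])
  have hl : ∀ c, l c ≫ rr s₀ t₀ W' = c.snd := by
    intro c
    ext
    exact IsOpenImmersion.lift_fac _ _ _
  refine IsPullback.of_isLimit' ⟨w⟩ (PullbackCone.IsLimit.mk _ l ?_ hl ?_)
  · intro c
    apply prod.hom_ext
    · rw [Category.assoc, prod.lift_fst, ← cancel_mono (rg W'), Category.assoc, rt_rg,
        ← Category.assoc, hl c, (hc c).1]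
    · rw [Category.assoc, prod.lift_snd, ← cancel_mono (rg W'), Category.assoc, rs_rg,
        ← Category.assoc, hl c, (hc c).2]
  · intro c m h1 h2
    haveI : Mono (rr s₀ t₀ W') := Over.mono_of_mono_left _
    rw [← cancel_mono (rr s₀ t₀ W'), h2, hl c]

variable (hle : W' ≤ h₀.left ⁻¹ᵁ W)

include hle in
theorem range_rh : Set.range (W'.ι ≫ h₀.left) ⊆ Set.range W.ι := by
  rw [Scheme.Opens.range_ι]
  rintro _ ⟨x, rfl⟩
  exact hle x.2

/-- the restricted map to the base. -/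
noncomputable def rhL : W'.toScheme ⟶ W.toScheme :=
  IsOpenImmersion.lift W.ι (W'.ι ≫ h₀.left) (range_rh h₀ W' W hle)

@[reassoc]
theorem rhL_ι : rhL h₀ W' W hle ≫ W.ι = W'.ι ≫ h₀.left := IsOpenImmersion.lift_fac _ _ _

/-- the restricted map to the base, over `S`. -/
noncomputable def rh : rU W' ⟶ rW W := Over.homMk (rhL h₀ W' W hle) (by
  show rhL h₀ W' W hle ≫ W.ι ≫ T.hom = W'.ι ≫ U₀.hom
  rw [rhL_ι_assoc, Over.w h₀])

instance loft_rh [LocallyOfFiniteType h₀.left] : LocallyOfFiniteType (rh h₀ W' W hle).left := by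
  show LocallyOfFiniteType (rhL h₀ W' W hle)
  haveI : LocallyOfFiniteType (rhL h₀ W' W hle ≫ W.ι) := by
    rw [rhL_ι]
    infer_instance
  exact locallyOfFiniteType_of_comp (rhL h₀ W' W hle) W.ι

instance lqf_rh [LocallyQuasiFinite h₀.left] : LocallyQuasiFinite (rh h₀ W' W hle).left := by
  show LocallyQuasiFinite (rhL h₀ W' W hle)
  haveI : LocallyQuasiFinite (rhL h₀ W' W hle ≫ W.ι) := by
    rw [rhL_ι]
    infer_instance
  exact LocallyQuasiFinite.of_comp (rhL h₀ W' W hle) W.ι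

variable (hts : t₀.left ≫ h₀.left = s₀.left ≫ h₀.left)

include hts in
theorem rts : (rt s₀ t₀ W').left ≫ (rh h₀ W' W hle).left =
    (rs s₀ t₀ W').left ≫ (rh h₀ W' W hle).left := by
  show rtL s₀ t₀ W' ≫ rhL h₀ W' W hle = rsL s₀ t₀ W' ≫ rhL h₀ W' W hle
  rw [← cancel_mono W.ι, Category.assoc, Category.assoc, rhL_ι, rtL_ι_assoc, rsL_ι_assoc, hts]

theorem isClosedImmersion_restrict [IsClosedImmersion (pullback.lift t₀.left s₀.left hts)] :
    IsClosedImmersion (pullback.lift (rt s₀ t₀ W').left (rs s₀ t₀ W').left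
      (rts s₀ t₀ h₀ W' W hle hts)) := by
  let m : pullback (rh h₀ W' W hle).left (rh h₀ W' W hle).left ⟶ pullback h₀.left h₀.left :=
    pullback.map _ _ _ _ W'.ι W'.ι W.ι (rhL_ι h₀ W' W hle) (rhL_ι h₀ W' W hle)
  have hm1 : m ≫ pullback.fst _ _ = pullback.fst _ _ ≫ W'.ι := pullback.lift_fst _ _ _
  have hm2 : m ≫ pullback.snd _ _ = pullback.snd _ _ ≫ W'.ι := pullback.lift_snd _ _ _
  have w : (rO s₀ t₀ W').ι ≫ pullback.lift t₀.left s₀.left hts =
      pullback.lift (rt s₀ t₀ W').left (rs s₀ t₀ W').left (rts s₀ t₀ h₀ W' W hle hts) ≫ m := by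
    apply pullback.hom_ext
    · rw [Category.assoc, Category.assoc, pullback.lift_fst, hm1, pullback.lift_fst_assoc]
      exact (rtL_ι s₀ t₀ W').symm
    · rw [Category.assoc, Category.assoc, pullback.lift_snd, hm2, pullback.lift_snd_assoc]
      exact (rsL_ι s₀ t₀ W').symm
  have hc : ∀ c : PullbackCone (pullback.lift t₀.left s₀.left hts) m,
      (c.snd ≫ pullback.fst _ _) ≫ W'.ι = c.fst ≫ t₀.left ∧
        (c.snd ≫ pullback.snd _ _) ≫ W'.ι = c.fst ≫ s₀.left := by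
    intro c
    constructor
    · have := congrArg (fun k => k ≫ pullback.fst _ _) c.condition
      simp only [Category.assoc, pullback.lift_fst, hm1] at this
      exact this.symm
    · have := congrArg (fun k => k ≫ pullback.snd _ _) c.condition
      simp only [Category.assoc, pullback.lift_snd, hm2] at this
      exact this.symm
  have hr : ∀ c : PullbackCone (pullback.lift t₀.left s₀.left hts) m,
      Set.range c.fst ⊆ Set.range (rO s₀ t₀ W').ι := fun c =>
    mem_rO_of s₀ t₀ W' c.fst _ _ (hc c).1 (hc c).2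
  have sq : IsPullback (rO s₀ t₀ W').ι
      (pullback.lift (rt s₀ t₀ W').left (rs s₀ t₀ W').left (rts s₀ t₀ h₀ W' W hle hts))
      (pullback.lift t₀.left s₀.left hts) m := by
    refine IsPullback.of_isLimit' ⟨w⟩ (PullbackCone.IsLimit.mk _
      (fun c => IsOpenImmersion.lift (rO s₀ t₀ W').ι c.fst (hr c))
      (fun c => IsOpenImmersion.lift_fac _ _ _) ?_ ?_)
    · intro c
      apply pullback.hom_ext
      · rw [Category.assoc, pullback.lift_fst, ← cancel_mono W'.ι, Category.assoc]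
        show _ ≫ rtL s₀ t₀ W' ≫ W'.ι = _
        rw [rtL_ι, IsOpenImmersion.lift_fac_assoc, (hc c).1]
      · rw [Category.assoc, pullback.lift_snd, ← cancel_mono W'.ι, Category.assoc]
        show _ ≫ rsL s₀ t₀ W' ≫ W'.ι = _
        rw [rsL_ι, IsOpenImmersion.lift_fac_assoc, (hc c).2]
    · intro c k h1 h2
      rw [← cancel_mono (rO s₀ t₀ W').ι, h1, IsOpenImmersion.lift_fac]
  exact MorphismProperty.of_isPullback (P := @IsClosedImmersion) sq inferInstance

end Restrict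

end Groth.Agent.Lib.H5bLqf
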