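import Mathlib
import Groth.Prelude.Def_AlgSp
import Groth.Prelude.Def_AlgSp3
import Groth.Agent.Lib.H5bLqfCore
import Groth.Agent.Lib.H5bLqfRestr
import Groth.Agent.Lib.H5bAtlasDesc
import Groth.Agent.Lib.H5bQuotOpen
import Groth.Agent.Lib.Helper12LargestOpen
import Groth.Agent.S10197

/-!
# A sheaf with a chart which is separated and locally quasi-finite over a scheme (helper5)

`isRepresentable_of_chart`: an algebraic space `X` with a separated, locally quasi-finite morphism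
to a scheme is a scheme.
-/

set_option autoImplicit false
set_option linter.style.haveILetI false
set_option linter.unusedSectionVars false
set_option linter.unusedSimpArgs false
set_option linter.unusedVariables false
universe u

open CategoryTheory CategoryTheory.Limits AlgebraicGeometry AlgSp

namespace Groth.Agent.Lib.H5bLqf

variable {S : Scheme.{u}}

theorem exists_affine_pair {U T : Scheme.{u}} (h : U ⟶ T) (x : U) :
    ∃ (W' : U.Opens) (W : T.Opens), IsAffineOpen W' ∧ IsAffineOpen W ∧ x ∈ W' ∧ W' ≤ h ⁻¹ᵁ W := by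
  obtain ⟨W, hW, hxW, -⟩ := TopologicalSpace.Opens.isBasis_iff_nbhd.mp T.isBasis_affineOpens
    (U := ⊤) (x := h x) trivial
  obtain ⟨W', hW', hxW', hle⟩ := TopologicalSpace.Opens.isBasis_iff_nbhd.mp U.isBasis_affineOpens
    (U := h ⁻¹ᵁ W) (x := x) hxW
  exact ⟨W', W, hW', hW, hxW', hle⟩

section

variable {X : AlgSp.Sp S} {T U₀ R₀ : Over S} (s₀ t₀ : R₀ ⟶ U₀) (h₀ : U₀ ⟶ T)
  (a₀ : (yon S).obj U₀ ⟶ X) [Epi a₀]
  (hk₀ : IsPullback ((yon S).map t₀) ((yon S).map s₀) a₀ a₀)
  [Etale s₀.left] [Etale t₀.left] [LocallyOfFiniteType h₀.left] [LocallyQuasiFinite h₀.left]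
  (hts : t₀.left ≫ h₀.left = s₀.left ≫ h₀.left)
  [IsClosedImmersion (pullback.lift t₀.left s₀.left hts)]
  (W' : U₀.left.Opens) (W : T.left.Opens) (hW' : IsAffineOpen W') (hW : IsAffineOpen W)
  (hle : W' ≤ h₀.left ⁻¹ᵁ W)

include hk₀ hW' hW hle hts in
/-- the open subsheaf of `X` which is the image of the affine open `W'` is representable. -/
theorem exists_rep_open :
    ∃ (F : AlgSp.Sp S) (incl : F ⟶ X) (q : (yon S).obj (rU W') ⟶ F) (V : Over S)
      (e : (yon S).obj V ≅ F), RepWith @IsOpenImmersion incl ∧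
        q ≫ incl = (yon S).map (rg W') ≫ a₀ := by
  have hinj : ∀ (T' : Over S) (ρ ρ' : T' ⟶ R₀), ρ ≫ t₀ = ρ' ≫ t₀ → ρ ≫ s₀ = ρ' ≫ s₀ → ρ = ρ' := by
    intro T' ρ ρ' h1 h2
    apply (yon S).map_injective
    apply hk₀.hom_ext
    · rw [← Functor.map_comp, ← Functor.map_comp, h1]
    · rw [← Functor.map_comp, ← Functor.map_comp, h2]
  haveI : Flat (rg W').left := inferInstanceAs (Flat W'.ι)
  haveI : LocallyOfFinitePresentation (rg W').left :=
    inferInstanceAs (LocallyOfFinitePresentation W'.ι)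
  obtain ⟨F, incl, q, hincl, hmono, hq, hepi, hkq⟩ :=
    Groth.Agent.Lib.H5bQuotOpen.exists_open_subsheaf s₀ t₀ (rg W') (rs s₀ t₀ W') (rt s₀ t₀ W')
      (rr s₀ t₀ W') (isPullback_restrict s₀ t₀ W') hinj a₀ hk₀.flip
  haveI : IsAffine (rU W').left := hW'
  haveI : IsAffine (rW W).left := hW
  haveI := hepi
  haveI := isClosedImmersion_restrict s₀ t₀ h₀ W' W hle hts
  obtain ⟨V, ⟨e⟩⟩ := representable_of_affine_chart (s := rs s₀ t₀ W') (t := rt s₀ t₀ W') (a := q)
    (rh h₀ W' W hle) (rts s₀ t₀ h₀ W' W hle hts) inferInstance hkq.flip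
  exact ⟨F, incl, q, V, e, hincl, hq⟩

end

/-- **separated + locally quasi-finite over a scheme ⇒ scheme**. -/
theorem isRepresentable_of_lqf_separated (T : Over S) (X : AlgSp.Space S)
    (f : X.obj ⟶ (yon S).obj T)
    (hqf : AlgSp.LocP (@LocallyQuasiFinite ⊓ @LocallyOfFiniteType) f)
    (hsep : AlgSp.IsSeparatedMor f) : X.obj.obj.IsRepresentable := by
  obtain ⟨U₀, a₀, hae, has⟩ := X.property.atlas
  haveI : Epi a₀ := Groth.Agent.Lib.H5bAtlasDesc.epi_of_atlas a₀ hae has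
  have hrep := X.property.representable_from_yon a₀
  let R₀ : Over S := hrep.pullback a₀
  let t₀ : R₀ ⟶ U₀ := hrep.fst' a₀
  let s₀ : R₀ ⟶ U₀ := hrep.snd a₀
  have hk₀ : IsPullback ((yon S).map t₀) ((yon S).map s₀) a₀ a₀ := hrep.isPullback' a₀
  haveI : Etale s₀.left := hae.2 a₀ _ s₀ hk₀
  haveI : Etale t₀.left := hae.2 a₀ _ t₀ hk₀.flip
  obtain ⟨h₀, hh⟩ := (yon S).map_surjective (a₀ ≫ f)
  have hP := hqf a₀ (𝟙 _) h₀ hae (repWith_id _ T) (by rw [hh, Category.comp_id])
  haveI : LocallyQuasiFinite h₀.left := hP.1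
  haveI : LocallyOfFiniteType h₀.left := hP.2
  obtain ⟨hts, hj⟩ := closedImmersion_of_separated f hsep a₀ h₀ hh hk₀
  haveI := hj
  choose W' W hW' hW hmem hle using fun u : U₀.left => exists_affine_pair h₀.left u
  choose F incl q V e hincl hq using fun u : U₀.left =>
    exists_rep_open s₀ t₀ h₀ a₀ hk₀ hts (W' u) (W u) (hW' u) (hW u) (hle u)
  obtain ⟨X', j, hjo, hX'rep, hmax⟩ := Groth.Agent.S10197.result X
  have hk : ∀ u : U₀.left, ∃ k : F u ⟶ X'.obj, k ≫ j.hom = incl u := by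
    intro u
    obtain ⟨k, hk⟩ := hmax ⟨F u, (IsAlgSpace.yon_obj (V u)).of_iso (e u)⟩
      (ObjectProperty.homMk (incl u)) (hincl u) ⟨V u, ⟨AlgSp.representableByOfIso (e u)⟩⟩
    exact ⟨k.hom, congrArg (fun m => m.hom) hk⟩
  choose k hk using hk
  haveI : Mono j.hom := Groth.Agent.Lib.Helper12.LargestOpen.mono_of_open j.hom hjo
  have hcov : Sieve.ofArrows (fun u : U₀.left => rU (W' u)) (fun u => rg (W' u)) ∈
      AlgSp.J S U₀ := by
    apply ofArrows_mem_J
    · intro u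
      exact inferInstanceAs (Flat (W' u).ι)
    · intro u
      exact inferInstanceAs (LocallyOfFinitePresentation (W' u).ι)
    · intro τ
      refine ⟨τ, ?_⟩
      show τ ∈ Set.range (W' τ).ι
      rw [Scheme.Opens.range_ι]
      exact hmem τ
  haveI : Epi j.hom := by
    constructor
    intro H f₁ f₂ hf
    rw [← cancel_epi a₀]
    apply Groth.Agent.Lib.Helper8FOThick.hom_ext_of_ofArrows_mem _ _ hcov
    intro u
    rw [← Category.assoc, ← Category.assoc, ← hq u, ← hk u, Category.assoc, Category.assoc,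
      Category.assoc, Category.assoc, hf]
  haveI : IsIso j.hom := isIso_of_mono_of_epi _
  obtain ⟨Y, ⟨r⟩⟩ := hX'rep.has_representation
  exact ⟨Y, ⟨AlgSp.representableByOfIso (AlgSp.isoOfRepresentableBy r ≪≫ asIso j.hom)⟩⟩

end Groth.Agent.Lib.H5bLqf
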