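import Mathlib
import Groth.Prelude.Def_AlgSp
import Groth.Prelude.Def_AlgSp3
import Groth.Prelude.Def_AlgSp4
import Groth.Prelude.Def_AlgSpRep
import Groth.Agent.S10096
import Groth.Agent.Lib.H5bLqfMain
import Groth.Agent.Lib.H5bFppfBase
import Groth.Agent.Lib.Helper12Descent
import Groth.Agent.Lib.Helper12QuasiFiniteDescent

/-!
# Bootstrap: descending representability of separated locally quasi-finite maps (helper5)

* `exists_cover_lift`: a point of the target of an fppf map representable by algebraic spaces lifts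
  after an fppf covering morphism of schemes;
* `exists_rep_of_cartesian`: the content of the bootstrap lemma for cartesian squares.
-/

set_option autoImplicit false
set_option linter.style.haveILetI false
set_option linter.unusedSectionVars false
set_option linter.unusedSimpArgs false
set_option linter.unusedVariables false
universe u

open CategoryTheory CategoryTheory.Limits AlgebraicGeometry AlgSp Opposite

namespace Groth.Agent.Lib.H5bBoot

open Groth.Agent.S13210

variable {S : Scheme.{u}}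

/-- a point of the target of an fppf map representable by algebraic spaces lifts after an fppf
covering morphism of schemes. -/
theorem exists_cover_lift {F G : AlgSp.Sp S} (g : F ⟶ G)
    (hg : AlgSp.RepBySpWith (AlgSp.IsSurjectiveMor ⊓ AlgSp.LocP @Flat ⊓
      AlgSp.LocP @LocallyOfFinitePresentation) g.hom) {T : Over S} (ξ : (yon S).obj T ⟶ G) :
    ∃ (T' : Over S) (pT : T' ⟶ T) (d : (yon S).obj T' ⟶ F), Surjective pT.left ∧ Flat pT.left ∧
      LocallyOfFinitePresentation pT.left ∧ d ≫ g = (yon S).map pT ≫ ξ := by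
  have sqP := IsPullback.of_hasPullback g ξ
  obtain ⟨hAlg, ⟨hsurj, hflat⟩, hlfp⟩ :=
    (AlgSp.repBySpWith_hom_iff _ g).1 hg ξ (pullback.fst g ξ) (pullback.snd g ξ) sqP
  obtain ⟨U, p₀, hp₀e, hp₀s⟩ := hAlg.atlas
  obtain ⟨h, hh⟩ := (AlgSp.yon S).map_surjective (p₀ ≫ pullback.snd g ξ)
  have hcomm : p₀ ≫ pullback.snd g ξ = (AlgSp.yon S).map h ≫ 𝟙 _ := by
    rw [Category.comp_id, hh]
  have h1 : Flat h.left := hflat p₀ (𝟙 _) h hp₀e (AlgSp.repWith_id _ T) hcomm
  have h2 : LocallyOfFinitePresentation h.left :=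
    hlfp p₀ (𝟙 _) h hp₀e (AlgSp.repWith_id _ T) hcomm
  have h3 : Surjective h.left := by
    refine ⟨fun t => ?_⟩
    obtain ⟨p, hp⟩ := hsurj (AlgSp.Points.ofScheme T t)
    obtain ⟨u, hu⟩ := Groth.Agent.S10177.surjective_ofPt p₀ hp₀s p
    refine ⟨u, ?_⟩
    apply (AlgSp.Points.schemeEquiv T).injective
    show AlgSp.Points.ofScheme T (h.left u) = AlgSp.Points.ofScheme T t
    rw [← hp, ← hu, AlgSp.Points.map_ofPt, ← hh]
    have h3 := Groth.Agent.S10176.ofPt_map_comp h (𝟙 _) u
    rw [Category.comp_id] at h3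
    exact h3.symm
  refine ⟨U, h, p₀ ≫ pullback.fst g ξ, h3, h1, h2, ?_⟩
  rw [Category.assoc, pullback.condition, ← Category.assoc, hh]

/-- the class of separated, locally quasi-finite morphisms of finite type. -/
abbrev SLQ : MorphismProperty Scheme.{u} :=
  @IsSeparated ⊓ (@LocallyQuasiFinite ⊓ @LocallyOfFiniteType)

instance : (SLQ.{u}).DescendsAlong (@Surjective ⊓ @Flat ⊓ @LocallyOfFinitePresentation) := by
  haveI := Groth.Agent.Lib.Helper12.descendsAlong_isSeparated.{u}
  haveI := Groth.Agent.Lib.Helper12.descendsAlong_locallyQuasiFinite_inf_locallyOfFiniteType.{u}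
  infer_instance

theorem slq_effective ⦃X' S' : Scheme.{u}⦄ (p : X' ⟶ S') (h1 : Surjective p) (h2 : Flat p)
    (h3 : LocallyOfFinitePresentation p) (D : Desc.SchDD p) (hD : SLQ D.obj.hom) :
    (Desc.toDD p).essImage D := by
  haveI := h1
  haveI := h2
  haveI := h3
  haveI : IsSeparated D.obj.hom := hD.1
  haveI : LocallyQuasiFinite D.obj.hom := hD.2.1
  haveI : LocallyOfFiniteType D.obj.hom := hD.2.2
  exact Groth.Agent.Lib.H5bDDGen.effective_sep_lqf_fppf p D

/-- a separated locally quasi-finite algebraic space over a scheme is a scheme separated and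
locally quasi-finite over it. -/
theorem exists_scheme_of_slq {T : Over S} {E : AlgSp.Sp S} (hE : AlgSp.IsAlgSpace E)
    (c : E ⟶ (yon S).obj T) (hsep : AlgSp.IsSeparatedMor c)
    (hqf : AlgSp.LocP (@LocallyQuasiFinite ⊓ @LocallyOfFiniteType) c) :
    ∃ (W : Over S) (w : W ⟶ T) (e : (yon S).obj W ≅ E), e.hom ≫ c = (yon S).map w ∧
      SLQ w.left := by
  have hrep := Groth.Agent.Lib.H5bLqf.isRepresentable_of_lqf_separated T ⟨E, hE⟩ c hqf hsep
  obtain ⟨W, ⟨r⟩⟩ := hrep.has_representation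
  let e : (yon S).obj W ≅ E := AlgSp.isoOfRepresentableBy r
  obtain ⟨w, hw⟩ := (yon S).map_surjective (e.hom ≫ c)
  refine ⟨W, w, e, hw.symm, ?_, ?_⟩
  · have h1 : AlgSp.IsSeparatedMor ((yon S).map w) := by
      rw [hw]
      exact (MorphismProperty.cancel_left_of_respectsIso (AlgSp.RepWith @IsClosedImmersion).diagonal
        e.hom c).2 hsep
    exact (AlgSp.isSeparatedMor_yon_map_iff w).1 h1
  · have h2 : AlgSp.LocP (@LocallyQuasiFinite ⊓ @LocallyOfFiniteType) ((yon S).map w) := by
      rw [hw]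
      intro U V a' b' h hae hbe hcomm
      exact hqf (a' ≫ e.hom) b' h (MorphismProperty.RespectsIso.postcomp _ _ _ hae) hbe
        (by rw [Category.assoc, hcomm])
    exact AlgSp.locP_yon_map h2

/-- **bootstrap for cartesian squares**. -/
theorem exists_rep_of_cartesian {E F G H : AlgSp.Sp S} (a : E ⟶ F) (f : E ⟶ H) (g : F ⟶ G)
    (b : H ⟶ G) (sq : IsPullback a f g b)
    (hg : AlgSp.RepBySpWith (AlgSp.IsSurjectiveMor ⊓ AlgSp.LocP @Flat ⊓
      AlgSp.LocP @LocallyOfFinitePresentation) g.hom)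
    (ha : AlgSp.RepBySpWith
      (AlgSp.IsSeparatedMor ⊓ AlgSp.LocP (@LocallyQuasiFinite ⊓ @LocallyOfFiniteType)) a.hom)
    {T : Over S} (ξ : (yon S).obj T ⟶ G) :
    ∃ (W : Over S) (fst : (yon S).obj W ⟶ H) (w : W ⟶ T)
      (_ : IsPullback fst ((yon S).map w) b ξ), SLQ w.left := by
  obtain ⟨T', pT, d, hs, hf, hp, hd⟩ := exists_cover_lift g hg ξ
  haveI := hs
  haveI := hf
  haveI := hp
  have sqE := IsPullback.of_hasPullback a d
  obtain ⟨hAlg, hsep, hqf⟩ :=
    (AlgSp.repBySpWith_hom_iff _ a).1 ha d (pullback.fst a d) (pullback.snd a d) sqE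
  obtain ⟨W', g', e, he, hP⟩ := exists_scheme_of_slq hAlg (pullback.snd a d) hsep hqf
  have sq1 : IsPullback (pullback.fst a d ≫ f) (pullback.snd a d) b (d ≫ g) :=
    sqE.paste_horiz sq.flip
  rw [hd] at sq1
  have sq' : IsPullback (e.hom ≫ pullback.fst a d ≫ f) ((yon S).map g') b
      ((yon S).map pT ≫ ξ) := by
    rw [← he]
    exact IsPullback.of_iso sq1 e.symm (Iso.refl _) (Iso.refl _) (Iso.refl _) (by simp) (by simp)
      (by simp) (by simp)
  obtain ⟨W, w, a₀, sq₀, hw⟩ := Groth.Agent.Lib.H5bFppfBase.exists_rep_of_single_cover SLQ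
    slq_effective b ξ pT g' _ sq' hP
  exact ⟨W, a₀, w, sq₀, hw⟩

end Groth.Agent.Lib.H5bBoot
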