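import Mathlib
import Groth.Prelude.Def_AlgSp
import Groth.Prelude.Def_AlgSp3
import Groth.Prelude.Def_AlgSp4
import Groth.Prelude.Def_AlgSpRep
import Groth.Agent.Lib.H5bBootA
import Groth.Agent.Lib.H5bSpDescF0
import Groth.Agent.Lib.Helper12LocPCases
import Groth.Agent.Lib.Helper12Proper
import Groth.Agent.S9947
import Groth.Agent.S9874

/-!
# Bootstrap: the diagonal (helper5)

* `isOpenImmersion_diagonal_of_mono`, `locP_lqf_of_mono`: a monomorphism of sheaves which is locally
  of finite type on charts is locally quasi-finite (indeed unramified) on charts;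
* `exists_scheme_of_jointly_mono`: an algebraic space with a jointly monomorphic pair of maps to a
  scheme `U`, one of them locally of finite type, is a scheme;
* `representable_diag_of_fppf_cover`: a sheaf with an fppf covering, representable by algebraic
  spaces, from an algebraic space has representable diagonal.
-/

set_option autoImplicit false
set_option linter.style.haveILetI false
set_option linter.unusedSectionVars false
set_option linter.unusedSimpArgs false
set_option linter.unusedVariables false
universe u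

open CategoryTheory CategoryTheory.Limits AlgebraicGeometry AlgSp Opposite

namespace Groth.Agent.Lib.H5bBoot

variable {S : Scheme.{u}}

instance : MorphismProperty.HasOfPostcompProperty @IsOpenImmersion.{u} @Etale.{u} := by
  rw [MorphismProperty.hasOfPostcompProperty_iff_le_diagonal]
  intro X Y f hf
  haveI : Etale f := hf
  exact inferInstanceAs (IsOpenImmersion (pullback.diagonal f))

/-- a section of an étale morphism is an open immersion. -/
theorem isOpenImmersion_of_section {A B : Scheme.{u}} (ε : A ⟶ B) (s : B ⟶ A) [Etale s]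
    (h : ε ≫ s = 𝟙 A) : IsOpenImmersion ε := by
  have h1 : IsOpenImmersion (ε ≫ s) := by rw [h]; infer_instance
  exact MorphismProperty.of_postcomp (W := @IsOpenImmersion) (W' := @Etale) ε s inferInstance h1

/-- a map through a monomorphism with an étale chart on the source has open diagonal. -/
theorem isOpenImmersion_diagonal_of_mono {X Y : AlgSp.Sp S} (f : X ⟶ Y) [Mono f] {U V : Over S}
    (a : (yon S).obj U ⟶ X) (hae : AlgSp.RepWith @Etale a) (b : (yon S).obj V ⟶ Y) (h : U ⟶ V)
    (hcomm : a ≫ f = (yon S).map h ≫ b) : IsOpenImmersion (pullback.diagonal h.left) := by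
  let R : Over S := hae.rep.pullback a
  let t : R ⟶ U := hae.rep.fst' a
  let s : R ⟶ U := hae.rep.snd a
  have hk : IsPullback ((yon S).map t) ((yon S).map s) a a := hae.rep.isPullback' a
  haveI : Etale s.left := hae.2 a _ s hk
  let P : Over S := Over.mk (pullback.fst h.left h.left ≫ U.hom)
  let p1 : P ⟶ U := Over.homMk (pullback.fst _ _) rfl
  have hp2 : pullback.snd h.left h.left ≫ U.hom = pullback.fst h.left h.left ≫ U.hom := by
    calc pullback.snd h.left h.left ≫ U.hom
        = (pullback.snd h.left h.left ≫ h.left) ≫ V.hom := by rw [Category.assoc, Over.w h]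
      _ = (pullback.fst h.left h.left ≫ h.left) ≫ V.hom := by rw [pullback.condition]
      _ = pullback.fst h.left h.left ≫ U.hom := by rw [Category.assoc, Over.w h]
  let p2 : P ⟶ U := Over.homMk (pullback.snd _ _) hp2
  have hp : p1 ≫ h = p2 ≫ h := by
    ext
    exact pullback.condition
  have hcond : (yon S).map p1 ≫ a = (yon S).map p2 ≫ a := by
    rw [← cancel_mono f, Category.assoc, Category.assoc, hcomm, ← Category.assoc, ← Category.assoc,
      ← Functor.map_comp, ← Functor.map_comp, hp]
  obtain ⟨j, hj⟩ := (yon S).map_surjective (hk.lift _ _ hcond)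
  have hjt : j ≫ t = p1 := by
    apply (yon S).map_injective
    rw [Functor.map_comp, hj, hk.lift_fst]
  have hjs : j ≫ s = p2 := by
    apply (yon S).map_injective
    rw [Functor.map_comp, hj, hk.lift_snd]
  have hjt' : j.left ≫ t.left = pullback.fst h.left h.left := congrArg (fun m => m.left) hjt
  have hjs' : j.left ≫ s.left = pullback.snd h.left h.left := congrArg (fun m => m.left) hjs
  haveI : Mono j.left := by
    constructor
    intro Z x y hxy
    apply pullback.hom_ext
    · rw [← hjt', ← Category.assoc, hxy, Category.assoc]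
    · rw [← hjs', ← Category.assoc, hxy, Category.assoc]
  have hε : (pullback.diagonal h.left ≫ j.left) ≫ s.left = 𝟙 _ := by
    rw [Category.assoc, hjs', pullback.diagonal_snd]
  haveI : IsOpenImmersion (pullback.diagonal h.left ≫ j.left) :=
    isOpenImmersion_of_section _ s.left hε
  exact MorphismProperty.of_isPullback (P := @IsOpenImmersion)
    (Groth.Agent.Lib.Helper12.LargestOpen.isPullback_id_of_mono (pullback.diagonal h.left) j.left)
    inferInstance

theorem lqf_of_lft_of_diagonal {A B : Scheme.{u}} (g : A ⟶ B) [LocallyOfFiniteType g]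
    [IsOpenImmersion (pullback.diagonal g)] : LocallyQuasiFinite g := by
  haveI : FormallyUnramified g := inferInstance
  constructor
  intro U hU V hV e
  have h1 : (g.appLE U V e).hom.FiniteType :=
    HasRingHomProperty.appLE (P := @LocallyOfFiniteType) g inferInstance ⟨U, hU⟩ ⟨V, hV⟩ e
  have h2 : (g.appLE U V e).hom.FormallyUnramified :=
    HasRingHomProperty.appLE (P := @FormallyUnramified) g inferInstance ⟨U, hU⟩ ⟨V, hV⟩ e
  algebraize [(g.appLE U V e).hom]
  rw [← RingHom.algebraMap_toAlgebra (g.appLE U V e).hom, RingHom.quasiFinite_algebraMap]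
  infer_instance

/-- a monomorphism locally of finite type is locally quasi-finite. -/
theorem locP_lqf_of_mono {X Y : AlgSp.Sp S} (f : X ⟶ Y) [Mono f]
    (hf : AlgSp.LocP @LocallyOfFiniteType f) :
    AlgSp.LocP (@LocallyQuasiFinite ⊓ @LocallyOfFiniteType) f := by
  intro U V a b h hae hbe hcomm
  haveI : LocallyOfFiniteType h.left := hf a b h hae hbe hcomm
  haveI := isOpenImmersion_diagonal_of_mono f a hae b h hcomm
  exact ⟨lqf_of_lft_of_diagonal h.left, inferInstance⟩

/-- an algebraic space with a jointly monomorphic pair of maps to a scheme, one of them locally of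
finite type, is a scheme. -/
theorem exists_scheme_of_jointly_mono {K : AlgSp.Sp S} (hK : AlgSp.IsAlgSpace K) {U : Over S}
    (k1 k2 : K ⟶ (yon S).obj U)
    (hjm : ∀ {Z : AlgSp.Sp S} (x y : Z ⟶ K), x ≫ k1 = y ≫ k1 → x ≫ k2 = y ≫ k2 → x = y)
    (hlft : AlgSp.LocP @LocallyOfFiniteType k2) :
    ∃ (R : Over S) (e : (yon S).obj R ≅ K) (t s : R ⟶ U), e.hom ≫ k1 = (yon S).map t ∧
      e.hom ≫ k2 = (yon S).map s ∧ LocallyOfFiniteType s.left := by
  let m : K ⟶ (yon S).obj (U ⨯ U) := prod.lift k1 k2 ≫ inv (prodComparison (yon S) U U)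
  have hm1 : m ≫ (yon S).map prod.fst = k1 := by
    simp only [m, Category.assoc, inv_prodComparison_map_fst, prod.lift_fst]
  have hm2 : m ≫ (yon S).map prod.snd = k2 := by
    simp only [m, Category.assoc, inv_prodComparison_map_snd, prod.lift_snd]
  haveI : Mono m := by
    constructor
    intro Z x y hxy
    apply hjm
    · rw [← hm1, ← Category.assoc, hxy, Category.assoc]
    · rw [← hm2, ← Category.assoc, hxy, Category.assoc]
  have hsep : AlgSp.IsSeparatedMor m := Groth.Agent.Lib.Helper12.Proper.isSeparatedMor_of_mono m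
  have hlftm : AlgSp.LocP @LocallyOfFiniteType m := by
    intro U' V a b h hae hbe hcomm
    obtain ⟨b', rfl⟩ := (yon S).map_surjective b
    have h3 : LocallyOfFiniteType (h ≫ b' ≫ prod.snd).left :=
      hlft a (𝟙 _) (h ≫ b' ≫ prod.snd) hae (AlgSp.repWith_id _ U) (by
        rw [Category.comp_id, Functor.map_comp, Functor.map_comp, ← Category.assoc, ← hcomm,
          Category.assoc, hm2])
    haveI : LocallyOfFiniteType (h.left ≫ (b' ≫ prod.snd).left) := h3
    exact locallyOfFiniteType_of_comp h.left (b' ≫ prod.snd).left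
  have hqf := locP_lqf_of_mono m hlftm
  obtain ⟨R, w, e, he, -⟩ := exists_scheme_of_slq hK m hsep hqf
  refine ⟨R, e, w ≫ prod.fst, w ≫ prod.snd, ?_, ?_, ?_⟩
  · rw [Functor.map_comp, ← he, Category.assoc, hm1]
  · rw [Functor.map_comp, ← he, Category.assoc, hm2]
  · have hee : AlgSp.RepWith @Etale e.hom :=
      MorphismProperty.of_isIso (AlgSp.RepWith @Etale) e.hom
    exact hlft e.hom (𝟙 _) (w ≫ prod.snd) hee (AlgSp.repWith_id _ U) (by
      rw [Category.comp_id, Functor.map_comp, ← he, Category.assoc, hm2])

/-- **bootstrapping the diagonal**. -/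
theorem representable_diag_of_fppf_cover (F : AlgSp.Sp S) (X : AlgSp.Space S) (p : X.obj ⟶ F)
    (hp : AlgSp.RepBySpWith (AlgSp.IsSurjectiveMor ⊓ AlgSp.LocP @Flat ⊓
      AlgSp.LocP @LocallyOfFinitePresentation) p.hom) :
    AlgSp.Representable (Limits.diag F) := by
  obtain ⟨U, a, hae, has⟩ := X.property.atlas
  obtain ⟨q, hq⟩ : ∃ q : (yon S).obj U ⟶ F, q = a ≫ p := ⟨_, rfl⟩
  haveI : Epi a := Groth.Agent.Lib.H5bAtlasDesc.epi_of_atlas a hae has
  haveI : Epi p := Groth.Agent.S10096.result S X.obj F p hp
  haveI : Epi q := by rw [hq]; exact epi_comp a p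
  haveI : Sheaf.IsLocallySurjective q := (Sheaf.isLocallySurjective_iff_epi _).2 inferInstance
  have sqX := IsPullback.of_hasPullback p q
  obtain ⟨hXU, ⟨hsurj, hflat⟩, hlfp⟩ :=
    (AlgSp.repBySpWith_hom_iff _ p).1 hp q (pullback.fst p q) (pullback.snd p q) sqX
  have sqK := IsPullback.of_hasPullback a (pullback.fst p q)
  have hK : AlgSp.IsAlgSpace (pullback a (pullback.fst p q)) :=
    Groth.Agent.S9874.isAlgSpace_of_isPullback X.property.diag (AlgSp.IsAlgSpace.yon_obj U) hXU sqK
  have hkp : IsPullback (pullback.snd a (pullback.fst p q) ≫ pullback.snd p q)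
      (pullback.fst a (pullback.fst p q)) q (a ≫ p) := sqK.flip.paste_horiz sqX.flip
  rw [← hq] at hkp
  have hsnd : AlgSp.RepWith @Etale (pullback.snd a (pullback.fst p q)) :=
    MorphismProperty.of_isPullback (P := AlgSp.RepWith @Etale) sqK hae
  have hlft : AlgSp.LocP @LocallyOfFiniteType
      (pullback.snd a (pullback.fst p q) ≫ pullback.snd p q) :=
    Groth.Agent.Lib.Helper12.LocPCases.good_lft.locP_comp hXU (AlgSp.IsAlgSpace.yon_obj U) _ _
      (Groth.Agent.S9947.locP_of_repWith_etale @LocallyOfFiniteType
        (fun g hg => by haveI := hg; infer_instance) _ hsnd)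
      (Groth.Agent.Lib.Helper12.LargestOpen.locP_mono
        (fun _ _ g hg => by haveI : LocallyOfFinitePresentation g := hg; infer_instance) hlfp)
  obtain ⟨R, e, t, s, ht, hs, hlfts⟩ := exists_scheme_of_jointly_mono hK
    (pullback.fst a (pullback.fst p q)) (pullback.snd a (pullback.fst p q) ≫ pullback.snd p q)
    (fun x y h1 h2 => hkp.hom_ext h2 h1) hlft
  have hk : IsPullback ((yon S).map t) ((yon S).map s) q q := by
    rw [← hs, ← ht]
    exact IsPullback.of_iso hkp.flip e.symm (Iso.refl _) (Iso.refl _) (Iso.refl _) (by simp)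
      (by simp) (by simp) (by simp)
  haveI := hlfts
  exact Groth.Agent.Lib.H5bSpDesc.representable_diag_of_kernelPair q t s hk

end Groth.Agent.Lib.H5bBoot
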