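import Mathlib
import Groth.Prelude
import Groth.Agent.S13210
import Groth.Agent.S5075
import Groth.Agent.Lib.Helper2Thick
import Groth.Agent.Lib.Helper2FormalEt
import Groth.Agent.Lib.Helper12MonoFactor
import Groth.Agent.Lib.Helper12ZarGlue
import Groth.Agent.Lib.Helper15AlgSpInf
import Groth.Agent.Lib.Helper18UT4
import Groth.Agent.Lib.Helper8FOThick

/-!
# Infinitesimal lifting for fppf sheaves: base lemmas (helper5)

* `sqZero_baseChange`: square-zero thickenings of schemes are stable under base change;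
* `exists_lift_sqZero_affine`: lifting for a formally smooth morphism of sheaves along a
  square-zero closed immersion into an affine scheme;
* `eq_of_sqZero`: uniqueness of lifts for a formally unramified morphism of sheaves along a
  square-zero thickening of arbitrary schemes;
* `formallyEtale_of_repEtale`: representable étale morphisms of sheaves are formally étale;
* `exists_lift_of_cover`: descent of lifts along an fppf cover of the thick scheme.
-/

set_option autoImplicit false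
universe u
open CategoryTheory CategoryTheory.Limits AlgebraicGeometry Opposite TopologicalSpace

namespace Groth.Agent.Lib.H5bFormal

open Groth.Agent.S13210 Groth.Agent.Lib.Helper12.ZarGlue

variable {S : Scheme.{u}}

/-- square-zero thickenings are stable under base change. -/
theorem sqZero_baseChange {X X' Y Y' : Scheme.{u}} (iX : X ⟶ X') (iY : Y ⟶ Y') (f : X ⟶ Y)
    (f' : X' ⟶ Y') (hY : MoreMor.IsThickening iY) (hsq : iY.ker * iY.ker = ⊥)
    (hc : IsPullback iX f f' iY) : iX.ker * iX.ker = ⊥ := by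
  have hn : iY.ker ^ 2 = 0 := by
    rw [pow_two, hsq, Scheme.IdealSheafData.zero_eq_bot]
  have hY' : MoreMor.IsFiniteOrderThickening iY := ⟨hY, 2, hn⟩
  have : IsClosedImmersion iY := hY.1
  have : IsClosedImmersion iX :=
    MorphismProperty.of_isPullback (P := @IsClosedImmersion) hc.flip hY.1
  suffices h : iX.ker ^ 2 = ⊥ by rwa [pow_two] at h
  rw [eq_bot_iff]
  let ι := {V' : X'.affineOpens // ∃ U' : Y'.affineOpens, V'.1 ≤ f' ⁻¹ᵁ U'.1}
  refine Scheme.IdealSheafData.le_of_iSup_eq_top (ι := ι) (fun i => i.1) ?_ ?_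
  · rw [eq_top_iff]
    intro x _
    obtain ⟨_, ⟨U, hU, rfl⟩, hxU, -⟩ :=
      Y'.isBasis_affineOpens.exists_subset_of_mem_open (Set.mem_univ (f' x)) isOpen_univ
    obtain ⟨_, ⟨V, hV, rfl⟩, hxV, hVU : V ≤ f' ⁻¹ᵁ U⟩ :=
      X'.isBasis_affineOpens.exists_subset_of_mem_open hxU (f' ⁻¹ᵁ U).isOpen
    exact Opens.mem_iSup.mpr ⟨⟨⟨V, hV⟩, ⟨U, hU⟩, hVU⟩, hxV⟩
  · rintro ⟨⟨V', hV'⟩, ⟨U', hU'⟩, e⟩
    obtain ⟨hUT, hUY, hπ, -, hpo⟩ :=
      Groth.Agent.Lib.Helper2.Thick.fthick_data iX iY f f' hY' hc U' hU' V' hV' e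
    have hker := Groth.Agent.Lib.Helper2.Thick.ker_le_map hpo hπ
    have hn' : RingHom.ker (iY.appLE U' (iY ⁻¹ᵁ U') le_rfl).hom ^ 2 = ⊥ := by
      have := congr(($hn).ideal ⟨U', hU'⟩)
      rw [← Scheme.Hom.app_eq_appLE]
      simpa using this
    show (iX.ker ^ 2).ideal ⟨V', hV'⟩ ≤ (⊥ : X'.IdealSheafData).ideal ⟨V', hV'⟩
    rw [Scheme.IdealSheafData.ideal_pow, Scheme.IdealSheafData.ideal_bot, Pi.pow_apply,
      Scheme.Hom.ker_apply]
    have h1 : RingHom.ker (iX.app V').hom ≤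
        (RingHom.ker (iY.appLE U' (iY ⁻¹ᵁ U') le_rfl).hom).map (f'.appLE U' V' e).hom := by
      intro x hx
      apply hker
      rw [RingHom.mem_ker] at hx ⊢
      rw [Scheme.Hom.appLE, CommRingCat.hom_comp, RingHom.comp_apply, hx, map_zero]
    calc RingHom.ker (iX.app V').hom ^ 2
        ≤ ((RingHom.ker (iY.appLE U' (iY ⁻¹ᵁ U') le_rfl).hom).map (f'.appLE U' V' e).hom) ^ 2 :=
          Ideal.pow_right_mono h1 2
      _ = ⊥ := by rw [← Ideal.map_pow, hn', Ideal.map_bot]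
      _ ≤ _ := le_rfl

/-- `Spec (A/I) ⟶ Spec A` is a first order thickening when `I ^ 2 = 0`. -/
theorem isFirstOrderThickening_j {F G : AlgSp.Sp S} {f : F ⟶ G} (sq : AlgSp.InfSq f) :
    MoreMor.IsFirstOrderThickening sq.j.left :=
  Groth.Agent.Helper18UT.isFirstOrderThickening_SpecMap
    (CommRingCat.ofHom (Ideal.Quotient.mk sq.I)) Ideal.Quotient.mk_surjective
    (by
      have : RingHom.ker (CommRingCat.ofHom (Ideal.Quotient.mk sq.I)).hom = sq.I := Ideal.mk_ker
      rw [this]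
      exact sq.sq_zero)

/-- existence of lifts along a closed immersion into an affine scheme with square zero ideal. -/
theorem exists_lift_sqZero_affine {F G : AlgSp.Sp S} (f : F ⟶ G)
    (hf : AlgSp.IsFormallySmoothMor f)
    {V V₀ : Over S} [IsAffine V.left] (i : V₀ ⟶ V) [IsClosedImmersion i.left]
    (hi : i.left.ker * i.left.ker = ⊥)
    (top : (AlgSp.yon S).obj V₀ ⟶ F) (bot : (AlgSp.yon S).obj V ⟶ G)
    (w : top ≫ f = (AlgSp.yon S).map i ≫ bot) :
    ∃ l : (AlgSp.yon S).obj V ⟶ F, (AlgSp.yon S).map i ≫ l = top ∧ l ≫ f = bot := by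
  obtain ⟨hV₀, hsurj⟩ := IsClosedImmersion.isAffine_surjective_of_isAffine i.left
  haveI := hV₀
  let φ : Γ(V.left, ⊤) →+* Γ(V₀.left, ⊤) := i.left.appTop.hom
  have hsurj' : Function.Surjective φ := hsurj
  let I : Ideal Γ(V.left, ⊤) := RingHom.ker φ
  have hI : I ^ 2 = ⊥ := by
    have h0 : (i.left.ker * i.left.ker).ideal ⟨⊤, isAffineOpen_top V.left⟩ =
        (⊥ : V.left.IdealSheafData).ideal ⟨⊤, isAffineOpen_top V.left⟩ := by rw [hi]
    rw [Scheme.IdealSheafData.ideal_mul, Scheme.IdealSheafData.ideal_bot, Pi.mul_apply,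
      Pi.bot_apply, Scheme.Hom.ker_apply] at h0
    rw [pow_two]
    exact h0
  let ψe : Γ(V₀.left, ⊤) ≃+* Γ(V.left, ⊤) ⧸ I :=
    (RingHom.quotientKerEquivOfSurjective hsurj').symm
  let ψ : Γ(V₀.left, ⊤) →+* Γ(V.left, ⊤) ⧸ I := ψe.toRingHom
  have hψ : ψ.comp φ = Ideal.Quotient.mk I := RingHom.quotientKerEquivOfSurjective_symm_comp hsurj'
  let str : Spec (CommRingCat.of Γ(V.left, ⊤)) ⟶ S := V.left.isoSpec.inv ≫ V.hom
  let eO : Over.mk str ≅ V := Over.isoMk V.left.isoSpec.symm rfl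
  let k : Spec (CommRingCat.of (Γ(V.left, ⊤) ⧸ I)) ⟶ V₀.left :=
    Spec.map (CommRingCat.ofHom ψ) ≫ V₀.left.isoSpec.inv
  have hcomp : i.left.appTop ≫ CommRingCat.ofHom ψ = CommRingCat.ofHom (Ideal.Quotient.mk I) := by
    apply CommRingCat.hom_ext
    exact hψ
  have hk : k ≫ i.left =
      Spec.map (CommRingCat.ofHom (Ideal.Quotient.mk I)) ≫ V.left.isoSpec.inv := by
    calc k ≫ i.left = Spec.map (CommRingCat.ofHom ψ) ≫ (V₀.left.isoSpec.inv ≫ i.left) :=
          Category.assoc _ _ _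
      _ = Spec.map (CommRingCat.ofHom ψ) ≫ (Spec.map i.left.appTop ≫ V.left.isoSpec.inv) := by
          rw [Scheme.isoSpec_inv_naturality]
      _ = Spec.map (i.left.appTop ≫ CommRingCat.ofHom ψ) ≫ V.left.isoSpec.inv := by
          rw [Spec.map_comp, Category.assoc]
      _ = _ := by rw [hcomp]
  have hk' : k ≫ V₀.hom = Spec.map (CommRingCat.ofHom (Ideal.Quotient.mk I)) ≫ str := by
    rw [← Over.w i, ← Category.assoc, hk, Category.assoc]
  let J : Over.mk (Spec.map (CommRingCat.ofHom (Ideal.Quotient.mk I)) ≫ str) ⟶ Over.mk str :=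
    Over.homMk (Spec.map (CommRingCat.ofHom (Ideal.Quotient.mk I))) rfl
  let K : Over.mk (Spec.map (CommRingCat.ofHom (Ideal.Quotient.mk I)) ≫ str) ⟶ V₀ :=
    Over.homMk k hk'
  have hji : J ≫ eO.hom = K ≫ i := by
    apply Over.OverMorphism.ext
    exact hk.symm
  haveI : IsIso (CommRingCat.ofHom ψ) := (RingEquiv.toCommRingCatIso ψe).isIso_hom
  haveI : IsIso k := by
    dsimp only [k]
    infer_instance
  haveI : IsIso K := by
    haveI : IsIso ((Over.forget S).map K) := (inferInstance : IsIso k)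
    exact isIso_of_reflects_iso K (Over.forget S)
  have e1 : ∀ {P : AlgSp.Sp S} (m : (AlgSp.yon S).obj V ⟶ P),
      (AlgSp.yon S).map J ≫ (AlgSp.yon S).map eO.hom ≫ m =
        (AlgSp.yon S).map K ≫ (AlgSp.yon S).map i ≫ m := fun {P} m =>
    calc (AlgSp.yon S).map J ≫ (AlgSp.yon S).map eO.hom ≫ m
        = (AlgSp.yon S).map (J ≫ eO.hom) ≫ m :=
          ((AlgSp.yon S).map_comp_assoc J eO.hom m).symm
      _ = (AlgSp.yon S).map (K ≫ i) ≫ m :=
          congrArg (fun t => (AlgSp.yon S).map t ≫ m) hji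
      _ = _ := (AlgSp.yon S).map_comp_assoc K i m
  have e2 : ∀ {P : AlgSp.Sp S} (m : (AlgSp.yon S).obj (Over.mk str) ⟶ P),
      (AlgSp.yon S).map eO.hom ≫ (AlgSp.yon S).map eO.inv ≫ m = m := fun {P} m =>
    calc (AlgSp.yon S).map eO.hom ≫ (AlgSp.yon S).map eO.inv ≫ m
        = (AlgSp.yon S).map (eO.hom ≫ eO.inv) ≫ m :=
          ((AlgSp.yon S).map_comp_assoc eO.hom eO.inv m).symm
      _ = (AlgSp.yon S).map (𝟙 _) ≫ m := by rw [eO.hom_inv_id]
      _ = m := by rw [CategoryTheory.Functor.map_id, Category.id_comp]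
  have e3 : ∀ {P : AlgSp.Sp S} (m : (AlgSp.yon S).obj V ⟶ P),
      (AlgSp.yon S).map eO.inv ≫ (AlgSp.yon S).map eO.hom ≫ m = m := fun {P} m =>
    calc (AlgSp.yon S).map eO.inv ≫ (AlgSp.yon S).map eO.hom ≫ m
        = (AlgSp.yon S).map (eO.inv ≫ eO.hom) ≫ m :=
          ((AlgSp.yon S).map_comp_assoc eO.inv eO.hom m).symm
      _ = (AlgSp.yon S).map (𝟙 _) ≫ m := by rw [eO.inv_hom_id]
      _ = m := by rw [CategoryTheory.Functor.map_id, Category.id_comp]
  let sq : AlgSp.InfSq f :=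
    { A := Γ(V.left, ⊤), I := I, sq_zero := hI, str := str,
      top := (AlgSp.yon S).map K ≫ top
      bot := (AlgSp.yon S).map eO.hom ≫ bot
      comm := ((Category.assoc _ _ _).trans
        (congrArg (fun t => (AlgSp.yon S).map K ≫ t) w)).trans (e1 bot).symm }
  obtain ⟨l', h1, h2⟩ := hf sq
  have h1' : (AlgSp.yon S).map J ≫ l' = (AlgSp.yon S).map K ≫ top := h1
  have h2' : l' ≫ f = (AlgSp.yon S).map eO.hom ≫ bot := h2
  refine ⟨(AlgSp.yon S).map eO.inv ≫ l', ?_, ?_⟩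
  · apply (cancel_epi ((AlgSp.yon S).map K)).1
    exact ((e1 ((AlgSp.yon S).map eO.inv ≫ l')).symm.trans
      (congrArg (fun t => (AlgSp.yon S).map J ≫ t) (e2 l'))).trans h1'
  · exact ((Category.assoc _ _ _).trans
      (congrArg (fun t => (AlgSp.yon S).map eO.inv ≫ t) h2')).trans (e3 bot)

/-- uniqueness of lifts for a formally unramified morphism along a square-zero thickening of
arbitrary schemes. -/
theorem eq_of_sqZero {F G : AlgSp.Sp S} (f : F ⟶ G) (hf : AlgSp.IsFormallyUnramifiedMor f)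
    {Z Z₀ : Over S} (i : Z₀ ⟶ Z) (hth : MoreMor.IsThickening i.left)
    (hi : i.left.ker * i.left.ker = ⊥)
    (m m' : (AlgSp.yon S).obj Z ⟶ F)
    (h1 : (AlgSp.yon S).map i ≫ m = (AlgSp.yon S).map i ≫ m') (h2 : m ≫ f = m' ≫ f) :
    m = m' := by
  haveI : IsClosedImmersion i.left := hth.1
  have hO : ∀ w : Z.left, ∃ k : Z.left.affineOpens, w ∈ (k.1 : Z.left.Opens) := by
    intro w
    obtain ⟨U, hU, hwU, -⟩ :=
      exists_isAffineOpen_mem_and_subset (X := Z.left) (x := w) (U := ⊤) trivial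
    exact ⟨⟨U, hU⟩, hwU⟩
  apply Groth.Agent.Lib.Helper8FOThick.hom_ext_of_ofArrows_mem _ _
    (Groth.Agent.Lib.Helper12.MonoFactor.ofArrows_opens_mem
      (fun k : Z.left.affineOpens => (k.1 : Z.left.Opens)) hO)
  intro k
  let ιk : Over.mk (k.1.ι ≫ Z.hom) ⟶ Z := Over.homMk k.1.ι rfl
  let Z₀k : Over S := Over.mk ((i.left ⁻¹ᵁ k.1).ι ≫ Z₀.hom)
  let ι₀k : Z₀k ⟶ Z₀ := Over.homMk (i.left ⁻¹ᵁ k.1).ι rfl
  let ik : Z₀k ⟶ Over.mk (k.1.ι ≫ Z.hom) := Over.homMk (i.left ∣_ k.1) (by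
    show (i.left ∣_ k.1) ≫ k.1.ι ≫ Z.hom = (i.left ⁻¹ᵁ k.1).ι ≫ Z₀.hom
    rw [← Category.assoc, morphismRestrict_ι, Category.assoc, Over.w i])
  have hcomm : ik ≫ ιk = ι₀k ≫ i := by
    apply Over.OverMorphism.ext
    exact morphismRestrict_ι i.left k.1
  haveI : IsAffine (Over.mk (k.1.ι ≫ Z.hom)).left := k.2
  haveI : IsClosedImmersion ik.left :=
    MorphismProperty.of_isPullback (P := @IsClosedImmersion)
      (isPullback_morphismRestrict i.left k.1).flip hth.1
  have hsq : ik.left.ker * ik.left.ker = ⊥ :=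
    sqZero_baseChange (i.left ∣_ k.1) i.left (i.left ⁻¹ᵁ k.1).ι k.1.ι hth hi
      (isPullback_morphismRestrict i.left k.1)
  apply Groth.Agent.Lib.Helper8FOThick.eq_of_sqZero_affine f hf ik hsq
  · rw [← Category.assoc, ← Category.assoc, ← Functor.map_comp, hcomm, Functor.map_comp,
      Category.assoc, Category.assoc, h1]
  · rw [Category.assoc, Category.assoc, h2]

/-- a representable étale morphism of fppf sheaves is formally étale. -/
theorem formallyEtale_of_repEtale {F G : AlgSp.Sp S} (a : F ⟶ G) (ha : AlgSp.RepWith @Etale a) :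
    AlgSp.IsFormallyEtaleMor a := by
  intro sq
  obtain ⟨W, snd, fst, hsq⟩ := ha.1 sq.bot
  haveI : Etale snd.left := ha.2 sq.bot fst snd hsq
  obtain ⟨σ₀, hσ₀⟩ :=
    (AlgSp.yon S).map_surjective (hsq.lift sq.top ((AlgSp.yon S).map sq.j) sq.comm)
  have hσ1 : (AlgSp.yon S).map σ₀ ≫ fst = sq.top := by
    rw [hσ₀]
    exact hsq.lift_fst _ _ _
  have hσ2 : σ₀ ≫ snd = sq.j := by
    apply (AlgSp.yon S).map_injective
    rw [Functor.map_comp, hσ₀]
    exact hsq.lift_snd _ _ _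
  have hσ2' : σ₀.left ≫ snd.left = sq.j.left ≫ 𝟙 _ := by
    rw [Category.comp_id, ← Over.comp_left, hσ2]
  obtain ⟨⟨hci, hsj⟩, -⟩ := isFirstOrderThickening_j sq
  haveI := hci
  haveI := hsj
  obtain ⟨l₀, ⟨hl1, hl2⟩, hlu⟩ :=
    Groth.Agent.S5075.result snd.left (𝟙 sq.ptT'.left) sq.j.left σ₀.left hσ2'
  let l₀' : sq.ptT' ⟶ W := Over.homMk l₀ (by
    rw [← Over.w snd, ← Category.assoc, hl1, Category.id_comp])
  have e1 : sq.j ≫ l₀' = σ₀ := Over.OverMorphism.ext hl2
  have e2 : l₀' ≫ snd = 𝟙 _ := Over.OverMorphism.ext hl1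
  refine ⟨(AlgSp.yon S).map l₀' ≫ fst, ⟨?_, ?_⟩, ?_⟩
  · rw [← Category.assoc, ← Functor.map_comp, e1, hσ1]
  · rw [Category.assoc, hsq.w, ← Category.assoc, ← Functor.map_comp, e2,
      CategoryTheory.Functor.map_id, Category.id_comp]
  · rintro l' ⟨h1, h2⟩
    obtain ⟨m₀, hm₀⟩ := (AlgSp.yon S).map_surjective
      (hsq.lift l' (𝟙 _) (by rw [h2, Category.id_comp]))
    have hm1 : (AlgSp.yon S).map m₀ ≫ fst = l' := by
      rw [hm₀]
      exact hsq.lift_fst _ _ _
    have hm2 : m₀ ≫ snd = 𝟙 _ := by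
      apply (AlgSp.yon S).map_injective
      rw [Functor.map_comp, hm₀, CategoryTheory.Functor.map_id]
      exact hsq.lift_snd _ _ _
    have hm3 : sq.j ≫ m₀ = σ₀ := by
      apply (AlgSp.yon S).map_injective
      rw [Functor.map_comp]
      apply hsq.hom_ext
      · rw [Category.assoc, hm1, h1, hσ1]
      · rw [Category.assoc, ← Functor.map_comp, hm2, CategoryTheory.Functor.map_id,
          Category.comp_id, ← Functor.map_comp, hσ2]
    have hm4 : m₀.left = l₀ := hlu m₀.left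
      ⟨by rw [← Over.comp_left, hm2]; rfl, by rw [← Over.comp_left, hm3]⟩
    have hm5 : m₀ = l₀' := Over.OverMorphism.ext hm4
    rw [← hm1, hm5]

end Groth.Agent.Lib.H5bFormal
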