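import Mathlib
import Groth.Prelude
import Groth.Agent.S9436
import Groth.Agent.Lib.H5bFormalBase
import Groth.Agent.Lib.Helper9QuotSh

/-!
# Infinitesimal lifting for fppf sheaves: descent along étale covers (helper5)

* `exists_lift_of_cover`: lifts for a formally unramified morphism glue along an fppf cover of the
  thick scheme;
* `exists_etale_lift_nbhd`, `exists_cover_lift`: étale covers of `Spec (A/I)` lift, locally, to
  étale affine schemes over `Spec A`;
* `formallyUnramified_of_cover`, `formallySmooth_of_cover`: formal unramifiedness / smoothness of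
  `g` can be tested after precomposing with a representable étale surjective `a`.
-/

set_option autoImplicit false
universe u
open CategoryTheory CategoryTheory.Limits AlgebraicGeometry Opposite TopologicalSpace

namespace Groth.Agent.Lib.H5bFormal

open Groth.Agent.S13210 Groth.Agent.Lib.Helper12.ZarGlue Groth.Agent.Lib.Helper8FOThick

variable {S : Scheme.{u}}

/-- lifts for a formally unramified morphism glue along an fppf cover of the thick scheme. -/
theorem exists_lift_of_cover {F G : AlgSp.Sp S} (f : F ⟶ G)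
    (hf : AlgSp.IsFormallyUnramifiedMor f)
    {T T' : Over S} (j : T ⟶ T') (hth : MoreMor.IsThickening j.left)
    (hj : j.left.ker * j.left.ker = ⊥)
    (top : (AlgSp.yon S).obj T ⟶ F) (bot : (AlgSp.yon S).obj T' ⟶ G)
    {ι : Type u} (W W₀ : ι → Over S) (c : ∀ m, W m ⟶ T') (k : ∀ m, W₀ m ⟶ W m)
    (r : ∀ m, W₀ m ⟶ T)
    (hsq : ∀ m, IsPullback (k m).left (r m).left (c m).left j.left)
    (hc : ∀ m, Flat (c m).left ∧ LocallyOfFinitePresentation (c m).left)
    (hsurj : ∀ x : T'.left, ∃ m, x ∈ Set.range (c m).left)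
    (l : ∀ m, (AlgSp.yon S).obj (W m) ⟶ F)
    (hl1 : ∀ m, (AlgSp.yon S).map (k m) ≫ l m = (AlgSp.yon S).map (r m) ≫ top)
    (hl2 : ∀ m, l m ≫ f = (AlgSp.yon S).map (c m) ≫ bot) :
    ∃ L : (AlgSp.yon S).obj T' ⟶ F, (AlgSp.yon S).map j ≫ L = top ∧ L ≫ f = bot := by
  have hmem : Sieve.ofArrows W c ∈ AlgSp.J S T' := by
    rw [GrothendieckTopology.mem_over_iff, Sieve.overEquiv_ofArrows]
    apply Precoverage.generate_mem_toGrothendieck
    exact (Scheme.ofArrows_mem_precoverage_iff
      (fun {A B : Scheme.{u}} (m : A ⟶ B) => Flat m ∧ LocallyOfFinitePresentation m)).2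
      ⟨hsurj, hc⟩
  have hmemT : Sieve.ofArrows W₀ r ∈ AlgSp.J S T := by
    rw [GrothendieckTopology.mem_over_iff, Sieve.overEquiv_ofArrows]
    apply Precoverage.generate_mem_toGrothendieck
    refine (Scheme.ofArrows_mem_precoverage_iff
      (fun {A B : Scheme.{u}} (m : A ⟶ B) => Flat m ∧ LocallyOfFinitePresentation m)).2
      ⟨fun x => ?_, fun m => ?_⟩
    · obtain ⟨m, y, hy⟩ := hsurj (j.left x)
      obtain ⟨z, hz1, hz2⟩ := Scheme.Pullback.exists_preimage_pullback (f := (c m).left)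
        (g := j.left) y x hy
      refine ⟨m, (hsq m).isoPullback.inv z, ?_⟩
      rw [← Scheme.Hom.comp_apply, (hsq m).isoPullback_inv_snd]
      exact hz2
    · haveI := (hc m).1
      haveI := (hc m).2
      exact ⟨MorphismProperty.of_isPullback (P := @Flat) (hsq m) inferInstance,
        MorphismProperty.of_isPullback (P := @LocallyOfFinitePresentation) (hsq m) inferInstance⟩
  -- compatibility of the local lifts
  have key : ∀ (m m' : ι) (Z : Over S) (g : Z ⟶ W m) (g' : Z ⟶ W m'), g ≫ c m = g' ≫ c m' →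
      (AlgSp.yon S).map g ≫ l m = (AlgSp.yon S).map g' ≫ l m' := by
    intro m m' Z g g' hg
    let p : Z.left ⟶ T'.left := (g ≫ c m).left
    have hpb := IsPullback.of_hasPullback p j.left
    let Z₀ : Over S := Over.mk (pullback.fst p j.left ≫ Z.hom)
    let i : Z₀ ⟶ Z := Over.homMk (pullback.fst p j.left) rfl
    have hZT : pullback.snd p j.left ≫ T.hom = Z₀.hom := by
      show _ = pullback.fst p j.left ≫ Z.hom
      rw [← Over.w j, ← Category.assoc, ← pullback.condition, Category.assoc]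
      congr 1
      exact Over.w (g ≫ c m)
    let s : Z₀ ⟶ T := Over.homMk (pullback.snd p j.left) hZT
    have hth' : MoreMor.IsThickening i.left :=
      ⟨MorphismProperty.of_isPullback (P := @IsClosedImmersion) hpb.flip hth.1,
        MorphismProperty.of_isPullback (P := @Surjective) hpb.flip hth.2⟩
    have hi' : i.left.ker * i.left.ker = ⊥ :=
      sqZero_baseChange (pullback.fst p j.left) j.left (pullback.snd p j.left) p hth hj hpb
    have fact : ∀ (n : ι) (gn : Z ⟶ W n), (gn ≫ c n).left = p →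
        (AlgSp.yon S).map i ≫ (AlgSp.yon S).map gn ≫ l n = (AlgSp.yon S).map s ≫ top := by
      intro n gn hp
      have hcond : (i ≫ gn).left ≫ (c n).left = pullback.snd p j.left ≫ j.left := by
        have e0 : (i ≫ gn).left ≫ (c n).left = pullback.fst p j.left ≫ (gn ≫ c n).left :=
          Category.assoc _ _ _
        rw [e0, hp]
        exact pullback.condition
      have ht1 : (hsq n).lift (i ≫ gn).left (pullback.snd p j.left) hcond ≫ (k n).left =
          (i ≫ gn).left := (hsq n).lift_fst _ _ _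
      have ht2 : (hsq n).lift (i ≫ gn).left (pullback.snd p j.left) hcond ≫ (r n).left =
          pullback.snd p j.left := (hsq n).lift_snd _ _ _
      let t' : Z₀ ⟶ W₀ n := Over.homMk
        ((hsq n).lift (i ≫ gn).left (pullback.snd p j.left) hcond) (by
          rw [← Over.w (r n), ← Category.assoc, ht2]
          exact hZT)
      have e1 : t' ≫ k n = i ≫ gn := Over.OverMorphism.ext ht1
      have e2 : t' ≫ r n = s := Over.OverMorphism.ext ht2
      rw [← Category.assoc, ← Functor.map_comp, ← e1, Functor.map_comp, Category.assoc, hl1,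
        ← Category.assoc, ← Functor.map_comp, e2]
    apply eq_of_sqZero f hf i hth' hi'
    · rw [fact m g rfl, fact m' g' (by rw [← hg])]
    · rw [Category.assoc, Category.assoc, hl2, hl2, ← Category.assoc, ← Category.assoc,
        ← Functor.map_comp, ← Functor.map_comp, hg]
  have hshF : Presieve.IsSheaf (AlgSp.J S) F.obj := (isSheaf_iff_isSheaf_of_type _ _).1 F.property
  have h1 := hshF.isSheafFor _ hmem
  rw [Presieve.isSheafFor_arrows_iff] at h1
  obtain ⟨t, ht, -⟩ := h1 (fun m => yEquiv _ F (l m)) (by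
    intro m m' Z g g' hg
    rw [map_yEquiv, map_yEquiv]
    congr 1
    exact key m m' Z g g' hg)
  have hL : ∀ m, (AlgSp.yon S).map (c m) ≫ (yEquiv _ F).symm t = l m := by
    intro m
    apply (yEquiv _ F).injective
    rw [← map_yEquiv, Equiv.apply_symm_apply]
    exact ht m
  refine ⟨(yEquiv _ F).symm t, ?_, ?_⟩
  · apply hom_ext_of_ofArrows_mem W₀ r hmemT
    intro m
    have e : r m ≫ j = k m ≫ c m := Over.OverMorphism.ext (hsq m).w.symm
    rw [← Category.assoc, ← Functor.map_comp, e, Functor.map_comp, Category.assoc, hL, hl1]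
  · apply hom_ext_of_ofArrows_mem W c hmem
    intro m
    rw [← Category.assoc, hL, hl2]

open TensorProduct in
/-- an étale scheme over `Spec (A/I)` lifts, locally, to an étale affine scheme over `Spec A`. -/
theorem exists_etale_lift_nbhd (A : Type u) [CommRing A] (I : Ideal A) {E : Scheme.{u}}
    (e : E ⟶ Spec (CommRingCat.of (A ⧸ I))) [Etale e] (x : E) :
    ∃ (W W₀ : Scheme.{u}) (c : W ⟶ Spec (CommRingCat.of A)) (k : W₀ ⟶ W) (r : W₀ ⟶ E),
      IsAffine W ∧ Etale c ∧
      IsPullback k (r ≫ e) c (Spec.map (CommRingCat.ofHom (Ideal.Quotient.mk I))) ∧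
      x ∈ Set.range r := by
  obtain ⟨U, hU, hxU, -⟩ :=
    exists_isAffineOpen_mem_and_subset (X := E) (x := x) (U := ⊤) trivial
  let θ : CommRingCat.of (A ⧸ I) ⟶ Γ(E, U) :=
    (Scheme.ΓSpecIso (CommRingCat.of (A ⧸ I))).inv ≫ e.appLE ⊤ U le_top
  have hfac : Spec.map θ = hU.fromSpec ≫ e := by
    have h1 := IsAffineOpen.SpecMap_appLE_fromSpec e
      (isAffineOpen_top (Spec (CommRingCat.of (A ⧸ I)))) hU le_top
    rw [← h1, IsAffineOpen.fromSpec_top, Scheme.isoSpec_Spec_inv, ← Spec.map_comp]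
  have hθe : Etale (Spec.map θ) := by
    rw [hfac]
    infer_instance
  have hθ : θ.hom.Etale := (HasRingHomProperty.Spec_iff (P := @Etale)).1 hθe
  algebraize [θ.hom]
  obtain ⟨C, _, _, hC, ⟨ε⟩⟩ := Groth.Agent.S9436.result A I Γ(E, U)
  let c : Spec (CommRingCat.of C) ⟶ Spec (CommRingCat.of A) :=
    Spec.map (CommRingCat.ofHom (algebraMap A C))
  have hc : Etale c :=
    (HasRingHomProperty.Spec_iff (P := @Etale)).2 (RingHom.etale_algebraMap.2 hC)
  let r : pullback (Spec.map (CommRingCat.ofHom (algebraMap A (A ⧸ I))))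
      (Spec.map (CommRingCat.ofHom (algebraMap A C))) ⟶ E :=
    (pullbackSpecIso A (A ⧸ I) C).hom ≫ Spec.map (CommRingCat.ofHom ε.symm.toRingHom) ≫
      hU.fromSpec
  have hre : r ≫ e = pullback.fst _ _ := by
    have h2 : θ ≫ CommRingCat.ofHom ε.symm.toRingHom =
        CommRingCat.ofHom (algebraMap (A ⧸ I) ((A ⧸ I) ⊗[A] C)) := by
      apply CommRingCat.hom_ext
      ext y
      exact ε.symm.commutes y
    calc r ≫ e = (pullbackSpecIso A (A ⧸ I) C).hom ≫
          Spec.map (CommRingCat.ofHom ε.symm.toRingHom) ≫ hU.fromSpec ≫ e := by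
          simp only [r, Category.assoc]
      _ = (pullbackSpecIso A (A ⧸ I) C).hom ≫
          Spec.map (θ ≫ CommRingCat.ofHom ε.symm.toRingHom) := by
          rw [← hfac, ← Spec.map_comp]
      _ = _ := by rw [h2, pullbackSpecIso_hom_fst']
  refine ⟨Spec (CommRingCat.of C), _, c, pullback.snd _ _, r, inferInstance, hc, ?_, ?_⟩
  · rw [hre]
    exact (IsPullback.of_hasPullback _ _).flip
  · have h3 : Set.range r = Set.range hU.fromSpec := by
      have e1 : r = ((pullbackSpecIso A (A ⧸ I) C).hom ≫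
          Spec.map (CommRingCat.ofHom ε.symm.toRingHom)) ≫ hU.fromSpec := by
        simp only [r, Category.assoc]
      haveI : IsIso (CommRingCat.ofHom ε.symm.toRingHom) :=
        (RingEquiv.toCommRingCatIso ε.symm.toRingEquiv).isIso_hom
      rw [e1, Scheme.Hom.comp_base, TopCat.coe_comp, Set.range_comp]
      have hs : Function.Surjective ((pullbackSpecIso A (A ⧸ I) C).hom ≫
          Spec.map (CommRingCat.ofHom ε.symm.toRingHom)) :=
        (Scheme.Hom.surjective _)
      rw [hs.range_eq, Set.image_univ]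
    rw [h3, hU.range_fromSpec]
    exact hxU

/-- an étale cover of the thin scheme of a lifting square lifts, locally, to étale affine schemes
over the thick scheme. -/
theorem exists_cover_lift {F G : AlgSp.Sp S} {f : F ⟶ G} (sq : AlgSp.InfSq f)
    (E : Over S) (e : E ⟶ sq.ptT) (he : Etale e.left) (hes : Surjective e.left) :
    ∃ (W W₀ : E.left → Over S) (c : ∀ m, W m ⟶ sq.ptT') (k : ∀ m, W₀ m ⟶ W m)
      (r : ∀ m, W₀ m ⟶ E),
      (∀ m, IsAffine (W m).left) ∧ (∀ m, Etale (c m).left) ∧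
      (∀ m, IsPullback (k m).left (r m ≫ e).left (c m).left sq.j.left) ∧
      (∀ x : sq.ptT'.left, ∃ m, x ∈ Set.range (c m).left) := by
  haveI := he
  have hex := fun x : E.left => exists_etale_lift_nbhd sq.A sq.I e.left x
  choose W W₀ c k r hW hc hpb hx using hex
  have hw : ∀ x, r x ≫ E.hom = k x ≫ c x ≫ sq.str := by
    intro x
    rw [← Over.w e, ← Category.assoc, ← Category.assoc (k x), (hpb x).w, Category.assoc]
    rfl
  refine ⟨fun x => Over.mk (c x ≫ sq.str), fun x => Over.mk (k x ≫ c x ≫ sq.str),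
    fun x => Over.homMk (c x) rfl, fun x => Over.homMk (k x) rfl,
    fun x => Over.homMk (r x) (hw x), hW, hc, hpb, ?_⟩
  intro x'
  obtain ⟨y, hy⟩ := (isFirstOrderThickening_j sq).1.2.surj x'
  obtain ⟨x, hx'⟩ := hes.surj y
  obtain ⟨w₀, hw₀⟩ := hx x
  refine ⟨x, (k x) w₀, ?_⟩
  show (c x) ((k x) w₀) = x'
  rw [← Scheme.Hom.comp_apply, (hpb x).w, Scheme.Hom.comp_apply, Scheme.Hom.comp_apply, hw₀, hx']
  exact hy

/-- formal unramifiedness of `g` can be tested after precomposition with a representable étale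
surjective `a`, on square-zero thickenings of arbitrary schemes. -/
theorem formallyUnramified_of_cover {F G H : AlgSp.Sp S} (a : F ⟶ G) (g : G ⟶ H)
    (ha : AlgSp.RepWith @Etale a) (ha' : AlgSp.RepWith @Surjective a)
    (hloc : ∀ {W W₀ : Over S} (k : W₀ ⟶ W), MoreMor.IsThickening k.left →
      k.left.ker * k.left.ker = ⊥ → ∀ (u₁ u₂ : (AlgSp.yon S).obj W ⟶ F),
      (AlgSp.yon S).map k ≫ u₁ = (AlgSp.yon S).map k ≫ u₂ → u₁ ≫ a ≫ g = u₂ ≫ a ≫ g → u₁ = u₂) :
    AlgSp.IsFormallyUnramifiedMor g := by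
  intro sq l l' h1 h2 h1' h2'
  obtain ⟨hthj, hsqj⟩ := isFirstOrderThickening_j sq
  obtain ⟨W, pW, uW, sW⟩ := ha.1 l
  obtain ⟨W', pW', uW', sW'⟩ := ha.1 l'
  obtain ⟨W₀, p₀, u₀, s₀⟩ := ha.1 sq.top
  haveI : Etale pW.left := ha.2 l uW pW sW
  haveI : Etale pW'.left := ha.2 l' uW' pW' sW'
  haveI : Surjective pW.left := ha'.2 l uW pW sW
  -- the comparison maps from `W₀`
  have hcmp : ∀ {V : Over S} (pV : V ⟶ sq.ptT') (uV : (AlgSp.yon S).obj V ⟶ F) (m : _)
      (_ : IsPullback uV ((AlgSp.yon S).map pV) a m) (_ : (AlgSp.yon S).map sq.j ≫ m = sq.top),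
      ∃ k : W₀ ⟶ V, (AlgSp.yon S).map k ≫ uV = u₀ ∧ k ≫ pV = p₀ ≫ sq.j ∧
        IsPullback k.left p₀.left pV.left sq.j.left := by
    intro V pV uV m sV hm
    have c1 : u₀ ≫ a = ((AlgSp.yon S).map p₀ ≫ (AlgSp.yon S).map sq.j) ≫ m := by
      rw [s₀.w, Category.assoc, hm]
    obtain ⟨k, hk⟩ := (AlgSp.yon S).map_surjective (sV.lift u₀ _ c1)
    have hk1 : (AlgSp.yon S).map k ≫ uV = u₀ := by
      rw [hk]
      exact sV.lift_fst _ _ _
    have hk2 : (AlgSp.yon S).map k ≫ (AlgSp.yon S).map pV =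
        (AlgSp.yon S).map p₀ ≫ (AlgSp.yon S).map sq.j := by
      rw [hk]
      exact sV.lift_snd _ _ _
    have hw : k ≫ pV = p₀ ≫ sq.j := by
      apply (AlgSp.yon S).map_injective
      rw [Functor.map_comp, Functor.map_comp]
      exact hk2
    have hkpb : IsPullback ((AlgSp.yon S).map k) ((AlgSp.yon S).map p₀) ((AlgSp.yon S).map pV)
        ((AlgSp.yon S).map sq.j) := by
      refine IsPullback.of_right ?_ hk2 sV
      rw [hk1, hm]
      exact s₀
    exact ⟨k, hk1, hw, (IsPullback.of_map (AlgSp.yon S) hw hkpb).map (Over.forget S)⟩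
  obtain ⟨k, hk1, hkw, hkpb⟩ := hcmp pW uW l sW h1
  obtain ⟨k', hk1', hkw', hkpb'⟩ := hcmp pW' uW' l' sW' h1'
  have hthk : MoreMor.IsThickening k.left :=
    ⟨MorphismProperty.of_isPullback (P := @IsClosedImmersion) hkpb.flip hthj.1,
      MorphismProperty.of_isPullback (P := @Surjective) hkpb.flip hthj.2⟩
  have hsqk : k.left.ker * k.left.ker = ⊥ :=
    sqZero_baseChange k.left sq.j.left p₀.left pW.left hthj hsqj hkpb
  haveI := hthk.1
  haveI := hthk.2
  have h₀ : k'.left ≫ pW'.left = k.left ≫ pW.left := by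
    rw [← Over.comp_left, ← Over.comp_left, hkw, hkw']
  obtain ⟨φ₀, ⟨hφ1, hφ2⟩, -⟩ := Groth.Agent.S5075.result pW'.left pW.left k.left k'.left h₀
  let φ : W ⟶ W' := Over.homMk φ₀ (by
    rw [← Over.w pW', ← Category.assoc, hφ1, Over.w pW])
  have eφ1 : φ ≫ pW' = pW := Over.OverMorphism.ext hφ1
  have eφ2 : k ≫ φ = k' := Over.OverMorphism.ext hφ2
  have hu : uW = (AlgSp.yon S).map φ ≫ uW' := by
    apply hloc k hthk hsqk
    · rw [hk1, ← Category.assoc, ← Functor.map_comp, eφ2, hk1']
    · rw [← Category.assoc, sW.w, Category.assoc, h2, Category.assoc, ← Category.assoc uW',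
        sW'.w, Category.assoc, h2', ← Category.assoc, ← Functor.map_comp, eφ1]
  have hfin : (AlgSp.yon S).map pW ≫ l = (AlgSp.yon S).map pW ≫ l' := by
    rw [← sW.w, hu, Category.assoc, sW'.w, ← Category.assoc, ← Functor.map_comp, eφ1]
  apply hom_ext_of_mem_J _ (Groth.Agent.Lib.Helper9.generate_singleton_mem_J_fppf pW)
  rintro Z g ⟨Z', a', b', ⟨⟩, rfl⟩
  rw [Functor.map_comp, Category.assoc, Category.assoc, hfin]

/-- formal smoothness of a formally unramified `g` can be tested after precomposition with a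
representable étale surjective `a`, on square-zero thickenings of affine schemes. -/
theorem formallySmooth_of_cover {F G H : AlgSp.Sp S} (a : F ⟶ G) (g : G ⟶ H)
    (ha : AlgSp.RepWith @Etale a) (ha' : AlgSp.RepWith @Surjective a)
    (hg : AlgSp.IsFormallyUnramifiedMor g)
    (hloc : ∀ {V V₀ : Over S} (i : V₀ ⟶ V), IsAffine V.left → MoreMor.IsThickening i.left →
      i.left.ker * i.left.ker = ⊥ →
      ∀ (top : (AlgSp.yon S).obj V₀ ⟶ F) (bot : (AlgSp.yon S).obj V ⟶ H),
        top ≫ a ≫ g = (AlgSp.yon S).map i ≫ bot →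
        ∃ l : (AlgSp.yon S).obj V ⟶ F, (AlgSp.yon S).map i ≫ l = top ∧ l ≫ a ≫ g = bot) :
    AlgSp.IsFormallySmoothMor g := by
  intro sq
  obtain ⟨hthj, hsqj⟩ := isFirstOrderThickening_j sq
  obtain ⟨E, e, fstE, sE⟩ := ha.1 sq.top
  have he : Etale e.left := ha.2 sq.top fstE e sE
  have hes : Surjective e.left := ha'.2 sq.top fstE e sE
  obtain ⟨W, W₀, c, k, r, hW, hc, hpb, hsurj⟩ := exists_cover_lift sq E e he hes
  have hthk : ∀ m, MoreMor.IsThickening (k m).left := fun m =>
    ⟨MorphismProperty.of_isPullback (P := @IsClosedImmersion) (hpb m).flip hthj.1,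
      MorphismProperty.of_isPullback (P := @Surjective) (hpb m).flip hthj.2⟩
  have hsqk : ∀ m, (k m).left.ker * (k m).left.ker = ⊥ := fun m =>
    sqZero_baseChange (k m).left sq.j.left (r m ≫ e).left (c m).left hthj hsqj (hpb m)
  have e1 : ∀ m, (r m ≫ e) ≫ sq.j = k m ≫ c m := fun m =>
    Over.OverMorphism.ext (hpb m).w.symm
  have hlift : ∀ m, ∃ l : (AlgSp.yon S).obj (W m) ⟶ F,
      (AlgSp.yon S).map (k m) ≫ l = (AlgSp.yon S).map (r m) ≫ fstE ∧
        l ≫ a ≫ g = (AlgSp.yon S).map (c m) ≫ sq.bot := by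
    intro m
    apply hloc (k m) (hW m) (hthk m) (hsqk m)
    calc ((AlgSp.yon S).map (r m) ≫ fstE) ≫ a ≫ g
        = (AlgSp.yon S).map (r m) ≫ (fstE ≫ a) ≫ g := by simp only [Category.assoc]
      _ = (AlgSp.yon S).map (r m) ≫ ((AlgSp.yon S).map e ≫ sq.top) ≫ g := by rw [sE.w]
      _ = (AlgSp.yon S).map (r m ≫ e) ≫ sq.top ≫ g := by
          rw [Functor.map_comp]
          simp only [Category.assoc]
      _ = (AlgSp.yon S).map (r m ≫ e) ≫ (AlgSp.yon S).map sq.j ≫ sq.bot := by rw [sq.comm]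
      _ = (AlgSp.yon S).map ((r m ≫ e) ≫ sq.j) ≫ sq.bot :=
          ((AlgSp.yon S).map_comp_assoc (r m ≫ e) sq.j sq.bot).symm
      _ = _ := by rw [e1 m, Functor.map_comp, Category.assoc]
  choose l hl1 hl2 using hlift
  refine exists_lift_of_cover g hg sq.j hthj hsqj sq.top sq.bot W W₀ c k (fun m => r m ≫ e) hpb
    (fun m => ?_) hsurj (fun m => l m ≫ a) ?_ ?_
  · haveI := hc m
    exact ⟨inferInstance, inferInstance⟩
  · intro m
    rw [← Category.assoc, hl1, Category.assoc, sE.w, ← Category.assoc, ← Functor.map_comp]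
  · intro m
    rw [Category.assoc]
    exact hl2 m

end Groth.Agent.Lib.H5bFormal
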