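import Mathlib
import Groth.Agent.Lib.Helper5IntDim
import Groth.Agent.S10176
import Groth.Agent.S10177
import Groth.Prelude.Def_AlgSp2

/-!
# Étale-local invariance: dimension of local rings, chart independence of `AlgSp.HasAt`
-/

set_option autoImplicit false
universe u

namespace Groth.Agent.Lib.H5bEtLocal

open AlgebraicGeometry CategoryTheory Limits IsLocalRing

section Ring

variable {A B : Type*} [CommRing A] [CommRing B] [Algebra A B]

/-- For a flat quasi-finite algebra, heights of primes agree with heights of their contractions. -/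
theorem height_eq_height_under [Module.Flat A B] [Algebra.QuasiFinite A B] (Q : Ideal B)
    [Q.IsPrime] : Q.height = (Q.under A).height := by
  apply le_antisymm
  · have hsm : StrictMono (PrimeSpectrum.comap (algebraMap A B)) := by
      intro P₁ P₂ h
      refine lt_of_le_of_ne (Ideal.comap_mono h.le) ?_
      intro heq
      have : P₁.asIdeal = P₂.asIdeal :=
        Algebra.QuasiFinite.eq_of_le_of_under_eq (R := A) P₁.asIdeal P₂.asIdeal h.le
          (congrArg PrimeSpectrum.asIdeal heq)
      exact h.ne (PrimeSpectrum.ext this)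
    have h := Order.height_le_height_apply_of_strictMono _ hsm
      (⟨Q, inferInstance⟩ : PrimeSpectrum B)
    rw [← PrimeSpectrum.height_eq_orderHeight, ← PrimeSpectrum.height_eq_orderHeight] at h
    exact h
  · exact Groth.Agent.Lib.Helper5.height_le_height_of_liesOver_of_hasGoingDown (Q.under A) Q

end Ring

section Sch

/-- An étale morphism preserves the Krull dimension of local rings (no Noetherian hypothesis). -/
theorem ringKrullDim_stalk_eq_of_etale {W U : Scheme.{u}} (g : W ⟶ U) [Etale g] (w : W) :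
    ringKrullDim (W.presheaf.stalk w) = ringKrullDim (U.presheaf.stalk (g w)) := by
  have hflat : (g.stalkMap w).hom.Flat := AlgebraicGeometry.Flat.stalkMap g w
  have hunr : (g.stalkMap w).hom.FormallyUnramified :=
    AlgebraicGeometry.FormallyUnramified.stalkMap g w
  have hess : (g.stalkMap w).hom.EssFiniteType := LocallyOfFiniteType.stalkMap g w
  algebraize [(g.stalkMap w).hom]
  have hloc : IsLocalHom (algebraMap (U.presheaf.stalk (g w)) (W.presheaf.stalk w)) :=
    inferInstanceAs <| IsLocalHom (g.stalkMap w).hom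
  have h := height_eq_height_under (A := U.presheaf.stalk (g w)) (B := W.presheaf.stalk w)
    (maximalIdeal (W.presheaf.stalk w))
  have hu : (maximalIdeal (W.presheaf.stalk w)).under (U.presheaf.stalk (g w)) =
      maximalIdeal (U.presheaf.stalk (g w)) := by
    have h4 := (local_hom_TFAE (algebraMap (U.presheaf.stalk (g w)) (W.presheaf.stalk w))).out 0 4
    exact h4.mp hloc
  rw [hu] at h
  rw [← IsLocalRing.maximalIdeal_height_eq_ringKrullDim,
    ← IsLocalRing.maximalIdeal_height_eq_ringKrullDim, h]

end Sch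

section Sp

variable {S : Scheme.{u}}

/-- A pointed-scheme property invariant under étale maps can be tested on any chart through the
point. -/
theorem iff_of_ofPt_eq (Q : ∀ U : Scheme.{u}, ↥U → Prop)
    (hQ : ∀ {W U : Scheme.{u}} (g : W ⟶ U) [Etale g] (w : W), Q W w ↔ Q U (g w))
    {X : AlgSp.Sp S} {U V : Over S}
    (a : (AlgSp.yon S).obj U ⟶ X) (b : (AlgSp.yon S).obj V ⟶ X)
    (ha : AlgSp.RepWith @Etale a) (hb : AlgSp.RepWith @Etale b) (u : ↥U.left) (v : ↥V.left)
    (huv : AlgSp.Points.ofPt a u = AlgSp.Points.ofPt b v) :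
    Q U.left u ↔ Q V.left v := by
  have sq := ha.rep.isPullback' b
  have h1 : Etale (ha.rep.snd b).left := ha.property_snd b
  have h2 : Etale (ha.rep.fst' b).left := hb.2 a _ _ sq.flip
  obtain ⟨y, hy1, hy2⟩ := Groth.Agent.S10176.exists_point_of_isPullback_yon sq u v huv
  rw [← hy1, ← hy2, ← hQ (ha.rep.fst' b).left y, ← hQ (ha.rep.snd b).left y]

/-- `HasAt Q` for an étale-invariant `Q` on an algebraic space holds iff `Q` holds on every chart
through the point. -/
theorem hasAt_iff_forall (Q : ∀ U : Scheme.{u}, ↥U → Prop)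
    (hQ : ∀ {W U : Scheme.{u}} (g : W ⟶ U) [Etale g] (w : W), Q W w ↔ Q U (g w))
    {X : AlgSp.Sp S} (hX : AlgSp.IsAlgSpace X) (x : AlgSp.Points X) :
    AlgSp.HasAt Q X x ↔
      ∀ (U : Over S) (a : (AlgSp.yon S).obj U ⟶ X) (u : ↥U.left),
        AlgSp.RepWith @Etale a → AlgSp.Points.ofPt a u = x → Q U.left u := by
  constructor
  · rintro ⟨U₁, a₁, u₁, ha₁, hu₁, hq⟩ U a u ha hu
    exact (iff_of_ofPt_eq Q hQ a₁ a ha₁ ha u₁ u (hu₁.trans hu.symm)).1 hq
  · intro h
    obtain ⟨U, p, hp1, hp2⟩ := hX.atlas
    obtain ⟨u, hu⟩ := Groth.Agent.S10177.surjective_ofPt p hp2 x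
    exact ⟨U, p, u, hp1, hu, h U p u hp1 hu⟩

end Sp

end Groth.Agent.Lib.H5bEtLocal
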