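import Mathlib
import Groth.Prelude.Def_AlgSpDec
import Groth.Prelude.Def_AlgSp3
import Groth.Prelude.Def_AlgSp4
import Groth.Agent.S10175
import Groth.Agent.S10176
import Groth.Agent.S10177
import Groth.Agent.Lib.Helper6EtDim
import Groth.Agent.Lib.Helper7TopDim
import Groth.Agent.Lib.Helper4ProdDim
import Groth.Agent.Lib.Helper5IntDim

/-!
# Dimension of algebraic spaces and integral morphisms (helper5, second batch)

* `dim_le_of_etale`: an étale morphism of schemes does not raise the dimension.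
* `dim_le_iSup_of_etale_cover`: a jointly surjective étale family computes an upper bound.
* `dim_le_of_integralHom`: integral morphisms of schemes with affine target do not raise dimension.
* `dim_le_of_integralHom_surjective`: surjective integral morphisms do not lower it.
-/

set_option autoImplicit false
universe u
open CategoryTheory CategoryTheory.Limits AlgebraicGeometry Topology TopologicalSpace

namespace Groth.Agent.Lib.H5bIntDimSp

open Groth.Agent.Lib.Helper7.TopDim Groth.Agent.Lib.Helper6.EtDim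

theorem dim_le_of_etale {T W : Scheme.{u}} (h : T ⟶ W) [Etale h] :
    topologicalKrullDim T ≤ topologicalKrullDim W := by
  rw [topologicalKrullDim_eq_iSup_localDim (X := T)]
  refine iSup_le fun t => ?_
  rw [localDim_eq_of_etale h t]
  exact localDim_le_dim _

theorem dim_le_iSup_of_etale_cover {U : Scheme.{u}} {ι : Type*} (T : ι → Scheme.{u})
    (h : ∀ i, T i ⟶ U) [∀ i, Etale (h i)] (hsurj : ∀ u : U, ∃ i, ∃ t : T i, (h i).base t = u) :
    topologicalKrullDim U ≤ ⨆ i, topologicalKrullDim (T i) := by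
  rw [topologicalKrullDim_eq_iSup_localDim (X := U)]
  refine iSup_le fun u => ?_
  obtain ⟨i, t, rfl⟩ := hsurj u
  rw [← localDim_eq_of_etale (h i) t]
  exact (localDim_le_dim _).trans (le_iSup (fun i => topologicalKrullDim (T i)) i)

theorem dim_eq_of_isAffine (W : Scheme.{u}) [IsAffine W] :
    topologicalKrullDim W = ringKrullDim Γ(W, ⊤) := by
  rw [Groth.Agent.Lib.Helper4.ProdDim.topologicalKrullDim_eq_of_iso W.isoSpec]
  exact Groth.Agent.Lib.Helper4.ProdDim.topologicalKrullDim_Spec _

theorem dim_le_of_integralHom {W V : Scheme.{u}} [IsAffine W] [IsAffine V] (i : W ⟶ V)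
    [IsIntegralHom i] : topologicalKrullDim W ≤ topologicalKrullDim V := by
  rw [dim_eq_of_isAffine W, dim_eq_of_isAffine V]
  have hint : (i.appTop).hom.IsIntegral := by
    have := IsIntegralHom.isIntegral_app i ⊤ (isAffineOpen_top V)
    exact this
  algebraize [(i.appTop).hom]
  have : Algebra.IsIntegral Γ(V, ⊤) Γ(W, ⊤) := ⟨hint⟩
  exact Groth.Agent.Lib.Helper5.ringKrullDim_le_of_isIntegral _ _

theorem ringKrullDim_le_of_isIntegral_of_surjective (A B : Type*) [CommRing A] [CommRing B]
    [Algebra A B] [Algebra.IsIntegral A B]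
    (hs : Function.Surjective (PrimeSpectrum.comap (algebraMap A B))) :
    ringKrullDim A ≤ ringKrullDim B := by
  refine iSup_le fun l => ?_
  obtain ⟨P, hP⟩ := hs l.head
  have : P.asIdeal.LiesOver l.head.asIdeal := ⟨by rw [← hP]; rfl⟩
  obtain ⟨L, hL, -, -⟩ := Ideal.exists_ltSeries_of_hasGoingUp l P.asIdeal
  rw [← hL]
  exact Order.LTSeries.length_le_krullDim L

theorem dim_le_of_integralHom_surjective {W V : Scheme.{u}} [IsAffine W] [IsAffine V] (i : W ⟶ V)
    [IsIntegralHom i] (hs : Function.Surjective i.base) :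
    topologicalKrullDim V ≤ topologicalKrullDim W := by
  rw [dim_eq_of_isAffine W, dim_eq_of_isAffine V]
  have hint : (i.appTop).hom.IsIntegral := IsIntegralHom.isIntegral_app i ⊤ (isAffineOpen_top V)
  have hsurj : Function.Surjective (PrimeSpectrum.comap (i.appTop).hom) := by
    intro p
    obtain ⟨w, hw⟩ := hs (V.isoSpec.inv.base p)
    refine ⟨W.isoSpec.hom.base w, ?_⟩
    have h1 := congrArg (fun φ => φ.base w) (Scheme.isoSpec_hom_naturality i)
    simp only [Scheme.Hom.comp_base, TopCat.comp_app] at h1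
    rw [hw] at h1
    have h2 : V.isoSpec.hom.base (V.isoSpec.inv.base p) = p := by
      rw [← Scheme.Hom.comp_apply, Iso.inv_hom_id]; rfl
    rw [h2] at h1
    exact h1
  algebraize [(i.appTop).hom]
  have : Algebra.IsIntegral Γ(V, ⊤) Γ(W, ⊤) := ⟨hint⟩
  exact ringKrullDim_le_of_isIntegral_of_surjective _ _ hsurj

section Sp

open AlgSp

variable {S : Scheme.{u}}

theorem dim_chart_le {F : AlgSp.Sp S} {U : Over S} (a : (yon S).obj U ⟶ F)
    (ha : RepWith @Etale a) : topologicalKrullDim U.left ≤ AlgSp.dim F := by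
  unfold AlgSp.dim
  exact le_iSup_of_le U (le_iSup_of_le a (le_iSup_of_le ha le_rfl))

/-- a point of `W` over a given point of `X` and a given point of `Z`, in a pullback square
`h_W = X ×_Y h_Z`. -/
theorem exists_point_of_isPullback_chart {X Y : AlgSp.Sp S} {f : X ⟶ Y} {Z W : Over S}
    {g : (yon S).obj Z ⟶ Y} {i : W ⟶ Z} {fst : (yon S).obj W ⟶ X}
    (sq : IsPullback fst ((yon S).map i) f g) (x : Points X) (z : ↥Z.left)
    (e : Points.ofPt g z = Points.map f x) :
    ∃ w : ↥W.left, Points.ofPt fst w = x ∧ i.left w = z := by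
  have e' : Points.map g (Points.ofScheme Z z) = Points.map f x := by
    rw [← Points.ofPt_eq_map_ofScheme]; exact e
  obtain ⟨p, hp1, hp2⟩ := Groth.Agent.S10175.exists_point_of_isPullback sq.flip _ _ e'
  obtain ⟨w, rfl⟩ := (Points.schemeHomeo W).surjective p
  refine ⟨w, ?_, ?_⟩
  · rw [Points.ofPt_eq_map_ofScheme]; exact hp2
  · apply (Points.schemeHomeo Z).injective
    rw [← Points.map_yon_map_apply]
    exact hp1

theorem dim_le_of_isIntegralMor {X Y : AlgSp.Sp S} (hY : IsAlgSpace Y) (f : X ⟶ Y)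
    (hf : IsIntegralMor f) : AlgSp.dim X ≤ AlgSp.dim Y := by
  rw [AlgSp.dim]
  refine iSup_le fun U => iSup_le fun a => iSup_le fun ha => ?_
  obtain ⟨V, p, hp, hps⟩ := hY.atlas
  let 𝒰 := V.left.affineCover
  have key : ∀ j : 𝒰.I₀, ∃ (T : Scheme.{u}) (h : T ⟶ U.left), Etale h ∧
      topologicalKrullDim T ≤ AlgSp.dim Y ∧
      ∀ (u : ↥U.left) (v : ↥(𝒰.X j)), Points.ofPt p (𝒰.f j v) = Points.ofPt (a ≫ f) u →
        ∃ t : ↥T, h.base t = u := by
    intro j
    let Vj : Over S := Over.mk (𝒰.f j ≫ V.hom)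
    let ιj : Vj ⟶ V := Over.homMk (𝒰.f j) rfl
    have hι : RepWith @Etale ((yon S).map ιj) :=
      (repWith_yon_map_iff @Etale ιj).2 (show Etale (𝒰.f j) from inferInstance)
    have hgj : RepWith @Etale ((yon S).map ιj ≫ p) := (RepWith @Etale).comp_mem _ _ hι hp
    have hVj : IsAffine Vj.left := show IsAffine (𝒰.X j) from inferInstance
    obtain ⟨W, i, fst, sq, hW, hi⟩ := hf hVj ((yon S).map ιj ≫ p)
    have hfst : RepWith @Etale fst := (RepWith @Etale).of_isPullback sq.flip hgj
    have sq2 := ha.rep.isPullback' fst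
    have h1 : Etale (ha.rep.snd fst).left := ha.property_snd fst
    have h2 : Etale (ha.rep.fst' fst).left := hfst.2 a _ _ sq2.flip
    refine ⟨_, (ha.rep.fst' fst).left, h2, ?_, ?_⟩
    · refine (dim_le_of_etale (ha.rep.snd fst).left).trans ?_
      refine (dim_le_of_integralHom i.left).trans ?_
      exact dim_chart_le _ hgj
    · intro u v e
      have e2 : Points.ofPt ((yon S).map ιj ≫ p) v = Points.map f (Points.ofPt a u) := by
        rw [Groth.Agent.S10176.ofPt_map_comp, Points.map_ofPt]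
        exact e
      obtain ⟨w, hw1, -⟩ := exists_point_of_isPullback_chart sq _ v e2
      obtain ⟨t, ht, -⟩ := Groth.Agent.S10176.exists_point_of_isPullback_yon sq2 u w hw1.symm
      exact ⟨t, ht⟩
  choose T h hT1 hT2 hT3 using key
  have := hT1
  refine (dim_le_iSup_of_etale_cover T h ?_).trans (iSup_le hT2)
  intro u
  obtain ⟨v, hv⟩ := Groth.Agent.S10177.surjective_ofPt p hps (Points.ofPt (a ≫ f) u)
  obtain ⟨j, v', rfl⟩ := 𝒰.exists_eq v
  obtain ⟨t, ht⟩ := hT3 j u v' hv
  exact ⟨j, t, ht⟩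

theorem dim_le_of_isIntegralMor_surjective {X Y : AlgSp.Sp S} (f : X ⟶ Y)
    (hf : IsIntegralMor f) (hs : IsSurjectiveMor f) : AlgSp.dim Y ≤ AlgSp.dim X := by
  rw [AlgSp.dim]
  refine iSup_le fun V => iSup_le fun b => iSup_le fun hb => ?_
  let 𝒰 := V.left.affineCover
  rw [Groth.Agent.Lib.Helper4.ProdDim.topologicalKrullDim_eq_iSup_openCover V.left 𝒰]
  refine iSup_le fun j => ?_
  let Vj : Over S := Over.mk (𝒰.f j ≫ V.hom)
  let ιj : Vj ⟶ V := Over.homMk (𝒰.f j) rfl
  have hι : RepWith @Etale ((yon S).map ιj) :=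
    (repWith_yon_map_iff @Etale ιj).2 (show Etale (𝒰.f j) from inferInstance)
  have hgj : RepWith @Etale ((yon S).map ιj ≫ b) := (RepWith @Etale).comp_mem _ _ hι hb
  have hVj : IsAffine Vj.left := show IsAffine (𝒰.X j) from inferInstance
  obtain ⟨W, i, fst, sq, hW, hi⟩ := hf hVj ((yon S).map ιj ≫ b)
  have hfst : RepWith @Etale fst := (RepWith @Etale).of_isPullback sq.flip hgj
  have hsurj : Function.Surjective i.left.base := by
    intro v
    obtain ⟨x, hx⟩ := hs (Points.ofPt ((yon S).map ιj ≫ b) v)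
    obtain ⟨w, -, hw⟩ := exists_point_of_isPullback_chart sq x v hx.symm
    exact ⟨w, hw⟩
  exact (dim_le_of_integralHom_surjective (V := Vj.left) i.left hsurj).trans
    (dim_chart_le fst hfst)

end Sp

end Groth.Agent.Lib.H5bIntDimSp
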