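import Mathlib
import Groth.Prelude.Def_AlgSpDec
import Groth.Prelude.Def_AlgSp3
import Groth.Prelude.Def_AlgSp4
import Groth.Agent.Lib.H5bIntDimSp
import Groth.Agent.Lib.H5bEtLocal

/-!
# Dimension and locally quasi-finite morphisms (helper5, second batch)

* `no_specialization_in_fibres_of_lqf`, `coheight_le_of_lqf`, `ringKrullDim_stalk_le_of_lqf`,
  `dim_le_of_lqf` for schemes.
* `chartPullback`: for `f : X ⟶ Y`, a chart `a` of `X` and an étale chart `b` of `Y`, the scheme
  `W = U ×_Y V` with its projections and the lifting of points.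
* `dim_le_of_locP_lqf`, `stalkDim_le_of_locP_lqf` for algebraic spaces.
-/

set_option autoImplicit false
universe u
open CategoryTheory CategoryTheory.Limits AlgebraicGeometry Topology TopologicalSpace

namespace Groth.Agent.Lib.H5bLqfDim

open Groth.Agent.Lib.Helper7.TopDim Groth.Agent.Lib.Helper6.EtDim Groth.Agent.Lib.H5bIntDimSp

theorem no_specialization_in_fibres_of_lqf {W V : Scheme.{u}} (h : W ⟶ V) [LocallyQuasiFinite h]
    (x x' : W) (hxx' : x ⤳ x') (hff : h.base x = h.base x') : x = x' := by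
  have hdisc : _root_.IsDiscrete (h ⁻¹' {h x'}) := h.isDiscrete_preimage_singleton (h x')
  have : DiscreteTopology ↥(h ⁻¹' {h x'}) := hdisc.to_subtype
  have h1 : (⟨x, hff⟩ : ↥(h ⁻¹' {h x'})) ⤳ ⟨x', rfl⟩ := (subtype_specializes_iff _ _).mpr hxx'
  exact congrArg Subtype.val (specializes_iff_eq.mp h1)

theorem coheight_le_of_lqf {W V : Scheme.{u}} (h : W ⟶ V) [LocallyQuasiFinite h] (w : W) :
    Order.coheight w ≤ Order.coheight (h.base w) := by
  have hsm : StrictMono h.base := by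
    intro a b hab
    have h1 : b ⤳ a := hab.le
    have h2 : h.base b ⤳ h.base a := h1.map h.continuous
    refine lt_of_le_not_ge h2 ?_
    intro h3
    have h3' : h.base a ⤳ h.base b := h3
    have heq : h.base b = h.base a := (h2.antisymm h3').eq
    have := no_specialization_in_fibres_of_lqf h b a h1 heq
    exact hab.ne this.symm
  exact Order.coheight_le_coheight_apply_of_strictMono _ hsm w

theorem ringKrullDim_stalk_le_of_lqf {W V : Scheme.{u}} (h : W ⟶ V) [LocallyQuasiFinite h]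
    (w : W) :
    ringKrullDim (W.presheaf.stalk w) ≤ ringKrullDim (V.presheaf.stalk (h.base w)) := by
  rw [ringKrullDim_stalk_eq_coheight, ringKrullDim_stalk_eq_coheight]
  exact_mod_cast coheight_le_of_lqf h w

theorem dim_le_of_lqf {W V : Scheme.{u}} (h : W ⟶ V) [LocallyQuasiFinite h] :
    topologicalKrullDim W ≤ topologicalKrullDim V :=
  topologicalKrullDim_le_of_fibres h.base h.continuous (no_specialization_in_fibres_of_lqf h)

section Sp

open AlgSp

variable {S : Scheme.{u}}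

/-- for `f : X ⟶ Y`, a chart `a : h_U ⟶ X` and an étale chart `b : h_V ⟶ Y`, the scheme
`W = U ×_Y V`, with `W ⟶ U` étale, `W ⟶ V`, the commutative square and the lifting of points. -/
theorem exists_chartPullback {X Y : AlgSp.Sp S} (f : X ⟶ Y) {U V : Over S}
    (a : (yon S).obj U ⟶ X) (b : (yon S).obj V ⟶ Y) (hb : RepWith @Etale b) :
    ∃ (W : Over S) (pr : W ⟶ U) (h : W ⟶ V), Etale pr.left ∧
      ((yon S).map pr ≫ a) ≫ f = (yon S).map h ≫ b ∧
      (∀ (u : ↥U.left) (v : ↥V.left), Points.ofPt (a ≫ f) u = Points.ofPt b v →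
        ∃ w : ↥W.left, pr.left w = u ∧ h.left w = v) := by
  have sq := hb.rep.isPullback' (a ≫ f)
  refine ⟨_, hb.rep.snd (a ≫ f), hb.rep.fst' (a ≫ f), hb.property_snd (a ≫ f), ?_, ?_⟩
  · rw [Category.assoc]; exact sq.w.symm
  · intro u v e
    obtain ⟨y, hy1, hy2⟩ := Groth.Agent.S10176.exists_point_of_isPullback_yon sq v u e.symm
    exact ⟨y, hy2, hy1⟩

theorem dim_le_of_locP_lqf {X Y : AlgSp.Sp S} (hY : IsAlgSpace Y) (f : X ⟶ Y)
    (hf : LocP (@LocallyQuasiFinite ⊓ @LocallyOfFiniteType) f) :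
    AlgSp.dim X ≤ AlgSp.dim Y := by
  rw [AlgSp.dim]
  refine iSup_le fun U => iSup_le fun a => iSup_le fun ha => ?_
  obtain ⟨V, p, hp, hps⟩ := hY.atlas
  obtain ⟨W, pr, h, hpr, hw, hpt⟩ := exists_chartPullback f a p hp
  have hpr' : RepWith @Etale ((yon S).map pr ≫ a) :=
    (RepWith @Etale).comp_mem _ _ ((repWith_yon_map_iff @Etale pr).2 hpr) ha
  have hlqf : LocallyQuasiFinite h.left := (hf _ _ h hpr' hp hw).1
  have h1 : topologicalKrullDim U.left ≤ topologicalKrullDim W.left := by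
    refine (dim_le_iSup_of_etale_cover (ι := Unit) (fun _ => W.left) (fun _ => pr.left) ?_).trans
      (iSup_le fun _ => le_rfl)
    intro u
    obtain ⟨v, hv⟩ := Groth.Agent.S10177.surjective_ofPt p hps (Points.ofPt (a ≫ f) u)
    obtain ⟨w, hw1, -⟩ := hpt u v hv.symm
    exact ⟨(), w, hw1⟩
  exact h1.trans ((dim_le_of_lqf h.left).trans (dim_chart_le p hp))

theorem stalkDim_le_of_locP_lqf {X Y : AlgSp.Sp S} (f : X ⟶ Y)
    (hf : LocP (@LocallyQuasiFinite ⊓ @LocallyOfFiniteType) f) (x : Points X)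
    (d e : WithBot ℕ∞)
    (hx : HasAt (fun U u => ringKrullDim ↥(U.presheaf.stalk u) = d) X x)
    (hy : HasAt (fun V v => ringKrullDim ↥(V.presheaf.stalk v) = e) Y (Points.map f x)) :
    d ≤ e := by
  obtain ⟨U, a, u, ha, hau, hd⟩ := hx
  obtain ⟨V, b, v, hb, hbv, he⟩ := hy
  obtain ⟨W, pr, h, hpr, hw, hpt⟩ := exists_chartPullback f a b hb
  have hpr' : RepWith @Etale ((yon S).map pr ≫ a) :=
    (RepWith @Etale).comp_mem _ _ ((repWith_yon_map_iff @Etale pr).2 hpr) ha
  have hlqf : LocallyQuasiFinite h.left := (hf _ _ h hpr' hb hw).1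
  have e1 : Points.ofPt (a ≫ f) u = Points.ofPt b v := by
    rw [hbv, ← hau]; rfl
  obtain ⟨w, hw1, hw2⟩ := hpt u v e1
  have h1 := Groth.Agent.Lib.H5bEtLocal.ringKrullDim_stalk_eq_of_etale pr.left w
  have h2 := ringKrullDim_stalk_le_of_lqf h.left w
  rw [hw1] at h1
  rw [hw2] at h2
  rw [← hd, ← he, ← h1]
  exact h2

end Sp

end Groth.Agent.Lib.H5bLqfDim
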