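import Mathlib
import Groth.Prelude.Def_AlgSpDec
import Groth.Prelude.Def_AlgSp3
import Groth.Prelude.Def_AlgSp4
import Groth.Agent.S10176
import Groth.Agent.S10177
import Groth.Agent.Lib.Helper12LocPNbhd
import Groth.Agent.Lib.Helper3FibDimEt
import Groth.Agent.Lib.H5bLqfDim

/-!
# `HasAtMor` is independent of the chart diagram (helper5, second batch)

For a predicate `Q` on pointed morphisms of schemes which is étale local on the source and target
(`EtLocalQ Q`), the predicate `AlgSp.HasAtMor Q f x` can be computed on any chart diagram through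
the point (`hasAtMor_iff_of_chart`).
-/

set_option autoImplicit false
universe u
open CategoryTheory CategoryTheory.Limits AlgebraicGeometry Topology TopologicalSpace

namespace Groth.Agent.Lib.H5bHasAtMor

open AlgSp

/-- `Q` is étale local on the source and target at points. -/
def EtLocalQ (Q : ∀ (U V : Scheme.{u}), (U ⟶ V) → ↥U → Prop) : Prop :=
  ∀ ⦃U U' V V' : Scheme.{u}⦄ (h : U ⟶ V) (h' : U' ⟶ V') (a : U' ⟶ U) (b : V' ⟶ V),
    Etale a → Etale b → h' ≫ b = a ≫ h → ∀ u' : ↥U', Q U V h (a.base u') ↔ Q U' V' h' u'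

variable {S : Scheme.{u}}

/-- two chart diagrams through the same point are dominated by a third one. -/
theorem exists_common_chart {F G : AlgSp.Sp S} (f : F ⟶ G) {U₁ V₁ U₂ V₂ : Over S}
    (a₁ : (yon S).obj U₁ ⟶ F) (b₁ : (yon S).obj V₁ ⟶ G) (h₁ : U₁ ⟶ V₁)
    (ha₁ : RepWith @Etale a₁) (hb₁ : RepWith @Etale b₁) (c₁ : a₁ ≫ f = (yon S).map h₁ ≫ b₁)
    (a₂ : (yon S).obj U₂ ⟶ F) (b₂ : (yon S).obj V₂ ⟶ G) (h₂ : U₂ ⟶ V₂)
    (ha₂ : RepWith @Etale a₂) (hb₂ : RepWith @Etale b₂) (c₂ : a₂ ≫ f = (yon S).map h₂ ≫ b₂)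
    (u₁ : ↥U₁.left) (u₂ : ↥U₂.left) (e : Points.ofPt a₁ u₁ = Points.ofPt a₂ u₂) :
    ∃ (U V : Over S) (h : U ⟶ V) (p₁ : U ⟶ U₁) (p₂ : U ⟶ U₂) (q₁ : V ⟶ V₁) (q₂ : V ⟶ V₂)
      (u : ↥U.left), Etale p₁.left ∧ Etale p₂.left ∧ Etale q₁.left ∧ Etale q₂.left ∧
      h.left ≫ q₁.left = p₁.left ≫ h₁.left ∧ h.left ≫ q₂.left = p₂.left ≫ h₂.left ∧
      p₁.left.base u = u₁ ∧ p₂.left.base u = u₂ := by
  have sqU := ha₁.rep.isPullback' a₂
  have hp₂ : Etale (ha₁.rep.snd a₂).left := ha₁.property_snd a₂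
  have hp₁ : Etale (ha₁.rep.fst' a₂).left := ha₂.2 a₁ _ _ sqU.flip
  have sqV := hb₁.rep.isPullback' b₂
  have hq₂ : Etale (hb₁.rep.snd b₂).left := hb₁.property_snd b₂
  have hq₁ : Etale (hb₁.rep.fst' b₂).left := hb₂.2 b₁ _ _ sqV.flip
  obtain ⟨u, hu1, hu2⟩ := Groth.Agent.S10176.exists_point_of_isPullback_yon sqU u₁ u₂ e
  have w : (yon S).map (ha₁.rep.fst' a₂ ≫ h₁) ≫ b₁ = (yon S).map (ha₁.rep.snd a₂ ≫ h₂) ≫ b₂ := by
    rw [Functor.map_comp, Functor.map_comp, Category.assoc, Category.assoc, ← c₁, ← c₂,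
      ← Category.assoc, ← Category.assoc, sqU.w]
  obtain ⟨h, hh⟩ := (yon S).map_surjective (sqV.lift _ _ w)
  have e1 : h ≫ hb₁.rep.fst' b₂ = ha₁.rep.fst' a₂ ≫ h₁ := by
    apply (yon S).map_injective
    rw [Functor.map_comp, hh, sqV.lift_fst]
  have e2 : h ≫ hb₁.rep.snd b₂ = ha₁.rep.snd a₂ ≫ h₂ := by
    apply (yon S).map_injective
    rw [Functor.map_comp, hh, sqV.lift_snd]
  refine ⟨_, _, h, ha₁.rep.fst' a₂, ha₁.rep.snd a₂, hb₁.rep.fst' b₂, hb₁.rep.snd b₂, u,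
    hp₁, hp₂, hq₁, hq₂, ?_, ?_, hu1, hu2⟩
  · have := congrArg (fun φ => φ.left) e1
    simpa using this
  · have := congrArg (fun φ => φ.left) e2
    simpa using this

/-- **Independence of the chart diagram**: for `Q` étale local on the source and target,
`HasAtMor Q f x` can be read on any chart diagram through `x`. -/
theorem hasAtMor_iff_of_chart {Q : ∀ (U V : Scheme.{u}), (U ⟶ V) → ↥U → Prop} (hQ : EtLocalQ Q)
    {F G : AlgSp.Sp S} (f : F ⟶ G) (x : Points F) {U V : Over S}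
    (a : (yon S).obj U ⟶ F) (b : (yon S).obj V ⟶ G) (h : U ⟶ V)
    (ha : RepWith @Etale a) (hb : RepWith @Etale b) (c : a ≫ f = (yon S).map h ≫ b)
    (u : ↥U.left) (hu : Points.ofPt a u = x) :
    HasAtMor Q f x ↔ Q U.left V.left h.left u := by
  constructor
  · rintro ⟨U₂, V₂, a₂, b₂, h₂, u₂, ha₂, hb₂, c₂, hu₂, hQ₂⟩
    obtain ⟨U₃, V₃, h₃, p₁, p₂, q₁, q₂, u₃, hp₁, hp₂, hq₁, hq₂, e₁, e₂, hu₁, hu₂'⟩ :=
      exists_common_chart f a b h ha hb c a₂ b₂ h₂ ha₂ hb₂ c₂ u u₂ (hu.trans hu₂.symm)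
    have k₁ := hQ h.left h₃.left p₁.left q₁.left hp₁ hq₁ e₁ u₃
    have k₂ := hQ h₂.left h₃.left p₂.left q₂.left hp₂ hq₂ e₂ u₃
    rw [hu₁] at k₁
    rw [hu₂'] at k₂
    exact k₁.2 (k₂.1 hQ₂)
  · intro hq
    exact ⟨U, V, a, b, h, u, ha, hb, c, hu, hq⟩

/-- the local fibre dimension is étale local on source and target. -/
theorem etLocalQ_fibreDimAt (R : WithBot ℕ∞ → Prop) :
    EtLocalQ (fun _ _ h u => R (FlatMor.fibreDimAt h u)) := by
  intro U U' V V' h h' a b ha hb comm u'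
  have := ha
  have := hb
  show R (FlatMor.fibreDimAt h (a.base u')) ↔ R (FlatMor.fibreDimAt h' u')
  rw [Groth.Agent.Lib.Helper3.FibDimEt.fibreDimAt_eq_of_etale_square h h' a b comm u']

/-- a chart diagram through every point (for algebraic spaces). -/
theorem exists_chart {X Y : AlgSp.Sp S} (hX : IsAlgSpace X) (hY : IsAlgSpace Y)
    (f : X ⟶ Y) (x : Points X) :
    ∃ (U V : Over S) (a : (yon S).obj U ⟶ X) (b : (yon S).obj V ⟶ Y) (h : U ⟶ V)
      (u : ↥U.left), RepWith @Etale a ∧ RepWith @Etale b ∧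
        a ≫ f = (yon S).map h ≫ b ∧ Points.ofPt a u = x :=
  Groth.Agent.Lib.Helper12.LocPNbhd.exists_chart hX hY f x

/-- a chart diagram with étale surjective vertical maps. -/
theorem exists_atlas_chart {X Y : AlgSp.Sp S} (hX : IsAlgSpace X) (hY : IsAlgSpace Y)
    (f : X ⟶ Y) :
    ∃ (U V : Over S) (a : (yon S).obj U ⟶ X) (b : (yon S).obj V ⟶ Y) (h : U ⟶ V),
      RepWith @Etale a ∧ RepWith @Surjective a ∧ RepWith @Etale b ∧ RepWith @Surjective b ∧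
        a ≫ f = (yon S).map h ≫ b := by
  obtain ⟨V₀, q, hq, hqs⟩ := hY.atlas
  obtain ⟨U₀, p, hp, hps⟩ := hX.atlas
  obtain ⟨W, pr, h, hpr, hw, hpt⟩ := Groth.Agent.Lib.H5bLqfDim.exists_chartPullback f p q hq
  have hsurj : Surjective pr.left := by
    refine ⟨fun u => ?_⟩
    obtain ⟨v, hv⟩ := Groth.Agent.S10177.surjective_ofPt q hqs (Points.ofPt (p ≫ f) u)
    obtain ⟨w, hw1, -⟩ := hpt u v hv.symm
    exact ⟨w, hw1⟩
  refine ⟨W, V₀, (yon S).map pr ≫ p, q, h, ?_, ?_, hq, hqs, hw⟩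
  · exact (RepWith @Etale).comp_mem _ _ ((repWith_yon_map_iff @Etale pr).2 hpr) hp
  · exact (RepWith @Surjective).comp_mem _ _ ((repWith_yon_map_iff @Surjective pr).2 hsurj) hps

end Groth.Agent.Lib.H5bHasAtMor
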