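import Mathlib
import Groth.Prelude
import Groth.Agent.S1487
import Groth.Agent.S1516
import Groth.Agent.S9771
import Groth.Agent.Lib.H5bFormalDesc
import Groth.Agent.Lib.H5bHasAtMor

/-!
# Formally unramified / étale morphisms of sheaves and chart diagrams (helper5)

For `a : h_U ⟶ X`, `b : h_V ⟶ Y` representable étale, `h : U ⟶ V` with `a ≫ f = h_h ≫ b`:
* `formallyUnramified_of_chart`, `formallyEtale_of_chart`: if `a` is moreover surjective and `h` is
  formally unramified (resp. formally étale in the lifting sense), so is `f`;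
* `formallyUnramified_chart_of`, `formallyEtaleHom_chart_of`: the converse, on every chart;
* `formallyEtale_of_flat_unramified`: flat + unramified morphisms of algebraic spaces are formally
  étale.
-/

set_option autoImplicit false
universe u
open CategoryTheory CategoryTheory.Limits AlgebraicGeometry Opposite TopologicalSpace

namespace Groth.Agent.Lib.H5bFormal

open Groth.Agent.S13210 Groth.Agent.Lib.Helper12.ZarGlue Groth.Agent.Lib.Helper8FOThick
  Groth.Agent.Lib.Helper15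

variable {S : Scheme.{u}}

theorem formallyUnramified_of_isFormallyEtaleHom {X Y : Scheme.{u}} (f : X ⟶ Y)
    (hf : MoreMor.IsFormallyEtaleHom f) : FormallyUnramified f := by
  refine ⟨fun {V} hV {U} hU e => ?_⟩
  have h1 := (Groth.Agent.S1487.result f).mp hf U V hU hV e
  letI := (f.appLE V U e).hom.toAlgebra
  haveI : Algebra.FormallyEtale Γ(Y, V) Γ(X, U) := h1
  change Algebra.FormallyUnramified Γ(Y, V) Γ(X, U)
  infer_instance

theorem formallyUnramified_of_repEtale {F G : AlgSp.Sp S} (a : F ⟶ G)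
    (ha : AlgSp.RepWith @Etale a) : AlgSp.IsFormallyUnramifiedMor a :=
  ((isFormallyEtaleMor_iff a).1 (formallyEtale_of_repEtale a ha)).2

theorem formallySmooth_of_repEtale {F G : AlgSp.Sp S} (a : F ⟶ G)
    (ha : AlgSp.RepWith @Etale a) : AlgSp.IsFormallySmoothMor a :=
  ((isFormallyEtaleMor_iff a).1 (formallyEtale_of_repEtale a ha)).1

/-- one surjective chart with formally unramified chart map makes `f` formally unramified. -/
theorem formallyUnramified_of_chart {X Y : AlgSp.Sp S} (f : X ⟶ Y) {U V : Over S}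
    (a : (AlgSp.yon S).obj U ⟶ X) (b : (AlgSp.yon S).obj V ⟶ Y) (h : U ⟶ V)
    (hae : AlgSp.RepWith @Etale a) (has : AlgSp.RepWith @Surjective a)
    (hbe : AlgSp.RepWith @Etale b) (hw : a ≫ f = (AlgSp.yon S).map h ≫ b)
    (hh : FormallyUnramified h.left) : AlgSp.IsFormallyUnramifiedMor f := by
  have hbU := formallyUnramified_of_repEtale b hbe
  refine formallyUnramified_of_cover a f hae has (fun {W W₀} k hk hsq u₁ u₂ e1 e2 => ?_)
  obtain ⟨v₁, rfl⟩ := (AlgSp.yon S).map_surjective u₁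
  obtain ⟨v₂, rfl⟩ := (AlgSp.yon S).map_surjective u₂
  have e3 : (AlgSp.yon S).map (v₁ ≫ h) = (AlgSp.yon S).map (v₂ ≫ h) := by
    rw [Functor.map_comp, Functor.map_comp]
    apply eq_of_sqZero b hbU k hk hsq
    · rw [← Category.assoc, e1, Category.assoc]
    · rw [Category.assoc, Category.assoc, ← hw]
      exact e2
  have e4 : v₁ ≫ h = v₂ ≫ h := (AlgSp.yon S).map_injective e3
  have e5 : k ≫ v₁ = k ≫ v₂ := by
    apply (AlgSp.yon S).map_injective
    rw [Functor.map_comp, Functor.map_comp]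
    exact e1
  haveI := hk.1
  have hnil : IsNilpotent k.left.ker := ⟨2, by
    rw [pow_two, hsq, Scheme.IdealSheafData.zero_eq_bot]⟩
  have e6 : v₁.left = v₂.left :=
    FormallyUnramified.hom_ext k.left hnil h.left (congrArg CommaMorphism.left e5)
      (congrArg CommaMorphism.left e4)
  rw [Over.OverMorphism.ext e6]

/-- one surjective chart with formally étale chart map makes `f` formally étale. -/
theorem formallyEtale_of_chart {X Y : AlgSp.Sp S} (f : X ⟶ Y) {U V : Over S}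
    (a : (AlgSp.yon S).obj U ⟶ X) (b : (AlgSp.yon S).obj V ⟶ Y) (h : U ⟶ V)
    (hae : AlgSp.RepWith @Etale a) (has : AlgSp.RepWith @Surjective a)
    (hbe : AlgSp.RepWith @Etale b) (hw : a ≫ f = (AlgSp.yon S).map h ≫ b)
    (hh : MoreMor.IsFormallyEtaleHom h.left) : AlgSp.IsFormallyEtaleMor f := by
  have hfU := formallyUnramified_of_chart f a b h hae has hbe hw
    (formallyUnramified_of_isFormallyEtaleHom h.left hh)
  have hbS := formallySmooth_of_repEtale b hbe
  refine (isFormallyEtaleMor_iff f).2 ⟨?_, hfU⟩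
  refine formallySmooth_of_cover a f hae has hfU (fun {Z Z₀} i hZ hth hsq top bot w => ?_)
  haveI := hZ
  haveI := hth.1
  obtain ⟨t₀, rfl⟩ := (AlgSp.yon S).map_surjective top
  have wb : ((AlgSp.yon S).map t₀ ≫ (AlgSp.yon S).map h) ≫ b = (AlgSp.yon S).map i ≫ bot := by
    rw [Category.assoc, ← hw]
    exact w
  obtain ⟨b', hb1, hb2⟩ := exists_lift_sqZero_affine b hbS i hsq _ bot wb
  obtain ⟨b₀, rfl⟩ := (AlgSp.yon S).map_surjective b'
  have hb1' : i ≫ b₀ = t₀ ≫ h := by
    apply (AlgSp.yon S).map_injective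
    rw [Functor.map_comp, Functor.map_comp]
    exact hb1
  obtain ⟨l, ⟨hl1, hl2⟩, -⟩ := Groth.Agent.S1516.result h.left hh i.left ⟨hth, hsq⟩ t₀.left b₀.left
    (congrArg CommaMorphism.left hb1')
  let l' : Z ⟶ U := Over.homMk l (by
    rw [← Over.w h, ← Category.assoc, hl2, Over.w b₀])
  have el1 : i ≫ l' = t₀ := Over.OverMorphism.ext hl1
  have el2 : l' ≫ h = b₀ := Over.OverMorphism.ext hl2
  refine ⟨(AlgSp.yon S).map l', ?_, ?_⟩
  · rw [← Functor.map_comp, el1]
  · rw [hw, ← Category.assoc, ← Functor.map_comp, el2, hb2]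

/-- a formally unramified morphism of sheaves is formally unramified on every chart. -/
theorem formallyUnramified_chart_of {X Y : AlgSp.Sp S} (f : X ⟶ Y)
    (hf : AlgSp.IsFormallyUnramifiedMor f) {U V : Over S}
    (a : (AlgSp.yon S).obj U ⟶ X) (b : (AlgSp.yon S).obj V ⟶ Y) (h : U ⟶ V)
    (hae : AlgSp.RepWith @Etale a) (hw : a ≫ f = (AlgSp.yon S).map h ≫ b) :
    FormallyUnramified h.left := by
  have haU := formallyUnramified_of_repEtale a hae
  rw [HasRingHomProperty.iff_appLE (P := @FormallyUnramified)]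
  rintro ⟨V₀, hV₀⟩ ⟨U₀, hU₀⟩ e
  algebraize [(h.left.appLE V₀ U₀ e).hom]
  show Algebra.FormallyUnramified Γ(V.left, V₀) Γ(U.left, U₀)
  rw [Algebra.FormallyUnramified.iff_comp_injective]
  intro B _ _ I hI ψ₁ ψ₂ hψ
  have hfac : Spec.map (h.left.appLE V₀ U₀ e) ≫ hV₀.fromSpec = hU₀.fromSpec ≫ h.left :=
    IsAffineOpen.SpecMap_appLE_fromSpec h.left hV₀ hU₀ e
  let n : Spec (CommRingCat.of B) ⟶ V.left :=
    Spec.map (CommRingCat.ofHom (algebraMap Γ(V.left, V₀) B)) ≫ hV₀.fromSpec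
  have key : ∀ ψ : Γ(U.left, U₀) →ₐ[Γ(V.left, V₀)] B,
      (Spec.map (CommRingCat.ofHom ψ.toRingHom) ≫ hU₀.fromSpec) ≫ h.left = n := by
    intro ψ
    rw [Category.assoc, ← hfac, ← Category.assoc, ← Spec.map_comp]
    congr 2
    ext r
    exact ψ.commutes r
  have h' : ∀ x, Ideal.Quotient.mk I (ψ₁ x) = Ideal.Quotient.mk I (ψ₂ x) :=
    fun x => congr($hψ x)
  obtain ⟨str, hstr⟩ : ∃ s : Spec (CommRingCat.of B) ⟶ S, s = n ≫ V.hom := ⟨_, rfl⟩
  let m : (Γ(U.left, U₀) →ₐ[Γ(V.left, V₀)] B) → (Over.mk str ⟶ U) := fun ψ =>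
    Over.homMk (Spec.map (CommRingCat.ofHom ψ.toRingHom) ≫ hU₀.fromSpec) (by
      show (Spec.map (CommRingCat.ofHom ψ.toRingHom) ≫ hU₀.fromSpec) ≫ U.hom = str
      rw [hstr, ← Over.w h, ← Category.assoc, key ψ])
  let n' : Over.mk str ⟶ V := Over.homMk n hstr.symm
  have hmn : ∀ ψ, m ψ ≫ h = n' := fun ψ => Over.OverMorphism.ext (key ψ)
  let J : Over.mk (Spec.map (CommRingCat.ofHom (Ideal.Quotient.mk I)) ≫ str) ⟶ Over.mk str :=
    Over.homMk (Spec.map (CommRingCat.ofHom (Ideal.Quotient.mk I))) rfl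
  have hJ : J ≫ m ψ₁ = J ≫ m ψ₂ := by
    apply Over.OverMorphism.ext
    show Spec.map (CommRingCat.ofHom (Ideal.Quotient.mk I)) ≫
        Spec.map (CommRingCat.ofHom ψ₁.toRingHom) ≫ hU₀.fromSpec =
      Spec.map (CommRingCat.ofHom (Ideal.Quotient.mk I)) ≫
        Spec.map (CommRingCat.ofHom ψ₂.toRingHom) ≫ hU₀.fromSpec
    rw [← Category.assoc, ← Category.assoc, ← Spec.map_comp, ← Spec.map_comp]
    congr 2
    ext x
    exact h' x
  have hJ' : (AlgSp.yon S).map J ≫ (AlgSp.yon S).map (m ψ₁) =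
      (AlgSp.yon S).map J ≫ (AlgSp.yon S).map (m ψ₂) := by
    rw [← Functor.map_comp, ← Functor.map_comp, hJ]
  have e1 : (AlgSp.yon S).map (m ψ₁) ≫ a = (AlgSp.yon S).map (m ψ₂) ≫ a := by
    apply eq_of_sqZero_spec f hf B I hI str
    · rw [← Category.assoc, ← Category.assoc, hJ']
    · rw [Category.assoc, Category.assoc, hw, ← Category.assoc, ← Category.assoc,
        ← Functor.map_comp, ← Functor.map_comp, hmn, hmn]
  have e2 : (AlgSp.yon S).map (m ψ₁) = (AlgSp.yon S).map (m ψ₂) :=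
    eq_of_sqZero_spec a haU B I hI str _ _ hJ' e1
  have e3 : (m ψ₁).left = (m ψ₂).left :=
    congrArg CommaMorphism.left ((AlgSp.yon S).map_injective e2)
  have e4 : Spec.map (CommRingCat.ofHom ψ₁.toRingHom) ≫ hU₀.fromSpec =
      Spec.map (CommRingCat.ofHom ψ₂.toRingHom) ≫ hU₀.fromSpec := e3
  rw [cancel_mono] at e4
  have e5 := Spec.map_injective e4
  ext x
  exact congr($(e5).hom x)

/-- a formally étale morphism of sheaves is formally étale (lifting sense) on every chart. -/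
theorem formallyEtaleHom_chart_of {X Y : AlgSp.Sp S} (f : X ⟶ Y)
    (hf : AlgSp.IsFormallyEtaleMor f) {U V : Over S}
    (a : (AlgSp.yon S).obj U ⟶ X) (b : (AlgSp.yon S).obj V ⟶ Y) (h : U ⟶ V)
    (hae : AlgSp.RepWith @Etale a) (hbe : AlgSp.RepWith @Etale b)
    (hw : a ≫ f = (AlgSp.yon S).map h ≫ b) : MoreMor.IsFormallyEtaleHom h.left := by
  have haE := formallyEtale_of_repEtale a hae
  have hbU := formallyUnramified_of_repEtale b hbe
  intro A _ I hI a0 b0 w0
  obtain ⟨str, hstr⟩ : ∃ s : Spec (CommRingCat.of A) ⟶ S, s = b0 ≫ V.hom := ⟨_, rfl⟩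
  let J : Over.mk (Spec.map (CommRingCat.ofHom (Ideal.Quotient.mk I)) ≫ str) ⟶ Over.mk str :=
    Over.homMk (Spec.map (CommRingCat.ofHom (Ideal.Quotient.mk I))) rfl
  let a0' : Over.mk (Spec.map (CommRingCat.ofHom (Ideal.Quotient.mk I)) ≫ str) ⟶ U :=
    Over.homMk a0 (by
      show a0 ≫ U.hom = Spec.map (CommRingCat.ofHom (Ideal.Quotient.mk I)) ≫ str
      rw [hstr, ← Over.w h, ← Category.assoc, ← w0, Category.assoc])
  let b0' : Over.mk str ⟶ V := Over.homMk b0 hstr.symm
  have hJ : J ≫ b0' = a0' ≫ h := Over.OverMorphism.ext w0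
  have hJ' : (AlgSp.yon S).map J ≫ (AlgSp.yon S).map b0' =
      (AlgSp.yon S).map a0' ≫ (AlgSp.yon S).map h := by
    rw [← Functor.map_comp, ← Functor.map_comp, hJ]
  let sqf : AlgSp.InfSq f :=
    { A := A, I := I, sq_zero := hI, str := str,
      top := (AlgSp.yon S).map a0' ≫ a
      bot := (AlgSp.yon S).map b0' ≫ b
      comm := ((Category.assoc _ _ _).trans
        (congrArg (fun t => (AlgSp.yon S).map a0' ≫ t) hw)).trans
          (((Category.assoc _ _ _).symm.trans (congrArg (fun t => t ≫ b) hJ'.symm)).trans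
            (Category.assoc _ _ _)) }
  obtain ⟨l, ⟨hl1, hl2⟩, hlu⟩ := hf sqf
  have hl1' : (AlgSp.yon S).map J ≫ l = (AlgSp.yon S).map a0' ≫ a := hl1
  have hl2' : l ≫ f = (AlgSp.yon S).map b0' ≫ b := hl2
  let sqa : AlgSp.InfSq a :=
    { A := A, I := I, sq_zero := hI, str := str,
      top := (AlgSp.yon S).map a0'
      bot := l
      comm := hl1'.symm }
  obtain ⟨lU, ⟨hlU1, hlU2⟩, hlUu⟩ := haE sqa
  have hlU1' : (AlgSp.yon S).map J ≫ lU = (AlgSp.yon S).map a0' := hlU1
  have hlU2' : lU ≫ a = l := hlU2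
  obtain ⟨l₀, rfl⟩ := (AlgSp.yon S).map_surjective lU
  have hl₀J : J ≫ l₀ = a0' := by
    apply (AlgSp.yon S).map_injective
    rw [Functor.map_comp]
    exact hlU1'
  have hl₀h : l₀ ≫ h = b0' := by
    apply (AlgSp.yon S).map_injective
    apply eq_of_sqZero_spec b hbU A I hI str
    · rw [← Functor.map_comp, ← Functor.map_comp, ← Category.assoc, hl₀J, hJ]
    · rw [Functor.map_comp, Category.assoc, ← hw, ← Category.assoc, hlU2', hl2']
  refine ⟨l₀.left, ⟨congrArg CommaMorphism.left hl₀J, congrArg CommaMorphism.left hl₀h⟩, ?_⟩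
  rintro l₁ ⟨h1, h2⟩
  let l₁' : Over.mk str ⟶ U := Over.homMk l₁ (by
    show l₁ ≫ U.hom = str
    rw [hstr, ← Over.w h, ← Category.assoc, h2])
  have e1 : J ≫ l₁' = a0' := Over.OverMorphism.ext h1
  have e2 : l₁' ≫ h = b0' := Over.OverMorphism.ext h2
  have e3 : (AlgSp.yon S).map l₁' ≫ a = l := by
    apply hlu
    refine ⟨?_, ?_⟩
    · show (AlgSp.yon S).map J ≫ (AlgSp.yon S).map l₁' ≫ a = (AlgSp.yon S).map a0' ≫ a
      rw [← Category.assoc, ← Functor.map_comp, e1]
    · show ((AlgSp.yon S).map l₁' ≫ a) ≫ f = (AlgSp.yon S).map b0' ≫ b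
      rw [Category.assoc, hw, ← Category.assoc, ← Functor.map_comp, e2]
  have e4 : (AlgSp.yon S).map l₁' = (AlgSp.yon S).map l₀ := by
    apply hlUu
    refine ⟨?_, e3⟩
    show (AlgSp.yon S).map J ≫ (AlgSp.yon S).map l₁' = (AlgSp.yon S).map a0'
    rw [← Functor.map_comp, e1]
  exact congrArg CommaMorphism.left ((AlgSp.yon S).map_injective e4)

/-- a flat and unramified morphism of algebraic spaces is formally étale. -/
theorem formallyEtale_of_flat_unramified {X Y : AlgSp.Sp S} (hX : AlgSp.IsAlgSpace X)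
    (hY : AlgSp.IsAlgSpace Y) (f : X ⟶ Y)
    (h1 : AlgSp.LocP (@LocallyOfFiniteType ⊓ @FormallyUnramified) f)
    (h2 : AlgSp.LocP @Flat f) : AlgSp.IsFormallyEtaleMor f := by
  obtain ⟨U, V, a, b, h, hae, has, hbe, -, hw⟩ :=
    Groth.Agent.Lib.H5bHasAtMor.exists_atlas_chart hX hY f
  haveI : Flat h.left := h2 a b h hae hbe hw
  obtain ⟨hlft, hfu⟩ := h1 a b h hae hbe hw
  haveI : LocallyOfFiniteType h.left := hlft
  haveI : FormallyUnramified h.left := hfu
  exact formallyEtale_of_chart f a b h hae has hbe hw (Groth.Agent.S9771.result h.left)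

end Groth.Agent.Lib.H5bFormal
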