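import Mathlib
import Groth.Prelude.Def_AlgSp
import Groth.Prelude.Def_AlgSp3
import Groth.Prelude.Def_AlgSp4
import Groth.Agent.Lib.H5bBootB
import Groth.Agent.Lib.Helper12OpenSub2
import Groth.Agent.Lib.Helper12SrcLocal
import Groth.Agent.S10262
import Groth.Agent.S9938
import Groth.Agent.S10621
import Groth.Agent.S10260

/-!
# Unramified monomorphisms of algebraic spaces (helper5)

* `locP_of_repWith`: a representable morphism with property `P` has `P` on all chart diagrams;
* `isIso_of_open_surjective`: a representable open immersion surjective on points is an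
  isomorphism;
* `isUnivInjectiveMor_of_mono`, `mono_of_unramified_univInjective`;
* `locP_unramified_of_mono`: a monomorphism locally of finite type is unramified;
* `mono_lft_consequences`: it is representable, separated and locally quasi-finite.
-/

set_option autoImplicit false
set_option linter.style.haveILetI false
set_option linter.unusedSectionVars false
set_option linter.unusedSimpArgs false
set_option linter.unusedVariables false
universe u

open CategoryTheory CategoryTheory.Limits AlgebraicGeometry AlgSp Opposite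

namespace Groth.Agent.Lib.H5bBoot

variable {S : Scheme.{u}}

/-- a representable morphism with property `P` has `P` on all chart diagrams. -/
theorem locP_of_repWith {P : MorphismProperty Scheme.{u}}
    (hP : Groth.Agent.Lib.Helper12.LocPCases.Good P) {X Y : AlgSp.Sp S} (f : X ⟶ Y)
    (hf : AlgSp.RepWith P f) : AlgSp.LocP P f := by
  intro U V a b h hae hbe hcomm
  obtain ⟨W, w, fstW, sqW⟩ := hf.1 b
  have hPw : P w.left := hf.2 b fstW w sqW
  obtain ⟨k, hk⟩ := (yon S).map_surjective (sqW.lift a ((yon S).map h) hcomm)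
  have hk1 : (yon S).map k ≫ fstW = a := by rw [hk, sqW.lift_fst]
  have hk2 : k ≫ w = h := (yon S).map_injective (by rw [Functor.map_comp, hk, sqW.lift_snd])
  have hfe : AlgSp.RepWith @Etale fstW :=
    MorphismProperty.of_isPullback (P := AlgSp.RepWith @Etale) sqW.flip hbe
  have hke : Etale k.left :=
    Groth.Agent.Lib.Helper12.SrcLocal.etale_of_chart_comp fstW a k hfe hae hk1
  rw [← hk2]
  haveI := hP.comp
  exact P.comp_mem _ _ (hP.hEt _ hke) hPw

/-- a representable open immersion which is surjective on points is an isomorphism. -/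
theorem isIso_of_open_surjective {A Y : AlgSp.Sp S} (j : A ⟶ Y)
    (hj : AlgSp.RepWith @IsOpenImmersion j) (hs : AlgSp.IsSurjectiveMor j) : IsIso j := by
  have hid : AlgSp.RepWith @IsOpenImmersion (𝟙 Y) :=
    MorphismProperty.id_mem (AlgSp.RepWith @IsOpenImmersion) Y
  obtain ⟨e, he⟩ := Groth.Agent.Lib.Helper12.OpenSub.iso_of_range_eq j hj (𝟙 Y) hid (by
    rw [Set.range_eq_univ.2 hs]
    symm
    rw [Set.range_eq_univ]
    intro y
    exact ⟨y, AlgSp.Points.map_id y⟩)
  rw [Category.comp_id] at he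
  rw [← he]
  infer_instance

theorem isUnivInjectiveMor_of_mono {X Y : AlgSp.Space S} (f : X ⟶ Y) [Mono f.hom] :
    AlgSp.IsUnivInjectiveMor f.hom :=
  (Groth.Agent.S9938.result f).1.1 (fun K _ str a b hab => (cancel_mono f.hom).1 hab)

theorem mono_of_unramified_univInjective {X Y : AlgSp.Space S} (f : X ⟶ Y)
    (hunr : AlgSp.LocP (@LocallyOfFiniteType ⊓ @FormallyUnramified) f.hom)
    (hinj : AlgSp.IsUnivInjectiveMor f.hom) : Mono f.hom := by
  have hΔo := (Groth.Agent.S10262.result f).1 hunr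
  have hΔs := (Groth.Agent.S9938.result f).2.1 hinj
  haveI := isIso_of_open_surjective _ hΔo hΔs
  exact (pullback.isIso_diagonal_iff f.hom).1 inferInstance

theorem locP_unramified_of_mono {X Y : AlgSp.Sp S} (f : X ⟶ Y) [Mono f]
    (hf : AlgSp.LocP @LocallyOfFiniteType f) :
    AlgSp.LocP (@LocallyOfFiniteType ⊓ @FormallyUnramified) f := by
  intro U V a b h hae hbe hcomm
  haveI : LocallyOfFiniteType h.left := hf a b h hae hbe hcomm
  haveI := isOpenImmersion_diagonal_of_mono f a hae b h hcomm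
  exact ⟨inferInstance, inferInstance⟩

theorem mono_lft_consequences {X Y : AlgSp.Space S} (f : X ⟶ Y) [Mono f.hom]
    (hf : AlgSp.LocP @LocallyOfFiniteType f.hom) :
    AlgSp.Representable f.hom ∧ AlgSp.IsSeparatedMor f.hom ∧
      AlgSp.LocP (@LocallyQuasiFinite ⊓ @LocallyOfFiniteType) f.hom := by
  have hqf := locP_lqf_of_mono f.hom hf
  have hsep := Groth.Agent.Lib.Helper12.Proper.isSeparatedMor_of_mono f.hom
  exact ⟨Groth.Agent.S10260.result f hqf hsep, hsep, hqf⟩

/-- the four equivalent forms of an unramified monomorphism. -/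
theorem unramified_mono_tfae {X Y : AlgSp.Space S} (f : X ⟶ Y) :
    ((AlgSp.LocP (@LocallyOfFiniteType ⊓ @FormallyUnramified) f.hom ∧ Mono f.hom) ↔
      (AlgSp.LocP (@LocallyOfFiniteType ⊓ @FormallyUnramified) f.hom ∧
        AlgSp.IsUnivInjectiveMor f.hom)) ∧
    ((AlgSp.LocP (@LocallyOfFiniteType ⊓ @FormallyUnramified) f.hom ∧ Mono f.hom) ↔
      (AlgSp.LocP @LocallyOfFiniteType f.hom ∧ Mono f.hom)) ∧
    ((AlgSp.LocP (@LocallyOfFiniteType ⊓ @FormallyUnramified) f.hom ∧ Mono f.hom) ↔
      (AlgSp.IsUnivInjectiveMor f.hom ∧ AlgSp.LocP @LocallyOfFiniteType f.hom ∧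
        AlgSp.IsFormallyUnramifiedMor f.hom)) := by
  have hl : AlgSp.LocP (@LocallyOfFiniteType ⊓ @FormallyUnramified) f.hom →
      AlgSp.LocP @LocallyOfFiniteType f.hom := fun h =>
    Groth.Agent.Lib.Helper12.LargestOpen.locP_mono (fun _ _ g hg => hg.1) h
  have hu : AlgSp.LocP (@LocallyOfFiniteType ⊓ @FormallyUnramified) f.hom →
      AlgSp.LocP @FormallyUnramified f.hom := fun h =>
    Groth.Agent.Lib.Helper12.LargestOpen.locP_mono (fun _ _ g hg => hg.2) h
  refine ⟨⟨fun ⟨h1, h2⟩ => ⟨h1, ?_⟩, fun ⟨h1, h2⟩ => ⟨h1, mono_of_unramified_univInjective f h1 h2⟩⟩,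
    ⟨fun ⟨h1, h2⟩ => ⟨hl h1, h2⟩, fun ⟨h1, h2⟩ => ⟨?_, h2⟩⟩,
    ⟨fun ⟨h1, h2⟩ => ⟨?_, hl h1, (Groth.Agent.S10621.result f).1.2 (hu h1)⟩, fun ⟨h1, h2, h3⟩ => ?_⟩⟩
  · haveI := h2
    exact isUnivInjectiveMor_of_mono f
  · haveI := h2
    exact locP_unramified_of_mono f.hom h1
  · haveI := h2
    exact isUnivInjectiveMor_of_mono f
  · have h4 := (Groth.Agent.S10621.result f).1.1 h3
    have hunr : AlgSp.LocP (@LocallyOfFiniteType ⊓ @FormallyUnramified) f.hom :=
      fun U V a b h hae hbe hcomm => ⟨h2 a b h hae hbe hcomm, h4 a b h hae hbe hcomm⟩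
    exact ⟨hunr, mono_of_unramified_univInjective f hunr h1⟩

end Groth.Agent.Lib.H5bBoot
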