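import Mathlib
import Groth.Prelude.Def_AlgSp
import Groth.Prelude.Def_AlgSp3
import Groth.Prelude.Def_AlgSp4
import Groth.Agent.Lib.H5bBootC
import Groth.Agent.S9922
import Groth.Agent.S9928

/-!
# Closed immersions of algebraic spaces (helper5)

`closedImmersion_iff`: a morphism of algebraic spaces is a closed immersion iff it is a universally
closed monomorphism locally of finite type.
-/

set_option autoImplicit false
set_option linter.style.haveILetI false
set_option linter.unusedSectionVars false
set_option linter.unusedSimpArgs false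
set_option linter.unusedVariables false
universe u

open CategoryTheory CategoryTheory.Limits AlgebraicGeometry AlgSp Opposite

namespace Groth.Agent.Lib.H5bBoot

variable {S : Scheme.{u}}

theorem closedImmersion_iff {X Y : AlgSp.Space S} (f : X ⟶ Y) :
    AlgSp.RepWith @IsClosedImmersion f.hom ↔
      (AlgSp.IsUnivClosedMor f.hom ∧ AlgSp.LocP @LocallyOfFiniteType f.hom ∧ Mono f.hom) := by
  constructor
  · intro h
    have hrep : AlgSp.Representable f.hom := h.1
    refine ⟨(Groth.Agent.S9922.result f hrep).1 (Groth.Agent.Lib.Helper12.OpenSub.repWith_mono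
      (fun _ _ g hg => by haveI : IsClosedImmersion g := hg; infer_instance) h),
      locP_of_repWith Groth.Agent.Lib.Helper12.LocPCases.good_lft f.hom
        (Groth.Agent.Lib.Helper12.OpenSub.repWith_mono
          (fun _ _ g hg => by haveI : IsClosedImmersion g := hg; infer_instance) h),
      Groth.Agent.S9928.mono_of_repWith @IsClosedImmersion
        (fun X Y g hg => by haveI : IsClosedImmersion g := hg; infer_instance) f.hom h⟩
  · rintro ⟨hUC, hlft, hmono⟩
    haveI := hmono
    obtain ⟨hrep, hsep, hqf⟩ := mono_lft_consequences f hlft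
    have hUC' : AlgSp.RepWith @UniversallyClosed f.hom := (Groth.Agent.S9922.result f hrep).2 hUC
    refine ⟨hrep, fun T W g fst w sq => ?_⟩
    change IsClosedImmersion w.left
    haveI : UniversallyClosed w.left := hUC'.2 g fst w sq
    haveI : LocallyOfFiniteType w.left :=
      AlgSp.locP_yon_map (Groth.Agent.Lib.Helper12.LocPCases.good_lft.locP_baseChange X.property
        Y.property (AlgSp.IsAlgSpace.yon_obj T) sq hlft)
    haveI : Mono ((yon S).map w) := sq.mono_snd_of_mono
    haveI : Mono w := (yon S).mono_of_mono_map inferInstance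
    haveI : Mono w.left := inferInstance
    haveI : IsProper w.left := {}
    exact (IsClosedImmersion.iff_isProper_and_mono w.left).2 ⟨inferInstance, inferInstance⟩

/-- the four characterisations of closed immersions. -/
theorem closedImmersion_tfae {X Y : AlgSp.Space S} (f : X ⟶ Y) :
    (AlgSp.RepWith @IsClosedImmersion f.hom ↔
      (AlgSp.IsUnivClosedMor f.hom ∧
        AlgSp.LocP (@LocallyOfFiniteType ⊓ @FormallyUnramified) f.hom ∧ Mono f.hom)) ∧
    (AlgSp.RepWith @IsClosedImmersion f.hom ↔
      (AlgSp.IsUnivClosedMor f.hom ∧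
        AlgSp.LocP (@LocallyOfFiniteType ⊓ @FormallyUnramified) f.hom ∧
        AlgSp.IsUnivInjectiveMor f.hom)) ∧
    (AlgSp.RepWith @IsClosedImmersion f.hom ↔
      (AlgSp.IsUnivClosedMor f.hom ∧ AlgSp.LocP @LocallyOfFiniteType f.hom ∧ Mono f.hom)) ∧
    (AlgSp.RepWith @IsClosedImmersion f.hom ↔
      (AlgSp.IsUnivClosedMor f.hom ∧ AlgSp.IsUnivInjectiveMor f.hom ∧
        AlgSp.LocP @LocallyOfFiniteType f.hom ∧ AlgSp.IsFormallyUnramifiedMor f.hom)) := by
  obtain ⟨h1, h2, h3⟩ := unramified_mono_tfae f
  have h0 := closedImmersion_iff f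
  refine ⟨?_, ?_, h0, ?_⟩
  · rw [h0, h2]
  · rw [h0, ← h1, h2]
  · rw [h0, ← h3, h2]

end Groth.Agent.Lib.H5bBoot
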