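import Mathlib
import Groth.Prelude.Def_AlgSpDec
import Groth.Prelude.Def_AlgSp3
import Groth.Prelude.Def_AlgSp4
import Groth.Agent.S10176
import Groth.Agent.S10177

/-!
# Chart diagrams compatible with a base change (helper5, second batch)

`exists_cartesian_charts`: for a pullback square of algebraic spaces `X' = X ×_Y Y'` there are chart
diagrams `h : U ⟶ V` of `f` and `h' : U' ⟶ V'` of `f'` with `U' = U ×_V V'` as schemes, compatible
with the projections, and with `h_{U'} ⟶ X'` étale and surjective.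
-/

set_option autoImplicit false
universe u
open CategoryTheory CategoryTheory.Limits AlgebraicGeometry Topology TopologicalSpace

namespace Groth.Agent.Lib.H5bChartBC

open AlgSp

variable {S : Scheme.{u}}

theorem exists_cartesian_charts {X Y X' Y' : AlgSp.Sp S} (hX : IsAlgSpace X) (hY : IsAlgSpace Y)
    (hY' : IsAlgSpace Y') {f : X ⟶ Y} {g : Y' ⟶ Y} {g' : X' ⟶ X} {f' : X' ⟶ Y'}
    (sq : IsPullback g' f' f g) :
    ∃ (U V U' V' : Over S) (a : (yon S).obj U ⟶ X) (b : (yon S).obj V ⟶ Y)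
      (a' : (yon S).obj U' ⟶ X') (b' : (yon S).obj V' ⟶ Y') (h : U ⟶ V) (h' : U' ⟶ V')
      (pU : U' ⟶ U) (pV : V' ⟶ V),
      RepWith @Etale a ∧ RepWith @Etale b ∧ RepWith @Etale a' ∧ RepWith @Surjective a' ∧
      RepWith @Etale b' ∧
      a ≫ f = (yon S).map h ≫ b ∧ a' ≫ f' = (yon S).map h' ≫ b' ∧
      a' ≫ g' = (yon S).map pU ≫ a ∧ b' ≫ g = (yon S).map pV ≫ b ∧
      IsPullback pU.left h'.left h.left pV.left := by
  obtain ⟨U₀, a₀, ha₀, ha₀s⟩ := hX.atlas
  obtain ⟨V, b, hb, hbs⟩ := hY.atlas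
  obtain ⟨V'₀, b'₀, hb'₀, hb'₀s⟩ := hY'.atlas
  -- `V' = V ×_Y V'₀`
  have sqV := hb.rep.isPullback' (b'₀ ≫ g)
  set pV := hb.rep.fst' (b'₀ ≫ g) with hpV
  set eV := hb.rep.snd (b'₀ ≫ g) with heV
  have heVe : Etale eV.left := hb.property_snd (b'₀ ≫ g)
  have heVs : Surjective eV.left := hbs.property_snd (b'₀ ≫ g)
  have hb' : RepWith @Etale ((yon S).map eV ≫ b'₀) :=
    (RepWith @Etale).comp_mem _ _ ((repWith_yon_map_iff @Etale eV).2 heVe) hb'₀
  have hb's : RepWith @Surjective ((yon S).map eV ≫ b'₀) :=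
    (RepWith @Surjective).comp_mem _ _ ((repWith_yon_map_iff @Surjective eV).2 heVs) hb'₀s
  have hbg : ((yon S).map eV ≫ b'₀) ≫ g = (yon S).map pV ≫ b := by
    rw [Category.assoc]; exact sqV.w.symm
  -- `U = U₀ ×_Y V`
  have sqU := hb.rep.isPullback' (a₀ ≫ f)
  set h := hb.rep.fst' (a₀ ≫ f) with hh
  set prU := hb.rep.snd (a₀ ≫ f) with hprU
  have hprUe : Etale prU.left := hb.property_snd (a₀ ≫ f)
  have ha : RepWith @Etale ((yon S).map prU ≫ a₀) :=
    (RepWith @Etale).comp_mem _ _ ((repWith_yon_map_iff @Etale prU).2 hprUe) ha₀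
  have haf : ((yon S).map prU ≫ a₀) ≫ f = (yon S).map h ≫ b := by
    rw [Category.assoc]; exact sqU.w.symm
  -- `U' = U ×_V V'`
  have sqU' : IsPullback ((yon S).map (pullback.fst h pV)) ((yon S).map (pullback.snd h pV))
      ((yon S).map h) ((yon S).map pV) := (IsPullback.of_hasPullback h pV).map (yon S)
  -- the map to `X'`
  have w : ((yon S).map (pullback.fst h pV) ≫ (yon S).map prU ≫ a₀) ≫ f =
      ((yon S).map (pullback.snd h pV) ≫ (yon S).map eV ≫ b'₀) ≫ g := by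
    rw [Category.assoc, haf, ← Category.assoc, sqU'.w, Category.assoc, Category.assoc, hbg]
  obtain ⟨a', ha'⟩ : ∃ a' : (yon S).obj (pullback h pV) ⟶ X', a' = sq.lift _ _ w := ⟨_, rfl⟩
  have ha'1 : a' ≫ g' = (yon S).map (pullback.fst h pV) ≫ (yon S).map prU ≫ a₀ := by
    rw [ha', sq.lift_fst]
  have ha'2 : a' ≫ f' = (yon S).map (pullback.snd h pV) ≫ (yon S).map eV ≫ b'₀ := by
    rw [ha', sq.lift_snd]
  -- `A₁ = U₀ ×_X X'`
  have sqA : IsPullback (pullback.fst a₀ g') (pullback.snd a₀ g') a₀ g' :=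
    IsPullback.of_hasPullback a₀ g'
  have hπ2e : RepWith @Etale (pullback.snd a₀ g') :=
    MorphismProperty.of_isPullback (P := RepWith @Etale) sqA ha₀
  have hπ2s : RepWith @Surjective (pullback.snd a₀ g') :=
    MorphismProperty.of_isPullback (P := RepWith @Surjective) sqA ha₀s
  have wk : ((yon S).map (pullback.fst h pV) ≫ (yon S).map prU) ≫ a₀ = a' ≫ g' := by
    rw [ha'1, Category.assoc]
  obtain ⟨k, hk⟩ : ∃ k : (yon S).obj (pullback h pV) ⟶ pullback a₀ g', k = sqA.lift _ _ wk :=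
    ⟨_, rfl⟩
  have hk1 : k ≫ pullback.fst a₀ g' = (yon S).map (pullback.fst h pV) ≫ (yon S).map prU := by
    rw [hk, sqA.lift_fst]
  have hk2 : k ≫ pullback.snd a₀ g' = a' := by rw [hk, sqA.lift_snd]
  -- (i) `A₁ = U₀ ×_Y Y'`
  have sqi : IsPullback (pullback.snd a₀ g' ≫ f') (pullback.fst a₀ g') g (a₀ ≫ f) :=
    sqA.flip.paste_horiz sq.flip
  -- (ii) `U' = U₀ ×_Y V'`
  have sqii : IsPullback ((yon S).map (pullback.fst h pV) ≫ (yon S).map prU)
      ((yon S).map (pullback.snd h pV)) (a₀ ≫ f) ((yon S).map pV ≫ b) :=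
    sqU'.paste_horiz sqU.flip
  -- (iii) `U' = A₁ ×_{Y'} V'`
  have sqiii : IsPullback k ((yon S).map (pullback.snd h pV)) (pullback.snd a₀ g' ≫ f')
      ((yon S).map eV ≫ b'₀) := by
    refine IsPullback.of_right ?_ ?_ sqi.flip
    · rw [hk1, hbg]; exact sqii
    · rw [← Category.assoc, hk2, ha'2]
  have hke : RepWith @Etale k :=
    MorphismProperty.of_isPullback (P := RepWith @Etale) sqiii.flip hb'
  have hks : RepWith @Surjective k :=
    MorphismProperty.of_isPullback (P := RepWith @Surjective) sqiii.flip hb's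
  have ha'e : RepWith @Etale a' := by
    rw [← hk2]; exact (RepWith @Etale).comp_mem _ _ hke hπ2e
  have ha's : RepWith @Surjective a' := by
    rw [← hk2]; exact (RepWith @Surjective).comp_mem _ _ hks hπ2s
  refine ⟨_, V, pullback h pV, _, (yon S).map prU ≫ a₀, b, a', (yon S).map eV ≫ b'₀, h,
    pullback.snd h pV, pullback.fst h pV, pV, ha, hb, ha'e, ha's, hb', haf, ha'2, ha'1, hbg, ?_⟩
  exact (IsPullback.of_hasPullback h pV).map (Over.forget S)

end Groth.Agent.Lib.H5bChartBC
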