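import Mathlib
import Groth.Prelude.Def_AlgSpDec
import Groth.Prelude.Def_AlgSp3
import Groth.Prelude.Def_AlgSp4
import Groth.Agent.S10176
import Groth.Agent.S10177
import Groth.Agent.Lib.H5bHasAtMor
import Groth.Agent.Lib.H5bChartBC
import Groth.Agent.Lib.Helper20EtSrc
import Groth.Agent.Lib.Helper20EtLocalSch
import Groth.Agent.Lib.Helper20BCDescSch

/-!
# The unramified locus of a morphism of algebraic spaces (helper5)

* `locP_lft_of_comp`: if `f ≫ q` is locally of finite type then so is `f` (all chart diagrams).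
* `Qunr`, `etLocalQ_unr`: "unramified on a neighbourhood of the point" is étale local on source and
  target; `qunr_iff_stalk`.
* `fu_stalkMap_isPullback_iff`: unramifiedness at a point and base change.
* `isOpen_unrLocus`, `unrLocus_baseChange`.
-/

set_option autoImplicit false
universe u

namespace Groth.Agent.Lib.H5bUnrLocus

open CategoryTheory CategoryTheory.Limits AlgebraicGeometry Opposite AlgSp
open Groth.Agent.Lib.H5bHasAtMor

variable {S : Scheme.{u}}

/-- if `f ≫ q` is locally of finite type, so is `f`. -/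
theorem locP_lft_of_comp {X Y Z : AlgSp.Space S} (f : X ⟶ Y) (q : Y ⟶ Z)
    (hp : AlgSp.LocP @LocallyOfFiniteType (f ≫ q).hom) : AlgSp.LocP @LocallyOfFiniteType f.hom := by
  intro U V a b h ha hb c
  have hmulE := repWith_isMultiplicative (S := S) @Etale
  obtain ⟨W, cW, hcW, hcWs⟩ := Z.property.atlas
  have sqV := hcW.rep.isPullback' (b ≫ q.hom)
  set qq := hcW.rep.fst' (b ≫ q.hom) with hqq
  set eV := hcW.rep.snd (b ≫ q.hom) with heV
  have heVe : Etale eV.left := hcW.property_snd _
  have heVs : Surjective eV.left := hcWs.property_snd _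
  have sqU : IsPullback (pullback.fst h eV).left (pullback.snd h eV).left h.left eV.left :=
    (IsPullback.of_hasPullback h eV).map (Over.forget S)
  haveI heUe : Etale (pullback.fst h eV).left :=
    MorphismProperty.of_isPullback (P := @Etale) sqU.flip heVe
  haveI heUs : Surjective (pullback.fst h eV).left :=
    MorphismProperty.of_isPullback (P := @Surjective) sqU.flip heVs
  have ha' : RepWith @Etale ((yon S).map (pullback.fst h eV) ≫ a) :=
    hmulE.comp_mem _ _ ((repWith_yon_map_iff @Etale _).2 heUe) ha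
  have e1 : (yon S).map (pullback.fst h eV) ≫ (yon S).map h =
      (yon S).map (pullback.snd h eV) ≫ (yon S).map eV := by
    rw [← Functor.map_comp, ← Functor.map_comp, pullback.condition]
  have c' : ((yon S).map (pullback.fst h eV) ≫ a) ≫ (f ≫ q).hom =
      (yon S).map (pullback.snd h eV ≫ qq) ≫ cW := by
    show ((yon S).map (pullback.fst h eV) ≫ a) ≫ f.hom ≫ q.hom = _
    calc ((yon S).map (pullback.fst h eV) ≫ a) ≫ f.hom ≫ q.hom
        = (yon S).map (pullback.fst h eV) ≫ (a ≫ f.hom) ≫ q.hom := by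
          simp only [Category.assoc]
      _ = ((yon S).map (pullback.fst h eV) ≫ (yon S).map h) ≫ b ≫ q.hom := by
          rw [c]; simp only [Category.assoc]
      _ = (yon S).map (pullback.snd h eV) ≫ (yon S).map eV ≫ (b ≫ q.hom) := by
          rw [e1]; simp only [Category.assoc]
      _ = (yon S).map (pullback.snd h eV) ≫ (yon S).map qq ≫ cW := by rw [← sqV.w]
      _ = (yon S).map (pullback.snd h eV ≫ qq) ≫ cW := by
          rw [Functor.map_comp, Category.assoc]
  haveI hl : LocallyOfFiniteType ((pullback.snd h eV).left ≫ qq.left) :=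
    hp _ cW (pullback.snd h eV ≫ qq) ha' hcW c'
  haveI : LocallyOfFiniteType (pullback.snd h eV).left := locallyOfFiniteType_of_comp _ qq.left
  haveI := heVe
  haveI : LocallyOfFiniteType ((pullback.fst h eV).left ≫ h.left) := by
    rw [sqU.w]; infer_instance
  exact Groth.Agent.Lib.Helper20.EtSrc.locallyOfFiniteType_of_etale_cover_source
    (pullback.fst h eV).left h.left

/-- unramified (and locally of finite type) on an open neighbourhood of the point. -/
def Qunr : ∀ (U V : Scheme.{u}), (U ⟶ V) → ↥U → Prop :=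
  fun U _ h u => ∃ W : U.Opens, u ∈ W ∧ LocallyOfFiniteType (W.ι ≫ h) ∧ FormallyUnramified (W.ι ≫ h)

theorem etLocalQ_unr : EtLocalQ Qunr.{u} := by
  intro U U' V V' h h' a b ha hb comm u'
  haveI := ha
  haveI := hb
  constructor
  · rintro ⟨W, huW, hl, hfu⟩
    haveI := hl
    haveI := hfu
    haveI : Etale (a ∣_ W) :=
      MorphismProperty.of_isPullback (P := @Etale) (isPullback_morphismRestrict a W).flip ha
    have e : ((a ⁻¹ᵁ W).ι ≫ h') ≫ b = (a ∣_ W) ≫ W.ι ≫ h := by
      rw [Category.assoc, comm, ← Category.assoc, ← morphismRestrict_ι, Category.assoc]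
    refine ⟨a ⁻¹ᵁ W, huW, ?_, ?_⟩
    · haveI : LocallyOfFiniteType (((a ⁻¹ᵁ W).ι ≫ h') ≫ b) := by rw [e]; infer_instance
      exact locallyOfFiniteType_of_comp _ b
    · haveI : FormallyUnramified (((a ⁻¹ᵁ W).ι ≫ h') ≫ b) := by
        rw [e]
        exact MorphismProperty.comp_mem _ _ _ (inferInstance : FormallyUnramified (a ∣_ W)) hfu
      exact FormallyUnramified.of_comp _ b
  · rintro ⟨W', huW', hl, hfu⟩
    haveI := hl
    haveI := hfu
    let W : U.Opens := ⟨a '' (W' : Set ↥U'), a.isOpenMap _ W'.2⟩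
    have hr : Set.range (W'.ι ≫ a) ⊆ Set.range W.ι := by
      rintro _ ⟨w, rfl⟩
      rw [Scheme.Opens.range_ι]
      exact ⟨w.1, w.2, rfl⟩
    let e : (W' : Scheme.{u}) ⟶ (W : Scheme.{u}) := IsOpenImmersion.lift W.ι (W'.ι ≫ a) hr
    have he : e ≫ W.ι = W'.ι ≫ a := IsOpenImmersion.lift_fac _ _ _
    haveI : Etale (e ≫ W.ι) := by rw [he]; infer_instance
    haveI : Etale e := MorphismProperty.of_postcomp (W := @Etale) (W' := @Etale) e W.ι
      inferInstance inferInstance
    haveI : Surjective e := ⟨fun w => by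
      obtain ⟨w', hw', hw⟩ := w.2
      refine ⟨⟨w', hw'⟩, ?_⟩
      apply W.ι.isOpenEmbedding.injective
      rw [← Scheme.Hom.comp_apply, he, Scheme.Hom.comp_apply]
      exact hw⟩
    have e2 : e ≫ (W.ι ≫ h) = (W'.ι ≫ h') ≫ b := by
      rw [← Category.assoc, he, Category.assoc, ← comm, Category.assoc]
    refine ⟨W, ⟨u', huW', rfl⟩, ?_, ?_⟩
    · haveI : LocallyOfFiniteType (e ≫ (W.ι ≫ h)) := by rw [e2]; infer_instance
      exact Groth.Agent.Lib.Helper20.EtSrc.locallyOfFiniteType_of_etale_cover_source e (W.ι ≫ h)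
    · haveI : FormallyUnramified (e ≫ (W.ι ≫ h)) := by
        rw [e2]
        exact MorphismProperty.comp_mem _ _ _ hfu (inferInstance : FormallyUnramified b)
      exact Groth.Agent.Lib.Helper20.EtSrc.formallyUnramified_of_etale_cover_source e (W.ι ≫ h)

/-- for `h` locally of finite type, `Qunr` is unramifiedness of the stalk map. -/
theorem qunr_iff_stalk {U V : Scheme.{u}} (h : U ⟶ V) [LocallyOfFiniteType h] (u : U) :
    Qunr U V h u ↔ (h.stalkMap u).hom.FormallyUnramified := by
  constructor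
  · rintro ⟨W, huW, hl, hfu⟩
    haveI := hfu
    exact Groth.Agent.Lib.Helper20.EtLocal.formallyUnramified_stalkMap_of_nbhd h u W huW
  · intro H
    obtain ⟨W, huW, hW⟩ := Groth.Agent.Lib.Helper20.EtLocal.exists_formallyUnramified_nbhd h u H
    exact ⟨W, huW, inferInstance, hW⟩

/-- unramifiedness at a point and base change. -/
theorem fu_stalkMap_isPullback_iff {U V U' V' : Scheme.{u}} (h : U ⟶ V) [LocallyOfFiniteType h]
    (pV : V' ⟶ V) (pU : U' ⟶ U) (h' : U' ⟶ V') (sq : IsPullback pU h' h pV) (u' : U') :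
    (h'.stalkMap u').hom.FormallyUnramified ↔ (h.stalkMap (pU u')).hom.FormallyUnramified := by
  constructor
  · intro H
    have e1 : sq.isoPullback.hom ≫ pullback.fst h pV = pU := sq.isoPullback_hom_fst
    have e2 : sq.isoPullback.hom ≫ pullback.snd h pV = h' := sq.isoPullback_hom_snd
    have H2 : ((pullback.snd h pV).stalkMap (sq.isoPullback.hom u')).hom.FormallyUnramified := by
      have h3 : ((sq.isoPullback.hom ≫ pullback.snd h pV).stalkMap u').hom.FormallyUnramified := by
        rw [e2]; exact H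
      rw [Scheme.Hom.stalkMap_comp] at h3
      exact (RingHom.FormallyUnramified.respectsIso.cancel_right_isIso _
        (sq.isoPullback.hom.stalkMap u')).mp h3
    have h4 := Groth.Agent.Lib.Helper20.FlatDesc.formallyUnramified_stalkMap_of_baseChange h pV
      (sq.isoPullback.hom u') H2
    have hpt : (pullback.fst h pV) (sq.isoPullback.hom u') = pU u' := by
      rw [← Scheme.Hom.comp_apply, e1]
    rwa [hpt] at h4
  · intro H
    obtain ⟨W, huW, hW⟩ :=
      Groth.Agent.Lib.Helper20.EtLocal.exists_formallyUnramified_nbhd h (pU u') H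
    have htop : IsPullback (pU ∣_ W) (pU ⁻¹ᵁ W).ι W.ι pU := isPullback_morphismRestrict pU W
    have hbig := htop.paste_vert sq
    haveI : FormallyUnramified ((pU ⁻¹ᵁ W).ι ≫ h') :=
      MorphismProperty.of_isPullback (P := @FormallyUnramified) hbig hW
    exact Groth.Agent.Lib.Helper20.EtLocal.formallyUnramified_stalkMap_of_nbhd h' u' (pU ⁻¹ᵁ W) huW

/-- the unramified locus is open. -/
theorem isOpen_unrLocus {X Y : AlgSp.Sp S} (f : X ⟶ Y) :
    IsOpen {x : AlgSp.Points X | AlgSp.HasAtMor Qunr f x} := by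
  rw [isOpen_iff_forall_mem_open]
  rintro x ⟨U, V, a₁, b₁, h, u, ha, hb, c, hu, W, huW, hl, hfu⟩
  refine ⟨AlgSp.Points.ofPt a₁ '' (W : Set ↥U.left), ?_,
    Groth.Agent.S10176.isOpenMap_ofPt a₁ ha _ W.2, ⟨u, huW, hu⟩⟩
  rintro _ ⟨u₁, hu₁, rfl⟩
  exact ⟨U, V, a₁, b₁, h, u₁, ha, hb, c, rfl, W, hu₁, hl, hfu⟩

/-- the unramified locus commutes with base change (for `f` locally of finite type). -/
theorem unrLocus_baseChange {X Y X' Y' : AlgSp.Space S} (f : X ⟶ Y)
    (hf : AlgSp.LocP @LocallyOfFiniteType f.hom) (g : Y' ⟶ Y) (g' : X' ⟶ X) (f' : X' ⟶ Y')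
    (sq : IsPullback g'.hom f'.hom f.hom g.hom) (x' : AlgSp.Points X'.obj) :
    AlgSp.HasAtMor Qunr f'.hom x' ↔ AlgSp.HasAtMor Qunr f.hom (AlgSp.Points.map g'.hom x') := by
  obtain ⟨U, V, U', V', a₁, b₁, a', b', h, h', pU, pV, ha, hb, ha', ha's, hb', c1, c2, c3, c4,
    hpb⟩ := Groth.Agent.Lib.H5bChartBC.exists_cartesian_charts X.property Y.property
      Y'.property sq
  obtain ⟨u', hu'⟩ := Groth.Agent.S10177.surjective_ofPt a' ha's x'
  haveI hlft : LocallyOfFiniteType h.left := hf a₁ b₁ h ha hb c1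
  haveI hlft' : LocallyOfFiniteType h'.left :=
    MorphismProperty.of_isPullback (P := @LocallyOfFiniteType) hpb hlft
  have hu : AlgSp.Points.ofPt a₁ (pU.left u') = AlgSp.Points.map g'.hom x' := by
    rw [← hu', AlgSp.Points.map_ofPt, c3, Groth.Agent.S10176.ofPt_map_comp]
  rw [hasAtMor_iff_of_chart etLocalQ_unr f'.hom x' a' b' h' ha' hb' c2 u' hu',
    hasAtMor_iff_of_chart etLocalQ_unr f.hom _ a₁ b₁ h ha hb c1 (pU.left u') hu,
    qunr_iff_stalk h'.left u', qunr_iff_stalk h.left (pU.left u')]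
  exact fu_stalkMap_isPullback_iff h.left pV.left pU.left h'.left hpb u'

end Groth.Agent.Lib.H5bUnrLocus
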