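import Mathlib
import Groth.Prelude.Def_AlgSp
import Groth.Prelude.Def_AlgSp3
import Groth.Prelude.Def_AlgSp4
import Groth.Agent.Lib.H5bBootD
import Groth.Agent.S10640

/-!
# The locus where a morphism is a closed immersion (helper5)

* `isUnivClosedMor_of_comp`: if `f ≫ q` is universally closed and `q` is separated then `f` is
  universally closed;
* `where_closedImmersion`.
-/

set_option autoImplicit false
set_option linter.style.haveILetI false
set_option linter.unusedSectionVars false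
set_option linter.unusedSimpArgs false
set_option linter.unusedVariables false
universe u

open CategoryTheory CategoryTheory.Limits AlgebraicGeometry AlgSp Opposite

namespace Groth.Agent.Lib.H5bBoot

variable {S : Scheme.{u}}

theorem isUnivClosedMor_of_comp {X Y Z : AlgSp.Space S} (f : X ⟶ Y) (q : Y ⟶ Z)
    (hp : AlgSp.IsUnivClosedMor (f.hom ≫ q.hom)) (hq : AlgSp.IsSeparatedMor q.hom) :
    AlgSp.IsUnivClosedMor f.hom := by
  have sqΓ := pullback_lift_diagonal_isPullback f.hom q.hom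
  have hΓ : AlgSp.RepWith @IsClosedImmersion
      (pullback.lift (𝟙 X.obj) f.hom (by simp) : X.obj ⟶ pullback (f.hom ≫ q.hom) q.hom) :=
    MorphismProperty.of_isPullback (P := AlgSp.RepWith @IsClosedImmersion) sqΓ hq
  have hP : AlgSp.IsAlgSpace (pullback (f.hom ≫ q.hom) q.hom) :=
    Groth.Agent.S9874.isAlgSpace_of_isPullback Z.property.diag X.property Y.property
      (IsPullback.of_hasPullback _ _)
  have h1 := Groth.Agent.Lib.Helper12.Proper.isUnivClosedMor_of_isClosedImmersion _ hΓ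
  have h2 : AlgSp.IsUnivClosedMor (pullback.snd (f.hom ≫ q.hom) q.hom) :=
    Groth.Agent.Lib.Helper12.Proper.isUnivClosedMor_baseChange (IsPullback.of_hasPullback _ _) hp
  have h3 := Groth.Agent.Lib.Helper12.Proper.isUnivClosedMor_comp hP Y.property _ _ h1 h2
  rwa [pullback.lift_snd] at h3

theorem isClosedMor_of_isUnivClosedMor {X Y : AlgSp.Sp S} (hY : AlgSp.IsAlgSpace Y) (f : X ⟶ Y)
    (hf : AlgSp.IsUnivClosedMor f) : AlgSp.IsClosedMor f :=
  hf hY (𝟙 Y) (𝟙 X) f IsPullback.of_id_fst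

/-- **the locus where a morphism is a closed immersion**. -/
theorem where_closedImmersion {X Y Z : AlgSp.Space S}
    (f : X ⟶ Y) (p : X ⟶ Z) (q : Y ⟶ Z) (hc : f ≫ q = p)
    (hp1 : AlgSp.LocP @LocallyOfFiniteType p.hom) (hp2 : AlgSp.IsUnivClosedMor p.hom)
    (hq : AlgSp.IsSeparatedMor q.hom) :
    ∃ (W : AlgSp.Space S) (w : W ⟶ Z), AlgSp.RepWith @IsOpenImmersion w.hom ∧
      ∀ (Z' : AlgSp.Space S) (g : Z' ⟶ Z),
        (∃ k : Z' ⟶ W, k ≫ w = g) ↔
          ∀ (Y' : AlgSp.Space S) (gY : Y' ⟶ Y) (q' : Y' ⟶ Z'),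
            IsPullback gY.hom q'.hom q.hom g.hom →
            ∀ (X' : AlgSp.Space S) (gX : X' ⟶ X) (f' : X' ⟶ Y'),
              IsPullback gX.hom f'.hom f.hom gY.hom →
                AlgSp.RepWith @IsClosedImmersion f'.hom := by
  subst hc
  have hfUC : AlgSp.IsUnivClosedMor f.hom := isUnivClosedMor_of_comp f q hp2 hq
  have sqXX := IsPullback.of_hasPullback f.hom f.hom
  have hXX : AlgSp.IsAlgSpace (pullback f.hom f.hom) :=
    Groth.Agent.S9874.isAlgSpace_of_isPullback Y.property.diag X.property X.property sqXX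
  let XX : AlgSp.Space S := ⟨pullback f.hom f.hom, hXX⟩
  let pr0 : XX ⟶ X := ObjectProperty.homMk (pullback.fst f.hom f.hom)
  let pr1 : XX ⟶ X := ObjectProperty.homMk (pullback.snd f.hom f.hom)
  have hpc : AlgSp.IsClosedMor (f ≫ q).hom := isClosedMor_of_isUnivClosedMor Z.property _ hp2
  have hpr1 : AlgSp.IsClosedMor pr1.hom :=
    isClosedMor_of_isUnivClosedMor X.property _
      (Groth.Agent.Lib.Helper12.Proper.isUnivClosedMor_baseChange sqXX hfUC)
  have hp3 : AlgSp.IsClosedMor (pr1 ≫ (f ≫ q)).hom := by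
    intro C hC
    have : AlgSp.Points.map (pr1 ≫ (f ≫ q)).hom '' C =
        AlgSp.Points.map (f ≫ q).hom '' (AlgSp.Points.map pr1.hom '' C) := by
      rw [Set.image_image]
      apply Set.image_congr
      intro x _
      exact AlgSp.Points.map_comp _ _ x
    rw [this]
    exact hpc _ (hpr1 _ hC)
  obtain ⟨W, w, hw, H⟩ := Groth.Agent.S10640.result f (f ≫ q) q rfl XX pr0 pr1 sqXX hp1 hpc hp3
  refine ⟨W, w, hw, fun Z' g => (H Z' g).trans ?_⟩
  constructor
  · intro h Y' gY q' sqY X' gX f' sqX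
    obtain ⟨h1, h2⟩ := h Y' gY q' sqY X' gX f' sqX
    exact (closedImmersion_tfae f').2.1.2
      ⟨Groth.Agent.Lib.Helper12.Proper.isUnivClosedMor_baseChange sqX hfUC, h1, h2⟩
  · intro h Y' gY q' sqY X' gX f' sqX
    have h1 := (closedImmersion_tfae f').2.1.1 (h Y' gY q' sqY X' gX f' sqX)
    exact ⟨h1.2.1, h1.2.2⟩

end Groth.Agent.Lib.H5bBoot
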