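import Mathlib
import Groth.Prelude.Def_AlgSp
import Groth.Prelude.Def_AlgSpGpd
import Groth.Agent.S13210
import Groth.Agent.Lib.Helper12OpenSub
import Groth.Agent.Lib.Helper12ZarGlue
import Groth.Agent.Lib.Helper9Shf

/-!
# Equivalence relations on fppf sheaves given on scheme-valued points (helper5)

* `hom_ext_yon`: morphisms of sheaves are determined by their effect on `h_T`-points;
* `exists_hom_of_unique`: a morphism of sheaves may be defined by unique existence on points;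
* `nonempty_equivalenceRelation`: `AlgSp.IsEqvRelSp s t` gives a categorical equivalence relation;
* `isKernelPair_quotSpπ`: then `(s, t)` is the kernel pair of `U ⟶ U/R`.
-/

set_option autoImplicit false
set_option linter.unusedSectionVars false
set_option linter.style.haveILetI false
universe u

namespace Groth.Agent.Lib.H5bEqvRelSp

open CategoryTheory CategoryTheory.Limits AlgebraicGeometry AlgSp Opposite
open Groth.Agent.S13210 Groth.Agent.Lib.Helper12.OpenSub Groth.Agent.Lib.Helper12.ZarGlue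

variable {S : Scheme.{u}}

lemma hom_ext_yon {A B : AlgSp.Sp S} (f₁ f₂ : A ⟶ B)
    (h : ∀ (T : Over S) (ξ : (yon S).obj T ⟶ A), ξ ≫ f₁ = ξ ≫ f₂) : f₁ = f₂ := by
  apply ObjectProperty.hom_ext
  ext T x
  have h2 := congrArg (yEquiv _ B) (h T.unop ((yEquiv _ A).symm x))
  rw [yEquiv_comp, yEquiv_comp, Equiv.apply_symm_apply] at h2
  exact h2

/-- a morphism of sheaves defined by unique existence on points. -/
theorem exists_hom_of_unique {X R : AlgSp.Sp S}
    (Φ : ∀ T : Over S, ((yon S).obj T ⟶ X) → ((yon S).obj T ⟶ R) → Prop)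
    (hex : ∀ T x, ∃! ρ, Φ T x ρ)
    (hnat : ∀ (T T' : Over S) (f : T' ⟶ T) (x : (yon S).obj T ⟶ X) (ρ : (yon S).obj T ⟶ R),
      Φ T x ρ → Φ T' ((yon S).map f ≫ x) ((yon S).map f ≫ ρ)) :
    ∃ φ : X ⟶ R, ∀ T x, Φ T x (x ≫ φ) := by
  classical
  let ch : ∀ T : Over S, ((yon S).obj T ⟶ X) → ((yon S).obj T ⟶ R) := fun T x => (hex T x).choose
  have hch : ∀ T x, Φ T x (ch T x) := fun T x => (hex T x).choose_spec.1
  have huniq : ∀ T x ρ, Φ T x ρ → ρ = ch T x := fun T x ρ h => (hex T x).choose_spec.2 ρ h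
  let φ : X ⟶ R := ObjectProperty.homMk
    { app := fun T => ↾fun ξ => yEquiv T.unop R (ch T.unop ((yEquiv T.unop X).symm ξ))
      naturality := by
        intro T T₂ f
        ext ξ : 3
        show yEquiv T₂.unop R (ch T₂.unop ((yEquiv T₂.unop X).symm (X.obj.map f ξ))) =
          R.obj.map f (yEquiv T.unop R (ch T.unop ((yEquiv T.unop X).symm ξ)))
        have hf : f = f.unop.op := rfl
        rw [hf, map_yEquiv, yEquiv_symm_map]
        congr 1
        exact (huniq _ _ _ (hnat _ _ f.unop _ _ (hch _ _))).symm }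
  refine ⟨φ, fun T x => ?_⟩
  have : x ≫ φ = ch T x := by
    have h1 := yEquiv_symm_comp φ (yEquiv T X x)
    rw [Equiv.symm_apply_apply] at h1
    rw [h1]
    show (yEquiv T R).symm (yEquiv T R (ch T ((yEquiv T X).symm (yEquiv T X x)))) = _
    rw [Equiv.symm_apply_apply, Equiv.symm_apply_apply]
  rw [this]
  exact hch T x

variable {R U : AlgSp.Sp S} {s t : R ⟶ U}

lemma jointlyMono₂_of_isEqvRelSp (hj : AlgSp.IsEqvRelSp s t) : JointlyMono₂ s t := by
  refine ⟨fun Y f g hs ht => hom_ext_yon f g (fun T ξ => ?_)⟩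
  apply hj.injective
  · rw [Category.assoc, Category.assoc, ht]
  · rw [Category.assoc, Category.assoc, hs]

/-- `IsEqvRelSp` gives a categorical equivalence relation. -/
theorem nonempty_equivalenceRelation (hj : AlgSp.IsEqvRelSp s t) :
    Nonempty (EquivalenceRelation s t) := by
  have hjm := jointlyMono₂_of_isEqvRelSp hj
  -- reflexivity
  obtain ⟨r, hr⟩ := exists_hom_of_unique (X := U) (R := R)
    (fun T a ρ => ρ ≫ t = a ∧ ρ ≫ s = a)
    (fun T a => by
      obtain ⟨ρ, h1, h2⟩ := (hj.equivalence T).refl a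
      exact ⟨ρ, ⟨h1, h2⟩, fun ρ' h' => hj.injective T ρ' ρ (h'.1.trans h1.symm) (h'.2.trans h2.symm)⟩)
    (fun T T' f a ρ h => by
      rw [Category.assoc, Category.assoc, h.1, h.2]
      exact ⟨rfl, rfl⟩)
  -- symmetry
  obtain ⟨σ, hσ⟩ := exists_hom_of_unique (X := R) (R := R)
    (fun T ρ ρ' => ρ' ≫ t = ρ ≫ s ∧ ρ' ≫ s = ρ ≫ t)
    (fun T ρ => by
      obtain ⟨ρ', h1, h2⟩ := (hj.equivalence T).symm ⟨ρ, rfl, rfl⟩
      exact ⟨ρ', ⟨h1, h2⟩, fun ρ'' h' =>
        hj.injective T ρ'' ρ' (h'.1.trans h1.symm) (h'.2.trans h2.symm)⟩)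
    (fun T T' f ρ ρ' h => by
      rw [Category.assoc, Category.assoc, Category.assoc, Category.assoc, h.1, h.2]
      exact ⟨rfl, rfl⟩)
  -- transitivity
  obtain ⟨τ, hτ⟩ := exists_hom_of_unique (X := pullback t s) (R := R)
    (fun T z ρ => ρ ≫ s = z ≫ pullback.fst t s ≫ s ∧ ρ ≫ t = z ≫ pullback.snd t s ≫ t)
    (fun T z => by
      have hc : (z ≫ pullback.fst t s) ≫ t = (z ≫ pullback.snd t s) ≫ s := by
        rw [Category.assoc, Category.assoc, pullback.condition]
      obtain ⟨ρ, h1, h2⟩ := (hj.equivalence T).trans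
        (⟨z ≫ pullback.snd t s, rfl, rfl⟩ :
          ∃ r, r ≫ t = (z ≫ pullback.snd t s) ≫ t ∧ r ≫ s = (z ≫ pullback.snd t s) ≫ s)
        (⟨z ≫ pullback.fst t s, hc, rfl⟩ :
          ∃ r, r ≫ t = (z ≫ pullback.snd t s) ≫ s ∧ r ≫ s = (z ≫ pullback.fst t s) ≫ s)
      have h1' : ρ ≫ t = z ≫ pullback.snd t s ≫ t := by rw [h1, Category.assoc]
      have h2' : ρ ≫ s = z ≫ pullback.fst t s ≫ s := by rw [h2, Category.assoc]
      exact ⟨ρ, ⟨h2', h1'⟩, fun ρ' h' =>
        hj.injective T ρ' ρ (h'.2.trans h1'.symm) (h'.1.trans h2'.symm)⟩)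
    (fun T T' f z ρ h => by
      rw [Category.assoc, Category.assoc, Category.assoc, Category.assoc, h.1, h.2]
      exact ⟨rfl, rfl⟩)
  have e1 : r ≫ s = 𝟙 U := hom_ext_yon _ _ (fun T ξ => by
    rw [← Category.assoc, (hr T ξ).2, Category.comp_id])
  have e2 : r ≫ t = 𝟙 U := hom_ext_yon _ _ (fun T ξ => by
    rw [← Category.assoc, (hr T ξ).1, Category.comp_id])
  have e3 : σ ≫ s = t := hom_ext_yon _ _ (fun T ξ => by
    rw [← Category.assoc, (hσ T ξ).2])
  have e4 : σ ≫ t = s := hom_ext_yon _ _ (fun T ξ => by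
    rw [← Category.assoc, (hσ T ξ).1])
  have e5 : τ ≫ s = pullback.fst t s ≫ s := hom_ext_yon _ _ (fun T ξ => by
    rw [← Category.assoc, (hτ T ξ).1])
  have e6 : τ ≫ t = pullback.snd t s ≫ t := hom_ext_yon _ _ (fun T ξ => by
    rw [← Category.assoc, (hτ T ξ).2])
  exact ⟨{
    toJointlyMono₂ := hjm
    r := r
    reflexivity₁ := e1
    reflexivity₂ := e2
    s := σ
    symmetry₁ := e3
    symmetry₂ := e4
    c := PullbackCone.mk (pullback.fst t s) (pullback.snd t s) pullback.condition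
    isLimit := pullbackIsPullback t s
    t := τ
    transitivity₁ := e5
    transitivity₂ := e6 }⟩

/-- `(s, t)` is the kernel pair of `U ⟶ U/R`. -/
theorem isKernelPair_quotSpπ (hj : AlgSp.IsEqvRelSp s t) :
    IsKernelPair (AlgSp.quotSpπ s t) s t := by
  obtain ⟨e⟩ := nonempty_equivalenceRelation hj
  exact Groth.Agent.Lib.Helper9.sheaf_isKernelPair_of_isColimit (AlgSp.J S) e (AlgSp.quotSpπ s t)
    (AlgSp.quotSp_condition s t) (AlgSp.quotSpIsCoequalizer s t)

end Groth.Agent.Lib.H5bEqvRelSp
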