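import Mathlib
import Groth.Prelude.Def_AlgSp
import Groth.Prelude.Def_AlgSpRep
import Groth.Agent.Lib.Helper12QuotSh

/-!
# Étale sheaves versus fppf sheaves on schemes over `S` (helper5)

* `Je_le`: the étale topology on `Over S` is coarser than the fppf topology;
* `toEt`, `toEtMap`: an fppf sheaf regarded as an étale sheaf; `isPullback_toEtMap`;
* `isLocallySurjective_of_lift`, `epi_of_lift`: a map `h_U ⟶ G` of étale sheaves through which
  every point of `G` lifts after an étale surjective base change is an epimorphism;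
* `exists_iso_of_kernelPair`: two epimorphisms of étale sheaves with the same kernel pair have
  isomorphic targets.
-/

set_option autoImplicit false
set_option linter.unusedSectionVars false
set_option linter.style.haveILetI false
universe u

namespace Groth.Agent.Lib.H5bEtFppf

open CategoryTheory CategoryTheory.Limits AlgebraicGeometry AlgSp Opposite
open Groth.Agent.Lib.Helper12.QuotShLib

variable (S : Scheme.{u})

/-- the big étale topology of `S`. -/
abbrev Je : GrothendieckTopology (Over S) := QuotSh.J Scheme.etalePrecoverage S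

/-- étale sheaves of sets over `S`. -/
abbrev SpE : Type (u + 2) := Sheaf (Je S) (Type (u + 1))

lemma Je_le : Je S ≤ AlgSp.J S := by
  intro Y R hR
  rw [GrothendieckTopology.mem_over_iff] at hR ⊢
  exact Precoverage.toGrothendieck_mono etalePrecoverage_le_fppfPrecoverage _ hR

variable {S}

/-- an fppf sheaf regarded as an étale sheaf. -/
def toEt (G : AlgSp.Sp S) : SpE S :=
  ⟨G.obj, (isSheaf_iff_isSheaf_of_type _ _).2
    (Presieve.isSheaf_of_le _ (Je_le S) ((isSheaf_iff_isSheaf_of_type _ _).1 G.property))⟩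

/-- a morphism of fppf sheaves regarded as a morphism of étale sheaves. -/
def toEtMap {G H : AlgSp.Sp S} (f : G ⟶ H) : toEt G ⟶ toEt H := ⟨f.hom⟩

lemma isPullback_toEtMap {A B C D : AlgSp.Sp S} {f : A ⟶ B} {g : A ⟶ C} {h : B ⟶ D} {k : C ⟶ D}
    (sq : IsPullback f g h k) : IsPullback (toEtMap f) (toEtMap g) (toEtMap h) (toEtMap k) := by
  have h1 : IsPullback f.hom g.hom h.hom k.hom :=
    sq.map (sheafToPresheaf (AlgSp.J S) (Type (u + 1)))
  have hw : toEtMap f ≫ toEtMap h = toEtMap g ≫ toEtMap k := by
    apply Sheaf.hom_ext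
    exact h1.w
  exact IsPullback.of_map (sheafToPresheaf (Je S) (Type (u + 1))) hw h1

/-- a map out of `h_U` through which every point lifts after an étale surjective base change is
locally surjective for the étale topology. -/
lemma isLocallySurjective_of_lift {U : Over S} {G : AlgSp.PSp S} (q : (pyon S).obj U ⟶ G)
    (h : ∀ (T : Over S) (g : (pyon S).obj T ⟶ G), ∃ (T' : Over S) (c : T' ⟶ T)
      (l : (pyon S).obj T' ⟶ (pyon S).obj U), Etale c.left ∧ Surjective c.left ∧
        l ≫ q = (pyon S).map c ≫ g) :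
    Presheaf.IsLocallySurjective (Je S) q := by
  constructor
  intro T x
  obtain ⟨T', c, l, hce, hcs, hl⟩ := h T (uliftYonedaEquiv.{u + 1}.symm x)
  haveI := hce
  haveI := hcs
  refine (Je S).superset_covering ?_ (generate_singleton_mem_J Scheme.etalePrecoverage c
    (singleton_mem_etalePrecoverage c.left))
  rw [Sieve.generate_le_iff]
  rintro _ _ ⟨⟩
  refine ⟨uliftYonedaEquiv.{u + 1} l, ?_⟩
  have h1 := uliftYonedaEquiv_comp.{u + 1} l q
  have h2 := uliftYonedaEquiv_naturality.{u + 1} (uliftYonedaEquiv.{u + 1}.symm x) c.op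
  rw [Equiv.apply_symm_apply] at h2
  rw [← h1, hl, h2]
  rfl

/-- the same, for morphisms of étale sheaves. -/
lemma epi_of_lift {U : Over S} {G : SpE S} (q : toEt ((yon S).obj U) ⟶ G)
    (h : ∀ (T : Over S) (g : (pyon S).obj T ⟶ G.obj), ∃ (T' : Over S) (c : T' ⟶ T)
      (l : (pyon S).obj T' ⟶ (pyon S).obj U), Etale c.left ∧ Surjective c.left ∧
        l ≫ q.hom = (pyon S).map c ≫ g) : Epi q := by
  rw [← Sheaf.isLocallySurjective_iff_epi]
  exact isLocallySurjective_of_lift q.hom h

/-- two epimorphisms of étale sheaves with the same kernel pair have isomorphic targets. -/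
lemma exists_iso_of_kernelPair {A B G G' : SpE S} (a b : A ⟶ B) (q : B ⟶ G) (q' : B ⟶ G')
    [Epi q] [Epi q'] (hk : IsPullback a b q q) (hk' : IsPullback a b q' q') :
    ∃ e : G ≅ G', q ≫ e.hom = q' := by
  haveI : IsRegularEpi q := IsRegularEpiCategory.regularEpiOfEpi q
  haveI : IsRegularEpi q' := IsRegularEpiCategory.regularEpiOfEpi q'
  have c1 : IsColimit (Cofork.ofπ q hk.w) := IsKernelPair.toCoequalizer' hk
  have c2 : IsColimit (Cofork.ofπ q' hk'.w) := IsKernelPair.toCoequalizer' hk'
  refine ⟨c1.coconePointUniqueUpToIso c2, ?_⟩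
  exact c1.comp_coconePointUniqueUpToIso_hom c2 WalkingParallelPair.one

end Groth.Agent.Lib.H5bEtFppf
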