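import Mathlib
import Groth.Prelude.Def_AlgSp
import Groth.Prelude.Def_AlgSp3
import Groth.Prelude.Def_AlgSpGpd
import Groth.Agent.Lib.Helper9SpFree
import Groth.Agent.Lib.Helper12LocPCases
import Groth.Agent.S9874

/-!
# Free actions of group algebraic spaces: the action groupoid is an equivalence relation (helper5)

* `rel_iff`: the relation on `T`-points of `X` induced by `(pr₂, act) : G ×_B X ⇉ X` is the orbit relation;
* `isEqvRelSp`: for a free action it is an equivalence relation in the sense of `AlgSp.IsEqvRelSp`;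
* `sigma`: the involution `(g, x) ↦ (g⁻¹, g x)` of `G ×_B X`, exchanging `pr₂` and `act`;
* `locP_act`, `locP_snd`: `act` and `pr₂` inherit flat/lfp from `G ⟶ B`.
-/

set_option autoImplicit false
set_option linter.unusedSectionVars false

namespace Groth.Agent.Lib.H5bFreeQ

open CategoryTheory Limits Opposite AlgebraicGeometry
  MonoidalCategory MonObj CartesianMonoidalCategory AlgSp
open Groth.Agent.Lib.Helper9.SpFree

universe u

variable {S : Scheme.{u}} {B : AlgSp.Sp S} {G X : Over B} [GrpObj G] (a : AlgSp.GAction G X)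

/-- the orbit relation on points -/
theorem rel_iff {T : AlgSp.Sp S} (a' b' : T ⟶ X.left) :
    (∃ r : T ⟶ (G ⊗ X).left, r ≫ a.act.left = a' ∧ r ≫ (snd G X).left = b') ↔
      ∃ (β : T ⟶ B) (ha : a' ≫ X.hom = β) (hb : b' ≫ X.hom = β) (g : Over.mk β ⟶ G),
        smul a g (Over.homMk b' hb) = Over.homMk a' ha := by
  constructor
  · rintro ⟨r, rfl, rfl⟩
    have hb : (r ≫ (snd G X).left) ≫ X.hom = r ≫ (G ⊗ X).hom := by
      rw [Category.assoc, Over.w]
    have ha : (r ≫ a.act.left) ≫ X.hom = r ≫ (G ⊗ X).hom := by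
      rw [Category.assoc, Over.w]
    let ρ : Over.mk (r ≫ (G ⊗ X).hom) ⟶ G ⊗ X := Over.homMk r rfl
    refine ⟨r ≫ (G ⊗ X).hom, ha, hb, ρ ≫ fst G X, ?_⟩
    have hx : (Over.homMk (r ≫ (snd G X).left) hb : Over.mk (r ≫ (G ⊗ X).hom) ⟶ X) = ρ ≫ snd G X := by
      apply Over.OverMorphism.ext
      rfl
    have hρ : lift (ρ ≫ fst G X) (ρ ≫ snd G X) = ρ := by
      apply CartesianMonoidalCategory.hom_ext <;> simp
    unfold smul
    rw [hx, hρ]
    apply Over.OverMorphism.ext
    rfl
  · rintro ⟨β, ha, hb, g, h⟩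
    refine ⟨(lift g (Over.homMk b' hb : Over.mk β ⟶ X)).left, ?_, ?_⟩
    · have := congrArg (fun m => m.left) h
      exact this
    · have : lift g (Over.homMk b' hb : Over.mk β ⟶ X) ≫ snd G X = Over.homMk b' hb := lift_snd _ _
      exact congrArg (fun m => m.left) this

theorem isEqvRelSp (ha : a.IsFree) : AlgSp.IsEqvRelSp (snd G X).left a.act.left := by
  constructor
  · intro T r r' hm hp
    have := mono_shear a ha
    rw [← cancel_mono (lift a.act (snd G X)).left]
    apply Over.tensorObj_ext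
    · show (r ≫ (lift a.act (snd G X)).left) ≫ (fst X X).left =
        (r' ≫ (lift a.act (snd G X)).left) ≫ (fst X X).left
      rw [Category.assoc, Category.assoc, ← Over.comp_left, lift_fst]
      exact hm
    · show (r ≫ (lift a.act (snd G X)).left) ≫ (snd X X).left =
        (r' ≫ (lift a.act (snd G X)).left) ≫ (snd X X).left
      rw [Category.assoc, Category.assoc, ← Over.comp_left, lift_snd]
      exact hp
  · intro T
    refine ⟨fun x => ?_, fun {x y} h => ?_, fun {x y z} h1 h2 => ?_⟩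
    · rw [rel_iff]
      exact ⟨x ≫ X.hom, rfl, rfl, 1, Groth.Agent.Lib.Helper9.SpFree.one_smul a _⟩
    · rw [rel_iff] at h ⊢
      obtain ⟨β, hx, hy, g, h⟩ := h
      refine ⟨β, hy, hx, g⁻¹, ?_⟩
      rw [← h, ← Groth.Agent.Lib.Helper9.SpFree.mul_smul, inv_mul_cancel, Groth.Agent.Lib.Helper9.SpFree.one_smul]
    · rw [rel_iff] at h1 h2 ⊢
      obtain ⟨β, hx, hy, g, h1⟩ := h1
      obtain ⟨β', hy', hz, g', h2⟩ := h2
      obtain rfl : β = β' := hy.symm.trans hy'
      refine ⟨β, hx, hz, g * g', ?_⟩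
      rw [Groth.Agent.Lib.Helper9.SpFree.mul_smul, h2, h1]

/-- the involution `(g, x) ↦ (g⁻¹, g x)` -/
noncomputable def sigma : G ⊗ X ⟶ G ⊗ X := lift ((fst G X)⁻¹) a.act

lemma sigma_snd : sigma a ≫ snd G X = a.act := lift_snd _ _

lemma sigma_fst : sigma a ≫ fst G X = (fst G X)⁻¹ := lift_fst _ _

lemma act_eq_smul : a.act = smul a (fst G X) (snd G X) := by
  unfold smul
  rw [lift_fst_snd, Category.id_comp]

lemma sigma_sigma : sigma a ≫ sigma a = 𝟙 _ := by
  apply CartesianMonoidalCategory.hom_ext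
  · rw [Category.assoc, sigma_fst, Category.id_comp, Hom.inv_def, ← Category.assoc, sigma_fst,
      ← Hom.inv_def, inv_inv]
  · rw [Category.assoc, sigma_snd, Category.id_comp]
    show smul a ((fst G X)⁻¹) a.act = snd G X
    rw [act_eq_smul a, ← Groth.Agent.Lib.Helper9.SpFree.mul_smul, inv_mul_cancel, Groth.Agent.Lib.Helper9.SpFree.one_smul]

lemma act_left_eq : a.act.left = (sigma a).left ≫ (snd G X).left := by
  rw [← Over.comp_left, sigma_snd]

instance : IsIso (sigma a).left :=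
  ⟨⟨(sigma a).left, by rw [← Over.comp_left, sigma_sigma]; rfl,
    by rw [← Over.comp_left, sigma_sigma]; rfl⟩⟩

/-- `LocP` is insensitive to precomposition with isomorphisms. -/
lemma locP_iso_comp (P : MorphismProperty Scheme.{u}) {F' F H : AlgSp.Sp S} (e : F' ⟶ F) [IsIso e]
    (f : F ⟶ H) (hf : AlgSp.LocP P f) : AlgSp.LocP P (e ≫ f) := by
  intro U V p q h hp hq hcomm
  refine hf (p ≫ e) q h ?_ hq (by rw [Category.assoc, hcomm])
  exact (MorphismProperty.cancel_right_of_respectsIso (AlgSp.RepWith @Etale) p e).2 hp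

theorem isAlgSpace_tensor (hB : AlgSp.IsAlgSpace B) (hG : AlgSp.IsAlgSpace G.left)
    (hX : AlgSp.IsAlgSpace X.left) : AlgSp.IsAlgSpace (G ⊗ X).left :=
  Groth.Agent.S9874.result S B hB.diag ⟨G.left, hG⟩ ⟨X.left, hX⟩ G.hom X.hom _
    (pullback.fst G.hom X.hom) (pullback.snd G.hom X.hom) (IsPullback.of_hasPullback _ _)

theorem locP_snd {P : MorphismProperty Scheme.{u}} (hP : Groth.Agent.Lib.Helper12.LocPCases.Good P)
    (hB : AlgSp.IsAlgSpace B) (hG : AlgSp.IsAlgSpace G.left)
    (hX : AlgSp.IsAlgSpace X.left) (h : AlgSp.LocP P G.hom) : AlgSp.LocP P (snd G X).left :=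
  hP.locP_baseChange hG hB hX (IsPullback.of_hasPullback G.hom X.hom) h

theorem locP_act {P : MorphismProperty Scheme.{u}} (hP : Groth.Agent.Lib.Helper12.LocPCases.Good P)
    (hB : AlgSp.IsAlgSpace B) (hG : AlgSp.IsAlgSpace G.left)
    (hX : AlgSp.IsAlgSpace X.left) (h : AlgSp.LocP P G.hom) : AlgSp.LocP P a.act.left := by
  rw [act_left_eq]
  exact locP_iso_comp P _ _ (locP_snd hP hB hG hX h)

end Groth.Agent.Lib.H5bFreeQ
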