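import Mathlib
import Groth.Prelude.Def_AlgSp
import Groth.Prelude.Def_AlgSp3
import Groth.Prelude.Def_AlgSp4
import Groth.Prelude.Def_AlgSpRep
import Groth.Prelude.Def_AlgSpCov
import Groth.Agent.Lib.H5bEtFppf
import Groth.Agent.Lib.H5bEqvRelSp
import Groth.Agent.Lib.H5bFreeQ
import Groth.Agent.Lib.Helper12LocPCases
import Groth.Agent.Lib.Helper12LargestOpen
import Groth.Agent.Lib.Helper15SmLoc
import Groth.Agent.Lib.Helper20SmoothSec
import Groth.Agent.S9874
import Groth.Agent.S9947
import Groth.Agent.S10102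
import Groth.Agent.S10107
import Groth.Agent.S10175
import Groth.Agent.S10177
import Groth.Agent.S10542

/-!
# Bootstrap for étale sheaves: smooth coverings (helper5)

* `exists_etale_cover_section`: a smooth surjective morphism of schemes has sections étale locally;
* `exists_etale_lift`: the same for a smooth surjective morphism from an algebraic space to a scheme;
* `isEqvRelSp_of_isKernelPair`: a kernel pair of a map of presheaves is an equivalence relation;
* `locP_quotSpπ`: the quotient map of an equivalence relation inherits `P` from the projections;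
* `isAlgSpaceP_of_smooth_cover`: an étale sheaf with a smooth surjective covering, representable by
  algebraic spaces, from an algebraic space is an algebraic space.
-/

set_option autoImplicit false
set_option linter.style.haveILetI false
set_option linter.unusedSectionVars false
set_option linter.unusedVariables false
universe u

open CategoryTheory CategoryTheory.Limits AlgebraicGeometry AlgSp Opposite

namespace Groth.Agent.Lib.H5bBootEt

/-- a smooth surjective morphism of schemes has sections étale locally on the target. -/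
theorem exists_etale_cover_section {W T : Scheme.{u}} (f : W ⟶ T) [Smooth f] [Surjective f] :
    ∃ (T' : Scheme.{u}) (c : T' ⟶ T) (h : T' ⟶ W), Etale c ∧ Surjective c ∧ h ≫ f = c := by
  choose S' g s' hge hgs hl using fun w : W =>
    Groth.Agent.Lib.Helper20.SmoothSec.exists_etale_section_of_smooth f w
  choose l hl using hl
  refine ⟨∐ S', Sigma.desc g, Sigma.desc l, ?_, ?_, ?_⟩
  · exact IsZariskiLocalAtSource.sigmaDesc hge
  · constructor
    intro t
    obtain ⟨w, rfl⟩ := f.surjective t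
    refine ⟨(Sigma.ι S' w) (s' w), ?_⟩
    rw [← Scheme.Hom.comp_apply, Sigma.ι_desc]
    exact hgs w
  · apply Sigma.hom_ext
    intro w
    rw [← Category.assoc, Sigma.ι_desc, Sigma.ι_desc, hl]

variable {S : Scheme.{u}}

/-- a smooth surjective morphism from an algebraic space to a scheme has sections étale locally. -/
theorem exists_etale_lift {A : AlgSp.Sp S} (hA : AlgSp.IsAlgSpace A) {T : Over S}
    (f : A ⟶ (AlgSp.yon S).obj T) (hs : AlgSp.IsSurjectiveMor f) (hsm : AlgSp.LocP @Smooth f) :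
    ∃ (T' : Over S) (c : T' ⟶ T) (l : (AlgSp.yon S).obj T' ⟶ A),
      Etale c.left ∧ Surjective c.left ∧ l ≫ f = (AlgSp.yon S).map c := by
  obtain ⟨W, a, hae, has⟩ := hA.atlas
  obtain ⟨w, hw⟩ := (AlgSp.yon S).map_surjective (a ≫ f)
  haveI : Smooth w.left := hsm a (𝟙 _) w hae (AlgSp.repWith_id _ T) (by rw [Category.comp_id, hw])
  haveI : Surjective w.left := ⟨by
    apply Groth.Agent.Lib.Helper15SmLoc.surjective_of_isSurjectiveMor_yon_map w
    rw [hw]
    intro x
    obtain ⟨y, rfl⟩ := hs x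
    obtain ⟨z, rfl⟩ := Groth.Agent.S10177.surjective_ofPt a has y
    exact ⟨AlgSp.Points.ofScheme W z, by
      rw [AlgSp.Points.map_comp]
      rfl⟩⟩
  obtain ⟨T₀, c₀, h₀, hce, hcs, hh⟩ := exists_etale_cover_section w.left
  have hover : h₀ ≫ W.hom = c₀ ≫ T.hom := by
    rw [← hh, Category.assoc, Over.w w]
  refine ⟨Over.mk (c₀ ≫ T.hom), Over.homMk c₀ rfl,
    (AlgSp.yon S).map (Over.homMk h₀ hover : Over.mk (c₀ ≫ T.hom) ⟶ W) ≫ a, hce, hcs, ?_⟩
  rw [Category.assoc, ← hw, ← Functor.map_comp]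
  congr 1
  apply Over.OverMorphism.ext
  exact hh

/-- a kernel pair of a map of presheaves out of a sheaf is an equivalence relation. -/
theorem isEqvRelSp_of_isKernelPair {R U : AlgSp.Sp S} (s t : R ⟶ U) {F : AlgSp.PSp S}
    (q : U.obj ⟶ F) (hk : IsPullback s.hom t.hom q q) : AlgSp.IsEqvRelSp s t := by
  have hrel : ∀ (T : Over S) (a b : (AlgSp.yon S).obj T ⟶ U),
      (∃ r : (AlgSp.yon S).obj T ⟶ R, r ≫ t = a ∧ r ≫ s = b) ↔ a.hom ≫ q = b.hom ≫ q := by
    intro T a b
    constructor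
    · rintro ⟨r, rfl, rfl⟩
      show (r.hom ≫ t.hom) ≫ q = (r.hom ≫ s.hom) ≫ q
      rw [Category.assoc, Category.assoc, hk.w]
    · intro hab
      refine ⟨ObjectProperty.homMk (hk.lift b.hom a.hom hab.symm), ?_, ?_⟩
      · apply ObjectProperty.hom_ext
        exact hk.lift_snd _ _ _
      · apply ObjectProperty.hom_ext
        exact hk.lift_fst _ _ _
  refine ⟨fun T r r' h1 h2 => ?_, fun T => ⟨?_, ?_, ?_⟩⟩
  · apply ObjectProperty.hom_ext
    apply hk.hom_ext
    · exact congrArg (fun m => m.hom) h2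
    · exact congrArg (fun m => m.hom) h1
  · intro a
    exact (hrel T a a).2 rfl
  · intro a b hab
    exact (hrel T b a).2 ((hrel T a b).1 hab).symm
  · intro a b c hab hbc
    exact (hrel T a c).2 (((hrel T a b).1 hab).trans ((hrel T b c).1 hbc))

open Groth.Agent.Lib.Helper12.LocPCases in
/-- the quotient map of an equivalence relation inherits `P` from the projections. -/
theorem locP_quotSpπ (P : MorphismProperty Scheme.{u}) (hP : Good P)
    (hlocal : AlgSp.IsLocalOnBase (AlgSp.IsFpqcCover (S := S)) (AlgSp.LocP P))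
    {R U : AlgSp.Sp S} (hR : AlgSp.IsAlgSpace R) (hU : AlgSp.IsAlgSpace U) (s t : R ⟶ U)
    (hj : AlgSp.IsEqvRelSp s t) (ht : AlgSp.LocP P t)
    (hF : AlgSp.IsAlgSpace (AlgSp.quotSp s t)) : AlgSp.LocP P (AlgSp.quotSpπ s t) := by
  have hk : IsPullback s t (AlgSp.quotSpπ s t) (AlgSp.quotSpπ s t) :=
    Groth.Agent.Lib.H5bEqvRelSp.isKernelPair_quotSpπ hj
  haveI : Epi (AlgSp.quotSpπ s t) := inferInstanceAs (Epi (coequalizer.π s t))
  haveI : Sheaf.IsLocallySurjective (AlgSp.quotSpπ s t) :=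
    (Sheaf.isLocallySurjective_iff_epi _).2 inferInstance
  obtain ⟨W, pW, hpWe, hpWs⟩ := hF.atlas
  obtain ⟨W', c, d, hcs, hcf, hcp, hd⟩ :=
    Groth.Agent.Lib.H5bSpDesc.exists_single_cover_lift (AlgSp.quotSpπ s t) pW
  haveI := hcs
  obtain ⟨g₀, hg₀def⟩ : ∃ g₀ : (AlgSp.yon S).obj W' ⟶ AlgSp.quotSp s t,
      g₀ = (AlgSp.yon S).map c ≫ pW := ⟨_, rfl⟩
  rw [← hg₀def] at hd
  have hg₀ : ∀ (P : MorphismProperty Scheme.{u}), Groth.Agent.Lib.Helper12.LocPCases.Good P →
      P c.left → AlgSp.LocP P g₀ := fun P hP hPc => by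
    haveI := hP.comp
    rw [hg₀def]
    exact hP.locP_comp (AlgSp.IsAlgSpace.yon_obj W) hF _ _
      (Groth.Agent.Lib.Helper12.LocPGen.locP_yon_map_of P hP.hEt hP.hcancel c hPc)
      (Groth.Agent.S9947.locP_of_repWith_etale P hP.hEt pW hpWe)
  have hfl := hg₀ @Flat Groth.Agent.Lib.Helper12.LocPCases.good_flat hcf
  have hfp := hg₀ @LocallyOfFinitePresentation Groth.Agent.Lib.Helper12.LocPCases.good_lfp hcp
  have hsurj : ∀ x : AlgSp.Points (AlgSp.quotSp s t), x ∈ Set.range (AlgSp.Points.map g₀) := by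
    intro x
    obtain ⟨w, rfl⟩ := Groth.Agent.S10177.surjective_ofPt pW hpWs x
    obtain ⟨w', rfl⟩ := c.left.surjective w
    refine ⟨AlgSp.Points.ofScheme W' w', ?_⟩
    rw [hg₀def]
    change AlgSp.Points.map ((AlgSp.yon S).map c ≫ pW) (AlgSp.Points.ofPt (𝟙 _) w') = _
    rw [AlgSp.Points.map_ofPt, Category.id_comp, Groth.Agent.S10176.ofPt_map_comp]
  have hfppf : AlgSp.IsFppfCover (fun _ : PUnit.{u + 1} => (AlgSp.yon S).obj W')
      (fun _ => g₀) := ⟨fun _ => ⟨hfl, hfp⟩, fun x => ⟨PUnit.unit, hsurj x⟩⟩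
  have hfpqc : AlgSp.IsFpqcCover (fun _ : PUnit.{u + 1} => (AlgSp.yon S).obj W')
      (fun _ => g₀) := ⟨fun _ => hfl, fun Z hZ h =>
    Groth.Agent.Lib.Helper12.FppfRefine.refines_of_fppfCover hF _
      (fun _ => AlgSp.IsAlgSpace.yon_obj W') _ hfppf Z hZ h⟩
  exact Groth.Agent.S10107.locP_piece P hP hlocal hR hU s t hk ht hF g₀ d hd hfpqc

end Groth.Agent.Lib.H5bBootEt
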