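import Mathlib
import Groth.Agent.Lib.H5bBootEt
import Groth.Agent.S9906

/-!
# Bootstrap for étale sheaves: smooth coverings, main theorem (helper5)

* `exists_pullback_chart`: the base change of the composite of an atlas with a smooth surjective
  covering representable by algebraic spaces;
* `isAlgSpaceP_of_smooth_cover`: an étale sheaf with a smooth surjective covering, representable by
  algebraic spaces, from an algebraic space is an algebraic space.
-/

set_option autoImplicit false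
set_option linter.style.haveILetI false
set_option linter.unusedSectionVars false
set_option linter.unusedVariables false
universe u

open CategoryTheory CategoryTheory.Limits AlgebraicGeometry AlgSp Opposite

namespace Groth.Agent.Lib.H5bBootEt

variable {S : Scheme.{u}}

/-- base change of `h_V ⟶ U ⟶ F` along a point of `F`. -/
theorem exists_pullback_chart (F : AlgSp.PSp S) (U : AlgSp.Space S) (p : U.obj.obj ⟶ F)
    (h2 : AlgSp.RepBySpWith (AlgSp.IsSurjectiveMor ⊓ AlgSp.LocP @Smooth) p)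
    {V : Over S} (a : (AlgSp.yon S).obj V ⟶ U.obj) (hae : AlgSp.RepWith @Etale a)
    (has : AlgSp.RepWith @Surjective a) {T : Over S} (ξ : (AlgSp.pyon S).obj T ⟶ F) :
    ∃ (B : AlgSp.Sp S) (β₁ : B ⟶ (AlgSp.yon S).obj V) (β₂ : B ⟶ (AlgSp.yon S).obj T),
      AlgSp.IsAlgSpace B ∧ IsPullback β₁.hom β₂.hom (a.hom ≫ p) ξ ∧
        AlgSp.IsSurjectiveMor β₂ ∧ AlgSp.LocP @Smooth β₂ := by
  obtain ⟨hAs, hAalg, hAsurj, hAsm⟩ :=
    h2 ξ (pullback.fst p ξ) (pullback.snd p ξ) (IsPullback.of_hasPullback p ξ)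
  obtain ⟨A, hAdef⟩ : ∃ A : AlgSp.Sp S, A = ⟨pullback p ξ, hAs⟩ := ⟨_, rfl⟩
  obtain ⟨u, hu⟩ : ∃ u : A ⟶ U.obj, u.hom = hAdef ▸ pullback.fst p ξ := by
    subst hAdef
    exact ⟨ObjectProperty.homMk (pullback.fst p ξ), rfl⟩
  obtain ⟨v, hv⟩ : ∃ v : A ⟶ (AlgSp.yon S).obj T, v.hom = hAdef ▸ pullback.snd p ξ := by
    subst hAdef
    exact ⟨ObjectProperty.homMk (pullback.snd p ξ), rfl⟩
  subst hAdef
  have hv' : v = ObjectProperty.homMk (pullback.snd p ξ) := ObjectProperty.hom_ext _ hv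
  have hAalg' : AlgSp.IsAlgSpace (⟨pullback p ξ, hAs⟩ : AlgSp.Sp S) := hAalg
  have hvs : AlgSp.IsSurjectiveMor v := by rw [hv']; exact hAsurj
  have hvm : AlgSp.LocP @Smooth v := by rw [hv']; exact hAsm
  have sqB := IsPullback.of_hasPullback u a
  have hB : AlgSp.IsAlgSpace (pullback u a) :=
    Groth.Agent.S9874.isAlgSpace_of_isPullback U.property.diag hAalg'
      (AlgSp.IsAlgSpace.yon_obj V) sqB
  have hfe : AlgSp.RepWith @Etale (pullback.fst u a) :=
    MorphismProperty.of_isPullback (P := AlgSp.RepWith @Etale) sqB.flip hae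
  have hfs : AlgSp.RepWith @Surjective (pullback.fst u a) :=
    MorphismProperty.of_isPullback (P := AlgSp.RepWith @Surjective) sqB.flip has
  refine ⟨pullback u a, pullback.snd u a, pullback.fst u a ≫ v, hB, ?_, ?_, ?_⟩
  · have top : IsPullback (pullback.snd u a).hom (pullback.fst u a).hom a.hom u.hom :=
      sqB.flip.map (sheafToPresheaf (AlgSp.J S) (Type (u + 1)))
    have bot : IsPullback u.hom v.hom p ξ := by
      rw [hu, hv]
      exact IsPullback.of_hasPullback p ξ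
    exact top.paste_vert bot
  · intro t
    obtain ⟨y, rfl⟩ := hvs t
    obtain ⟨z, rfl⟩ := Groth.Agent.S9906.surjective_map_of_repWith _ hfs y
    exact ⟨z, AlgSp.Points.map_comp _ _ _⟩
  · exact Groth.Agent.Lib.Helper12.LocPCases.good_smooth.locP_comp hAalg'
      (AlgSp.IsAlgSpace.yon_obj T) _ _
      (Groth.Agent.S9947.locP_of_repWith_etale @Smooth (fun g hg => by haveI := hg; infer_instance)
        _ hfe) hvm

open Groth.Agent.Lib.H5bEtFppf in
/-- **an étale sheaf with a smooth surjective covering, representable by algebraic spaces, from an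
algebraic space is an algebraic space**. -/
theorem isAlgSpaceP_of_smooth_cover (F : AlgSp.PSp S)
    (h1 : Presheaf.IsSheaf (QuotSh.J Scheme.etalePrecoverage S) F) (U : AlgSp.Space S)
    (p : U.obj.obj ⟶ F)
    (h2 : AlgSp.RepBySpWith (AlgSp.IsSurjectiveMor ⊓ AlgSp.LocP @Smooth) p) :
    AlgSp.IsAlgSpaceP F := by
  obtain ⟨V, a, hae, has⟩ := U.property.atlas
  obtain ⟨q, hq⟩ : ∃ q : (AlgSp.pyon S).obj V ⟶ F, q = a.hom ≫ p := ⟨_, rfl⟩
  have hchart : ∀ {T : Over S} (ξ : (AlgSp.pyon S).obj T ⟶ F),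
      ∃ (B : AlgSp.Sp S) (β₁ : B ⟶ (AlgSp.yon S).obj V) (β₂ : B ⟶ (AlgSp.yon S).obj T),
        AlgSp.IsAlgSpace B ∧ IsPullback β₁.hom β₂.hom q ξ ∧
          AlgSp.IsSurjectiveMor β₂ ∧ AlgSp.LocP @Smooth β₂ := fun ξ => by
    rw [hq]
    exact exists_pullback_chart F U p h2 a hae has ξ
  -- the kernel pair
  obtain ⟨K, s, t, hK, hk, hts, htm⟩ := hchart q
  obtain ⟨σ, hσs, hσt⟩ : ∃ σ : K ⟶ K, σ ≫ s = t ∧ σ ≫ t = s := by
    refine ⟨ObjectProperty.homMk (hk.lift t.hom s.hom hk.w.symm), ?_, ?_⟩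
    · apply ObjectProperty.hom_ext
      exact hk.lift_fst _ _ _
    · apply ObjectProperty.hom_ext
      exact hk.lift_snd _ _ _
  have hσσ : σ ≫ σ = 𝟙 K := by
    have e1 : (σ ≫ σ) ≫ s = 𝟙 K ≫ s := by rw [Category.assoc, hσs, hσt, Category.id_comp]
    have e2 : (σ ≫ σ) ≫ t = 𝟙 K ≫ t := by rw [Category.assoc, hσt, hσs, Category.id_comp]
    apply ObjectProperty.hom_ext
    apply hk.hom_ext
    · exact congrArg (fun m => m.hom) e1
    · exact congrArg (fun m => m.hom) e2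
  haveI : IsIso σ := ⟨σ, hσσ, hσσ⟩
  have hsm : AlgSp.LocP @Smooth s := by
    rw [← hσt]
    exact Groth.Agent.Lib.H5bFreeQ.locP_iso_comp @Smooth σ t htm
  have hj : AlgSp.IsEqvRelSp s t := isEqvRelSp_of_isKernelPair s t q hk
  have hmf : (@Smooth : MorphismProperty Scheme.{u}) ≤ @Flat :=
    fun _ _ g hg => by haveI : Smooth g := hg; infer_instance
  have hmp : (@Smooth : MorphismProperty Scheme.{u}) ≤ @LocallyOfFinitePresentation :=
    fun _ _ g hg => by haveI : Smooth g := hg; infer_instance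
  have hs' : AlgSp.LocP @Flat s ∧ AlgSp.LocP @LocallyOfFinitePresentation s :=
    ⟨Groth.Agent.Lib.Helper12.LargestOpen.locP_mono hmf hsm,
      Groth.Agent.Lib.Helper12.LargestOpen.locP_mono hmp hsm⟩
  have ht' : AlgSp.LocP @Flat t ∧ AlgSp.LocP @LocallyOfFinitePresentation t :=
    ⟨Groth.Agent.Lib.Helper12.LargestOpen.locP_mono hmf htm,
      Groth.Agent.Lib.Helper12.LargestOpen.locP_mono hmp htm⟩
  have hV := AlgSp.IsAlgSpace.yon_obj (S := S) V
  have hQ : AlgSp.IsAlgSpace (AlgSp.quotSp s t) :=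
    Groth.Agent.S10102.result S K _ hK hV s t hj hs' ht'
  have hkπ : IsPullback s t (AlgSp.quotSpπ s t) (AlgSp.quotSpπ s t) :=
    Groth.Agent.Lib.H5bEqvRelSp.isKernelPair_quotSpπ hj
  have hπm : AlgSp.LocP @Smooth (AlgSp.quotSpπ s t) :=
    locP_quotSpπ @Smooth Groth.Agent.Lib.Helper12.LocPCases.good_smooth
      (Groth.Agent.S10542.result S) hK hV s t hj htm hQ
  have hπs : AlgSp.IsSurjectiveMor (AlgSp.quotSpπ s t) :=
    (Groth.Agent.S10107.result S K _ hK hV s t hj hs' ht' hQ).1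
  obtain ⟨π, hπ⟩ : ∃ π : (AlgSp.yon S).obj V ⟶ AlgSp.quotSp s t, π = AlgSp.quotSpπ s t := ⟨_, rfl⟩
  rw [← hπ] at hkπ hπm hπs
  let Fe : SpE S := ⟨F, h1⟩
  let pe : toEt ((AlgSp.yon S).obj V) ⟶ Fe := ⟨q⟩
  haveI : Epi pe := epi_of_lift pe (fun T g => by
    obtain ⟨B, β₁, β₂, hB, sq, hβs, hβm⟩ := hchart g
    obtain ⟨T', c, l, hce, hcs, hl⟩ := exists_etale_lift hB β₂ hβs hβm
    refine ⟨T', c, (l ≫ β₁).hom, hce, hcs, ?_⟩
    have h3 : (l ≫ β₂).hom = ((AlgSp.yon S).map c).hom := congrArg (fun m => m.hom) hl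
    show (l.hom ≫ β₁.hom) ≫ q = (AlgSp.pyon S).map c ≫ g
    rw [Category.assoc, sq.w, ← Category.assoc]
    exact congrArg (fun m => m ≫ g) h3)
  haveI : Epi (toEtMap π) := epi_of_lift _ (fun T g => by
    let g' : (AlgSp.yon S).obj T ⟶ AlgSp.quotSp s t := ObjectProperty.homMk g
    have sq := IsPullback.of_hasPullback π g'
    have hB : AlgSp.IsAlgSpace (pullback π g') :=
      Groth.Agent.S9874.isAlgSpace_of_isPullback hQ.diag hV (AlgSp.IsAlgSpace.yon_obj T) sq
    have hβm : AlgSp.LocP @Smooth (pullback.snd π g') :=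
      Groth.Agent.Lib.Helper12.LocPCases.good_smooth.locP_baseChange hV hQ
        (AlgSp.IsAlgSpace.yon_obj T) sq hπm
    have hβs : AlgSp.IsSurjectiveMor (pullback.snd π g') := by
      intro x
      obtain ⟨y, hy⟩ := hπs (AlgSp.Points.map g' x)
      obtain ⟨z, hz1, hz2⟩ := Groth.Agent.S10175.exists_point_of_isPullback sq.flip x y hy.symm
      exact ⟨z, hz1⟩
    obtain ⟨T', c, l, hce, hcs, hl⟩ := exists_etale_lift hB _ hβs hβm
    refine ⟨T', c, (l ≫ pullback.fst π g').hom, hce, hcs, ?_⟩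
    have h3 : (l ≫ pullback.fst π g') ≫ π = (AlgSp.yon S).map c ≫ g' := by
      rw [Category.assoc, sq.w, ← Category.assoc, hl]
    exact congrArg (fun m => m.hom) h3)
  have hkE : IsPullback (toEtMap s) (toEtMap t) pe pe := by
    have hw : toEtMap s ≫ pe = toEtMap t ≫ pe := by
      apply Sheaf.hom_ext
      exact hk.w
    exact IsPullback.of_map (sheafToPresheaf (Je S) (Type (u + 1))) hw hk
  have hkE' := isPullback_toEtMap hkπ
  obtain ⟨e, -⟩ := exists_iso_of_kernelPair _ _ pe (toEtMap π) hkE hkE'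
  have eP : F ≅ (AlgSp.quotSp s t).obj :=
    (sheafToPresheaf (Je S) (Type (u + 1))).mapIso e
  exact AlgSp.IsAlgSpaceP.of_iso ((AlgSp.isAlgSpaceP_obj_iff _).2 hQ) eP.symm

end Groth.Agent.Lib.H5bBootEt
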