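import Mathlib

/-!
# Morphisms landing in an open subscheme; common field-valued points (helper5)

`In O a`: the morphism `a : T ⟶ X` lands in the open `O` of `X`.  `exists_common_point`: two points
with the same image in `Z` are the images of a common point of the fibre product, given as a
`K`-valued point for a field `K`.
-/

set_option autoImplicit false
set_option linter.unusedSectionVars false
set_option linter.style.haveILetI false
universe u

open CategoryTheory CategoryTheory.Limits AlgebraicGeometry

namespace Groth.Agent.Lib.H5bEL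

variable {X Y Z T T' : Scheme.{u}}

/-- the morphism `a` lands in the open `O`. -/
def In (O : X.Opens) (a : T ⟶ X) : Prop := ∀ x : T, a x ∈ O

lemma In.precomp {O : X.Opens} {a : T ⟶ X} (h : In O a) (f : T' ⟶ T) : In O (f ≫ a) := by
  intro x
  rw [Scheme.Hom.comp_apply]
  exact h (f x)

lemma in_of_precomp_surjective {O : X.Opens} {a : T ⟶ X} (f : T' ⟶ T)
    (hf : Function.Surjective f) (h : In O (f ≫ a)) : In O a := by
  intro x
  obtain ⟨y, rfl⟩ := hf x
  have := h y
  rwa [Scheme.Hom.comp_apply] at this

lemma in_ι {O : X.Opens} (a' : T ⟶ O.toScheme) : In O (a' ≫ O.ι) := by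
  intro x
  rw [Scheme.Hom.comp_apply]
  exact (a' x).2

lemma in_iff_exists_lift {O : X.Opens} {a : T ⟶ X} : In O a ↔ ∃ a' : T ⟶ O.toScheme, a' ≫ O.ι = a := by
  constructor
  · intro h
    have hr : Set.range a ⊆ Set.range O.ι := by
      rintro _ ⟨x, rfl⟩
      rw [Scheme.Opens.range_ι]
      exact h x
    exact ⟨IsOpenImmersion.lift O.ι a hr, IsOpenImmersion.lift_fac _ _ _⟩
  · rintro ⟨a', rfl⟩
    exact in_ι a'

lemma in_preimage {f : X ⟶ Y} {O : Y.Opens} {a : T ⟶ X} : In (f ⁻¹ᵁ O) a ↔ In O (a ≫ f) := by
  constructor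
  · intro h x
    rw [Scheme.Hom.comp_apply]
    exact h x
  · intro h x
    have := h x
    rwa [Scheme.Hom.comp_apply] at this

lemma in_inf {O O' : X.Opens} {a : T ⟶ X} : In (O ⊓ O') a ↔ In O a ∧ In O' a :=
  ⟨fun h => ⟨fun x => (h x).1, fun x => (h x).2⟩, fun h x => ⟨h.1 x, h.2 x⟩⟩

lemma in_congr {O : X.Opens} {a b : T ⟶ X} (h : a = b) : In O a ↔ In O b := by rw [h]

lemma in_top (a : T ⟶ X) : In (⊤ : X.Opens) a := fun _ => trivial

lemma in_mono {O O' : X.Opens} (hO : O ≤ O') {a : T ⟶ X} (h : In O a) : In O' a := fun x => hO (h x)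

/-- a morphism from the spectrum of a field lands in `O` iff its point does. -/
lemma in_iff_of_subsingleton [Subsingleton T] {O : X.Opens} {a : T ⟶ X} (p : T) :
    In O a ↔ a p ∈ O := by
  constructor
  · intro h
    exact h p
  · intro h x
    rwa [Subsingleton.elim x p]

instance subsingleton_spec_field (K : Type u) [Field K] : Subsingleton ↥(Spec (CommRingCat.of K)) :=
  inferInstanceAs (Subsingleton (PrimeSpectrum K))

instance nonempty_spec_field (K : Type u) [Field K] : Nonempty ↥(Spec (CommRingCat.of K)) :=
  inferInstanceAs (Nonempty (PrimeSpectrum K))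

/-- the point of the spectrum of a field. -/
noncomputable def pt (K : Type u) [Field K] : ↥(Spec (CommRingCat.of K)) := Classical.arbitrary _

/-- pointwise test for landing in an open. -/
lemma in_iff_forall_point {O : X.Opens} {a : T ⟶ X} :
    In O a ↔ ∀ x : T, In O (T.fromSpecResidueField x ≫ a) := by
  constructor
  · intro h x
    exact h.precomp _
  · intro h x
    have h1 := h x (Classical.arbitrary _)
    rw [Scheme.Hom.comp_apply, Scheme.fromSpecResidueField_apply] at h1
    exact h1

/-- every point is the image of a field-valued point. -/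
theorem exists_field_point (x : X) :
    ∃ (K : Type u) (_ : Field K) (a : Spec (CommRingCat.of K) ⟶ X), ∀ p, a p = x :=
  ⟨X.residueField x, inferInstance, X.fromSpecResidueField x,
    fun p => Scheme.fromSpecResidueField_apply _ _⟩

/-- pointwise test for landing in an open, with field-valued points. -/
lemma in_iff_forall_field {O : X.Opens} {a : T ⟶ X} :
    In O a ↔ ∀ (K : Type u) [Field K] (ι : Spec (CommRingCat.of K) ⟶ T), In O (ι ≫ a) := by
  constructor
  · intro h K _ ι
    exact h.precomp _
  · intro h x
    obtain ⟨K, _, ι, hι⟩ := exists_field_point x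
    have h1 := h K ι (pt K)
    rwa [Scheme.Hom.comp_apply, hι] at h1

/-- two points with the same image come from a common field-valued point of the fibre product. -/
theorem exists_common_point (f : X ⟶ Z) (g : Y ⟶ Z) (x : X) (y : Y) (h : f x = g y) :
    ∃ (K : Type u) (_ : Field K) (a : Spec (CommRingCat.of K) ⟶ X) (b : Spec (CommRingCat.of K) ⟶ Y),
      a ≫ f = b ≫ g ∧ (∀ p, a p = x) ∧ (∀ p, b p = y) := by
  obtain ⟨z, hz1, hz2⟩ := Scheme.Pullback.exists_preimage_pullback x y h
  refine ⟨(pullback f g).residueField z, inferInstance,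
    (pullback f g).fromSpecResidueField z ≫ pullback.fst f g,
    (pullback f g).fromSpecResidueField z ≫ pullback.snd f g, ?_, ?_, ?_⟩
  · rw [Category.assoc, Category.assoc, pullback.condition]
  · intro p
    rw [Scheme.Hom.comp_apply, Scheme.fromSpecResidueField_apply, hz1]
  · intro p
    rw [Scheme.Hom.comp_apply, Scheme.fromSpecResidueField_apply, hz2]

/-- a point in the range of `f` lifts along `f` after a field extension. -/
theorem exists_lift_point (f : Y ⟶ X) (K : Type u) [Field K] (a : Spec (CommRingCat.of K) ⟶ X)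
    (h : ∀ p, a p ∈ Set.range f) :
    ∃ (L : Type u) (_ : Field L) (l : Spec (CommRingCat.of L) ⟶ Spec (CommRingCat.of K))
      (b : Spec (CommRingCat.of L) ⟶ Y), b ≫ f = l ≫ a := by
  obtain ⟨y, hy⟩ := h (pt K)
  obtain ⟨L, _, l, b, hlb, -, -⟩ := exists_common_point a f (pt K) y hy.symm
  exact ⟨L, inferInstance, l, b, hlb.symm⟩

/-- a morphism between spectra of fields is an epimorphism. -/
lemma epi_spec_field (K L : Type u) [Field K] [Field L]
    (l : Spec (CommRingCat.of L) ⟶ Spec (CommRingCat.of K)) : Epi l := by
  obtain ⟨φ, rfl⟩ := Spec.map_surjective l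
  -- `Spec.map` of an injective map of fields: faithfully flat, hence an epimorphism of schemes
  haveI : Flat (Spec.map φ) := by
    rw [HasRingHomProperty.Spec_iff (P := @Flat)]
    algebraize [φ.hom]
    exact (RingHom.flat_algebraMap_iff (R := K) (S := L)).2 inferInstance
  haveI : Surjective (Spec.map φ) := ⟨fun x => ⟨pt L, Subsingleton.elim _ _⟩⟩
  haveI : QuasiCompact (Spec.map φ) := inferInstance
  infer_instance

end Groth.Agent.Lib.H5bEL
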