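import Mathlib
import Groth.Prelude.Def_Grpd
import Groth.Agent.Lib.Helper2Grpd

/-!
# Restriction of a groupoid scheme along an arbitrary morphism (helper5)

For a groupoid scheme `G` over `S` and a morphism `π : W ⟶ G.U`, `res G π` is the restriction of `G`
to `W`: its arrows form the base change of `j = (t, s) : R ⟶ U ×_S U` along `π × π`.  A `T`-point of
the arrows of `res G π` is a triple `(r, a, b)` with `r : T ⟶ R`, `a b : T ⟶ W`, `t r = π a`,
`s r = π b` (`Res.mk`).
-/

set_option autoImplicit false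
set_option linter.unusedSectionVars false
set_option linter.style.haveILetI false
universe u

open CategoryTheory CategoryTheory.Limits AlgebraicGeometry
open Groth.Agent.Lib.Helper2.Grpd

namespace Groth.Agent.Lib.H5bEL

variable {S : Scheme.{u}} (G : Grpd.GroupoidScheme S) {W : Scheme.{u}} (π : W ⟶ G.U)

namespace Res

/-- `π × π`. -/
noncomputable abbrev ππ : pullback (π ≫ G.pU) (π ≫ G.pU) ⟶ pullback G.pU G.pU :=
  pullback.map (π ≫ G.pU) (π ≫ G.pU) G.pU G.pU π π (𝟙 S) (Category.comp_id _) (Category.comp_id _)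

/-- arrows of the restriction. -/
noncomputable abbrev R : Scheme.{u} := pullback G.j (ππ G π)

/-- the map to the arrows of `G`. -/
noncomputable def fR : R G π ⟶ G.R := pullback.fst _ _

/-- target. -/
noncomputable def t : R G π ⟶ W := pullback.snd G.j (ππ G π) ≫ pullback.fst _ _

/-- source. -/
noncomputable def s : R G π ⟶ W := pullback.snd G.j (ππ G π) ≫ pullback.snd _ _

lemma j_fst : G.j ≫ pullback.fst G.pU G.pU = G.t := pullback.lift_fst _ _ _
lemma j_snd : G.j ≫ pullback.snd G.pU G.pU = G.s := pullback.lift_snd _ _ _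

@[reassoc] lemma fR_t : fR G π ≫ G.t = t G π ≫ π := by
  unfold fR t
  rw [← j_fst, ← Category.assoc, pullback.condition, Category.assoc, Category.assoc,
    pullback.lift_fst]

@[reassoc] lemma fR_s : fR G π ≫ G.s = s G π ≫ π := by
  unfold fR s
  rw [← j_snd, ← Category.assoc, pullback.condition, Category.assoc, Category.assoc,
    pullback.lift_snd]

variable {G π}
variable {T T' : Scheme.{u}}

/-- a `T`-point of the arrows of the restriction. -/
noncomputable def mk (r : T ⟶ G.R) (a b : T ⟶ W) (ht : r ≫ G.t = a ≫ π) (hs : r ≫ G.s = b ≫ π) :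
    T ⟶ R G π :=
  pullback.lift r (pullback.lift a b (by
    rw [← Category.assoc, ← ht, ← Category.assoc, ← hs, Category.assoc, Category.assoc,
      G.t_over, G.s_over])) (by
    apply pullback.hom_ext
    · rw [Category.assoc, j_fst, Category.assoc, pullback.lift_fst, pullback.lift_fst_assoc]
      exact ht
    · rw [Category.assoc, j_snd, Category.assoc, pullback.lift_snd, pullback.lift_snd_assoc]
      exact hs)

@[simp] lemma mk_fR (r : T ⟶ G.R) (a b : T ⟶ W) (ht : r ≫ G.t = a ≫ π) (hs : r ≫ G.s = b ≫ π) :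
    mk r a b ht hs ≫ fR G π = r := pullback.lift_fst _ _ _

@[simp] lemma mk_t (r : T ⟶ G.R) (a b : T ⟶ W) (ht : r ≫ G.t = a ≫ π) (hs : r ≫ G.s = b ≫ π) :
    mk r a b ht hs ≫ t G π = a := by
  unfold mk t
  rw [pullback.lift_snd_assoc, pullback.lift_fst]

@[simp] lemma mk_s (r : T ⟶ G.R) (a b : T ⟶ W) (ht : r ≫ G.t = a ≫ π) (hs : r ≫ G.s = b ≫ π) :
    mk r a b ht hs ≫ s G π = b := by
  unfold mk s
  rw [pullback.lift_snd_assoc, pullback.lift_snd]

lemma hom_ext {f g : T ⟶ R G π} (h1 : f ≫ fR G π = g ≫ fR G π) (h2 : f ≫ t G π = g ≫ t G π)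
    (h3 : f ≫ s G π = g ≫ s G π) : f = g := by
  apply pullback.hom_ext h1
  apply pullback.hom_ext
  · simpa only [Category.assoc, t] using h2
  · simpa only [Category.assoc, s] using h3

lemma precomp_mk (f : T' ⟶ T) (r : T ⟶ G.R) (a b : T ⟶ W) (ht : r ≫ G.t = a ≫ π)
    (hs : r ≫ G.s = b ≫ π) :
    f ≫ mk r a b ht hs = mk (f ≫ r) (f ≫ a) (f ≫ b) (by rw [Category.assoc, ht, Category.assoc])
      (by rw [Category.assoc, hs, Category.assoc]) := by
  apply hom_ext <;> simp only [Category.assoc, mk_fR, mk_t, mk_s]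

lemma eq_mk (f : T ⟶ R G π) :
    f = mk (f ≫ fR G π) (f ≫ t G π) (f ≫ s G π) (by rw [Category.assoc, fR_t, Category.assoc])
      (by rw [Category.assoc, fR_s, Category.assoc]) := by
  apply hom_ext <;> simp only [mk_fR, mk_t, mk_s]

variable (G π)

/-- identity. -/
noncomputable def e : W ⟶ R G π :=
  mk (π ≫ G.e) (𝟙 W) (𝟙 W) (by rw [Category.assoc, G.e_t, Category.comp_id, Category.id_comp])
    (by rw [Category.assoc, G.e_s, Category.comp_id, Category.id_comp])

/-- inverse. -/
noncomputable def i : R G π ⟶ R G π :=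
  mk (fR G π ≫ G.i) (s G π) (t G π) (by rw [Category.assoc, G.i_t, fR_s])
    (by rw [Category.assoc, G.i_s, fR_t])

lemma comp_cond :
    (pullback.fst (s G π) (t G π) ≫ fR G π) ≫ G.s = (pullback.snd (s G π) (t G π) ≫ fR G π) ≫ G.t := by
  rw [Category.assoc, fR_s, Category.assoc, fR_t, ← Category.assoc, pullback.condition,
    Category.assoc]

/-- composition. -/
noncomputable def c : pullback (s G π) (t G π) ⟶ R G π :=
  mk (comp G (pullback.fst _ _ ≫ fR G π) (pullback.snd _ _ ≫ fR G π) (comp_cond G π))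
    (pullback.fst _ _ ≫ t G π) (pullback.snd _ _ ≫ s G π)
    (by rw [comp_t, Category.assoc, fR_t, Category.assoc])
    (by rw [comp_s, Category.assoc, fR_s, Category.assoc])

variable {G π}

lemma lift_c_fR (α β : T ⟶ R G π) (h : α ≫ s G π = β ≫ t G π) :
    (pullback.lift α β h ≫ c G π) ≫ fR G π =
      comp G (α ≫ fR G π) (β ≫ fR G π) (by
        rw [Category.assoc, fR_s, Category.assoc, fR_t, ← Category.assoc, h, Category.assoc]) := by
  rw [Category.assoc]
  unfold c
  rw [mk_fR, precomp_comp]
  exact comp_congr G _ (by rw [← Category.assoc, pullback.lift_fst])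
    (by rw [← Category.assoc, pullback.lift_snd])

lemma lift_c_t (α β : T ⟶ R G π) (h : α ≫ s G π = β ≫ t G π) :
    (pullback.lift α β h ≫ c G π) ≫ t G π = α ≫ t G π := by
  rw [Category.assoc]
  unfold c
  rw [mk_t, ← Category.assoc, pullback.lift_fst]

lemma lift_c_s (α β : T ⟶ R G π) (h : α ≫ s G π = β ≫ t G π) :
    (pullback.lift α β h ≫ c G π) ≫ s G π = β ≫ s G π := by
  rw [Category.assoc]
  unfold c
  rw [mk_s, ← Category.assoc, pullback.lift_snd]

lemma e_fR : e G π ≫ fR G π = π ≫ G.e := mk_fR _ _ _ _ _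
lemma e_t : e G π ≫ t G π = 𝟙 W := mk_t _ _ _ _ _
lemma e_s : e G π ≫ s G π = 𝟙 W := mk_s _ _ _ _ _
lemma i_fR : i G π ≫ fR G π = fR G π ≫ G.i := mk_fR _ _ _ _ _
lemma i_t : i G π ≫ t G π = s G π := mk_t _ _ _ _ _
lemma i_s : i G π ≫ s G π = t G π := mk_s _ _ _ _ _

end Res

open Res in
/-- **the restriction of `G` along `π`**. -/
noncomputable def res : Grpd.GroupoidScheme S where
  U := W
  R := Res.R G π
  pU := π ≫ G.pU
  pR := Res.fR G π ≫ G.pR
  s := Res.s G π
  t := Res.t G π
  e := Res.e G π
  i := Res.i G π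
  c := Res.c G π
  s_over := by rw [← Category.assoc, ← fR_s, Category.assoc, G.s_over]
  t_over := by rw [← Category.assoc, ← fR_t, Category.assoc, G.t_over]
  comp_s := fun α β h => lift_c_s α β h
  comp_t := fun α β h => lift_c_t α β h
  assoc := fun α β γ h₁ h₂ => by
    apply Res.hom_ext
    · refine (lift_c_fR _ _ _).trans ?_
      refine Eq.trans ?_ (lift_c_fR _ _ _).symm
      rw [comp_congr G _ (lift_c_fR α β h₁) rfl, comp_congr G _ rfl (lift_c_fR β γ h₂)]
      exact comp_assoc G _ _ _ _ _
    · rw [lift_c_t, lift_c_t, lift_c_t]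
    · rw [lift_c_s, lift_c_s, lift_c_s]
  e_s := e_s
  e_t := e_t
  comp_e := fun α => by
    apply Res.hom_ext
    · rw [lift_c_fR]
      refine comp_e G _ _ ?_ _
      simp only [Category.assoc, e_fR, fR_s_assoc]
    · rw [lift_c_t]
    · rw [lift_c_s]
      simp only [Category.assoc, e_s, Category.comp_id]
  e_comp := fun α => by
    apply Res.hom_ext
    · rw [lift_c_fR]
      refine e_comp G _ _ ?_ _
      simp only [Category.assoc, e_fR, fR_t_assoc]
    · rw [lift_c_t]
      simp only [Category.assoc, e_t, Category.comp_id]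
    · rw [lift_c_s]
  i_s := i_s
  i_t := i_t
  comp_i := fun α => by
    apply Res.hom_ext
    · rw [lift_c_fR]
      have h1 : (α ≫ Res.i G π) ≫ fR G π = (α ≫ fR G π) ≫ G.i := by
        rw [Category.assoc, i_fR, Category.assoc]
      rw [comp_congr G _ rfl h1, comp_i]
      simp only [Category.assoc, e_fR, fR_t_assoc]
    · rw [lift_c_t]
      simp only [Category.assoc, e_t, Category.comp_id]
    · rw [lift_c_s]
      simp only [Category.assoc, e_s, i_s, Category.comp_id]
  i_comp := fun α => by
    apply Res.hom_ext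
    · rw [lift_c_fR]
      have h1 : (α ≫ Res.i G π) ≫ fR G π = (α ≫ fR G π) ≫ G.i := by
        rw [Category.assoc, i_fR, Category.assoc]
      rw [comp_congr G _ h1 rfl, i_comp]
      simp only [Category.assoc, e_fR, fR_s_assoc]
    · rw [lift_c_t]
      simp only [Category.assoc, e_t, i_t, Category.comp_id]
    · rw [lift_c_s]
      simp only [Category.assoc, e_s, Category.comp_id]

@[simp] lemma res_U : (res G π).U = W := rfl
@[simp] lemma res_R : (res G π).R = Res.R G π := rfl
lemma res_s : (res G π).s = Res.s G π := rfl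
lemma res_t : (res G π).t = Res.t G π := rfl
lemma res_e : (res G π).e = Res.e G π := rfl
lemma res_i : (res G π).i = Res.i G π := rfl
lemma res_c : (res G π).c = Res.c G π := rfl
lemma res_pU : (res G π).pU = π ≫ G.pU := rfl

/-- the morphism from the restriction to `G`. -/
noncomputable def resHom : Grpd.GroupoidScheme.Hom (res G π) G where
  fU := π
  fR := Res.fR G π
  fU_over := rfl
  comm_s := Res.fR_s G π
  comm_t := Res.fR_t G π
  comm_c := fun α β h => Res.lift_c_fR α β h

lemma resHom_fU : (resHom G π).fU = π := rfl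
lemma resHom_fR : (resHom G π).fR = Res.fR G π := rfl

lemma res_j : (res G π).j = pullback.snd G.j (Res.ππ G π) := by
  apply pullback.hom_ext
  · rw [Grpd.GroupoidScheme.j, pullback.lift_fst]
    rfl
  · rw [Grpd.GroupoidScheme.j, pullback.lift_snd]
    rfl

/-- the defining cartesian square of the restriction, in the shape used by the statements. -/
theorem isPullback_res :
    IsPullback (resHom G π).fR (res G π).j G.j
      (pullback.map (res G π).pU (res G π).pU G.pU G.pU (resHom G π).fU (resHom G π).fU (𝟙 S)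
        ((Category.comp_id _).trans (resHom G π).fU_over.symm)
        ((Category.comp_id _).trans (resHom G π).fU_over.symm)) := by
  rw [res_j]
  exact IsPullback.of_hasPullback G.j (Res.ππ G π)

end Groth.Agent.Lib.H5bEL
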