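import Mathlib
import Groth.Prelude.Def_Grpd
import Groth.Agent.Lib.Helper2Grpd

/-!
# The groupoid of `T`-points of a groupoid scheme (helper5)

`Pt G T`: the `T`-points of `G.U`, with arrows `x ⟶ y` the `T`-points `r` of `G.R` with `s r = x`, `t r = y`;
this is a (small) groupoid, so that computations with iterated composites of points of a groupoid scheme
can be done with the category tactics. `Pt.pull f : Pt G T ⥤ Pt G T'` is precomposition with `f : T' ⟶ T`.
-/

set_option autoImplicit false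
set_option linter.unusedSectionVars false
set_option linter.style.haveILetI false
universe u

open CategoryTheory CategoryTheory.Limits AlgebraicGeometry
open Groth.Agent.Lib.Helper2.Grpd

namespace Groth.Agent.Lib.H5bGrpdPts

variable {S : Scheme.{u}} (G : Grpd.GroupoidScheme S) (T : Scheme.{u})

/-- `T`-points of `G.U`, as the objects of the groupoid of `T`-points. -/
@[ext]
structure Pt where
  pt : T ⟶ G.U

namespace Pt

variable {G T}

/-- arrows of the groupoid of `T`-points. -/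
@[ext]
structure Arr (x y : Pt G T) where
  r : T ⟶ G.R
  hs : r ≫ G.s = x.pt
  ht : r ≫ G.t = y.pt

noncomputable instance : Groupoid (Pt G T) where
  Hom x y := Arr x y
  id x := ⟨x.pt ≫ G.e, by rw [Category.assoc, G.e_s, Category.comp_id],
    by rw [Category.assoc, G.e_t, Category.comp_id]⟩
  comp f g := ⟨comp G g.r f.r (g.hs.trans f.ht.symm), by rw [comp_s]; exact f.hs,
    by rw [comp_t]; exact g.ht⟩
  id_comp f := Arr.ext (comp_e G f.r _ (by rw [reassoc_of% f.hs]) _)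
  comp_id f := Arr.ext (e_comp G f.r _ (by rw [reassoc_of% f.ht]) _)
  assoc f g h := Arr.ext (comp_assoc G h.r g.r f.r _ _).symm
  inv f := ⟨f.r ≫ G.i, by rw [Category.assoc, G.i_s]; exact f.ht,
    by rw [Category.assoc, G.i_t]; exact f.hs⟩
  inv_comp f := Arr.ext (by
    change comp G f.r (f.r ≫ G.i) _ = _ ≫ G.e
    rw [comp_i, reassoc_of% f.ht])
  comp_inv f := Arr.ext (by
    change comp G (f.r ≫ G.i) f.r _ = _ ≫ G.e
    rw [i_comp, reassoc_of% f.hs])

/-- the arrow of a `T`-point of `G.R`. -/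
def ofR (r : T ⟶ G.R) : (⟨r ≫ G.s⟩ : Pt G T) ⟶ ⟨r ≫ G.t⟩ := ⟨r, rfl, rfl⟩

/-- the arrow of a `T`-point of `G.R` with given endpoints. -/
def mkArr {x y : Pt G T} (r : T ⟶ G.R) (hs : r ≫ G.s = x.pt) (ht : r ≫ G.t = y.pt) : x ⟶ y :=
  ⟨r, hs, ht⟩

@[simp] lemma mkArr_r {x y : Pt G T} (r : T ⟶ G.R) (hs : r ≫ G.s = x.pt) (ht : r ≫ G.t = y.pt) :
    (mkArr r hs ht).r = r := rfl

lemma hom_ext {x y : Pt G T} {f g : x ⟶ y} (h : f.r = g.r) : f = g := Arr.ext h

lemma id_r (x : Pt G T) : (𝟙 x : x ⟶ x).r = x.pt ≫ G.e := rfl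

lemma comp_r {x y z : Pt G T} (f : x ⟶ y) (g : y ⟶ z) :
    (f ≫ g).r = comp G g.r f.r (g.hs.trans f.ht.symm) := rfl

lemma inv_r {x y : Pt G T} (f : x ⟶ y) : (Groupoid.inv f).r = f.r ≫ G.i := rfl

variable {T' : Scheme.{u}}

/-- precomposition with `f : T' ⟶ T`. -/
noncomputable def pull (f : T' ⟶ T) : Pt G T ⥤ Pt G T' where
  obj x := ⟨f ≫ x.pt⟩
  map {x y} a := ⟨f ≫ a.r, by rw [Category.assoc, a.hs], by rw [Category.assoc, a.ht]⟩
  map_id x := Arr.ext (by
    change f ≫ x.pt ≫ G.e = (f ≫ x.pt) ≫ G.e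
    rw [Category.assoc])
  map_comp {x y z} a b := Arr.ext (by
    change f ≫ comp G b.r a.r _ = comp G (f ≫ b.r) (f ≫ a.r) _
    rw [precomp_comp])

@[simp] lemma pull_obj_pt (f : T' ⟶ T) (x : Pt G T) : ((pull f).obj x).pt = f ≫ x.pt := rfl

@[simp] lemma pull_map_r (f : T' ⟶ T) {x y : Pt G T} (a : x ⟶ y) : ((pull f).map a).r = f ≫ a.r :=
  rfl

end Pt

end Groth.Agent.Lib.H5bGrpdPts
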