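import Mathlib
import Groth.Agent.Lib.H5bELRes
import Groth.Agent.Lib.H5bELPts
import Groth.Agent.Lib.H5bGrpdPts

/-!
# The stabiliser of a family of open pieces of the source fibres (helper5)

`G` a groupoid scheme, `π : W ⟶ G.U`, `E = W ×_{π, U, s} R` the family of source fibres over `W`,
`𝒵` an open of `E`.  `Rel 𝒵 x y g` (for `g : π x → π y`) says `𝒵(y) · g ⊆ 𝒵(x)`; `SRel` is the
symmetric version `𝒵(y) · g = 𝒵(x)`.  For `𝒵` finite over `W`, `Stab.A` (resp. `Stab.P`) is the open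
of the arrows of the restriction `res G π` where `Rel` (resp. `SRel`) holds.
-/

set_option autoImplicit false
set_option linter.unusedSectionVars false
set_option linter.style.haveILetI false
universe u

open CategoryTheory CategoryTheory.Limits AlgebraicGeometry
open Groth.Agent.Lib.Helper2.Grpd Groth.Agent.Lib.H5bGrpdPts

namespace Groth.Agent.Lib.H5bEL

variable {S : Scheme.{u}} (G : Grpd.GroupoidScheme S) {W : Scheme.{u}} (π : W ⟶ G.U)

namespace Fib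

/-- the family of source fibres over `W`. -/
noncomputable abbrev E : Scheme.{u} := pullback π G.s

/-- projection to `W`. -/
noncomputable def pE : E G π ⟶ W := pullback.fst _ _

/-- projection to the arrows. -/
noncomputable def hE : E G π ⟶ G.R := pullback.snd _ _

@[reassoc] lemma pE_π : pE G π ≫ π = hE G π ≫ G.s := pullback.condition

variable {G π} {T T' : Scheme.{u}}

/-- a `T`-point of `E`. -/
noncomputable def mk (x : T ⟶ W) (h : T ⟶ G.R) (hx : x ≫ π = h ≫ G.s) : T ⟶ E G π :=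
  pullback.lift x h hx

@[simp, reassoc] lemma mk_pE (x : T ⟶ W) (h : T ⟶ G.R) (hx : x ≫ π = h ≫ G.s) :
    mk x h hx ≫ pE G π = x := pullback.lift_fst _ _ _

@[simp, reassoc] lemma mk_hE (x : T ⟶ W) (h : T ⟶ G.R) (hx : x ≫ π = h ≫ G.s) :
    mk x h hx ≫ hE G π = h := pullback.lift_snd _ _ _

lemma hom_ext {f g : T ⟶ E G π} (h1 : f ≫ pE G π = g ≫ pE G π) (h2 : f ≫ hE G π = g ≫ hE G π) :
    f = g := pullback.hom_ext h1 h2

lemma precomp_mk (f : T' ⟶ T) (x : T ⟶ W) (h : T ⟶ G.R) (hx : x ≫ π = h ≫ G.s) :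
    f ≫ mk x h hx = mk (f ≫ x) (f ≫ h) (by rw [Category.assoc, hx, Category.assoc]) := by
  apply hom_ext <;> simp only [Category.assoc, mk_pE, mk_hE]

lemma mk_congr {x x' : T ⟶ W} {h h' : T ⟶ G.R} (hx : x ≫ π = h ≫ G.s) (e1 : x = x')
    (e2 : h = h') : mk x h hx = mk x' h' (by subst e1 e2; exact hx) := by
  subst e1 e2
  rfl

lemma eq_mk (f : T ⟶ E G π) :
    f = mk (f ≫ pE G π) (f ≫ hE G π) (by rw [Category.assoc, pE_π, Category.assoc]) := by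
  apply hom_ext <;> simp only [mk_pE, mk_hE]

end Fib

section Rel

variable {G π} (𝒵 : (Fib.E G π).Opens) {T T' T'' : Scheme.{u}}

/-- the point `(x, h ∘ g)` of `E`. -/
noncomputable def act (x : T ⟶ W) (g : T ⟶ G.R) (hs : g ≫ G.s = x ≫ π) (h : T ⟶ G.R)
    (hc : h ≫ G.s = g ≫ G.t) : T ⟶ Fib.E G π :=
  Fib.mk x (comp G h g hc) (by rw [comp_s, hs])

lemma act_congr {x x' : T ⟶ W} {g g' h h' : T ⟶ G.R} (hs : g ≫ G.s = x ≫ π)
    (hc : h ≫ G.s = g ≫ G.t) (e1 : x = x') (e2 : g = g') (e3 : h = h') :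
    act x g hs h hc = act x' g' (by subst e1 e2; exact hs) h' (by subst e2 e3; exact hc) := by
  subst e1 e2 e3
  rfl

lemma precomp_act (f : T' ⟶ T) (x : T ⟶ W) (g : T ⟶ G.R) (hs : g ≫ G.s = x ≫ π) (h : T ⟶ G.R)
    (hc : h ≫ G.s = g ≫ G.t) :
    f ≫ act x g hs h hc = act (f ≫ x) (f ≫ g) (by rw [Category.assoc, hs, Category.assoc]) (f ≫ h)
      (by rw [Category.assoc, hc, Category.assoc]) := by
  unfold act
  rw [Fib.precomp_mk]
  exact Fib.mk_congr _ rfl (precomp_comp G f h g hc)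

/-- `𝒵(y) · g ⊆ 𝒵(x)`, universally. -/
def Rel (x y : T ⟶ W) (g : T ⟶ G.R) (hs : g ≫ G.s = x ≫ π) (ht : g ≫ G.t = y ≫ π) : Prop :=
  ∀ (T' : Scheme.{u}) (l : T' ⟶ T) (h : T' ⟶ G.R) (hh : h ≫ G.s = l ≫ y ≫ π),
    In 𝒵 (Fib.mk (l ≫ y) h ((Category.assoc _ _ _).trans hh.symm)) →
      In 𝒵 (act (l ≫ x) (l ≫ g) (by rw [Category.assoc, hs, Category.assoc]) h
        (hh.trans (by rw [Category.assoc, ht])))

variable {𝒵}

lemma Rel.congr {x x' y y' : T ⟶ W} {g g' : T ⟶ G.R} {hs : g ≫ G.s = x ≫ π}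
    {ht : g ≫ G.t = y ≫ π} (h : Rel 𝒵 x y g hs ht) (e1 : x = x') (e2 : y = y') (e3 : g = g') :
    Rel 𝒵 x' y' g' (by subst e1 e3; exact hs) (by subst e2 e3; exact ht) := by
  subst e1 e2 e3
  exact h

lemma Rel.precomp {x y : T ⟶ W} {g : T ⟶ G.R} {hs : g ≫ G.s = x ≫ π} {ht : g ≫ G.t = y ≫ π}
    (h : Rel 𝒵 x y g hs ht) (f : T' ⟶ T) :
    Rel 𝒵 (f ≫ x) (f ≫ y) (f ≫ g) (by rw [Category.assoc, hs, Category.assoc])
      (by rw [Category.assoc, ht, Category.assoc]) := by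
  intro T'' l k hk hin
  have hk' : k ≫ G.s = (l ≫ f) ≫ y ≫ π := by rw [hk, Category.assoc, Category.assoc]
  have h1 := h T'' (l ≫ f) k hk' (by
    rw [in_congr (Fib.mk_congr _ (Category.assoc l f y) rfl)]
    exact hin)
  rw [in_congr (act_congr _ _ (Category.assoc l f x) (Category.assoc l f g) rfl)] at h1
  exact h1

/-- reflexivity. -/
lemma Rel.refl (x : T ⟶ W) :
    Rel 𝒵 x x (x ≫ π ≫ G.e) (by rw [Category.assoc, Category.assoc, G.e_s, Category.comp_id])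
      (by rw [Category.assoc, Category.assoc, G.e_t, Category.comp_id]) := by
  intro T' l h hh hin
  have h1 : comp G h (l ≫ x ≫ π ≫ G.e)
      (hh.trans (by rw [Category.assoc, Category.assoc, Category.assoc, G.e_t, Category.comp_id])) = h :=
    comp_e G h _ (by rw [reassoc_of% hh]) _
  unfold act
  rw [in_congr (Fib.mk_congr _ rfl h1)]
  exact hin

/-- transitivity. -/
lemma Rel.trans {x y z : T ⟶ W} {g g' : T ⟶ G.R} {hs : g ≫ G.s = x ≫ π} {ht : g ≫ G.t = y ≫ π}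
    {hs' : g' ≫ G.s = y ≫ π} {ht' : g' ≫ G.t = z ≫ π} (h : Rel 𝒵 x y g hs ht)
    (h' : Rel 𝒵 y z g' hs' ht') :
    Rel 𝒵 x z (comp G g' g (hs'.trans ht.symm)) (by rw [comp_s, hs]) (by rw [comp_t, ht']) := by
  intro T' l k hk hin
  have h1 := h' T' l k hk hin
  have hk2 : comp G k (l ≫ g') (hk.trans (by rw [Category.assoc, ht'])) ≫ G.s = l ≫ y ≫ π := by
    rw [comp_s, Category.assoc, hs']
  have h2 := h T' l (comp G k (l ≫ g') (hk.trans (by rw [Category.assoc, ht']))) hk2 h1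
  unfold act at h2 ⊢
  refine (in_congr (Fib.mk_congr _ rfl ?_)).1 h2
  rw [comp_assoc G k (l ≫ g') (l ≫ g) _ (by rw [Category.assoc, hs', Category.assoc, ht])]
  exact comp_congr G _ rfl (precomp_comp G l g' g _).symm

/-- `𝒵(y) · g = 𝒵(x)`, universally. -/
def SRel (𝒵 : (Fib.E G π).Opens) (x y : T ⟶ W) (g : T ⟶ G.R) (hs : g ≫ G.s = x ≫ π)
    (ht : g ≫ G.t = y ≫ π) : Prop :=
  Rel 𝒵 x y g hs ht ∧ Rel 𝒵 y x (g ≫ G.i) (by rw [Category.assoc, G.i_s, ht])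
    (by rw [Category.assoc, G.i_t, hs])

lemma e_i : G.e ≫ G.i = G.e := by
  let x : Pt G G.U := ⟨𝟙 _⟩
  have h := Pt.inv_r (𝟙 x)
  have h2 : Groupoid.inv (𝟙 x) = 𝟙 x := by
    rw [Groupoid.inv_eq_inv, IsIso.inv_id]
  rw [h2, Pt.id_r] at h
  have h3 : (𝟙 G.U ≫ G.e) ≫ G.i = 𝟙 G.U ≫ G.e := h.symm
  simpa using h3

lemma i_i : G.i ≫ G.i = 𝟙 _ := by
  let f : (⟨G.s⟩ : Pt G G.R) ⟶ ⟨G.t⟩ := Pt.mkArr (𝟙 _) (Category.id_comp _) (Category.id_comp _)
  have h2 : Groupoid.inv (Groupoid.inv f) = f := by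
    rw [Groupoid.inv_eq_inv, Groupoid.inv_eq_inv, IsIso.inv_inv]
  have h := congrArg Pt.Arr.r h2
  rw [Pt.inv_r, Pt.inv_r] at h
  simpa [f] using h

lemma comp_i_eq {a b : T ⟶ G.R} (h : a ≫ G.s = b ≫ G.t) :
    comp G a b h ≫ G.i = comp G (b ≫ G.i) (a ≫ G.i)
      (by rw [Category.assoc, G.i_s, Category.assoc, G.i_t, h]) := by
  let f : (⟨b ≫ G.s⟩ : Pt G T) ⟶ ⟨b ≫ G.t⟩ := Pt.ofR b
  let f' : (⟨b ≫ G.t⟩ : Pt G T) ⟶ ⟨a ≫ G.t⟩ := Pt.mkArr a h rfl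
  have h2 : Groupoid.inv (f ≫ f') = Groupoid.inv f' ≫ Groupoid.inv f := by
    rw [Groupoid.inv_eq_inv, Groupoid.inv_eq_inv, Groupoid.inv_eq_inv, IsIso.inv_comp]
  have h3 := congrArg Pt.Arr.r h2
  rw [Pt.inv_r, Pt.comp_r, Pt.comp_r] at h3
  exact h3

lemma SRel.refl (x : T ⟶ W) :
    SRel 𝒵 x x (x ≫ π ≫ G.e) (by rw [Category.assoc, Category.assoc, G.e_s, Category.comp_id])
      (by rw [Category.assoc, Category.assoc, G.e_t, Category.comp_id]) := by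
  refine ⟨Rel.refl x, ?_⟩
  have h1 : (x ≫ π ≫ G.e) ≫ G.i = x ≫ π ≫ G.e := by
    rw [Category.assoc, Category.assoc, e_i]
  exact (Rel.refl (𝒵 := 𝒵) x).congr rfl rfl h1.symm

lemma SRel.symm {x y : T ⟶ W} {g : T ⟶ G.R} {hs : g ≫ G.s = x ≫ π} {ht : g ≫ G.t = y ≫ π}
    (h : SRel 𝒵 x y g hs ht) :
    SRel 𝒵 y x (g ≫ G.i) (by rw [Category.assoc, G.i_s, ht]) (by rw [Category.assoc, G.i_t, hs]) := by
  refine ⟨h.2, ?_⟩
  have h1 : (g ≫ G.i) ≫ G.i = g := by rw [Category.assoc, i_i, Category.comp_id]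
  exact h.1.congr rfl rfl h1.symm

lemma SRel.trans {x y z : T ⟶ W} {g g' : T ⟶ G.R} {hs : g ≫ G.s = x ≫ π}
    {ht : g ≫ G.t = y ≫ π} {hs' : g' ≫ G.s = y ≫ π} {ht' : g' ≫ G.t = z ≫ π}
    (h : SRel 𝒵 x y g hs ht) (h' : SRel 𝒵 y z g' hs' ht') :
    SRel 𝒵 x z (comp G g' g (hs'.trans ht.symm)) (by rw [comp_s, hs]) (by rw [comp_t, ht']) := by
  refine ⟨h.1.trans h'.1, ?_⟩
  exact (h'.2.trans h.2).congr rfl rfl (comp_i_eq _).symm

lemma SRel.precomp {x y : T ⟶ W} {g : T ⟶ G.R} {hs : g ≫ G.s = x ≫ π} {ht : g ≫ G.t = y ≫ π}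
    (h : SRel 𝒵 x y g hs ht) (f : T' ⟶ T) :
    SRel 𝒵 (f ≫ x) (f ≫ y) (f ≫ g) (by rw [Category.assoc, hs, Category.assoc])
      (by rw [Category.assoc, ht, Category.assoc]) :=
  ⟨h.1.precomp f, (h.2.precomp f).congr rfl rfl (Category.assoc _ _ _).symm⟩

lemma SRel.congr {x x' y y' : T ⟶ W} {g g' : T ⟶ G.R} {hs : g ≫ G.s = x ≫ π}
    {ht : g ≫ G.t = y ≫ π} (h : SRel 𝒵 x y g hs ht) (e1 : x = x') (e2 : y = y') (e3 : g = g') :
    SRel 𝒵 x' y' g' (by subst e1 e3; exact hs) (by subst e2 e3; exact ht) := by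
  subst e1 e2 e3
  exact h

/-- the basic consequence of `SRel`: membership of `(y, h)` and `(x, h ∘ g)` agree. -/
lemma SRel.in_iff {x y : T ⟶ W} {g : T ⟶ G.R} {hs : g ≫ G.s = x ≫ π} {ht : g ≫ G.t = y ≫ π}
    (h : SRel 𝒵 x y g hs ht) (k : T ⟶ G.R) (hk : k ≫ G.s = y ≫ π) :
    In 𝒵 (Fib.mk y k hk.symm) ↔ In 𝒵 (act x g hs k (hk.trans ht.symm)) := by
  constructor
  · intro hin
    have h1 := h.1 T (𝟙 T) k (by rw [Category.id_comp, hk]) (by
      rw [in_congr (Fib.mk_congr _ (Category.id_comp y) rfl)]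
      exact hin)
    rw [in_congr (act_congr _ _ (Category.id_comp x) (Category.id_comp g) rfl)] at h1
    exact h1
  · intro hin
    have hk2 : comp G k g (hk.trans ht.symm) ≫ G.s = 𝟙 T ≫ x ≫ π := by
      rw [comp_s, hs, Category.id_comp]
    have h1 := h.2 T (𝟙 T) (comp G k g (hk.trans ht.symm)) hk2 (by
      unfold act at hin
      rw [in_congr (Fib.mk_congr _ (Category.id_comp x) rfl)]
      exact hin)
    unfold act at h1
    refine (in_congr (Fib.mk_congr _ (Category.id_comp y) ?_)).1 h1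
    rw [comp_congr G _ rfl (Category.id_comp (g ≫ G.i))]
    exact comp_comp_i G k g _ _

end Rel

end Groth.Agent.Lib.H5bEL
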