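import Mathlib
import Groth.Agent.S0216

/-!
# Two structure maps to a field that share a retraction agree on integral pieces (helper5)

Ring-level consequence of "a connected reduced scheme locally of finite type over two fields has
the same integral closures": `sub_mem_of_le`.
-/

set_option autoImplicit false
set_option linter.style.haveILetI false
set_option linter.unusedSectionVars false
universe u

open CategoryTheory AlgebraicGeometry

namespace Groth.Agent.Lib.H5bSl

/-- integrality over two fields, ring form of S0216 -/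
theorem isIntegralElem_iff_of_finiteType {κ D : Type u} [Field κ] [CommRing D] [IsDomain D]
    (σ τ : κ →+* D) (hσ : σ.FiniteType) (hτ : τ.FiniteType) (d : D) :
    σ.IsIntegralElem d ↔ τ.IsIntegralElem d := by
  let X : Scheme.{u} := Spec (CommRingCat.of D)
  let a : X ⟶ Spec (CommRingCat.of κ) := Spec.map (CommRingCat.ofHom σ)
  let b : X ⟶ Spec (CommRingCat.of κ) := Spec.map (CommRingCat.ofHom τ)
  haveI : LocallyOfFiniteType a := (HasRingHomProperty.Spec_iff (P := @LocallyOfFiniteType)).mpr hσ
  haveI : LocallyOfFiniteType b := (HasRingHomProperty.Spec_iff (P := @LocallyOfFiniteType)).mpr hτ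
  haveI : IsReduced X := inferInstance
  haveI : ConnectedSpace X := by
    haveI : IrreducibleSpace (PrimeSpectrum D) := inferInstance
    show ConnectedSpace (PrimeSpectrum D)
    infer_instance
  let iD := (Scheme.ΓSpecIso (CommRingCat.of D))
  have key := Groth.Agent.S0216.result X κ κ a b (iD.inv.hom d)
  have ha : Coh.toGlobal a = iD.inv.hom.comp σ := by
    ext x
    have := Scheme.ΓSpecIso_inv_naturality (CommRingCat.ofHom σ)
    have h2 := congrArg (fun φ => φ.hom x) this
    exact h2.symm
  have hb : Coh.toGlobal b = iD.inv.hom.comp τ := by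
    ext x
    have := Scheme.ΓSpecIso_inv_naturality (CommRingCat.ofHom τ)
    have h2 := congrArg (fun φ => φ.hom x) this
    exact h2.symm
  have tr : ∀ ρ : κ →+* D, (iD.inv.hom.comp ρ).IsIntegralElem (iD.inv.hom d) ↔ ρ.IsIntegralElem d := by
    intro ρ
    constructor
    · rintro ⟨p, hp, h0⟩
      refine ⟨p, hp, ?_⟩
      have h1 : iD.inv.hom (Polynomial.eval₂ ρ d p) = 0 := by
        rw [Polynomial.hom_eval₂]; exact h0
      have hinj : Function.Injective iD.inv.hom :=
        ((ConcreteCategory.isIso_iff_bijective iD.inv).mp inferInstance).1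
      exact hinj (h1.trans (map_zero _).symm)
    · rintro ⟨p, hp, h0⟩
      refine ⟨p, hp, ?_⟩
      rw [← Polynomial.hom_eval₂, h0, map_zero]
  rw [ha, hb] at key
  exact (tr σ).symm.trans (key.trans (tr τ))

theorem sub_mem_of_le {A B A' : Type u} [CommRing A] [CommRing B] [CommRing A']
    (σ τ : A →+* B) (ε : B →+* A') (hε : ε.comp σ = ε.comp τ)
    (hσ : σ.FiniteType) (hτ : τ.FiniteType) (m : Ideal A) [hm : m.IsMaximal]
    (m' : Ideal A') [m'.IsPrime]
    (Q' : Ideal B) [Q'.IsPrime] (hQ' : Q' ≤ m'.comap ε) (h1 : m.map σ ≤ Q') (h2 : m.map τ ≤ Q') :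
    ∀ a : A, σ a - τ a ∈ Q' := by
  letI : Field (A ⧸ m) := Ideal.Quotient.field m
  let D := B ⧸ Q'
  have k1 : ∀ a ∈ m, (Ideal.Quotient.mk Q').comp σ a = 0 := fun a ha =>
    Ideal.Quotient.eq_zero_iff_mem.mpr (h1 (Ideal.mem_map_of_mem σ ha))
  have k2 : ∀ a ∈ m, (Ideal.Quotient.mk Q').comp τ a = 0 := fun a ha =>
    Ideal.Quotient.eq_zero_iff_mem.mpr (h2 (Ideal.mem_map_of_mem τ ha))
  let σ' : A ⧸ m →+* D := Ideal.Quotient.lift m ((Ideal.Quotient.mk Q').comp σ) k1
  let τ' : A ⧸ m →+* D := Ideal.Quotient.lift m ((Ideal.Quotient.mk Q').comp τ) k2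
  have hσ' : σ'.FiniteType := by
    refine RingHom.FiniteType.of_comp_finiteType (f := Ideal.Quotient.mk m) ?_
    have : σ'.comp (Ideal.Quotient.mk m) = (Ideal.Quotient.mk Q').comp σ := by
      ext x; rfl
    rw [this]
    exact (RingHom.FiniteType.of_surjective _ Ideal.Quotient.mk_surjective).comp hσ
  have hτ' : τ'.FiniteType := by
    refine RingHom.FiniteType.of_comp_finiteType (f := Ideal.Quotient.mk m) ?_
    have : τ'.comp (Ideal.Quotient.mk m) = (Ideal.Quotient.mk Q').comp τ := by
      ext x; rfl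
    rw [this]
    exact (RingHom.FiniteType.of_surjective _ Ideal.Quotient.mk_surjective).comp hτ
  -- the retraction
  let ε' : D →+* A' ⧸ m' := Ideal.Quotient.lift Q' ((Ideal.Quotient.mk m').comp ε) (fun b hb =>
    Ideal.Quotient.eq_zero_iff_mem.mpr (hQ' hb))
  intro a
  by_contra hne
  let lam : A ⧸ m := Ideal.Quotient.mk m a
  let y : D := σ' lam - τ' lam
  have hy0 : y ≠ 0 := by
    intro h
    apply hne
    have : Ideal.Quotient.mk Q' (σ a - τ a) = 0 := by
      rw [map_sub]; exact h
    exact Ideal.Quotient.eq_zero_iff_mem.mp this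
  have hint : σ'.IsIntegralElem y := by
    have i1 : σ'.IsIntegralElem (σ' lam) := σ'.isIntegralElem_map
    have i2 : σ'.IsIntegralElem (τ' lam) :=
      (isIntegralElem_iff_of_finiteType σ' τ' hσ' hτ' _).mpr τ'.isIntegralElem_map
    exact RingHom.IsIntegralElem.sub σ' i1 i2
  letI : Algebra (A ⧸ m) D := σ'.toAlgebra
  have hunit : IsUnit y := IsIntegral.isUnit (R := A ⧸ m) hint hy0
  have hεy : ε' y = 0 := by
    have e1 : ε' (σ' lam) = Ideal.Quotient.mk m' (ε (σ a)) := rfl
    have e2 : ε' (τ' lam) = Ideal.Quotient.mk m' (ε (τ a)) := rfl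
    have e3 : ε (σ a) = ε (τ a) := congrArg (fun φ => φ a) hε
    show ε' (σ' lam - τ' lam) = 0
    rw [map_sub, e1, e2, e3, sub_self]
  have := hunit.map ε'
  rw [hεy] at this
  exact not_isUnit_zero this

end Groth.Agent.Lib.H5bSl
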