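import Mathlib
import Groth.Prelude.Def_Grpd
import Groth.Agent.Lib.H5bSlZ

/-!
# No non-trivial generization of `e u` inside `(t, s)⁻¹(u, u)` (helper5)

For a groupoid scheme with `j = (t, s)` a monomorphism and `s, t` locally of finite type, and `u`
a point of `U` closed in an affine open: a prime `Q' ⊆ q = 𝔭_{e u}` of a chart of `R` containing
`s♯(𝔪_u)` and `t♯(𝔪_u)` equals `q`.
-/

set_option autoImplicit false
set_option linter.style.haveILetI false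
set_option linter.unusedSectionVars false
universe u

open CategoryTheory CategoryTheory.Limits AlgebraicGeometry

namespace Groth.Agent.Lib.H5bSl

theorem appLE_congr {X Y : Scheme.{u}} {f g : X ⟶ Y} (h : f = g) (U : Y.Opens) (V : X.Opens)
    (e : V ≤ f ⁻¹ᵁ U) : f.appLE U V e = g.appLE U V (h ▸ e) := by
  subst h; rfl

variable {S : Scheme.{u}} (G : Grpd.GroupoidScheme S)

theorem inj_of_mono [Mono G.j] {T : Scheme.{u}} (a b : T ⟶ G.R) (ht : a ≫ G.t = b ≫ G.t)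
    (hs : a ≫ G.s = b ≫ G.s) : a = b := by
  rw [← cancel_mono G.j]
  apply pullback.hom_ext
  · simp only [Category.assoc, Grpd.GroupoidScheme.j, pullback.lift_fst]; exact ht
  · simp only [Category.assoc, Grpd.GroupoidScheme.j, pullback.lift_snd]; exact hs

set_option maxHeartbeats 800000 in
theorem prime_eq_of_le [Mono G.j] [LocallyOfFiniteType G.s] [LocallyOfFiniteType G.t]
    {V : G.U.Opens} (hV : IsAffineOpen V) {R₀ : G.R.Opens} (hR₀ : IsAffineOpen R₀)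
    (hs : R₀ ≤ G.s ⁻¹ᵁ V) (ht : R₀ ≤ G.t ⁻¹ᵁ V) (u : G.U) (huV : u ∈ V) (heR : G.e u ∈ R₀)
    (hmax : (hV.primeIdealOf ⟨u, huV⟩).asIdeal.IsMaximal)
    (Q' : Ideal Γ(G.R, R₀)) [hQ'p : Q'.IsPrime]
    (hle : Q' ≤ (hR₀.primeIdealOf ⟨G.e u, heR⟩).asIdeal)
    (h1 : (hV.primeIdealOf ⟨u, huV⟩).asIdeal.map (G.s.appLE V R₀ hs).hom ≤ Q')
    (h2 : (hV.primeIdealOf ⟨u, huV⟩).asIdeal.map (G.t.appLE V R₀ ht).hom ≤ Q') :
    Q' = (hR₀.primeIdealOf ⟨G.e u, heR⟩).asIdeal := by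
  obtain ⟨f, hfle, huf⟩ := hV.exists_basicOpen_le (V := G.e ⁻¹ᵁ R₀) ⟨u, heR⟩ huV
  set V' : G.U.Opens := G.U.basicOpen f with hV'def
  have hV' : IsAffineOpen V' := hV.basicOpen f
  have hV'V : V' ≤ V := G.U.basicOpen_le f
  set m : Ideal Γ(G.U, V) := (hV.primeIdealOf ⟨u, huV⟩).asIdeal with hm
  set σ : Γ(G.U, V) →+* Γ(G.R, R₀) := (G.s.appLE V R₀ hs).hom with hσdef
  set τ : Γ(G.U, V) →+* Γ(G.R, R₀) := (G.t.appLE V R₀ ht).hom with hτdef
  set ε : Γ(G.R, R₀) →+* Γ(G.U, V') := (G.e.appLE R₀ V' hfle).hom with hεdef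
  have hε : ε.comp σ = ε.comp τ := by
    have e1 := Scheme.Hom.appLE_comp_appLE G.e G.s V R₀ V' hs hfle
    have e2 := Scheme.Hom.appLE_comp_appLE G.e G.t V R₀ V' ht hfle
    have e4 : G.s.appLE V R₀ hs ≫ G.e.appLE R₀ V' hfle = G.t.appLE V R₀ ht ≫ G.e.appLE R₀ V' hfle := by
      rw [e1, e2]
      exact appLE_congr (G.e_s.trans G.e_t.symm) V V' _
    have := congrArg CommRingCat.Hom.hom e4
    simpa only [CommRingCat.hom_comp] using this
  have hσ : σ.FiniteType :=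
    HasRingHomProperty.appLE (P := @LocallyOfFiniteType) G.s inferInstance ⟨V, hV⟩ ⟨R₀, hR₀⟩ hs
  have hτ : τ.FiniteType :=
    HasRingHomProperty.appLE (P := @LocallyOfFiniteType) G.t inferInstance ⟨V, hV⟩ ⟨R₀, hR₀⟩ ht
  set m' : Ideal Γ(G.U, V') := (hV'.primeIdealOf ⟨u, huf⟩).asIdeal with hm'
  have hq : (hR₀.primeIdealOf ⟨G.e u, heR⟩).asIdeal = m'.comap ε := by
    have := IsAffineOpen.comap_primeIdealOf_appLE (f := G.e) R₀ hR₀ V' hV' hfle huf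
    have h3 := congrArg PrimeSpectrum.asIdeal this
    rw [PrimeSpectrum.comap_asIdeal] at h3
    exact h3.symm
  haveI : m.IsMaximal := hmax
  have hsub := sub_mem_of_le σ τ ε hε hσ hτ m m' Q' (hq ▸ hle) h1 h2
  -- the scheme part
  let qm : Γ(G.R, R₀) ⟶ CommRingCat.of (Γ(G.R, R₀) ⧸ Q') := CommRingCat.ofHom (Ideal.Quotient.mk Q')
  obtain ⟨ι, hιdef⟩ : ∃ ι : Spec (CommRingCat.of (Γ(G.R, R₀) ⧸ Q')) ⟶ G.R,
    ι = Spec.map qm ≫ hR₀.fromSpec := ⟨_, rfl⟩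
  have hιs : ι ≫ G.s = Spec.map (G.s.appLE V R₀ hs ≫ qm) ≫ hV.fromSpec := by
    rw [hιdef, Spec.map_comp, Category.assoc, Category.assoc,
      IsAffineOpen.SpecMap_appLE_fromSpec G.s hV hR₀ hs]
  have hιt : ι ≫ G.t = Spec.map (G.t.appLE V R₀ ht ≫ qm) ≫ hV.fromSpec := by
    rw [hιdef, Spec.map_comp, Category.assoc, Category.assoc,
      IsAffineOpen.SpecMap_appLE_fromSpec G.t hV hR₀ ht]
  have hst : G.s.appLE V R₀ hs ≫ qm = G.t.appLE V R₀ ht ≫ qm := by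
    ext a
    show Ideal.Quotient.mk Q' (σ a) = Ideal.Quotient.mk Q' (τ a)
    rw [Ideal.Quotient.eq]
    exact hsub a
  have hιst : ι ≫ G.s = ι ≫ G.t := by rw [hιs, hιt, hst]
  have hιe : ι = ι ≫ G.s ≫ G.e := by
    apply inj_of_mono G
    · rw [Category.assoc, Category.assoc, G.e_t, Category.comp_id, hιst]
    · rw [Category.assoc, Category.assoc, G.e_s, Category.comp_id]
  haveI : IsDomain (Γ(G.R, R₀) ⧸ Q') := Ideal.Quotient.isDomain Q'
  let ξ : Spec (CommRingCat.of (Γ(G.R, R₀) ⧸ Q')) := ⟨⊥, Ideal.isPrime_bot⟩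
  have hξ : Spec.map qm ξ = ⟨Q', hQ'p⟩ := by
    apply PrimeSpectrum.ext
    show Ideal.comap (Ideal.Quotient.mk Q') ⊥ = Q'
    rw [← RingHom.ker_eq_comap_bot, Ideal.mk_ker]
  have hr : ι ξ = hR₀.fromSpec ⟨Q', hQ'p⟩ := by
    rw [hιdef, Scheme.Hom.comp_apply, hξ]
  have hsr : G.s (ι ξ) = u := by
    rw [← Scheme.Hom.comp_apply, hιs, Scheme.Hom.comp_apply]
    have e5 : Spec.map (G.s.appLE V R₀ hs ≫ qm) ξ = hV.primeIdealOf ⟨u, huV⟩ := by
      apply PrimeSpectrum.ext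
      show Ideal.comap (G.s.appLE V R₀ hs ≫ qm).hom ⊥ = m
      have e6 : Ideal.comap (G.s.appLE V R₀ hs ≫ qm).hom ⊥ = Q'.comap σ := by
        rw [CommRingCat.hom_comp, ← Ideal.comap_comap]
        congr 1
        show Ideal.comap (Ideal.Quotient.mk Q') ⊥ = Q'
        rw [← RingHom.ker_eq_comap_bot, Ideal.mk_ker]
      rw [e6]
      have hprime : (Q'.comap σ).IsPrime := Ideal.comap_isPrime σ Q'
      exact (hmax.eq_of_le hprime.ne_top (Ideal.map_le_iff_le_comap.mp h1)).symm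
    rw [e5]
    exact hV.fromSpec_primeIdealOf ⟨u, huV⟩
  have hre : ι ξ = G.e u := by
    have := congrArg (fun φ : _ ⟶ G.R => φ ξ) hιe
    simp only at this
    rw [this, Scheme.Hom.comp_apply, Scheme.Hom.comp_apply, hsr]
  have hfin : hR₀.fromSpec ⟨Q', hQ'p⟩ = hR₀.fromSpec (hR₀.primeIdealOf ⟨G.e u, heR⟩) := by
    rw [← hr, hre]
    exact (hR₀.fromSpec_primeIdealOf ⟨G.e u, heR⟩).symm
  have := hR₀.fromSpec.isOpenEmbedding.injective hfin
  exact congrArg PrimeSpectrum.asIdeal this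

end Groth.Agent.Lib.H5bSl
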