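import Mathlib
import Groth.Prelude.Def_AlgSp
import Groth.Agent.Lib.H5bSlPt
import Groth.Agent.Lib.Helper2Grpd
import Groth.Agent.Lib.H5bELStab
import Groth.Agent.Lib.H5bDDGenA

/-!
# Groupoid schemes with open identity section are étale (helper5)

* `isPullback_diagonal`: for a groupoid scheme with `j` a monomorphism, the diagonal of `s` is a base
  change of the identity section `e`;
* `etale_s_of_isOpenImmersion_e`: if moreover `e` is an open immersion and `s` is flat and locally of
  finite presentation, then `s` (and `t`) is étale;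
* `isEqvRel_of_grpd`: the equivalence relation over `S` of a groupoid scheme with `j` mono;
* monomorphisms descend along universally good epimorphisms.
-/

set_option autoImplicit false
set_option linter.unusedSectionVars false
set_option linter.style.haveILetI false
universe u

open CategoryTheory CategoryTheory.Limits AlgebraicGeometry
open Groth.Agent.Lib.Helper2.Grpd

namespace Groth.Agent.Lib.H5bSl

variable {S : Scheme.{u}} (G : Grpd.GroupoidScheme S)

/-- `(r₁, r₂) ↦ r₁ ∘ r₂⁻¹` on `R ×_{s,U,s} R`. -/
noncomputable def δ : pullback G.s G.s ⟶ G.R :=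
  comp G (pullback.fst G.s G.s) (pullback.snd G.s G.s ≫ G.i)
    (by rw [Category.assoc, G.i_t, pullback.condition])

lemma δ_t : δ G ≫ G.t = pullback.fst G.s G.s ≫ G.t := comp_t _ _ _ _

lemma δ_s : δ G ≫ G.s = pullback.snd G.s G.s ≫ G.t := by
  unfold δ
  rw [comp_s, Category.assoc, G.i_s]

theorem isPullback_diagonal [Mono G.j] : IsPullback (pullback.diagonal G.s) G.t (δ G) G.e := by
  have w : pullback.diagonal G.s ≫ δ G = G.t ≫ G.e := by
    apply inj_of_mono G
    · rw [Category.assoc, δ_t, pullback.diagonal_fst_assoc, Category.assoc, G.e_t, Category.comp_id]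
    · rw [Category.assoc, δ_s, pullback.diagonal_snd_assoc, Category.assoc, G.e_s, Category.comp_id]
  have key : ∀ c : PullbackCone (δ G) G.e,
      c.fst ≫ pullback.fst G.s G.s = c.fst ≫ pullback.snd G.s G.s ∧
        c.fst ≫ pullback.fst G.s G.s ≫ G.t = c.snd := by
    intro c
    have h1 : c.fst ≫ pullback.fst G.s G.s ≫ G.t = c.snd := by
      rw [← δ_t, ← Category.assoc, c.condition, Category.assoc, G.e_t, Category.comp_id]
    have h2 : c.fst ≫ pullback.snd G.s G.s ≫ G.t = c.snd := by
      rw [← δ_s, ← Category.assoc, c.condition, Category.assoc, G.e_s, Category.comp_id]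
    refine ⟨?_, h1⟩
    apply inj_of_mono G
    · rw [Category.assoc, Category.assoc, h1, h2]
    · rw [Category.assoc, Category.assoc, pullback.condition]
  refine ⟨⟨w⟩, ⟨PullbackCone.IsLimit.mk _ (fun c => c.fst ≫ pullback.fst G.s G.s) ?_ ?_ ?_⟩⟩
  · intro c
    apply pullback.hom_ext
    · rw [Category.assoc, pullback.diagonal_fst, Category.comp_id]
    · rw [Category.assoc, pullback.diagonal_snd, Category.comp_id]
      exact (key c).1
  · intro c
    rw [Category.assoc]
    exact (key c).2
  · intro c m h1 _
    rw [← h1, Category.assoc, pullback.diagonal_fst, Category.comp_id]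

/-- a groupoid scheme with `j` mono, `e` an open immersion and `s` flat, locally of finite
presentation has `s` étale. -/
theorem etale_s_of_isOpenImmersion_e [Mono G.j] [IsOpenImmersion G.e] [Flat G.s]
    [LocallyOfFinitePresentation G.s] : Etale G.s := by
  haveI : IsOpenImmersion (pullback.diagonal G.s) :=
    MorphismProperty.of_isPullback (P := @IsOpenImmersion) (isPullback_diagonal G).flip
      inferInstance
  haveI : FormallyUnramified G.s := inferInstance
  exact Etale.of_formallyUnramified_of_flat G.s

instance isIso_i : IsIso G.i :=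
  ⟨G.i, Groth.Agent.Lib.H5bEL.i_i (G := G), Groth.Agent.Lib.H5bEL.i_i (G := G)⟩

theorem etale_t_of_isOpenImmersion_e [Mono G.j] [IsOpenImmersion G.e] [Flat G.s]
    [LocallyOfFinitePresentation G.s] : Etale G.t := by
  haveI := etale_s_of_isOpenImmersion_e G
  rw [← G.i_s]
  infer_instance

section Over

/-- objects, as a scheme over `S`. -/
abbrev ovU : Over S := Over.mk G.pU

/-- arrows, as a scheme over `S`. -/
abbrev ovR : Over S := Over.mk G.pR

/-- source over `S`. -/
abbrev ovS : ovR G ⟶ ovU G := Over.homMk G.s G.s_over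

/-- target over `S`. -/
abbrev ovT : ovR G ⟶ ovU G := Over.homMk G.t G.t_over

theorem isEqvRel_of_grpd [Mono G.j] : AlgSp.IsEqvRel (ovS G) (ovT G) := by
  refine ⟨fun T r r' h1 h2 => ?_, fun T => ⟨?_, ?_, ?_⟩⟩
  · apply Over.OverMorphism.ext
    exact inj_of_mono G r.left r'.left (congrArg (fun m : T ⟶ ovU G => m.left) h1)
      (congrArg (fun m : T ⟶ ovU G => m.left) h2)
  · intro a
    refine ⟨Over.homMk (a.left ≫ G.e) ?_, ?_, ?_⟩
    · show (a.left ≫ G.e) ≫ G.pR = T.hom
      rw [← G.s_over, Category.assoc, reassoc_of% G.e_s]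
      exact Over.w a
    · apply Over.OverMorphism.ext
      show (a.left ≫ G.e) ≫ G.t = a.left
      rw [Category.assoc, G.e_t]
      exact Category.comp_id _
    · apply Over.OverMorphism.ext
      show (a.left ≫ G.e) ≫ G.s = a.left
      rw [Category.assoc, G.e_s]
      exact Category.comp_id _
  · rintro a b ⟨r, rfl, rfl⟩
    refine ⟨Over.homMk (r.left ≫ G.i) ?_, ?_, ?_⟩
    · show (r.left ≫ G.i) ≫ G.pR = T.hom
      rw [← G.s_over, Category.assoc, reassoc_of% G.i_s, G.t_over]
      exact Over.w r
    · apply Over.OverMorphism.ext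
      show (r.left ≫ G.i) ≫ G.t = r.left ≫ G.s
      rw [Category.assoc, G.i_t]
    · apply Over.OverMorphism.ext
      show (r.left ≫ G.i) ≫ G.s = r.left ≫ G.t
      rw [Category.assoc, G.i_s]
  · rintro a b c ⟨r₁, rfl, rfl⟩ ⟨r₂, h2, rfl⟩
    have h : r₁.left ≫ G.s = r₂.left ≫ G.t :=
      (congrArg (fun m : T ⟶ ovU G => m.left) h2).symm
    refine ⟨Over.homMk (comp G r₁.left r₂.left h) ?_, ?_, ?_⟩
    · show comp G r₁.left r₂.left h ≫ G.pR = T.hom
      rw [← G.t_over, ← Category.assoc, comp_t, Category.assoc, G.t_over]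
      exact Over.w r₁
    · apply Over.OverMorphism.ext
      show comp G r₁.left r₂.left h ≫ G.t = r₁.left ≫ G.t
      exact comp_t _ _ _ _
    · apply Over.OverMorphism.ext
      show comp G r₁.left r₂.left h ≫ G.s = r₂.left ≫ G.s
      exact comp_s _ _ _ _

end Over

open Groth.Agent.Lib.H5bDDGen in
instance : (MorphismProperty.monomorphisms Scheme.{u}).DescendsAlong UGood.{u} := by
  rw [← MorphismProperty.diagonal_isomorphisms]
  infer_instance

open Groth.Agent.Lib.H5bDDGen in
/-- monomorphisms descend along fppf coverings. -/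
theorem mono_of_isPullback_fppf {X Y X' Y' : Scheme.{u}} {fst : X' ⟶ X} {snd : X' ⟶ Y'}
    {f : X ⟶ Y} {g : Y' ⟶ Y} (sq : IsPullback fst snd f g) [Surjective g] [Flat g]
    [LocallyOfFinitePresentation g] [Mono snd] : Mono f := by
  have h : (MorphismProperty.monomorphisms Scheme.{u}) f :=
    MorphismProperty.of_isPullback_of_descendsAlong (P := MorphismProperty.monomorphisms Scheme.{u})
      (Q := UGood.{u}) sq.flip (uGood_of_fppf g) (MorphismProperty.monomorphisms.infer_property snd)
  exact h

end Groth.Agent.Lib.H5bSl
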