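import Mathlib
import Groth.Prelude.Def_AlgSp4
import Groth.Agent.Lib.H5bQuotOpen

/-!
# Slicing an equivalence relation: the quotient sheaves agree (helper5)

* `isPullback_quotπ`: an equivalence relation `s, t : R ⟶ U` over `S` is the kernel pair of the
  quotient map `h_U ⟶ U/R` of fppf sheaves;
* `exists_iso_quot`: if `g : U' ⟶ U` is such that the restricted relation `R'` is given and the
  composite `U' ×_{g,U,t} R ⟶ R ⟶ U` (via `s`) is an fppf covering, then `U'/R' ⟶ U/R` is an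
  isomorphism.
-/

set_option autoImplicit false
set_option linter.style.haveILetI false
universe u

namespace Groth.Agent.Lib.H5bSl

open CategoryTheory CategoryTheory.Limits AlgebraicGeometry Opposite MorphismProperty
open AlgSp Groth.Agent.S13210
open Groth.Agent.Lib.Helper9 Groth.Agent.Lib.Helper12.QuotShLib Groth.Agent.Lib.H5bFppfLocal
open Groth.Agent.Lib.H5bQuotOpen

variable {S : Scheme.{u}}

/-- naturality of the identification of `h_V` with the sheafified representable presheaf, inverse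
form. -/
lemma repIso_inv_comp_repMap {V W : Over S} (g : V ⟶ W) :
    (QuotSh.repIsoUliftYoneda Scheme.fppfPrecoverage V).inv ≫ QuotSh.repMap Scheme.fppfPrecoverage g =
      (AlgSp.yon S).map g ≫ (QuotSh.repIsoUliftYoneda Scheme.fppfPrecoverage W).inv :=
  (Iso.inv_comp_eq _).2 (((Iso.eq_comp_inv _).2 (Groth.Agent.S9869.repMap_comp_repIso g)).trans
    (Category.assoc _ _ _))

/-- an equivalence relation is the kernel pair of its fppf quotient map. -/
theorem isPullback_quotπ {R U : Over S} {s t : R ⟶ U} (h : AlgSp.IsEqvRel s t) :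
    IsPullback ((AlgSp.yon S).map s) ((AlgSp.yon S).map t)
      ((QuotSh.repIsoUliftYoneda Scheme.fppfPrecoverage U).inv ≫
        QuotSh.quotπ Scheme.fppfPrecoverage s t)
      ((QuotSh.repIsoUliftYoneda Scheme.fppfPrecoverage U).inv ≫
        QuotSh.quotπ Scheme.fppfPrecoverage s t) := by
  have e := Groth.Agent.S9869.equivalenceRelation h
  haveI : JointlyMono₂ s t := e.toReflexiveRelation.toJointlyMono₂
  haveI : JointlyMono₂ ((repFunctor Scheme.fppfPrecoverage S).map s)
      ((repFunctor Scheme.fppfPrecoverage S).map t) :=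
    jointlyMono₂_map (repFunctor Scheme.fppfPrecoverage S) s t
  have e' : EquivalenceRelation (QuotSh.repMap Scheme.fppfPrecoverage s)
      (QuotSh.repMap Scheme.fppfPrecoverage t) :=
    equivalenceRelationMap (repFunctor Scheme.fppfPrecoverage S) s t e
  have hk0 : IsKernelPair (QuotSh.quotπ Scheme.fppfPrecoverage s t)
      (QuotSh.repMap Scheme.fppfPrecoverage s) (QuotSh.repMap Scheme.fppfPrecoverage t) :=
    sheaf_isKernelPair_of_isColimit (QuotSh.J Scheme.fppfPrecoverage S) e'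
      (QuotSh.quotπ Scheme.fppfPrecoverage s t) (QuotSh.quot_condition Scheme.fppfPrecoverage s t)
      (coequalizerIsCoequalizer _ _)
  exact IsPullback.of_iso hk0 (QuotSh.repIsoUliftYoneda Scheme.fppfPrecoverage R)
      (QuotSh.repIsoUliftYoneda Scheme.fppfPrecoverage U)
      (QuotSh.repIsoUliftYoneda Scheme.fppfPrecoverage U) (Iso.refl _)
      (Groth.Agent.S9869.repMap_comp_repIso s) (Groth.Agent.S9869.repMap_comp_repIso t)
      (by simp) (by simp)

/-- **the sliced quotient is the quotient**. -/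
theorem exists_iso_quot {R U R' U' : Over S} {s t : R ⟶ U} (h : AlgSp.IsEqvRel s t) (g : U' ⟶ U)
    {s' t' : R' ⟶ U'} (r : R' ⟶ R) (h' : AlgSp.IsEqvRel s' t')
    (hrs : r ≫ s = s' ≫ g) (hrt : r ≫ t = t' ≫ g)
    (hmk : ∀ (T : Over S) (a b : T ⟶ U') (ρ₀ : T ⟶ R), ρ₀ ≫ t = a ≫ g → ρ₀ ≫ s = b ≫ g →
      ∃ r' : T ⟶ R', r' ≫ t' = a ∧ r' ≫ s' = b)
    {Z : Over S} (ρ : Z ⟶ R) (a : Z ⟶ U') (hρ : ρ ≫ t = a ≫ g)
    [Flat (ρ ≫ s).left] [LocallyOfFinitePresentation (ρ ≫ s).left] [Surjective (ρ ≫ s).left] :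
    ∃ ψ : QuotSh.quot Scheme.fppfPrecoverage s' t' ⟶ QuotSh.quot Scheme.fppfPrecoverage s t,
      QuotSh.quotπ Scheme.fppfPrecoverage s' t' ≫ ψ =
        QuotSh.repMap Scheme.fppfPrecoverage g ≫ QuotSh.quotπ Scheme.fppfPrecoverage s t ∧
      IsIso ψ := by
  have hk := isPullback_quotπ h
  obtain ⟨π, hπ⟩ : ∃ π, π = (QuotSh.repIsoUliftYoneda Scheme.fppfPrecoverage U).inv ≫
      QuotSh.quotπ Scheme.fppfPrecoverage s t := ⟨_, rfl⟩
  rw [← hπ] at hk
  haveI : Epi π := by
    haveI : Epi (QuotSh.quotπ Scheme.fppfPrecoverage s t) :=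
      inferInstanceAs (Epi (coequalizer.π _ _))
    rw [hπ]
    exact epi_comp _ _
  have hw'' : (AlgSp.yon S).map s' ≫ (AlgSp.yon S).map g ≫ π =
      (AlgSp.yon S).map t' ≫ (AlgSp.yon S).map g ≫ π := by
    rw [← Category.assoc, ← Category.assoc, ← Functor.map_comp, ← Functor.map_comp, ← hrs, ← hrt,
      Functor.map_comp, Functor.map_comp, Category.assoc, Category.assoc, hk.w]
  have hk'' : IsPullback ((AlgSp.yon S).map s') ((AlgSp.yon S).map t')
      ((AlgSp.yon S).map g ≫ π) ((AlgSp.yon S).map g ≫ π) := by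
    refine isPullback_of_yon hw'' (fun T b c hbc => ?_)
    obtain ⟨u₁, rfl⟩ := (AlgSp.yon S).map_surjective b
    obtain ⟨u₂, rfl⟩ := (AlgSp.yon S).map_surjective c
    have hbc' : (AlgSp.yon S).map (u₁ ≫ g) ≫ π = (AlgSp.yon S).map (u₂ ≫ g) ≫ π := by
      rw [Functor.map_comp, Functor.map_comp, Category.assoc, Category.assoc]
      exact hbc
    obtain ⟨ρ₀, hρ₀⟩ := (AlgSp.yon S).map_surjective (hk.lift _ _ hbc')
    have hρs : ρ₀ ≫ s = u₁ ≫ g := by
      apply (AlgSp.yon S).map_injective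
      rw [Functor.map_comp, hρ₀, hk.lift_fst]
    have hρt : ρ₀ ≫ t = u₂ ≫ g := by
      apply (AlgSp.yon S).map_injective
      rw [Functor.map_comp, hρ₀, hk.lift_snd]
    obtain ⟨r', hr't, hr's⟩ := hmk T u₂ u₁ ρ₀ hρt hρs
    refine ⟨(AlgSp.yon S).map r', ⟨?_, ?_⟩, ?_⟩
    · rw [← Functor.map_comp, hr's]
    · rw [← Functor.map_comp, hr't]
    · rintro a' ⟨ha1, ha2⟩
      obtain ⟨r'', rfl⟩ := (AlgSp.yon S).map_surjective a'
      rw [← Functor.map_comp] at ha1 ha2
      have h1 : r'' ≫ s' = u₁ := (AlgSp.yon S).map_injective ha1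
      have h2 : r'' ≫ t' = u₂ := (AlgSp.yon S).map_injective ha2
      congr 1
      exact h'.injective T r'' r' (by rw [h2, hr't]) (by rw [h1, hr's])
  -- `h_{U'} ⟶ U/R` is an epimorphism
  haveI hepi : Epi ((AlgSp.yon S).map g ≫ π) := by
    haveI := epi_yon_map (ρ ≫ s)
    have e1 : (AlgSp.yon S).map (ρ ≫ s) ≫ π = (AlgSp.yon S).map a ≫ (AlgSp.yon S).map g ≫ π := by
      rw [Functor.map_comp, Category.assoc, hk.w, ← Category.assoc, ← Functor.map_comp, hρ,
        Functor.map_comp, Category.assoc]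
    haveI : Epi ((AlgSp.yon S).map a ≫ (AlgSp.yon S).map g ≫ π) := by
      rw [← e1]
      exact epi_comp _ _
    exact epi_of_epi ((AlgSp.yon S).map a) _
  -- back to the sheafified representables
  obtain ⟨q', hq'⟩ : ∃ q', q' = QuotSh.repMap Scheme.fppfPrecoverage g ≫
      QuotSh.quotπ Scheme.fppfPrecoverage s t := ⟨_, rfl⟩
  have hq'2 : q' = (QuotSh.repIsoUliftYoneda Scheme.fppfPrecoverage U').hom ≫
      (AlgSp.yon S).map g ≫ π := by
    rw [hq', hπ, ← Category.assoc, ← Category.assoc, ← Groth.Agent.S9869.repMap_comp_repIso,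
      Category.assoc, Category.assoc, Iso.hom_inv_id_assoc]
  have w : QuotSh.repMap Scheme.fppfPrecoverage s' ≫ q' =
      QuotSh.repMap Scheme.fppfPrecoverage t' ≫ q' := by
    have e1 := Groth.Agent.S9869.repMap_comp_repIso s'
    have e2 := Groth.Agent.S9869.repMap_comp_repIso t'
    rw [hq'2, reassoc_of% e1, reassoc_of% e2, hk''.w]
  have hkq' : IsKernelPair q' (QuotSh.repMap Scheme.fppfPrecoverage t')
      (QuotSh.repMap Scheme.fppfPrecoverage s') :=
    IsPullback.of_iso hk''.flip (QuotSh.repIsoUliftYoneda Scheme.fppfPrecoverage R').symm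
      (QuotSh.repIsoUliftYoneda Scheme.fppfPrecoverage U').symm
      (QuotSh.repIsoUliftYoneda Scheme.fppfPrecoverage U').symm (Iso.refl _)
      (repIso_inv_comp_repMap t').symm (repIso_inv_comp_repMap s').symm
      (by rw [hq'2]; simp) (by rw [hq'2]; simp)
  haveI : Epi q' := by
    rw [hq'2]
    exact epi_comp _ _
  have hiso := isIso_coequalizer_desc_of_epi (QuotSh.repMap Scheme.fppfPrecoverage s')
    (QuotSh.repMap Scheme.fppfPrecoverage t') q' inferInstance
    (QuotSh.repMap Scheme.fppfPrecoverage t') (QuotSh.repMap Scheme.fppfPrecoverage s') hkq'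
    (𝟙 _) inferInstance (Category.id_comp _) (Category.id_comp _) w
  refine ⟨coequalizer.desc q' w, ?_, hiso⟩
  rw [← hq']
  exact coequalizer.π_desc _ _

end Groth.Agent.Lib.H5bSl
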