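import Mathlib
import Groth.Prelude.Def_Grpd
import Groth.Agent.Lib.Helper2Grpd

/-!
# Quotient groupoid schemes along epimorphic morphisms (helper5)

`QuotData G`: schemes `Ub`, `Rb` with morphisms `fU : G.U ⟶ Ub`, `fR : G.R ⟶ Rb`, candidate structure
morphisms `sb tb eb ib cb` compatible with those of `G`, and a local lifting property of points of
`Rb` to points of `G.R` (along epimorphisms, with prescribed target). Then `(Ub, Rb, sb, tb, cb, eb, ib)` is a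
groupoid scheme (`QuotData.grpd`) and `(fU, fR)` a morphism of groupoid schemes (`QuotData.hom`).
-/

set_option autoImplicit false
set_option linter.unusedSectionVars false
set_option linter.style.haveILetI false
universe u

open CategoryTheory CategoryTheory.Limits AlgebraicGeometry
open Groth.Agent.Lib.Helper2.Grpd

namespace Groth.Agent.Lib.H5bSubQuot

variable {S : Scheme.{u}} (G : Grpd.GroupoidScheme S)

/-- data for a quotient groupoid. -/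
structure QuotData where
  Ub : Scheme.{u}
  Rb : Scheme.{u}
  fU : G.U ⟶ Ub
  fR : G.R ⟶ Rb
  pUb : Ub ⟶ S
  hpU : fU ≫ pUb = G.pU
  sb : Rb ⟶ Ub
  tb : Rb ⟶ Ub
  eb : Ub ⟶ Rb
  ib : Rb ⟶ Rb
  cb : pullback sb tb ⟶ Rb
  hs : fR ≫ sb = G.s ≫ fU
  ht : fR ≫ tb = G.t ≫ fU
  he : G.e ≫ fR = fU ≫ eb
  hi : G.i ≫ fR = fR ≫ ib
  hc : ∀ {T : Scheme.{u}} (α β : T ⟶ G.R) (h : α ≫ G.s = β ≫ G.t)
    (h' : (α ≫ fR) ≫ sb = (β ≫ fR) ≫ tb),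
    comp G α β h ≫ fR = pullback.lift (α ≫ fR) (β ≫ fR) h' ≫ cb
  epiU : Epi fU
  L1 : ∀ {T : Scheme.{u}} (α : T ⟶ Rb), ∃ (T' : Scheme.{u}) (c : T' ⟶ T) (_ : Epi c)
    (α' : T' ⟶ G.R), α' ≫ fR = c ≫ α
  L2 : ∀ {T : Scheme.{u}} (x : T ⟶ G.U) (β : T ⟶ Rb), x ≫ fU = β ≫ tb →
    ∃ (T' : Scheme.{u}) (c : T' ⟶ T) (_ : Epi c) (β' : T' ⟶ G.R),
      β' ≫ fR = c ≫ β ∧ β' ≫ G.t = c ≫ x

namespace QuotData

variable {G} (Q : QuotData G)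

lemma comp_sb {T : Scheme.{u}} (α : T ⟶ G.R) : (α ≫ Q.fR) ≫ Q.sb = (α ≫ G.s) ≫ Q.fU := by
  rw [Category.assoc, Q.hs, Category.assoc]

lemma comp_tb {T : Scheme.{u}} (α : T ⟶ G.R) : (α ≫ Q.fR) ≫ Q.tb = (α ≫ G.t) ≫ Q.fU := by
  rw [Category.assoc, Q.ht, Category.assoc]

lemma cond_of {T : Scheme.{u}} (α β : T ⟶ G.R) (h : α ≫ G.s = β ≫ G.t) :
    (α ≫ Q.fR) ≫ Q.sb = (β ≫ Q.fR) ≫ Q.tb := by
  rw [Q.comp_sb, Q.comp_tb, h]

/-- lifting a composable pair. -/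
lemma lift2 {T : Scheme.{u}} (α β : T ⟶ Q.Rb) (h : α ≫ Q.sb = β ≫ Q.tb) :
    ∃ (T' : Scheme.{u}) (c : T' ⟶ T) (_ : Epi c) (α' β' : T' ⟶ G.R),
      α' ≫ Q.fR = c ≫ α ∧ β' ≫ Q.fR = c ≫ β ∧ α' ≫ G.s = β' ≫ G.t := by
  obtain ⟨T₁, c₁, hc₁, α₁, hα₁⟩ := Q.L1 α
  have hx : (α₁ ≫ G.s) ≫ Q.fU = (c₁ ≫ β) ≫ Q.tb := by
    rw [← Q.comp_sb, hα₁, Category.assoc, h, Category.assoc]
  obtain ⟨T₂, c₂, hc₂, β', hβ', hβt⟩ := Q.L2 (α₁ ≫ G.s) (c₁ ≫ β) hx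
  refine ⟨T₂, c₂ ≫ c₁, epi_comp _ _, c₂ ≫ α₁, β', ?_, ?_, ?_⟩
  · rw [Category.assoc, hα₁, Category.assoc]
  · rw [hβ', Category.assoc]
  · rw [Category.assoc, hβt]

/-- lifting a composable triple. -/
lemma lift3 {T : Scheme.{u}} (α β γ : T ⟶ Q.Rb) (h₁ : α ≫ Q.sb = β ≫ Q.tb)
    (h₂ : β ≫ Q.sb = γ ≫ Q.tb) :
    ∃ (T' : Scheme.{u}) (c : T' ⟶ T) (_ : Epi c) (α' β' γ' : T' ⟶ G.R),
      α' ≫ Q.fR = c ≫ α ∧ β' ≫ Q.fR = c ≫ β ∧ γ' ≫ Q.fR = c ≫ γ ∧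
      α' ≫ G.s = β' ≫ G.t ∧ β' ≫ G.s = γ' ≫ G.t := by
  obtain ⟨T₁, c₁, hc₁, α₁, β₁, hα₁, hβ₁, h₁'⟩ := Q.lift2 α β h₁
  have hx : (β₁ ≫ G.s) ≫ Q.fU = (c₁ ≫ γ) ≫ Q.tb := by
    rw [← Q.comp_sb, hβ₁, Category.assoc, h₂, Category.assoc]
  obtain ⟨T₂, c₂, hc₂, γ', hγ', hγt⟩ := Q.L2 (β₁ ≫ G.s) (c₁ ≫ γ) hx
  refine ⟨T₂, c₂ ≫ c₁, epi_comp _ _, c₂ ≫ α₁, c₂ ≫ β₁, γ', ?_, ?_, ?_, ?_, ?_⟩
  · rw [Category.assoc, hα₁, Category.assoc]
  · rw [Category.assoc, hβ₁, Category.assoc]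
  · rw [hγ', Category.assoc]
  · rw [Category.assoc, h₁', Category.assoc]
  · rw [Category.assoc, hγt]

/-- the key computation: composition in the quotient through lifts. -/
lemma key {T T' : Scheme.{u}} (α β : T ⟶ Q.Rb) (h : α ≫ Q.sb = β ≫ Q.tb) (c : T' ⟶ T)
    (α' β' : T' ⟶ G.R) (hα : α' ≫ Q.fR = c ≫ α) (hβ : β' ≫ Q.fR = c ≫ β)
    (h' : α' ≫ G.s = β' ≫ G.t) :
    c ≫ pullback.lift α β h ≫ Q.cb = comp G α' β' h' ≫ Q.fR := by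
  rw [Q.hc α' β' h' (Q.cond_of α' β' h'), ← Category.assoc]
  congr 1
  apply pullback.hom_ext
  · rw [Category.assoc, pullback.lift_fst, pullback.lift_fst, hα]
  · rw [Category.assoc, pullback.lift_snd, pullback.lift_snd, hβ]

lemma epiR_cancel {Z : Scheme.{u}} {a b : Q.Rb ⟶ Z} (h : Q.fR ≫ a = Q.fR ≫ b) : a = b := by
  obtain ⟨T', c, hc, α', hα'⟩ := Q.L1 (𝟙 Q.Rb)
  rw [Category.comp_id] at hα'
  rw [← cancel_epi c, ← hα', Category.assoc, Category.assoc, h]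

lemma eb_sb : Q.eb ≫ Q.sb = 𝟙 Q.Ub := by
  haveI := Q.epiU
  rw [← cancel_epi Q.fU, ← Category.assoc, ← Q.he, Category.assoc, Q.hs, ← Category.assoc, G.e_s,
    Category.id_comp, Category.comp_id]

lemma eb_tb : Q.eb ≫ Q.tb = 𝟙 Q.Ub := by
  haveI := Q.epiU
  rw [← cancel_epi Q.fU, ← Category.assoc, ← Q.he, Category.assoc, Q.ht, ← Category.assoc, G.e_t,
    Category.id_comp, Category.comp_id]

lemma ib_sb : Q.ib ≫ Q.sb = Q.tb := by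
  apply Q.epiR_cancel
  rw [← Category.assoc, ← Q.hi, Category.assoc, Q.hs, ← Category.assoc, G.i_s, Q.ht]

lemma ib_tb : Q.ib ≫ Q.tb = Q.sb := by
  apply Q.epiR_cancel
  rw [← Category.assoc, ← Q.hi, Category.assoc, Q.ht, ← Category.assoc, G.i_t, Q.hs]

lemma s_over' : Q.sb ≫ Q.pUb = Q.tb ≫ Q.pUb := by
  apply Q.epiR_cancel
  rw [← Category.assoc, Q.hs, Category.assoc, Q.hpU, G.s_over, ← Category.assoc, Q.ht,
    Category.assoc, Q.hpU, G.t_over]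

/-- the quotient groupoid scheme. -/
noncomputable def grpd : Grpd.GroupoidScheme S where
  U := Q.Ub
  R := Q.Rb
  pU := Q.pUb
  pR := Q.tb ≫ Q.pUb
  s := Q.sb
  t := Q.tb
  e := Q.eb
  i := Q.ib
  c := Q.cb
  s_over := Q.s_over'
  t_over := rfl
  comp_s := fun {T} α β h => by
    obtain ⟨T', c, hc, α', β', hα, hβ, h'⟩ := Q.lift2 α β h
    rw [← cancel_epi c, ← Category.assoc, Q.key α β h c α' β' hα hβ h', Category.assoc, Q.hs,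
      ← Category.assoc, comp_s, Category.assoc, ← Q.hs, ← Category.assoc, hβ, Category.assoc]
  comp_t := fun {T} α β h => by
    obtain ⟨T', c, hc, α', β', hα, hβ, h'⟩ := Q.lift2 α β h
    rw [← cancel_epi c, ← Category.assoc, Q.key α β h c α' β' hα hβ h', Category.assoc, Q.ht,
      ← Category.assoc, comp_t, Category.assoc, ← Q.ht, ← Category.assoc, hα, Category.assoc]
  assoc := fun {T} α β γ h₁ h₂ => by
    obtain ⟨T', c, hc, α', β', γ', hα, hβ, hγ, h₁', h₂'⟩ := Q.lift3 α β γ h₁ h₂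
    have k1 := Q.key α β h₁ c α' β' hα hβ h₁'
    have k3 := Q.key β γ h₂ c β' γ' hβ hγ h₂'
    have hs1 : comp G α' β' h₁' ≫ G.s = γ' ≫ G.t := by rw [comp_s]; exact h₂'
    have ht1 : α' ≫ G.s = comp G β' γ' h₂' ≫ G.t := by rw [comp_t]; exact h₁'
    rw [← cancel_epi c, Q.key _ γ _ c (comp G α' β' h₁') γ' k1.symm hγ hs1,
      Q.key α _ _ c α' (comp G β' γ' h₂') hα k3.symm ht1, comp_assoc]
  e_s := Q.eb_sb
  e_t := Q.eb_tb
  comp_e := fun {T} α => by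
    obtain ⟨T', c, hc, α', hα⟩ := Q.L1 α
    have hβ : (α' ≫ G.s ≫ G.e) ≫ Q.fR = c ≫ α ≫ Q.sb ≫ Q.eb := by
      rw [Category.assoc, Category.assoc, Q.he, ← reassoc_of% Q.hs, reassoc_of% hα]
    have hcomp : α' ≫ G.s = (α' ≫ G.s ≫ G.e) ≫ G.t := by
      rw [Category.assoc, Category.assoc, G.e_t, Category.comp_id]
    rw [← cancel_epi c, Q.key α _ _ c α' (α' ≫ G.s ≫ G.e) hα hβ hcomp, comp_e G α' _ rfl, hα]
  e_comp := fun {T} α => by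
    obtain ⟨T', c, hc, α', hα⟩ := Q.L1 α
    have hβ : (α' ≫ G.t ≫ G.e) ≫ Q.fR = c ≫ α ≫ Q.tb ≫ Q.eb := by
      rw [Category.assoc, Category.assoc, Q.he, ← reassoc_of% Q.ht, reassoc_of% hα]
    have hcomp : (α' ≫ G.t ≫ G.e) ≫ G.s = α' ≫ G.t := by
      rw [Category.assoc, Category.assoc, G.e_s, Category.comp_id]
    rw [← cancel_epi c, Q.key _ α _ c (α' ≫ G.t ≫ G.e) α' hβ hα hcomp, e_comp G α' _ rfl, hα]
  i_s := Q.ib_sb
  i_t := Q.ib_tb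
  comp_i := fun {T} α => by
    obtain ⟨T', c, hc, α', hα⟩ := Q.L1 α
    have hβ : (α' ≫ G.i) ≫ Q.fR = c ≫ α ≫ Q.ib := by
      rw [Category.assoc, Q.hi, reassoc_of% hα]
    have hcomp : α' ≫ G.s = (α' ≫ G.i) ≫ G.t := by
      rw [Category.assoc, G.i_t]
    rw [← cancel_epi c, Q.key α _ _ c α' (α' ≫ G.i) hα hβ hcomp, comp_i, Category.assoc,
      Category.assoc, Q.he, ← reassoc_of% Q.ht, reassoc_of% hα]
  i_comp := fun {T} α => by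
    obtain ⟨T', c, hc, α', hα⟩ := Q.L1 α
    have hβ : (α' ≫ G.i) ≫ Q.fR = c ≫ α ≫ Q.ib := by
      rw [Category.assoc, Q.hi, reassoc_of% hα]
    have hcomp : (α' ≫ G.i) ≫ G.s = α' ≫ G.t := by
      rw [Category.assoc, G.i_s]
    rw [← cancel_epi c, Q.key _ α _ c (α' ≫ G.i) α' hβ hα hcomp, i_comp, Category.assoc,
      Category.assoc, Q.he, ← reassoc_of% Q.hs, reassoc_of% hα]

/-- the morphism of groupoid schemes to the quotient. -/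
noncomputable def hom : Grpd.GroupoidScheme.Hom G Q.grpd where
  fU := Q.fU
  fR := Q.fR
  fU_over := Q.hpU
  comm_s := Q.hs
  comm_t := Q.ht
  comm_c := fun {T} α β h => Q.hc α β h _

end QuotData

end Groth.Agent.Lib.H5bSubQuot
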