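import Mathlib
import Groth.Prelude.Def_Grpd
import Groth.Agent.Lib.H5bGrpdPts
import Groth.Agent.Lib.H5bGQRestr
import Groth.Agent.Lib.H5bRGSch2

/-!
# Finite locally free subgroupoids of a groupoid scheme with affine `U` (helper5)

`SubData G`: a monomorphism `ιP : P ⟶ G.R` through which identity, inverse and composition factor, with
`(t, s)` restricted to `P` a monomorphism. `SubData.GP` is the induced groupoid scheme on `P`, and for `G.U`
affine and `s|_P` finite locally free, `SubData.π : G.U ⟶ SubData.Ub` is its quotient: finite locally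
free, surjective, with `P = U ×_Ub U`. `IsP a`: an arrow of `Pt G T` comes from `P`; such arrows are
unique between given endpoints and exist exactly when the endpoints agree in `Ub`.
-/

set_option autoImplicit false
set_option linter.unusedSectionVars false
set_option linter.style.haveILetI false
universe u

open CategoryTheory CategoryTheory.Limits AlgebraicGeometry
open Groth.Agent.Lib.Helper2.Grpd Groth.Agent.Lib.H5bGrpdPts

namespace Groth.Agent.Lib.H5bSubQuot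

variable {S : Scheme.{u}}

/-- a subgroupoid of a groupoid scheme, with the same objects and `(t, s)` a monomorphism. -/
structure SubData (G : Grpd.GroupoidScheme S) where
  P : Scheme.{u}
  ιP : P ⟶ G.R
  mono : Mono ιP
  eP : G.U ⟶ P
  heP : eP ≫ ιP = G.e
  iP : P ⟶ P
  hiP : iP ≫ ιP = ιP ≫ G.i
  cP : pullback (ιP ≫ G.s) (ιP ≫ G.t) ⟶ P
  hcP : cP ≫ ιP = pullback.map (ιP ≫ G.s) (ιP ≫ G.t) G.s G.t ιP ιP (𝟙 G.U)
    (Category.comp_id _) (Category.comp_id _) ≫ G.c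
  monoj : Mono (ιP ≫ G.j)

namespace SubData

variable {G : Grpd.GroupoidScheme S} (Sd : SubData G)

attribute [instance] SubData.mono SubData.monoj

/-- the groupoid scheme on `P`. -/
noncomputable def GP : Grpd.GroupoidScheme S :=
  @Groth.Agent.Lib.H5bGQ.monoGroupoid S G G.U Sd.P (𝟙 G.U) Sd.ιP (Sd.ιP ≫ G.s) (Sd.ιP ≫ G.t)
    (Category.comp_id _) (Category.comp_id _) Sd.cP Sd.hcP (inferInstanceAs (Mono (𝟙 G.U))) Sd.mono
    Sd.eP (by rw [Sd.heP, Category.id_comp]) Sd.iP Sd.hiP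

lemma comp_cP {T : Scheme.{u}} (a b : T ⟶ Sd.P) (h : a ≫ Sd.ιP ≫ G.s = b ≫ Sd.ιP ≫ G.t) :
    (pullback.lift a b h ≫ Sd.cP) ≫ Sd.ιP =
      comp G (a ≫ Sd.ιP) (b ≫ Sd.ιP) (by simpa only [Category.assoc] using h) := by
  have := Groth.Agent.Lib.H5bGQ.key G (𝟙 G.U) Sd.ιP (Sd.ιP ≫ G.s) (Sd.ιP ≫ G.t)
    (Category.comp_id _) (Category.comp_id _) Sd.cP Sd.hcP a b h
  exact this

lemma j_t : G.j ≫ pullback.fst G.pU G.pU = G.t := pullback.lift_fst _ _ _

lemma j_s : G.j ≫ pullback.snd G.pU G.pU = G.s := pullback.lift_snd _ _ _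

lemma eq_of_t_s {T : Scheme.{u}} {a b : T ⟶ Sd.P} (ht : a ≫ Sd.ιP ≫ G.t = b ≫ Sd.ιP ≫ G.t)
    (hs : a ≫ Sd.ιP ≫ G.s = b ≫ Sd.ιP ≫ G.s) : a = b := by
  rw [← cancel_mono (Sd.ιP ≫ G.j)]
  apply pullback.hom_ext
  · simp only [Category.assoc, j_t]; exact ht
  · simp only [Category.assoc, j_s]; exact hs

section Pts

variable {T T' : Scheme.{u}}

/-- an arrow of the groupoid of `T`-points comes from `P`. -/
def IsP {x y : Pt G T} (a : x ⟶ y) : Prop := ∃ p : T ⟶ Sd.P, p ≫ Sd.ιP = a.r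

lemma isP_id (x : Pt G T) : Sd.IsP (𝟙 x) :=
  ⟨x.pt ≫ Sd.eP, by rw [Category.assoc, Sd.heP]; rfl⟩

lemma isP_comp {x y z : Pt G T} {a : x ⟶ y} {b : y ⟶ z} (ha : Sd.IsP a) (hb : Sd.IsP b) :
    Sd.IsP (a ≫ b) := by
  obtain ⟨p, hp⟩ := ha
  obtain ⟨q, hq⟩ := hb
  have h : q ≫ Sd.ιP ≫ G.s = p ≫ Sd.ιP ≫ G.t := by
    rw [← Category.assoc, ← Category.assoc, hp, hq, b.hs, a.ht]
  refine ⟨pullback.lift q p h ≫ Sd.cP, ?_⟩
  rw [Sd.comp_cP q p h]
  exact comp_congr G _ hq hp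

lemma isP_inv {x y : Pt G T} {a : x ⟶ y} (ha : Sd.IsP a) : Sd.IsP (Groupoid.inv a) := by
  obtain ⟨p, hp⟩ := ha
  refine ⟨p ≫ Sd.iP, ?_⟩
  rw [Category.assoc, Sd.hiP, ← Category.assoc, hp]
  rfl

lemma isP_unique {x y : Pt G T} {a b : x ⟶ y} (ha : Sd.IsP a) (hb : Sd.IsP b) : a = b := by
  obtain ⟨p, hp⟩ := ha
  obtain ⟨q, hq⟩ := hb
  have : p = q := by
    apply Sd.eq_of_t_s
    · rw [← Category.assoc, ← Category.assoc, hp, hq, a.ht, b.ht]
    · rw [← Category.assoc, ← Category.assoc, hp, hq, a.hs, b.hs]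
  apply Pt.hom_ext
  rw [← hp, ← hq, this]

lemma isP_pull (f : T' ⟶ T) {x y : Pt G T} {a : x ⟶ y} (ha : Sd.IsP a) :
    Sd.IsP ((Pt.pull f).map a) := by
  obtain ⟨p, hp⟩ := ha
  exact ⟨f ≫ p, by rw [Category.assoc, hp]; rfl⟩

end Pts

section Quot

variable [IsAffine G.U] [IsFinite (Sd.ιP ≫ G.s)] [Flat (Sd.ιP ≫ G.s)]
  [LocallyOfFinitePresentation (Sd.ιP ≫ G.s)]

instance isAffine_GP_U : IsAffine Sd.GP.U := inferInstanceAs (IsAffine G.U)

instance isAffine_P : IsAffine Sd.P := isAffine_of_isAffineHom (Sd.ιP ≫ G.s)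

instance isAffine_GP_R : IsAffine Sd.GP.R := Sd.isAffine_P

instance isFinite_GP_s : IsFinite Sd.GP.s := inferInstanceAs (IsFinite (Sd.ιP ≫ G.s))

instance flat_GP_s : Flat Sd.GP.s := inferInstanceAs (Flat (Sd.ιP ≫ G.s))

instance lofp_GP_s : LocallyOfFinitePresentation Sd.GP.s :=
  inferInstanceAs (LocallyOfFinitePresentation (Sd.ιP ≫ G.s))

instance mono_GP_j : Mono Sd.GP.j := by
  refine ⟨fun {T} a b h => ?_⟩
  have h1 : a ≫ Sd.GP.t = b ≫ Sd.GP.t := by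
    have := congrArg (· ≫ pullback.fst _ _) h
    simpa only [Category.assoc, Grpd.GroupoidScheme.j, pullback.lift_fst] using this
  have h2 : a ≫ Sd.GP.s = b ≫ Sd.GP.s := by
    have := congrArg (· ≫ pullback.snd _ _) h
    simpa only [Category.assoc, Grpd.GroupoidScheme.j, pullback.lift_snd] using this
  exact Sd.eq_of_t_s h1 h2

/-- the quotient of `G.U` by `P`. -/
noncomputable def Ub : Scheme.{u} := Spec (CommRingCat.of Sd.GP.invariants)

/-- the quotient map. -/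
noncomputable def π : G.U ⟶ Sd.Ub := Sd.GP.toQuot

instance isAffine_Ub : IsAffine Sd.Ub := inferInstanceAs (IsAffine (Spec _))

instance isFinite_π : IsFinite Sd.π := (Groth.Agent.Lib.H5bRG.quotient_props Sd.GP).1.1

instance flat_π : Flat Sd.π := (Groth.Agent.Lib.H5bRG.quotient_props Sd.GP).1.2.1

instance lofp_π : LocallyOfFinitePresentation Sd.π :=
  (Groth.Agent.Lib.H5bRG.quotient_props Sd.GP).1.2.2

instance surjective_π : Surjective Sd.π := Groth.Agent.Lib.H5bRG.surjective_toQuot Sd.GP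

lemma isPullback_π : IsPullback (Sd.ιP ≫ G.t) (Sd.ιP ≫ G.s) Sd.π Sd.π :=
  (Groth.Agent.Lib.H5bRG.quotient_props Sd.GP).2

variable {T T' : Scheme.{u}}

lemma π_eq_of_isP {x y : Pt G T} {a : x ⟶ y} (ha : Sd.IsP a) : x.pt ≫ Sd.π = y.pt ≫ Sd.π := by
  obtain ⟨p, hp⟩ := ha
  have h := Sd.isPullback_π.w
  rw [← a.hs, ← a.ht, ← hp]
  simp only [Category.assoc] at h ⊢
  rw [h]

/-- the arrow from `P` between two points with the same image in the quotient. -/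
noncomputable def pArr (x y : Pt G T) (h : x.pt ≫ Sd.π = y.pt ≫ Sd.π) : x ⟶ y :=
  Pt.mkArr (Sd.isPullback_π.lift y.pt x.pt h.symm ≫ Sd.ιP)
    (by rw [Category.assoc]; exact Sd.isPullback_π.lift_snd _ _ _)
    (by rw [Category.assoc]; exact Sd.isPullback_π.lift_fst _ _ _)

lemma isP_pArr (x y : Pt G T) (h : x.pt ≫ Sd.π = y.pt ≫ Sd.π) : Sd.IsP (Sd.pArr x y h) :=
  ⟨_, rfl⟩

lemma pArr_self (x : Pt G T) : Sd.pArr x x rfl = 𝟙 x :=
  Sd.isP_unique (Sd.isP_pArr x x rfl) (Sd.isP_id x)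

lemma pArr_comp (x y z : Pt G T) (h₁ : x.pt ≫ Sd.π = y.pt ≫ Sd.π) (h₂ : y.pt ≫ Sd.π = z.pt ≫ Sd.π) :
    Sd.pArr x y h₁ ≫ Sd.pArr y z h₂ = Sd.pArr x z (h₁.trans h₂) :=
  Sd.isP_unique (Sd.isP_comp (Sd.isP_pArr x y h₁) (Sd.isP_pArr y z h₂)) (Sd.isP_pArr x z _)

lemma pArr_inv (x y : Pt G T) (h : x.pt ≫ Sd.π = y.pt ≫ Sd.π) :
    Groupoid.inv (Sd.pArr x y h) = Sd.pArr y x h.symm :=
  Sd.isP_unique (Sd.isP_inv (Sd.isP_pArr x y h)) (Sd.isP_pArr y x _)

lemma pull_pArr (f : T' ⟶ T) (x y : Pt G T) (h : x.pt ≫ Sd.π = y.pt ≫ Sd.π) :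
    (Pt.pull f).map (Sd.pArr x y h) =
      Sd.pArr ((Pt.pull f).obj x) ((Pt.pull f).obj y)
        (by simp only [Pt.pull_obj_pt, Category.assoc, h]) :=
  Sd.isP_unique (Sd.isP_pull f (Sd.isP_pArr x y h)) (Sd.isP_pArr _ _ _)

end Quot

end SubData

end Groth.Agent.Lib.H5bSubQuot
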