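import Mathlib
import Groth.Prelude.Def_Grpd
import Groth.Prelude.Def_Desc
import Groth.Agent.Lib.H5bSubQuotB
import Groth.Agent.Lib.H5bDDGenK
import Groth.Agent.Lib.H5bDDEffA

/-!
# Descending the arrows of a groupoid scheme to the quotient by a subgroupoid (helper5)

For `Sd : SubData G` with quotient `π : G.U ⟶ Ub`: the structure morphism `m : Ub ⟶ S`, the fppf covering
`q = π × π : U ×_S U ⟶ Ub ×_S Ub`, the descent datum `DD` on `j : R ⟶ U ×_S U` relative to `q` given by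
pre- and postcomposition with arrows of `P`, and (for `j` separated and locally quasi-finite) the descended
scheme `Rb` over `Ub ×_S Ub` with `fR : R ⟶ Rb` (`RbData`).
-/

set_option autoImplicit false
set_option linter.unusedSectionVars false
set_option linter.style.haveILetI false
universe u

open CategoryTheory CategoryTheory.Limits AlgebraicGeometry
open Groth.Agent.Lib.Helper2.Grpd Groth.Agent.Lib.H5bGrpdPts

namespace Groth.Agent.Lib.H5bSubQuot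

variable {S : Scheme.{u}}

namespace SubData

variable {G : Grpd.GroupoidScheme S} (Sd : SubData G)
  [IsAffine G.U] [IsFinite (Sd.ιP ≫ G.s)] [Flat (Sd.ιP ≫ G.s)]
  [LocallyOfFinitePresentation (Sd.ιP ≫ G.s)]

section Tw

variable {T T' : Scheme.{u}}

/-- pre- and postcomposition with arrows of `P`. -/
noncomputable def twArr {x y x' y' : Pt G T} (a : x ⟶ y) (hx : x'.pt ≫ Sd.π = x.pt ≫ Sd.π)
    (hy : y.pt ≫ Sd.π = y'.pt ≫ Sd.π) : x' ⟶ y' :=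
  Sd.pArr x' x hx ≫ a ≫ Sd.pArr y y' hy

lemma twArr_self {x y : Pt G T} (a : x ⟶ y) : Sd.twArr a rfl rfl = a := by
  rw [twArr, pArr_self, pArr_self, Category.id_comp, Category.comp_id]

lemma twArr_twArr {x y x' y' x'' y'' : Pt G T} (a : x ⟶ y) (hx : x'.pt ≫ Sd.π = x.pt ≫ Sd.π)
    (hy : y.pt ≫ Sd.π = y'.pt ≫ Sd.π) (hx' : x''.pt ≫ Sd.π = x'.pt ≫ Sd.π)
    (hy' : y'.pt ≫ Sd.π = y''.pt ≫ Sd.π) :
    Sd.twArr (Sd.twArr a hx hy) hx' hy' = Sd.twArr a (hx'.trans hx) (hy.trans hy') := by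
  simp only [twArr, Category.assoc]
  rw [pArr_comp, ← Category.assoc, pArr_comp]

lemma pull_twArr (f : T' ⟶ T) {x y x' y' : Pt G T} (a : x ⟶ y)
    (hx : x'.pt ≫ Sd.π = x.pt ≫ Sd.π) (hy : y.pt ≫ Sd.π = y'.pt ≫ Sd.π) :
    (Pt.pull f).map (Sd.twArr a hx hy) =
      Sd.twArr ((Pt.pull f).map a)
        (by simp only [Pt.pull_obj_pt, Category.assoc, hx])
        (by simp only [Pt.pull_obj_pt, Category.assoc, hy]) := by
  simp only [twArr, Functor.map_comp, pull_pArr]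

lemma twArr_r_eq {x y x' y' x₂ y₂ x₂' y₂' : Pt G T} (a : x ⟶ y) (b : x₂ ⟶ y₂)
    (ex : x = x₂) (ey : y = y₂) (ex' : x' = x₂') (ey' : y' = y₂') (hab : a.r = b.r)
    (hx : x'.pt ≫ Sd.π = x.pt ≫ Sd.π) (hy : y.pt ≫ Sd.π = y'.pt ≫ Sd.π)
    (hx₂ : x₂'.pt ≫ Sd.π = x₂.pt ≫ Sd.π) (hy₂ : y₂.pt ≫ Sd.π = y₂'.pt ≫ Sd.π) :
    (Sd.twArr a hx hy).r = (Sd.twArr b hx₂ hy₂).r := by
  subst ex ey ex' ey'
  have : a = b := Pt.hom_ext hab
  subst this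
  rfl

end Tw

section Base

/-- points of `G.U` with the same image in the quotient have the same image in `S`. -/
lemma π_coeq {Z : Scheme.{u}} (g₁ g₂ : Z ⟶ G.U) (h : g₁ ≫ Sd.π = g₂ ≫ Sd.π) :
    g₁ ≫ G.pU = g₂ ≫ G.pU := by
  obtain ⟨r, h1, h2⟩ : ∃ r : Z ⟶ G.R, r ≫ G.s = g₁ ∧ r ≫ G.t = g₂ :=
    ⟨(Sd.pArr (⟨g₁⟩ : Pt G Z) ⟨g₂⟩ h).r, (Sd.pArr (⟨g₁⟩ : Pt G Z) ⟨g₂⟩ h).hs,
      (Sd.pArr (⟨g₁⟩ : Pt G Z) ⟨g₂⟩ h).ht⟩
  calc g₁ ≫ G.pU = (r ≫ G.s) ≫ G.pU := by rw [h1]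
    _ = (r ≫ G.t) ≫ G.pU := by rw [Category.assoc, Category.assoc, G.s_over, G.t_over]
    _ = g₂ ≫ G.pU := by rw [h2]

/-- the structure morphism of the quotient. -/
noncomputable def m : Sd.Ub ⟶ S :=
  EffectiveEpi.desc Sd.π G.pU (fun g₁ g₂ h => Sd.π_coeq g₁ g₂ h)

lemma π_m : Sd.π ≫ Sd.m = G.pU := EffectiveEpi.fac _ _ _

/-- `U ×_S U`. -/
noncomputable abbrev A (G : Grpd.GroupoidScheme S) : Scheme.{u} := pullback G.pU G.pU

/-- `Ub ×_S Ub`. -/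
noncomputable abbrev Ab : Scheme.{u} := pullback Sd.m Sd.m

/-- `π × π`. -/
noncomputable def q : A G ⟶ Sd.Ab :=
  pullback.map G.pU G.pU Sd.m Sd.m Sd.π Sd.π (𝟙 S)
    ((Category.comp_id _).trans Sd.π_m.symm) ((Category.comp_id _).trans Sd.π_m.symm)

lemma q_fst : Sd.q ≫ pullback.fst _ _ = pullback.fst _ _ ≫ Sd.π := pullback.lift_fst _ _ _

lemma q_snd : Sd.q ≫ pullback.snd _ _ = pullback.snd _ _ ≫ Sd.π := pullback.lift_snd _ _ _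

instance surjective_q : Surjective Sd.q :=
  MorphismProperty.pullbackMap (P := @Surjective) Sd.surjective_π Sd.surjective_π
    Sd.π_m.symm Sd.π_m.symm

instance flat_q : Flat Sd.q :=
  MorphismProperty.pullbackMap (P := @Flat) Sd.flat_π Sd.flat_π Sd.π_m.symm Sd.π_m.symm

instance lofp_q : LocallyOfFinitePresentation Sd.q :=
  MorphismProperty.pullbackMap (P := @LocallyOfFinitePresentation) Sd.lofp_π Sd.lofp_π
    Sd.π_m.symm Sd.π_m.symm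

end Base

section DD

open Desc

variable {T T' : Scheme.{u}}

/-- the arrow of a lift. -/
noncomputable def arrOfLift (x : T ⟶ A G) (v : T ⟶ G.R) (hv : v ≫ G.j = x) :
    (⟨x ≫ pullback.snd _ _⟩ : Pt G T) ⟶ ⟨x ≫ pullback.fst _ _⟩ :=
  Pt.mkArr v (by rw [← hv, Category.assoc, j_s]) (by rw [← hv, Category.assoc, j_t])

lemma lift_j {x : T ⟶ A G} (a : (⟨x ≫ pullback.snd _ _⟩ : Pt G T) ⟶ ⟨x ≫ pullback.fst _ _⟩) :
    a.r ≫ G.j = x := by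
  apply pullback.hom_ext
  · rw [Category.assoc, j_t]; exact a.ht
  · rw [Category.assoc, j_s]; exact a.hs

lemma q_cond_fst {x₀ x₁ : T ⟶ A G} (h : x₀ ≫ Sd.q = x₁ ≫ Sd.q) :
    (x₀ ≫ pullback.fst _ _) ≫ Sd.π = (x₁ ≫ pullback.fst _ _) ≫ Sd.π := by
  have := congrArg (· ≫ pullback.fst _ _) h
  simpa only [Category.assoc, q_fst] using this

lemma q_cond_snd {x₀ x₁ : T ⟶ A G} (h : x₀ ≫ Sd.q = x₁ ≫ Sd.q) :
    (x₀ ≫ pullback.snd _ _) ≫ Sd.π = (x₁ ≫ pullback.snd _ _) ≫ Sd.π := by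
  have := congrArg (· ≫ pullback.snd _ _) h
  simpa only [Category.assoc, q_snd] using this

/-- the gluing map. -/
noncomputable def φmap (x₀ x₁ : T ⟶ A G) (h : x₀ ≫ Sd.q = x₁ ≫ Sd.q)
    (v : Lifts (Over.mk G.j) x₀) : Lifts (Over.mk G.j) x₁ :=
  ⟨(Sd.twArr (arrOfLift x₀ v.1 v.2) (Sd.q_cond_snd h).symm (Sd.q_cond_fst h)).r, lift_j _⟩

lemma φmap_φmap (x₀ x₁ x₂ : T ⟶ A G) (h₀₁ : x₀ ≫ Sd.q = x₁ ≫ Sd.q) (h₁₂ : x₁ ≫ Sd.q = x₂ ≫ Sd.q)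
    (v : Lifts (Over.mk G.j) x₀) :
    Sd.φmap x₁ x₂ h₁₂ (Sd.φmap x₀ x₁ h₀₁ v) = Sd.φmap x₀ x₂ (h₀₁.trans h₁₂) v := by
  apply Subtype.ext
  change (Sd.twArr (arrOfLift x₁ _ _) _ _).r = (Sd.twArr (arrOfLift x₀ v.1 v.2) _ _).r
  have e : arrOfLift x₁ (Sd.φmap x₀ x₁ h₀₁ v).1 (Sd.φmap x₀ x₁ h₀₁ v).2 =
      Sd.twArr (arrOfLift x₀ v.1 v.2) (Sd.q_cond_snd h₀₁).symm (Sd.q_cond_fst h₀₁) :=
    Pt.hom_ext rfl
  rw [e, twArr_twArr]

lemma φmap_self (x : T ⟶ A G) (v : Lifts (Over.mk G.j) x) : Sd.φmap x x rfl v = v := by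
  apply Subtype.ext
  change (Sd.twArr (arrOfLift x v.1 v.2) _ _).r = v.1
  rw [twArr_self]
  rfl

/-- the descent datum on `j : R ⟶ U ×_S U` relative to `π × π`. -/
noncomputable def DD : SchDD Sd.q where
  obj := Over.mk G.j
  φ T x₀ x₁ h :=
    { toFun := Sd.φmap x₀ x₁ h
      invFun := Sd.φmap x₁ x₀ h.symm
      left_inv := fun v => by rw [φmap_φmap, φmap_self]
      right_inv := fun v => by rw [φmap_φmap, φmap_self] }
  φ_natural T T' g x₀ x₁ h h' v v' hv' := by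
    change (Sd.twArr (arrOfLift (g ≫ x₀) v'.1 v'.2) _ _).r =
      g ≫ (Sd.twArr (arrOfLift x₀ v.1 v.2) _ _).r
    have e1 : g ≫ (Sd.twArr (arrOfLift x₀ v.1 v.2) (Sd.q_cond_snd h).symm (Sd.q_cond_fst h)).r =
        ((Pt.pull g).map
          (Sd.twArr (arrOfLift x₀ v.1 v.2) (Sd.q_cond_snd h).symm (Sd.q_cond_fst h))).r := rfl
    rw [e1, pull_twArr]
    refine Sd.twArr_r_eq _ _ ?_ ?_ ?_ ?_ ?_ _ _ _ _
    · exact Pt.ext (Category.assoc _ _ _)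
    · exact Pt.ext (Category.assoc _ _ _)
    · exact Pt.ext (Category.assoc _ _ _)
    · exact Pt.ext (Category.assoc _ _ _)
    · exact hv'
  φ_self T x v := Sd.φmap_self x v
  φ_comp T x₀ x₁ x₂ h₀₁ h₁₂ v := Sd.φmap_φmap x₀ x₁ x₂ h₀₁ h₁₂ v

end DD

end SubData

end Groth.Agent.Lib.H5bSubQuot
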