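import Mathlib
import Groth.Prelude.Def_Grpd
import Groth.Prelude.Def_Desc
import Groth.Agent.Lib.H5bSubQuotC

/-!
# The descended scheme of arrows (helper5)

`RbData Sd`: a scheme `Rb` over `Ub ×_S Ub` with `fR : G.R ⟶ Rb` such that `R = (U ×_S U) ×_{Ub ×_S Ub} Rb`
and `fR` is invariant under pre- and postcomposition with arrows of `P`. It exists when `j` is separated,
locally quasi-finite and locally of finite type (`exists_rbData`, by fppf descent). Consequences: `fR` is an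
fppf covering, its fibres are the `P × P`-orbits (`arr_fibre`), invariant morphisms descend (`desc`).
-/

set_option autoImplicit false
set_option linter.unusedSectionVars false
set_option linter.style.haveILetI false
universe u

open CategoryTheory CategoryTheory.Limits AlgebraicGeometry
open Groth.Agent.Lib.Helper2.Grpd Groth.Agent.Lib.H5bGrpdPts

namespace Groth.Agent.Lib.H5bSubQuot

variable {S : Scheme.{u}}

namespace SubData

variable {G : Grpd.GroupoidScheme S} (Sd : SubData G)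
  [IsAffine G.U] [IsFinite (Sd.ιP ≫ G.s)] [Flat (Sd.ιP ≫ G.s)]
  [LocallyOfFinitePresentation (Sd.ιP ≫ G.s)]

/-- the descended scheme of arrows. -/
structure RbData where
  Rb : Scheme.{u}
  kb : Rb ⟶ Sd.Ab
  fR : G.R ⟶ Rb
  sq : IsPullback fR G.j kb Sd.q
  inv : ∀ {T : Scheme.{u}} {x y x' y' : Pt G T} (a : x ⟶ y) (hx : x'.pt ≫ Sd.π = x.pt ≫ Sd.π)
    (hy : y.pt ≫ Sd.π = y'.pt ≫ Sd.π), (Sd.twArr a hx hy).r ≫ fR = a.r ≫ fR

open Desc Groth.Agent.Lib.H5bDDGlue Groth.Agent.Lib.H5bDDGen in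
theorem exists_rbData [IsSeparated G.j] [LocallyQuasiFinite G.j] [LocallyOfFiniteType G.j] :
    Nonempty (RbData Sd) := by
  haveI : IsSeparated Sd.DD.obj.hom := inferInstanceAs (IsSeparated G.j)
  haveI : LocallyQuasiFinite Sd.DD.obj.hom := inferInstanceAs (LocallyQuasiFinite G.j)
  haveI : LocallyOfFiniteType Sd.DD.obj.hom := inferInstanceAs (LocallyOfFiniteType G.j)
  obtain ⟨W, ⟨e⟩⟩ := effective_sep_lqf_fppf Sd.q Sd.DD
  have hε : e.inv.hom.left ≫ ((toDD Sd.q).obj W).obj.hom = G.j := Over.w e.inv.hom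
  haveI : IsIso e.inv.hom.left := by
    have : IsIso e.inv.hom := by
      refine ⟨e.hom.hom, ?_, ?_⟩
      · rw [← SchDD.comp_hom, e.inv_hom_id]; rfl
      · rw [← SchDD.comp_hom, e.hom_inv_id]; rfl
    exact inferInstanceAs (IsIso ((Over.forget _).map e.inv.hom))
  refine ⟨⟨W.left, W.hom, e.inv.hom.left ≫ sndU Sd.q W, ?_, ?_⟩⟩
  · have h1 : IsPullback e.inv.hom.left G.j ((toDD Sd.q).obj W).obj.hom (𝟙 (A G)) :=
      IsPullback.of_horiz_isIso ⟨by rw [hε, Category.comp_id]⟩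
    have h2 := h1.paste_horiz (isPullback_toDD (p := Sd.q) W).flip
    rwa [Category.id_comp] at h2
  · intro T x y x' y' a hx hy
    have hxy : y.pt ≫ G.pU = x.pt ≫ G.pU := by
      rw [← a.ht, ← a.hs, Category.assoc, Category.assoc, G.t_over, G.s_over]
    have hxy' : y'.pt ≫ G.pU = x'.pt ≫ G.pU := by
      rw [← Sd.π_coeq _ _ hy, hxy, Sd.π_coeq _ _ hx]
    let x₀ : T ⟶ A G := pullback.lift y.pt x.pt hxy
    let x₁ : T ⟶ A G := pullback.lift y'.pt x'.pt hxy'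
    have h : x₀ ≫ Sd.q = x₁ ≫ Sd.q := by
      apply pullback.hom_ext
      · rw [Category.assoc, Category.assoc, q_fst, ← Category.assoc, ← Category.assoc,
          pullback.lift_fst, pullback.lift_fst, hy]
      · rw [Category.assoc, Category.assoc, q_snd, ← Category.assoc, ← Category.assoc,
          pullback.lift_snd, pullback.lift_snd, hx]
    have hw : a.r ≫ G.j = x₀ := by
      apply pullback.hom_ext
      · rw [Category.assoc, j_t, pullback.lift_fst]; exact a.ht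
      · rw [Category.assoc, j_s, pullback.lift_snd]; exact a.hs
    let w : Lifts Sd.DD.obj x₀ := ⟨a.r, hw⟩
    have key := invariant_of_iso e x₀ x₁ h w
    have e2 : (Sd.DD.φ x₀ x₁ h w).1 = (Sd.twArr a hx hy).r := by
      change (Sd.twArr (arrOfLift x₀ a.r hw) _ _).r = _
      exact Sd.twArr_r_eq _ _ (Pt.ext (pullback.lift_snd _ _ _)) (Pt.ext (pullback.lift_fst _ _ _))
        (Pt.ext (pullback.lift_snd _ _ _)) (Pt.ext (pullback.lift_fst _ _ _)) rfl _ _ _ _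
    rw [e2] at key
    exact key

namespace RbData

variable {Sd} (R : RbData Sd)

instance surjective_fR : Surjective R.fR :=
  MorphismProperty.of_isPullback (P := @Surjective) R.sq.flip Sd.surjective_q

instance flat_fR : Flat R.fR :=
  MorphismProperty.of_isPullback (P := @Flat) R.sq.flip Sd.flat_q

instance lofp_fR : LocallyOfFinitePresentation R.fR :=
  MorphismProperty.of_isPullback (P := @LocallyOfFinitePresentation) R.sq.flip Sd.lofp_q

/-- source. -/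
noncomputable def sb : R.Rb ⟶ Sd.Ub := R.kb ≫ pullback.snd _ _

/-- target. -/
noncomputable def tb : R.Rb ⟶ Sd.Ub := R.kb ≫ pullback.fst _ _

lemma hs : R.fR ≫ R.sb = G.s ≫ Sd.π := by
  rw [sb, ← Category.assoc, R.sq.w, Category.assoc, q_snd, ← Category.assoc, j_s]

lemma ht : R.fR ≫ R.tb = G.t ≫ Sd.π := by
  rw [tb, ← Category.assoc, R.sq.w, Category.assoc, q_fst, ← Category.assoc, j_t]

variable {T : Scheme.{u}}

lemma fR_kb_eq {g₁ g₂ : T ⟶ G.R} (h : g₁ ≫ R.fR = g₂ ≫ R.fR) :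
    (g₂ ≫ G.s) ≫ Sd.π = (g₁ ≫ G.s) ≫ Sd.π ∧ (g₁ ≫ G.t) ≫ Sd.π = (g₂ ≫ G.t) ≫ Sd.π := by
  constructor
  · rw [Category.assoc, Category.assoc, ← R.hs, ← Category.assoc, ← Category.assoc, h]
  · rw [Category.assoc, Category.assoc, ← R.ht, ← Category.assoc, ← Category.assoc, h]

/-- the fibres of `fR` are the orbits. -/
lemma arr_fibre {x y x₂ y₂ : Pt G T} (a : x ⟶ y) (b : x₂ ⟶ y₂) (h : b.r ≫ R.fR = a.r ≫ R.fR) :
    ∃ (hx : x₂.pt ≫ Sd.π = x.pt ≫ Sd.π) (hy : y.pt ≫ Sd.π = y₂.pt ≫ Sd.π),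
      b = Sd.twArr a hx hy := by
  obtain ⟨h1, h2⟩ := R.fR_kb_eq h.symm
  have hx : x₂.pt ≫ Sd.π = x.pt ≫ Sd.π := by rw [← b.hs, ← a.hs]; exact h1
  have hy : y.pt ≫ Sd.π = y₂.pt ≫ Sd.π := by rw [← b.ht, ← a.ht]; exact h2
  refine ⟨hx, hy, Pt.hom_ext ?_⟩
  apply R.sq.hom_ext
  · rw [R.inv a hx hy, h]
  · apply pullback.hom_ext
    · rw [Category.assoc, Category.assoc, j_t, b.ht, (Sd.twArr a hx hy).ht]
    · rw [Category.assoc, Category.assoc, j_s, b.hs, (Sd.twArr a hx hy).hs]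

/-- invariant morphisms descend. -/
lemma exists_desc {Z : Scheme.{u}} (f : G.R ⟶ Z)
    (hf : ∀ {T : Scheme.{u}} {x y x' y' : Pt G T} (a : x ⟶ y) (hx : x'.pt ≫ Sd.π = x.pt ≫ Sd.π)
      (hy : y.pt ≫ Sd.π = y'.pt ≫ Sd.π), (Sd.twArr a hx hy).r ≫ f = a.r ≫ f) :
    ∃ fb : R.Rb ⟶ Z, R.fR ≫ fb = f := by
  have hw : ∀ {T : Scheme.{u}} (g₁ g₂ : T ⟶ G.R), g₁ ≫ R.fR = g₂ ≫ R.fR → g₁ ≫ f = g₂ ≫ f := by
    intro T g₁ g₂ h
    obtain ⟨hx, hy, e⟩ := R.arr_fibre (Pt.ofR g₁) (Pt.ofR g₂) h.symm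
    have : g₂ = (Sd.twArr (Pt.ofR g₁) hx hy).r := congrArg Pt.Arr.r e
    rw [this, hf]
    rfl
  exact ⟨EffectiveEpi.desc R.fR f hw, EffectiveEpi.fac _ _ _⟩

end RbData

end SubData

end Groth.Agent.Lib.H5bSubQuot
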