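import Mathlib
import Groth.Prelude.Def_Grpd
import Groth.Agent.Lib.H5bSubQuotD
import Groth.Agent.Lib.H5bSubQuotA

/-!
# The quotient groupoid of a groupoid scheme by a finite locally free subgroupoid (helper5)

From `R : RbData Sd` the structure morphisms `eb`, `ib`, `cb` of the quotient groupoid are obtained by descent
along the fppf coverings `π`, `fR`, `fR × fR`, and `RbData.quotData` packages them as a `QuotData G`.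
-/

set_option autoImplicit false
set_option linter.unusedSectionVars false
set_option linter.style.haveILetI false
universe u

open CategoryTheory CategoryTheory.Limits AlgebraicGeometry
open Groth.Agent.Lib.Helper2.Grpd Groth.Agent.Lib.H5bGrpdPts

namespace Groth.Agent.Lib.H5bSubQuot

variable {S : Scheme.{u}}

namespace SubData

variable {G : Grpd.GroupoidScheme S} (Sd : SubData G)
  [IsAffine G.U] [IsFinite (Sd.ιP ≫ G.s)] [Flat (Sd.ιP ≫ G.s)]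
  [LocallyOfFinitePresentation (Sd.ιP ≫ G.s)]

section Pcomp

variable {T T' : Scheme.{u}}

lemma pArr_comp_assoc {x y z w : Pt G T} (h₁ : x.pt ≫ Sd.π = y.pt ≫ Sd.π)
    (h₂ : y.pt ≫ Sd.π = z.pt ≫ Sd.π) (k : z ⟶ w) :
    Sd.pArr x y h₁ ≫ Sd.pArr y z h₂ ≫ k = Sd.pArr x z (h₁.trans h₂) ≫ k := by
  rw [← Category.assoc, pArr_comp]

lemma pArr_inv' (x y : Pt G T) (h : x.pt ≫ Sd.π = y.pt ≫ Sd.π) :
    CategoryTheory.inv (Sd.pArr x y h) = Sd.pArr y x h.symm := by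
  rw [← Groupoid.inv_eq_inv]
  exact Sd.pArr_inv x y h

/-- composition of arrows through an arrow of `P`. -/
noncomputable def pcomp {x y y' z : Pt G T} (a : x ⟶ y) (b : y' ⟶ z)
    (h : y.pt ≫ Sd.π = y'.pt ≫ Sd.π) : x ⟶ z :=
  a ≫ Sd.pArr y y' h ≫ b

lemma pcomp_tw {x y y' z x₁ y₁ y₁' z₁ : Pt G T} (a : x ⟶ y) (b : y' ⟶ z)
    (h : y.pt ≫ Sd.π = y'.pt ≫ Sd.π)
    (hx : x₁.pt ≫ Sd.π = x.pt ≫ Sd.π) (hy : y.pt ≫ Sd.π = y₁.pt ≫ Sd.π)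
    (hy' : y₁'.pt ≫ Sd.π = y'.pt ≫ Sd.π) (hz : z.pt ≫ Sd.π = z₁.pt ≫ Sd.π)
    (h₁ : y₁.pt ≫ Sd.π = y₁'.pt ≫ Sd.π) :
    Sd.pcomp (Sd.twArr a hx hy) (Sd.twArr b hy' hz) h₁ = Sd.twArr (Sd.pcomp a b h) hx hz := by
  simp only [pcomp, twArr, Category.assoc]
  rw [pArr_comp_assoc, pArr_comp_assoc]

lemma pcomp_r_of_eq {x y y' z : Pt G T} (a : x ⟶ y) (b : y' ⟶ z) (e : y.pt = y'.pt) :
    (Sd.pcomp a b (by rw [e])).r = comp G b.r a.r (b.hs.trans (e.symm.trans a.ht.symm)) := by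
  obtain ⟨ypt⟩ := y
  obtain ⟨ypt'⟩ := y'
  simp only at e
  subst e
  simp only [pcomp, pArr_self, Category.id_comp]
  rfl

lemma pull_pcomp (f : T' ⟶ T) {x y y' z : Pt G T} (a : x ⟶ y) (b : y' ⟶ z)
    (h : y.pt ≫ Sd.π = y'.pt ≫ Sd.π) :
    (Pt.pull f).map (Sd.pcomp a b h) =
      Sd.pcomp ((Pt.pull f).map a) ((Pt.pull f).map b)
        (by simp only [Pt.pull_obj_pt, Category.assoc, h]) := by
  simp only [pcomp, Functor.map_comp, pull_pArr]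

lemma inv_twArr {x y x' y' : Pt G T} (a : x ⟶ y) (hx : x'.pt ≫ Sd.π = x.pt ≫ Sd.π)
    (hy : y.pt ≫ Sd.π = y'.pt ≫ Sd.π) :
    Groupoid.inv (Sd.twArr a hx hy) = Sd.twArr (Groupoid.inv a) hy.symm hx.symm := by
  simp only [twArr, Groupoid.inv_eq_inv, IsIso.inv_comp, Category.assoc, pArr_inv']

end Pcomp

namespace RbData

variable {Sd} (R : RbData Sd)

lemma exists_eb : ∃ eb : Sd.Ub ⟶ R.Rb, Sd.π ≫ eb = G.e ≫ R.fR := by
  have hw : ∀ {T : Scheme.{u}} (g₁ g₂ : T ⟶ G.U), g₁ ≫ Sd.π = g₂ ≫ Sd.π →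
      g₁ ≫ G.e ≫ R.fR = g₂ ≫ G.e ≫ R.fR := by
    intro T g₁ g₂ h
    have e : Sd.twArr (𝟙 (⟨g₁⟩ : Pt G T)) (x' := (⟨g₂⟩ : Pt G T)) (y' := (⟨g₂⟩ : Pt G T)) h.symm h =
        𝟙 (⟨g₂⟩ : Pt G T) := by
      rw [twArr, Category.id_comp, pArr_comp, pArr_self]
    have h1 := R.inv (𝟙 (⟨g₁⟩ : Pt G T)) (x' := (⟨g₂⟩ : Pt G T)) (y' := (⟨g₂⟩ : Pt G T)) h.symm h
    rw [e] at h1
    have h2 : (g₂ ≫ G.e) ≫ R.fR = (g₁ ≫ G.e) ≫ R.fR := h1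
    rw [Category.assoc, Category.assoc] at h2
    exact h2.symm
  exact ⟨EffectiveEpi.desc Sd.π (G.e ≫ R.fR) hw, EffectiveEpi.fac _ _ _⟩

lemma exists_ib : ∃ ib : R.Rb ⟶ R.Rb, R.fR ≫ ib = G.i ≫ R.fR := by
  refine R.exists_desc (G.i ≫ R.fR) ?_
  intro T x y x' y' a hx hy
  have e := Sd.inv_twArr a hx hy
  have h1 := R.inv (Groupoid.inv a) hy.symm hx.symm
  rw [← e] at h1
  have h2 : ((Sd.twArr a hx hy).r ≫ G.i) ≫ R.fR = (a.r ≫ G.i) ≫ R.fR := h1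
  rw [Category.assoc, Category.assoc] at h2
  exact h2

section Comp

/-- pairs of arrows composable in the quotient. -/
noncomputable abbrev Rpp (Sd : SubData G) [IsFinite (Sd.ιP ≫ G.s)]
    [Flat (Sd.ιP ≫ G.s)] [LocallyOfFinitePresentation (Sd.ιP ≫ G.s)] : Scheme.{u} :=
  pullback (G.s ≫ Sd.π) (G.t ≫ Sd.π)

/-- `fR × fR`. -/
noncomputable def ρ₂ : Rpp Sd ⟶ pullback R.sb R.tb :=
  pullback.map (G.s ≫ Sd.π) (G.t ≫ Sd.π) R.sb R.tb R.fR R.fR (𝟙 Sd.Ub)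
    ((Category.comp_id _).trans R.hs.symm) ((Category.comp_id _).trans R.ht.symm)

lemma ρ₂_fst : R.ρ₂ ≫ pullback.fst _ _ = pullback.fst _ _ ≫ R.fR := pullback.lift_fst _ _ _

lemma ρ₂_snd : R.ρ₂ ≫ pullback.snd _ _ = pullback.snd _ _ ≫ R.fR := pullback.lift_snd _ _ _

instance surjective_ρ₂ : Surjective R.ρ₂ :=
  MorphismProperty.pullbackMap (P := @Surjective) R.surjective_fR R.surjective_fR
    R.hs.symm R.ht.symm

instance flat_ρ₂ : Flat R.ρ₂ :=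
  MorphismProperty.pullbackMap (P := @Flat) R.flat_fR R.flat_fR R.hs.symm R.ht.symm

instance lofp_ρ₂ : LocallyOfFinitePresentation R.ρ₂ :=
  MorphismProperty.pullbackMap (P := @LocallyOfFinitePresentation) R.lofp_fR R.lofp_fR
    R.hs.symm R.ht.symm

lemma rpp_cond : (pullback.snd (G.s ≫ Sd.π) (G.t ≫ Sd.π) ≫ G.t) ≫ Sd.π =
    (pullback.fst (G.s ≫ Sd.π) (G.t ≫ Sd.π) ≫ G.s) ≫ Sd.π := by
  rw [Category.assoc, Category.assoc]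
  exact pullback.condition.symm

/-- the universal composite `r₁ ∘ p ∘ r₂`. -/
noncomputable def carr (Sd : SubData G) [IsFinite (Sd.ιP ≫ G.s)]
    [Flat (Sd.ιP ≫ G.s)] [LocallyOfFinitePresentation (Sd.ιP ≫ G.s)] :
    (⟨pullback.snd (G.s ≫ Sd.π) (G.t ≫ Sd.π) ≫ G.s⟩ : Pt G (Rpp Sd)) ⟶
      ⟨pullback.fst (G.s ≫ Sd.π) (G.t ≫ Sd.π) ≫ G.t⟩ :=
  Sd.pcomp (Pt.ofR (pullback.snd (G.s ≫ Sd.π) (G.t ≫ Sd.π)))
    (Pt.ofR (pullback.fst (G.s ≫ Sd.π) (G.t ≫ Sd.π))) rpp_cond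

lemma comp_carr {T : Scheme.{u}} (g : T ⟶ Rpp Sd) :
    g ≫ (carr Sd).r = (Sd.pcomp ((Pt.pull g).map (Pt.ofR (pullback.snd (G.s ≫ Sd.π) (G.t ≫ Sd.π))))
      ((Pt.pull g).map (Pt.ofR (pullback.fst (G.s ≫ Sd.π) (G.t ≫ Sd.π))))
      (by
        simp only [Pt.pull_obj_pt, Category.assoc]
        exact congrArg (g ≫ ·) (by
          simpa only [Category.assoc] using
            (pullback.condition (f := G.s ≫ Sd.π) (g := G.t ≫ Sd.π)).symm))).r := by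
  have : g ≫ (carr Sd).r = ((Pt.pull g).map (carr Sd)).r := rfl
  rw [this, carr, pull_pcomp]

end Comp

section Quot

variable {T : Scheme.{u}}

lemma pcomp_fR_eq {x y y' z x₁ y₁ y₁' z₁ : Pt G T} (a : x ⟶ y) (b : y' ⟶ z)
    (h : y.pt ≫ Sd.π = y'.pt ≫ Sd.π) (a₁ : x₁ ⟶ y₁) (b₁ : y₁' ⟶ z₁)
    (h₁ : y₁.pt ≫ Sd.π = y₁'.pt ≫ Sd.π) (ha : a₁.r ≫ R.fR = a.r ≫ R.fR)
    (hb : b₁.r ≫ R.fR = b.r ≫ R.fR) :
    (Sd.pcomp a₁ b₁ h₁).r ≫ R.fR = (Sd.pcomp a b h).r ≫ R.fR := by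
  obtain ⟨hx, hy, rfl⟩ := R.arr_fibre a a₁ ha
  obtain ⟨hy', hz, rfl⟩ := R.arr_fibre b b₁ hb
  rw [Sd.pcomp_tw a b h, R.inv]

lemma exists_cb : ∃ cb : pullback R.sb R.tb ⟶ R.Rb, R.ρ₂ ≫ cb = (carr Sd).r ≫ R.fR := by
  have hw : ∀ {T : Scheme.{u}} (g g' : T ⟶ Rpp Sd), g ≫ R.ρ₂ = g' ≫ R.ρ₂ →
      g ≫ (carr Sd).r ≫ R.fR = g' ≫ (carr Sd).r ≫ R.fR := by
    intro T g g' h
    have h1 : (g' ≫ pullback.fst _ _) ≫ R.fR = (g ≫ pullback.fst _ _) ≫ R.fR := by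
      have := congrArg (· ≫ pullback.fst _ _) h
      simp only [Category.assoc, ρ₂_fst] at this
      simpa only [Category.assoc] using this.symm
    have h2 : (g' ≫ pullback.snd _ _) ≫ R.fR = (g ≫ pullback.snd _ _) ≫ R.fR := by
      have := congrArg (· ≫ pullback.snd _ _) h
      simp only [Category.assoc, ρ₂_snd] at this
      simpa only [Category.assoc] using this.symm
    rw [← Category.assoc, ← Category.assoc, comp_carr, comp_carr]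
    exact (R.pcomp_fR_eq _ _ _ _ _ _ h2 h1).symm
  exact ⟨EffectiveEpi.desc R.ρ₂ ((carr Sd).r ≫ R.fR) hw, EffectiveEpi.fac _ _ _⟩

lemma hc (cb : pullback R.sb R.tb ⟶ R.Rb) (hcb : R.ρ₂ ≫ cb = (carr Sd).r ≫ R.fR)
    (α β : T ⟶ G.R) (h : α ≫ G.s = β ≫ G.t) (h' : (α ≫ R.fR) ≫ R.sb = (β ≫ R.fR) ≫ R.tb) :
    comp G α β h ≫ R.fR = pullback.lift (α ≫ R.fR) (β ≫ R.fR) h' ≫ cb := by
  let g : T ⟶ Rpp Sd := pullback.lift α β (by rw [← Category.assoc, ← Category.assoc, h])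
  have hg1 : g ≫ pullback.fst _ _ = α := pullback.lift_fst _ _ _
  have hg2 : g ≫ pullback.snd _ _ = β := pullback.lift_snd _ _ _
  have hg : pullback.lift (α ≫ R.fR) (β ≫ R.fR) h' = g ≫ R.ρ₂ := by
    apply pullback.hom_ext
    · rw [pullback.lift_fst, Category.assoc, ρ₂_fst, ← Category.assoc, hg1]
    · rw [pullback.lift_snd, Category.assoc, ρ₂_snd, ← Category.assoc, hg2]
  rw [hg, Category.assoc, hcb, ← Category.assoc, comp_carr]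
  have e : ((Pt.pull g).obj
      (⟨pullback.snd (G.s ≫ Sd.π) (G.t ≫ Sd.π) ≫ G.t⟩ : Pt G (Rpp Sd))).pt =
      ((Pt.pull g).obj (⟨pullback.fst (G.s ≫ Sd.π) (G.t ≫ Sd.π) ≫ G.s⟩ : Pt G (Rpp Sd))).pt := by
    simp only [Pt.pull_obj_pt]
    rw [← Category.assoc, ← Category.assoc, hg1, hg2, h]
  rw [Sd.pcomp_r_of_eq _ _ e]
  congr 1
  exact (comp_congr G _ hg1 hg2).symm

lemma L1 (α : T ⟶ R.Rb) : ∃ (T' : Scheme.{u}) (c : T' ⟶ T) (_ : Epi c) (α' : T' ⟶ G.R),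
    α' ≫ R.fR = c ≫ α :=
  ⟨pullback α R.fR, pullback.fst α R.fR, inferInstance, pullback.snd α R.fR,
    pullback.condition.symm⟩

lemma L2 (x : T ⟶ G.U) (β : T ⟶ R.Rb) (hx : x ≫ Sd.π = β ≫ R.tb) :
    ∃ (T' : Scheme.{u}) (c : T' ⟶ T) (_ : Epi c) (β' : T' ⟶ G.R),
      β' ≫ R.fR = c ≫ β ∧ β' ≫ G.t = c ≫ x := by
  obtain ⟨T', c, hc, β₀, hβ₀⟩ := R.L1 β
  have hy : (β₀ ≫ G.t) ≫ Sd.π = (c ≫ x) ≫ Sd.π := by
    rw [Category.assoc, ← R.ht, ← Category.assoc, hβ₀, Category.assoc, ← hx, Category.assoc]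
  refine ⟨T', c, hc, (Sd.twArr (Pt.ofR β₀) (x' := (⟨β₀ ≫ G.s⟩ : Pt G T'))
    (y' := (⟨c ≫ x⟩ : Pt G T')) rfl hy).r, ?_, (Sd.twArr (Pt.ofR β₀) _ hy).ht⟩
  rw [R.inv]
  exact hβ₀

/-- the quotient data. -/
noncomputable def quotData (eb : Sd.Ub ⟶ R.Rb) (heb : Sd.π ≫ eb = G.e ≫ R.fR)
    (ib : R.Rb ⟶ R.Rb) (hib : R.fR ≫ ib = G.i ≫ R.fR)
    (cb : pullback R.sb R.tb ⟶ R.Rb) (hcb : R.ρ₂ ≫ cb = (carr Sd).r ≫ R.fR) : QuotData G where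
  Ub := Sd.Ub
  Rb := R.Rb
  fU := Sd.π
  fR := R.fR
  pUb := Sd.m
  hpU := Sd.π_m
  sb := R.sb
  tb := R.tb
  eb := eb
  ib := ib
  cb := cb
  hs := R.hs
  ht := R.ht
  he := heb.symm
  hi := hib.symm
  hc := fun α β h h' => R.hc cb hcb α β h h'
  epiU := inferInstance
  L1 := fun α => R.L1 α
  L2 := fun x β hx => R.L2 x β hx

end Quot

end RbData

end SubData

end Groth.Agent.Lib.H5bSubQuot
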