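import Mathlib
import Groth.Prelude.Def_Grpd
import Groth.Prelude.Def_QuotSh
import Groth.Agent.Lib.H5bSubQuotE
import Groth.Agent.Lib.Helper12QuotSh

/-!
# Quotient of a groupoid scheme by a finite locally free subgroupoid: the theorem (helper5)

`SubData.main`: for `G.U` affine, `j` separated, locally quasi-finite and locally of finite type, and
`Sd : SubData G` with `s|_P` finite locally free, there is a groupoid scheme `H` on the affine scheme
`Ub = U/P` and a morphism `φ : G ⟶ H` with `φ.fU` finite locally free, `P = U ×_Ub U`, `Ub` the fppf quotient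
sheaf `U/P`, and `R = (U ×_S U) ×_{Ub ×_S Ub} H.R`.
-/

set_option autoImplicit false
set_option linter.unusedSectionVars false
set_option linter.style.haveILetI false
universe u

open CategoryTheory CategoryTheory.Limits AlgebraicGeometry
open Groth.Agent.Lib.Helper2.Grpd Groth.Agent.Lib.H5bGrpdPts

namespace Groth.Agent.Lib.H5bSubQuot

variable {S : Scheme.{u}}

namespace SubData

variable {G : Grpd.GroupoidScheme S} (Sd : SubData G)
  [IsAffine G.U] [IsFinite (Sd.ιP ≫ G.s)] [Flat (Sd.ιP ≫ G.s)]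
  [LocallyOfFinitePresentation (Sd.ιP ≫ G.s)]

theorem main [IsSeparated G.j] [LocallyQuasiFinite G.j] [LocallyOfFiniteType G.j] :
    ∃ (H : Grpd.GroupoidScheme S) (φ : Grpd.GroupoidScheme.Hom G H),
      IsAffine H.U ∧
      QuotSh.IsQuotient Scheme.fppfPrecoverage
        (Over.homMk (Sd.ιP ≫ G.s) ((Category.assoc _ _ _).trans (congrArg (Sd.ιP ≫ ·) G.s_over)) :
          (Over.mk (Sd.ιP ≫ G.pR) : Over S) ⟶ Over.mk G.pU)
        (Over.homMk (Sd.ιP ≫ G.t) ((Category.assoc _ _ _).trans (congrArg (Sd.ιP ≫ ·) G.t_over)) :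
          (Over.mk (Sd.ιP ≫ G.pR) : Over S) ⟶ Over.mk G.pU)
        (Over.homMk φ.fU φ.fU_over : Over.mk G.pU ⟶ Over.mk H.pU) ∧
      IsFinite φ.fU ∧ Flat φ.fU ∧ LocallyOfFinitePresentation φ.fU ∧
      IsPullback (Sd.ιP ≫ G.t) (Sd.ιP ≫ G.s) φ.fU φ.fU ∧
      IsPullback φ.fR G.j H.j
        (pullback.map G.pU G.pU H.pU H.pU φ.fU φ.fU (𝟙 S)
          ((Category.comp_id _).trans φ.fU_over.symm) ((Category.comp_id _).trans φ.fU_over.symm)) := by
  obtain ⟨R⟩ := Sd.exists_rbData
  obtain ⟨eb, heb⟩ := R.exists_eb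
  obtain ⟨ib, hib⟩ := R.exists_ib
  obtain ⟨cb, hcb⟩ := R.exists_cb
  refine ⟨(R.quotData eb heb ib hib cb hcb).grpd, (R.quotData eb heb ib hib cb hcb).hom,
    ?_, ?_, ?_, ?_, ?_, ?_, ?_⟩
  · exact Sd.isAffine_Ub
  · apply Groth.Agent.Lib.Helper12.QuotShLib.isQuotient_of_isKernelPair
    · refine IsPullback.of_map (Over.forget S) ?_ ?_
      · apply Over.OverMorphism.ext
        simp only [Over.comp_left, Over.homMk_left]
        exact Sd.isPullback_π.w.symm
      · exact Sd.isPullback_π.flip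
    · exact Sd.π.singleton_mem_fppfPrecoverage
  · exact Sd.isFinite_π
  · exact Sd.flat_π
  · exact Sd.lofp_π
  · exact Sd.isPullback_π
  · have hj : (R.quotData eb heb ib hib cb hcb).grpd.j = R.kb := by
      apply pullback.hom_ext
      · exact (j_t (G := (R.quotData eb heb ib hib cb hcb).grpd))
      · exact (j_s (G := (R.quotData eb heb ib hib cb hcb).grpd))
    rw [hj]
    exact R.sq

end SubData

end Groth.Agent.Lib.H5bSubQuot
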