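import Mathlib
import Groth.Prelude.Def_AlgSp
import Groth.Prelude.Def_QuotSh
import Groth.Agent.Lib.H5bSubQuotF
import Groth.Agent.Lib.H5bSlEt
import Groth.Agent.Lib.H5bSlQuot
import Groth.Agent.Lib.H5bBootB
import Groth.Agent.Lib.H5bFppfSrc
import Groth.Agent.Lib.Helper12Flat
import Groth.Agent.S9868

/-!
# The quotient by a quasi-split equivalence relation on an affine scheme (helper5)

For a morphism of groupoid schemes `φ : G ⟶ H` exhibiting `G` as the restriction of `H` along an
fppf covering `φ.fU`: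

* `mono_j_of_restriction`, `flat_s_of_restriction`, `lfp_s_of_restriction`: `H` inherits `j` mono and
  `s` flat, locally of finite presentation;
* `isOpenImmersion_e_of_restriction`: if `G.U ×_{H.U} G.U` is open in `G.R`, then `H.e` is an open
  immersion;
* `exists_iso_quot_of_hom`: `G.U/G.R ⟶ H.U/H.R` is an isomorphism of fppf sheaves;
* `isAlgSpace_quot_of_subData`: the fppf quotient of an affine scheme by a quasi-split equivalence
  relation with flat, locally finitely presented `s` is an algebraic space.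
-/

set_option autoImplicit false
set_option linter.unusedSectionVars false
set_option linter.style.haveILetI false
universe u

open CategoryTheory CategoryTheory.Limits AlgebraicGeometry
open Groth.Agent.Lib.Helper2.Grpd

namespace Groth.Agent.Lib.H5bSl

/-- Local finite presentation descends along a flat, lfp, surjective morphism on the source. -/
theorem lfp_of_comp_of_fppf {X' X Y : Scheme.{u}} (h : X' ⟶ X) (k : X ⟶ Y)
    [Flat h] [LocallyOfFinitePresentation h] [Surjective h]
    [hhk : LocallyOfFinitePresentation (h ≫ k)] : LocallyOfFinitePresentation k := by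
  have hst : RingHom.StableUnderCompositionWithLocalizationAwaySource
      @RingHom.FinitePresentation := by
    intro R S T _ _ _ _ r _ f hf
    exact hf.comp (RingHom.finitePresentation_holdsForLocalizationAway S r)
  rw [HasRingHomProperty.iff_exists_appLE (P := @LocallyOfFinitePresentation) hst]
  intro x
  obtain ⟨x', rfl⟩ := h.surjective x
  refine Groth.Agent.Lib.H5bFppfSrc.exists_appLE_of_fppf_source
    (P := @LocallyOfFinitePresentation) (Q := @RingHom.FinitePresentation) ?_ h k hhk x'
  intro R A B _ _ _ φ ψ hψ1 hψ2 hs hc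
  algebraize [φ, ψ, ψ.comp φ]
  have : Module.Flat A B := hψ1
  have : Algebra.FinitePresentation A B := hψ2
  have : Algebra.FinitePresentation R B := hc
  have : Module.FaithfullyFlat A B := Module.FaithfullyFlat.of_comap_surjective hs
  exact Groth.Agent.S0112.result (R := R) (A := A) (B := B)

variable {S : Scheme.{u}} {G H : Grpd.GroupoidScheme S} (φ : Grpd.GroupoidScheme.Hom G H)

/-- `φ.fU × φ.fU`. -/
noncomputable abbrev homMap : pullback G.pU G.pU ⟶ pullback H.pU H.pU :=
  pullback.map G.pU G.pU H.pU H.pU φ.fU φ.fU (𝟙 S)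
    ((Category.comp_id _).trans φ.fU_over.symm) ((Category.comp_id _).trans φ.fU_over.symm)

section Restriction

variable (hsq : IsPullback φ.fR G.j H.j (homMap φ))
  [Surjective φ.fU] [Flat φ.fU] [LocallyOfFinitePresentation φ.fU]

include hsq

instance surjective_homMap : Surjective (homMap φ) :=
  MorphismProperty.pullbackMap (P := @Surjective) ‹Surjective φ.fU› ‹Surjective φ.fU›
    φ.fU_over.symm φ.fU_over.symm

instance flat_homMap : Flat (homMap φ) :=
  MorphismProperty.pullbackMap (P := @Flat) ‹Flat φ.fU› ‹Flat φ.fU› φ.fU_over.symm φ.fU_over.symm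

instance lfp_homMap : LocallyOfFinitePresentation (homMap φ) :=
  MorphismProperty.pullbackMap (P := @LocallyOfFinitePresentation)
    ‹LocallyOfFinitePresentation φ.fU› ‹LocallyOfFinitePresentation φ.fU›
    φ.fU_over.symm φ.fU_over.symm

theorem surjective_fR : Surjective φ.fR :=
  MorphismProperty.of_isPullback (P := @Surjective) hsq.flip inferInstance

theorem flat_fR : Flat φ.fR :=
  MorphismProperty.of_isPullback (P := @Flat) hsq.flip inferInstance

theorem lfp_fR : LocallyOfFinitePresentation φ.fR :=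
  MorphismProperty.of_isPullback (P := @LocallyOfFinitePresentation) hsq.flip inferInstance

theorem mono_j_of_restriction [Mono G.j] : Mono H.j :=
  mono_of_isPullback_fppf hsq

theorem flat_s_of_restriction [Flat G.s] : Flat H.s := by
  haveI := surjective_fR φ hsq
  haveI := flat_fR φ hsq
  haveI : Flat (φ.fR ≫ H.s) := by rw [φ.comm_s]; infer_instance
  exact Groth.Agent.Lib.Helper12.flat_of_comp_of_flat_of_surjective φ.fR H.s

theorem lfp_s_of_restriction [LocallyOfFinitePresentation G.s] :
    LocallyOfFinitePresentation H.s := by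
  haveI := surjective_fR φ hsq
  haveI := flat_fR φ hsq
  haveI := lfp_fR φ hsq
  haveI : LocallyOfFinitePresentation (φ.fR ≫ H.s) := by rw [φ.comm_s]; infer_instance
  exact lfp_of_comp_of_fppf φ.fR H.s

theorem isPullback_e_of_restriction [Mono G.j] {P : Scheme.{u}} (ιP : P ⟶ G.R) [Mono ιP]
    (hP : IsPullback (ιP ≫ G.t) (ιP ≫ G.s) φ.fU φ.fU) :
    IsPullback ιP (ιP ≫ G.s ≫ φ.fU) φ.fR H.e := by
  haveI := mono_j_of_restriction φ hsq
  have w : ιP ≫ φ.fR = (ιP ≫ G.s ≫ φ.fU) ≫ H.e := by
    apply inj_of_mono H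
    · rw [Category.assoc, φ.comm_t, Category.assoc, H.e_t, Category.comp_id]
      have := hP.w
      simp only [Category.assoc] at this
      exact this
    · rw [Category.assoc, φ.comm_s, Category.assoc, H.e_s, Category.comp_id]
  have key : ∀ c : PullbackCone φ.fR H.e,
      (c.fst ≫ G.t) ≫ φ.fU = c.snd ∧ (c.fst ≫ G.s) ≫ φ.fU = c.snd := by
    intro c
    constructor
    · rw [Category.assoc, ← φ.comm_t, ← Category.assoc, c.condition, Category.assoc, H.e_t,
        Category.comp_id]
    · rw [Category.assoc, ← φ.comm_s, ← Category.assoc, c.condition, Category.assoc, H.e_s,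
        Category.comp_id]
  have hl : ∀ c : PullbackCone φ.fR H.e,
      hP.lift (c.fst ≫ G.t) (c.fst ≫ G.s) ((key c).1.trans (key c).2.symm) ≫ ιP = c.fst := by
    intro c
    apply inj_of_mono G
    · have := hP.lift_fst (c.fst ≫ G.t) (c.fst ≫ G.s) ((key c).1.trans (key c).2.symm)
      simp only [Category.assoc] at this ⊢
      exact this
    · have := hP.lift_snd (c.fst ≫ G.t) (c.fst ≫ G.s) ((key c).1.trans (key c).2.symm)
      simp only [Category.assoc] at this ⊢
      exact this
  refine ⟨⟨w⟩, ⟨PullbackCone.IsLimit.mk _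
    (fun c => hP.lift (c.fst ≫ G.t) (c.fst ≫ G.s) ((key c).1.trans (key c).2.symm)) ?_ ?_ ?_⟩⟩
  · intro c
    exact hl c
  · intro c
    rw [← Category.assoc, hl c, ← Category.assoc]
    exact (key c).2
  · intro c m h1 _
    rw [← cancel_mono ιP, hl c]
    exact h1

open Groth.Agent.Lib.H5bDDGen in
theorem isOpenImmersion_e_of_restriction [Mono G.j] {P : Scheme.{u}} (ιP : P ⟶ G.R)
    [IsOpenImmersion ιP] (hP : IsPullback (ιP ≫ G.t) (ιP ≫ G.s) φ.fU φ.fU) :
    IsOpenImmersion H.e := by
  haveI := surjective_fR φ hsq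
  haveI := flat_fR φ hsq
  haveI := lfp_fR φ hsq
  exact MorphismProperty.of_isPullback_of_descendsAlong (P := @IsOpenImmersion) (Q := UGood.{u})
    (isPullback_e_of_restriction φ hsq ιP hP) (uGood_of_fppf φ.fR) inferInstance

/-- **the quotient of a restriction along an fppf covering is the quotient**. -/
theorem exists_iso_quot_of_hom [Mono G.j] [Flat G.s] [LocallyOfFinitePresentation G.s] :
    ∃ ψ : QuotSh.quot Scheme.fppfPrecoverage (ovS G) (ovT G) ⟶
        QuotSh.quot Scheme.fppfPrecoverage (ovS H) (ovT H),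
      QuotSh.quotπ Scheme.fppfPrecoverage (ovS G) (ovT G) ≫ ψ =
        QuotSh.repMap Scheme.fppfPrecoverage
          (Over.homMk φ.fU φ.fU_over : ovU G ⟶ ovU H) ≫
          QuotSh.quotπ Scheme.fppfPrecoverage (ovS H) (ovT H) ∧
      IsIso ψ := by
  haveI := mono_j_of_restriction φ hsq
  haveI := flat_s_of_restriction φ hsq
  haveI := lfp_s_of_restriction φ hsq
  have hRw : φ.fR ≫ H.pR = G.pR := by
    rw [← H.t_over, ← Category.assoc, φ.comm_t, Category.assoc, φ.fU_over, G.t_over]
  let g : ovU G ⟶ ovU H := Over.homMk φ.fU φ.fU_over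
  let r : ovR G ⟶ ovR H := Over.homMk φ.fR hRw
  have hrs : r ≫ ovS H = ovS G ≫ g := by
    apply Over.OverMorphism.ext
    exact φ.comm_s
  have hrt : r ≫ ovT H = ovT G ≫ g := by
    apply Over.OverMorphism.ext
    exact φ.comm_t
  -- the covering
  let Z : Over S := Over.mk (pullback.snd φ.fU H.t ≫ H.pR)
  let ρ : Z ⟶ ovR H := Over.homMk (pullback.snd φ.fU H.t) rfl
  let a : Z ⟶ ovU G := Over.homMk (pullback.fst φ.fU H.t) (by
    show pullback.fst φ.fU H.t ≫ G.pU = pullback.snd φ.fU H.t ≫ H.pR
    rw [← φ.fU_over, ← Category.assoc, pullback.condition, Category.assoc, H.t_over])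
  have hρ : ρ ≫ ovT H = a ≫ g := by
    apply Over.OverMorphism.ext
    exact pullback.condition.symm
  haveI : Surjective H.s := ⟨fun x => ⟨H.e x, by rw [← Scheme.Hom.comp_apply, H.e_s]; rfl⟩⟩
  haveI : Flat (ρ ≫ ovS H).left :=
    inferInstanceAs (Flat (pullback.snd φ.fU H.t ≫ H.s))
  haveI : LocallyOfFinitePresentation (ρ ≫ ovS H).left :=
    inferInstanceAs (LocallyOfFinitePresentation (pullback.snd φ.fU H.t ≫ H.s))
  haveI : Surjective (ρ ≫ ovS H).left :=
    inferInstanceAs (Surjective (pullback.snd φ.fU H.t ≫ H.s))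
  refine exists_iso_quot (isEqvRel_of_grpd H) g r (isEqvRel_of_grpd G) hrs hrt ?_ ρ a hρ
  intro T a' b' ρ₀ ht hs
  have ht' : ρ₀.left ≫ H.t = a'.left ≫ φ.fU := congrArg (fun m : T ⟶ ovU H => m.left) ht
  have hs' : ρ₀.left ≫ H.s = b'.left ≫ φ.fU := congrArg (fun m : T ⟶ ovU H => m.left) hs
  have hab : a'.left ≫ G.pU = b'.left ≫ G.pU := by
    have h1 : a'.left ≫ G.pU = T.hom := Over.w a'
    have h2 : b'.left ≫ G.pU = T.hom := Over.w b'
    rw [h1, h2]
  have hcond : ρ₀.left ≫ H.j = pullback.lift a'.left b'.left hab ≫ homMap φ := by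
    apply pullback.hom_ext
    · rw [Category.assoc, Category.assoc, Groth.Agent.Lib.H5bEL.Res.j_fst, pullback.lift_fst,
        pullback.lift_fst_assoc]
      exact ht'
    · rw [Category.assoc, Category.assoc, Groth.Agent.Lib.H5bEL.Res.j_snd, pullback.lift_snd,
        pullback.lift_snd_assoc]
      exact hs'
  have hl := hsq.lift_snd ρ₀.left (pullback.lift a'.left b'.left hab) hcond
  have hlt : hsq.lift ρ₀.left (pullback.lift a'.left b'.left hab) hcond ≫ G.t = a'.left := by
    have := congrArg (fun m => m ≫ pullback.fst G.pU G.pU) hl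
    simp only [Category.assoc, Grpd.GroupoidScheme.j, pullback.lift_fst] at this
    exact this
  have hls : hsq.lift ρ₀.left (pullback.lift a'.left b'.left hab) hcond ≫ G.s = b'.left := by
    have := congrArg (fun m => m ≫ pullback.snd G.pU G.pU) hl
    simp only [Category.assoc, Grpd.GroupoidScheme.j, pullback.lift_snd] at this
    exact this
  refine ⟨Over.homMk (hsq.lift ρ₀.left (pullback.lift a'.left b'.left hab) hcond) ?_, ?_, ?_⟩
  · show hsq.lift ρ₀.left (pullback.lift a'.left b'.left hab) hcond ≫ G.pR = T.hom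
    rw [← G.t_over, ← Category.assoc, hlt]
    exact Over.w a'
  · apply Over.OverMorphism.ext
    exact hlt
  · apply Over.OverMorphism.ext
    exact hls

end Restriction

section SubData

open Groth.Agent.Lib.H5bSubQuot

/-- **the fppf quotient of an affine scheme by a quasi-split equivalence relation is an algebraic
space**. -/
theorem isAlgSpace_quot_of_subData {G : Grpd.GroupoidScheme S} (Sd : SubData G) [IsAffine G.U]
    [Mono G.j] [IsOpenImmersion Sd.ιP] [IsFinite (Sd.ιP ≫ G.s)] [Flat G.s]
    [LocallyOfFinitePresentation G.s] :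
    AlgSp.IsAlgSpace (QuotSh.quot Scheme.fppfPrecoverage (ovS G) (ovT G)) := by
  haveI : Flat (Sd.ιP ≫ G.s) := inferInstance
  haveI : LocallyOfFinitePresentation (Sd.ιP ≫ G.s) := inferInstance
  haveI : LocallyOfFiniteType G.j := by
    haveI : LocallyOfFiniteType (G.j ≫ pullback.snd G.pU G.pU) := by
      rw [Groth.Agent.Lib.H5bEL.Res.j_snd]
      infer_instance
    exact locallyOfFiniteType_of_comp G.j (pullback.snd G.pU G.pU)
  haveI : LocallyQuasiFinite G.j := Groth.Agent.Lib.H5bBoot.lqf_of_lft_of_diagonal G.j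
  obtain ⟨R⟩ := Sd.exists_rbData
  obtain ⟨eb, heb⟩ := R.exists_eb
  obtain ⟨ib, hib⟩ := R.exists_ib
  obtain ⟨cb, hcb⟩ := R.exists_cb
  have hj : (R.quotData eb heb ib hib cb hcb).grpd.j = R.kb := by
    apply pullback.hom_ext
    · exact (SubData.j_t (G := (R.quotData eb heb ib hib cb hcb).grpd))
    · exact (SubData.j_s (G := (R.quotData eb heb ib hib cb hcb).grpd))
  have hsq : IsPullback (R.quotData eb heb ib hib cb hcb).hom.fR G.j
      (R.quotData eb heb ib hib cb hcb).grpd.j (homMap (R.quotData eb heb ib hib cb hcb).hom) := by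
    rw [hj]
    exact R.sq
  obtain ⟨Q, hQ⟩ : ∃ Q, Q = R.quotData eb heb ib hib cb hcb := ⟨_, rfl⟩
  rw [← hQ] at hsq
  haveI : Surjective Q.hom.fU := by
    rw [hQ]
    exact Sd.surjective_π
  haveI : Flat Q.hom.fU := by
    rw [hQ]
    exact Sd.flat_π
  haveI : LocallyOfFinitePresentation Q.hom.fU := by
    rw [hQ]
    exact Sd.lofp_π
  have hP : IsPullback (Sd.ιP ≫ G.t) (Sd.ιP ≫ G.s) Q.hom.fU Q.hom.fU := by
    rw [hQ]
    exact Sd.isPullback_π
  haveI := mono_j_of_restriction Q.hom hsq
  haveI := flat_s_of_restriction Q.hom hsq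
  haveI := lfp_s_of_restriction Q.hom hsq
  haveI := isOpenImmersion_e_of_restriction Q.hom hsq Sd.ιP hP
  have h1 := etale_s_of_isOpenImmersion_e Q.grpd
  have h2 := etale_t_of_isOpenImmersion_e Q.grpd
  have hEt : AlgSp.IsEtaleEqvRel (ovS Q.grpd) (ovT Q.grpd) := ⟨isEqvRel_of_grpd Q.grpd, h1, h2⟩
  have hA := Groth.Agent.S9868.result S (ovS Q.grpd) (ovT Q.grpd) hEt
  obtain ⟨ψ, -, hψ⟩ := exists_iso_quot_of_hom Q.hom hsq
  haveI := hψ
  exact hA.of_iso (asIso ψ).symm

end SubData

end Groth.Agent.Lib.H5bSl
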