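import Groth.Agent.Lib.Helper4EtNormalSch

/-!
# Schemes étale over a normal integral scheme are locally irreducible (helper8)
-/

set_option autoImplicit false
universe u
open CategoryTheory CategoryTheory.Limits AlgebraicGeometry

namespace Groth.Agent.Lib.Helper8EtLocIrr

open Groth.Agent.Lib.Helper14 Groth.Agent.Lib.Helper4.EtNormalSch

theorem locallyQuasiFinite_of_etale {X S : Scheme.{u}} (f : X ⟶ S) [Etale f] :
    LocallyQuasiFinite f := by
  constructor
  intro U hU V hV e
  have h1 := f.etale_appLE hU hV e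
  algebraize [(f.appLE U V e).hom]
  have : Algebra.Etale Γ(S, U) Γ(X, V) := h1
  exact RingHom.quasiFinite_algebraMap.mpr inferInstance

/-- in a scheme with domain local rings and finitely many irreducible components, the irreducible
components are open and closed -/
theorem isClopen_irreducibleComponent {T : Scheme.{u}}
    (hdom : ∀ t : T, IsDomain (T.presheaf.stalk t))
    (hfin : (irreducibleComponents T).Finite) (t₀ : T) : IsClopen (irreducibleComponent t₀) := by
  set Z₀ := irreducibleComponent t₀ with hZ₀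
  have hZ₀mem : Z₀ ∈ irreducibleComponents T := irreducibleComponent_mem_irreducibleComponents t₀
  have hcompl : Z₀ᶜ = ⋃ Z ∈ (irreducibleComponents T \ {Z₀}), Z := by
    ext t
    simp only [Set.mem_compl_iff, Set.mem_iUnion, Set.mem_sdiff, Set.mem_singleton_iff,
      exists_prop]
    constructor
    · intro ht
      refine ⟨irreducibleComponent t, ⟨irreducibleComponent_mem_irreducibleComponents t, ?_⟩,
        mem_irreducibleComponent⟩
      intro h
      apply ht
      rw [← h]
      exact mem_irreducibleComponent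
    · rintro ⟨Z, ⟨hZ, hne⟩, htZ⟩ ht
      haveI := hdom t
      exact hne (irreducibleComponents_eq_of_mem t hZ hZ₀mem htZ ht)
  have hclosed : IsClosed (Z₀ᶜ) := by
    rw [hcompl]
    exact (hfin.subset Set.sdiff_subset).isClosed_biUnion
      (fun Z hZ => isClosed_of_mem_irreducibleComponents Z hZ.1)
  exact ⟨isClosed_irreducibleComponent, isClosed_compl_iff.mp hclosed⟩

theorem finite_irreducibleComponents_of_qf_flat {T X : Scheme.{u}} [IrreducibleSpace X]
    (f : T ⟶ X) [LocallyQuasiFinite f] [QuasiCompact f] [Flat f] :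
    (irreducibleComponents T).Finite := by
  have hS : (f ⁻¹' {genericPoint X}).Finite := Scheme.Hom.finite_preimage_singleton f _
  refine (hS.image (fun ξ => closure {ξ})).subset ?_
  intro Z hZ
  obtain ⟨ξ, rfl⟩ := exists_closure_eq_of_mem_irreducibleComponents hZ
  refine ⟨ξ, ?_, rfl⟩
  have hgen : genericPoint X ⤳ f ξ := (genericPoint_spec X).specializes trivial
  obtain ⟨ξ', hξ', hfξ'⟩ := Flat.generalizingMap f hgen
  have := (closure_mem_irreducibleComponents_iff ξ).mp hZ ξ' hξ'
  rw [← this]
  exact hfξ'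

/-- every point of a scheme étale over a normal integral scheme has an irreducible open
neighbourhood -/
theorem exists_irreducible_open_nhd {T X : Scheme.{u}} [IsIntegral X]
    (hX : Pi1.IsNormalScheme X) (f : T ⟶ X) [Etale f] (t : T) :
    ∃ O : Set T, IsOpen O ∧ t ∈ O ∧ IsPreirreducible O := by
  obtain ⟨_, ⟨V, hV, rfl⟩, htV, -⟩ := X.isBasis_affineOpens.exists_subset_of_mem_open
    (Set.mem_univ (f t)) isOpen_univ
  obtain ⟨_, ⟨N', hN, rfl⟩, htN, hNV⟩ := T.isBasis_affineOpens.exists_subset_of_mem_open
    (show t ∈ (f ⁻¹ᵁ V : Set T) from htV) (f ⁻¹ᵁ V).isOpen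
  obtain ⟨N, rfl⟩ : ∃ N : T.Opens, N = N' := ⟨N', rfl⟩
  haveI : Nonempty V := ⟨⟨f t, htV⟩⟩
  haveI : IsAffine (V : Scheme.{u}) := hV
  haveI : IsAffine (N : Scheme.{u}) := hN
  have hle : N ≤ f ⁻¹ᵁ V := hNV
  haveI : Etale (f.resLE V N hle) := inferInstance
  haveI := locallyQuasiFinite_of_etale (f.resLE V N hle)
  have hfin : (irreducibleComponents (N : Scheme.{u})).Finite :=
    finite_irreducibleComponents_of_qf_flat (f.resLE V N hle)
  haveI : Etale (N.ι ≫ f) := inferInstance
  have hnorm : Pi1.IsNormalScheme (N : Scheme.{u}) := isNormalScheme_of_etale hX (N.ι ≫ f)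
  obtain ⟨n, hn⟩ : ∃ n : (N : Scheme.{u}), N.ι n = t := by
    have : t ∈ Set.range N.ι := by rw [Scheme.Opens.range_ι]; exact htN
    exact this
  have hclopen := isClopen_irreducibleComponent (fun n => (hnorm n).1) hfin n
  refine ⟨N.ι '' irreducibleComponent n, N.ι.isOpenEmbedding.isOpenMap _ hclopen.2,
    ⟨n, mem_irreducibleComponent, hn⟩, ?_⟩
  exact (isIrreducible_irreducibleComponent.image _ N.ι.continuous.continuousOn).2

end Groth.Agent.Lib.Helper8EtLocIrr
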