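import Mathlib
import Groth.Agent.Lib.H5bELPts
import Groth.Agent.Lib.H5bLqfCore
import Groth.Agent.Lib.Helper12EtSrc
import Groth.Agent.Lib.Helper8EtLocIrr
import Groth.Agent.S9868
import Groth.Agent.S9869

/-!
# Quotient of an affine scheme by a closed étale equivalence relation (helper5)

`π : W ⟶ U` étale with `W`, `U` affine, `E ⊆ W ×_U W` open and closed, an equivalence relation on
`T`-valued points.  Then there are a scheme `ℋ`, `q : W ⟶ ℋ` étale surjective, `p : ℋ ⟶ U` étale with
`q ≫ p = π`, and `a ≫ q = b ≫ q` iff `(a, b)` lands in `E`.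
-/

set_option autoImplicit false
set_option linter.unusedSectionVars false
set_option linter.style.haveILetI false
universe u

open CategoryTheory CategoryTheory.Limits AlgebraicGeometry

namespace Groth.Agent.Lib.H5bEL

namespace Quot

variable {W U : Scheme.{u}} (π : W ⟶ U) (E : (pullback π π).Opens)

/-- `W` over `U`. -/
noncomputable abbrev Wo : Over U := Over.mk π

/-- `E` over `U`. -/
noncomputable abbrev Eo : Over U := Over.mk (E.ι ≫ pullback.fst π π ≫ π)

/-- first projection. -/
noncomputable def t : Eo π E ⟶ Wo π := Over.homMk (E.ι ≫ pullback.fst π π) (by simp)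

/-- second projection. -/
noncomputable def s : Eo π E ⟶ Wo π := Over.homMk (E.ι ≫ pullback.snd π π) (by
  simp [pullback.condition])

lemma t_left : (t π E).left = E.ι ≫ pullback.fst π π := rfl
lemma s_left : (s π E).left = E.ι ≫ pullback.snd π π := rfl

lemma w_eq {T : Over U} (a b : T ⟶ Wo π) : a.left ≫ π = b.left ≫ π :=
  (Over.w a).trans (Over.w b).symm

lemma rel_iff (T : Over U) (a b : T ⟶ Wo π) :
    (∃ r : T ⟶ Eo π E, r ≫ t π E = a ∧ r ≫ s π E = b) ↔
      In E (pullback.lift a.left b.left (w_eq π a b)) := by
  constructor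
  · rintro ⟨r, rfl, rfl⟩
    have e1 : pullback.lift (r ≫ t π E).left (r ≫ s π E).left
        (w_eq π _ _) = r.left ≫ E.ι := by
      apply pullback.hom_ext
      · rw [pullback.lift_fst, Over.comp_left, t_left, Category.assoc]
      · rw [pullback.lift_snd, Over.comp_left, s_left, Category.assoc]
    rw [e1]
    exact in_ι _
  · intro h
    obtain ⟨r, hr⟩ := in_iff_exists_lift.1 h
    have hr1 : r ≫ E.ι ≫ pullback.fst π π = a.left := by
      rw [← Category.assoc, hr, pullback.lift_fst]
    have hr2 : r ≫ E.ι ≫ pullback.snd π π = b.left := by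
      rw [← Category.assoc, hr, pullback.lift_snd]
    refine ⟨Over.homMk r ?_, ?_, ?_⟩
    · show r ≫ E.ι ≫ pullback.fst π π ≫ π = T.hom
      rw [← Category.assoc E.ι, ← Category.assoc r, hr1]
      exact Over.w a
    · ext
      exact hr1
    · ext
      exact hr2

end Quot

open _root_.Groth.Agent.Lib.H5bEL.Quot in
/-- **the quotient of an affine scheme by a closed étale equivalence relation**. -/
theorem exists_quotient {W U : Scheme.{u}} (π : W ⟶ U) [IsAffine W] [IsAffine U] [Etale π]
    (E : (pullback π π).Opens) (hE : IsClosed (E : Set ↑(pullback π π)))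
    (hrefl : In E (pullback.diagonal π))
    (hsymm : ∀ {T : Scheme.{u}} (a b : T ⟶ W) (h : a ≫ π = b ≫ π),
      In E (pullback.lift a b h) → In E (pullback.lift b a h.symm))
    (htrans : ∀ {T : Scheme.{u}} (a b c : T ⟶ W) (h : a ≫ π = b ≫ π) (h' : b ≫ π = c ≫ π),
      In E (pullback.lift a b h) → In E (pullback.lift b c h') →
        In E (pullback.lift a c (h.trans h'))) :
    ∃ (ℋ : Scheme.{u}) (q : W ⟶ ℋ) (p : ℋ ⟶ U), Etale q ∧ Surjective q ∧ Etale p ∧ q ≫ p = π ∧
      ∀ {T : Scheme.{u}} (a b : T ⟶ W), a ≫ q = b ≫ q ↔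
        ∃ h : a ≫ π = b ≫ π, In E (pullback.lift a b h) := by
  have hinj : ∀ (T : Over U) (r r' : T ⟶ Eo π E), r ≫ t π E = r' ≫ t π E →
      r ≫ s π E = r' ≫ s π E → r = r' := by
    intro T r r' h1 h2
    ext
    rw [← cancel_mono E.ι]
    apply pullback.hom_ext
    · have := congrArg (fun m => m.left) h1
      simpa only [Over.comp_left, t_left, Category.assoc] using this
    · have := congrArg (fun m => m.left) h2
      simpa only [Over.comp_left, s_left, Category.assoc] using this
  have heq : AlgSp.IsEtaleEqvRel (s π E) (t π E) :=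
    { injective := hinj
      equivalence := fun T =>
        { refl := fun a => by
            rw [rel_iff]
            have e1 : pullback.lift a.left a.left (w_eq π a a) =
                a.left ≫ pullback.diagonal π := by
              apply pullback.hom_ext
              · rw [pullback.lift_fst, Category.assoc, pullback.diagonal_fst, Category.comp_id]
              · rw [pullback.lift_snd, Category.assoc, pullback.diagonal_snd, Category.comp_id]
            rw [e1]
            exact hrefl.precomp _
          symm := fun {a b} h => by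
            rw [rel_iff] at h ⊢
            exact hsymm _ _ _ h
          trans := fun {a b c} h h' => by
            rw [rel_iff] at h h' ⊢
            exact htrans _ _ _ _ _ h h' }
      etale_left := by
        rw [s_left]
        infer_instance
      etale_right := by
        rw [t_left]
        infer_instance }
  have hq := Groth.Agent.S9868.result U (s π E) (t π E) heq
  have hpres := Groth.Agent.S9869.result U (s π E) (t π E) heq hq
  obtain ⟨a, ha⟩ : ∃ a : (AlgSp.yon U).obj (Wo π) ⟶ QuotSh.quot Scheme.fppfPrecoverage (s π E) (t π E),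
      a = (QuotSh.repIsoUliftYoneda Scheme.fppfPrecoverage (Wo π)).inv ≫
        QuotSh.quotπ Scheme.fppfPrecoverage (s π E) (t π E) := ⟨_, rfl⟩
  rw [← ha] at hpres
  haveI : Epi a := by
    rw [ha]
    haveI : Epi (QuotSh.quotπ Scheme.fppfPrecoverage (s π E) (t π E)) := coequalizer.π_epi
    infer_instance
  -- the terminal object of `Over U`
  let To : Over U := Over.mk (𝟙 U)
  let h : Wo π ⟶ To := Over.homMk π (Category.comp_id _)
  haveI : IsAffine (Wo π).left := inferInstanceAs (IsAffine W)
  haveI : IsAffine To.left := inferInstanceAs (IsAffine U)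
  haveI : Etale (s π E).left := heq.etale_left
  haveI : Etale (t π E).left := heq.etale_right
  haveI : Etale h.left := inferInstanceAs (Etale π)
  haveI : LocallyQuasiFinite h.left :=
    Groth.Agent.Lib.Helper8EtLocIrr.locallyQuasiFinite_of_etale _
  have hts : (t π E).left ≫ h.left = (s π E).left ≫ h.left := by
    show (E.ι ≫ pullback.fst π π) ≫ π = (E.ι ≫ pullback.snd π π) ≫ π
    rw [Category.assoc, Category.assoc, pullback.condition]
  have hEcl : IsClosedImmersion E.ι := by
    refine IsClosedImmersion.of_isPreimmersion _ ?_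
    rw [Scheme.Opens.range_ι]
    exact hE
  have hj : IsClosedImmersion (pullback.lift (t π E).left (s π E).left hts) := by
    have e1 : pullback.lift (t π E).left (s π E).left hts = E.ι := by
      apply pullback.hom_ext
      · rw [pullback.lift_fst]; rfl
      · rw [pullback.lift_snd]; rfl
    rw [e1]
    exact hEcl
  obtain ⟨V, ⟨e⟩⟩ := Groth.Agent.Lib.H5bLqf.representable_of_affine_chart h hts hj hpres.isPullback
  -- the quotient map
  obtain ⟨q, hq'⟩ : ∃ q : Wo π ⟶ V, (AlgSp.yon U).map q = a ≫ e.inv :=
    ⟨(AlgSp.yon U).preimage (a ≫ e.inv), Functor.map_preimage _ _⟩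
  have hkp : IsPullback ((AlgSp.yon U).map (t π E)) ((AlgSp.yon U).map (s π E))
      ((AlgSp.yon U).map q) ((AlgSp.yon U).map q) := by
    rw [hq']
    exact Groth.Agent.Lib.H5bLqf.isPullback_comp_mono hpres.isPullback e.inv
  have hkp' : IsPullback (t π E) (s π E) q q := IsPullback.of_map (AlgSp.yon U)
    (by
      apply (AlgSp.yon U).map_injective
      rw [Functor.map_comp, Functor.map_comp, hkp.w]) hkp
  have hqe : Etale q.left := by
    have h1 : AlgSp.RepWith @Etale ((AlgSp.yon U).map q) := by
      rw [hq']
      exact MorphismProperty.RespectsIso.postcomp _ _ _ hpres.etale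
    exact (AlgSp.repWith_yon_map_iff _ _).1 h1
  have hqs : Surjective q.left := by
    have h1 : AlgSp.RepWith @Surjective ((AlgSp.yon U).map q) := by
      rw [hq']
      exact MorphismProperty.RespectsIso.postcomp _ _ _ hpres.surjective
    exact (AlgSp.repWith_yon_map_iff _ _).1 h1
  have hqp : q.left ≫ V.hom = π := Over.w q
  haveI : Etale (q.left ≫ V.hom) := by rw [hqp]; infer_instance
  refine ⟨V.left, q.left, V.hom, hqe, hqs,
    Groth.Agent.Lib.Helper12.EtSrc.etale_of_etale_cover_source q.left V.hom, hqp, ?_⟩
  intro T a' b'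
  constructor
  · intro hab
    have hπ : a' ≫ π = b' ≫ π := by
      rw [← hqp, ← Category.assoc, hab, Category.assoc]
    refine ⟨hπ, ?_⟩
    let To' : Over U := Over.mk (a' ≫ π)
    let ao : To' ⟶ Wo π := Over.homMk a' rfl
    let bo : To' ⟶ Wo π := Over.homMk b' hπ.symm
    have hab' : ao ≫ q = bo ≫ q := by
      ext
      exact hab
    have h1 := (rel_iff π E To' ao bo).1
      ⟨hkp'.lift ao bo hab', hkp'.lift_fst _ _ _, hkp'.lift_snd _ _ _⟩
    exact h1
  · rintro ⟨hπ, hin⟩
    let To' : Over U := Over.mk (a' ≫ π)
    let ao : To' ⟶ Wo π := Over.homMk a' rfl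
    let bo : To' ⟶ Wo π := Over.homMk b' hπ.symm
    obtain ⟨r, hr1, hr2⟩ := (rel_iff π E To' ao bo).2 hin
    have h1 : ao ≫ q = bo ≫ q := by
      rw [← hr1, ← hr2, Category.assoc, Category.assoc, hkp'.w]
    exact congrArg (fun m => m.left) h1

end Groth.Agent.Lib.H5bEL
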