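import Mathlib
import Groth.Agent.Lib.H5bELStab

/-!
# Base change of a family of open pieces along `ρ : W' ⟶ W` (helper5)

`κ ρ : E(ρ ≫ π) ⟶ E(π)`, `pull ρ 𝒵 = κ⁻¹ 𝒵`; `Rel`/`SRel` for `pull ρ 𝒵` are `Rel`/`SRel` for `𝒵` at
the composed points; `pull ρ 𝒵 ⟶ W'` is the base change of `𝒵 ⟶ W`.
-/

set_option autoImplicit false
set_option linter.unusedSectionVars false
set_option linter.style.haveILetI false
universe u

open CategoryTheory CategoryTheory.Limits AlgebraicGeometry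
open Groth.Agent.Lib.Helper2.Grpd

namespace Groth.Agent.Lib.H5bEL

variable {S : Scheme.{u}} {G : Grpd.GroupoidScheme S} {W W' : Scheme.{u}} {π : W ⟶ G.U}
  (ρ : W' ⟶ W) {T : Scheme.{u}}

/-- `E(ρ ≫ π) ⟶ E(π)`. -/
noncomputable def κ : Fib.E G (ρ ≫ π) ⟶ Fib.E G π :=
  Fib.mk (Fib.pE G (ρ ≫ π) ≫ ρ) (Fib.hE G (ρ ≫ π)) (by rw [Category.assoc, Fib.pE_π])

@[reassoc] lemma κ_pE : κ (π := π) ρ ≫ Fib.pE G π = Fib.pE G (ρ ≫ π) ≫ ρ := Fib.mk_pE _ _ _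
@[reassoc] lemma κ_hE : κ (π := π) ρ ≫ Fib.hE G π = Fib.hE G (ρ ≫ π) := Fib.mk_hE _ _ _

lemma mk_κ (x : T ⟶ W') (h : T ⟶ G.R) (hx : x ≫ ρ ≫ π = h ≫ G.s) :
    Fib.mk x h hx ≫ κ (π := π) ρ = Fib.mk (x ≫ ρ) h ((Category.assoc _ _ _).trans hx) := by
  apply Fib.hom_ext
  · rw [Category.assoc, κ_pE, Fib.mk_pE_assoc, Fib.mk_pE]
  · rw [Category.assoc, κ_hE, Fib.mk_hE, Fib.mk_hE]

theorem isPullback_κ : IsPullback (κ (π := π) ρ) (Fib.pE G (ρ ≫ π)) (Fib.pE G π) ρ := by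
  refine IsPullback.of_isLimit' ⟨κ_pE ρ⟩
    (PullbackCone.IsLimit.mk _
      (fun c => Fib.mk c.snd (c.fst ≫ Fib.hE G π) (by
        rw [← Category.assoc, ← c.condition, Category.assoc, Fib.pE_π, Category.assoc])) ?_ ?_ ?_)
  · intro c
    apply Fib.hom_ext
    · rw [Category.assoc, κ_pE, Fib.mk_pE_assoc, c.condition]
    · rw [Category.assoc, κ_hE, Fib.mk_hE]
  · intro c
    exact Fib.mk_pE _ _ _
  · intro c m h1 h2
    apply Fib.hom_ext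
    · rw [Fib.mk_pE, h2]
    · rw [Fib.mk_hE, ← h1, Category.assoc, κ_hE]

variable (𝒵 : (Fib.E G π).Opens)

/-- the base change of `𝒵`. -/
noncomputable def pull : (Fib.E G (ρ ≫ π)).Opens := κ (π := π) ρ ⁻¹ᵁ 𝒵

lemma in_pull_iff (a : T ⟶ Fib.E G (ρ ≫ π)) : In (pull ρ 𝒵) a ↔ In 𝒵 (a ≫ κ ρ) := in_preimage

lemma in_pull_mk_iff (x : T ⟶ W') (h : T ⟶ G.R) (hx : x ≫ ρ ≫ π = h ≫ G.s) :
    In (pull ρ 𝒵) (Fib.mk x h hx) ↔ In 𝒵 (Fib.mk (x ≫ ρ) h ((Category.assoc _ _ _).trans hx)) := by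
  rw [in_pull_iff, mk_κ]

lemma mem_pull_iff (ζ : Fib.E G (ρ ≫ π)) : ζ ∈ pull ρ 𝒵 ↔ κ (π := π) ρ ζ ∈ 𝒵 := Iff.rfl

lemma isClosed_pull (h : IsClosed (𝒵 : Set (Fib.E G π))) :
    IsClosed (pull ρ 𝒵 : Set (Fib.E G (ρ ≫ π))) := h.preimage (κ ρ).continuous

theorem rel_pull_iff (x y : T ⟶ W') (g : T ⟶ G.R) (hs : g ≫ G.s = x ≫ ρ ≫ π)
    (ht : g ≫ G.t = y ≫ ρ ≫ π) :
    Rel (pull ρ 𝒵) x y g hs ht ↔ Rel 𝒵 (x ≫ ρ) (y ≫ ρ) g (hs.trans (Category.assoc _ _ _).symm)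
      (ht.trans (Category.assoc _ _ _).symm) := by
  constructor
  · intro h T' l k hk hin
    have hk' : k ≫ G.s = l ≫ y ≫ ρ ≫ π := by rw [hk]; simp only [Category.assoc]
    have h1 := h T' l k hk' (by
      rw [in_pull_mk_iff]
      refine (in_congr (Fib.mk_congr _ ?_ rfl)).1 hin
      simp only [Category.assoc])
    unfold act at h1 ⊢
    rw [in_pull_mk_iff] at h1
    refine (in_congr (Fib.mk_congr _ ?_ rfl)).1 h1
    simp only [Category.assoc]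
  · intro h T' l k hk hin
    have hk' : k ≫ G.s = l ≫ (y ≫ ρ) ≫ π := by rw [hk]; simp only [Category.assoc]
    rw [in_pull_mk_iff] at hin
    have h1 := h T' l k hk' (by
      refine (in_congr (Fib.mk_congr _ ?_ rfl)).1 hin
      simp only [Category.assoc])
    unfold act at h1 ⊢
    rw [in_pull_mk_iff]
    refine (in_congr (Fib.mk_congr _ ?_ rfl)).1 h1
    simp only [Category.assoc]

theorem srel_pull_iff (x y : T ⟶ W') (g : T ⟶ G.R) (hs : g ≫ G.s = x ≫ ρ ≫ π)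
    (ht : g ≫ G.t = y ≫ ρ ≫ π) :
    SRel (pull ρ 𝒵) x y g hs ht ↔ SRel 𝒵 (x ≫ ρ) (y ≫ ρ) g (hs.trans (Category.assoc _ _ _).symm)
      (ht.trans (Category.assoc _ _ _).symm) := by
  unfold SRel
  rw [rel_pull_iff, rel_pull_iff]

/-- `pull ρ 𝒵 ⟶ 𝒵`. -/
noncomputable def pullMap : (pull ρ 𝒵).toScheme ⟶ 𝒵.toScheme := κ (π := π) ρ ∣_ 𝒵

theorem isPullback_pull :
    IsPullback (pullMap ρ 𝒵) ((pull ρ 𝒵).ι ≫ Fib.pE G (ρ ≫ π)) (𝒵.ι ≫ Fib.pE G π) ρ :=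
  (isPullback_morphismRestrict (κ (π := π) ρ) 𝒵).paste_vert (isPullback_κ ρ)

@[reassoc] lemma pullMap_ι : pullMap ρ 𝒵 ≫ 𝒵.ι = (pull ρ 𝒵).ι ≫ κ ρ :=
  (isPullback_morphismRestrict (κ (π := π) ρ) 𝒵).w

lemma isFinite_pull [IsFinite (𝒵.ι ≫ Fib.pE G π)] :
    IsFinite ((pull ρ 𝒵).ι ≫ Fib.pE G (ρ ≫ π)) :=
  MorphismProperty.of_isPullback (P := @IsFinite) (isPullback_pull ρ 𝒵) inferInstance

lemma flat_pull [Flat (𝒵.ι ≫ Fib.pE G π)] : Flat ((pull ρ 𝒵).ι ≫ Fib.pE G (ρ ≫ π)) :=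
  MorphismProperty.of_isPullback (P := @Flat) (isPullback_pull ρ 𝒵) inferInstance

lemma lofp_pull [LocallyOfFinitePresentation (𝒵.ι ≫ Fib.pE G π)] :
    LocallyOfFinitePresentation ((pull ρ 𝒵).ι ≫ Fib.pE G (ρ ≫ π)) :=
  MorphismProperty.of_isPullback (P := @LocallyOfFinitePresentation) (isPullback_pull ρ 𝒵)
    inferInstance

end Groth.Agent.Lib.H5bEL
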