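import Mathlib.AlgebraicGeometry.Morphisms.Finite
import Mathlib.AlgebraicGeometry.Morphisms.ClosedImmersion
import Mathlib.AlgebraicGeometry.Limits

/-! isFinite_of_isOpenImmersion_of_isClosed_range (open immersion with closed range is finite), isFinite_of_isCompl (g finite on two complementary open pieces ⇒ finite), range_morphismRestrict, isFinite_of_clopen_cover (finite cover by clopen pieces on which g is finite ⇒ g finite) (helper9). -/

set_option autoImplicit false
universe u

namespace Groth.Agent.Lib.H9QfFin1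

open AlgebraicGeometry CategoryTheory Limits

/-- An open immersion with closed range is finite. -/
theorem isFinite_of_isOpenImmersion_of_isClosed_range {P Z : Scheme.{u}} (h : P ⟶ Z)
    [IsOpenImmersion h] (hc : IsClosed (Set.range h)) : IsFinite h := by
  haveI : IsClosedImmersion h := .of_isPreimmersion h hc
  infer_instance

/-- If `Z` is the disjoint union of two open subschemes on which `g` is finite, `g` is finite. -/
theorem isFinite_of_isCompl {Z W : Scheme.{u}} (g : Z ⟶ W) {P Q : Scheme.{u}} (a : P ⟶ Z)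
    (b : Q ⟶ Z) [IsOpenImmersion a] [IsOpenImmersion b]
    (hc : IsCompl a.opensRange b.opensRange) (ha : IsFinite (a ≫ g)) (hb : IsFinite (b ≫ g)) :
    IsFinite g := by
  obtain ⟨hcolim⟩ := nonempty_isColimit_binaryCofanMk_of_isCompl a b hc
  let e : P ⨿ Q ≅ Z := (colimit.isColimit _).coconePointUniqueUpToIso hcolim
  have hl : coprod.inl ≫ e.hom = a :=
    (colimit.isColimit (pair P Q)).comp_coconePointUniqueUpToIso_hom hcolim ⟨WalkingPair.left⟩
  have hr : coprod.inr ≫ e.hom = b :=
    (colimit.isColimit (pair P Q)).comp_coconePointUniqueUpToIso_hom hcolim ⟨WalkingPair.right⟩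
  have h1 : e.hom ≫ g = coprod.desc (a ≫ g) (b ≫ g) := by
    apply coprod.hom_ext
    · rw [← Category.assoc, hl, coprod.inl_desc]
    · rw [← Category.assoc, hr, coprod.inr_desc]
  have h2 : g = e.inv ≫ coprod.desc (a ≫ g) (b ≫ g) := by rw [← h1]; simp
  rw [h2]
  infer_instance

theorem range_morphismRestrict {X Y : Scheme.{u}} (f : X ⟶ Y) (U : Y.Opens) :
    Set.range (f ∣_ U) = U.ι ⁻¹' (Set.range f) := by
  ext z
  constructor
  · rintro ⟨p, rfl⟩
    exact ⟨p.1, (morphismRestrict_base_coe f U p).symm⟩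
  · rintro ⟨p, hp⟩
    have hpU : p ∈ f ⁻¹ᵁ U := by
      show f p ∈ U
      rw [hp]; exact z.2
    refine ⟨⟨p, hpU⟩, Subtype.ext ?_⟩
    rw [morphismRestrict_base_coe]
    exact hp

/-- A scheme covered by finitely many clopen pieces, on each of which `g` is finite:
then `g` is finite. -/
theorem isFinite_of_clopen_cover_fin : ∀ (n : ℕ) {Z W : Scheme.{u}} (g : Z ⟶ W)
    (P : Fin n → Scheme.{u}) (h : ∀ i, P i ⟶ Z) [∀ i, IsOpenImmersion (h i)]
    (_ : ∀ i, IsClosed (Set.range (h i))) (_ : ∀ z : Z, ∃ i, z ∈ Set.range (h i))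
    (_ : ∀ i, IsFinite (h i ≫ g)), IsFinite g := by
  intro n
  induction n with
  | zero =>
    intro Z W g P h _ _ hcov _
    haveI : IsEmpty Z := ⟨fun z => (hcov z).choose.elim0⟩
    infer_instance
  | succ n ih =>
    intro Z W g P h _ hcl hcov hfin
    let D : Z.Opens := ⟨(Set.range (h 0))ᶜ, (hcl 0).isOpen_compl⟩
    have hcompl : IsCompl (h 0).opensRange D.ι.opensRange := by
      rw [Scheme.Opens.opensRange_ι]
      rw [isCompl_iff, disjoint_iff, codisjoint_iff]
      constructor
      · apply TopologicalSpace.Opens.ext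
        show Set.range (h 0) ∩ (Set.range (h 0))ᶜ = ∅
        exact Set.inter_compl_self _
      · apply TopologicalSpace.Opens.ext
        show Set.range (h 0) ∪ (Set.range (h 0))ᶜ = Set.univ
        exact Set.union_compl_self _
    refine isFinite_of_isCompl g (h 0) D.ι hcompl (hfin 0) ?_
    have hDcl : IsClosed (D : Set Z) := by
      show IsClosed (Set.range (h 0))ᶜ
      exact (h 0).isOpenEmbedding.isOpen_range.isClosed_compl
    refine ih (D.ι ≫ g) (fun i => ((h i.succ) ⁻¹ᵁ D : (P i.succ).Opens))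
      (fun i => (h i.succ) ∣_ D) ?_ ?_ ?_
    · intro i
      rw [range_morphismRestrict]
      exact (hcl i.succ).preimage D.ι.continuous
    · intro z
      obtain ⟨i, hi⟩ := hcov z.1
      have hi0 : i ≠ 0 := by
        rintro rfl
        exact z.2 hi
      obtain ⟨i', rfl⟩ := Fin.exists_succ_eq.mpr hi0
      refine ⟨i', ?_⟩
      rw [range_morphismRestrict]
      exact hi
    · intro i
      have : (h i.succ) ∣_ D ≫ D.ι ≫ g = ((h i.succ) ⁻¹ᵁ D).ι ≫ (h i.succ ≫ g) := by
        rw [← Category.assoc, morphismRestrict_ι, Category.assoc]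
      rw [this]
      have h2 : IsFinite ((h i.succ) ⁻¹ᵁ D).ι := by
        apply isFinite_of_isOpenImmersion_of_isClosed_range
        rw [Scheme.Opens.range_ι]
        exact hDcl.preimage (h i.succ).continuous
      exact MorphismProperty.comp_mem _ _ _ h2 (hfin i.succ)

theorem isFinite_of_clopen_cover {ι : Type*} [Finite ι] {Z W : Scheme.{u}} (g : Z ⟶ W)
    (P : ι → Scheme.{u}) (h : ∀ i, P i ⟶ Z) [∀ i, IsOpenImmersion (h i)]
    (hcl : ∀ i, IsClosed (Set.range (h i))) (hcov : ∀ z : Z, ∃ i, z ∈ Set.range (h i))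
    (hfin : ∀ i, IsFinite (h i ≫ g)) : IsFinite g := by
  obtain ⟨n, ⟨e⟩⟩ := Finite.exists_equiv_fin ι
  refine isFinite_of_clopen_cover_fin n g (fun i => P (e.symm i)) (fun i => h (e.symm i))
    (fun i => hcl _) ?_ (fun i => hfin _)
  intro z
  obtain ⟨i, hi⟩ := hcov z
  obtain ⟨j, rfl⟩ := e.symm.surjective i
  exact ⟨j, hi⟩

end Groth.Agent.Lib.H9QfFin1
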