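import Mathlib
import Groth.Agent.S1354
import Groth.Agent.Lib.Helper27QFinBC
import Groth.Agent.Lib.H9QfFin1

/-! Elementary étale neighbourhood splitting off the finite part containing all isolated points of a
fibre (S9762): `eq_of_fst_eq_of_snd_eq` (points of a fibre product with equal projections agree when
the residue field extension of the second factor is trivial), `main` (helper9). -/

set_option autoImplicit false
universe u

open AlgebraicGeometry CategoryTheory Limits

namespace Groth.Agent.Lib.H9EtSplit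

/-- Two points of a fibre product with the same projections coincide as soon as the residue field
extension of the second factor at the point is trivial. -/
theorem eq_of_fst_eq_of_snd_eq {X Y S : Scheme.{u}} (f : X ⟶ S) (g : Y ⟶ S)
    (a b : ↑(pullback f g)) (h1 : pullback.fst f g a = pullback.fst f g b)
    (h2 : pullback.snd f g a = pullback.snd f g b)
    (hbij : Function.Bijective (g.residueFieldMap (pullback.snd f g b))) : a = b := by
  apply Scheme.Pullback.carrierEquiv.injective
  rw [Scheme.Pullback.carrierEquiv_eq_iff]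
  refine ⟨Scheme.Pullback.Triplet.ext h1 h2, ?_⟩
  set T := Scheme.Pullback.Triplet.ofPoint b with hT
  haveI h0 : IsIso (g.residueFieldMap T.y) := (ConcreteCategory.isIso_iff_bijective _).mpr hbij
  haveI : IsIso ((S.residueFieldCongr T.hy).inv ≫ g.residueFieldMap T.y) := inferInstance
  haveI : IsIso T.tensorInl :=
    (IsPushout.of_hasPushout ((S.residueFieldCongr T.hx).inv ≫ f.residueFieldMap T.x)
      ((S.residueFieldCongr T.hy).inv ≫ g.residueFieldMap T.y)).isIso_inl_of_isIso
  let e : X.residueField T.x ≃+* T.tensor := (asIso T.tensorInl).commRingCatIsoToRingEquiv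
  haveI : Subsingleton (PrimeSpectrum T.tensor) :=
    (PrimeSpectrum.comapEquiv e).symm.toEquiv.subsingleton
  exact Subsingleton.elim (α := PrimeSpectrum T.tensor) _ _

theorem main {X S : Scheme.{u}} (f : X ⟶ S) [LocallyOfFiniteType f] [IsSeparated f] (s : S)
    (hfin : {x : ↑(f.fiber s) | IsOpen ({x} : Set ↑(f.fiber s))}.Finite) :
    ∃ (U : Scheme.{u}) (g : U ⟶ S) (u : U), Hens2.IsEtaleNbhd g u s ∧
      ∃ V : (pullback f g).Opens, IsClopen (V : Set ↑(pullback f g)) ∧
        IsFinite (V.ι ≫ pullback.snd f g) ∧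
        ∀ w : ↑((pullback.snd f g).fiber u), (pullback.snd f g).fiberι u w ∉ V →
          ¬ IsOpen ({w} : Set ↑((pullback.snd f g).fiber u)) := by
  classical
  haveI : Finite {x : ↑(f.fiber s) | IsOpen ({x} : Set ↑(f.fiber s))} := hfin.to_subtype
  obtain ⟨n, ⟨e⟩⟩ := Finite.exists_equiv_fin {x : ↑(f.fiber s) | IsOpen ({x} : Set ↑(f.fiber s))}
  let x : Fin n → X := fun i => f.fiberι s (e.symm i).1
  have hs : ∀ i, f (x i) = s := fun i => (f.fiberHomeo s (e.symm i).1).2
  have hx : ∀ i, f.QuasiFiniteAt (x i) := fun i =>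
    (Groth.Agent.Lib.Helper27QFinBC.quasiFiniteAt_iff_fiber f _ s (hs i)).mpr
      ⟨(e.symm i).1, rfl, (e.symm i).2⟩
  obtain ⟨U, g, u, hnb, V, v, hV⟩ := Groth.Agent.S1354.result f s x hs hx
  haveI : Etale g := hnb.etale
  -- each `V i` is closed
  have hcl : ∀ i, IsClosed ((V i : (pullback f g).Opens) : Set ↑(pullback f g)) := by
    intro i
    haveI : IsFinite ((V i).ι ≫ pullback.snd f g) := (hV i).2.1
    haveI : UniversallyClosed ((V i).ι) :=
      UniversallyClosed.of_comp_of_isSeparated (V i).ι (pullback.snd f g)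
    have := (V i).ι.isClosedMap.isClosed_range
    rwa [Scheme.Opens.range_ι] at this
  refine ⟨U, g, u, hnb, ⨆ i, V i, ⟨?_, (⨆ i, V i).isOpen⟩, ?_, ?_⟩
  · have : ((⨆ i, V i : (pullback f g).Opens) : Set ↑(pullback f g)) = ⋃ i, (V i : Set _) := by
      simp
    rw [this]
    exact isClosed_iUnion_of_finite hcl
  · refine Groth.Agent.Lib.H9QfFin1.isFinite_of_clopen_cover (ι := Fin n)
      ((⨆ i, V i).ι ≫ pullback.snd f g) (fun i => (V i).toScheme)
      (fun i => (pullback f g).homOfLE (le_iSup V i)) ?_ ?_ ?_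
    · intro i
      have h1 : Set.range ((pullback f g).homOfLE (le_iSup V i)) =
          (⨆ i, V i).ι ⁻¹' (V i : Set _) := by
        have := congrArg (fun W : (⨆ i, V i).toScheme.Opens => W.1)
          (Scheme.opensRange_homOfLE (X := pullback f g) (le_iSup V i))
        exact this
      rw [h1]
      exact (hcl i).preimage (⨆ i, V i).ι.continuous
    · intro z
      have hz : z.1 ∈ ⨆ i, V i := z.2
      rw [TopologicalSpace.Opens.mem_iSup] at hz
      obtain ⟨i, hi⟩ := hz
      refine ⟨i, ⟨⟨z.1, hi⟩, ?_⟩⟩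
      apply Subtype.ext
      simp
    · intro i
      rw [← Category.assoc, Scheme.homOfLE_ι]
      exact (hV i).2.1
  · intro w hw hopen
    apply hw
    set w' := (pullback.snd f g).fiberι u w with hw'
    have hsnd : pullback.snd f g w' = u := ((pullback.snd f g).fiberHomeo u w).2
    have hqf : (pullback.snd f g).QuasiFiniteAt w' :=
      (Groth.Agent.Lib.Helper27QFinBC.quasiFiniteAt_iff_fiber (pullback.snd f g) w' u hsnd).mpr
        ⟨w, rfl, hopen⟩
    have hqf' : f.QuasiFiniteAt (pullback.fst f g w') := by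
      have := Groth.Agent.Lib.Helper27QFinBC.main f g (pullback.fst f g) (pullback.snd f g)
        (IsPullback.of_hasPullback f g)
      have h2 : w' ∈ {x' : ↑(pullback f g) | (pullback.snd f g).QuasiFiniteAt x'} := hqf
      rw [this] at h2
      exact h2
    have hfs : f (pullback.fst f g w') = s := by
      rw [← Scheme.Hom.comp_apply, pullback.condition, Scheme.Hom.comp_apply, hsnd, hnb.base_eq]
    obtain ⟨z, hz, hzopen⟩ :=
      (Groth.Agent.Lib.Helper27QFinBC.quasiFiniteAt_iff_fiber f _ s hfs).mp hqf'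
    obtain ⟨i, hi⟩ : ∃ i, (e.symm i).1 = z := ⟨e ⟨z, hzopen⟩, by simp⟩
    have hxi : x i = pullback.fst f g w' := by rw [← hz, ← hi]
    -- `w' = v i`
    have : w' = v i := by
      refine eq_of_fst_eq_of_snd_eq f g w' (v i) ?_ ?_ ?_
      · rw [(hV i).2.2.2.2.1, hxi]
      · rw [hsnd, (hV i).2.2.1]
      · rw [(hV i).2.2.1]
        exact hnb.residue_bijective
    rw [this]
    exact TopologicalSpace.Opens.mem_iSup.mpr ⟨i, (hV i).1⟩

end Groth.Agent.Lib.H9EtSplit
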