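import Mathlib
import Groth.Agent.Lib.H5bELPull
import Groth.Agent.Lib.H9EtSplit

/-!
# Charts of the functor of open-closed finite pieces of source fibres (helper5)

`Chart G u Z0`: an étale neighbourhood `(W, w) ⟶ (G.U, u)` with trivial residue field extension and
an open-closed `𝒵 ⊆ E = W ×_{U, s} R`, finite over `W`, containing the identity section, whose points
over `w` are exactly the points over `Z0`.  `exists_chart` produces an affine chart from étale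
localisation of quasi-finite morphisms (`S1354`), `Chart.pull` base changes a chart.
-/

set_option autoImplicit false
set_option linter.unusedSectionVars false
set_option linter.style.haveILetI false
universe u

open CategoryTheory CategoryTheory.Limits AlgebraicGeometry
open Groth.Agent.Lib.Helper2.Grpd

namespace Groth.Agent.Lib.H5bEL

variable {S : Scheme.{u}} (G : Grpd.GroupoidScheme S)

/-- a chart at `u` for the finite set `Z0` of arrows out of `u`, without the identity section. -/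
structure PreChart (u : G.U) (Z0 : Set G.R) where
  W : Scheme.{u}
  π : W ⟶ G.U
  w : W
  𝒵 : (Fib.E G π).Opens
  etale : Etale π
  hw : π w = u
  res : IsIso (π.residueFieldMap w)
  closed : IsClosed (𝒵 : Set (Fib.E G π))
  fin : IsFinite (𝒵.ι ≫ Fib.pE G π)
  fibre : ∀ ζ : Fib.E G π, Fib.pE G π ζ = w → (ζ ∈ 𝒵 ↔ Fib.hE G π ζ ∈ Z0)

/-- a chart at `u` for the finite set `Z0` of arrows out of `u`. -/
structure Chart (u : G.U) (Z0 : Set G.R) extends PreChart G u Z0 where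
  unit : ∀ {T : Scheme.{u}} (y : T ⟶ W), In 𝒵 (Fib.mk y (y ≫ π ≫ G.e)
    (by rw [Category.assoc, Category.assoc, G.e_s, Category.comp_id]))

variable {G}

/-- the data of a chart without the identity section. -/
theorem exists_chart₀ [LocallyOfFiniteType G.s] [IsSeparated G.s] (u : G.U) (Z0 : Set G.R)
    (hfin : Z0.Finite) (hZ0 : ∀ z ∈ Z0, G.s z = u ∧ G.s.QuasiFiniteAt z) :
    ∃ (W : Scheme.{u}) (π : W ⟶ G.U) (w : W) (𝒵 : (Fib.E G π).Opens), Etale π ∧ π w = u ∧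
      IsIso (π.residueFieldMap w) ∧ IsClosed (𝒵 : Set (Fib.E G π)) ∧
      IsFinite (𝒵.ι ≫ Fib.pE G π) ∧
      ∀ ζ : Fib.E G π, Fib.pE G π ζ = w → (ζ ∈ 𝒵 ↔ Fib.hE G π ζ ∈ Z0) := by
  classical
  haveI : Finite Z0 := hfin.to_subtype
  obtain ⟨n, ⟨e⟩⟩ := Finite.exists_equiv_fin Z0
  let x : Fin n → G.R := fun i => (e.symm i).1
  have hs : ∀ i, G.s (x i) = u := fun i => (hZ0 _ (e.symm i).2).1
  have hx : ∀ i, G.s.QuasiFiniteAt (x i) := fun i => (hZ0 _ (e.symm i).2).2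
  obtain ⟨W, π, w, hnb, V, v, hV⟩ := Groth.Agent.S1354.result G.s u x hs hx
  haveI : Etale π := hnb.etale
  have hcl : ∀ i, IsClosed ((V i : (pullback G.s π).Opens) : Set ↑(pullback G.s π)) := by
    intro i
    haveI : IsFinite ((V i).ι ≫ pullback.snd G.s π) := (hV i).2.1
    haveI : UniversallyClosed ((V i).ι) :=
      UniversallyClosed.of_comp_of_isSeparated (V i).ι (pullback.snd G.s π)
    have := (V i).ι.isClosedMap.isClosed_range
    rwa [Scheme.Opens.range_ι] at this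
  obtain ⟨𝒱, h𝒱⟩ : ∃ 𝒱 : (pullback G.s π).Opens, 𝒱 = ⨆ i, V i := ⟨_, rfl⟩
  have h𝒱cl : IsClosed (𝒱 : Set ↑(pullback G.s π)) := by
    have : ((⨆ i, V i : (pullback G.s π).Opens) : Set ↑(pullback G.s π)) =
        ⋃ i, (V i : Set _) := by simp
    rw [h𝒱, this]
    exact isClosed_iUnion_of_finite hcl
  have h𝒱fin : IsFinite (𝒱.ι ≫ pullback.snd G.s π) := by
    rw [h𝒱]
    refine Groth.Agent.Lib.H9QfFin1.isFinite_of_clopen_cover (ι := Fin n)
      ((⨆ i, V i).ι ≫ pullback.snd G.s π) (fun i => (V i).toScheme)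
      (fun i => (pullback G.s π).homOfLE (le_iSup V i)) ?_ ?_ ?_
    · intro i
      have h1 : Set.range ((pullback G.s π).homOfLE (le_iSup V i)) =
          (⨆ i, V i).ι ⁻¹' (V i : Set _) := by
        have := congrArg (fun W : (⨆ i, V i).toScheme.Opens => W.1)
          (Scheme.opensRange_homOfLE (X := pullback G.s π) (le_iSup V i))
        exact this
      rw [h1]
      exact (hcl i).preimage (⨆ i, V i).ι.continuous
    · intro z
      have hz : z.1 ∈ ⨆ i, V i := z.2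
      rw [TopologicalSpace.Opens.mem_iSup] at hz
      obtain ⟨i, hi⟩ := hz
      refine ⟨i, ⟨⟨z.1, hi⟩, ?_⟩⟩
      apply Subtype.ext
      simp
    · intro i
      rw [← Category.assoc, Scheme.homOfLE_ι]
      exact (hV i).2.1
  obtain ⟨σ, hσ⟩ : ∃ σ : pullback π G.s ⟶ pullback G.s π, σ = (pullbackSymmetry π G.s).hom :=
    ⟨_, rfl⟩
  haveI : IsIso σ := by rw [hσ]; infer_instance
  have hσ1 : σ ≫ pullback.fst G.s π = pullback.snd π G.s := by
    rw [hσ]; exact pullbackSymmetry_hom_comp_fst π G.s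
  have hσ2 : σ ≫ pullback.snd G.s π = pullback.fst π G.s := by
    rw [hσ]; exact pullbackSymmetry_hom_comp_snd π G.s
  refine ⟨W, π, w, σ ⁻¹ᵁ 𝒱, inferInstance, hnb.base_eq,
    (ConcreteCategory.isIso_iff_bijective _).mpr hnb.residue_bijective,
    h𝒱cl.preimage σ.continuous, ?_, ?_⟩
  · have e1 : (σ ⁻¹ᵁ 𝒱).ι ≫ Fib.pE G π = (σ ∣_ 𝒱) ≫ 𝒱.ι ≫ pullback.snd G.s π := by
      rw [← Category.assoc, morphismRestrict_ι, Category.assoc, hσ2]
      rfl
    rw [e1]
    infer_instance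
  · intro ζ hζ
    have hσζ1 : pullback.fst G.s π (σ ζ) = Fib.hE G π ζ := by
      rw [← Scheme.Hom.comp_apply, hσ1]; rfl
    have hσζ2 : pullback.snd G.s π (σ ζ) = w := by
      rw [← Scheme.Hom.comp_apply, hσ2]; exact hζ
    change σ ζ ∈ 𝒱 ↔ _
    rw [h𝒱, TopologicalSpace.Opens.mem_iSup]
    constructor
    · rintro ⟨i, hi⟩
      have h1 := (hV i).2.2.2.1 _ hi hσζ2
      rw [← hσζ1, h1, (hV i).2.2.2.2.1]
      exact (e.symm i).2
    · intro hz
      refine ⟨e ⟨_, hz⟩, ?_⟩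
      have hxi : x (e ⟨_, hz⟩) = Fib.hE G π ζ := by simp [x]
      have : σ ζ = v (e ⟨_, hz⟩) := by
        refine Groth.Agent.Lib.H9EtSplit.eq_of_fst_eq_of_snd_eq G.s π _ _ ?_ ?_ ?_
        · rw [(hV _).2.2.2.2.1, hxi, hσζ1]
        · rw [hσζ2, (hV _).2.2.1]
        · rw [(hV _).2.2.1]
          exact hnb.residue_bijective
      rw [this]
      exact (hV _).1

variable {u : G.U} {Z0 : Set G.R}

/-- base change of a pre-chart along an étale `ρ` with a marked point. -/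
noncomputable def PreChart.pull (C : PreChart G u Z0) {W' : Scheme.{u}} (ρ : W' ⟶ C.W) [Etale ρ]
    (w' : W') (hw' : ρ w' = C.w) (hres : IsIso (ρ.residueFieldMap w')) : PreChart G u Z0 where
  W := W'
  π := ρ ≫ C.π
  w := w'
  𝒵 := H5bEL.pull ρ C.𝒵
  etale := haveI := C.etale; inferInstance
  hw := by rw [Scheme.Hom.comp_apply, hw', C.hw]
  res := by
    haveI : IsIso (C.π.residueFieldMap (ρ w')) := by
      rw [hw']
      exact C.res
    rw [Scheme.residueFieldMap_comp]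
    exact @IsIso.comp_isIso _ _ _ _ _ _ _ this hres
  closed := isClosed_pull ρ C.𝒵 C.closed
  fin := haveI := C.fin; isFinite_pull ρ C.𝒵
  fibre := fun ζ hζ => by
    rw [mem_pull_iff, C.fibre (κ ρ ζ) (by
      rw [← Scheme.Hom.comp_apply, κ_pE, Scheme.Hom.comp_apply, hζ, hw'])]
    rw [← Scheme.Hom.comp_apply, κ_hE]

/-- base change of a chart along an étale `ρ` with a marked point. -/
noncomputable def Chart.pull (C : Chart G u Z0) {W' : Scheme.{u}} (ρ : W' ⟶ C.W) [Etale ρ]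
    (w' : W') (hw' : ρ w' = C.w) (hres : IsIso (ρ.residueFieldMap w')) : Chart G u Z0 where
  toPreChart := C.toPreChart.pull ρ w' hw' hres
  unit := fun {T} y => by
    show In (H5bEL.pull ρ C.𝒵) (Fib.mk (π := ρ ≫ C.π) y (y ≫ (ρ ≫ C.π) ≫ G.e) _)
    rw [in_pull_mk_iff]
    refine (in_congr (Fib.mk_congr _ rfl ?_)).1 (C.unit (y ≫ ρ))
    simp only [Category.assoc]

@[simp] lemma Chart.pull_W (C : Chart G u Z0) {W' : Scheme.{u}} (ρ : W' ⟶ C.W) [Etale ρ]
    (w' : W') (hw' : ρ w' = C.w) (hres : IsIso (ρ.residueFieldMap w')) :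
    (C.pull ρ w' hw' hres).W = W' := rfl

lemma Chart.pull_π (C : Chart G u Z0) {W' : Scheme.{u}} (ρ : W' ⟶ C.W) [Etale ρ]
    (w' : W') (hw' : ρ w' = C.w) (hres : IsIso (ρ.residueFieldMap w')) :
    (C.pull ρ w' hw' hres).π = ρ ≫ C.π := rfl

lemma Chart.pull_𝒵 (C : Chart G u Z0) {W' : Scheme.{u}} (ρ : W' ⟶ C.W) [Etale ρ]
    (w' : W') (hw' : ρ w' = C.w) (hres : IsIso (ρ.residueFieldMap w')) :
    (C.pull ρ w' hw' hres).𝒵 = H5bEL.pull ρ C.𝒵 := rfl

lemma Chart.pull_w (C : Chart G u Z0) {W' : Scheme.{u}} (ρ : W' ⟶ C.W) [Etale ρ]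
    (w' : W') (hw' : ρ w' = C.w) (hres : IsIso (ρ.residueFieldMap w')) :
    (C.pull ρ w' hw' hres).w = w' := rfl

/-- **existence of an affine chart**. -/
theorem exists_chart [LocallyOfFiniteType G.s] [IsSeparated G.s] (u : G.U) (Z0 : Set G.R)
    (hfin : Z0.Finite) (hZ0 : ∀ z ∈ Z0, G.s z = u ∧ G.s.QuasiFiniteAt z) (he : G.e u ∈ Z0) :
    ∃ C : Chart G u Z0, IsAffine C.W := by
  obtain ⟨W, π, w, 𝒵, h1, h2, h3, h4, h5, h6⟩ := exists_chart₀ u Z0 hfin hZ0
  let C₀ : PreChart G u Z0 := ⟨W, π, w, 𝒵, h1, h2, h3, h4, h5, h6⟩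
  -- the identity section
  obtain ⟨ε, hε1, hε2⟩ : ∃ ε : W ⟶ Fib.E G π, ε ≫ Fib.pE G π = 𝟙 W ∧
      ε ≫ Fib.hE G π = π ≫ G.e :=
    ⟨Fib.mk (𝟙 W) (π ≫ G.e) (by rw [Category.assoc, G.e_s, Category.comp_id, Category.id_comp]),
      Fib.mk_pE _ _ _, Fib.mk_hE _ _ _⟩
  have hwε : w ∈ ε ⁻¹ᵁ 𝒵 := by
    change ε w ∈ 𝒵
    rw [h6 (ε w) (by rw [← Scheme.Hom.comp_apply, hε1]; rfl)]
    rw [← Scheme.Hom.comp_apply, hε2, Scheme.Hom.comp_apply, h2]
    exact he
  obtain ⟨O, hO, hwO, hOε⟩ : ∃ O : W.Opens, IsAffineOpen O ∧ w ∈ O ∧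
      (O : Set W) ⊆ (ε ⁻¹ᵁ 𝒵 : W.Opens) := by
    obtain ⟨_, ⟨O, hO, rfl⟩, hwO, hOε⟩ := W.isBasis_affineOpens.exists_subset_of_mem_open hwε
      (ε ⁻¹ᵁ 𝒵).2
    exact ⟨O, hO, hwO, hOε⟩
  have hw' : O.ι (⟨w, hwO⟩ : O.toScheme) = w := rfl
  have hunit : ∀ {T : Scheme.{u}} (y : T ⟶ O.toScheme),
      In (H5bEL.pull O.ι 𝒵) (Fib.mk (π := O.ι ≫ π) y (y ≫ (O.ι ≫ π) ≫ G.e)
        (by simp only [Category.assoc, G.e_s, Category.comp_id])) := by
    intro T y
    rw [in_pull_mk_iff]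
    have e1 : Fib.mk (y ≫ O.ι) (y ≫ (O.ι ≫ π) ≫ G.e)
        ((Category.assoc _ _ _).trans (by
          simp only [Category.assoc, G.e_s, Category.comp_id])) =
        (y ≫ O.ι) ≫ ε := by
      apply Fib.hom_ext
      · rw [Fib.mk_pE, Category.assoc, hε1, Category.comp_id]
      · rw [Fib.mk_hE, Category.assoc (y ≫ O.ι) ε, hε2]
        simp only [Category.assoc]
    refine (in_congr e1).2 ?_
    rw [← in_preimage]
    intro τ
    apply hOε
    rw [Scheme.Hom.comp_apply]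
    exact (y τ).2
  exact ⟨⟨C₀.pull O.ι ⟨w, hwO⟩ hw' inferInstance, fun y => hunit y⟩, hO⟩

end Groth.Agent.Lib.H5bEL
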