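import Mathlib
import Groth.Agent.Lib.H5bELStab

/-!
# The stabiliser opens `A` and `P` (helper5)

For `𝒵` finite over `W`: `Stab.A` is the open of arrows `b` of `res G π` with `𝒵(t b) · b ⊆ 𝒵(s b)`
(`in_A_iff`), `Stab.P = A ∩ i⁻¹ A` the open of arrows with `𝒵(t b) · b = 𝒵(s b)` (`in_P_iff`); both
are closed if `𝒵` is closed and flat, locally of finite presentation over `W`.  `P` contains the
identities and is stable under inverse and composition.
-/

set_option autoImplicit false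
set_option linter.unusedSectionVars false
set_option linter.style.haveILetI false
universe u

open CategoryTheory CategoryTheory.Limits AlgebraicGeometry
open Groth.Agent.Lib.Helper2.Grpd Groth.Agent.Lib.H5bGrpdPts

namespace Groth.Agent.Lib.H5bEL

variable {S : Scheme.{u}} (G : Grpd.GroupoidScheme S) {W : Scheme.{u}} (π : W ⟶ G.U)

namespace Stab

variable (𝒵 : (Fib.E G π).Opens)

/-- pairs `(b, v)`: an arrow `b` of the restriction and a point `v` of `𝒵` over the target of `b`. -/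
noncomputable abbrev Q : Scheme.{u} := pullback (Res.t G π) (𝒵.ι ≫ Fib.pE G π)

lemma Q_cond :
    (pullback.snd (Res.t G π) (𝒵.ι ≫ Fib.pE G π) ≫ 𝒵.ι ≫ Fib.hE G π) ≫ G.s =
      (pullback.fst (Res.t G π) (𝒵.ι ≫ Fib.pE G π) ≫ Res.fR G π) ≫ G.t := by
  rw [Category.assoc, Category.assoc, ← Fib.pE_π, Category.assoc, Res.fR_t,
    ← Category.assoc (pullback.fst _ _), pullback.condition]
  simp only [Category.assoc]

/-- `(b, v) ↦ (s b, h_v ∘ g_b)`. -/
noncomputable def mV : Q G π 𝒵 ⟶ Fib.E G π :=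
  act (pullback.fst _ _ ≫ Res.s G π) (pullback.fst _ _ ≫ Res.fR G π)
    (by rw [Category.assoc, Res.fR_s, Category.assoc])
    (pullback.snd _ _ ≫ 𝒵.ι ≫ Fib.hE G π) (Q_cond G π 𝒵)

variable [IsFinite (𝒵.ι ≫ Fib.pE G π)]

/-- the open locus of arrows `b` with `𝒵(t b) · b ⊆ 𝒵(s b)`. -/
noncomputable def A : (Res.R G π).Opens :=
  ⟨(pullback.fst (Res.t G π) (𝒵.ι ≫ Fib.pE G π) '' (mV G π 𝒵 ⁻¹' (𝒵 : Set (Fib.E G π))ᶜ))ᶜ, by
    rw [isOpen_compl_iff]
    exact (pullback.fst (Res.t G π) (𝒵.ι ≫ Fib.pE G π)).isClosedMap _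
      (𝒵.2.isClosed_compl.preimage (mV G π 𝒵).continuous)⟩

lemma mem_A_iff (r : Res.R G π) :
    r ∈ A G π 𝒵 ↔ ∀ q : Q G π 𝒵, pullback.fst (Res.t G π) (𝒵.ι ≫ Fib.pE G π) q = r →
      mV G π 𝒵 q ∈ 𝒵 := by
  change r ∈ (_ : Set _)ᶜ ↔ _
  simp only [Set.mem_compl_iff, Set.mem_image, Set.mem_preimage, SetLike.mem_coe, not_exists,
    not_and]
  constructor
  · intro h q hq
    by_contra hne
    exact h q hne hq
  · intro h q hne hq
    exact hne (h q hq)

variable {T : Scheme.{u}}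

theorem in_A_iff (b : T ⟶ Res.R G π) :
    In (A G π 𝒵) b ↔ Rel 𝒵 (b ≫ Res.s G π) (b ≫ Res.t G π) (b ≫ Res.fR G π)
      (by rw [Category.assoc, Res.fR_s, Category.assoc])
      (by rw [Category.assoc, Res.fR_t, Category.assoc]) := by
  constructor
  · intro hA T' l h hh hin
    obtain ⟨v, hv⟩ := in_iff_exists_lift.1 hin
    let q : T' ⟶ Q G π 𝒵 := pullback.lift (l ≫ b) v (by
      rw [← Category.assoc v, hv, Fib.mk_pE, Category.assoc])
    have hq1 : q ≫ pullback.fst _ _ = l ≫ b := pullback.lift_fst _ _ _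
    have hq2 : q ≫ pullback.snd _ _ = v := pullback.lift_snd _ _ _
    have hq : q ≫ mV G π 𝒵 = act (l ≫ b ≫ Res.s G π) (l ≫ b ≫ Res.fR G π)
        (by rw [Category.assoc, Category.assoc, Res.fR_s, Category.assoc, Category.assoc]) h
        (hh.trans (by simp only [Category.assoc, Res.fR_t])) := by
      unfold mV
      rw [precomp_act]
      refine act_congr _ _ ?_ ?_ ?_
      · rw [← Category.assoc, hq1, Category.assoc]
      · rw [← Category.assoc, hq1, Category.assoc]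
      · rw [← Category.assoc, hq2, ← Category.assoc, hv, Fib.mk_hE]
    intro τ
    rw [← hq, Scheme.Hom.comp_apply]
    refine (mem_A_iff G π 𝒵 _).1 (hA (l τ)) (q τ) ?_
    rw [← Scheme.Hom.comp_apply, hq1, Scheme.Hom.comp_apply]
  · intro hRel τ
    rw [mem_A_iff]
    intro q0 hq0b
    obtain ⟨K, _, a, c, hac, ha, hc⟩ :=
      exists_common_point b (pullback.fst (Res.t G π) (𝒵.ι ≫ Fib.pE G π)) τ q0 hq0b.symm
    have hh' : (c ≫ pullback.snd _ _ ≫ 𝒵.ι ≫ Fib.hE G π) ≫ G.s = a ≫ (b ≫ Res.t G π) ≫ π := by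
      have := Q_cond G π 𝒵
      simp only [Category.assoc] at this ⊢
      rw [this, ← Category.assoc c, ← hac, Res.fR_t]
      simp only [Category.assoc]
    have hin' : In 𝒵 (Fib.mk (a ≫ b ≫ Res.t G π) (c ≫ pullback.snd _ _ ≫ 𝒵.ι ≫ Fib.hE G π)
        ((Category.assoc _ _ _).trans hh'.symm)) := by
      have e1 : Fib.mk (a ≫ b ≫ Res.t G π) (c ≫ pullback.snd _ _ ≫ 𝒵.ι ≫ Fib.hE G π)
          ((Category.assoc _ _ _).trans hh'.symm) = (c ≫ pullback.snd _ _) ≫ 𝒵.ι := by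
        apply Fib.hom_ext
        · rw [Fib.mk_pE, Category.assoc, Category.assoc, ← pullback.condition,
            ← Category.assoc c, ← hac, Category.assoc]
        · rw [Fib.mk_hE]
          simp only [Category.assoc]
      rw [e1]
      exact in_ι _
    have key := hRel _ a _ hh' hin'
    have e2 : act (a ≫ b ≫ Res.s G π) (a ≫ b ≫ Res.fR G π)
        (by rw [Category.assoc, Category.assoc, Res.fR_s, Category.assoc, Category.assoc])
        (c ≫ pullback.snd _ _ ≫ 𝒵.ι ≫ Fib.hE G π)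
        (hh'.trans (by simp only [Category.assoc, Res.fR_t])) =
        c ≫ mV G π 𝒵 := by
      unfold mV
      rw [precomp_act]
      refine act_congr _ _ ?_ ?_ rfl
      · rw [← Category.assoc c, ← hac, Category.assoc]
      · rw [← Category.assoc c, ← hac, Category.assoc]
    rw [in_congr e2] at key
    have := key (pt K)
    rwa [Scheme.Hom.comp_apply, hc] at this

/-- the open locus of arrows `b` with `𝒵(t b) · b = 𝒵(s b)`. -/
noncomputable def P : (Res.R G π).Opens := A G π 𝒵 ⊓ (Res.i G π) ⁻¹ᵁ (A G π 𝒵)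

theorem in_P_iff (b : T ⟶ Res.R G π) :
    In (P G π 𝒵) b ↔ SRel 𝒵 (b ≫ Res.s G π) (b ≫ Res.t G π) (b ≫ Res.fR G π)
      (by rw [Category.assoc, Res.fR_s, Category.assoc])
      (by rw [Category.assoc, Res.fR_t, Category.assoc]) := by
  unfold P SRel
  rw [in_inf, in_preimage, in_A_iff, in_A_iff]
  refine and_congr Iff.rfl ⟨fun h => ?_, fun h => ?_⟩
  · exact h.congr (by rw [Category.assoc, Res.i_s]) (by rw [Category.assoc, Res.i_t])
      (by simp only [Category.assoc, Res.i_fR])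
  · exact h.congr (by rw [Category.assoc, Res.i_s]) (by rw [Category.assoc, Res.i_t])
      (by simp only [Category.assoc, Res.i_fR])

theorem in_P_mk_iff (r : T ⟶ G.R) (a b : T ⟶ W) (ht : r ≫ G.t = a ≫ π) (hs : r ≫ G.s = b ≫ π) :
    In (P G π 𝒵) (Res.mk r a b ht hs) ↔ SRel 𝒵 b a r hs ht := by
  rw [in_P_iff]
  exact ⟨fun h => h.congr (Res.mk_s _ _ _ _ _) (Res.mk_t _ _ _ _ _) (Res.mk_fR _ _ _ _ _),
    fun h => h.congr (Res.mk_s _ _ _ _ _).symm (Res.mk_t _ _ _ _ _).symm (Res.mk_fR _ _ _ _ _).symm⟩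

/-- identities lie in `P`. -/
theorem in_P_e : In (P G π 𝒵) (Res.e G π) := by
  rw [in_P_iff]
  exact (SRel.refl (𝒵 := 𝒵) (𝟙 W)).congr Res.e_s.symm Res.e_t.symm
    (by rw [Res.e_fR, Category.id_comp])

/-- `P` is stable under inverse. -/
theorem in_P_i (b : T ⟶ Res.R G π) (h : In (P G π 𝒵) b) : In (P G π 𝒵) (b ≫ Res.i G π) := by
  rw [in_P_iff] at h ⊢
  exact h.symm.congr (by rw [Category.assoc, Res.i_s]) (by rw [Category.assoc, Res.i_t])
    (by simp only [Category.assoc, Res.i_fR])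

/-- `P` is stable under composition. -/
theorem in_P_c (α β : T ⟶ Res.R G π) (h : α ≫ Res.s G π = β ≫ Res.t G π) (hα : In (P G π 𝒵) α)
    (hβ : In (P G π 𝒵) β) : In (P G π 𝒵) (pullback.lift α β h ≫ Res.c G π) := by
  rw [in_P_iff] at hα hβ ⊢
  have h1 := hβ.trans (hα.congr h rfl rfl)
  exact h1.congr (Res.lift_c_s α β h).symm (Res.lift_c_t α β h).symm (Res.lift_c_fR α β h).symm

section Closed

variable [Flat (𝒵.ι ≫ Fib.pE G π)] [LocallyOfFinitePresentation (𝒵.ι ≫ Fib.pE G π)]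

theorem isClosed_A (h𝒵 : IsClosed (𝒵 : Set (Fib.E G π))) :
    IsClosed (A G π 𝒵 : Set (Res.R G π)) := by
  rw [← isOpen_compl_iff]
  change IsOpen ((_ : Set _)ᶜᶜ)
  rw [compl_compl]
  exact (pullback.fst (Res.t G π) (𝒵.ι ≫ Fib.pE G π)).isOpenMap _
    (h𝒵.isOpen_compl.preimage (mV G π 𝒵).continuous)

theorem isClosed_P (h𝒵 : IsClosed (𝒵 : Set (Fib.E G π))) :
    IsClosed (P G π 𝒵 : Set (Res.R G π)) := by
  have h1 := isClosed_A G π 𝒵 h𝒵
  exact h1.inter (h1.preimage (Res.i G π).continuous)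

end Closed

end Stab

end Groth.Agent.Lib.H5bEL
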