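import Mathlib
import Groth.Agent.Lib.H5bELStabB

/-!
# Finiteness of the stabiliser groupoid (helper5)

`π : W ⟶ G.U` étale, `𝒵` an open of `E = W ×_{U, s} R` finite over `W`, containing the identity
section, such that `w ↦ 𝒵(w)` is injective on field-valued points (`mono`) and every point of `𝒵`
is the source part of an arrow of the stabiliser (`full`).  Then source and target of the stabiliser
`Stab.P` are finite: `P ⟶ 𝒵`, `b ↦ (s b, g_b)`, is an isomorphism.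
-/

set_option autoImplicit false
set_option linter.unusedSectionVars false
set_option linter.style.haveILetI false
universe u

open CategoryTheory CategoryTheory.Limits AlgebraicGeometry
open Groth.Agent.Lib.Helper2.Grpd Groth.Agent.Lib.H5bGrpdPts

namespace Groth.Agent.Lib.H5bEL

variable {S : Scheme.{u}} (G : Grpd.GroupoidScheme S) {W : Scheme.{u}} (π : W ⟶ G.U)

/-- the hypotheses on `(W, π, 𝒵)`, without fullness. -/
structure Pre (𝒵 : (Fib.E G π).Opens) : Prop where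
  fin : IsFinite (𝒵.ι ≫ Fib.pE G π)
  unit : ∀ {T : Scheme.{u}} (y : T ⟶ W), In 𝒵 (Fib.mk y (y ≫ π ≫ G.e)
    (by rw [Category.assoc, Category.assoc, G.e_s, Category.comp_id]))
  mono : ∀ (K : Type u) [Field K] (x y : Spec (CommRingCat.of K) ⟶ W) (_ : x ≫ π = y ≫ π),
    SRel 𝒵 x y (x ≫ π ≫ G.e) (by rw [Category.assoc, Category.assoc, G.e_s, Category.comp_id])
      (by rw [Category.assoc, Category.assoc, G.e_t, Category.comp_id]; assumption) → x = y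

/-- the hypotheses on `(W, π, 𝒵)`. -/
structure Good (𝒵 : (Fib.E G π).Opens) : Prop extends Pre G π 𝒵 where
  full : ∀ (K : Type u) [Field K] (x : Spec (CommRingCat.of K) ⟶ W)
    (h : Spec (CommRingCat.of K) ⟶ G.R) (hx : h ≫ G.s = x ≫ π), In 𝒵 (Fib.mk x h hx.symm) →
    ∃ (L : Type u) (_ : Field L) (l : Spec (CommRingCat.of L) ⟶ Spec (CommRingCat.of K))
      (z : Spec (CommRingCat.of L) ⟶ W) (hz : (l ≫ h) ≫ G.t = z ≫ π),
      SRel 𝒵 (l ≫ x) z (l ≫ h) (by rw [Category.assoc, hx, Category.assoc]) hz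

namespace Stab

/-- `b ↦ (s b, g_b)`. -/
noncomputable def ν : Res.R G π ⟶ Fib.E G π :=
  Fib.mk (Res.s G π) (Res.fR G π) (Res.fR_s G π).symm

@[reassoc] lemma ν_pE : ν G π ≫ Fib.pE G π = Res.s G π := Fib.mk_pE _ _ _
@[reassoc] lemma ν_hE : ν G π ≫ Fib.hE G π = Res.fR G π := Fib.mk_hE _ _ _

theorem isPullback_ν : IsPullback (ν G π) (Res.t G π) (Fib.hE G π ≫ G.t) π := by
  refine IsPullback.of_isLimit' ⟨by rw [ν_hE_assoc, Res.fR_t]⟩
    (PullbackCone.IsLimit.mk _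
      (fun c => Res.mk (c.fst ≫ Fib.hE G π) c.snd (c.fst ≫ Fib.pE G π)
        (by rw [Category.assoc, c.condition])
        (by rw [Category.assoc, ← Fib.pE_π, Category.assoc])) ?_ ?_ ?_)
  · intro c
    apply Fib.hom_ext
    · rw [Category.assoc, ν_pE, Res.mk_s]
    · rw [Category.assoc, ν_hE, Res.mk_fR]
  · intro c
    exact Res.mk_t _ _ _ _ _
  · intro c m h1 h2
    apply Res.hom_ext
    · rw [Res.mk_fR, ← h1, Category.assoc, ν_hE]
    · rw [Res.mk_t, h2]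
    · rw [Res.mk_s, ← h1, Category.assoc, ν_pE]

instance etale_ν [Etale π] : Etale (ν G π) :=
  MorphismProperty.of_isPullback (P := @Etale) (isPullback_ν G π).flip inferInstance

variable {G π} {𝒵 : (Fib.E G π).Opens}

section

variable (h𝒵 : Pre G π 𝒵)
include h𝒵

/-- arrows of the stabiliser have their source part in `𝒵`. -/
theorem in_ν_of_in_P {T : Scheme.{u}} (b : T ⟶ Res.R G π)
    (hb : haveI := h𝒵.fin; In (P G π 𝒵) b) : In 𝒵 (b ≫ ν G π) := by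
  haveI := h𝒵.fin
  rw [in_P_iff] at hb
  have h1 := (hb.in_iff ((b ≫ Res.t G π) ≫ π ≫ G.e)
    (by simp only [Category.assoc, G.e_s, Category.comp_id])).1 (h𝒵.unit _)
  unfold act at h1
  refine (in_congr ?_).1 h1
  apply Fib.hom_ext
  · rw [Fib.mk_pE, Category.assoc, ν_pE]
  · rw [Fib.mk_hE]
    have e3 : (b ≫ ν G π) ≫ Fib.hE G π = b ≫ Res.fR G π := by rw [Category.assoc, ν_hE]
    rw [e3]
    refine e_comp G _ _ ?_ _
    simp only [Category.assoc, Res.fR_t_assoc]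

end

section Psi

variable (G π 𝒵)
variable [IsFinite (𝒵.ι ≫ Fib.pE G π)]

/-- the comparison `P ⟶ 𝒵` exists as soon as `P.ι ≫ ν` lands in `𝒵`. -/
noncomputable def ψ (h : In 𝒵 ((P G π 𝒵).ι ≫ ν G π)) : (P G π 𝒵).toScheme ⟶ 𝒵.toScheme :=
  (in_iff_exists_lift.1 h).choose

@[reassoc] lemma ψ_ι (h : In 𝒵 ((P G π 𝒵).ι ≫ ν G π)) :
    ψ G π 𝒵 h ≫ 𝒵.ι = (P G π 𝒵).ι ≫ ν G π := (in_iff_exists_lift.1 h).choose_spec

end Psi

section

variable (h𝒵 : Pre G π 𝒵)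
include h𝒵

theorem in_ψ : haveI := h𝒵.fin; In 𝒵 ((P G π 𝒵).ι ≫ ν G π) := by
  haveI := h𝒵.fin
  exact in_ν_of_in_P h𝒵 _ (in_ι (𝟙 _) |> fun h => by simpa using h)

theorem eq_of_ν_eq [Etale π] {T : Scheme.{u}} (a b : T ⟶ Res.R G π)
    (haP : haveI := h𝒵.fin; In (P G π 𝒵) a) (hbP : haveI := h𝒵.fin; In (P G π 𝒵) b)
    (h0 : a ≫ ν G π = b ≫ ν G π) : a = b := by
  haveI := h𝒵.fin
  have h1 : a ≫ Res.s G π = b ≫ Res.s G π := by
    rw [← ν_pE, ← Category.assoc, h0, Category.assoc]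
  have h2 : a ≫ Res.fR G π = b ≫ Res.fR G π := by
    rw [← ν_hE, ← Category.assoc, h0, Category.assoc]
  have hπ : (a ≫ Res.t G π) ≫ π = (b ≫ Res.t G π) ≫ π := by
    rw [Category.assoc, Category.assoc, ← Res.fR_t, ← Category.assoc, ← Category.assoc, h2]
  -- the two targets agree
  have h3 : a ≫ Res.t G π = b ≫ Res.t G π := by
    obtain ⟨d, hd1, hd2⟩ : ∃ d : T ⟶ pullback π π, d ≫ pullback.fst π π = a ≫ Res.t G π ∧
        d ≫ pullback.snd π π = b ≫ Res.t G π :=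
      ⟨pullback.lift _ _ hπ, pullback.lift_fst _ _ _, pullback.lift_snd _ _ _⟩
    have hd : In (pullback.diagonal π).opensRange d := by
      rw [in_iff_forall_field]
      intro K _ ι
      -- the two field-valued points
      have hsa := (in_P_iff G π 𝒵 (ι ≫ a)).1 (haP.precomp ι)
      have hsb := (in_P_iff G π 𝒵 (ι ≫ b)).1 (hbP.precomp ι)
      have e1 : (ι ≫ a) ≫ Res.s G π = (ι ≫ b) ≫ Res.s G π := by
        rw [Category.assoc, h1, Category.assoc]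
      have e2 : (ι ≫ a) ≫ Res.fR G π = (ι ≫ b) ≫ Res.fR G π := by
        rw [Category.assoc, h2, Category.assoc]
      have hs3 := hsa.symm.trans (hsb.congr e1.symm rfl e2.symm)
      have hxy : ((ι ≫ a) ≫ Res.t G π) ≫ π = ((ι ≫ b) ≫ Res.t G π) ≫ π := by
        simp only [Category.assoc] at hπ ⊢
        rw [hπ]
      have hs4 : SRel 𝒵 ((ι ≫ a) ≫ Res.t G π) ((ι ≫ b) ≫ Res.t G π)
          (((ι ≫ a) ≫ Res.t G π) ≫ π ≫ G.e)
          (by simp only [Category.assoc, G.e_s, Category.comp_id])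
          (by simp only [Category.assoc, G.e_t, Category.comp_id]
              simpa only [Category.assoc] using hxy) := by
        refine hs3.congr rfl rfl ?_
        rw [comp_i G ((ι ≫ a) ≫ Res.fR G π)]
        simp only [Category.assoc, Res.fR_t_assoc]
      have h5 := h𝒵.mono _ _ _ hxy hs4
      have h6 : ι ≫ d = ((ι ≫ a) ≫ Res.t G π) ≫ pullback.diagonal π := by
        apply pullback.hom_ext
        · rw [Category.assoc, hd1, Category.assoc, pullback.diagonal_fst, Category.comp_id,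
            Category.assoc]
        · rw [Category.assoc, hd2, Category.assoc, pullback.diagonal_snd, Category.comp_id, h5,
            Category.assoc]
      rw [h6]
      intro p
      rw [Scheme.Hom.comp_apply]
      exact ⟨_, rfl⟩
    obtain ⟨d', hd'⟩ := in_iff_exists_lift.1 hd
    have h7 : d ≫ pullback.fst π π = d ≫ pullback.snd π π := by
      have h8 : (pullback.diagonal π).opensRange.ι ≫ pullback.fst π π =
          (pullback.diagonal π).opensRange.ι ≫ pullback.snd π π := by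
        rw [← cancel_epi (pullback.diagonal π).isoOpensRange.hom]
        simp only [← Category.assoc, Scheme.Hom.isoOpensRange_hom_ι]
        rw [pullback.diagonal_fst, pullback.diagonal_snd]
      rw [← hd', Category.assoc, h8, Category.assoc]
    rw [← hd1, ← hd2, h7]
  exact Res.hom_ext h2 h3 h1

theorem mono_ψ [Etale π] : haveI := h𝒵.fin; Mono (ψ G π 𝒵 (in_ψ h𝒵)) := by
  haveI := h𝒵.fin
  constructor
  intro T α β hαβ
  have h0 : (α ≫ (P G π 𝒵).ι) ≫ ν G π = (β ≫ (P G π 𝒵).ι) ≫ ν G π := by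
    rw [Category.assoc, Category.assoc, ← ψ_ι G π 𝒵 (in_ψ h𝒵), ← Category.assoc, hαβ,
      Category.assoc]
  have h4 := eq_of_ν_eq h𝒵 _ _ (in_ι α) (in_ι β) h0
  exact (cancel_mono (P G π 𝒵).ι).1 h4

end

variable (h𝒵 : Good G π 𝒵)
include h𝒵

theorem surjective_ψ : haveI := h𝒵.fin; Surjective (ψ G π 𝒵 (in_ψ h𝒵.toPre)) := by
  haveI := h𝒵.fin
  constructor
  intro ζ
  obtain ⟨K, _, ζb, hζb⟩ := exists_field_point ζ
  have hx : (ζb ≫ 𝒵.ι ≫ Fib.hE G π) ≫ G.s = (ζb ≫ 𝒵.ι ≫ Fib.pE G π) ≫ π := by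
    simp only [Category.assoc, Fib.pE_π]
  have hin : In 𝒵 (Fib.mk (ζb ≫ 𝒵.ι ≫ Fib.pE G π) (ζb ≫ 𝒵.ι ≫ Fib.hE G π) hx.symm) := by
    have e1 : Fib.mk (ζb ≫ 𝒵.ι ≫ Fib.pE G π) (ζb ≫ 𝒵.ι ≫ Fib.hE G π) hx.symm = ζb ≫ 𝒵.ι := by
      apply Fib.hom_ext
      · rw [Fib.mk_pE, Category.assoc]
      · rw [Fib.mk_hE, Category.assoc]
    rw [e1]
    exact in_ι _
  obtain ⟨L, _, l, z, hz, hS⟩ := h𝒵.full _ _ _ hx hin
  have hbP : In (P G π 𝒵) (Res.mk (l ≫ ζb ≫ 𝒵.ι ≫ Fib.hE G π) z (l ≫ ζb ≫ 𝒵.ι ≫ Fib.pE G π) hz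
      (by rw [Category.assoc, hx]; simp only [Category.assoc])) :=
    (in_P_mk_iff G π 𝒵 _ _ _ _ _).2 hS
  obtain ⟨b', hb'⟩ := in_iff_exists_lift.1 hbP
  have h1 : b' ≫ ψ G π 𝒵 (in_ψ h𝒵.toPre) = l ≫ ζb := by
    rw [← cancel_mono 𝒵.ι, Category.assoc, ψ_ι, ← Category.assoc, hb']
    apply Fib.hom_ext
    · rw [Category.assoc, ν_pE, Res.mk_s]
      simp only [Category.assoc]
    · rw [Category.assoc, ν_hE, Res.mk_fR]
      simp only [Category.assoc]
  refine ⟨b' (pt L), ?_⟩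
  rw [← Scheme.Hom.comp_apply, h1, Scheme.Hom.comp_apply, hζb]

theorem isIso_ψ [Etale π] : haveI := h𝒵.fin; IsIso (ψ G π 𝒵 (in_ψ h𝒵.toPre)) := by
  haveI := h𝒵.fin
  haveI := mono_ψ h𝒵.toPre
  haveI := surjective_ψ h𝒵
  have hE : Etale (ψ G π 𝒵 (in_ψ h𝒵.toPre) ≫ 𝒵.ι) := by
    rw [ψ_ι]
    infer_instance
  haveI : Etale (ψ G π 𝒵 (in_ψ h𝒵.toPre)) :=
    MorphismProperty.of_postcomp (W := @Etale) (W' := @IsOpenImmersion) _ 𝒵.ι inferInstance hE
  haveI : IsOpenImmersion (ψ G π 𝒵 (in_ψ h𝒵.toPre)) := IsOpenImmersion.of_flat_of_mono _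
  exact (isIso_iff_isOpenImmersion_and_surjective _).mpr ⟨inferInstance, inferInstance⟩

theorem isFinite_s [Etale π] : haveI := h𝒵.fin; IsFinite ((P G π 𝒵).ι ≫ Res.s G π) := by
  haveI := h𝒵.fin
  haveI := isIso_ψ h𝒵
  have e1 : (P G π 𝒵).ι ≫ Res.s G π = ψ G π 𝒵 (in_ψ h𝒵.toPre) ≫ 𝒵.ι ≫ Fib.pE G π := by
    rw [ψ_ι_assoc, ν_pE]
  rw [e1]
  infer_instance

end Stab

namespace Res

lemma i_i : i G π ≫ i G π = 𝟙 _ := by
  apply hom_ext
  · rw [Category.assoc, i_fR, ← Category.assoc, i_fR, Category.assoc, H5bEL.i_i, Category.comp_id,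
      Category.id_comp]
  · rw [Category.assoc, i_t, i_s, Category.id_comp]
  · rw [Category.assoc, i_s, i_t, Category.id_comp]

end Res

namespace Stab

variable {G π} {𝒵 : (Fib.E G π).Opens}

section Sub

variable (G π 𝒵)
variable [IsFinite (𝒵.ι ≫ Fib.pE G π)]

theorem exists_eP : ∃ eP : W ⟶ (P G π 𝒵).toScheme, eP ≫ (P G π 𝒵).ι = Res.e G π :=
  in_iff_exists_lift.1 (in_P_e G π 𝒵)

theorem exists_iP : ∃ iP : (P G π 𝒵).toScheme ⟶ (P G π 𝒵).toScheme,
    iP ≫ (P G π 𝒵).ι = (P G π 𝒵).ι ≫ Res.i G π :=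
  in_iff_exists_lift.1 (in_P_i G π 𝒵 _ (by simpa using in_ι (𝟙 (P G π 𝒵).toScheme)))

theorem exists_cP : ∃ cP : pullback ((P G π 𝒵).ι ≫ Res.s G π) ((P G π 𝒵).ι ≫ Res.t G π) ⟶
      (P G π 𝒵).toScheme,
    cP ≫ (P G π 𝒵).ι = pullback.map ((P G π 𝒵).ι ≫ Res.s G π) ((P G π 𝒵).ι ≫ Res.t G π)
      (Res.s G π) (Res.t G π) (P G π 𝒵).ι (P G π 𝒵).ι (𝟙 W) (Category.comp_id _)
      (Category.comp_id _) ≫ Res.c G π := by
  have h1 : pullback.map ((P G π 𝒵).ι ≫ Res.s G π) ((P G π 𝒵).ι ≫ Res.t G π)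
      (Res.s G π) (Res.t G π) (P G π 𝒵).ι (P G π 𝒵).ι (𝟙 W) (Category.comp_id _)
      (Category.comp_id _) = pullback.lift (pullback.fst _ _ ≫ (P G π 𝒵).ι)
        (pullback.snd _ _ ≫ (P G π 𝒵).ι) (by
          rw [Category.assoc, Category.assoc, pullback.condition]) := by
    apply pullback.hom_ext <;> simp
  rw [h1]
  exact in_iff_exists_lift.1 (in_P_c G π 𝒵 _ _ _ (in_ι _) (in_ι _))

end Sub

variable (h𝒵 : Good G π 𝒵)
include h𝒵

theorem isFinite_t [Etale π] : haveI := h𝒵.fin; IsFinite ((P G π 𝒵).ι ≫ Res.t G π) := by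
  haveI := h𝒵.fin
  haveI := isFinite_s h𝒵
  obtain ⟨iP, hiP⟩ := exists_iP G π 𝒵
  have h2 : iP ≫ iP = 𝟙 _ := by
    rw [← cancel_mono (P G π 𝒵).ι, Category.assoc, hiP, ← Category.assoc, hiP, Category.assoc,
      Res.i_i, Category.comp_id, Category.id_comp]
  haveI : IsIso iP := ⟨iP, h2, h2⟩
  have e1 : (P G π 𝒵).ι ≫ Res.t G π = iP ≫ (P G π 𝒵).ι ≫ Res.s G π := by
    rw [← Category.assoc, hiP, Category.assoc, Res.i_s]
  rw [e1]
  infer_instance

end Stab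

end Groth.Agent.Lib.H5bEL
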