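import Mathlib
import Groth.Agent.Lib.H5bELChart
import Groth.Agent.Lib.H5bELFin

/-!
# Arrows over the marked set `Z0` stabilise the chart at the marked point (helper5)

`Z0` a set of arrows `u ⟶ u`, closed under composition and inverse.  For a chart `C` at `u` and points
`x, y` of `C.W` at the marked point `C.w`, every arrow `g : π x ⟶ π y` at a point of `Z0` satisfies
`SRel C.𝒵 x y g`.
-/

set_option autoImplicit false
set_option linter.unusedSectionVars false
set_option linter.style.haveILetI false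
universe u

open CategoryTheory CategoryTheory.Limits AlgebraicGeometry
open Groth.Agent.Lib.Helper2.Grpd

namespace Groth.Agent.Lib.H5bEL

/-- a field-valued point at `f w` lifts to a point at `w` if the residue field extension is trivial. -/
theorem exists_lift_at {W U : Scheme.{u}} (f : W ⟶ U) (w : W) [IsIso (f.residueFieldMap w)]
    (K : Type u) [Field K] (a : Spec (CommRingCat.of K) ⟶ U) (ha : ∀ p, a p = f w) :
    ∃ b : Spec (CommRingCat.of K) ⟶ W, b ≫ f = a ∧ ∀ p, b p = w := by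
  obtain ⟨x₁, φ, hx₁, hφ⟩ : ∃ (x₁ : U) (φ : U.residueField x₁ ⟶ CommRingCat.of K), f w = x₁ ∧
      Spec.map φ ≫ U.fromSpecResidueField x₁ = a :=
    ⟨_, _, (ha _).symm, Scheme.descResidueField_stalkClosedPointTo_fromSpecResidueField K U a⟩
  subst hx₁
  refine ⟨Spec.map φ ≫ Spec.map (inv (f.residueFieldMap w)) ≫ W.fromSpecResidueField w, ?_, ?_⟩
  · have e1 : Spec.map (inv (f.residueFieldMap w)) ≫ Spec.map (f.residueFieldMap w) = 𝟙 _ := by
      rw [← Spec.map_comp, IsIso.hom_inv_id, Spec.map_id]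
    rw [Category.assoc, Category.assoc, ← Scheme.Hom.SpecMap_residueFieldMap_fromSpecResidueField,
      reassoc_of% e1, hφ]
  · intro p
    rw [Scheme.Hom.comp_apply, Scheme.Hom.comp_apply, Scheme.fromSpecResidueField_apply]

variable {S : Scheme.{u}} {G : Grpd.GroupoidScheme S}

/-- `Z0` consists of arrows `u ⟶ u` and is closed under composition and inverse. -/
structure Z0Closed (G : Grpd.GroupoidScheme S) (u : G.U) (Z0 : Set G.R) : Prop where
  tgt : ∀ z ∈ Z0, G.t z = u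
  comp : ∀ ω : ↥(pullback G.s G.t), pullback.fst G.s G.t ω ∈ Z0 → pullback.snd G.s G.t ω ∈ Z0 →
    G.c ω ∈ Z0
  inv : ∀ z ∈ Z0, G.i z ∈ Z0

variable {u : G.U} {Z0 : Set G.R} (C : Chart G u Z0) (hZ : Z0Closed G u Z0)
  {T : Scheme.{u}}

include hZ

theorem Chart.rel_of_Z0 (x y : T ⟶ C.W) (g : T ⟶ G.R) (hs : g ≫ G.s = x ≫ C.π)
    (ht : g ≫ G.t = y ≫ C.π) (hx : ∀ τ, x τ = C.w) (hy : ∀ τ, y τ = C.w) (hg : ∀ τ, g τ ∈ Z0) :
    Rel C.𝒵 x y g hs ht := by
  intro T' l k hk hin τ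
  have h1 := hin τ
  rw [C.fibre _ (by rw [← Scheme.Hom.comp_apply, Fib.mk_pE, Scheme.Hom.comp_apply, hy]),
    ← Scheme.Hom.comp_apply, Fib.mk_hE] at h1
  rw [C.fibre _ (by
    unfold act
    rw [← Scheme.Hom.comp_apply, Fib.mk_pE, Scheme.Hom.comp_apply, hx])]
  unfold act
  rw [← Scheme.Hom.comp_apply, Fib.mk_hE]
  unfold comp
  rw [Scheme.Hom.comp_apply]
  apply hZ.comp
  · rw [← Scheme.Hom.comp_apply, pullback.lift_fst]
    exact h1
  · rw [← Scheme.Hom.comp_apply, pullback.lift_snd, Scheme.Hom.comp_apply]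
    exact hg _

theorem Chart.srel_of_Z0 (x y : T ⟶ C.W) (g : T ⟶ G.R) (hs : g ≫ G.s = x ≫ C.π)
    (ht : g ≫ G.t = y ≫ C.π) (hx : ∀ τ, x τ = C.w) (hy : ∀ τ, y τ = C.w) (hg : ∀ τ, g τ ∈ Z0) :
    SRel C.𝒵 x y g hs ht := by
  refine ⟨C.rel_of_Z0 hZ x y g hs ht hx hy hg, C.rel_of_Z0 hZ y x (g ≫ G.i) _ _ hy hx ?_⟩
  intro τ
  rw [Scheme.Hom.comp_apply]
  exact hZ.inv _ (hg τ)

/-- the orbit of the marked point under the stabiliser is trivial. -/
theorem Chart.eq_w_of_srel (hP : Pre G C.π C.𝒵) (K : Type u) [Field K]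
    (x z : Spec (CommRingCat.of K) ⟶ C.W) (g : Spec (CommRingCat.of K) ⟶ G.R)
    (hs : g ≫ G.s = x ≫ C.π) (ht : g ≫ G.t = z ≫ C.π) (hx : ∀ p, x p = C.w)
    (hg : ∀ p, g p ∈ Z0) (h : SRel C.𝒵 x z g hs ht) : ∀ p, z p = C.w := by
  haveI := C.res
  obtain ⟨y, hy1, hy2⟩ := exists_lift_at C.π C.w K (g ≫ G.t) (by
    intro p
    rw [Scheme.Hom.comp_apply, hZ.tgt _ (hg p), C.hw])
  have h1 := C.srel_of_Z0 hZ x y g hs hy1.symm hx hy2 hg
  have h2 := h1.symm.trans h
  have hyz : y ≫ C.π = z ≫ C.π := by rw [hy1, ht]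
  have h3 : SRel C.𝒵 y z (y ≫ C.π ≫ G.e)
      (by rw [Category.assoc, Category.assoc, G.e_s, Category.comp_id])
      (by rw [Category.assoc, Category.assoc, G.e_t, Category.comp_id]; exact hyz) := by
    refine h2.congr rfl rfl ?_
    rw [comp_i G g, ← Category.assoc, ← hy1, Category.assoc]
  have h4 := hP.mono K y z hyz h3
  intro p
  rw [← h4]
  exact hy2 p

end Groth.Agent.Lib.H5bEL
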