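import Mathlib
import Groth.Agent.Lib.H5bELZ0
import Groth.Agent.Lib.H5bELQuot
import Groth.Agent.Lib.Helper12Descent

/-!
# Making the chart a monomorphism into the functor of finite pieces (helper5)

`IRel 𝒵 x y`: the pieces `𝒵(x)` and `𝒵(y)` agree.  This is a closed étale equivalence relation on the
chart; the quotient `ℋ` carries a descended chart for which `x ↦ 𝒵(x)` is injective (`Pre`).
-/

set_option autoImplicit false
set_option linter.unusedSectionVars false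
set_option linter.style.haveILetI false
universe u

open CategoryTheory CategoryTheory.Limits AlgebraicGeometry
open Groth.Agent.Lib.Helper2.Grpd

namespace Groth.Agent.Lib.H5bEL

variable {S : Scheme.{u}} {G : Grpd.GroupoidScheme S}

section IRel

variable {W : Scheme.{u}} {π : W ⟶ G.U} (𝒵 : (Fib.E G π).Opens) {T T' : Scheme.{u}}

/-- `𝒵(x) = 𝒵(y)`. -/
def IRel (x y : T ⟶ W) : Prop :=
  ∃ h : x ≫ π = y ≫ π, SRel 𝒵 x y (x ≫ π ≫ G.e)
    (by rw [Category.assoc, Category.assoc, G.e_s, Category.comp_id])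
    (by rw [Category.assoc, Category.assoc, G.e_t, Category.comp_id]; exact h)

variable {𝒵}

lemma IRel.refl (x : T ⟶ W) : IRel 𝒵 x x := ⟨rfl, SRel.refl x⟩

lemma IRel.symm {x y : T ⟶ W} (h : IRel 𝒵 x y) : IRel 𝒵 y x := by
  obtain ⟨h1, h2⟩ := h
  refine ⟨h1.symm, h2.symm.congr rfl rfl ?_⟩
  rw [Category.assoc, Category.assoc, e_i, reassoc_of% h1]

lemma IRel.trans {x y z : T ⟶ W} (h : IRel 𝒵 x y) (h' : IRel 𝒵 y z) : IRel 𝒵 x z := by
  obtain ⟨h1, h2⟩ := h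
  obtain ⟨h1', h2'⟩ := h'
  refine ⟨h1.trans h1', (h2.trans h2').congr rfl rfl ?_⟩
  rw [comp_e G (y ≫ π ≫ G.e) (x ≫ π ≫ G.e) (by
    rw [Category.assoc, Category.assoc, reassoc_of% G.e_s, reassoc_of% h1])]
  rw [reassoc_of% h1]

lemma IRel.precomp {x y : T ⟶ W} (h : IRel 𝒵 x y) (f : T' ⟶ T) : IRel 𝒵 (f ≫ x) (f ≫ y) := by
  obtain ⟨h1, h2⟩ := h
  refine ⟨by rw [Category.assoc, h1, Category.assoc], (h2.precomp f).congr rfl rfl ?_⟩
  simp only [Category.assoc]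

lemma IRel.in_iff {x y : T ⟶ W} (h : IRel 𝒵 x y) (k : T ⟶ G.R) (hk : k ≫ G.s = x ≫ π) :
    In 𝒵 (Fib.mk x k hk.symm) ↔ In 𝒵 (Fib.mk y k (hk.trans h.1).symm) := by
  obtain ⟨h1, h2⟩ := h
  rw [h2.in_iff k (hk.trans h1)]
  unfold act
  refine in_congr (Fib.mk_congr _ rfl ?_)
  refine (comp_e G k _ ?_ _).symm
  rw [reassoc_of% hk]

variable (G π) in
/-- `(a, b) ↦ (id : π a ⟶ π b)`. -/
noncomputable def ε₂ : pullback π π ⟶ Res.R G π :=
  Res.mk (pullback.fst π π ≫ π ≫ G.e) (pullback.fst π π) (pullback.snd π π)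
    (by rw [Category.assoc, Category.assoc, G.e_t, Category.comp_id])
    (by rw [Category.assoc, Category.assoc, G.e_s, Category.comp_id, pullback.condition])

lemma lift_ε₂ (a b : T ⟶ W) (h : a ≫ π = b ≫ π) :
    pullback.lift a b h ≫ ε₂ G π = Res.mk (a ≫ π ≫ G.e) a b
      (by rw [Category.assoc, Category.assoc, G.e_t, Category.comp_id])
      (by rw [Category.assoc, Category.assoc, G.e_s, Category.comp_id, h]) := by
  unfold ε₂
  rw [Res.precomp_mk]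
  apply Res.hom_ext
  · rw [Res.mk_fR, Res.mk_fR, pullback.lift_fst_assoc]
  · rw [Res.mk_t, Res.mk_t, pullback.lift_fst]
  · rw [Res.mk_s, Res.mk_s, pullback.lift_snd]

variable (𝒵) in
/-- the locus `𝒵(a) = 𝒵(b)` in `W ×_U W`. -/
noncomputable def E₁ [IsFinite (𝒵.ι ≫ Fib.pE G π)] : (pullback π π).Opens :=
  ε₂ G π ⁻¹ᵁ Stab.P G π 𝒵

lemma in_E₁_iff [IsFinite (𝒵.ι ≫ Fib.pE G π)] (a b : T ⟶ W) (h : a ≫ π = b ≫ π) :
    In (E₁ 𝒵) (pullback.lift a b h) ↔ IRel 𝒵 a b := by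
  unfold E₁
  rw [in_preimage, lift_ε₂, Stab.in_P_mk_iff]
  constructor
  · intro h2
    refine IRel.symm ⟨h.symm, h2.congr rfl rfl ?_⟩
    rw [reassoc_of% h]
  · intro h2
    obtain ⟨h3, h4⟩ := h2.symm
    refine h4.congr rfl rfl ?_
    rw [reassoc_of% h]

end IRel

/-- points of a cartesian square. -/
lemma exists_preimage_of_isPullback {P X Y Z : Scheme.{u}} {fst : P ⟶ X} {snd : P ⟶ Y} {f : X ⟶ Z}
    {g : Y ⟶ Z} (h : IsPullback fst snd f g) (x : X) (y : Y) (hxy : f x = g y) :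
    ∃ z : P, fst z = x ∧ snd z = y := by
  obtain ⟨z0, hz1, hz2⟩ := Scheme.Pullback.exists_preimage_pullback x y hxy
  refine ⟨h.isoPullback.inv z0, ?_, ?_⟩
  · rw [← Scheme.Hom.comp_apply, h.isoPullback_inv_fst, hz1]
  · rw [← Scheme.Hom.comp_apply, h.isoPullback_inv_snd, hz2]

/-- the residue field map of the second factor at an intermediate point. -/
lemma isIso_residueFieldMap_of_comp {X Y Z : Scheme.{u}} (f : X ⟶ Y) (g : Y ⟶ Z) (x : X)
    (h : IsIso ((f ≫ g).residueFieldMap x)) : IsIso (g.residueFieldMap (f x)) := by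
  rw [Scheme.residueFieldMap_comp] at h
  have hβ : IsIso (f.residueFieldMap x) := by
    rw [ConcreteCategory.isIso_iff_bijective]
    refine ⟨(f.residueFieldMap x).hom.injective, ?_⟩
    have h1 := ((ConcreteCategory.isIso_iff_bijective _).1 h).2
    intro c
    obtain ⟨a, ha⟩ := h1 c
    exact ⟨g.residueFieldMap (f x) a, ha⟩
  exact @IsIso.of_isIso_comp_right _ _ _ _ _ (g.residueFieldMap (f x)) (f.residueFieldMap x) hβ h

section Descend

variable {W ℋ : Scheme.{u}} (q : W ⟶ ℋ) (p : ℋ ⟶ G.U)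

instance etale_κ [Etale q] : Etale (κ (π := p) q) :=
  MorphismProperty.of_isPullback (P := @Etale) (isPullback_κ q).flip inferInstance

instance surjective_κ [Surjective q] : Surjective (κ (π := p) q) :=
  MorphismProperty.of_isPullback (P := @Surjective) (isPullback_κ q).flip inferInstance

/-- the image of `𝒵` in `E(p)`. -/
noncomputable def push [Etale q] (𝒵 : (Fib.E G (q ≫ p)).Opens) : (Fib.E G p).Opens :=
  ⟨κ (π := p) q '' (𝒵 : Set ↑(Fib.E G (q ≫ p))), (κ (π := p) q).isOpenMap _ 𝒵.2⟩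

theorem pull_push [Etale q] (𝒵 : (Fib.E G (q ≫ p)).Opens)
    (hq : ∀ (K : Type u) [Field K] (a b : Spec (CommRingCat.of K) ⟶ W), a ≫ q = b ≫ q →
      IRel 𝒵 a b) : pull q (push q p 𝒵) = 𝒵 := by
  apply le_antisymm
  · intro ζ hζ
    obtain ⟨ζ', hζ', hκ⟩ := hζ
    obtain ⟨K, _, a, b, hab, ha, hb⟩ :=
      exists_common_point (κ (π := p) q) (κ (π := p) q) ζ ζ' hκ.symm
    have h1 : (a ≫ Fib.pE G (q ≫ p)) ≫ q = (b ≫ Fib.pE G (q ≫ p)) ≫ q := by
      rw [Category.assoc, Category.assoc, ← κ_pE, reassoc_of% hab]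
    have hI := hq K _ _ h1
    have h2 : a ≫ Fib.hE G (q ≫ p) = b ≫ Fib.hE G (q ≫ p) := by
      rw [← κ_hE, reassoc_of% hab]
    have hbin : In 𝒵 b := (in_iff_of_subsingleton (pt K)).2 (by rw [hb]; exact hζ')
    have hbin' := (in_congr (Fib.eq_mk b)).1 hbin
    have hk : (a ≫ Fib.hE G (q ≫ p)) ≫ G.s = (a ≫ Fib.pE G (q ≫ p)) ≫ q ≫ p := by
      rw [Category.assoc, Category.assoc, Fib.pE_π]
    have h3 := (hI.in_iff (a ≫ Fib.hE G (q ≫ p)) hk).2
      ((in_congr (Fib.mk_congr _ rfl h2.symm)).1 hbin')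
    have h4 := (in_congr (Fib.eq_mk a)).2 h3 (pt K)
    rwa [ha] at h4
  · intro ζ hζ
    exact ⟨ζ, hζ, rfl⟩

theorem exists_descent [Etale q] [Surjective q] [Etale p] (𝒵 : (Fib.E G (q ≫ p)).Opens)
    (hfin : IsFinite (𝒵.ι ≫ Fib.pE G (q ≫ p))) (hcl : IsClosed (𝒵 : Set ↑(Fib.E G (q ≫ p))))
    (hq : ∀ {T : Scheme.{u}} (a b : T ⟶ W), a ≫ q = b ≫ q ↔ IRel 𝒵 a b) :
    ∃ 𝒵' : (Fib.E G p).Opens, pull q 𝒵' = 𝒵 ∧ IsClosed (𝒵' : Set ↑(Fib.E G p)) ∧
      IsFinite (𝒵'.ι ≫ Fib.pE G p) ∧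
      ∀ (K : Type u) [Field K] (x y : Spec (CommRingCat.of K) ⟶ ℋ) (hxy : x ≫ p = y ≫ p),
        SRel 𝒵' x y (x ≫ p ≫ G.e)
          (by rw [Category.assoc, Category.assoc, G.e_s, Category.comp_id])
          (by rw [Category.assoc, Category.assoc, G.e_t, Category.comp_id]; exact hxy) → x = y := by
  have hpull : pull q (push q p 𝒵) = 𝒵 := pull_push q p 𝒵 (fun K _ a b h => (hq a b).1 h)
  refine ⟨push q p 𝒵, hpull, ?_, ?_, ?_⟩
  · have hquot : Topology.IsQuotientMap (κ (π := p) q) :=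
      (κ (π := p) q).isOpenMap.isQuotientMap (κ (π := p) q).continuous (κ (π := p) q).surjective
    rw [← hquot.isClosed_preimage]
    have : (κ (π := p) q) ⁻¹' (push q p 𝒵 : Set ↑(Fib.E G p)) =
        (pull q (push q p 𝒵) : Set ↑(Fib.E G (q ≫ p))) := rfl
    rw [this, hpull]
    exact hcl
  · haveI := Groth.Agent.Lib.Helper12.descendsAlong_isFinite.{u}
    have hpb := isPullback_pull q (push q p 𝒵)
    refine MorphismProperty.of_isPullback_of_descendsAlong (P := @IsFinite)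
      (Q := @Surjective ⊓ @Flat ⊓ @LocallyOfFinitePresentation) hpb.flip
      ⟨⟨inferInstance, inferInstance⟩, inferInstance⟩ ?_
    rw [hpull]
    exact hfin
  · intro K _ x y hxy hS
    obtain ⟨L1, _, l1, x1, hx1⟩ := exists_lift_point q K x (fun _ => q.surjective _)
    obtain ⟨L2, _, l2, y2, hy2⟩ := exists_lift_point q L1 (l1 ≫ y) (fun _ => q.surjective _)
    have hx2 : (l2 ≫ x1) ≫ q = (l2 ≫ l1) ≫ x := by rw [Category.assoc, hx1, Category.assoc]
    have hy2' : y2 ≫ q = (l2 ≫ l1) ≫ y := by rw [hy2, Category.assoc]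
    have hπ : (l2 ≫ x1) ≫ q ≫ p = y2 ≫ q ≫ p := by
      calc (l2 ≫ x1) ≫ q ≫ p = ((l2 ≫ x1) ≫ q) ≫ p := (Category.assoc _ _ _).symm
        _ = ((l2 ≫ l1) ≫ x) ≫ p := by rw [hx2]
        _ = ((l2 ≫ l1) ≫ y) ≫ p := by
          rw [Category.assoc (l2 ≫ l1) x p, hxy, ← Category.assoc (l2 ≫ l1) y p]
        _ = (y2 ≫ q) ≫ p := by rw [hy2']
        _ = y2 ≫ q ≫ p := Category.assoc _ _ _
    have hI : IRel 𝒵 (l2 ≫ x1) y2 := by
      refine ⟨hπ, ?_⟩
      rw [← hpull, srel_pull_iff]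
      refine (hS.precomp (l2 ≫ l1)).congr hx2.symm hy2'.symm ?_
      calc (l2 ≫ l1) ≫ x ≫ p ≫ G.e = ((l2 ≫ l1) ≫ x) ≫ p ≫ G.e := (Category.assoc _ _ _).symm
        _ = ((l2 ≫ x1) ≫ q) ≫ p ≫ G.e := by rw [hx2]
        _ = (l2 ≫ x1) ≫ (q ≫ p) ≫ G.e := by simp only [Category.assoc]
    have h5 := (hq _ _).2 hI
    rw [hx2, hy2'] at h5
    haveI := epi_spec_field K L2 (l2 ≫ l1)
    exact (cancel_epi (l2 ≫ l1)).1 h5

end Descend

end Groth.Agent.Lib.H5bEL
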