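import Mathlib
import Groth.Agent.Lib.H5bELDesc

/-!
# A chart which is a monomorphism into the functor of finite pieces (helper5)

`exists_chart_pre`: from an affine chart, the quotient by the equivalence relation `𝒵(a) = 𝒵(b)` is a
chart satisfying `Pre` (`x ↦ 𝒵(x)` injective on field-valued points).
-/

set_option autoImplicit false
set_option linter.unusedSectionVars false
set_option linter.style.haveILetI false
universe u

open CategoryTheory CategoryTheory.Limits AlgebraicGeometry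
open Groth.Agent.Lib.Helper2.Grpd

namespace Groth.Agent.Lib.H5bEL

variable {S : Scheme.{u}} {G : Grpd.GroupoidScheme S}

theorem exists_chart_pre [IsAffine G.U] [Flat G.s] [LocallyOfFinitePresentation G.s]
    {u : G.U} {Z0 : Set G.R} (C : Chart G u Z0) (hW : IsAffine C.W) :
    ∃ C' : Chart G u Z0, Pre G C'.π C'.𝒵 := by
  obtain ⟨⟨W, π, w, 𝒵, het, hw, hres, hcl, hfin, hfib⟩, hunit⟩ := C
  dsimp only at hW hunit
  haveI := het
  haveI := hfin
  haveI := hW
  haveI : Flat (Fib.pE G π) := by unfold Fib.pE; infer_instance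
  haveI : LocallyOfFinitePresentation (Fib.pE G π) := by unfold Fib.pE; infer_instance
  haveI : Flat (𝒵.ι ≫ Fib.pE G π) := inferInstance
  haveI : LocallyOfFinitePresentation (𝒵.ι ≫ Fib.pE G π) := inferInstance
  have hE₁cl : IsClosed (E₁ 𝒵 : Set ↑(pullback π π)) :=
    (Stab.isClosed_P G π 𝒵 hcl).preimage (ε₂ G π).continuous
  have hrefl : In (E₁ 𝒵) (pullback.diagonal π) :=
    (in_E₁_iff (𝒵 := 𝒵) (𝟙 W) (𝟙 W) rfl).2 (IRel.refl _)
  have hsymm : ∀ {T : Scheme.{u}} (a b : T ⟶ W) (h : a ≫ π = b ≫ π),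
      In (E₁ 𝒵) (pullback.lift a b h) → In (E₁ 𝒵) (pullback.lift b a h.symm) := by
    intro T a b h hin
    exact (in_E₁_iff b a h.symm).2 ((in_E₁_iff a b h).1 hin).symm
  have htrans : ∀ {T : Scheme.{u}} (a b c : T ⟶ W) (h : a ≫ π = b ≫ π) (h' : b ≫ π = c ≫ π),
      In (E₁ 𝒵) (pullback.lift a b h) → In (E₁ 𝒵) (pullback.lift b c h') →
        In (E₁ 𝒵) (pullback.lift a c (h.trans h')) := by
    intro T a b c h h' hin hin'
    exact (in_E₁_iff a c (h.trans h')).2 (((in_E₁_iff a b h).1 hin).trans ((in_E₁_iff b c h').1 hin'))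
  obtain ⟨ℋ, q, p, hqe, hqs, hpe, hqp, hker⟩ :=
    exists_quotient π (E₁ 𝒵) hE₁cl hrefl hsymm htrans
  subst hqp
  have hq : ∀ {T : Scheme.{u}} (a b : T ⟶ W), a ≫ q = b ≫ q ↔ IRel 𝒵 a b := by
    intro T a b
    rw [hker]
    constructor
    · rintro ⟨h, hin⟩
      exact (in_E₁_iff a b h).1 hin
    · intro h
      exact ⟨h.1, (in_E₁_iff a b h.1).2 h⟩
  obtain ⟨𝒵', hpull, hcl', hfin', hmono⟩ := exists_descent q p 𝒵 hfin hcl hq
  subst hpull
  have hunit' : ∀ {T : Scheme.{u}} (y : T ⟶ ℋ), In 𝒵' (Fib.mk y (y ≫ p ≫ G.e)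
      (by rw [Category.assoc, Category.assoc, G.e_s, Category.comp_id])) := by
    intro T y
    haveI : Surjective (pullback.fst y q) := inferInstance
    refine in_of_precomp_surjective (pullback.fst y q) (pullback.fst y q).surjective ?_
    rw [Fib.precomp_mk]
    have h1 := hunit (pullback.snd y q)
    rw [in_pull_mk_iff] at h1
    refine (in_congr (Fib.mk_congr _ ?_ ?_)).1 h1
    · exact pullback.condition.symm
    · rw [← Category.assoc (pullback.fst y q), pullback.condition]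
      simp only [Category.assoc]
  refine ⟨⟨⟨ℋ, p, q w, 𝒵', hpe, ?_, ?_, hcl', hfin', ?_⟩, hunit'⟩, ⟨hfin', hunit', hmono⟩⟩
  · rw [← Scheme.Hom.comp_apply]
    exact hw
  · exact isIso_residueFieldMap_of_comp q p w hres
  · intro ζ hζ
    obtain ⟨ζ', hζ1, hζ2⟩ := exists_preimage_of_isPullback (isPullback_κ (π := p) q) ζ w hζ
    rw [← hζ1, ← mem_pull_iff, hfib ζ' hζ2, ← Scheme.Hom.comp_apply, κ_hE]

end Groth.Agent.Lib.H5bEL
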