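import Mathlib
import Groth.Agent.Lib.H5bELZ0

/-!
# Shrinking the chart to the locus where the stabiliser is full (helper5)

`Full 𝒵 x h`: the point `(x, h)` of `𝒵` is the source part of an arrow of the stabiliser.  `Hp 𝒵` is
the open locus of `x` all of whose points of `𝒵(x)` are full; it is invariant under the stabiliser, and
the restriction of the chart to it is `Good`.
-/

set_option autoImplicit false
set_option linter.unusedSectionVars false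
set_option linter.style.haveILetI false
universe u

open CategoryTheory CategoryTheory.Limits AlgebraicGeometry
open Groth.Agent.Lib.Helper2.Grpd

namespace Groth.Agent.Lib.H5bEL

variable {S : Scheme.{u}} {G : Grpd.GroupoidScheme S}

section Restrict

variable {W : Scheme.{u}} {π : W ⟶ G.U} {𝒵 : (Fib.E G π).Opens}

/-- restriction of a `Pre` datum to an open which is full and invariant is `Good`. -/
theorem good_restrict (hP : Pre G π 𝒵) (O : W.Opens)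
    (hα : ∀ (K : Type u) [Field K] (x : Spec (CommRingCat.of K) ⟶ W)
      (h : Spec (CommRingCat.of K) ⟶ G.R) (hx : h ≫ G.s = x ≫ π), In O x →
      In 𝒵 (Fib.mk x h hx.symm) →
      ∃ (L : Type u) (_ : Field L) (l : Spec (CommRingCat.of L) ⟶ Spec (CommRingCat.of K))
        (z : Spec (CommRingCat.of L) ⟶ W) (hz : (l ≫ h) ≫ G.t = z ≫ π), In O z ∧
        SRel 𝒵 (l ≫ x) z (l ≫ h) (by rw [Category.assoc, hx, Category.assoc]) hz) :
    Good G (O.ι ≫ π) (pull O.ι 𝒵) := by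
  haveI := hP.fin
  refine ⟨⟨isFinite_pull O.ι 𝒵, ?_, ?_⟩, ?_⟩
  · intro T y
    rw [in_pull_mk_iff]
    refine (in_congr (Fib.mk_congr _ rfl ?_)).1 (hP.unit (y ≫ O.ι))
    simp only [Category.assoc]
  · intro K _ x y hxy hS
    rw [srel_pull_iff] at hS
    have h1 := hP.mono K (x ≫ O.ι) (y ≫ O.ι) (by simpa only [Category.assoc] using hxy)
      (hS.congr rfl rfl (by simp only [Category.assoc]))
    exact (cancel_mono O.ι).1 h1
  · intro K _ x h hx hin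
    rw [in_pull_mk_iff] at hin
    obtain ⟨L, _, l, z, hz, hzO, hS⟩ := hα K (x ≫ O.ι) h
      (hx.trans (Category.assoc _ _ _).symm) (in_ι x) hin
    obtain ⟨z', hz'⟩ := in_iff_exists_lift.1 hzO
    refine ⟨L, inferInstance, l, z', by rw [hz, ← hz', Category.assoc], ?_⟩
    rw [srel_pull_iff]
    exact hS.congr (Category.assoc _ _ _).symm hz'.symm rfl

end Restrict

section Shrink

variable {W : Scheme.{u}} {π : W ⟶ G.U} (𝒵 : (Fib.E G π).Opens)

/-- `(x, h)` is the source part of an arrow of the stabiliser, after a field extension. -/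
def Full {K : Type u} [Field K] (x : Spec (CommRingCat.of K) ⟶ W)
    (h : Spec (CommRingCat.of K) ⟶ G.R) (hx : h ≫ G.s = x ≫ π) : Prop :=
  ∃ (L : Type u) (_ : Field L) (l : Spec (CommRingCat.of L) ⟶ Spec (CommRingCat.of K))
    (z : Spec (CommRingCat.of L) ⟶ W) (hz : (l ≫ h) ≫ G.t = z ≫ π),
    SRel 𝒵 (l ≫ x) z (l ≫ h) (by rw [Category.assoc, hx, Category.assoc]) hz

variable {𝒵} in
lemma Full.congr {K : Type u} [Field K] {x x' : Spec (CommRingCat.of K) ⟶ W}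
    {h h' : Spec (CommRingCat.of K) ⟶ G.R} {hx : h ≫ G.s = x ≫ π} (hF : Full 𝒵 x h hx)
    (e1 : x = x') (e2 : h = h') : Full 𝒵 x' h' (by subst e1 e2; exact hx) := by
  subst e1 e2
  exact hF

variable [IsFinite (𝒵.ι ≫ Fib.pE G π)] [Etale π]

/-- the open locus of full points of `E`. -/
noncomputable def D : (Fib.E G π).Opens :=
  ⟨Set.range ((Stab.P G π 𝒵).ι ≫ Stab.ν G π),
    ((Stab.P G π 𝒵).ι ≫ Stab.ν G π).isOpenMap.isOpen_range⟩

theorem mem_D_iff (K : Type u) [Field K] (x : Spec (CommRingCat.of K) ⟶ W)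
    (h : Spec (CommRingCat.of K) ⟶ G.R) (hx : h ≫ G.s = x ≫ π)
    (p : Spec (CommRingCat.of K)) : Fib.mk x h hx.symm p ∈ D 𝒵 ↔ Full 𝒵 x h hx := by
  constructor
  · intro hmem
    obtain ⟨L, _, l, b, hb⟩ := exists_lift_point ((Stab.P G π 𝒵).ι ≫ Stab.ν G π) K
      (Fib.mk x h hx.symm) (fun p' => by rw [Subsingleton.elim p' p]; exact hmem)
    have hβ := (Stab.in_P_iff G π 𝒵 (b ≫ (Stab.P G π 𝒵).ι)).1 (in_ι b)
    have e1 : (b ≫ (Stab.P G π 𝒵).ι) ≫ Res.s G π = l ≫ x := by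
      rw [← Stab.ν_pE, ← Category.assoc, Category.assoc b, hb, Category.assoc, Fib.mk_pE]
    have e2 : (b ≫ (Stab.P G π 𝒵).ι) ≫ Res.fR G π = l ≫ h := by
      rw [← Stab.ν_hE, ← Category.assoc, Category.assoc b, hb, Category.assoc, Fib.mk_hE]
    refine ⟨L, inferInstance, l, (b ≫ (Stab.P G π 𝒵).ι) ≫ Res.t G π, ?_, hβ.congr e1 rfl e2⟩
    rw [← e2, Category.assoc, Res.fR_t]
    simp only [Category.assoc]
  · rintro ⟨L, _, l, z, hz, hS⟩
    have hin := (Stab.in_P_mk_iff G π 𝒵 (l ≫ h) z (l ≫ x) hz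
      (by rw [Category.assoc, hx, Category.assoc])).2 hS
    obtain ⟨b, hb⟩ := in_iff_exists_lift.1 hin
    refine ⟨b (pt L), ?_⟩
    have e1 : b ≫ (Stab.P G π 𝒵).ι ≫ Stab.ν G π = l ≫ Fib.mk x h hx.symm := by
      rw [← Category.assoc, hb]
      apply Fib.hom_ext
      · rw [Category.assoc, Stab.ν_pE, Res.mk_s, Category.assoc, Fib.mk_pE]
      · rw [Category.assoc, Stab.ν_hE, Res.mk_fR, Category.assoc, Fib.mk_hE]
    rw [← Scheme.Hom.comp_apply, e1, Scheme.Hom.comp_apply, Subsingleton.elim (l (pt L)) p]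

/-- the open locus of points all of whose pieces are full. -/
noncomputable def Hp : W.Opens :=
  ⟨((𝒵.ι ≫ Fib.pE G π) '' (𝒵.ι ⁻¹' ((D 𝒵 : Set ↑(Fib.E G π))ᶜ)))ᶜ, by
    rw [isOpen_compl_iff]
    exact (𝒵.ι ≫ Fib.pE G π).isClosedMap _
      ((D 𝒵).2.isClosed_compl.preimage 𝒵.ι.continuous)⟩

lemma mem_Hp_iff (x : W) :
    x ∈ Hp 𝒵 ↔ ∀ ζ : Fib.E G π, ζ ∈ 𝒵 → Fib.pE G π ζ = x → ζ ∈ D 𝒵 := by
  change x ∈ (_ : Set _)ᶜ ↔ _
  simp only [Set.mem_compl_iff, Set.mem_image, Set.mem_preimage, SetLike.mem_coe, not_exists,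
    not_and]
  constructor
  · intro h ζ hζ hx
    by_contra hne
    exact h ⟨ζ, hζ⟩ hne (by rw [Scheme.Hom.comp_apply]; exact hx)
  · intro h ζ' hne hx
    refine hne (h (𝒵.ι ζ') ζ'.2 ?_)
    rw [← Scheme.Hom.comp_apply]
    exact hx

theorem full_of_in_Hp (K : Type u) [Field K] (x : Spec (CommRingCat.of K) ⟶ W)
    (hxO : In (Hp 𝒵) x) (h : Spec (CommRingCat.of K) ⟶ G.R) (hx : h ≫ G.s = x ≫ π)
    (hin : In 𝒵 (Fib.mk x h hx.symm)) : Full 𝒵 x h hx := by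
  rw [← mem_D_iff 𝒵 K x h hx (pt K)]
  refine (mem_Hp_iff 𝒵 _).1 (hxO (pt K)) _ (hin (pt K)) ?_
  rw [← Scheme.Hom.comp_apply, Fib.mk_pE]

theorem in_Hp_of_full (K : Type u) [Field K] (x : Spec (CommRingCat.of K) ⟶ W)
    (hfull : ∀ (M : Type u) [Field M] (a : Spec (CommRingCat.of M) ⟶ Spec (CommRingCat.of K))
      (k : Spec (CommRingCat.of M) ⟶ G.R) (hk : k ≫ G.s = (a ≫ x) ≫ π),
      In 𝒵 (Fib.mk (a ≫ x) k hk.symm) → Full 𝒵 (a ≫ x) k hk) : In (Hp 𝒵) x := by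
  intro p
  rw [mem_Hp_iff]
  intro ζ hζ hpE
  obtain ⟨M, _, a, c, hac, ha, hc⟩ := exists_common_point x (Fib.pE G π) p ζ hpE.symm
  have hk : (c ≫ Fib.hE G π) ≫ G.s = (a ≫ x) ≫ π := by
    rw [Category.assoc, ← Fib.pE_π, ← Category.assoc, ← hac]
  have e1 : c = Fib.mk (a ≫ x) (c ≫ Fib.hE G π) hk.symm := by
    apply Fib.hom_ext
    · rw [Fib.mk_pE, hac]
    · rw [Fib.mk_hE]
  have hin : In 𝒵 (Fib.mk (a ≫ x) (c ≫ Fib.hE G π) hk.symm) := by
    rw [← e1]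
    exact (in_iff_of_subsingleton (pt M)).2 (by rw [hc]; exact hζ)
  have h1 := (mem_D_iff 𝒵 M (a ≫ x) (c ≫ Fib.hE G π) hk (pt M)).2 (hfull M a _ hk hin)
  rwa [← e1, hc] at h1

theorem in_Hp_of_srel (K : Type u) [Field K] (x z : Spec (CommRingCat.of K) ⟶ W)
    (g : Spec (CommRingCat.of K) ⟶ G.R) (hs : g ≫ G.s = x ≫ π) (ht : g ≫ G.t = z ≫ π)
    (hS : SRel 𝒵 x z g hs ht) (hxO : In (Hp 𝒵) x) : In (Hp 𝒵) z := by
  apply in_Hp_of_full
  intro M _ a k hk hin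
  have hSa := hS.precomp a
  have hin' := (hSa.in_iff k hk).1 hin
  unfold act at hin'
  obtain ⟨L, _, l, z', hz', hS'⟩ := full_of_in_Hp 𝒵 M (a ≫ x) (hxO.precomp a) _
    (by rw [comp_s, Category.assoc, hs, Category.assoc]) hin'
  have hS2 := (hSa.precomp l).symm
  have hS3 := hS2.trans hS'
  refine ⟨L, inferInstance, l, z', ?_, hS3.congr rfl rfl ?_⟩
  · rw [← hz', precomp_comp, comp_t, Category.assoc]
  · rw [comp_congr G _ (precomp_comp G l k (a ≫ g) _) rfl]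
    exact comp_comp_i G (l ≫ k) (l ≫ a ≫ g) _ _

end Shrink

section Main

variable {u : G.U} {Z0 : Set G.R}

theorem Chart.w_mem_Hp (C : Chart G u Z0) (hZ : Z0Closed G u Z0) :
    haveI := C.fin; haveI := C.etale; C.w ∈ Hp C.𝒵 := by
  haveI := C.fin
  haveI := C.etale
  haveI := C.res
  rw [mem_Hp_iff]
  intro ζ hζ hpE
  obtain ⟨K, _, ζb, hζb⟩ := exists_field_point ζ
  have hx : (ζb ≫ Fib.hE G C.π) ≫ G.s = (ζb ≫ Fib.pE G C.π) ≫ C.π := by
    rw [Category.assoc, Category.assoc, Fib.pE_π]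
  have e1 : ζb = Fib.mk (ζb ≫ Fib.pE G C.π) (ζb ≫ Fib.hE G C.π) hx.symm := Fib.eq_mk ζb
  have hZ0 : ∀ p, (ζb ≫ Fib.hE G C.π) p ∈ Z0 := by
    intro p
    rw [Scheme.Hom.comp_apply, hζb]
    exact (C.fibre ζ hpE).1 hζ
  have hxw : ∀ p, (ζb ≫ Fib.pE G C.π) p = C.w := by
    intro p
    rw [Scheme.Hom.comp_apply, hζb, hpE]
  obtain ⟨z, hz1, hz2⟩ := exists_lift_at C.π C.w K ((ζb ≫ Fib.hE G C.π) ≫ G.t) (by
    intro p
    rw [Scheme.Hom.comp_apply, hZ.tgt _ (hZ0 p), C.hw])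
  have hS := C.srel_of_Z0 hZ (ζb ≫ Fib.pE G C.π) z (ζb ≫ Fib.hE G C.π) hx hz1.symm hxw hz2 hZ0
  have hF : Full C.𝒵 (ζb ≫ Fib.pE G C.π) (ζb ≫ Fib.hE G C.π) hx :=
    ⟨K, inferInstance, 𝟙 _, z, by rw [Category.id_comp, hz1],
      hS.congr (Category.id_comp _).symm rfl (Category.id_comp _).symm⟩
  have h1 := (mem_D_iff C.𝒵 K _ _ hx (pt K)).2 hF
  rwa [← e1, hζb] at h1

/-- **a chart which is `Good`**. -/
theorem exists_chart_good (C : Chart G u Z0) (hP : Pre G C.π C.𝒵) (hZ : Z0Closed G u Z0) :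
    ∃ C' : Chart G u Z0, Good G C'.π C'.𝒵 := by
  haveI := C.fin
  haveI := C.etale
  have hw := C.w_mem_Hp hZ
  refine ⟨C.pull (Hp C.𝒵).ι ⟨C.w, hw⟩ rfl inferInstance, ?_⟩
  refine good_restrict hP (Hp C.𝒵) ?_
  intro K _ x h hx hxO hin
  obtain ⟨L, _, l, z, hz, hS⟩ := full_of_in_Hp C.𝒵 K x hxO h hx hin
  exact ⟨L, inferInstance, l, z, hz, in_Hp_of_srel C.𝒵 L (l ≫ x) z (l ≫ h) _ hz hS (hxO.precomp l),
    hS⟩

end Main

end Groth.Agent.Lib.H5bEL
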