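import Mathlib
import Groth.Prelude.Def_Grpd
import Groth.Agent.Lib.Helper2Grpd

set_option autoImplicit false
universe u
open CategoryTheory CategoryTheory.Limits AlgebraicGeometry

namespace Groth.Agent.Lib.R2H4.SubGrpd

open Groth.Agent.Lib.Helper2.Grpd

variable {S : Scheme.{u}} (G : Grpd.GroupoidScheme S) {Z : Scheme.{u}} (ι : Z ⟶ G.R)

/-- the map on fibre products induced by `ι`. -/
noncomputable abbrev prodMap : pullback (ι ≫ G.s) (ι ≫ G.t) ⟶ pullback G.s G.t :=
  pullback.map (ι ≫ G.s) (ι ≫ G.t) G.s G.t ι ι (𝟙 _) (by rw [Category.comp_id])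
    (by rw [Category.comp_id])

variable (c' : pullback (ι ≫ G.s) (ι ≫ G.t) ⟶ Z) (hc : c' ≫ ι = prodMap G ι ≫ G.c)

include hc in
lemma key {T : Scheme.{u}} (α β : T ⟶ Z) (h : α ≫ ι ≫ G.s = β ≫ ι ≫ G.t) :
    (pullback.lift α β h ≫ c') ≫ ι =
      comp G (α ≫ ι) (β ≫ ι) (by rw [Category.assoc, Category.assoc]; exact h) := by
  rw [Category.assoc, hc, ← Category.assoc]
  unfold comp
  congr 1
  apply pullback.hom_ext
  · rw [Category.assoc, pullback.lift_fst, ← Category.assoc, pullback.lift_fst, pullback.lift_fst]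
  · rw [Category.assoc, pullback.lift_snd, ← Category.assoc, pullback.lift_snd, pullback.lift_snd]

variable [Mono ι] (e' : G.U ⟶ Z) (he : e' ≫ ι = G.e) (i' : Z ⟶ Z) (hi : i' ≫ ι = ι ≫ G.i)

/-- The groupoid induced on a monomorphism `ι : Z ⟶ R` through which identity, inverse and
composition factor. -/
noncomputable def subGroupoid : Grpd.GroupoidScheme S where
  U := G.U
  R := Z
  pU := G.pU
  pR := ι ≫ G.pR
  s := ι ≫ G.s
  t := ι ≫ G.t
  e := e'
  i := i'
  c := c'
  s_over := by rw [Category.assoc, G.s_over]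
  t_over := by rw [Category.assoc, G.t_over]
  comp_s := fun α β h => by
    rw [← Category.assoc, key G ι c' hc α β h, comp_s, Category.assoc]
  comp_t := fun α β h => by
    rw [← Category.assoc, key G ι c' hc α β h, comp_t, Category.assoc]
  assoc := fun α β γ h₁ h₂ => by
    rw [← cancel_mono ι]
    refine (key G ι c' hc _ _ _).trans ?_
    refine Eq.trans ?_ (key G ι c' hc _ _ _).symm
    rw [comp_congr G _ (key G ι c' hc α β h₁) rfl, comp_congr G _ rfl (key G ι c' hc β γ h₂)]
    exact comp_assoc G (α ≫ ι) (β ≫ ι) (γ ≫ ι) _ _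
  e_s := by rw [← Category.assoc, he, G.e_s]
  e_t := by rw [← Category.assoc, he, G.e_t]
  comp_e := fun α => by
    rw [← cancel_mono ι, key G ι c' hc]
    refine comp_e G (α ≫ ι) _ ?_ _
    simp only [Category.assoc, he]
  e_comp := fun α => by
    rw [← cancel_mono ι, key G ι c' hc]
    refine e_comp G (α ≫ ι) _ ?_ _
    simp only [Category.assoc, he]
  i_s := by rw [← Category.assoc, hi, Category.assoc, G.i_s]
  i_t := by rw [← Category.assoc, hi, Category.assoc, G.i_t]
  comp_i := fun α => by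
    rw [← cancel_mono ι, key G ι c' hc]
    have h1 : (α ≫ i') ≫ ι = (α ≫ ι) ≫ G.i := by rw [Category.assoc, hi, Category.assoc]
    rw [comp_congr G _ rfl h1, comp_i]
    simp only [Category.assoc, he]
  i_comp := fun α => by
    rw [← cancel_mono ι, key G ι c' hc]
    have h1 : (α ≫ i') ≫ ι = (α ≫ ι) ≫ G.i := by rw [Category.assoc, hi, Category.assoc]
    rw [comp_congr G _ h1 rfl, i_comp]
    simp only [Category.assoc, he]

/-- the inclusion of the sub-groupoid. -/
noncomputable def subGroupoidHom :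
    Grpd.GroupoidScheme.Hom (subGroupoid G ι c' hc e' he i' hi) G where
  fU := 𝟙 G.U
  fR := ι
  fU_over := Category.id_comp _
  comm_s := (Category.comp_id _).symm
  comm_t := (Category.comp_id _).symm
  comm_c := fun α β h => key G ι c' hc α β h

end Groth.Agent.Lib.R2H4.SubGrpd
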