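import Mathlib
import Groth.Agent.Lib.H5bELShrink
import Groth.Agent.Lib.H5bOrbit
import Groth.Agent.Lib.R2H4SubGrpd

/-!
# An affine invariant neighbourhood of the marked point (helper5)

For a `Good` chart the stabiliser is a finite flat groupoid on the chart fixing the marked point; an
invariant affine open neighbourhood gives a `Good` affine chart.
-/

set_option autoImplicit false
set_option linter.unusedSectionVars false
set_option linter.style.haveILetI false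
universe u

open CategoryTheory CategoryTheory.Limits AlgebraicGeometry
open Groth.Agent.Lib.Helper2.Grpd

namespace Groth.Agent.Lib.H5bEL

variable {S : Scheme.{u}} {G : Grpd.GroupoidScheme S}

section Inst

variable {W : Scheme.{u}} (π : W ⟶ G.U)

instance flat_pE [Flat G.s] : Flat (Fib.pE G π) := by unfold Fib.pE; infer_instance

instance lofp_pE [LocallyOfFinitePresentation G.s] : LocallyOfFinitePresentation (Fib.pE G π) := by
  unfold Fib.pE; infer_instance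

lemma flat_res_s [Flat G.s] [Etale π] : Flat (Res.s G π) := by
  rw [← Stab.ν_pE]
  infer_instance

lemma lofp_res_s [LocallyOfFinitePresentation G.s] [Etale π] :
    LocallyOfFinitePresentation (Res.s G π) := by
  rw [← Stab.ν_pE]
  infer_instance

end Inst

variable {u : G.U} {Z0 : Set G.R}

/-- arrows of the stabiliser out of the marked point lie over `Z0`. -/
theorem Chart.fR_mem_Z0 (C : Chart G u Z0) (hP : Pre G C.π C.𝒵) (r : Res.R G C.π)
    (hr : haveI := C.fin; r ∈ Stab.P G C.π C.𝒵) (hs : Res.s G C.π r = C.w) :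
    Res.fR G C.π r ∈ Z0 := by
  haveI := C.fin
  obtain ⟨K, _, b, hb⟩ := exists_field_point r
  have hbP : In (Stab.P G C.π C.𝒵) b := (in_iff_of_subsingleton (pt K)).2 (by rw [hb]; exact hr)
  have h1 := Stab.in_ν_of_in_P hP b hbP (pt K)
  rw [Scheme.Hom.comp_apply, hb, C.fibre _ (by
    rw [← Scheme.Hom.comp_apply, Stab.ν_pE]; exact hs), ← Scheme.Hom.comp_apply, Stab.ν_hE] at h1
  exact h1

/-- arrows of the stabiliser out of the marked point end at the marked point. -/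
theorem Chart.t_eq_w (C : Chart G u Z0) (hP : Pre G C.π C.𝒵) (hZ : Z0Closed G u Z0)
    (r : Res.R G C.π) (hr : haveI := C.fin; r ∈ Stab.P G C.π C.𝒵) (hs : Res.s G C.π r = C.w) :
    Res.t G C.π r = C.w := by
  haveI := C.fin
  obtain ⟨K, _, b, hb⟩ := exists_field_point r
  have hbP : In (Stab.P G C.π C.𝒵) b := (in_iff_of_subsingleton (pt K)).2 (by rw [hb]; exact hr)
  have hS := (Stab.in_P_iff G C.π C.𝒵 b).1 hbP
  have h1 := C.eq_w_of_srel hZ hP K _ _ _ _ _ (by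
    intro p
    rw [Scheme.Hom.comp_apply, hb, hs]) (by
    intro p
    rw [Scheme.Hom.comp_apply, hb]
    exact C.fR_mem_Z0 hP r hr hs) hS (pt K)
  rwa [Scheme.Hom.comp_apply, hb] at h1

/-- the stabiliser as a groupoid scheme on the chart. -/
noncomputable def stabGrpd {W : Scheme.{u}} (π : W ⟶ G.U) (𝒵 : (Fib.E G π).Opens)
    [IsFinite (𝒵.ι ≫ Fib.pE G π)] : Grpd.GroupoidScheme S :=
  @Groth.Agent.Lib.R2H4.SubGrpd.subGroupoid S (res G π) _ (Stab.P G π 𝒵).ι
    (Stab.exists_cP G π 𝒵).choose (Stab.exists_cP G π 𝒵).choose_spec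
    (inferInstanceAs (Mono (Stab.P G π 𝒵).ι))
    (Stab.exists_eP G π 𝒵).choose (Stab.exists_eP G π 𝒵).choose_spec
    (Stab.exists_iP G π 𝒵).choose (Stab.exists_iP G π 𝒵).choose_spec

lemma stabGrpd_s {W : Scheme.{u}} (π : W ⟶ G.U) (𝒵 : (Fib.E G π).Opens)
    [IsFinite (𝒵.ι ≫ Fib.pE G π)] : (stabGrpd π 𝒵).s = (Stab.P G π 𝒵).ι ≫ Res.s G π := rfl

lemma stabGrpd_t {W : Scheme.{u}} (π : W ⟶ G.U) (𝒵 : (Fib.E G π).Opens)
    [IsFinite (𝒵.ι ≫ Fib.pE G π)] : (stabGrpd π 𝒵).t = (Stab.P G π 𝒵).ι ≫ Res.t G π := rfl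

/-- **a `Good` affine chart**. -/
theorem exists_chart_good_affine [Flat G.s] [LocallyOfFinitePresentation G.s] (C : Chart G u Z0)
    (hG : Good G C.π C.𝒵) (hZ : Z0Closed G u Z0) :
    ∃ C' : Chart G u Z0, IsAffine C'.W ∧ Good G C'.π C'.𝒵 := by
  haveI := C.fin
  haveI := C.etale
  haveI : IsFinite (stabGrpd C.π C.𝒵).s := Stab.isFinite_s hG
  have hfl : Flat ((Stab.P G C.π C.𝒵).ι ≫ Res.s G C.π) := by
    haveI := flat_res_s (G := G) C.π
    infer_instance
  have hfp : LocallyOfFinitePresentation ((Stab.P G C.π C.𝒵).ι ≫ Res.s G C.π) := by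
    haveI := lofp_res_s (G := G) C.π
    infer_instance
  haveI : Flat (stabGrpd C.π C.𝒵).s := hfl
  haveI : LocallyOfFinitePresentation (stabGrpd C.π C.𝒵).s := hfp
  -- an affine open neighbourhood of the marked point
  obtain ⟨V, hV, hwV⟩ : ∃ V : C.W.Opens, IsAffineOpen V ∧ C.w ∈ V := by
    obtain ⟨_, ⟨V, hV, rfl⟩, hwV, -⟩ := C.W.isBasis_affineOpens.exists_subset_of_mem_open
      (Set.mem_univ C.w) isOpen_univ
    exact ⟨V, hV, hwV⟩
  have huV : ∀ r : (Stab.P G C.π C.𝒵).toScheme,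
      ((Stab.P G C.π C.𝒵).ι ≫ Res.s G C.π) r = C.w →
        ((Stab.P G C.π C.𝒵).ι ≫ Res.t G C.π) r ∈ V := by
    intro r hr
    have h1 := C.t_eq_w hG.toPre hZ ((Stab.P G C.π C.𝒵).ι r) r.2 (by
      rw [← Scheme.Hom.comp_apply]; exact hr)
    rw [Scheme.Hom.comp_apply, h1]
    exact hwV
  obtain ⟨O, hO, hwO, hinv⟩ := Groth.Agent.Lib.H5bRG.exists_invariant_affine_open
    (stabGrpd C.π C.𝒵) C.w V hV huV
  obtain ⟨O', hO'⟩ : ∃ O' : C.W.Opens, O' = O := ⟨O, rfl⟩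
  subst hO'
  have hinv' : ∀ r : (Stab.P G C.π C.𝒵).toScheme,
      ((Stab.P G C.π C.𝒵).ι ≫ Res.s G C.π) r ∈ O' ↔
        ((Stab.P G C.π C.𝒵).ι ≫ Res.t G C.π) r ∈ O' := by
    intro r
    have h2 : r ∈ (stabGrpd C.π C.𝒵).s ⁻¹ᵁ O' ↔ r ∈ (stabGrpd C.π C.𝒵).t ⁻¹ᵁ O' := by rw [hinv]
    exact h2
  haveI : IsAffine O'.toScheme := hO
  refine ⟨C.pull O'.ι ⟨C.w, hwO⟩ rfl inferInstance, hO, ?_⟩
  refine good_restrict hG.toPre O' ?_
  intro K _ x h hx hxO hin
  obtain ⟨L, _, l, z, hz, hS⟩ := hG.full K x h hx hin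
  refine ⟨L, inferInstance, l, z, hz, ?_, hS⟩
  have hβ := (Stab.in_P_mk_iff G C.π C.𝒵 (l ≫ h) z (l ≫ x) hz
    (by rw [Category.assoc, hx, Category.assoc])).2 hS
  obtain ⟨b, hb⟩ := in_iff_exists_lift.1 hβ
  have h1 : ((Stab.P G C.π C.𝒵).ι ≫ Res.s G C.π) (b (pt L)) ∈ O' := by
    rw [← Scheme.Hom.comp_apply, ← Category.assoc, hb, Res.mk_s]
    exact hxO.precomp l (pt L)
  rw [hinv', ← Scheme.Hom.comp_apply, ← Category.assoc, hb, Res.mk_t] at h1
  exact (in_iff_of_subsingleton (pt L)).2 h1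

end Groth.Agent.Lib.H5bEL
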