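import Mathlib
import Groth.Prelude.Def_Dual3
import Groth.Agent.Lib.H5bELInv
import Groth.Agent.Lib.H5bELDescB

/-!
# Étale localisation of groupoid schemes: the core theorem (helper5)

`main`: `G` a groupoid scheme with `U` affine and `s` separated, flat, locally of finite presentation;
`Z0` a finite set of arrows `u ⟶ u`, containing `e(u)`, closed under composition and inverse, at which
`s` is quasi-finite.  Then there is an affine étale neighbourhood `(U', u') ⟶ (U, u)` with trivial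
residue field extension such that the restriction of `G` to `U'` has an open subgroupoid `P` with
finite source and target containing every arrow `u' ⟶ u'` lying over `Z0`.
-/

set_option autoImplicit false
set_option linter.unusedSectionVars false
set_option linter.style.haveILetI false
universe u

open CategoryTheory CategoryTheory.Limits AlgebraicGeometry
open Groth.Agent.Lib.Helper2.Grpd

namespace Groth.Agent.Lib.H5bEL

variable {S : Scheme.{u}} {G : Grpd.GroupoidScheme S}

/-- the frozen topological form of quasi-finiteness at a point. -/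
lemma quasiFiniteAt_of_dual3 {X Y : Scheme.{u}} (g : X ⟶ Y) [LocallyOfFiniteType g] (x : X)
    (h : Dual3.QuasiFiniteAt g x) : g.QuasiFiniteAt x :=
  Scheme.Hom.quasiFiniteAt_iff_isOpen_singleton_asFiber.2 h

/-- source of a composite, on points. -/
lemma s_c_apply (ω : ↥(pullback G.s G.t)) : G.s (G.c ω) = G.s (pullback.snd G.s G.t ω) := by
  have h := G.comp_s (pullback.fst G.s G.t) (pullback.snd G.s G.t) pullback.condition
  have e1 : pullback.lift (pullback.fst G.s G.t) (pullback.snd G.s G.t) pullback.condition =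
      𝟙 _ := by
    apply pullback.hom_ext <;> simp
  rw [e1, Category.id_comp] at h
  rw [← Scheme.Hom.comp_apply, h, Scheme.Hom.comp_apply]

/-- target of a composite, on points. -/
lemma t_c_apply (ω : ↥(pullback G.s G.t)) : G.t (G.c ω) = G.t (pullback.fst G.s G.t ω) := by
  have h := G.comp_t (pullback.fst G.s G.t) (pullback.snd G.s G.t) pullback.condition
  have e1 : pullback.lift (pullback.fst G.s G.t) (pullback.snd G.s G.t) pullback.condition =
      𝟙 _ := by
    apply pullback.hom_ext <;> simp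
  rw [e1, Category.id_comp] at h
  rw [← Scheme.Hom.comp_apply, h, Scheme.Hom.comp_apply]

/-- the residue field map of a section is an isomorphism. -/
lemma isIso_residueFieldMap_of_section {X Y : Scheme.{u}} (e : X ⟶ Y) (s : Y ⟶ X)
    (h : e ≫ s = 𝟙 X) (x : X) : IsIso (e.residueFieldMap x) := by
  have h0 : ∀ (f : X ⟶ X), f = 𝟙 X → IsIso (f.residueFieldMap x) := by
    intro f hf
    subst hf
    rw [Scheme.residueFieldMap_id]
    exact IsIso.id _
  have h1 : IsIso ((e ≫ s).residueFieldMap x) := h0 _ h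
  rw [Scheme.residueFieldMap_comp] at h1
  rw [ConcreteCategory.isIso_iff_bijective]
  refine ⟨(e.residueFieldMap x).hom.injective, ?_⟩
  have h2 := ((ConcreteCategory.isIso_iff_bijective _).1 h1).2
  intro c
  obtain ⟨a, ha⟩ := h2 c
  exact ⟨s.residueFieldMap (e x) a, ha⟩

theorem exists_good_affine_chart [IsAffine G.U] [IsSeparated G.s] [Flat G.s]
    [LocallyOfFinitePresentation G.s] (u : G.U) (Z0 : Set G.R) (hfin : Z0.Finite)
    (hZ0 : ∀ z ∈ Z0, G.s z = u ∧ G.s.QuasiFiniteAt z) (he : G.e u ∈ Z0)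
    (hZ : Z0Closed G u Z0) : ∃ C : Chart G u Z0, IsAffine C.W ∧ Good G C.π C.𝒵 := by
  obtain ⟨C₀, hC₀⟩ := exists_chart u Z0 hfin hZ0 he
  obtain ⟨C₁, hP₁⟩ := exists_chart_pre C₀ hC₀
  obtain ⟨C₂, hG₂⟩ := exists_chart_good C₁ hP₁ hZ
  exact exists_chart_good_affine C₂ hG₂ hZ

/-- **étale localisation of groupoid schemes, core form**. -/
theorem main [IsAffine G.U] [IsSeparated G.s] [Flat G.s]
    [LocallyOfFinitePresentation G.s] (u : G.U) (Z0 : Set G.R) (hfin : Z0.Finite)
    (hZ0 : ∀ z ∈ Z0, G.s z = u ∧ G.s.QuasiFiniteAt z) (he : G.e u ∈ Z0)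
    (hZ : Z0Closed G u Z0) :
    ∃ (G' : Grpd.GroupoidScheme S) (φ : Grpd.GroupoidScheme.Hom G' G) (u' : ↥G'.U),
      IsAffine G'.U ∧ Etale φ.fU ∧ φ.fU u' = u ∧ IsIso (φ.fU.residueFieldMap u') ∧
      IsPullback φ.fR G'.j G.j
        (pullback.map G'.pU G'.pU G.pU G.pU φ.fU φ.fU (𝟙 S)
          ((Category.comp_id _).trans φ.fU_over.symm) ((Category.comp_id _).trans φ.fU_over.symm)) ∧
      ∃ (P : Scheme.{u}) (ιP : P ⟶ G'.R), IsOpenImmersion ιP ∧
        (∃ eP : G'.U ⟶ P, eP ≫ ιP = G'.e) ∧ (∃ iP : P ⟶ P, iP ≫ ιP = ιP ≫ G'.i) ∧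
        (∃ cP : pullback (ιP ≫ G'.s) (ιP ≫ G'.t) ⟶ P,
          cP ≫ ιP = pullback.map (ιP ≫ G'.s) (ιP ≫ G'.t) G'.s G'.t ιP ιP (𝟙 G'.U)
            (Category.comp_id _) (Category.comp_id _) ≫ G'.c) ∧
        IsFinite (ιP ≫ G'.s) ∧ IsFinite (ιP ≫ G'.t) ∧
        ∀ r' : ↥G'.R, G'.s r' = u' → G'.t r' = u' → φ.fR r' ∈ Z0 → ∃ p : ↥P, ιP p = r' := by
  obtain ⟨C, hW, hG⟩ := exists_good_affine_chart u Z0 hfin hZ0 he hZ
  haveI := C.fin
  haveI := C.etale
  have hoi : IsOpenImmersion (Stab.P G C.π C.𝒵).ι := inferInstance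
  refine ⟨res G C.π, resHom G C.π, C.w, hW, C.etale, C.hw, C.res, isPullback_res G C.π,
    (Stab.P G C.π C.𝒵).toScheme, (Stab.P G C.π C.𝒵).ι, hoi,
    Stab.exists_eP G C.π C.𝒵, Stab.exists_iP G C.π C.𝒵, Stab.exists_cP G C.π C.𝒵,
    Stab.isFinite_s hG, Stab.isFinite_t hG, ?_⟩
  intro r' hs ht hr'
  obtain ⟨K, _, b, hb⟩ := exists_field_point (X := Res.R G C.π) r'
  have hS := C.srel_of_Z0 hZ (b ≫ Res.s G C.π) (b ≫ Res.t G C.π) (b ≫ Res.fR G C.π)
    (by rw [Category.assoc, Res.fR_s, Category.assoc])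
    (by rw [Category.assoc, Res.fR_t, Category.assoc])
    (by intro p; rw [Scheme.Hom.comp_apply, hb]; exact hs)
    (by intro p; rw [Scheme.Hom.comp_apply, hb]; exact ht)
    (by intro p; rw [Scheme.Hom.comp_apply, hb]; exact hr')
  have hin := (Stab.in_P_iff G C.π C.𝒵 b).2 hS (pt K)
  rw [hb] at hin
  exact ⟨⟨r', hin⟩, rfl⟩

end Groth.Agent.Lib.H5bEL
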