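import Mathlib
import Groth.Agent.Lib.H5bELMain

/-!
# Quasi-splitting with the explicit restriction (helper5)

`exists_quasi_split`: the étale localisation theorem at `e(u)`, with the restricted groupoid written
as `res G π`.
-/

set_option autoImplicit false
set_option linter.unusedSectionVars false
set_option linter.style.haveILetI false
universe u

open CategoryTheory CategoryTheory.Limits AlgebraicGeometry
open Groth.Agent.Lib.Helper2.Grpd Groth.Agent.Lib.H5bEL

namespace Groth.Agent.Lib.H5bSl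

variable {S : Scheme.{u}} {G : Grpd.GroupoidScheme S}

/-- a field-valued point of the arrows at `e(u)` factors through the identity section. -/
lemma eq_of_at_e {S : Scheme.{u}} (G : Grpd.GroupoidScheme S) (u : ↥G.U) (K : Type u) [Field K]
    (α : Spec (CommRingCat.of K) ⟶ G.R) (hα : ∀ p, α p = G.e u) : α = (α ≫ G.s) ≫ G.e := by
  haveI := isIso_residueFieldMap_of_section G.e G.s G.e_s u
  obtain ⟨b, hb, -⟩ := exists_lift_at G.e u K α hα
  rw [← hb, Category.assoc, Category.assoc, reassoc_of% G.e_s]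

theorem z0Closed_singleton (u : G.U) : Z0Closed G u {G.e u} := by
  refine ⟨fun z hz => ?_, fun ω h1 h2 => ?_, fun z hz => ?_⟩
  · rw [Set.mem_singleton_iff] at hz
    rw [hz, ← Scheme.Hom.comp_apply, G.e_t]
    rfl
  · rw [Set.mem_singleton_iff] at h1 h2 ⊢
    obtain ⟨K, _, a, ha⟩ := exists_field_point ω
    have hα := eq_of_at_e G u K (a ≫ pullback.fst G.s G.t) (by
      intro p
      rw [Scheme.Hom.comp_apply, ha, h1])
    have hβ := eq_of_at_e G u K (a ≫ pullback.snd G.s G.t) (by
      intro p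
      rw [Scheme.Hom.comp_apply, ha, h2])
    have hcond : (a ≫ pullback.fst G.s G.t) ≫ G.s = (a ≫ pullback.snd G.s G.t) ≫ G.t := by
      rw [Category.assoc, Category.assoc, pullback.condition]
    have hvv : (a ≫ pullback.snd G.s G.t) ≫ G.s = (a ≫ pullback.fst G.s G.t) ≫ G.s := by
      have h5 := congrArg (fun f => f ≫ G.t) hβ
      simp only [Category.assoc, G.e_t, Category.comp_id] at h5
      rw [hcond]
      simp only [Category.assoc]
      exact h5.symm
    have hac : a ≫ G.c = comp G (a ≫ pullback.fst G.s G.t) (a ≫ pullback.snd G.s G.t) hcond := by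
      unfold comp
      congr 1
      apply pullback.hom_ext
      · rw [pullback.lift_fst]
      · rw [pullback.lift_snd]
    have h3 : a ≫ G.c = a ≫ pullback.fst G.s G.t := by
      rw [hac]
      refine comp_e G _ _ ?_ _
      rw [← Category.assoc, ← hvv]
      exact hβ
    have h4 := congrArg (fun f : Spec (CommRingCat.of K) ⟶ G.R => f (pt K)) h3
    simp only [Scheme.Hom.comp_apply, ha] at h4
    rw [h4, h1]
  · rw [Set.mem_singleton_iff] at hz ⊢
    rw [hz, ← Scheme.Hom.comp_apply, e_i]

/-- **quasi-splitting after étale localisation, explicit restriction**. -/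
theorem exists_quasi_split [IsAffine G.U] [IsSeparated G.s] [Flat G.s]
    [LocallyOfFinitePresentation G.s] (u : G.U) (hqf : G.s.QuasiFiniteAt (G.e u)) :
    ∃ (U' : Scheme.{u}) (π : U' ⟶ G.U) (u' : U'), IsAffine U' ∧ Etale π ∧ π u' = u ∧
      ∃ (P : Scheme.{u}) (ιP : P ⟶ (res G π).R), IsOpenImmersion ιP ∧
        (∃ eP : (res G π).U ⟶ P, eP ≫ ιP = (res G π).e) ∧
        (∃ iP : P ⟶ P, iP ≫ ιP = ιP ≫ (res G π).i) ∧
        (∃ cP : pullback (ιP ≫ (res G π).s) (ιP ≫ (res G π).t) ⟶ P,
          cP ≫ ιP = pullback.map (ιP ≫ (res G π).s) (ιP ≫ (res G π).t) (res G π).s (res G π).t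
            ιP ιP (𝟙 (res G π).U) (Category.comp_id _) (Category.comp_id _) ≫ (res G π).c) ∧
        IsFinite (ιP ≫ (res G π).s) ∧ IsFinite (ιP ≫ (res G π).t) := by
  classical
  have hZ := z0Closed_singleton (G := G) u
  have he : G.e u ∈ ({G.e u} : Set ↥G.R) := Set.mem_singleton _
  obtain ⟨C, hW, hG⟩ := exists_good_affine_chart u {G.e u} (Set.finite_singleton _)
    (fun z hz => by
      rw [Set.mem_singleton_iff] at hz
      subst hz
      refine ⟨?_, hqf⟩
      rw [← Scheme.Hom.comp_apply, G.e_s]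
      rfl) he hZ
  haveI := C.fin
  haveI := C.etale
  have hoi : IsOpenImmersion (Stab.P G C.π C.𝒵).ι := inferInstance
  exact ⟨C.W, C.π, C.w, hW, C.etale, C.hw, (Stab.P G C.π C.𝒵).toScheme, (Stab.P G C.π C.𝒵).ι, hoi,
    Stab.exists_eP G C.π C.𝒵, Stab.exists_iP G C.π C.𝒵, Stab.exists_cP G C.π C.𝒵,
    Stab.isFinite_s hG, Stab.isFinite_t hG⟩

end Groth.Agent.Lib.H5bSl
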