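import Mathlib
import Groth.Prelude.Def_Grpd
import Groth.Agent.S5223
import Groth.Agent.S9389
import Groth.Agent.S0386
import Groth.Agent.S1880
import Groth.Agent.Lib.Helper2Grpd

/-!
# Translation invariance of the flat-and-quasi-finite locus of `h : U' ×_{g,U,t} R ⟶ U` (helper5)

`G` a groupoid scheme with `s, t` flat, `g : U' ⟶ G.U`, `h = s ∘ pr₂ : U' ×_{g,U,t} R ⟶ U`.
The locus of `P = U' ×_{g,U,t} R` where `h` is flat and quasi-finite is invariant under the action
of `R`; hence it is the preimage of an open of `U'`, and after shrinking `U'` around a point `u'`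
with `h` flat and quasi-finite at `(u', e (g u'))`, `h` is flat and locally quasi-finite.
-/

set_option autoImplicit false
set_option linter.style.haveILetI false
set_option linter.unusedSectionVars false
universe u

open CategoryTheory CategoryTheory.Limits AlgebraicGeometry

namespace Groth.Agent.Lib.H5bSl

variable {S : Scheme.{u}} (G : Grpd.GroupoidScheme S) {U' : Scheme.{u}} (g : U' ⟶ G.U)

/-- `h = s ∘ pr₂ : U' ×_{g,U,t} R ⟶ U`. -/
noncomputable abbrev hh : pullback g G.t ⟶ G.U := pullback.snd g G.t ≫ G.s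

/-- the section `u' ↦ (u', e (g u'))`. -/
noncomputable def sec : U' ⟶ pullback g G.t :=
  pullback.lift (𝟙 U') (g ≫ G.e)
    (by rw [Category.id_comp, Category.assoc, G.e_t, Category.comp_id])

@[reassoc (attr := simp)] lemma sec_fst : sec G g ≫ pullback.fst g G.t = 𝟙 U' :=
  pullback.lift_fst _ _ _

@[reassoc (attr := simp)] lemma sec_snd : sec G g ≫ pullback.snd g G.t = g ≫ G.e :=
  pullback.lift_snd _ _ _

/-- `((u', ρ), r₁) ↦ (ρ, r₁)`. -/
noncomputable def κ : pullback (hh G g) G.t ⟶ pullback G.s G.t :=
  pullback.lift (pullback.fst (hh G g) G.t ≫ pullback.snd g G.t) (pullback.snd (hh G g) G.t)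
    (by rw [Category.assoc]; exact pullback.condition)

@[reassoc (attr := simp)] lemma κ_fst : κ G g ≫ pullback.fst G.s G.t =
    pullback.fst (hh G g) G.t ≫ pullback.snd g G.t := pullback.lift_fst _ _ _

@[reassoc (attr := simp)] lemma κ_snd : κ G g ≫ pullback.snd G.s G.t =
    pullback.snd (hh G g) G.t := pullback.lift_snd _ _ _

/-- the action `((u', ρ), r₁) ↦ (u', ρ ∘ r₁)`. -/
noncomputable def act : pullback (hh G g) G.t ⟶ pullback g G.t :=
  pullback.lift (pullback.fst (hh G g) G.t ≫ pullback.fst g G.t) (κ G g ≫ G.c)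
    (by rw [Category.assoc, Category.assoc, Groth.Agent.S1880.c_t, κ_fst_assoc,
      pullback.condition])

@[reassoc (attr := simp)] lemma act_fst : act G g ≫ pullback.fst g G.t =
    pullback.fst (hh G g) G.t ≫ pullback.fst g G.t := pullback.lift_fst _ _ _

@[reassoc (attr := simp)] lemma act_snd : act G g ≫ pullback.snd g G.t = κ G g ≫ G.c :=
  pullback.lift_snd _ _ _

theorem isPullback_act_κ : IsPullback (act G g) (κ G g) (pullback.snd g G.t) G.c := by
  refine ⟨⟨act_snd G g⟩, ⟨PullbackCone.IsLimit.mk _
    (fun c => pullback.lift (pullback.lift (c.fst ≫ pullback.fst g G.t)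
      (c.snd ≫ pullback.fst G.s G.t) ?_) (c.snd ≫ pullback.snd G.s G.t) ?_) ?_ ?_ ?_⟩⟩
  · rw [Category.assoc, pullback.condition, ← Category.assoc, c.condition, Category.assoc,
      Groth.Agent.S1880.c_t, Category.assoc]
  · rw [pullback.lift_snd_assoc, Category.assoc, Category.assoc, pullback.condition]
  · intro c
    have hκ : pullback.lift (pullback.lift (c.fst ≫ pullback.fst g G.t)
        (c.snd ≫ pullback.fst G.s G.t) (by
          rw [Category.assoc, pullback.condition, ← Category.assoc, c.condition, Category.assoc,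
            Groth.Agent.S1880.c_t, Category.assoc])) (c.snd ≫ pullback.snd G.s G.t) (by
          rw [pullback.lift_snd_assoc, Category.assoc, Category.assoc, pullback.condition]) ≫
        κ G g = c.snd := by
      apply pullback.hom_ext
      · rw [Category.assoc, κ_fst, pullback.lift_fst_assoc, pullback.lift_snd]
      · rw [Category.assoc, κ_snd, pullback.lift_snd]
    apply pullback.hom_ext
    · rw [Category.assoc, act_fst, pullback.lift_fst_assoc, pullback.lift_fst]
    · rw [Category.assoc, act_snd, reassoc_of% hκ, c.condition]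
  · intro c
    apply pullback.hom_ext
    · rw [Category.assoc, κ_fst, pullback.lift_fst_assoc, pullback.lift_snd]
    · rw [Category.assoc, κ_snd, pullback.lift_snd]
  · intro c m h1 h2
    apply pullback.hom_ext
    · rw [pullback.lift_fst]
      apply pullback.hom_ext
      · rw [pullback.lift_fst, Category.assoc, ← act_fst, reassoc_of% h1]
      · rw [pullback.lift_snd, Category.assoc, ← κ_fst, reassoc_of% h2]
    · rw [pullback.lift_snd, ← κ_snd, reassoc_of% h2]

theorem isPullback_act : IsPullback (act G g) (pullback.snd (hh G g) G.t) (hh G g) G.s := by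
  have h := (isPullback_act_κ G g).paste_vert (Groth.Agent.S1880.isPullback_c G)
  rwa [κ_snd] at h

/-- `h` is flat and quasi-finite at `x`. -/
def Good (x : ↑(pullback g G.t)) : Prop :=
  ((hh G g).stalkMap x).hom.Flat ∧ (hh G g).QuasiFiniteAt x

theorem good_act_iff [Flat G.s] [Flat G.t] [LocallyOfFiniteType (hh G g)]
    (y : ↑(pullback (hh G g) G.t)) :
    Good G g (pullback.fst (hh G g) G.t y) ↔ Good G g (act G g y) := by
  have f1 := Groth.Agent.S5223.result (IsPullback.of_hasPullback (hh G g) G.t) y
  have f2 := Groth.Agent.S5223.result (isPullback_act G g) y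
  have q1 := Groth.Agent.S9389.result (hh G g) G.t (pullback.fst (hh G g) G.t)
    (pullback.snd (hh G g) G.t) (IsPullback.of_hasPullback (hh G g) G.t)
  have q2 := Groth.Agent.S9389.result (hh G g) G.s (act G g)
    (pullback.snd (hh G g) G.t) (isPullback_act G g)
  have q1' : (pullback.snd (hh G g) G.t).QuasiFiniteAt y ↔
      (hh G g).QuasiFiniteAt (pullback.fst (hh G g) G.t y) := by
    have : y ∈ {x' | (pullback.snd (hh G g) G.t).QuasiFiniteAt x'} ↔
        y ∈ (pullback.fst (hh G g) G.t).base ⁻¹' {x | (hh G g).QuasiFiniteAt x} := by rw [q1]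
    exact this
  have q2' : (pullback.snd (hh G g) G.t).QuasiFiniteAt y ↔
      (hh G g).QuasiFiniteAt (act G g y) := by
    have : y ∈ {x' | (pullback.snd (hh G g) G.t).QuasiFiniteAt x'} ↔
        y ∈ (act G g).base ⁻¹' {x | (hh G g).QuasiFiniteAt x} := by rw [q2]
    exact this
  unfold Good
  exact and_congr (f1.symm.trans f2) (q1'.symm.trans q2')

theorem good_iff_sec [Flat G.s] [Flat G.t] [LocallyOfFiniteType (hh G g)]
    (x : ↑(pullback g G.t)) :
    Good G g x ↔ Good G g (sec G g (pullback.fst g G.t x)) := by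
  let y : pullback g G.t ⟶ pullback (hh G g) G.t :=
    pullback.lift (𝟙 _) (pullback.snd g G.t ≫ G.i)
      (by rw [Category.id_comp, Category.assoc, G.i_t])
  have h1 : y ≫ pullback.fst (hh G g) G.t = 𝟙 _ := pullback.lift_fst _ _ _
  have h2 : y ≫ act G g = pullback.fst g G.t ≫ sec G g := by
    apply pullback.hom_ext
    · rw [Category.assoc, act_fst, reassoc_of% h1, Category.assoc, sec_fst, Category.comp_id]
    · rw [Category.assoc, act_snd, Category.assoc, sec_snd]
      have hκ : y ≫ κ G g = pullback.lift (pullback.snd g G.t) (pullback.snd g G.t ≫ G.i)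
          (by rw [Category.assoc, G.i_t]) := by
        apply pullback.hom_ext
        · rw [Category.assoc, κ_fst, reassoc_of% h1, pullback.lift_fst]
        · rw [Category.assoc, κ_snd, pullback.lift_snd, pullback.lift_snd]
      rw [reassoc_of% hκ, G.comp_i, pullback.condition_assoc]
  have e1 : pullback.fst (hh G g) G.t (y x) = x := by
    rw [← Scheme.Hom.comp_apply, h1]; rfl
  have e2 : act G g (y x) = sec G g (pullback.fst g G.t x) := by
    rw [← Scheme.Hom.comp_apply, h2, Scheme.Hom.comp_apply]
  have := good_act_iff G g (y x)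
  rwa [e1, e2] at this


/-- pointwise criterion for local quasi-finiteness -/
theorem locallyQuasiFinite_of_forall_quasiFiniteAt {X Y : Scheme.{u}} (f : X ⟶ Y)
    [LocallyOfFiniteType f] (h : ∀ x, f.QuasiFiniteAt x) : LocallyQuasiFinite f := by
  rw [locallyQuasiFinite_iff_isDiscrete_preimage_singleton]
  intro y
  refine ⟨discreteTopology_iff_isOpen_singleton.mpr ?_⟩
  rintro ⟨x, hx⟩
  obtain rfl : f x = y := hx
  have h1 := Scheme.Hom.quasiFiniteAt_iff_isOpen_singleton_asFiber.mp (h x)
  rw [← (f.fiberHomeo (f x)).isOpen_image] at h1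
  simpa only [Set.image_singleton, Scheme.Hom.asFiber, Homeomorph.apply_symm_apply] using h1

set_option backward.isDefEq.respectTransparency false in
lemma flat_stalkMap_comp_iff_of_isOpenImmersion {X Y Z : Scheme.{u}} {f : X ⟶ Y} {g : Y ⟶ Z}
    {x : X} [IsOpenImmersion f] :
    ((f ≫ g).stalkMap x).hom.Flat ↔ (g.stalkMap (f x)).hom.Flat := by
  simp only [Scheme.Hom.stalkMap_comp, CommRingCat.hom_comp,
    RingHom.Flat.respectsIso.cancel_right_isIso]

theorem isOpen_good [LocallyOfFinitePresentation (hh G g)] : IsOpen {x | Good G g x} :=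
  (Groth.Agent.S0386.result (hh G g)).inter (hh G g).isOpen_quasiFiniteAt

instance lfp_hh [LocallyOfFinitePresentation G.s] [LocallyOfFinitePresentation g] :
    LocallyOfFinitePresentation (hh G g) := by
  haveI : LocallyOfFinitePresentation (pullback.snd g G.t) :=
    MorphismProperty.pullback_snd (P := @LocallyOfFinitePresentation) g G.t inferInstance
  infer_instance

/-- restriction to an open of `U'`. -/
noncomputable def θ (U'' : U'.Opens) : pullback (U''.ι ≫ g) G.t ⟶ pullback g G.t :=
  pullback.map _ _ _ _ U''.ι (𝟙 _) (𝟙 _) (by rw [Category.comp_id]) (by rw [Category.comp_id,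
    Category.id_comp])

instance (U'' : U'.Opens) : IsOpenImmersion (θ G g U'') := by
  unfold θ; infer_instance

lemma θ_fst (U'' : U'.Opens) : θ G g U'' ≫ pullback.fst g G.t =
    pullback.fst (U''.ι ≫ g) G.t ≫ U''.ι := pullback.lift_fst _ _ _

lemma θ_snd (U'' : U'.Opens) : θ G g U'' ≫ pullback.snd g G.t =
    pullback.snd (U''.ι ≫ g) G.t := by
  unfold θ
  rw [pullback.lift_snd, Category.comp_id]

lemma θ_hh (U'' : U'.Opens) : θ G g U'' ≫ hh G g = hh G (U''.ι ≫ g) := by
  rw [← Category.assoc, θ_snd]

theorem exists_shrink [Flat G.s] [Flat G.t] [LocallyOfFinitePresentation G.s]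
    [LocallyOfFinitePresentation g] (u' : U') (hgood : Good G g (sec G g u')) :
    ∃ U'' : U'.Opens, u' ∈ U'' ∧ Flat (hh G (U''.ι ≫ g)) ∧
      LocallyQuasiFinite (hh G (U''.ι ≫ g)) ∧
      LocallyOfFinitePresentation (hh G (U''.ι ≫ g)) := by
  let U'' : U'.Opens := ⟨(sec G g) ⁻¹' {x | Good G g x}, (isOpen_good G g).preimage
    (sec G g).continuous⟩
  have hall : ∀ x'' : ↑(pullback (U''.ι ≫ g) G.t), Good G g (θ G g U'' x'') := by
    intro x''
    rw [good_iff_sec]
    have e : pullback.fst g G.t (θ G g U'' x'') = U''.ι (pullback.fst (U''.ι ≫ g) G.t x'') := by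
      rw [← Scheme.Hom.comp_apply, θ_fst, Scheme.Hom.comp_apply]
    rw [e]
    exact (pullback.fst (U''.ι ≫ g) G.t x'').2
  haveI : LocallyOfFinitePresentation (U''.ι ≫ g) := inferInstance
  refine ⟨U'', hgood, ?_, ?_, inferInstance⟩
  · rw [Flat.iff_flat_stalkMap]
    intro x''
    have h1 := (hall x'').1
    have e2 := θ_hh G g U''
    rw [← e2]
    exact flat_stalkMap_comp_iff_of_isOpenImmersion.mpr h1
  · haveI : LocallyOfFiniteType (hh G (U''.ι ≫ g)) := inferInstance
    apply locallyQuasiFinite_of_forall_quasiFiniteAt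
    intro x''
    have h1 := (hall x'').2
    have e2 := θ_hh G g U''
    rw [← e2]
    exact Scheme.Hom.quasiFiniteAt_comp_iff_of_isOpenImmersion.mpr h1

end Groth.Agent.Lib.H5bSl
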