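import Mathlib
import Groth.Prelude.Def_AlgSp
import Groth.Agent.Lib.H5bLqfRel
import Groth.Agent.Lib.H5bELFin
import Groth.Agent.Lib.H5bSlTrans

/-!
# Equivalence relations on schemes over `S` as groupoid schemes, and their restrictions (helper5)
-/

set_option autoImplicit false
set_option linter.style.haveILetI false
set_option linter.unusedSectionVars false
universe u

open CategoryTheory CategoryTheory.Limits AlgebraicGeometry

namespace Groth.Agent.Lib.H5bSl

open Groth.Agent.Lib.H5bEL Groth.Agent.Lib.H5bLqf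

variable {S : Scheme.{u}} {R U : Over S} {s t : R ⟶ U}

/-- the `Rel` structure of an equivalence relation in `Over S`. -/
noncomputable def relOfEqv (h : AlgSp.IsEqvRel s t) : Rel S := by
  have hr := (h.equivalence U).refl (𝟙 U)
  have hs := (h.equivalence R).symm (x := 𝟙 R ≫ t) (y := 𝟙 R ≫ s) ⟨𝟙 R, rfl, rfl⟩
  let T : Over S := Over.mk (pullback.fst s.left t.left ≫ R.hom)
  let p₁ : T ⟶ R := Over.homMk (pullback.fst s.left t.left) rfl
  let p₂ : T ⟶ R := Over.homMk (pullback.snd s.left t.left) (by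
    show pullback.snd s.left t.left ≫ R.hom = pullback.fst s.left t.left ≫ R.hom
    calc pullback.snd s.left t.left ≫ R.hom = pullback.snd s.left t.left ≫ t.left ≫ U.hom := by
          rw [Over.w t]
      _ = pullback.fst s.left t.left ≫ s.left ≫ U.hom := by
          rw [← Category.assoc, ← pullback.condition, Category.assoc]
      _ = pullback.fst s.left t.left ≫ R.hom := by rw [Over.w s])
  have hp : p₁ ≫ s = p₂ ≫ t := by
    apply Over.OverMorphism.ext
    exact pullback.condition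
  have ht := (h.equivalence T).trans (x := p₁ ≫ t) (y := p₁ ≫ s) (z := p₂ ≫ s)
    ⟨p₁, rfl, rfl⟩ ⟨p₂, hp.symm, rfl⟩
  exact
    { U := U.left
      R := R.left
      π := U.hom
      s := s.left
      t := t.left
      w := by rw [Over.w s, Over.w t]
      inj := by
        intro T' a b h1 h2
        have hab : a ≫ R.hom = b ≫ R.hom := by
          rw [← Over.w t, ← Category.assoc, h1, Category.assoc]
        let T'' : Over S := Over.mk (a ≫ R.hom)
        let a' : T'' ⟶ R := Over.homMk a rfl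
        let b' : T'' ⟶ R := Over.homMk b hab.symm
        have := h.injective T'' a' b' (by apply Over.OverMorphism.ext; exact h1)
          (by apply Over.OverMorphism.ext; exact h2)
        exact congrArg (fun m : T'' ⟶ R => m.left) this
      e := hr.choose.left
      e_s := by rw [← Over.comp_left, hr.choose_spec.2]; rfl
      e_t := by rw [← Over.comp_left, hr.choose_spec.1]; rfl
      i := hs.choose.left
      i_s := by rw [← Over.comp_left, hs.choose_spec.2, Category.id_comp]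
      i_t := by rw [← Over.comp_left, hs.choose_spec.1, Category.id_comp]
      c := ht.choose.left
      c_s := by
        have := congrArg (fun m : T ⟶ U => m.left) ht.choose_spec.2
        exact this
      c_t := by
        have := congrArg (fun m : T ⟶ U => m.left) ht.choose_spec.1
        exact this }

/-- the groupoid scheme of an equivalence relation. -/
noncomputable abbrev grpdOfEqv (h : AlgSp.IsEqvRel s t) : Grpd.GroupoidScheme S := (relOfEqv h).grpd

lemma grpdOfEqv_U (h : AlgSp.IsEqvRel s t) : (grpdOfEqv h).U = U.left := rfl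
lemma grpdOfEqv_R (h : AlgSp.IsEqvRel s t) : (grpdOfEqv h).R = R.left := rfl
lemma grpdOfEqv_s (h : AlgSp.IsEqvRel s t) : (grpdOfEqv h).s = s.left := rfl
lemma grpdOfEqv_t (h : AlgSp.IsEqvRel s t) : (grpdOfEqv h).t = t.left := rfl
lemma grpdOfEqv_pU (h : AlgSp.IsEqvRel s t) : (grpdOfEqv h).pU = U.hom := rfl

instance (h : AlgSp.IsEqvRel s t) : Mono (grpdOfEqv h).j := (relOfEqv h).mono_grpd_j


section General

variable (G : Grpd.GroupoidScheme S) {U₀ : Scheme.{u}} (g₀ : U₀ ⟶ G.U)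

/-- `(t', r) : R' ⟶ U' ×_{g,U,t} R`. -/
noncomputable def resα : Res.R G g₀ ⟶ pullback g₀ G.t :=
  pullback.lift (Res.t G g₀) (Res.fR G g₀) (Res.fR_t G g₀).symm

theorem isPullback_resS : IsPullback (resα G g₀) (Res.s G g₀) (hh G g₀) g₀ := by
  have w : resα G g₀ ≫ hh G g₀ = Res.s G g₀ ≫ g₀ := by
    unfold resα
    rw [← Category.assoc, pullback.lift_snd, Res.fR_s]
  refine ⟨⟨w⟩, ⟨PullbackCone.IsLimit.mk _
    (fun c => Res.mk (c.fst ≫ pullback.snd g₀ G.t) (c.fst ≫ pullback.fst g₀ G.t) c.snd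
      (by rw [Category.assoc, Category.assoc, pullback.condition])
      (by rw [Category.assoc]; exact c.condition)) ?_ ?_ ?_⟩⟩
  · intro c
    unfold resα
    apply pullback.hom_ext
    · rw [Category.assoc, pullback.lift_fst, Res.mk_t]
    · rw [Category.assoc, pullback.lift_snd, Res.mk_fR]
  · intro c
    exact Res.mk_s _ _ _ _ _
  · intro c m h1 h2
    have e1 : m ≫ Res.fR G g₀ = c.fst ≫ pullback.snd g₀ G.t := by
      rw [← h1]; unfold resα; rw [Category.assoc, pullback.lift_snd]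
    have e2 : m ≫ Res.t G g₀ = c.fst ≫ pullback.fst g₀ G.t := by
      rw [← h1]; unfold resα; rw [Category.assoc, pullback.lift_fst]
    apply Res.hom_ext
    · rw [Res.mk_fR, e1]
    · rw [Res.mk_t, e2]
    · rw [Res.mk_s, h2]

theorem flat_resS [Flat (hh G g₀)] : Flat (Res.s G g₀) :=
  MorphismProperty.of_isPullback (P := @Flat) (isPullback_resS G g₀) inferInstance

theorem lfp_resS [LocallyOfFinitePresentation (hh G g₀)] :
    LocallyOfFinitePresentation (Res.s G g₀) :=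
  MorphismProperty.of_isPullback (P := @LocallyOfFinitePresentation) (isPullback_resS G g₀)
    inferInstance

theorem lqf_resS [LocallyQuasiFinite (hh G g₀)] : LocallyQuasiFinite (Res.s G g₀) :=
  MorphismProperty.of_isPullback (P := @LocallyQuasiFinite) (isPullback_resS G g₀) inferInstance

instance isIso_resI : IsIso (Res.i G g₀) := ⟨Res.i G g₀, Res.i_i G g₀, Res.i_i G g₀⟩

theorem flat_resT [Flat (hh G g₀)] : Flat (Res.t G g₀) := by
  haveI := flat_resS G g₀
  rw [← Res.i_s]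
  infer_instance

theorem lfp_resT [LocallyOfFinitePresentation (hh G g₀)] :
    LocallyOfFinitePresentation (Res.t G g₀) := by
  haveI := lfp_resS G g₀
  rw [← Res.i_s]
  infer_instance

theorem lqf_resT [LocallyQuasiFinite (hh G g₀)] : LocallyQuasiFinite (Res.t G g₀) := by
  haveI := lqf_resS G g₀
  rw [← Res.i_s]
  infer_instance

lemma fR_t_congr {T : Scheme.{u}} (x y : T ⟶ Res.R G g₀)
    (hxy : x ≫ Res.t G g₀ = y ≫ Res.t G g₀) :
    (x ≫ Res.fR G g₀) ≫ G.t = (y ≫ Res.fR G g₀) ≫ G.t := by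
  simp only [Category.assoc, Res.fR_t, reassoc_of% hxy]

lemma fR_s_congr {T : Scheme.{u}} (x y : T ⟶ Res.R G g₀)
    (hxy : x ≫ Res.s G g₀ = y ≫ Res.s G g₀) :
    (x ≫ Res.fR G g₀) ≫ G.s = (y ≫ Res.fR G g₀) ≫ G.s := by
  simp only [Category.assoc, Res.fR_s, reassoc_of% hxy]

end General

section Restrict

variable (h : AlgSp.IsEqvRel s t) {U₀ : Scheme.{u}} (g₀ : U₀ ⟶ U.left)

/-- objects of the restriction. -/
noncomputable def resU (_ : AlgSp.IsEqvRel s t) (g₀ : U₀ ⟶ U.left) : Over S := Over.mk (g₀ ≫ U.hom)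

/-- arrows of the restriction. -/
noncomputable def resR : Over S := Over.mk (Res.fR (grpdOfEqv h) g₀ ≫ R.hom)

lemma resS_w : Res.s (grpdOfEqv h) g₀ ≫ g₀ ≫ U.hom = Res.fR (grpdOfEqv h) g₀ ≫ R.hom := by
  have e : Res.fR (grpdOfEqv h) g₀ ≫ s.left = Res.s (grpdOfEqv h) g₀ ≫ g₀ :=
    Res.fR_s (grpdOfEqv h) g₀
  have e' := congrArg (fun m => m ≫ U.hom) e
  simp only [Category.assoc] at e'
  exact e'.symm.trans (congrArg (fun m => Res.fR (grpdOfEqv h) g₀ ≫ m) (Over.w s))

lemma resT_w : Res.t (grpdOfEqv h) g₀ ≫ g₀ ≫ U.hom = Res.fR (grpdOfEqv h) g₀ ≫ R.hom := by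
  have e : Res.fR (grpdOfEqv h) g₀ ≫ t.left = Res.t (grpdOfEqv h) g₀ ≫ g₀ :=
    Res.fR_t (grpdOfEqv h) g₀
  have e' := congrArg (fun m => m ≫ U.hom) e
  simp only [Category.assoc] at e'
  exact e'.symm.trans (congrArg (fun m => Res.fR (grpdOfEqv h) g₀ ≫ m) (Over.w t))

/-- source of the restriction. -/
noncomputable def resS : resR h g₀ ⟶ resU h g₀ :=
  Over.homMk (Res.s (grpdOfEqv h) g₀) (resS_w h g₀)

/-- target of the restriction. -/
noncomputable def resT : resR h g₀ ⟶ resU h g₀ :=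
  Over.homMk (Res.t (grpdOfEqv h) g₀) (resT_w h g₀)

/-- the map on objects. -/
noncomputable def resG : resU h g₀ ⟶ U := Over.homMk g₀ rfl

/-- the map on arrows. -/
noncomputable def resr : resR h g₀ ⟶ R := Over.homMk (Res.fR (grpdOfEqv h) g₀) rfl

lemma resS_left : (resS h g₀).left = Res.s (grpdOfEqv h) g₀ := rfl
lemma resT_left : (resT h g₀).left = Res.t (grpdOfEqv h) g₀ := rfl
lemma resG_left : (resG h g₀).left = g₀ := rfl
lemma resr_left : (resr h g₀).left = Res.fR (grpdOfEqv h) g₀ := rfl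

lemma resr_s : resr h g₀ ≫ s = resS h g₀ ≫ resG h g₀ := by
  apply Over.OverMorphism.ext
  exact Res.fR_s (grpdOfEqv h) g₀

lemma resr_t : resr h g₀ ≫ t = resT h g₀ ≫ resG h g₀ := by
  apply Over.OverMorphism.ext
  exact Res.fR_t (grpdOfEqv h) g₀

/-- a `T`-point of the arrows of the restriction. -/
noncomputable def resMk {T : Over S} (ρ₀ : T ⟶ R) (a b : T ⟶ resU h g₀)
    (ht : ρ₀ ≫ t = a ≫ resG h g₀) (hs : ρ₀ ≫ s = b ≫ resG h g₀) : T ⟶ resR h g₀ :=
  Over.homMk (Res.mk (G := grpdOfEqv h) (π := g₀) ρ₀.left a.left b.left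
    (congrArg (fun m : T ⟶ U => m.left) ht) (congrArg (fun m : T ⟶ U => m.left) hs)) (by
    show Res.mk _ _ _ _ _ ≫ Res.fR (grpdOfEqv h) g₀ ≫ R.hom = T.hom
    rw [← Category.assoc, Res.mk_fR]
    exact Over.w ρ₀)

lemma resMk_t {T : Over S} (ρ₀ : T ⟶ R) (a b : T ⟶ resU h g₀)
    (ht : ρ₀ ≫ t = a ≫ resG h g₀) (hs : ρ₀ ≫ s = b ≫ resG h g₀) :
    resMk h g₀ ρ₀ a b ht hs ≫ resT h g₀ = a := by
  apply Over.OverMorphism.ext
  exact Res.mk_t (G := grpdOfEqv h) (π := g₀) ρ₀.left a.left b.left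
    (congrArg (fun m : T ⟶ U => m.left) ht) (congrArg (fun m : T ⟶ U => m.left) hs)

lemma resMk_s {T : Over S} (ρ₀ : T ⟶ R) (a b : T ⟶ resU h g₀)
    (ht : ρ₀ ≫ t = a ≫ resG h g₀) (hs : ρ₀ ≫ s = b ≫ resG h g₀) :
    resMk h g₀ ρ₀ a b ht hs ≫ resS h g₀ = b := by
  apply Over.OverMorphism.ext
  exact Res.mk_s (G := grpdOfEqv h) (π := g₀) ρ₀.left a.left b.left
    (congrArg (fun m : T ⟶ U => m.left) ht) (congrArg (fun m : T ⟶ U => m.left) hs)

lemma res_inj {T : Over S} (a b : T ⟶ resR h g₀) (h1 : a ≫ resT h g₀ = b ≫ resT h g₀)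
    (h2 : a ≫ resS h g₀ = b ≫ resS h g₀) : a = b := by
  apply Over.OverMorphism.ext
  have h1' : a.left ≫ Res.t (grpdOfEqv h) g₀ = b.left ≫ Res.t (grpdOfEqv h) g₀ :=
    congrArg (fun m : T ⟶ resU h g₀ => m.left) h1
  have h2' : a.left ≫ Res.s (grpdOfEqv h) g₀ = b.left ≫ Res.s (grpdOfEqv h) g₀ :=
    congrArg (fun m : T ⟶ resU h g₀ => m.left) h2
  apply Res.hom_ext _ h1' h2'
  apply (relOfEqv h).inj
  · exact fR_t_congr (grpdOfEqv h) g₀ a.left b.left h1'
  · exact fR_s_congr (grpdOfEqv h) g₀ a.left b.left h2'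

theorem rel_iff (T : Over S) (a b : T ⟶ resU h g₀) :
    (∃ r' : T ⟶ resR h g₀, r' ≫ resT h g₀ = a ∧ r' ≫ resS h g₀ = b) ↔
      ∃ ρ₀ : T ⟶ R, ρ₀ ≫ t = a ≫ resG h g₀ ∧ ρ₀ ≫ s = b ≫ resG h g₀ := by
  constructor
  · rintro ⟨r', rfl, rfl⟩
    exact ⟨r' ≫ resr h g₀, by rw [Category.assoc, resr_t, Category.assoc],
      by rw [Category.assoc, resr_s, Category.assoc]⟩
  · rintro ⟨ρ₀, ht, hs⟩
    exact ⟨resMk h g₀ ρ₀ a b ht hs, resMk_t h g₀ _ _ _ _ _, resMk_s h g₀ _ _ _ _ _⟩

theorem isEqvRel_res : AlgSp.IsEqvRel (resS h g₀) (resT h g₀) := by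
  refine ⟨fun T a b h1 h2 => res_inj h g₀ a b h1 h2, fun T => ⟨?_, ?_, ?_⟩⟩
  · intro a
    exact (rel_iff h g₀ T a a).mpr ((h.equivalence T).refl _)
  · intro a b hab
    exact (rel_iff h g₀ T b a).mpr ((h.equivalence T).symm ((rel_iff h g₀ T a b).mp hab))
  · intro a b c hab hbc
    exact (rel_iff h g₀ T a c).mpr ((h.equivalence T).trans ((rel_iff h g₀ T a b).mp hab)
      ((rel_iff h g₀ T b c).mp hbc))

end Restrict

end Groth.Agent.Lib.H5bSl
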