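import Mathlib
import Groth.Agent.Lib.H5bSlQS
import Groth.Agent.Lib.H5bSlQB
import Groth.Agent.Lib.H5bSlRel

/-!
# Étale-local charts for a flat, locally quasi-finite equivalence relation (helper5)

`exists_chart`: for a groupoid scheme `G` over `S` with `j` a monomorphism and `s` flat, locally of
finite presentation and locally quasi-finite, every point `u` of `G.U` has an étale neighbourhood
`G'.U ⟶ G.U` such that the fppf quotient of the restriction `G'` is an algebraic space.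
-/

set_option autoImplicit false
set_option linter.unusedSectionVars false
set_option linter.style.haveILetI false
universe u

open CategoryTheory CategoryTheory.Limits AlgebraicGeometry
open Groth.Agent.Lib.H5bEL Groth.Agent.Lib.H5bSubQuot

namespace Groth.Agent.Lib.H5bSl

/-- a morphism out of an affine scheme is separated. -/
theorem isSeparated_of_isAffine {E Y : Scheme.{u}} [IsAffine E] (F : E ⟶ Y) : IsSeparated F := by
  haveI : IsSeparated (F ≫ terminal.from Y) := by
    rw [Subsingleton.elim (F ≫ terminal.from Y) (terminal.from E)]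
    infer_instance
  exact IsSeparated.of_comp F (terminal.from Y)

variable {S : Scheme.{u}} (G : Grpd.GroupoidScheme S)

theorem mono_res_j [Mono G.j] {W : Scheme.{u}} (π : W ⟶ G.U) : Mono (res G π).j :=
  MorphismProperty.of_isPullback (P := MorphismProperty.monomorphisms Scheme.{u})
    (isPullback_res G π) (MorphismProperty.monomorphisms.infer_property G.j)

theorem flat_hh {U' : Scheme.{u}} (g : U' ⟶ G.U) [Flat g] [Flat G.s] : Flat (hh G g) := by
  unfold hh
  infer_instance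

theorem lqf_hh {U' : Scheme.{u}} (g : U' ⟶ G.U) [LocallyQuasiFinite g] [LocallyQuasiFinite G.s] :
    LocallyQuasiFinite (hh G g) := by
  unfold hh
  infer_instance

theorem isSeparated_res_s [Mono G.j] {W : Scheme.{u}} [IsAffine W] (π : W ⟶ G.U) :
    IsSeparated (res G π).s := by
  haveI : IsSeparated (π ≫ G.pU) := isSeparated_of_isAffine _
  show IsSeparated (Res.s G π)
  unfold Res.s
  infer_instance

theorem lqf_of_etale {X Y : Scheme.{u}} (f : X ⟶ Y) [Etale f] : LocallyQuasiFinite f :=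
  Groth.Agent.Lib.H5bBoot.lqf_of_lft_of_diagonal f

/-- charts in the affine case. -/
theorem exists_chart_affine [IsAffine G.U] [Mono G.j] [IsSeparated G.s] [Flat G.s]
    [LocallyOfFinitePresentation G.s] [LocallyQuasiFinite G.s] (u : G.U) :
    ∃ (U₂ : Scheme.{u}) (π : U₂ ⟶ G.U) (u₂ : U₂), Etale π ∧ π u₂ = u ∧ Mono (res G π).j ∧
      AlgSp.IsAlgSpace (QuotSh.quot Scheme.fppfPrecoverage (ovS (res G π)) (ovT (res G π))) := by
  obtain ⟨U₂, π, u₂, hU₂, hπ, hπu, P, ιP, hoi, ⟨eP, heP⟩, ⟨iP, hiP⟩, ⟨cP, hcP⟩, hfs, hft⟩ :=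
    exists_quasi_split (G := G) u (G.s.quasiFiniteAt _)
  haveI := hπ
  haveI := hoi
  haveI := hfs
  haveI : LocallyQuasiFinite π := lqf_of_etale π
  haveI := flat_hh G π
  haveI := lqf_hh G π
  haveI : IsAffine (res G π).U := hU₂
  haveI : Mono (res G π).j := mono_res_j G π
  haveI : Flat (res G π).s := flat_resS G π
  haveI : LocallyOfFinitePresentation (res G π).s := lfp_resS G π
  haveI : Mono (ιP ≫ (res G π).j) := mono_comp _ _
  let Sd : SubData (res G π) := ⟨P, ιP, inferInstance, eP, heP, iP, hiP, cP, hcP, inferInstance⟩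
  haveI : IsOpenImmersion Sd.ιP := hoi
  haveI : IsFinite (Sd.ιP ≫ (res G π).s) := hfs
  exact ⟨U₂, π, u₂, hπ, hπu, inferInstance, isAlgSpace_quot_of_subData Sd⟩

/-- charts through an affine étale piece. -/
theorem exists_chart_of_hom {G₁ : Grpd.GroupoidScheme S} (φ₁ : Grpd.GroupoidScheme.Hom G₁ G)
    (hsq₁ : IsPullback φ₁.fR G₁.j G.j (homMap φ₁)) [Etale φ₁.fU] [IsAffine G₁.U] [Mono G₁.j]
    [IsSeparated G₁.s] [Flat G₁.s] [LocallyOfFinitePresentation G₁.s] [LocallyQuasiFinite G₁.s]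
    (u₁ : G₁.U) :
    ∃ (G' : Grpd.GroupoidScheme S) (fU : G'.U ⟶ G.U) (fR : G'.R ⟶ G.R)
      (hU : fU ≫ G.pU = G'.pU) (u' : G'.U),
      Etale fU ∧ fU u' = φ₁.fU u₁ ∧ fR ≫ G.s = G'.s ≫ fU ∧ fR ≫ G.t = G'.t ≫ fU ∧
      IsPullback fR G'.j G.j (pullback.map G'.pU G'.pU G.pU G.pU fU fU (𝟙 S)
        ((Category.comp_id _).trans hU.symm) ((Category.comp_id _).trans hU.symm)) ∧
      Mono G'.j ∧ AlgSp.IsAlgSpace (QuotSh.quot Scheme.fppfPrecoverage (ovS G') (ovT G')) := by
  obtain ⟨U₂, π, u₂, hπ, hπu, hmono, hA⟩ := exists_chart_affine G₁ u₁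
  haveI := hπ
  have hpaste := (isPullback_res G₁ π).paste_horiz hsq₁
  have hU : ((resHom G₁ π).fU ≫ φ₁.fU) ≫ G.pU = (res G₁ π).pU := by
    rw [Category.assoc, φ₁.fU_over]
    exact (resHom G₁ π).fU_over
  haveI : Etale (resHom G₁ π).fU := hπ
  refine ⟨res G₁ π, (resHom G₁ π).fU ≫ φ₁.fU, (resHom G₁ π).fR ≫ φ₁.fR, hU, u₂,
    inferInstance, ?_, ?_, ?_, ?_, hmono, hA⟩
  · rw [Scheme.Hom.comp_apply]
    exact congrArg (fun x => φ₁.fU x) hπu
  · rw [Category.assoc, φ₁.comm_s, ← Category.assoc, (resHom G₁ π).comm_s, Category.assoc]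
  · rw [Category.assoc, φ₁.comm_t, ← Category.assoc, (resHom G₁ π).comm_t, Category.assoc]
  · convert hpaste using 1
    apply pullback.hom_ext
    · rw [pullback.lift_fst, Category.assoc, pullback.lift_fst, pullback.lift_fst_assoc,
        Category.assoc]
    · rw [pullback.lift_snd, Category.assoc, pullback.lift_snd, pullback.lift_snd_assoc,
        Category.assoc]

set_option maxHeartbeats 1600000 in
/-- **étale-local charts**. -/
theorem exists_chart [Mono G.j] [Flat G.s] [LocallyOfFinitePresentation G.s]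
    [LocallyQuasiFinite G.s] (u : G.U) :
    ∃ (G' : Grpd.GroupoidScheme S) (fU : G'.U ⟶ G.U) (fR : G'.R ⟶ G.R)
      (hU : fU ≫ G.pU = G'.pU) (u' : G'.U),
      Etale fU ∧ fU u' = u ∧ fR ≫ G.s = G'.s ≫ fU ∧ fR ≫ G.t = G'.t ≫ fU ∧
      IsPullback fR G'.j G.j (pullback.map G'.pU G'.pU G.pU G.pU fU fU (𝟙 S)
        ((Category.comp_id _).trans hU.symm) ((Category.comp_id _).trans hU.symm)) ∧
      Mono G'.j ∧ AlgSp.IsAlgSpace (QuotSh.quot Scheme.fppfPrecoverage (ovS G') (ovT G')) := by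
  obtain ⟨V, hV, huV⟩ : ∃ V : G.U.Opens, IsAffineOpen V ∧ u ∈ V := by
    obtain ⟨V, hV, huV, -⟩ := TopologicalSpace.Opens.isBasis_iff_nbhd.mp G.U.isBasis_affineOpens
      (TopologicalSpace.Opens.mem_top u)
    exact ⟨V, hV, huV⟩
  haveI hVa : IsAffine ↑V := hV
  haveI : LocallyQuasiFinite V.ι := inferInstance
  haveI := flat_hh G V.ι
  haveI := lqf_hh G V.ι
  haveI : IsAffine (res G V.ι).U := hVa
  haveI : Mono (res G V.ι).j := mono_res_j G V.ι
  haveI : Flat (res G V.ι).s := flat_resS G V.ι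
  haveI : LocallyOfFinitePresentation (res G V.ι).s := lfp_resS G V.ι
  haveI : LocallyQuasiFinite (res G V.ι).s := lqf_resS G V.ι
  haveI : IsSeparated (res G V.ι).s := isSeparated_res_s G V.ι
  haveI : Etale (resHom G V.ι).fU := inferInstanceAs (Etale V.ι)
  obtain ⟨G', fU, fR, hU, u', h1, h2, h3, h4, h5, h6, h7⟩ :=
    exists_chart_of_hom G (resHom G V.ι) (isPullback_res G V.ι) (⟨u, huV⟩ : ↑V)
  exact ⟨G', fU, fR, hU, u', h1, h2, h3, h4, h5, h6, h7⟩

end Groth.Agent.Lib.H5bSl
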