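import Mathlib
import Groth.Prelude.Def_AlgSp
import Groth.Agent.Lib.H5bCoprodSp
import Groth.Agent.S10194

/-!
# Coproducts of fppf sheaves over `S`, part 2 (helper5)

* `isIso_desc_of_isPullback`, `isColimit_of_isPullback`: coproducts of sheaves are universal;
* `exists_yon_iso'`: a coproduct of representable sheaves is representable by a scheme covered by
  the given schemes;
* `exists_rep_desc`: a morphism from a coproduct of sheaves all of whose restrictions to the
  summands are representable is representable.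
-/

set_option autoImplicit false
set_option linter.style.haveILetI false
universe u

namespace Groth.Agent.Lib.H5bCoprodSp

open CategoryTheory CategoryTheory.Limits AlgebraicGeometry Opposite MorphismProperty
open AlgSp Groth.Agent.S13210 Groth.Agent.S9878 Groth.Agent.S9900 Groth.Agent.S9874
open Groth.Agent.Lib.Helper12.ZarGlue

variable {S : Scheme.{u}}

section Cofan

variable {ι : Type u} {F : ι → AlgSp.Sp S} (c : Cofan F) (hc : IsColimit c)

include hc in
/-- **coproducts of sheaves are universal** (isomorphism form). -/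
theorem isIso_desc_of_isPullback {P : AlgSp.Sp S} (π : P ⟶ c.pt) {P' : ι → AlgSp.Sp S}
    (q : ∀ i, P' i ⟶ P) (r : ∀ i, P' i ⟶ F i) (sq : ∀ i, IsPullback (q i) (r i) π (c.inj i))
    (c'' : Cofan P') (hc'' : IsColimit c'') : IsIso (Cofan.IsColimit.desc hc'' q) := by
  have hκ : ∀ i, c''.inj i ≫ Cofan.IsColimit.desc hc'' q = q i :=
    fun i => Cofan.IsColimit.fac hc'' _ i
  generalize Cofan.IsColimit.desc hc'' q = κ at hκ ⊢
  have cart : ∀ i, IsPullback (c''.inj i) (r i) (κ ≫ π) (c.inj i) := fun i =>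
    isPullback_inj_of_map c hc c'' hc'' r (κ ≫ π)
      (fun i => by rw [← Category.assoc, hκ, (sq i).w]) i
  have cart' : ∀ i, IsPullback (c''.inj i) (𝟙 _) κ (q i) := fun i =>
    IsPullback.of_bot (by rw [Category.id_comp]; exact cart i)
      (by rw [hκ, Category.id_comp]) (sq i)
  have key : ∀ (Pp : MorphismProperty Scheme.{u}) [IsZariskiLocalAtTarget Pp]
      (_ : ∀ X : Scheme.{u}, Pp (𝟙 X)), AlgSp.RepWith Pp κ := by
    intro Pp _ hid
    haveI : Pp.RespectsIso := inferInstance
    haveI : (Pp.inverseImage (Over.forget S)).RespectsIso :=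
      MorphismProperty.RespectsIso.inverseImage Pp _
    refine MorphismProperty.relative.of_exists (fun T y => ?_)
    obtain ⟨W, hd, hcov, hW⟩ := exists_clopen_decomposition c hc (y ≫ π)
    choose a sqW using hW
    let Ti : ι → Over S := fun i => Over.mk ((W i).ι ≫ T.hom)
    let j : ∀ i, Ti i ⟶ T := fun i => CategoryTheory.Over.homMk (W i).ι
    haveI : ∀ i, IsOpenImmersion (j i).left := fun i => inferInstanceAs (IsOpenImmersion (W i).ι)
    have hj : ∀ t : T.left, ∃ i, t ∈ Set.range (j i).left := by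
      intro t
      have ht : t ∈ ⨆ j, W j := by rw [hcov]; trivial
      obtain ⟨i, hi⟩ := TopologicalSpace.Opens.mem_iSup.1 ht
      exact ⟨i, ⟨t, hi⟩, rfl⟩
    let l : ∀ i, (AlgSp.yon S).obj (Ti i) ⟶ P' i := fun i =>
      (sq i).lift ((AlgSp.yon S).map (j i) ≫ y) (a i) (by
        rw [Category.assoc]; exact (sqW i).w.symm)
    have hl : ∀ i, l i ≫ q i = (AlgSp.yon S).map (j i) ≫ y := fun i => (sq i).lift_fst _ _ _
    have sqb : ∀ i, IsPullback (l i ≫ c''.inj i) ((AlgSp.yon S).map (𝟙 (Ti i))) κ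
        ((AlgSp.yon S).map (j i) ≫ y) := by
      intro i
      have h1 : IsPullback (l i) (𝟙 _) (𝟙 _) (l i) := IsPullback.of_vert_isIso ⟨by simp⟩
      have h2 := h1.paste_horiz (cart' i)
      rw [hl i] at h2
      rw [CategoryTheory.Functor.map_id]
      exact h2
    obtain ⟨W₀, w₀, a₀, sq₀, hk⟩ := exists_rep_of_openCover κ y Ti j Ti (fun i => 𝟙 _) _ sqb hj
    choose k hk1 _ using hk
    exact ⟨W₀, a₀, w₀, sq₀, property_of_openCover Pp w₀ Ti j hj Ti (fun _ => 𝟙 _) k hk1
      (fun i => hid _)⟩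
  exact Groth.Agent.S10194.isIso_of_repWith_openImmersion_surjective κ
    (key @IsOpenImmersion (fun X => inferInstanceAs (IsOpenImmersion (𝟙 X))))
    (key @Surjective (fun X => inferInstanceAs (Surjective (𝟙 X))))

include hc in
/-- **coproducts of sheaves are universal**. -/
theorem isColimit_of_isPullback {P : AlgSp.Sp S} (π : P ⟶ c.pt) {P' : ι → AlgSp.Sp S}
    (q : ∀ i, P' i ⟶ P) (r : ∀ i, P' i ⟶ F i) (sq : ∀ i, IsPullback (q i) (r i) π (c.inj i)) :
    Nonempty (IsColimit (Cofan.mk P q)) := by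
  let c'' : Cofan P' := Cofan.mk (∐ P') (Sigma.ι P')
  have hc'' : IsColimit c'' := coproductIsCoproduct P'
  haveI := isIso_desc_of_isPullback c hc π q r sq c'' hc''
  exact ⟨IsColimit.ofIsoColimit hc'' (Cofan.ext (asIso (Cofan.IsColimit.desc hc'' q))
    (fun i => Cofan.IsColimit.fac hc'' _ i))⟩


end Cofan

/-- a coproduct of representable sheaves is representable by a scheme covered by the given
schemes. -/
theorem exists_yon_iso' {ι : Type u} (U : ι → Over S)
    (c : Cofan (fun i => (AlgSp.yon S).obj (U i))) (hc : IsColimit c) :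
    ∃ (W : Over S) (e : (AlgSp.yon S).obj W ≅ c.pt) (k : ∀ i, U i ⟶ W),
      (∀ i, (AlgSp.yon S).map (k i) ≫ e.hom = c.inj i) ∧ (∀ i, IsOpenImmersion (k i).left) ∧
        ∀ w : W.left, ∃ i, w ∈ Set.range (k i).left := by
  have hf : ∀ i, AlgSp.RepWith @IsOpenImmersion (c.inj i) := fun i => repWith_inj c hc i
  have hs : JointlySurjective hf := fun _ g t => jointlySurjective_inj c hc hf g t
  obtain ⟨γ, hγ⟩ := exists_gluedToSheaf hf
  haveI := mono_of_comp hf hγ
  haveI := epi_of_comp hf hγ hs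
  haveI : IsIso γ := isIso_of_mono_of_epi γ
  refine ⟨glued hf, asIso γ, toGlued hf, hγ, fun i => inferInstance, fun w => ?_⟩
  obtain ⟨i, y, hy⟩ := toGlued_jointly_surjective hf w
  exact ⟨i, y, hy⟩

section Desc

variable {ι : Type u} {F : ι → AlgSp.Sp S} (c : Cofan F) (hc : IsColimit c)

include hc in
/-- a morphism from a coproduct of sheaves all of whose restrictions to the summands are
representable is representable; the representing scheme is covered by the schemes representing
the base changes of the restrictions. -/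
theorem exists_rep_desc {G : AlgSp.Sp S} (d : c.pt ⟶ G)
    (h : ∀ i, AlgSp.Representable (c.inj i ≫ d)) {T : Over S} (x : (AlgSp.yon S).obj T ⟶ G) :
    ∃ (W₀ : Over S) (w₀ : W₀ ⟶ T) (a₀ : (AlgSp.yon S).obj W₀ ⟶ c.pt),
      IsPullback a₀ ((AlgSp.yon S).map w₀) d x ∧
      ∃ k : ∀ i, (h i).pullback x ⟶ W₀, (∀ i, IsOpenImmersion (k i).left) ∧
        (∀ w : W₀.left, ∃ i, w ∈ Set.range (k i).left) ∧ ∀ i, k i ≫ w₀ = (h i).snd x := by
  let Q : ι → Over S := fun i => (h i).pullback x
  let q : ∀ i, (AlgSp.yon S).obj (Q i) ⟶ pullback d x := fun i =>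
    pullback.lift ((h i).fst x ≫ c.inj i) ((AlgSp.yon S).map ((h i).snd x)) (by
      rw [Category.assoc]; exact ((h i).isPullback x).w)
  have hq1 : ∀ i, q i ≫ pullback.fst d x = (h i).fst x ≫ c.inj i :=
    fun i => pullback.lift_fst _ _ _
  have hq2 : ∀ i, q i ≫ pullback.snd d x = (AlgSp.yon S).map ((h i).snd x) :=
    fun i => pullback.lift_snd _ _ _
  have sq : ∀ i, IsPullback (q i) ((h i).fst x) (pullback.fst d x) (c.inj i) := by
    intro i
    refine IsPullback.of_right (h₁₂ := pullback.snd d x) (v₁₃ := x) (h₂₂ := d) ?_ (hq1 i)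
      (IsPullback.of_hasPullback d x).flip
    rw [hq2 i]
    exact ((h i).isPullback x).flip
  obtain ⟨hcol⟩ := isColimit_of_isPullback c hc (pullback.fst d x) q (fun i => (h i).fst x) sq
  obtain ⟨W₀, e, k, hk, hko, hks⟩ := exists_yon_iso' Q (Cofan.mk (pullback d x) q) hcol
  have hk' : ∀ i, (AlgSp.yon S).map (k i) ≫ e.hom = q i := hk
  obtain ⟨w₀, hw₀⟩ := (AlgSp.yon S).map_surjective (e.hom ≫ pullback.snd d x)
  have sq₀ : IsPullback (e.hom ≫ pullback.fst d x) ((AlgSp.yon S).map w₀) d x := by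
    rw [hw₀]
    exact IsPullback.of_iso (IsPullback.of_hasPullback d x) e.symm (Iso.refl _) (Iso.refl _)
      (Iso.refl _) (by simp) (by simp) (by simp) (by simp)
  refine ⟨W₀, w₀, e.hom ≫ pullback.fst d x, sq₀, k, hko, hks, fun i => ?_⟩
  apply (AlgSp.yon S).map_injective
  rw [Functor.map_comp, hw₀, ← Category.assoc, hk', hq2]

end Desc

end Groth.Agent.Lib.H5bCoprodSp
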