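import Mathlib
import Groth.Prelude.Def_AlgSp4
import Groth.Agent.Lib.H5bSlLoc
import Groth.Agent.Lib.H5bQuotOpen
import Groth.Agent.S9877
import Groth.Agent.S9881
import Groth.Agent.S14276

/-!
# The fppf quotient by a flat, locally quasi-finite equivalence relation (helper5)

* `hom_ext_of_fppf_family`: the maps `h_{V_i} ⟶ h_U` of an fppf covering family are jointly epi;
* `exists_iso_of_kernelPair`: an epimorphism `h_{U'} ⟶ F''` with kernel pair `R'` identifies `F''`
  with the fppf quotient sheaf `U'/R'`;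
* `isPullback_prod_of_points`: the restriction square from its description on points;
* `isAlgSpace_quot_of_lqf`: the fppf quotient of a scheme by an equivalence relation with `s, t`
  flat, locally of finite presentation and `s` locally quasi-finite is an algebraic space.
-/

set_option autoImplicit false
set_option linter.unusedSectionVars false
set_option linter.style.haveILetI false
universe u

open CategoryTheory CategoryTheory.Limits AlgebraicGeometry Opposite
open Groth.Agent.Lib.Helper9 Groth.Agent.Lib.Helper12.QuotShLib Groth.Agent.Lib.H5bFppfLocal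
open Groth.Agent.Lib.H5bQuotOpen

namespace Groth.Agent.Lib.H5bSl

variable {S : Scheme.{u}}

/-- the maps `h_{V_i} ⟶ h_U` of an fppf covering family are jointly epimorphic. -/
theorem hom_ext_of_fppf_family {U : Over S} {ι : Type u} (V : ι → Over S) (g : ∀ i, V i ⟶ U)
    (hfl : ∀ i, Flat (g i).left) (hfp : ∀ i, LocallyOfFinitePresentation (g i).left)
    (hsurj : ∀ x : U.left, ∃ (i : ι) (y : (V i).left), (g i).left y = x)
    {Z : AlgSp.Sp S} (α β : (AlgSp.yon S).obj U ⟶ Z)
    (h : ∀ i, (AlgSp.yon S).map (g i) ≫ α = (AlgSp.yon S).map (g i) ≫ β) : α = β := by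
  have hmem : Presieve.ofArrows (fun i => (V i).left) (fun i => (g i).left) ∈
      Scheme.fppfPrecoverage U.left := by
    refine Groth.Agent.S14276.mem_precoverage_iff'.2 ⟨?_, ?_⟩
    · intro x
      obtain ⟨i, y, hy⟩ := hsurj x
      exact ⟨(V i).left, (g i).left, ⟨i⟩, y, hy⟩
    · rintro Y f ⟨i⟩
      exact ⟨hfl i, hfp i⟩
  have hcov : Sieve.generate (Presieve.ofArrows V g) ∈ AlgSp.J S U := by
    rw [GrothendieckTopology.mem_over_iff]
    refine GrothendieckTopology.superset_covering _ ?_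
      (Precoverage.generate_mem_toGrothendieck hmem)
    rintro W f ⟨W', a, b, ⟨i⟩, rfl⟩
    rw [Sieve.overEquiv_iff]
    refine ⟨V i, Over.homMk a (by simp), g i, ⟨i⟩, ?_⟩
    apply Over.OverMorphism.ext
    simp
  apply (AlgSp.J S).uliftYonedaEquiv.injective
  have hsh := (isSheaf_iff_isSheaf_of_type _ _).1 Z.property _ hcov
  refine hsh.isSeparatedFor.ext ?_
  rintro Y f ⟨Y', a, b, ⟨i⟩, rfl⟩
  rw [(AlgSp.J S).uliftYonedaEquiv_naturality, (AlgSp.J S).uliftYonedaEquiv_naturality,
    Functor.map_comp, Category.assoc, Category.assoc]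
  exact congrArg _ (congrArg _ (h i))

/-- an epimorphism `h_{U'} ⟶ F''` with kernel pair `R'` identifies `F''` with `U'/R'`. -/
theorem exists_iso_of_kernelPair {R' U' : Over S} (s' t' : R' ⟶ U') {F'' : AlgSp.Sp S}
    (q : (AlgSp.yon S).obj U' ⟶ F'') [Epi q]
    (hkq : IsPullback ((AlgSp.yon S).map s') ((AlgSp.yon S).map t') q q) :
    ∃ ψ : QuotSh.quot Scheme.fppfPrecoverage s' t' ⟶ F'', IsIso ψ := by
  obtain ⟨q', hq'⟩ : ∃ q', q' = (QuotSh.repIsoUliftYoneda Scheme.fppfPrecoverage U').hom ≫ q :=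
    ⟨_, rfl⟩
  have w : QuotSh.repMap Scheme.fppfPrecoverage s' ≫ q' =
      QuotSh.repMap Scheme.fppfPrecoverage t' ≫ q' := by
    have e1 := Groth.Agent.S9869.repMap_comp_repIso s'
    have e2 := Groth.Agent.S9869.repMap_comp_repIso t'
    rw [hq', reassoc_of% e1, reassoc_of% e2, hkq.w]
  have hkq' : IsKernelPair q' (QuotSh.repMap Scheme.fppfPrecoverage t')
      (QuotSh.repMap Scheme.fppfPrecoverage s') :=
    IsPullback.of_iso hkq.flip (QuotSh.repIsoUliftYoneda Scheme.fppfPrecoverage R').symm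
      (QuotSh.repIsoUliftYoneda Scheme.fppfPrecoverage U').symm
      (QuotSh.repIsoUliftYoneda Scheme.fppfPrecoverage U').symm (Iso.refl _)
      (repIso_inv_comp_repMap t').symm (repIso_inv_comp_repMap s').symm
      (by rw [hq']; simp) (by rw [hq']; simp)
  haveI : Epi q' := by
    rw [hq']
    exact epi_comp _ _
  exact ⟨coequalizer.desc q' w, isIso_coequalizer_desc_of_epi
    (QuotSh.repMap Scheme.fppfPrecoverage s') (QuotSh.repMap Scheme.fppfPrecoverage t') q'
    inferInstance (QuotSh.repMap Scheme.fppfPrecoverage t')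
    (QuotSh.repMap Scheme.fppfPrecoverage s') hkq' (𝟙 _) inferInstance (Category.id_comp _)
    (Category.id_comp _) w⟩

/-- the restriction square from its description on points. -/
theorem isPullback_prod_of_points {R U R' U' : Over S} (s t : R ⟶ U) (g : U' ⟶ U)
    (s' t' : R' ⟶ U') (r : R' ⟶ R) (hrs : r ≫ s = s' ≫ g) (hrt : r ≫ t = t' ≫ g)
    (hmk : ∀ (T : Over S) (a b : T ⟶ U') (ρ₀ : T ⟶ R), ρ₀ ≫ t = a ≫ g → ρ₀ ≫ s = b ≫ g →
      ∃ r' : T ⟶ R', r' ≫ t' = a ∧ r' ≫ s' = b)
    (hinj : ∀ (T : Over S) (x y : T ⟶ R), x ≫ t = y ≫ t → x ≫ s = y ≫ s → x = y)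
    (hinj' : ∀ (T : Over S) (x y : T ⟶ R'), x ≫ t' = y ≫ t' → x ≫ s' = y ≫ s' → x = y) :
    IsPullback (prod.lift t' s') r (prod.map g g) (prod.lift t s) := by
  have w : prod.lift t' s' ≫ prod.map g g = r ≫ prod.lift t s := by
    apply Limits.prod.hom_ext
    · simp only [Category.assoc, prod.map_fst, prod.lift_fst_assoc, prod.lift_fst, hrt]
    · simp only [Category.assoc, prod.map_snd, prod.lift_snd_assoc, prod.lift_snd, hrs]
  have key : ∀ c : PullbackCone (prod.map g g) (prod.lift t s),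
      ∃ l : c.pt ⟶ R', l ≫ prod.lift t' s' = c.fst ∧ l ≫ r = c.snd := by
    intro c
    have h1 : c.snd ≫ t = (c.fst ≫ prod.fst) ≫ g := by
      have := congrArg (fun m => m ≫ prod.fst) c.condition
      simp only [Category.assoc, prod.map_fst, prod.lift_fst] at this
      rw [Category.assoc]
      exact this.symm
    have h2 : c.snd ≫ s = (c.fst ≫ prod.snd) ≫ g := by
      have := congrArg (fun m => m ≫ prod.snd) c.condition
      simp only [Category.assoc, prod.map_snd, prod.lift_snd] at this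
      rw [Category.assoc]
      exact this.symm
    obtain ⟨r', hr't, hr's⟩ := hmk c.pt _ _ c.snd h1 h2
    refine ⟨r', ?_, ?_⟩
    · apply Limits.prod.hom_ext
      · rw [Category.assoc, prod.lift_fst, hr't]
      · rw [Category.assoc, prod.lift_snd, hr's]
    · apply hinj
      · rw [Category.assoc, hrt, ← Category.assoc, hr't, h1]
      · rw [Category.assoc, hrs, ← Category.assoc, hr's, h2]
  choose l hl1 hl2 using key
  refine ⟨⟨w⟩, ⟨PullbackCone.IsLimit.mk _ l hl1 hl2 ?_⟩⟩
  intro c m hm1 hm2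
  apply hinj'
  · have := congrArg (fun x => x ≫ prod.fst) (hm1.trans (hl1 c).symm)
    simp only [Category.assoc, prod.lift_fst] at this
    exact this
  · have := congrArg (fun x => x ≫ prod.snd) (hm1.trans (hl1 c).symm)
    simp only [Category.assoc, prod.lift_snd] at this
    exact this

/-- existence of lifts in a restriction square. -/
theorem exists_lift_of_isPullback {G' G : Grpd.GroupoidScheme S} (fU : G'.U ⟶ G.U)
    (fR : G'.R ⟶ G.R) (hU : fU ≫ G.pU = G'.pU)
    (hsq : IsPullback fR G'.j G.j (pullback.map G'.pU G'.pU G.pU G.pU fU fU (𝟙 S)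
      ((Category.comp_id _).trans hU.symm) ((Category.comp_id _).trans hU.symm)))
    {T : Scheme.{u}} (ρ₀ : T ⟶ G.R) (a b : T ⟶ G'.U) (ht : ρ₀ ≫ G.t = a ≫ fU)
    (hs : ρ₀ ≫ G.s = b ≫ fU) :
    ∃ r' : T ⟶ G'.R, r' ≫ G'.t = a ∧ r' ≫ G'.s = b ∧ r' ≫ fR = ρ₀ := by
  have hab : a ≫ G'.pU = b ≫ G'.pU := by
    rw [← hU, ← Category.assoc, ← ht, ← Category.assoc, ← hs, Category.assoc, Category.assoc,
      G.t_over, G.s_over]
  have hcond : ρ₀ ≫ G.j = pullback.lift a b hab ≫ pullback.map G'.pU G'.pU G.pU G.pU fU fU (𝟙 S)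
      ((Category.comp_id _).trans hU.symm) ((Category.comp_id _).trans hU.symm) := by
    apply pullback.hom_ext
    · rw [Category.assoc, Category.assoc, Groth.Agent.Lib.H5bEL.Res.j_fst, pullback.lift_fst,
        pullback.lift_fst_assoc]
      exact ht
    · rw [Category.assoc, Category.assoc, Groth.Agent.Lib.H5bEL.Res.j_snd, pullback.lift_snd,
        pullback.lift_snd_assoc]
      exact hs
  refine ⟨hsq.lift ρ₀ _ hcond, ?_, ?_, hsq.lift_fst _ _ _⟩
  · have := congrArg (fun m => m ≫ pullback.fst G'.pU G'.pU) (hsq.lift_snd ρ₀ _ hcond)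
    simp only [Category.assoc, Groth.Agent.Lib.H5bEL.Res.j_fst, pullback.lift_fst] at this
    exact this
  · have := congrArg (fun m => m ≫ pullback.snd G'.pU G'.pU) (hsq.lift_snd ρ₀ _ hcond)
    simp only [Category.assoc, Groth.Agent.Lib.H5bEL.Res.j_snd, pullback.lift_snd] at this
    exact this

set_option maxHeartbeats 1600000 in
/-- **the fppf quotient by a flat, locally quasi-finite equivalence relation is an algebraic
space**. -/
theorem isAlgSpace_quot_of_lqf {R U : Over S} (s t : R ⟶ U) (h : AlgSp.IsEqvRel s t)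
    [Flat s.left] [LocallyOfFinitePresentation s.left] [LocallyQuasiFinite s.left]
    [Flat t.left] [LocallyOfFinitePresentation t.left] :
    AlgSp.IsAlgSpace (QuotSh.quot Scheme.fppfPrecoverage s t) := by
  classical
  haveI : Flat (grpdOfEqv h).s := ‹Flat s.left›
  haveI : LocallyOfFinitePresentation (grpdOfEqv h).s := ‹LocallyOfFinitePresentation s.left›
  haveI : LocallyQuasiFinite (grpdOfEqv h).s := ‹LocallyQuasiFinite s.left›
  choose G' fU fR hU u' h1 h2 h3 h4 h5 h6 h7 using
    fun u : (grpdOfEqv h).U => exists_chart (grpdOfEqv h) u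
  let g : ∀ u, ovU (G' u) ⟶ U := fun u => Over.homMk (fU u) (hU u)
  have hRw : ∀ u, fR u ≫ R.hom = (G' u).pR := by
    intro u
    have e1 : fR u ≫ s.left = (G' u).s ≫ fU u := h3 u
    have e2 : fU u ≫ U.hom = (G' u).pU := hU u
    calc fR u ≫ R.hom = fR u ≫ (s.left ≫ U.hom) :=
          congrArg (fun m => fR u ≫ m) (Over.w s).symm
      _ = (fR u ≫ s.left) ≫ U.hom := (Category.assoc _ _ _).symm
      _ = ((G' u).s ≫ fU u) ≫ U.hom := congrArg (fun m => m ≫ U.hom) e1
      _ = (G' u).s ≫ (fU u ≫ U.hom) := Category.assoc _ _ _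
      _ = (G' u).s ≫ (G' u).pU := congrArg (fun m => (G' u).s ≫ m) e2
      _ = (G' u).pR := (G' u).s_over
  let r : ∀ u, ovR (G' u) ⟶ R := fun u => Over.homMk (fR u) (hRw u)
  have hrs : ∀ u, r u ≫ s = ovS (G' u) ≫ g u := fun u => by
    apply Over.OverMorphism.ext
    exact h3 u
  have hrt : ∀ u, r u ≫ t = ovT (G' u) ≫ g u := fun u => by
    apply Over.OverMorphism.ext
    exact h4 u
  have hmk : ∀ u (T : Over S) (a b : T ⟶ ovU (G' u)) (ρ₀ : T ⟶ R), ρ₀ ≫ t = a ≫ g u →
      ρ₀ ≫ s = b ≫ g u → ∃ r' : T ⟶ ovR (G' u), r' ≫ ovT (G' u) = a ∧ r' ≫ ovS (G' u) = b := by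
    intro u T a b ρ₀ ht hs
    obtain ⟨r', hr1, hr2, -⟩ := exists_lift_of_isPullback (fU u) (fR u) (hU u) (h5 u) ρ₀.left
      a.left b.left (congrArg (fun m : T ⟶ U => m.left) ht)
      (congrArg (fun m : T ⟶ U => m.left) hs)
    refine ⟨Over.homMk r' ?_, ?_, ?_⟩
    · show r' ≫ (G' u).pR = T.hom
      rw [← (G' u).t_over, ← Category.assoc, hr1]
      exact Over.w a
    · apply Over.OverMorphism.ext
      exact hr1
    · apply Over.OverMorphism.ext
      exact hr2
  have hEq' : ∀ u, AlgSp.IsEqvRel (ovS (G' u)) (ovT (G' u)) := fun u => by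
    haveI := h6 u
    exact isEqvRel_of_grpd (G' u)
  have hsq : ∀ u, IsPullback (prod.lift (ovT (G' u)) (ovS (G' u))) (r u)
      (prod.map (g u) (g u)) (prod.lift t s) := fun u =>
    isPullback_prod_of_points s t (g u) _ _ (r u) (hrs u) (hrt u) (hmk u) h.injective
      (hEq' u).injective
  have hk := isPullback_quotπ h
  obtain ⟨πF, hπF⟩ : ∃ πF, πF = (QuotSh.repIsoUliftYoneda Scheme.fppfPrecoverage U).inv ≫
      QuotSh.quotπ Scheme.fppfPrecoverage s t := ⟨_, rfl⟩
  rw [← hπF] at hk
  haveI : Epi πF := by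
    haveI : Epi (QuotSh.quotπ Scheme.fppfPrecoverage s t) :=
      inferInstanceAs (Epi (coequalizer.π _ _))
    rw [hπF]
    exact epi_comp _ _
  have hopen : ∀ u, ∃ (F'' : AlgSp.Sp S) (incl : F'' ⟶ QuotSh.quot Scheme.fppfPrecoverage s t)
      (q : (AlgSp.yon S).obj (ovU (G' u)) ⟶ F''),
      AlgSp.RepWith @IsOpenImmersion incl ∧ Mono incl ∧
        q ≫ incl = (AlgSp.yon S).map (g u) ≫ πF ∧ Epi q ∧
        IsPullback ((AlgSp.yon S).map (ovS (G' u))) ((AlgSp.yon S).map (ovT (G' u))) q q :=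
    fun u => by
      haveI : Etale (g u).left := h1 u
      exact exists_open_subsheaf s t (g u) _ _ (r u) (hsq u) h.injective πF hk
  choose F'' incl q hincl hmono hq hepi hkq using hopen
  have halg : ∀ u, AlgSp.IsAlgSpace (F'' u) := fun u => by
    haveI := hepi u
    obtain ⟨ψ, hψ⟩ := exists_iso_of_kernelPair _ _ (q u) (hkq u)
    haveI := hψ
    exact (h7 u).of_iso (asIso ψ)
  let c : Cofan F'' := Cofan.mk (∐ F'') (Sigma.ι F'')
  have hc : IsColimit c := coproductIsCoproduct F''
  have hcop := Groth.Agent.S9881.result S F'' halg c hc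
  refine Groth.Agent.S9877.result S _ F'' incl halg hincl c hc ?_ hcop
  rw [Sheaf.isLocallySurjective_iff_epi]
  constructor
  intro Z a b hab
  have hi : ∀ u, incl u ≫ a = incl u ≫ b := fun u => by
    have := congrArg (fun m => c.inj u ≫ m) hab
    simp only [← Category.assoc, Cofan.IsColimit.fac] at this
    exact this
  rw [← cancel_epi πF]
  refine hom_ext_of_fppf_family (fun u => ovU (G' u)) g
    (fun u => by haveI : Etale (g u).left := h1 u; infer_instance)
    (fun u => by haveI : Etale (g u).left := h1 u; infer_instance)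
    (fun x => ⟨x, u' x, h2 x⟩) _ _ (fun u => ?_)
  rw [← Category.assoc, ← hq u, Category.assoc, hi u, ← Category.assoc, hq u, Category.assoc]

end Groth.Agent.Lib.H5bSl
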