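import Mathlib
import Groth.Prelude.Def_AlgSp
import Groth.Prelude.Def_AlgSp3
import Groth.Prelude.Def_AlgSp4
import Groth.Prelude.Def_AlgSpRep
import Groth.Agent.Lib.H5bBootB

/-!
# Bootstrap: presentations from fppf coverings (helper5)

* `isEqvRel_of_isKernelPair`: a kernel pair of a map out of a representable sheaf, represented by
  schemes, is an equivalence relation;
* `exists_presentation_of_fppf_cover`: a sheaf `F` with an fppf covering `X ⟶ F`, representable by
  algebraic spaces, from an algebraic space is the quotient of a scheme by a flat, locally finitely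
  presented equivalence relation.
-/

set_option autoImplicit false
set_option linter.style.haveILetI false
set_option linter.unusedSectionVars false
set_option linter.unusedSimpArgs false
set_option linter.unusedVariables false
universe u

open CategoryTheory CategoryTheory.Limits AlgebraicGeometry AlgSp Opposite

namespace Groth.Agent.Lib.H5bBoot

variable {S : Scheme.{u}}

/-- a kernel pair represented by schemes is an equivalence relation. -/
theorem isEqvRel_of_isKernelPair {R U : Over S} (s t : R ⟶ U) {F : AlgSp.Sp S}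
    (q : (yon S).obj U ⟶ F) (hk : IsPullback ((yon S).map t) ((yon S).map s) q q) :
    AlgSp.IsEqvRel s t := by
  have hrel : ∀ (T : Over S) (a b : T ⟶ U),
      (∃ r : T ⟶ R, r ≫ t = a ∧ r ≫ s = b) ↔ (yon S).map a ≫ q = (yon S).map b ≫ q := by
    intro T a b
    constructor
    · rintro ⟨r, rfl, rfl⟩
      rw [Functor.map_comp, Functor.map_comp, Category.assoc, Category.assoc, hk.w]
    · intro hab
      obtain ⟨r, hr⟩ := (yon S).map_surjective (hk.lift _ _ hab)
      refine ⟨r, ?_, ?_⟩
      · apply (yon S).map_injective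
        rw [Functor.map_comp, hr, hk.lift_fst]
      · apply (yon S).map_injective
        rw [Functor.map_comp, hr, hk.lift_snd]
  refine ⟨fun T r r' h1 h2 => ?_, fun T => ⟨?_, ?_, ?_⟩⟩
  · apply (yon S).map_injective
    apply hk.hom_ext
    · rw [← Functor.map_comp, ← Functor.map_comp, h1]
    · rw [← Functor.map_comp, ← Functor.map_comp, h2]
  · intro a
    exact (hrel T a a).2 rfl
  · intro a b hab
    exact (hrel T b a).2 ((hrel T a b).1 hab).symm
  · intro a b c hab hbc
    exact (hrel T a c).2 (((hrel T a b).1 hab).trans ((hrel T b c).1 hbc))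

/-- **presentation from an fppf covering**. -/
theorem exists_presentation_of_fppf_cover (F : AlgSp.Sp S) (X : AlgSp.Space S) (p : X.obj ⟶ F)
    (hp : AlgSp.RepBySpWith (AlgSp.IsSurjectiveMor ⊓ AlgSp.LocP @Flat ⊓
      AlgSp.LocP @LocallyOfFinitePresentation) p.hom) :
    ∃ (R U : Over S) (s t : R ⟶ U) (q : (yon S).obj U ⟶ F), Epi q ∧
      IsPullback ((yon S).map t) ((yon S).map s) q q ∧ Flat s.left ∧
      LocallyOfFinitePresentation s.left ∧ Flat t.left ∧ LocallyOfFinitePresentation t.left := by
  obtain ⟨U, a, hae, has⟩ := X.property.atlas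
  obtain ⟨q, hq⟩ : ∃ q : (yon S).obj U ⟶ F, q = a ≫ p := ⟨_, rfl⟩
  haveI : Epi a := Groth.Agent.Lib.H5bAtlasDesc.epi_of_atlas a hae has
  haveI : Epi p := Groth.Agent.S10096.result S X.obj F p hp
  haveI : Epi q := by rw [hq]; exact epi_comp a p
  have sqX := IsPullback.of_hasPullback p q
  obtain ⟨hXU, ⟨hsurj, hflat⟩, hlfp⟩ :=
    (AlgSp.repBySpWith_hom_iff _ p).1 hp q (pullback.fst p q) (pullback.snd p q) sqX
  have sqK := IsPullback.of_hasPullback a (pullback.fst p q)
  have hK : AlgSp.IsAlgSpace (pullback a (pullback.fst p q)) :=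
    Groth.Agent.S9874.isAlgSpace_of_isPullback X.property.diag (AlgSp.IsAlgSpace.yon_obj U) hXU sqK
  have hkp : IsPullback (pullback.snd a (pullback.fst p q) ≫ pullback.snd p q)
      (pullback.fst a (pullback.fst p q)) q (a ≫ p) := sqK.flip.paste_horiz sqX.flip
  rw [← hq] at hkp
  have hsnd : AlgSp.RepWith @Etale (pullback.snd a (pullback.fst p q)) :=
    MorphismProperty.of_isPullback (P := AlgSp.RepWith @Etale) sqK hae
  have hlft : AlgSp.LocP @LocallyOfFiniteType
      (pullback.snd a (pullback.fst p q) ≫ pullback.snd p q) :=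
    Groth.Agent.Lib.Helper12.LocPCases.good_lft.locP_comp hXU (AlgSp.IsAlgSpace.yon_obj U) _ _
      (Groth.Agent.S9947.locP_of_repWith_etale @LocallyOfFiniteType
        (fun g hg => by haveI := hg; infer_instance) _ hsnd)
      (Groth.Agent.Lib.Helper12.LargestOpen.locP_mono
        (fun _ _ g hg => by haveI : LocallyOfFinitePresentation g := hg; infer_instance) hlfp)
  have hfl2 : AlgSp.LocP @Flat
      (pullback.snd a (pullback.fst p q) ≫ pullback.snd p q) :=
    Groth.Agent.Lib.Helper12.LocPCases.good_flat.locP_comp hXU (AlgSp.IsAlgSpace.yon_obj U) _ _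
      (Groth.Agent.S9947.locP_of_repWith_etale @Flat
        (fun g hg => by haveI := hg; infer_instance) _ hsnd) hflat
  have hfp2 : AlgSp.LocP @LocallyOfFinitePresentation
      (pullback.snd a (pullback.fst p q) ≫ pullback.snd p q) :=
    Groth.Agent.Lib.Helper12.LocPCases.good_lfp.locP_comp hXU (AlgSp.IsAlgSpace.yon_obj U) _ _
      (Groth.Agent.S9947.locP_of_repWith_etale @LocallyOfFinitePresentation
        (fun g hg => by haveI := hg; infer_instance) _ hsnd) hlfp
  obtain ⟨R, e, t, s, ht, hs, hlfts⟩ := exists_scheme_of_jointly_mono hK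
    (pullback.fst a (pullback.fst p q)) (pullback.snd a (pullback.fst p q) ≫ pullback.snd p q)
    (fun x y h1 h2 => hkp.hom_ext h2 h1) hlft
  have hk : IsPullback ((yon S).map t) ((yon S).map s) q q := by
    rw [← hs, ← ht]
    exact IsPullback.of_iso hkp.flip e.symm (Iso.refl _) (Iso.refl _) (Iso.refl _) (by simp)
      (by simp) (by simp) (by simp)
  have hee : AlgSp.RepWith @Etale e.hom := MorphismProperty.of_isIso (AlgSp.RepWith @Etale) e.hom
  have hsfl : Flat s.left := hfl2 e.hom (𝟙 _) s hee (AlgSp.repWith_id _ U) (by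
    rw [Category.comp_id, ← hs])
  have hsfp : LocallyOfFinitePresentation s.left := hfp2 e.hom (𝟙 _) s hee
    (AlgSp.repWith_id _ U) (by rw [Category.comp_id, ← hs])
  -- the swap
  obtain ⟨σ, hσ⟩ := (yon S).map_surjective (hk.lift ((yon S).map s) ((yon S).map t) hk.w.symm)
  have hσt : σ ≫ t = s := by
    apply (yon S).map_injective
    rw [Functor.map_comp, hσ, hk.lift_fst]
  have hσs : σ ≫ s = t := by
    apply (yon S).map_injective
    rw [Functor.map_comp, hσ, hk.lift_snd]
  have hσσ : σ ≫ σ = 𝟙 R := by
    apply (yon S).map_injective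
    apply hk.hom_ext
    · rw [← Functor.map_comp, ← Functor.map_comp, Category.assoc, hσt, hσs, Category.id_comp]
    · rw [← Functor.map_comp, ← Functor.map_comp, Category.assoc, hσs, hσt, Category.id_comp]
  haveI : IsIso σ := ⟨σ, hσσ, hσσ⟩
  haveI : IsIso σ.left := inferInstanceAs (IsIso ((Over.forget S).map σ))
  have htl : t.left = σ.left ≫ s.left := by rw [← Over.comp_left, hσs]
  haveI := hsfl
  haveI := hsfp
  refine ⟨R, U, s, t, q, inferInstance, hk, hsfl, hsfp, ?_, ?_⟩
  · rw [htl]
    infer_instance
  · rw [htl]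
    infer_instance

end Groth.Agent.Lib.H5bBoot
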