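import Mathlib
import Groth.Prelude.Def_Grpd
import Groth.Prelude.Def_MoreMor
import Groth.Agent.S1341
import Groth.Agent.S1342
import Groth.Agent.S1880
import Groth.Agent.Lib.Helper5FiberStalk
import Groth.Agent.Lib.Helper28PolyCM
import Groth.Agent.Lib.H5bELStab

/-!
# The Cohen–Macaulay locus of a groupoid scheme (helper5)

* `isCMAt_iff`: `Grpd.IsCMAt f x ↔ MoreMor.IsCMAt f x`.
* `cm_translate`: for a point `y` of `R ×_{s,U,t} R`, `s` is CM at `pr₁ y` iff `s` is CM at `c y`.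
* `main`: S1936.
-/

set_option autoImplicit false
set_option linter.style.haveILetI false
universe u

namespace Groth.Agent.Lib.H5bGCM

open AlgebraicGeometry CategoryTheory Limits

theorem isCMAt_iff {X Y : Scheme.{u}} (f : X ⟶ Y) (x : X) :
    Grpd.IsCMAt f x ↔ MoreMor.IsCMAt f x := by
  obtain ⟨e⟩ := Groth.Agent.Lib.Helper5.FiberStalk.nonempty_stalk_asFiber_equiv f x
  constructor
  · rintro ⟨h1, h2⟩
    exact ⟨h1, @Groth.Agent.Lib.Helper28.isCohenMacaulayLocalRing_of_ringEquiv _ _ _ _ e.symm h2⟩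
  · rintro ⟨h1, h2⟩
    exact ⟨h1, @Groth.Agent.Lib.Helper28.isCohenMacaulayLocalRing_of_ringEquiv _ _ _ _ e h2⟩

variable {S : Scheme.{u}} (G : Grpd.GroupoidScheme S)

/-- the CM locus of `s` -/
def W : Set G.R := {r | MoreMor.IsCMAt G.s r}

theorem cm_translate [Flat G.s] [LocallyOfFinitePresentation G.s] (y : ↑(pullback G.s G.t)) :
    pullback.fst G.s G.t y ∈ W G ↔ G.c y ∈ W G := by
  have h1 := Groth.Agent.S1342.result G.s (pullback.snd G.s G.t) (pullback.fst G.s G.t) G.t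
    (IsPullback.of_hasPullback G.s G.t)
  have h2 := Groth.Agent.S1342.result G.s (pullback.snd G.s G.t) G.c G.s
    (Groth.Agent.S1880.isPullback_c G)
  have h3 : y ∈ {x' : ↑(pullback G.s G.t) | MoreMor.IsCMAt (pullback.snd G.s G.t) x'} ↔
      pullback.fst G.s G.t y ∈ W G := by rw [h1]; rfl
  have h4 : y ∈ {x' : ↑(pullback G.s G.t) | MoreMor.IsCMAt (pullback.snd G.s G.t) x'} ↔
      G.c y ∈ W G := by rw [h2]; rfl
  exact h3.symm.trans h4

/-- `s` is CM at `r` iff it is CM at `e (t r)` -/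
theorem cm_iff_e_t [Flat G.s] [LocallyOfFinitePresentation G.s] (r : G.R) :
    r ∈ W G ↔ G.e (G.t r) ∈ W G := by
  have hcond : (G.t ≫ G.e) ≫ G.s = 𝟙 G.R ≫ G.t := by
    rw [Category.assoc, G.e_s, Category.comp_id, Category.id_comp]
  let σ : G.R ⟶ pullback G.s G.t := pullback.lift (G.t ≫ G.e) (𝟙 G.R) hcond
  have h := cm_translate G (σ r)
  have e1 : pullback.fst G.s G.t (σ r) = G.e (G.t r) := by
    rw [← Scheme.Hom.comp_apply, pullback.lift_fst, Scheme.Hom.comp_apply]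
  have e2 : G.c (σ r) = r := by
    rw [← Scheme.Hom.comp_apply]
    have : σ ≫ G.c = 𝟙 G.R := by
      have := G.e_comp (𝟙 G.R)
      simpa [σ] using this
    rw [this]; rfl
  rw [e1, e2] at h
  exact h.symm

theorem isOpen_W [Flat G.s] [LocallyOfFinitePresentation G.s] : IsOpen (W G) :=
  (Groth.Agent.S1341.result G.s).1

/-- `t` is CM at `r` iff `s` is CM at `i r` -/
theorem cm_t_iff [Flat G.s] [LocallyOfFinitePresentation G.s] (r : G.R) :
    MoreMor.IsCMAt G.t r ↔ G.i r ∈ W G := by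
  haveI : IsIso G.i := ⟨G.i, Groth.Agent.Lib.H5bEL.i_i (G := G), Groth.Agent.Lib.H5bEL.i_i (G := G)⟩
  have hsq : IsPullback G.i G.t G.s (𝟙 G.U) :=
    IsPullback.of_horiz_isIso ⟨by rw [G.i_s, Category.comp_id]⟩
  have h1 := Groth.Agent.S1342.result G.s G.t G.i (𝟙 G.U) hsq
  have h3 : r ∈ {x' : G.R | MoreMor.IsCMAt G.t x'} ↔ G.i r ∈ W G := by rw [h1]; rfl
  exact h3

theorem exists_mem_W_fibre [Flat G.s] [LocallyOfFinitePresentation G.s] (u : G.U) :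
    ∃ r : G.R, r ∈ W G ∧ G.s r = u := by
  have hd := (Groth.Agent.S1341.result G.s).2 u
  have hne : ∃ z : ↑(G.s.fiber u), G.s.fiberι u z = G.e u := by
    have h : G.e u ∈ Set.range (G.s.fiberι u) := by
      rw [G.s.range_fiberι u]
      show G.s (G.e u) = u
      rw [← Scheme.Hom.comp_apply, G.e_s]; rfl
    exact h
  obtain ⟨z0, -⟩ := hne
  haveI : Nonempty ↑(G.s.fiber u) := ⟨z0⟩
  obtain ⟨z, hz⟩ := hd.nonempty
  refine ⟨G.s.fiberι u z, hz, ?_⟩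
  have h : G.s.fiberι u z ∈ Set.range (G.s.fiberι u) := ⟨z, rfl⟩
  rw [G.s.range_fiberι u] at h
  exact h

theorem main [Flat G.s] [LocallyOfFinitePresentation G.s] :
    ∃ U' : G.U.Opens, (G.t ⁻¹ᵁ U' : Set G.R) = {r | Grpd.IsCMAt G.s r} ∧
      (G.s ⁻¹ᵁ U' : Set G.R) = {r | Grpd.IsCMAt G.t r} ∧
      ⇑G.t '' (G.s ⁻¹ᵁ U' : Set G.R) = Set.univ ∧ ⇑G.s '' (G.t ⁻¹ᵁ U' : Set G.R) = Set.univ := by
  let U' : G.U.Opens := ⟨G.e ⁻¹' W G, (isOpen_W G).preimage G.e.continuous⟩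
  have ht : ∀ r : G.R, r ∈ (G.t ⁻¹ᵁ U' : Set G.R) ↔ r ∈ W G := fun r => (cm_iff_e_t G r).symm
  have hs : ∀ r : G.R, r ∈ (G.s ⁻¹ᵁ U' : Set G.R) ↔ G.i r ∈ W G := by
    intro r
    have h := ht (G.i r)
    have e1 : G.t (G.i r) = G.s r := by rw [← Scheme.Hom.comp_apply, G.i_t]
    rw [← h]
    show G.e (G.s r) ∈ W G ↔ G.e (G.t (G.i r)) ∈ W G
    rw [e1]
  refine ⟨U', ?_, ?_, ?_, ?_⟩
  · ext r
    rw [ht r]
    exact (isCMAt_iff G.s r).symm
  · ext r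
    rw [hs r]
    exact ((isCMAt_iff G.t r).trans (cm_t_iff G r)).symm
  · rw [Set.eq_univ_iff_forall]
    intro u
    obtain ⟨r₀, hr₀, hsr₀⟩ := exists_mem_W_fibre G u
    refine ⟨G.i r₀, ?_, ?_⟩
    · rw [hs]
      have : G.i (G.i r₀) = r₀ := by
        rw [← Scheme.Hom.comp_apply, Groth.Agent.Lib.H5bEL.i_i (G := G)]; rfl
      rw [this]; exact hr₀
    · rw [← Scheme.Hom.comp_apply, G.i_t]; exact hsr₀
  · rw [Set.eq_univ_iff_forall]
    intro u
    obtain ⟨r₀, hr₀, hsr₀⟩ := exists_mem_W_fibre G u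
    exact ⟨r₀, (ht r₀).mpr hr₀, hsr₀⟩

end Groth.Agent.Lib.H5bGCM
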