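import Groth.Agent.Lib.Helper28FibLoc
import Groth.Agent.S18708
import Groth.Agent.S0387

/-!
# helper9: S18725 — the affine form of (c) ⇔ (d) for four-term exact sequences

* `algLoc`, `modLoc`, `tower1`, `tower2` (scoped instances): the local homomorphism `A_p → B_q`
  (`p = q ∩ A`) and the `A_p`-module structure on `X_q`;
* `flatAt_loc_of_flatAt`: flatness at a generization `q' ⊆ q` gives flatness of `X_q` at `q' B_q`;
* `idealDepth_fibMod_loc_eq`: `depth (X_q / p X_q)` over `B_q` vs. over the fibre local ring;
* `local_package`: S18708 at the prime `q`, with ideal the maximal ideal of `B_q`;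
* `thm725`: the statement.
-/

set_option autoImplicit false
set_option linter.unusedSectionVars false
set_option linter.deprecated false
set_option linter.style.haveILetI false
universe u

namespace Groth.Agent.Lib.H9QGor725
open Groth.Agent.Lib.Helper28

section Loc

variable {A B : Type u} [CommRing A] [CommRing B] [Algebra A B]
  (q : Ideal B) [q.IsPrime]

/-- the contraction -/
abbrev ctr : Ideal A := q.comap (algebraMap A B)

scoped instance liesOverCtr : q.LiesOver (ctr (A := A) q) := ⟨rfl⟩

noncomputable scoped instance algLoc :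
    Algebra (Localization.AtPrime (ctr (A := A) q)) (Localization.AtPrime q) :=
  Localization.AtPrime.algebraOfLiesOver (ctr (A := A) q) q

scoped instance isLocalHomLoc :
    IsLocalHom (algebraMap (Localization.AtPrime (ctr (A := A) q)) (Localization.AtPrime q)) := by
  rw [RingHom.algebraMap_toAlgebra]
  exact Localization.isLocalHom_localRingHom (ctr (A := A) q) q (algebraMap A B)
    Ideal.LiesOver.over

variable (X : Type u) [AddCommGroup X] [Module B X] [Module A X] [IsScalarTower A B X]

noncomputable scoped instance modLoc :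
    Module (Localization.AtPrime (ctr (A := A) q)) (LocalizedModule q.primeCompl X) :=
  Module.compHom _ (algebraMap (Localization.AtPrime (ctr (A := A) q)) (Localization.AtPrime q))

scoped instance tower1 : IsScalarTower (Localization.AtPrime (ctr (A := A) q)) (Localization.AtPrime q)
    (LocalizedModule q.primeCompl X) :=
  ⟨fun a b x => by
    change (a • b) • x = algebraMap _ (Localization.AtPrime q) a • (b • x)
    rw [Algebra.smul_def, mul_smul]⟩

scoped instance tower2 : IsScalarTower A (Localization.AtPrime (ctr (A := A) q))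
    (LocalizedModule q.primeCompl X) :=
  IsScalarTower.of_algebraMap_smul fun r x => by
    change algebraMap (Localization.AtPrime (ctr (A := A) q)) (Localization.AtPrime q)
      (algebraMap A _ r) • x = r • x
    rw [← IsScalarTower.algebraMap_apply, IsScalarTower.algebraMap_apply A B
      (Localization.AtPrime q), algebraMap_smul, algebraMap_smul]

theorem flat_loc_iff :
    Module.Flat (Localization.AtPrime (ctr (A := A) q)) (LocalizedModule q.primeCompl X) ↔
      FlatCA.FlatAt A q X :=
  Module.flat_iff_of_isLocalization (Localization.AtPrime (ctr (A := A) q))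
    (ctr (A := A) q).primeCompl _

end Loc


section Loc2

variable {A B : Type u} [CommRing A] [CommRing B] [Algebra A B]
  (q : Ideal B) [q.IsPrime]
  (X : Type u) [AddCommGroup X] [Module B X] [Module A X] [IsScalarTower A B X]

theorem flatAt_loc_of_flatAt (Q : Ideal (Localization.AtPrime q)) [Q.IsPrime]
    (h : FlatCA.FlatAt A (Q.comap (algebraMap B (Localization.AtPrime q))) X) :
    FlatCA.FlatAt (Localization.AtPrime (ctr (A := A) q)) Q (LocalizedModule q.primeCompl X) := by
  unfold FlatCA.FlatAt at h ⊢
  have h1 : IsBaseChange (Localization.AtPrime q) (LocalizedModule.mkLinearMap q.primeCompl X) :=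
    IsLocalizedModule.isBaseChange q.primeCompl (Localization.AtPrime q) _
  have h2 : IsBaseChange (Localization.AtPrime Q)
      (LocalizedModule.mkLinearMap Q.primeCompl (LocalizedModule q.primeCompl X)) :=
    IsLocalizedModule.isBaseChange Q.primeCompl (Localization.AtPrime Q) _
  have h3 := IsBaseChange.comp h1 h2
  haveI h4 : IsLocalizedModule (Q.comap (algebraMap B (Localization.AtPrime q))).primeCompl
      (((LocalizedModule.mkLinearMap Q.primeCompl (LocalizedModule q.primeCompl X)).restrictScalars B).comp
        (LocalizedModule.mkLinearMap q.primeCompl X)) :=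
    (isLocalizedModule_iff_isBaseChange (Q.comap (algebraMap B (Localization.AtPrime q))).primeCompl
      (Localization.AtPrime Q) _).mpr h3
  let e := IsLocalizedModule.iso (Q.comap (algebraMap B (Localization.AtPrime q))).primeCompl
      (((LocalizedModule.mkLinearMap Q.primeCompl (LocalizedModule q.primeCompl X)).restrictScalars B).comp
        (LocalizedModule.mkLinearMap q.primeCompl X))
  have hA : Module.Flat A (LocalizedModule Q.primeCompl (LocalizedModule q.primeCompl X)) :=
    Module.Flat.of_linearEquiv (e.restrictScalars A).symm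
  exact (Module.flat_iff_of_isLocalization (Localization.AtPrime (ctr (A := A) q))
    (ctr (A := A) q).primeCompl _).mpr hA

end Loc2


section Loc3

variable {A B : Type u} [CommRing A] [CommRing B] [IsNoetherianRing A] [IsNoetherianRing B]
  [Algebra A B] (q : Ideal B) [q.IsPrime]

theorem idealDepth_fibMod_loc_eq (M : Type u) [AddCommGroup M] [Module B M] [Module.Finite B M] :
    LocCoh.idealDepth (IsLocalRing.maximalIdeal (Localization.AtPrime q))
      (EGA4.FibMod (Localization.AtPrime (ctr (A := A) q)) (Localization.AtPrime q)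
        (LocalizedModule q.primeCompl M)) =
    LocCoh.idealDepth (q.map (algebraMap B (EGA4.FibLocRing A B q)))
      (EGA4.FibLocMod A B q M) := by
  have hmapeq : (IsLocalRing.maximalIdeal (Localization.AtPrime (ctr (A := A) q))).map
      (algebraMap (Localization.AtPrime (ctr (A := A) q)) (Localization.AtPrime q)) =
      (ctr (A := A) q).map (algebraMap A (Localization.AtPrime q)) := by
    rw [← IsLocalization.AtPrime.map_eq_maximalIdeal (ctr (A := A) q)
      (Localization.AtPrime (ctr (A := A) q)), Ideal.map_map, ← IsScalarTower.algebraMap_eq]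
  rw [idealDepth_congr (Submodule.quotEquivOfEq _
    ((ctr (A := A) q).map (algebraMap A (Localization.AtPrime q)) •
      (⊤ : Submodule (Localization.AtPrime q) (LocalizedModule q.primeCompl M)))
    (congrArg (fun I => I • (⊤ : Submodule (Localization.AtPrime q)
      (LocalizedModule q.primeCompl M))) hmapeq))]
  have hfin : Module.Finite (EGA4.FibLocRing A B q) (EGA4.FibLocMod A B q M) :=
    Module.Finite.of_restrictScalars_finite (Localization.AtPrime q) _ _
  rw [idealDepth_restrictScalars_eq_idealDepth_map (B := EGA4.FibLocRing A B q)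
    (IsLocalRing.maximalIdeal (Localization.AtPrime q)) (EGA4.FibLocMod A B q M)]
  have hq : (IsLocalRing.maximalIdeal (Localization.AtPrime q)).map
      (algebraMap (Localization.AtPrime q) (EGA4.FibLocRing A B q)) =
      q.map (algebraMap B (EGA4.FibLocRing A B q)) := by
    rw [← Localization.AtPrime.map_eq_maximalIdeal, Ideal.map_map,
      ← IsScalarTower.algebraMap_eq]
  rw [hq]

variable
    (F E0 E1 G : Type u) [AddCommGroup F] [Module B F] [Module A F] [IsScalarTower A B F] [Module.Finite B F]
    [AddCommGroup E0] [Module B E0] [Module A E0] [IsScalarTower A B E0] [Module.Finite B E0] [Module.Flat A E0]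
    [AddCommGroup E1] [Module B E1] [Module A E1] [IsScalarTower A B E1] [Module.Finite B E1] [Module.Flat A E1]
    [AddCommGroup G] [Module B G] [Module A G] [IsScalarTower A B G] [Module.Finite B G]
    (f : F →ₗ[B] E0) (u : E0 →ₗ[B] E1) (v : E1 →ₗ[B] G)

theorem local_package
    (hf : Function.Injective f) (hfu : Function.Exact f u) (huv : Function.Exact u v) (hv : Function.Surjective v)
    (hlt : ∀ q' : PrimeSpectrum B, q'.asIdeal < q → FlatCA.FlatAt A q'.asIdeal G)
    (h0 : 2 ≤ LocCoh.idealDepth (q.map (algebraMap B (EGA4.FibLocRing A B q))) (EGA4.FibLocMod A B q E0))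
    (h1 : 1 ≤ LocCoh.idealDepth (q.map (algebraMap B (EGA4.FibLocRing A B q))) (EGA4.FibLocMod A B q E1)) :
    (2 ≤ LocCoh.idealDepth (q.map (algebraMap B (EGA4.FibLocRing A B q))) (EGA4.FibLocMod A B q F)) ↔
      FlatCA.FlatAt A q G := by
  set S := q.primeCompl with hS
  -- localized maps
  set fS := IsLocalizedModule.map S (LocalizedModule.mkLinearMap S F)
    (LocalizedModule.mkLinearMap S E0) f with hfS
  set uS := IsLocalizedModule.map S (LocalizedModule.mkLinearMap S E0)
    (LocalizedModule.mkLinearMap S E1) u with huS
  set vS := IsLocalizedModule.map S (LocalizedModule.mkLinearMap S E1)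
    (LocalizedModule.mkLinearMap S G) v with hvS
  let fL : LocalizedModule S F →ₗ[Localization.AtPrime q] LocalizedModule S E0 :=
    LinearMap.extendScalarsOfIsLocalization S (Localization.AtPrime q) fS
  let uL : LocalizedModule S E0 →ₗ[Localization.AtPrime q] LocalizedModule S E1 :=
    LinearMap.extendScalarsOfIsLocalization S (Localization.AtPrime q) uS
  let vL : LocalizedModule S E1 →ₗ[Localization.AtPrime q] LocalizedModule S G :=
    LinearMap.extendScalarsOfIsLocalization S (Localization.AtPrime q) vS
  have hfL : Function.Injective fL := IsLocalizedModule.map_injective S _ _ f hf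
  have hvL : Function.Surjective vL := IsLocalizedModule.map_surjective S _ _ v hv
  have hfuL : Function.Exact fL uL := LocalizedModule.map_exact S f u hfu
  have huvL : Function.Exact uL vL := LocalizedModule.map_exact S u v huv
  haveI : Module.Flat (Localization.AtPrime (ctr (A := A) q)) (LocalizedModule S E0) :=
    (flat_loc_iff q E0).mpr (flatAt_of_flat q)
  haveI : Module.Flat (Localization.AtPrime (ctr (A := A) q)) (LocalizedModule S E1) :=
    (flat_loc_iff q E1).mpr (flatAt_of_flat q)
  have hGU' : ∀ Q : PrimeSpectrum (Localization.AtPrime q),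
      ¬ IsLocalRing.maximalIdeal (Localization.AtPrime q) ≤ Q.asIdeal →
      FlatCA.FlatAt (Localization.AtPrime (ctr (A := A) q)) Q.asIdeal (LocalizedModule S G) := by
    intro Q hQ
    apply flatAt_loc_of_flatAt q G Q.asIdeal
    apply hlt ⟨Q.asIdeal.comap (algebraMap B (Localization.AtPrime q)), inferInstance⟩
    have hcm : (IsLocalRing.maximalIdeal (Localization.AtPrime q)).comap
        (algebraMap B (Localization.AtPrime q)) = q :=
      IsLocalization.AtPrime.under_maximalIdeal (Localization.AtPrime q) q
    have hle : Q.asIdeal.comap (algebraMap B (Localization.AtPrime q)) ≤ q :=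
      le_trans (Ideal.comap_mono (IsLocalRing.le_maximalIdeal Q.2.ne_top)) hcm.le
    refine lt_of_le_of_ne hle ?_
    intro heq
    apply hQ
    have h1 : Ideal.map (algebraMap B (Localization.AtPrime q))
        (Q.asIdeal.comap (algebraMap B (Localization.AtPrime q))) = Q.asIdeal :=
      IsLocalization.map_comap q.primeCompl _ _
    change Ideal.comap _ _ = q at heq
    rw [heq, Localization.AtPrime.map_eq_maximalIdeal] at h1
    exact h1.le
  have h0' := (idealDepth_fibMod_loc_eq (A := A) q E0).symm ▸ h0
  have h1' := (idealDepth_fibMod_loc_eq (A := A) q E1).symm ▸ h1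
  have h708 := Groth.Agent.S18708.result (Localization.AtPrime (ctr (A := A) q))
    (Localization.AtPrime q) (IsLocalRing.maximalIdeal (Localization.AtPrime q))
    (LocalizedModule S F) (LocalizedModule S E0) (LocalizedModule S E1) (LocalizedModule S G)
    fL uL vL hfL hfuL huvL hvL hGU' h0' h1'
  rw [← idealDepth_fibMod_loc_eq (A := A) q F, h708.1]
  exact flat_loc_iff q G

end Loc3


theorem thm725 (A B : Type u) [CommRing A] [CommRing B]
    [IsNoetherianRing A] [IsNoetherianRing B] [Algebra A B] (hft : Algebra.FiniteType A B) (J : Ideal B)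
    (F E0 E1 G : Type u) [AddCommGroup F] [Module B F] [Module A F] [IsScalarTower A B F] [Module.Finite B F]
    [AddCommGroup E0] [Module B E0] [Module A E0] [IsScalarTower A B E0] [Module.Finite B E0] [Module.Flat A E0]
    [AddCommGroup E1] [Module B E1] [Module A E1] [IsScalarTower A B E1] [Module.Finite B E1] [Module.Flat A E1]
    [AddCommGroup G] [Module B G] [Module A G] [IsScalarTower A B G] [Module.Finite B G]
    (f : F →ₗ[B] E0) (u : E0 →ₗ[B] E1) (v : E1 →ₗ[B] G)
    (hf : Function.Injective f) (hfu : Function.Exact f u) (huv : Function.Exact u v) (hv : Function.Surjective v)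
    (hGU : ∀ q : PrimeSpectrum B, ¬ J ≤ q.asIdeal → FlatCA.FlatAt A q.asIdeal G)
    (h0 : ∀ q : PrimeSpectrum B, J ≤ q.asIdeal →
      2 ≤ LocCoh.idealDepth (q.asIdeal.map (algebraMap B (EGA4.FibLocRing A B q.asIdeal))) (EGA4.FibLocMod A B q.asIdeal E0))
    (h1 : ∀ q : PrimeSpectrum B, J ≤ q.asIdeal →
      1 ≤ LocCoh.idealDepth (q.asIdeal.map (algebraMap B (EGA4.FibLocRing A B q.asIdeal))) (EGA4.FibLocMod A B q.asIdeal E1))
    (n : PrimeSpectrum B) :
    FlatCA.FlatAt A n.asIdeal G ↔
      ∃ s : B, s ∉ n.asIdeal ∧ ∀ q : PrimeSpectrum B, s ∉ q.asIdeal →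
        FlatCA.FlatAt A q.asIdeal F ∧
        (J ≤ q.asIdeal →
          2 ≤ LocCoh.idealDepth (q.asIdeal.map (algebraMap B (EGA4.FibLocRing A B q.asIdeal))) (EGA4.FibLocMod A B q.asIdeal F)) := by
  -- the image `K` of `u`
  let K : Submodule B E1 := LinearMap.range u
  let u1 : E0 →ₗ[B] K := u.rangeRestrict
  let u2 : K →ₗ[B] E1 := K.subtype
  have hu1 : Function.Surjective u1 := u.surjective_rangeRestrict
  have hu2 : Function.Injective u2 := K.injective_subtype
  have hex1 : Function.Exact f u1 := by
    intro y
    rw [← hfu y]
    constructor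
    · intro h; exact congrArg Subtype.val h
    · intro h; exact Subtype.ext h
  have hex2 : Function.Exact u2 v := by
    intro y
    rw [huv y]
    constructor
    · rintro ⟨e, rfl⟩; exact ⟨⟨u e, e, rfl⟩, rfl⟩
    · rintro ⟨⟨_, e, rfl⟩, rfl⟩; exact ⟨e, rfl⟩
  constructor
  · intro hn
    haveI : Algebra.FinitePresentation A B := Algebra.FinitePresentation.of_finiteType.mp hft
    haveI : Module.FinitePresentation B G := Module.finitePresentation_of_finite B G
    have hopen : IsOpen {q : PrimeSpectrum B |
        Module.Flat A (LocalizedModule q.asIdeal.primeCompl G)} :=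
      Groth.Agent.S0387.result (R := A) (S := B) (M := G)
    obtain ⟨_, ⟨s, rfl⟩, hns, hsub⟩ :=
      PrimeSpectrum.isTopologicalBasis_basic_opens.exists_subset_of_mem_open
        (show n ∈ {q : PrimeSpectrum B |
          Module.Flat A (LocalizedModule q.asIdeal.primeCompl G)} from hn) hopen
    refine ⟨s, hns, fun q hsq => ?_⟩
    have hGq : FlatCA.FlatAt A q.asIdeal G := hsub hsq
    have hKq : FlatCA.FlatAt A q.asIdeal K :=
      flat_localizedModule_of_exact q.asIdeal.primeCompl u2 v hu2 hv hex2
        (flatAt_of_flat q.asIdeal) hGq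
    refine ⟨flat_localizedModule_of_exact q.asIdeal.primeCompl f u1 hf hu1 hex1
      (flatAt_of_flat q.asIdeal) hKq, fun hJq => ?_⟩
    refine (local_package q.asIdeal F E0 E1 G f u v hf hfu huv hv ?_ (h0 q hJq) (h1 q hJq)).mpr hGq
    intro q' hlt
    apply hsub
    show s ∉ q'.asIdeal
    exact fun hs => hsq (hlt.le hs)
  · rintro ⟨s, hsn, h⟩
    have key : ∀ k : ℕ, ∀ q : PrimeSpectrum B, q.asIdeal.height < (k : ℕ∞) → s ∉ q.asIdeal →
        FlatCA.FlatAt A q.asIdeal G := by
      intro k
      induction k with
      | zero =>
        intro q hq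
        exact absurd hq (by simp)
      | succ k ih =>
        intro q hq hsq
        by_cases hJq : J ≤ q.asIdeal
        · refine (local_package q.asIdeal F E0 E1 G f u v hf hfu huv hv ?_ (h0 q hJq)
            (h1 q hJq)).mp ((h q hsq).2 hJq)
          intro q' hlt
          apply ih q' _ (fun hs => hsq (hlt.le hs))
          have h1 : q'.asIdeal.height < q.asIdeal.height :=
            Ideal.height_strict_mono_of_isPrime_of_isPrime hlt
          have h2 : q.asIdeal.height ≤ (k : ℕ∞) := by
            rw [Nat.cast_succ] at hq
            exact (ENat.lt_add_one_iff (ENat.coe_ne_top k)).mp hq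
          exact lt_of_lt_of_le h1 h2
        · exact hGU q hJq
    have hfin : n.asIdeal.height < ⊤ := Ideal.height_lt_top_of_isPrime
    obtain ⟨m, hm⟩ := ENat.ne_top_iff_exists.mp hfin.ne
    apply key (m + 1) n _ hsn
    rw [← hm]
    exact_mod_cast Nat.lt_succ_self m

end Groth.Agent.Lib.H9QGor725
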