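import Mathlib
import Groth.Agent.Lib.Helper28FibreTrans
import Groth.Agent.Lib.Helper28FibLoc
import Groth.Agent.Lib.H9QGor725
import Groth.Agent.Lib.Helper28Reflexive2
import Groth.Agent.Lib.Helper28DepthSk

set_option autoImplicit false
set_option linter.style.haveILetI false
set_option linter.unusedSectionVars false
set_option linter.deprecated false
universe u

namespace Groth.Agent.Lib.H9QGor711

-- ===== from QC1 =====
section SecQC1
open Groth.Agent.Lib.Helper28 TensorProduct

section Abstract


set_option synthInstance.maxHeartbeats 200000 in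
set_option maxHeartbeats 1600000 in
/-- fibre-depth under base change to a field `K`: the local rings of `T = K ⊗_A B` have depth at
least that of the fibre local rings of `B` over `A`. -/
theorem depth_fibLocRing_le_depth_localization_pushout
    {A B : Type u} (K : Type u) {T : Type u} [CommRing A] [CommRing B] [Field K] [CommRing T]
    [Algebra A B] [Algebra A K] [Algebra A T] [Algebra B T] [Algebra K T]
    [IsScalarTower A B T] [IsScalarTower A K T] [Algebra.IsPushout A K B T]
    [IsNoetherianRing B] [IsNoetherianRing T] (Q' : Ideal T) [Q'.IsPrime]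
    (q : Ideal B) [q.IsPrime] (hq : q = Q'.comap (algebraMap B T))
    [IsLocalRing (EGA4.FibLocRing A B q)] :
    LocCoh.depth (EGA4.FibLocRing A B q) (EGA4.FibLocRing A B q) ≤
      LocCoh.depth (Localization.AtPrime Q') (Localization.AtPrime Q') := by
  subst hq
  let p : Ideal A := RingHom.ker (algebraMap A K)
  have hp : p.IsPrime := RingHom.ker_isPrime _
  let φ : p.ResidueField →+* K := Ideal.ResidueField.lift p (algebraMap A K) le_rfl (by
    intro a ha
    simp only [Submonoid.mem_comap, IsUnit.mem_submonoid_iff]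
    exact IsUnit.mk0 _ (fun h => ha (RingHom.mem_ker.mpr h)))
  let _ : Algebra p.ResidueField K := φ.toAlgebra
  have : IsScalarTower A p.ResidueField K := .of_algebraMap_eq fun a => by
    rw [RingHom.algebraMap_toAlgebra]
    exact (Ideal.ResidueField.lift_algebraMap ..).symm
  let _ : Algebra p.ResidueField T := ((algebraMap K T).comp φ).toAlgebra
  have : IsScalarTower p.ResidueField K T := .of_algebraMap_eq' rfl
  have : IsScalarTower A p.ResidueField T := .of_algebraMap_eq fun a => by
    rw [IsScalarTower.algebraMap_apply A K T, IsScalarTower.algebraMap_apply A p.ResidueField K,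
      ← IsScalarTower.algebraMap_apply p.ResidueField K T]
  letI : Algebra B (p.Fiber B) := Algebra.TensorProduct.rightAlgebra
  let ψ : p.Fiber B →ₐ[A] T := Algebra.TensorProduct.lift
    (IsScalarTower.toAlgHom A p.ResidueField T) (IsScalarTower.toAlgHom A B T)
    (fun _ _ => .all _ _)
  let _ : Algebra (p.Fiber B) T := ψ.toRingHom.toAlgebra
  have hκ : @IsScalarTower p.ResidueField (p.Fiber B) T Algebra.toSMul Algebra.toSMul
      Algebra.toSMul := .of_algebraMap_eq fun x => by
    simp [RingHom.algebraMap_toAlgebra, ψ, Algebra.TensorProduct.algebraMap_apply]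
  have : IsScalarTower p.ResidueField (p.Fiber B) T := hκ
  have : IsScalarTower B (p.Fiber B) T := .of_algebraMap_eq fun x => by
    simp [RingHom.algebraMap_toAlgebra, ψ, Algebra.TensorProduct.algebraMap_apply]
  have : IsScalarTower A (p.Fiber B) T := .of_algebraMap_eq fun a => (ψ.commutes a).symm
  have hpush : Algebra.IsPushout p.ResidueField K (p.Fiber B) T :=
    (Algebra.IsPushout.comp_iff A p.ResidueField B (p.Fiber B)).mp inferInstance
  haveI hNΦ : IsNoetherianRing (p.Fiber B) := isNoetherianRing_fiber p
  haveI hflat : Module.Flat (p.Fiber B) T :=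
    Module.Flat.isBaseChange (R := p.ResidueField) (S := p.Fiber B) (M := K) T hpush.symm.out
  set Q : Ideal (p.Fiber B) := Q'.comap (algebraMap (p.Fiber B) T) with hQ
  haveI : IsLocalRing (EGA4.FibLocRing (p.Fiber B) T Q') :=
    isLocalRing_fibLocRing (A := p.Fiber B) Q'
  have h1 := depth_localization_eq_add_fibLocRing (A := p.Fiber B) (B := T) Q'
  have hr : Q'.comap (algebraMap B T) =
      Q.comap (Algebra.TensorProduct.includeRight : B →ₐ[A] p.Fiber B) := by
    rw [hQ]
    ext b
    simp only [Ideal.mem_comap]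
    have : algebraMap (p.Fiber B) T ((Algebra.TensorProduct.includeRight : B →ₐ[A] p.Fiber B) b) =
        algebraMap B T b := by
      rw [IsScalarTower.algebraMap_apply B (p.Fiber B) T]
      rfl
    rw [this]
  obtain ⟨e⟩ := nonempty_localization_fiber_equiv p Q (Q'.comap (algebraMap B T)) hr
  have h2 := depth_self_eq_of_ringEquiv (A := Localization.AtPrime Q)
    (B := EGA4.FibLocRing A B (Q'.comap (algebraMap B T))) e
  rw [← h2, h1]
  exact le_self_add

end Abstract

section Concrete

attribute [local instance] Algebra.TensorProduct.rightAlgebra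

set_option synthInstance.maxHeartbeats 200000 in
set_option maxHeartbeats 1600000 in
/-- fibre local rings of a base change have depth at least that of the original fibre local
rings -/
theorem depth_fibLocRing_le_baseChange
    {A B A' B' : Type u} [CommRing A] [CommRing B] [CommRing A'] [CommRing B']
    [Algebra A B] [Algebra A A'] [Algebra B B'] [Algebra A' B'] [Algebra A B']
    [IsScalarTower A B B'] [IsScalarTower A A' B'] [Algebra.IsPushout A B A' B']
    [IsNoetherianRing B] [IsNoetherianRing B']
    (q' : Ideal B') [q'.IsPrime] (q : Ideal B) [q.IsPrime] (hq : q = q'.comap (algebraMap B B'))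
    [IsLocalRing (EGA4.FibLocRing A B q)] [IsLocalRing (EGA4.FibLocRing A' B' q')] :
    LocCoh.depth (EGA4.FibLocRing A B q) (EGA4.FibLocRing A B q) ≤
      LocCoh.depth (EGA4.FibLocRing A' B' q') (EGA4.FibLocRing A' B' q') := by
  set p' : Ideal A' := q'.comap (algebraMap A' B') with hp'
  obtain ⟨Q'', hQ''prime, hqQ⟩ := exists_prime_fiber_comap_eq (A := A') q'
  obtain ⟨e⟩ := nonempty_localization_fiber_equiv p' Q'' q' hqQ
  haveI : IsNoetherianRing (p'.Fiber B') := isNoetherianRing_fiber p'
  let _ : Algebra B (p'.Fiber B') :=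
    ((algebraMap B' (p'.Fiber B')).comp (algebraMap B B')).toAlgebra
  have : IsScalarTower B B' (p'.Fiber B') := .of_algebraMap_eq' rfl
  have hAT : IsScalarTower A A' (p'.Fiber B') := inferInstance
  have : IsScalarTower A B (p'.Fiber B') := .of_algebraMap_eq fun a => by
    rw [IsScalarTower.algebraMap_apply B B' (p'.Fiber B'),
      ← IsScalarTower.algebraMap_apply A B B', IsScalarTower.algebraMap_apply A A' B',
      ← IsScalarTower.algebraMap_apply A' B' (p'.Fiber B'),
      ← IsScalarTower.algebraMap_apply A A' (p'.Fiber B')]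
  have : IsScalarTower A B' (p'.Fiber B') := .of_algebraMap_eq fun a => by
    rw [IsScalarTower.algebraMap_apply A A' B',
      ← IsScalarTower.algebraMap_apply A' B' (p'.Fiber B'),
      ← IsScalarTower.algebraMap_apply A A' (p'.Fiber B')]
  have hpo1 : Algebra.IsPushout A A' B B' := Algebra.IsPushout.symm inferInstance
  have hpo2 : Algebra.IsPushout A' p'.ResidueField B' (p'.Fiber B') := inferInstance
  have hpo : Algebra.IsPushout A p'.ResidueField B (p'.Fiber B') :=
    (Algebra.IsPushout.comp_iff A A' B B').mpr hpo2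
  have hq2 : q = Q''.comap (algebraMap B (p'.Fiber B')) := by
    rw [hq]
    ext b
    rw [Ideal.mem_comap, Ideal.mem_comap]
    exact (Ideal.ext_iff.mp hqQ (algebraMap B B' b))
  have h := depth_fibLocRing_le_depth_localization_pushout (A := A) (B := B) p'.ResidueField
    (T := p'.Fiber B') Q'' q hq2
  have h2 := depth_self_eq_of_ringEquiv (A := Localization.AtPrime Q'')
    (B := EGA4.FibLocRing A' B' q') e
  rw [← h2]
  exact h

end Concrete

end SecQC1

-- ===== from QC2 =====
section SecQC2
open Groth.Agent.Lib.Helper28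
open Algebra TensorProduct

section Compat

variable {R S : Type u} [CommRing R] [CommRing S] [Algebra R S] (p : Ideal R) [p.IsPrime]

set_option maxHeartbeats 800000 in
theorem algEquivAux₂_compat (q : Ideal (p.Fiber S)) [q.IsPrime] (s : S) :
    Ideal.Fiber.algEquivAux₂ p q
      (algebraMap (p.Fiber S) (Localization.AtPrime q) (includeRight s)) =
    Ideal.Quotient.mk _ (algebraMap S (Localization.AtPrime (q.comap includeRight)) s) := by
  unfold Ideal.Fiber.algEquivAux₂
  simp only [AlgEquiv.trans_apply, AlgEquiv.restrictScalars_apply]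
  letI : Algebra S (p.Fiber S) := rightAlgebra
  have h0 : algebraMap (p.Fiber S) (Localization.AtPrime q) (includeRight s) =
      algebraMap S (Localization.AtPrime q) s := by
    rw [IsScalarTower.algebraMap_apply S (p.Fiber S) (Localization.AtPrime q)]
    rfl
  rw [h0, AlgEquiv.commutes]
  rw [IsScalarTower.algebraMap_apply S (S ⧸ Ideal.map (algebraMap R S) p)
    (Localization.AtPrime (Ideal.comap (Ideal.Fiber.algEquivAux₁ p).symm q)), AlgEquiv.commutes]
  rfl

/-- the compatible version of `nonempty_localization_fiber_equiv` -/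
theorem exists_localization_fiber_equiv_compat (Q : Ideal (p.Fiber S)) [Q.IsPrime]
    (r : Ideal S) [r.IsPrime]
    (hr : r = Q.comap (Algebra.TensorProduct.includeRight : S →ₐ[R] p.Fiber S)) :
    ∃ e : Localization.AtPrime Q ≃+* EGA4.FibLocRing R S r,
      ∀ s : S, e (algebraMap (p.Fiber S) (Localization.AtPrime Q) (includeRight s)) =
        algebraMap S (EGA4.FibLocRing R S r) s := by
  subst hr
  have e1 := (Ideal.Fiber.algEquivAux₂ p Q).toRingEquiv
  have hI : Ideal.map (algebraMap S (Localization.AtPrime (Q.comap includeRight)))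
      (Ideal.map (algebraMap R S) p) =
      ((Q.comap (Algebra.TensorProduct.includeRight : S →ₐ[R] p.Fiber S)).comap
        (algebraMap R S)).map (algebraMap R (Localization.AtPrime (Q.comap includeRight))) := by
    rw [comap_includeRight_comap p Q, Ideal.map_map, ← IsScalarTower.algebraMap_eq]
  refine ⟨(Ideal.Fiber.algEquivAux₂ p Q).toRingEquiv.trans (Ideal.quotEquivOfEq hI), fun s => ?_⟩
  rw [RingEquiv.trans_apply]
  change Ideal.quotEquivOfEq hI (Ideal.Fiber.algEquivAux₂ p Q _) = _
  rw [algEquivAux₂_compat, Ideal.quotEquivOfEq_mk]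
  rfl

end Compat

section RingEquivDepth

theorem idealDepth_map_ringEquiv {R₁ R₂ : Type u} [CommRing R₁] [CommRing R₂]
    [IsNoetherianRing R₁] [IsNoetherianRing R₂] (e : R₁ ≃+* R₂) (I : Ideal R₁) :
    LocCoh.idealDepth (I.map (e : R₁ →+* R₂)) R₂ = LocCoh.idealDepth I R₁ := by
  let _ : Algebra R₁ R₂ := (e : R₁ →+* R₂).toAlgebra
  have hfin : Module.Finite R₁ R₂ :=
    Module.Finite.of_surjective (Algebra.linearMap R₁ R₂) e.surjective
  let eL : R₁ ≃ₗ[R₁] R₂ := LinearEquiv.ofBijective (Algebra.linearMap R₁ R₂) e.bijective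
  rw [idealDepth_congr eL I]
  exact (idealDepth_restrictScalars_eq_idealDepth_map (B := R₂) I R₂).symm

end RingEquivDepth

section FibJ

variable {A B : Type u} [CommRing A] [CommRing B] [Algebra A B] [IsNoetherianRing B]

theorem map_eq_maximalIdeal_fibLocRing (r : Ideal B) [r.IsPrime]
    [IsLocalRing (EGA4.FibLocRing A B r)] :
    r.map (algebraMap B (EGA4.FibLocRing A B r)) =
      IsLocalRing.maximalIdeal (EGA4.FibLocRing A B r) := by
  rw [Groth.Agent.Lib.Helper5.maximalIdeal_quotient_eq_map,
    ← Localization.AtPrime.map_eq_maximalIdeal, Ideal.map_map]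
  rfl

/-- the `I`-depth of a fibre local ring from the depths of all fibre local rings along `V(I)` -/
theorem natCast_le_idealDepth_fibLocRing_of_forall
    (q : Ideal B) [q.IsPrime] (I : Ideal B) (n : ℕ)
    (h : ∀ r : PrimeSpectrum B, I ≤ r.asIdeal →
      (n : ℕ∞) ≤ LocCoh.idealDepth (r.asIdeal.map (algebraMap B (EGA4.FibLocRing A B r.asIdeal)))
        (EGA4.FibLocRing A B r.asIdeal)) :
    (n : ℕ∞) ≤ LocCoh.idealDepth (I.map (algebraMap B (EGA4.FibLocRing A B q)))
      (EGA4.FibLocRing A B q) := by
  set p : Ideal A := q.comap (algebraMap A B) with hp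
  obtain ⟨Q, hQ, hqQ⟩ := exists_prime_fiber_comap_eq (A := A) q
  haveI : IsNoetherianRing (p.Fiber B) := isNoetherianRing_fiber p
  let ι : B →+* p.Fiber B := (includeRight : B →ₐ[A] p.Fiber B).toRingHom
  have s1 : (n : ℕ∞) ≤ LocCoh.idealDepth (I.map ι) (p.Fiber B) := by
    rw [idealDepth_eq_iInf_depth_localization]
    refine le_iInf₂ fun Q'' hQ'' => ?_
    rw [depth_localizedModule_self]
    set r : Ideal B := Q''.asIdeal.comap (includeRight : B →ₐ[A] p.Fiber B) with hr
    obtain ⟨e⟩ := nonempty_localization_fiber_equiv p Q''.asIdeal r rfl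
    haveI hloc : IsLocalRing (EGA4.FibLocRing A B r) := isLocalRing_fibLocRing (A := A) r
    have h2 := depth_self_eq_of_ringEquiv (A := Localization.AtPrime Q''.asIdeal)
      (B := EGA4.FibLocRing A B r) e
    rw [h2]
    have hIr : I ≤ r := by
      intro b hb
      rw [hr, Ideal.mem_comap]
      exact hQ'' (Ideal.mem_map_of_mem ι hb)
    have h3 := h ⟨r, inferInstance⟩ hIr
    rw [map_eq_maximalIdeal_fibLocRing] at h3
    exact h3
  have s2 : LocCoh.idealDepth (I.map ι) (p.Fiber B) ≤
      LocCoh.idealDepth ((I.map ι).map (algebraMap (p.Fiber B) (Localization.AtPrime Q)))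
        (Localization.AtPrime Q) :=
    idealDepth_le_of_isLocalizedModule Q.primeCompl (Localization.AtPrime Q)
      (Algebra.linearMap (p.Fiber B) (Localization.AtPrime Q)) (I.map ι)
  obtain ⟨e, he⟩ := exists_localization_fiber_equiv_compat p Q q hqQ
  have h4 := idealDepth_map_ringEquiv e
    ((I.map ι).map (algebraMap (p.Fiber B) (Localization.AtPrime Q)))
  have hmap : ((I.map ι).map (algebraMap (p.Fiber B) (Localization.AtPrime Q))).map
      (e : Localization.AtPrime Q →+* EGA4.FibLocRing A B q) =
      I.map (algebraMap B (EGA4.FibLocRing A B q)) := by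
    rw [Ideal.map_map, Ideal.map_map]
    congr 1
    ext b
    exact he b
  rw [← hmap, h4]
  exact s1.trans s2

end FibJ

end SecQC2

-- ===== from QC3 =====
section SecQC3
open Groth.Agent.Lib.Helper28
open TensorProduct RingTheory.Sequence

section FlatTensor

variable {R : Type u} [CommRing R] (I : Ideal R) (M N : Type u) [AddCommGroup M] [Module R M]
  [AddCommGroup N] [Module R N]

theorem smul_top_tensor_eq_top (h : I • (⊤ : Submodule R M) = ⊤) :
    I • (⊤ : Submodule R (M ⊗[R] N)) = ⊤ := by
  rw [eq_top_iff]
  suffices H : ∀ x : M ⊗[R] N, x ∈ I • (⊤ : Submodule R (M ⊗[R] N)) from fun x _ => H x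
  intro x
  induction x using TensorProduct.induction_on with
  | zero => exact Submodule.zero_mem _
  | tmul m n =>
    have hm : m ∈ I • (⊤ : Submodule R M) := by rw [h]; exact Submodule.mem_top
    refine Submodule.smul_induction_on hm ?_ ?_
    · intro a ha m' _
      rw [← TensorProduct.smul_tmul']
      exact Submodule.smul_mem_smul ha Submodule.mem_top
    · intro m₁ m₂ h₁ h₂
      rw [TensorProduct.add_tmul]
      exact Submodule.add_mem _ h₁ h₂
  | add x y hx hy => exact Submodule.add_mem _ hx hy

theorem idealDepth_le_idealDepth_tensor_of_flat [Module.Flat R N] :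
    LocCoh.idealDepth I M ≤ LocCoh.idealDepth I (M ⊗[R] N) := by
  by_cases h' : I • (⊤ : Submodule R (M ⊗[R] N)) = ⊤
  · rw [idealDepth_eq_top_of_smul_top_eq_top _ _ h']; exact le_top
  · have h : I • (⊤ : Submodule R M) ≠ ⊤ := fun h => h' (smul_top_tensor_eq_top I M N h)
    rw [idealDepth_eq_iSup_of_smul_top_ne_top I M h, idealDepth_eq_iSup_of_smul_top_ne_top I _ h']
    exact iSup₂_le fun rs hrs =>
      le_iSup₂_of_le rs ⟨hrs.1.isWeaklyRegular_rTensor, hrs.2⟩ le_rfl

theorem idealDepth_self_le_of_flat [Module.Flat R N] :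
    LocCoh.idealDepth I R ≤ LocCoh.idealDepth I N :=
  (idealDepth_le_idealDepth_tensor_of_flat I R N).trans
    (idealDepth_congr (TensorProduct.lid R N) I).le

end FlatTensor

section PartC

variable {A B : Type u} [CommRing A] [CommRing B] [Algebra A B] [IsNoetherianRing B]
  (q : Ideal B) [q.IsPrime] (E : Type u) [AddCommGroup E] [Module B E] [Module.Finite B E]
  [Module.Flat B E]

theorem idealDepth_fibLocRing_le_fibLocMod_of_flat (I' : Ideal (Localization.AtPrime q)) :
    LocCoh.idealDepth (I'.map (algebraMap (Localization.AtPrime q) (EGA4.FibLocRing A B q)))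
      (EGA4.FibLocRing A B q) ≤
    LocCoh.idealDepth (I'.map (algebraMap (Localization.AtPrime q) (EGA4.FibLocRing A B q)))
      (EGA4.FibLocMod A B q E) := by
  have hfin : Module.Finite (EGA4.FibLocRing A B q) (EGA4.FibLocMod A B q E) :=
    Module.Finite.of_restrictScalars_finite (Localization.AtPrime q) _ _
  rw [← idealDepth_restrictScalars_eq_idealDepth_map (B := EGA4.FibLocRing A B q) I'
      (EGA4.FibLocMod A B q E),
    ← idealDepth_restrictScalars_eq_idealDepth_map (B := EGA4.FibLocRing A B q) I'
      (EGA4.FibLocRing A B q)]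
  haveI : Module.Flat (Localization.AtPrime q) (LocalizedModule q.primeCompl E) := inferInstance
  have e := TensorProduct.quotTensorEquivQuotSMul (LocalizedModule q.primeCompl E)
    ((q.comap (algebraMap A B)).map (algebraMap A (Localization.AtPrime q)))
  rw [← idealDepth_congr e I']
  exact idealDepth_le_idealDepth_tensor_of_flat I' _ _

/-- the version for an ideal `J` of `B` -/
theorem idealDepth_fibLocRing_le_fibLocMod_of_flat' (J : Ideal B) :
    LocCoh.idealDepth (J.map (algebraMap B (EGA4.FibLocRing A B q))) (EGA4.FibLocRing A B q) ≤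
    LocCoh.idealDepth (J.map (algebraMap B (EGA4.FibLocRing A B q))) (EGA4.FibLocMod A B q E) := by
  have h := idealDepth_fibLocRing_le_fibLocMod_of_flat (A := A) q E
    (J.map (algebraMap B (Localization.AtPrime q)))
  rw [Ideal.map_map, ← IsScalarTower.algebraMap_eq] at h
  exact h

end PartC

section BaseChange

variable {A B A' B' : Type u} [CommRing A] [CommRing B] [CommRing A'] [CommRing B']
  [IsNoetherianRing A] [IsNoetherianRing B] [IsNoetherianRing A'] [IsNoetherianRing B']
  [Algebra A B] [Algebra A A'] [Algebra B B'] [Algebra A' B'] [Algebra A B']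
  [IsScalarTower A B B'] [IsScalarTower A A' B'] [Algebra.IsPushout A B A' B']
  (J : Ideal B)
  (hZ : ∀ q : PrimeSpectrum B, J ≤ q.asIdeal →
    2 ≤ LocCoh.idealDepth (q.asIdeal.map (algebraMap B (EGA4.FibLocRing A B q.asIdeal)))
      (EGA4.FibLocRing A B q.asIdeal))

include hZ in
/-- the hypothesis `hZ` is stable under base change -/
theorem hZ_baseChange (q' : PrimeSpectrum B') (hq' : J.map (algebraMap B B') ≤ q'.asIdeal) :
    2 ≤ LocCoh.idealDepth (q'.asIdeal.map (algebraMap B' (EGA4.FibLocRing A' B' q'.asIdeal)))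
      (EGA4.FibLocRing A' B' q'.asIdeal) := by
  set q : Ideal B := q'.asIdeal.comap (algebraMap B B') with hq
  have hJq : J ≤ q := Ideal.map_le_iff_le_comap.mp hq'
  haveI : IsLocalRing (EGA4.FibLocRing A B q) := isLocalRing_fibLocRing (A := A) q
  haveI : IsLocalRing (EGA4.FibLocRing A' B' q'.asIdeal) :=
    isLocalRing_fibLocRing (A := A') q'.asIdeal
  have h1 := hZ ⟨q, inferInstance⟩ hJq
  rw [map_eq_maximalIdeal_fibLocRing] at h1 ⊢
  exact h1.trans (depth_fibLocRing_le_baseChange q'.asIdeal q rfl)

theorem flat_baseChange [Module.Flat A B] : Module.Flat A' B' := by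
  have h : Algebra.IsPushout A A' B B' := Algebra.IsPushout.symm inferInstance
  exact Module.Flat.isBaseChange (R := A) (S := A') (M := B) B' h.out

end BaseChange

section BaseChange2

theorem two_le_idealDepth_map
    {A B : Type u} (A' : Type u) {B' : Type u} [CommRing A] [CommRing B] [CommRing A']
    [CommRing B']
    [IsNoetherianRing A] [IsNoetherianRing B] [IsNoetherianRing A'] [IsNoetherianRing B']
    [Algebra A B] [Algebra A A'] [Algebra B B'] [Algebra A' B'] [Algebra A B']
    [IsScalarTower A B B'] [IsScalarTower A A' B'] [Algebra.IsPushout A B A' B']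
    (J : Ideal B)
    (hZ : ∀ q : PrimeSpectrum B, J ≤ q.asIdeal →
      2 ≤ LocCoh.idealDepth (q.asIdeal.map (algebraMap B (EGA4.FibLocRing A B q.asIdeal)))
        (EGA4.FibLocRing A B q.asIdeal)) [Module.Flat A B] :
    2 ≤ LocCoh.idealDepth (J.map (algebraMap B B')) B' := by
  haveI : Module.Flat A' B' := flat_baseChange (A := A) (B := B)
  exact natCast_le_idealDepth_self_of_forall_fibLocRing (A := A') (J.map (algebraMap B B')) 2
    (fun q' hq' => hZ_baseChange J hZ q' hq')

/-- `J'`-depth of the fibre local rings of the base change -/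
theorem two_le_idealDepth_fibLocRing_baseChange
    {A B A' B' : Type u} [CommRing A] [CommRing B] [CommRing A'] [CommRing B']
    [IsNoetherianRing A] [IsNoetherianRing B] [IsNoetherianRing A'] [IsNoetherianRing B']
    [Algebra A B] [Algebra A A'] [Algebra B B'] [Algebra A' B'] [Algebra A B']
    [IsScalarTower A B B'] [IsScalarTower A A' B'] [Algebra.IsPushout A B A' B']
    (J : Ideal B)
    (hZ : ∀ q : PrimeSpectrum B, J ≤ q.asIdeal →
      2 ≤ LocCoh.idealDepth (q.asIdeal.map (algebraMap B (EGA4.FibLocRing A B q.asIdeal)))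
        (EGA4.FibLocRing A B q.asIdeal)) (q' : Ideal B') [q'.IsPrime] :
    2 ≤ LocCoh.idealDepth ((J.map (algebraMap B B')).map
      (algebraMap B' (EGA4.FibLocRing A' B' q'))) (EGA4.FibLocRing A' B' q') :=
  natCast_le_idealDepth_fibLocRing_of_forall (A := A') q' (J.map (algebraMap B B')) 2
    (fun r hr => hZ_baseChange J hZ r hr)

end BaseChange2

end SecQC3

-- ===== from QC4 =====
section SecQC4
open Groth.Agent.Lib.Helper28 Groth.Agent.Lib.H9QGor725

section Loc3

variable {A B : Type u} [CommRing A] [CommRing B] [IsNoetherianRing A] [IsNoetherianRing B]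
  [Algebra A B] (q : Ideal B) [q.IsPrime] (J : Ideal B)

theorem idealDepth_fibMod_loc_eq_J (M : Type u) [AddCommGroup M] [Module B M] [Module.Finite B M] :
    LocCoh.idealDepth (J.map (algebraMap B (Localization.AtPrime q)))
      (EGA4.FibMod (Localization.AtPrime (ctr (A := A) q)) (Localization.AtPrime q)
        (LocalizedModule q.primeCompl M)) =
    LocCoh.idealDepth (J.map (algebraMap B (EGA4.FibLocRing A B q)))
      (EGA4.FibLocMod A B q M) := by
  have hmapeq : (IsLocalRing.maximalIdeal (Localization.AtPrime (ctr (A := A) q))).map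
      (algebraMap (Localization.AtPrime (ctr (A := A) q)) (Localization.AtPrime q)) =
      (ctr (A := A) q).map (algebraMap A (Localization.AtPrime q)) := by
    rw [← IsLocalization.AtPrime.map_eq_maximalIdeal (ctr (A := A) q)
      (Localization.AtPrime (ctr (A := A) q)), Ideal.map_map, ← IsScalarTower.algebraMap_eq]
  rw [idealDepth_congr (Submodule.quotEquivOfEq _
    ((ctr (A := A) q).map (algebraMap A (Localization.AtPrime q)) •
      (⊤ : Submodule (Localization.AtPrime q) (LocalizedModule q.primeCompl M)))
    (congrArg (fun I => I • (⊤ : Submodule (Localization.AtPrime q)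
      (LocalizedModule q.primeCompl M))) hmapeq))]
  have hfin : Module.Finite (EGA4.FibLocRing A B q) (EGA4.FibLocMod A B q M) :=
    Module.Finite.of_restrictScalars_finite (Localization.AtPrime q) _ _
  rw [idealDepth_restrictScalars_eq_idealDepth_map (B := EGA4.FibLocRing A B q)
    (J.map (algebraMap B (Localization.AtPrime q))) (EGA4.FibLocMod A B q M)]
  rw [Ideal.map_map, ← IsScalarTower.algebraMap_eq]

variable
    (F E0 E1 G : Type u) [AddCommGroup F] [Module B F] [Module A F] [IsScalarTower A B F] [Module.Finite B F]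
    [AddCommGroup E0] [Module B E0] [Module A E0] [IsScalarTower A B E0] [Module.Finite B E0] [Module.Flat A E0]
    [AddCommGroup E1] [Module B E1] [Module A E1] [IsScalarTower A B E1] [Module.Finite B E1] [Module.Flat A E1]
    [AddCommGroup G] [Module B G] [Module A G] [IsScalarTower A B G] [Module.Finite B G]
    (f : F →ₗ[B] E0) (u : E0 →ₗ[B] E1) (v : E1 →ₗ[B] G)

theorem local_package_J
    (hf : Function.Injective f) (hfu : Function.Exact f u) (huv : Function.Exact u v) (hv : Function.Surjective v)
    (hGU : ∀ q' : PrimeSpectrum B, q'.asIdeal ≤ q → ¬ J ≤ q'.asIdeal → FlatCA.FlatAt A q'.asIdeal G)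
    (h0 : 2 ≤ LocCoh.idealDepth (J.map (algebraMap B (EGA4.FibLocRing A B q))) (EGA4.FibLocMod A B q E0))
    (h1 : 1 ≤ LocCoh.idealDepth (J.map (algebraMap B (EGA4.FibLocRing A B q))) (EGA4.FibLocMod A B q E1)) :
    (2 ≤ LocCoh.idealDepth (J.map (algebraMap B (EGA4.FibLocRing A B q))) (EGA4.FibLocMod A B q F)) ↔
      FlatCA.FlatAt A q G := by
  set S := q.primeCompl with hS
  set fS := IsLocalizedModule.map S (LocalizedModule.mkLinearMap S F)
    (LocalizedModule.mkLinearMap S E0) f with hfS
  set uS := IsLocalizedModule.map S (LocalizedModule.mkLinearMap S E0)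
    (LocalizedModule.mkLinearMap S E1) u with huS
  set vS := IsLocalizedModule.map S (LocalizedModule.mkLinearMap S E1)
    (LocalizedModule.mkLinearMap S G) v with hvS
  let fL : LocalizedModule S F →ₗ[Localization.AtPrime q] LocalizedModule S E0 :=
    LinearMap.extendScalarsOfIsLocalization S (Localization.AtPrime q) fS
  let uL : LocalizedModule S E0 →ₗ[Localization.AtPrime q] LocalizedModule S E1 :=
    LinearMap.extendScalarsOfIsLocalization S (Localization.AtPrime q) uS
  let vL : LocalizedModule S E1 →ₗ[Localization.AtPrime q] LocalizedModule S G :=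
    LinearMap.extendScalarsOfIsLocalization S (Localization.AtPrime q) vS
  have hfL : Function.Injective fL := IsLocalizedModule.map_injective S _ _ f hf
  have hvL : Function.Surjective vL := IsLocalizedModule.map_surjective S _ _ v hv
  have hfuL : Function.Exact fL uL := LocalizedModule.map_exact S f u hfu
  have huvL : Function.Exact uL vL := LocalizedModule.map_exact S u v huv
  haveI : Module.Flat (Localization.AtPrime (ctr (A := A) q)) (LocalizedModule S E0) :=
    (flat_loc_iff q E0).mpr (flatAt_of_flat q)
  haveI : Module.Flat (Localization.AtPrime (ctr (A := A) q)) (LocalizedModule S E1) :=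
    (flat_loc_iff q E1).mpr (flatAt_of_flat q)
  have hGU' : ∀ Q : PrimeSpectrum (Localization.AtPrime q),
      ¬ J.map (algebraMap B (Localization.AtPrime q)) ≤ Q.asIdeal →
      FlatCA.FlatAt (Localization.AtPrime (ctr (A := A) q)) Q.asIdeal (LocalizedModule S G) := by
    intro Q hQ
    apply flatAt_loc_of_flatAt q G Q.asIdeal
    apply hGU ⟨Q.asIdeal.comap (algebraMap B (Localization.AtPrime q)), inferInstance⟩
    · have hcm : (IsLocalRing.maximalIdeal (Localization.AtPrime q)).comap
          (algebraMap B (Localization.AtPrime q)) = q :=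
        IsLocalization.AtPrime.under_maximalIdeal (Localization.AtPrime q) q
      exact le_trans (Ideal.comap_mono (IsLocalRing.le_maximalIdeal Q.2.ne_top)) hcm.le
    · intro hJ
      exact hQ (Ideal.map_le_iff_le_comap.mpr hJ)
  have h0' := (idealDepth_fibMod_loc_eq_J (A := A) q J E0).symm ▸ h0
  have h1' := (idealDepth_fibMod_loc_eq_J (A := A) q J E1).symm ▸ h1
  have h708 := Groth.Agent.S18708.result (Localization.AtPrime (ctr (A := A) q))
    (Localization.AtPrime q) (J.map (algebraMap B (Localization.AtPrime q)))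
    (LocalizedModule S F) (LocalizedModule S E0) (LocalizedModule S E1) (LocalizedModule S G)
    fL uL vL hfL hfuL huvL hvL hGU' h0' h1'
  rw [← idealDepth_fibMod_loc_eq_J (A := A) q J F, h708.1]
  exact flat_loc_iff q G

end Loc3

end SecQC4

-- ===== from QC5 =====
section SecQC5
open Groth.Agent.Lib.Helper28 Groth.Agent.Lib.H9QGor725
open TensorProduct

section FreeBC

variable {B B' : Type u} [CommRing B] [CommRing B'] [Algebra B B'] (q' : Ideal B') [q'.IsPrime]
  (G : Type u) [AddCommGroup G] [Module B G]

/-- localizations of a base change are base changes of localizations -/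
noncomputable def locBaseChangeEquiv :
    LocalizedModule q'.primeCompl (B' ⊗[B] G) ≃ₗ[Localization.AtPrime q']
      (Localization.AtPrime q') ⊗[Localization.AtPrime (ctr (A := B) q')]
        (LocalizedModule (ctr (A := B) q').primeCompl G) := by
  have h1 : IsBaseChange B' (TensorProduct.mk B B' G 1) := TensorProduct.isBaseChange B G B'
  have h2 : IsBaseChange (Localization.AtPrime q')
      (LocalizedModule.mkLinearMap q'.primeCompl (B' ⊗[B] G)) :=
    IsLocalizedModule.isBaseChange q'.primeCompl _ _
  have h12 := IsBaseChange.comp h1 h2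
  have h3 : IsBaseChange (Localization.AtPrime (ctr (A := B) q'))
      (LocalizedModule.mkLinearMap (ctr (A := B) q').primeCompl G) :=
    IsLocalizedModule.isBaseChange (ctr (A := B) q').primeCompl _ _
  have h4 : IsBaseChange (Localization.AtPrime q')
      (TensorProduct.mk (Localization.AtPrime (ctr (A := B) q')) (Localization.AtPrime q')
        (LocalizedModule (ctr (A := B) q').primeCompl G) 1) :=
    TensorProduct.isBaseChange _ _ _
  have h34 := IsBaseChange.comp h3 h4
  exact h12.equiv.symm ≪≫ₗ h34.equiv

theorem free_localizedModule_baseChange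
    (hfree : Module.Free (Localization.AtPrime (ctr (A := B) q'))
      (LocalizedModule (ctr (A := B) q').primeCompl G)) :
    Module.Free (Localization.AtPrime q') (LocalizedModule q'.primeCompl (B' ⊗[B] G)) :=
  Module.Free.of_equiv (locBaseChangeEquiv q' G).symm

end FreeBC

section KerProj

variable {R : Type u} [CommRing R] {P0 P1 Q : Type u} [AddCommGroup P0] [Module R P0]
  [AddCommGroup P1] [Module R P1] [AddCommGroup Q] [Module R Q]
  [Module.Projective R P0] [Module.Projective R P1] [Module.Projective R Q]

theorem projective_ker_of_exact (u : P0 →ₗ[R] P1) (v : P1 →ₗ[R] Q)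
    (huv : Function.Exact u v) (hv : Function.Surjective v) :
    Module.Projective R (LinearMap.ker u) := by
  obtain ⟨σ, hσ⟩ := Module.projective_lifting_property v LinearMap.id hv
  have hσ' : ∀ y, v (σ y) = y := fun y => LinearMap.congr_fun hσ y
  let π1 : P1 →ₗ[R] LinearMap.ker v :=
    LinearMap.codRestrict (LinearMap.ker v) (LinearMap.id - σ ∘ₗ v) (fun x => by
      rw [LinearMap.mem_ker, LinearMap.sub_apply, map_sub, LinearMap.id_apply,
        LinearMap.comp_apply, hσ', sub_self])
  have h1 : π1 ∘ₗ (LinearMap.ker v).subtype = LinearMap.id := by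
    ext x
    change (x : P1) - σ (v x) = x
    rw [LinearMap.mem_ker.mp x.2, map_zero, sub_zero]
  haveI : Module.Projective R (LinearMap.ker v) :=
    Module.Projective.of_split (LinearMap.ker v).subtype π1 h1
  let u' : P0 →ₗ[R] LinearMap.ker v :=
    LinearMap.codRestrict (LinearMap.ker v) u (fun x => huv.apply_apply_eq_zero x)
  have hu' : Function.Surjective u' := by
    rintro ⟨y, hy⟩
    obtain ⟨x, rfl⟩ := (huv y).mp hy
    exact ⟨x, rfl⟩
  obtain ⟨τ, hτ⟩ := Module.projective_lifting_property u' LinearMap.id hu'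
  have hτ' : ∀ y, u' (τ y) = y := fun y => LinearMap.congr_fun hτ y
  let π0 : P0 →ₗ[R] LinearMap.ker u :=
    LinearMap.codRestrict (LinearMap.ker u) (LinearMap.id - τ ∘ₗ u') (fun x => by
      rw [LinearMap.mem_ker, LinearMap.sub_apply, map_sub, LinearMap.id_apply,
        LinearMap.comp_apply]
      have : u (τ (u' x)) = (u' (τ (u' x)) : P1) := rfl
      rw [this, hτ']
      exact sub_self _)
  have h0 : π0 ∘ₗ (LinearMap.ker u).subtype = LinearMap.id := by
    ext x
    change (x : P0) - τ (u' x) = x
    have : u' x = 0 := Subtype.ext (LinearMap.mem_ker.mp x.2)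
    rw [this, map_zero, sub_zero]
  exact Module.Projective.of_split (LinearMap.ker u).subtype π0 h0

end KerProj

end SecQC5

-- ===== from QC6 =====
section SecQC6
open Groth.Agent.Lib.Helper28 Groth.Agent.Lib.H9QGor725
open TensorProduct

section Helpers

variable {A' B' : Type u} [CommRing A'] [CommRing B'] [Algebra A' B'] [Module.Flat A' B']
  (q : Ideal B') [q.IsPrime]
  (X : Type u) [AddCommGroup X] [Module B' X] [Module A' X] [IsScalarTower A' B' X]

theorem flatAt_of_free_loc
    (h : Module.Free (Localization.AtPrime q) (LocalizedModule q.primeCompl X)) :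
    FlatCA.FlatAt A' q X := by
  unfold FlatCA.FlatAt
  haveI : Module.Flat B' (Localization.AtPrime q) := IsLocalization.flat _ q.primeCompl
  haveI : Module.Flat A' (Localization.AtPrime q) := Module.Flat.trans A' B' _
  exact Module.Flat.trans A' (Localization.AtPrime q) _

end Helpers

section ReflLoc

variable {B' : Type u} [CommRing B'] [IsNoetherianRing B'] (p : Ideal B') [p.IsPrime]
  {E0 E1 G : Type u} [AddCommGroup E0] [Module B' E0] [Module.Finite B' E0]
  [Module.Projective B' E0]
  [AddCommGroup E1] [Module B' E1] [Module.Projective B' E1]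
  [AddCommGroup G] [Module B' G]

theorem isReflexive_loc_ker (u : E0 →ₗ[B'] E1) (v : E1 →ₗ[B'] G)
    (huv : Function.Exact u v) (hv : Function.Surjective v)
    (hG : Module.Free (Localization.AtPrime p) (LocalizedModule p.primeCompl G)) :
    Module.IsReflexive (Localization.AtPrime p)
      (LocalizedModule p.primeCompl (LinearMap.ker u)) := by
  have huvL : Function.Exact (locMap p.primeCompl u) (locMap p.primeCompl v) :=
    LocalizedModule.map_exact p.primeCompl u v huv
  have hvL : Function.Surjective (locMap p.primeCompl v) :=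
    IsLocalizedModule.map_surjective p.primeCompl _ _ v hv
  haveI : Module.Projective (Localization p.primeCompl) (LocalizedModule p.primeCompl G) :=
    Module.Projective.of_free
  have hproj := projective_ker_of_exact (locMap p.primeCompl u) (locMap p.primeCompl v) huvL hvL
  haveI : Module.Projective (Localization.AtPrime p)
      (LocalizedModule p.primeCompl (LinearMap.ker u)) :=
    Module.Projective.of_equiv (localizedKerEquiv p.primeCompl u).symm
  infer_instance

end ReflLoc

section Main

variable (A B : Type u) [CommRing A] [CommRing B] [IsNoetherianRing A] [IsNoetherianRing B]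
  [Algebra A B]
  (A' B' : Type u) [CommRing A'] [CommRing B'] [IsNoetherianRing A'] [IsNoetherianRing B']
  [Algebra A A'] [Algebra B B'] [Algebra A' B'] [Algebra A B'] [IsScalarTower A B B']
  [IsScalarTower A A' B']
  [Algebra.IsPushout A B A' B'] [Module.Flat A B] (J : Ideal B)
  (hZ : ∀ q : PrimeSpectrum B, J ≤ q.asIdeal →
    2 ≤ LocCoh.idealDepth (q.asIdeal.map (algebraMap B (EGA4.FibLocRing A B q.asIdeal)))
      (EGA4.FibLocRing A B q.asIdeal))
  (F E0 E1 G : Type u) [AddCommGroup F] [Module B F] [Module.Finite B F]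
  [AddCommGroup E0] [Module B E0] [Module.Finite B E0] [Module.Projective B E0]
  [AddCommGroup E1] [Module B E1] [Module.Finite B E1] [Module.Projective B E1]
  [AddCommGroup G] [Module B G] [Module.Finite B G]
  (f : F →ₗ[B] E0) (u : E0 →ₗ[B] E1) (v : E1 →ₗ[B] G)
  (hf : Function.Injective f) (hfu : Function.Exact f u) (huv : Function.Exact u v)
  (hv : Function.Surjective v)
  (hFU : ∀ q : PrimeSpectrum B, ¬ J ≤ q.asIdeal →
    Module.Free (Localization.AtPrime q.asIdeal) (LocalizedModule q.asIdeal.primeCompl F))
  (hGU : ∀ q : PrimeSpectrum B, ¬ J ≤ q.asIdeal →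
    Module.Free (Localization.AtPrime q.asIdeal) (LocalizedModule q.asIdeal.primeCompl G))

include hZ hf hfu hFU in
theorem part1 : Module.IsReflexive B F := by
  have hB2 : 2 ≤ LocCoh.idealDepth J B :=
    natCast_le_idealDepth_self_of_forall_fibLocRing (A := A) J 2 hZ
  have h0 : 2 ≤ LocCoh.idealDepth J E0 := hB2.trans (idealDepth_self_le_of_flat J E0)
  have h1 : 1 ≤ LocCoh.idealDepth J E1 :=
    (le_trans (by norm_num) hB2).trans (idealDepth_self_le_of_flat J E1)
  have hK : 2 ≤ LocCoh.idealDepth J (LinearMap.ker u) := (idealDepth_ker J u).2 h0 h1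
  let e : F ≃ₗ[B] LinearMap.ker u :=
    (LinearEquiv.ofInjective f hf).trans
      (LinearEquiv.ofEq _ _ (LinearMap.exact_iff.mp hfu).symm)
  have hF2 : 2 ≤ LocCoh.idealDepth J F := by
    rw [idealDepth_congr e J]; exact hK
  refine isReflexive_of_idealDepth_two J (le_trans (by norm_num) hB2) F ?_ hF2
  intro p hp hJp
  haveI := hFU ⟨p, hp⟩ hJp
  infer_instance

include A' hZ in
theorem part2a :
    2 ≤ LocCoh.idealDepth (J.map (algebraMap B B')) (LinearMap.ker (u.baseChange B')) := by
  have hB2 : 2 ≤ LocCoh.idealDepth (J.map (algebraMap B B')) B' :=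
    two_le_idealDepth_map A' J hZ
  have h0 : 2 ≤ LocCoh.idealDepth (J.map (algebraMap B B')) (B' ⊗[B] E0) :=
    hB2.trans (idealDepth_self_le_of_flat _ _)
  have h1 : 1 ≤ LocCoh.idealDepth (J.map (algebraMap B B')) (B' ⊗[B] E1) :=
    (le_trans (by norm_num) hB2).trans (idealDepth_self_le_of_flat _ _)
  exact (idealDepth_ker _ (u.baseChange B')).2 h0 h1

include A' hZ huv hv hGU in
theorem part2b : Module.IsReflexive B' (LinearMap.ker (u.baseChange B')) := by
  have hB2 : 2 ≤ LocCoh.idealDepth (J.map (algebraMap B B')) B' :=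
    two_le_idealDepth_map A' J hZ
  refine isReflexive_of_idealDepth_two (J.map (algebraMap B B')) (le_trans (by norm_num) hB2) _ ?_
    (part2a A B A' B' J hZ E0 E1 u)
  intro p hp hJp
  have hJq : ¬ J ≤ ctr (A := B) p := fun h => hJp (Ideal.map_le_iff_le_comap.mpr h)
  have hfree := free_localizedModule_baseChange p G (hGU ⟨ctr (A := B) p, inferInstance⟩ hJq)
  have huv' : Function.Exact (u.baseChange B') (v.baseChange B') := by
    rw [LinearMap.baseChange_eq_ltensor, LinearMap.baseChange_eq_ltensor]
    exact lTensor_exact B' huv hv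
  have hv' : Function.Surjective (v.baseChange B') := by
    rw [LinearMap.baseChange_eq_ltensor]
    exact LinearMap.lTensor_surjective B' hv
  exact isReflexive_loc_ker p (u.baseChange B') (v.baseChange B') huv' hv' hfree

include A hZ huv hv hGU in
set_option maxHeartbeats 1600000 in
theorem part3 :
    (∀ q' : PrimeSpectrum B', FlatCA.FlatAt A' q'.asIdeal (LinearMap.ker (u.baseChange B')) ∧
        2 ≤ LocCoh.idealDepth ((J.map (algebraMap B B')).map
            (algebraMap B' (EGA4.FibLocRing A' B' q'.asIdeal)))
          (EGA4.FibLocMod A' B' q'.asIdeal (LinearMap.ker (u.baseChange B')))) ↔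
      Module.Flat A' (B' ⊗[B] G) := by
  haveI hfl : Module.Flat A' B' := flat_baseChange (A := A) (B := B)
  have huv' : Function.Exact (u.baseChange B') (v.baseChange B') := by
    rw [LinearMap.baseChange_eq_ltensor, LinearMap.baseChange_eq_ltensor]
    exact lTensor_exact B' huv hv
  have hv' : Function.Surjective (v.baseChange B') := by
    rw [LinearMap.baseChange_eq_ltensor]
    exact LinearMap.lTensor_surjective B' hv
  haveI : Module.Flat A' (B' ⊗[B] E0) := Module.Flat.trans A' B' _
  haveI : Module.Flat A' (B' ⊗[B] E1) := Module.Flat.trans A' B' _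
  have hf' : Function.Injective (LinearMap.ker (u.baseChange B')).subtype :=
    Submodule.injective_subtype _
  have hfu' : Function.Exact (LinearMap.ker (u.baseChange B')).subtype (u.baseChange B') :=
    LinearMap.exact_subtype_ker_map _
  have hfreeG : ∀ q'' : PrimeSpectrum B', ¬ J.map (algebraMap B B') ≤ q''.asIdeal →
      FlatCA.FlatAt A' q''.asIdeal (B' ⊗[B] G) := by
    intro q'' hJ
    have hJq : ¬ J ≤ ctr (A := B) q''.asIdeal :=
      fun h => hJ (Ideal.map_le_iff_le_comap.mpr h)
    exact flatAt_of_free_loc q''.asIdeal _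
      (free_localizedModule_baseChange q''.asIdeal G
        (hGU ⟨ctr (A := B) q''.asIdeal, inferInstance⟩ hJq))
  have h0 : ∀ q' : PrimeSpectrum B', 2 ≤ LocCoh.idealDepth ((J.map (algebraMap B B')).map
      (algebraMap B' (EGA4.FibLocRing A' B' q'.asIdeal)))
      (EGA4.FibLocMod A' B' q'.asIdeal (B' ⊗[B] E0)) := fun q' =>
    (two_le_idealDepth_fibLocRing_baseChange J hZ q'.asIdeal).trans
      (idealDepth_fibLocRing_le_fibLocMod_of_flat' (A := A') q'.asIdeal _ _)
  have h1 : ∀ q' : PrimeSpectrum B', 1 ≤ LocCoh.idealDepth ((J.map (algebraMap B B')).map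
      (algebraMap B' (EGA4.FibLocRing A' B' q'.asIdeal)))
      (EGA4.FibLocMod A' B' q'.asIdeal (B' ⊗[B] E1)) := fun q' =>
    (le_trans (by norm_num) (two_le_idealDepth_fibLocRing_baseChange J hZ q'.asIdeal)).trans
      (idealDepth_fibLocRing_le_fibLocMod_of_flat' (A := A') q'.asIdeal _ _)
  have key : ∀ q' : PrimeSpectrum B',
      (2 ≤ LocCoh.idealDepth ((J.map (algebraMap B B')).map
        (algebraMap B' (EGA4.FibLocRing A' B' q'.asIdeal)))
        (EGA4.FibLocMod A' B' q'.asIdeal (LinearMap.ker (u.baseChange B')))) ↔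
      FlatCA.FlatAt A' q'.asIdeal (B' ⊗[B] G) := fun q' =>
    local_package_J q'.asIdeal (J.map (algebraMap B B')) (LinearMap.ker (u.baseChange B'))
      (B' ⊗[B] E0) (B' ⊗[B] E1) (B' ⊗[B] G) (LinearMap.ker (u.baseChange B')).subtype
      (u.baseChange B') (v.baseChange B') hf' hfu' huv' hv'
      (fun q'' _ hJ => hfreeG q'' hJ) (h0 q') (h1 q')
  constructor
  · intro H
    refine Module.flat_of_isLocalized_maximal B' (B' ⊗[B] G)
      (fun P _ => LocalizedModule P.primeCompl (B' ⊗[B] G))
      (fun P _ => LocalizedModule.mkLinearMap P.primeCompl _) ?_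
    intro P hP
    exact (key ⟨P, hP.isPrime⟩).mp (H ⟨P, hP.isPrime⟩).2
  · intro hG' q'
    refine ⟨?_, (key q').mpr (flatAt_of_flat q'.asIdeal)⟩
    haveI hR : Module.Flat A' (LinearMap.range (u.baseChange B')) :=
      flat_of_exact_of_flat_of_flat (K := LinearMap.range (u.baseChange B'))
        (E := B' ⊗[B] E1) (G := B' ⊗[B] G)
        ((LinearMap.range (u.baseChange B')).subtype.restrictScalars A')
        ((v.baseChange B').restrictScalars A') (Submodule.injective_subtype _) hv' (by
          intro y
          change (v.baseChange B') y = 0 ↔ _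
          rw [huv' y]
          constructor
          · rintro ⟨e, rfl⟩; exact ⟨⟨_, e, rfl⟩, rfl⟩
          · rintro ⟨⟨_, e, rfl⟩, rfl⟩; exact ⟨e, rfl⟩)
    haveI hK : Module.Flat A' (LinearMap.ker (u.baseChange B')) :=
      flat_of_exact_of_flat_of_flat (K := LinearMap.ker (u.baseChange B'))
        (E := B' ⊗[B] E0) (G := LinearMap.range (u.baseChange B'))
        ((LinearMap.ker (u.baseChange B')).subtype.restrictScalars A')
        ((u.baseChange B').rangeRestrict.restrictScalars A') (Submodule.injective_subtype _)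
        (LinearMap.surjective_rangeRestrict _) (by
          intro y
          change (u.baseChange B').rangeRestrict y = 0 ↔ _
          constructor
          · intro h
            have h' : (u.baseChange B') y = 0 := congrArg Subtype.val h
            exact ⟨⟨y, h'⟩, rfl⟩
          · rintro ⟨⟨y', hy'⟩, rfl⟩
            exact Subtype.ext hy')
    exact flatAt_of_flat q'.asIdeal

include hZ hf hfu huv hv hFU hGU in
theorem main :
    Module.IsReflexive B F ∧
    Module.IsReflexive B' (LinearMap.ker (u.baseChange B')) ∧
    2 ≤ LocCoh.idealDepth (J.map (algebraMap B B')) (LinearMap.ker (u.baseChange B')) ∧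
    ((∀ q' : PrimeSpectrum B', FlatCA.FlatAt A' q'.asIdeal (LinearMap.ker (u.baseChange B')) ∧
        2 ≤ LocCoh.idealDepth ((J.map (algebraMap B B')).map
            (algebraMap B' (EGA4.FibLocRing A' B' q'.asIdeal)))
          (EGA4.FibLocMod A' B' q'.asIdeal (LinearMap.ker (u.baseChange B')))) ↔
      Module.Flat A' (B' ⊗[B] G)) :=
  ⟨part1 A B J hZ F E0 E1 f u hf hfu hFU,
    part2b A B A' B' J hZ E0 E1 G u v huv hv hGU,
    part2a A B A' B' J hZ E0 E1 u,
    part3 A B A' B' J hZ E0 E1 G u v huv hv hGU⟩

end Main

end SecQC6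

end Groth.Agent.Lib.H9QGor711
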