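import Mathlib
import Groth.Prelude.Def_EGA4b
import Groth.Agent.Lib.Helper5TensorDim

/-!
# Dimension of `N ⊗_A M` for `N` flat over `A` (helper2, round 2)

For a local homomorphism `A → B` of Noetherian local rings, `M` a finite `A`-module and `N` a finite
`B`-module flat over `A`:  `dim_B (N ⊗_A M) = dim_A M + dim_B (N / m_A N)` (EGA IV 6.1.2 for modules).
The upper bound is `Helper5.TensorDim.main`; the lower bound is proved here by a prime filtration of
`M` and induction on `dim M`.
-/

set_option autoImplicit false
set_option linter.style.haveILetI false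
set_option linter.unusedSectionVars false
universe u

namespace Groth.Agent.Lib.R2H2.TensorDim

open TensorProduct IsLocalRing
open scoped Pointwise

section Mono

variable {A B : Type u} [CommRing A] [CommRing B] [Algebra A B]
  (N : Type u) [AddCommGroup N] [Module B N] [Module A N] [IsScalarTower A B N]
  {M M' : Type u} [AddCommGroup M] [Module A M] [AddCommGroup M'] [Module A M']

theorem supportDim_tensor_le_of_injective [Module.Flat A N] (f : M →ₗ[A] M')
    (hf : Function.Injective f) :
    Module.supportDim B (N ⊗[A] M) ≤ Module.supportDim B (N ⊗[A] M') := by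
  refine Module.supportDim_le_of_injective (TensorProduct.AlgebraTensorModule.lTensor B N f) ?_
  rw [TensorProduct.AlgebraTensorModule.coe_lTensor]
  exact Module.Flat.lTensor_preserves_injective_linearMap f hf

theorem supportDim_tensor_le_of_surjective (f : M →ₗ[A] M')
    (hf : Function.Surjective f) :
    Module.supportDim B (N ⊗[A] M') ≤ Module.supportDim B (N ⊗[A] M) := by
  refine Module.supportDim_le_of_surjective (TensorProduct.AlgebraTensorModule.lTensor B N f) ?_
  rw [TensorProduct.AlgebraTensorModule.coe_lTensor]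
  exact LinearMap.lTensor_surjective N hf

end Mono

section Base

variable (A B : Type u) [CommRing A] [CommRing B] [IsLocalRing A] [Algebra A B]
  (N : Type u) [AddCommGroup N] [Module B N] [Module A N] [IsScalarTower A B N]

theorem smul_mk_eq_zero_of_mem (a : A) (ha : a ∈ maximalIdeal A) (n : N) :
    a • (Submodule.Quotient.mk n : EGA4.FibMod A B N) = 0 := by
  rw [← Submodule.Quotient.mk_smul, Submodule.Quotient.mk_eq_zero, ← algebraMap_smul B a n]
  exact Submodule.smul_mem_smul (Ideal.mem_map_of_mem _ ha) Submodule.mem_top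

/-- the `A`-linear map `A/m → N/m_A N`, `ā ↦ a • [n]` -/
noncomputable def fibreMapAux (n : N) : (A ⧸ maximalIdeal A) →ₗ[A] EGA4.FibMod A B N :=
  Submodule.liftQ (maximalIdeal A)
    (LinearMap.toSpanSingleton A (EGA4.FibMod A B N) (Submodule.Quotient.mk n)) (by
      intro a ha
      rw [LinearMap.mem_ker, LinearMap.toSpanSingleton_apply]
      exact smul_mk_eq_zero_of_mem A B N a ha n)

theorem fibreMapAux_mk (n : N) (a : A) :
    fibreMapAux A B N n (Ideal.Quotient.mk _ a) = a • (Submodule.Quotient.mk n : EGA4.FibMod A B N) := by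
  change fibreMapAux A B N n (Submodule.Quotient.mk a) = _
  rw [fibreMapAux, Submodule.liftQ_apply, LinearMap.toSpanSingleton_apply]

/-- the `B`-linear surjection `N ⊗_A (A/m) → N/m_A N` -/
noncomputable def fibreMap : N ⊗[A] (A ⧸ maximalIdeal A) →ₗ[B] EGA4.FibMod A B N :=
  TensorProduct.AlgebraTensorModule.lift
    { toFun := fun n => fibreMapAux A B N n
      map_add' := fun n n' => by
        apply LinearMap.ext
        intro x
        obtain ⟨a, rfl⟩ := Ideal.Quotient.mk_surjective x
        rw [LinearMap.add_apply, fibreMapAux_mk, fibreMapAux_mk, fibreMapAux_mk,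
          Submodule.Quotient.mk_add, smul_add]
      map_smul' := fun b n => by
        apply LinearMap.ext
        intro x
        obtain ⟨a, rfl⟩ := Ideal.Quotient.mk_surjective x
        rw [RingHom.id_apply, LinearMap.smul_apply, fibreMapAux_mk, fibreMapAux_mk,
          Submodule.Quotient.mk_smul, smul_comm] }

theorem fibreMap_tmul (n : N) (a : A) :
    fibreMap A B N (n ⊗ₜ[A] (Ideal.Quotient.mk _ a)) =
      a • (Submodule.Quotient.mk n : EGA4.FibMod A B N) := by
  rw [fibreMap, TensorProduct.AlgebraTensorModule.lift_tmul]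
  exact fibreMapAux_mk A B N n a

theorem fibreMap_surjective : Function.Surjective (fibreMap A B N) := by
  intro x
  obtain ⟨n, rfl⟩ := Submodule.Quotient.mk_surjective _ x
  refine ⟨n ⊗ₜ[A] (Ideal.Quotient.mk _ 1), ?_⟩
  rw [fibreMap_tmul, one_smul]

theorem supportDim_fibMod_le :
    Module.supportDim B (EGA4.FibMod A B N) ≤
      Module.supportDim B (N ⊗[A] (A ⧸ maximalIdeal A)) :=
  Module.supportDim_le_of_surjective (fibreMap A B N) (fibreMap_surjective A B N)

end Base

section Step

variable {A B : Type u} [CommRing A] [CommRing B] [IsLocalRing A] [IsLocalRing B]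
  [IsNoetherianRing A] [IsNoetherianRing B] [Algebra A B] [IsLocalHom (algebraMap A B)]
  (N : Type u) [AddCommGroup N] [Module B N] [Module A N] [IsScalarTower A B N]
  [Module.Finite B N] [Module.Flat A N]
  (M : Type u) [AddCommGroup M] [Module A M] [Module.Finite A M]

theorem supportDim_tensor_quotSMulTop_succ_le (x : A) (hx : x ∈ maximalIdeal A)
    (hreg : IsSMulRegular M x) :
    Module.supportDim B (N ⊗[A] QuotSMulTop x M) + 1 ≤ Module.supportDim B (N ⊗[A] M) := by
  haveI : Module.Finite B (N ⊗[A] M) := Groth.Agent.Lib.Helper5.TensorDim.finite_tensor A B M N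
  set y : B := algebraMap A B x with hy
  have hym : y ∈ maximalIdeal B := by
    have : maximalIdeal A ≤ (maximalIdeal B).comap (algebraMap A B) := by
      rw [IsLocalRing.maximalIdeal_comap]
    exact this hx
  have hregT : IsSMulRegular (N ⊗[A] M) x := IsSMulRegular.lTensor N hreg
  have hregy : IsSMulRegular (N ⊗[A] M) y := by
    intro t₁ t₂ h
    apply hregT
    change x • t₁ = x • t₂
    rw [← algebraMap_smul B x t₁, ← algebraMap_smul B x t₂]
    exact h
  have h1 := Module.supportDim_quotSMulTop_succ_eq_supportDim hregy hym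
  rw [← h1]
  gcongr
  -- the surjection `T / yT → N ⊗ (M / xM)`
  let g : N ⊗[A] M →ₗ[B] N ⊗[A] QuotSMulTop x M :=
    TensorProduct.AlgebraTensorModule.lTensor B N (Submodule.mkQ _)
  have hg : Function.Surjective g := by
    rw [TensorProduct.AlgebraTensorModule.coe_lTensor]
    exact LinearMap.lTensor_surjective N (Submodule.mkQ_surjective _)
  have hkill : ∀ z : N ⊗[A] QuotSMulTop x M, x • z = 0 := by
    intro z
    induction z with
    | zero => rw [smul_zero]
    | add a b ha hb => rw [smul_add, ha, hb, add_zero]
    | tmul n m =>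
      obtain ⟨m, rfl⟩ := Submodule.mkQ_surjective _ m
      rw [← TensorProduct.tmul_smul, ← map_smul]
      have : (Submodule.mkQ (x • (⊤ : Submodule A M))) (x • m) = 0 := by
        rw [Submodule.mkQ_apply, Submodule.Quotient.mk_eq_zero]
        exact Submodule.smul_mem_pointwise_smul m x ⊤ Submodule.mem_top
      rw [this, TensorProduct.tmul_zero]
  have hker : y • (⊤ : Submodule B (N ⊗[A] M)) ≤ LinearMap.ker g := by
    intro t ht
    obtain ⟨t', -, rfl⟩ := (Submodule.mem_smul_pointwise_iff_exists _ _ _).mp ht
    rw [LinearMap.mem_ker, map_smul, hy, algebraMap_smul]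
    exact hkill _
  exact Module.supportDim_le_of_surjective (Submodule.liftQ _ g hker)
    (by
      intro z
      obtain ⟨t, rfl⟩ := hg z
      exact ⟨Submodule.Quotient.mk t, by simp⟩)

end Step

theorem supportDim_le_max_of_exact {R : Type u} [CommRing R] {N₁ N₂ N₃ : Type u}
    [AddCommGroup N₁] [Module R N₁] [AddCommGroup N₂] [Module R N₂]
    [AddCommGroup N₃] [Module R N₃] (f : N₁ →ₗ[R] N₂) (g : N₂ →ₗ[R] N₃)
    (hf : Function.Injective f) (hg : Function.Surjective g) (hfg : Function.Exact f g) :
    Module.supportDim R N₂ ≤ max (Module.supportDim R N₁) (Module.supportDim R N₃) := by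
  unfold Module.supportDim
  rw [Order.krullDim]
  apply iSup_le
  intro p
  have hsupp := Module.support_of_exact hfg hf hg
  have hhead : (p.head : PrimeSpectrum R) ∈ Module.support R N₁ ∪ Module.support R N₃ := by
    rw [← hsupp]
    exact p.head.2
  rcases hhead with h | h
  · refine le_trans ?_ (le_max_left _ _)
    let q : LTSeries (Module.support R N₁) :=
      { length := p.length
        toFun := fun i => ⟨(p i).1, Module.mem_support_mono (p.head_le i) h⟩
        step := fun i => p.step i }
    exact Order.LTSeries.length_le_krullDim q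
  · refine le_trans ?_ (le_max_right _ _)
    let q : LTSeries (Module.support R N₃) :=
      { length := p.length
        toFun := fun i => ⟨(p i).1, Module.mem_support_mono (p.head_le i) h⟩
        step := fun i => p.step i }
    exact Order.LTSeries.length_le_krullDim q

theorem withBot_enat_le_of_add_one_le {a : WithBot ℕ∞} {n : ℕ} (h : a + 1 ≤ ((n + 1 : ℕ) : WithBot ℕ∞)) :
    a ≤ (n : WithBot ℕ∞) := by
  induction a using WithBot.recBotCoe with
  | bot => exact bot_le
  | coe k =>
    have h' : ((k + 1 : ℕ∞) : WithBot ℕ∞) ≤ (((n + 1 : ℕ) : ℕ∞) : WithBot ℕ∞) := by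
      exact_mod_cast h
    rw [WithBot.coe_le_coe] at h'
    have h'' : k ≤ (n : ℕ∞) := by
      push_cast at h'
      exact (ENat.add_le_add_iff_right ENat.one_ne_top).mp h'
    exact_mod_cast h''

section Main

variable {A B : Type u} [CommRing A] [CommRing B] [IsLocalRing A] [IsLocalRing B]
  [IsNoetherianRing A] [IsNoetherianRing B] [Algebra A B] [IsLocalHom (algebraMap A B)]
  (N : Type u) [AddCommGroup N] [Module B N] [Module A N] [IsScalarTower A B N]
  [Module.Finite B N] [Module.Flat A N]

/-- the case `M = A/I` with `I` the maximal ideal -/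
theorem lower_quotient_maximal (I : Ideal A) (hI : I = maximalIdeal A) :
    Module.supportDim A (A ⧸ I) + Module.supportDim B (EGA4.FibMod A B N) ≤
      Module.supportDim B (N ⊗[A] (A ⧸ I)) := by
  subst hI
  have h0 : Module.supportDim A (A ⧸ maximalIdeal A) = 0 := by
    rw [Module.supportDim_quotient_eq_ringKrullDim]
    letI : Field (A ⧸ maximalIdeal A) := Ideal.Quotient.field _
    exact ringKrullDim_eq_zero_of_field _
  rw [h0, zero_add]
  exact supportDim_fibMod_le A B N

/-- reduction to the modules `A/p` by a prime filtration -/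
theorem lower_of_prime (d : ℕ)
    (hprime : ∀ p : PrimeSpectrum A, Module.supportDim A (A ⧸ p.asIdeal) ≤ d →
      Module.supportDim A (A ⧸ p.asIdeal) + Module.supportDim B (EGA4.FibMod A B N) ≤
        Module.supportDim B (N ⊗[A] (A ⧸ p.asIdeal))) :
    ∀ (M : Type u) [AddCommGroup M] [Module A M] [Module.Finite A M],
    Module.supportDim A M ≤ d →
    Module.supportDim A M + Module.supportDim B (EGA4.FibMod A B N) ≤
      Module.supportDim B (N ⊗[A] M) := by
  intro M _ _ hfin
  induction hfin using IsNoetherianRing.induction_on_isQuotientEquivQuotientPrime A with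
  | subsingleton M =>
    intro _
    rw [Module.supportDim_eq_bot_of_subsingleton, WithBot.bot_add]
    exact bot_le
  | quotient M p e =>
    intro hd
    rw [Module.supportDim_eq_of_equiv e] at hd ⊢
    exact (hprime p hd).trans (supportDim_tensor_le_of_surjective N e.toLinearMap e.surjective)
  | exact M₁ M₂ M₃ f g hf hg hfg h₁ h₃ =>
    intro hd
    have hd1 : Module.supportDim A M₁ ≤ Module.supportDim A M₂ :=
      Module.supportDim_le_of_injective f hf
    have hd3 : Module.supportDim A M₃ ≤ Module.supportDim A M₂ :=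
      Module.supportDim_le_of_surjective g hg
    have H1 := h₁ (hd1.trans hd)
    have H3 := h₃ (hd3.trans hd)
    have hmax := supportDim_le_max_of_exact f g hf hg hfg
    have i1 := supportDim_tensor_le_of_injective (B := B) N f hf
    have i3 := supportDim_tensor_le_of_surjective (B := B) N g hg
    rcases le_max_iff.mp hmax with h | h
    · exact (add_le_add_left h _).trans (H1.trans i1)
    · exact (add_le_add_left h _).trans (H3.trans i3)

/-- for a non-maximal prime `p` there is `x ∈ m`, regular on `A/p`, with
`dim (A/p)/x + 1 = dim A/p` -/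
theorem exists_regular_of_ne_maximalIdeal (p : PrimeSpectrum A) (hp : p.asIdeal ≠ maximalIdeal A) :
    ∃ x ∈ maximalIdeal A, IsSMulRegular (A ⧸ p.asIdeal) x ∧
      Module.supportDim A (QuotSMulTop x (A ⧸ p.asIdeal)) + 1 =
        Module.supportDim A (A ⧸ p.asIdeal) := by
  have hle : p.asIdeal ≤ maximalIdeal A := IsLocalRing.le_maximalIdeal p.2.ne_top
  have hlt : p.asIdeal < maximalIdeal A := lt_of_le_of_ne hle hp
  obtain ⟨x, hxm, hxp⟩ := Set.exists_of_ssubset hlt
  have hreg : IsSMulRegular (A ⧸ p.asIdeal) x := by
    intro a b hab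
    obtain ⟨a, rfl⟩ := Ideal.Quotient.mk_surjective a
    obtain ⟨b, rfl⟩ := Ideal.Quotient.mk_surjective b
    have h1 : Ideal.Quotient.mk p.asIdeal (x * a) = Ideal.Quotient.mk p.asIdeal (x * b) := hab
    rw [Ideal.Quotient.eq, ← mul_sub] at h1
    rcases p.2.mem_or_mem h1 with h | h
    · exact absurd h hxp
    · exact Ideal.Quotient.eq.mpr h
  exact ⟨x, hxm, hreg, Module.supportDim_quotSMulTop_succ_eq_supportDim hreg hxm⟩

theorem lower_aux (d : ℕ) : ∀ (M : Type u) [AddCommGroup M] [Module A M] [Module.Finite A M],
    Module.supportDim A M ≤ d →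
    Module.supportDim A M + Module.supportDim B (EGA4.FibMod A B N) ≤
      Module.supportDim B (N ⊗[A] M) := by
  induction d with
  | zero =>
    apply lower_of_prime N 0
    intro p hd
    by_cases hp : p.asIdeal = maximalIdeal A
    · exact lower_quotient_maximal N p.asIdeal hp
    · exfalso
      obtain ⟨x, hxm, hreg, hdim⟩ := exists_regular_of_ne_maximalIdeal p hp
      rw [← hdim] at hd
      have hbot : Module.supportDim A (QuotSMulTop x (A ⧸ p.asIdeal)) = ⊥ := by
        by_contra hne
        obtain ⟨k, hk⟩ := WithBot.ne_bot_iff_exists.mp hne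
        rw [← hk] at hd
        have h' : ((k + 1 : ℕ∞) : WithBot ℕ∞) ≤ ((0 : ℕ∞) : WithBot ℕ∞) := by exact_mod_cast hd
        rw [WithBot.coe_le_coe] at h'
        simp at h'
      rw [hbot, WithBot.bot_add] at hdim
      have := (Module.supportDim_eq_bot_iff_subsingleton A _).mp hdim.symm
      exact p.2.ne_top (Ideal.Quotient.subsingleton_iff.mp this)
  | succ d ih =>
    apply lower_of_prime N (d + 1)
    intro p hd
    by_cases hp : p.asIdeal = maximalIdeal A
    · exact lower_quotient_maximal N p.asIdeal hp
    · obtain ⟨x, hxm, hreg, hdim⟩ := exists_regular_of_ne_maximalIdeal p hp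
      rw [← hdim] at hd ⊢
      have hd' := withBot_enat_le_of_add_one_le hd
      have H := ih (QuotSMulTop x (A ⧸ p.asIdeal)) hd'
      have S := supportDim_tensor_quotSMulTop_succ_le (B := B) N (A ⧸ p.asIdeal) x hxm hreg
      calc Module.supportDim A (QuotSMulTop x (A ⧸ p.asIdeal)) + 1 +
            Module.supportDim B (EGA4.FibMod A B N)
          = Module.supportDim A (QuotSMulTop x (A ⧸ p.asIdeal)) +
            Module.supportDim B (EGA4.FibMod A B N) + 1 := by rw [add_right_comm]
        _ ≤ Module.supportDim B (N ⊗[A] QuotSMulTop x (A ⧸ p.asIdeal)) + 1 := by gcongr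
        _ ≤ _ := S

/-- **Lower bound** `dim M + dim (N/m_A N) ≤ dim_B (N ⊗_A M)` for `N` flat over `A`. -/
theorem supportDim_add_le_supportDim_tensor (M : Type u) [AddCommGroup M] [Module A M]
    [Module.Finite A M] :
    Module.supportDim A M + Module.supportDim B (EGA4.FibMod A B N) ≤
      Module.supportDim B (N ⊗[A] M) := by
  have h1 : ringKrullDim A ≠ ⊤ := ringKrullDim_ne_top
  have h2 : ringKrullDim A ≠ ⊥ := ringKrullDim_ne_bot
  obtain ⟨m, hm⟩ := WithBot.ne_bot_iff_exists.mp h2
  have hmt : m ≠ ⊤ := by
    intro h; apply h1; rw [← hm, h]; rfl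
  obtain ⟨n, hn⟩ := ENat.ne_top_iff_exists.mp hmt
  refine lower_aux N n M ?_
  refine (Module.supportDim_le_ringKrullDim A M).trans ?_
  rw [← hm, ← hn]
  rfl

end Main

section Final

variable (A B : Type u) [CommRing A] [CommRing B] [IsLocalRing A] [IsLocalRing B]
  [IsNoetherianRing A] [IsNoetherianRing B] [Algebra A B] [IsLocalHom (algebraMap A B)]
  (M : Type u) [AddCommGroup M] [Module A M] [Module.Finite A M]
  (N : Type u) [AddCommGroup N] [Module B N] [Module A N] [IsScalarTower A B N]
  [Module.Finite B N] [Module.Flat A N]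

/-- **EGA IV 6.1.2 for modules**: `dim_B (N ⊗_A M) = dim_A M + dim_B (N / m_A N)`. -/
theorem supportDim_tensor_eq_add :
    Module.supportDim B (N ⊗[A] M) =
      Module.supportDim A M + Module.supportDim B (EGA4.FibMod A B N) :=
  le_antisymm (Groth.Agent.Lib.Helper5.TensorDim.main A B M N)
    (supportDim_add_le_supportDim_tensor N M)

end Final

end Groth.Agent.Lib.R2H2.TensorDim
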