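import Mathlib
import Groth.Agent.Lib.Helper5FBC
import Groth.Agent.Lib.R2H2TensorDim
import Groth.Agent.Lib.H3FlatLocBC

/-!
# R2H2FbcMod: flat base change formulas for depth and dimension, module version

For a homomorphism `R → S` of Noetherian rings, a finite `S`-module `N` flat over `R`, a prime `Q`
of `S` over `q`, and a finite `R`-module `X`:
`depth (N ⊗ X)_Q = depth X_q + depth (N_Q/qN_Q)`, `dim (N ⊗ X)_Q = dim X_q + dim (N_Q/qN_Q)`.
-/

set_option autoImplicit false
set_option linter.style.haveILetI false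
universe u

namespace Groth.Agent.Lib.R2H2.FbcMod
open Groth.Agent.Lib.Helper28 Groth.Agent.Lib.Helper5 Groth.Agent.Lib.Helper5.GenDepth TensorProduct

variable {R S : Type u} [CommRing R] [CommRing S] [IsNoetherianRing R] [IsNoetherianRing S]
  [Algebra R S]

set_option maxHeartbeats 800000 in
theorem fbcMod (N : Type u) [AddCommGroup N] [Module S N] [Module R N] [IsScalarTower R S N]
    [Module.Finite S N] [Module.Flat R N]
    (Q : Ideal S) [Q.IsPrime] (X : Type u) [AddCommGroup X] [Module R X] [Module.Finite R X] :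
    dep Q (N ⊗[R] X) = dep (Q.comap (algebraMap R S)) X +
        LocCoh.depth (Localization.AtPrime Q) (EGA4.FibLocMod R S Q N) ∧
    dm Q (N ⊗[R] X) = dm (Q.comap (algebraMap R S)) X +
        Module.supportDim (Localization.AtPrime Q) (EGA4.FibLocMod R S Q N) := by
  haveI hlies : Q.LiesOver (Q.comap (algebraMap R S)) := ⟨rfl⟩
  letI alg : Algebra (Localization.AtPrime (Q.comap (algebraMap R S))) (Localization.AtPrime Q) :=
    Localization.AtPrime.algebraOfLiesOver (Q.comap (algebraMap R S)) Q
  haveI hloc : IsLocalHom (algebraMap (Localization.AtPrime (Q.comap (algebraMap R S)))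
      (Localization.AtPrime Q)) := by
    rw [RingHom.algebraMap_toAlgebra]
    exact Localization.isLocalHom_localRingHom (Q.comap (algebraMap R S)) Q (algebraMap R S)
      Ideal.LiesOver.over
  haveI : IsNoetherianRing (Localization.AtPrime (Q.comap (algebraMap R S))) :=
    IsLocalization.isNoetherianRing (Q.comap (algebraMap R S)).primeCompl _ inferInstance
  haveI : IsNoetherianRing (Localization.AtPrime Q) :=
    IsLocalization.isNoetherianRing Q.primeCompl _ inferInstance
  have hmapeq : (Q.comap (algebraMap R S)).map (algebraMap R (Localization.AtPrime Q)) =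
      (IsLocalRing.maximalIdeal (Localization.AtPrime (Q.comap (algebraMap R S)))).map
        (algebraMap (Localization.AtPrime (Q.comap (algebraMap R S)))
          (Localization.AtPrime Q)) := by
    rw [← IsLocalization.AtPrime.map_eq_maximalIdeal (Q.comap (algebraMap R S))
      (Localization.AtPrime (Q.comap (algebraMap R S))), Ideal.map_map,
      ← IsScalarTower.algebraMap_eq]
  -- the local module `N₀ = S_Q ⊗_S N`
  haveI hflatR : Module.Flat R ((Localization.AtPrime Q) ⊗[S] N) :=
    Groth.Agent.H3.FlatLocBC.flat_of_isLocalizedModule_tower (R := R) Q.primeCompl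
      (TensorProduct.mk S (Localization.AtPrime Q) N 1)
  haveI hflat : Module.Flat (Localization.AtPrime (Q.comap (algebraMap R S)))
      ((Localization.AtPrime Q) ⊗[S] N) :=
    (Module.flat_iff_of_isLocalization (Localization.AtPrime (Q.comap (algebraMap R S)))
      (Q.comap (algebraMap R S)).primeCompl _).mpr hflatR
  -- identification of the localized tensor product
  let e1 : (Localization.AtPrime (Q.comap (algebraMap R S))) ⊗[R] X ≃ₗ[
      Localization.AtPrime (Q.comap (algebraMap R S))]
      LocalizedModule (Q.comap (algebraMap R S)).primeCompl X :=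
    (IsLocalizedModule.isBaseChange (Q.comap (algebraMap R S)).primeCompl
      (Localization.AtPrime (Q.comap (algebraMap R S)))
      (LocalizedModule.mkLinearMap (Q.comap (algebraMap R S)).primeCompl X)).equiv
  let e2 : ((Localization.AtPrime Q) ⊗[S] N) ⊗[Localization.AtPrime (Q.comap (algebraMap R S))]
        (LocalizedModule (Q.comap (algebraMap R S)).primeCompl X) ≃ₗ[Localization.AtPrime Q]
      ((Localization.AtPrime Q) ⊗[S] N) ⊗[Localization.AtPrime (Q.comap (algebraMap R S))]
        ((Localization.AtPrime (Q.comap (algebraMap R S))) ⊗[R] X) :=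
    TensorProduct.AlgebraTensorModule.congr
      (LinearEquiv.refl (Localization.AtPrime Q) ((Localization.AtPrime Q) ⊗[S] N)) e1.symm
  let e3 : ((Localization.AtPrime Q) ⊗[S] N) ⊗[Localization.AtPrime (Q.comap (algebraMap R S))]
        ((Localization.AtPrime (Q.comap (algebraMap R S))) ⊗[R] X) ≃ₗ[Localization.AtPrime Q]
      ((Localization.AtPrime Q) ⊗[S] N) ⊗[R] X :=
    TensorProduct.AlgebraTensorModule.cancelBaseChange R
      (Localization.AtPrime (Q.comap (algebraMap R S))) (Localization.AtPrime Q)
      ((Localization.AtPrime Q) ⊗[S] N) X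
  let e4 : ((Localization.AtPrime Q) ⊗[S] N) ⊗[R] X ≃ₗ[Localization.AtPrime Q]
      (Localization.AtPrime Q) ⊗[S] (N ⊗[R] X) :=
    TensorProduct.AlgebraTensorModule.assoc R S (Localization.AtPrime Q)
      (Localization.AtPrime Q) N X
  let e5 : (Localization.AtPrime Q) ⊗[S] (N ⊗[R] X) ≃ₗ[Localization.AtPrime Q]
      LocalizedModule Q.primeCompl (N ⊗[R] X) :=
    (IsLocalizedModule.isBaseChange Q.primeCompl (Localization.AtPrime Q)
      (LocalizedModule.mkLinearMap Q.primeCompl (N ⊗[R] X))).equiv
  let E : ((Localization.AtPrime Q) ⊗[S] N) ⊗[Localization.AtPrime (Q.comap (algebraMap R S))]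
        (LocalizedModule (Q.comap (algebraMap R S)).primeCompl X) ≃ₗ[Localization.AtPrime Q]
      LocalizedModule Q.primeCompl (N ⊗[R] X) :=
    e2 ≪≫ₗ e3 ≪≫ₗ e4 ≪≫ₗ e5
  -- the fibre module
  let e6 : (Localization.AtPrime Q) ⊗[S] N ≃ₗ[Localization.AtPrime Q]
      LocalizedModule Q.primeCompl N :=
    (IsLocalizedModule.isBaseChange Q.primeCompl (Localization.AtPrime Q)
      (LocalizedModule.mkLinearMap Q.primeCompl N)).equiv
  let J : Ideal (Localization.AtPrime Q) :=
    (IsLocalRing.maximalIdeal (Localization.AtPrime (Q.comap (algebraMap R S)))).map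
        (algebraMap (Localization.AtPrime (Q.comap (algebraMap R S))) (Localization.AtPrime Q))
  let F : (((Localization.AtPrime Q) ⊗[S] N) ⧸
        (J • ⊤ : Submodule (Localization.AtPrime Q) ((Localization.AtPrime Q) ⊗[S] N)))
        ≃ₗ[Localization.AtPrime Q] EGA4.FibLocMod R S Q N :=
    Submodule.Quotient.equiv _ _ e6 (by
      rw [Submodule.map_smul'', Submodule.map_top, LinearEquiv.range, hmapeq])
  constructor
  · have hd := depth_tensor_of_flat (R := Localization.AtPrime (Q.comap (algebraMap R S)))
      (S := Localization.AtPrime Q) (LocalizedModule (Q.comap (algebraMap R S)).primeCompl X)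
      ((Localization.AtPrime Q) ⊗[S] N)
    have hdE : LocCoh.depth (Localization.AtPrime Q)
        (((Localization.AtPrime Q) ⊗[S] N) ⊗[Localization.AtPrime (Q.comap (algebraMap R S))]
          (LocalizedModule (Q.comap (algebraMap R S)).primeCompl X)) =
        dep Q (N ⊗[R] X) := by
      change LocCoh.idealDepth _ _ = LocCoh.idealDepth _ _
      exact idealDepth_congr E _
    have hfd : LocCoh.depth (Localization.AtPrime Q)
        (((Localization.AtPrime Q) ⊗[S] N) ⧸
        (J • ⊤ : Submodule (Localization.AtPrime Q) ((Localization.AtPrime Q) ⊗[S] N))) =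
        LocCoh.depth (Localization.AtPrime Q) (EGA4.FibLocMod R S Q N) := by
      change LocCoh.idealDepth _ _ = LocCoh.idealDepth _ _
      exact idealDepth_congr F _
    rw [← hdE, hd, hfd]
    rfl
  · have hdim := Groth.Agent.Lib.R2H2.TensorDim.supportDim_tensor_eq_add
      (Localization.AtPrime (Q.comap (algebraMap R S))) (Localization.AtPrime Q)
      (LocalizedModule (Q.comap (algebraMap R S)).primeCompl X) ((Localization.AtPrime Q) ⊗[S] N)
    have hdimE : Module.supportDim (Localization.AtPrime Q)
        (((Localization.AtPrime Q) ⊗[S] N) ⊗[Localization.AtPrime (Q.comap (algebraMap R S))]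
          (LocalizedModule (Q.comap (algebraMap R S)).primeCompl X)) =
        dm Q (N ⊗[R] X) := Module.supportDim_eq_of_equiv E
    have hfdim : Module.supportDim (Localization.AtPrime Q)
        (EGA4.FibMod (Localization.AtPrime (Q.comap (algebraMap R S))) (Localization.AtPrime Q)
          ((Localization.AtPrime Q) ⊗[S] N)) =
        Module.supportDim (Localization.AtPrime Q) (EGA4.FibLocMod R S Q N) :=
      Module.supportDim_eq_of_equiv F
    rw [← hdimE, hdim, hfdim]
    rfl

section GoingDown

variable {A B : Type u} [CommRing A] [CommRing B] [IsNoetherianRing A] [IsNoetherianRing B]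
  [Algebra A B]
  (F : Type u) [AddCommGroup F] [Module B F] [Module A F] [IsScalarTower A B F] [Module.Finite B F]

omit [IsNoetherianRing A] [IsNoetherianRing B] [Module.Finite B F] in
/-- if `F` is flat over `A` and `a ∉ P`, then `a f ∈ P F` implies `f ∈ P F`. -/
theorem mem_smul_top_of_smul_mem [Module.Flat A F] (P : Ideal A) [P.IsPrime] (a : A) (ha : a ∉ P)
    (f : F) (h : algebraMap A B a • f ∈ (P.map (algebraMap A B) • ⊤ : Submodule B F)) :
    f ∈ (P.map (algebraMap A B) • ⊤ : Submodule B F) := by
  rw [mem_map_smul_top_iff] at h ⊢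
  rw [algebraMap_smul] at h
  have hreg0 : IsSMulRegular (A ⧸ P) a := by
    intro x y hxy
    simp only at hxy
    rw [← sub_eq_zero, ← smul_sub] at hxy
    obtain ⟨z, hz⟩ := Ideal.Quotient.mk_surjective (x - y)
    rw [← hz, ← Ideal.Quotient.mk_eq_mk, ← Submodule.Quotient.mk_smul, Ideal.Quotient.mk_eq_mk,
      Ideal.Quotient.eq_zero_iff_mem, smul_eq_mul] at hxy
    have hzP : z ∈ P := (Ideal.IsPrime.mem_or_mem inferInstance hxy).resolve_left ha
    rw [← sub_eq_zero, ← hz]
    exact Ideal.Quotient.eq_zero_iff_mem.mpr hzP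
  have hreg1 : IsSMulRegular (F ⊗[A] (A ⧸ P)) a := IsSMulRegular.lTensor F hreg0
  have hreg2 : IsSMulRegular (F ⧸ (P • ⊤ : Submodule A F)) a :=
    (LinearEquiv.isSMulRegular_congr (TensorProduct.tensorQuotEquivQuotSMul F P) a).mp hreg1
  exact _root_.mem_of_isSMulRegular_quotient_of_smul_mem hreg2 h

/-- Going down for a finite module flat over the base, with a minimality property. -/
theorem exists_minimal_over [Module.Flat A F] (P : Ideal A) [P.IsPrime] (q : Ideal B) [hq' : q.IsPrime]
    (hq : (⟨q, hq'⟩ : PrimeSpectrum B) ∈ Module.support B F)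
    (hP : P ≤ q.comap (algebraMap A B)) :
    ∃ Q : Ideal B, Q.IsPrime ∧ Q ≤ q ∧
      Q ∈ (Module.annihilator B
        (F ⧸ (P.map (algebraMap A B) • ⊤ : Submodule B F))).minimalPrimes ∧
      Q.comap (algebraMap A B) = P := by
  have hsupp := Module.support_quotient (R := B) (M := F) (P.map (algebraMap A B))
  have hqG : (⟨q, hq'⟩ : PrimeSpectrum B) ∈
      Module.support B (F ⧸ (P.map (algebraMap A B) • ⊤ : Submodule B F)) := by
    rw [hsupp]
    exact ⟨hq, by
      rw [PrimeSpectrum.mem_zeroLocus]
      exact Ideal.map_le_iff_le_comap.mpr hP⟩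
  rw [Module.support_eq_zeroLocus, PrimeSpectrum.mem_zeroLocus] at hqG
  obtain ⟨Q, hQmin, hQq⟩ := Ideal.exists_minimalPrimes_le (J := q) hqG
  have hQprime : Q.IsPrime := hQmin.1.1
  refine ⟨Q, hQprime, hQq, hQmin, ?_⟩
  have hQsupp : (⟨Q, hQprime⟩ : PrimeSpectrum B) ∈
      Module.support B (F ⧸ (P.map (algebraMap A B) • ⊤ : Submodule B F)) := by
    rw [Module.support_eq_zeroLocus, PrimeSpectrum.mem_zeroLocus]
    exact hQmin.1.2
  rw [hsupp] at hQsupp
  have hPQ : P.map (algebraMap A B) ≤ Q := by
    have := hQsupp.2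
    rwa [PrimeSpectrum.mem_zeroLocus] at this
  have hass := Module.associatedPrimes.minimalPrimes_annihilator_subset_associatedPrimes B
    (F ⧸ (P.map (algebraMap A B) • ⊤ : Submodule B F)) hQmin
  apply le_antisymm
  · intro a ha
    by_contra haP
    have hmem : algebraMap A B a ∈ ⋃ p ∈ associatedPrimes B
        (F ⧸ (P.map (algebraMap A B) • ⊤ : Submodule B F)), (p : Set B) :=
      Set.mem_biUnion hass ha
    rw [biUnion_associatedPrimes_eq_zero_divisors] at hmem
    obtain ⟨x, hx0, hx⟩ := hmem
    obtain ⟨f, rfl⟩ := Submodule.Quotient.mk_surjective _ x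
    rw [← Submodule.Quotient.mk_smul, Submodule.Quotient.mk_eq_zero] at hx
    apply hx0
    rw [Submodule.Quotient.mk_eq_zero]
    exact mem_smul_top_of_smul_mem F P a haP f hx
  · exact Ideal.map_le_iff_le_comap.mp hPQ

omit [IsNoetherianRing A] in
/-- At a prime `Q` minimal in the support of `F / P F` (`P = Q ∩ A`), the fibre module
`F_Q / P F_Q` has dimension `0` and depth `0`. -/
theorem fibLocMod_dim_depth_zero (Q : Ideal B) [hQ : Q.IsPrime]
    (hQmin : Q ∈ (Module.annihilator B (F ⧸ ((Q.comap (algebraMap A B)).map (algebraMap A B) • ⊤ :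
      Submodule B F))).minimalPrimes) :
    Module.supportDim (Localization.AtPrime Q) (EGA4.FibLocMod A B Q F) = 0 ∧
    LocCoh.depth (Localization.AtPrime Q) (EGA4.FibLocMod A B Q F) = 0 := by
  haveI : IsNoetherianRing (Localization.AtPrime Q) :=
    IsLocalization.isNoetherianRing Q.primeCompl _ inferInstance
  set P : Ideal A := Q.comap (algebraMap A B) with hP
  set J : Ideal (Localization.AtPrime Q) := P.map (algebraMap A (Localization.AtPrime Q)) with hJ
  have hJmap : J = (P.map (algebraMap A B)).map (algebraMap B (Localization.AtPrime Q)) := by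
    rw [hJ, Ideal.map_map, ← IsScalarTower.algebraMap_eq]
  have hPQ : P.map (algebraMap A B) ≤ Q := Ideal.map_le_iff_le_comap.mpr le_rfl
  have hJle : J ≤ IsLocalRing.maximalIdeal (Localization.AtPrime Q) := by
    rw [hJmap, ← IsLocalization.AtPrime.map_eq_maximalIdeal Q (Localization.AtPrime Q)]
    exact Ideal.map_mono hPQ
  have hsuppG := Module.support_quotient (R := B) (M := F) (P.map (algebraMap A B))
  -- `Q ∈ Supp F`
  have hQsupp : (⟨Q, hQ⟩ : PrimeSpectrum B) ∈ Module.support B F := by
    have : (⟨Q, hQ⟩ : PrimeSpectrum B) ∈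
        Module.support B (F ⧸ (P.map (algebraMap A B) • ⊤ : Submodule B F)) := by
      rw [Module.support_eq_zeroLocus, PrimeSpectrum.mem_zeroLocus]
      exact hQmin.1.2
    rw [hsuppG] at this
    exact this.1
  haveI hnt : Nontrivial (LocalizedModule Q.primeCompl F) :=
    (Module.mem_support_iff (p := ⟨Q, hQ⟩)).mp hQsupp
  haveI hnt' : Nontrivial (EGA4.FibLocMod A B Q F) := by
    apply Submodule.Quotient.nontrivial_iff.mpr
    intro htop
    have h0 : (J • ⊤ : Submodule (Localization.AtPrime Q) (LocalizedModule Q.primeCompl F)) ≤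
        IsLocalRing.maximalIdeal (Localization.AtPrime Q) • ⊤ := Submodule.smul_mono_left hJle
    rw [htop] at h0
    exact Groth.Agent.Lib.Helper28.maximalIdeal_smul_top_ne_top (top_le_iff.mp h0)
  have hsuppQ := Module.support_quotient (R := Localization.AtPrime Q)
    (M := LocalizedModule Q.primeCompl F) J
  have hsub : ∀ 𝔮 ∈ Module.support (Localization.AtPrime Q) (EGA4.FibLocMod A B Q F),
      𝔮 = IsLocalRing.closedPoint (Localization.AtPrime Q) := by
    intro 𝔮 h𝔮
    rw [hsuppQ] at h𝔮
    have h1 : PrimeSpectrum.comap (algebraMap B (Localization.AtPrime Q)) 𝔮 ∈ Module.support B F :=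
      (mem_support_isLocalizedModule_iff Q.primeCompl (Localization.AtPrime Q)
        (LocalizedModule.mkLinearMap Q.primeCompl F) 𝔮).mp h𝔮.1
    have h2 : P.map (algebraMap A B) ≤
        (PrimeSpectrum.comap (algebraMap B (Localization.AtPrime Q)) 𝔮).asIdeal := by
      rw [PrimeSpectrum.comap_asIdeal, ← Ideal.map_le_iff_le_comap, ← hJmap]
      have := h𝔮.2
      rwa [PrimeSpectrum.mem_zeroLocus] at this
    have h3 : Module.annihilator B (F ⧸ (P.map (algebraMap A B) • ⊤ : Submodule B F)) ≤
        (PrimeSpectrum.comap (algebraMap B (Localization.AtPrime Q)) 𝔮).asIdeal := by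
      have : PrimeSpectrum.comap (algebraMap B (Localization.AtPrime Q)) 𝔮 ∈
          Module.support B (F ⧸ (P.map (algebraMap A B) • ⊤ : Submodule B F)) := by
        rw [hsuppG]
        exact ⟨h1, by rwa [PrimeSpectrum.mem_zeroLocus]⟩
      rwa [Module.support_eq_zeroLocus, PrimeSpectrum.mem_zeroLocus] at this
    have h4 : (PrimeSpectrum.comap (algebraMap B (Localization.AtPrime Q)) 𝔮).asIdeal ≤ Q := by
      intro x hx
      rw [PrimeSpectrum.comap_asIdeal, Ideal.mem_comap] at hx
      exact (IsLocalization.AtPrime.to_map_mem_maximal_iff (Localization.AtPrime Q) Q x).mp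
        (IsLocalRing.le_maximalIdeal 𝔮.2.ne_top hx)
    have h5 : Q ≤ (PrimeSpectrum.comap (algebraMap B (Localization.AtPrime Q)) 𝔮).asIdeal :=
      hQmin.2 ⟨(PrimeSpectrum.comap (algebraMap B (Localization.AtPrime Q)) 𝔮).2, h3⟩ h4
    apply PrimeSpectrum.ext
    change 𝔮.asIdeal = IsLocalRing.maximalIdeal (Localization.AtPrime Q)
    apply le_antisymm (IsLocalRing.le_maximalIdeal 𝔮.2.ne_top)
    rw [← IsLocalization.AtPrime.map_eq_maximalIdeal Q (Localization.AtPrime Q),
      Ideal.map_le_iff_le_comap]
    exact h5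
  have hne : (Module.support (Localization.AtPrime Q) (EGA4.FibLocMod A B Q F)).Nonempty := by
    rw [Set.nonempty_iff_ne_empty, Ne, Module.support_eq_empty_iff]
    exact not_subsingleton _
  have hdim : Module.supportDim (Localization.AtPrime Q) (EGA4.FibLocMod A B Q F) = 0 := by
    obtain ⟨x, hx⟩ := hne
    haveI : Unique (Module.support (Localization.AtPrime Q) (EGA4.FibLocMod A B Q F)) :=
      ⟨⟨⟨x, hx⟩⟩, fun y => Subtype.ext ((hsub y.1 y.2).trans (hsub x hx).symm)⟩
    exact Order.krullDim_eq_zero_of_unique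
  refine ⟨hdim, ?_⟩
  have hle := depth_le_supportDim (R := Localization.AtPrime Q) (M := EGA4.FibLocMod A B Q F)
  rw [hdim] at hle
  have : (LocCoh.depth (Localization.AtPrime Q) (EGA4.FibLocMod A B Q F) : WithBot ℕ∞) ≤
      ((0 : ℕ∞) : WithBot ℕ∞) := hle
  exact le_antisymm (WithBot.coe_le_coe.mp this) (zero_le)

end GoingDown

end Groth.Agent.Lib.R2H2.FbcMod
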