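import Mathlib
import Groth.Agent.Lib.Helper5FBC
import Groth.Agent.Lib.R2H2FbcMod
import Groth.Agent.Lib.Helper5CodepthOpen
import Groth.Agent.Lib.H9QGor711
import Groth.Agent.Lib.Helper5FiberBC
import Groth.Agent.Lib.Helper5RelCMOpen
import Groth.Agent.Lib.Helper3FlatModelMod
import Groth.Agent.Lib.Helper5FibCodepthConstr

/-! Fibre modules of a flat finitely presented module: depth/dimension of the fibre module M_q/pM_q over the fibre local ring (fdep, fdm, CodLE), invariance under base change (pushout to a field, fdep_fdm_baseChange, codLE_baseChange), generization along curves, Nagata criterion, and openness of the fibre codepth locus for finitely presented algebras and flat finitely presented modules (isOpen_codLE): algebraic form of EGA IV 12.1.1 (vi) for modules (helper9). -/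

set_option autoImplicit false
set_option linter.style.haveILetI false
set_option linter.unusedSimpArgs false
set_option linter.unusedVariables false
universe u

namespace Groth.Agent.Lib.H9ModFibAlg

-- ===== part MFA =====
section

open Groth.Agent.Lib.Helper28 Groth.Agent.Lib.Helper5 Groth.Agent.Lib.Helper5.GenDepth TensorProduct

/-- depth and dimension are transported along semilinear isomorphisms. -/
theorem depth_supportDim_semilinear {R R' : Type u} [CommRing R] [CommRing R'] [IsLocalRing R]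
    [IsLocalRing R'] [IsNoetherianRing R] [IsNoetherianRing R'] (σ : R ≃+* R')
    {N N' : Type u} [AddCommGroup N] [Module R N] [Module.Finite R N] [AddCommGroup N']
    [Module R' N'] (g : N ≃+ N') (hg : ∀ (r : R) (n : N), g (r • n) = σ r • g n) :
    LocCoh.depth R N = LocCoh.depth R' N' ∧ Module.supportDim R N = Module.supportDim R' N' := by
  letI : Algebra R R' := (σ : R →+* R').toAlgebra
  haveI : IsLocalHom (algebraMap R R') := by
    change IsLocalHom (σ : R →+* R')
    infer_instance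
  letI : Module R N' := Module.compHom N' (σ : R →+* R')
  haveI : IsScalarTower R R' N' := ⟨fun r r' n => by
    change (σ r * r') • n = σ r • (r' • n)
    rw [mul_smul]⟩
  let gL : N ≃ₗ[R] N' :=
    { g with
      map_smul' := fun r n => by
        change g (r • n) = σ r • g n
        exact hg r n }
  haveI : Module.Finite R N' := Module.Finite.equiv gL
  constructor
  · rw [← depth_eq_depth_of_isLocalHom_of_finite (A := R) (B := R') (M := N')]
    exact idealDepth_congr gL _
  · rw [← supportDim_eq_supportDim_of_finite R R' N']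
    exact Module.supportDim_eq_of_equiv gL

section Hub

variable {B : Type u} [CommRing B] (M : Type u) [AddCommGroup M] [Module B M] [Module.Finite B M]

/-- the pair (depth, dimension) of `R ⊗[B] M` only depends on the `B`-algebra `R` up to
isomorphism. -/
theorem hub_congr {R R' : Type u} [CommRing R] [CommRing R'] [Algebra B R] [Algebra B R']
    [IsLocalRing R] [IsLocalRing R'] [IsNoetherianRing R] [IsNoetherianRing R']
    (e : R ≃ₐ[B] R') :
    LocCoh.depth R (R ⊗[B] M) = LocCoh.depth R' (R' ⊗[B] M) ∧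
      Module.supportDim R (R ⊗[B] M) = Module.supportDim R' (R' ⊗[B] M) := by
  let g : R ⊗[B] M ≃ₗ[B] R' ⊗[B] M :=
    TensorProduct.congr e.toLinearEquiv (LinearEquiv.refl B M)
  refine depth_supportDim_semilinear e.toRingEquiv g.toAddEquiv ?_
  intro r t
  change g (r • t) = e r • g t
  induction t using TensorProduct.induction_on with
  | zero => simp
  | tmul a m =>
    rw [TensorProduct.smul_tmul', smul_eq_mul]
    simp only [g, TensorProduct.congr_tmul, AlgEquiv.toLinearEquiv_apply, map_mul,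
      LinearEquiv.refl_apply]
    rw [TensorProduct.smul_tmul', smul_eq_mul]
  | add x y hx hy => rw [smul_add, map_add, map_add, smul_add, hx, hy]

/-- for `R = C_Q` the pair is the pair of the localization of `C ⊗[B] M` at `Q`. -/
theorem hub_localization {C R : Type u} [CommRing C] [CommRing R] [Algebra B C] [Algebra B R]
    [Algebra C R] [IsScalarTower B C R] [IsNoetherianRing C] (Q : Ideal C) [Q.IsPrime]
    [IsLocalization.AtPrime R Q] [IsLocalRing R] :
    LocCoh.depth R (R ⊗[B] M) = dep Q (C ⊗[B] M) ∧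
      Module.supportDim R (R ⊗[B] M) = dm Q (C ⊗[B] M) := by
  haveI : IsLocalizedModule Q.primeCompl (Algebra.linearMap C R) := inferInstance
  exact FinDimDepth.transport_aux Q (C ⊗[B] M) R (R ⊗[B] M)
    (AlgebraTensorModule.rTensor B M (Algebra.linearMap C R))

end Hub

section FibLoc

variable {A B : Type u} [CommRing A] [CommRing B] [Algebra A B] [IsNoetherianRing B]
  (M : Type u) [AddCommGroup M] [Module B M] [Module.Finite B M]

/-- the fibre module `M_q/pM_q` over `B_q` has the same depth and dimension as `R ⊗[B] M` over the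
fibre local ring `R = B_q/pB_q`. -/
theorem fibLocMod_eq_hub (q : Ideal B) [q.IsPrime] [IsLocalRing (EGA4.FibLocRing A B q)] :
    LocCoh.depth (Localization.AtPrime q) (EGA4.FibLocMod A B q M) =
        LocCoh.depth (EGA4.FibLocRing A B q) (EGA4.FibLocRing A B q ⊗[B] M) ∧
      Module.supportDim (Localization.AtPrime q) (EGA4.FibLocMod A B q M) =
        Module.supportDim (EGA4.FibLocRing A B q) (EGA4.FibLocRing A B q ⊗[B] M) := by
  set S := Localization.AtPrime q with hS
  set I : Ideal S := (q.comap (algebraMap A B)).map (algebraMap A S) with hI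
  haveI : IsNoetherianRing S := IsLocalization.isNoetherianRing q.primeCompl _ inferInstance
  haveI : IsLocalHom (algebraMap S (S ⧸ I)) :=
    IsLocalHom.of_surjective _ Ideal.Quotient.mk_surjective
  let e1 : (S ⧸ I) ⊗[S] (LocalizedModule q.primeCompl M) ≃ₗ[S]
      (LocalizedModule q.primeCompl M) ⧸ (I • (⊤ : Submodule S (LocalizedModule q.primeCompl M))) :=
    TensorProduct.quotTensorEquivQuotSMul (LocalizedModule q.primeCompl M) I
  let e2 : S ⊗[B] M ≃ₗ[S] LocalizedModule q.primeCompl M :=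
    (IsLocalizedModule.isBaseChange q.primeCompl S
      (LocalizedModule.mkLinearMap q.primeCompl M)).equiv
  let e3 : (S ⧸ I) ⊗[S] (S ⊗[B] M) ≃ₗ[S ⧸ I] (S ⧸ I) ⊗[B] M :=
    TensorProduct.AlgebraTensorModule.cancelBaseChange B S (S ⧸ I) (S ⧸ I) M
  let e4 : (S ⧸ I) ⊗[S] (S ⊗[B] M) ≃ₗ[S ⧸ I] (S ⧸ I) ⊗[S] (LocalizedModule q.primeCompl M) :=
    TensorProduct.AlgebraTensorModule.congr (LinearEquiv.refl (S ⧸ I) (S ⧸ I)) e2
  let E : (S ⧸ I) ⊗[B] M ≃ₗ[S] EGA4.FibLocMod A B q M :=
    (e3.symm.restrictScalars S) ≪≫ₗ (e4.restrictScalars S) ≪≫ₗ e1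
  haveI : Module.Finite S ((S ⧸ I) ⊗[B] M) := by
    haveI : Module.Finite (S ⧸ I) ((S ⧸ I) ⊗[B] M) := inferInstance
    exact Module.Finite.trans (S ⧸ I) _
  constructor
  · rw [← depth_eq_depth_of_isLocalHom_of_finite (A := S) (B := S ⧸ I) (M := (S ⧸ I) ⊗[B] M)]
    exact (idealDepth_congr E _).symm
  · rw [← supportDim_eq_supportDim_of_finite S (S ⧸ I) ((S ⧸ I) ⊗[B] M)]
    exact (Module.supportDim_eq_of_equiv E).symm

end FibLoc

end

-- ===== part MFB =====
section

open Groth.Agent.Lib.Helper28 Groth.Agent.Lib.Helper5 Groth.Agent.Lib.Helper5.GenDepth TensorProduct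

section CMFib

/-- the fibre local rings of `Φ → T = Φ ⊗[κ] L` (abstract pushout along a field extension) are
Cohen–Macaulay. -/
theorem cm_fibLocRing_of_pushout (κ L Φ T : Type u) [Field κ] [Field L] [CommRing Φ] [CommRing T]
    [Algebra κ L] [Algebra κ Φ] [Algebra κ T] [Algebra L T] [Algebra Φ T]
    [IsScalarTower κ L T] [IsScalarTower κ Φ T] [Algebra.IsPushout κ L Φ T]
    [Algebra.EssFiniteType κ Φ] [IsNoetherianRing Φ] [IsNoetherianRing T]
    (𝔔 : Ideal T) [𝔔.IsPrime] :
    LocCoh.IsCohenMacaulayLocalRing (EGA4.FibLocRing Φ T 𝔔) := by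
  refine (forall_isCohenMacaulayRing_fiber_iff (A := Φ) (B := T)).mp ?_ 𝔔
  intro P hP
  haveI : Algebra.EssFiniteType κ P.ResidueField :=
    Algebra.EssFiniteType.comp κ Φ P.ResidueField
  haveI hcm : LocCoh.IsCohenMacaulayRing (L ⊗[κ] P.ResidueField) :=
    TensorFieldsCM.cm_tensor_right κ L P.ResidueField
  let e1 : T ⊗[Φ] P.ResidueField ≃ₐ[L] L ⊗[κ] P.ResidueField :=
    Algebra.IsPushout.cancelBaseChangeAlg κ L Φ T P.ResidueField
  let e2 : P.ResidueField ⊗[Φ] T ≃ₐ[Φ] T ⊗[Φ] P.ResidueField :=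
    Algebra.TensorProduct.comm Φ P.ResidueField T
  exact isCohenMacaulayRing_of_ringEquiv (e2.toRingEquiv.trans e1.toRingEquiv).symm

end CMFib

section Pushout

set_option synthInstance.maxHeartbeats 400000 in
set_option maxHeartbeats 3200000 in
/-- Key lemma: for a pushout `T = L ⊗[A] B` with `L` a field, the depth and dimension of
`(T ⊗[B] M)_𝔔` are those of the fibre module of `M` at `q = 𝔔 ∩ B`, up to a common shift. -/
theorem pushout_dep_dm
    {A B : Type u} (L : Type u) {T : Type u} [CommRing A] [CommRing B] [Field L] [CommRing T]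
    [Algebra A B] [Algebra A L] [Algebra A T] [Algebra B T] [Algebra L T]
    [IsScalarTower A B T] [IsScalarTower A L T] [Algebra.IsPushout A L B T]
    [Algebra.FiniteType A B]
    (M : Type u) [AddCommGroup M] [Module B M] [Module.Finite B M]
    [IsNoetherianRing T] (𝔔 : Ideal T) [𝔔.IsPrime]
    (q : Ideal B) [q.IsPrime] (hq : q = 𝔔.comap (algebraMap B T))
    [IsLocalRing (EGA4.FibLocRing A B q)] :
    IsNoetherianRing (EGA4.FibLocRing A B q) ∧ ∃ c : ℕ,
      dep 𝔔 (T ⊗[B] M) =
        LocCoh.depth (EGA4.FibLocRing A B q) (EGA4.FibLocRing A B q ⊗[B] M) + c ∧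
      dm 𝔔 (T ⊗[B] M) =
        Module.supportDim (EGA4.FibLocRing A B q) (EGA4.FibLocRing A B q ⊗[B] M) + c := by
  subst hq
  let p : Ideal A := RingHom.ker (algebraMap A L)
  have hp : p.IsPrime := RingHom.ker_isPrime _
  let φ : p.ResidueField →+* L := Ideal.ResidueField.lift p (algebraMap A L) le_rfl (by
    intro a ha
    simp only [Submonoid.mem_comap, IsUnit.mem_submonoid_iff]
    exact IsUnit.mk0 _ (fun h => ha (RingHom.mem_ker.mpr h)))
  let _ : Algebra p.ResidueField L := φ.toAlgebra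
  have : IsScalarTower A p.ResidueField L := .of_algebraMap_eq fun a => by
    rw [RingHom.algebraMap_toAlgebra]
    exact (Ideal.ResidueField.lift_algebraMap ..).symm
  let _ : Algebra p.ResidueField T := ((algebraMap L T).comp φ).toAlgebra
  have : IsScalarTower p.ResidueField L T := .of_algebraMap_eq' rfl
  have : IsScalarTower A p.ResidueField T := .of_algebraMap_eq fun a => by
    rw [IsScalarTower.algebraMap_apply A L T, IsScalarTower.algebraMap_apply A p.ResidueField L,
      ← IsScalarTower.algebraMap_apply p.ResidueField L T]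
  letI : Algebra B (p.Fiber B) := Algebra.TensorProduct.rightAlgebra
  let ψ : p.Fiber B →ₐ[A] T := Algebra.TensorProduct.lift
    (IsScalarTower.toAlgHom A p.ResidueField T) (IsScalarTower.toAlgHom A B T)
    (fun _ _ => .all _ _)
  let _ : Algebra (p.Fiber B) T := ψ.toRingHom.toAlgebra
  have hκ : @IsScalarTower p.ResidueField (p.Fiber B) T Algebra.toSMul Algebra.toSMul
      Algebra.toSMul := .of_algebraMap_eq fun x => by
    simp [RingHom.algebraMap_toAlgebra, ψ, Algebra.TensorProduct.algebraMap_apply]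
  have : IsScalarTower p.ResidueField (p.Fiber B) T := hκ
  have : IsScalarTower B (p.Fiber B) T := .of_algebraMap_eq fun x => by
    simp [RingHom.algebraMap_toAlgebra, ψ, Algebra.TensorProduct.algebraMap_apply]
  have : IsScalarTower A (p.Fiber B) T := .of_algebraMap_eq fun a => (ψ.commutes a).symm
  have hpush : Algebra.IsPushout p.ResidueField L (p.Fiber B) T :=
    (Algebra.IsPushout.comp_iff A p.ResidueField B (p.Fiber B)).mp inferInstance
  haveI : Algebra.FiniteType p.ResidueField (p.Fiber B) := inferInstance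
  haveI hNΦ : IsNoetherianRing (p.Fiber B) :=
    Algebra.FiniteType.isNoetherianRing p.ResidueField (p.Fiber B)
  haveI hflat : Module.Flat (p.Fiber B) T :=
    Module.Flat.isBaseChange (R := p.ResidueField) (S := p.Fiber B) (M := L) T hpush.symm.out
  set Q : Ideal (p.Fiber B) := 𝔔.comap (algebraMap (p.Fiber B) T) with hQ
  haveI hlocF : IsLocalRing (EGA4.FibLocRing (p.Fiber B) T 𝔔) :=
    isLocalRing_fibLocRing (A := p.Fiber B) 𝔔
  have hr : 𝔔.comap (algebraMap B T) =
      Q.comap (Algebra.TensorProduct.includeRight : B →ₐ[A] p.Fiber B) := by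
    rw [hQ]
    ext b
    simp only [Ideal.mem_comap]
    have : algebraMap (p.Fiber B) T ((Algebra.TensorProduct.includeRight : B →ₐ[A] p.Fiber B) b) =
        algebraMap B T b := by
      rw [IsScalarTower.algebraMap_apply B (p.Fiber B) T]
      rfl
    rw [this]
  obtain ⟨e, he⟩ := Groth.Agent.Lib.H9QGor711.exists_localization_fiber_equiv_compat p Q
    (𝔔.comap (algebraMap B T)) hr
  haveI hNQ : IsNoetherianRing (Localization.AtPrime Q) :=
    IsLocalization.isNoetherianRing Q.primeCompl _ inferInstance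
  haveI hNR : IsNoetherianRing (EGA4.FibLocRing A B (𝔔.comap (algebraMap B T))) :=
    isNoetherianRing_of_ringEquiv _ e
  refine ⟨hNR, ?_⟩
  -- the `B`-algebra structure on the localization of the fibre ring
  let eAlg : Localization.AtPrime Q ≃ₐ[B] EGA4.FibLocRing A B (𝔔.comap (algebraMap B T)) :=
    AlgEquiv.ofRingEquiv (f := e) (fun b => by
      rw [IsScalarTower.algebraMap_apply B (p.Fiber B) (Localization.AtPrime Q)]
      exact he b)
  obtain ⟨h1, h2⟩ := hub_congr M (R := Localization.AtPrime Q)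
    (R' := EGA4.FibLocRing A B (𝔔.comap (algebraMap B T))) eAlg
  obtain ⟨h3, h4⟩ := hub_localization (B := B) M (C := p.Fiber B)
    (R := Localization.AtPrime Q) Q
  -- flat base change along the field extension
  obtain ⟨h5, h6⟩ := FBC.fbc (R := p.Fiber B) (S := T) 𝔔 Q hQ ((p.Fiber B) ⊗[B] M)
  let e5 : T ⊗[p.Fiber B] ((p.Fiber B) ⊗[B] M) ≃ₗ[T] T ⊗[B] M :=
    TensorProduct.AlgebraTensorModule.cancelBaseChange B (p.Fiber B) T T M
  obtain ⟨h7, h8⟩ := dep_dm_congr 𝔔 e5
  -- the fibre ring is Cohen–Macaulay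
  haveI : Algebra.EssFiniteType p.ResidueField (p.Fiber B) := inferInstance
  have hcm := cm_fibLocRing_of_pushout p.ResidueField L (p.Fiber B) T 𝔔
  haveI hNF : IsNoetherianRing (EGA4.FibLocRing (p.Fiber B) T 𝔔) := hcm.toIsNoetherian
  have hcm' := (isCohenMacaulayLocalRing_iff _).mp hcm
  obtain ⟨c, hc⟩ := ENat.ne_top_iff_exists.mp
    (Ideal.height_ne_top_of_isPrime
      (I := IsLocalRing.maximalIdeal (EGA4.FibLocRing (p.Fiber B) T 𝔔)))
  refine ⟨c, ?_, ?_⟩
  · rw [← h7, h5, ← h3, h1, ← hcm', ← hc]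
  · rw [← h8, h6, ← h4, h2, ← IsLocalRing.maximalIdeal_height_eq_ringKrullDim, ← hc]
    rfl

end Pushout

end

-- ===== part MFC =====
section

open Groth.Agent.Lib.Helper28 Groth.Agent.Lib.Helper5 Groth.Agent.Lib.Helper5.GenDepth TensorProduct

section Defs

variable (A : Type u) {B : Type u} [CommRing A] [CommRing B] [Algebra A B]
  (M : Type u) [AddCommGroup M] [Module B M]

/-- depth of the fibre module of `M` at `q`, over the fibre local ring. -/
noncomputable def fdep (q : Ideal B) [q.IsPrime] : ℕ∞ :=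
  haveI := isLocalRing_fibLocRing (A := A) q
  LocCoh.depth (EGA4.FibLocRing A B q) (EGA4.FibLocRing A B q ⊗[B] M)

/-- dimension of the fibre module of `M` at `q`, over the fibre local ring. -/
noncomputable def fdm (q : Ideal B) [q.IsPrime] : WithBot ℕ∞ :=
  Module.supportDim (EGA4.FibLocRing A B q) (EGA4.FibLocRing A B q ⊗[B] M)

theorem fdep_def (q : Ideal B) [q.IsPrime] [IsLocalRing (EGA4.FibLocRing A B q)] :
    fdep A M q = LocCoh.depth (EGA4.FibLocRing A B q) (EGA4.FibLocRing A B q ⊗[B] M) := rfl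

end Defs

section Arith

theorem add_natCast_le_iff (y : WithBot ℕ∞) (x : ℕ∞) (c k : ℕ) :
    y + (c : WithBot ℕ∞) ≤ ((x + c : ℕ∞) : WithBot ℕ∞) + k ↔ y ≤ ((x : ℕ∞) : WithBot ℕ∞) + k := by
  induction y using WithBot.recBotCoe with
  | bot => simp
  | coe y =>
    have h1 : ((y : ℕ∞) : WithBot ℕ∞) + (c : WithBot ℕ∞) = ((y + c : ℕ∞) : WithBot ℕ∞) := rfl
    have h2 : ((x + c : ℕ∞) : WithBot ℕ∞) + (k : WithBot ℕ∞) = ((x + c + k : ℕ∞) : WithBot ℕ∞) := rfl
    have h3 : ((x : ℕ∞) : WithBot ℕ∞) + (k : WithBot ℕ∞) = ((x + k : ℕ∞) : WithBot ℕ∞) := rfl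
    rw [h1, h2, h3, WithBot.coe_le_coe, WithBot.coe_le_coe]
    rw [show x + (c : ℕ∞) + k = x + k + c by ring]
    exact ENat.add_le_add_iff_right (ENat.coe_ne_top c)

theorem codepth_iff_of_shift {y y' : WithBot ℕ∞} {x x' : ℕ∞} {c c' : ℕ} (k : ℕ)
    (hx : x' + c' = x + c) (hy : y' + (c' : WithBot ℕ∞) = y + (c : WithBot ℕ∞)) :
    y' ≤ ((x' : ℕ∞) : WithBot ℕ∞) + k ↔ y ≤ ((x : ℕ∞) : WithBot ℕ∞) + k := by
  rw [← add_natCast_le_iff y' x' c' k, ← add_natCast_le_iff y x c k, hx, hy]

end Arith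

section BaseChange

attribute [local instance] Algebra.TensorProduct.rightAlgebra

set_option synthInstance.maxHeartbeats 400000 in
set_option maxHeartbeats 3200000 in
/-- **Base change invariance** of the depth and dimension of fibre modules, up to a common
shift. -/
theorem fdep_fdm_baseChange
    {A B A' B' : Type u} [CommRing A] [CommRing B] [CommRing A'] [CommRing B']
    [Algebra A B] [Algebra A A'] [Algebra B B'] [Algebra A' B'] [Algebra A B']
    [IsScalarTower A B B'] [IsScalarTower A A' B'] [Algebra.IsPushout A B A' B']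
    [Algebra.FiniteType A B]
    (M : Type u) [AddCommGroup M] [Module B M] [Module.Finite B M]
    (M' : Type u) [AddCommGroup M'] [Module B' M'] [Module B M'] [IsScalarTower B B' M']
    (f : M →ₗ[B] M') (hf : IsBaseChange B' f)
    (q' : Ideal B') [q'.IsPrime] (q : Ideal B) [q.IsPrime] (hq : q = q'.comap (algebraMap B B')) :
    ∃ c c' : ℕ, fdep A' M' q' + c' = fdep A M q + c ∧
      fdm A' M' q' + (c' : WithBot ℕ∞) = fdm A M q + (c : WithBot ℕ∞) := by
  set p' : Ideal A' := q'.comap (algebraMap A' B') with hp'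
  obtain ⟨𝔔, h𝔔prime, hq𝔔⟩ := exists_prime_fiber_comap_eq (A := A') q'
  have hpo1 : Algebra.IsPushout A A' B B' := Algebra.IsPushout.symm inferInstance
  haveI : Algebra.FiniteType A' B' :=
    Algebra.FiniteType.equiv (inferInstanceAs (Algebra.FiniteType A' (A' ⊗[A] B)))
      (Algebra.IsPushout.equiv A A' B B')
  haveI : Algebra.FiniteType p'.ResidueField (p'.Fiber B') := inferInstance
  haveI hNT : IsNoetherianRing (p'.Fiber B') :=
    Algebra.FiniteType.isNoetherianRing p'.ResidueField (p'.Fiber B')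
  let _ : Algebra B (p'.Fiber B') :=
    ((algebraMap B' (p'.Fiber B')).comp (algebraMap B B')).toAlgebra
  have : IsScalarTower B B' (p'.Fiber B') := .of_algebraMap_eq' rfl
  have hAT : IsScalarTower A A' (p'.Fiber B') := inferInstance
  have : IsScalarTower A B (p'.Fiber B') := .of_algebraMap_eq fun a => by
    rw [IsScalarTower.algebraMap_apply B B' (p'.Fiber B'),
      ← IsScalarTower.algebraMap_apply A B B', IsScalarTower.algebraMap_apply A A' B',
      ← IsScalarTower.algebraMap_apply A' B' (p'.Fiber B'),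
      ← IsScalarTower.algebraMap_apply A A' (p'.Fiber B')]
  have : IsScalarTower A B' (p'.Fiber B') := .of_algebraMap_eq fun a => by
    rw [IsScalarTower.algebraMap_apply A A' B',
      ← IsScalarTower.algebraMap_apply A' B' (p'.Fiber B'),
      ← IsScalarTower.algebraMap_apply A A' (p'.Fiber B')]
  have hpo2 : Algebra.IsPushout A' p'.ResidueField B' (p'.Fiber B') := inferInstance
  have hpo : Algebra.IsPushout A p'.ResidueField B (p'.Fiber B') :=
    (Algebra.IsPushout.comp_iff A A' B B').mpr hpo2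
  have hq1 : q' = 𝔔.comap (algebraMap B' (p'.Fiber B')) := hq𝔔
  have hq2 : q = 𝔔.comap (algebraMap B (p'.Fiber B')) := by
    rw [hq]
    ext b
    rw [Ideal.mem_comap, Ideal.mem_comap]
    exact (Ideal.ext_iff.mp hq𝔔 (algebraMap B B' b))
  haveI : Module.Finite B' M' := Module.Finite.equiv hf.equiv
  haveI := isLocalRing_fibLocRing (A := A') q'
  haveI := isLocalRing_fibLocRing (A := A) q
  obtain ⟨-, c', h1, h2⟩ := pushout_dep_dm (A := A') (B := B') p'.ResidueField
    (T := p'.Fiber B') M' 𝔔 q' hq1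
  obtain ⟨-, c, h3, h4⟩ := pushout_dep_dm (A := A) (B := B) p'.ResidueField
    (T := p'.Fiber B') M 𝔔 q hq2
  -- the two modules over `T` agree
  let e1 : (p'.Fiber B') ⊗[B'] M' ≃ₗ[p'.Fiber B'] (p'.Fiber B') ⊗[B'] (B' ⊗[B] M) :=
    TensorProduct.AlgebraTensorModule.congr
      (LinearEquiv.refl (p'.Fiber B') (p'.Fiber B')) hf.equiv.symm
  let e2 : (p'.Fiber B') ⊗[B'] (B' ⊗[B] M) ≃ₗ[p'.Fiber B'] (p'.Fiber B') ⊗[B] M :=
    TensorProduct.AlgebraTensorModule.cancelBaseChange B B' (p'.Fiber B') (p'.Fiber B') M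
  obtain ⟨h5, h6⟩ := dep_dm_congr 𝔔 (e1 ≪≫ₗ e2)
  refine ⟨c, c', ?_, ?_⟩
  · rw [fdep_def, fdep_def, ← h1, ← h3, h5]
  · unfold fdm
    rw [← h2, ← h4, h6]

end BaseChange

end

-- ===== part MFD =====
section

open Groth.Agent.Lib.Helper28 Groth.Agent.Lib.Helper5 Groth.Agent.Lib.Helper5.GenDepth TensorProduct
open Groth.Agent.Lib.Helper5.CodepthOpen Groth.Agent.Lib.Helper5.RelCMOpen

/-- the fibre module of `M` at `q` has codepth at most `k`. -/
def CodLE (k : ℕ) (A : Type u) {B : Type u} [CommRing A] [CommRing B] [Algebra A B]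
    (M : Type u) [AddCommGroup M] [Module B M] (q : Ideal B) [q.IsPrime] : Prop :=
  fdm A M q ≤ ((fdep A M q : ℕ∞) : WithBot ℕ∞) + k

/-- base change invariance of the fibre codepth. -/
theorem codLE_baseChange (k : ℕ)
    {A B A' B' : Type u} [CommRing A] [CommRing B] [CommRing A'] [CommRing B']
    [Algebra A B] [Algebra A A'] [Algebra B B'] [Algebra A' B'] [Algebra A B']
    [IsScalarTower A B B'] [IsScalarTower A A' B'] [Algebra.IsPushout A B A' B']
    [Algebra.FiniteType A B]
    (M : Type u) [AddCommGroup M] [Module B M] [Module.Finite B M]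
    (M' : Type u) [AddCommGroup M'] [Module B' M'] [Module B M'] [IsScalarTower B B' M']
    (f : M →ₗ[B] M') (hf : IsBaseChange B' f)
    (q' : Ideal B') [q'.IsPrime] (q : Ideal B) [q.IsPrime] (hq : q = q'.comap (algebraMap B B')) :
    CodLE k A' M' q' ↔ CodLE k A M q := by
  obtain ⟨c, c', h1, h2⟩ := fdep_fdm_baseChange (A := A) (A' := A') M M' f hf q' q hq
  exact codepth_iff_of_shift k h1 h2

section Noeth

variable {A B : Type u} [CommRing A] [CommRing B] [Algebra A B] [IsNoetherianRing A]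
  [IsNoetherianRing B] (M : Type u) [AddCommGroup M] [Module B M] [Module A M]
  [IsScalarTower A B M] [Module.Finite B M] [Module.Flat A M]

/-- depth and dimension of `(M ⊗[A] X)_Q` in terms of the base and the fibre. -/
theorem fiber_shift (Q : Ideal B) [Q.IsPrime] (X : Type u) [AddCommGroup X] [Module A X]
    [Module.Finite A X] :
    dep Q (M ⊗[A] X) = dep (Q.comap (algebraMap A B)) X + fdep A M Q ∧
      dm Q (M ⊗[A] X) = dm (Q.comap (algebraMap A B)) X + fdm A M Q := by
  haveI := isLocalRing_fibLocRing (A := A) Q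
  obtain ⟨h1, h2⟩ := Groth.Agent.Lib.R2H2.FbcMod.fbcMod (R := A) (S := B) M Q X
  obtain ⟨h3, h4⟩ := fibLocMod_eq_hub (A := A) M Q
  rw [h3] at h1
  rw [h4] at h2
  exact ⟨h1, h2⟩

/-- if `X` is Cohen–Macaulay at `Q ∩ A` (and nonzero there), the codepth of `(M ⊗[A] X)_Q` is the
codepth of the fibre. -/
theorem codLE_iff_of_cm (k : ℕ) (Q : Ideal B) [Q.IsPrime] (X : Type u) [AddCommGroup X]
    [Module A X] [Module.Finite A X]
    (hsupp : (⟨Q.comap (algebraMap A B), inferInstance⟩ : PrimeSpectrum A) ∈ Module.support A X)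
    (hcm : dm (Q.comap (algebraMap A B)) X =
      ((dep (Q.comap (algebraMap A B)) X : ℕ∞) : WithBot ℕ∞)) :
    dm Q (M ⊗[A] X) ≤ ((dep Q (M ⊗[A] X) : ℕ∞) : WithBot ℕ∞) + k ↔ CodLE k A M Q := by
  obtain ⟨h1, h2⟩ := fiber_shift (A := A) M Q X
  obtain ⟨c, hc⟩ := ENat.ne_top_iff_exists.mp (dep_ne_top (Q.comap (algebraMap A B)) X hsupp)
  rw [hcm, ← hc] at h2
  rw [← hc] at h1
  unfold CodLE
  rw [h1, h2, add_comm ((c : ℕ∞) : WithBot ℕ∞) (fdm A M Q), add_comm (c : ℕ∞) (fdep A M Q)]
  exact add_natCast_le_iff (fdm A M Q) (fdep A M Q) c k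

end Noeth

section Curve

set_option synthInstance.maxHeartbeats 400000 in
set_option maxHeartbeats 3200000 in
/-- generization along a section over a Cohen–Macaulay local domain. -/
theorem codLE_of_section (k : ℕ)
    {A C D E : Type u} [CommRing A] [CommRing C] [CommRing D] [CommRing E]
    [Algebra A C] [Algebra A D] [Algebra C E] [Algebra D E] [Algebra A E]
    [IsScalarTower A C E] [IsScalarTower A D E] [Algebra.IsPushout A C D E]
    [Algebra.FiniteType A C] [IsDomain D] [IsLocalRing D]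
    [hCM : LocCoh.IsCohenMacaulayRing D]
    (M : Type u) [AddCommGroup M] [Module C M] [Module A M] [IsScalarTower A C M]
    [Module.Finite C M] [Module.Flat A M]
    (σ : E →+* D) (hσ : ∀ d, σ (algebraMap D E d) = d)
    (𝔮 Q' : Ideal C) [𝔮.IsPrime] [Q'.IsPrime]
    (h𝔮 : 𝔮 = (IsLocalRing.maximalIdeal D).comap (σ.comp (algebraMap C E)))
    (hQ' : Q' = RingHom.ker (σ.comp (algebraMap C E)))
    (h : CodLE k A M 𝔮) : CodLE k A M Q' := by
  have hpo : Algebra.IsPushout A D C E := Algebra.IsPushout.symm inferInstance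
  haveI : Algebra.FiniteType D E :=
    Algebra.FiniteType.equiv (inferInstanceAs (Algebra.FiniteType D (D ⊗[A] C)))
      (Algebra.IsPushout.equiv A D C E)
  haveI : IsNoetherianRing E := Algebra.FiniteType.isNoetherianRing D E
  let f : M →ₗ[C] E ⊗[C] M := TensorProduct.mk C E M 1
  have hf : IsBaseChange E f := TensorProduct.isBaseChange C M E
  -- the two points
  set 𝔔c : Ideal E := (IsLocalRing.maximalIdeal D).comap σ with h𝔔c
  set 𝔔η : Ideal E := (⊥ : Ideal D).comap σ with h𝔔η
  haveI : 𝔔c.IsPrime := Ideal.comap_isPrime σ _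
  haveI : 𝔔η.IsPrime := Ideal.comap_isPrime σ _
  have hle : 𝔔η ≤ 𝔔c := Ideal.comap_mono bot_le
  have h1 : 𝔮 = 𝔔c.comap (algebraMap C E) := by rw [h𝔮, h𝔔c, Ideal.comap_comap]
  have h2 : Q' = 𝔔η.comap (algebraMap C E) := by
    rw [hQ', h𝔔η, Ideal.comap_comap, RingHom.ker_eq_comap_bot]
  have hσid : σ.comp (algebraMap D E) = RingHom.id D := RingHom.ext hσ
  have h3 : 𝔔c.comap (algebraMap D E) = IsLocalRing.maximalIdeal D := by
    rw [h𝔔c, Ideal.comap_comap, hσid, Ideal.comap_id]
  have h4 : 𝔔η.comap (algebraMap D E) = ⊥ := by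
    rw [h𝔔η, Ideal.comap_comap, hσid, Ideal.comap_id]
  -- flatness of the base change
  haveI : Module.Flat D (E ⊗[C] M) :=
    Module.Flat.of_linearEquiv (Algebra.IsPushout.cancelBaseChange A D C E M)
  -- base change invariance
  have hbc1 := codLE_baseChange k (A := A) (B := C) (A' := D) (B' := E) M (E ⊗[C] M) f hf 𝔔c 𝔮 h1
  have hbc2 := codLE_baseChange k (A := A) (B := C) (A' := D) (B' := E) M (E ⊗[C] M) f hf 𝔔η Q' h2
  -- Cohen–Macaulay base
  have hcmD : ∀ (𝔞 : Ideal D) [𝔞.IsPrime], dm 𝔞 D = ((dep 𝔞 D : ℕ∞) : WithBot ℕ∞) := by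
    intro 𝔞 _
    obtain ⟨e1, e2⟩ := dep_dm_self 𝔞
    rw [e1, e2]
    exact (hCM.isCohenMacaulayLocalRing_localization 𝔞).supportDim_eq_depth
  have key : ∀ (𝔔 : Ideal E) [𝔔.IsPrime],
      dm 𝔔 (E ⊗[C] M) ≤ ((dep 𝔔 (E ⊗[C] M) : ℕ∞) : WithBot ℕ∞) + k ↔
        CodLE k D (E ⊗[C] M) 𝔔 := by
    intro 𝔔 _
    have hk := codLE_iff_of_cm (A := D) (B := E) (E ⊗[C] M) k 𝔔 D
      (mem_support_self _) (hcmD _)
    obtain ⟨e1, e2⟩ := dep_dm_congr 𝔔 (X := E ⊗[C] M) (Y := (E ⊗[C] M) ⊗[D] D)
      (TensorProduct.AlgebraTensorModule.rid D E (E ⊗[C] M)).symm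
    rw [← e1, ← e2] at hk
    exact hk
  have s1 := (key 𝔔c).mpr (hbc1.mpr h)
  have s2 := codepth_generization (E ⊗[C] M) k hle s1
  exact hbc2.mp ((key 𝔔η).mp s2)

end Curve

section Step

attribute [local instance] Algebra.TensorProduct.rightAlgebra

variable {A C : Type u} [CommRing A] [CommRing C] [Algebra A C] [IsNoetherianRing C]
  [Algebra.FiniteType A C]
  (M : Type u) [AddCommGroup M] [Module C M] [Module A M] [IsScalarTower A C M]
  [Module.Finite C M] [Module.Flat A M]

set_option synthInstance.maxHeartbeats 400000 in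
set_option maxHeartbeats 3200000 in
theorem codLE_step (k : ℕ) (Q' : Ideal C) [hQ' : Q'.IsPrime] (𝔭 : Ideal (C ⧸ Q')) [h𝔭 : 𝔭.IsPrime]
    (hht : 𝔭.height ≤ 1) (h₁ : CodLE k A M (𝔭.comap (Ideal.Quotient.mk Q'))) :
    CodLE k A M Q' := by
  haveI : IsDomain (C ⧸ Q') := Ideal.Quotient.isDomain Q'
  haveI : IsDomain (Localization.AtPrime 𝔭) :=
    IsLocalization.isDomain_localization
      (le_nonZeroDivisors_of_noZeroDivisors (fun h0 => h0 (zero_mem 𝔭)))
  haveI : IsNoetherianRing (Localization.AtPrime 𝔭) :=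
    IsLocalization.isNoetherianRing 𝔭.primeCompl _ inferInstance
  have hdim : ringKrullDim (Localization.AtPrime 𝔭) ≤ 1 := by
    rw [IsLocalization.AtPrime.ringKrullDim_eq_height 𝔭 (Localization.AtPrime 𝔭)]
    exact_mod_cast hht
  haveI hCM : LocCoh.IsCohenMacaulayRing (Localization.AtPrime 𝔭) :=
    isCohenMacaulayRing_of_isDomain_of_dim_le_one _ hdim
  haveI : IsScalarTower A C (Localization.AtPrime 𝔭) := .of_algebraMap_eq fun a => by
    rw [IsScalarTower.algebraMap_apply A (C ⧸ Q') (Localization.AtPrime 𝔭),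
      IsScalarTower.algebraMap_apply C (C ⧸ Q') (Localization.AtPrime 𝔭),
      IsScalarTower.algebraMap_apply A C (C ⧸ Q')]
  let σ : (Localization.AtPrime 𝔭) ⊗[A] C →ₐ[Localization.AtPrime 𝔭] Localization.AtPrime 𝔭 :=
    Algebra.TensorProduct.lift (Algebra.ofId _ _)
      (IsScalarTower.toAlgHom A C (Localization.AtPrime 𝔭)) (fun _ _ => .all _ _)
  have hσ : ∀ d, σ.toRingHom (algebraMap (Localization.AtPrime 𝔭)
      ((Localization.AtPrime 𝔭) ⊗[A] C) d) = d := fun d => σ.commutes d
  have hσC : σ.toRingHom.comp (algebraMap C ((Localization.AtPrime 𝔭) ⊗[A] C)) =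
      algebraMap C (Localization.AtPrime 𝔭) := by
    ext c
    simp [σ, RingHom.algebraMap_toAlgebra]
  refine codLE_of_section k (A := A) (C := C) (D := Localization.AtPrime 𝔭)
    (E := (Localization.AtPrime 𝔭) ⊗[A] C) M σ.toRingHom hσ
    (𝔭.comap (Ideal.Quotient.mk Q')) Q' ?_ ?_ h₁
  · rw [hσC, IsScalarTower.algebraMap_eq C (C ⧸ Q') (Localization.AtPrime 𝔭), ← Ideal.comap_comap]
    exact (congrArg (Ideal.comap (Ideal.Quotient.mk Q'))
      (IsLocalization.AtPrime.under_maximalIdeal (Localization.AtPrime 𝔭) 𝔭)).symm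
  · rw [hσC, IsScalarTower.algebraMap_eq C (C ⧸ Q') (Localization.AtPrime 𝔭),
      RingHom.ker_eq_comap_bot, ← Ideal.comap_comap, Ideal.comap_bot_of_injective _
      (IsLocalization.injective (M := 𝔭.primeCompl) (Localization.AtPrime 𝔭)
        (le_nonZeroDivisors_of_noZeroDivisors (fun h0 => h0 (zero_mem 𝔭)))),
      ← RingHom.ker_eq_comap_bot]
    exact (Ideal.mk_ker).symm

/-- the fibre codepth is stable under generization. -/
theorem codLE_generization (k : ℕ) (x : Ideal C) [hx' : x.IsPrime] (hx : CodLE k A M x) :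
    ∀ (I : Ideal C) [I.IsPrime], I ≤ x → CodLE k A M I := by
  intro I
  induction I using WellFoundedGT.induction with
  | ind I IH =>
    intro hI hle
    by_cases heq : I = x
    · subst heq
      exact hx
    · have hlt : I < x := lt_of_le_of_ne hle heq
      obtain ⟨p, hp, hht, hlt', hle'⟩ := exists_prime_height_le_one hlt
      haveI := hp
      have h₁ : CodLE k A M (p.comap (Ideal.Quotient.mk I)) :=
        IH _ hlt' hle'
      exact codLE_step M k I p hht h₁

end Step

section Open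

variable {A B : Type u} [CommRing A] [CommRing B] [Algebra A B] [IsNoetherianRing A]
  [IsNoetherianRing B] (M : Type u) [AddCommGroup M] [Module B M] [Module A M]
  [IsScalarTower A B M] [Module.Finite B M] [Module.Flat A M]

/-- Nagata's local condition for the fibre codepth locus. -/
theorem codLE_nhd (k : ℕ) (hA : CMU A) (hB : CMU B) (q : PrimeSpectrum B)
    (hq : CodLE k A M q.asIdeal) :
    ∃ U : Set (PrimeSpectrum B), IsOpen U ∧
      (U ∩ PrimeSpectrum.zeroLocus (q.asIdeal : Set B)).Nonempty ∧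
      U ∩ PrimeSpectrum.zeroLocus (q.asIdeal : Set B) ⊆
        {r : PrimeSpectrum B | CodLE k A M r.asIdeal} := by
  set p : Ideal A := q.asIdeal.comap (algebraMap A B) with hp
  obtain ⟨f, hfp, hf⟩ := hA p
  haveI : Module.Finite B (M ⊗[A] (A ⧸ p)) := TensorDim.finite_tensor A B (A ⧸ p) M
  have hU1 := isOpen_codepth_le hB (M ⊗[A] (A ⧸ p)) k
  have key : ∀ r : PrimeSpectrum B, q.asIdeal ≤ r.asIdeal → algebraMap A B f ∉ r.asIdeal →
      (dm r.asIdeal (M ⊗[A] (A ⧸ p)) ≤
        ((dep r.asIdeal (M ⊗[A] (A ⧸ p)) : ℕ∞) : WithBot ℕ∞) + k ↔ CodLE k A M r.asIdeal) := by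
    intro r hqr hfr
    have hpr : p ≤ r.asIdeal.comap (algebraMap A B) := Ideal.comap_mono hqr
    exact codLE_iff_of_cm (A := A) (B := B) M k r.asIdeal (A ⧸ p)
      (mem_support_quotient p _ hpr) (hf _ hpr hfr)
  have hfq : algebraMap A B f ∉ q.asIdeal := hfp
  refine ⟨{r : PrimeSpectrum B | dm r.asIdeal (M ⊗[A] (A ⧸ p)) ≤
      ((dep r.asIdeal (M ⊗[A] (A ⧸ p)) : ℕ∞) : WithBot ℕ∞) + k} ∩
      (PrimeSpectrum.basicOpen (algebraMap A B f) : Set (PrimeSpectrum B)),
    hU1.inter (PrimeSpectrum.basicOpen _).isOpen, ⟨q, ⟨?_, hfq⟩, ?_⟩, ?_⟩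
  · exact (key q le_rfl hfq).mpr hq
  · rw [PrimeSpectrum.mem_zeroLocus]
  · rintro r ⟨⟨hr1, hr2⟩, hrV⟩
    rw [PrimeSpectrum.mem_zeroLocus, SetLike.coe_subset_coe] at hrV
    exact (key r hrV hr2).mp hr1

/-- **Noetherian case**: the fibre codepth locus of a flat module is open. -/
theorem isOpen_codLE_noeth (k : ℕ) (hA : CMU A) (hB : CMU B) [Algebra.FiniteType A B] :
    IsOpen {r : PrimeSpectrum B | CodLE k A M r.asIdeal} := by
  apply Groth.Agent.Lib.Helper7.RegOpen.isOpen_of_nagata
  · intro x y hyx hx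
    have hle : y.asIdeal ≤ x.asIdeal := (PrimeSpectrum.le_iff_specializes y x).mpr hyx
    exact codLE_generization M k x.asIdeal hx y.asIdeal hle
  · intro q hq
    exact codLE_nhd M k hA hB q hq

end Open

end

-- ===== part MFE =====
section

open Groth.Agent.Lib.Helper28 Groth.Agent.Lib.Helper5 Groth.Agent.Lib.Helper5.GenDepth TensorProduct
open Groth.Agent.Lib.Helper5.CodepthOpen Groth.Agent.Lib.Helper5.FibCodepthConstr

set_option synthInstance.maxHeartbeats 400000 in
set_option maxHeartbeats 1600000 in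
/-- **EGA IV 12.1.1 (algebraic form)**: for `B` of finite presentation over `A` and `M` a finitely
presented `B`-module flat over `A`, the locus of primes where the fibre module has codepth `≤ k`
is open. -/
theorem isOpen_codLE (k : ℕ) {A B : Type u} [CommRing A] [CommRing B] [Algebra A B]
    [Algebra.FinitePresentation A B] (M : Type u) [AddCommGroup M] [Module B M] [Module A M]
    [IsScalarTower A B M] [Module.FinitePresentation B M] [Module.Flat A M] :
    IsOpen {r : PrimeSpectrum B | CodLE k A M r.asIdeal} := by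
  obtain ⟨A₀, i1, i2, B₀, i3, i4, i5, i6, i7, i8, M₀, i9, i10, i11, i12, i13, i14, f, h1, h2, h3,
    h4, h5, h6⟩ := Groth.Agent.Lib.Helper3.FlatModelMod.exists_flat_module_model A B M
  haveI := h2
  haveI := h3
  haveI := h4
  haveI : IsNoetherianRing A₀ := Algebra.FiniteType.isNoetherianRing ℤ A₀
  haveI : IsNoetherianRing B₀ := Algebra.FiniteType.isNoetherianRing A₀ B₀
  have hA₀ : CMU A₀ := cmu_of_finiteType_int A₀ h1
  have hB₀ : CMU B₀ := cmu_of_finiteType_int B₀ (Algebra.FiniteType.trans h1 h2)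
  have hopen := isOpen_codLE_noeth (A := A₀) (B := B₀) M₀ k hA₀ hB₀
  haveI hpo : Algebra.IsPushout A₀ B₀ A B := Algebra.IsPushout.symm h5
  have heq : {r : PrimeSpectrum B | CodLE k A M r.asIdeal} =
      PrimeSpectrum.comap (algebraMap B₀ B) ⁻¹'
        {r : PrimeSpectrum B₀ | CodLE k A₀ M₀ r.asIdeal} := by
    ext r
    exact codLE_baseChange k (A := A₀) (B := B₀) (A' := A) (B' := B) M₀ M f h6 r.asIdeal
      (r.asIdeal.comap (algebraMap B₀ B)) rfl
  rw [heq]
  exact hopen.preimage (PrimeSpectrum.continuous_comap (algebraMap B₀ B))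

end

end Groth.Agent.Lib.H9ModFibAlg
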