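/-
helper1 (round 2): a field extension K/k is the directed union of its k-subalgebras that are global
complete intersections over k (S9430).  Pres k S n c = presentation with n generators, c relations;
stable under S[X] (n+1,c) and S/(g) (n,c+1); induction on the finite set adjoining one element at a
time (transcendental: S[X]; algebraic: S[1/d][X]/(monic)), dimension via S2680 (dim = trdeg).
-/
import Mathlib
import Groth.Prelude.Def_RegImm
import Groth.Agent.S2680

set_option autoImplicit false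
set_option linter.style.haveILetI false
set_option linter.unusedSectionVars false
universe u

namespace Groth.Agent.Lib.R2H1.FieldGCI

section Part1

open Polynomial

variable (k : Type u) [Field k]

/-- `S` has a presentation with `n` generators and `c` relations over `k`. -/
def Pres (S : Type u) [CommRing S] [Algebra k S] (n c : ℕ) : Prop :=
  ∃ (φ : MvPolynomial (Fin n) k →ₐ[k] S) (r : Fin c → MvPolynomial (Fin n) k),
    Function.Surjective φ ∧ RingHom.ker φ.toRingHom = Ideal.span (Set.range r)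

variable {k}
variable {S S' : Type u} [CommRing S] [CommRing S'] [Algebra k S] [Algebra k S'] {n c : ℕ}

theorem Pres.of_algEquiv (h : Pres k S n c) (e : S ≃ₐ[k] S') : Pres k S' n c := by
  obtain ⟨φ, r, hs, hk⟩ := h
  refine ⟨(e : S →ₐ[k] S').comp φ, r, e.surjective.comp hs, ?_⟩
  rw [← hk]
  ext x
  simp only [RingHom.mem_ker, AlgHom.toRingHom_eq_coe, RingHom.coe_coe, AlgHom.comp_apply,
    AlgEquiv.coe_algHom, EmbeddingLike.map_eq_zero_iff]

theorem Pres.finiteType (h : Pres k S n c) : Algebra.FiniteType k S := by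
  obtain ⟨φ, r, hs, hk⟩ := h
  exact Algebra.FiniteType.of_surjective φ hs

theorem Pres.quotient (h : Pres k S n c) (g : S) : Pres k (S ⧸ Ideal.span {g}) n (c + 1) := by
  obtain ⟨φ, r, hs, hk⟩ := h
  obtain ⟨g', hg'⟩ := hs g
  refine ⟨(Ideal.Quotient.mkₐ k (Ideal.span {g})).comp φ, Fin.cons g' r,
    (Ideal.Quotient.mkₐ_surjective k _).comp hs, ?_⟩
  have h1 : RingHom.ker ((Ideal.Quotient.mkₐ k (Ideal.span {g})).comp φ).toRingHom =
      (Ideal.span {g}).comap φ.toRingHom := by
    ext x
    simp only [RingHom.mem_ker, AlgHom.toRingHom_eq_coe, RingHom.coe_coe, AlgHom.comp_apply,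
      Ideal.Quotient.mkₐ_eq_mk, Ideal.Quotient.eq_zero_iff_mem, Ideal.mem_comap]
  have h2 : (Ideal.span {g}).comap φ.toRingHom = Ideal.span {g'} ⊔ RingHom.ker φ.toRingHom := by
    have h3 : Ideal.span {g} = (Ideal.span {g'}).map φ.toRingHom := by
      rw [Ideal.map_span, Set.image_singleton]
      simp [hg']
    rw [h3, Ideal.comap_map_of_surjective φ.toRingHom hs]
    rfl
  rw [h1, h2, hk, ← Ideal.span_union, Fin.range_cons]
  rfl

/-- transport of a kernel description along an isomorphism of the source -/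
theorem ker_comp_equiv {P P' : Type u} [CommRing P] [CommRing P'] [Algebra k P] [Algebra k P']
    (e : P' ≃ₐ[k] P) (ψ : P →ₐ[k] S) {ι : Type} (r : ι → P)
    (hk : RingHom.ker ψ.toRingHom = Ideal.span (Set.range r)) :
    RingHom.ker (ψ.comp (e : P' →ₐ[k] P)).toRingHom =
      Ideal.span (Set.range fun i => e.symm (r i)) := by
  have h0 : RingHom.ker (ψ.comp (e : P' →ₐ[k] P)).toRingHom =
      (RingHom.ker ψ.toRingHom).comap e.toRingEquiv := by
    ext x
    simp only [RingHom.mem_ker, AlgHom.toRingHom_eq_coe, RingHom.coe_coe, AlgHom.comp_apply,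
      AlgEquiv.coe_algHom, Ideal.mem_comap]
    rfl
  rw [h0, hk, ← Ideal.map_symm, Ideal.map_span]
  congr 1
  ext y
  simp only [Set.mem_image, Set.mem_range, exists_exists_eq_and]
  rfl

theorem Pres.polynomial (h : Pres k S n c) : Pres k S[X] (n + 1) c := by
  obtain ⟨φ, r, hs, hk⟩ := h
  let ψ : (MvPolynomial (Fin n) k)[X] →ₐ[k] S[X] := Polynomial.mapAlgHom φ
  have hψs : Function.Surjective ψ := Polynomial.map_surjective _ hs
  have h1 : RingHom.ker ψ.toRingHom = Ideal.span (Set.range fun i => (C (r i) : (MvPolynomial (Fin n) k)[X])) := by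
    have h2 : RingHom.ker ψ.toRingHom = (RingHom.ker φ.toRingHom).map (C : _ →+* _) :=
      Polynomial.ker_mapRingHom φ.toRingHom
    rw [h2, hk, Ideal.map_span]
    congr 1
    ext y
    simp only [Set.mem_image, Set.mem_range, exists_exists_eq_and]
  exact ⟨ψ.comp ((MvPolynomial.finSuccEquiv k n) : _ →ₐ[k] _),
    fun i => (MvPolynomial.finSuccEquiv k n).symm (C (r i)),
    hψs.comp (MvPolynomial.finSuccEquiv k n).surjective,
    ker_comp_equiv (MvPolynomial.finSuccEquiv k n) ψ (fun i => (C (r i) : (MvPolynomial (Fin n) k)[X])) h1⟩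

end Part1

section Part2

open Polynomial

variable {k : Type u} [Field k]

/-- dimension = transcendence degree for a domain of finite type over a field -/
theorem exists_dim_eq_trdeg (S : Type u) [CommRing S] [IsDomain S] [Algebra k S]
    [Algebra.FiniteType k S] :
    ∃ n : ℕ, Algebra.trdeg k S = n ∧ ringKrullDim S = n := by
  obtain ⟨n, h1, h2, -⟩ := Groth.Agent.S2680.result k S
  refine ⟨n, ?_, h2⟩
  haveI : Algebra.IsAlgebraic S (FractionRing S) :=
    IsLocalization.isAlgebraic (FractionRing S) (nonZeroDivisors S)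
  have h3 := trdeg_add_eq (R := k) (S := S) (A := FractionRing S)
  rw [trdeg_eq_zero (R := S) (A := FractionRing S), add_zero] at h3
  rw [h3, h1]

theorem dim_eq_of_isAlgebraic (S S' : Type u) [CommRing S] [IsDomain S] [Algebra k S]
    [Algebra.FiniteType k S] [CommRing S'] [IsDomain S'] [Algebra k S'] [Algebra.FiniteType k S']
    [Algebra S S'] [IsScalarTower k S S'] [FaithfulSMul S S'] [Algebra.IsAlgebraic S S'] :
    ringKrullDim S' = ringKrullDim S := by
  obtain ⟨n, h1, h2⟩ := exists_dim_eq_trdeg (k := k) S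
  obtain ⟨m, h3, h4⟩ := exists_dim_eq_trdeg (k := k) S'
  have h5 := trdeg_add_eq (R := k) (S := S) (A := S')
  rw [trdeg_eq_zero (R := S) (A := S'), add_zero, h1, h3] at h5
  have h6 : n = m := by exact_mod_cast h5
  rw [h2, h4, h6]

variable {S : Type u} [CommRing S] [Algebra k S] {K : Type u} [Field K] [Algebra k K]

/-- evaluation at `e` along `ι` -/
noncomputable def ev (ι : S →ₐ[k] K) (e : K) : S[X] →ₐ[k] K :=
  { Polynomial.eval₂RingHom ι.toRingHom e with
    commutes' := fun r => by
      simp [Polynomial.algebraMap_apply] }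

theorem ev_apply (ι : S →ₐ[k] K) (e : K) (p : S[X]) : ev ι e p = p.eval₂ ι.toRingHom e := rfl

theorem ev_X (ι : S →ₐ[k] K) (e : K) : ev ι e X = e := by simp [ev_apply]

theorem ev_C (ι : S →ₐ[k] K) (e : K) (s : S) : ev ι e (C s) = ι s := by simp [ev_apply]

/-- a nonzero polynomial of minimal degree in the kernel of the evaluation map -/
theorem exists_min_poly (ι : S →ₐ[k] K) (e : K) (h : ¬ Function.Injective (ev ι e)) :
    ∃ p : S[X], p ≠ 0 ∧ ev ι e p = 0 ∧
      ∀ q : S[X], q ≠ 0 → ev ι e q = 0 → p.natDegree ≤ q.natDegree := by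
  classical
  have h1 : ∃ m : ℕ, ∃ q : S[X], q ≠ 0 ∧ ev ι e q = 0 ∧ q.natDegree = m := by
    rw [injective_iff_map_eq_zero] at h
    push_neg at h
    obtain ⟨q, hq0, hq⟩ := h
    exact ⟨q.natDegree, q, hq, hq0, rfl⟩
  obtain ⟨p, hp0, hp, hpd⟩ := Nat.find_spec h1
  refine ⟨p, hp0, hp, fun q hq0 hq => ?_⟩
  rw [hpd]
  exact Nat.find_min' h1 ⟨q, hq0, hq, rfl⟩

end Part2

section Part3

open Polynomial

variable {k : Type u} [Field k]
variable {S : Type u} [CommRing S] [Algebra k S] {K : Type u} [Field K] [Algebra k K]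

section Transc

theorem step_transc {δ c : ℕ} (hP : Pres k S (c + δ) c) (hd : ringKrullDim S = δ) :
    Pres k S[X] (c + (δ + 1)) c ∧ ringKrullDim S[X] = ((δ + 1 : ℕ) : WithBot ℕ∞) := by
  refine ⟨hP.polynomial, ?_⟩
  haveI := hP.finiteType
  haveI : IsNoetherianRing S := Algebra.FiniteType.isNoetherianRing k S
  rw [Polynomial.ringKrullDim_of_isNoetherianRing, hd]
  rfl

end Transc

section Alg

variable [IsDomain S] (ι : S →ₐ[k] K) (hι : Function.Injective ι) (e : K) (p : S[X])

/-- the localization at the leading coefficient -/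
abbrev DD : Type u := Localization.Away p.leadingCoeff

include hι in
theorem isUnit_ι_powers (hp0 : p ≠ 0) (y : Submonoid.powers p.leadingCoeff) : IsUnit (ι y) := by
  obtain ⟨y, n, rfl⟩ := y
  simp only [map_pow]
  refine IsUnit.pow n (IsUnit.mk0 _ ?_)
  intro h
  have h1 : p.leadingCoeff = 0 := hι (by rw [h, map_zero])
  exact hp0 (leadingCoeff_eq_zero.mp h1)

/-- the extension of `ι` to the localization -/
noncomputable def ιD (hp0 : p ≠ 0) : DD p →ₐ[k] K :=
  IsLocalization.liftAlgHom (M := Submonoid.powers p.leadingCoeff) (f := ι)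
    (isUnit_ι_powers ι hι p hp0)

theorem ιD_algebraMap (hp0 : p ≠ 0) (s : S) : ιD ι hι p hp0 (algebraMap S (DD p) s) = ι s :=
  IsLocalization.lift_eq _ s

theorem ιD_comp (hp0 : p ≠ 0) :
    (ιD ι hι p hp0).toRingHom.comp (algebraMap S (DD p)) = ι.toRingHom := by
  ext s
  exact ιD_algebraMap ι hι p hp0 s

theorem powers_le (hp0 : p ≠ 0) : Submonoid.powers p.leadingCoeff ≤ nonZeroDivisors S :=
  powers_le_nonZeroDivisors_of_noZeroDivisors (leadingCoeff_ne_zero.mpr hp0)

theorem algebraMap_DD_injective (hp0 : p ≠ 0) : Function.Injective (algebraMap S (DD p)) :=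
  IsLocalization.injective (DD p) (powers_le p hp0)

theorem ιD_injective (hp0 : p ≠ 0) : Function.Injective (ιD ι hι p hp0) := by
  unfold ιD
  rw [IsLocalization.coe_liftAlgHom, IsLocalization.lift_injective_iff]
  intro x y
  constructor
  · intro h
    rw [algebraMap_DD_injective p hp0 h]
  · intro h
    have : x = y := hι h
    rw [this]

instance isDomain_DD [Fact (p ≠ 0)] : IsDomain (DD p) :=
  IsLocalization.isDomain_localization (powers_le p Fact.out)

/-- the monic polynomial over the localization -/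
noncomputable def pp : (DD p)[X] :=
  C (IsLocalization.Away.invSelf (S := DD p) p.leadingCoeff) * p.map (algebraMap S (DD p))

theorem leadingCoeff_map (hp0 : p ≠ 0) :
    (p.map (algebraMap S (DD p))).leadingCoeff = algebraMap S (DD p) p.leadingCoeff :=
  Polynomial.leadingCoeff_map_of_injective (algebraMap_DD_injective p hp0) p

theorem monic_pp (hp0 : p ≠ 0) : (pp p).Monic := by
  unfold pp
  apply Polynomial.monic_C_mul_of_mul_leadingCoeff_eq_one
  rw [leadingCoeff_map p hp0, mul_comm]
  exact IsLocalization.Away.mul_invSelf _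

theorem natDegree_pp (hp0 : p ≠ 0) : (pp p).natDegree = p.natDegree := by
  haveI : Fact (p ≠ 0) := ⟨hp0⟩
  unfold pp
  rw [Polynomial.natDegree_C_mul, Polynomial.natDegree_map_eq_of_injective
    (algebraMap_DD_injective p hp0)]
  intro h
  have h1 := IsLocalization.Away.mul_invSelf (S := DD p) p.leadingCoeff
  rw [h, mul_zero] at h1
  exact zero_ne_one h1

theorem eval₂_pp (hp0 : p ≠ 0) (hp : ev ι e p = 0) :
    (pp p).eval₂ (ιD ι hι p hp0).toRingHom e = 0 := by
  unfold pp
  rw [Polynomial.eval₂_mul, Polynomial.eval₂_map, ιD_comp]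
  rw [ev_apply] at hp
  rw [hp, mul_zero]

end Alg

end Part3

section Part4

open Polynomial

variable {k : Type u} [Field k]
variable {S : Type u} [CommRing S] [Algebra k S] {K : Type u} [Field K] [Algebra k K]

section Alg

variable [IsDomain S] (ι : S →ₐ[k] K) (hι : Function.Injective ι) (e : K) (p : S[X])

/-- the new ring in the algebraic step -/
abbrev SS : Type u := AdjoinRoot (pp p)

/-- the embedding of the new ring -/
noncomputable def ιS (hp0 : p ≠ 0) (hp : ev ι e p = 0) : SS p →ₐ[k] K :=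
  AdjoinRoot.liftAlgHom (pp p) (ιD ι hι p hp0) e (eval₂_pp ι hι e p hp0 hp)

theorem ιS_mk (hp0 : p ≠ 0) (hp : ev ι e p = 0) (g : (DD p)[X]) :
    ιS ι hι e p hp0 hp (AdjoinRoot.mk (pp p) g) = g.eval₂ (ιD ι hι p hp0).toRingHom e := by
  unfold ιS
  rw [AdjoinRoot.coe_liftAlgHom]
  exact AdjoinRoot.lift_mk _ _

theorem ιS_root (hp0 : p ≠ 0) (hp : ev ι e p = 0) :
    ιS ι hι e p hp0 hp (AdjoinRoot.root (pp p)) = e := by
  have := ιS_mk ι hι e p hp0 hp X
  rwa [Polynomial.eval₂_X] at this

theorem ιS_of (hp0 : p ≠ 0) (hp : ev ι e p = 0) (s : S) :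
    ιS ι hι e p hp0 hp (AdjoinRoot.of (pp p) (algebraMap S (DD p) s)) = ι s := by
  have := ιS_mk ι hι e p hp0 hp (C (algebraMap S (DD p) s))
  rw [Polynomial.eval₂_C] at this
  rw [← AdjoinRoot.mk_C] 
  rw [this]
  exact ιD_algebraMap ι hι p hp0 s

theorem ιS_injective (hp0 : p ≠ 0) (hp : ev ι e p = 0)
    (hmin : ∀ q : S[X], q ≠ 0 → ev ι e q = 0 → p.natDegree ≤ q.natDegree) :
    Function.Injective (ιS ι hι e p hp0 hp) := by
  haveI : Fact (p ≠ 0) := ⟨hp0⟩
  rw [injective_iff_map_eq_zero]
  intro x hx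
  obtain ⟨g, rfl⟩ := AdjoinRoot.mk_surjective x
  rw [ιS_mk] at hx
  have hmonic := monic_pp p hp0
  set r := g %ₘ pp p with hr
  have hdiv : r + pp p * (g /ₘ pp p) = g := Polynomial.modByMonic_add_div g (pp p)
  have hr0 : r.eval₂ (ιD ι hι p hp0).toRingHom e = 0 := by
    have h1 : g.eval₂ (ιD ι hι p hp0).toRingHom e =
        r.eval₂ (ιD ι hι p hp0).toRingHom e +
          (pp p).eval₂ (ιD ι hι p hp0).toRingHom e * (g /ₘ pp p).eval₂ (ιD ι hι p hp0).toRingHom e := by
      rw [← Polynomial.eval₂_mul, ← Polynomial.eval₂_add, hdiv]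
    rw [hx, eval₂_pp ι hι e p hp0 hp, zero_mul, add_zero] at h1
    exact h1.symm
  -- clear denominators
  set r₀ := IsLocalization.integerNormalization (Submonoid.powers p.leadingCoeff) r with hr₀
  have hr₀ev : ev ι e r₀ = 0 := by
    have := IsLocalization.integerNormalization_eval₂_eq_zero
      (M := Submonoid.powers p.leadingCoeff) (ιD ι hι p hp0).toRingHom r hr0
    rw [ιD_comp] at this
    exact this
  have hr₀0 : r₀ = 0 := by
    by_contra hne
    have h1 := hmin r₀ hne hr₀ev
    have hrne : r ≠ 0 := by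
      intro h
      apply hne
      rw [hr₀, h]
      exact (IsLocalization.integerNormalization_eq_zero_iff (powers_le p hp0) _).mpr rfl
    have h2 : r₀.natDegree ≤ r.natDegree := by
      apply Polynomial.le_natDegree_of_mem_supp
      exact IsLocalization.integerNormalization_support _ r
        (Polynomial.natDegree_mem_support_of_nonzero hne)
    have h3 : r.natDegree < (pp p).natDegree :=
      Polynomial.natDegree_lt_natDegree hrne (Polynomial.degree_modByMonic_lt g hmonic)
    rw [natDegree_pp p hp0] at h3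
    omega
  have hrz : r = 0 :=
    (IsLocalization.integerNormalization_eq_zero_iff (powers_le p hp0) r).mp hr₀0
  rw [AdjoinRoot.mk_eq_zero]
  rw [hrz, zero_add] at hdiv
  exact ⟨_, hdiv.symm⟩

end Alg

end Part4

section Part5

open Polynomial

variable {k : Type u} [Field k]
variable {S : Type u} [CommRing S] [Algebra k S] {K : Type u} [Field K] [Algebra k K]

section Alg

variable [IsDomain S] (ι : S →ₐ[k] K) (hι : Function.Injective ι) (e : K) (p : S[X])

theorem pres_DD {n c : ℕ} (hP : Pres k S n c) : Pres k (DD p) (n + 1) (c + 1) := by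
  have h1 : Pres k (AdjoinRoot (C p.leadingCoeff * X - 1 : S[X])) (n + 1) (c + 1) :=
    (hP.polynomial).quotient (C p.leadingCoeff * X - 1)
  exact h1.of_algEquiv ((Localization.awayEquivAdjoin p.leadingCoeff).symm.restrictScalars k)

theorem pres_SS {n c : ℕ} (hP : Pres k S n c) : Pres k (SS p) (n + 2) (c + 2) :=
  ((pres_DD p hP).polynomial).quotient (pp p)

theorem algebraMap_SS (s : S) :
    algebraMap S (SS p) s = AdjoinRoot.of (pp p) (algebraMap S (DD p) s) := by
  rw [IsScalarTower.algebraMap_apply S (DD p) (SS p)]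
  rfl

include hι in
theorem step_alg (hp0 : p ≠ 0) (hp : ev ι e p = 0)
    (hmin : ∀ q : S[X], q ≠ 0 → ev ι e q = 0 → p.natDegree ≤ q.natDegree)
    {δ c : ℕ} (hP : Pres k S (c + δ) c) (hd : ringKrullDim S = δ) :
    Pres k (SS p) ((c + 2) + δ) (c + 2) ∧ ringKrullDim (SS p) = δ := by
  haveI : Fact (p ≠ 0) := ⟨hp0⟩
  have hinj := ιS_injective ι hι e p hp0 hp hmin
  have hPS : Pres k (SS p) ((c + 2) + δ) (c + 2) := by
    have h := pres_SS p hP
    have h2 : c + δ + 2 = (c + 2) + δ := by omega
    rw [h2] at h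
    exact h
  refine ⟨hPS, ?_⟩
  haveI : IsDomain (SS p) := hinj.isDomain (ιS ι hι e p hp0 hp).toRingHom
  haveI := hP.finiteType
  haveI := hPS.finiteType
  haveI : FaithfulSMul S (SS p) := by
    rw [faithfulSMul_iff_algebraMap_injective]
    intro x y hxy
    apply hι
    rw [← ιS_of ι hι e p hp0 hp x, ← ιS_of ι hι e p hp0 hp y, ← algebraMap_SS, ← algebraMap_SS, hxy]
  haveI : Algebra.IsAlgebraic S (DD p) :=
    IsLocalization.isAlgebraic (DD p) (Submonoid.powers p.leadingCoeff)
  haveI : Module.Finite (DD p) (SS p) := (monic_pp p hp0).finite_adjoinRoot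
  haveI : Algebra.IsIntegral (DD p) (SS p) := Algebra.IsIntegral.of_finite (DD p) (SS p)
  haveI : Algebra.IsAlgebraic S (SS p) := Algebra.IsAlgebraic.trans_isIntegral S (DD p) (SS p)
  rw [dim_eq_of_isAlgebraic (k := k) S (SS p), hd]

end Alg

theorem pres_field : Pres k k 0 0 := by
  refine ⟨(MvPolynomial.isEmptyAlgEquiv k (Fin 0) : _ →ₐ[k] k), Fin.elim0,
    (MvPolynomial.isEmptyAlgEquiv k (Fin 0)).surjective, ?_⟩
  have h1 : Set.range (Fin.elim0 : Fin 0 → MvPolynomial (Fin 0) k) = ∅ := Set.range_eq_empty _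
  rw [h1, Ideal.span_empty]
  ext x
  simp only [RingHom.mem_ker, AlgHom.toRingHom_eq_coe, RingHom.coe_coe, AlgEquiv.coe_algHom,
    EmbeddingLike.map_eq_zero_iff, Ideal.mem_bot]

theorem exists_model (E : Finset K) :
    ∃ (S : Type u) (_ : CommRing S) (_ : Algebra k S) (ι : S →ₐ[k] K), Function.Injective ι ∧
      (↑E : Set K) ⊆ Set.range ι ∧ ∃ δ c : ℕ, Pres k S (c + δ) c ∧ ringKrullDim S = δ := by
  classical
  induction E using Finset.induction_on with
  | empty =>
    exact ⟨k, inferInstance, inferInstance, Algebra.ofId k K, (algebraMap k K).injective,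
      by simp, 0, 0, pres_field, ringKrullDim_eq_zero_of_field k⟩
  | insert e E he ih =>
    obtain ⟨S, _, _, ι, hι, hE, δ, c, hP, hd⟩ := ih
    haveI : IsDomain S := hι.isDomain ι.toRingHom
    by_cases hinj : Function.Injective (ev ι e)
    · obtain ⟨h1, h2⟩ := step_transc hP hd
      refine ⟨S[X], inferInstance, inferInstance, ev ι e, hinj, ?_, δ + 1, c, h1, h2⟩
      intro x hx
      rw [Finset.coe_insert] at hx
      rcases hx with rfl | hx
      · exact ⟨X, ev_X ι x⟩
      · obtain ⟨s, rfl⟩ := hE hx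
        exact ⟨C s, ev_C ι e s⟩
    · obtain ⟨p, hp0, hp, hmin⟩ := exists_min_poly ι e hinj
      obtain ⟨h1, h2⟩ := step_alg ι hι e p hp0 hp hmin hP hd
      refine ⟨SS p, inferInstance, inferInstance, ιS ι hι e p hp0 hp,
        ιS_injective ι hι e p hp0 hp hmin, ?_, δ, c + 2, h1, h2⟩
      intro x hx
      rw [Finset.coe_insert] at hx
      rcases hx with rfl | hx
      · exact ⟨AdjoinRoot.root (pp p), ιS_root ι hι x p hp0 hp⟩
      · obtain ⟨s, rfl⟩ := hE hx
        exact ⟨_, ιS_of ι hι e p hp0 hp s⟩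

/-- **S9430**: every finite subset of a field extension lies in a global complete intersection
subalgebra. -/
theorem main_9430 (k : Type u) [Field k] (K : Type u) [Field K] [Algebra k K] (E : Finset K) :
    ∃ A : Subalgebra k K, (↑E : Set K) ⊆ (A : Set K) ∧ Synt.IsGlobalCI k A := by
  obtain ⟨S, _, _, ι, hι, hE, δ, c, hP, hd⟩ := exists_model (k := k) E
  refine ⟨ι.range, ?_, Or.inr ?_⟩
  · intro x hx
    obtain ⟨s, rfl⟩ := hE hx
    exact ⟨s, rfl⟩
  · obtain ⟨φ, r, hs, hk⟩ := hP.of_algEquiv (AlgEquiv.ofInjective ι hι)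
    refine ⟨c + δ, c, Nat.le_add_right _ _, φ, r, hs, hk, ?_⟩
    rw [← ringKrullDim_eq_of_ringEquiv (AlgEquiv.ofInjective ι hι).toRingEquiv, hd,
      Nat.add_sub_cancel_left]

end Part5

end Groth.Agent.Lib.R2H1.FieldGCI
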