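import Mathlib
import Groth.Agent.Lib.H9ModFibAlg
import Groth.Agent.Lib.Helper6OpenDimA
import Groth.Agent.Lib.Helper4DimFormulaE
import Groth.Agent.Lib.R2H1FieldGCI
import Groth.Agent.S9126
import Groth.Agent.S0603
import Groth.Agent.Lib.Helper6EquiDim
import Groth.Agent.Lib.Helper28LocLoc
import Groth.Agent.Lib.Helper4DimFormulaG
import Groth.Agent.Lib.Helper4RectDepthD
import Groth.Agent.Lib.Helper4RectDepthC

/-! Rectified depth of fibre modules of a flat finitely presented module (EGA IV 12.1.1 (v), algebraic form): ftd (relative transcendence degree at a prime), height_map_add_eq (relative dimension formula with equality over a universally catenary base), ftd_field_eq_dim, ringKrullDim_fibLocRing, exists_minimalPrimes_over_height_eq, ringKrullDim_quotient_of_minimal_over_pushout, fibLocRing_dim_add_ftd (dim of fibre local ring of a base field extension + trdeg upstairs = trdeg downstairs), ftd_eq_of_fiberLike (trdeg computed in the fibre), pushout_rd, rdep, rdep_baseChange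 (base change invariance), ftd_eq_zero_of_surjective, rdep_le_of_section, rdep_le_step, rdep_mono (generization), dm_quotient_eq_height, rdep_nhd (Nagata), isOpen_rdep_noeth, isUniversallyCatenary_of_finiteType_int, isOpen_rdep (helper9). -/

set_option autoImplicit false
set_option linter.style.haveILetI false
set_option linter.unusedSimpArgs false
set_option linter.unusedVariables false
universe u

namespace Groth.Agent.Lib.H9RectDepthAlg

-- ===== part RdA =====
section

open Groth.Agent.Lib.Helper4.DimFormula Groth.Agent.Lib.Helper6.OpenDim TensorProduct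

section Defs

variable (A : Type u) {B : Type u} [CommRing A] [CommRing B] [Algebra A B]

/-- transcendence degree of `κ(q)` over `κ(q ∩ A)`, as a natural number. -/
noncomputable def ftd (q : Ideal B) [q.IsPrime] : ℕ :=
  Cardinal.toNat (Algebra.trdeg (A ⧸ q.under A) (B ⧸ q))

theorem ftd_eq_of_trdeg (p : Ideal A) (q : Ideal B) [q.IsPrime] [h : q.LiesOver p] (n : ℕ)
    (hn : Algebra.trdeg (A ⧸ p) (B ⧸ q) = n) : ftd A q = n := by
  obtain rfl : p = q.under A := h.over
  unfold ftd
  rw [hn, Cardinal.toNat_natCast]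

theorem trdeg_eq_ftd [Algebra.FiniteType A B] (q : Ideal B) [q.IsPrime] :
    Algebra.trdeg (A ⧸ q.under A) (B ⧸ q) = (ftd A q : Cardinal.{u}) := by
  obtain ⟨e, he⟩ := exists_trdeg_eq_nat (A := A) q
  rw [ftd_eq_of_trdeg A (q.under A) q e he, he]

end Defs

section DF

variable {A B : Type u} [CommRing A] [CommRing B] [Algebra A B]

/-- **Relative dimension formula** over a universally catenary base: for primes `P ≤ q` of `B`,
`ht(q/P) + trdeg κ(q)/κ(q ∩ A) = ht((q ∩ A)/(P ∩ A)) + trdeg κ(P)/κ(P ∩ A)`. -/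
theorem height_map_add_eq (hA : CAlg.IsUniversallyCatenary A) [Algebra.FiniteType A B]
    (q : Ideal B) [q.IsPrime] (P : Ideal B) [P.IsPrime] (hPq : P ≤ q) :
    (q.map (Ideal.Quotient.mk P)).height + (ftd A q : ℕ∞) =
      ((q.under A).map (Ideal.Quotient.mk (P.under A))).height + (ftd A P : ℕ∞) := by
  haveI : IsNoetherianRing A := hA.1
  have hP₀ : P.under A ≤ q.under A := Ideal.comap_mono hPq
  haveI : (q.map (Ideal.Quotient.mk P)).IsPrime := Ideal.isPrime_map_quotientMk_of_isPrime hPq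
  haveI : ((q.under A).map (Ideal.Quotient.mk (P.under A))).IsPrime :=
    Ideal.isPrime_map_quotientMk_of_isPrime hP₀
  haveI := liesOver_map_mk (P.under A) (q.under A) P q hPq hP₀
  haveI : Algebra.FiniteType (A ⧸ P.under A) (B ⧸ P) :=
    Algebra.FiniteType.of_restrictScalars_finiteType A (A ⧸ P.under A) (B ⧸ P)
  have hUC : CAlg.IsUniversallyCatenary (A ⧸ P.under A) :=
    Groth.Agent.S9126.result A (A ⧸ P.under A) hA
  have h0 := height_add_trdeg_eq (A ⧸ P.under A) hUC (B ⧸ P)
    ((q.under A).map (Ideal.Quotient.mk (P.under A))) (q.map (Ideal.Quotient.mk P))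
  rw [trdeg_doubleQuot (P.under A) (q.under A) P q hPq hP₀, trdeg_eq_ftd A q, trdeg_eq_ftd A P]
    at h0
  exact_mod_cast h0

end DF

section FieldDim

variable (K : Type u) [Field K] {R : Type u} [CommRing R] [Algebra K R]

theorem under_field_eq_bot (P : Ideal R) [P.IsPrime] : P.under K = ⊥ := by
  rcases Ideal.eq_bot_or_top (P.under K) with h | h
  · exact h
  · exfalso
    have h1 : (1 : K) ∈ P.under K := h ▸ Submodule.mem_top
    rw [Ideal.under_def, Ideal.mem_comap, map_one] at h1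
    exact (Ideal.IsPrime.ne_top inferInstance) ((Ideal.eq_top_iff_one P).mpr h1)

/-- over a field, the relative transcendence degree at a prime is the dimension of the quotient. -/
theorem ftd_field_eq_dim [Algebra.FiniteType K R] (P : Ideal R) [P.IsPrime] :
    ((ftd K P : ℕ) : WithBot ℕ∞) = ringKrullDim (R ⧸ P) := by
  haveI : IsDomain (R ⧸ P) := Ideal.Quotient.isDomain P
  haveI : Algebra.FiniteType K (R ⧸ P) :=
    Algebra.FiniteType.of_surjective (Ideal.Quotient.mkₐ K P) (Ideal.Quotient.mkₐ_surjective K P)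
  obtain ⟨n, h1, h2⟩ := Groth.Agent.Lib.R2H1.FieldGCI.exists_dim_eq_trdeg (k := K) (R ⧸ P)
  have hbot := under_field_eq_bot K P
  let e₁ : K ≃+* K ⧸ P.under K :=
    (RingEquiv.quotientBot K).symm.trans (Ideal.quotEquivOfEq hbot.symm)
  have h3 : Algebra.trdeg K (R ⧸ P) = Algebra.trdeg (K ⧸ P.under K) (R ⧸ P) :=
    trdeg_eq_of_ringEquiv e₁ (RingEquiv.refl (R ⧸ P)) (fun k => rfl)
  rw [ftd_eq_of_trdeg K (P.under K) P n (h3 ▸ h1), h2]

end FieldDim

section Y

/-- dimension of a fibre local ring as a height in the quotient. -/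
theorem ringKrullDim_fibLocRing {Φ T : Type u} [CommRing Φ] [CommRing T] [Algebra Φ T]
    (𝔔 : Ideal T) [𝔔.IsPrime] :
    ringKrullDim (EGA4.FibLocRing Φ T 𝔔) =
      (((𝔔.map (Ideal.Quotient.mk ((𝔔.comap (algebraMap Φ T)).map (algebraMap Φ T)))).height : ℕ∞) :
        WithBot ℕ∞) := by
  have hle : (𝔔.comap (algebraMap Φ T)).map (algebraMap Φ T) ≤ 𝔔 := Ideal.map_comap_le
  rw [← Groth.Agent.Lib.Helper28.ringKrullDim_localization_quotient_eq_height _ 𝔔 hle]
  have h : (𝔔.comap (algebraMap Φ T)).map (algebraMap Φ (Localization.AtPrime 𝔔)) =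
      ((𝔔.comap (algebraMap Φ T)).map (algebraMap Φ T)).map
        (algebraMap T (Localization.AtPrime 𝔔)) := by
    rw [Ideal.map_map, ← IsScalarTower.algebraMap_eq]
  unfold EGA4.FibLocRing
  rw [h]

/-- a minimal prime over `I` below `𝔔` computing the height of `𝔔/I`. -/
theorem exists_minimalPrimes_over_height_eq {T : Type u} [CommRing T] [IsNoetherianRing T]
    (I 𝔔 : Ideal T) [𝔔.IsPrime] (hI : I ≤ 𝔔) :
    ∃ P ∈ I.minimalPrimes, P ≤ 𝔔 ∧
      (𝔔.map (Ideal.Quotient.mk I)).height = (𝔔.map (Ideal.Quotient.mk P)).height := by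
  haveI : (𝔔.map (Ideal.Quotient.mk I)).IsPrime := Ideal.isPrime_map_quotientMk_of_isPrime hI
  obtain ⟨P₁, hP₁, hP₁le, hht⟩ := exists_minimalPrimes_height_le (𝔔.map (Ideal.Quotient.mk I))
  haveI : P₁.IsPrime := hP₁.1.1
  set P : Ideal T := P₁.comap (Ideal.Quotient.mk I) with hP
  have hIP : I ≤ P := by
    intro x hx
    rw [hP, Ideal.mem_comap, Ideal.Quotient.eq_zero_iff_mem.mpr hx]
    exact P₁.zero_mem
  have hPmap : P.map (Ideal.Quotient.mk I) = P₁ :=
    Ideal.map_comap_of_surjective _ Ideal.Quotient.mk_surjective P₁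
  have hP𝔔 : P ≤ 𝔔 := by
    intro x hx
    have h1 : Ideal.Quotient.mk I x ∈ 𝔔.map (Ideal.Quotient.mk I) := hP₁le hx
    exact (Ideal.mem_quotient_iff_mem hI).mp h1
  have hPmin : P ∈ I.minimalPrimes := by
    rw [Ideal.minimalPrimes_eq_comap]
    exact ⟨P₁, hP₁, rfl⟩
  haveI : P.IsPrime := hPmin.1.1
  refine ⟨P, hPmin, hP𝔔, ?_⟩
  haveI : (𝔔.map (Ideal.Quotient.mk P)).IsPrime := Ideal.isPrime_map_quotientMk_of_isPrime hP𝔔
  apply le_antisymm
  · -- transport along `(T/I)/P₁ ≃ T/P`
    refine hht.trans (le_of_eq ?_)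
    let e : (T ⧸ I) ⧸ P₁ ≃+* T ⧸ P :=
      (Ideal.quotEquivOfEq hPmap.symm).trans (DoubleQuot.quotQuotEquivQuotOfLE hIP)
    rw [← RingEquiv.height_map e]
    congr 1
    change Ideal.map (e : (T ⧸ I) ⧸ P₁ →+* T ⧸ P) _ = _
    rw [Ideal.map_map, Ideal.map_map]
    congr 1
  · have h := height_ker_add_height_le (Ideal.Quotient.factor hIP)
      (Ideal.Quotient.factor_surjective hIP) (𝔔.map (Ideal.Quotient.mk P))
    have hcomap : (𝔔.map (Ideal.Quotient.mk P)).comap (Ideal.Quotient.factor hIP) =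
        𝔔.map (Ideal.Quotient.mk I) := by
      ext x
      obtain ⟨x, rfl⟩ := Ideal.Quotient.mk_surjective x
      rw [Ideal.mem_comap, Ideal.Quotient.factor_mk, Ideal.mem_quotient_iff_mem hP𝔔,
        Ideal.mem_quotient_iff_mem hI]
    rw [hcomap] at h
    exact le_trans le_add_self h

end Y

section Pushout

variable (κ L Φ T : Type u) [Field κ] [Field L] [CommRing Φ] [CommRing T]
  [Algebra κ L] [Algebra κ Φ] [Algebra κ T] [Algebra L T] [Algebra Φ T]
  [IsScalarTower κ L T] [IsScalarTower κ Φ T] [Algebra.IsPushout κ L Φ T]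
  [Algebra.FiniteType κ Φ]

include κ L in
/-- equidimensionality of a base field extension, abstract pushout form. -/
theorem ringKrullDim_quotient_of_minimal_over_pushout (Q : Ideal Φ) [Q.IsPrime] (P : Ideal T)
    [P.IsPrime] (hPQ : P.comap (algebraMap Φ T) = Q)
    (hmin : ∀ P' : Ideal T, P'.IsPrime → P' ≤ P → P'.comap (algebraMap Φ T) = Q → P' = P) :
    ringKrullDim (T ⧸ P) = ringKrullDim (Φ ⧸ Q) := by
  have hpo : Algebra.IsPushout κ Φ L T := Algebra.IsPushout.symm inferInstance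
  let e : Φ ⊗[κ] L ≃ₐ[Φ] T := Algebra.IsPushout.equiv κ Φ L T
  have he : ∀ x : Φ, e (Algebra.TensorProduct.includeLeftRingHom x) = algebraMap Φ T x := by
    intro x
    exact e.commutes x
  set P' : Ideal (Φ ⊗[κ] L) := P.comap (e : Φ ⊗[κ] L →+* T) with hP'
  haveI : P'.IsPrime := Ideal.comap_isPrime _ P
  have hmap : P = P'.map (e : Φ ⊗[κ] L →+* T) := by
    rw [hP']
    exact (Ideal.map_comap_of_surjective _ e.surjective P).symm
  let eq : (Φ ⊗[κ] L) ⧸ P' ≃+* T ⧸ P := Ideal.quotientEquiv P' P e.toRingEquiv hmap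
  rw [← ringKrullDim_eq_of_ringEquiv eq]
  apply Groth.Agent.Lib.Helper6.EquiDim.ringKrullDim_quotient_of_minimal_over κ L Φ Q P'
  · rw [hP', Ideal.comap_comap, ← hPQ]
    congr 1
    ext x
    exact he x
  · intro Q' hQ'p hQ'le hQ'z
    haveI := hQ'p
    set P'' : Ideal T := Q'.comap (e.symm : T →+* Φ ⊗[κ] L) with hP''
    haveI : P''.IsPrime := Ideal.comap_isPrime _ Q'
    have h1 : P'' ≤ P := by
      intro x hx
      have h2 : e.symm x ∈ P' := hQ'le hx
      rw [hP', Ideal.mem_comap] at h2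
      have h3 : (e : Φ ⊗[κ] L →+* T) (e.symm x) = x := e.apply_symm_apply x
      rwa [h3] at h2
    have h2 : P''.comap (algebraMap Φ T) = Q := by
      rw [← hQ'z, hP'', Ideal.comap_comap]
      congr 1
      ext x
      change e.symm (algebraMap Φ T x) = _
      rw [← he x, e.symm_apply_apply]
    have h3 := hmin P'' inferInstance h1 h2
    ext y
    rw [hP', Ideal.mem_comap, ← h3, hP'', Ideal.mem_comap]
    change y ∈ Q' ↔ e.symm (e y) ∈ Q'
    rw [e.symm_apply_apply]

include κ in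
/-- **Key dimension identity**: for a pushout `T = L ⊗[κ] Φ` along a field extension and a prime
`𝔔` of `T` over `Q`, `dim (T_𝔔/Q T_𝔔) + trdeg_L κ(𝔔) = trdeg_κ κ(Q)`. -/
theorem fibLocRing_dim_add_ftd (𝔔 : Ideal T) [𝔔.IsPrime] (Q : Ideal Φ) [Q.IsPrime]
    (hQ : Q = 𝔔.comap (algebraMap Φ T)) :
    ringKrullDim (EGA4.FibLocRing Φ T 𝔔) + ((ftd L 𝔔 : ℕ) : WithBot ℕ∞) =
      ((ftd κ Q : ℕ) : WithBot ℕ∞) := by
  subst hQ
  have hpo1 : Algebra.IsPushout κ Φ L T := Algebra.IsPushout.symm inferInstance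
  haveI : Algebra.FiniteType L T :=
    Algebra.FiniteType.equiv (inferInstanceAs (Algebra.FiniteType L (L ⊗[κ] Φ)))
      (Algebra.IsPushout.equiv κ L Φ T)
  haveI : IsNoetherianRing T := Algebra.FiniteType.isNoetherianRing L T
  set I : Ideal T := (𝔔.comap (algebraMap Φ T)).map (algebraMap Φ T) with hI
  have hI𝔔 : I ≤ 𝔔 := Ideal.map_comap_le
  obtain ⟨P, hPmin, hP𝔔, hht⟩ := exists_minimalPrimes_over_height_eq I 𝔔 hI𝔔
  haveI : P.IsPrime := hPmin.1.1
  have hIP : I ≤ P := hPmin.1.2
  -- `P` lies over `Q` and is minimal with this property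
  have hPQ : P.comap (algebraMap Φ T) = 𝔔.comap (algebraMap Φ T) := by
    apply le_antisymm (Ideal.comap_mono hP𝔔)
    exact le_trans Ideal.le_comap_map (Ideal.comap_mono hIP)
  have hmin : ∀ P' : Ideal T, P'.IsPrime → P' ≤ P →
      P'.comap (algebraMap Φ T) = 𝔔.comap (algebraMap Φ T) → P' = P := by
    intro P' hP'p hP'le hP'Q
    have h1 : I ≤ P' := by
      rw [hI, Ideal.map_le_iff_le_comap, hP'Q]
    exact le_antisymm hP'le (hPmin.2 ⟨hP'p, h1⟩ hP'le)
  have hdim := ringKrullDim_quotient_of_minimal_over_pushout κ L Φ T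
    (𝔔.comap (algebraMap Φ T)) P hPQ hmin
  -- dimension formula over the field `L`
  have hUC : CAlg.IsUniversallyCatenary L := by
    haveI : LocCoh.IsCohenMacaulayRing L :=
      Groth.Agent.Lib.Helper28.isCohenMacaulayRing_of_field L
    exact Groth.Agent.S0603.result L
  have hdf := height_map_add_eq (A := L) (B := T) hUC 𝔔 P hP𝔔
  have h0 : ((𝔔.under L).map (Ideal.Quotient.mk (P.under L))).height = 0 := by
    rw [under_field_eq_bot L 𝔔, Ideal.map_bot]
    haveI : Nontrivial (L ⧸ P.under L) :=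
      Ideal.Quotient.nontrivial_iff.mpr (Ideal.IsPrime.ne_top inferInstance)
    exact Ideal.height_bot
  rw [h0, zero_add] at hdf
  rw [ringKrullDim_fibLocRing, ← hI, hht, ftd_field_eq_dim κ (𝔔.comap (algebraMap Φ T)),
    ← hdim, ← ftd_field_eq_dim L P]
  have h3 : (((ftd L P : ℕ) : ℕ∞) : WithBot ℕ∞) = ((ftd L P : ℕ) : WithBot ℕ∞) := rfl
  rw [← h3, ← hdf]
  rfl

end Pushout

end

-- ===== part RdB =====
section

open Groth.Agent.Lib.Helper4.DimFormula Groth.Agent.Lib.Helper6.OpenDim TensorProduct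

section F1

set_option synthInstance.maxHeartbeats 400000 in
set_option maxHeartbeats 1600000 in
/-- the relative transcendence degree at a point is computed in the fibre (abstract form: `κ` is
the residue field at `p`, `Φ` is a localization of `B ⊗ κ`). -/
theorem ftd_eq_of_fiberLike {A B κ Φ : Type u} [CommRing A] [CommRing B] [Field κ] [CommRing Φ]
    [Algebra A B] [Algebra A κ] [Algebra κ Φ] [Algebra B Φ] [Algebra A Φ] [IsScalarTower A κ Φ]
    [IsScalarTower A B Φ] [Algebra.FiniteType A B] [Algebra.FiniteType κ Φ]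
    (p : Ideal A) [p.IsPrime] (hκ : ∀ a, algebraMap A κ a = 0 ↔ a ∈ p)
    (hκf : ∀ z : κ, ∃ a s : A, z = algebraMap A κ a / algebraMap A κ s)
    (hΦ : ∀ x : Φ, ∃ r, r ∉ p ∧ ∃ s : B, algebraMap A Φ r * x = algebraMap B Φ s)
    (Q : Ideal Φ) [Q.IsPrime] (q : Ideal B) [q.IsPrime] (hq : q = Q.comap (algebraMap B Φ)) :
    ftd κ Q = ftd A q := by
  let F := FractionRing (Φ ⧸ Q)
  haveI : IsDomain (Φ ⧸ Q) := Ideal.Quotient.isDomain Q
  let ι : B →+* Φ := algebraMap B Φ
  have hι : ∀ a : A, ι (algebraMap A B a) = algebraMap κ Φ (algebraMap A κ a) := by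
    intro a
    change algebraMap B Φ (algebraMap A B a) = _
    rw [← IsScalarTower.algebraMap_apply, ← IsScalarTower.algebraMap_apply]
  let ev : Φ →+* F := (algebraMap (Φ ⧸ Q) F).comp (Ideal.Quotient.mk Q)
  have hev0 : ∀ x : Φ, ev x = 0 ↔ x ∈ Q := by
    intro x
    change algebraMap (Φ ⧸ Q) F (Ideal.Quotient.mk Q x) = 0 ↔ _
    rw [map_eq_zero_iff _ (IsFractionRing.injective (Φ ⧸ Q) F), Ideal.Quotient.eq_zero_iff_mem]
  have hevκ : ∀ k : κ, ev (algebraMap κ Φ k) = algebraMap κ F k := by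
    intro k
    rfl
  haveI hlies : q.LiesOver p := by
    refine ⟨?_⟩
    ext a
    rw [Ideal.under_def, Ideal.mem_comap, hq, Ideal.mem_comap]
    change a ∈ p ↔ ι (algebraMap A B a) ∈ Q
    rw [hι, ← hev0, hevκ, map_eq_zero_iff _ (algebraMap κ F).injective, hκ]
  have hfrac : ∀ z : F, ∃ x y : Φ, ev y ≠ 0 ∧ z = ev x / ev y := by
    intro z
    obtain ⟨x, y, hy, rfl⟩ := IsFractionRing.div_surjective (A := Φ ⧸ Q) z
    obtain ⟨x, rfl⟩ := Ideal.Quotient.mk_surjective x
    obtain ⟨y, rfl⟩ := Ideal.Quotient.mk_surjective y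
    refine ⟨x, y, ?_, rfl⟩
    intro h0
    have : algebraMap (Φ ⧸ Q) F (Ideal.Quotient.mk Q y) = 0 := h0
    rw [map_eq_zero_iff _ (IsFractionRing.injective (Φ ⧸ Q) F)] at this
    rw [this] at hy
    exact zero_notMem_nonZeroDivisors hy
  -- first identification: over `A`
  have h1 : Algebra.trdeg κ F = Algebra.trdeg (A ⧸ p) (B ⧸ q) := by
    refine trdeg_eq_trdeg_quotient (algebraMap A κ) (ev.comp ι) ?_ p q ?_ ?_ ?_ ?_
    · intro a
      change ev (ι (algebraMap A B a)) = _
      rw [hι, hevκ]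
    · intro a
      exact (hκ a).symm
    · intro b
      change b ∈ q ↔ ev (ι b) = 0
      rw [hev0, hq, Ideal.mem_comap]
    · exact hκf
    · intro z
      obtain ⟨x, y, hy, rfl⟩ := hfrac z
      obtain ⟨r₁, hr₁, s₁, e₁⟩ := hΦ x
      obtain ⟨r₂, hr₂, s₂, e₂⟩ := hΦ y
      have hr : ∀ r : A, r ∉ p → ev (ι (algebraMap A B r)) ≠ 0 := by
        intro r hr h0
        rw [hι, hevκ, map_eq_zero_iff _ (algebraMap κ F).injective, hκ] at h0
        exact hr h0
      have hsm : ∀ (r : A), algebraMap A Φ r = ι (algebraMap A B r) := by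
        intro r
        exact IsScalarTower.algebraMap_apply A B Φ r
      have k₁ : ev (ι (algebraMap A B r₁)) * ev x = ev (ι s₁) := by
        rw [← map_mul, ← hsm, e₁]
      have k₂ : ev (ι (algebraMap A B r₂)) * ev y = ev (ι s₂) := by
        rw [← map_mul, ← hsm, e₂]
      refine ⟨s₁ * algebraMap A B r₂, s₂ * algebraMap A B r₁, ?_⟩
      change _ = ev (ι (s₁ * algebraMap A B r₂)) / ev (ι (s₂ * algebraMap A B r₁))
      rw [map_mul, map_mul, map_mul, map_mul, ← k₁, ← k₂]
      have h1 := hr r₁ hr₁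
      have h2 := hr r₂ hr₂
      rw [div_eq_div_iff hy (mul_ne_zero (mul_ne_zero h2 hy) h1)]
      ring
  -- second identification: over `κ`
  have h2 : Algebra.trdeg κ F = Algebra.trdeg (κ ⧸ Q.under κ) (Φ ⧸ Q) := by
    refine trdeg_eq_trdeg_quotient (RingHom.id κ) ev ?_ (Q.under κ) Q ?_ ?_ ?_ ?_
    · intro k
      exact hevκ k
    · intro k
      rw [under_field_eq_bot κ Q]
      simp
    · intro x
      exact (hev0 x).symm
    · intro z
      exact ⟨z, 1, by simp⟩
    · intro z
      obtain ⟨x, y, -, h⟩ := hfrac z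
      exact ⟨x, y, h⟩
  have h3 := trdeg_eq_ftd κ Q
  rw [← h2, h1] at h3
  exact (ftd_eq_of_trdeg A p q _ h3).symm

end F1

section Pushout

open Groth.Agent.Lib.Helper28 Groth.Agent.Lib.Helper5 Groth.Agent.Lib.Helper5.GenDepth
open Groth.Agent.Lib.H9ModFibAlg

set_option synthInstance.maxHeartbeats 400000 in
set_option maxHeartbeats 3200000 in
/-- Key lemma: for a pushout `T = L ⊗[A] B` with `L` a field, the rectified depth of
`(T ⊗[B] M)` at `𝔔` over `L` is the rectified depth of the fibre module of `M` at `q = 𝔔 ∩ B`. -/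
theorem pushout_rd
    {A B : Type u} (L : Type u) {T : Type u} [CommRing A] [CommRing B] [Field L] [CommRing T]
    [Algebra A B] [Algebra A L] [Algebra A T] [Algebra B T] [Algebra L T]
    [IsScalarTower A B T] [IsScalarTower A L T] [Algebra.IsPushout A L B T]
    [Algebra.FiniteType A B]
    (M : Type u) [AddCommGroup M] [Module B M] [Module.Finite B M]
    [IsNoetherianRing T] (𝔔 : Ideal T) [𝔔.IsPrime]
    (q : Ideal B) [q.IsPrime] (hq : q = 𝔔.comap (algebraMap B T)) :
    dep 𝔔 (T ⊗[B] M) + (ftd L 𝔔 : ℕ∞) = fdep A M q + (ftd A q : ℕ∞) := by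
  subst hq
  haveI := isLocalRing_fibLocRing (A := A) (𝔔.comap (algebraMap B T))
  let p : Ideal A := RingHom.ker (algebraMap A L)
  have hp : p.IsPrime := RingHom.ker_isPrime _
  let φ : p.ResidueField →+* L := Ideal.ResidueField.lift p (algebraMap A L) le_rfl (by
    intro a ha
    simp only [Submonoid.mem_comap, IsUnit.mem_submonoid_iff]
    exact IsUnit.mk0 _ (fun h => ha (RingHom.mem_ker.mpr h)))
  let _ : Algebra p.ResidueField L := φ.toAlgebra
  have : IsScalarTower A p.ResidueField L := .of_algebraMap_eq fun a => by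
    rw [RingHom.algebraMap_toAlgebra]
    exact (Ideal.ResidueField.lift_algebraMap ..).symm
  let _ : Algebra p.ResidueField T := ((algebraMap L T).comp φ).toAlgebra
  have : IsScalarTower p.ResidueField L T := .of_algebraMap_eq' rfl
  have : IsScalarTower A p.ResidueField T := .of_algebraMap_eq fun a => by
    rw [IsScalarTower.algebraMap_apply A L T, IsScalarTower.algebraMap_apply A p.ResidueField L,
      ← IsScalarTower.algebraMap_apply p.ResidueField L T]
  letI : Algebra B (p.Fiber B) := Algebra.TensorProduct.rightAlgebra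
  let ψ : p.Fiber B →ₐ[A] T := Algebra.TensorProduct.lift
    (IsScalarTower.toAlgHom A p.ResidueField T) (IsScalarTower.toAlgHom A B T)
    (fun _ _ => .all _ _)
  let _ : Algebra (p.Fiber B) T := ψ.toRingHom.toAlgebra
  have hκ : @IsScalarTower p.ResidueField (p.Fiber B) T Algebra.toSMul Algebra.toSMul
      Algebra.toSMul := .of_algebraMap_eq fun x => by
    simp [RingHom.algebraMap_toAlgebra, ψ, Algebra.TensorProduct.algebraMap_apply]
  have : IsScalarTower p.ResidueField (p.Fiber B) T := hκ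
  have : IsScalarTower B (p.Fiber B) T := .of_algebraMap_eq fun x => by
    simp [RingHom.algebraMap_toAlgebra, ψ, Algebra.TensorProduct.algebraMap_apply]
  have : IsScalarTower A (p.Fiber B) T := .of_algebraMap_eq fun a => (ψ.commutes a).symm
  have hpush : Algebra.IsPushout p.ResidueField L (p.Fiber B) T :=
    (Algebra.IsPushout.comp_iff A p.ResidueField B (p.Fiber B)).mp inferInstance
  haveI : Algebra.FiniteType p.ResidueField (p.Fiber B) := inferInstance
  haveI hNΦ : IsNoetherianRing (p.Fiber B) :=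
    Algebra.FiniteType.isNoetherianRing p.ResidueField (p.Fiber B)
  haveI hflat : Module.Flat (p.Fiber B) T :=
    Module.Flat.isBaseChange (R := p.ResidueField) (S := p.Fiber B) (M := L) T hpush.symm.out
  set Q : Ideal (p.Fiber B) := 𝔔.comap (algebraMap (p.Fiber B) T) with hQ
  haveI hlocF : IsLocalRing (EGA4.FibLocRing (p.Fiber B) T 𝔔) :=
    isLocalRing_fibLocRing (A := p.Fiber B) 𝔔
  have hr : 𝔔.comap (algebraMap B T) =
      Q.comap (Algebra.TensorProduct.includeRight : B →ₐ[A] p.Fiber B) := by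
    rw [hQ]
    ext b
    simp only [Ideal.mem_comap]
    have : algebraMap (p.Fiber B) T ((Algebra.TensorProduct.includeRight : B →ₐ[A] p.Fiber B) b) =
        algebraMap B T b := by
      rw [IsScalarTower.algebraMap_apply B (p.Fiber B) T]
      rfl
    rw [this]
  obtain ⟨e, he⟩ := Groth.Agent.Lib.H9QGor711.exists_localization_fiber_equiv_compat p Q
    (𝔔.comap (algebraMap B T)) hr
  haveI hNQ : IsNoetherianRing (Localization.AtPrime Q) :=
    IsLocalization.isNoetherianRing Q.primeCompl _ inferInstance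
  haveI hNR : IsNoetherianRing (EGA4.FibLocRing A B (𝔔.comap (algebraMap B T))) :=
    isNoetherianRing_of_ringEquiv _ e
  -- the `B`-algebra structure on the localization of the fibre ring
  let eAlg : Localization.AtPrime Q ≃ₐ[B] EGA4.FibLocRing A B (𝔔.comap (algebraMap B T)) :=
    AlgEquiv.ofRingEquiv (f := e) (fun b => by
      rw [IsScalarTower.algebraMap_apply B (p.Fiber B) (Localization.AtPrime Q)]
      exact he b)
  obtain ⟨h1, h2⟩ := hub_congr M (R := Localization.AtPrime Q)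
    (R' := EGA4.FibLocRing A B (𝔔.comap (algebraMap B T))) eAlg
  obtain ⟨h3, h4⟩ := hub_localization (B := B) M (C := p.Fiber B)
    (R := Localization.AtPrime Q) Q
  -- flat base change along the field extension
  obtain ⟨h5, h6⟩ := FBC.fbc (R := p.Fiber B) (S := T) 𝔔 Q hQ ((p.Fiber B) ⊗[B] M)
  let e5 : T ⊗[p.Fiber B] ((p.Fiber B) ⊗[B] M) ≃ₗ[T] T ⊗[B] M :=
    TensorProduct.AlgebraTensorModule.cancelBaseChange B (p.Fiber B) T T M
  obtain ⟨h7, h8⟩ := dep_dm_congr 𝔔 e5
  -- the fibre ring is Cohen–Macaulay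
  haveI : Algebra.EssFiniteType p.ResidueField (p.Fiber B) := inferInstance
  have hcm := cm_fibLocRing_of_pushout p.ResidueField L (p.Fiber B) T 𝔔
  haveI hNF : IsNoetherianRing (EGA4.FibLocRing (p.Fiber B) T 𝔔) := hcm.toIsNoetherian
  have hcm' := (isCohenMacaulayLocalRing_iff _).mp hcm
  obtain ⟨c, hc⟩ := ENat.ne_top_iff_exists.mp
    (Ideal.height_ne_top_of_isPrime
      (I := IsLocalRing.maximalIdeal (EGA4.FibLocRing (p.Fiber B) T 𝔔)))
  have hdep : dep 𝔔 (T ⊗[B] M) = fdep A M (𝔔.comap (algebraMap B T)) + c := by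
    rw [fdep_def, ← h7, h5, ← h3, h1, ← hcm', ← hc]
  -- the dimension identity
  have hII := fibLocRing_dim_add_ftd p.ResidueField L (p.Fiber B) T 𝔔 Q hQ
  rw [← IsLocalRing.maximalIdeal_height_eq_ringKrullDim, ← hc] at hII
  have hII' : c + ftd L 𝔔 = ftd p.ResidueField Q := by exact_mod_cast hII
  -- the transcendence degree is computed in the fibre
  have hF1 : ftd p.ResidueField Q = ftd A (𝔔.comap (algebraMap B T)) := by
    refine ftd_eq_of_fiberLike (A := A) (B := B) (κ := p.ResidueField) (Φ := p.Fiber B) p ?_ ?_ ?_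
      Q (𝔔.comap (algebraMap B T)) hr
    · intro a
      exact Ideal.algebraMap_residueField_eq_zero
    · intro z
      obtain ⟨x, y, hy, rfl⟩ := IsFractionRing.div_surjective (A := A ⧸ p) z
      obtain ⟨x, rfl⟩ := Ideal.Quotient.mk_surjective x
      obtain ⟨y, rfl⟩ := Ideal.Quotient.mk_surjective y
      exact ⟨x, y, rfl⟩
    · intro x
      obtain ⟨r, hr, s, e⟩ := Ideal.Fiber.exists_smul_eq_one_tmul p x
      refine ⟨r, hr, s, ?_⟩
      rw [← Algebra.smul_def, e]
      rfl
  rw [hdep, add_assoc, ← Nat.cast_add, hII', hF1]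

end Pushout

section BaseChange

open Groth.Agent.Lib.Helper28 Groth.Agent.Lib.Helper5 Groth.Agent.Lib.Helper5.GenDepth
open Groth.Agent.Lib.H9ModFibAlg

attribute [local instance] Algebra.TensorProduct.rightAlgebra

/-- the rectified depth of the fibre module at `q`. -/
noncomputable def rdep (A : Type u) {B : Type u} [CommRing A] [CommRing B] [Algebra A B]
    (M : Type u) [AddCommGroup M] [Module B M] (q : Ideal B) [q.IsPrime] : ℕ∞ :=
  fdep A M q + (ftd A q : ℕ∞)

set_option synthInstance.maxHeartbeats 400000 in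
set_option maxHeartbeats 3200000 in
/-- **Base change invariance** of the rectified depth of fibre modules. -/
theorem rdep_baseChange
    {A B A' B' : Type u} [CommRing A] [CommRing B] [CommRing A'] [CommRing B']
    [Algebra A B] [Algebra A A'] [Algebra B B'] [Algebra A' B'] [Algebra A B']
    [IsScalarTower A B B'] [IsScalarTower A A' B'] [Algebra.IsPushout A B A' B']
    [Algebra.FiniteType A B]
    (M : Type u) [AddCommGroup M] [Module B M] [Module.Finite B M]
    (M' : Type u) [AddCommGroup M'] [Module B' M'] [Module B M'] [IsScalarTower B B' M']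
    (f : M →ₗ[B] M') (hf : IsBaseChange B' f)
    (q' : Ideal B') [q'.IsPrime] (q : Ideal B) [q.IsPrime] (hq : q = q'.comap (algebraMap B B')) :
    rdep A' M' q' = rdep A M q := by
  set p' : Ideal A' := q'.comap (algebraMap A' B') with hp'
  obtain ⟨𝔔, h𝔔prime, hq𝔔⟩ := exists_prime_fiber_comap_eq (A := A') q'
  have hpo1 : Algebra.IsPushout A A' B B' := Algebra.IsPushout.symm inferInstance
  haveI : Algebra.FiniteType A' B' :=
    Algebra.FiniteType.equiv (inferInstanceAs (Algebra.FiniteType A' (A' ⊗[A] B)))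
      (Algebra.IsPushout.equiv A A' B B')
  haveI : Algebra.FiniteType p'.ResidueField (p'.Fiber B') := inferInstance
  haveI hNT : IsNoetherianRing (p'.Fiber B') :=
    Algebra.FiniteType.isNoetherianRing p'.ResidueField (p'.Fiber B')
  let _ : Algebra B (p'.Fiber B') :=
    ((algebraMap B' (p'.Fiber B')).comp (algebraMap B B')).toAlgebra
  have : IsScalarTower B B' (p'.Fiber B') := .of_algebraMap_eq' rfl
  have hAT : IsScalarTower A A' (p'.Fiber B') := inferInstance
  have : IsScalarTower A B (p'.Fiber B') := .of_algebraMap_eq fun a => by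
    rw [IsScalarTower.algebraMap_apply B B' (p'.Fiber B'),
      ← IsScalarTower.algebraMap_apply A B B', IsScalarTower.algebraMap_apply A A' B',
      ← IsScalarTower.algebraMap_apply A' B' (p'.Fiber B'),
      ← IsScalarTower.algebraMap_apply A A' (p'.Fiber B')]
  have : IsScalarTower A B' (p'.Fiber B') := .of_algebraMap_eq fun a => by
    rw [IsScalarTower.algebraMap_apply A A' B',
      ← IsScalarTower.algebraMap_apply A' B' (p'.Fiber B'),
      ← IsScalarTower.algebraMap_apply A A' (p'.Fiber B')]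
  have hpo2 : Algebra.IsPushout A' p'.ResidueField B' (p'.Fiber B') := inferInstance
  have hpo : Algebra.IsPushout A p'.ResidueField B (p'.Fiber B') :=
    (Algebra.IsPushout.comp_iff A A' B B').mpr hpo2
  have hq1 : q' = 𝔔.comap (algebraMap B' (p'.Fiber B')) := hq𝔔
  have hq2 : q = 𝔔.comap (algebraMap B (p'.Fiber B')) := by
    rw [hq]
    ext b
    rw [Ideal.mem_comap, Ideal.mem_comap]
    exact (Ideal.ext_iff.mp hq𝔔 (algebraMap B B' b))
  haveI : Module.Finite B' M' := Module.Finite.equiv hf.equiv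
  have k1 := pushout_rd (A := A') (B := B') p'.ResidueField
    (T := p'.Fiber B') M' 𝔔 q' hq1
  have k2 := pushout_rd (A := A) (B := B) p'.ResidueField
    (T := p'.Fiber B') M 𝔔 q hq2
  -- the two modules over `T` agree
  let e1 : (p'.Fiber B') ⊗[B'] M' ≃ₗ[p'.Fiber B'] (p'.Fiber B') ⊗[B'] (B' ⊗[B] M) :=
    TensorProduct.AlgebraTensorModule.congr
      (LinearEquiv.refl (p'.Fiber B') (p'.Fiber B')) hf.equiv.symm
  let e2 : (p'.Fiber B') ⊗[B'] (B' ⊗[B] M) ≃ₗ[p'.Fiber B'] (p'.Fiber B') ⊗[B] M :=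
    TensorProduct.AlgebraTensorModule.cancelBaseChange B B' (p'.Fiber B') (p'.Fiber B') M
  obtain ⟨h5, h6⟩ := dep_dm_congr 𝔔 (e1 ≪≫ₗ e2)
  unfold rdep
  rw [← k1, ← k2, h5]

end BaseChange

end

-- ===== part RdC =====
section

open Groth.Agent.Lib.Helper4.DimFormula Groth.Agent.Lib.Helper6.OpenDim TensorProduct
open Groth.Agent.Lib.Helper28 Groth.Agent.Lib.Helper5 Groth.Agent.Lib.Helper5.GenDepth
open Groth.Agent.Lib.H9ModFibAlg
open Groth.Agent.Lib.Helper5.CodepthOpen Groth.Agent.Lib.Helper5.RelCMOpen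

section Zero

/-- the relative transcendence degree vanishes when the residue ring is a quotient of the base. -/
theorem ftd_eq_zero_of_surjective {D E : Type u} [CommRing D] [CommRing E] [Algebra D E]
    (𝔔 : Ideal E) [𝔔.IsPrime]
    (h : ∀ e : E, ∃ d : D, e - algebraMap D E d ∈ 𝔔) : ftd D 𝔔 = 0 := by
  have hsurj : Function.Surjective (algebraMap (D ⧸ 𝔔.under D) (E ⧸ 𝔔)) := by
    intro x
    obtain ⟨e, rfl⟩ := Ideal.Quotient.mk_surjective x
    obtain ⟨d, hd⟩ := h e
    refine ⟨Ideal.Quotient.mk _ d, ?_⟩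
    rw [Ideal.Quotient.algebraMap_mk_of_liesOver]
    exact (Ideal.Quotient.eq.mpr hd).symm
  haveI : Nontrivial (D ⧸ 𝔔.under D) :=
    Ideal.Quotient.nontrivial_iff.mpr (Ideal.IsPrime.ne_top inferInstance)
  haveI : Algebra.IsIntegral (D ⧸ 𝔔.under D) (E ⧸ 𝔔) := Algebra.isIntegral_of_surjective hsurj
  haveI : Algebra.IsAlgebraic (D ⧸ 𝔔.under D) (E ⧸ 𝔔) := Algebra.IsIntegral.isAlgebraic
  unfold ftd
  rw [trdeg_eq_zero]
  simp

end Zero

section Curve

set_option synthInstance.maxHeartbeats 400000 in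
set_option maxHeartbeats 3200000 in
/-- generization of the rectified depth along a section over a Cohen–Macaulay local domain. -/
theorem rdep_le_of_section
    {A C D E : Type u} [CommRing A] [CommRing C] [CommRing D] [CommRing E]
    [Algebra A C] [Algebra A D] [Algebra C E] [Algebra D E] [Algebra A E]
    [IsScalarTower A C E] [IsScalarTower A D E] [Algebra.IsPushout A C D E]
    [Algebra.FiniteType A C] [IsDomain D] [IsLocalRing D]
    [hCM : LocCoh.IsCohenMacaulayRing D]
    (M : Type u) [AddCommGroup M] [Module C M] [Module A M] [IsScalarTower A C M]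
    [Module.Finite C M] [Module.Flat A M]
    (σ : E →+* D) (hσ : ∀ d, σ (algebraMap D E d) = d)
    (𝔮 Q' : Ideal C) [𝔮.IsPrime] [Q'.IsPrime]
    (h𝔮 : 𝔮 = (IsLocalRing.maximalIdeal D).comap (σ.comp (algebraMap C E)))
    (hQ' : Q' = RingHom.ker (σ.comp (algebraMap C E))) :
    rdep A M 𝔮 ≤ rdep A M Q' := by
  have hpo : Algebra.IsPushout A D C E := Algebra.IsPushout.symm inferInstance
  haveI : IsNoetherianRing D := inferInstance
  haveI : Algebra.FiniteType D E :=
    Algebra.FiniteType.equiv (inferInstanceAs (Algebra.FiniteType D (D ⊗[A] C)))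
      (Algebra.IsPushout.equiv A D C E)
  haveI : IsNoetherianRing E := Algebra.FiniteType.isNoetherianRing D E
  let f : M →ₗ[C] E ⊗[C] M := TensorProduct.mk C E M 1
  have hf : IsBaseChange E f := TensorProduct.isBaseChange C M E
  -- the two points
  set 𝔔c : Ideal E := (IsLocalRing.maximalIdeal D).comap σ with h𝔔c
  set 𝔔η : Ideal E := (⊥ : Ideal D).comap σ with h𝔔η
  haveI : 𝔔c.IsPrime := Ideal.comap_isPrime σ _
  haveI : 𝔔η.IsPrime := Ideal.comap_isPrime σ _
  have hle : 𝔔η ≤ 𝔔c := Ideal.comap_mono bot_le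
  have h1 : 𝔮 = 𝔔c.comap (algebraMap C E) := by rw [h𝔮, h𝔔c, Ideal.comap_comap]
  have h2 : Q' = 𝔔η.comap (algebraMap C E) := by
    rw [hQ', h𝔔η, Ideal.comap_comap, RingHom.ker_eq_comap_bot]
  have hσid : σ.comp (algebraMap D E) = RingHom.id D := RingHom.ext hσ
  have h3 : 𝔔c.comap (algebraMap D E) = IsLocalRing.maximalIdeal D := by
    rw [h𝔔c, Ideal.comap_comap, hσid, Ideal.comap_id]
  have h4 : 𝔔η.comap (algebraMap D E) = ⊥ := by
    rw [h𝔔η, Ideal.comap_comap, hσid, Ideal.comap_id]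
  -- flatness of the base change
  haveI : Module.Flat D (E ⊗[C] M) :=
    Module.Flat.of_linearEquiv (Algebra.IsPushout.cancelBaseChange A D C E M)
  -- base change invariance
  have hbc1 := rdep_baseChange (A := A) (B := C) (A' := D) (B' := E) M (E ⊗[C] M) f hf 𝔔c 𝔮 h1
  have hbc2 := rdep_baseChange (A := A) (B := C) (A' := D) (B' := E) M (E ⊗[C] M) f hf 𝔔η Q' h2
  rw [← hbc1, ← hbc2]
  -- the transcendence degrees vanish
  have hker : ∀ e : E, σ (e - algebraMap D E (σ e)) = 0 := by
    intro e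
    rw [map_sub, hσ, sub_self]
  have ht1 : ftd D 𝔔c = 0 := ftd_eq_zero_of_surjective 𝔔c (fun e => ⟨σ e, by
    rw [h𝔔c, Ideal.mem_comap, hker]
    exact zero_mem _⟩)
  have ht2 : ftd D 𝔔η = 0 := ftd_eq_zero_of_surjective 𝔔η (fun e => ⟨σ e, by
    rw [h𝔔η, Ideal.mem_comap, hker]
    exact zero_mem _⟩)
  unfold rdep
  rw [ht1, ht2, Nat.cast_zero, add_zero, add_zero]
  -- Cohen–Macaulay base
  have hcmD : ∀ (𝔞 : Ideal D) [𝔞.IsPrime], dm 𝔞 D = ((dep 𝔞 D : ℕ∞) : WithBot ℕ∞) := by
    intro 𝔞 _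
    obtain ⟨e1, e2⟩ := dep_dm_self 𝔞
    rw [e1, e2]
    exact (hCM.isCohenMacaulayLocalRing_localization 𝔞).supportDim_eq_depth
  have hdmD : ∀ (𝔞 : Ideal D) [𝔞.IsPrime], dm 𝔞 D = ((𝔞.height : ℕ∞) : WithBot ℕ∞) := by
    intro 𝔞 _
    obtain ⟨-, e2⟩ := dep_dm_self 𝔞
    rw [e2, Module.supportDim_self_eq_ringKrullDim,
      IsLocalization.AtPrime.ringKrullDim_eq_height 𝔞 (Localization.AtPrime 𝔞)]
  have key : ∀ (𝔔 : Ideal E) [𝔔.IsPrime],
      dep 𝔔 (E ⊗[C] M) = dep (𝔔.comap (algebraMap D E)) D + fdep D (E ⊗[C] M) 𝔔 := by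
    intro 𝔔 _
    obtain ⟨hk, -⟩ := fiber_shift (A := D) (B := E) (E ⊗[C] M) 𝔔 D
    obtain ⟨e1, -⟩ := dep_dm_congr 𝔔 (X := E ⊗[C] M) (Y := (E ⊗[C] M) ⊗[D] D)
      (TensorProduct.AlgebraTensorModule.rid D E (E ⊗[C] M)).symm
    rw [← e1] at hk
    exact hk
  have k1 := key 𝔔c
  have k2 := key 𝔔η
  -- depths of the base
  have hd0 : dep (𝔔η.comap (algebraMap D E)) D = 0 := by
    have h5 := hcmD (𝔔η.comap (algebraMap D E))
    rw [hdmD] at h5
    have h6 : (𝔔η.comap (algebraMap D E)).height = 0 := by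
      rw [h4]
      exact Ideal.height_bot
    rw [h6] at h5
    exact (WithBot.coe_injective h5).symm
  have hdm : dep (𝔔c.comap (algebraMap D E)) D = (IsLocalRing.maximalIdeal D).height := by
    have h5 := hcmD (𝔔c.comap (algebraMap D E))
    rw [hdmD] at h5
    rw [← WithBot.coe_injective h5, h3]
  rw [hd0, zero_add] at k2
  rw [hdm] at k1
  by_cases hsupp : (⟨𝔔η, inferInstance⟩ : PrimeSpectrum E) ∈ Module.support E (E ⊗[C] M)
  swap
  · haveI : Subsingleton (LocalizedModule 𝔔η.primeCompl (E ⊗[C] M)) :=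
      Module.notMem_support_iff.mp hsupp
    have h0 : dep 𝔔η (E ⊗[C] M) = ⊤ := depth_eq_top_of_subsingleton
    rw [← k2, h0]
    exact le_top
  · haveI : Nontrivial (LocalizedModule 𝔔η.primeCompl (E ⊗[C] M)) :=
      Module.mem_support_iff.mp hsupp
    have h5 := Groth.Agent.Lib.Helper4.RectDepth.depth_localization_le_add 𝔔η 𝔔c (E ⊗[C] M) hle
    rw [ringKrullDim_localization_quotient_eq_height 𝔔η 𝔔c hle] at h5
    -- the height of `𝔔c/𝔔η` is at most the height of the maximal ideal of `D`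
    have h6 : (𝔔c.map (Ideal.Quotient.mk 𝔔η)).height ≤ (IsLocalRing.maximalIdeal D).height := by
      let φ : D →+* E ⧸ 𝔔η := (Ideal.Quotient.mk 𝔔η).comp (algebraMap D E)
      have hφ : Function.Surjective φ := by
        intro x
        obtain ⟨e, rfl⟩ := Ideal.Quotient.mk_surjective x
        refine ⟨σ e, ?_⟩
        change Ideal.Quotient.mk 𝔔η (algebraMap D E (σ e)) = Ideal.Quotient.mk 𝔔η e
        rw [Ideal.Quotient.eq, h𝔔η, Ideal.mem_comap, map_sub, hσ, sub_self]
        exact zero_mem _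
      haveI : (𝔔c.map (Ideal.Quotient.mk 𝔔η)).IsPrime :=
        Ideal.isPrime_map_quotientMk_of_isPrime hle
      have h7 := height_ker_add_height_le φ hφ (𝔔c.map (Ideal.Quotient.mk 𝔔η))
      have h8 : (𝔔c.map (Ideal.Quotient.mk 𝔔η)).comap φ = IsLocalRing.maximalIdeal D := by
        rw [← h3]
        ext d
        rw [Ideal.mem_comap, Ideal.mem_comap]
        change Ideal.Quotient.mk 𝔔η (algebraMap D E d) ∈ _ ↔ _
        rw [Ideal.mem_quotient_iff_mem hle]
      rw [h8] at h7
      exact le_trans le_add_self h7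
    have h9 : dep 𝔔c (E ⊗[C] M) ≤ dep 𝔔η (E ⊗[C] M) + (IsLocalRing.maximalIdeal D).height := by
      have : ((dep 𝔔c (E ⊗[C] M) : ℕ∞) : WithBot ℕ∞) ≤
          ((dep 𝔔η (E ⊗[C] M) + (𝔔c.map (Ideal.Quotient.mk 𝔔η)).height : ℕ∞) : WithBot ℕ∞) := h5
      exact (WithBot.coe_le_coe.mp this).trans (by gcongr)
    rw [k1, k2, add_comm] at h9
    have hfin : (IsLocalRing.maximalIdeal D).height ≠ ⊤ := Ideal.height_ne_top_of_isPrime
    exact (ENat.add_le_add_iff_right hfin).mp h9

end Curve

section Step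

attribute [local instance] Algebra.TensorProduct.rightAlgebra

variable {A C : Type u} [CommRing A] [CommRing C] [Algebra A C] [IsNoetherianRing C]
  [Algebra.FiniteType A C]
  (M : Type u) [AddCommGroup M] [Module C M] [Module A M] [IsScalarTower A C M]
  [Module.Finite C M] [Module.Flat A M]

set_option synthInstance.maxHeartbeats 400000 in
set_option maxHeartbeats 3200000 in
theorem rdep_le_step (Q' : Ideal C) [hQ' : Q'.IsPrime] (𝔭 : Ideal (C ⧸ Q')) [h𝔭 : 𝔭.IsPrime]
    (hht : 𝔭.height ≤ 1) :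
    rdep A M (𝔭.comap (Ideal.Quotient.mk Q')) ≤ rdep A M Q' := by
  haveI : IsDomain (C ⧸ Q') := Ideal.Quotient.isDomain Q'
  haveI : IsDomain (Localization.AtPrime 𝔭) :=
    IsLocalization.isDomain_localization
      (le_nonZeroDivisors_of_noZeroDivisors (fun h0 => h0 (zero_mem 𝔭)))
  haveI : IsNoetherianRing (Localization.AtPrime 𝔭) :=
    IsLocalization.isNoetherianRing 𝔭.primeCompl _ inferInstance
  have hdim : ringKrullDim (Localization.AtPrime 𝔭) ≤ 1 := by
    rw [IsLocalization.AtPrime.ringKrullDim_eq_height 𝔭 (Localization.AtPrime 𝔭)]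
    exact_mod_cast hht
  haveI hCM : LocCoh.IsCohenMacaulayRing (Localization.AtPrime 𝔭) :=
    isCohenMacaulayRing_of_isDomain_of_dim_le_one _ hdim
  haveI : IsScalarTower A C (Localization.AtPrime 𝔭) := .of_algebraMap_eq fun a => by
    rw [IsScalarTower.algebraMap_apply A (C ⧸ Q') (Localization.AtPrime 𝔭),
      IsScalarTower.algebraMap_apply C (C ⧸ Q') (Localization.AtPrime 𝔭),
      IsScalarTower.algebraMap_apply A C (C ⧸ Q')]
  let σ : (Localization.AtPrime 𝔭) ⊗[A] C →ₐ[Localization.AtPrime 𝔭] Localization.AtPrime 𝔭 :=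
    Algebra.TensorProduct.lift (Algebra.ofId _ _)
      (IsScalarTower.toAlgHom A C (Localization.AtPrime 𝔭)) (fun _ _ => .all _ _)
  have hσ : ∀ d, σ.toRingHom (algebraMap (Localization.AtPrime 𝔭)
      ((Localization.AtPrime 𝔭) ⊗[A] C) d) = d := fun d => σ.commutes d
  have hσC : σ.toRingHom.comp (algebraMap C ((Localization.AtPrime 𝔭) ⊗[A] C)) =
      algebraMap C (Localization.AtPrime 𝔭) := by
    ext c
    simp [σ, RingHom.algebraMap_toAlgebra]
  refine rdep_le_of_section (A := A) (C := C) (D := Localization.AtPrime 𝔭)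
    (E := (Localization.AtPrime 𝔭) ⊗[A] C) M σ.toRingHom hσ
    (𝔭.comap (Ideal.Quotient.mk Q')) Q' ?_ ?_
  · rw [hσC, IsScalarTower.algebraMap_eq C (C ⧸ Q') (Localization.AtPrime 𝔭), ← Ideal.comap_comap]
    exact (congrArg (Ideal.comap (Ideal.Quotient.mk Q'))
      (IsLocalization.AtPrime.under_maximalIdeal (Localization.AtPrime 𝔭) 𝔭)).symm
  · rw [hσC, IsScalarTower.algebraMap_eq C (C ⧸ Q') (Localization.AtPrime 𝔭),
      RingHom.ker_eq_comap_bot, ← Ideal.comap_comap, Ideal.comap_bot_of_injective _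
      (IsLocalization.injective (M := 𝔭.primeCompl) (Localization.AtPrime 𝔭)
        (le_nonZeroDivisors_of_noZeroDivisors (fun h0 => h0 (zero_mem 𝔭)))),
      ← RingHom.ker_eq_comap_bot]
    exact (Ideal.mk_ker).symm

/-- the rectified depth of the fibre module does not decrease under generization. -/
theorem rdep_mono (x : Ideal C) [hx' : x.IsPrime] :
    ∀ (I : Ideal C) [I.IsPrime], I ≤ x → rdep A M x ≤ rdep A M I := by
  intro I
  induction I using WellFoundedGT.induction with
  | ind I IH =>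
    intro hI hle
    by_cases heq : I = x
    · subst heq
      exact le_rfl
    · have hlt : I < x := lt_of_le_of_ne hle heq
      obtain ⟨p, hp, hht, hlt', hle'⟩ := exists_prime_height_le_one hlt
      haveI := hp
      have h₁ : rdep A M x ≤ rdep A M (p.comap (Ideal.Quotient.mk I)) :=
        IH _ hlt' hle'
      exact h₁.trans (rdep_le_step M I p hht)

end Step

end

-- ===== part RdD =====
section

open Groth.Agent.Lib.Helper4.DimFormula Groth.Agent.Lib.Helper6.OpenDim TensorProduct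
open Groth.Agent.Lib.Helper28 Groth.Agent.Lib.Helper5 Groth.Agent.Lib.Helper5.GenDepth
open Groth.Agent.Lib.H9ModFibAlg
open Groth.Agent.Lib.Helper5.CodepthOpen Groth.Agent.Lib.Helper5.RelCMOpen

section Aux

variable {B : Type u} [CommRing B] [IsNoetherianRing B]

/-- the dimension of `(B/p)_r` is the height of `r/p`. -/
theorem dm_quotient_eq_height (p r : Ideal B) [r.IsPrime] (hpr : p ≤ r) :
    dm r (B ⧸ p) = (((r.map (Ideal.Quotient.mk p)).height : ℕ∞) : WithBot ℕ∞) := by
  obtain ⟨-, h2⟩ := dep_dm_quotient r p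
  rw [h2, Module.supportDim_quotient_eq_ringKrullDim,
    ringKrullDim_localization_quotient_eq_height p r hpr]

end Aux

section Open

variable {A B : Type u} [CommRing A] [CommRing B] [Algebra A B] [IsNoetherianRing A]
  [IsNoetherianRing B] (M : Type u) [AddCommGroup M] [Module B M] [Module A M]
  [IsScalarTower A B M] [Module.Finite B M] [Module.Flat A M]

theorem enat_cancel {a a' c e : ℕ∞} {b b' : ℕ} (hc : c ≠ ⊤) (H1 : c + a = a' + e)
    (H2 : e + (b : ℕ∞) = c + (b' : ℕ∞)) : a + (b : ℕ∞) = a' + (b' : ℕ∞) := by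
  have h : a + (b : ℕ∞) + c = a' + (b' : ℕ∞) + c := by
    calc a + (b : ℕ∞) + c = (c + a) + b := by ring
      _ = a' + (e + b) := by rw [H1]; ring
      _ = a' + (b' : ℕ∞) + c := by rw [H2]; ring
  exact ENat.add_left_injective_of_ne_top hc h

set_option synthInstance.maxHeartbeats 400000 in
set_option maxHeartbeats 1600000 in
/-- Nagata's local condition for the rectified depth of fibre modules. -/
theorem rdep_nhd (n : ℕ) (hA : CMU A) (hB : CMU B) (hUC : CAlg.IsUniversallyCatenary A)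
    [Algebra.FiniteType A B] (q : PrimeSpectrum B)
    (hq : (n : ℕ∞) ≤ rdep A M q.asIdeal) :
    ∃ U : Set (PrimeSpectrum B), IsOpen U ∧
      (U ∩ PrimeSpectrum.zeroLocus (q.asIdeal : Set B)).Nonempty ∧
      U ∩ PrimeSpectrum.zeroLocus (q.asIdeal : Set B) ⊆
        {r : PrimeSpectrum B | (n : ℕ∞) ≤ rdep A M r.asIdeal} := by
  set p : Ideal A := q.asIdeal.comap (algebraMap A B) with hp
  haveI : Module.Finite B (M ⊗[A] (A ⧸ p)) := TensorDim.finite_tensor A B (A ⧸ p) M
  have hshift : ∀ r : PrimeSpectrum B,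
      dep r.asIdeal (M ⊗[A] (A ⧸ p)) =
        dep (r.asIdeal.comap (algebraMap A B)) (A ⧸ p) + fdep A M r.asIdeal := fun r =>
    (fiber_shift (A := A) (B := B) M r.asIdeal (A ⧸ p)).1
  by_cases hsupp : q ∈ Module.support B (M ⊗[A] (A ⧸ p))
  swap
  · refine ⟨(Module.support B (M ⊗[A] (A ⧸ p)))ᶜ,
      Module.isClosed_support.isOpen_compl, ⟨q, hsupp, ?_⟩, ?_⟩
    · rw [PrimeSpectrum.mem_zeroLocus]
    · rintro r ⟨hr1, hrV⟩
      rw [PrimeSpectrum.mem_zeroLocus, SetLike.coe_subset_coe] at hrV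
      have hpr : p ≤ r.asIdeal.comap (algebraMap A B) := Ideal.comap_mono hrV
      haveI : Subsingleton (LocalizedModule r.asIdeal.primeCompl (M ⊗[A] (A ⧸ p))) :=
        Module.notMem_support_iff.mp hr1
      have h0 : dep r.asIdeal (M ⊗[A] (A ⧸ p)) = ⊤ := depth_eq_top_of_subsingleton
      have h1 := hshift r
      rw [h0] at h1
      have h2 : dep (r.asIdeal.comap (algebraMap A B)) (A ⧸ p) ≠ ⊤ :=
        dep_ne_top _ _ (mem_support_quotient p _ hpr)
      have h3 : fdep A M r.asIdeal = ⊤ := by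
        rcases ENat.add_eq_top.mp h1.symm with h4 | h4
        · exact absurd h4 h2
        · exact h4
      change (n : ℕ∞) ≤ rdep A M r.asIdeal
      unfold rdep
      rw [h3, top_add]
      exact le_top
  · obtain ⟨g, hgq, hg⟩ := P_all q.asIdeal (M ⊗[A] (A ⧸ p)) hsupp
    obtain ⟨h, hhq, hh⟩ := hB q.asIdeal
    obtain ⟨f, hfp, hf⟩ := hA p
    have hfq : algebraMap A B f ∉ q.asIdeal := hfp
    -- depth of `(A/p)` at primes in the good locus
    have hbase : ∀ (p' : Ideal A) [p'.IsPrime] (hpp' : p ≤ p'), f ∉ p' →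
        dep p' (A ⧸ p) = (p'.map (Ideal.Quotient.mk p)).height := by
      intro p' _ hpp' hfp'
      have h1 := hf p' hpp' hfp'
      rw [dm_quotient_eq_height p p' hpp'] at h1
      exact (WithBot.coe_injective h1).symm
    have hp0 : dep p (A ⧸ p) = 0 := by
      rw [hbase p le_rfl hfp]
      have : p.map (Ideal.Quotient.mk p) = ⊥ := by
        rw [Ideal.map_eq_bot_iff_le_ker, Ideal.mk_ker]
      rw [this]
      haveI : Nontrivial (A ⧸ p) :=
        Ideal.Quotient.nontrivial_iff.mpr (Ideal.IsPrime.ne_top inferInstance)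
      exact Ideal.height_bot
    have hq0 : dep q.asIdeal (M ⊗[A] (A ⧸ p)) = fdep A M q.asIdeal := by
      have := hshift q
      change _ = dep p (A ⧸ p) + _ at this
      rw [hp0, zero_add] at this
      exact this
    refine ⟨(PrimeSpectrum.basicOpen g : Set (PrimeSpectrum B)) ∩
      (PrimeSpectrum.basicOpen h : Set (PrimeSpectrum B)) ∩
      (PrimeSpectrum.basicOpen (algebraMap A B f) : Set (PrimeSpectrum B)),
      ((PrimeSpectrum.basicOpen g).isOpen.inter (PrimeSpectrum.basicOpen h).isOpen).inter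
        (PrimeSpectrum.basicOpen _).isOpen, ⟨q, ⟨⟨hgq, hhq⟩, hfq⟩, ?_⟩, ?_⟩
    · rw [PrimeSpectrum.mem_zeroLocus]
    · rintro r ⟨⟨⟨hr1, hr2⟩, hr3⟩, hrV⟩
      rw [PrimeSpectrum.mem_zeroLocus, SetLike.coe_subset_coe] at hrV
      have hpr : p ≤ r.asIdeal.comap (algebraMap A B) := Ideal.comap_mono hrV
      have hfr : f ∉ r.asIdeal.comap (algebraMap A B) := hr3
      obtain ⟨k1, -⟩ := hg r.asIdeal hrV hr1
      have k2 := hh r.asIdeal hrV hr2
      rw [dm_quotient_eq_height q.asIdeal r.asIdeal hrV] at k2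
      have k2' : dep r.asIdeal (B ⧸ q.asIdeal) =
          (r.asIdeal.map (Ideal.Quotient.mk q.asIdeal)).height :=
        (WithBot.coe_injective k2).symm
      have k3 := hbase (r.asIdeal.comap (algebraMap A B)) hpr hfr
      have k4 := hshift r
      rw [k1, hq0, k2', k3] at k4
      have k5 := height_map_add_eq (A := A) (B := B) hUC r.asIdeal q.asIdeal hrV
      have hfin : ((r.asIdeal.comap (algebraMap A B)).map (Ideal.Quotient.mk p)).height ≠ ⊤ := by
        haveI : ((r.asIdeal.comap (algebraMap A B)).map (Ideal.Quotient.mk p)).IsPrime :=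
          Ideal.isPrime_map_quotientMk_of_isPrime hpr
        exact Ideal.height_ne_top_of_isPrime
      change (n : ℕ∞) ≤ rdep A M r.asIdeal
      unfold rdep at hq ⊢
      rw [enat_cancel hfin k4.symm k5]
      exact hq

/-- **Noetherian case**: the rectified depth of the fibre modules of a flat module is lower
semicontinuous. -/
theorem isOpen_rdep_noeth (n : ℕ) (hA : CMU A) (hB : CMU B) (hUC : CAlg.IsUniversallyCatenary A)
    [Algebra.FiniteType A B] :
    IsOpen {r : PrimeSpectrum B | (n : ℕ∞) ≤ rdep A M r.asIdeal} := by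
  apply Groth.Agent.Lib.Helper7.RegOpen.isOpen_of_nagata
  · intro x y hyx hx
    have hle : y.asIdeal ≤ x.asIdeal := (PrimeSpectrum.le_iff_specializes y x).mpr hyx
    exact le_trans hx (rdep_mono M x.asIdeal y.asIdeal hle)
  · intro q hq
    exact rdep_nhd M n hA hB hUC q hq

end Open

end

-- ===== part RdE =====
section

open Groth.Agent.Lib.Helper4.DimFormula Groth.Agent.Lib.Helper6.OpenDim TensorProduct
open Groth.Agent.Lib.Helper28 Groth.Agent.Lib.Helper5 Groth.Agent.Lib.Helper5.GenDepth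
open Groth.Agent.Lib.H9ModFibAlg
open Groth.Agent.Lib.Helper5.CodepthOpen Groth.Agent.Lib.Helper5.FibCodepthConstr

theorem isUniversallyCatenary_of_finiteType_int (A : Type u) [CommRing A] [Algebra ℤ A]
    (hA : Algebra.FiniteType ℤ A) : CAlg.IsUniversallyCatenary A := by
  obtain ⟨n, φ, hφ⟩ := Algebra.FiniteType.iff_quotient_mvPolynomial''.mp hA
  haveI : IsRegularRing (ULift.{u} (MvPolynomial (Fin n) ℤ)) :=
    IsRegularRing.of_ringEquiv (ULift.ringEquiv (R := MvPolynomial (Fin n) ℤ)).symm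
  letI : Algebra (ULift.{u} (MvPolynomial (Fin n) ℤ)) A :=
    (φ.toRingHom.comp (ULift.ringEquiv (R := MvPolynomial (Fin n) ℤ)).toRingHom).toAlgebra
  have hsurj : Function.Surjective (algebraMap (ULift.{u} (MvPolynomial (Fin n) ℤ)) A) :=
    hφ.comp (ULift.ringEquiv (R := MvPolynomial (Fin n) ℤ)).surjective
  haveI : LocCoh.IsCohenMacaulayRing (ULift.{u} (MvPolynomial (Fin n) ℤ)) :=
    Groth.Agent.Lib.Helper28.SecFinite.isCohenMacaulayRing_of_isRegularRing _
  have hUC := Groth.Agent.S0603.result (ULift.{u} (MvPolynomial (Fin n) ℤ))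
  haveI : Algebra.FiniteType (ULift.{u} (MvPolynomial (Fin n) ℤ)) A :=
    Algebra.FiniteType.of_surjective (Algebra.ofId _ A) hsurj
  exact Groth.Agent.S9126.result _ A hUC

set_option synthInstance.maxHeartbeats 400000 in
set_option maxHeartbeats 1600000 in
/-- **EGA IV 12.1.1 (v) (algebraic form)**: for `B` of finite presentation over `A` and `M` a
finitely presented `B`-module flat over `A`, the rectified depth of the fibre modules is lower
semicontinuous on `Spec B`. -/
theorem isOpen_rdep (n : ℕ) {A B : Type u} [CommRing A] [CommRing B] [Algebra A B]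
    [Algebra.FinitePresentation A B] (M : Type u) [AddCommGroup M] [Module B M] [Module A M]
    [IsScalarTower A B M] [Module.FinitePresentation B M] [Module.Flat A M] :
    IsOpen {r : PrimeSpectrum B | (n : ℕ∞) ≤ rdep A M r.asIdeal} := by
  obtain ⟨A₀, i1, i2, B₀, i3, i4, i5, i6, i7, i8, M₀, i9, i10, i11, i12, i13, i14, f, h1, h2, h3,
    h4, h5, h6⟩ := Groth.Agent.Lib.Helper3.FlatModelMod.exists_flat_module_model A B M
  haveI := h2
  haveI := h3
  haveI := h4
  haveI : IsNoetherianRing A₀ := Algebra.FiniteType.isNoetherianRing ℤ A₀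
  haveI : IsNoetherianRing B₀ := Algebra.FiniteType.isNoetherianRing A₀ B₀
  have hA₀ : CMU A₀ := cmu_of_finiteType_int A₀ h1
  have hB₀ : CMU B₀ := cmu_of_finiteType_int B₀ (Algebra.FiniteType.trans h1 h2)
  have hUC : CAlg.IsUniversallyCatenary A₀ := isUniversallyCatenary_of_finiteType_int A₀ h1
  have hopen := isOpen_rdep_noeth (A := A₀) (B := B₀) M₀ n hA₀ hB₀ hUC
  haveI hpo : Algebra.IsPushout A₀ B₀ A B := Algebra.IsPushout.symm h5
  have heq : {r : PrimeSpectrum B | (n : ℕ∞) ≤ rdep A M r.asIdeal} =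
      PrimeSpectrum.comap (algebraMap B₀ B) ⁻¹'
        {r : PrimeSpectrum B₀ | (n : ℕ∞) ≤ rdep A₀ M₀ r.asIdeal} := by
    ext r
    have := rdep_baseChange (A := A₀) (B := B₀) (A' := A) (B' := B) M₀ M f h6 r.asIdeal
      (r.asIdeal.comap (algebraMap B₀ B)) rfl
    change _ ≤ rdep A M r.asIdeal ↔ _ ≤ rdep A₀ M₀ (r.asIdeal.comap (algebraMap B₀ B))
    rw [this]
  rw [heq]
  exact hopen.preimage (PrimeSpectrum.continuous_comap (algebraMap B₀ B))

end

end Groth.Agent.Lib.H9RectDepthAlg
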