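import Mathlib
import Groth.Agent.Lib.Helper5LocusGeneric
import Groth.Agent.Lib.Helper3ModelMod

/-! Constructibility of fibrewise loci of finitely presented modules by generic stratification of the base (module analogue of Helper5LocusGeneric, algebra level): ModLocus (family of subsets L A B M of Spec B), ModLocus.BC (base change compatibility), ModLocus.Gen (generic constructibility over domains of finite type over ℤ after inverting g), stratum_mod, exists_stratum_mod, isConstructible_of_generic_mod (base of finite type over ℤ), isConstructible_preimage_comap, isConstructible_of_generic_fp (A arbitrary, B f.p., M f.p.) (helper9). -/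

set_option autoImplicit false
set_option linter.style.haveILetI false
set_option linter.unusedSimpArgs false
set_option linter.unusedVariables false
universe u

namespace Groth.Agent.Lib.H9ModLocus

-- ===== part McA =====
section

open TensorProduct Topology CategoryTheory CategoryTheory.Limits AlgebraicGeometry TopologicalSpace
open Groth.Agent.Lib.Helper5.LocusGeneric

attribute [local instance] Algebra.TensorProduct.rightAlgebra

/-- a family of subsets of `Spec B` attached to triples `(A, B, M)`. -/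
abbrev ModLocus := ∀ (A B M : Type u) [CommRing A] [CommRing B] [Algebra A B] [AddCommGroup M]
  [Module B M], Set (PrimeSpectrum B)

/-- compatibility of a module locus with arbitrary base change `A → A'`. -/
def ModLocus.BC (L : ModLocus.{u}) : Prop :=
  ∀ {A B A' B' : Type u} [CommRing A] [CommRing B] [CommRing A'] [CommRing B']
    [Algebra A B] [Algebra A A'] [Algebra B B'] [Algebra A' B'] [Algebra A B']
    [IsScalarTower A B B'] [IsScalarTower A A' B'] [Algebra.IsPushout A B A' B']
    [Algebra.FiniteType A B]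
    (M : Type u) [AddCommGroup M] [Module B M] [Module.Finite B M]
    (M' : Type u) [AddCommGroup M'] [Module B' M'] [Module B M'] [IsScalarTower B B' M']
    (f : M →ₗ[B] M') (_ : IsBaseChange B' f),
    L A' B' M' = PrimeSpectrum.comap (algebraMap B B') ⁻¹' L A B M

variable (L : ModLocus.{u})

set_option maxHeartbeats 1600000 in
theorem stratum_mod (hbc : L.BC)
    (A B A₁ : Type u) [CommRing A] [CommRing B] [CommRing A₁] [Algebra A B] [Algebra A A₁]
    [Algebra.FiniteType A B] [IsNoetherianRing A]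
    (M : Type u) [AddCommGroup M] [Module B M] [Module.Finite B M]
    (hs : Function.Surjective (algebraMap A A₁)) (a : A) (g : A₁) (hg : algebraMap A A₁ a = g)
    (hcon : IsConstructible (L (Localization.Away g) (Localization.Away g ⊗[A₁] (A₁ ⊗[A] B))
      ((Localization.Away g ⊗[A₁] (A₁ ⊗[A] B)) ⊗[A₁ ⊗[A] B] ((A₁ ⊗[A] B) ⊗[B] M)))) :
    IsConstructible (L A B M ∩ PrimeSpectrum.comap (algebraMap A B) ⁻¹'
        (PrimeSpectrum.zeroLocus (RingHom.ker (algebraMap A A₁) : Set A) ∩
          (PrimeSpectrum.basicOpen a : Set (PrimeSpectrum A)))) := by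
  haveI : IsNoetherianRing B := Algebra.FiniteType.isNoetherianRing A B
  haveI : IsNoetherianRing A₁ := isNoetherianRing_of_surjective A A₁ (algebraMap A A₁) hs
  haveI : IsNoetherianRing (A₁ ⊗[A] B) := Algebra.FiniteType.isNoetherianRing A₁ (A₁ ⊗[A] B)
  haveI : NoetherianSpace ↥(Spec (CommRingCat.of B)) :=
    inferInstanceAs (NoetherianSpace (PrimeSpectrum B))
  haveI : NoetherianSpace ↥(Spec (CommRingCat.of (A₁ ⊗[A] B))) :=
    inferInstanceAs (NoetherianSpace (PrimeSpectrum (A₁ ⊗[A] B)))
  -- the two cartesian squares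
  have sq1 : IsPullback
      (Spec.map (CommRingCat.ofHom
        (Algebra.TensorProduct.includeRight (R := A) (A := A₁) (B := B)).toRingHom))
      (Spec.map (CommRingCat.ofHom (algebraMap A₁ (A₁ ⊗[A] B))))
      (Spec.map (CommRingCat.ofHom (algebraMap A B)))
      (Spec.map (CommRingCat.ofHom (algebraMap A A₁))) :=
    (isPullback_SpecMap_of_isPushout _ _ _ _ (CommRingCat.isPushout_tensorProduct A A₁ B)).flip
  have sq2 : IsPullback
      (Spec.map (CommRingCat.ofHom
        (Algebra.TensorProduct.includeRight (R := A₁) (A := Localization.Away g)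
          (B := A₁ ⊗[A] B)).toRingHom))
      (Spec.map (CommRingCat.ofHom
        (algebraMap (Localization.Away g) (Localization.Away g ⊗[A₁] (A₁ ⊗[A] B)))))
      (Spec.map (CommRingCat.ofHom (algebraMap A₁ (A₁ ⊗[A] B))))
      (Spec.map (CommRingCat.ofHom (algebraMap A₁ (Localization.Away g)))) :=
    (isPullback_SpecMap_of_isPushout _ _ _ _
      (CommRingCat.isPushout_tensorProduct A₁ (Localization.Away g) (A₁ ⊗[A] B))).flip
  have hpaste := sq2.paste_horiz sq1
  haveI : Module.Finite (A₁ ⊗[A] B) ((A₁ ⊗[A] B) ⊗[B] M) := inferInstance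
  have hL1 : L A₁ (A₁ ⊗[A] B) ((A₁ ⊗[A] B) ⊗[B] M) =
      PrimeSpectrum.comap (algebraMap B (A₁ ⊗[A] B)) ⁻¹' L A B M :=
    hbc (A := A) (B := B) (A' := A₁) (B' := A₁ ⊗[A] B) M ((A₁ ⊗[A] B) ⊗[B] M)
      (TensorProduct.mk B (A₁ ⊗[A] B) M 1) (TensorProduct.isBaseChange B M (A₁ ⊗[A] B))
  have hL2 : L (Localization.Away g) (Localization.Away g ⊗[A₁] (A₁ ⊗[A] B))
      ((Localization.Away g ⊗[A₁] (A₁ ⊗[A] B)) ⊗[A₁ ⊗[A] B] ((A₁ ⊗[A] B) ⊗[B] M)) =
      PrimeSpectrum.comap (algebraMap (A₁ ⊗[A] B) (Localization.Away g ⊗[A₁] (A₁ ⊗[A] B))) ⁻¹'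
        L A₁ (A₁ ⊗[A] B) ((A₁ ⊗[A] B) ⊗[B] M) :=
    hbc (A := A₁) (B := A₁ ⊗[A] B) (A' := Localization.Away g)
      (B' := Localization.Away g ⊗[A₁] (A₁ ⊗[A] B)) ((A₁ ⊗[A] B) ⊗[B] M)
      ((Localization.Away g ⊗[A₁] (A₁ ⊗[A] B)) ⊗[A₁ ⊗[A] B] ((A₁ ⊗[A] B) ⊗[B] M))
      (TensorProduct.mk (A₁ ⊗[A] B) (Localization.Away g ⊗[A₁] (A₁ ⊗[A] B))
        ((A₁ ⊗[A] B) ⊗[B] M) 1)
      (TensorProduct.isBaseChange (A₁ ⊗[A] B) ((A₁ ⊗[A] B) ⊗[B] M)
        (Localization.Away g ⊗[A₁] (A₁ ⊗[A] B)))
  haveI : IsClosedImmersion (Spec.map (CommRingCat.ofHom (algebraMap A A₁))) :=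
    IsClosedImmersion.spec_of_surjective _ hs
  haveI hι₁ : IsClosedImmersion (Spec.map (CommRingCat.ofHom
      (Algebra.TensorProduct.includeRight (R := A) (A := A₁) (B := B)).toRingHom)) :=
    MorphismProperty.of_isPullback (P := @IsClosedImmersion) sq1.flip inferInstance
  haveI hι₂ : IsOpenImmersion (Spec.map (CommRingCat.ofHom
      (Algebra.TensorProduct.includeRight (R := A₁) (A := Localization.Away g)
        (B := A₁ ⊗[A] B)).toRingHom)) :=
    MorphismProperty.of_isPullback (P := @IsOpenImmersion) sq2.flip inferInstance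
  -- the range of the immersion of the stratum
  have hj : Set.range (Spec.map (CommRingCat.ofHom (algebraMap A₁ (Localization.Away g))) ≫
      Spec.map (CommRingCat.ofHom (algebraMap A A₁))) =
      PrimeSpectrum.zeroLocus (RingHom.ker (algebraMap A A₁) : Set A) ∩
        (PrimeSpectrum.basicOpen a : Set (PrimeSpectrum A)) := by
    ext y
    constructor
    · rintro ⟨z, rfl⟩
      refine ⟨?_, ?_⟩
      · intro x hx
        show algebraMap A₁ (Localization.Away g) (algebraMap A A₁ x) ∈ z.asIdeal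
        rw [RingHom.mem_ker.mp hx, map_zero]
        exact zero_mem _
      · show ¬ algebraMap A₁ (Localization.Away g) (algebraMap A A₁ a) ∈ z.asIdeal
        rw [hg]
        intro h
        exact z.2.ne_top
          (Ideal.eq_top_of_isUnit_mem _ h (IsLocalization.Away.algebraMap_isUnit g))
    · rintro ⟨hy1, hy2⟩
      have h1 : y ∈ Set.range (PrimeSpectrum.comap (algebraMap A A₁)) := by
        rw [range_comap_of_surjective A₁ (algebraMap A A₁) hs]
        exact hy1
      obtain ⟨y₁, rfl⟩ := h1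
      have h2 : y₁ ∈ Set.range (PrimeSpectrum.comap (algebraMap A₁ (Localization.Away g))) := by
        rw [PrimeSpectrum.localization_away_comap_range (Localization.Away g) g]
        show g ∉ y₁.asIdeal
        rw [← hg]
        exact hy2
      obtain ⟨z, rfl⟩ := h2
      exact ⟨z, rfl⟩
  have hrange := Scheme.image_preimage_eq_of_isPullback hpaste.flip Set.univ
  rw [Set.preimage_univ, Set.image_univ, Set.image_univ] at hrange
  have heq : L A B M ∩ PrimeSpectrum.comap (algebraMap A B) ⁻¹'
        (PrimeSpectrum.zeroLocus (RingHom.ker (algebraMap A A₁) : Set A) ∩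
          (PrimeSpectrum.basicOpen a : Set (PrimeSpectrum A))) =
      (Spec.map (CommRingCat.ofHom
        (Algebra.TensorProduct.includeRight (R := A) (A := A₁) (B := B)).toRingHom)) ''
      ((Spec.map (CommRingCat.ofHom
        (Algebra.TensorProduct.includeRight (R := A₁) (A := Localization.Away g)
          (B := A₁ ⊗[A] B)).toRingHom)) ''
        L (Localization.Away g) (Localization.Away g ⊗[A₁] (A₁ ⊗[A] B))
          ((Localization.Away g ⊗[A₁] (A₁ ⊗[A] B)) ⊗[A₁ ⊗[A] B] ((A₁ ⊗[A] B) ⊗[B] M))) := by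
    rw [hL2, hL1]
    ext x
    constructor
    · rintro ⟨hxL, hxS⟩
      have hx := (Set.ext_iff.mp hrange x).mpr ((Set.ext_iff.mp hj _).mpr hxS)
      obtain ⟨w, rfl⟩ := hx
      exact ⟨_, ⟨w, hxL, rfl⟩, rfl⟩
    · rintro ⟨_, ⟨w, hw, rfl⟩, rfl⟩
      exact ⟨hw, (Set.ext_iff.mp hj _).mp ((Set.ext_iff.mp hrange _).mp ⟨w, rfl⟩)⟩
  rw [heq]
  exact (hcon.image_of_isOpenEmbedding (Scheme.Hom.isOpenEmbedding _)
    (isRetrocompact_of_noetherianSpace _)).image_of_isClosedEmbedding
    (Scheme.Hom.isClosedEmbedding _) (isRetrocompact_of_noetherianSpace _)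

/-- the generic hypothesis: over a domain of finite type over `ℤ` the locus is constructible after
inverting a nonzero element of the base. -/
def ModLocus.Gen (L : ModLocus.{u}) : Prop :=
  ∀ (A₁ B₁ M₁ : Type u) [CommRing A₁] [IsDomain A₁] [CommRing B₁] [Algebra A₁ B₁]
    [Algebra.FiniteType A₁ B₁] [AddCommGroup M₁] [Module B₁ M₁] [Module.Finite B₁ M₁]
    [Algebra ℤ A₁], Algebra.FiniteType ℤ A₁ →
    ∃ g : A₁, g ≠ 0 ∧ IsConstructible (L (Localization.Away g) (Localization.Away g ⊗[A₁] B₁)
      ((Localization.Away g ⊗[A₁] B₁) ⊗[B₁] M₁))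

theorem exists_stratum_mod (hbc : L.BC) (hgen : L.Gen)
    (A B : Type u) [CommRing A] [CommRing B] [Algebra A B] [Algebra.FiniteType A B]
    (M : Type u) [AddCommGroup M] [Module B M] [Module.Finite B M]
    (hA : Algebra.FiniteType ℤ A) (𝔭 : Ideal A) [𝔭.IsPrime] :
    ∃ a : A, a ∉ 𝔭 ∧ IsConstructible (L A B M ∩ PrimeSpectrum.comap (algebraMap A B) ⁻¹'
        (PrimeSpectrum.zeroLocus (𝔭 : Set A) ∩
          (PrimeSpectrum.basicOpen a : Set (PrimeSpectrum A)))) := by
  haveI : IsNoetherianRing A := Algebra.FiniteType.isNoetherianRing ℤ A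
  have hA₁ : Algebra.FiniteType ℤ (A ⧸ 𝔭) :=
    Algebra.FiniteType.of_surjective (Ideal.Quotient.mkₐ ℤ 𝔭) (Ideal.Quotient.mkₐ_surjective ℤ 𝔭)
  obtain ⟨g, hg0, hcon⟩ := hgen (A ⧸ 𝔭) ((A ⧸ 𝔭) ⊗[A] B) (((A ⧸ 𝔭) ⊗[A] B) ⊗[B] M) hA₁
  obtain ⟨a, rfl⟩ := Ideal.Quotient.mk_surjective g
  have ha : a ∉ 𝔭 := fun h => hg0 (Ideal.Quotient.eq_zero_iff_mem.mpr h)
  refine ⟨a, ha, ?_⟩
  have h := stratum_mod L hbc A B (A ⧸ 𝔭) M Ideal.Quotient.mk_surjective a
    (Ideal.Quotient.mk 𝔭 a) rfl hcon
  rwa [Ideal.Quotient.algebraMap_eq, Ideal.mk_ker] at h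

/-- Over a base of finite type over `ℤ`, a module locus compatible with base change is
constructible as soon as it is generically constructible over every integral quotient. -/
theorem isConstructible_of_generic_mod (hbc : L.BC) (hgen : L.Gen)
    (A B : Type u) [CommRing A] [CommRing B] [Algebra A B] [Algebra.FiniteType A B]
    (M : Type u) [AddCommGroup M] [Module B M] [Module.Finite B M]
    (hA : Algebra.FiniteType ℤ A) : IsConstructible (L A B M) := by
  haveI : IsNoetherianRing A := Algebra.FiniteType.isNoetherianRing ℤ A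
  refine isConstructible_of_forall_irreducible (PrimeSpectrum.comap (algebraMap A B)) (L A B M)
    fun Z hZc hZi => ?_
  haveI h𝔭 : (PrimeSpectrum.vanishingIdeal (Z : Set (PrimeSpectrum A))).IsPrime :=
    PrimeSpectrum.isIrreducible_iff_vanishingIdeal_isPrime.mp hZi
  obtain ⟨a, ha, hcon⟩ := exists_stratum_mod L hbc hgen A B M hA
    (PrimeSpectrum.vanishingIdeal (Z : Set (PrimeSpectrum A)))
  have hZ : PrimeSpectrum.zeroLocus
      (PrimeSpectrum.vanishingIdeal (Z : Set (PrimeSpectrum A)) : Set A) =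
      (Z : Set (PrimeSpectrum A)) := by
    rw [PrimeSpectrum.zeroLocus_vanishingIdeal_eq_closure]
    exact hZc.closure_eq
  rw [hZ] at hcon
  refine ⟨(PrimeSpectrum.basicOpen a : Set (PrimeSpectrum A)), (PrimeSpectrum.basicOpen a).isOpen,
    ⟨⟨_, h𝔭⟩, ?_, ha⟩, hcon⟩
  have : (⟨_, h𝔭⟩ : PrimeSpectrum A) ∈
      PrimeSpectrum.zeroLocus (PrimeSpectrum.vanishingIdeal (Z : Set (PrimeSpectrum A)) : Set A) :=
    fun x hx => hx
  rwa [hZ] at this

/-- preimages of constructible sets under `Spec` of a ring map are constructible. -/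
theorem isConstructible_preimage_comap {R S : Type u} [CommRing R] [CommRing S] (φ : R →+* S)
    {s : Set (PrimeSpectrum R)} (hs : IsConstructible s) :
    IsConstructible (PrimeSpectrum.comap φ ⁻¹' s) :=
  (Spec.map (CommRingCat.ofHom φ)).isConstructible_preimage hs

/-- **General case**: for `B` of finite presentation over an arbitrary ring `A` and `M` a finitely
presented `B`-module. -/
theorem isConstructible_of_generic_fp (hbc : L.BC) (hgen : L.Gen)
    (A B : Type u) [CommRing A] [CommRing B] [Algebra A B] [Algebra.FinitePresentation A B]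
    (M : Type u) [AddCommGroup M] [Module B M] [Module.FinitePresentation B M] :
    IsConstructible (L A B M) := by
  letI : Module A M := Module.compHom M (algebraMap A B)
  haveI : IsScalarTower A B M := IsScalarTower.of_algebraMap_smul fun _ _ => rfl
  obtain ⟨A₀, i1, i2, B₀, i3, i4, i5, i6, i7, i8, M₀, i9, i10, i11, i12, i13, i14, f, h1, h2, h3,
    h5, h6⟩ := Groth.Agent.Lib.Helper3.ModelMod.exists_module_model A B M
  haveI := h2
  haveI := h3
  haveI hpo : Algebra.IsPushout A₀ B₀ A B := Algebra.IsPushout.symm h5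
  rw [hbc (A := A₀) (B := B₀) (A' := A) (B' := B) M₀ M f h6]
  exact isConstructible_preimage_comap _ (isConstructible_of_generic_mod L hbc hgen A₀ B₀ M₀ h1)

end

end Groth.Agent.Lib.H9ModLocus
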