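import Mathlib
import Groth.Agent.Lib.H9ModFibAlg
import Groth.Agent.Lib.Helper5FiberStalk
import Groth.Agent.Lib.Helper1Sky3
import Groth.Agent.Lib.Helper2FlatOpen
import Groth.Agent.Lib.Helper18Strict6

/-! Scheme bridge for fibre modules: kernel of the stalk map of fiberι (ker_stalkMap_fiberι), B-algebra identification of fibre stalks with EGA4.FibLocRing (nonempty_algEquiv_fibLocRing), chart form of depth/dimension of stalks of the pullback of F to a fibre (depth_supportDim_fiber_stalk), fiber_stalk_noeth_finite, EGA IV 12.1.1 (vi),(vii) for modules: openness of the fibre codepth locus (isOpen_fiber_codepth) and of the zero-or-CM locus (isOpen_fiber_cm), forall_fiber_iff / isOpen_forall_fiber (proper case), isOpen_base_fiber_codepth, isOpen_base_fiber_cm (helper9). -/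

set_option autoImplicit false
set_option linter.style.haveILetI false
set_option linter.unusedSimpArgs false
set_option linter.unusedVariables false
universe u

namespace Groth.Agent.Lib.H9ModFibSch

-- ===== part MFS =====
section

open AlgebraicGeometry CategoryTheory Limits IsLocalRing TensorProduct
open Groth.Agent.Lib.Helper5.FiberStalk
open Groth.Agent.Lib.H9ModFibAlg

variable {X Y : Scheme.{u}} (f : X ⟶ Y)

/-- the kernel of the stalk map of the inclusion of a fibre is `m_y O_X`. -/
theorem ker_stalkMap_fiberι (y : Y) (z : f.fiber y) :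
    RingHom.ker ((f.fiberι y).stalkMap z).hom =
      (maximalIdeal (Y.presheaf.stalk (f (f.fiberι y z)))).map
        (f.stalkMap (f.fiberι y z)).hom := by
  refine le_antisymm ?_ (map_maximalIdeal_le_ker f y z)
  have key : ∀ (x : X) (y : Y) (hy : y = f x) (z : f.fiber y) (hz : f.fiberι y z = x),
      RingHom.ker ((f.fiberι y).stalkMap z).hom ≤
        (maximalIdeal (Y.presheaf.stalk (f (f.fiberι y z)))).map
          (f.stalkMap (f.fiberι y z)).hom := by
    intro x y hy
    subst hy
    intro z hz
    obtain rfl : z = toFiber f x (closedPoint (Q f x)) :=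
      (f.fiberι (f x)).isEmbedding.injective (hz.trans (fiberι_toFiber_closedPoint f x).symm)
    intro s' hs'
    rw [RingHom.mem_ker] at hs'
    obtain ⟨U, hU, t, rfl⟩ := X.presheaf.exists_germ_eq s'
    have hxU : x ∈ U := by
      rw [← fiberι_toFiber_closedPoint f x]
      exact hU
    have e1 : ((f.fiberι (f x)).stalkMap (toFiber f x (closedPoint (Q f x))))
        (X.presheaf.germ U _ hU t) =
        (f.fiber (f x)).presheaf.germ ((f.fiberι (f x)) ⁻¹ᵁ U) _ hU
          ((f.fiberι (f x)).app U t) :=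
      Scheme.Hom.germ_stalkMap_apply (f.fiberι (f x)) U _ hU t
    have hs'' : (f.fiber (f x)).presheaf.germ ((f.fiberι (f x)) ⁻¹ᵁ U) _ hU
          ((f.fiberι (f x)).app U t) = 0 := e1.symm.trans hs'
    have h2 := stalkClosedPointTo_toFiber_germ f x U hxU t hU
    rw [hs'', map_zero] at h2
    have h3 : X.presheaf.germ U x hxU t ∈ fibIdeal f x :=
      Ideal.Quotient.eq_zero_iff_mem.mp h2.symm
    exact (germ_mem_fibIdeal_congr f (fiberι_toFiber_closedPoint f x) U hU t).mpr h3
  have hy : y = f (f.fiberι y z) := by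
    have h1 : f.fiberι y z ∈ Set.range (f.fiberι y) := ⟨z, rfl⟩
    rw [Scheme.Hom.range_fiberι] at h1
    exact h1.symm
  exact key (f.fiberι y z) y hy z rfl

section Alg

/-- a quotient of a localization of `B` at `q` by the ideal generated by `q ∩ A` is the fibre local
ring, as a `B`-algebra. -/
theorem nonempty_algEquiv_fibLocRing {A B : Type u} [CommRing A] [CommRing B] [Algebra A B]
    (q : Ideal B) [q.IsPrime] (S : Type u) [CommRing S] [Algebra B S] [IsLocalization.AtPrime S q]
    (R : Type u) [CommRing R] [Algebra B R] [Algebra S R] [IsScalarTower B S R]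
    (hsurj : Function.Surjective (algebraMap S R))
    (hker : RingHom.ker (algebraMap S R) =
      ((q.comap (algebraMap A B)).map (algebraMap A B)).map (algebraMap B S)) :
    Nonempty (R ≃ₐ[B] EGA4.FibLocRing A B q) := by
  let e₀ : S ≃ₐ[B] Localization.AtPrime q :=
    IsLocalization.algEquiv q.primeCompl S (Localization.AtPrime q)
  let g : S →ₐ[B] R := IsScalarTower.toAlgHom B S R
  have hg : Function.Surjective g := hsurj
  let e₁ : (S ⧸ RingHom.ker g) ≃ₐ[B] R := Ideal.quotientKerAlgEquivOfSurjective hg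
  have hI : (q.comap (algebraMap A B)).map (algebraMap A (Localization.AtPrime q)) =
      (RingHom.ker g).map (e₀ : S →+* Localization.AtPrime q) := by
    have : RingHom.ker g = RingHom.ker (algebraMap S R) := rfl
    rw [this, hker, Ideal.map_map, Ideal.map_map]
    congr 1
    ext a
    simp only [RingHom.comp_apply]
    rw [IsScalarTower.algebraMap_apply A B (Localization.AtPrime q)]
    exact (e₀.commutes (algebraMap A B a)).symm
  let e₂ : (S ⧸ RingHom.ker g) ≃ₐ[B] EGA4.FibLocRing A B q :=
    Ideal.quotientEquivAlg (RingHom.ker g) _ e₀ hI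
  exact ⟨e₁.symm.trans e₂⟩

/-- fibre local rings of finite type algebras are Noetherian. -/
theorem isNoetherianRing_fibLocRing {A B : Type u} [CommRing A] [CommRing B] [Algebra A B]
    [Algebra.FiniteType A B] (q : Ideal B) [q.IsPrime] :
    IsNoetherianRing (EGA4.FibLocRing A B q) := by
  obtain ⟨Q, hQ, hqQ⟩ := Groth.Agent.Lib.Helper28.exists_prime_fiber_comap_eq (A := A) q
  obtain ⟨e⟩ := Groth.Agent.Lib.Helper28.nonempty_localization_fiber_equiv
    (q.comap (algebraMap A B)) Q q hqQ
  haveI : Algebra.FiniteType (q.comap (algebraMap A B)).ResidueField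
      ((q.comap (algebraMap A B)).Fiber B) := inferInstance
  haveI : IsNoetherianRing ((q.comap (algebraMap A B)).Fiber B) :=
    Algebra.FiniteType.isNoetherianRing (q.comap (algebraMap A B)).ResidueField _
  haveI : IsNoetherianRing (Localization.AtPrime Q) :=
    IsLocalization.isNoetherianRing Q.primeCompl _ inferInstance
  exact isNoetherianRing_of_ringEquiv _ e

end Alg

section Chart

open Groth.Agent.Lib.Helper2.FlatOver Groth.Agent.Lib.Helper1.Sky

variable (F : X.Modules) [F.IsQuasicoherent] {U : X.Opens} (hU : IsAffineOpen U)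
  {V : Y.Opens} (hV : IsAffineOpen V) (e : U ≤ f ⁻¹ᵁ V)

include hV in
set_option synthInstance.maxHeartbeats 400000 in
set_option maxHeartbeats 3200000 in
/-- **Chart form of the fibre module**: depth and dimension of the stalk of the pullback of `F` to
a fibre are those of the algebraic fibre module of `Γ(F,U)`. -/
theorem depth_supportDim_fiber_stalk (hft : (f.appLE V U e).hom.FiniteType)
    [Module.Finite Γ(X, U) Γ(F, U)] (y : Y) (z : f.fiber y) (hzU : f.fiberι y z ∈ U) :
    letI : Algebra Γ(Y, V) Γ(X, U) := (f.appLE V U e).hom.toAlgebra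
    IsNoetherianRing ((f.fiber y).presheaf.stalk z) ∧
    Module.Finite ((f.fiber y).presheaf.stalk z)
        (((Scheme.Modules.pullback (f.fiberι y)).obj F).presheaf.stalk z) ∧
    LocCoh.depth ((f.fiber y).presheaf.stalk z)
        (((Scheme.Modules.pullback (f.fiberι y)).obj F).presheaf.stalk z) =
      fdep Γ(Y, V) Γ(F, U) (hU.primeIdealOf ⟨f.fiberι y z, hzU⟩).asIdeal ∧
    Module.supportDim ((f.fiber y).presheaf.stalk z)
        (((Scheme.Modules.pullback (f.fiberι y)).obj F).presheaf.stalk z) =
      fdm Γ(Y, V) Γ(F, U) (hU.primeIdealOf ⟨f.fiberι y z, hzU⟩).asIdeal := by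
  letI aVU : Algebra Γ(Y, V) Γ(X, U) := (f.appLE V U e).hom.toAlgebra
  haveI : Algebra.FiniteType Γ(Y, V) Γ(X, U) := hft
  set x' : X := f.fiberι y z with hx'
  set q : Ideal Γ(X, U) := (hU.primeIdealOf ⟨x', hzU⟩).asIdeal with hq
  -- the rings
  letI aBS : Algebra Γ(X, U) (X.presheaf.stalk x') :=
    TopCat.Presheaf.algebra_section_stalk X.presheaf ⟨x', hzU⟩
  haveI hlocS : IsLocalization.AtPrime (X.presheaf.stalk x') q := hU.isLocalization_stalk ⟨x', hzU⟩
  letI aSR : Algebra (X.presheaf.stalk x') ((f.fiber y).presheaf.stalk z) :=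
    ((f.fiberι y).stalkMap z).hom.toAlgebra
  letI aBR : Algebra Γ(X, U) ((f.fiber y).presheaf.stalk z) :=
    ((algebraMap (X.presheaf.stalk x') ((f.fiber y).presheaf.stalk z)).comp
      (algebraMap Γ(X, U) (X.presheaf.stalk x'))).toAlgebra
  haveI tBSR : IsScalarTower Γ(X, U) (X.presheaf.stalk x') ((f.fiber y).presheaf.stalk z) :=
    .of_algebraMap_eq' rfl
  -- the modules
  letI mBF : Module Γ(X, U) (F.presheaf.stalk x') := moduleStalkSections F U x' hzU
  haveI tBSF : IsScalarTower Γ(X, U) (X.presheaf.stalk x') (F.presheaf.stalk x') :=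
    ⟨fun b s m => by
      change (X.presheaf.germ U x' hzU b * s) • m = X.presheaf.germ U x' hzU b • (s • m)
      rw [mul_smul]⟩
  haveI hlocF := isLocalizedModule_germ hU F x' hzU
  let E1 : (((Scheme.Modules.pullback (f.fiberι y)).obj F).presheaf.stalk z) ≃ₗ[
      (f.fiber y).presheaf.stalk z]
      ((f.fiber y).presheaf.stalk z) ⊗[X.presheaf.stalk x'] (F.presheaf.stalk x') :=
    ((stalkPullbackIso (f.fiberι y) z).app F).toLinearEquiv
  let E2 : (X.presheaf.stalk x') ⊗[Γ(X, U)] Γ(F, U) ≃ₗ[X.presheaf.stalk x'] F.presheaf.stalk x' :=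
    (IsLocalizedModule.isBaseChange q.primeCompl (X.presheaf.stalk x')
      (germₗ F U x' hzU)).equiv
  let E3 : ((f.fiber y).presheaf.stalk z) ⊗[X.presheaf.stalk x']
        ((X.presheaf.stalk x') ⊗[Γ(X, U)] Γ(F, U)) ≃ₗ[(f.fiber y).presheaf.stalk z]
      ((f.fiber y).presheaf.stalk z) ⊗[Γ(X, U)] Γ(F, U) :=
    TensorProduct.AlgebraTensorModule.cancelBaseChange Γ(X, U) (X.presheaf.stalk x')
      ((f.fiber y).presheaf.stalk z) ((f.fiber y).presheaf.stalk z) Γ(F, U)
  let E4 : ((f.fiber y).presheaf.stalk z) ⊗[X.presheaf.stalk x']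
        ((X.presheaf.stalk x') ⊗[Γ(X, U)] Γ(F, U)) ≃ₗ[(f.fiber y).presheaf.stalk z]
      ((f.fiber y).presheaf.stalk z) ⊗[X.presheaf.stalk x'] (F.presheaf.stalk x') :=
    TensorProduct.AlgebraTensorModule.congr
      (LinearEquiv.refl ((f.fiber y).presheaf.stalk z) ((f.fiber y).presheaf.stalk z)) E2
  let E : (((Scheme.Modules.pullback (f.fiberι y)).obj F).presheaf.stalk z) ≃ₗ[
      (f.fiber y).presheaf.stalk z] ((f.fiber y).presheaf.stalk z) ⊗[Γ(X, U)] Γ(F, U) :=
    E1 ≪≫ₗ E4.symm ≪≫ₗ E3
  -- the ring identification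
  have hsurj : Function.Surjective (algebraMap (X.presheaf.stalk x')
      ((f.fiber y).presheaf.stalk z)) := (f.fiberι y).stalkMap_surjective z
  have hker : RingHom.ker (algebraMap (X.presheaf.stalk x') ((f.fiber y).presheaf.stalk z)) =
      ((q.comap (algebraMap Γ(Y, V) Γ(X, U))).map (algebraMap Γ(Y, V) Γ(X, U))).map
        (algebraMap Γ(X, U) (X.presheaf.stalk x')) := by
    have h0 : RingHom.ker (algebraMap (X.presheaf.stalk x') ((f.fiber y).presheaf.stalk z)) =
        RingHom.ker ((f.fiberι y).stalkMap z).hom := rfl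
    rw [h0, ker_stalkMap_fiberι f y z]
    letI aAS : Algebra Γ(Y, V) (Y.presheaf.stalk (f x')) :=
      TopCat.Presheaf.algebra_section_stalk Y.presheaf ⟨f x', e hzU⟩
    haveI := hV.isLocalization_stalk ⟨f x', e hzU⟩
    have hp : q.comap (algebraMap Γ(Y, V) Γ(X, U)) =
        (hV.primeIdealOf ⟨f x', e hzU⟩).asIdeal := by
      have h1 := IsAffineOpen.comap_primeIdealOf_appLE (f := f) V hV U hU e hzU
      have := congrArg PrimeSpectrum.asIdeal h1
      rw [PrimeSpectrum.comap_asIdeal] at this
      exact this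
    rw [hp, ← IsLocalization.AtPrime.map_eq_maximalIdeal
      (hV.primeIdealOf ⟨f x', e hzU⟩).asIdeal (Y.presheaf.stalk (f x')), Ideal.map_map,
      Ideal.map_map]
    congr 1
    ext a
    exact stalkMap_germ_eq f e x' hzU a
  obtain ⟨eR⟩ := nonempty_algEquiv_fibLocRing (A := Γ(Y, V)) q (X.presheaf.stalk x')
    ((f.fiber y).presheaf.stalk z) hsurj hker
  haveI hNR := isNoetherianRing_fibLocRing (A := Γ(Y, V)) q
  haveI hLR := Groth.Agent.Lib.Helper28.isLocalRing_fibLocRing (A := Γ(Y, V)) q
  haveI hNR' : IsNoetherianRing ((f.fiber y).presheaf.stalk z) :=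
    isNoetherianRing_of_ringEquiv _ eR.symm.toRingEquiv
  obtain ⟨h1, h2⟩ := hub_congr Γ(F, U) eR
  refine ⟨hNR', Module.Finite.equiv E.symm, ?_, ?_⟩
  · rw [fdep_def, ← h1]
    exact Groth.Agent.Lib.Helper28.idealDepth_congr E _
  · unfold fdm
    rw [← h2]
    exact Module.supportDim_eq_of_equiv E

end Chart

section Main

open Groth.Agent.Lib.Helper2.FlatOver Groth.Agent.Lib.Helper2.FinPres

set_option synthInstance.maxHeartbeats 400000 in
set_option maxHeartbeats 3200000 in
/-- **EGA IV 12.1.1 (vi)** (module version): the locus of points where the fibre module has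
codepth `≤ k` is open. -/
theorem isOpen_fiber_codepth [LocallyOfFinitePresentation f] (F : X.Modules)
    (hF : CohB1.IsFP F) (hflat : FlatMod.IsFlatOver f F) (k : ℕ) :
    IsOpen {x : X | Module.supportDim ((f.fiber (f.base x)).presheaf.stalk (f.asFiber x))
        (((Scheme.Modules.pullback (f.fiberι (f.base x))).obj F).presheaf.stalk (f.asFiber x)) ≤
      ((LocCoh.depth ((f.fiber (f.base x)).presheaf.stalk (f.asFiber x))
        (((Scheme.Modules.pullback (f.fiberι (f.base x))).obj F).presheaf.stalk (f.asFiber x)) :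
          ℕ∞) : WithBot ℕ∞) + k} := by
  haveI : F.IsQuasicoherent := Groth.Agent.Helper18Strict.isQCoh_of_isFP F hF
  haveI : SheafOfModules.IsFinitePresentation (R := X.ringCatSheaf) F := hF
  rw [isOpen_iff_forall_mem_open]
  intro x hx
  obtain ⟨V, hV, hxV⟩ : ∃ V : Y.Opens, IsAffineOpen V ∧ f.base x ∈ V := by
    obtain ⟨_, ⟨V, hV, rfl⟩, hxV, -⟩ :=
      Y.isBasis_affineOpens.exists_subset_of_mem_open (Set.mem_univ (f.base x)) isOpen_univ
    exact ⟨V, hV, hxV⟩
  obtain ⟨U, hU, hxU, hUV, hfpM⟩ := exists_affine_nhds_finitePresentation F x (f ⁻¹ᵁ V) hxV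
  have hfp : (f.appLE V U hUV).hom.FinitePresentation :=
    HasRingHomProperty.appLE (P := @LocallyOfFinitePresentation) f inferInstance ⟨V, hV⟩ ⟨U, hU⟩ hUV
  letI mVF : Module Γ(Y, V) Γ(F, U) := Module.compHom Γ(F, U) (f.appLE V U hUV).hom
  letI aVU : Algebra Γ(Y, V) Γ(X, U) := (f.appLE V U hUV).hom.toAlgebra
  haveI t1 : IsScalarTower Γ(Y, V) Γ(X, U) Γ(F, U) := IsScalarTower.of_algebraMap_smul (fun _ _ => rfl)
  haveI : Algebra.FinitePresentation Γ(Y, V) Γ(X, U) := hfp
  haveI hflM : Module.Flat Γ(Y, V) Γ(F, U) :=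
    flat_sections_of_isFlatOverAt f F hU hV hUV (fun x' _ => hflat x')
  have hW := isOpen_codLE k (A := Γ(Y, V)) (B := Γ(X, U)) Γ(F, U)
  set W := {q : PrimeSpectrum Γ(X, U) | CodLE k Γ(Y, V) Γ(F, U) q.asIdeal} with hWdef
  have hcont : Continuous (fun y : U => hU.primeIdealOf y) := hU.isoSpec.hom.continuous
  have hft : (f.appLE V U hUV).hom.FiniteType := RingHom.FiniteType.of_finitePresentation hfp
  have key : ∀ (x' : X) (hx' : x' ∈ U),
      (Module.supportDim ((f.fiber (f.base x')).presheaf.stalk (f.asFiber x'))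
        (((Scheme.Modules.pullback (f.fiberι (f.base x'))).obj F).presheaf.stalk (f.asFiber x')) ≤
      ((LocCoh.depth ((f.fiber (f.base x')).presheaf.stalk (f.asFiber x'))
        (((Scheme.Modules.pullback (f.fiberι (f.base x'))).obj F).presheaf.stalk (f.asFiber x')) :
          ℕ∞) : WithBot ℕ∞) + k) ↔ hU.primeIdealOf ⟨x', hx'⟩ ∈ W := by
    intro x' hx'
    have hzU : f.fiberι (f.base x') (f.asFiber x') ∈ U := by
      rw [f.fiberι_asFiber x']
      exact hx'
    obtain ⟨-, -, h1, h2⟩ :=
      depth_supportDim_fiber_stalk f F hU hV hUV hft (f.base x') (f.asFiber x') hzU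
    have hpt : hU.primeIdealOf ⟨f.fiberι (f.base x') (f.asFiber x'), hzU⟩ =
        hU.primeIdealOf ⟨x', hx'⟩ := by
      congr 1
      exact Subtype.ext (f.fiberι_asFiber x')
    rw [h1, h2, hpt]
    rfl
  refine ⟨Subtype.val '' ((fun y : U => hU.primeIdealOf y) ⁻¹' W), ?_,
    U.isOpen.isOpenMap_subtype_val _ (hW.preimage hcont), ?_⟩
  · rintro _ ⟨⟨x', hx'⟩, hx'W, rfl⟩
    exact (key x' hx').mpr hx'W
  · exact ⟨⟨x, hxU⟩, (key x hxU).mp hx, rfl⟩

/-- the fibre stalks are Noetherian and the fibre module stalks are finite. -/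
theorem fiber_stalk_noeth_finite [LocallyOfFiniteType f] (F : X.Modules)
    (hF : CohB1.IsFP F) (y : Y) (z : f.fiber y) :
    IsNoetherianRing ((f.fiber y).presheaf.stalk z) ∧
      Module.Finite ((f.fiber y).presheaf.stalk z)
        (((Scheme.Modules.pullback (f.fiberι y)).obj F).presheaf.stalk z) := by
  haveI : F.IsQuasicoherent := Groth.Agent.Helper18Strict.isQCoh_of_isFP F hF
  haveI : SheafOfModules.IsFinitePresentation (R := X.ringCatSheaf) F := hF
  set x : X := f.fiberι y z with hx
  obtain ⟨V, hV, hxV⟩ : ∃ V : Y.Opens, IsAffineOpen V ∧ f.base x ∈ V := by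
    obtain ⟨_, ⟨V, hV, rfl⟩, hxV, -⟩ :=
      Y.isBasis_affineOpens.exists_subset_of_mem_open (Set.mem_univ (f.base x)) isOpen_univ
    exact ⟨V, hV, hxV⟩
  obtain ⟨U, hU, hxU, hUV, hfpM⟩ := exists_affine_nhds_finitePresentation F x (f ⁻¹ᵁ V) hxV
  have hft : (f.appLE V U hUV).hom.FiniteType :=
    HasRingHomProperty.appLE (P := @LocallyOfFiniteType) f inferInstance ⟨V, hV⟩ ⟨U, hU⟩ hUV
  haveI : Module.Finite Γ(X, U) Γ(F, U) := inferInstance
  obtain ⟨h1, h2, -, -⟩ := depth_supportDim_fiber_stalk f F hU hV hUV hft y z hxU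
  exact ⟨h1, h2⟩

/-- "zero or Cohen–Macaulay" is codepth `≤ 0`. -/
theorem subsingleton_or_cm_iff {R : Type u} [CommRing R] [IsLocalRing R] [IsNoetherianRing R]
    {N : Type u} [AddCommGroup N] [Module R N] [Module.Finite R N] :
    (Subsingleton N ∨ LocCoh.IsCohenMacaulayModule R N) ↔
      Module.supportDim R N ≤ ((LocCoh.depth R N : ℕ∞) : WithBot ℕ∞) + (0 : ℕ) := by
  rw [Nat.cast_zero, add_zero]
  constructor
  · rintro (h | h)
    · rw [Module.supportDim_eq_bot_of_subsingleton]
      exact bot_le
    · exact le_of_eq h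
  · intro h
    by_cases hN : Subsingleton N
    · exact Or.inl hN
    · rw [not_subsingleton_iff_nontrivial] at hN
      exact Or.inr (le_antisymm h Groth.Agent.Lib.Helper28.depth_le_supportDim)

/-- **EGA IV 12.1.1 (vii)** (module version): the locus of points where the fibre module is zero
or Cohen–Macaulay is open. -/
theorem isOpen_fiber_cm [LocallyOfFinitePresentation f] (F : X.Modules)
    (hF : CohB1.IsFP F) (hflat : FlatMod.IsFlatOver f F) :
    IsOpen {x : X |
      Subsingleton (((Scheme.Modules.pullback (f.fiberι (f.base x))).obj F).presheaf.stalk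
        (f.asFiber x)) ∨
      LocCoh.IsCohenMacaulayModule ((f.fiber (f.base x)).presheaf.stalk (f.asFiber x))
        (((Scheme.Modules.pullback (f.fiberι (f.base x))).obj F).presheaf.stalk (f.asFiber x))} := by
  have h := isOpen_fiber_codepth f F hF hflat 0
  convert h using 1
  ext x
  obtain ⟨h1, h2⟩ := fiber_stalk_noeth_finite f F hF (f.base x) (f.asFiber x)
  haveI := h1
  haveI := h2
  exact subsingleton_or_cm_iff

end Main

section Proper

/-- a condition on all points of a fibre, in terms of the points of the source. -/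
theorem forall_fiber_iff (P : ∀ (y : Y), f.fiber y → Prop) (y : Y) :
    (∀ z : f.fiber y, P y z) ↔ ∀ x : X, f x = y → P (f x) (f.asFiber x) := by
  constructor
  · intro h x hx
    subst hx
    exact h _
  · intro h z
    have hy : f (f.fiberι y z) = y := by
      have : f.fiberι y z ∈ Set.range (f.fiberι y) := Set.mem_range_self z
      rw [f.range_fiberι y] at this
      exact this
    have key : ∀ (y' : Y) (hy' : y' = y) (z' : f.fiber y'),
        f.fiberι y' z' = f.fiberι y z → P y' z' → P y z := by
      intro y' hy'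
      subst hy'
      intro z' hz hP
      have : z' = z := (f.fiberι y').isEmbedding.injective hz
      subst this
      exact hP
    exact key (f (f.fiberι y z)) hy (f.asFiber (f.fiberι y z)) (f.fiberι_asFiber _)
      (h (f.fiberι y z) hy)

/-- for a closed map, an open condition on the points of the source gives an open condition on the
fibres. -/
theorem isOpen_forall_fiber [IsProper f] (P : ∀ (y : Y), f.fiber y → Prop)
    (hP : IsOpen {x : X | P (f x) (f.asFiber x)}) :
    IsOpen {y : Y | ∀ z : f.fiber y, P y z} := by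
  have hclosed : IsClosed (f '' {x : X | P (f x) (f.asFiber x)}ᶜ) :=
    f.isClosedMap _ hP.isClosed_compl
  have heq : {y : Y | ∀ z : f.fiber y, P y z} = (f '' {x : X | P (f x) (f.asFiber x)}ᶜ)ᶜ := by
    ext y
    rw [Set.mem_setOf_eq, forall_fiber_iff f P y]
    simp only [Set.mem_compl_iff, Set.mem_image, Set.mem_setOf_eq, not_exists, not_and, not_not]
    constructor
    · intro h x hx hfx
      exact hx (h x hfx)
    · intro h x hfx
      by_contra hcon
      exact h x hcon hfx
  rw [heq]
  exact hclosed.isOpen_compl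

/-- **EGA IV 12.2.1** (module version, codepth): for `f` proper of finite presentation, the set
of points of the base whose fibre module has codepth `≤ k` everywhere is open. -/
theorem isOpen_base_fiber_codepth [IsProper f] [LocallyOfFinitePresentation f] (F : X.Modules)
    (hF : CohB1.IsFP F) (hflat : FlatMod.IsFlatOver f F) (k : ℕ) :
    IsOpen {y : Y | ∀ x : ↥(f.fiber y),
      Module.supportDim ((f.fiber y).presheaf.stalk x)
        (((Scheme.Modules.pullback (f.fiberι y)).obj F).presheaf.stalk x) ≤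
      ((LocCoh.depth ((f.fiber y).presheaf.stalk x)
        (((Scheme.Modules.pullback (f.fiberι y)).obj F).presheaf.stalk x) : ℕ∞) : WithBot ℕ∞) + k} :=
  isOpen_forall_fiber f
    (fun y x => Module.supportDim ((f.fiber y).presheaf.stalk x)
        (((Scheme.Modules.pullback (f.fiberι y)).obj F).presheaf.stalk x) ≤
      ((LocCoh.depth ((f.fiber y).presheaf.stalk x)
        (((Scheme.Modules.pullback (f.fiberι y)).obj F).presheaf.stalk x) : ℕ∞) : WithBot ℕ∞) + k)
    (isOpen_fiber_codepth f F hF hflat k)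

/-- **EGA IV 12.2.1** (module version, Cohen–Macaulay): for `f` proper of finite presentation,
the set of points of the base whose fibre module is Cohen–Macaulay is open. -/
theorem isOpen_base_fiber_cm [IsProper f] [LocallyOfFinitePresentation f] (F : X.Modules)
    (hF : CohB1.IsFP F) (hflat : FlatMod.IsFlatOver f F) :
    IsOpen {y : Y | ∀ x : ↥(f.fiber y),
      Subsingleton (((Scheme.Modules.pullback (f.fiberι y)).obj F).presheaf.stalk x) ∨
      LocCoh.IsCohenMacaulayModule ((f.fiber y).presheaf.stalk x)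
        (((Scheme.Modules.pullback (f.fiberι y)).obj F).presheaf.stalk x)} :=
  isOpen_forall_fiber f
    (fun y x => Subsingleton (((Scheme.Modules.pullback (f.fiberι y)).obj F).presheaf.stalk x) ∨
      LocCoh.IsCohenMacaulayModule ((f.fiber y).presheaf.stalk x)
        (((Scheme.Modules.pullback (f.fiberι y)).obj F).presheaf.stalk x))
    (isOpen_fiber_cm f F hF hflat)

end Proper

end

end Groth.Agent.Lib.H9ModFibSch
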