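import Mathlib
import Groth.Agent.Lib.H9RectDepthAlg
import Groth.Agent.Lib.H9ModFibSch
import Groth.Agent.Lib.Helper4DimFormulaT
import Groth.Agent.Lib.Helper4DimFormulaG

/-! Scheme bridge for the rectified depth of fibre modules: topologicalKrullDim_closure_asFiber_eq_ptTrdeg (dimension of the closure of a point in its fibre = ptTrdeg), ptTrdeg_eq_ftd (chart form), isOpen_fiber_rectifiedDepth (EGA IV 12.1.1 (v): x ↦ prof (F_{f x})_x + dim closure{x} lower semicontinuous for F finitely presented and f-flat, f locally of finite presentation), isOpen_base_fiber_rectifiedDepth (EGA IV 12.2.1 proper version) (helper9). -/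

set_option autoImplicit false
set_option linter.style.haveILetI false
set_option linter.unusedSimpArgs false
set_option linter.unusedVariables false
universe u

namespace Groth.Agent.Lib.H9RectDepthSch

-- ===== part RdS =====
section

open AlgebraicGeometry CategoryTheory Limits IsLocalRing TensorProduct
open Groth.Agent.Lib.H9ModFibAlg Groth.Agent.Lib.H9ModFibSch
open Groth.Agent.Lib.Helper4.DimFormula Groth.Agent.Lib.Helper4.VarDim Groth.Agent.Lib.Helper4.FibDim
open Groth.Agent.Lib.H9RectDepthAlg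

variable {X Y : Scheme.{u}} (f : X ⟶ Y)

section Closure

/-- the dimension of the closure of a point in its fibre is the relative transcendence degree. -/
theorem topologicalKrullDim_closure_asFiber_eq_ptTrdeg [LocallyOfFiniteType f] (x : X) :
    topologicalKrullDim ↥(closure ({f.asFiber x} : Set ↥(f.fiber (f.base x)))) =
      ((ptTrdeg f x : ℕ) : WithBot ℕ∞) := by
  letI : (f.fiber (f.base x)).Over (Spec (CommRingCat.of (Y.residueField (f.base x)))) :=
    ⟨f.fiberToSpecResidueField (f.base x)⟩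
  haveI : LocallyOfFiniteType ((f.fiber (f.base x)) ↘
      Spec (CommRingCat.of (Y.residueField (f.base x)))) :=
    locallyOfFiniteType_fiberToSpecResidueField f _
  exact topologicalKrullDim_closure_singleton (Y.residueField (f.base x)) (f.fiber (f.base x))
    (f.asFiber x)

/-- chart form of the relative transcendence degree. -/
theorem ptTrdeg_eq_ftd [LocallyOfFiniteType f] {U : X.Opens} (hU : IsAffineOpen U) {V : Y.Opens}
    (hV : IsAffineOpen V) (e : U ≤ f ⁻¹ᵁ V) (x : X) (hx : x ∈ U) :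
    letI : Algebra Γ(Y, V) Γ(X, U) := (f.appLE V U e).hom.toAlgebra
    ptTrdeg f x = ftd Γ(Y, V) (hU.primeIdealOf ⟨x, hx⟩).asIdeal := by
  letI : Algebra Γ(Y, V) Γ(X, U) := (f.appLE V U e).hom.toAlgebra
  set q : Ideal Γ(X, U) := (hU.primeIdealOf ⟨x, hx⟩).asIdeal with hq
  have hp : q.under Γ(Y, V) = (hV.primeIdealOf ⟨f x, e hx⟩).asIdeal :=
    primeIdealOf_comap_appLE f hU hV e x hx
  have h1 := trdeg_residueFieldMap_eq_trdeg_quotient f hU hV e x hx (q.under Γ(Y, V)) q hq hp
  have h2 := trdeg_eq_ptTrdeg f x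
  rw [h1] at h2
  exact (ftd_eq_of_trdeg Γ(Y, V) (q.under Γ(Y, V)) q _ h2).symm

end Closure

section Main

open Groth.Agent.Lib.Helper2.FlatOver Groth.Agent.Lib.Helper2.FinPres

set_option synthInstance.maxHeartbeats 400000 in
set_option maxHeartbeats 3200000 in
/-- **EGA IV 12.1.1 (v)**: the rectified depth of the fibre modules is lower semicontinuous. -/
theorem isOpen_fiber_rectifiedDepth [LocallyOfFinitePresentation f] (F : X.Modules)
    (hF : CohB1.IsFP F) (hflat : FlatMod.IsFlatOver f F) (n : ℕ) :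
    IsOpen {x : X | (n : WithBot ℕ∞) ≤
      ((LocCoh.depth ((f.fiber (f.base x)).presheaf.stalk (f.asFiber x))
        (((Scheme.Modules.pullback (f.fiberι (f.base x))).obj F).presheaf.stalk (f.asFiber x)) :
          ℕ∞) : WithBot ℕ∞) +
        topologicalKrullDim ↥(closure ({f.asFiber x} : Set ↥(f.fiber (f.base x))))} := by
  haveI : F.IsQuasicoherent := Groth.Agent.Helper18Strict.isQCoh_of_isFP F hF
  haveI : SheafOfModules.IsFinitePresentation (R := X.ringCatSheaf) F := hF
  rw [isOpen_iff_forall_mem_open]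
  intro x hx
  obtain ⟨V, hV, hxV⟩ : ∃ V : Y.Opens, IsAffineOpen V ∧ f.base x ∈ V := by
    obtain ⟨_, ⟨V, hV, rfl⟩, hxV, -⟩ :=
      Y.isBasis_affineOpens.exists_subset_of_mem_open (Set.mem_univ (f.base x)) isOpen_univ
    exact ⟨V, hV, hxV⟩
  obtain ⟨U, hU, hxU, hUV, hfpM⟩ := exists_affine_nhds_finitePresentation F x (f ⁻¹ᵁ V) hxV
  have hfp : (f.appLE V U hUV).hom.FinitePresentation :=
    HasRingHomProperty.appLE (P := @LocallyOfFinitePresentation) f inferInstance ⟨V, hV⟩ ⟨U, hU⟩ hUV
  letI mVF : Module Γ(Y, V) Γ(F, U) := Module.compHom Γ(F, U) (f.appLE V U hUV).hom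
  letI aVU : Algebra Γ(Y, V) Γ(X, U) := (f.appLE V U hUV).hom.toAlgebra
  haveI t1 : IsScalarTower Γ(Y, V) Γ(X, U) Γ(F, U) := IsScalarTower.of_algebraMap_smul (fun _ _ => rfl)
  haveI : Algebra.FinitePresentation Γ(Y, V) Γ(X, U) := hfp
  haveI hflM : Module.Flat Γ(Y, V) Γ(F, U) :=
    flat_sections_of_isFlatOverAt f F hU hV hUV (fun x' _ => hflat x')
  have hW := isOpen_rdep n (A := Γ(Y, V)) (B := Γ(X, U)) Γ(F, U)
  set W := {q : PrimeSpectrum Γ(X, U) | (n : ℕ∞) ≤ rdep Γ(Y, V) Γ(F, U) q.asIdeal} with hWdef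
  have hcont : Continuous (fun y : U => hU.primeIdealOf y) := hU.isoSpec.hom.continuous
  have hft : (f.appLE V U hUV).hom.FiniteType := RingHom.FiniteType.of_finitePresentation hfp
  have key : ∀ (x' : X) (hx' : x' ∈ U),
      ((n : WithBot ℕ∞) ≤
      ((LocCoh.depth ((f.fiber (f.base x')).presheaf.stalk (f.asFiber x'))
        (((Scheme.Modules.pullback (f.fiberι (f.base x'))).obj F).presheaf.stalk (f.asFiber x')) :
          ℕ∞) : WithBot ℕ∞) +
        topologicalKrullDim ↥(closure ({f.asFiber x'} : Set ↥(f.fiber (f.base x'))))) ↔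
        hU.primeIdealOf ⟨x', hx'⟩ ∈ W := by
    intro x' hx'
    have hzU : f.fiberι (f.base x') (f.asFiber x') ∈ U := by
      rw [f.fiberι_asFiber x']
      exact hx'
    obtain ⟨-, -, h1, -⟩ :=
      depth_supportDim_fiber_stalk f F hU hV hUV hft (f.base x') (f.asFiber x') hzU
    have hpt : hU.primeIdealOf ⟨f.fiberι (f.base x') (f.asFiber x'), hzU⟩ =
        hU.primeIdealOf ⟨x', hx'⟩ := by
      congr 1
      exact Subtype.ext (f.fiberι_asFiber x')
    rw [h1, hpt, topologicalKrullDim_closure_asFiber_eq_ptTrdeg f x',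
      ptTrdeg_eq_ftd f hU hV hUV x' hx']
    change ((n : ℕ∞) : WithBot ℕ∞) ≤ ((_ + _ : ℕ∞) : WithBot ℕ∞) ↔ _
    rw [WithBot.coe_le_coe]
    rfl
  refine ⟨Subtype.val '' ((fun y : U => hU.primeIdealOf y) ⁻¹' W), ?_,
    U.isOpen.isOpenMap_subtype_val _ (hW.preimage hcont), ?_⟩
  · rintro _ ⟨⟨x', hx'⟩, hx'W, rfl⟩
    exact (key x' hx').mpr hx'W
  · exact ⟨⟨x, hxU⟩, (key x hxU).mp hx, rfl⟩

/-- **EGA IV 12.2.1** (rectified depth): for `f` proper of finite presentation, the set of points
of the base over which the rectified depth of the fibre module is at least `n` everywhere is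
open. -/
theorem isOpen_base_fiber_rectifiedDepth [IsProper f] [LocallyOfFinitePresentation f]
    (F : X.Modules) (hF : CohB1.IsFP F) (hflat : FlatMod.IsFlatOver f F) (n : ℕ) :
    IsOpen {y : Y | ∀ x : ↥(f.fiber y), (n : WithBot ℕ∞) ≤
      ((LocCoh.depth ((f.fiber y).presheaf.stalk x)
        (((Scheme.Modules.pullback (f.fiberι y)).obj F).presheaf.stalk x) : ℕ∞) : WithBot ℕ∞) +
        topologicalKrullDim ↥(closure ({x} : Set ↥(f.fiber y)))} :=
  isOpen_forall_fiber f
    (fun y x => (n : WithBot ℕ∞) ≤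
      ((LocCoh.depth ((f.fiber y).presheaf.stalk x)
        (((Scheme.Modules.pullback (f.fiberι y)).obj F).presheaf.stalk x) : ℕ∞) : WithBot ℕ∞) +
        topologicalKrullDim ↥(closure ({x} : Set ↥(f.fiber y))))
    (isOpen_fiber_rectifiedDepth f F hF hflat n)

end Main

end

end Groth.Agent.Lib.H9RectDepthSch
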