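import Mathlib
import Groth.Agent.Lib.H9ModLocus
import Groth.Agent.Lib.H9RectDepthAlg
import Groth.Agent.Lib.Helper2GenFree
import Groth.Agent.Lib.H9RectDepthSch
import Groth.Prelude.Def_CInt
import Groth.Prelude.Def_Coh
import Groth.Prelude.Def_CohB1

/-! Constructibility of the rectified depth of fibre modules (EGA IV 9.9.x/12.1.x, no flatness): fdep_eq_top_iff (flat Noetherian case: fibre depth is ⊤ off the support), isConstructible_rdep_flat, Lrd (level sets as ModLocus), lrd_bc, lrd_gen (via generic freeness), isConstructible_rdep (B f.p./A, M f.p.: level sets of rdep constructible in Spec B), fiber_rectifiedDepth_eq_rdep (chart form of prof + dim closure), isLocallyConstructible_fiber_rectifiedDepth_eq (scheme form) (helper9). -/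

set_option autoImplicit false
set_option linter.style.haveILetI false
set_option linter.unusedSimpArgs false
set_option linter.unusedVariables false
universe u

namespace Groth.Agent.Lib.H9RectDepthConstr

-- ===== part McB =====
section

open TensorProduct Topology
open Groth.Agent.Lib.Helper5.LocusGeneric
open Groth.Agent.Lib.H9ModLocus
open Groth.Agent.Lib.Helper4.DimFormula Groth.Agent.Lib.Helper6.OpenDim
open Groth.Agent.Lib.Helper28 Groth.Agent.Lib.Helper5 Groth.Agent.Lib.Helper5.GenDepth
open Groth.Agent.Lib.H9ModFibAlg Groth.Agent.Lib.H9RectDepthAlg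
open Groth.Agent.Lib.Helper5.CodepthOpen Groth.Agent.Lib.Helper5.FibCodepthConstr

attribute [local instance] Algebra.TensorProduct.rightAlgebra

section Flat

variable {A B : Type u} [CommRing A] [CommRing B] [Algebra A B] [IsNoetherianRing A]
  [IsNoetherianRing B] (M : Type u) [AddCommGroup M] [Module B M] [Module A M]
  [IsScalarTower A B M] [Module.Finite B M] [Module.Flat A M]

/-- the fibre module vanishes at `r` exactly when `M` does. -/
theorem fdep_eq_top_iff (r : PrimeSpectrum B) :
    fdep A M r.asIdeal = ⊤ ↔ r ∉ Module.support B (M ⊗[A] A) := by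
  haveI : Module.Finite B (M ⊗[A] A) := TensorDim.finite_tensor A B A M
  have h1 := (fiber_shift (A := A) (B := B) M r.asIdeal A).1
  have h2 : dep (r.asIdeal.comap (algebraMap A B)) A ≠ ⊤ :=
    dep_ne_top _ _ (mem_support_self _)
  constructor
  · intro h hr
    have := dep_ne_top r.asIdeal (M ⊗[A] A) hr
    rw [h1, h, add_top] at this
    exact this rfl
  · intro hr
    haveI : Subsingleton (LocalizedModule r.asIdeal.primeCompl (M ⊗[A] A)) :=
      Module.notMem_support_iff.mp hr
    have h0 : dep r.asIdeal (M ⊗[A] A) = ⊤ := depth_eq_top_of_subsingleton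
    rw [h0] at h1
    rcases ENat.add_eq_top.mp h1.symm with h4 | h4
    · exact absurd h4 h2
    · exact h4

theorem isConstructible_rdep_flat (n : ℕ∞) (hA : CMU A) (hB : CMU B)
    (hUC : CAlg.IsUniversallyCatenary A) [Algebra.FiniteType A B] :
    IsConstructible {r : PrimeSpectrum B | rdep A M r.asIdeal = n} := by
  haveI : Module.Finite B (M ⊗[A] A) := TensorDim.finite_tensor A B A M
  induction n using ENat.recTopCoe with
  | top =>
    have : {r : PrimeSpectrum B | rdep A M r.asIdeal = ⊤} = (Module.support B (M ⊗[A] A))ᶜ := by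
      ext r
      rw [Set.mem_setOf_eq, Set.mem_compl_iff, ← fdep_eq_top_iff]
      unfold rdep
      rw [ENat.add_eq_top]
      simp
    rw [this]
    exact IsOpen.isConstructible_of_noetherianSpace Module.isClosed_support.isOpen_compl
  | coe k =>
    have h1 := isOpen_rdep_noeth (A := A) (B := B) M k hA hB hUC
    have h2 := isOpen_rdep_noeth (A := A) (B := B) M (k + 1) hA hB hUC
    have : {r : PrimeSpectrum B | rdep A M r.asIdeal = (k : ℕ∞)} =
        {r : PrimeSpectrum B | (k : ℕ∞) ≤ rdep A M r.asIdeal} \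
          {r : PrimeSpectrum B | ((k + 1 : ℕ) : ℕ∞) ≤ rdep A M r.asIdeal} := by
      ext r
      simp only [Set.mem_setOf_eq, Set.mem_diff, not_le]
      constructor
      · intro h
        rw [h]
        refine ⟨le_rfl, ?_⟩
        exact_mod_cast Nat.lt_succ_self k
      · rintro ⟨h3, h4⟩
        refine le_antisymm ?_ h3
        rw [Nat.cast_add, Nat.cast_one] at h4
        exact Order.le_of_lt_add_one h4
    rw [this]
    exact (IsOpen.isConstructible_of_noetherianSpace h1).sdiff
      (IsOpen.isConstructible_of_noetherianSpace h2)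

end Flat

section Locus

/-- the level sets of the rectified depth as a module locus. -/
def Lrd (n : ℕ∞) : ModLocus.{u} := fun A B M _ _ _ _ _ =>
  {q : PrimeSpectrum B | rdep A M q.asIdeal = n}

theorem lrd_bc (n : ℕ∞) : (Lrd.{u} n).BC := by
  intro A B A' B' _ _ _ _ _ _ _ _ _ _ _ _ _ M _ _ _ M' _ _ _ _ f hf
  ext r
  have := rdep_baseChange (A := A) (B := B) (A' := A') (B' := B') M M' f hf r.asIdeal
    (r.asIdeal.comap (algebraMap B B')) rfl
  change rdep A' M' r.asIdeal = n ↔ rdep A M (r.asIdeal.comap (algebraMap B B')) = n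
  rw [this]

set_option synthInstance.maxHeartbeats 400000 in
set_option maxHeartbeats 1600000 in
theorem lrd_gen (n : ℕ∞) : (Lrd.{u} n).Gen := by
  intro A₁ B₁ M₁ _ _ _ _ _ _ _ _ _ hA₁
  haveI : IsNoetherianRing A₁ := Algebra.FiniteType.isNoetherianRing ℤ A₁
  letI : Module A₁ M₁ := Module.compHom M₁ (algebraMap A₁ B₁)
  haveI : IsScalarTower A₁ B₁ M₁ := IsScalarTower.of_algebraMap_smul fun _ _ => rfl
  obtain ⟨g, hg, -, hfree, -, -⟩ := Groth.Agent.Lib.Helper2.GenFree.exists_freeAway A₁ B₁ M₁
  refine ⟨g, hg, ?_⟩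
  haveI : Module.Free (Localization.Away g) (Localization.Away g ⊗[A₁] M₁) :=
    hfree.free (Localization.Away g) (TensorProduct.mk A₁ (Localization.Away g) M₁ 1)
  haveI hfp1 : Algebra.FinitePresentation A₁ (Localization.Away g) :=
    IsLocalization.Away.finitePresentation g
  have hft1 : Algebra.FiniteType A₁ (Localization.Away g) := inferInstance
  have hft2 : Algebra.FiniteType ℤ (Localization.Away g) := Algebra.FiniteType.trans hA₁ hft1
  haveI : IsNoetherianRing (Localization.Away g) := Algebra.FiniteType.isNoetherianRing ℤ _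
  have hft3 : Algebra.FiniteType ℤ (Localization.Away g ⊗[A₁] B₁) :=
    Algebra.FiniteType.trans hft2 inferInstance
  haveI : IsNoetherianRing (Localization.Away g ⊗[A₁] B₁) :=
    Algebra.FiniteType.isNoetherianRing ℤ _
  haveI : Module.Flat (Localization.Away g) ((Localization.Away g ⊗[A₁] B₁) ⊗[B₁] M₁) :=
    Module.Flat.of_linearEquiv
      (Algebra.IsPushout.cancelBaseChange A₁ (Localization.Away g) B₁
        (Localization.Away g ⊗[A₁] B₁) M₁)
  exact isConstructible_rdep_flat (A := Localization.Away g) (B := Localization.Away g ⊗[A₁] B₁)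
    ((Localization.Away g ⊗[A₁] B₁) ⊗[B₁] M₁) n (cmu_of_finiteType_int _ hft2)
    (cmu_of_finiteType_int _ hft3) (isUniversallyCatenary_of_finiteType_int _ hft2)

/-- **EGA IV 9.9.x / 12.1.x**: for `B` of finite presentation over `A` and `M` a finitely presented
`B`-module (no flatness), the level sets of the rectified depth of the fibre modules are
constructible in `Spec B`. -/
theorem isConstructible_rdep (n : ℕ∞) (A B : Type u) [CommRing A] [CommRing B] [Algebra A B]
    [Algebra.FinitePresentation A B] (M : Type u) [AddCommGroup M] [Module B M]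
    [Module.FinitePresentation B M] :
    IsConstructible {q : PrimeSpectrum B | rdep A M q.asIdeal = n} :=
  isConstructible_of_generic_fp (Lrd n) (lrd_bc n) (lrd_gen n) A B M

end Locus

end

-- ===== part McS =====
section

open AlgebraicGeometry CategoryTheory Limits IsLocalRing TensorProduct Topology
open Groth.Agent.Lib.H9ModFibAlg Groth.Agent.Lib.H9ModFibSch
open Groth.Agent.Lib.Helper4.DimFormula Groth.Agent.Lib.Helper4.VarDim Groth.Agent.Lib.Helper4.FibDim
open Groth.Agent.Lib.H9RectDepthAlg Groth.Agent.Lib.H9RectDepthSch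
open Groth.Agent.Lib.Helper2.FlatOver Groth.Agent.Lib.Helper2.FinPres

variable {X Y : Scheme.{u}} (f : X ⟶ Y)

set_option synthInstance.maxHeartbeats 400000 in
set_option maxHeartbeats 3200000 in
/-- chart form of the rectified depth of the fibre module at a point. -/
theorem fiber_rectifiedDepth_eq_rdep [LocallyOfFiniteType f] (F : X.Modules) [F.IsQuasicoherent]
    {U : X.Opens} (hU : IsAffineOpen U) {V : Y.Opens} (hV : IsAffineOpen V) (hUV : U ≤ f ⁻¹ᵁ V)
    (hft : (f.appLE V U hUV).hom.FiniteType) [Module.Finite Γ(X, U) Γ(F, U)]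
    (x' : X) (hx' : x' ∈ U) :
    letI : Algebra Γ(Y, V) Γ(X, U) := (f.appLE V U hUV).hom.toAlgebra
    ((LocCoh.depth ((f.fiber (f.base x')).presheaf.stalk (f.asFiber x'))
        (((Scheme.Modules.pullback (f.fiberι (f.base x'))).obj F).presheaf.stalk (f.asFiber x')) :
          ℕ∞) : WithBot ℕ∞) +
        topologicalKrullDim ↥(closure ({f.asFiber x'} : Set ↥(f.fiber (f.base x')))) =
      ((rdep Γ(Y, V) Γ(F, U) (hU.primeIdealOf ⟨x', hx'⟩).asIdeal : ℕ∞) : WithBot ℕ∞) := by
  letI aVU : Algebra Γ(Y, V) Γ(X, U) := (f.appLE V U hUV).hom.toAlgebra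
  have hzU : f.fiberι (f.base x') (f.asFiber x') ∈ U := by
    rw [f.fiberι_asFiber x']
    exact hx'
  obtain ⟨-, -, h1, -⟩ :=
    depth_supportDim_fiber_stalk f F hU hV hUV hft (f.base x') (f.asFiber x') hzU
  have hpt : hU.primeIdealOf ⟨f.fiberι (f.base x') (f.asFiber x'), hzU⟩ =
      hU.primeIdealOf ⟨x', hx'⟩ := by
    congr 1
    exact Subtype.ext (f.fiberι_asFiber x')
  rw [h1, hpt, topologicalKrullDim_closure_asFiber_eq_ptTrdeg f x',
    ptTrdeg_eq_ftd f hU hV hUV x' hx']
  rfl

set_option synthInstance.maxHeartbeats 400000 in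
set_option maxHeartbeats 3200000 in
/-- **EGA IV 9.9.x**: the rectified depth of the fibre modules is a locally constructible
function. -/
theorem isLocallyConstructible_fiber_rectifiedDepth_eq [LocallyOfFinitePresentation f]
    (F : X.Modules) (hF : CohB1.IsFP F) (n : ℕ∞) :
    IsLocallyConstructible {x : X |
      ((LocCoh.depth ((f.fiber (f.base x)).presheaf.stalk (f.asFiber x))
        (((Scheme.Modules.pullback (f.fiberι (f.base x))).obj F).presheaf.stalk (f.asFiber x)) :
          ℕ∞) : WithBot ℕ∞) +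
        topologicalKrullDim ↥(closure ({f.asFiber x} : Set ↥(f.fiber (f.base x)))) =
        ((n : ℕ∞) : WithBot ℕ∞)} := by
  haveI : F.IsQuasicoherent := Groth.Agent.Helper18Strict.isQCoh_of_isFP F hF
  haveI : SheafOfModules.IsFinitePresentation (R := X.ringCatSheaf) F := hF
  intro x
  obtain ⟨V, hV, hxV⟩ : ∃ V : Y.Opens, IsAffineOpen V ∧ f.base x ∈ V := by
    obtain ⟨_, ⟨V, hV, rfl⟩, hxV, -⟩ :=
      Y.isBasis_affineOpens.exists_subset_of_mem_open (Set.mem_univ (f.base x)) isOpen_univ
    exact ⟨V, hV, hxV⟩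
  obtain ⟨U, hU, hxU, hUV, hfpM⟩ := exists_affine_nhds_finitePresentation F x (f ⁻¹ᵁ V) hxV
  have hfp : (f.appLE V U hUV).hom.FinitePresentation :=
    HasRingHomProperty.appLE (P := @LocallyOfFinitePresentation) f inferInstance ⟨V, hV⟩ ⟨U, hU⟩ hUV
  letI aVU : Algebra Γ(Y, V) Γ(X, U) := (f.appLE V U hUV).hom.toAlgebra
  haveI : Algebra.FinitePresentation Γ(Y, V) Γ(X, U) := hfp
  have hW := isConstructible_rdep n Γ(Y, V) Γ(X, U) Γ(F, U)
  have hft : (f.appLE V U hUV).hom.FiniteType := RingHom.FiniteType.of_finitePresentation hfp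
  refine ⟨U, U.isOpen.mem_nhds hxU, U.isOpen, ?_⟩
  have hpre := hU.isoSpec.hom.isConstructible_preimage hW
  have heq : (Subtype.val : ↥U → X) ⁻¹' {x : X |
      ((LocCoh.depth ((f.fiber (f.base x)).presheaf.stalk (f.asFiber x))
        (((Scheme.Modules.pullback (f.fiberι (f.base x))).obj F).presheaf.stalk (f.asFiber x)) :
          ℕ∞) : WithBot ℕ∞) +
        topologicalKrullDim ↥(closure ({f.asFiber x} : Set ↥(f.fiber (f.base x)))) =
        ((n : ℕ∞) : WithBot ℕ∞)} =
      (fun y : U => hU.primeIdealOf y) ⁻¹'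
        {q : PrimeSpectrum Γ(X, U) | rdep Γ(Y, V) Γ(F, U) q.asIdeal = n} := by
    ext ⟨x', hx'⟩
    have key := fiber_rectifiedDepth_eq_rdep f F hU hV hUV hft x' hx'
    change _ = _ ↔ rdep Γ(Y, V) Γ(F, U) (hU.primeIdealOf ⟨x', hx'⟩).asIdeal = n
    rw [key, WithBot.coe_inj]
  change IsConstructible ((Subtype.val : ↥U → X) ⁻¹' _)
  rw [heq]
  exact hpre

end

end Groth.Agent.Lib.H9RectDepthConstr
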