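import Mathlib
import Groth.Agent.Lib.Helper28ComplAss
import Groth.Agent.Lib.Helper6NoEmb4

/-!
# Embedded primes and flat base change (helper2, run 2)

For a flat homomorphism `R → S` of Noetherian rings whose fibres have no embedded primes (in the
form: every associated prime of `S / P S` is minimal over `P S`) and such that associated primes
of `S` contract to associated primes of `R`, the ring `R` has no embedded primes iff `S` has none.
This applies to `S = R ⊗[k] K` for a field extension `K / k`.
-/
set_option autoImplicit false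
universe u
open TensorProduct

namespace Groth.Agent.Lib.R2H2.NoEmbBC

/-- a ring has no embedded associated primes -/
def NoEmbRing (R : Type u) [CommRing R] : Prop :=
  ∀ P ∈ associatedPrimes R R, ∀ Q ∈ associatedPrimes R R, P ≤ Q → P = Q

section Flat

variable {R S : Type u} [CommRing R] [CommRing S] [Algebra R S] [Module.Flat R S]

/-- going down: a minimal prime over `P S` contracts to `P`. -/
theorem comap_eq_of_mem_minimalPrimes_map (P : Ideal R) [P.IsPrime] (Q : Ideal S)
    (hQ : Q ∈ (P.map (algebraMap R S)).minimalPrimes) : Q.comap (algebraMap R S) = P := by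
  haveI : Q.IsPrime := hQ.1.1
  have hle : P ≤ Q.comap (algebraMap R S) := Ideal.map_le_iff_le_comap.mp hQ.1.2
  haveI : Q.LiesOver (Q.comap (algebraMap R S)) := ⟨rfl⟩
  obtain ⟨Q₃, hQ₃, hQ₃p, hQ₃l⟩ := Ideal.exists_ideal_le_liesOver_of_le (p := P)
    (q := Q.comap (algebraMap R S)) Q hle
  have h1 : P.map (algebraMap R S) ≤ Q₃ := by
    rw [Ideal.map_le_iff_le_comap]
    exact le_of_eq hQ₃l.over
  have h2 : Q ≤ Q₃ := hQ.2 ⟨hQ₃p, h1⟩ hQ₃
  have h3 : Q₃ = Q := le_antisymm hQ₃ h2
  rw [← h3]
  exact hQ₃l.over.symm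

variable [IsNoetherianRing R] [IsNoetherianRing S]

/-- a minimal prime over `P S`, `P` associated, is associated. -/
theorem mem_associatedPrimes_of_mem_minimalPrimes_map (P : Ideal R) (hP : P ∈ associatedPrimes R R)
    (Q : Ideal S) (hQ : Q ∈ (P.map (algebraMap R S)).minimalPrimes) :
    Q ∈ associatedPrimes S S := by
  obtain ⟨hPp, c, hc⟩ := isAssociatedPrime_iff.mp hP
  have hker : LinearMap.ker (LinearMap.toSpanSingleton R R c) = P := by
    rw [hc]
    ext a
    rw [LinearMap.mem_ker, LinearMap.toSpanSingleton_apply, Submodule.mem_colon_singleton,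
      Submodule.mem_bot]
  have h1 : Q ∈ associatedPrimes S (S ⧸ P.map (algebraMap R S)) := by
    apply Module.associatedPrimes.minimalPrimes_annihilator_subset_associatedPrimes
    rw [Ideal.annihilator_quotient]
    exact hQ
  have h2 := Groth.Agent.Lib.Helper28.mem_associatedPrimes_tensor_of_mem_associatedPrimes_quotient
    (A := R) S (N := R) c Q (by rw [hker]; exact h1)
  rwa [LinearEquiv.AssociatedPrimes.eq (TensorProduct.AlgebraTensorModule.rid R S S)] at h2

omit [IsNoetherianRing S] in
/-- devissage: associated primes of `S ⊗ M` are associated primes of some `S / P S`. -/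
theorem exists_prime_mem_associatedPrimes_quotient_map (M : Type u) [AddCommGroup M] [Module R M]
    [Module.Finite R M] :
    ∀ Q ∈ associatedPrimes S (S ⊗[R] M), ∃ P : Ideal R, P.IsPrime ∧
      Q ∈ associatedPrimes S (S ⧸ P.map (algebraMap R S)) := by
  induction ‹Module.Finite R M› using
    IsNoetherianRing.induction_on_isQuotientEquivQuotientPrime R with
  | subsingleton N =>
    intro Q hQ
    rw [associatedPrimes.eq_empty_of_subsingleton] at hQ
    exact absurd hQ (Set.notMem_empty Q)
  | quotient N p e =>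
    intro Q hQ
    refine ⟨p.asIdeal, p.isPrime, ?_⟩
    let e1 : S ⊗[R] N ≃ₗ[S] S ⊗[R] (R ⧸ p.asIdeal) :=
      TensorProduct.AlgebraTensorModule.congr (LinearEquiv.refl S S) e
    let e2 : (S ⧸ p.asIdeal.map (algebraMap R S)) ≃ₗ[S] S ⊗[R] (R ⧸ p.asIdeal) :=
      (Algebra.TensorProduct.quotIdealMapEquivTensorQuot S p.asIdeal).toLinearEquiv
    rw [LinearEquiv.AssociatedPrimes.eq (e1.trans e2.symm)] at hQ
    exact hQ
  | exact N₁ N₂ N₃ f g hf hg hfg h₁ h₃ =>
    intro Q hQ
    have hinj : Function.Injective (f.baseChange S) := by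
      have := Module.Flat.lTensor_preserves_injective_linearMap (M := S) f hf
      exact this
    have hex : Function.Exact (f.baseChange S) (g.baseChange S) := by
      have := Module.Flat.lTensor_exact S hfg
      exact this
    rcases associatedPrimes.subset_union_of_exact hinj hex hQ with h | h
    · exact h₁ Q h
    · exact h₃ Q h

/-- an associated prime `Q` of `S` is minimal over `(Q ∩ R) S`, if the fibres have no embedded
primes. -/
theorem mem_minimalPrimes_map_comap
    (hfib : ∀ P : Ideal R, P.IsPrime → ∀ Q ∈ associatedPrimes S (S ⧸ P.map (algebraMap R S)),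
      Q ∈ (P.map (algebraMap R S)).minimalPrimes)
    (Q : Ideal S) (hQ : Q ∈ associatedPrimes S S) :
    Q ∈ ((Q.comap (algebraMap R S)).map (algebraMap R S)).minimalPrimes := by
  rw [← LinearEquiv.AssociatedPrimes.eq (TensorProduct.AlgebraTensorModule.rid R S S)] at hQ
  obtain ⟨P, hP, hQP⟩ := exists_prime_mem_associatedPrimes_quotient_map (R := R) (S := S) R Q hQ
  have hmin := hfib P hP Q hQP
  rw [comap_eq_of_mem_minimalPrimes_map P Q hmin]
  exact hmin

theorem noEmbRing_iff_of_flat
    (hfib : ∀ P : Ideal R, P.IsPrime → ∀ Q ∈ associatedPrimes S (S ⧸ P.map (algebraMap R S)),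
      Q ∈ (P.map (algebraMap R S)).minimalPrimes)
    (hcon : ∀ Q ∈ associatedPrimes S S, Q.comap (algebraMap R S) ∈ associatedPrimes R R)
    (hne : ∀ P : Ideal R, P.IsPrime → P.map (algebraMap R S) ≠ ⊤) :
    NoEmbRing R ↔ NoEmbRing S := by
  constructor
  · intro hR Q' hQ' Q hQ hle
    have hP' := hcon Q' hQ'
    have hP := hcon Q hQ
    have hPP : Q'.comap (algebraMap R S) = Q.comap (algebraMap R S) :=
      hR _ hP' _ hP (Ideal.comap_mono hle)
    have hmin := mem_minimalPrimes_map_comap hfib Q hQ
    have hmin' := mem_minimalPrimes_map_comap hfib Q' hQ'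
    rw [hPP] at hmin'
    exact le_antisymm hle (hmin.2 hmin'.1 hle)
  · intro hS P' hP' P hP hle
    haveI : P.IsPrime := hP.1
    haveI : P'.IsPrime := hP'.1
    -- a minimal prime over `P S`
    obtain ⟨Q₀, hQ₀max, hQ₀⟩ := Ideal.exists_le_maximal _ (hne P inferInstance)
    haveI : Q₀.IsPrime := hQ₀max.isPrime
    obtain ⟨Q, hQmin, -⟩ := Ideal.exists_minimalPrimes_le hQ₀
    haveI : Q.IsPrime := hQmin.1.1
    have hQass := mem_associatedPrimes_of_mem_minimalPrimes_map P hP Q hQmin
    have hQP := comap_eq_of_mem_minimalPrimes_map P Q hQmin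
    -- going down to `P'`
    haveI : Q.LiesOver P := ⟨hQP.symm⟩
    obtain ⟨Q'', hQ''le, hQ''p, hQ''l⟩ := Ideal.exists_ideal_le_liesOver_of_le (p := P')
      (q := P) Q hle
    have h1 : P'.map (algebraMap R S) ≤ Q'' := by
      rw [Ideal.map_le_iff_le_comap]
      exact le_of_eq hQ''l.over
    obtain ⟨Q', hQ'min, hQ'le⟩ := Ideal.exists_minimalPrimes_le h1
    have hQ'ass := mem_associatedPrimes_of_mem_minimalPrimes_map P' hP' Q' hQ'min
    have hQ'P := comap_eq_of_mem_minimalPrimes_map P' Q' hQ'min
    have heq : Q' = Q := hS Q' hQ'ass Q hQass (hQ'le.trans hQ''le)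
    rw [← hQ'P, ← hQP, heq]

end Flat

section Quot

/-- if the quotient ring `T = S / ker π` has no embedded primes, the associated primes of the
`S`-module `S / ker π` are minimal over `ker π`. -/
theorem mem_minimalPrimes_ker_of_mem_associatedPrimes_quotient {S T : Type u} [CommRing S]
    [CommRing T] [IsNoetherianRing S] (π : S →+* T) (hπ : Function.Surjective π)
    (hT : associatedPrimes T T ⊆ minimalPrimes T) (I : Ideal S) (hI : RingHom.ker π = I)
    (Q : Ideal S)
    (hQ : Q ∈ associatedPrimes S (S ⧸ I)) : Q ∈ I.minimalPrimes := by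
  subst hI
  haveI : IsNoetherianRing T := isNoetherianRing_of_surjective S T π hπ
  obtain ⟨hQp, xbar, hx⟩ := isAssociatedPrime_iff.mp hQ
  obtain ⟨x, rfl⟩ := Ideal.Quotient.mk_surjective xbar
  have hmem : ∀ s : S, s ∈ Q ↔ π (s * x) = 0 := by
    intro s
    rw [hx, Submodule.mem_colon_singleton, Submodule.mem_bot, ← RingHom.mem_ker,
      ← Ideal.Quotient.eq_zero_iff_mem, map_mul]
    rfl
  have hker : RingHom.ker π ≤ Q := by
    intro s hs
    rw [hmem, map_mul, (RingHom.mem_ker).mp hs, zero_mul]
  have hcomap : (Q.map π).comap π = Q := by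
    rw [Ideal.comap_map_of_surjective π hπ, ← RingHom.ker_eq_comap_bot, sup_eq_left.mpr hker]
  have hprime : (Q.map π).IsPrime := Ideal.map_isPrime_of_surjective hπ hker
  have hass : Q.map π ∈ associatedPrimes T T := by
    rw [AssociatedPrimes.mem_iff, isAssociatedPrime_iff]
    refine ⟨hprime, π x, ?_⟩
    ext b
    obtain ⟨s, rfl⟩ := hπ b
    rw [Submodule.mem_colon_singleton, Submodule.mem_bot, smul_eq_mul, ← map_mul, ← hmem,
      ← Ideal.mem_comap, hcomap]
  have hmin := hT hass
  have := Ideal.minimalPrimes_comap_of_surjective hπ hmin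
  rw [hcomap, ← RingHom.ker_eq_comap_bot] at this
  exact this

end Quot

section Tensor

variable {k : Type u} [Field k] (R K : Type u) [CommRing R] [Algebra k R] [Field K] [Algebra k K]

/-- the fibres of `R → R ⊗[k] K` have no embedded primes -/
theorem mem_minimalPrimes_of_mem_associatedPrimes_quotient_tensor [IsNoetherianRing (R ⊗[k] K)]
    (P : Ideal R) [P.IsPrime] (Q : Ideal (R ⊗[k] K))
    (hQ : Q ∈ associatedPrimes (R ⊗[k] K)
      ((R ⊗[k] K) ⧸ P.map (algebraMap R (R ⊗[k] K)))) :
    Q ∈ (P.map (algebraMap R (R ⊗[k] K))).minimalPrimes := by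
  let π : R ⊗[k] K →ₐ[k] (R ⧸ P) ⊗[k] K :=
    Algebra.TensorProduct.map (Ideal.Quotient.mkₐ k P) (AlgHom.id k K)
  have hπ : Function.Surjective π :=
    Algebra.TensorProduct.map_surjective _ _ (Ideal.Quotient.mkₐ_surjective k P)
      Function.surjective_id
  have hker : RingHom.ker π.toRingHom = P.map (algebraMap R (R ⊗[k] K)) := by
    have h1 := Algebra.TensorProduct.rTensor_ker (R := k) (C := K) (Ideal.Quotient.mkₐ k P)
      (Ideal.Quotient.mkₐ_surjective k P)
    have h2 : RingHom.ker (Ideal.Quotient.mkₐ k P) = P := Ideal.Quotient.mkₐ_ker k P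
    rw [h2] at h1
    exact h1
  exact mem_minimalPrimes_ker_of_mem_associatedPrimes_quotient π.toRingHom hπ
    (Groth.Agent.Lib.Helper6.NoEmb.associatedPrimes_subset_minimalPrimes_domain (R ⧸ P) K)
    _ hker Q hQ

/-- associated primes of `R ⊗[k] K` contract to associated primes of `R` -/
theorem comap_mem_associatedPrimes_tensor [IsNoetherianRing R] [IsNoetherianRing (R ⊗[k] K)]
    (Q : Ideal (R ⊗[k] K)) (hQ : Q ∈ associatedPrimes (R ⊗[k] K) (R ⊗[k] K)) :
    Q.comap (algebraMap R (R ⊗[k] K)) ∈ associatedPrimes R R := by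
  obtain ⟨hQp, η, hη⟩ := isAssociatedPrime_iff.mp hQ
  let B := Algebra.TensorProduct.basis R (Module.Free.chooseBasis k K)
  have hmem : ∀ a : R, a ∈ Q.comap (algebraMap R (R ⊗[k] K)) ↔
      ∀ i ∈ (B.repr η).support, a ∈ (⊥ : Submodule R R).colon {B.repr η i} := by
    intro a
    rw [Ideal.mem_comap, hη, Submodule.mem_colon_singleton, Submodule.mem_bot, smul_eq_mul,
      ← Algebra.smul_def, ← B.repr.map_eq_zero_iff, map_smul]
    constructor
    · intro h i _
      rw [Submodule.mem_colon_singleton, Submodule.mem_bot]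
      have := DFunLike.congr_fun h i
      simpa using this
    · intro h
      ext i
      by_cases hi : i ∈ (B.repr η).support
      · have := h i hi
        rw [Submodule.mem_colon_singleton, Submodule.mem_bot] at this
        simpa using this
      · rw [Finsupp.notMem_support_iff] at hi
        simp [hi]
  have heq : Q.comap (algebraMap R (R ⊗[k] K)) =
      (B.repr η).support.inf (fun i => (⊥ : Submodule R R).colon {B.repr η i}) := by
    ext a
    rw [hmem, Submodule.mem_finsetInf]
  haveI hprime : (Q.comap (algebraMap R (R ⊗[k] K))).IsPrime := Ideal.comap_isPrime _ _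
  obtain ⟨i, hi, hle⟩ := (Ideal.IsPrime.inf_le' hprime).mp (le_of_eq heq.symm)
  rw [AssociatedPrimes.mem_iff, isAssociatedPrime_iff]
  refine ⟨hprime, B.repr η i, le_antisymm ?_ hle⟩
  rw [heq]
  exact Finset.inf_le hi

theorem noEmbRing_tensor_iff [IsNoetherianRing R] [IsNoetherianRing (R ⊗[k] K)] :
    NoEmbRing R ↔ NoEmbRing (R ⊗[k] K) := by
  refine noEmbRing_iff_of_flat
    (fun P hP Q hQ => by
      haveI := hP
      exact mem_minimalPrimes_of_mem_associatedPrimes_quotient_tensor R K P Q hQ)
    (comap_mem_associatedPrimes_tensor R K) ?_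
  intro P hP hmap
  have := Ideal.comap_map_eq_self_of_faithfullyFlat (B := R ⊗[k] K) P
  rw [hmap, Ideal.comap_top] at this
  exact hP.ne_top this.symm

end Tensor

section Scheme

open CategoryTheory AlgebraicGeometry Groth.Agent.Lib.Helper6.BcBridge Groth.Agent.Lib.Helper6.NoEmb

/-- absence of embedded points can be checked on affine charts -/
theorem noEmbedded_of_charts {Y : Scheme.{u}}
    (h : ∀ x : Y, ∃ (A : Type u) (_ : CommRing A) (j : Spec (CommRingCat.of A) ⟶ Y)
      (_ : IsOpenImmersion j), x ∈ Set.range j ∧ IsNoetherianRing A ∧ NoEmbRing A) :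
    AssSch.NoEmbedded (Coh.structureModule Y) := by
  intro x hx y hy hyx
  have hx' := (Groth.Agent.Lib.Helper23.UnitStalk.isAssPoint_structureModule_iff x).mp hx
  have hy' := (Groth.Agent.Lib.Helper23.UnitStalk.isAssPoint_structureModule_iff y).mp hy
  obtain ⟨A, _, j, _, hxr, hN, hA⟩ := h x
  obtain ⟨Q, rfl⟩ := hxr
  obtain ⟨Q', rfl⟩ := hyx.mem_open j.isOpenEmbedding.isOpen_range ⟨Q, rfl⟩
  have hQ : Q.asIdeal ∈ associatedPrimes A A :=
    mem_associatedPrimes_of_atPrime Q.asIdeal
      (isAssociatedPrime_maximalIdeal_of_ringEquiv (stalkEquivSpec j Q) hx')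
  have hQ' : Q'.asIdeal ∈ associatedPrimes A A :=
    mem_associatedPrimes_of_atPrime Q'.asIdeal
      (isAssociatedPrime_maximalIdeal_of_ringEquiv (stalkEquivSpec j Q') hy')
  have hspec : Q' ⤳ Q := j.isOpenEmbedding.isInducing.specializes_iff.mp hyx
  have hle : Q'.asIdeal ≤ Q.asIdeal := (PrimeSpectrum.le_iff_specializes Q' Q).mpr hspec
  have : Q' = Q := PrimeSpectrum.ext (hA _ hQ' _ hQ hle)
  rw [this]

/-- the maximal ideal of the localization at an associated prime is associated -/
theorem maximalIdeal_isAssociatedPrime_atPrime {A : Type u} [CommRing A] (P : Ideal A) [P.IsPrime]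
    (hP : P ∈ associatedPrimes A A) :
    IsAssociatedPrime (IsLocalRing.maximalIdeal (Localization.AtPrime P))
      (Localization.AtPrime P) := by
  apply Module.associatedPrimes.mem_associatedPrimes_of_comap_mem_associatedPrimes_of_isLocalizedModule
    P.primeCompl (Algebra.linearMap A (Localization.AtPrime P))
  have h2 : Ideal.comap (algebraMap A (Localization.AtPrime P))
      (IsLocalRing.maximalIdeal (Localization.AtPrime P)) = P :=
    Localization.AtPrime.under_maximalIdeal
  rw [h2]
  exact hP

/-- an affine chart of a scheme without embedded points has no embedded primes -/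
theorem noEmbRing_of_noEmbedded {Y : Scheme.{u}} {A : Type u} [CommRing A]
    (j : Spec (CommRingCat.of A) ⟶ Y) [IsOpenImmersion j]
    (h : AssSch.NoEmbedded (Coh.structureModule Y)) : NoEmbRing A := by
  intro P hP Q hQ hle
  haveI := hP.1
  haveI := hQ.1
  let P' : PrimeSpectrum A := ⟨P, hP.1⟩
  let Q' : PrimeSpectrum A := ⟨Q, hQ.1⟩
  have hassP : Curv2.IsAssPoint (Coh.structureModule Y) (j P') := by
    rw [Groth.Agent.Lib.Helper23.UnitStalk.isAssPoint_structureModule_iff]
    exact isAssociatedPrime_maximalIdeal_of_ringEquiv (stalkEquivSpec j P').symm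
      (maximalIdeal_isAssociatedPrime_atPrime P hP)
  have hassQ : Curv2.IsAssPoint (Coh.structureModule Y) (j Q') := by
    rw [Groth.Agent.Lib.Helper23.UnitStalk.isAssPoint_structureModule_iff]
    exact isAssociatedPrime_maximalIdeal_of_ringEquiv (stalkEquivSpec j Q').symm
      (maximalIdeal_isAssociatedPrime_atPrime Q hQ)
  have hspec : P' ⤳ Q' := (PrimeSpectrum.le_iff_specializes P' Q').mp hle
  have hspec' : j P' ⤳ j Q' := hspec.map j.continuous
  have heq : j Q' = j P' := h _ hassQ _ hassP hspec'
  have := j.isOpenEmbedding.injective heq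
  exact (congrArg PrimeSpectrum.asIdeal this).symm

variable {k K : Type u} [Field k] [Field K] [Algebra k K]

/-- **EGA IV 4.2.7-type statement**: for a scheme `X` over a field `k` and a field extension `K`
with `X_K` locally Noetherian, `X` has no embedded points iff `X_K` has none. -/
theorem noEmbedded_iff_bc (X : Scheme.{u}) [X.Over (Spec (CommRingCat.of k))]
    [IsLocallyNoetherian X] [IsLocallyNoetherian (Curv2.bc k X K)] :
    AssSch.NoEmbedded (Coh.structureModule X) ↔
      AssSch.NoEmbedded (Coh.structureModule (Curv2.bc k X K)) := by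
  -- Noetherianity of the charts
  have hN : ∀ (R : Type u) [CommRing R] [Algebra k R] (ι : Spec (CommRingCat.of R) ⟶ X)
      [IsOpenImmersion ι]
      (hι : ι ≫ (X ↘ Spec (CommRingCat.of k)) = Spec.map (CommRingCat.ofHom (algebraMap k R))),
      IsNoetherianRing R ∧ IsNoetherianRing (R ⊗[k] K) := by
    intro R _ _ ι _ hι
    constructor
    · haveI : IsLocallyNoetherian (Spec (CommRingCat.of R)) :=
        isLocallyNoetherian_of_isOpenImmersion ι
      exact (isLocallyNoetherian_Spec (R := CommRingCat.of R)).mp inferInstance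
    · haveI : IsLocallyNoetherian (Spec (CommRingCat.of (R ⊗[k] K))) :=
        isLocallyNoetherian_of_isOpenImmersion (chartMap k X K ι hι)
      exact (isLocallyNoetherian_Spec (R := CommRingCat.of (R ⊗[k] K))).mp inferInstance
  constructor
  · intro hX
    apply noEmbedded_of_charts
    intro x'
    obtain ⟨R, _, _, ι, _, hι, z, hz⟩ := exists_chart k X (Curv2.bcFst k X K x')
    obtain ⟨hNR, hNS⟩ := hN R ι hι
    refine ⟨R ⊗[k] K, inferInstance, chartMap k X K ι hι, inferInstance, ?_, hNS, ?_⟩
    · rw [range_chartMap]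
      exact ⟨z, hz⟩
    · exact (noEmbRing_tensor_iff R K).mp (noEmbRing_of_noEmbedded ι hX)
  · intro hX'
    apply noEmbedded_of_charts
    intro x
    obtain ⟨R, _, _, ι, _, hι, z, hz⟩ := exists_chart k X x
    obtain ⟨hNR, hNS⟩ := hN R ι hι
    refine ⟨R, inferInstance, ι, inferInstance, ⟨z, hz⟩, hNR, ?_⟩
    exact (noEmbRing_tensor_iff R K).mpr (noEmbRing_of_noEmbedded (chartMap k X K ι hι) hX')

theorem noEmbedded_iff_baseChange {X : Scheme.{u}} (f : X ⟶ Spec (CommRingCat.of k))
    [IsLocallyNoetherian X]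
    [h : IsLocallyNoetherian ↑(Limits.pullback f (Spec.map (CommRingCat.ofHom (algebraMap k K))))] :
    AssSch.NoEmbedded (Coh.structureModule X) ↔
      AssSch.NoEmbedded (Coh.structureModule
        ↑(Limits.pullback f (Spec.map (CommRingCat.ofHom (algebraMap k K))))) := by
  letI : X.Over (Spec (CommRingCat.of k)) := ⟨f⟩
  haveI : IsLocallyNoetherian (Curv2.bc k X K) := h
  exact noEmbedded_iff_bc (k := k) (K := K) X

end Scheme

end Groth.Agent.Lib.R2H2.NoEmbBC
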