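import Mathlib
import Groth.Agent.Lib.H9RectDepthAlg
import Groth.Agent.Lib.H9RectDepthConstr
import Groth.Agent.Lib.Helper2GenFree
import Groth.Agent.Lib.R2H2NoEmbBC
import Groth.Agent.Lib.Helper28DepthMore

/-! Numerical form of EGA IV 12.1.1 (algebra): for A→B f.p., M f.p. B-module flat over A, the set Bad A M (ZC c A M) S of fibrewise specializations of points z with (fdep z, ftd z) ∈ S (and, if c, fibre codepth > 0) is closed for S stable under generization moves (SDown) with finite depths (SFin): isClosed_bad (Noetherian CMU UC case), ftd_baseChange, bad_baseChange, isClosed_bad_fp. Also exists_fibGen_ftd_le, exists_ftd_le (generic bound of relative trdeg), pushout_ftd, fibre dictionary fibMap (Spec κ(p)⊗B → Spec B): fibMap_le_iff, exists_fibMap_eq, fibMap_numerics (fdep/fdm = dep/dm on the fibre ring), noEmb_CN, noEmb_iff (helper9). -/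

set_option autoImplicit false
set_option linter.style.haveILetI false
set_option linter.unusedSimpArgs false
set_option linter.unusedVariables false
universe u

namespace Groth.Agent.Lib.H9FibNumerics

-- ===== part NmA =====
section

open TensorProduct Topology
open Groth.Agent.Lib.Helper4.DimFormula Groth.Agent.Lib.Helper6.OpenDim
open Groth.Agent.Lib.Helper28 Groth.Agent.Lib.Helper5 Groth.Agent.Lib.Helper5.GenDepth
open Groth.Agent.Lib.H9ModFibAlg Groth.Agent.Lib.H9RectDepthAlg
open Groth.Agent.Lib.Helper5.CodepthOpen Groth.Agent.Lib.Helper5.FibCodepthConstr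

section T1

variable {A B : Type u} [CommRing A] [CommRing B] [Algebra A B]

/-- the image of `p B` in `B ⧸ P` is the extension of the image of `p` in `A ⧸ (P ∩ A)`. -/
theorem map_map_mk_eq (P : Ideal B) (p : Ideal A) :
    (p.map (algebraMap A B)).map (Ideal.Quotient.mk P) =
      (p.map (Ideal.Quotient.mk (P.under A))).map (algebraMap (A ⧸ P.under A) (B ⧸ P)) := by
  rw [Ideal.map_map, Ideal.map_map]
  congr 1

/-- **Fibrewise minimal specialization**: for primes `z' ≤ x` of `B` there is a prime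
`z' ≤ z ≤ x` lying over `x ∩ A`, with `trdeg κ(z)/κ(z ∩ A) ≥ trdeg κ(z')/κ(z' ∩ A)`. -/
theorem exists_fibGen_ftd_le (hUC : CAlg.IsUniversallyCatenary A) [Algebra.FiniteType A B]
    (z' x : Ideal B) [z'.IsPrime] [x.IsPrime] (hle : z' ≤ x) :
    ∃ z : Ideal B, ∃ _ : z.IsPrime, z' ≤ z ∧ z ≤ x ∧ z.under A = x.under A ∧
      ftd A z' ≤ ftd A z := by
  haveI : IsNoetherianRing A := hUC.1
  haveI : IsNoetherianRing B := Algebra.FiniteType.isNoetherianRing A B
  set p : Ideal A := x.under A with hp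
  set I : Ideal B := p.map (algebraMap A B) ⊔ z' with hI
  have hIx : I ≤ x := sup_le (Ideal.map_le_iff_le_comap.mpr le_rfl) hle
  obtain ⟨z, hzmin, hzx⟩ := Ideal.exists_minimalPrimes_le hIx
  haveI hzp : z.IsPrime := hzmin.1.1
  have hz'z : z' ≤ z := le_sup_right.trans hzmin.1.2
  have hzA : z.under A = p := by
    apply le_antisymm
    · exact Ideal.comap_mono hzx
    · exact Ideal.map_le_iff_le_comap.mp (le_sup_left.trans hzmin.1.2)
  refine ⟨z, hzp, hz'z, hzx, hzA, ?_⟩
  -- heights
  have hP₀ : z'.under A ≤ z.under A := Ideal.comap_mono hz'z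
  haveI : (z.map (Ideal.Quotient.mk z')).IsPrime := Ideal.isPrime_map_quotientMk_of_isPrime hz'z
  haveI : ((z.under A).map (Ideal.Quotient.mk (z'.under A))).IsPrime :=
    Ideal.isPrime_map_quotientMk_of_isPrime hP₀
  haveI := liesOver_map_mk (z'.under A) (z.under A) z' z hz'z hP₀
  haveI : Algebra.FiniteType (A ⧸ z'.under A) (B ⧸ z') :=
    Algebra.FiniteType.of_restrictScalars_finiteType A (A ⧸ z'.under A) (B ⧸ z')
  haveI : IsNoetherianRing (B ⧸ z') := inferInstance
  have hmin : z.map (Ideal.Quotient.mk z') ∈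
      (((z.under A).map (Ideal.Quotient.mk (z'.under A))).map
        (algebraMap (A ⧸ z'.under A) (B ⧸ z'))).minimalPrimes := by
    rw [← map_map_mk_eq, Ideal.minimalPrimes_map_of_surjective Ideal.Quotient.mk_surjective,
      Ideal.mk_ker, hzA]
    exact ⟨z, hzmin, rfl⟩
  have h1 := Ideal.height_le_height_add_of_liesOver
    ((z.under A).map (Ideal.Quotient.mk (z'.under A))) (z.map (Ideal.Quotient.mk z'))
  have h2 : ((z.map (Ideal.Quotient.mk z')).map (Ideal.Quotient.mk
      (((z.under A).map (Ideal.Quotient.mk (z'.under A))).map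
        (algebraMap (A ⧸ z'.under A) (B ⧸ z'))))).height = 0 := by
    rw [Ideal.minimalPrimes_eq_comap] at hmin
    obtain ⟨Q, hQ, hQe⟩ := hmin
    haveI : Q.IsPrime := hQ.1.1
    rw [← hQe, Ideal.map_comap_of_surjective _ Ideal.Quotient.mk_surjective]
    exact Ideal.height_eq_zero_iff.mpr hQ
  rw [h2, add_zero] at h1
  have h3 := height_map_add_eq (A := A) (B := B) hUC z z' hz'z
  have hfin : ((z.under A).map (Ideal.Quotient.mk (z'.under A))).height ≠ ⊤ :=
    Ideal.height_ne_top_of_isPrime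
  -- arithmetic
  have h4 : ((z.under A).map (Ideal.Quotient.mk (z'.under A))).height + (ftd A z' : ℕ∞) ≤
      ((z.under A).map (Ideal.Quotient.mk (z'.under A))).height + (ftd A z : ℕ∞) := by
    rw [← h3]
    exact add_le_add_left h1 _
  have h5 := (ENat.add_le_add_iff_left hfin).mp h4
  exact_mod_cast h5

end T1

end

-- ===== part NmA2 =====
section

open TensorProduct Topology
open Groth.Agent.Lib.Helper4.DimFormula Groth.Agent.Lib.Helper6.OpenDim
open Groth.Agent.Lib.Helper28 Groth.Agent.Lib.Helper5 Groth.Agent.Lib.Helper5.GenDepth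
open Groth.Agent.Lib.H9ModFibAlg Groth.Agent.Lib.H9RectDepthAlg
open Groth.Agent.Lib.Helper5.CodepthOpen Groth.Agent.Lib.Helper5.FibCodepthConstr
open Groth.Agent.Lib.Helper2.GenFree

attribute [local instance] Algebra.TensorProduct.rightAlgebra

section GD

variable {R S : Type u} [CommRing R] [CommRing S] [Algebra R S] [IsNoetherianRing R]
  [Algebra.FiniteType R S]

/-- on the locus where `S` is free over `R`, heights do not drop (going down). -/
theorem height_under_le_of_freeAway (g : R) (hfree : FreeAway R g S) (T : Ideal S) [T.IsPrime]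
    (hg : algebraMap R S g ∉ T) : (T.under R).height ≤ T.height := by
  haveI : Module.Free (Localization.Away g) (Localization.Away g ⊗[R] S) :=
    hfree.free (Localization.Away g) (TensorProduct.mk R (Localization.Away g) S 1)
  haveI : IsNoetherianRing (Localization.Away g) :=
    IsLocalization.isNoetherianRing (Submonoid.powers g) _ inferInstance
  haveI : IsNoetherianRing (Localization.Away g ⊗[R] S) :=
    Algebra.FiniteType.isNoetherianRing (Localization.Away g) _
  haveI hloc : IsLocalization (Algebra.algebraMapSubmonoid S (Submonoid.powers g))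
      (Localization.Away g ⊗[R] S) :=
    (Algebra.isLocalization_iff_isPushout (Submonoid.powers g) (Localization.Away g)).mpr
      inferInstance
  have hdisj : Disjoint ((Algebra.algebraMapSubmonoid S (Submonoid.powers g) : Submonoid S) : Set S)
      (T : Set S) := by
    rw [Set.disjoint_left]
    rintro _ ⟨_, ⟨n, rfl⟩, rfl⟩ hmem
    rw [SetLike.mem_coe, map_pow] at hmem
    exact hg (Ideal.IsPrime.mem_of_pow_mem inferInstance n hmem)
  set T' : Ideal (Localization.Away g ⊗[R] S) :=
    T.map (algebraMap S (Localization.Away g ⊗[R] S)) with hT'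
  haveI hT'p : T'.IsPrime :=
    IsLocalization.isPrime_of_isPrime_disjoint _ _ T inferInstance hdisj
  have hT'u : T'.under S = T :=
    IsLocalization.under_map_of_isPrime_disjoint _ _ inferInstance hdisj
  have h1 : T.height = T'.height := by
    rw [← hT'u]
    exact IsLocalization.height_under (Algebra.algebraMapSubmonoid S (Submonoid.powers g)) T'
  set P' : Ideal (Localization.Away g) := T'.under (Localization.Away g) with hP'
  haveI : P'.IsPrime := Ideal.IsPrime.under _ T'
  haveI : T'.LiesOver P' := ⟨rfl⟩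
  have h2 : (T.under R).height = P'.height := by
    have : P'.under R = T.under R := by
      rw [hP', Ideal.under_under, ← hT'u, Ideal.under_under]
    rw [← this]
    exact IsLocalization.height_under (Submonoid.powers g) P'
  rw [h1, h2, Ideal.height_eq_height_add_of_liesOver_of_hasGoingDown P' T']
  exact le_self_add

end GD

section GF

variable {A B : Type u} [CommRing A] [CommRing B] [Algebra A B]

/-- **Generic bound for the relative transcendence degree** along `V(ζ)`. -/
theorem exists_ftd_le (hUC : CAlg.IsUniversallyCatenary A) [Algebra.FiniteType A B]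
    (ζ : Ideal B) [ζ.IsPrime] :
    ∃ g : A, g ∉ ζ.under A ∧ ∀ (t : Ideal B) [t.IsPrime], ζ ≤ t → algebraMap A B g ∉ t →
      ftd A t ≤ ftd A ζ := by
  haveI : IsNoetherianRing A := hUC.1
  haveI : IsNoetherianRing B := Algebra.FiniteType.isNoetherianRing A B
  haveI : Algebra.FiniteType (A ⧸ ζ.under A) (B ⧸ ζ) :=
    Algebra.FiniteType.of_restrictScalars_finiteType A (A ⧸ ζ.under A) (B ⧸ ζ)
  haveI : IsDomain (A ⧸ ζ.under A) := Ideal.Quotient.isDomain _
  obtain ⟨g₁, hg₁, hfree, -, -, -⟩ := exists_freeAway (A ⧸ ζ.under A) (B ⧸ ζ) (B ⧸ ζ)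
  obtain ⟨g, rfl⟩ := Ideal.Quotient.mk_surjective g₁
  refine ⟨g, fun h => hg₁ (Ideal.Quotient.eq_zero_iff_mem.mpr h), ?_⟩
  intro t _ hle hgt
  have hP₀ : ζ.under A ≤ t.under A := Ideal.comap_mono hle
  haveI : (t.map (Ideal.Quotient.mk ζ)).IsPrime := Ideal.isPrime_map_quotientMk_of_isPrime hle
  haveI : ((t.under A).map (Ideal.Quotient.mk (ζ.under A))).IsPrime :=
    Ideal.isPrime_map_quotientMk_of_isPrime hP₀
  haveI hlo := liesOver_map_mk (ζ.under A) (t.under A) ζ t hle hP₀
  have hgt' : algebraMap (A ⧸ ζ.under A) (B ⧸ ζ) (Ideal.Quotient.mk (ζ.under A) g) ∉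
      t.map (Ideal.Quotient.mk ζ) := by
    rw [Ideal.Quotient.algebraMap_mk_of_liesOver, Ideal.mem_quotient_iff_mem hle]
    exact hgt
  have h1 := height_under_le_of_freeAway (R := A ⧸ ζ.under A) (S := B ⧸ ζ)
    (Ideal.Quotient.mk (ζ.under A) g) hfree (t.map (Ideal.Quotient.mk ζ)) hgt'
  rw [← hlo.over] at h1
  have h3 := height_map_add_eq (A := A) (B := B) hUC t ζ hle
  have hfin : (t.map (Ideal.Quotient.mk ζ)).height ≠ ⊤ := Ideal.height_ne_top_of_isPrime
  have h4 : (t.map (Ideal.Quotient.mk ζ)).height + (ftd A t : ℕ∞) ≤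
      (t.map (Ideal.Quotient.mk ζ)).height + (ftd A ζ : ℕ∞) := by
    rw [h3]
    exact add_le_add_left h1 _
  have h5 := (ENat.add_le_add_iff_left hfin).mp h4
  exact_mod_cast h5

end GF

end

-- ===== part NmB =====
section

open TensorProduct Topology
open Groth.Agent.Lib.Helper4.DimFormula Groth.Agent.Lib.Helper6.OpenDim
open Groth.Agent.Lib.Helper28 Groth.Agent.Lib.Helper5 Groth.Agent.Lib.Helper5.GenDepth
open Groth.Agent.Lib.H9ModFibAlg Groth.Agent.Lib.H9RectDepthAlg Groth.Agent.Lib.H9RectDepthConstr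
open Groth.Agent.Lib.Helper5.CodepthOpen Groth.Agent.Lib.Helper5.FibCodepthConstr

/-- a set of pairs (fibre depth, relative transcendence degree) stable under the moves allowed
by generization: the transcendence degree may go up while the rectified depth goes down. -/
def SDown (S : Set (ℕ∞ × ℕ)) : Prop :=
  ∀ (i i' : ℕ∞) (j j' : ℕ), (i, j) ∈ S → j ≤ j' → i' + (j' : ℕ∞) ≤ i + (j : ℕ∞) → (i', j') ∈ S

/-- the depths occurring in `S` are finite. -/
def SFin (S : Set (ℕ∞ × ℕ)) : Prop := ∀ (i : ℕ∞) (j : ℕ), (i, j) ∈ S → i ≠ ⊤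

section Defs

variable (A : Type u) {B : Type u} [CommRing A] [CommRing B] [Algebra A B]
  (M : Type u) [AddCommGroup M] [Module B M]

/-- the points of `Z` whose numerical invariants lie in `S`. -/
def Tset (Z : Set (PrimeSpectrum B)) (S : Set (ℕ∞ × ℕ)) : Set (PrimeSpectrum B) :=
  {z | z ∈ Z ∧ (fdep A M z.asIdeal, ftd A z.asIdeal) ∈ S}

/-- the fibrewise specializations of the points of `Tset`. -/
def Bad (Z : Set (PrimeSpectrum B)) (S : Set (ℕ∞ × ℕ)) : Set (PrimeSpectrum B) :=
  {x | ∃ z ∈ Tset A M Z S, z.asIdeal ≤ x.asIdeal ∧ z.asIdeal.under A = x.asIdeal.under A}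

end Defs

section Noeth

variable {A B : Type u} [CommRing A] [CommRing B] [Algebra A B] [IsNoetherianRing A]
  [IsNoetherianRing B] (M : Type u) [AddCommGroup M] [Module B M] [Module A M]
  [IsScalarTower A B M] [Module.Finite B M] [Module.Flat A M]

/-- every specialization of a point of `Tset` is a fibrewise specialization of a point of
`Tset`. -/
theorem mem_bad_of_le (hUC : CAlg.IsUniversallyCatenary A) [Algebra.FiniteType A B]
    {Z : Set (PrimeSpectrum B)} (hZ : IsClosed Z) {S : Set (ℕ∞ × ℕ)} (hS : SDown S)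
    (z' : PrimeSpectrum B) (hz' : z' ∈ Tset A M Z S) (x : PrimeSpectrum B)
    (hle : z'.asIdeal ≤ x.asIdeal) : x ∈ Bad A M Z S := by
  obtain ⟨z, hzp, hz'z, hzx, hzA, hftd⟩ := exists_fibGen_ftd_le hUC z'.asIdeal x.asIdeal hle
  refine ⟨⟨z, hzp⟩, ⟨?_, ?_⟩, hzx, hzA⟩
  · have hspec : z' ⤳ (⟨z, hzp⟩ : PrimeSpectrum B) :=
      (PrimeSpectrum.le_iff_specializes z' ⟨z, hzp⟩).mp hz'z
    exact hZ.stableUnderSpecialization hspec hz'.1
  · have hmono := rdep_mono (A := A) M z z'.asIdeal hz'z
    unfold rdep at hmono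
    exact hS _ _ _ _ hz'.2 hftd hmono

/-- a point all of whose neighbourhoods contain specializations in `Tset` is in `Tset`. -/
theorem mem_tset_of_dense (hA : CMU A) (hB : CMU B) (hUC : CAlg.IsUniversallyCatenary A)
    [Algebra.FiniteType A B]
    {Z : Set (PrimeSpectrum B)} (hZ : IsClosed Z) {S : Set (ℕ∞ × ℕ)} (hS : SDown S)
    (hS' : SFin S) (ζ : PrimeSpectrum B)
    (hdense : ∀ G : Set (PrimeSpectrum B), IsOpen G → ζ ∈ G →
      ∃ t ∈ Tset A M Z S, t ∈ G ∧ ζ.asIdeal ≤ t.asIdeal) : ζ ∈ Tset A M Z S := by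
  haveI : Module.Finite B (M ⊗[A] A) := TensorDim.finite_tensor A B A M
  refine ⟨?_, ?_⟩
  · by_contra hζ
    obtain ⟨t, ht, htG, -⟩ := hdense Zᶜ hZ.isOpen_compl hζ
    exact htG ht.1
  · -- the depth at `ζ` is finite
    have hfin : fdep A M ζ.asIdeal ≠ ⊤ := by
      intro htop
      rw [fdep_eq_top_iff] at htop
      obtain ⟨t, ht, htG, -⟩ := hdense (Module.support B (M ⊗[A] A))ᶜ
        Module.isClosed_support.isOpen_compl htop
      have : fdep A M t.asIdeal = ⊤ := (fdep_eq_top_iff M t).mpr htG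
      exact hS' _ _ ht.2 this
    obtain ⟨n, hn⟩ := ENat.ne_top_iff_exists.mp hfin
    obtain ⟨g, hg, hgen⟩ := exists_ftd_le (A := A) (B := B) hUC ζ.asIdeal
    have hopen := isOpen_rdep_noeth (A := A) (B := B) M (n + ftd A ζ.asIdeal) hA hB hUC
    have hζopen : ζ ∈ {r : PrimeSpectrum B | ((n + ftd A ζ.asIdeal : ℕ) : ℕ∞) ≤
        rdep A M r.asIdeal} := by
      change ((n + ftd A ζ.asIdeal : ℕ) : ℕ∞) ≤ rdep A M ζ.asIdeal
      unfold rdep
      rw [← hn]
      push_cast
      exact le_rfl
    obtain ⟨t, ht, ⟨htG1, htG2⟩, hζt⟩ := hdense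
      ({r : PrimeSpectrum B | ((n + ftd A ζ.asIdeal : ℕ) : ℕ∞) ≤ rdep A M r.asIdeal} ∩
        (PrimeSpectrum.basicOpen (algebraMap A B g) : Set (PrimeSpectrum B)))
      (hopen.inter (PrimeSpectrum.basicOpen _).isOpen) ⟨hζopen, hg⟩
    have h1 : ftd A t.asIdeal ≤ ftd A ζ.asIdeal := hgen t.asIdeal hζt htG2
    have h2 : ((n + ftd A ζ.asIdeal : ℕ) : ℕ∞) ≤ rdep A M t.asIdeal := htG1
    unfold rdep at h2
    refine hS _ _ _ _ ht.2 h1 ?_
    rw [← hn]
    exact_mod_cast h2

/-- **Closedness of the fibrewise specializations.** -/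
theorem isClosed_bad (hA : CMU A) (hB : CMU B) (hUC : CAlg.IsUniversallyCatenary A)
    [Algebra.FiniteType A B]
    {Z : Set (PrimeSpectrum B)} (hZ : IsClosed Z) {S : Set (ℕ∞ × ℕ)} (hS : SDown S)
    (hS' : SFin S) : IsClosed (Bad A M Z S) := by
  classical
  set I : Ideal B := PrimeSpectrum.vanishingIdeal (Tset A M Z S) with hI
  have hcl : PrimeSpectrum.zeroLocus (I : Set B) = closure (Tset A M Z S) :=
    PrimeSpectrum.zeroLocus_vanishingIdeal_eq_closure _
  have hfin : I.minimalPrimes.Finite := Ideal.finite_minimalPrimes_of_isNoetherianRing B I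
  suffices h : Bad A M Z S = PrimeSpectrum.zeroLocus (I : Set B) by
    rw [h]
    exact PrimeSpectrum.isClosed_zeroLocus _
  ext x
  constructor
  · rintro ⟨z, hz, hzx, -⟩
    rw [PrimeSpectrum.mem_zeroLocus, SetLike.coe_subset_coe]
    refine le_trans ?_ hzx
    intro b hb
    exact (PrimeSpectrum.mem_vanishingIdeal _ _).mp hb z hz
  · intro hx
    rw [PrimeSpectrum.mem_zeroLocus, SetLike.coe_subset_coe] at hx
    obtain ⟨ζ, hζmin, hζx⟩ := Ideal.exists_minimalPrimes_le hx
    haveI hζp : ζ.IsPrime := hζmin.1.1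
    have hζT : (⟨ζ, hζp⟩ : PrimeSpectrum B) ∈ Tset A M Z S := by
      apply mem_tset_of_dense M hA hB hUC hZ hS hS'
      intro G hG hζG
      set G' : Set (PrimeSpectrum B) := G ∩ ⋂ ζ' ∈ I.minimalPrimes \ {ζ},
        (PrimeSpectrum.zeroLocus (ζ' : Set B))ᶜ with hG'
      have hG'open : IsOpen G' :=
        hG.inter ((hfin.subset Set.diff_subset).isOpen_biInter
          fun ζ' _ => (PrimeSpectrum.isClosed_zeroLocus _).isOpen_compl)
      have hζG' : (⟨ζ, hζp⟩ : PrimeSpectrum B) ∈ G' := by
        refine ⟨hζG, ?_⟩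
        simp only [Set.mem_iInter, Set.mem_compl_iff, PrimeSpectrum.mem_zeroLocus,
          SetLike.coe_subset_coe]
        rintro ζ' ⟨hζ'min, hne⟩ hle
        exact hne (le_antisymm hle (hζmin.2 hζ'min.1 hle))
      have hζcl : (⟨ζ, hζp⟩ : PrimeSpectrum B) ∈ closure (Tset A M Z S) := by
        rw [← hcl, PrimeSpectrum.mem_zeroLocus, SetLike.coe_subset_coe]
        exact hζmin.1.2
      obtain ⟨t, htG', htT⟩ := mem_closure_iff.mp hζcl G' hG'open hζG'
      refine ⟨t, htT, htG'.1, ?_⟩
      have hIt : I ≤ t.asIdeal := by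
        intro b hb
        exact (PrimeSpectrum.mem_vanishingIdeal _ _).mp hb t htT
      obtain ⟨ζ'', hζ''min, hζ''t⟩ := Ideal.exists_minimalPrimes_le hIt
      by_cases heq : ζ'' = ζ
      · change ζ ≤ t.asIdeal
        rw [← heq]
        exact hζ''t
      · exfalso
        have := htG'.2
        simp only [Set.mem_iInter, Set.mem_compl_iff, PrimeSpectrum.mem_zeroLocus,
          SetLike.coe_subset_coe] at this
        exact this ζ'' ⟨hζ''min, heq⟩ hζ''t
    exact mem_bad_of_le M hUC hZ hS ⟨ζ, hζp⟩ hζT x hζx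

end Noeth

end

-- ===== part NmC =====
section

open TensorProduct Topology
open Groth.Agent.Lib.Helper4.DimFormula Groth.Agent.Lib.Helper6.OpenDim
open Groth.Agent.Lib.Helper28 Groth.Agent.Lib.Helper5 Groth.Agent.Lib.Helper5.GenDepth
open Groth.Agent.Lib.H9ModFibAlg Groth.Agent.Lib.H9RectDepthAlg Groth.Agent.Lib.H9RectDepthConstr
open Groth.Agent.Lib.Helper5.CodepthOpen Groth.Agent.Lib.Helper5.FibCodepthConstr

section Pushout

set_option synthInstance.maxHeartbeats 400000 in
set_option maxHeartbeats 3200000 in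
/-- **Transcendence degrees under a base change to a field**: for a pushout `T = L ⊗[A] B` with
`L` a field, the relative transcendence degree can only drop, and every fibrewise generization
downstairs lifts to a fibrewise generization upstairs with the same transcendence degree. -/
theorem pushout_ftd
    {A B : Type u} (L : Type u) {T : Type u} [CommRing A] [CommRing B] [Field L] [CommRing T]
    [Algebra A B] [Algebra A L] [Algebra A T] [Algebra B T] [Algebra L T]
    [IsScalarTower A B T] [IsScalarTower A L T] [Algebra.IsPushout A L B T]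
    [Algebra.FiniteType A B] :
    (∀ (𝔔 : Ideal T) [𝔔.IsPrime], ftd L 𝔔 ≤ ftd A (𝔔.comap (algebraMap B T))) ∧
    (∀ (𝔛 : Ideal T) [𝔛.IsPrime] (z : Ideal B) [z.IsPrime], z ≤ 𝔛.comap (algebraMap B T) →
      z.under A = (𝔛.comap (algebraMap B T)).under A →
      ∃ (𝔔 : Ideal T) (_ : 𝔔.IsPrime), 𝔔 ≤ 𝔛 ∧ 𝔔.comap (algebraMap B T) = z ∧
        ftd L 𝔔 = ftd A z) := by
  let p : Ideal A := RingHom.ker (algebraMap A L)
  have hp : p.IsPrime := RingHom.ker_isPrime _
  let φ : p.ResidueField →+* L := Ideal.ResidueField.lift p (algebraMap A L) le_rfl (by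
    intro a ha
    simp only [Submonoid.mem_comap, IsUnit.mem_submonoid_iff]
    exact IsUnit.mk0 _ (fun h => ha (RingHom.mem_ker.mpr h)))
  let _ : Algebra p.ResidueField L := φ.toAlgebra
  have : IsScalarTower A p.ResidueField L := .of_algebraMap_eq fun a => by
    rw [RingHom.algebraMap_toAlgebra]
    exact (Ideal.ResidueField.lift_algebraMap ..).symm
  let _ : Algebra p.ResidueField T := ((algebraMap L T).comp φ).toAlgebra
  have : IsScalarTower p.ResidueField L T := .of_algebraMap_eq' rfl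
  have : IsScalarTower A p.ResidueField T := .of_algebraMap_eq fun a => by
    rw [IsScalarTower.algebraMap_apply A L T, IsScalarTower.algebraMap_apply A p.ResidueField L,
      ← IsScalarTower.algebraMap_apply p.ResidueField L T]
  letI : Algebra B (p.Fiber B) := Algebra.TensorProduct.rightAlgebra
  let ψ : p.Fiber B →ₐ[A] T := Algebra.TensorProduct.lift
    (IsScalarTower.toAlgHom A p.ResidueField T) (IsScalarTower.toAlgHom A B T)
    (fun _ _ => .all _ _)
  let _ : Algebra (p.Fiber B) T := ψ.toRingHom.toAlgebra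
  have hκ : @IsScalarTower p.ResidueField (p.Fiber B) T Algebra.toSMul Algebra.toSMul
      Algebra.toSMul := .of_algebraMap_eq fun x => by
    simp [RingHom.algebraMap_toAlgebra, ψ, Algebra.TensorProduct.algebraMap_apply]
  have : IsScalarTower p.ResidueField (p.Fiber B) T := hκ
  have : IsScalarTower B (p.Fiber B) T := .of_algebraMap_eq fun x => by
    simp [RingHom.algebraMap_toAlgebra, ψ, Algebra.TensorProduct.algebraMap_apply]
  have : IsScalarTower A (p.Fiber B) T := .of_algebraMap_eq fun a => (ψ.commutes a).symm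
  have hpush : Algebra.IsPushout p.ResidueField L (p.Fiber B) T :=
    (Algebra.IsPushout.comp_iff A p.ResidueField B (p.Fiber B)).mp inferInstance
  haveI : Algebra.FiniteType p.ResidueField (p.Fiber B) := inferInstance
  haveI hNΦ : IsNoetherianRing (p.Fiber B) :=
    Algebra.FiniteType.isNoetherianRing p.ResidueField (p.Fiber B)
  haveI hflat : Module.Flat (p.Fiber B) T :=
    Module.Flat.isBaseChange (R := p.ResidueField) (S := p.Fiber B) (M := L) T hpush.symm.out
  have hpo1 : Algebra.IsPushout p.ResidueField (p.Fiber B) L T := Algebra.IsPushout.symm hpush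
  haveI : Algebra.FiniteType L T :=
    Algebra.FiniteType.equiv (inferInstanceAs (Algebra.FiniteType L (L ⊗[p.ResidueField] p.Fiber B)))
      (Algebra.IsPushout.equiv p.ResidueField L (p.Fiber B) T)
  haveI hNT : IsNoetherianRing T := Algebra.FiniteType.isNoetherianRing L T
  -- compatibility of contractions
  have hr : ∀ (𝔔 : Ideal T), 𝔔.comap (algebraMap B T) =
      (𝔔.comap (algebraMap (p.Fiber B) T)).comap
        (Algebra.TensorProduct.includeRight : B →ₐ[A] p.Fiber B) := by
    intro 𝔔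
    ext b
    simp only [Ideal.mem_comap]
    have : algebraMap (p.Fiber B) T ((Algebra.TensorProduct.includeRight : B →ₐ[A] p.Fiber B) b) =
        algebraMap B T b := by
      rw [IsScalarTower.algebraMap_apply B (p.Fiber B) T]
      rfl
    rw [this]
  -- the transcendence degree is computed in the fibre
  have hF1 : ∀ (Q : Ideal (p.Fiber B)) [Q.IsPrime] (q : Ideal B) [q.IsPrime],
      q = Q.comap (Algebra.TensorProduct.includeRight : B →ₐ[A] p.Fiber B) →
      ftd p.ResidueField Q = ftd A q := by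
    intro Q _ q _ hq
    refine ftd_eq_of_fiberLike (A := A) (B := B) (κ := p.ResidueField) (Φ := p.Fiber B) p ?_ ?_ ?_
      Q q hq
    · intro a
      exact Ideal.algebraMap_residueField_eq_zero
    · intro z
      obtain ⟨x, y, hy, rfl⟩ := IsFractionRing.div_surjective (A := A ⧸ p) z
      obtain ⟨x, rfl⟩ := Ideal.Quotient.mk_surjective x
      obtain ⟨y, rfl⟩ := Ideal.Quotient.mk_surjective y
      exact ⟨x, y, rfl⟩
    · intro x
      obtain ⟨r, hr, s, e⟩ := Ideal.Fiber.exists_smul_eq_one_tmul p x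
      refine ⟨r, hr, s, ?_⟩
      rw [← Algebra.smul_def, e]
      rfl
  refine ⟨?_, ?_⟩
  · intro 𝔔 _
    set Q : Ideal (p.Fiber B) := 𝔔.comap (algebraMap (p.Fiber B) T) with hQ
    haveI hlocF : IsLocalRing (EGA4.FibLocRing (p.Fiber B) T 𝔔) :=
      isLocalRing_fibLocRing (A := p.Fiber B) 𝔔
    have hII := fibLocRing_dim_add_ftd p.ResidueField L (p.Fiber B) T 𝔔 Q hQ
    have h1 := hF1 Q (𝔔.comap (algebraMap B T)) (hr 𝔔)
    rw [h1] at hII
    have h0 : (0 : WithBot ℕ∞) ≤ ringKrullDim (EGA4.FibLocRing (p.Fiber B) T 𝔔) :=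
      ringKrullDim_nonneg_of_nontrivial
    have h2 : ((ftd L 𝔔 : ℕ) : WithBot ℕ∞) ≤ ((ftd A (𝔔.comap (algebraMap B T)) : ℕ) : WithBot ℕ∞) := by
      rw [← hII]
      exact le_add_of_nonneg_left h0
    exact_mod_cast h2
  · intro 𝔛 _ z _ hzx hzA
    set x : Ideal B := 𝔛.comap (algebraMap B T) with hx
    set XΦ : Ideal (p.Fiber B) := 𝔛.comap (algebraMap (p.Fiber B) T) with hXΦ
    -- both `z` and `x` lie over `p`
    have hxA : x.under A = p := by
      rw [hx, Ideal.under_def, Ideal.comap_comap, ← IsScalarTower.algebraMap_eq,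
        IsScalarTower.algebraMap_eq A L T, ← Ideal.comap_comap]
      have : 𝔛.comap (algebraMap L T) = ⊥ := by
        haveI : (𝔛.comap (algebraMap L T)).IsPrime := Ideal.comap_isPrime _ _
        rcases Ideal.eq_bot_or_top (𝔛.comap (algebraMap L T)) with h | h
        · exact h
        · exact absurd h (Ideal.IsPrime.ne_top inferInstance)
      rw [this]
      rfl
    have hzA' : z.under A = p := hzA.trans hxA
    let e := PrimeSpectrum.primesOverOrderIsoFiber A B p
    let zz : p.primesOver B := ⟨z, ⟨inferInstance, ⟨hzA'.symm⟩⟩⟩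
    let xx : p.primesOver B := ⟨x, ⟨inferInstance, ⟨hxA.symm⟩⟩⟩
    have hle : zz ≤ xx := hzx
    have hle' : e zz ≤ e xx := e.monotone hle
    have hexx : (e xx).asIdeal = XΦ := by
      have h1 : e.symm ⟨XΦ, inferInstance⟩ = xx := by
        apply Subtype.ext
        change XΦ.comap (Algebra.TensorProduct.includeRight : B →ₐ[A] p.Fiber B).toRingHom = x
        exact (hr 𝔛).symm
      rw [← h1, e.apply_symm_apply]
    have hezz : (e zz).asIdeal.comap
        (Algebra.TensorProduct.includeRight : B →ₐ[A] p.Fiber B) = z := by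
      have h1 := e.symm_apply_apply zz
      exact congrArg Subtype.val h1
    set ZΦ : Ideal (p.Fiber B) := (e zz).asIdeal with hZΦ
    haveI : ZΦ.IsPrime := (e zz).2
    have hZX : ZΦ ≤ XΦ := by
      rw [← hexx]
      exact hle'
    have hI : ZΦ.map (algebraMap (p.Fiber B) T) ≤ 𝔛 := Ideal.map_le_iff_le_comap.mpr hZX
    obtain ⟨𝔔, h𝔔min, h𝔔𝔛⟩ := Ideal.exists_minimalPrimes_le hI
    haveI h𝔔p : 𝔔.IsPrime := h𝔔min.1.1
    have h𝔔Φ : 𝔔.comap (algebraMap (p.Fiber B) T) = ZΦ :=
      Groth.Agent.Lib.R2H2.NoEmbBC.comap_eq_of_mem_minimalPrimes_map ZΦ 𝔔 h𝔔min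
    have h𝔔B : 𝔔.comap (algebraMap B T) = z := by
      rw [hr 𝔔, h𝔔Φ]
      exact hezz
    refine ⟨𝔔, h𝔔p, h𝔔𝔛, h𝔔B, ?_⟩
    haveI hlocF : IsLocalRing (EGA4.FibLocRing (p.Fiber B) T 𝔔) :=
      isLocalRing_fibLocRing (A := p.Fiber B) 𝔔
    have hII := fibLocRing_dim_add_ftd p.ResidueField L (p.Fiber B) T 𝔔 ZΦ h𝔔Φ.symm
    have h1 := hF1 ZΦ z hezz.symm
    rw [h1] at hII
    have hdim : ringKrullDim (EGA4.FibLocRing (p.Fiber B) T 𝔔) = 0 := by
      rw [ringKrullDim_fibLocRing, h𝔔Φ]
      have h2 : (𝔔.map (Ideal.Quotient.mk (ZΦ.map (algebraMap (p.Fiber B) T)))).height = 0 := by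
        have hmin := h𝔔min
        rw [Ideal.minimalPrimes_eq_comap] at hmin
        obtain ⟨Q, hQ, hQe⟩ := hmin
        haveI : Q.IsPrime := hQ.1.1
        rw [← hQe, Ideal.map_comap_of_surjective _ Ideal.Quotient.mk_surjective]
        exact Ideal.height_eq_zero_iff.mpr hQ
      rw [h2]
      rfl
    rw [hdim, zero_add] at hII
    exact_mod_cast hII

end Pushout

end

-- ===== part NmD =====
section

open TensorProduct Topology
open Groth.Agent.Lib.Helper4.DimFormula Groth.Agent.Lib.Helper6.OpenDim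
open Groth.Agent.Lib.Helper28 Groth.Agent.Lib.Helper5 Groth.Agent.Lib.Helper5.GenDepth
open Groth.Agent.Lib.H9ModFibAlg Groth.Agent.Lib.H9RectDepthAlg Groth.Agent.Lib.H9RectDepthConstr
open Groth.Agent.Lib.Helper5.CodepthOpen Groth.Agent.Lib.Helper5.FibCodepthConstr

attribute [local instance] Algebra.TensorProduct.rightAlgebra

section FiberFtd

variable {A B : Type u} [CommRing A] [CommRing B] [Algebra A B] [Algebra.FiniteType A B]

/-- the relative transcendence degree is computed in the fibre ring. -/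
theorem ftd_fiber_eq (p : Ideal A) [p.IsPrime] (Q : Ideal (p.Fiber B)) [Q.IsPrime]
    (q : Ideal B) [q.IsPrime] (hq : q = Q.comap (algebraMap B (p.Fiber B))) :
    ftd p.ResidueField Q = ftd A q := by
  refine ftd_eq_of_fiberLike (A := A) (B := B) (κ := p.ResidueField) (Φ := p.Fiber B) p ?_ ?_ ?_
    Q q hq
  · intro a
    exact Ideal.algebraMap_residueField_eq_zero
  · intro z
    obtain ⟨x, y, hy, rfl⟩ := IsFractionRing.div_surjective (A := A ⧸ p) z
    obtain ⟨x, rfl⟩ := Ideal.Quotient.mk_surjective x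
    obtain ⟨y, rfl⟩ := Ideal.Quotient.mk_surjective y
    exact ⟨x, y, rfl⟩
  · intro x
    obtain ⟨r, hr, s, e⟩ := Ideal.Fiber.exists_smul_eq_one_tmul p x
    refine ⟨r, hr, s, ?_⟩
    rw [← Algebra.smul_def, e]
    rfl

/-- a prime of the fibre ring over `p` contracts to `p`. -/
theorem under_comap_fiber (p : Ideal A) [p.IsPrime] (Q : Ideal (p.Fiber B)) [hQ : Q.IsPrime] :
    (Q.comap (algebraMap B (p.Fiber B))).under A = p := by
  have h := ((PrimeSpectrum.preimageEquivFiber A B ⟨p, inferInstance⟩).symm ⟨Q, hQ⟩).2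
  exact congrArg PrimeSpectrum.asIdeal h

end FiberFtd

section General

theorem ftd_congr (A : Type u) {B : Type u} [CommRing A] [CommRing B] [Algebra A B]
    (q q' : Ideal B) [q.IsPrime] [q'.IsPrime] (h : q = q') : ftd A q = ftd A q' := by
  subst h
  rfl

variable {A B A' B' : Type u} [CommRing A] [CommRing B] [CommRing A'] [CommRing B']
  [Algebra A B] [Algebra A A'] [Algebra B B'] [Algebra A' B'] [Algebra A B']
  [IsScalarTower A B B'] [IsScalarTower A A' B'] [Algebra.IsPushout A B A' B']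
  [Algebra.FiniteType A B]

set_option synthInstance.maxHeartbeats 400000 in
set_option maxHeartbeats 3200000 in
/-- **Relative transcendence degrees under an arbitrary base change.** -/
theorem ftd_baseChange :
    (∀ (z' : Ideal B') [z'.IsPrime] (z : Ideal B) [z.IsPrime], z = z'.comap (algebraMap B B') →
      ftd A' z' ≤ ftd A z) ∧
    (∀ (x' : Ideal B') [x'.IsPrime] (z : Ideal B) [z.IsPrime], z ≤ x'.comap (algebraMap B B') →
      z.under A = (x'.comap (algebraMap B B')).under A →
      ∃ (z' : Ideal B') (_ : z'.IsPrime), z' ≤ x' ∧ z'.comap (algebraMap B B') = z ∧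
        z'.under A' = x'.under A' ∧ ftd A' z' = ftd A z) := by
  have hpo1 : Algebra.IsPushout A A' B B' := Algebra.IsPushout.symm inferInstance
  haveI : Algebra.FiniteType A' B' :=
    Algebra.FiniteType.equiv (inferInstanceAs (Algebra.FiniteType A' (A' ⊗[A] B)))
      (Algebra.IsPushout.equiv A A' B B')
  -- common setup for a prime `p'` of `A'`
  have key : ∀ (p' : Ideal A') [p'.IsPrime],
      (∀ (𝔔 : Ideal (p'.Fiber B')) [𝔔.IsPrime] (z' : Ideal B') [z'.IsPrime],
        z' = 𝔔.comap (algebraMap B' (p'.Fiber B')) → ∀ (z : Ideal B) [z.IsPrime],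
        z = z'.comap (algebraMap B B') → ftd A' z' ≤ ftd A z) ∧
      (∀ (𝔛 : Ideal (p'.Fiber B')) [𝔛.IsPrime] (x' : Ideal B') [x'.IsPrime],
        x' = 𝔛.comap (algebraMap B' (p'.Fiber B')) → ∀ (z : Ideal B) [z.IsPrime],
        z ≤ x'.comap (algebraMap B B') → z.under A = (x'.comap (algebraMap B B')).under A →
        ∃ (z' : Ideal B') (_ : z'.IsPrime), z' ≤ x' ∧ z'.comap (algebraMap B B') = z ∧
          z'.under A' = p' ∧ ftd A' z' = ftd A z) := by
    intro p' _
    let _ : Algebra B (p'.Fiber B') :=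
      ((algebraMap B' (p'.Fiber B')).comp (algebraMap B B')).toAlgebra
    have : IsScalarTower B B' (p'.Fiber B') := .of_algebraMap_eq' rfl
    have hAT : IsScalarTower A A' (p'.Fiber B') := inferInstance
    have : IsScalarTower A B (p'.Fiber B') := .of_algebraMap_eq fun a => by
      rw [IsScalarTower.algebraMap_apply B B' (p'.Fiber B'),
        ← IsScalarTower.algebraMap_apply A B B', IsScalarTower.algebraMap_apply A A' B',
        ← IsScalarTower.algebraMap_apply A' B' (p'.Fiber B'),
        ← IsScalarTower.algebraMap_apply A A' (p'.Fiber B')]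
    have : IsScalarTower A B' (p'.Fiber B') := .of_algebraMap_eq fun a => by
      rw [IsScalarTower.algebraMap_apply A A' B',
        ← IsScalarTower.algebraMap_apply A' B' (p'.Fiber B'),
        ← IsScalarTower.algebraMap_apply A A' (p'.Fiber B')]
    have hpo2 : Algebra.IsPushout A' p'.ResidueField B' (p'.Fiber B') := inferInstance
    have hpo : Algebra.IsPushout A p'.ResidueField B (p'.Fiber B') :=
      (Algebra.IsPushout.comp_iff A A' B B').mpr hpo2
    obtain ⟨k1, k2⟩ := pushout_ftd (A := A) (B := B) p'.ResidueField (T := p'.Fiber B')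
    have hcc : ∀ (𝔔 : Ideal (p'.Fiber B')),
        (𝔔.comap (algebraMap B' (p'.Fiber B'))).comap (algebraMap B B') =
          𝔔.comap (algebraMap B (p'.Fiber B')) := by
      intro 𝔔
      rw [Ideal.comap_comap]
      rfl
    refine ⟨?_, ?_⟩
    · intro 𝔔 _ z' _ hz' z _ hz
      rw [← ftd_fiber_eq p' 𝔔 z' hz',
        ftd_congr A z (𝔔.comap (algebraMap B (p'.Fiber B'))) (by rw [hz, hz', hcc])]
      exact k1 𝔔
    · intro 𝔛 _ x' _ hx' z _ hzx hzA
      have hxx : x'.comap (algebraMap B B') = 𝔛.comap (algebraMap B (p'.Fiber B')) := by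
        rw [hx', hcc]
      rw [hxx] at hzx hzA
      obtain ⟨𝔔, h𝔔p, h𝔔𝔛, h𝔔z, h𝔔ftd⟩ := k2 𝔛 z hzx hzA
      haveI := h𝔔p
      refine ⟨𝔔.comap (algebraMap B' (p'.Fiber B')), Ideal.comap_isPrime _ _, ?_, ?_, ?_, ?_⟩
      · rw [hx']
        exact Ideal.comap_mono h𝔔𝔛
      · rw [hcc]
        exact h𝔔z
      · exact under_comap_fiber p' 𝔔
      · rw [← ftd_fiber_eq p' 𝔔 (𝔔.comap (algebraMap B' (p'.Fiber B'))) rfl]
        exact h𝔔ftd
  refine ⟨?_, ?_⟩
  · intro z' _ z _ hz
    obtain ⟨𝔔, h𝔔prime, hq𝔔⟩ := exists_prime_fiber_comap_eq (A := A') z'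
    haveI := h𝔔prime
    exact (key (z'.comap (algebraMap A' B'))).1 𝔔 z' hq𝔔 z hz
  · intro x' _ z _ hzx hzA
    obtain ⟨𝔛, h𝔛prime, hq𝔛⟩ := exists_prime_fiber_comap_eq (A := A') x'
    haveI := h𝔛prime
    exact (key (x'.comap (algebraMap A' B'))).2 𝔛 x' hq𝔛 z hzx hzA

end General

end

-- ===== part NmE =====
section

open TensorProduct Topology
open Groth.Agent.Lib.Helper4.DimFormula Groth.Agent.Lib.Helper6.OpenDim
open Groth.Agent.Lib.Helper28 Groth.Agent.Lib.Helper5 Groth.Agent.Lib.Helper5.GenDepth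
open Groth.Agent.Lib.H9ModFibAlg Groth.Agent.Lib.H9RectDepthAlg Groth.Agent.Lib.H9RectDepthConstr
open Groth.Agent.Lib.Helper5.CodepthOpen Groth.Agent.Lib.Helper5.FibCodepthConstr

/-- the closed set used to cut down `Tset`: everything, or the locus where the fibre module is
not Cohen–Macaulay of dimension... (codepth `> 0`). -/
def ZC (c : Prop) (A : Type u) {B : Type u} [CommRing A] [CommRing B] [Algebra A B]
    (M : Type u) [AddCommGroup M] [Module B M] : Set (PrimeSpectrum B) :=
  {z | c → ¬ CodLE 0 A M z.asIdeal}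

section BC

variable {A B A' B' : Type u} [CommRing A] [CommRing B] [CommRing A'] [CommRing B']
  [Algebra A B] [Algebra A A'] [Algebra B B'] [Algebra A' B'] [Algebra A B']
  [IsScalarTower A B B'] [IsScalarTower A A' B'] [Algebra.IsPushout A B A' B']
  [Algebra.FiniteType A B]
  (M : Type u) [AddCommGroup M] [Module B M] [Module.Finite B M]
  (M' : Type u) [AddCommGroup M'] [Module B' M'] [Module B M'] [IsScalarTower B B' M']
  (f : M →ₗ[B] M') (hf : IsBaseChange B' f)

include f hf in
/-- **Base change invariance** of the fibrewise specializations of `Tset`. -/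
theorem bad_baseChange (c : Prop) {S : Set (ℕ∞ × ℕ)} (hS : SDown S) (x' : PrimeSpectrum B') :
    x' ∈ Bad A' M' (ZC c A' M') S ↔
      PrimeSpectrum.comap (algebraMap B B') x' ∈ Bad A M (ZC c A M) S := by
  obtain ⟨k1, k2⟩ := ftd_baseChange (A := A) (B := B) (A' := A') (B' := B')
  have hAA : ∀ (q' : Ideal B'), (q'.comap (algebraMap B B')).under A = (q'.under A').under A := by
    intro q'
    rw [Ideal.under_def, Ideal.under_def, Ideal.under_def, Ideal.comap_comap, Ideal.comap_comap,
      ← IsScalarTower.algebraMap_eq, ← IsScalarTower.algebraMap_eq]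
  constructor
  · rintro ⟨z', ⟨hz'Z, hz'S⟩, hz'x', hz'A'⟩
    haveI := z'.2
    refine ⟨PrimeSpectrum.comap (algebraMap B B') z', ⟨?_, ?_⟩, Ideal.comap_mono hz'x', ?_⟩
    · intro hc hcod
      exact hz'Z hc ((codLE_baseChange 0 (A := A) (A' := A') M M' f hf z'.asIdeal
        (z'.asIdeal.comap (algebraMap B B')) rfl).mpr hcod)
    · have h1 := rdep_baseChange (A := A) (B := B) (A' := A') (B' := B') M M' f hf z'.asIdeal
        (z'.asIdeal.comap (algebraMap B B')) rfl
      have h2 := k1 z'.asIdeal (z'.asIdeal.comap (algebraMap B B')) rfl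
      unfold rdep at h1
      exact hS _ _ _ _ hz'S h2 (le_of_eq h1.symm)
    · change (z'.asIdeal.comap (algebraMap B B')).under A =
        (x'.asIdeal.comap (algebraMap B B')).under A
      rw [hAA, hAA, hz'A']
  · rintro ⟨z, ⟨hzZ, hzS⟩, hzx, hzA⟩
    haveI := z.2
    haveI := x'.2
    obtain ⟨z', hz'p, hz'x', hz'z, hz'A', hz'ftd⟩ := k2 x'.asIdeal z.asIdeal hzx hzA
    haveI := hz'p
    have h1 := rdep_baseChange (A := A) (B := B) (A' := A') (B' := B') M M' f hf z'
      z.asIdeal hz'z.symm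
    unfold rdep at h1
    rw [hz'ftd] at h1
    have h2 : fdep A' M' z' = fdep A M z.asIdeal :=
      ENat.add_left_injective_of_ne_top (ENat.coe_ne_top _) h1
    refine ⟨⟨z', hz'p⟩, ⟨?_, ?_⟩, hz'x', hz'A'⟩
    · intro hc hcod
      exact hzZ hc ((codLE_baseChange 0 (A := A) (A' := A') M M' f hf z'
        z.asIdeal hz'z.symm).mp hcod)
    · change (fdep A' M' z', ftd A' z') ∈ S
      rw [h2, hz'ftd]
      exact hzS

end BC

end

-- ===== part NmF =====
section

open TensorProduct Topology
open Groth.Agent.Lib.Helper4.DimFormula Groth.Agent.Lib.Helper6.OpenDim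
open Groth.Agent.Lib.Helper28 Groth.Agent.Lib.Helper5 Groth.Agent.Lib.Helper5.GenDepth
open Groth.Agent.Lib.H9ModFibAlg Groth.Agent.Lib.H9RectDepthAlg Groth.Agent.Lib.H9RectDepthConstr
open Groth.Agent.Lib.Helper5.CodepthOpen Groth.Agent.Lib.Helper5.FibCodepthConstr

section ZCclosed

variable {A B : Type u} [CommRing A] [CommRing B] [Algebra A B] [IsNoetherianRing A]
  [IsNoetherianRing B] (M : Type u) [AddCommGroup M] [Module B M] [Module A M]
  [IsScalarTower A B M] [Module.Finite B M] [Module.Flat A M]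

theorem isClosed_ZC (c : Prop) (hA : CMU A) (hB : CMU B) [Algebra.FiniteType A B] :
    IsClosed (ZC c A M : Set (PrimeSpectrum B)) := by
  by_cases hc : c
  · have : (ZC c A M : Set (PrimeSpectrum B)) =
        {r : PrimeSpectrum B | CodLE 0 A M r.asIdeal}ᶜ := by
      ext z
      simp [ZC, hc]
    rw [this]
    exact (isOpen_codLE_noeth (A := A) (B := B) M 0 hA hB).isClosed_compl
  · have : (ZC c A M : Set (PrimeSpectrum B)) = Set.univ := by
      ext z
      simp [ZC, hc]
    rw [this]
    exact isClosed_univ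

end ZCclosed

set_option synthInstance.maxHeartbeats 400000 in
set_option maxHeartbeats 1600000 in
/-- **EGA IV 12.1.1 (numerical form)**: for `B` of finite presentation over `A` and `M` a finitely
presented `B`-module flat over `A`, the set of primes having a fibrewise generization whose
invariants (fibre depth, relative transcendence degree) lie in `S` (and, if `c`, at which the
fibre module is not Cohen–Macaulay) is closed. -/
theorem isClosed_bad_fp (c : Prop) {S : Set (ℕ∞ × ℕ)} (hS : SDown S) (hS' : SFin S)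
    {A B : Type u} [CommRing A] [CommRing B] [Algebra A B]
    [Algebra.FinitePresentation A B] (M : Type u) [AddCommGroup M] [Module B M] [Module A M]
    [IsScalarTower A B M] [Module.FinitePresentation B M] [Module.Flat A M] :
    IsClosed (Bad A M (ZC c A M) S : Set (PrimeSpectrum B)) := by
  obtain ⟨A₀, i1, i2, B₀, i3, i4, i5, i6, i7, i8, M₀, i9, i10, i11, i12, i13, i14, f, h1, h2, h3,
    h4, h5, h6⟩ := Groth.Agent.Lib.Helper3.FlatModelMod.exists_flat_module_model A B M
  haveI := h2
  haveI := h3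
  haveI := h4
  haveI : IsNoetherianRing A₀ := Algebra.FiniteType.isNoetherianRing ℤ A₀
  haveI : IsNoetherianRing B₀ := Algebra.FiniteType.isNoetherianRing A₀ B₀
  have hA₀ : CMU A₀ := cmu_of_finiteType_int A₀ h1
  have hB₀ : CMU B₀ := cmu_of_finiteType_int B₀ (Algebra.FiniteType.trans h1 h2)
  have hUC : CAlg.IsUniversallyCatenary A₀ := isUniversallyCatenary_of_finiteType_int A₀ h1
  have hcl := isClosed_bad (A := A₀) (B := B₀) M₀ hA₀ hB₀ hUC (isClosed_ZC M₀ c hA₀ hB₀) hS hS'
  haveI hpo : Algebra.IsPushout A₀ B₀ A B := Algebra.IsPushout.symm h5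
  have heq : (Bad A M (ZC c A M) S : Set (PrimeSpectrum B)) =
      PrimeSpectrum.comap (algebraMap B₀ B) ⁻¹' (Bad A₀ M₀ (ZC c A₀ M₀) S) := by
    ext r
    exact bad_baseChange (A := A₀) (B := B₀) (A' := A) (B' := B) M₀ M f h6 c hS r
  rw [heq]
  exact hcl.preimage (PrimeSpectrum.continuous_comap (algebraMap B₀ B))

end

-- ===== part NmG =====
section

open TensorProduct Topology
open Groth.Agent.Lib.Helper28 Groth.Agent.Lib.Helper5 Groth.Agent.Lib.Helper5.GenDepth
open Groth.Agent.Lib.H9ModFibAlg Groth.Agent.Lib.H9RectDepthAlg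

section L1

variable {A B : Type u} [CommRing A] [CommRing B] [Algebra A B] [Algebra.FiniteType A B]
  (M : Type u) [AddCommGroup M] [Module B M] [Module.Finite B M]

theorem fdep_congr {z z' : Ideal B} [z.IsPrime] [z'.IsPrime] (h : z = z') :
    fdep A M z = fdep A M z' ∧ fdm A M z = fdm A M z' := by
  subst h
  exact ⟨rfl, rfl⟩

attribute [local instance] Algebra.TensorProduct.rightAlgebra

set_option synthInstance.maxHeartbeats 400000 in
set_option maxHeartbeats 3200000 in
/-- the depth and dimension of the fibre module at a point of the fibre over `p`, computed on the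
fibre ring `κ(p) ⊗ B`. -/
theorem fdep_fdm_eq_dep_dm (p : Ideal A) [p.IsPrime] (Q : Ideal (p.Fiber B)) [Q.IsPrime] :
    IsNoetherianRing (p.Fiber B) ∧
    fdep A M (Q.comap (Algebra.TensorProduct.includeRight : B →ₐ[A] p.Fiber B)) =
        dep Q (p.Fiber B ⊗[B] M) ∧
      fdm A M (Q.comap (Algebra.TensorProduct.includeRight : B →ₐ[A] p.Fiber B)) =
        dm Q (p.Fiber B ⊗[B] M) := by
  haveI : Algebra.FiniteType p.ResidueField (p.Fiber B) := inferInstance
  haveI hNΦ : IsNoetherianRing (p.Fiber B) :=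
    Algebra.FiniteType.isNoetherianRing p.ResidueField (p.Fiber B)
  refine ⟨hNΦ, ?_⟩
  set z : Ideal B := Q.comap (Algebra.TensorProduct.includeRight : B →ₐ[A] p.Fiber B) with hz
  haveI hloc : IsLocalRing (EGA4.FibLocRing A B z) := isLocalRing_fibLocRing (A := A) z
  obtain ⟨e, he⟩ := Groth.Agent.Lib.H9QGor711.exists_localization_fiber_equiv_compat p Q z rfl
  haveI hNQ : IsNoetherianRing (Localization.AtPrime Q) :=
    IsLocalization.isNoetherianRing Q.primeCompl _ inferInstance
  haveI hNR : IsNoetherianRing (EGA4.FibLocRing A B z) := isNoetherianRing_of_ringEquiv _ e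
  let eAlg : Localization.AtPrime Q ≃ₐ[B] EGA4.FibLocRing A B z :=
    AlgEquiv.ofRingEquiv (f := e) (fun b => by
      rw [IsScalarTower.algebraMap_apply B (p.Fiber B) (Localization.AtPrime Q)]
      exact he b)
  obtain ⟨h1, h2⟩ := hub_congr M (R := Localization.AtPrime Q)
    (R' := EGA4.FibLocRing A B z) eAlg
  obtain ⟨h3, h4⟩ := hub_localization (B := B) M (C := p.Fiber B)
    (R := Localization.AtPrime Q) Q
  refine ⟨?_, ?_⟩
  · rw [fdep_def, ← h1, h3]
  · unfold fdm
    rw [← h2, h4]

/-- the map from the spectrum of the fibre ring to the spectrum of `B`. -/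
noncomputable def fibMap (p : Ideal A) [p.IsPrime] (Q : PrimeSpectrum (p.Fiber B)) :
    PrimeSpectrum B :=
  ⟨Q.asIdeal.comap (Algebra.TensorProduct.includeRight : B →ₐ[A] p.Fiber B), inferInstance⟩

omit [Algebra.FiniteType A B] in
theorem fibMap_under (p : Ideal A) [p.IsPrime] (Q : PrimeSpectrum (p.Fiber B)) :
    (fibMap p Q).asIdeal.under A = p :=
  Groth.Agent.Lib.Helper28.comap_includeRight_comap p Q.asIdeal

omit [Algebra.FiniteType A B] in
theorem fibMap_le_iff (p : Ideal A) [p.IsPrime] (Q Q' : PrimeSpectrum (p.Fiber B)) :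
    (fibMap p Q).asIdeal ≤ (fibMap p Q').asIdeal ↔ Q ≤ Q' := by
  have h := (PrimeSpectrum.primesOverOrderIsoFiber A B p).symm.le_iff_le (x := Q) (y := Q')
  rw [← h]
  rfl

omit [Algebra.FiniteType A B] in
theorem fibMap_injective (p : Ideal A) [p.IsPrime] : Function.Injective (fibMap (B := B) p) := by
  intro Q Q' h
  apply le_antisymm
  · rw [← fibMap_le_iff, h]
  · rw [← fibMap_le_iff, h]

omit [Algebra.FiniteType A B] in
theorem exists_fibMap_eq (p : Ideal A) [p.IsPrime] (z : Ideal B) [hz : z.IsPrime]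
    (hzp : z.under A = p) : ∃ Q : PrimeSpectrum (p.Fiber B), (fibMap p Q).asIdeal = z := by
  refine ⟨PrimeSpectrum.primesOverOrderIsoFiber A B p ⟨z, hz, ⟨hzp.symm⟩⟩, ?_⟩
  have h := (PrimeSpectrum.primesOverOrderIsoFiber A B p).symm_apply_apply ⟨z, hz, ⟨hzp.symm⟩⟩
  exact congrArg Subtype.val h

theorem fibMap_numerics (p : Ideal A) [p.IsPrime] (Q : PrimeSpectrum (p.Fiber B)) :
    fdep A M (fibMap p Q).asIdeal = dep Q.asIdeal (p.Fiber B ⊗[B] M) ∧
      fdm A M (fibMap p Q).asIdeal = dm Q.asIdeal (p.Fiber B ⊗[B] M) :=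
  (fdep_fdm_eq_dep_dm M p Q.asIdeal).2

end L1

section CN

variable {C : Type u} [CommRing C] [IsNoetherianRing C] (N : Type u) [AddCommGroup N] [Module C N]
  [Module.Finite C N]

theorem dep_eq_zero_iff (Q : Ideal C) [Q.IsPrime] : dep Q N = 0 ↔ Q ∈ associatedPrimes C N :=
  depth_localization_eq_zero_iff Q

theorem mem_support_of_dep_eq_zero (Q : Ideal C) [hQ : Q.IsPrime] (h : dep Q N = 0) :
    (⟨Q, hQ⟩ : PrimeSpectrum C) ∈ Module.support C N :=
  Groth.Agent.Lib.Helper5.SkEmb.mem_support_of_mem_associatedPrimes ((dep_eq_zero_iff N Q).mp h)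

theorem dm_le_zero_iff (Q : Ideal C) [hQ : Q.IsPrime]
    (hQM : (⟨Q, hQ⟩ : PrimeSpectrum C) ∈ Module.support C N) :
    dm Q N ≤ 0 ↔ Q ∈ (Module.annihilator C N).minimalPrimes := by
  rw [← supportDim_localization_eq_zero_iff Q hQM]
  unfold dm
  constructor
  · intro h
    refine le_antisymm h ?_
    haveI : Nontrivial (LocalizedModule Q.primeCompl N) := Module.mem_support_iff.mp hQM
    have hne : Module.supportDim (Localization.AtPrime Q) (LocalizedModule Q.primeCompl N) ≠ ⊥ :=
      Module.supportDim_ne_bot_of_nontrivial _ _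
    obtain ⟨d, hd⟩ := WithBot.ne_bot_iff_exists.mp hne
    rw [← hd]
    exact WithBot.coe_le_coe.mpr bot_le
  · intro h
    exact h.le

/-- a point of depth zero has no generization of depth zero iff the module has dimension zero
there. -/
theorem noEmb_CN (Q' : Ideal C) [hQ' : Q'.IsPrime] (h0 : dep Q' N = 0) :
    (∀ (Q : Ideal C) [Q.IsPrime], Q ≤ Q' → dep Q N = 0 → Q = Q') ↔ dm Q' N ≤ 0 := by
  have hQM := mem_support_of_dep_eq_zero N Q' h0
  rw [dm_le_zero_iff N Q' hQM]
  have hann : Module.annihilator C N ≤ Q' := by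
    rw [Module.support_eq_zeroLocus] at hQM
    exact (PrimeSpectrum.mem_zeroLocus _ _).mp hQM
  constructor
  · intro h
    obtain ⟨Q0, hQ0, hle⟩ := Ideal.exists_minimalPrimes_le hann
    haveI : Q0.IsPrime := hQ0.1.1
    have hass : Q0 ∈ associatedPrimes C N :=
      Module.associatedPrimes.minimalPrimes_annihilator_subset_associatedPrimes C N hQ0
    have := h Q0 hle ((dep_eq_zero_iff N Q0).mpr hass)
    rw [← this]
    exact hQ0
  · intro hmin Q hQ hle hQ0
    have hQM' := mem_support_of_dep_eq_zero N Q hQ0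
    have hannQ : Module.annihilator C N ≤ Q := by
      rw [Module.support_eq_zeroLocus] at hQM'
      exact (PrimeSpectrum.mem_zeroLocus _ _).mp hQM'
    exact le_antisymm hle (hmin.2 ⟨hQ, hannQ⟩ hle)

end CN

section NoEmb

variable {A B : Type u} [CommRing A] [CommRing B] [Algebra A B] [Algebra.FiniteType A B]
  (M : Type u) [AddCommGroup M] [Module B M] [Module.Finite B M]

attribute [local instance] Algebra.TensorProduct.rightAlgebra

set_option synthInstance.maxHeartbeats 400000 in
set_option maxHeartbeats 3200000 in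
/-- **no embedded components, numerically**: a point of fibre depth zero has no proper fibrewise
generization of fibre depth zero iff the fibre module has dimension zero there. -/
theorem noEmb_iff (x : Ideal B) [hx : x.IsPrime] (h0 : fdep A M x = 0) :
    (∀ (z : Ideal B) [z.IsPrime], z ≤ x → z.under A = x.under A → fdep A M z = 0 → z = x) ↔
      CodLE 0 A M x := by
  set p : Ideal A := x.under A with hp
  haveI : p.IsPrime := Ideal.comap_isPrime _ _
  haveI : Algebra.FiniteType p.ResidueField (p.Fiber B) := inferInstance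
  haveI hN : IsNoetherianRing (p.Fiber B) :=
    Algebra.FiniteType.isNoetherianRing p.ResidueField (p.Fiber B)
  obtain ⟨X', hX'⟩ := exists_fibMap_eq p x rfl
  obtain ⟨n1, n2⟩ := fibMap_numerics M p X'
  obtain ⟨c1, c2⟩ := fdep_congr (A := A) M hX'
  have h0' : dep X'.asIdeal (p.Fiber B ⊗[B] M) = 0 := by rw [← n1, c1, h0]
  have key := noEmb_CN (p.Fiber B ⊗[B] M) X'.asIdeal h0'
  have hcod : CodLE 0 A M x ↔ dm X'.asIdeal (p.Fiber B ⊗[B] M) ≤ 0 := by
    unfold CodLE
    rw [h0, ← c2, n2]
    simp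
  rw [hcod, ← key]
  constructor
  · intro h Q hQ hle hQ0
    have hz := h (fibMap p ⟨Q, hQ⟩).asIdeal
      (by rw [← hX']; exact (fibMap_le_iff p ⟨Q, hQ⟩ X').mpr hle)
      (fibMap_under p ⟨Q, hQ⟩)
      (by rw [(fibMap_numerics M p ⟨Q, hQ⟩).1]; exact hQ0)
    rw [← hX'] at hz
    have := fibMap_injective p (PrimeSpectrum.ext hz)
    exact congrArg PrimeSpectrum.asIdeal this
  · intro h z hz hzx hzp hz0
    obtain ⟨Z', hZ'⟩ := exists_fibMap_eq p z hzp
    obtain ⟨m1, m2⟩ := fibMap_numerics M p Z'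
    obtain ⟨d1, d2⟩ := fdep_congr (A := A) M hZ'
    have hle : Z' ≤ X' := by
      rw [← fibMap_le_iff, hZ', hX']
      exact hzx
    have := h Z'.asIdeal hle (by rw [← m1, d1, hz0])
    have hZX : Z' = X' := PrimeSpectrum.ext this
    rw [← hZ', ← hX', hZX]

end NoEmb

end

end Groth.Agent.Lib.H9FibNumerics
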