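import Mathlib
import Groth.Agent.Lib.H9FibNumerics
import Groth.Agent.Lib.H9RectDepthSch

/-! Numerical form of EGA IV 12.1.1 for schemes: dF/mF (depth and dimension of the fibre module at a point), fiber_numerics (chart form: dF=fdep, mF=fdm, ptTrdeg=ftd), specializes_iff_primeIdealOf_le, map_eq_iff_under_eq, isOpen_good (f l.f.p., F f.p. flat: the set of x having no fibrewise generization x' with (dF x', ptTrdeg x') ∈ S [and fibre codepth>0 if c] is open, S SDown+SFin), forall_fiber_spec_iff, exists_chart, fiber_stalk_fin, isAss_iff_dF, forall_fibGen_chart, noEmb_sch; isOpen_assDim (S4982), isOpen_base_assDim (S4964), isOpen_noEmbAt (S4983) (helper9). -/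

set_option autoImplicit false
set_option linter.style.haveILetI false
set_option linter.unusedSimpArgs false
set_option linter.unusedVariables false
universe u

namespace Groth.Agent.Lib.H9FibNumericsSch
open Groth.Agent.Lib.H9FibNumerics

-- ===== part NmS =====
section

open AlgebraicGeometry CategoryTheory Limits IsLocalRing TensorProduct Topology
open Groth.Agent.Lib.H9ModFibAlg Groth.Agent.Lib.H9ModFibSch
open Groth.Agent.Lib.Helper4.DimFormula Groth.Agent.Lib.Helper4.VarDim Groth.Agent.Lib.Helper4.FibDim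
open Groth.Agent.Lib.H9RectDepthAlg Groth.Agent.Lib.H9RectDepthSch
open Groth.Agent.Lib.Helper2.FlatOver Groth.Agent.Lib.Helper2.FinPres

variable {X Y : Scheme.{u}} (f : X ⟶ Y)

/-- depth of the fibre module at a point of the source. -/
noncomputable def dF (F : X.Modules) (x : X) : ℕ∞ :=
  LocCoh.depth ((f.fiber (f.base x)).presheaf.stalk (f.asFiber x))
    (((Scheme.Modules.pullback (f.fiberι (f.base x))).obj F).presheaf.stalk (f.asFiber x))

/-- dimension of the fibre module at a point of the source. -/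
noncomputable def mF (F : X.Modules) (x : X) : WithBot ℕ∞ :=
  Module.supportDim ((f.fiber (f.base x)).presheaf.stalk (f.asFiber x))
    (((Scheme.Modules.pullback (f.fiberι (f.base x))).obj F).presheaf.stalk (f.asFiber x))

section Chart

variable {U : X.Opens} (hU : IsAffineOpen U) {V : Y.Opens} (hV : IsAffineOpen V)
  (hUV : U ≤ f ⁻¹ᵁ V)

include hV in
set_option synthInstance.maxHeartbeats 400000 in
set_option maxHeartbeats 3200000 in
/-- chart form of the numerical invariants of the fibre module at a point. -/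
theorem fiber_numerics [LocallyOfFiniteType f] (F : X.Modules) [F.IsQuasicoherent]
    (hft : (f.appLE V U hUV).hom.FiniteType) [Module.Finite Γ(X, U) Γ(F, U)]
    (x' : X) (hx' : x' ∈ U) :
    letI : Algebra Γ(Y, V) Γ(X, U) := (f.appLE V U hUV).hom.toAlgebra
    dF f F x' = fdep Γ(Y, V) Γ(F, U) (hU.primeIdealOf ⟨x', hx'⟩).asIdeal ∧
    mF f F x' = fdm Γ(Y, V) Γ(F, U) (hU.primeIdealOf ⟨x', hx'⟩).asIdeal ∧
    ptTrdeg f x' = ftd Γ(Y, V) (hU.primeIdealOf ⟨x', hx'⟩).asIdeal := by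
  letI aVU : Algebra Γ(Y, V) Γ(X, U) := (f.appLE V U hUV).hom.toAlgebra
  have hzU : f.fiberι (f.base x') (f.asFiber x') ∈ U := by
    rw [f.fiberι_asFiber x']
    exact hx'
  obtain ⟨-, -, h1, h2⟩ :=
    depth_supportDim_fiber_stalk f F hU hV hUV hft (f.base x') (f.asFiber x') hzU
  have hpt : hU.primeIdealOf ⟨f.fiberι (f.base x') (f.asFiber x'), hzU⟩ =
      hU.primeIdealOf ⟨x', hx'⟩ := by
    congr 1
    exact Subtype.ext (f.fiberι_asFiber x')
  rw [hpt] at h1 h2
  exact ⟨h1, h2, ptTrdeg_eq_ftd f hU hV hUV x' hx'⟩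

include hU in
/-- specialization inside an affine open, in terms of prime ideals. -/
theorem specializes_iff_primeIdealOf_le (x' x : X) (hx' : x' ∈ U) (hx : x ∈ U) :
    x' ⤳ x ↔ (hU.primeIdealOf ⟨x', hx'⟩).asIdeal ≤ (hU.primeIdealOf ⟨x, hx⟩).asIdeal := by
  have h1 : x' ⤳ x ↔ (⟨x', hx'⟩ : U) ⤳ ⟨x, hx⟩ :=
    (Topology.IsInducing.subtypeVal.specializes_iff (x := (⟨x', hx'⟩ : U)) (y := ⟨x, hx⟩))
  have h2 : (⟨x', hx'⟩ : U) ⤳ ⟨x, hx⟩ ↔ hU.primeIdealOf ⟨x', hx'⟩ ⤳ hU.primeIdealOf ⟨x, hx⟩ :=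
    ((hU.isoSpec.hom.isOpenEmbedding.isInducing).specializes_iff
      (x := (⟨x', hx'⟩ : U)) (y := ⟨x, hx⟩)).symm
  rw [h1, h2, ← PrimeSpectrum.le_iff_specializes]
  rfl

include hU hV in
/-- two points of an affine chart have the same image iff the primes have the same contraction. -/
theorem map_eq_iff_under_eq (x' x : X) (hx' : x' ∈ U) (hx : x ∈ U) :
    f x' = f x ↔ (hU.primeIdealOf ⟨x', hx'⟩).asIdeal.comap (f.appLE V U hUV).hom =
      (hU.primeIdealOf ⟨x, hx⟩).asIdeal.comap (f.appLE V U hUV).hom := by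
  rw [primeIdealOf_comap_appLE f hU hV hUV x' hx', primeIdealOf_comap_appLE f hU hV hUV x hx]
  constructor
  · intro h
    have : (⟨f x', hUV hx'⟩ : V) = ⟨f x, hUV hx⟩ := Subtype.ext h
    rw [this]
  · intro h
    have h1 : hV.primeIdealOf ⟨f x', hUV hx'⟩ = hV.primeIdealOf ⟨f x, hUV hx⟩ :=
      PrimeSpectrum.ext h
    have h2 := hV.isoSpec.hom.isOpenEmbedding.injective h1
    exact congrArg Subtype.val h2

end Chart

section Main

set_option synthInstance.maxHeartbeats 400000 in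
set_option maxHeartbeats 3200000 in
/-- **EGA IV 12.1.1, numerical form for schemes.** -/
theorem isOpen_good [LocallyOfFinitePresentation f] (F : X.Modules)
    (hF : CohB1.IsFP F) (hflat : FlatMod.IsFlatOver f F) (c : Prop) {S : Set (ℕ∞ × ℕ)}
    (hS : SDown S) (hS' : SFin S) :
    IsOpen {x : X | ∀ x' : X, f x' = f x → x' ⤳ x →
      ¬ ((c → ¬ mF f F x' ≤ ((dF f F x' : ℕ∞) : WithBot ℕ∞) + (0 : ℕ)) ∧
        (dF f F x', ptTrdeg f x') ∈ S)} := by
  haveI : F.IsQuasicoherent := Groth.Agent.Helper18Strict.isQCoh_of_isFP F hF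
  haveI : SheafOfModules.IsFinitePresentation (R := X.ringCatSheaf) F := hF
  rw [isOpen_iff_forall_mem_open]
  intro x hx
  obtain ⟨V, hV, hxV⟩ : ∃ V : Y.Opens, IsAffineOpen V ∧ f.base x ∈ V := by
    obtain ⟨_, ⟨V, hV, rfl⟩, hxV, -⟩ :=
      Y.isBasis_affineOpens.exists_subset_of_mem_open (Set.mem_univ (f.base x)) isOpen_univ
    exact ⟨V, hV, hxV⟩
  obtain ⟨U, hU, hxU, hUV, hfpM⟩ := exists_affine_nhds_finitePresentation F x (f ⁻¹ᵁ V) hxV
  have hfp : (f.appLE V U hUV).hom.FinitePresentation :=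
    HasRingHomProperty.appLE (P := @LocallyOfFinitePresentation) f inferInstance ⟨V, hV⟩ ⟨U, hU⟩ hUV
  letI mVF : Module Γ(Y, V) Γ(F, U) := Module.compHom Γ(F, U) (f.appLE V U hUV).hom
  letI aVU : Algebra Γ(Y, V) Γ(X, U) := (f.appLE V U hUV).hom.toAlgebra
  haveI t1 : IsScalarTower Γ(Y, V) Γ(X, U) Γ(F, U) := IsScalarTower.of_algebraMap_smul (fun _ _ => rfl)
  haveI : Algebra.FinitePresentation Γ(Y, V) Γ(X, U) := hfp
  haveI hflM : Module.Flat Γ(Y, V) Γ(F, U) :=
    flat_sections_of_isFlatOverAt f F hU hV hUV (fun x' _ => hflat x')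
  have hcl := isClosed_bad_fp c hS hS' (A := Γ(Y, V)) (B := Γ(X, U)) Γ(F, U)
  have hcont : Continuous (fun y : U => hU.primeIdealOf y) := hU.isoSpec.hom.continuous
  have hft : (f.appLE V U hUV).hom.FiniteType := RingHom.FiniteType.of_finitePresentation hfp
  have key : ∀ (x₁ : X) (hx₁ : x₁ ∈ U),
      (∀ x' : X, f x' = f x₁ → x' ⤳ x₁ →
        ¬ ((c → ¬ mF f F x' ≤ ((dF f F x' : ℕ∞) : WithBot ℕ∞) + (0 : ℕ)) ∧
          (dF f F x', ptTrdeg f x') ∈ S)) ↔
        hU.primeIdealOf ⟨x₁, hx₁⟩ ∈ (Bad Γ(Y, V) Γ(F, U) (ZC c Γ(Y, V) Γ(F, U)) S)ᶜ := by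
    intro x₁ hx₁
    constructor
    · rintro h ⟨z, ⟨hzZ, hzS⟩, hzx, hzA⟩
      obtain ⟨⟨x', hx'U⟩, rfl⟩ := hU.isoSpec.hom.homeomorph.surjective z
      change (hU.primeIdealOf ⟨x', hx'U⟩).asIdeal ≤ _ at hzx
      change (hU.primeIdealOf ⟨x', hx'U⟩).asIdeal.under _ = _ at hzA
      obtain ⟨n1, n2, n3⟩ := fiber_numerics f hU hV hUV F hft x' hx'U
      refine h x' ((map_eq_iff_under_eq f hU hV hUV x' x₁ hx'U hx₁).mpr hzA)
        ((specializes_iff_primeIdealOf_le hU x' x₁ hx'U hx₁).mpr hzx) ⟨?_, ?_⟩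
      · intro hc
        rw [n1, n2]
        exact hzZ hc
      · rw [n1, n3]
        exact hzS
    · intro h x' hfx' hspec hbad
      have hx'U : x' ∈ U := hspec.mem_open U.isOpen hx₁
      obtain ⟨n1, n2, n3⟩ := fiber_numerics f hU hV hUV F hft x' hx'U
      apply h
      refine ⟨hU.primeIdealOf ⟨x', hx'U⟩, ⟨?_, ?_⟩,
        (specializes_iff_primeIdealOf_le hU x' x₁ hx'U hx₁).mp hspec,
        (map_eq_iff_under_eq f hU hV hUV x' x₁ hx'U hx₁).mp hfx'⟩
      · intro hc
        have := hbad.1 hc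
        rw [n1, n2] at this
        exact this
      · have := hbad.2
        rw [n1, n3] at this
        exact this
  refine ⟨Subtype.val '' ((fun y : U => hU.primeIdealOf y) ⁻¹'
    (Bad Γ(Y, V) Γ(F, U) (ZC c Γ(Y, V) Γ(F, U)) S)ᶜ), ?_,
    U.isOpen.isOpenMap_subtype_val _ (hcl.isOpen_compl.preimage hcont), ?_⟩
  · rintro _ ⟨⟨x₁, hx₁⟩, hx₁W, rfl⟩
    exact (key x₁ hx₁).mpr hx₁W
  · exact ⟨⟨x, hxU⟩, (key x hxU).mp hx, rfl⟩

end Main

end

-- ===== part NmT =====
section

open AlgebraicGeometry CategoryTheory Limits IsLocalRing TensorProduct Topology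
open Groth.Agent.Lib.H9ModFibAlg Groth.Agent.Lib.H9ModFibSch
open Groth.Agent.Lib.Helper4.DimFormula Groth.Agent.Lib.Helper4.VarDim Groth.Agent.Lib.Helper4.FibDim
open Groth.Agent.Lib.H9RectDepthAlg Groth.Agent.Lib.H9RectDepthSch
open Groth.Agent.Lib.Helper2.FlatOver Groth.Agent.Lib.Helper2.FinPres

variable {X Y : Scheme.{u}} (f : X ⟶ Y)

/-- a condition on the generizations (in the fibre) of a point, in terms of the source. -/
theorem forall_fiber_spec_iff (x : X) (P : ∀ (y : Y), f.fiber y → Prop) :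
    (∀ z : f.fiber (f x), f.asFiber x ∈ closure {z} → P (f x) z) ↔
      ∀ x' : X, f x' = f x → x' ⤳ x → P (f x') (f.asFiber x') := by
  have h1 := forall_fiber_iff f (fun y z => f.fiberι y z ⤳ x → P y z) (f x)
  have h2 : ∀ z : f.fiber (f x), f.asFiber x ∈ closure {z} ↔ f.fiberι (f x) z ⤳ x := by
    intro z
    rw [← specializes_iff_mem_closure]
    have := ((f.fiberι (f x)).isEmbedding.isInducing.specializes_iff
      (x := z) (y := f.asFiber x))
    rw [← this, f.fiberι_asFiber x]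
  constructor
  · intro h x' hx' hspec
    have := h1.mp (fun z hz => h z ((h2 z).mpr hz)) x' hx'
    rw [f.fiberι_asFiber x'] at this
    exact this hspec
  · intro h z hz
    refine h1.mpr (fun x' hx' hspec => ?_) z ((h2 z).mp hz)
    rw [f.fiberι_asFiber x'] at hspec
    exact h x' hx' hspec

section Chart

/-- charts adapted to a finitely presented module. -/
theorem exists_chart [LocallyOfFinitePresentation f] (F : X.Modules) (hF : CohB1.IsFP F) (x : X) :
    ∃ (U : X.Opens) (hU : IsAffineOpen U) (V : Y.Opens) (hV : IsAffineOpen V) (hUV : U ≤ f ⁻¹ᵁ V),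
      x ∈ U ∧ (f.appLE V U hUV).hom.FinitePresentation ∧
      Module.FinitePresentation Γ(X, U) Γ(F, U) := by
  haveI : F.IsQuasicoherent := Groth.Agent.Helper18Strict.isQCoh_of_isFP F hF
  haveI : SheafOfModules.IsFinitePresentation (R := X.ringCatSheaf) F := hF
  obtain ⟨V, hV, hxV⟩ : ∃ V : Y.Opens, IsAffineOpen V ∧ f.base x ∈ V := by
    obtain ⟨_, ⟨V, hV, rfl⟩, hxV, -⟩ :=
      Y.isBasis_affineOpens.exists_subset_of_mem_open (Set.mem_univ (f.base x)) isOpen_univ
    exact ⟨V, hV, hxV⟩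
  obtain ⟨U, hU, hxU, hUV, hfpM⟩ := exists_affine_nhds_finitePresentation F x (f ⁻¹ᵁ V) hxV
  have hfp : (f.appLE V U hUV).hom.FinitePresentation :=
    HasRingHomProperty.appLE (P := @LocallyOfFinitePresentation) f inferInstance ⟨V, hV⟩ ⟨U, hU⟩ hUV
  exact ⟨U, hU, V, hV, hUV, hxU, hfp, hfpM⟩

set_option synthInstance.maxHeartbeats 400000 in
set_option maxHeartbeats 3200000 in
/-- the stalks of the fibres are Noetherian and the fibre modules finite. -/
theorem fiber_stalk_fin [LocallyOfFinitePresentation f] (F : X.Modules) (hF : CohB1.IsFP F)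
    (x : X) :
    IsNoetherianRing ((f.fiber (f.base x)).presheaf.stalk (f.asFiber x)) ∧
    Module.Finite ((f.fiber (f.base x)).presheaf.stalk (f.asFiber x))
      (((Scheme.Modules.pullback (f.fiberι (f.base x))).obj F).presheaf.stalk (f.asFiber x)) := by
  haveI : F.IsQuasicoherent := Groth.Agent.Helper18Strict.isQCoh_of_isFP F hF
  obtain ⟨U, hU, V, hV, hUV, hxU, hfp, hfpM⟩ := exists_chart f F hF x
  have hft : (f.appLE V U hUV).hom.FiniteType := RingHom.FiniteType.of_finitePresentation hfp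
  haveI := hfpM
  have hzU : f.fiberι (f.base x) (f.asFiber x) ∈ U := by
    rw [f.fiberι_asFiber x]
    exact hxU
  obtain ⟨h1, h2, -, -⟩ :=
    depth_supportDim_fiber_stalk f F hU hV hUV hft (f.base x) (f.asFiber x) hzU
  exact ⟨h1, h2⟩

/-- associated points of the fibre module are the points of fibre depth zero. -/
theorem isAss_iff_dF [LocallyOfFinitePresentation f] (F : X.Modules) (hF : CohB1.IsFP F) (x : X) :
    f.asFiber x ∈ AssSch.Ass ((Scheme.Modules.pullback (f.fiberι (f.base x))).obj F) ↔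
      dF f F x = 0 := by
  obtain ⟨h1, h2⟩ := fiber_stalk_fin f F hF x
  haveI := h1
  haveI := h2
  unfold dF
  rw [Groth.Agent.Lib.Helper28.depth_eq_zero_iff]
  rfl

end Chart

end

-- ===== part NmU =====
section

open AlgebraicGeometry CategoryTheory Limits IsLocalRing TensorProduct Topology
open Groth.Agent.Lib.H9ModFibAlg Groth.Agent.Lib.H9ModFibSch
open Groth.Agent.Lib.Helper4.DimFormula Groth.Agent.Lib.Helper4.VarDim Groth.Agent.Lib.Helper4.FibDim
open Groth.Agent.Lib.H9RectDepthAlg Groth.Agent.Lib.H9RectDepthSch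

variable {X Y : Scheme.{u}} (f : X ⟶ Y)

/-- the set of pairs used for the dimensions of associated points. -/
def SPhi (Φ : Finset ℕ) : Set (ℕ∞ × ℕ) := {ij | ij.1 = 0 ∧ ij.2 ∉ Φ}

theorem sDown_SPhi (Φ : Finset ℕ) : SDown (SPhi Φ) := by
  rintro i i' j j' ⟨hi, hj⟩ hjj' hle
  simp only at hi hj
  rw [hi, zero_add] at hle
  have h1 : (j' : ℕ∞) ≤ j := le_trans le_add_self hle
  have h2 : j' = j := le_antisymm (by exact_mod_cast h1) hjj'
  subst h2
  have h3 : i' = 0 := by
    have : i' + (j' : ℕ∞) ≤ 0 + (j' : ℕ∞) := by rw [zero_add]; exact hle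
    have := (ENat.add_le_add_iff_right (ENat.coe_ne_top j')).mp this
    exact nonpos_iff_eq_zero.mp this
  exact ⟨h3, hj⟩

theorem sFin_SPhi (Φ : Finset ℕ) : SFin (SPhi Φ) := by
  rintro i j ⟨hi, -⟩
  simp only at hi
  rw [hi]
  exact ENat.zero_ne_top

/-- pointwise reformulation of the condition of 12.1.1 (i)-(iv). -/
theorem assDim_iff [LocallyOfFinitePresentation f] (F : X.Modules) (hF : CohB1.IsFP F)
    (Φ : Finset ℕ) (x : X) :
    (∀ z ∈ AssSch.Ass ((Scheme.Modules.pullback (f.fiberι (f.base x))).obj F),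
        f.asFiber x ∈ closure {z} →
      ∃ n ∈ Φ, topologicalKrullDim ↥(closure ({z} : Set ↥(f.fiber (f.base x)))) =
        (n : WithBot ℕ∞)) ↔
      ∀ x' : X, f x' = f x → x' ⤳ x →
        ¬ ((False → ¬ mF f F x' ≤ ((dF f F x' : ℕ∞) : WithBot ℕ∞) + (0 : ℕ)) ∧
          (dF f F x', ptTrdeg f x') ∈ SPhi Φ) := by
  have h1 := forall_fiber_spec_iff f x (fun y z =>
    z ∈ AssSch.Ass ((Scheme.Modules.pullback (f.fiberι y)).obj F) →
      ∃ n ∈ Φ, topologicalKrullDim ↥(closure ({z} : Set ↥(f.fiber y))) = (n : WithBot ℕ∞))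
  have h2 : (∀ z ∈ AssSch.Ass ((Scheme.Modules.pullback (f.fiberι (f.base x))).obj F),
        f.asFiber x ∈ closure {z} →
      ∃ n ∈ Φ, topologicalKrullDim ↥(closure ({z} : Set ↥(f.fiber (f.base x)))) =
        (n : WithBot ℕ∞)) ↔
      (∀ z : f.fiber (f x), f.asFiber x ∈ closure {z} →
        z ∈ AssSch.Ass ((Scheme.Modules.pullback (f.fiberι (f x))).obj F) →
        ∃ n ∈ Φ, topologicalKrullDim ↥(closure ({z} : Set ↥(f.fiber (f x)))) =
          (n : WithBot ℕ∞)) :=
    ⟨fun h z hz hass => h z hass hz, fun h z hass hz => h z hz hass⟩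
  rw [h2, h1]
  refine forall_congr' fun x' => forall_congr' fun hx' => forall_congr' fun hspec => ?_
  rw [isAss_iff_dF f F hF x', topologicalKrullDim_closure_asFiber_eq_ptTrdeg f x']
  constructor
  · rintro h ⟨-, hd, hn⟩
    obtain ⟨n, hn', hnn⟩ := h hd
    apply hn
    have : ptTrdeg f x' = n := by exact_mod_cast hnn
    rw [this]
    exact hn'
  · intro h hd
    by_contra hcon
    apply h
    refine ⟨fun hfalse => hfalse.elim, hd, ?_⟩
    intro hmem
    exact hcon ⟨ptTrdeg f x', hmem, rfl⟩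

/-- **EGA IV 12.1.1 (i)-(iv)**: S4982. -/
theorem isOpen_assDim [LocallyOfFinitePresentation f]
    (F : X.Modules) (hF : CohB1.IsFP F) (hflat : FlatMod.IsFlatOver f F) (Φ : Finset ℕ) :
    IsOpen {x : X | ∀ z ∈ AssSch.Ass ((Scheme.Modules.pullback (f.fiberι (f.base x))).obj F),
      f.asFiber x ∈ closure {z} →
      ∃ n ∈ Φ, topologicalKrullDim ↥(closure ({z} : Set ↥(f.fiber (f.base x)))) =
        (n : WithBot ℕ∞)} := by
  have h := isOpen_good f F hF hflat False (sDown_SPhi Φ) (sFin_SPhi Φ)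
  have heq : {x : X | ∀ z ∈ AssSch.Ass ((Scheme.Modules.pullback (f.fiberι (f.base x))).obj F),
      f.asFiber x ∈ closure {z} →
      ∃ n ∈ Φ, topologicalKrullDim ↥(closure ({z} : Set ↥(f.fiber (f.base x)))) =
        (n : WithBot ℕ∞)} = {x : X | ∀ x' : X, f x' = f x → x' ⤳ x →
      ¬ ((False → ¬ mF f F x' ≤ ((dF f F x' : ℕ∞) : WithBot ℕ∞) + (0 : ℕ)) ∧
        (dF f F x', ptTrdeg f x') ∈ SPhi Φ)} := by
    ext x
    exact assDim_iff f F hF Φ x
  rw [heq]
  exact h

/-- **EGA IV 12.2.1 (i)-(iv)**: S4964. -/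
theorem isOpen_base_assDim [IsProper f] [LocallyOfFinitePresentation f]
    (F : X.Modules) (hF : CohB1.IsFP F) (hflat : FlatMod.IsFlatOver f F) (Φ : Finset ℕ) :
    IsOpen {y : Y | ∀ z ∈ AssSch.Ass ((Scheme.Modules.pullback (f.fiberι y)).obj F), ∃ n ∈ Φ,
      topologicalKrullDim ↥(closure ({z} : Set ↥(f.fiber y))) = (n : WithBot ℕ∞)} := by
  have h := isOpen_forall_fiber f (fun y z =>
    ∀ z' ∈ AssSch.Ass ((Scheme.Modules.pullback (f.fiberι y)).obj F), z ∈ closure {z'} →
      ∃ n ∈ Φ, topologicalKrullDim ↥(closure ({z'} : Set ↥(f.fiber y))) = (n : WithBot ℕ∞))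
    (isOpen_assDim f F hF hflat Φ)
  have heq : {y : Y | ∀ z ∈ AssSch.Ass ((Scheme.Modules.pullback (f.fiberι y)).obj F), ∃ n ∈ Φ,
      topologicalKrullDim ↥(closure ({z} : Set ↥(f.fiber y))) = (n : WithBot ℕ∞)} =
      {y : Y | ∀ z : f.fiber y,
        ∀ z' ∈ AssSch.Ass ((Scheme.Modules.pullback (f.fiberι y)).obj F), z ∈ closure {z'} →
        ∃ n ∈ Φ, topologicalKrullDim ↥(closure ({z'} : Set ↥(f.fiber y))) = (n : WithBot ℕ∞)} := by
    ext y
    constructor
    · intro h z z' hz' _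
      exact h z' hz'
    · intro h z hz
      exact h z z hz (subset_closure rfl)
  rw [heq]
  exact h

end

-- ===== part NmV =====
section

open AlgebraicGeometry CategoryTheory Limits IsLocalRing TensorProduct Topology
open Groth.Agent.Lib.H9ModFibAlg Groth.Agent.Lib.H9ModFibSch
open Groth.Agent.Lib.Helper4.DimFormula Groth.Agent.Lib.Helper4.VarDim Groth.Agent.Lib.Helper4.FibDim
open Groth.Agent.Lib.H9RectDepthAlg Groth.Agent.Lib.H9RectDepthSch

variable {X Y : Scheme.{u}} (f : X ⟶ Y)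

section Chart

variable {U : X.Opens} (hU : IsAffineOpen U) {V : Y.Opens} (hV : IsAffineOpen V)
  (hUV : U ≤ f ⁻¹ᵁ V)

include hV in
/-- conditions on fibrewise generizations, in a chart. -/
theorem forall_fibGen_chart (x : X) (hx : x ∈ U) (P : X → Prop)
    (P' : PrimeSpectrum Γ(X, U) → Prop)
    (hPP' : ∀ (x' : X) (h : x' ∈ U), P x' ↔ P' (hU.primeIdealOf ⟨x', h⟩)) :
    (∀ x' : X, f x' = f x → x' ⤳ x → P x') ↔
      ∀ z : PrimeSpectrum Γ(X, U), z.asIdeal ≤ (hU.primeIdealOf ⟨x, hx⟩).asIdeal →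
        z.asIdeal.comap (f.appLE V U hUV).hom =
          (hU.primeIdealOf ⟨x, hx⟩).asIdeal.comap (f.appLE V U hUV).hom → P' z := by
  constructor
  · intro h z hzx hzA
    obtain ⟨⟨x', hx'U⟩, rfl⟩ := hU.isoSpec.hom.homeomorph.surjective z
    change (hU.primeIdealOf ⟨x', hx'U⟩).asIdeal ≤ _ at hzx
    change (hU.primeIdealOf ⟨x', hx'U⟩).asIdeal.comap _ = _ at hzA
    exact (hPP' x' hx'U).mp (h x' ((map_eq_iff_under_eq f hU hV hUV x' x hx'U hx).mpr hzA)
      ((specializes_iff_primeIdealOf_le hU x' x hx'U hx).mpr hzx))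
  · intro h x' hfx' hspec
    have hx'U : x' ∈ U := hspec.mem_open U.isOpen hx
    exact (hPP' x' hx'U).mpr (h (hU.primeIdealOf ⟨x', hx'U⟩)
      ((specializes_iff_primeIdealOf_le hU x' x hx'U hx).mp hspec)
      ((map_eq_iff_under_eq f hU hV hUV x' x hx'U hx).mp hfx'))

end Chart

set_option synthInstance.maxHeartbeats 400000 in
set_option maxHeartbeats 3200000 in
/-- no embedded component through a point of depth zero, numerically. -/
theorem noEmb_sch [LocallyOfFinitePresentation f] (F : X.Modules) (hF : CohB1.IsFP F) (x : X)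
    (h0 : dF f F x = 0) :
    (∀ x' : X, f x' = f x → x' ⤳ x → (dF f F x' = 0 → x' = x)) ↔
      mF f F x ≤ ((dF f F x : ℕ∞) : WithBot ℕ∞) + (0 : ℕ) := by
  haveI : F.IsQuasicoherent := Groth.Agent.Helper18Strict.isQCoh_of_isFP F hF
  obtain ⟨U, hU, V, hV, hUV, hxU, hfp, hfpM⟩ := exists_chart f F hF x
  have hft : (f.appLE V U hUV).hom.FiniteType := RingHom.FiniteType.of_finitePresentation hfp
  haveI := hfpM
  letI aVU : Algebra Γ(Y, V) Γ(X, U) := (f.appLE V U hUV).hom.toAlgebra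
  haveI : Algebra.FiniteType Γ(Y, V) Γ(X, U) := hft
  obtain ⟨n1, n2, -⟩ := fiber_numerics f hU hV hUV F hft x hxU
  rw [forall_fibGen_chart f hU hV hUV x hxU (fun x' => dF f F x' = 0 → x' = x)
    (fun z => fdep Γ(Y, V) Γ(F, U) z.asIdeal = 0 → z.asIdeal = (hU.primeIdealOf ⟨x, hxU⟩).asIdeal)
    ?_]
  · rw [n1, n2]
    have key := noEmb_iff (A := Γ(Y, V)) Γ(F, U) (hU.primeIdealOf ⟨x, hxU⟩).asIdeal (by rw [← n1, h0])
    refine Iff.trans ?_ key
    constructor
    · intro h z hz hzx hzA hz0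
      exact h ⟨z, hz⟩ hzx hzA hz0
    · intro h z hzx hzA hz0
      exact h z.asIdeal hzx hzA hz0
  · intro x' hx'U
    obtain ⟨m1, -, -⟩ := fiber_numerics f hU hV hUV F hft x' hx'U
    rw [m1]
    refine imp_congr Iff.rfl ?_
    constructor
    · intro h
      subst h
      rfl
    · intro h
      have h1 : hU.primeIdealOf ⟨x', hx'U⟩ = hU.primeIdealOf ⟨x, hxU⟩ := PrimeSpectrum.ext h
      have h2 := hU.isoSpec.hom.isOpenEmbedding.injective h1
      exact congrArg Subtype.val h2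

/-- pointwise reformulation of the condition of 12.1.1 (v). -/
theorem noEmbAt_iff [LocallyOfFinitePresentation f] (F : X.Modules) (hF : CohB1.IsFP F) (x : X) :
    (∀ z ∈ AssSch.Ass ((Scheme.Modules.pullback (f.fiberι (f.base x))).obj F),
        f.asFiber x ∈ closure {z} →
      ∀ z' ∈ AssSch.Ass ((Scheme.Modules.pullback (f.fiberι (f.base x))).obj F),
        z ∈ closure {z'} → z' = z) ↔
      ∀ x' : X, f x' = f x → x' ⤳ x →
        ¬ ((True → ¬ mF f F x' ≤ ((dF f F x' : ℕ∞) : WithBot ℕ∞) + (0 : ℕ)) ∧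
          (dF f F x', ptTrdeg f x') ∈ SPhi ∅) := by
  have h1 := forall_fiber_spec_iff f x (fun y z =>
    z ∈ AssSch.Ass ((Scheme.Modules.pullback (f.fiberι y)).obj F) →
      ∀ z' ∈ AssSch.Ass ((Scheme.Modules.pullback (f.fiberι y)).obj F),
        z ∈ closure {z'} → z' = z)
  have h2 : (∀ z ∈ AssSch.Ass ((Scheme.Modules.pullback (f.fiberι (f.base x))).obj F),
        f.asFiber x ∈ closure {z} →
      ∀ z' ∈ AssSch.Ass ((Scheme.Modules.pullback (f.fiberι (f.base x))).obj F),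
        z ∈ closure {z'} → z' = z) ↔
      (∀ z : f.fiber (f x), f.asFiber x ∈ closure {z} →
        z ∈ AssSch.Ass ((Scheme.Modules.pullback (f.fiberι (f x))).obj F) →
        ∀ z' ∈ AssSch.Ass ((Scheme.Modules.pullback (f.fiberι (f x))).obj F),
          z ∈ closure {z'} → z' = z) :=
    ⟨fun h z hz hass => h z hass hz, fun h z hass hz => h z hz hass⟩
  rw [h2, h1]
  refine forall_congr' fun x' => forall_congr' fun hx' => forall_congr' fun hspec => ?_
  rw [isAss_iff_dF f F hF x']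
  -- the inner condition
  have h3 := forall_fiber_spec_iff f x' (fun y z =>
    z ∈ AssSch.Ass ((Scheme.Modules.pullback (f.fiberι y)).obj F) → f.fiberι y z = x')
  have h4 : (∀ z' ∈ AssSch.Ass ((Scheme.Modules.pullback (f.fiberι (f x'))).obj F),
        f.asFiber x' ∈ closure {z'} → z' = f.asFiber x') ↔
      (∀ z : f.fiber (f x'), f.asFiber x' ∈ closure {z} →
        z ∈ AssSch.Ass ((Scheme.Modules.pullback (f.fiberι (f x'))).obj F) →
          f.fiberι (f x') z = x') := by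
    have hinj : ∀ z : f.fiber (f x'), z = f.asFiber x' ↔ f.fiberι (f x') z = x' := by
      intro z
      constructor
      · intro h
        rw [h, f.fiberι_asFiber x']
      · intro h
        apply (f.fiberι (f x')).isEmbedding.injective
        rw [h, f.fiberι_asFiber x']
    constructor
    · intro h z hz hass
      exact (hinj z).mp (h z hass hz)
    · intro h z hass hz
      exact (hinj z).mpr (h z hz hass)
  rw [h4, h3]
  have h5 : (∀ x'' : X, f x'' = f x' → x'' ⤳ x' →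
      f.asFiber x'' ∈ AssSch.Ass ((Scheme.Modules.pullback (f.fiberι (f x''))).obj F) →
        f.fiberι (f x'') (f.asFiber x'') = x') ↔
      (∀ x'' : X, f x'' = f x' → x'' ⤳ x' → (dF f F x'' = 0 → x'' = x')) := by
    refine forall_congr' fun x'' => forall_congr' fun _ => forall_congr' fun _ => ?_
    rw [isAss_iff_dF f F hF x'', f.fiberι_asFiber x'']
  rw [h5]
  constructor
  · rintro h ⟨hc, hd, -⟩
    simp only at hd
    exact hc trivial ((noEmb_sch f F hF x' hd).mp (h hd))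
  · intro h hd
    rw [noEmb_sch f F hF x' hd]
    by_contra hcon
    exact h ⟨fun _ => hcon, hd, Finset.notMem_empty _⟩

/-- **EGA IV 12.1.1 (v)**: S4983. -/
theorem isOpen_noEmbAt [LocallyOfFinitePresentation f]
    (F : X.Modules) (hF : CohB1.IsFP F) (hflat : FlatMod.IsFlatOver f F) :
    IsOpen {x : X | ∀ z ∈ AssSch.Ass ((Scheme.Modules.pullback (f.fiberι (f.base x))).obj F),
      f.asFiber x ∈ closure {z} →
      ∀ z' ∈ AssSch.Ass ((Scheme.Modules.pullback (f.fiberι (f.base x))).obj F),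
        z ∈ closure {z'} → z' = z} := by
  have h := isOpen_good f F hF hflat True (sDown_SPhi ∅) (sFin_SPhi ∅)
  have heq : {x : X | ∀ z ∈ AssSch.Ass ((Scheme.Modules.pullback (f.fiberι (f.base x))).obj F),
      f.asFiber x ∈ closure {z} →
      ∀ z' ∈ AssSch.Ass ((Scheme.Modules.pullback (f.fiberι (f.base x))).obj F),
        z ∈ closure {z'} → z' = z} = {x : X | ∀ x' : X, f x' = f x → x' ⤳ x →
      ¬ ((True → ¬ mF f F x' ≤ ((dF f F x' : ℕ∞) : WithBot ℕ∞) + (0 : ℕ)) ∧
        (dF f F x', ptTrdeg f x') ∈ SPhi ∅)} := by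
    ext x
    exact noEmbAt_iff f F hF x
  rw [heq]
  exact h

end

end Groth.Agent.Lib.H9FibNumericsSch
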