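import Mathlib
import Groth.Agent.Lib.H9FibNumericsSch
import Groth.Agent.Lib.Helper28Normal
import Groth.Agent.Lib.Helper28LocLoc

/-! EGA IV 12.1.1 (viii) / 12.2.1 (viii): the locus where the fibre module is equidimensional and (S_k) (k ≥ 1) is open. Algebra over a Noetherian ring C, finite N: mem_minimalPrimes_ann_iff (Q minimal over Ann N iff dm Q N = 0), hasSk_loc_iff, isEquidim_loc_iff, dm_eq_dm_quot_ann, exists_min_height_eq, height_quot_add_ftd (over a field ht(X/Q)+ftd X = ftd Q); fibre versions forall_fibGen_iff, fibre_hasSk_iff, fibre_isEquidim_iff, fibre_exists_min, fdm_ne_bot_of_le. SemiInv P (pair properties invariant under linear isos and change of hub algebra): SemiInv.fibLoc_iff, SemiInv.fiber_stalk_iff, SemiInv.fiber_dict (stalk pair of fibre module ↔ localization of κ(p)⊗B ⊗_B M), semiInv_hasSk, semiInv_isEquidim, isEquidim_of_semilinear, hub_dep_dm_congr. Scheme level: hasSk_fiber_iff, isEquidim_fiber_iff (in terms of dF/mF/ptTrdeg of fibrewise generizations),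 exists_min_gen, mF_ne_bot_of_specializes, equidim_sk_iff, isOpen_equidim_sk (S4984), isOpen_base_equidim_sk (S5919) (helper9). -/

set_option autoImplicit false
set_option linter.style.haveILetI false
set_option linter.unusedSimpArgs false
set_option linter.unusedVariables false
universe u

namespace Groth.Agent.Lib.H9FibSkEquidim

-- ===== part NmH =====
section

open TensorProduct Topology
open Groth.Agent.Lib.Helper28 Groth.Agent.Lib.Helper5 Groth.Agent.Lib.Helper5.GenDepth
open Groth.Agent.Lib.H9ModFibAlg Groth.Agent.Lib.H9RectDepthAlg Groth.Agent.Lib.H9FibNumerics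
open Groth.Agent.Lib.Helper5.CodepthOpen

section CN

variable {C : Type u} [CommRing C] [IsNoetherianRing C] (N : Type u) [AddCommGroup N] [Module C N]
  [Module.Finite C N]

/-- minimal primes of the annihilator, numerically. -/
theorem mem_minimalPrimes_ann_iff (Q : Ideal C) [hQ : Q.IsPrime] :
    Q ∈ (Module.annihilator C N).minimalPrimes ↔ dm Q N = 0 := by
  constructor
  · intro h
    have hQM : (⟨Q, hQ⟩ : PrimeSpectrum C) ∈ Module.support C N := by
      rw [Module.support_eq_zeroLocus]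
      exact (PrimeSpectrum.mem_zeroLocus _ _).mpr h.1.2
    exact (supportDim_localization_eq_zero_iff Q hQM).mpr h
  · intro h
    have hQM : (⟨Q, hQ⟩ : PrimeSpectrum C) ∈ Module.support C N := by
      rw [Module.mem_support_iff]
      change Nontrivial (LocalizedModule Q.primeCompl N)
      by_contra hcon
      rw [not_nontrivial_iff_subsingleton] at hcon
      have : dm Q N = ⊥ := Module.supportDim_eq_bot_of_subsingleton _ _
      rw [this] at h
      exact absurd h (by simp)
    exact (supportDim_localization_eq_zero_iff Q hQM).mp h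

/-- `(S_k)` for a localization, pointwise. -/
theorem hasSk_loc_iff (k : ℕ) (X' : Ideal C) [X'.IsPrime] :
    LocCoh.HasSk k (Localization.AtPrime X') (LocalizedModule X'.primeCompl N) ↔
      ∀ (Q : Ideal C) [Q.IsPrime], Q ≤ X' →
        min (k : WithBot ℕ∞) (dm Q N) ≤ ((dep Q N : ℕ∞) : WithBot ℕ∞) := by
  have h := hasSkAt_iff k N X'
  unfold EGA4.HasSkAt at h
  rw [h]
  constructor
  · intro h Q hQ hle
    exact h ⟨Q, hQ⟩ hle
  · intro h Q hle
    exact h Q.asIdeal hle

set_option synthInstance.maxHeartbeats 400000 in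
set_option maxHeartbeats 3200000 in
/-- equidimensionality of a localized module, pointwise. -/
theorem isEquidim_loc_iff (X' : Ideal C) [hX' : X'.IsPrime] :
    EGA4.IsEquidimModule (Localization.AtPrime X') (LocalizedModule X'.primeCompl N) ↔
      ∀ (Q : Ideal C) [Q.IsPrime], Q ≤ X' → dm Q N = 0 →
        (((X'.map (Ideal.Quotient.mk Q)).height : ℕ∞) : WithBot ℕ∞) = dm X' N := by
  haveI hNR : IsNoetherianRing (Localization.AtPrime X') :=
    IsLocalization.isNoetherianRing X'.primeCompl _ inferInstance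
  constructor
  · intro h Q hQ hle h0
    obtain ⟨hP, hcomap⟩ := isPrime_map_and_comap_map_of_le X' hle
    haveI := hP
    obtain ⟨-, t2⟩ := FinDimDepth.transport X'.primeCompl N
      (Q.map (algebraMap C (Localization.AtPrime X')))
    obtain ⟨-, c2⟩ := dep_dm_congr_ideal hcomap N
    have h1 : dm (Q.map (algebraMap C (Localization.AtPrime X')))
        (LocalizedModule X'.primeCompl N) = 0 := by
      unfold dm
      rw [t2]
      change dm _ N = 0
      rw [c2, h0]
    have h2 := (mem_minimalPrimes_ann_iff (LocalizedModule X'.primeCompl N)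
      (Q.map (algebraMap C (Localization.AtPrime X')))).mpr h1
    have h3 := h _ h2
    rw [ringKrullDim_localization_quotient_eq_height Q X' hle] at h3
    exact h3
  · intro h P hP
    haveI hPp : P.IsPrime := hP.1.1
    have h1 := (mem_minimalPrimes_ann_iff (LocalizedModule X'.primeCompl N) P).mp hP
    obtain ⟨-, t2⟩ := FinDimDepth.transport X'.primeCompl N P
    set Q : Ideal C := P.comap (algebraMap C (Localization.AtPrime X')) with hQ
    have hle : Q ≤ X' := by
      intro x hx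
      have hx' : algebraMap C (Localization.AtPrime X') x ∈
          IsLocalRing.maximalIdeal (Localization.AtPrime X') :=
        IsLocalRing.le_maximalIdeal hPp.ne_top hx
      exact (IsLocalization.AtPrime.to_map_mem_maximal_iff (Localization.AtPrime X') X' x).mp hx'
    have h0 : dm Q N = 0 := by
      unfold dm at h1 ⊢
      rw [← t2]
      exact h1
    have hmap : Q.map (algebraMap C (Localization.AtPrime X')) = P :=
      IsLocalization.map_comap X'.primeCompl _ P
    have h3 := h Q hle h0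
    rw [← ringKrullDim_localization_quotient_eq_height Q X' hle] at h3
    rw [← ringKrullDim_eq_of_ringEquiv (Ideal.quotEquivOfEq hmap)]
    exact h3

omit [IsNoetherianRing C] in
/-- the dimension of a localization of a finite module is that of the quotient by the
annihilator. -/
theorem dm_eq_dm_quot_ann (X' : Ideal C) [X'.IsPrime] :
    dm X' N = dm X' (C ⧸ Module.annihilator C N) := by
  have h1 := support_isLocalizedModule X'.primeCompl (Localization.AtPrime X')
    (LocalizedModule.mkLinearMap X'.primeCompl N)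
  have h2 := support_isLocalizedModule X'.primeCompl (Localization.AtPrime X')
    (LocalizedModule.mkLinearMap X'.primeCompl (C ⧸ Module.annihilator C N))
  have h3 : Module.support C N = Module.support C (C ⧸ Module.annihilator C N) := by
    rw [Module.support_eq_zeroLocus, Module.support_eq_zeroLocus, Ideal.annihilator_quotient]
  unfold dm
  apply le_antisymm
  · apply supportDim_le_of_support_subset
    rw [h1, h2, h3]
  · apply supportDim_le_of_support_subset
    rw [h1, h2, h3]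

/-- the dimension of a localized module is attained on a minimal prime of the support. -/
theorem exists_min_height_eq (X' : Ideal C) [hX' : X'.IsPrime]
    (hsupp : (⟨X', hX'⟩ : PrimeSpectrum C) ∈ Module.support C N) :
    ∃ (Q : Ideal C) (_ : Q.IsPrime), Q ≤ X' ∧ dm Q N = 0 ∧
      (((X'.map (Ideal.Quotient.mk Q)).height : ℕ∞) : WithBot ℕ∞) = dm X' N := by
  have hann : Module.annihilator C N ≤ X' := by
    rw [Module.support_eq_zeroLocus] at hsupp
    exact (PrimeSpectrum.mem_zeroLocus _ _).mp hsupp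
  obtain ⟨Q, hQ, hle, hht⟩ := exists_minimalPrimes_over_height_eq (Module.annihilator C N) X' hann
  haveI hQp : Q.IsPrime := hQ.1.1
  refine ⟨Q, hQp, hle, (mem_minimalPrimes_ann_iff N Q).mp hQ, ?_⟩
  rw [dm_eq_dm_quot_ann, dm_quotient_eq_height _ X' hann, hht]

end CN

section FieldHt

variable (K : Type u) [Field K] {R : Type u} [CommRing R] [Algebra K R] [Algebra.FiniteType K R]

/-- over a field: `ht(X'/Q) + trdeg κ(X') = trdeg κ(Q)`. -/
theorem height_quot_add_ftd (Q X' : Ideal R) [Q.IsPrime] [X'.IsPrime] (hle : Q ≤ X') :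
    (X'.map (Ideal.Quotient.mk Q)).height + (ftd K X' : ℕ∞) = (ftd K Q : ℕ∞) := by
  have hUC : CAlg.IsUniversallyCatenary K :=
    Groth.Agent.Lib.Helper4.RectDepth.isUniversallyCatenary_of_isRegularLocalRing K
  have h := height_map_add_eq hUC X' Q hle
  rw [h]
  have h1 : X'.under K = ⊥ := under_field_eq_bot K X'
  rw [h1, Ideal.map_bot]
  haveI : IsDomain (K ⧸ Q.under K) := by
    haveI : (Q.under K).IsPrime := Ideal.comap_isPrime _ _
    exact Ideal.Quotient.isDomain _
  rw [Ideal.height_bot, zero_add]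

end FieldHt

section Fib

variable {A B : Type u} [CommRing A] [CommRing B] [Algebra A B] [Algebra.FiniteType A B]
  (M : Type u) [AddCommGroup M] [Module B M] [Module.Finite B M]

attribute [local instance] Algebra.TensorProduct.rightAlgebra

/-- a statement about all fibrewise generizations, through the fibre ring. -/
theorem forall_fibGen_iff (p : Ideal A) [p.IsPrime] (X' : PrimeSpectrum (p.Fiber B))
    (P : PrimeSpectrum B → Prop) :
    (∀ (z : Ideal B) [hz : z.IsPrime], z ≤ (fibMap p X').asIdeal → z.under A = p → P ⟨z, hz⟩) ↔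
      ∀ (Q : Ideal (p.Fiber B)) [hQ : Q.IsPrime], Q ≤ X'.asIdeal → P (fibMap p ⟨Q, hQ⟩) := by
  constructor
  · intro h Q hQ hle
    exact h (fibMap p ⟨Q, hQ⟩).asIdeal ((fibMap_le_iff p ⟨Q, hQ⟩ X').mpr hle)
      (fibMap_under p ⟨Q, hQ⟩)
  · intro h z hz hle hzp
    obtain ⟨Z', hZ'⟩ := exists_fibMap_eq p z hzp
    have h1 : Z' ≤ X' := by
      rw [← fibMap_le_iff, hZ']
      exact hle
    have h2 := h Z'.asIdeal h1
    have h3 : fibMap p ⟨Z'.asIdeal, Z'.2⟩ = ⟨z, hz⟩ := PrimeSpectrum.ext hZ'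
    rw [h3] at h2
    exact h2

set_option synthInstance.maxHeartbeats 400000 in
set_option maxHeartbeats 3200000 in
/-- `(S_k)` for the fibre module at a point, numerically. -/
theorem fibre_hasSk_iff (k : ℕ) (p : Ideal A) [p.IsPrime] (X' : PrimeSpectrum (p.Fiber B)) :
    LocCoh.HasSk k (Localization.AtPrime X'.asIdeal)
        (LocalizedModule X'.asIdeal.primeCompl (p.Fiber B ⊗[B] M)) ↔
      ∀ (z : Ideal B) [z.IsPrime], z ≤ (fibMap p X').asIdeal → z.under A = p →
        min (k : WithBot ℕ∞) (fdm A M z) ≤ ((fdep A M z : ℕ∞) : WithBot ℕ∞) := by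
  obtain ⟨hN, -⟩ := fdep_fdm_eq_dep_dm M p X'.asIdeal
  haveI := hN
  rw [hasSk_loc_iff]
  rw [forall_fibGen_iff p X' (fun z => min (k : WithBot ℕ∞) (fdm A M z.asIdeal) ≤
    ((fdep A M z.asIdeal : ℕ∞) : WithBot ℕ∞))]
  refine forall_congr' fun Q => forall_congr' fun hQ => forall_congr' fun hle => ?_
  obtain ⟨n1, n2⟩ := fibMap_numerics M p ⟨Q, hQ⟩
  rw [n1, n2]

theorem withBot_add_nat_cancel (a b : WithBot ℕ∞) (c : ℕ) :
    a + (c : WithBot ℕ∞) = b + (c : WithBot ℕ∞) ↔ a = b := by
  constructor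
  · intro h
    induction a using WithBot.recBotCoe with
    | bot =>
      induction b using WithBot.recBotCoe with
      | bot => rfl
      | coe b =>
        rw [WithBot.bot_add] at h
        have : ((b : ℕ∞) : WithBot ℕ∞) + (c : WithBot ℕ∞) = ((b + c : ℕ∞) : WithBot ℕ∞) := rfl
        rw [this] at h
        exact absurd h.symm (WithBot.coe_ne_bot)
    | coe a =>
      induction b using WithBot.recBotCoe with
      | bot =>
        rw [WithBot.bot_add] at h
        have : ((a : ℕ∞) : WithBot ℕ∞) + (c : WithBot ℕ∞) = ((a + c : ℕ∞) : WithBot ℕ∞) := rfl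
        rw [this] at h
        exact absurd h (WithBot.coe_ne_bot)
      | coe b =>
        have h1 : ((a : ℕ∞) : WithBot ℕ∞) + (c : WithBot ℕ∞) = ((a + c : ℕ∞) : WithBot ℕ∞) := rfl
        have h2 : ((b : ℕ∞) : WithBot ℕ∞) + (c : WithBot ℕ∞) = ((b + c : ℕ∞) : WithBot ℕ∞) := rfl
        rw [h1, h2, WithBot.coe_inj] at h
        rw [WithBot.coe_inj]
        exact (ENat.add_left_injective_of_ne_top (ENat.coe_ne_top c)) h
  · intro h
    rw [h]

set_option synthInstance.maxHeartbeats 400000 in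
set_option maxHeartbeats 3200000 in
/-- equidimensionality of the fibre module at a point, numerically. -/
theorem fibre_isEquidim_iff (p : Ideal A) [p.IsPrime] (X' : PrimeSpectrum (p.Fiber B)) :
    EGA4.IsEquidimModule (Localization.AtPrime X'.asIdeal)
        (LocalizedModule X'.asIdeal.primeCompl (p.Fiber B ⊗[B] M)) ↔
      ∀ (z : Ideal B) [z.IsPrime], z ≤ (fibMap p X').asIdeal → z.under A = p →
        fdm A M z = 0 →
        ((ftd A z : ℕ) : WithBot ℕ∞) =
          fdm A M (fibMap p X').asIdeal + ((ftd A (fibMap p X').asIdeal : ℕ) : WithBot ℕ∞) := by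
  obtain ⟨hN, -⟩ := fdep_fdm_eq_dep_dm M p X'.asIdeal
  haveI := hN
  rw [isEquidim_loc_iff]
  rw [forall_fibGen_iff p X' (fun z => fdm A M z.asIdeal = 0 →
        ((ftd A z.asIdeal : ℕ) : WithBot ℕ∞) =
          fdm A M (fibMap p X').asIdeal + ((ftd A (fibMap p X').asIdeal : ℕ) : WithBot ℕ∞))]
  refine forall_congr' fun Q => forall_congr' fun hQ => forall_congr' fun hle => ?_
  obtain ⟨n1, n2⟩ := fibMap_numerics M p ⟨Q, hQ⟩
  obtain ⟨m1, m2⟩ := fibMap_numerics M p X'
  rw [n2, m2]
  refine imp_congr Iff.rfl ?_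
  have hht := height_quot_add_ftd p.ResidueField Q X'.asIdeal hle
  have f1 : ftd p.ResidueField Q = ftd A (fibMap p ⟨Q, hQ⟩).asIdeal :=
    ftd_fiber_eq p Q _ rfl
  have f2 : ftd p.ResidueField X'.asIdeal = ftd A (fibMap p X').asIdeal :=
    ftd_fiber_eq p X'.asIdeal _ rfl
  rw [← f1, ← f2]
  have hht' : (((X'.asIdeal.map (Ideal.Quotient.mk Q)).height : ℕ∞) : WithBot ℕ∞) +
      ((ftd p.ResidueField X'.asIdeal : ℕ) : WithBot ℕ∞) =
      ((ftd p.ResidueField Q : ℕ) : WithBot ℕ∞) := by
    have h5 : (((X'.asIdeal.map (Ideal.Quotient.mk Q)).height +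
        (ftd p.ResidueField X'.asIdeal : ℕ∞) : ℕ∞) : WithBot ℕ∞) =
        (((ftd p.ResidueField Q : ℕ) : ℕ∞) : WithBot ℕ∞) := by rw [hht]
    exact h5
  rw [← hht', withBot_add_nat_cancel]

set_option synthInstance.maxHeartbeats 400000 in
set_option maxHeartbeats 3200000 in
/-- the dimension of the fibre module at a point is attained at a minimal fibrewise
generization. -/
theorem fibre_exists_min (p : Ideal A) [p.IsPrime] (X' : PrimeSpectrum (p.Fiber B))
    (hsupp : fdm A M (fibMap p X').asIdeal ≠ ⊥) :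
    ∃ (z : Ideal B) (_ : z.IsPrime), z ≤ (fibMap p X').asIdeal ∧ z.under A = p ∧
      fdm A M z = 0 ∧
      ((ftd A z : ℕ) : WithBot ℕ∞) =
        fdm A M (fibMap p X').asIdeal + ((ftd A (fibMap p X').asIdeal : ℕ) : WithBot ℕ∞) := by
  obtain ⟨hN, -⟩ := fdep_fdm_eq_dep_dm M p X'.asIdeal
  haveI := hN
  obtain ⟨m1, m2⟩ := fibMap_numerics M p X'
  have hs : (⟨X'.asIdeal, X'.2⟩ : PrimeSpectrum (p.Fiber B)) ∈
      Module.support (p.Fiber B) (p.Fiber B ⊗[B] M) := by
    rw [Module.mem_support_iff]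
    change Nontrivial (LocalizedModule X'.asIdeal.primeCompl (p.Fiber B ⊗[B] M))
    by_contra hcon
    rw [not_nontrivial_iff_subsingleton] at hcon
    apply hsupp
    rw [m2]
    exact Module.supportDim_eq_bot_of_subsingleton _ _
  obtain ⟨Q, hQ, hle, h0, hht⟩ := exists_min_height_eq (p.Fiber B ⊗[B] M) X'.asIdeal hs
  obtain ⟨n1, n2⟩ := fibMap_numerics M p ⟨Q, hQ⟩
  refine ⟨(fibMap p ⟨Q, hQ⟩).asIdeal, inferInstance, (fibMap_le_iff p ⟨Q, hQ⟩ X').mpr hle,
    fibMap_under p ⟨Q, hQ⟩, by rw [n2]; exact h0, ?_⟩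
  have hh := height_quot_add_ftd p.ResidueField Q X'.asIdeal hle
  have f1 : ftd p.ResidueField Q = ftd A (fibMap p ⟨Q, hQ⟩).asIdeal :=
    ftd_fiber_eq p Q _ rfl
  have f2 : ftd p.ResidueField X'.asIdeal = ftd A (fibMap p X').asIdeal :=
    ftd_fiber_eq p X'.asIdeal _ rfl
  rw [← f1, ← f2, m2, ← hht]
  have h5 : (((X'.asIdeal.map (Ideal.Quotient.mk Q)).height +
      (ftd p.ResidueField X'.asIdeal : ℕ∞) : ℕ∞) : WithBot ℕ∞) =
      (((ftd p.ResidueField Q : ℕ) : ℕ∞) : WithBot ℕ∞) := by rw [hh]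
  exact h5.symm

omit [Algebra.FiniteType A B] [Module.Finite B M] in
theorem dm_ne_bot_iff {C : Type u} [CommRing C] (N : Type u) [AddCommGroup N] [Module C N]
    (Q : Ideal C) [hQ : Q.IsPrime] :
    dm Q N ≠ ⊥ ↔ (⟨Q, hQ⟩ : PrimeSpectrum C) ∈ Module.support C N := by
  rw [Module.mem_support_iff]
  unfold dm
  rw [Module.supportDim_ne_bot_iff_nontrivial]

/-- the support of the fibre module is stable under fibrewise specialization. -/
theorem fdm_ne_bot_of_le (x z : Ideal B) [x.IsPrime] [z.IsPrime] (hzx : z ≤ x)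
    (hzA : z.under A = x.under A) (hz : fdm A M z ≠ ⊥) : fdm A M x ≠ ⊥ := by
  set p : Ideal A := x.under A with hp
  haveI : p.IsPrime := Ideal.comap_isPrime _ _
  obtain ⟨X', hX'⟩ := exists_fibMap_eq p x rfl
  obtain ⟨Z', hZ'⟩ := exists_fibMap_eq p z hzA
  obtain ⟨-, n2⟩ := fibMap_numerics M p X'
  obtain ⟨-, m2⟩ := fibMap_numerics M p Z'
  obtain ⟨-, c2⟩ := fdep_congr (A := A) M hX'
  obtain ⟨-, d2⟩ := fdep_congr (A := A) M hZ'
  have hle : Z' ≤ X' := by
    rw [← fibMap_le_iff, hZ', hX']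
    exact hzx
  rw [← c2, n2, dm_ne_bot_iff]
  rw [← d2, m2, dm_ne_bot_iff] at hz
  exact Module.mem_support_mono hle hz

end Fib

end

-- ===== part NmI =====
section

open AlgebraicGeometry CategoryTheory Limits IsLocalRing TensorProduct Topology
open Groth.Agent.Lib.Helper5.FiberStalk
open Groth.Agent.Lib.H9ModFibAlg Groth.Agent.Lib.H9ModFibSch
open Groth.Agent.Lib.H9FibNumerics Groth.Agent.Lib.H9FibNumericsSch

/-- properties of pairs (ring, module) invariant under linear isomorphisms and under change of the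
hub algebra. -/
structure SemiInv
    (P : ∀ (R : Type u) [CommRing R] (N : Type u) [AddCommGroup N] [Module R N], Prop) : Prop where
  lin : ∀ (R : Type u) [CommRing R] [IsNoetherianRing R] (N N' : Type u) [AddCommGroup N]
    [Module R N] [AddCommGroup N'] [Module R N'] [Module.Finite R N] (_ : N ≃ₗ[R] N'),
    P R N → P R N'
  hub : ∀ (B : Type u) [CommRing B] (M : Type u) [AddCommGroup M] [Module B M] [Module.Finite B M]
    (R R' : Type u) [CommRing R] [CommRing R'] [Algebra B R] [Algebra B R'] [IsNoetherianRing R]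
    [IsNoetherianRing R'] (_ : R ≃ₐ[B] R'), P R (R ⊗[B] M) → P R' (R' ⊗[B] M)

theorem SemiInv.of_linearEquiv
    {P : ∀ (R : Type u) [CommRing R] (N : Type u) [AddCommGroup N] [Module R N], Prop}
    (hP : SemiInv P) {R : Type u} [CommRing R] [IsNoetherianRing R] {N N' : Type u}
    [AddCommGroup N] [Module R N] [AddCommGroup N'] [Module R N'] [Module.Finite R N]
    (e : N ≃ₗ[R] N') : P R N ↔ P R N' := by
  haveI : Module.Finite R N' := Module.Finite.equiv e
  exact ⟨hP.lin R N N' e, hP.lin R N' N e.symm⟩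

theorem SemiInv.hub_congr
    {P : ∀ (R : Type u) [CommRing R] (N : Type u) [AddCommGroup N] [Module R N], Prop}
    (hP : SemiInv P) {B : Type u} [CommRing B] (M : Type u) [AddCommGroup M] [Module B M]
    [Module.Finite B M] {R R' : Type u} [CommRing R] [CommRing R'] [Algebra B R] [Algebra B R']
    [IsNoetherianRing R] [IsNoetherianRing R']
    (e : R ≃ₐ[B] R') : P R (R ⊗[B] M) ↔ P R' (R' ⊗[B] M) :=
  ⟨hP.hub B M R R' e, hP.hub B M R' R e.symm⟩

section AlgDict

variable {A B : Type u} [CommRing A] [CommRing B] [Algebra A B] [Algebra.FiniteType A B]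
  (M : Type u) [AddCommGroup M] [Module B M] [Module.Finite B M]

attribute [local instance] Algebra.TensorProduct.rightAlgebra

set_option synthInstance.maxHeartbeats 400000 in
set_option maxHeartbeats 3200000 in
/-- the fibre module over the fibre local ring, as a localization of the fibre module over the
fibre ring. -/
theorem SemiInv.fibLoc_iff
    {P : ∀ (R : Type u) [CommRing R] (N : Type u) [AddCommGroup N] [Module R N], Prop}
    (hP : SemiInv P) (p : Ideal A) [p.IsPrime] (X' : PrimeSpectrum (p.Fiber B)) :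
    P (EGA4.FibLocRing A B (fibMap p X').asIdeal)
        (EGA4.FibLocRing A B (fibMap p X').asIdeal ⊗[B] M) ↔
      P (Localization.AtPrime X'.asIdeal)
        (LocalizedModule X'.asIdeal.primeCompl (p.Fiber B ⊗[B] M)) := by
  obtain ⟨e, he⟩ := Groth.Agent.Lib.H9QGor711.exists_localization_fiber_equiv_compat p X'.asIdeal
    (fibMap p X').asIdeal rfl
  let eAlg : Localization.AtPrime X'.asIdeal ≃ₐ[B] EGA4.FibLocRing A B (fibMap p X').asIdeal :=
    AlgEquiv.ofRingEquiv (f := e) (fun b => by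
      rw [IsScalarTower.algebraMap_apply B (p.Fiber B) (Localization.AtPrime X'.asIdeal)]
      exact he b)
  obtain ⟨hN, -⟩ := fdep_fdm_eq_dep_dm M p X'.asIdeal
  haveI := hN
  haveI hNQ : IsNoetherianRing (Localization.AtPrime X'.asIdeal) :=
    IsLocalization.isNoetherianRing X'.asIdeal.primeCompl _ inferInstance
  haveI hNR : IsNoetherianRing (EGA4.FibLocRing A B (fibMap p X').asIdeal) :=
    isNoetherianRing_of_ringEquiv _ e
  rw [← hP.hub_congr M (R := Localization.AtPrime X'.asIdeal)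
    (R' := EGA4.FibLocRing A B (fibMap p X').asIdeal) eAlg]
  haveI : IsLocalizedModule X'.asIdeal.primeCompl
      (Algebra.linearMap (p.Fiber B) (Localization.AtPrime X'.asIdeal)) := inferInstance
  let E : LocalizedModule X'.asIdeal.primeCompl (p.Fiber B ⊗[B] M) ≃ₗ[
      Localization.AtPrime X'.asIdeal] (Localization.AtPrime X'.asIdeal) ⊗[B] M :=
    IsLocalizedModule.mapEquiv X'.asIdeal.primeCompl
      (LocalizedModule.mkLinearMap X'.asIdeal.primeCompl (p.Fiber B ⊗[B] M))
      (AlgebraTensorModule.rTensor B M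
        (Algebra.linearMap (p.Fiber B) (Localization.AtPrime X'.asIdeal)))
      (Localization.AtPrime X'.asIdeal) (LinearEquiv.refl (p.Fiber B) (p.Fiber B ⊗[B] M))
  exact (hP.of_linearEquiv E).symm

end AlgDict

section SchDict

open Groth.Agent.Lib.Helper2.FlatOver Groth.Agent.Lib.Helper1.Sky

variable {X Y : Scheme.{u}} (f : X ⟶ Y)
variable (F : X.Modules) [F.IsQuasicoherent] {U : X.Opens} (hU : IsAffineOpen U)
  {V : Y.Opens} (hV : IsAffineOpen V) (e : U ≤ f ⁻¹ᵁ V)

include hV in
set_option synthInstance.maxHeartbeats 400000 in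
set_option maxHeartbeats 3200000 in
/-- **Chart form of the fibre module**, for any property invariant under semilinear
isomorphisms. -/
theorem SemiInv.fiber_stalk_iff
    {P : ∀ (R : Type u) [CommRing R] (N : Type u) [AddCommGroup N] [Module R N], Prop}
    (hP : SemiInv P) (hft : (f.appLE V U e).hom.FiniteType)
    [Module.Finite Γ(X, U) Γ(F, U)] (y : Y) (z : f.fiber y) (hzU : f.fiberι y z ∈ U) :
    letI : Algebra Γ(Y, V) Γ(X, U) := (f.appLE V U e).hom.toAlgebra
    P ((f.fiber y).presheaf.stalk z)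
        (((Scheme.Modules.pullback (f.fiberι y)).obj F).presheaf.stalk z) ↔
      P (EGA4.FibLocRing Γ(Y, V) Γ(X, U) (hU.primeIdealOf ⟨f.fiberι y z, hzU⟩).asIdeal)
        (EGA4.FibLocRing Γ(Y, V) Γ(X, U) (hU.primeIdealOf ⟨f.fiberι y z, hzU⟩).asIdeal ⊗[Γ(X, U)]
          Γ(F, U)) := by
  letI aVU : Algebra Γ(Y, V) Γ(X, U) := (f.appLE V U e).hom.toAlgebra
  haveI : Algebra.FiniteType Γ(Y, V) Γ(X, U) := hft
  set x' : X := f.fiberι y z with hx'
  set q : Ideal Γ(X, U) := (hU.primeIdealOf ⟨x', hzU⟩).asIdeal with hq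
  -- the rings
  letI aBS : Algebra Γ(X, U) (X.presheaf.stalk x') :=
    TopCat.Presheaf.algebra_section_stalk X.presheaf ⟨x', hzU⟩
  haveI hlocS : IsLocalization.AtPrime (X.presheaf.stalk x') q := hU.isLocalization_stalk ⟨x', hzU⟩
  letI aSR : Algebra (X.presheaf.stalk x') ((f.fiber y).presheaf.stalk z) :=
    ((f.fiberι y).stalkMap z).hom.toAlgebra
  letI aBR : Algebra Γ(X, U) ((f.fiber y).presheaf.stalk z) :=
    ((algebraMap (X.presheaf.stalk x') ((f.fiber y).presheaf.stalk z)).comp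
      (algebraMap Γ(X, U) (X.presheaf.stalk x'))).toAlgebra
  haveI tBSR : IsScalarTower Γ(X, U) (X.presheaf.stalk x') ((f.fiber y).presheaf.stalk z) :=
    .of_algebraMap_eq' rfl
  -- the modules
  letI mBF : Module Γ(X, U) (F.presheaf.stalk x') := moduleStalkSections F U x' hzU
  haveI tBSF : IsScalarTower Γ(X, U) (X.presheaf.stalk x') (F.presheaf.stalk x') :=
    ⟨fun b s m => by
      change (X.presheaf.germ U x' hzU b * s) • m = X.presheaf.germ U x' hzU b • (s • m)
      rw [mul_smul]⟩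
  haveI hlocF := isLocalizedModule_germ hU F x' hzU
  let E1 : (((Scheme.Modules.pullback (f.fiberι y)).obj F).presheaf.stalk z) ≃ₗ[
      (f.fiber y).presheaf.stalk z]
      ((f.fiber y).presheaf.stalk z) ⊗[X.presheaf.stalk x'] (F.presheaf.stalk x') :=
    ((stalkPullbackIso (f.fiberι y) z).app F).toLinearEquiv
  let E2 : (X.presheaf.stalk x') ⊗[Γ(X, U)] Γ(F, U) ≃ₗ[X.presheaf.stalk x'] F.presheaf.stalk x' :=
    (IsLocalizedModule.isBaseChange q.primeCompl (X.presheaf.stalk x')
      (germₗ F U x' hzU)).equiv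
  let E3 : ((f.fiber y).presheaf.stalk z) ⊗[X.presheaf.stalk x']
        ((X.presheaf.stalk x') ⊗[Γ(X, U)] Γ(F, U)) ≃ₗ[(f.fiber y).presheaf.stalk z]
      ((f.fiber y).presheaf.stalk z) ⊗[Γ(X, U)] Γ(F, U) :=
    TensorProduct.AlgebraTensorModule.cancelBaseChange Γ(X, U) (X.presheaf.stalk x')
      ((f.fiber y).presheaf.stalk z) ((f.fiber y).presheaf.stalk z) Γ(F, U)
  let E4 : ((f.fiber y).presheaf.stalk z) ⊗[X.presheaf.stalk x']
        ((X.presheaf.stalk x') ⊗[Γ(X, U)] Γ(F, U)) ≃ₗ[(f.fiber y).presheaf.stalk z]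
      ((f.fiber y).presheaf.stalk z) ⊗[X.presheaf.stalk x'] (F.presheaf.stalk x') :=
    TensorProduct.AlgebraTensorModule.congr
      (LinearEquiv.refl ((f.fiber y).presheaf.stalk z) ((f.fiber y).presheaf.stalk z)) E2
  let E : (((Scheme.Modules.pullback (f.fiberι y)).obj F).presheaf.stalk z) ≃ₗ[
      (f.fiber y).presheaf.stalk z] ((f.fiber y).presheaf.stalk z) ⊗[Γ(X, U)] Γ(F, U) :=
    E1 ≪≫ₗ E4.symm ≪≫ₗ E3
  -- the ring identification
  have hsurj : Function.Surjective (algebraMap (X.presheaf.stalk x')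
      ((f.fiber y).presheaf.stalk z)) := (f.fiberι y).stalkMap_surjective z
  have hker : RingHom.ker (algebraMap (X.presheaf.stalk x') ((f.fiber y).presheaf.stalk z)) =
      ((q.comap (algebraMap Γ(Y, V) Γ(X, U))).map (algebraMap Γ(Y, V) Γ(X, U))).map
        (algebraMap Γ(X, U) (X.presheaf.stalk x')) := by
    have h0 : RingHom.ker (algebraMap (X.presheaf.stalk x') ((f.fiber y).presheaf.stalk z)) =
        RingHom.ker ((f.fiberι y).stalkMap z).hom := rfl
    rw [h0, ker_stalkMap_fiberι f y z]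
    letI aAS : Algebra Γ(Y, V) (Y.presheaf.stalk (f x')) :=
      TopCat.Presheaf.algebra_section_stalk Y.presheaf ⟨f x', e hzU⟩
    haveI := hV.isLocalization_stalk ⟨f x', e hzU⟩
    have hp : q.comap (algebraMap Γ(Y, V) Γ(X, U)) =
        (hV.primeIdealOf ⟨f x', e hzU⟩).asIdeal := by
      have h1 := IsAffineOpen.comap_primeIdealOf_appLE (f := f) V hV U hU e hzU
      have := congrArg PrimeSpectrum.asIdeal h1
      rw [PrimeSpectrum.comap_asIdeal] at this
      exact this
    rw [hp, ← IsLocalization.AtPrime.map_eq_maximalIdeal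
      (hV.primeIdealOf ⟨f x', e hzU⟩).asIdeal (Y.presheaf.stalk (f x')), Ideal.map_map,
      Ideal.map_map]
    congr 1
    ext a
    exact stalkMap_germ_eq f e x' hzU a
  obtain ⟨eR⟩ := nonempty_algEquiv_fibLocRing (A := Γ(Y, V)) q (X.presheaf.stalk x')
    ((f.fiber y).presheaf.stalk z) hsurj hker
  haveI hNR := isNoetherianRing_fibLocRing (A := Γ(Y, V)) q
  haveI hNR' : IsNoetherianRing ((f.fiber y).presheaf.stalk z) :=
    isNoetherianRing_of_ringEquiv _ eR.symm.toRingEquiv
  haveI : Module.Finite ((f.fiber y).presheaf.stalk z)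
      (((Scheme.Modules.pullback (f.fiberι y)).obj F).presheaf.stalk z) :=
    Module.Finite.equiv E.symm
  rw [hP.of_linearEquiv E]
  exact hP.hub_congr Γ(F, U) (R := (f.fiber y).presheaf.stalk z)
    (R' := EGA4.FibLocRing Γ(Y, V) Γ(X, U) q) eR

end SchDict

end

-- ===== part NmJ =====
section

open AlgebraicGeometry CategoryTheory Limits IsLocalRing TensorProduct Topology
open Groth.Agent.Lib.Helper28 Groth.Agent.Lib.Helper5 Groth.Agent.Lib.Helper5.GenDepth
open Groth.Agent.Lib.H9ModFibAlg Groth.Agent.Lib.H9ModFibSch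
open Groth.Agent.Lib.H9FibNumerics Groth.Agent.Lib.H9FibNumericsSch

section Semilinear

variable {R R' : Type u} [CommRing R] [CommRing R'] {N N' : Type u} [AddCommGroup N] [Module R N]
  [AddCommGroup N'] [Module R' N'] (σ : R ≃+* R') (g : N ≃+ N')
  (hg : ∀ (r : R) (n : N), g (r • n) = σ r • g n)

include hg in
theorem mem_annihilator_semilinear (r : R) :
    r ∈ Module.annihilator R N ↔ σ r ∈ Module.annihilator R' N' := by
  rw [Module.mem_annihilator, Module.mem_annihilator]
  constructor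
  · intro h n'
    obtain ⟨n, rfl⟩ := g.surjective n'
    rw [← hg, h, map_zero]
  · intro h n
    apply g.injective
    rw [hg, h, map_zero]

include hg in
theorem annihilator_semilinear :
    Module.annihilator R N = (Module.annihilator R' N').comap (σ : R →+* R') := by
  ext r
  rw [Ideal.mem_comap]
  exact mem_annihilator_semilinear σ g hg r

include hg in
/-- equidimensionality is invariant under semilinear isomorphisms (finite modules). -/
theorem isEquidim_of_semilinear [Module.Finite R N] [Module.Finite R' N']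
    (h : EGA4.IsEquidimModule R N) : EGA4.IsEquidimModule R' N' := by
  intro p' hp'
  have hann := annihilator_semilinear σ g hg
  have h1 : p'.comap (σ : R →+* R') ∈ (Module.annihilator R N).minimalPrimes := by
    rw [hann]
    exact Ideal.minimalPrimes_comap_of_surjective σ.surjective hp'
  have h2 := h _ h1
  rw [Module.supportDim_eq_ringKrullDim_quotient_annihilator] at h2 ⊢
  have e1 : (R ⧸ p'.comap (σ : R →+* R')) ≃+* (R' ⧸ p') :=
    Ideal.quotientEquiv _ _ σ
      (Ideal.map_comap_of_surjective (σ : R →+* R') σ.surjective p').symm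
  have e2 : (R ⧸ Module.annihilator R N) ≃+* (R' ⧸ Module.annihilator R' N') :=
    Ideal.quotientEquiv _ _ σ (by
      rw [hann]
      exact (Ideal.map_comap_of_surjective (σ : R →+* R') σ.surjective _).symm)
  rw [← ringKrullDim_eq_of_ringEquiv e1, ← ringKrullDim_eq_of_ringEquiv e2]
  exact h2

end Semilinear

section HubSemi

variable {B : Type u} [CommRing B] (M : Type u) [AddCommGroup M] [Module B M]
  {R R' : Type u} [CommRing R] [CommRing R'] [Algebra B R] [Algebra B R']

/-- the semilinear isomorphism of hub modules induced by an isomorphism of `B`-algebras. -/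
noncomputable def hubEquiv (e : R ≃ₐ[B] R') : R ⊗[B] M ≃ₗ[B] R' ⊗[B] M :=
  TensorProduct.congr e.toLinearEquiv (LinearEquiv.refl B M)

theorem hubEquiv_smul (e : R ≃ₐ[B] R') (r : R) (t : R ⊗[B] M) :
    hubEquiv M e (r • t) = e r • hubEquiv M e t := by
  induction t using TensorProduct.induction_on with
  | zero => simp
  | tmul a m =>
    rw [TensorProduct.smul_tmul', smul_eq_mul]
    simp only [hubEquiv, TensorProduct.congr_tmul, AlgEquiv.toLinearEquiv_apply, map_mul,
      LinearEquiv.refl_apply]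
    rw [TensorProduct.smul_tmul', smul_eq_mul]
  | add x y hx hy => rw [smul_add, map_add, map_add, smul_add, hx, hy]

end HubSemi

theorem semiInv_isEquidim :
    SemiInv.{u} (fun R _ N _ _ => EGA4.IsEquidimModule R N) where
  lin R _ _ N N' _ _ _ _ _ e h := by
    haveI : Module.Finite R N' := Module.Finite.equiv e
    exact isEquidim_of_semilinear (RingEquiv.refl R) e.toAddEquiv (fun r n => e.map_smul r n) h
  hub B _ M _ _ _ R R' _ _ _ _ _ _ e h :=
    isEquidim_of_semilinear e.toRingEquiv (hubEquiv M e).toAddEquiv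
      (fun r t => hubEquiv_smul M e r t) h

section HasSkHub

variable {B : Type u} [CommRing B] (M : Type u) [AddCommGroup M] [Module B M] [Module.Finite B M]
  {R R' : Type u} [CommRing R] [CommRing R'] [Algebra B R] [Algebra B R']
  [IsNoetherianRing R] [IsNoetherianRing R']

set_option synthInstance.maxHeartbeats 400000 in
set_option maxHeartbeats 3200000 in
/-- depth and dimension of the localizations of hub modules correspond under an isomorphism of
`B`-algebras. -/
theorem hub_dep_dm_congr (e : R ≃ₐ[B] R') (P' : Ideal R') [P'.IsPrime] :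
    haveI : (P'.comap (e : R →+* R')).IsPrime := Ideal.comap_isPrime _ _
    dep (P'.comap (e : R →+* R')) (R ⊗[B] M) = dep P' (R' ⊗[B] M) ∧
      dm (P'.comap (e : R →+* R')) (R ⊗[B] M) = dm P' (R' ⊗[B] M) := by
  haveI hP : (P'.comap (e : R →+* R')).IsPrime := Ideal.comap_isPrime _ _
  set P : Ideal R := P'.comap (e : R →+* R') with hPdef
  have H : P.primeCompl.map e.toRingEquiv.toMonoidHom = P'.primeCompl := by
    ext x
    simp only [Submonoid.mem_map, Ideal.mem_primeCompl_iff]
    constructor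
    · rintro ⟨y, hy, rfl⟩
      exact hy
    · intro hx
      refine ⟨e.symm x, ?_, ?_⟩
      · rw [hPdef, Ideal.mem_comap]
        change ¬ e (e.symm x) ∈ P'
        rw [AlgEquiv.apply_symm_apply]
        exact hx
      · exact e.apply_symm_apply x
  let eP0 : Localization.AtPrime P ≃+* Localization.AtPrime P' :=
    IsLocalization.ringEquivOfRingEquiv (Localization.AtPrime P) (Localization.AtPrime P')
      e.toRingEquiv H
  let eP : Localization.AtPrime P ≃ₐ[B] Localization.AtPrime P' :=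
    AlgEquiv.ofRingEquiv (f := eP0) (fun b => by
      rw [IsScalarTower.algebraMap_apply B R (Localization.AtPrime P),
        IsScalarTower.algebraMap_apply B R' (Localization.AtPrime P')]
      change IsLocalization.ringEquivOfRingEquiv (Localization.AtPrime P) (Localization.AtPrime P')
        e.toRingEquiv H _ = _
      rw [IsLocalization.ringEquivOfRingEquiv_eq]
      congr 1
      exact e.commutes b)
  haveI : IsNoetherianRing (Localization.AtPrime P) :=
    IsLocalization.isNoetherianRing P.primeCompl _ inferInstance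
  haveI : IsNoetherianRing (Localization.AtPrime P') :=
    IsLocalization.isNoetherianRing P'.primeCompl _ inferInstance
  obtain ⟨h1, h2⟩ := hub_congr M (R := Localization.AtPrime P) (R' := Localization.AtPrime P') eP
  obtain ⟨h3, h4⟩ := hub_localization (B := B) M (C := R) (R := Localization.AtPrime P) P
  obtain ⟨h5, h6⟩ := hub_localization (B := B) M (C := R') (R := Localization.AtPrime P') P'
  exact ⟨by rw [← h3, h1, h5], by rw [← h4, h2, h6]⟩

end HasSkHub

theorem semiInv_hasSk (k : ℕ) :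
    SemiInv.{u} (fun R _ N _ _ => LocCoh.HasSk k R N) where
  lin R _ _ N N' _ _ _ _ _ e h := hasSk_of_linearEquiv e h
  hub B _ M _ _ _ R R' _ _ _ _ _ _ e h := by
    intro P' hP'
    obtain ⟨h1, h2⟩ := hub_dep_dm_congr M e P'
    have h3 := h (P'.comap (e : R →+* R'))
    change min (k : WithBot ℕ∞) (dm P' (R' ⊗[B] M)) ≤ ((dep P' (R' ⊗[B] M) : ℕ∞) : WithBot ℕ∞)
    rw [← h1, ← h2]
    exact h3

end

-- ===== part NmK =====
section

open AlgebraicGeometry CategoryTheory Limits IsLocalRing TensorProduct Topology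
open Groth.Agent.Lib.Helper28 Groth.Agent.Lib.Helper5 Groth.Agent.Lib.Helper5.GenDepth
open Groth.Agent.Lib.H9ModFibAlg Groth.Agent.Lib.H9ModFibSch
open Groth.Agent.Lib.Helper4.DimFormula Groth.Agent.Lib.Helper4.VarDim Groth.Agent.Lib.Helper4.FibDim
open Groth.Agent.Lib.H9RectDepthAlg Groth.Agent.Lib.H9RectDepthSch
open Groth.Agent.Lib.H9FibNumerics Groth.Agent.Lib.H9FibNumericsSch

section Dict

variable {X Y : Scheme.{u}} (f : X ⟶ Y)
variable (F : X.Modules) [F.IsQuasicoherent] {U : X.Opens} (hU : IsAffineOpen U)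
  {V : Y.Opens} (hV : IsAffineOpen V) (e : U ≤ f ⁻¹ᵁ V)

theorem fibLoc_congr {A B : Type u} [CommRing A] [CommRing B] [Algebra A B]
    (M : Type u) [AddCommGroup M] [Module B M]
    {P : ∀ (R : Type u) [CommRing R] (N : Type u) [AddCommGroup N] [Module R N], Prop}
    {q q' : Ideal B} [q.IsPrime] [q'.IsPrime] (h : q = q') :
    P (EGA4.FibLocRing A B q) (EGA4.FibLocRing A B q ⊗[B] M) ↔
      P (EGA4.FibLocRing A B q') (EGA4.FibLocRing A B q' ⊗[B] M) := by
  subst h
  rfl

attribute [local instance] Algebra.TensorProduct.rightAlgebra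

include hV in
set_option synthInstance.maxHeartbeats 400000 in
set_option maxHeartbeats 3200000 in
/-- **dictionary**: the stalk of the fibre module at a point of a chart, as a localization of the
fibre module over the fibre ring. -/
theorem SemiInv.fiber_dict
    {P : ∀ (R : Type u) [CommRing R] (N : Type u) [AddCommGroup N] [Module R N], Prop}
    (hP : SemiInv P) (hft : (f.appLE V U e).hom.FiniteType)
    [Module.Finite Γ(X, U) Γ(F, U)] (x : X) (hxU : x ∈ U) :
    letI : Algebra Γ(Y, V) Γ(X, U) := (f.appLE V U e).hom.toAlgebra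
    ∀ (p : Ideal Γ(Y, V)) [p.IsPrime] (X' : PrimeSpectrum (p.Fiber Γ(X, U))),
      (fibMap p X').asIdeal = (hU.primeIdealOf ⟨x, hxU⟩).asIdeal →
      (P ((f.fiber (f.base x)).presheaf.stalk (f.asFiber x))
        (((Scheme.Modules.pullback (f.fiberι (f.base x))).obj F).presheaf.stalk (f.asFiber x)) ↔
      P (Localization.AtPrime X'.asIdeal)
        (LocalizedModule X'.asIdeal.primeCompl (p.Fiber Γ(X, U) ⊗[Γ(X, U)] Γ(F, U)))) := by
  letI aVU : Algebra Γ(Y, V) Γ(X, U) := (f.appLE V U e).hom.toAlgebra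
  haveI : Algebra.FiniteType Γ(Y, V) Γ(X, U) := hft
  intro p _ X' hX'
  have hzU : f.fiberι (f.base x) (f.asFiber x) ∈ U := by
    rw [f.fiberι_asFiber x]
    exact hxU
  have hpt : hU.primeIdealOf ⟨f.fiberι (f.base x) (f.asFiber x), hzU⟩ =
      hU.primeIdealOf ⟨x, hxU⟩ := by
    congr 1
    exact Subtype.ext (f.fiberι_asFiber x)
  rw [hP.fiber_stalk_iff f F hU hV e hft (f.base x) (f.asFiber x) hzU]
  have hq : (hU.primeIdealOf ⟨f.fiberι (f.base x) (f.asFiber x), hzU⟩).asIdeal =
      (fibMap p X').asIdeal := by rw [hpt, hX']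
  rw [fibLoc_congr (A := Γ(Y, V)) Γ(F, U) (P := P) hq]
  exact hP.fibLoc_iff Γ(F, U) p X'

end Dict

section Bridge

variable {X Y : Scheme.{u}} (f : X ⟶ Y)

attribute [local instance] Algebra.TensorProduct.rightAlgebra

set_option synthInstance.maxHeartbeats 400000 in
set_option maxHeartbeats 3200000 in
/-- `(S_k)` of the stalk of the fibre module, in terms of the fibrewise generizations. -/
theorem hasSk_fiber_iff [LocallyOfFinitePresentation f] (F : X.Modules) (hF : CohB1.IsFP F)
    (k : ℕ) (x : X) :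
    LocCoh.HasSk k ((f.fiber (f.base x)).presheaf.stalk (f.asFiber x))
        (((Scheme.Modules.pullback (f.fiberι (f.base x))).obj F).presheaf.stalk (f.asFiber x)) ↔
      ∀ x' : X, f x' = f x → x' ⤳ x →
        min (k : WithBot ℕ∞) (mF f F x') ≤ ((dF f F x' : ℕ∞) : WithBot ℕ∞) := by
  haveI : F.IsQuasicoherent := Groth.Agent.Helper18Strict.isQCoh_of_isFP F hF
  obtain ⟨U, hU, V, hV, hUV, hxU, hfp, hfpM⟩ := exists_chart f F hF x
  have hft : (f.appLE V U hUV).hom.FiniteType := RingHom.FiniteType.of_finitePresentation hfp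
  haveI := hfpM
  letI aVU : Algebra Γ(Y, V) Γ(X, U) := (f.appLE V U hUV).hom.toAlgebra
  haveI : Algebra.FiniteType Γ(Y, V) Γ(X, U) := hft
  set q := hU.primeIdealOf ⟨x, hxU⟩ with hq
  set p : Ideal Γ(Y, V) := q.asIdeal.under Γ(Y, V) with hp
  haveI : p.IsPrime := Ideal.comap_isPrime _ _
  obtain ⟨X', hX'⟩ := exists_fibMap_eq p q.asIdeal rfl
  refine Iff.trans (SemiInv.fiber_dict f F hU hV hUV (semiInv_hasSk k) hft x hxU p X' hX') ?_
  refine Iff.trans (fibre_hasSk_iff Γ(F, U) k p X') ?_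
  rw [forall_fibGen_chart f hU hV hUV x hxU
    (fun x' => min (k : WithBot ℕ∞) (mF f F x') ≤ ((dF f F x' : ℕ∞) : WithBot ℕ∞))
    (fun z => min (k : WithBot ℕ∞) (fdm Γ(Y, V) Γ(F, U) z.asIdeal) ≤
      ((fdep Γ(Y, V) Γ(F, U) z.asIdeal : ℕ∞) : WithBot ℕ∞)) ?_]
  · rw [hX']
    constructor
    · intro h z hzx hzA
      exact h z.asIdeal hzx hzA
    · intro h z hz hzx hzA
      exact h ⟨z, hz⟩ hzx hzA
  · intro x' hx'U
    obtain ⟨m1, m2, -⟩ := fiber_numerics f hU hV hUV F hft x' hx'U
    rw [m1, m2]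

set_option synthInstance.maxHeartbeats 400000 in
set_option maxHeartbeats 3200000 in
/-- equidimensionality of the stalk of the fibre module, in terms of the fibrewise
generizations. -/
theorem isEquidim_fiber_iff [LocallyOfFinitePresentation f] (F : X.Modules) (hF : CohB1.IsFP F)
    (x : X) :
    EGA4.IsEquidimModule ((f.fiber (f.base x)).presheaf.stalk (f.asFiber x))
        (((Scheme.Modules.pullback (f.fiberι (f.base x))).obj F).presheaf.stalk (f.asFiber x)) ↔
      ∀ x' : X, f x' = f x → x' ⤳ x → mF f F x' = 0 →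
        ((ptTrdeg f x' : ℕ) : WithBot ℕ∞) = mF f F x + ((ptTrdeg f x : ℕ) : WithBot ℕ∞) := by
  haveI : F.IsQuasicoherent := Groth.Agent.Helper18Strict.isQCoh_of_isFP F hF
  obtain ⟨U, hU, V, hV, hUV, hxU, hfp, hfpM⟩ := exists_chart f F hF x
  have hft : (f.appLE V U hUV).hom.FiniteType := RingHom.FiniteType.of_finitePresentation hfp
  haveI := hfpM
  letI aVU : Algebra Γ(Y, V) Γ(X, U) := (f.appLE V U hUV).hom.toAlgebra
  haveI : Algebra.FiniteType Γ(Y, V) Γ(X, U) := hft
  set q := hU.primeIdealOf ⟨x, hxU⟩ with hq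
  set p : Ideal Γ(Y, V) := q.asIdeal.under Γ(Y, V) with hp
  haveI : p.IsPrime := Ideal.comap_isPrime _ _
  obtain ⟨X', hX'⟩ := exists_fibMap_eq p q.asIdeal rfl
  obtain ⟨n1, n2, n3⟩ := fiber_numerics f hU hV hUV F hft x hxU
  refine Iff.trans (SemiInv.fiber_dict f F hU hV hUV semiInv_isEquidim hft x hxU p X' hX') ?_
  refine Iff.trans (fibre_isEquidim_iff Γ(F, U) p X') ?_
  rw [forall_fibGen_chart f hU hV hUV x hxU
    (fun x' => mF f F x' = 0 →
      ((ptTrdeg f x' : ℕ) : WithBot ℕ∞) = mF f F x + ((ptTrdeg f x : ℕ) : WithBot ℕ∞))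
    (fun z => fdm Γ(Y, V) Γ(F, U) z.asIdeal = 0 →
      ((ftd Γ(Y, V) z.asIdeal : ℕ) : WithBot ℕ∞) =
        fdm Γ(Y, V) Γ(F, U) q.asIdeal + ((ftd Γ(Y, V) q.asIdeal : ℕ) : WithBot ℕ∞)) ?_]
  · obtain ⟨c1, c2⟩ := fdep_congr (A := Γ(Y, V)) Γ(F, U) hX'
    have c3 := ftd_congr Γ(Y, V) _ _ hX'
    rw [c2, c3, hX']
    constructor
    · intro h z hzx hzA
      exact h z.asIdeal hzx hzA
    · intro h z hz hzx hzA
      exact h ⟨z, hz⟩ hzx hzA
  · intro x' hx'U
    obtain ⟨m1, m2, m3⟩ := fiber_numerics f hU hV hUV F hft x' hx'U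
    rw [m2, m3, n2, n3]

end Bridge

end

-- ===== part NmL =====
section

open AlgebraicGeometry CategoryTheory Limits IsLocalRing TensorProduct Topology
open Groth.Agent.Lib.Helper28 Groth.Agent.Lib.Helper5 Groth.Agent.Lib.Helper5.GenDepth
open Groth.Agent.Lib.H9ModFibAlg Groth.Agent.Lib.H9ModFibSch
open Groth.Agent.Lib.Helper4.DimFormula Groth.Agent.Lib.Helper4.VarDim Groth.Agent.Lib.Helper4.FibDim
open Groth.Agent.Lib.H9RectDepthAlg Groth.Agent.Lib.H9RectDepthSch
open Groth.Agent.Lib.H9FibNumerics Groth.Agent.Lib.H9FibNumericsSch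

variable {X Y : Scheme.{u}} (f : X ⟶ Y)

attribute [local instance] Algebra.TensorProduct.rightAlgebra

set_option synthInstance.maxHeartbeats 400000 in
set_option maxHeartbeats 3200000 in
/-- the dimension of the fibre module at a point is attained at a minimal fibrewise
generization. -/
theorem exists_min_gen [LocallyOfFinitePresentation f] (F : X.Modules) (hF : CohB1.IsFP F)
    (x : X) (hx : mF f F x ≠ ⊥) :
    ∃ x' : X, f x' = f x ∧ x' ⤳ x ∧ mF f F x' = 0 ∧
      ((ptTrdeg f x' : ℕ) : WithBot ℕ∞) = mF f F x + ((ptTrdeg f x : ℕ) : WithBot ℕ∞) := by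
  haveI : F.IsQuasicoherent := Groth.Agent.Helper18Strict.isQCoh_of_isFP F hF
  obtain ⟨U, hU, V, hV, hUV, hxU, hfp, hfpM⟩ := exists_chart f F hF x
  have hft : (f.appLE V U hUV).hom.FiniteType := RingHom.FiniteType.of_finitePresentation hfp
  haveI := hfpM
  letI aVU : Algebra Γ(Y, V) Γ(X, U) := (f.appLE V U hUV).hom.toAlgebra
  haveI : Algebra.FiniteType Γ(Y, V) Γ(X, U) := hft
  set q := hU.primeIdealOf ⟨x, hxU⟩ with hq
  set p : Ideal Γ(Y, V) := q.asIdeal.under Γ(Y, V) with hp
  haveI : p.IsPrime := Ideal.comap_isPrime _ _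
  obtain ⟨X', hX'⟩ := exists_fibMap_eq p q.asIdeal rfl
  obtain ⟨n1, n2, n3⟩ := fiber_numerics f hU hV hUV F hft x hxU
  obtain ⟨c1, c2⟩ := fdep_congr (A := Γ(Y, V)) Γ(F, U) hX'
  have c3 := ftd_congr Γ(Y, V) _ _ hX'
  have hs : fdm Γ(Y, V) Γ(F, U) (fibMap p X').asIdeal ≠ ⊥ := by
    rw [c2, ← n2]
    exact hx
  obtain ⟨z, hz, hzx, hzA, hz0, hzt⟩ := fibre_exists_min Γ(F, U) p X' hs
  obtain ⟨⟨x', hx'U⟩, hx'z⟩ := hU.isoSpec.hom.homeomorph.surjective ⟨z, hz⟩
  have hx'z' : (hU.primeIdealOf ⟨x', hx'U⟩).asIdeal = z := congrArg PrimeSpectrum.asIdeal hx'z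
  obtain ⟨m1, m2, m3⟩ := fiber_numerics f hU hV hUV F hft x' hx'U
  obtain ⟨-, e2⟩ := fdep_congr (A := Γ(Y, V)) Γ(F, U) hx'z'
  have e3 := ftd_congr Γ(Y, V) _ _ hx'z'
  refine ⟨x', ?_, ?_, ?_, ?_⟩
  · rw [map_eq_iff_under_eq f hU hV hUV x' x hx'U hxU, hx'z']
    exact hzA
  · rw [specializes_iff_primeIdealOf_le hU x' x hx'U hxU, hx'z', ← hX']
    exact hzx
  · rw [m2, e2]
    exact hz0
  · rw [m3, e3, n2, n3, hzt, c2, c3]

set_option synthInstance.maxHeartbeats 400000 in
set_option maxHeartbeats 3200000 in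
/-- the support of the fibre module is stable under fibrewise specialization. -/
theorem mF_ne_bot_of_specializes [LocallyOfFinitePresentation f] (F : X.Modules)
    (hF : CohB1.IsFP F) (x x' : X) (hfx : f x' = f x) (hspec : x' ⤳ x) (hx' : mF f F x' ≠ ⊥) :
    mF f F x ≠ ⊥ := by
  haveI : F.IsQuasicoherent := Groth.Agent.Helper18Strict.isQCoh_of_isFP F hF
  obtain ⟨U, hU, V, hV, hUV, hxU, hfp, hfpM⟩ := exists_chart f F hF x
  have hft : (f.appLE V U hUV).hom.FiniteType := RingHom.FiniteType.of_finitePresentation hfp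
  haveI := hfpM
  letI aVU : Algebra Γ(Y, V) Γ(X, U) := (f.appLE V U hUV).hom.toAlgebra
  haveI : Algebra.FiniteType Γ(Y, V) Γ(X, U) := hft
  have hx'U : x' ∈ U := hspec.mem_open U.isOpen hxU
  obtain ⟨-, n2, -⟩ := fiber_numerics f hU hV hUV F hft x hxU
  obtain ⟨-, m2, -⟩ := fiber_numerics f hU hV hUV F hft x' hx'U
  rw [n2]
  rw [m2] at hx'
  exact fdm_ne_bot_of_le Γ(F, U) _ _
    ((specializes_iff_primeIdealOf_le hU x' x hx'U hxU).mp hspec)
    ((map_eq_iff_under_eq f hU hV hUV x' x hx'U hxU).mp hfx) hx'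

/-- depth zero and dimension zero. -/
theorem dF_eq_zero_of_mF_eq_zero [LocallyOfFinitePresentation f] (F : X.Modules)
    (hF : CohB1.IsFP F) (x : X) (h : mF f F x = 0) : dF f F x = 0 := by
  obtain ⟨h1, h2⟩ := fiber_stalk_fin f F hF x
  haveI := h1
  haveI := h2
  haveI : Nontrivial (((Scheme.Modules.pullback (f.fiberι (f.base x))).obj F).presheaf.stalk
      (f.asFiber x)) := by
    rw [← Module.supportDim_ne_bot_iff_nontrivial
      ((f.fiber (f.base x)).presheaf.stalk (f.asFiber x))]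
    change mF f F x ≠ ⊥
    rw [h]
    exact WithBot.coe_ne_bot
  have hle : ((dF f F x : ℕ∞) : WithBot ℕ∞) ≤ mF f F x := Groth.Agent.Lib.Helper28.depth_le_supportDim
  rw [h] at hle
  have : ((dF f F x : ℕ∞) : WithBot ℕ∞) ≤ ((0 : ℕ∞) : WithBot ℕ∞) := hle
  exact nonpos_iff_eq_zero.mp (WithBot.coe_le_coe.mp this)

theorem mF_ne_bot_of_dF_eq_zero [LocallyOfFinitePresentation f] (F : X.Modules)
    (hF : CohB1.IsFP F) (x : X) (h : dF f F x = 0) : mF f F x ≠ ⊥ := by
  intro hbot
  have hs : Subsingleton (((Scheme.Modules.pullback (f.fiberι (f.base x))).obj F).presheaf.stalk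
      (f.asFiber x)) := by
    rw [← Module.supportDim_eq_bot_iff_subsingleton
      ((f.fiber (f.base x)).presheaf.stalk (f.asFiber x))]
    exact hbot
  have : dF f F x = ⊤ := depth_eq_top_of_subsingleton
  rw [h] at this
  exact absurd this (by simp)

end

-- ===== part NmM =====
section

open AlgebraicGeometry CategoryTheory Limits IsLocalRing TensorProduct Topology
open Groth.Agent.Lib.Helper28 Groth.Agent.Lib.Helper5 Groth.Agent.Lib.Helper5.GenDepth
open Groth.Agent.Lib.H9ModFibAlg Groth.Agent.Lib.H9ModFibSch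
open Groth.Agent.Lib.Helper4.DimFormula Groth.Agent.Lib.Helper4.VarDim Groth.Agent.Lib.Helper4.FibDim
open Groth.Agent.Lib.H9RectDepthAlg Groth.Agent.Lib.H9RectDepthSch
open Groth.Agent.Lib.H9FibNumerics Groth.Agent.Lib.H9FibNumericsSch

/-- the pairs of depth `< k`. -/
def SSk (k : ℕ) : Set (ℕ∞ × ℕ) := {ij | ij.1 + 1 ≤ (k : ℕ∞)}

theorem sDown_SSk (k : ℕ) : SDown (SSk k) := by
  intro i i' j j' hi hjj' hle
  change i + 1 ≤ (k : ℕ∞) at hi
  change i' + 1 ≤ (k : ℕ∞)
  have h1 : i' + (j' : ℕ∞) ≤ i + (j' : ℕ∞) :=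
    le_trans hle (add_le_add_right (by exact_mod_cast hjj') i)
  have h2 : i' ≤ i := (ENat.add_le_add_iff_right (ENat.coe_ne_top j')).mp h1
  exact le_trans (add_le_add_left h2 1) hi

theorem sFin_SSk (k : ℕ) : SFin (SSk k) := by
  intro i j hi
  change i + 1 ≤ (k : ℕ∞) at hi
  intro h
  rw [h] at hi
  simp at hi

theorem sk_arith (k : ℕ) (m : WithBot ℕ∞) (d : ℕ∞) (j : ℕ) :
    min (k : WithBot ℕ∞) m ≤ ((d : ℕ∞) : WithBot ℕ∞) ↔
      ¬ ((True → ¬ m ≤ ((d : ℕ∞) : WithBot ℕ∞) + (0 : ℕ)) ∧ (d, j) ∈ SSk k) := by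
  change _ ↔ ¬ ((True → ¬ m ≤ ((d : ℕ∞) : WithBot ℕ∞) + (0 : ℕ)) ∧ d + 1 ≤ (k : ℕ∞))
  rw [min_le_iff, Nat.cast_zero, add_zero]
  have hk : ((k : ℕ) : WithBot ℕ∞) ≤ ((d : ℕ∞) : WithBot ℕ∞) ↔ ¬ (d + 1 ≤ (k : ℕ∞)) := by
    have : ((k : ℕ) : WithBot ℕ∞) = (((k : ℕ) : ℕ∞) : WithBot ℕ∞) := rfl
    rw [this, WithBot.coe_le_coe]
    induction d using ENat.recTopCoe with
    | top => simp
    | coe d =>
      have h1 : ((d : ℕ∞) + 1 ≤ (k : ℕ∞)) ↔ d + 1 ≤ k := by exact_mod_cast Iff.rfl
      rw [h1, Nat.cast_le]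
      omega
  rw [hk]
  tauto

variable {X Y : Scheme.{u}} (f : X ⟶ Y)

/-- the `(S_k)` locus of the fibre module, numerically. -/
theorem hasSk_fiber_iff_good [LocallyOfFinitePresentation f] (F : X.Modules) (hF : CohB1.IsFP F)
    (k : ℕ) (x : X) :
    LocCoh.HasSk k ((f.fiber (f.base x)).presheaf.stalk (f.asFiber x))
        (((Scheme.Modules.pullback (f.fiberι (f.base x))).obj F).presheaf.stalk (f.asFiber x)) ↔
      ∀ x' : X, f x' = f x → x' ⤳ x →
        ¬ ((True → ¬ mF f F x' ≤ ((dF f F x' : ℕ∞) : WithBot ℕ∞) + (0 : ℕ)) ∧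
          (dF f F x', ptTrdeg f x') ∈ SSk k) := by
  rw [hasSk_fiber_iff f F hF k x]
  refine forall_congr' fun x' => forall_congr' fun _ => forall_congr' fun _ => ?_
  exact sk_arith k (mF f F x') (dF f F x') (ptTrdeg f x')

/-- all associated points of the fibre through `x` generizing `x` have dimension `d`. -/
theorem assDim_singleton_iff (F : X.Modules) (d : ℕ) (x : X) :
    (∀ x' : X, f x' = f x → x' ⤳ x →
        ¬ ((False → ¬ mF f F x' ≤ ((dF f F x' : ℕ∞) : WithBot ℕ∞) + (0 : ℕ)) ∧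
          (dF f F x', ptTrdeg f x') ∈ SPhi {d})) ↔
      ∀ x' : X, f x' = f x → x' ⤳ x → dF f F x' = 0 → ptTrdeg f x' = d := by
  refine forall_congr' fun x' => forall_congr' fun _ => forall_congr' fun _ => ?_
  constructor
  · intro h h0
    by_contra hne
    exact h ⟨fun hf => hf.elim, h0, by simpa using hne⟩
  · rintro h ⟨-, h0, hn⟩
    exact hn (by simpa using h h0)

theorem natCast_withBot_inj {a b : ℕ} (h : ((a : ℕ) : WithBot ℕ∞) = ((b : ℕ) : WithBot ℕ∞)) :
    a = b := by
  have h1 : (((a : ℕ) : ℕ∞) : WithBot ℕ∞) = (((b : ℕ) : ℕ∞) : WithBot ℕ∞) := h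
  exact_mod_cast WithBot.coe_inj.mp h1

set_option maxHeartbeats 1600000 in
/-- **pointwise form of EGA IV 12.1.1 (viii)**. -/
theorem equidim_sk_iff [LocallyOfFinitePresentation f] (F : X.Modules) (hF : CohB1.IsFP F)
    (k : ℕ) (hk : 1 ≤ k) (x : X) :
    (EGA4.IsEquidimModule ((f.fiber (f.base x)).presheaf.stalk (f.asFiber x))
        (((Scheme.Modules.pullback (f.fiberι (f.base x))).obj F).presheaf.stalk (f.asFiber x)) ∧
      LocCoh.HasSk k ((f.fiber (f.base x)).presheaf.stalk (f.asFiber x))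
        (((Scheme.Modules.pullback (f.fiberι (f.base x))).obj F).presheaf.stalk (f.asFiber x))) ↔
      (∀ x' : X, f x' = f x → x' ⤳ x →
        ¬ ((True → ¬ mF f F x' ≤ ((dF f F x' : ℕ∞) : WithBot ℕ∞) + (0 : ℕ)) ∧
          (dF f F x', ptTrdeg f x') ∈ SSk k)) ∧
      ∃ d : ℕ, ∀ x' : X, f x' = f x → x' ⤳ x →
        ¬ ((False → ¬ mF f F x' ≤ ((dF f F x' : ℕ∞) : WithBot ℕ∞) + (0 : ℕ)) ∧
          (dF f F x', ptTrdeg f x') ∈ SPhi {d}) := by
  rw [← hasSk_fiber_iff_good f F hF k x]
  simp_rw [assDim_singleton_iff f F _ x]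
  rw [isEquidim_fiber_iff f F hF x]
  constructor
  · rintro ⟨heq, hsk⟩
    refine ⟨hsk, ?_⟩
    have hsk' := (hasSk_fiber_iff f F hF k x).mp hsk
    -- depth zero implies dimension zero under `(S_1)`
    have hm0 : ∀ x' : X, f x' = f x → x' ⤳ x → dF f F x' = 0 → mF f F x' = 0 := by
      intro x' hfx' hspec h0
      have h1 := hsk' x' hfx' hspec
      rw [h0, min_le_iff] at h1
      rcases h1 with h1 | h1
      · exfalso
        have : ((k : ℕ) : WithBot ℕ∞) = (((k : ℕ) : ℕ∞) : WithBot ℕ∞) := rfl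
        rw [this] at h1
        have h2 : ((k : ℕ) : ℕ∞) ≤ 0 := WithBot.coe_le_coe.mp h1
        have h3 : k ≤ 0 := by exact_mod_cast h2
        omega
      · have hne := mF_ne_bot_of_dF_eq_zero f F hF x' h0
        obtain ⟨m, hm⟩ := WithBot.ne_bot_iff_exists.mp hne
        rw [← hm] at h1 ⊢
        have h2 : m ≤ 0 := WithBot.coe_le_coe.mp h1
        rw [nonpos_iff_eq_zero.mp h2]
        rfl
    by_cases hex : ∃ x₀ : X, f x₀ = f x ∧ x₀ ⤳ x ∧ dF f F x₀ = 0
    · obtain ⟨x₀, hfx₀, hspec₀, h0₀⟩ := hex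
      refine ⟨ptTrdeg f x₀, fun x' hfx' hspec h0 => ?_⟩
      have e1 := heq x' hfx' hspec (hm0 x' hfx' hspec h0)
      have e2 := heq x₀ hfx₀ hspec₀ (hm0 x₀ hfx₀ hspec₀ h0₀)
      exact natCast_withBot_inj (e1.trans e2.symm)
    · refine ⟨0, fun x' hfx' hspec h0 => ?_⟩
      exact absurd ⟨x', hfx', hspec, h0⟩ hex
  · rintro ⟨hsk, d, hd⟩
    refine ⟨?_, hsk⟩
    intro x' hfx' hspec hm
    have h0 := dF_eq_zero_of_mF_eq_zero f F hF x' hm
    have hx : mF f F x ≠ ⊥ := by
      apply mF_ne_bot_of_specializes f F hF x x' hfx' hspec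
      rw [hm]
      exact WithBot.coe_ne_bot
    obtain ⟨x₀, hfx₀, hspec₀, hm₀, ht₀⟩ := exists_min_gen f F hF x hx
    have h0₀ := dF_eq_zero_of_mF_eq_zero f F hF x₀ hm₀
    rw [← ht₀, hd x' hfx' hspec h0, hd x₀ hfx₀ hspec₀ h0₀]

/-- **EGA IV 12.1.1 (viii)**: S4984. -/
theorem isOpen_equidim_sk [LocallyOfFinitePresentation f] (F : X.Modules) (hF : CohB1.IsFP F)
    (hflat : FlatMod.IsFlatOver f F) (k : ℕ) (hk : 1 ≤ k) :
    IsOpen {x : X | EGA4.IsEquidimModule ((f.fiber (f.base x)).presheaf.stalk (f.asFiber x))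
        (((Scheme.Modules.pullback (f.fiberι (f.base x))).obj F).presheaf.stalk (f.asFiber x)) ∧
      LocCoh.HasSk k ((f.fiber (f.base x)).presheaf.stalk (f.asFiber x))
        (((Scheme.Modules.pullback (f.fiberι (f.base x))).obj F).presheaf.stalk (f.asFiber x))} := by
  have h1 := isOpen_good f F hF hflat True (sDown_SSk k) (sFin_SSk k)
  have h2 : ∀ d : ℕ, IsOpen {x : X | ∀ x' : X, f x' = f x → x' ⤳ x →
        ¬ ((False → ¬ mF f F x' ≤ ((dF f F x' : ℕ∞) : WithBot ℕ∞) + (0 : ℕ)) ∧
          (dF f F x', ptTrdeg f x') ∈ SPhi {d})} :=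
    fun d => isOpen_good f F hF hflat False (sDown_SPhi {d}) (sFin_SPhi {d})
  have h3 := h1.inter (isOpen_iUnion h2)
  convert h3 using 1
  ext x
  simp only [Set.mem_setOf_eq, Set.mem_inter_iff, Set.mem_iUnion]
  exact equidim_sk_iff f F hF k hk x

/-- **EGA IV 12.2.1 (viii)**: S5919. -/
theorem isOpen_base_equidim_sk [IsProper f] [LocallyOfFinitePresentation f] (F : X.Modules)
    (hF : CohB1.IsFP F) (hflat : FlatMod.IsFlatOver f F) (k : ℕ) (hk : 1 ≤ k) :
    IsOpen {y : Y | ∀ x : ↥(f.fiber y),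
      EGA4.IsEquidimModule ((f.fiber y).presheaf.stalk x)
        (((Scheme.Modules.pullback (f.fiberι y)).obj F).presheaf.stalk x) ∧
      LocCoh.HasSk k ((f.fiber y).presheaf.stalk x)
        (((Scheme.Modules.pullback (f.fiberι y)).obj F).presheaf.stalk x)} :=
  isOpen_forall_fiber f (fun y z =>
    EGA4.IsEquidimModule ((f.fiber y).presheaf.stalk z)
        (((Scheme.Modules.pullback (f.fiberι y)).obj F).presheaf.stalk z) ∧
      LocCoh.HasSk k ((f.fiber y).presheaf.stalk z)
        (((Scheme.Modules.pullback (f.fiberι y)).obj F).presheaf.stalk z))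
    (isOpen_equidim_sk f F hF hflat k hk)

end

end Groth.Agent.Lib.H9FibSkEquidim
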