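import Mathlib
import Groth.Agent.Lib.H9FibSkEquidim
import Groth.Agent.Lib.Helper20SuppBC
import Groth.Agent.Lib.Helper18Sch4
import Groth.Agent.Lib.Helper14IrrComp

/-! helper9: openness of images of relative supports for flat f.p. modules (flat going-down for supports), fibrewise component dimensions of Supp F_y, EGA IV 12.1.1-type base loci (S4965, S4966). -/

set_option autoImplicit false
set_option linter.style.haveILetI false
set_option linter.unusedSimpArgs false
set_option linter.unusedVariables false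
universe u

namespace Groth.Agent.Lib.H9FibSuppOpen

-- ===== part NmN =====
section

open TensorProduct Topology
open Groth.Agent.Lib.Helper28 Groth.Agent.Lib.Helper5 Groth.Agent.Lib.Helper5.GenDepth
open Groth.Agent.Lib.H9ModFibAlg Groth.Agent.Lib.H9RectDepthAlg Groth.Agent.Lib.H9FibNumerics
open Groth.Agent.Lib.Helper5.CodepthOpen Groth.Agent.Lib.H9FibSkEquidim

section Supp

variable {A B : Type u} [CommRing A] [CommRing B] [Algebra A B] [Algebra.FiniteType A B]
  (M : Type u) [AddCommGroup M] [Module B M] [Module.Finite B M]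

attribute [local instance] Algebra.TensorProduct.rightAlgebra

/-- the support of the fibre modules is the support of the module. -/
theorem fdm_ne_bot_iff (q : Ideal B) [hq : q.IsPrime] :
    fdm A M q ≠ ⊥ ↔ (⟨q, hq⟩ : PrimeSpectrum B) ∈ Module.support B M := by
  set p : Ideal A := q.under A with hp
  haveI : p.IsPrime := Ideal.comap_isPrime _ _
  obtain ⟨X', hX'⟩ := exists_fibMap_eq p q rfl
  obtain ⟨-, n2⟩ := fibMap_numerics M p X'
  obtain ⟨-, c2⟩ := fdep_congr (A := A) M hX'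
  rw [← c2, n2, dm_ne_bot_iff]
  have h := Groth.Agent.Lib.Helper20.SuppBC.mem_support_baseChange_iff (A := B) (B := p.Fiber B)
    (N := M) ⟨X'.asIdeal, X'.2⟩
  rw [h]
  have : PrimeSpectrum.comap (algebraMap B (p.Fiber B)) ⟨X'.asIdeal, X'.2⟩ = ⟨q, hq⟩ :=
    PrimeSpectrum.ext hX'
  rw [this]

end Supp

section Noeth

variable {A B : Type u} [CommRing A] [CommRing B] [Algebra A B] [IsNoetherianRing A]
  [IsNoetherianRing B] (M : Type u) [AddCommGroup M] [Module B M] [Module A M]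
  [IsScalarTower A B M] [Module.Finite B M] [Module.Flat A M]

omit [IsNoetherianRing A] [IsNoetherianRing B] [Module.Finite B M] [Module.Flat A M] in
/-- `M ⊗ X` is a quotient of `M` when `X` is cyclic. -/
theorem support_tensor_quot_subset (I : Ideal A) :
    Module.support B (M ⊗[A] (A ⧸ I)) ⊆ Module.support B M := by
  let g : M →ₗ[B] M ⊗[A] (A ⧸ I) :=
    { toFun := fun m => m ⊗ₜ[A] (1 : A ⧸ I)
      map_add' := fun m m' => TensorProduct.add_tmul m m' _
      map_smul' := fun b m => rfl }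
  apply Module.support_subset_of_surjective g
  intro t
  induction t using TensorProduct.induction_on with
  | zero => exact ⟨0, map_zero g⟩
  | tmul m x =>
    obtain ⟨a, rfl⟩ := Ideal.Quotient.mk_surjective x
    refine ⟨a • m, ?_⟩
    change (a • m) ⊗ₜ[A] (1 : A ⧸ I) = m ⊗ₜ[A] (Ideal.Quotient.mk I a)
    rw [TensorProduct.smul_tmul]
    congr 1
    rw [Algebra.smul_def, mul_one]
    rfl
  | add x y hx hy =>
    obtain ⟨m, rfl⟩ := hx
    obtain ⟨m', rfl⟩ := hy
    exact ⟨m + m', map_add g m m'⟩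

theorem withBot_add_eq_zero {a b : WithBot ℕ∞} (h : a + b = 0) : a = 0 ∧ b = 0 := by
  induction a using WithBot.recBotCoe with
  | bot => rw [WithBot.bot_add] at h; exact absurd h (by simp)
  | coe a =>
    induction b using WithBot.recBotCoe with
    | bot => rw [WithBot.add_bot] at h; exact absurd h (by simp)
    | coe b =>
      have h1 : ((a : ℕ∞) : WithBot ℕ∞) + ((b : ℕ∞) : WithBot ℕ∞) = ((a + b : ℕ∞) : WithBot ℕ∞) := rfl
      rw [h1] at h
      have h2 : a + b = 0 := by exact_mod_cast h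
      obtain ⟨ha, hb⟩ := add_eq_zero.mp h2
      rw [ha, hb]
      exact ⟨rfl, rfl⟩

set_option synthInstance.maxHeartbeats 400000 in
set_option maxHeartbeats 3200000 in
/-- **going down for the support of a flat module** (Noetherian case). -/
theorem exists_gen_support [Algebra.FiniteType A B] (q : Ideal B) [hq : q.IsPrime]
    (hqM : (⟨q, hq⟩ : PrimeSpectrum B) ∈ Module.support B M)
    (p' : Ideal A) [hp' : p'.IsPrime] (hle : p' ≤ q.under A) :
    ∃ (Q : Ideal B) (hQ : Q.IsPrime), (⟨Q, hQ⟩ : PrimeSpectrum B) ∈ Module.support B M ∧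
      Q ≤ q ∧ Q.under A = p' := by
  haveI : Module.Finite B (M ⊗[A] (A ⧸ p')) :=
    Groth.Agent.Lib.Helper5.TensorDim.finite_tensor A B (A ⧸ p') M
  obtain ⟨-, h2⟩ := fiber_shift (A := A) M q (A ⧸ p')
  have hann : Module.annihilator A (A ⧸ p') = p' := Ideal.annihilator_quotient
  have h3 : dm (q.comap (algebraMap A B)) (A ⧸ p') ≠ ⊥ := by
    rw [dm_ne_bot_iff, Module.support_eq_zeroLocus, hann]
    exact (PrimeSpectrum.mem_zeroLocus _ _).mpr hle
  have h4 : fdm A M q ≠ ⊥ := (fdm_ne_bot_iff (A := A) M q).mpr hqM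
  have h5 : dm q (M ⊗[A] (A ⧸ p')) ≠ ⊥ := by
    rw [h2]
    obtain ⟨a, ha⟩ := WithBot.ne_bot_iff_exists.mp h3
    obtain ⟨b, hb⟩ := WithBot.ne_bot_iff_exists.mp h4
    rw [← ha, ← hb]
    exact WithBot.coe_ne_bot
  rw [dm_ne_bot_iff] at h5
  obtain ⟨Q, hQ, hQq, hQ0, -⟩ := exists_min_height_eq (M ⊗[A] (A ⧸ p')) q h5
  obtain ⟨-, k2⟩ := fiber_shift (A := A) M Q (A ⧸ p')
  rw [hQ0] at k2
  obtain ⟨k3, k4⟩ := withBot_add_eq_zero k2.symm
  haveI : (Q.comap (algebraMap A B)).IsPrime := Ideal.comap_isPrime _ _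
  have k5 := (mem_minimalPrimes_ann_iff (A ⧸ p') (Q.comap (algebraMap A B))).mpr k3
  rw [hann, Ideal.minimalPrimes_eq_subsingleton_self] at k5
  refine ⟨Q, hQ, ?_, hQq, k5⟩
  apply support_tensor_quot_subset M p'
  rw [← dm_ne_bot_iff, hQ0]
  exact WithBot.coe_ne_bot

/-- the image of the support of a flat finite module is open (Noetherian case). -/
theorem isOpen_image_support_noeth [Algebra.FiniteType A B] :
    IsOpen (PrimeSpectrum.comap (algebraMap A B) '' Module.support B M) := by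
  apply PrimeSpectrum.isOpen_of_stableUnderGeneralization_of_isConstructible
  · rintro p p' hspec ⟨q, hq, rfl⟩
    rw [← PrimeSpectrum.le_iff_specializes] at hspec
    obtain ⟨Q, hQ, hQM, -, hQA⟩ := exists_gen_support M q.asIdeal hq p'.asIdeal hspec
    exact ⟨⟨Q, hQ⟩, hQM, PrimeSpectrum.ext hQA⟩
  · have hfp : (algebraMap A B).FinitePresentation := by
      haveI : Algebra.FinitePresentation A B :=
        (Algebra.FinitePresentation.of_finiteType (R := A)).mp inferInstance
      exact RingHom.finitePresentation_algebraMap.mpr inferInstance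
    apply PrimeSpectrum.isConstructible_comap_image hfp
    exact (Groth.Agent.Lib.Helper5.LocusGeneric.IsOpen.isConstructible_of_noetherianSpace
      (Module.isClosed_support (R := B) (M := M)).isOpen_compl).of_compl

end Noeth

section BC

variable {A B A' B' : Type u} [CommRing A] [CommRing B] [CommRing A'] [CommRing B']
  [Algebra A B] [Algebra A A'] [Algebra B B'] [Algebra A' B'] [Algebra A B']
  [IsScalarTower A B B'] [IsScalarTower A A' B'] [Algebra.IsPushout A B A' B']

/-- primes of a pushout over a compatible pair of primes. -/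
theorem exists_prime_pushout (q : Ideal B) [q.IsPrime] (p' : Ideal A') [p'.IsPrime]
    (h : q.comap (algebraMap A B) = p'.comap (algebraMap A A')) :
    ∃ (q' : Ideal B') (_ : q'.IsPrime), q'.comap (algebraMap B B') = q ∧
      q'.comap (algebraMap A' B') = p' := by
  obtain ⟨𝔮, h𝔮, h1, h2⟩ := Groth.Agent.Lib.Helper18Sch4.exists_prime_tensor (R := A) q p' h
  haveI := h𝔮
  let e := Algebra.IsPushout.equiv A B A' B'
  refine ⟨𝔮.comap (e.symm : B' →+* B ⊗[A] A'), Ideal.comap_isPrime _ _, ?_, ?_⟩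
  · ext b
    rw [Ideal.mem_comap, Ideal.mem_comap]
    change e.symm (algebraMap B B' b) ∈ 𝔮 ↔ _
    rw [Algebra.IsPushout.equiv_symm_algebraMap_left]
    exact h1 b
  · ext a
    rw [Ideal.mem_comap, Ideal.mem_comap]
    change e.symm (algebraMap A' B' a) ∈ 𝔮 ↔ _
    rw [Algebra.IsPushout.equiv_symm_algebraMap_right]
    exact h2 a

/-- **base change of the image of the support.** -/
theorem image_support_baseChange
    (M : Type u) [AddCommGroup M] [Module B M] [Module.Finite B M]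
    (M' : Type u) [AddCommGroup M'] [Module B' M'] [Module B M'] [IsScalarTower B B' M']
    (f : M →ₗ[B] M') (hf : IsBaseChange B' f) :
    PrimeSpectrum.comap (algebraMap A' B') '' Module.support B' M' =
      PrimeSpectrum.comap (algebraMap A A') ⁻¹'
        (PrimeSpectrum.comap (algebraMap A B) '' Module.support B M) := by
  have hsupp : ∀ q' : PrimeSpectrum B', q' ∈ Module.support B' M' ↔
      q'.comap (algebraMap B B') ∈ Module.support B M := by
    intro q'
    rw [← Groth.Agent.Lib.Helper20.SuppBC.mem_support_baseChange_iff (A := B) (B := B') (N := M) q',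
      LinearEquiv.support_eq hf.equiv]
  ext p'
  constructor
  · rintro ⟨q', hq', rfl⟩
    refine ⟨q'.comap (algebraMap B B'), (hsupp q').mp hq', ?_⟩
    apply PrimeSpectrum.ext
    change ((q'.asIdeal.comap (algebraMap B B')).comap (algebraMap A B)) =
      ((q'.asIdeal.comap (algebraMap A' B')).comap (algebraMap A A'))
    rw [Ideal.comap_comap, Ideal.comap_comap, ← IsScalarTower.algebraMap_eq,
      ← IsScalarTower.algebraMap_eq]
  · rintro ⟨q, hq, hqp⟩
    have h : q.asIdeal.comap (algebraMap A B) = p'.asIdeal.comap (algebraMap A A') :=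
      congrArg PrimeSpectrum.asIdeal hqp
    obtain ⟨q', hq'p, hq'B, hq'A⟩ := exists_prime_pushout (B' := B') q.asIdeal p'.asIdeal h
    refine ⟨⟨q', hq'p⟩, ?_, PrimeSpectrum.ext hq'A⟩
    rw [hsupp]
    have : PrimeSpectrum.comap (algebraMap B B') ⟨q', hq'p⟩ = q := PrimeSpectrum.ext hq'B
    rw [this]
    exact hq

end BC

set_option synthInstance.maxHeartbeats 400000 in
set_option maxHeartbeats 1600000 in
/-- **EGA IV 2.4.6 for modules**: for `B` of finite presentation over `A` and `M` a finitely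
presented `B`-module flat over `A`, the image of the support of `M` in `Spec A` is open. -/
theorem isOpen_image_support_fp
    {A B : Type u} [CommRing A] [CommRing B] [Algebra A B]
    [Algebra.FinitePresentation A B] (M : Type u) [AddCommGroup M] [Module B M] [Module A M]
    [IsScalarTower A B M] [Module.FinitePresentation B M] [Module.Flat A M] :
    IsOpen (PrimeSpectrum.comap (algebraMap A B) '' Module.support B M) := by
  obtain ⟨A₀, i1, i2, B₀, i3, i4, i5, i6, i7, i8, M₀, i9, i10, i11, i12, i13, i14, f, h1, h2, h3,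
    h4, h5, h6⟩ := Groth.Agent.Lib.Helper3.FlatModelMod.exists_flat_module_model A B M
  haveI := h2
  haveI := h3
  haveI := h4
  haveI : IsNoetherianRing A₀ := Algebra.FiniteType.isNoetherianRing ℤ A₀
  haveI : IsNoetherianRing B₀ := Algebra.FiniteType.isNoetherianRing A₀ B₀
  have hop := isOpen_image_support_noeth (A := A₀) (B := B₀) M₀
  haveI hpo : Algebra.IsPushout A₀ B₀ A B := Algebra.IsPushout.symm h5
  rw [image_support_baseChange (A := A₀) (B := B₀) (A' := A) (B' := B) M₀ M f h6]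
  exact hop.preimage (PrimeSpectrum.continuous_comap (algebraMap A₀ A))

end

-- ===== part NmO =====
section

open AlgebraicGeometry CategoryTheory Limits IsLocalRing TensorProduct Topology
open Groth.Agent.Lib.Helper28 Groth.Agent.Lib.Helper5 Groth.Agent.Lib.Helper5.GenDepth
open Groth.Agent.Lib.H9ModFibAlg Groth.Agent.Lib.H9ModFibSch
open Groth.Agent.Lib.Helper4.DimFormula Groth.Agent.Lib.Helper4.VarDim Groth.Agent.Lib.Helper4.FibDim
open Groth.Agent.Lib.H9RectDepthAlg Groth.Agent.Lib.H9RectDepthSch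
open Groth.Agent.Lib.H9FibNumerics Groth.Agent.Lib.H9FibNumericsSch
open Groth.Agent.Lib.H9FibSkEquidim
open Groth.Agent.Lib.Helper2.FlatOver Groth.Agent.Lib.Helper2.FinPres

variable {X Y : Scheme.{u}} (f : X ⟶ Y)

set_option synthInstance.maxHeartbeats 400000 in
set_option maxHeartbeats 3200000 in
/-- **EGA IV 2.4.6 for modules, scheme form**: the restriction of `f` to the support of a flat
finitely presented module is an open map. -/
theorem isOpen_image_support [LocallyOfFinitePresentation f] (F : X.Modules)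
    (hF : CohB1.IsFP F) (hflat : FlatMod.IsFlatOver f F) (W : Set X) (hW : IsOpen W) :
    IsOpen (f '' (W ∩ {x : X | mF f F x ≠ ⊥})) := by
  haveI : F.IsQuasicoherent := Groth.Agent.Helper18Strict.isQCoh_of_isFP F hF
  haveI : SheafOfModules.IsFinitePresentation (R := X.ringCatSheaf) F := hF
  rw [isOpen_iff_forall_mem_open]
  rintro _ ⟨x, ⟨hxW, hxS⟩, rfl⟩
  obtain ⟨V, hV, hxV⟩ : ∃ V : Y.Opens, IsAffineOpen V ∧ f.base x ∈ V := by
    obtain ⟨_, ⟨V, hV, rfl⟩, hxV, -⟩ :=
      Y.isBasis_affineOpens.exists_subset_of_mem_open (Set.mem_univ (f.base x)) isOpen_univ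
    exact ⟨V, hV, hxV⟩
  obtain ⟨U, hU, hxU, hUWV, hfpM⟩ :=
    exists_affine_nhds_finitePresentation F x ((⟨W, hW⟩ : X.Opens) ⊓ f ⁻¹ᵁ V) ⟨hxW, hxV⟩
  have hUW : ∀ x' ∈ U, x' ∈ W := fun x' hx' => (hUWV hx').1
  have hUV : U ≤ f ⁻¹ᵁ V := fun x' hx' => (hUWV hx').2
  have hfp : (f.appLE V U hUV).hom.FinitePresentation :=
    HasRingHomProperty.appLE (P := @LocallyOfFinitePresentation) f inferInstance ⟨V, hV⟩ ⟨U, hU⟩ hUV
  have hft : (f.appLE V U hUV).hom.FiniteType := RingHom.FiniteType.of_finitePresentation hfp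
  letI mVF : Module Γ(Y, V) Γ(F, U) := Module.compHom Γ(F, U) (f.appLE V U hUV).hom
  letI aVU : Algebra Γ(Y, V) Γ(X, U) := (f.appLE V U hUV).hom.toAlgebra
  haveI t1 : IsScalarTower Γ(Y, V) Γ(X, U) Γ(F, U) := IsScalarTower.of_algebraMap_smul (fun _ _ => rfl)
  haveI : Algebra.FinitePresentation Γ(Y, V) Γ(X, U) := hfp
  haveI : Algebra.FiniteType Γ(Y, V) Γ(X, U) := hft
  haveI hflM : Module.Flat Γ(Y, V) Γ(F, U) :=
    flat_sections_of_isFlatOverAt f F hU hV hUV (fun x' _ => hflat x')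
  have hop := isOpen_image_support_fp (A := Γ(Y, V)) (B := Γ(X, U)) Γ(F, U)
  set T : Set (PrimeSpectrum Γ(Y, V)) :=
    PrimeSpectrum.comap (algebraMap Γ(Y, V) Γ(X, U)) '' Module.support Γ(X, U) Γ(F, U) with hT
  have hcont : Continuous (fun y : V => hV.primeIdealOf y) := hV.isoSpec.hom.continuous
  -- membership in the support, in the chart
  have hsupp : ∀ (x' : X) (hx' : x' ∈ U), mF f F x' ≠ ⊥ ↔
      hU.primeIdealOf ⟨x', hx'⟩ ∈ Module.support Γ(X, U) Γ(F, U) := by
    intro x' hx'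
    obtain ⟨-, m2, -⟩ := fiber_numerics f hU hV hUV F hft x' hx'
    rw [m2]
    exact fdm_ne_bot_iff (A := Γ(Y, V)) Γ(F, U) (hU.primeIdealOf ⟨x', hx'⟩).asIdeal
  have hcomap : ∀ (x' : X) (hx' : x' ∈ U),
      PrimeSpectrum.comap (algebraMap Γ(Y, V) Γ(X, U)) (hU.primeIdealOf ⟨x', hx'⟩) =
        hV.primeIdealOf ⟨f x', hUV hx'⟩ := by
    intro x' hx'
    exact PrimeSpectrum.ext (primeIdealOf_comap_appLE f hU hV hUV x' hx')
  refine ⟨Subtype.val '' ((fun y : V => hV.primeIdealOf y) ⁻¹' T), ?_,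
    V.isOpen.isOpenMap_subtype_val _ (hop.preimage hcont), ?_⟩
  · rintro _ ⟨⟨y', hy'V⟩, ⟨q, hq, hqy'⟩, rfl⟩
    obtain ⟨⟨x', hx'U⟩, rfl⟩ := hU.isoSpec.hom.homeomorph.surjective q
    change hU.primeIdealOf ⟨x', hx'U⟩ ∈ _ at hq
    change PrimeSpectrum.comap _ (hU.primeIdealOf ⟨x', hx'U⟩) = _ at hqy'
    rw [hcomap x' hx'U] at hqy'
    have h2 := hV.isoSpec.hom.isOpenEmbedding.injective hqy'
    have h3 : f x' = y' := congrArg Subtype.val h2
    exact ⟨x', ⟨hUW x' hx'U, (hsupp x' hx'U).mpr hq⟩, h3⟩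
  · refine ⟨⟨f x, hxV⟩, ⟨hU.primeIdealOf ⟨x, hxU⟩, (hsupp x hxU).mp hxS, ?_⟩, rfl⟩
    exact hcomap x hxU

end

-- ===== part NmP =====
section

open AlgebraicGeometry CategoryTheory Limits IsLocalRing TensorProduct Topology
open Groth.Agent.Lib.Helper28 Groth.Agent.Lib.Helper5 Groth.Agent.Lib.Helper5.GenDepth
open Groth.Agent.Lib.H9ModFibAlg Groth.Agent.Lib.H9ModFibSch
open Groth.Agent.Lib.Helper4.DimFormula Groth.Agent.Lib.Helper4.VarDim Groth.Agent.Lib.Helper4.FibDim
open Groth.Agent.Lib.H9RectDepthAlg Groth.Agent.Lib.H9RectDepthSch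
open Groth.Agent.Lib.H9FibNumerics Groth.Agent.Lib.H9FibNumericsSch
open Groth.Agent.Lib.H9FibSkEquidim
open Groth.Agent.Lib.Helper2.FlatOver Groth.Agent.Lib.Helper2.FinPres

section Alg

variable {A B : Type u} [CommRing A] [CommRing B] [Algebra A B] [Algebra.FiniteType A B]
  (M : Type u) [AddCommGroup M] [Module B M] [Module.Finite B M]

attribute [local instance] Algebra.TensorProduct.rightAlgebra

/-- a point where the fibre module has dimension zero has no proper fibrewise generization in the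
support. -/
theorem eq_of_fdm_eq_zero (x z : Ideal B) [x.IsPrime] [z.IsPrime] (hzx : z ≤ x)
    (hzA : z.under A = x.under A) (hx0 : fdm A M x = 0) (hz : fdm A M z ≠ ⊥) : z = x := by
  set p : Ideal A := x.under A with hp
  haveI : p.IsPrime := Ideal.comap_isPrime _ _
  obtain ⟨X', hX'⟩ := exists_fibMap_eq p x rfl
  obtain ⟨Z', hZ'⟩ := exists_fibMap_eq p z hzA
  obtain ⟨hN, -⟩ := fdep_fdm_eq_dep_dm M p X'.asIdeal
  haveI := hN
  obtain ⟨-, n2⟩ := fibMap_numerics M p X'
  obtain ⟨-, m2⟩ := fibMap_numerics M p Z'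
  obtain ⟨-, c2⟩ := fdep_congr (A := A) M hX'
  obtain ⟨-, d2⟩ := fdep_congr (A := A) M hZ'
  have hle : Z' ≤ X' := by
    rw [← fibMap_le_iff, hZ', hX']
    exact hzx
  rw [← c2, n2] at hx0
  rw [← d2, m2, dm_ne_bot_iff] at hz
  have hmin := (mem_minimalPrimes_ann_iff (p.Fiber B ⊗[B] M) X'.asIdeal).mpr hx0
  have hann : Module.annihilator (p.Fiber B) (p.Fiber B ⊗[B] M) ≤ Z'.asIdeal := by
    rw [Module.support_eq_zeroLocus] at hz
    exact (PrimeSpectrum.mem_zeroLocus _ _).mp hz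
  have h1 : X'.asIdeal ≤ Z'.asIdeal := hmin.2 ⟨Z'.2, hann⟩ hle
  have h2 : Z' = X' := le_antisymm hle h1
  rw [← hZ', ← hX', h2]

end Alg

variable {X Y : Scheme.{u}} (f : X ⟶ Y)

set_option synthInstance.maxHeartbeats 400000 in
set_option maxHeartbeats 3200000 in
theorem eq_of_mF_eq_zero [LocallyOfFinitePresentation f] (F : X.Modules) (hF : CohB1.IsFP F)
    (x x' : X) (hfx : f x' = f x) (hspec : x' ⤳ x) (hx0 : mF f F x = 0) (hx' : mF f F x' ≠ ⊥) :
    x' = x := by
  haveI : F.IsQuasicoherent := Groth.Agent.Helper18Strict.isQCoh_of_isFP F hF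
  obtain ⟨U, hU, V, hV, hUV, hxU, hfp, hfpM⟩ := exists_chart f F hF x
  have hft : (f.appLE V U hUV).hom.FiniteType := RingHom.FiniteType.of_finitePresentation hfp
  haveI := hfpM
  letI aVU : Algebra Γ(Y, V) Γ(X, U) := (f.appLE V U hUV).hom.toAlgebra
  haveI : Algebra.FiniteType Γ(Y, V) Γ(X, U) := hft
  have hx'U : x' ∈ U := hspec.mem_open U.isOpen hxU
  obtain ⟨-, n2, -⟩ := fiber_numerics f hU hV hUV F hft x hxU
  obtain ⟨-, m2, -⟩ := fiber_numerics f hU hV hUV F hft x' hx'U
  rw [n2] at hx0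
  rw [m2] at hx'
  have h := eq_of_fdm_eq_zero (A := Γ(Y, V)) Γ(F, U) _ _
    ((specializes_iff_primeIdealOf_le hU x' x hx'U hxU).mp hspec)
    ((map_eq_iff_under_eq f hU hV hUV x' x hx'U hxU).mp hfx) hx0 hx'
  have h1 : hU.primeIdealOf ⟨x', hx'U⟩ = hU.primeIdealOf ⟨x, hxU⟩ := PrimeSpectrum.ext h
  have h2 := hU.isoSpec.hom.isOpenEmbedding.injective h1
  exact congrArg Subtype.val h2

/-- the points which are generic in a component of dimension `n` of the support of their fibre. -/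
def En (F : X.Modules) (n : ℕ) : Set X := {x | mF f F x = 0 ∧ ptTrdeg f x = n}

/-- the image of `En` is the image of an open subset of the support. -/
theorem image_En_eq [LocallyOfFinitePresentation f] (F : X.Modules) (hF : CohB1.IsFP F) (n : ℕ) :
    f '' En f F n = f '' ({x : X | ∀ x' : X, f x' = f x → x' ⤳ x →
        ¬ ((False → ¬ mF f F x' ≤ ((dF f F x' : ℕ∞) : WithBot ℕ∞) + (0 : ℕ)) ∧
          (dF f F x', ptTrdeg f x') ∈ SPhi {n})} ∩ {x : X | mF f F x ≠ ⊥}) := by
  ext y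
  constructor
  · rintro ⟨x, ⟨hx0, hxn⟩, rfl⟩
    refine ⟨x, ⟨?_, ?_⟩, rfl⟩
    · rw [Set.mem_setOf_eq, assDim_singleton_iff]
      intro x' hfx' hspec h0
      have := eq_of_mF_eq_zero f F hF x x' hfx' hspec hx0 (mF_ne_bot_of_dF_eq_zero f F hF x' h0)
      rw [this]
      exact hxn
    · rw [Set.mem_setOf_eq, hx0]
      exact WithBot.coe_ne_bot
  · rintro ⟨x, ⟨hxW, hxS⟩, rfl⟩
    rw [Set.mem_setOf_eq, assDim_singleton_iff] at hxW
    obtain ⟨x₀, hfx₀, hspec₀, hm₀, -⟩ := exists_min_gen f F hF x hxS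
    exact ⟨x₀, ⟨hm₀, hxW x₀ hfx₀ hspec₀ (dF_eq_zero_of_mF_eq_zero f F hF x₀ hm₀)⟩, hfx₀⟩

theorem isOpen_image_En [LocallyOfFinitePresentation f] (F : X.Modules) (hF : CohB1.IsFP F)
    (hflat : FlatMod.IsFlatOver f F) (n : ℕ) : IsOpen (f '' En f F n) := by
  rw [image_En_eq f F hF n]
  exact isOpen_image_support f F hF hflat _
    (isOpen_good f F hF hflat False (sDown_SPhi {n}) (sFin_SPhi {n}))

end

-- ===== part NmQ =====
section

open AlgebraicGeometry CategoryTheory Limits IsLocalRing TensorProduct Topology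
open Groth.Agent.Lib.Helper28 Groth.Agent.Lib.Helper5 Groth.Agent.Lib.Helper5.GenDepth
open Groth.Agent.Lib.H9ModFibAlg Groth.Agent.Lib.H9ModFibSch
open Groth.Agent.Lib.Helper4.DimFormula Groth.Agent.Lib.Helper4.VarDim Groth.Agent.Lib.Helper4.FibDim
open Groth.Agent.Lib.H9RectDepthAlg Groth.Agent.Lib.H9RectDepthSch
open Groth.Agent.Lib.H9FibNumerics Groth.Agent.Lib.H9FibNumericsSch
open Groth.Agent.Lib.H9FibSkEquidim
open Groth.Agent.Lib.Helper2.FlatOver Groth.Agent.Lib.Helper2.FinPres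

variable {X Y : Scheme.{u}} (f : X ⟶ Y)

/-- the support of the fibre module, in the fibre. -/
def Sy (F : X.Modules) (y : Y) : Set ↥(f.fiber y) :=
  {z | Nontrivial (((Scheme.Modules.pullback (f.fiberι y)).obj F).presheaf.stalk z)}

theorem mem_Sy_iff (F : X.Modules) (y : Y) (z : f.fiber y) :
    z ∈ Sy f F y ↔ mF f F (f.fiberι y z) ≠ ⊥ := by
  have h := (forall_fiber_iff f (fun y z => z ∈ Sy f F y ↔ mF f F (f.fiberι y z) ≠ ⊥) y).mpr
  refine h (fun x _ => ?_) z
  rw [f.fiberι_asFiber x]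
  unfold mF Sy
  rw [Set.mem_setOf_eq, Module.supportDim_ne_bot_iff_nontrivial]

theorem fiberι_base (y : Y) (z : f.fiber y) : f (f.fiberι y z) = y := by
  have : f.fiberι y z ∈ Set.range (f.fiberι y) := ⟨z, rfl⟩
  rw [f.range_fiberι] at this
  exact this

set_option synthInstance.maxHeartbeats 400000 in
set_option maxHeartbeats 3200000 in
/-- the support of the fibre modules is closed. -/
theorem isClosed_mF_ne_bot [LocallyOfFinitePresentation f] (F : X.Modules) (hF : CohB1.IsFP F) :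
    IsClosed {x : X | mF f F x ≠ ⊥} := by
  haveI : F.IsQuasicoherent := Groth.Agent.Helper18Strict.isQCoh_of_isFP F hF
  rw [← isOpen_compl_iff, isOpen_iff_forall_mem_open]
  intro x hx
  obtain ⟨U, hU, V, hV, hUV, hxU, hfp, hfpM⟩ := exists_chart f F hF x
  have hft : (f.appLE V U hUV).hom.FiniteType := RingHom.FiniteType.of_finitePresentation hfp
  haveI := hfpM
  letI aVU : Algebra Γ(Y, V) Γ(X, U) := (f.appLE V U hUV).hom.toAlgebra
  haveI : Algebra.FiniteType Γ(Y, V) Γ(X, U) := hft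
  have hsupp : ∀ (x' : X) (hx' : x' ∈ U), mF f F x' ≠ ⊥ ↔
      hU.primeIdealOf ⟨x', hx'⟩ ∈ Module.support Γ(X, U) Γ(F, U) := by
    intro x' hx'
    obtain ⟨-, m2, -⟩ := fiber_numerics f hU hV hUV F hft x' hx'
    rw [m2]
    exact fdm_ne_bot_iff (A := Γ(Y, V)) Γ(F, U) (hU.primeIdealOf ⟨x', hx'⟩).asIdeal
  have hcont : Continuous (fun y : U => hU.primeIdealOf y) := hU.isoSpec.hom.continuous
  have hop : IsOpen ((Module.support Γ(X, U) Γ(F, U))ᶜ) :=
    (Module.isClosed_support (R := Γ(X, U)) (M := Γ(F, U))).isOpen_compl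
  refine ⟨Subtype.val '' ((fun y : U => hU.primeIdealOf y) ⁻¹'
    (Module.support Γ(X, U) Γ(F, U))ᶜ), ?_,
    U.isOpen.isOpenMap_subtype_val _ (hop.preimage hcont), ?_⟩
  · rintro _ ⟨⟨x', hx'U⟩, hx', rfl⟩
    intro hcon
    exact hx' ((hsupp x' hx'U).mp hcon)
  · refine ⟨⟨x, hxU⟩, ?_, rfl⟩
    intro hcon
    exact hx ((hsupp x hxU).mpr hcon)

theorem isClosed_Sy [LocallyOfFinitePresentation f] (F : X.Modules) (hF : CohB1.IsFP F) (y : Y) :
    IsClosed (Sy f F y) := by
  have h : Sy f F y = (f.fiberι y) ⁻¹' {x : X | mF f F x ≠ ⊥} := by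
    ext z
    exact mem_Sy_iff f F y z
  rw [h]
  exact (isClosed_mF_ne_bot f F hF).preimage (f.fiberι y).continuous

/-- the dimension of the closure of a point of the support, computed in the support. -/
theorem topologicalKrullDim_closure_Sy [LocallyOfFinitePresentation f] (F : X.Modules)
    (hF : CohB1.IsFP F) (y : Y) (η : ↥(Sy f F y)) :
    topologicalKrullDim ↥(closure ({η} : Set ↥(Sy f F y))) =
      ((ptTrdeg f (f.fiberι y η.1) : ℕ) : WithBot ℕ∞) := by
  letI : (f.fiber y).Over (Spec (CommRingCat.of (Y.residueField y))) :=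
    ⟨f.fiberToSpecResidueField y⟩
  haveI : LocallyOfFiniteType ((f.fiber y) ↘ Spec (CommRingCat.of (Y.residueField y))) :=
    locallyOfFiniteType_fiberToSpecResidueField f _
  have hcl := isClosed_Sy f F hF y
  have hemb : IsClosedEmbedding (Subtype.val : ↥(Sy f F y) → ↥(f.fiber y)) :=
    hcl.isClosedEmbedding_subtypeVal
  let e := hemb.isEmbedding.homeomorphImage (closure ({η} : Set ↥(Sy f F y)))
  have h1 := IsHomeomorph.topologicalKrullDim_eq e e.isHomeomorph
  have h2 : (Subtype.val : ↥(Sy f F y) → ↥(f.fiber y)) '' closure ({η} : Set ↥(Sy f F y)) =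
      closure ({η.1} : Set ↥(f.fiber y)) := by
    rw [← hemb.closure_image_eq, Set.image_singleton]
  rw [h1, h2, topologicalKrullDim_closure_singleton (Y.residueField y) (f.fiber y) η.1,
    trdegNat_eq_ptTrdeg]

set_option maxHeartbeats 1600000 in
/-- **irreducible components of the support of a fibre module and their dimensions.** -/
theorem exists_component_iff [LocallyOfFinitePresentation f] (F : X.Modules)
    (hF : CohB1.IsFP F) (y : Y) (n : ℕ) :
    (∃ Z ∈ irreducibleComponents ↥(Sy f F y), topologicalKrullDim ↥Z = (n : WithBot ℕ∞)) ↔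
      y ∈ f '' En f F n := by
  have hcl := isClosed_Sy f F hF y
  have hemb : IsClosedEmbedding (Subtype.val : ↥(Sy f F y) → ↥(f.fiber y)) :=
    hcl.isClosedEmbedding_subtypeVal
  haveI : QuasiSober ↥(Sy f F y) := hemb.quasiSober
  constructor
  · rintro ⟨Z, hZ, hdim⟩
    obtain ⟨η, hη⟩ := Groth.Agent.Lib.Helper14.exists_closure_eq_of_mem_irreducibleComponents hZ
    have hmin := (Groth.Agent.Lib.Helper14.closure_mem_irreducibleComponents_iff η).mp
      (by rw [hη]; exact hZ)
    have hfx : f (f.fiberι y η.1) = y := fiberι_base f y η.1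
    have hxS : mF f F (f.fiberι y η.1) ≠ ⊥ := (mem_Sy_iff f F y η.1).mp η.2
    obtain ⟨x₀, hfx₀, hspec₀, hm₀, -⟩ := exists_min_gen f F hF _ hxS
    have hx₀y : f x₀ = y := hfx₀.trans hfx
    have hr : x₀ ∈ Set.range (f.fiberι y) := by
      rw [f.range_fiberι]
      exact hx₀y
    obtain ⟨z₀, rfl⟩ := hr
    have hz₀S : z₀ ∈ Sy f F y := by
      rw [mem_Sy_iff, hm₀]
      exact WithBot.coe_ne_bot
    have hsp : z₀ ⤳ η.1 := (f.fiberι y).isEmbedding.isInducing.specializes_iff.mp hspec₀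
    have hsp' : (⟨z₀, hz₀S⟩ : ↥(Sy f F y)) ⤳ η :=
      Topology.IsInducing.subtypeVal.specializes_iff.mp hsp
    have heq := hmin ⟨z₀, hz₀S⟩ hsp'
    have hz : z₀ = η.1 := congrArg Subtype.val heq
    refine ⟨f.fiberι y η.1, ⟨?_, ?_⟩, hfx⟩
    · rw [← hz]
      exact hm₀
    · have hd := topologicalKrullDim_closure_Sy f F hF y η
      rw [hη, hdim] at hd
      exact (natCast_withBot_inj hd).symm
  · rintro ⟨x, ⟨hx0, hxn⟩, rfl⟩
    have hr : x ∈ Set.range (f.fiberι (f x)) := by
      rw [f.range_fiberι]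
      rfl
    obtain ⟨z, hz⟩ := hr
    have hzS : z ∈ Sy f F (f x) := by
      rw [mem_Sy_iff, hz, hx0]
      exact WithBot.coe_ne_bot
    refine ⟨closure {(⟨z, hzS⟩ : ↥(Sy f F (f x)))}, ?_, ?_⟩
    · rw [Groth.Agent.Lib.Helper14.closure_mem_irreducibleComponents_iff]
      rintro ⟨z', hz'S⟩ hsp
      have hsp1 : z' ⤳ z := Topology.IsInducing.subtypeVal.specializes_iff.mpr hsp
      have hsp2 : f.fiberι (f x) z' ⤳ f.fiberι (f x) z :=
        (f.fiberι (f x)).isEmbedding.isInducing.specializes_iff.mpr hsp1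
      rw [hz] at hsp2
      have h1 := eq_of_mF_eq_zero f F hF x (f.fiberι (f x) z') (fiberι_base f (f x) z') hsp2 hx0
        ((mem_Sy_iff f F (f x) z').mp hz'S)
      have h2 : z' = z := (f.fiberι (f x)).isEmbedding.injective (h1.trans hz.symm)
      exact Subtype.ext h2
    · rw [topologicalKrullDim_closure_Sy f F hF (f x) ⟨z, hzS⟩]
      change ((ptTrdeg f (f.fiberι (f x) z) : ℕ) : WithBot ℕ∞) = _
      rw [hz, hxn]

end

-- ===== part NmR =====
section

open AlgebraicGeometry CategoryTheory Limits IsLocalRing TensorProduct Topology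
open Groth.Agent.Lib.Helper28 Groth.Agent.Lib.Helper5 Groth.Agent.Lib.Helper5.GenDepth
open Groth.Agent.Lib.H9ModFibAlg Groth.Agent.Lib.H9ModFibSch
open Groth.Agent.Lib.Helper4.DimFormula Groth.Agent.Lib.Helper4.VarDim Groth.Agent.Lib.Helper4.FibDim
open Groth.Agent.Lib.H9RectDepthAlg Groth.Agent.Lib.H9RectDepthSch
open Groth.Agent.Lib.H9FibNumerics Groth.Agent.Lib.H9FibNumericsSch
open Groth.Agent.Lib.H9FibSkEquidim

variable {X Y : Scheme.{u}} (f : X ⟶ Y)

/-- **EGA IV 12.2.1 (ii)**: S4965. -/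
theorem isOpen_base_componentDims_supset [LocallyOfFinitePresentation f] (F : X.Modules)
    (hF : CohB1.IsFP F) (hflat : FlatMod.IsFlatOver f F) (Φ : Finset ℕ) :
    IsOpen {y : Y | ∀ n ∈ Φ, ∃ Z ∈ irreducibleComponents ↥{z : ↥(f.fiber y) |
        Nontrivial (((Scheme.Modules.pullback (f.fiberι y)).obj F).presheaf.stalk z)},
      topologicalKrullDim ↥Z = (n : WithBot ℕ∞)} := by
  have h : {y : Y | ∀ n ∈ Φ, ∃ Z ∈ irreducibleComponents ↥{z : ↥(f.fiber y) |
        Nontrivial (((Scheme.Modules.pullback (f.fiberι y)).obj F).presheaf.stalk z)},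
      topologicalKrullDim ↥Z = (n : WithBot ℕ∞)} = ⋂ n ∈ Φ, f '' En f F n := by
    ext y
    simp only [Set.mem_setOf_eq, Set.mem_iInter]
    refine forall_congr' fun n => forall_congr' fun _ => ?_
    exact exists_component_iff f F hF y n
  rw [h]
  exact isOpen_biInter_finset fun n _ => isOpen_image_En f F hF hflat n

/-- no embedded associated points of the fibre module over `y`, in terms of the source. -/
def NE (F : X.Modules) (y : Y) : Prop :=
  ∀ x : X, f x = y → dF f F x = 0 → mF f F x ≤ ((dF f F x : ℕ∞) : WithBot ℕ∞) + (0 : ℕ)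

theorem noEmbedded_iff_forall (F : X.Modules) (y : Y) :
    AssSch.NoEmbedded ((Scheme.Modules.pullback (f.fiberι y)).obj F) ↔
      ∀ w : f.fiber y, ∀ z ∈ AssSch.Ass ((Scheme.Modules.pullback (f.fiberι y)).obj F),
        w ∈ closure {z} →
        ∀ z' ∈ AssSch.Ass ((Scheme.Modules.pullback (f.fiberι y)).obj F),
          z ∈ closure {z'} → z' = z := by
  unfold AssSch.NoEmbedded
  constructor
  · intro h w z hz _ z' hz' hzz'
    exact (h z hz z' hz' (specializes_iff_mem_closure.mpr hzz')).symm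
  · intro h z hz z' hz' hsp
    exact (h z z hz (subset_closure rfl) z' hz' (specializes_iff_mem_closure.mp hsp)).symm

theorem noEmbedded_iff_NE [LocallyOfFinitePresentation f] (F : X.Modules) (hF : CohB1.IsFP F)
    (y : Y) :
    AssSch.NoEmbedded ((Scheme.Modules.pullback (f.fiberι y)).obj F) ↔ NE f F y := by
  rw [noEmbedded_iff_forall]
  rw [forall_fiber_iff f (fun y w =>
    ∀ z ∈ AssSch.Ass ((Scheme.Modules.pullback (f.fiberι y)).obj F), w ∈ closure {z} →
      ∀ z' ∈ AssSch.Ass ((Scheme.Modules.pullback (f.fiberι y)).obj F),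
        z ∈ closure {z'} → z' = z) y]
  constructor
  · intro h x hfx h0
    have h1 := (noEmbAt_iff f F hF x).mp (h x hfx) x rfl specializes_rfl
    by_contra hcon
    exact h1 ⟨fun _ => hcon, h0, Finset.notMem_empty _⟩
  · intro h x hfx
    rw [noEmbAt_iff f F hF x]
    rintro x' hfx' - ⟨hc, h0, -⟩
    exact hc trivial (h x' (hfx'.trans hfx) h0)

theorem assDim_iff_forall [LocallyOfFinitePresentation f] (F : X.Modules) (hF : CohB1.IsFP F)
    (Φ : Finset ℕ) (y : Y) :
    (∀ z ∈ AssSch.Ass ((Scheme.Modules.pullback (f.fiberι y)).obj F), ∃ n ∈ Φ,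
      topologicalKrullDim ↥(closure ({z} : Set ↥(f.fiber y))) = (n : WithBot ℕ∞)) ↔
      ∀ x : X, f x = y → dF f F x = 0 → ptTrdeg f x ∈ Φ := by
  rw [forall_fiber_iff f (fun y z =>
    z ∈ AssSch.Ass ((Scheme.Modules.pullback (f.fiberι y)).obj F) → ∃ n ∈ Φ,
      topologicalKrullDim ↥(closure ({z} : Set ↥(f.fiber y))) = (n : WithBot ℕ∞)) y]
  refine forall_congr' fun x => forall_congr' fun _ => ?_
  rw [isAss_iff_dF f F hF x, topologicalKrullDim_closure_asFiber_eq_ptTrdeg f x]
  refine imp_congr Iff.rfl ?_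
  constructor
  · rintro ⟨n, hn, hnn⟩
    rw [natCast_withBot_inj hnn]
    exact hn
  · intro h
    exact ⟨_, h, rfl⟩

/-- the dimensions of the irreducible components are natural numbers. -/
theorem exists_nat_of_component [LocallyOfFinitePresentation f] (F : X.Modules)
    (hF : CohB1.IsFP F) (y : Y) (Z : Set ↥(Sy f F y)) (hZ : Z ∈ irreducibleComponents ↥(Sy f F y)) :
    ∃ n : ℕ, topologicalKrullDim ↥Z = (n : WithBot ℕ∞) := by
  have hcl := isClosed_Sy f F hF y
  haveI : QuasiSober ↥(Sy f F y) := hcl.isClosedEmbedding_subtypeVal.quasiSober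
  obtain ⟨η, hη⟩ := Groth.Agent.Lib.Helper14.exists_closure_eq_of_mem_irreducibleComponents hZ
  refine ⟨ptTrdeg f (f.fiberι y η.1), ?_⟩
  rw [← hη]
  exact topologicalKrullDim_closure_Sy f F hF y η

theorem componentDims_eq_iff [LocallyOfFinitePresentation f] (F : X.Modules)
    (hF : CohB1.IsFP F) (Φ : Finset ℕ) (y : Y) :
    ((fun Z : Set ↥(Sy f F y) => topologicalKrullDim ↥Z) '' irreducibleComponents ↥(Sy f F y) =
        (fun n : ℕ => (n : WithBot ℕ∞)) '' (Φ : Set ℕ)) ↔
      (∀ n ∈ Φ, y ∈ f '' En f F n) ∧ (∀ n : ℕ, y ∈ f '' En f F n → n ∈ Φ) := by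
  constructor
  · intro h
    refine ⟨fun n hn => ?_, fun n hn => ?_⟩
    · rw [← exists_component_iff f F hF y n]
      have : ((n : ℕ) : WithBot ℕ∞) ∈ (fun n : ℕ => (n : WithBot ℕ∞)) '' (Φ : Set ℕ) :=
        ⟨n, hn, rfl⟩
      rw [← h] at this
      obtain ⟨Z, hZ, hd⟩ := this
      exact ⟨Z, hZ, hd⟩
    · rw [← exists_component_iff f F hF y n] at hn
      obtain ⟨Z, hZ, hd⟩ := hn
      have : ((n : ℕ) : WithBot ℕ∞) ∈
          (fun Z : Set ↥(Sy f F y) => topologicalKrullDim ↥Z) '' irreducibleComponents ↥(Sy f F y) :=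
        ⟨Z, hZ, hd⟩
      rw [h] at this
      obtain ⟨m, hm, hmn⟩ := this
      rw [← natCast_withBot_inj hmn]
      exact hm
  · rintro ⟨h1, h2⟩
    ext d
    constructor
    · rintro ⟨Z, hZ, rfl⟩
      obtain ⟨n, hn⟩ := exists_nat_of_component f F hF y Z hZ
      have : y ∈ f '' En f F n := (exists_component_iff f F hF y n).mp ⟨Z, hZ, hn⟩
      exact ⟨n, h2 n this, hn.symm⟩
    · rintro ⟨n, hn, rfl⟩
      obtain ⟨Z, hZ, hd⟩ := (exists_component_iff f F hF y n).mpr (h1 n hn)
      exact ⟨Z, hZ, hd⟩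

/-- **EGA IV 12.2.1 (iii)**: S4966. -/
theorem isOpen_base_noEmbedded_componentDims_eq [IsProper f] [LocallyOfFinitePresentation f]
    (F : X.Modules) (hF : CohB1.IsFP F) (hflat : FlatMod.IsFlatOver f F) (Φ : Finset ℕ) :
    IsOpen {y : Y | AssSch.NoEmbedded ((Scheme.Modules.pullback (f.fiberι y)).obj F) ∧
      (fun Z : Set ↥{z : ↥(f.fiber y) |
          Nontrivial (((Scheme.Modules.pullback (f.fiberι y)).obj F).presheaf.stalk z)} =>
        topologicalKrullDim ↥Z) '' irreducibleComponents ↥{z : ↥(f.fiber y) |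
          Nontrivial (((Scheme.Modules.pullback (f.fiberι y)).obj F).presheaf.stalk z)} =
        (fun n : ℕ => (n : WithBot ℕ∞)) '' (Φ : Set ℕ)} := by
  have hA : IsOpen {y : Y | AssSch.NoEmbedded ((Scheme.Modules.pullback (f.fiberι y)).obj F)} := by
    have h := isOpen_forall_fiber f (fun y w =>
      ∀ z ∈ AssSch.Ass ((Scheme.Modules.pullback (f.fiberι y)).obj F), w ∈ closure {z} →
        ∀ z' ∈ AssSch.Ass ((Scheme.Modules.pullback (f.fiberι y)).obj F),
          z ∈ closure {z'} → z' = z) (isOpen_noEmbAt f F hF hflat)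
    convert h using 1
    ext y
    exact noEmbedded_iff_forall f F y
  have hB := isOpen_base_componentDims_supset f F hF hflat Φ
  have hC := isOpen_base_assDim f F hF hflat Φ
  convert (hA.inter hB).inter hC using 1
  ext y
  simp only [Set.mem_setOf_eq, Set.mem_inter_iff]
  have e1 := componentDims_eq_iff f F hF Φ y
  have e2 := assDim_iff_forall f F hF Φ y
  have e3 := noEmbedded_iff_NE f F hF y
  have e4 : (∀ n ∈ Φ, ∃ Z ∈ irreducibleComponents ↥{z : ↥(f.fiber y) |
        Nontrivial (((Scheme.Modules.pullback (f.fiberι y)).obj F).presheaf.stalk z)},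
      topologicalKrullDim ↥Z = (n : WithBot ℕ∞)) ↔ ∀ n ∈ Φ, y ∈ f '' En f F n :=
    forall_congr' fun n => forall_congr' fun _ => exists_component_iff f F hF y n
  change (_ ∧ ((fun Z : Set ↥(Sy f F y) => topologicalKrullDim ↥Z) ''
    irreducibleComponents ↥(Sy f F y) = _)) ↔ _
  rw [e1, e2, e4]
  constructor
  · rintro ⟨hne, h1, h2⟩
    refine ⟨⟨hne, h1⟩, ?_⟩
    intro x hfx h0
    have hNE := e3.mp hne
    have hle := hNE x hfx h0
    rw [h0] at hle
    have hm : mF f F x = 0 := by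
      have hne' := mF_ne_bot_of_dF_eq_zero f F hF x h0
      obtain ⟨m, hm⟩ := WithBot.ne_bot_iff_exists.mp hne'
      rw [← hm] at hle ⊢
      have h3 : ((m : ℕ∞) : WithBot ℕ∞) ≤ ((0 : ℕ∞) : WithBot ℕ∞) := by simpa using hle
      rw [nonpos_iff_eq_zero.mp (WithBot.coe_le_coe.mp h3)]
      rfl
    exact h2 _ ⟨x, ⟨hm, rfl⟩, hfx⟩
  · rintro ⟨⟨hne, h1⟩, h2⟩
    refine ⟨hne, h1, ?_⟩
    rintro n ⟨x, ⟨hm, hxn⟩, hfx⟩
    rw [← hxn]
    exact h2 x hfx (dF_eq_zero_of_mF_eq_zero f F hF x hm)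

end

end Groth.Agent.Lib.H9FibSuppOpen
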