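import Mathlib
import Groth.Agent.Lib.H9FibSuppOpen
import Groth.Agent.Lib.Helper6OpenDimG

/-! helper9: dim Supp F_y as a sup of relative transcendence degrees (sd_eq_iSup, sd_le_iff, le_sd_iff) and its local constancy for proper flat families (S4969). -/

set_option autoImplicit false
set_option linter.style.haveILetI false
set_option linter.unusedSimpArgs false
set_option linter.unusedVariables false
universe u

namespace Groth.Agent.Lib.H9FibSuppDim

-- ===== part NmW =====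
section

open AlgebraicGeometry CategoryTheory Limits IsLocalRing TensorProduct Topology
open Groth.Agent.Lib.Helper28 Groth.Agent.Lib.Helper5 Groth.Agent.Lib.Helper5.GenDepth
open Groth.Agent.Lib.H9ModFibAlg Groth.Agent.Lib.H9ModFibSch
open Groth.Agent.Lib.Helper4.DimFormula Groth.Agent.Lib.Helper4.VarDim Groth.Agent.Lib.Helper4.FibDim
open Groth.Agent.Lib.H9RectDepthAlg Groth.Agent.Lib.H9RectDepthSch
open Groth.Agent.Lib.H9FibNumerics Groth.Agent.Lib.H9FibNumericsSch
open Groth.Agent.Lib.H9FibSkEquidim Groth.Agent.Lib.H9FibSuppOpen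

theorem exists_le_of_le_iSup {ι : Type*} (a : ι → ℕ) (n : ℕ)
    (h : ((n : ℕ) : WithBot ℕ∞) ≤ ⨆ i, ((a i : ℕ) : WithBot ℕ∞)) : ∃ i, n ≤ a i := by
  by_contra hc
  push Not at hc
  cases n with
  | zero => exact absurd (hc (Classical.choice (by
      by_contra hne
      rw [not_nonempty_iff] at hne
      rw [iSup_of_empty] at h
      exact absurd h (by simp)))) (by omega)
  | succ k =>
    have h1 : (⨆ i, ((a i : ℕ) : WithBot ℕ∞)) ≤ ((k : ℕ) : WithBot ℕ∞) :=
      iSup_le fun i => by exact_mod_cast Nat.lt_succ_iff.mp (hc i)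
    have h2 := h.trans h1
    have h3 : k + 1 ≤ k := by exact_mod_cast h2
    omega

variable {X Y : Scheme.{u}} (f : X ⟶ Y)

theorem sd_eq_iSup [LocallyOfFinitePresentation f] (F : X.Modules) (hF : CohB1.IsFP F) (y : Y) :
    topologicalKrullDim ↥(Sy f F y) =
      ⨆ t : ↥(Sy f F y), ((ptTrdeg f (f.fiberι y t.1) : ℕ) : WithBot ℕ∞) := by
  letI : (f.fiber y).Over (Spec (CommRingCat.of (Y.residueField y))) :=
    ⟨f.fiberToSpecResidueField y⟩
  haveI : LocallyOfFiniteType ((f.fiber y) ↘ Spec (CommRingCat.of (Y.residueField y))) :=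
    locallyOfFiniteType_fiberToSpecResidueField f _
  rw [topologicalKrullDim_eq_iSup_trdegNat_of_isLocallyClosed (Y.residueField y) (f.fiber y)
    (Sy f F y) (isClosed_Sy f F hF y).isLocallyClosed]
  refine iSup_congr fun t => ?_
  rw [trdegNat_eq_ptTrdeg]

/-- every point of the support of the fibre module is dominated by a minimal one. -/
theorem exists_min_gen_Sy [LocallyOfFinitePresentation f] (F : X.Modules) (hF : CohB1.IsFP F)
    (y : Y) (t : ↥(Sy f F y)) :
    ∃ x₀ : X, f x₀ = y ∧ mF f F x₀ = 0 ∧ ptTrdeg f (f.fiberι y t.1) ≤ ptTrdeg f x₀ := by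
  have hxS : mF f F (f.fiberι y t.1) ≠ ⊥ := (mem_Sy_iff f F y t.1).mp t.2
  obtain ⟨x₀, hfx₀, -, hm₀, he⟩ := exists_min_gen f F hF _ hxS
  refine ⟨x₀, hfx₀.trans (fiberι_base f y t.1), hm₀, ?_⟩
  obtain ⟨m, hm⟩ := WithBot.ne_bot_iff_exists.mp hxS
  rw [← hm] at he
  have h1 : ((ptTrdeg f (f.fiberι y t.1) : ℕ) : WithBot ℕ∞) ≤ ((ptTrdeg f x₀ : ℕ) : WithBot ℕ∞) := by
    rw [he]
    change (((ptTrdeg f (f.fiberι y t.1) : ℕ) : ℕ∞) : WithBot ℕ∞) ≤
      (m : WithBot ℕ∞) + (((ptTrdeg f (f.fiberι y t.1) : ℕ) : ℕ∞) : WithBot ℕ∞)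
    rw [← WithBot.coe_add, WithBot.coe_le_coe]
    exact le_add_self
  exact_mod_cast h1

theorem sd_le_iff [LocallyOfFinitePresentation f] (F : X.Modules) (hF : CohB1.IsFP F) (y : Y)
    (d : WithBot ℕ∞) :
    topologicalKrullDim ↥(Sy f F y) ≤ d ↔
      ∀ x : X, f x = y → dF f F x = 0 → ((ptTrdeg f x : ℕ) : WithBot ℕ∞) ≤ d := by
  rw [sd_eq_iSup f F hF y, iSup_le_iff]
  constructor
  · intro h x hfx h0
    have hr : x ∈ Set.range (f.fiberι y) := by
      rw [f.range_fiberι]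
      exact hfx
    obtain ⟨z, rfl⟩ := hr
    have hz : z ∈ Sy f F y := (mem_Sy_iff f F y z).mpr (mF_ne_bot_of_dF_eq_zero f F hF _ h0)
    exact h ⟨z, hz⟩
  · intro h t
    obtain ⟨x₀, hfx₀, hm₀, hle⟩ := exists_min_gen_Sy f F hF y t
    refine le_trans ?_ (h x₀ hfx₀ (dF_eq_zero_of_mF_eq_zero f F hF x₀ hm₀))
    exact_mod_cast hle

theorem le_sd_iff [LocallyOfFinitePresentation f] (F : X.Modules) (hF : CohB1.IsFP F) (y : Y)
    (n : ℕ) :
    ((n : ℕ) : WithBot ℕ∞) ≤ topologicalKrullDim ↥(Sy f F y) ↔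
      ∃ m : ℕ, n ≤ m ∧ y ∈ f '' En f F m := by
  rw [sd_eq_iSup f F hF y]
  constructor
  · intro h
    obtain ⟨t, ht⟩ := exists_le_of_le_iSup _ n h
    obtain ⟨x₀, hfx₀, hm₀, hle⟩ := exists_min_gen_Sy f F hF y t
    exact ⟨ptTrdeg f x₀, ht.trans hle, x₀, ⟨hm₀, rfl⟩, hfx₀⟩
  · rintro ⟨m, hnm, x, ⟨hm, hxm⟩, hfx⟩
    have hr : x ∈ Set.range (f.fiberι y) := by
      rw [f.range_fiberι]
      exact hfx
    obtain ⟨z, rfl⟩ := hr
    have hz : z ∈ Sy f F y := by
      rw [mem_Sy_iff, hm]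
      exact WithBot.coe_ne_bot
    refine le_trans ?_ (le_iSup _ (⟨z, hz⟩ : ↥(Sy f F y)))
    rw [hxm]
    exact_mod_cast hnm

theorem isOpen_sd_le [IsProper f] [LocallyOfFinitePresentation f] (F : X.Modules)
    (hF : CohB1.IsFP F) (hflat : FlatMod.IsFlatOver f F) (Φ : Finset ℕ) :
    IsOpen {y : Y | ∀ x : X, f x = y → dF f F x = 0 → ptTrdeg f x ∈ Φ} := by
  have h := isOpen_base_assDim f F hF hflat Φ
  convert h using 1
  ext y
  exact (assDim_iff_forall f F hF Φ y).symm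

theorem sd_ne_top [QuasiCompact f] [LocallyOfFinitePresentation f] (F : X.Modules)
    (hF : CohB1.IsFP F) (y : Y) :
    ∃ N : ℕ, topologicalKrullDim ↥(Sy f F y) ≤ ((N : ℕ) : WithBot ℕ∞) := by
  letI : (f.fiber y).Over (Spec (CommRingCat.of (Y.residueField y))) :=
    ⟨f.fiberToSpecResidueField y⟩
  haveI : LocallyOfFiniteType ((f.fiber y) ↘ Spec (CommRingCat.of (Y.residueField y))) :=
    locallyOfFiniteType_fiberToSpecResidueField f _
  obtain ⟨N, hN⟩ := exists_trdegNat_le (Y.residueField y) (f.fiber y)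
  refine ⟨N, ?_⟩
  rw [sd_eq_iSup f F hF y]
  refine iSup_le fun t => ?_
  have := hN t.1
  rw [trdegNat_eq_ptTrdeg] at this
  exact_mod_cast this

/-- **S4969**: the dimension of the support of the fibre modules is locally constant. -/
theorem isLocallyConstant_dim_support [IsProper f] [LocallyOfFinitePresentation f]
    (F : X.Modules) (hF : CohB1.IsFP F) (hflat : FlatMod.IsFlatOver f F) :
    IsLocallyConstant (fun y : Y => topologicalKrullDim ↥{z : ↥(f.fiber y) |
      Nontrivial (((Scheme.Modules.pullback (f.fiberι y)).obj F).presheaf.stalk z)}) := by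
  change IsLocallyConstant (fun y : Y => topologicalKrullDim ↥(Sy f F y))
  rw [IsLocallyConstant.iff_exists_open]
  intro y₀
  obtain ⟨N, hN⟩ := sd_ne_top f F hF y₀
  rcases hd : topologicalKrullDim ↥(Sy f F y₀) with _ | e
  · -- empty support
    refine ⟨{y : Y | ∀ x : X, f x = y → dF f F x = 0 → ptTrdeg f x ∈ (∅ : Finset ℕ)},
      isOpen_sd_le f F hF hflat ∅, ?_, ?_⟩
    · intro x hfx h0
      have h1 := (sd_le_iff f F hF y₀ ⊥).mp (by rw [hd]; exact le_rfl) x hfx h0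
      simp at h1
    · intro y hy
      have h1 : topologicalKrullDim ↥(Sy f F y) ≤ ⊥ := by
        rw [sd_le_iff f F hF y ⊥]
        intro x hfx h0
        exact absurd (hy x hfx h0) (Finset.notMem_empty _)
      exact le_bot_iff.mp h1
  · -- dimension `n`
    rw [hd] at hN
    have he : e ≠ ⊤ := by
      intro htop
      rw [htop] at hN
      have h2 : ((⊤ : ℕ∞) : WithBot ℕ∞) ≤ ((N : ℕ∞) : WithBot ℕ∞) := hN
      rw [WithBot.coe_le_coe, top_le_iff] at h2
      exact ENat.natCast_ne_top N h2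
    obtain ⟨n, rfl⟩ := ENat.ne_top_iff_exists.mp he
    have hd' : topologicalKrullDim ↥(Sy f F y₀) = ((n : ℕ) : WithBot ℕ∞) := hd
    refine ⟨{y : Y | ∀ x : X, f x = y → dF f F x = 0 → ptTrdeg f x ∈ Finset.range (n + 1)} ∩
      ⋃ m ∈ {m : ℕ | n ≤ m}, f '' En f F m, ?_, ⟨?_, ?_⟩, ?_⟩
    · refine (isOpen_sd_le f F hF hflat _).inter ?_
      exact isOpen_biUnion fun m _ => isOpen_image_En f F hF hflat m
    · intro x hfx h0
      have h1 := (sd_le_iff f F hF y₀ n).mp hd'.le x hfx h0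
      rw [Finset.mem_range]
      have h2 : ptTrdeg f x ≤ n := by exact_mod_cast h1
      omega
    · obtain ⟨m, hnm, hm⟩ := (le_sd_iff f F hF y₀ n).mp hd'.ge
      exact Set.mem_biUnion hnm hm
    · rintro y ⟨hy1, hy2⟩
      change topologicalKrullDim ↥(Sy f F y) = ((n : ℕ) : WithBot ℕ∞)
      apply le_antisymm
      · rw [sd_le_iff f F hF y n]
        intro x hfx h0
        have := Finset.mem_range.mp (hy1 x hfx h0)
        exact_mod_cast Nat.lt_succ_iff.mp this
      · rw [le_sd_iff f F hF y n]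
        obtain ⟨m, hnm, hm⟩ := Set.mem_iUnion₂.mp hy2
        exact ⟨m, hnm, hm⟩

end

end Groth.Agent.Lib.H9FibSuppDim
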