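import Mathlib
import Groth.Agent.Lib.H9FibSuppDim
import Groth.Agent.Lib.Helper5FibSmConstr
import Groth.Agent.Lib.Helper3FlatModel
import Groth.Agent.Lib.Helper6GeomRegAt
import Groth.Agent.Lib.Helper6BcGeom
import Groth.Agent.Lib.Helper6BcRed
import Groth.Agent.Lib.H5bEtLocal
import Groth.Agent.Lib.Helper28Normal

/-! EGA IV 12.1.6: for a flat morphism locally of finite presentation, the locus where the fibre is geometrically (R_k), equidimensional and without embedded components is open. Algebraic core: `isClosed_bad_fp_ns` (numerics with the non-smooth locus), `geomRk_iff` (geometric (R_n) at a point = smoothness at generizations of codimension ≤ n), `goodRk_iff`, `isOpen_goodRk`; scheme dictionary `SemiInv.fiber_ring_dict`, `goodRk_chart`, `isOpen_geomRk_equidim_noEmb`. -/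

set_option autoImplicit false
set_option linter.style.haveILetI false
set_option linter.unusedSimpArgs false
set_option linter.unusedVariables false
universe u

namespace Groth.Agent.Lib.H9FibGeomRk

-- ===== part NsA =====
section

open AlgebraicGeometry CategoryTheory Limits TensorProduct Topology
open Groth.Agent.Lib.Helper4.DimFormula Groth.Agent.Lib.Helper6.OpenDim
open Groth.Agent.Lib.Helper28 Groth.Agent.Lib.Helper5 Groth.Agent.Lib.Helper5.GenDepth
open Groth.Agent.Lib.H9ModFibAlg Groth.Agent.Lib.H9RectDepthAlg Groth.Agent.Lib.H9RectDepthConstr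
open Groth.Agent.Lib.Helper5.CodepthOpen Groth.Agent.Lib.Helper5.FibCodepthConstr
open Groth.Agent.Lib.H9FibNumerics Groth.Agent.Lib.Helper5.FibSmConstr

section Smooth

/-- the stalk map of `Spec B ⟶ Spec A` at `q` is formally smooth iff `q` is in the smooth locus. -/
theorem spec_formallySmooth_stalkMap_iff {A B : Type u} [CommRing A] [CommRing B] [Algebra A B]
    (q : PrimeSpectrum B) :
    ((Spec.map (CommRingCat.ofHom (algebraMap A B))).stalkMap q).hom.FormallySmooth ↔
      q ∈ Algebra.smoothLocus A B := by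
  let p : Ideal A := q.asIdeal.under A
  haveI : q.asIdeal.LiesOver p := ⟨rfl⟩
  letI := Localization.AtPrime.algebraOfLiesOver p q.asIdeal
  trans Algebra.FormallySmooth (Localization.AtPrime p) (Localization.AtPrime q.asIdeal)
  · rw [← RingHom.formallySmooth_algebraMap]
    exact RingHom.FormallySmooth.respectsIso.arrow_mk_iso_iff
      (Scheme.arrowStalkMapSpecIso (CommRingCat.ofHom (algebraMap A B)) q)
  · exact Algebra.FormallySmooth.iff_restrictScalars.symm

variable {A B A' B' : Type u} [CommRing A] [CommRing B] [CommRing A'] [CommRing B']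
  [Algebra A B] [Algebra A A'] [Algebra B B'] [Algebra A' B'] [Algebra A B']
  [IsScalarTower A B B'] [IsScalarTower A A' B'] [Algebra.IsPushout A B A' B']

/-- **base change of the smooth locus** for flat algebras of finite presentation. -/
theorem mem_smoothLocus_baseChange [Algebra.FinitePresentation A B] [Module.Flat A B]
    (q' : PrimeSpectrum B') :
    q' ∈ Algebra.smoothLocus A' B' ↔
      PrimeSpectrum.comap (algebraMap B B') q' ∈ Algebra.smoothLocus A B := by
  have hpo := CommRingCat.isPushout_of_isPushout A B A' B'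
  have hsq := isPullback_SpecMap_of_isPushout _ _ _ _ hpo
  haveI h1 : LocallyOfFinitePresentation (Spec.map (CommRingCat.ofHom (algebraMap A B))) := by
    rw [LocallyOfFinitePresentation.SpecMap_iff, CommRingCat.hom_ofHom,
      RingHom.finitePresentation_algebraMap]
    infer_instance
  haveI h2 : Flat (Spec.map (CommRingCat.ofHom (algebraMap A B))) := by
    rw [Flat.SpecMap_iff, CommRingCat.hom_ofHom, RingHom.flat_algebraMap_iff]
    infer_instance
  haveI h3 : LocallyOfFinitePresentation (Spec.map (CommRingCat.ofHom (algebraMap A' B'))) :=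
    MorphismProperty.of_isPullback (P := @LocallyOfFinitePresentation) hsq h1
  haveI h4 : Flat (Spec.map (CommRingCat.ofHom (algebraMap A' B'))) :=
    MorphismProperty.of_isPullback (P := @Flat) hsq h2
  have hbc := lsm_baseChange _ _ _ _ h1 hsq
  let x' : ↥(Spec (CommRingCat.of B')) := q'
  have e1 := spec_formallySmooth_stalkMap_iff (A := A') (B := B') q'
  have e2 := spec_formallySmooth_stalkMap_iff (A := A) (B := B)
    (PrimeSpectrum.comap (algebraMap B B') q')
  have e3 := mem_lsm_iff_of_flat (Spec.map (CommRingCat.ofHom (algebraMap A' B'))) x'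
    (Flat.stalkMap _ x')
  have e4 := mem_lsm_iff_of_flat (Spec.map (CommRingCat.ofHom (algebraMap A B)))
    ((Spec.map (CommRingCat.ofHom (algebraMap B B'))) x') (Flat.stalkMap _ _)
  have e5 : x' ∈ Lsm (Spec.map (CommRingCat.ofHom (algebraMap A' B'))) ↔
      (Spec.map (CommRingCat.ofHom (algebraMap B B'))) x' ∈
        Lsm (Spec.map (CommRingCat.ofHom (algebraMap A B))) := by
    rw [hbc]
    rfl
  exact e1.symm.trans (e3.symm.trans (e5.trans (e4.trans e2)))

end Smooth

section BC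

variable {A B A' B' : Type u} [CommRing A] [CommRing B] [CommRing A'] [CommRing B']
  [Algebra A B] [Algebra A A'] [Algebra B B'] [Algebra A' B'] [Algebra A B']
  [IsScalarTower A B B'] [IsScalarTower A A' B'] [Algebra.IsPushout A B A' B']
  [Algebra.FiniteType A B]
  (M : Type u) [AddCommGroup M] [Module B M] [Module.Finite B M]
  (M' : Type u) [AddCommGroup M'] [Module B' M'] [Module B M'] [IsScalarTower B B' M']
  (f : M →ₗ[B] M') (hf : IsBaseChange B' f)

include f hf in
/-- **Base change invariance** of the fibrewise specializations of `Tset`, with an extra set. -/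
theorem bad_baseChange_gen (c : Prop) {S : Set (ℕ∞ × ℕ)} (hS : SDown S)
    (Z : Set (PrimeSpectrum B)) (x' : PrimeSpectrum B') :
    x' ∈ Bad A' M' (ZC c A' M' ∩ PrimeSpectrum.comap (algebraMap B B') ⁻¹' Z) S ↔
      PrimeSpectrum.comap (algebraMap B B') x' ∈ Bad A M (ZC c A M ∩ Z) S := by
  obtain ⟨k1, k2⟩ := ftd_baseChange (A := A) (B := B) (A' := A') (B' := B')
  have hAA : ∀ (q' : Ideal B'), (q'.comap (algebraMap B B')).under A = (q'.under A').under A := by
    intro q'
    rw [Ideal.under_def, Ideal.under_def, Ideal.under_def, Ideal.comap_comap, Ideal.comap_comap,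
      ← IsScalarTower.algebraMap_eq, ← IsScalarTower.algebraMap_eq]
  constructor
  · rintro ⟨z', ⟨⟨hz'Z, hz'Z2⟩, hz'S⟩, hz'x', hz'A'⟩
    haveI := z'.2
    refine ⟨PrimeSpectrum.comap (algebraMap B B') z', ⟨⟨?_, hz'Z2⟩, ?_⟩,
      Ideal.comap_mono hz'x', ?_⟩
    · intro hc hcod
      exact hz'Z hc ((codLE_baseChange 0 (A := A) (A' := A') M M' f hf z'.asIdeal
        (z'.asIdeal.comap (algebraMap B B')) rfl).mpr hcod)
    · have h1 := rdep_baseChange (A := A) (B := B) (A' := A') (B' := B') M M' f hf z'.asIdeal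
        (z'.asIdeal.comap (algebraMap B B')) rfl
      have h2 := k1 z'.asIdeal (z'.asIdeal.comap (algebraMap B B')) rfl
      unfold rdep at h1
      exact hS _ _ _ _ hz'S h2 (le_of_eq h1.symm)
    · change (z'.asIdeal.comap (algebraMap B B')).under A =
        (x'.asIdeal.comap (algebraMap B B')).under A
      rw [hAA, hAA, hz'A']
  · rintro ⟨z, ⟨⟨hzZ, hzZ2⟩, hzS⟩, hzx, hzA⟩
    haveI := z.2
    haveI := x'.2
    obtain ⟨z', hz'p, hz'x', hz'z, hz'A', hz'ftd⟩ := k2 x'.asIdeal z.asIdeal hzx hzA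
    haveI := hz'p
    have h1 := rdep_baseChange (A := A) (B := B) (A' := A') (B' := B') M M' f hf z'
      z.asIdeal hz'z.symm
    unfold rdep at h1
    rw [hz'ftd] at h1
    have h2 : fdep A' M' z' = fdep A M z.asIdeal :=
      ENat.add_left_injective_of_ne_top (ENat.natCast_ne_top _) h1
    refine ⟨⟨z', hz'p⟩, ⟨⟨?_, ?_⟩, ?_⟩, hz'x', hz'A'⟩
    · intro hc hcod
      exact hzZ hc ((codLE_baseChange 0 (A := A) (A' := A') M M' f hf z'
        z.asIdeal hz'z.symm).mp hcod)
    · have : PrimeSpectrum.comap (algebraMap B B') ⟨z', hz'p⟩ = z := PrimeSpectrum.ext hz'z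
      rw [Set.mem_preimage, this]
      exact hzZ2
    · change (fdep A' M' z', ftd A' z') ∈ S
      rw [h2, hz'ftd]
      exact hzS

end BC

section Model

attribute [local instance] Algebra.TensorProduct.rightAlgebra

/-- a flat ring model over a finitely generated `ℤ`-algebra, packaged as a pushout. -/
theorem exists_flat_ring_model (A B : Type u) [CommRing A] [CommRing B] [Algebra A B]
    [Algebra.FinitePresentation A B] [Module.Flat A B] :
    ∃ (A₀ : Type u) (_ : CommRing A₀) (_ : Algebra A₀ A) (B₀ : Type u) (_ : CommRing B₀)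
      (_ : Algebra A₀ B₀) (_ : Algebra B₀ B) (_ : Algebra A₀ B) (_ : IsScalarTower A₀ A B)
      (_ : IsScalarTower A₀ B₀ B),
      Algebra.FiniteType ℤ A₀ ∧ Algebra.FinitePresentation A₀ B₀ ∧ Module.Flat A₀ B₀ ∧
        Algebra.IsPushout A₀ A B₀ B := by
  obtain ⟨A₀, B₀, i1, i2, i3, i4, h1, h2, h3, ⟨e⟩⟩ :=
    Groth.Agent.Lib.Helper3.FlatOpen.exists_flat_model A B
  letI aB₀B : Algebra B₀ B :=
    ((e : A ⊗[A₀] B₀ →+* B).comp
      (Algebra.TensorProduct.includeRight : B₀ →ₐ[A₀] A ⊗[A₀] B₀).toRingHom).toAlgebra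
  letI aA₀B : Algebra A₀ B := ((algebraMap A B).comp (algebraMap A₀ A)).toAlgebra
  haveI t1 : IsScalarTower A₀ A B := .of_algebraMap_eq' rfl
  haveI t2 : IsScalarTower A₀ B₀ B := .of_algebraMap_eq fun a => by
    change algebraMap A B (algebraMap A₀ A a) = e ((1 : A) ⊗ₜ[A₀] algebraMap A₀ B₀ a)
    rw [← e.commutes, Algebra.TensorProduct.algebraMap_apply, Algebra.algebraMap_eq_smul_one,
      Algebra.algebraMap_eq_smul_one (A := B₀), TensorProduct.tmul_smul, TensorProduct.smul_tmul',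
      algebraMap_smul]
  refine ⟨A₀, i1, i3, B₀, i2, i4, aB₀B, aA₀B, t1, t2, h1, h2, h3, ?_⟩
  exact Algebra.IsPushout.of_equiv (R := A₀) (R' := A) (S := B₀) (S' := A ⊗[A₀] B₀) e rfl

end Model

section Closed

set_option synthInstance.maxHeartbeats 400000 in
set_option maxHeartbeats 1600000 in
/-- **closedness of the fibrewise specializations of non-smooth points with prescribed
numerics**, for flat algebras of finite presentation. -/
theorem isClosed_bad_fp_ns (c : Prop) {S : Set (ℕ∞ × ℕ)} (hS : SDown S) (hS' : SFin S)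
    {A B : Type u} [CommRing A] [CommRing B] [Algebra A B]
    [Algebra.FinitePresentation A B] [Module.Flat A B] :
    IsClosed (Bad A B (ZC c A B ∩ (Algebra.smoothLocus A B)ᶜ) S : Set (PrimeSpectrum B)) := by
  obtain ⟨A₀, i1, i2, B₀, i3, i4, i5, i6, i7, i8, h1, h2, h3, h4⟩ := exists_flat_ring_model A B
  haveI := h2
  haveI := h3
  haveI : IsNoetherianRing A₀ := Algebra.FiniteType.isNoetherianRing ℤ A₀
  haveI : Algebra.FiniteType A₀ B₀ := inferInstance
  haveI : IsNoetherianRing B₀ := Algebra.FiniteType.isNoetherianRing A₀ B₀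
  have hA₀ : CMU A₀ := cmu_of_finiteType_int A₀ h1
  have hB₀ : CMU B₀ := cmu_of_finiteType_int B₀ (Algebra.FiniteType.trans h1 inferInstance)
  have hUC : CAlg.IsUniversallyCatenary A₀ := isUniversallyCatenary_of_finiteType_int A₀ h1
  have hZ₀ : IsClosed (ZC c A₀ B₀ ∩ (Algebra.smoothLocus A₀ B₀)ᶜ : Set (PrimeSpectrum B₀)) :=
    (isClosed_ZC B₀ c hA₀ hB₀).inter Algebra.isOpen_smoothLocus.isClosed_compl
  have hcl := isClosed_bad (A := A₀) (B := B₀) B₀ hA₀ hB₀ hUC hZ₀ hS hS'
  haveI hpo : Algebra.IsPushout A₀ B₀ A B := Algebra.IsPushout.symm h4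
  have hbc : IsBaseChange B (Algebra.linearMap B₀ B) := IsBaseChange.linearMap B₀ B
  have hns : (Algebra.smoothLocus A B)ᶜ =
      PrimeSpectrum.comap (algebraMap B₀ B) ⁻¹' (Algebra.smoothLocus A₀ B₀)ᶜ := by
    ext q
    rw [Set.mem_compl_iff, Set.mem_preimage, Set.mem_compl_iff,
      mem_smoothLocus_baseChange (A := A₀) (B := B₀) (A' := A) (B' := B) q]
  have heq : (Bad A B (ZC c A B ∩ (Algebra.smoothLocus A B)ᶜ) S : Set (PrimeSpectrum B)) =
      PrimeSpectrum.comap (algebraMap B₀ B) ⁻¹'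
        (Bad A₀ B₀ (ZC c A₀ B₀ ∩ (Algebra.smoothLocus A₀ B₀)ᶜ) S) := by
    ext r
    rw [hns]
    exact bad_baseChange_gen (A := A₀) (B := B₀) (A' := A) (B' := B) B₀ B
      (Algebra.linearMap B₀ B) hbc c hS _ r
  rw [heq]
  exact hcl.preimage (PrimeSpectrum.continuous_comap (algebraMap B₀ B))

end Closed

end

-- ===== part NsB =====
section

open AlgebraicGeometry CategoryTheory Limits TensorProduct Topology
open Groth.Agent.Lib.Helper6.BcBridge Groth.Agent.Lib.Helper6.BcAlg Groth.Agent.Lib.Helper6.BcGeom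
open Groth.Agent.Lib.Helper28

/-- `(R_n)` is invariant under ring isomorphisms. -/
theorem hasRk_of_ringEquiv {R S : Type u} [CommRing R] [CommRing S] (e : R ≃+* S) (n : ℕ)
    (h : LocCoh.HasRk n R) : LocCoh.HasRk n S := by
  intro p hp hht
  haveI hp' : (p.comap (e : R →+* S)).IsPrime := Ideal.comap_isPrime _ _
  have hh : (p.comap (e : R →+* S)).height = p.height := RingEquiv.height_comap e p
  have hreg := h (p.comap (e : R →+* S)) (by rw [hh]; exact hht)
  have hmap : (p.comap (e : R →+* S)).primeCompl.map (e : R →* S) = p.primeCompl := by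
    ext y
    constructor
    · rintro ⟨x, hx, rfl⟩
      exact hx
    · intro hy
      refine ⟨e.symm y, ?_, by simp⟩
      change e.symm y ∈ (p.comap (e : R →+* S)).primeCompl
      rw [Ideal.mem_primeCompl_iff, Ideal.mem_comap]
      simpa using hy
  let f : Localization.AtPrime (p.comap (e : R →+* S)) ≃+* Localization.AtPrime p :=
    IsLocalization.ringEquivOfRingEquiv (Localization.AtPrime (p.comap (e : R →+* S)))
      (Localization.AtPrime p) e hmap
  exact IsRegularLocalRing.of_ringEquiv f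

variable (k : Type u) [Field k] (X : Scheme.{u}) [X.Over (Spec (CommRingCat.of k))]

/-- the geometric `(R_n)` condition at a point, tested on finite extensions. -/
def GeomRk (n : ℕ) (x : X) : Prop :=
  ∀ (K : Type u) [Field K] [Algebra k K], Module.Finite k K →
    ∀ x' : Curv2.bc k X K, Curv2.bcFst k X K x' = x →
      LocCoh.HasRk n ((Curv2.bc k X K).presheaf.stalk x')

variable [LocallyOfFinitePresentation (X ↘ Spec (CommRingCat.of k))]

set_option synthInstance.maxHeartbeats 400000 in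
set_option maxHeartbeats 1600000 in
/-- **geometric `(R_n)` at a point** is smoothness at the generizations of codimension `≤ n`. -/
theorem geomRk_iff (n : ℕ) (x : X) :
    GeomRk k X n x ↔ ∀ z : X, z ⤳ x → ringKrullDim (X.presheaf.stalk z) ≤ n →
      z ∈ (X ↘ Spec (CommRingCat.of k)).smoothLocus := by
  haveI : IsLocallyNoetherian X :=
    LocallyOfFiniteType.isLocallyNoetherian (X ↘ Spec (CommRingCat.of k))
  obtain ⟨R, _, _, ι, _, hι, q₀, rfl⟩ := exists_chart k X x
  haveI hfpR : Algebra.FinitePresentation k R := by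
    have h1 : LocallyOfFinitePresentation (ι ≫ (X ↘ Spec (CommRingCat.of k))) := inferInstance
    rw [hι, LocallyOfFinitePresentation.SpecMap_iff, CommRingCat.hom_ofHom,
      RingHom.finitePresentation_algebraMap] at h1
    exact h1
  haveI : IsNoetherianRing R := Algebra.FiniteType.isNoetherianRing k R
  -- dimension of the local rings of chart points
  have hdimq : ∀ q : PrimeSpectrum R,
      ringKrullDim (X.presheaf.stalk (ι q)) = ((q.asIdeal.height : ℕ∞) : WithBot ℕ∞) := by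
    intro q
    rw [ringKrullDim_eq_of_ringEquiv (stalkEquivSpec ι q),
      IsLocalization.AtPrime.ringKrullDim_eq_height q.asIdeal (Localization.AtPrime q.asIdeal)]
  -- heights in finite extensions
  have hht : ∀ (K : Type u) [Field K] [Algebra k K], Module.Finite k K →
      ∀ Q : PrimeSpectrum (R ⊗[k] K), Q.asIdeal.height =
        (PrimeSpectrum.comap (Algebra.TensorProduct.includeLeftRingHom) Q).asIdeal.height := by
    intro K _ _ hfin Q
    haveI := hfin
    exact Groth.Agent.Lib.H5bEtLocal.height_eq_height_under (A := R) Q.asIdeal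
  constructor
  · intro h z hzx hdim
    have hzr : z ∈ Set.range ι := hzx.mem_open ι.isOpenEmbedding.isOpen_range ⟨q₀, rfl⟩
    obtain ⟨q, rfl⟩ := hzr
    have hle : q.asIdeal ≤ q₀.asIdeal := (PrimeSpectrum.le_iff_specializes q q₀).mpr
      (ι.isOpenEmbedding.isInducing.specializes_iff.mp hzx)
    rw [← Groth.Agent.Lib.Helper6.GeomRegAt.isGeomRegularAt_iff]
    apply isGeomRegularAt_of_purelyInseparable
    intro K _ _ hfin hpi x' hx'
    haveI := hfin
    obtain ⟨Q', hQ', ⟨e'⟩⟩ := exists_prime_of_point_left k X K ι hι x' q hx'.symm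
    have hQ'q : Q'.asIdeal.comap (algebraMap R (R ⊗[k] K)) ≤ q₀.asIdeal := by
      have : Q'.asIdeal.comap (algebraMap R (R ⊗[k] K)) = q.asIdeal :=
        congrArg PrimeSpectrum.asIdeal hQ'
      rw [this]
      exact hle
    obtain ⟨Q, hQ'Q, hQprime, hQover⟩ :=
      Ideal.exists_ideal_over_prime_of_isIntegral_of_isPrime q₀.asIdeal Q'.asIdeal hQ'q
    obtain ⟨x'', hx'', ⟨e''⟩⟩ := exists_point_of_prime_left k X K ι hι ⟨Q, hQprime⟩
    have hQ₀ : PrimeSpectrum.comap (Algebra.TensorProduct.includeLeftRingHom)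
        (⟨Q, hQprime⟩ : PrimeSpectrum (R ⊗[k] K)) = q₀ := PrimeSpectrum.ext hQover
    rw [hQ₀] at hx''
    have hRk := hasRk_of_ringEquiv e'' n (h K hfin x'' hx'')
    rw [hasRk_localization_atPrime_iff] at hRk
    have hreg := hRk Q'.asIdeal hQ'Q (by
      rw [hht K hfin Q', hQ']
      have h1 := hdim
      rw [hdimq q] at h1
      have h2 : (((q.asIdeal.height : ℕ∞)) : WithBot ℕ∞) ≤ (((n : ℕ) : ℕ∞) : WithBot ℕ∞) := h1
      exact WithBot.coe_le_coe.mp h2)
    exact IsRegularLocalRing.of_ringEquiv e'.symm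
  · intro h K _ _ hfin x' hx'
    haveI := hfin
    obtain ⟨Q, hQ, ⟨e⟩⟩ := exists_prime_of_point_left k X K ι hι x' q₀ hx'.symm
    refine hasRk_of_ringEquiv e.symm n ?_
    rw [hasRk_localization_atPrime_iff]
    intro Q' hQ'p hQ'Q hQ'ht
    set q' : PrimeSpectrum R := PrimeSpectrum.comap (Algebra.TensorProduct.includeLeftRingHom)
      (⟨Q', hQ'p⟩ : PrimeSpectrum (R ⊗[k] K)) with hq'
    have hq'le : q'.asIdeal ≤ q₀.asIdeal := by
      rw [← hQ]
      exact Ideal.comap_mono hQ'Q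
    have hspec : ι q' ⤳ ι q₀ :=
      ((PrimeSpectrum.le_iff_specializes q' q₀).mp hq'le).map ι.continuous
    have hsm := h (ι q') hspec (by
      have hh := hht K hfin ⟨Q', hQ'p⟩
      rw [hdimq q', ← hh]
      have h2 : (((Q'.height : ℕ∞)) : WithBot ℕ∞) ≤ (((n : ℕ) : ℕ∞) : WithBot ℕ∞) :=
        WithBot.coe_le_coe.mpr hQ'ht
      exact h2)
    rw [← Groth.Agent.Lib.Helper6.GeomRegAt.isGeomRegularAt_iff] at hsm
    obtain ⟨y', hy', ⟨e'⟩⟩ := exists_point_of_prime_left k X K ι hι ⟨Q', hQ'p⟩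
    have hfg : (⊤ : IntermediateField k K).FG := IntermediateField.fg_top k K
    haveI := hsm K hfg y' hy'
    exact IsRegularLocalRing.of_ringEquiv e'

end

-- ===== part NsC =====
section

open AlgebraicGeometry CategoryTheory Limits TensorProduct Topology
open Groth.Agent.Lib.Helper28 Groth.Agent.Lib.Helper5 Groth.Agent.Lib.Helper5.GenDepth
open Groth.Agent.Lib.H9ModFibAlg Groth.Agent.Lib.H9RectDepthAlg Groth.Agent.Lib.H9FibNumerics
open Groth.Agent.Lib.Helper5.CodepthOpen Groth.Agent.Lib.H9FibSkEquidim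

section Alg

variable {A B : Type u} [CommRing A] [CommRing B] [Algebra A B] [Algebra.FiniteType A B]
  (M : Type u) [AddCommGroup M] [Module B M] [Module.Finite B M]

attribute [local instance] Algebra.TensorProduct.rightAlgebra

/-- `(S_k)` of the fibre module at `q`, numerically. -/
theorem alg_hasSk_iff (k : ℕ) (q : Ideal B) [q.IsPrime] :
    LocCoh.HasSk k (EGA4.FibLocRing A B q) (EGA4.FibLocRing A B q ⊗[B] M) ↔
      ∀ (z : Ideal B) [z.IsPrime], z ≤ q → z.under A = q.under A →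
        min (k : WithBot ℕ∞) (fdm A M z) ≤ ((fdep A M z : ℕ∞) : WithBot ℕ∞) := by
  haveI : (q.under A).IsPrime := Ideal.comap_isPrime _ _
  obtain ⟨X', hX'⟩ := exists_fibMap_eq (q.under A) q rfl
  rw [fibLoc_congr (A := A) M (P := fun R _ N _ _ => LocCoh.HasSk k R N) hX'.symm,
    (semiInv_hasSk k).fibLoc_iff M (q.under A) X', fibre_hasSk_iff M k (q.under A) X', hX']

/-- equidimensionality of the fibre module at `q`, numerically. -/
theorem alg_isEquidim_iff (q : Ideal B) [q.IsPrime] :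
    EGA4.IsEquidimModule (EGA4.FibLocRing A B q) (EGA4.FibLocRing A B q ⊗[B] M) ↔
      ∀ (z : Ideal B) [z.IsPrime], z ≤ q → z.under A = q.under A → fdm A M z = 0 →
        ((ftd A z : ℕ) : WithBot ℕ∞) = fdm A M q + ((ftd A q : ℕ) : WithBot ℕ∞) := by
  haveI : (q.under A).IsPrime := Ideal.comap_isPrime _ _
  obtain ⟨X', hX'⟩ := exists_fibMap_eq (q.under A) q rfl
  obtain ⟨c1, c2⟩ := fdep_congr (A := A) M hX'
  have c3 := ftd_congr A _ _ hX'
  rw [fibLoc_congr (A := A) M (P := fun R _ N _ _ => EGA4.IsEquidimModule R N) hX'.symm,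
    semiInv_isEquidim.fibLoc_iff M (q.under A) X', fibre_isEquidim_iff M (q.under A) X', c2, c3,
    hX']

/-- the dimension of the fibre module at `q` is attained at a minimal fibrewise generization. -/
theorem alg_exists_min (q : Ideal B) [q.IsPrime] (hsupp : fdm A M q ≠ ⊥) :
    ∃ (z : Ideal B) (_ : z.IsPrime), z ≤ q ∧ z.under A = q.under A ∧ fdm A M z = 0 ∧
      ((ftd A z : ℕ) : WithBot ℕ∞) = fdm A M q + ((ftd A q : ℕ) : WithBot ℕ∞) := by
  haveI : (q.under A).IsPrime := Ideal.comap_isPrime _ _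
  obtain ⟨X', hX'⟩ := exists_fibMap_eq (q.under A) q rfl
  obtain ⟨c1, c2⟩ := fdep_congr (A := A) M hX'
  have c3 := ftd_congr A _ _ hX'
  have := fibre_exists_min M (q.under A) X' (by rw [c2]; exact hsupp)
  rw [c2, c3, hX'] at this
  exact this

end Alg

section Alg2

variable {A B : Type u} [CommRing A] [CommRing B] [Algebra A B] [Algebra.FiniteType A B]
  (M : Type u) [AddCommGroup M] [Module B M] [Module.Finite B M]

attribute [local instance] Algebra.TensorProduct.rightAlgebra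

/-- at a point of the support the fibre depth is finite and at most the fibre dimension. -/
theorem fdep_le_fdm (q : Ideal B) [q.IsPrime] (h : fdm A M q ≠ ⊥) :
    fdep A M q ≠ ⊤ ∧ ((fdep A M q : ℕ∞) : WithBot ℕ∞) ≤ fdm A M q := by
  haveI : (q.under A).IsPrime := Ideal.comap_isPrime _ _
  haveI : Algebra.FiniteType (q.under A).ResidueField ((q.under A).Fiber B) := inferInstance
  haveI hN : IsNoetherianRing ((q.under A).Fiber B) :=
    Algebra.FiniteType.isNoetherianRing (q.under A).ResidueField ((q.under A).Fiber B)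
  obtain ⟨X', hX'⟩ := exists_fibMap_eq (q.under A) q rfl
  obtain ⟨n1, n2⟩ := fibMap_numerics M (q.under A) X'
  obtain ⟨c1, c2⟩ := fdep_congr (A := A) M hX'
  rw [← c2, n2, dm_ne_bot_iff] at h
  rw [← c1, ← c2, n1, n2]
  refine ⟨dep_ne_top X'.asIdeal _ h, ?_⟩
  haveI : Nontrivial (LocalizedModule X'.asIdeal.primeCompl ((q.under A).Fiber B ⊗[B] M)) :=
    Module.mem_support_iff.mp h
  haveI : IsNoetherianRing (Localization.AtPrime X'.asIdeal) :=
    IsLocalization.isNoetherianRing X'.asIdeal.primeCompl _ inferInstance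
  exact Groth.Agent.Lib.Helper28.depth_le_supportDim

theorem fdep_eq_zero_of_fdm_eq_zero (q : Ideal B) [q.IsPrime] (h : fdm A M q = 0) :
    fdep A M q = 0 := by
  have hne : fdm A M q ≠ ⊥ := by
    rw [h]
    exact WithBot.coe_ne_bot
  obtain ⟨-, hle⟩ := fdep_le_fdm (A := A) M q hne
  rw [h] at hle
  have : ((fdep A M q : ℕ∞) : WithBot ℕ∞) ≤ ((0 : ℕ∞) : WithBot ℕ∞) := hle
  exact nonpos_iff_eq_zero.mp (WithBot.coe_le_coe.mp this)

theorem fdm_ne_bot_of_fdep_ne_top (q : Ideal B) [q.IsPrime] (h : fdep A M q ≠ ⊤) :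
    fdm A M q ≠ ⊥ := by
  haveI : (q.under A).IsPrime := Ideal.comap_isPrime _ _
  obtain ⟨X', hX'⟩ := exists_fibMap_eq (q.under A) q rfl
  obtain ⟨n1, n2⟩ := fibMap_numerics M (q.under A) X'
  obtain ⟨c1, c2⟩ := fdep_congr (A := A) M hX'
  rw [← c1, n1] at h
  rw [← c2, n2]
  intro hbot
  apply h
  haveI : Subsingleton (LocalizedModule X'.asIdeal.primeCompl ((q.under A).Fiber B ⊗[B] M)) := by
    rw [← Module.supportDim_eq_bot_iff_subsingleton (Localization.AtPrime X'.asIdeal)]
    exact hbot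
  exact depth_eq_top_of_subsingleton

end Alg2

section Self

variable {A B : Type u} [CommRing A] [CommRing B] [Algebra A B] [Algebra.FiniteType A B]

/-- the fibre local ring is in the support of `B`. -/
theorem fdm_self_ne_bot (q : Ideal B) [hq : q.IsPrime] : fdm A B q ≠ ⊥ := by
  rw [Groth.Agent.Lib.H9FibSuppOpen.fdm_ne_bot_iff, Module.mem_support_iff_exists_annihilator]
  refine ⟨1, fun r hr => ?_⟩
  rw [Submodule.mem_annihilator_span_singleton, smul_eq_mul, mul_one] at hr
  rw [hr]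
  exact zero_mem _

end Self

section RingForm

variable (R : Type u) [CommRing R]

theorem isEquidimModule_self_iff : EGA4.IsEquidimModule R R ↔ EGA4.IsEquidim R := by
  unfold EGA4.IsEquidimModule EGA4.IsEquidim
  have hann : Module.annihilator R R = ⊥ := by
    rw [eq_bot_iff]
    intro a ha
    rw [Module.mem_annihilator] at ha
    have := ha 1
    rw [smul_eq_mul, mul_one] at this
    rw [this]
    exact zero_mem _
  rw [hann, Module.supportDim_self_eq_ringKrullDim]

variable [IsNoetherianRing R]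

/-- `(S_1)` for a Noetherian ring: no embedded associated primes. -/
theorem hasSk_one_self_iff :
    LocCoh.HasSk 1 R R ↔ ∀ p ∈ associatedPrimes R R, p ∈ minimalPrimes R := by
  have hann : Module.annihilator R R = ⊥ := by
    rw [eq_bot_iff]
    intro a ha
    rw [Module.mem_annihilator] at ha
    have := ha 1
    rw [smul_eq_mul, mul_one] at this
    rw [this]
    exact zero_mem _
  constructor
  · intro h p hp
    haveI hpp : p.IsPrime := hp.isPrime
    have h0 : dep p R = 0 := (dep_eq_zero_iff R p).mpr hp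
    have h1 := h p
    change min ((1 : ℕ) : WithBot ℕ∞) (dm p R) ≤ ((dep p R : ℕ∞) : WithBot ℕ∞) at h1
    rw [h0, min_le_iff] at h1
    have hle : dm p R ≤ 0 := by
      rcases h1 with h1 | h1
      · exfalso
        have h2 : (((1 : ℕ) : ℕ∞) : WithBot ℕ∞) ≤ ((0 : ℕ∞) : WithBot ℕ∞) := h1
        have h3 := WithBot.coe_le_coe.mp h2
        simp at h3
      · exact h1
    have := (dm_le_zero_iff R p (mem_support_self p)).mp hle
    rw [hann] at this
    exact this
  · intro h p hp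
    change min ((1 : ℕ) : WithBot ℕ∞) (dm p R) ≤ ((dep p R : ℕ∞) : WithBot ℕ∞)
    by_cases h0 : dep p R = 0
    · have hass : p ∈ associatedPrimes R R := (dep_eq_zero_iff R p).mp h0
      have hmin := h p hass
      have hle : dm p R ≤ 0 := by
        rw [dm_le_zero_iff R p (mem_support_self p), hann]
        exact hmin
      rw [h0]
      exact (min_le_right _ _).trans hle
    · refine (min_le_left _ _).trans ?_
      have h1 : (1 : ℕ∞) ≤ dep p R := Order.one_le_iff_pos.mpr (pos_iff_ne_zero.mpr h0)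
      exact_mod_cast WithBot.coe_le_coe.mpr h1

end RingForm

end

-- ===== part NsD =====
section

open AlgebraicGeometry CategoryTheory Limits TensorProduct Topology
open Groth.Agent.Lib.Helper28 Groth.Agent.Lib.Helper5 Groth.Agent.Lib.Helper5.GenDepth
open Groth.Agent.Lib.H9ModFibAlg Groth.Agent.Lib.H9RectDepthAlg Groth.Agent.Lib.H9FibNumerics
open Groth.Agent.Lib.Helper5.CodepthOpen Groth.Agent.Lib.H9FibSkEquidim
open Groth.Agent.Lib.H9FibNumericsSch

/-- pairs of finite depth whose transcendence degree is at least `d - k`. -/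
def Sdk (d k : ℕ) : Set (ℕ∞ × ℕ) := {ij | ij.1 ≠ ⊤ ∧ d ≤ ij.2 + k}

theorem sDown_Sdk (d k : ℕ) : SDown (Sdk d k) := by
  rintro i i' j j' ⟨hi, hj⟩ hjj' hle
  simp only at hi hj
  refine ⟨?_, ?_⟩
  · intro htop
    change i' = ⊤ at htop
    rw [htop, top_add, top_le_iff] at hle
    rcases WithTop.add_eq_top.mp hle with h | h
    · exact hi h
    · exact ENat.natCast_ne_top j h
  · change d ≤ j' + k
    omega

theorem sFin_Sdk (d k : ℕ) : SFin (Sdk d k) := by
  rintro i j ⟨hi, -⟩
  exact hi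

section Pointwise

variable {A B : Type u} [CommRing A] [CommRing B] [Algebra A B] [Algebra.FiniteType A B]

/-- the three conditions of EGA IV 12.1.6 (geometric `(R_k)`, equidimensional, no embedded
component) at a prime `q`, numerically. -/
def GoodRk (A : Type u) {B : Type u} [CommRing A] [CommRing B] [Algebra A B] (k : ℕ)
    (q : PrimeSpectrum B) : Prop :=
  (∀ (z : Ideal B) [z.IsPrime], z ≤ q.asIdeal → z.under A = q.asIdeal.under A →
      min ((1 : ℕ) : WithBot ℕ∞) (fdm A B z) ≤ ((fdep A B z : ℕ∞) : WithBot ℕ∞)) ∧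
  (∀ (z : Ideal B) [z.IsPrime], z ≤ q.asIdeal → z.under A = q.asIdeal.under A →
      fdm A B z = 0 → ((ftd A z : ℕ) : WithBot ℕ∞) =
        fdm A B q.asIdeal + ((ftd A q.asIdeal : ℕ) : WithBot ℕ∞)) ∧
  (∀ (z : Ideal B) [hz : z.IsPrime], z ≤ q.asIdeal → z.under A = q.asIdeal.under A →
      fdm A B z ≤ ((k : ℕ) : WithBot ℕ∞) → (⟨z, hz⟩ : PrimeSpectrum B) ∈ Algebra.smoothLocus A B)

theorem withBot_natCast_inj {a b : ℕ} (h : ((a : ℕ) : WithBot ℕ∞) = ((b : ℕ) : WithBot ℕ∞)) :
    a = b := by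
  have h1 : (((a : ℕ) : ℕ∞) : WithBot ℕ∞) = (((b : ℕ) : ℕ∞) : WithBot ℕ∞) := h
  exact_mod_cast WithBot.coe_inj.mp h1

/-- if `fdm z + j = d` then `fdm z ≤ k ↔ d ≤ j + k`. -/
theorem fdm_le_iff_of_add_eq {m : WithBot ℕ∞} {j d k : ℕ}
    (h : ((d : ℕ) : WithBot ℕ∞) = m + ((j : ℕ) : WithBot ℕ∞)) :
    m ≤ ((k : ℕ) : WithBot ℕ∞) ↔ d ≤ j + k := by
  induction m using WithBot.recBotCoe with
  | bot => simp at h
  | coe m =>
    induction m using ENat.recTopCoe with
    | top =>
      exfalso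
      have h1 : (((d : ℕ) : ℕ∞) : WithBot ℕ∞) = (((⊤ : ℕ∞) + ((j : ℕ) : ℕ∞) : ℕ∞) : WithBot ℕ∞) := h
      have h2 := WithBot.coe_inj.mp h1
      simp at h2
    | coe m =>
      have h1 : (((d : ℕ) : ℕ∞) : WithBot ℕ∞) = ((((m + j : ℕ) : ℕ) : ℕ∞) : WithBot ℕ∞) := by
        refine Eq.trans h ?_
        push_cast
        rfl
      have h2 : d = m + j := by exact_mod_cast WithBot.coe_inj.mp h1
      have h3 : (((m : ℕ) : ℕ∞) : WithBot ℕ∞) ≤ ((k : ℕ) : WithBot ℕ∞) ↔ m ≤ k := by
        have : ((k : ℕ) : WithBot ℕ∞) = (((k : ℕ) : ℕ∞) : WithBot ℕ∞) := rfl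
        rw [this, WithBot.coe_le_coe, Nat.cast_le]
      rw [h3]
      omega

set_option maxHeartbeats 1600000 in
theorem goodRk_iff (k : ℕ) (q : PrimeSpectrum B) :
    GoodRk A k q ↔ ∃ d : ℕ, q ∉ Bad A B (ZC True A B) (SPhi ∅) ∧
      q ∉ Bad A B (ZC False A B) (SPhi {d}) ∧
      q ∉ Bad A B (ZC False A B ∩ (Algebra.smoothLocus A B)ᶜ) (Sdk d k) := by
  haveI := q.2
  constructor
  · rintro ⟨hN, hE, hG⟩
    obtain ⟨z₀, hz₀p, hz₀q, hz₀A, hz₀m, hz₀t⟩ := alg_exists_min (A := A) B q.asIdeal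
      (fdm_self_ne_bot q.asIdeal)
    -- depth zero implies dimension zero
    have hm0 : ∀ (z : Ideal B) [z.IsPrime], z ≤ q.asIdeal → z.under A = q.asIdeal.under A →
        fdep A B z = 0 → fdm A B z = 0 := by
      intro z _ hzq hzA h0
      have h1 := hN z hzq hzA
      rw [h0, min_le_iff] at h1
      have hle : fdm A B z ≤ 0 := by
        rcases h1 with h1 | h1
        · exfalso
          have h2 : (((1 : ℕ) : ℕ∞) : WithBot ℕ∞) ≤ ((0 : ℕ∞) : WithBot ℕ∞) := h1
          have h3 := WithBot.coe_le_coe.mp h2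
          simp at h3
        · exact h1
      have hne := fdm_self_ne_bot (A := A) z
      obtain ⟨m, hm⟩ := WithBot.ne_bot_iff_exists.mp hne
      rw [← hm] at hle ⊢
      have h2 : m ≤ 0 := WithBot.coe_le_coe.mp hle
      rw [nonpos_iff_eq_zero.mp h2]
      rfl
    refine ⟨ftd A z₀, ?_, ?_, ?_⟩
    · rintro ⟨z, ⟨hzZ, hzS⟩, hzq, hzA⟩
      haveI := z.2
      obtain ⟨h0, -⟩ := hzS
      simp only at h0
      apply hzZ trivial
      unfold CodLE
      rw [hm0 z.asIdeal hzq hzA h0, h0]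
      simp
    · rintro ⟨z, ⟨-, hzS⟩, hzq, hzA⟩
      haveI := z.2
      obtain ⟨h0, hn⟩ := hzS
      simp only at h0 hn
      apply hn
      rw [Finset.mem_singleton]
      have e1 := hE z.asIdeal hzq hzA (hm0 z.asIdeal hzq hzA h0)
      exact withBot_natCast_inj (e1.trans hz₀t.symm)
    · rintro ⟨z, ⟨⟨-, hzns⟩, hzS⟩, hzq, hzA⟩
      haveI := z.2
      obtain ⟨-, hd⟩ := hzS
      simp only at hd
      obtain ⟨z₁, hz₁p, hz₁z, hz₁A, hz₁m, hz₁t⟩ := alg_exists_min (A := A) B z.asIdeal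
        (fdm_self_ne_bot z.asIdeal)
      have e1 := hE z₁ (hz₁z.trans hzq) (hz₁A.trans hzA) hz₁m
      have e2 : ((ftd A z₀ : ℕ) : WithBot ℕ∞) =
          fdm A B z.asIdeal + ((ftd A z.asIdeal : ℕ) : WithBot ℕ∞) :=
        hz₀t.trans (e1.symm.trans hz₁t)
      have hle := (fdm_le_iff_of_add_eq e2 (k := k)).mpr hd
      exact hzns (hG z.asIdeal hzq hzA hle)
  · rintro ⟨d, h1, h2, h3⟩
    have hm0 : ∀ (z : Ideal B) [z.IsPrime], z ≤ q.asIdeal → z.under A = q.asIdeal.under A →
        fdep A B z = 0 → fdm A B z ≤ 0 := by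
      intro z hz hzq hzA h0
      by_contra hcon
      apply h1
      refine ⟨⟨z, hz⟩, ⟨fun _ hcod => hcon ?_, h0, Finset.notMem_empty _⟩, hzq, hzA⟩
      unfold CodLE at hcod
      rw [h0] at hcod
      simpa using hcod
    have hd : ∀ (z : Ideal B) [z.IsPrime], z ≤ q.asIdeal → z.under A = q.asIdeal.under A →
        fdm A B z = 0 → ftd A z = d := by
      intro z hz hzq hzA hm
      by_contra hcon
      apply h2
      refine ⟨⟨z, hz⟩, ⟨fun hf => hf.elim, fdep_eq_zero_of_fdm_eq_zero B z hm, ?_⟩, hzq, hzA⟩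
      simpa using hcon
    refine ⟨?_, ?_, ?_⟩
    · intro z hz hzq hzA
      by_cases h0 : fdep A B z = 0
      · rw [h0]
        exact (min_le_right _ _).trans (hm0 z hzq hzA h0)
      · refine (min_le_left _ _).trans ?_
        have h1' : (1 : ℕ∞) ≤ fdep A B z := Order.one_le_iff_pos.mpr (pos_iff_ne_zero.mpr h0)
        exact_mod_cast WithBot.coe_le_coe.mpr h1'
    · intro z hz hzq hzA hm
      obtain ⟨z₀, hz₀p, hz₀q, hz₀A, hz₀m, hz₀t⟩ := alg_exists_min (A := A) B q.asIdeal
        (fdm_self_ne_bot q.asIdeal)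
      rw [← hz₀t, hd z hzq hzA hm, hd z₀ hz₀q hz₀A hz₀m]
    · intro z hz hzq hzA hle
      by_contra hns
      apply h3
      obtain ⟨z₁, hz₁p, hz₁z, hz₁A, hz₁m, hz₁t⟩ := alg_exists_min (A := A) B z
        (fdm_self_ne_bot z)
      have e1 := hd z₁ (hz₁z.trans hzq) (hz₁A.trans hzA) hz₁m
      rw [e1] at hz₁t
      refine ⟨⟨z, hz⟩, ⟨⟨fun hf => hf.elim, hns⟩, ?_, ?_⟩, hzq, hzA⟩
      · exact (fdep_le_fdm (A := A) B z (fdm_self_ne_bot z)).1
      · exact (fdm_le_iff_of_add_eq hz₁t (k := k)).mp hle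

end Pointwise

section Open

variable {A B : Type u} [CommRing A] [CommRing B] [Algebra A B]
  [Algebra.FinitePresentation A B] [Module.Flat A B]

/-- **EGA IV 12.1.6 (algebraic form)**. -/
theorem isOpen_goodRk (k : ℕ) : IsOpen {q : PrimeSpectrum B | GoodRk A k q} := by
  have h1 := (isClosed_bad_fp True (sDown_SPhi ∅) (sFin_SPhi ∅) (A := A) (B := B) B).isOpen_compl
  have h2 : ∀ d : ℕ, IsOpen (Bad A B (ZC False A B) (SPhi {d}) : Set (PrimeSpectrum B))ᶜ :=
    fun d => (isClosed_bad_fp False (sDown_SPhi {d}) (sFin_SPhi {d}) (A := A) (B := B)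
      B).isOpen_compl
  have h3 : ∀ d : ℕ, IsOpen (Bad A B (ZC False A B ∩ (Algebra.smoothLocus A B)ᶜ) (Sdk d k) :
      Set (PrimeSpectrum B))ᶜ :=
    fun d => (isClosed_bad_fp_ns False (sDown_Sdk d k) (sFin_Sdk d k) (A := A)
      (B := B)).isOpen_compl
  have h4 := isOpen_iUnion fun d => (h1.inter (h2 d)).inter (h3 d)
  convert h4 using 1
  ext q
  simp only [Set.mem_ofPred_eq, Set.mem_iUnion, Set.mem_inter_iff, Set.mem_compl_iff]
  rw [goodRk_iff]
  constructor
  · rintro ⟨d, a, b, c⟩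
    exact ⟨d, ⟨a, b⟩, c⟩
  · rintro ⟨d, ⟨a, b⟩, c⟩
    exact ⟨d, a, b, c⟩

end Open

end

-- ===== part NsE =====
section

open AlgebraicGeometry CategoryTheory Limits IsLocalRing TensorProduct Topology
open Groth.Agent.Lib.Helper28 Groth.Agent.Lib.Helper5 Groth.Agent.Lib.Helper5.GenDepth
open Groth.Agent.Lib.H9ModFibAlg Groth.Agent.Lib.H9ModFibSch
open Groth.Agent.Lib.Helper4.DimFormula Groth.Agent.Lib.Helper4.VarDim Groth.Agent.Lib.Helper4.FibDim
open Groth.Agent.Lib.H9RectDepthAlg Groth.Agent.Lib.H9RectDepthSch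
open Groth.Agent.Lib.H9FibNumerics Groth.Agent.Lib.H9FibNumericsSch
open Groth.Agent.Lib.H9FibSkEquidim
open Groth.Agent.Lib.Helper2.FlatOver Groth.Agent.Lib.Helper1.Sky

section RingDict

variable {X Y : Scheme.{u}} (f : X ⟶ Y) {U : X.Opens} (hU : IsAffineOpen U)
  {V : Y.Opens} (hV : IsAffineOpen V) (e : U ≤ f ⁻¹ᵁ V)

include hV in
set_option synthInstance.maxHeartbeats 400000 in
set_option maxHeartbeats 3200000 in
/-- **Chart form of the fibre local ring**, for any property invariant under semilinear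
isomorphisms, applied to the ring as a module over itself. -/
theorem SemiInv.fiber_ring_stalk_iff
    {P : ∀ (R : Type u) [CommRing R] (N : Type u) [AddCommGroup N] [Module R N], Prop}
    (hP : SemiInv P) (hft : (f.appLE V U e).hom.FiniteType)
    (y : Y) (z : f.fiber y) (hzU : f.fiberι y z ∈ U) :
    letI : Algebra Γ(Y, V) Γ(X, U) := (f.appLE V U e).hom.toAlgebra
    P ((f.fiber y).presheaf.stalk z) ((f.fiber y).presheaf.stalk z) ↔
      P (EGA4.FibLocRing Γ(Y, V) Γ(X, U) (hU.primeIdealOf ⟨f.fiberι y z, hzU⟩).asIdeal)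
        (EGA4.FibLocRing Γ(Y, V) Γ(X, U) (hU.primeIdealOf ⟨f.fiberι y z, hzU⟩).asIdeal ⊗[Γ(X, U)]
          Γ(X, U)) := by
  letI aVU : Algebra Γ(Y, V) Γ(X, U) := (f.appLE V U e).hom.toAlgebra
  haveI : Algebra.FiniteType Γ(Y, V) Γ(X, U) := hft
  set x' : X := f.fiberι y z with hx'
  set q : Ideal Γ(X, U) := (hU.primeIdealOf ⟨x', hzU⟩).asIdeal with hq
  -- the rings
  letI aBS : Algebra Γ(X, U) (X.presheaf.stalk x') :=
    TopCat.Presheaf.algebra_section_stalk X.presheaf ⟨x', hzU⟩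
  haveI hlocS : IsLocalization.AtPrime (X.presheaf.stalk x') q := hU.isLocalization_stalk ⟨x', hzU⟩
  letI aSR : Algebra (X.presheaf.stalk x') ((f.fiber y).presheaf.stalk z) :=
    ((f.fiberι y).stalkMap z).hom.toAlgebra
  letI aBR : Algebra Γ(X, U) ((f.fiber y).presheaf.stalk z) :=
    ((algebraMap (X.presheaf.stalk x') ((f.fiber y).presheaf.stalk z)).comp
      (algebraMap Γ(X, U) (X.presheaf.stalk x'))).toAlgebra
  haveI tBSR : IsScalarTower Γ(X, U) (X.presheaf.stalk x') ((f.fiber y).presheaf.stalk z) :=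
    .of_algebraMap_eq' rfl
  -- the ring identification
  have hsurj : Function.Surjective (algebraMap (X.presheaf.stalk x')
      ((f.fiber y).presheaf.stalk z)) := (f.fiberι y).stalkMap_surjective z
  have hker : RingHom.ker (algebraMap (X.presheaf.stalk x') ((f.fiber y).presheaf.stalk z)) =
      ((q.comap (algebraMap Γ(Y, V) Γ(X, U))).map (algebraMap Γ(Y, V) Γ(X, U))).map
        (algebraMap Γ(X, U) (X.presheaf.stalk x')) := by
    have h0 : RingHom.ker (algebraMap (X.presheaf.stalk x') ((f.fiber y).presheaf.stalk z)) =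
        RingHom.ker ((f.fiberι y).stalkMap z).hom := rfl
    rw [h0, ker_stalkMap_fiberι f y z]
    letI aAS : Algebra Γ(Y, V) (Y.presheaf.stalk (f x')) :=
      TopCat.Presheaf.algebra_section_stalk Y.presheaf ⟨f x', e hzU⟩
    haveI := hV.isLocalization_stalk ⟨f x', e hzU⟩
    have hp : q.comap (algebraMap Γ(Y, V) Γ(X, U)) =
        (hV.primeIdealOf ⟨f x', e hzU⟩).asIdeal := by
      have h1 := IsAffineOpen.comap_primeIdealOf_appLE (f := f) V hV U hU e hzU
      have := congrArg PrimeSpectrum.asIdeal h1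
      rw [PrimeSpectrum.comap_asIdeal] at this
      exact this
    rw [hp, ← IsLocalization.AtPrime.map_eq_maximalIdeal
      (hV.primeIdealOf ⟨f x', e hzU⟩).asIdeal (Y.presheaf.stalk (f x')), Ideal.map_map,
      Ideal.map_map]
    congr 1
    ext a
    exact stalkMap_germ_eq f e x' hzU a
  obtain ⟨eR⟩ := nonempty_algEquiv_fibLocRing (A := Γ(Y, V)) q (X.presheaf.stalk x')
    ((f.fiber y).presheaf.stalk z) hsurj hker
  haveI hNR := isNoetherianRing_fibLocRing (A := Γ(Y, V)) q
  haveI hNR' : IsNoetherianRing ((f.fiber y).presheaf.stalk z) :=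
    isNoetherianRing_of_ringEquiv _ eR.symm.toRingEquiv
  let E : ((f.fiber y).presheaf.stalk z) ≃ₗ[(f.fiber y).presheaf.stalk z]
      ((f.fiber y).presheaf.stalk z) ⊗[Γ(X, U)] Γ(X, U) :=
    (TensorProduct.AlgebraTensorModule.rid Γ(X, U) ((f.fiber y).presheaf.stalk z)
      ((f.fiber y).presheaf.stalk z)).symm
  rw [hP.of_linearEquiv E]
  exact hP.hub_congr Γ(X, U) (R := (f.fiber y).presheaf.stalk z)
    (R' := EGA4.FibLocRing Γ(Y, V) Γ(X, U) q) eR

include hV in
/-- the same at `f.asFiber x`. -/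
theorem SemiInv.fiber_ring_dict
    {P : ∀ (R : Type u) [CommRing R] (N : Type u) [AddCommGroup N] [Module R N], Prop}
    (hP : SemiInv P) (hft : (f.appLE V U e).hom.FiniteType) (x : X) (hxU : x ∈ U) :
    letI : Algebra Γ(Y, V) Γ(X, U) := (f.appLE V U e).hom.toAlgebra
    P ((f.fiber (f.base x)).presheaf.stalk (f.asFiber x))
        ((f.fiber (f.base x)).presheaf.stalk (f.asFiber x)) ↔
      P (EGA4.FibLocRing Γ(Y, V) Γ(X, U) (hU.primeIdealOf ⟨x, hxU⟩).asIdeal)
        (EGA4.FibLocRing Γ(Y, V) Γ(X, U) (hU.primeIdealOf ⟨x, hxU⟩).asIdeal ⊗[Γ(X, U)]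
          Γ(X, U)) := by
  letI aVU : Algebra Γ(Y, V) Γ(X, U) := (f.appLE V U e).hom.toAlgebra
  have hzU : f.fiberι (f.base x) (f.asFiber x) ∈ U := by
    rw [f.fiberι_asFiber x]
    exact hxU
  have hpt : (hU.primeIdealOf ⟨f.fiberι (f.base x) (f.asFiber x), hzU⟩).asIdeal =
      (hU.primeIdealOf ⟨x, hxU⟩).asIdeal := by
    congr 2
    exact Subtype.ext (f.fiberι_asFiber x)
  rw [SemiInv.fiber_ring_stalk_iff f hU hV e hP hft (f.base x) (f.asFiber x) hzU]
  exact fibLoc_congr (A := Γ(Y, V)) Γ(X, U) (P := P) hpt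

end RingDict

section SuppDim

variable {R R' : Type u} [CommRing R] [CommRing R'] {N N' : Type u} [AddCommGroup N] [Module R N]
  [AddCommGroup N'] [Module R' N'] (σ : R ≃+* R') (g : N ≃+ N')
  (hg : ∀ (r : R) (n : N), g (r • n) = σ r • g n)

include hg in
theorem supportDim_semilinear [Module.Finite R N] [Module.Finite R' N'] :
    Module.supportDim R N = Module.supportDim R' N' := by
  have hann := annihilator_semilinear σ g hg
  rw [Module.supportDim_eq_ringKrullDim_quotient_annihilator,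
    Module.supportDim_eq_ringKrullDim_quotient_annihilator]
  have e2 : (R ⧸ Module.annihilator R N) ≃+* (R' ⧸ Module.annihilator R' N') :=
    Ideal.quotientEquiv _ _ σ (by
      rw [hann]
      exact (Ideal.map_comap_of_surjective (σ : R →+* R') σ.surjective _).symm)
  exact ringKrullDim_eq_of_ringEquiv e2

end SuppDim

theorem semiInv_supportDim_le (c : WithBot ℕ∞) :
    SemiInv.{u} (fun R _ N _ _ => Module.supportDim R N ≤ c) where
  lin R _ _ N N' _ _ _ _ _ e h := by
    haveI : Module.Finite R N' := Module.Finite.equiv e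
    rw [← supportDim_semilinear (RingEquiv.refl R) e.toAddEquiv (fun r n => e.map_smul r n)]
    exact h
  hub B _ M _ _ _ R R' _ _ _ _ _ _ e h := by
    rw [← supportDim_semilinear e.toRingEquiv (hubEquiv M e).toAddEquiv
      (fun r t => hubEquiv_smul M e r t)]
    exact h

section Pointwise

variable {X Y : Scheme.{u}} (f : X ⟶ Y)

theorem exists_chart_ring [LocallyOfFinitePresentation f] (x : X) :
    ∃ (U : X.Opens) (hU : IsAffineOpen U) (V : Y.Opens) (hV : IsAffineOpen V) (hUV : U ≤ f ⁻¹ᵁ V),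
      x ∈ U ∧ (f.appLE V U hUV).hom.FinitePresentation := by
  obtain ⟨V, hV, hxV⟩ : ∃ V : Y.Opens, IsAffineOpen V ∧ f.base x ∈ V := by
    obtain ⟨_, ⟨V, hV, rfl⟩, hxV, -⟩ :=
      Y.isBasis_affineOpens.exists_subset_of_mem_open (Set.mem_univ (f.base x)) isOpen_univ
    exact ⟨V, hV, hxV⟩
  obtain ⟨_, ⟨U, hU, rfl⟩, hxU, hUV⟩ :=
    X.isBasis_affineOpens.exists_subset_of_mem_open (show x ∈ (f ⁻¹ᵁ V : Set X) from hxV)
      (f ⁻¹ᵁ V).isOpen
  have hfp : (f.appLE V U hUV).hom.FinitePresentation :=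
    HasRingHomProperty.appLE (P := @LocallyOfFinitePresentation) f inferInstance ⟨V, hV⟩ ⟨U, hU⟩ hUV
  exact ⟨U, hU, V, hV, hUV, hxU, hfp⟩

theorem isNoetherianRing_fiber_stalk [LocallyOfFiniteType f] (y : Y) (z : f.fiber y) :
    IsNoetherianRing ((f.fiber y).presheaf.stalk z) := by
  haveI : LocallyOfFiniteType (f.fiberToSpecResidueField y) :=
    locallyOfFiniteType_fiberToSpecResidueField f y
  haveI : IsLocallyNoetherian (f.fiber y) :=
    LocallyOfFiniteType.isLocallyNoetherian (f.fiberToSpecResidueField y)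
  infer_instance

variable {U : X.Opens} (hU : IsAffineOpen U) {V : Y.Opens} (hV : IsAffineOpen V)
  (hUV : U ≤ f ⁻¹ᵁ V)

include hV in
theorem isEquidim_stalk_chart (hft : (f.appLE V U hUV).hom.FiniteType) (x : X) (hxU : x ∈ U) :
    letI : Algebra Γ(Y, V) Γ(X, U) := (f.appLE V U hUV).hom.toAlgebra
    EGA4.IsEquidim ((f.fiber (f.base x)).presheaf.stalk (f.asFiber x)) ↔
      ∀ (z : Ideal Γ(X, U)) [z.IsPrime], z ≤ (hU.primeIdealOf ⟨x, hxU⟩).asIdeal →
        z.under Γ(Y, V) = (hU.primeIdealOf ⟨x, hxU⟩).asIdeal.under Γ(Y, V) →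
        fdm Γ(Y, V) Γ(X, U) z = 0 →
        ((ftd Γ(Y, V) z : ℕ) : WithBot ℕ∞) =
          fdm Γ(Y, V) Γ(X, U) (hU.primeIdealOf ⟨x, hxU⟩).asIdeal +
            ((ftd Γ(Y, V) (hU.primeIdealOf ⟨x, hxU⟩).asIdeal : ℕ) : WithBot ℕ∞) := by
  letI aVU : Algebra Γ(Y, V) Γ(X, U) := (f.appLE V U hUV).hom.toAlgebra
  haveI : Algebra.FiniteType Γ(Y, V) Γ(X, U) := hft
  rw [← isEquidimModule_self_iff]
  exact (SemiInv.fiber_ring_dict f hU hV hUV semiInv_isEquidim hft x hxU).trans
    (alg_isEquidim_iff Γ(X, U) _)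

include hV in
theorem noEmb_stalk_chart [LocallyOfFiniteType f] (hft : (f.appLE V U hUV).hom.FiniteType)
    (x : X) (hxU : x ∈ U) :
    letI : Algebra Γ(Y, V) Γ(X, U) := (f.appLE V U hUV).hom.toAlgebra
    (∀ p ∈ associatedPrimes ((f.fiber (f.base x)).presheaf.stalk (f.asFiber x))
        ((f.fiber (f.base x)).presheaf.stalk (f.asFiber x)),
        p ∈ minimalPrimes ((f.fiber (f.base x)).presheaf.stalk (f.asFiber x))) ↔
      ∀ (z : Ideal Γ(X, U)) [z.IsPrime], z ≤ (hU.primeIdealOf ⟨x, hxU⟩).asIdeal →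
        z.under Γ(Y, V) = (hU.primeIdealOf ⟨x, hxU⟩).asIdeal.under Γ(Y, V) →
        min ((1 : ℕ) : WithBot ℕ∞) (fdm Γ(Y, V) Γ(X, U) z) ≤
          ((fdep Γ(Y, V) Γ(X, U) z : ℕ∞) : WithBot ℕ∞) := by
  letI aVU : Algebra Γ(Y, V) Γ(X, U) := (f.appLE V U hUV).hom.toAlgebra
  haveI : Algebra.FiniteType Γ(Y, V) Γ(X, U) := hft
  haveI := isNoetherianRing_fiber_stalk f (f.base x) (f.asFiber x)
  rw [← hasSk_one_self_iff]
  exact (SemiInv.fiber_ring_dict f hU hV hUV (semiInv_hasSk 1) hft x hxU).trans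
    (alg_hasSk_iff Γ(X, U) 1 _)

include hV in
theorem dim_stalk_chart (hft : (f.appLE V U hUV).hom.FiniteType) (x : X) (hxU : x ∈ U)
    (c : WithBot ℕ∞) :
    letI : Algebra Γ(Y, V) Γ(X, U) := (f.appLE V U hUV).hom.toAlgebra
    ringKrullDim ((f.fiber (f.base x)).presheaf.stalk (f.asFiber x)) ≤ c ↔
      fdm Γ(Y, V) Γ(X, U) (hU.primeIdealOf ⟨x, hxU⟩).asIdeal ≤ c := by
  letI aVU : Algebra Γ(Y, V) Γ(X, U) := (f.appLE V U hUV).hom.toAlgebra
  rw [← Module.supportDim_self_eq_ringKrullDim]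
  exact SemiInv.fiber_ring_dict f hU hV hUV (semiInv_supportDim_le c) hft x hxU

include hV in
theorem mem_lsm_chart [LocallyOfFinitePresentation f] [Flat f] (x : X) (hxU : x ∈ U) :
    letI : Algebra Γ(Y, V) Γ(X, U) := (f.appLE V U hUV).hom.toAlgebra
    x ∈ Groth.Agent.Lib.Helper5.FibSmConstr.Lsm f ↔
      hU.primeIdealOf ⟨x, hxU⟩ ∈ Algebra.smoothLocus Γ(Y, V) Γ(X, U) := by
  rw [Groth.Agent.Lib.Helper5.FibSmConstr.mem_lsm_iff_of_flat f x (Flat.stalkMap f x)]
  exact formallySmooth_stalkMap_iff V hV U hU hUV hxU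

end Pointwise

end

-- ===== part NsF =====
section

open AlgebraicGeometry CategoryTheory Limits IsLocalRing TensorProduct Topology
open Groth.Agent.Lib.Helper28 Groth.Agent.Lib.Helper5 Groth.Agent.Lib.Helper5.GenDepth
open Groth.Agent.Lib.H9ModFibAlg Groth.Agent.Lib.H9ModFibSch
open Groth.Agent.Lib.H9RectDepthAlg Groth.Agent.Lib.H9RectDepthSch
open Groth.Agent.Lib.H9FibNumerics Groth.Agent.Lib.H9FibNumericsSch
open Groth.Agent.Lib.H9FibSkEquidim
open Groth.Agent.Lib.Helper5.FibSmConstr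

variable {X Y : Scheme.{u}} (f : X ⟶ Y)

/-- the geometric `(R_k)` condition of the fibre at a point, as in the statements. -/
def GeomRkFib (k : ℕ) (x : X) : Prop :=
  ∀ (K : Type u) [Field K] [Algebra (IsLocalRing.ResidueField (Y.presheaf.stalk (f.base x))) K],
    Module.Finite (IsLocalRing.ResidueField (Y.presheaf.stalk (f.base x))) K →
    ∀ x' : ↥(FBase.bc (f.fiberToSpecResidueField (f.base x)) K),
      (FBase.bcπ (f.fiberToSpecResidueField (f.base x)) K).base x' = f.asFiber x →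
      LocCoh.HasRk k ((FBase.bc (f.fiberToSpecResidueField (f.base x)) K).presheaf.stalk x')

theorem geomRkFib_iff [LocallyOfFinitePresentation f] (k : ℕ) (x : X) :
    GeomRkFib f k x ↔ ∀ x' : X, f x' = f x → x' ⤳ x →
      ringKrullDim ((f.fiber (f.base x')).presheaf.stalk (f.asFiber x')) ≤ k → x' ∈ Lsm f := by
  letI : (f.fiber (f x)).Over (Spec (CommRingCat.of (IsLocalRing.ResidueField
      (Y.presheaf.stalk (f.base x))))) := ⟨f.fiberToSpecResidueField (f x)⟩
  haveI : LocallyOfFinitePresentation ((f.fiber (f x)) ↘ Spec (CommRingCat.of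
      (IsLocalRing.ResidueField (Y.presheaf.stalk (f.base x))))) :=
    lfp_fiberToSpecResidueField f (f x)
  have h1 : GeomRkFib f k x ↔ GeomRk (IsLocalRing.ResidueField (Y.presheaf.stalk (f.base x)))
      (f.fiber (f x)) k (f.asFiber x) :=
    ⟨fun h K _ _ hK y hy => h K hK y hy, fun h K _ _ hK y hy => h K hK y hy⟩
  rw [h1, geomRk_iff]
  have h2 := forall_fiber_spec_iff f x (fun y z => ringKrullDim ((f.fiber y).presheaf.stalk z) ≤ k →
    ((f.fiberToSpecResidueField y).stalkMap z).hom.FormallySmooth)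
  refine Iff.trans ?_ h2
  refine forall_congr' fun z => ?_
  rw [specializes_iff_mem_closure]
  rfl

section Chart

variable {U : X.Opens} (hU : IsAffineOpen U) {V : Y.Opens} (hV : IsAffineOpen V)
  (hUV : U ≤ f ⁻¹ᵁ V)

include hV in
theorem geomRkFib_chart [LocallyOfFinitePresentation f] [Flat f]
    (hft : (f.appLE V U hUV).hom.FiniteType) (k : ℕ) (x : X) (hxU : x ∈ U) :
    letI : Algebra Γ(Y, V) Γ(X, U) := (f.appLE V U hUV).hom.toAlgebra
    GeomRkFib f k x ↔
      ∀ (z : Ideal Γ(X, U)) [hz : z.IsPrime], z ≤ (hU.primeIdealOf ⟨x, hxU⟩).asIdeal →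
        z.under Γ(Y, V) = (hU.primeIdealOf ⟨x, hxU⟩).asIdeal.under Γ(Y, V) →
        fdm Γ(Y, V) Γ(X, U) z ≤ ((k : ℕ) : WithBot ℕ∞) →
        (⟨z, hz⟩ : PrimeSpectrum Γ(X, U)) ∈ Algebra.smoothLocus Γ(Y, V) Γ(X, U) := by
  letI aVU : Algebra Γ(Y, V) Γ(X, U) := (f.appLE V U hUV).hom.toAlgebra
  rw [geomRkFib_iff]
  have h1 := forall_fibGen_chart f hU hV hUV x hxU
    (fun x' => ringKrullDim ((f.fiber (f.base x')).presheaf.stalk (f.asFiber x')) ≤ k →
      x' ∈ Lsm f)
    (fun z => fdm Γ(Y, V) Γ(X, U) z.asIdeal ≤ ((k : ℕ) : WithBot ℕ∞) →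
      z ∈ Algebra.smoothLocus Γ(Y, V) Γ(X, U))
    (fun x' h => by
      have e1 := dim_stalk_chart f hU hV hUV hft x' h ((k : ℕ) : WithBot ℕ∞)
      have e2 := mem_lsm_chart f hU hV hUV x' h
      exact imp_congr e1 e2)
  refine h1.trans ?_
  constructor
  · intro h z hz hzq hzA hm
    exact h ⟨z, hz⟩ hzq hzA hm
  · intro h z hzq hzA hm
    haveI := z.2
    exact h z.asIdeal hzq hzA hm

include hV in
theorem goodRk_chart [LocallyOfFinitePresentation f] [Flat f]
    (hft : (f.appLE V U hUV).hom.FiniteType) (k : ℕ) (x : X) (hxU : x ∈ U) :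
    letI : Algebra Γ(Y, V) Γ(X, U) := (f.appLE V U hUV).hom.toAlgebra
    (GeomRkFib f k x ∧
      EGA4.IsEquidim ((f.fiber (f.base x)).presheaf.stalk (f.asFiber x)) ∧
      (∀ p ∈ associatedPrimes ((f.fiber (f.base x)).presheaf.stalk (f.asFiber x))
        ((f.fiber (f.base x)).presheaf.stalk (f.asFiber x)),
        p ∈ minimalPrimes ((f.fiber (f.base x)).presheaf.stalk (f.asFiber x)))) ↔
      GoodRk Γ(Y, V) k (hU.primeIdealOf ⟨x, hxU⟩) := by
  letI aVU : Algebra Γ(Y, V) Γ(X, U) := (f.appLE V U hUV).hom.toAlgebra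
  have e1 := geomRkFib_chart f hU hV hUV hft k x hxU
  have e2 := isEquidim_stalk_chart f hU hV hUV hft x hxU
  have e3 := noEmb_stalk_chart f hU hV hUV hft x hxU
  unfold GoodRk
  constructor
  · rintro ⟨a, b, c⟩
    exact ⟨e3.mp c, e2.mp b, e1.mp a⟩
  · rintro ⟨c, b, a⟩
    exact ⟨e1.mpr a, e2.mpr b, e3.mpr c⟩

end Chart

set_option synthInstance.maxHeartbeats 400000 in
set_option maxHeartbeats 1600000 in
/-- **EGA IV 12.1.6 (first form)**. -/
theorem isOpen_geomRk_equidim_noEmb [Flat f] [LocallyOfFinitePresentation f] (k : ℕ) :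
    IsOpen {x : X | GeomRkFib f k x ∧
      EGA4.IsEquidim ((f.fiber (f.base x)).presheaf.stalk (f.asFiber x)) ∧
      (∀ p ∈ associatedPrimes ((f.fiber (f.base x)).presheaf.stalk (f.asFiber x))
        ((f.fiber (f.base x)).presheaf.stalk (f.asFiber x)),
        p ∈ minimalPrimes ((f.fiber (f.base x)).presheaf.stalk (f.asFiber x)))} := by
  rw [isOpen_iff_forall_mem_open]
  intro x hx
  obtain ⟨U, hU, V, hV, hUV, hxU, hfp⟩ := exists_chart_ring f x
  letI aVU : Algebra Γ(Y, V) Γ(X, U) := (f.appLE V U hUV).hom.toAlgebra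
  haveI : Algebra.FinitePresentation Γ(Y, V) Γ(X, U) := hfp
  haveI : Module.Flat Γ(Y, V) Γ(X, U) :=
    HasRingHomProperty.appLE (P := @Flat) f inferInstance ⟨V, hV⟩ ⟨U, hU⟩ hUV
  have hft : (f.appLE V U hUV).hom.FiniteType := RingHom.FiniteType.of_finitePresentation hfp
  have hopen := isOpen_goodRk (A := Γ(Y, V)) (B := Γ(X, U)) k
  set W : Set X := Subtype.val '' ((fun y : U => hU.primeIdealOf y) ⁻¹'
    {q | GoodRk Γ(Y, V) k q}) with hW
  have hWopen : IsOpen W := by
    apply U.isOpen.isOpenMap_subtype_val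
    exact hopen.preimage hU.isoSpec.hom.continuous
  refine ⟨W, ?_, hWopen, ?_⟩
  · rintro _ ⟨⟨x', hx'U⟩, hx', rfl⟩
    exact (goodRk_chart f hU hV hUV hft k x' hx'U).mpr hx'
  · exact ⟨⟨x, hxU⟩, (goodRk_chart f hU hV hUV hft k x hxU).mp hx, rfl⟩

end

end Groth.Agent.Lib.H9FibGeomRk
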