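import Mathlib
import Groth.Prelude.Def_CAlgX

/-!
# Base change of quasi-regular sequences with flat quotient (helper6)
-/

set_option autoImplicit false
universe u

open MvPolynomial TensorProduct

namespace Groth.Agent.Lib.H6xQRegBC

section Translate

variable {R : Type u} [CommRing R] {r : ℕ}

/-- The index set: exponent vectors of total degree `n`. -/
abbrev Idx (r n : ℕ) : Type := ↥((Finset.univ : Finset (Fin r)).finsuppAntidiag n)

/-- The monomial in `g` with exponent `s`. -/
def mon (g : Fin r → R) (s : Fin r →₀ ℕ) : R := ∏ i ∈ s.support, g i ^ s i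

theorem degree_of_mem {n : ℕ} {s : Fin r →₀ ℕ}
    (hs : s ∈ (Finset.univ : Finset (Fin r)).finsuppAntidiag n) : s.degree = n := by
  rw [Finset.mem_finsuppAntidiag] at hs
  rw [Finsupp.degree_apply, ← hs.1]
  exact Finset.sum_subset (Finset.subset_univ _) (fun i _ hi => by simpa using hi)

theorem mem_of_degree {n : ℕ} {s : Fin r →₀ ℕ} (hs : s.degree = n) :
    s ∈ (Finset.univ : Finset (Fin r)).finsuppAntidiag n := by
  rw [Finset.mem_finsuppAntidiag]
  refine ⟨?_, Finset.subset_univ _⟩
  rw [← hs, Finsupp.degree_apply]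
  exact (Finset.sum_subset (Finset.subset_univ _) (fun i _ hi => by simpa using hi)).symm

/-- The tuple formulation of quasi-regularity. -/
def QR (g : Fin r → R) : Prop :=
  ∀ (n : ℕ) (c : Idx r n → R), ∑ t, c t * mon g t.1 ∈ Ideal.span (Set.range g) ^ (n + 1) →
    ∀ t, c t ∈ Ideal.span (Set.range g)

theorem qr_of_isQuasiRegular (g : Fin r → R) (h : CAlgX.IsQuasiRegular g) : QR g := by
  classical
  intro n c hc t₀
  let P : MvPolynomial (Fin r) R := ∑ t : Idx r n, monomial t.1 (c t)
  have hP : P.IsHomogeneous n := by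
    apply IsHomogeneous.sum
    intro t _
    exact isHomogeneous_monomial _ (degree_of_mem t.2)
  have hev : eval g P = ∑ t, c t * mon g t.1 := by
    simp only [P, map_sum, eval_monomial]
    rfl
  have := h n P hP (by rw [hev]; exact hc) t₀.1
  have hco : P.coeff t₀.1 = c t₀ := by
    simp only [P, coeff_sum, coeff_monomial]
    rw [Finset.sum_eq_single t₀]
    · simp
    · intro t _ ht
      rw [if_neg]
      intro h'
      exact ht (Subtype.ext h')
    · intro h'; exact absurd (Finset.mem_univ _) h'
  rwa [hco] at this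

theorem isQuasiRegular_of_qr (g : Fin r → R) (h : QR g) : CAlgX.IsQuasiRegular g := by
  classical
  intro n P hP hev d
  have hsupp : P.support ⊆ (Finset.univ : Finset (Fin r)).finsuppAntidiag n := by
    intro s hs
    refine mem_of_degree ?_
    rw [Finsupp.degree_eq_weight_one]
    exact hP (mem_support_iff.1 hs)
  have hsum : eval g P = ∑ t : Idx r n, P.coeff t.1 * mon g t.1 := by
    rw [eval_eq, Finset.sum_subset hsupp (fun s _ hs => by
      rw [notMem_support_iff.1 hs, zero_mul])]
    rw [← Finset.sum_coe_sort]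
    rfl
  have := h n (fun t => P.coeff t.1) (by rw [← hsum]; exact hev)
  by_cases hd : d ∈ P.support
  · exact this ⟨d, hsupp hd⟩
  · rw [notMem_support_iff.1 hd]; exact Ideal.zero_mem _

end Translate

section Span

variable {R : Type u} [CommRing R] {r : ℕ}

theorem mon_mem_pow' (g : Fin r → R) (s : Fin r →₀ ℕ) :
    mon g s ∈ Ideal.span (Set.range g) ^ s.degree := by
  rw [Finsupp.degree_apply, mon, ← Finset.prod_pow_eq_pow_sum]
  apply Ideal.prod_mem_prod
  intro i _
  exact Ideal.pow_mem_pow (Ideal.subset_span (Set.mem_range_self i)) _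

theorem mon_mem_pow (g : Fin r → R) {n : ℕ} (t : Idx r n) :
    mon g t.1 ∈ Ideal.span (Set.range g) ^ n := by
  have := mon_mem_pow' g t.1
  rwa [degree_of_mem t.2] at this

theorem pow_span_eq (g : Fin r → R) (n : ℕ) :
    Ideal.span (Set.range g) ^ n = Ideal.span (Set.range fun t : Idx r n => mon g t.1) := by
  classical
  apply le_antisymm
  · have h1 : Ideal.map (aeval g : MvPolynomial (Fin r) R →ₐ[R] R) (idealOfVars (Fin r) R) =
        Ideal.span (Set.range g) := by
      rw [idealOfVars, Ideal.map_span, ← Set.range_comp]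
      congr 1
      ext x
      simp
    rw [← h1, ← Ideal.map_pow, pow_idealOfVars_eq_span, Ideal.map_span, Ideal.span_le]
    rintro _ ⟨_, ⟨s, hs, rfl⟩, rfl⟩
    have hs' : s.degree = n := hs
    refine Ideal.subset_span ⟨⟨s, mem_of_degree hs'⟩, ?_⟩
    change mon g s = aeval g (monomial s (1 : R))
    rw [aeval_monomial, map_one, one_mul]
    rfl
  · rw [Ideal.span_le]
    rintro _ ⟨t, rfl⟩
    exact mon_mem_pow g t

end Span

section Core

variable {A B : Type u} [CommRing A] [CommRing B] [Algebra A B] {r : ℕ} (f : Fin r → B)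

/-- The evaluation map `c ↦ ∑ c_t f^t`. -/
noncomputable def ev (n : ℕ) : (Idx r n → B) →ₗ[B] B :=
  Fintype.linearCombination B (fun t : Idx r n => mon f t.1)

theorem ev_apply (n : ℕ) (c : Idx r n → B) : ev f n c = ∑ t, c t * mon f t.1 := by
  simp [ev, Fintype.linearCombination_apply]

/-- Multiplication by `f^t` as a map `B/J → B/J^{n+1}`. -/
noncomputable def mu (n : ℕ) (t : Idx r n) :
    (B ⧸ Ideal.span (Set.range f)) →ₗ[B] (B ⧸ Ideal.span (Set.range f) ^ (n + 1)) :=
  Submodule.liftQ (Ideal.span (Set.range f))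
    (LinearMap.toSpanSingleton B (B ⧸ Ideal.span (Set.range f) ^ (n + 1))
      (Submodule.Quotient.mk (mon f t.1))) (by
      intro b hb
      rw [LinearMap.mem_ker, LinearMap.toSpanSingleton_apply, ← Submodule.Quotient.mk_smul,
        Submodule.Quotient.mk_eq_zero, smul_eq_mul, pow_succ']
      exact Ideal.mul_mem_mul hb (mon_mem_pow f t))

theorem mu_mk (n : ℕ) (t : Idx r n) (b : B) :
    mu f n t (Submodule.Quotient.mk b) = Submodule.Quotient.mk (b * mon f t.1) := by
  rw [mu, Submodule.liftQ_apply, LinearMap.toSpanSingleton_apply, ← Submodule.Quotient.mk_smul,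
    smul_eq_mul]

/-- The map `(B/J)^{I_n} → B/J^{n+1}`. -/
noncomputable def psi (n : ℕ) :
    (Idx r n → B ⧸ Ideal.span (Set.range f)) →ₗ[B] (B ⧸ Ideal.span (Set.range f) ^ (n + 1)) :=
  ∑ t : Idx r n, (mu f n t) ∘ₗ (LinearMap.proj t)

/-- Componentwise reduction mod `J`. -/
noncomputable def kap (n : ℕ) : (Idx r n → B) →ₗ[B] (Idx r n → B ⧸ Ideal.span (Set.range f)) :=
  LinearMap.pi fun t => (Submodule.mkQ (Ideal.span (Set.range f))) ∘ₗ (LinearMap.proj t)

theorem kap_apply (n : ℕ) (c : Idx r n → B) (t : Idx r n) :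
    kap f n c t = Submodule.Quotient.mk (c t) := rfl

theorem kap_surjective (n : ℕ) : Function.Surjective (kap f n) := by
  intro y
  choose c hc using fun t => Submodule.Quotient.mk_surjective _ (y t)
  exact ⟨c, funext fun t => hc t⟩

theorem psi_kap (n : ℕ) :
    (psi f n) ∘ₗ (kap f n) = (Submodule.mkQ (Ideal.span (Set.range f) ^ (n + 1))) ∘ₗ (ev f n) := by
  ext c
  simp only [LinearMap.comp_apply, psi, LinearMap.sum_apply, LinearMap.proj_apply, kap_apply, mu_mk,
    ev_apply, Submodule.mkQ_apply]
  rw [← Submodule.mkQ_apply, map_sum]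
  rfl

theorem psi_kap_apply (n : ℕ) (c : Idx r n → B) :
    psi f n (kap f n c) = Submodule.Quotient.mk (ev f n c) :=
  LinearMap.congr_fun (psi_kap f n) c

/-- The projection `B/J^{n+1} → B/J^n`. -/
noncomputable def prj (n : ℕ) :
    (B ⧸ Ideal.span (Set.range f) ^ (n + 1)) →ₗ[B] (B ⧸ Ideal.span (Set.range f) ^ n) :=
  Submodule.mapQ _ _ LinearMap.id (by
    intro x hx
    exact Ideal.pow_le_pow_right (Nat.le_succ n) hx)

theorem prj_mk (n : ℕ) (b : B) : prj f n (Submodule.Quotient.mk b) = Submodule.Quotient.mk b := rfl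

theorem prj_surjective (n : ℕ) : Function.Surjective (prj f n) := by
  intro y
  obtain ⟨b, rfl⟩ := Submodule.Quotient.mk_surjective _ y
  exact ⟨Submodule.Quotient.mk b, rfl⟩

theorem psi_injective (hq : QR f) (n : ℕ) : Function.Injective (psi f n) := by
  rw [← LinearMap.ker_eq_bot, LinearMap.ker_eq_bot']
  intro y hy
  obtain ⟨c, rfl⟩ := kap_surjective f n y
  rw [psi_kap_apply, Submodule.Quotient.mk_eq_zero, ev_apply] at hy
  have := hq n c hy
  funext t
  rw [kap_apply]
  exact (Submodule.Quotient.mk_eq_zero _).2 (this t)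

theorem exact_psi_prj (n : ℕ) : Function.Exact (psi f n) (prj f n) := by
  intro x
  constructor
  · intro hx
    obtain ⟨b, rfl⟩ := Submodule.Quotient.mk_surjective _ x
    rw [prj_mk, Submodule.Quotient.mk_eq_zero, pow_span_eq] at hx
    obtain ⟨c, hc⟩ := (Submodule.mem_span_range_iff_exists_fun B).1 hx
    refine ⟨kap f n c, ?_⟩
    rw [psi_kap_apply, ev_apply]
    congr 1
  · rintro ⟨y, rfl⟩
    obtain ⟨c, rfl⟩ := kap_surjective f n y
    rw [psi_kap_apply, prj_mk, Submodule.Quotient.mk_eq_zero, ev_apply]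
    exact Ideal.sum_mem _ fun t _ => Ideal.mul_mem_left _ _ (mon_mem_pow f t)

end Core

section Flat

/-- extension of flat modules is flat -/
theorem flat_of_exact {R : Type*} [CommRing R] {M' M M'' : Type*} [AddCommGroup M'] [AddCommGroup M]
    [AddCommGroup M''] [Module R M'] [Module R M] [Module R M'']
    (i : M' →ₗ[R] M) (p : M →ₗ[R] M'') (hi : Function.Injective i)
    (hp : Function.Surjective p) (hex : Function.Exact i p) [Module.Flat R M'] [Module.Flat R M''] :
    Module.Flat R M := by
  rw [Module.Flat.iff_rTensor_injective']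
  intro I
  rw [injective_iff_map_eq_zero]
  intro x hx
  have h1 : (LinearMap.lTensor I p) x = 0 := by
    apply (Module.Flat.iff_rTensor_injective'.1 (inferInstance : Module.Flat R M'') I)
    rw [map_zero, ← LinearMap.comp_apply, LinearMap.rTensor_comp_lTensor, ← LinearMap.lTensor_comp_rTensor,
      LinearMap.comp_apply, hx, map_zero]
  obtain ⟨x', rfl⟩ := (lTensor_exact I hex hp x).1 h1
  have h2 : (LinearMap.rTensor M' I.subtype) x' = 0 := by
    apply Module.Flat.lTensor_preserves_injective_linearMap (M := R) i hi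
    rw [map_zero, ← LinearMap.comp_apply, LinearMap.lTensor_comp_rTensor, ← LinearMap.rTensor_comp_lTensor,
      LinearMap.comp_apply, hx]
  have h3 : x' = 0 := by
    apply (Module.Flat.iff_rTensor_injective'.1 (inferInstance : Module.Flat R M') I)
    rw [h2, map_zero]
  rw [h3, map_zero]

variable {A B : Type u} [CommRing A] [CommRing B] [Algebra A B] {r : ℕ} (f : Fin r → B)

theorem flat_pi (M : Type u) [AddCommGroup M] [Module A M] [Module.Flat A M] (ι : Type) [Fintype ι] :
    Module.Flat A (ι → M) := by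
  classical
  exact Module.Flat.of_linearEquiv (DirectSum.linearEquivFunOnFintype A ι (fun _ => M)).symm

theorem flat_quot_pow (hflat : Module.Flat A (B ⧸ Ideal.span (Set.range f))) (hq : QR f) (n : ℕ) :
    Module.Flat A (B ⧸ Ideal.span (Set.range f) ^ n) := by
  induction n with
  | zero =>
    haveI : Subsingleton (B ⧸ Ideal.span (Set.range f) ^ 0) := by
      rw [pow_zero, Ideal.one_eq_top]
      exact Submodule.Quotient.subsingleton_iff.2 rfl
    infer_instance
  | succ n ih =>
    haveI := ih
    haveI := flat_pi (A := A) (B ⧸ Ideal.span (Set.range f)) (Idx r n)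
    exact flat_of_exact ((psi f n).restrictScalars A) ((prj f n).restrictScalars A)
      (psi_injective f hq n) (prj_surjective f n) (exact_psi_prj f n)

end Flat

section BaseChange

variable {A B : Type u} [CommRing A] [CommRing B] [Algebra A B] {r : ℕ} (f : Fin r → B)
variable (A' : Type u) [CommRing A'] [Algebra A A']

/-- The base-changed sequence. -/
def f' : Fin r → A' ⊗[A] B := fun i => (1 : A') ⊗ₜ[A] f i

theorem f'_eq : f' f A' = fun i => (Algebra.TensorProduct.includeRight : B →ₐ[A] A' ⊗[A] B) (f i) := rfl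

theorem mon_f' (s : Fin r →₀ ℕ) : mon (f' f A') s = (1 : A') ⊗ₜ[A] mon f s := by
  change mon (f' f A') s = (Algebra.TensorProduct.includeRight : B →ₐ[A] A' ⊗[A] B) (mon f s)
  rw [mon, mon, map_prod]
  refine Finset.prod_congr rfl fun i _ => ?_
  rw [map_pow]
  rfl

theorem span_f' : Ideal.span (Set.range (f' f A')) =
    Ideal.map (Algebra.TensorProduct.includeRight : B →ₐ[A] A' ⊗[A] B) (Ideal.span (Set.range f)) := by
  rw [Ideal.map_span, ← Set.range_comp]
  rfl

/-- Reduction mod `J^k` after base change. -/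
noncomputable def Qk (k : ℕ) : A' ⊗[A] B →ₗ[A] A' ⊗[A] (B ⧸ Ideal.span (Set.range f) ^ k) :=
  ((Submodule.mkQ (Ideal.span (Set.range f) ^ k)).restrictScalars A).lTensor A'

theorem Qk_eq_zero_iff (k : ℕ) (x : A' ⊗[A] B) :
    Qk f A' k x = 0 ↔ x ∈ Ideal.span (Set.range (f' f A')) ^ k := by
  have hker := Algebra.TensorProduct.lTensor_ker (R := A) (A := A')
    (Ideal.Quotient.mkₐ A (Ideal.span (Set.range f) ^ k)) (Ideal.Quotient.mkₐ_surjective A _)
  have hk : RingHom.ker (Ideal.Quotient.mkₐ A (Ideal.span (Set.range f) ^ k)) =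
      Ideal.span (Set.range f) ^ k := by
    ext y
    rw [RingHom.mem_ker]
    exact Ideal.Quotient.eq_zero_iff_mem
  rw [hk] at hker
  rw [span_f', ← Ideal.map_pow, ← hker, RingHom.mem_ker]
  have heq : ∀ y : A' ⊗[A] B, Qk f A' k y =
      Algebra.TensorProduct.map (AlgHom.id A A') (Ideal.Quotient.mkₐ A (Ideal.span (Set.range f) ^ k)) y := by
    intro y
    induction y using TensorProduct.induction_on with
    | zero => simp
    | tmul a b => rfl
    | add y z hy hz => rw [map_add, map_add, hy, hz]
  rw [heq]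

/-- The comparison isomorphism. -/
noncomputable def Theta (n : ℕ) : A' ⊗[A] (Idx r n → B) ≃ₗ[A] (Idx r n → A' ⊗[A] B) :=
  TensorProduct.piRight A A A' (fun _ : Idx r n => B)

theorem Theta_tmul (n : ℕ) (a : A') (c : Idx r n → B) :
    Theta (A := A) (B := B) A' n (a ⊗ₜ[A] c) = fun t => a ⊗ₜ[A] c t := by
  simp [Theta]

theorem ev_lTensor (n : ℕ) (w : A' ⊗[A] (Idx r n → B)) :
    ((ev f n).restrictScalars A).lTensor A' w =
      ∑ t, (Theta (A := A) (B := B) A' n w) t * mon (f' f A') t.1 := by
  induction w using TensorProduct.induction_on with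
  | zero => simp
  | tmul a c =>
    rw [Theta_tmul, LinearMap.lTensor_tmul]
    change a ⊗ₜ[A] (ev f n c) = _
    rw [ev_apply, tmul_sum]
    refine Finset.sum_congr rfl fun t _ => ?_
    rw [mon_f', Algebra.TensorProduct.tmul_mul_tmul, mul_one]
  | add w z hw hz =>
    rw [map_add, map_add, hw, hz, ← Finset.sum_add_distrib]
    refine Finset.sum_congr rfl fun t _ => ?_
    rw [Pi.add_apply, add_mul]

theorem proj_kap_lTensor (n : ℕ) (t : Idx r n) (w : A' ⊗[A] (Idx r n → B)) :
    ((LinearMap.proj (R := A) (φ := fun _ : Idx r n => B ⧸ Ideal.span (Set.range f)) t).lTensor A')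
        (((kap f n).restrictScalars A).lTensor A' w) =
      (((Submodule.mkQ (Ideal.span (Set.range f))).restrictScalars A).lTensor A')
        ((Theta (A := A) (B := B) A' n w) t) := by
  induction w using TensorProduct.induction_on with
  | zero => simp
  | tmul a c =>
    rw [Theta_tmul, LinearMap.lTensor_tmul, LinearMap.lTensor_tmul, LinearMap.lTensor_tmul]
    rfl
  | add w z hw hz =>
    rw [map_add, map_add, map_add, hw, hz, Pi.add_apply, map_add]

theorem qr_baseChange (hflat : Module.Flat A (B ⧸ Ideal.span (Set.range f))) (hq : QR f) :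
    QR (f' (A := A) f A') := by
  intro n c' hc' t
  haveI := flat_quot_pow f hflat hq n
  set w := (Theta (A := A) (B := B) A' n).symm c' with hw
  have hΘ : Theta (A := A) (B := B) A' n w = c' := LinearEquiv.apply_symm_apply _ _
  -- the value of the evaluation map dies in `A' ⊗ B/J^{n+1}`
  have h1 : Qk f A' (n + 1) (((ev f n).restrictScalars A).lTensor A' w) = 0 := by
    rw [Qk_eq_zero_iff, ev_lTensor, hΘ]
    exact hc'
  have hcomp : (Qk f A' (n + 1)) ∘ₗ (((ev f n).restrictScalars A).lTensor A') =
      (((psi f n).restrictScalars A).lTensor A') ∘ₗ (((kap f n).restrictScalars A).lTensor A') := by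
    rw [Qk, ← LinearMap.lTensor_comp, ← LinearMap.lTensor_comp]
    congr 1
    have := psi_kap f n
    refine LinearMap.ext fun c => ?_
    exact (LinearMap.congr_fun this c).symm
  have h2 : ((psi f n).restrictScalars A).lTensor A' (((kap f n).restrictScalars A).lTensor A' w) = 0 := by
    have := LinearMap.congr_fun hcomp w
    rw [LinearMap.comp_apply, LinearMap.comp_apply] at this
    rw [← this, h1]
  have hinj : Function.Injective (((psi f n).restrictScalars A).lTensor A') :=
    LinearMap.lTensor_injective_of_exact_of_flat ((prj f n).restrictScalars A) (prj_surjective f n)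
      ((psi f n).restrictScalars A) (psi_injective f hq n) (exact_psi_prj f n) A'
  have h3 : ((kap f n).restrictScalars A).lTensor A' w = 0 := hinj (by rw [h2, map_zero])
  have h4 := proj_kap_lTensor f A' n t w
  rw [h3, map_zero, hΘ] at h4
  have h5 : Qk f A' 1 (c' t) = 0 := by
    rw [Qk]
    have e : ∀ y : A' ⊗[A] B,
        (((Submodule.mkQ (Ideal.span (Set.range f) ^ 1)).restrictScalars A).lTensor A') y = 0 ↔
        (((Submodule.mkQ (Ideal.span (Set.range f))).restrictScalars A).lTensor A') y = 0 := by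
      rw [pow_one]
      intro y; rfl
    exact (e _).2 h4.symm
  rw [Qk_eq_zero_iff, pow_one] at h5
  exact h5

end BaseChange

end Groth.Agent.Lib.H6xQRegBC
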