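import Mathlib
import Groth.Prelude.Def_OmegaPn
import Groth.Agent.Lib.Helper20EffCartier

set_option autoImplicit false
universe u
open CategoryTheory CategoryTheory.Limits AlgebraicGeometry TopologicalSpace Opposite

namespace Groth.Agent.Lib.R2H3.ComapPow

/-- pullback of ideal sheaves commutes with powers -/
theorem comap_pow {X' X : Scheme.{u}} (v : X' ⟶ X) (I : X.IdealSheafData) (k : ℕ) :
    (I ^ k).comap v = (I.comap v) ^ k := by
  let ι : Type u := { p : X'.affineOpens × X.affineOpens // p.1.1 ≤ v ⁻¹ᵁ p.2.1 }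
  refine Scheme.IdealSheafData.ext_of_iSup_eq_top (ι := ι) (fun p => p.1.1) ?_ ?_
  · rw [eq_top_iff]
    rintro x -
    obtain ⟨_, ⟨V, hV, rfl⟩, hxV, -⟩ :=
      X.isBasis_affineOpens.exists_subset_of_mem_open (Set.mem_univ (v x)) isOpen_univ
    have hx' : x ∈ v ⁻¹ᵁ V := hxV
    obtain ⟨_, ⟨U, hU, rfl⟩, hxU, hUV⟩ :=
      X'.isBasis_affineOpens.exists_subset_of_mem_open hx' (v ⁻¹ᵁ V).isOpen
    exact Opens.mem_iSup.mpr ⟨⟨(⟨U, hU⟩, ⟨V, hV⟩), hUV⟩, hxU⟩
  · rintro ⟨⟨⟨U, hU⟩, ⟨V, hV⟩⟩, hUV⟩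
    have h1 := Groth.Agent.Lib.Helper20.EffCartier.ideal_comap_eq_map v (I ^ k) hU hV hUV
    have h2 := Groth.Agent.Lib.Helper20.EffCartier.ideal_comap_eq_map v I hU hV hUV
    change ((I ^ k).comap v).ideal ⟨U, hU⟩ = ((I.comap v) ^ k).ideal ⟨U, hU⟩
    rw [h1, Scheme.IdealSheafData.ideal_pow, Scheme.IdealSheafData.ideal_pow, Pi.pow_apply,
      Pi.pow_apply, Ideal.map_pow, h2]

/-- the ideal of the base change of a closed immersion is the pullback of the ideal -/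
theorem ker_eq_comap_of_isPullback {Y X Y' X' : Scheme.{u}} (f : Y ⟶ X) [IsClosedImmersion f]
    (v : X' ⟶ X) (u : Y' ⟶ Y) (f' : Y' ⟶ X') (hsq : IsPullback u f' f v) :
    f'.ker = f.ker.comap v := by
  have h1 : hsq.flip.isoPullback.hom ≫ pullback.fst v f = f' := hsq.flip.isoPullback_hom_fst
  rw [← h1, Scheme.Hom.ker_comp_of_isIso, Scheme.IdealSheafData.ker_fst_of_isClosedImmersion]

instance isClosedImmersion_infNbhdι {Y X : Scheme.{u}} (f : Y ⟶ X) (n : ℕ) :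
    IsClosedImmersion (PrinPart.infNbhdι f n) := by
  unfold PrinPart.infNbhdι; infer_instance

theorem ker_infNbhdι {Y X : Scheme.{u}} (f : Y ⟶ X) (n : ℕ) :
    (PrinPart.infNbhdι f n).ker = f.ker ^ (n + 1) := by
  unfold PrinPart.infNbhdι
  exact Scheme.IdealSheafData.ker_subschemeι _

theorem isPullback_infNbhd {Y X Y' X' : Scheme.{u}} (f : Y ⟶ X) [IsClosedImmersion f]
    (v : X' ⟶ X) (u : Y' ⟶ Y) (f' : Y' ⟶ X') (hsq : IsPullback u f' f v) (n : ℕ)
    (w : PrinPart.infNbhd f' n ⟶ PrinPart.infNbhd f n)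
    (hw : w ≫ PrinPart.infNbhdι f n = PrinPart.infNbhdι f' n ≫ v) :
    IsPullback w (PrinPart.infNbhdι f' n) (PrinPart.infNbhdι f n) v := by
  refine (isPullback_of_isClosedImmersion (PrinPart.infNbhdι f' n) (PrinPart.infNbhdι f n) w v
    hw.symm ?_).flip
  rw [ker_infNbhdι, ker_infNbhdι, comap_pow, ker_eq_comap_of_isPullback f v u f' hsq]

end Groth.Agent.Lib.R2H3.ComapPow
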