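import Mathlib
import Groth.Prelude.Def_RegImm
import Groth.Prelude.Def_CAlgX
import Groth.Agent.Lib.H6xQRegBC
import Groth.Agent.Lib.Helper13KzLiftB
import Groth.Agent.Lib.Helper5RegImmComp
import Groth.Agent.Lib.R2H3ComapPow
import Groth.Agent.Lib.Helper20EffCartier

/-!
# Flat base change of regular sequences / regular immersions of all four kinds (helper9)

* `isH1Regular_map`, `isQuasiRegular_map`, `isKoszulRegularSeq_map`, `kind_seq_map`:
  the image of a `k`-regular sequence under a flat ring map is `k`-regular.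
* `isPullback_resLE`, `isClosedImmersion_and_ker`: restriction of a base change to affine opens.
* `isRegularImmersion_of_isPullback`: flat base change of regular immersions of kind `k`.
-/

set_option autoImplicit false
set_option linter.style.haveILetI false
universe u

namespace Groth.Agent.Lib.H9RegImmFlatBC

section Sec1
open TensorProduct

/-- equational criterion, in the form used below -/
theorem trivial_relation {R M : Type u} [CommRing R] [AddCommGroup M] [Module R M] [Module.Flat R M]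
    {ι : Type} [Fintype ι] (f : ι → R) (x : ι → M) (h : ∑ i, f i • x i = 0) :
    ∃ (k : ℕ) (a : ι → Fin k → R) (y : Fin k → M),
      (∀ i, x i = ∑ j, a i j • y j) ∧ ∀ j, ∑ i, f i * a i j = 0 :=
  Module.Flat.isTrivialRelation_of_sum_smul_eq_zero h

variable {R R' : Type u} [CommRing R] [CommRing R'] (φ : R →+* R')

/-- Flat base change of `H₁`-regular sequences. -/
theorem isH1Regular_map (hφ : φ.Flat) {c : ℕ} (f : Fin c → R) (h : CAlgX.IsH1Regular f) :
    CAlgX.IsH1Regular (φ ∘ f) := by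
  classical
  letI := φ.toAlgebra
  haveI : Module.Flat R R' := hφ
  have hsmul : ∀ (r : R) (x : R'), r • x = φ r * x := fun r x => Algebra.smul_def r x
  intro a' ha'
  have hrel : ∑ i, f i • a' i = 0 := by
    rw [← ha']
    refine Finset.sum_congr rfl fun i _ => ?_
    rw [hsmul, mul_comm]
    rfl
  obtain ⟨k, α, y, hx, hα⟩ := trivial_relation (R := R) (M := R') f a' hrel
  -- each column of `α` is a relation
  have hcol : ∀ j, (fun i => α i j) ∈ Submodule.span R
      {v : Fin c → R | ∃ i j : Fin c, v = Pi.single i (f j) - Pi.single j (f i)} := by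
    intro j
    apply h
    rw [← hα j]
    exact Finset.sum_congr rfl fun i _ => mul_comm _ _
  -- transport along `φ`
  have hΦ : ∀ v ∈ Submodule.span R
      {v : Fin c → R | ∃ i j : Fin c, v = Pi.single i (f j) - Pi.single j (f i)},
      (φ ∘ v) ∈ Submodule.span R' {v : Fin c → R' | ∃ i j : Fin c,
        v = Pi.single i ((φ ∘ f) j) - Pi.single j ((φ ∘ f) i)} := by
    intro v hv
    induction hv using Submodule.span_induction with
    | mem v hv =>
      obtain ⟨i, j, rfl⟩ := hv
      apply Submodule.subset_span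
      refine ⟨i, j, ?_⟩
      ext l
      simp only [Function.comp_apply, Pi.sub_apply, map_sub, Pi.single_apply]
      split_ifs <;> simp
    | zero =>
      have : (φ ∘ (0 : Fin c → R)) = 0 := by ext l; simp
      rw [this]; exact Submodule.zero_mem _
    | add v w _ _ hv hw =>
      have : (φ ∘ (v + w)) = φ ∘ v + φ ∘ w := by ext l; simp
      rw [this]; exact Submodule.add_mem _ hv hw
    | smul r v _ hv =>
      have : (φ ∘ (r • v)) = φ r • (φ ∘ v) := by ext l; simp
      rw [this]; exact Submodule.smul_mem _ _ hv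
  have ha'eq : a' = ∑ j, y j • (φ ∘ fun i => α i j) := by
    ext i
    rw [hx i, Finset.sum_apply]
    refine Finset.sum_congr rfl fun j _ => ?_
    rw [hsmul, Pi.smul_apply, Function.comp_apply, smul_eq_mul, mul_comm]
  rw [ha'eq]
  exact Submodule.sum_mem _ fun j _ => Submodule.smul_mem _ _ (hΦ _ (hcol j))

end Sec1

section Sec2
open TensorProduct
open Groth.Agent.Lib.H6xQRegBC


variable {R R' : Type u} [CommRing R] [CommRing R'] (φ : R →+* R')

theorem mon_comp {r : ℕ} (f : Fin r → R) (s : Fin r →₀ ℕ) : mon (φ ∘ f) s = φ (mon f s) := by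
  simp only [mon, map_prod, map_pow, Function.comp_apply]

theorem span_range_comp {r : ℕ} (f : Fin r → R) :
    Ideal.span (Set.range (φ ∘ f)) = (Ideal.span (Set.range f)).map φ := by
  rw [Ideal.map_span, ← Set.range_comp]

/-- Flat base change of quasi-regular sequences. -/
theorem isQuasiRegular_map (hφ : φ.Flat) {r : ℕ} (f : Fin r → R) (h : CAlgX.IsQuasiRegular f) :
    CAlgX.IsQuasiRegular (φ ∘ f) := by
  classical
  letI := φ.toAlgebra
  haveI : Module.Flat R R' := hφ
  have hsmul : ∀ (a : R) (x : R'), a • x = φ a * x := fun a x => Algebra.smul_def a x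
  have hq := qr_of_isQuasiRegular f h
  apply isQuasiRegular_of_qr
  intro n c' hc' t₀
  rw [pow_span_eq] at hc'
  obtain ⟨b', hb'⟩ := (Ideal.mem_span_range_iff_exists_fun).mp hc'
  -- the relation over `R`
  obtain ⟨F, hF⟩ : ∃ F : Idx r n ⊕ Idx r (n + 1) → R,
      F = Sum.elim (fun t => mon f t.1) (fun e => - mon f e.1) := ⟨_, rfl⟩
  obtain ⟨x, hxdef⟩ : ∃ x : Idx r n ⊕ Idx r (n + 1) → R', x = Sum.elim c' b' := ⟨_, rfl⟩
  have hrel : ∑ i, F i • x i = 0 := by
    rw [Fintype.sum_sum_type]
    simp only [hF, hxdef, Sum.elim_inl, Sum.elim_inr, hsmul, map_neg, neg_mul,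
      Finset.sum_neg_distrib]
    rw [← sub_eq_add_neg, sub_eq_zero]
    calc ∑ t, φ (mon f t.1) * c' t = ∑ t, c' t * mon (φ ∘ f) t.1 :=
          Finset.sum_congr rfl fun t _ => by rw [mon_comp, mul_comm]
      _ = ∑ e, b' e * mon (φ ∘ f) e.1 := hb'.symm
      _ = ∑ e, φ (mon f e.1) * b' e :=
          Finset.sum_congr rfl fun e _ => by rw [mon_comp, mul_comm]
  have key := @trivial_relation R R' _ _ _ _ (Idx r n ⊕ Idx r (n + 1)) _ F x
  obtain ⟨k, α, y, hx, hα⟩ := key hrel
  have hαJ : ∀ (j : Fin k) (t : Idx r n), α (Sum.inl t) j ∈ Ideal.span (Set.range f) := by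
    intro j
    apply hq n (fun t => α (Sum.inl t) j)
    have := hα j
    rw [Fintype.sum_sum_type] at this
    simp only [hF, Sum.elim_inl, Sum.elim_inr, neg_mul, Finset.sum_neg_distrib] at this
    rw [← sub_eq_add_neg, sub_eq_zero] at this
    have h1 : ∑ t, α (Sum.inl t) j * mon f t.1 = ∑ e : Idx r (n + 1), mon f e.1 * α (Sum.inr e) j := by
      rw [← this]
      exact Finset.sum_congr rfl fun t _ => mul_comm _ _
    rw [h1]
    exact Ideal.sum_mem _ fun e _ => Ideal.mul_mem_right _ _ (mon_mem_pow f e)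
  have hc't : c' t₀ = ∑ j, φ (α (Sum.inl t₀) j) * y j := by
    have := hx (Sum.inl t₀)
    simp only [hxdef, Sum.elim_inl, hsmul] at this
    exact this
  rw [hc't, span_range_comp]
  exact Ideal.sum_mem _ fun j _ => Ideal.mul_mem_right _ _ (Ideal.mem_map_of_mem φ (hαJ j t₀))

end Sec2

section Sec3
open TensorProduct CategoryTheory CategoryTheory.Limits MonoidalCategory
open Groth.Agent.Helper13KzLift Groth.Agent.Helper13Kz


variable {R R' : Type u} [CommRing R] [CommRing R'] (φ : R →+* R')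

/-- Flat base change of Koszul-regular sequences. -/
theorem isKoszulRegularSeq_map (hφ : φ.Flat) (l : List R) (h : LCI.IsKoszulRegularSeq R l) :
    LCI.IsKoszulRegularSeq R' (l.map φ) := by
  intro i hi
  rw [isZero_congr (koszul_eq R' (l.map φ))]
  let M' : ModuleCat.{u} R' := ModuleCat.of R' R'
  haveI hflat : Module.Flat R ((ModuleCat.restrictScalars φ).obj M') := by
    letI := φ.toAlgebra
    have : Module.Flat R R' := hφ
    exact this
  rw [← HomologicalComplex.exactAt_iff_isZero_homology]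
  have hexact : (((ModuleCat.restrictScalars φ).mapHomologicalComplex (ComplexShape.up ℤ)).obj
      (CohIII.koszulCx M' (l.map φ))).ExactAt i := by
    rw [HomologicalComplex.exactAt_iff_isZero_homology]
    refine IsZero.of_iso ?_
      ((HomologicalComplex.homologyFunctor _ _ i).mapIso (restrictIso φ M' l))
    refine IsZero.of_iso ?_ ((HomologicalComplex.homologyFunctor _ _ i).mapIso
      (tensorIso ((ModuleCat.restrictScalars φ).obj M') l)).symm
    change IsZero ((DRing.tensorCx (Koszul.koszul R l)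
      ((ModuleCat.restrictScalars φ).obj M')).homology i)
    rw [← HomologicalComplex.exactAt_iff_isZero_homology]
    have h0 := h i hi
    rw [← HomologicalComplex.exactAt_iff_isZero_homology] at h0
    exact ShortComplex.Exact.map h0 (tensorRight ((ModuleCat.restrictScalars φ).obj M'))
  exact (ShortComplex.exact_map_iff_of_faithful _ (ModuleCat.restrictScalars φ)).mp hexact

end Sec3

section Sec4
open CategoryTheory CategoryTheory.Limits AlgebraicGeometry TopologicalSpace

/-- the restriction of a base change is the base change of the restriction. -/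
theorem isPullback_resLE {Z X Z' X' : Scheme.{u}} (i : Z ⟶ X) (g : X' ⟶ X) (i' : Z' ⟶ X')
    (g' : Z' ⟶ Z) (hsq : IsPullback g' i' i g) (U : X.Opens) (V' : X'.Opens)
    (hV'U : V' ≤ g ⁻¹ᵁ U) :
    ∃ u : (i' ⁻¹ᵁ V').toScheme ⟶ (i ⁻¹ᵁ U).toScheme,
      IsPullback u (i' ∣_ V') (i ∣_ U) (g.resLE U V' hV'U) := by
  have h1 : IsPullback ((i' ⁻¹ᵁ V').ι ≫ g') (i' ∣_ V') i (V'.ι ≫ g) :=
    (isPullback_morphismRestrict i' V').flip.paste_horiz hsq
  have h2 := (isPullback_morphismRestrict i U).flip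
  have hcomm : ((i' ⁻¹ᵁ V').ι ≫ g') ≫ i = ((i' ∣_ V') ≫ g.resLE U V' hV'U) ≫ U.ι := by
    rw [Category.assoc (i' ∣_ V'), Scheme.Hom.resLE_comp_ι, ← h1.w]
  refine ⟨h2.lift ((i' ⁻¹ᵁ V').ι ≫ g') ((i' ∣_ V') ≫ g.resLE U V' hV'U) hcomm, ?_⟩
  refine IsPullback.of_right ?_ (h2.lift_snd _ _ _) h2
  rw [h2.lift_fst, Scheme.Hom.resLE_comp_ι]
  exact h1

/-- kernel of `(f ∣_ U).app ⊤` in terms of the kernel of `f.app U`. -/
theorem ker_morphismRestrict_app_top {Z X : Scheme.{u}} (i : Z ⟶ X) (U : X.Opens) :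
    RingHom.ker ((i ∣_ U).app ⊤).hom = (RingHom.ker (i.app U).hom).comap U.topIso.hom.hom := by
  have h : (i ∣_ U).app ⊤ = U.topIso.hom ≫ i.app U ≫ (i ⁻¹ᵁ U).topIso.inv := by
    rw [← Scheme.Hom.resLE_eq_morphismRestrict, Scheme.Hom.resLE_app_top, Scheme.Hom.appLE_eq_app]
  have h' : ((i ∣_ U).app ⊤).hom =
      ((i ⁻¹ᵁ U).topIso.inv.hom).comp ((i.app U).hom.comp U.topIso.hom.hom) :=
    (congrArg (fun f => CommRingCat.Hom.hom f) h).trans rfl
  have hinj : Function.Injective (i ⁻¹ᵁ U).topIso.inv.hom :=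
    (ConcreteCategory.bijective_of_isIso (i ⁻¹ᵁ U).topIso.inv).1
  ext x
  rw [RingHom.mem_ker, Ideal.mem_comap, RingHom.mem_ker, DFunLike.congr_fun h' x]
  exact map_eq_zero_iff _ hinj

theorem isClosedImmersion_and_ker {Z X Z' X' : Scheme.{u}} (i : Z ⟶ X) (g : X' ⟶ X) (i' : Z' ⟶ X')
    (g' : Z' ⟶ Z) (hsq : IsPullback g' i' i g) (U : X.Opens) (hU : IsAffineOpen U)
    (hcl : IsClosedImmersion (i ∣_ U)) (V' : X'.Opens) (hV' : IsAffineOpen V')
    (hV'U : V' ≤ g ⁻¹ᵁ U) :
    IsClosedImmersion (i' ∣_ V') ∧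
      RingHom.ker (i'.app V').hom = (RingHom.ker (i.app U).hom).map (g.appLE U V' hV'U).hom := by
  haveI : IsAffine U.toScheme := hU
  haveI : IsAffine V'.toScheme := hV'
  obtain ⟨u, hu⟩ := isPullback_resLE i g i' g' hsq U V' hV'U
  have hcl' : IsClosedImmersion (i' ∣_ V') :=
    MorphismProperty.of_isPullback (P := @IsClosedImmersion) hu hcl
  refine ⟨hcl', ?_⟩
  have hk := Groth.Agent.Lib.R2H3.ComapPow.ker_eq_comap_of_isPullback (i ∣_ U)
    (g.resLE U V' hV'U) u (i' ∣_ V') hu
  have hid := Groth.Agent.Lib.Helper20.EffCartier.ideal_comap_eq_map (g.resLE U V' hV'U)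
    (i ∣_ U).ker (isAffineOpen_top _) (isAffineOpen_top _) (U := ⊤) (V := ⊤) le_top
  rw [← hk, Scheme.Hom.ker_apply, Scheme.Hom.ker_apply] at hid
  have happ : (g.resLE U V' hV'U).appLE ⊤ ⊤ le_top =
      U.topIso.hom ≫ g.appLE U V' hV'U ≫ V'.topIso.inv := by
    rw [← Scheme.Hom.resLE_app_top]
    exact Scheme.Hom.appLE_eq_app (f := g.resLE U V' hV'U) (U := ⊤)
  have happ' : ((g.resLE U V' hV'U).appLE ⊤ ⊤ le_top).hom =
      (V'.topIso.inv.hom).comp ((g.appLE U V' hV'U).hom.comp U.topIso.hom.hom) := by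
    rw [happ]; rfl
  have hid' : Ideal.comap V'.topIso.hom.hom (RingHom.ker (i'.app V').hom) =
      Ideal.map ((V'.topIso.inv.hom).comp ((g.appLE U V' hV'U).hom.comp U.topIso.hom.hom))
        (Ideal.comap U.topIso.hom.hom (RingHom.ker (i.app U).hom)) := by
    rw [← ker_morphismRestrict_app_top, ← ker_morphismRestrict_app_top, ← happ']
    exact hid
  rw [← Ideal.map_map, ← Ideal.map_map, Ideal.map_comap_of_surjective U.topIso.hom.hom
    U.topIso.commRingCatIsoToRingEquiv.surjective] at hid'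
  apply Ideal.comap_injective_of_surjective V'.topIso.hom.hom
    V'.topIso.commRingCatIsoToRingEquiv.surjective
  rw [hid']
  exact (Groth.Agent.Lib.Helper20.EffCartier.comap_iso_hom_eq_map_inv V'.topIso.symm _).symm

end Sec4

section Sec5
open CategoryTheory CategoryTheory.Limits AlgebraicGeometry TopologicalSpace

variable {R R' : Type u} [CommRing R] [CommRing R'] (φ : R →+* R')

theorem get_map_eq (rs : List R) :
    ∀ (c : ℕ) (hc : c = (rs.map φ).length) (hc' : c = rs.length),
      (fun i : Fin c => (rs.map φ).get (Fin.cast hc i)) =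
        φ ∘ (fun i : Fin c => rs.get (Fin.cast hc' i)) := by
  intro c hc hc'
  funext i
  simp

theorem isH1Regular_cast {c c' : ℕ} (hc : c' = c) (f : Fin c → R) (h : CAlgX.IsH1Regular f) :
    CAlgX.IsH1Regular (fun i : Fin c' => f (Fin.cast hc i)) := by
  subst hc
  exact h

theorem isQuasiRegular_cast {c c' : ℕ} (hc : c' = c) (f : Fin c → R)
    (h : CAlgX.IsQuasiRegular f) :
    CAlgX.IsQuasiRegular (fun i : Fin c' => f (Fin.cast hc i)) := by
  subst hc
  exact h

theorem kind_seq_map (k : RegImm.Kind) (hφ : φ.Flat) (rs : List R) (h : k.Seq R rs)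
    (hne : Ideal.ofList (rs.map φ) ≠ ⊤) : k.Seq R' (rs.map φ) := by
  cases k with
  | regular =>
    refine ⟨Groth.Agent.Lib.Helper5.RegImmComp.isWeaklyRegular_map_of_flat φ hφ rs
      (RingTheory.Sequence.IsRegular.toIsWeaklyRegular h), ?_⟩
    rw [smul_eq_mul, Ideal.mul_top]
    exact fun h => hne h.symm
  | koszul => exact isKoszulRegularSeq_map φ hφ rs h
  | h1 =>
    change CAlgX.IsH1Regular (rs.map φ).get
    have h0 : CAlgX.IsH1Regular rs.get := h
    have h1 := isH1Regular_map φ hφ rs.get h0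
    have h2 := isH1Regular_cast (List.length_map φ) _ h1
    convert h2 using 1
    funext i
    simp
  | quasi =>
    change CAlgX.IsQuasiRegular (rs.map φ).get
    have h0 : CAlgX.IsQuasiRegular rs.get := h
    have h1 := isQuasiRegular_map φ hφ rs.get h0
    have h2 := isQuasiRegular_cast (List.length_map φ) _ h1
    convert h2 using 1
    funext i
    simp

end Sec5

section Sec6
open CategoryTheory CategoryTheory.Limits AlgebraicGeometry TopologicalSpace

/-- Flat base change of regular immersions of any kind, for an arbitrary pullback square. -/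
theorem isRegularImmersion_of_isPullback {Z X Z' X' : Scheme.{u}} (i : Z ⟶ X) (g : X' ⟶ X)
    [Flat g] (i' : Z' ⟶ X') (g' : Z' ⟶ Z) (hsq : IsPullback g' i' i g) (k : RegImm.Kind)
    (hi : RegImm.IsRegularImmersion k i) : RegImm.IsRegularImmersion k i' := by
  obtain ⟨himm, hi'⟩ := hi
  have himm' : IsImmersion i' := MorphismProperty.of_isPullback (P := @IsImmersion) hsq himm
  refine ⟨himm', fun z' => ?_⟩
  obtain ⟨U, hzU, hcl, rs, hrs, hker⟩ := hi' (g' z')
  have hx' : i' z' ∈ g ⁻¹ᵁ U.1 := by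
    change g (i' z') ∈ U.1
    rw [← Scheme.Hom.comp_apply, ← hsq.w, Scheme.Hom.comp_apply]
    exact hzU
  obtain ⟨_, ⟨V', hV', rfl⟩, hxV', hV'U⟩ :=
    X'.isBasis_affineOpens.exists_subset_of_mem_open hx' (g ⁻¹ᵁ U.1).isOpen
  obtain ⟨hcl', hker'⟩ := isClosedImmersion_and_ker i g i' g' hsq U.1 U.2 hcl V' hV'
    hV'U
  have hideal : RingHom.ker (i'.app V').hom = Ideal.ofList (rs.map (g.appLE U.1 V' hV'U).hom) := by
    rw [hker', hker, Ideal.map_ofList]
  refine ⟨⟨V', hV'⟩, hxV', hcl', rs.map (g.appLE U.1 V' hV'U).hom, ?_, hideal⟩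
  apply kind_seq_map _ k (Scheme.Hom.flat_appLE g U.2 hV' hV'U) rs hrs
  rw [← hideal]
  intro htop
  -- the point `z'` lies over `V'`, so `Γ(Z', i'⁻¹V')` is nonzero
  have h1 : (1 : Γ(X', V')) ∈ RingHom.ker (i'.app V').hom := by rw [htop]; trivial
  rw [RingHom.mem_ker, map_one] at h1
  have hz' : z' ∈ i' ⁻¹ᵁ V' := hxV'
  have h2 := congrArg (Z'.presheaf.germ (i' ⁻¹ᵁ V') z' hz').hom h1
  rw [map_one, map_zero] at h2
  exact one_ne_zero h2

end Sec6

end Groth.Agent.Lib.H9RegImmFlatBC
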