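import Mathlib
import Groth.Prelude
import Groth.Agent.Lib.Helper5StalkSpec

set_option autoImplicit false
set_option linter.style.haveILetI false
set_option linter.unusedSectionVars false
universe u v w

namespace Groth.Agent.Lib.H9RegImmStalk

-- ===== from RI1 =====
section SecRI1
open AlgebraicGeometry CategoryTheory RingTheory.Sequence TopologicalSpace
theorem app_surjective_of_restrict {Z X : Scheme.{u}} (i : Z ⟶ X) (U : X.Opens)
    [IsClosedImmersion (i ∣_ U)] [IsAffine U.toScheme] : Function.Surjective (i.app U).hom := by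
  have h1 := (IsClosedImmersion.isAffine_surjective_of_isAffine (i ∣_ U)).2
  rw [morphismRestrict_appTop] at h1
  have h2 : Function.Surjective (i.app (U.ι ''ᵁ ⊤)).hom := by
    intro b
    obtain ⟨a, ha⟩ := h1 ((Z.presheaf.map
      (eqToHom (image_morphismRestrict_preimage i U ⊤)).op).hom b)
    refine ⟨a, ?_⟩
    have hinj : Function.Injective (Z.presheaf.map
      (eqToHom (image_morphismRestrict_preimage i U ⊤)).op).hom :=
      (ConcreteCategory.bijective_of_isIso _).1
    apply hinj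
    rw [← ha]
    rfl
  have h3 : ∀ V : X.Opens, V = U → Function.Surjective (i.app V).hom → 
      Function.Surjective (i.app U).hom := by
    rintro V rfl h
    exact h
  exact h3 _ (Scheme.Opens.ι_image_top U) h2

theorem main {Z X : Scheme.{u}} (i : Z ⟶ X)
    (h : RegImm.IsRegularImmersion RegImm.Kind.regular i) (z : Z) :
    ∃ rs : List (X.presheaf.stalk (i z)),
      RingTheory.Sequence.IsRegular (X.presheaf.stalk (i z)) rs ∧
        RingHom.ker (i.stalkMap z).hom = Ideal.ofList rs := by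
  obtain ⟨U, hz, hcl, rs, hreg, hker⟩ := h.2 z
  have hU : IsAffineOpen U.1 := U.2
  haveI : IsAffine U.1.toScheme := hU
  haveI := hcl
  have hU' : IsAffineOpen (i ⁻¹ᵁ U.1) := isAffine_of_isAffineHom (i ∣_ U.1)
  have hsurj := app_surjective_of_restrict i U.1
  have hsq : ∀ a, (Z.presheaf.germ (i ⁻¹ᵁ U.1) z hz).hom ((i.app U.1).hom a)
      = (i.stalkMap z).hom ((X.presheaf.germ U.1 (i z) hz).hom a) := fun a =>
    (i.germ_stalkMap_apply U.1 z hz a).symm
  have hk0 := Groth.Agent.Lib.Helper5.StalkSpec.ker_eq_map_of_isLocalization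
    (X.presheaf.germ U.1 (i z) hz).hom (Z.presheaf.germ (i ⁻¹ᵁ U.1) z hz).hom (i.app U.1).hom
    (i.stalkMap z).hom hsq hsurj _ (hU.isLocalization_stalk ⟨i z, hz⟩) _
    (hU'.isLocalization_stalk ⟨z, hz⟩)
  letI := (X.presheaf.germ U.1 (i z) hz).hom.toAlgebra
  haveI : IsLocalization.AtPrime (X.presheaf.stalk (i z)) (hU.primeIdealOf ⟨i z, hz⟩).asIdeal :=
    hU.isLocalization_stalk ⟨i z, hz⟩
  haveI : Module.Flat Γ(X, U.1) (X.presheaf.stalk (i z)) :=
    IsLocalization.flat _ (hU.primeIdealOf ⟨i z, hz⟩).asIdeal.primeCompl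
  have hreg' : IsRegular Γ(X, U.1) rs := hreg
  have hw : IsWeaklyRegular (X.presheaf.stalk (i z))
      (rs.map (X.presheaf.germ U.1 (i z) hz).hom) := hreg'.toIsWeaklyRegular.of_flat
  have hk : RingHom.ker (i.stalkMap z).hom
      = Ideal.ofList (rs.map (X.presheaf.germ U.1 (i z) hz).hom) := by
    rw [hk0, hker, Ideal.map_ofList]
  refine ⟨_, ⟨hw, ?_⟩, hk⟩
  rw [smul_eq_mul, Ideal.mul_top, ← hk]
  exact (RingHom.ker_ne_top _).symm

end SecRI1


end Groth.Agent.Lib.H9RegImmStalk
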