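import Mathlib
import Groth.Prelude
import Groth.Agent.S5803
import Groth.Agent.Lib.H9RegImmFlatBC
import Groth.Agent.Lib.H9RegImmStalk
import Groth.Agent.Lib.Helper5RegImm2

set_option autoImplicit false
set_option linter.style.haveILetI false
universe u

open AlgebraicGeometry CategoryTheory RingTheory.Sequence TopologicalSpace

namespace Groth.Agent.Lib.H9QRegNoeth

/-- quasi-regular sequence in the maximal ideal of a noetherian local ring, generating a proper
ideal, is regular (via S5803). -/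
theorem isRegular_of_isQuasiRegular {A : Type u} [CommRing A] [IsNoetherianRing A] [IsLocalRing A]
    (rs : List A) (hq : CAlgX.IsQuasiRegular rs.get) (hne : Ideal.ofList rs ≠ ⊤) :
    IsRegular A rs := by
  have hmem : ∀ i, rs.get i ∈ Ring.jacobson A := by
    intro i
    rw [IsLocalRing.ringJacobson_eq_maximalIdeal]
    have h1 : rs.get i ∈ Ideal.ofList rs := Ideal.subset_span (List.get_mem rs i)
    exact IsLocalRing.le_maximalIdeal hne h1
  have h := Groth.Agent.S5803.result A rs.length rs.get hmem hq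
  rw [List.ofFn_get] at h
  refine ⟨h, ?_⟩
  rw [smul_eq_mul, Ideal.mul_top]
  exact hne.symm

end Groth.Agent.Lib.H9QRegNoeth

namespace Groth.Agent.Lib.H9QRegNoeth
open Groth.Agent.Lib.Helper5.RegImm

theorem get_map {R R' : Type u} [CommRing R] [CommRing R'] (φ : R →+* R') (rs : List R) :
    (rs.map φ).get = φ ∘ rs.get ∘ Fin.cast (List.length_map φ) := by
  funext i
  simp

/-- stalk-regularity from quasi-regular data on an affine open -/
theorem stalkReg_of_quasi {Z X : Scheme.{u}} [IsLocallyNoetherian X] (i : Z ⟶ X) (z : Z)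
    (U : X.Opens) (hU : IsAffineOpen U) (hz : i z ∈ U) (hcl : IsClosedImmersion (i ∣_ U))
    (rs : List Γ(X, U)) (hq : CAlgX.IsQuasiRegular rs.get)
    (hker : RingHom.ker (i.app U).hom = Ideal.ofList rs) : StalkReg i z := by
  have : IsAffine U.toScheme := hU
  have := hcl
  have hU' : IsAffineOpen (i ⁻¹ᵁ U) := isAffine_of_isAffineHom (i ∣_ U)
  have hsurj := Groth.Agent.Lib.H9RegImmStalk.app_surjective_of_restrict i U
  have hsq : ∀ a, (Z.presheaf.germ (i ⁻¹ᵁ U) z hz).hom ((i.app U).hom a)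
      = (i.stalkMap z).hom ((X.presheaf.germ U (i z) hz).hom a) := fun a =>
    (i.germ_stalkMap_apply U z hz a).symm
  have hk0 := Groth.Agent.Lib.Helper5.StalkSpec.ker_eq_map_of_isLocalization
    (X.presheaf.germ U (i z) hz).hom (Z.presheaf.germ (i ⁻¹ᵁ U) z hz).hom (i.app U).hom
    (i.stalkMap z).hom hsq hsurj _ (hU.isLocalization_stalk ⟨i z, hz⟩) _
    (hU'.isLocalization_stalk ⟨z, hz⟩)
  have hgflat : (X.presheaf.germ U (i z) hz).hom.Flat := by
    let := (X.presheaf.germ U (i z) hz).hom.toAlgebra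
    have : IsLocalization.AtPrime (X.presheaf.stalk (i z)) (hU.primeIdealOf ⟨i z, hz⟩).asIdeal :=
      hU.isLocalization_stalk ⟨i z, hz⟩
    exact IsLocalization.flat _ (hU.primeIdealOf ⟨i z, hz⟩).asIdeal.primeCompl
  have hk : RingHom.ker (i.stalkMap z).hom =
      Ideal.ofList (rs.map (X.presheaf.germ U (i z) hz).hom) := by
    rw [hk0, hker, Ideal.map_ofList]
  have hne : Ideal.ofList (rs.map (X.presheaf.germ U (i z) hz).hom) ≠ ⊤ := by
    rw [← hk]
    exact RingHom.ker_ne_top _
  have hq' : CAlgX.IsQuasiRegular (rs.map (X.presheaf.germ U (i z) hz).hom).get :=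
    Groth.Agent.Lib.H9RegImmFlatBC.kind_seq_map _ RegImm.Kind.quasi hgflat rs hq hne
  exact ⟨rs.map (X.presheaf.germ U (i z) hz).hom, isRegular_of_isQuasiRegular _ hq' hne, hk⟩

end Groth.Agent.Lib.H9QRegNoeth

namespace Groth.Agent.Lib.H9QRegNoeth
open Groth.Agent.Lib.Helper5.RegImm

theorem ker_morphismRestrict_app {Z X : Scheme.{u}} (i : Z ⟶ X) (U : X.Opens)
    (V : U.toScheme.Opens) :
    RingHom.ker ((i ∣_ U).app V).hom = RingHom.ker (i.app (U.ι ''ᵁ V)).hom := by
  have hinj : Function.Injective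
      (Z.presheaf.map (eqToHom (image_morphismRestrict_preimage i U V)).op).hom :=
    (ConcreteCategory.bijective_of_isIso _).1
  have hcomp : ∀ a, ((i ∣_ U).app V).hom a
      = (Z.presheaf.map (eqToHom (image_morphismRestrict_preimage i U V)).op).hom
        ((i.app (U.ι ''ᵁ V)).hom a) := by
    intro a
    exact congrArg (fun φ => φ.hom a) (morphismRestrict_app i U V)
  apply le_antisymm
  · intro a ha
    have ha' : ((i ∣_ U).app V).hom a = 0 := RingHom.mem_ker.mp ha
    rw [hcomp a] at ha'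
    exact RingHom.mem_ker.mpr ((map_eq_zero_iff _ hinj).mp ha')
  · intro a ha
    have ha' : (i.app (U.ι ''ᵁ V)).hom a = 0 := RingHom.mem_ker.mp ha
    refine RingHom.mem_ker.mpr ((hcomp a).trans ?_)
    rw [ha', map_zero]
    rfl

/-- spreading out: stalk-regular at `z` plus closed over an open `U ∋ i z` gives regular
immersion at `z`. -/
theorem isRegularImmersionAt_of_stalkReg' {Z X : Scheme.{u}} [IsLocallyNoetherian X] (i : Z ⟶ X)
    (z : Z) (U : X.Opens) (hz : i z ∈ U) (hcl : IsClosedImmersion (i ∣_ U))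
    (h : StalkReg i z) : RegImm.IsRegularImmersionAt RegImm.Kind.regular i z := by
  have := hcl
  have h2 : StalkReg (i ∣_ U) ⟨z, hz⟩ := (stalkReg_morphismRestrict_iff i U ⟨z, hz⟩).mpr h
  obtain ⟨V, hV, hzV, rs, hreg, hker⟩ := regAt_of_stalkReg (i ∣_ U) ⟨z, hz⟩ h2
  have hW : IsAffineOpen (U.ι ''ᵁ V) := hV.image_of_isOpenImmersion U.ι
  have hmem : i z ∈ U.ι ''ᵁ V := by
    refine ⟨(i ∣_ U) ⟨z, hz⟩, hzV, ?_⟩
    exact morphismRestrict_base_coe i U ⟨z, hz⟩
  have hcl' : IsClosedImmersion (i ∣_ (U.ι ''ᵁ V)) := by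
    have h3 : IsClosedImmersion ((i ∣_ U) ∣_ V) :=
      IsZariskiLocalAtTarget.restrict (P := @IsClosedImmersion) inferInstance V
    exact (MorphismProperty.arrow_mk_iso_iff @IsClosedImmersion
      (morphismRestrictRestrict i U V)).mp h3
  refine ⟨⟨U.ι ''ᵁ V, hW⟩, hmem, hcl', rs, hreg, ?_⟩
  rw [Scheme.Hom.ker_apply] at hker
  rw [← ker_morphismRestrict_app]
  exact hker

end Groth.Agent.Lib.H9QRegNoeth
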