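import Mathlib
import Groth.Prelude.Def_RegImm
import Groth.Prelude.Def_CAlgX
import Groth.Agent.Lib.H6xQRegBC
import Groth.Agent.Lib.H9RegImmFlatBC
import Groth.Agent.Lib.H9RegImmStalk

/-!
# Arbitrary base change of relative `H₁`-regular and quasi-regular immersions (helper9)

* `h1_baseChange`: base change of an `H₁`-regular sequence with `A`-flat quotient.
* `seq_of_isPushout`: the same (and the quasi-regular analogue) along a pushout square of rings.
* `restrict_data_kind`: restriction of `k`-regular immersion data to a smaller affine open.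
* `main`: relative `H₁`-regular and quasi-regular immersions are stable under arbitrary base change.
-/

set_option autoImplicit false
set_option linter.style.haveILetI false
universe u

namespace Groth.Agent.Lib.H9RelRegBC

section Sec1
open TensorProduct
open Groth.Agent.Lib.H6xQRegBC


variable {A B : Type u} [CommRing A] [CommRing B] [Algebra A B] {c : ℕ} (f : Fin c → B)
variable (A' : Type u) [CommRing A'] [Algebra A A']

/-- the trivial relations -/
def Triv {R : Type u} [CommRing R] {c : ℕ} (f : Fin c → R) : Submodule R (Fin c → R) :=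
  Submodule.span R {v : Fin c → R | ∃ i j : Fin c, v = Pi.single i (f j) - Pi.single j (f i)}

/-- `z ↦ (l ↦ x ⊗ z l)` -/
noncomputable def Phi (x : A') : (Fin c → B) →+ (Fin c → A' ⊗[A] B) where
  toFun z := fun l => x ⊗ₜ[A] z l
  map_zero' := by ext l; simp
  map_add' z w := by ext l; simp [TensorProduct.tmul_add]

theorem Phi_smul (x : A') (b : B) (z : Fin c → B) :
    Phi (A := A) A' x (b • z) = ((1 : A') ⊗ₜ[A] b) • Phi (A := A) A' x z := by
  ext l
  simp [Phi, Algebra.TensorProduct.tmul_mul_tmul]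

theorem Phi_mem_triv (x : A') (z : Fin c → B) (hz : z ∈ Triv f) :
    Phi (A := A) A' x z ∈ Triv (f' (A := A) f A') := by
  unfold Triv at hz
  induction hz using Submodule.span_induction with
  | mem v hv =>
    obtain ⟨i, j, rfl⟩ := hv
    have : Phi (A := A) A' x (Pi.single i (f j) - Pi.single j (f i)) =
        (x ⊗ₜ[A] (1 : B)) • ((Pi.single i (f' (A := A) f A' j) - Pi.single j (f' (A := A) f A' i) :
          Fin c → A' ⊗[A] B)) := by
      ext l
      simp only [Phi, AddMonoidHom.coe_mk, ZeroHom.coe_mk, Pi.sub_apply, Pi.smul_apply,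
        smul_eq_mul, f', Pi.single_apply]
      split_ifs <;>
        simp [TensorProduct.tmul_sub, Algebra.TensorProduct.tmul_mul_tmul, mul_sub,
          TensorProduct.tmul_neg]
    rw [this]
    exact Submodule.smul_mem _ _ (Submodule.subset_span ⟨i, j, rfl⟩)
  | zero => rw [map_zero]; exact Submodule.zero_mem _
  | add v w _ _ hv hw => rw [map_add]; exact Submodule.add_mem _ hv hw
  | smul b v _ hv => rw [Phi_smul]; exact Submodule.smul_mem _ _ hv

/-- the evaluation map `v ↦ Σ v i * f i`, as an `A`-linear map. -/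
noncomputable def evA : (Fin c → B) →ₗ[A] B :=
  (Fintype.linearCombination B f).restrictScalars A

theorem evA_apply (v : Fin c → B) : evA (A := A) f v = ∑ i, v i * f i := by
  simp [evA, Fintype.linearCombination_apply]

theorem evA_lTensor (w : A' ⊗[A] (Fin c → B)) :
    (evA (A := A) f).lTensor A' w =
      ∑ i, (TensorProduct.piRight A A A' (fun _ : Fin c => B) w) i * f' (A := A) f A' i := by
  induction w using TensorProduct.induction_on with
  | zero => simp
  | tmul x v =>
    rw [LinearMap.lTensor_tmul, evA_apply, TensorProduct.tmul_sum]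
    refine Finset.sum_congr rfl fun i _ => ?_
    simp [f', Algebra.TensorProduct.tmul_mul_tmul]
  | add w z hw hz =>
    rw [map_add, map_add, hw, hz, ← Finset.sum_add_distrib]
    refine Finset.sum_congr rfl fun i _ => ?_
    rw [Pi.add_apply, add_mul]

/-- Base change of `H₁`-regular sequences with flat quotient. -/
theorem h1_baseChange (hflat : Module.Flat A (B ⧸ Ideal.span (Set.range f)))
    (h : CAlgX.IsH1Regular f) : CAlgX.IsH1Regular (f' (A := A) f A') := by
  classical
  intro a' ha'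
  change a' ∈ Triv (f' (A := A) f A')
  let I : Submodule A B := (Ideal.span (Set.range f)).restrictScalars A
  have hεI : ∀ v, evA (A := A) f v ∈ I := by
    intro v
    rw [evA_apply]
    exact Ideal.sum_mem _ fun i _ => Ideal.mul_mem_left _ _ (Ideal.subset_span ⟨i, rfl⟩)
  let εI : (Fin c → B) →ₗ[A] I := (evA (A := A) f).codRestrict I hεI
  have hεIsurj : Function.Surjective εI := by
    rintro ⟨b, hb⟩
    have hb' : b ∈ Ideal.span (Set.range f) := hb
    obtain ⟨v, hv⟩ := (Ideal.mem_span_range_iff_exists_fun).mp hb'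
    refine ⟨v, Subtype.ext ?_⟩
    change evA (A := A) f v = b
    rw [evA_apply, hv]
  let q : B →ₗ[A] B ⧸ Ideal.span (Set.range f) :=
    (Ideal.Quotient.mkₐ A (Ideal.span (Set.range f))).toLinearMap
  have hq : Function.Surjective q := Ideal.Quotient.mk_surjective
  have hexq : Function.Exact I.subtype q := by
    intro b
    constructor
    · intro hb
      have : b ∈ Ideal.span (Set.range f) := Ideal.Quotient.eq_zero_iff_mem.mp hb
      exact ⟨⟨b, this⟩, rfl⟩
    · rintro ⟨y, rfl⟩
      exact Ideal.Quotient.eq_zero_iff_mem.mpr y.2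
  have hinj : Function.Injective (I.subtype.lTensor A') :=
    LinearMap.lTensor_injective_of_exact_of_flat q hq I.subtype I.injective_subtype hexq A'
  have hex := lTensor_exact A' (LinearMap.exact_subtype_ker_map εI) hεIsurj
  set w := (TensorProduct.piRight A A A' (fun _ : Fin c => B)).symm a' with hw
  have hwa : TensorProduct.piRight A A A' (fun _ : Fin c => B) w = a' :=
    LinearEquiv.apply_symm_apply _ _
  have h0 : (I.subtype.lTensor A') (εI.lTensor A' w) = 0 := by
    rw [← LinearMap.comp_apply, ← LinearMap.lTensor_comp]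
    have : I.subtype ∘ₗ εI = evA (A := A) f := by
      ext v; rfl
    rw [this, evA_lTensor, hwa]
    exact ha'
  have h1 : εI.lTensor A' w = 0 := hinj (by rw [h0, map_zero])
  obtain ⟨y, hy⟩ := (hex w).mp h1
  rw [← hwa, ← hy]
  clear hy h1 h0 hwa
  induction y using TensorProduct.induction_on with
  | zero => simp
  | tmul x z =>
    have hz : z.1 ∈ Triv f := by
      apply h
      have := z.2
      rw [LinearMap.mem_ker] at this
      have h2 := congrArg Subtype.val this
      change evA (A := A) f z.1 = 0 at h2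
      rw [evA_apply] at h2
      exact h2
    have := Phi_mem_triv (A := A) f A' x z.1 hz
    exact this
  | add y₁ y₂ h₁ h₂ =>
    rw [map_add, map_add]
    exact Submodule.add_mem _ h₁ h₂

end Sec1

section Sec2
open TensorProduct CategoryTheory CategoryTheory.Limits
open Groth.Agent.Lib.H6xQRegBC


/-- Base change of `H₁`-regular and quasi-regular sequences with flat quotient along a pushout square of
commutative rings. -/
theorem seq_of_isPushout {R A' B X : CommRingCat.{u}} {β : R ⟶ A'} {α : R ⟶ B} {β' : A' ⟶ X}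
    {φ : B ⟶ X} (H : IsPushout β α β' φ) {c : ℕ} (f : Fin c → B)
    (C : Type u) [CommRing C] (π : B →+* C) (hπ : Function.Surjective π)
    (hker : RingHom.ker π = Ideal.span (Set.range f)) (hflat : (π.comp α.hom).Flat) :
    (CAlgX.IsH1Regular f → CAlgX.IsH1Regular (φ.hom ∘ f)) ∧
      (CAlgX.IsQuasiRegular f → CAlgX.IsQuasiRegular (φ.hom ∘ f)) := by
  algebraize [β.hom, α.hom]
  let e : A' ⊗[R] B ≃+* X :=
    ((CommRingCat.isPushout_tensorProduct R A' B).isoIsPushout A' B H).commRingCatIsoToRingEquiv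
  have he : ∀ b : B, e ((1 : A') ⊗ₜ[R] b) = φ.hom b := by
    intro b
    have := congr($((CommRingCat.isPushout_tensorProduct R A' B).inr_isoIsPushout_hom A' B H).hom b)
    exact this
  have heflat : (e : A' ⊗[R] B →+* X).Flat := RingHom.Flat.of_bijective e.bijective
  have hcomp : (e : A' ⊗[R] B →+* X) ∘ f' (A := R) f A' = φ.hom ∘ f := by
    funext i
    exact he (f i)
  -- flatness of the quotient
  letI : Algebra R C := (π.comp α.hom).toAlgebra
  haveI : Module.Flat R C := hflat
  let π' : B →ₐ[R] C := { π with commutes' := fun a => rfl }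
  have hπ' : Function.Surjective π' := hπ
  have hker' : RingHom.ker π' = Ideal.span (Set.range f) := hker
  let eq : (B ⧸ Ideal.span (Set.range f)) ≃ₐ[R] C :=
    (Ideal.quotientEquivAlgOfEq R hker'.symm).trans (Ideal.quotientKerAlgEquivOfSurjective hπ')
  have hflatI : Module.Flat R (B ⧸ Ideal.span (Set.range f)) :=
    Module.Flat.of_linearEquiv eq.toLinearEquiv
  constructor
  · intro h
    have h1 := h1_baseChange (A := R) f A' hflatI h
    have h2 := Groth.Agent.Lib.H9RegImmFlatBC.isH1Regular_map _ heflat _ h1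
    rw [hcomp] at h2
    exact h2
  · intro h
    have h1 := isQuasiRegular_of_qr _ (qr_baseChange (A := R) f A' hflatI (qr_of_isQuasiRegular f h))
    have h2 := Groth.Agent.Lib.H9RegImmFlatBC.isQuasiRegular_map _ heflat _ h1
    rw [hcomp] at h2
    exact h2

end Sec2

section Sec3
open CategoryTheory CategoryTheory.Limits AlgebraicGeometry TopologicalSpace

/-- restricting a locally closed immersion with `k`-regular data to a smaller affine open through
which a point of the source passes. -/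
theorem restrict_data_kind {Y X : Scheme.{u}} (i : Y ⟶ X) (k : RegImm.Kind) (U : X.Opens)
    (hU : IsAffineOpen U) (hcl : IsClosedImmersion (i ∣_ U)) (rs : List Γ(X, U))
    (hrs : k.Seq Γ(X, U) rs) (hker : RingHom.ker (i.app U).hom = Ideal.ofList rs) (W : X.Opens)
    (hW : IsAffineOpen W) (hWU : W ≤ U) (y : Y) (hy : i y ∈ W) :
    IsClosedImmersion (i ∣_ W) ∧ ∃ rs' : List Γ(X, W), rs'.length = rs.length ∧
      k.Seq Γ(X, W) rs' ∧ RingHom.ker (i.app W).hom = Ideal.ofList rs' := by
  have hsq : IsPullback (𝟙 Y) i i (𝟙 X) := IsPullback.of_horiz_isIso ⟨by simp⟩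
  have hWU' : W ≤ (𝟙 X : X ⟶ X) ⁻¹ᵁ U := hWU
  obtain ⟨h1, h2⟩ := Groth.Agent.Lib.H9RegImmFlatBC.isClosedImmersion_and_ker i (𝟙 X) i (𝟙 Y) hsq
    U hU hcl W hW hWU'
  have hideal : RingHom.ker (i.app W).hom =
      Ideal.ofList (rs.map ((𝟙 X : X ⟶ X).appLE U W hWU').hom) := by
    rw [h2, hker, Ideal.map_ofList]
  refine ⟨h1, rs.map ((𝟙 X : X ⟶ X).appLE U W hWU').hom, by simp, ?_, hideal⟩
  apply Groth.Agent.Lib.H9RegImmFlatBC.kind_seq_map _ k (Scheme.Hom.flat_appLE (𝟙 X) hU hW hWU') rs
    hrs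
  rw [← hideal]
  intro htop
  have h1 : (1 : Γ(X, W)) ∈ RingHom.ker (i.app W).hom := by rw [htop]; trivial
  rw [RingHom.mem_ker, map_one] at h1
  have hy' : y ∈ i ⁻¹ᵁ W := hy
  have h2 := congrArg (Y.presheaf.germ (i ⁻¹ᵁ W) y hy').hom h1
  rw [map_one, map_zero] at h2
  exact one_ne_zero h2

/-- get/cast bookkeeping: a `k`-sequence (`k = h1, quasi`) statement for `rs.map φ` from the
function-level statement for `φ ∘ rs.get`. -/
theorem kind_seq_of_comp {R R' : Type u} [CommRing R] [CommRing R'] (φ : R →+* R')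
    (k : RegImm.Kind) (hk : k = RegImm.Kind.h1 ∨ k = RegImm.Kind.quasi) (rs : List R)
    (h1 : k = RegImm.Kind.h1 → CAlgX.IsH1Regular (φ ∘ rs.get))
    (h2 : k = RegImm.Kind.quasi → CAlgX.IsQuasiRegular (φ ∘ rs.get)) :
    k.Seq R' (rs.map φ) := by
  rcases hk with rfl | rfl
  · change CAlgX.IsH1Regular (rs.map φ).get
    have h := Groth.Agent.Lib.H9RegImmFlatBC.isH1Regular_cast (List.length_map φ) _ (h1 rfl)
    convert h using 1
    funext i
    simp
  · change CAlgX.IsQuasiRegular (rs.map φ).get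
    have h := Groth.Agent.Lib.H9RegImmFlatBC.isQuasiRegular_cast (List.length_map φ) _ (h2 rfl)
    convert h using 1
    funext i
    simp

theorem main {Z X S S' : Scheme.{u}} (f : X ⟶ S) (i : Z ⟶ X) (k : RegImm.Kind)
    (hk : k = RegImm.Kind.h1 ∨ k = RegImm.Kind.quasi) (hi : RegImm.IsRelRegularImmersion k f i)
    (g : S' ⟶ S) :
    RegImm.IsRelRegularImmersion k (pullback.snd f g) (pullback.snd i (pullback.fst f g)) := by
  obtain ⟨⟨himm, hi'⟩, hflat⟩ := hi
  have := himm
  have := hflat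
  have H : IsPullback (pullback.fst f g) (pullback.snd f g) f g := IsPullback.of_hasPullback f g
  have HZ : IsPullback (pullback.fst i (pullback.fst f g)) (pullback.snd i (pullback.fst f g)) i
      (pullback.fst f g) := IsPullback.of_hasPullback i (pullback.fst f g)
  obtain ⟨p, hp⟩ : ∃ p : pullback f g ⟶ X, p = pullback.fst f g := ⟨_, rfl⟩
  obtain ⟨q, hq⟩ : ∃ q : pullback f g ⟶ S', q = pullback.snd f g := ⟨_, rfl⟩
  rw [← hp, ← hq] at H
  rw [← hp] at HZ ⊢
  rw [← hq]
  clear hp hq
  obtain ⟨i', hi'def⟩ : ∃ i' : pullback i p ⟶ pullback f g, i' = pullback.snd i p := ⟨_, rfl⟩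
  obtain ⟨r, hr⟩ : ∃ r : pullback i p ⟶ Z, r = pullback.fst i p := ⟨_, rfl⟩
  rw [← hi'def, ← hr] at HZ
  rw [← hi'def]
  clear hi'def hr
  have himm' : IsImmersion i' := MorphismProperty.of_isPullback (P := @IsImmersion) HZ himm
  refine ⟨⟨himm', fun z' => ?_⟩, ?_⟩
  · obtain ⟨U, hzU, hcl, rs, hrs, hker⟩ := hi' (r z')
    -- an affine open of `S`
    obtain ⟨_, ⟨V, hV, rfl⟩, hsV, -⟩ :=
      S.isBasis_affineOpens.exists_subset_of_mem_open (Set.mem_univ (f (i (r z')))) isOpen_univ
    -- shrink `U`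
    have hx1 : i (r z') ∈ U.1 ⊓ f ⁻¹ᵁ V := ⟨hzU, hsV⟩
    obtain ⟨_, ⟨U₁, hU₁, rfl⟩, hxU₁, hU₁le⟩ :=
      X.isBasis_affineOpens.exists_subset_of_mem_open hx1 (U.1 ⊓ f ⁻¹ᵁ V).isOpen
    have hU₁U : U₁ ≤ U.1 := fun x hx => (hU₁le hx).1
    have hU₁V : U₁ ≤ f ⁻¹ᵁ V := fun x hx => (hU₁le hx).2
    obtain ⟨hcl₁, rs₁, -, hrs₁, hker₁⟩ := restrict_data_kind i k U.1 U.2 hcl rs hrs hker U₁ hU₁ hU₁U
      (r z') hxU₁
    -- the point of `S'`
    have hpz : p (i' z') = i (r z') := by
      rw [← Scheme.Hom.comp_apply, ← HZ.w, Scheme.Hom.comp_apply]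
    have hs' : g (q (i' z')) = f (i (r z')) := by
      rw [← Scheme.Hom.comp_apply, ← H.w, Scheme.Hom.comp_apply, hpz]
    have hs'V : q (i' z') ∈ g ⁻¹ᵁ V := by
      change g (q (i' z')) ∈ V
      rw [hs']
      exact hsV
    obtain ⟨_, ⟨V', hV', rfl⟩, hs'V', hV'le⟩ :=
      S'.isBasis_affineOpens.exists_subset_of_mem_open hs'V (g ⁻¹ᵁ V).isOpen
    -- the affine open of the fibre product
    have hU' : IsAffineOpen (p ⁻¹ᵁ U₁ ⊓ q ⁻¹ᵁ V') := by
      have : IsAffine (Scheme.Opens.toScheme (X := S) V) := hV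
      have : IsAffine (Scheme.Opens.toScheme (X := S') V') := hV'
      have : IsAffine (Scheme.Opens.toScheme (X := X) U₁) := hU₁
      exact .of_isIso (Scheme.Hom.isPullback_resLE H hV'le hU₁V rfl).isoPullback.hom
    have hz'U' : i' z' ∈ p ⁻¹ᵁ U₁ ⊓ q ⁻¹ᵁ V' := by
      refine ⟨?_, hs'V'⟩
      change p (i' z') ∈ U₁
      rw [hpz]
      exact hxU₁
    have hiso := isIso_pushoutSection_of_isAffineOpen H hV'le hU₁V rfl hV hV' hU₁
    have hpo := (isIso_pushoutSection_iff H hV'le hU₁V rfl).mp hiso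
    obtain ⟨hcl', hker'⟩ := Groth.Agent.Lib.H9RegImmFlatBC.isClosedImmersion_and_ker i p i' r HZ
      U₁ hU₁ hcl₁ (p ⁻¹ᵁ U₁ ⊓ q ⁻¹ᵁ V') hU' inf_le_left
    refine ⟨⟨p ⁻¹ᵁ U₁ ⊓ q ⁻¹ᵁ V', hU'⟩, hz'U', hcl',
      rs₁.map (p.appLE U₁ (p ⁻¹ᵁ U₁ ⊓ q ⁻¹ᵁ V') inf_le_left).hom, ?_,
      by rw [hker', hker₁, Ideal.map_ofList]⟩
    -- the ring-level base change
    have : IsAffine (Scheme.Opens.toScheme (X := X) U₁) := hU₁
    have := hcl₁
    have hW : IsAffineOpen (i ⁻¹ᵁ U₁) := isAffine_of_isAffineHom (i ∣_ U₁)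
    have hsurj := Groth.Agent.Lib.H9RegImmStalk.app_surjective_of_restrict i U₁
    have hkerspan : RingHom.ker (i.app U₁).hom = Ideal.span (Set.range rs₁.get) := by
      rw [hker₁, Set.range_list_get]
    have hle : i ⁻¹ᵁ U₁ ≤ (i ≫ f) ⁻¹ᵁ V := fun x hx => hU₁V hx
    have hfl : ((i.app U₁).hom.comp (f.appLE V U₁ hU₁V).hom).Flat := by
      have h1 := Scheme.Hom.flat_appLE (i ≫ f) hV hW hle
      have h2 : (i ≫ f).appLE V (i ⁻¹ᵁ U₁) hle = f.appLE V U₁ hU₁V ≫ i.app U₁ := by
        rw [← Scheme.Hom.appLE_eq_app, Scheme.Hom.appLE_comp_appLE]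
      rw [h2] at h1
      exact h1
    obtain ⟨hh1, hh2⟩ := seq_of_isPushout hpo.flip rs₁.get Γ(Z, i ⁻¹ᵁ U₁)
      (i.app U₁).hom hsurj hkerspan hfl
    apply kind_seq_of_comp _ k hk rs₁
    · rintro rfl
      exact hh1 hrs₁
    · rintro rfl
      exact hh2 hrs₁
  · have h1 : IsPullback r (i' ≫ q) (i ≫ f) g := HZ.paste_vert H
    exact MorphismProperty.of_isPullback (P := @Flat) h1 hflat

end Sec3

end Groth.Agent.Lib.H9RelRegBC
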