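/-
The first Koszul homology `H1 a = Rel a / Triv a` of a finite family `a` of ring elements, in
elementary form (relations modulo trivial relations): annihilation by the ideal, invariance under
reindexing, and the effect of adding a redundant element.
-/
import Mathlib

set_option autoImplicit false

noncomputable section

namespace Groth.Agent.Lib.H6xCI

universe u

variable {A : Type u} [CommRing A]

/-! ### Generalities on subquotients -/

section subquot

variable {M N : Type*} [AddCommGroup M] [Module A M] [AddCommGroup N] [Module A N]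

/-- Transport of a subquotient along a linear equivalence. -/
def subquotCongr (Ψ : M ≃ₗ[A] N) (P Q : Submodule A M) (P' Q' : Submodule A N)
    (hQ : Q = Q'.comap Ψ.toLinearMap) (hP : P = P'.comap Ψ.toLinearMap) :
    (↥Q ⧸ P.submoduleOf Q) ≃ₗ[A] (↥Q' ⧸ P'.submoduleOf Q') := by
  have hQ' : Q.map Ψ.toLinearMap = Q' := by
    rw [hQ]
    exact Submodule.map_comap_eq_of_surjective Ψ.surjective Q'
  refine Submodule.Quotient.equiv _ _ (LinearEquiv.ofSubmodules Ψ Q Q' hQ') ?_
  ext ⟨y, hy⟩
  constructor
  · rintro ⟨⟨x, hx⟩, hxP, hxy⟩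
    have h1 : Ψ x = y := congrArg Subtype.val hxy
    have h2 : x ∈ P := hxP
    rw [hP] at h2
    show y ∈ P'
    rw [← h1]
    exact h2
  · intro hyP
    have hyP' : y ∈ P' := hyP
    have hxQ : Ψ.symm y ∈ Q := by
      rw [hQ]
      show Ψ (Ψ.symm y) ∈ Q'
      rw [LinearEquiv.apply_symm_apply]
      exact hy
    refine ⟨⟨Ψ.symm y, hxQ⟩, ?_, ?_⟩
    · show Ψ.symm y ∈ P
      rw [hP]
      show Ψ (Ψ.symm y) ∈ P'
      rw [LinearEquiv.apply_symm_apply]
      exact hyP'
    · apply Subtype.ext
      show Ψ (Ψ.symm y) = y
      exact LinearEquiv.apply_symm_apply Ψ y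

/-- The subquotient `(⊤ × R) / (J × T)` is `(A/J) × (R/T)`. -/
def prodSubquot (J : Submodule A A) (R T : Submodule A M) :
    (↥((⊤ : Submodule A A).prod R) ⧸ (J.prod T).submoduleOf ((⊤ : Submodule A A).prod R)) ≃ₗ[A]
      (A ⧸ J) × (↥R ⧸ T.submoduleOf R) := by
  let f1 : ↥((⊤ : Submodule A A).prod R) →ₗ[A] (A ⧸ J) :=
    J.mkQ ∘ₗ (LinearMap.fst A A M) ∘ₗ ((⊤ : Submodule A A).prod R).subtype
  let f2 : ↥((⊤ : Submodule A A).prod R) →ₗ[A] (↥R ⧸ T.submoduleOf R) :=
    (T.submoduleOf R).mkQ ∘ₗ
      (LinearMap.codRestrict R ((LinearMap.snd A A M) ∘ₗ ((⊤ : Submodule A A).prod R).subtype)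
        (fun x => x.2.2))
  let f : ↥((⊤ : Submodule A A).prod R) →ₗ[A] (A ⧸ J) × (↥R ⧸ T.submoduleOf R) := f1.prod f2
  have hsurj : Function.Surjective f := by
    rintro ⟨x, y⟩
    obtain ⟨x, rfl⟩ := J.mkQ_surjective x
    obtain ⟨⟨y, hy⟩, rfl⟩ := (T.submoduleOf R).mkQ_surjective y
    exact ⟨⟨(x, y), ⟨Submodule.mem_top, hy⟩⟩, rfl⟩
  have hker : LinearMap.ker f = (J.prod T).submoduleOf ((⊤ : Submodule A A).prod R) := by
    ext ⟨⟨x, y⟩, hxy⟩
    rw [LinearMap.mem_ker]
    show (J.mkQ x, (T.submoduleOf R).mkQ ⟨y, hxy.2⟩) = 0 ↔ (x, y) ∈ J.prod T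
    rw [Prod.mk_eq_zero, Submodule.mkQ_apply, Submodule.mkQ_apply, Submodule.Quotient.mk_eq_zero,
      Submodule.Quotient.mk_eq_zero, Submodule.mem_prod]
    exact Iff.rfl
  exact (Submodule.quotEquivOfEq _ _ hker.symm).trans (f.quotKerEquivOfSurjective hsurj)

end subquot

/-! ### Relations and trivial relations -/

section defs

variable {ι : Type*} [Fintype ι] (a : ι → A)

/-- The map `v ↦ Σ v_i a_i`. -/
def relMap : (ι → A) →ₗ[A] A := Fintype.linearCombination A a

theorem relMap_apply (v : ι → A) : relMap a v = ∑ i, v i * a i := by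
  unfold relMap
  rw [Fintype.linearCombination_apply]
  rfl

/-- The module of relations. -/
def Rel : Submodule A (ι → A) := LinearMap.ker (relMap a)

theorem mem_rel (v : ι → A) : v ∈ Rel a ↔ ∑ i, v i * a i = 0 := by
  unfold Rel
  rw [LinearMap.mem_ker, relMap_apply]

variable [DecidableEq ι]

/-- The trivial (Koszul) relations. -/
def trivElt (i j : ι) : ι → A := Pi.single i (a j) - Pi.single j (a i)

/-- The module of trivial relations. -/
def Triv : Submodule A (ι → A) := Submodule.span A {v | ∃ i j : ι, v = trivElt a i j}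

omit [Fintype ι] in
theorem trivElt_mem_triv (i j : ι) : trivElt a i j ∈ Triv a :=
  Submodule.subset_span ⟨i, j, rfl⟩

theorem relMap_single (i : ι) (x : A) : relMap a (Pi.single i x) = x * a i := by
  rw [relMap_apply, Finset.sum_eq_single i]
  · rw [Pi.single_eq_same]
  · intro j _ hji
    rw [Pi.single_eq_of_ne hji, zero_mul]
  · intro h
    exact absurd (Finset.mem_univ i) h

theorem trivElt_mem_rel (i j : ι) : trivElt a i j ∈ Rel a := by
  unfold Rel trivElt
  rw [LinearMap.mem_ker, map_sub, relMap_single, relMap_single, mul_comm, sub_self]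

theorem triv_le_rel : Triv a ≤ Rel a := by
  unfold Triv
  rw [Submodule.span_le]
  rintro _ ⟨i, j, rfl⟩
  exact trivElt_mem_rel a i j

/-- The first Koszul homology. -/
abbrev H1 : Type _ := ↥(Rel a) ⧸ (Triv a).submoduleOf (Rel a)

/-- Elements of the ideal multiply relations into trivial relations. -/
theorem smul_mem_triv (j : ι) (v : ι → A) (hv : v ∈ Rel a) : a j • v ∈ Triv a := by
  have h : a j • v = ∑ i, v i • trivElt a i j := by
    funext k
    rw [Finset.sum_apply, Pi.smul_apply]
    simp only [trivElt, Pi.smul_apply, Pi.sub_apply, smul_eq_mul, mul_sub, Finset.sum_sub_distrib]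
    have h1 : ∑ x, v x * (Pi.single x (a j) : ι → A) k = v k * a j := by
      rw [Finset.sum_eq_single k]
      · rw [Pi.single_eq_same]
      · intro b _ hbk
        rw [Pi.single_eq_of_ne (Ne.symm hbk), mul_zero]
      · intro h
        exact absurd (Finset.mem_univ k) h
    have h2 : ∑ x, v x * (Pi.single j (a x) : ι → A) k = (∑ x, v x * a x) * (if k = j then 1 else 0) := by
      rw [Finset.sum_mul]
      refine Finset.sum_congr rfl fun x _ => ?_
      by_cases hkj : k = j
      · subst hkj
        rw [Pi.single_eq_same, if_pos rfl, mul_one]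
      · rw [Pi.single_eq_of_ne hkj, if_neg hkj, mul_zero, mul_zero]
    rw [h1, h2, (mem_rel a v).mp hv, zero_mul, sub_zero, mul_comm]
  rw [h]
  exact Submodule.sum_mem _ fun i _ => Submodule.smul_mem _ _ (trivElt_mem_triv a i j)

theorem ideal_smul_mem_triv (x : A) (hx : x ∈ Ideal.span (Set.range a)) (v : ι → A)
    (hv : v ∈ Rel a) : x • v ∈ Triv a := by
  obtain ⟨c, rfl⟩ := Ideal.mem_span_range_iff_exists_fun.mp hx
  rw [Finset.sum_smul]
  refine Submodule.sum_mem _ fun i _ => ?_
  rw [mul_smul]
  exact Submodule.smul_mem _ _ (smul_mem_triv a i v hv)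

end defs

/-! ### Reindexing -/

section reindex

variable {ι κ : Type*} [Fintype ι] [DecidableEq ι] [Fintype κ] [DecidableEq κ] (e : ι ≃ κ)
  (b : κ → A)

theorem funCongrLeft_symm_single (i : ι) (x : A) :
    (LinearEquiv.funCongrLeft A A e).symm (Pi.single i x) = Pi.single (e i) x := by
  funext k
  show (Pi.single i x : ι → A) (e.symm k) = (Pi.single (e i) x : κ → A) k
  by_cases h : k = e i
  · subst h
    rw [Equiv.symm_apply_apply, Pi.single_eq_same, Pi.single_eq_same]
  · rw [Pi.single_eq_of_ne h, Pi.single_eq_of_ne]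
    intro h'
    exact h ((Equiv.symm_apply_eq e).mp h')

theorem funCongrLeft_single (k : κ) (x : A) :
    (LinearEquiv.funCongrLeft A A e) (Pi.single k x) = Pi.single (e.symm k) x := by
  have h := funCongrLeft_symm_single (A := A) e (e.symm k) x
  rw [Equiv.apply_symm_apply] at h
  rw [← h, LinearEquiv.apply_symm_apply]

theorem rel_reindex :
    Rel b = (Rel (b ∘ e)).comap (LinearEquiv.funCongrLeft A A e).toLinearMap := by
  ext v
  rw [Submodule.mem_comap, mem_rel, mem_rel]
  have h : ∑ i, ((LinearEquiv.funCongrLeft A A e) v) i * (b ∘ e) i = ∑ k, v k * b k :=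
    Equiv.sum_comp e (fun k => v k * b k)
  exact ⟨fun h' => h.trans h', fun h' => h.symm.trans h'⟩

theorem triv_reindex :
    Triv b = (Triv (b ∘ e)).comap (LinearEquiv.funCongrLeft A A e).toLinearMap := by
  apply le_antisymm
  · have hT : Triv b = Submodule.span A {v | ∃ i j : κ, v = trivElt b i j} := rfl
    rw [hT, Submodule.span_le]
    rintro _ ⟨k, l, rfl⟩
    show (LinearEquiv.funCongrLeft A A e) (trivElt b k l) ∈ Triv (b ∘ e)
    have h : (LinearEquiv.funCongrLeft A A e) (trivElt b k l) =
        trivElt (b ∘ e) (e.symm k) (e.symm l) := by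
      unfold trivElt
      rw [map_sub, funCongrLeft_single, funCongrLeft_single]
      simp only [Function.comp_apply, Equiv.apply_symm_apply]
    rw [h]
    exact trivElt_mem_triv _ _ _
  · intro v hv
    have hv' : (LinearEquiv.funCongrLeft A A e) v ∈ Triv (b ∘ e) := hv
    have key : ∀ w ∈ Triv (b ∘ e), (LinearEquiv.funCongrLeft A A e).symm w ∈ Triv b := by
      intro w hw
      unfold Triv at hw
      refine Submodule.span_induction ?_ ?_ ?_ ?_ hw
      · rintro _ ⟨i, j, rfl⟩
        unfold trivElt
        rw [map_sub, funCongrLeft_symm_single, funCongrLeft_symm_single]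
        exact Submodule.subset_span ⟨e i, e j, rfl⟩
      · rw [map_zero]
        exact zero_mem _
      · intro x y _ _ hx hy
        rw [map_add]
        exact add_mem hx hy
      · intro r x _ hx
        rw [map_smul]
        exact Submodule.smul_mem _ r hx
    have := key _ hv'
    rwa [LinearEquiv.symm_apply_apply] at this

/-- `H1` is invariant under reindexing. -/
def H1reindex : H1 b ≃ₗ[A] H1 (b ∘ e) :=
  subquotCongr (LinearEquiv.funCongrLeft A A e) (Triv b) (Rel b) (Triv (b ∘ e)) (Rel (b ∘ e))
    (rel_reindex e b) (triv_reindex e b)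

end reindex

/-! ### Adding a redundant element -/

section option

variable {ι : Type*} [Fintype ι] [DecidableEq ι] (a : ι → A) (c : ι → A)

/-- The family `a` extended by the element `Σ c_i a_i`. -/
def optFam : Option ι → A := fun o => o.elim (∑ i, c i * a i) a

@[simp] theorem optFam_none : optFam a c none = ∑ i, c i * a i := rfl
@[simp] theorem optFam_some (i : ι) : optFam a c (some i) = a i := rfl

/-- The shear `(W none, W ∘ some + W none • c)`. -/
def optΨ : (Option ι → A) ≃ₗ[A] A × (ι → A) where
  toFun W := (W none, fun i => W (some i) + W none * c i)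
  map_add' W W' := by
    refine Prod.ext rfl ?_
    funext i
    show (W + W') (some i) + (W + W') none * c i = (W (some i) + W none * c i) +
      (W' (some i) + W' none * c i)
    rw [Pi.add_apply, Pi.add_apply]
    ring
  map_smul' r W := by
    refine Prod.ext rfl ?_
    funext i
    show (r • W) (some i) + (r • W) none * c i = r • (W (some i) + W none * c i)
    rw [Pi.smul_apply, Pi.smul_apply, smul_eq_mul, smul_eq_mul, smul_eq_mul]
    ring
  invFun p := fun o => o.elim p.1 (fun i => p.2 i - p.1 * c i)
  left_inv W := by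
    funext o
    cases o with
    | none => rfl
    | some i =>
      show W (some i) + W none * c i - W none * c i = W (some i)
      ring
  right_inv p := by
    refine Prod.ext rfl ?_
    funext i
    show p.2 i - p.1 * c i + p.1 * c i = p.2 i
    ring

theorem optΨ_apply (W : Option ι → A) :
    optΨ c W = (W none, fun i => W (some i) + W none * c i) := rfl

theorem optΨ_single_none (x : A) : optΨ c (Pi.single none x) = (x, x • c) := by
  rw [optΨ_apply]
  refine Prod.ext ?_ ?_
  · exact Pi.single_eq_same (M := fun _ : Option ι => A) none x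
  · funext i
    show (Pi.single none x : Option ι → A) (some i) + (Pi.single none x : Option ι → A) none * c i =
      (x • c) i
    rw [Pi.single_eq_same, Pi.single_eq_of_ne (show (some i : Option ι) ≠ none by simp), zero_add,
      Pi.smul_apply, smul_eq_mul]

theorem optΨ_single_some (j : ι) (x : A) :
    optΨ c (Pi.single (some j) x) = (0, Pi.single j x) := by
  rw [optΨ_apply]
  refine Prod.ext ?_ ?_
  · exact Pi.single_eq_of_ne (M := fun _ : Option ι => A)
      (show (none : Option ι) ≠ some j by simp) x
  · funext i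
    show (Pi.single (some j) x : Option ι → A) (some i) +
      (Pi.single (some j) x : Option ι → A) none * c i = (Pi.single j x : ι → A) i
    rw [Pi.single_eq_of_ne (show (none : Option ι) ≠ some j by simp), zero_mul, add_zero]
    by_cases h : i = j
    · subst h
      rw [Pi.single_eq_same, Pi.single_eq_same]
    · rw [Pi.single_eq_of_ne h,
        Pi.single_eq_of_ne (show (some i : Option ι) ≠ some j by simpa using h)]

theorem rel_opt :
    Rel (optFam a c) =
      ((⊤ : Submodule A A).prod (Rel a)).comap (optΨ c).toLinearMap := by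
  ext W
  rw [Submodule.mem_comap, mem_rel, Fintype.sum_option]
  show _ ↔ optΨ c W ∈ _
  rw [optΨ_apply, Submodule.mem_prod]
  simp only [Submodule.mem_top, true_and, optFam_none, optFam_some]
  rw [mem_rel]
  have h : ∑ i, (W (some i) + W none * c i) * a i =
      W none * ∑ i, c i * a i + ∑ i, W (some i) * a i := by
    rw [Finset.mul_sum, ← Finset.sum_add_distrib]
    refine Finset.sum_congr rfl fun i _ => ?_
    ring
  rw [h]

theorem smul_sub_single_eq (j : ι) :
    a j • c - Pi.single j (∑ i, c i * a i) = ∑ i, c i • trivElt a i j := by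
  funext k
  rw [Finset.sum_apply]
  simp only [trivElt, Pi.smul_apply, Pi.sub_apply, smul_eq_mul, mul_sub, Finset.sum_sub_distrib]
  have h1 : ∑ x, c x * (Pi.single x (a j) : ι → A) k = c k * a j := by
    rw [Finset.sum_eq_single k]
    · rw [Pi.single_eq_same]
    · intro b _ hbk
      rw [Pi.single_eq_of_ne (Ne.symm hbk), mul_zero]
    · intro h
      exact absurd (Finset.mem_univ k) h
  have h2 : ∑ x, c x * (Pi.single j (a x) : ι → A) k =
      (Pi.single j (∑ x, c x * a x) : ι → A) k := by
    by_cases hkj : k = j
    · subst hkj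
      simp only [Pi.single_eq_same]
    · simp only [Pi.single_eq_of_ne hkj, mul_zero, Finset.sum_const_zero]
  rw [h1, h2, mul_comm]

theorem optΨ_trivElt_some_some (i j : ι) :
    optΨ c (trivElt (optFam a c) (some i) (some j)) = (0, trivElt a i j) := by
  unfold trivElt
  rw [map_sub, optΨ_single_some, optΨ_single_some, optFam_some, optFam_some, Prod.mk_sub_mk,
    sub_zero]

theorem optΨ_trivElt_none_some (j : ι) :
    optΨ c (trivElt (optFam a c) none (some j)) = (a j, ∑ i, c i • trivElt a i j) := by
  have h : trivElt (optFam a c) none (some j) =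
      Pi.single none (a j) - Pi.single (some j) (∑ i, c i * a i) := rfl
  rw [h, map_sub, optΨ_single_none, optΨ_single_some, Prod.mk_sub_mk, sub_zero,
    smul_sub_single_eq]

theorem trivElt_swap {κ : Type*} [DecidableEq κ] (b : κ → A) (i j : κ) :
    trivElt b i j = - trivElt b j i := by
  unfold trivElt
  rw [neg_sub]

theorem triv_opt :
    Triv (optFam a c) =
      (Submodule.prod (Ideal.span (Set.range a) : Submodule A A) (Triv a)).comap
        (optΨ c).toLinearMap := by
  have hns : ∀ j : ι, optΨ c (trivElt (optFam a c) none (some j)) ∈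
      Submodule.prod (Ideal.span (Set.range a) : Submodule A A) (Triv a) := by
    intro j
    rw [optΨ_trivElt_none_some, Submodule.mem_prod]
    refine ⟨Ideal.subset_span ⟨j, rfl⟩, ?_⟩
    exact Submodule.sum_mem _ fun i _ => Submodule.smul_mem _ _ (trivElt_mem_triv a i j)
  apply le_antisymm
  · have hT : Triv (optFam a c) =
        Submodule.span A {v | ∃ i j : Option ι, v = trivElt (optFam a c) i j} := rfl
    rw [hT, Submodule.span_le]
    rintro _ ⟨o, o', rfl⟩
    show optΨ c (trivElt (optFam a c) o o') ∈
      Submodule.prod (Ideal.span (Set.range a) : Submodule A A) (Triv a)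
    cases o with
    | none =>
      cases o' with
      | none =>
        have : trivElt (optFam a c) none none = 0 := by
          unfold trivElt
          rw [sub_self]
        rw [this, map_zero]
        exact zero_mem _
      | some j => exact hns j
    | some i =>
      cases o' with
      | none =>
        rw [trivElt_swap, map_neg]
        exact neg_mem (hns i)
      | some j =>
        rw [optΨ_trivElt_some_some, Submodule.mem_prod]
        exact ⟨zero_mem _, trivElt_mem_triv a i j⟩
  · -- the reverse inclusion
    have key : ∀ τ ∈ Triv a, (optΨ c).symm (0, τ) ∈ Triv (optFam a c) := by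
      intro τ hτ
      unfold Triv at hτ
      refine Submodule.span_induction ?_ ?_ ?_ ?_ hτ
      · rintro _ ⟨i, j, rfl⟩
        rw [← optΨ_trivElt_some_some a c i j, LinearEquiv.symm_apply_apply]
        exact trivElt_mem_triv _ _ _
      · have : ((0 : A), (0 : ι → A)) = 0 := rfl
        rw [this, map_zero]
        exact zero_mem _
      · intro x y _ _ hx hy
        have : ((0 : A), x + y) = (0, x) + (0, y) := by
          rw [Prod.mk_add_mk, add_zero]
        rw [this, map_add]
        exact add_mem hx hy
      · intro r x _ hx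
        have : ((0 : A), r • x) = r • ((0 : A), x) := by
          rw [Prod.smul_mk, smul_zero]
        rw [this, map_smul]
        exact Submodule.smul_mem _ r hx
    intro W hW
    have hW' : optΨ c W ∈ Submodule.prod (Ideal.span (Set.range a) : Submodule A A) (Triv a) := hW
    rw [optΨ_apply, Submodule.mem_prod] at hW'
    obtain ⟨hW1, hW2⟩ := hW'
    obtain ⟨t, ht⟩ := Ideal.mem_span_range_iff_exists_fun.mp hW1
    -- subtract the combination of the `trivElt none (some j)`
    set W' := W - ∑ j, t j • trivElt (optFam a c) none (some j) with hW'def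
    have hsum : ∑ j, t j • trivElt (optFam a c) none (some j) ∈ Triv (optFam a c) :=
      Submodule.sum_mem _ fun j _ => Submodule.smul_mem _ _ (trivElt_mem_triv _ _ _)
    have hΨW' : optΨ c W' = (0, (fun i => W (some i) + W none * c i) -
        ∑ j, t j • ∑ i, c i • trivElt a i j) := by
      rw [hW'def, map_sub, map_sum, optΨ_apply]
      simp only [map_smul, optΨ_trivElt_none_some]
      refine Prod.ext ?_ ?_
      · show W none - (∑ j, t j • ((a j, ∑ i, c i • trivElt a i j) : A × (ι → A))).1 = 0
        rw [Prod.fst_sum]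
        simp only [Prod.smul_fst, smul_eq_mul]
        rw [ht, sub_self]
      · show (fun i => W (some i) + W none * c i) -
          (∑ j, t j • ((a j, ∑ i, c i • trivElt a i j) : A × (ι → A))).2 = _
        rw [Prod.snd_sum]
        simp only [Prod.smul_snd]
    have hmem : (fun i => W (some i) + W none * c i) - ∑ j, t j • ∑ i, c i • trivElt a i j ∈
        Triv a := by
      refine sub_mem hW2 ?_
      exact Submodule.sum_mem _ fun j _ => Submodule.smul_mem _ _
        (Submodule.sum_mem _ fun i _ => Submodule.smul_mem _ _ (trivElt_mem_triv a i j))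
    have h3 := key _ hmem
    rw [← hΨW', LinearEquiv.symm_apply_apply] at h3
    have : W = W' + ∑ j, t j • trivElt (optFam a c) none (some j) := by
      rw [hW'def, sub_add_cancel]
    rw [this]
    exact add_mem h3 hsum

/-- Adding a redundant element adds a copy of `A/(a)` to `H1`. -/
def H1option :
    H1 (optFam a c) ≃ₗ[A] (A ⧸ (Ideal.span (Set.range a) : Submodule A A)) × H1 a :=
  (subquotCongr (optΨ c) (Triv (optFam a c)) (Rel (optFam a c))
    (Submodule.prod (Ideal.span (Set.range a) : Submodule A A) (Triv a))
    ((⊤ : Submodule A A).prod (Rel a)) (rel_opt a c) (triv_opt a c)).trans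
    (prodSubquot (Ideal.span (Set.range a) : Submodule A A) (Rel a) (Triv a))

end option

end Groth.Agent.Lib.H6xCI
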