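/-
Counting: the length of `H1` of a generating family of an ideal `J`, minus the number of
elements times the length of `A/J`, does not depend on the family.
-/
import Mathlib
import Groth.Agent.Lib.H6xCIA

set_option autoImplicit false

noncomputable section

namespace Groth.Agent.Lib.H6xCI

universe u

variable {A : Type u} [CommRing A]

/-- `Option α ⊕ ι ≃ Option (α ⊕ ι)`. -/
def optionSumEquiv (α ι : Type*) : Option (α ⊕ ι) ≃ Option α ⊕ ι where
  toFun
    | none => Sum.inl none
    | some (Sum.inl x) => Sum.inl (some x)
    | some (Sum.inr i) => Sum.inr i
  invFun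
    | Sum.inl none => none
    | Sum.inl (some x) => some (Sum.inl x)
    | Sum.inr i => some (Sum.inr i)
  left_inv o := by
    rcases o with _ | (x | i) <;> rfl
  right_inv s := by
    rcases s with (_ | x) | i <;> rfl

section count

variable {ι : Type} [Fintype ι] [DecidableEq ι] (a : ι → A)

theorem length_H1_congr {κ : Type} [Fintype κ] [DecidableEq κ] (e : ι ≃ κ) (b : κ → A)
    (h : b ∘ e = a) : Module.length A (H1 b) = Module.length A (H1 a) := by
  subst h
  exact (H1reindex e b).length_eq

theorem length_H1_option (c : ι → A) :
    Module.length A (H1 (optFam a c)) =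
      Module.length A (A ⧸ Ideal.span (Set.range a)) + Module.length A (H1 a) := by
  rw [(H1option a c).length_eq, Module.length_prod]

/-- Prepending a family contained in the ideal generated by `a`. -/
theorem length_H1_sumElim (α : Type) [Finite α] :
    ∀ (_ : Fintype α) (_ : DecidableEq α) (a' : α → A),
      (∀ x, a' x ∈ Ideal.span (Set.range a)) →
      Module.length A (H1 (Sum.elim a' a)) =
        Fintype.card α • Module.length A (A ⧸ Ideal.span (Set.range a)) +
          Module.length A (H1 a) := by
  refine Finite.induction_empty_option (P := fun α => ∀ (_ : Fintype α) (_ : DecidableEq α)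
    (a' : α → A), (∀ x, a' x ∈ Ideal.span (Set.range a)) →
      Module.length A (H1 (Sum.elim a' a)) =
        Fintype.card α • Module.length A (A ⧸ Ideal.span (Set.range a)) +
          Module.length A (H1 a)) ?_ ?_ ?_ α
  · -- equivalence
    intro α β e hα instβ decβ b' hb'
    letI : Fintype α := Fintype.ofEquiv β e.symm
    letI : DecidableEq α := Classical.decEq α
    have h1 := hα inferInstance inferInstance (b' ∘ e) (fun x => hb' (e x))
    rw [← Fintype.card_congr e, ← h1]
    refine length_H1_congr (Sum.elim (b' ∘ e) a) (Equiv.sumCongr e (Equiv.refl ι))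
      (Sum.elim b' a) ?_
    funext s
    rcases s with x | i <;> rfl
  · -- empty
    intro inst dec a' _
    rw [Fintype.card_eq_zero, zero_smul, zero_add]
    refine length_H1_congr a (Equiv.emptySum PEmpty ι).symm (Sum.elim a' a) ?_
    funext i
    rfl
  · -- option
    intro α instα hα instO decO a' ha'
    letI : DecidableEq α := Classical.decEq α
    obtain ⟨c0, hc0⟩ := Ideal.mem_span_range_iff_exists_fun.mp (ha' none)
    -- the family `Sum.elim (a' ∘ some) a` generates the same ideal
    set b : α ⊕ ι → A := Sum.elim (a' ∘ some) a with hb
    have hspan : Ideal.span (Set.range b) = Ideal.span (Set.range a) := by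
      apply le_antisymm
      · rw [Ideal.span_le]
        rintro _ ⟨s, rfl⟩
        rcases s with x | i
        · exact ha' (some x)
        · exact Ideal.subset_span ⟨i, rfl⟩
      · apply Ideal.span_mono
        rintro _ ⟨i, rfl⟩
        exact ⟨Sum.inr i, rfl⟩
    -- coefficients for `a' none` in terms of `b`
    let c : α ⊕ ι → A := Sum.elim (fun _ => 0) c0
    have hc : ∑ s, c s * b s = a' none := by
      rw [Fintype.sum_sum_type]
      simp only [c, b, Sum.elim_inl, Sum.elim_inr, zero_mul, Finset.sum_const_zero, zero_add]
      exact hc0
    have h1 := length_H1_option b c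
    have h2 := hα inferInstance inferInstance (a' ∘ some) (fun x => ha' (some x))
    have h3 : Module.length A (H1 (Sum.elim a' a)) = Module.length A (H1 (optFam b c)) := by
      refine length_H1_congr (optFam b c) (optionSumEquiv α ι) (Sum.elim a' a) ?_
      funext o
      rcases o with _ | (x | i)
      · show a' none = ∑ s, c s * b s
        exact hc.symm
      · rfl
      · rfl
    have hcard : @Fintype.card (Option α) instO = Fintype.card α + 1 :=
      (@Fintype.card_congr (Option α) (Option α) instO (@instFintypeOption α instα)
        (Equiv.refl _)).trans (@Fintype.card_option α instα)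
    rw [h3, h1, hspan, h2, hcard, succ_nsmul, ← add_assoc,
      add_comm (Module.length A (A ⧸ Ideal.span (Set.range a)))]

end count

/-- Independence of the generating family: for two families generating the same ideal `J` with
`A/J` of length one. -/
theorem length_H1_add_card_eq {ι κ : Type} [Fintype ι] [DecidableEq ι] [Fintype κ] [DecidableEq κ]
    (a : ι → A) (b : κ → A) (hab : Ideal.span (Set.range a) = Ideal.span (Set.range b))
    (hlen : Module.length A (A ⧸ Ideal.span (Set.range a)) = 1) :
    Module.length A (H1 a) + Fintype.card κ = Module.length A (H1 b) + Fintype.card ι := by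
  have h1 := length_H1_sumElim a κ inferInstance inferInstance b
    (fun x => hab ▸ Ideal.subset_span ⟨x, rfl⟩)
  have h2 := length_H1_sumElim b ι inferInstance inferInstance a
    (fun x => hab.symm ▸ Ideal.subset_span ⟨x, rfl⟩)
  rw [← hab] at h2
  rw [hlen, nsmul_one] at h1 h2
  have h3 : Module.length A (H1 (Sum.elim b a)) = Module.length A (H1 (Sum.elim a b)) := by
    refine length_H1_congr (Sum.elim a b) (Equiv.sumComm ι κ) (Sum.elim b a) ?_
    funext s
    rcases s with i | k <;> rfl
  rw [h1, h2] at h3
  rw [add_comm (Module.length A (H1 a)), add_comm (Module.length A (H1 b))]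
  exact h3

end Groth.Agent.Lib.H6xCI
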