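/-
`H1` of the image of an `H_1`-regular family `y` in a quotient `B/I` with `I ≤ (y)`:
its length is that of `I / (y) I`.
-/
import Mathlib
import Groth.Agent.Lib.H6xCIA

set_option autoImplicit false

noncomputable section

namespace Groth.Agent.Lib.H6xCI

universe u

/-- Semilinear bijections preserve length. -/
theorem length_eq_of_semilinear_bijective {R S : Type*} [Ring R] [Ring S] {σ : R →+* S}
    [RingHomSurjective σ] {M N : Type*} [AddCommGroup M] [Module R M] [AddCommGroup N]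
    [Module S N] (f : M →ₛₗ[σ] N) (hf : Function.Bijective f) :
    Module.length R M = Module.length S N := by
  rw [Module.length, Module.length, WithBot.unbot_inj,
    Order.krullDim_eq_of_orderIso (Submodule.orderIsoMapComapOfBijective f hf)]

section pres

variable {B : Type u} [CommRing B] {A : Type u} [CommRing A] (φ : B →+* A)
  {ι : Type} [Fintype ι] [DecidableEq ι] (y : ι → B)

/-- The image of the family. -/
def ybar : ι → A := fun i => φ (y i)

/-- Componentwise application of `φ`. -/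
def piMk : (ι → B) →ₛₗ[φ] (ι → A) where
  toFun v i := φ (v i)
  map_add' v w := by
    funext i
    exact map_add _ _ _
  map_smul' r v := by
    funext i
    show φ (r * v i) = φ r * φ (v i)
    exact map_mul _ _ _

theorem piMk_apply (v : ι → B) (i : ι) : piMk φ v i = φ (v i) := rfl

theorem piMk_surjective (hφ : Function.Surjective φ) : Function.Surjective (piMk (ι := ι) φ) := by
  intro w
  choose v hv using fun i => hφ (w i)
  exact ⟨v, funext hv⟩

theorem piMk_single (i : ι) (x : B) :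
    piMk φ (Pi.single i x) = Pi.single i (φ x) := by
  funext k
  rw [piMk_apply]
  by_cases h : k = i
  · subst h
    rw [Pi.single_eq_same, Pi.single_eq_same]
  · rw [Pi.single_eq_of_ne h, Pi.single_eq_of_ne h, map_zero]

theorem piMk_trivElt (i j : ι) : piMk φ (trivElt y i j) = trivElt (ybar φ y) i j := by
  unfold trivElt
  rw [map_sub, piMk_single, piMk_single]
  rfl

theorem relMap_piMk (v : ι → B) :
    relMap (ybar φ y) (piMk φ v) = φ (relMap y v) := by
  rw [relMap_apply, relMap_apply, map_sum]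
  refine Finset.sum_congr rfl fun i _ => ?_
  rw [map_mul]
  rfl

/-- The vectors whose combination lies in `ker φ`. -/
def Zmod : Submodule B (ι → B) := Submodule.comap (relMap y) (RingHom.ker φ : Submodule B B)

theorem mem_Zmod (v : ι → B) : v ∈ Zmod φ y ↔ relMap y v ∈ RingHom.ker φ := Iff.rfl

theorem piMk_mem_rel_iff (v : ι → B) : piMk φ v ∈ Rel (ybar φ y) ↔ v ∈ Zmod φ y := by
  unfold Rel
  rw [LinearMap.mem_ker, relMap_piMk, ← RingHom.mem_ker]
  exact Iff.rfl

/-- The vectors with all coordinates in `ker φ`. -/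
def Kpi : Submodule B (ι → B) :=
  Submodule.pi Set.univ (fun _ => (RingHom.ker φ : Submodule B B))

theorem mem_Kpi (v : ι → B) : v ∈ Kpi (ι := ι) φ ↔ ∀ i, v i ∈ RingHom.ker φ := by
  unfold Kpi
  rw [Submodule.mem_pi]
  exact ⟨fun h i => h i (Set.mem_univ i), fun h i _ => h i⟩

theorem piMk_eq_zero_iff (v : ι → B) : piMk φ v = 0 ↔ v ∈ Kpi (ι := ι) φ := by
  rw [mem_Kpi]
  constructor
  · intro h i
    have := congrFun h i
    rw [piMk_apply] at this
    exact (RingHom.mem_ker).mpr this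
  · intro h
    funext i
    rw [piMk_apply]
    exact (RingHom.mem_ker).mp (h i)

theorem Kpi_le_Zmod : Kpi φ ≤ Zmod φ y := by
  intro v hv
  rw [mem_Kpi] at hv
  rw [mem_Zmod, relMap_apply]
  exact Ideal.sum_mem _ fun i _ => Ideal.mul_mem_right _ _ (hv i)

theorem rel_le_Zmod : Rel y ≤ Zmod φ y := by
  intro v hv
  rw [mem_Zmod]
  unfold Rel at hv
  rw [LinearMap.mem_ker] at hv
  rw [hv]
  exact zero_mem _

theorem exists_lift_triv (hφ : Function.Surjective φ) (τ : ι → A) (hτ : τ ∈ Triv (ybar φ y)) :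
    ∃ t ∈ Triv y, piMk φ t = τ := by
  have hT : Triv (ybar φ y) =
      Submodule.span A {v | ∃ i j : ι, v = trivElt (ybar φ y) i j} := rfl
  rw [hT] at hτ
  refine Submodule.span_induction ?_ ?_ ?_ ?_ hτ
  · rintro _ ⟨i, j, rfl⟩
    exact ⟨trivElt y i j, trivElt_mem_triv y i j, piMk_trivElt φ y i j⟩
  · exact ⟨0, zero_mem _, map_zero _⟩
  · rintro x x' _ _ ⟨t, ht, rfl⟩ ⟨t', ht', rfl⟩
    exact ⟨t + t', add_mem ht ht', map_add _ _ _⟩
  · rintro r x _ ⟨t, ht, rfl⟩
    obtain ⟨r, rfl⟩ := hφ r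
    refine ⟨r • t, Submodule.smul_mem _ r ht, ?_⟩
    exact (piMk φ).map_smulₛₗ r t

theorem piMk_mem_triv_iff (hφ : Function.Surjective φ) (v : ι → B) :
    piMk φ v ∈ Triv (ybar φ y) ↔ v ∈ Triv y ⊔ Kpi φ := by
  constructor
  · intro h
    obtain ⟨t, ht, hte⟩ := exists_lift_triv φ y hφ _ h
    have h2 : piMk φ (v - t) = 0 := by rw [map_sub, hte, sub_self]
    rw [piMk_eq_zero_iff] at h2
    have : v = t + (v - t) := by abel
    rw [this]
    exact Submodule.add_mem_sup ht h2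
  · intro h
    obtain ⟨t, ht, u, hu, rfl⟩ := Submodule.mem_sup.mp h
    rw [map_add, (piMk_eq_zero_iff φ u).mpr hu, add_zero]
    have hT : Triv y = Submodule.span B {v | ∃ i j : ι, v = trivElt y i j} := rfl
    rw [hT] at ht
    refine Submodule.span_induction ?_ ?_ ?_ ?_ ht
    · rintro _ ⟨i, j, rfl⟩
      rw [piMk_trivElt]
      exact trivElt_mem_triv _ i j
    · rw [map_zero]
      exact zero_mem _
    · intro x x' _ _ hx hx'
      rw [map_add]
      exact add_mem hx hx'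
    · intro r x _ hx
      rw [(piMk φ).map_smulₛₗ r x]
      exact Submodule.smul_mem _ _ hx

/-- The semilinear map `Z → H1 ȳ`. -/
def toH1 : ↥(Zmod φ y) →ₛₗ[φ] H1 (ybar φ y) :=
  (Submodule.mkQ ((Triv (ybar φ y)).submoduleOf (Rel (ybar φ y)))).comp
    (LinearMap.codRestrict (Rel (ybar φ y)) ((piMk φ).comp (Zmod φ y).subtype)
      (fun v => (piMk_mem_rel_iff φ y v.1).mpr v.2))

theorem toH1_surjective (hφ : Function.Surjective φ) : Function.Surjective (toH1 φ y) := by
  intro h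
  obtain ⟨⟨w, hw⟩, rfl⟩ := Submodule.mkQ_surjective _ h
  obtain ⟨v, rfl⟩ := piMk_surjective φ hφ w
  exact ⟨⟨v, (piMk_mem_rel_iff φ y v).mp hw⟩, rfl⟩

theorem toH1_eq_zero_iff (hφ : Function.Surjective φ) (v : ↥(Zmod φ y)) :
    toH1 φ y v = 0 ↔ v.1 ∈ Triv y ⊔ Kpi φ := by
  rw [← piMk_mem_triv_iff φ y hφ]
  unfold toH1
  rw [LinearMap.comp_apply, Submodule.mkQ_apply, Submodule.Quotient.mk_eq_zero]
  exact Iff.rfl

theorem ker_toH1 (hφ : Function.Surjective φ) :
    LinearMap.ker (toH1 φ y) = (Triv y ⊔ Kpi φ).submoduleOf (Zmod φ y) := by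
  ext v
  rw [LinearMap.mem_ker, toH1_eq_zero_iff φ y hφ]
  exact Iff.rfl

/-- `ℓ_A(H1 ȳ) = ℓ_B(Z / (Triv y + I^ι))`. -/
theorem length_H1_ybar_eq (hφ : Function.Surjective φ) :
    Module.length A (H1 (ybar φ y)) =
      Module.length B (↥(Zmod φ y) ⧸ (Triv y ⊔ Kpi φ).submoduleOf (Zmod φ y)) := by
  symm
  haveI : RingHomSurjective φ := ⟨hφ⟩
  let g : (↥(Zmod φ y) ⧸ (Triv y ⊔ Kpi φ).submoduleOf (Zmod φ y)) →ₛₗ[φ]
      H1 (ybar φ y) :=
    Submodule.liftQ _ (toH1 φ y) (le_of_eq (ker_toH1 φ y hφ).symm)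
  refine length_eq_of_semilinear_bijective g ⟨?_, ?_⟩
  · rw [← LinearMap.ker_eq_bot, Submodule.ker_liftQ, ker_toH1 φ y hφ, Submodule.mkQ_map_self]
  · intro h
    obtain ⟨v, rfl⟩ := toH1_surjective φ y hφ h
    exact ⟨Submodule.Quotient.mk v, rfl⟩

/-! The other side: `Z / (Rel y + I^ι) ≅ I / (y) I`. -/

theorem mem_span_mul_iff (I : Ideal B) (x : B) :
    x ∈ Ideal.span (Set.range y) * I ↔ ∃ u : ι → B, (∀ i, u i ∈ I) ∧ relMap y u = x := by
  constructor
  · intro hx
    refine Submodule.mul_induction_on hx ?_ ?_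
    · intro m hm a ha
      obtain ⟨c, rfl⟩ := Ideal.mem_span_range_iff_exists_fun.mp hm
      refine ⟨fun i => c i * a, fun i => Ideal.mul_mem_left _ _ ha, ?_⟩
      rw [relMap_apply, Finset.sum_mul]
      refine Finset.sum_congr rfl fun i _ => ?_
      ring
    · rintro x x' ⟨u, hu, rfl⟩ ⟨u', hu', rfl⟩
      exact ⟨u + u', fun i => add_mem (hu i) (hu' i), map_add _ _ _⟩
  · rintro ⟨u, hu, rfl⟩
    rw [relMap_apply]
    refine Ideal.sum_mem _ fun i _ => ?_
    rw [mul_comm (u i) (y i)]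
    exact Ideal.mul_mem_mul (Ideal.subset_span ⟨i, rfl⟩) (hu i)

/-- The map `Z → I / (y) I`. -/
def toCot : ↥(Zmod φ y) →ₗ[B]
    (↥(RingHom.ker φ) ⧸ (Ideal.span (Set.range y) • (⊤ : Submodule B ↥(RingHom.ker φ)))) :=
  (Submodule.mkQ _).comp
    (LinearMap.codRestrict (RingHom.ker φ : Submodule B B) ((relMap y).comp (Zmod φ y).subtype)
      (fun v => v.2))

theorem toCot_surjective (hI : RingHom.ker φ ≤ Ideal.span (Set.range y)) :
    Function.Surjective (toCot φ y) := by
  intro h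
  obtain ⟨⟨x, hx⟩, rfl⟩ := Submodule.mkQ_surjective _ h
  obtain ⟨c, hc⟩ := Ideal.mem_span_range_iff_exists_fun.mp (hI hx)
  have hcZ : c ∈ Zmod φ y := by
    rw [mem_Zmod, relMap_apply, hc]
    exact hx
  refine ⟨⟨c, hcZ⟩, ?_⟩
  unfold toCot
  rw [LinearMap.comp_apply]
  congr 1
  apply Subtype.ext
  show relMap y c = x
  rw [relMap_apply, hc]

theorem toCot_eq_zero_iff (v : ↥(Zmod φ y)) : toCot φ y v = 0 ↔ v.1 ∈ Rel y ⊔ Kpi φ := by
  unfold toCot
  rw [LinearMap.comp_apply, Submodule.mkQ_apply, Submodule.Quotient.mk_eq_zero,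
    Submodule.mem_smul_top_iff]
  show relMap y v.1 ∈ Ideal.span (Set.range y) • (RingHom.ker φ : Submodule B B) ↔ _
  rw [smul_eq_mul, mem_span_mul_iff]
  constructor
  · rintro ⟨u, hu, hue⟩
    have h1 : v.1 - u ∈ Rel y := by
      unfold Rel
      rw [LinearMap.mem_ker, map_sub, hue, sub_self]
    have : v.1 = (v.1 - u) + u := by abel
    rw [this]
    exact Submodule.add_mem_sup h1 ((mem_Kpi φ u).mpr hu)
  · intro h
    obtain ⟨r, hr, u, hu, hv⟩ := Submodule.mem_sup.mp h
    refine ⟨u, (mem_Kpi φ u).mp hu, ?_⟩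
    rw [← hv, map_add]
    unfold Rel at hr
    rw [LinearMap.mem_ker] at hr
    rw [hr, zero_add]

theorem ker_toCot : LinearMap.ker (toCot φ y) = (Rel y ⊔ Kpi φ).submoduleOf (Zmod φ y) := by
  ext v
  rw [LinearMap.mem_ker, toCot_eq_zero_iff]
  exact Iff.rfl

/-- For an `H_1`-regular family `y` and `I = ker φ ≤ (y)`: `ℓ(H1 ȳ) = ℓ(I/(y)I)`. -/
theorem length_H1_ybar (hφ : Function.Surjective φ) (hreg : Rel y ≤ Triv y)
    (hI : RingHom.ker φ ≤ Ideal.span (Set.range y)) :
    Module.length A (H1 (ybar φ y)) =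
      Module.length B (↥(RingHom.ker φ) ⧸
        (Ideal.span (Set.range y) • (⊤ : Submodule B ↥(RingHom.ker φ)))) := by
  rw [length_H1_ybar_eq φ y hφ]
  have hRT : Rel y = Triv y := le_antisymm hreg (triv_le_rel y)
  have e := (toCot φ y).quotKerEquivOfSurjective (toCot_surjective φ y hI)
  rw [← e.length_eq]
  have hk : LinearMap.ker (toCot φ y) = (Triv y ⊔ Kpi φ).submoduleOf (Zmod φ y) := by
    rw [ker_toCot, hRT]
  exact (Submodule.quotEquivOfEq _ _ hk.symm).length_eq

end pres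

end Groth.Agent.Lib.H6xCI
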