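import Mathlib
import Groth.Prelude.Def_LCI2
import Groth.Agent.Lib.Helper21KoszulFun

set_option autoImplicit false
set_option linter.style.haveILetI false
set_option linter.unusedSectionVars false
universe u v w

namespace Groth.Agent.Lib.H9KoszulCotangent

-- ===== from KR1 =====
section SecKR1
open CategoryTheory CategoryTheory.Limits CochainComplex HomComplex Pointwise
open Groth.Agent.Lib.Helper21

variable {A : Type u} [CommRing A]

section Cone
variable {K L : CochainComplex (ModuleCat.{u} A) ℤ} (φ : K ⟶ L)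

lemma cfst_d (n : ℤ) (x : (mappingCone φ).X n) :
    cfst φ (n + 1) (((mappingCone φ).d n (n + 1)).hom x) =
      - (K.d (n + 1) (n + 1 + 1)).hom (cfst φ n x) := by
  have := mappingCone.d_fst_v φ n (n + 1) (n + 1 + 1) rfl rfl
  have h := congr($(this).hom x)
  simpa [cfst] using h

lemma csnd_d (n : ℤ) (x : (mappingCone φ).X n) :
    csnd φ (n + 1) (((mappingCone φ).d n (n + 1)).hom x) =
      (φ.f (n + 1)).hom (cfst φ n x) + (L.d n (n + 1)).hom (csnd φ n x) := by
  have := mappingCone.d_snd_v φ n (n + 1) rfl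
  have h := congr($(this).hom x)
  simpa [cfst, csnd] using h

end Cone

/-- all differentials have image in `I • K` -/
def SmallD (I : Ideal A) (K : CochainComplex (ModuleCat.{u} A) ℤ) : Prop :=
  ∀ (n m : ℤ) (w : K.X n), (K.d n m).hom w ∈ I • (⊤ : Submodule A (K.X m))

lemma smallD_cone (I : Ideal A) (K : CochainComplex (ModuleCat.{u} A) ℤ) (f : A) (hf : f ∈ I)
    (hK : SmallD I K) : SmallD I (mappingCone (f • 𝟙 K)) := by
  intro n m w
  by_cases h : n + 1 = m
  · subst h
    rw [cone_decomp (f • 𝟙 K) (n + 1) (((mappingCone (f • 𝟙 K)).d n (n + 1)).hom w), cfst_d, csnd_d]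
    refine add_mem ?_ ?_
    · exact Submodule.smul_top_le_comap_smul_top I (cinl (f • 𝟙 K) (n + 1))
        (neg_mem (hK _ _ _))
    · refine Submodule.smul_top_le_comap_smul_top I (cinr (f • 𝟙 K) (n + 1)) (add_mem ?_ (hK _ _ _))
      have : ((f • 𝟙 K : K ⟶ K).f (n + 1)).hom (cfst (f • 𝟙 K) n w) = f • cfst (f • 𝟙 K) n w := by
        simp
      rw [this]
      exact Submodule.smul_mem_smul hf trivial
  · rw [(mappingCone (f • 𝟙 K)).shape n m h]
    simp

lemma smallD_koszul (I : Ideal A) : ∀ (l : List A), (∀ x ∈ l, x ∈ I) →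
    SmallD I (Koszul.koszul A l)
  | [], _ => by
    intro n m w
    have : (Koszul.koszul A ([] : List A)).d n m = 0 := rfl
    rw [this]
    simp
  | f :: l, h => by
    have h1 := smallD_koszul I l (fun x hx => h x (List.mem_cons_of_mem _ hx))
    exact smallD_cone I _ f (h f List.mem_cons_self) h1

lemma subsingleton_koszul_X_pos : ∀ (l : List A) (n : ℤ), 0 < n →
    Subsingleton ((Koszul.koszul A l).X n)
  | [], n, hn => by
    apply ModuleCat.subsingleton_of_isZero
    exact HomologicalComplex.isZero_single_obj_X (ComplexShape.up ℤ) 0 _ n hn.ne'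
  | f :: l, n, hn => by
    haveI := subsingleton_koszul_X_pos l n hn
    haveI := subsingleton_koszul_X_pos l (n + 1) (by omega)
    refine ⟨fun x y => ?_⟩
    exact cone_ext (f • 𝟙 (Koszul.koszul A l)) n (Subsingleton.elim _ _) (Subsingleton.elim _ _)


section Data

lemma data_cone (K' : CochainComplex (ModuleCat.{u} A) ℤ) (f : A) (r : ℕ) (a : Fin r → A)
    (hX : Subsingleton (K'.X (-1 + 1 + 1)))
    (e' : K'.X (-1 + 1) ≃ₗ[A] A) (g' : (Fin r → A) →ₗ[A] K'.X (-1))
    (coord' : K'.X (-1) →ₗ[A] (Fin r → A))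
    (h1 : ∀ c, coord' (g' c) = c)
    (h2 : ∀ c, e' ((K'.d (-1) (-1 + 1)).hom (g' c)) = ∑ i, c i * a i) :
    ∃ (e : (mappingCone (f • 𝟙 K')).X (-1 + 1) ≃ₗ[A] A)
      (g : (Fin (r + 1) → A) →ₗ[A] (mappingCone (f • 𝟙 K')).X (-1))
      (coord : (mappingCone (f • 𝟙 K')).X (-1) →ₗ[A] (Fin (r + 1) → A)),
      (∀ c, coord (g c) = c) ∧
      ∀ c, e (((mappingCone (f • 𝟙 K')).d (-1) (-1 + 1)).hom (g c)) =
        ∑ i, c i * (Fin.cons f a : Fin (r + 1) → A) i := by
  set φ : K' ⟶ K' := f • 𝟙 K' with hφ
  let e : (mappingCone φ).X (-1 + 1) ≃ₗ[A] A :=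
    LinearEquiv.ofLinearMap (e'.toLinearMap ∘ₗ csnd φ (-1 + 1))
      (cinr φ (-1 + 1) ∘ₗ e'.symm.toLinearMap)
      (by
        ext
        simp [csnd_cinr])
      (by
        ext x
        simp only [LinearMap.coe_comp, LinearEquiv.coe_coe, Function.comp_apply,
          LinearEquiv.symm_apply_apply, LinearMap.id_coe, id_eq]
        refine cone_ext φ (-1 + 1) (Subsingleton.elim _ _) ?_
        rw [csnd_cinr])
  let g : (Fin (r + 1) → A) →ₗ[A] (mappingCone φ).X (-1) :=
    cinl φ (-1) ∘ₗ e'.symm.toLinearMap ∘ₗ LinearMap.proj 0 +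
      cinr φ (-1) ∘ₗ g' ∘ₗ LinearMap.funLeft A A Fin.succ
  let coord : (mappingCone φ).X (-1) →ₗ[A] (Fin (r + 1) → A) :=
    { toFun := fun z => Fin.cons (e' (cfst φ (-1) z)) (coord' (csnd φ (-1) z))
      map_add' := by
        intro x y
        ext i
        refine Fin.cases ?_ (fun j => ?_) i
        · simp
        · simp
      map_smul' := by
        intro t x
        ext i
        refine Fin.cases ?_ (fun j => ?_) i
        · simp
        · simp }
  have hg1 : ∀ c, cfst φ (-1) (g c) = e'.symm (c 0) := by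
    intro c
    simp only [g, LinearMap.add_apply, LinearMap.coe_comp, Function.comp_apply, map_add]
    rw [cfst_cinl, cfst_cinr, add_zero]
    rfl
  have hg2 : ∀ c, csnd φ (-1) (g c) = g' (fun i => c i.succ) := by
    intro c
    simp only [g, LinearMap.add_apply, LinearMap.coe_comp, Function.comp_apply, map_add,
      csnd_cinl, csnd_cinr, zero_add]
    rfl
  refine ⟨e, g, coord, ?_, ?_⟩
  · intro c
    ext i
    refine Fin.cases ?_ (fun j => ?_) i
    · change (Fin.cons (e' (cfst φ (-1) (g c))) (coord' (csnd φ (-1) (g c))) : Fin (r + 1) → A) 0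
        = c 0
      rw [Fin.cons_zero, hg1, LinearEquiv.apply_symm_apply]
    · change (Fin.cons (e' (cfst φ (-1) (g c))) (coord' (csnd φ (-1) (g c))) : Fin (r + 1) → A)
        j.succ = c j.succ
      rw [Fin.cons_succ, hg2, h1]
  · intro c
    change e' (csnd φ (-1 + 1) (((mappingCone φ).d (-1) (-1 + 1)).hom (g c))) = _
    rw [csnd_d, hg1, hg2, map_add, h2]
    have : (φ.f (-1 + 1)).hom (e'.symm (c 0)) = f • e'.symm (c 0) := by
      simp [hφ]
    rw [this, map_smul, LinearEquiv.apply_symm_apply, Fin.sum_univ_succ]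
    simp only [Fin.cons_zero, Fin.cons_succ, smul_eq_mul]
    ring

/-- the low-degree data of the Koszul complex -/
def Data (l : List A) : Prop :=
  ∃ (e : (Koszul.koszul A l).X (-1 + 1) ≃ₗ[A] A)
    (g : (Fin l.length → A) →ₗ[A] (Koszul.koszul A l).X (-1))
    (coord : (Koszul.koszul A l).X (-1) →ₗ[A] (Fin l.length → A)),
    (∀ c, coord (g c) = c) ∧
    ∀ c, e (((Koszul.koszul A l).d (-1) (-1 + 1)).hom (g c)) = ∑ i, c i * l.get i

lemma data_koszul : ∀ l : List A, Data l
  | [] => by
    let e : (Koszul.koszul A ([] : List A)).X (-1 + 1) ≃ₗ[A] A :=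
      (HomologicalComplex.singleObjXIsoOfEq (ComplexShape.up ℤ) 0 (ModuleCat.of A A)
        (-1 + 1) (by norm_num)).toLinearEquiv
    refine ⟨e, 0, 0, ?_, ?_⟩
    · intro c
      funext i
      exact i.elim0
    · intro c
      rw [LinearMap.zero_apply, map_zero, map_zero]
      symm
      apply Finset.sum_eq_zero
      intro i
      exact i.elim0
  | f :: l => by
    obtain ⟨e', g', coord', h1, h2⟩ := data_koszul l
    obtain ⟨e, g, coord, h3, h4⟩ := data_cone (Koszul.koszul A l) f l.length l.get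
      (subsingleton_koszul_X_pos l _ (by norm_num)) e' g' coord' h1 h2
    refine ⟨e, g, coord, h3, ?_⟩
    intro c
    refine (h4 c).trans ?_
    apply Finset.sum_congr rfl
    intro i _
    congr 1
    refine Fin.cases ?_ (fun j => ?_) i
    · rfl
    · rfl

end Data

end SecKR1

-- ===== from KR2 =====
section SecKR2
open CategoryTheory CategoryTheory.Limits CochainComplex HomComplex Pointwise

variable {A : Type u} [CommRing A]

theorem syz_mem (l : List A) (hH : IsZero ((Koszul.koszul A l).homology (-1))) (I : Ideal A)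
    (hI : ∀ x ∈ l, x ∈ I) (c : Fin l.length → A) (hc : ∑ i, c i * l.get i = 0)
    (i : Fin l.length) : c i ∈ I := by
  obtain ⟨e, g, coord, h1, h2⟩ := data_koszul l
  have hz : ((Koszul.koszul A l).d (-1) (-1 + 1)).hom (g c) = 0 := by
    apply e.injective
    rw [h2, hc, map_zero]
  have hex : (Koszul.koszul A l).ExactAt (-1) := by
    rw [HomologicalComplex.exactAt_iff_isZero_homology]
    exact hH
  rw [(Koszul.koszul A l).exactAt_iff' (-1 - 1) (-1) (-1 + 1) (by simp) (by simp)] at hex
  rw [ShortComplex.moduleCat_exact_iff] at hex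
  obtain ⟨w, hw⟩ := hex (g c) hz
  have hmem : g c ∈ I • (⊤ : Submodule A ((Koszul.koszul A l).X (-1))) := by
    rw [← hw]
    exact smallD_koszul I l hI _ _ w
  have h3 := Submodule.smul_top_le_comap_smul_top I (LinearMap.proj i ∘ₗ coord) hmem
  rw [Submodule.mem_comap, LinearMap.comp_apply, h1] at h3
  simpa using h3

theorem syz_mem_ofFn (r : ℕ) (f : Fin r → A)
    (hH : IsZero ((Koszul.koszul A (List.ofFn f)).homology (-1))) (I : Ideal A)
    (hI : ∀ i, f i ∈ I) (a : Fin r → A) (ha : ∑ i, a i * f i = 0) (i : Fin r) : a i ∈ I := by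
  have hlen : (List.ofFn f).length = r := List.length_ofFn
  have h1 := syz_mem (List.ofFn f) hH I (by
    intro x hx
    rw [List.mem_ofFn] at hx
    obtain ⟨j, rfl⟩ := hx
    exact hI j) (fun j => a (Fin.cast hlen j)) (by
    rw [← ha, ← Fin.sum_congr' (fun i => a i * f i) hlen]
    apply Finset.sum_congr rfl
    intro j _
    rw [List.get_ofFn]) (Fin.cast hlen.symm i)
  simpa using h1

theorem main {R : Type u} [CommRing R] {I : Ideal R} (_hI : I ≠ ⊤)
    (r : ℕ) (f : Fin r → I) (hf : LCI.IsKoszulRegularSeq R (List.ofFn (fun i => (f i : R))))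
    (hfI : Ideal.span (Set.range (fun i => (f i : R))) = I) :
    ∃ b : Module.Basis (Fin r) (R ⧸ I) I.Cotangent, ∀ i, b i = I.toCotangent (f i) := by
  have hH := hf (-1) (by norm_num)
  -- key: relations modulo `I²` have coefficients in `I`
  have key : ∀ a : Fin r → R, ∑ i, a i * (f i : R) ∈ I ^ 2 → ∀ i, a i ∈ I := by
    intro a ha
    have h1 : ∑ i, a i * (f i : R) ∈ I • Submodule.span R (Set.range (fun i => (f i : R))) := by
      have h2 : I • Submodule.span R (Set.range (fun i => (f i : R))) = I ^ 2 := by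
        change I • Ideal.span (Set.range (fun i => (f i : R))) = I ^ 2
        rw [hfI, pow_two, smul_eq_mul]
      rw [h2]
      exact ha
    rw [Submodule.mem_ideal_smul_span_iff_exists_sum] at h1
    obtain ⟨b, hb, hsum⟩ := h1
    rw [Finsupp.sum_fintype b (fun i c => c • (f i : R)) (fun i => zero_smul _ _)] at hsum
    have h3 : ∑ i, (a i - b i) * (f i : R) = 0 := by
      simp only [sub_mul, Finset.sum_sub_distrib]
      rw [sub_eq_zero, ← hsum]
      rfl
    intro i
    have h4 := syz_mem_ofFn r (fun i => (f i : R)) hH I (fun i => (f i).2) _ h3 i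
    have h5 := I.add_mem h4 (hb i)
    rwa [sub_add_cancel] at h5
  have hsmul : ∀ (c : R) (x : I.Cotangent), (Ideal.Quotient.mk I c) • x = c • x := by
    intro c x
    rw [← Ideal.Quotient.algebraMap_eq, algebraMap_smul]
  have hli : LinearIndependent (R ⧸ I) (fun i => I.toCotangent (f i)) := by
    rw [Fintype.linearIndependent_iff]
    intro g hg
    have hsurj : ∀ i, ∃ a : R, Ideal.Quotient.mk I a = g i :=
      fun i => Ideal.Quotient.mk_surjective (g i)
    choose a haa using hsurj
    have h1 : I.toCotangent (∑ i, a i • f i) = 0 := by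
      rw [map_sum, ← hg]
      apply Finset.sum_congr rfl
      intro i _
      rw [map_smul, ← haa i, hsmul]
    rw [Ideal.toCotangent_eq_zero] at h1
    have h2 : ((∑ i, a i • f i : I) : R) = ∑ i, a i * (f i : R) := by
      rw [Submodule.coe_sum]
      rfl
    rw [h2] at h1
    intro i
    rw [← haa i, Ideal.Quotient.eq_zero_iff_mem]
    exact key a h1 i
  have hsp : ⊤ ≤ Submodule.span (R ⧸ I) (Set.range (fun i => I.toCotangent (f i))) := by
    intro x _
    obtain ⟨y, rfl⟩ := I.toCotangent_surjective x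
    have hy : (y : R) ∈ Ideal.span (Set.range (fun i => (f i : R))) := by
      rw [hfI]
      exact y.2
    rw [Ideal.mem_span_range_iff_exists_fun] at hy
    obtain ⟨c, hc⟩ := hy
    have h1 : y = ∑ i, c i • f i := by
      apply Subtype.ext
      rw [Submodule.coe_sum, ← hc]
      rfl
    rw [h1, map_sum]
    refine Submodule.sum_mem _ (fun i _ => ?_)
    rw [map_smul, ← hsmul]
    exact Submodule.smul_mem _ _ (Submodule.subset_span ⟨i, rfl⟩)
  refine ⟨Module.Basis.mk hli hsp, fun i => ?_⟩
  rw [Module.Basis.mk_apply]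

end SecKR2


end Groth.Agent.Lib.H9KoszulCotangent
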