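import Mathlib
import Groth.Prelude.Def_LCI2
import Groth.Prelude.Def_CAlgX
import Groth.Agent.Lib.Helper21KoszulFun
import Groth.Agent.Lib.H9KoszulCotangent

/-!
# Koszul-regular sequences are `H_1`-regular (helper9)

`isH1Regular_of_koszul`: if the Koszul complex (mapping-cone model) of `l` has vanishing cohomology in
degree `-1`, then every relation among the elements of `l` is a combination of trivial relations.
-/

set_option autoImplicit false
set_option linter.style.haveILetI false
set_option linter.unusedSectionVars false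
universe u

namespace Groth.Agent.Lib.H9KoszulH1

open CategoryTheory CategoryTheory.Limits CochainComplex HomComplex Pointwise
open Groth.Agent.Lib.Helper21 Groth.Agent.Lib.H9KoszulCotangent

variable {A : Type u} [CommRing A]

/-- the span of the trivial relations -/
def Triv {r : ℕ} (a : Fin r → A) : Submodule A (Fin r → A) :=
  Submodule.span A {v | ∃ i j : Fin r, v = Pi.single i (a j) - Pi.single j (a i)}

/-- extension by zero in the first coordinate -/
def consZero (r : ℕ) : (Fin r → A) →ₗ[A] (Fin (r + 1) → A) where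
  toFun t := Fin.cons 0 t
  map_add' x y := by
    ext i
    refine Fin.cases ?_ (fun j => ?_) i <;> simp
  map_smul' c x := by
    ext i
    refine Fin.cases ?_ (fun j => ?_) i <;> simp

lemma consZero_single (r : ℕ) (i : Fin r) (x : A) :
    consZero r (Pi.single i x) = Pi.single i.succ x := by
  ext k
  refine Fin.cases ?_ (fun j => ?_) k
  · change (Fin.cons 0 (Pi.single i x) : Fin (r + 1) → A) 0 = _
    rw [Fin.cons_zero, Pi.single_eq_of_ne (Fin.succ_ne_zero i).symm]
  · change (Fin.cons 0 (Pi.single i x) : Fin (r + 1) → A) j.succ = _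
    rw [Fin.cons_succ, Pi.single_apply, Pi.single_apply]
    simp only [Fin.succ_inj]

lemma consZero_mem_triv {r : ℕ} (f : A) (a : Fin r → A) {t : Fin r → A} (ht : t ∈ Triv a) :
    consZero r t ∈ Triv (Fin.cons f a : Fin (r + 1) → A) := by
  have : Triv a ≤ (Triv (Fin.cons f a : Fin (r + 1) → A)).comap (consZero r) := by
    rw [Triv, Submodule.span_le]
    rintro v ⟨i, j, rfl⟩
    rw [SetLike.mem_coe, Submodule.mem_comap, map_sub, consZero_single, consZero_single]
    refine Submodule.subset_span ⟨i.succ, j.succ, ?_⟩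
    rw [Fin.cons_succ, Fin.cons_succ]
  exact this ht

lemma data2_cone (K' : CochainComplex (ModuleCat.{u} A) ℤ) (f : A) (r : ℕ) (a : Fin r → A)
    (hX : Subsingleton (K'.X (-2 + 1 + 1 + 1)))
    (e' : K'.X (-2 + 1 + 1) ≃ₗ[A] A) (co' : K'.X (-2 + 1) ≃ₗ[A] (Fin r → A))
    (h1 : ∀ x, e' ((K'.d (-2 + 1) (-2 + 1 + 1)).hom x) = ∑ i, co' x i * a i)
    (h2 : ∀ w, co' ((K'.d (-2) (-2 + 1)).hom w) ∈ Triv a) :
    ∃ (e : (mappingCone (f • 𝟙 K')).X (-2 + 1 + 1) ≃ₗ[A] A)
      (co : (mappingCone (f • 𝟙 K')).X (-2 + 1) ≃ₗ[A] (Fin (r + 1) → A)),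
      (∀ x, e (((mappingCone (f • 𝟙 K')).d (-2 + 1) (-2 + 1 + 1)).hom x) =
        ∑ i, co x i * (Fin.cons f a : Fin (r + 1) → A) i) ∧
      ∀ w, co (((mappingCone (f • 𝟙 K')).d (-2) (-2 + 1)).hom w) ∈
        Triv (Fin.cons f a : Fin (r + 1) → A) := by
  set φ : K' ⟶ K' := f • 𝟙 K' with hφ
  let e : (mappingCone φ).X (-2 + 1 + 1) ≃ₗ[A] A :=
    LinearEquiv.ofLinearMap (e'.toLinearMap ∘ₗ csnd φ (-2 + 1 + 1))
      (cinr φ (-2 + 1 + 1) ∘ₗ e'.symm.toLinearMap)
      (by
        ext
        simp [csnd_cinr])
      (by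
        ext x
        simp only [LinearMap.coe_comp, LinearEquiv.coe_coe, Function.comp_apply,
          LinearEquiv.symm_apply_apply, LinearMap.id_coe, id_eq]
        refine cone_ext φ (-2 + 1 + 1) (Subsingleton.elim _ _) ?_
        rw [csnd_cinr])
  let coF : (mappingCone φ).X (-2 + 1) →ₗ[A] (Fin (r + 1) → A) :=
    { toFun := fun z => Fin.cons (e' (cfst φ (-2 + 1) z)) (co' (csnd φ (-2 + 1) z))
      map_add' := by
        intro x y
        ext i
        refine Fin.cases ?_ (fun j => ?_) i
        · simp
        · simp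
      map_smul' := by
        intro t x
        ext i
        refine Fin.cases ?_ (fun j => ?_) i
        · simp
        · simp }
  let coG : (Fin (r + 1) → A) →ₗ[A] (mappingCone φ).X (-2 + 1) :=
    cinl φ (-2 + 1) ∘ₗ e'.symm.toLinearMap ∘ₗ LinearMap.proj 0 +
      cinr φ (-2 + 1) ∘ₗ co'.symm.toLinearMap ∘ₗ LinearMap.funLeft A A Fin.succ
  have hg1 : ∀ c, cfst φ (-2 + 1) (coG c) = e'.symm (c 0) := by
    intro c
    simp only [coG, LinearMap.add_apply, LinearMap.coe_comp, Function.comp_apply, map_add]
    rw [cfst_cinl, cfst_cinr, add_zero]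
    rfl
  have hg2 : ∀ c, csnd φ (-2 + 1) (coG c) = co'.symm (fun i => c i.succ) := by
    intro c
    simp only [coG, LinearMap.add_apply, LinearMap.coe_comp, Function.comp_apply, map_add,
      csnd_cinl, csnd_cinr, zero_add]
    rfl
  have hF0 : ∀ z, coF z 0 = e' (cfst φ (-2 + 1) z) := fun z => by
    change (Fin.cons (e' (cfst φ (-2 + 1) z)) (co' (csnd φ (-2 + 1) z)) : Fin (r + 1) → A) 0 = _
    rw [Fin.cons_zero]
  have hFs : ∀ z (j : Fin r), coF z j.succ = co' (csnd φ (-2 + 1) z) j := fun z j => by
    change (Fin.cons (e' (cfst φ (-2 + 1) z)) (co' (csnd φ (-2 + 1) z)) : Fin (r + 1) → A) j.succ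
      = _
    rw [Fin.cons_succ]
  let co : (mappingCone φ).X (-2 + 1) ≃ₗ[A] (Fin (r + 1) → A) :=
    LinearEquiv.ofLinearMap coF coG
      (by
        ext c i
        simp only [LinearMap.coe_comp, Function.comp_apply, LinearMap.id_coe, id_eq]
        refine Fin.cases ?_ (fun j => ?_) i
        · rw [hF0, hg1, LinearEquiv.apply_symm_apply]
        · rw [hFs, hg2, LinearEquiv.apply_symm_apply])
      (by
        ext z
        simp only [LinearMap.coe_comp, Function.comp_apply, LinearMap.id_coe, id_eq]
        refine cone_ext φ (-2 + 1) ?_ ?_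
        · rw [hg1, hF0, LinearEquiv.symm_apply_apply]
        · rw [hg2]
          have : (fun i : Fin r => coF z i.succ) = co' (csnd φ (-2 + 1) z) :=
            funext fun j => hFs z j
          rw [this, LinearEquiv.symm_apply_apply])
  have hco : ∀ z, co z = coF z := fun _ => rfl
  have hφf : ∀ (n : ℤ) (y : K'.X n), (φ.f n).hom y = f • y := by
    intro n y
    simp [hφ]
  refine ⟨e, co, ?_, ?_⟩
  · intro x
    change e' (csnd φ (-2 + 1 + 1) (((mappingCone φ).d (-2 + 1) (-2 + 1 + 1)).hom x)) = _
    rw [csnd_d, map_add, h1, hφf, map_smul, Fin.sum_univ_succ]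
    simp only [hco, hF0, hFs, Fin.cons_zero, Fin.cons_succ, smul_eq_mul]
    ring
  · intro w
    set u : Fin r → A := co' (cfst φ (-2) w) with hu
    set t : Fin r → A := co' ((K'.d (-2) (-2 + 1)).hom (csnd φ (-2) w)) with ht
    have htm : t ∈ Triv a := h2 _
    have key : co (((mappingCone φ).d (-2) (-2 + 1)).hom w) =
        ∑ i, u i • (Pi.single i.succ f - Pi.single 0 (a i) : Fin (r + 1) → A) + consZero r t := by
      rw [hco]
      ext k
      refine Fin.cases ?_ (fun j => ?_) k
      · rw [hF0, cfst_d, map_neg, h1]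
        simp only [Pi.add_apply, Finset.sum_apply, Pi.smul_apply, Pi.sub_apply, smul_eq_mul]
        have h0 : (consZero r t) 0 = 0 := by
          change (Fin.cons 0 t : Fin (r + 1) → A) 0 = 0
          rw [Fin.cons_zero]
        rw [h0, add_zero, ← Finset.sum_neg_distrib]
        apply Finset.sum_congr rfl
        intro i _
        rw [Pi.single_eq_of_ne (Fin.succ_ne_zero i).symm, Pi.single_eq_same]
        ring
      · rw [hFs, csnd_d, map_add, hφf, map_smul]
        simp only [Pi.add_apply, Finset.sum_apply, Pi.smul_apply, Pi.sub_apply, smul_eq_mul]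
        have hs : (consZero r t) j.succ = t j := by
          change (Fin.cons 0 t : Fin (r + 1) → A) j.succ = t j
          rw [Fin.cons_succ]
        rw [hs]
        congr 1
        rw [Finset.sum_eq_single j]
        · rw [Pi.single_eq_same, Pi.single_eq_of_ne (Fin.succ_ne_zero j), sub_zero, mul_comm]
        · intro i _ hij
          rw [Pi.single_eq_of_ne (fun h => hij (Fin.succ_inj.mp h).symm),
            Pi.single_eq_of_ne (Fin.succ_ne_zero j), sub_zero, mul_zero]
        · intro h
          exact absurd (Finset.mem_univ j) h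
    rw [key]
    refine add_mem (Submodule.sum_mem _ fun i _ => Submodule.smul_mem _ _ ?_)
      (consZero_mem_triv f a htm)
    refine Submodule.subset_span ⟨i.succ, 0, ?_⟩
    rw [Fin.cons_zero, Fin.cons_succ]

/-- low-degree data of the Koszul complex, including degree `-2` -/
def Data2 (l : List A) : Prop :=
  ∃ (e : (Koszul.koszul A l).X (-2 + 1 + 1) ≃ₗ[A] A)
    (co : (Koszul.koszul A l).X (-2 + 1) ≃ₗ[A] (Fin l.length → A)),
    (∀ x, e (((Koszul.koszul A l).d (-2 + 1) (-2 + 1 + 1)).hom x) = ∑ i, co x i * l.get i) ∧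
    ∀ w, co (((Koszul.koszul A l).d (-2) (-2 + 1)).hom w) ∈ Triv l.get

lemma data2_koszul : ∀ l : List A, Data2 l
  | [] => by
    let e : (Koszul.koszul A ([] : List A)).X (-2 + 1 + 1) ≃ₗ[A] A :=
      (HomologicalComplex.singleObjXIsoOfEq (ComplexShape.up ℤ) 0 (ModuleCat.of A A)
        (-2 + 1 + 1) (by norm_num)).toLinearEquiv
    haveI hs : Subsingleton ((Koszul.koszul A ([] : List A)).X (-2 + 1)) := by
      apply ModuleCat.subsingleton_of_isZero
      exact HomologicalComplex.isZero_single_obj_X (ComplexShape.up ℤ) 0 _ (-2 + 1) (by norm_num)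
    haveI : Subsingleton (Fin ([] : List A).length → A) := by
      change Subsingleton (Fin 0 → A)
      infer_instance
    refine ⟨e, LinearEquiv.ofSubsingleton _ _, ?_, ?_⟩
    · intro x
      rw [Subsingleton.elim x 0, map_zero, map_zero]
      symm
      apply Finset.sum_eq_zero
      intro i
      exact i.elim0
    · intro w
      rw [Subsingleton.elim (LinearEquiv.ofSubsingleton _ _ _) 0]
      exact zero_mem _
  | f :: l => by
    obtain ⟨e', co', h1, h2⟩ := data2_koszul l
    obtain ⟨e, co, h3, h4⟩ := data2_cone (Koszul.koszul A l) f l.length l.get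
      (subsingleton_koszul_X_pos l _ (by norm_num)) e' co' h1 h2
    have hget : ((f :: l).get : Fin (l.length + 1) → A) = Fin.cons f l.get :=
      funext fun i => Fin.cases rfl (fun _ => rfl) i
    refine ⟨e, co, ?_, ?_⟩
    · intro x
      refine (h3 x).trans ?_
      apply Finset.sum_congr rfl
      intro i _
      congr 1
      exact (congrFun hget i).symm
    · intro w
      have := h4 w
      rw [← hget] at this
      exact this

/-- A sequence whose Koszul complex is exact in degree `-1` is `H_1`-regular. -/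
theorem isH1Regular_of_homology_isZero (l : List A)
    (hH : IsZero ((Koszul.koszul A l).homology (-1))) : CAlgX.IsH1Regular l.get := by
  obtain ⟨e, co, h1, h2⟩ := data2_koszul l
  intro c hc
  have hz : ((Koszul.koszul A l).d (-2 + 1) (-2 + 1 + 1)).hom (co.symm c) = 0 := by
    apply e.injective
    rw [h1, LinearEquiv.apply_symm_apply, hc, map_zero]
  have hex : (Koszul.koszul A l).ExactAt (-2 + 1) := by
    rw [HomologicalComplex.exactAt_iff_isZero_homology]
    have : (-2 : ℤ) + 1 = -1 := by norm_num
    rw [this]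
    exact hH
  rw [(Koszul.koszul A l).exactAt_iff' (-2) (-2 + 1) (-2 + 1 + 1) (by simp) (by simp)] at hex
  rw [ShortComplex.moduleCat_exact_iff] at hex
  obtain ⟨w, hw⟩ := hex (co.symm c) hz
  have := h2 w
  have hw' : ((Koszul.koszul A l).d (-2) (-2 + 1)).hom w = co.symm c := hw
  rw [hw', LinearEquiv.apply_symm_apply] at this
  exact this

/-- Koszul-regular sequences are `H_1`-regular. -/
theorem isH1Regular_of_isKoszulRegularSeq (l : List A) (hl : LCI.IsKoszulRegularSeq A l) :
    CAlgX.IsH1Regular l.get :=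
  isH1Regular_of_homology_isZero l (hl (-1) (by norm_num))

end Groth.Agent.Lib.H9KoszulH1
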