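/-
The invariant `μ(ker f) - dim B` of a presentation `f : B ↠ A` of a Noetherian local ring `A` by a
regular local ring `B` equals `ℓ(H1 x) - |x|` for any generating family `x` of the maximal ideal
of `A`.
-/
import Mathlib
import Groth.Agent.Lib.H6xCIB
import Groth.Agent.Lib.H6xCIC
import Groth.Agent.Lib.Helper8RegDual
import Groth.Agent.Lib.H9KoszulH1
import Groth.Agent.S15821

set_option autoImplicit false

noncomputable section

namespace Groth.Agent.Lib.H6xCI

universe u

open IsLocalRing

section localPres

variable {B : Type u} [CommRing B] [IsLocalRing B] {A : Type u} [CommRing A] [IsLocalRing A]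
  (f : B →+* A)

theorem ker_le_maximalIdeal : RingHom.ker f ≤ maximalIdeal B :=
  IsLocalRing.le_maximalIdeal (RingHom.ker_ne_top f)

theorem map_maximalIdeal_of_surjective (hf : Function.Surjective f) :
    Ideal.map f (maximalIdeal B) = maximalIdeal A := by
  have h1 : (maximalIdeal A).comap f = maximalIdeal B := by
    haveI : ((maximalIdeal A).comap f).IsMaximal := Ideal.comap_isMaximal_of_surjective f hf
    exact IsLocalRing.eq_maximalIdeal inferInstance
  rw [← h1, Ideal.map_comap_of_surjective f hf]

theorem span_range_ybar {ι : Type} (y : ι → B) :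
    Ideal.span (Set.range (ybar f y)) = Ideal.map f (Ideal.span (Set.range y)) := by
  rw [Ideal.map_span, ← Set.range_comp]
  rfl

end localPres

section length

variable {B : Type u} [CommRing B] [IsLocalRing B] [IsNoetherianRing B]

/-- `ℓ_B(I/𝔪I) = μ(I)`. -/
theorem length_quotient_smul_top (I : Ideal B) :
    Module.length B (↥I ⧸ (maximalIdeal B • (⊤ : Submodule B ↥I))) = (I.spanFinrank : ℕ∞) := by
  have fg : (I : Submodule B B).FG := IsNoetherian.noetherian I
  rw [Module.length_eq_of_surjective (R := B ⧸ maximalIdeal B)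
    (M := ↥I ⧸ (maximalIdeal B • (⊤ : Submodule B ↥I))) Ideal.Quotient.mk_surjective]
  haveI : Module.Finite (B ⧸ maximalIdeal B) (↥I ⧸ (maximalIdeal B • (⊤ : Submodule B ↥I))) :=
    Module.Finite.of_restrictScalars_finite B _ _
  letI : Field (B ⧸ maximalIdeal B) := Ideal.Quotient.field (maximalIdeal B)
  refine (Module.length_eq_finrank (B ⧸ maximalIdeal B) _).trans ?_
  congr 1
  exact (IsLocalRing.spanFinrank_eq_finrank_quotient (I : Submodule B B) fg).symm

end length

section main

variable {B : Type u} [CommRing B] [IsRegularLocalRing B] {A : Type u} [CommRing A]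
  [IsLocalRing A] (f : B →+* A)

/-- The key identity. -/
theorem spanFinrank_ker_add_card (hf : Function.Surjective f) {κ : Type} [Fintype κ]
    [DecidableEq κ] (x : κ → A) (hx : Ideal.span (Set.range x) = maximalIdeal A) (d : ℕ)
    (hd : ringKrullDim B = d) :
    ((RingHom.ker f).spanFinrank : ℕ∞) + Fintype.card κ = Module.length A (H1 x) + d := by
  obtain ⟨rs, hlen, hreg, hrs⟩ := Groth.Agent.Lib.Helper8.RegDual.exists_rsop B d hd
  subst hlen
  have hK := (Groth.Agent.S15821.result B rs hreg.toIsWeaklyRegular).1
  have hH1 : CAlgX.IsH1Regular rs.get :=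
    Groth.Agent.Lib.H9KoszulH1.isH1Regular_of_isKoszulRegularSeq rs hK
  have hspan : Ideal.span (Set.range rs.get) = maximalIdeal B := by
    rw [Set.range_list_get]
    exact hrs
  have hRT : Rel rs.get ≤ Triv rs.get := by
    intro v hv
    rw [mem_rel] at hv
    exact hH1 v hv
  have hI : RingHom.ker f ≤ Ideal.span (Set.range rs.get) := by
    rw [hspan]
    exact ker_le_maximalIdeal f
  have h1 := length_H1_ybar f rs.get hf hRT hI
  rw [hspan, length_quotient_smul_top] at h1
  have hspan' : Ideal.span (Set.range (ybar f rs.get)) = maximalIdeal A := by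
    rw [span_range_ybar, hspan, map_maximalIdeal_of_surjective f hf]
  have hlen1 : Module.length A (A ⧸ Ideal.span (Set.range (ybar f rs.get))) = 1 := by
    rw [hspan']
    haveI : IsSimpleModule A (A ⧸ maximalIdeal A) :=
      isSimpleModule_iff_isCoatom.mpr (Ideal.isMaximal_def.mp inferInstance)
    exact Module.length_eq_one A (A ⧸ maximalIdeal A)
  have h2 := length_H1_add_card_eq (ybar f rs.get) x (hspan'.trans hx.symm) hlen1
  rw [h1, Fintype.card_fin] at h2
  exact h2

end main

end Groth.Agent.Lib.H6xCI
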