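/-
Presentations `φ : B ↠ C` of a local ring by a regular local ring: `dim B - μ(ker φ) ≤ dim C` with
equality iff `ker φ` is generated by a regular sequence; invariance of `dim B - μ(ker φ)`.
-/
import Mathlib
import Groth.Agent.Lib.H6xCID
import Groth.Agent.Lib.Helper28DepthCM2
import Groth.Agent.Lib.Helper5RLR3

set_option autoImplicit false

noncomputable section

namespace Groth.Agent.Lib.H6xCI

universe u

open IsLocalRing RingTheory.Sequence

section pres

variable {B : Type u} [CommRing B] [IsRegularLocalRing B] {C : Type u} [CommRing C]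
  [IsLocalRing C] (φ : B →+* C)

/-- Invariance of `dim B - μ(ker φ)`. -/
theorem invariance (hφ : Function.Surjective φ) {B' : Type u} [CommRing B']
    [IsRegularLocalRing B'] (φ' : B' →+* C) (hφ' : Function.Surjective φ') (e e' : ℕ)
    (he : ringKrullDim B = e) (he' : ringKrullDim B' = e') :
    (e : ℤ) - ((RingHom.ker φ).spanFinrank : ℤ) = (e' : ℤ) - ((RingHom.ker φ').spanFinrank : ℤ) := by
  classical
  haveI : IsNoetherianRing C := isNoetherianRing_of_surjective B C φ hφ
  obtain ⟨s, hs⟩ : (IsLocalRing.maximalIdeal C).FG := IsNoetherian.noetherian _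
  let x : Fin s.card → C := fun i => (s.equivFin.symm i : C)
  have hx : Ideal.span (Set.range x) = IsLocalRing.maximalIdeal C := by
    rw [← hs]
    congr 1
    ext a
    constructor
    · rintro ⟨i, rfl⟩
      exact (s.equivFin.symm i).2
    · intro ha
      exact ⟨s.equivFin ⟨a, ha⟩, by simp [x]⟩
  have h1 := spanFinrank_ker_add_card φ hφ x hx e he
  have h2 := spanFinrank_ker_add_card φ' hφ' x hx e' he'
  have hfin : Module.length C (H1 x) ≠ ⊤ := by
    intro h
    rw [h, top_add] at h1
    exact ENat.natCast_ne_top _ (by exact_mod_cast h1)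
  obtain ⟨n, hn⟩ := ENat.ne_top_iff_exists.mp hfin
  rw [← hn] at h1 h2
  have h1' : (RingHom.ker φ).spanFinrank + Fintype.card (Fin s.card) = n + e := by
    exact_mod_cast h1
  have h2' : (RingHom.ker φ').spanFinrank + Fintype.card (Fin s.card) = n + e' := by
    exact_mod_cast h2
  omega

/-- `dim B ≤ dim C + μ(ker φ)`. -/
theorem dim_le (hφ : Function.Surjective φ) (d e : ℕ) (hd : ringKrullDim C = d)
    (he : ringKrullDim B = e) : e ≤ d + (RingHom.ker φ).spanFinrank := by
  have h1 := ringKrullDim_le_ringKrullDim_quotient_add_spanFinrank (RingHom.ker φ)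
    (by rw [IsLocalRing.ringJacobson_eq_maximalIdeal]; exact ker_le_maximalIdeal φ)
  rw [ringKrullDim_eq_of_ringEquiv (RingHom.quotientKerEquivOfSurjective hφ), hd, he] at h1
  exact_mod_cast h1

/-- If `ker φ` is generated by a regular sequence, `dim B = dim C + μ(ker φ)`. -/
theorem dim_eq_of_isRegular (hφ : Function.Surjective φ) (d e : ℕ) (hd : ringKrullDim C = d)
    (he : ringKrullDim B = e) (rs : List B) (hrs : Ideal.ofList rs = RingHom.ker φ)
    (hreg : IsRegular B rs) : e = d + (RingHom.ker φ).spanFinrank := by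
  classical
  refine le_antisymm (dim_le φ hφ d e hd he) ?_
  have h1 := ringKrullDim_add_length_eq_ringKrullDim_of_isRegular rs hreg
  rw [hrs, ringKrullDim_eq_of_ringEquiv (RingHom.quotientKerEquivOfSurjective hφ), hd, he] at h1
  have h1' : d + rs.length = e := by exact_mod_cast h1
  have h2 : (RingHom.ker φ).spanFinrank ≤ rs.length := by
    rw [← hrs]
    have : (Ideal.ofList rs) = Ideal.span ((rs.toFinset : Finset B) : Set B) := by
      unfold Ideal.ofList
      congr 1
      ext a
      simp
    rw [this]
    exact (Submodule.spanFinrank_span_le_ncard_of_finite (Finset.finite_toSet _)).trans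
      (by rw [Set.ncard_coe_finset]; exact List.toFinset_card_le rs)
  omega

/-- If `dim B = dim C + μ(ker φ)`, then `ker φ` is generated by a regular sequence. -/
theorem exists_isRegular_of_dim_eq (hφ : Function.Surjective φ) (d e : ℕ)
    (hd : ringKrullDim C = d) (he : ringKrullDim B = e)
    (h : e = d + (RingHom.ker φ).spanFinrank) :
    ∃ rs : List B, Ideal.ofList rs = RingHom.ker φ ∧ IsRegular B rs := by
  classical
  have fg : (RingHom.ker φ : Submodule B B).FG := IsNoetherian.noetherian _
  obtain ⟨s, hs1, hs2⟩ := Submodule.FG.exists_span_finset_card_eq_spanFinrank fg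
  have hrs : Ideal.ofList s.toList = RingHom.ker φ := by
    rw [← hs2]
    unfold Ideal.ofList
    congr 1
    ext a
    simp
  have hmem : ∀ x ∈ s.toList, x ∈ maximalIdeal B := by
    intro x hx
    refine ker_le_maximalIdeal φ ?_
    rw [← hrs]
    exact Ideal.subset_span hx
  refine ⟨s.toList, hrs, ?_⟩
  have hCM : LocCoh.IsCohenMacaulayLocalRing B :=
    Groth.Agent.Lib.Helper5.isCohenMacaulayLocalRing_of_isRegularLocalRing B
  have hCM' : LocCoh.IsCohenMacaulayModule B B := hCM.supportDim_eq_depth
  have hdim : Module.supportDim B (B ⧸ (Ideal.ofList s.toList • ⊤ : Submodule B B)) +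
      (s.toList.length : ℕ) = Module.supportDim B B := by
    rw [Module.supportDim_self_eq_ringKrullDim, he]
    have h2 : (Ideal.ofList s.toList • ⊤ : Submodule B B) = RingHom.ker φ := by
      rw [hrs]
      simp
    rw [h2, Module.supportDim_quotient_eq_ringKrullDim,
      ringKrullDim_eq_of_ringEquiv (RingHom.quotientKerEquivOfSurjective hφ), hd,
      Finset.length_toList, hs1, h]
    norm_cast
  have hw := Groth.Agent.Lib.Helper28.isWeaklyRegular_of_supportDim_add_length_eq s.toList B
    hCM' hmem hdim
  refine ⟨hw, ?_⟩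
  have h2 : (Ideal.ofList s.toList • ⊤ : Submodule B B) = RingHom.ker φ := by
    rw [hrs]
    simp
  rw [h2]
  intro htop
  exact RingHom.ker_ne_top φ htop.symm

end pres

end Groth.Agent.Lib.H6xCI
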