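import Mathlib
import Groth.Prelude.Def_RegImm

set_option autoImplicit false
universe u
open scoped TensorProduct

namespace Groth.Agent.Lib.R2H4.SyntLoc

/-- `IsGlobalCI` is invariant under algebra isomorphisms. -/
theorem isGlobalCI_of_algEquiv (k : Type u) [Field k] (S S' : Type u) [CommRing S] [CommRing S']
    [Algebra k S] [Algebra k S'] (e : S ≃ₐ[k] S') (h : Synt.IsGlobalCI k S) :
    Synt.IsGlobalCI k S' := by
  rcases h with h | ⟨n, c, hc, φ, r, hφ, hker, hdim⟩
  · exact Or.inl e.symm.toEquiv.subsingleton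
  · refine Or.inr ⟨n, c, hc, (e : S →ₐ[k] S').comp φ, r, e.surjective.comp hφ, ?_, ?_⟩
    · rw [← hker]
      ext x
      simp [RingHom.mem_ker]
    · rw [← hdim]
      exact (ringKrullDim_eq_of_ringEquiv e.toRingEquiv).symm

/-- `IsLCIOver` is invariant under algebra isomorphisms. -/
theorem isLCIOver_of_algEquiv (k : Type u) [Field k] (S S' : Type u) [CommRing S] [CommRing S']
    [Algebra k S] [Algebra k S'] (e : S ≃ₐ[k] S') (h : Synt.IsLCIOver k S) :
    Synt.IsLCIOver k S' := by
  obtain ⟨hft, hloc⟩ := h
  refine ⟨Algebra.FiniteType.equiv hft e, fun p' => ?_⟩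
  have hp : (p'.asIdeal.comap (e : S →+* S')).IsPrime := Ideal.IsPrime.comap _
  obtain ⟨g, hg, hG⟩ := hloc ⟨p'.asIdeal.comap (e : S →+* S'), hp⟩
  refine ⟨e g, fun h => hg h, ?_⟩
  refine isGlobalCI_of_algEquiv k _ _ ?_ hG
  exact IsLocalization.algEquivOfAlgEquiv (M := Submonoid.powers g) (T := Submonoid.powers (e g))
    (Localization.Away g) (Localization.Away (e g)) e (Submonoid.map_powers _ _)

/-- `IsLCIOver` can be checked on a cover by basic opens. -/
theorem isLCIOver_of_span (k : Type u) [Field k] (F : Type u) [CommRing F] [Algebra k F]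
    (t : Set F) (ht : Ideal.span t = ⊤)
    (h : ∀ g ∈ t, Synt.IsLCIOver k (Localization.Away g)) : Synt.IsLCIOver k F := by
  constructor
  · rw [← RingHom.finiteType_algebraMap]
    refine RingHom.finiteType_ofLocalizationSpanTarget (algebraMap k F) t ht (fun r => ?_)
    rw [← IsScalarTower.algebraMap_eq, RingHom.finiteType_algebraMap]
    exact (h r r.2).1
  · intro q
    obtain ⟨g, hgt, hgq⟩ : ∃ g ∈ t, g ∉ q.asIdeal := by
      by_contra hcon
      push Not at hcon
      have hle : Ideal.span t ≤ q.asIdeal := Ideal.span_le.mpr hcon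
      rw [ht] at hle
      exact q.isPrime.ne_top (top_le_iff.mp hle)
    have hdisj : Disjoint (Submonoid.powers g : Set F) (q.asIdeal : Set F) := by
      rw [Set.disjoint_left]
      rintro _ ⟨n, rfl⟩ hmem
      exact hgq (q.isPrime.mem_of_pow_mem n hmem)
    have hq' : (q.asIdeal.map (algebraMap F (Localization.Away g))).IsPrime :=
      IsLocalization.isPrime_of_isPrime_disjoint (Submonoid.powers g) _ _ q.isPrime hdisj
    obtain ⟨h', hh', hG⟩ := (h g hgt).2 ⟨_, hq'⟩
    obtain ⟨a, ⟨_, n, rfl⟩, rfl⟩ := IsLocalization.exists_mk'_eq (Submonoid.powers g) h'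
    have hunit : IsUnit (algebraMap F (Localization.Away g) (g ^ n)) :=
      IsLocalization.map_units (Localization.Away g) (⟨g ^ n, n, rfl⟩ : Submonoid.powers g)
    have hassoc : Associated (algebraMap F (Localization.Away g) a)
        (IsLocalization.mk' (Localization.Away g) a (⟨g ^ n, n, rfl⟩ : Submonoid.powers g)) := by
      obtain ⟨u, hu⟩ := hunit
      refine ⟨u⁻¹, ?_⟩
      rw [Units.mul_inv_eq_iff_eq_mul, hu]
      exact (IsLocalization.mk'_spec _ a (⟨g ^ n, n, rfl⟩ : Submonoid.powers g)).symm
    have haq : a ∉ q.asIdeal := by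
      intro ha
      apply hh'
      change IsLocalization.mk' (Localization.Away g) a (⟨g ^ n, n, rfl⟩ : Submonoid.powers g) ∈
        q.asIdeal.map (algebraMap F (Localization.Away g))
      rw [IsLocalization.mk'_mem_map_algebraMap_iff]
      exact ⟨1, one_mem _, by simpa using ha⟩
    refine ⟨g * a, fun hmem => (q.isPrime.mem_or_mem hmem).elim hgq haq, ?_⟩
    have hloc : IsLocalization.Away (g * a) (Localization.Away
        (IsLocalization.mk' (Localization.Away g) a (⟨g ^ n, n, rfl⟩ : Submonoid.powers g))) :=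
      IsLocalization.Away.mul_of_associated g a _ hassoc
    exact isGlobalCI_of_algEquiv k _ _ ((IsLocalization.algEquiv (Submonoid.powers (g * a))
      (Localization.Away (IsLocalization.mk' (Localization.Away g) a
        (⟨g ^ n, n, rfl⟩ : Submonoid.powers g))) (Localization.Away (g * a))).restrictScalars k) hG

/-- Syntomic ring maps: local on the target for finite covers by basic opens. -/
theorem isSyntomic_of_span (R S : Type u) [CommRing R] [CommRing S] [Algebra R S]
    (s : Set S) (hs : Ideal.span s = ⊤)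
    (h : ∀ g ∈ s, Synt.IsSyntomic R (Localization.Away g)) : Synt.IsSyntomic R S := by
  refine ⟨?_, ?_, fun p => ?_⟩
  · rw [← RingHom.flat_algebraMap_iff]
    refine RingHom.Flat.ofLocalizationSpanTarget (algebraMap R S) s hs (fun r => ?_)
    rw [← IsScalarTower.algebraMap_eq]
    exact RingHom.flat_algebraMap_iff.mpr (h r r.2).1
  · rw [← RingHom.finitePresentation_algebraMap]
    refine RingHom.finitePresentation_ofLocalizationSpanTarget (algebraMap R S) s hs
      (fun r => ?_)
    rw [← IsScalarTower.algebraMap_eq]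
    exact RingHom.finitePresentation_algebraMap.mpr (h r r.2).2.1
  · refine isLCIOver_of_span _ _
      ((fun g : S => (1 : p.asIdeal.ResidueField) ⊗ₜ[R] g) '' s) ?_ ?_
    · have hmap : Ideal.map (Algebra.TensorProduct.includeRight :
          S →ₐ[R] p.asIdeal.ResidueField ⊗[R] S) (Ideal.span s) = ⊤ := by
        rw [hs, Ideal.map_top]
      rw [Ideal.map_span] at hmap
      exact hmap
    · rintro _ ⟨g, hg, rfl⟩
      exact isLCIOver_of_algEquiv _ _ _
        (IsLocalization.Away.tensorProductEquivTMulRight R p.asIdeal.ResidueField g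
          (Localization.Away g)) ((h g hg).2.2 p)

end Groth.Agent.Lib.R2H4.SyntLoc
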