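import Mathlib
import Groth.Prelude.Def_RegImm
import Groth.Agent.Lib.Helper28FGDim
import Groth.Agent.Lib.R2H4SyntLoc

set_option autoImplicit false
universe u
open scoped TensorProduct

namespace Groth.Agent.Lib.R2H4.GCILoc

open Groth.Agent.Lib.Helper28

variable (k : Type u) [Field k]

/-- arithmetic in `WithBot ℕ∞` -/
theorem withBot_aux (a : ℕ∞) (d : WithBot ℕ∞) (n c : ℕ) (hcn : c ≤ n)
    (h1 : ((a : ℕ∞) : WithBot ℕ∞) + d = (n : WithBot ℕ∞)) (ha : a ≤ c)
    (hd : d ≤ ((n - c : ℕ) : WithBot ℕ∞)) : d = ((n - c : ℕ) : WithBot ℕ∞) := by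
  have hcast : ∀ m : ℕ, ((m : ℕ) : WithBot ℕ∞) = (((m : ℕ) : ℕ∞) : WithBot ℕ∞) := fun _ => rfl
  rw [hcast] at hd h1 ⊢
  induction d using WithBot.recBotCoe with
  | bot => simp at h1
  | coe d =>
    rw [← WithBot.coe_add, WithBot.coe_inj] at h1
    rw [WithBot.coe_le_coe] at hd
    rw [WithBot.coe_inj]
    induction d using ENat.recTopCoe with
    | top => simp at hd
    | coe d =>
      induction a using ENat.recTopCoe with
      | top => simp at ha
      | coe a =>
        have h2 : a + d = n := by exact_mod_cast h1
        have h3 : a ≤ c := by exact_mod_cast ha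
        have h4 : d ≤ n - c := by exact_mod_cast hd
        have : d = n - c := by omega
        rw [this]

/-- A global complete intersection is equidimensional. -/
theorem equidim (n c : ℕ) (hcn : c ≤ n) (S : Type u) [CommRing S] [Algebra k S]
    (φ : MvPolynomial (Fin n) k →ₐ[k] S) (hφ : Function.Surjective φ)
    (r : Fin c → MvPolynomial (Fin n) k)
    (hker : RingHom.ker φ.toRingHom = Ideal.span (Set.range r))
    (hdim : ringKrullDim S = ((n - c : ℕ) : WithBot ℕ∞)) :
    ∀ q ∈ minimalPrimes S, ringKrullDim (S ⧸ q) = ((n - c : ℕ) : WithBot ℕ∞) := by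
  intro q hq
  have hqp : q.IsPrime := hq.1.1
  have hk : LocCoh.IsCohenMacaulayRing k := isCohenMacaulayRing_of_field k
  have hP : LocCoh.IsCohenMacaulayRing (MvPolynomial (Fin n) k) :=
    isCohenMacaulayRing_mvPolynomial_fin n
  obtain ⟨p, hp⟩ : ∃ p, p = q.comap φ.toRingHom := ⟨_, rfl⟩
  have hpmin : p ∈ (RingHom.ker φ.toRingHom).minimalPrimes := by
    rw [RingHom.ker_eq_comap_bot, Ideal.comap_minimalPrimes_eq_of_surjective (f := φ.toRingHom) hφ]
    exact ⟨q, hq, hp.symm⟩
  have hpp : p.IsPrime := hpmin.1.1
  have hht : p.height ≤ (c : ℕ∞) := by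
    refine (Ideal.height_le_spanRank_toENat_of_mem_minimalPrimes _ p hpmin).trans ?_
    rw [hker, Submodule.spanRank_toENat_eq_iInf_finset_card]
    classical
    refine (iInf_le _ ⟨Finset.image r Finset.univ, by simp⟩).trans ?_
    have h1 : (Finset.image r Finset.univ).card ≤ c := by
      simpa using (Finset.card_image_le (s := (Finset.univ : Finset (Fin c))) (f := r))
    exact_mod_cast h1
  have h1 := height_add_ringKrullDim_quotient_eq_of_forall_isMaximal_height_eq n
    (height_eq_of_isMaximal_mvPolynomial_fin k n) p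
  -- P/p ≃ S/q
  have hψ : Function.Surjective ((Ideal.Quotient.mk q).comp φ.toRingHom) :=
    Ideal.Quotient.mk_surjective.comp hφ
  have hkerψ : RingHom.ker ((Ideal.Quotient.mk q).comp φ.toRingHom) = p := by
    rw [← RingHom.comap_ker, Ideal.mk_ker, hp]
  have e1 := RingHom.quotientKerEquivOfSurjective hψ
  have e2 := Ideal.quotEquivOfEq hkerψ
  have hdimeq : ringKrullDim (MvPolynomial (Fin n) k ⧸ p) = ringKrullDim (S ⧸ q) :=
    (ringKrullDim_eq_of_ringEquiv e2).symm.trans (ringKrullDim_eq_of_ringEquiv e1)
  rw [hdimeq] at h1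
  have hle : ringKrullDim (S ⧸ q) ≤ ((n - c : ℕ) : WithBot ℕ∞) := by
    rw [← hdim]
    exact ringKrullDim_quotient_le q
  exact withBot_aux _ _ n c hcn h1 hht hle

/-- The dimension of a nontrivial localization `S_g` of a global complete intersection. -/
theorem dim_away (n c : ℕ) (hcn : c ≤ n) (S : Type u) [CommRing S] [Algebra k S]
    (φ : MvPolynomial (Fin n) k →ₐ[k] S) (hφ : Function.Surjective φ)
    (r : Fin c → MvPolynomial (Fin n) k)
    (hker : RingHom.ker φ.toRingHom = Ideal.span (Set.range r))
    (hdim : ringKrullDim S = ((n - c : ℕ) : WithBot ℕ∞)) (g : S)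
    (T : Type u) [CommRing T] [Algebra S T] [IsLocalization.Away g T] [Nontrivial T] :
    ringKrullDim T = ((n - c : ℕ) : WithBot ℕ∞) := by
  have hFT : Algebra.FiniteType k S := Algebra.FiniteType.of_surjective φ hφ
  have hJ : IsJacobsonRing S := isJacobsonRing_of_finiteType (A := k)
  have hCM : LocCoh.IsCohenMacaulayRing S :=
    isCohenMacaulayRing_of_isGlobalCI k S (Or.inr ⟨n, c, hcn, φ, r, hφ, hker, hdim⟩)
  have heq := equidim k n c hcn S φ hφ r hker hdim
  refine ringKrullDim_eq_of_forall_isMaximal_height_eq (A := T) (n - c) (fun M hM => ?_)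
  obtain ⟨hM1, -⟩ := (IsLocalization.isMaximal_iff_isMaximal_disjoint T g M).mp hM
  rw [← IsLocalization.height_under (Submonoid.powers g) M]
  exact height_eq_of_isMaximal_of_equidim k S (n - c) heq _ hM1

/-- The presentation attached to global complete intersection data. -/
noncomputable def presOf (n c : ℕ) (S : Type u) [CommRing S] [Algebra k S]
    (φ : MvPolynomial (Fin n) k →ₐ[k] S) (hφ : Function.Surjective φ)
    (r : Fin c → MvPolynomial (Fin n) k)
    (hker : RingHom.ker φ.toRingHom = Ideal.span (Set.range r)) :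
    Algebra.Presentation k S (Fin n) (Fin c) where
  toGenerators := Algebra.Generators.ofAlgHom φ hφ
  relation := r
  span_range_relation_eq_ker := by
    rw [Algebra.Generators.ker_eq_ker_aeval_val, ← hker]
    have : MvPolynomial.aeval (Algebra.Generators.ofAlgHom φ hφ).val = φ := by
      ext i
      simp [Algebra.Generators.ofAlgHom]
    rw [this]
    rfl

/-- Global complete intersection data from a presentation. -/
theorem exists_of_presentation (N C : ℕ) (T : Type u) [CommRing T] [Algebra k T]
    (P : Algebra.Presentation k T (Fin N) (Fin C)) :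
    ∃ (φ : MvPolynomial (Fin N) k →ₐ[k] T) (r : Fin C → MvPolynomial (Fin N) k),
      Function.Surjective φ ∧ RingHom.ker φ.toRingHom = Ideal.span (Set.range r) := by
  refine ⟨MvPolynomial.aeval P.val, P.relation, ?_, ?_⟩
  · intro t
    obtain ⟨x, hx⟩ := P.algebraMap_surjective t
    exact ⟨x, by rw [← hx, Algebra.Generators.algebraMap_apply]⟩
  · rw [P.span_range_relation_eq_ker, Algebra.Generators.ker_eq_ker_aeval_val]
    rfl

/-- Localizing a global complete intersection at one element gives a global complete
intersection. -/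
theorem isGlobalCI_away (S : Type u) [CommRing S] [Algebra k S] (g : S)
    (T : Type u) [CommRing T] [Algebra S T] [Algebra k T] [IsScalarTower k S T]
    [IsLocalization.Away g T] (h : Synt.IsGlobalCI k S) : Synt.IsGlobalCI k T := by
  by_cases hT : Subsingleton T
  · exact Or.inl hT
  rw [not_subsingleton_iff_nontrivial] at hT
  rcases h with hS | ⟨n, c, hcn, φ, r, hφ, hker, hdim⟩
  · exfalso
    have : (0 : T) = 1 := by
      rw [← map_zero (algebraMap S T), ← map_one (algebraMap S T), Subsingleton.elim (0 : S) 1]
    exact zero_ne_one this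
  · right
    let P0 := presOf k n c S φ hφ r hker
    let P1 := (Algebra.Presentation.localizationAway T g).comp P0
    let e : Fin (n + 1) ≃ Unit ⊕ Fin n := (Fintype.equivFinOfCardEq (by simp [add_comm])).symm
    let f : Fin (c + 1) ≃ Unit ⊕ Fin c := (Fintype.equivFinOfCardEq (by simp [add_comm])).symm
    let P2 := P1.reindex e f
    obtain ⟨φ', r', hφ', hker'⟩ := exists_of_presentation k (n + 1) (c + 1) T P2
    refine ⟨n + 1, c + 1, by omega, φ', r', hφ', hker', ?_⟩
    rw [Nat.add_sub_add_right]
    exact dim_away k n c hcn S φ hφ r hker hdim g T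

/-- Localizing a local complete intersection at one element gives a local complete
intersection. -/
theorem isLCIOver_away (S : Type u) [CommRing S] [Algebra k S] (g : S)
    (T : Type u) [CommRing T] [Algebra S T] [Algebra k T] [IsScalarTower k S T]
    [IsLocalization.Away g T] (h : Synt.IsLCIOver k S) : Synt.IsLCIOver k T := by
  obtain ⟨hft, hloc⟩ := h
  constructor
  · have : Algebra.FiniteType S T := IsLocalization.finiteType_of_monoid_fg (Submonoid.powers g) T
    exact Algebra.FiniteType.trans hft this
  · intro q'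
    have hq : (q'.asIdeal.comap (algebraMap S T)).IsPrime := Ideal.IsPrime.comap _
    obtain ⟨a, ha, hG⟩ := hloc ⟨_, hq⟩
    refine ⟨algebraMap S T a, ha, ?_⟩
    have h1 : Synt.IsGlobalCI k (Localization.Away (algebraMap S (Localization.Away a) g)) :=
      isGlobalCI_away k (Localization.Away a) (algebraMap S (Localization.Away a) g) _ hG
    have i1 : IsLocalization.Away (a * g)
        (Localization.Away (algebraMap S (Localization.Away a) g)) := inferInstance
    have i2 : IsLocalization.Away (a * g) (Localization.Away (algebraMap S T a)) := inferInstance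
    exact R2H4.SyntLoc.isGlobalCI_of_algEquiv k _ _
      ((IsLocalization.algEquiv (Submonoid.powers (a * g))
        (Localization.Away (algebraMap S (Localization.Away a) g))
        (Localization.Away (algebraMap S T a))).restrictScalars k) h1

theorem main (S : Type u) [CommRing S] [Algebra k S] (g : S) :
    (Synt.IsGlobalCI k S → Synt.IsGlobalCI k (Localization.Away g)) ∧
      (Synt.IsLCIOver k S → Synt.IsLCIOver k (Localization.Away g)) :=
  ⟨isGlobalCI_away k S g _, isLCIOver_away k S g _⟩

end Groth.Agent.Lib.R2H4.GCILoc
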