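import Mathlib
import Groth.Prelude.Def_W4bk4grassmannianPl
import Groth.Agent.Lib.H5bSchubert
import Groth.Agent.S11268

/-!
# Unions and intersections of Schubert varieties (helper5, second run)

Consequences of `plIdeal τ = schubertVanishing τ` and of the standard monomial basis:
`J(w₁) + J(w₂) = J(w₁ ∧ w₂)` is radical, `J(τ) + (X_τ)` is the ideal of the union of the Schubert
divisors of `X(τ)`, and standard monomials give a basis of the coordinate ring of a union of Schubert
varieties.
-/

set_option autoImplicit false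
set_option linter.unusedSectionVars false

universe u

noncomputable section

open MvPolynomial W4bk4grassmannian

namespace Groth.Agent.Lib.H5b

variable (K : Type u) [Field K] {d n : ℕ}

theorem isRadical_schubertVanishing (τ : Idx d n) : (schubertVanishing K d n τ).IsRadical := by
  unfold schubertVanishing
  apply Ideal.isRadical_iInf
  intro A
  apply Ideal.isRadical_iInf
  intro _
  exact (RingHom.ker_isPrime _).isRadical

theorem X_mem_schubertVanishing (τ φ : Idx d n) (h : ¬ φ ≤ τ) :
    (X φ : PlRing K d n) ∈ schubertVanishing K d n τ :=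
  plIdeal_le_schubertVanishing K τ (X_mem_plIdeal K τ φ h)

theorem chainMon_mem_schubertVanishing {m : ℕ} (τ : Idx d n) (c : Fin m → Idx d n) (k : Fin m)
    (h : ¬ c k ≤ τ) : chainMon K c ∈ schubertVanishing K d n τ :=
  plIdeal_le_schubertVanishing K τ (chainMon_mem_plIdeal K τ c k h)

theorem plIdealTop_le_schubertVanishing (τ : Idx d n) :
    plIdealTop (d := d) (n := n) K ≤ schubertVanishing K d n τ :=
  le_trans (plIdealTop_le_plIdeal K τ) (plIdeal_le_schubertVanishing K τ)

theorem inf_le_left' (w₁ w₂ : Idx d n) : W4bk4grassmannian.inf w₁ w₂ ≤ w₁ :=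
  fun _ => min_le_left _ _

theorem inf_le_right' (w₁ w₂ : Idx d n) : W4bk4grassmannian.inf w₁ w₂ ≤ w₂ :=
  fun _ => min_le_right _ _

theorem le_inf' (φ w₁ w₂ : Idx d n) (h1 : φ ≤ w₁) (h2 : φ ≤ w₂) :
    φ ≤ W4bk4grassmannian.inf w₁ w₂ :=
  fun t => le_min (h1 t) (h2 t)

section

variable [Infinite K]

/-- `J(w₁) + J(w₂) = J(w₁ ∧ w₂)`. -/
theorem schubertVanishing_sup (hd : 0 < d) (w₁ w₂ : Idx d n) :
    schubertVanishing K d n w₁ ⊔ schubertVanishing K d n w₂ =
      schubertVanishing K d n (W4bk4grassmannian.inf w₁ w₂) := by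
  apply le_antisymm
  · exact sup_le (schubertVanishing_mono K (inf_le_left' w₁ w₂))
      (schubertVanishing_mono K (inf_le_right' w₁ w₂))
  · rw [← plIdeal_eq_schubertVanishing K hd (W4bk4grassmannian.inf w₁ w₂)]
    unfold plIdeal
    rw [Ideal.span_le]
    rintro f (⟨i, j, r, hp, rfl⟩ | ⟨φ, hφ, rfl⟩)
    · apply Ideal.mem_sup_left
      apply plIdealTop_le_schubertVanishing K w₁
      exact Ideal.subset_span ⟨i, j, r, hp, rfl⟩
    · by_cases h1 : φ ≤ w₁
      · have h2 : ¬ φ ≤ w₂ := fun h2 => hφ (le_inf' φ w₁ w₂ h1 h2)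
        exact Ideal.mem_sup_right (X_mem_schubertVanishing K w₂ φ h2)
      · exact Ideal.mem_sup_left (X_mem_schubertVanishing K w₁ φ h1)

theorem isRadical_schubertVanishing_sup (hd : 0 < d) (w₁ w₂ : Idx d n) :
    (schubertVanishing K d n w₁ ⊔ schubertVanishing K d n w₂).IsRadical := by
  rw [schubertVanishing_sup K hd]
  exact isRadical_schubertVanishing K _

/-- `J(τ) + (X_τ)` is the ideal of the union of the Schubert divisors of `X(τ)`. -/
theorem schubertVanishing_sup_span (hd : 0 < d) (τ : Idx d n) (hτ : ∃ φ : Idx d n, φ < τ) :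
    schubertVanishing K d n τ ⊔ Ideal.span {(X τ : PlRing K d n)} =
      ⨅ φ ∈ divisors τ, schubertVanishing K d n φ := by
  classical
  have hle : schubertVanishing K d n τ ⊔ Ideal.span {(X τ : PlRing K d n)} ≤
      ⨅ φ ∈ divisors τ, schubertVanishing K d n φ := by
    apply le_iInf
    intro φ
    apply le_iInf
    intro hφ
    apply sup_le
    · exact schubertVanishing_mono K (le_of_lt hφ.1)
    · rw [Ideal.span_le, Set.singleton_subset_iff]
      exact X_mem_schubertVanishing K φ τ (not_le_of_gt hφ.1)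
  apply le_antisymm hle
  intro f hf
  obtain ⟨l, hl⟩ := exists_stdComb K f
  have hl' : f - stdComb K l ∈
      schubertVanishing K d n τ ⊔ Ideal.span {(X τ : PlRing K d n)} :=
    Ideal.mem_sup_left (plIdealTop_le_schubertVanishing K τ hl)
  have hsplit : stdComb K l = stdComb K (l.filter (fun c : Chain d n => ∀ j, c.2.1 j < τ)) +
      stdComb K (l.filter (fun c : Chain d n => ¬ ∀ j, c.2.1 j < τ)) := by
    rw [← stdComb_add, Finsupp.filter_add_filter_not]
  have h2 : stdComb K (l.filter (fun c : Chain d n => ¬ ∀ j, c.2.1 j < τ)) ∈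
      schubertVanishing K d n τ ⊔ Ideal.span {(X τ : PlRing K d n)} := by
    apply stdComb_filter_mem
    intro c hc
    push Not at hc
    obtain ⟨j, hj⟩ := hc
    by_cases hle' : c.2.1 j ≤ τ
    · have heq : c.2.1 j = τ := by
        by_contra hne
        exact hj (lt_of_le_of_ne hle' hne)
      apply Ideal.mem_sup_right
      unfold chainMon
      obtain ⟨q, hq⟩ := Finset.dvd_prod_of_mem (fun k => (X (c.2.1 k) : PlRing K d n))
        (Finset.mem_univ j)
      rw [hq]
      apply Ideal.mul_mem_right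
      apply Ideal.subset_span
      simp only [heq, Set.mem_singleton_iff]
    · exact Ideal.mem_sup_left (chainMon_mem_schubertVanishing K τ c.2.1 j hle')
  have h1 : stdComb K (l.filter (fun c : Chain d n => ∀ j, c.2.1 j < τ)) ∈
      ⨅ φ ∈ divisors τ, schubertVanishing K d n φ := by
    have e : stdComb K (l.filter (fun c : Chain d n => ∀ j, c.2.1 j < τ)) =
        f - (f - stdComb K l) -
          stdComb K (l.filter (fun c : Chain d n => ¬ ∀ j, c.2.1 j < τ)) := by
      rw [hsplit]
      ring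
    rw [e]
    exact Ideal.sub_mem _ (Ideal.sub_mem _ hf (hle hl')) (hle h2)
  have h0 : l.filter (fun c : Chain d n => ∀ j, c.2.1 j < τ) = 0 := by
    ext c
    rw [Finsupp.coe_zero, Pi.zero_apply]
    by_cases hc : ∀ j, c.2.1 j < τ
    · -- a divisor above the whole chain
      have hdiv : ∃ φ ∈ divisors τ, ∀ j, c.2.1 j ≤ φ := by
        obtain ⟨m, c, hanti⟩ := c
        rcases Nat.eq_zero_or_pos m with rfl | hm
        · obtain ⟨φ0, hφ0⟩ := hτ
          obtain ⟨φ, hφ, -⟩ := Groth.Agent.S11268.result d n φ0 τ hφ0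
          exact ⟨φ, hφ, fun j => j.elim0⟩
        · obtain ⟨φ, hφ, hle0⟩ := Groth.Agent.S11268.result d n (c ⟨0, hm⟩) τ (hc ⟨0, hm⟩)
          refine ⟨φ, hφ, fun j => le_trans (hanti ?_) hle0⟩
          exact Fin.mk_le_of_le_val (Nat.zero_le _)
      obtain ⟨φ, hφ, hcφ⟩ := hdiv
      have h1' : stdComb K (l.filter (fun c : Chain d n => ∀ j, c.2.1 j < τ)) ∈
          schubertVanishing K d n φ := by
        have := h1
        simp only [Submodule.mem_iInf] at this
        exact this φ hφ
      exact coeff_eq_zero_of_mem_schubertVanishing K hd φ _ h1' c hcφ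
    · exact Finsupp.filter_apply_neg _ l hc
  have e : f = (f - stdComb K l) +
      stdComb K (l.filter (fun c : Chain d n => ¬ ∀ j, c.2.1 j < τ)) := by
    have e0 : stdComb K (0 : Chain d n →₀ K) = 0 := by
      unfold stdComb
      rw [map_zero]
    rw [hsplit, h0, e0, zero_add]
    ring
  rw [e]
  exact Ideal.add_mem _ hl' h2

/-! ### Unions of Schubert varieties -/

/-- the standard monomials on the union of the `X(τ_i)` -/
abbrev UChain {r : ℕ} (τs : Fin r → Idx d n) : Type :=
  Σ m : ℕ, {c : Fin m → Idx d n // Antitone c ∧ ∃ i, ∀ k, c k ≤ τs i}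

/-- forgetting the Schubert condition -/
def UChain.toChain {r : ℕ} {τs : Fin r → Idx d n} (c : UChain τs) : Chain d n :=
  ⟨c.1, ⟨c.2.1, c.2.2.1⟩⟩

theorem UChain.toChain_injective {r : ℕ} (τs : Fin r → Idx d n) :
    Function.Injective (UChain.toChain (τs := τs)) := by
  rintro ⟨m, c, hc⟩ ⟨m', c', hc'⟩ h
  unfold UChain.toChain at h
  simp only [Sigma.mk.injEq] at h
  obtain ⟨rfl, h2⟩ := h
  have h3 := eq_of_heq h2
  simp only [Subtype.mk.injEq] at h3
  subst h3
  rfl

theorem linearIndependent_union (hd : 0 < d) {r : ℕ} (τs : Fin r → Idx d n) :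
    LinearIndependent K (fun c : UChain τs =>
      Ideal.Quotient.mk (⨅ i, schubertVanishing K d n (τs i)) (chainMon K c.2.1)) := by
  classical
  rw [linearIndependent_iff]
  intro l hl
  have hv : (fun c : UChain τs =>
      Ideal.Quotient.mk (⨅ i, schubertVanishing K d n (τs i)) (chainMon K c.2.1)) =
      (Ideal.Quotient.mkₐ K (⨅ i, schubertVanishing K d n (τs i))).toLinearMap ∘
        ((fun c : Chain d n => chainMon K c.2.1) ∘ UChain.toChain) := rfl
  rw [hv, ← Finsupp.apply_linearCombination, ← Finsupp.linearCombination_mapDomain] at hl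
  have hmem : stdComb K (l.mapDomain UChain.toChain) ∈ ⨅ i, schubertVanishing K d n (τs i) := by
    rw [← Ideal.Quotient.eq_zero_iff_mem]
    exact hl
  ext c
  rw [Finsupp.coe_zero, Pi.zero_apply]
  obtain ⟨i, hi⟩ := c.2.2.2
  have hmem' : stdComb K (l.mapDomain UChain.toChain) ∈ schubertVanishing K d n (τs i) := by
    rw [Submodule.mem_iInf] at hmem
    exact hmem i
  have h0 := coeff_eq_zero_of_mem_schubertVanishing K hd (τs i) _ hmem' (UChain.toChain c) hi
  rw [Finsupp.mapDomain_apply (UChain.toChain_injective τs)] at h0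
  exact h0

theorem span_union {r : ℕ} (τs : Fin r → Idx d n) :
    Submodule.span K (Set.range fun c : UChain τs =>
      Ideal.Quotient.mk (⨅ i, schubertVanishing K d n (τs i)) (chainMon K c.2.1)) = ⊤ := by
  classical
  rw [eq_top_iff]
  rintro q -
  obtain ⟨f, rfl⟩ := Ideal.Quotient.mk_surjective q
  obtain ⟨l, hl⟩ := exists_stdComb K f
  have hJ : plIdealTop (d := d) (n := n) K ≤ ⨅ i, schubertVanishing K d n (τs i) :=
    le_iInf fun i => plIdealTop_le_schubertVanishing K (τs i)
  have hsplit : stdComb K l =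
      stdComb K (l.filter (fun c : Chain d n => ∃ i, ∀ k, c.2.1 k ≤ τs i)) +
      stdComb K (l.filter (fun c : Chain d n => ¬ ∃ i, ∀ k, c.2.1 k ≤ τs i)) := by
    rw [← stdComb_add, Finsupp.filter_add_filter_not]
  have h2 : stdComb K (l.filter (fun c : Chain d n => ¬ ∃ i, ∀ k, c.2.1 k ≤ τs i)) ∈
      ⨅ i, schubertVanishing K d n (τs i) := by
    apply stdComb_filter_mem
    intro c hc
    push Not at hc
    rw [Submodule.mem_iInf]
    intro i
    obtain ⟨k, hk⟩ := hc i
    exact chainMon_mem_schubertVanishing K (τs i) c.2.1 k hk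
  have e : Ideal.Quotient.mk (⨅ i, schubertVanishing K d n (τs i)) f =
      Ideal.Quotient.mk (⨅ i, schubertVanishing K d n (τs i))
        (stdComb K (l.filter (fun c : Chain d n => ∃ i, ∀ k, c.2.1 k ≤ τs i))) := by
    rw [Ideal.Quotient.eq]
    have e' : f - stdComb K (l.filter (fun c : Chain d n => ∃ i, ∀ k, c.2.1 k ≤ τs i)) =
        (f - stdComb K l) +
          stdComb K (l.filter (fun c : Chain d n => ¬ ∃ i, ∀ k, c.2.1 k ≤ τs i)) := by
      rw [hsplit]
      ring
    rw [e']
    exact Ideal.add_mem _ (hJ hl) h2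
  rw [e]
  unfold stdComb
  rw [Finsupp.linearCombination_apply, Finsupp.sum, map_sum]
  apply Submodule.sum_mem
  intro c hc
  rw [Finsupp.support_filter, Finset.mem_filter] at hc
  have hsm : Ideal.Quotient.mk (⨅ i, schubertVanishing K d n (τs i))
      ((l.filter (fun c : Chain d n => ∃ i, ∀ k, c.2.1 k ≤ τs i)) c • chainMon K c.2.1) =
      (l.filter (fun c : Chain d n => ∃ i, ∀ k, c.2.1 k ≤ τs i)) c •
        Ideal.Quotient.mk (⨅ i, schubertVanishing K d n (τs i)) (chainMon K c.2.1) :=
    map_smul (Ideal.Quotient.mkₐ K (⨅ i, schubertVanishing K d n (τs i))) _ _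
  rw [hsm]
  apply Submodule.smul_mem
  apply Submodule.subset_span
  exact ⟨⟨c.1, ⟨c.2.1, ⟨c.2.2, hc.2⟩⟩⟩, rfl⟩

end

end Groth.Agent.Lib.H5b
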