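import Mathlib
import Groth.Prelude.Def_W4bk4grassmannianPl
import Groth.Agent.Lib.H5bBottom
import Groth.Agent.Lib.H5bSchubertB
import Groth.Agent.Lib.Helper14FTDim
import Groth.Agent.S11268

/-!
# The dimension of the cone over a Schubert variety (helper5, second run)

`dim S/J(w) = codeg w + 1`, by induction on `codeg w`: the ring `S/J(w)` is a domain of finite type
over `K`, the class of `X_w` is a nonzero element of the irrelevant maximal ideal, and
`J(w) + (X_w)` is the intersection of the `J(φ)` over the Schubert divisors `φ` of `w`.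
-/

set_option autoImplicit false
set_option linter.unusedSectionVars false

universe u

noncomputable section

open MvPolynomial W4bk4grassmannian

namespace Groth.Agent.Lib.H5b

section General

variable {R : Type*} [CommRing R]

/-- The dimension of the quotient by a finite intersection of ideals. -/
theorem ringKrullDim_quotient_finset_inf_le {ι : Type*} (s : Finset ι) (f : ι → Ideal R)
    (N : WithBot ℕ∞) (h : ∀ i ∈ s, ringKrullDim (R ⧸ f i) ≤ N) :
    ringKrullDim (R ⧸ s.inf f) ≤ N := by
  rw [ringKrullDim_quotient]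
  unfold Order.krullDim
  apply iSup_le
  intro l
  have hI : s.inf f ≤ l.head.1.asIdeal := l.head.2
  obtain ⟨i, hi, hle⟩ := (Ideal.IsPrime.inf_le' l.head.1.isPrime).mp hI
  let l' : LTSeries (PrimeSpectrum.zeroLocus (R := R) (f i)) :=
    { length := l.length
      toFun := fun j => ⟨(l j).1, fun x hx => (l.head_le j : l.head.1.asIdeal ≤ (l j).1.asIdeal)
        (hle hx)⟩
      step := fun j => l.step j }
  have h1 : ((l'.length : ℕ) : WithBot ℕ∞) ≤ Order.krullDim (PrimeSpectrum.zeroLocus (R := R) (f i)) :=
    Order.LTSeries.length_le_krullDim l'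
  rw [← ringKrullDim_quotient] at h1
  exact le_trans h1 (h i hi)

end General

variable (K : Type u) [Field K] {d n : ℕ}

theorem lowerIdeal_botIdx (hdn : d < n) : lowerIdeal K (botIdx hdn) = ⊥ := by
  unfold lowerIdeal
  rw [Ideal.span_eq_bot]
  rintro f ⟨θ, hθ, rfl⟩
  exact absurd (botIdx_le hdn θ) hθ

theorem evalMinors_zero_X (hd : 0 < d) (θ : Idx d n) :
    evalMinors K d n (0 : Matrix (Fin n) (Fin d) K) (X θ) = 0 := by
  rw [evalMinors_X]
  have : Nonempty (Fin d) := ⟨⟨0, hd⟩⟩
  have : (0 : Matrix (Fin n) (Fin d) K).submatrix θ.1 id = 0 := by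
    ext i j
    simp
  rw [this, Matrix.det_zero]

theorem schubertVanishing_le_ker_zero (hd : 0 < d) (w : Idx d n) :
    schubertVanishing K d n w ≤
      RingHom.ker (evalMinors K d n (0 : Matrix (Fin n) (Fin d) K)).toRingHom := by
  intro f hf
  unfold schubertVanishing at hf
  rw [Ideal.mem_iInf] at hf
  have h1 := hf 0
  rw [Ideal.mem_iInf] at h1
  apply h1
  intro φ _
  have : Nonempty (Fin d) := ⟨⟨0, hd⟩⟩
  have : (0 : Matrix (Fin n) (Fin d) K).submatrix φ.1 id = 0 := by
    ext i j
    simp
  rw [this, Matrix.det_zero]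

/-- every polynomial is congruent to a constant modulo the coordinates -/
theorem sub_C_mem_span_X (hd : 0 < d) (f : PlRing K d n) :
    f - C (evalMinors K d n (0 : Matrix (Fin n) (Fin d) K) f) ∈
      Ideal.span (Set.range fun θ : Idx d n => (X θ : PlRing K d n)) := by
  induction f using MvPolynomial.induction_on with
  | C a =>
    have : evalMinors K d n (0 : Matrix (Fin n) (Fin d) K) (C a) = a := by
      unfold evalMinors
      rw [aeval_C]
      rfl
    rw [this, sub_self]
    exact Ideal.zero_mem _
  | add p q hp hq =>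
    rw [map_add, C_add]
    have : p + q - (C (evalMinors K d n (0 : Matrix (Fin n) (Fin d) K) p) +
        C (evalMinors K d n (0 : Matrix (Fin n) (Fin d) K) q)) =
        (p - C (evalMinors K d n (0 : Matrix (Fin n) (Fin d) K) p)) +
        (q - C (evalMinors K d n (0 : Matrix (Fin n) (Fin d) K) q)) := by ring
    rw [this]
    exact Ideal.add_mem _ hp hq
  | mul_X p θ _ =>
    rw [map_mul, evalMinors_zero_X K hd θ, mul_zero, C_0, sub_zero]
    exact Ideal.mul_mem_left _ _ (Ideal.subset_span ⟨θ, rfl⟩)

theorem ker_zero_isMaximal :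
    (RingHom.ker (evalMinors K d n (0 : Matrix (Fin n) (Fin d) K)).toRingHom).IsMaximal := by
  apply RingHom.ker_isMaximal_of_surjective
  intro a
  refine ⟨C a, ?_⟩
  change evalMinors K d n (0 : Matrix (Fin n) (Fin d) K) (C a) = a
  unfold evalMinors
  rw [aeval_C]
  rfl

variable [Infinite K]

theorem isPrime_schubertVanishing (hd : 0 < d) (hdn : d < n) (w : Idx d n) :
    (schubertVanishing K d n w).IsPrime := by
  have h := isPrime_schubertVanishing_sup_lowerIdeal K hd (botIdx hdn) w
  rwa [lowerIdeal_botIdx, sup_bot_eq] at h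

/-- the hyperplane section by the top coordinate drops the dimension by one -/
theorem ringKrullDim_schubert_step (hd : 0 < d) (hdn : d < n) (w : Idx d n) :
    ringKrullDim (PlRing K d n ⧸
        (schubertVanishing K d n w ⊔ Ideal.span {(X w : PlRing K d n)})) + 1 =
      ringKrullDim (PlRing K d n ⧸ schubertVanishing K d n w) := by
  have hprime := isPrime_schubertVanishing K hd hdn w
  have : IsDomain (PlRing K d n ⧸ schubertVanishing K d n w) := Ideal.Quotient.isDomain _
  obtain ⟨N, -, hdim, hht⟩ := Groth.Agent.Lib.Helper14.FTDim.exists_dim K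
    (PlRing K d n ⧸ schubertVanishing K d n w)
  -- the irrelevant maximal ideal
  let ev : (PlRing K d n ⧸ schubertVanishing K d n w) →+* K :=
    Ideal.Quotient.lift (schubertVanishing K d n w)
      (evalMinors K d n (0 : Matrix (Fin n) (Fin d) K)).toRingHom
      (fun f hf => schubertVanishing_le_ker_zero K hd w hf)
  have hsurj : Function.Surjective ev := by
    intro a
    refine ⟨Ideal.Quotient.mk _ (C a), ?_⟩
    change evalMinors K d n (0 : Matrix (Fin n) (Fin d) K) (C a) = a
    unfold evalMinors
    rw [aeval_C]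
    rfl
  have hmax : (RingHom.ker ev).IsMaximal := RingHom.ker_isMaximal_of_surjective ev hsurj
  have hne : Ideal.Quotient.mk (schubertVanishing K d n w) (X w : PlRing K d n) ≠ 0 := by
    rw [Ne, Ideal.Quotient.eq_zero_iff_mem]
    exact X_not_mem_schubertVanishing K hd w w (le_refl _)
  have hmem : Ideal.Quotient.mk (schubertVanishing K d n w) (X w : PlRing K d n) ∈
      RingHom.ker ev := by
    rw [RingHom.mem_ker]
    exact evalMinors_zero_X K hd w
  have key := Module.ringKrullDim_quotient_add_one_of_mem_nonZeroDivisors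
    (mem_nonZeroDivisors_of_ne_zero hne) (p := RingHom.ker ev)
    (by rw [hht (RingHom.ker ev), hdim]; rfl) hmem
  rw [← key]
  congr 1
  have hmap : Ideal.map (Ideal.Quotient.mk (schubertVanishing K d n w))
      (Ideal.span {(X w : PlRing K d n)}) =
      Ideal.span {Ideal.Quotient.mk (schubertVanishing K d n w) (X w : PlRing K d n)} := by
    rw [Ideal.map_span, Set.image_singleton]
  rw [← hmap]
  exact (ringKrullDim_eq_of_ringEquiv
    (DoubleQuot.quotQuotEquivQuotSup (schubertVanishing K d n w)
      (Ideal.span {(X w : PlRing K d n)}))).symm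

theorem codeg_botIdx (hdn : d < n) : codeg (botIdx hdn) = 0 := by
  unfold codeg botIdx
  simp

theorem eq_botIdx_of_not_exists_lt (hdn : d < n) (w : Idx d n) (h : ¬ ∃ φ : Idx d n, φ < w) :
    w = botIdx hdn := by
  by_contra hne
  exact h ⟨botIdx hdn, lt_of_le_of_ne (botIdx_le hdn w) (Ne.symm hne)⟩

theorem sup_span_X_botIdx (hd : 0 < d) (hdn : d < n) :
    schubertVanishing K d n (botIdx hdn) ⊔ Ideal.span {(X (botIdx hdn) : PlRing K d n)} =
      RingHom.ker (evalMinors K d n (0 : Matrix (Fin n) (Fin d) K)).toRingHom := by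
  apply le_antisymm
  · apply sup_le (schubertVanishing_le_ker_zero K hd _)
    rw [Ideal.span_le, Set.singleton_subset_iff]
    exact evalMinors_zero_X K hd _
  · intro f hf
    have h1 := sub_C_mem_span_X K hd f
    have hf' : evalMinors K d n (0 : Matrix (Fin n) (Fin d) K) f = 0 := hf
    rw [hf', C_0, sub_zero] at h1
    refine (Ideal.span_le.mpr ?_) h1
    rintro _ ⟨θ, rfl⟩
    by_cases hθ : θ = botIdx hdn
    · subst hθ
      exact Ideal.mem_sup_right (Ideal.subset_span rfl)
    · have hnle : ¬ θ ≤ botIdx hdn := fun hle => hθ (le_antisymm hle (botIdx_le hdn θ))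
      exact Ideal.mem_sup_left (X_mem_schubertVanishing K _ θ hnle)

/-- **The cone over the Schubert variety `X(w)` has dimension `codeg w + 1`.** -/
theorem ringKrullDim_schubert (hd : 0 < d) (hdn : d < n) :
    ∀ (N : ℕ) (w : Idx d n), codeg w = N →
      ringKrullDim (PlRing K d n ⧸ schubertVanishing K d n w) = ((N + 1 : ℕ) : WithBot ℕ∞) := by
  intro N
  induction N with
  | zero =>
    intro w hw
    have hno : ¬ ∃ φ : Idx d n, φ < w := by
      rintro ⟨φ, hφ⟩
      obtain ⟨ψ, hψ, -⟩ := Groth.Agent.S11268.result d n φ w hφ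
      have := hψ.2
      omega
    have hw' := eq_botIdx_of_not_exists_lt hdn w hno
    subst hw'
    rw [← ringKrullDim_schubert_step K hd hdn, sup_span_X_botIdx K hd hdn]
    have := ker_zero_isMaximal K (d := d) (n := n)
    let _ := Ideal.Quotient.field
      (RingHom.ker (evalMinors K d n (0 : Matrix (Fin n) (Fin d) K)).toRingHom)
    rw [ringKrullDim_eq_zero_of_field]
    rfl
  | succ N ih =>
    intro w hw
    have hex : ∃ φ : Idx d n, φ < w := by
      by_contra hno
      have h0 := eq_botIdx_of_not_exists_lt hdn w hno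
      subst h0
      rw [codeg_botIdx] at hw
      omega
    rw [← ringKrullDim_schubert_step K hd hdn, schubertVanishing_sup_span K hd w hex]
    have key : ringKrullDim (PlRing K d n ⧸ ⨅ φ ∈ divisors w, schubertVanishing K d n φ) =
        ((N + 1 : ℕ) : WithBot ℕ∞) := by
      classical
      have : Fintype (Idx d n) := Fintype.ofFinite _
      apply le_antisymm
      · have e : (⨅ φ ∈ divisors w, schubertVanishing K d n φ) =
            (Finset.univ.filter (fun φ => φ ∈ divisors w)).inf
              (fun φ => schubertVanishing K d n φ) := by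
          rw [Finset.inf_eq_iInf]
          simp
        rw [e]
        apply ringKrullDim_quotient_finset_inf_le
        intro φ hφ
        rw [Finset.mem_filter] at hφ
        rw [ih φ (by have := hφ.2.2; omega)]
      · obtain ⟨φ0, hφ0⟩ := hex
        obtain ⟨ψ, hψ, -⟩ := Groth.Agent.S11268.result d n φ0 w hφ0
        rw [← ih ψ (by have := hψ.2; omega)]
        exact ringKrullDim_le_of_surjective
          (Ideal.Quotient.factor (iInf₂_le ψ hψ)) (Ideal.Quotient.factor_surjective _)
    rw [key]
    rfl

end Groth.Agent.Lib.H5b
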