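import Groth.Agent.Lib.H5bUfd

/-!
# Distributivity for unions of Schubert varieties, and divisors of divisors (helper5)
-/

set_option autoImplicit false

universe u

noncomputable section

open MvPolynomial W4bk4grassmannian

namespace Groth.Agent.Lib.H5b

variable (K : Type u) [Field K] {d n : ℕ}

theorem codeg_mono {φ ψ : Idx d n} (h : φ ≤ ψ) : codeg φ ≤ codeg ψ := by
  unfold codeg
  refine Finset.sum_le_sum (fun t _ => ?_)
  have := Fin.le_def.mp (h t)
  omega

theorem codeg_lt_of_lt {φ ψ : Idx d n} (h : φ < ψ) : codeg φ < codeg ψ := by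
  rcases Nat.lt_or_ge (codeg φ) (codeg ψ) with h1 | h1
  · exact h1
  · exact absurd (eq_of_le_of_codeg_eq φ ψ h.le (le_antisymm (codeg_mono h.le) h1)) h.ne

theorem codeg_sup_add_inf (φ ψ : Idx d n) :
    codeg (W4bk4grassmannian.sup φ ψ) + codeg (W4bk4grassmannian.inf φ ψ) = codeg φ + codeg ψ := by
  unfold codeg W4bk4grassmannian.sup W4bk4grassmannian.inf
  rw [← Finset.sum_add_distrib, ← Finset.sum_add_distrib]
  refine Finset.sum_congr rfl (fun t _ => ?_)
  simp only
  have h1 := Idx.val_le φ t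
  have h2 := Idx.val_le ψ t
  rcases le_total (φ.1 t) (ψ.1 t) with h | h
  · rw [max_eq_right h, min_eq_left h]; omega
  · rw [max_eq_left h, min_eq_right h]

/-- the meet of two distinct divisors of `τ` is a divisor of each of them -/
theorem inf_mem_divisors {τ φ ψ : Idx d n} (hφ : φ ∈ divisors τ) (hψ : ψ ∈ divisors τ)
    (hne : φ ≠ ψ) : W4bk4grassmannian.inf φ ψ ∈ divisors ψ := by
  obtain ⟨hφτ, hφc⟩ := hφ
  obtain ⟨hψτ, hψc⟩ := hψ
  have hle1 : φ ≤ W4bk4grassmannian.sup φ ψ := fun t => le_max_left _ _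
  have hle2 : ψ ≤ W4bk4grassmannian.sup φ ψ := fun t => le_max_right _ _
  have hsupτ : W4bk4grassmannian.sup φ ψ ≤ τ := fun t => max_le (hφτ.le t) (hψτ.le t)
  have hne1 : φ ≠ W4bk4grassmannian.sup φ ψ := by
    intro heq
    have h1 : ψ ≤ φ := by rw [heq]; exact hle2
    exact hne (eq_of_le_of_codeg_eq ψ φ h1 (by omega)).symm
  have h1 := codeg_lt_of_lt (lt_of_le_of_ne hle1 hne1)
  have h2 := codeg_mono hsupτ
  have h3 := codeg_sup_add_inf φ ψ
  have hinf : W4bk4grassmannian.inf φ ψ ≤ ψ := fun t => min_le_right _ _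
  refine ⟨lt_of_le_of_ne hinf ?_, by omega⟩
  intro heq
  rw [heq] at h3
  omega

variable [Infinite K]

/-- the coefficients of the standard monomials below `τ` in an element of `J(τ)` vanish -/
theorem coeff_eq_zero_of_sub_mem (hd : 0 < d) (τ : Idx d n) (f : PlRing K d n)
    (hf : f ∈ schubertVanishing K d n τ) (l : Chain d n →₀ K)
    (hl : f - stdComb K l ∈ plIdealTop (d := d) (n := n) K) (c : Chain d n)
    (hc : ∀ j, c.2.1 j ≤ τ) : l c = 0 := by
  apply coeff_eq_zero_of_mem_schubertVanishing K hd τ l _ c hc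
  have : stdComb K l = f - (f - stdComb K l) := by ring
  show stdComb K l ∈ _
  rw [this]
  exact Ideal.sub_mem _ hf (plIdealTop_le_schubertVanishing K τ hl)

/-- distributivity: `(⋂ J(φ_i)) + J(ψ) = ⋂ J(φ_i ∧ ψ)` -/
theorem iInf_sup_schubertVanishing (hd : 0 < d) {s : ℕ} (φ : Fin s → Idx d n) (ψ : Idx d n) :
    (⨅ i, schubertVanishing K d n (φ i)) ⊔ schubertVanishing K d n ψ =
      ⨅ i, schubertVanishing K d n (W4bk4grassmannian.inf (φ i) ψ) := by
  classical
  apply le_antisymm
  · apply sup_le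
    · exact le_iInf fun i => (iInf_le _ i).trans (schubertVanishing_mono K (inf_le_left' _ _))
    · exact le_iInf fun i => schubertVanishing_mono K (inf_le_right' _ _)
  · intro f hf
    rw [Submodule.mem_iInf] at hf
    obtain ⟨l, hl⟩ := exists_stdComb K f
    have hzero : ∀ i (c : Chain d n), (∀ j, c.2.1 j ≤ φ i) → (∀ j, c.2.1 j ≤ ψ) → l c = 0 := by
      intro i c h1 h2
      exact coeff_eq_zero_of_sub_mem K hd _ f (hf i) l hl c (fun j => le_inf' _ _ _ (h1 j) (h2 j))
    have hsplit : stdComb K l =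
        stdComb K (l.filter (fun c : Chain d n => ∀ k, c.2.1 k ≤ ψ)) +
        stdComb K (l.filter (fun c : Chain d n => ¬ ∀ k, c.2.1 k ≤ ψ)) := by
      rw [← stdComb_add, Finsupp.filter_add_filter_not]
    have h2 : stdComb K (l.filter (fun c : Chain d n => ¬ ∀ k, c.2.1 k ≤ ψ)) ∈
        schubertVanishing K d n ψ := by
      apply stdComb_filter_mem
      intro c hc
      push Not at hc
      obtain ⟨k, hk⟩ := hc
      exact chainMon_mem_schubertVanishing K ψ c.2.1 k hk
    have h1 : stdComb K (l.filter (fun c : Chain d n => ∀ k, c.2.1 k ≤ ψ)) ∈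
        ⨅ i, schubertVanishing K d n (φ i) := by
      rw [Submodule.mem_iInf]
      intro i
      unfold stdComb
      rw [Finsupp.linearCombination_apply, Finsupp.sum]
      apply Ideal.sum_mem
      intro c hc
      rw [Finsupp.support_filter, Finset.mem_filter, Finsupp.mem_support_iff] at hc
      rw [Algebra.smul_def]
      apply Ideal.mul_mem_left
      have hnot : ¬ ∀ j, c.2.1 j ≤ φ i := fun hh => hc.1 (hzero i c hh hc.2)
      push Not at hnot
      obtain ⟨k, hk⟩ := hnot
      exact chainMon_mem_schubertVanishing K (φ i) c.2.1 k hk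
    have e : f = (f - stdComb K l) +
        stdComb K (l.filter (fun c : Chain d n => ¬ ∀ k, c.2.1 k ≤ ψ)) +
        stdComb K (l.filter (fun c : Chain d n => ∀ k, c.2.1 k ≤ ψ)) := by
      rw [hsplit]; ring
    rw [e]
    refine Ideal.add_mem _ (Ideal.add_mem _ ?_ ?_) ?_
    · exact Ideal.mem_sup_right (plIdealTop_le_schubertVanishing K ψ hl)
    · exact Ideal.mem_sup_right h2
    · exact Ideal.mem_sup_left h1

end Groth.Agent.Lib.H5b

end
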