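import Groth.Agent.Lib.H5bCMe
import Groth.Agent.Lib.H5bDistrib
import Groth.Agent.Lib.H5bDim
import Groth.Agent.Lib.Helper28Unmixed

/-!
# Schubert varieties and unions of Schubert divisors are arithmetically Cohen–Macaulay (helper5)
-/

set_option autoImplicit false

universe u

noncomputable section

open MvPolynomial W4bk4grassmannian

namespace Groth.Agent.Lib.H5b

open Groth.Agent.Lib.Helper28

/-! ### Polynomial rings on finite types -/

section Poly

variable (K : Type u) [Field K] (σ : Type) [Finite σ]

theorem isCohenMacaulayRing_mvPolynomial_finite : LocCoh.IsCohenMacaulayRing (MvPolynomial σ K) := by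
  have hK := isCohenMacaulayRing_of_field K
  have h := isCohenMacaulayRing_mvPolynomial_fin (R := K) (Nat.card σ)
  exact isCohenMacaulayRing_of_ringEquiv
    (MvPolynomial.renameEquiv K (Finite.equivFin σ)).symm.toRingEquiv

theorem height_eq_of_isMaximal_mvPolynomial_finite (m : Ideal (MvPolynomial σ K))
    (hm : m.IsMaximal) : m.height = Nat.card σ := by
  let e : MvPolynomial σ K ≃+* MvPolynomial (Fin (Nat.card σ)) K :=
    (MvPolynomial.renameEquiv K (Finite.equivFin σ)).toRingEquiv
  have hm' : (m.map e).IsMaximal := Ideal.map_isMaximal_of_equiv e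
  have := height_eq_of_isMaximal_mvPolynomial_fin K (Nat.card σ) (m.map e) hm'
  rwa [e.height_map] at this

theorem height_add_dim_quotient_finite (p : Ideal (MvPolynomial σ K)) [p.IsPrime] :
    ((p.height : ℕ∞) : WithBot ℕ∞) + ringKrullDim (MvPolynomial σ K ⧸ p) = (Nat.card σ : ℕ) := by
  have := isCohenMacaulayRing_mvPolynomial_finite K σ
  exact height_add_ringKrullDim_quotient_eq_of_forall_isMaximal_height_eq (Nat.card σ)
    (height_eq_of_isMaximal_mvPolynomial_finite K σ) p

theorem height_le_card (p : Ideal (MvPolynomial σ K)) [hp : p.IsPrime] :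
    p.height ≤ (Nat.card σ : ℕ) := by
  have h := height_add_dim_quotient_finite K σ p
  have hnt : Nontrivial (MvPolynomial σ K ⧸ p) := Ideal.Quotient.nontrivial_iff.mpr hp.ne_top
  have h0 : (0 : WithBot ℕ∞) ≤ ringKrullDim (MvPolynomial σ K ⧸ p) := ringKrullDim_nonneg_of_nontrivial
  have h1 : ((p.height : ℕ∞) : WithBot ℕ∞) ≤ ((Nat.card σ : ℕ) : WithBot ℕ∞) := by
    rw [← h]
    exact le_add_of_nonneg_right h0
  exact_mod_cast h1

end Poly

/-- a localization of a Cohen–Macaulay ring is Cohen–Macaulay -/
theorem isCohenMacaulayRing_of_isLocalization {A : Type u} [CommRing A]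
    [hA : LocCoh.IsCohenMacaulayRing A] (M : Submonoid A) (T : Type u) [CommRing T] [Algebra A T]
    [IsLocalization M T] : LocCoh.IsCohenMacaulayRing T := by
  have hNA : IsNoetherianRing A := inferInstance
  have hN : IsNoetherianRing T := IsLocalization.isNoetherianRing M T hNA
  refine { isCohenMacaulayLocalRing_localization := ?_ }
  intro P hP
  have hp : (P.comap (algebraMap A T)).IsPrime := Ideal.comap_isPrime _ _
  have h1 := hA.isCohenMacaulayLocalRing_localization (P.comap (algebraMap A T))
  have h2 := IsLocalization.isLocalization_isLocalization_atPrime_isLocalization (M := M)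
    (Localization.AtPrime P) P
  exact isCohenMacaulayLocalRing_of_ringEquiv
    (IsLocalization.algEquiv (P.comap (algebraMap A T)).primeCompl
      (Localization.AtPrime (P.comap (algebraMap A T))) (Localization.AtPrime P)).toRingEquiv

theorem iInf_fin_succ_last {α : Type*} [CompleteLattice α] {s : ℕ} (f : Fin (s + 1) → α) :
    (⨅ i, f i) = (⨅ i : Fin s, f i.castSucc) ⊓ f (Fin.last s) := by
  apply le_antisymm
  · exact le_inf (le_iInf fun i => iInf_le _ _) (iInf_le _ _)
  · refine le_iInf fun i => ?_
    refine Fin.lastCases ?_ (fun j => ?_) i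
    · exact inf_le_right
    · exact inf_le_left.trans (iInf_le _ j)

/-! ### The Schubert cones -/

section Schubert

variable (K : Type u) [Field K] [Infinite K] {d n : ℕ}

/-- the codimension of the cone over `X(τ)` in the Plücker space -/
def cod (τ : Idx d n) : ℕ := Nat.card (Idx d n) - (codeg τ + 1)

theorem height_schubertVanishing (hd : 0 < d) (hdn : d < n) (τ : Idx d n) :
    (schubertVanishing K d n τ).height = (cod τ : ℕ) ∧ codeg τ + 1 ≤ Nat.card (Idx d n) := by
  have hp := isPrime_schubertVanishing K hd hdn τ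
  have h := height_add_dim_quotient_finite K (Idx d n) (schubertVanishing K d n τ)
  rw [ringKrullDim_schubert K hd hdn (codeg τ) τ rfl] at h
  cases hh : (schubertVanishing K d n τ).height with
  | top =>
    rw [hh] at h
    have h' : ((⊤ : ℕ∞) + ((codeg τ + 1 : ℕ) : ℕ∞)) = ((Nat.card (Idx d n) : ℕ) : ℕ∞) := by
      exact_mod_cast h
    rw [top_add] at h'
    exact absurd h' (ENat.top_ne_natCast _)
  | coe k =>
    rw [hh] at h
    have h' : k + (codeg τ + 1) = Nat.card (Idx d n) := by exact_mod_cast h
    unfold cod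
    refine ⟨?_, by omega⟩
    have : k = Nat.card (Idx d n) - (codeg τ + 1) := by omega
    rw [this]

omit [Infinite K] in
theorem cod_divisor {τ φ : Idx d n} (h1 : codeg τ + 1 ≤ Nat.card (Idx d n))
    (hφ : φ ∈ divisors τ) : cod φ = cod τ + 1 := by
  have h2 := hφ.2
  unfold cod
  omega


/-! ### The echelon chart is Cohen–Macaulay -/

theorem isCohenMacaulayLocalRing_chart (hd : 0 < d) (hdn : d < n) (w : Idx d n)
    (𝔮 : Ideal (PlRing K d n ⧸ schubertVanishing K d n w)) [h𝔮 : 𝔮.IsPrime]
    (hx : Ideal.Quotient.mk (schubertVanishing K d n w) (X w : PlRing K d n) ∉ 𝔮) :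
    LocCoh.IsCohenMacaulayLocalRing (Localization.AtPrime 𝔮) := by
  classical
  have hE : LocCoh.IsCohenMacaulayRing (EchRing K w) :=
    isCohenMacaulayRing_mvPolynomial_finite K (Option (FreePos w))
  let Qt := Localization.Away (X none : EchRing K w)
  have hQt : LocCoh.IsCohenMacaulayRing Qt :=
    isCohenMacaulayRing_of_isLocalization (Submonoid.powers (X none : EchRing K w)) Qt
  let ψ : (PlRing K d n ⧸ schubertVanishing K d n w) →+* Qt :=
    (algebraMap (EchRing K w) Qt).comp (echQuot K w).toRingHom
  let _ : Algebra (PlRing K d n ⧸ schubertVanishing K d n w) Qt := ψ.toAlgebra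
  have halg : ∀ a, algebraMap (PlRing K d n ⧸ schubertVanishing K d n w) Qt a =
      algebraMap (EchRing K w) Qt (echQuot K w a) := fun _ => rfl
  have ht0 : (X none : EchRing K w) ≠ 0 := MvPolynomial.X_ne_zero _
  have hinjQ : Function.Injective (algebraMap (EchRing K w) Qt) :=
    IsLocalization.injective Qt (powers_le_nonZeroDivisors_of_noZeroDivisors ht0)
  have hloc : IsLocalization
      (Submonoid.powers (Ideal.Quotient.mk (schubertVanishing K d n w) (X w : PlRing K d n)))
      Qt := by
    rw [isLocalization_iff]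
    refine ⟨?_, ?_, ?_⟩
    · rintro ⟨_, k, rfl⟩
      rw [halg, map_pow, echQuot_mk_X K hd, map_pow]
      exact (IsLocalization.Away.algebraMap_isUnit (X none : EchRing K w)).pow k
    · intro z
      obtain ⟨q, ⟨_, k, rfl⟩, rfl⟩ :=
        IsLocalization.exists_mk'_eq (Submonoid.powers (X none : EchRing K w)) z
      obtain ⟨k', a, ha⟩ := exists_pow_mul_eq_echMap K hd w q
      refine ⟨⟨Ideal.Quotient.mk _ a, ⟨_, k + k', rfl⟩⟩, ?_⟩
      rw [halg, halg, echQuot_mk, ha, map_pow, echQuot_mk_X K hd, map_mul, map_pow, map_pow,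
        pow_add, ← mul_assoc]
      have e : ∀ (y : Submonoid.powers (X none : EchRing K w)) (j : ℕ), (y : EchRing K w) = X none ^ j →
          IsLocalization.mk' Qt q y * (algebraMap (EchRing K w) Qt) (X none) ^ j =
            algebraMap (EchRing K w) Qt q := by
        intro y j hy
        rw [← map_pow, ← hy]
        exact IsLocalization.mk'_spec Qt q y
      rw [e _ k rfl, mul_comm]
    · intro x y hxy
      rw [halg, halg] at hxy
      exact ⟨1, by rw [echQuot_injective K hd hdn w (hinjQ hxy)]⟩
  refine isCohenMacaulayLocalRing_atPrime_of_isLocalization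
    (Submonoid.powers (Ideal.Quotient.mk (schubertVanishing K d n w) (X w : PlRing K d n)))
    Qt 𝔮 ?_
  rw [Set.disjoint_left]
  rintro _ ⟨k, rfl⟩ hmem
  exact hx (h𝔮.mem_of_pow_mem k hmem)

/-! ### The induction -/

theorem isSMulRegular_X (hd : 0 < d) (hdn : d < n) (τ : Idx d n) :
    IsSMulRegular (PlRing K d n ⧸ schubertVanishing K d n τ) (X τ : PlRing K d n) := by
  have hp := isPrime_schubertVanishing K hd hdn τ
  have hdom : IsDomain (PlRing K d n ⧸ schubertVanishing K d n τ) := Ideal.Quotient.isDomain _
  intro a b hab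
  obtain ⟨a', rfl⟩ := Ideal.Quotient.mk_surjective a
  obtain ⟨b', rfl⟩ := Ideal.Quotient.mk_surjective b
  have h1 : Ideal.Quotient.mk (schubertVanishing K d n τ) ((X τ : PlRing K d n) * a') =
      Ideal.Quotient.mk (schubertVanishing K d n τ) ((X τ : PlRing K d n) * b') := hab
  rw [Ideal.Quotient.eq, ← mul_sub] at h1
  rw [Ideal.Quotient.eq]
  rcases hp.mem_or_mem h1 with h | h
  · exact absurd h (X_not_mem_schubertVanishing K hd τ τ le_rfl)
  · exact h

theorem cme_main (hd : 0 < d) (hdn : d < n) :
    ∀ (k : ℕ) (τ : Idx d n), codeg τ = k →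
      CMe (schubertVanishing K d n τ) (cod τ) ∧
      ∀ (s : ℕ) (φ : Fin s → Idx d n), (∀ i, φ i ∈ divisors τ) →
        CMe (⨅ i, schubertVanishing K d n (φ i)) (cod τ + 1) := by
  classical
  intro k
  induction k using Nat.strong_induction_on with
  | _ k ih =>
  intro τ hτ
  have hS : LocCoh.IsCohenMacaulayRing (PlRing K d n) :=
    isCohenMacaulayRing_mvPolynomial_finite K (Idx d n)
  have hQ : ∀ (s : ℕ) (φ : Fin s → Idx d n), (∀ i, φ i ∈ divisors τ) →
      CMe (⨅ i, schubertVanishing K d n (φ i)) (cod τ + 1) := by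
    intro s
    induction s with
    | zero =>
      intro φ _
      rw [iInf_of_empty]
      exact cme_top _
    | succ s ihs =>
      intro φ hφ
      rw [iInf_fin_succ_last]
      have hI := ihs (fun i => φ i.castSucc) (fun i => hφ _)
      by_cases hdup : ∃ i : Fin s, φ i.castSucc = φ (Fin.last s)
      · obtain ⟨i, hi⟩ := hdup
        have hle : (⨅ i : Fin s, schubertVanishing K d n (φ i.castSucc)) ≤
            schubertVanishing K d n (φ (Fin.last s)) := by
          rw [← hi]
          exact iInf_le _ i
        rw [inf_eq_left.mpr hle]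
        exact hI
      · push Not at hdup
        have hlast := hφ (Fin.last s)
        have hlt : codeg (φ (Fin.last s)) < k := by
          have := hlast.2
          omega
        have hcod := cod_divisor (height_schubertVanishing K hd hdn τ).2 hlast
        have hP := (ih _ hlt (φ (Fin.last s)) rfl).1
        rw [hcod] at hP
        refine CMe.inf hI hP ?_
        rw [iInf_sup_schubertVanishing K hd (fun i => φ i.castSucc) (φ (Fin.last s))]
        have := (ih _ hlt (φ (Fin.last s)) rfl).2 s
          (fun i => W4bk4grassmannian.inf (φ i.castSucc) (φ (Fin.last s)))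
          (fun i => inf_mem_divisors (hφ _) hlast (hdup i))
        rw [hcod] at this
        exact this
  refine ⟨?_, hQ⟩
  apply cme_of_regular_of_chart (schubertVanishing K d n τ) (x := (X τ : PlRing K d n))
    (isSMulRegular_X K hd hdn τ)
  · by_cases hlt : ∃ φ : Idx d n, φ < τ
    · rw [schubertVanishing_sup_span K hd τ hlt]
      let e := Finite.equivFin {φ : Idx d n // φ ∈ divisors τ}
      have hrw : (⨅ φ ∈ divisors τ, schubertVanishing K d n φ) =
          ⨅ i : Fin (Nat.card {φ : Idx d n // φ ∈ divisors τ}),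
            schubertVanishing K d n (e.symm i).1 := by
        rw [iInf_subtype']
        exact (Equiv.iInf_comp e.symm
          (g := fun x : {φ : Idx d n // φ ∈ divisors τ} => schubertVanishing K d n x.1)).symm
      rw [hrw]
      exact hQ _ _ (fun i => (e.symm i).2)
    · have hbot := eq_botIdx_of_not_exists_lt hdn τ hlt
      rw [hbot, sup_span_X_botIdx K hd hdn]
      intro P hP
      have h1 := height_le_card K (Idx d n) P
      have h2 := (height_schubertVanishing K hd hdn (botIdx hdn)).2
      have h2' := codeg_botIdx hdn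
      have h3 : cod (botIdx hdn) + 1 = Nat.card (Idx d n) := by
        unfold cod
        omega
      rw [← h3] at h1
      exact le_trans h1 le_add_self
  · intro Q hQp h𝔞 hx
    have hp := isPrime_schubertVanishing K hd hdn τ
    have hker : RingHom.ker (Ideal.Quotient.mk (schubertVanishing K d n τ)) ≤ Q := by
      rw [Ideal.mk_ker]; exact h𝔞
    have h𝔮 : (Q.map (Ideal.Quotient.mk (schubertVanishing K d n τ))).IsPrime :=
      Ideal.map_isPrime_of_surjective Ideal.Quotient.mk_surjective hker
    have hcomap : Q = (Q.map (Ideal.Quotient.mk (schubertVanishing K d n τ))).comap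
        (Ideal.Quotient.mk (schubertVanishing K d n τ)) := by
      rw [Ideal.comap_map_of_surjective _ Ideal.Quotient.mk_surjective,
        ← RingHom.ker_eq_comap_bot, Ideal.mk_ker, sup_eq_left.mpr h𝔞]
    refine local_bound_of_cm (schubertVanishing K d n τ) (cod τ)
      (Q.map (Ideal.Quotient.mk (schubertVanishing K d n τ))) Q hcomap ?_ ?_
    · apply isCohenMacaulayLocalRing_chart K hd hdn τ
      intro hmem
      apply hx
      rw [hcomap]
      exact hmem
    · rw [IsLocalization.height_map_of_disjoint Q.primeCompl (schubertVanishing K d n τ)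
        (by
          rw [Set.disjoint_left]
          intro y hy hy'
          exact hy (h𝔞 hy')),
        (height_schubertVanishing K hd hdn τ).1]

/-- **Schubert varieties are arithmetically Cohen–Macaulay.** -/
theorem isCohenMacaulayRing_schubert (hd : 0 < d) (hdn : d < n) (τ : Idx d n) :
    LocCoh.IsCohenMacaulayRing (PlRing K d n ⧸ schubertVanishing K d n τ) := by
  have hS : LocCoh.IsCohenMacaulayRing (PlRing K d n) :=
    isCohenMacaulayRing_mvPolynomial_finite K (Idx d n)
  exact isCohenMacaulayRing_quotient_of_cme _ (cod τ) (cme_main K hd hdn _ τ rfl).1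
    (le_of_eq (height_schubertVanishing K hd hdn τ).1.symm)

/-- **Unions of Schubert divisors are arithmetically Cohen–Macaulay.** -/
theorem isCohenMacaulayRing_divisors (hd : 0 < d) (hdn : d < n) (τ : Idx d n) (s : ℕ)
    (φ : Fin s → Idx d n) (hφ : ∀ i, φ i ∈ divisors τ) :
    LocCoh.IsCohenMacaulayRing (PlRing K d n ⧸ ⨅ i, schubertVanishing K d n (φ i)) := by
  classical
  have hS : LocCoh.IsCohenMacaulayRing (PlRing K d n) :=
    isCohenMacaulayRing_mvPolynomial_finite K (Idx d n)
  refine isCohenMacaulayRing_quotient_of_cme _ (cod τ + 1) ((cme_main K hd hdn _ τ rfl).2 s φ hφ) ?_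
  rw [Ideal.height_eq_inf_minimalPrimes]
  refine le_iInf₂ fun 𝔭 h𝔭 => ?_
  have hprime : 𝔭.IsPrime := h𝔭.1.1
  have hle : (Finset.univ.inf fun i => schubertVanishing K d n (φ i)) ≤ 𝔭 := by
    rw [Finset.inf_univ_eq_iInf]
    exact h𝔭.1.2
  obtain ⟨i, -, hi⟩ := (Ideal.IsPrime.inf_le' hprime).mp hle
  have h1 := (height_schubertVanishing K hd hdn (φ i)).1
  rw [cod_divisor (height_schubertVanishing K hd hdn τ).2 (hφ i)] at h1
  rw [← h1]
  exact Ideal.height_mono hi

end Schubert

end Groth.Agent.Lib.H5b

end
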