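import Mathlib
import Groth.Prelude.Def_RegImm
import Groth.Prelude.Def_Flat
import Groth.Agent.Lib.R2H4GCILoc
import Groth.Agent.Lib.Helper14LocalDim
import Groth.Agent.Lib.Helper4FibDimE
import Groth.Agent.Lib.Helper4FibDimD

set_option autoImplicit false
universe u
open scoped TensorProduct
open AlgebraicGeometry CategoryTheory CategoryTheory.Limits

namespace Groth.Agent.Lib.R2H4.GCIFibDim

open Groth.Agent.Lib.R2H4.GCILoc Groth.Agent.Lib.Helper7.TopDim

/-- The local dimension of the spectrum of a global complete intersection. -/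
theorem localDim_eq_of_gci (k : Type u) [Field k] (n c : ℕ) (hcn : c ≤ n) (T : Type u) [CommRing T]
    [Algebra k T] (φ : MvPolynomial (Fin n) k →ₐ[k] T) (hφ : Function.Surjective φ)
    (r : Fin c → MvPolynomial (Fin n) k)
    (hker : RingHom.ker φ.toRingHom = Ideal.span (Set.range r))
    (hdim : ringKrullDim T = ((n - c : ℕ) : WithBot ℕ∞)) (y : PrimeSpectrum T) :
    FlatMor.localDim (PrimeSpectrum T) y = ((n - c : ℕ) : WithBot ℕ∞) := by
  apply le_antisymm
  · refine (localDim_le_dim y).trans ?_
    rw [PrimeSpectrum.topologicalKrullDim_eq_ringKrullDim, hdim]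
  · rw [le_localDim_iff]
    intro U hyU
    obtain ⟨_, ⟨g, rfl⟩, hyg, hgU⟩ :=
      PrimeSpectrum.isTopologicalBasis_basic_opens.exists_subset_of_mem_open hyU U.2
    refine le_trans ?_ (Groth.Agent.Lib.Helper4.FibDim.topologicalKrullDim_mono_set hgU)
    have h1 := Groth.Agent.Lib.Helper14.LocalDim.topologicalKrullDim_basicOpen g
    rw [h1]
    have hnt : Nontrivial (Localization.Away g) := by
      have hdisj : Disjoint (Submonoid.powers g : Set T) (y.asIdeal : Set T) := by
        rw [Set.disjoint_left]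
        rintro _ ⟨m, rfl⟩ hmem
        exact hyg (y.isPrime.mem_of_pow_mem m hmem)
      have hp := IsLocalization.isPrime_of_isPrime_disjoint (Submonoid.powers g)
        (Localization.Away g) _ y.isPrime hdisj
      exact ⟨⟨0, 1, fun h => hp.ne_top ((Ideal.eq_top_iff_one _).mpr (h ▸ Ideal.zero_mem _))⟩⟩
    exact (dim_away k n c hcn T φ hφ r hker hdim g (Localization.Away g)).ge

/-- The fibre rings of a relative global complete intersection are global complete intersections:
local dimension of their spectrum. -/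
theorem localDim_fiber_relGCI (R : Type u) [CommRing R] (n c : ℕ)
    (F : Fin c → MvPolynomial (Fin n) R) (hF : Synt.IsRelGCI R n c F) (p : PrimeSpectrum R)
    (y : PrimeSpectrum (p.asIdeal.Fiber (Synt.RelGCIRing R n c F))) :
    FlatMor.localDim (PrimeSpectrum (p.asIdeal.Fiber (Synt.RelGCIRing R n c F))) y =
      ((n - c : ℕ) : WithBot ℕ∞) := by
  have hnt : Nontrivial (p.asIdeal.Fiber (Synt.RelGCIRing R n c F)) :=
    ⟨⟨0, 1, fun h => y.isPrime.ne_top ((Ideal.eq_top_iff_one _).mpr (h ▸ Ideal.zero_mem _))⟩⟩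
  obtain ⟨hcn, hdim⟩ := hF p hnt
  let P0 : Algebra.Presentation R (Synt.RelGCIRing R n c F) (Fin n) (Fin c) :=
    Algebra.Presentation.naive (v := F)
  let P1 := P0.baseChange p.asIdeal.ResidueField
  obtain ⟨φ, r, hφ, hker⟩ := exists_of_presentation p.asIdeal.ResidueField n c _ P1
  exact localDim_eq_of_gci _ n c hcn _ φ hφ r hker hdim y

theorem fibreDimAt_relGCI (R : Type u) [CommRing R] (n c : ℕ)
    (F : Fin c → MvPolynomial (Fin n) R) (hF : Synt.IsRelGCI R n c F)
    (x : ↑(Spec (CommRingCat.of (Synt.RelGCIRing R n c F)))) :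
    FlatMor.fibreDimAt
        (Spec.map (CommRingCat.ofHom (algebraMap R (Synt.RelGCIRing R n c F)))) x =
      ((n - c : ℕ) : WithBot ℕ∞) := by
  unfold FlatMor.fibreDimAt
  set f := Spec.map (CommRingCat.ofHom (algebraMap R (Synt.RelGCIRing R n c F))) with hf
  let p : PrimeSpectrum R := f.base x
  let e := Spec.fiberToSpecResidueFieldIso R (Synt.RelGCIRing R n c F) p
  let e' : f.fiber p ≅ Spec (CommRingCat.of (p.asIdeal.Fiber (Synt.RelGCIRing R n c F))) :=
    Arrow.leftFunc.mapIso e
  rw [Groth.Agent.Lib.Helper4.FibDim.localDim_eq_of_homeomorph (Scheme.homeoOfIso e')]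
  exact localDim_fiber_relGCI R n c F hF p _

end Groth.Agent.Lib.R2H4.GCIFibDim
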