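import Mathlib
import Groth.Prelude.Def_CAlg
import Groth.Agent.Lib.Helper5CMDim
import Groth.Agent.Lib.Helper3GrpFibDim
import Groth.Agent.Lib.Helper3DimCons
import Groth.Agent.Lib.Helper3EquiDim
import Groth.Agent.Lib.Helper3FlatFibDim
import Groth.Agent.Lib.Helper5TensorFieldsCM
import Groth.Agent.Lib.Helper28PolyCM
import Groth.Agent.Lib.Helper4FibDimE

/-!
# Decomposition of a flat finitely presented algebra with Cohen–Macaulay fibres by fibre dimension
(helper4, round 2)
-/

set_option autoImplicit false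
universe u
open scoped TensorProduct
open AlgebraicGeometry CategoryTheory CategoryTheory.Limits

namespace Groth.Agent.Lib.R2H4.RelCMDecomp

open Groth.Agent.Lib.Helper28

section Stage1

variable (R S : Type u) [CommRing R] [CommRing S] [Algebra R S]

/-- the structure morphism `Spec S ⟶ Spec R` -/
noncomputable abbrev fS : Spec (CommRingCat.of S) ⟶ Spec (CommRingCat.of R) :=
  Spec.map (CommRingCat.ofHom (algebraMap R S))

theorem lfp [Algebra.FinitePresentation R S] : LocallyOfFinitePresentation (fS R S) := by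
  rw [HasRingHomProperty.Spec_iff (P := @LocallyOfFinitePresentation)]
  exact RingHom.finitePresentation_algebraMap.mpr inferInstance

theorem flat [Module.Flat R S] : Flat (fS R S) := by
  rw [HasRingHomProperty.Spec_iff (P := @Flat)]
  exact RingHom.flat_algebraMap_iff.mpr inferInstance

/-- the fibre of `Spec S ⟶ Spec R` over `p` is the spectrum of the fibre ring -/
noncomputable def fibIso (p : PrimeSpectrum R) :
    (fS R S).fiber p ≅ Spec (CommRingCat.of (p.asIdeal.Fiber S)) :=
  Arrow.leftFunc.mapIso (Spec.fiberToSpecResidueFieldIso R S p)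

/-- Cohen–Macaulay at each point. -/
theorem isCMAt [Module.Flat R S]
    (hCM : ∀ p : PrimeSpectrum R, LocCoh.IsCohenMacaulayRing (p.asIdeal.Fiber S))
    (x : ↑(Spec (CommRingCat.of S))) : MoreMor.IsCMAt (fS R S) x := by
  have := flat R S
  refine ⟨Flat.stalkMap (fS R S) x, ?_⟩
  let p : PrimeSpectrum R := (fS R S).base x
  let e' := fibIso R S p
  let z := (fS R S).asFiber x
  let y : PrimeSpectrum (p.asIdeal.Fiber S) := e'.hom z
  let i1 := asIso (e'.hom.stalkMap z)
  let i2 := StructureSheaf.stalkIso (p.asIdeal.Fiber S) y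
  have h1 : LocCoh.IsCohenMacaulayLocalRing (Localization.AtPrime y.asIdeal) :=
    (hCM p).isCohenMacaulayLocalRing_localization y.asIdeal
  let ε : Localization.AtPrime y.asIdeal ≃+*
      ↑((Scheme.Hom.fiber (fS R S) p).presheaf.stalk z) :=
    i2.toRingEquiv.trans i1.commRingCatIsoToRingEquiv
  exact isCohenMacaulayLocalRing_of_ringEquiv (R := Localization.AtPrime y.asIdeal) ε

end Stage1

section Stage2

variable (R S : Type u) [CommRing R] [CommRing S] [Algebra R S] [Module.Flat R S]
  [Algebra.FinitePresentation R S]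
  (hCM : ∀ p : PrimeSpectrum R, LocCoh.IsCohenMacaulayRing (p.asIdeal.Fiber S))

/-- the fibre dimension function on `PrimeSpectrum S` -/
noncomputable def fd (x : PrimeSpectrum S) : WithBot ℕ∞ := FlatMor.fibreDimAt (fS R S) x

include hCM in
theorem isOpen_fd_eq (d : ℕ) : IsOpen {x : PrimeSpectrum S | fd R S x = d} := by
  have := lfp R S
  rw [isOpen_iff_forall_mem_open]
  intro x hx
  obtain ⟨U, hxU, -, hU⟩ := Groth.Agent.Lib.Helper5.CMDim.exists_opens_fibreDimAt_eq_of_isCMAt
    (fS R S) x d (isCMAt R S hCM x) hx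
  exact ⟨U.1, fun u hu => hU u hu, U.2, hxU⟩

omit [Module.Flat R S] in
theorem exists_nat_fd (x : PrimeSpectrum S) : ∃ d : ℕ, fd R S x = d := by
  have := lfp R S
  have : LocallyOfFiniteType (fS R S) := inferInstance
  exact Groth.Agent.Lib.Helper3.GrpFibDim.exists_nat_fibreDimAt_eq (fS R S) x

include hCM in
theorem exists_bound : ∃ N : ℕ, ∀ x : PrimeSpectrum S, ∃ d : ℕ, d ≤ N ∧ fd R S x = d := by
  have hcov : (Set.univ : Set (PrimeSpectrum S)) ⊆ ⋃ d : ℕ, {x | fd R S x = d} := by
    intro x _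
    obtain ⟨d, hd⟩ := exists_nat_fd R S x
    exact Set.mem_iUnion.mpr ⟨d, hd⟩
  obtain ⟨t, ht⟩ := isCompact_univ.elim_finite_subcover _ (fun d => isOpen_fd_eq R S hCM d) hcov
  refine ⟨t.sup id, fun x => ?_⟩
  obtain ⟨d, hd, hx⟩ : ∃ d ∈ t, x ∈ {x | fd R S x = d} := by
    simpa using ht (Set.mem_univ x)
  exact ⟨d, Finset.le_sup (f := id) hd, hx⟩

include hCM in
theorem isClopen_fd_eq (d : ℕ) : IsClopen {x : PrimeSpectrum S | fd R S x = d} := by
  refine ⟨?_, isOpen_fd_eq R S hCM d⟩
  rw [← isOpen_compl_iff]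
  have : {x : PrimeSpectrum S | fd R S x = d}ᶜ =
      ⋃ d' ∈ {d' : ℕ | d' ≠ d}, {x | fd R S x = d'} := by
    ext x
    simp only [Set.mem_compl_iff, Set.mem_ofPred_eq, Set.mem_iUnion, exists_prop]
    constructor
    · intro hx
      obtain ⟨d', hd'⟩ := exists_nat_fd R S x
      refine ⟨d', ?_, hd'⟩
      rintro rfl
      exact hx hd'
    · rintro ⟨d', hne, hd'⟩ h
      rw [hd'] at h
      exact hne (by exact_mod_cast h)
  rw [this]
  exact isOpen_biUnion (fun d' _ => isOpen_fd_eq R S hCM d')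

include hCM in
/-- the idempotents cutting out the loci of constant fibre dimension -/
theorem exists_idem : ∃ (N : ℕ) (e : Fin (N + 1) → S), CompleteOrthogonalIdempotents e ∧
    ∀ (d : Fin (N + 1)) (x : PrimeSpectrum S), e d ∉ x.asIdeal ↔ fd R S x = ((d : ℕ) : WithBot ℕ∞) := by
  obtain ⟨N, hN⟩ := exists_bound R S hCM
  have h1 : ∀ d : ℕ, ∃ e : S, IsIdempotentElem e ∧
      {x : PrimeSpectrum S | fd R S x = d} = PrimeSpectrum.basicOpen e :=
    fun d => PrimeSpectrum.exists_idempotent_basicOpen_eq_of_isClopen (isClopen_fd_eq R S hCM d)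
  choose e he heq using h1
  have hmem : ∀ (d : ℕ) (x : PrimeSpectrum S), e d ∉ x.asIdeal ↔ fd R S x = d := by
    intro d x
    have : x ∈ {x : PrimeSpectrum S | fd R S x = d} ↔
        x ∈ (PrimeSpectrum.basicOpen (e d) : Set (PrimeSpectrum S)) := by rw [heq d]
    exact this.symm
  have hO : OrthogonalIdempotents (fun d : Fin (N + 1) => e d.val) := by
    refine ⟨fun d => he d.val, fun i j hij => ?_⟩
    have hid : IsIdempotentElem (e i.val * e j.val) := (he i.val).mul (he j.val)
    apply hid.eq_zero_of_isNilpotent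
    rw [nilpotent_iff_mem_prime]
    intro J hJ
    by_contra hnot
    have hi : e i.val ∉ J := fun h => hnot (J.mul_mem_right _ h)
    have hj : e j.val ∉ J := fun h => hnot (J.mul_mem_left _ h)
    have e1 := (hmem i.val ⟨J, hJ⟩).mp hi
    have e2 := (hmem j.val ⟨J, hJ⟩).mp hj
    rw [e1] at e2
    have e3 : i.val = j.val := by exact_mod_cast e2
    exact hij (Fin.ext e3)
  refine ⟨N, fun d => e d.val, ⟨hO, ?_⟩, fun d x => hmem d.val x⟩
  -- completeness
  have hu : IsIdempotentElem (∑ i : Fin (N + 1), e i.val) := hO.isIdempotentElem_sum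
  have h0 : (1 : S) - ∑ i : Fin (N + 1), e i.val = 0 := by
    apply hu.one_sub.eq_zero_of_isNilpotent
    rw [nilpotent_iff_mem_prime]
    intro J hJ
    obtain ⟨d, hdN, hd⟩ := hN ⟨J, hJ⟩
    have hed : e d ∉ J := (hmem d ⟨J, hJ⟩).mpr hd
    have hz : e d * (1 - ∑ i : Fin (N + 1), e i.val) = 0 := by
      have := hO.mul_sum_of_mem (i := (⟨d, Nat.lt_succ_of_le hdN⟩ : Fin (N + 1)))
        (Finset.mem_univ _)
      rw [mul_sub, mul_one, sub_eq_zero]
      exact this.symm
    have hmem' : e d * (1 - ∑ i : Fin (N + 1), e i.val) ∈ J := by rw [hz]; exact J.zero_mem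
    exact (hJ.mem_or_mem hmem').resolve_left hed
  exact (sub_eq_zero.mp h0).symm

end Stage2

section Stage3

variable (R S : Type u) [CommRing R] [CommRing S] [Algebra R S] (e : S) (he : IsIdempotentElem e)

include he in
theorem flat_quot [Module.Flat R S] : Module.Flat R (S ⧸ Ideal.span {1 - e}) := by
  have hloc : IsLocalization.Away e (S ⧸ Ideal.span {1 - e}) :=
    IsLocalization.Away.quotient_of_isIdempotentElem he
  have h1 : Module.Flat S (S ⧸ Ideal.span {1 - e}) := IsLocalization.flat _ (Submonoid.powers e)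
  exact Module.Flat.trans R S (S ⧸ Ideal.span {1 - e})

theorem fp_quot [Algebra.FinitePresentation R S] :
    Algebra.FinitePresentation R (S ⧸ Ideal.span {1 - e}) :=
  Algebra.FinitePresentation.quotient (Submodule.fg_span_singleton _)

include he in
theorem cm_fiber_quot (p : PrimeSpectrum R) (hCM : LocCoh.IsCohenMacaulayRing (p.asIdeal.Fiber S)) :
    LocCoh.IsCohenMacaulayRing (p.asIdeal.Fiber (S ⧸ Ideal.span {1 - e})) := by
  have hloc : IsLocalization.Away e (S ⧸ Ideal.span {1 - e}) :=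
    IsLocalization.Away.quotient_of_isIdempotentElem he
  let ε := IsLocalization.Away.tensorProductEquivTMulRight R p.asIdeal.ResidueField e
    (S ⧸ Ideal.span {1 - e})
  have h1 : LocCoh.IsCohenMacaulayRing
      (Localization.Away ((1 : p.asIdeal.ResidueField) ⊗ₜ[R] e)) :=
    Groth.Agent.Lib.Helper5.TensorFieldsCM.isCohenMacaulayRing_of_isLocalization
      (S := p.asIdeal.Fiber S) (Submonoid.powers ((1 : p.asIdeal.ResidueField) ⊗ₜ[R] e)) _
  exact isCohenMacaulayRing_of_ringEquiv ε.symm.toRingEquiv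

include he in
theorem fd_quot (d : ℕ)
    (hd : ∀ x : PrimeSpectrum S, e ∉ x.asIdeal → fd R S x = (d : WithBot ℕ∞))
    (z : PrimeSpectrum (S ⧸ Ideal.span {1 - e})) :
    fd R (S ⧸ Ideal.span {1 - e}) z = (d : WithBot ℕ∞) := by
  have hloc : IsLocalization.Away e (S ⧸ Ideal.span {1 - e}) :=
    IsLocalization.Away.quotient_of_isIdempotentElem he
  let j : Spec (CommRingCat.of (S ⧸ Ideal.span {1 - e})) ⟶ Spec (CommRingCat.of S) :=
    Spec.map (CommRingCat.ofHom (algebraMap S (S ⧸ Ideal.span {1 - e})))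
  have hj : IsOpenImmersion j := IsOpenImmersion.of_isLocalization e
  have hcomp : fS R (S ⧸ Ideal.span {1 - e}) = j ≫ fS R S := by
    change _ = Spec.map _ ≫ Spec.map _
    rw [← Spec.map_comp, ← CommRingCat.ofHom_comp]
  unfold fd
  rw [hcomp, Groth.Agent.Lib.Helper3.FlatFibDim.fibreDimAt_comp_of_isOpenImmersion j (fS R S) z]
  apply hd
  intro hmem
  have h1 : algebraMap S (S ⧸ Ideal.span {1 - e}) e ∈ z.asIdeal := hmem
  have h2 : algebraMap S (S ⧸ Ideal.span {1 - e}) e = 1 := by
    have : algebraMap S (S ⧸ Ideal.span {1 - e}) (1 - e) = 0 :=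
      Ideal.Quotient.eq_zero_iff_mem.mpr (Ideal.subset_span rfl)
    rw [map_sub, map_one, sub_eq_zero] at this
    exact this.symm
  rw [h2] at h1
  exact z.isPrime.ne_top ((Ideal.eq_top_iff_one _).mpr h1)

end Stage3

section Stage4

/-- dimension of a closed subset of a prime spectrum -/
theorem dim_zeroLocus {A : Type u} [CommRing A] (I : Ideal A) :
    topologicalKrullDim ↥(PrimeSpectrum.zeroLocus (I : Set A)) = ringKrullDim (A ⧸ I) := by
  rw [← PrimeSpectrum.topologicalKrullDim_eq_ringKrullDim]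
  have hsurj : Function.Surjective (Ideal.Quotient.mk I) := Ideal.Quotient.mk_surjective
  have hemb := PrimeSpectrum.isEmbedding_comap_of_surjective _ (Ideal.Quotient.mk I) hsurj
  have hrange : Set.range (PrimeSpectrum.comap (Ideal.Quotient.mk I)) =
      PrimeSpectrum.zeroLocus (I : Set A) := by
    rw [_root_.range_comap_of_surjective _ _ hsurj, Ideal.mk_ker]
  symm
  rw [← hrange]
  exact IsHomeomorph.topologicalKrullDim_eq _ hemb.toHomeomorph.isHomeomorph

variable (R T : Type u) [CommRing R] [CommRing T] [Algebra R T] [Algebra.FiniteType R T]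

theorem dim_quot_minimal (d : ℕ) (hd : ∀ z : PrimeSpectrum T, fd R T z = (d : WithBot ℕ∞))
    (p : PrimeSpectrum R) (P : Ideal (p.asIdeal.Fiber T))
    (hP : P ∈ minimalPrimes (p.asIdeal.Fiber T)) :
    ringKrullDim (p.asIdeal.Fiber T ⧸ P) = (d : WithBot ℕ∞) := by
  have hlft : LocallyOfFiniteType (fS R T) := by
    rw [HasRingHomProperty.Spec_iff (P := @LocallyOfFiniteType)]
    exact RingHom.finiteType_algebraMap.mpr inferInstance
  let h : ↥((fS R T).fiber p) ≃ₜ ↥(Spec (CommRingCat.of (p.asIdeal.Fiber T))) :=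
    Scheme.homeoOfIso (fibIso R T p)
  have hloc : ∀ y : ↥(Spec (CommRingCat.of (p.asIdeal.Fiber T))),
      FlatMor.localDim ↥(Spec (CommRingCat.of (p.asIdeal.Fiber T))) y = (d : WithBot ℕ∞) := by
    intro y
    obtain ⟨w, rfl⟩ := h.surjective y
    refine (Groth.Agent.Lib.Helper4.FibDim.localDim_eq_of_homeomorph h w).symm.trans ?_
    refine (Groth.Agent.Lib.Helper3.DimCons.fibreDimAt_fiberι (fS R T) p w).symm.trans ?_
    exact hd _
  let : (Spec (CommRingCat.of (p.asIdeal.Fiber T))).Over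
      (Spec (CommRingCat.of p.asIdeal.ResidueField)) :=
    ⟨Spec.map (CommRingCat.ofHom (algebraMap p.asIdeal.ResidueField (p.asIdeal.Fiber T)))⟩
  have hft : LocallyOfFiniteType ((Spec (CommRingCat.of (p.asIdeal.Fiber T))) ↘
      Spec (CommRingCat.of p.asIdeal.ResidueField)) := by
    change LocallyOfFiniteType (Spec.map _)
    rw [HasRingHomProperty.Spec_iff (P := @LocallyOfFiniteType)]
    exact RingHom.finiteType_algebraMap.mpr inferInstance
  have hirr := (Groth.Agent.Lib.Helper3.EquiDim.forall_dim_irreducibleComponents_eq_iff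
    p.asIdeal.ResidueField (Spec (CommRingCat.of (p.asIdeal.Fiber T))) d).mpr hloc
  have hZ : PrimeSpectrum.zeroLocus (P : Set (p.asIdeal.Fiber T)) ∈
      irreducibleComponents (PrimeSpectrum (p.asIdeal.Fiber T)) := by
    rw [← PrimeSpectrum.zeroLocus_minimalPrimes]
    exact ⟨P, hP, rfl⟩
  rw [← dim_zeroLocus P]
  exact hirr _ hZ

end Stage4

/-- A flat finitely presented algebra with Cohen–Macaulay fibres decomposes by fibre dimension. -/
theorem main (R S : Type u) [CommRing R] [CommRing S] [Algebra R S] [Module.Flat R S]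
    [Algebra.FinitePresentation R S]
    (hCM : ∀ p : PrimeSpectrum R, LocCoh.IsCohenMacaulayRing (p.asIdeal.Fiber S)) :
    ∃ (N : ℕ) (T : Fin (N + 1) → Type u) (_ : ∀ d, CommRing (T d)) (_ : ∀ d, Algebra R (T d)),
      Nonempty (S ≃ₐ[R] ((d : Fin (N + 1)) → T d)) ∧
        ∀ d : Fin (N + 1), Module.Flat R (T d) ∧ Algebra.FinitePresentation R (T d) ∧
          (∀ p : PrimeSpectrum R, LocCoh.IsCohenMacaulayRing (p.asIdeal.Fiber (T d))) ∧
          ∀ (p : PrimeSpectrum R), ∀ P ∈ minimalPrimes (p.asIdeal.Fiber (T d)),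
            ringKrullDim (p.asIdeal.Fiber (T d) ⧸ P) = ((d : ℕ) : WithBot ℕ∞) := by
  obtain ⟨N, e, he, hmem⟩ := exists_idem R S hCM
  let iso : S ≃ₐ[R] ∀ i, S ⧸ Ideal.span {1 - e i} :=
    { __ := AlgHom.pi fun i ↦ Ideal.Quotient.mkₐ R _
      __ := Equiv.ofBijective _ he.bijective_pi }
  refine ⟨N, fun d => S ⧸ Ideal.span {1 - e d}, fun d => inferInstance, fun d => inferInstance,
    ⟨iso⟩, fun d => ⟨?_, ?_, ?_, ?_⟩⟩
  · exact flat_quot R S (e d) (he.idem d)
  · exact fp_quot R S (e d)
  · intro p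
    exact cm_fiber_quot R S (e d) (he.idem d) p (hCM p)
  · intro p P hP
    have hfp : Algebra.FinitePresentation R (S ⧸ Ideal.span {1 - e d}) := fp_quot R S (e d)
    have hft : Algebra.FiniteType R (S ⧸ Ideal.span {1 - e d}) := inferInstance
    exact dim_quot_minimal R _ d
      (fd_quot R S (e d) (he.idem d) d (fun x hx => (hmem d x).mp hx)) p P hP

end Groth.Agent.Lib.R2H4.RelCMDecomp
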