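import Mathlib
import Groth.Prelude.Def_EGA4b
import Groth.Agent.Lib.Helper3FibCritA
import Groth.Agent.Lib.Helper3HzFibSep
import Groth.Agent.Lib.Helper5CM2
import Groth.Agent.Lib.Helper14LocalDim
import Groth.Agent.Lib.Helper4FibDimE
import Groth.Agent.Lib.Helper4DimFormulaAN
import Groth.Agent.Lib.Helper3EquiDim
import Groth.Agent.Lib.Helper28LocLoc
import Groth.Agent.Lib.Helper28PolyCM
import Groth.Agent.Lib.R2H4RelCMDecomp

/-!
# Openness of the locus where a sequence is regular on the fibre local rings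
(helper4, round 2)

For `R → S` of finite type with Cohen–Macaulay equidimensional fibres and `f₁, …, fᵢ ∈ S`, the
primes `q ⊇ (f)` at which `f` is a regular sequence on `S_q / p S_q` form an open subset of `V(f)`.
-/

set_option autoImplicit false
universe u
open scoped TensorProduct
open AlgebraicGeometry CategoryTheory CategoryTheory.Limits

namespace Groth.Agent.Lib.R2H4.RegSeqOpen

open Groth.Agent.Lib.Helper28

section PartA

variable {R S : Type u} [CommRing R] [CommRing S] [Algebra R S] (p : Ideal R) [p.IsPrime]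

/-- the `S`-compatible identification of the local ring of the fibre with `S_q / p S_q` -/
theorem exists_equiv (Q : Ideal (p.Fiber S)) [Q.IsPrime] (q : Ideal S) [q.IsPrime]
    (hq : Q.comap (Algebra.TensorProduct.includeRight : S →ₐ[R] p.Fiber S) = q) :
    ∃ ε : Localization.AtPrime Q ≃+* EGA4.FibLocRing R S q, ∀ s : S,
      ε (algebraMap (p.Fiber S) (Localization.AtPrime Q) (1 ⊗ₜ s)) =
        algebraMap S (EGA4.FibLocRing R S q) s := by
  subst hq
  set r := Q.comap (Algebra.TensorProduct.includeRight : S →ₐ[R] p.Fiber S) with hr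
  have hrp : r.under R = p := Groth.Agent.Lib.Helper3.FibSep.comap_includeRight_under p Q
  have : r.LiesOver p := ⟨hrp.symm⟩
  let := Localization.AtPrime.algebraOfLiesOver p r
  let e := Ideal.Fiber.localizationAlgEquivQuotient p Q
  have hI : p.map (algebraMap R (Localization.AtPrime r)) =
      (r.comap (algebraMap R S)).map (algebraMap R (Localization.AtPrime r)) := by
    rw [← hrp]
  refine ⟨e.toRingEquiv.trans (Ideal.quotEquivOfEq hI), fun s => ?_⟩
  have h1 := Groth.Agent.Lib.Helper3.FibCritA.localizationAlgEquivQuotient_one_tmul p Q s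
  change (Ideal.quotEquivOfEq hI) (e _) = _
  rw [h1]
  rfl

/-- On the Cohen–Macaulay local ring `S_q / p S_q`, the sequence `f` is regular iff the height drops
by exactly its length. -/
theorem regular_iff (hCM : LocCoh.IsCohenMacaulayRing (p.Fiber S))
    (Q : Ideal (p.Fiber S)) [Q.IsPrime] (q : Ideal S) [q.IsPrime]
    (hq : Q.comap (Algebra.TensorProduct.includeRight : S →ₐ[R] p.Fiber S) = q)
    (f : List S) (hf : Ideal.ofList f ≤ q) :
    RingTheory.Sequence.IsRegular (EGA4.FibLocRing R S q)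
        (f.map (algebraMap S (EGA4.FibLocRing R S q))) ↔
      (((Q.map (Ideal.Quotient.mk ((Ideal.ofList f).map
        (Algebra.TensorProduct.includeRight : S →ₐ[R] p.Fiber S).toRingHom))).height : ℕ∞) :
          WithBot ℕ∞) + (f.length : WithBot ℕ∞) = ((Q.height : ℕ∞) : WithBot ℕ∞) := by
  obtain ⟨ε, hε⟩ := exists_equiv p Q q hq
  set A := EGA4.FibLocRing R S q with hAdef
  set J : Ideal (p.Fiber S) := (Ideal.ofList f).map
    (Algebra.TensorProduct.includeRight : S →ₐ[R] p.Fiber S).toRingHom with hJ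
  have hFQ : LocCoh.IsCohenMacaulayLocalRing (Localization.AtPrime Q) :=
    hCM.isCohenMacaulayLocalRing_localization Q
  have hA : LocCoh.IsCohenMacaulayLocalRing A := isCohenMacaulayLocalRing_of_ringEquiv (R := Localization.AtPrime Q) ε
  have hAloc : IsLocalRing A := hA.toIsLocalRing
  have hAnoe : IsNoetherianRing A := inferInstance
  set xs := f.map (algebraMap S A) with hxs
  -- the ring hom `S → F_Q → A` is the algebra map
  have hcomp : ((ε : Localization.AtPrime Q →+* A).comp
      (algebraMap (p.Fiber S) (Localization.AtPrime Q))).comp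
        (Algebra.TensorProduct.includeRight : S →ₐ[R] p.Fiber S).toRingHom = algebraMap S A := by
    ext s
    exact hε s
  have hJQ : J ≤ Q := by
    rw [hJ, Ideal.map_le_iff_le_comap]
    intro s hs
    have : s ∈ q := hf hs
    rw [← hq] at this
    exact this
  -- members of the maximal ideal
  have hmem : ∀ x ∈ xs, x ∈ IsLocalRing.maximalIdeal A := by
    intro x hx
    obtain ⟨s, hs, rfl⟩ := List.mem_map.mp hx
    have hsq : s ∈ q := hf (Ideal.subset_span hs)
    have h1 : ((1 : p.ResidueField) ⊗ₜ[R] s : p.Fiber S) ∈ Q := by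
      rw [← hq] at hsq
      exact hsq
    have h2 : algebraMap (p.Fiber S) (Localization.AtPrime Q) (1 ⊗ₜ s) ∈
        IsLocalRing.maximalIdeal (Localization.AtPrime Q) :=
      (IsLocalization.AtPrime.to_map_mem_maximal_iff (Localization.AtPrime Q) Q _).mpr h1
    rw [← hε s]
    rw [IsLocalRing.mem_maximalIdeal, mem_nonunits_iff] at h2 ⊢
    intro hu
    exact h2 ((isUnit_map_iff ε _).mp hu)
  -- the CM criterion
  have key := (Groth.Agent.Lib.Helper5.isWeaklyRegular_iff_of_isCohenMacaulayModule xs A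
    hA.supportDim_eq_depth hmem).1
  have hnt : Nontrivial A := inferInstance
  rw [IsLocalRing.isRegular_iff_isWeaklyRegular_of_subset_maximalIdeal hmem, key]
  -- translate dimensions
  have eq : Ideal.ofList xs = Ideal.ofList xs • (⊤ : Ideal A) := by simp
  have hd1 : Module.supportDim A (A ⧸ Ideal.ofList xs • (⊤ : Submodule A A)) =
      ringKrullDim (A ⧸ Ideal.ofList xs) := by
    have h := Module.supportDim_quotient_eq_ringKrullDim (R := A) (Ideal.ofList xs • (⊤ : Ideal A))
    refine h.trans ?_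
    rw [← eq]
  have hd2 : Module.supportDim A A = ringKrullDim A := Module.supportDim_self_eq_ringKrullDim A
  have hd3 : ringKrullDim A = ((Q.height : ℕ∞) : WithBot ℕ∞) := by
    rw [← ringKrullDim_eq_of_ringEquiv ε]
    exact IsLocalization.AtPrime.ringKrullDim_eq_height Q (Localization.AtPrime Q)
  have hmapI : (J.map (algebraMap (p.Fiber S) (Localization.AtPrime Q))).map
      (ε : Localization.AtPrime Q →+* A) = Ideal.ofList xs := by
    rw [hJ, Ideal.map_map, Ideal.map_map, hcomp, Ideal.map_ofList]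
  have hd4 : ringKrullDim (A ⧸ Ideal.ofList xs) =
      (((Q.map (Ideal.Quotient.mk J)).height : ℕ∞) : WithBot ℕ∞) := by
    rw [← ringKrullDim_localization_quotient_eq_height J Q hJQ]
    exact (ringKrullDim_eq_of_ringEquiv
      (Ideal.quotientEquiv _ _ ε hmapI.symm)).symm
  rw [hd1, hd2, hd3, hd4, List.length_map]

/-- Krull's height theorem in the fibre. -/
theorem height_le [Algebra.FiniteType R S] (Q : Ideal (p.Fiber S)) [Q.IsPrime] (f : List S)
    (hJQ : (Ideal.ofList f).map
        (Algebra.TensorProduct.includeRight : S →ₐ[R] p.Fiber S).toRingHom ≤ Q) :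
    Q.height ≤ (Q.map (Ideal.Quotient.mk ((Ideal.ofList f).map
        (Algebra.TensorProduct.includeRight : S →ₐ[R] p.Fiber S).toRingHom))).height +
      (f.length : ℕ∞) := by
  classical
  have hN : IsNoetherianRing (p.Fiber S) :=
    Algebra.FiniteType.isNoetherianRing p.ResidueField (p.Fiber S)
  rw [Ideal.map_ofList] at hJQ ⊢
  set ys := f.map (Algebra.TensorProduct.includeRight : S →ₐ[R] p.Fiber S).toRingHom with hys
  have hsub : {r | r ∈ ys} ⊆ (Q : Set (p.Fiber S)) := fun r hr => hJQ (Ideal.subset_span hr)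
  refine (Ideal.height_le_height_add_encard_of_subset {r | r ∈ ys} hsub).trans ?_
  gcongr
  have h1 : {r | r ∈ ys} = ((ys.toFinset : Finset (p.Fiber S)) : Set (p.Fiber S)) := by
    ext r; simp
  rw [h1, Set.encard_coe_eq_coe_finsetCard]
  have h2 : ys.toFinset.card ≤ f.length := by
    refine (List.toFinset_card_le ys).trans ?_
    rw [hys, List.length_map]
  exact_mod_cast h2

end PartA

section PartB

theorem dim_doubleQuot {F : Type*} [CommRing F] (J Q : Ideal F) (h : J ≤ Q) :
    ringKrullDim ((F ⧸ J) ⧸ Q.map (Ideal.Quotient.mk J)) = ringKrullDim (F ⧸ Q) :=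
  ringKrullDim_eq_of_ringEquiv (DoubleQuot.quotQuotEquivQuotOfLE h)

variable {R S : Type u} [CommRing R] [CommRing S] [Algebra R S] [Algebra.FiniteType R S]
  (p : PrimeSpectrum R)

/-- an equidimensional fibre ring has local dimension `d` everywhere -/
theorem localDim_fiber_eq (d : ℕ)
    (heq : ∀ P ∈ minimalPrimes (p.asIdeal.Fiber S),
      ringKrullDim (p.asIdeal.Fiber S ⧸ P) = (d : WithBot ℕ∞))
    (y : PrimeSpectrum (p.asIdeal.Fiber S)) :
    FlatMor.localDim (PrimeSpectrum (p.asIdeal.Fiber S)) y = (d : WithBot ℕ∞) := by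
  let : (Spec (CommRingCat.of (p.asIdeal.Fiber S))).Over
      (Spec (CommRingCat.of p.asIdeal.ResidueField)) :=
    ⟨Spec.map (CommRingCat.ofHom (algebraMap p.asIdeal.ResidueField (p.asIdeal.Fiber S)))⟩
  have hft : LocallyOfFiniteType ((Spec (CommRingCat.of (p.asIdeal.Fiber S))) ↘
      Spec (CommRingCat.of p.asIdeal.ResidueField)) := by
    change LocallyOfFiniteType (Spec.map _)
    rw [HasRingHomProperty.Spec_iff (P := @LocallyOfFiniteType)]
    exact RingHom.finiteType_algebraMap.mpr inferInstance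
  have hirr := (Groth.Agent.Lib.Helper3.EquiDim.forall_dim_irreducibleComponents_eq_iff
    p.asIdeal.ResidueField (Spec (CommRingCat.of (p.asIdeal.Fiber S))) d).mp ?_
  · exact hirr y
  · intro Z hZ
    have hZ' : Z ∈ irreducibleComponents (PrimeSpectrum (p.asIdeal.Fiber S)) := hZ
    rw [← PrimeSpectrum.zeroLocus_minimalPrimes] at hZ'
    obtain ⟨P, hP, rfl⟩ := hZ'
    refine (Groth.Agent.Lib.R2H4.RelCMDecomp.dim_zeroLocus P).trans ?_
    exact heq P hP

/-- numerical data at a prime of the fibre ring and of a quotient of it -/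
theorem exists_dims_fiber (d : ℕ)
    (heq : ∀ P ∈ minimalPrimes (p.asIdeal.Fiber S),
      ringKrullDim (p.asIdeal.Fiber S ⧸ P) = (d : WithBot ℕ∞))
    (Q : Ideal (p.asIdeal.Fiber S)) [Q.IsPrime] (J : Ideal (p.asIdeal.Fiber S)) (hJQ : J ≤ Q)
    (hprime : (Q.map (Ideal.Quotient.mk J)).IsPrime) :
    ∃ n n' e : ℕ, Q.height = n ∧ (Q.map (Ideal.Quotient.mk J)).height = n' ∧ n + e = d ∧
      FlatMor.localDim (PrimeSpectrum (p.asIdeal.Fiber S ⧸ J)) ⟨Q.map (Ideal.Quotient.mk J), hprime⟩ =
        ((n' + e : ℕ) : WithBot ℕ∞) := by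
  obtain ⟨n, e, hn, he, -, he'⟩ :=
    Groth.Agent.Lib.Helper14.LocalDim.exists_dims (k := p.asIdeal.ResidueField) Q
  obtain ⟨n', e', hn', he1, -, he1'⟩ :=
    Groth.Agent.Lib.Helper14.LocalDim.exists_dims (k := p.asIdeal.ResidueField)
      (Q.map (Ideal.Quotient.mk J))
  have h1 := Groth.Agent.Lib.Helper14.LocalDim.localDim_eq (k := p.asIdeal.ResidueField) Q n e hn he he'
  have h2 := Groth.Agent.Lib.Helper14.LocalDim.localDim_eq (k := p.asIdeal.ResidueField)
    (Q.map (Ideal.Quotient.mk J)) n' e' hn' he1 he1'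
  have h3 := localDim_fiber_eq p d heq ⟨Q, inferInstance⟩
  rw [h1] at h3
  have hnd : n + e = d := by exact_mod_cast h3
  have hee : e' = e := by
    have h4 := dim_doubleQuot J Q hJQ
    have h5 : ((e' : ℕ) : WithBot ℕ∞) = (e : WithBot ℕ∞) := he1.symm.trans (h4.trans he)
    exact_mod_cast h5
  refine ⟨n, n', e, hn, hn', hnd, ?_⟩
  rw [h2, hee]

end PartB

section PartC

open Groth.Agent.Lib.Helper4.FibDim

variable (R S : Type u) [CommRing R] [CommRing S] [Algebra R S] (I : Ideal S)

theorem localDim_congr_pt {α : Type*} [TopologicalSpace α] (s : Set α) (x y : α) (h : x = y)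
    (hx : x ∈ s) (hy : y ∈ s) :
    FlatMor.localDim s ⟨x, hx⟩ = FlatMor.localDim s ⟨y, hy⟩ := by
  subst h; rfl

/-- the fibre dimension of `Spec S/I → Spec R` at `z` is the local dimension of
`Spec (κ(p) ⊗ S / I (κ(p) ⊗ S))` at the corresponding point -/
theorem fibLD_quot (z : PrimeSpectrum (S ⧸ I)) (p : PrimeSpectrum R)
    (hp : PrimeSpectrum.comap (algebraMap R S) (PrimeSpectrum.comap (Ideal.Quotient.mk I) z) = p)
    (hprime : ((PrimeSpectrum.preimageHomeomorphFiber R S p
      ⟨PrimeSpectrum.comap (Ideal.Quotient.mk I) z, hp⟩).asIdeal.map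
        (Ideal.Quotient.mk (I.map
          (Algebra.TensorProduct.includeRight : S →ₐ[R] p.asIdeal.Fiber S).toRingHom))).IsPrime) :
    fibLD (PrimeSpectrum.comap (algebraMap R (S ⧸ I))) z =
      FlatMor.localDim (PrimeSpectrum (p.asIdeal.Fiber S ⧸ I.map
          (Algebra.TensorProduct.includeRight : S →ₐ[R] p.asIdeal.Fiber S).toRingHom))
        ⟨_, hprime⟩ := by
  subst hp
  set jT : PrimeSpectrum (S ⧸ I) → PrimeSpectrum S := PrimeSpectrum.comap (Ideal.Quotient.mk I)
    with hjT
  set φ : PrimeSpectrum S → PrimeSpectrum R := PrimeSpectrum.comap (algebraMap R S) with hφ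
  set p : PrimeSpectrum R := φ (jT z) with hpdef
  set J : Ideal (p.asIdeal.Fiber S) := I.map
    (Algebra.TensorProduct.includeRight : S →ₐ[R] p.asIdeal.Fiber S).toRingHom with hJ
  set h := PrimeSpectrum.preimageHomeomorphFiber R S p with hh
  set Q : PrimeSpectrum (p.asIdeal.Fiber S) := h ⟨jT z, rfl⟩ with hQ
  have hjTemb : Topology.IsEmbedding jT :=
    (PrimeSpectrum.isClosedEmbedding_comap_of_surjective _ _
      Ideal.Quotient.mk_surjective).isEmbedding
  have hφT : (PrimeSpectrum.comap (algebraMap R (S ⧸ I)) : PrimeSpectrum (S ⧸ I) → PrimeSpectrum R) =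
      φ ∘ jT := by
    funext w
    rfl
  rw [hφT, Groth.Agent.Lib.Helper4.DimFormula.fibLD_comp_isEmbedding φ jT hjTemb z]
  -- the comparison embedding
  let c : PrimeSpectrum (p.asIdeal.Fiber S) → PrimeSpectrum S :=
    PrimeSpectrum.comap (Algebra.TensorProduct.includeRight : S →ₐ[R] p.asIdeal.Fiber S).toRingHom
  let m : PrimeSpectrum (p.asIdeal.Fiber S ⧸ J) → PrimeSpectrum (p.asIdeal.Fiber S) :=
    PrimeSpectrum.comap (Ideal.Quotient.mk J)
  have hc_eq : c = Subtype.val ∘ h.symm := by
    funext Q'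
    rfl
  have hc : Topology.IsEmbedding c := by
    rw [hc_eq]
    exact Topology.IsEmbedding.subtypeVal.comp h.symm.isEmbedding
  have hm : Topology.IsEmbedding m :=
    (PrimeSpectrum.isClosedEmbedding_comap_of_surjective _ _
      Ideal.Quotient.mk_surjective).isEmbedding
  have hg : Topology.IsEmbedding (c ∘ m) := hc.comp hm
  have hcQ : ∀ t : (φ ⁻¹' {p}), c (h t) = t.1 := fun t =>
    comap_includeRight_preimageHomeomorphFiber p.asIdeal t
  have hrange_jT : Set.range jT = PrimeSpectrum.zeroLocus (I : Set S) := by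
    rw [hjT, _root_.range_comap_of_surjective _ _ Ideal.Quotient.mk_surjective, Ideal.mk_ker]
  have hrange_m : Set.range m = PrimeSpectrum.zeroLocus (J : Set (p.asIdeal.Fiber S)) := by
    rw [_root_.range_comap_of_surjective _ _ Ideal.Quotient.mk_surjective, Ideal.mk_ker]
  have hrange : Set.range (c ∘ m) = Set.range jT ∩ φ ⁻¹' {φ (jT z)} := by
    ext x
    constructor
    · rintro ⟨Q', rfl⟩
      refine ⟨?_, ?_⟩
      · rw [hrange_jT, PrimeSpectrum.mem_zeroLocus]
        intro s hs
        change Ideal.Quotient.mk J ((1 : p.asIdeal.ResidueField) ⊗ₜ[R] s) ∈ Q'.asIdeal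
        have : ((1 : p.asIdeal.ResidueField) ⊗ₜ[R] s : p.asIdeal.Fiber S) ∈ J :=
          Ideal.mem_map_of_mem _ hs
        rw [Ideal.Quotient.eq_zero_iff_mem.mpr this]
        exact Q'.asIdeal.zero_mem
      · have := (h.symm (m Q')).2
        rw [hc_eq]
        exact this
    · rintro ⟨hx1, hx2⟩
      have hx2' : x ∈ φ ⁻¹' {p} := hx2
      have hmem : h ⟨x, hx2'⟩ ∈ Set.range m := by
        rw [hrange_m, PrimeSpectrum.mem_zeroLocus]
        change J ≤ (h ⟨x, hx2'⟩).asIdeal
        rw [hJ, Ideal.map_le_iff_le_comap]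
        have h1 : (c (h ⟨x, hx2'⟩)).asIdeal = x.asIdeal := by rw [hcQ ⟨x, hx2'⟩]
        intro s hs
        rw [hrange_jT, PrimeSpectrum.mem_zeroLocus] at hx1
        have : s ∈ x.asIdeal := hx1 hs
        rw [← h1] at this
        exact this
      obtain ⟨Q'', hQ''⟩ := hmem
      refine ⟨Q'', ?_⟩
      change c (m Q'') = x
      rw [hQ'']
      exact hcQ ⟨x, hx2'⟩
  symm
  rw [localDim_eq_of_homeomorph hg.toHomeomorph]
  have hIq : I ≤ (jT z).asIdeal := by
    intro s hs
    change Ideal.Quotient.mk I s ∈ z.asIdeal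
    rw [Ideal.Quotient.eq_zero_iff_mem.mpr hs]
    exact z.asIdeal.zero_mem
  have hJQ : J ≤ Q.asIdeal := by
    rw [hJ, Ideal.map_le_iff_le_comap]
    have h1 : (c Q).asIdeal = (jT z).asIdeal := by rw [hQ, hcQ ⟨jT z, rfl⟩]
    intro s hs
    have : s ∈ (jT z).asIdeal := hIq hs
    rw [← h1] at this
    exact this
  have hpt : (c ∘ m) ⟨Q.asIdeal.map (Ideal.Quotient.mk J), hprime⟩ = jT z := by
    have h1 : m ⟨Q.asIdeal.map (Ideal.Quotient.mk J), hprime⟩ = Q := by
      apply PrimeSpectrum.ext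
      change (Q.asIdeal.map (Ideal.Quotient.mk J)).comap (Ideal.Quotient.mk J) = Q.asIdeal
      rw [Ideal.comap_map_of_surjective _ Ideal.Quotient.mk_surjective, ← RingHom.ker_eq_comap_bot,
        Ideal.mk_ker]
      exact sup_eq_left.mpr hJQ
    change c (m _) = jT z
    rw [h1, hQ]
    exact hcQ ⟨jT z, rfl⟩
  refine (localDim_congr_set hrange _ ⟨_, rfl⟩).trans ?_
  exact localDim_congr_pt _ _ _ hpt _ _

end PartC

section Main

open Groth.Agent.Lib.Helper4.FibDim

variable (R S : Type u) [CommRing R] [CommRing S] [Algebra R S] [Algebra.FiniteType R S]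

/-- the pointwise comparison -/
theorem key (d : ℕ)
    (hCM : ∀ p : PrimeSpectrum R, LocCoh.IsCohenMacaulayRing (p.asIdeal.Fiber S))
    (heq : ∀ p : PrimeSpectrum R, ∀ P ∈ minimalPrimes (p.asIdeal.Fiber S),
      ringKrullDim (p.asIdeal.Fiber S ⧸ P) = (d : WithBot ℕ∞))
    (f : List S) (z : PrimeSpectrum (S ⧸ Ideal.ofList f)) :
    ∃ a : ℕ, fibLD (PrimeSpectrum.comap (algebraMap R (S ⧸ Ideal.ofList f))) z = (a : WithBot ℕ∞) ∧
      d ≤ a + f.length ∧
      (RingTheory.Sequence.IsRegular
        (EGA4.FibLocRing R S (PrimeSpectrum.comap (Ideal.Quotient.mk (Ideal.ofList f)) z).asIdeal)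
        (f.map (algebraMap S (EGA4.FibLocRing R S
          (PrimeSpectrum.comap (Ideal.Quotient.mk (Ideal.ofList f)) z).asIdeal))) ↔
        a + f.length = d) := by
  set q : PrimeSpectrum S := PrimeSpectrum.comap (Ideal.Quotient.mk (Ideal.ofList f)) z with hq
  set p : PrimeSpectrum R := PrimeSpectrum.comap (algebraMap R S) q with hp
  set Q : PrimeSpectrum (p.asIdeal.Fiber S) :=
    PrimeSpectrum.preimageHomeomorphFiber R S p ⟨q, rfl⟩ with hQ
  set J : Ideal (p.asIdeal.Fiber S) := (Ideal.ofList f).map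
    (Algebra.TensorProduct.includeRight : S →ₐ[R] p.asIdeal.Fiber S).toRingHom with hJ
  have hQq' : PrimeSpectrum.comap
      (Algebra.TensorProduct.includeRight : S →ₐ[R] p.asIdeal.Fiber S).toRingHom Q = q :=
    comap_includeRight_preimageHomeomorphFiber p.asIdeal ⟨q, rfl⟩
  have hQq : Q.asIdeal.comap (Algebra.TensorProduct.includeRight : S →ₐ[R] p.asIdeal.Fiber S) =
      q.asIdeal := congrArg PrimeSpectrum.asIdeal hQq'
  have hIq : Ideal.ofList f ≤ q.asIdeal := by
    intro s hs
    change Ideal.Quotient.mk (Ideal.ofList f) s ∈ z.asIdeal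
    rw [Ideal.Quotient.eq_zero_iff_mem.mpr hs]
    exact z.asIdeal.zero_mem
  have hJQ : J ≤ Q.asIdeal := by
    rw [hJ, Ideal.map_le_iff_le_comap]
    intro s hs
    have : s ∈ q.asIdeal := hIq hs
    rw [← hQq] at this
    exact this
  have hprime : (Q.asIdeal.map (Ideal.Quotient.mk J)).IsPrime :=
    Ideal.isPrime_map_quotientMk_of_isPrime hJQ
  have hreg := regular_iff p.asIdeal (hCM p) Q.asIdeal q.asIdeal hQq f hIq
  obtain ⟨n, n', e, hn, hn', hne, hloc⟩ := exists_dims_fiber p d (heq p) Q.asIdeal J hJQ hprime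
  have hfib := fibLD_quot R S (Ideal.ofList f) z p rfl hprime
  have hle := height_le p.asIdeal Q.asIdeal f hJQ
  rw [hn, hn'] at hle
  have hle' : n ≤ n' + f.length := by exact_mod_cast hle
  refine ⟨n' + e, hfib.trans hloc, by omega, ?_⟩
  rw [hreg, hn, hn']
  constructor
  · intro h1
    have h2 : n' + f.length = n := by exact_mod_cast h1
    omega
  · intro h1
    have h2 : n' + f.length = n := by omega
    exact_mod_cast congrArg (fun x : ℕ => (x : WithBot ℕ∞)) h2

/-- Openness in `V(f)` of the locus where `f` is a regular sequence on the fibre local rings. -/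
theorem main (d : ℕ)
    (hCM : ∀ p : PrimeSpectrum R, LocCoh.IsCohenMacaulayRing (p.asIdeal.Fiber S))
    (heq : ∀ p : PrimeSpectrum R, ∀ P ∈ minimalPrimes (p.asIdeal.Fiber S),
      ringKrullDim (p.asIdeal.Fiber S ⧸ P) = (d : WithBot ℕ∞))
    (f : List S) :
    ∃ U : Set (PrimeSpectrum S), IsOpen U ∧ ∀ q : PrimeSpectrum S, Ideal.ofList f ≤ q.asIdeal →
      (q ∈ U ↔ RingTheory.Sequence.IsRegular (EGA4.FibLocRing R S q.asIdeal)
        (f.map (algebraMap S (EGA4.FibLocRing R S q.asIdeal)))) := by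
  set jT : PrimeSpectrum (S ⧸ Ideal.ofList f) → PrimeSpectrum S :=
    PrimeSpectrum.comap (Ideal.Quotient.mk (Ideal.ofList f))
    with hjT
  have hcl : Topology.IsClosedEmbedding jT :=
    PrimeSpectrum.isClosedEmbedding_comap_of_surjective _ _ Ideal.Quotient.mk_surjective
  have hrange_jT : Set.range jT = PrimeSpectrum.zeroLocus (Ideal.ofList f : Set S) := by
    rw [hjT, _root_.range_comap_of_surjective _ _ Ideal.Quotient.mk_surjective, Ideal.mk_ker]
  have hex : ∀ q : PrimeSpectrum S, Ideal.ofList f ≤ q.asIdeal → ∃ z, jT z = q := by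
    intro q hq
    have : q ∈ Set.range jT := by
      rw [hrange_jT, PrimeSpectrum.mem_zeroLocus]
      exact hq
    exact this
  by_cases hid : f.length ≤ d
  · let W : Set (PrimeSpectrum (S ⧸ Ideal.ofList f)) :=
      {z | fibLD (PrimeSpectrum.comap (algebraMap R (S ⧸ Ideal.ofList f))) z ≤ ((d - f.length : ℕ) : WithBot ℕ∞)}
    have hW : IsOpen W := isOpen_setOf_fibLD_comap_le R (S ⧸ Ideal.ofList f) (d - f.length)
    refine ⟨(jT '' Wᶜ)ᶜ, (hcl.isClosedMap _ hW.isClosed_compl).isOpen_compl, fun q hq => ?_⟩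
    obtain ⟨z, rfl⟩ := hex q hq
    have h1 : jT z ∈ (jT '' Wᶜ)ᶜ ↔ z ∈ W := by
      rw [Set.mem_compl_iff, hcl.injective.mem_set_image, Set.mem_compl_iff, not_not]
    rw [h1]
    obtain ⟨a, ha, hda, hiff⟩ := key R S d hCM heq f z
    rw [hiff]
    change fibLD (PrimeSpectrum.comap (algebraMap R (S ⧸ Ideal.ofList f))) z ≤ _ ↔ _
    rw [ha]
    constructor
    · intro h2
      have h3 : a ≤ d - f.length := by exact_mod_cast h2
      omega
    · intro h2
      have h3 : a ≤ d - f.length := by omega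
      exact_mod_cast h3
  · refine ⟨∅, isOpen_empty, fun q hq => ?_⟩
    obtain ⟨z, rfl⟩ := hex q hq
    obtain ⟨a, ha, hda, hiff⟩ := key R S d hCM heq f z
    rw [hiff]
    simp only [Set.mem_empty_iff_false, false_iff]
    omega

end Main

end Groth.Agent.Lib.R2H4.RegSeqOpen
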