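import Mathlib
import Groth.Prelude.Def_RegImm
import Groth.Agent.Lib.R2H4RegSeqOpen
import Groth.Agent.Lib.R2H4GCIFibDim
import Groth.Agent.Lib.Helper3FlatDescD
import Groth.Agent.Lib.Helper3LocDimBC
import Groth.Agent.Lib.Helper28PolyCM
import Groth.Agent.Lib.H5bCM
import Groth.Agent.S5774

/-!
# Flatness of relative global complete intersections (helper4, round 2)

`R[x₁..xₙ]/(F₁..F_c)` with all nonempty fibres of dimension `n - c` is flat over `R`
(no Noetherian hypothesis), by reduction to a finitely generated `ℤ`-subalgebra and the local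
criterion of flatness (`S5774`).
-/

set_option autoImplicit false
universe u
open scoped TensorProduct
open AlgebraicGeometry CategoryTheory CategoryTheory.Limits

namespace Groth.Agent.Lib.R2H4.RelGCIFlat

open Groth.Agent.Lib.Helper28

section Poly

variable (A : Type u) [CommRing A] (n : ℕ) (p : PrimeSpectrum A)

/-- the fibre of a polynomial ring is a polynomial ring over the residue field -/
noncomputable def fiberPolyEquiv :
    p.asIdeal.Fiber (MvPolynomial (Fin n) A) ≃ₐ[p.asIdeal.ResidueField]
      MvPolynomial (Fin n) p.asIdeal.ResidueField :=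
  MvPolynomial.algebraTensorAlgEquiv A p.asIdeal.ResidueField

theorem cm_fiber_poly : LocCoh.IsCohenMacaulayRing (p.asIdeal.Fiber (MvPolynomial (Fin n) A)) := by
  have := Groth.Agent.Lib.H5b.isCohenMacaulayRing_mvPolynomial_finite p.asIdeal.ResidueField (Fin n)
  exact isCohenMacaulayRing_of_ringEquiv (fiberPolyEquiv A n p).symm.toRingEquiv

theorem equidim_fiber_poly (P : Ideal (p.asIdeal.Fiber (MvPolynomial (Fin n) A)))
    (hP : P ∈ minimalPrimes (p.asIdeal.Fiber (MvPolynomial (Fin n) A))) :
    ringKrullDim (p.asIdeal.Fiber (MvPolynomial (Fin n) A) ⧸ P) = (n : WithBot ℕ∞) := by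
  have hdom : IsDomain (p.asIdeal.Fiber (MvPolynomial (Fin n) A)) :=
    (fiberPolyEquiv A n p).toRingEquiv.toMulEquiv.isDomain _
  rw [IsDomain.minimalPrimes_eq_singleton_bot, Set.mem_singleton_iff] at hP
  subst hP
  rw [ringKrullDim_eq_of_ringEquiv (RingEquiv.quotientBot _),
    ringKrullDim_eq_of_ringEquiv (fiberPolyEquiv A n p).toRingEquiv,
    MvPolynomial.ringKrullDim_of_isNoetherianRing, ringKrullDim_eq_zero_of_field]
  simp

end Poly

section Noeth

variable {A : Type u} [CommRing A] [IsNoetherianRing A] (n c : ℕ)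
  (G : Fin c → MvPolynomial (Fin n) A)

omit [IsNoetherianRing A] in
theorem ofList_ofFn {T : Type*} [CommRing T] {c : ℕ} (G : Fin c → T) :
    Ideal.ofList (List.ofFn G) = Ideal.span (Set.range G) := by
  have h : {r | r ∈ List.ofFn G} = Set.range G := by
    ext r
    exact List.mem_ofFn
  show Ideal.span {r | r ∈ List.ofFn G} = Ideal.span (Set.range G)
  rw [h]

local notation "Pol" => MvPolynomial (Fin n) A

/-- If `G` is a regular sequence on the fibre local ring at `Q`, then the quotient of the
localization at `Q` by `G` is flat over `A` (local criterion of flatness, `S5774`). -/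
theorem flat_quotient_localization (Q : Ideal (MvPolynomial (Fin n) A)) [Q.IsPrime]
    (hreg : RingTheory.Sequence.IsRegular (EGA4.FibLocRing A (MvPolynomial (Fin n) A) Q)
      ((List.ofFn G).map (algebraMap (MvPolynomial (Fin n) A)
        (EGA4.FibLocRing A (MvPolynomial (Fin n) A) Q)))) :
    Module.Flat A (Localization.AtPrime Q ⧸ (Ideal.span (Set.range G)).map
      (algebraMap (MvPolynomial (Fin n) A) (Localization.AtPrime Q))) := by
  set p : Ideal A := Q.under A with hp
  have hlies : Q.LiesOver p := ⟨rfl⟩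
  let Ap := Localization.AtPrime p
  let B := Localization.AtPrime Q
  let algApB : Algebra Ap B := Localization.AtPrime.algebraOfLiesOver p Q
  have hLO : Localization.AtPrime.IsLiesOverAlgebra p Q := ⟨rfl⟩
  have hloc : IsLocalHom (algebraMap Ap B) := by
    rw [Localization.AtPrime.IsLiesOverAlgebra.algebraMap_eq (p := p) (P := Q)]
    infer_instance
  have hflatApB : Module.Flat Ap B := inferInstance
  set C := EGA4.FibLocRing A Pol Q with hC
  set fs : List B := (List.ofFn G).map (algebraMap Pol B) with hfs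
  -- the regularity hypothesis in the form needed
  have hcomp : (⇑(algebraMap B C) ∘ ⇑(algebraMap Pol B)) = ⇑(algebraMap Pol C) := by
    funext x
    exact (IsScalarTower.algebraMap_apply Pol B C x).symm
  have h1 : RingTheory.Sequence.IsWeaklyRegular C (fs.map (algebraMap B C)) := by
    have := hreg.toIsWeaklyRegular
    rw [hfs, List.map_map, hcomp]
    exact this
  have h2 : RingTheory.Sequence.IsWeaklyRegular C fs :=
    (RingTheory.Sequence.isWeaklyRegular_map_algebraMap_iff C C fs).mp h1
  have hideal : ((IsLocalRing.maximalIdeal Ap).map (algebraMap Ap B) • (⊤ : Submodule B B)) =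
      (Q.comap (algebraMap A Pol)).map (algebraMap A B) := by
    rw [smul_eq_mul, Ideal.mul_top, ← Localization.AtPrime.map_eq_maximalIdeal, Ideal.map_map,
      ← IsScalarTower.algebraMap_eq]
  let e : C ≃ₗ[B] (B ⧸ ((IsLocalRing.maximalIdeal Ap).map (algebraMap Ap B) •
      (⊤ : Submodule B B))) := Submodule.quotEquivOfEq _ _ hideal.symm
  have h3 := (e.isWeaklyRegular_congr fs).mp h2
  obtain ⟨-, hflat⟩ := Groth.Agent.S5774.result Ap B B fs h3
  have h4 := hflat fs.length le_rfl
  rw [List.take_length] at h4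
  have hsub : (Ideal.ofList fs • (⊤ : Submodule B B)) =
      (Ideal.span (Set.range G)).map (algebraMap Pol B) := by
    rw [smul_eq_mul, Ideal.mul_top, hfs, ← Ideal.map_ofList, ofList_ofFn]
  have h5 : Module.Flat Ap (B ⧸ (Ideal.span (Set.range G)).map (algebraMap Pol B)) :=
    Module.Flat.of_linearEquiv ((Submodule.quotEquivOfEq _ _ hsub).symm.restrictScalars Ap)
  exact Module.Flat.trans A Ap _

end Noeth

section BaseChange

open Groth.Agent.Lib.Helper4.FibDim

attribute [local instance] MvPolynomial.algebraMvPolynomial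

variable (R₀ R : Type u) [CommRing R₀] [CommRing R] [Algebra R₀ R] (n : ℕ)

attribute [local instance] Algebra.TensorProduct.rightAlgebra in
/-- quotient by an extended ideal is a pushout -/
theorem isPushout_quotient {A B : Type u} [CommRing A] [CommRing B] [Algebra A B] (I : Ideal A) :
    Algebra.IsPushout A B (A ⧸ I) (B ⧸ I.map (algebraMap A B)) := by
  have h : Algebra.IsPushout A B (A ⧸ I) (B ⊗[A] (A ⧸ I)) := inferInstance
  refine Algebra.IsPushout.of_equiv (h := h)
    (Algebra.TensorProduct.quotIdealMapEquivTensorQuot B I).symm ?_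
  ext a
  change (Algebra.TensorProduct.quotIdealMapEquivTensorQuot B I).symm
    ((1 : B) ⊗ₜ[A] (Ideal.Quotient.mk I a)) = _
  rw [Algebra.TensorProduct.quotIdealMapEquivTensorQuot_symm_tmul]
  change Ideal.Quotient.mk (I.map (algebraMap A B)) (a • (1 : B)) =
    Ideal.Quotient.mk (I.map (algebraMap A B)) (algebraMap A B a)
  rw [Algebra.algebraMap_eq_smul_one]

/-- the fibre dimension of a quotient of a polynomial ring descends along `R₀ → R` -/
theorem exists_fibLD_eq (J₀ : Ideal (MvPolynomial (Fin n) R₀)) (J : Ideal (MvPolynomial (Fin n) R))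
    (hJ : J = J₀.map (algebraMap (MvPolynomial (Fin n) R₀) (MvPolynomial (Fin n) R)))
    (x : PrimeSpectrum (MvPolynomial (Fin n) R ⧸ J)) :
    ∃ z : PrimeSpectrum (MvPolynomial (Fin n) R₀ ⧸ J₀),
      (PrimeSpectrum.comap (Ideal.Quotient.mk J₀) z).asIdeal =
        ((PrimeSpectrum.comap (Ideal.Quotient.mk J) x).asIdeal).comap
          (algebraMap (MvPolynomial (Fin n) R₀) (MvPolynomial (Fin n) R)) ∧
      fibLD (PrimeSpectrum.comap (algebraMap R₀ (MvPolynomial (Fin n) R₀ ⧸ J₀))) z =
        FlatMor.fibreDimAt (Spec.map (CommRingCat.ofHom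
          (algebraMap R (MvPolynomial (Fin n) R ⧸ J)))) x := by
  subst hJ
  set S₀ := MvPolynomial (Fin n) R₀ ⧸ J₀ with hS₀
  set S := MvPolynomial (Fin n) R ⧸
    J₀.map (algebraMap (MvPolynomial (Fin n) R₀) (MvPolynomial (Fin n) R)) with hS
  have h1 : Algebra.IsPushout R₀ (MvPolynomial (Fin n) R₀) R (MvPolynomial (Fin n) R) :=
    inferInstance
  have htower : IsScalarTower R₀ S₀ S := by
    refine IsScalarTower.of_algebraMap_eq (R := R₀) (S := S₀) (A := S) (fun r => ?_)
    have hC : MvPolynomial.map (algebraMap R₀ R) (MvPolynomial.C r : MvPolynomial (Fin n) R₀) =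
        MvPolynomial.C (algebraMap R₀ R r) := MvPolynomial.map_C _ _
    exact congrArg (Ideal.Quotient.mk
      (J₀.map (algebraMap (MvPolynomial (Fin n) R₀) (MvPolynomial (Fin n) R)))) hC.symm
  have h2 : Algebra.IsPushout (MvPolynomial (Fin n) R₀) S₀ (MvPolynomial (Fin n) R) S :=
    (isPushout_quotient J₀).symm
  have h3 : Algebra.IsPushout R₀ S₀ R S :=
    (Algebra.IsPushout.comp_iff R₀ (MvPolynomial (Fin n) R₀) R (MvPolynomial (Fin n) R)).mpr h2
  have hpo := CommRingCat.isPushout_of_isPushout R₀ S₀ R S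
  have hpb := isPullback_SpecMap_of_isPushout _ _ _ _ hpo
  have hft : LocallyOfFiniteType (Spec.map (CommRingCat.ofHom (algebraMap R₀ S₀))) := by
    rw [HasRingHomProperty.Spec_iff (P := @LocallyOfFiniteType)]
    exact RingHom.finiteType_algebraMap.mpr inferInstance
  have key := Groth.Agent.Lib.Helper3.LocDimBC.fibreDimAt_eq_of_isPullback
    (Spec.map (CommRingCat.ofHom (algebraMap R₀ S₀)))
    (Spec.map (CommRingCat.ofHom (algebraMap R₀ R)))
    (Spec.map (CommRingCat.ofHom (algebraMap S₀ S)))
    (Spec.map (CommRingCat.ofHom (algebraMap R S))) hpb x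
  refine ⟨PrimeSpectrum.comap (algebraMap S₀ S) x, rfl, ?_⟩
  rw [key, fibreDimAt_eq_fibLD]
  rfl

end BaseChange

section Model

open Groth.Agent.Lib.Helper3.FlatDesc

/-- the one-generator presented module is the quotient ring -/
theorem nonempty_modelEquiv {T₀ : Type*} [CommRing T₀] {c : ℕ} (g : Fin c → T₀) (T : Type*)
    [CommRing T] [Algebra T₀ T] :
    Nonempty (((Fin 1 → T) ⧸ KT (fun j (_ : Fin 1) => g j) T) ≃ₗ[T]
      T ⧸ Ideal.span (Set.range fun j => algebraMap T₀ T (g j))) := by
  let e : (Fin 1 → T) ≃ₗ[T] T := LinearEquiv.funUnique (Fin 1) T T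
  have hmap : (KT (fun j (_ : Fin 1) => g j) T).map (e : (Fin 1 → T) →ₗ[T] T) =
      Ideal.span (Set.range fun j => algebraMap T₀ T (g j)) := by
    rw [KT, WT, Fintype.range_linearCombination, Submodule.map_span, ← Set.range_comp]
    rfl
  exact ⟨Submodule.Quotient.equiv _ _ e hmap⟩

theorem nonempty_modelEquiv' {T₀ : Type*} [CommRing T₀] {c : ℕ} (g : Fin c → T₀) (T : Type*)
    [CommRing T] [Algebra T₀ T] (G : Fin c → T) (hG : ∀ j, algebraMap T₀ T (g j) = G j) :
    Nonempty (((Fin 1 → T) ⧸ KT (fun j (_ : Fin 1) => g j) T) ≃ₗ[T]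
      T ⧸ Ideal.span (Set.range G)) := by
  have h : (fun j => algebraMap T₀ T (g j)) = G := funext hG
  rw [← h]
  exact nonempty_modelEquiv g T

end Model

section LocQuot

variable {A₀ P : Type u} [CommRing A₀] [CommRing P] [Algebra A₀ P] (I Q : Ideal P) [Q.IsPrime]

/-- flatness of the quotient of the localization gives flatness of the localization of the
quotient module -/
theorem flat_localizedModule_quotient
    (h : Module.Flat A₀ (Localization.AtPrime Q ⧸ I.map (algebraMap P (Localization.AtPrime Q)))) :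
    Module.Flat A₀ (LocalizedModule Q.primeCompl (P ⧸ I)) := by
  let B := Localization.AtPrime Q
  let f : P ⧸ I →ₗ[P] B ⧸ Submodule.localized' B Q.primeCompl (Algebra.linearMap P B) I :=
    Submodule.toLocalizedQuotient' B Q.primeCompl (Algebra.linearMap P B) I
  have hf : IsLocalizedModule Q.primeCompl f := inferInstance
  let e₁ : LocalizedModule Q.primeCompl (P ⧸ I) ≃ₗ[P]
      B ⧸ Submodule.localized' B Q.primeCompl (Algebra.linearMap P B) I :=
    IsLocalizedModule.iso Q.primeCompl f
  have heq : Submodule.localized' B Q.primeCompl (Algebra.linearMap P B) I =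
      I.map (algebraMap P B) := Ideal.localized'_eq_map B Q.primeCompl I
  let e₂ : (B ⧸ Submodule.localized' B Q.primeCompl (Algebra.linearMap P B) I) ≃ₗ[B]
      (B ⧸ I.map (algebraMap P B)) := Submodule.quotEquivOfEq _ _ heq
  have h1 : Module.Flat A₀ (B ⧸ Submodule.localized' B Q.primeCompl (Algebra.linearMap P B) I) :=
    Module.Flat.of_linearEquiv (e₂.restrictScalars A₀)
  exact Module.Flat.of_linearEquiv (e₁.restrictScalars A₀)

theorem flat_localizedModule_quotient_of_not_le (hIQ : ¬ I ≤ Q) :
    Module.Flat A₀ (LocalizedModule Q.primeCompl (P ⧸ I)) := by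
  obtain ⟨s, hsI, hsQ⟩ := Set.not_subset.mp hIQ
  have : Subsingleton (LocalizedModule Q.primeCompl (P ⧸ I)) := by
    refine ⟨fun a b => ?_⟩
    have hz : ∀ x : LocalizedModule Q.primeCompl (P ⧸ I), x = 0 := by
      intro x
      induction x using LocalizedModule.induction_on with
      | h m t =>
        rw [← LocalizedModule.zero_mk t, LocalizedModule.mk_eq]
        refine ⟨⟨s, hsQ⟩, ?_⟩
        obtain ⟨m', rfl⟩ := Ideal.Quotient.mk_surjective m
        simp only [smul_zero]
        change Ideal.Quotient.mk I (s * (t.1 * m')) = 0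
        exact Ideal.Quotient.eq_zero_iff_mem.mpr (I.mul_mem_right _ hsI)
    rw [hz a, hz b]
  infer_instance

end LocQuot

section Main

open Groth.Agent.Lib.Helper3.FlatOpen Groth.Agent.Lib.Helper3.FlatDesc
  Groth.Agent.Lib.Helper4.FibDim

attribute [local instance] MvPolynomial.algebraMvPolynomial

variable (R : Type u) [CommRing R] (n c : ℕ) (F : Fin c → MvPolynomial (Fin n) R)

/-- the Noetherian local step at a prime of the polynomial ring over the subring -/
theorem flat_model_point (R₀ : Type u) [CommRing R₀] [IsNoetherianRing R₀] [Algebra R₀ R]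
    (F₀ : Fin c → MvPolynomial (Fin n) R₀)
    (hF₀ : ∀ j, MvPolynomial.map (algebraMap R₀ R) (F₀ j) = F j)
    (h : Synt.IsRelGCI R n c F) (Q : Ideal (MvPolynomial (Fin n) R)) [Q.IsPrime] :
    Module.Flat R₀ (LocalizedModule
      (Q.comap (algebraMap (MvPolynomial (Fin n) R₀) (MvPolynomial (Fin n) R))).primeCompl
      (MvPolynomial (Fin n) R₀ ⧸ Ideal.span (Set.range F₀))) := by
  by_cases hIQ : Ideal.span (Set.range F₀) ≤
      Q.comap (algebraMap (MvPolynomial (Fin n) R₀) (MvPolynomial (Fin n) R))
  · have hFQ : Ideal.span (Set.range F) ≤ Q := by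
      rw [Ideal.span_le]
      rintro _ ⟨j, rfl⟩
      rw [← hF₀ j]
      exact hIQ (Ideal.subset_span ⟨j, rfl⟩)
    -- the point of `Spec S`
    obtain ⟨x, hx⟩ : ∃ x : PrimeSpectrum (Synt.RelGCIRing R n c F),
        PrimeSpectrum.comap (Ideal.Quotient.mk (Ideal.span (Set.range F))) x = ⟨Q, inferInstance⟩ := by
      have : (⟨Q, inferInstance⟩ : PrimeSpectrum (MvPolynomial (Fin n) R)) ∈
          Set.range (PrimeSpectrum.comap (Ideal.Quotient.mk (Ideal.span (Set.range F)))) := by
        rw [_root_.range_comap_of_surjective _ _ Ideal.Quotient.mk_surjective, Ideal.mk_ker,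
          PrimeSpectrum.mem_zeroLocus]
        exact hFQ
      exact this
    have hJ : Ideal.span (Set.range F) = (Ideal.ofList (List.ofFn F₀)).map
        (algebraMap (MvPolynomial (Fin n) R₀) (MvPolynomial (Fin n) R)) := by
      rw [ofList_ofFn, Ideal.map_span, ← Set.range_comp]
      congr 2
      funext j
      exact (hF₀ j).symm
    obtain ⟨z, hz1, hz2⟩ := exists_fibLD_eq R₀ R n (Ideal.ofList (List.ofFn F₀))
      (Ideal.span (Set.range F)) hJ x
    have hdim := Groth.Agent.Lib.R2H4.GCIFibDim.fibreDimAt_relGCI R n c F h x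
    rw [hdim] at hz2
    -- `c ≤ n`
    have hcn : c ≤ n := by
      let p : PrimeSpectrum R := PrimeSpectrum.comap (algebraMap R (Synt.RelGCIRing R n c F)) x
      let y : PrimeSpectrum (p.asIdeal.Fiber (Synt.RelGCIRing R n c F)) :=
        PrimeSpectrum.preimageHomeomorphFiber R (Synt.RelGCIRing R n c F) p ⟨x, rfl⟩
      have hnt : Nontrivial (p.asIdeal.Fiber (Synt.RelGCIRing R n c F)) :=
        ⟨⟨0, 1, fun h0 => y.isPrime.ne_top ((Ideal.eq_top_iff_one _).mpr (h0 ▸ Ideal.zero_mem _))⟩⟩
      exact (h p hnt).1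
    obtain ⟨a, ha, -, hiff⟩ := Groth.Agent.Lib.R2H4.RegSeqOpen.key R₀ (MvPolynomial (Fin n) R₀) n
      (fun p => cm_fiber_poly R₀ n p) (fun p P hP => equidim_fiber_poly R₀ n p P hP)
      (List.ofFn F₀) z
    have ha' : a = n - c := by
      rw [hz2] at ha
      exact_mod_cast ha.symm
    have hreg := hiff.mpr (by rw [List.length_ofFn]; omega)
    have hflat := flat_quotient_localization n c F₀
      (PrimeSpectrum.comap (Ideal.Quotient.mk (Ideal.ofList (List.ofFn F₀))) z).asIdeal hreg
    have h2 := flat_localizedModule_quotient (A₀ := R₀) (Ideal.span (Set.range F₀))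
      (PrimeSpectrum.comap (Ideal.Quotient.mk (Ideal.ofList (List.ofFn F₀))) z).asIdeal hflat
    have aux : ∀ (Q₁ : Ideal (MvPolynomial (Fin n) R₀)) [Q₁.IsPrime],
        Q₁ = (PrimeSpectrum.comap (Ideal.Quotient.mk (Ideal.ofList (List.ofFn F₀))) z).asIdeal →
        Module.Flat R₀ (LocalizedModule Q₁.primeCompl
          (MvPolynomial (Fin n) R₀ ⧸ Ideal.span (Set.range F₀))) := by
      intro Q₁ _ hQ₁
      subst hQ₁
      exact h2
    apply aux
    rw [hz1, hx]
  · exact flat_localizedModule_quotient_of_not_le _ _ hIQ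

/-- **A relative global complete intersection is flat.** -/
theorem flat_relGCI (h : Synt.IsRelGCI R n c F) : Module.Flat R (Synt.RelGCIRing R n c F) := by
  classical
  let cs : Finset R := Finset.univ.biUnion fun j => (F j).coeffs
  let Λ : Subalgebra ℤ R := Algebra.adjoin ℤ (cs : Set R)
  haveI : Algebra.FiniteType ℤ Λ :=
    (Subalgebra.fg_iff_finiteType Λ).mp (Subalgebra.fg_adjoin_finset cs)
  haveI : IsNoetherianRing Λ := Algebra.FiniteType.isNoetherianRing ℤ Λ
  have hw : ∀ j, ∃ f : MvPolynomial (Fin n) Λ, MvPolynomial.map (algebraMap Λ R) f = F j := by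
    intro j
    apply MvPolynomial.mem_range_map_iff_coeffs_subset.mpr
    intro a ha
    refine ⟨⟨a, Algebra.subset_adjoin ?_⟩, rfl⟩
    exact Finset.mem_biUnion.mpr ⟨j, Finset.mem_univ j, ha⟩
  choose F₀ hF₀ using hw
  let w : Fin c → Fin 1 → MvPolynomial (Fin n) Λ := fun j _ => F₀ j
  have hmodel : Module.Flat R
      ((Fin 1 → MvPolynomial (Fin n) R) ⧸ KT w (MvPolynomial (Fin n) R)) := by
    refine (flat_model_iff_forall_prime w).mpr fun Q => ?_
    apply flat_model_of_algebra w (A := Λ) (R := R) Q.asIdeal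
    obtain ⟨e₀⟩ := @nonempty_modelEquiv' (MvPolynomial (Fin n) Λ) _ c F₀ (MvPolynomial (Fin n) Λ) _
      (MvPolynomial.algebraMvPolynomial (R := Λ) (S := Λ) (σ := Fin n)) F₀
      (fun j => by rw [MvPolynomial.algebraMap_def]; exact MvPolynomial.map_id (F₀ j))
    refine flat_localizedModule_of_linearEquiv e₀.symm _ ?_
    exact flat_model_point R n c F Λ F₀ hF₀ h Q.asIdeal
  obtain ⟨e⟩ := nonempty_modelEquiv' F₀ (MvPolynomial (Fin n) R) F
    (fun j => by rw [MvPolynomial.algebraMap_def]; exact hF₀ j)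
  exact Module.Flat.of_linearEquiv (e.symm.restrictScalars R)

/-- The fibre rings of a relative global complete intersection are global complete
intersections. -/
theorem isGlobalCI_fiber (h : Synt.IsRelGCI R n c F) (p : PrimeSpectrum R) :
    Synt.IsGlobalCI p.asIdeal.ResidueField (p.asIdeal.Fiber (Synt.RelGCIRing R n c F)) := by
  by_cases hS : Subsingleton (p.asIdeal.Fiber (Synt.RelGCIRing R n c F))
  · exact Or.inl hS
  rw [not_subsingleton_iff_nontrivial] at hS
  obtain ⟨hcn, hdim⟩ := h p hS
  let P0 : Algebra.Presentation R (Synt.RelGCIRing R n c F) (Fin n) (Fin c) :=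
    Algebra.Presentation.naive (v := F)
  let P1 := P0.baseChange p.asIdeal.ResidueField
  obtain ⟨φ, r, hφ, hker⟩ :=
    Groth.Agent.Lib.R2H4.GCILoc.exists_of_presentation p.asIdeal.ResidueField n c _ P1
  exact Or.inr ⟨n, c, hcn, φ, r, hφ, hker, hdim⟩

/-- **A relative global complete intersection is syntomic.** -/
theorem isSyntomic_relGCI (h : Synt.IsRelGCI R n c F) :
    Synt.IsSyntomic R (Synt.RelGCIRing R n c F) := by
  refine ⟨flat_relGCI R n c F h, ?_, fun p => ⟨?_, fun y => ⟨1, ?_, ?_⟩⟩⟩
  · exact (Algebra.Presentation.naive (v := F)).finitePresentation_of_isFinite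
  · haveI : Algebra.FinitePresentation R (Synt.RelGCIRing R n c F) :=
      (Algebra.Presentation.naive (v := F)).finitePresentation_of_isFinite
    infer_instance
  · exact fun h1 => y.isPrime.ne_top ((Ideal.eq_top_iff_one _).mpr h1)
  · exact Groth.Agent.Lib.R2H4.GCILoc.isGlobalCI_away p.asIdeal.ResidueField
      (p.asIdeal.Fiber (Synt.RelGCIRing R n c F)) 1 _ (isGlobalCI_fiber R n c F h p)

end Main

end Groth.Agent.Lib.R2H4.RelGCIFlat
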