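import Mathlib
import Groth.Prelude.Def_RegImm
import Groth.Agent.Lib.H6xCIE
import Groth.Agent.Lib.Helper28FGDim
import Groth.Agent.Lib.R2H4GCILoc
import Groth.Agent.Lib.R2H4RelGCIFlat

set_option autoImplicit false
universe u
open scoped TensorProduct

namespace Groth.Agent.Lib.R2H4.CIField


open IsLocalRing RingTheory.Sequence Groth.Agent.Lib.Helper28

/-- dimension of a Noetherian local ring is a natural number -/
theorem natdim (S : Type u) [CommRing S] [IsNoetherianRing S] [IsLocalRing S] :
    ∃ n : ℕ, ringKrullDim S = n := by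
  have hfin : ringKrullDim S ≠ ⊤ := ringKrullDim_ne_top
  have hbot : ringKrullDim S ≠ ⊥ := ringKrullDim_ne_bot
  obtain ⟨x, hx⟩ := WithBot.ne_bot_iff_exists.mp hbot
  rw [← hx] at hfin ⊢
  have hx' : x ≠ ⊤ := fun h => hfin (by rw [h]; rfl)
  obtain ⟨n, hn⟩ := ENat.ne_top_iff_exists.mp hx'
  exact ⟨n, by rw [← hn]; rfl⟩

theorem arith_aux (a b n m : ℕ) (x : WithBot ℕ∞)
    (h1 : (a : WithBot ℕ∞) + x = (n : WithBot ℕ∞)) (h2 : (b : WithBot ℕ∞) + x = (m : WithBot ℕ∞)) :
    a + m = b + n := by
  have hcast : ∀ t : ℕ, ((t : ℕ) : WithBot ℕ∞) = (((t : ℕ) : ℕ∞) : WithBot ℕ∞) := fun _ => rfl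
  rw [hcast] at h1 h2
  rw [hcast n] at h1
  rw [hcast m] at h2
  induction x using WithBot.recBotCoe with
  | bot => simp at h1
  | coe x =>
    rw [← WithBot.coe_add, WithBot.coe_inj] at h1 h2
    induction x using ENat.recTopCoe with
    | top => simp at h1
    | coe x =>
      have h1' : a + x = n := by exact_mod_cast h1
      have h2' : b + x = m := by exact_mod_cast h2
      omega

section Ker

variable {P S : Type u} [CommRing P] [CommRing S]

/-- kernel of the induced map on localizations -/
theorem ker_localRingHom (φ : P →+* S) (hφ : Function.Surjective φ) (q : Ideal S) [q.IsPrime] :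
    RingHom.ker (Localization.localRingHom (q.comap φ) q φ rfl) =
      (RingHom.ker φ).map (algebraMap P (Localization.AtPrime (q.comap φ))) := by
  apply le_antisymm
  · intro y hy
    obtain ⟨x, s, rfl⟩ := IsLocalization.exists_mk'_eq (q.comap φ).primeCompl y
    rw [RingHom.mem_ker, Localization.localRingHom_mk', IsLocalization.mk'_eq_zero_iff] at hy
    obtain ⟨⟨t, ht⟩, htx⟩ := hy
    obtain ⟨t', rfl⟩ := hφ t
    rw [IsLocalization.mk'_mem_map_algebraMap_iff]
    refine ⟨t', ht, ?_⟩
    rw [RingHom.mem_ker, map_mul]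
    exact htx
  · rw [Ideal.map_le_iff_le_comap]
    intro x hx
    rw [Ideal.mem_comap, RingHom.mem_ker, Localization.localRingHom_to_map,
      (RingHom.mem_ker).mp hx, map_zero]

end Ker



open IsLocalRing RingTheory.Sequence Groth.Agent.Lib.Helper28

section Equiv

variable (k : Type u) [Field k] (S : Type u) [CommRing S] [IsLocalRing S] [Algebra k S]

/-- (1) ⇒ (2): the kernel of any surjection from a regular local ring is generated by a regular
sequence. -/
theorem ker_regular_of_isCIOver (hS : Synt.IsCIOver k S)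
    (R : Type u) [CommRing R] [IsRegularLocalRing R] (π : R →+* S) (hπ : Function.Surjective π) :
    ∃ rs : List R, IsRegular R rs ∧ RingHom.ker π = Ideal.ofList rs := by
  obtain ⟨R₀, _, _, _, -, rs₀, -, hreg, ⟨e⟩⟩ := hS
  let φ' : R₀ →+* S := (e.symm : R₀ ⧸ Ideal.ofList rs₀ →+* S).comp (Ideal.Quotient.mk _)
  have hφ' : Function.Surjective φ' := e.symm.surjective.comp Ideal.Quotient.mk_surjective
  have hker' : RingHom.ker φ' = Ideal.ofList rs₀ := by
    ext b
    rw [RingHom.mem_ker]
    show e.symm (Ideal.Quotient.mk _ b) = 0 ↔ _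
    rw [map_eq_zero_iff _ e.symm.injective, Ideal.Quotient.eq_zero_iff_mem]
  haveI : IsNoetherianRing S := isNoetherianRing_of_surjective R S π hπ
  obtain ⟨e', he'⟩ := natdim R₀
  obtain ⟨e₁, he₁⟩ := natdim R
  obtain ⟨d, hd⟩ := natdim S
  have hinv := Groth.Agent.Lib.H6xCI.invariance π hπ φ' hφ' e₁ e' he₁ he'
  have heq := Groth.Agent.Lib.H6xCI.dim_eq_of_isRegular φ' hφ' d e' hd he' rs₀ hker'.symm hreg
  obtain ⟨rs, h1, h2⟩ :=
    Groth.Agent.Lib.H6xCI.exists_isRegular_of_dim_eq π hπ d e₁ hd he₁ (by omega)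
  exact ⟨rs, h2, h1.symm⟩

/-- (3) ⇒ (1) -/
theorem isCIOver_of_gens (R : Type u) [CommRing R] [IsRegularLocalRing R] [Algebra k R]
    [Algebra.EssFiniteType k R] (π : R →ₐ[k] S) (hπ : Function.Surjective π) (rs : List R)
    (hker : RingHom.ker π.toRingHom = Ideal.ofList rs)
    (hdim : ringKrullDim R = ringKrullDim S + (rs.length : WithBot ℕ∞)) : Synt.IsCIOver k S := by
  classical
  haveI : IsNoetherianRing S := isNoetherianRing_of_surjective R S π.toRingHom hπ
  obtain ⟨e₁, he₁⟩ := natdim R
  obtain ⟨d, hd⟩ := natdim S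
  have hle := Groth.Agent.Lib.H6xCI.dim_le π.toRingHom hπ d e₁ hd he₁
  have h2 : (RingHom.ker π.toRingHom).spanFinrank ≤ rs.length := by
    rw [hker]
    have : (Ideal.ofList rs) = Ideal.span ((rs.toFinset : Finset R) : Set R) := by
      unfold Ideal.ofList
      congr 1
      ext a
      simp
    rw [this]
    exact (Submodule.spanFinrank_span_le_ncard_of_finite (Finset.finite_toSet _)).trans
      (by rw [Set.ncard_coe_finset]; exact List.toFinset_card_le rs)
  have h3 : e₁ = d + rs.length := by
    rw [he₁, hd] at hdim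
    exact_mod_cast hdim
  obtain ⟨rs', h1, hreg⟩ :=
    Groth.Agent.Lib.H6xCI.exists_isRegular_of_dim_eq π.toRingHom hπ d e₁ hd he₁ (by omega)
  have hmem : ∀ r ∈ rs', r ∈ maximalIdeal R := by
    intro r hr
    have : r ∈ RingHom.ker π.toRingHom := by
      rw [← h1]
      exact Ideal.subset_span hr
    exact Groth.Agent.Lib.H6xCI.ker_le_maximalIdeal π.toRingHom this
  refine ⟨R, inferInstance, inferInstance, inferInstance, inferInstance, rs', hmem, hreg, ⟨?_⟩⟩
  exact (Ideal.quotientKerAlgEquivOfSurjective hπ).symm.trans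
    (Ideal.quotientEquivAlgOfEq k h1.symm)

end Equiv



open IsLocalRing RingTheory.Sequence Groth.Agent.Lib.Helper28

section Pres

variable (k : Type u) [Field k] (S : Type u) [CommRing S] [IsLocalRing S] [Algebra k S]

/-- A local algebra essentially of finite type over a field is a quotient of a localization of a
polynomial ring at a prime. -/
theorem exists_pres [Algebra.EssFiniteType k S] :
    ∃ (n : ℕ) (Q : Ideal (MvPolynomial (Fin n) k)) (_ : Q.IsPrime)
      (π : Localization.AtPrime Q →ₐ[k] S), Function.Surjective π := by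
  classical
  obtain ⟨σ, hσ⟩ := (Algebra.essFiniteType_iff (R := k) (S := S)).mp inferInstance
  let v : Fin σ.card → S := fun i => (σ.equivFin.symm i : S)
  let ψ : MvPolynomial (Fin σ.card) k →ₐ[k] S := MvPolynomial.aeval v
  have hrange : ψ.range = Algebra.adjoin k (σ : Set S) := by
    rw [show ψ = MvPolynomial.aeval v from rfl, ← Algebra.adjoin_range_eq_range_aeval]
    congr 1
    ext a
    constructor
    · rintro ⟨i, rfl⟩
      exact (σ.equivFin.symm i).2
    · intro ha
      exact ⟨σ.equivFin ⟨a, ha⟩, by simp [v]⟩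
  let Q : Ideal (MvPolynomial (Fin σ.card) k) := (maximalIdeal S).comap ψ.toRingHom
  haveI hQ : Q.IsPrime := Ideal.comap_isPrime _ _
  have hunits : ∀ y : Q.primeCompl, IsUnit (ψ y) := by
    rintro ⟨y, hy⟩
    by_contra hnu
    exact hy ((IsLocalRing.mem_maximalIdeal _).mpr hnu)
  let π : Localization.AtPrime Q →ₐ[k] S := IsLocalization.liftAlgHom (M := Q.primeCompl)
    (f := ψ) hunits
  refine ⟨σ.card, Q, hQ, π, ?_⟩
  intro s
  obtain ⟨t, ht, htu, hst⟩ := hσ s
  rw [← hrange] at ht hst
  obtain ⟨t', rfl⟩ := ht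
  obtain ⟨a, ha⟩ := hst
  have ht'Q : t' ∈ Q.primeCompl := by
    intro hmem
    exact (IsLocalRing.mem_maximalIdeal _).mp hmem htu
  refine ⟨IsLocalization.mk' _ a ⟨t', ht'Q⟩, ?_⟩
  have h1 : π (IsLocalization.mk' (Localization.AtPrime Q) a ⟨t', ht'Q⟩) * ψ t' = ψ a := by
    have h2 : π (algebraMap _ _ t') = ψ t' := by
      rw [IsLocalization.liftAlgHom_apply]
      exact IsLocalization.lift_eq _ _
    have h3 : π (algebraMap _ _ a) = ψ a := by
      rw [IsLocalization.liftAlgHom_apply]
      exact IsLocalization.lift_eq _ _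
    rw [← h2, ← map_mul, ← h3]
    congr 1
    exact IsLocalization.mk'_spec _ a ⟨t', ht'Q⟩
  have h4 : ψ a = s * ψ t' := ha
  rw [h4] at h1
  exact htu.mul_left_injective h1

end Pres



open IsLocalRing RingTheory.Sequence Groth.Agent.Lib.Helper28

section L1

variable (k : Type u) [Field k]

/-- the local rings of a global complete intersection are complete intersections -/
theorem isCIOver_atPrime_of_gci (n c : ℕ) (hcn : c ≤ n) (A : Type u) [CommRing A] [Algebra k A]
    (φ : MvPolynomial (Fin n) k →ₐ[k] A) (hφ : Function.Surjective φ)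
    (r : Fin c → MvPolynomial (Fin n) k)
    (hker : RingHom.ker φ.toRingHom = Ideal.span (Set.range r))
    (hdim : ringKrullDim A = ((n - c : ℕ) : WithBot ℕ∞)) (a : Ideal A) [ha : a.IsPrime] :
    Synt.IsCIOver k (Localization.AtPrime a) := by
  classical
  have hFT : Algebra.FiniteType k A := Algebra.FiniteType.of_surjective φ hφ
  have hCMA : LocCoh.IsCohenMacaulayRing A :=
    isCohenMacaulayRing_of_isGlobalCI k A (Or.inr ⟨n, c, hcn, φ, r, hφ, hker, hdim⟩)
  have hk : LocCoh.IsCohenMacaulayRing k := isCohenMacaulayRing_of_field k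
  have hCMP : LocCoh.IsCohenMacaulayRing (MvPolynomial (Fin n) k) :=
    isCohenMacaulayRing_mvPolynomial_fin n
  set Q : Ideal (MvPolynomial (Fin n) k) := a.comap φ.toRingHom with hQdef
  haveI hQ : Q.IsPrime := Ideal.comap_isPrime _ _
  let π₀ : Localization.AtPrime Q →+* Localization.AtPrime a :=
    Localization.localRingHom Q a φ.toRingHom rfl
  let π : Localization.AtPrime Q →ₐ[k] Localization.AtPrime a :=
    { π₀ with
      commutes' := by
        intro x
        change π₀ (algebraMap k (Localization.AtPrime Q) x) = _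
        rw [IsScalarTower.algebraMap_apply k (MvPolynomial (Fin n) k) (Localization.AtPrime Q),
          Localization.localRingHom_to_map,
          IsScalarTower.algebraMap_apply k A (Localization.AtPrime a)]
        congr 1
        exact φ.commutes x }
  have hπ : Function.Surjective π :=
    RingHom.surjective_localRingHom_of_surjective φ.toRingHom hφ a
  have hkerπ : RingHom.ker π.toRingHom =
      Ideal.ofList ((List.ofFn r).map (algebraMap (MvPolynomial (Fin n) k) (Localization.AtPrime Q))) := by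
    change RingHom.ker π₀ = _
    rw [ker_localRingHom φ.toRingHom hφ a, hker, ← Ideal.map_ofList,
      Groth.Agent.Lib.R2H4.RelGCIFlat.ofList_ofFn]
  -- dimensions
  have hP := height_add_ringKrullDim_quotient_eq_of_forall_isMaximal_height_eq n
    (height_eq_of_isMaximal_mvPolynomial_fin k n) Q
  have heq := Groth.Agent.Lib.R2H4.GCILoc.equidim k n c hcn A φ hφ r hker hdim
  have hA := height_add_ringKrullDim_quotient_eq_of_forall_isMaximal_height_eq (n - c)
    (fun m hm => height_eq_of_isMaximal_of_equidim k A (n - c) heq m hm) a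
  have hψ : Function.Surjective ((Ideal.Quotient.mk a).comp φ.toRingHom) :=
    Ideal.Quotient.mk_surjective.comp hφ
  have hkerψ : RingHom.ker ((Ideal.Quotient.mk a).comp φ.toRingHom) = Q := by
    rw [← RingHom.comap_ker, Ideal.mk_ker]
  have hdimeq : ringKrullDim (MvPolynomial (Fin n) k ⧸ Q) = ringKrullDim (A ⧸ a) :=
    (ringKrullDim_eq_of_ringEquiv (Ideal.quotEquivOfEq hkerψ)).symm.trans
      (ringKrullDim_eq_of_ringEquiv (RingHom.quotientKerEquivOfSurjective hψ))
  obtain ⟨e₁, he₁⟩ := natdim (Localization.AtPrime Q)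
  obtain ⟨d, hd⟩ := natdim (Localization.AtPrime a)
  have hQh : ((Q.height : ℕ∞) : WithBot ℕ∞) = (e₁ : WithBot ℕ∞) := by
    rw [← he₁, IsLocalization.AtPrime.ringKrullDim_eq_height Q (Localization.AtPrime Q)]
  have hah : ((a.height : ℕ∞) : WithBot ℕ∞) = (d : WithBot ℕ∞) := by
    rw [← hd, IsLocalization.AtPrime.ringKrullDim_eq_height a (Localization.AtPrime a)]
  rw [hQh, hdimeq] at hP
  rw [hah] at hA
  have harith := arith_aux e₁ d n (n - c) _ hP hA
  refine isCIOver_of_gens k (Localization.AtPrime a) (Localization.AtPrime Q) π hπ _ hkerπ ?_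
  rw [he₁, hd, List.length_map, List.length_ofFn]
  have : e₁ = d + c := by omega
  rw [this]
  norm_cast

end L1

end Groth.Agent.Lib.R2H4.CIField
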