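import Mathlib
import Groth.Agent.S0386
import Groth.Agent.Lib.H9Slice
import Groth.Agent.Lib.Helper3FlatLocA
import Groth.Agent.Lib.Helper3FibCritA
import Groth.Agent.Lib.Helper3FibCritD
import Groth.Agent.Lib.Helper3FlatOpenFP

/-! Fibrewise nonzerodivisors on a flat lfp morphism cut out relative effective Cartier divisors (helper9): `flat_away_of_forall_prime`, `loc_transfer`, `flat_polynomial_of_regular`, `regular_and_flat_quot_of_flat_poly`, `flat_fibre_local`, `exists_flat_fiberMap_away`, `ring_main`, `ring_final`, `hreg_transport`, `away_transport`, `main` (= S1348). -/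

set_option autoImplicit false
set_option linter.style.haveILetI false
set_option linter.unusedSimpArgs false
set_option linter.unusedVariables false
universe u

namespace Groth.Agent.Lib.H9NzdFibre

-- ===== part NzdA =====
section

open TensorProduct

open Groth.Agent.Lib.Helper3.FlatLoc

/-- If `M` is flat over `R` at all primes of `S` not containing `c`, then `M[1/c]` is flat over `R`. -/
theorem flat_away_of_forall_prime {R S M : Type*} [CommRing R] [CommRing S] [Algebra R S]
    [AddCommGroup M] [Module R M] [Module S M] [IsScalarTower R S M] (c : S)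
    (h : ∀ r : Ideal S, ∀ _ : r.IsPrime, c ∉ r →
      Module.Flat R (LocalizedModule r.primeCompl M)) :
    Module.Flat R (LocalizedModule (Submonoid.powers c) M) := by
  rw [flat_localizedModule_iff']
  intro I z hz
  by_contra hcon
  push Not at hcon
  have hdisj : Disjoint ((Ideal.torsionOf S (M ⊗[R] I) z : Ideal S) : Set S)
      (Submonoid.powers c : Set S) := by
    rw [Set.disjoint_left]
    intro s hs hsc
    exact hcon s hsc ((Ideal.mem_torsionOf_iff _ _).mp hs)
  obtain ⟨Q, hQp, hQ, hQd⟩ := Ideal.exists_le_prime_disjoint _ _ hdisj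
  have hcQ : c ∉ Q := fun hc =>
    Set.disjoint_left.mp hQd hc (Submonoid.mem_powers c)
  have hflat := h Q hQp hcQ
  rw [flat_localizedModule_iff'] at hflat
  obtain ⟨t, ht, htz⟩ := hflat I z hz
  exact ht (hQ ((Ideal.mem_torsionOf_iff _ _).mpr htz))

/-- Flatness of any model of the localized module. -/
theorem flat_of_isLocalizedModule {R S M N : Type*} [CommRing R] [CommRing S] [Algebra R S]
    [AddCommGroup M] [Module R M] [Module S M] [IsScalarTower R S M]
    [AddCommGroup N] [Module R N] [Module S N] [IsScalarTower R S N]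
    (T : Submonoid S) (f : M →ₗ[S] N) [IsLocalizedModule T f]
    (h : Module.Flat R (LocalizedModule T M)) : Module.Flat R N :=
  Module.Flat.of_linearEquiv ((IsLocalizedModule.iso T f).restrictScalars R).symm

theorem flat_localizedModule_of_isLocalizedModule {R S M N : Type*} [CommRing R] [CommRing S]
    [Algebra R S]
    [AddCommGroup M] [Module R M] [Module S M] [IsScalarTower R S M]
    [AddCommGroup N] [Module R N] [Module S N] [IsScalarTower R S N]
    (T : Submonoid S) (f : M →ₗ[S] N) [IsLocalizedModule T f]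
    (h : Module.Flat R N) : Module.Flat R (LocalizedModule T M) :=
  Module.Flat.of_linearEquiv ((IsLocalizedModule.iso T f).restrictScalars R)

end

-- ===== part NzdB =====
section

open TensorProduct


/-- Flatness at a prime of a localization `C' = C[1/c]` versus flatness at its contraction. -/
theorem loc_transfer {R C C' : Type*} [CommRing R] [CommRing C] [CommRing C'] [Algebra R C]
    [Algebra C C'] [Algebra R C'] [IsScalarTower R C C'] (T : Submonoid C) [IsLocalization T C']
    (P' : Ideal C') [P'.IsPrime] :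
    Module.Flat R (LocalizedModule (P'.comap (algebraMap C C')).primeCompl C) ↔
      Module.Flat R (LocalizedModule P'.primeCompl C') := by
  let N := Localization.AtPrime P'
  haveI : IsScalarTower C C' N := inferInstance
  haveI : IsScalarTower R C' N := inferInstance
  haveI : IsScalarTower R C N := IsScalarTower.of_algebraMap_eq' (by
    rw [IsScalarTower.algebraMap_eq R C' N, IsScalarTower.algebraMap_eq C C' N,
      RingHom.comp_assoc, ← IsScalarTower.algebraMap_eq R C C'])
  haveI hN : IsLocalization.AtPrime N (P'.comap (algebraMap C C')) :=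
    IsLocalization.isLocalization_isLocalization_atPrime_isLocalization T N P'
  haveI h1 : IsLocalizedModule (P'.comap (algebraMap C C')).primeCompl (Algebra.linearMap C N) :=
    (isLocalizedModule_iff_isLocalization' _ _).mpr hN
  haveI h2 : IsLocalizedModule P'.primeCompl (Algebra.linearMap C' N) :=
    (isLocalizedModule_iff_isLocalization' _ _).mpr inferInstance
  constructor
  · intro h
    have hN : Module.Flat R N :=
      flat_of_isLocalizedModule (P'.comap (algebraMap C C')).primeCompl (Algebra.linearMap C N) h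
    exact flat_localizedModule_of_isLocalizedModule P'.primeCompl (Algebra.linearMap C' N) hN
  · intro h
    have hN : Module.Flat R N :=
      flat_of_isLocalizedModule P'.primeCompl (Algebra.linearMap C' N) h
    exact flat_localizedModule_of_isLocalizedModule (P'.comap (algebraMap C C')).primeCompl
      (Algebra.linearMap C N) hN

end

-- ===== part NzdC =====
section

open TensorProduct Polynomial

/-- A local algebra over a field in which `a` is a regular non-unit is flat over `κ[X]`
(`X ↦ a`). -/
theorem flat_polynomial_of_regular (κ L : Type*) [Field κ] [CommRing L] [Algebra κ L]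
    [IsLocalRing L] (a : L) (ha : a ∈ IsLocalRing.maximalIdeal L) (hreg : a ∈ nonZeroDivisors L) :
    letI := (Polynomial.aeval (R := κ) a).toRingHom.toAlgebra
    Module.Flat κ[X] L := by
  letI alg : Algebra κ[X] L := (Polynomial.aeval (R := κ) a).toRingHom.toAlgebra
  have halg : ∀ f : κ[X], algebraMap κ[X] L f = Polynomial.aeval a f := fun f => rfl
  show Module.Flat κ[X] L
  rw [Module.Flat.flat_iff_torsion_eq_bot_of_isBezout, Submodule.eq_bot_iff]
  intro x hx
  rw [Submodule.mem_torsion_iff] at hx
  obtain ⟨f, hfx⟩ := hx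
  have hf0 : (f : κ[X]) ≠ 0 := nonZeroDivisors.ne_zero f.2
  obtain ⟨q, hq, hndvd⟩ := Polynomial.exists_eq_pow_rootMultiplicity_mul_and_not_dvd (f : κ[X]) hf0 0
  set k := Polynomial.rootMultiplicity 0 (f : κ[X])
  have hq0 : q.eval 0 ≠ 0 := by
    intro h0
    exact hndvd (Polynomial.dvd_iff_isRoot.mpr h0)
  obtain ⟨w, hw⟩ := Polynomial.X_sub_C_dvd_sub_C_eval (a := (0 : κ)) (p := q)
  have hu : IsUnit (Polynomial.aeval a q) := by
    have h1 : Polynomial.aeval a q = algebraMap κ L (q.eval 0) + a * Polynomial.aeval a w := by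
      have := congrArg (Polynomial.aeval a) hw
      simp only [map_sub, map_mul, Polynomial.aeval_X, Polynomial.aeval_C, map_zero, sub_zero] at this
      rw [← this]; ring
    by_contra hnu
    have hmem : Polynomial.aeval a q ∈ IsLocalRing.maximalIdeal L := (IsLocalRing.mem_maximalIdeal _).mpr hnu
    have h2 : algebraMap κ L (q.eval 0) ∈ IsLocalRing.maximalIdeal L := by
      have : algebraMap κ L (q.eval 0) = Polynomial.aeval a q - a * Polynomial.aeval a w := by
        rw [h1]; ring
      rw [this]
      exact Ideal.sub_mem _ hmem (Ideal.mul_mem_right _ _ ha)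
    exact (IsLocalRing.mem_maximalIdeal _).mp h2 ((isUnit_iff_ne_zero.mpr hq0).map _)
  have hfa : Polynomial.aeval a (f : κ[X]) ∈ nonZeroDivisors L := by
    rw [hq]
    simp only [map_mul, map_pow, map_sub, Polynomial.aeval_X, Polynomial.aeval_C, map_zero, sub_zero]
    exact mul_mem (pow_mem hreg _) hu.mem_nonZeroDivisors
  have h3 : Polynomial.aeval a (f : κ[X]) * x = 0 := by
    have : (f : κ[X]) • x = 0 := hfx
    rwa [Algebra.smul_def, halg] at this
  exact (mul_left_mem_nonZeroDivisors_eq_zero_iff hfa).mp (by rwa [mul_comm] at h3)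

end

-- ===== part NzdD =====
section

open TensorProduct Polynomial

theorem flat_quot_of_flat {R S : Type*} [CommRing R] [CommRing S] [Algebra R S] [Module.Flat R S]
    (I : Ideal R) : Module.Flat (R ⧸ I) (S ⧸ I.map (algebraMap R S)) :=
  Module.Flat.of_linearEquiv (Algebra.TensorProduct.quotIdealMapEquivQuotTensor S I).toLinearEquiv

theorem flat_quot_X (A : Type*) [CommRing A] :
    Module.Flat A (A[X] ⧸ Ideal.span {(X : A[X])}) := by
  have hI : Ideal.span {(X : A[X])} = Ideal.span {X - C (0 : A)} := by simp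
  let e1 : (A[X] ⧸ Ideal.span {(X : A[X])}) ≃ₐ[A] (A[X] ⧸ Ideal.span {X - C (0 : A)}) :=
    Ideal.quotientEquivAlgOfEq A hI
  let e2 := Polynomial.quotientSpanXSubCAlgEquiv (0 : A)
  exact Module.Flat.of_linearEquiv (e1.trans e2).toLinearEquiv

/-- If `D` is flat over `A[X]`, then the image `d` of `X` is a nonzerodivisor and `D/(d)` is flat
over `A`. -/
theorem regular_and_flat_quot_of_flat_poly {A D : Type u} [CommRing A] [CommRing D] [Algebra A D]
    [Algebra A[X] D] [IsScalarTower A A[X] D] [Module.Flat A[X] D] :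
    algebraMap A[X] D X ∈ nonZeroDivisors D ∧
      Module.Flat A (D ⧸ Ideal.span {algebraMap A[X] D X}) := by
  refine ⟨?_, ?_⟩
  · have hX0 : (X : A[X]) ∈ nonZeroDivisors A[X] := Polynomial.X_mem_nonzeroDivisors
    have h1 : IsSMulRegular D (X : A[X]) :=
      Module.Flat.isSMulRegular_of_nonZeroDivisors hX0
    rw [mem_nonZeroDivisors_iff_right]
    intro y hy
    apply h1
    show (X : A[X]) • y = (X : A[X]) • (0 : D)
    rw [smul_zero, Algebra.smul_def, mul_comm, hy]
  · have hmap : (Ideal.span {(X : A[X])}).map (algebraMap A[X] D) =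
        Ideal.span {algebraMap A[X] D X} := by
      rw [Ideal.map_span, Set.image_singleton]
    haveI h2 : Module.Flat (A[X] ⧸ Ideal.span {(X : A[X])})
        (D ⧸ (Ideal.span {(X : A[X])}).map (algebraMap A[X] D)) := flat_quot_of_flat _
    haveI hQ : Module.Flat A (A[X] ⧸ Ideal.span {(X : A[X])}) := flat_quot_X A
    haveI : IsScalarTower A (A[X] ⧸ Ideal.span {(X : A[X])})
        (D ⧸ (Ideal.span {(X : A[X])}).map (algebraMap A[X] D)) := by
      refine IsScalarTower.of_algebraMap_eq' (R := A) (S := A[X] ⧸ Ideal.span {(X : A[X])})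
        (A := D ⧸ (Ideal.span {(X : A[X])}).map (algebraMap A[X] D)) ?_
      ext a
      show Ideal.Quotient.mk _ (algebraMap A D a) =
        algebraMap (A[X] ⧸ Ideal.span {(X : A[X])})
          (D ⧸ (Ideal.span {(X : A[X])}).map (algebraMap A[X] D))
          (Ideal.Quotient.mk _ (Polynomial.C a))
      rw [Ideal.Quotient.algebraMap_quotient_map_quotient, ← Polynomial.algebraMap_eq,
        ← IsScalarTower.algebraMap_apply]
    haveI h3 : Module.Flat A (D ⧸ (Ideal.span {(X : A[X])}).map (algebraMap A[X] D)) :=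
      Module.Flat.trans A (A[X] ⧸ Ideal.span {(X : A[X])}) _
    exact Module.Flat.of_linearEquiv (Ideal.quotientEquivAlgOfEq A hmap).symm.toLinearEquiv

end

-- ===== part NzdE =====
section

open TensorProduct Polynomial

open Groth.Agent.Lib.Helper3.FibCritA

variable {A C : Type u} [CommRing A] [CommRing C] [Algebra A C] [Algebra A[X] C]
  [IsScalarTower A A[X] C]

set_option maxHeartbeats 800000 in
/-- Step 1: the fibre map `κ(p)[X] → κ(p) ⊗ C` is flat at a prime where `X ↦ h` is regular. -/
theorem flat_fibre_local (p : Ideal A) [p.IsPrime] (P'' : Ideal (p.Fiber C)) [P''.IsPrime]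
    (hh : (1 : p.ResidueField) ⊗ₜ[A] (algebraMap A[X] C X) ∈ P'')
    (hreg : algebraMap (p.Fiber C) (Localization.AtPrime P'') (1 ⊗ₜ (algebraMap A[X] C X)) ∈
      nonZeroDivisors (Localization.AtPrime P'')) :
    letI := (fiberMap (B := A[X]) (C := C) p).toRingHom.toAlgebra
    Module.Flat (p.Fiber A[X]) (LocalizedModule P''.primeCompl (p.Fiber C)) := by
  letI algGF : Algebra (p.Fiber A[X]) (p.Fiber C) :=
    (fiberMap (B := A[X]) (C := C) p).toRingHom.toAlgebra
  show Module.Flat (p.Fiber A[X]) (LocalizedModule P''.primeCompl (p.Fiber C))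
  let κ := p.ResidueField
  let F := p.Fiber C
  let G := p.Fiber A[X]
  let Lf := Localization.AtPrime P''
  let a : Lf := algebraMap F Lf (1 ⊗ₜ (algebraMap A[X] C X))
  have ha : a ∈ IsLocalRing.maximalIdeal Lf := by
    rw [← Localization.AtPrime.map_eq_maximalIdeal]
    exact Ideal.mem_map_of_mem _ hh
  letI algκL : Algebra κ[X] Lf := (Polynomial.aeval (R := κ) a).toRingHom.toAlgebra
  have hflatκ : Module.Flat κ[X] Lf := flat_polynomial_of_regular κ Lf a ha hreg
  let e : κ[X] ≃ₐ[κ] G := polyEquivTensor' A κ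
  -- compatibility
  have hcomp : (algebraMap G Lf).comp e.toAlgHom.toRingHom = algebraMap κ[X] Lf := by
    apply Polynomial.ringHom_ext
    · intro k
      show algebraMap G Lf (e (Polynomial.C k)) = Polynomial.aeval a (Polynomial.C k)
      rw [Polynomial.aeval_C]
      have h1 : e (Polynomial.C k) = algebraMap κ G k := by
        rw [← Polynomial.algebraMap_eq]
        exact e.commutes k
      rw [h1, ← IsScalarTower.algebraMap_apply]
    · show algebraMap G Lf (e Polynomial.X) = Polynomial.aeval a Polynomial.X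
      rw [Polynomial.aeval_X]
      have h1 : e Polynomial.X = (1 : κ) ⊗ₜ[A] (Polynomial.X : A[X]) := by
        show polyEquivTensor A κ Polynomial.X = _
        rw [polyEquivTensor_apply, Polynomial.eval₂_X]
      rw [h1, IsScalarTower.algebraMap_apply G F Lf]
      show algebraMap F Lf (fiberMap (B := A[X]) (C := C) p (1 ⊗ₜ Polynomial.X)) = a
      rw [fiberMap_one_tmul]
  letI algGκ : Algebra G κ[X] := e.symm.toAlgHom.toRingHom.toAlgebra
  haveI tower : IsScalarTower G κ[X] Lf := IsScalarTower.of_algebraMap_eq' (by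
    rw [← hcomp]
    refine RingHom.ext fun g => ?_
    show algebraMap G Lf g = algebraMap G Lf (e (e.symm g))
    rw [AlgEquiv.apply_symm_apply])
  haveI hflatG : Module.Flat G κ[X] := by
    have hbij : Function.Bijective (Algebra.linearMap G κ[X]) := e.symm.bijective
    exact Module.Flat.of_linearEquiv (LinearEquiv.ofBijective (Algebra.linearMap G κ[X]) hbij).symm
  haveI hflatGL : Module.Flat G Lf := Module.Flat.trans G κ[X] Lf
  haveI : IsLocalizedModule P''.primeCompl (Algebra.linearMap F Lf) :=
    (isLocalizedModule_iff_isLocalization' _ _).mpr inferInstance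
  exact flat_localizedModule_of_isLocalizedModule P''.primeCompl (Algebra.linearMap F Lf) hflatGL

end

-- ===== part NzdF =====
section

open TensorProduct Polynomial

open Groth.Agent.Lib.Helper3.FibCritA Groth.Agent.Lib.Helper3.FlatOpen

variable {A C : Type u} [CommRing A] [CommRing C] [Algebra A C] [Algebra A[X] C]
  [IsScalarTower A A[X] C]

theorem isUnit_algebraMap_fiber (p : Ideal A) [p.IsPrime] {r : A} (hr : r ∉ p) :
    IsUnit (algebraMap A (p.Fiber C) r) := by
  have h1 : algebraMap A (p.Fiber C) r = algebraMap p.ResidueField (p.Fiber C)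
      (algebraMap A p.ResidueField r) := by
    rw [← IsScalarTower.algebraMap_apply]
  rw [h1]
  apply IsUnit.map
  rw [isUnit_iff_ne_zero, Ne, Ideal.algebraMap_residueField_eq_zero]
  exact hr

set_option maxHeartbeats 1600000 in
/-- Step 2: after localizing at a suitable `c`, the whole fibre map becomes flat. -/
theorem exists_flat_fiberMap_away [Algebra.FinitePresentation A C] (p : Ideal A) [p.IsPrime]
    (P'' : Ideal (p.Fiber C)) [P''.IsPrime]
    (hloc : letI := (fiberMap (B := A[X]) (C := C) p).toRingHom.toAlgebra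
      Module.Flat (p.Fiber A[X]) (LocalizedModule P''.primeCompl (p.Fiber C))) :
    ∃ c : C, (1 : p.ResidueField) ⊗ₜ[A] c ∉ P'' ∧
      (fiberMap (B := A[X]) (C := Localization.Away c) p).toRingHom.Flat := by
  let κ := p.ResidueField
  let F := p.Fiber C
  let G := p.Fiber A[X]
  let fm := fiberMap (B := A[X]) (C := C) p
  letI algGF : Algebra G F := fm.toRingHom.toAlgebra
  haveI : IsScalarTower κ G F := IsScalarTower.of_algebraMap_eq' fm.comp_algebraMap.symm
  haveI : IsNoetherianRing G :=
    isNoetherianRing_of_ringEquiv κ[X] (polyEquivTensor' A κ).toRingEquiv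
  haveI : Algebra.FiniteType κ F := inferInstance
  haveI : Algebra.FiniteType G F := Algebra.FiniteType.of_restrictScalars_finiteType κ G F
  haveI : Algebra.FinitePresentation G F := Algebra.FinitePresentation.of_finiteType.mp inferInstance
  have hopen := isOpen_flatLocus_of_finitePresentation (R := G) (S := F) (M := F)
  have hmem : (⟨P'', inferInstance⟩ : PrimeSpectrum F) ∈
      {q : PrimeSpectrum F | Module.Flat G (LocalizedModule q.asIdeal.primeCompl F)} := hloc
  obtain ⟨_, ⟨s, rfl⟩, hsP, hsub⟩ :=
    PrimeSpectrum.isTopologicalBasis_basic_opens.exists_subset_of_mem_open hmem hopen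
  have hsP' : s ∉ P'' := hsP
  obtain ⟨r, hr, c, hrc⟩ := Ideal.Fiber.exists_smul_eq_one_tmul p s
  have hunit : IsUnit (algebraMap A F r) := isUnit_algebraMap_fiber p hr
  have hrc' : algebraMap A F r * s = 1 ⊗ₜ c := by rw [← Algebra.smul_def]; exact hrc
  have hcQ : ∀ Q : Ideal F, Q.IsPrime → ((1 : κ) ⊗ₜ[A] c ∈ Q ↔ s ∈ Q) := by
    intro Q hQ
    rw [← hrc']
    constructor
    · intro h
      rcases hQ.mem_or_mem h with h1 | h1
      · exact absurd (Q.eq_top_of_isUnit_mem h1 hunit) hQ.ne_top
      · exact h1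
    · intro h
      exact Q.mul_mem_left _ h
  refine ⟨c, fun hc => hsP' ((hcQ P'' inferInstance).mp hc), ?_⟩
  -- flatness away from `1 ⊗ c`
  have hflat1 : Module.Flat G (LocalizedModule (Submonoid.powers ((1 : κ) ⊗ₜ[A] c)) F) := by
    apply flat_away_of_forall_prime
    intro Q hQ hcnot
    have hsQ : s ∉ Q := fun h => hcnot ((hcQ Q hQ).mpr h)
    exact hsub (show (⟨Q, hQ⟩ : PrimeSpectrum F) ∈ (PrimeSpectrum.basicOpen s : Set _) from hsQ)
  -- the localized fibre
  let C' := Localization.Away c
  let F' := p.Fiber C'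
  let φ := fiberMap (B := C) (C := C') p
  letI algFF' : Algebra F F' := φ.toRingHom.toAlgebra
  haveI : IsScalarTower κ F F' := IsScalarTower.of_algebraMap_eq' φ.comp_algebraMap.symm
  have H : (algebraMap F F').comp
      (Algebra.TensorProduct.includeRight : C →ₐ[A] κ ⊗[A] C).toRingHom =
      (Algebra.TensorProduct.includeRight : C' →ₐ[A] κ ⊗[A] C').toRingHom.comp
        (algebraMap C C') := by
    refine RingHom.ext fun x => ?_
    show φ (1 ⊗ₜ x) = 1 ⊗ₜ algebraMap C C' x
    rw [fiberMap_one_tmul]
  have hloc' := IsLocalization.tensorProduct_tensorProduct_right A κ (Submonoid.powers c) C' H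
  have hmap : (Submonoid.powers c).map
      (Algebra.TensorProduct.includeRight (R := A) (A := κ) : C →ₐ[A] κ ⊗[A] C) =
      Submonoid.powers ((1 : κ) ⊗ₜ[A] c) := by
    rw [Submonoid.map_powers]
    rfl
  rw [hmap] at hloc'
  haveI : IsLocalization (Submonoid.powers ((1 : κ) ⊗ₜ[A] c)) F' := hloc'
  haveI : IsLocalizedModule (Submonoid.powers ((1 : κ) ⊗ₜ[A] c)) (Algebra.linearMap F F') :=
    (isLocalizedModule_iff_isLocalization' _ _).mpr inferInstance
  let fm' := fiberMap (B := A[X]) (C := C') p
  letI algGF' : Algebra G F' := fm'.toRingHom.toAlgebra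
  haveI : IsScalarTower G F F' := IsScalarTower.of_algebraMap_eq' (by
    show fm'.toRingHom = φ.toRingHom.comp fm.toRingHom
    have : fm' = φ.comp fm := by
      apply Algebra.TensorProduct.ext'
      intro k b
      show fm' (k ⊗ₜ b) = φ (fm (k ⊗ₜ b))
      simp only [fm', fm, φ, fiberMap, Algebra.TensorProduct.map_tmul, AlgHom.coe_id, id_eq,
        IsScalarTower.coe_toAlgHom']
      rw [← IsScalarTower.algebraMap_apply]
    rw [this]
    rfl)
  have hflat2 : Module.Flat G F' :=
    flat_of_isLocalizedModule (Submonoid.powers ((1 : κ) ⊗ₜ[A] c)) (Algebra.linearMap F F') hflat1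
  exact hflat2

end

-- ===== part NzdG =====
section

open TensorProduct Polynomial

open Groth.Agent.Lib.Helper3.FibCritA
  Groth.Agent.Lib.Helper3.FibCritD Groth.Agent.Lib.Helper3.FlatOpen

variable {A C : Type u} [CommRing A] [CommRing C] [Algebra A C] [Algebra A[X] C]
  [IsScalarTower A A[X] C]

set_option maxHeartbeats 1600000 in
theorem ring_main [Algebra.FinitePresentation A C] (p : Ideal A) [p.IsPrime]
    (P'' : Ideal (p.Fiber C)) [P''.IsPrime]
    (hflat : Module.Flat A (LocalizedModule
      (P''.comap (Algebra.TensorProduct.includeRight : C →ₐ[A] p.Fiber C)).primeCompl C))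
    (hh : (1 : p.ResidueField) ⊗ₜ[A] (algebraMap A[X] C X) ∈ P'')
    (hreg : algebraMap (p.Fiber C) (Localization.AtPrime P'') (1 ⊗ₜ (algebraMap A[X] C X)) ∈
      nonZeroDivisors (Localization.AtPrime P'')) :
    ∃ c : C, (1 : p.ResidueField) ⊗ₜ[A] c ∉ P'' ∧ Module.Flat A[X] (Localization.Away c) := by
  obtain ⟨c, hc, hfl⟩ := exists_flat_fiberMap_away p P'' (flat_fibre_local p P'' hh hreg)
  let P : Ideal C := P''.comap (Algebra.TensorProduct.includeRight : C →ₐ[A] p.Fiber C)
  haveI hPprime : P.IsPrime := Ideal.comap_isPrime _ _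
  have hcP : c ∉ P := hc
  let C' := Localization.Away c
  have hdisj : Disjoint (Submonoid.powers c : Set C) (P : Set C) := by
    rw [Set.disjoint_left]
    rintro x ⟨n, rfl⟩ hx
    exact hcP (hPprime.mem_of_pow_mem n hx)
  let P' : Ideal C' := P.map (algebraMap C C')
  haveI hP'prime : P'.IsPrime :=
    IsLocalization.isPrime_of_isPrime_disjoint (Submonoid.powers c) C' P hPprime hdisj
  have hcomap : P'.comap (algebraMap C C') = P :=
    IsLocalization.comap_map_of_isPrime_disjoint (Submonoid.powers c) C' hPprime hdisj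
  have hPunder : P.under A = p := by
    have h0 : P''.LiesOver p := inferInstance
    rw [h0.over]
    ext a
    simp only [P, Ideal.mem_comap, Ideal.under]
    rw [← AlgHom.commutes (Algebra.TensorProduct.includeRight : C →ₐ[A] p.Fiber C)]
  have hP'under : P'.under A = p := by
    rw [← hPunder, ← hcomap]
    simp only [Ideal.under, Ideal.comap_comap]
    rw [← IsScalarTower.algebraMap_eq]
  have h1' : Module.Flat A (LocalizedModule P'.primeCompl C') :=
    (loc_transfer (R := A) (Submonoid.powers c) P').mp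
      (flat_localizedModule_congr_prime _ _ hcomap.symm hflat)
  have h3 : Module.Flat A[X] (LocalizedModule P'.primeCompl C') :=
    flat_of_fiberMap_flat p P' hP'under hfl h1'
  have h4 : Module.Flat A[X] (LocalizedModule P.primeCompl C) :=
    flat_localizedModule_congr_prime _ _ hcomap
      ((loc_transfer (R := A[X]) (Submonoid.powers c) P').mpr h3)
  haveI : Algebra.FinitePresentation A[X] C :=
    Algebra.FinitePresentation.of_restrict_scalars_finitePresentation A A[X] C
  have hopen := isOpen_flatLocus_of_finitePresentation (R := A[X]) (S := C) (M := C)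
  have hmem : (⟨P, hPprime⟩ : PrimeSpectrum C) ∈
      {q : PrimeSpectrum C | Module.Flat A[X] (LocalizedModule q.asIdeal.primeCompl C)} := h4
  obtain ⟨_, ⟨c₂, rfl⟩, hc₂P, hsub⟩ :=
    PrimeSpectrum.isTopologicalBasis_basic_opens.exists_subset_of_mem_open hmem hopen
  refine ⟨c₂, hc₂P, ?_⟩
  have hflat1 : Module.Flat A[X] (LocalizedModule (Submonoid.powers c₂) C) := by
    apply flat_away_of_forall_prime
    intro Q hQ hcnot
    exact hsub (show (⟨Q, hQ⟩ : PrimeSpectrum C) ∈ (PrimeSpectrum.basicOpen c₂ : Set _) from hcnot)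
  haveI : IsLocalizedModule (Submonoid.powers c₂) (Algebra.linearMap C (Localization.Away c₂)) :=
    (isLocalizedModule_iff_isLocalization' _ _).mpr inferInstance
  exact flat_of_isLocalizedModule (Submonoid.powers c₂)
    (Algebra.linearMap C (Localization.Away c₂)) hflat1

end

-- ===== part NzdH =====
section

open TensorProduct Polynomial

open Groth.Agent.Lib.Helper3.FibCritA

set_option maxHeartbeats 1600000 in
/-- Ring form: `A → C` finitely presented, flat at `P`, `h ∈ P` regular on `C_P / p C_P`.
Then on some principal localization `C_c`, `c ∉ P`, `h` is regular with `A`-flat quotient. -/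
theorem ring_final {A C : Type u} [CommRing A] [CommRing C] [Algebra A C]
    [Algebra.FinitePresentation A C] (p : Ideal A) [p.IsPrime] (P : Ideal C) [P.IsPrime]
    (hP : P.under A = p) (h : C) (hh : h ∈ P)
    (hflat : Module.Flat A (LocalizedModule P.primeCompl C))
    (hreg : Ideal.Quotient.mk (p.map (algebraMap A (Localization.AtPrime P)))
        (algebraMap C (Localization.AtPrime P) h) ∈
      nonZeroDivisors (Localization.AtPrime P ⧸ p.map (algebraMap A (Localization.AtPrime P)))) :
    ∃ c : C, c ∉ P ∧ algebraMap C (Localization.Away c) h ∈ nonZeroDivisors (Localization.Away c) ∧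
      Module.Flat A (Localization.Away c ⧸ Ideal.span {algebraMap C (Localization.Away c) h}) := by
  obtain ⟨P'', hP''prime, rfl⟩ : ∃ P'' : Ideal (p.Fiber C), ∃ _ : P''.IsPrime,
      P''.comap (Algebra.TensorProduct.includeRight : C →ₐ[A] p.Fiber C) = P := by
    let q := PrimeSpectrum.primesOverOrderIsoFiber A C p ⟨P, ⟨inferInstance, ⟨hP.symm⟩⟩⟩
    refine ⟨q.asIdeal, q.isPrime, ?_⟩
    have h := PrimeSpectrum.coe_primesOverOrderIsoFiber_symm_apply p q
    rw [← h]
    simp [q]
  letI algBC : Algebra A[X] C := (Polynomial.aeval (R := A) h).toRingHom.toAlgebra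
  haveI : IsScalarTower A A[X] C := IsScalarTower.of_algebraMap_eq' (by
    ext a
    show algebraMap A C a = Polynomial.aeval h (Polynomial.C a)
    rw [Polynomial.aeval_C])
  have hX : algebraMap A[X] C X = h := by
    show Polynomial.aeval h X = h
    rw [Polynomial.aeval_X]
  haveI : (P''.comap (Algebra.TensorProduct.includeRight : C →ₐ[A] p.Fiber C)).LiesOver p :=
    ⟨hP.symm⟩
  letI := Localization.AtPrime.algebraOfLiesOver p
    (P''.comap (Algebra.TensorProduct.includeRight : C →ₐ[A] p.Fiber C))
  let e₂ := Ideal.Fiber.localizationAlgEquivQuotient p P''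
  have he₂ := localizationAlgEquivQuotient_one_tmul p P'' h
  have hreg'' : algebraMap (p.Fiber C) (Localization.AtPrime P'') (1 ⊗ₜ (algebraMap A[X] C X)) ∈
      nonZeroDivisors (Localization.AtPrime P'') := by
    rw [hX]
    apply mem_nonZeroDivisors_of_injective (f := e₂.toRingEquiv.toRingHom) e₂.injective
    show e₂ _ ∈ _
    rw [he₂]
    exact hreg
  have hh'' : (1 : p.ResidueField) ⊗ₜ[A] (algebraMap A[X] C X) ∈ P'' := by
    rw [hX]; exact hh
  obtain ⟨c, hc, hfl⟩ := ring_main p P'' hflat hh'' hreg''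
  refine ⟨c, hc, ?_⟩
  haveI := hfl
  have key := regular_and_flat_quot_of_flat_poly (A := A) (D := Localization.Away c)
  have hXc : algebraMap A[X] (Localization.Away c) X = algebraMap C (Localization.Away c) h := by
    rw [IsScalarTower.algebraMap_apply A[X] C (Localization.Away c), hX]
  rw [hXc] at key
  exact key

end

-- ===== part NzdI =====
section

open TensorProduct Polynomial

/-- transport of the regularity hypothesis from the local rings to the localization of a chart -/
theorem hreg_transport (A B Os Ox : Type u) [CommRing A] [CommRing B] [CommRing Os] [CommRing Ox]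
    [Algebra A B] [Algebra A Os] [Algebra Os Ox] [Algebra B Ox] [Algebra A Ox]
    [IsScalarTower A B Ox] [IsScalarTower A Os Ox] (q : Ideal B) [q.IsPrime]
    [IsLocalization.AtPrime Ox q] (p : Ideal A) [p.IsPrime] [IsLocalRing Os]
    [IsLocalization.AtPrime Os p] (h₀ : B)
    (hreg : Ideal.Quotient.mk ((IsLocalRing.maximalIdeal Os).map (algebraMap Os Ox))
        (algebraMap B Ox h₀) ∈
      nonZeroDivisors (Ox ⧸ (IsLocalRing.maximalIdeal Os).map (algebraMap Os Ox))) :
    Ideal.Quotient.mk (p.map (algebraMap A (Localization.AtPrime q)))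
        (algebraMap B (Localization.AtPrime q) h₀) ∈
      nonZeroDivisors (Localization.AtPrime q ⧸ p.map (algebraMap A (Localization.AtPrime q))) := by
  let e : Localization.AtPrime q ≃ₐ[B] Ox := IsLocalization.algEquiv q.primeCompl _ _
  have hcomp : (e.toRingEquiv : Localization.AtPrime q →+* Ox).comp
      (algebraMap A (Localization.AtPrime q)) = algebraMap A Ox := by
    refine RingHom.ext fun a => ?_
    show e (algebraMap A (Localization.AtPrime q) a) = algebraMap A Ox a
    rw [IsScalarTower.algebraMap_apply A B (Localization.AtPrime q), e.commutes,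
      ← IsScalarTower.algebraMap_apply]
  have hJ : (IsLocalRing.maximalIdeal Os).map (algebraMap Os Ox) =
      (p.map (algebraMap A (Localization.AtPrime q))).map
        (e.toRingEquiv : Localization.AtPrime q →+* Ox) := by
    rw [Ideal.map_map, hcomp, ← IsLocalization.AtPrime.map_eq_maximalIdeal p Os, Ideal.map_map,
      ← IsScalarTower.algebraMap_eq]
  let ē := Ideal.quotientEquiv (p.map (algebraMap A (Localization.AtPrime q)))
    ((IsLocalRing.maximalIdeal Os).map (algebraMap Os Ox)) e.toRingEquiv hJ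
  apply mem_nonZeroDivisors_of_injective (f := ē.toRingHom) ē.injective
  have : ē.toRingHom (Ideal.Quotient.mk _ (algebraMap B (Localization.AtPrime q) h₀)) =
      Ideal.Quotient.mk _ (algebraMap B Ox h₀) := by
    show ē (Ideal.Quotient.mk _ (algebraMap B (Localization.AtPrime q) h₀)) = _
    rw [Ideal.quotientEquiv_mk]
    congr 1
    exact e.commutes h₀
  rw [this]
  exact hreg

/-- transport of the conclusion to any model of the localization `C[1/c]` -/
theorem away_transport {A C D : Type u} [CommRing A] [CommRing C] [CommRing D] [Algebra A C]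
    (c h : C) (ψ : C →+* D) (hloc : letI := ψ.toAlgebra; IsLocalization.Away c D)
    (h1 : algebraMap C (Localization.Away c) h ∈ nonZeroDivisors (Localization.Away c))
    (h2 : Module.Flat A (Localization.Away c ⧸
      Ideal.span {algebraMap C (Localization.Away c) h})) :
    ψ h ∈ nonZeroDivisors D ∧
      ((Ideal.Quotient.mk (Ideal.span {ψ h})).comp (ψ.comp (algebraMap A C))).Flat := by
  letI := ψ.toAlgebra
  haveI := hloc
  let e : Localization.Away c ≃ₐ[C] D := IsLocalization.algEquiv (Submonoid.powers c) _ _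
  have he : e (algebraMap C (Localization.Away c) h) = ψ h := e.commutes h
  refine ⟨?_, ?_⟩
  · apply mem_nonZeroDivisors_of_injective (f := e.symm.toRingEquiv.toRingHom) e.symm.injective
    show e.symm (ψ h) ∈ _
    rw [← he, e.symm_apply_apply]
    exact h1
  · have hJ : Ideal.span {ψ h} = (Ideal.span {algebraMap C (Localization.Away c) h}).map
        (e.toRingEquiv : Localization.Away c →+* D) := by
      rw [Ideal.map_span, Set.image_singleton]
      congr 2
      exact he.symm
    let ē := Ideal.quotientEquiv (Ideal.span {algebraMap C (Localization.Away c) h})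
      (Ideal.span {ψ h}) e.toRingEquiv hJ
    have hg : (algebraMap A (Localization.Away c ⧸
        Ideal.span {algebraMap C (Localization.Away c) h})).Flat :=
      RingHom.flat_algebraMap_iff.mpr h2
    have := RingHom.Flat.respectsIso.1 _ ē hg
    convert this using 1
    refine RingHom.ext fun a => ?_
    show Ideal.Quotient.mk _ (ψ (algebraMap A C a)) =
      ē (Ideal.Quotient.mk _ (algebraMap A (Localization.Away c) a))
    rw [Ideal.quotientEquiv_mk]
    congr 1
    rw [IsScalarTower.algebraMap_apply A C (Localization.Away c)]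
    exact (e.commutes _).symm

end

-- ===== part NzdJ =====
section

open TensorProduct AlgebraicGeometry CategoryTheory CategoryTheory.Limits

open Groth.Agent.Lib.H9Slice

variable {X S : Scheme.{u}}

set_option maxHeartbeats 1600000 in
theorem main (f : X ⟶ S) [LocallyOfFinitePresentation f] (x : X)
    (hflat : (f.stalkMap x).hom.Flat) (h : X.presheaf.stalk x)
    (hm : h ∈ IsLocalRing.maximalIdeal (X.presheaf.stalk x))
    (hreg : Ideal.Quotient.mk (Ideal.map (f.stalkMap x).hom
        (IsLocalRing.maximalIdeal (S.presheaf.stalk (f x)))) h ∈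
      nonZeroDivisors (X.presheaf.stalk x ⧸ Ideal.map (f.stalkMap x).hom
        (IsLocalRing.maximalIdeal (S.presheaf.stalk (f x))))) :
    ∃ (U : X.Opens) (hU : IsAffineOpen U) (hx : x ∈ U) (h' : Γ(X, U)),
      X.presheaf.germ U x hx h' = h ∧ h' ∈ nonZeroDivisors Γ(X, U) ∧
      Flat (Spec.map (CommRingCat.ofHom (Ideal.Quotient.mk (Ideal.span {h'}))) ≫
        hU.fromSpec ≫ f) ∧
      LocallyOfFinitePresentation (Spec.map (CommRingCat.ofHom
        (Ideal.Quotient.mk (Ideal.span {h'}))) ≫ hU.fromSpec ≫ f) := by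
  -- affine opens and a section representing `h`
  obtain ⟨V, hxV, s, hs⟩ := X.presheaf.exists_germ_eq h
  obtain ⟨_, ⟨S₀, hS₀, rfl⟩, hsS₀, -⟩ :=
    S.isBasis_affineOpens.exists_subset_of_mem_open (Set.mem_univ (f x)) isOpen_univ
  obtain ⟨_, ⟨X₀, hX₀, rfl⟩, hxX₀, hX₀'⟩ :=
    X.isBasis_affineOpens.exists_subset_of_mem_open
      (show x ∈ V ⊓ f ⁻¹ᵁ S₀ from ⟨hxV, hsS₀⟩) (V ⊓ f ⁻¹ᵁ S₀).2
  have hX₀le : X₀ ≤ V ⊓ f ⁻¹ᵁ S₀ := hX₀'
  have hXV : X₀ ≤ V := hX₀le.trans inf_le_left
  have hXS : X₀ ≤ f ⁻¹ᵁ S₀ := hX₀le.trans inf_le_right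
  set h₀ : Γ(X, X₀) := (X.presheaf.map (homOfLE hXV).op).hom s with hh₀
  have hgerm₀ : X.presheaf.germ X₀ x hxX₀ h₀ = h := by
    rw [hh₀]
    erw [X.presheaf.germ_res_apply (homOfLE hXV) x hxX₀ s]
    exact hs
  -- ring data
  letI algAC : Algebra Γ(S, S₀) Γ(X, X₀) := (f.appLE S₀ X₀ hXS).hom.toAlgebra
  have hfp : (f.appLE S₀ X₀ hXS).hom.FinitePresentation :=
    HasRingHomProperty.appLE (P := @LocallyOfFinitePresentation) f inferInstance ⟨S₀, hS₀⟩
      ⟨X₀, hX₀⟩ hXS
  haveI : Algebra.FinitePresentation Γ(S, S₀) Γ(X, X₀) := hfp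
  let P : Ideal Γ(X, X₀) := (hX₀.primeIdealOf ⟨x, hxX₀⟩).asIdeal
  let p : Ideal Γ(S, S₀) := (hS₀.primeIdealOf ⟨f x, hsS₀⟩).asIdeal
  have hP : P.under Γ(S, S₀) = p :=
    congr($(IsAffineOpen.comap_primeIdealOf_appLE S₀ hS₀ X₀ hX₀ hXS hxX₀).1)
  have hflat' : Module.Flat Γ(S, S₀) (LocalizedModule P.primeCompl Γ(X, X₀)) :=
    (Groth.Agent.S0386.flat_stalkMap_iff_localizedModule S₀ hS₀ X₀ hX₀ hXS hxX₀).mp hflat
  have hh₀P : h₀ ∈ P := by
    by_contra hcon
    have h1 : x ∈ X.basicOpen h₀ := (notMem_primeIdealOf_iff hX₀ x hxX₀ h₀).mp hcon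
    have h2 : IsUnit (X.presheaf.germ X₀ x hxX₀ h₀) := (X.mem_basicOpen h₀ x hxX₀).mp h1
    rw [hgerm₀] at h2
    exact (IsLocalRing.mem_maximalIdeal _).mp hm h2
  have hreg' : Ideal.Quotient.mk (p.map (algebraMap Γ(S, S₀) (Localization.AtPrime P)))
      (algebraMap Γ(X, X₀) (Localization.AtPrime P) h₀) ∈
      nonZeroDivisors (Localization.AtPrime P ⧸
        p.map (algebraMap Γ(S, S₀) (Localization.AtPrime P))) := by
    letI : Algebra Γ(S, S₀) (S.presheaf.stalk (f x)) :=
      (S.presheaf.germ S₀ (f x) hsS₀).hom.toAlgebra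
    letI : Algebra (S.presheaf.stalk (f x)) (X.presheaf.stalk x) := (f.stalkMap x).hom.toAlgebra
    letI : Algebra Γ(X, X₀) (X.presheaf.stalk x) := (X.presheaf.germ X₀ x hxX₀).hom.toAlgebra
    letI : Algebra Γ(S, S₀) (X.presheaf.stalk x) :=
      ((X.presheaf.germ X₀ x hxX₀).hom.comp (f.appLE S₀ X₀ hXS).hom).toAlgebra
    haveI : IsScalarTower Γ(S, S₀) Γ(X, X₀) (X.presheaf.stalk x) :=
      IsScalarTower.of_algebraMap_eq (fun _ => rfl)
    haveI : IsScalarTower Γ(S, S₀) (S.presheaf.stalk (f x)) (X.presheaf.stalk x) := by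
      refine IsScalarTower.of_algebraMap_eq (fun a => ?_)
      change (X.presheaf.germ X₀ x hxX₀).hom ((f.appLE S₀ X₀ hXS).hom a) =
        (f.stalkMap x).hom ((S.presheaf.germ S₀ (f x) hsS₀).hom a)
      erw [Scheme.Hom.germ_stalkMap_apply f S₀ x hsS₀ a]
      simp only [Scheme.Hom.appLE, CommRingCat.hom_comp, RingHom.comp_apply]
      exact (X.presheaf.germ_res_apply (homOfLE hXS) x hxX₀ _)
    haveI : IsLocalization.AtPrime (X.presheaf.stalk x) P := hX₀.isLocalization_stalk ⟨x, hxX₀⟩
    haveI : IsLocalization.AtPrime (S.presheaf.stalk (f x)) p :=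
      hS₀.isLocalization_stalk ⟨f x, hsS₀⟩
    refine hreg_transport Γ(S, S₀) Γ(X, X₀) (S.presheaf.stalk (f x)) (X.presheaf.stalk x) P p h₀ ?_
    change Ideal.Quotient.mk (Ideal.map (f.stalkMap x).hom
        (IsLocalRing.maximalIdeal (S.presheaf.stalk (f x))))
      ((X.presheaf.germ X₀ x hxX₀).hom h₀) ∈ _
    rw [show (X.presheaf.germ X₀ x hxX₀).hom h₀ = h from hgerm₀]
    exact hreg
  obtain ⟨c, hcP, hnzd, hflq⟩ := ring_final p P hP h₀ hh₀P hflat' hreg'
  have hxc : x ∈ X.basicOpen c := (notMem_primeIdealOf_iff hX₀ x hxX₀ c).mp hcP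
  set U : X.Opens := X.basicOpen c with hUdef
  have hUX₀ : U ≤ X₀ := X.basicOpen_le c
  have hUS₀ : U ≤ f ⁻¹ᵁ S₀ := hUX₀.trans hXS
  have hU : IsAffineOpen U := hX₀.basicOpen c
  set ψ : Γ(X, X₀) →+* Γ(X, U) := (X.presheaf.map (homOfLE hUX₀).op).hom with hψ
  have hloc : (letI := ψ.toAlgebra; IsLocalization.Away c Γ(X, U)) :=
    hX₀.isLocalization_of_eq_basicOpen c (homOfLE hUX₀) rfl
  obtain ⟨hnzd', hflat''⟩ := away_transport c h₀ ψ hloc hnzd hflq
  have h1 : Spec.map (f.appLE S₀ U hUS₀) ≫ hS₀.fromSpec = hU.fromSpec ≫ f :=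
    IsAffineOpen.SpecMap_appLE_fromSpec f hS₀ hU hUS₀
  have h3 : f.appLE S₀ U hUS₀ = f.appLE S₀ X₀ hXS ≫ X.presheaf.map (homOfLE hUX₀).op :=
    (Scheme.Hom.appLE_map f hXS (homOfLE hUX₀).op).symm
  haveI : IsOpenImmersion (IsAffineOpen.fromSpec hS₀) := IsAffineOpen.isOpenImmersion_fromSpec hS₀
  refine ⟨U, hU, hxc, ψ h₀, ?_, hnzd', ?_, ?_⟩
  · rw [hψ]
    erw [X.presheaf.germ_res_apply (homOfLE hUX₀) x hxc h₀]
    exact hgerm₀
  · rw [← h1, ← Category.assoc, ← Spec.map_comp]
    have h2 : (f.appLE S₀ U hUS₀ ≫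
        CommRingCat.ofHom (Ideal.Quotient.mk (Ideal.span {ψ h₀}))).hom.Flat := by
      rw [h3]
      exact hflat''
    haveI : Flat (Spec.map (f.appLE S₀ U hUS₀ ≫
        CommRingCat.ofHom (Ideal.Quotient.mk (Ideal.span {ψ h₀})))) :=
      (HasRingHomProperty.Spec_iff (P := @Flat)).mpr h2
    infer_instance
  · rw [← h1, ← Category.assoc, ← Spec.map_comp]
    have h2 : (f.appLE S₀ U hUS₀ ≫
        CommRingCat.ofHom (Ideal.Quotient.mk (Ideal.span {ψ h₀}))).hom.FinitePresentation := by
      have hfpU : (f.appLE S₀ U hUS₀).hom.FinitePresentation :=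
        HasRingHomProperty.appLE (P := @LocallyOfFinitePresentation) f inferInstance ⟨S₀, hS₀⟩
          ⟨U, hU⟩ hUS₀
      rw [CommRingCat.hom_comp]
      refine RingHom.FinitePresentation.comp ?_ hfpU
      refine RingHom.FinitePresentation.of_surjective _ Ideal.Quotient.mk_surjective ?_
      rw [CommRingCat.hom_ofHom, Ideal.mk_ker]
      exact ⟨{ψ h₀}, by simp⟩
    haveI : LocallyOfFinitePresentation (Spec.map (f.appLE S₀ U hUS₀ ≫
        CommRingCat.ofHom (Ideal.Quotient.mk (Ideal.span {ψ h₀})))) :=
      (HasRingHomProperty.Spec_iff (P := @LocallyOfFinitePresentation)).mpr h2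
    infer_instance

end

end Groth.Agent.Lib.H9NzdFibre
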