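import Mathlib
import Groth.Agent.Lib.Helper28DepthFlat
import Groth.Agent.Lib.Helper3FlatLocA

/-!
# Fibrewise regular elements are universally regular (noetherian local-to-global step)

* `isSMulRegular_tensor_of_residue`: over noetherian local rings `R → S` (local hom), `N` finite over
  `S` and flat over `R`: if `y : S` is regular on `N ⊗ R/m` then it is regular on `N ⊗[R] X` for
  every `R`-module `X`.
* `exists_smul_eq_zero_of_fibre_regular`: global noetherian version, at a prime `q₀` of `B₀`: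
  if `a₀` is regular on `M₀ ⊗ κ(p₀)` then every `z ∈ M₀ ⊗[A₀] X` killed by `a₀` is killed by some
  `t ∉ q₀`.
* `isSMulRegular_of_notMem_minimalPrimes`, `isNoetherianRing_fibre`, `isSMulRegular_tensor_of_fibre`,
  `exists_equivariant_bijection`, `isSMulRegular_tensor_of_isBaseChange`,
  `isSMulRegular_tensor_of_injective`: the glue between the fibre modules
  `(B ⊗[A] κ(p)) ⊗[B] M` and `M₀ ⊗[A₀] κ(p₀)`.
-/

set_option autoImplicit false
set_option linter.style.haveILetI false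
universe u u' v v' w
open TensorProduct

namespace Groth.Agent.Lib.H9FibreReg
open Groth.Agent.Lib.Helper28

open Groth.Agent.Lib.Helper28

section Local

variable {R : Type u} {S : Type u'} [CommRing R] [CommRing S] [IsLocalRing R] [IsLocalRing S]
  [IsNoetherianRing R] [IsNoetherianRing S] [Algebra R S] [IsLocalHom (algebraMap R S)]
  {N : Type v} [AddCommGroup N] [Module S N] [Module R N] [IsScalarTower R S N]
  [Module.Finite S N] [Module.Flat R N]

/-- `y` injective on `N ⊗ (R/m)` gives `y` injective on `N ⊗ X` for every `R`-module `X`. -/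
theorem rTensor_ymap_injective_all (y : S)
    (h0 : Function.Injective ((ymap R N y).rTensor (R ⧸ IsLocalRing.maximalIdeal R)))
    (X : Type w) [AddCommGroup X] [Module R X] :
    Function.Injective ((ymap R N y).rTensor X) := by
  rw [injective_iff_map_eq_zero]
  intro z hz
  obtain ⟨X', hfin, hX'⟩ := TensorProduct.exists_finite_submodule_right_of_setFinite
    ({z} : Set (N ⊗[R] X)) (Set.finite_singleton z)
  obtain ⟨z', rfl⟩ := hX' (Set.mem_singleton z)
  have hcomm : X'.subtype.lTensor N ((ymap R N y).rTensor X' z') =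
      (ymap R N y).rTensor X (X'.subtype.lTensor N z') := by
    rw [← LinearMap.comp_apply, ← LinearMap.comp_apply, LinearMap.rTensor_comp_lTensor,
      LinearMap.lTensor_comp_rTensor]
  have h1 : (ymap R N y).rTensor X' z' = 0 := by
    apply Module.Flat.lTensor_preserves_injective_linearMap (M := N) X'.subtype
      X'.injective_subtype
    rw [hcomm, hz, map_zero]
  have h2 : z' = 0 := by
    have := rTensor_ymap_injective_of_finite (R := R) (S := S) (N := N) y h0 X'
    exact this (by rw [h1, map_zero])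
  rw [h2, map_zero]

/-- `IsSMulRegular` form. -/
theorem isSMulRegular_tensor_of_residue (y : S)
    (h0 : IsSMulRegular (N ⊗[R] (R ⧸ IsLocalRing.maximalIdeal R)) y)
    (X : Type w) [AddCommGroup X] [Module R X] :
    IsSMulRegular (N ⊗[R] X) y := by
  rw [isSMulRegular_tensor_iff] at h0 ⊢
  exact rTensor_ymap_injective_all y h0 X

end Local

section Loc

variable {A₀ : Type u} {B₀ : Type u'} [CommRing A₀] [CommRing B₀] [Algebra A₀ B₀]
  (S : Submonoid B₀)
  {M₀ : Type v} [AddCommGroup M₀] [Module B₀ M₀] [Module A₀ M₀] [IsScalarTower A₀ B₀ M₀]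
  {N : Type v'} [AddCommGroup N] [Module B₀ N] [Module A₀ N] [IsScalarTower A₀ B₀ N]
  (ℓ : M₀ →ₗ[B₀] N) [IsLocalizedModule S ℓ]

include S ℓ in
/-- Localization in the first factor preserves regularity of an element of `B₀` on `M₀ ⊗[A₀] X`. -/
theorem isSMulRegular_tensor_of_isLocalizedModule (a₀ : B₀) (X : Type w) [AddCommGroup X]
    [Module A₀ X] (h : IsSMulRegular (M₀ ⊗[A₀] X) a₀) : IsSMulRegular (N ⊗[A₀] X) a₀ := by
  let g : M₀ ⊗[A₀] X →ₗ[B₀] N ⊗[A₀] X := AlgebraTensorModule.rTensor A₀ X ℓ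
  have hinj := IsLocalizedModule.map_injective S g g (a₀ • LinearMap.id)
    (fun x y hxy => h (by simpa using hxy))
  rw [map_smul, IsLocalizedModule.map_id] at hinj
  intro x y hxy
  exact hinj (by simpa using hxy)

include S in
/-- An element of `M₀ ⊗[A₀] X` dying in the localization is killed by an element of `S`. -/
theorem exists_smul_eq_zero_of_rTensor_eq_zero (X : Type w) [AddCommGroup X]
    [Module A₀ X] (z : M₀ ⊗[A₀] X) (hz : AlgebraTensorModule.rTensor A₀ X ℓ z = 0) :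
    ∃ t : S, t • z = 0 :=
  (IsLocalizedModule.eq_zero_iff S (AlgebraTensorModule.rTensor A₀ X ℓ)).mp hz

end Loc




section Main

variable {A₀ : Type u} {B₀ : Type u'} [CommRing A₀] [CommRing B₀] [Algebra A₀ B₀]
  [IsNoetherianRing A₀] [IsNoetherianRing B₀]
  {M₀ : Type v} [AddCommGroup M₀] [Module B₀ M₀] [Module A₀ M₀] [IsScalarTower A₀ B₀ M₀]
  [Module.Finite B₀ M₀] [Module.Flat A₀ M₀]

theorem exists_smul_eq_zero_of_fibre_regular (a₀ : B₀) (q₀ : Ideal B₀) [q₀.IsPrime]
    (p₀ : Ideal A₀) [p₀.IsPrime] (hp₀ : p₀ = q₀.comap (algebraMap A₀ B₀))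
    (hfib : IsSMulRegular (M₀ ⊗[A₀] p₀.ResidueField) a₀)
    (X : Type w) [AddCommGroup X] [Module A₀ X] (z : M₀ ⊗[A₀] X) (hz : a₀ • z = 0) :
    ∃ t : q₀.primeCompl, t • z = 0 := by
  let Rl := Localization.AtPrime p₀
  let Sl := Localization.AtPrime q₀
  let Nl := LocalizedModule q₀.primeCompl M₀
  let ℓ : M₀ →ₗ[B₀] Nl := LocalizedModule.mkLinearMap q₀.primeCompl M₀
  let loc : Rl →+* Sl := Localization.localRingHom p₀ q₀ (algebraMap A₀ B₀) hp₀
  letI algRS : Algebra Rl Sl := loc.toAlgebra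
  haveI : IsLocalHom (algebraMap Rl Sl) := Localization.isLocalHom_localRingHom _ _ _ hp₀
  have hloc : ∀ r : A₀, loc (algebraMap A₀ Rl r) = algebraMap A₀ Sl r := by
    intro r
    rw [Localization.localRingHom_to_map, ← IsScalarTower.algebraMap_apply]
  haveI towARS : IsScalarTower A₀ Rl Sl := IsScalarTower.of_algebraMap_eq (fun r => (hloc r).symm)
  letI modRN : Module Rl Nl := Module.compHom Nl (algebraMap Rl Sl)
  haveI towRSN : IsScalarTower Rl Sl Nl := ⟨fun r s n => by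
    change (algebraMap Rl Sl r * s) • n = algebraMap Rl Sl r • (s • n)
    rw [mul_smul]⟩
  haveI towARN : IsScalarTower A₀ Rl Nl := ⟨fun r₀ r n => by
    change algebraMap Rl Sl (r₀ • r) • n = r₀ • (algebraMap Rl Sl r • n)
    rw [Algebra.smul_def, map_mul, ← IsScalarTower.algebraMap_apply, mul_smul, algebraMap_smul]⟩
  haveI flatA : Module.Flat A₀ Nl :=
    Groth.Agent.Lib.Helper3.FlatLoc.flat_localizedModule_of_flat (R := A₀) (M := M₀) q₀.primeCompl
  haveI flatR : Module.Flat Rl Nl := (Module.flat_iff_of_isLocalization Rl p₀.primeCompl Nl).mpr flatA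
  haveI : Module.Finite Sl Nl := inferInstance
  haveI : IsNoetherianRing Rl := IsLocalization.isNoetherianRing p₀.primeCompl Rl inferInstance
  haveI : IsNoetherianRing Sl := IsLocalization.isNoetherianRing q₀.primeCompl Sl inferInstance
  -- Step (i): `a₀` is regular on `Nl ⊗[A₀] κ(p₀)`
  have h1 : IsSMulRegular (Nl ⊗[A₀] p₀.ResidueField) a₀ :=
    isSMulRegular_tensor_of_isLocalizedModule q₀.primeCompl ℓ a₀ _ hfib
  -- Step (ii): `y` is regular on `Nl ⊗[Rl] κ(p₀)`
  set y : Sl := algebraMap B₀ Sl a₀ with hy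
  have h2 : IsSMulRegular (Nl ⊗[Rl] p₀.ResidueField) y := by
    haveI := IsLocalization.tensorProduct_compatibleSMul p₀.primeCompl Rl Nl p₀.ResidueField
    let e : Nl ⊗[Rl] p₀.ResidueField ≃ₗ[Sl] Nl ⊗[A₀] p₀.ResidueField :=
      TensorProduct.equivOfCompatibleSMul A₀ Rl Sl Nl p₀.ResidueField
    have hey : ∀ z, a₀ • e z = e (y • z) := fun z => by
      rw [map_smul, hy, algebraMap_smul]
    intro z1 z2 h12
    apply e.injective
    apply h1
    change a₀ • e z1 = a₀ • e z2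
    rw [hey, hey]
    exact congrArg e h12
  -- Step (iii): `y` is regular on `Nl ⊗[Rl] (Rl ⊗[A₀] X)`
  have h3 : IsSMulRegular (Nl ⊗[Rl] (Rl ⊗[A₀] X)) y :=
    isSMulRegular_tensor_of_residue (R := Rl) (S := Sl) (N := Nl) y h2 (Rl ⊗[A₀] X)
  -- Step (iv): `a₀` is regular on `Nl ⊗[A₀] X`
  have h4 : IsSMulRegular (Nl ⊗[A₀] X) a₀ := by
    let e : Nl ⊗[Rl] (Rl ⊗[A₀] X) ≃ₗ[Sl] Nl ⊗[A₀] X :=
      AlgebraTensorModule.cancelBaseChange A₀ Rl Sl Nl X
    have hey : ∀ z, y • e.symm z = e.symm (a₀ • z) := fun z => by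
      rw [← map_smul, hy, algebraMap_smul]
    intro z1 z2 h12
    apply e.symm.injective
    apply h3
    change y • e.symm z1 = y • e.symm z2
    rw [hey, hey]
    exact congrArg e.symm h12
  -- Step (v)
  have h5 : AlgebraTensorModule.rTensor A₀ X ℓ z = 0 := by
    apply h4
    change a₀ • AlgebraTensorModule.rTensor A₀ X ℓ z = a₀ • 0
    rw [smul_zero, ← map_smul, hz, map_zero]
  exact exists_smul_eq_zero_of_rTensor_eq_zero q₀.primeCompl ℓ X z h5

end Main




/-- Step 0: on a noetherian ring, an element avoiding all minimal primes of the annihilator of a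
module satisfying `(S₁)` (in the form `Ass ⊆ Min`) is a nonzerodivisor. -/
theorem isSMulRegular_of_notMem_minimalPrimes {C : Type u} {F : Type v} [CommRing C]
    [IsNoetherianRing C] [AddCommGroup F] [Module C F]
    (hS1 : associatedPrimes C F ⊆ (Module.annihilator C F).minimalPrimes) (c : C)
    (hc : ∀ P ∈ (Module.annihilator C F).minimalPrimes, c ∉ P) : IsSMulRegular F c := by
  by_contra hreg
  have hmem : c ∈ {r : C | IsSMulRegular F r}ᶜ := hreg
  rw [← biUnion_associatedPrimes_eq_compl_regular] at hmem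
  obtain ⟨P, hP, hcP⟩ := Set.mem_iUnion₂.mp hmem
  exact hc P (hS1 hP) hcP

/-- The fibre ring of a finite type algebra is noetherian. -/
theorem isNoetherianRing_fibre (A B : Type u) [CommRing A] [CommRing B] [Algebra A B]
    [Algebra.FiniteType A B] (κ : Type u) [Field κ] [Algebra A κ] :
    IsNoetherianRing (B ⊗[A] κ) := by
  haveI : Algebra.FiniteType κ (κ ⊗[A] B) := inferInstance
  haveI : IsNoetherianRing (κ ⊗[A] B) := Algebra.FiniteType.isNoetherianRing κ _
  exact isNoetherianRing_of_ringEquiv _ (Algebra.TensorProduct.comm A κ B).toRingEquiv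

section StepA

variable {A B M : Type*} [CommRing A] [CommRing B] [Algebra A B] [AddCommGroup M] [Module B M]
  [Module A M] [IsScalarTower A B M] (κ : Type*) [CommRing κ] [Algebra A κ]

/-- Step A. -/
theorem isSMulRegular_tensor_of_fibre (a : B)
    (h : IsSMulRegular ((B ⊗[A] κ) ⊗[B] M) (a ⊗ₜ[A] (1 : κ))) :
    IsSMulRegular (M ⊗[A] κ) a := by
  let Ψ : (B ⊗[A] κ) ⊗[B] M ≃ₗ[B] M ⊗[A] κ :=
    (TensorProduct.comm B (B ⊗[A] κ) M) ≪≫ₗ (AlgebraTensorModule.cancelBaseChange A B B M κ)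
  have hΨ : ∀ z, (a ⊗ₜ[A] (1 : κ)) • Ψ.symm z = Ψ.symm (a • z) := by
    intro z
    rw [map_smul, ← algebraMap_smul (B ⊗[A] κ) a (Ψ.symm z),
      Algebra.TensorProduct.algebraMap_apply, Algebra.algebraMap_self_apply]
  intro z1 z2 h12
  apply Ψ.symm.injective
  apply h
  change (a ⊗ₜ[A] (1 : κ)) • Ψ.symm z1 = (a ⊗ₜ[A] (1 : κ)) • Ψ.symm z2
  rw [hΨ, hΨ]
  exact congrArg Ψ.symm h12

end StepA




section StepB

variable {A₀ A B₀ B M₀ M : Type*} [CommRing A₀] [CommRing A] [Algebra A₀ A] [CommRing B₀]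
  [CommRing B] [Algebra A₀ B₀] [Algebra A B] [Algebra B₀ B]
  [AddCommGroup M₀] [Module B₀ M₀] [Module A₀ M₀] [IsScalarTower A₀ B₀ M₀]
  [AddCommGroup M] [Module B M] [Module A M] [IsScalarTower A B M] [Module B₀ M]
  [IsScalarTower B₀ B M] [Module A₀ M] [IsScalarTower A₀ A M] [IsScalarTower A₀ B₀ M]

/-- Step B: the comparison `M₀ ⊗[A₀] K ≃ M ⊗[A] K` for `M = A ⊗[A₀] M₀`, which is
`B₀`-equivariant. -/
theorem exists_equivariant_bijection (f : M₀ →ₗ[B₀] M)
    (hfb : IsBaseChange A (f.restrictScalars A₀))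
    (K : Type*) [AddCommGroup K] [Module A K] [Module A₀ K] [IsScalarTower A₀ A K] :
    ∃ Θ : M₀ ⊗[A₀] K → M ⊗[A] K, Function.Bijective Θ ∧ (∀ z z', Θ (z + z') = Θ z + Θ z') ∧
      (∀ m₀ x, Θ (m₀ ⊗ₜ x) = f m₀ ⊗ₜ x) ∧
      ∀ (b₀ : B₀) z, Θ (b₀ • z) = algebraMap B₀ B b₀ • Θ z := by
  let e1 : M₀ ⊗[A₀] K ≃ₗ[A₀] K ⊗[A₀] M₀ := TensorProduct.comm A₀ M₀ K
  let e2 : K ⊗[A] (A ⊗[A₀] M₀) ≃ₗ[A] K ⊗[A₀] M₀ := AlgebraTensorModule.cancelBaseChange A₀ A A K M₀
  let e3 : K ⊗[A] (A ⊗[A₀] M₀) ≃ₗ[A] K ⊗[A] M := LinearEquiv.lTensor K hfb.equiv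
  let e4 : K ⊗[A] M ≃ₗ[A] M ⊗[A] K := TensorProduct.comm A K M
  let Θ : M₀ ⊗[A₀] K → M ⊗[A] K := fun z => e4 (e3 (e2.symm (e1 z)))
  have hadd : ∀ z z', Θ (z + z') = Θ z + Θ z' := fun z z' => by simp only [Θ, map_add]
  have htmul : ∀ m₀ x, Θ (m₀ ⊗ₜ x) = f m₀ ⊗ₜ x := by
    intro m₀ x
    have h2 : e2.symm (x ⊗ₜ[A₀] m₀) = x ⊗ₜ[A] ((1 : A) ⊗ₜ[A₀] m₀) := by
      rw [LinearEquiv.symm_apply_eq]
      simp [e2]
    simp only [Θ, e1, TensorProduct.comm_tmul, h2, e3, LinearEquiv.lTensor_tmul,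
      IsBaseChange.equiv_tmul, one_smul, e4]
    rfl
  have hzero : Θ 0 = 0 := by simp only [Θ, map_zero]
  refine ⟨Θ, ⟨?_, ?_⟩, hadd, htmul, ?_⟩
  · intro z z' h
    exact e1.injective (e2.symm.injective (e3.injective (e4.injective h)))
  · intro w
    refine ⟨e1.symm (e2 (e3.symm (e4.symm w))), ?_⟩
    simp only [Θ, LinearEquiv.apply_symm_apply, LinearEquiv.symm_apply_apply]
  · intro b₀ z
    induction z using TensorProduct.induction_on with
    | zero => rw [smul_zero, hzero, smul_zero]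
    | tmul m₀ x =>
      rw [TensorProduct.smul_tmul', htmul, htmul, map_smul, TensorProduct.smul_tmul',
        algebraMap_smul B b₀ (f m₀)]
    | add z z' hz hz' => rw [smul_add, hadd, hadd, hz, hz', smul_add]

/-- Step B for regularity. -/
theorem isSMulRegular_tensor_of_isBaseChange (f : M₀ →ₗ[B₀] M)
    (hfb : IsBaseChange A (f.restrictScalars A₀))
    (K : Type*) [AddCommGroup K] [Module A K] [Module A₀ K] [IsScalarTower A₀ A K] (a₀ : B₀)
    (h : IsSMulRegular (M ⊗[A] K) (algebraMap B₀ B a₀)) : IsSMulRegular (M₀ ⊗[A₀] K) a₀ := by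
  obtain ⟨Θ, hbij, -, -, hsmul⟩ := exists_equivariant_bijection (B := B) f hfb K
  intro z z' hzz
  apply hbij.1
  apply h
  change algebraMap B₀ B a₀ • Θ z = algebraMap B₀ B a₀ • Θ z'
  rw [← hsmul, ← hsmul]
  exact congrArg Θ hzz

end StepB

section StepC

variable {A₀ B₀ M₀ : Type*} [CommRing A₀] [CommRing B₀] [Algebra A₀ B₀]
  [AddCommGroup M₀] [Module B₀ M₀] [Module A₀ M₀] [IsScalarTower A₀ B₀ M₀] [Module.Flat A₀ M₀]

/-- Step C: regularity on `M₀ ⊗ K` descends to `M₀ ⊗ K'` for `K' ↪ K`, when `M₀` is flat. -/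
theorem isSMulRegular_tensor_of_injective {K' K : Type*} [AddCommGroup K'] [Module A₀ K']
    [AddCommGroup K] [Module A₀ K] (ι : K' →ₗ[A₀] K) (hι : Function.Injective ι) (a₀ : B₀)
    (h : IsSMulRegular (M₀ ⊗[A₀] K) a₀) : IsSMulRegular (M₀ ⊗[A₀] K') a₀ := by
  let j : M₀ ⊗[A₀] K' →ₗ[B₀] M₀ ⊗[A₀] K := AlgebraTensorModule.lTensor B₀ M₀ ι
  have hj : Function.Injective j := by
    have := Module.Flat.lTensor_preserves_injective_linearMap (M := M₀) ι hι
    intro z z' hzz
    apply this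
    rw [← AlgebraTensorModule.coe_lTensor (A := B₀)]
    exact hzz
  intro z z' hzz
  apply hj
  apply h
  change a₀ • j z = a₀ • j z'
  rw [← map_smul, ← map_smul]
  exact congrArg j hzz

end StepC


end Groth.Agent.Lib.H9FibreReg
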