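import Mathlib
import Groth.Agent.Lib.H9FibreReg
import Groth.Agent.Lib.H9FlatModelElem

/-!
# Fibrewise regular elements are regular (non-noetherian case, EGA IV 11.3.8-type statement)

`isSMulRegular_of_fibrewise`: `B` a finitely presented `A`-algebra, `M` a finitely presented
`B`-module flat over `A`, `a : B`. If `a` is a nonzerodivisor on all fibres `M ⊗[A] κ(p)`, then `a`
is a nonzerodivisor on `M`. Proved by noetherian approximation
(`H9FlatModelElem.exists_flat_module_model_elem`) and the noetherian local statement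
(`H9FibreReg.exists_smul_eq_zero_of_fibre_regular`).
-/

set_option autoImplicit false
set_option linter.style.haveILetI false
universe u
open TensorProduct

namespace Groth.Agent.Lib.H9FibreReg

theorem isSMulRegular_of_fibrewise (A B M : Type u) [CommRing A] [CommRing B] [Algebra A B]
    [Algebra.FinitePresentation A B] [AddCommGroup M] [Module B M] [Module A M]
    [IsScalarTower A B M] [Module.FinitePresentation B M] [Module.Flat A M] (a : B)
    (hfib : ∀ (p : Ideal A) [p.IsPrime], IsSMulRegular (M ⊗[A] p.ResidueField) a) :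
    IsSMulRegular M a := by
  classical
  obtain ⟨A₀, _, _, B₀, _, _, _, _, _, _, M₀, _, _, _, _, _, _, _, _, _, f, hA₀, hB₀, hfin, hflat,
    hpush, hbc, hfb, hT⟩ :=
    Groth.Agent.Lib.H9FlatModelElem.exists_flat_module_model_elem A B M {a}
  obtain ⟨a₀, ha₀⟩ := hT (show a ∈ (({a} : Finset B) : Set B) by simp)
  haveI : IsNoetherianRing A₀ := Algebra.FiniteType.isNoetherianRing ℤ A₀
  haveI : IsNoetherianRing B₀ := Algebra.FiniteType.isNoetherianRing A₀ B₀
  -- the comparison `M₀ ⊗[A₀] A ≃ M`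
  obtain ⟨Θ, hΘbij, hΘadd, hΘtmul, hΘsmul⟩ :=
    exists_equivariant_bijection (B := B) f hfb A
  let ρ : M ⊗[A] A ≃ₗ[B] M := AlgebraTensorModule.rid A B M
  have hΘ0 : Θ 0 = 0 := by
    have := hΘadd 0 0
    rw [add_zero] at this
    exact left_eq_add.mp this
  -- reduce to `a • m = 0 → m = 0`
  intro m₁ m₂ h12
  rw [← sub_eq_zero]
  set m := m₁ - m₂ with hm
  have ham : a • m = 0 := by
    rw [hm, smul_sub, sub_eq_zero]
    exact h12
  by_contra hne
  -- a maximal ideal containing the annihilator of `m`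
  have hann : LinearMap.ker (LinearMap.toSpanSingleton B M m) ≠ ⊤ := by
    intro htop
    apply hne
    have : (1 : B) ∈ LinearMap.ker (LinearMap.toSpanSingleton B M m) := htop ▸ Submodule.mem_top
    simpa using this
  obtain ⟨q, hqmax, hle⟩ := Ideal.exists_le_maximal _ hann
  haveI := hqmax.isPrime
  let q₀ : Ideal B₀ := q.comap (algebraMap B₀ B)
  let p : Ideal A := q.comap (algebraMap A B)
  let p₀ : Ideal A₀ := p.comap (algebraMap A₀ A)
  have hp₀ : p₀ = q₀.comap (algebraMap A₀ B₀) := by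
    simp only [p₀, p, q₀, Ideal.comap_comap]
    congr 1
    rw [← IsScalarTower.algebraMap_eq, ← IsScalarTower.algebraMap_eq]
  haveI hp₀prime : p₀.IsPrime := Ideal.comap_isPrime _ _
  haveI hq₀prime : q₀.IsPrime := Ideal.comap_isPrime _ _
  haveI hpprime : p.IsPrime := Ideal.comap_isPrime _ _
  -- fibre regularity
  have hA : IsSMulRegular (M ⊗[A] p.ResidueField) a := hfib p
  have hB : IsSMulRegular (M₀ ⊗[A₀] p.ResidueField) a₀ :=
    isSMulRegular_tensor_of_isBaseChange (B := B) f hfb p.ResidueField a₀ (ha₀ ▸ hA)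
  let ι : p₀.ResidueField →ₐ[A₀] p.ResidueField :=
    Ideal.ResidueField.mapₐ p₀ p (Algebra.ofId A₀ A) rfl
  have hC : IsSMulRegular (M₀ ⊗[A₀] p₀.ResidueField) a₀ :=
    isSMulRegular_tensor_of_injective ι.toLinearMap ι.toRingHom.injective a₀ hB
  -- the element of `M₀ ⊗[A₀] A` corresponding to `m`
  obtain ⟨z, hz⟩ := hΘbij.2 (ρ.symm m)
  have hz' : ρ (Θ z) = m := by rw [hz, LinearEquiv.apply_symm_apply]
  have hρΘsmul : ∀ (b₀ : B₀) w, ρ (Θ (b₀ • w)) = algebraMap B₀ B b₀ • ρ (Θ w) := fun b₀ w => by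
    rw [hΘsmul, map_smul]
  have haz : a₀ • z = 0 := by
    apply hΘbij.1
    apply ρ.injective
    rw [hρΘsmul, hz', ha₀, ham, hΘ0, map_zero]
  obtain ⟨t, ht⟩ := exists_smul_eq_zero_of_fibre_regular a₀ q₀ p₀ hp₀ hC A z haz
  have htm : algebraMap B₀ B (t : B₀) • m = 0 := by
    rw [← hz', ← hρΘsmul]
    have : (t : B₀) • z = 0 := ht
    rw [this, hΘ0, map_zero]
  have hmem : algebraMap B₀ B (t : B₀) ∈ q := hle (by
    rw [LinearMap.mem_ker, LinearMap.toSpanSingleton_apply]
    exact htm)
  exact t.2 hmem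

/-- The same, with the fibre modules in the form `(B ⊗[A] κ(p)) ⊗[B] M` over the fibre rings. -/
theorem isSMulRegular_of_fibrewise' (A B M : Type u) [CommRing A] [CommRing B] [Algebra A B]
    [Algebra.FinitePresentation A B] [AddCommGroup M] [Module B M] [Module A M]
    [IsScalarTower A B M] [Module.FinitePresentation B M] [Module.Flat A M] (a : B)
    (hfib : ∀ (p : Ideal A) [p.IsPrime],
      IsSMulRegular ((B ⊗[A] p.ResidueField) ⊗[B] M) (a ⊗ₜ[A] (1 : p.ResidueField))) :
    IsSMulRegular M a :=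
  isSMulRegular_of_fibrewise A B M a fun p _ => isSMulRegular_tensor_of_fibre _ a (hfib p)

end Groth.Agent.Lib.H9FibreReg
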