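import Mathlib
import Groth.Agent.Lib.H9FibreRegMain

/-!
# Fibrewise absence of `I`-torsion is universal (EGA IV 11.10-type statement), algebraic core

* `exists_equivariant_bijection_pushout`: `M ⊗[A] A' ≃ M'`, `B`-equivariantly, when
  `M' = B' ⊗[B] M` and `B' = B ⊗[A] A'`.
* `exists_pow_smul_eq_zero_of_fibrewise`: `A → B` finitely presented, `M` a finitely presented
  `B`-module flat over `A`, `I ⊆ B`. Suppose that for every prime `p` of `A` some `a ∈ I` is a
  nonzerodivisor on `M ⊗[A] κ(p)`. Then for every base change `A → A'` (`B' = B ⊗[A] A'`,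
  `M' = B' ⊗[B] M`), every `h : B'` and `t' : M'`: if `t'` is killed by a power of `h g` for all
  `g ∈ I` then `t'` is killed by a power of `h`.
* `exists_regular_of_fibre`: how to get the hypothesis from a fibre `M_K` over any field `K` with
  `ker (A → K) = p`: if no nonzero element of `M_K` is killed by `I`, some `a ∈ I` is regular on
  `M ⊗[A] κ(p)`.
-/

set_option autoImplicit false
set_option linter.style.haveILetI false
set_option linter.unusedVariables false
set_option linter.unusedSectionVars false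
universe u
open TensorProduct

namespace Groth.Agent.Lib.R2H3.FibreTors

open Groth.Agent.Lib.H9FibreReg

section Psi

variable {A A' B B' M M' : Type*} [CommRing A] [CommRing A'] [CommRing B] [CommRing B']
  [Algebra A A'] [Algebra A B] [Algebra A' B'] [Algebra B B'] [Algebra A B']
  [IsScalarTower A A' B'] [IsScalarTower A B B'] [Algebra.IsPushout A A' B B']
  [AddCommGroup M] [Module A M] [Module B M] [IsScalarTower A B M]
  [AddCommGroup M'] [Module B' M'] [Module B M'] [IsScalarTower B B' M']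

/-- `M ⊗[A] A' ≃ M'`, `B`-equivariantly, when `M' = B' ⊗[B] M` and `B' = B ⊗[A] A'`. -/
theorem exists_equivariant_bijection_pushout (φ : M →ₗ[B] M') (hφ : IsBaseChange B' φ) :
    ∃ Ψ : M ⊗[A] A' → M', Function.Bijective Ψ ∧ (∀ z z', Ψ (z + z') = Ψ z + Ψ z') ∧
      (∀ m x, Ψ (m ⊗ₜ x) = algebraMap A' B' x • φ m) ∧
      ∀ (b : B) z, Ψ (b • z) = algebraMap B B' b • Ψ z := by
  let e1 : M ⊗[A] A' ≃ₗ[A] A' ⊗[A] M := TensorProduct.comm A M A'
  let e2 : B' ⊗[B] M ≃ₗ[A'] A' ⊗[A] M := Algebra.IsPushout.cancelBaseChange A A' B B' M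
  let e3 : B' ⊗[B] M ≃ₗ[B'] M' := hφ.equiv
  let Ψ : M ⊗[A] A' → M' := fun z => e3 (e2.symm (e1 z))
  have hadd : ∀ z z', Ψ (z + z') = Ψ z + Ψ z' := fun z z' => by simp only [Ψ, map_add]
  have hzero : Ψ 0 = 0 := by simp only [Ψ, map_zero]
  have htmul : ∀ m x, Ψ (m ⊗ₜ x) = algebraMap A' B' x • φ m := by
    intro m x
    simp only [Ψ, e1, e2, e3, TensorProduct.comm_tmul,
      Algebra.IsPushout.cancelBaseChange_symm_tmul, IsBaseChange.equiv_tmul]
  refine ⟨Ψ, ⟨?_, ?_⟩, hadd, htmul, ?_⟩
  · intro z z' h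
    exact e1.injective (e2.symm.injective (e3.injective h))
  · intro w
    refine ⟨e1.symm (e2 (e3.symm w)), ?_⟩
    simp only [Ψ, LinearEquiv.apply_symm_apply, LinearEquiv.symm_apply_apply]
  · intro b z
    induction z using TensorProduct.induction_on with
    | zero => rw [smul_zero, hzero, smul_zero]
    | tmul m x =>
      rw [TensorProduct.smul_tmul', htmul, htmul, map_smul, ← algebraMap_smul B' b (φ m),
        smul_smul, smul_smul, mul_comm]
    | add z z' hz hz' => rw [smul_add, hadd, hadd, hz, hz', smul_add]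

end Psi

section Core

theorem exists_pow_smul_eq_zero_of_fibrewise
    (A B M : Type u) [CommRing A] [CommRing B] [Algebra A B] [Algebra.FinitePresentation A B]
    [AddCommGroup M] [Module B M] [Module A M] [IsScalarTower A B M]
    [Module.FinitePresentation B M] [Module.Flat A M] (I : Set B)
    (hfib : ∀ (p : Ideal A) [p.IsPrime], ∃ a ∈ I, IsSMulRegular (M ⊗[A] p.ResidueField) a)
    (A' B' : Type u) [CommRing A'] [CommRing B'] [Algebra A A'] [Algebra A' B'] [Algebra B B']
    [Algebra A B'] [IsScalarTower A A' B'] [IsScalarTower A B B'] [Algebra.IsPushout A A' B B']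
    (M' : Type u) [AddCommGroup M'] [Module B' M'] [Module B M'] [IsScalarTower B B' M']
    (φ : M →ₗ[B] M') (hφ : IsBaseChange B' φ) (h : B') (t' : M')
    (ht : ∀ g ∈ I, ∃ n : ℕ, (h * algebraMap B B' g) ^ n • t' = 0) :
    ∃ m : ℕ, h ^ m • t' = 0 := by
  classical
  by_contra hne
  push Not at hne
  -- a prime containing the annihilator of `t'` and avoiding the powers of `h`
  let J : Ideal B' := LinearMap.ker (LinearMap.toSpanSingleton B' M' t')
  have hJ : ∀ b : B', b ∈ J ↔ b • t' = 0 := fun b => by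
    simp only [J, LinearMap.mem_ker, LinearMap.toSpanSingleton_apply]
  have hdisj : Disjoint (J : Set B') (Submonoid.powers h : Set B') := by
    rw [Set.disjoint_left]
    rintro _ hb ⟨m, rfl⟩
    exact hne m ((hJ _).1 hb)
  obtain ⟨q', hq'prime, hJq', hq'disj⟩ := Ideal.exists_le_prime_disjoint J (Submonoid.powers h) hdisj
  haveI := hq'prime
  let q : Ideal B := q'.comap (algebraMap B B')
  let p : Ideal A := q.comap (algebraMap A B)
  haveI hqprime : q.IsPrime := Ideal.comap_isPrime _ _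
  haveI hpprime : p.IsPrime := Ideal.comap_isPrime _ _
  obtain ⟨a, haI, hareg⟩ := hfib p
  obtain ⟨n, hn⟩ := ht a haI
  -- noetherian model
  obtain ⟨A₀, _, _, B₀, _, _, _, _, _, _, M₀, _, _, _, _, _, _, _, _, _, f, hA₀, hB₀, hfin, hflat,
    hpush, hbc, hfb, hT⟩ :=
    Groth.Agent.Lib.H9FlatModelElem.exists_flat_module_model_elem A B M {a}
  obtain ⟨a₀, ha₀⟩ := hT (show a ∈ (({a} : Finset B) : Set B) by simp)
  haveI : IsNoetherianRing A₀ := Algebra.FiniteType.isNoetherianRing ℤ A₀
  haveI : IsNoetherianRing B₀ := Algebra.FiniteType.isNoetherianRing A₀ B₀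
  let q₀ : Ideal B₀ := q.comap (algebraMap B₀ B)
  let p₀ : Ideal A₀ := p.comap (algebraMap A₀ A)
  have hp₀ : p₀ = q₀.comap (algebraMap A₀ B₀) := by
    simp only [p₀, p, q₀, Ideal.comap_comap]
    congr 1
    rw [← IsScalarTower.algebraMap_eq, ← IsScalarTower.algebraMap_eq]
  haveI hp₀prime : p₀.IsPrime := Ideal.comap_isPrime _ _
  haveI hq₀prime : q₀.IsPrime := Ideal.comap_isPrime _ _
  -- fibre regularity
  have hB : IsSMulRegular (M₀ ⊗[A₀] p.ResidueField) a₀ :=
    isSMulRegular_tensor_of_isBaseChange (B := B) f hfb p.ResidueField a₀ (ha₀ ▸ hareg)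
  let ι : p₀.ResidueField →ₐ[A₀] p.ResidueField :=
    Ideal.ResidueField.mapₐ p₀ p (Algebra.ofId A₀ A) rfl
  have hC : IsSMulRegular (M₀ ⊗[A₀] p₀.ResidueField) a₀ :=
    isSMulRegular_tensor_of_injective ι.toLinearMap ι.toRingHom.injective a₀ hB
  have hC' : IsSMulRegular (M₀ ⊗[A₀] p₀.ResidueField) (a₀ ^ n) := hC.pow n
  -- the comparison maps
  letI algA₀A' : Algebra A₀ A' := ((algebraMap A A').comp (algebraMap A₀ A)).toAlgebra
  haveI : IsScalarTower A₀ A A' := IsScalarTower.of_algebraMap_eq (fun _ => rfl)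
  obtain ⟨Θ, hΘbij, hΘadd, hΘtmul, hΘsmul⟩ :=
    exists_equivariant_bijection (B := B) f hfb A'
  obtain ⟨Ψ, hΨbij, hΨadd, hΨtmul, hΨsmul⟩ :=
    exists_equivariant_bijection_pushout (A := A) (A' := A') (B := B) (B' := B') φ hφ
  have hΘ0 : Θ 0 = 0 := by
    have := hΘadd 0 0
    rw [add_zero] at this
    exact left_eq_add.mp this
  have hΨ0 : Ψ 0 = 0 := by
    have := hΨadd 0 0
    rw [add_zero] at this
    exact left_eq_add.mp this
  have hΨΘsmul : ∀ (b₀ : B₀) w,
      Ψ (Θ (b₀ • w)) = algebraMap B B' (algebraMap B₀ B b₀) • Ψ (Θ w) := fun b₀ w => by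
    rw [hΘsmul, hΨsmul]
  -- the element of `M₀ ⊗[A₀] A'` corresponding to `h ^ n • t'`
  obtain ⟨w, hw⟩ := hΨbij.2 (h ^ n • t')
  obtain ⟨z, hz⟩ := hΘbij.2 w
  have hz' : Ψ (Θ z) = h ^ n • t' := by rw [hz, hw]
  have haz : a₀ ^ n • z = 0 := by
    apply hΘbij.1
    apply hΨbij.1
    rw [hΨΘsmul, hz', hΘ0, hΨ0, map_pow, map_pow, ha₀, smul_smul, ← mul_pow, mul_comm]
    exact hn
  obtain ⟨t₀, ht₀⟩ := exists_smul_eq_zero_of_fibre_regular (a₀ ^ n) q₀ p₀ hp₀ hC' A' z haz
  have htm : (algebraMap B B' (algebraMap B₀ B (t₀ : B₀)) * h ^ n) • t' = 0 := by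
    rw [mul_smul, ← hz', ← hΨΘsmul]
    have : (t₀ : B₀) • z = 0 := ht₀
    rw [this, hΘ0, hΨ0]
  have hmem : algebraMap B B' (algebraMap B₀ B (t₀ : B₀)) * h ^ n ∈ q' := hJq' ((hJ _).2 htm)
  rcases hq'prime.mem_or_mem hmem with h1 | h1
  · exact t₀.2 h1
  · exact Set.disjoint_left.1 hq'disj h1 ⟨n, rfl⟩

end Core

section Fibre

/-- Over a noetherian ring `C`, for a finite module `N` and an ideal `I` of a ring `B` mapping to
`C`: if no nonzero element of `N` is killed by `I`, then some element of `I` is `N`-regular. -/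
theorem exists_regular_of_torsionFree {B C N : Type*} [CommRing B] [CommRing C] [Algebra B C]
    [IsNoetherianRing C] [AddCommGroup N] [Module C N] [Module.Finite C N] (I : Ideal B)
    (h : ∀ x : N, (∀ g ∈ I, algebraMap B C g • x = 0) → x = 0) :
    ∃ a ∈ I, IsSMulRegular N (algebraMap B C a) := by
  classical
  by_contra hcon
  push Not at hcon
  let s : Finset (Ideal C) := (associatedPrimes.finite C N).toFinset
  let f : Ideal C → Ideal B := fun Q => Q.comap (algebraMap B C)
  have hsub : (I : Set B) ⊆ ⋃ Q ∈ (↑s : Set (Ideal C)), f Q := by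
    intro a ha
    have h1 : algebraMap B C a ∈ {r : C | IsSMulRegular N r}ᶜ := hcon a ha
    rw [← biUnion_associatedPrimes_eq_compl_regular] at h1
    obtain ⟨Q, hQ, haQ⟩ := Set.mem_iUnion₂.mp h1
    refine Set.mem_iUnion₂.mpr ⟨Q, ?_, haQ⟩
    simpa [s] using hQ
  have hprime : ∀ Q ∈ s, Q ≠ ⊥ → Q ≠ ⊥ → (f Q).IsPrime := by
    intro Q hQ _ _
    have hQ' : Q ∈ associatedPrimes C N := by simpa [s] using hQ
    haveI := IsAssociatedPrime.isPrime hQ'
    exact Ideal.comap_isPrime _ _
  obtain ⟨Q, hQ, hIQ⟩ := (Ideal.subset_union_prime (⊥ : Ideal C) ⊥ hprime).1 hsub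
  have hQ'' : Q ∈ associatedPrimes C N := by simpa [s] using hQ
  have hQ' : IsAssociatedPrime Q N := hQ''
  obtain ⟨hQprime, x, hx⟩ := isAssociatedPrime_iff.1 hQ'
  have hx0 : x = 0 := by
    apply h
    intro g hg
    have : algebraMap B C g ∈ Q := hIQ hg
    rw [hx, Submodule.mem_colon_singleton, Submodule.mem_bot] at this
    exact this
  apply hQprime.ne_top
  rw [hx, hx0, Ideal.eq_top_iff_one, Submodule.mem_colon_singleton, smul_zero]
  exact Submodule.zero_mem _

theorem exists_regular_of_fibre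
    (A B M : Type u) [CommRing A] [CommRing B] [Algebra A B] [Algebra.FiniteType A B]
    [AddCommGroup M] [Module B M] [Module A M] [IsScalarTower A B M]
    [Module.Finite B M] [Module.Flat A M] (I : Ideal B) (p : Ideal A) [p.IsPrime]
    (K BK : Type u) [CommRing K] (hK : IsField K) [CommRing BK] [Algebra A K] [Algebra K BK]
    [Algebra B BK] [Algebra A BK] [IsScalarTower A K BK] [IsScalarTower A B BK]
    [Algebra.IsPushout A K B BK] (hker : RingHom.ker (algebraMap A K) = p)
    (MK : Type u) [AddCommGroup MK] [Module BK MK] [Module B MK] [IsScalarTower B BK MK]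
    (φ : M →ₗ[B] MK) (hφ : IsBaseChange BK φ)
    (h : ∀ x : MK, (∀ g ∈ I, algebraMap B BK g • x = 0) → x = 0) :
    ∃ a ∈ I, IsSMulRegular (M ⊗[A] p.ResidueField) a := by
  classical
  haveI : Nontrivial K := hK.nontrivial
  -- `BK` is noetherian
  haveI hnoeK : IsNoetherianRing K := by
    letI : Field K := hK.toField
    infer_instance
  haveI hft : Algebra.FiniteType K BK :=
    Algebra.FiniteType.equiv (inferInstance : Algebra.FiniteType K (K ⊗[A] B))
      (Algebra.IsPushout.equiv A K B BK)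
  haveI hnoe : IsNoetherianRing BK := Algebra.FiniteType.isNoetherianRing K BK
  haveI hfin : Module.Finite BK MK := Module.Finite.equiv hφ.equiv
  obtain ⟨a, haI, hreg⟩ := exists_regular_of_torsionFree (B := B) (C := BK) (N := MK) I h
  refine ⟨a, haI, ?_⟩
  -- transfer to `M ⊗[A] K`
  obtain ⟨Ψ, hΨbij, hΨadd, hΨtmul, hΨsmul⟩ :=
    exists_equivariant_bijection_pushout (A := A) (A' := K) (B := B) (B' := BK) φ hφ
  have hregK : IsSMulRegular (M ⊗[A] K) a := by
    intro z z' hzz
    apply hΨbij.1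
    apply hreg
    change algebraMap B BK a • Ψ z = algebraMap B BK a • Ψ z'
    rw [← hΨsmul, ← hΨsmul]
    exact congrArg Ψ hzz
  -- the residue field embeds into `K`
  have hf₁ : p ≤ RingHom.ker (Algebra.ofId A K) := by
    intro x hx
    rw [← hker] at hx
    exact hx
  have hf₂ : p.primeCompl ≤ (IsUnit.submonoid K).comap (Algebra.ofId A K) := by
    intro x hx
    have hx0 : algebraMap A K x ≠ 0 := by
      intro h0
      apply hx
      rw [← hker]
      exact h0
    obtain ⟨y, hy⟩ := hK.mul_inv_cancel hx0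
    exact IsUnit.of_mul_eq_one y hy
  let ι : p.ResidueField →ₐ[A] K := Ideal.ResidueField.liftₐ p (Algebra.ofId A K) hf₁ hf₂
  exact isSMulRegular_tensor_of_injective ι.toLinearMap ι.toRingHom.injective a hregK

end Fibre

end Groth.Agent.Lib.R2H3.FibreTors
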