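import Mathlib
import Groth.Agent.Lib.R2H3FibreTors

/-!
# Fibrewise nonzerodivisors give relative effective Cartier divisors (algebra)

* `isSMulRegular_tensor_of_fibrewise`: `A → B` finitely presented, `M` finitely presented over `B`
  and flat over `A`, `a : B` regular on all fibres `M ⊗ κ(p)`: then `a` is regular on `M ⊗[A] X` for
  every `A`-module `X`.
* `isSMulRegular_residue_of_fibre`: regularity on a fibre `M_K` over a field `K` with
  `ker (A → K) = p` gives regularity on `M ⊗[A] κ(p)`.
* `mem_nonZeroDivisors_and_flat_quotient_of_fibrewise`: for `A → B` flat of finite presentation and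
  `a : B` fibrewise regular, `a` is a nonzerodivisor and `B ⧸ (a)` is flat over `A`.
* `mem_nonZeroDivisors_of_span_eq`.
-/

set_option autoImplicit false
set_option linter.style.haveILetI false
set_option linter.unusedVariables false
set_option linter.unusedSectionVars false
universe u
open TensorProduct

namespace Groth.Agent.Lib.R2H3.RelCartierAlg

open Groth.Agent.Lib.H9FibreReg Groth.Agent.Lib.R2H3.FibreTors Groth.Agent.Lib.Helper28

theorem isSMulRegular_tensor_of_fibrewise (A B M : Type u) [CommRing A] [CommRing B] [Algebra A B]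
    [Algebra.FinitePresentation A B] [AddCommGroup M] [Module B M] [Module A M]
    [IsScalarTower A B M] [Module.FinitePresentation B M] [Module.Flat A M] (a : B)
    (hfib : ∀ (p : Ideal A) [p.IsPrime], IsSMulRegular (M ⊗[A] p.ResidueField) a)
    (X : Type u) [AddCommGroup X] [Module A X] : IsSMulRegular (M ⊗[A] X) a := by
  classical
  obtain ⟨A₀, _, _, B₀, _, _, _, _, _, _, M₀, _, _, _, _, _, _, _, _, _, f, hA₀, hB₀, hfin, hflat,
    hpush, hbc, hfb, hT⟩ :=
    Groth.Agent.Lib.H9FlatModelElem.exists_flat_module_model_elem A B M {a}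
  obtain ⟨a₀, ha₀⟩ := hT (show a ∈ (({a} : Finset B) : Set B) by simp)
  haveI : IsNoetherianRing A₀ := Algebra.FiniteType.isNoetherianRing ℤ A₀
  haveI : IsNoetherianRing B₀ := Algebra.FiniteType.isNoetherianRing A₀ B₀
  letI mA₀X : Module A₀ X := Module.compHom X (algebraMap A₀ A)
  haveI : IsScalarTower A₀ A X := IsScalarTower.of_algebraMap_smul (fun _ _ => rfl)
  obtain ⟨Θ, hΘbij, hΘadd, hΘtmul, hΘsmul⟩ :=
    exists_equivariant_bijection (B := B) f hfb X
  have hΘ0 : Θ 0 = 0 := by
    have := hΘadd 0 0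
    rw [add_zero] at this
    exact left_eq_add.mp this
  intro m₁ m₂ h12
  rw [← sub_eq_zero]
  set m := m₁ - m₂ with hm
  have ham : a • m = 0 := by
    rw [hm, smul_sub, sub_eq_zero]
    exact h12
  by_contra hne
  have hann : LinearMap.ker (LinearMap.toSpanSingleton B (M ⊗[A] X) m) ≠ ⊤ := by
    intro htop
    apply hne
    have : (1 : B) ∈ LinearMap.ker (LinearMap.toSpanSingleton B (M ⊗[A] X) m) :=
      htop ▸ Submodule.mem_top
    simpa using this
  obtain ⟨q, hqmax, hle⟩ := Ideal.exists_le_maximal _ hann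
  haveI := hqmax.isPrime
  let q₀ : Ideal B₀ := q.comap (algebraMap B₀ B)
  let p : Ideal A := q.comap (algebraMap A B)
  let p₀ : Ideal A₀ := p.comap (algebraMap A₀ A)
  have hp₀ : p₀ = q₀.comap (algebraMap A₀ B₀) := by
    simp only [p₀, p, q₀, Ideal.comap_comap]
    congr 1
    rw [← IsScalarTower.algebraMap_eq, ← IsScalarTower.algebraMap_eq]
  haveI hp₀prime : p₀.IsPrime := Ideal.comap_isPrime _ _
  haveI hq₀prime : q₀.IsPrime := Ideal.comap_isPrime _ _
  haveI hpprime : p.IsPrime := Ideal.comap_isPrime _ _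
  have hA : IsSMulRegular (M ⊗[A] p.ResidueField) a := hfib p
  have hB : IsSMulRegular (M₀ ⊗[A₀] p.ResidueField) a₀ :=
    isSMulRegular_tensor_of_isBaseChange (B := B) f hfb p.ResidueField a₀ (ha₀ ▸ hA)
  let ι : p₀.ResidueField →ₐ[A₀] p.ResidueField :=
    Ideal.ResidueField.mapₐ p₀ p (Algebra.ofId A₀ A) rfl
  have hC : IsSMulRegular (M₀ ⊗[A₀] p₀.ResidueField) a₀ :=
    isSMulRegular_tensor_of_injective ι.toLinearMap ι.toRingHom.injective a₀ hB
  obtain ⟨z, hz⟩ := hΘbij.2 m
  have haz : a₀ • z = 0 := by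
    apply hΘbij.1
    rw [hΘsmul, hz, ha₀, ham, hΘ0]
  obtain ⟨t, ht⟩ := exists_smul_eq_zero_of_fibre_regular a₀ q₀ p₀ hp₀ hC X z haz
  have htm : algebraMap B₀ B (t : B₀) • m = 0 := by
    rw [← hz, ← hΘsmul]
    have : (t : B₀) • z = 0 := ht
    rw [this, hΘ0]
  have hmem : algebraMap B₀ B (t : B₀) ∈ q := hle (by
    rw [LinearMap.mem_ker, LinearMap.toSpanSingleton_apply]
    exact htm)
  exact t.2 hmem

theorem isSMulRegular_residue_of_fibre
    (A B M : Type u) [CommRing A] [CommRing B] [Algebra A B]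
    [AddCommGroup M] [Module B M] [Module A M] [IsScalarTower A B M]
    [Module.Flat A M] (a : B) (p : Ideal A) [p.IsPrime]
    (K BK : Type u) [CommRing K] (hK : IsField K) [CommRing BK] [Algebra A K] [Algebra K BK]
    [Algebra B BK] [Algebra A BK] [IsScalarTower A K BK] [IsScalarTower A B BK]
    [Algebra.IsPushout A K B BK] (hker : RingHom.ker (algebraMap A K) = p)
    (MK : Type u) [AddCommGroup MK] [Module BK MK] [Module B MK] [IsScalarTower B BK MK]
    (φ : M →ₗ[B] MK) (hφ : IsBaseChange BK φ)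
    (hreg : IsSMulRegular MK (algebraMap B BK a)) :
    IsSMulRegular (M ⊗[A] p.ResidueField) a := by
  classical
  haveI : Nontrivial K := hK.nontrivial
  obtain ⟨Ψ, hΨbij, hΨadd, hΨtmul, hΨsmul⟩ :=
    exists_equivariant_bijection_pushout (A := A) (A' := K) (B := B) (B' := BK) φ hφ
  have hregK : IsSMulRegular (M ⊗[A] K) a := by
    intro z z' hzz
    apply hΨbij.1
    apply hreg
    change algebraMap B BK a • Ψ z = algebraMap B BK a • Ψ z'
    rw [← hΨsmul, ← hΨsmul]
    exact congrArg Ψ hzz
  have hf₁ : p ≤ RingHom.ker (Algebra.ofId A K) := by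
    intro x hx
    rw [← hker] at hx
    exact hx
  have hf₂ : p.primeCompl ≤ (IsUnit.submonoid K).comap (Algebra.ofId A K) := by
    intro x hx
    have hx0 : algebraMap A K x ≠ 0 := by
      intro h0
      apply hx
      rw [← hker]
      exact h0
    obtain ⟨y, hy⟩ := hK.mul_inv_cancel hx0
    exact IsUnit.of_mul_eq_one y hy
  let ι : p.ResidueField →ₐ[A] K := Ideal.ResidueField.liftₐ p (Algebra.ofId A K) hf₁ hf₂
  exact isSMulRegular_tensor_of_injective ι.toLinearMap ι.toRingHom.injective a hregK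

open nonZeroDivisors in
theorem mem_nonZeroDivisors_of_span_eq {R : Type*} [CommRing R] {f g : R} (hf : f ∈ R⁰)
    (h : Ideal.span {f} = Ideal.span {g}) : g ∈ R⁰ := by
  have hfg : f ∈ Ideal.span {g} := h ▸ Ideal.subset_span (Set.mem_singleton f)
  obtain ⟨v, hv⟩ := Ideal.mem_span_singleton'.1 hfg
  rw [mem_nonZeroDivisors_iff_right]
  intro c hc
  apply (mem_nonZeroDivisors_iff_right.1 hf) c
  rw [← hv, mul_comm v g, ← mul_assoc, hc, zero_mul]

open nonZeroDivisors in
theorem mem_nonZeroDivisors_and_flat_quotient_of_fibrewise (A B : Type u) [CommRing A] [CommRing B]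
    [Algebra A B] [Algebra.FinitePresentation A B] [Module.Flat A B] (a : B)
    (hfib : ∀ (p : Ideal A) [p.IsPrime], IsSMulRegular (B ⊗[A] p.ResidueField) a) :
    a ∈ B⁰ ∧ Module.Flat A (B ⧸ Ideal.span {a}) := by
  constructor
  · have h1 : IsSMulRegular B a := isSMulRegular_of_fibrewise A B B a hfib
    rw [mem_nonZeroDivisors_iff_right]
    intro c hc
    apply h1
    change a * c = a * 0
    rw [mul_zero, mul_comm, hc]
  · let θ : B →ₗ[A] B := ymap A B a
    let π : B →ₗ[A] (B ⧸ Ideal.span {a}) := (Ideal.Quotient.mkₐ A (Ideal.span {a})).toLinearMap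
    have hπ : Function.Surjective π := Ideal.Quotient.mk_surjective
    have hθπ : Function.Exact θ π := by
      intro b
      constructor
      · intro hb
        have hb' : b ∈ Ideal.span {a} := Ideal.Quotient.eq_zero_iff_mem.1 hb
        obtain ⟨c, hc⟩ := Ideal.mem_span_singleton'.1 hb'
        exact ⟨c, by rw [← hc, mul_comm]; rfl⟩
      · rintro ⟨c, rfl⟩
        apply Ideal.Quotient.eq_zero_iff_mem.2
        exact Ideal.mul_mem_right c _ (Ideal.subset_span (Set.mem_singleton a))
    refine flat_of_exact_of_rTensor_injective θ π hπ hθπ ?_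
    intro X _ _ _
    rw [← isSMulRegular_tensor_iff]
    exact isSMulRegular_tensor_of_fibrewise A B B a hfib X

end Groth.Agent.Lib.R2H3.RelCartierAlg
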