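import Mathlib
import Groth.Agent.Lib.R2H3RelCartierAlg
import Groth.Agent.Lib.Helper3FlatOpenFP
import Groth.Agent.Lib.H9NzdFibre
import Groth.Agent.Lib.Helper3FlatLocA
import Groth.Agent.Lib.Helper28DepthFlat

/-!
# Regular sequences on the fibre lift to regular sequences with flat quotients (helper4, round 2)

EGA IV 11.3.8-type statement, non-Noetherian, local at a prime `q` of a finitely presented algebra
`A → B`, for a finitely presented `B`-module `M` with `M_q` flat over `A`.

* `exists_smul_eq_zero_of_fibre_regular_fp`: single-prime version of helper3's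
  `isSMulRegular_tensor_of_fibrewise` (flat f.p. module, regular on the fibre over `p = q ∩ A`).
* `exists_away_flat`, `exists_annihilator_fibre_kernel`: shrinking steps.
* `exists_smul_eq_zero_of_local`: local core (only `M_q` flat, `a` regular on `(M ⊗ κ(p))_q`).
* `isSMulRegular_localizedModule_of`, `flat_localizedModule_quotSMulTop_of`: consequences.
* `quotSMulTopLocalizedEquiv`, `flat_localizedModule_congr`: localization/quotient plumbing.
* `main_aux`, `main` (= S2586).
-/

set_option autoImplicit false
set_option linter.style.haveILetI false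
universe u
open TensorProduct
open scoped Pointwise

namespace Groth.Agent.Lib.R2H4.FibRegSeq

section FR1


open Groth.Agent.Lib.H9FibreReg Groth.Agent.Lib.R2H3.FibreTors Groth.Agent.Lib.Helper28

/-- single-prime version of helper3's `isSMulRegular_tensor_of_fibrewise`: regularity of `a` on the
fibre of a flat finitely presented module over `p = q ∩ A` makes `a`-torsion of `M ⊗[A] X`
vanish near `q`. -/
theorem exists_smul_eq_zero_of_fibre_regular_fp (A B M : Type u) [CommRing A] [CommRing B]
    [Algebra A B] [Algebra.FinitePresentation A B] [AddCommGroup M] [Module B M] [Module A M]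
    [IsScalarTower A B M] [Module.FinitePresentation B M] [Module.Flat A M] (a : B)
    (q : Ideal B) [q.IsPrime] (p : Ideal A) [p.IsPrime] (hp : p = q.comap (algebraMap A B))
    (hfib : IsSMulRegular (M ⊗[A] p.ResidueField) a)
    (X : Type u) [AddCommGroup X] [Module A X] (z : M ⊗[A] X) (hz : a • z = 0) :
    ∃ t : B, t ∉ q ∧ t • z = 0 := by
  classical
  obtain ⟨A₀, _, _, B₀, _, _, _, _, _, _, M₀, _, _, _, _, _, _, _, _, _, f, hA₀, hB₀, hfin, hflat,
    hpush, hbc, hfb, hT⟩ :=
    Groth.Agent.Lib.H9FlatModelElem.exists_flat_module_model_elem A B M {a}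
  obtain ⟨a₀, ha₀⟩ := hT (show a ∈ (({a} : Finset B) : Set B) by simp)
  haveI : IsNoetherianRing A₀ := Algebra.FiniteType.isNoetherianRing ℤ A₀
  haveI : IsNoetherianRing B₀ := Algebra.FiniteType.isNoetherianRing A₀ B₀
  letI mA₀X : Module A₀ X := Module.compHom X (algebraMap A₀ A)
  haveI : IsScalarTower A₀ A X := IsScalarTower.of_algebraMap_smul (fun _ _ => rfl)
  obtain ⟨Θ, hΘbij, hΘadd, hΘtmul, hΘsmul⟩ :=
    exists_equivariant_bijection (B := B) f hfb X
  have hΘ0 : Θ 0 = 0 := by
    have := hΘadd 0 0
    rw [add_zero] at this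
    exact left_eq_add.mp this
  let q₀ : Ideal B₀ := q.comap (algebraMap B₀ B)
  let p₀ : Ideal A₀ := p.comap (algebraMap A₀ A)
  have hp₀ : p₀ = q₀.comap (algebraMap A₀ B₀) := by
    simp only [p₀, hp, q₀, Ideal.comap_comap]
    congr 1
    rw [← IsScalarTower.algebraMap_eq, ← IsScalarTower.algebraMap_eq]
  haveI hp₀prime : p₀.IsPrime := Ideal.comap_isPrime _ _
  haveI hq₀prime : q₀.IsPrime := Ideal.comap_isPrime _ _
  have hA : IsSMulRegular (M ⊗[A] p.ResidueField) a := hfib
  have hB : IsSMulRegular (M₀ ⊗[A₀] p.ResidueField) a₀ :=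
    isSMulRegular_tensor_of_isBaseChange (B := B) f hfb p.ResidueField a₀ (ha₀ ▸ hA)
  let ι : p₀.ResidueField →ₐ[A₀] p.ResidueField :=
    Ideal.ResidueField.mapₐ p₀ p (Algebra.ofId A₀ A) rfl
  have hC : IsSMulRegular (M₀ ⊗[A₀] p₀.ResidueField) a₀ :=
    isSMulRegular_tensor_of_injective ι.toLinearMap ι.toRingHom.injective a₀ hB
  obtain ⟨z₀, hz₀⟩ := hΘbij.2 z
  have haz : a₀ • z₀ = 0 := by
    apply hΘbij.1
    rw [hΘsmul, hz₀, ha₀, hz, hΘ0]
  obtain ⟨t, ht⟩ := exists_smul_eq_zero_of_fibre_regular a₀ q₀ p₀ hp₀ hC X z₀ haz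
  refine ⟨algebraMap B₀ B (t : B₀), t.2, ?_⟩
  rw [← hz₀, ← hΘsmul]
  have : (t : B₀) • z₀ = 0 := ht
  rw [this, hΘ0]


end FR1

section FR2


open Groth.Agent.Lib.H9FibreReg

/-- flatness at `q` spreads to a basic open neighbourhood -/
theorem exists_away_flat (A B M : Type u) [CommRing A] [CommRing B]
    [Algebra A B] [Algebra.FinitePresentation A B] [AddCommGroup M] [Module B M] [Module A M]
    [IsScalarTower A B M] [Module.FinitePresentation B M] (q : Ideal B) [q.IsPrime]
    (hflat : Module.Flat A (LocalizedModule q.primeCompl M)) :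
    ∃ h : B, h ∉ q ∧ ∀ h' : B, Module.Flat A (LocalizedModule (Submonoid.powers (h * h')) M) := by
  have hopen := Groth.Agent.Lib.Helper3.FlatOpen.isOpen_flatLocus_of_finitePresentation
    (R := A) (S := B) (M := M)
  have hmem : (⟨q, inferInstance⟩ : PrimeSpectrum B) ∈
      {q : PrimeSpectrum B | Module.Flat A (LocalizedModule q.asIdeal.primeCompl M)} := hflat
  obtain ⟨_, ⟨h, rfl⟩, hhq, hsub⟩ :=
    PrimeSpectrum.isTopologicalBasis_basic_opens.exists_subset_of_mem_open hmem hopen
  refine ⟨h, hhq, fun h' => ?_⟩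
  apply Groth.Agent.Lib.H9NzdFibre.flat_away_of_forall_prime
  intro r hr hnot
  exact hsub (show (⟨r, hr⟩ : PrimeSpectrum B) ∈ (PrimeSpectrum.basicOpen h : Set _) from
    fun hmem => hnot (r.mul_mem_right h' hmem))

/-- the kernel of `a` on the fibre module is killed by a single element outside `q` -/
theorem exists_annihilator_fibre_kernel (A B M : Type u) [CommRing A] [CommRing B]
    [Algebra A B] [Algebra.FiniteType A B] [AddCommGroup M] [Module B M] [Module A M]
    [IsScalarTower A B M] [Module.Finite B M] (q : Ideal B) [q.IsPrime]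
    (p : Ideal A) [p.IsPrime] (a : B)
    (hreg : ∀ y : M ⊗[A] p.ResidueField, a • y = 0 → ∃ s ∈ q.primeCompl, s • y = 0) :
    ∃ h : B, h ∉ q ∧ ∀ y : M ⊗[A] p.ResidueField, a • y = 0 → h • y = 0 := by
  classical
  let κ := p.ResidueField
  let C := B ⊗[A] κ
  haveI : IsNoetherianRing C := isNoetherianRing_fibre A B κ
  let N := C ⊗[B] M
  haveI : Module.Finite C N := inferInstance
  haveI : IsNoetherian C N := isNoetherian_of_isNoetherianRing_of_finite C N
  let Ψ : N ≃ₗ[B] M ⊗[A] κ :=
    (TensorProduct.comm B C M) ≪≫ₗ (AlgebraTensorModule.cancelBaseChange A B B M κ)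
  have hsm : ∀ (b : B) (n : N), (b ⊗ₜ[A] (1 : κ) : C) • n = b • n := by
    intro b n
    rw [← algebraMap_smul C b n, Algebra.TensorProduct.algebraMap_apply,
      Algebra.algebraMap_self_apply]
  let K' : Submodule C N := LinearMap.ker (LinearMap.lsmul C N (a ⊗ₜ[A] (1 : κ)))
  have hK'fg : K'.FG := IsNoetherian.noetherian K'
  obtain ⟨gens, hgens⟩ := hK'fg
  have hk : ∀ k : N, k ∈ gens → ∃ s ∈ q.primeCompl, s • k = 0 := by
    intro k hk
    have hkK : k ∈ K' := hgens ▸ Submodule.subset_span hk
    have h1 : (a ⊗ₜ[A] (1 : κ) : C) • k = 0 := hkK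
    rw [hsm] at h1
    have h2 : a • Ψ k = 0 := by rw [← map_smul, h1, map_zero]
    obtain ⟨s, hs, hs'⟩ := hreg (Ψ k) h2
    refine ⟨s, hs, ?_⟩
    apply Ψ.injective
    rw [map_smul, hs', map_zero]
  choose! s hs hs' using hk
  let h : B := ∏ k ∈ gens, s k
  have hh : h ∈ q.primeCompl := Submonoid.prod_mem _ (fun k hk => hs k hk)
  refine ⟨h, hh, ?_⟩
  have hkill : ∀ n ∈ K', h • n = 0 := by
    intro n hn
    rw [← hgens] at hn
    induction hn using Submodule.span_induction with
    | mem k hk =>
      have : h = (∏ k' ∈ gens.erase k, s k') * s k := by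
        rw [mul_comm]
        exact (Finset.mul_prod_erase gens s hk).symm
      rw [this, mul_smul, hs' k hk, smul_zero]
    | zero => rw [smul_zero]
    | add x y _ _ hx hy => rw [smul_add, hx, hy, add_zero]
    | smul c x _ hx =>
      rw [← hsm, smul_smul, mul_comm, ← smul_smul, hsm, hx, smul_zero]
  intro y hy
  have hn : Ψ.symm y ∈ K' := by
    change (a ⊗ₜ[A] (1 : κ) : C) • Ψ.symm y = 0
    rw [hsm, ← map_smul, hy, map_zero]
  have := hkill _ hn
  rw [← map_smul] at this
  simpa using congrArg Ψ this


end FR2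

section FR3


open Groth.Agent.Lib.Helper3.FlatLoc

/-- **local core**: `M_q` flat over `A` and `a` regular on `(M ⊗ κ(p))_q` (unlocalized form) make
the `a`-torsion of every `M ⊗[A] X` vanish near `q`. -/
theorem exists_smul_eq_zero_of_local (A B M : Type u) [CommRing A] [CommRing B]
    [Algebra A B] [Algebra.FinitePresentation A B] [AddCommGroup M] [Module B M] [Module A M]
    [IsScalarTower A B M] [Module.FinitePresentation B M] (q : Ideal B) [q.IsPrime]
    (p : Ideal A) [p.IsPrime] (hp : p = q.comap (algebraMap A B)) (a : B)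
    (hflat : Module.Flat A (LocalizedModule q.primeCompl M))
    (hreg : ∀ y : M ⊗[A] p.ResidueField, a • y = 0 → ∃ s ∈ q.primeCompl, s • y = 0)
    (X : Type u) [AddCommGroup X] [Module A X] (z : M ⊗[A] X) (hz : a • z = 0) :
    ∃ t ∈ q.primeCompl, t • z = 0 := by
  obtain ⟨h₁, hh₁, hfl₁⟩ := exists_away_flat A B M q hflat
  obtain ⟨h₂, hh₂, hk⟩ := exists_annihilator_fibre_kernel A B M q p a hreg
  set h : B := h₁ * h₂ with hh
  have hhq : h ∉ q := fun hmem => (Ideal.IsPrime.mem_or_mem inferInstance hmem).elim hh₁ hh₂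
  let S : Submonoid B := Submonoid.powers h
  have hdisj : Disjoint (S : Set B) (q : Set B) := by
    rw [Set.disjoint_left]
    rintro x ⟨n, rfl⟩ hx
    exact hhq (Ideal.IsPrime.mem_of_pow_mem inferInstance n hx)
  let B' := Localization.Away h
  let M' := LocalizedModule S M
  haveI : Module.Flat A M' := hfl₁ h₂
  haveI : Algebra.FinitePresentation A B' := Algebra.FinitePresentation.trans A B B'
  let q' : Ideal B' := Ideal.map (algebraMap B B') q
  haveI hq'prime : q'.IsPrime := IsLocalization.isPrime_of_isPrime_disjoint S B' q inferInstance hdisj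
  have hq'comap : q'.comap (algebraMap B B') = q :=
    IsLocalization.under_map_of_isPrime_disjoint S B' inferInstance hdisj
  have hp' : p = q'.comap (algebraMap A B') := by
    rw [IsScalarTower.algebraMap_eq A B B', ← Ideal.comap_comap, hq'comap, hp]
  -- regularity on the fibre of `M'`
  let ℓκ : M ⊗[A] p.ResidueField →ₗ[B] M' ⊗[A] p.ResidueField :=
    AlgebraTensorModule.rTensor A p.ResidueField (LocalizedModule.mkLinearMap S M)
  have hinj : Function.Injective (IsLocalizedModule.map S ℓκ ℓκ (a • LinearMap.id)) := by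
    rw [isLocalizedModule_map_injective_iff]
    intro y hy
    refine ⟨h, ⟨1, pow_one h⟩, ?_⟩
    have : h₂ • y = 0 := hk y (by simpa using hy)
    rw [hh, mul_smul, this, smul_zero]
  rw [map_smul, IsLocalizedModule.map_id] at hinj
  have hfib : IsSMulRegular (M' ⊗[A] p.ResidueField) (algebraMap B B' a) := by
    intro y₁ y₂ h12
    apply hinj
    simp only [LinearMap.smul_apply, LinearMap.id_coe, id_eq]
    rw [← algebraMap_smul B' a y₁, ← algebraMap_smul B' a y₂]
    exact h12
  -- apply the finitely presented flat case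
  let ℓX : M ⊗[A] X →ₗ[B] M' ⊗[A] X :=
    AlgebraTensorModule.rTensor A X (LocalizedModule.mkLinearMap S M)
  have hz' : algebraMap B B' a • ℓX z = 0 := by
    rw [algebraMap_smul, ← map_smul, hz, map_zero]
  obtain ⟨t', ht', ht'z⟩ := exists_smul_eq_zero_of_fibre_regular_fp A B' M' (algebraMap B B' a)
    q' p hp' hfib X (ℓX z) hz'
  obtain ⟨⟨b, s⟩, hbs⟩ := IsLocalization.surj S t'
  have hbq : b ∉ q := by
    intro hb
    apply ht'
    have h1 : t' * algebraMap B B' s ∈ q' := by
      rw [hbs]
      exact Ideal.mem_map_of_mem _ hb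
    rcases hq'prime.mem_or_mem h1 with h2 | h2
    · exact h2
    · exfalso
      have : (s : B) ∈ q := by
        rw [← hq'comap]
        exact h2
      exact Set.disjoint_left.mp hdisj s.2 this
  have hbz : ℓX (b • z) = 0 := by
    rw [map_smul, ← algebraMap_smul B' b (ℓX z), ← hbs, mul_comm, mul_smul, ht'z, smul_zero]
  obtain ⟨c, hc⟩ := (IsLocalizedModule.eq_zero_iff S ℓX).mp hbz
  refine ⟨(c : B) * b, ?_, ?_⟩
  · intro hmem
    rcases Ideal.IsPrime.mem_or_mem inferInstance hmem with h1 | h1
    · exact Set.disjoint_left.mp hdisj c.2 h1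
    · exact hbq h1
  · rw [mul_smul]
    exact hc


end FR3

section FR4


open Groth.Agent.Lib.Helper3.FlatLoc

section Conseq

variable {A B M : Type u} [CommRing A] [CommRing B] [Algebra A B] [AddCommGroup M] [Module B M]
  [Module A M] [IsScalarTower A B M] (T : Submonoid B) (a : B)

/-- `a`-torsion of `M ⊗ X` is `T`-torsion ⇒ `a` is injective on `M_T ⊗ X`. -/
theorem smul_injective_localizedModule_tensor (X : Type u) [AddCommGroup X] [Module A X]
    (HG : ∀ z : M ⊗[A] X, a • z = 0 → ∃ t ∈ T, t • z = 0) :
    Function.Injective (fun y : LocalizedModule T M ⊗[A] X => a • y) := by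
  let ℓX : M ⊗[A] X →ₗ[B] LocalizedModule T M ⊗[A] X :=
    AlgebraTensorModule.rTensor A X (LocalizedModule.mkLinearMap T M)
  have hinj : Function.Injective (IsLocalizedModule.map T ℓX ℓX (a • LinearMap.id)) := by
    rw [isLocalizedModule_map_injective_iff]
    intro y hy
    exact HG y (by simpa using hy)
  rw [map_smul, IsLocalizedModule.map_id] at hinj
  intro y₁ y₂ h12
  apply hinj
  simpa using h12

theorem isSMulRegular_localizedModule_of
    (HG : ∀ z : M ⊗[A] A, a • z = 0 → ∃ t ∈ T, t • z = 0) :
    IsSMulRegular (LocalizedModule T M) a := by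
  have hinj : Function.Injective (IsLocalizedModule.map T (LocalizedModule.mkLinearMap T M)
      (LocalizedModule.mkLinearMap T M) (a • LinearMap.id)) := by
    rw [isLocalizedModule_map_injective_iff]
    intro m hm
    have hm' : a • m = 0 := by simpa using hm
    obtain ⟨t, ht, htz⟩ := HG (m ⊗ₜ[A] (1 : A)) (by rw [TensorProduct.smul_tmul', hm', zero_tmul])
    refine ⟨t, ht, ?_⟩
    rw [TensorProduct.smul_tmul'] at htz
    have := congrArg (TensorProduct.rid A M) htz
    simpa using this
  rw [map_smul, IsLocalizedModule.map_id] at hinj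
  intro y₁ y₂ h12
  apply hinj
  simpa using h12

theorem flat_localizedModule_quotSMulTop_of [Module.Flat A (LocalizedModule T M)]
    (HG : ∀ (X : Type u) [AddCommGroup X] [Module A X] (z : M ⊗[A] X),
      a • z = 0 → ∃ t ∈ T, t • z = 0) :
    Module.Flat A (LocalizedModule T (QuotSMulTop a M)) := by
  let g : M →ₗ[B] M := a • LinearMap.id
  let hq : M →ₗ[B] QuotSMulTop a M := Submodule.mkQ _
  have hex : Function.Exact g hq := by
    intro m
    change Submodule.Quotient.mk m = 0 ↔ _
    rw [Submodule.Quotient.mk_eq_zero, Submodule.mem_smul_pointwise_iff_exists]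
    constructor
    · rintro ⟨m', -, rfl⟩
      exact ⟨m', rfl⟩
    · rintro ⟨m', rfl⟩
      exact ⟨m', Submodule.mem_top, rfl⟩
  let θB := IsLocalizedModule.map T (LocalizedModule.mkLinearMap T M)
      (LocalizedModule.mkLinearMap T M) g
  let πB := IsLocalizedModule.map T (LocalizedModule.mkLinearMap T M)
      (LocalizedModule.mkLinearMap T (QuotSMulTop a M)) hq
  have hexloc : Function.Exact θB πB := LocalizedModule.map_exact T g hq hex
  have hπsurj : Function.Surjective πB :=
    IsLocalizedModule.map_surjective T _ _ hq (Submodule.mkQ_surjective _)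
  have hθ : ∀ y, θB y = a • y := by
    intro y
    simp only [θB, g, map_smul, IsLocalizedModule.map_id, LinearMap.smul_apply, LinearMap.id_coe,
      id_eq]
  refine Groth.Agent.Lib.Helper28.flat_of_exact_of_rTensor_injective (R := A)
    (N := LocalizedModule T M) (θB.restrictScalars A) (πB.restrictScalars A) hπsurj hexloc ?_
  intro X _ _ _
  have hinj := smul_injective_localizedModule_tensor (A := A) T a X (HG X)
  have hcomp : ∀ y, (θB.restrictScalars A).rTensor X y = a • y := by
    intro y
    induction y using TensorProduct.induction_on with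
    | zero => simp
    | tmul m x =>
      rw [LinearMap.rTensor_tmul, LinearMap.restrictScalars_apply, hθ, TensorProduct.smul_tmul']
    | add y₁ y₂ h₁ h₂ => rw [map_add, h₁, h₂, smul_add]
  intro y₁ y₂ h12
  apply hinj
  simp only
  rw [← hcomp, ← hcomp, h12]

end Conseq


end FR4

section FR5


section LemQ

variable {B : Type u} [CommRing B] (T : Submonoid B) (a : B)
  {N N' : Type u} [AddCommGroup N] [Module B N] [AddCommGroup N'] [Module B N']

/-- localization commutes with the quotient by `a`, in the form: a cokernel of `a` on `N`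
localizes to a cokernel of `a` on `N_T`. -/
noncomputable def quotSMulTopLocalizedEquiv (π : N →ₗ[B] N') (hπ : Function.Surjective π)
    (hex : Function.Exact (a • (LinearMap.id : N →ₗ[B] N)) π) :
    QuotSMulTop a (LocalizedModule T N) ≃ₗ[B] LocalizedModule T N' := by
  let θB := IsLocalizedModule.map T (LocalizedModule.mkLinearMap T N)
      (LocalizedModule.mkLinearMap T N) (a • (LinearMap.id : N →ₗ[B] N))
  let πB := IsLocalizedModule.map T (LocalizedModule.mkLinearMap T N)
      (LocalizedModule.mkLinearMap T N') π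
  have hexloc : Function.Exact θB πB := LocalizedModule.map_exact T _ π hex
  have hπsurj : Function.Surjective πB := IsLocalizedModule.map_surjective T _ _ π hπ
  have hθ : ∀ y, θB y = a • y := by
    intro y
    simp only [θB, map_smul, IsLocalizedModule.map_id, LinearMap.smul_apply, LinearMap.id_coe,
      id_eq]
  have hker : (a • (⊤ : Submodule B (LocalizedModule T N))) = LinearMap.ker πB := by
    ext y
    rw [LinearMap.mem_ker, hexloc y, Submodule.mem_smul_pointwise_iff_exists]
    constructor
    · rintro ⟨m', -, rfl⟩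
      exact ⟨m', hθ m'⟩
    · rintro ⟨m', rfl⟩
      exact ⟨m', Submodule.mem_top, (hθ m').symm⟩
  exact (Submodule.quotEquivOfEq _ _ hker).trans (πB.quotKerEquivOfSurjective hπsurj)

theorem exact_smul_mkQ : Function.Exact (a • (LinearMap.id : N →ₗ[B] N))
    (Submodule.mkQ (a • (⊤ : Submodule B N))) := by
  intro m
  change Submodule.Quotient.mk m = 0 ↔ _
  rw [Submodule.Quotient.mk_eq_zero, Submodule.mem_smul_pointwise_iff_exists]
  constructor
  · rintro ⟨m', -, rfl⟩
    exact ⟨m', rfl⟩
  · rintro ⟨m', rfl⟩
    exact ⟨m', Submodule.mem_top, rfl⟩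

/-- transport of flatness of a localized module along an isomorphism -/
theorem flat_localizedModule_congr {A : Type u} [CommRing A] [Algebra A B] [Module A N]
    [IsScalarTower A B N] [Module A N'] [IsScalarTower A B N'] (e : N ≃ₗ[B] N')
    (h : Module.Flat A (LocalizedModule T N)) : Module.Flat A (LocalizedModule T N') := by
  let f : N →ₗ[B] LocalizedModule T N' := (LocalizedModule.mkLinearMap T N') ∘ₗ e.toLinearMap
  haveI : IsLocalizedModule T f := IsLocalizedModule.of_linearEquiv_right T
    (LocalizedModule.mkLinearMap T N') e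
  let e' : LocalizedModule T N ≃ₗ[B] LocalizedModule T N' := IsLocalizedModule.iso T f
  exact Module.Flat.of_linearEquiv (e'.restrictScalars A).symm

end LemQ


end FR5

section FR6


open RingTheory.Sequence

section Aux

variable {A B M : Type u} [CommRing A] [CommRing B] [Algebra A B] [AddCommGroup M] [Module B M]
  [Module A M] [IsScalarTower A B M] (T : Submonoid B)

/-- if `M_T = 0` then `(M ⊗ X)_T = 0` -/
theorem subsingleton_localizedModule_tensor (X : Type u) [AddCommGroup X] [Module A X]
    (h : Subsingleton (LocalizedModule T M)) :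
    Subsingleton (LocalizedModule T (M ⊗[A] X)) := by
  have hm : ∀ m : M, ∃ s ∈ T, s • m = 0 := by
    intro m
    have h0 : LocalizedModule.mkLinearMap T M m = 0 := Subsingleton.elim _ _
    obtain ⟨c, hc⟩ := (IsLocalizedModule.eq_zero_iff T (LocalizedModule.mkLinearMap T M)).mp h0
    exact ⟨c.1, c.2, hc⟩
  have hz : ∀ z : M ⊗[A] X, ∃ s ∈ T, s • z = 0 := by
    intro z
    induction z using TensorProduct.induction_on with
    | zero => exact ⟨1, T.one_mem, smul_zero _⟩
    | tmul m x =>
      obtain ⟨s, hs, hsm⟩ := hm m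
      exact ⟨s, hs, by rw [TensorProduct.smul_tmul', hsm, zero_tmul]⟩
    | add z₁ z₂ h₁ h₂ =>
      obtain ⟨s₁, hs₁, h₁⟩ := h₁
      obtain ⟨s₂, hs₂, h₂⟩ := h₂
      refine ⟨s₁ * s₂, T.mul_mem hs₁ hs₂, ?_⟩
      rw [smul_add, mul_smul s₁ s₂ z₂, h₂, smul_zero, add_zero, mul_comm, mul_smul, h₁, smul_zero]
  refine ⟨fun x y => ?_⟩
  have key : ∀ w : LocalizedModule T (M ⊗[A] X), w = 0 := by
    intro w
    induction w using LocalizedModule.induction_on with
    | h z s =>
      obtain ⟨t, ht, htz⟩ := hz z
      rw [← LocalizedModule.zero_mk s, LocalizedModule.mk_eq]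
      refine ⟨⟨t, ht⟩, ?_⟩
      change t • s • z = t • (1 : T) • (0 : M ⊗[A] X)
      rw [smul_zero, smul_zero, smul_comm, htz, smul_zero]
  rw [key x, key y]

/-- exactness of the fibre sequence -/
theorem exact_smul_rTensor_mkQ (a : B) (X : Type u) [AddCommGroup X] [Module A X] :
    Function.Exact (a • (LinearMap.id : M ⊗[A] X →ₗ[B] M ⊗[A] X))
      (AlgebraTensorModule.rTensor A X (Submodule.mkQ (a • (⊤ : Submodule B M)))) := by
  let f₀ : M →ₗ[A] M := (a • (LinearMap.id : M →ₗ[B] M)).restrictScalars A
  let g₀ : M →ₗ[A] QuotSMulTop a M := (Submodule.mkQ (a • (⊤ : Submodule B M))).restrictScalars A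
  have hfg : Function.Exact f₀ g₀ := exact_smul_mkQ (N := M) a
  have hg : Function.Surjective g₀ := Submodule.mkQ_surjective _
  have hex := rTensor_exact X hfg hg
  have hf : ∀ y, f₀.rTensor X y = a • y := by
    intro y
    induction y using TensorProduct.induction_on with
    | zero => simp
    | tmul m x =>
      rw [LinearMap.rTensor_tmul, TensorProduct.smul_tmul']
      rfl
    | add y₁ y₂ h₁ h₂ => rw [map_add, h₁, h₂, smul_add]
  intro y
  have h1 := hex y
  constructor
  · intro hy
    obtain ⟨w, hw⟩ := h1.mp hy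
    exact ⟨w, by rw [← hw, hf]; rfl⟩
  · rintro ⟨w, rfl⟩
    apply h1.mpr
    exact ⟨w, by rw [hf]; rfl⟩

end Aux

theorem main_aux (A B : Type u) [CommRing A] [CommRing B] [Algebra A B]
    [Algebra.FinitePresentation A B] (q : Ideal B) [q.IsPrime] (p : Ideal A) [p.IsPrime]
    (hp : p = q.comap (algebraMap A B)) (g : List B) :
    ∀ (M : Type u) [AddCommGroup M] [Module B M] [Module A M] [IsScalarTower A B M]
      [Module.FinitePresentation B M],
      Module.Flat A (LocalizedModule q.primeCompl M) →
      IsRegular (LocalizedModule q.primeCompl (M ⊗[A] p.ResidueField)) g →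
      IsRegular (LocalizedModule q.primeCompl M) g ∧
        ∀ i ≤ g.length, Module.Flat A (LocalizedModule q.primeCompl
          (M ⧸ (Ideal.ofList (g.take i) • (⊤ : Submodule B M)))) := by
  set T := q.primeCompl with hT
  have hzero : ∀ (M : Type u) [AddCommGroup M] [Module B M] [Module A M] [IsScalarTower A B M]
      (l : List B), Module.Flat A (LocalizedModule T M) →
      Module.Flat A (LocalizedModule T (M ⧸ (Ideal.ofList (l.take 0) • (⊤ : Submodule B M)))) := by
    intro M _ _ _ _ l hflat
    have hbot : (Ideal.ofList (l.take 0) • (⊤ : Submodule B M)) = ⊥ := by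
      rw [List.take_zero, Ideal.ofList_nil, Submodule.bot_smul]
    exact flat_localizedModule_congr T (Submodule.quotEquivOfEqBot _ hbot).symm hflat
  induction g with
  | nil =>
    intro M _ _ _ _ _ hflat hreg
    have hnt : Nontrivial (LocalizedModule T M) := by
      by_contra hcon
      rw [not_nontrivial_iff_subsingleton] at hcon
      haveI := subsingleton_localizedModule_tensor (A := A) T p.ResidueField hcon
      haveI := hreg.nontrivial
      exact false_of_nontrivial_of_subsingleton (LocalizedModule T (M ⊗[A] p.ResidueField))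
    refine ⟨IsRegular.nil B _, ?_⟩
    intro i hi
    have : i = 0 := by simpa using hi
    subst this
    exact hzero M [] hflat
  | cons a gs ih =>
    intro M _ _ _ _ _ hflat hreg
    obtain ⟨h1, h2⟩ := (isRegular_cons_iff _ a gs).mp hreg
    -- unlocalized regularity on the fibre
    have hreg_unloc : ∀ y : M ⊗[A] p.ResidueField, a • y = 0 → ∃ s ∈ T, s • y = 0 := by
      intro y hy
      have h0 : LocalizedModule.mkLinearMap T (M ⊗[A] p.ResidueField) y = 0 := by
        apply h1
        change a • _ = a • 0
        rw [smul_zero, ← map_smul, hy, map_zero]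
      obtain ⟨c, hc⟩ := (IsLocalizedModule.eq_zero_iff T (LocalizedModule.mkLinearMap T _)).mp h0
      exact ⟨c.1, c.2, hc⟩
    have HG : ∀ (X : Type u) [AddCommGroup X] [Module A X] (z : M ⊗[A] X),
        a • z = 0 → ∃ t ∈ T, t • z = 0 := fun X _ _ z hz =>
      exists_smul_eq_zero_of_local A B M q p hp a hflat hreg_unloc X z hz
    have C1 : IsSMulRegular (LocalizedModule T M) a :=
      isSMulRegular_localizedModule_of (A := A) T a (HG A)
    haveI := hflat
    have C2 : Module.Flat A (LocalizedModule T (QuotSMulTop a M)) :=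
      flat_localizedModule_quotSMulTop_of T a HG
    haveI : Module.FinitePresentation B (QuotSMulTop a M) := by
      refine Module.finitePresentation_of_surjective (Submodule.mkQ (a • (⊤ : Submodule B M)))
        (Submodule.mkQ_surjective _) ?_
      rw [Submodule.ker_mkQ]
      have : (a • (⊤ : Submodule B M)) = Submodule.map (a • (LinearMap.id : M →ₗ[B] M)) ⊤ := by
        ext x
        rw [Submodule.mem_smul_pointwise_iff_exists]
        simp
      rw [this]
      exact Submodule.FG.map _ (Module.Finite.fg_top)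
    -- the fibre of the quotient
    let e₂ : QuotSMulTop a (LocalizedModule T (M ⊗[A] p.ResidueField)) ≃ₗ[B]
        LocalizedModule T (QuotSMulTop a M ⊗[A] p.ResidueField) :=
      quotSMulTopLocalizedEquiv T a
        (AlgebraTensorModule.rTensor A p.ResidueField (Submodule.mkQ (a • (⊤ : Submodule B M))))
        (LinearMap.rTensor_surjective p.ResidueField
          (g := (Submodule.mkQ (a • (⊤ : Submodule B M))).restrictScalars A)
          (Submodule.mkQ_surjective _))
        (exact_smul_rTensor_mkQ a p.ResidueField)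
    have hreg' : IsRegular (LocalizedModule T (QuotSMulTop a M ⊗[A] p.ResidueField)) gs :=
      (e₂.isRegular_congr gs).mp h2
    obtain ⟨ih1, ih2⟩ := ih (QuotSMulTop a M) C2 hreg'
    let e₁ : QuotSMulTop a (LocalizedModule T M) ≃ₗ[B] LocalizedModule T (QuotSMulTop a M) :=
      quotSMulTopLocalizedEquiv T a (Submodule.mkQ (a • (⊤ : Submodule B M)))
        (Submodule.mkQ_surjective _) (exact_smul_mkQ a)
    refine ⟨(isRegular_cons_iff _ a gs).mpr ⟨C1, (e₁.isRegular_congr gs).mpr ih1⟩, ?_⟩
    intro i hi
    cases i with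
    | zero => exact hzero M (a :: gs) hflat
    | succ i =>
      have hi' : i ≤ gs.length := by simpa using hi
      rw [List.take_succ_cons]
      exact flat_localizedModule_congr T
        (Submodule.quotOfListConsSMulTopEquivQuotSMulTopInner M a (gs.take i)).symm (ih2 i hi')

/-- **S2586** -/
theorem main {A B : Type u} [CommRing A] [CommRing B] [Algebra A B]
    [Algebra.FinitePresentation A B] (M : Type u) [AddCommGroup M] [Module B M] [Module A M]
    [IsScalarTower A B M] [Module.FinitePresentation B M] (q : Ideal B) [q.IsPrime] (g : List B)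
    (hflat : Module.Flat A (LocalizedModule q.primeCompl M))
    (hreg : RingTheory.Sequence.IsRegular
      (LocalizedModule q.primeCompl (M ⊗[A] (q.comap (algebraMap A B)).ResidueField)) g) :
    RingTheory.Sequence.IsRegular (LocalizedModule q.primeCompl M) g ∧
      ∀ i ≤ g.length, Module.Flat A
        (LocalizedModule q.primeCompl (M ⧸ (Ideal.span {b | b ∈ g.take i} • (⊤ : Submodule B M)))) :=
  main_aux A B q (q.comap (algebraMap A B)) rfl g M hflat hreg


end FR6

end Groth.Agent.Lib.R2H4.FibRegSeq
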