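import Mathlib
import Groth.Prelude.Def_RegImm
import Groth.Agent.Lib.R2H4GCILoc
import Groth.Agent.Lib.R2H4RelGCIFlat
import Groth.Agent.Lib.R2H4CIFieldA

set_option autoImplicit false
universe u
open scoped TensorProduct

namespace Groth.Agent.Lib.R2H4.CIField


open IsLocalRing RingTheory.Sequence Groth.Agent.Lib.Helper28

section Transfer

variable (k : Type u) [Field k]

theorem isCIOver_of_algEquiv (S S' : Type u) [CommRing S] [CommRing S'] [IsLocalRing S]
    [IsLocalRing S'] [Algebra k S] [Algebra k S'] (e : S ≃ₐ[k] S') (h : Synt.IsCIOver k S) :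
    Synt.IsCIOver k S' := by
  obtain ⟨R, i1, i2, i3, hft, rs, hmem, hreg, ⟨ε⟩⟩ := h
  exact ⟨R, i1, i2, i3, hft, rs, hmem, hreg, ⟨e.symm.trans ε⟩⟩

theorem isCIOver_congr_ideal (A : Type u) [CommRing A] [Algebra k A] (q q' : Ideal A) [q.IsPrime]
    [q'.IsPrime] (h : q' = q) (hq : Synt.IsCIOver k (Localization.AtPrime q')) :
    Synt.IsCIOver k (Localization.AtPrime q) := by
  subst h
  exact hq

variable (A : Type u) [CommRing A] [Algebra k A] (M : Submonoid A)

noncomputable def atPrimeEquiv (b : Ideal (Localization M)) [b.IsPrime] :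
    Localization.AtPrime (b.comap (algebraMap A (Localization M))) ≃ₐ[k] Localization.AtPrime b :=
  haveI : IsScalarTower k A (Localization.AtPrime b) :=
    IsScalarTower.of_algebraMap_eq fun x => by
      rw [IsScalarTower.algebraMap_apply k (Localization M) (Localization.AtPrime b),
        IsScalarTower.algebraMap_apply k A (Localization M)]
      rfl
  (IsLocalization.localizationLocalizationAtPrimeIsoLocalization M b).restrictScalars k

theorem isCIOver_atPrime_comap_iff (b : Ideal (Localization M)) [b.IsPrime] :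
    Synt.IsCIOver k (Localization.AtPrime (b.comap (algebraMap A (Localization M)))) ↔
      Synt.IsCIOver k (Localization.AtPrime b) :=
  ⟨isCIOver_of_algEquiv k _ _ (atPrimeEquiv k A M b),
    isCIOver_of_algEquiv k _ _ (atPrimeEquiv k A M b).symm⟩

/-- transfer along `A → A_g` at a prime not containing `g` -/
theorem isCIOver_atPrime_away_iff (g : A) (q : Ideal A) [q.IsPrime] (hg : g ∉ q)
    (b : Ideal (Localization.Away g)) [b.IsPrime]
    (hb : b = q.map (algebraMap A (Localization.Away g))) :
    Synt.IsCIOver k (Localization.AtPrime b) ↔ Synt.IsCIOver k (Localization.AtPrime q) := by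
  have hdisj : Disjoint (Submonoid.powers g : Set A) (q : Set A) := by
    rw [Set.disjoint_left]
    rintro _ ⟨m, rfl⟩ hmem
    exact hg (Ideal.IsPrime.mem_of_pow_mem inferInstance m hmem)
  have hcomap : b.comap (algebraMap A (Localization.Away g)) = q := by
    rw [hb]
    exact IsLocalization.comap_map_of_isPrime_disjoint (Submonoid.powers g) (Localization.Away g)
      inferInstance hdisj
  rw [← isCIOver_atPrime_comap_iff k A (Submonoid.powers g) b]
  exact ⟨isCIOver_congr_ideal k A q _ hcomap, isCIOver_congr_ideal k A _ q hcomap.symm⟩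

end Transfer



open IsLocalRing RingTheory.Sequence Groth.Agent.Lib.Helper28

section G3

variable (k : Type u) [Field k]

/-- the fibre of a `k`-algebra over the unique point of `Spec k` is the algebra itself -/
theorem exists_fiberBot_equiv (T : Type u) [CommRing T] [Algebra k T] (p : Ideal k) [p.IsPrime] :
    ringKrullDim (p.Fiber T) = ringKrullDim T ∧ (Nontrivial T → Nontrivial (p.Fiber T)) := by
  have hp : p = ⊥ := (Ideal.eq_bot_or_top p).resolve_right (Ideal.IsPrime.ne_top inferInstance)
  haveI : p.IsMaximal := by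
    rw [hp]
    exact Ideal.bot_isMaximal
  have hb : Function.Bijective (algebraMap k p.ResidueField) :=
    ⟨(algebraMap k p.ResidueField).injective, p.algebraMap_residueField_surjective⟩
  let e0 : k ≃ₐ[k] p.ResidueField := AlgEquiv.ofBijective (Algebra.ofId k p.ResidueField) hb
  let e1 : k ⊗[k] T ≃ₐ[k] p.ResidueField ⊗[k] T := Algebra.TensorProduct.congr e0 AlgEquiv.refl
  let ε : T ≃+* p.Fiber T := ((Algebra.TensorProduct.lid k T).symm.trans e1).toRingEquiv
  exact ⟨(ringKrullDim_eq_of_ringEquiv ε).symm, fun _ => ε.symm.toRingHom.domain_nontrivial⟩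

/-- over a field, a relative global complete intersection is a global complete intersection -/
theorem isGlobalCI_of_isRelGCI (N C : ℕ) (G : Fin C → MvPolynomial (Fin N) k)
    (h : Synt.IsRelGCI k N C G) : Synt.IsGlobalCI k (Synt.RelGCIRing k N C G) := by
  by_cases hS : Subsingleton (Synt.RelGCIRing k N C G)
  · exact Or.inl hS
  rw [not_subsingleton_iff_nontrivial] at hS
  let p : PrimeSpectrum k := ⟨⊥, Ideal.isPrime_bot⟩
  obtain ⟨hε, hnt'⟩ := exists_fiberBot_equiv k (Synt.RelGCIRing k N C G) p.asIdeal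
  have hnt : Nontrivial (p.asIdeal.Fiber (Synt.RelGCIRing k N C G)) := hnt' hS
  obtain ⟨hcn, hdim⟩ := h p hnt
  refine Or.inr ⟨N, C, hcn, Ideal.Quotient.mkₐ k _, G, Ideal.Quotient.mkₐ_surjective k _, ?_, ?_⟩
  · exact Ideal.mk_ker
  · rw [← hε]
    exact hdim

end G3



open IsLocalRing RingTheory.Sequence

section AwayEquiv

variable (k : Type u) [Field k]

/-- If `h` kills `ker φ / K`, then `(P/K)_h ≅ S_{φ h}`. -/
theorem nonempty_away_equiv {P S : Type u} [CommRing P] [CommRing S] [Algebra k P] [Algebra k S]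
    (φ : P →ₐ[k] S) (hφ : Function.Surjective φ) (K : Ideal P)
    (hK : K ≤ RingHom.ker φ.toRingHom) (h : P)
    (hh : ∀ x ∈ RingHom.ker φ.toRingHom, h * x ∈ K) :
    Nonempty (Localization.Away (Ideal.Quotient.mk K h) ≃ₐ[k] Localization.Away (φ h)) := by
  let ψ : P ⧸ K →ₐ[k] S := Ideal.Quotient.liftₐ K φ (fun x hx => hK hx)
  have hψ : ∀ p : P, ψ (Ideal.Quotient.mk K p) = φ p := fun p => rfl
  letI alg : Algebra (P ⧸ K) (Localization.Away (φ h)) :=
    ((algebraMap S (Localization.Away (φ h))).comp ψ.toRingHom).toAlgebra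
  have halg : ∀ t : P ⧸ K, algebraMap (P ⧸ K) (Localization.Away (φ h)) t =
      algebraMap S (Localization.Away (φ h)) (ψ t) := fun t => rfl
  haveI : IsScalarTower k (P ⧸ K) (Localization.Away (φ h)) :=
    IsScalarTower.of_algebraMap_eq fun x => by
      rw [halg, IsScalarTower.algebraMap_apply k S (Localization.Away (φ h))]
      congr 1
      exact (ψ.commutes x).symm
  haveI : IsLocalization.Away (Ideal.Quotient.mk K h) (Localization.Away (φ h)) := by
    rw [IsLocalization.Away, isLocalization_iff]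
    refine ⟨?_, ?_, ?_⟩
    · rintro ⟨_, m, rfl⟩
      rw [halg, map_pow, hψ, map_pow]
      exact (IsLocalization.Away.algebraMap_isUnit (φ h)).pow m
    · intro z
      obtain ⟨⟨s, ⟨_, m, rfl⟩⟩, hz⟩ := IsLocalization.surj (Submonoid.powers (φ h)) z
      obtain ⟨p, rfl⟩ := hφ s
      refine ⟨⟨Ideal.Quotient.mk K p, ⟨(Ideal.Quotient.mk K h) ^ m, m, rfl⟩⟩, ?_⟩
      simp only [halg, map_pow, hψ]
      simpa using hz
    · intro x y hxy
      obtain ⟨p₁, rfl⟩ := Ideal.Quotient.mk_surjective x
      obtain ⟨p₂, rfl⟩ := Ideal.Quotient.mk_surjective y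
      rw [halg, halg, hψ, hψ] at hxy
      obtain ⟨⟨_, m, rfl⟩, hm⟩ := (IsLocalization.eq_iff_exists (Submonoid.powers (φ h)) _).mp hxy
      have h1 : h ^ m * (p₁ - p₂) ∈ RingHom.ker φ.toRingHom := by
        rw [RingHom.mem_ker]
        change φ (h ^ m * (p₁ - p₂)) = 0
        rw [map_mul, map_sub, map_pow, mul_sub, sub_eq_zero]
        exact hm
      have h2 := hh _ h1
      refine ⟨⟨(Ideal.Quotient.mk K h) ^ (m + 1), m + 1, rfl⟩, ?_⟩
      change (Ideal.Quotient.mk K h) ^ (m + 1) * _ = (Ideal.Quotient.mk K h) ^ (m + 1) * _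
      rw [← map_pow, ← map_mul, ← map_mul, ← sub_eq_zero, ← map_sub,
        Ideal.Quotient.eq_zero_iff_mem]
      have : h ^ (m + 1) * p₁ - h ^ (m + 1) * p₂ = h * (h ^ m * (p₁ - p₂)) := by ring
      rw [this]
      exact h2
  exact ⟨(IsLocalization.algEquiv (Submonoid.powers (Ideal.Quotient.mk K h))
    (Localization.Away (Ideal.Quotient.mk K h)) (Localization.Away (φ h))).restrictScalars k⟩

end AwayEquiv

end Groth.Agent.Lib.R2H4.CIField
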