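import Mathlib
import Groth.Prelude.Def_RegImm
import Groth.Agent.Lib.R2H4RelGCIFlat
import Groth.Agent.Lib.Helper3HzFibSep
import Groth.Agent.Lib.Helper6EquiSubB

set_option autoImplicit false
universe u
open scoped TensorProduct

namespace Groth.Agent.Lib.R2H4.RelGCIAway

open MvPolynomial

section Iso

variable (R : Type u) [CommRing R] (n c : ℕ) (F : Fin c → MvPolynomial (Fin n) R)
  (h : MvPolynomial (Fin n) R)

/-- The relations of the standard presentation of `S_g`. -/
noncomputable def F' : Fin (c + 1) → MvPolynomial (Fin (n + 1)) R :=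
  Fin.snoc (fun i => rename Fin.castSucc (F i)) (rename Fin.castSucc h * X (Fin.last n) - 1)

local notation "SS" => Synt.RelGCIRing R n c F
local notation "TT" => Synt.RelGCIRing R (n + 1) (c + 1) (F' R n c F h)
local notation "gg" => (Ideal.Quotient.mk (Ideal.span (Set.range F)) h : Synt.RelGCIRing R n c F)

/-- `S → T`. -/
noncomputable def toT : SS →ₐ[R] TT :=
  Ideal.Quotient.liftₐ (Ideal.span (Set.range F))
    ((Ideal.Quotient.mkₐ R (Ideal.span (Set.range (F' R n c F h)))).comp
      (rename Fin.castSucc : MvPolynomial (Fin n) R →ₐ[R] MvPolynomial (Fin (n + 1)) R))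
    (by
      intro a ha
      have : Ideal.span (Set.range F) ≤ RingHom.ker
          ((Ideal.Quotient.mkₐ R (Ideal.span (Set.range (F' R n c F h)))).comp
            (rename Fin.castSucc : MvPolynomial (Fin n) R →ₐ[R]
              MvPolynomial (Fin (n + 1)) R)).toRingHom := by
        rw [Ideal.span_le]
        rintro _ ⟨i, rfl⟩
        rw [SetLike.mem_coe, RingHom.mem_ker]
        change Ideal.Quotient.mk _ (rename Fin.castSucc (F i)) = 0
        rw [Ideal.Quotient.eq_zero_iff_mem]
        apply Ideal.subset_span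
        exact ⟨Fin.castSucc i, by simp [F']⟩
      exact this ha)

theorem toT_mk (P : MvPolynomial (Fin n) R) :
    toT R n c F h (Ideal.Quotient.mk _ P) =
      Ideal.Quotient.mk (Ideal.span (Set.range (F' R n c F h))) (rename Fin.castSucc P) := rfl

theorem toT_g_mul :
    toT R n c F h gg * Ideal.Quotient.mk (Ideal.span (Set.range (F' R n c F h))) (X (Fin.last n)) = 1 := by
  rw [toT_mk, ← map_mul, ← sub_eq_zero, ← map_one (Ideal.Quotient.mk _), ← map_sub,
    Ideal.Quotient.eq_zero_iff_mem]
  apply Ideal.subset_span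
  exact ⟨Fin.last c, by simp [F']⟩

theorem isUnit_toT_g : IsUnit (toT R n c F h gg) :=
  IsUnit.of_mul_eq_one _ (toT_g_mul R n c F h)

/-- `S_g → T`. -/
noncomputable def fwd : Localization.Away gg →ₐ[R] TT :=
  IsLocalization.Away.liftAlgHom (S := Localization.Away gg) (A := R) gg (f := toT R n c F h)
    (isUnit_toT_g R n c F h)

/-- `R[x, y] → S_g`. -/
noncomputable def bwd₀ : MvPolynomial (Fin (n + 1)) R →ₐ[R] Localization.Away gg :=
  aeval (Fin.snoc (α := fun _ => Localization.Away gg)
    (fun i => algebraMap SS (Localization.Away gg) (Ideal.Quotient.mk _ (X i)))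
    (IsLocalization.Away.invSelf gg))

theorem bwd₀_rename (P : MvPolynomial (Fin n) R) :
    bwd₀ R n c F h (rename Fin.castSucc P) =
      algebraMap SS (Localization.Away gg) (Ideal.Quotient.mk _ P) := by
  unfold bwd₀
  rw [aeval_rename]
  have : (aeval ((Fin.snoc (α := fun _ => Localization.Away gg)
      (fun i => algebraMap SS (Localization.Away gg) (Ideal.Quotient.mk _ (X i)))
      (IsLocalization.Away.invSelf gg)) ∘ Fin.castSucc) : MvPolynomial (Fin n) R →ₐ[R] _) =
      ((Algebra.algHom R SS (Localization.Away gg)).comp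
        (Ideal.Quotient.mkₐ R (Ideal.span (Set.range F)))) := by
    apply MvPolynomial.algHom_ext
    intro i
    simp
    rfl
  rw [this]
  rfl

/-- `T → S_g`. -/
noncomputable def bwd : TT →ₐ[R] Localization.Away gg :=
  Ideal.Quotient.liftₐ _ (bwd₀ R n c F h) (by
    intro a ha
    have : Ideal.span (Set.range (F' R n c F h)) ≤ RingHom.ker (bwd₀ R n c F h).toRingHom := by
      rw [Ideal.span_le]
      rintro _ ⟨j, rfl⟩
      rw [SetLike.mem_coe, RingHom.mem_ker]
      change bwd₀ R n c F h (F' R n c F h j) = 0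
      refine Fin.lastCases ?_ (fun i => ?_) j
      · have : F' R n c F h (Fin.last c) = rename Fin.castSucc h * X (Fin.last n) - 1 := by
          simp [F']
        rw [this, map_sub, map_mul, map_one, bwd₀_rename]
        have : bwd₀ R n c F h (X (Fin.last n)) = IsLocalization.Away.invSelf gg := by
          simp [bwd₀]
        rw [this, IsLocalization.Away.mul_invSelf, sub_self]
      · have : F' R n c F h (Fin.castSucc i) = rename Fin.castSucc (F i) := by
          simp [F']
        rw [this, bwd₀_rename]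
        have : Ideal.Quotient.mk (Ideal.span (Set.range F)) (F i) = 0 :=
          Ideal.Quotient.eq_zero_iff_mem.mpr (Ideal.subset_span ⟨i, rfl⟩)
        rw [this, map_zero]
    exact this ha)

theorem bwd_mk (P : MvPolynomial (Fin (n + 1)) R) :
    bwd R n c F h (Ideal.Quotient.mk _ P) = bwd₀ R n c F h P := rfl

/-- `S_g ≃ T`. -/
noncomputable def equiv : Localization.Away gg ≃ₐ[R] TT :=
  AlgEquiv.ofAlgHom (fwd R n c F h) (bwd R n c F h)
    (by
      apply Ideal.Quotient.algHom_ext
      apply MvPolynomial.algHom_ext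
      intro j
      change fwd R n c F h (bwd₀ R n c F h (X j)) = Ideal.Quotient.mk _ (X j)
      refine Fin.lastCases ?_ (fun i => ?_) j
      · have h1 : bwd₀ R n c F h (X (Fin.last n)) = IsLocalization.Away.invSelf gg := by
          simp [bwd₀]
        rw [h1]
        have h2 : fwd R n c F h (algebraMap SS (Localization.Away gg) gg) *
            fwd R n c F h (IsLocalization.Away.invSelf gg) = 1 := by
          rw [← map_mul, IsLocalization.Away.mul_invSelf, map_one]
        have h3 : fwd R n c F h (algebraMap SS (Localization.Away gg) gg) = toT R n c F h gg := by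
          simp [fwd]
        rw [h3] at h2
        have h4 := toT_g_mul R n c F h
        have hu := isUnit_toT_g R n c F h
        exact hu.mul_left_cancel (h2.trans h4.symm)
      · have h1 : bwd₀ R n c F h (X (Fin.castSucc i)) =
            algebraMap SS (Localization.Away gg) (Ideal.Quotient.mk _ (X i)) := by
          have := bwd₀_rename R n c F h (X i)
          rwa [rename_X] at this
        rw [h1]
        have : fwd R n c F h (algebraMap SS (Localization.Away gg) (Ideal.Quotient.mk _ (X i))) =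
            toT R n c F h (Ideal.Quotient.mk _ (X i)) := by
          simp [fwd]
        rw [this, toT_mk, rename_X])
    (by
      apply IsLocalization.algHom_ext (Submonoid.powers gg)
      apply Ideal.Quotient.algHom_ext
      apply MvPolynomial.algHom_ext
      intro i
      change bwd R n c F h (fwd R n c F h (algebraMap SS (Localization.Away gg)
        (Ideal.Quotient.mk _ (X i)))) = algebraMap SS (Localization.Away gg) (Ideal.Quotient.mk _ (X i))
      have : fwd R n c F h (algebraMap SS (Localization.Away gg) (Ideal.Quotient.mk _ (X i))) =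
          toT R n c F h (Ideal.Quotient.mk _ (X i)) := by
        simp [fwd]
      rw [this, toT_mk, bwd_mk, bwd₀_rename])

theorem equiv_algebraMap (s : SS) :
    equiv R n c F h (algebraMap SS (Localization.Away gg) s) = toT R n c F h s := by
  change fwd R n c F h _ = _
  simp [fwd]

end Iso

section Dim

open Groth.Agent.Lib.Helper4.FibDim Groth.Agent.Lib.R2H4.RelGCIFlat

/-- the Krull bound for the fibre dimension, for an arbitrary description of the ideal -/
theorem key' (R : Type u) [CommRing R] (n : ℕ) (f : List (MvPolynomial (Fin n) R))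
    (I : Ideal (MvPolynomial (Fin n) R)) (hI : I = Ideal.ofList f)
    (z : PrimeSpectrum (MvPolynomial (Fin n) R ⧸ I)) :
    ∃ a : ℕ, fibLD (PrimeSpectrum.comap (algebraMap R (MvPolynomial (Fin n) R ⧸ I))) z =
      (a : WithBot ℕ∞) ∧ n ≤ a + f.length := by
  subst hI
  obtain ⟨a, ha, hle, -⟩ := Groth.Agent.Lib.R2H4.RegSeqOpen.key R (MvPolynomial (Fin n) R) n
    (fun p => cm_fiber_poly R n p) (fun p P hP => equidim_fiber_poly R n p P hP) f z
  exact ⟨a, ha, hle⟩

variable (R : Type u) [CommRing R] (n c : ℕ) (F : Fin c → MvPolynomial (Fin n) R)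

/-- the Krull bound for the fibre dimension of `R[x_1..x_n]/(F_1..F_c)` -/
theorem le_fibLD (z : PrimeSpectrum (Synt.RelGCIRing R n c F)) :
    ∃ a : ℕ, fibLD (PrimeSpectrum.comap (algebraMap R (Synt.RelGCIRing R n c F))) z =
      (a : WithBot ℕ∞) ∧ n ≤ a + c := by
  obtain ⟨a, ha, hle⟩ := key' R n (List.ofFn F) (Ideal.span (Set.range F)) (ofList_ofFn F).symm z
  rw [List.length_ofFn] at hle
  exact ⟨a, ha, hle⟩

/-- local dimension of a fibre ring at a point, as the fibre dimension -/
theorem localDim_fiber_eq_fibLD (A : Type u) [CommRing A] [Algebra R A] (p : PrimeSpectrum R)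
    (y : PrimeSpectrum (p.asIdeal.Fiber A)) :
    ∃ z : PrimeSpectrum A, PrimeSpectrum.comap (algebraMap R A) z = p ∧
      FlatMor.localDim (PrimeSpectrum (p.asIdeal.Fiber A)) y =
        fibLD (PrimeSpectrum.comap (algebraMap R A)) z := by
  obtain ⟨⟨z, hz⟩, hy⟩ : ∃ z' : (PrimeSpectrum.comap (algebraMap R A)) ⁻¹' {p},
      PrimeSpectrum.preimageHomeomorphFiber R A p z' = y :=
    ⟨(PrimeSpectrum.preimageHomeomorphFiber R A p).symm y, Homeomorph.apply_symm_apply _ _⟩
  refine ⟨z, hz, ?_⟩
  have hz' : PrimeSpectrum.comap (algebraMap R A) z = p := hz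
  subst hz'
  rw [fibLD_comap_eq, ← hy]

variable (h : MvPolynomial (Fin n) R)

theorem isOpenEmbedding_comap_toT :
    Topology.IsOpenEmbedding (PrimeSpectrum.comap (toT R n c F h).toRingHom) := by
  have h1 : (toT R n c F h).toRingHom =
      (equiv R n c F h).toRingEquiv.toRingHom.comp
        (algebraMap (Synt.RelGCIRing R n c F)
          (Localization.Away (Ideal.Quotient.mk (Ideal.span (Set.range F)) h))) := by
    refine RingHom.ext fun s => ?_
    exact (equiv_algebraMap R n c F h s).symm
  have h2 : (PrimeSpectrum.comap (toT R n c F h).toRingHom : _ → _) =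
      PrimeSpectrum.comap (algebraMap (Synt.RelGCIRing R n c F)
          (Localization.Away (Ideal.Quotient.mk (Ideal.span (Set.range F)) h))) ∘
        (PrimeSpectrum.homeomorphOfRingEquiv (equiv R n c F h).toRingEquiv).symm := by
    funext z
    rw [h1, PrimeSpectrum.comap_comp_apply]
    rfl
  rw [h2]
  exact (PrimeSpectrum.localization_away_isOpenEmbedding _
    (Ideal.Quotient.mk (Ideal.span (Set.range F)) h)).comp
      (PrimeSpectrum.homeomorphOfRingEquiv (equiv R n c F h).toRingEquiv).symm.isOpenEmbedding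

/-- If the fibre dimension is at most `n - c` on `D(g)`, then the standard presentation of
`S_g` is a relative global complete intersection. -/
theorem isRelGCI_away (hcn : c ≤ n)
    (H : ∀ z : PrimeSpectrum (Synt.RelGCIRing R n c F),
      Ideal.Quotient.mk (Ideal.span (Set.range F)) h ∉ z.asIdeal →
      fibLD (PrimeSpectrum.comap (algebraMap R (Synt.RelGCIRing R n c F))) z ≤
        ((n - c : ℕ) : WithBot ℕ∞)) :
    Synt.IsRelGCI R (n + 1) (c + 1) (F' R n c F h) := by
  intro p hnt
  refine ⟨by omega, ?_⟩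
  rw [← PrimeSpectrum.topologicalKrullDim_eq_ringKrullDim,
    Groth.Agent.Lib.Helper7.TopDim.topologicalKrullDim_eq_iSup_localDim]
  have hall : ∀ y : PrimeSpectrum (p.asIdeal.Fiber (Synt.RelGCIRing R (n + 1) (c + 1) (F' R n c F h))),
      FlatMor.localDim _ y = ((n + 1 - (c + 1) : ℕ) : WithBot ℕ∞) := by
    intro y
    obtain ⟨z, -, hy⟩ := localDim_fiber_eq_fibLD R _ p y
    rw [hy]
    obtain ⟨a, ha, hle⟩ := le_fibLD R (n + 1) (c + 1) (F' R n c F h) z
    have hcomp : (PrimeSpectrum.comap (algebraMap R (Synt.RelGCIRing R (n + 1) (c + 1) (F' R n c F h))) :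
        _ → _) = PrimeSpectrum.comap (algebraMap R (Synt.RelGCIRing R n c F)) ∘
          PrimeSpectrum.comap (toT R n c F h).toRingHom := by
      funext w
      rw [Function.comp_apply, ← PrimeSpectrum.comap_comp_apply]
      congr 1
      exact (toT R n c F h).comp_algebraMap.symm
    have hup : fibLD (PrimeSpectrum.comap
        (algebraMap R (Synt.RelGCIRing R (n + 1) (c + 1) (F' R n c F h)))) z ≤
        ((n - c : ℕ) : WithBot ℕ∞) := by
      rw [hcomp, fibLD_comp_isOpenEmbedding _ _ (isOpenEmbedding_comap_toT R n c F h)]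
      apply H
      intro hmem
      have hmem' : toT R n c F h (Ideal.Quotient.mk (Ideal.span (Set.range F)) h) ∈ z.asIdeal := hmem
      exact z.isPrime.ne_top (Ideal.eq_top_of_isUnit_mem _ hmem' (isUnit_toT_g R n c F h))
    rw [ha] at hup ⊢
    have hup' : a ≤ n - c := by exact_mod_cast hup
    have : a = n + 1 - (c + 1) := by omega
    rw [this]
  have hne : Nonempty (PrimeSpectrum (p.asIdeal.Fiber (Synt.RelGCIRing R (n + 1) (c + 1) (F' R n c F h)))) :=
    inferInstance
  rw [iSup_congr hall, iSup_const]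

end Dim

section Point

variable {R : Type u} [CommRing R] {S : Type u} [CommRing S] [Algebra R S] (p : Ideal R) [p.IsPrime]

/-- clearing denominators for elements of an extended ideal of the fibre ring -/
theorem exists_smul_eq_of_mem_map (J : Ideal S) (t : p.Fiber S)
    (ht : t ∈ J.map (Algebra.TensorProduct.includeRight : S →ₐ[R] p.Fiber S).toRingHom) :
    ∃ r : R, r ∉ p ∧ ∃ g ∈ J, r • t = (1 : p.ResidueField) ⊗ₜ[R] g := by
  rw [Ideal.map] at ht
  induction ht using Submodule.span_induction with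
  | mem x hx =>
    obtain ⟨j, hj, rfl⟩ := hx
    exact ⟨1, fun h1 => (inferInstance : p.IsPrime).ne_top ((Ideal.eq_top_iff_one _).mpr h1), j, hj,
      by rw [one_smul]; rfl⟩
  | zero =>
    exact ⟨1, fun h1 => (inferInstance : p.IsPrime).ne_top ((Ideal.eq_top_iff_one _).mpr h1), 0,
      J.zero_mem, by rw [smul_zero, TensorProduct.tmul_zero]⟩
  | add x y _ _ hx hy =>
    obtain ⟨r₁, hr₁, g₁, hg₁, e₁⟩ := hx
    obtain ⟨r₂, hr₂, g₂, hg₂, e₂⟩ := hy
    refine ⟨r₁ * r₂, fun h12 => ((inferInstance : p.IsPrime).mem_or_mem h12).elim hr₁ hr₂,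
      r₂ • g₁ + r₁ • g₂, J.add_mem (Submodule.smul_of_tower_mem J r₂ hg₁)
        (Submodule.smul_of_tower_mem J r₁ hg₂), ?_⟩
    rw [smul_add, mul_comm r₁ r₂, mul_smul, e₁, mul_comm r₂ r₁, mul_smul, e₂,
      TensorProduct.tmul_add, TensorProduct.tmul_smul, TensorProduct.tmul_smul]
  | smul a x _ hx =>
    obtain ⟨r, hr, g, hg, e⟩ := hx
    obtain ⟨r', hr', s', e'⟩ := Ideal.Fiber.exists_smul_eq_one_tmul p a
    refine ⟨r' * r, fun h12 => ((inferInstance : p.IsPrime).mem_or_mem h12).elim hr' hr,
      s' * g, J.mul_mem_left _ hg, ?_⟩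
    rw [smul_eq_mul, ← smul_mul_smul_comm, e, e', Algebra.TensorProduct.tmul_mul_tmul, one_mul]

/-- If no prime of `S` over `p` contains `J`, some element of `J` becomes a unit in the fibre
ring. -/
theorem exists_isUnit_tmul (J : Ideal S)
    (hJ : ∀ q : PrimeSpectrum S, J ≤ q.asIdeal → q.asIdeal.under R ≠ p) :
    ∃ g ∈ J, IsUnit ((1 : p.ResidueField) ⊗ₜ[R] g : p.Fiber S) := by
  have htop : J.map (Algebra.TensorProduct.includeRight : S →ₐ[R] p.Fiber S).toRingHom = ⊤ := by
    by_contra hne
    obtain ⟨M, hM, hle⟩ := Ideal.exists_le_maximal _ hne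
    haveI := hM.isPrime
    refine hJ ⟨M.comap (Algebra.TensorProduct.includeRight : S →ₐ[R] p.Fiber S), inferInstance⟩ ?_
      (Groth.Agent.Lib.Helper3.FibSep.comap_includeRight_under p M)
    exact Ideal.map_le_iff_le_comap.mp hle
  obtain ⟨r, hr, g, hg, e⟩ := exists_smul_eq_of_mem_map p J 1 (htop ▸ Submodule.mem_top)
  refine ⟨g, hg, ?_⟩
  rw [← e, ← Algebra.algebraMap_eq_smul_one,
    IsScalarTower.algebraMap_apply R p.ResidueField (p.Fiber S)]
  apply IsUnit.map
  rw [isUnit_iff_ne_zero, ne_eq, Ideal.algebraMap_residueField_eq_zero]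
  exact hr

end Point

section Main

open Groth.Agent.Lib.Helper4.FibDim

variable (R : Type u) [CommRing R] (n c : ℕ) (F : Fin c → MvPolynomial (Fin n) R)

/-- The fibre dimension at a point over `p` is at most the dimension of the fibre ring. -/
theorem fibLD_le_dim_fiber (A : Type u) [CommRing A] [Algebra R A] (p : Ideal R) [p.IsPrime]
    (q : PrimeSpectrum A) (hq : q.asIdeal.under R = p) :
    fibLD (PrimeSpectrum.comap (algebraMap R A)) q ≤ ringKrullDim (p.Fiber A) := by
  have aux : ∀ p' : PrimeSpectrum R, p' = ⟨p, inferInstance⟩ →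
      ringKrullDim (p'.asIdeal.Fiber A) = ringKrullDim (p.Fiber A) := by
    intro p' hp'
    subst hp'
    rfl
  rw [fibLD_comap_eq, ← aux (PrimeSpectrum.comap (algebraMap R A) q) (PrimeSpectrum.ext hq),
    ← PrimeSpectrum.topologicalKrullDim_eq_ringKrullDim]
  exact Groth.Agent.Lib.Helper7.TopDim.localDim_le_dim _

/-- Given a closed set containing all the points where the fibre dimension exceeds `n - c`,
any `h` whose class lies in the corresponding ideal gives a relative global complete
intersection `S_h`. -/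
theorem isRelGCI_away_of_mem (hcn : c ≤ n) (J : Ideal (Synt.RelGCIRing R n c F))
    (hJ : {z : PrimeSpectrum (Synt.RelGCIRing R n c F) |
      fibLD (PrimeSpectrum.comap (algebraMap R (Synt.RelGCIRing R n c F))) z ≤
        ((n - c : ℕ) : WithBot ℕ∞)}ᶜ = PrimeSpectrum.zeroLocus (J : Set (Synt.RelGCIRing R n c F)))
    (h : MvPolynomial (Fin n) R) (hh : Ideal.Quotient.mk (Ideal.span (Set.range F)) h ∈ J) :
    Synt.IsRelGCI R (n + 1) (c + 1) (F' R n c F h) := by
  apply isRelGCI_away R n c F h hcn
  intro z hz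
  by_contra hnot
  have hmem : z ∈ PrimeSpectrum.zeroLocus (J : Set (Synt.RelGCIRing R n c F)) := by
    rw [← hJ]
    exact hnot
  rw [PrimeSpectrum.mem_zeroLocus] at hmem
  exact hz (hmem hh)

theorem exists_ideal :
    ∃ J : Ideal (Synt.RelGCIRing R n c F),
      {z : PrimeSpectrum (Synt.RelGCIRing R n c F) |
        fibLD (PrimeSpectrum.comap (algebraMap R (Synt.RelGCIRing R n c F))) z ≤
          ((n - c : ℕ) : WithBot ℕ∞)}ᶜ =
        PrimeSpectrum.zeroLocus (J : Set (Synt.RelGCIRing R n c F)) := by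
  have hopen := isOpen_setOf_fibLD_comap_le R (Synt.RelGCIRing R n c F) (n - c)
  exact (PrimeSpectrum.isClosed_iff_zeroLocus_ideal _).mp hopen.isClosed_compl

/-- **Localizing at a point of the base where the fibre has the right dimension.** -/
theorem exists_relGCI_at (p : Ideal R) [p.IsPrime]
    (hp : c ≤ n ∧ ringKrullDim (p.Fiber (Synt.RelGCIRing R n c F)) = ((n - c : ℕ) : WithBot ℕ∞)) :
    ∃ h : MvPolynomial (Fin n) R,
      IsUnit ((1 : p.ResidueField) ⊗ₜ[R] (Ideal.Quotient.mk (Ideal.span (Set.range F)) h) :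
        p.Fiber (Synt.RelGCIRing R n c F)) ∧
      Synt.IsRelGCI R (n + 1) (c + 1) (F' R n c F h) ∧
      Nonempty (Localization.Away (Ideal.Quotient.mk (Ideal.span (Set.range F)) h) ≃ₐ[R]
        Synt.RelGCIRing R (n + 1) (c + 1) (F' R n c F h)) := by
  obtain ⟨hcn, hdim⟩ := hp
  obtain ⟨J, hJ⟩ := exists_ideal R n c F
  have hJp : ∀ q : PrimeSpectrum (Synt.RelGCIRing R n c F), J ≤ q.asIdeal →
      q.asIdeal.under R ≠ p := by
    intro q hq hqp
    have hmem : q ∈ PrimeSpectrum.zeroLocus (J : Set (Synt.RelGCIRing R n c F)) := by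
      rw [PrimeSpectrum.mem_zeroLocus]
      exact hq
    rw [← hJ] at hmem
    apply hmem
    change fibLD _ q ≤ _
    rw [← hdim]
    exact fibLD_le_dim_fiber R _ p q hqp
  obtain ⟨g, hg, hunit⟩ := exists_isUnit_tmul p J hJp
  obtain ⟨h, rfl⟩ := Ideal.Quotient.mk_surjective g
  exact ⟨h, hunit, isRelGCI_away_of_mem R n c F hcn J hJ h hg, ⟨equiv R n c F h⟩⟩

end Main

section Closed

open Groth.Agent.Lib.Helper4.FibDim

variable (R : Type u) [CommRing R] (n c : ℕ) (F : Fin c → MvPolynomial (Fin n) R) (I : Ideal R)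

/-- the reduction of the relations modulo `I` -/
noncomputable def Fbar : Fin c → MvPolynomial (Fin n) (R ⧸ I) :=
  fun i => MvPolynomial.map (Ideal.Quotient.mk I) (F i)

theorem span_le_comap : Ideal.span (Set.range F) ≤
    (Ideal.span (Set.range (Fbar R n c F I))).comap (MvPolynomial.map (Ideal.Quotient.mk I)) := by
  rw [Ideal.span_le]
  rintro _ ⟨i, rfl⟩
  exact Ideal.subset_span ⟨i, rfl⟩

/-- the reduction map `R[x]/(F) → (R/I)[x]/(F mod I)` -/
noncomputable def red : Synt.RelGCIRing R n c F →+* Synt.RelGCIRing (R ⧸ I) n c (Fbar R n c F I) :=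
  Ideal.quotientMap _ (MvPolynomial.map (Ideal.Quotient.mk I)) (span_le_comap R n c F I)

theorem red_surjective : Function.Surjective (red R n c F I) :=
  Ideal.quotientMap_surjective (MvPolynomial.map_surjective _ Ideal.Quotient.mk_surjective)

theorem red_comp_algebraMap :
    (red R n c F I).comp (algebraMap R (Synt.RelGCIRing R n c F)) =
      (algebraMap (R ⧸ I) (Synt.RelGCIRing (R ⧸ I) n c (Fbar R n c F I))).comp
        (Ideal.Quotient.mk I) := by
  refine RingHom.ext fun r => ?_
  change Ideal.Quotient.mk _ (MvPolynomial.map (Ideal.Quotient.mk I) (C r)) = _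
  rw [MvPolynomial.map_C]
  rfl

theorem ker_red_le :
    RingHom.ker (red R n c F I) ≤ I.map (algebraMap R (Synt.RelGCIRing R n c F)) := by
  intro s hs
  obtain ⟨P, rfl⟩ := Ideal.Quotient.mk_surjective s
  rw [RingHom.mem_ker] at hs
  change Ideal.Quotient.mk _ (MvPolynomial.map (Ideal.Quotient.mk I) P) = 0 at hs
  rw [Ideal.Quotient.eq_zero_iff_mem] at hs
  have hspan : Ideal.span (Set.range (Fbar R n c F I)) =
      (Ideal.span (Set.range F)).map (MvPolynomial.map (Ideal.Quotient.mk I)) := by
    rw [Ideal.map_span, ← Set.range_comp]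
    rfl
  rw [hspan, Ideal.mem_map_iff_of_surjective _
    (MvPolynomial.map_surjective _ Ideal.Quotient.mk_surjective)] at hs
  obtain ⟨P', hP', hPP'⟩ := hs
  have hker : P - P' ∈ RingHom.ker (MvPolynomial.map (σ := Fin n) (Ideal.Quotient.mk I)) := by
    rw [RingHom.mem_ker, map_sub, hPP', sub_self]
  rw [MvPolynomial.ker_map, Ideal.mk_ker] at hker
  have h1 : Ideal.Quotient.mk (Ideal.span (Set.range F)) P =
      Ideal.Quotient.mk (Ideal.span (Set.range F)) (P - P') := by
    rw [map_sub, Ideal.Quotient.eq_zero_iff_mem.mpr hP', sub_zero]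
  rw [h1]
  have h2 : I.map (algebraMap R (Synt.RelGCIRing R n c F)) =
      (I.map (C : R →+* MvPolynomial (Fin n) R)).map (Ideal.Quotient.mk (Ideal.span (Set.range F))) := by
    rw [Ideal.map_map]
    rfl
  rw [h2]
  exact Ideal.mem_map_of_mem _ hker

variable (hI : Synt.IsRelGCI (R ⧸ I) n c (Fbar R n c F I))
include hI

/-- over `V(I)` the fibre dimension is `n - c` -/
theorem fibLD_of_le (z : PrimeSpectrum (Synt.RelGCIRing R n c F))
    (hz : I.map (algebraMap R (Synt.RelGCIRing R n c F)) ≤ z.asIdeal) :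
    c ≤ n ∧ fibLD (PrimeSpectrum.comap (algebraMap R (Synt.RelGCIRing R n c F))) z =
      ((n - c : ℕ) : WithBot ℕ∞) := by
  set φ : PrimeSpectrum (Synt.RelGCIRing R n c F) → PrimeSpectrum R :=
    PrimeSpectrum.comap (algebraMap R (Synt.RelGCIRing R n c F)) with hφ
  set j : PrimeSpectrum (Synt.RelGCIRing (R ⧸ I) n c (Fbar R n c F I)) →
      PrimeSpectrum (Synt.RelGCIRing R n c F) := PrimeSpectrum.comap (red R n c F I) with hj
  have hjemb : Topology.IsEmbedding j :=
    (PrimeSpectrum.isClosedEmbedding_comap_of_surjective _ _ (red_surjective R n c F I)).isEmbedding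
  have hrange : Set.range j = PrimeSpectrum.zeroLocus (RingHom.ker (red R n c F I) : Set _) :=
    _root_.range_comap_of_surjective _ _ (red_surjective R n c F I)
  have hmemrange : ∀ w : PrimeSpectrum (Synt.RelGCIRing R n c F),
      I.map (algebraMap R (Synt.RelGCIRing R n c F)) ≤ w.asIdeal → w ∈ Set.range j := by
    intro w hw
    rw [hrange, PrimeSpectrum.mem_zeroLocus]
    exact (ker_red_le R n c F I).trans hw
  obtain ⟨zb, rfl⟩ := hmemrange z hz
  -- the point of the base
  set pb : PrimeSpectrum (R ⧸ I) :=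
    PrimeSpectrum.comap (algebraMap (R ⧸ I) (Synt.RelGCIRing (R ⧸ I) n c (Fbar R n c F I))) zb with hpb
  have hfib : fibLD (PrimeSpectrum.comap
      (algebraMap (R ⧸ I) (Synt.RelGCIRing (R ⧸ I) n c (Fbar R n c F I)))) zb =
      ((n - c : ℕ) : WithBot ℕ∞) := by
    rw [fibLD_comap_eq]
    exact Groth.Agent.Lib.R2H4.GCIFibDim.localDim_fiber_relGCI (R ⧸ I) n c _ hI _ _
  have hcn : c ≤ n := by
    let y : PrimeSpectrum (pb.asIdeal.Fiber (Synt.RelGCIRing (R ⧸ I) n c (Fbar R n c F I))) :=
      PrimeSpectrum.preimageHomeomorphFiber (R ⧸ I) _ pb ⟨zb, rfl⟩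
    have hnt : Nontrivial (pb.asIdeal.Fiber (Synt.RelGCIRing (R ⧸ I) n c (Fbar R n c F I))) :=
      ⟨⟨0, 1, fun h0 => y.isPrime.ne_top ((Ideal.eq_top_iff_one _).mpr (h0 ▸ Ideal.zero_mem _))⟩⟩
    exact (hI pb hnt).1
  refine ⟨hcn, ?_⟩
  -- compare the two fibre dimensions
  have hcomp : φ ∘ j = PrimeSpectrum.comap (Ideal.Quotient.mk I) ∘
      PrimeSpectrum.comap (algebraMap (R ⧸ I) (Synt.RelGCIRing (R ⧸ I) n c (Fbar R n c F I))) := by
    funext w
    simp only [Function.comp_apply, hφ, hj, ← PrimeSpectrum.comap_comp_apply]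
    rw [red_comp_algebraMap]
  have h1 : fibLD (φ ∘ j) zb = ((n - c : ℕ) : WithBot ℕ∞) := by
    rw [hcomp, fibLD_comp_injective _ _
      (PrimeSpectrum.comap_injective_of_surjective _ Ideal.Quotient.mk_surjective)]
    exact hfib
  have hmem : j zb ∈ Set.range j ∩ φ ⁻¹' {φ (j zb)} := ⟨⟨zb, rfl⟩, rfl⟩
  rw [Groth.Agent.Lib.Helper6.EquiSub.fibLD_comp_isEmbedding φ j hjemb zb hmem] at h1
  rw [← h1]
  unfold fibLD
  have hset : φ ⁻¹' {φ (j zb)} = Set.range j ∩ φ ⁻¹' {φ (j zb)} := by
    ext w
    constructor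
    · intro hw
      refine ⟨hmemrange w ?_, hw⟩
      -- `I ⊆ φ w`
      have hw' : φ w = φ (j zb) := hw
      rw [Ideal.map_le_iff_le_comap]
      intro r hr
      change r ∈ (φ w).asIdeal
      rw [hw']
      have : φ (j zb) = (φ ∘ j) zb := rfl
      rw [this, hcomp]
      change Ideal.Quotient.mk I r ∈ (PrimeSpectrum.comap
        (algebraMap (R ⧸ I) (Synt.RelGCIRing (R ⧸ I) n c (Fbar R n c F I))) zb).asIdeal
      rw [Ideal.Quotient.eq_zero_iff_mem.mpr hr]
      exact Ideal.zero_mem _
    · exact fun hw => hw.2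
  exact localDim_congr_set hset (j zb) rfl

omit hI in
/-- a presentation of the zero ring is a relative global complete intersection -/
theorem isRelGCI_of_subsingleton (m d : ℕ) (G : Fin d → MvPolynomial (Fin m) R)
    (hsub : Subsingleton (Synt.RelGCIRing R m d G)) : Synt.IsRelGCI R m d G := by
  intro p hnt
  exfalso
  have h01 : (0 : p.asIdeal.Fiber (Synt.RelGCIRing R m d G)) = 1 := by
    rw [Algebra.TensorProduct.one_def, Subsingleton.elim (1 : Synt.RelGCIRing R m d G) 0,
      TensorProduct.tmul_zero]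
  haveI : Subsingleton (p.asIdeal.Fiber (Synt.RelGCIRing R m d G)) :=
    subsingleton_of_zero_eq_one h01
  exact false_of_nontrivial_of_subsingleton (p.asIdeal.Fiber (Synt.RelGCIRing R m d G))

/-- **Localizing near a closed subset of the base over which the presentation is a relative
global complete intersection.** -/
theorem exists_relGCI_of_closed :
    ∃ h : MvPolynomial (Fin n) R,
      Ideal.Quotient.mk (I.map (algebraMap R (Synt.RelGCIRing R n c F)))
        (Ideal.Quotient.mk (Ideal.span (Set.range F)) h) = 1 ∧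
      Synt.IsRelGCI R (n + 1) (c + 1) (F' R n c F h) ∧
      Nonempty (Localization.Away (Ideal.Quotient.mk (Ideal.span (Set.range F)) h) ≃ₐ[R]
        Synt.RelGCIRing R (n + 1) (c + 1) (F' R n c F h)) := by
  by_cases htop : I.map (algebraMap R (Synt.RelGCIRing R n c F)) = ⊤
  · refine ⟨0, ?_, ?_, ⟨equiv R n c F 0⟩⟩
    · haveI : Subsingleton (Synt.RelGCIRing R n c F ⧸
          I.map (algebraMap R (Synt.RelGCIRing R n c F))) :=
        Ideal.Quotient.subsingleton_iff.mpr htop
      exact Subsingleton.elim _ _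
    · apply isRelGCI_of_subsingleton
      apply Ideal.Quotient.subsingleton_iff.mpr
      have hmem : (-1 : MvPolynomial (Fin (n + 1)) R) ∈ Ideal.span (Set.range (F' R n c F 0)) := by
        apply Ideal.subset_span
        exact ⟨Fin.last c, by simp [F']⟩
      exact Ideal.eq_top_of_isUnit_mem _ hmem isUnit_one.neg
  · obtain ⟨M, hM, hle⟩ := Ideal.exists_le_maximal _ htop
    haveI := hM.isPrime
    obtain ⟨hcn, -⟩ := fibLD_of_le R n c F I hI ⟨M, inferInstance⟩ hle
    obtain ⟨J, hJ⟩ := exists_ideal R n c F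
    have hsup : J ⊔ I.map (algebraMap R (Synt.RelGCIRing R n c F)) = ⊤ := by
      by_contra hne
      obtain ⟨M', hM', hle'⟩ := Ideal.exists_le_maximal _ hne
      haveI := hM'.isPrime
      have hmem : (⟨M', inferInstance⟩ : PrimeSpectrum (Synt.RelGCIRing R n c F)) ∈
          PrimeSpectrum.zeroLocus (J : Set (Synt.RelGCIRing R n c F)) := by
        rw [PrimeSpectrum.mem_zeroLocus]
        exact fun x hx => hle' (Ideal.mem_sup_left hx)
      rw [← hJ] at hmem
      apply hmem
      change fibLD _ _ ≤ _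
      rw [(fibLD_of_le R n c F I hI ⟨M', inferInstance⟩ (fun x hx => hle' (Ideal.mem_sup_right hx))).2]
    have hone : (1 : Synt.RelGCIRing R n c F) ∈
        J ⊔ I.map (algebraMap R (Synt.RelGCIRing R n c F)) := hsup ▸ Submodule.mem_top
    obtain ⟨g, hg, i, hi, hgi⟩ := Submodule.mem_sup.mp hone
    obtain ⟨h, rfl⟩ := Ideal.Quotient.mk_surjective g
    refine ⟨h, ?_, isRelGCI_away_of_mem R n c F hcn J hJ h hg, ⟨equiv R n c F h⟩⟩
    rw [← map_one (Ideal.Quotient.mk (I.map (algebraMap R (Synt.RelGCIRing R n c F)))), ← hgi,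
      map_add, Ideal.Quotient.eq_zero_iff_mem.mpr hi, add_zero]

end Closed

end Groth.Agent.Lib.R2H4.RelGCIAway
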