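import Mathlib
import Groth.Prelude.Def_RegImm
import Groth.Agent.Lib.R2H4RegSeqOpen
import Groth.Agent.Lib.R2H4RelGCIAway
import Groth.Agent.Lib.R2H4SyntLoc
import Groth.Agent.Lib.Helper5RLR3
import Groth.Agent.Lib.R2H4CIFieldB

set_option autoImplicit false
universe u
open scoped TensorProduct

namespace Groth.Agent.Lib.R2H4.CIField


open IsLocalRing RingTheory.Sequence Groth.Agent.Lib.Helper28
open Groth.Agent.Lib.Helper4.FibDim Groth.Agent.Lib.R2H4.RelGCIFlat

section G12

/-- regular sequences and a quotient by the zero ideal -/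
theorem isRegular_quotient_bot (A : Type u) [CommRing A] (J : Ideal A) (hJ : J = ⊥) (rs : List A) :
    IsRegular (A ⧸ J) (rs.map (Ideal.Quotient.mk J)) ↔ IsRegular A rs := by
  subst hJ
  symm
  refine AddEquiv.isRegular_congr (e := (RingEquiv.quotientBot A).symm.toAddEquiv) ?_
  rw [List.forall₂_map_right_iff, List.forall₂_same]
  intro r _ x
  change (RingEquiv.quotientBot A).symm (r * x) = _
  rw [map_mul]
  rfl

/-- the pointwise comparison, for an arbitrary description of the ideal, with the regularity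
criterion -/
theorem key_iff (R : Type u) [CommRing R] (n : ℕ) (f : List (MvPolynomial (Fin n) R))
    (I : Ideal (MvPolynomial (Fin n) R)) (hI : I = Ideal.ofList f)
    (z : PrimeSpectrum (MvPolynomial (Fin n) R ⧸ I)) :
    ∃ a : ℕ, fibLD (PrimeSpectrum.comap (algebraMap R (MvPolynomial (Fin n) R ⧸ I))) z =
      (a : WithBot ℕ∞) ∧ n ≤ a + f.length ∧
      (RingTheory.Sequence.IsRegular
        (EGA4.FibLocRing R (MvPolynomial (Fin n) R)
          (PrimeSpectrum.comap (Ideal.Quotient.mk I) z).asIdeal)
        (f.map (algebraMap (MvPolynomial (Fin n) R) (EGA4.FibLocRing R (MvPolynomial (Fin n) R)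
          (PrimeSpectrum.comap (Ideal.Quotient.mk I) z).asIdeal))) ↔
        a + f.length = n) := by
  subst hI
  exact Groth.Agent.Lib.R2H4.RegSeqOpen.key R (MvPolynomial (Fin n) R) n
    (fun p => cm_fiber_poly R n p) (fun p P hP => equidim_fiber_poly R n p P hP) f z

end G12



open IsLocalRing RingTheory.Sequence Groth.Agent.Lib.Helper28
open Groth.Agent.Lib.Helper4.FibDim Groth.Agent.Lib.R2H4.RelGCIFlat

section L2

variable (k : Type u) [Field k]

theorem isRegular_fibLoc_congr {P : Type u} [CommRing P] [Algebra k P] (Q Q' : Ideal P)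
    [Q.IsPrime] [Q'.IsPrime] (h : Q' = Q) (f : List P)
    (hf : IsRegular (EGA4.FibLocRing k P Q) (f.map (algebraMap P (EGA4.FibLocRing k P Q)))) :
    IsRegular (EGA4.FibLocRing k P Q') (f.map (algebraMap P (EGA4.FibLocRing k P Q'))) := by
  subst h
  exact hf

/-- regular sequences in the local ring of the (unique) fibre over a field -/
theorem isRegular_fibLoc_of_isRegular {P : Type u} [CommRing P] [Algebra k P] (Q : Ideal P)
    [Q.IsPrime] (f : List P)
    (hf : IsRegular (Localization.AtPrime Q) (f.map (algebraMap P (Localization.AtPrime Q)))) :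
    IsRegular (EGA4.FibLocRing k P Q) (f.map (algebraMap P (EGA4.FibLocRing k P Q))) := by
  have hJ₀ : (Q.comap (algebraMap k P)).map (algebraMap k (Localization.AtPrime Q)) = ⊥ := by
    have : Q.comap (algebraMap k P) = ⊥ :=
      (Ideal.eq_bot_or_top _).resolve_right (Ideal.IsPrime.ne_top inferInstance)
    rw [this, Ideal.map_bot]
  have h1 := (isRegular_quotient_bot (Localization.AtPrime Q) _ hJ₀
    (f.map (algebraMap P (Localization.AtPrime Q)))).mpr hf
  rw [List.map_map] at h1
  exact h1

/-- uniform denominators -/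
theorem exists_mul_mem {P : Type u} [CommRing P] [IsNoetherianRing P] (Q : Ideal P) [Q.IsPrime]
    (I K : Ideal P)
    (h : I.map (algebraMap P (Localization.AtPrime Q)) ≤
      K.map (algebraMap P (Localization.AtPrime Q))) :
    ∃ g : P, g ∉ Q ∧ ∀ x ∈ I, g * x ∈ K := by
  classical
  have h1 : ∀ x ∈ I, ∃ t : P, t ∉ Q ∧ t * x ∈ K := by
    intro x hx
    have hx' : algebraMap P (Localization.AtPrime Q) x ∈
        K.map (algebraMap P (Localization.AtPrime Q)) := h (Ideal.mem_map_of_mem _ hx)
    obtain ⟨⟨⟨y, hy⟩, t⟩, hyt⟩ := (IsLocalization.mem_map_algebraMap_iff Q.primeCompl _).mp hx'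
    rw [← map_mul] at hyt
    obtain ⟨t', ht'⟩ := (IsLocalization.eq_iff_exists Q.primeCompl _).mp hyt
    refine ⟨t' * t, (t' * t).2, ?_⟩
    have : ((t' * t : Q.primeCompl) : P) * x = t' * y := by
      rw [Submonoid.coe_mul, mul_assoc, mul_comm (t : P) x]
      exact ht'
    change ((t' * t : Q.primeCompl) : P) * x ∈ K
    rw [this]
    exact K.mul_mem_left _ hy
  obtain ⟨s, hs⟩ : I.FG := IsNoetherian.noetherian I
  have h2 : ∀ x : s, ∃ t : P, t ∉ Q ∧ t * x ∈ K := fun x =>
    h1 x (hs ▸ Ideal.subset_span x.2)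
  choose t ht1 ht2 using h2
  refine ⟨∏ x ∈ s.attach, t x, ?_, ?_⟩
  · intro hmem
    obtain ⟨x, -, hx⟩ := (Ideal.IsPrime.prod_mem_iff).mp hmem
    exact ht1 x hx
  · intro x hx
    rw [← hs] at hx
    refine Submodule.span_induction ?_ ?_ ?_ ?_ hx
    · intro y hy
      have hmem : (⟨y, hy⟩ : s) ∈ s.attach := Finset.mem_attach _ _
      rw [← Finset.mul_prod_erase _ _ hmem, mul_comm (t ⟨y, hy⟩), mul_assoc]
      exact K.mul_mem_left _ (ht2 ⟨y, hy⟩)
    · rw [mul_zero]
      exact K.zero_mem
    · intro a b _ _ ha hb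
      rw [mul_add]
      exact K.add_mem ha hb
    · intro a b _ hb
      rw [smul_eq_mul, mul_left_comm]
      exact K.mul_mem_left _ hb

end L2



open IsLocalRing RingTheory.Sequence Groth.Agent.Lib.Helper28
open Groth.Agent.Lib.Helper4.FibDim Groth.Agent.Lib.R2H4.RelGCIFlat

section L2main

variable (k : Type u) [Field k]

/-- a regular-sequence presentation of the local ring spreads out to a global complete
intersection neighbourhood: the polynomial-ring form -/
theorem exists_away_gci_aux (n : ℕ) (S : Type u) [CommRing S] [Algebra k S]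
    (φ : MvPolynomial (Fin n) k →ₐ[k] S) (hφ : Function.Surjective φ)
    (q : Ideal S) [q.IsPrime] (hq : Synt.IsCIOver k (Localization.AtPrime q)) :
    ∃ g : S, g ∉ q ∧ Synt.IsGlobalCI k (Localization.Away g) := by
  classical
  set I : Ideal (MvPolynomial (Fin n) k) := RingHom.ker φ.toRingHom with hI
  set Q : Ideal (MvPolynomial (Fin n) k) := q.comap φ.toRingHom with hQdef
  haveI hQ : Q.IsPrime := Ideal.comap_isPrime _ _
  have hIQ : I ≤ Q := by
    intro x hx
    rw [hQdef, Ideal.mem_comap, (RingHom.mem_ker).mp hx]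
    exact q.zero_mem
  let π₀ : Localization.AtPrime Q →+* Localization.AtPrime q :=
    Localization.localRingHom Q q φ.toRingHom rfl
  have hπ₀ : Function.Surjective π₀ :=
    RingHom.surjective_localRingHom_of_surjective φ.toRingHom hφ q
  obtain ⟨rs, hreg, hkerrs⟩ := ker_regular_of_isCIOver k (Localization.AtPrime q) hq
    (Localization.AtPrime Q) π₀ hπ₀
  have hkerI : RingHom.ker π₀ =
      I.map (algebraMap (MvPolynomial (Fin n) k) (Localization.AtPrime Q)) :=
    ker_localRingHom φ.toRingHom hφ q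
  -- lifting the generators
  have hlift : ∀ i : Fin rs.length, ∃ y ∈ I, ∃ s : Q.primeCompl,
      rs.get i * algebraMap (MvPolynomial (Fin n) k) (Localization.AtPrime Q) s =
        algebraMap (MvPolynomial (Fin n) k) (Localization.AtPrime Q) y := by
    intro i
    have hmem : rs.get i ∈ I.map (algebraMap (MvPolynomial (Fin n) k) (Localization.AtPrime Q)) := by
      rw [← hkerI, hkerrs]
      exact Ideal.subset_span (List.get_mem _ _)
    obtain ⟨⟨⟨y, hy⟩, s⟩, hys⟩ := (IsLocalization.mem_map_algebraMap_iff Q.primeCompl _).mp hmem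
    exact ⟨y, hy, s, hys⟩
  choose F hFI sF hF using hlift
  set K : Ideal (MvPolynomial (Fin n) k) := Ideal.span (Set.range F) with hK
  have hKI : K ≤ I := by
    rw [hK, Ideal.span_le]
    rintro _ ⟨i, rfl⟩
    exact hFI i
  have hKQ : K ≤ Q := hKI.trans hIQ
  set L : List (Localization.AtPrime Q) :=
    (List.ofFn F).map (algebraMap (MvPolynomial (Fin n) k) (Localization.AtPrime Q)) with hL
  have hLK : Ideal.ofList L =
      K.map (algebraMap (MvPolynomial (Fin n) k) (Localization.AtPrime Q)) := by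
    rw [hL, ← Ideal.map_ofList, Groth.Agent.Lib.R2H4.RelGCIFlat.ofList_ofFn]
  have hLrs : Ideal.ofList L = Ideal.ofList rs := by
    rw [hLK]
    apply le_antisymm
    · rw [Ideal.map_le_iff_le_comap, hK, Ideal.span_le]
      rintro _ ⟨i, rfl⟩
      change algebraMap _ _ (F i) ∈ Ideal.ofList rs
      rw [← hF i]
      exact Ideal.mul_mem_right _ _ (Ideal.subset_span (List.get_mem _ _))
    · unfold Ideal.ofList
      rw [Ideal.span_le]
      intro r hr
      obtain ⟨i, rfl⟩ := List.mem_iff_get.mp hr
      have hu : IsUnit (algebraMap (MvPolynomial (Fin n) k) (Localization.AtPrime Q) (sF i)) :=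
        IsLocalization.map_units _ (sF i)
      have h1 : rs.get i = algebraMap (MvPolynomial (Fin n) k) (Localization.AtPrime Q) (F i) *
          ↑hu.unit⁻¹ := by
        rw [← hF i, mul_assoc, IsUnit.mul_val_inv, mul_one]
      change rs.get i ∈ _
      rw [h1]
      exact Ideal.mul_mem_right _ _ (Ideal.mem_map_of_mem _ (Ideal.subset_span ⟨i, rfl⟩))
  have hLlen : L.length = rs.length := by
    rw [hL, List.length_map, List.length_ofFn]
  -- regularity of `L`
  have hmemL : ∀ x ∈ L, x ∈ maximalIdeal (Localization.AtPrime Q) := by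
    intro x hx
    have : x ∈ RingHom.ker π₀ := by
      rw [hkerrs, ← hLrs]
      exact Ideal.subset_span hx
    exact Groth.Agent.Lib.H6xCI.ker_le_maximalIdeal π₀ this
  have hregL : IsRegular (Localization.AtPrime Q) L := by
    have hCM : LocCoh.IsCohenMacaulayLocalRing (Localization.AtPrime Q) :=
      Groth.Agent.Lib.Helper5.isCohenMacaulayLocalRing_of_isRegularLocalRing _
    have hCM' : LocCoh.IsCohenMacaulayModule (Localization.AtPrime Q) (Localization.AtPrime Q) :=
      hCM.supportDim_eq_depth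
    have hdimrs := ringKrullDim_add_length_eq_ringKrullDim_of_isRegular rs hreg
    have hdim : Module.supportDim (Localization.AtPrime Q) ((Localization.AtPrime Q) ⧸
        (Ideal.ofList L • ⊤ : Submodule (Localization.AtPrime Q) (Localization.AtPrime Q))) +
        (L.length : ℕ) = Module.supportDim (Localization.AtPrime Q) (Localization.AtPrime Q) := by
      rw [Module.supportDim_self_eq_ringKrullDim]
      have h2 : (Ideal.ofList L • ⊤ : Submodule (Localization.AtPrime Q) (Localization.AtPrime Q)) =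
          Ideal.ofList rs := by
        rw [hLrs]
        simp
      rw [h2, Module.supportDim_quotient_eq_ringKrullDim, hLlen]
      exact hdimrs
    have hw := Groth.Agent.Lib.Helper28.isWeaklyRegular_of_supportDim_add_length_eq L
      (Localization.AtPrime Q) hCM' hmemL hdim
    exact (IsLocalRing.isRegular_iff_isWeaklyRegular_of_subset_maximalIdeal hmemL).mpr hw
  -- the point of `Spec (P/K)`
  have hzprime : (Q.map (Ideal.Quotient.mk K)).IsPrime := Ideal.isPrime_map_quotientMk_of_isPrime hKQ
  let z : PrimeSpectrum (Synt.RelGCIRing k n rs.length F) := ⟨Q.map (Ideal.Quotient.mk K), hzprime⟩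
  have hzQ : (PrimeSpectrum.comap (Ideal.Quotient.mk K) z).asIdeal = Q := by
    change (Q.map (Ideal.Quotient.mk K)).comap (Ideal.Quotient.mk K) = Q
    rw [Ideal.comap_map_of_surjective _ Ideal.Quotient.mk_surjective, ← RingHom.ker_eq_comap_bot,
      Ideal.mk_ker]
    exact sup_eq_left.mpr hKQ
  have hregF : IsRegular (EGA4.FibLocRing k (MvPolynomial (Fin n) k)
      (PrimeSpectrum.comap (Ideal.Quotient.mk K) z).asIdeal)
      ((List.ofFn F).map (algebraMap (MvPolynomial (Fin n) k) (EGA4.FibLocRing k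
        (MvPolynomial (Fin n) k) (PrimeSpectrum.comap (Ideal.Quotient.mk K) z).asIdeal))) :=
    isRegular_fibLoc_congr k Q _ hzQ _ (isRegular_fibLoc_of_isRegular k Q _ hregL)
  obtain ⟨a, ha, -, hiff⟩ := key_iff k n (List.ofFn F) K
    (Groth.Agent.Lib.R2H4.RelGCIFlat.ofList_ofFn F).symm z
  have hac : a + rs.length = n := by
    have := hiff.mp hregF
    rwa [List.length_ofFn] at this
  have hcn : rs.length ≤ n := by omega
  -- the closed complement
  obtain ⟨J, hJ⟩ := Groth.Agent.Lib.R2H4.RelGCIAway.exists_ideal k n rs.length F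
  have hzJ : ¬ J ≤ z.asIdeal := by
    intro hle
    have hmem : z ∈ PrimeSpectrum.zeroLocus (J : Set (Synt.RelGCIRing k n rs.length F)) := by
      rw [PrimeSpectrum.mem_zeroLocus]
      exact hle
    rw [← hJ] at hmem
    apply hmem
    change fibLD _ z ≤ _
    rw [ha]
    have : a = n - rs.length := by omega
    rw [this]
  obtain ⟨j, hjJ, hjz⟩ := SetLike.not_le_iff_exists.mp hzJ
  obtain ⟨h₂, rfl⟩ := Ideal.Quotient.mk_surjective j
  have hh₂Q : h₂ ∉ Q := by
    intro hmem
    exact hjz (Ideal.mem_map_of_mem _ hmem)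
  -- uniform denominator
  obtain ⟨g₁, hg₁Q, hg₁⟩ := exists_mul_mem Q I K (by rw [← hkerI, hkerrs, ← hLrs, hLK])
  set h := g₁ * h₂ with hh
  have hhQ : h ∉ Q := fun hmem => (Ideal.IsPrime.mem_or_mem hQ hmem).elim hg₁Q hh₂Q
  have hhJ : Ideal.Quotient.mk K h ∈ J := by
    rw [hh, map_mul]
    exact J.mul_mem_left _ hjJ
  have hhI : ∀ x ∈ I, h * x ∈ K := by
    intro x hx
    rw [hh, mul_comm g₁ h₂, mul_assoc]
    exact K.mul_mem_left _ (hg₁ x hx)
  have hrel := Groth.Agent.Lib.R2H4.RelGCIAway.isRelGCI_away_of_mem k n rs.length F hcn J hJ h hhJ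
  have hgci := isGlobalCI_of_isRelGCI k (n + 1) (rs.length + 1) _ hrel
  obtain ⟨e₂⟩ := nonempty_away_equiv k φ hφ K hKI h hhI
  have e₁ := Groth.Agent.Lib.R2H4.RelGCIAway.equiv k n rs.length F h
  refine ⟨φ h, hhQ, ?_⟩
  exact Groth.Agent.Lib.R2H4.SyntLoc.isGlobalCI_of_algEquiv k _ _ (e₁.symm.trans e₂) hgci

/-- **local complete intersection rings spread out to global complete intersections** -/
theorem exists_away_gci (S : Type u) [CommRing S] [Algebra k S] [Algebra.FiniteType k S]
    (q : Ideal S) [q.IsPrime] (hq : Synt.IsCIOver k (Localization.AtPrime q)) :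
    ∃ g : S, g ∉ q ∧ Synt.IsGlobalCI k (Localization.Away g) := by
  obtain ⟨n, φ, hφ⟩ := Algebra.FiniteType.iff_quotient_mvPolynomial''.mp
    (inferInstance : Algebra.FiniteType k S)
  exact exists_away_gci_aux k n S φ hφ q hq

end L2main

end Groth.Agent.Lib.R2H4.CIField
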