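import Mathlib
import Groth.Prelude.Def_RegImm
import Groth.Agent.Lib.R2H4CIFieldC

set_option autoImplicit false
universe u
open scoped TensorProduct

namespace Groth.Agent.Lib.R2H4.CIField


open IsLocalRing RingTheory.Sequence Groth.Agent.Lib.Helper28

section Main

variable (k : Type u) [Field k]

theorem isCIOver_atPrime_of_isGlobalCI (A : Type u) [CommRing A] [Algebra k A]
    (h : Synt.IsGlobalCI k A) (a : Ideal A) [ha : a.IsPrime] :
    Synt.IsCIOver k (Localization.AtPrime a) := by
  rcases h with hs | ⟨n, c, hcn, φ, r, hφ, hker, hdim⟩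
  · exact absurd (Subsingleton.elim a ⊤) ha.ne_top
  · exact isCIOver_atPrime_of_gci k n c hcn A φ hφ r hker hdim a

theorem isLCIOver_of_isGlobalCI (A : Type u) [CommRing A] [Algebra k A] [Algebra.FiniteType k A]
    (h : Synt.IsGlobalCI k A) : Synt.IsLCIOver k A :=
  ⟨inferInstance, fun p => ⟨1, fun h1 => p.isPrime.ne_top ((Ideal.eq_top_iff_one _).mpr h1),
    Groth.Agent.Lib.R2H4.GCILoc.isGlobalCI_away k A 1 _ h⟩⟩

theorem isPrime_map_away (A : Type u) [CommRing A] (g : A) (q : Ideal A) [q.IsPrime] (hg : g ∉ q) :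
    (q.map (algebraMap A (Localization.Away g))).IsPrime := by
  have hdisj : Disjoint (Submonoid.powers g : Set A) (q : Set A) := by
    rw [Set.disjoint_left]
    rintro _ ⟨m, rfl⟩ hmem
    exact hg (Ideal.IsPrime.mem_of_pow_mem inferInstance m hmem)
  exact IsLocalization.isPrime_of_isPrime_disjoint (Submonoid.powers g) (Localization.Away g) q
    inferInstance hdisj

theorem isCIOver_atPrime_of_isLCIOver (A : Type u) [CommRing A] [Algebra k A]
    (h : Synt.IsLCIOver k A) (q : Ideal A) [hq : q.IsPrime] :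
    Synt.IsCIOver k (Localization.AtPrime q) := by
  obtain ⟨-, hloc⟩ := h
  obtain ⟨g, hg, hgci⟩ := hloc ⟨q, hq⟩
  haveI := isPrime_map_away A g q hg
  exact (isCIOver_atPrime_away_iff k A g q hg _ rfl).mp
    (isCIOver_atPrime_of_isGlobalCI k _ hgci _)

theorem isCIOver_atPrime_of_away_isGlobalCI (A : Type u) [CommRing A] [Algebra k A] (g : A)
    (q : Ideal A) [hq : q.IsPrime] (hg : g ∉ q) (h : Synt.IsGlobalCI k (Localization.Away g)) :
    Synt.IsCIOver k (Localization.AtPrime q) := by
  haveI := isPrime_map_away A g q hg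
  exact (isCIOver_atPrime_away_iff k A g q hg _ rfl).mp
    (isCIOver_atPrime_of_isGlobalCI k _ h _)

theorem isCIOver_atPrime_of_away_isLCIOver (A : Type u) [CommRing A] [Algebra k A] (g : A)
    (q : Ideal A) [hq : q.IsPrime] (hg : g ∉ q) (h : Synt.IsLCIOver k (Localization.Away g)) :
    Synt.IsCIOver k (Localization.AtPrime q) := by
  haveI := isPrime_map_away A g q hg
  exact (isCIOver_atPrime_away_iff k A g q hg _ rfl).mp
    (isCIOver_atPrime_of_isLCIOver k _ h _)

theorem finiteType_away (A : Type u) [CommRing A] [Algebra k A] [Algebra.FiniteType k A] (g : A) :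
    Algebra.FiniteType k (Localization.Away g) :=
  Algebra.FiniteType.trans (inferInstance : Algebra.FiniteType k A)
    (IsLocalization.finiteType_of_monoid_fg (Submonoid.powers g) (Localization.Away g))

/-- S9144 -/
theorem main9144 (S : Type u) [CommRing S] [Algebra k S] [Algebra.FiniteType k S] (q : Ideal S)
    [q.IsPrime] :
    (Synt.IsCIOver k (Localization.AtPrime q) ↔
        ∃ g : S, g ∉ q ∧ Synt.IsLCIOver k (Localization.Away g)) ∧
      (Synt.IsCIOver k (Localization.AtPrime q) ↔
        ∃ g : S, g ∉ q ∧ Synt.IsGlobalCI k (Localization.Away g)) := by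
  refine ⟨⟨fun h => ?_, ?_⟩, ⟨fun h => exists_away_gci k S q h, ?_⟩⟩
  · obtain ⟨g, hg, hgci⟩ := exists_away_gci k S q h
    haveI := finiteType_away k S g
    exact ⟨g, hg, isLCIOver_of_isGlobalCI k _ hgci⟩
  · rintro ⟨g, hg, h⟩
    exact isCIOver_atPrime_of_away_isLCIOver k S g q hg h
  · rintro ⟨g, hg, h⟩
    exact isCIOver_atPrime_of_away_isGlobalCI k S g q hg h

/-- S9145 -/
theorem main9145 (S : Type u) [CommRing S] [Algebra k S] [Algebra.FiniteType k S] :
    (Synt.IsLCIOver k S ↔ ∀ p : PrimeSpectrum S, Synt.IsCIOver k (Localization.AtPrime p.asIdeal)) ∧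
      (Synt.IsLCIOver k S ↔
        ∀ m : MaximalSpectrum S, Synt.IsCIOver k (Localization.AtPrime m.asIdeal)) := by
  refine ⟨⟨fun h p => isCIOver_atPrime_of_isLCIOver k S h p.asIdeal, fun h => ?_⟩,
    ⟨fun h m => isCIOver_atPrime_of_isLCIOver k S h m.asIdeal, fun h => ?_⟩⟩
  · exact ⟨inferInstance, fun p => exists_away_gci k S p.asIdeal (h p)⟩
  · refine ⟨inferInstance, fun p => ?_⟩
    obtain ⟨m, hm, hpm⟩ := Ideal.exists_le_maximal p.asIdeal p.isPrime.ne_top
    obtain ⟨g, hg, hgci⟩ := exists_away_gci k S (⟨m, hm⟩ : MaximalSpectrum S).asIdeal (h ⟨m, hm⟩)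
    exact ⟨g, fun hgp => hg (hpm hgp), hgci⟩

end Main



open IsLocalRing RingTheory.Sequence Groth.Agent.Lib.Helper28

section Main2

variable (k : Type u) [Field k]

theorem nonempty_atPrime_congr (A : Type u) [CommRing A] [Algebra k A] (q q' : Ideal A)
    [q.IsPrime] [q'.IsPrime] (h : q = q') :
    Nonempty (Localization.AtPrime q ≃ₐ[k] Localization.AtPrime q') := by
  subst h
  exact ⟨AlgEquiv.refl⟩

variable (S : Type u) [CommRing S] [IsLocalRing S] [Algebra k S]

/-- a local algebra essentially of finite type is the local ring of a finite type algebra -/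
theorem exists_model [Algebra.EssFiniteType k S] :
    ∃ (A : Type u) (_ : CommRing A) (_ : Algebra k A) (a : Ideal A) (_ : a.IsPrime),
      Algebra.FiniteType k A ∧ Nonempty (S ≃ₐ[k] Localization.AtPrime a) := by
  let A := Algebra.EssFiniteType.subalgebra k S
  let a : Ideal A := (maximalIdeal S).comap (algebraMap A S)
  haveI ha : a.IsPrime := Ideal.comap_isPrime _ _
  have hM : Algebra.EssFiniteType.submonoid k S = a.primeCompl := by
    ext x
    change IsUnit (algebraMap A S x) ↔ ¬ (algebraMap A S x ∈ maximalIdeal S)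
    rw [IsLocalRing.mem_maximalIdeal, mem_nonunits_iff, not_not]
  haveI : IsLocalization.AtPrime S a := by
    have := Algebra.EssFiniteType.isLocalization k S
    rw [hM] at this
    exact this
  refine ⟨A, inferInstance, inferInstance, a, ha, inferInstance, ⟨?_⟩⟩
  exact ((IsLocalization.algEquiv a.primeCompl S (Localization.AtPrime a))).restrictScalars k

/-- S9143 -/
theorem main9143 [Algebra.EssFiniteType k S] :
    (Synt.IsCIOver k S ↔
        ∀ (R : Type u) [CommRing R] [IsRegularLocalRing R] [Algebra k R], Algebra.EssFiniteType k R →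
          ∀ π : R →ₐ[k] S, Function.Surjective π →
            ∃ rs : List R, RingTheory.Sequence.IsRegular R rs ∧ RingHom.ker π.toRingHom = Ideal.ofList rs) ∧
      (Synt.IsCIOver k S ↔
        ∃ (R : Type u) (_ : CommRing R) (_ : IsRegularLocalRing R) (_ : Algebra k R),
          Algebra.EssFiniteType k R ∧ ∃ π : R →ₐ[k] S, Function.Surjective π ∧
            ∃ rs : List R, RingHom.ker π.toRingHom = Ideal.ofList rs ∧
              ringKrullDim R = ringKrullDim S + (rs.length : WithBot ℕ∞)) ∧
      (Synt.IsCIOver k S ↔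
        ∃ (A : Type u) (_ : CommRing A) (_ : Algebra k A) (a : Ideal A) (_ : a.IsPrime),
          Algebra.FiniteType k A ∧ Synt.IsGlobalCI k A ∧ Nonempty (S ≃ₐ[k] Localization.AtPrime a)) ∧
      (Synt.IsCIOver k S ↔
        ∃ (A : Type u) (_ : CommRing A) (_ : Algebra k A) (a : Ideal A) (_ : a.IsPrime),
          Synt.IsLCIOver k A ∧ Nonempty (S ≃ₐ[k] Localization.AtPrime a)) := by
  -- a fixed presentation
  obtain ⟨n, Q, hQ, π, hπ⟩ := exists_pres k S
  have h12 : Synt.IsCIOver k S →
      ∀ (R : Type u) [CommRing R] [IsRegularLocalRing R] [Algebra k R], Algebra.EssFiniteType k R →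
        ∀ π : R →ₐ[k] S, Function.Surjective π →
          ∃ rs : List R, RingTheory.Sequence.IsRegular R rs ∧
            RingHom.ker π.toRingHom = Ideal.ofList rs :=
    fun h R _ _ _ _ π hπ => ker_regular_of_isCIOver k S h R π.toRingHom hπ
  have h14 : Synt.IsCIOver k S →
      ∃ (A : Type u) (_ : CommRing A) (_ : Algebra k A) (a : Ideal A) (_ : a.IsPrime),
        Algebra.FiniteType k A ∧ Synt.IsGlobalCI k A ∧ Nonempty (S ≃ₐ[k] Localization.AtPrime a) := by
    intro h
    obtain ⟨A₀, _, _, a₀, ha₀, hft, ⟨e₀⟩⟩ := exists_model k S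
    have hCI : Synt.IsCIOver k (Localization.AtPrime a₀) := isCIOver_of_algEquiv k _ _ e₀ h
    obtain ⟨g, hg, hgci⟩ := exists_away_gci k A₀ a₀ hCI
    haveI hb := isPrime_map_away A₀ g a₀ hg
    have hdisj : Disjoint (Submonoid.powers g : Set A₀) (a₀ : Set A₀) := by
      rw [Set.disjoint_left]
      rintro _ ⟨m, rfl⟩ hmem
      exact hg (Ideal.IsPrime.mem_of_pow_mem inferInstance m hmem)
    have hcomap : (a₀.map (algebraMap A₀ (Localization.Away g))).comap
        (algebraMap A₀ (Localization.Away g)) = a₀ :=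
      IsLocalization.comap_map_of_isPrime_disjoint (Submonoid.powers g) (Localization.Away g)
        inferInstance hdisj
    obtain ⟨e₁⟩ := nonempty_atPrime_congr k A₀ _ _ hcomap.symm
    refine ⟨Localization.Away g, inferInstance, inferInstance,
      a₀.map (algebraMap A₀ (Localization.Away g)), hb, finiteType_away k A₀ g, hgci, ⟨?_⟩⟩
    exact (e₀.trans e₁).trans (atPrimeEquiv k A₀ (Submonoid.powers g) _)
  refine ⟨⟨h12, fun h => ?_⟩, ⟨fun h => ?_, ?_⟩, ⟨h14, ?_⟩, ⟨fun h => ?_, ?_⟩⟩
  · -- (2) ⇒ (1)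
    obtain ⟨rs, hreg, hker⟩ := h (Localization.AtPrime Q) inferInstance π hπ
    have hmem : ∀ r ∈ rs, r ∈ maximalIdeal (Localization.AtPrime Q) := by
      intro r hr
      have : r ∈ RingHom.ker π.toRingHom := by
        rw [hker]
        exact Ideal.subset_span hr
      exact Groth.Agent.Lib.H6xCI.ker_le_maximalIdeal π.toRingHom this
    refine ⟨Localization.AtPrime Q, inferInstance, inferInstance, inferInstance, inferInstance, rs,
      hmem, hreg, ⟨?_⟩⟩
    exact (Ideal.quotientKerAlgEquivOfSurjective hπ).symm.trans (Ideal.quotientEquivAlgOfEq k hker)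
  · -- (1) ⇒ (3)
    obtain ⟨rs, hreg, hker⟩ := h12 h (Localization.AtPrime Q) inferInstance π hπ
    refine ⟨Localization.AtPrime Q, inferInstance, inferInstance, inferInstance, inferInstance, π, hπ,
      rs, hker, ?_⟩
    have hdimrs := ringKrullDim_add_length_eq_ringKrullDim_of_isRegular rs hreg
    rw [← hdimrs]
    congr 1
    exact ringKrullDim_eq_of_ringEquiv
      ((Ideal.quotientEquivAlgOfEq k hker).symm.trans
        (Ideal.quotientKerAlgEquivOfSurjective hπ)).toRingEquiv
  · -- (3) ⇒ (1)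
    rintro ⟨R, _, _, _, hft, π', hπ', rs, hker, hdim⟩
    exact isCIOver_of_gens k S R π' hπ' rs hker hdim
  · -- (4) ⇒ (1)
    rintro ⟨A, _, _, a, _, -, hgci, ⟨e⟩⟩
    exact isCIOver_of_algEquiv k _ _ e.symm (isCIOver_atPrime_of_isGlobalCI k A hgci a)
  · -- (1) ⇒ (5)
    obtain ⟨A, _, _, a, ha, hft, hgci, he⟩ := h14 h
    exact ⟨A, inferInstance, inferInstance, a, ha, isLCIOver_of_isGlobalCI k A hgci, he⟩
  · -- (5) ⇒ (1)
    rintro ⟨A, _, _, a, _, hlci, ⟨e⟩⟩
    exact isCIOver_of_algEquiv k _ _ e.symm (isCIOver_atPrime_of_isLCIOver k A hlci a)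

end Main2

end Groth.Agent.Lib.R2H4.CIField
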