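import Mathlib
import Groth.Prelude.Def_RegImm
import Groth.Agent.Lib.R2H4CIFieldD

/-!
# Syntomic neighbourhoods, part A (helper4, round 2)

* `inf_le_mul_of_flat`: if `B ⧸ 𝔞` is `R`-flat then `pB ⊓ 𝔞 ≤ pB * 𝔞`.
* `eq_of_flat_of_le_sup`: local Nakayama step.
* `exists_mul_mem_of_fg`: uniform denominators for finitely generated ideals.
* `ker_quotientMap`: kernel of the map induced on quotients by a surjection.
* `dataB`: spreading out a regular sequence generating `I` in the local ring of the fibre.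
-/

set_option autoImplicit false
universe u
open scoped TensorProduct

namespace Groth.Agent.Lib.R2H4.SyntNhd

section FlatInf

variable {R B : Type u} [CommRing R] [CommRing B] [Algebra R B]

/-- the multiplication map `p ⊗ B → B` -/
noncomputable def mulMap (p : Ideal R) : p ⊗[R] B →ₗ[R] B :=
  TensorProduct.lift ((Algebra.lsmul R R B).toLinearMap.comp p.subtype)

omit [Algebra R B] in
theorem mulMap_tmul [Algebra R B] (p : Ideal R) (r : p) (b : B) : mulMap (B := B) p (r ⊗ₜ b) = (r : R) • b := rfl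

theorem mem_range_mulMap (p : Ideal R) (z : B) (hz : z ∈ p.map (algebraMap R B)) :
    ∃ t : p ⊗[R] B, mulMap p t = z := by
  unfold Ideal.map at hz
  induction hz using Submodule.span_induction with
  | mem x hx =>
    obtain ⟨r, hr, rfl⟩ := hx
    exact ⟨(⟨r, hr⟩ : p) ⊗ₜ (1 : B), by rw [mulMap_tmul, Algebra.smul_def, mul_one]⟩
  | zero => exact ⟨0, map_zero _⟩
  | add x y _ _ hx hy =>
    obtain ⟨t, rfl⟩ := hx
    obtain ⟨t', rfl⟩ := hy
    exact ⟨t + t', map_add _ _ _⟩
  | smul b x _ hx =>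
    obtain ⟨t, rfl⟩ := hx
    refine ⟨(LinearMap.lTensor p (LinearMap.mulLeft R b)) t, ?_⟩
    have key : ∀ t : p ⊗[R] B, mulMap p ((LinearMap.lTensor p (LinearMap.mulLeft R b)) t) =
        b • mulMap p t := by
      intro t
      induction t using TensorProduct.induction_on with
      | zero => simp
      | tmul r c =>
        rw [LinearMap.lTensor_tmul, mulMap_tmul, mulMap_tmul, LinearMap.mulLeft_apply, smul_eq_mul,
          mul_smul_comm]
      | add t t' ht ht' =>
        rw [map_add, map_add, ht, ht', map_add, smul_add]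
    exact key t

/-- If `B ⧸ 𝔞` is flat over `R`, then `pB ∩ 𝔞 = p𝔞`. -/
theorem inf_le_mul_of_flat (𝔞 : Ideal B) [Module.Flat R (B ⧸ 𝔞)] (p : Ideal R) :
    p.map (algebraMap R B) ⊓ 𝔞 ≤ p.map (algebraMap R B) * 𝔞 := by
  rintro z ⟨hz1, hz2⟩
  obtain ⟨t, rfl⟩ := mem_range_mulMap p z hz1
  -- the maps
  let mkl : B →ₗ[R] B ⧸ 𝔞 := (Ideal.Quotient.mkₐ R 𝔞).toLinearMap
  let incl : 𝔞 →ₗ[R] B := (Submodule.subtype 𝔞).restrictScalars R
  have hexact : Function.Exact incl mkl := by
    intro x
    constructor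
    · intro hx
      exact ⟨⟨x, Ideal.Quotient.eq_zero_iff_mem.mp hx⟩, rfl⟩
    · rintro ⟨y, rfl⟩
      exact Ideal.Quotient.eq_zero_iff_mem.mpr y.2
  have hex2 := lTensor_exact p hexact Ideal.Quotient.mk_surjective
  have hinj : Function.Injective (LinearMap.rTensor (B ⧸ 𝔞) (p.subtype)) :=
    (Module.Flat.iff_rTensor_injective'.mp inferInstance) p
  have hzero : LinearMap.lTensor p mkl t = 0 := by
    apply hinj
    rw [map_zero]
    apply (TensorProduct.lid R (B ⧸ 𝔞)).injective
    rw [map_zero]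
    have hcomm : ∀ t : p ⊗[R] B, (TensorProduct.lid R (B ⧸ 𝔞))
        (LinearMap.rTensor (B ⧸ 𝔞) (p.subtype) (LinearMap.lTensor p mkl t)) = mkl (mulMap p t) := by
      intro t
      induction t using TensorProduct.induction_on with
      | zero => simp
      | tmul r c =>
        rw [LinearMap.lTensor_tmul, LinearMap.rTensor_tmul, TensorProduct.lid_tmul, mulMap_tmul,
          map_smul]
        rfl
      | add t t' ht ht' => simp only [map_add, ht, ht']
    rw [hcomm]
    exact Ideal.Quotient.eq_zero_iff_mem.mpr hz2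
  obtain ⟨t', rfl⟩ := (hex2 t).mp hzero
  have key : ∀ t' : p ⊗[R] 𝔞, mulMap p (LinearMap.lTensor p incl t') ∈
      p.map (algebraMap R B) * 𝔞 := by
    intro t'
    induction t' using TensorProduct.induction_on with
    | zero => simp
    | tmul r a =>
      rw [LinearMap.lTensor_tmul, mulMap_tmul, Algebra.smul_def]
      exact Ideal.mul_mem_mul (Ideal.mem_map_of_mem _ r.2) a.2
    | add t t' ht ht' =>
      rw [map_add, map_add]
      exact Ideal.add_mem _ ht ht'
  exact key t'

end FlatInf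

open IsLocalRing RingTheory.Sequence

section Nak

variable {R B : Type u} [CommRing R] [CommRing B] [Algebra R B] [IsLocalRing B]

/-- local Nakayama step: a finitely generated ideal `𝔞` with `R`-flat quotient which agrees with
`𝔟 ≤ 𝔞` modulo `pB ≤ 𝔪` equals `𝔟`. -/
theorem eq_of_flat_of_le_sup (𝔞 𝔟 : Ideal B) (h𝔟 : 𝔟 ≤ 𝔞) (hfg : 𝔞.FG)
    [Module.Flat R (B ⧸ 𝔞)] (p : Ideal R) (hp : p.map (algebraMap R B) ≤ maximalIdeal B)
    (hle : 𝔞 ≤ 𝔟 ⊔ p.map (algebraMap R B)) : 𝔞 = 𝔟 := by
  refine le_antisymm ?_ h𝔟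
  have h1 : 𝔞 ≤ 𝔟 ⊔ (maximalIdeal B) • 𝔞 := by
    intro a ha
    obtain ⟨b, hb, z, hz, rfl⟩ := Submodule.mem_sup.mp (hle ha)
    have hz' : z ∈ 𝔞 := by
      have := 𝔞.sub_mem ha (h𝔟 hb)
      simpa using this
    have h2 : z ∈ p.map (algebraMap R B) * 𝔞 := inf_le_mul_of_flat 𝔞 p ⟨hz, hz'⟩
    refine Submodule.mem_sup.mpr ⟨b, hb, z, ?_, rfl⟩
    rw [smul_eq_mul]
    exact Ideal.mul_mono_left hp h2
  refine Submodule.le_of_le_smul_of_le_jacobson_bot hfg ?_ h1
  rw [IsLocalRing.jacobson_eq_maximalIdeal ⊥ bot_ne_top]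

end Nak

section Denoms

/-- uniform denominators for a finitely generated ideal -/
theorem exists_mul_mem_of_fg {P : Type u} [CommRing P] (Q : Ideal P) [Q.IsPrime]
    (I K : Ideal P) (hfg : I.FG)
    (h : I.map (algebraMap P (Localization.AtPrime Q)) ≤
      K.map (algebraMap P (Localization.AtPrime Q))) :
    ∃ g : P, g ∉ Q ∧ ∀ x ∈ I, g * x ∈ K := by
  classical
  have h1 : ∀ x ∈ I, ∃ t : P, t ∉ Q ∧ t * x ∈ K := by
    intro x hx
    have hx' : algebraMap P (Localization.AtPrime Q) x ∈
        K.map (algebraMap P (Localization.AtPrime Q)) := h (Ideal.mem_map_of_mem _ hx)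
    obtain ⟨⟨⟨y, hy⟩, t⟩, hyt⟩ := (IsLocalization.mem_map_algebraMap_iff Q.primeCompl _).mp hx'
    rw [← map_mul] at hyt
    obtain ⟨t', ht'⟩ := (IsLocalization.eq_iff_exists Q.primeCompl _).mp hyt
    refine ⟨t' * t, (t' * t).2, ?_⟩
    have : ((t' * t : Q.primeCompl) : P) * x = t' * y := by
      rw [Submonoid.coe_mul, mul_assoc, mul_comm (t : P) x]
      exact ht'
    change ((t' * t : Q.primeCompl) : P) * x ∈ K
    rw [this]
    exact K.mul_mem_left _ hy
  obtain ⟨s, hs⟩ := hfg
  have h2 : ∀ x : s, ∃ t : P, t ∉ Q ∧ t * x ∈ K := fun x =>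
    h1 x (hs ▸ Ideal.subset_span x.2)
  choose t ht1 ht2 using h2
  refine ⟨∏ x ∈ s.attach, t x, ?_, ?_⟩
  · intro hmem
    obtain ⟨x, -, hx⟩ := (Ideal.IsPrime.prod_mem_iff).mp hmem
    exact ht1 x hx
  · intro x hx
    rw [← hs] at hx
    refine Submodule.span_induction ?_ ?_ ?_ ?_ hx
    · intro y hy
      have hmem : (⟨y, hy⟩ : s) ∈ s.attach := Finset.mem_attach _ _
      rw [← Finset.mul_prod_erase _ _ hmem, mul_comm (t ⟨y, hy⟩), mul_assoc]
      exact K.mul_mem_left _ (ht2 ⟨y, hy⟩)
    · rw [mul_zero]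
      exact K.zero_mem
    · intro a b _ _ ha hb
      rw [mul_add]
      exact K.add_mem ha hb
    · intro a b _ hb
      rw [smul_eq_mul, mul_left_comm]
      exact K.mul_mem_left _ hb

end Denoms

section QuotKer

variable {B B' : Type u} [CommRing B] [CommRing B']

/-- kernel of the map induced on quotients by a surjection -/
theorem ker_quotientMap (ρ : B →+* B') (hρ : Function.Surjective ρ) (𝔭 : Ideal B) (𝔭' : Ideal B')
    (h𝔭 : 𝔭' = 𝔭.map ρ) (hle : 𝔭 ≤ 𝔭'.comap ρ) :
    RingHom.ker (Ideal.quotientMap 𝔭' ρ hle) = (RingHom.ker ρ).map (Ideal.Quotient.mk 𝔭) := by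
  apply le_antisymm
  · intro x hx
    obtain ⟨x, rfl⟩ := Ideal.Quotient.mk_surjective x
    rw [RingHom.mem_ker, Ideal.quotientMap_mk, Ideal.Quotient.eq_zero_iff_mem, h𝔭,
      Ideal.mem_map_iff_of_surjective ρ hρ] at hx
    obtain ⟨y, hy, hyx⟩ := hx
    have h1 : x - y ∈ RingHom.ker ρ := by
      rw [RingHom.mem_ker, map_sub, hyx, sub_self]
    have h2 : Ideal.Quotient.mk 𝔭 x = Ideal.Quotient.mk 𝔭 (x - y) := by
      rw [map_sub, Ideal.Quotient.eq_zero_iff_mem.mpr hy, sub_zero]
    rw [h2]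
    exact Ideal.mem_map_of_mem _ h1
  · rw [Ideal.map_le_iff_le_comap]
    intro x hx
    rw [Ideal.mem_comap, RingHom.mem_ker, Ideal.quotientMap_mk, (RingHom.mem_ker).mp hx, map_zero]

theorem quotientMap_surjective' (ρ : B →+* B') (hρ : Function.Surjective ρ) (𝔭 : Ideal B)
    (𝔭' : Ideal B') (hle : 𝔭 ≤ 𝔭'.comap ρ) :
    Function.Surjective (Ideal.quotientMap 𝔭' ρ hle) :=
  Ideal.quotientMap_surjective hρ

end QuotKer

open IsLocalRing RingTheory.Sequence

section DataB

variable {R P : Type u} [CommRing R] [CommRing P] [Algebra R P]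

/-- **Data (B).** Let `I` be a finitely generated ideal of `P`, `q ⊇ I` a prime such that
`P_q / I P_q` is flat over `R`, the local ring `C` of the fibre of `P` at `q` is regular and `I C`
is generated by a regular sequence. Then near `q` the ideal `I` is generated by elements forming a
regular sequence in `C`. -/
theorem dataB (I : Ideal P) (hfg : I.FG) (q : Ideal P) [hq : q.IsPrime]
    (hflat : Module.Flat R
      (Localization.AtPrime q ⧸ I.map (algebraMap P (Localization.AtPrime q))))
    (hC : IsRegularLocalRing (EGA4.FibLocRing R P q))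
    (rs : List (EGA4.FibLocRing R P q)) (hreg : IsRegular (EGA4.FibLocRing R P q) rs)
    (hrs : Ideal.ofList rs = I.map (algebraMap P (EGA4.FibLocRing R P q))) :
    ∃ (c : ℕ) (F : Fin c → P) (g : P), (∀ i, F i ∈ I) ∧ g ∉ q ∧
      (∀ a ∈ I, g * a ∈ Ideal.span (Set.range F)) ∧
      IsRegular (EGA4.FibLocRing R P q)
        ((List.ofFn F).map (algebraMap P (EGA4.FibLocRing R P q))) := by
  classical
  let B := Localization.AtPrime q
  let C := EGA4.FibLocRing R P q
  set 𝔭 : Ideal B := (q.comap (algebraMap R P)).map (algebraMap R B) with h𝔭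
  have hmk : Function.Surjective (Ideal.Quotient.mk 𝔭) := Ideal.Quotient.mk_surjective
  have halg : ∀ x : P, algebraMap P C x = Ideal.Quotient.mk 𝔭 (algebraMap P B x) := fun x => rfl
  have hmapC : ∀ K : Ideal P, K.map (algebraMap P C) =
      (K.map (algebraMap P B)).map (Ideal.Quotient.mk 𝔭) := by
    intro K
    rw [Ideal.map_map]
    rfl
  -- lifting the generators
  have hlift : ∀ i : Fin rs.length, ∃ y ∈ I, ∃ s : q.primeCompl,
      rs.get i * algebraMap P C s = algebraMap P C y := by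
    intro i
    have hmem : rs.get i ∈ (I.map (algebraMap P B)).map (Ideal.Quotient.mk 𝔭) := by
      rw [← hmapC, ← hrs]
      exact Ideal.subset_span (List.get_mem _ _)
    obtain ⟨b, hb, hbi⟩ := (Ideal.mem_map_iff_of_surjective _ hmk).mp hmem
    obtain ⟨⟨⟨y, hy⟩, s⟩, hys⟩ := (IsLocalization.mem_map_algebraMap_iff q.primeCompl _).mp hb
    refine ⟨y, hy, s, ?_⟩
    rw [halg, halg, ← hbi, ← map_mul]
    congr 1
  choose F hFI sF hF using hlift
  set K : Ideal P := Ideal.span (Set.range F) with hK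
  have hKI : K ≤ I := by
    rw [hK, Ideal.span_le]
    rintro _ ⟨i, rfl⟩
    exact hFI i
  set L : List C := (List.ofFn F).map (algebraMap P C) with hL
  have hLK : Ideal.ofList L = K.map (algebraMap P C) := by
    rw [hL, ← Ideal.map_ofList, Groth.Agent.Lib.R2H4.RelGCIFlat.ofList_ofFn]
  have hunit : ∀ s : q.primeCompl, IsUnit (algebraMap P C s) := by
    intro s
    rw [halg]
    exact (IsLocalization.map_units B s).map _
  have hLrs : Ideal.ofList L = Ideal.ofList rs := by
    rw [hLK]
    apply le_antisymm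
    · rw [Ideal.map_le_iff_le_comap, hK, Ideal.span_le]
      rintro _ ⟨i, rfl⟩
      change algebraMap _ _ (F i) ∈ Ideal.ofList rs
      rw [← hF i]
      exact Ideal.mul_mem_right _ _ (Ideal.subset_span (List.get_mem _ _))
    · unfold Ideal.ofList
      rw [Ideal.span_le]
      intro r hr
      obtain ⟨i, rfl⟩ := List.mem_iff_get.mp hr
      have hu := hunit (sF i)
      have h1 : rs.get i = algebraMap P C (F i) * ↑hu.unit⁻¹ := by
        rw [← hF i, mul_assoc, IsUnit.mul_val_inv, mul_one]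
      change rs.get i ∈ _
      rw [h1]
      exact Ideal.mul_mem_right _ _ (Ideal.mem_map_of_mem _ (Ideal.subset_span ⟨i, rfl⟩))
  have hLlen : L.length = rs.length := by
    rw [hL, List.length_map, List.length_ofFn]
  haveI : IsLocalRing C := hC.toIsLocalRing
  have hne : Ideal.ofList rs ≠ ⊤ := by
    intro htop
    apply hreg.top_ne_smul
    rw [htop, smul_eq_mul, Ideal.mul_top]
  have hmemL : ∀ x ∈ L, x ∈ maximalIdeal C := by
    intro x hx
    have : x ∈ Ideal.ofList rs := by
      rw [← hLrs]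
      exact Ideal.subset_span hx
    exact IsLocalRing.le_maximalIdeal hne this
  have hregL : IsRegular C L := by
    have hCM : LocCoh.IsCohenMacaulayLocalRing C :=
      Groth.Agent.Lib.Helper5.isCohenMacaulayLocalRing_of_isRegularLocalRing _
    have hCM' : LocCoh.IsCohenMacaulayModule C C := hCM.supportDim_eq_depth
    have hdimrs := ringKrullDim_add_length_eq_ringKrullDim_of_isRegular rs hreg
    have hdim : Module.supportDim C (C ⧸ (Ideal.ofList L • ⊤ : Submodule C C)) +
        (L.length : ℕ) = Module.supportDim C C := by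
      rw [Module.supportDim_self_eq_ringKrullDim]
      have h2 : (Ideal.ofList L • ⊤ : Submodule C C) = Ideal.ofList rs := by
        rw [hLrs]
        simp
      rw [h2, Module.supportDim_quotient_eq_ringKrullDim, hLlen]
      exact hdimrs
    have hw := Groth.Agent.Lib.Helper28.isWeaklyRegular_of_supportDim_add_length_eq L C
      hCM' hmemL hdim
    exact (IsLocalRing.isRegular_iff_isWeaklyRegular_of_subset_maximalIdeal hmemL).mpr hw
  -- Nakayama
  have h𝔭m : (q.comap (algebraMap R P)).map (algebraMap R B) ≤ maximalIdeal B := by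
    rw [Ideal.map_le_iff_le_comap]
    intro r hr
    rw [Ideal.mem_comap, IsScalarTower.algebraMap_apply R P B,
      ← Localization.AtPrime.map_eq_maximalIdeal]
    exact Ideal.mem_map_of_mem _ hr
  have hle : I.map (algebraMap P B) ≤ K.map (algebraMap P B) ⊔
      (q.comap (algebraMap R P)).map (algebraMap R B) := by
    have h1 : (I.map (algebraMap P B)).map (Ideal.Quotient.mk 𝔭) =
        (K.map (algebraMap P B)).map (Ideal.Quotient.mk 𝔭) := by
      rw [← hmapC, ← hmapC, ← hrs, ← hLrs, hLK]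
    have h2 := Ideal.comap_map_of_surjective (Ideal.Quotient.mk 𝔭) hmk (K.map (algebraMap P B))
    rw [← h1, ← RingHom.ker_eq_comap_bot, Ideal.mk_ker] at h2
    rw [← h2]
    exact Ideal.le_comap_map
  have heq := eq_of_flat_of_le_sup (R := R) (I.map (algebraMap P B)) (K.map (algebraMap P B))
    (Ideal.map_mono hKI) (hfg.map _) (q.comap (algebraMap R P)) h𝔭m hle
  obtain ⟨g, hgq, hg⟩ := exists_mul_mem_of_fg q I K hfg heq.le
  exact ⟨rs.length, F, g, hFI, hgq, hg, hregL⟩

end DataB

end Groth.Agent.Lib.R2H4.SyntNhd
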