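import Mathlib
import Groth.Prelude.Def_RegImm
import Groth.Agent.Lib.R2H4RelGCIAway
import Groth.Agent.Lib.R2H4RegSeqOpen

set_option autoImplicit false
set_option linter.style.haveILetI false
universe u

namespace Groth.Agent.Lib.R2LeadSyntC

open RingTheory.Sequence MvPolynomial
open Groth.Agent.Lib.Helper4.FibDim Groth.Agent.Lib.R2H4.RelGCIFlat Groth.Agent.Lib.R2H4.RelGCIAway

/-- transport of regularity in the fibre local ring along an equality of primes -/
theorem reg_congr {R P : Type u} [CommRing R] [CommRing P] [Algebra R P] (q q' : Ideal P)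
    [q.IsPrime] [q'.IsPrime] (h : q = q') (l : List P) :
    IsRegular (EGA4.FibLocRing R P q) (l.map (algebraMap P (EGA4.FibLocRing R P q))) ↔
      IsRegular (EGA4.FibLocRing R P q') (l.map (algebraMap P (EGA4.FibLocRing R P q'))) := by
  subst h
  exact Iff.rfl

/-- the pointwise comparison (with the regularity criterion), for an arbitrary description of
the ideal -/
theorem key'' (R : Type u) [CommRing R] (n : ℕ) (f : List (MvPolynomial (Fin n) R))
    (I : Ideal (MvPolynomial (Fin n) R)) (hI : I = Ideal.ofList f)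
    (z : PrimeSpectrum (MvPolynomial (Fin n) R ⧸ I)) :
    ∃ a : ℕ, fibLD (PrimeSpectrum.comap (algebraMap R (MvPolynomial (Fin n) R ⧸ I))) z =
      (a : WithBot ℕ∞) ∧ n ≤ a + f.length ∧
      (IsRegular
        (EGA4.FibLocRing R (MvPolynomial (Fin n) R)
          (PrimeSpectrum.comap (Ideal.Quotient.mk I) z).asIdeal)
        (f.map (algebraMap (MvPolynomial (Fin n) R) (EGA4.FibLocRing R (MvPolynomial (Fin n) R)
          (PrimeSpectrum.comap (Ideal.Quotient.mk I) z).asIdeal))) ↔
        a + f.length = n) := by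
  subst hI
  exact Groth.Agent.Lib.R2H4.RegSeqOpen.key R (MvPolynomial (Fin n) R) n
    (fun p => cm_fiber_poly R n p) (fun p P hP => equidim_fiber_poly R n p P hP) f z

section LocIso

variable {R P : Type u} [CommRing R] [CommRing P] [Algebra R P] (J I : Ideal P) (hJI : J ≤ I)
  (h : P) (hh : ∀ a ∈ I, h * a ∈ J)

/-- the map `(P/J)_h → (P/I)_h` -/
noncomputable def locMap (hJI : J ≤ I) :
    Localization.Away (Ideal.Quotient.mk J h) →ₐ[R] Localization.Away (Ideal.Quotient.mk I h) :=
  IsLocalization.Away.liftAlgHom (S := Localization.Away (Ideal.Quotient.mk J h)) (A := R)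
    (Ideal.Quotient.mk J h)
    (f := (Algebra.algHom R (P ⧸ I) (Localization.Away (Ideal.Quotient.mk I h))).comp
      (Ideal.Quotient.factorₐ R hJI))
    (by
      change IsUnit (algebraMap (P ⧸ I) (Localization.Away (Ideal.Quotient.mk I h))
        (Ideal.Quotient.factor hJI (Ideal.Quotient.mk J h)))
      rw [Ideal.Quotient.factor_mk]
      exact IsLocalization.Away.algebraMap_isUnit _)

theorem locMap_algebraMap (x : P) :
    locMap (R := R) J I h hJI (algebraMap (P ⧸ J) _ (Ideal.Quotient.mk J x)) =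
      algebraMap (P ⧸ I) _ (Ideal.Quotient.mk I x) := by
  unfold locMap
  rw [IsLocalization.Away.liftAlgHom_apply, IsLocalization.Away.lift_eq]
  rfl

include hh in
theorem locMap_bijective : Function.Bijective (locMap (R := R) J I h hJI) := by
  constructor
  · rw [injective_iff_map_eq_zero]
    intro x hx
    obtain ⟨y, ⟨_, k, rfl⟩, rfl⟩ := IsLocalization.exists_mk'_eq
      (Submonoid.powers (Ideal.Quotient.mk J h)) x
    obtain ⟨y', rfl⟩ := Ideal.Quotient.mk_surjective y
    have h1 : locMap (R := R) J I h hJI (algebraMap (P ⧸ J) _ (Ideal.Quotient.mk J y')) = 0 := by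
      rw [← IsLocalization.mk'_spec (Localization.Away (Ideal.Quotient.mk J h))
        (Ideal.Quotient.mk J y')
        (⟨Ideal.Quotient.mk J h ^ k, k, rfl⟩ : Submonoid.powers (Ideal.Quotient.mk J h)),
        map_mul, hx, zero_mul]
    rw [locMap_algebraMap, IsLocalization.map_eq_zero_iff
      (Submonoid.powers (Ideal.Quotient.mk I h))] at h1
    obtain ⟨⟨_, m, rfl⟩, hm⟩ := h1
    rw [IsLocalization.mk'_eq_zero_iff]
    refine ⟨(⟨Ideal.Quotient.mk J h ^ (m + 1), m + 1, rfl⟩ :
      Submonoid.powers (Ideal.Quotient.mk J h)), ?_⟩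
    change Ideal.Quotient.mk I h ^ m * Ideal.Quotient.mk I y' = 0 at hm
    rw [← map_pow, ← map_mul, Ideal.Quotient.eq_zero_iff_mem] at hm
    change Ideal.Quotient.mk J h ^ (m + 1) * Ideal.Quotient.mk J y' = 0
    rw [← map_pow, ← map_mul, Ideal.Quotient.eq_zero_iff_mem, pow_succ', mul_assoc]
    exact hh _ hm
  · intro y
    obtain ⟨y', ⟨_, k, rfl⟩, rfl⟩ := IsLocalization.exists_mk'_eq
      (Submonoid.powers (Ideal.Quotient.mk I h)) y
    obtain ⟨y'', rfl⟩ := Ideal.Quotient.mk_surjective y'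
    refine ⟨IsLocalization.mk' _ (Ideal.Quotient.mk J y'')
      (⟨Ideal.Quotient.mk J h ^ k, k, rfl⟩ : Submonoid.powers (Ideal.Quotient.mk J h)), ?_⟩
    rw [IsLocalization.eq_mk'_iff_mul_eq]
    have h2 : algebraMap (P ⧸ I) (Localization.Away (Ideal.Quotient.mk I h))
        (Ideal.Quotient.mk I h ^ k) =
        locMap (R := R) J I h hJI (algebraMap (P ⧸ J) _ (Ideal.Quotient.mk J h ^ k)) := by
      rw [← map_pow, ← map_pow, locMap_algebraMap]
    change _ * algebraMap (P ⧸ I) _ (Ideal.Quotient.mk I h ^ k) = _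
    rw [h2, ← map_mul]
    have h3 := IsLocalization.mk'_spec (Localization.Away (Ideal.Quotient.mk J h))
        (Ideal.Quotient.mk J y'')
        (⟨Ideal.Quotient.mk J h ^ k, k, rfl⟩ : Submonoid.powers (Ideal.Quotient.mk J h))
    change _ * algebraMap (P ⧸ J) _ (Ideal.Quotient.mk J h ^ k) = _ at h3
    rw [h3, locMap_algebraMap]

end LocIso

/-- **Common lemma.** If `I` is, near the prime `q`, generated by `F_1, …, F_c` and these form a
regular sequence in the local ring of the fibre at `q`, then a basic open neighbourhood of `q` in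
`Spec (P/I)` is a relative global complete intersection. -/
theorem common (R : Type u) [CommRing R] (n c : ℕ) (F : Fin c → MvPolynomial (Fin n) R)
    (I : Ideal (MvPolynomial (Fin n) R)) (hFI : ∀ i, F i ∈ I)
    (q : Ideal (MvPolynomial (Fin n) R)) [hq : q.IsPrime] (hIq : I ≤ q)
    (g : MvPolynomial (Fin n) R) (hg : g ∉ q)
    (hgI : ∀ a ∈ I, g * a ∈ Ideal.span (Set.range F))
    (hreg : IsRegular (EGA4.FibLocRing R (MvPolynomial (Fin n) R) q)
      ((List.ofFn F).map (algebraMap _ (EGA4.FibLocRing R (MvPolynomial (Fin n) R) q)))) :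
    ∃ h : MvPolynomial (Fin n) R, h ∉ q ∧ Synt.IsRelGCI R (n + 1) (c + 1) (F' R n c F h) ∧
      Nonempty (Localization.Away (Ideal.Quotient.mk I h) ≃ₐ[R]
        Synt.RelGCIRing R (n + 1) (c + 1) (F' R n c F h)) := by
  have hFle : Ideal.span (Set.range F) ≤ I := by
    rw [Ideal.span_le]
    rintro _ ⟨i, rfl⟩
    exact hFI i
  have hFq : Ideal.span (Set.range F) ≤ q := hFle.trans hIq
  -- the point `z`
  have hzprime : (q.map (Ideal.Quotient.mk (Ideal.span (Set.range F)))).IsPrime :=
    Ideal.isPrime_map_quotientMk_of_isPrime hFq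
  let z : PrimeSpectrum (Synt.RelGCIRing R n c F) := ⟨_, hzprime⟩
  have hzq : (PrimeSpectrum.comap (Ideal.Quotient.mk (Ideal.span (Set.range F))) z).asIdeal = q := by
    change (q.map (Ideal.Quotient.mk (Ideal.span (Set.range F)))).comap
      (Ideal.Quotient.mk (Ideal.span (Set.range F))) = q
    rw [Ideal.comap_map_of_surjective _ Ideal.Quotient.mk_surjective, ← RingHom.ker_eq_comap_bot,
      Ideal.mk_ker]
    exact sup_eq_left.mpr hFq
  obtain ⟨a, ha, hle, hiff⟩ := key'' R n (List.ofFn F) (Ideal.span (Set.range F))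
    (ofList_ofFn F).symm z
  rw [List.length_ofFn] at hle hiff
  have hac : a + c = n := by
    rw [← hiff]
    exact (reg_congr _ q hzq (List.ofFn F)).mpr hreg
  have hcn : c ≤ n := by omega
  obtain ⟨J, hJ⟩ := exists_ideal R n c F
  have hzJ : z ∉ PrimeSpectrum.zeroLocus (J : Set (Synt.RelGCIRing R n c F)) := by
    rw [← hJ, Set.mem_compl_iff, not_not]
    change fibLD _ z ≤ _
    rw [ha]
    have : a ≤ n - c := by omega
    exact_mod_cast this
  rw [PrimeSpectrum.mem_zeroLocus, Set.not_subset] at hzJ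
  obtain ⟨j, hjJ, hjz⟩ := hzJ
  obtain ⟨h₀, rfl⟩ := Ideal.Quotient.mk_surjective j
  have hh₀ : h₀ ∉ q := by
    intro hmem
    exact hjz (Ideal.mem_map_of_mem _ hmem)
  refine ⟨h₀ * g, ?_, ?_, ?_⟩
  · intro hmem
    rcases hq.mem_or_mem hmem with h1 | h1
    · exact hh₀ h1
    · exact hg h1
  · apply isRelGCI_away_of_mem R n c F hcn J hJ
    rw [map_mul]
    exact Ideal.mul_mem_right _ _ hjJ
  · have hh : ∀ a ∈ I, (h₀ * g) * a ∈ Ideal.span (Set.range F) := by
      intro a ha
      rw [mul_assoc]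
      exact Ideal.mul_mem_left _ _ (hgI a ha)
    have e1 : Localization.Away (Ideal.Quotient.mk (Ideal.span (Set.range F)) (h₀ * g)) ≃ₐ[R]
        Localization.Away (Ideal.Quotient.mk I (h₀ * g)) :=
      AlgEquiv.ofBijective (locMap (R := R) _ I (h₀ * g) hFle)
        (locMap_bijective _ I hFle (h₀ * g) hh)
    exact ⟨e1.symm.trans (equiv R n c F (h₀ * g))⟩

end Groth.Agent.Lib.R2LeadSyntC
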