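import Mathlib
import Groth.Prelude.Def_DTen
import Groth.Prelude.Def_Koszul

/-!
# Tensor product of complexes commutes with mapping cones (first variable); Koszul complexes

`coneTensorIso φ L : mappingCone (φ ▷ L) ≅ mappingCone φ ⊗ L` for cochain complexes of modules, and
`K(f) ⊗ K(g) ≅ K(f ++ g)` for the prelude's mapping-cone Koszul complexes.
-/

set_option autoImplicit false
universe u
open CategoryTheory CategoryTheory.Limits MonoidalCategory HomologicalComplex

namespace Groth.Agent.Lib.Helper8KoszulTensor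

variable {A : Type u} [CommRing A]

local macro "FF" : term => `(curriedTensor (ModuleCat _))
local macro "cc" : term => `(ComplexShape.up ℤ)

lemma rel (p : ℤ) : (ComplexShape.up ℤ).Rel p (p + 1) := by simp

lemma hc : ∀ j : ℤ, ∃ i, (ComplexShape.up ℤ).Rel i j := fun j => ⟨j - 1, by simp⟩

section
variable {K K' : DRing.Cx A} (φ : K ⟶ K') (L : DRing.Cx A)

lemma zero_whiskerRight' : (0 : K ⟶ K') ▷ L = 0 := by
  ext n : 1
  apply mapBifunctor.hom_ext
  intro p q h
  change ιMapBifunctor K L FF cc p q n h ≫ (mapBifunctorMap (0 : K ⟶ K') (𝟙 L) FF cc).f n = _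
  rw [ι_mapBifunctorMap]
  simp

/-- the homotopy `(φ ▷ L) ≫ (inr φ ▷ L) ∼ 0`. -/
noncomputable def whiskerHomotopy :
    Homotopy ((φ ▷ L) ≫ (homotopyCofiber.inr φ ▷ L)) 0 :=
  (Homotopy.ofEq (by rw [← comp_whiskerRight]; rfl)).trans
    ((mapBifunctorMapHomotopy₁ (homotopyCofiber.inrCompHomotopy φ hc) (𝟙 L) FF cc).trans
      (Homotopy.ofEq (zero_whiskerRight' L)))

lemma whiskerHomotopy_hom (i j : ℤ) :
    (whiskerHomotopy φ L).hom i j =
      mapBifunctorMapHomotopy.hom₁ (homotopyCofiber.inrCompHomotopy φ hc) (𝟙 L) FF cc i j := by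
  simp [whiskerHomotopy, Homotopy.trans, Homotopy.ofEq, mapBifunctorMapHomotopy₁]

@[reassoc]
lemma ι_whiskerHomotopy_hom (p q n : ℤ) (h : p + q = n) :
    ιMapBifunctor K L FF cc (p + 1) q (n + 1) (by change p + 1 + q = n + 1; omega) ≫
        (whiskerHomotopy φ L).hom (n + 1) n =
      (homotopyCofiber.inlX φ (p + 1) p (rel p) ▷ L.X q) ≫
        ιMapBifunctor (homotopyCofiber φ) L FF cc p q n h := by
  rw [whiskerHomotopy_hom,
    mapBifunctorMapHomotopy.ιMapBifunctor_hom₁ _ _ _ _ p (p + 1) q (n + 1) n _ (by simp),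
    homotopyCofiber.inrCompHomotopy_hom φ hc (p + 1) p (rel p),
    ιMapBifunctorOrZero_eq _ _ _ _ p q n h]
  simp

/-- chain map `cone (φ ▷ L) ⟶ cone φ ⊗ L`. -/
noncomputable def coneTensorHom :
    homotopyCofiber (φ ▷ L) ⟶ homotopyCofiber φ ⊗ L :=
  homotopyCofiber.desc (φ ▷ L) (homotopyCofiber.inr φ ▷ L) (whiskerHomotopy φ L)

/-- degreewise inverse of `coneTensorHom`. -/
noncomputable def coneTensorInvX (n : ℤ) :
    (homotopyCofiber φ ⊗ L).X n ⟶ (homotopyCofiber (φ ▷ L)).X n :=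
  mapBifunctorDesc (K₁ := homotopyCofiber φ) (K₂ := L) (F := FF) (c := cc)
    (fun p q h =>
      (homotopyCofiber.fstX φ p (p + 1) (rel p) ▷ L.X q) ≫
          ιMapBifunctor K L FF cc (p + 1) q (n + 1)
            (by change p + 1 + q = n + 1; have : p + q = n := h; omega) ≫
          homotopyCofiber.inlX (φ ▷ L) (n + 1) n (rel n) +
        (homotopyCofiber.sndX φ p ▷ L.X q) ≫ ιMapBifunctor K' L FF cc p q n h ≫
          homotopyCofiber.inrX (φ ▷ L) n)

@[reassoc]
lemma ι_coneTensorInvX (p q n : ℤ) (h : p + q = n) :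
    ιMapBifunctor (homotopyCofiber φ) L FF cc p q n h ≫ coneTensorInvX φ L n =
      (homotopyCofiber.fstX φ p (p + 1) (rel p) ▷ L.X q) ≫
          ιMapBifunctor K L FF cc (p + 1) q (n + 1) (by change p + 1 + q = n + 1; omega) ≫
          homotopyCofiber.inlX (φ ▷ L) (n + 1) n (rel n) +
        (homotopyCofiber.sndX φ p ▷ L.X q) ≫ ιMapBifunctor K' L FF cc p q n h ≫
          homotopyCofiber.inrX (φ ▷ L) n := by
  simp [coneTensorInvX]

lemma fst_inl_add_snd_inr (p : ℤ) :
    homotopyCofiber.fstX φ p (p + 1) (rel p) ≫ homotopyCofiber.inlX φ (p + 1) p (rel p) +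
      homotopyCofiber.sndX φ p ≫ homotopyCofiber.inrX φ p = 𝟙 _ := by
  apply homotopyCofiber.ext_from_X φ (p + 1) p (rel p)
  · simp
  · simp

lemma coneTensorHom_f_inv (n : ℤ) :
    (coneTensorHom φ L).f n ≫ coneTensorInvX φ L n = 𝟙 _ := by
  apply homotopyCofiber.ext_from_X (φ ▷ L) (n + 1) n (rel n)
  · apply mapBifunctor.hom_ext
    intro p' q h'
    obtain ⟨p, rfl⟩ : ∃ p, p' = p + 1 := ⟨p' - 1, by omega⟩
    have h : p + q = n := by
      have : p + 1 + q = n + 1 := h'
      omega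
    rw [coneTensorHom, homotopyCofiber.inlX_desc_f_assoc, ι_whiskerHomotopy_hom_assoc φ L p q n h,
      ι_coneTensorInvX φ L p q n h, Preadditive.comp_add, ← comp_whiskerRight_assoc,
      ← comp_whiskerRight_assoc, homotopyCofiber.inlX_fstX, homotopyCofiber.inlX_sndX]
    simp
  · apply mapBifunctor.hom_ext
    intro p q h
    rw [coneTensorHom, homotopyCofiber.inrX_desc_f_assoc]
    change ιMapBifunctor K' L FF cc p q n h ≫
      (mapBifunctorMap (homotopyCofiber.inr φ) (𝟙 L) FF cc).f n ≫ _ = _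
    rw [ι_mapBifunctorMap_assoc]
    rw [ι_coneTensorInvX φ L p q n h]
    dsimp
    simp only [MonoidalCategory.whiskerLeft_id, Category.id_comp, Preadditive.comp_add,
      homotopyCofiber.inr_f]
    rw [← comp_whiskerRight_assoc, ← comp_whiskerRight_assoc, homotopyCofiber.inrX_fstX,
      homotopyCofiber.inrX_sndX]
    simp

lemma coneTensorInv_f_hom (n : ℤ) :
    coneTensorInvX φ L n ≫ (coneTensorHom φ L).f n = 𝟙 _ := by
  apply mapBifunctor.hom_ext
  intro p q h
  rw [ι_coneTensorInvX_assoc φ L p q n h, Preadditive.add_comp]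
  simp only [Category.assoc]
  rw [coneTensorHom, homotopyCofiber.inlX_desc_f, homotopyCofiber.inrX_desc_f,
    ι_whiskerHomotopy_hom φ L p q n h]
  change _ + _ ≫ ιMapBifunctor K' L FF cc p q n h ≫
    (mapBifunctorMap (homotopyCofiber.inr φ) (𝟙 L) FF cc).f n = _
  rw [ι_mapBifunctorMap]
  dsimp
  simp only [MonoidalCategory.whiskerLeft_id, Category.id_comp, homotopyCofiber.inr_f]
  rw [← comp_whiskerRight_assoc, ← comp_whiskerRight_assoc, ← Preadditive.add_comp,
    ← MonoidalPreadditive.add_whiskerRight, fst_inl_add_snd_inr]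
  simp
  erw [Category.comp_id]

/-- `cone (φ ▷ L) ≅ cone φ ⊗ L`. -/
noncomputable def coneTensorIso :
    homotopyCofiber (φ ▷ L) ≅ homotopyCofiber φ ⊗ L :=
  haveI : ∀ n, IsIso ((coneTensorHom φ L).f n) := fun n =>
    ⟨coneTensorInvX φ L n, coneTensorHom_f_inv φ L n, coneTensorInv_f_hom φ L n⟩
  haveI : IsIso (coneTensorHom φ L) := HomologicalComplex.Hom.isIso_of_components _
  asIso (coneTensorHom φ L)

end

lemma smul_id_whiskerRight (a : A) (K L : DRing.Cx A) : (a • 𝟙 K) ▷ L = a • 𝟙 (K ⊗ L) := by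
  ext n : 1
  apply mapBifunctor.hom_ext
  intro p q h
  change ιMapBifunctor K L FF cc p q n h ≫ (mapBifunctorMap (a • 𝟙 K) (𝟙 L) FF cc).f n = _
  rw [ι_mapBifunctorMap]
  simp
  erw [Category.comp_id]

/-- `cone (a on K) ⊗ L ≅ cone (a on K ⊗ L)`. -/
noncomputable def coneSmulTensorIso (a : A) (K L : DRing.Cx A) :
    homotopyCofiber (a • 𝟙 K) ⊗ L ≅ homotopyCofiber (a • 𝟙 (K ⊗ L)) :=
  (coneTensorIso (a • 𝟙 K) L).symm ≪≫
    homotopyCofiber.mapArrowIso _ _ hc
      (Arrow.isoMk (Iso.refl _) (Iso.refl _) (by simp [smul_id_whiskerRight]))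

/-- functoriality of `cone (a on -)` in isomorphisms. -/
noncomputable def coneSmulIso (a : A) {X Y : DRing.Cx A} (e : X ≅ Y) :
    homotopyCofiber (a • 𝟙 X) ≅ homotopyCofiber (a • 𝟙 Y) :=
  homotopyCofiber.mapArrowIso _ _ hc (Arrow.isoMk e e (by simp))

theorem nonempty_koszul_tensor_iso (f g : List A) :
    Nonempty ((MonoidalCategoryStruct.tensorObj (C := DRing.Cx A) (Koszul.koszul A f)
      (Koszul.koszul A g)) ≅ Koszul.koszul A (f ++ g)) := by
  induction f with
  | nil => exact ⟨λ_ (Koszul.koszul A g)⟩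
  | cons a l ih =>
    obtain ⟨e⟩ := ih
    exact ⟨coneSmulTensorIso a (Koszul.koszul A l) (Koszul.koszul A g) ≪≫ coneSmulIso a e⟩

end Groth.Agent.Lib.Helper8KoszulTensor
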