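import Mathlib
import Groth.Prelude.Def_RegImm
import Groth.Agent.Lib.Helper13Kz
import Groth.Agent.Lib.Helper13KzLiftB
import Groth.Agent.Lib.Helper5KoszulGor
import Groth.Agent.Lib.Helper8KoszulTensor
import Groth.Agent.Lib.Helper21KoszulDepth
import Groth.Agent.S14433

/-!
# Independence of generators for Koszul-regular sequences (helper3)

`isKoszulRegularSeq_of_same_length`: if `g` is a Koszul-regular sequence in a ring `A` and `f` is a
sequence of the same length generating the same ideal, then `f` is Koszul-regular.  (No local or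
Noetherian hypothesis.)

Proof: `K(f ++ g) ≅ K(g ++ f)` (tensor product and its symmetry).  As `g` is Koszul-regular,
`K(f ++ g)` has no cohomology in degrees `< -r`.  As the `g_j` lie in `(f)`, the top nonzero
cohomology of `K(f)` in degree `-m` survives to degree `-(m+r)` of `K(g ++ f)`.  Hence `m = 0`.
-/

set_option autoImplicit false
set_option linter.style.haveILetI false
set_option linter.unusedVariables false
set_option linter.unusedSectionVars false
universe u

namespace Groth.Agent.Lib.R2H3.KzGen

open CategoryTheory CategoryTheory.Limits CochainComplex CohIII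
open Groth.Agent.Helper13Kz Groth.Agent.Helper13KzLift Groth.Agent.Lib.Helper21
open Groth.Agent.Lib.Helper5.KoszulGor

variable {A : Type u} [CommRing A]

/-- cohomology vanishes in degrees `< -m`. -/
def TopLE (K : CochainComplex (ModuleCat.{u} A) ℤ) (m : ℤ) : Prop :=
  ∀ i : ℤ, i < -m → IsZero (K.homology i)

theorem topLE_cone (K : CochainComplex (ModuleCat.{u} A) ℤ) (x : A) (m : ℤ) (h : TopLE K m) :
    TopLE (mappingCone (x • 𝟙 K)) (m + 1) := by
  intro i hi
  obtain ⟨g, δ, h1, h2, h3⟩ := cone_les K x i
  haveI s1 : Subsingleton (K.homology i) := ModuleCat.subsingleton_of_isZero (h i (by omega))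
  haveI s2 : Subsingleton (K.homology (i + 1)) :=
    ModuleCat.subsingleton_of_isZero (h (i + 1) (by omega))
  have : Subsingleton ((mappingCone (x • 𝟙 K)).homology i) := by
    refine ⟨fun a b => ?_⟩
    have key : ∀ c : (mappingCone (x • 𝟙 K)).homology i, c = 0 := by
      intro c
      obtain ⟨z, hz⟩ := (h2 c).mp (Subsingleton.elim _ _)
      rw [← hz, Subsingleton.elim z 0, map_zero]
    rw [key a, key b]
  exact ModuleCat.isZero_of_subsingleton _

theorem isZero_of_cone (K : CochainComplex (ModuleCat.{u} A) ℤ) (x : A) (i j : ℤ) (hij : i + 1 = j)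
    (hx : ∀ z : K.homology j, x • z = 0)
    (hc : IsZero ((mappingCone (x • 𝟙 K)).homology i)) : IsZero (K.homology j) := by
  obtain ⟨g, δ, h1, h2, h3⟩ := cone_les' K x i j hij
  haveI : Subsingleton ((mappingCone (x • 𝟙 K)).homology i) := ModuleCat.subsingleton_of_isZero hc
  have : Subsingleton (K.homology j) := by
    refine ⟨fun a b => ?_⟩
    have key : ∀ z : K.homology j, z = 0 := by
      intro z
      obtain ⟨c, hc⟩ := (h3 z).mp (hx z)
      rw [← hc, Subsingleton.elim c 0, map_zero]
    rw [key a, key b]
  exact ModuleCat.isZero_of_subsingleton _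

/-- elements of the ideal of the list kill Koszul cohomology. -/
theorem smul_eq_zero_of_mem (l : List A) (a : A) (ha : a ∈ Ideal.span {x | x ∈ l}) (i : ℤ)
    (z : (koszulCx (ModuleCat.of A A) l).homology i) : a • z = 0 := by
  have h := smul_homology_eq_zero (ModuleCat.of A A) l a (Groth.Agent.S14433.key2 _ l a ha) i
  have h2 := homologyMap_smul_id_hom (koszulCx (ModuleCat.of A A) l) a i
  rw [h] at h2
  have h3 : (a • (LinearMap.id : (koszulCx (ModuleCat.of A A) l).homology i →ₗ[A] _)) z = 0 := by
    rw [← h2]
    rfl
  rw [LinearMap.smul_apply, LinearMap.id_apply] at h3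
  exact h3

theorem topLE_append (f : List A) (m : ℤ) (h : TopLE (koszulCx (ModuleCat.of A A) f) m) :
    ∀ g : List A, TopLE (koszulCx (ModuleCat.of A A) (g ++ f)) (m + g.length)
  | [] => by simpa using h
  | a :: g => by
    have := topLE_cone _ a _ (topLE_append f m h g)
    simp only [List.length_cons, Nat.cast_add, Nat.cast_one]
    rw [← add_assoc]
    exact this

theorem topLE_append_of_koszul (g : List A) (hg : LCI.IsKoszulRegularSeq A g) (f : List A) :
    TopLE (koszulCx (ModuleCat.of A A) (f ++ g)) f.length := by
  have h0 : TopLE (koszulCx (ModuleCat.of A A) g) 0 := by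
    intro i hi
    exact (isZero_congr (koszul_eq A g) i).mp (hg i (by omega))
  have := topLE_append g 0 h0 f
  simpa using this

theorem isZero_of_append (f : List A) (m : ℤ) (h : TopLE (koszulCx (ModuleCat.of A A) f) m) :
    ∀ g : List A, (∀ a ∈ g, a ∈ Ideal.span {x | x ∈ f}) →
      IsZero ((koszulCx (ModuleCat.of A A) (g ++ f)).homology (-(m + g.length))) →
      IsZero ((koszulCx (ModuleCat.of A A) f).homology (-m))
  | [], _, hz => by simpa using hz
  | a :: g, hmem, hz => by
    apply isZero_of_append f m h g (fun b hb => hmem b (List.mem_cons_of_mem _ hb))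
    have ha : a ∈ Ideal.span {x | x ∈ g ++ f} := by
      refine Ideal.span_mono ?_ (hmem a List.mem_cons_self)
      intro x hx
      exact List.mem_append_right _ hx
    refine isZero_of_cone (koszulCx (ModuleCat.of A A) (g ++ f)) a
      (-(m + ((a :: g).length : ℤ))) (-(m + g.length)) ?_
      (fun z => smul_eq_zero_of_mem (g ++ f) a ha _ z) hz
    simp only [List.length_cons, Nat.cast_add, Nat.cast_one]
    ring

/-- `K(f ++ g) ≅ K(g ++ f)`. -/
theorem nonempty_iso_swap (f g : List A) :
    Nonempty (Koszul.koszul A (f ++ g) ≅ Koszul.koszul A (g ++ f)) := by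
  obtain ⟨e1⟩ := Groth.Agent.Lib.Helper8KoszulTensor.nonempty_koszul_tensor_iso f g
  obtain ⟨e2⟩ := Groth.Agent.Lib.Helper8KoszulTensor.nonempty_koszul_tensor_iso g f
  exact ⟨e1.symm ≪≫ DTen.braidCx _ _ ≪≫ e2⟩

theorem isZero_swap (f g : List A) (i : ℤ)
    (h : IsZero ((koszulCx (ModuleCat.of A A) (f ++ g)).homology i)) :
    IsZero ((koszulCx (ModuleCat.of A A) (g ++ f)).homology i) := by
  obtain ⟨e⟩ := nonempty_iso_swap f g
  rw [← isZero_congr (koszul_eq A (f ++ g)) i] at h
  rw [← isZero_congr (koszul_eq A (g ++ f)) i]
  exact h.of_iso ((HomologicalComplex.homologyFunctor _ _ i).mapIso e.symm)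

/-- **Independence of generators**: a sequence of the same length generating the same ideal as a
Koszul-regular sequence is Koszul-regular. -/
theorem isKoszulRegularSeq_of_same_length (f g : List A) (hg : LCI.IsKoszulRegularSeq A g)
    (hlen : f.length = g.length) (hspan : Ideal.ofList f = Ideal.ofList g) :
    LCI.IsKoszulRegularSeq A f := by
  have hgf : ∀ a ∈ g, a ∈ Ideal.span {x | x ∈ f} := by
    intro a ha
    have : a ∈ Ideal.ofList g := Ideal.subset_span ha
    rw [← hspan] at this
    exact this
  -- descending induction
  have key : ∀ k : ℕ, k ≤ f.length →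
      TopLE (koszulCx (ModuleCat.of A A) f) ((f.length : ℤ) - k) := by
    intro k
    induction k with
    | zero =>
      intro _ i hi
      apply isZero_homology_of_isZero_X
      apply isZero_koszulCx_X_neg
      simpa using hi
    | succ k ih =>
      intro hk
      have ih' := ih (by omega)
      intro i hi
      by_cases hi' : i < -((f.length : ℤ) - k)
      · exact ih' i hi'
      · have hi_eq : i = -((f.length : ℤ) - k) := by
          push_cast at hi
          omega
        subst hi_eq
        apply isZero_of_append f _ ih' g hgf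
        apply isZero_swap f g
        apply topLE_append_of_koszul g hg f
        rw [← hlen]
        omega
  intro i hi
  rw [isZero_congr (koszul_eq A f) i]
  rcases lt_or_gt_of_ne hi with h | h
  · have := key f.length le_rfl
    apply this
    simpa using h
  · apply isZero_homology_of_isZero_X
    exact isZero_koszulCx_X_pos _ f i h

end Groth.Agent.Lib.R2H3.KzGen
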