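import Mathlib
import Groth.Prelude.Def_RegImm
import Groth.Agent.Lib.Helper13Kz
import Groth.Agent.Lib.Helper13KzLiftB
import Groth.Agent.Lib.Helper13KzLiftH
import Groth.Agent.Lib.Helper5KoszulGor

/-!
# Flat base change for Koszul cohomology (helper3)

`isZero_iff_subsingleton_tensor`: for a flat ring map `φ : S → T` and a list `l` in `S`,
`H^i(K(φ l; T)) = 0` iff `H^i(K(l; S)) ⊗_S T = 0`.
-/

set_option autoImplicit false
set_option linter.style.haveILetI false
set_option linter.unusedVariables false
set_option linter.unusedSectionVars false
universe u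

namespace Groth.Agent.Lib.R2H3.KzFBC

open CategoryTheory CategoryTheory.Limits CochainComplex CohIII MonoidalCategory
open Groth.Agent.Helper13Kz Groth.Agent.Helper13KzLift Groth.Agent.Lib.Helper21
open Groth.Agent.Lib.Helper5.KoszulGor
open scoped TensorProduct

variable {S T : Type u} [CommRing S] [CommRing T]

theorem isZero_iff_subsingleton_tensor [Algebra S T] [Module.Flat S T] (l : List S) (i : ℤ) :
    IsZero ((koszulCx (ModuleCat.of T T) (l.map (algebraMap S T))).homology i) ↔
      Subsingleton (((koszulCx (ModuleCat.of S S) l).homology i) ⊗[S] T) := by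
  set K := koszulCx (ModuleCat.of S S) l with hK
  let F : ModuleCat.{u} S := ModuleCat.of S T
  haveI : Module.Flat S F := inferInstanceAs (Module.Flat S T)
  haveI hPH : (tensorRight F).PreservesHomology :=
    Functor.preservesHomology_of_map_exact _
      (fun C hC => Module.Flat.rTensor_shortComplex_exact (M := F) C hC)
  let e' : T ≃ₗ[S] ((ModuleCat.restrictScalars (algebraMap S T)).obj (ModuleCat.of T T)) :=
    { toFun := fun t => t
      invFun := fun t => t
      left_inv := fun _ => rfl
      right_inv := fun _ => rfl
      map_add' := fun _ _ => rfl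
      map_smul' := fun s t => by
        rw [RingHom.id_apply]
        exact Algebra.smul_def s t }
  have step1 : IsZero ((koszulCx (ModuleCat.of T T) (l.map (algebraMap S T))).homology i) ↔
      Subsingleton (KH l ((ModuleCat.restrictScalars (algebraMap S T)).obj (ModuleCat.of T T)) i) := by
    constructor
    · intro h
      exact ModuleCat.subsingleton_of_isZero
        (isZero_homology_restrict (algebraMap S T) (ModuleCat.of T T) l i h)
    · intro h
      exact isZero_homology_of_restrict (algebraMap S T) (ModuleCat.of T T) l i
        (ModuleCat.isZero_of_subsingleton _)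
  have step2 : Subsingleton (KH l ((ModuleCat.restrictScalars (algebraMap S T)).obj
      (ModuleCat.of T T)) i) ↔ Subsingleton (KH l (S ⊗[S] T) i) := by
    constructor
    · intro h
      exact subsingleton_KH_of_equiv l (e'.symm.trans (TensorProduct.lid S T).symm) i h
    · intro h
      exact subsingleton_KH_of_equiv l ((TensorProduct.lid S T).trans e') i h
  have step3 : Subsingleton (KH l (S ⊗[S] T) i) ↔
      IsZero ((tensorRight F).obj (K.homology i)) := by
    have e1 : (koszulCx (ModuleCat.of S S ⊗ F) l).homology i ≅ (tensorRight F).obj (K.homology i) :=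
      ((HomologicalComplex.homologyFunctor _ _ i).mapIso (tensIso F (ModuleCat.of S S) l)).symm ≪≫
        ((K.sc i).mapHomologyIso (tensorRight F))
    constructor
    · intro h
      have h1 : IsZero ((koszulCx (ModuleCat.of S S ⊗ F) l).homology i) :=
        ModuleCat.isZero_of_subsingleton _
      exact h1.of_iso e1.symm
    · intro h
      exact ModuleCat.subsingleton_of_isZero (h.of_iso e1)
  rw [step1, step2, step3]
  constructor
  · intro h
    exact ModuleCat.subsingleton_of_isZero h
  · intro h
    haveI : Subsingleton ((tensorRight F).obj (K.homology i)) := h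
    exact ModuleCat.isZero_of_subsingleton _

/-- ring-hom form. -/
theorem isKoszulRegularSeq_map_iff (φ : S →+* T) (hφ : φ.Flat) (l : List S) :
    LCI.IsKoszulRegularSeq T (l.map φ) ↔
      ∀ i : ℤ, i ≠ 0 → letI := φ.toAlgebra
        Subsingleton (((koszulCx (ModuleCat.of S S) l).homology i) ⊗[S] T) := by
  letI := φ.toAlgebra
  haveI : Module.Flat S T := hφ
  constructor
  · intro h i hi
    rw [← isZero_iff_subsingleton_tensor l i]
    exact (isZero_congr (koszul_eq T (l.map φ)) i).mp (h i hi)
  · intro h i hi
    rw [isZero_congr (koszul_eq T (l.map φ)) i]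
    exact (isZero_iff_subsingleton_tensor l i).mpr (h i hi)

end Groth.Agent.Lib.R2H3.KzFBC
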