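import Mathlib

/-!
# Generators of a finitely generated ideal near a prime, counted by the fibre rank (lead)
-/

set_option autoImplicit false
open TensorProduct

namespace Groth.Agent.Lib.R2LeadKzDescGen

universe u

variable {A : Type u} [CommRing A]

/-- the fibre rank of the ideal `I` at the prime `p`. -/
noncomputable def rho (I : Ideal A) (p : PrimeSpectrum A) : ℕ :=
  Module.finrank p.asIdeal.ResidueField (p.asIdeal.ResidueField ⊗[A] I)

lemma span_one_tmul (I : Ideal A) (p : PrimeSpectrum A) :
    Submodule.span p.asIdeal.ResidueField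
      {z : p.asIdeal.ResidueField ⊗[A] I | ∃ x : I, z = 1 ⊗ₜ[A] x} = ⊤ := by
  rw [eq_top_iff]
  rintro z -
  induction z using TensorProduct.induction_on with
  | zero => exact Submodule.zero_mem _
  | tmul c x =>
    have : c ⊗ₜ[A] x = c • ((1 : p.asIdeal.ResidueField) ⊗ₜ[A] x) := by
      rw [TensorProduct.smul_tmul', smul_eq_mul, mul_one]
    rw [this]
    exact Submodule.smul_mem _ _ (Submodule.subset_span ⟨x, rfl⟩)
  | add x y hx hy => exact Submodule.add_mem _ hx hy

/-- near a prime `p`, a finitely generated ideal `I` is generated by `rho I p` of its elements. -/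
theorem exists_generators (I : Ideal A) (hI : I.FG) (p : PrimeSpectrum A) :
    ∃ (f : Fin (rho I p) → A) (g : A), (∀ i, f i ∈ I) ∧ g ∉ p.asIdeal ∧
      ∀ x ∈ I, g * x ∈ Ideal.span (Set.range f) := by
  haveI : Module.Finite A I := Module.Finite.iff_fg.mpr hI
  set k := p.asIdeal.ResidueField with hk
  set S : Set (k ⊗[A] I) := {z | ∃ x : I, z = 1 ⊗ₜ[A] x} with hS
  have hspan : Submodule.span k S = ⊤ := span_one_tmul I p
  have hd : Module.finrank k (Submodule.span k S) = rho I p := by
    rw [hspan, finrank_top]
    rfl
  have hex := Submodule.exists_fun_fin_finrank_span_eq k S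
  rw [hd, hspan] at hex
  obtain ⟨b, hbS, hbspan, -⟩ := hex
  choose x hx using hbS
  -- the submodule of `I` generated by the `x i`
  set N : Submodule A I := Submodule.span A (Set.range x) with hN
  -- `k ⊗ (I / N) = 0`
  have hsub : Subsingleton (k ⊗[A] (I ⧸ N)) := by
    have hsurj : Function.Surjective (LinearMap.lTensor k N.mkQ) :=
      LinearMap.lTensor_surjective k (Submodule.mkQ_surjective N)
    refine ⟨fun a c => ?_⟩
    have key : ∀ z : k ⊗[A] I, (N.mkQ.baseChange k) z = 0 := by
      intro z
      have hz : z ∈ Submodule.span k (Set.range b) := by rw [hbspan]; trivial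
      induction hz using Submodule.span_induction with
      | mem v hv =>
        obtain ⟨i, rfl⟩ := hv
        rw [hx i, LinearMap.baseChange_tmul]
        have : N.mkQ (x i) = 0 := by
          rw [Submodule.mkQ_apply, Submodule.Quotient.mk_eq_zero]
          exact Submodule.subset_span ⟨i, rfl⟩
        rw [this, TensorProduct.tmul_zero]
      | zero => simp
      | add v w _ _ hv hw => rw [map_add, hv, hw, add_zero]
      | smul c v _ hv => rw [map_smul, hv, smul_zero]
    have key' : ∀ z : k ⊗[A] I, LinearMap.lTensor k N.mkQ z = 0 := key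
    obtain ⟨a', rfl⟩ := hsurj a
    obtain ⟨c', rfl⟩ := hsurj c
    rw [key', key']
  have hnot : p ∉ Module.support A (I ⧸ N) := by
    rw [Module.mem_support_iff_nontrivial_residueField_tensorProduct]
    exact not_nontrivial_iff_subsingleton.mpr hsub
  rw [Module.support_eq_zeroLocus, PrimeSpectrum.mem_zeroLocus, Set.not_subset] at hnot
  obtain ⟨g, hgann, hgp⟩ := hnot
  refine ⟨fun i => (x i : A), g, fun i => (x i).2, hgp, fun y hy => ?_⟩
  have h1 : g • (N.mkQ ⟨y, hy⟩) = 0 := Module.mem_annihilator.mp hgann _
  rw [← map_smul, Submodule.mkQ_apply, Submodule.Quotient.mk_eq_zero] at h1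
  -- transport membership in `N` to the ideal
  have h2 : ∀ z : I, z ∈ N → (z : A) ∈ Ideal.span (Set.range fun i => (x i : A)) := by
    intro z hz
    induction hz using Submodule.span_induction with
    | mem v hv =>
      obtain ⟨i, rfl⟩ := hv
      exact Ideal.subset_span ⟨i, rfl⟩
    | zero => exact Submodule.zero_mem _
    | add v w _ _ hv hw => exact Submodule.add_mem _ hv hw
    | smul c v _ hv => exact Ideal.mul_mem_left _ c hv
  exact h2 _ h1

end Groth.Agent.Lib.R2LeadKzDescGen
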