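import Mathlib
import Groth.Prelude.Def_CAlgX

/-!
# Fibre rank of an ideal generated by an `H_1`-regular sequence (lead)
-/

set_option autoImplicit false
open TensorProduct

namespace Groth.Agent.Lib.R2LeadKzDescRank

universe u

section core

variable {R : Type u} [CommRing R] {r : ℕ} (l : Fin r → R) (K : Type u) [Field K] [Algebra R K]

/-- the presentation map `R^r → (l)` -/
noncomputable def pres : (Fin r → R) →ₗ[R] (Ideal.span (Set.range l)) :=
  Fintype.linearCombination R
    (fun i => (⟨l i, Ideal.subset_span ⟨i, rfl⟩⟩ : Ideal.span (Set.range l)))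

lemma pres_apply_coe (a : Fin r → R) : ((pres l a : Ideal.span (Set.range l)) : R) = ∑ i, a i * l i := by
  simp [pres, Fintype.linearCombination_apply]

lemma pres_surjective : Function.Surjective (pres l) := by
  rintro ⟨x, hx⟩
  obtain ⟨c, hc⟩ := (Submodule.mem_span_range_iff_exists_fun R).mp hx
  refine ⟨c, Subtype.ext ?_⟩
  rw [pres_apply_coe]
  show ∑ i, c i * l i = x
  rw [← hc]
  simp

lemma tmul_eq_zero_of_mem_ker (hl : CAlgX.IsH1Regular l) (hK : ∀ i, algebraMap R K (l i) = 0)
    (a : Fin r → R) (ha : pres l a = 0) (c : K) : c ⊗ₜ[R] a = 0 := by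
  have h0 : ∑ i, a i * l i = 0 := by
    rw [← pres_apply_coe, ha]; rfl
  have hmem := hl a h0
  clear ha h0
  induction hmem using Submodule.span_induction generalizing c with
  | mem v hv =>
    obtain ⟨i, j, rfl⟩ := hv
    have e1 : ∀ (i : Fin r) (x : R), c ⊗ₜ[R] (Pi.single i x : Fin r → R) =
        (algebraMap R K x * c) ⊗ₜ[R] (Pi.single i 1 : Fin r → R) := by
      intro i x
      have : (Pi.single i x : Fin r → R) = x • (Pi.single i 1 : Fin r → R) := by
        rw [← Pi.single_smul, smul_eq_mul, mul_one]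
      rw [this, TensorProduct.tmul_smul, TensorProduct.smul_tmul', Algebra.smul_def]
    rw [TensorProduct.tmul_sub, e1, e1, hK, hK]
    simp
  | zero => simp
  | add x y _ _ hx hy => rw [TensorProduct.tmul_add, hx, hy, add_zero]
  | smul s x _ hx => rw [TensorProduct.tmul_smul, hx, smul_zero]

theorem finrank_tensor_eq (hl : CAlgX.IsH1Regular l) (hK : ∀ i, algebraMap R K (l i) = 0) :
    Module.finrank K (K ⊗[R] (Ideal.span (Set.range l))) = r := by
  haveI : Nontrivial R := (algebraMap R K).domain_nontrivial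
  have hex : Function.Exact (LinearMap.ker (pres l)).subtype (pres l) :=
    LinearMap.exact_subtype_ker_map (pres l)
  have hex' := lTensor_exact K hex (pres_surjective l)
  have hzero : ∀ w : K ⊗[R] (LinearMap.ker (pres l)),
      (LinearMap.lTensor K (LinearMap.ker (pres l)).subtype) w = 0 := by
    intro w
    induction w using TensorProduct.induction_on with
    | zero => simp
    | tmul c a =>
      rw [LinearMap.lTensor_tmul]
      exact tmul_eq_zero_of_mem_ker l K hl hK a.1 a.2 c
    | add x y hx hy => rw [map_add, hx, hy, add_zero]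
  have hinj : Function.Injective ((pres l).baseChange K) := by
    rw [← LinearMap.ker_eq_bot, LinearMap.ker_eq_bot']
    intro z hz
    have hz' : (LinearMap.lTensor K (pres l)) z = 0 := hz
    obtain ⟨w, rfl⟩ := (hex' z).mp hz'
    exact hzero w
  have hsurj : Function.Surjective ((pres l).baseChange K) :=
    LinearMap.lTensor_surjective K (pres_surjective l)
  have e : K ⊗[R] (Fin r → R) ≃ₗ[K] K ⊗[R] (Ideal.span (Set.range l)) :=
    LinearEquiv.ofBijective ((pres l).baseChange K) ⟨hinj, hsurj⟩
  rw [← e.finrank_eq, Module.finrank_baseChange, Module.finrank_fin_fun]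

end core

section chain

variable {A R : Type u} [CommRing A] [CommRing R] [Algebra A R] [Module.Flat A R]

/-- for a flat `A`-algebra `R`, `R ⊗_A I ≅ I R`. -/
noncomputable def tensorIdealEquiv (I : Ideal A) :
    R ⊗[A] I ≃ₗ[R] I.map (algebraMap A R) := by
  let ψ : R ⊗[A] I →ₗ[R] I.map (algebraMap A R) :=
    LinearMap.liftBaseChange R (Algebra.idealMap R I)
  have hψ : ∀ (c : R) (x : I), ((ψ (c ⊗ₜ[A] x) : I.map (algebraMap A R)) : R) =
      c * algebraMap A R x := by
    intro c x
    simp [ψ, LinearMap.liftBaseChange_tmul]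
  refine LinearEquiv.ofBijective ψ ⟨?_, ?_⟩
  · -- injective: compose with the inclusion into `R`
    have hinj : Function.Injective (LinearMap.lTensor R (I.subtype : I →ₗ[A] A)) :=
      Module.Flat.lTensor_preserves_injective_linearMap _ Subtype.val_injective
    have hcomp : ∀ z : R ⊗[A] I, ((ψ z : I.map (algebraMap A R)) : R) =
        (TensorProduct.rid A R) ((LinearMap.lTensor R (I.subtype : I →ₗ[A] A)) z) := by
      intro z
      induction z using TensorProduct.induction_on with
      | zero => simp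
      | tmul c x =>
        rw [hψ, LinearMap.lTensor_tmul, TensorProduct.rid_tmul, Submodule.subtype_apply,
          Algebra.smul_def, mul_comm]
      | add x y hx hy =>
        rw [map_add, map_add, map_add, ← hx, ← hy]
        rfl
    intro z w hzw
    apply hinj
    apply (TensorProduct.rid A R).injective
    rw [← hcomp, ← hcomp, hzw]
  · rintro ⟨y, hy⟩
    have hy' : y ∈ Submodule.span R ((algebraMap A R) '' (I : Set A)) := hy
    induction hy' using Submodule.span_induction with
    | mem v hv =>
      obtain ⟨x, hx, rfl⟩ := hv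
      refine ⟨(1 : R) ⊗ₜ[A] (⟨x, hx⟩ : I), Subtype.ext ?_⟩
      rw [hψ, one_mul]
    | zero => exact ⟨0, by rw [map_zero]; rfl⟩
    | add v w hv hw ihv ihw =>
      obtain ⟨a, ha⟩ := ihv hv
      obtain ⟨b, hb⟩ := ihw hw
      refine ⟨a + b, Subtype.ext ?_⟩
      rw [map_add, ha, hb]
      rfl
    | smul c v hv ihv =>
      obtain ⟨a, ha⟩ := ihv hv
      refine ⟨c • a, Subtype.ext ?_⟩
      rw [map_smul, ha]
      rfl

variable {k K : Type u} [Field k] [Field K] [Algebra A k] [Algebra k K] [Algebra A K]
  [IsScalarTower A k K] [Algebra R K] [IsScalarTower A R K]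

theorem finrank_fibre_eq (I : Ideal A) {r : ℕ} (l : Fin r → R) (hl : CAlgX.IsH1Regular l)
    (hspan : I.map (algebraMap A R) = Ideal.span (Set.range l))
    (hK : ∀ i, algebraMap R K (l i) = 0) :
    Module.finrank k (k ⊗[A] I) = r := by
  have e1 : K ⊗[k] (k ⊗[A] I) ≃ₗ[K] K ⊗[A] I :=
    TensorProduct.AlgebraTensorModule.cancelBaseChange A k K K I
  have e2 : K ⊗[R] (R ⊗[A] I) ≃ₗ[K] K ⊗[A] I :=
    TensorProduct.AlgebraTensorModule.cancelBaseChange A R K K I
  have e3 : K ⊗[R] (R ⊗[A] I) ≃ₗ[K] K ⊗[R] (I.map (algebraMap A R)) :=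
    LinearEquiv.baseChange R K _ _ (tensorIdealEquiv (R := R) I)
  have e4 : K ⊗[R] (I.map (algebraMap A R)) ≃ₗ[K] K ⊗[R] (Ideal.span (Set.range l)) :=
    LinearEquiv.baseChange R K _ _ (LinearEquiv.ofEq _ _ hspan)
  have h0 : Module.finrank K (K ⊗[k] (k ⊗[A] I)) = Module.finrank k (k ⊗[A] I) :=
    Module.finrank_baseChange
  rw [← h0, e1.finrank_eq, ← e2.finrank_eq, e3.finrank_eq, e4.finrank_eq]
  exact finrank_tensor_eq l K hl hK

end chain

end Groth.Agent.Lib.R2LeadKzDescRank
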