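import Mathlib

/-!
# Two support lemmas for flat base change (lead)
-/

set_option autoImplicit false
open TensorProduct

namespace Groth.Agent.Lib.R2LeadKzDescSupp

universe u

variable {A : Type u} [CommRing A] (N : Type u) [AddCommGroup N] [Module A N]

/-- a module whose support misses `D(g)` dies after inverting `g`. -/
theorem subsingleton_tensor_away (g : A)
    (h : ∀ p : PrimeSpectrum A, g ∉ p.asIdeal → p ∉ Module.support A N) :
    Subsingleton (N ⊗[A] Localization.Away g) := by
  have h1 : Subsingleton (LocalizedModule.Away g N) := by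
    rw [LocalizedModule.subsingleton_iff_support_subset]
    intro p hp
    rw [PrimeSpectrum.mem_zeroLocus, Set.singleton_subset_iff]
    by_contra hg
    exact h p hg hp
  have e := (LocalizedModule.equivTensorProduct (Submonoid.powers g) N).toEquiv
  have e2 := (TensorProduct.comm A (Localization.Away g) N).toEquiv
  exact (e.trans e2).symm.subsingleton

/-- if `N ⊗ R = 0` for a flat `A`-algebra `R` with a prime lying over `p`, then `p` is not in the
support of `N`. -/
theorem notMem_support_of_subsingleton_tensor (R : Type u) [CommRing R] [Algebra A R]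
    [Module.Flat A R] (hN : Subsingleton (N ⊗[A] R)) (P : Ideal R) (hP : P ≠ ⊤)
    (p : PrimeSpectrum A) (hp : p.asIdeal = P.comap (algebraMap A R)) :
    p ∉ Module.support A N := by
  intro hmem
  obtain ⟨m, hm⟩ := Module.mem_support_iff_exists_annihilator.mp hmem
  set 𝔞 : Ideal A := (Submodule.span A {m}).annihilator with h𝔞
  -- the injection `A ⧸ 𝔞 → N`
  let ι : A ⧸ 𝔞 →ₗ[A] N := Submodule.liftQ 𝔞 (LinearMap.toSpanSingleton A N m) (by
    intro a ha
    rw [LinearMap.mem_ker, LinearMap.toSpanSingleton_apply]
    exact (Submodule.mem_annihilator_span_singleton _ _).mp ha)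
  have hι : Function.Injective ι := by
    rw [← LinearMap.ker_eq_bot, LinearMap.ker_eq_bot']
    intro x hx
    obtain ⟨a, rfl⟩ := Submodule.mkQ_surjective 𝔞 x
    rw [Submodule.mkQ_apply, Submodule.liftQ_apply, LinearMap.toSpanSingleton_apply] at hx
    rw [Submodule.mkQ_apply, Submodule.Quotient.mk_eq_zero]
    exact (Submodule.mem_annihilator_span_singleton _ _).mpr hx
  have h1 : Function.Injective (LinearMap.rTensor R ι) :=
    Module.Flat.rTensor_preserves_injective_linearMap ι hι
  haveI : Subsingleton ((A ⧸ 𝔞) ⊗[A] R) := h1.subsingleton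
  haveI : Subsingleton (R ⧸ (𝔞 • (⊤ : Submodule A R))) :=
    (TensorProduct.quotTensorEquivQuotSMul R 𝔞).symm.toEquiv.subsingleton
  have h2 : 𝔞 • (⊤ : Submodule A R) = ⊤ := Submodule.Quotient.subsingleton_iff.mp inferInstance
  have h3 : (1 : R) ∈ 𝔞.map (algebraMap A R) := by
    have : (1 : R) ∈ 𝔞 • (⊤ : Submodule A R) := by rw [h2]; trivial
    rw [Ideal.smul_top_eq_map] at this
    exact this
  have h4 : 𝔞.map (algebraMap A R) ≤ P := by
    rw [Ideal.map_le_iff_le_comap, ← hp]
    exact hm
  exact hP ((Ideal.eq_top_iff_one P).mpr (h4 h3))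

end Groth.Agent.Lib.R2LeadKzDescSupp
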