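import Mathlib
import Groth.Prelude.Def_LCI2
import Groth.Agent.Lib.R2H3KzGen
import Groth.Agent.Lib.R2H3KzFBC
import Groth.Agent.Lib.H9KoszulH1
import Groth.Agent.Lib.H9RegImmFlatBC
import Groth.Agent.Lib.R2LeadKzDescRank
import Groth.Agent.Lib.R2LeadKzDescGen
import Groth.Agent.Lib.R2LeadKzDescSupp

/-!
# Faithfully flat descent of Koszul-regular ideals (lead)
-/

set_option autoImplicit false
open TensorProduct CategoryTheory CategoryTheory.Limits

namespace Groth.Agent.Lib.R2LeadKzDescMain

open Groth.Agent.Lib.R2LeadKzDescGen

universe u

variable {A B : Type u} [CommRing A] [CommRing B] [Algebra A B]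

lemma setOf_mem_eq_range_get {R : Type u} (l : List R) : {x | x ∈ l} = Set.range l.get := by
  ext x
  simp [List.mem_iff_get]

/-- the fibre rank of `I` at the image of `q` is the length of any Koszul-regular generating
sequence of `I B` near `q`. -/
theorem rho_eq_length [Module.Flat A B] (I : Ideal A) (q : PrimeSpectrum B)
    (hq : I.map (algebraMap A B) ≤ q.asIdeal) (h : B) (hh : h ∉ q.asIdeal)
    (l : List (Localization.Away h)) (hl : LCI.IsKoszulRegularSeq (Localization.Away h) l)
    (hspan : (I.map (algebraMap A B)).map (algebraMap B (Localization.Away h)) =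
      Ideal.span {x | x ∈ l}) :
    rho I (PrimeSpectrum.comap (algebraMap A B) q) = l.length := by
  set p := PrimeSpectrum.comap (algebraMap A B) q with hp
  let k := p.asIdeal.ResidueField
  let K := q.asIdeal.ResidueField
  -- the algebra structure `k → K`
  let fk : k →ₐ[A] K := Ideal.ResidueField.mapₐ p.asIdeal q.asIdeal (Algebra.ofId A B) rfl
  letI : Algebra k K := fk.toRingHom.toAlgebra
  haveI : IsScalarTower A k K := IsScalarTower.of_algebraMap_eq (fun a => (fk.commutes a).symm)
  -- the algebra structure `B_h → K`
  have hunit : IsUnit (algebraMap B K h) := by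
    rw [isUnit_iff_ne_zero, Ne, Ideal.algebraMap_residueField_eq_zero]
    exact hh
  let ψ : Localization.Away h →+* K := IsLocalization.Away.lift h hunit
  letI : Algebra (Localization.Away h) K := ψ.toAlgebra
  haveI : IsScalarTower B (Localization.Away h) K :=
    IsScalarTower.of_algebraMap_eq (fun b => (IsLocalization.Away.lift_eq h hunit b).symm)
  haveI : IsScalarTower A (Localization.Away h) K := by
    refine IsScalarTower.of_algebraMap_eq (fun a => ?_)
    rw [IsScalarTower.algebraMap_apply A B K, IsScalarTower.algebraMap_apply A B (Localization.Away h),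
      ← IsScalarTower.algebraMap_apply B (Localization.Away h) K]
  have hspan' : I.map (algebraMap A (Localization.Away h)) = Ideal.span (Set.range l.get) := by
    rw [← setOf_mem_eq_range_get, ← hspan, Ideal.map_map,
      ← IsScalarTower.algebraMap_eq A B (Localization.Away h)]
  have hK : ∀ i, algebraMap (Localization.Away h) K (l.get i) = 0 := by
    intro i
    have hmem : l.get i ∈ (I.map (algebraMap A B)).map (algebraMap B (Localization.Away h)) := by
      rw [hspan]
      exact Ideal.subset_span (List.get_mem l i)
    have hle : (I.map (algebraMap A B)).map (algebraMap B (Localization.Away h)) ≤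
        RingHom.ker (algebraMap (Localization.Away h) K) := by
      rw [Ideal.map_le_iff_le_comap]
      intro b hb
      rw [Ideal.mem_comap, RingHom.mem_ker, ← IsScalarTower.algebraMap_apply B (Localization.Away h) K,
        Ideal.algebraMap_residueField_eq_zero]
      exact hq hb
    exact hle hmem
  exact R2LeadKzDescRank.finrank_fibre_eq (k := k) (K := K) I l.get
    (Groth.Agent.Lib.H9KoszulH1.isH1Regular_of_isKoszulRegularSeq l hl) hspan' hK

end Groth.Agent.Lib.R2LeadKzDescMain
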