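import Mathlib
import Groth.Prelude.Def_LCI2
import Groth.Agent.Lib.R2LeadKzDescMain

/-!
# Faithfully flat descent of Koszul-regular ideals: finite generation (lead)
-/

set_option autoImplicit false
open TensorProduct CategoryTheory CategoryTheory.Limits

namespace Groth.Agent.Lib.R2LeadKzDescFG

open Groth.Agent.Lib.R2LeadKzDescGen Groth.Agent.Lib.R2LeadKzDescMain

universe u

variable {A B : Type u} [CommRing A] [CommRing B] [Algebra A B]

/-- a Koszul-regular ideal is finitely generated. -/
theorem fg_of_isKoszulRegularIdeal (J : Ideal B) (hJ : LCI.IsKoszulRegularIdeal J) : J.FG := by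
  classical
  set t : Set B := {g | (J.map (algebraMap B (Localization.Away g))).FG} with ht
  have hspan : Ideal.span t = ⊤ := by
    by_contra hne
    obtain ⟨m, hm, hle⟩ := Ideal.exists_le_maximal _ hne
    haveI := hm.isPrime
    by_cases hJm : J ≤ m
    · obtain ⟨g, hg, l, -, hl⟩ := hJ ⟨m, hm.isPrime⟩ hJm
      apply hg
      apply hle
      apply Ideal.subset_span
      show (J.map _).FG
      rw [hl, setOf_mem_eq_range_get]
      exact Submodule.fg_span (Set.finite_range _)
    · obtain ⟨g, hgJ, hgm⟩ := SetLike.not_le_iff_exists.mp hJm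
      apply hgm
      apply hle
      apply Ideal.subset_span
      show (J.map _).FG
      have : J.map (algebraMap B (Localization.Away g)) = ⊤ :=
        Ideal.eq_top_of_isUnit_mem _ (Ideal.mem_map_of_mem _ hgJ)
          (IsLocalization.Away.algebraMap_isUnit g)
      rw [this]
      exact Ideal.fg_top _
  exact Ideal.fg_of_localizationSpan t hspan (fun g => g.2)

/-- finite generation of ideals descends along faithfully flat maps. -/
theorem fg_of_map_fg [Module.FaithfullyFlat A B] (I : Ideal A)
    (h : (I.map (algebraMap A B)).FG) : I.FG := by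
  classical
  have h' := (Submodule.fg_span_iff_fg_span_finset_subset (R := B)
    (algebraMap A B '' (I : Set A))).mp h
  obtain ⟨s, hs, hspan⟩ := h'
  obtain ⟨s', hs', rfl⟩ := Finset.subset_set_image_iff.mp hs
  refine ⟨s', ?_⟩
  have h1 : (Ideal.span (s' : Set A)).map (algebraMap A B) = I.map (algebraMap A B) := by
    rw [Ideal.map_span, Ideal.map]
    refine Eq.trans ?_ hspan.symm
    rw [Finset.coe_image]
  exact Ideal.map_injective_of_faithfullyFlat (B := B) h1

end Groth.Agent.Lib.R2LeadKzDescFG
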