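import Mathlib
import Groth.Prelude.Def_LCI2
import Groth.Prelude.Def_RegImm
import Groth.Agent.S5803
import Groth.Agent.S2103
import Groth.Agent.Lib.H9KoszulH1
import Groth.Agent.Lib.H9RegImmFlatBC

set_option autoImplicit false
set_option linter.style.haveILetI false
universe u

namespace Groth.Agent.Lib.R2LeadSyntA

open RingTheory.Sequence

/-- In a Noetherian ring, a Koszul-regular sequence contained in the Jacobson radical is weakly
regular. -/
theorem isWeaklyRegular_of_isKoszulRegularSeq {A : Type u} [CommRing A] [IsNoetherianRing A]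
    (l : List A) (hl : LCI.IsKoszulRegularSeq A l) (hj : ∀ x ∈ l, x ∈ Ring.jacobson A) :
    IsWeaklyRegular A l := by
  have h1 := Groth.Agent.Lib.H9KoszulH1.isH1Regular_of_isKoszulRegularSeq l hl
  have h2 := Groth.Agent.S2103.result l.get h1
  have h3 := Groth.Agent.S5803.result A l.length l.get (fun i => hj _ (List.get_mem l i)) h2
  rwa [List.ofFn_get] at h3

/-- In a Noetherian local ring, a Koszul-regular sequence in the maximal ideal is regular. -/
theorem isRegular_of_isKoszulRegularSeq {A : Type u} [CommRing A] [IsNoetherianRing A]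
    [IsLocalRing A] (l : List A) (hl : LCI.IsKoszulRegularSeq A l)
    (hm : ∀ x ∈ l, x ∈ IsLocalRing.maximalIdeal A) : IsRegular A l := by
  refine ⟨isWeaklyRegular_of_isKoszulRegularSeq l hl (fun x hx => ?_), ?_⟩
  · rw [IsLocalRing.ringJacobson_eq_maximalIdeal]
    exact hm x hx
  · intro h
    have h1 : Ideal.ofList l ≤ IsLocalRing.maximalIdeal A := by
      rw [Ideal.ofList, Ideal.span_le]
      exact fun x hx => hm x hx
    have h2 : (Ideal.ofList l • ⊤ : Submodule A A) = ⊤ := h.symm
    rw [smul_eq_mul, Ideal.mul_top] at h2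
    rw [h2] at h1
    exact (IsLocalRing.maximalIdeal.isMaximal A).ne_top (top_le_iff.mp h1)

end Groth.Agent.Lib.R2LeadSyntA
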