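import Mathlib
import Groth.Prelude.Def_LCI2
import Groth.Prelude.Def_RegImm
import Groth.Agent.Lib.R2LeadSyntA
import Groth.Agent.S9273
import Groth.Agent.Lib.R2H3KzGen
import Groth.Agent.Lib.R2LeadKzDescFG
import Groth.Agent.Lib.R2H4RelGCIFlat
import Groth.Agent.Lib.R2H4RegSeqOpen

set_option autoImplicit false
set_option linter.style.haveILetI false
universe u

namespace Groth.Agent.Lib.R2LeadSyntD

open RingTheory.Sequence TensorProduct

section Fib

variable {R P : Type u} [CommRing R] [CommRing P] [Algebra R P] (q : Ideal P) [hq : q.IsPrime]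

/-- An `H_1`-regular sequence in `P_q` with `R`-flat quotient stays `H_1`-regular in the local ring
of the fibre. -/
theorem isH1Regular_fib {c : ℕ} (f : Fin c → Localization.AtPrime q)
    (hflat : Module.Flat R (Localization.AtPrime q ⧸ Ideal.span (Set.range f)))
    (h : CAlgX.IsH1Regular f) :
    CAlgX.IsH1Regular (fun i => (Ideal.Quotient.mk _ (f i) : EGA4.FibLocRing R P q)) := by
  have h1 := Groth.Agent.S9273.result R (Localization.AtPrime q)
    (R ⧸ q.comap (algebraMap R P)) c f hflat h
  let e := (Algebra.TensorProduct.quotIdealMapEquivQuotTensor (Localization.AtPrime q)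
    (q.comap (algebraMap R P))).symm
  have h2 := Groth.Agent.Lib.H9RegImmFlatBC.isH1Regular_map (e : _ →+* EGA4.FibLocRing R P q)
    (RingHom.Flat.of_bijective e.bijective) _ h1
  convert h2 using 1
  funext i
  change _ = e ((1 : R ⧸ q.comap (algebraMap R P)) ⊗ₜ[R] f i)
  rw [← Algebra.TensorProduct.quotIdealMapEquivQuotTensor_mk, AlgEquiv.symm_apply_apply]

/-- the prime of the fibre ring over `q`, with the comparison isomorphism -/
theorem exists_fibre_prime :
    ∃ (Q : Ideal ((q.comap (algebraMap R P)).Fiber P)) (_ : Q.IsPrime),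
      Nonempty (Localization.AtPrime Q ≃+* EGA4.FibLocRing R P q) := by
  set p : PrimeSpectrum R := PrimeSpectrum.comap (algebraMap R P) ⟨q, hq⟩ with hp
  let Q : PrimeSpectrum (p.asIdeal.Fiber P) :=
    PrimeSpectrum.preimageHomeomorphFiber R P p ⟨⟨q, hq⟩, rfl⟩
  have hQq : Q.asIdeal.comap (Algebra.TensorProduct.includeRight : P →ₐ[R] p.asIdeal.Fiber P) = q :=
    congrArg PrimeSpectrum.asIdeal
      (Groth.Agent.Lib.Helper4.FibDim.comap_includeRight_preimageHomeomorphFiber p.asIdeal
        ⟨⟨q, hq⟩, rfl⟩)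
  obtain ⟨ε, -⟩ := Groth.Agent.Lib.R2H4.RegSeqOpen.exists_equiv p.asIdeal Q.asIdeal q hQq
  exact ⟨Q.asIdeal, Q.2, ⟨ε⟩⟩

theorem isNoetherianRing_fib [Algebra.FiniteType R P] :
    IsNoetherianRing (EGA4.FibLocRing R P q) := by
  obtain ⟨Q, hQ, ⟨ε⟩⟩ := exists_fibre_prime (R := R) q
  have hN : IsNoetherianRing ((q.comap (algebraMap R P)).Fiber P) :=
    Algebra.FiniteType.isNoetherianRing (q.comap (algebraMap R P)).ResidueField _
  have : IsNoetherianRing (Localization.AtPrime Q) :=
    IsLocalization.isNoetherianRing Q.primeCompl _ hN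
  exact isNoetherianRing_of_ringEquiv _ ε

theorem nontrivial_fib : Nontrivial (EGA4.FibLocRing R P q) := by
  obtain ⟨Q, hQ, ⟨ε⟩⟩ := exists_fibre_prime (R := R) q
  exact ε.injective.nontrivial

theorem mk_mem_jacobson (x : Localization.AtPrime q)
    (hx : x ∈ IsLocalRing.maximalIdeal (Localization.AtPrime q)) :
    (Ideal.Quotient.mk _ x : EGA4.FibLocRing R P q) ∈ Ring.jacobson (EGA4.FibLocRing R P q) := by
  rw [← Ideal.jacobson_bot, Ideal.mem_jacobson_bot]
  intro y
  obtain ⟨y', rfl⟩ := Ideal.Quotient.mk_surjective y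
  rw [← map_mul, ← map_one (Ideal.Quotient.mk _), ← map_add]
  apply IsUnit.map
  have h1 : x * y' ∈ IsLocalRing.maximalIdeal (Localization.AtPrime q) :=
    Ideal.mul_mem_right _ _ hx
  by_contra hnu
  have h2 : x * y' + 1 ∈ IsLocalRing.maximalIdeal (Localization.AtPrime q) :=
    (IsLocalRing.mem_maximalIdeal _).mpr hnu
  have h3 : (1 : Localization.AtPrime q) ∈ IsLocalRing.maximalIdeal (Localization.AtPrime q) := by
    have := Ideal.sub_mem _ h2 h1
    simpa using this
  exact (IsLocalRing.maximalIdeal.isMaximal _).ne_top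
    ((Ideal.eq_top_iff_one _).mpr h3)

/-- A Koszul-regular sequence in the maximal ideal of `P_q` with `R`-flat quotient gives a regular
sequence in the local ring of the fibre. -/
theorem isRegular_fib [Algebra.FiniteType R P] (l : List (Localization.AtPrime q))
    (hl : LCI.IsKoszulRegularSeq (Localization.AtPrime q) l)
    (hm : ∀ x ∈ l, x ∈ IsLocalRing.maximalIdeal (Localization.AtPrime q))
    (hflat : Module.Flat R (Localization.AtPrime q ⧸ Ideal.ofList l)) :
    IsRegular (EGA4.FibLocRing R P q)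
      (l.map (Ideal.Quotient.mk ((q.comap (algebraMap R P)).map
        (algebraMap R (Localization.AtPrime q))))) := by
  have h1 := Groth.Agent.Lib.H9KoszulH1.isH1Regular_of_isKoszulRegularSeq l hl
  have hflat' : Module.Flat R (Localization.AtPrime q ⧸ Ideal.span (Set.range l.get)) := by
    rw [Set.range_list_get]
    exact hflat
  have h2 := isH1Regular_fib (R := R) q l.get hflat' h1
  have h3 := Groth.Agent.S2103.result _ h2
  haveI := isNoetherianRing_fib (R := R) q
  haveI := nontrivial_fib (R := R) q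
  have hj : ∀ i : Fin l.length, (Ideal.Quotient.mk _ (l.get i) : EGA4.FibLocRing R P q) ∈
      Ring.jacobson (EGA4.FibLocRing R P q) :=
    fun i => mk_mem_jacobson q _ (hm _ (List.get_mem l i))
  have h4 := Groth.Agent.S5803.result (EGA4.FibLocRing R P q) l.length _ hj h3
  have h5 : List.ofFn (fun i : Fin l.length => (Ideal.Quotient.mk ((q.comap (algebraMap R P)).map
      (algebraMap R (Localization.AtPrime q))) (l.get i))) =
      l.map (Ideal.Quotient.mk ((q.comap (algebraMap R P)).map
        (algebraMap R (Localization.AtPrime q)))) := by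
    conv_rhs => rw [← List.ofFn_get l, List.map_ofFn]
    rfl
  rw [h5] at h4
  refine ⟨h4, ?_⟩
  intro htop
  have h6 : (Ideal.ofList (l.map (Ideal.Quotient.mk ((q.comap (algebraMap R P)).map
      (algebraMap R (Localization.AtPrime q))))) : Ideal (EGA4.FibLocRing R P q)) = ⊤ := by
    have := htop.symm
    rwa [smul_eq_mul, Ideal.mul_top] at this
  have h7 : Ideal.ofList (l.map (Ideal.Quotient.mk ((q.comap (algebraMap R P)).map
      (algebraMap R (Localization.AtPrime q))))) ≤ Ring.jacobson (EGA4.FibLocRing R P q) := by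
    rw [Ideal.ofList, Ideal.span_le]
    intro y hy
    obtain ⟨x, hx, rfl⟩ := List.mem_map.mp hy
    exact mk_mem_jacobson q x (hm x hx)
  rw [h6, top_le_iff, ← Ideal.jacobson_bot, Ideal.jacobson_eq_top_iff] at h7
  exact bot_ne_top h7

theorem flat_quotient_map (I : Ideal P) [hflat : Module.Flat R (P ⧸ I)] :
    Module.Flat R (Localization.AtPrime q ⧸ I.map (algebraMap P (Localization.AtPrime q))) := by
  have h1 : Algebra.IsPushout P (Localization.AtPrime q) (P ⧸ I)
      (Localization.AtPrime q ⧸ I.map (algebraMap P (Localization.AtPrime q))) :=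
    Groth.Agent.Lib.R2H4.RelGCIFlat.isPushout_quotient I
  have h2 := h1.symm.out
  haveI : Module.Flat P (Localization.AtPrime q) := IsLocalization.flat _ q.primeCompl
  have h3 : Module.Flat (P ⧸ I)
      (Localization.AtPrime q ⧸ I.map (algebraMap P (Localization.AtPrime q))) :=
    Module.Flat.isBaseChange (R := P) (S := P ⧸ I) (M := Localization.AtPrime q) _ h2
  haveI : IsScalarTower R (P ⧸ I)
      (Localization.AtPrime q ⧸ I.map (algebraMap P (Localization.AtPrime q))) := by
    refine IsScalarTower.of_algebraMap_eq (fun x => ?_)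
    rw [IsScalarTower.algebraMap_apply R (Localization.AtPrime q)
      (Localization.AtPrime q ⧸ I.map (algebraMap P (Localization.AtPrime q))),
      IsScalarTower.algebraMap_apply R P (Localization.AtPrime q),
      IsScalarTower.algebraMap_apply R P (P ⧸ I)]
    rfl
  exact Module.Flat.trans R (P ⧸ I) _

/-- clearing denominators: if `I` and `J ≤ I` agree after inverting `g₀` and `I` is finitely
generated, then a power of `g₀` multiplies `I` into `J`. -/
theorem exists_pow_mul_mem (I J : Ideal P) (hfg : I.FG) (g₀ : P)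
    (hIJ : I.map (algebraMap P (Localization.Away g₀)) ≤ J.map (algebraMap P (Localization.Away g₀))) :
    ∃ N : ℕ, ∀ a ∈ I, g₀ ^ N * a ∈ J := by
  classical
  have hpt : ∀ a ∈ I, ∃ m : ℕ, g₀ ^ m * a ∈ J := by
    intro a ha
    have h1 : algebraMap P (Localization.Away g₀) a ∈ J.map (algebraMap P (Localization.Away g₀)) :=
      hIJ (Ideal.mem_map_of_mem _ ha)
    rw [IsLocalization.mem_map_algebraMap_iff (Submonoid.powers g₀)] at h1
    obtain ⟨⟨⟨b, hb⟩, ⟨_, m, rfl⟩⟩, h⟩ := h1
    rw [← map_mul, IsLocalization.eq_iff_exists (Submonoid.powers g₀)] at h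
    obtain ⟨⟨_, m', rfl⟩, h⟩ := h
    refine ⟨m' + m, ?_⟩
    have h2 : g₀ ^ (m' + m) * a = g₀ ^ m' * b := by
      rw [pow_add, mul_assoc]
      simpa [mul_comm] using h
    rw [h2]
    exact Ideal.mul_mem_left _ _ hb
  obtain ⟨s, hs⟩ := hfg
  choose! Nf hNf using hpt
  refine ⟨s.sup Nf, ?_⟩
  intro a ha
  rw [← hs] at ha
  induction ha using Submodule.span_induction with
  | mem x hx =>
    have hxI : x ∈ I := hs ▸ Ideal.subset_span hx
    have hle : Nf x ≤ s.sup Nf := Finset.le_sup hx
    obtain ⟨d, hd⟩ := Nat.exists_eq_add_of_le hle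
    rw [hd, pow_add, mul_comm (g₀ ^ Nf x), mul_assoc]
    exact Ideal.mul_mem_left _ _ (hNf x hxI)
  | zero => simp
  | add x y _ _ hx hy => rw [mul_add]; exact Ideal.add_mem _ hx hy
  | smul r x _ hx =>
    rw [smul_eq_mul, mul_left_comm]
    exact Ideal.mul_mem_left _ _ hx

/-- **Data (A).** A Koszul-regular ideal with `R`-flat quotient is, near a prime `q` containing
it, generated by elements forming a regular sequence in the local ring of the fibre at `q`. -/
theorem dataA [Algebra.FiniteType R P] (I : Ideal P) (hI : LCI.IsKoszulRegularIdeal I)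
    [hflat : Module.Flat R (P ⧸ I)] (hIq : I ≤ q) :
    ∃ (c : ℕ) (F : Fin c → P) (g : P), (∀ i, F i ∈ I) ∧ g ∉ q ∧
      (∀ a ∈ I, g * a ∈ Ideal.span (Set.range F)) ∧
      IsRegular (EGA4.FibLocRing R P q)
        ((List.ofFn F).map (algebraMap P (EGA4.FibLocRing R P q))) := by
  obtain ⟨g₀, hg₀, l, hl, hIl⟩ := hI ⟨q, hq⟩ hIq
  change g₀ ∉ q at hg₀
  have hfg : I.FG := Groth.Agent.Lib.R2LeadKzDescFG.fg_of_isKoszulRegularIdeal I hI
  -- numerators
  have hnum : ∀ i : Fin l.length, ∃ (a : P) (k : ℕ), a ∈ I ∧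
      l.get i * algebraMap P (Localization.Away g₀) (g₀ ^ k) =
        algebraMap P (Localization.Away g₀) a := by
    intro i
    have hmem : l.get i ∈ I.map (algebraMap P (Localization.Away g₀)) := by
      rw [hIl]
      exact Ideal.subset_span (List.get_mem l i)
    rw [IsLocalization.mem_map_algebraMap_iff (Submonoid.powers g₀)] at hmem
    obtain ⟨⟨⟨a, ha⟩, ⟨_, k, rfl⟩⟩, h⟩ := hmem
    exact ⟨a, k, ha, h⟩
  choose F k hF hFk using hnum
  have hunit : ∀ m : ℕ, IsUnit (algebraMap P (Localization.Away g₀) (g₀ ^ m)) := fun m => by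
    rw [map_pow]
    exact (IsLocalization.Away.algebraMap_isUnit g₀).pow m
  set l₀ : List (Localization.Away g₀) :=
    (List.ofFn F).map (algebraMap P (Localization.Away g₀)) with hl₀
  have hlen : l₀.length = l.length := by simp [hl₀]
  have hspan : Ideal.ofList l₀ = Ideal.ofList l := by
    apply le_antisymm
    · rw [Ideal.ofList, Ideal.span_le]
      intro y hy
      obtain ⟨x, hx, rfl⟩ := List.mem_map.mp hy
      obtain ⟨i, rfl⟩ := (List.mem_ofFn' F x).mp hx
      rw [← hFk i]
      exact Ideal.mul_mem_right _ _ (Ideal.subset_span (List.get_mem l i))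
    · rw [Ideal.ofList, Ideal.span_le]
      intro x hx
      obtain ⟨i, rfl⟩ := List.mem_iff_get.mp hx
      obtain ⟨u, hu⟩ := hunit (k i)
      have h1 : l.get i = algebraMap P (Localization.Away g₀) (F i) * (↑u⁻¹ : Localization.Away g₀) := by
        rw [← hFk i, ← hu, mul_assoc, Units.mul_inv, mul_one]
      rw [h1]
      refine Ideal.mul_mem_right _ _ (Ideal.subset_span ?_)
      exact List.mem_map.mpr ⟨F i, (List.mem_ofFn' F _).mpr ⟨i, rfl⟩, rfl⟩
  have hK₀ : LCI.IsKoszulRegularSeq (Localization.Away g₀) l₀ :=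
    Groth.Agent.Lib.R2H3.KzGen.isKoszulRegularSeq_of_same_length l₀ l hl hlen hspan
  -- pass to the local ring
  have hgu : IsUnit (algebraMap P (Localization.AtPrime q) g₀) :=
    IsLocalization.map_units (Localization.AtPrime q) (⟨g₀, hg₀⟩ : q.primeCompl)
  let ψ : Localization.Away g₀ →+* Localization.AtPrime q := IsLocalization.Away.lift g₀ hgu
  have hψ : ψ.comp (algebraMap P (Localization.Away g₀)) =
      algebraMap P (Localization.AtPrime q) := IsLocalization.Away.lift_comp g₀ hgu
  have hψflat : ψ.Flat := by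
    letI : Algebra (Localization.Away g₀) (Localization.AtPrime q) := ψ.toAlgebra
    haveI : IsScalarTower P (Localization.Away g₀) (Localization.AtPrime q) :=
      IsScalarTower.of_algebraMap_eq' hψ.symm
    have : Module.Flat (Localization.Away g₀) (Localization.AtPrime q) :=
      (Module.flat_iff_of_isLocalization (Localization.Away g₀) (Submonoid.powers g₀)
        (Localization.AtPrime q)).mpr (IsLocalization.flat _ q.primeCompl)
    exact this
  set lB : List (Localization.AtPrime q) :=
    (List.ofFn F).map (algebraMap P (Localization.AtPrime q)) with hlB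
  have hlB' : lB = l₀.map ψ := by
    rw [hlB, hl₀, List.map_map, ← hψ]
    rfl
  have hKB : LCI.IsKoszulRegularSeq (Localization.AtPrime q) lB := by
    rw [hlB']
    exact Groth.Agent.Lib.H9RegImmFlatBC.isKoszulRegularSeq_map ψ hψflat l₀ hK₀
  have hm : ∀ x ∈ lB, x ∈ IsLocalRing.maximalIdeal (Localization.AtPrime q) := by
    intro x hx
    obtain ⟨y, hy, rfl⟩ := List.mem_map.mp hx
    obtain ⟨i, rfl⟩ := (List.mem_ofFn' F y).mp hy
    rw [← Localization.AtPrime.map_eq_maximalIdeal]
    exact Ideal.mem_map_of_mem _ (hIq (hF i))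
  have hofB : Ideal.ofList lB = I.map (algebraMap P (Localization.AtPrime q)) := by
    rw [hlB', ← Ideal.map_ofList, hspan, ← hψ, ← Ideal.map_map, hIl]
  have hflatB : Module.Flat R (Localization.AtPrime q ⧸ Ideal.ofList lB) := by
    rw [hofB]
    exact flat_quotient_map q I
  have hreg := isRegular_fib (R := R) q lB hKB hm hflatB
  -- the element `g`
  have hJmap : (Ideal.span (Set.range F)).map (algebraMap P (Localization.Away g₀)) =
      Ideal.ofList l₀ := by
    rw [Ideal.map_span, hl₀, Ideal.ofList]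
    congr 1
    ext x
    simp only [Set.mem_image, Set.mem_range, exists_exists_eq_and, List.mem_map, List.mem_ofFn',
      Set.mem_ofPred_eq]
  obtain ⟨N, hN⟩ := exists_pow_mul_mem I (Ideal.span (Set.range F)) hfg g₀ (by
    rw [hJmap, hspan, hIl])
  refine ⟨l.length, F, g₀ ^ N, hF, fun h => hg₀ (hq.mem_of_pow_mem N h), hN, ?_⟩
  have h5 : (List.ofFn F).map (algebraMap P (EGA4.FibLocRing R P q)) =
      lB.map (Ideal.Quotient.mk ((q.comap (algebraMap R P)).map
        (algebraMap R (Localization.AtPrime q)))) := by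
    rw [hlB, List.map_map]
    rfl
  rw [h5]
  exact hreg

end Fib

end Groth.Agent.Lib.R2LeadSyntD
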