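import Mathlib
import Groth.Prelude.Def_LCI2
import Groth.Prelude.Def_RegImm
import Groth.Agent.Lib.R2LeadSyntC
import Groth.Agent.Lib.R2LeadSyntD
import Groth.Agent.Lib.R2H4SyntLoc

set_option autoImplicit false
set_option linter.style.haveILetI false
universe u

namespace Groth.Agent.Lib.R2LeadSyntE

open RingTheory.Sequence TensorProduct

/-- `IsSyntomic` is invariant under algebra isomorphisms. -/
theorem isSyntomic_of_algEquiv (R S S' : Type u) [CommRing R] [CommRing S] [CommRing S']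
    [Algebra R S] [Algebra R S'] (e : S ≃ₐ[R] S') (h : Synt.IsSyntomic R S) :
    Synt.IsSyntomic R S' := by
  obtain ⟨hfl, hfp, hfib⟩ := h
  refine ⟨Module.Flat.of_linearEquiv e.symm.toLinearEquiv, Algebra.FinitePresentation.equiv e,
    fun p => ?_⟩
  exact Groth.Agent.Lib.R2H4.SyntLoc.isLCIOver_of_algEquiv _ _ _
    (Algebra.TensorProduct.congr AlgEquiv.refl e) (hfib p)

/-- **Flat local complete intersection ring maps are syntomic.** -/
theorem isSyntomic_of_flat_of_isLCI (R S : Type u) [CommRing R] [CommRing S] [Algebra R S]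
    [Module.Flat R S] (h : LCI.IsLCI R S) : Synt.IsSyntomic R S := by
  obtain ⟨-, n, f, hf, hK⟩ := h
  set I := RingHom.ker f.toRingHom with hI
  let e : (MvPolynomial (Fin n) R ⧸ I) ≃ₐ[R] S := Ideal.quotientKerAlgEquivOfSurjective hf
  haveI : Module.Flat R (MvPolynomial (Fin n) R ⧸ I) := Module.Flat.of_linearEquiv e.toLinearEquiv
  apply Groth.Agent.Lib.R2H4.SyntLoc.isSyntomic_of_span R S
    {g : S | Synt.IsSyntomic R (Localization.Away g)} _ (fun g hg => hg)
  by_contra hne
  obtain ⟨m, hm, hle⟩ := Ideal.exists_le_maximal _ hne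
  haveI := hm.isPrime
  let q : Ideal (MvPolynomial (Fin n) R) := m.comap f.toRingHom
  haveI hq : q.IsPrime := Ideal.IsPrime.comap _
  have hIq : I ≤ q := by
    intro x hx
    change f.toRingHom x ∈ m
    rw [RingHom.mem_ker.mp hx]
    exact m.zero_mem
  obtain ⟨c, F, g, hF, hg, hgI, hreg⟩ := Groth.Agent.Lib.R2LeadSyntD.dataA (R := R) q I hK hIq
  obtain ⟨h, hhq, hrel, ⟨e1⟩⟩ := Groth.Agent.Lib.R2LeadSyntC.common R n c F I hF q hIq g hg hgI hreg
  have h1 : Synt.IsSyntomic R (Synt.RelGCIRing R (n + 1) (c + 1)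
      (Groth.Agent.Lib.R2H4.RelGCIAway.F' R n c F h)) :=
    Groth.Agent.Lib.R2H4.RelGCIFlat.isSyntomic_relGCI R _ _ _ hrel
  have h2 : Synt.IsSyntomic R (Localization.Away (Ideal.Quotient.mk I h)) :=
    isSyntomic_of_algEquiv R _ _ e1.symm h1
  have he : e (Ideal.Quotient.mk I h) = f h := rfl
  let e2 : Localization.Away (Ideal.Quotient.mk I h) ≃ₐ[R] Localization.Away (f h) :=
    IsLocalization.algEquivOfAlgEquiv (M := Submonoid.powers (Ideal.Quotient.mk I h))
      (T := Submonoid.powers (f h)) _ _ e (by rw [Submonoid.map_powers]; rfl)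
  have h3 : Synt.IsSyntomic R (Localization.Away (f h)) := isSyntomic_of_algEquiv R _ _ e2 h2
  exact hhq (hle (Ideal.subset_span h3))

end Groth.Agent.Lib.R2LeadSyntE
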