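import Mathlib
import Groth.Prelude.Def_RegImm
import Groth.Agent.Lib.R2H4CIFieldD
import Groth.Agent.Lib.R2LeadSyntE
import Groth.Agent.Lib.R2H4SyntNhdA

/-!
# Syntomic neighbourhoods, part B (helper4, round 2)

`main_fp`: for `R → S` of finite presentation, flat at `q`, with the local ring of the fibre at `q`
a complete intersection, a basic open neighbourhood of `q` is a relative global complete
intersection.  `main9169`: the equivalence of syntomic / relative global complete intersection /
local conditions at a prime.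
-/

set_option autoImplicit false
universe u
open scoped TensorProduct

namespace Groth.Agent.Lib.R2H4.SyntNhd

open IsLocalRing RingTheory.Sequence

section Reg

/-- the local ring of a fibre of affine space is a regular local ring -/
theorem isRegularLocalRing_fibLoc (R : Type u) [CommRing R] (n : ℕ)
    (q : Ideal (MvPolynomial (Fin n) R)) [q.IsPrime] :
    IsRegularLocalRing (EGA4.FibLocRing R (MvPolynomial (Fin n) R) q) := by
  obtain ⟨Q, hQ, ⟨ε⟩⟩ := Groth.Agent.Lib.R2LeadSyntD.exists_fibre_prime (R := R) q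
  let p : PrimeSpectrum R := ⟨q.comap (algebraMap R _), inferInstance⟩
  haveI : IsRegularRing (MvPolynomial (Fin n) p.asIdeal.ResidueField) := inferInstance
  haveI : IsRegularRing (p.asIdeal.Fiber (MvPolynomial (Fin n) R)) :=
    IsRegularRing.of_ringEquiv
      (Groth.Agent.Lib.R2H4.RelGCIFlat.fiberPolyEquiv R n p).symm.toRingEquiv
  haveI : IsRegularLocalRing (Localization.AtPrime Q) := inferInstance
  exact IsRegularLocalRing.of_ringEquiv (R := Localization.AtPrime Q) ε

end Reg

section MainFP

variable (R S : Type u) [CommRing R] [CommRing S] [Algebra R S]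

/-- **(3) ⇒ (2), finitely presented case.** -/
theorem main_fp [Algebra.FinitePresentation R S] (q : Ideal S) [q.IsPrime]
    (hflat : Module.Flat R (Localization.AtPrime q))
    (κ T : Type u) [Field κ] [CommRing T] [IsLocalRing T] [Algebra κ T] (hT : Synt.IsCIOver κ T)
    (ε : EGA4.FibLocRing R S q ≃+* T) :
    ∃ h : S, h ∉ q ∧ ∃ (n c : ℕ) (F : Fin c → MvPolynomial (Fin n) R), Synt.IsRelGCI R n c F ∧
      Nonempty (Localization.Away h ≃ₐ[R] Synt.RelGCIRing R n c F) := by
  classical
  obtain ⟨n, φ, hφ, hfg⟩ := (inferInstance : Algebra.FinitePresentation R S).out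
  let P := MvPolynomial (Fin n) R
  set I : Ideal P := RingHom.ker φ.toRingHom with hI
  set q' : Ideal P := q.comap φ.toRingHom with hq'def
  haveI hq' : q'.IsPrime := Ideal.comap_isPrime _ _
  have hIq : I ≤ q' := by
    intro x hx
    rw [hq'def, Ideal.mem_comap, (RingHom.mem_ker).mp hx]
    exact q.zero_mem
  let B := Localization.AtPrime q'
  let π₀ : B →+* Localization.AtPrime q := Localization.localRingHom q' q φ.toRingHom rfl
  have hπ₀ : Function.Surjective π₀ :=
    RingHom.surjective_localRingHom_of_surjective φ.toRingHom hφ q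
  have hkerI : RingHom.ker π₀ = I.map (algebraMap P B) := by
    rw [hI]
    exact Groth.Agent.Lib.R2H4.CIField.ker_localRingHom φ.toRingHom hφ q
  have hcomm : ∀ x : R, π₀ (algebraMap R B x) = algebraMap R (Localization.AtPrime q) x := by
    intro x
    rw [IsScalarTower.algebraMap_apply R P B, Localization.localRingHom_to_map,
      IsScalarTower.algebraMap_apply R S (Localization.AtPrime q)]
    congr 1
    exact φ.commutes x
  let π : B →ₐ[R] Localization.AtPrime q := { π₀ with commutes' := hcomm }
  have hπ : Function.Surjective π := hπ₀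
  -- flatness
  have hflat' : Module.Flat R (B ⧸ I.map (algebraMap P B)) := by
    have e1 : (B ⧸ RingHom.ker π.toRingHom) ≃ₐ[R] Localization.AtPrime q :=
      Ideal.quotientKerAlgEquivOfSurjective hπ
    have hk : RingHom.ker π.toRingHom = I.map (algebraMap P B) := hkerI
    have e2 : (B ⧸ RingHom.ker π.toRingHom) ≃ₐ[R] (B ⧸ I.map (algebraMap P B)) :=
      Ideal.quotientEquivAlgOfEq R hk
    exact Module.Flat.of_linearEquiv (e2.symm.trans e1).toLinearEquiv
  -- the fibre local rings
  let C := EGA4.FibLocRing R P q'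
  have hpp : q'.comap (algebraMap R P) = q.comap (algebraMap R S) := by
    rw [hq'def, Ideal.comap_comap]
    congr 1
    ext x
    exact φ.commutes x
  set 𝔭P : Ideal B := (q'.comap (algebraMap R P)).map (algebraMap R B) with h𝔭P
  set 𝔭S : Ideal (Localization.AtPrime q) :=
    (q.comap (algebraMap R S)).map (algebraMap R (Localization.AtPrime q)) with h𝔭S
  have h𝔭 : 𝔭S = 𝔭P.map π₀ := by
    rw [h𝔭P, h𝔭S, Ideal.map_map, hpp]
    congr 1
    ext x
    exact (hcomm x).symm
  have hle : 𝔭P ≤ 𝔭S.comap π₀ := by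
    rw [h𝔭]
    exact Ideal.le_comap_map
  let πb : C →+* T := (ε : _ →+* T).comp (Ideal.quotientMap 𝔭S π₀ hle)
  have hπb : Function.Surjective πb :=
    ε.surjective.comp (Ideal.quotientMap_surjective hπ₀)
  have hkerπb : RingHom.ker πb = I.map (algebraMap P C) := by
    have h1 : RingHom.ker πb = RingHom.ker (Ideal.quotientMap 𝔭S π₀ hle) := by
      ext x
      simp only [πb, RingHom.mem_ker, RingHom.comp_apply]
      exact map_eq_zero_iff _ ε.injective
    rw [h1, ker_quotientMap π₀ hπ₀ 𝔭P 𝔭S h𝔭 hle, hkerI, Ideal.map_map]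
    rfl
  haveI hC : IsRegularLocalRing C := isRegularLocalRing_fibLoc R n q'
  obtain ⟨rs, hreg, hrs⟩ := Groth.Agent.Lib.R2H4.CIField.ker_regular_of_isCIOver κ T hT C πb hπb
  obtain ⟨c, F, g, hFI, hgq, hgI, hregF⟩ := dataB (R := R) I hfg q' hflat' hC rs hreg
    (hrs.symm.trans hkerπb)
  obtain ⟨h, hhq, hrel, ⟨e⟩⟩ := Groth.Agent.Lib.R2LeadSyntC.common R n c F I hFI q' hIq g hgq hgI
    hregF
  refine ⟨φ h, hhq, n + 1, c + 1, _, hrel, ⟨?_⟩⟩
  let e₀ : (P ⧸ I) ≃ₐ[R] S := Ideal.quotientKerAlgEquivOfSurjective hφ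
  have he₀ : e₀ (Ideal.Quotient.mk I h) = φ h := rfl
  have H : Submonoid.map e₀ (Submonoid.powers (Ideal.Quotient.mk I h)) =
      Submonoid.powers (φ h) := by
    rw [Submonoid.map_powers]
    rfl
  have e₁ : Localization.Away (Ideal.Quotient.mk I h) ≃ₐ[R] Localization.Away (φ h) :=
    IsLocalization.algEquivOfAlgEquiv _ _ e₀ H
  exact e₁.symm.trans e

end MainFP

open IsLocalRing RingTheory.Sequence

section LocLoc

variable (R S : Type u) [CommRing R] [CommRing S] [Algebra R S] (M : Submonoid S)

/-- the `R`-algebra isomorphism `S_{b ∩ S} ≅ (M⁻¹S)_b` -/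
noncomputable def atPrimeEquivR (b : Ideal (Localization M)) [b.IsPrime] :
    Localization.AtPrime (b.comap (algebraMap S (Localization M))) ≃ₐ[R] Localization.AtPrime b :=
  haveI : IsScalarTower R S (Localization.AtPrime b) :=
    IsScalarTower.of_algebraMap_eq fun x => by
      rw [IsScalarTower.algebraMap_apply R (Localization M) (Localization.AtPrime b),
        IsScalarTower.algebraMap_apply R S (Localization M)]
      rfl
  (IsLocalization.localizationLocalizationAtPrimeIsoLocalization M b).restrictScalars R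

theorem flat_atPrime_of_comap (b : Ideal (Localization M)) [b.IsPrime]
    (h : Module.Flat R (Localization.AtPrime (b.comap (algebraMap S (Localization M))))) :
    Module.Flat R (Localization.AtPrime b) :=
  Module.Flat.of_linearEquiv (atPrimeEquivR R S M b).symm.toLinearEquiv

theorem flat_comap_of_atPrime (b : Ideal (Localization M)) [b.IsPrime]
    (h : Module.Flat R (Localization.AtPrime b)) :
    Module.Flat R (Localization.AtPrime (b.comap (algebraMap S (Localization M)))) :=
  Module.Flat.of_linearEquiv (atPrimeEquivR R S M b).toLinearEquiv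

/-- the local rings of the fibres of `S` and of a localization of `S` agree -/
theorem nonempty_fibLocEquiv (b : Ideal (Localization M)) [b.IsPrime] :
    Nonempty (EGA4.FibLocRing R (Localization M) b ≃+*
      EGA4.FibLocRing R S (b.comap (algebraMap S (Localization M)))) := by
  let e := atPrimeEquivR R S M b
  have hp : (b.comap (algebraMap S (Localization M))).comap (algebraMap R S) =
      b.comap (algebraMap R (Localization M)) := by
    rw [Ideal.comap_comap, ← IsScalarTower.algebraMap_eq]
  refine ⟨(Ideal.quotientEquiv _ _ e.toRingEquiv ?_).symm⟩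
  rw [Ideal.map_map, hp]
  congr 1
  ext x
  exact (e.commutes x).symm

theorem fibLoc_congr (q₀ q : Ideal S) [q₀.IsPrime] [q.IsPrime] (h : q₀ = q) :
    Nonempty (EGA4.FibLocRing R S q₀ ≃+* EGA4.FibLocRing R S q) := by
  subst h
  exact ⟨RingEquiv.refl _⟩

theorem flat_congr (q₀ q : Ideal S) [q₀.IsPrime] [q.IsPrime] (h : q₀ = q)
    (hf : Module.Flat R (Localization.AtPrime q)) : Module.Flat R (Localization.AtPrime q₀) := by
  subst h
  exact hf

end LocLoc

section Assemble

variable (R S : Type u) [CommRing R] [CommRing S] [Algebra R S]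

theorem comap_map_away (g : S) (q : Ideal S) [q.IsPrime] (hg : g ∉ q) :
    (q.map (algebraMap S (Localization.Away g))).comap (algebraMap S (Localization.Away g)) = q := by
  have hdisj : Disjoint (Submonoid.powers g : Set S) (q : Set S) := by
    rw [Set.disjoint_left]
    rintro _ ⟨m, rfl⟩ hmem
    exact hg (Ideal.IsPrime.mem_of_pow_mem inferInstance m hmem)
  exact IsLocalization.comap_map_of_isPrime_disjoint (Submonoid.powers g) (Localization.Away g)
    inferInstance hdisj

/-- descending a relative global complete intersection neighbourhood from `S_g` to `S` -/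
theorem exists_away_of_away (g : S) (q : Ideal S) [hq : q.IsPrime] (hg : g ∉ q)
    (h' : Localization.Away g) (hh' : h' ∉ q.map (algebraMap S (Localization.Away g)))
    (n c : ℕ) (F : Fin c → MvPolynomial (Fin n) R)
    (e : Localization.Away h' ≃ₐ[R] Synt.RelGCIRing R n c F) :
    ∃ g' : S, g' ∉ q ∧ Nonempty (Localization.Away g' ≃ₐ[R] Synt.RelGCIRing R n c F) := by
  obtain ⟨a, ⟨_, m, rfl⟩, rfl⟩ := IsLocalization.exists_mk'_eq (Submonoid.powers g) h'
  have hunit : IsUnit (algebraMap S (Localization.Away g) (g ^ m)) :=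
    IsLocalization.map_units (Localization.Away g) (⟨g ^ m, m, rfl⟩ : Submonoid.powers g)
  have hassoc : Associated (algebraMap S (Localization.Away g) a)
      (IsLocalization.mk' (Localization.Away g) a (⟨g ^ m, m, rfl⟩ : Submonoid.powers g)) := by
    obtain ⟨u, hu⟩ := hunit
    refine ⟨u⁻¹, ?_⟩
    rw [Units.mul_inv_eq_iff_eq_mul, hu]
    exact (IsLocalization.mk'_spec _ a (⟨g ^ m, m, rfl⟩ : Submonoid.powers g)).symm
  have haq : a ∉ q := by
    intro ha
    apply hh'
    rw [IsLocalization.mk'_mem_map_algebraMap_iff]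
    exact ⟨1, one_mem _, by simpa using ha⟩
  refine ⟨g * a, fun hmem => (hq.mem_or_mem hmem).elim hg haq, ⟨?_⟩⟩
  have hloc : IsLocalization.Away (g * a) (Localization.Away
      (IsLocalization.mk' (Localization.Away g) a (⟨g ^ m, m, rfl⟩ : Submonoid.powers g))) :=
    IsLocalization.Away.mul_of_associated g a _ hassoc
  haveI : IsScalarTower R S (Localization.Away
      (IsLocalization.mk' (Localization.Away g) a (⟨g ^ m, m, rfl⟩ : Submonoid.powers g))) :=
    IsScalarTower.of_algebraMap_eq (R := R) (S := S) fun x => by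
      rw [IsScalarTower.algebraMap_apply R (Localization.Away g) (Localization.Away
          (IsLocalization.mk' (Localization.Away g) a (⟨g ^ m, m, rfl⟩ : Submonoid.powers g))),
        IsScalarTower.algebraMap_apply R S (Localization.Away g)]
      rfl
  exact ((IsLocalization.algEquiv (Submonoid.powers (g * a))
    (Localization.Away (IsLocalization.mk' (Localization.Away g) a
      (⟨g ^ m, m, rfl⟩ : Submonoid.powers g))) (Localization.Away (g * a))).restrictScalars R).symm.trans e

variable (p : Ideal R) [p.IsPrime] (q : Ideal S) [q.IsPrime]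
    (Q : Ideal (p.Fiber S)) [Q.IsPrime]
    (hQ : Q.comap (Algebra.TensorProduct.includeRight : S →ₐ[R] p.Fiber S) = q)

include hQ in
/-- **(3) ⇒ (2)** -/
theorem three_imp_two (g : S) (hg : g ∉ q)
    (hfp : Algebra.FinitePresentation R (Localization.Away g))
    (hflat : Module.Flat R (Localization.AtPrime q))
    (hCI : Synt.IsCIOver p.ResidueField (Localization.AtPrime Q)) :
    ∃ g' : S, g' ∉ q ∧ ∃ (n c : ℕ) (F : Fin c → MvPolynomial (Fin n) R), Synt.IsRelGCI R n c F ∧
      Nonempty (Localization.Away g' ≃ₐ[R] Synt.RelGCIRing R n c F) := by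
  haveI hb := Groth.Agent.Lib.R2H4.CIField.isPrime_map_away S g q hg
  set b : Ideal (Localization.Away g) := q.map (algebraMap S (Localization.Away g)) with hbdef
  have hcomap : b.comap (algebraMap S (Localization.Away g)) = q := comap_map_away S g q hg
  obtain ⟨ε₁, -⟩ := Groth.Agent.Lib.R2H4.RegSeqOpen.exists_equiv p Q q hQ
  obtain ⟨ε₂⟩ := nonempty_fibLocEquiv R S (Submonoid.powers g) b
  obtain ⟨ε₃⟩ := fibLoc_congr R S _ q hcomap
  have hflatb : Module.Flat R (Localization.AtPrime b) :=
    flat_atPrime_of_comap R S (Submonoid.powers g) b (flat_congr R S _ q hcomap hflat)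
  obtain ⟨h', hh', n, c, F, hrel, ⟨e⟩⟩ := main_fp R (Localization.Away g) b hflatb
    p.ResidueField (Localization.AtPrime Q) hCI ((ε₂.trans ε₃).trans ε₁.symm)
  obtain ⟨g', hg', ⟨e'⟩⟩ := exists_away_of_away R S g q hg h' hh' n c F e
  exact ⟨g', hg', n, c, F, hrel, ⟨e'⟩⟩

end Assemble

open IsLocalRing RingTheory.Sequence

section Final

variable (R S : Type u) [CommRing R] [CommRing S] [Algebra R S]
    (p : Ideal R) [p.IsPrime] (q : Ideal S) [q.IsPrime]
    (Q : Ideal (p.Fiber S)) [Q.IsPrime]
    (hQ : Q.comap (Algebra.TensorProduct.includeRight : S →ₐ[R] p.Fiber S) = q)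

include hQ in
/-- **(1) ⇒ (3)** -/
theorem one_imp_three (g : S) (hg : g ∉ q) (hs : Synt.IsSyntomic R (Localization.Away g)) :
    Algebra.FinitePresentation R (Localization.Away g) ∧
      Module.Flat R (Localization.AtPrime q) ∧
      Synt.IsCIOver p.ResidueField (Localization.AtPrime Q) := by
  obtain ⟨hfl, hfp, hfib⟩ := hs
  refine ⟨hfp, ?_, ?_⟩
  · haveI hb := Groth.Agent.Lib.R2H4.CIField.isPrime_map_away S g q hg
    set b : Ideal (Localization.Away g) := q.map (algebraMap S (Localization.Away g)) with hbdef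
    have hcomap : b.comap (algebraMap S (Localization.Away g)) = q := comap_map_away S g q hg
    haveI : Module.Flat (Localization.Away g) (Localization.AtPrime b) :=
      IsLocalization.flat _ b.primeCompl
    have h1 : Module.Flat R (Localization.AtPrime b) :=
      Module.Flat.trans R (Localization.Away g) _
    exact flat_congr R S q _ hcomap.symm (flat_comap_of_atPrime R S (Submonoid.powers g) b h1)
  · have h1 := hfib ⟨p, inferInstance⟩
    have h2 : Synt.IsLCIOver p.ResidueField
        (Localization.Away ((1 : p.ResidueField) ⊗ₜ[R] g : p.Fiber S)) :=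
      Groth.Agent.Lib.R2H4.SyntLoc.isLCIOver_of_algEquiv _ _ _
        (IsLocalization.Away.tensorProductEquivTMulRight R p.ResidueField g
          (Localization.Away g)) h1
    have hgQ : ((1 : p.ResidueField) ⊗ₜ[R] g : p.Fiber S) ∉ Q := by
      intro hmem
      apply hg
      rw [← hQ]
      exact hmem
    exact Groth.Agent.Lib.R2H4.CIField.isCIOver_atPrime_of_away_isLCIOver p.ResidueField
      (p.Fiber S) _ Q hgQ h2

theorem two_imp_one (g : S) (n c : ℕ) (F : Fin c → MvPolynomial (Fin n) R)
    (hrel : Synt.IsRelGCI R n c F) (e : Localization.Away g ≃ₐ[R] Synt.RelGCIRing R n c F) :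
    Synt.IsSyntomic R (Localization.Away g) :=
  Groth.Agent.Lib.R2LeadSyntE.isSyntomic_of_algEquiv R _ _ e.symm
    (Groth.Agent.Lib.R2H4.RelGCIFlat.isSyntomic_relGCI R n c F hrel)

theorem main9169 (R S : Type u) [CommRing R] [CommRing S] [Algebra R S]
    (p : Ideal R) [p.IsPrime] (q : Ideal S) [q.IsPrime] [q.LiesOver p]
    (Q : Ideal (p.Fiber S)) [Q.IsPrime]
    (hQ : Q.comap (Algebra.TensorProduct.includeRight.toRingHom) = q) :
    ((∃ g : S, g ∉ q ∧ Synt.IsSyntomic R (Localization.Away g)) ↔
        ∃ g : S, g ∉ q ∧ ∃ (n c : ℕ) (F : Fin c → MvPolynomial (Fin n) R), Synt.IsRelGCI R n c F ∧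
          Nonempty (Localization.Away g ≃ₐ[R] Synt.RelGCIRing R n c F)) ∧
      ((∃ g : S, g ∉ q ∧ Synt.IsSyntomic R (Localization.Away g)) ↔
        ∃ g : S, g ∉ q ∧ Algebra.FinitePresentation R (Localization.Away g) ∧
          Module.Flat R (Localization.AtPrime q) ∧
          Synt.IsCIOver p.ResidueField (Localization.AtPrime Q)) := by
  have hQ' : Q.comap (Algebra.TensorProduct.includeRight : S →ₐ[R] p.Fiber S) = q := hQ
  have h13 : (∃ g : S, g ∉ q ∧ Synt.IsSyntomic R (Localization.Away g)) →
      ∃ g : S, g ∉ q ∧ Algebra.FinitePresentation R (Localization.Away g) ∧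
        Module.Flat R (Localization.AtPrime q) ∧
        Synt.IsCIOver p.ResidueField (Localization.AtPrime Q) := by
    rintro ⟨g, hg, hs⟩
    exact ⟨g, hg, one_imp_three R S p q Q hQ' g hg hs⟩
  have h32 : (∃ g : S, g ∉ q ∧ Algebra.FinitePresentation R (Localization.Away g) ∧
        Module.Flat R (Localization.AtPrime q) ∧
        Synt.IsCIOver p.ResidueField (Localization.AtPrime Q)) →
      ∃ g : S, g ∉ q ∧ ∃ (n c : ℕ) (F : Fin c → MvPolynomial (Fin n) R), Synt.IsRelGCI R n c F ∧
          Nonempty (Localization.Away g ≃ₐ[R] Synt.RelGCIRing R n c F) := by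
    rintro ⟨g, hg, hfp, hfl, hCI⟩
    exact three_imp_two R S p q Q hQ' g hg hfp hfl hCI
  have h21 : (∃ g : S, g ∉ q ∧ ∃ (n c : ℕ) (F : Fin c → MvPolynomial (Fin n) R),
        Synt.IsRelGCI R n c F ∧ Nonempty (Localization.Away g ≃ₐ[R] Synt.RelGCIRing R n c F)) →
      ∃ g : S, g ∉ q ∧ Synt.IsSyntomic R (Localization.Away g) := by
    rintro ⟨g, hg, n, c, F, hrel, ⟨e⟩⟩
    exact ⟨g, hg, two_imp_one R S g n c F hrel e⟩
  exact ⟨⟨fun h => h32 (h13 h), h21⟩, ⟨h13, fun h => h21 (h32 h)⟩⟩

end Final

end Groth.Agent.Lib.R2H4.SyntNhd
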