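import Mathlib
import Groth.Prelude.Def_RegImm
import Groth.Prelude.Def_EGA4b
import Groth.Agent.Lib.R2H4FibRegSeq
import Groth.Agent.Lib.R2H4SyntNhdB
import Groth.Agent.Lib.R2H4CIFieldA
import Groth.Agent.Lib.H9NzdFibre

/-!
# Spreading out fibrewise regular sequences (helper4, round 2)

`A → C` of finite presentation, `P` a prime of `C` with `C_P` flat over `A`, `l` a sequence in `C`
whose image in the fibre local ring `C_P / p C_P` is regular. Then `l` is weakly regular in `C_c` for
some `c ∉ P` (`main`, `main'`). Non-Noetherian; iterates helper9's `H9NzdFibre.ring_final` on the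
quotients `C/(l₁..lₖ)`, whose flatness at `P` comes from `R2H4FibRegSeq.main`.

* `nonempty_fibLoc_equiv`: `(C ⊗[A] κ(p))_P ≃ₗ[C] C_P / p C_P`.
* `flat_quotients`: regular on `C_P`, partial quotients flat at `P`.
* `exists_fibLocMap`: a surjection of `R`-algebras induces a surjection of fibre local rings with
  kernel generated by the kernel.
* `step`, `isWeaklyRegular_away`, `spread`, `main`, `main'`.
-/

set_option autoImplicit false
set_option linter.style.haveILetI false
universe u
open scoped TensorProduct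

namespace Groth.Agent.Lib.R2H4.RegSpread


open IsLocalRing RingTheory.Sequence

section FibIso

variable {A C : Type u} [CommRing A] [CommRing C] [Algebra A C] (P : Ideal C) [P.IsPrime]

/-- the fibre local ring `C_P / p C_P` is the localization at `P` of the `C`-module `C ⊗ κ(p)`. -/
theorem nonempty_fibLoc_equiv :
    Nonempty (LocalizedModule P.primeCompl (C ⊗[A] (P.comap (algebraMap A C)).ResidueField) ≃ₗ[C]
      EGA4.FibLocRing A C P) := by
  classical
  set p : Ideal A := P.comap (algebraMap A C) with hp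
  let F := EGA4.FibLocRing A C P
  have hmk : ∀ a : A, algebraMap A F a =
      Ideal.Quotient.mk _ (algebraMap A (Localization.AtPrime P) a) := fun a => rfl
  have hmkC : ∀ c : C, algebraMap C F c =
      Ideal.Quotient.mk _ (algebraMap C (Localization.AtPrime P) c) := fun a => rfl
  have hf₁ : p ≤ RingHom.ker (Algebra.ofId A F) := by
    intro a ha
    rw [RingHom.mem_ker]
    change algebraMap A F a = 0
    rw [hmk, Ideal.Quotient.eq_zero_iff_mem]
    exact Ideal.mem_map_of_mem _ ha
  have hunitC : ∀ s : C, s ∉ P → IsUnit (algebraMap C F s) := by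
    intro s hs
    rw [hmkC]
    exact (IsLocalization.map_units (Localization.AtPrime P) (⟨s, hs⟩ : P.primeCompl)).map _
  have hf₂ : p.primeCompl ≤ (IsUnit.submonoid F).comap (Algebra.ofId A F) := by
    intro a ha
    change IsUnit (algebraMap A F a)
    rw [IsScalarTower.algebraMap_apply A C F]
    exact hunitC _ ha
  let ψ : p.ResidueField →ₐ[A] F := Ideal.ResidueField.liftₐ p (Algebra.ofId A F) hf₁ hf₂
  let G : C ⊗[A] p.ResidueField →ₐ[C] F :=
    Algebra.TensorProduct.lift (Algebra.ofId C F) ψ (fun _ _ => Commute.all _ _)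
  have hG : ∀ c : C, G (c ⊗ₜ 1) = algebraMap C F c := by
    intro c
    change Algebra.TensorProduct.lift (Algebra.ofId C F) ψ _ (c ⊗ₜ 1) = _
    rw [Algebra.TensorProduct.lift_tmul, map_one, mul_one]
    rfl
  -- elements of `pC` die in `C ⊗ κ(p)`
  have hdie : ∀ y ∈ p.map (algebraMap A C), (y ⊗ₜ[A] (1 : p.ResidueField)) = 0 := by
    have : p.map (algebraMap A C) ≤ RingHom.ker
        (Algebra.TensorProduct.includeLeft : C →ₐ[A] C ⊗[A] p.ResidueField).toRingHom := by
      rw [Ideal.map_le_iff_le_comap]
      intro a ha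
      rw [Ideal.mem_comap, RingHom.mem_ker]
      change (Algebra.TensorProduct.includeLeft : C →ₐ[A] C ⊗[A] p.ResidueField)
        (algebraMap A C a) = 0
      rw [AlgHom.commutes, ← (Algebra.TensorProduct.includeRight :
        p.ResidueField →ₐ[A] C ⊗[A] p.ResidueField).commutes,
        (Ideal.algebraMap_residueField_eq_zero).mpr ha, map_zero]
    intro y hy
    exact this hy
  haveI : IsLocalizedModule P.primeCompl G.toLinearMap := by
    refine ⟨?_, ?_, ?_⟩
    · intro s
      rw [← (Algebra.lmul C F).commutes, Algebra.lmul_isUnit_iff]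
      exact hunitC s.1 s.2
    · intro y
      obtain ⟨y', rfl⟩ := Ideal.Quotient.mk_surjective y
      obtain ⟨c, t, rfl⟩ := IsLocalization.exists_mk'_eq P.primeCompl y'
      refine ⟨(c ⊗ₜ 1, t), ?_⟩
      change t • Ideal.Quotient.mk _ (IsLocalization.mk' (Localization.AtPrime P) c t) = G (c ⊗ₜ 1)
      rw [hG, hmkC, Submonoid.smul_def, Algebra.smul_def, hmkC, ← map_mul,
        IsLocalization.mk'_spec']
    · intro x₁ x₂ h12
      have h0 : G (x₁ - x₂) = 0 := by
        rw [map_sub, sub_eq_zero]
        exact h12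
      obtain ⟨r, hr, s, hrs⟩ := Ideal.ResidueField.exists_smul_eq_tmul_one p (x₁ - x₂)
      have h1 : algebraMap C F s = 0 := by
        rw [← hG, ← hrs, ← algebraMap_smul C r (x₁ - x₂), map_smul, h0, smul_zero]
      rw [hmkC, Ideal.Quotient.eq_zero_iff_mem] at h1
      have h2 : p.map (algebraMap A (Localization.AtPrime P)) =
          (p.map (algebraMap A C)).map (algebraMap C (Localization.AtPrime P)) := by
        rw [Ideal.map_map, ← IsScalarTower.algebraMap_eq]
      rw [h2, IsLocalization.algebraMap_mem_map_algebraMap_iff P.primeCompl] at h1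
      obtain ⟨t, ht, hts⟩ := h1
      refine ⟨⟨t, ht⟩, ?_⟩
      have h3 : t • (r • (x₁ - x₂)) = 0 := by
        rw [hrs, TensorProduct.smul_tmul', smul_eq_mul]
        exact hdie _ hts
      -- `r` acts invertibly
      have hu : IsUnit (algebraMap A (C ⊗[A] p.ResidueField) r) := by
        rw [← (Algebra.TensorProduct.includeRight :
          p.ResidueField →ₐ[A] C ⊗[A] p.ResidueField).commutes]
        apply IsUnit.map
        rw [isUnit_iff_ne_zero, Ne, Ideal.algebraMap_residueField_eq_zero]
        exact hr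
      have h4 : algebraMap A (C ⊗[A] p.ResidueField) r * (t • (x₁ - x₂)) = 0 := by
        rw [← Algebra.smul_def, smul_comm]
        exact h3
      have h5 : t • (x₁ - x₂) = 0 := by
        have := congrArg (fun z => (↑hu.unit⁻¹ : C ⊗[A] p.ResidueField) * z) h4
        simpa [← mul_assoc] using this
      rw [smul_sub, sub_eq_zero] at h5
      exact h5
  exact ⟨IsLocalizedModule.iso P.primeCompl G.toLinearMap⟩

/-- flatness of the partial quotients at `P`, from fibrewise regularity -/
theorem flat_quotients [Algebra.FinitePresentation A C] (l : List C)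
    (hflat : Module.Flat A (LocalizedModule P.primeCompl C))
    (hreg : IsRegular (EGA4.FibLocRing A C P) (l.map (algebraMap C (EGA4.FibLocRing A C P)))) :
    IsRegular (LocalizedModule P.primeCompl C) l ∧ ∀ i ≤ l.length,
      Module.Flat A (LocalizedModule P.primeCompl (C ⧸ Ideal.ofList (l.take i))) := by
  obtain ⟨e⟩ := nonempty_fibLoc_equiv (A := A) P
  have h1 : IsRegular (EGA4.FibLocRing A C P) l :=
    ((AddEquiv.refl _).isRegular_congr (List.forall₂_map_left_iff.mpr
      (List.forall₂_same.mpr fun r _ => algebraMap_smul _ r))).mp hreg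
  have h2 := (e.isRegular_congr l).mpr h1
  obtain ⟨h3, h4⟩ := Groth.Agent.Lib.R2H4.FibRegSeq.main (A := A) (B := C) C P l hflat h2
  refine ⟨h3, fun i hi => ?_⟩
  have h5 := h4 i hi
  have hsub : (Ideal.span {b | b ∈ l.take i} • (⊤ : Submodule C C)) = Ideal.ofList (l.take i) := by
    rw [smul_eq_mul, Ideal.mul_top]
  exact Groth.Agent.Lib.R2H4.FibRegSeq.flat_localizedModule_congr P.primeCompl
    (Submodule.quotEquivOfEq _ _ hsub) h5

end FibIso



open IsLocalRing RingTheory.Sequence
open Groth.Agent.Lib.R2H4.SyntNhd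

section FibLocMap

variable {R P S : Type u} [CommRing R] [CommRing P] [CommRing S] [Algebra R P] [Algebra R S]

/-- A surjection `φ : P ↠ S` of `R`-algebras induces a surjection of fibre local rings with kernel
generated by `ker φ`. -/
theorem exists_fibLocMap (φ : P →ₐ[R] S) (hφ : Function.Surjective φ) (q : Ideal S) [q.IsPrime] :
    ∃ ρ : EGA4.FibLocRing R P (q.comap φ.toRingHom) →+* EGA4.FibLocRing R S q,
      Function.Surjective ρ ∧
      RingHom.ker ρ = (RingHom.ker φ.toRingHom).map
        (algebraMap P (EGA4.FibLocRing R P (q.comap φ.toRingHom))) ∧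
      ∀ x : P, ρ (algebraMap P _ x) = algebraMap S _ (φ x) := by
  classical
  set I : Ideal P := RingHom.ker φ.toRingHom with hI
  set q' : Ideal P := q.comap φ.toRingHom with hq'def
  let B := Localization.AtPrime q'
  let π₀ : B →+* Localization.AtPrime q := Localization.localRingHom q' q φ.toRingHom rfl
  have hπ₀ : Function.Surjective π₀ :=
    RingHom.surjective_localRingHom_of_surjective φ.toRingHom hφ q
  have hkerI : RingHom.ker π₀ = I.map (algebraMap P B) := by
    rw [hI]
    exact Groth.Agent.Lib.R2H4.CIField.ker_localRingHom φ.toRingHom hφ q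
  have hcomm : ∀ x : R, π₀ (algebraMap R B x) = algebraMap R (Localization.AtPrime q) x := by
    intro x
    rw [IsScalarTower.algebraMap_apply R P B, Localization.localRingHom_to_map,
      IsScalarTower.algebraMap_apply R S (Localization.AtPrime q)]
    congr 1
    exact φ.commutes x
  have hpp : q'.comap (algebraMap R P) = q.comap (algebraMap R S) := by
    rw [hq'def, Ideal.comap_comap]
    congr 1
    ext x
    exact φ.commutes x
  set 𝔭P : Ideal B := (q'.comap (algebraMap R P)).map (algebraMap R B) with h𝔭P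
  set 𝔭S : Ideal (Localization.AtPrime q) :=
    (q.comap (algebraMap R S)).map (algebraMap R (Localization.AtPrime q)) with h𝔭S
  have h𝔭 : 𝔭S = 𝔭P.map π₀ := by
    rw [h𝔭P, h𝔭S, Ideal.map_map, hpp]
    congr 1
    ext x
    exact (hcomm x).symm
  have hle : 𝔭P ≤ 𝔭S.comap π₀ := by
    rw [h𝔭]
    exact Ideal.le_comap_map
  refine ⟨Ideal.quotientMap 𝔭S π₀ hle, Ideal.quotientMap_surjective hπ₀, ?_, ?_⟩
  · rw [ker_quotientMap π₀ hπ₀ 𝔭P 𝔭S h𝔭 hle, hkerI, Ideal.map_map]
    rfl
  · intro x
    change Ideal.quotientMap 𝔭S π₀ hle (Ideal.Quotient.mk _ (algebraMap P B x)) = _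
    rw [Ideal.quotientMap_mk, Localization.localRingHom_to_map]
    rfl

end FibLocMap

section Step

variable {A C : Type u} [CommRing A] [CommRing C] [Algebra A C]

/-- localization of the quotient at the image prime, as modules -/
theorem flat_localizedModule_quotient (I : Ideal C) (P' : Ideal (C ⧸ I)) [P'.IsPrime]
    (hflat : Module.Flat A (LocalizedModule (P'.comap (Ideal.Quotient.mk I)).primeCompl (C ⧸ I))) :
    Module.Flat A (LocalizedModule P'.primeCompl (C ⧸ I)) := by
  set P : Ideal C := P'.comap (Ideal.Quotient.mk I) with hPdef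
  have heq : Algebra.algebraMapSubmonoid (C ⧸ I) P.primeCompl = P'.primeCompl := by
    ext x
    constructor
    · rintro ⟨y, hy, rfl⟩
      exact hy
    · intro hx
      obtain ⟨y, rfl⟩ := Ideal.Quotient.mk_surjective x
      exact ⟨y, hx, rfl⟩
  let f : (C ⧸ I) →ₗ[C ⧸ I] LocalizedModule P'.primeCompl (C ⧸ I) :=
    LocalizedModule.mkLinearMap P'.primeCompl (C ⧸ I)
  haveI h1 : IsLocalizedModule (Algebra.algebraMapSubmonoid (C ⧸ I) P.primeCompl) f := by
    rw [heq]
    infer_instance
  haveI h2 : IsLocalizedModule P.primeCompl (f.restrictScalars C) :=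
    IsLocalizedModule.restrictScalars P.primeCompl f
  let e : LocalizedModule P.primeCompl (C ⧸ I) ≃ₗ[C] LocalizedModule P'.primeCompl (C ⧸ I) :=
    IsLocalizedModule.iso P.primeCompl (f.restrictScalars C)
  let e' : LocalizedModule P.primeCompl (C ⧸ I) ≃ₗ[A] LocalizedModule P'.primeCompl (C ⧸ I) :=
    { e.toAddEquiv with
      map_smul' := fun a x => by
        change e (a • x) = a • e x
        rw [← algebraMap_smul C a x, map_smul, algebraMap_smul] }
  exact Module.Flat.of_linearEquiv e'.symm

/-- **One spreading step.** -/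
theorem step' [Algebra.FinitePresentation A C] (I : Ideal C) (hI : I.FG) (P' : Ideal (C ⧸ I))
    [P'.IsPrime] (P : Ideal C) [P.IsPrime] (hP : P'.comap (Ideal.Quotient.mk I) = P)
    (h : C) (hh : h ∈ P)
    (hflat : Module.Flat A (LocalizedModule P.primeCompl (C ⧸ I)))
    (hreg : ∀ y : EGA4.FibLocRing A C P,
      algebraMap C _ h * y ∈ I.map (algebraMap C (EGA4.FibLocRing A C P)) →
      y ∈ I.map (algebraMap C (EGA4.FibLocRing A C P))) :
    ∃ c : C, c ∉ P ∧ ∀ x : C, h * x ∈ I → ∃ n : ℕ, c ^ n * x ∈ I := by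
  classical
  subst hP
  haveI : Algebra.FinitePresentation A (C ⧸ I) := Algebra.FinitePresentation.quotient hI
  have hflat' := flat_localizedModule_quotient (A := A) I P' hflat
  have hreg' : Ideal.Quotient.mk ((P'.under A).map (algebraMap A (Localization.AtPrime P')))
        (algebraMap (C ⧸ I) (Localization.AtPrime P') (Ideal.Quotient.mk I h)) ∈
      nonZeroDivisors (Localization.AtPrime P' ⧸
        (P'.under A).map (algebraMap A (Localization.AtPrime P'))) := by
    obtain ⟨ρ, hρs, hρk, hρa⟩ := exists_fibLocMap (Ideal.Quotient.mkₐ A I)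
      (Ideal.Quotient.mkₐ_surjective A I) P'
    refine (mem_nonZeroDivisors_iff_right (M₀ := EGA4.FibLocRing A (C ⧸ I) P')).mpr fun y hy => ?_
    obtain ⟨y', rfl⟩ := hρs y
    have h1 : algebraMap C _ h * y' ∈ RingHom.ker ρ := by
      rw [RingHom.mem_ker, map_mul, hρa, mul_comm]
      exact hy
    have hk : (RingHom.ker (Ideal.Quotient.mkₐ A I).toRingHom) = I := Ideal.mk_ker
    rw [hρk, hk] at h1
    have h2 := hreg y' h1
    have h3 : y' ∈ RingHom.ker ρ := by
      rw [hρk, hk]
      exact h2
    exact h3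
  obtain ⟨c', hc', hnzd, -⟩ := Groth.Agent.Lib.H9NzdFibre.ring_final (P'.under A) P' rfl
    (Ideal.Quotient.mk I h) hh hflat' hreg'
  obtain ⟨c, rfl⟩ := Ideal.Quotient.mk_surjective c'
  refine ⟨c, hc', ?_⟩
  intro x hx
  have h0 : algebraMap (C ⧸ I) (Localization.Away (Ideal.Quotient.mk I c)) (Ideal.Quotient.mk I x) *
      algebraMap (C ⧸ I) (Localization.Away (Ideal.Quotient.mk I c)) (Ideal.Quotient.mk I h) = 0 := by
    rw [← map_mul, ← map_mul, mul_comm, Ideal.Quotient.eq_zero_iff_mem.mpr hx, map_zero]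
  have h1 := (mem_nonZeroDivisors_iff_right.mp hnzd) _ h0
  obtain ⟨⟨_, n, rfl⟩, hn⟩ := (IsLocalization.map_eq_zero_iff
    (Submonoid.powers (Ideal.Quotient.mk I c)) _ _).mp h1
  refine ⟨n, ?_⟩
  rw [← Ideal.Quotient.eq_zero_iff_mem, map_mul, map_pow]
  exact hn

theorem step [Algebra.FinitePresentation A C] (P : Ideal C) [P.IsPrime] (I : Ideal C) (hI : I.FG)
    (hIP : I ≤ P) (h : C) (hh : h ∈ P)
    (hflat : Module.Flat A (LocalizedModule P.primeCompl (C ⧸ I)))
    (hreg : ∀ y : EGA4.FibLocRing A C P,
      algebraMap C _ h * y ∈ I.map (algebraMap C (EGA4.FibLocRing A C P)) →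
      y ∈ I.map (algebraMap C (EGA4.FibLocRing A C P))) :
    ∃ c : C, c ∉ P ∧ ∀ x : C, h * x ∈ I → ∃ n : ℕ, c ^ n * x ∈ I := by
  haveI hprime : (P.map (Ideal.Quotient.mk I)).IsPrime :=
    Ideal.isPrime_map_quotientMk_of_isPrime hIP
  have hcomap : (P.map (Ideal.Quotient.mk I)).comap (Ideal.Quotient.mk I) = P := by
    rw [Ideal.comap_map_of_surjective _ Ideal.Quotient.mk_surjective, ← RingHom.ker_eq_comap_bot,
      Ideal.mk_ker]
    exact sup_eq_left.mpr hIP
  exact step' I hI (P.map (Ideal.Quotient.mk I)) P hcomap h hh hflat hreg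

/-- elementwise criterion for weak regularity in a localization away from `c` -/
theorem isWeaklyRegular_away (c : C) (L : Type*) [CommRing L] [Algebra C L]
    [IsLocalization.Away c L] (l : List C)
    (H : ∀ (i : ℕ) (hi : i < l.length) (x : C), l[i] * x ∈ Ideal.ofList (l.take i) →
      ∃ n : ℕ, c ^ n * x ∈ Ideal.ofList (l.take i)) :
    IsWeaklyRegular L (l.map (algebraMap C L)) := by
  rw [isWeaklyRegular_iff]
  intro i hi
  have hi' : i < l.length := by simpa using hi
  have hsub : (Ideal.ofList ((l.map (algebraMap C L)).take i) •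
      (⊤ : Submodule L L)) = (Ideal.ofList (l.take i)).map (algebraMap C L) := by
    rw [smul_eq_mul, Ideal.mul_top, ← List.map_take, Ideal.map_ofList]
  rw [hsub, List.getElem_map, isSMulRegular_quotient_iff_mem_of_smul_mem]
  intro y hy
  obtain ⟨x, s, rfl⟩ := IsLocalization.exists_mk'_eq (Submonoid.powers c) y
  rw [smul_eq_mul, IsLocalization.mul_mk'_eq_mk'_of_mul,
    IsLocalization.mk'_mem_map_algebraMap_iff (Submonoid.powers c)] at hy
  obtain ⟨t, ht, htx⟩ := hy
  have h1 : l[i] * (t * x) ∈ Ideal.ofList (l.take i) := by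
    have : l[i] * (t * x) = t * (l[i] * x) := by ring
    rw [this]
    exact htx
  obtain ⟨n, hn⟩ := H i hi' (t * x) h1
  rw [IsLocalization.mk'_mem_map_algebraMap_iff (Submonoid.powers c)]
  refine ⟨c ^ n * t, Submonoid.mul_mem _ ⟨n, rfl⟩ ht, ?_⟩
  rw [mul_assoc]
  exact hn

/-- **Spreading out a fibrewise regular sequence** (given flatness of the partial quotients at
`P`). -/
theorem spread [Algebra.FinitePresentation A C] (P : Ideal C) [P.IsPrime] (l : List C)
    (hl : ∀ x ∈ l, x ∈ P)
    (hflat : ∀ i < l.length,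
      Module.Flat A (LocalizedModule P.primeCompl (C ⧸ Ideal.ofList (l.take i))))
    (hreg : IsWeaklyRegular (EGA4.FibLocRing A C P)
      (l.map (algebraMap C (EGA4.FibLocRing A C P)))) :
    ∃ c : C, c ∉ P ∧ ∀ (d : C) (L : Type u) [CommRing L] [Algebra C L]
      [IsLocalization.Away (c * d) L], IsWeaklyRegular L (l.map (algebraMap C L)) := by
  classical
  have hstep : ∀ i : Fin l.length, ∃ c : C, c ∉ P ∧ ∀ x : C, l[i] * x ∈ Ideal.ofList (l.take i) →
      ∃ n : ℕ, c ^ n * x ∈ Ideal.ofList (l.take i) := by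
    intro i
    have hfg : (Ideal.ofList (l.take i)).FG := ⟨(l.take i).toFinset, by
      simp [Ideal.ofList]⟩
    have hle : Ideal.ofList (l.take i) ≤ P := by
      rw [Ideal.ofList, Ideal.span_le]
      intro x hx
      exact hl x (List.mem_of_mem_take hx)
    refine step P _ hfg hle l[i] (hl _ (List.getElem_mem _)) (hflat i i.2) ?_
    have h1 := (isWeaklyRegular_iff _ _).mp hreg i (by simpa using i.2)
    have hsub : (Ideal.ofList ((l.map (algebraMap C (EGA4.FibLocRing A C P))).take i) •
        (⊤ : Submodule (EGA4.FibLocRing A C P) (EGA4.FibLocRing A C P))) =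
        (Ideal.ofList (l.take i)).map (algebraMap C (EGA4.FibLocRing A C P)) := by
      rw [smul_eq_mul, Ideal.mul_top, ← List.map_take, Ideal.map_ofList]
    rw [hsub, List.getElem_map, isSMulRegular_quotient_iff_mem_of_smul_mem] at h1
    intro y hy
    exact h1 y hy
  choose cf hcf1 hcf2 using hstep
  refine ⟨∏ i, cf i, ?_, ?_⟩
  · have : (∏ i, cf i) ∈ P.primeCompl :=
      Submonoid.prod_mem _ (fun i _ => hcf1 i)
    exact this
  · intro d' L _ _ _
    apply isWeaklyRegular_away ((∏ i, cf i) * d') L
    intro i hi x hx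
    obtain ⟨n, hn⟩ := hcf2 ⟨i, hi⟩ x hx
    obtain ⟨d, hd⟩ := Finset.dvd_prod_of_mem cf (Finset.mem_univ (⟨i, hi⟩ : Fin l.length))
    refine ⟨n, ?_⟩
    rw [hd, mul_pow, mul_pow]
    have : cf ⟨i, hi⟩ ^ n * d ^ n * d' ^ n * x = (d ^ n * d' ^ n) * (cf ⟨i, hi⟩ ^ n * x) := by ring
    rw [this]
    exact Ideal.mul_mem_left _ _ hn

end Step


section Main

variable {A C : Type u} [CommRing A] [CommRing C] [Algebra A C]

/-- **Spreading out fibrewise regular sequences.** Let `A → C` be of finite presentation, `P` a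
prime of `C` at which `C` is flat over `A`, and `l` a sequence in `C` whose image in the fibre local
ring `C_P / p C_P` is regular. Then `l` is a weakly regular sequence in `C_{cd}` for some `c ∉ P` and
all `d`. -/
theorem main [Algebra.FinitePresentation A C] (P : Ideal C) [P.IsPrime] (l : List C)
    (hflat : Module.Flat A (LocalizedModule P.primeCompl C))
    (hreg : IsRegular (EGA4.FibLocRing A C P) (l.map (algebraMap C (EGA4.FibLocRing A C P)))) :
    ∃ c : C, c ∉ P ∧ ∀ (d : C) (L : Type u) [CommRing L] [Algebra C L]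
      [IsLocalization.Away (c * d) L], IsWeaklyRegular L (l.map (algebraMap C L)) := by
  have hl : ∀ x ∈ l, x ∈ P := by
    intro x hx
    by_contra hxP
    apply hreg.top_ne_smul
    have hu : IsUnit (algebraMap C (EGA4.FibLocRing A C P) x) :=
      (IsLocalization.map_units (Localization.AtPrime P) (⟨x, hxP⟩ : P.primeCompl)).map
        (Ideal.Quotient.mk _)
    have h1 : Ideal.ofList (l.map (algebraMap C (EGA4.FibLocRing A C P))) = ⊤ :=
      Ideal.eq_top_of_isUnit_mem _ (Ideal.subset_span (List.mem_map_of_mem hx)) hu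
    rw [h1, smul_eq_mul, Ideal.mul_top]
  obtain ⟨-, h2⟩ := flat_quotients (A := A) P l hflat hreg
  exact spread P l hl (fun i hi => h2 i hi.le) hreg.toIsWeaklyRegular

/-- variant with flatness of `Localization.AtPrime P` -/
theorem main' [Algebra.FinitePresentation A C] (P : Ideal C) [P.IsPrime] (l : List C)
    (hflat : Module.Flat A (Localization.AtPrime P))
    (hreg : IsRegular (EGA4.FibLocRing A C P) (l.map (algebraMap C (EGA4.FibLocRing A C P)))) :
    ∃ c : C, c ∉ P ∧ ∀ (d : C) (L : Type u) [CommRing L] [Algebra C L]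
      [IsLocalization.Away (c * d) L], IsWeaklyRegular L (l.map (algebraMap C L)) := by
  refine main P l ?_ hreg
  let e : LocalizedModule P.primeCompl C ≃ₗ[C] Localization.AtPrime P :=
    IsLocalizedModule.iso P.primeCompl (Algebra.linearMap C (Localization.AtPrime P))
  exact Module.Flat.of_linearEquiv (e.restrictScalars A)

end Main

end Groth.Agent.Lib.R2H4.RegSpread
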