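import Mathlib
import Groth.Prelude.Def_RegImm
import Groth.Agent.Lib.R2H4SyntLoc
import Groth.Agent.Lib.R2H4GCILoc

set_option autoImplicit false
universe u
open scoped TensorProduct

namespace Groth.Agent.Lib.R2H4.SyntLocal

open Groth.Agent.Lib.R2H4.SyntLoc Groth.Agent.Lib.R2H4.GCILoc

/-- Change of the base field along a bijective map: global complete intersections. -/
theorem isGlobalCI_of_bijective (k k' : Type u) [Field k] [Field k'] [Algebra k k']
    (hb : Function.Bijective (algebraMap k k')) (T : Type u) [CommRing T] [Algebra k T]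
    [Algebra k' T] [IsScalarTower k k' T] (h : Synt.IsGlobalCI k T) : Synt.IsGlobalCI k' T := by
  rcases h with h | ⟨n, c, hcn, φ, r, hφ, hker, hdim⟩
  · exact Or.inl h
  · right
    let m : MvPolynomial (Fin n) k →+* MvPolynomial (Fin n) k' := MvPolynomial.map (algebraMap k k')
    have hm : Function.Surjective m := MvPolynomial.map_surjective _ hb.2
    let φ' : MvPolynomial (Fin n) k' →ₐ[k'] T := MvPolynomial.aeval (fun i => φ (MvPolynomial.X i))
    have hcomp : φ'.toRingHom.comp m = φ.toRingHom := by
      apply MvPolynomial.ringHom_ext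
      · intro a
        simp [m, φ', ← IsScalarTower.algebraMap_apply]
      · intro i
        simp [m, φ']
    refine ⟨n, c, hcn, φ', fun i => m (r i), ?_, ?_, hdim⟩
    · intro t
      obtain ⟨x, rfl⟩ := hφ t
      exact ⟨m x, RingHom.congr_fun hcomp x⟩
    · have h1 : RingHom.ker φ.toRingHom = (RingHom.ker φ'.toRingHom).comap m := by
        rw [RingHom.comap_ker, hcomp]
      have h2 : RingHom.ker φ'.toRingHom = (RingHom.ker φ.toRingHom).map m := by
        rw [h1, Ideal.map_comap_of_surjective m hm]
      rw [h2, hker, Ideal.map_span]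
      congr 1
      ext x
      simp

/-- Change of the base field along a bijective map: local complete intersections. -/
theorem isLCIOver_of_bijective (k k' : Type u) [Field k] [Field k'] [Algebra k k']
    (hb : Function.Bijective (algebraMap k k')) (T : Type u) [CommRing T] [Algebra k T]
    [Algebra k' T] [IsScalarTower k k' T] (h : Synt.IsLCIOver k T) : Synt.IsLCIOver k' T := by
  obtain ⟨hft, hloc⟩ := h
  refine ⟨Algebra.FiniteType.of_restrictScalars_finiteType k k' T, fun p => ?_⟩
  obtain ⟨g, hg, hG⟩ := hloc p
  exact ⟨g, hg, isGlobalCI_of_bijective k k' hb _ hG⟩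

/-- Semilinear invariance of `IsLCIOver`. -/
theorem isLCIOver_of_ringEquiv (k k' : Type u) [Field k] [Field k'] (σ : k ≃+* k')
    (T T' : Type u) [CommRing T] [CommRing T'] [Algebra k T] [Algebra k' T'] (e : T ≃+* T')
    (he : ∀ c : k, e (algebraMap k T c) = algebraMap k' T' (σ c))
    (h : Synt.IsLCIOver k T) : Synt.IsLCIOver k' T' := by
  let a1 : Algebra k k' := σ.toRingHom.toAlgebra
  let a2 : Algebra k T' := ((algebraMap k' T').comp σ.toRingHom).toAlgebra
  have : IsScalarTower k k' T' := IsScalarTower.of_algebraMap_eq' rfl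
  let e' : T ≃ₐ[k] T' := AlgEquiv.ofRingEquiv (f := e) he
  have h1 : Synt.IsLCIOver k T' := isLCIOver_of_algEquiv k T T' e' h
  exact isLCIOver_of_bijective k k' σ.bijective T' h1

/-- Fibres of a base change at primes with the same residue field. -/
theorem isLCIOver_fiber_iff (R R' S S' : Type u) [CommRing R] [CommRing R'] [CommRing S]
    [CommRing S'] [Algebra R R'] [Algebra R S] [Algebra R' S'] [Algebra S S'] [Algebra R S']
    [IsScalarTower R R' S'] [IsScalarTower R S S'] [Algebra.IsPushout R R' S S']
    (p : Ideal R) [p.IsPrime] (p' : Ideal R') [p'.IsPrime]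
    (hp : p = p'.comap (algebraMap R R'))
    (hb : Function.Bijective (Ideal.ResidueField.map p p' (algebraMap R R') hp)) :
    Synt.IsLCIOver p.ResidueField (p.Fiber S) ↔ Synt.IsLCIOver p'.ResidueField (p'.Fiber S') := by
  let σR : p.ResidueField ≃ₐ[R] p'.ResidueField :=
    AlgEquiv.ofBijective (Ideal.ResidueField.mapₐ p p' (Algebra.ofId R R') hp) hb
  let e1 : p.ResidueField ⊗[R] S ≃ₐ[R] p'.ResidueField ⊗[R] S :=
    Algebra.TensorProduct.congr σR (AlgEquiv.refl : S ≃ₐ[R] S)
  let e2 : p'.ResidueField ⊗[R] S ≃ₐ[p'.ResidueField] p'.ResidueField ⊗[R'] (R' ⊗[R] S) :=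
    (Algebra.TensorProduct.cancelBaseChange R R' p'.ResidueField p'.ResidueField S).symm
  let e3 : p'.ResidueField ⊗[R'] (R' ⊗[R] S) ≃ₐ[R'] p'.ResidueField ⊗[R'] S' :=
    Algebra.TensorProduct.congr (AlgEquiv.refl : p'.ResidueField ≃ₐ[R'] p'.ResidueField)
      (Algebra.IsPushout.equiv R R' S S')
  let e : p.ResidueField ⊗[R] S ≃+* p'.ResidueField ⊗[R'] S' :=
    e1.toRingEquiv.trans (e2.toRingEquiv.trans e3.toRingEquiv)
  let σ : p.ResidueField ≃+* p'.ResidueField := σR.toRingEquiv
  have he : ∀ c : p.ResidueField, e (algebraMap _ (p.ResidueField ⊗[R] S) c) =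
      algebraMap _ (p'.ResidueField ⊗[R'] S') (σ c) := by
    intro c
    have h1 : (1 : R') ⊗ₜ[R] (1 : S) = (1 : R' ⊗[R] S) := rfl
    simp [e, e1, e2, e3, σ, Algebra.TensorProduct.algebraMap_apply, h1]
  constructor
  · exact isLCIOver_of_ringEquiv _ _ σ _ _ e he
  · refine isLCIOver_of_ringEquiv _ _ σ.symm _ _ e.symm (fun c => ?_)
    rw [RingEquiv.symm_apply_eq, he, RingEquiv.apply_symm_apply]

/-- Syntomic ring homomorphisms. -/
def Q {R S : Type u} [CommRing R] [CommRing S] (f : R →+* S) : Prop :=
  @Synt.IsSyntomic R _ S _ f.toAlgebra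

theorem Q_algebraMap (R S : Type u) [CommRing R] [CommRing S] [Algebra R S] :
    Q (algebraMap R S) ↔ Synt.IsSyntomic R S := by
  rw [Q, toAlgebra_algebraMap]

theorem Q_ofLocalizationSpanTarget : RingHom.OfLocalizationSpanTarget @Q := by
  introv R hs h
  algebraize_only [f]
  rw [← RingHom.algebraMap_toAlgebra f, Q_algebraMap]
  refine isSyntomic_of_span R S s hs (fun g hg => ?_)
  have h1 := h ⟨g, hg⟩
  have h2 : (algebraMap S (Localization.Away g)).comp f = algebraMap R (Localization.Away g) :=
    (IsScalarTower.algebraMap_eq R S (Localization.Away g)).symm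
  rw [h2, Q_algebraMap] at h1
  exact h1

theorem isSyntomic_comp_away (R S T : Type u) [CommRing R] [CommRing S] [CommRing T]
    [Algebra R S] [Algebra S T] [Algebra R T] [IsScalarTower R S T] (s : S)
    [IsLocalization.Away s T] (h : Synt.IsSyntomic R S) : Synt.IsSyntomic R T := by
  obtain ⟨hfl, hfp, hfib⟩ := h
  refine ⟨?_, ?_, fun p => ?_⟩
  · have : Module.Flat S T := IsLocalization.flat T (Submonoid.powers s)
    exact Module.Flat.trans R S T
  · have : Algebra.FinitePresentation S T := IsLocalization.Away.finitePresentation s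
    exact Algebra.FinitePresentation.trans R S T
  · have h1 : Synt.IsLCIOver p.asIdeal.ResidueField
        (Localization.Away ((1 : p.asIdeal.ResidueField) ⊗ₜ[R] s)) :=
      isLCIOver_away _ _ ((1 : p.asIdeal.ResidueField) ⊗ₜ[R] s) _ (hfib p)
    exact isLCIOver_of_algEquiv _ _ _
      (IsLocalization.Away.tensorProductEquivTMulRight R p.asIdeal.ResidueField s T).symm h1

theorem Q_stableUnderCompositionWithLocalizationAwayTarget :
    RingHom.StableUnderCompositionWithLocalizationAwayTarget @Q := by
  introv R _ hf
  algebraize_only [f]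
  let : Algebra R T := ((algebraMap S T).comp f).toAlgebra
  have : IsScalarTower R S T := IsScalarTower.of_algebraMap_eq' rfl
  rw [← RingHom.algebraMap_toAlgebra f, Q_algebraMap] at hf
  exact isSyntomic_comp_away R S T s hf

/-- Base change of a syntomic algebra along a ring map which is surjective on stalks. -/
theorem isSyntomic_baseChange (R S R' S' : Type u) [CommRing R] [CommRing S] [CommRing R']
    [CommRing S'] [Algebra R S] [Algebra R R'] [Algebra R S'] [Algebra S S'] [Algebra R' S']
    [IsScalarTower R S S'] [IsScalarTower R R' S'] [Algebra.IsPushout R S R' S']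
    (hs : (algebraMap R R').SurjectiveOnStalks) (h : Synt.IsSyntomic R S) :
    Synt.IsSyntomic R' S' := by
  obtain ⟨hfl, hfp, hfib⟩ := h
  have : Algebra.IsPushout R R' S S' := Algebra.IsPushout.symm inferInstance
  refine ⟨?_, ?_, fun p' => ?_⟩
  · exact RingHom.flat_algebraMap_iff.mp
      (RingHom.Flat.isStableUnderBaseChange R S R' S' (RingHom.flat_algebraMap_iff.mpr hfl))
  · exact RingHom.finitePresentation_algebraMap.mp
      (RingHom.finitePresentation_isStableUnderBaseChange R S R' S'
        (RingHom.finitePresentation_algebraMap.mpr hfp))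
  · have hp : (p'.asIdeal.comap (algebraMap R R')).IsPrime := Ideal.IsPrime.comap _
    exact (isLCIOver_fiber_iff R R' S S' (p'.asIdeal.comap (algebraMap R R')) p'.asIdeal rfl
      (hs.residueFieldMap_bijective _ _ rfl)).mp (hfib ⟨_, hp⟩)

theorem Q_localizationPreserves : RingHom.LocalizationPreserves @Q := by
  introv R hf
  algebraize_only [f, IsLocalization.map (S := R') S' f M.le_comap_map,
    (IsLocalization.map (S := R') S' f M.le_comap_map).comp (algebraMap R R')]
  have : IsScalarTower R S S' := IsScalarTower.of_algebraMap_eq'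
    (IsLocalization.map_comp M.le_comap_map)
  have : IsScalarTower R R' S' := IsScalarTower.of_algebraMap_eq' rfl
  have : IsLocalization (Algebra.algebraMapSubmonoid S M) S' :=
    inferInstanceAs <| IsLocalization (M.map f) S'
  have : Algebra.IsPushout R S R' S' := Algebra.isPushout_of_isLocalization M R' S S'
  rw [← RingHom.algebraMap_toAlgebra f, Q_algebraMap] at hf
  rw [← RingHom.algebraMap_toAlgebra (IsLocalization.map (S := R') S' f M.le_comap_map),
    Q_algebraMap]
  exact isSyntomic_baseChange R S R' S' (RingHom.surjectiveOnStalks_of_isLocalization M R') hf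

theorem isLCIOver_of_subsingleton (k : Type u) [Field k] (T : Type u) [CommRing T] [Algebra k T]
    [Subsingleton T] : Synt.IsLCIOver k T := by
  refine ⟨Algebra.FiniteType.of_surjective (Algebra.ofId k T)
    (fun t => ⟨0, Subsingleton.elim _ _⟩), fun p => ?_⟩
  exact absurd (Subsingleton.elim p.asIdeal ⊤) p.isPrime.ne_top

/-- Precomposition with a localization map `R → R_r`. -/
theorem isSyntomic_away_comp (R S T : Type u) [CommRing R] [CommRing S] [CommRing T]
    [Algebra R S] [Algebra S T] [Algebra R T] [IsScalarTower R S T] (r : R)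
    [IsLocalization.Away r S] (h : Synt.IsSyntomic S T) : Synt.IsSyntomic R T := by
  obtain ⟨hfl, hfp, hfib⟩ := h
  have hunit : IsUnit (algebraMap R T r) := by
    rw [IsScalarTower.algebraMap_apply R S T]
    exact (IsLocalization.Away.algebraMap_isUnit r).map _
  refine ⟨?_, ?_, fun p => ?_⟩
  · have : Module.Flat R S := IsLocalization.flat S (Submonoid.powers r)
    exact Module.Flat.trans R S T
  · have : Algebra.FinitePresentation R S := IsLocalization.Away.finitePresentation r
    exact Algebra.FinitePresentation.trans R S T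
  · by_cases hr : r ∈ p.asIdeal
    · have : Subsingleton (p.asIdeal.Fiber T) := by
        obtain ⟨u, hu⟩ := hunit.exists_right_inv
        refine subsingleton_of_zero_eq_one ?_
        have h1 : (1 : p.asIdeal.Fiber T) = (1 : p.asIdeal.ResidueField) ⊗ₜ[R] (r • u) := by
          rw [Algebra.smul_def, hu]
          rfl
        rw [h1, ← TensorProduct.smul_tmul, Algebra.smul_def, mul_one,
          Ideal.algebraMap_residueField_eq_zero.mpr hr, TensorProduct.zero_tmul]
      exact isLCIOver_of_subsingleton _ _
    · have hdisj : Disjoint (Submonoid.powers r : Set R) (p.asIdeal : Set R) := by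
        rw [Set.disjoint_left]
        rintro _ ⟨n, rfl⟩ hmem
        exact hr (p.isPrime.mem_of_pow_mem n hmem)
      have hp' : (p.asIdeal.map (algebraMap R S)).IsPrime :=
        IsLocalization.isPrime_of_isPrime_disjoint (Submonoid.powers r) _ _ p.isPrime hdisj
      have hc : p.asIdeal = (p.asIdeal.map (algebraMap R S)).comap (algebraMap R S) :=
        (IsLocalization.under_map_of_isPrime_disjoint (Submonoid.powers r) S p.isPrime hdisj).symm
      have hloc : IsLocalization (Algebra.algebraMapSubmonoid T (Submonoid.powers r)) T := by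
        refine IsLocalization.of_le_isUnit ?_
        rintro _ ⟨_, ⟨n, rfl⟩, rfl⟩
        rw [map_pow]
        exact hunit.pow n
      have h1 : Algebra.IsPushout R T S T :=
        Algebra.isPushout_of_isLocalization (Submonoid.powers r) S T T
      have h2 : Algebra.IsPushout R S T T := h1.symm
      exact (isLCIOver_fiber_iff R S T T p.asIdeal (p.asIdeal.map (algebraMap R S)) hc
        ((RingHom.surjectiveOnStalks_of_isLocalization (Submonoid.powers r) S
          ).residueFieldMap_bijective _ _ hc)).mpr (hfib ⟨_, hp'⟩)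

theorem Q_stableUnderCompositionWithLocalizationAwaySource :
    RingHom.StableUnderCompositionWithLocalizationAwaySource @Q := by
  introv R _ hf
  algebraize_only [f]
  let : Algebra R T := (f.comp (algebraMap R S)).toAlgebra
  have : IsScalarTower R S T := IsScalarTower.of_algebraMap_eq' rfl
  rw [← RingHom.algebraMap_toAlgebra f, Q_algebraMap] at hf
  exact isSyntomic_away_comp R S T r hf

theorem Q_propertyIsLocal : RingHom.PropertyIsLocal @Q where
  localizationAwayPreserves := Q_localizationPreserves.away
  ofLocalizationSpanTarget := Q_ofLocalizationSpanTarget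
  ofLocalizationSpan := Q_ofLocalizationSpanTarget.ofLocalizationSpan
    Q_stableUnderCompositionWithLocalizationAwaySource
  StableUnderCompositionWithLocalizationAwayTarget :=
    Q_stableUnderCompositionWithLocalizationAwayTarget

open AlgebraicGeometry CategoryTheory

instance : HasRingHomProperty (affineLocally @Q) @Q where
  isLocal_ringHomProperty := Q_propertyIsLocal
  eq_affineLocally' := rfl

theorem isSyntomicMor_iff_affineLocally {X S : Scheme.{u}} (f : X ⟶ S) :
    Synt.IsSyntomicMor f ↔ affineLocally @Q f := by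
  rw [HasRingHomProperty.iff_exists_appLE (P := affineLocally @Q)
    Q_stableUnderCompositionWithLocalizationAwaySource]
  refine forall_congr' (fun x => ?_)
  constructor
  · rintro ⟨U, V, e, hx, h⟩
    exact ⟨V, U, hx, e, h⟩
  · rintro ⟨V, U, hx, e, h⟩
    exact ⟨U, V, e, hx, h⟩

theorem isSyntomicMor_iff {X S : Scheme.{u}} (f : X ⟶ S) :
    Synt.IsSyntomicMor f ↔
      ∀ (U : X.affineOpens) (V : S.affineOpens) (e : U.1 ≤ f ⁻¹ᵁ V.1),
        letI := (f.appLE V.1 U.1 e).hom.toAlgebra
        Synt.IsSyntomic Γ(S, V.1) Γ(X, U.1) := by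
  rw [isSyntomicMor_iff_affineLocally, HasRingHomProperty.iff_appLE (P := affineLocally @Q)]
  constructor
  · intro h U V e
    exact h V U e
  · intro h V U e
    exact h U V e

end Groth.Agent.Lib.R2H4.SyntLocal
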