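import Mathlib
import Groth.Prelude.Def_RegImm
import Groth.Agent.Lib.R2H4SyntNhdB
import Groth.Agent.Lib.R2H4SyntLocal

/-!
# Syntomic at a point ⇔ standard syntomic on an affine neighbourhood (helper4, round 2)
-/

set_option autoImplicit false
universe u
open scoped TensorProduct

namespace Groth.Agent.Lib.R2H4.SyntStd

open Groth.Agent.Lib.R2H4.SyntNhd Groth.Agent.Lib.R2H4.SyntLocal

section Ring

variable (R S : Type u) [CommRing R] [CommRing S] [Algebra R S]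

/-- the prime of the fibre ring over a prime `q` of `S` -/
theorem exists_fibre_prime' (q : Ideal S) [hq : q.IsPrime] :
    ∃ (Q : Ideal ((q.comap (algebraMap R S)).Fiber S)) (_ : Q.IsPrime),
      Q.comap (Algebra.TensorProduct.includeRight :
        S →ₐ[R] (q.comap (algebraMap R S)).Fiber S) = q := by
  set p : PrimeSpectrum R := PrimeSpectrum.comap (algebraMap R S) ⟨q, hq⟩ with hp
  let Q : PrimeSpectrum (p.asIdeal.Fiber S) :=
    PrimeSpectrum.preimageHomeomorphFiber R S p ⟨⟨q, hq⟩, rfl⟩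
  have hQq : Q.asIdeal.comap (Algebra.TensorProduct.includeRight : S →ₐ[R] p.asIdeal.Fiber S) = q :=
    congrArg PrimeSpectrum.asIdeal
      (Groth.Agent.Lib.Helper4.FibDim.comap_includeRight_preimageHomeomorphFiber p.asIdeal
        ⟨⟨q, hq⟩, rfl⟩)
  exact ⟨Q.asIdeal, Q.2, hQq⟩

/-- a syntomic algebra is, locally around any prime, a relative global complete intersection -/
theorem exists_relGCI_nhd_of_isSyntomic (h : Synt.IsSyntomic R S) (q : Ideal S) [hq : q.IsPrime] :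
    ∃ g : S, g ∉ q ∧ ∃ (n c : ℕ) (F : Fin c → MvPolynomial (Fin n) R), Synt.IsRelGCI R n c F ∧
      Nonempty (Localization.Away g ≃ₐ[R] Synt.RelGCIRing R n c F) := by
  obtain ⟨Q, hQ, hQq⟩ := exists_fibre_prime' R S q
  have h1 : Synt.IsSyntomic R (Localization.Away (1 : S)) :=
    isSyntomic_comp_away R S (Localization.Away (1 : S)) 1 h
  have hone : (1 : S) ∉ q := fun h1 => hq.ne_top ((Ideal.eq_top_iff_one _).mpr h1)
  obtain ⟨hfp, hfl, hCI⟩ := one_imp_three R S (q.comap (algebraMap R S)) q Q hQq 1 hone h1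
  exact three_imp_two R S (q.comap (algebraMap R S)) q Q hQq 1 hone hfp hfl hCI

end Ring

open Groth.Agent.Lib.R2H4.SyntNhd Groth.Agent.Lib.R2H4.SyntLocal
open AlgebraicGeometry CategoryTheory

section Sch

variable {X S : Scheme.{u}} (f : X ⟶ S)

/-- Lemma A: a standard syntomic restriction induces a syntomic ring map. -/
theorem Q_appLE_of_isStandardSyntomic (U : X.affineOpens) (V : S.affineOpens)
    (e : U.1 ≤ f ⁻¹ᵁ V.1) (h : Synt.IsStandardSyntomic (f.resLE V.1 U.1 e)) :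
    Q (f.appLE V.1 U.1 e).hom := by
  obtain ⟨R, _, n, c, F, hrel, e₁, e₂, hcomm⟩ := h
  have h1 : Q (algebraMap R (Synt.RelGCIRing R n c F)) :=
    (Q_algebraMap _ _).mpr (Groth.Agent.Lib.R2H4.RelGCIFlat.isSyntomic_relGCI R n c F hrel)
  have h2 : affineLocally @Q
      (Spec.map (CommRingCat.ofHom (algebraMap R (Synt.RelGCIRing R n c F)))) :=
    (HasRingHomProperty.Spec_iff (P := affineLocally @Q)).mpr h1
  have i1 : Arrow.mk (f.resLE V.1 U.1 e) ≅
      Arrow.mk (Spec.map (CommRingCat.ofHom (algebraMap R (Synt.RelGCIRing R n c F)))) :=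
    Arrow.isoMk e₁ e₂ hcomm
  have h3 : affineLocally @Q (f.resLE V.1 U.1 e) :=
    ((affineLocally @Q).arrow_mk_iso_iff i1).mpr h2
  have i2 : Arrow.mk (f.resLE V.1 U.1 e) ≅ Arrow.mk (Spec.map (f.appLE V.1 U.1 e)) :=
    Arrow.isoMk U.2.isoSpec V.2.isoSpec (Scheme.Opens.toSpecΓ_SpecMap_appLE f V.1 U.1 e)
  have h4 : affineLocally @Q (Spec.map (f.appLE V.1 U.1 e)) :=
    ((affineLocally @Q).arrow_mk_iso_iff i2).mp h3
  exact (HasRingHomProperty.Spec_iff (P := affineLocally @Q)).mp h4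

/-- Lemma B: an algebra isomorphism with a relative global complete intersection makes the
restriction standard syntomic. -/
theorem isStandardSyntomic_resLE (U : X.affineOpens) (V : S.affineOpens) (e : U.1 ≤ f ⁻¹ᵁ V.1)
    (n c : ℕ) (F : Fin c → MvPolynomial (Fin n) Γ(S, V.1))
    (hrel : Synt.IsRelGCI Γ(S, V.1) n c F)
    (ε : letI := (f.appLE V.1 U.1 e).hom.toAlgebra
      Γ(X, U.1) ≃ₐ[Γ(S, V.1)] Synt.RelGCIRing Γ(S, V.1) n c F) :
    Synt.IsStandardSyntomic (f.resLE V.1 U.1 e) := by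
  letI alg : Algebra Γ(S, V.1) Γ(X, U.1) := (f.appLE V.1 U.1 e).hom.toAlgebra
  let T : CommRingCat.{u} := CommRingCat.of (Synt.RelGCIRing Γ(S, V.1) n c F)
  let i : T ≅ Γ(X, U.1) := (RingEquiv.toCommRingCatIso ε.toRingEquiv).symm
  let e₁ : (U.1 : Scheme.{u}) ≅ Spec T := U.2.isoSpec ≪≫ Scheme.Spec.mapIso i.op
  refine ⟨Γ(S, V.1), inferInstance, n, c, F, hrel, e₁, V.2.isoSpec, ?_⟩
  have h1 : CommRingCat.ofHom (algebraMap Γ(S, V.1) (Synt.RelGCIRing Γ(S, V.1) n c F)) ≫ i.hom =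
      f.appLE V.1 U.1 e := by
    ext a
    change ε.symm (algebraMap Γ(S, V.1) (Synt.RelGCIRing Γ(S, V.1) n c F) a) = _
    rw [ε.symm.commutes]
    rfl
  change (U.2.isoSpec.hom ≫ Spec.map i.hom) ≫ Spec.map (CommRingCat.ofHom
    (algebraMap Γ(S, V.1) (Synt.RelGCIRing Γ(S, V.1) n c F))) = _
  rw [Category.assoc, ← Spec.map_comp, h1]
  exact Scheme.Opens.toSpecΓ_SpecMap_appLE f V.1 U.1 e

/-- membership in a basic open in terms of the prime ideal of the point -/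
theorem mem_basicOpen_iff_not_mem_primeIdealOf {W : X.Opens} (hW : IsAffineOpen W) (x : X)
    (hx : x ∈ W) (g : Γ(X, W)) :
    x ∈ X.basicOpen g ↔ g ∉ (hW.primeIdealOf ⟨x, hx⟩).asIdeal := by
  have h1 := hW.fromSpec_primeIdealOf ⟨x, hx⟩
  have h2 := hW.fromSpec_preimage_basicOpen g
  constructor
  · intro hxg
    have : hW.primeIdealOf ⟨x, hx⟩ ∈ hW.fromSpec ⁻¹ᵁ X.basicOpen g := by
      change hW.fromSpec (hW.primeIdealOf ⟨x, hx⟩) ∈ X.basicOpen g
      rw [h1]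
      exact hxg
    rw [h2] at this
    exact this
  · intro hg
    have : hW.primeIdealOf ⟨x, hx⟩ ∈ hW.fromSpec ⁻¹ᵁ X.basicOpen g := by
      rw [h2]
      exact hg
    have h3 : hW.fromSpec (hW.primeIdealOf ⟨x, hx⟩) ∈ X.basicOpen g := this
    rw [h1] at h3
    exact h3

/-- Lemma C: a syntomic ring map on affine opens is, near any point, a relative global complete
intersection. -/
theorem exists_basicOpen_relGCI (W : X.affineOpens) (V : S.affineOpens) (e : W.1 ≤ f ⁻¹ᵁ V.1)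
    (h : Q (f.appLE V.1 W.1 e).hom) (x : X) (hx : x ∈ W.1) :
    ∃ g : Γ(X, W.1), x ∈ X.basicOpen g ∧ ∃ (n c : ℕ)
      (F : Fin c → MvPolynomial (Fin n) Γ(S, V.1)), Synt.IsRelGCI Γ(S, V.1) n c F ∧
      letI := (f.appLE V.1 (X.basicOpen g) ((X.basicOpen_le g).trans e)).hom.toAlgebra
      Nonempty (Γ(X, X.basicOpen g) ≃ₐ[Γ(S, V.1)] Synt.RelGCIRing Γ(S, V.1) n c F) := by
  letI alg : Algebra Γ(S, V.1) Γ(X, W.1) := (f.appLE V.1 W.1 e).hom.toAlgebra
  have hs : Synt.IsSyntomic Γ(S, V.1) Γ(X, W.1) := h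
  obtain ⟨g, hgq, n, c, F, hrel, ⟨ε⟩⟩ := exists_relGCI_nhd_of_isSyntomic Γ(S, V.1) Γ(X, W.1) hs
    (W.2.primeIdealOf ⟨x, hx⟩).asIdeal
  refine ⟨g, (mem_basicOpen_iff_not_mem_primeIdealOf W.2 x hx g).mpr hgq, n, c, F, hrel, ?_⟩
  letI alg2 : Algebra Γ(S, V.1) Γ(X, X.basicOpen g) :=
    (f.appLE V.1 (X.basicOpen g) ((X.basicOpen_le g).trans e)).hom.toAlgebra
  haveI : IsScalarTower Γ(S, V.1) Γ(X, W.1) Γ(X, X.basicOpen g) :=
    IsScalarTower.of_algebraMap_eq fun a => by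
      change (f.appLE V.1 (X.basicOpen g) ((X.basicOpen_le g).trans e)).hom a =
        (X.presheaf.map (homOfLE (X.basicOpen_le g)).op).hom ((f.appLE V.1 W.1 e).hom a)
      rw [← f.appLE_map e (homOfLE (X.basicOpen_le g)).op]
      rfl
  haveI : IsLocalization.Away g Γ(X, X.basicOpen g) := W.2.isLocalization_basicOpen g
  let ε' : Γ(X, X.basicOpen g) ≃ₐ[Γ(X, W.1)] Localization.Away g :=
    IsLocalization.algEquiv (Submonoid.powers g) _ _
  exact ⟨(ε'.restrictScalars Γ(S, V.1)).trans ε⟩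

theorem main9364 (x : X) (V : S.affineOpens) (hV : f.base x ∈ V.1) :
    Synt.IsSyntomicAt f x ↔
      ∃ (U : X.affineOpens) (e : U.1 ≤ f ⁻¹ᵁ V.1), x ∈ U.1 ∧
        Synt.IsStandardSyntomic (f.resLE V.1 U.1 e) := by
  constructor
  · rintro ⟨U₂, V₂, e₂, hx₂, h₂⟩
    have h₂' : Q (f.appLE V₂.1 U₂.1 e₂).hom := h₂
    obtain ⟨r, s, hxs, ers, hQ⟩ := exists_basicOpen_le_appLE_of_appLE_of_isAffine
      Q_stableUnderCompositionWithLocalizationAwayTarget Q_localizationPreserves.away x V V₂ U₂ U₂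
      hx₂ hx₂ e₂ h₂' hV
    let W : X.affineOpens := ⟨X.basicOpen s, U₂.2.basicOpen s⟩
    have eW : W.1 ≤ f ⁻¹ᵁ V.1 := ers.trans (f.preimage_mono (S.basicOpen_le r))
    have hQW : Q (f.appLE V.1 W.1 eW).hom := by
      have h1 : f.appLE V.1 W.1 eW =
          S.presheaf.map (homOfLE (S.basicOpen_le r)).op ≫ f.appLE (S.basicOpen r) W.1 ers :=
        (f.map_appLE ers (homOfLE (S.basicOpen_le r)).op).symm
      rw [h1]
      haveI : IsLocalization.Away r Γ(S, S.basicOpen r) := V.2.isLocalization_basicOpen r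
      exact Q_stableUnderCompositionWithLocalizationAwaySource Γ(S, S.basicOpen r) r _ hQ
    obtain ⟨g, hxg, n, c, F, hrel, ⟨ε⟩⟩ := exists_basicOpen_relGCI f W V eW hQW x hxs
    let U : X.affineOpens := ⟨X.basicOpen g, W.2.basicOpen g⟩
    exact ⟨U, (X.basicOpen_le g).trans eW, hxg,
      isStandardSyntomic_resLE f U V ((X.basicOpen_le g).trans eW) n c F hrel ε⟩
  · rintro ⟨U, e, hx, h⟩
    exact ⟨U, V, e, hx, Q_appLE_of_isStandardSyntomic f U V e h⟩

end Sch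

end Groth.Agent.Lib.R2H4.SyntStd
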