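import Mathlib
import Groth.Prelude.Def_RegImm
import Groth.Agent.Lib.R2H4SyntNhdA
import Groth.Agent.Lib.R2H4RegSpread
import Groth.Agent.Lib.Helper28FlatNormal
import Groth.Agent.Lib.R2H4CIFieldA
import Groth.Agent.Lib.R2H4RelGCIFlat
import Groth.Agent.Lib.H9FibGeomRk
import Groth.Agent.Lib.H9RelRegBC
import Groth.Agent.Lib.H9RegImmStalk
import Groth.Agent.Lib.H9QRegNoeth
import Groth.Agent.Lib.R2H4SyntStd
import Groth.Agent.S5802

/-!
# Fibrewise quasi-regular closed subschemes of flat lfp schemes are regularly immersed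
(helper4, round 2)

* `isRegular_of_units`: scaling a regular sequence by units.
* `dataB'`: `SyntNhd.dataB` without regularity of the ambient fibre local ring.
* `main_ideal`, `main_ideal'`: ring form (via `R2H4RegSpread.main'`).
* `exists_fiberStalk_equiv`: the local ring of the scheme-theoretic fibre `f.fiber y` at `z` is the
  fibre local ring `EGA4.FibLocRing Γ(Y,V) Γ(X,U) q` of a chart, compatibly with the maps from
  `Γ(X,U)` (extracted from helper9's `SemiInv.fiber_ring_stalk_iff`).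
* `ker_stalkMap_eq_map`, `isRegularImmersion_of_fibrewise`, `main8896` (= S8896).
-/

set_option autoImplicit false
set_option linter.style.haveILetI false
universe u
open scoped TensorProduct

namespace Groth.Agent.Lib.R2H4.FibreQReg

section Part1


open IsLocalRing RingTheory.Sequence
open Groth.Agent.Lib.R2H4.SyntNhd

section Units

variable {C : Type u} [CommRing C]

/-- scaling the members of a regular sequence by units keeps it regular -/
theorem isRegular_of_units (rs L : List C) (hlen : rs.length = L.length)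
    (h : ∀ i : Fin rs.length, ∃ u : C, IsUnit u ∧ rs.get i * u = L.get (Fin.cast hlen i))
    (hreg : IsRegular C rs) : IsRegular C L := by
  have hideal : ∀ k : ℕ, Ideal.ofList (L.take k) = Ideal.ofList (rs.take k) := by
    intro k
    apply le_antisymm
    · rw [Ideal.ofList, Ideal.span_le]
      intro x hx
      obtain ⟨j, hj, rfl⟩ := List.mem_take_iff_getElem.mp hx
      have hj' : j < rs.length := by
        have := (lt_min_iff.mp hj).2
        omega
      obtain ⟨u, hu, hru⟩ := h ⟨j, hj'⟩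
      have : L[j] = rs[j] * u := by
        simpa using hru.symm
      rw [this]
      refine Ideal.mul_mem_right _ _ (Ideal.subset_span ?_)
      exact List.mem_take_iff_getElem.mpr ⟨j, lt_min_iff.mpr ⟨(lt_min_iff.mp hj).1, hj'⟩, rfl⟩
    · rw [Ideal.ofList, Ideal.span_le]
      intro x hx
      obtain ⟨j, hj, rfl⟩ := List.mem_take_iff_getElem.mp hx
      have hj' : j < rs.length := (lt_min_iff.mp hj).2
      obtain ⟨u, hu, hru⟩ := h ⟨j, hj'⟩
      have hL : j < L.length := by omega
      have h1 : L[j] = rs[j] * u := by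
        simpa using hru.symm
      have : rs[j] = L[j] * ↑hu.unit⁻¹ := by
        rw [h1, mul_assoc, IsUnit.mul_val_inv, mul_one]
      rw [this]
      refine Ideal.mul_mem_right _ _ (Ideal.subset_span ?_)
      exact List.mem_take_iff_getElem.mpr ⟨j, lt_min_iff.mpr ⟨(lt_min_iff.mp hj).1, hL⟩, rfl⟩
  refine ⟨⟨fun i hi => ?_⟩, ?_⟩
  · have hi' : i < rs.length := by omega
    obtain ⟨u, hu, hru⟩ := h ⟨i, hi'⟩
    have h1 : L[i] = rs[i] * u := by
      simpa using hru.symm
    have h2 := hreg.toIsWeaklyRegular.regular_mod_prev i hi'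
    rw [hideal i, h1]
    exact h2.mul (hu.isSMulRegular _)
  · have h1 := hideal L.length
    have h2 := hreg.top_ne_smul
    rw [List.take_length] at h1
    rw [h1, ← hlen, List.take_length]
    exact h2

end Units

section DataB

variable {R P : Type u} [CommRing R] [CommRing P] [Algebra R P]

/-- **Data (B), without regularity of the ambient fibre local ring.** -/
theorem dataB' (I : Ideal P) (hfg : I.FG) (q : Ideal P) [hq : q.IsPrime]
    (hflat : Module.Flat R
      (Localization.AtPrime q ⧸ I.map (algebraMap P (Localization.AtPrime q))))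
    (rs : List (EGA4.FibLocRing R P q)) (hreg : IsRegular (EGA4.FibLocRing R P q) rs)
    (hrs : Ideal.ofList rs = I.map (algebraMap P (EGA4.FibLocRing R P q))) :
    ∃ (c : ℕ) (F : Fin c → P) (g : P), (∀ i, F i ∈ I) ∧ g ∉ q ∧
      (∀ a ∈ I, g * a ∈ Ideal.span (Set.range F)) ∧
      IsRegular (EGA4.FibLocRing R P q)
        ((List.ofFn F).map (algebraMap P (EGA4.FibLocRing R P q))) := by
  classical
  let B := Localization.AtPrime q
  let C := EGA4.FibLocRing R P q
  set 𝔭 : Ideal B := (q.comap (algebraMap R P)).map (algebraMap R B) with h𝔭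
  have hmk : Function.Surjective (Ideal.Quotient.mk 𝔭) := Ideal.Quotient.mk_surjective
  have halg : ∀ x : P, algebraMap P C x = Ideal.Quotient.mk 𝔭 (algebraMap P B x) := fun x => rfl
  have hmapC : ∀ K : Ideal P, K.map (algebraMap P C) =
      (K.map (algebraMap P B)).map (Ideal.Quotient.mk 𝔭) := by
    intro K
    rw [Ideal.map_map]
    rfl
  -- lifting the generators
  have hlift : ∀ i : Fin rs.length, ∃ y ∈ I, ∃ s : q.primeCompl,
      rs.get i * algebraMap P C s = algebraMap P C y := by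
    intro i
    have hmem : rs.get i ∈ (I.map (algebraMap P B)).map (Ideal.Quotient.mk 𝔭) := by
      rw [← hmapC, ← hrs]
      exact Ideal.subset_span (List.get_mem _ _)
    obtain ⟨b, hb, hbi⟩ := (Ideal.mem_map_iff_of_surjective _ hmk).mp hmem
    obtain ⟨⟨⟨y, hy⟩, s⟩, hys⟩ := (IsLocalization.mem_map_algebraMap_iff q.primeCompl _).mp hb
    refine ⟨y, hy, s, ?_⟩
    rw [halg, halg, ← hbi, ← map_mul]
    congr 1
  choose F hFI sF hF using hlift
  set K : Ideal P := Ideal.span (Set.range F) with hK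
  have hKI : K ≤ I := by
    rw [hK, Ideal.span_le]
    rintro _ ⟨i, rfl⟩
    exact hFI i
  set L : List C := (List.ofFn F).map (algebraMap P C) with hL
  have hLK : Ideal.ofList L = K.map (algebraMap P C) := by
    rw [hL, ← Ideal.map_ofList, Groth.Agent.Lib.R2H4.RelGCIFlat.ofList_ofFn]
  have hunit : ∀ s : q.primeCompl, IsUnit (algebraMap P C s) := by
    intro s
    rw [halg]
    exact (IsLocalization.map_units B s).map _
  have hLrs : Ideal.ofList L = Ideal.ofList rs := by
    rw [hLK]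
    apply le_antisymm
    · rw [Ideal.map_le_iff_le_comap, hK, Ideal.span_le]
      rintro _ ⟨i, rfl⟩
      change algebraMap _ _ (F i) ∈ Ideal.ofList rs
      rw [← hF i]
      exact Ideal.mul_mem_right _ _ (Ideal.subset_span (List.get_mem _ _))
    · unfold Ideal.ofList
      rw [Ideal.span_le]
      intro r hr
      obtain ⟨i, rfl⟩ := List.mem_iff_get.mp hr
      have hu := hunit (sF i)
      have h1 : rs.get i = algebraMap P C (F i) * ↑hu.unit⁻¹ := by
        rw [← hF i, mul_assoc, IsUnit.mul_val_inv, mul_one]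
      change rs.get i ∈ _
      rw [h1]
      exact Ideal.mul_mem_right _ _ (Ideal.mem_map_of_mem _ (Ideal.subset_span ⟨i, rfl⟩))
  have hLlen : L.length = rs.length := by
    rw [hL, List.length_map, List.length_ofFn]
  haveI : IsLocalRing C := Groth.Agent.Lib.Helper28.isLocalRing_fibLocRing (A := R) q
  have hne : Ideal.ofList rs ≠ ⊤ := by
    intro htop
    apply hreg.top_ne_smul
    rw [htop, smul_eq_mul, Ideal.mul_top]
  have hmemL : ∀ x ∈ L, x ∈ maximalIdeal C := by
    intro x hx
    have : x ∈ Ideal.ofList rs := by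
      rw [← hLrs]
      exact Ideal.subset_span hx
    exact IsLocalRing.le_maximalIdeal hne this
  have hregL : IsRegular C L := by
    refine isRegular_of_units rs L hLlen.symm ?_ hreg
    intro i
    refine ⟨algebraMap P C (sF i), hunit (sF i), ?_⟩
    rw [hF i]
    simp only [hL, List.get_eq_getElem, List.getElem_map, List.getElem_ofFn, Fin.coe_cast]
  -- Nakayama
  have h𝔭m : (q.comap (algebraMap R P)).map (algebraMap R B) ≤ maximalIdeal B := by
    rw [Ideal.map_le_iff_le_comap]
    intro r hr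
    rw [Ideal.mem_comap, IsScalarTower.algebraMap_apply R P B,
      ← Localization.AtPrime.map_eq_maximalIdeal]
    exact Ideal.mem_map_of_mem _ hr
  have hle : I.map (algebraMap P B) ≤ K.map (algebraMap P B) ⊔
      (q.comap (algebraMap R P)).map (algebraMap R B) := by
    have h1 : (I.map (algebraMap P B)).map (Ideal.Quotient.mk 𝔭) =
        (K.map (algebraMap P B)).map (Ideal.Quotient.mk 𝔭) := by
      rw [← hmapC, ← hmapC, ← hrs, ← hLrs, hLK]
    have h2 := Ideal.comap_map_of_surjective (Ideal.Quotient.mk 𝔭) hmk (K.map (algebraMap P B))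
    rw [← h1, ← RingHom.ker_eq_comap_bot, Ideal.mk_ker] at h2
    rw [← h2]
    exact Ideal.le_comap_map
  have heq := eq_of_flat_of_le_sup (R := R) (I.map (algebraMap P B)) (K.map (algebraMap P B))
    (Ideal.map_mono hKI) (hfg.map _) (q.comap (algebraMap R P)) h𝔭m hle
  obtain ⟨g, hgq, hg⟩ := exists_mul_mem_of_fg q I K hfg heq.le
  exact ⟨rs.length, F, g, hFI, hgq, hg, hregL⟩


end DataB

section MainIdeal

/-- **Ring form**: if the kernel `I` of a surjection `φ : B ↠ C` of `A`-algebras (`B` flat and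
finitely presented, `I` finitely generated, `C` flat at `q`) generates in the fibre local ring of
`B` at `φ⁻¹ q` an ideal generated by a regular sequence, then `I` is generated by a regular
sequence on a basic open neighbourhood of `φ⁻¹ q`. -/
theorem main_ideal (A B C : Type u) [CommRing A] [CommRing B] [CommRing C] [Algebra A B]
    [Algebra A C] [Algebra.FinitePresentation A B] [Module.Flat A B]
    (φ : B →ₐ[A] C) (hφ : Function.Surjective φ) (hfg : (RingHom.ker φ.toRingHom).FG)
    (q : Ideal C) [q.IsPrime] (hflat : Module.Flat A (Localization.AtPrime q))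
    (rs : List (EGA4.FibLocRing A B (q.comap φ.toRingHom)))
    (hreg : IsRegular (EGA4.FibLocRing A B (q.comap φ.toRingHom)) rs)
    (hrs : Ideal.ofList rs = (RingHom.ker φ.toRingHom).map
      (algebraMap B (EGA4.FibLocRing A B (q.comap φ.toRingHom)))) :
    ∃ g : B, g ∉ q.comap φ.toRingHom ∧ ∃ l : List B,
      ∀ (L : Type u) [CommRing L] [Algebra B L] [IsLocalization.Away g L],
        IsRegular L (l.map (algebraMap B L)) ∧
        (RingHom.ker φ.toRingHom).map (algebraMap B L) = Ideal.ofList (l.map (algebraMap B L)) := by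
  classical
  set I : Ideal B := RingHom.ker φ.toRingHom with hI
  set q' : Ideal B := q.comap φ.toRingHom with hq'
  let Bq := Localization.AtPrime q'
  let π₀ : Bq →+* Localization.AtPrime q := Localization.localRingHom q' q φ.toRingHom rfl
  have hπ₀ : Function.Surjective π₀ :=
    RingHom.surjective_localRingHom_of_surjective φ.toRingHom hφ q
  have hkerI : RingHom.ker π₀ = I.map (algebraMap B Bq) := by
    rw [hI]
    exact Groth.Agent.Lib.R2H4.CIField.ker_localRingHom φ.toRingHom hφ q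
  have hcomm : ∀ x : A, π₀ (algebraMap A Bq x) = algebraMap A (Localization.AtPrime q) x := by
    intro x
    rw [IsScalarTower.algebraMap_apply A B Bq, Localization.localRingHom_to_map,
      IsScalarTower.algebraMap_apply A C (Localization.AtPrime q)]
    congr 1
    exact φ.commutes x
  let π : Bq →ₐ[A] Localization.AtPrime q := { π₀ with commutes' := hcomm }
  have hπ : Function.Surjective π := hπ₀
  have hflat' : Module.Flat A (Bq ⧸ I.map (algebraMap B Bq)) := by
    have e1 : (Bq ⧸ RingHom.ker π.toRingHom) ≃ₐ[A] Localization.AtPrime q :=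
      Ideal.quotientKerAlgEquivOfSurjective hπ
    have hk : RingHom.ker π.toRingHom = I.map (algebraMap B Bq) := hkerI
    have e2 : (Bq ⧸ RingHom.ker π.toRingHom) ≃ₐ[A] (Bq ⧸ I.map (algebraMap B Bq)) :=
      Ideal.quotientEquivAlgOfEq A hk
    exact Module.Flat.of_linearEquiv (e2.symm.trans e1).toLinearEquiv
  obtain ⟨c, F, g, hFI, hgq, hgI, hregF⟩ := dataB' (R := A) I hfg q' hflat' rs hreg hrs
  have hflatB : Module.Flat A (Localization.AtPrime q') := by
    haveI : Module.Flat B (Localization.AtPrime q') := IsLocalization.flat _ q'.primeCompl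
    exact Module.Flat.trans A B _
  obtain ⟨c', hc', hW⟩ := Groth.Agent.Lib.R2H4.RegSpread.main' (A := A) q' (List.ofFn F) hflatB hregF
  have hcg : c' * g ∉ q' := by
    intro hmem
    rcases (Ideal.IsPrime.mem_or_mem inferInstance hmem) with h | h
    · exact hc' h
    · exact hgq h
  refine ⟨c' * g, hcg, List.ofFn F, ?_⟩
  · intro L _ _ _
    have hW' := hW g L
    have hideal : I.map (algebraMap B L) =
        Ideal.ofList ((List.ofFn F).map (algebraMap B L)) := by
      rw [← Ideal.map_ofList]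
      apply le_antisymm
      · rw [Ideal.map_le_iff_le_comap]
        intro a ha
        rw [Ideal.mem_comap]
        have h1 : g * a ∈ Ideal.ofList (List.ofFn F) := by
          have := hgI a ha
          rwa [← Groth.Agent.Lib.R2H4.RelGCIFlat.ofList_ofFn] at this
        have h2 : algebraMap B L g * algebraMap B L a ∈
            (Ideal.ofList (List.ofFn F)).map (algebraMap B L) := by
          rw [← map_mul]
          exact Ideal.mem_map_of_mem _ h1
        have hu : IsUnit (algebraMap B L g) := by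
          have h3 : IsUnit (algebraMap B L (c' * g)) :=
            IsLocalization.map_units L (⟨c' * g, 1, pow_one _⟩ : Submonoid.powers (c' * g))
          rw [map_mul] at h3
          exact isUnit_of_mul_isUnit_right h3
        exact (Ideal.unit_mul_mem_iff_mem _ hu).mp h2
      · apply Ideal.map_mono
        rw [Ideal.ofList, Ideal.span_le]
        intro x hx
        obtain ⟨j, rfl⟩ := (List.mem_ofFn' F x).mp hx
        exact hFI j
    refine ⟨⟨hW', ?_⟩, hideal⟩
    rw [smul_eq_mul, Ideal.mul_top, ← hideal]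
    intro htop
    have hle : I.map (algebraMap B L) ≤ q'.map (algebraMap B L) := by
      apply Ideal.map_mono
      intro x hx
      rw [hq', Ideal.mem_comap, (RingHom.mem_ker).mp hx]
      exact q.zero_mem
    have h4 : q'.map (algebraMap B L) = ⊤ := top_le_iff.mp (htop ▸ hle)
    have hdisj : Disjoint (Submonoid.powers (c' * g) : Set B) (q' : Set B) := by
      rw [Set.disjoint_left]
      rintro x ⟨n, rfl⟩ hx
      exact hcg (Ideal.IsPrime.mem_of_pow_mem inferInstance n hx)
    exact (IsLocalization.map_algebraMap_ne_top_iff_disjoint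
      (Submonoid.powers (c' * g)) L q').mpr hdisj h4

end MainIdeal


end Part1

section Part2


open AlgebraicGeometry CategoryTheory Limits IsLocalRing TensorProduct Topology
open Groth.Agent.Lib.Helper28 Groth.Agent.Lib.H9ModFibSch
open Groth.Agent.Lib.Helper2.FlatOver

section Dict

variable {X Y : Scheme.{u}} (f : X ⟶ Y) {U : X.Opens} (hU : IsAffineOpen U)
  {V : Y.Opens} (hV : IsAffineOpen V) (e : U ≤ f ⁻¹ᵁ V)

include hV in
/-- **The local ring of the scheme-theoretic fibre is the fibre local ring of a chart**, compatibly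
with the maps from the coordinate ring of the chart. -/
theorem exists_fiberStalk_equiv (y : Y) (z : f.fiber y) (hzU : f.fiberι y z ∈ U) :
    letI : Algebra Γ(Y, V) Γ(X, U) := (f.appLE V U e).hom.toAlgebra
    ∃ eR : (f.fiber y).presheaf.stalk z ≃+*
        EGA4.FibLocRing Γ(Y, V) Γ(X, U) (hU.primeIdealOf ⟨f.fiberι y z, hzU⟩).asIdeal,
      ∀ b : Γ(X, U), eR (((f.fiberι y).stalkMap z).hom
        ((X.presheaf.germ U (f.fiberι y z) hzU).hom b)) =
          algebraMap Γ(X, U) (EGA4.FibLocRing Γ(Y, V) Γ(X, U)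
            (hU.primeIdealOf ⟨f.fiberι y z, hzU⟩).asIdeal) b := by
  letI aVU : Algebra Γ(Y, V) Γ(X, U) := (f.appLE V U e).hom.toAlgebra
  set x' : X := f.fiberι y z with hx'
  set q : Ideal Γ(X, U) := (hU.primeIdealOf ⟨x', hzU⟩).asIdeal with hq
  letI aBS : Algebra Γ(X, U) (X.presheaf.stalk x') :=
    TopCat.Presheaf.algebra_section_stalk X.presheaf ⟨x', hzU⟩
  haveI hlocS : IsLocalization.AtPrime (X.presheaf.stalk x') q := hU.isLocalization_stalk ⟨x', hzU⟩
  letI aSR : Algebra (X.presheaf.stalk x') ((f.fiber y).presheaf.stalk z) :=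
    ((f.fiberι y).stalkMap z).hom.toAlgebra
  letI aBR : Algebra Γ(X, U) ((f.fiber y).presheaf.stalk z) :=
    ((algebraMap (X.presheaf.stalk x') ((f.fiber y).presheaf.stalk z)).comp
      (algebraMap Γ(X, U) (X.presheaf.stalk x'))).toAlgebra
  haveI tBSR : IsScalarTower Γ(X, U) (X.presheaf.stalk x') ((f.fiber y).presheaf.stalk z) :=
    .of_algebraMap_eq' rfl
  have hsurj : Function.Surjective (algebraMap (X.presheaf.stalk x')
      ((f.fiber y).presheaf.stalk z)) := (f.fiberι y).stalkMap_surjective z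
  have hker : RingHom.ker (algebraMap (X.presheaf.stalk x') ((f.fiber y).presheaf.stalk z)) =
      ((q.comap (algebraMap Γ(Y, V) Γ(X, U))).map (algebraMap Γ(Y, V) Γ(X, U))).map
        (algebraMap Γ(X, U) (X.presheaf.stalk x')) := by
    have h0 : RingHom.ker (algebraMap (X.presheaf.stalk x') ((f.fiber y).presheaf.stalk z)) =
        RingHom.ker ((f.fiberι y).stalkMap z).hom := rfl
    rw [h0, ker_stalkMap_fiberι f y z]
    letI aAS : Algebra Γ(Y, V) (Y.presheaf.stalk (f x')) :=
      TopCat.Presheaf.algebra_section_stalk Y.presheaf ⟨f x', e hzU⟩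
    haveI := hV.isLocalization_stalk ⟨f x', e hzU⟩
    have hp : q.comap (algebraMap Γ(Y, V) Γ(X, U)) =
        (hV.primeIdealOf ⟨f x', e hzU⟩).asIdeal := by
      have h1 := IsAffineOpen.comap_primeIdealOf_appLE (f := f) V hV U hU e hzU
      have := congrArg PrimeSpectrum.asIdeal h1
      rw [PrimeSpectrum.comap_asIdeal] at this
      exact this
    rw [hp, ← IsLocalization.AtPrime.map_eq_maximalIdeal
      (hV.primeIdealOf ⟨f x', e hzU⟩).asIdeal (Y.presheaf.stalk (f x')), Ideal.map_map,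
      Ideal.map_map]
    congr 1
    ext a
    exact stalkMap_germ_eq f e x' hzU a
  obtain ⟨eR⟩ := nonempty_algEquiv_fibLocRing (A := Γ(Y, V)) q (X.presheaf.stalk x')
    ((f.fiber y).presheaf.stalk z) hsurj hker
  refine ⟨eR.toRingEquiv, fun b => ?_⟩
  exact eR.commutes b

end Dict


end Part2

section Part3
open CategoryTheory CategoryTheory.Limits AlgebraicGeometry TopologicalSpace


open IsLocalRing RingTheory.Sequence

section Sch

/-- variant of `main_ideal` with the prime of `B` given separately -/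
theorem main_ideal' (A B C : Type u) [CommRing A] [CommRing B] [CommRing C] [Algebra A B]
    [Algebra A C] [Algebra.FinitePresentation A B] [Module.Flat A B]
    (φ : B →ₐ[A] C) (hφ : Function.Surjective φ) (hfg : (RingHom.ker φ.toRingHom).FG)
    (q : Ideal C) [q.IsPrime] (hflat : Module.Flat A (Localization.AtPrime q))
    (q' : Ideal B) [q'.IsPrime] (hq' : q.comap φ.toRingHom = q')
    (rs : List (EGA4.FibLocRing A B q'))
    (hreg : IsRegular (EGA4.FibLocRing A B q') rs)
    (hrs : Ideal.ofList rs = (RingHom.ker φ.toRingHom).map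
      (algebraMap B (EGA4.FibLocRing A B q'))) :
    ∃ g : B, g ∉ q' ∧ ∃ l : List B,
      ∀ (L : Type u) [CommRing L] [Algebra B L] [IsLocalization.Away g L],
        IsRegular L (l.map (algebraMap B L)) ∧
        (RingHom.ker φ.toRingHom).map (algebraMap B L) = Ideal.ofList (l.map (algebraMap B L)) := by
  subst hq'
  exact main_ideal A B C φ hφ hfg q hflat rs hreg hrs

/-- kernel of the stalk map of a morphism that is a closed immersion over an affine open -/
theorem ker_stalkMap_eq_map {Z X : Scheme.{u}} (i : Z ⟶ X) (z : Z) (U : X.Opens)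
    (hU : IsAffineOpen U) (hz : i z ∈ U) (hcl : IsClosedImmersion (i ∣_ U)) :
    RingHom.ker (i.stalkMap z).hom =
      (RingHom.ker (i.app U).hom).map (X.presheaf.germ U (i z) hz).hom := by
  have : IsAffine U.toScheme := hU
  have := hcl
  have hU' : IsAffineOpen (i ⁻¹ᵁ U) := isAffine_of_isAffineHom (i ∣_ U)
  have hsurj := Groth.Agent.Lib.H9RegImmStalk.app_surjective_of_restrict i U
  have hsq : ∀ a, (Z.presheaf.germ (i ⁻¹ᵁ U) z hz).hom ((i.app U).hom a)
      = (i.stalkMap z).hom ((X.presheaf.germ U (i z) hz).hom a) := fun a =>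
    (i.germ_stalkMap_apply U z hz a).symm
  exact Groth.Agent.Lib.Helper5.StalkSpec.ker_eq_map_of_isLocalization
    (X.presheaf.germ U (i z) hz).hom (Z.presheaf.germ (i ⁻¹ᵁ U) z hz).hom (i.app U).hom
    (i.stalkMap z).hom hsq hsurj _ (hU.isLocalization_stalk ⟨i z, hz⟩) _
    (hU'.isLocalization_stalk ⟨z, hz⟩)

/-- **A closed subscheme of a flat lfp `S`-scheme which is flat lfp over `S` and whose fibres are
quasi-regularly immersed is a regular immersion.** -/
theorem isRegularImmersion_of_fibrewise {T X S : Scheme.{u}} (φ : X ⟶ S) [Flat φ]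
    [LocallyOfFinitePresentation φ] (ι : T ⟶ X) [IsClosedImmersion ι] [Flat (ι ≫ φ)]
    [LocallyOfFinitePresentation (ι ≫ φ)]
    (hfib : ∀ s : ↥S, RegImm.IsRegularImmersion RegImm.Kind.quasi
      (pullback.snd ι (φ.fiberι s))) :
    RegImm.IsRegularImmersion RegImm.Kind.regular ι := by
  refine ⟨inferInstance, fun z => ?_⟩
  set y : S := φ (ι z) with hy
  obtain ⟨t, ht1, ht2⟩ := Scheme.Pullback.exists_preimage_pullback (f := ι) (g := φ.fiberι y) z
    (φ.asFiber (ι z)) (φ.fiberι_asFiber (ι z)).symm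
  set i' := pullback.snd ι (φ.fiberι y) with hi'
  have hx : φ.fiberι y (i' t) = ι z := by
    rw [hi', ht2]
    exact φ.fiberι_asFiber (ι z)
  -- charts
  obtain ⟨V, (hV : IsAffineOpen V), hzV, -⟩ :=
    (TopologicalSpace.Opens.isBasis_iff_nbhd.mp S.isBasis_affineOpens)
      (show y ∈ (⊤ : S.Opens) from trivial)
  obtain ⟨U, (hU : IsAffineOpen U), hzU, hUV⟩ :=
    (TopologicalSpace.Opens.isBasis_iff_nbhd.mp X.isBasis_affineOpens)
      (show ι z ∈ φ ⁻¹ᵁ V from hzV)
  have hzU' : φ.fiberι y (i' t) ∈ U := by rw [hx]; exact hzU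
  -- the fibre data
  haveI : LocallyOfFiniteType (φ.fiberToSpecResidueField y) :=
    Groth.Agent.Lib.Helper4.VarDim.locallyOfFiniteType_fiberToSpecResidueField φ y
  haveI : IsLocallyNoetherian (φ.fiber y) :=
    LocallyOfFiniteType.isLocallyNoetherian (φ.fiberToSpecResidueField y)
  obtain ⟨-, hat'⟩ := hfib y
  obtain ⟨U', hzU'', hcl', rs, hrs, hker'⟩ := hat' t
  obtain ⟨W', (hW' : IsAffineOpen W'), hzW', hW'le⟩ :=
    (TopologicalSpace.Opens.isBasis_iff_nbhd.mp (φ.fiber y).isBasis_affineOpens)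
      (show i' t ∈ U'.1 ⊓ (φ.fiberι y) ⁻¹ᵁ U from ⟨hzU'', hzU'⟩)
  have hW'U' : W' ≤ U'.1 := hW'le.trans inf_le_left
  have hW'U : W' ≤ (φ.fiberι y) ⁻¹ᵁ U := hW'le.trans inf_le_right
  obtain ⟨hclW', rs', -, hrs', hkerW'⟩ := Groth.Agent.Lib.H9RelRegBC.restrict_data_kind i'
    RegImm.Kind.quasi U'.1 U'.2 hcl' rs hrs hker' W' hW' hW'U' t hzW'
  obtain ⟨rs₀, hreg₀, hker₀⟩ := Groth.Agent.Lib.H9QRegNoeth.stalkReg_of_quasi i' t W' hW' hzW'
    hclW' rs' hrs' hkerW'
  have hsq : IsPullback (pullback.fst ι (φ.fiberι y)) i' ι (φ.fiberι y) :=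
    IsPullback.of_hasPullback _ _
  have hclU : IsClosedImmersion (ι ∣_ U) := inferInstance
  obtain ⟨-, hkerapp⟩ := Groth.Agent.Lib.H9RegImmFlatBC.isClosedImmersion_and_ker ι (φ.fiberι y) i'
    (pullback.fst ι (φ.fiberι y)) hsq U hU hclU W' hW' hW'U
  have hk0 := ker_stalkMap_eq_map i' t W' hW' hzW' hclW'
  -- rings
  have hW : IsAffineOpen (ι ⁻¹ᵁ U) := hU.preimage ι
  have hzW : z ∈ ι ⁻¹ᵁ U := hzU
  have hWV : ι ⁻¹ᵁ U ≤ (ι ≫ φ) ⁻¹ᵁ V := fun y hy => hUV hy
  letI algAB : Algebra Γ(S, V) Γ(X, U) := (φ.appLE V U hUV).hom.toAlgebra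
  letI algAC : Algebra Γ(S, V) Γ(T, ι ⁻¹ᵁ U) := ((ι ≫ φ).appLE V (ι ⁻¹ᵁ U) hWV).hom.toAlgebra
  haveI : Algebra.FinitePresentation Γ(S, V) Γ(X, U) :=
    HasRingHomProperty.appLE (P := @LocallyOfFinitePresentation) φ inferInstance ⟨V, hV⟩ ⟨U, hU⟩ hUV
  haveI : Module.Flat Γ(S, V) Γ(X, U) :=
    HasRingHomProperty.appLE (P := @Flat) φ inferInstance ⟨V, hV⟩ ⟨U, hU⟩ hUV
  haveI : Algebra.FinitePresentation Γ(S, V) Γ(T, ι ⁻¹ᵁ U) :=
    HasRingHomProperty.appLE (P := @LocallyOfFinitePresentation) (ι ≫ φ) inferInstance ⟨V, hV⟩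
      ⟨ι ⁻¹ᵁ U, hW⟩ hWV
  haveI : Module.Flat Γ(S, V) Γ(T, ι ⁻¹ᵁ U) :=
    HasRingHomProperty.appLE (P := @Flat) (ι ≫ φ) inferInstance ⟨V, hV⟩ ⟨ι ⁻¹ᵁ U, hW⟩ hWV
  have hcomm : ∀ a : Γ(S, V), (ι.app U).hom (algebraMap Γ(S, V) Γ(X, U) a) =
      algebraMap Γ(S, V) Γ(T, ι ⁻¹ᵁ U) a := by
    intro a
    have h1 := Scheme.Hom.appLE_comp_appLE ι φ V U (ι ⁻¹ᵁ U) hUV le_rfl
    rw [Scheme.Hom.appLE_eq_app] at h1
    exact congrArg (fun f => f.hom a) h1
  let ψ : Γ(X, U) →ₐ[Γ(S, V)] Γ(T, ι ⁻¹ᵁ U) := { (ι.app U).hom with commutes' := hcomm }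
  have hψ : Function.Surjective ψ := ι.app_surjective U hU
  have hfg : (RingHom.ker ψ.toRingHom).FG := Algebra.FinitePresentation.ker_fG_of_surjective ψ hψ
  haveI hqprime : (hW.primeIdealOf ⟨z, hzW⟩).asIdeal.IsPrime := (hW.primeIdealOf ⟨z, hzW⟩).isPrime
  haveI hq'prime : (hU.primeIdealOf ⟨φ.fiberι y (i' t), hzU'⟩).asIdeal.IsPrime :=
    (hU.primeIdealOf ⟨φ.fiberι y (i' t), hzU'⟩).isPrime
  have hflatq : Module.Flat Γ(S, V) (Localization.AtPrime (hW.primeIdealOf ⟨z, hzW⟩).asIdeal) := by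
    haveI : Module.Flat Γ(T, ι ⁻¹ᵁ U) (Localization.AtPrime (hW.primeIdealOf ⟨z, hzW⟩).asIdeal) :=
      IsLocalization.flat _ (hW.primeIdealOf ⟨z, hzW⟩).asIdeal.primeCompl
    exact Module.Flat.trans Γ(S, V) Γ(T, ι ⁻¹ᵁ U) _
  have hqq' : (hW.primeIdealOf ⟨z, hzW⟩).asIdeal.comap ψ.toRingHom =
      (hU.primeIdealOf ⟨φ.fiberι y (i' t), hzU'⟩).asIdeal := by
    have h1 := IsAffineOpen.comap_primeIdealOf_appLE (f := ι) U hU (ι ⁻¹ᵁ U) hW le_rfl hzW
    have h2 := congrArg PrimeSpectrum.asIdeal h1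
    rw [PrimeSpectrum.comap_asIdeal] at h2
    have h3 : (hU.primeIdealOf ⟨ι z, hzU⟩) = hU.primeIdealOf ⟨φ.fiberι y (i' t), hzU'⟩ := by
      congr 1
      exact Subtype.ext hx.symm
    rw [← h3, ← h2, Scheme.Hom.appLE_eq_app]
  obtain ⟨eR, heR⟩ := exists_fiberStalk_equiv φ hU hV hUV y (i' t) hzU'
  have hIF : Ideal.ofList (rs₀.map eR) = (RingHom.ker ψ.toRingHom).map
      (algebraMap Γ(X, U) (EGA4.FibLocRing Γ(S, V) Γ(X, U)
        (hU.primeIdealOf ⟨φ.fiberι y (i' t), hzU'⟩).asIdeal)) := by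
    change _ = (RingHom.ker (ι.app U).hom).map _
    have h1 : Ideal.ofList (rs₀.map eR) = (Ideal.ofList rs₀).map (eR : _ →+* _) := by
      rw [Ideal.map_ofList]
      rfl
    rw [h1, ← hker₀, hk0, hkerapp, Ideal.map_map, Ideal.map_map]
    congr 1
    ext b
    simp only [RingHom.comp_apply, RingHom.coe_coe]
    rw [← heR b]
    congr 1
    exact (Groth.Agent.Lib.Helper2.FlatOver.stalkMap_germ_eq (φ.fiberι y) hW'U (i' t) hzW' b).symm
  have hregF : IsRegular (EGA4.FibLocRing Γ(S, V) Γ(X, U)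
      (hU.primeIdealOf ⟨φ.fiberι y (i' t), hzU'⟩).asIdeal) (rs₀.map eR) :=
    (AddEquiv.isRegular_congr (e := eR.toAddEquiv) (List.forall₂_map_right_iff.mpr
      (List.forall₂_same.mpr fun r _ x => map_mul eR r x))).mp hreg₀
  obtain ⟨g, hg, l, hL⟩ := main_ideal' Γ(S, V) Γ(X, U) Γ(T, ι ⁻¹ᵁ U) ψ hψ hfg
    (hW.primeIdealOf ⟨z, hzW⟩).asIdeal hflatq
    (hU.primeIdealOf ⟨φ.fiberι y (i' t), hzU'⟩).asIdeal hqq' (rs₀.map eR) hregF hIF
  have hU'' : IsAffineOpen (X.basicOpen g) := hU.basicOpen g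
  letI algBL : Algebra Γ(X, U) Γ(X, X.basicOpen g) :=
    (X.presheaf.map (homOfLE (X.basicOpen_le g)).op).hom.toAlgebra
  haveI : IsLocalization.Away g Γ(X, X.basicOpen g) := hU.isLocalization_basicOpen g
  obtain ⟨hreg, hideal⟩ := hL Γ(X, X.basicOpen g)
  refine ⟨⟨X.basicOpen g, hU''⟩, ?_, inferInstance,
    l.map (algebraMap Γ(X, U) Γ(X, X.basicOpen g)), hreg, ?_⟩
  · have h1 := (Groth.Agent.Lib.R2H4.SyntStd.mem_basicOpen_iff_not_mem_primeIdealOf hU
      (φ.fiberι y (i' t)) hzU' g).mpr hg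
    rw [hx] at h1
    exact h1
  · rw [← hideal]
    have h2 := (ι.ker).map_ideal_basicOpen ⟨U, hU⟩ g
    rw [Scheme.Hom.ker_apply] at h2
    rw [← Scheme.Hom.ker_apply ι ⟨X.basicOpen g, hU''⟩]
    exact h2.symm

/-- **S8896** -/
theorem main8896 {X S : Scheme.{u}} (φ : X ⟶ S) [Flat φ] [LocallyOfFinitePresentation φ]
    (𝓘 : X.IdealSheafData) [Flat (𝓘.subschemeι ≫ φ)]
    [LocallyOfFinitePresentation (𝓘.subschemeι ≫ φ)]
    (hfib : ∀ s : ↥S, RegImm.IsRegularImmersion RegImm.Kind.quasi
      (pullback.snd 𝓘.subschemeι (φ.fiberι s))) :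
    RegImm.IsRelRegularImmersion RegImm.Kind.quasi φ 𝓘.subschemeι := by
  obtain ⟨himm, hat⟩ := isRegularImmersion_of_fibrewise φ 𝓘.subschemeι hfib
  refine ⟨⟨himm, fun z => ?_⟩, inferInstance⟩
  obtain ⟨U, hz, hcl, rs, hreg, hker⟩ := hat z
  refine ⟨U, hz, hcl, rs, ?_, hker⟩
  refine Groth.Agent.S5802.result _ rs.length rs.get ?_
  rw [List.ofFn_get]
  exact hreg.toIsWeaklyRegular

end Sch


end Part3

end Groth.Agent.Lib.R2H4.FibreQReg
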