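import Mathlib
import Groth.Prelude.Def_RegImm
import Groth.Agent.Lib.R2H4RegSpread
import Groth.Agent.Lib.Helper3FlatOpenFP

/-!
# Spreading out fibrewise regular sequences, with flat partial quotients (helper4, round 2)

`main_flat`: `A → C` f.p., `C_P` flat over `A`, `l` regular on the fibre local ring at `P`. Then for
some `c ∉ P` and all `d`, on `L = C_{cd}` the sequence `l` is weakly regular and all partial
quotients `L/(l₁..lᵢ)` are flat over `A` (i.e. `l` is transversally regular relative to `A`).
`nonempty_equiv_localizedModule`: `L/IL ≃ (C/I)_S` for any localization `L` of `C` at `S`.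
-/

set_option autoImplicit false
set_option linter.style.haveILetI false
universe u
open scoped TensorProduct

namespace Groth.Agent.Lib.R2H4.RegSpreadFlat

open IsLocalRing RingTheory.Sequence

section Conv

variable {P : Type u} [CommRing P] (S : Submonoid P) (L : Type u) [CommRing L] [Algebra P L]
  [IsLocalization S L]

/-- the quotient of a localization is the localization of the quotient -/
theorem nonempty_equiv_localizedModule (I : Ideal P) :
    Nonempty ((L ⧸ I.map (algebraMap P L)) ≃ₗ[P] LocalizedModule S (P ⧸ I)) := by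
  let f : P ⧸ I →ₗ[P] L ⧸ Submodule.localized' L S (Algebra.linearMap P L) I :=
    Submodule.toLocalizedQuotient' L S (Algebra.linearMap P L) I
  have hf : IsLocalizedModule S f := inferInstance
  let e₁ : LocalizedModule S (P ⧸ I) ≃ₗ[P]
      L ⧸ Submodule.localized' L S (Algebra.linearMap P L) I :=
    IsLocalizedModule.iso S f
  have heq : Submodule.localized' L S (Algebra.linearMap P L) I =
      I.map (algebraMap P L) := Ideal.localized'_eq_map L S I
  let e₂ : (L ⧸ Submodule.localized' L S (Algebra.linearMap P L) I) ≃ₗ[L]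
      (L ⧸ I.map (algebraMap P L)) := Submodule.quotEquivOfEq _ _ heq
  exact ⟨(e₂.restrictScalars P).symm ≪≫ₗ e₁.symm⟩

end Conv

section Main

variable {A C : Type u} [CommRing A] [CommRing C] [Algebra A C]

/-- **Spreading out fibrewise regular sequences, with flat partial quotients.** -/
theorem main_flat [Algebra.FinitePresentation A C] (P : Ideal C) [P.IsPrime] (l : List C)
    (hflat : Module.Flat A (LocalizedModule P.primeCompl C))
    (hreg : IsRegular (EGA4.FibLocRing A C P) (l.map (algebraMap C (EGA4.FibLocRing A C P)))) :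
    ∃ c : C, c ∉ P ∧ ∀ (d : C) (L : Type u) [CommRing L] [Algebra C L] [Algebra A L]
      [IsScalarTower A C L] [IsLocalization.Away (c * d) L],
      IsWeaklyRegular L (l.map (algebraMap C L)) ∧
      ∀ i ≤ l.length, Module.Flat A (L ⧸ Ideal.ofList ((l.take i).map (algebraMap C L))) := by
  classical
  obtain ⟨c₀, hc₀, hW⟩ := Groth.Agent.Lib.R2H4.RegSpread.main (A := A) P l hflat hreg
  obtain ⟨-, hfl⟩ := Groth.Agent.Lib.R2H4.RegSpread.flat_quotients (A := A) P l hflat hreg
  have hstep : ∀ i : Fin (l.length + 1), ∃ c : C, c ∉ P ∧ ∀ r : Ideal C, ∀ _ : r.IsPrime,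
      c ∉ r → Module.Flat A (LocalizedModule r.primeCompl (C ⧸ Ideal.ofList (l.take i))) := by
    intro i
    haveI : Module.FinitePresentation C (C ⧸ Ideal.ofList (l.take i)) := by
      have hfg : (Ideal.ofList (l.take i)).FG := ⟨(l.take i).toFinset, by simp [Ideal.ofList]⟩
      exact Module.finitePresentation_of_surjective (Submodule.mkQ (Ideal.ofList (l.take i)))
        (Submodule.mkQ_surjective _) (by rw [Submodule.ker_mkQ]; exact hfg)
    have hopen := Groth.Agent.Lib.Helper3.FlatOpen.isOpen_flatLocus_of_finitePresentation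
      (R := A) (S := C) (M := C ⧸ Ideal.ofList (l.take i))
    have hmem : (⟨P, inferInstance⟩ : PrimeSpectrum C) ∈
        {q : PrimeSpectrum C | Module.Flat A (LocalizedModule q.asIdeal.primeCompl
          (C ⧸ Ideal.ofList (l.take i)))} := hfl i (Nat.lt_succ_iff.mp i.2)
    obtain ⟨_, ⟨c, rfl⟩, hcP, hsub⟩ :=
      PrimeSpectrum.isTopologicalBasis_basic_opens.exists_subset_of_mem_open hmem hopen
    exact ⟨c, hcP, fun r hr hcr => hsub (show (⟨r, hr⟩ : PrimeSpectrum C) ∈ _ from hcr)⟩
  choose cf hcf1 hcf2 using hstep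
  refine ⟨c₀ * ∏ i, cf i, ?_, ?_⟩
  · have : (c₀ * ∏ i, cf i) ∈ P.primeCompl :=
      Submonoid.mul_mem _ hc₀ (Submonoid.prod_mem _ (fun i _ => hcf1 i))
    exact this
  · intro d L _ _ _ _ hL
    constructor
    · haveI : IsLocalization.Away (c₀ * ((∏ i, cf i) * d)) L := by
        rw [← mul_assoc]
        exact hL
      exact hW ((∏ i, cf i) * d) L
    · intro i hi
      have h1 : Module.Flat A (LocalizedModule (Submonoid.powers (c₀ * (∏ i, cf i) * d))
          (C ⧸ Ideal.ofList (l.take i))) := by
        apply Groth.Agent.Lib.H9NzdFibre.flat_away_of_forall_prime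
        intro r hr hcr
        apply hcf2 ⟨i, Nat.lt_succ_iff.mpr hi⟩ r hr
        intro hmem
        apply hcr
        obtain ⟨e, he⟩ := Finset.dvd_prod_of_mem cf
          (Finset.mem_univ (⟨i, Nat.lt_succ_iff.mpr hi⟩ : Fin (l.length + 1)))
        rw [he]
        have : c₀ * (cf ⟨i, Nat.lt_succ_iff.mpr hi⟩ * e) * d =
            cf ⟨i, Nat.lt_succ_iff.mpr hi⟩ * (c₀ * e * d) := by ring
        rw [this]
        exact Ideal.mul_mem_right _ _ hmem
      obtain ⟨e⟩ := nonempty_equiv_localizedModule (Submonoid.powers (c₀ * (∏ i, cf i) * d)) L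
        (Ideal.ofList (l.take i))
      rw [← Ideal.map_ofList]
      exact Module.Flat.of_linearEquiv (e.restrictScalars A)

end Main

end Groth.Agent.Lib.R2H4.RegSpreadFlat
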