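import Mathlib
import Groth.Agent.Lib.Helper3InjHull

/-!
# Descent of flatness along finite injective ring maps (Ferrand)  (helper4, round 2)

If `R → S` is injective and `S` is a finite `R`-module, then an `R`-module `M` is flat as soon
as `S ⊗[R] M` is flat over `S`.  No Noetherian hypotheses are needed.

Proof (Ferrand / Raynaud–Gruson): let `C = M⋆` be the character module and `C ⊆ E` an injective
hull.  `Hom_R(S, C) = (S ⊗ M)⋆` is an injective `S`-module and is essential in `Hom_R(S, E)`
(because `S` is finite over `R`), so the two agree; evaluating at `1` (possible since `R ⊆ S` and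
`E` is injective) gives `C = E`.
-/

set_option autoImplicit false
universe u
open TensorProduct

namespace Groth.Agent.Lib.R2H4.FinInjFlat

open Groth.Agent.Lib.Helper3

section Coext

variable (R S : Type u) [CommRing R] [CommRing S] [Algebra R S]
variable (Q Q' : Type u) [AddCommGroup Q] [Module R Q] [AddCommGroup Q'] [Module R Q']

/-- coextension of scalars `Hom_R(S, Q)` as a type synonym carrying an `S`-module structure -/
def H : Type u := S →ₗ[R] Q

instance : AddCommGroup (H R S Q) := inferInstanceAs (AddCommGroup (S →ₗ[R] Q))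

variable {R S Q Q'}

/-- underlying linear map -/
def H.lin (φ : H R S Q) : S →ₗ[R] Q := φ

/-- constructor -/
def H.of (φ : S →ₗ[R] Q) : H R S Q := φ

@[simp] lemma H.lin_of (φ : S →ₗ[R] Q) : (H.of φ).lin = φ := rfl
@[simp] lemma H.of_lin (φ : H R S Q) : H.of φ.lin = φ := rfl
@[simp] lemma H.lin_add (φ ψ : H R S Q) : (φ + ψ).lin = φ.lin + ψ.lin := rfl
@[simp] lemma H.lin_sub (φ ψ : H R S Q) : (φ - ψ).lin = φ.lin - ψ.lin := rfl
@[simp] lemma H.lin_zero : (0 : H R S Q).lin = 0 := rfl

lemma H.ext {φ ψ : H R S Q} (h : ∀ t, φ.lin t = ψ.lin t) : φ = ψ :=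
  LinearMap.ext h

instance : Module S (H R S Q) where
  smul s φ := H.of (φ.lin ∘ₗ LinearMap.mulLeft R s)
  one_smul φ := H.ext fun t => by
    show φ.lin (1 * t) = φ.lin t
    rw [one_mul]
  mul_smul s s' φ := H.ext fun t => by
    show φ.lin (s * s' * t) = φ.lin (s' * (s * t))
    rw [mul_comm s s', mul_assoc]
  smul_zero s := H.ext fun t => rfl
  smul_add s φ ψ := H.ext fun t => rfl
  add_smul s s' φ := H.ext fun t => by
    show φ.lin ((s + s') * t) = φ.lin (s * t) + φ.lin (s' * t)
    rw [add_mul, map_add]
  zero_smul φ := H.ext fun t => by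
    show φ.lin (0 * t) = 0
    rw [zero_mul, map_zero]

@[simp] lemma H.smul_lin (s : S) (φ : H R S Q) (t : S) : (s • φ).lin t = φ.lin (s * t) := rfl

/-- functoriality in `Q` -/
def H.map (f : Q →ₗ[R] Q') : H R S Q →ₗ[S] H R S Q' where
  toFun φ := H.of (f ∘ₗ φ.lin)
  map_add' φ ψ := H.ext fun t => by simp
  map_smul' s φ := H.ext fun t => rfl

@[simp] lemma H.map_lin (f : Q →ₗ[R] Q') (φ : H R S Q) (t : S) :
    (H.map f φ).lin t = f (φ.lin t) := rfl

lemma H.map_injective (f : Q →ₗ[R] Q') (hf : Function.Injective f) :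
    Function.Injective (H.map (S := S) f) := by
  intro φ ψ h
  refine H.ext fun t => hf ?_
  have := congrArg (fun χ => H.lin χ t) h
  simpa using this

variable (R S) in
/-- `Hom_R(S, M⋆) ≃ (S ⊗ M)⋆`, `S`-linearly -/
noncomputable def charEquiv (M : Type u) [AddCommGroup M] [Module R M] :
    H R S (CharacterModule M) ≃ₗ[S] CharacterModule (S ⊗[R] M) where
  toFun φ := CharacterModule.homEquiv φ.lin
  invFun c := H.of (CharacterModule.homEquiv.symm c)
  left_inv φ := by simp
  right_inv c := by simp
  map_add' φ ψ := by simp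
  map_smul' s φ := by
    refine DFunLike.ext _ _ (fun x => ?_)
    induction x using TensorProduct.induction_on with
    | zero => simp
    | tmul t m =>
      simp only [RingHom.id_apply, CharacterModule.smul_apply, TensorProduct.smul_tmul',
        smul_eq_mul]
      rfl
    | add x y hx hy =>
      rw [map_add, map_add, hx, hy]

end Coext

section Ess

variable {R : Type u} [CommRing R] {E : Type u} [AddCommGroup E] [Module R E]

/-- simultaneous version of essentiality for finitely many elements -/
lemma exists_smul_mem_of_essential (N : Submodule R E)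
    (hN : ∀ x : E, x ≠ 0 → ∃ r : R, r • x ≠ 0 ∧ r • x ∈ N)
    {ι : Type*} (t : Finset ι) (x : ι → E) (hx : ∃ i ∈ t, x i ≠ 0) :
    ∃ r : R, (∃ i ∈ t, r • x i ≠ 0) ∧ ∀ i ∈ t, r • x i ∈ N := by
  classical
  induction t using Finset.induction_on with
  | empty => obtain ⟨i, hi, -⟩ := hx; simp at hi
  | insert a t ha ih =>
    by_cases h : ∃ i ∈ t, x i ≠ 0
    · obtain ⟨r, ⟨i, hit, hi0⟩, hr⟩ := ih h
      by_cases hra : r • x a ∈ N
      · refine ⟨r, ⟨i, Finset.mem_insert_of_mem hit, hi0⟩, fun k hk => ?_⟩
        rcases Finset.mem_insert.1 hk with rfl | hk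
        · exact hra
        · exact hr k hk
      · have h0 : r • x a ≠ 0 := fun h0 => hra (h0 ▸ N.zero_mem)
        obtain ⟨r', hr'0, hr'N⟩ := hN _ h0
        refine ⟨r' * r, ⟨a, Finset.mem_insert_self a t, by rwa [mul_smul]⟩, fun k hk => ?_⟩
        rw [mul_smul]
        rcases Finset.mem_insert.1 hk with rfl | hk
        · exact hr'N
        · exact N.smul_mem r' (hr k hk)
    · push Not at h
      obtain ⟨i, hi, hi0⟩ := hx
      have hia : i = a := by
        rcases Finset.mem_insert.1 hi with rfl | hi
        · rfl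
        · exact absurd (h i hi) hi0
      subst hia
      obtain ⟨r, hr0, hrN⟩ := hN _ hi0
      refine ⟨r, ⟨i, Finset.mem_insert_self i t, hr0⟩, fun k hk => ?_⟩
      rcases Finset.mem_insert.1 hk with rfl | hk
      · exact hrN
      · rw [h k hk, smul_zero]; exact N.zero_mem

end Ess

/-- **Ferrand**: flatness descends along finite injective ring maps. -/
theorem flat_of_flat_baseChange (R S : Type u) [CommRing R] [CommRing S] [Algebra R S]
    [Module.Finite R S] (hinj : Function.Injective (algebraMap R S))
    (M : Type u) [AddCommGroup M] [Module R M] [Module.Flat S (S ⊗[R] M)] : Module.Flat R M := by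
  classical
  rw [Module.Flat.iff_characterModule_injective]
  obtain ⟨I, _, _, _, i, hi⟩ := InjHull.exists_embedding_injective R (CharacterModule M)
  obtain ⟨E, hME, hess, hEinj⟩ := InjHull.exists_injective_essential (LinearMap.range i)
  let j : CharacterModule M →ₗ[R] E := LinearMap.codRestrict E i (fun x => hME ⟨x, rfl⟩)
  have hj : Function.Injective j := fun x y h => hi (congrArg Subtype.val h)
  have hessj : ∀ x : E, x ≠ 0 → ∃ r : R, r • x ≠ 0 ∧ r • x ∈ LinearMap.range j := by
    intro x hx0
    obtain ⟨r, hr0, ⟨c, hc⟩⟩ := hess (x : I) x.2 (fun h => hx0 (Subtype.ext h))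
    refine ⟨r, fun h => hr0 ?_, ⟨c, Subtype.ext ?_⟩⟩
    · have := congrArg Subtype.val h
      simpa using this
    · simpa [j] using hc
  -- `(S ⊗ M)⋆` is an injective `S`-module
  have hX : Module.Injective S (CharacterModule (S ⊗[R] M)) :=
    Module.Flat.iff_characterModule_injective.1 inferInstance
  -- retraction of `H.map j`
  obtain ⟨h, hh⟩ := Module.Injective.extension_property S (CharacterModule (S ⊗[R] M))
    (H R S (CharacterModule M)) (H R S E) (H.map j) (H.map_injective j hj)
    (charEquiv R S M).toLinearMap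
  let ρ : H R S E →ₗ[S] H R S (CharacterModule M) := (charEquiv R S M).symm.toLinearMap ∘ₗ h
  have hρ : ∀ φ, ρ (H.map j φ) = φ := by
    intro φ
    have := LinearMap.congr_fun hh φ
    simp only [LinearMap.coe_comp, Function.comp_apply, LinearEquiv.coe_coe] at this
    simp only [ρ, LinearMap.coe_comp, Function.comp_apply, LinearEquiv.coe_coe, this,
      LinearEquiv.symm_apply_apply]
  -- finitely many generators of `S`
  obtain ⟨t, ht⟩ := (Module.Finite.fg_top : (⊤ : Submodule R S).FG)
  -- key: every `ψ` killed by `ρ` is zero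
  have key : ∀ ψ : H R S E, ρ ψ = 0 → ψ = 0 := by
    intro ψ hψ
    by_contra hψ0
    have hne : ∃ s ∈ t, ψ.lin s ≠ 0 := by
      by_contra hcon
      push Not at hcon
      apply hψ0
      refine H.ext fun s => ?_
      have hs : s ∈ Submodule.span R (t : Set S) := by rw [ht]; trivial
      have : Submodule.span R (t : Set S) ≤ LinearMap.ker ψ.lin :=
        Submodule.span_le.2 (fun s hs => hcon s hs)
      exact this hs
    obtain ⟨r, ⟨s₀, hs₀t, hs₀⟩, hr⟩ :=
      exists_smul_mem_of_essential (LinearMap.range j) hessj t (fun s => ψ.lin s) hne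
    -- `r • ψ` lands in the range of `j`
    have hrange : ∀ s : S, r • ψ.lin s ∈ LinearMap.range j := by
      intro s
      have hs : s ∈ Submodule.span R (t : Set S) := by rw [ht]; trivial
      have : Submodule.span R (t : Set S) ≤ (LinearMap.range j).comap (r • ψ.lin) :=
        Submodule.span_le.2 (fun s hs => hr s hs)
      exact this hs
    let je := LinearEquiv.ofInjective j hj
    let θ : H R S (CharacterModule M) :=
      H.of (je.symm.toLinearMap ∘ₗ LinearMap.codRestrict (LinearMap.range j) (r • ψ.lin) hrange)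
    have hθ : H.map j θ = algebraMap R S r • ψ := by
      refine H.ext fun s => ?_
      have h1 : j (je.symm ⟨r • ψ.lin s, hrange s⟩) = r • ψ.lin s :=
        congrArg Subtype.val (je.apply_symm_apply ⟨r • ψ.lin s, hrange s⟩)
      rw [H.smul_lin, ← Algebra.smul_def, map_smul]
      exact h1
    have hθ0 : θ = 0 := by
      rw [← hρ θ, hθ, map_smul, hψ, smul_zero]
    have : r • ψ.lin s₀ = 0 := by
      have h2 := congrArg (fun χ => H.lin χ s₀) hθ
      simp only [hθ0, map_zero, H.lin_zero, LinearMap.zero_apply, H.smul_lin] at h2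
      rw [← Algebra.smul_def, map_smul] at h2
      exact h2.symm
    exact hs₀ this
  -- hence `H.map j` is surjective
  have hsurjH : ∀ φ : H R S E, ∃ θ, H.map j θ = φ := by
    intro φ
    refine ⟨ρ φ, ?_⟩
    have : φ - H.map j (ρ φ) = 0 := key _ (by rw [map_sub, hρ, sub_self])
    exact (sub_eq_zero.1 this).symm
  -- hence `j` is surjective
  have hjsurj : Function.Surjective j := by
    intro e
    obtain ⟨φ, hφ⟩ := Module.Injective.extension_property R E R S (Algebra.linearMap R S)
      hinj (LinearMap.toSpanSingleton R E e)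
    obtain ⟨θ, hθ⟩ := hsurjH (H.of φ)
    refine ⟨θ.lin 1, ?_⟩
    have h1 := congrArg (fun χ => H.lin χ 1) hθ
    simp only [H.map_lin, H.lin_of] at h1
    rw [h1]
    have h2 := LinearMap.congr_fun hφ 1
    simpa using h2
  -- transport injectivity
  let e := LinearEquiv.ofBijective j ⟨hj, hjsurj⟩
  refine ⟨fun X Y _ _ _ _ f hf g => ?_⟩
  obtain ⟨k, hk⟩ := Module.Injective.extension_property R E X Y f hf (e.toLinearMap ∘ₗ g)
  refine ⟨e.symm.toLinearMap ∘ₗ k, fun x => ?_⟩
  have := LinearMap.congr_fun hk x
  simp only [LinearMap.coe_comp, Function.comp_apply, LinearEquiv.coe_coe] at this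
  simp [this]

end Groth.Agent.Lib.R2H4.FinInjFlat
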