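import Mathlib
import Groth.Agent.Lib.R2H4FinInjFlat
import Groth.Agent.Lib.Helper26FlatLimA

/-!
# Descent of flatness along integral injective ring maps, for finitely presented modules over
polynomial rings  (helper4, round 2)

`R → S` injective and integral, `M` a finitely presented module over `R[x₁,…,xₙ]` with `S ⊗[R] M`
flat over `S`; then `M` is flat over `R`.  We write `S` as the directed union of its finite
`R`-subalgebras, descend flatness to a finite stage (EGA IV 11.2.6, `Helper26.FlatLim.Sys.flat_stage'`)
and apply Ferrand's theorem (`R2H4.FinInjFlat.flat_of_flat_baseChange`).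
-/

set_option autoImplicit false
universe u
open TensorProduct

namespace Groth.Agent.Lib.R2H4.IntInjFlat

open Groth.Agent.Lib.Helper18ColimSys

/-- the directed system of finitely generated subalgebras -/
theorem sys_adjoin (R S : Type u) [CommRing R] [CommRing S] [Algebra R S] :
    Sys R (fun t : Finset S => Algebra.adjoin R (t : Set S)) S
      (fun t => (Algebra.adjoin R (t : Set S)).val) := by
  classical
  refine Sys.of_directed (ι := Finset S)
    (fun t t' h => Subalgebra.inclusion (Algebra.adjoin_mono (by exact_mod_cast h)))
    (fun t t' h => by ext x; rfl) (fun a => ?_) (fun t x hx => ?_)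
  · exact ⟨{a}, ⟨a, Algebra.subset_adjoin (by simp)⟩, rfl⟩
  · refine ⟨t, le_rfl, ?_⟩
    have : x = 0 := Subtype.ext hx
    rw [this, map_zero]

theorem flat_of_flat_baseChange (R S : Type u) [CommRing R] [CommRing S] [Algebra R S]
    [Algebra.IsIntegral R S] (hinj : Function.Injective (algebraMap R S)) (n : ℕ)
    (M : Type u) [AddCommGroup M] [Module (MvPolynomial (Fin n) R) M] [Module R M]
    [IsScalarTower R (MvPolynomial (Fin n) R) M]
    [Module.FinitePresentation (MvPolynomial (Fin n) R) M]
    [Module.Flat S (S ⊗[R] M)] : Module.Flat R M := by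
  classical
  obtain ⟨t, ht⟩ := Groth.Agent.Lib.Helper26.FlatLim.Sys.flat_stage' (sys_adjoin R S)
    (MvPolynomial (Fin n) R) M inferInstance
  have : Module.Finite R (Algebra.adjoin R (t : Set S)) :=
    Algebra.finite_adjoin_of_finite_of_isIntegral t.finite_toSet
      (fun x _ => Algebra.IsIntegral.isIntegral x)
  refine Groth.Agent.Lib.R2H4.FinInjFlat.flat_of_flat_baseChange R (Algebra.adjoin R (t : Set S))
    (fun a b h => hinj ?_) M
  have := congrArg Subtype.val h
  exact this

end Groth.Agent.Lib.R2H4.IntInjFlat
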