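import Mathlib
import Groth.Prelude.Def_RegImm
import Groth.Agent.Lib.R2H4RelGCIFlat
import Groth.Agent.Lib.R2H4RelGCIAway

set_option autoImplicit false
universe u
open scoped TensorProduct
open AlgebraicGeometry CategoryTheory

namespace Groth.Agent.Lib.R2H4.RelGCIDescend

open MvPolynomial Groth.Agent.Lib.Helper4.FibDim Groth.Agent.Lib.R2H4.RelGCIFlat
  Groth.Agent.Lib.R2H4.RelGCIAway

attribute [local instance] MvPolynomial.algebraMvPolynomial

section General

variable (R : Type u) [CommRing R] (n c : ℕ) (F : Fin c → MvPolynomial (Fin n) R)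

/-- A presentation all of whose fibre dimensions are at most `n - c` is a relative global
complete intersection. -/
theorem isRelGCI_of_fibLD_le (hcn : c ≤ n)
    (H : ∀ z : PrimeSpectrum (Synt.RelGCIRing R n c F),
      fibLD (PrimeSpectrum.comap (algebraMap R (Synt.RelGCIRing R n c F))) z ≤
        ((n - c : ℕ) : WithBot ℕ∞)) :
    Synt.IsRelGCI R n c F := by
  intro p hnt
  refine ⟨hcn, ?_⟩
  rw [← PrimeSpectrum.topologicalKrullDim_eq_ringKrullDim,
    Groth.Agent.Lib.Helper7.TopDim.topologicalKrullDim_eq_iSup_localDim]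
  have hall : ∀ y : PrimeSpectrum (p.asIdeal.Fiber (Synt.RelGCIRing R n c F)),
      FlatMor.localDim _ y = ((n - c : ℕ) : WithBot ℕ∞) := by
    intro y
    obtain ⟨z, -, hy⟩ := localDim_fiber_eq_fibLD R _ p y
    rw [hy]
    obtain ⟨a, ha, hle⟩ := le_fibLD R n c F z
    have hup := H z
    rw [ha] at hup ⊢
    have hup' : a ≤ n - c := by exact_mod_cast hup
    have : a = n - c := by omega
    rw [this]
  have hne : Nonempty (PrimeSpectrum (p.asIdeal.Fiber (Synt.RelGCIRing R n c F))) := inferInstance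
  rw [iSup_congr hall, iSup_const]

end General

section BaseChange

variable (A B : Type u) [CommRing A] [CommRing B] [Algebra A B] (n c : ℕ)
  (F₀ : Fin c → MvPolynomial (Fin n) A) (F : Fin c → MvPolynomial (Fin n) B)
  (hF : ∀ j, MvPolynomial.map (algebraMap A B) (F₀ j) = F j)
include hF

theorem span_eq_map : Ideal.span (Set.range F) = (Ideal.span (Set.range F₀)).map
    (algebraMap (MvPolynomial (Fin n) A) (MvPolynomial (Fin n) B)) := by
  rw [Ideal.map_span, ← Set.range_comp]
  congr 2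
  funext j
  exact (hF j).symm

/-- points of the base change map to points with the same fibre dimension -/
theorem exists_point (x : PrimeSpectrum (Synt.RelGCIRing B n c F)) :
    ∃ z : PrimeSpectrum (Synt.RelGCIRing A n c F₀),
      (PrimeSpectrum.comap (Ideal.Quotient.mk (Ideal.span (Set.range F₀))) z).asIdeal =
        ((PrimeSpectrum.comap (Ideal.Quotient.mk (Ideal.span (Set.range F))) x).asIdeal).comap
          (algebraMap (MvPolynomial (Fin n) A) (MvPolynomial (Fin n) B)) ∧
      fibLD (PrimeSpectrum.comap (algebraMap A (Synt.RelGCIRing A n c F₀))) z =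
        fibLD (PrimeSpectrum.comap (algebraMap B (Synt.RelGCIRing B n c F))) x := by
  obtain ⟨z, hz1, hz2⟩ := exists_fibLD_eq A B n (Ideal.span (Set.range F₀))
    (Ideal.span (Set.range F)) (span_eq_map A B n c F₀ F hF) x
  refine ⟨z, hz1, hz2.trans ?_⟩
  rw [fibreDimAt_eq_fibLD]
  rfl

variable (J₀ : Ideal (Synt.RelGCIRing A n c F₀))
  (hJ₀ : {z : PrimeSpectrum (Synt.RelGCIRing A n c F₀) |
      fibLD (PrimeSpectrum.comap (algebraMap A (Synt.RelGCIRing A n c F₀))) z ≤
        ((n - c : ℕ) : WithBot ℕ∞)}ᶜ =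
      PrimeSpectrum.zeroLocus (J₀ : Set (Synt.RelGCIRing A n c F₀)))
include hJ₀

/-- If the base change is a relative global complete intersection, the bad locus of the model
becomes empty after base change. -/
theorem map_comap_eq_top (h : Synt.IsRelGCI B n c F) :
    (J₀.comap (Ideal.Quotient.mk (Ideal.span (Set.range F₀)))).map
      (algebraMap (MvPolynomial (Fin n) A) (MvPolynomial (Fin n) B)) = ⊤ := by
  by_contra hne
  obtain ⟨M, hM, hle⟩ := Ideal.exists_le_maximal _ hne
  haveI := hM.isPrime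
  have hFM : Ideal.span (Set.range F) ≤ M := by
    rw [span_eq_map A B n c F₀ F hF]
    refine le_trans (Ideal.map_mono ?_) hle
    intro P hP
    rw [Ideal.mem_comap, Ideal.Quotient.eq_zero_iff_mem.mpr hP]
    exact J₀.zero_mem
  obtain ⟨x, hx⟩ : ∃ x : PrimeSpectrum (Synt.RelGCIRing B n c F),
      PrimeSpectrum.comap (Ideal.Quotient.mk (Ideal.span (Set.range F))) x = ⟨M, inferInstance⟩ := by
    have : (⟨M, inferInstance⟩ : PrimeSpectrum (MvPolynomial (Fin n) B)) ∈
        Set.range (PrimeSpectrum.comap (Ideal.Quotient.mk (Ideal.span (Set.range F)))) := by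
      rw [_root_.range_comap_of_surjective _ _ Ideal.Quotient.mk_surjective, Ideal.mk_ker,
        PrimeSpectrum.mem_zeroLocus]
      exact hFM
    exact this
  obtain ⟨z, hz1, hz2⟩ := exists_point A B n c F₀ F hF x
  rw [hx] at hz1
  have hzU : z ∉ PrimeSpectrum.zeroLocus (J₀ : Set (Synt.RelGCIRing A n c F₀)) := by
    rw [← hJ₀]
    intro hz
    apply hz
    change fibLD _ z ≤ _
    rw [hz2]
    have := Groth.Agent.Lib.R2H4.GCIFibDim.fibreDimAt_relGCI B n c F h x
    rw [fibreDimAt_eq_fibLD] at this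
    exact this.le
  apply hzU
  rw [PrimeSpectrum.mem_zeroLocus]
  intro s hs
  obtain ⟨P, rfl⟩ := Ideal.Quotient.mk_surjective s
  change P ∈ (PrimeSpectrum.comap (Ideal.Quotient.mk (Ideal.span (Set.range F₀))) z).asIdeal
  rw [hz1]
  exact hle (Ideal.mem_map_of_mem _ hs)

/-- If the bad locus of the model becomes empty after base change, the base change is a relative
global complete intersection. -/
theorem isRelGCI_of_map_comap_eq_top (hcn : c ≤ n)
    (htop : (J₀.comap (Ideal.Quotient.mk (Ideal.span (Set.range F₀)))).map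
      (algebraMap (MvPolynomial (Fin n) A) (MvPolynomial (Fin n) B)) = ⊤) :
    Synt.IsRelGCI B n c F := by
  apply isRelGCI_of_fibLD_le B n c F hcn
  intro x
  obtain ⟨z, hz1, hz2⟩ := exists_point A B n c F₀ F hF x
  rw [← hz2]
  by_contra hnot
  have hmem : z ∈ PrimeSpectrum.zeroLocus (J₀ : Set (Synt.RelGCIRing A n c F₀)) := by
    rw [← hJ₀]
    exact hnot
  rw [PrimeSpectrum.mem_zeroLocus] at hmem
  have hle : (J₀.comap (Ideal.Quotient.mk (Ideal.span (Set.range F₀)))).map
      (algebraMap (MvPolynomial (Fin n) A) (MvPolynomial (Fin n) B)) ≤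
      (PrimeSpectrum.comap (Ideal.Quotient.mk (Ideal.span (Set.range F))) x).asIdeal := by
    rw [Ideal.map_le_iff_le_comap, ← hz1]
    intro P hP
    exact hmem hP
  rw [htop] at hle
  exact (PrimeSpectrum.comap (Ideal.Quotient.mk (Ideal.span (Set.range F))) x).isPrime.ne_top
    (top_le_iff.mp hle)

end BaseChange

section Main

variable (R : Type u) [CommRing R] (n c : ℕ) (F : Fin c → MvPolynomial (Fin n) R)

/-- lifting a polynomial to a subalgebra containing its coefficients -/
theorem exists_lift (Λ : Subalgebra ℤ R) (P : MvPolynomial (Fin n) R)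
    (hP : (P.coeffs : Set R) ⊆ Λ) :
    ∃ P₀ : MvPolynomial (Fin n) Λ, MvPolynomial.map (algebraMap Λ R) P₀ = P := by
  apply MvPolynomial.mem_range_map_iff_coeffs_subset.mpr
  intro a ha
  exact ⟨⟨a, hP ha⟩, rfl⟩

theorem map_val_injective (Λ : Subalgebra ℤ R) :
    Function.Injective (MvPolynomial.map (σ := Fin n) (algebraMap Λ R)) :=
  MvPolynomial.map_injective _ Subtype.coe_injective

/-- **A relative global complete intersection descends to a finite type `ℤ`-subalgebra.** -/
theorem exists_descent (h : Synt.IsRelGCI R n c F) :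
    ∃ (R₀ : Subalgebra ℤ R) (F₀ : Fin c → MvPolynomial (Fin n) R₀), Algebra.FiniteType ℤ R₀ ∧
      (∀ i, MvPolynomial.map (algebraMap R₀ R) (F₀ i) = F i) ∧ Synt.IsRelGCI R₀ n c F₀ := by
  classical
  by_cases hS : Subsingleton (Synt.RelGCIRing R n c F)
  · -- the zero ring
    have htop : Ideal.span (Set.range F) = ⊤ := Ideal.Quotient.subsingleton_iff.mp hS
    have h1 : (1 : MvPolynomial (Fin n) R) ∈ Ideal.span (Set.range F) := htop ▸ Submodule.mem_top
    obtain ⟨a, ha⟩ := Ideal.mem_span_range_iff_exists_fun.mp h1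
    let cs : Finset R := (Finset.univ.biUnion fun j => (F j).coeffs) ∪
      (Finset.univ.biUnion fun j => (a j).coeffs)
    let Λ : Subalgebra ℤ R := Algebra.adjoin ℤ (cs : Set R)
    have hft : Algebra.FiniteType ℤ Λ :=
      (Subalgebra.fg_iff_finiteType Λ).mp (Subalgebra.fg_adjoin_finset cs)
    have hF : ∀ j, ∃ f : MvPolynomial (Fin n) Λ, MvPolynomial.map (algebraMap Λ R) f = F j := by
      intro j
      apply exists_lift
      intro x hx
      apply Algebra.subset_adjoin
      exact Finset.mem_union_left _ (Finset.mem_biUnion.mpr ⟨j, Finset.mem_univ j, hx⟩)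
    have ha' : ∀ j, ∃ f : MvPolynomial (Fin n) Λ, MvPolynomial.map (algebraMap Λ R) f = a j := by
      intro j
      apply exists_lift
      intro x hx
      apply Algebra.subset_adjoin
      exact Finset.mem_union_right _ (Finset.mem_biUnion.mpr ⟨j, Finset.mem_univ j, hx⟩)
    choose F₀ hF₀ using hF
    choose a₀ ha₀ using ha'
    refine ⟨Λ, F₀, hft, hF₀, ?_⟩
    apply isRelGCI_of_subsingleton
    apply Ideal.Quotient.subsingleton_iff.mpr
    rw [Ideal.eq_top_iff_one]
    apply Ideal.mem_span_range_iff_exists_fun.mpr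
    refine ⟨a₀, ?_⟩
    apply map_val_injective R n Λ
    rw [map_sum, map_one, ← ha]
    refine Finset.sum_congr rfl fun j _ => ?_
    rw [map_mul, hF₀, ha₀]
  · rw [not_subsingleton_iff_nontrivial] at hS
    obtain ⟨x⟩ : Nonempty (PrimeSpectrum (Synt.RelGCIRing R n c F)) := inferInstance
    have hcn : c ≤ n := by
      let p : PrimeSpectrum R := PrimeSpectrum.comap (algebraMap R (Synt.RelGCIRing R n c F)) x
      let y : PrimeSpectrum (p.asIdeal.Fiber (Synt.RelGCIRing R n c F)) :=
        PrimeSpectrum.preimageHomeomorphFiber R (Synt.RelGCIRing R n c F) p ⟨x, rfl⟩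
      have hnt : Nontrivial (p.asIdeal.Fiber (Synt.RelGCIRing R n c F)) :=
        ⟨⟨0, 1, fun h0 => y.isPrime.ne_top ((Ideal.eq_top_iff_one _).mpr (h0 ▸ Ideal.zero_mem _))⟩⟩
      exact (h p hnt).1
    let cs₀ : Finset R := Finset.univ.biUnion fun j => (F j).coeffs
    let Λ₀ : Subalgebra ℤ R := Algebra.adjoin ℤ (cs₀ : Set R)
    have hft₀ : Algebra.FiniteType ℤ Λ₀ :=
      (Subalgebra.fg_iff_finiteType Λ₀).mp (Subalgebra.fg_adjoin_finset cs₀)
    have hN₀ : IsNoetherianRing Λ₀ := Algebra.FiniteType.isNoetherianRing ℤ Λ₀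
    have hF : ∀ j, ∃ f : MvPolynomial (Fin n) Λ₀, MvPolynomial.map (algebraMap Λ₀ R) f = F j := by
      intro j
      apply exists_lift
      intro x hx
      apply Algebra.subset_adjoin
      exact Finset.mem_biUnion.mpr ⟨j, Finset.mem_univ j, hx⟩
    choose F₀ hF₀ using hF
    obtain ⟨J₀, hJ₀⟩ := exists_ideal Λ₀ n c F₀
    have htopR := map_comap_eq_top Λ₀ R n c F₀ F hF₀ J₀ hJ₀ h
    obtain ⟨s, hs⟩ : (J₀.comap (Ideal.Quotient.mk (Ideal.span (Set.range F₀)))).FG :=
      IsNoetherian.noetherian _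
    have h1 : (1 : MvPolynomial (Fin n) R) ∈ Ideal.span (Set.range
        (fun i : s => MvPolynomial.map (algebraMap Λ₀ R) i.1)) := by
      have hrange : Set.range (fun i : s => MvPolynomial.map (algebraMap Λ₀ R) i.1) =
          (algebraMap (MvPolynomial (Fin n) Λ₀) (MvPolynomial (Fin n) R)) '' (s : Set _) := by
        ext P
        constructor
        · rintro ⟨i, rfl⟩
          exact ⟨i.1, i.2, rfl⟩
        · rintro ⟨Q, hQ, rfl⟩
          exact ⟨⟨Q, hQ⟩, rfl⟩
      rw [hrange, ← Ideal.map_span, hs, htopR]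
      exact Submodule.mem_top
    obtain ⟨b, hb⟩ := Ideal.mem_span_range_iff_exists_fun.mp h1
    let cs₁ : Finset R := cs₀ ∪ (Finset.univ.biUnion fun i : s => (b i).coeffs)
    let Λ₁ : Subalgebra ℤ R := Algebra.adjoin ℤ (cs₁ : Set R)
    have hft₁ : Algebra.FiniteType ℤ Λ₁ :=
      (Subalgebra.fg_iff_finiteType Λ₁).mp (Subalgebra.fg_adjoin_finset cs₁)
    have hle : Λ₀ ≤ Λ₁ := Algebra.adjoin_mono (by
      intro x hx
      exact Finset.mem_union_left _ hx)
    let _ : Algebra Λ₀ Λ₁ := (Subalgebra.inclusion hle).toRingHom.toAlgebra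
    haveI : IsScalarTower Λ₀ Λ₁ R := IsScalarTower.of_algebraMap_eq (fun x => rfl)
    have hb' : ∀ i : s, ∃ f : MvPolynomial (Fin n) Λ₁,
        MvPolynomial.map (algebraMap Λ₁ R) f = b i := by
      intro i
      apply exists_lift
      intro x hx
      apply Algebra.subset_adjoin
      exact Finset.mem_union_right _ (Finset.mem_biUnion.mpr ⟨i, Finset.mem_univ i, hx⟩)
    choose b₁ hb₁ using hb'
    have hF₁ : ∀ j, MvPolynomial.map (algebraMap Λ₁ R)
        (MvPolynomial.map (algebraMap Λ₀ Λ₁) (F₀ j)) = F j := by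
      intro j
      rw [MvPolynomial.map_map, ← IsScalarTower.algebraMap_eq, hF₀]
    have htop₁ : (J₀.comap (Ideal.Quotient.mk (Ideal.span (Set.range F₀)))).map
        (algebraMap (MvPolynomial (Fin n) Λ₀) (MvPolynomial (Fin n) Λ₁)) = ⊤ := by
      rw [Ideal.eq_top_iff_one]
      have hsum : (1 : MvPolynomial (Fin n) Λ₁) =
          ∑ i : s, b₁ i * MvPolynomial.map (algebraMap Λ₀ Λ₁) i.1 := by
        apply map_val_injective R n Λ₁
        rw [map_sum, map_one, ← hb]
        refine Finset.sum_congr rfl fun i _ => ?_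
        rw [map_mul, hb₁, MvPolynomial.map_map, ← IsScalarTower.algebraMap_eq]
      rw [hsum]
      refine Ideal.sum_mem _ fun i _ => Ideal.mul_mem_left _ _ ?_
      apply Ideal.mem_map_of_mem
      rw [← hs]
      exact Ideal.subset_span i.2
    exact ⟨Λ₁, fun j => MvPolynomial.map (algebraMap Λ₀ Λ₁) (F₀ j), hft₁, hF₁,
      isRelGCI_of_map_comap_eq_top Λ₀ Λ₁ n c F₀ _ (fun j => rfl) J₀ hJ₀ hcn htop₁⟩

end Main

section Scheme

open CategoryTheory.Limits

/-- the base change square of a quotient of a polynomial ring, on spectra -/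
theorem exists_isPullback_spec (A B : Type u) [CommRing A] [CommRing B] [Algebra A B] (n : ℕ)
    (J₀ : Ideal (MvPolynomial (Fin n) A)) (J : Ideal (MvPolynomial (Fin n) B))
    (hJ : J = J₀.map (algebraMap (MvPolynomial (Fin n) A) (MvPolynomial (Fin n) B))) :
    ∃ ψ : (MvPolynomial (Fin n) A ⧸ J₀) →+* (MvPolynomial (Fin n) B ⧸ J),
      IsPullback (Spec.map (CommRingCat.ofHom ψ))
        (Spec.map (CommRingCat.ofHom (algebraMap B (MvPolynomial (Fin n) B ⧸ J))))
        (Spec.map (CommRingCat.ofHom (algebraMap A (MvPolynomial (Fin n) A ⧸ J₀))))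
        (Spec.map (CommRingCat.ofHom (algebraMap A B))) := by
  subst hJ
  set S₀ := MvPolynomial (Fin n) A ⧸ J₀ with hS₀
  set S := MvPolynomial (Fin n) B ⧸
    J₀.map (algebraMap (MvPolynomial (Fin n) A) (MvPolynomial (Fin n) B)) with hS
  have h1 : Algebra.IsPushout A (MvPolynomial (Fin n) A) B (MvPolynomial (Fin n) B) :=
    inferInstance
  have htower : IsScalarTower A S₀ S := by
    refine IsScalarTower.of_algebraMap_eq (R := A) (S := S₀) (A := S) (fun r => ?_)
    have hC : MvPolynomial.map (algebraMap A B) (MvPolynomial.C r : MvPolynomial (Fin n) A) =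
        MvPolynomial.C (algebraMap A B r) := MvPolynomial.map_C _ _
    exact congrArg (Ideal.Quotient.mk
      (J₀.map (algebraMap (MvPolynomial (Fin n) A) (MvPolynomial (Fin n) B)))) hC.symm
  have h2 : Algebra.IsPushout (MvPolynomial (Fin n) A) S₀ (MvPolynomial (Fin n) B) S :=
    (isPushout_quotient J₀).symm
  have h3 : Algebra.IsPushout A S₀ B S :=
    (Algebra.IsPushout.comp_iff A (MvPolynomial (Fin n) A) B (MvPolynomial (Fin n) B)).mpr h2
  have hpo := CommRingCat.isPushout_of_isPushout A S₀ B S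
  exact ⟨algebraMap S₀ S, isPullback_SpecMap_of_isPushout _ _ _ _ hpo⟩

/-- **A standard syntomic morphism of affine schemes is the base change of a standard syntomic
morphism of finite type over a finite type `ℤ`-algebra.** -/
theorem exists_model {X S : Scheme.{u}} (f : X ⟶ S) (hf : Synt.IsStandardSyntomic f) :
    ∃ (X₀ S₀ : Scheme.{u}) (f₀ : X₀ ⟶ S₀) (g : S ⟶ S₀) (g' : X ⟶ X₀), IsAffine X₀ ∧ IsAffine S₀ ∧
      IsPullback g' f f₀ g ∧
      Algebra.FiniteType ℤ Γ(S₀, ⊤) ∧ LocallyOfFiniteType f₀ ∧ Synt.IsStandardSyntomic f₀ := by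
  obtain ⟨R, _, n, c, F, hF, e₁, e₂, hcomm⟩ := hf
  obtain ⟨R₀, F₀, hft, hF₀, hrel⟩ := exists_descent R n c F hF
  obtain ⟨ψ, hpb⟩ := exists_isPullback_spec R₀ R n (Ideal.span (Set.range F₀))
    (Ideal.span (Set.range F)) (span_eq_map R₀ R n c F₀ F hF₀)
  refine ⟨Spec (CommRingCat.of (Synt.RelGCIRing R₀ n c F₀)), Spec (CommRingCat.of R₀),
    Spec.map (CommRingCat.ofHom (algebraMap R₀ (Synt.RelGCIRing R₀ n c F₀))),
    e₂.hom ≫ Spec.map (CommRingCat.ofHom (algebraMap R₀ R)),
    e₁.hom ≫ Spec.map (CommRingCat.ofHom ψ), inferInstance, inferInstance, ?_, ?_, ?_, ?_⟩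
  · refine IsPullback.of_iso hpb e₁.symm (Iso.refl _) e₂.symm (Iso.refl _) ?_ ?_ ?_ ?_
    · simp
    · rw [Iso.symm_hom, Iso.symm_hom, Iso.comp_inv_eq, Category.assoc, Iso.eq_inv_comp]
      exact hcomm
    · simp
    · simp
  · let e : R₀ ≃+* Γ(Spec (CommRingCat.of R₀), ⊤) :=
      (Scheme.ΓSpecIso (CommRingCat.of R₀)).symm.commRingCatIsoToRingEquiv
    exact Algebra.FiniteType.equiv hft e.toIntAlgEquiv
  · rw [HasRingHomProperty.Spec_iff (P := @LocallyOfFiniteType)]
    exact RingHom.finiteType_algebraMap.mpr inferInstance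
  · exact ⟨R₀, inferInstance, n, c, F₀, hrel, Iso.refl _, Iso.refl _, by simp⟩

end Scheme

end Groth.Agent.Lib.R2H4.RelGCIDescend
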