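import Mathlib
import Groth.Prelude.Def_RegImm
import Groth.Agent.Lib.R2H4RelGCIFlat
import Groth.Agent.Lib.R2H4RelGCIAway
import Groth.Agent.Lib.R2H4RelGCIDescend
import Groth.Agent.S5802

/-!
# Regular sequences in relative global complete intersections (helper4, round 2)
-/

set_option autoImplicit false
universe u
open scoped TensorProduct Pointwise
open AlgebraicGeometry CategoryTheory

namespace Groth.Agent.Lib.R2H4.RelGCIReg

open MvPolynomial Groth.Agent.Lib.Helper4.FibDim Groth.Agent.Lib.R2H4.RelGCIFlat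
  Groth.Agent.Lib.R2H4.RelGCIAway Groth.Agent.Lib.R2H4.RelGCIDescend

section Noeth

variable {A : Type u} [CommRing A] [IsNoetherianRing A] (n c : ℕ)
  (G : Fin c → MvPolynomial (Fin n) A)

local notation "Pol" => MvPolynomial (Fin n) A

/-- If `G` is a regular sequence on the fibre local ring at `Q`, then `G` is a regular sequence
on the localization at `Q` and all the successive quotients are flat over `A`
(local criterion of flatness, `S5774`). -/
theorem regular_flat_localization (Q : Ideal (MvPolynomial (Fin n) A)) [Q.IsPrime]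
    (hreg : RingTheory.Sequence.IsRegular (EGA4.FibLocRing A (MvPolynomial (Fin n) A) Q)
      ((List.ofFn G).map (algebraMap (MvPolynomial (Fin n) A)
        (EGA4.FibLocRing A (MvPolynomial (Fin n) A) Q)))) :
    RingTheory.Sequence.IsWeaklyRegular (Localization.AtPrime Q)
        ((List.ofFn G).map (algebraMap (MvPolynomial (Fin n) A) (Localization.AtPrime Q))) ∧
      ∀ i ≤ c, Module.Flat A (Localization.AtPrime Q ⧸
        (Ideal.ofList (((List.ofFn G).map
          (algebraMap (MvPolynomial (Fin n) A) (Localization.AtPrime Q))).take i) •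
            (⊤ : Submodule (Localization.AtPrime Q) (Localization.AtPrime Q)))) := by
  set p : Ideal A := Q.under A with hp
  have hlies : Q.LiesOver p := ⟨rfl⟩
  let Ap := Localization.AtPrime p
  let B := Localization.AtPrime Q
  let algApB : Algebra Ap B := Localization.AtPrime.algebraOfLiesOver p Q
  have hLO : Localization.AtPrime.IsLiesOverAlgebra p Q := ⟨rfl⟩
  have hloc : IsLocalHom (algebraMap Ap B) := by
    rw [Localization.AtPrime.IsLiesOverAlgebra.algebraMap_eq (p := p) (P := Q)]
    infer_instance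
  have hflatApB : Module.Flat Ap B := inferInstance
  set C := EGA4.FibLocRing A Pol Q with hC
  set fs : List B := (List.ofFn G).map (algebraMap Pol B) with hfs
  have hcomp : (⇑(algebraMap B C) ∘ ⇑(algebraMap Pol B)) = ⇑(algebraMap Pol C) := by
    funext x
    exact (IsScalarTower.algebraMap_apply Pol B C x).symm
  have h1 : RingTheory.Sequence.IsWeaklyRegular C (fs.map (algebraMap B C)) := by
    have := hreg.toIsWeaklyRegular
    rw [hfs, List.map_map, hcomp]
    exact this
  have h2 : RingTheory.Sequence.IsWeaklyRegular C fs :=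
    (RingTheory.Sequence.isWeaklyRegular_map_algebraMap_iff C C fs).mp h1
  have hideal : ((IsLocalRing.maximalIdeal Ap).map (algebraMap Ap B) • (⊤ : Submodule B B)) =
      (Q.comap (algebraMap A Pol)).map (algebraMap A B) := by
    rw [smul_eq_mul, Ideal.mul_top, ← Localization.AtPrime.map_eq_maximalIdeal, Ideal.map_map,
      ← IsScalarTower.algebraMap_eq]
  let e : C ≃ₗ[B] (B ⧸ ((IsLocalRing.maximalIdeal Ap).map (algebraMap Ap B) •
      (⊤ : Submodule B B))) := Submodule.quotEquivOfEq _ _ hideal.symm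
  have h3 := (e.isWeaklyRegular_congr fs).mp h2
  obtain ⟨hw, hflat⟩ := Groth.Agent.S5774.result Ap B B fs h3
  refine ⟨hw, fun i hi => ?_⟩
  have h4 := hflat i (by rw [hfs, List.length_map, List.length_ofFn]; exact hi)
  exact Module.Flat.trans A Ap _

end Noeth

section NoethPoint

/-- the pointwise comparison for an arbitrary description of the ideal -/
theorem key'' (R : Type u) [CommRing R] (n : ℕ) (f : List (MvPolynomial (Fin n) R))
    (I : Ideal (MvPolynomial (Fin n) R)) (hI : I = Ideal.ofList f)
    (z : PrimeSpectrum (MvPolynomial (Fin n) R ⧸ I)) :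
    ∃ a : ℕ, fibLD (PrimeSpectrum.comap (algebraMap R (MvPolynomial (Fin n) R ⧸ I))) z =
        (a : WithBot ℕ∞) ∧ n ≤ a + f.length ∧
      (RingTheory.Sequence.IsRegular
        (EGA4.FibLocRing R (MvPolynomial (Fin n) R)
          (PrimeSpectrum.comap (Ideal.Quotient.mk I) z).asIdeal)
        (f.map (algebraMap (MvPolynomial (Fin n) R) (EGA4.FibLocRing R (MvPolynomial (Fin n) R)
          (PrimeSpectrum.comap (Ideal.Quotient.mk I) z).asIdeal))) ↔ a + f.length = n) := by
  subst hI
  exact Groth.Agent.Lib.R2H4.RegSeqOpen.key R (MvPolynomial (Fin n) R) n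
    (fun p => cm_fiber_poly R n p) (fun p P hP => equidim_fiber_poly R n p P hP) f z

variable (Λ : Type u) [CommRing Λ] [IsNoetherianRing Λ] (n c : ℕ)
  (F₀ : Fin c → MvPolynomial (Fin n) Λ)

/-- **Noetherian case**: at a prime containing the relations of a relative global complete
intersection, the relations form a regular sequence with flat successive quotients. -/
theorem regular_flat_at (h₀ : Synt.IsRelGCI Λ n c F₀) (Q₀ : Ideal (MvPolynomial (Fin n) Λ))
    [Q₀.IsPrime] (hQ₀ : Ideal.span (Set.range F₀) ≤ Q₀) :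
    RingTheory.Sequence.IsWeaklyRegular (Localization.AtPrime Q₀)
        ((List.ofFn F₀).map (algebraMap (MvPolynomial (Fin n) Λ) (Localization.AtPrime Q₀))) ∧
      ∀ i ≤ c, Module.Flat Λ (Localization.AtPrime Q₀ ⧸
        (Ideal.ofList (((List.ofFn F₀).map
          (algebraMap (MvPolynomial (Fin n) Λ) (Localization.AtPrime Q₀))).take i) •
            (⊤ : Submodule (Localization.AtPrime Q₀) (Localization.AtPrime Q₀)))) := by
  obtain ⟨x, hx⟩ : ∃ x : PrimeSpectrum (Synt.RelGCIRing Λ n c F₀),
      PrimeSpectrum.comap (Ideal.Quotient.mk (Ideal.span (Set.range F₀))) x = ⟨Q₀, inferInstance⟩ := by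
    have : (⟨Q₀, inferInstance⟩ : PrimeSpectrum (MvPolynomial (Fin n) Λ)) ∈
        Set.range (PrimeSpectrum.comap (Ideal.Quotient.mk (Ideal.span (Set.range F₀)))) := by
      rw [_root_.range_comap_of_surjective _ _ Ideal.Quotient.mk_surjective, Ideal.mk_ker,
        PrimeSpectrum.mem_zeroLocus]
      exact hQ₀
    exact this
  have hdim := Groth.Agent.Lib.R2H4.GCIFibDim.fibreDimAt_relGCI Λ n c F₀ h₀ x
  rw [fibreDimAt_eq_fibLD] at hdim
  have hcn : c ≤ n := by
    let p : PrimeSpectrum Λ := PrimeSpectrum.comap (algebraMap Λ (Synt.RelGCIRing Λ n c F₀)) x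
    let y : PrimeSpectrum (p.asIdeal.Fiber (Synt.RelGCIRing Λ n c F₀)) :=
      PrimeSpectrum.preimageHomeomorphFiber Λ (Synt.RelGCIRing Λ n c F₀) p ⟨x, rfl⟩
    have hnt : Nontrivial (p.asIdeal.Fiber (Synt.RelGCIRing Λ n c F₀)) :=
      ⟨⟨0, 1, fun h0 => y.isPrime.ne_top ((Ideal.eq_top_iff_one _).mpr (h0 ▸ Ideal.zero_mem _))⟩⟩
    exact (h₀ p hnt).1
  obtain ⟨a, ha, -, hiff⟩ := key'' Λ n (List.ofFn F₀) (Ideal.span (Set.range F₀))
    (ofList_ofFn F₀).symm x
  have ha' : a = n - c := by
    have h1 : ((a : ℕ) : WithBot ℕ∞) = ((n - c : ℕ) : WithBot ℕ∞) := ha.symm.trans hdim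
    exact_mod_cast h1
  have hreg := hiff.mpr (by rw [List.length_ofFn]; omega)
  have aux : ∀ (Q₁ : Ideal (MvPolynomial (Fin n) Λ)) [Q₁.IsPrime], Q₁ = Q₀ →
      RingTheory.Sequence.IsRegular (EGA4.FibLocRing Λ (MvPolynomial (Fin n) Λ) Q₁)
        ((List.ofFn F₀).map (algebraMap (MvPolynomial (Fin n) Λ)
          (EGA4.FibLocRing Λ (MvPolynomial (Fin n) Λ) Q₁))) →
      RingTheory.Sequence.IsRegular (EGA4.FibLocRing Λ (MvPolynomial (Fin n) Λ) Q₀)
        ((List.ofFn F₀).map (algebraMap (MvPolynomial (Fin n) Λ)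
          (EGA4.FibLocRing Λ (MvPolynomial (Fin n) Λ) Q₀))) := by
    intro Q₁ _ hQ₁ hr
    subst hQ₁
    exact hr
  exact regular_flat_localization n c F₀ Q₀
    (aux _ (congrArg PrimeSpectrum.asIdeal hx) hreg)

end NoethPoint

section BaseChangeReg

variable {A R : Type u} [CommRing A] [CommRing R] [Algebra A R]
  {MA MR : Type u} [AddCommGroup MA] [Module A MA] [AddCommGroup MR] [Module A MR] [Module R MR]
  [IsScalarTower A R MR]
  {SA SR : Type u} [CommRing SA] [CommRing SR] [Algebra A SA] [Algebra R SR]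
  [Algebra SA SR] [Module SA MA] [IsScalarTower A SA MA] [Module SR MR] [IsScalarTower R SR MR]
  [Module SA MR] [IsScalarTower SA SR MR] [IsScalarTower A SA MR]

/-- the comparison `MA ⊗[A] R ≃ MR` of a base change -/
noncomputable def theta (φ : MA →ₗ[SA] MR) (hφ : IsBaseChange R (φ.restrictScalars A)) :
    MA ⊗[A] R ≃ₗ[A] MR :=
  (TensorProduct.comm A MA R) ≪≫ₗ hφ.equiv.restrictScalars A

theorem theta_tmul (φ : MA →ₗ[SA] MR) (hφ : IsBaseChange R (φ.restrictScalars A)) (m : MA) (r : R) :
    theta φ hφ (m ⊗ₜ[A] r) = r • φ m := by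
  simp [theta, IsBaseChange.equiv_tmul]

theorem theta_smul (φ : MA →ₗ[SA] MR) (hφ : IsBaseChange R (φ.restrictScalars A)) (s : SA)
    (z : MA ⊗[A] R) : theta φ hφ (s • z) = algebraMap SA SR s • theta φ hφ z := by
  induction z with
  | zero => simp
  | add a b ha hb => simp only [smul_add, map_add, ha, hb]
  | tmul m r =>
    rw [TensorProduct.smul_tmul', theta_tmul, theta_tmul, map_smul,
      ← algebraMap_smul SR s (φ m), smul_comm]

/-- Regularity at a point is preserved by base change when the quotient is flat over the base. -/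
theorem isSMulRegular_localizedModule_of_isBaseChange (φ : MA →ₗ[SA] MR)
    (hφ : IsBaseChange R (φ.restrictScalars A)) (TA : Submonoid SA) (TR : Submonoid SR)
    (hT : ∀ s ∈ TA, algebraMap SA SR s ∈ TR) (f : SA)
    (hreg : IsSMulRegular (LocalizedModule TA MA) f)
    {N' : Type u} [AddCommGroup N'] [Module A N'] [Module.Flat A N']
    (π : LocalizedModule TA MA →ₗ[A] N') (hπ : Function.Surjective π)
    (hex : Function.Exact (fun x : LocalizedModule TA MA => f • x) π) :
    IsSMulRegular (LocalizedModule TR MR) (algebraMap SA SR f) := by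
  set L := LocalizedModule TA MA with hL
  let ι : MA →ₗ[SA] L := LocalizedModule.mkLinearMap TA MA
  let g : L →ₗ[A] L := (LinearMap.lsmul SA L f).restrictScalars A
  have hg : Function.Injective g := hreg
  have hex : Function.Exact g π := hex
  have hinjl : Function.Injective (g.lTensor R) :=
    LinearMap.lTensor_injective_of_exact_of_flat π hπ g hg hex R
  have hinj : Function.Injective (g.rTensor R) := (g.lTensor_inj_iff_rTensor_inj R).mp hinjl
  have hgr : ∀ w : L ⊗[A] R, g.rTensor R w = f • w := by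
    intro w
    induction w with
    | zero => simp
    | add a b ha hb => simp only [smul_add, map_add, ha, hb]
    | tmul l r => rw [LinearMap.rTensor_tmul, TensorProduct.smul_tmul']; rfl
  let ρ : MA ⊗[A] R →ₗ[SA] L ⊗[A] R := TensorProduct.AlgebraTensorModule.rTensor A R ι
  have hρ : IsLocalizedModule TA ρ := inferInstance
  intro x y hxy
  have hsub : algebraMap SA SR f • (x - y) = 0 := by
    rw [smul_sub, sub_eq_zero]
    exact hxy
  suffices hz : x - y = 0 from sub_eq_zero.mp hz
  generalize x - y = z at hsub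
  induction z using LocalizedModule.induction_on with
  | h m s =>
    rw [LocalizedModule.smul'_mk, ← LocalizedModule.zero_mk s, LocalizedModule.mk_eq] at hsub
    obtain ⟨t, ht⟩ := hsub
    have hfm' : algebraMap SA SR f • (((t * s : TR) : SR) • m) = 0 := by
      rw [smul_comm, Submonoid.coe_mul, mul_smul]
      simpa [Submonoid.smul_def] using ht
    set ξ : MA ⊗[A] R := (theta φ hφ).symm ((((t * s : TR) : SR)) • m) with hξdef
    have hξ : theta φ hφ (f • ξ) = 0 := by
      rw [theta_smul (SR := SR), hξdef, LinearEquiv.apply_symm_apply]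
      exact hfm'
    have hξ0 : f • ξ = 0 := (theta φ hφ).injective (hξ.trans (map_zero _).symm)
    have hρξ : ρ ξ = 0 := by
      apply hinj
      rw [map_zero, hgr, ← map_smul, hξ0, map_zero]
    obtain ⟨u, hu⟩ := (IsLocalizedModule.eq_zero_iff TA ρ).mp hρξ
    have hum : algebraMap SA SR (u : SA) • ((((t * s : TR) : SR)) • m) = 0 := by
      have h1 := congrArg (theta φ hφ) hu
      rw [Submonoid.smul_def, theta_smul (SR := SR), hξdef, LinearEquiv.apply_symm_apply, map_zero] at h1
      exact h1
    rw [← LocalizedModule.zero_mk s, LocalizedModule.mk_eq]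
    refine ⟨⟨algebraMap SA SR (u : SA) * ((t * s : TR) : SR),
      TR.mul_mem (hT u u.2) (t * s).2⟩, ?_⟩
    rw [smul_zero, smul_zero, Submonoid.smul_def, Submonoid.smul_def]
    change (algebraMap SA SR (u : SA) * ((t * s : TR) : SR)) • (s : SR) • m = 0
    rw [smul_comm, mul_smul, hum, smul_zero]

end BaseChangeReg

section Poly

attribute [local instance] MvPolynomial.algebraMvPolynomial

variable (Λ R : Type u) [CommRing Λ] [CommRing R] [Algebra Λ R] (n : ℕ)
  (I₀ : Ideal (MvPolynomial (Fin n) Λ))

local notation "P₀" => MvPolynomial (Fin n) Λ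
local notation "PR" => MvPolynomial (Fin n) R

/-- the canonical map `Λ[x]/I₀ → R[x]/I₀R[x]` is a base change along `Λ → R` -/
theorem isBaseChange_quot :
    IsBaseChange R ((IsScalarTower.toAlgHom P₀ (P₀ ⧸ I₀)
      (PR ⧸ I₀.map (algebraMap P₀ PR))).toLinearMap.restrictScalars Λ) := by
  set S₀ := P₀ ⧸ I₀ with hS₀
  set S := PR ⧸ I₀.map (algebraMap P₀ PR) with hS
  have h1 : Algebra.IsPushout Λ P₀ R PR := inferInstance
  have htower : IsScalarTower Λ S₀ S := by
    refine IsScalarTower.of_algebraMap_eq (R := Λ) (S := S₀) (A := S) (fun r => ?_)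
    have hC : MvPolynomial.map (algebraMap Λ R) (MvPolynomial.C r : P₀) =
        MvPolynomial.C (algebraMap Λ R r) := MvPolynomial.map_C _ _
    exact congrArg (Ideal.Quotient.mk (I₀.map (algebraMap P₀ PR))) hC.symm
  have h2 : Algebra.IsPushout P₀ S₀ PR S := (isPushout_quotient I₀).symm
  have h3 : Algebra.IsPushout Λ S₀ R S :=
    (Algebra.IsPushout.comp_iff Λ P₀ R PR).mpr h2
  exact h3.symm.out

variable (Q : Ideal (MvPolynomial (Fin n) R)) [Q.IsPrime]

/-- flatness at a point passes along the base change `Λ → R` -/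
theorem flat_of_noeth
    (hflat : Module.Flat Λ (LocalizedModule (Q.comap (algebraMap P₀ PR)).primeCompl (P₀ ⧸ I₀))) :
    Module.Flat R (LocalizedModule Q.primeCompl (PR ⧸ I₀.map (algebraMap P₀ PR))) :=
  Groth.Agent.Lib.Helper3.FlatLoc.flat_localizedModule_of_isBaseChange _
    (isBaseChange_quot Λ R n I₀) _ _ (fun _ hs => hs) hflat

/-- the exact sequence `P₀/I₀ → P₀/I₀ → P₀/(I₀ + f₀) → 0` -/
theorem exact_smul_mapQ (f₀ : P₀) :
    Function.Exact (fun x : P₀ ⧸ I₀ => f₀ • x)
      (Submodule.mapQ I₀ (I₀ ⊔ Ideal.span {f₀}) LinearMap.id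
        (fun _ hx => Ideal.mem_sup_left hx)) := by
  intro x
  obtain ⟨p, rfl⟩ := Ideal.Quotient.mk_surjective x
  constructor
  · intro hx
    have hx' : p ∈ I₀ ⊔ Ideal.span {f₀} := (Submodule.Quotient.mk_eq_zero _).mp hx
    obtain ⟨a, ha, b, hb, rfl⟩ := Submodule.mem_sup.mp hx'
    obtain ⟨c, rfl⟩ := Ideal.mem_span_singleton'.mp hb
    refine ⟨Ideal.Quotient.mk I₀ c, ?_⟩
    change f₀ • Ideal.Quotient.mk I₀ c = Ideal.Quotient.mk I₀ (a + c * f₀)
    rw [map_add, Ideal.Quotient.eq_zero_iff_mem.mpr ha, zero_add, mul_comm, map_mul]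
    rfl
  · rintro ⟨y, hy⟩
    obtain ⟨c, rfl⟩ := Ideal.Quotient.mk_surjective y
    rw [← hy]
    change Submodule.Quotient.mk (f₀ • c) = 0
    rw [Submodule.Quotient.mk_eq_zero]
    exact Ideal.mem_sup_right (Ideal.mul_mem_right _ _ (Ideal.subset_span rfl))

/-- regularity at a point passes along the base change `Λ → R` when the next quotient is flat -/
theorem isSMulRegular_of_noeth (f₀ : P₀)
    (hreg : IsSMulRegular (LocalizedModule (Q.comap (algebraMap P₀ PR)).primeCompl (P₀ ⧸ I₀)) f₀)
    (hflat : Module.Flat Λ (LocalizedModule (Q.comap (algebraMap P₀ PR)).primeCompl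
      (P₀ ⧸ (I₀ ⊔ Ideal.span {f₀})))) :
    IsSMulRegular (LocalizedModule Q.primeCompl (PR ⧸ I₀.map (algebraMap P₀ PR)))
      (algebraMap P₀ PR f₀) := by
  set TA := (Q.comap (algebraMap P₀ PR)).primeCompl with hTA
  let q : P₀ ⧸ I₀ →ₗ[P₀] P₀ ⧸ (I₀ ⊔ Ideal.span {f₀}) :=
    Submodule.mapQ I₀ (I₀ ⊔ Ideal.span {f₀}) LinearMap.id (fun _ hx => Ideal.mem_sup_left hx)
  have hq : Function.Surjective q := by
    intro y
    obtain ⟨c, rfl⟩ := Ideal.Quotient.mk_surjective y
    exact ⟨Ideal.Quotient.mk I₀ c, rfl⟩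
  let g₀ : P₀ ⧸ I₀ →ₗ[P₀] P₀ ⧸ I₀ := LinearMap.lsmul P₀ (P₀ ⧸ I₀) f₀
  have hex₀ : Function.Exact g₀ q := exact_smul_mapQ Λ n I₀ f₀
  let π₀ := IsLocalizedModule.map TA (LocalizedModule.mkLinearMap TA (P₀ ⧸ I₀))
    (LocalizedModule.mkLinearMap TA (P₀ ⧸ (I₀ ⊔ Ideal.span {f₀}))) q
  have hπ₀ : Function.Surjective π₀ := IsLocalizedModule.map_surjective TA _ _ q hq
  have hmap : ∀ x : LocalizedModule TA (P₀ ⧸ I₀),
      IsLocalizedModule.map TA (LocalizedModule.mkLinearMap TA (P₀ ⧸ I₀))
        (LocalizedModule.mkLinearMap TA (P₀ ⧸ I₀)) g₀ x = f₀ • x := by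
    intro x
    induction x using LocalizedModule.induction_on with
    | h m s =>
      rw [IsLocalizedModule.map_LocalizedModules, LocalizedModule.smul'_mk]
      rfl
  have hex : Function.Exact (fun x : LocalizedModule TA (P₀ ⧸ I₀) => f₀ • x) π₀ := by
    have := LocalizedModule.map_exact TA g₀ q hex₀
    intro y
    rw [this y]
    constructor
    · rintro ⟨x, hx⟩
      exact ⟨x, (hmap x).symm.trans hx⟩
    · rintro ⟨x, hx⟩
      exact ⟨x, (hmap x).trans hx⟩
  exact isSMulRegular_localizedModule_of_isBaseChange _ (isBaseChange_quot Λ R n I₀) TA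
    Q.primeCompl (fun _ hs => hs) f₀ hreg (π₀.restrictScalars Λ) hπ₀ hex

end Poly

section Convert

variable {P : Type u} [CommRing P] (Q : Ideal P) [Q.IsPrime]

/-- the quotient of the localization is the localization of the quotient -/
theorem nonempty_equiv_localizedModule (I : Ideal P) :
    Nonempty ((Localization.AtPrime Q ⧸ I.map (algebraMap P (Localization.AtPrime Q))) ≃ₗ[P]
      LocalizedModule Q.primeCompl (P ⧸ I)) := by
  let B := Localization.AtPrime Q
  let f : P ⧸ I →ₗ[P] B ⧸ Submodule.localized' B Q.primeCompl (Algebra.linearMap P B) I :=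
    Submodule.toLocalizedQuotient' B Q.primeCompl (Algebra.linearMap P B) I
  have hf : IsLocalizedModule Q.primeCompl f := inferInstance
  let e₁ : LocalizedModule Q.primeCompl (P ⧸ I) ≃ₗ[P]
      B ⧸ Submodule.localized' B Q.primeCompl (Algebra.linearMap P B) I :=
    IsLocalizedModule.iso Q.primeCompl f
  have heq : Submodule.localized' B Q.primeCompl (Algebra.linearMap P B) I =
      I.map (algebraMap P B) := Ideal.localized'_eq_map B Q.primeCompl I
  let e₂ : (B ⧸ Submodule.localized' B Q.primeCompl (Algebra.linearMap P B) I) ≃ₗ[B]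
      (B ⧸ I.map (algebraMap P B)) := Submodule.quotEquivOfEq _ _ heq
  exact ⟨(e₂.restrictScalars P).symm ≪≫ₗ e₁.symm⟩

/-- list version, in the form used by regular sequences -/
theorem nonempty_equiv_take (l : List P) (i : ℕ) :
    Nonempty ((Localization.AtPrime Q ⧸
      (Ideal.ofList ((l.map (algebraMap P (Localization.AtPrime Q))).take i) •
        (⊤ : Submodule (Localization.AtPrime Q) (Localization.AtPrime Q)))) ≃ₗ[P]
      LocalizedModule Q.primeCompl (P ⧸ Ideal.ofList (l.take i))) := by
  obtain ⟨e⟩ := nonempty_equiv_localizedModule Q (Ideal.ofList (l.take i))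
  have hsub : (Ideal.ofList ((l.map (algebraMap P (Localization.AtPrime Q))).take i) •
      (⊤ : Submodule (Localization.AtPrime Q) (Localization.AtPrime Q))) =
      (Ideal.ofList (l.take i)).map (algebraMap P (Localization.AtPrime Q)) := by
    rw [smul_eq_mul, Ideal.mul_top, ← List.map_take, Ideal.map_ofList]
  exact ⟨((Submodule.quotEquivOfEq _ _ hsub).restrictScalars P) ≪≫ₗ e⟩

end Convert

section NoethData

variable (Λ : Type u) [CommRing Λ] [IsNoetherianRing Λ] (n c : ℕ)
  (F₀ : Fin c → MvPolynomial (Fin n) Λ)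

/-- the Noetherian statement in terms of localized quotient modules -/
theorem noeth_data (h₀ : Synt.IsRelGCI Λ n c F₀) (Q₀ : Ideal (MvPolynomial (Fin n) Λ))
    [Q₀.IsPrime] (hQ₀ : Ideal.span (Set.range F₀) ≤ Q₀) :
    (∀ i (hi : i < c), IsSMulRegular (LocalizedModule Q₀.primeCompl
        (MvPolynomial (Fin n) Λ ⧸ Ideal.ofList ((List.ofFn F₀).take i))) (F₀ ⟨i, hi⟩)) ∧
      ∀ i ≤ c, Module.Flat Λ (LocalizedModule Q₀.primeCompl
        (MvPolynomial (Fin n) Λ ⧸ Ideal.ofList ((List.ofFn F₀).take i))) := by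
  obtain ⟨hw, hflat⟩ := regular_flat_at Λ n c F₀ h₀ Q₀ hQ₀
  constructor
  · intro i hi
    obtain ⟨e⟩ := nonempty_equiv_take Q₀ (List.ofFn F₀) i
    have hlen : i < ((List.ofFn F₀).map
        (algebraMap (MvPolynomial (Fin n) Λ) (Localization.AtPrime Q₀))).length := by
      rw [List.length_map, List.length_ofFn]
      exact hi
    have h1 := hw.regular_mod_prev i hlen
    have hget : ((List.ofFn F₀).map
        (algebraMap (MvPolynomial (Fin n) Λ) (Localization.AtPrime Q₀)))[i] =
        algebraMap (MvPolynomial (Fin n) Λ) (Localization.AtPrime Q₀) (F₀ ⟨i, hi⟩) := by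
      rw [List.getElem_map, List.getElem_ofFn]
    rw [hget, isSMulRegular_algebraMap_iff] at h1
    exact (e.isSMulRegular_congr _).mp h1
  · intro i hi
    obtain ⟨e⟩ := nonempty_equiv_take Q₀ (List.ofFn F₀) i
    have h1 := hflat i hi
    exact Module.Flat.of_linearEquiv (e.restrictScalars Λ).symm

end NoethData

section Transfer

attribute [local instance] MvPolynomial.algebraMvPolynomial

variable (Λ R : Type u) [CommRing Λ] [IsNoetherianRing Λ] [CommRing R] [Algebra Λ R] (n c : ℕ)
  (F₀ : Fin c → MvPolynomial (Fin n) Λ) (F : Fin c → MvPolynomial (Fin n) R)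
  (hF : ∀ j, MvPolynomial.map (algebraMap Λ R) (F₀ j) = F j)
include hF

omit [IsNoetherianRing Λ] in
theorem ofList_take_eq_map (i : ℕ) :
    Ideal.ofList ((List.ofFn F).take i) = (Ideal.ofList ((List.ofFn F₀).take i)).map
      (algebraMap (MvPolynomial (Fin n) Λ) (MvPolynomial (Fin n) R)) := by
  rw [Ideal.map_ofList, List.map_take, List.map_ofFn]
  congr 3
  funext j
  exact (hF j).symm

omit hF in
omit [IsNoetherianRing Λ] in
theorem ofList_take_succ (i : ℕ) (hi : i < c) :
    Ideal.ofList ((List.ofFn F₀).take i) ⊔ Ideal.span {F₀ ⟨i, hi⟩} =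
      Ideal.ofList ((List.ofFn F₀).take (i + 1)) := by
  have hlen : i < (List.ofFn F₀).length := by rw [List.length_ofFn]; exact hi
  rw [List.take_succ_eq_append_getElem hlen, Ideal.ofList_append, Ideal.ofList_singleton,
    List.getElem_ofFn]

/-- **Transfer from a Noetherian model**: regularity and flatness of the successive quotients at
a prime of `R[x]` containing the relations. -/
theorem data_of_model (h₀ : Synt.IsRelGCI Λ n c F₀) (Q : Ideal (MvPolynomial (Fin n) R))
    [Q.IsPrime] (hQ : Ideal.span (Set.range F) ≤ Q) :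
    (∀ i (hi : i < c), IsSMulRegular (LocalizedModule Q.primeCompl
        (MvPolynomial (Fin n) R ⧸ Ideal.ofList ((List.ofFn F).take i))) (F ⟨i, hi⟩)) ∧
      ∀ i ≤ c, Module.Flat R (LocalizedModule Q.primeCompl
        (MvPolynomial (Fin n) R ⧸ Ideal.ofList ((List.ofFn F).take i))) := by
  have hQ₀ : Ideal.span (Set.range F₀) ≤
      Q.comap (algebraMap (MvPolynomial (Fin n) Λ) (MvPolynomial (Fin n) R)) := by
    rw [Ideal.span_le]
    rintro _ ⟨j, rfl⟩
    change MvPolynomial.map (algebraMap Λ R) (F₀ j) ∈ Q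
    rw [hF j]
    exact hQ (Ideal.subset_span ⟨j, rfl⟩)
  obtain ⟨hr, hf⟩ := noeth_data Λ n c F₀ h₀
    (Q.comap (algebraMap (MvPolynomial (Fin n) Λ) (MvPolynomial (Fin n) R))) hQ₀
  constructor
  · intro i hi
    have hfl : Module.Flat Λ (LocalizedModule
        (Q.comap (algebraMap (MvPolynomial (Fin n) Λ) (MvPolynomial (Fin n) R))).primeCompl
        (MvPolynomial (Fin n) Λ ⧸
          (Ideal.ofList ((List.ofFn F₀).take i) ⊔ Ideal.span {F₀ ⟨i, hi⟩}))) := by
      rw [ofList_take_succ Λ n c F₀ i hi]
      exact hf (i + 1) hi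
    have h1 := isSMulRegular_of_noeth Λ R n (Ideal.ofList ((List.ofFn F₀).take i)) Q
      (F₀ ⟨i, hi⟩) (hr i hi) hfl
    have aux : ∀ (J : Ideal (MvPolynomial (Fin n) R)) (f : MvPolynomial (Fin n) R),
        J = (Ideal.ofList ((List.ofFn F₀).take i)).map
          (algebraMap (MvPolynomial (Fin n) Λ) (MvPolynomial (Fin n) R)) →
        f = algebraMap (MvPolynomial (Fin n) Λ) (MvPolynomial (Fin n) R) (F₀ ⟨i, hi⟩) →
        IsSMulRegular (LocalizedModule Q.primeCompl (MvPolynomial (Fin n) R ⧸ J)) f := by
      intro J f hJ hf'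
      subst hJ hf'
      exact h1
    exact aux _ _ (ofList_take_eq_map Λ R n c F₀ F hF i) (hF ⟨i, hi⟩).symm
  · intro i hi
    have h1 := flat_of_noeth Λ R n (Ideal.ofList ((List.ofFn F₀).take i)) Q (hf i hi)
    have aux : ∀ (J : Ideal (MvPolynomial (Fin n) R)),
        J = (Ideal.ofList ((List.ofFn F₀).take i)).map
          (algebraMap (MvPolynomial (Fin n) Λ) (MvPolynomial (Fin n) R)) →
        Module.Flat R (LocalizedModule Q.primeCompl (MvPolynomial (Fin n) R ⧸ J)) := by
      intro J hJ
      subst hJ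
      exact h1
    exact aux _ (ofList_take_eq_map Λ R n c F₀ F hF i)

end Transfer

section Main

variable (R : Type u) [CommRing R] (n c : ℕ) (F : Fin c → MvPolynomial (Fin n) R)

/-- regularity and flatness of the successive quotients, over an arbitrary base ring -/
theorem data (h : Synt.IsRelGCI R n c F) (Q : Ideal (MvPolynomial (Fin n) R))
    [Q.IsPrime] (hQ : Ideal.span (Set.range F) ≤ Q) :
    (∀ i (hi : i < c), IsSMulRegular (LocalizedModule Q.primeCompl
        (MvPolynomial (Fin n) R ⧸ Ideal.ofList ((List.ofFn F).take i))) (F ⟨i, hi⟩)) ∧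
      ∀ i ≤ c, Module.Flat R (LocalizedModule Q.primeCompl
        (MvPolynomial (Fin n) R ⧸ Ideal.ofList ((List.ofFn F).take i))) := by
  obtain ⟨R₀, F₀, hft, hF₀, hrel⟩ := exists_descent R n c F h
  haveI : IsNoetherianRing R₀ := Algebra.FiniteType.isNoetherianRing ℤ R₀
  exact data_of_model R₀ R n c F₀ F hF₀ hrel Q hQ

/-- **The relations of a relative global complete intersection form a regular sequence in the
local rings of the polynomial ring.** -/
theorem isRegular_localization (h : Synt.IsRelGCI R n c F) (Q : Ideal (MvPolynomial (Fin n) R))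
    [Q.IsPrime] (hQ : Ideal.span (Set.range F) ≤ Q) :
    RingTheory.Sequence.IsRegular (Localization.AtPrime Q)
      ((List.ofFn F).map (algebraMap (MvPolynomial (Fin n) R) (Localization.AtPrime Q))) := by
  obtain ⟨hr, -⟩ := data R n c F h Q hQ
  have hmem : ∀ r ∈ (List.ofFn F).map (algebraMap (MvPolynomial (Fin n) R) (Localization.AtPrime Q)),
      r ∈ IsLocalRing.maximalIdeal (Localization.AtPrime Q) := by
    intro r hr'
    obtain ⟨p, hp, rfl⟩ := List.mem_map.mp hr'
    obtain ⟨j, rfl⟩ := (List.mem_ofFn' F p).mp hp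
    rw [IsLocalization.AtPrime.to_map_mem_maximal_iff (Localization.AtPrime Q) Q]
    exact hQ (Ideal.subset_span ⟨j, rfl⟩)
  rw [IsLocalRing.isRegular_iff_isWeaklyRegular_of_subset_maximalIdeal hmem]
  refine ⟨fun i hi => ?_⟩
  have hi' : i < c := by
    rw [List.length_map, List.length_ofFn] at hi
    exact hi
  obtain ⟨e⟩ := nonempty_equiv_take Q (List.ofFn F) i
  have hget : ((List.ofFn F).map
      (algebraMap (MvPolynomial (Fin n) R) (Localization.AtPrime Q)))[i] =
      algebraMap (MvPolynomial (Fin n) R) (Localization.AtPrime Q) (F ⟨i, hi'⟩) := by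
    rw [List.getElem_map, List.getElem_ofFn]
  rw [hget, isSMulRegular_algebraMap_iff]
  exact (e.isSMulRegular_congr _).mpr (hr i hi')

/-- **The successive quotients are flat over the base.** -/
theorem flat_quotient_take (h : Synt.IsRelGCI R n c F) (Q : Ideal (MvPolynomial (Fin n) R))
    [Q.IsPrime] (hQ : Ideal.span (Set.range F) ≤ Q) (i : ℕ) (hi : i ≤ c) :
    Module.Flat R (Localization.AtPrime Q ⧸ Ideal.ofList
      (((List.ofFn F).take i).map (algebraMap (MvPolynomial (Fin n) R) (Localization.AtPrime Q)))) := by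
  obtain ⟨-, hf⟩ := data R n c F h Q hQ
  obtain ⟨e⟩ := nonempty_equiv_localizedModule Q (Ideal.ofList ((List.ofFn F).take i))
  have h1 : Module.Flat R (Localization.AtPrime Q ⧸ (Ideal.ofList ((List.ofFn F).take i)).map
      (algebraMap (MvPolynomial (Fin n) R) (Localization.AtPrime Q))) :=
    haveI := hf i hi
    Module.Flat.of_linearEquiv (e.restrictScalars R)
  rw [Ideal.map_ofList] at h1
  exact h1

end Main

section Cotangent

variable {P : Type u} [CommRing P] {c : ℕ} (F : Fin c → P)

/-- degree one quasi-regularity, checked locally at the maximal ideals -/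
theorem mem_of_sum_mem_sq
    (hreg : ∀ (J : Ideal P) [J.IsMaximal], Ideal.span (Set.range F) ≤ J →
      RingTheory.Sequence.IsWeaklyRegular (Localization.AtPrime J)
        (List.ofFn fun i => algebraMap P (Localization.AtPrime J) (F i)))
    (s : Fin c → P) (hs : ∑ i, s i * F i ∈ Ideal.span (Set.range F) ^ 2) (i : Fin c) :
    s i ∈ Ideal.span (Set.range F) := by
  classical
  apply Ideal.mem_of_localization_maximal
  intro J hJ
  by_cases hIJ : Ideal.span (Set.range F) ≤ J
  · have hqr := Groth.Agent.S5802.result (Localization.AtPrime J) c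
      (fun i => algebraMap P (Localization.AtPrime J) (F i)) (hreg J hIJ)
    have hspan : Ideal.span (Set.range fun i => algebraMap P (Localization.AtPrime J) (F i)) =
        (Ideal.span (Set.range F)).map (algebraMap P (Localization.AtPrime J)) := by
      rw [Ideal.map_span, ← Set.range_comp]
      rfl
    let Pol : MvPolynomial (Fin c) (Localization.AtPrime J) :=
      ∑ j, MvPolynomial.C (algebraMap P (Localization.AtPrime J) (s j)) * MvPolynomial.X j
    have hhom : Pol.IsHomogeneous 1 :=
      MvPolynomial.IsHomogeneous.sum _ _ _ fun j _ => MvPolynomial.isHomogeneous_C_mul_X _ _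
    have heval : MvPolynomial.eval (fun i => algebraMap P (Localization.AtPrime J) (F i)) Pol ∈
        Ideal.span (Set.range fun i => algebraMap P (Localization.AtPrime J) (F i)) ^ (1 + 1) := by
      have h1 : MvPolynomial.eval (fun i => algebraMap P (Localization.AtPrime J) (F i)) Pol =
          algebraMap P (Localization.AtPrime J) (∑ j, s j * F j) := by
        simp [Pol, map_sum, map_mul]
      rw [h1, hspan, ← Ideal.map_pow]
      exact Ideal.mem_map_of_mem _ hs
    have hcoef := hqr 1 Pol hhom heval (Finsupp.single i 1)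
    have h2 : Pol.coeff (Finsupp.single i 1) = algebraMap P (Localization.AtPrime J) (s i) := by
      simp [Pol, MvPolynomial.coeff_sum, MvPolynomial.coeff_C_mul, MvPolynomial.coeff_X',
        Finsupp.single_left_inj]
    rw [h2, hspan] at hcoef
    exact hcoef
  · obtain ⟨x, hxI, hxJ⟩ := Set.not_subset.mp hIJ
    have htop : (Ideal.span (Set.range F)).map (algebraMap P (Localization.AtPrime J)) = ⊤ :=
      Ideal.eq_top_of_isUnit_mem _ (Ideal.mem_map_of_mem _ hxI)
        (IsLocalization.map_units (Localization.AtPrime J) (⟨x, hxJ⟩ : J.primeCompl))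
    rw [htop]
    exact Submodule.mem_top

/-- the classes of the generators span the conormal module -/
theorem span_toCotangent :
    Submodule.span (P ⧸ Ideal.span (Set.range F)) (Set.range
      (fun i : Fin c => (Ideal.span (Set.range F)).toCotangent
        ⟨F i, Ideal.subset_span (Set.mem_range_self i)⟩)) = ⊤ := by
  rw [eq_top_iff]
  intro y _
  obtain ⟨x, rfl⟩ := Ideal.toCotangent_surjective _ y
  obtain ⟨a, ha⟩ := Ideal.mem_span_range_iff_exists_fun.mp x.2
  have hx : x = ∑ i, a i • (⟨F i, Ideal.subset_span (Set.mem_range_self i)⟩ :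
      Ideal.span (Set.range F)) := by
    apply Subtype.ext
    rw [← ha]
    simp
  rw [hx, map_sum]
  refine Submodule.sum_mem _ fun i _ => ?_
  rw [map_smul, ← algebraMap_smul (P ⧸ Ideal.span (Set.range F)) (a i)]
  exact Submodule.smul_mem _ _ (Submodule.subset_span ⟨i, rfl⟩)

/-- the classes of the generators are linearly independent in the conormal module -/
theorem linearIndependent_toCotangent
    (hreg : ∀ (J : Ideal P) [J.IsMaximal], Ideal.span (Set.range F) ≤ J →
      RingTheory.Sequence.IsWeaklyRegular (Localization.AtPrime J)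
        (List.ofFn fun i => algebraMap P (Localization.AtPrime J) (F i))) :
    LinearIndependent (P ⧸ Ideal.span (Set.range F))
      (fun i : Fin c => (Ideal.span (Set.range F)).toCotangent
        ⟨F i, Ideal.subset_span (Set.mem_range_self i)⟩) := by
  rw [Fintype.linearIndependent_iff]
  intro g hg i
  choose s hs using fun j => Ideal.Quotient.mk_surjective (g j)
  have h1 : ∑ j, s j * F j ∈ Ideal.span (Set.range F) ^ 2 := by
    have h2 : (Ideal.span (Set.range F)).toCotangent
        (∑ j, s j • (⟨F j, Ideal.subset_span (Set.mem_range_self j)⟩ :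
          Ideal.span (Set.range F))) = 0 := by
      rw [map_sum, ← hg]
      refine Finset.sum_congr rfl fun j _ => ?_
      rw [map_smul, ← hs j, ← algebraMap_smul (P ⧸ Ideal.span (Set.range F)) (s j)]
      rfl
    rw [Ideal.toCotangent_eq_zero] at h2
    simpa using h2
  rw [← hs i]
  exact Ideal.Quotient.eq_zero_iff_mem.mpr (mem_of_sum_mem_sq F hreg s h1 i)

end Cotangent

section Final

variable (R : Type u) [CommRing R] (n c : ℕ) (F : Fin c → MvPolynomial (Fin n) R)

/-- **Relative global complete intersections: regular sequence, flat quotients, free conormal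
module.** -/
theorem main (h : Synt.IsRelGCI R n c F)
    (q' : Ideal (MvPolynomial (Fin n) R)) [q'.IsPrime] (hq' : Ideal.span (Set.range F) ≤ q') :
    RingTheory.Sequence.IsRegular (Localization.AtPrime q')
        ((List.ofFn F).map (algebraMap (MvPolynomial (Fin n) R) (Localization.AtPrime q'))) ∧
      (∀ i ≤ c, Module.Flat R (Localization.AtPrime q' ⧸ Ideal.ofList
        (((List.ofFn F).take i).map (algebraMap (MvPolynomial (Fin n) R) (Localization.AtPrime q'))))) ∧
      LinearIndependent (Synt.RelGCIRing R n c F)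
        (fun i : Fin c => (Ideal.span (Set.range F)).toCotangent
          ⟨F i, Ideal.subset_span (Set.mem_range_self i)⟩) ∧
      Submodule.span (Synt.RelGCIRing R n c F) (Set.range
        (fun i : Fin c => (Ideal.span (Set.range F)).toCotangent
          ⟨F i, Ideal.subset_span (Set.mem_range_self i)⟩)) = ⊤ := by
  refine ⟨isRegular_localization R n c F h q' hq', fun i hi => flat_quotient_take R n c F h q' hq' i hi,
    ?_, span_toCotangent F⟩
  apply linearIndependent_toCotangent F
  intro J hJ hIJ
  have := (isRegular_localization R n c F h J hIJ).toIsWeaklyRegular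
  rw [List.map_ofFn] at this
  exact this

end Final

end Groth.Agent.Lib.R2H4.RelGCIReg
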