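import Mathlib
import Groth.Prelude.Def_CAlgX
import Groth.Agent.Lib.H9FlatModelElem
import Groth.Agent.Lib.R2H4IntInjFlat
import Groth.Agent.Lib.R2H4RelGCIReg
import Groth.Agent.Lib.H9QRegNoeth
import Groth.Agent.Lib.H9QGor711
import Groth.Agent.Lib.H9RegImmFlatBC
import Groth.Agent.Lib.Helper28FibreTrans
import Groth.Agent.Lib.Helper28FlatNormal
import Groth.Agent.Lib.Helper3FlatBC
import Groth.Agent.Lib.H6xQRegBC
import Groth.Agent.Lib.Helper3ThickSmooth

/-!
# Fibrewise quasi-regular sequences and flatness of the quotient (helper4, round 2)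

Main results:
* `exists_flat_ring_model` : Noetherian flat ring model of a flat finitely presented algebra.
* `flat_quotient_of_fibrewise_quasiRegular` : `A → B` flat f.p., `f` quasi-regular on all fibres
  `p.Fiber B` ⇒ `B/(f)` flat over `A`.
* `flat_quotient_lift` (S9270) and `smooth_quotient_lift` (S9271): lifting along a locally
  nilpotent thickening of the base.
-/

set_option autoImplicit false
set_option linter.style.haveILetI false
universe u
open TensorProduct

namespace Groth.Agent.Lib.R2H4.FibQReg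

section FQ1

attribute [local instance] Algebra.TensorProduct.rightAlgebra

/-- ring part of helper9's Noetherian approximation -/
theorem exists_ring_model (A B : Type u) [CommRing A] [CommRing B] [Algebra A B]
    [Algebra.FinitePresentation A B] [Module.Flat A B] (T : Finset B) :
    ∃ (A₀ : Type u) (_ : CommRing A₀) (_ : Algebra A₀ A) (B₀ : Type u) (_ : CommRing B₀)
      (_ : Algebra A₀ B₀) (_ : Algebra B₀ B) (_ : Algebra A₀ B) (_ : IsScalarTower A₀ A B)
      (_ : IsScalarTower A₀ B₀ B),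
      Algebra.FiniteType ℤ A₀ ∧ Algebra.FiniteType A₀ B₀ ∧
        Algebra.IsPushout A₀ A B₀ B ∧ (T : Set B) ⊆ Set.range (algebraMap B₀ B) := by
  obtain ⟨A₀, i1, i2, B₀, i3, i4, i5, i6, i7, i8, M₀, _, _, _, _, _, _, _, _, _, f, hA₀, hB₀, -, -,
    hpush, -, -, hT⟩ :=
    Groth.Agent.Lib.H9FlatModelElem.exists_flat_module_model_elem A B B T
  exact ⟨A₀, i1, i2, B₀, i3, i4, i5, i6, i7, i8, hA₀, hB₀, hpush, hT⟩

/-- enlarging the base of a model -/
theorem model_step (A B A₀ B₀ A₁ : Type u) [CommRing A] [CommRing B] [Algebra A B]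
    [CommRing A₀] [Algebra A₀ A] [CommRing B₀] [Algebra A₀ B₀] [Algebra B₀ B] [Algebra A₀ B]
    [IsScalarTower A₀ A B] [IsScalarTower A₀ B₀ B] [CommRing A₁] [Algebra A₀ A₁] [Algebra A₁ A]
    [IsScalarTower A₀ A₁ A] (hpush : Algebra.IsPushout A₀ A B₀ B) :
    ∃ (_ : Algebra (A₁ ⊗[A₀] B₀) B) (_ : Algebra A₁ B) (_ : IsScalarTower A₁ A B)
      (_ : IsScalarTower A₁ (A₁ ⊗[A₀] B₀) B),
      Algebra.IsPushout A₁ A (A₁ ⊗[A₀] B₀) B ∧
        ∀ b : B₀, algebraMap (A₁ ⊗[A₀] B₀) B (1 ⊗ₜ b) = algebraMap B₀ B b := by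
  letI algA₁B : Algebra A₁ B := ((algebraMap A B).comp (algebraMap A₁ A)).toAlgebra
  haveI tw1 : IsScalarTower A₁ A B := .of_algebraMap_eq' rfl
  haveI tw2 : IsScalarTower A₀ A₁ B := .of_algebraMap_eq fun x => by
    rw [IsScalarTower.algebraMap_apply A₀ A B, IsScalarTower.algebraMap_apply A₁ A B,
      ← IsScalarTower.algebraMap_apply A₀ A₁ A]
  let φ : A₁ ⊗[A₀] B₀ →ₐ[A₀] B := Algebra.TensorProduct.lift
    (IsScalarTower.toAlgHom A₀ A₁ B) (IsScalarTower.toAlgHom A₀ B₀ B) (fun _ _ => Commute.all _ _)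
  letI algB₁B : Algebra (A₁ ⊗[A₀] B₀) B := φ.toRingHom.toAlgebra
  have hφ1 : ∀ a : A₁, algebraMap (A₁ ⊗[A₀] B₀) B (a ⊗ₜ 1) = algebraMap A₁ B a := fun a => by
    change φ (a ⊗ₜ 1) = _
    simp [φ]
  have hφ2 : ∀ b : B₀, algebraMap (A₁ ⊗[A₀] B₀) B (1 ⊗ₜ b) = algebraMap B₀ B b := fun b => by
    change φ (1 ⊗ₜ b) = _
    simp [φ]
  haveI tw3 : IsScalarTower A₁ (A₁ ⊗[A₀] B₀) B := .of_algebraMap_eq fun a => by
    rw [Algebra.TensorProduct.algebraMap_apply, hφ1]
    rfl
  haveI tw4 : IsScalarTower B₀ (A₁ ⊗[A₀] B₀) B := .of_algebraMap_eq fun b => by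
    rw [← hφ2]
    rfl
  haveI tw5 : IsScalarTower A₀ (A₁ ⊗[A₀] B₀) B := .of_algebraMap_eq fun a => (φ.commutes a).symm
  have hpush' : Algebra.IsPushout A₁ A (A₁ ⊗[A₀] B₀) B :=
    (Algebra.IsPushout.comp_iff A₀ A₁ B₀ (S' := A₁ ⊗[A₀] B₀) (T := A) (T' := B)).mp hpush
  exact ⟨algB₁B, algA₁B, tw1, tw3, hpush', hφ2⟩

/-- **Noetherian flat ring model** of a flat finitely presented algebra, keeping finitely many
elements. -/
theorem exists_flat_ring_model (A B : Type u) [CommRing A] [CommRing B] [Algebra A B]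
    [Algebra.FinitePresentation A B] [Module.Flat A B] (T : Finset B) :
    ∃ (A₁ : Type u) (_ : CommRing A₁) (_ : Algebra A₁ A) (B₁ : Type u) (_ : CommRing B₁)
      (_ : Algebra A₁ B₁) (_ : Algebra B₁ B) (_ : Algebra A₁ B) (_ : IsScalarTower A₁ A B)
      (_ : IsScalarTower A₁ B₁ B),
      Algebra.FiniteType ℤ A₁ ∧ Algebra.FiniteType A₁ B₁ ∧ Module.Flat A₁ B₁ ∧
        Algebra.IsPushout A₁ A B₁ B ∧ (T : Set B) ⊆ Set.range (algebraMap B₁ B) := by
  classical
  obtain ⟨A₀, _, _, B₀, _, _, _, _, _, _, hA₀, hB₀, hpush, hT⟩ := exists_ring_model A B T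
  haveI : IsNoetherianRing A₀ := Algebra.FiniteType.isNoetherianRing ℤ A₀
  haveI : Algebra.FinitePresentation A₀ B₀ :=
    Algebra.FinitePresentation.of_finiteType.mp hB₀
  have hflat : Module.Flat A (A ⊗[A₀] B₀) :=
    Module.Flat.of_linearEquiv (Algebra.IsPushout.equiv A₀ A B₀ B).toLinearEquiv
  obtain ⟨t, ht⟩ := Groth.Agent.Lib.Helper26.FlatLim.Sys.flat_stage'
    (Groth.Agent.Lib.R2H4.IntInjFlat.sys_adjoin A₀ A) B₀ B₀ hflat
  haveI hA₁ft : Algebra.FiniteType A₀ (Algebra.adjoin A₀ (t : Set A)) :=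
    (Subalgebra.fg_iff_finiteType _).mp (Subalgebra.fg_adjoin_finset t)
  haveI : Algebra.FiniteType ℤ (Algebra.adjoin A₀ (t : Set A)) := Algebra.FiniteType.trans hA₀ hA₁ft
  obtain ⟨i1, i2, i3, i4, hpush', hφ2⟩ :=
    model_step A B A₀ B₀ (Algebra.adjoin A₀ (t : Set A)) hpush
  refine ⟨Algebra.adjoin A₀ (t : Set A), inferInstance, inferInstance,
    (Algebra.adjoin A₀ (t : Set A)) ⊗[A₀] B₀, inferInstance, inferInstance, i1,
    i2, i3, i4, inferInstance, inferInstance, ht, hpush', ?_⟩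
  intro x hx
  obtain ⟨b, rfl⟩ := hT hx
  exact ⟨1 ⊗ₜ b, hφ2 b⟩

end FQ1

end Groth.Agent.Lib.R2H4.FibQReg

namespace Groth.Agent.Lib.R2H4.FibQReg

section FQ2

/-- Quasi-regularity descends along faithfully flat ring maps. -/
theorem isQuasiRegular_of_faithfullyFlat {S S' : Type u} [CommRing S] [CommRing S']
    [Algebra S S'] [Module.FaithfullyFlat S S'] {r : ℕ} (f : Fin r → S)
    (h : CAlgX.IsQuasiRegular (algebraMap S S' ∘ f)) : CAlgX.IsQuasiRegular f := by
  intro n P hP hmem d
  have hspan : Ideal.span (Set.range (algebraMap S S' ∘ f)) =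
      (Ideal.span (Set.range f)).map (algebraMap S S') := by
    rw [Ideal.map_span, ← Set.range_comp]
  have h1 := h n (MvPolynomial.map (algebraMap S S') P) (hP.map _) (by
    rw [MvPolynomial.eval_map, ← MvPolynomial.eval₂_comp, hspan, ← Ideal.map_pow]
    exact Ideal.mem_map_of_mem (algebraMap S S') hmem) d
  rw [MvPolynomial.coeff_map, hspan] at h1
  rw [← Ideal.comap_map_eq_self_of_faithfullyFlat (B := S') (Ideal.span (Set.range f))]
  exact h1

end FQ2

end Groth.Agent.Lib.R2H4.FibQReg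

namespace Groth.Agent.Lib.R2H4.FibQReg

section FQ3

attribute [local instance] Algebra.TensorProduct.rightAlgebra

/-- a pushout along a field extension is faithfully flat -/
theorem faithfullyFlat_of_field_pushout (κ L Φ T : Type u) [Field κ] [Field L] [CommRing Φ]
    [CommRing T] [Algebra κ L] [Algebra κ Φ] [Algebra L T] [Algebra Φ T] [Algebra κ T]
    [IsScalarTower κ L T] [IsScalarTower κ Φ T] [Algebra.IsPushout κ L Φ T] :
    Module.FaithfullyFlat Φ T := by
  have h : Algebra.IsPushout κ Φ L T := Algebra.IsPushout.symm inferInstance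
  have hbc : IsBaseChange Φ (IsScalarTower.toAlgHom κ L T).toLinearMap := h.out
  exact Module.FaithfullyFlat.of_linearEquiv Φ (Φ ⊗[κ] L) hbc.equiv.symm

end FQ3

end Groth.Agent.Lib.R2H4.FibQReg

namespace Groth.Agent.Lib.R2H4.FibQReg

section FQ4

attribute [local instance] Algebra.TensorProduct.rightAlgebra

set_option synthInstance.maxHeartbeats 400000 in
set_option maxHeartbeats 1600000 in
/-- the map of fibre rings induced by a pushout square is faithfully flat -/
theorem exists_fibre_map (A₁ A B₁ B : Type u) [CommRing A₁] [CommRing A] [CommRing B₁] [CommRing B]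
    [Algebra A₁ A] [Algebra A₁ B₁] [Algebra A B] [Algebra B₁ B] [Algebra A₁ B]
    [IsScalarTower A₁ A B] [IsScalarTower A₁ B₁ B] [Algebra.IsPushout A₁ A B₁ B]
    (p : Ideal A) [p.IsPrime] (p₁ : Ideal A₁) [p₁.IsPrime]
    (hp₁ : p₁ = p.comap (algebraMap A₁ A)) :
    ∃ χ : p₁.Fiber B₁ →+* p.Fiber B,
      (∀ b₁ : B₁, χ (1 ⊗ₜ b₁) = 1 ⊗ₜ algebraMap B₁ B b₁) ∧
        (letI := χ.toAlgebra; Module.FaithfullyFlat (p₁.Fiber B₁) (p.Fiber B)) := by
  let ι : p₁.ResidueField →ₐ[A₁] p.ResidueField :=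
    Ideal.ResidueField.mapₐ p₁ p (Algebra.ofId A₁ A) hp₁
  letI : Algebra p₁.ResidueField p.ResidueField := ι.toRingHom.toAlgebra
  haveI : IsScalarTower A₁ p₁.ResidueField p.ResidueField :=
    .of_algebraMap_eq fun a => (ι.commutes a).symm
  letI : Algebra B₁ (p.Fiber B) := ((algebraMap B (p.Fiber B)).comp (algebraMap B₁ B)).toAlgebra
  haveI : IsScalarTower B₁ B (p.Fiber B) := .of_algebraMap_eq' rfl
  haveI : IsScalarTower p₁.ResidueField p.ResidueField (p.Fiber B) := inferInstance
  haveI : IsScalarTower A B (p.Fiber B) := .of_algebraMap_eq fun a => by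
    change (algebraMap A p.ResidueField a) ⊗ₜ[A] (1 : B) = (1 : p.ResidueField) ⊗ₜ[A] (algebraMap A B a)
    rw [Algebra.algebraMap_eq_smul_one, Algebra.algebraMap_eq_smul_one (A := B), smul_tmul]
  haveI : IsScalarTower A₁ B (p.Fiber B) := .of_algebraMap_eq fun a => by
    rw [IsScalarTower.algebraMap_apply A₁ A B, ← IsScalarTower.algebraMap_apply A B (p.Fiber B),
      IsScalarTower.algebraMap_apply A₁ p.ResidueField (p.Fiber B),
      IsScalarTower.algebraMap_apply A₁ A p.ResidueField,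
      ← IsScalarTower.algebraMap_apply A p.ResidueField (p.Fiber B)]
  haveI : IsScalarTower A₁ B₁ (p.Fiber B) := .of_algebraMap_eq fun a => by
    rw [IsScalarTower.algebraMap_apply B₁ B (p.Fiber B), ← IsScalarTower.algebraMap_apply A₁ B₁ B,
      ← IsScalarTower.algebraMap_apply A₁ B (p.Fiber B)]
  have step1 : Algebra.IsPushout A₁ p.ResidueField B₁ (p.Fiber B) :=
    (Algebra.IsPushout.comp_iff A₁ A B₁ (S' := B) (T := p.ResidueField) (T' := p.Fiber B)).mpr
      inferInstance
  let ψ : p₁.Fiber B₁ →ₐ[A₁] p.Fiber B := Algebra.TensorProduct.lift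
    (IsScalarTower.toAlgHom A₁ p₁.ResidueField (p.Fiber B))
    (IsScalarTower.toAlgHom A₁ B₁ (p.Fiber B)) (fun _ _ => Commute.all _ _)
  letI algΦT : Algebra (p₁.Fiber B₁) (p.Fiber B) := ψ.toRingHom.toAlgebra
  have hψ1 : ∀ x : p₁.ResidueField, algebraMap (p₁.Fiber B₁) (p.Fiber B) (x ⊗ₜ 1) =
      algebraMap p₁.ResidueField (p.Fiber B) x := fun x => by
    change ψ (x ⊗ₜ 1) = _
    simp [ψ]
  have hψ2 : ∀ b : B₁, algebraMap (p₁.Fiber B₁) (p.Fiber B) (1 ⊗ₜ b) =
      algebraMap B₁ (p.Fiber B) b := fun b => by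
    change ψ (1 ⊗ₜ b) = _
    simp only [ψ, Algebra.TensorProduct.lift_tmul, map_one, one_mul]
    rfl
  haveI : IsScalarTower p₁.ResidueField (p₁.Fiber B₁) (p.Fiber B) :=
    IsScalarTower.of_algebraMap_eq (R := p₁.ResidueField) (S := p₁.Fiber B₁) (A := p.Fiber B)
      fun x => by
        rw [← hψ1]
        rfl
  haveI : IsScalarTower B₁ (p₁.Fiber B₁) (p.Fiber B) := .of_algebraMap_eq fun b => by
    rw [← hψ2]
    rfl
  haveI : IsScalarTower A₁ (p₁.Fiber B₁) (p.Fiber B) :=
    .of_algebraMap_eq fun a => (ψ.commutes a).symm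
  have step2 : Algebra.IsPushout p₁.ResidueField p.ResidueField (p₁.Fiber B₁) (p.Fiber B) :=
    (Algebra.IsPushout.comp_iff A₁ p₁.ResidueField B₁ (S' := p₁.Fiber B₁) (T := p.ResidueField)
      (T' := p.Fiber B)).mp step1
  refine ⟨ψ.toRingHom, fun b₁ => ?_, ?_⟩
  · have := hψ2 b₁
    exact this
  · exact faithfullyFlat_of_field_pushout p₁.ResidueField p.ResidueField (p₁.Fiber B₁) (p.Fiber B)

end FQ4

end Groth.Agent.Lib.R2H4.FibQReg

namespace Groth.Agent.Lib.R2H4.FibQReg

section FQ5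

open Groth.Agent.Lib.R2H4.RelGCIFlat

section Noeth

variable {A : Type u} [CommRing A] [IsNoetherianRing A] {P : Type u} [CommRing P] [Algebra A P]
  [IsNoetherianRing P] [Module.Flat A P] {c : ℕ} (G : Fin c → P)

/-- If `G` is a regular sequence on the fibre local ring at `Q`, then the quotient of the
localization at `Q` by `G` is flat over `A` (local criterion of flatness, `S5774`);
`P` any flat Noetherian `A`-algebra. -/
theorem flat_quotient_localization' (Q : Ideal P) [Q.IsPrime]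
    (hreg : RingTheory.Sequence.IsRegular (EGA4.FibLocRing A P Q)
      ((List.ofFn G).map (algebraMap P (EGA4.FibLocRing A P Q)))) :
    Module.Flat A (Localization.AtPrime Q ⧸ (Ideal.span (Set.range G)).map
      (algebraMap P (Localization.AtPrime Q))) := by
  set p : Ideal A := Q.under A with hp
  have hlies : Q.LiesOver p := ⟨rfl⟩
  let Ap := Localization.AtPrime p
  let B := Localization.AtPrime Q
  let algApB : Algebra Ap B := Localization.AtPrime.algebraOfLiesOver p Q
  have hLO : Localization.AtPrime.IsLiesOverAlgebra p Q := ⟨rfl⟩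
  have hloc : IsLocalHom (algebraMap Ap B) := by
    rw [Localization.AtPrime.IsLiesOverAlgebra.algebraMap_eq (p := p) (P := Q)]
    infer_instance
  have hflatApB : Module.Flat Ap B := inferInstance
  set C := EGA4.FibLocRing A P Q with hC
  set fs : List B := (List.ofFn G).map (algebraMap P B) with hfs
  have hcomp : (⇑(algebraMap B C) ∘ ⇑(algebraMap P B)) = ⇑(algebraMap P C) := by
    funext x
    exact (IsScalarTower.algebraMap_apply P B C x).symm
  have h1 : RingTheory.Sequence.IsWeaklyRegular C (fs.map (algebraMap B C)) := by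
    have := hreg.toIsWeaklyRegular
    rw [hfs, List.map_map, hcomp]
    exact this
  have h2 : RingTheory.Sequence.IsWeaklyRegular C fs :=
    (RingTheory.Sequence.isWeaklyRegular_map_algebraMap_iff C C fs).mp h1
  have hideal : ((IsLocalRing.maximalIdeal Ap).map (algebraMap Ap B) • (⊤ : Submodule B B)) =
      (Q.comap (algebraMap A P)).map (algebraMap A B) := by
    rw [smul_eq_mul, Ideal.mul_top, ← Localization.AtPrime.map_eq_maximalIdeal, Ideal.map_map,
      ← IsScalarTower.algebraMap_eq]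
  let e : C ≃ₗ[B] (B ⧸ ((IsLocalRing.maximalIdeal Ap).map (algebraMap Ap B) •
      (⊤ : Submodule B B))) := Submodule.quotEquivOfEq _ _ hideal.symm
  have h3 := (e.isWeaklyRegular_congr fs).mp h2
  obtain ⟨-, hflat⟩ := Groth.Agent.S5774.result Ap B B fs h3
  have h4 := hflat fs.length le_rfl
  rw [List.take_length] at h4
  have hsub : (Ideal.ofList fs • (⊤ : Submodule B B)) =
      (Ideal.span (Set.range G)).map (algebraMap P B) := by
    rw [smul_eq_mul, Ideal.mul_top, hfs, ← Ideal.map_ofList, ofList_ofFn]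
  have h5 : Module.Flat Ap (B ⧸ (Ideal.span (Set.range G)).map (algebraMap P B)) :=
    Module.Flat.of_linearEquiv ((Submodule.quotEquivOfEq _ _ hsub).symm.restrictScalars Ap)
  exact Module.Flat.trans A Ap _

end Noeth

end FQ5

end Groth.Agent.Lib.R2H4.FibQReg

namespace Groth.Agent.Lib.R2H4.FibQReg

section FQ6

open Groth.Agent.Lib.R2H4.RelGCIFlat

section Noeth

variable {A : Type u} [CommRing A] {P : Type u} [CommRing P] [Algebra A P]
  [IsNoetherianRing P] {c : ℕ} (G : Fin c → P)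

/-- quasi-regular on the fibre ring ⇒ regular on the fibre local ring -/
theorem isRegular_fibLocRing_of_isQuasiRegular (Q : Ideal P) [Q.IsPrime] (hGQ : ∀ i, G i ∈ Q)
    (hq : CAlgX.IsQuasiRegular
      (fun i => ((1 : (Q.comap (algebraMap A P)).ResidueField) ⊗ₜ[A] G i :
        (Q.comap (algebraMap A P)).Fiber P))) :
    RingTheory.Sequence.IsRegular (EGA4.FibLocRing A P Q)
      ((List.ofFn G).map (algebraMap P (EGA4.FibLocRing A P Q))) := by
  obtain ⟨Q', hQ', hQQ'⟩ := Groth.Agent.Lib.Helper28.exists_prime_fiber_comap_eq (A := A) Q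
  obtain ⟨e, he⟩ := Groth.Agent.Lib.H9QGor711.exists_localization_fiber_equiv_compat
    (Q.comap (algebraMap A P)) Q' Q hQQ'
  haveI : IsLocalRing (EGA4.FibLocRing A P Q) :=
    Groth.Agent.Lib.Helper28.isLocalRing_fibLocRing (A := A) Q
  haveI : IsNoetherianRing (Localization.AtPrime Q) :=
    IsLocalization.isNoetherianRing Q.primeCompl _ inferInstance
  haveI : IsNoetherianRing (EGA4.FibLocRing A P Q) := inferInstance
  let e' : Localization.AtPrime Q' →+* EGA4.FibLocRing A P Q := e.toRingHom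
  let ψ : (Q.comap (algebraMap A P)).Fiber P →+* EGA4.FibLocRing A P Q :=
    e'.comp (algebraMap ((Q.comap (algebraMap A P)).Fiber P) (Localization.AtPrime Q'))
  have hψflat : ψ.Flat := by
    have heflat : @RingHom.Flat (Localization.AtPrime Q') (EGA4.FibLocRing A P Q) _ _ e' := by
      have hb : Function.Bijective e' := e.bijective
      exact RingHom.Flat.of_bijective hb
    refine RingHom.Flat.comp ?_ heflat
    rw [RingHom.flat_algebraMap_iff]
    exact IsLocalization.flat _ Q'.primeCompl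
  have hψ : ∀ b : P, ψ ((1 : (Q.comap (algebraMap A P)).ResidueField) ⊗ₜ[A] b) =
      algebraMap P (EGA4.FibLocRing A P Q) b := fun b => he b
  have h1 := Groth.Agent.Lib.H9RegImmFlatBC.isQuasiRegular_map ψ hψflat _ hq
  set rs : List (EGA4.FibLocRing A P Q) :=
    (List.ofFn G).map (algebraMap P (EGA4.FibLocRing A P Q)) with hrs
  have hlen : rs.length = c := by rw [hrs, List.length_map, List.length_ofFn]
  have hget : rs.get = fun i : Fin rs.length =>
      (ψ ∘ fun i => ((1 : (Q.comap (algebraMap A P)).ResidueField) ⊗ₜ[A] G i :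
        (Q.comap (algebraMap A P)).Fiber P)) (Fin.cast hlen i) := by
    funext i
    simp only [Function.comp_apply, hψ]
    simp only [hrs, List.get_eq_getElem, List.getElem_map, List.getElem_ofFn]
    rfl
  have h2 : CAlgX.IsQuasiRegular rs.get := by
    rw [hget]
    exact Groth.Agent.Lib.H9RegImmFlatBC.isQuasiRegular_cast hlen _ h1
  refine Groth.Agent.Lib.H9QRegNoeth.isRegular_of_isQuasiRegular rs h2 ?_
  intro htop
  have hle : Ideal.ofList rs ≤ IsLocalRing.maximalIdeal (EGA4.FibLocRing A P Q) := by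
    rw [hrs, ← Ideal.map_ofList, Ideal.map_le_iff_le_comap]
    intro x hx
    have hxQ : x ∈ Q := by
      have : Ideal.ofList (List.ofFn G) ≤ Q := by
        rw [ofList_ofFn, Ideal.span_le]
        rintro _ ⟨i, rfl⟩
        exact hGQ i
      exact this hx
    rw [Ideal.mem_comap, IsScalarTower.algebraMap_apply P (Localization.AtPrime Q)
      (EGA4.FibLocRing A P Q)]
    have h3 : algebraMap P (Localization.AtPrime Q) x ∈
        IsLocalRing.maximalIdeal (Localization.AtPrime Q) :=
      (IsLocalization.AtPrime.to_map_mem_maximal_iff (Localization.AtPrime Q) Q x).mpr hxQ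
    by_contra hcon
    have hu : IsUnit (algebraMap (Localization.AtPrime Q) (EGA4.FibLocRing A P Q)
        (algebraMap P (Localization.AtPrime Q) x)) := by
      rwa [IsLocalRing.mem_maximalIdeal, mem_nonunits_iff, not_not] at hcon
    have hloc : IsLocalHom (algebraMap (Localization.AtPrime Q) (EGA4.FibLocRing A P Q)) :=
      IsLocalHom.of_surjective _ Ideal.Quotient.mk_surjective
    exact h3 (hloc.map_nonunit _ hu)
  rw [htop] at hle
  exact (IsLocalRing.maximalIdeal.isMaximal _).ne_top (top_le_iff.mp hle)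

end Noeth

end FQ6

end Groth.Agent.Lib.R2H4.FibQReg

namespace Groth.Agent.Lib.R2H4.FibQReg

section FQ7

open Groth.Agent.Lib.R2H4.RelGCIFlat Groth.Agent.Lib.R2H4.RelGCIReg

/-- transfer of flatness at a point of a quotient along a pushout square -/
theorem flat_localizedModule_quotient_of_isPushout (A₁ A B₁ B : Type u) [CommRing A₁] [CommRing A]
    [CommRing B₁] [CommRing B] [Algebra A₁ A] [Algebra A₁ B₁] [Algebra A B] [Algebra B₁ B]
    [Algebra A₁ B] [IsScalarTower A₁ A B] [IsScalarTower A₁ B₁ B] [Algebra.IsPushout A₁ A B₁ B]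
    (J₁ : Ideal B₁) (q : Ideal B) [q.IsPrime]
    (h : Module.Flat A₁ (LocalizedModule (q.comap (algebraMap B₁ B)).primeCompl (B₁ ⧸ J₁))) :
    Module.Flat A (LocalizedModule q.primeCompl (B ⧸ J₁.map (algebraMap B₁ B))) := by
  have hpo : Algebra.IsPushout B₁ B (B₁ ⧸ J₁) (B ⧸ J₁.map (algebraMap B₁ B)) :=
    isPushout_quotient J₁
  let φ : (B₁ ⧸ J₁) →ₗ[B₁] (B ⧸ J₁.map (algebraMap B₁ B)) :=
    (IsScalarTower.toAlgHom B₁ (B₁ ⧸ J₁) (B ⧸ J₁.map (algebraMap B₁ B))).toLinearMap
  have hφ : IsBaseChange B φ := hpo.out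
  have hφ' : IsBaseChange A (φ.restrictScalars A₁) :=
    Groth.Agent.Lib.Helper3.FlatLoc.isBaseChange_restrictScalars_of_isPushout
      (A := A₁) (R := A) (PA := B₁) (PR := B) φ hφ
  exact Groth.Agent.Lib.Helper3.FlatLoc.flat_localizedModule_of_isBaseChange φ hφ'
    (q.comap (algebraMap B₁ B)).primeCompl q.primeCompl (fun _ hs => hs) h

end FQ7

end Groth.Agent.Lib.R2H4.FibQReg

namespace Groth.Agent.Lib.R2H4.FibQReg

section FQ8

open Groth.Agent.Lib.R2H4.RelGCIFlat Groth.Agent.Lib.R2H4.RelGCIReg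

/-- localization of a quotient at a prime not containing the ideal is trivial -/
theorem subsingleton_localizedModule_quotient {B : Type u} [CommRing B] (J : Ideal B)
    (q : Ideal B) [q.IsPrime] (h : ¬ J ≤ q) :
    Subsingleton (LocalizedModule q.primeCompl (B ⧸ J)) := by
  obtain ⟨x, hxJ, hxq⟩ := Set.not_subset.mp h
  refine ⟨fun a b => ?_⟩
  suffices hz : ∀ z : LocalizedModule q.primeCompl (B ⧸ J), z = 0 by rw [hz a, hz b]
  intro z
  induction z using LocalizedModule.induction_on with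
  | h m s =>
    rw [← LocalizedModule.zero_mk s, LocalizedModule.mk_eq]
    refine ⟨⟨x, hxq⟩, ?_⟩
    obtain ⟨b, rfl⟩ := Ideal.Quotient.mk_surjective m
    rw [smul_zero, smul_zero, Submonoid.smul_def, Submonoid.smul_def]
    change x • s.1 • Ideal.Quotient.mk J b = 0
    have h1 : x • s.1 • Ideal.Quotient.mk J b = Ideal.Quotient.mk J (x * (s.1 * b)) := by
      rw [map_mul, map_mul, Algebra.smul_def, Algebra.smul_def]
      rfl
    rw [h1, Ideal.Quotient.eq_zero_iff_mem]
    exact Ideal.mul_mem_right _ _ hxJ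

/-- **Fibrewise quasi-regular sequences have flat quotient** (non-Noetherian, EGA IV 11.3.8-type):
`B` a flat finitely presented `A`-algebra, `f` a finite sequence of `B` whose image in every fibre
ring `κ(p) ⊗[A] B` is quasi-regular.  Then `B/(f)` is flat over `A`. -/
theorem flat_quotient_of_fibrewise_quasiRegular (A B : Type u) [CommRing A] [CommRing B]
    [Algebra A B] [Algebra.FinitePresentation A B] [Module.Flat A B] {r : ℕ} (f : Fin r → B)
    (hfib : ∀ (p : Ideal A) [p.IsPrime],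
      CAlgX.IsQuasiRegular (fun i => ((1 : p.ResidueField) ⊗ₜ[A] f i : p.Fiber B))) :
    Module.Flat A (B ⧸ Ideal.span (Set.range f)) := by
  classical
  obtain ⟨A₁, _, _, B₁, _, _, _, _, _, _, hA₁, hB₁, hflat₁, hpush, hT⟩ :=
    exists_flat_ring_model A B (Finset.univ.image f)
  haveI : IsNoetherianRing A₁ := Algebra.FiniteType.isNoetherianRing ℤ A₁
  haveI : IsNoetherianRing B₁ := Algebra.FiniteType.isNoetherianRing A₁ B₁
  have hf₁ : ∀ i, ∃ b₁ : B₁, algebraMap B₁ B b₁ = f i := fun i =>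
    hT (by simp)
  choose f₁ hf₁ using hf₁
  set J₁ : Ideal B₁ := Ideal.span (Set.range f₁) with hJ₁
  have hJ : Ideal.span (Set.range f) = J₁.map (algebraMap B₁ B) := by
    rw [hJ₁, Ideal.map_span, ← Set.range_comp]
    congr 2
    funext i
    exact (hf₁ i).symm
  rw [hJ]
  apply Module.flat_of_isLocalized_maximal B (B ⧸ J₁.map (algebraMap B₁ B))
    (fun P _ => LocalizedModule P.primeCompl (B ⧸ J₁.map (algebraMap B₁ B)))
    (fun P _ => LocalizedModule.mkLinearMap P.primeCompl (B ⧸ J₁.map (algebraMap B₁ B)))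
  intro q hq
  haveI : q.IsPrime := hq.isPrime
  by_cases hJq : J₁.map (algebraMap B₁ B) ≤ q
  swap
  · haveI := subsingleton_localizedModule_quotient _ q hJq
    infer_instance
  set q₁ : Ideal B₁ := q.comap (algebraMap B₁ B) with hq₁
  haveI : q₁.IsPrime := Ideal.comap_isPrime _ _
  set p : Ideal A := q.comap (algebraMap A B) with hp
  haveI : p.IsPrime := Ideal.comap_isPrime _ _
  have hp₁ : q₁.comap (algebraMap A₁ B₁) = p.comap (algebraMap A₁ A) := by
    rw [hq₁, hp, Ideal.comap_comap, Ideal.comap_comap, ← IsScalarTower.algebraMap_eq,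
      ← IsScalarTower.algebraMap_eq]
  have hmem : ∀ i, f₁ i ∈ q₁ := fun i => by
    rw [hq₁, Ideal.mem_comap]
    exact hJq (Ideal.mem_map_of_mem _ (Ideal.subset_span ⟨i, rfl⟩))
  -- quasi-regularity on the fibre of the model
  have hqr : CAlgX.IsQuasiRegular
      (fun i => ((1 : (q₁.comap (algebraMap A₁ B₁)).ResidueField) ⊗ₜ[A₁] f₁ i :
        (q₁.comap (algebraMap A₁ B₁)).Fiber B₁)) := by
    obtain ⟨χ, hχ, hff⟩ := exists_fibre_map A₁ A B₁ B p (q₁.comap (algebraMap A₁ B₁)) hp₁
    letI := χ.toAlgebra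
    haveI := hff
    apply isQuasiRegular_of_faithfullyFlat (S' := p.Fiber B)
    have : (algebraMap ((q₁.comap (algebraMap A₁ B₁)).Fiber B₁) (p.Fiber B)) ∘
        (fun i => ((1 : (q₁.comap (algebraMap A₁ B₁)).ResidueField) ⊗ₜ[A₁] f₁ i :
          (q₁.comap (algebraMap A₁ B₁)).Fiber B₁)) =
        fun i => ((1 : p.ResidueField) ⊗ₜ[A] f i : p.Fiber B) := by
      funext i
      change χ _ = _
      rw [hχ, hf₁]
    rw [this]
    exact hfib p
  have hreg := isRegular_fibLocRing_of_isQuasiRegular (A := A₁) f₁ q₁ hmem hqr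
  have h1 := flat_quotient_localization' (A := A₁) f₁ q₁ hreg
  obtain ⟨e⟩ := nonempty_equiv_localizedModule q₁ J₁
  have h2 : Module.Flat A₁ (LocalizedModule q₁.primeCompl (B₁ ⧸ J₁)) :=
    Module.Flat.of_linearEquiv (e.restrictScalars A₁).symm
  exact flat_localizedModule_quotient_of_isPushout A₁ A B₁ B J₁ q h2

end FQ8

end Groth.Agent.Lib.R2H4.FibQReg

namespace Groth.Agent.Lib.R2H4.FibQReg

section FQ9

open Groth.Agent.Lib.R2H4.RelGCIFlat Groth.Agent.Lib.H6xQRegBC

attribute [local instance] Algebra.TensorProduct.rightAlgebra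

set_option synthInstance.maxHeartbeats 400000 in
set_option maxHeartbeats 1600000 in
/-- quasi-regular with flat quotient modulo an ideal contained in `p` ⇒ quasi-regular on the
fibre over `p`. -/
theorem isQuasiRegular_fibre_of_mod (A' B' : Type u) [CommRing A'] [CommRing B'] [Algebra A' B']
    (I : Ideal A') {r : ℕ} (F : Fin r → B')
    (hq : CAlgX.IsQuasiRegular
      (fun i => Ideal.Quotient.mk (Ideal.map (algebraMap A' B') I) (F i)))
    (hflat : Module.Flat (A' ⧸ I)
      ((B' ⧸ Ideal.map (algebraMap A' B') I) ⧸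
        Ideal.span (Set.range (fun i => Ideal.Quotient.mk (Ideal.map (algebraMap A' B') I) (F i)))))
    (p : Ideal A') [p.IsPrime] (hIp : I ≤ p) :
    CAlgX.IsQuasiRegular (fun i => ((1 : p.ResidueField) ⊗ₜ[A'] F i : p.Fiber B')) := by
  letI algκ : Algebra (A' ⧸ I) p.ResidueField :=
    (Ideal.Quotient.lift I (algebraMap A' p.ResidueField) (fun a ha => by
      rw [Ideal.algebraMap_residueField_eq_zero]
      exact hIp ha)).toAlgebra
  haveI : IsScalarTower A' (A' ⧸ I) p.ResidueField := .of_algebraMap_eq fun a => rfl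
  set g : Fin r → (B' ⧸ Ideal.map (algebraMap A' B') I) :=
    fun i => Ideal.Quotient.mk (Ideal.map (algebraMap A' B') I) (F i) with hg
  have h1 : CAlgX.IsQuasiRegular (Groth.Agent.Lib.H6xQRegBC.f' (A := A' ⧸ I) g p.ResidueField) :=
    isQuasiRegular_of_qr _ (qr_baseChange (A := A' ⧸ I) g p.ResidueField hflat
      (qr_of_isQuasiRegular g hq))
  haveI hpo : Algebra.IsPushout A' B' (A' ⧸ I) (B' ⧸ Ideal.map (algebraMap A' B') I) :=
    isPushout_quotient I
  let E1 : (B' ⧸ Ideal.map (algebraMap A' B') I) ⊗[A' ⧸ I] p.ResidueField ≃ₐ[B']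
      B' ⊗[A'] p.ResidueField :=
    Algebra.IsPushout.cancelBaseChangeAlg A' B' (A' ⧸ I) (B' ⧸ Ideal.map (algebraMap A' B') I)
      p.ResidueField
  let E : p.ResidueField ⊗[A' ⧸ I] (B' ⧸ Ideal.map (algebraMap A' B') I) ≃+* p.Fiber B' :=
    ((Algebra.TensorProduct.comm (A' ⧸ I) p.ResidueField
      (B' ⧸ Ideal.map (algebraMap A' B') I)).toRingEquiv.trans E1.toRingEquiv).trans
      (Algebra.TensorProduct.comm A' B' p.ResidueField).toRingEquiv
  have hE : ∀ b : B', E ((1 : p.ResidueField) ⊗ₜ[A' ⧸ I]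
      (Ideal.Quotient.mk (Ideal.map (algebraMap A' B') I) b)) = (1 : p.ResidueField) ⊗ₜ[A'] b := by
    intro b
    have h2 : E1 ((Ideal.Quotient.mk (Ideal.map (algebraMap A' B') I) b) ⊗ₜ[A' ⧸ I]
        (1 : p.ResidueField)) = b ⊗ₜ[A'] (1 : p.ResidueField) := by
      have h5 := Algebra.IsPushout.cancelBaseChangeAlg_symm_tmul A' B' (A' ⧸ I)
        (B' ⧸ Ideal.map (algebraMap A' B') I) p.ResidueField b 1
      have h6 := congrArg E1 h5
      rw [AlgEquiv.apply_symm_apply] at h6
      exact h6.symm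
    simp only [E, RingEquiv.trans_apply, AlgEquiv.coe_ringEquiv,
      Algebra.TensorProduct.comm_tmul, h2]
  let E' : p.ResidueField ⊗[A' ⧸ I] (B' ⧸ Ideal.map (algebraMap A' B') I) →+* p.Fiber B' :=
    E.toRingHom
  have hE'flat : E'.Flat := RingHom.Flat.of_bijective E.bijective
  have h3 := Groth.Agent.Lib.H9RegImmFlatBC.isQuasiRegular_map E' hE'flat _ h1
  have h4 : (E' ∘ Groth.Agent.Lib.H6xQRegBC.f' (A := A' ⧸ I) g p.ResidueField) =
      fun i => ((1 : p.ResidueField) ⊗ₜ[A'] F i : p.Fiber B') := by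
    funext i
    exact hE (F i)
  rw [h4] at h3
  exact h3

/-- **S9270**: lifting a quasi-regular sequence with flat quotient along a locally nilpotent
thickening of the base. -/
theorem flat_quotient_lift (A' B' : Type u) [CommRing A'] [CommRing B'] [Algebra A' B']
    [Module.Flat A' B'] [Algebra.FinitePresentation A' B']
    (I : Ideal A') (hI : ∀ x ∈ I, IsNilpotent x) (r : ℕ) (F : Fin r → B')
    (hq : CAlgX.IsQuasiRegular
      (fun i => Ideal.Quotient.mk (Ideal.map (algebraMap A' B') I) (F i)))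
    (hflat : Module.Flat (A' ⧸ I)
      ((B' ⧸ Ideal.map (algebraMap A' B') I) ⧸
        Ideal.span (Set.range (fun i => Ideal.Quotient.mk (Ideal.map (algebraMap A' B') I) (F i))))) :
    Module.Flat A' (B' ⧸ Ideal.span (Set.range F)) := by
  apply flat_quotient_of_fibrewise_quasiRegular
  intro p hp
  refine isQuasiRegular_fibre_of_mod A' B' I F hq hflat p ?_
  intro x hx
  obtain ⟨n, hn⟩ := hI x hx
  exact hp.mem_of_pow_mem n (hn ▸ p.zero_mem)

end FQ9

end Groth.Agent.Lib.R2H4.FibQReg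

namespace Groth.Agent.Lib.R2H4.FibQReg

section FQ10

open Groth.Agent.Lib.R2H4.RelGCIFlat

theorem tower_aux (A' B' : Type u) [CommRing A'] [CommRing B'] [Algebra A' B']
    (I : Ideal A') (J' : Ideal B') :
    IsScalarTower A' (B' ⧸ J') ((B' ⧸ Ideal.map (algebraMap A' B') I) ⧸
        J'.map (algebraMap B' (B' ⧸ Ideal.map (algebraMap A' B') I))) :=
  .of_algebraMap_eq fun _ => rfl

set_option synthInstance.maxHeartbeats 400000 in
set_option maxHeartbeats 1600000 in
/-- the quotient square is a pushout -/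
theorem isPushout_quotient_quotient (A' B' : Type u) [CommRing A'] [CommRing B'] [Algebra A' B']
    (I : Ideal A') (J' : Ideal B') :
    letI := tower_aux A' B' I J'
    Algebra.IsPushout A' (A' ⧸ I) (B' ⧸ J')
      ((B' ⧸ Ideal.map (algebraMap A' B') I) ⧸
        J'.map (algebraMap B' (B' ⧸ Ideal.map (algebraMap A' B') I))) := by
  letI := tower_aux A' B' I J'
  haveI h1 : Algebra.IsPushout A' B' (A' ⧸ I) (B' ⧸ Ideal.map (algebraMap A' B') I) :=
    isPushout_quotient I
  have h2 : Algebra.IsPushout B' (B' ⧸ Ideal.map (algebraMap A' B') I) (B' ⧸ J')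
      ((B' ⧸ Ideal.map (algebraMap A' B') I) ⧸
        J'.map (algebraMap B' (B' ⧸ Ideal.map (algebraMap A' B') I))) :=
    isPushout_quotient J'
  have h3 := (Algebra.IsPushout.comp_iff A' B' (A' ⧸ I)
    (S' := B' ⧸ Ideal.map (algebraMap A' B') I) (T := B' ⧸ J')
    (T' := (B' ⧸ Ideal.map (algebraMap A' B') I) ⧸
        J'.map (algebraMap B' (B' ⧸ Ideal.map (algebraMap A' B') I)))).mpr h2.symm
  exact h3.symm

set_option synthInstance.maxHeartbeats 400000 in
set_option maxHeartbeats 1600000 in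
/-- **S9271**: lifting a quasi-regular sequence with smooth quotient along a locally nilpotent
thickening of the base. -/
theorem smooth_quotient_lift (A' B' : Type u) [CommRing A'] [CommRing B'] [Algebra A' B']
    [Module.Flat A' B'] [Algebra.FinitePresentation A' B']
    (I : Ideal A') (hI : ∀ x ∈ I, IsNilpotent x) (r : ℕ) (F : Fin r → B')
    (hq : CAlgX.IsQuasiRegular
      (fun i => Ideal.Quotient.mk (Ideal.map (algebraMap A' B') I) (F i)))
    (hsm : Algebra.Smooth (A' ⧸ I)
      ((B' ⧸ Ideal.map (algebraMap A' B') I) ⧸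
        Ideal.span (Set.range (fun i => Ideal.Quotient.mk (Ideal.map (algebraMap A' B') I) (F i))))) :
    Algebra.Smooth A' (B' ⧸ Ideal.span (Set.range F)) := by
  classical
  have hflat : Module.Flat (A' ⧸ I)
      ((B' ⧸ Ideal.map (algebraMap A' B') I) ⧸
        Ideal.span (Set.range (fun i => Ideal.Quotient.mk (Ideal.map (algebraMap A' B') I) (F i)))) :=
    inferInstance
  haveI hfl : Module.Flat A' (B' ⧸ Ideal.span (Set.range F)) :=
    flat_quotient_lift A' B' I hI r F hq hflat
  haveI hfp : Algebra.FinitePresentation A' (B' ⧸ Ideal.span (Set.range F)) :=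
    Algebra.FinitePresentation.quotient ⟨Finset.univ.image F, by
      rw [Finset.coe_image, Finset.coe_univ, Set.image_univ]⟩
  have hJ : Ideal.span (Set.range (fun i => Ideal.Quotient.mk (Ideal.map (algebraMap A' B') I) (F i))) =
      (Ideal.span (Set.range F)).map (algebraMap B' (B' ⧸ Ideal.map (algebraMap A' B') I)) := by
    rw [Ideal.map_span, ← Set.range_comp]
    rfl
  letI := tower_aux A' B' I (Ideal.span (Set.range F))
  haveI hpo := isPushout_quotient_quotient A' B' I (Ideal.span (Set.range F))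
  haveI : Algebra.Smooth (A' ⧸ I) ((B' ⧸ Ideal.map (algebraMap A' B') I) ⧸
      (Ideal.span (Set.range F)).map (algebraMap B' (B' ⧸ Ideal.map (algebraMap A' B') I))) :=
    Algebra.Smooth.of_equiv (Ideal.quotientEquivAlgOfEq (A' ⧸ I) hJ)
  refine Groth.Agent.Lib.Helper3.ThickSmooth.smooth_of_pushout_nil (B' := A') (B := A' ⧸ I)
    (C' := B' ⧸ Ideal.span (Set.range F))
    (C := (B' ⧸ Ideal.map (algebraMap A' B') I) ⧸
      (Ideal.span (Set.range F)).map (algebraMap B' (B' ⧸ Ideal.map (algebraMap A' B') I)))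
    Ideal.Quotient.mk_surjective ?_
  intro x hx
  apply hI
  rwa [Ideal.Quotient.algebraMap_eq, Ideal.mk_ker] at hx

end FQ10

end Groth.Agent.Lib.R2H4.FibQReg
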