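import Mathlib
import Groth.Prelude.Def_RegImm
import Groth.Agent.Lib.R2H4FibQReg
import Groth.Agent.Lib.R2H4RegSpread
import Groth.Agent.Lib.H9RelRegBC
import Groth.Agent.Lib.H9RegImmStalk
import Groth.Agent.Lib.R2H4SyntStd

/-!
# Relative quasi-regular immersions into flat lfp schemes are regular immersions
(helper4, round 2)

* `isRegular_fibLocRing_of_isQuasiRegular`: quasi-regular on the fibre ring ⇒ regular on the fibre
  local ring, for `P` of finite type over `A` (no Noetherian hypothesis on `P`).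
* `main_ring`: `A → B` flat f.p., `f` quasi-regular in `B` with `B/(f)` flat over `A`, `Q ⊇ (f)` a
  prime: `f` is a regular sequence in `B_g` for some `g ∉ Q` (via `R2H4RegSpread.main'` and helper6's
  `H6xQRegBC.qr_baseChange`).
* `isRegularImmersion_of_relQuasi`, `main8894` (= S8894; base change part via helper9's
  `H9RelRegBC.main`).
-/

set_option autoImplicit false
set_option linter.style.haveILetI false
universe u
open scoped TensorProduct
open CategoryTheory CategoryTheory.Limits AlgebraicGeometry TopologicalSpace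

namespace Groth.Agent.Lib.R2H4.RelQuasiReg


open IsLocalRing RingTheory.Sequence
open Groth.Agent.Lib.R2H4.RelGCIFlat

section Ring

variable {A : Type u} [CommRing A] {P : Type u} [CommRing P] [Algebra A P]
  [Algebra.FiniteType A P] {c : ℕ} (G : Fin c → P)

/-- quasi-regular on the fibre ring ⇒ regular on the fibre local ring (`P` of finite type) -/
theorem isRegular_fibLocRing_of_isQuasiRegular (Q : Ideal P) [Q.IsPrime] (hGQ : ∀ i, G i ∈ Q)
    (hq : CAlgX.IsQuasiRegular
      (fun i => ((1 : (Q.comap (algebraMap A P)).ResidueField) ⊗ₜ[A] G i :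
        (Q.comap (algebraMap A P)).Fiber P))) :
    RingTheory.Sequence.IsRegular (EGA4.FibLocRing A P Q)
      ((List.ofFn G).map (algebraMap P (EGA4.FibLocRing A P Q))) := by
  obtain ⟨Q', hQ', hQQ'⟩ := Groth.Agent.Lib.Helper28.exists_prime_fiber_comap_eq (A := A) Q
  obtain ⟨e, he⟩ := Groth.Agent.Lib.H9QGor711.exists_localization_fiber_equiv_compat
    (Q.comap (algebraMap A P)) Q' Q hQQ'
  haveI : IsLocalRing (EGA4.FibLocRing A P Q) :=
    Groth.Agent.Lib.Helper28.isLocalRing_fibLocRing (A := A) Q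
  haveI : IsNoetherianRing ((Q.comap (algebraMap A P)).Fiber P) :=
    Algebra.FiniteType.isNoetherianRing (Q.comap (algebraMap A P)).ResidueField _
  haveI : IsNoetherianRing (Localization.AtPrime Q') :=
    IsLocalization.isNoetherianRing Q'.primeCompl _ inferInstance
  haveI : IsNoetherianRing (EGA4.FibLocRing A P Q) := isNoetherianRing_of_ringEquiv _ e
  let e' : Localization.AtPrime Q' →+* EGA4.FibLocRing A P Q := e.toRingHom
  let ψ : (Q.comap (algebraMap A P)).Fiber P →+* EGA4.FibLocRing A P Q :=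
    e'.comp (algebraMap ((Q.comap (algebraMap A P)).Fiber P) (Localization.AtPrime Q'))
  have hψflat : ψ.Flat := by
    have heflat : @RingHom.Flat (Localization.AtPrime Q') (EGA4.FibLocRing A P Q) _ _ e' := by
      have hb : Function.Bijective e' := e.bijective
      exact RingHom.Flat.of_bijective hb
    refine RingHom.Flat.comp ?_ heflat
    rw [RingHom.flat_algebraMap_iff]
    exact IsLocalization.flat _ Q'.primeCompl
  have hψ : ∀ b : P, ψ ((1 : (Q.comap (algebraMap A P)).ResidueField) ⊗ₜ[A] b) =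
      algebraMap P (EGA4.FibLocRing A P Q) b := fun b => he b
  have h1 := Groth.Agent.Lib.H9RegImmFlatBC.isQuasiRegular_map ψ hψflat _ hq
  set rs : List (EGA4.FibLocRing A P Q) :=
    (List.ofFn G).map (algebraMap P (EGA4.FibLocRing A P Q)) with hrs
  have hlen : rs.length = c := by rw [hrs, List.length_map, List.length_ofFn]
  have hget : rs.get = fun i : Fin rs.length =>
      (ψ ∘ fun i => ((1 : (Q.comap (algebraMap A P)).ResidueField) ⊗ₜ[A] G i :
        (Q.comap (algebraMap A P)).Fiber P)) (Fin.cast hlen i) := by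
    funext i
    simp only [Function.comp_apply, hψ]
    simp only [hrs, List.get_eq_getElem, List.getElem_map, List.getElem_ofFn]
    rfl
  have h2 : CAlgX.IsQuasiRegular rs.get := by
    rw [hget]
    exact Groth.Agent.Lib.H9RegImmFlatBC.isQuasiRegular_cast hlen _ h1
  refine Groth.Agent.Lib.H9QRegNoeth.isRegular_of_isQuasiRegular rs h2 ?_
  intro htop
  have hle : Ideal.ofList rs ≤ IsLocalRing.maximalIdeal (EGA4.FibLocRing A P Q) := by
    rw [hrs, ← Ideal.map_ofList, Ideal.map_le_iff_le_comap]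
    intro x hx
    have hxQ : x ∈ Q := by
      have : Ideal.ofList (List.ofFn G) ≤ Q := by
        rw [ofList_ofFn, Ideal.span_le]
        rintro _ ⟨i, rfl⟩
        exact hGQ i
      exact this hx
    rw [Ideal.mem_comap, IsScalarTower.algebraMap_apply P (Localization.AtPrime Q)
      (EGA4.FibLocRing A P Q)]
    have h3 : algebraMap P (Localization.AtPrime Q) x ∈
        IsLocalRing.maximalIdeal (Localization.AtPrime Q) :=
      (IsLocalization.AtPrime.to_map_mem_maximal_iff (Localization.AtPrime Q) Q x).mpr hxQ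
    by_contra hcon
    have hu : IsUnit (algebraMap (Localization.AtPrime Q) (EGA4.FibLocRing A P Q)
        (algebraMap P (Localization.AtPrime Q) x)) := by
      rwa [IsLocalRing.mem_maximalIdeal, mem_nonunits_iff, not_not] at hcon
    have hloc : IsLocalHom (algebraMap (Localization.AtPrime Q) (EGA4.FibLocRing A P Q)) :=
      IsLocalHom.of_surjective _ Ideal.Quotient.mk_surjective
    exact h3 (hloc.map_nonunit _ hu)
  rw [htop] at hle
  exact (IsLocalRing.maximalIdeal.isMaximal _).ne_top (top_le_iff.mp hle)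

end Ring

section RingMain

/-- **Quasi-regular sequences with flat quotient in a flat f.p. algebra are regular near each prime
containing them.** -/
theorem main_ring (A B : Type u) [CommRing A] [CommRing B] [Algebra A B]
    [Algebra.FinitePresentation A B] [Module.Flat A B] {r : ℕ} (f : Fin r → B)
    (hq : CAlgX.IsQuasiRegular f) (hflat : Module.Flat A (B ⧸ Ideal.span (Set.range f)))
    (Q : Ideal B) [Q.IsPrime] (hfQ : ∀ i, f i ∈ Q) :
    ∃ g : B, g ∉ Q ∧ ∀ (L : Type u) [CommRing L] [Algebra B L] [IsLocalization.Away g L],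
      IsRegular L ((List.ofFn f).map (algebraMap B L)) := by
  have h1 := Groth.Agent.Lib.H6xQRegBC.qr_of_isQuasiRegular f hq
  have h2 := Groth.Agent.Lib.H6xQRegBC.qr_baseChange (A := A) f
    (Q.comap (algebraMap A B)).ResidueField hflat h1
  have h3 : CAlgX.IsQuasiRegular
      (fun i => ((1 : (Q.comap (algebraMap A B)).ResidueField) ⊗ₜ[A] f i :
        (Q.comap (algebraMap A B)).Fiber B)) :=
    Groth.Agent.Lib.H6xQRegBC.isQuasiRegular_of_qr _ h2
  have h4 := isRegular_fibLocRing_of_isQuasiRegular (A := A) f Q hfQ h3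
  have hflatQ : Module.Flat A (Localization.AtPrime Q) := by
    haveI : Module.Flat B (Localization.AtPrime Q) := IsLocalization.flat _ Q.primeCompl
    exact Module.Flat.trans A B _
  obtain ⟨c, hc, hW⟩ := Groth.Agent.Lib.R2H4.RegSpread.main' (A := A) Q (List.ofFn f) hflatQ h4
  refine ⟨c, hc, ?_⟩
  intro L _ _ hL
  haveI : IsLocalization.Away (c * 1) L := by rwa [mul_one]
  refine ⟨hW 1 L, ?_⟩
  rw [smul_eq_mul, Ideal.mul_top, ← Ideal.map_ofList]
  intro htop
  have hle : (Ideal.ofList (List.ofFn f)).map (algebraMap B L) ≤ Q.map (algebraMap B L) := by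
    apply Ideal.map_mono
    rw [ofList_ofFn, Ideal.span_le]
    rintro _ ⟨i, rfl⟩
    exact hfQ i
  have h5 : Q.map (algebraMap B L) = ⊤ := top_le_iff.mp (htop ▸ hle)
  have hdisj : Disjoint (Submonoid.powers c : Set B) (Q : Set B) := by
    rw [Set.disjoint_left]
    rintro x ⟨n, rfl⟩ hx
    exact hc (Ideal.IsPrime.mem_of_pow_mem inferInstance n hx)
  exact (IsLocalization.map_algebraMap_ne_top_iff_disjoint (Submonoid.powers c) L Q).mpr hdisj h5

end RingMain



open IsLocalRing RingTheory.Sequence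

section Sch

/-- **A relative quasi-regular immersion into a flat lfp scheme is a regular immersion.** -/
theorem isRegularImmersion_of_relQuasi {Z X S : Scheme.{u}} (f : X ⟶ S) [Flat f]
    [LocallyOfFinitePresentation f] (i : Z ⟶ X)
    (hi : RegImm.IsRelRegularImmersion RegImm.Kind.quasi f i) :
    RegImm.IsRegularImmersion RegImm.Kind.regular i := by
  obtain ⟨⟨himm, hat⟩, hflat⟩ := hi
  refine ⟨himm, fun z => ?_⟩
  obtain ⟨U, hzU, hcl, rs, hrs, hker⟩ := hat z
  obtain ⟨V, hV, hzV, -⟩ :=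
    (TopologicalSpace.Opens.isBasis_iff_nbhd.mp S.isBasis_affineOpens)
      (show f (i z) ∈ (⊤ : S.Opens) from trivial)
  obtain ⟨W, hW, hzW, hWle⟩ :=
    (TopologicalSpace.Opens.isBasis_iff_nbhd.mp X.isBasis_affineOpens)
      (show i z ∈ U.1 ⊓ f ⁻¹ᵁ V from ⟨hzU, hzV⟩)
  have hWU : W ≤ U.1 := hWle.trans inf_le_left
  have hWV : W ≤ f ⁻¹ᵁ V := hWle.trans inf_le_right
  obtain ⟨hclW, rs', -, hrs', hkerW⟩ := Groth.Agent.Lib.H9RelRegBC.restrict_data_kind i
    RegImm.Kind.quasi U.1 U.2 hcl rs hrs hker W hW hWU z hzW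
  haveI : IsAffine (Scheme.Opens.toScheme W) := hW
  haveI := hclW
  haveI : IsAffine (i ⁻¹ᵁ W).toScheme := isAffine_of_isAffineHom (i ∣_ W)
  have hW' : IsAffineOpen (i ⁻¹ᵁ W) := ‹IsAffine (i ⁻¹ᵁ W).toScheme›
  have hW'V : i ⁻¹ᵁ W ≤ (i ≫ f) ⁻¹ᵁ V := fun y hy => hWV hy
  letI algAB : Algebra Γ(S, V) Γ(X, W) := (f.appLE V W hWV).hom.toAlgebra
  letI algAC : Algebra Γ(S, V) Γ(Z, i ⁻¹ᵁ W) := ((i ≫ f).appLE V (i ⁻¹ᵁ W) hW'V).hom.toAlgebra
  haveI : Algebra.FinitePresentation Γ(S, V) Γ(X, W) :=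
    HasRingHomProperty.appLE (P := @LocallyOfFinitePresentation) f inferInstance ⟨V, hV⟩ ⟨W, hW⟩ hWV
  haveI : Module.Flat Γ(S, V) Γ(X, W) :=
    HasRingHomProperty.appLE (P := @Flat) f inferInstance ⟨V, hV⟩ ⟨W, hW⟩ hWV
  haveI hflC : Module.Flat Γ(S, V) Γ(Z, i ⁻¹ᵁ W) :=
    HasRingHomProperty.appLE (P := @Flat) (i ≫ f) hflat ⟨V, hV⟩ ⟨i ⁻¹ᵁ W, hW'⟩ hW'V
  have hsurj : Function.Surjective (i.app W).hom :=
    Groth.Agent.Lib.H9RegImmStalk.app_surjective_of_restrict i W
  have hcomm : ∀ a : Γ(S, V), (i.app W).hom (algebraMap Γ(S, V) Γ(X, W) a) =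
      algebraMap Γ(S, V) Γ(Z, i ⁻¹ᵁ W) a := by
    intro a
    have h1 := Scheme.Hom.appLE_comp_appLE i f V W (i ⁻¹ᵁ W) hWV le_rfl
    rw [Scheme.Hom.appLE_eq_app] at h1
    exact congrArg (fun f => f.hom a) h1
  let φ : Γ(X, W) →ₐ[Γ(S, V)] Γ(Z, i ⁻¹ᵁ W) := { (i.app W).hom with commutes' := hcomm }
  have hφ : Function.Surjective φ := hsurj
  have hkerφ : RingHom.ker φ.toRingHom = Ideal.span (Set.range rs'.get) := by
    change RingHom.ker (i.app W).hom = _
    rw [hkerW, Set.range_list_get]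
  have hflatQ : Module.Flat Γ(S, V) (Γ(X, W) ⧸ Ideal.span (Set.range rs'.get)) := by
    let e1 : (Γ(X, W) ⧸ RingHom.ker φ.toRingHom) ≃ₐ[Γ(S, V)] Γ(Z, i ⁻¹ᵁ W) :=
      Ideal.quotientKerAlgEquivOfSurjective hφ
    let e2 : (Γ(X, W) ⧸ RingHom.ker φ.toRingHom) ≃ₐ[Γ(S, V)]
        (Γ(X, W) ⧸ Ideal.span (Set.range rs'.get)) := Ideal.quotientEquivAlgOfEq _ hkerφ
    exact Module.Flat.of_linearEquiv (e2.symm.trans e1).toLinearEquiv
  haveI hQprime : (hW.primeIdealOf ⟨i z, hzW⟩).asIdeal.IsPrime :=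
    (hW.primeIdealOf ⟨i z, hzW⟩).isPrime
  have hkerQ : ∀ b : Γ(X, W), (i.app W).hom b = 0 → b ∈ (hW.primeIdealOf ⟨i z, hzW⟩).asIdeal := by
    intro b hb
    by_contra hcon
    have h1 : i z ∈ X.basicOpen b :=
      (Groth.Agent.Lib.R2H4.SyntStd.mem_basicOpen_iff_not_mem_primeIdealOf hW (i z) hzW b).mpr hcon
    have h2 : z ∈ i ⁻¹ᵁ X.basicOpen b := h1
    rw [Scheme.preimage_basicOpen, hb, Scheme.basicOpen_zero] at h2
    exact h2
  have hfQ : ∀ j, rs'.get j ∈ (hW.primeIdealOf ⟨i z, hzW⟩).asIdeal := by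
    intro j
    apply hkerQ
    have : rs'.get j ∈ RingHom.ker (i.app W).hom := by
      rw [hkerW]
      exact Ideal.subset_span (List.get_mem rs' j)
    exact this
  obtain ⟨g, hg, hL⟩ := main_ring Γ(S, V) Γ(X, W) rs'.get hrs' hflatQ
    (hW.primeIdealOf ⟨i z, hzW⟩).asIdeal hfQ
  letI algBL : Algebra Γ(X, W) Γ(X, X.basicOpen g) :=
    (X.presheaf.map (homOfLE (X.basicOpen_le g)).op).hom.toAlgebra
  haveI : IsLocalization.Away g Γ(X, X.basicOpen g) := hW.isLocalization_basicOpen g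
  have hreg := hL Γ(X, X.basicOpen g)
  rw [List.ofFn_get] at hreg
  have hsq : IsPullback (𝟙 Z) i i (𝟙 X) := IsPullback.of_horiz_isIso ⟨by simp⟩
  have hle' : X.basicOpen g ≤ (𝟙 X : X ⟶ X) ⁻¹ᵁ W := X.basicOpen_le g
  obtain ⟨hcl'', hker''⟩ := Groth.Agent.Lib.H9RegImmFlatBC.isClosedImmersion_and_ker i (𝟙 X) i
    (𝟙 Z) hsq W hW hclW (X.basicOpen g) (hW.basicOpen g) hle'
  refine ⟨⟨X.basicOpen g, hW.basicOpen g⟩,
    (Groth.Agent.Lib.R2H4.SyntStd.mem_basicOpen_iff_not_mem_primeIdealOf hW (i z) hzW g).mpr hg,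
    hcl'', rs'.map (algebraMap Γ(X, W) Γ(X, X.basicOpen g)), hreg, ?_⟩
  rw [hker'', hkerW, Ideal.map_ofList]
  have : ((𝟙 X : X ⟶ X).appLE W (X.basicOpen g) hle').hom =
      algebraMap Γ(X, W) Γ(X, X.basicOpen g) := by
    simp [Scheme.Hom.appLE]
    rfl
  rw [this]

/-- **S8894** -/
theorem main8894 {Z X S : Scheme.{u}} (f : X ⟶ S) [Flat f] [LocallyOfFinitePresentation f]
    (i : Z ⟶ X) (hi : RegImm.IsRelRegularImmersion RegImm.Kind.quasi f i) :
    RegImm.IsRegularImmersion RegImm.Kind.regular i ∧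
      ∀ (S' : Scheme.{u}) (g : S' ⟶ S), RegImm.IsRegularImmersion RegImm.Kind.regular
        (pullback.snd i (pullback.fst f g)) := by
  refine ⟨isRegularImmersion_of_relQuasi f i hi, fun S' g => ?_⟩
  exact isRegularImmersion_of_relQuasi (pullback.snd f g) _
    (Groth.Agent.Lib.H9RelRegBC.main f i RegImm.Kind.quasi (Or.inr rfl) hi g)

end Sch


end Groth.Agent.Lib.R2H4.RelQuasiReg
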