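import Mathlib
import Groth.Prelude.Def_RegImm
import Groth.Prelude.Def_Mor2
import Groth.Agent.Lib.R2H4RegSpreadFlat
import Groth.Agent.Lib.R2H4RelQuasiReg
import Groth.Agent.Lib.H9NzdFibre
import Groth.Agent.S5802
import Groth.Agent.S0386

/-!
# Slicing a flat lfp morphism by a fibrewise regular sequence (helper4, round 2)

Scheme form of `R2H4RegSpreadFlat.main_flat` (list version of helper9's `H9NzdFibre.main`).

* `exists_sections_of_germs`: finitely many germs come from sections over one open.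
* `isRegular_transport`, `isRegular_transport'`: fibrewise regularity on `O_{X,x}/m_s O_{X,x}` is
  regularity on the fibre local ring `EGA4.FibLocRing` of a chart.
* `ker_appTop`, `mem_range`: the closed immersion `Spec (Γ(X,U)/J) ⟶ U`.
* `mor2_of_regImm`, `mor2_iso_comp`, `transfer`: passing from `RegImm.IsRegularImmersion .regular`
  of `pullback.snd` to `Mor2.IsRegularClosedImmersion` of the `pullback.map` of the statement.
* `main` (= S1459).
-/

set_option autoImplicit false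
set_option linter.style.haveILetI false
universe u
open scoped TensorProduct
open CategoryTheory CategoryTheory.Limits AlgebraicGeometry TopologicalSpace

namespace Groth.Agent.Lib.R2H4.RegSpreadSch


open IsLocalRing RingTheory.Sequence

section Germs

/-- finitely many germs are germs of sections over a common open neighbourhood -/
theorem exists_sections_of_germs {X : Scheme.{u}} (x : X) (hs : List (X.presheaf.stalk x)) :
    ∃ (V : X.Opens) (hxV : x ∈ V) (l : List Γ(X, V)),
      l.map (X.presheaf.germ V x hxV).hom = hs := by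
  induction hs with
  | nil => exact ⟨⊤, trivial, [], rfl⟩
  | cons h t ih =>
    obtain ⟨V₁, hxV₁, l₁, hl₁⟩ := ih
    obtain ⟨V₂, hxV₂, s, hs⟩ := X.presheaf.exists_germ_eq h
    refine ⟨V₁ ⊓ V₂, ⟨hxV₁, hxV₂⟩,
      (X.presheaf.map (homOfLE (inf_le_right : V₁ ⊓ V₂ ≤ V₂)).op).hom s ::
        l₁.map (X.presheaf.map (homOfLE (inf_le_left : V₁ ⊓ V₂ ≤ V₁)).op).hom, ?_⟩
    rw [List.map_cons, List.map_map]
    congr 1
    · erw [X.presheaf.germ_res_apply (homOfLE (inf_le_right : V₁ ⊓ V₂ ≤ V₂)) x ⟨hxV₁, hxV₂⟩ s]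
      exact hs
    · rw [← hl₁]
      apply List.map_congr_left
      intro a _
      simp only [Function.comp_apply]
      erw [X.presheaf.germ_res_apply (homOfLE (inf_le_left : V₁ ⊓ V₂ ≤ V₁)) x ⟨hxV₁, hxV₂⟩ a]

end Germs

section Transport

/-- transport of fibrewise regularity from the local rings to the fibre local ring of a chart -/
theorem isRegular_transport (A B Os Ox : Type u) [CommRing A] [CommRing B] [CommRing Os]
    [CommRing Ox] [Algebra A B] [Algebra A Os] [Algebra Os Ox] [Algebra B Ox] [Algebra A Ox]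
    [IsScalarTower A B Ox] [IsScalarTower A Os Ox] (q : Ideal B) [q.IsPrime]
    [IsLocalization.AtPrime Ox q] [IsLocalRing Os]
    [IsLocalization.AtPrime Os (q.comap (algebraMap A B))] (l : List B)
    (hreg : IsRegular (Ox ⧸ (IsLocalRing.maximalIdeal Os).map (algebraMap Os Ox))
      ((l.map (algebraMap B Ox)).map
        (Ideal.Quotient.mk ((IsLocalRing.maximalIdeal Os).map (algebraMap Os Ox))))) :
    IsRegular (EGA4.FibLocRing A B q) (l.map (algebraMap B (EGA4.FibLocRing A B q))) := by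
  set p : Ideal A := q.comap (algebraMap A B) with hp
  let e : Localization.AtPrime q ≃ₐ[B] Ox := IsLocalization.algEquiv q.primeCompl _ _
  have hcomp : (e.toRingEquiv : Localization.AtPrime q →+* Ox).comp
      (algebraMap A (Localization.AtPrime q)) = algebraMap A Ox := by
    refine RingHom.ext fun a => ?_
    show e (algebraMap A (Localization.AtPrime q) a) = algebraMap A Ox a
    rw [IsScalarTower.algebraMap_apply A B (Localization.AtPrime q), e.commutes,
      ← IsScalarTower.algebraMap_apply]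
  have hJ : (IsLocalRing.maximalIdeal Os).map (algebraMap Os Ox) =
      (p.map (algebraMap A (Localization.AtPrime q))).map
        (e.toRingEquiv : Localization.AtPrime q →+* Ox) := by
    rw [Ideal.map_map, hcomp, ← IsLocalization.AtPrime.map_eq_maximalIdeal p Os, Ideal.map_map,
      ← IsScalarTower.algebraMap_eq]
  let ē : EGA4.FibLocRing A B q ≃+* (Ox ⧸ (IsLocalRing.maximalIdeal Os).map (algebraMap Os Ox)) :=
    Ideal.quotientEquiv (p.map (algebraMap A (Localization.AtPrime q)))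
      ((IsLocalRing.maximalIdeal Os).map (algebraMap Os Ox)) e.toRingEquiv hJ
  have hē : ∀ b : B, ē (algebraMap B (EGA4.FibLocRing A B q) b) =
      Ideal.Quotient.mk _ (algebraMap B Ox b) := by
    intro b
    change ē (Ideal.Quotient.mk _ (algebraMap B (Localization.AtPrime q) b)) = _
    rw [Ideal.quotientEquiv_mk]
    congr 1
    exact e.commutes b
  refine (AddEquiv.isRegular_congr (e := ē.toAddEquiv) ?_).mpr hreg
  rw [List.map_map]
  refine List.forall₂_map_left_iff.mpr (List.forall₂_map_right_iff.mpr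
    (List.forall₂_same.mpr fun b _ y => ?_))
  change ē (algebraMap B _ b * y) = _
  rw [map_mul, hē]
  rfl

end Transport





section K

/-- kernel on global sections of the closed immersion `Spec (Γ(X,U)/J) ⟶ U` -/
theorem ker_appTop {X : Scheme.{u}} {U : X.Opens} (hU : IsAffineOpen U) (J : Ideal Γ(X, U)) :
    RingHom.ker (Spec.map (CommRingCat.ofHom (Ideal.Quotient.mk J)) ≫ hU.isoSpec.inv).appTop.hom =
      J.comap U.topIso.hom.hom := by
  have h : (Spec.map (CommRingCat.ofHom (Ideal.Quotient.mk J)) ≫ hU.isoSpec.inv).appTop =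
      U.topIso.hom ≫ CommRingCat.ofHom (Ideal.Quotient.mk J) ≫ (Scheme.ΓSpecIso _).inv := by
    rw [Scheme.Hom.comp_appTop, hU.isoSpec_inv_appTop, Category.assoc,
      ← Scheme.ΓSpecIso_inv_naturality]
  ext a
  rw [RingHom.mem_ker, Ideal.mem_comap, h]
  have hinj : Function.Injective
      (Scheme.ΓSpecIso (CommRingCat.of (Γ(X, U) ⧸ J))).inv.hom :=
    (ConcreteCategory.bijective_of_isIso (Scheme.ΓSpecIso (CommRingCat.of (Γ(X, U) ⧸ J))).inv).1
  change (Scheme.ΓSpecIso (CommRingCat.of (Γ(X, U) ⧸ J))).inv.hom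
    (Ideal.Quotient.mk J (U.topIso.hom.hom a)) = 0 ↔ _
  rw [← map_zero (Scheme.ΓSpecIso (CommRingCat.of (Γ(X, U) ⧸ J))).inv.hom, hinj.eq_iff,
    Ideal.Quotient.eq_zero_iff_mem]

/-- the point `x` lies on `Spec (Γ(X,U)/J)` when `J` is contained in the prime of `x` -/
theorem mem_range {X : Scheme.{u}} {U : X.Opens} (hU : IsAffineOpen U) (J : Ideal Γ(X, U))
    (x : X) (hx : x ∈ U) (hJ : J ≤ (hU.primeIdealOf ⟨x, hx⟩).asIdeal) :
    x ∈ Set.range ⇑(Spec.map (CommRingCat.ofHom (Ideal.Quotient.mk J)) ≫ hU.fromSpec) := by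
  have h1 : hU.primeIdealOf ⟨x, hx⟩ ∈
      Set.range ⇑(Spec.map (CommRingCat.ofHom (Ideal.Quotient.mk J))) := by
    erw [range_comap_of_surjective _ _ Ideal.Quotient.mk_surjective]
    rw [Ideal.mk_ker]
    exact hJ
  obtain ⟨z, hz⟩ := h1
  refine ⟨z, ?_⟩
  rw [Scheme.Hom.comp_apply, hz]
  exact hU.fromSpec_primeIdealOf ⟨x, hx⟩

end K

section T

/-- a regular immersion (kind regular) which is a closed immersion is a regular closed immersion -/
theorem mor2_of_regImm {Z X : Scheme.{u}} (i : Z ⟶ X) [IsClosedImmersion i]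
    (h : RegImm.IsRegularImmersion RegImm.Kind.regular i) : Mor2.IsRegularClosedImmersion i := by
  refine ⟨inferInstance, fun z => ?_⟩
  obtain ⟨U, hz, -, rs, hrs, hker⟩ := h.2 z
  refine ⟨U.1, U.2, hz, rs, hrs, ?_⟩
  rw [Scheme.Hom.ker_apply]
  exact hker

/-- regular closed immersions are stable under precomposition with isomorphisms -/
theorem mor2_iso_comp {Z' Z X : Scheme.{u}} (e : Z' ⟶ Z) [IsIso e] (i : Z ⟶ X)
    (h : Mor2.IsRegularClosedImmersion i) : Mor2.IsRegularClosedImmersion (e ≫ i) := by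
  haveI := h.1
  refine ⟨inferInstance, fun z => ?_⟩
  obtain ⟨U, hU, hz, rs, hrs, hker⟩ := h.2 (e z)
  refine ⟨U, hU, ?_, rs, hrs, ?_⟩
  · rw [Scheme.Hom.comp_apply]
    exact hz
  · have key : ∀ a, ((e ≫ i).app U).hom a = (e.app (i ⁻¹ᵁ U)).hom ((i.app U).hom a) := by
      intro a
      rw [Scheme.Hom.comp_app]
      rfl
    have hinj : Function.Injective (e.app (i ⁻¹ᵁ U)).hom :=
      (ConcreteCategory.bijective_of_isIso (e.app (i ⁻¹ᵁ U))).1
    rw [← hker, Scheme.Hom.ker_apply, Scheme.Hom.ker_apply]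
    ext a
    rw [RingHom.mem_ker, RingHom.mem_ker]
    change ((e ≫ i).app U).hom a = 0 ↔ (i.app U).hom a = 0
    rw [key]
    constructor
    · intro h0
      exact hinj (h0.trans (map_zero _).symm)
    · intro h0
      exact (congrArg (e.app (i ⁻¹ᵁ U)).hom h0).trans (map_zero _)

/-- the base change map of the statement is a regular closed immersion -/
theorem transfer {Z Y S S' : Scheme.{u}} (v : Y ⟶ S) (ι : Z ⟶ Y) [IsClosedImmersion ι]
    (w : Z ⟶ S) (hw : w = ι ≫ v) (g : S' ⟶ S) (h1 : w ≫ 𝟙 S = ι ≫ v) (h2 : g ≫ 𝟙 S = 𝟙 S' ≫ g)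
    (H : RegImm.IsRegularImmersion RegImm.Kind.regular (pullback.snd ι (pullback.fst v g))) :
    Mor2.IsRegularClosedImmersion (pullback.map w g v g ι (𝟙 S') (𝟙 S) h1 h2) := by
  subst hw
  have hm : pullback.map (ι ≫ v) g v g ι (𝟙 S') (𝟙 S) h1 h2 =
      (pullbackRightPullbackFstIso v g ι).inv ≫ pullback.snd ι (pullback.fst v g) := by
    apply pullback.hom_ext
    · rw [Category.assoc, pullbackRightPullbackFstIso_inv_snd_fst]
      exact pullback.lift_fst _ _ _
    · rw [Category.assoc, pullbackRightPullbackFstIso_inv_snd_snd]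
      exact (pullback.lift_snd _ _ _).trans (Category.comp_id _)
  rw [hm]
  exact mor2_iso_comp _ _ (mor2_of_regImm _ H)

end T





section Ring

/-- elements of a sequence regular on a quotient of a local ring lie in the maximal ideal -/
theorem mem_maximalIdeal_of_isRegular {R : Type u} [CommRing R] [IsLocalRing R] (I : Ideal R)
    (hs : List R) (hreg : IsRegular (R ⧸ I) (hs.map (Ideal.Quotient.mk I))) :
    ∀ h ∈ hs, h ∈ maximalIdeal R := by
  intro h hh
  by_contra hcon
  have hu : IsUnit h := by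
    rwa [mem_maximalIdeal, mem_nonunits_iff, not_not] at hcon
  apply hreg.top_ne_smul
  have : Ideal.ofList (hs.map (Ideal.Quotient.mk I)) = ⊤ :=
    Ideal.eq_top_of_isUnit_mem _ (Ideal.subset_span (List.mem_map_of_mem hh)) (hu.map _)
  rw [this]
  simp

/-- transport of weak regularity along a ring isomorphism -/
theorem isWeaklyRegular_map_ringEquiv {R R' : Type u} [CommRing R] [CommRing R'] (θ : R ≃+* R')
    (l : List R) (h : IsWeaklyRegular R l) : IsWeaklyRegular R' (l.map θ) :=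
  (AddEquiv.isWeaklyRegular_congr (e := θ.toAddEquiv) (List.forall₂_map_right_iff.mpr
    (List.forall₂_same.mpr fun r _ y => by
      change θ (r * y) = θ r * θ y
      exact map_mul θ r y))).mp h

/-- variant of `isRegular_transport` with a named base prime -/
theorem isRegular_transport' (A B Os Ox : Type u) [CommRing A] [CommRing B] [CommRing Os]
    [CommRing Ox] [Algebra A B] [Algebra A Os] [Algebra Os Ox] [Algebra B Ox] [Algebra A Ox]
    [IsScalarTower A B Ox] [IsScalarTower A Os Ox] (q : Ideal B) [q.IsPrime]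
    [IsLocalization.AtPrime Ox q] [IsLocalRing Os] (p : Ideal A) [p.IsPrime]
    (hp : q.under A = p) [IsLocalization.AtPrime Os p] (l : List B)
    (hreg : IsRegular (Ox ⧸ (IsLocalRing.maximalIdeal Os).map (algebraMap Os Ox))
      ((l.map (algebraMap B Ox)).map
        (Ideal.Quotient.mk ((IsLocalRing.maximalIdeal Os).map (algebraMap Os Ox))))) :
    IsRegular (EGA4.FibLocRing A B q) (l.map (algebraMap B (EGA4.FibLocRing A B q))) := by
  subst hp
  exact isRegular_transport A B Os Ox q l hreg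

theorem flat_of_quot_eq_bot {A L : Type u} [CommRing A] [CommRing L] [Algebra A L] (J : Ideal L)
    (hJ : J = ⊥) (h : Module.Flat A (L ⧸ J)) : Module.Flat A L := by
  subst hJ
  exact Module.Flat.of_linearEquiv (AlgEquiv.quotientBot A L).symm.toLinearEquiv

end Ring

section Sch

open Groth.Agent.Lib.H9Slice

variable {X S : Scheme.{u}}

set_option maxHeartbeats 3200000 in
theorem main (f : X ⟶ S) [LocallyOfFinitePresentation f] (x : X)
    (hflat : (f.stalkMap x).hom.Flat) (hs : List ↑(X.presheaf.stalk x))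
    (hreg : RingTheory.Sequence.IsRegular (↑(X.presheaf.stalk x) ⧸ Ideal.map (f.stalkMap x).hom
        (IsLocalRing.maximalIdeal ↑(S.presheaf.stalk (f x))))
      (hs.map (Ideal.Quotient.mk (Ideal.map (f.stalkMap x).hom
        (IsLocalRing.maximalIdeal ↑(S.presheaf.stalk (f x))))))) :
    ∃ (U : X.Opens) (hU : IsAffineOpen U) (hx : x ∈ U) (hs' : List Γ(X, U)),
      hs'.map (X.presheaf.germ U x hx) = hs ∧
      Mor2.IsRegularClosedImmersion (Spec.map (CommRingCat.ofHom
        (Ideal.Quotient.mk (Ideal.ofList hs'))) ≫ hU.isoSpec.inv) ∧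
      x ∈ Set.range ⇑(Spec.map (CommRingCat.ofHom (Ideal.Quotient.mk (Ideal.ofList hs'))) ≫
        hU.fromSpec) ∧
      Flat (Spec.map (CommRingCat.ofHom (Ideal.Quotient.mk (Ideal.ofList hs'))) ≫
        hU.fromSpec ≫ f) ∧
      LocallyOfFinitePresentation (Spec.map (CommRingCat.ofHom
        (Ideal.Quotient.mk (Ideal.ofList hs'))) ≫ hU.fromSpec ≫ f) ∧
      ∀ (S' : Scheme.{u}) (g : S' ⟶ S), Mor2.IsRegularClosedImmersion
        (pullback.map (Spec.map (CommRingCat.ofHom (Ideal.Quotient.mk (Ideal.ofList hs'))) ≫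
          hU.isoSpec.inv ≫ U.ι ≫ f) g (U.ι ≫ f) g
          (Spec.map (CommRingCat.ofHom (Ideal.Quotient.mk (Ideal.ofList hs'))) ≫ hU.isoSpec.inv)
          (𝟙 S') (𝟙 S)
          (Category.comp_id _) ((Category.comp_id g).trans (Category.id_comp g).symm)) := by
  -- all germs lie in the maximal ideal
  have hsm := mem_maximalIdeal_of_isRegular _ hs hreg
  -- affine opens and sections representing `hs`
  obtain ⟨V, hxV, l₀, hl₀⟩ := exists_sections_of_germs x hs
  obtain ⟨_, ⟨S₀, hS₀, rfl⟩, hsS₀, -⟩ :=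
    S.isBasis_affineOpens.exists_subset_of_mem_open (Set.mem_univ (f x)) isOpen_univ
  obtain ⟨_, ⟨X₀, hX₀, rfl⟩, hxX₀, hX₀'⟩ :=
    X.isBasis_affineOpens.exists_subset_of_mem_open
      (show x ∈ V ⊓ f ⁻¹ᵁ S₀ from ⟨hxV, hsS₀⟩) (V ⊓ f ⁻¹ᵁ S₀).2
  have hX₀le : X₀ ≤ V ⊓ f ⁻¹ᵁ S₀ := hX₀'
  have hXV : X₀ ≤ V := hX₀le.trans inf_le_left
  have hXS : X₀ ≤ f ⁻¹ᵁ S₀ := hX₀le.trans inf_le_right
  set l : List Γ(X, X₀) := l₀.map (X.presheaf.map (homOfLE hXV).op).hom with hl
  have hgerm₀ : l.map (X.presheaf.germ X₀ x hxX₀).hom = hs := by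
    rw [hl, List.map_map, ← hl₀]
    apply List.map_congr_left
    intro a _
    simp only [Function.comp_apply]
    erw [X.presheaf.germ_res_apply (homOfLE hXV) x hxX₀ a]
  -- ring data
  letI algAC : Algebra Γ(S, S₀) Γ(X, X₀) := (f.appLE S₀ X₀ hXS).hom.toAlgebra
  have hfp : (f.appLE S₀ X₀ hXS).hom.FinitePresentation :=
    HasRingHomProperty.appLE (P := @LocallyOfFinitePresentation) f inferInstance ⟨S₀, hS₀⟩
      ⟨X₀, hX₀⟩ hXS
  haveI : Algebra.FinitePresentation Γ(S, S₀) Γ(X, X₀) := hfp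
  let P : Ideal Γ(X, X₀) := (hX₀.primeIdealOf ⟨x, hxX₀⟩).asIdeal
  let p : Ideal Γ(S, S₀) := (hS₀.primeIdealOf ⟨f x, hsS₀⟩).asIdeal
  have hP : P.under Γ(S, S₀) = p :=
    congr($(IsAffineOpen.comap_primeIdealOf_appLE S₀ hS₀ X₀ hX₀ hXS hxX₀).1)
  have hflat' : Module.Flat Γ(S, S₀) (LocalizedModule P.primeCompl Γ(X, X₀)) :=
    (Groth.Agent.S0386.flat_stalkMap_iff_localizedModule S₀ hS₀ X₀ hX₀ hXS hxX₀).mp hflat
  have hreg' : IsRegular (EGA4.FibLocRing Γ(S, S₀) Γ(X, X₀) P)
      (l.map (algebraMap Γ(X, X₀) (EGA4.FibLocRing Γ(S, S₀) Γ(X, X₀) P))) := by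
    letI : Algebra Γ(S, S₀) (S.presheaf.stalk (f x)) :=
      (S.presheaf.germ S₀ (f x) hsS₀).hom.toAlgebra
    letI : Algebra (S.presheaf.stalk (f x)) (X.presheaf.stalk x) := (f.stalkMap x).hom.toAlgebra
    letI : Algebra Γ(X, X₀) (X.presheaf.stalk x) := (X.presheaf.germ X₀ x hxX₀).hom.toAlgebra
    letI : Algebra Γ(S, S₀) (X.presheaf.stalk x) :=
      ((X.presheaf.germ X₀ x hxX₀).hom.comp (f.appLE S₀ X₀ hXS).hom).toAlgebra
    haveI : IsScalarTower Γ(S, S₀) Γ(X, X₀) (X.presheaf.stalk x) :=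
      IsScalarTower.of_algebraMap_eq (fun _ => rfl)
    haveI : IsScalarTower Γ(S, S₀) (S.presheaf.stalk (f x)) (X.presheaf.stalk x) := by
      refine IsScalarTower.of_algebraMap_eq (fun a => ?_)
      change (X.presheaf.germ X₀ x hxX₀).hom ((f.appLE S₀ X₀ hXS).hom a) =
        (f.stalkMap x).hom ((S.presheaf.germ S₀ (f x) hsS₀).hom a)
      erw [Scheme.Hom.germ_stalkMap_apply f S₀ x hsS₀ a]
      simp only [Scheme.Hom.appLE, CommRingCat.hom_comp, RingHom.comp_apply]
      exact (X.presheaf.germ_res_apply (homOfLE hXS) x hxX₀ _)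
    haveI : IsLocalization.AtPrime (X.presheaf.stalk x) P := hX₀.isLocalization_stalk ⟨x, hxX₀⟩
    haveI : IsLocalization.AtPrime (S.presheaf.stalk (f x)) p :=
      hS₀.isLocalization_stalk ⟨f x, hsS₀⟩
    refine isRegular_transport' Γ(S, S₀) Γ(X, X₀) (S.presheaf.stalk (f x)) (X.presheaf.stalk x)
      P p hP l ?_
    change IsRegular _ ((l.map (X.presheaf.germ X₀ x hxX₀).hom).map
      (Ideal.Quotient.mk (Ideal.map (f.stalkMap x).hom
        (IsLocalRing.maximalIdeal (S.presheaf.stalk (f x))))))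
    rw [hgerm₀]
    exact hreg
  obtain ⟨c, hcP, hmain⟩ := Groth.Agent.Lib.R2H4.RegSpreadFlat.main_flat (A := Γ(S, S₀)) P l
    hflat' hreg'
  have hxc : x ∈ X.basicOpen c := (notMem_primeIdealOf_iff hX₀ x hxX₀ c).mp hcP
  set U : X.Opens := X.basicOpen c with hUdef
  have hUX₀ : U ≤ X₀ := X.basicOpen_le c
  have hUS₀ : U ≤ f ⁻¹ᵁ S₀ := hUX₀.trans hXS
  have hU : IsAffineOpen U := hX₀.basicOpen c
  set ψ : Γ(X, X₀) →+* Γ(X, U) := (X.presheaf.map (homOfLE hUX₀).op).hom with hψ
  have hloc : (letI := ψ.toAlgebra; IsLocalization.Away c Γ(X, U)) :=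
    hX₀.isLocalization_of_eq_basicOpen c (homOfLE hUX₀) rfl
  have h1 : Spec.map (f.appLE S₀ U hUS₀) ≫ hS₀.fromSpec = hU.fromSpec ≫ f :=
    IsAffineOpen.SpecMap_appLE_fromSpec f hS₀ hU hUS₀
  have h3 : f.appLE S₀ U hUS₀ = f.appLE S₀ X₀ hXS ≫ X.presheaf.map (homOfLE hUX₀).op :=
    (Scheme.Hom.appLE_map f hXS (homOfLE hUX₀).op).symm
  haveI : IsOpenImmersion (IsAffineOpen.fromSpec hS₀) := IsAffineOpen.isOpenImmersion_fromSpec hS₀
  -- apply the ring statement to `L = Γ(X, U)`
  letI algCL : Algebra Γ(X, X₀) Γ(X, U) := ψ.toAlgebra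
  letI algAL : Algebra Γ(S, S₀) Γ(X, U) := (f.appLE S₀ U hUS₀).hom.toAlgebra
  haveI : IsScalarTower Γ(S, S₀) Γ(X, X₀) Γ(X, U) := by
    refine IsScalarTower.of_algebraMap_eq (fun a => ?_)
    change (f.appLE S₀ U hUS₀).hom a = ψ ((f.appLE S₀ X₀ hXS).hom a)
    rw [h3]
    rfl
  haveI : IsLocalization.Away (c * 1) Γ(X, U) := by
    rw [mul_one]
    exact hloc
  obtain ⟨hW, hF⟩ := hmain 1 Γ(X, U)
  have hgermU : (l.map ψ).map (X.presheaf.germ U x hxc).hom = hs := by
    rw [List.map_map, ← hgerm₀]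
    apply List.map_congr_left
    intro a _
    simp only [Function.comp_apply]
    rw [hψ]
    erw [X.presheaf.germ_res_apply (homOfLE hUX₀) x hxc a]
  have hmemP : ∀ a ∈ l.map ψ, a ∈ (hU.primeIdealOf ⟨x, hxc⟩).asIdeal := by
    intro a ha
    by_contra hcon
    have h1 : x ∈ X.basicOpen a := (notMem_primeIdealOf_iff hU x hxc a).mp hcon
    have h2 : IsUnit (X.presheaf.germ U x hxc a) := (X.mem_basicOpen a x hxc).mp h1
    have h4 : (X.presheaf.germ U x hxc).hom a ∈ hs := by
      rw [← hgermU]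
      exact List.mem_map_of_mem ha
    exact (IsLocalRing.mem_maximalIdeal _).mp (hsm _ h4) h2
  have hJle : Ideal.ofList (l.map ψ) ≤ (hU.primeIdealOf ⟨x, hxc⟩).asIdeal :=
    Ideal.span_le.mpr fun a ha => hmemP a ha
  set J : Ideal Γ(X, U) := Ideal.ofList (l.map ψ) with hJ
  set q : Γ(X, U) ⟶ CommRingCat.of (Γ(X, U) ⧸ J) := CommRingCat.ofHom (Ideal.Quotient.mk J) with hq
  -- flatness and finite presentation of the quotient
  have hFlatC : Flat (Spec.map q ≫ hU.fromSpec ≫ f) := by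
    rw [← h1, ← Category.assoc, ← Spec.map_comp]
    have h2 : (f.appLE S₀ U hUS₀ ≫ q).hom.Flat := by
      have hFl := hF l.length le_rfl
      rw [List.take_length] at hFl
      exact RingHom.flat_algebraMap_iff.mpr hFl
    haveI : Flat (Spec.map (f.appLE S₀ U hUS₀ ≫ q)) :=
      (HasRingHomProperty.Spec_iff (P := @Flat)).mpr h2
    infer_instance
  have hLfpC : LocallyOfFinitePresentation (Spec.map q ≫ hU.fromSpec ≫ f) := by
    rw [← h1, ← Category.assoc, ← Spec.map_comp]
    have h2 : (f.appLE S₀ U hUS₀ ≫ q).hom.FinitePresentation := by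
      have hfpU : (f.appLE S₀ U hUS₀).hom.FinitePresentation :=
        HasRingHomProperty.appLE (P := @LocallyOfFinitePresentation) f inferInstance ⟨S₀, hS₀⟩
          ⟨U, hU⟩ hUS₀
      rw [CommRingCat.hom_comp]
      refine RingHom.FinitePresentation.comp ?_ hfpU
      refine RingHom.FinitePresentation.of_surjective _ Ideal.Quotient.mk_surjective ?_
      rw [hq, CommRingCat.hom_ofHom, Ideal.mk_ker]
      classical
      exact ⟨(l.map ψ).toFinset, by simp [hJ, Ideal.ofList]⟩
    haveI : LocallyOfFinitePresentation (Spec.map (f.appLE S₀ U hUS₀ ≫ q)) :=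
      (HasRingHomProperty.Spec_iff (P := @LocallyOfFinitePresentation)).mpr h2
    infer_instance
  -- `U → S` is flat and locally of finite presentation
  have hFlatL : Module.Flat Γ(S, S₀) Γ(X, U) :=
    flat_of_quot_eq_bot _ (by simp) (hF 0 (Nat.zero_le _))
  haveI hFlatU : Flat (U.ι ≫ f) := by
    have e1 : U.ι ≫ f = hU.isoSpec.hom ≫ Spec.map (f.appLE S₀ U hUS₀) ≫ hS₀.fromSpec := by
      rw [h1, IsAffineOpen.isoSpec_hom_fromSpec_assoc]
    rw [e1]
    haveI : Flat (Spec.map (f.appLE S₀ U hUS₀)) :=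
      (HasRingHomProperty.Spec_iff (P := @Flat)).mpr (RingHom.flat_algebraMap_iff.mpr hFlatL)
    infer_instance
  haveI hLfpU : LocallyOfFinitePresentation (U.ι ≫ f) := inferInstance
  haveI : IsAffine ↑U := hU
  have hrel : RegImm.IsRelRegularImmersion RegImm.Kind.quasi (U.ι ≫ f)
      (Spec.map q ≫ hU.isoSpec.inv) := by
    refine ⟨⟨inferInstance, fun z => ?_⟩, ?_⟩
    · let θ : Γ(↑U, ⊤) ≃+* Γ(X, U) := U.topIso.commRingCatIsoToRingEquiv
      refine ⟨⟨⊤, isAffineOpen_top _⟩, trivial,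
        IsZariskiLocalAtTarget.restrict (P := @IsClosedImmersion) inferInstance ⊤,
        (l.map ψ).map θ.symm, ?_, ?_⟩
      · have hw : IsWeaklyRegular Γ(↑U, ⊤) ((l.map ψ).map θ.symm) :=
          isWeaklyRegular_map_ringEquiv θ.symm _ hW
        refine Groth.Agent.S5802.result _ _ _ ?_
        rw [List.ofFn_get]
        exact hw
      · change RingHom.ker (Spec.map q ≫ hU.isoSpec.inv).appTop.hom = _
        rw [ker_appTop hU J]
        change J.comap (θ : Γ(↑U, ⊤) →+* Γ(X, U)) =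
          Ideal.ofList ((l.map ψ).map (θ.symm : Γ(X, U) →+* Γ(↑U, ⊤)))
        rw [← Ideal.map_ofList]
        exact (Ideal.map_symm θ).symm
    · rw [Category.assoc, IsAffineOpen.isoSpec_inv_ι_assoc]
      exact hFlatC
  obtain ⟨hreg₀, hbc⟩ := Groth.Agent.Lib.R2H4.RelQuasiReg.main8894 (U.ι ≫ f)
    (Spec.map q ≫ hU.isoSpec.inv) hrel
  refine ⟨U, hU, hxc, l.map ψ, hgermU, mor2_of_regImm _ hreg₀, mem_range hU J x hxc hJle,
    hFlatC, hLfpC, fun S' g => ?_⟩
  exact transfer (U.ι ≫ f) (Spec.map q ≫ hU.isoSpec.inv) _ (Category.assoc _ _ _).symm g _ _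
    (hbc S' g)

end Sch


end Groth.Agent.Lib.R2H4.RegSpreadSch
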