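import Groth.Agent.Lib.H6xMurthyA
import Groth.Agent.Lib.Helper5CM
import Groth.Agent.Lib.Helper28Unmixed
import Groth.Agent.S0321

/-!
# Murthy's theorem, part B: the depth count (helper6)

* `false_of_depth_ideal`: in a Cohen–Macaulay local ring of dimension `n`, a proper ideal `J` which
  has depth `n` as a module cannot have all its primes of height `≥ 2`.
-/

set_option autoImplicit false
universe u

namespace Groth.Agent.Lib.H6xMurthy

open IsLocalRing

theorem depth_self_eq {R : Type u} [CommRing R] [hR : LocCoh.IsCohenMacaulayLocalRing R] (n : ℕ)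
    (hn : ringKrullDim R = n) : LocCoh.depth R R = n := by
  have h := hR.supportDim_eq_depth
  rw [Module.supportDim_self_eq_ringKrullDim, hn] at h
  have h' : ((n : ℕ∞) : WithBot ℕ∞) = ((LocCoh.depth R R : ℕ∞) : WithBot ℕ∞) := by
    rw [← h]; rfl
  exact (WithBot.coe_injective h').symm

theorem false_of_depth_ideal {R : Type u} [CommRing R] [LocCoh.IsCohenMacaulayLocalRing R] (n : ℕ)
    (hn : ringKrullDim R = n) (J : Ideal R) (hJ : J ≠ ⊤) (hdepth : LocCoh.depth R J = n)
    (hht : ∀ q : Ideal R, q.IsPrime → J ≤ q → 2 ≤ q.height) : False := by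
  have hR := depth_self_eq n hn
  have hS := (Groth.Agent.S0321.result R (maximalIdeal R) J R (R ⧸ J) J.subtype J.mkQ
    J.injective_subtype J.mkQ_surjective (LinearMap.exact_subtype_mkQ J)).2.1
  change min (LocCoh.depth R R) (LocCoh.depth R J - 1) ≤ LocCoh.depth R (R ⧸ J) at hS
  rw [hR, hdepth] at hS
  have hnt : Nontrivial (R ⧸ J) := Submodule.Quotient.nontrivial_iff.mpr hJ
  obtain ⟨q, hq⟩ := associatedPrimes.nonempty R (R ⧸ J)
  have hqp : q.IsPrime := IsAssociatedPrime.isPrime hq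
  have hJq : J ≤ q := by
    have := Groth.Agent.Lib.Helper5.annihilator_le_of_mem_associatedPrimes hq
    rwa [Ideal.annihilator_quotient] at this
  have hd := Groth.Agent.Lib.Helper5.depth_le_ringKrullDim_quotient hq
  have hh := Groth.Agent.Lib.Helper28.height_add_ringKrullDim_quotient_le q hqp.ne_top
  have h2 := hht q hqp hJq
  set d := LocCoh.depth R (R ⧸ J) with hdd
  have h1 : ((2 : ℕ∞) + d : ℕ∞) ≤ (n : ℕ∞) := by
    have h3 : (((2 : ℕ∞) + d : ℕ∞) : WithBot ℕ∞) ≤ ((n : ℕ∞) : WithBot ℕ∞) := by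
      calc (((2 : ℕ∞) + d : ℕ∞) : WithBot ℕ∞) = ((2 : ℕ∞) : WithBot ℕ∞) + (d : WithBot ℕ∞) := by
            push_cast; rfl
        _ ≤ (q.height : WithBot ℕ∞) + ringKrullDim (R ⧸ q) :=
            add_le_add (WithBot.coe_le_coe.mpr h2) hd
        _ ≤ ringKrullDim R := hh
        _ = ((n : ℕ∞) : WithBot ℕ∞) := by rw [hn]; rfl
    exact WithBot.coe_le_coe.mp h3
  have h4 : (2 : ℕ∞) + min (n : ℕ∞) ((n : ℕ∞) - 1) ≤ n := le_trans (add_le_add le_rfl hS) h1
  have h5 : ((n : ℕ∞) - 1) = ((n - 1 : ℕ) : ℕ∞) := by norm_cast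
  rw [h5, min_eq_right (by exact_mod_cast Nat.sub_le n 1)] at h4
  have h6 : (2 + (n - 1) : ℕ) ≤ n := by exact_mod_cast h4
  omega

end Groth.Agent.Lib.H6xMurthy
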