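import Mathlib
import Groth.Prelude.Def_RegImm
import Groth.Agent.Lib.R2H4RegSpread
import Groth.Agent.Lib.Helper4FibDimD
import Groth.Agent.Lib.R2H4FibreQReg
import Groth.Agent.Lib.Helper28Depth
import Groth.Agent.Lib.H6xMurthyB

/-!
# Quasi-finite slicing, ring level (helper4, round 2)

* `eq_of_le_of_fibLocRing_dim_zero`, `quasiFiniteAt_of_isClosed_of_dim_zero`: a closed point of a
  fibre of a finite type algebra whose fibre local ring has dimension `0` is a quasi-finite point.
* `qf_quot`, `dim_fibLocRing_quot`, `qf_main'`, `qf_main`: for `l ⊆ P` with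
  `dim (B_P/pB_P)/(l) = 0` and `P` closed in its fibre there is `d ∉ P` such that `C_{de}/(l)` is
  quasi-finite over `A` and `P` is the only prime of `V(l) ∩ D(d)` over `p`.
* `exists_isRegular_of_cm`, `exists_list_of_cm`: maximal regular sequences in Cohen–Macaulay
  (fibre) local rings, with members from the chart ring.
-/

set_option autoImplicit false
set_option linter.style.haveILetI false
universe u
open scoped TensorProduct

namespace Groth.Agent.Lib.R2H4.SliceQF


open IsLocalRing RingTheory.Sequence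

section A1

variable {A B : Type u} [CommRing A] [CommRing B] [Algebra A B]

/-- a prime below `Q` in the same fibre equals `Q` when the fibre local ring has dimension `0` -/
theorem eq_of_le_of_fibLocRing_dim_zero (Q : Ideal B) [Q.IsPrime]
    (hdim : ringKrullDim (EGA4.FibLocRing A B Q) ≤ 0)
    (Q' : Ideal B) [Q'.IsPrime] (hle : Q' ≤ Q) (hunder : Q'.under A = Q.under A) : Q' = Q := by
  set Bq := Localization.AtPrime Q
  set J : Ideal Bq := (Q.comap (algebraMap A B)).map (algebraMap A Bq) with hJ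
  haveI : Ring.KrullDimLE 0 (Bq ⧸ J) := Ring.krullDimLE_iff.mpr hdim
  have hdisj' : Disjoint (Q.primeCompl : Set B) (Q' : Set B) := by
    rw [Set.disjoint_left]
    intro a ha ha'
    exact ha (hle ha')
  have hdisj : Disjoint (Q.primeCompl : Set B) (Q : Set B) := by
    rw [Set.disjoint_left]
    intro a ha ha'
    exact ha ha'
  have hp' : (Q'.map (algebraMap B Bq)).IsPrime :=
    IsLocalization.isPrime_of_isPrime_disjoint Q.primeCompl Bq Q' inferInstance hdisj'
  have hp : (Q.map (algebraMap B Bq)).IsPrime :=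
    IsLocalization.isPrime_of_isPrime_disjoint Q.primeCompl Bq Q inferInstance hdisj
  have hc' : (Q'.map (algebraMap B Bq)).comap (algebraMap B Bq) = Q' :=
    IsLocalization.comap_map_of_isPrime_disjoint Q.primeCompl Bq inferInstance hdisj'
  have hc : (Q.map (algebraMap B Bq)).comap (algebraMap B Bq) = Q :=
    IsLocalization.comap_map_of_isPrime_disjoint Q.primeCompl Bq inferInstance hdisj
  have hJ' : J ≤ Q'.map (algebraMap B Bq) := by
    rw [hJ, IsScalarTower.algebraMap_eq A B Bq, ← Ideal.map_map]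
    apply Ideal.map_mono
    have : Q.comap (algebraMap A B) = Q'.comap (algebraMap A B) := hunder.symm
    rw [this]
    exact Ideal.map_comap_le
  have hJQ : J ≤ Q.map (algebraMap B Bq) := hJ'.trans (Ideal.map_mono hle)
  have hker : RingHom.ker (Ideal.Quotient.mk J) = J := Ideal.mk_ker
  have hq' : ((Q'.map (algebraMap B Bq)).map (Ideal.Quotient.mk J)).IsPrime :=
    Ideal.map_isPrime_of_surjective Ideal.Quotient.mk_surjective (by rw [hker]; exact hJ')
  have hq : ((Q.map (algebraMap B Bq)).map (Ideal.Quotient.mk J)).IsPrime :=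
    Ideal.map_isPrime_of_surjective Ideal.Quotient.mk_surjective (by rw [hker]; exact hJQ)
  have hmax := hq'.isMaximal'
  have heq : (Q'.map (algebraMap B Bq)).map (Ideal.Quotient.mk J) =
      (Q.map (algebraMap B Bq)).map (Ideal.Quotient.mk J) :=
    hmax.eq_of_le hq.ne_top (Ideal.map_mono (Ideal.map_mono hle))
  have hcm : ∀ I : Ideal Bq, J ≤ I → (I.map (Ideal.Quotient.mk J)).comap (Ideal.Quotient.mk J) = I := by
    intro I hI
    rw [Ideal.comap_map_of_surjective _ Ideal.Quotient.mk_surjective, ← RingHom.ker_eq_comap_bot,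
      hker]
    exact sup_eq_left.mpr hI
  have h2 : Q'.map (algebraMap B Bq) = Q.map (algebraMap B Bq) := by
    rw [← hcm _ hJ', ← hcm _ hJQ, heq]
  exact hc'.symm.trans ((congrArg (Ideal.comap (algebraMap B Bq)) h2).trans hc)

end A1

section A1b

variable {A B : Type u} [CommRing A] [CommRing B] [Algebra A B]

/-- a closed point of a fibre of a finite type algebra whose fibre local ring has dimension `0` is
a quasi-finite point -/
theorem quasiFiniteAt_of_isClosed_of_dim_zero [Algebra.FiniteType A B] (Q : PrimeSpectrum B)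
    (hdim : ringKrullDim (EGA4.FibLocRing A B Q.asIdeal) ≤ 0)
    (hcl : IsClosed (X := PrimeSpectrum.comap (algebraMap A B) ⁻¹' {Q.comap (algebraMap A B)})
      {⟨Q, rfl⟩}) :
    Algebra.QuasiFiniteAt A Q.asIdeal := by
  refine Algebra.QuasiFiniteAt.of_isOpen_singleton_fiber Q ?_
  let p := Q.comap (algebraMap A B)
  let e := PrimeSpectrum.preimageHomeomorphFiber A B p
  rw [← e.isOpen_image, Set.image_singleton]
  haveI : IsNoetherianRing (p.asIdeal.Fiber B) :=
    Algebra.FiniteType.isNoetherianRing p.asIdeal.ResidueField _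
  haveI : IsJacobsonRing (p.asIdeal.Fiber B) :=
    isJacobsonRing_of_finiteType (A := p.asIdeal.ResidueField)
  rw [(PrimeSpectrum.isOpen_singleton_tfae_of_isNoetherian_of_isJacobsonRing
    (e ⟨Q, rfl⟩)).out 0 2 rfl rfl]
  refine ⟨?_, ?_⟩
  · rw [← Set.image_singleton, e.isClosed_image]
    exact hcl
  · intro x y hyx hx
    rw [Set.mem_singleton_iff] at hx ⊢
    subst hx
    have h1 : e.symm y ⤳ e.symm (e ⟨Q, rfl⟩) := hyx.map e.symm.continuous
    rw [e.symm_apply_apply] at h1
    have h2 : ((e.symm y : PrimeSpectrum.comap (algebraMap A B) ⁻¹' {p}) : PrimeSpectrum B) ⤳ Q :=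
      (subtype_specializes_iff _ _).mp h1
    have h3 : (e.symm y).1 ≤ Q := (PrimeSpectrum.le_iff_specializes _ _).mpr h2
    have h4 : (e.symm y).1.comap (algebraMap A B) = Q.comap (algebraMap A B) := (e.symm y).2
    haveI : (e.symm y).1.asIdeal.IsPrime := (e.symm y).1.isPrime
    have h5 : (e.symm y).1.asIdeal = Q.asIdeal :=
      eq_of_le_of_fibLocRing_dim_zero (A := A) Q.asIdeal hdim _ h3
        (congrArg PrimeSpectrum.asIdeal h4)
    have h6 : e.symm y = ⟨Q, rfl⟩ := Subtype.ext (PrimeSpectrum.ext h5)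
    rw [← h6, e.apply_symm_apply]

end A1b

section A2

variable {A C : Type u} [CommRing A] [CommRing C] [Algebra A C]

set_option maxHeartbeats 1600000 in
/-- a quasi-finite point of a quotient `C/I` has a principal neighbourhood `D(d)` in `Spec C` over
which `C/I` is quasi-finite and in whose fibre it is the only point -/
theorem qf_quot [Algebra.FiniteType A C] (I : Ideal C) (Q : Ideal (C ⧸ I)) [Q.IsPrime]
    [Algebra.QuasiFiniteAt A Q] :
    ∃ d : C, Ideal.Quotient.mk I d ∉ Q ∧
      (∀ (e : C) (L : Type u) [CommRing L] [Algebra C L] [Algebra A L] [IsScalarTower A C L]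
        [IsLocalization.Away (d * e) L], Algebra.QuasiFinite A (L ⧸ I.map (algebraMap C L))) ∧
      ∀ (Q' : Ideal C) [Q'.IsPrime], I ≤ Q' → d ∉ Q' →
        Q'.under A = (Q.comap (Ideal.Quotient.mk I)).under A →
        Q' = Q.comap (Ideal.Quotient.mk I) := by
  obtain ⟨r₁, hr₁, hqf⟩ := Groth.Agent.Lib.Helper4.FibDim.exists_notMem_quasiFinite_away (R := A) Q
  haveI : Q.LiesOver (Q.under A) := ⟨rfl⟩
  obtain ⟨r₂, hr₂, huniq⟩ := Ideal.exists_not_mem_forall_mem_of_ne_of_liesOver (Q.under A) Q
  obtain ⟨d, hd⟩ := Ideal.Quotient.mk_surjective (r₁ * r₂)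
  have hdQ : Ideal.Quotient.mk I d ∉ Q := by
    rw [hd]
    exact fun h => (Ideal.IsPrime.mem_or_mem inferInstance h).elim hr₁ hr₂
  refine ⟨d, hdQ, ?_, ?_⟩
  · intro e L _ _ _ _ _
    let g : (C ⧸ I) →ₐ[A] (L ⧸ I.map (algebraMap C L)) :=
      Ideal.quotientMapₐ (I.map (algebraMap C L)) (IsScalarTower.toAlgHom A C L)
        Ideal.le_comap_map
    have hg : ∀ a : C, g (Ideal.Quotient.mk I a) = Ideal.Quotient.mk _ (algebraMap C L a) :=
      fun a => rfl
    have hunit : ∀ n : ℕ, IsUnit (g (Ideal.Quotient.mk I ((d * e) ^ n))) := by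
      intro n
      rw [hg, map_pow]
      exact ((IsLocalization.Away.algebraMap_isUnit (S := L) (d * e)).pow n).map
        (Ideal.Quotient.mk _)
    have hu1 : IsUnit (g r₁) := by
      have h1 : IsUnit (g (Ideal.Quotient.mk I (d * e))) := by simpa using hunit 1
      rw [map_mul, hd, map_mul, map_mul, mul_assoc] at h1
      exact isUnit_of_mul_isUnit_left h1
    let f : Localization.Away r₁ →ₐ[A] (L ⧸ I.map (algebraMap C L)) :=
      IsLocalization.Away.liftAlgHom r₁ (f := g) hu1
    have hf : ∀ b : C ⧸ I, f (algebraMap _ _ b) = g b := fun b =>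
      IsLocalization.Away.lift_eq r₁ hu1 b
    refine Algebra.QuasiFinite.of_forall_exists_mul_mem_range f fun x => ?_
    obtain ⟨y, rfl⟩ := Ideal.Quotient.mk_surjective x
    obtain ⟨n, a, ha⟩ := IsLocalization.Away.surj (d * e) y
    refine ⟨algebraMap _ _ (Ideal.Quotient.mk I ((d * e) ^ n)), ?_, ?_⟩
    · rw [hf]
      exact hunit n
    · refine ⟨algebraMap _ _ (Ideal.Quotient.mk I a), ?_⟩
      change f (algebraMap _ _ (Ideal.Quotient.mk I a)) = _
      rw [hf, hf, hg, hg, ← map_mul, map_pow, ha]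
  · intro Q' _ hIQ' hdQ' hunder
    haveI hprime : (Q'.map (Ideal.Quotient.mk I)).IsPrime :=
      Ideal.isPrime_map_quotientMk_of_isPrime hIQ'
    have hcomap : (Q'.map (Ideal.Quotient.mk I)).comap (Ideal.Quotient.mk I) = Q' := by
      rw [Ideal.comap_map_of_surjective _ Ideal.Quotient.mk_surjective, ← RingHom.ker_eq_comap_bot,
        Ideal.mk_ker]
      exact sup_eq_left.mpr hIQ'
    by_cases hne : Q'.map (Ideal.Quotient.mk I) = Q
    · rw [← hne, hcomap]
    · exfalso
      have hlies : (Q'.map (Ideal.Quotient.mk I)).LiesOver (Q.under A) := by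
        constructor
        have h1 : (Q'.map (Ideal.Quotient.mk I)).under A = Q'.under A := by
          conv_rhs => rw [← hcomap]
          rfl
        have h2 : (Q.comap (Ideal.Quotient.mk I)).under A = Q.under A := rfl
        rw [h1, hunder, h2]
      have h3 := huniq _ hprime hne hlies
      apply hdQ'
      rw [← hcomap, Ideal.mem_comap, hd]
      exact Ideal.mul_mem_left _ _ h3

end A2

section A3

variable {A C : Type u} [CommRing A] [CommRing C] [Algebra A C]

/-- dimension of the fibre local ring of a quotient -/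
theorem dim_fibLocRing_quot (I : Ideal C) (Q : Ideal (C ⧸ I)) [Q.IsPrime] :
    ringKrullDim (EGA4.FibLocRing A (C ⧸ I) Q) =
      ringKrullDim (EGA4.FibLocRing A C (Q.comap (Ideal.Quotient.mkₐ A I).toRingHom) ⧸
        I.map (algebraMap C (EGA4.FibLocRing A C (Q.comap (Ideal.Quotient.mkₐ A I).toRingHom)))) := by
  obtain ⟨ρ, hρ, hker, -⟩ := Groth.Agent.Lib.R2H4.RegSpread.exists_fibLocMap
    (Ideal.Quotient.mkₐ A I) (Ideal.Quotient.mkₐ_surjective A I) Q
  have hk : RingHom.ker (Ideal.Quotient.mkₐ A I).toRingHom = I := Ideal.mk_ker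
  rw [hk] at hker
  have e1 : (EGA4.FibLocRing A C (Q.comap (Ideal.Quotient.mkₐ A I).toRingHom) ⧸ RingHom.ker ρ) ≃+*
      EGA4.FibLocRing A (C ⧸ I) Q := RingHom.quotientKerEquivOfSurjective hρ
  have h1 : ringKrullDim (EGA4.FibLocRing A C (Q.comap (Ideal.Quotient.mkₐ A I).toRingHom) ⧸
      RingHom.ker ρ) = ringKrullDim (EGA4.FibLocRing A (C ⧸ I) Q) :=
    ringKrullDim_eq_of_ringEquiv e1
  have h2 : ringKrullDim (EGA4.FibLocRing A C (Q.comap (Ideal.Quotient.mkₐ A I).toRingHom) ⧸
      RingHom.ker ρ) = ringKrullDim (EGA4.FibLocRing A C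
        (Q.comap (Ideal.Quotient.mkₐ A I).toRingHom) ⧸ I.map (algebraMap C
          (EGA4.FibLocRing A C (Q.comap (Ideal.Quotient.mkₐ A I).toRingHom)))) :=
    ringKrullDim_eq_of_ringEquiv (Ideal.quotEquivOfEq hker)
  rw [← h1, h2]

set_option maxHeartbeats 1600000 in
/-- **Ring form of the quasi-finite slicing step** (prime of the quotient given). -/
theorem qf_main' [Algebra.FiniteType A C] (I : Ideal C) (Q : Ideal (C ⧸ I)) [Q.IsPrime]
    (P : PrimeSpectrum C) (hP : Q.comap (Ideal.Quotient.mkₐ A I).toRingHom = P.asIdeal)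
    (hdim : ringKrullDim (EGA4.FibLocRing A C P.asIdeal ⧸
      I.map (algebraMap C (EGA4.FibLocRing A C P.asIdeal))) ≤ 0)
    (hcl : IsClosed (X := PrimeSpectrum.comap (algebraMap A C) ⁻¹' {P.comap (algebraMap A C)})
      {⟨P, rfl⟩}) :
    ∃ d : C, d ∉ P.asIdeal ∧
      (∀ (e : C) (L : Type u) [CommRing L] [Algebra C L] [Algebra A L] [IsScalarTower A C L]
        [IsLocalization.Away (d * e) L], Algebra.QuasiFinite A (L ⧸ I.map (algebraMap C L))) ∧
      ∀ (Q' : Ideal C) [Q'.IsPrime], I ≤ Q' → d ∉ Q' → Q'.under A = P.asIdeal.under A →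
        Q' = P.asIdeal := by
  obtain ⟨P, hPprime⟩ := P
  change Q.comap (Ideal.Quotient.mkₐ A I).toRingHom = P at hP
  subst hP
  have hdimQ : ringKrullDim (EGA4.FibLocRing A (C ⧸ I) Q) ≤ 0 := by
    rw [dim_fibLocRing_quot]
    exact hdim
  -- closedness in the fibre of `Spec (C/I)`
  let Qpt : PrimeSpectrum (C ⧸ I) := ⟨Q, inferInstance⟩
  let Ppt : PrimeSpectrum C := ⟨Q.comap (Ideal.Quotient.mkₐ A I).toRingHom, hPprime⟩
  have hcomap : ∀ Q' : PrimeSpectrum (C ⧸ I),
      (PrimeSpectrum.comap (Ideal.Quotient.mk I) Q').comap (algebraMap A C) =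
        Q'.comap (algebraMap A (C ⧸ I)) := fun Q' => rfl
  let g : (PrimeSpectrum.comap (algebraMap A (C ⧸ I)) ⁻¹' {Qpt.comap (algebraMap A (C ⧸ I))}) →
      (PrimeSpectrum.comap (algebraMap A C) ⁻¹' {Ppt.comap (algebraMap A C)}) :=
    fun Q' => ⟨PrimeSpectrum.comap (Ideal.Quotient.mk I) Q'.1, by
      have := Q'.2
      simp only [Set.mem_preimage, Set.mem_singleton_iff] at this ⊢
      rw [hcomap, this]
      rfl⟩
  have hg : Continuous g :=
    Continuous.subtype_mk ((PrimeSpectrum.continuous_comap (Ideal.Quotient.mk I)).comp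
      continuous_subtype_val) _
  have hclQ : IsClosed (X := PrimeSpectrum.comap (algebraMap A (C ⧸ I)) ⁻¹'
      {Qpt.comap (algebraMap A (C ⧸ I))}) {⟨Qpt, rfl⟩} := by
    have h1 : ({⟨Qpt, rfl⟩} : Set (PrimeSpectrum.comap (algebraMap A (C ⧸ I)) ⁻¹'
        {Qpt.comap (algebraMap A (C ⧸ I))})) = g ⁻¹' {⟨Ppt, rfl⟩} := by
      ext Q'
      simp only [Set.mem_singleton_iff, Set.mem_preimage]
      constructor
      · rintro rfl
        rfl
      · intro h
        have h2 : PrimeSpectrum.comap (Ideal.Quotient.mk I) Q'.1 =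
            PrimeSpectrum.comap (Ideal.Quotient.mk I) Qpt := congrArg Subtype.val h
        exact Subtype.ext (PrimeSpectrum.comap_injective_of_surjective _
          Ideal.Quotient.mk_surjective h2)
    rw [h1]
    exact hcl.preimage hg
  haveI : Algebra.QuasiFiniteAt A Q :=
    quasiFiniteAt_of_isClosed_of_dim_zero (A := A) Qpt hdimQ hclQ
  obtain ⟨d, hd, h1, h2⟩ := qf_quot (A := A) I Q
  exact ⟨d, hd, h1, h2⟩

/-- **Ring form of the quasi-finite slicing step.** -/
theorem qf_main [Algebra.FiniteType A C] (P : PrimeSpectrum C) (l : List C)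
    (hlP : ∀ a ∈ l, a ∈ P.asIdeal)
    (hdim : ringKrullDim (EGA4.FibLocRing A C P.asIdeal ⧸
      Ideal.ofList (l.map (algebraMap C (EGA4.FibLocRing A C P.asIdeal)))) ≤ 0)
    (hcl : IsClosed (X := PrimeSpectrum.comap (algebraMap A C) ⁻¹' {P.comap (algebraMap A C)})
      {⟨P, rfl⟩}) :
    ∃ d : C, d ∉ P.asIdeal ∧
      (∀ (e : C) (L : Type u) [CommRing L] [Algebra C L] [Algebra A L] [IsScalarTower A C L]
        [IsLocalization.Away (d * e) L],
        Algebra.QuasiFinite A (L ⧸ Ideal.ofList (l.map (algebraMap C L)))) ∧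
      ∀ (Q' : Ideal C) [Q'.IsPrime], (∀ a ∈ l, a ∈ Q') → d ∉ Q' →
        Q'.under A = P.asIdeal.under A → Q' = P.asIdeal := by
  have hIP : Ideal.ofList l ≤ P.asIdeal := Ideal.span_le.mpr fun a ha => hlP a ha
  haveI hprime : (P.asIdeal.map (Ideal.Quotient.mk (Ideal.ofList l))).IsPrime :=
    Ideal.isPrime_map_quotientMk_of_isPrime hIP
  have hcomap : (P.asIdeal.map (Ideal.Quotient.mk (Ideal.ofList l))).comap
      (Ideal.Quotient.mkₐ A (Ideal.ofList l)).toRingHom = P.asIdeal := by
    change (P.asIdeal.map (Ideal.Quotient.mk (Ideal.ofList l))).comap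
      (Ideal.Quotient.mk (Ideal.ofList l)) = P.asIdeal
    rw [Ideal.comap_map_of_surjective _ Ideal.Quotient.mk_surjective, ← RingHom.ker_eq_comap_bot,
      Ideal.mk_ker]
    exact sup_eq_left.mpr hIP
  rw [← Ideal.map_ofList] at hdim
  obtain ⟨d, hd, h1, h2⟩ := qf_main' (A := A) (Ideal.ofList l)
    (P.asIdeal.map (Ideal.Quotient.mk (Ideal.ofList l))) P hcomap hdim hcl
  refine ⟨d, hd, fun e L _ _ _ _ _ => ?_, fun Q' _ hl' => h2 Q' (Ideal.span_le.mpr fun a ha => hl' a ha)⟩
  rw [← Ideal.map_ofList]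
  exact h1 e L

end A3





section A4

/-- a Cohen–Macaulay local ring has a regular sequence in the maximal ideal whose length is the
dimension -/
theorem exists_isRegular_of_cm (F : Type u) [CommRing F] [hCM : LocCoh.IsCohenMacaulayLocalRing F] :
    ∃ rs : List F, IsRegular F rs ∧ ringKrullDim (F ⧸ Ideal.ofList rs) ≤ 0 := by
  obtain ⟨n, hn⟩ : ∃ n : ℕ, ringKrullDim F = n := by
    have h1 : ringKrullDim F ≠ ⊥ := ringKrullDim_ne_bot
    have h2 : ringKrullDim F ≠ ⊤ := ringKrullDim_ne_top
    obtain ⟨m, hm⟩ := WithBot.ne_bot_iff_exists.mp h1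
    have h3 : m ≠ ⊤ := by
      rintro rfl
      exact h2 hm.symm
    obtain ⟨n, hn⟩ := ENat.ne_top_iff_exists.mp h3
    exact ⟨n, by rw [← hm, ← hn]; rfl⟩
  have hdepth : LocCoh.depth F F = n := Groth.Agent.Lib.H6xMurthy.depth_self_eq n hn
  have hne : maximalIdeal F • (⊤ : Submodule F F) ≠ ⊤ := by
    rw [smul_eq_mul, Ideal.mul_top]
    exact Ideal.IsPrime.ne_top inferInstance
  obtain ⟨rs, hlen, -, hreg⟩ :=
    (Groth.Agent.Lib.Helper28.natCast_le_idealDepth_iff (I := maximalIdeal F) (M := F) hne n).mp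
      (by
        change (n : ℕ∞) ≤ LocCoh.depth F F
        rw [hdepth])
  refine ⟨rs, hreg, ?_⟩
  have h := ringKrullDim_add_length_eq_ringKrullDim_of_isRegular rs hreg
  rw [hlen, hn] at h
  generalize ringKrullDim (F ⧸ Ideal.ofList rs) = d at h ⊢
  induction d using WithBot.recBotCoe with
  | bot => exact bot_le
  | coe m =>
    induction m using ENat.recTopCoe with
    | top =>
      exfalso
      have h' : ((⊤ : ℕ∞) + (n : ℕ∞) : ℕ∞) = (n : ℕ∞) := by exact_mod_cast h
      simp at h'
    | coe k =>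
      have h' : k + n = n := by exact_mod_cast h
      have hk : k = 0 := by omega
      subst hk
      simp

variable {A C : Type u} [CommRing A] [CommRing C] [Algebra A C]

/-- a regular sequence of maximal length in a Cohen–Macaulay fibre local ring, with members coming
from the chart ring -/
theorem exists_list_of_cm (P : Ideal C) [P.IsPrime]
    [hCM : LocCoh.IsCohenMacaulayLocalRing (EGA4.FibLocRing A C P)] :
    ∃ l : List C, IsRegular (EGA4.FibLocRing A C P)
        (l.map (algebraMap C (EGA4.FibLocRing A C P))) ∧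
      ringKrullDim (EGA4.FibLocRing A C P ⧸
        Ideal.ofList (l.map (algebraMap C (EGA4.FibLocRing A C P)))) ≤ 0 := by
  set F := EGA4.FibLocRing A C P with hF
  obtain ⟨rs, hreg, hdim⟩ := exists_isRegular_of_cm F
  have hex : ∀ y : F, ∃ a : C, ∃ u : F, IsUnit u ∧ y * u = algebraMap C F a := by
    intro y
    obtain ⟨z, rfl⟩ := Ideal.Quotient.mk_surjective y
    obtain ⟨a, s, rfl⟩ := IsLocalization.exists_mk'_eq P.primeCompl z
    refine ⟨a, algebraMap C F s.1, ?_, ?_⟩
    · exact (IsLocalization.map_units (Localization.AtPrime P) s).map (Ideal.Quotient.mk _)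
    · change Ideal.Quotient.mk _ _ * Ideal.Quotient.mk _ (algebraMap C (Localization.AtPrime P) s.1)
        = Ideal.Quotient.mk _ (algebraMap C (Localization.AtPrime P) a)
      rw [← map_mul, IsLocalization.mk'_spec]
  choose g u hu hg using hex
  have hlen : rs.length = ((rs.map g).map (algebraMap C F)).length := by simp
  have hreg' : IsRegular F ((rs.map g).map (algebraMap C F)) := by
    refine Groth.Agent.Lib.R2H4.FibreQReg.isRegular_of_units rs _ hlen (fun i => ?_) hreg
    refine ⟨u (rs.get i), hu _, ?_⟩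
    rw [hg]
    simp
  refine ⟨rs.map g, hreg', ?_⟩
  -- the two ideals agree
  have hideal : Ideal.ofList ((rs.map g).map (algebraMap C F)) = Ideal.ofList rs := by
    apply le_antisymm
    · rw [Ideal.ofList, Ideal.span_le]
      intro x hx
      simp only [List.map_map, Set.mem_setOf_eq, List.mem_map, Function.comp_apply] at hx
      obtain ⟨y, hy, rfl⟩ := hx
      rw [← hg]
      exact Ideal.mul_mem_right _ _ (Ideal.subset_span hy)
    · rw [Ideal.ofList, Ideal.span_le]
      intro y hy
      have h1 : algebraMap C F (g y) ∈ Ideal.ofList ((rs.map g).map (algebraMap C F)) := by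
        apply Ideal.subset_span
        simp only [List.map_map, Set.mem_setOf_eq, List.mem_map, Function.comp_apply]
        exact ⟨y, hy, rfl⟩
      have h2 : y = algebraMap C F (g y) * ↑(hu y).unit⁻¹ := by
        rw [← hg, mul_assoc, IsUnit.mul_val_inv, mul_one]
      rw [h2]
      exact Ideal.mul_mem_right _ _ h1
  rw [hideal]
  exact hdim

end A4


end Groth.Agent.Lib.R2H4.SliceQF
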