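import Mathlib
import Groth.Prelude.Def_RegImm
import Groth.Prelude.Def_Mor2
import Groth.Prelude.Def_MoreMor
import Groth.Agent.Lib.R2H4RegSpreadSch
import Groth.Agent.Lib.R2H4FibreQReg
import Groth.Agent.Lib.Helper28PolyCM
import Groth.Agent.Lib.R2H4SliceQF

/-!
# Slicing a Cohen–Macaulay point closed in its fibre down to a quasi-finite flat scheme
(helper4, round 2)

* `main_chart`: chart form of `R2H4RegSpreadSch.main`, valid on every smaller principal open.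
* `cm_fibLocRing`, `isClosed_fibre_chart`: dictionary from the scheme-theoretic fibre to a chart.
* `main1349` (= S1349).
-/

set_option autoImplicit false
set_option linter.style.haveILetI false
universe u
open scoped TensorProduct
open CategoryTheory CategoryTheory.Limits AlgebraicGeometry TopologicalSpace

namespace Groth.Agent.Lib.R2H4.SliceCM


open IsLocalRing RingTheory.Sequence
open Groth.Agent.Lib.R2H4.RegSpreadSch

section Sch

open Groth.Agent.Lib.H9Slice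

variable {X S : Scheme.{u}}

set_option maxHeartbeats 3200000 in
/-- **Chart form of slicing by a fibrewise regular sequence**, on every smaller principal open. -/
theorem main_chart (f : X ⟶ S) [LocallyOfFinitePresentation f] (x : X)
    (hflat : (f.stalkMap x).hom.Flat)
    (S₀ : S.Opens) (hS₀ : IsAffineOpen S₀) (X₀ : X.Opens) (hX₀ : IsAffineOpen X₀)
    (hxX₀ : x ∈ X₀) (hXS : X₀ ≤ f ⁻¹ᵁ S₀) (l : List Γ(X, X₀))
    (hreg' : letI := (f.appLE S₀ X₀ hXS).hom.toAlgebra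
      IsRegular (EGA4.FibLocRing Γ(S, S₀) Γ(X, X₀) (hX₀.primeIdealOf ⟨x, hxX₀⟩).asIdeal)
        (l.map (algebraMap Γ(X, X₀)
          (EGA4.FibLocRing Γ(S, S₀) Γ(X, X₀) (hX₀.primeIdealOf ⟨x, hxX₀⟩).asIdeal)))) :
    ∃ c : Γ(X, X₀), x ∈ X.basicOpen c ∧ ∀ d : Γ(X, X₀), x ∈ X.basicOpen d →
      Mor2.IsRegularClosedImmersion (Spec.map (CommRingCat.ofHom (Ideal.Quotient.mk (Ideal.ofList
        (l.map (X.presheaf.map (homOfLE (X.basicOpen_le (c * d))).op).hom)))) ≫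
          (hX₀.basicOpen (c * d)).isoSpec.inv) ∧
      x ∈ Set.range ⇑(Spec.map (CommRingCat.ofHom (Ideal.Quotient.mk (Ideal.ofList
        (l.map (X.presheaf.map (homOfLE (X.basicOpen_le (c * d))).op).hom)))) ≫
          (hX₀.basicOpen (c * d)).fromSpec) ∧
      Flat (Spec.map (CommRingCat.ofHom (Ideal.Quotient.mk (Ideal.ofList
        (l.map (X.presheaf.map (homOfLE (X.basicOpen_le (c * d))).op).hom)))) ≫
          (hX₀.basicOpen (c * d)).fromSpec ≫ f) ∧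
      LocallyOfFinitePresentation (Spec.map (CommRingCat.ofHom (Ideal.Quotient.mk (Ideal.ofList
        (l.map (X.presheaf.map (homOfLE (X.basicOpen_le (c * d))).op).hom)))) ≫
          (hX₀.basicOpen (c * d)).fromSpec ≫ f) := by
  -- ring data
  letI algAC : Algebra Γ(S, S₀) Γ(X, X₀) := (f.appLE S₀ X₀ hXS).hom.toAlgebra
  have hfp : (f.appLE S₀ X₀ hXS).hom.FinitePresentation :=
    HasRingHomProperty.appLE (P := @LocallyOfFinitePresentation) f inferInstance ⟨S₀, hS₀⟩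
      ⟨X₀, hX₀⟩ hXS
  haveI : Algebra.FinitePresentation Γ(S, S₀) Γ(X, X₀) := hfp
  let P : Ideal Γ(X, X₀) := (hX₀.primeIdealOf ⟨x, hxX₀⟩).asIdeal
  have hflat' : Module.Flat Γ(S, S₀) (LocalizedModule P.primeCompl Γ(X, X₀)) :=
    (Groth.Agent.S0386.flat_stalkMap_iff_localizedModule S₀ hS₀ X₀ hX₀ hXS hxX₀).mp hflat
  have hlP : ∀ a ∈ l, a ∈ P := by
    intro a ha
    by_contra haP
    apply hreg'.top_ne_smul
    have hu : IsUnit (algebraMap Γ(X, X₀) (EGA4.FibLocRing Γ(S, S₀) Γ(X, X₀) P) a) :=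
      (IsLocalization.map_units (Localization.AtPrime P) (⟨a, haP⟩ : P.primeCompl)).map
        (Ideal.Quotient.mk _)
    have h1 : Ideal.ofList (l.map (algebraMap Γ(X, X₀)
        (EGA4.FibLocRing Γ(S, S₀) Γ(X, X₀) P))) = ⊤ :=
      Ideal.eq_top_of_isUnit_mem _ (Ideal.subset_span (List.mem_map_of_mem ha)) hu
    rw [h1]
    simp
  obtain ⟨c, hcP, hmain⟩ := Groth.Agent.Lib.R2H4.RegSpreadFlat.main_flat (A := Γ(S, S₀)) P l
    hflat' hreg'
  have hxc : x ∈ X.basicOpen c := (notMem_primeIdealOf_iff hX₀ x hxX₀ c).mp hcP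
  refine ⟨c, hxc, fun d hxd => ?_⟩
  have hxcd : x ∈ X.basicOpen (c * d) := by
    rw [X.basicOpen_mul]
    exact ⟨hxc, hxd⟩
  set U : X.Opens := X.basicOpen (c * d) with hUdef
  have hUX₀ : U ≤ X₀ := X.basicOpen_le (c * d)
  have hUS₀ : U ≤ f ⁻¹ᵁ S₀ := hUX₀.trans hXS
  have hU : IsAffineOpen U := hX₀.basicOpen (c * d)
  set ψ : Γ(X, X₀) →+* Γ(X, U) := (X.presheaf.map (homOfLE hUX₀).op).hom with hψ
  have hloc : (letI := ψ.toAlgebra; IsLocalization.Away (c * d) Γ(X, U)) :=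
    hX₀.isLocalization_of_eq_basicOpen (c * d) (homOfLE hUX₀) rfl
  have h1 : Spec.map (f.appLE S₀ U hUS₀) ≫ hS₀.fromSpec = hU.fromSpec ≫ f :=
    IsAffineOpen.SpecMap_appLE_fromSpec f hS₀ hU hUS₀
  have h3 : f.appLE S₀ U hUS₀ = f.appLE S₀ X₀ hXS ≫ X.presheaf.map (homOfLE hUX₀).op :=
    (Scheme.Hom.appLE_map f hXS (homOfLE hUX₀).op).symm
  haveI : IsOpenImmersion (IsAffineOpen.fromSpec hS₀) := IsAffineOpen.isOpenImmersion_fromSpec hS₀
  -- apply the ring statement to `L = Γ(X, U)`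
  letI algCL : Algebra Γ(X, X₀) Γ(X, U) := ψ.toAlgebra
  letI algAL : Algebra Γ(S, S₀) Γ(X, U) := (f.appLE S₀ U hUS₀).hom.toAlgebra
  haveI : IsScalarTower Γ(S, S₀) Γ(X, X₀) Γ(X, U) := by
    refine IsScalarTower.of_algebraMap_eq (fun a => ?_)
    change (f.appLE S₀ U hUS₀).hom a = ψ ((f.appLE S₀ X₀ hXS).hom a)
    rw [h3]
    rfl
  haveI : IsLocalization.Away (c * d) Γ(X, U) := hloc
  obtain ⟨hW, hF⟩ := hmain d Γ(X, U)
  have hmemP : ∀ a ∈ l.map ψ, a ∈ (hU.primeIdealOf ⟨x, hxcd⟩).asIdeal := by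
    intro a ha
    obtain ⟨b, hb, rfl⟩ := List.mem_map.mp ha
    by_contra hcon
    have h1 : x ∈ X.basicOpen (ψ b) := (notMem_primeIdealOf_iff hU x hxcd (ψ b)).mp hcon
    have h2 : X.basicOpen (ψ b) = U ⊓ X.basicOpen b := X.basicOpen_res b (homOfLE hUX₀).op
    rw [h2] at h1
    exact (notMem_primeIdealOf_iff hX₀ x hxX₀ b).mpr h1.2 (hlP b hb)
  have hJle : Ideal.ofList (l.map ψ) ≤ (hU.primeIdealOf ⟨x, hxcd⟩).asIdeal :=
    Ideal.span_le.mpr fun a ha => hmemP a ha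
  set J : Ideal Γ(X, U) := Ideal.ofList (l.map ψ) with hJ
  set q : Γ(X, U) ⟶ CommRingCat.of (Γ(X, U) ⧸ J) := CommRingCat.ofHom (Ideal.Quotient.mk J) with hq
  -- flatness and finite presentation of the quotient
  have hFlatC : Flat (Spec.map q ≫ hU.fromSpec ≫ f) := by
    rw [← h1, ← Category.assoc, ← Spec.map_comp]
    have h2 : (f.appLE S₀ U hUS₀ ≫ q).hom.Flat := by
      have hFl := hF l.length le_rfl
      rw [List.take_length] at hFl
      exact RingHom.flat_algebraMap_iff.mpr hFl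
    haveI : Flat (Spec.map (f.appLE S₀ U hUS₀ ≫ q)) :=
      (HasRingHomProperty.Spec_iff (P := @Flat)).mpr h2
    infer_instance
  have hLfpC : LocallyOfFinitePresentation (Spec.map q ≫ hU.fromSpec ≫ f) := by
    rw [← h1, ← Category.assoc, ← Spec.map_comp]
    have h2 : (f.appLE S₀ U hUS₀ ≫ q).hom.FinitePresentation := by
      have hfpU : (f.appLE S₀ U hUS₀).hom.FinitePresentation :=
        HasRingHomProperty.appLE (P := @LocallyOfFinitePresentation) f inferInstance ⟨S₀, hS₀⟩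
          ⟨U, hU⟩ hUS₀
      rw [CommRingCat.hom_comp]
      refine RingHom.FinitePresentation.comp ?_ hfpU
      refine RingHom.FinitePresentation.of_surjective _ Ideal.Quotient.mk_surjective ?_
      rw [hq, CommRingCat.hom_ofHom, Ideal.mk_ker]
      classical
      exact ⟨(l.map ψ).toFinset, by simp [hJ, Ideal.ofList]⟩
    haveI : LocallyOfFinitePresentation (Spec.map (f.appLE S₀ U hUS₀ ≫ q)) :=
      (HasRingHomProperty.Spec_iff (P := @LocallyOfFinitePresentation)).mpr h2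
    infer_instance
  -- regular closed immersion
  have hJne : J ≠ ⊤ := fun h =>
    (hU.primeIdealOf ⟨x, hxcd⟩).isPrime.ne_top (top_le_iff.mp (h ▸ hJle))
  have hregU : IsRegular Γ(X, U) (l.map ψ) := by
    refine ⟨hW, ?_⟩
    rw [smul_eq_mul, Ideal.mul_top]
    exact fun h => hJne h.symm
  haveI : IsAffine ↑U := hU
  have hmor : Mor2.IsRegularClosedImmersion (Spec.map q ≫ hU.isoSpec.inv) := by
    refine ⟨inferInstance, fun z => ?_⟩
    let θ : Γ(↑U, ⊤) ≃+* Γ(X, U) := U.topIso.commRingCatIsoToRingEquiv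
    refine ⟨⊤, isAffineOpen_top _, trivial, (l.map ψ).map θ.symm, ?_, ?_⟩
    · refine (AddEquiv.isRegular_congr (e := θ.symm.toAddEquiv) (List.forall₂_map_right_iff.mpr
        (List.forall₂_same.mpr fun r _ y => ?_))).mp hregU
      change θ.symm (r * y) = θ.symm r * θ.symm y
      exact map_mul θ.symm r y
    · rw [Scheme.Hom.ker_apply]
      change RingHom.ker (Spec.map q ≫ hU.isoSpec.inv).appTop.hom = _
      rw [ker_appTop hU J]
      change J.comap (θ : Γ(↑U, ⊤) →+* Γ(X, U)) =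
        Ideal.ofList ((l.map ψ).map (θ.symm : Γ(X, U) →+* Γ(↑U, ⊤)))
      rw [← Ideal.map_ofList]
      exact (Ideal.map_symm θ).symm
  exact ⟨hmor, mem_range hU J x hxcd hJle, hFlatC, hLfpC⟩

end Sch





section Dict

variable {X S : Scheme.{u}}

/-- the fibre local ring of a chart at a point where `f` is Cohen–Macaulay is Cohen–Macaulay -/
theorem cm_fibLocRing (f : X ⟶ S) (x : X)
    (hcm : LocCoh.IsCohenMacaulayLocalRing ((f.fiber (f x)).presheaf.stalk (f.asFiber x)))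
    (S₀ : S.Opens) (hS₀ : IsAffineOpen S₀) (X₀ : X.Opens) (hX₀ : IsAffineOpen X₀)
    (hxX₀ : x ∈ X₀) (hXS : X₀ ≤ f ⁻¹ᵁ S₀) :
    letI := (f.appLE S₀ X₀ hXS).hom.toAlgebra
    LocCoh.IsCohenMacaulayLocalRing
      (EGA4.FibLocRing Γ(S, S₀) Γ(X, X₀) (hX₀.primeIdealOf ⟨x, hxX₀⟩).asIdeal) := by
  letI := (f.appLE S₀ X₀ hXS).hom.toAlgebra
  have hz : f.fiberι (f x) (f.asFiber x) ∈ X₀ := by
    rw [Scheme.Hom.fiberι_asFiber]
    exact hxX₀
  obtain ⟨eR, -⟩ := Groth.Agent.Lib.R2H4.FibreQReg.exists_fiberStalk_equiv f hX₀ hS₀ hXS (f x)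
    (f.asFiber x) hz
  have hpt : (⟨f.fiberι (f x) (f.asFiber x), hz⟩ : X₀) = ⟨x, hxX₀⟩ :=
    Subtype.ext (Scheme.Hom.fiberι_asFiber f x)
  rw [hpt] at eR
  exact Groth.Agent.Lib.Helper28.isCohenMacaulayLocalRing_of_ringEquiv eR

/-- a point closed in its fibre gives a closed point of the fibre of a chart -/
theorem isClosed_fibre_chart (f : X ⟶ S) (x : X)
    (hcl : IsClosed ({f.asFiber x} : Set ↑(f.fiber (f x))))
    (S₀ : S.Opens) (hS₀ : IsAffineOpen S₀) (X₀ : X.Opens) (hX₀ : IsAffineOpen X₀)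
    (hxX₀ : x ∈ X₀) (hXS : X₀ ≤ f ⁻¹ᵁ S₀) :
    letI := (f.appLE S₀ X₀ hXS).hom.toAlgebra
    IsClosed (X := PrimeSpectrum.comap (algebraMap Γ(S, S₀) Γ(X, X₀)) ⁻¹'
      {(hX₀.primeIdealOf ⟨x, hxX₀⟩).comap (algebraMap Γ(S, S₀) Γ(X, X₀))})
      {⟨hX₀.primeIdealOf ⟨x, hxX₀⟩, rfl⟩} := by
  letI := (f.appLE S₀ X₀ hXS).hom.toAlgebra
  set Ppt : PrimeSpectrum Γ(X, X₀) := hX₀.primeIdealOf ⟨x, hxX₀⟩ with hPpt
  have hjP : hX₀.fromSpec Ppt = x := hX₀.fromSpec_primeIdealOf ⟨x, hxX₀⟩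
  have hsq : Spec.map (f.appLE S₀ X₀ hXS) ≫ hS₀.fromSpec = hX₀.fromSpec ≫ f :=
    IsAffineOpen.SpecMap_appLE_fromSpec f hS₀ hX₀ hXS
  have hfj : ∀ Q' : PrimeSpectrum Γ(X, X₀), f (hX₀.fromSpec Q') =
      hS₀.fromSpec (PrimeSpectrum.comap (algebraMap Γ(S, S₀) Γ(X, X₀)) Q') := by
    intro Q'
    rw [← Scheme.Hom.comp_apply, ← hsq, Scheme.Hom.comp_apply]
    rfl
  -- `{x}` is closed in `f ⁻¹' {f x}`
  have hclx : IsClosed ({⟨x, rfl⟩} : Set (f ⁻¹' {f x})) := by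
    rw [← (f.fiberHomeo (f x)).isClosed_image] at hcl
    simpa only [Set.image_singleton, Scheme.Hom.asFiber, Homeomorph.apply_symm_apply] using hcl
  let g : (PrimeSpectrum.comap (algebraMap Γ(S, S₀) Γ(X, X₀)) ⁻¹'
      {Ppt.comap (algebraMap Γ(S, S₀) Γ(X, X₀))}) → (f ⁻¹' {f x}) :=
    fun Q' => ⟨hX₀.fromSpec Q'.1, by
      have h2 := Q'.2
      simp only [Set.mem_preimage, Set.mem_singleton_iff] at h2 ⊢
      rw [hfj, h2, ← hfj, hjP]⟩
  have hg : Continuous g :=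
    Continuous.subtype_mk (hX₀.fromSpec.continuous.comp continuous_subtype_val) _
  have h1 : ({⟨Ppt, rfl⟩} : Set (PrimeSpectrum.comap (algebraMap Γ(S, S₀) Γ(X, X₀)) ⁻¹'
      {Ppt.comap (algebraMap Γ(S, S₀) Γ(X, X₀))})) = g ⁻¹' {⟨x, rfl⟩} := by
    ext Q'
    simp only [Set.mem_singleton_iff, Set.mem_preimage]
    constructor
    · rintro rfl
      exact Subtype.ext hjP
    · intro h
      have h2 : hX₀.fromSpec Q'.1 = hX₀.fromSpec Ppt := (congrArg Subtype.val h).trans hjP.symm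
      exact Subtype.ext (hX₀.fromSpec.isOpenEmbedding.injective h2)
  rw [h1]
  exact hclx.preimage hg

end Dict




open Groth.Agent.Lib.R2H4.SliceQF

section Sch

open Groth.Agent.Lib.H9Slice

variable {X S : Scheme.{u}}

set_option maxHeartbeats 3200000 in
/-- **S1349** -/
theorem main1349 (f : X ⟶ S) [LocallyOfFinitePresentation f] (x : X)
    (hcm : MoreMor.IsCMAt f x) (hcl : IsClosed ({f.asFiber x} : Set ↑(f.fiber (f x)))) :
    ∃ (V : X.Opens) (Z : Scheme.{u}) (i : Z ⟶ (V : Scheme.{u})),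
      Mor2.IsRegularClosedImmersion i ∧ x ∈ Set.range ⇑(i ≫ V.ι) ∧
      Flat (i ≫ V.ι ≫ f) ∧ LocallyOfFinitePresentation (i ≫ V.ι ≫ f) ∧
      LocallyQuasiFinite (i ≫ V.ι ≫ f) ∧
      ∀ z : Z, f (V.ι (i z)) = f x → V.ι (i z) = x := by
  obtain ⟨hflat, hcmF⟩ := hcm
  obtain ⟨_, ⟨S₀, hS₀, rfl⟩, hsS₀, -⟩ :=
    S.isBasis_affineOpens.exists_subset_of_mem_open (Set.mem_univ (f x)) isOpen_univ
  obtain ⟨_, ⟨X₀, hX₀, rfl⟩, hxX₀, hX₀'⟩ :=
    X.isBasis_affineOpens.exists_subset_of_mem_open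
      (show x ∈ f ⁻¹ᵁ S₀ from hsS₀) (f ⁻¹ᵁ S₀).2
  have hXS : X₀ ≤ f ⁻¹ᵁ S₀ := hX₀'
  letI algAC : Algebra Γ(S, S₀) Γ(X, X₀) := (f.appLE S₀ X₀ hXS).hom.toAlgebra
  have hfp : (f.appLE S₀ X₀ hXS).hom.FinitePresentation :=
    HasRingHomProperty.appLE (P := @LocallyOfFinitePresentation) f inferInstance ⟨S₀, hS₀⟩
      ⟨X₀, hX₀⟩ hXS
  haveI : Algebra.FinitePresentation Γ(S, S₀) Γ(X, X₀) := hfp
  set Ppt : PrimeSpectrum Γ(X, X₀) := hX₀.primeIdealOf ⟨x, hxX₀⟩ with hPpt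
  haveI hCM : LocCoh.IsCohenMacaulayLocalRing (EGA4.FibLocRing Γ(S, S₀) Γ(X, X₀) Ppt.asIdeal) :=
    cm_fibLocRing f x hcmF S₀ hS₀ X₀ hX₀ hxX₀ hXS
  obtain ⟨l, hreg', hdim⟩ := exists_list_of_cm (A := Γ(S, S₀)) Ppt.asIdeal
  have hclR := isClosed_fibre_chart f x hcl S₀ hS₀ X₀ hX₀ hxX₀ hXS
  obtain ⟨c, hxc, hmain⟩ := main_chart f x hflat S₀ hS₀ X₀ hX₀ hxX₀ hXS l hreg'
  have hlP : ∀ a ∈ l, a ∈ Ppt.asIdeal := by
    intro a ha
    by_contra haP
    apply hreg'.top_ne_smul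
    have hu : IsUnit (algebraMap Γ(X, X₀) (EGA4.FibLocRing Γ(S, S₀) Γ(X, X₀) Ppt.asIdeal) a) :=
      (IsLocalization.map_units (Localization.AtPrime Ppt.asIdeal)
        (⟨a, haP⟩ : Ppt.asIdeal.primeCompl)).map (Ideal.Quotient.mk _)
    have h1 : Ideal.ofList (l.map (algebraMap Γ(X, X₀)
        (EGA4.FibLocRing Γ(S, S₀) Γ(X, X₀) Ppt.asIdeal))) = ⊤ :=
      Ideal.eq_top_of_isUnit_mem _ (Ideal.subset_span (List.mem_map_of_mem ha)) hu
    rw [h1]
    simp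
  obtain ⟨d, hdP, hqf, huniq⟩ := qf_main (A := Γ(S, S₀)) Ppt l hlP hdim hclR
  have hxd : x ∈ X.basicOpen d := (notMem_primeIdealOf_iff hX₀ x hxX₀ d).mp hdP
  obtain ⟨hmor, hrange, hfl, hlfp⟩ := hmain d hxd
  have hxcd : x ∈ X.basicOpen (c * d) := by
    rw [X.basicOpen_mul]
    exact ⟨hxc, hxd⟩
  set U : X.Opens := X.basicOpen (c * d) with hUdef
  have hUX₀ : U ≤ X₀ := X.basicOpen_le (c * d)
  have hUS₀ : U ≤ f ⁻¹ᵁ S₀ := hUX₀.trans hXS
  have hU : IsAffineOpen U := hX₀.basicOpen (c * d)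
  set ψ : Γ(X, X₀) →+* Γ(X, U) := (X.presheaf.map (homOfLE hUX₀).op).hom with hψ
  have hloc : (letI := ψ.toAlgebra; IsLocalization.Away (c * d) Γ(X, U)) :=
    hX₀.isLocalization_of_eq_basicOpen (c * d) (homOfLE hUX₀) rfl
  have h1 : Spec.map (f.appLE S₀ U hUS₀) ≫ hS₀.fromSpec = hU.fromSpec ≫ f :=
    IsAffineOpen.SpecMap_appLE_fromSpec f hS₀ hU hUS₀
  have h3 : f.appLE S₀ U hUS₀ = f.appLE S₀ X₀ hXS ≫ X.presheaf.map (homOfLE hUX₀).op :=
    (Scheme.Hom.appLE_map f hXS (homOfLE hUX₀).op).symm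
  haveI : IsOpenImmersion (IsAffineOpen.fromSpec hS₀) := IsAffineOpen.isOpenImmersion_fromSpec hS₀
  letI algCL : Algebra Γ(X, X₀) Γ(X, U) := ψ.toAlgebra
  letI algAL : Algebra Γ(S, S₀) Γ(X, U) := (f.appLE S₀ U hUS₀).hom.toAlgebra
  haveI : IsScalarTower Γ(S, S₀) Γ(X, X₀) Γ(X, U) := by
    refine IsScalarTower.of_algebraMap_eq (fun a => ?_)
    change (f.appLE S₀ U hUS₀).hom a = ψ ((f.appLE S₀ X₀ hXS).hom a)
    rw [h3]
    rfl
  haveI : IsLocalization.Away (d * c) Γ(X, U) := by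
    rw [mul_comm]
    exact hloc
  have hQF := hqf c Γ(X, U)
  set J : Ideal Γ(X, U) := Ideal.ofList (l.map ψ) with hJ
  set q : Γ(X, U) ⟶ CommRingCat.of (Γ(X, U) ⧸ J) := CommRingCat.ofHom (Ideal.Quotient.mk J) with hq
  refine ⟨U, Spec (CommRingCat.of (Γ(X, U) ⧸ J)), Spec.map q ≫ hU.isoSpec.inv, hmor, ?_, ?_, ?_,
    ?_, ?_⟩
  · rw [Category.assoc, IsAffineOpen.isoSpec_inv_ι]
    exact hrange
  · rw [Category.assoc, IsAffineOpen.isoSpec_inv_ι_assoc]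
    exact hfl
  · rw [Category.assoc, IsAffineOpen.isoSpec_inv_ι_assoc]
    exact hlfp
  · rw [Category.assoc, IsAffineOpen.isoSpec_inv_ι_assoc, ← h1, ← Category.assoc, ← Spec.map_comp]
    have h2 : (f.appLE S₀ U hUS₀ ≫ q).hom.QuasiFinite :=
      RingHom.quasiFinite_algebraMap.mpr hQF
    haveI : LocallyQuasiFinite (Spec.map (f.appLE S₀ U hUS₀ ≫ q)) :=
      (HasRingHomProperty.Spec_iff (P := @LocallyQuasiFinite)).mpr h2
    infer_instance
  · intro z hz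
    set y : Spec Γ(X, U) := Spec.map q z with hy
    have hUy : U.ι ((Spec.map q ≫ hU.isoSpec.inv) z) = hU.fromSpec y := by
      rw [← Scheme.Hom.comp_apply, Category.assoc, IsAffineOpen.isoSpec_inv_ι,
        Scheme.Hom.comp_apply]
    rw [hUy] at hz ⊢
    -- the prime of `Γ(X, X₀)` below `y`
    have hJy : J ≤ y.asIdeal := by
      intro a ha
      change Ideal.Quotient.mk J a ∈ z.asIdeal
      rw [Ideal.Quotient.eq_zero_iff_mem.mpr ha]
      exact zero_mem _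
    haveI hQ'prime : (y.asIdeal.comap ψ).IsPrime := Ideal.comap_isPrime ψ y.asIdeal
    have hlQ' : ∀ a ∈ l, a ∈ y.asIdeal.comap ψ := fun a ha =>
      hJy (Ideal.subset_span (List.mem_map_of_mem ha))
    have hdQ' : d ∉ y.asIdeal.comap ψ := by
      intro hd
      have h4 : ψ (c * d) ∈ y.asIdeal := by
        rw [map_mul]
        exact Ideal.mul_mem_left _ _ hd
      have h5 : IsUnit (ψ (c * d)) := IsLocalization.Away.algebraMap_isUnit (S := Γ(X, U)) (c * d)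
      exact y.isPrime.ne_top (Ideal.eq_top_of_isUnit_mem _ h4 h5)
    have hsqX : Spec.map (f.appLE S₀ X₀ hXS) ≫ hS₀.fromSpec = hX₀.fromSpec ≫ f :=
      IsAffineOpen.SpecMap_appLE_fromSpec f hS₀ hX₀ hXS
    have hjP : hX₀.fromSpec Ppt = x := hX₀.fromSpec_primeIdealOf ⟨x, hxX₀⟩
    have hunder : (y.asIdeal.comap ψ).under Γ(S, S₀) = Ppt.asIdeal.under Γ(S, S₀) := by
      have e1 : f (hU.fromSpec y) = hS₀.fromSpec (Spec.map (f.appLE S₀ U hUS₀) y) := by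
        rw [← Scheme.Hom.comp_apply, ← h1, Scheme.Hom.comp_apply]
      have e2 : f x = hS₀.fromSpec (Spec.map (f.appLE S₀ X₀ hXS) Ppt) := by
        rw [← hjP, ← Scheme.Hom.comp_apply, ← hsqX, Scheme.Hom.comp_apply]
      have e3 : Spec.map (f.appLE S₀ U hUS₀) y = Spec.map (f.appLE S₀ X₀ hXS) Ppt :=
        hS₀.fromSpec.isOpenEmbedding.injective (e1.symm.trans (hz.trans e2))
      have e4 := congrArg PrimeSpectrum.asIdeal e3
      rw [h3] at e4
      exact e4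
    have hQ'P : y.asIdeal.comap ψ = Ppt.asIdeal := huniq _ hlQ' hdQ' hunder
    have hy' : Spec.map (X.presheaf.map (homOfLE hUX₀).op) y = Ppt :=
      PrimeSpectrum.ext hQ'P
    rw [← hX₀.map_fromSpec hU (homOfLE hUX₀).op, Scheme.Hom.comp_apply, hy', hjP]

end Sch


end Groth.Agent.Lib.R2H4.SliceCM
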