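import Mathlib
import Groth.Agent.Lib.R2H4SliceCM

/-!
# Slicing by a given fibrewise regular sequence with Artinian quotient (helper5)

Variant of `R2H4.SliceCM.main1349` in which the sequence `l` is part of the data.
-/

set_option autoImplicit false
set_option linter.style.haveILetI false
universe u
open scoped TensorProduct
open CategoryTheory CategoryTheory.Limits AlgebraicGeometry TopologicalSpace

namespace Groth.Agent.Lib.H5bSl

open IsLocalRing RingTheory.Sequence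
open Groth.Agent.Lib.R2H4.RegSpreadSch Groth.Agent.Lib.R2H4.SliceQF Groth.Agent.Lib.R2H4.SliceCM
open Groth.Agent.Lib.H9Slice

variable {X S : Scheme.{u}}

set_option maxHeartbeats 3200000 in
theorem slice_chart (f : X ⟶ S) [LocallyOfFinitePresentation f] (x : X)
    (hflat : (f.stalkMap x).hom.Flat)
    (S₀ : S.Opens) (hS₀ : IsAffineOpen S₀) (X₀ : X.Opens) (hX₀ : IsAffineOpen X₀)
    (hxX₀ : x ∈ X₀) (hXS : X₀ ≤ f ⁻¹ᵁ S₀) (l : List Γ(X, X₀))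
    (hreg' : letI := (f.appLE S₀ X₀ hXS).hom.toAlgebra
      IsRegular (EGA4.FibLocRing Γ(S, S₀) Γ(X, X₀) (hX₀.primeIdealOf ⟨x, hxX₀⟩).asIdeal)
        (l.map (algebraMap Γ(X, X₀)
          (EGA4.FibLocRing Γ(S, S₀) Γ(X, X₀) (hX₀.primeIdealOf ⟨x, hxX₀⟩).asIdeal))))
    (hdim : letI := (f.appLE S₀ X₀ hXS).hom.toAlgebra
      ringKrullDim (EGA4.FibLocRing Γ(S, S₀) Γ(X, X₀) (hX₀.primeIdealOf ⟨x, hxX₀⟩).asIdeal ⧸
        Ideal.ofList (l.map (algebraMap Γ(X, X₀)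
          (EGA4.FibLocRing Γ(S, S₀) Γ(X, X₀) (hX₀.primeIdealOf ⟨x, hxX₀⟩).asIdeal)))) ≤ 0)
    (hclR : letI := (f.appLE S₀ X₀ hXS).hom.toAlgebra
      IsClosed (X := PrimeSpectrum.comap (algebraMap Γ(S, S₀) Γ(X, X₀)) ⁻¹'
        {(hX₀.primeIdealOf ⟨x, hxX₀⟩).comap (algebraMap Γ(S, S₀) Γ(X, X₀))})
        {⟨hX₀.primeIdealOf ⟨x, hxX₀⟩, rfl⟩}) :
    ∃ (D : X.Opens) (hD : IsAffineOpen D) (hDX₀ : D ≤ X₀), x ∈ D ∧
      Flat (Spec.map (CommRingCat.ofHom (Ideal.Quotient.mk (Ideal.ofList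
        (l.map (X.presheaf.map (homOfLE hDX₀).op).hom)))) ≫ hD.fromSpec ≫ f) ∧
      LocallyOfFinitePresentation (Spec.map (CommRingCat.ofHom (Ideal.Quotient.mk (Ideal.ofList
        (l.map (X.presheaf.map (homOfLE hDX₀).op).hom)))) ≫ hD.fromSpec ≫ f) ∧
      LocallyQuasiFinite (Spec.map (CommRingCat.ofHom (Ideal.Quotient.mk (Ideal.ofList
        (l.map (X.presheaf.map (homOfLE hDX₀).op).hom)))) ≫ hD.fromSpec ≫ f) ∧
      x ∈ Set.range ⇑(Spec.map (CommRingCat.ofHom (Ideal.Quotient.mk (Ideal.ofList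
        (l.map (X.presheaf.map (homOfLE hDX₀).op).hom)))) ≫ hD.fromSpec) := by
  letI algAC : Algebra Γ(S, S₀) Γ(X, X₀) := (f.appLE S₀ X₀ hXS).hom.toAlgebra
  have hfp : (f.appLE S₀ X₀ hXS).hom.FinitePresentation :=
    HasRingHomProperty.appLE (P := @LocallyOfFinitePresentation) f inferInstance ⟨S₀, hS₀⟩
      ⟨X₀, hX₀⟩ hXS
  haveI : Algebra.FinitePresentation Γ(S, S₀) Γ(X, X₀) := hfp
  set Ppt : PrimeSpectrum Γ(X, X₀) := hX₀.primeIdealOf ⟨x, hxX₀⟩ with hPpt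
  obtain ⟨c, hxc, hmain⟩ := main_chart f x hflat S₀ hS₀ X₀ hX₀ hxX₀ hXS l hreg'
  have hlP : ∀ a ∈ l, a ∈ Ppt.asIdeal := by
    intro a ha
    by_contra haP
    apply hreg'.top_ne_smul
    have hu : IsUnit (algebraMap Γ(X, X₀) (EGA4.FibLocRing Γ(S, S₀) Γ(X, X₀) Ppt.asIdeal) a) :=
      (IsLocalization.map_units (Localization.AtPrime Ppt.asIdeal)
        (⟨a, haP⟩ : Ppt.asIdeal.primeCompl)).map (Ideal.Quotient.mk _)
    have h1 : Ideal.ofList (l.map (algebraMap Γ(X, X₀)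
        (EGA4.FibLocRing Γ(S, S₀) Γ(X, X₀) Ppt.asIdeal))) = ⊤ :=
      Ideal.eq_top_of_isUnit_mem _ (Ideal.subset_span (List.mem_map_of_mem ha)) hu
    rw [h1]
    simp
  obtain ⟨d, hdP, hqf, huniq⟩ := qf_main (A := Γ(S, S₀)) Ppt l hlP hdim hclR
  have hxd : x ∈ X.basicOpen d := (notMem_primeIdealOf_iff hX₀ x hxX₀ d).mp hdP
  obtain ⟨hmor, hrange, hfl, hlfp⟩ := hmain d hxd
  have hxcd : x ∈ X.basicOpen (c * d) := by
    rw [X.basicOpen_mul]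
    exact ⟨hxc, hxd⟩
  set U : X.Opens := X.basicOpen (c * d) with hUdef
  have hUX₀ : U ≤ X₀ := X.basicOpen_le (c * d)
  have hUS₀ : U ≤ f ⁻¹ᵁ S₀ := hUX₀.trans hXS
  have hU : IsAffineOpen U := hX₀.basicOpen (c * d)
  set ψ : Γ(X, X₀) →+* Γ(X, U) := (X.presheaf.map (homOfLE hUX₀).op).hom with hψ
  have hloc : (letI := ψ.toAlgebra; IsLocalization.Away (c * d) Γ(X, U)) :=
    hX₀.isLocalization_of_eq_basicOpen (c * d) (homOfLE hUX₀) rfl
  have h1 : Spec.map (f.appLE S₀ U hUS₀) ≫ hS₀.fromSpec = hU.fromSpec ≫ f :=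
    IsAffineOpen.SpecMap_appLE_fromSpec f hS₀ hU hUS₀
  have h3 : f.appLE S₀ U hUS₀ = f.appLE S₀ X₀ hXS ≫ X.presheaf.map (homOfLE hUX₀).op :=
    (Scheme.Hom.appLE_map f hXS (homOfLE hUX₀).op).symm
  haveI : IsOpenImmersion (IsAffineOpen.fromSpec hS₀) := IsAffineOpen.isOpenImmersion_fromSpec hS₀
  letI algCL : Algebra Γ(X, X₀) Γ(X, U) := ψ.toAlgebra
  letI algAL : Algebra Γ(S, S₀) Γ(X, U) := (f.appLE S₀ U hUS₀).hom.toAlgebra
  haveI : IsScalarTower Γ(S, S₀) Γ(X, X₀) Γ(X, U) := by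
    refine IsScalarTower.of_algebraMap_eq (fun a => ?_)
    change (f.appLE S₀ U hUS₀).hom a = ψ ((f.appLE S₀ X₀ hXS).hom a)
    rw [h3]
    rfl
  haveI : IsLocalization.Away (d * c) Γ(X, U) := by
    rw [mul_comm]
    exact hloc
  have hQF := hqf c Γ(X, U)
  set J : Ideal Γ(X, U) := Ideal.ofList (l.map ψ) with hJ
  set q : Γ(X, U) ⟶ CommRingCat.of (Γ(X, U) ⧸ J) := CommRingCat.ofHom (Ideal.Quotient.mk J) with hq
  refine ⟨U, hU, hUX₀, hxcd, hfl, hlfp, ?_, hrange⟩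
  rw [← h1, ← Category.assoc, ← Spec.map_comp]
  have h2 : (f.appLE S₀ U hUS₀ ≫ q).hom.QuasiFinite :=
    RingHom.quasiFinite_algebraMap.mpr hQF
  haveI : LocallyQuasiFinite (Spec.map (f.appLE S₀ U hUS₀ ≫ q)) :=
    (HasRingHomProperty.Spec_iff (P := @LocallyQuasiFinite)).mpr h2
  infer_instance

end Groth.Agent.Lib.H5bSl
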