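import Mathlib
import Groth.Agent.Lib.Helper5CM2

/-!
# Systems of parameters chosen from the image of an ideal (helper5)

`F` a Noetherian local ring, `φ : A →+* F`, `I` an ideal of `A` with `φ(I) ⊆ 𝔪_F` such that the only
prime of `F` containing `φ(I)` is `𝔪_F`.  Then there is a list `l ⊆ I` whose image is a system of
parameters; if `F` is Cohen–Macaulay the image is a regular sequence.
-/

set_option autoImplicit false
set_option linter.style.haveILetI false
set_option linter.unusedSectionVars false
universe u

namespace Groth.Agent.Lib.H5bSl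

open Module Submodule RingTheory.Sequence IsLocalRing

section

variable {A : Type u} [CommRing A] {F : Type u} [CommRing F] [IsLocalRing F] [IsNoetherianRing F]
  (φ : A →+* F) (I : Ideal A)

theorem withBot_enat_add_one_cancel {a : WithBot ℕ∞} {n : ℕ} (h : a + 1 = ((n + 1 : ℕ) : WithBot ℕ∞)) :
    a = (n : WithBot ℕ∞) := by
  cases a with
  | bot => rw [WithBot.bot_add] at h; exact absurd h.symm (by simp)
  | coe a' =>
    have h' : a' + 1 = ((n : ℕ∞) + 1) := by exact_mod_cast h
    have := (ENat.add_left_injective_of_ne_top ENat.one_ne_top) h'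
    exact_mod_cast this

theorem exists_list_supportDim_zero (hI : ∀ a ∈ I, φ a ∈ maximalIdeal F) :
    ∀ (n : ℕ) (M : Type u) [AddCommGroup M] [Module F M] [Module.Finite F M] [Nontrivial M],
      Module.supportDim F M = (n : WithBot ℕ∞) →
      (∀ p : PrimeSpectrum F, p ∈ Module.support F M → I.map φ ≤ p.asIdeal →
        p.asIdeal = maximalIdeal F) →
      ∃ l : List A, l.length = n ∧ (∀ a ∈ l, a ∈ I) ∧
        Module.supportDim F (M ⧸ (Ideal.ofList (l.map φ) • (⊤ : Submodule F M))) = 0 := by
  intro n
  induction n with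
  | zero =>
    intro M _ _ _ _ hdim _
    refine ⟨[], rfl, by simp, ?_⟩
    have e0 : (M ⧸ (Ideal.ofList (([] : List A).map φ) • (⊤ : Submodule F M))) ≃ₗ[F] M :=
      Submodule.quotEquivOfEqBot _ (by rw [List.map_nil, Ideal.ofList_nil, Submodule.bot_smul])
    rw [Module.supportDim_eq_of_equiv e0, hdim]
    rfl
  | succ n ih =>
    intro M _ _ _ _ hdim hZ
    classical
    -- no minimal prime of the annihilator contains `φ(I)`
    have hmin : ∀ p ∈ (Module.annihilator F M).minimalPrimes, ¬ I ≤ p.comap φ := by
      intro p hp hle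
      haveI hpp : p.IsPrime := hp.1.1
      have hps : (⟨p, hpp⟩ : PrimeSpectrum F) ∈ Module.support F M := by
        rw [Module.mem_support_iff_of_finite]
        exact hp.1.2
      have hpm : p = maximalIdeal F := hZ ⟨p, hpp⟩ hps (Ideal.map_le_iff_le_comap.mpr hle)
      -- then the support is a single point
      have hsub : Subsingleton (Module.support F M) := by
        refine ⟨fun a b => ?_⟩
        have key : ∀ c : Module.support F M, c.1.asIdeal = maximalIdeal F := by
          intro c
          have hc : Module.annihilator F M ≤ c.1.asIdeal :=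
            Module.mem_support_iff_of_finite.mp c.2
          have hle2 : c.1.asIdeal ≤ p := by
            rw [hpm]; exact IsLocalRing.le_maximalIdeal c.1.isPrime.ne_top
          have := hp.2 ⟨c.1.isPrime, hc⟩ hle2
          exact le_antisymm (hpm ▸ hle2) (hpm ▸ this)
        exact Subtype.ext (PrimeSpectrum.ext ((key a).trans (key b).symm))
      have : Module.supportDim F M ≤ 0 := Order.krullDim_nonpos_of_subsingleton
      rw [hdim] at this
      have h2 : ((n + 1 : ℕ) : ℕ∞) ≤ 0 := by exact_mod_cast this
      simp at h2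
    have hfin := Ideal.finite_minimalPrimes_of_isNoetherianRing F (Module.annihilator F M)
    have hnot : ¬ ((I : Set A) ⊆ ⋃ p ∈ (↑hfin.toFinset : Set (Ideal F)), (p.comap φ : Set A)) := by
      intro hsub
      by_cases hemp : hfin.toFinset = ∅
      · rw [hemp] at hsub
        simp only [Finset.coe_empty, Set.mem_empty_iff_false, Set.iUnion_of_empty,
          Set.iUnion_empty, Set.subset_empty_iff] at hsub
        have : (0 : A) ∈ (I : Set A) := I.zero_mem
        rw [hsub] at this
        exact this
      · obtain ⟨p0, hp0⟩ := Finset.nonempty_iff_ne_empty.mpr hemp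
        have := (Ideal.subset_union_prime (f := fun p : Ideal F => p.comap φ) p0 p0
          (fun p hp _ _ => by
            haveI : p.IsPrime := ((hfin.mem_toFinset).mp hp).1.1
            exact Ideal.comap_isPrime φ p)).mp hsub
        obtain ⟨p, hp, hle⟩ := this
        exact hmin p ((hfin.mem_toFinset).mp hp) hle
    obtain ⟨a, haI, hanot⟩ := Set.not_subset.mp hnot
    have hax : ∀ p ∈ (Module.annihilator F M).minimalPrimes, φ a ∉ p := by
      intro p hp hmem
      apply hanot
      simp only [Set.mem_iUnion, Finset.mem_coe, Set.Finite.mem_toFinset, exists_prop]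
      exact ⟨p, hp, hmem⟩
    have hxm : φ a ∈ maximalIdeal F := hI a haI
    have hd1 := Module.supportDim_quotSMulTop_succ_eq_of_notMem_minimalPrimes_of_mem_maximalIdeal
      (M := M) hax hxm
    rw [hdim] at hd1
    have hd2 : Module.supportDim F (QuotSMulTop (φ a) M) = (n : WithBot ℕ∞) :=
      withBot_enat_add_one_cancel hd1
    haveI : Nontrivial (QuotSMulTop (φ a) M) :=
      Groth.Agent.Lib.Helper5.nontrivial_quotSMulTop_of_mem_maximalIdeal hxm
    have hZ1 : ∀ p : PrimeSpectrum F, p ∈ Module.support F (QuotSMulTop (φ a) M) →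
        I.map φ ≤ p.asIdeal → p.asIdeal = maximalIdeal F := by
      intro p hp hle
      rw [Module.support_quotSMulTop] at hp
      exact hZ p hp.1 hle
    obtain ⟨l', hlen, hl'I, hl'⟩ := ih (QuotSMulTop (φ a) M) hd2 hZ1
    refine ⟨a :: l', by rw [List.length_cons, hlen], ?_, ?_⟩
    · intro b hb
      rcases List.mem_cons.mp hb with rfl | hb
      · exact haI
      · exact hl'I b hb
    · rw [List.map_cons,
        Module.supportDim_eq_of_equiv
          (Submodule.quotOfListConsSMulTopEquivQuotSMulTopInner M (φ a) (l'.map φ))]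
      exact hl'

end

theorem exists_list_regular {A : Type u} [CommRing A] {F : Type u} [CommRing F]
    [hCM : LocCoh.IsCohenMacaulayLocalRing F] (φ : A →+* F) (I : Ideal A)
    (hI : ∀ a ∈ I, φ a ∈ maximalIdeal F)
    (hZ : ∀ p : Ideal F, p.IsPrime → I.map φ ≤ p → p = maximalIdeal F) :
    ∃ l : List A, (∀ a ∈ l, a ∈ I) ∧ IsRegular F (l.map φ) ∧
      ringKrullDim (F ⧸ Ideal.ofList (l.map φ)) ≤ 0 := by
  obtain ⟨n, hn⟩ : ∃ n : ℕ, ringKrullDim F = n := by
    have h1 : ringKrullDim F ≠ ⊥ := ringKrullDim_ne_bot
    have h2 : ringKrullDim F ≠ ⊤ := ringKrullDim_ne_top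
    obtain ⟨m, hm⟩ := WithBot.ne_bot_iff_exists.mp h1
    have h3 : m ≠ ⊤ := by
      rintro rfl
      exact h2 hm.symm
    obtain ⟨n, hn⟩ := ENat.ne_top_iff_exists.mp h3
    exact ⟨n, by rw [← hm, ← hn]; rfl⟩
  have hdim : Module.supportDim F F = (n : WithBot ℕ∞) := by
    rw [Module.supportDim_self_eq_ringKrullDim, hn]
  obtain ⟨l, hlen, hlI, hl⟩ := exists_list_supportDim_zero φ I hI n F hdim
    (fun p _ hle => hZ p.asIdeal p.isPrime hle)
  have hmem : ∀ x ∈ l.map φ, x ∈ maximalIdeal F := by
    intro x hx
    obtain ⟨a, ha, rfl⟩ := List.mem_map.mp hx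
    exact hI a (hlI a ha)
  have hM : LocCoh.IsCohenMacaulayModule F F := hCM.supportDim_eq_depth
  have hcrit := (Groth.Agent.Lib.Helper5.isWeaklyRegular_iff_of_isCohenMacaulayModule
    (l.map φ) F hM hmem).1
  have hweak : IsWeaklyRegular F (l.map φ) := by
    rw [hcrit, hl, hdim, List.length_map, hlen, zero_add]
  have hle : Ideal.ofList (l.map φ) ≤ maximalIdeal F := Ideal.span_le.mpr fun x hx => hmem x hx
  have hsm : Ideal.ofList (l.map φ) • (⊤ : Submodule F F) = Ideal.ofList (l.map φ) := by
    rw [smul_eq_mul, Ideal.mul_top]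
  refine ⟨l, hlI, ⟨hweak, ?_⟩, ?_⟩
  · rw [hsm]
    intro h
    exact (Ideal.IsPrime.ne_top (inferInstance : (maximalIdeal F).IsPrime))
      (top_le_iff.mp (h ▸ hle))
  · have h2 : Module.supportDim F (F ⧸ Ideal.ofList (l.map φ)) = 0 := by
      have := hl
      rw [hsm] at this
      exact this
    rw [Module.supportDim_quotient_eq_ringKrullDim] at h2
    exact h2.le

end Groth.Agent.Lib.H5bSl
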