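import Mathlib
import Groth.Prelude.Def_EGA4b
import Groth.Agent.Lib.H5bSlSeq

/-!
# Regular sequences in a Cohen–Macaulay fibre local ring coming from a second ring map (helper5)
-/

set_option autoImplicit false
set_option linter.style.haveILetI false
set_option linter.unusedSectionVars false
universe u

open IsLocalRing RingTheory.Sequence

namespace Groth.Agent.Lib.H5bSl

variable {A B : Type u} [CommRing A] [CommRing B] [Algebra A B] (q : Ideal B) [q.IsPrime]

/-- elements of the fibre local ring are fractions -/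
theorem fib_exists_unit (y : EGA4.FibLocRing A B q) :
    ∃ a : B, ∃ v : EGA4.FibLocRing A B q, IsUnit v ∧
      y * v = algebraMap B (EGA4.FibLocRing A B q) a := by
  obtain ⟨z, rfl⟩ := Ideal.Quotient.mk_surjective y
  obtain ⟨a, s, rfl⟩ := IsLocalization.exists_mk'_eq q.primeCompl z
  refine ⟨a, algebraMap B (EGA4.FibLocRing A B q) s.1, ?_, ?_⟩
  · exact (IsLocalization.map_units (Localization.AtPrime q) s).map (Ideal.Quotient.mk _)
  · change Ideal.Quotient.mk _ _ * Ideal.Quotient.mk _ (algebraMap B (Localization.AtPrime q) s.1)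
      = Ideal.Quotient.mk _ (algebraMap B (Localization.AtPrime q) a)
    rw [← map_mul, IsLocalization.mk'_spec]

theorem fib_isUnit_of_notMem (a : B) (ha : a ∉ q) :
    IsUnit (algebraMap B (EGA4.FibLocRing A B q) a) :=
  (IsLocalization.map_units (Localization.AtPrime q) (⟨a, ha⟩ : q.primeCompl)).map
    (Ideal.Quotient.mk _)

theorem fib_algebraMap_eq_zero (a : A) (ha : a ∈ q.comap (algebraMap A B)) :
    algebraMap B (EGA4.FibLocRing A B q) (algebraMap A B a) = 0 := by
  change Ideal.Quotient.mk _ (algebraMap B (Localization.AtPrime q) (algebraMap A B a)) = 0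
  rw [Ideal.Quotient.eq_zero_iff_mem, ← IsScalarTower.algebraMap_apply]
  exact Ideal.mem_map_of_mem _ ha

theorem exists_list_fib [hCM : LocCoh.IsCohenMacaulayLocalRing (EGA4.FibLocRing A B q)]
    (τ : A →+* B) (hτ : (q.comap (algebraMap A B)).map τ ≤ q)
    (hZ : ∀ Q' : Ideal B, Q'.IsPrime → Q' ≤ q →
      (q.comap (algebraMap A B)).map (algebraMap A B) ≤ Q' →
      (q.comap (algebraMap A B)).map τ ≤ Q' → Q' = q) :
    ∃ l₀ : List A, (∀ a ∈ l₀, a ∈ q.comap (algebraMap A B)) ∧
      IsRegular (EGA4.FibLocRing A B q)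
        ((l₀.map τ).map (algebraMap B (EGA4.FibLocRing A B q))) ∧
      ringKrullDim (EGA4.FibLocRing A B q ⧸
        Ideal.ofList ((l₀.map τ).map (algebraMap B (EGA4.FibLocRing A B q)))) ≤ 0 := by
  set F := EGA4.FibLocRing A B q with hF
  set m : Ideal A := q.comap (algebraMap A B) with hm
  let φ : A →+* F := (algebraMap B F).comp τ
  have hnu : ∀ b : B, b ∈ q → algebraMap B F b ∈ maximalIdeal F := by
    intro b hb
    rw [mem_maximalIdeal, mem_nonunits_iff]
    intro hu
    -- a unit of `F` lifts to a unit of the local ring `B_q`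
    have h1 : IsUnit (algebraMap B (Localization.AtPrime q) b) := by
      have : IsLocalHom (Ideal.Quotient.mk
          (m.map (algebraMap A (Localization.AtPrime q)))) :=
        IsLocalHom.of_surjective _ Ideal.Quotient.mk_surjective
      exact this.map_nonunit _ hu
    have h2 := (IsLocalization.AtPrime.isUnit_to_map_iff (Localization.AtPrime q) q b).mp h1
    exact h2 hb
  have hI : ∀ a ∈ m, φ a ∈ maximalIdeal F := by
    intro a ha
    exact hnu (τ a) (hτ (Ideal.mem_map_of_mem τ ha))
  have hZF : ∀ p : Ideal F, p.IsPrime → m.map φ ≤ p → p = maximalIdeal F := by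
    intro p hp hle
    set Q' : Ideal B := p.comap (algebraMap B F) with hQ'
    haveI : Q'.IsPrime := Ideal.comap_isPrime _ p
    have hQq : Q' ≤ q := by
      intro b hb
      by_contra hbq
      have hu := fib_isUnit_of_notMem (A := A) q b hbq
      exact hp.ne_top (Ideal.eq_top_of_isUnit_mem p hb hu)
    have hσ : m.map (algebraMap A B) ≤ Q' := by
      rw [Ideal.map_le_iff_le_comap]
      intro a ha
      show algebraMap B F (algebraMap A B a) ∈ p
      rw [fib_algebraMap_eq_zero q a ha]
      exact zero_mem _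
    have hτ' : m.map τ ≤ Q' := by
      rw [Ideal.map_le_iff_le_comap]
      intro a ha
      show algebraMap B F (τ a) ∈ p
      exact hle (Ideal.mem_map_of_mem φ ha)
    have hQ'q : Q' = q := hZ Q' inferInstance hQq hσ hτ'
    apply le_antisymm (IsLocalRing.le_maximalIdeal hp.ne_top)
    intro x hx
    obtain ⟨a, v, hv, hav⟩ := fib_exists_unit (A := A) q x
    have haq : a ∈ q := by
      by_contra haq
      have hu := fib_isUnit_of_notMem (A := A) q a haq
      rw [← hav] at hu
      have : IsUnit x := isUnit_of_mul_isUnit_left hu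
      exact (mem_nonunits_iff.mp ((mem_maximalIdeal x).mp hx)) this
    have hap : algebraMap B F a ∈ p := by
      have : a ∈ Q' := hQ'q ▸ haq
      exact this
    rw [← hav] at hap
    exact (hp.mem_or_mem hap).resolve_right (fun hvp =>
      hp.ne_top (Ideal.eq_top_of_isUnit_mem p hvp hv))
  obtain ⟨l₀, hl₀, hreg, hdim⟩ := exists_list_regular φ m hI hZF
  refine ⟨l₀, hl₀, ?_, ?_⟩
  · rw [List.map_map]; exact hreg
  · rw [List.map_map]; exact hdim

end Groth.Agent.Lib.H5bSl
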