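import Mathlib
import Groth.Prelude.Def_Grpd
import Groth.Agent.Lib.H5bSlPt

/-!
# The identity point over a closed point of a chart is a closed point of a chart (helper5)
-/

set_option autoImplicit false
set_option linter.style.haveILetI false
set_option linter.unusedSectionVars false
universe u

open CategoryTheory CategoryTheory.Limits AlgebraicGeometry

namespace Groth.Agent.Lib.H5bSl

theorem isMaximal_comap_of_away {A B A' : Type u} [CommRing A] [CommRing B] [CommRing A']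
    (σ : A →+* B) (ε : B →+* A') (f : A)
    (hloc : letI := (ε.comp σ).toAlgebra; IsLocalization.Away f A')
    (m : Ideal A) [hm : m.IsMaximal] (m' : Ideal A') [hm' : m'.IsPrime]
    (hmm : m'.comap (ε.comp σ) = m) (hf : f ∉ m) : (m'.comap ε).IsMaximal := by
  letI := (ε.comp σ).toAlgebra
  haveI := hloc
  set ρ : A →+* A' := ε.comp σ with hρ
  have hρalg : ∀ a, algebraMap A A' a = ρ a := fun a => rfl
  -- step 1: `A/m → A'/m'` is surjective
  obtain ⟨g, hg⟩ := hm.exists_inv hf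
  have hfg : ρ f * ρ g - 1 ∈ m' := by
    obtain ⟨i, hi, hgi⟩ := hg
    -- `g * f + i = 1`
    have : ρ f * ρ g - 1 = - ρ i := by
      have h1 : ρ (g * f + i) = 1 := by rw [hgi, map_one]
      rw [map_add, map_mul] at h1
      linear_combination h1
    rw [this]
    apply neg_mem
    have : i ∈ m'.comap ρ := hmm ▸ hi
    exact this
  have step1 : ∀ x' : A', ∃ a : A, x' - ρ a ∈ m' := by
    intro x'
    obtain ⟨⟨a, ⟨_, n, rfl⟩⟩, hx⟩ := IsLocalization.surj (Submonoid.powers f) x'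
    simp only [hρalg, map_pow] at hx
    refine ⟨a * g ^ n, ?_⟩
    -- `x' * ρ f ^ n = ρ a`
    have h2 : (ρ f * ρ g) ^ n - 1 ∈ m' := by
      have h : Ideal.Quotient.mk m' (ρ f * ρ g) = Ideal.Quotient.mk m' 1 :=
        Ideal.Quotient.eq.mpr hfg
      have h' : Ideal.Quotient.mk m' ((ρ f * ρ g) ^ n) = Ideal.Quotient.mk m' 1 := by
        rw [map_pow, h, map_one, one_pow]
      exact Ideal.Quotient.eq.mp h'
    have h3 : x' - ρ (a * g ^ n) = - (x' * ((ρ f * ρ g) ^ n - 1)) := by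
      rw [map_mul, map_pow, ← hx]
      ring
    rw [h3]
    exact neg_mem (Ideal.mul_mem_left _ _ h2)
  -- maximality
  rw [Ideal.isMaximal_iff]
  refine ⟨fun h1 => hm'.ne_top ((Ideal.eq_top_iff_one _).mpr (by simpa using h1)), ?_⟩
  intro J b hJ hbq hbJ
  have hεb : ε b ∉ m' := hbq
  obtain ⟨a, ha⟩ := step1 (ε b)
  have ham : a ∉ m := by
    intro ham
    have : ρ a ∈ m' := by
      have : a ∈ m'.comap ρ := hmm ▸ ham
      exact this
    apply hεb
    have := Ideal.add_mem _ ha this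
    simpa using this
  obtain ⟨a₁, i, hi, hai⟩ := hm.exists_inv ham
  -- `a₁ * a + i = 1`
  have key : b * σ a₁ - 1 ∈ m'.comap ε := by
    show ε (b * σ a₁ - 1) ∈ m'
    have e1 : ε (b * σ a₁ - 1) = (ε b - ρ a) * ρ a₁ - ρ i := by
      have h1 : ρ (a₁ * a + i) = 1 := by rw [hai, map_one]
      rw [map_add, map_mul] at h1
      rw [map_sub, map_mul, map_one]
      show ε b * ρ a₁ - 1 = _
      linear_combination h1
    rw [e1]
    refine sub_mem (Ideal.mul_mem_right _ _ ha) ?_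
    have : i ∈ m'.comap ρ := hmm ▸ hi
    exact this
  have : (1 : B) = b * σ a₁ - (b * σ a₁ - 1) := by ring
  rw [this]
  exact sub_mem (Ideal.mul_mem_right _ _ hbJ) (hJ key)

variable {S : Scheme.{u}} (G : Grpd.GroupoidScheme S)

theorem appLE_id {X : Scheme.{u}} (V V' : X.Opens) (h : V' ≤ V) :
    (𝟙 X : X ⟶ X).appLE V V' h = X.presheaf.map (homOfLE h).op := by
  simp only [Scheme.Hom.appLE, Scheme.Hom.id_app]
  exact Category.id_comp _

set_option maxHeartbeats 800000 in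
theorem isMaximal_primeIdealOf_e
    {V : G.U.Opens} (hV : IsAffineOpen V) {R₀ : G.R.Opens} (hR₀ : IsAffineOpen R₀)
    (hs : R₀ ≤ G.s ⁻¹ᵁ V) (u : G.U) (huV : u ∈ V) (heR : G.e u ∈ R₀)
    (hmax : (hV.primeIdealOf ⟨u, huV⟩).asIdeal.IsMaximal) :
    (hR₀.primeIdealOf ⟨G.e u, heR⟩).asIdeal.IsMaximal := by
  obtain ⟨f, hfle, huf⟩ := hV.exists_basicOpen_le (V := G.e ⁻¹ᵁ R₀) ⟨u, heR⟩ huV
  set V' : G.U.Opens := G.U.basicOpen f with hV'def
  have hV' : IsAffineOpen V' := hV.basicOpen f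
  have hV'V : V' ≤ V := G.U.basicOpen_le f
  set m : Ideal Γ(G.U, V) := (hV.primeIdealOf ⟨u, huV⟩).asIdeal with hm
  set σ : Γ(G.U, V) →+* Γ(G.R, R₀) := (G.s.appLE V R₀ hs).hom with hσdef
  set ε : Γ(G.R, R₀) →+* Γ(G.U, V') := (G.e.appLE R₀ V' hfle).hom with hεdef
  set m' : Ideal Γ(G.U, V') := (hV'.primeIdealOf ⟨u, huf⟩).asIdeal with hm'
  have hq : (hR₀.primeIdealOf ⟨G.e u, heR⟩).asIdeal = m'.comap ε := by
    have := IsAffineOpen.comap_primeIdealOf_appLE (f := G.e) R₀ hR₀ V' hV' hfle huf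
    have h3 := congrArg PrimeSpectrum.asIdeal this
    rw [PrimeSpectrum.comap_asIdeal] at h3
    exact h3.symm
  have hρ : ε.comp σ = (G.U.presheaf.map (homOfLE hV'V).op).hom := by
    have e1 := Scheme.Hom.appLE_comp_appLE G.e G.s V R₀ V' hs hfle
    have e2 := appLE_congr G.e_s V V' (hfle.trans ((TopologicalSpace.Opens.map G.e.base).map
      (homOfLE hs)).le)
    have e3 : G.s.appLE V R₀ hs ≫ G.e.appLE R₀ V' hfle = G.U.presheaf.map (homOfLE hV'V).op := by
      rw [e1, e2, appLE_id]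
    have := congrArg CommRingCat.Hom.hom e3
    simpa only [CommRingCat.hom_comp] using this
  have hloc : (letI := (ε.comp σ).toAlgebra; IsLocalization.Away f Γ(G.U, V')) := by
    rw [hρ]
    exact hV.isLocalization_of_eq_basicOpen f (homOfLE hV'V) rfl
  have hmm : m'.comap (ε.comp σ) = m := by
    rw [hρ]
    have := IsAffineOpen.comap_primeIdealOf_appLE (f := 𝟙 G.U) V hV V' hV' hV'V huf
    have h3 := congrArg PrimeSpectrum.asIdeal this
    rw [PrimeSpectrum.comap_asIdeal, appLE_id] at h3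
    exact h3
  have hfm : f ∉ m := by
    intro hfm
    have h1 : (hV.primeIdealOf ⟨u, huV⟩) ∈ PrimeSpectrum.basicOpen f := by
      rw [← hV.fromSpec_preimage_basicOpen]
      show hV.fromSpec (hV.primeIdealOf ⟨u, huV⟩) ∈ G.U.basicOpen f
      rw [hV.fromSpec_primeIdealOf ⟨u, huV⟩]
      exact huf
    exact h1 hfm
  haveI : m.IsMaximal := hmax
  rw [hq]
  exact isMaximal_comap_of_away σ ε f hloc m m' hmm hfm

end Groth.Agent.Lib.H5bSl
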