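import Mathlib
import Groth.Prelude.Def_Grpd
import Groth.Prelude.Def_MoreMor
import Groth.Agent.Lib.H5bSlTrans
import Groth.Agent.Lib.H5bSlFib
import Groth.Agent.Lib.H5bSlMax
import Groth.Agent.Lib.H5bSlChart
import Groth.Agent.Lib.Helper4PPBaseChange

/-!
# Slicing an equivalence relation at a finite type point (helper5)

`exists_slice`: for a groupoid scheme with `j` a monomorphism and `s, t` flat and locally of finite
presentation, and a point `u` closed in an affine open at whose identity `s` is Cohen–Macaulay, there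
is an immersion `g : U' ⟶ U` of finite presentation and `u' ↦ u` such that
`h = s ∘ pr₂ : U' ×_{g,U,t} R ⟶ U` is flat and quasi-finite at `(u', e u)`.
-/

set_option autoImplicit false
set_option linter.style.haveILetI false
set_option linter.unusedSectionVars false
universe u

open CategoryTheory CategoryTheory.Limits AlgebraicGeometry
open IsLocalRing RingTheory.Sequence

namespace Groth.Agent.Lib.H5bSl

variable {S : Scheme.{u}} (G : Grpd.GroupoidScheme S)

set_option maxHeartbeats 3200000 in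
theorem exists_slice [Mono G.j] [Flat G.s] [LocallyOfFinitePresentation G.s] [Flat G.t]
    [LocallyOfFinitePresentation G.t] (u : G.U) {V : G.U.Opens} (hV : IsAffineOpen V)
    (huV : u ∈ V) (hmax : (hV.primeIdealOf ⟨u, huV⟩).asIdeal.IsMaximal)
    (hcm : MoreMor.IsCMAt G.s (G.e u)) :
    ∃ (U' : Scheme.{u}) (g : U' ⟶ G.U) (u' : U'), IsImmersion g ∧
      LocallyOfFinitePresentation g ∧ g u' = u ∧ Good G g (sec G g u') := by
  have hseu : G.s (G.e u) = u := by rw [← Scheme.Hom.comp_apply, G.e_s]; rfl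
  have hteu : G.t (G.e u) = u := by rw [← Scheme.Hom.comp_apply, G.e_t]; rfl
  obtain ⟨_, ⟨R₀, hR₀, rfl⟩, heR, hR₀le⟩ :=
    G.R.isBasis_affineOpens.exists_subset_of_mem_open
      (show G.e u ∈ (G.s ⁻¹ᵁ V ⊓ G.t ⁻¹ᵁ V : G.R.Opens) from
        ⟨by show G.s (G.e u) ∈ V; rw [hseu]; exact huV,
         by show G.t (G.e u) ∈ V; rw [hteu]; exact huV⟩) (G.s ⁻¹ᵁ V ⊓ G.t ⁻¹ᵁ V).2
  have hs : R₀ ≤ G.s ⁻¹ᵁ V := fun x hx => (hR₀le hx).1
  have ht : R₀ ≤ G.t ⁻¹ᵁ V := fun x hx => (hR₀le hx).2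
  letI algAB : Algebra Γ(G.U, V) Γ(G.R, R₀) := (G.s.appLE V R₀ hs).hom.toAlgebra
  set q : Ideal Γ(G.R, R₀) := (hR₀.primeIdealOf ⟨G.e u, heR⟩).asIdeal with hq
  set m : Ideal Γ(G.U, V) := (hV.primeIdealOf ⟨u, huV⟩).asIdeal with hm
  set τ : Γ(G.U, V) →+* Γ(G.R, R₀) := (G.t.appLE V R₀ ht).hom with hτdef
  have hpt : ∀ (y : G.U) (hy : y = u) (hyV : y ∈ V),
      (hV.primeIdealOf ⟨y, hyV⟩).asIdeal = m := by
    intro y hy hyV; subst hy; rfl
  have hqm : q.comap (algebraMap Γ(G.U, V) Γ(G.R, R₀)) = m := by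
    have := IsAffineOpen.comap_primeIdealOf_appLE (f := G.s) V hV R₀ hR₀ hs heR
    have h3 := congrArg PrimeSpectrum.asIdeal this
    rw [PrimeSpectrum.comap_asIdeal] at h3
    exact h3.trans (hpt _ hseu _)
  have hqτ : q.comap τ = m := by
    have := IsAffineOpen.comap_primeIdealOf_appLE (f := G.t) V hV R₀ hR₀ ht heR
    have h3 := congrArg PrimeSpectrum.asIdeal this
    rw [PrimeSpectrum.comap_asIdeal] at h3
    exact h3.trans (hpt _ hteu _)
  haveI hCM : LocCoh.IsCohenMacaulayLocalRing (EGA4.FibLocRing Γ(G.U, V) Γ(G.R, R₀) q) :=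
    Groth.Agent.Lib.R2H4.SliceCM.cm_fibLocRing G.s (G.e u) hcm.2 V hV R₀ hR₀ heR hs
  obtain ⟨l₀, hl₀m, hreg, hdim⟩ := exists_list_fib (A := Γ(G.U, V)) q τ
    (by rw [hqm, Ideal.map_le_iff_le_comap, hqτ])
    (by
      intro Q' hQ'p hle h1 h2
      rw [hqm] at h1 h2
      haveI := hQ'p
      exact prime_eq_of_le G hV hR₀ hs ht u huV heR hmax Q' hle h1 h2)
  rw [hqm] at hl₀m
  set l : List Γ(G.R, R₀) := l₀.map τ with hl
  have hqmax : q.IsMaximal := isMaximal_primeIdealOf_e G hV hR₀ hs u huV heR hmax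
  have hclR : IsClosed (X := PrimeSpectrum.comap (algebraMap Γ(G.U, V) Γ(G.R, R₀)) ⁻¹'
      {(hR₀.primeIdealOf ⟨G.e u, heR⟩).comap (algebraMap Γ(G.U, V) Γ(G.R, R₀))})
      {⟨hR₀.primeIdealOf ⟨G.e u, heR⟩, rfl⟩} := by
    have hc : IsClosed ({hR₀.primeIdealOf ⟨G.e u, heR⟩} : Set (PrimeSpectrum Γ(G.R, R₀))) :=
      (PrimeSpectrum.isClosed_singleton_iff_isMaximal _).mpr hqmax
    have : ({⟨hR₀.primeIdealOf ⟨G.e u, heR⟩, rfl⟩} :
        Set (PrimeSpectrum.comap (algebraMap Γ(G.U, V) Γ(G.R, R₀)) ⁻¹'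
          {(hR₀.primeIdealOf ⟨G.e u, heR⟩).comap (algebraMap Γ(G.U, V) Γ(G.R, R₀))})) =
        Subtype.val ⁻¹' {hR₀.primeIdealOf ⟨G.e u, heR⟩} := by
      ext x
      simp only [Set.mem_singleton_iff, Set.mem_preimage]
      exact ⟨fun h => congrArg Subtype.val h, fun h => Subtype.ext h⟩
    rw [this]
    exact hc.preimage continuous_subtype_val
  have hflat : (G.s.stalkMap (G.e u)).hom.Flat := hcm.1
  obtain ⟨D, hD, hDR₀, heD, hfl, hlfp, hlqf, hrange⟩ :=
    slice_chart G.s (G.e u) hflat V hV R₀ hR₀ heR hs l hreg hdim hclR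
  -- the slice
  set I₀ : Ideal Γ(G.U, V) := Ideal.ofList l₀ with hI₀
  set ml : Γ(G.U, V) ⟶ CommRingCat.of (Γ(G.U, V) ⧸ I₀) :=
    CommRingCat.ofHom (Ideal.Quotient.mk I₀) with hml
  let U' : Scheme.{u} := Spec (CommRingCat.of (Γ(G.U, V) ⧸ I₀))
  obtain ⟨g, hgdef⟩ : ∃ g : U' ⟶ G.U, g = Spec.map ml ≫ hV.fromSpec := ⟨_, rfl⟩
  haveI : IsClosedImmersion (Spec.map ml) :=
    IsClosedImmersion.spec_of_surjective ml Ideal.Quotient.mk_surjective
  haveI : IsOpenImmersion hV.fromSpec := hV.isOpenImmersion_fromSpec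
  haveI hgimm : IsImmersion g := by rw [hgdef]; infer_instance
  haveI hglfp : LocallyOfFinitePresentation g := by
    rw [hgdef]
    haveI : LocallyOfFinitePresentation (Spec.map ml) := by
      rw [HasRingHomProperty.Spec_iff (P := @LocallyOfFinitePresentation)]
      refine RingHom.FinitePresentation.of_surjective _ Ideal.Quotient.mk_surjective ?_
      rw [hml, CommRingCat.hom_ofHom, Ideal.mk_ker]
      classical
      exact ⟨l₀.toFinset, by simp [hI₀, Ideal.ofList]⟩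
    infer_instance
  -- chart of the pullback
  have hDt : D ≤ G.t ⁻¹ᵁ V := hDR₀.trans ht
  set res : Γ(G.R, R₀) →+* Γ(G.R, D) := (G.R.presheaf.map (homOfLE hDR₀).op).hom with hres
  set τD : Γ(G.U, V) →+* Γ(G.R, D) := (G.t.appLE V D hDt).hom with hτD
  have hresτ : res.comp τ = τD := by
    have := Scheme.Hom.appLE_map G.t ht (homOfLE hDR₀).op
    have h2 := congrArg CommRingCat.Hom.hom this
    simpa only [CommRingCat.hom_comp] using h2
  set J : Ideal Γ(G.R, D) := Ideal.ofList (l.map res) with hJ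
  have hJmap : I₀.map τD = J := by
    rw [hI₀, Ideal.map_ofList, hJ, hl, List.map_map, ← hresτ]
    rfl
  set mJ : Γ(G.R, D) ⟶ CommRingCat.of (Γ(G.R, D) ⧸ J) :=
    CommRingCat.ofHom (Ideal.Quotient.mk J) with hmJ
  let mbar : Γ(G.U, V) ⧸ I₀ →+* Γ(G.R, D) ⧸ J :=
    Ideal.quotientMap J τD (by rw [← hJmap]; exact Ideal.le_comap_map)
  have hpo := Groth.Agent.Lib.Helper4.PPBC.isPushout_quotient τD I₀ J hJmap mbar (by
    ext x; simp [mbar])
  have hpb := isPullback_SpecMap_of_isPushout _ _ _ _ hpo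
  set ZD : Scheme.{u} := Spec (CommRingCat.of (Γ(G.R, D) ⧸ J)) with hZD
  obtain ⟨ζ, hζdef⟩ : ∃ ζ : ZD ⟶ G.R, ζ = Spec.map mJ ≫ hD.fromSpec := ⟨_, rfl⟩
  have hτDspec : Spec.map (CommRingCat.ofHom τD) ≫ hV.fromSpec = hD.fromSpec ≫ G.t :=
    IsAffineOpen.SpecMap_appLE_fromSpec G.t hV hD hDt
  have hcond : Spec.map (CommRingCat.ofHom mbar) ≫ g = ζ ≫ G.t := by
    rw [hgdef, hζdef, ← Category.assoc, hpb.w, Category.assoc, hτDspec, Category.assoc]
  obtain ⟨θ, hθdef⟩ : ∃ θ : ZD ⟶ pullback g G.t,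
    θ = pullback.lift (Spec.map (CommRingCat.ofHom mbar)) ζ hcond := ⟨_, rfl⟩
  have hθfst : θ ≫ pullback.fst g G.t = Spec.map (CommRingCat.ofHom mbar) := by
    rw [hθdef, pullback.lift_fst]
  have hθsnd : θ ≫ pullback.snd g G.t = ζ := by rw [hθdef, pullback.lift_snd]
  haveI : IsOpenImmersion hD.fromSpec := hD.isOpenImmersion_fromSpec
  haveI hθopen : IsOpenImmersion θ := by
    have e₁ : Spec.map ml ≫ hV.fromSpec = 𝟙 U' ≫ g := by rw [Category.id_comp, hgdef]
    have e₂ : Spec.map (CommRingCat.ofHom τD) ≫ hV.fromSpec = hD.fromSpec ≫ G.t := hτDspec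
    have : θ = hpb.isoPullback.hom ≫ pullback.map (Spec.map ml) (Spec.map (CommRingCat.ofHom τD))
        g G.t (𝟙 U') hD.fromSpec hV.fromSpec e₁ e₂ := by
      apply pullback.hom_ext
      · rw [hθfst, Category.assoc, pullback.lift_fst, ← Category.assoc,
          IsPullback.isoPullback_hom_fst, Category.comp_id]
      · rw [hθsnd, Category.assoc, pullback.lift_snd, ← Category.assoc,
          IsPullback.isoPullback_hom_snd, hζdef]
    rw [this]
    infer_instance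
  have hθh : θ ≫ hh G g = ζ ≫ G.s := by
    rw [← Category.assoc, hθsnd]
  -- the point
  obtain ⟨z₀, hz₀⟩ := hrange
  rw [← hζdef] at hz₀
  let u' : U' := Spec.map (CommRingCat.ofHom mbar) z₀
  have hgu' : g u' = u := by
    show g (Spec.map (CommRingCat.ofHom mbar) z₀) = u
    rw [← Scheme.Hom.comp_apply, hcond, Scheme.Hom.comp_apply, hz₀, hteu]
  have hsec : sec G g u' = θ z₀ := by
    haveI : IsImmersion (pullback.snd g G.t) := inferInstance
    apply (pullback.snd g G.t).isEmbedding.injective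
    rw [← Scheme.Hom.comp_apply, sec_snd, Scheme.Hom.comp_apply, hgu', ← Scheme.Hom.comp_apply θ,
      hθsnd, hz₀]
  refine ⟨U', g, u', hgimm, hglfp, hgu', ?_⟩
  rw [hsec]
  have hflζ : Flat (ζ ≫ G.s) := by
    rw [hζdef, Category.assoc]; exact hfl
  have hqfζ : LocallyQuasiFinite (ζ ≫ G.s) := by
    rw [hζdef, Category.assoc]; exact hlqf
  have hflθ : Flat (θ ≫ hh G g) := by rw [hθh]; exact hflζ
  have hqfθ : LocallyQuasiFinite (θ ≫ hh G g) := by rw [hθh]; exact hqfζ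
  exact ⟨flat_stalkMap_comp_iff_of_isOpenImmersion.mp (@AlgebraicGeometry.Flat.stalkMap _ _ (θ ≫ hh G g) hflθ z₀),
    Scheme.Hom.quasiFiniteAt_comp_iff_of_isOpenImmersion.mp ((θ ≫ hh G g).quasiFiniteAt z₀)⟩

end Groth.Agent.Lib.H5bSl
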