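import Mathlib
import Groth.Agent.Lib.H5bSlMain
import Groth.Agent.Lib.H5bGCM

/-!
# A global quasi-finite flat slice of an equivalence relation with flat lfp `s, t` (helper5)

`exists_global_slice`: there is `g : U' ⟶ U`, locally of finite presentation, such that
`h = s ∘ pr₂ : U' ×_{g,U,t} R ⟶ U` is flat, locally of finite presentation, locally quasi-finite
and surjective.
-/

set_option autoImplicit false
set_option linter.style.haveILetI false
set_option linter.unusedSectionVars false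
universe u

open CategoryTheory CategoryTheory.Limits AlgebraicGeometry

namespace Groth.Agent.Lib.H5bSl

/-- a finite type point: closed in some affine open. -/
def FT {X : Scheme.{u}} (x : X) : Prop :=
  ∃ (V : X.Opens) (hV : IsAffineOpen V) (hx : x ∈ V),
    (hV.primeIdealOf ⟨x, hx⟩).asIdeal.IsMaximal

theorem le_of_ft {X : Scheme.{u}} (O W : X.Opens) (h : ∀ x ∈ O, FT x → x ∈ W) : O ≤ W := by
  intro x hxO
  by_contra hxW
  obtain ⟨_, ⟨V, hV, rfl⟩, hxV, hVO⟩ :=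
    X.isBasis_affineOpens.exists_subset_of_mem_open hxO O.2
  let C : Set (Spec Γ(X, V)) := hV.fromSpec ⁻¹' ((W : Set X)ᶜ)
  have hC : IsClosed C := (W.2.isClosed_compl).preimage hV.fromSpec.continuous
  have hne : C.Nonempty := ⟨hV.primeIdealOf ⟨x, hxV⟩, by
    show hV.fromSpec (hV.primeIdealOf ⟨x, hxV⟩) ∉ W
    rw [hV.fromSpec_primeIdealOf ⟨x, hxV⟩]
    exact hxW⟩
  obtain ⟨p, hpC, hpcl⟩ := hC.exists_closed_singleton hne
  have hpV : hV.fromSpec p ∈ V := by
    have : hV.fromSpec p ∈ hV.fromSpec.opensRange := ⟨p, rfl⟩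
    rwa [hV.opensRange_fromSpec] at this
  have hpp : hV.primeIdealOf ⟨hV.fromSpec p, hpV⟩ = p :=
    hV.fromSpec.isOpenEmbedding.injective (hV.fromSpec_primeIdealOf ⟨hV.fromSpec p, hpV⟩)
  have hft : FT (hV.fromSpec p) := by
    refine ⟨V, hV, hpV, ?_⟩
    rw [hpp]
    exact (PrimeSpectrum.isClosed_singleton_iff_isMaximal p).mp hpcl
  exact hpC (h _ (hVO hpV) hft)

variable {S : Scheme.{u}} (G : Grpd.GroupoidScheme S)

theorem exists_slice_shrunk [Mono G.j] [Flat G.s] [LocallyOfFinitePresentation G.s] [Flat G.t]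
    [LocallyOfFinitePresentation G.t] (u : G.U) (hu : FT u)
    (hcm : MoreMor.IsCMAt G.s (G.e u)) :
    ∃ (U' : Scheme.{u}) (g : U' ⟶ G.U) (u' : U'), LocallyOfFinitePresentation g ∧ g u' = u ∧
      Flat (hh G g) ∧ LocallyQuasiFinite (hh G g) := by
  obtain ⟨V, hV, huV, hmax⟩ := hu
  obtain ⟨U', g, u', -, hlfp, hgu, hgood⟩ := exists_slice G u hV huV hmax hcm
  haveI := hlfp
  obtain ⟨U'', hu'', hfl, hqf, hlfp''⟩ := exists_shrink G g u' hgood
  refine ⟨U'', U''.ι ≫ g, ⟨u', hu''⟩, inferInstance, ?_, hfl, hqf⟩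
  rw [Scheme.Hom.comp_apply]
  exact hgu

section OpenImm

variable {U' U₁ : Scheme.{u}} (g : U' ⟶ G.U) (k : U₁ ⟶ U') (g₁ : U₁ ⟶ G.U) (hk : k ≫ g = g₁)

/-- the map `U₁ ×_U R ⟶ U' ×_U R`. -/
noncomputable def ϑ : pullback g₁ G.t ⟶ pullback g G.t :=
  pullback.map _ _ _ _ k (𝟙 _) (𝟙 _) (by rw [Category.comp_id, hk])
    (by rw [Category.comp_id, Category.id_comp])

instance [IsOpenImmersion k] : IsOpenImmersion (ϑ G g k g₁ hk) := by
  unfold ϑ; infer_instance

lemma ϑ_fst : ϑ G g k g₁ hk ≫ pullback.fst g G.t = pullback.fst g₁ G.t ≫ k :=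
  pullback.lift_fst _ _ _

lemma ϑ_snd : ϑ G g k g₁ hk ≫ pullback.snd g G.t = pullback.snd g₁ G.t := by
  unfold ϑ
  rw [pullback.lift_snd, Category.comp_id]

lemma ϑ_hh : ϑ G g k g₁ hk ≫ hh G g = hh G g₁ := by
  rw [← Category.assoc, ϑ_snd]

lemma sec_ϑ : sec G g₁ ≫ ϑ G g k g₁ hk = k ≫ sec G g := by
  apply pullback.hom_ext
  · rw [Category.assoc, ϑ_fst, sec_fst_assoc, Category.assoc, sec_fst, Category.comp_id]
  · rw [Category.assoc, ϑ_snd, sec_snd, Category.assoc, sec_snd, ← Category.assoc, hk]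

theorem flat_stalkMap_congr {X Y : Scheme.{u}} {f f' : X ⟶ Y} (h : f = f') (x : X) :
    (f.stalkMap x).hom.Flat ↔ (f'.stalkMap x).hom.Flat := by subst h; rfl

theorem quasiFiniteAt_congr {X Y : Scheme.{u}} {f f' : X ⟶ Y} (h : f = f') (x : X) :
    f.QuasiFiniteAt x ↔ f'.QuasiFiniteAt x := by subst h; rfl

theorem good_ϑ [IsOpenImmersion k] (x₁ : ↑(pullback g₁ G.t)) (h : Good G g₁ x₁) :
    Good G g (ϑ G g k g₁ hk x₁) := by
  obtain ⟨h1, h2⟩ := h
  have e := ϑ_hh G g k g₁ hk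
  exact ⟨flat_stalkMap_comp_iff_of_isOpenImmersion.mp ((flat_stalkMap_congr e x₁).mpr h1),
    Scheme.Hom.quasiFiniteAt_comp_iff_of_isOpenImmersion.mp ((quasiFiniteAt_congr e x₁).mpr h2)⟩

end OpenImm

set_option maxHeartbeats 1600000 in
theorem exists_global_slice [Mono G.j] [Flat G.s] [LocallyOfFinitePresentation G.s] [Flat G.t]
    [LocallyOfFinitePresentation G.t] :
    ∃ (U' : Scheme.{u}) (g : U' ⟶ G.U), LocallyOfFinitePresentation g ∧ Flat (hh G g) ∧
      LocallyQuasiFinite (hh G g) ∧ Surjective (hh G g) := by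
  obtain ⟨Ucm, h1, -, -, h4⟩ := Groth.Agent.Lib.H5bGCM.main G
  let ι : Type u := {u : G.U // FT u ∧ u ∈ Ucm}
  have hcm : ∀ i : ι, MoreMor.IsCMAt G.s (G.e i.1) := by
    intro i
    have hte : G.t (G.e i.1) = i.1 := by rw [← Scheme.Hom.comp_apply, G.e_t]; rfl
    have : G.e i.1 ∈ (G.t ⁻¹ᵁ Ucm : Set G.R) := by
      show G.t (G.e i.1) ∈ Ucm
      rw [hte]; exact i.2.2
    rw [h1] at this
    exact (Groth.Agent.Lib.H5bGCM.isCMAt_iff G.s _).mp this
  choose X g u' hlfp hgu hfl hqf using fun i : ι => exists_slice_shrunk G i.1 i.2.1 (hcm i)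
  haveI := hlfp
  let gg : (∐ X) ⟶ G.U := Sigma.desc g
  haveI : LocallyOfFinitePresentation gg := by
    show LocallyOfFinitePresentation (Sigma.desc g)
    exact IsZariskiLocalAtSource.sigmaDesc (fun i => hlfp i)
  have hgood : ∀ x : ↑(pullback gg G.t), Good G gg x := by
    intro x
    rw [good_iff_sec]
    obtain ⟨i, w, hw⟩ := (sigmaOpenCover X).exists_eq (pullback.fst gg G.t x)
    have hw' : Sigma.ι X i w = pullback.fst gg G.t x := hw
    rw [← hw']
    have hk : Sigma.ι X i ≫ gg = g i := Sigma.ι_desc _ _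
    have e1 := sec_ϑ G gg (Sigma.ι X i) (g i) hk
    have e2 : sec G gg (Sigma.ι X i w) =
        ϑ G gg (Sigma.ι X i) (g i) hk (sec G (g i) w) := by
      rw [← Scheme.Hom.comp_apply, ← e1, Scheme.Hom.comp_apply]
    rw [e2]
    apply good_ϑ
    haveI := hfl i
    haveI := hqf i
    exact ⟨Flat.stalkMap _ _, (hh G (g i)).quasiFiniteAt _⟩
  have hflat : Flat (hh G gg) := AlgebraicGeometry.Flat.of_stalkMap _ fun x => (hgood x).1
  have hlqf : LocallyQuasiFinite (hh G gg) :=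
    locallyQuasiFinite_of_forall_quasiFiniteAt _ fun x => (hgood x).2
  refine ⟨∐ X, gg, inferInstance, hflat, hlqf, ?_⟩
  -- surjectivity
  haveI := hflat
  let W : G.U.Opens := ⟨Set.range (hh G gg), (hh G gg).isOpenMap.isOpen_range⟩
  have hinv : ∀ r : G.R, G.t r ∈ W → G.s r ∈ W := by
    rintro r ⟨p, hp⟩
    obtain ⟨y, hy1, hy2⟩ := Scheme.Pullback.exists_preimage_pullback (f := hh G gg) (g := G.t) p r hp
    refine ⟨act G gg y, ?_⟩
    rw [← Scheme.Hom.comp_apply, (isPullback_act G gg).w, Scheme.Hom.comp_apply, hy2]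
  have hmem : ∀ i : ι, i.1 ∈ W := by
    intro i
    refine ⟨sec G gg (Sigma.ι X i (u' i)), ?_⟩
    show (pullback.snd gg G.t ≫ G.s) (sec G gg (Sigma.ι X i (u' i))) = i.1
    rw [← Scheme.Hom.comp_apply, ← Category.assoc, sec_snd, Category.assoc, G.e_s, Category.comp_id,
      ← Scheme.Hom.comp_apply, Sigma.ι_desc]
    exact hgu i
  have hle : Ucm ≤ W := le_of_ft Ucm W (fun x hx hft => hmem ⟨x, hft, hx⟩)
  constructor
  intro x
  have hx : x ∈ ⇑G.s '' (G.t ⁻¹ᵁ Ucm : Set G.R) := by rw [h4]; trivial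
  obtain ⟨r, hr, rfl⟩ := hx
  exact hinv r (hle hr)

end Groth.Agent.Lib.H5bSl
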