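import Mathlib
import Groth.Prelude.Def_AlgSp
import Groth.Prelude.Def_AlgSp3
import Groth.Prelude.Def_AlgSp4
import Groth.Prelude.Def_AlgSpRep
import Groth.Prelude.Def_AlgSpCov
import Groth.Agent.Lib.H5bCoprodSp
import Groth.Agent.Lib.H5bSlCov
import Groth.Agent.Lib.Helper12LocPCases
import Groth.Agent.S9874
import Groth.Agent.S9877
import Groth.Agent.S9878
import Groth.Agent.S9881
import Groth.Agent.S10104
import Groth.Agent.S10175
import Groth.Agent.Lib.H5bEqvRelSp

/-!
# Being an algebraic space is fppf local on the base (helper5)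

* `locP_of_cofan`: a morphism out of a coproduct of sheaves has `LocP P` as soon as its components do
  (`P` Zariski-local on the source);
* `isAlgSpace_of_cofan_pullbacks`: a sheaf over a coproduct all of whose restrictions to the
  summands are algebraic spaces is an algebraic space;
* `isAlgSpace_of_fppf_cover`: a sheaf `F ⟶ X` over an algebraic space whose base changes to the members of
  an fppf covering of `X` are algebraic spaces is an algebraic space.
-/

set_option autoImplicit false
set_option linter.style.haveILetI false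
set_option linter.unusedSectionVars false
set_option linter.unusedVariables false
universe u

open CategoryTheory CategoryTheory.Limits AlgebraicGeometry AlgSp Opposite

namespace Groth.Agent.Lib.H5bBootLoc

variable {S : Scheme.{u}}

/-- a morphism out of a coproduct has `LocP P` if its components do. -/
theorem locP_of_cofan {P : MorphismProperty Scheme.{u}} [IsZariskiLocalAtSource P]
    {ι : Type u} {F : ι → AlgSp.Sp S} (c : Cofan F) (hc : IsColimit c) {X : AlgSp.Sp S}
    (γ : c.pt ⟶ X) (h : ∀ i, AlgSp.LocP P (c.inj i ≫ γ)) : AlgSp.LocP P γ := by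
  intro U V a b k ha hb hcomm
  obtain ⟨W, hd, hcov, hW⟩ := Groth.Agent.S9878.exists_clopen_decomposition c hc a
  choose a' sq using hW
  refine IsZariskiLocalAtSource.of_iSup_eq_top W hcov (fun i => ?_)
  have hea : AlgSp.RepWith @Etale (a' i) :=
    MorphismProperty.of_isPullback (P := AlgSp.RepWith @Etale) (sq i).flip ha
  have := h i (a' i) b ((Over.homMk (W i).ι : Over.mk ((W i).ι ≫ U.hom) ⟶ U) ≫ k) hea hb (by
    rw [← Category.assoc, (sq i).w, Category.assoc, hcomm, Functor.map_comp, Category.assoc])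
  exact this

/-- a sheaf over a coproduct of sheaves whose restrictions to the summands are algebraic spaces is an
algebraic space. -/
theorem isAlgSpace_of_cofan_pullbacks {ι : Type u} {Xi : ι → AlgSp.Sp S} (c : Cofan Xi)
    (hc : IsColimit c) {F' : AlgSp.Sp S} (q : F' ⟶ c.pt)
    (h : ∀ i, AlgSp.IsAlgSpace (pullback q (c.inj i))) : AlgSp.IsAlgSpace F' := by
  let Fi : ι → AlgSp.Sp S := fun i => pullback q (c.inj i)
  let f : ∀ i, Fi i ⟶ F' := fun i => pullback.fst q (c.inj i)
  have hopen : ∀ i, AlgSp.RepWith @IsOpenImmersion (f i) := fun i =>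
    MorphismProperty.of_isPullback (P := AlgSp.RepWith @IsOpenImmersion)
      (IsPullback.of_hasPullback q (c.inj i)).flip
      (Groth.Agent.Lib.H5bCoprodSp.repWith_inj c hc i)
  let c' : Cofan Fi := Cofan.mk (∐ Fi) (Sigma.ι Fi)
  have hc' : IsColimit c' := coproductIsCoproduct Fi
  have hcop := Groth.Agent.S9881.result S Fi h c' hc'
  refine Groth.Agent.S9877.result S F' Fi f h hopen c' hc' ?_ hcop
  rw [Sheaf.isLocallySurjective_iff_epi]
  constructor
  intro Z α β hab
  have hi : ∀ i, f i ≫ α = f i ≫ β := fun i => by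
    have := congrArg (fun m => c'.inj i ≫ m) hab
    simp only [← Category.assoc, Cofan.IsColimit.fac] at this
    exact this
  refine Groth.Agent.Lib.H5bEqvRelSp.hom_ext_yon α β (fun T y => ?_)
  obtain ⟨W, hd, hcov, hW⟩ := Groth.Agent.S9878.exists_clopen_decomposition c hc (y ≫ q)
  choose a' sq using hW
  refine Groth.Agent.Lib.H5bSl.hom_ext_of_fppf_family
    (fun i => Over.mk ((W i).ι ≫ T.hom)) (fun i => Over.homMk (W i).ι)
    (fun i => (inferInstance : Flat (W i).ι))
    (fun i => (inferInstance : LocallyOfFinitePresentation (W i).ι)) ?_ _ _ (fun i => ?_)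
  · intro x
    have hx : x ∈ ⨆ i, W i := by rw [hcov]; trivial
    obtain ⟨i, hi⟩ := TopologicalSpace.Opens.mem_iSup.1 hx
    exact ⟨i, ⟨x, hi⟩, rfl⟩
  · -- the restriction of `y` to `W i` factors through `Fi i`
    obtain ⟨l, hl⟩ : ∃ l : (AlgSp.yon S).obj (Over.mk ((W i).ι ≫ T.hom)) ⟶ Fi i,
        l ≫ f i = (AlgSp.yon S).map (Over.homMk (W i).ι : Over.mk ((W i).ι ≫ T.hom) ⟶ T) ≫ y :=
      ⟨pullback.lift ((AlgSp.yon S).map (Over.homMk (W i).ι : Over.mk ((W i).ι ≫ T.hom) ⟶ T) ≫ y)
        (a' i) (by rw [Category.assoc, (sq i).w]), pullback.lift_fst _ _ _⟩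
    rw [← Category.assoc, ← Category.assoc, ← hl, Category.assoc, Category.assoc, hi i]

/-- **being an algebraic space is fppf local on the base**. -/
theorem isAlgSpace_of_fppf_cover (X : AlgSp.Space S) {ι : Type u}
    (Xi : ι → AlgSp.Space S) (g : ∀ i, (Xi i).obj ⟶ X.obj)
    (hcov : AlgSp.IsFppfCover (fun i => (Xi i).obj) g)
    (F : AlgSp.Sp S) (p : F ⟶ X.obj)
    (h : ∀ (i : ι) (P : AlgSp.Sp S) (fst : P ⟶ F) (snd : P ⟶ (Xi i).obj),
      IsPullback fst snd p (g i) → AlgSp.IsAlgSpace P) :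
    AlgSp.IsAlgSpace F := by
  let c : Cofan (fun i => (Xi i).obj) := Cofan.mk (∐ fun i => (Xi i).obj) (Sigma.ι _)
  have hc : IsColimit c := coproductIsCoproduct _
  have hX' : AlgSp.IsAlgSpace c.pt :=
    Groth.Agent.S9881.result S _ (fun i => (Xi i).property) c hc
  obtain ⟨γ, hγ⟩ : ∃ γ : c.pt ⟶ X.obj, ∀ i, c.inj i ≫ γ = g i :=
    ⟨Cofan.IsColimit.desc hc g, fun i => Cofan.IsColimit.fac hc g i⟩
  have hflat : AlgSp.LocP @Flat γ := locP_of_cofan c hc γ (fun i => by
    rw [hγ i]; exact (hcov.1 i).1)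
  have hlfp : AlgSp.LocP @LocallyOfFinitePresentation γ := locP_of_cofan c hc γ (fun i => by
    rw [hγ i]; exact (hcov.1 i).2)
  have hsurj : AlgSp.IsSurjectiveMor γ := by
    intro x
    obtain ⟨i, y, hy⟩ := hcov.2 x
    refine ⟨AlgSp.Points.map (c.inj i) y, ?_⟩
    rw [← AlgSp.Points.map_comp, hγ i]
    exact hy
  -- the base change of `F` to the coproduct
  have sqF := IsPullback.of_hasPullback p γ
  have hF' : AlgSp.IsAlgSpace (pullback p γ) := by
    refine isAlgSpace_of_cofan_pullbacks c hc (pullback.snd p γ) (fun i => ?_)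
    refine h i _ (pullback.fst (pullback.snd p γ) (c.inj i) ≫ pullback.fst p γ)
      (pullback.snd (pullback.snd p γ) (c.inj i)) ?_
    have := (IsPullback.of_hasPullback (pullback.snd p γ) (c.inj i)).paste_horiz sqF
    rw [hγ i] at this
    exact this
  refine Groth.Agent.S10104.result S F ⟨pullback p γ, hF'⟩ (pullback.fst p γ) ?_
  rw [AlgSp.repBySpWith_hom_iff]
  intro T ξ Q a b sq
  have sq' : IsPullback (a ≫ pullback.snd p γ) b γ (ξ ≫ p) := sq.paste_horiz sqF.flip
  have hQ : AlgSp.IsAlgSpace Q :=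
    Groth.Agent.S9874.isAlgSpace_of_isPullback X.property.diag hX' (AlgSp.IsAlgSpace.yon_obj T) sq'
  refine ⟨hQ, ⟨?_, ?_⟩, ?_⟩
  · intro t
    obtain ⟨x, hx⟩ := hsurj (AlgSp.Points.map (ξ ≫ p) t)
    obtain ⟨z, hz1, hz2⟩ := Groth.Agent.S10175.exists_point_of_isPullback sq'.flip t x hx.symm
    exact ⟨z, hz1⟩
  · exact Groth.Agent.Lib.Helper12.LocPCases.good_flat.locP_baseChange hX' X.property
      (AlgSp.IsAlgSpace.yon_obj T) sq' hflat
  · exact Groth.Agent.Lib.Helper12.LocPCases.good_lfp.locP_baseChange hX' X.property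
      (AlgSp.IsAlgSpace.yon_obj T) sq' hlfp

end Groth.Agent.Lib.H5bBootLoc
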