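import Mathlib
import Groth.Prelude.Def_AlgSp
import Groth.Prelude.Def_AlgSp3
import Groth.Prelude.Def_AlgSp4
import Groth.Prelude.Def_AlgSpRep
import Groth.Prelude.Def_AlgSpGpd
import Groth.Agent.Lib.H5bBootB
import Groth.Agent.Lib.H5bEqvRelSp

/-!
# Bootstrap: presentations of quotients of algebraic spaces (helper5)

* `exists_presentation_of_kernelPair`: if the kernel pair of `q : h_U ⟶ F` is an algebraic space `K`
  with one projection flat and locally of finite presentation, then it is represented by a scheme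
  `R` with `s, t : R ⟶ U` flat and locally of finite presentation;
* `exists_presentation_quotSp`: the quotient sheaf of an algebraic space `U` by an equivalence
  relation `R` in algebraic spaces with `s` flat, locally of finite presentation is the quotient of a
  scheme by such an equivalence relation of schemes.
-/

set_option autoImplicit false
set_option linter.style.haveILetI false
set_option linter.unusedSectionVars false
set_option linter.unusedSimpArgs false
set_option linter.unusedVariables false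
universe u

open CategoryTheory CategoryTheory.Limits AlgebraicGeometry AlgSp Opposite

namespace Groth.Agent.Lib.H5bBoot

variable {S : Scheme.{u}}

/-- presentation from an algebraic-space kernel pair. -/
theorem exists_presentation_of_kernelPair {F : AlgSp.Sp S} {U : Over S}
    (q : (yon S).obj U ⟶ F) {K : AlgSp.Sp S} (hK : AlgSp.IsAlgSpace K)
    (k1 k2 : K ⟶ (yon S).obj U) (hkp : IsPullback k2 k1 q q) (hfl2 : AlgSp.LocP @Flat k2)
    (hfp2 : AlgSp.LocP @LocallyOfFinitePresentation k2) :
    ∃ (R : Over S) (s t : R ⟶ U), IsPullback ((yon S).map t) ((yon S).map s) q q ∧ Flat s.left ∧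
      LocallyOfFinitePresentation s.left ∧ Flat t.left ∧ LocallyOfFinitePresentation t.left := by
  have hlft : AlgSp.LocP @LocallyOfFiniteType k2 :=
    Groth.Agent.Lib.Helper12.LargestOpen.locP_mono
      (fun _ _ g hg => by haveI : LocallyOfFinitePresentation g := hg; infer_instance) hfp2
  obtain ⟨R, e, t, s, ht, hs, hlfts⟩ := exists_scheme_of_jointly_mono hK k1 k2
    (fun x y h1 h2 => hkp.hom_ext h2 h1) hlft
  have hk : IsPullback ((yon S).map t) ((yon S).map s) q q := by
    rw [← hs, ← ht]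
    exact IsPullback.of_iso hkp.flip e.symm (Iso.refl _) (Iso.refl _) (Iso.refl _) (by simp)
      (by simp) (by simp) (by simp)
  have hee : AlgSp.RepWith @Etale e.hom := MorphismProperty.of_isIso (AlgSp.RepWith @Etale) e.hom
  have hsfl : Flat s.left := hfl2 e.hom (𝟙 _) s hee (AlgSp.repWith_id _ U) (by
    rw [Category.comp_id, ← hs])
  have hsfp : LocallyOfFinitePresentation s.left := hfp2 e.hom (𝟙 _) s hee
    (AlgSp.repWith_id _ U) (by rw [Category.comp_id, ← hs])
  obtain ⟨σ, hσ⟩ := (yon S).map_surjective (hk.lift ((yon S).map s) ((yon S).map t) hk.w.symm)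
  have hσt : σ ≫ t = s := by
    apply (yon S).map_injective
    rw [Functor.map_comp, hσ, hk.lift_fst]
  have hσs : σ ≫ s = t := by
    apply (yon S).map_injective
    rw [Functor.map_comp, hσ, hk.lift_snd]
  have hσσ : σ ≫ σ = 𝟙 R := by
    apply (yon S).map_injective
    apply hk.hom_ext
    · rw [← Functor.map_comp, ← Functor.map_comp, Category.assoc, hσt, hσs, Category.id_comp]
    · rw [← Functor.map_comp, ← Functor.map_comp, Category.assoc, hσs, hσt, Category.id_comp]
  haveI : IsIso σ := ⟨σ, hσσ, hσσ⟩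
  haveI : IsIso σ.left := inferInstanceAs (IsIso ((Over.forget S).map σ))
  have htl : t.left = σ.left ≫ s.left := by rw [← Over.comp_left, hσs]
  haveI := hsfl
  haveI := hsfp
  refine ⟨R, s, t, hk, hsfl, hsfp, ?_, ?_⟩
  · rw [htl]
    infer_instance
  · rw [htl]
    infer_instance

/-- **presentation of a quotient of algebraic spaces**. -/
theorem exists_presentation_quotSp (R U : AlgSp.Sp S) (hR : AlgSp.IsAlgSpace R)
    (hU : AlgSp.IsAlgSpace U) (s t : R ⟶ U) (hj : AlgSp.IsEqvRelSp s t)
    (hs : AlgSp.LocP @Flat s ∧ AlgSp.LocP @LocallyOfFinitePresentation s) :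
    ∃ (R₀ U₀ : Over S) (s₀ t₀ : R₀ ⟶ U₀) (q : (yon S).obj U₀ ⟶ AlgSp.quotSp s t), Epi q ∧
      IsPullback ((yon S).map t₀) ((yon S).map s₀) q q ∧ Flat s₀.left ∧
      LocallyOfFinitePresentation s₀.left ∧ Flat t₀.left ∧
      LocallyOfFinitePresentation t₀.left := by
  obtain ⟨U₀, a, hae, has⟩ := hU.atlas
  have hk : IsPullback s t (AlgSp.quotSpπ s t) (AlgSp.quotSpπ s t) :=
    Groth.Agent.Lib.H5bEqvRelSp.isKernelPair_quotSpπ hj
  haveI : Epi (AlgSp.quotSpπ s t) := inferInstanceAs (Epi (coequalizer.π s t))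
  haveI : Epi a := Groth.Agent.Lib.H5bAtlasDesc.epi_of_atlas a hae has
  obtain ⟨q, hq⟩ : ∃ q : (yon S).obj U₀ ⟶ AlgSp.quotSp s t, q = a ≫ AlgSp.quotSpπ s t :=
    ⟨_, rfl⟩
  haveI : Epi q := by rw [hq]; exact epi_comp _ _
  -- `K₁ = h_{U₀} ×_{a,U,t} R`
  have sq1 := IsPullback.of_hasPullback a t
  have hK₁ : AlgSp.IsAlgSpace (pullback a t) :=
    Groth.Agent.S9874.isAlgSpace_of_isPullback hU.diag (AlgSp.IsAlgSpace.yon_obj U₀) hR sq1
  have hA : IsPullback (pullback.snd a t ≫ s) (pullback.fst a t) (AlgSp.quotSpπ s t)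
      (a ≫ AlgSp.quotSpπ s t) := sq1.flip.paste_horiz hk
  rw [← hq] at hA
  -- `K = h_{U₀} ×_{a,U,s} K₁`
  have sq2 := IsPullback.of_hasPullback a (pullback.snd a t ≫ s)
  have hK : AlgSp.IsAlgSpace (pullback a (pullback.snd a t ≫ s)) :=
    Groth.Agent.S9874.isAlgSpace_of_isPullback hU.diag (AlgSp.IsAlgSpace.yon_obj U₀) hK₁ sq2
  have hkp : IsPullback (pullback.fst a (pullback.snd a t ≫ s))
      (pullback.snd a (pullback.snd a t ≫ s) ≫ pullback.fst a t) (a ≫ AlgSp.quotSpπ s t) q :=
    sq2.paste_vert hA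
  rw [← hq] at hkp
  -- the projection to the `s`-side is flat and locally of finite presentation
  have hsndE : AlgSp.RepWith @Etale (pullback.snd a t) :=
    MorphismProperty.of_isPullback (P := AlgSp.RepWith @Etale) sq1 hae
  have hfl1 : AlgSp.LocP @Flat (pullback.snd a t ≫ s) :=
    Groth.Agent.Lib.Helper12.LocPCases.good_flat.locP_comp hR hU _ _
      (Groth.Agent.S9947.locP_of_repWith_etale @Flat
        (fun g hg => by haveI := hg; infer_instance) _ hsndE) hs.1
  have hfp1 : AlgSp.LocP @LocallyOfFinitePresentation (pullback.snd a t ≫ s) :=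
    Groth.Agent.Lib.Helper12.LocPCases.good_lfp.locP_comp hR hU _ _
      (Groth.Agent.S9947.locP_of_repWith_etale @LocallyOfFinitePresentation
        (fun g hg => by haveI := hg; infer_instance) _ hsndE) hs.2
  have hfl2 : AlgSp.LocP @Flat (pullback.fst a (pullback.snd a t ≫ s)) :=
    Groth.Agent.Lib.Helper12.LocPCases.good_flat.locP_baseChange hK₁ hU
      (AlgSp.IsAlgSpace.yon_obj U₀) sq2.flip hfl1
  have hfp2 : AlgSp.LocP @LocallyOfFinitePresentation
      (pullback.fst a (pullback.snd a t ≫ s)) :=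
    Groth.Agent.Lib.Helper12.LocPCases.good_lfp.locP_baseChange hK₁ hU
      (AlgSp.IsAlgSpace.yon_obj U₀) sq2.flip hfp1
  obtain ⟨R₀, s₀, t₀, hk₀, h1, h2, h3, h4⟩ := exists_presentation_of_kernelPair q hK
    (pullback.snd a (pullback.snd a t ≫ s) ≫ pullback.fst a t)
    (pullback.fst a (pullback.snd a t ≫ s)) hkp hfl2 hfp2
  exact ⟨R₀, U₀, s₀, t₀, q, inferInstance, hk₀, h1, h2, h3, h4⟩

end Groth.Agent.Lib.H5bBoot
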