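import Mathlib

/-!
# Residue fields of primes of an étale chart below a local algebra with trivial residue extension
(helper5)
-/

set_option autoImplicit false
set_option linter.style.haveILetI false
universe u

namespace Groth.Agent.Lib.H5bBranchRes

open IsLocalRing

/-- Let `A = R_p`, `T` a local `A`-algebra with the same residue field, `E` an `R`-algebra and
`θ : E → T` a map of `R`-algebras, `q = θ⁻¹(m_T)`.  Then `κ(p) → κ(q)` is bijective. -/
theorem residueField_map_bijective {R E A T : Type u} [CommRing R] [CommRing E] [CommRing A]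
    [CommRing T] [Algebra R E] [Algebra R A] [Algebra A T] [IsLocalRing A] [IsLocalRing T]
    [IsLocalHom (algebraMap A T)]
    (p : Ideal R) [p.IsPrime] [IsLocalization.AtPrime A p]
    (θ : E →+* T) (hθ : θ.comp (algebraMap R E) = (algebraMap A T).comp (algebraMap R A))
    (hres : Function.Surjective (IsLocalRing.ResidueField.map (algebraMap A T)))
    (q : Ideal E) [q.IsPrime] (hq : q = (maximalIdeal T).comap θ)
    (hpq : p = q.comap (algebraMap R E)) :
    Function.Bijective (Ideal.ResidueField.map p q (algebraMap R E) hpq) := by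
  refine ⟨RingHom.injective _, ?_⟩
  have hres' : ∀ t : T, ∃ a : A, t - algebraMap A T a ∈ maximalIdeal T := by
    intro t
    obtain ⟨y, hy⟩ := hres (residue T t)
    obtain ⟨a, rfl⟩ := IsLocalRing.residue_surjective y
    refine ⟨a, ?_⟩
    rw [IsLocalRing.ResidueField.map_residue] at hy
    rw [← IsLocalRing.residue_eq_zero_iff, map_sub, hy, sub_self]
  have key : ∀ e : E, algebraMap E q.ResidueField e ∈
      (Ideal.ResidueField.map p q (algebraMap R E) hpq).range := by
    intro e
    obtain ⟨a, ha⟩ := hres' (θ e)
    obtain ⟨r, s, rfl⟩ := IsLocalization.exists_mk'_eq p.primeCompl a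
    have h1 : e * algebraMap R E s - algebraMap R E r ∈ q := by
      rw [hq, Ideal.mem_comap, map_sub, map_mul]
      have hs : θ (algebraMap R E s) = algebraMap A T (algebraMap R A s) :=
        congrArg (fun m => m (s : R)) hθ
      have hr : θ (algebraMap R E r) = algebraMap A T (algebraMap R A r) :=
        congrArg (fun m => m r) hθ
      rw [hs, hr]
      have h2 : algebraMap R A r = IsLocalization.mk' A r s * algebraMap R A s :=
        (IsLocalization.mk'_spec A r s).symm
      rw [h2, map_mul, ← sub_mul]
      exact Ideal.mul_mem_right _ _ ha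
    have hs' : algebraMap R p.ResidueField (s : R) ≠ 0 := by
      rw [Ne, Ideal.algebraMap_residueField_eq_zero]
      exact s.2
    refine ⟨algebraMap R p.ResidueField r / algebraMap R p.ResidueField s, ?_⟩
    rw [map_div₀, Ideal.ResidueField.map_algebraMap, Ideal.ResidueField.map_algebraMap]
    have hs'' : algebraMap E q.ResidueField (algebraMap R E s) ≠ 0 := by
      rw [Ne, Ideal.algebraMap_residueField_eq_zero]
      intro hmem
      have hle : q.comap (algebraMap R E) ≤ p := hpq.ge
      exact s.2 (hle (Ideal.mem_comap.2 hmem))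
    rw [div_eq_iff hs'', ← map_mul, eq_comm, ← sub_eq_zero, ← map_sub,
      Ideal.algebraMap_residueField_eq_zero]
    exact h1
  intro b
  obtain ⟨x, y, hy, rfl⟩ := IsFractionRing.div_surjective (A := E ⧸ q) b
  obtain ⟨x, rfl⟩ := Ideal.Quotient.mk_surjective x
  obtain ⟨y, rfl⟩ := Ideal.Quotient.mk_surjective y
  obtain ⟨x', hx'⟩ := key x
  obtain ⟨y', hy'⟩ := key y
  refine ⟨x' / y', ?_⟩
  rw [map_div₀, hx', hy']
  rfl

end Groth.Agent.Lib.H5bBranchRes
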