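import Mathlib

set_option autoImplicit false
set_option linter.style.haveILetI false

universe u

namespace Groth.Agent.Lib.H9FCM12

open MvPolynomial

section Spread

variable {R B D S' : Type u} [CommRing R] [CommRing B] [CommRing D] [CommRing S']
  [Algebra R B] [Algebra R D] [Algebra R S'] [Algebra D S'] [IsScalarTower R D S']

set_option maxHeartbeats 1600000 in
/-- **Spreading out a homomorphism**: a map from a finitely presented algebra `B` to a localization
`S' = T'⁻¹ D` factors through `D[1/t]` for some `t ∈ T'`. -/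
theorem exists_away_algHom [Algebra.FinitePresentation R B] (T' : Submonoid D)
    [IsLocalization T' S'] (ψ : B →ₐ[R] S') :
    ∃ (t : D) (ht : t ∈ T') (θ : B →ₐ[R] Localization.Away t),
      ∀ b, IsLocalization.Away.lift (S := Localization.Away t) t (g := algebraMap D S')
        (IsLocalization.map_units S' ⟨t, ht⟩) (θ b) = ψ b := by
  classical
  obtain ⟨n, f, hf, hker⟩ := Algebra.FinitePresentation.out (R := R) (A := B)
  -- Stage 1: a common denominator for the images of the variables
  obtain ⟨⟨t₁, ht₁⟩, hint⟩ :=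
    IsLocalization.exist_integer_multiples_of_finite T' (fun i : Fin n => ψ (f (X i)))
  choose c hc using hint
  have hu₁ : IsUnit (algebraMap D S' t₁) := IsLocalization.map_units S' ⟨t₁, ht₁⟩
  let y : Fin n → Localization.Away t₁ := fun i =>
    IsLocalization.mk' (Localization.Away t₁) (c i) ⟨t₁, Submonoid.mem_powers t₁⟩
  let θ₁ : MvPolynomial (Fin n) R →ₐ[R] Localization.Away t₁ := MvPolynomial.aeval y
  let ι₁ : Localization.Away t₁ →ₐ[R] S' :=
    IsLocalization.Away.liftAlgHom (A := R) (S := Localization.Away t₁) t₁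
      (f := IsScalarTower.toAlgHom R D S') hu₁
  have key1 : ι₁.comp θ₁ = ψ.comp f := by
    apply MvPolynomial.algHom_ext
    intro i
    change ι₁ (θ₁ (X i)) = ψ (f (X i))
    have h1 : θ₁ (X i) = y i := MvPolynomial.aeval_X y i
    rw [h1]
    change IsLocalization.lift _ (IsLocalization.mk' (Localization.Away t₁) (c i)
      ⟨t₁, Submonoid.mem_powers t₁⟩) = _
    rw [IsLocalization.lift_mk'_spec]
    have h2 := hc i
    rw [Algebra.smul_def] at h2
    exact h2
  have key1' : ∀ g, ι₁ (θ₁ g) = ψ (f g) := fun g => DFunLike.congr_fun key1 g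
  have hι₁ : ∀ d : D, ι₁ (algebraMap D (Localization.Away t₁) d) = algebraMap D S' d := fun d =>
    IsLocalization.Away.lift_eq (S := Localization.Away t₁) t₁
      (g := (IsScalarTower.toAlgHom R D S').toRingHom) hu₁ d
  -- Stage 2: kill the relations
  obtain ⟨s, hs⟩ := hker
  letI algC₁S' : Algebra (Localization.Away t₁) S' := ι₁.toRingHom.toAlgebra
  haveI : IsScalarTower D (Localization.Away t₁) S' := IsScalarTower.of_algebraMap_eq (fun d => by
    change algebraMap D S' d = ι₁ (algebraMap D (Localization.Away t₁) d)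
    rw [hι₁])
  haveI : IsLocalization (T'.map (algebraMap D (Localization.Away t₁))) S' :=
    IsLocalization.isLocalization_of_submonoid_le (Localization.Away t₁) S'
      (Submonoid.powers t₁) T' (Submonoid.powers_le.mpr ht₁)
  have hex : ∀ g : s, ∃ u : D, u ∈ T' ∧
      algebraMap D (Localization.Away t₁) u * θ₁ g = 0 := by
    intro g
    have hg0 : f g = 0 := by
      have : (g : MvPolynomial (Fin n) R) ∈ RingHom.ker f.toRingHom := by
        rw [← hs]; exact Ideal.subset_span g.2
      exact this
    have h0 : algebraMap (Localization.Away t₁) S' (θ₁ g) = 0 := by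
      change ι₁ (θ₁ g) = 0
      rw [key1', hg0, map_zero]
    obtain ⟨⟨m, hm⟩, hm0⟩ := (IsLocalization.map_eq_zero_iff
      (T'.map (algebraMap D (Localization.Away t₁))) S' (θ₁ g)).mp h0
    obtain ⟨u, hu, rfl⟩ := hm
    exact ⟨u, hu, hm0⟩
  choose u hu hu0 using hex
  let t₂ : D := ∏ g : s, u g
  have ht₂ : t₂ ∈ T' := Submonoid.prod_mem _ (fun g _ => hu g)
  have ht : t₁ * t₂ ∈ T' := Submonoid.mul_mem _ ht₁ ht₂
  refine ⟨t₁ * t₂, ht, ?_⟩
  let j : Localization.Away t₁ →ₐ[R] Localization.Away (t₁ * t₂) :=
    IsLocalization.Away.liftAlgHom (A := R) (S := Localization.Away t₁) t₁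
      (f := IsScalarTower.toAlgHom R D (Localization.Away (t₁ * t₂)))
      (IsLocalization.Away.isUnit_of_dvd (t₁ * t₂) (dvd_mul_right _ _))
  have hj : ∀ d : D, j (algebraMap D (Localization.Away t₁) d) =
      algebraMap D (Localization.Away (t₁ * t₂)) d := by
    intro d
    exact IsLocalization.Away.lift_eq (S := Localization.Away t₁) t₁
      (g := (IsScalarTower.toAlgHom R D (Localization.Away (t₁ * t₂))).toRingHom)
      (IsLocalization.Away.isUnit_of_dvd (t₁ * t₂) (dvd_mul_right _ _)) d
  let θ : MvPolynomial (Fin n) R →ₐ[R] Localization.Away (t₁ * t₂) := j.comp θ₁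
  have hθs : ∀ g : s, θ g = 0 := by
    intro g
    have h1 : algebraMap D (Localization.Away (t₁ * t₂)) (u g) * θ g = 0 := by
      change _ * j (θ₁ g) = 0
      rw [← hj, ← map_mul, hu0, map_zero]
    have hunit : IsUnit (algebraMap D (Localization.Away (t₁ * t₂)) (u g)) := by
      apply IsLocalization.Away.isUnit_of_dvd (t₁ * t₂)
      exact Dvd.dvd.mul_left (Finset.dvd_prod_of_mem (fun g : s => u g) (Finset.mem_univ g)) t₁
    exact (hunit.mul_right_eq_zero).mp h1
  have hle : ∀ a ∈ RingHom.ker f.toRingHom, θ a = 0 := by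
    intro a ha
    have hle' : RingHom.ker f.toRingHom ≤ RingHom.ker θ.toRingHom := by
      rw [← hs, Ideal.span_le]
      intro g hg
      exact hθs ⟨g, hg⟩
    exact hle' ha
  let θ' : B →ₐ[R] Localization.Away (t₁ * t₂) :=
    (Ideal.Quotient.liftₐ (RingHom.ker f.toRingHom) θ hle).comp
      (Ideal.quotientKerAlgEquivOfSurjective hf).symm.toAlgHom
  have hθ' : ∀ g, θ' (f g) = θ g := by
    intro g
    have h1 : (Ideal.quotientKerAlgEquivOfSurjective hf).symm (f g) =
        Ideal.Quotient.mk _ g := by
      rw [AlgEquiv.symm_apply_eq]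
      rfl
    change Ideal.Quotient.liftₐ (RingHom.ker f.toRingHom) θ hle
      ((Ideal.quotientKerAlgEquivOfSurjective hf).symm (f g)) = θ g
    rw [h1]
    rfl
  refine ⟨θ', fun b => ?_⟩
  obtain ⟨g, rfl⟩ := hf b
  rw [hθ', ← key1']
  -- both sides are ring homs out of the localization agreeing on `D`
  have hcomp : (IsLocalization.Away.lift (S := Localization.Away (t₁ * t₂)) (t₁ * t₂)
      (g := algebraMap D S') (IsLocalization.map_units S' ⟨t₁ * t₂, ht⟩)).comp j.toRingHom =
      ι₁.toRingHom := by
    apply IsLocalization.ringHom_ext (Submonoid.powers t₁)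
    ext d
    change IsLocalization.Away.lift (S := Localization.Away (t₁ * t₂)) (t₁ * t₂)
      (g := algebraMap D S') (IsLocalization.map_units S' ⟨t₁ * t₂, ht⟩)
      (j (algebraMap D (Localization.Away t₁) d)) = ι₁ (algebraMap D (Localization.Away t₁) d)
    rw [hj, IsLocalization.Away.lift_eq, hι₁]
  exact DFunLike.congr_fun hcomp (θ₁ g)

end Spread

end Groth.Agent.Lib.H9FCM12
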