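import Mathlib
import Groth.Prelude.Def_PBC
import Groth.Agent.Lib.Helper3IndEt
import Groth.Agent.Lib.Helper3IndEtComp
import Groth.Agent.Lib.Helper3HenselL
import Groth.Agent.Lib.Helper14WEFlat
import Groth.Agent.Lib.H9FCM12

/-!
# Minimal primes and étale algebras mapping to a henselian local ring (helper5)

Ring-level input for counting branches through étale neighbourhoods.

* `comap_mem_minimalPrimes`: along a flat ring map, minimal primes contract to minimal primes;
* `exists_minimalPrimes_comap_eq`, `encard_le`: for a flat map `S → T` to a local ring with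
  `q = m_T ∩ S`, every minimal prime of `S` below `q` is the contraction of a minimal prime of `T`;
* `isIndEtale_of_isLocalization`: a localization is ind-étale;
* `exists_etale_separating`: finitely many minimal primes of an ind-étale `R`-algebra `T` are
  separated by an étale `R`-algebra mapping to `T`;
* `exists_algHom_of_ker`: an `R`-algebra map from an étale algebra to the residue field of a
  henselian local `R`-algebra lifts, with prescribed contraction of the maximal ideal;
* `flat_of_etale`: `R`-algebra maps from an étale `R`-algebra to a flat `R`-algebra are flat.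
-/

set_option autoImplicit false
set_option linter.style.haveILetI false
set_option linter.unusedSectionVars false
universe u

namespace Groth.Agent.Lib.H5bBranchRing

open IsLocalRing

section GoingDown

variable {S T : Type u} [CommRing S] [CommRing T] [Algebra S T] [Module.Flat S T]

theorem comap_mem_minimalPrimes {P : Ideal T} (hP : P ∈ minimalPrimes T) :
    P.comap (algebraMap S T) ∈ minimalPrimes S := by
  haveI : P.IsPrime := hP.1.1
  refine ⟨⟨inferInstance, bot_le⟩, fun p' hp' hle => ?_⟩
  haveI : p'.IsPrime := hp'.1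
  haveI : P.LiesOver (P.comap (algebraMap S T)) := ⟨rfl⟩
  obtain ⟨P', hP'le, hP'prime, hP'over⟩ :=
    Ideal.exists_ideal_le_liesOver_of_le (p := p') (q := P.comap (algebraMap S T)) P hle
  have h1 : P ≤ P' := hP.2 ⟨hP'prime, bot_le⟩ hP'le
  have hPP' : P' = P := le_antisymm hP'le h1
  rw [hP'over.over, hPP']

theorem exists_minimalPrimes_comap_eq [IsLocalRing T] (q : Ideal S) [q.IsPrime]
    (hq : (maximalIdeal T).comap (algebraMap S T) = q) {P₀ : Ideal S}
    (hP₀ : P₀ ∈ minimalPrimes S) (hle : P₀ ≤ q) :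
    ∃ P ∈ minimalPrimes T, P.comap (algebraMap S T) = P₀ := by
  haveI : P₀.IsPrime := hP₀.1.1
  haveI : (maximalIdeal T).LiesOver q := ⟨hq.symm⟩
  obtain ⟨P', -, hP'prime, hP'over⟩ :=
    Ideal.exists_ideal_le_liesOver_of_le (p := P₀) (q := q) (maximalIdeal T) hle
  obtain ⟨P, hPmin, hPle⟩ := Ideal.exists_minimalPrimes_le (I := ⊥) (J := P') bot_le
  refine ⟨P, hPmin, ?_⟩
  have h1 : P.comap (algebraMap S T) ≤ P₀ := by
    rw [hP'over.over]; exact Ideal.comap_mono hPle
  haveI : P.IsPrime := hPmin.1.1
  exact le_antisymm h1 (hP₀.2 ⟨inferInstance, bot_le⟩ h1)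

theorem encard_le [IsLocalRing T] (q : Ideal S) [q.IsPrime]
    (hq : (maximalIdeal T).comap (algebraMap S T) = q) :
    {P₀ : Ideal S | P₀ ∈ minimalPrimes S ∧ P₀ ≤ q}.encard ≤ (minimalPrimes T).encard := by
  have hsub : {P₀ : Ideal S | P₀ ∈ minimalPrimes S ∧ P₀ ≤ q} ⊆
      (fun P : Ideal T => P.comap (algebraMap S T)) '' (minimalPrimes T) := by
    rintro P₀ ⟨h1, h2⟩
    obtain ⟨P, hP, rfl⟩ := exists_minimalPrimes_comap_eq q hq h1 h2
    exact ⟨P, hP, rfl⟩
  exact (Set.encard_le_encard hsub).trans (Set.encard_image_le _ _)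

end GoingDown

section IndEtale

/-- a localization is ind-étale. -/
theorem isIndEtale_of_isLocalization {R A : Type u} [CommRing R] [CommRing A] [Algebra R A]
    (M : Submonoid R) [IsLocalization M A] : EtPBC.IsIndEtale R A := by
  apply Groth.Agent.Lib.Helper3.IndEt.isIndEtale_of_factor
  intro P _ _ _ ψ
  obtain ⟨t, ht, θ, hθ⟩ := Groth.Agent.Lib.H9FCM12.exists_away_algHom (R := R) (B := P) (D := R)
    (S' := A) M ψ
  have hu : IsUnit (algebraMap R A t) := IsLocalization.map_units A ⟨t, ht⟩
  refine ⟨Localization.Away t, inferInstance, inferInstance,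
    Algebra.Etale.of_isLocalizationAway t, θ,
    IsLocalization.Away.liftAlgHom (A := R) (S := Localization.Away t) t
      (f := Algebra.ofId R A) hu, ?_⟩
  apply AlgHom.ext
  intro b
  exact hθ b

/-- finitely many minimal primes of an ind-étale algebra are separated by an étale algebra. -/
theorem exists_etale_separating (R T : Type u) [CommRing R] [CommRing T] [Algebra R T]
    (hind : EtPBC.IsIndEtale R T) (F : Finset (Ideal T)) (hF : ∀ P ∈ F, P ∈ minimalPrimes T) :
    ∃ (E : Type u) (_ : CommRing E) (_ : Algebra R E) (_ : Algebra.Etale R E) (θ : E →ₐ[R] T),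
      Set.InjOn (fun P : Ideal T => P.comap θ.toRingHom) (F : Set (Ideal T)) := by
  classical
  have hsep : ∀ P ∈ F, ∀ P' ∈ F, P ≠ P' → ∃ x : T, x ∈ P ∧ x ∉ P' := by
    intro P hP P' hP' hne
    by_contra hcon
    push Not at hcon
    have hle : P ≤ P' := fun x hx => hcon x hx
    have h2 : P' ≤ P := (hF P' hP').2 ⟨(hF P hP).1.1, bot_le⟩ hle
    exact hne (le_antisymm hle h2)
  let d : Ideal T → Ideal T → T := fun P P' =>
    if h : P ∈ F ∧ P' ∈ F ∧ P ≠ P' then (hsep P h.1 P' h.2.1 h.2.2).choose else 0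
  have hd : ∀ P ∈ F, ∀ P' ∈ F, P ≠ P' → d P P' ∈ P ∧ d P P' ∉ P' := by
    intro P hP P' hP' hne
    have h : P ∈ F ∧ P' ∈ F ∧ P ≠ P' := ⟨hP, hP', hne⟩
    simp only [d, dif_pos h]
    exact (hsep P h.1 P' h.2.1 h.2.2).choose_spec
  let σ : Type u := ↥(F ×ˢ F)
  let ψ : MvPolynomial σ R →ₐ[R] T := MvPolynomial.aeval (fun i : σ => d i.1.1 i.1.2)
  obtain ⟨E, _, _, _, f, g, hfg⟩ :=
    Groth.Agent.Lib.Helper3.IndEt.factor_of_isIndEtale hind (MvPolynomial σ R) ψ
  refine ⟨E, inferInstance, inferInstance, inferInstance, g, ?_⟩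
  intro P hP P' hP' heq
  by_contra hne
  have hP : P ∈ F := hP
  have hP' : P' ∈ F := hP'
  have hmem : (P, P') ∈ F ×ˢ F := Finset.mem_product.2 ⟨hP, hP'⟩
  let e : E := f (MvPolynomial.X (⟨(P, P'), hmem⟩ : σ))
  have he : g e = d P P' := by
    have := congrArg (fun m => m (MvPolynomial.X (⟨(P, P'), hmem⟩ : σ))) hfg
    simpa [ψ] using this
  obtain ⟨h1, h2⟩ := hd P hP P' hP' hne
  have hin : e ∈ P.comap g.toRingHom := by
    rw [Ideal.mem_comap]; show g e ∈ P; rw [he]; exact h1
  have hout : e ∉ P'.comap g.toRingHom := by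
    rw [Ideal.mem_comap]; show g e ∉ P'; rw [he]; exact h2
  have heq' : P.comap g.toRingHom = P'.comap g.toRingHom := heq
  rw [heq'] at hin
  exact hout hin

end IndEtale

section Lift

variable {R S T : Type u} [CommRing R] [CommRing S] [CommRing T] [Algebra R S] [Algebra R T]

/-- an `R`-algebra map from an étale `R`-algebra to a flat `R`-algebra is flat. -/
theorem flat_of_etale [Algebra.Etale R S] [Module.Flat R T] (θ : S →ₐ[R] T) :
    θ.toRingHom.Flat := by
  letI : Algebra S T := θ.toRingHom.toAlgebra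
  haveI : IsScalarTower R S T := IsScalarTower.of_algebraMap_eq (fun r => (θ.commutes r).symm)
  exact Groth.Agent.Lib.Helper14.WEFlat.flat_of_flat_of_weaklyEtale R S T

/-- lifting a residue-field valued point of an étale algebra to a henselian local algebra. -/
theorem exists_algHom_of_ker [Algebra.Etale R S] [HenselianLocalRing T]
    (χ : S →ₐ[R] ResidueField T) :
    ∃ θ : S →ₐ[R] T, (maximalIdeal T).comap θ.toRingHom = RingHom.ker χ.toRingHom := by
  obtain ⟨θ, hθ, -⟩ :=
    Groth.Agent.Lib.Helper3.Hensel.existsUnique_algHom_residue (R := R) (S := T) (A := S) χ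
  refine ⟨θ, ?_⟩
  ext a
  rw [Ideal.mem_comap, RingHom.mem_ker, ← residue_eq_zero_iff]
  show residue T (θ a) = 0 ↔ χ a = 0
  rw [hθ]

end Lift

end Groth.Agent.Lib.H5bBranchRing
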