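import Mathlib

/-! Base change along a universally injective fpqc morphism is fully faithful on morphisms into unramified schemes; the unit of a Weil restriction along a purely inseparable field extension is an isomorphism for étale schemes (S8216) (helper9). -/

set_option autoImplicit false
set_option linter.unusedVariables false
set_option linter.unusedSectionVars false
set_option linter.style.haveILetI false

open CategoryTheory CategoryTheory.Limits AlgebraicGeometry

universe u

namespace Groth.Agent.Lib.H9WeilPI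

/-- two morphisms into an unramified scheme which agree after a surjective morphism agree -/
theorem eq_of_surjective_comp {W W' Y S : Scheme.{u}} (a b : W ⟶ Y) (q : Y ⟶ S)
    [FormallyUnramified q] [LocallyOfFiniteType q] (hab : a ≫ q = b ≫ q) (t : W' ⟶ W)
    [Surjective t] (ht : t ≫ a = t ≫ b) : a = b := by
  let ab : W ⟶ pullback q q := pullback.lift a b hab
  let i : pullback ab (pullback.diagonal q) ⟶ W := pullback.fst ab (pullback.diagonal q)
  haveI : IsOpenImmersion i := inferInstance
  have hi : i ≫ a = i ≫ b := by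
    have h1 : i ≫ ab = pullback.snd ab (pullback.diagonal q) ≫ pullback.diagonal q :=
      pullback.condition
    have ha := congrArg (· ≫ pullback.fst q q) h1
    have hb := congrArg (· ≫ pullback.snd q q) h1
    simp only [Category.assoc, ab, pullback.lift_fst, pullback.lift_snd,
      pullback.diagonal_fst, pullback.diagonal_snd, Category.comp_id] at ha hb
    rw [ha, hb]
  let l : W' ⟶ pullback ab (pullback.diagonal q) := pullback.lift t (t ≫ a) (by
    apply pullback.hom_ext
    · rw [Category.assoc, Category.assoc, pullback.lift_fst, pullback.diagonal_fst,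
        Category.comp_id]
    · rw [Category.assoc, Category.assoc, pullback.lift_snd, pullback.diagonal_snd,
        Category.comp_id, ht])
  have hl : l ≫ i = t := pullback.lift_fst _ _ _
  haveI : Surjective (l ≫ i) := by rw [hl]; infer_instance
  haveI : Surjective i := Surjective.of_comp l i
  haveI : IsIso i := (isIso_iff_isOpenImmersion_and_surjective i).mpr ⟨inferInstance, inferInstance⟩
  exact (cancel_epi i).mp hi

section BC

variable {K K' : Scheme.{u}} (π : K' ⟶ K)

theorem map_left_fst {Z Y : Over K} (h : Z ⟶ Y) :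
    ((Over.pullback π).map h).left ≫ pullback.fst Y.hom π = pullback.fst Z.hom π ≫ h.left :=
  pullback.lift_fst _ _ _

theorem map_left_snd {Z Y : Over K} (h : Z ⟶ Y) :
    ((Over.pullback π).map h).left ≫ pullback.snd Y.hom π = pullback.snd Z.hom π :=
  pullback.lift_snd _ _ _

variable [Flat π] [Surjective π] [QuasiCompact π]

theorem faithful (Z Y : Over K) (h₁ h₂ : Z ⟶ Y)
    (h : (Over.pullback π).map h₁ = (Over.pullback π).map h₂) : h₁ = h₂ := by
  apply Over.OverMorphism.ext
  haveI : EffectiveEpi (pullback.fst Z.hom π) := inferInstance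
  rw [← cancel_epi (pullback.fst Z.hom π), ← map_left_fst, ← map_left_fst, h]

variable [UniversallyInjective π]

theorem full (Z Y : Over K) [FormallyUnramified Y.hom] [LocallyOfFiniteType Y.hom]
    (φ : (Over.pullback π).obj Z ⟶ (Over.pullback π).obj Y) :
    ∃ h : Z ⟶ Y, (Over.pullback π).map h = φ := by
  haveI : EffectiveEpi (pullback.fst Z.hom π) := inferInstance
  haveI : UniversallyInjective (pullback.fst Z.hom π) :=
    MorphismProperty.pullback_fst (P := @UniversallyInjective) _ _ inferInstance
  haveI hdiag : Surjective (pullback.diagonal (pullback.fst Z.hom π)) :=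
    (UniversallyInjective.iff_diagonal (pullback.fst Z.hom π)).mp inferInstance
  have hφsnd : φ.left ≫ pullback.snd Y.hom π = pullback.snd Z.hom π := Over.w φ
  obtain ⟨φ', hφ'⟩ : ∃ φ' : pullback Z.hom π ⟶ Y.left, φ' = φ.left ≫ pullback.fst Y.hom π :=
    ⟨_, rfl⟩
  have hφ'Y : φ' ≫ Y.hom = pullback.fst Z.hom π ≫ Z.hom := by
    rw [hφ', Category.assoc, pullback.condition, ← Category.assoc, hφsnd, pullback.condition]
  have hdesc : ∀ {W : Scheme.{u}} (g₁ g₂ : W ⟶ pullback Z.hom π),
      g₁ ≫ pullback.fst Z.hom π = g₂ ≫ pullback.fst Z.hom π → g₁ ≫ φ' = g₂ ≫ φ' := by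
    intro W g₁ g₂ hg
    obtain ⟨gg, hgg⟩ : ∃ gg : W ⟶ pullback (pullback.fst Z.hom π) (pullback.fst Z.hom π),
        gg = pullback.lift g₁ g₂ hg := ⟨_, rfl⟩
    have hgg1 : gg ≫ pullback.fst _ _ = g₁ := by rw [hgg, pullback.lift_fst]
    have hgg2 : gg ≫ pullback.snd _ _ = g₂ := by rw [hgg, pullback.lift_snd]
    obtain ⟨t, ht⟩ : ∃ t : pullback gg (pullback.diagonal (pullback.fst Z.hom π)) ⟶ W,
        t = pullback.fst gg (pullback.diagonal (pullback.fst Z.hom π)) := ⟨_, rfl⟩
    haveI : Surjective t := by rw [ht]; infer_instance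
    have hcond : t ≫ gg = pullback.snd gg (pullback.diagonal (pullback.fst Z.hom π)) ≫
        pullback.diagonal (pullback.fst Z.hom π) := by rw [ht]; exact pullback.condition
    have ht1 : t ≫ g₁ = pullback.snd gg (pullback.diagonal (pullback.fst Z.hom π)) := by
      rw [← hgg1, ← Category.assoc, hcond, Category.assoc, pullback.diagonal_fst,
        Category.comp_id]
    have ht2 : t ≫ g₂ = pullback.snd gg (pullback.diagonal (pullback.fst Z.hom π)) := by
      rw [← hgg2, ← Category.assoc, hcond, Category.assoc, pullback.diagonal_snd,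
        Category.comp_id]
    refine eq_of_surjective_comp (g₁ ≫ φ') (g₂ ≫ φ') Y.hom ?_ t ?_
    · rw [Category.assoc, Category.assoc, hφ'Y, ← Category.assoc, ← Category.assoc, hg]
    · rw [← Category.assoc, ← Category.assoc, ht1, ht2]
  obtain ⟨h₀, hfac⟩ : ∃ h₀ : Z.left ⟶ Y.left, pullback.fst Z.hom π ≫ h₀ = φ' :=
    ⟨EffectiveEpi.desc (pullback.fst Z.hom π) φ' hdesc,
      EffectiveEpi.fac (pullback.fst Z.hom π) φ' hdesc⟩
  have hw : h₀ ≫ Y.hom = Z.hom := by
    rw [← cancel_epi (pullback.fst Z.hom π), ← Category.assoc, hfac, hφ'Y]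
  refine ⟨Over.homMk h₀ hw, ?_⟩
  apply Over.OverMorphism.ext
  apply pullback.hom_ext
  · rw [map_left_fst]
    exact hfac.trans hφ'
  · rw [map_left_snd]
    exact hφsnd.symm

/-- the unit of a Weil restriction is an isomorphism for unramified `Y`, along a universally
injective fpqc base change. -/
theorem unit_isIso (Y R : Over K) [FormallyUnramified Y.hom] [LocallyOfFiniteType Y.hom]
    (e : ∀ Z : Over K, (Z ⟶ R) ≃ ((Over.pullback π).obj Z ⟶ (Over.pullback π).obj Y))
    (he : ∀ (Z W : Over K) (h : Z ⟶ W) (g : W ⟶ R),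
      e Z (h ≫ g) = (Over.pullback π).map h ≫ e W g) :
    IsIso ((e Y).symm (𝟙 ((Over.pullback π).obj Y))) := by
  obtain ⟨j, hj⟩ : ∃ j, j = (e Y).symm (𝟙 ((Over.pullback π).obj Y)) := ⟨_, rfl⟩
  rw [← hj]
  have hej : e Y j = 𝟙 _ := by rw [hj]; exact (e Y).apply_symm_apply _
  have key : ∀ (Z : Over K) (h : Z ⟶ Y), e Z (h ≫ j) = (Over.pullback π).map h := by
    intro Z h; rw [he, hej, Category.comp_id]
  obtain ⟨r, hr⟩ := full π R Y (e R (𝟙 R))
  have h1 : r ≫ j = 𝟙 R := (e R).injective (by rw [key, hr])
  have h2 : j ≫ r = 𝟙 Y := by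
    apply faithful π
    rw [Functor.map_comp, hr, ← he, Category.comp_id, hej, CategoryTheory.Functor.map_id]
  exact ⟨r, h2, h1⟩

end BC

section Field

variable (k k' : Type u) [Field k] [Field k'] [Algebra k k'] [IsPurelyInseparable k k']

instance : Flat (Spec.map (CommRingCat.ofHom (algebraMap k k'))) := by
  rw [HasRingHomProperty.Spec_iff (P := @Flat)]
  exact RingHom.Flat.of_isField (Field.toIsField k) _

instance : Surjective (Spec.map (CommRingCat.ofHom (algebraMap k k'))) := by
  refine ⟨fun x => ⟨(default : PrimeSpectrum k'), ?_⟩⟩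
  exact Subsingleton.elim (α := PrimeSpectrum k) _ _

instance : UniversallyInjective (Spec.map (CommRingCat.ofHom (algebraMap k k'))) := by
  refine ((tfae_universallyInjective (Spec.map (CommRingCat.ofHom (algebraMap k k')))).out 0 1).mpr
    ?_
  intro L _ g₁ g₂ hg
  dsimp only at hg
  rw [← Spec.map_preimage g₁, ← Spec.map_preimage g₂] at hg ⊢
  rw [← Spec.map_comp, ← Spec.map_comp] at hg
  have h1 := Spec.map_injective hg
  congr 1
  have h2 : (Spec.preimage g₁).hom.comp (algebraMap k k') =
      (Spec.preimage g₂).hom.comp (algebraMap k k') := by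
    have := congrArg CommRingCat.Hom.hom h1
    simpa using this
  exact CommRingCat.hom_ext (IsPurelyInseparable.injective_comp_algebraMap k k' L h2)

theorem main (Y : Over (Spec (CommRingCat.of k))) [Etale Y.hom]
    (R : Over (Spec (CommRingCat.of k)))
    (e : ∀ Z : Over (Spec (CommRingCat.of k)), (Z ⟶ R) ≃
      ((Over.pullback (Spec.map (CommRingCat.ofHom (algebraMap k k')))).obj Z ⟶
        ((Over.pullback (Spec.map (CommRingCat.ofHom (algebraMap k k')))).obj Y)))
    (he : ∀ (Z W : Over (Spec (CommRingCat.of k))) (h : Z ⟶ W) (g : W ⟶ R),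
      e Z (h ≫ g) = (Over.pullback (Spec.map (CommRingCat.ofHom (algebraMap k k')))).map h ≫ e W g) :
    IsIso ((e Y).symm (𝟙 ((Over.pullback (Spec.map (CommRingCat.ofHom (algebraMap k k')))).obj Y))) :=
  unit_isIso (Spec.map (CommRingCat.ofHom (algebraMap k k'))) Y R e he

end Field

end Groth.Agent.Lib.H9WeilPI
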