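import Mathlib
import Groth.Agent.Lib.H9WeilPI
import Groth.Agent.Lib.Helper20FinHom
import Groth.Agent.S3709

/-! Base change along a universally submersive morphism with connected geometric fibres is fully faithful on étale schemes and preserves connectedness (S2916): cocycle condition from connectedness of geometric fibres + S3709 descent (helper9). -/

set_option autoImplicit false
set_option linter.unusedVariables false
set_option linter.unusedSectionVars false
set_option linter.style.haveILetI false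

open CategoryTheory CategoryTheory.Limits AlgebraicGeometry

universe u

namespace Groth.Agent.Lib.H9SubmFF

/-- pointwise version of `eq_of_surjective_comp` -/
theorem eq_of_forall_exists_comp {W Y S : Scheme.{u}} (a b : W ⟶ Y) (q : Y ⟶ S)
    [FormallyUnramified q] [LocallyOfFiniteType q] (hab : a ≫ q = b ≫ q)
    (h : ∀ w : W, ∃ (T : Scheme.{u}) (t : T ⟶ W), w ∈ Set.range t ∧ t ≫ a = t ≫ b) : a = b := by
  let ab : W ⟶ pullback q q := pullback.lift a b hab
  let i : pullback ab (pullback.diagonal q) ⟶ W := pullback.fst ab (pullback.diagonal q)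
  haveI : IsOpenImmersion i := inferInstance
  have hi : i ≫ a = i ≫ b := by
    have h1 : i ≫ ab = pullback.snd ab (pullback.diagonal q) ≫ pullback.diagonal q :=
      pullback.condition
    have ha := congrArg (· ≫ pullback.fst q q) h1
    have hb := congrArg (· ≫ pullback.snd q q) h1
    simp only [Category.assoc, ab, pullback.lift_fst, pullback.lift_snd,
      pullback.diagonal_fst, pullback.diagonal_snd, Category.comp_id] at ha hb
    rw [ha, hb]
  haveI : Surjective i := by
    refine ⟨fun w => ?_⟩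
    obtain ⟨T, t, ⟨z, hz⟩, ht⟩ := h w
    let l : T ⟶ pullback ab (pullback.diagonal q) := pullback.lift t (t ≫ a) (by
      apply pullback.hom_ext
      · rw [Category.assoc, Category.assoc, pullback.lift_fst, pullback.diagonal_fst,
          Category.comp_id]
      · rw [Category.assoc, Category.assoc, pullback.lift_snd, pullback.diagonal_snd,
          Category.comp_id, ht])
    have hl : l ≫ i = t := pullback.lift_fst _ _ _
    exact ⟨l z, by rw [← Scheme.Hom.comp_apply, hl, hz]⟩
  haveI : IsIso i := (isIso_iff_isOpenImmersion_and_surjective i).mpr ⟨inferInstance, inferInstance⟩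
  exact (cancel_epi i).mp hi

/-- points with values in a separably closed field lift along étale morphisms, through a given
point of the source (copied from `Helper8NormalSepEt`). -/
theorem exists_lift_etale_apply {Ω : Type u} [Field Ω] [IsSepClosed Ω] {S' S : Scheme.{u}}
    (g : S' ⟶ S) [Etale g] (s' : S') (f : Spec (CommRingCat.of Ω) ⟶ S)
    (hf : f (IsLocalRing.closedPoint Ω) = g s') :
    ∃ f' : Spec (CommRingCat.of Ω) ⟶ S', f' ≫ g = f ∧ f' (IsLocalRing.closedPoint Ω) = s' := by
  obtain ⟨⟨x, a⟩, rfl⟩ := (Scheme.SpecToEquivOfField Ω S).symm.surjective f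
  have hx : x = g s' := by
    simpa [Scheme.SpecToEquivOfField] using hf
  subst hx
  algebraize [(g.residueFieldMap s').hom, a.hom]
  let b : S'.residueField s' →ₐ[S.residueField (g s')] Ω := IsSepClosed.lift
  have hfac : g.residueFieldMap s' ≫ CommRingCat.ofHom b.toRingHom = a := by
    ext1; exact b.comp_algebraMap
  refine ⟨Spec.map (CommRingCat.ofHom b.toRingHom) ≫ S'.fromSpecResidueField s', ?_, ?_⟩
  · simp [Scheme.SpecToEquivOfField, ← hfac]
    rfl
  · rw [Scheme.Hom.comp_apply]
    exact Scheme.fromSpecResidueField_apply _ _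

/-- two morphisms over a separably closed field from a connected scheme to an étale scheme agree
as soon as they agree at one point. -/
theorem eq_of_connected {K : Type u} [Field K] [IsSepClosed K] {T Y : Scheme.{u}}
    [ConnectedSpace T] (y : Y ⟶ Spec (CommRingCat.of K)) [Etale y] (a b : T ⟶ Y)
    (hab : a ≫ y = b ≫ y) (d : T) (hd : a d = b d) : a = b := by
  have hsec : ∀ z : Y, ∃ σ : Spec (CommRingCat.of K) ⟶ Y, σ ≫ y = 𝟙 _ ∧ IsOpenImmersion σ ∧
      Set.range σ = {z} := by
    intro z
    obtain ⟨σ, hσ1, hσ2⟩ := exists_lift_etale_apply y z (𝟙 _)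
      (Subsingleton.elim (α := PrimeSpectrum K) _ _)
    refine ⟨σ, hσ1, Groth.Agent.Lib.Helper20.FinHom.isOpenImmersion_of_section y σ hσ1, ?_⟩
    ext w
    constructor
    · rintro ⟨c, rfl⟩
      rw [Subsingleton.elim (α := PrimeSpectrum K) c (IsLocalRing.closedPoint K)]
      exact hσ2
    · rintro rfl
      exact ⟨_, hσ2⟩
  have hopen : ∀ z : Y, IsOpen ({z} : Set Y) := by
    intro z
    obtain ⟨σ, -, hσ, hr⟩ := hsec z
    rw [← hr]
    exact σ.isOpenEmbedding.isOpen_range
  haveI : DiscreteTopology Y := discreteTopology_iff_isOpen_singleton.mpr hopen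
  have hconst : ∀ (c : T ⟶ Y) (z : T), c z = c d := by
    intro c z
    have hcl : IsClopen (c ⁻¹' {c d}) := (isClopen_discrete {c d}).preimage c.continuous
    have : c ⁻¹' {c d} = Set.univ := (isClopen_iff.mp hcl).resolve_left (by
      intro he
      have : d ∈ c ⁻¹' {c d} := rfl
      rw [he] at this
      exact this)
    have hz : z ∈ c ⁻¹' {c d} := by rw [this]; trivial
    exact hz
  obtain ⟨σ, hσ1, hσ, hr⟩ := hsec (a d)
  have hra : Set.range a ⊆ Set.range σ := by
    rintro _ ⟨z, rfl⟩
    rw [hr, hconst a z]; rfl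
  have hrb : Set.range b ⊆ Set.range σ := by
    rintro _ ⟨z, rfl⟩
    rw [hr, hconst b z, hd]; rfl
  have ha : a = (a ≫ y) ≫ σ := by
    have h1 : IsOpenImmersion.lift σ a hra ≫ σ = a := IsOpenImmersion.lift_fac _ _ _
    have h2 : IsOpenImmersion.lift σ a hra = a ≫ y := by
      calc IsOpenImmersion.lift σ a hra = IsOpenImmersion.lift σ a hra ≫ σ ≫ y := by
            rw [hσ1, Category.comp_id]
        _ = a ≫ y := by rw [← Category.assoc, h1]
    rw [← h2, h1]
  have hb : b = (b ≫ y) ≫ σ := by
    have h1 : IsOpenImmersion.lift σ b hrb ≫ σ = b := IsOpenImmersion.lift_fac _ _ _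
    have h2 : IsOpenImmersion.lift σ b hrb = b ≫ y := by
      calc IsOpenImmersion.lift σ b hrb = IsOpenImmersion.lift σ b hrb ≫ σ ≫ y := by
            rw [hσ1, Category.comp_id]
        _ = b ≫ y := by rw [← Category.assoc, h1]
    rw [← h2, h1]
  rw [ha, hb, hab]

section Main

variable {S' S : Scheme.{u}} (g : S' ⟶ S)

theorem isQuotientMap_of_isPullback (hg : SGA1.UnivSubmersive g) {X' Y' : Scheme.{u}}
    {f' : X' ⟶ Y'} {i₁ : X' ⟶ S'} {i₂ : Y' ⟶ S} (h : IsPullback f' i₁ i₂ g) :
    Topology.IsQuotientMap f' := hg i₁ i₂ f' h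

theorem isQuotientMap_self (hg : SGA1.UnivSubmersive g) : Topology.IsQuotientMap g :=
  isQuotientMap_of_isPullback g hg IsPullback.of_id_snd

/-- the geometric point over a point -/
noncomputable def geomPt (X : Scheme.{u}) (x : X) :
    Spec (CommRingCat.of (AlgebraicClosure (X.residueField x))) ⟶ X :=
  Spec.map (CommRingCat.ofHom (algebraMap (X.residueField x)
    (AlgebraicClosure (X.residueField x)))) ≫ X.fromSpecResidueField x

theorem geomPt_apply (X : Scheme.{u}) (x : X) (c) : geomPt X x c = x := by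
  rw [geomPt, Scheme.Hom.comp_apply]
  exact Scheme.fromSpecResidueField_apply _ _

theorem isConnected_fibre
    (hconn : ∀ (K : Type u) [Field K] [IsAlgClosed K] (ξ : Spec (CommRingCat.of K) ⟶ S),
      ConnectedSpace ↑(pullback g ξ)) (s : S) : _root_.IsConnected (g ⁻¹' {s}) := by
  haveI := hconn _ (geomPt S s)
  have hr : g ⁻¹' {s} = Set.range (pullback.fst g (geomPt S s)) := by
    ext s'
    constructor
    · intro hs'
      obtain ⟨z, hz, -⟩ := Scheme.Pullback.exists_preimage_pullback (f := g) (g := geomPt S s) s'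
        (IsLocalRing.closedPoint _) (by rw [geomPt_apply]; exact hs')
      exact ⟨z, hz⟩
    · rintro ⟨z, rfl⟩
      show g (pullback.fst g (geomPt S s) z) = s
      rw [← Scheme.Hom.comp_apply, pullback.condition, Scheme.Hom.comp_apply, geomPt_apply]
  rw [hr]
  exact isConnected_range (pullback.fst g (geomPt S s)).continuous

theorem connectedSpace_of_connectedSpace (hg : SGA1.UnivSubmersive g)
    (hconn : ∀ (K : Type u) [Field K] [IsAlgClosed K] (ξ : Spec (CommRingCat.of K) ⟶ S),
      ConnectedSpace ↑(pullback g ξ)) [ConnectedSpace S] : ConnectedSpace S' := by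
  have h := (isQuotientMap_self g hg).isCoinducing.isConnected_preimage_of_isClosed
    (isConnected_fibre g hconn) isClosed_univ isConnected_univ
  rw [Set.preimage_univ] at h
  exact connectedSpace_iff_univ.mpr h

section Coc

variable {X Y : Scheme.{u}} (p : X ⟶ S) (q : Y ⟶ S)

/-- first projection `X ×_S S'' → X ×_S S'` -/
noncomputable abbrev m₁ : pullback p (pullback.fst g g ≫ g) ⟶ pullback p g :=
  pullback.map p (pullback.fst g g ≫ g) p g (𝟙 X) (pullback.fst g g) (𝟙 S)
    ((Category.comp_id _).trans (Category.id_comp _).symm) (Category.comp_id _)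

/-- second projection `X ×_S S'' → X ×_S S'` -/
noncomputable abbrev m₂ : pullback p (pullback.fst g g ≫ g) ⟶ pullback p g :=
  pullback.map p (pullback.fst g g ≫ g) p g (𝟙 X) (pullback.snd g g) (𝟙 S)
    ((Category.comp_id _).trans (Category.id_comp _).symm)
    ((Category.comp_id _).trans pullback.condition)

theorem m₁_fst : m₁ g p ≫ pullback.fst p g = pullback.fst p (pullback.fst g g ≫ g) :=
  (pullback.lift_fst _ _ _).trans (Category.comp_id _)

theorem m₁_snd : m₁ g p ≫ pullback.snd p g =
    pullback.snd p (pullback.fst g g ≫ g) ≫ pullback.fst g g := pullback.lift_snd _ _ _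

theorem m₂_fst : m₂ g p ≫ pullback.fst p g = pullback.fst p (pullback.fst g g ≫ g) :=
  (pullback.lift_fst _ _ _).trans (Category.comp_id _)

theorem m₂_snd : m₂ g p ≫ pullback.snd p g =
    pullback.snd p (pullback.fst g g ≫ g) ≫ pullback.snd g g := pullback.lift_snd _ _ _

/-- the diagonal `X ×_S S' → X ×_S S''` -/
noncomputable def δ : pullback p g ⟶ pullback p (pullback.fst g g ≫ g) :=
  pullback.lift (pullback.fst p g) (pullback.lift (pullback.snd p g) (pullback.snd p g) rfl)
    (by rw [← Category.assoc, pullback.lift_fst, pullback.condition])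

theorem δ_m₁ : δ g p ≫ m₁ g p = 𝟙 _ := by
  apply pullback.hom_ext
  · rw [Category.assoc, m₁_fst, δ, pullback.lift_fst, Category.id_comp]
  · rw [Category.assoc, m₁_snd, δ, ← Category.assoc, pullback.lift_snd, pullback.lift_fst,
      Category.id_comp]

theorem δ_m₂ : δ g p ≫ m₂ g p = 𝟙 _ := by
  apply pullback.hom_ext
  · rw [Category.assoc, m₂_fst, δ, pullback.lift_fst, Category.id_comp]
  · rw [Category.assoc, m₂_snd, δ, ← Category.assoc, pullback.lift_snd, pullback.lift_snd,
      Category.id_comp]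

theorem isPullback_m₁ :
    IsPullback (m₁ g p) (pullback.snd p (pullback.fst g g ≫ g) ≫ pullback.snd g g)
      (pullback.snd p g ≫ g) g := by
  have h1 : IsPullback (m₁ g p) (pullback.snd p (pullback.fst g g ≫ g)) (pullback.snd p g)
      (pullback.fst g g) := by
    refine IsPullback.of_right (h₁₂ := pullback.fst p g) (v₁₃ := p) (h₂₂ := g) ?_ (m₁_snd g p)
      (IsPullback.of_hasPullback p g)
    rw [m₁_fst]
    exact IsPullback.of_hasPullback p (pullback.fst g g ≫ g)
  exact h1.paste_vert (IsPullback.of_hasPullback g g)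

theorem connectedSpace_fibre_m₁
    (hconn : ∀ (K : Type u) [Field K] [IsAlgClosed K] (ξ : Spec (CommRingCat.of K) ⟶ S),
      ConnectedSpace ↑(pullback g ξ))
    {K : Type u} [Field K] [IsAlgClosed K] (ζ : Spec (CommRingCat.of K) ⟶ pullback p g) :
    ConnectedSpace ↑(pullback (m₁ g p) ζ) := by
  have h := (IsPullback.of_hasPullback (m₁ g p) ζ).paste_horiz (isPullback_m₁ g p).flip
  haveI := hconn K (ζ ≫ pullback.snd p g ≫ g)
  exact (h.isoPullback.inv.surjective).connectedSpace h.isoPullback.inv.continuous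

/-- **cocycle condition** from connectedness of the geometric fibres. -/
theorem cocycle [Etale q]
    (hconn : ∀ (K : Type u) [Field K] [IsAlgClosed K] (ξ : Spec (CommRingCat.of K) ⟶ S),
      ConnectedSpace ↑(pullback g ξ))
    (f' : pullback p g ⟶ pullback q g) (hf' : f' ≫ pullback.snd q g = pullback.snd p g) :
    m₁ g p ≫ f' ≫ pullback.fst q g = m₂ g p ≫ f' ≫ pullback.fst q g := by
  have hcq : pullback.fst q g ≫ q = pullback.snd q g ≫ g := pullback.condition
  have hcg : pullback.fst g g ≫ g = pullback.snd g g ≫ g := pullback.condition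
  have hfq : (f' ≫ pullback.fst q g) ≫ q = pullback.snd p g ≫ g := by
    calc (f' ≫ pullback.fst q g) ≫ q = f' ≫ (pullback.fst q g ≫ q) := Category.assoc _ _ _
      _ = f' ≫ (pullback.snd q g ≫ g) := congrArg (f' ≫ ·) hcq
      _ = (f' ≫ pullback.snd q g) ≫ g := (Category.assoc _ _ _).symm
      _ = pullback.snd p g ≫ g := congrArg (· ≫ g) hf'
  have hq1 : (m₁ g p ≫ f' ≫ pullback.fst q g) ≫ q =
      pullback.snd p (pullback.fst g g ≫ g) ≫ pullback.fst g g ≫ g := by
    calc (m₁ g p ≫ f' ≫ pullback.fst q g) ≫ q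
        = m₁ g p ≫ ((f' ≫ pullback.fst q g) ≫ q) := Category.assoc _ _ _
      _ = m₁ g p ≫ (pullback.snd p g ≫ g) := congrArg (m₁ g p ≫ ·) hfq
      _ = (m₁ g p ≫ pullback.snd p g) ≫ g := (Category.assoc _ _ _).symm
      _ = (pullback.snd p (pullback.fst g g ≫ g) ≫ pullback.fst g g) ≫ g :=
          congrArg (· ≫ g) (m₁_snd g p)
      _ = _ := Category.assoc _ _ _
  have hq2 : (m₂ g p ≫ f' ≫ pullback.fst q g) ≫ q =
      pullback.snd p (pullback.fst g g ≫ g) ≫ pullback.fst g g ≫ g := by
    calc (m₂ g p ≫ f' ≫ pullback.fst q g) ≫ q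
        = m₂ g p ≫ ((f' ≫ pullback.fst q g) ≫ q) := Category.assoc _ _ _
      _ = m₂ g p ≫ (pullback.snd p g ≫ g) := congrArg (m₂ g p ≫ ·) hfq
      _ = (m₂ g p ≫ pullback.snd p g) ≫ g := (Category.assoc _ _ _).symm
      _ = (pullback.snd p (pullback.fst g g ≫ g) ≫ pullback.snd g g) ≫ g :=
          congrArg (· ≫ g) (m₂_snd g p)
      _ = pullback.snd p (pullback.fst g g ≫ g) ≫ pullback.snd g g ≫ g := Category.assoc _ _ _
      _ = _ := congrArg (pullback.snd p (pullback.fst g g ≫ g) ≫ ·) hcg.symm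
  refine eq_of_forall_exists_comp _ _ q (hq1.trans hq2.symm) ?_
  intro w
  obtain ⟨ζ, hζ⟩ : ∃ ζ, ζ = geomPt (pullback p g) (m₁ g p w) := ⟨_, rfl⟩
  haveI := connectedSpace_fibre_m₁ g p hconn ζ
  obtain ⟨t, ht⟩ : ∃ t, t = pullback.fst (m₁ g p) ζ := ⟨_, rfl⟩
  refine ⟨_, t, ?_, ?_⟩
  · obtain ⟨z, hz, -⟩ := Scheme.Pullback.exists_preimage_pullback (f := m₁ g p) (g := ζ) w
      (IsLocalRing.closedPoint _) (by rw [hζ, geomPt_apply])
    exact ⟨z, by rw [ht]; exact hz⟩
  · -- the two maps to the geometric fibre of `Y`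
    have hcond : t ≫ m₁ g p = pullback.snd (m₁ g p) ζ ≫ ζ := by rw [ht]; exact pullback.condition
    obtain ⟨ξ, hξ⟩ : ∃ ξ, ξ = ζ ≫ pullback.snd p g ≫ g := ⟨_, rfl⟩
    have hc : t ≫ pullback.snd p (pullback.fst g g ≫ g) ≫ pullback.fst g g ≫ g =
        pullback.snd (m₁ g p) ζ ≫ ξ := by
      rw [hξ, ← Category.assoc (pullback.snd (m₁ g p) ζ), ← hcond, Category.assoc,
        ← Category.assoc (m₁ g p), m₁_snd, Category.assoc]
    let aT : pullback (m₁ g p) ζ ⟶ pullback q ξ :=
      pullback.lift (t ≫ m₁ g p ≫ f' ≫ pullback.fst q g) (pullback.snd (m₁ g p) ζ)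
        (by rw [Category.assoc, hq1, hc])
    let bT : pullback (m₁ g p) ζ ⟶ pullback q ξ :=
      pullback.lift (t ≫ m₂ g p ≫ f' ≫ pullback.fst q g) (pullback.snd (m₁ g p) ζ)
        (by rw [Category.assoc, hq2, hc])
    -- a rational point on the diagonal
    let dd : Spec (CommRingCat.of _) ⟶ pullback (m₁ g p) ζ :=
      pullback.lift (ζ ≫ δ g p) (𝟙 _) (by rw [Category.assoc, δ_m₁, Category.comp_id,
        Category.id_comp])
    have hdd1 : dd ≫ t = ζ ≫ δ g p := by rw [ht]; exact pullback.lift_fst _ _ _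
    have hdd : dd ≫ aT = dd ≫ bT := by
      apply pullback.hom_ext
      · have e1 : dd ≫ aT ≫ pullback.fst q ξ = dd ≫ t ≫ m₁ g p ≫ f' ≫ pullback.fst q g :=
          congrArg (dd ≫ ·) (pullback.lift_fst _ _ _)
        have e2 : dd ≫ bT ≫ pullback.fst q ξ = dd ≫ t ≫ m₂ g p ≫ f' ≫ pullback.fst q g :=
          congrArg (dd ≫ ·) (pullback.lift_fst _ _ _)
        have e3 : dd ≫ t ≫ m₁ g p ≫ f' ≫ pullback.fst q g = ζ ≫ f' ≫ pullback.fst q g := by
          calc dd ≫ t ≫ m₁ g p ≫ f' ≫ pullback.fst q g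
              = (dd ≫ t) ≫ m₁ g p ≫ f' ≫ pullback.fst q g := (Category.assoc _ _ _).symm
            _ = (ζ ≫ δ g p) ≫ m₁ g p ≫ f' ≫ pullback.fst q g := by rw [hdd1]
            _ = ζ ≫ (δ g p ≫ m₁ g p) ≫ f' ≫ pullback.fst q g := by
                simp only [Category.assoc]
            _ = _ := by rw [δ_m₁, Category.id_comp]
        have e4 : dd ≫ t ≫ m₂ g p ≫ f' ≫ pullback.fst q g = ζ ≫ f' ≫ pullback.fst q g := by
          calc dd ≫ t ≫ m₂ g p ≫ f' ≫ pullback.fst q g
              = (dd ≫ t) ≫ m₂ g p ≫ f' ≫ pullback.fst q g := (Category.assoc _ _ _).symm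
            _ = (ζ ≫ δ g p) ≫ m₂ g p ≫ f' ≫ pullback.fst q g := by rw [hdd1]
            _ = ζ ≫ (δ g p ≫ m₂ g p) ≫ f' ≫ pullback.fst q g := by
                simp only [Category.assoc]
            _ = _ := by rw [δ_m₂, Category.id_comp]
        rw [Category.assoc, Category.assoc, e1, e2, e3, e4]
      · have e1 : dd ≫ aT ≫ pullback.snd q ξ = dd ≫ pullback.snd (m₁ g p) ζ :=
          congrArg (dd ≫ ·) (pullback.lift_snd _ _ _)
        have e2 : dd ≫ bT ≫ pullback.snd q ξ = dd ≫ pullback.snd (m₁ g p) ζ :=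
          congrArg (dd ≫ ·) (pullback.lift_snd _ _ _)
        rw [Category.assoc, Category.assoc, e1, e2]
    have hab : aT = bT := by
      refine eq_of_connected (pullback.snd q ξ) aT bT ?_ (dd (IsLocalRing.closedPoint _)) ?_
      · rw [pullback.lift_snd, pullback.lift_snd]
      · rw [← Scheme.Hom.comp_apply, ← Scheme.Hom.comp_apply, hdd]
    have := congrArg (· ≫ pullback.fst q ξ) hab
    simpa only [aT, bT, pullback.lift_fst] using this

end Coc

theorem main (hg : SGA1.UnivSubmersive g)
    (hconn : ∀ (K : Type u) [Field K] [IsAlgClosed K] (ξ : Spec (CommRingCat.of K) ⟶ S),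
      ConnectedSpace ↑(pullback g ξ)) :
    (ConnectedSpace S → ConnectedSpace S') ∧
    ∀ (X Y : Over S) [Etale X.hom] [Etale Y.hom],
      Function.Bijective ((Over.pullback g).map : (X ⟶ Y) → _) := by
  refine ⟨fun _ => connectedSpace_of_connectedSpace g hg hconn, ?_⟩
  intro X Y _ _
  constructor
  · intro h₁ h₂ h
    apply Over.OverMorphism.ext
    haveI : Surjective (pullback.fst X.hom g) :=
      ⟨(isQuotientMap_of_isPullback g hg (IsPullback.of_hasPullback X.hom g)).surjective⟩
    refine Groth.Agent.Lib.H9WeilPI.eq_of_surjective_comp h₁.left h₂.left Y.hom ?_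
      (pullback.fst X.hom g) ?_
    · rw [Over.w h₁, Over.w h₂]
    · rw [← Groth.Agent.Lib.H9WeilPI.map_left_fst, ← Groth.Agent.Lib.H9WeilPI.map_left_fst]
      exact congrArg (fun k => k.left ≫ pullback.fst Y.hom g) h
  · intro φ
    obtain ⟨u, ⟨hu1, hu2⟩, -⟩ := Groth.Agent.S3709.result g hg X.hom Y.hom φ.left (Over.w φ)
      (cocycle g X.hom Y.hom hconn φ.left (Over.w φ))
    refine ⟨Over.homMk u hu1, ?_⟩
    apply Over.OverMorphism.ext
    apply pullback.hom_ext
    · rw [Groth.Agent.Lib.H9WeilPI.map_left_fst]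
      exact hu2.symm
    · rw [Groth.Agent.Lib.H9WeilPI.map_left_snd]
      exact (Over.w φ).symm

end Main

end Groth.Agent.Lib.H9SubmFF
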