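import Mathlib
import Groth.Prelude.Def_Hensel
import Groth.Agent.Lib.Helper4GenFinite2
import Groth.Agent.Lib.H9SubmFF
import Groth.Agent.Lib.H5bBranchRing
import Groth.Agent.S0539
import Groth.Agent.Lib.Helper3IndEtHz
import Groth.Agent.Lib.H5bBranchRes
import Groth.Agent.Lib.Helper20ResFld

/-!
# Irreducible components through a point and minimal primes of an affine chart (helper5)
-/

set_option autoImplicit false
set_option linter.style.haveILetI false
universe u

namespace Groth.Agent.Lib.H5bBranchSch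

open AlgebraicGeometry CategoryTheory IsLocalRing TopologicalSpace

/-- the irreducible components of a scheme through a point inject into the minimal primes of an
affine open neighbourhood contained in the prime of the point. -/
theorem encard_components_le {U : Scheme.{u}} (u : U) {V : U.Opens} (hV : IsAffineOpen V)
    (hu : u ∈ V) :
    {Z : Set U | Z ∈ irreducibleComponents U ∧ u ∈ Z}.encard ≤
      {P₀ : Ideal Γ(U, V) | P₀ ∈ minimalPrimes Γ(U, V) ∧
        P₀ ≤ (hV.primeIdealOf ⟨u, hu⟩).asIdeal}.encard := by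
  classical
  have key : ∀ Z : Set U, Z ∈ irreducibleComponents U → u ∈ Z →
      ∃ η : U, IsGenericPoint η Z ∧ η ∈ V := by
    intro Z hZ huZ
    obtain ⟨η, hη⟩ := QuasiSober.sober hZ.1 (isClosed_of_mem_irreducibleComponents Z hZ)
    exact ⟨η, hη, (hη.specializes huZ).mem_open V.2 hu⟩
  haveI : Nonempty U := ⟨u⟩
  choose! η hη1 hη2 using key
  refine Set.encard_le_encard_of_injOn (f := fun Z =>
    if h : Z ∈ irreducibleComponents U ∧ u ∈ Z then
      (hV.primeIdealOf ⟨η Z, hη2 Z h.1 h.2⟩).asIdeal else ⊥) ?_ ?_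
  · rintro Z ⟨hZ, huZ⟩
    have h : Z ∈ irreducibleComponents U ∧ u ∈ Z := ⟨hZ, huZ⟩
    simp only [dif_pos h]
    have hgen := hη1 Z hZ huZ
    refine ⟨?_, ?_⟩
    · refine Groth.Agent.Lib.Helper4.GenFinite.primeIdealOf_mem_minimalPrimes hV (η Z)
        (hη2 Z hZ huZ) ?_
      rw [hgen.def]; exact hZ
    · have hsp : η Z ⤳ u := hgen.specializes huZ
      have h1 : hV.fromSpec (hV.primeIdealOf ⟨η Z, hη2 Z hZ huZ⟩) ⤳
          hV.fromSpec (hV.primeIdealOf ⟨u, hu⟩) := by
        rw [hV.fromSpec_primeIdealOf, hV.fromSpec_primeIdealOf]; exact hsp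
      have h2 := (hV.fromSpec.isOpenEmbedding.isInducing.specializes_iff).1 h1
      exact (PrimeSpectrum.le_iff_specializes _ _).2 h2
  · rintro Z ⟨hZ, huZ⟩ Z' ⟨hZ', huZ'⟩ heq
    have h : Z ∈ irreducibleComponents U ∧ u ∈ Z := ⟨hZ, huZ⟩
    have h' : Z' ∈ irreducibleComponents U ∧ u ∈ Z' := ⟨hZ', huZ'⟩
    simp only [dif_pos h, dif_pos h'] at heq
    have hpt : hV.primeIdealOf ⟨η Z, hη2 Z hZ huZ⟩ = hV.primeIdealOf ⟨η Z', hη2 Z' hZ' huZ'⟩ :=
      PrimeSpectrum.ext heq
    have hη : η Z = η Z' := by
      have := congrArg (fun p => hV.fromSpec p) hpt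
      simpa only [hV.fromSpec_primeIdealOf] using this
    rw [← (hη1 Z hZ huZ).def, ← (hη1 Z' hZ' huZ').def, hη]


section Chi

variable {R S : Type u} [CommRing R] [CommRing S] [Algebra R S]

/-- a field valued point of `Spec S` over `Spec R` through a given prime gives an algebra map with
that prime as kernel. -/
theorem exists_chi_of_lift {Ω : Type u} [Field Ω] [Algebra R Ω] (q : PrimeSpectrum S)
    (f' : Spec (CommRingCat.of Ω) ⟶ Spec (CommRingCat.of S))
    (h1 : f' ≫ Spec.map (CommRingCat.ofHom (algebraMap R S)) =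
      Spec.map (CommRingCat.ofHom (algebraMap R Ω)))
    (h2 : f' (IsLocalRing.closedPoint Ω) = q) :
    ∃ χ : S →ₐ[R] Ω, RingHom.ker χ.toRingHom = q.asIdeal := by
  obtain ⟨w, rfl⟩ := Spec.map_surjective f'
  rw [← Spec.map_comp] at h1
  have h3 := Spec.map_injective h1
  refine ⟨{ w.hom with commutes' := fun r => ?_ }, ?_⟩
  · exact congrArg (fun m => m.hom r) h3
  · have h4 := congrArg PrimeSpectrum.asIdeal h2
    rw [← h4, RingHom.ker_eq_comap_bot]
    change Ideal.comap w.hom ⊥ = Ideal.comap w.hom (maximalIdeal Ω)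
    rw [IsLocalRing.maximalIdeal_eq_bot]

/-- over a henselian local ring with separably closed residue field. -/
theorem exists_chi_of_isSepClosed [Algebra.Etale R S] {T : Type u} [CommRing T] [IsLocalRing T]
    [Algebra R T] [IsSepClosed (ResidueField T)] (q : Ideal S) [hq' : q.IsPrime]
    (hq : q.comap (algebraMap R S) = (maximalIdeal T).comap (algebraMap R T)) :
    ∃ χ : S →ₐ[R] ResidueField T, RingHom.ker χ.toRingHom = q := by
  haveI : Etale (Spec.map (CommRingCat.ofHom (algebraMap R S))) := by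
    rw [HasRingHomProperty.Spec_iff (P := @Etale)]
    exact RingHom.etale_algebraMap.2 inferInstance
  have hf : (Spec.map (CommRingCat.ofHom (algebraMap R (ResidueField T))))
      (IsLocalRing.closedPoint (ResidueField T)) =
      (Spec.map (CommRingCat.ofHom (algebraMap R S))) (⟨q, hq'⟩ : PrimeSpectrum S) := by
    apply PrimeSpectrum.ext
    change Ideal.comap (algebraMap R (ResidueField T)) (maximalIdeal (ResidueField T)) =
      Ideal.comap (algebraMap R S) q
    rw [hq, IsLocalRing.maximalIdeal_eq_bot, IsScalarTower.algebraMap_eq R T (ResidueField T),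
      ← Ideal.comap_comap, ← RingHom.ker_eq_comap_bot]
    congr 1
    exact IsLocalRing.ker_residue
  obtain ⟨f', h1, h2⟩ := Groth.Agent.Lib.H9SubmFF.exists_lift_etale_apply
    (Spec.map (CommRingCat.ofHom (algebraMap R S))) (⟨q, hq'⟩ : PrimeSpectrum S)
    (Spec.map (CommRingCat.ofHom (algebraMap R (ResidueField T)))) hf
  exact exists_chi_of_lift (⟨q, hq'⟩ : PrimeSpectrum S) f' h1 h2

end Chi

/-- core of the upper bound: an étale chart with a residue-field valued point through `u`. -/
theorem encard_components_le_core {U : Scheme.{u}} (u : U) {V : U.Opens} (hV : IsAffineOpen V)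
    (hu : u ∈ V) (R T : Type u) [CommRing R] [CommRing T] [Algebra R Γ(U, V)]
    [Algebra.Etale R Γ(U, V)] [Algebra R T] [Module.Flat R T] [HenselianLocalRing T]
    (χ : Γ(U, V) →ₐ[R] ResidueField T)
    (hχ : RingHom.ker χ.toRingHom = (hV.primeIdealOf ⟨u, hu⟩).asIdeal) :
    {Z : Set U | Z ∈ irreducibleComponents U ∧ u ∈ Z}.encard ≤ (minimalPrimes T).encard := by
  obtain ⟨θ, hθ⟩ := Groth.Agent.Lib.H5bBranchRing.exists_algHom_of_ker χ
  have hfl := Groth.Agent.Lib.H5bBranchRing.flat_of_etale θ
  letI : Algebra Γ(U, V) T := θ.toRingHom.toAlgebra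
  haveI : Module.Flat Γ(U, V) T := hfl
  have h1 := Groth.Agent.Lib.H5bBranchRing.encard_le (S := Γ(U, V)) (T := T)
    (hV.primeIdealOf ⟨u, hu⟩).asIdeal (hθ.trans hχ)
  exact (encard_components_le u hV hu).trans h1


/-- the comap of the maximal ideal of a local algebra over the stalk to an affine open is the
prime of the point. -/
theorem comap_maximalIdeal_stalk {X : Scheme.{u}} {x : X} {W : X.Opens} (hW : IsAffineOpen W)
    (hxW : x ∈ W) (T : Type u) [CommRing T] [IsLocalRing T] [Algebra (X.presheaf.stalk x) T]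
    [IsLocalHom (algebraMap (X.presheaf.stalk x) T)] :
    (maximalIdeal T).comap ((algebraMap (X.presheaf.stalk x) T).comp
      (X.presheaf.germ W x hxW).hom) = (hW.primeIdealOf ⟨x, hxW⟩).asIdeal := by
  letI algRA : Algebra Γ(X, W) (X.presheaf.stalk x) := (X.presheaf.germ W x hxW).hom.toAlgebra
  haveI hloc : IsLocalization.AtPrime (X.presheaf.stalk x) (hW.primeIdealOf ⟨x, hxW⟩).asIdeal :=
    hW.isLocalization_stalk ⟨x, hxW⟩
  rw [← Ideal.comap_comap, IsLocalRing.maximalIdeal_comap]
  exact IsLocalization.AtPrime.comap_maximalIdeal (X.presheaf.stalk x)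
    (hW.primeIdealOf ⟨x, hxW⟩).asIdeal

/-- **upper bound, geometric case**: through a point of an étale neighbourhood there pass at most
as many irreducible components as a strict henselization of the local ring of the image point has
minimal primes. -/
theorem encard_components_le_of_etale {U X : Scheme.{u}} (g : U ⟶ X) [Etale g] (u : U)
    (T : Type u) [CommRing T] [IsLocalRing T] [Algebra (X.presheaf.stalk (g u)) T]
    [IsLocalHom (algebraMap (X.presheaf.stalk (g u)) T)]
    [hT : Hensel.IsStrictHenselization (X.presheaf.stalk (g u)) T] :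
    {Z : Set U | Z ∈ irreducibleComponents U ∧ u ∈ Z}.encard ≤ (minimalPrimes T).encard := by
  obtain ⟨W, hW, hxW, -⟩ :=
    exists_isAffineOpen_mem_and_subset (X := X) (x := g u) (U := ⊤) trivial
  obtain ⟨V, hV, huV, hVW⟩ :=
    exists_isAffineOpen_mem_and_subset (X := U) (x := u) (U := g ⁻¹ᵁ W) hxW
  letI algRS : Algebra Γ(X, W) Γ(U, V) := (g.appLE W V hVW).hom.toAlgebra
  haveI : Algebra.Etale Γ(X, W) Γ(U, V) :=
    HasRingHomProperty.appLE @Etale g inferInstance ⟨W, hW⟩ ⟨V, hV⟩ hVW
  letI algRA : Algebra Γ(X, W) (X.presheaf.stalk (g u)) :=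
    (X.presheaf.germ W (g u) hxW).hom.toAlgebra
  haveI hloc : IsLocalization.AtPrime (X.presheaf.stalk (g u))
      (hW.primeIdealOf ⟨g u, hxW⟩).asIdeal := hW.isLocalization_stalk ⟨g u, hxW⟩
  letI algRT : Algebra Γ(X, W) T := ((algebraMap (X.presheaf.stalk (g u)) T).comp
    (algebraMap Γ(X, W) (X.presheaf.stalk (g u)))).toAlgebra
  haveI : IsScalarTower Γ(X, W) (X.presheaf.stalk (g u)) T :=
    IsScalarTower.of_algebraMap_eq (fun _ => rfl)
  haveI : Module.Flat Γ(X, W) (X.presheaf.stalk (g u)) :=
    IsLocalization.flat _ (hW.primeIdealOf ⟨g u, hxW⟩).asIdeal.primeCompl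
  haveI : Module.FaithfullyFlat (X.presheaf.stalk (g u)) T := Groth.Agent.S0539.result _ T
  haveI : Module.Flat Γ(X, W) T := Module.Flat.trans Γ(X, W) (X.presheaf.stalk (g u)) T
  haveI : HenselianLocalRing T := hT.henselian
  haveI : IsSepClosed (ResidueField T) := hT.isSepClosure.sep_closed
  have hq : (hV.primeIdealOf ⟨u, huV⟩).asIdeal.comap (algebraMap Γ(X, W) Γ(U, V)) =
      (maximalIdeal T).comap (algebraMap Γ(X, W) T) := by
    have h1 := congrArg PrimeSpectrum.asIdeal
      (IsAffineOpen.comap_primeIdealOf_appLE (f := g) W hW V hV hVW huV)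
    have h2 := comap_maximalIdeal_stalk hW hxW T
    exact h1.trans h2.symm
  obtain ⟨χ, hχ⟩ := exists_chi_of_isSepClosed (R := Γ(X, W)) (S := Γ(U, V)) (T := T)
    (hV.primeIdealOf ⟨u, huV⟩).asIdeal hq
  exact encard_components_le_core u hV huV Γ(X, W) T χ hχ


/-- core of the lower bound: an étale algebra over an affine open neighbourhood mapping to a
local flat algebra over the stalk and separating `n` minimal primes gives an étale neighbourhood
with at least `n` irreducible components through the point. -/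
theorem exists_etale_nbhd_core {X : Scheme.{u}} (x : X) {W : X.Opens} (hW : IsAffineOpen W)
    (hxW : x ∈ W) (T : Type u) [CommRing T] [IsLocalRing T] [Algebra (X.presheaf.stalk x) T]
    [IsLocalHom (algebraMap (X.presheaf.stalk x) T)] [Module.Flat (X.presheaf.stalk x) T]
    (E : Type u) [CommRing E] [Algebra Γ(X, W) E] [Algebra.Etale Γ(X, W) E]
    (θ : E →+* T)
    (hθ : θ.comp (algebraMap Γ(X, W) E) =
      (algebraMap (X.presheaf.stalk x) T).comp (X.presheaf.germ W x hxW).hom)
    (t : Set (Ideal T)) (ht : t ⊆ minimalPrimes T)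
    (hinj : Set.InjOn (fun P : Ideal T => P.comap θ) t) :
    ∃ (U : Scheme.{u}) (g : U ⟶ X) (u : U), Etale g ∧ g u = x ∧
      (Function.Surjective (IsLocalRing.ResidueField.map (algebraMap (X.presheaf.stalk x) T)) →
        Function.Bijective (g.residueFieldMap u)) ∧
      t.encard ≤ {Z : Set U | Z ∈ irreducibleComponents U ∧ u ∈ Z}.encard := by
  letI algRA : Algebra Γ(X, W) (X.presheaf.stalk x) := (X.presheaf.germ W x hxW).hom.toAlgebra
  haveI hloc : IsLocalization.AtPrime (X.presheaf.stalk x)
      (hW.primeIdealOf ⟨x, hxW⟩).asIdeal := hW.isLocalization_stalk ⟨x, hxW⟩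
  letI algRT : Algebra Γ(X, W) T := ((algebraMap (X.presheaf.stalk x) T).comp
    (algebraMap Γ(X, W) (X.presheaf.stalk x))).toAlgebra
  haveI : IsScalarTower Γ(X, W) (X.presheaf.stalk x) T :=
    IsScalarTower.of_algebraMap_eq (fun _ => rfl)
  haveI : Module.Flat Γ(X, W) (X.presheaf.stalk x) :=
    IsLocalization.flat _ (hW.primeIdealOf ⟨x, hxW⟩).asIdeal.primeCompl
  haveI : Module.Flat Γ(X, W) T := Module.Flat.trans Γ(X, W) (X.presheaf.stalk x) T
  let θa : E →ₐ[Γ(X, W)] T := { θ with commutes' := fun r => congrArg (fun m => m r) hθ }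
  have hfl := Groth.Agent.Lib.H5bBranchRing.flat_of_etale θa
  letI algET : Algebra E T := θ.toAlgebra
  haveI : Module.Flat E T := hfl
  let q : PrimeSpectrum E := ⟨(maximalIdeal T).comap θ, inferInstance⟩
  let g : Spec (CommRingCat.of E) ⟶ X :=
    Spec.map (CommRingCat.ofHom (algebraMap Γ(X, W) E)) ≫ hW.fromSpec
  haveI : Etale (Spec.map (CommRingCat.ofHom (algebraMap Γ(X, W) E))) := by
    rw [HasRingHomProperty.Spec_iff (P := @Etale)]
    exact RingHom.etale_algebraMap.2 inferInstance
  have h0 : Ideal.comap (algebraMap Γ(X, W) E) (Ideal.comap θ (maximalIdeal T)) =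
      (hW.primeIdealOf ⟨x, hxW⟩).asIdeal := by
    rw [Ideal.comap_comap, hθ]
    exact comap_maximalIdeal_stalk hW hxW T
  have h1 : (Spec.map (CommRingCat.ofHom (algebraMap Γ(X, W) E))) q =
      hW.primeIdealOf ⟨x, hxW⟩ := by
    apply PrimeSpectrum.ext
    exact h0
  refine ⟨Spec (CommRingCat.of E), g, q, inferInstance, ?_, ?_, ?_⟩
  · show hW.fromSpec ((Spec.map (CommRingCat.ofHom (algebraMap Γ(X, W) E))) q) = x
    rw [h1]
    exact hW.fromSpec_primeIdealOf ⟨x, hxW⟩
  · intro hres
    refine Groth.Agent.Lib.Helper20.ResFld.bijective_residueFieldMap_comp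
      (Spec.map (CommRingCat.ofHom (algebraMap Γ(X, W) E))) hW.fromSpec q ?_
      (Groth.Agent.Lib.Helper20.ResFld.bijective_residueFieldMap_of_isOpenImmersion _ _)
    refine Groth.Agent.Lib.Helper20.ResFld.bijective_residueFieldMap_SpecMap
      (CommRingCat.ofHom (algebraMap Γ(X, W) E)) q (hW.primeIdealOf ⟨x, hxW⟩).asIdeal h0.symm ?_
    exact Groth.Agent.Lib.H5bBranchRes.residueField_map_bijective
      (R := Γ(X, W)) (E := E) (A := X.presheaf.stalk x) (T := T)
      (hW.primeIdealOf ⟨x, hxW⟩).asIdeal θ hθ hres q.asIdeal rfl h0.symm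
  · refine Set.encard_le_encard_of_injOn
      (f := fun P : Ideal T => (PrimeSpectrum.zeroLocus (P.comap θ : Set E) :
        Set (PrimeSpectrum E))) ?_ ?_
    · intro P hP
      have hPmin := ht hP
      haveI : P.IsPrime := hPmin.1.1
      have hmin : P.comap (algebraMap E T) ∈ minimalPrimes E :=
        Groth.Agent.Lib.H5bBranchRing.comap_mem_minimalPrimes hPmin
      refine ⟨?_, ?_⟩
      · have := (PrimeSpectrum.zeroLocus_ideal_mem_irreducibleComponents
          (I := P.comap (algebraMap E T))).2 (by rwa [Ideal.IsPrime.radical inferInstance])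
        exact this
      · show q ∈ PrimeSpectrum.zeroLocus (P.comap θ : Set E)
        rw [PrimeSpectrum.mem_zeroLocus]
        exact Ideal.comap_mono (IsLocalRing.le_maximalIdeal (Ideal.IsPrime.ne_top inferInstance))
    · intro P hP P' hP' heq
      haveI : P.IsPrime := (ht hP).1.1
      haveI : P'.IsPrime := (ht hP').1.1
      apply hinj hP hP'
      have h1 : (P.comap θ).radical = (P'.comap θ).radical :=
        (PrimeSpectrum.zeroLocus_eq_iff).1 heq
      rwa [Ideal.IsPrime.radical inferInstance, Ideal.IsPrime.radical inferInstance] at h1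

/-- a residue-field valued point through `u` when the residue field extension at `u` is
trivial. -/
theorem exists_chi_of_residue_bijective {U X : Scheme.{u}} (g : U ⟶ X) (u : U)
    (hbij : Function.Bijective (g.residueFieldMap u))
    {W : X.Opens} (hxW : g u ∈ W) {V : U.Opens} (hV : IsAffineOpen V)
    (huV : u ∈ V) (hVW : V ≤ g ⁻¹ᵁ W)
    (T : Type u) [CommRing T] [IsLocalRing T] [Algebra (X.presheaf.stalk (g u)) T]
    [IsLocalHom (algebraMap (X.presheaf.stalk (g u)) T)] :
    ∃ χ : Γ(U, V) →+* ResidueField T,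
      χ.comp (g.appLE W V hVW).hom = (residue T).comp
        ((algebraMap (X.presheaf.stalk (g u)) T).comp (X.presheaf.germ W (g u) hxW).hom) ∧
      RingHom.ker χ = (hV.primeIdealOf ⟨u, huV⟩).asIdeal := by
  let e : X.residueField (g u) ≃+* U.residueField u :=
    RingEquiv.ofBijective (g.residueFieldMap u).hom hbij
  let κmap : X.residueField (g u) →+* ResidueField T :=
    IsLocalRing.ResidueField.map (algebraMap (X.presheaf.stalk (g u)) T)
  let ρ : Γ(U, V) →+* U.residueField u :=
    (U.residue u).hom.comp (U.presheaf.germ V u huV).hom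
  refine ⟨κmap.comp (e.symm.toRingHom.comp ρ), ?_, ?_⟩
  · ext r
    show κmap (e.symm ((U.residue u).hom ((U.presheaf.germ V u huV).hom
      ((g.appLE W V hVW).hom r)))) =
      residue T (algebraMap _ T ((X.presheaf.germ W (g u) hxW).hom r))
    have h1 : (U.presheaf.germ V u huV).hom ((g.appLE W V hVW).hom r) =
        (g.stalkMap u).hom ((X.presheaf.germ W (g u) hxW).hom r) := by
      have := Scheme.Hom.germ_stalkMap_apply g W u hxW r
      rw [this]
      simp only [Scheme.Hom.appLE, homOfLE_leOfHom, CommRingCat.hom_comp, RingHom.coe_comp,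
        Function.comp_apply, U.presheaf.germ_res_apply]
    have h2 : ∀ y, (U.residue u).hom ((g.stalkMap u).hom y) =
        (g.residueFieldMap u).hom ((X.residue (g u)).hom y) := fun y =>
      (congrArg (fun m => m.hom y) (Scheme.residue_residueFieldMap g u)).symm
    rw [h1, h2]
    have h3 : e.symm ((g.residueFieldMap u).hom
        ((X.residue (g u)).hom ((X.presheaf.germ W (g u) hxW).hom r))) =
        (X.residue (g u)).hom ((X.presheaf.germ W (g u) hxW).hom r) := by
      have hez : ∀ z, (g.residueFieldMap u).hom z = e z := fun z => rfl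
      rw [hez, e.symm_apply_apply]
    rw [h3]
    exact IsLocalRing.ResidueField.map_residue _ _
  · haveI : IsLocalHom (algebraMap (U.presheaf.stalk u) (U.presheaf.stalk u)) := ⟨fun a h => h⟩
    have hk := comap_maximalIdeal_stalk hV huV (U.presheaf.stalk u)
    ext a
    rw [RingHom.mem_ker, ← hk, Ideal.mem_comap]
    show κmap (e.symm (ρ a)) = 0 ↔ (U.presheaf.germ V u huV).hom a ∈ maximalIdeal _
    rw [map_eq_zero_iff _ κmap.injective, map_eq_zero_iff _ e.symm.injective]
    show residue _ ((U.presheaf.germ V u huV).hom a) = 0 ↔ _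
    exact IsLocalRing.residue_eq_zero_iff _

/-- **upper bound, elementary case**: through a point of an elementary étale neighbourhood there
pass at most as many irreducible components as a flat henselian local algebra over the local ring of
the image point has minimal primes. -/
theorem encard_components_le_of_nbhd {U X : Scheme.{u}} (g : U ⟶ X) [Etale g] (u : U)
    (hbij : Function.Bijective (g.residueFieldMap u))
    (T : Type u) [CommRing T] [HenselianLocalRing T] [Algebra (X.presheaf.stalk (g u)) T]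
    [IsLocalHom (algebraMap (X.presheaf.stalk (g u)) T)]
    [Module.Flat (X.presheaf.stalk (g u)) T] :
    {Z : Set U | Z ∈ irreducibleComponents U ∧ u ∈ Z}.encard ≤ (minimalPrimes T).encard := by
  obtain ⟨W, hW, hxW, -⟩ :=
    exists_isAffineOpen_mem_and_subset (X := X) (x := g u) (U := ⊤) trivial
  obtain ⟨V, hV, huV, hVW⟩ :=
    exists_isAffineOpen_mem_and_subset (X := U) (x := u) (U := g ⁻¹ᵁ W) hxW
  letI algRS : Algebra Γ(X, W) Γ(U, V) := (g.appLE W V hVW).hom.toAlgebra
  haveI : Algebra.Etale Γ(X, W) Γ(U, V) :=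
    HasRingHomProperty.appLE @Etale g inferInstance ⟨W, hW⟩ ⟨V, hV⟩ hVW
  letI algRA : Algebra Γ(X, W) (X.presheaf.stalk (g u)) :=
    (X.presheaf.germ W (g u) hxW).hom.toAlgebra
  haveI hloc : IsLocalization.AtPrime (X.presheaf.stalk (g u))
      (hW.primeIdealOf ⟨g u, hxW⟩).asIdeal := hW.isLocalization_stalk ⟨g u, hxW⟩
  letI algRT : Algebra Γ(X, W) T := ((algebraMap (X.presheaf.stalk (g u)) T).comp
    (algebraMap Γ(X, W) (X.presheaf.stalk (g u)))).toAlgebra
  haveI : IsScalarTower Γ(X, W) (X.presheaf.stalk (g u)) T :=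
    IsScalarTower.of_algebraMap_eq (fun _ => rfl)
  haveI : Module.Flat Γ(X, W) (X.presheaf.stalk (g u)) :=
    IsLocalization.flat _ (hW.primeIdealOf ⟨g u, hxW⟩).asIdeal.primeCompl
  haveI : Module.Flat Γ(X, W) T := Module.Flat.trans Γ(X, W) (X.presheaf.stalk (g u)) T
  obtain ⟨χ, hχ1, hχ2⟩ := exists_chi_of_residue_bijective g u hbij hxW hV huV hVW T
  let χa : Γ(U, V) →ₐ[Γ(X, W)] ResidueField T :=
    { χ with
      commutes' := fun r => by
        have := congrArg (fun m => m r) hχ1
        rw [IsScalarTower.algebraMap_apply Γ(X, W) T (ResidueField T)]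
        exact this }
  exact encard_components_le_core u hV huV Γ(X, W) T χa hχ2

/-- **lower bound**: if a flat ind-étale local algebra `T` over the local ring at `x` has at least
`n` minimal primes, some étale neighbourhood of `x` has at least `n` irreducible components through
the marked point; it is elementary when `T` has the same residue field. -/
theorem exists_etale_nbhd_of_le {X : Scheme.{u}} (x : X) (T : Type u) [CommRing T]
    [IsLocalRing T] [Algebra (X.presheaf.stalk x) T]
    [IsLocalHom (algebraMap (X.presheaf.stalk x) T)]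
    [Module.Flat (X.presheaf.stalk x) T] (hind : EtPBC.IsIndEtale (X.presheaf.stalk x) T)
    (n : ℕ) (hn : (n : ℕ∞) ≤ (minimalPrimes T).encard) :
    ∃ (U : Scheme.{u}) (g : U ⟶ X) (u : U), Etale g ∧ g u = x ∧
      (Function.Surjective (IsLocalRing.ResidueField.map (algebraMap (X.presheaf.stalk x) T)) →
        Function.Bijective (g.residueFieldMap u)) ∧
      (n : ℕ∞) ≤ {Z : Set U | Z ∈ irreducibleComponents U ∧ u ∈ Z}.encard := by
  classical
  obtain ⟨W, hW, hxW, -⟩ :=
    exists_isAffineOpen_mem_and_subset (X := X) (x := x) (U := ⊤) trivial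
  letI algRA : Algebra Γ(X, W) (X.presheaf.stalk x) := (X.presheaf.germ W x hxW).hom.toAlgebra
  haveI hloc : IsLocalization.AtPrime (X.presheaf.stalk x)
      (hW.primeIdealOf ⟨x, hxW⟩).asIdeal := hW.isLocalization_stalk ⟨x, hxW⟩
  letI algRT : Algebra Γ(X, W) T := ((algebraMap (X.presheaf.stalk x) T).comp
    (algebraMap Γ(X, W) (X.presheaf.stalk x))).toAlgebra
  haveI : IsScalarTower Γ(X, W) (X.presheaf.stalk x) T :=
    IsScalarTower.of_algebraMap_eq (fun _ => rfl)
  have hind' : EtPBC.IsIndEtale Γ(X, W) T :=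
    Groth.Agent.Lib.Helper3.IndEt.isIndEtale_comp Γ(X, W) (X.presheaf.stalk x) T
      (Groth.Agent.Lib.H5bBranchRing.isIndEtale_of_isLocalization
        (hW.primeIdealOf ⟨x, hxW⟩).asIdeal.primeCompl) hind
  obtain ⟨t, ht, htn⟩ := Set.exists_subset_encard_eq hn
  have htfin : t.Finite := Set.finite_of_encard_eq_coe htn
  obtain ⟨E, _, _, _, θ, hinj⟩ := Groth.Agent.Lib.H5bBranchRing.exists_etale_separating
    Γ(X, W) T hind' htfin.toFinset (fun P hP => ht (htfin.mem_toFinset.1 hP))
  rw [htfin.coe_toFinset] at hinj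
  obtain ⟨U, g, u, h1, h2, h3, h4⟩ := exists_etale_nbhd_core x hW hxW T E θ.toRingHom
    (by ext r; exact θ.commutes r) t ht hinj
  exact ⟨U, g, u, h1, h2, h3, htn ▸ h4⟩

end Groth.Agent.Lib.H5bBranchSch
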