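import Mathlib
import Groth.Prelude.Def_Brnch
import Groth.Prelude.Def_Hens2
import Groth.Agent.Lib.H5bBranchSch
import Groth.Agent.Lib.Helper3Branch
import Groth.Agent.Lib.Helper3HzP
import Groth.Agent.Lib.Helper3HzD
import Groth.Agent.S0508
import Groth.Agent.S9235
import Groth.Agent.S9236
import Groth.Agent.S9237
import Groth.Agent.S9238

/-!
# Branches of a scheme at a point via étale neighbourhoods (helper5)
-/

set_option autoImplicit false
set_option linter.style.haveILetI false
universe u

namespace Groth.Agent.Lib.H5bBranchMain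

open AlgebraicGeometry CategoryTheory IsLocalRing TopologicalSpace Groth.Agent.Lib.H5bBranchSch

theorem exists_isHenselization (R : Type u) [CommRing R] [IsLocalRing R] :
    ∃ (S : Type u) (_ : CommRing S) (_ : IsLocalRing S) (_ : Algebra R S)
      (_ : IsLocalHom (algebraMap R S)), Hensel.IsHenselization R S :=
  ⟨Groth.Agent.Lib.Helper3.Hz.Rh R, inferInstance, inferInstance, inferInstance, inferInstance,
    inferInstance⟩

theorem one_le_encard_components {U : Scheme.{u}} (u : U) :
    1 ≤ {Z : Set U | Z ∈ irreducibleComponents U ∧ u ∈ Z}.encard := by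
  rw [Set.one_le_encard_iff_nonempty]
  exact ⟨irreducibleComponent u, irreducibleComponent_mem_irreducibleComponents u,
    mem_irreducibleComponent⟩

theorem numGeomBranchesAt_eq_iSup (X : Scheme.{u}) (x : X) :
    Brnch.numGeomBranchesAt X x =
      ⨆ (U : Scheme.{u}) (g : U ⟶ X) (u : U) (_ : Etale g ∧ g u = x),
        {Z : Set ↑U | Z ∈ irreducibleComponents ↑U ∧ u ∈ Z}.encard := by
  obtain ⟨T, _, _, _, _, hT⟩ :=
    Groth.Agent.Lib.Helper3.Branch.exists_isStrictHenselization (X.presheaf.stalk x)
  have hcard : (minimalPrimes T).encard = Brnch.numGeomBranchesAt X x :=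
    Groth.Agent.S9238.result (X.presheaf.stalk x) T
  apply le_antisymm
  · rw [← hcard]
    apply ENat.forall_natCast_le_iff_le.1
    intro n hn
    haveI : Module.FaithfullyFlat (X.presheaf.stalk x) T := Groth.Agent.S0539.result _ T
    obtain ⟨U, g, u, h1, h2, -, h4⟩ := exists_etale_nbhd_of_le x T
      (Groth.Agent.Lib.Helper3.IndEt.isIndEtale_of_isStrictHenselization _ T) n hn
    exact h4.trans (le_iSup_of_le U (le_iSup_of_le g (le_iSup_of_le u
      (le_iSup_of_le ⟨h1, h2⟩ le_rfl))))
  · refine iSup_le fun U => iSup_le fun g => iSup_le fun u => iSup_le fun h => ?_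
    obtain ⟨h1, h2⟩ := h
    subst h2
    rw [← hcard]
    exact encard_components_le_of_etale g u T

theorem numBranchesAt_eq_iSup (X : Scheme.{u}) (x : X) :
    Brnch.numBranchesAt X x =
      ⨆ (U : Scheme.{u}) (g : U ⟶ X) (u : U) (_ : Hens2.IsEtaleNbhd g u x),
        {Z : Set ↑U | Z ∈ irreducibleComponents ↑U ∧ u ∈ Z}.encard := by
  obtain ⟨T, _, _, _, _, hT⟩ :=
    exists_isHenselization (X.presheaf.stalk x)
  have hcard : (minimalPrimes T).encard = Brnch.numBranchesAt X x :=
    Groth.Agent.S9237.result (X.presheaf.stalk x) T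
  apply le_antisymm
  · rw [← hcard]
    apply ENat.forall_natCast_le_iff_le.1
    intro n hn
    haveI : Module.FaithfullyFlat (X.presheaf.stalk x) T :=
      Groth.Agent.Lib.Helper3.HzP.hz_faithfullyFlat _ T
    obtain ⟨U, g, u, h1, h2, h3, h4⟩ := exists_etale_nbhd_of_le x T
      (Groth.Agent.Lib.Helper3.IndEt.isIndEtale_of_isHenselization _ T) n hn
    have hbij := h3 (Groth.Agent.S0508.result (X.presheaf.stalk x) T).2
    exact h4.trans (le_iSup_of_le U (le_iSup_of_le g (le_iSup_of_le u
      (le_iSup_of_le ⟨h1, h2, hbij⟩ le_rfl))))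
  · refine iSup_le fun U => iSup_le fun g => iSup_le fun u => iSup_le fun h => ?_
    obtain ⟨h1, h2, h3⟩ := h
    subst h2
    rw [← hcard]
    haveI : Module.FaithfullyFlat (X.presheaf.stalk (g u)) T :=
      Groth.Agent.Lib.Helper3.HzP.hz_faithfullyFlat _ T
    haveI : HenselianLocalRing T := hT.henselian
    exact encard_components_le_of_nbhd g u h3 T

theorem iSup_eq_one_iff {ι : Type*} (f : ι → ℕ∞) (hf : ∀ i, 1 ≤ f i) (i₀ : ι) :
    (⨆ i, f i) = 1 ↔ ∀ i, f i = 1 := by
  constructor
  · intro h i
    exact le_antisymm (h ▸ le_iSup f i) (hf i)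
  · intro h
    exact le_antisymm (iSup_le fun i => (h i).le) ((hf i₀).trans (le_iSup f i₀))

theorem isGeomUnibranch_iff (X : Scheme.{u}) (x : X) :
    CAlg2.IsGeomUnibranch ↑(X.presheaf.stalk x) ↔
      ∀ (U : Scheme.{u}) (g : U ⟶ X) (u : U), Etale g → g u = x →
        {Z : Set ↑U | Z ∈ irreducibleComponents ↑U ∧ u ∈ Z}.encard = 1 := by
  rw [← Groth.Agent.S9236.result]
  have h := numGeomBranchesAt_eq_iSup X x
  change Brnch.numGeomBranchesAt X x = 1 ↔ _
  rw [h]
  constructor
  · intro hs U g u hg hu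
    refine le_antisymm ?_ (one_le_encard_components u)
    rw [← hs]
    exact le_iSup_of_le U (le_iSup_of_le g (le_iSup_of_le u (le_iSup_of_le ⟨hg, hu⟩ le_rfl)))
  · intro hall
    apply le_antisymm
    · refine iSup_le fun U => iSup_le fun g => iSup_le fun u => iSup_le fun h => ?_
      exact (hall U g u h.1 h.2).le
    · refine (one_le_encard_components x).trans ?_
      exact le_iSup_of_le X (le_iSup_of_le (𝟙 X) (le_iSup_of_le x
        (le_iSup_of_le ⟨inferInstance, rfl⟩ le_rfl)))

theorem isUnibranch_iff (X : Scheme.{u}) (x : X) :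
    CAlg2.IsUnibranch ↑(X.presheaf.stalk x) ↔
      ∀ (U : Scheme.{u}) (g : U ⟶ X) (u : U), Hens2.IsEtaleNbhd g u x →
        {Z : Set ↑U | Z ∈ irreducibleComponents ↑U ∧ u ∈ Z}.encard = 1 := by
  rw [← Groth.Agent.S9235.result]
  have h := numBranchesAt_eq_iSup X x
  change Brnch.numBranchesAt X x = 1 ↔ _
  rw [h]
  constructor
  · intro hs U g u hg
    refine le_antisymm ?_ (one_le_encard_components u)
    rw [← hs]
    exact le_iSup_of_le U (le_iSup_of_le g (le_iSup_of_le u (le_iSup_of_le hg le_rfl)))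
  · intro hall
    apply le_antisymm
    · refine iSup_le fun U => iSup_le fun g => iSup_le fun u => iSup_le fun h => ?_
      exact (hall U g u h).le
    · refine (one_le_encard_components x).trans ?_
      have hid : Hens2.IsEtaleNbhd (𝟙 X) x x := by
        refine ⟨inferInstance, rfl, ?_⟩
        rw [Scheme.residueFieldMap_id]
        exact Function.bijective_id
      exact le_iSup_of_le X (le_iSup_of_le (𝟙 X) (le_iSup_of_le x
        (le_iSup_of_le hid le_rfl)))

end Groth.Agent.Lib.H5bBranchMain
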