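import Mathlib
import Groth.Agent.S19569
import Groth.Agent.S9436

/-! Lifting étale algebras from a localization of a quotient (in particular from a fibre ring `A ⊗ κ(p)`) to étale algebras over `A`, as cartesian squares of spectra; built on S19569 and S9436 (helper9). -/

set_option autoImplicit false
set_option linter.unusedVariables false
set_option linter.unusedSectionVars false
set_option linter.style.haveILetI false

open CategoryTheory CategoryTheory.Limits AlgebraicGeometry TensorProduct

universe u

namespace Groth.Agent.Lib.H9EtFibLift1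

section Idx

variable {B : Type u} [CommRing B]

/-- index type of the directed system of principal localizations inside a localization -/
structure Idx (M : Submonoid B) : Type u where
  val : B
  mem : val ∈ M

variable (M : Submonoid B)

instance : Preorder (Idx M) where
  le a b := a.val ∣ b.val
  le_refl a := dvd_refl _
  le_trans a b c := dvd_trans

instance : IsDirected (Idx M) (· ≤ ·) :=
  ⟨fun a b => ⟨⟨a.val * b.val, M.mul_mem a.mem b.mem⟩, Dvd.intro _ rfl, Dvd.intro_left _ rfl⟩⟩

instance : Nonempty (Idx M) := ⟨⟨1, M.one_mem⟩⟩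

theorem isUnit_of_le {i j : Idx M} (h : i ≤ j) :
    IsUnit (algebraMap B (Localization.Away j.val) i.val) := by
  obtain ⟨c, hc⟩ := h
  have h1 : IsUnit (algebraMap B (Localization.Away j.val) j.val) :=
    IsLocalization.Away.algebraMap_isUnit j.val
  have h2 : algebraMap B (Localization.Away j.val) j.val =
      algebraMap B (Localization.Away j.val) i.val * algebraMap B (Localization.Away j.val) c :=
    (congrArg (algebraMap B (Localization.Away j.val)) hc).trans (map_mul _ _ _)
  rw [h2] at h1
  exact isUnit_of_mul_isUnit_left h1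

/-- transition maps -/
noncomputable def tr {i j : Idx M} (h : i ≤ j) :
    Localization.Away i.val →+* Localization.Away j.val :=
  IsLocalization.Away.lift i.val (g := algebraMap B (Localization.Away j.val)) (isUnit_of_le M h)

theorem tr_algebraMap {i j : Idx M} (h : i ≤ j) (b : B) :
    tr M h (algebraMap B _ b) = algebraMap B _ b :=
  IsLocalization.Away.lift_eq _ _ _

variable (F : Type u) [CommRing F] [Algebra B F] [IsLocalization M F]

/-- the maps to the localization -/
noncomputable def toF (i : Idx M) : Localization.Away i.val →+* F :=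
  IsLocalization.Away.lift i.val (g := algebraMap B F) (IsLocalization.map_units F ⟨i.val, i.mem⟩)

theorem toF_algebraMap (i : Idx M) (b : B) :
    toF M F i (algebraMap B _ b) = algebraMap B F b :=
  IsLocalization.Away.lift_eq _ _ _

theorem toF_comp_algebraMap (i : Idx M) :
    (toF M F i).comp (algebraMap B (Localization.Away i.val)) = algebraMap B F :=
  RingHom.ext (toF_algebraMap M F i)

theorem toF_comp_tr {i j : Idx M} (h : i ≤ j) : (toF M F j).comp (tr M h) = toF M F i := by
  apply IsLocalization.ringHom_ext (Submonoid.powers i.val)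
  ext b
  simp only [RingHom.comp_apply, tr_algebraMap, toF_algebraMap]

theorem toF_surj (a : F) : ∃ (i : Idx M) (x : Localization.Away i.val), toF M F i x = a := by
  obtain ⟨b, m, rfl⟩ := IsLocalization.exists_mk'_eq M a
  refine ⟨⟨m.1, m.2⟩, IsLocalization.mk' (Localization.Away m.1) b
    (⟨m.1, 1, pow_one _⟩ : Submonoid.powers m.1), ?_⟩
  have hu : IsUnit (algebraMap B F m.1) := IsLocalization.map_units F m
  apply hu.mul_left_cancel
  have h1 : algebraMap B F m.1 = toF M F ⟨m.1, m.2⟩ (algebraMap B _ m.1) :=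
    (toF_algebraMap M F _ _).symm
  rw [IsLocalization.mk'_spec', h1, ← map_mul]
  have h2 : algebraMap B (Localization.Away m.1) m.1 *
      IsLocalization.mk' (Localization.Away m.1) b (⟨m.1, 1, pow_one _⟩ : Submonoid.powers m.1) =
      algebraMap B _ b :=
    IsLocalization.mk'_spec' (Localization.Away m.1) b (⟨m.1, 1, pow_one _⟩ : Submonoid.powers m.1)
  rw [h2, toF_algebraMap]

theorem toF_ker (i : Idx M) (x : Localization.Away i.val) (hx : toF M F i x = 0) :
    ∃ (j : Idx M) (h : i ≤ j), tr M h x = 0 := by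
  obtain ⟨b, s, rfl⟩ := IsLocalization.exists_mk'_eq (Submonoid.powers i.val) x
  have h1 : IsLocalization.mk' (Localization.Away i.val) b s * algebraMap B _ s.1 =
      algebraMap B _ b := IsLocalization.mk'_spec _ _ _
  have h2 : algebraMap B F b = 0 := by
    have := congrArg (toF M F i) h1
    rw [map_mul, hx, zero_mul, toF_algebraMap] at this
    exact this.symm
  obtain ⟨c, hc⟩ := (IsLocalization.map_eq_zero_iff M F b).mp h2
  let j : Idx M := ⟨i.val * c.1, M.mul_mem i.mem c.2⟩
  have hij : i ≤ j := Dvd.intro _ rfl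
  refine ⟨j, hij, ?_⟩
  have h3 : algebraMap B (Localization.Away j.val) b = 0 := by
    rw [IsLocalization.map_eq_zero_iff (Submonoid.powers j.val)]
    refine ⟨⟨j.val, 1, pow_one _⟩, ?_⟩
    show i.val * c.1 * b = 0
    rw [mul_assoc, hc, mul_zero]
  have h4 := congrArg (tr M hij) h1
  rw [map_mul, tr_algebraMap, tr_algebraMap, h3] at h4
  have hu : IsUnit (algebraMap B (Localization.Away j.val) s.1) := by
    obtain ⟨n, hn⟩ := s.2
    rw [← hn, map_pow]
    exact (isUnit_of_le M hij).pow n
  exact (hu.mul_left_eq_zero).mp h4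

end Idx

/-- étale algebras over a localization descend to a principal localization. -/
theorem descend_localization (B : Type u) [CommRing B] (M : Submonoid B) (F : Type u) [CommRing F]
    [Algebra B F] [IsLocalization M F] (C₀ : Type u) [CommRing C₀] [Algebra F C₀]
    [Algebra.Etale F C₀] :
    ∃ (i : Idx M) (Bi : Type u) (_ : CommRing Bi) (_ : Algebra (Localization.Away i.val) Bi),
      Algebra.Etale (Localization.Away i.val) Bi ∧
      letI : Algebra (Localization.Away i.val) F := (toF M F i).toAlgebra
      Nonempty (C₀ ≃ₐ[F] F ⊗[Localization.Away i.val] Bi) :=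
  Groth.Agent.S19569.result (ι := Idx M) (fun i => Localization.Away i.val)
    (fun i j h => tr M h) F (fun i => toF M F i) (fun i j h => toF_comp_tr M F h)
    (toF_surj M F) (toF_ker M F) C₀

open CommRingCat in
/-- **Lifting étale algebras from a localization of a quotient.**  If `A → B` is surjective and
`F` is a localization of `B`, every étale `F`-algebra `C₀` is the base change of an étale
`A`-algebra (as a cartesian square of spectra). -/
theorem exists_etale_lift (A B F C₀ : Type u) [CommRing A] [CommRing B] [CommRing F] [CommRing C₀]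
    (φ : A →+* B) (hφ : Function.Surjective φ) [Algebra B F] (M : Submonoid B) [IsLocalization M F]
    [Algebra F C₀] [Algebra.Etale F C₀] :
    ∃ (C : Type u) (_ : CommRing C) (ψ : A →+* C) (χ : C →+* C₀), ψ.Etale ∧
      IsPullback (Spec.map (CommRingCat.ofHom χ)) (Spec.map (CommRingCat.ofHom (algebraMap F C₀)))
        (Spec.map (CommRingCat.ofHom ψ))
        (Spec.map (CommRingCat.ofHom ((algebraMap B F).comp φ))) := by
  obtain ⟨i, Bi, _, _, hBi, he⟩ := descend_localization B M F C₀
  letI : Algebra (Localization.Away i.val) F := (toF M F i).toAlgebra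
  obtain ⟨e⟩ := he
  let lam : B →+* Localization.Away i.val := algebraMap B (Localization.Away i.val)
  let gam : Localization.Away i.val →+* F := toF M F i
  let bet : Localization.Away i.val →+* Bi := algebraMap (Localization.Away i.val) Bi
  let sig : Bi →+* C₀ := (e.symm.toRingEquiv.toRingHom).comp
    (Algebra.TensorProduct.includeRight (R := Localization.Away i.val) (A := F) (B := Bi)).toRingHom
  have sqb0 := CommRingCat.isPushout_tensorProduct (Localization.Away i.val) F Bi
  have sqb1 : IsPushout (ofHom gam) (ofHom bet) (ofHom (algebraMap F C₀)) (ofHom sig) :=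
    sqb0.of_iso (Iso.refl _) (Iso.refl _) (Iso.refl _) (e.symm.toRingEquiv.toCommRingCatIso)
      (by simp) (by simp)
      (by
        ext x
        show e.symm (x ⊗ₜ 1) = algebraMap F C₀ x
        have : (x ⊗ₜ[Localization.Away i.val] (1 : Bi)) = algebraMap F _ x := rfl
        rw [this, AlgEquiv.commutes])
      (by ext x; rfl)
  have pbb : IsPullback (Spec.map (ofHom (algebraMap F C₀))) (Spec.map (ofHom sig))
      (Spec.map (ofHom gam)) (Spec.map (ofHom bet)) :=
    isPullback_SpecMap_of_isPushout _ _ _ _ sqb1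
  haveI : Mono (Spec.map (ofHom lam)) := by
    haveI : IsOpenImmersion (Spec.map (ofHom lam)) :=
      IsOpenImmersion.of_isLocalization i.val
    infer_instance
  have pbc : IsPullback (Spec.map (ofHom (algebraMap F C₀))) (Spec.map (ofHom sig))
      (Spec.map (ofHom gam) ≫ Spec.map (ofHom lam)) (Spec.map (ofHom bet) ≫ Spec.map (ofHom lam)) :=
    IsPullback.of_isLimit
      (PullbackCone.isLimitOfCompMono _ _ (Spec.map (ofHom lam)) _ pbb.isLimit)
  let rho : B →+* Bi := bet.comp lam
  have h1 : Spec.map (ofHom gam) ≫ Spec.map (ofHom lam) = Spec.map (ofHom (algebraMap B F)) := by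
    rw [← Spec.map_comp, ← CommRingCat.ofHom_comp, toF_comp_algebraMap]
  have h2 : Spec.map (ofHom bet) ≫ Spec.map (ofHom lam) = Spec.map (ofHom rho) := by
    rw [← Spec.map_comp, ← CommRingCat.ofHom_comp]
  rw [h1, h2] at pbc
  have hlam : lam.Etale :=
    RingHom.etale_algebraMap.mpr (Algebra.Etale.of_isLocalizationAway i.val)
  have hbet : bet.Etale := RingHom.etale_algebraMap.mpr hBi
  have hrho : rho.Etale := RingHom.Etale.stableUnderComposition _ _ hlam hbet
  let I := RingHom.ker φ
  let eb : A ⧸ I ≃+* B := RingHom.quotientKerEquivOfSurjective hφ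
  let rho' : A ⧸ I →+* Bi := rho.comp eb.toRingHom
  have hrho' : rho'.Etale :=
    RingHom.Etale.stableUnderComposition _ _ (RingHom.Etale.of_bijective eb.bijective) hrho
  letI : Algebra (A ⧸ I) Bi := rho'.toAlgebra
  haveI : Algebra.Etale (A ⧸ I) Bi := RingHom.etale_algebraMap.mp hrho'
  obtain ⟨S, _, _, hS, ⟨eps⟩⟩ := Groth.Agent.S9436.result A I Bi
  let tau : S →+* Bi := (eps.toRingEquiv.toRingHom).comp
    (Algebra.TensorProduct.includeRight (R := A) (A := A ⧸ I) (B := S)).toRingHom
  have sqa0 := CommRingCat.isPushout_tensorProduct A (A ⧸ I) S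
  have sqa1 : IsPushout (ofHom φ) (ofHom (algebraMap A S)) (ofHom rho) (ofHom tau) :=
    sqa0.of_iso (Iso.refl _) (eb.toCommRingCatIso) (Iso.refl _) (eps.toRingEquiv.toCommRingCatIso)
      (by
        ext a
        show eb (Ideal.Quotient.mk I a) = φ a
        exact RingHom.quotientKerEquivOfSurjective_apply_mk hφ a)
      (by simp)
      (by
        ext x
        show eps ((Ideal.Quotient.mk I x) ⊗ₜ 1) = rho (eb (Ideal.Quotient.mk I x))
        have : ((Ideal.Quotient.mk I x) ⊗ₜ[A] (1 : S)) =
            algebraMap (A ⧸ I) ((A ⧸ I) ⊗[A] S) (Ideal.Quotient.mk I x) := rfl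
        rw [this, AlgEquiv.commutes]
        rfl)
      (by ext x; rfl)
  have pba : IsPullback (Spec.map (ofHom rho)) (Spec.map (ofHom tau)) (Spec.map (ofHom φ))
      (Spec.map (ofHom (algebraMap A S))) :=
    isPullback_SpecMap_of_isPushout _ _ _ _ sqa1
  have pb := pbc.paste_vert pba
  refine ⟨S, inferInstance, algebraMap A S, sig.comp tau, RingHom.etale_algebraMap.mpr hS, ?_⟩
  rw [← Spec.map_comp, ← Spec.map_comp, ← CommRingCat.ofHom_comp, ← CommRingCat.ofHom_comp] at pb
  exact pb.flip

open CommRingCat in
/-- **Lifting étale algebras from a fibre ring.** -/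
theorem exists_etale_lift_fibre (R A : Type u) [CommRing R] [CommRing A] [Algebra R A]
    (p : Ideal R) [p.IsPrime] (C₀ : Type u) [CommRing C₀] [Algebra (A ⊗[R] p.ResidueField) C₀]
    [Algebra.Etale (A ⊗[R] p.ResidueField) C₀] :
    ∃ (C : Type u) (_ : CommRing C) (ψ : A →+* C) (χ : C →+* C₀), ψ.Etale ∧
      IsPullback (Spec.map (CommRingCat.ofHom χ))
        (Spec.map (CommRingCat.ofHom (algebraMap (A ⊗[R] p.ResidueField) C₀)))
        (Spec.map (CommRingCat.ofHom ψ))
        (Spec.map (CommRingCat.ofHom (algebraMap A (A ⊗[R] p.ResidueField)))) := by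
  let μ : A ⊗[R] (R ⧸ p) →+* A ⊗[R] p.ResidueField :=
    (Algebra.TensorProduct.map (AlgHom.id R A)
      (IsScalarTower.toAlgHom R (R ⧸ p) p.ResidueField)).toRingHom
  letI : Algebra (A ⊗[R] (R ⧸ p)) (A ⊗[R] p.ResidueField) := μ.toAlgebra
  have htow : algebraMap A (A ⊗[R] p.ResidueField) =
      (algebraMap (A ⊗[R] (R ⧸ p)) (A ⊗[R] p.ResidueField)).comp
        (algebraMap A (A ⊗[R] (R ⧸ p))) := by
    ext a
    show a ⊗ₜ 1 = μ (a ⊗ₜ 1)
    simp [μ]
  haveI : IsScalarTower A (A ⊗[R] (R ⧸ p)) (A ⊗[R] p.ResidueField) :=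
    IsScalarTower.of_algebraMap_eq' htow
  haveI : IsLocalization ((nonZeroDivisors (R ⧸ p)).map
      (Algebra.TensorProduct.includeRight (R := R) (A := A))) (A ⊗[R] p.ResidueField) :=
    IsLocalization.tensorProduct_tensorProduct_right R A (nonZeroDivisors (R ⧸ p)) p.ResidueField
      (by
        ext x
        show μ (1 ⊗ₜ x) = 1 ⊗ₜ (algebraMap (R ⧸ p) p.ResidueField x)
        simp [μ])
  let φ : A →+* A ⊗[R] (R ⧸ p) := Algebra.TensorProduct.includeLeftRingHom
  have hφ : Function.Surjective φ :=
    Algebra.TensorProduct.includeLeft_surjective (R := R) (T := R ⧸ p) A A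
      Ideal.Quotient.mk_surjective
  obtain ⟨C, _, ψ, χ, hψ, hpb⟩ := exists_etale_lift A (A ⊗[R] (R ⧸ p)) (A ⊗[R] p.ResidueField) C₀ φ hφ
    ((nonZeroDivisors (R ⧸ p)).map (Algebra.TensorProduct.includeRight (R := R) (A := A)))
  refine ⟨C, inferInstance, ψ, χ, hψ, ?_⟩
  have h : (algebraMap (A ⊗[R] (R ⧸ p)) (A ⊗[R] p.ResidueField)).comp φ =
      algebraMap A (A ⊗[R] p.ResidueField) := by
    ext a
    show μ (a ⊗ₜ 1) = a ⊗ₜ 1
    simp [μ]
  rw [h] at hpb
  exact hpb

end Groth.Agent.Lib.H9EtFibLift1
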