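import Mathlib
import Groth.Agent.Lib.H9EtFibLift1
import Groth.Agent.Lib.Helper3FibEtSch
import Groth.Prelude.Def_MoreMor

/-! Étale neighbourhoods of a point in its fibre lift to étale neighbourhoods in the total space (S9727): `chart_isPullback`, `PB`, `main` (helper9). -/

set_option autoImplicit false
set_option linter.unusedVariables false
set_option linter.unusedSectionVars false
set_option linter.style.haveILetI false

open CategoryTheory CategoryTheory.Limits AlgebraicGeometry TensorProduct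

universe u

namespace Groth.Agent.Lib.H9EtFibLift2

/-- points of `IsPullback` squares of schemes -/
theorem exists_of_isPullback {P X Y Z : Scheme.{u}} {fst : P ⟶ X} {snd : P ⟶ Y} {f : X ⟶ Z}
    {g : Y ⟶ Z} (h : IsPullback fst snd f g) (x : X) (y : Y) (hxy : f x = g y) :
    ∃ z : P, fst z = x ∧ snd z = y := by
  obtain ⟨z, hz1, hz2⟩ := Scheme.Pullback.exists_preimage_pullback x y hxy
  refine ⟨h.isoPullback.inv z, ?_, ?_⟩
  · rw [← Scheme.Hom.comp_apply, h.isoPullback_inv_fst]; exact hz1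
  · rw [← Scheme.Hom.comp_apply, h.isoPullback_inv_snd]; exact hz2

/-- the fibre of a composite is the pullback of the fibre -/
theorem PB {X Y S : Scheme.{u}} (p : X ⟶ Y) (f : Y ⟶ S) (s : S) :
    IsPullback ((p ≫ f).fiberι s) (MoreMor.fiberMap p f s) p (f.fiberι s) := by
  refine IsPullback.of_bot (v₂₁ := f.fiberToSpecResidueField s) (v₂₂ := f)
    (h₃₁ := S.fromSpecResidueField s) ?_ ?_ (IsPullback.of_hasPullback _ _)
  · have h1 : MoreMor.fiberMap p f s ≫ f.fiberToSpecResidueField s =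
        (p ≫ f).fiberToSpecResidueField s := pullback.lift_snd _ _ _
    rw [h1]
    exact IsPullback.of_hasPullback _ _
  · exact (pullback.lift_fst _ _ _).symm

open Groth.Agent.Lib.Helper3.FibEtSch in
/-- affine chart of a fibre, as a cartesian square. -/
theorem chart_isPullback {X S : Scheme.{u}} (f : X ⟶ S) {S₀ : S.Opens} (hS₀ : IsAffineOpen S₀)
    {V : X.Opens} (hV : IsAffineOpen V) (e : V ≤ f ⁻¹ᵁ S₀) (p : Spec Γ(S, S₀)) (s : S)
    (hs : hS₀.fromSpec p = s) :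
    letI := (f.appLE S₀ V e).hom.toAlgebra
    ∃ j : Spec (.of (Γ(X, V) ⊗[Γ(S, S₀)] p.asIdeal.ResidueField)) ⟶ f.fiber s,
      IsOpenImmersion j ∧
      IsPullback j (Spec.map (CommRingCat.ofHom
        (algebraMap Γ(X, V) (Γ(X, V) ⊗[Γ(S, S₀)] p.asIdeal.ResidueField))))
        (f.fiberι s) hV.fromSpec := by
  letI := (f.appLE S₀ V e).hom.toAlgebra
  obtain ⟨θ, hθiso, hθ⟩ := exists_residueField_iso hS₀ p s hs
  haveI := hθiso
  obtain ⟨j, hj, hj1, hj2⟩ := exists_fibre_chart f hS₀ hV e p s θ hθ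
  refine ⟨j, hj, ?_⟩
  haveI : IsOpenImmersion hS₀.fromSpec := hS₀.isOpenImmersion_fromSpec
  have sqL := (isPullback_SpecMap_of_isPushout _ _ _ _
    (CommRingCat.isPushout_tensorProduct Γ(S, S₀) Γ(X, V) p.asIdeal.ResidueField)).flip
  have sqR : IsPullback θ (Spec.map (CommRingCat.ofHom
      (algebraMap Γ(S, S₀) p.asIdeal.ResidueField))) (S.fromSpecResidueField s) hS₀.fromSpec :=
    IsPullback.of_horiz_isIso_mono ⟨hθ⟩
  have outer := sqL.paste_horiz sqR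
  have e₁ : Spec.map (CommRingCat.ofHom (algebraMap Γ(S, S₀) Γ(X, V))) ≫ hS₀.fromSpec =
      hV.fromSpec ≫ f := IsAffineOpen.SpecMap_appLE_fromSpec f hS₀ hV e
  rw [e₁] at outer
  have hj2' : j ≫ f.fiberToSpecResidueField s = Spec.map (CommRingCat.ofHom
      (Algebra.TensorProduct.includeRight :
        p.asIdeal.ResidueField →ₐ[Γ(S, S₀)] Γ(X, V) ⊗[Γ(S, S₀)] p.asIdeal.ResidueField).toRingHom) ≫ θ :=
    hj2
  rw [← hj2'] at outer
  exact IsPullback.of_right outer hj1 (IsPullback.of_hasPullback _ _).flip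

/-- **Étale neighbourhoods of a point in its fibre lift to the total space.** -/
theorem main {X S V : Scheme.{u}} (f : X ⟶ S) (x : X)
    (g : V ⟶ f.fiber (f x)) [Etale g] (v : V) (hv : g v = f.asFiber x) :
    ∃ (U : Scheme.{u}) (p : U ⟶ X) (u : U) (m : (p ≫ f).fiber (f x) ⟶ V)
      (u' : ↑((p ≫ f).fiber (f x))),
      Etale p ∧ p u = x ∧ IsOpenImmersion m ∧ m ≫ g = MoreMor.fiberMap p f (f x) ∧
      (p ≫ f).fiberι (f x) u' = u ∧ m u' = v := by
  obtain ⟨_, ⟨S₀, hS₀, rfl⟩, hsS₀, -⟩ := S.isBasis_affineOpens.exists_subset_of_mem_open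
    (Set.mem_univ (f x)) isOpen_univ
  let S₀' : S.Opens := S₀
  obtain ⟨_, ⟨V₀, hV₀, rfl⟩, hxV₀, hV₀le⟩ := X.isBasis_affineOpens.exists_subset_of_mem_open
    (show x ∈ ((f ⁻¹ᵁ S₀' : X.Opens) : Set X) from hsS₀) (f ⁻¹ᵁ S₀').isOpen
  let V₀' : X.Opens := V₀
  have e : V₀' ≤ f ⁻¹ᵁ S₀' := hV₀le
  have hfx : f x ∈ Set.range hS₀.fromSpec := by rw [hS₀.range_fromSpec]; exact hsS₀
  obtain ⟨p₀, hp₀⟩ := hfx
  letI := (f.appLE S₀' V₀' e).hom.toAlgebra
  obtain ⟨j, hj, hjpb⟩ := chart_isPullback f hS₀ hV₀ e p₀ (f x) hp₀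
  -- the point of the chart
  have hx0 : x ∈ Set.range hV₀.fromSpec := by rw [hV₀.range_fromSpec]; exact hxV₀
  obtain ⟨a₀, ha₀⟩ := hx0
  obtain ⟨z₀, hz₀, -⟩ := exists_of_isPullback hjpb (f.asFiber x) a₀
    (by rw [f.fiberι_asFiber, ha₀])
  -- shrink `V`
  have hvW : v ∈ g ⁻¹ᵁ j.opensRange := by
    show g v ∈ Set.range j
    rw [hv]; exact ⟨z₀, hz₀⟩
  obtain ⟨_, ⟨V₁, hV₁, rfl⟩, hvV₁, hV₁le⟩ := V.isBasis_affineOpens.exists_subset_of_mem_open
    hvW (g ⁻¹ᵁ j.opensRange).isOpen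
  let V₁' : V.Opens := V₁
  have hrange : Set.range (V₁'.ι ≫ g) ⊆ Set.range j := by
    rintro _ ⟨y, rfl⟩
    rw [Scheme.Hom.comp_apply]
    exact hV₁le y.2
  let h₁ : (V₁' : Scheme.{u}) ⟶ _ := IsOpenImmersion.lift j (V₁'.ι ≫ g) hrange
  have hh₁ : h₁ ≫ j = V₁'.ι ≫ g := IsOpenImmersion.lift_fac _ _ _
  have hpbh : IsPullback (𝟙 _) h₁ (V₁'.ι ≫ g) j :=
    (IsPullback.of_vert_isIso_mono ⟨by rw [hh₁, Category.id_comp]⟩).flip
  have hEt₁ : Etale h₁ := MorphismProperty.of_isPullback (P := @Etale) hpbh inferInstance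
  -- the ring map
  let k : Spec Γ(V, V₁') ⟶ Spec (.of (Γ(X, V₀') ⊗[Γ(S, S₀')] p₀.asIdeal.ResidueField)) :=
    hV₁.isoSpec.inv ≫ h₁
  have hEtk : Etale k := inferInstance
  let ϕ₀ := Spec.preimage k
  have hϕ₀ : Spec.map ϕ₀ = k := Spec.map_preimage k
  have hϕ₀et : ϕ₀.hom.Etale := by
    rw [← HasRingHomProperty.Spec_iff (P := @Etale), hϕ₀]; exact hEtk
  letI : Algebra (Γ(X, V₀') ⊗[Γ(S, S₀')] p₀.asIdeal.ResidueField) Γ(V, V₁') := ϕ₀.hom.toAlgebra
  haveI : Algebra.Etale (Γ(X, V₀') ⊗[Γ(S, S₀')] p₀.asIdeal.ResidueField) Γ(V, V₁') :=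
    RingHom.etale_algebraMap.mp hϕ₀et
  obtain ⟨C, _, ψ, χ, hψ, hpb⟩ := Groth.Agent.Lib.H9EtFibLift1.exists_etale_lift_fibre
    Γ(S, S₀') Γ(X, V₀') p₀.asIdeal Γ(V, V₁')
  have hk : Spec.map (CommRingCat.ofHom (algebraMap
      (Γ(X, V₀') ⊗[Γ(S, S₀')] p₀.asIdeal.ResidueField) Γ(V, V₁'))) = k := hϕ₀
  rw [hk] at hpb
  -- the étale neighbourhood
  haveI : IsOpenImmersion hV₀.fromSpec := hV₀.isOpenImmersion_fromSpec
  haveI : Etale (Spec.map (CommRingCat.ofHom ψ)) := by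
    rw [HasRingHomProperty.Spec_iff (P := @Etale)]; exact hψ
  let p : Spec (.of C) ⟶ X := Spec.map (CommRingCat.ofHom ψ) ≫ hV₀.fromSpec
  have hEtp : Etale p := inferInstance
  have big := hpb.flip.paste_horiz hjpb
  have big' : IsPullback (V₁'.ι ≫ g) (hV₁.isoSpec.hom ≫ Spec.map (CommRingCat.ofHom χ))
      (f.fiberι (f x)) p :=
    big.of_iso hV₁.isoSpec.symm (Iso.refl _) (Iso.refl _) (Iso.refl _)
      (by
        show (k ≫ j) ≫ 𝟙 _ = hV₁.isoSpec.inv ≫ V₁'.ι ≫ g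
        rw [Category.comp_id, Category.assoc, hh₁])
      (by simp) (by simp) (by simp [p])
  have pb := PB p f (f x)
  let ε := pb.isoIsPullback _ _ big'.flip
  have hε1 : ε.hom ≫ (V₁'.ι ≫ g) = MoreMor.fiberMap p f (f x) :=
    IsPullback.isoIsPullback_hom_snd _ _ pb big'.flip
  let v₁ : (V₁' : Scheme.{u}) := ⟨v, hvV₁⟩
  refine ⟨Spec (.of C), p, (p ≫ f).fiberι (f x) (ε.inv v₁), ε.hom ≫ V₁'.ι, ε.inv v₁,
    hEtp, ?_, inferInstance, ?_, rfl, ?_⟩
  · have hm : (ε.hom ≫ V₁'.ι) (ε.inv v₁) = v := by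
      rw [Scheme.Hom.comp_apply, ← Scheme.Hom.comp_apply ε.inv ε.hom, Iso.inv_hom_id]
      rfl
    have h1 : p ((p ≫ f).fiberι (f x) (ε.inv v₁)) =
        f.fiberι (f x) (MoreMor.fiberMap p f (f x) (ε.inv v₁)) := by
      calc p ((p ≫ f).fiberι (f x) (ε.inv v₁))
          = ((p ≫ f).fiberι (f x) ≫ p) (ε.inv v₁) := (Scheme.Hom.comp_apply _ _ _).symm
        _ = (MoreMor.fiberMap p f (f x) ≫ f.fiberι (f x)) (ε.inv v₁) := by rw [pb.w]
        _ = _ := Scheme.Hom.comp_apply _ _ _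
    have h2 : MoreMor.fiberMap p f (f x) (ε.inv v₁) = g v := by
      calc MoreMor.fiberMap p f (f x) (ε.inv v₁)
          = ((ε.hom ≫ V₁'.ι) ≫ g) (ε.inv v₁) := by
            rw [show (ε.hom ≫ V₁'.ι) ≫ g = MoreMor.fiberMap p f (f x) from
              (Category.assoc _ _ _).trans hε1]
        _ = g ((ε.hom ≫ V₁'.ι) (ε.inv v₁)) := Scheme.Hom.comp_apply _ _ _
        _ = g v := by rw [hm]
    rw [h1, h2, hv, f.fiberι_asFiber]
  · exact (Category.assoc _ _ _).trans hε1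
  · rw [Scheme.Hom.comp_apply, ← Scheme.Hom.comp_apply ε.inv ε.hom, Iso.inv_hom_id]
    rfl

end Groth.Agent.Lib.H9EtFibLift2
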