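import Mathlib
import Groth.Prelude.Def_Brnch
import Groth.Prelude.Def_Hens2
import Groth.Prelude.Def_MoreMor
import Groth.Agent.Lib.H5bBranchMain
import Groth.Agent.Lib.H9EtFibLift2
import Groth.Agent.Lib.Helper14IrrComp
import Groth.Agent.Lib.Helper14FtPts

/-!
# Branches of a fibre at a point via étale neighbourhoods of the total space (helper5)
-/

set_option autoImplicit false
set_option linter.style.haveILetI false
universe u

namespace Groth.Agent.Lib.H5bBranchFib

open AlgebraicGeometry CategoryTheory Limits TopologicalSpace Topology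

/-- the irreducible components through the image of a point under an open embedding inject into
the irreducible components through the point. -/
theorem encard_components_le_of_isOpenEmbedding {A B : Type*} [TopologicalSpace A]
    [TopologicalSpace B] [T0Space A] [QuasiSober A] [T0Space B] [QuasiSober B] (m : A → B)
    (hm : IsOpenEmbedding m) (a : A) :
    {Z : Set B | Z ∈ irreducibleComponents B ∧ m a ∈ Z}.encard ≤
      {Z : Set A | Z ∈ irreducibleComponents A ∧ a ∈ Z}.encard := by
  classical
  have key : ∀ Z : Set B, Z ∈ irreducibleComponents B → m a ∈ Z →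
      ∃ η : A, IsGenericPoint (m η) Z := by
    intro Z hZ haZ
    obtain ⟨η, hη⟩ := QuasiSober.sober hZ.1 (isClosed_of_mem_irreducibleComponents Z hZ)
    have hsp : η ⤳ m a := hη.specializes haZ
    have hmem : η ∈ Set.range m := hsp.mem_open hm.isOpen_range ⟨a, rfl⟩
    obtain ⟨η', rfl⟩ := hmem
    exact ⟨η', hη⟩
  haveI : Nonempty A := ⟨a⟩
  choose! η hη using key
  refine Set.encard_le_encard_of_injOn (f := fun Z => closure {η Z}) ?_ ?_
  · rintro Z ⟨hZ, haZ⟩
    have hgen := hη Z hZ haZ
    refine ⟨?_, ?_⟩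
    · rw [Groth.Agent.Lib.Helper14.closure_mem_irreducibleComponents_iff]
      intro y' hy'
      have h1 : m y' ⤳ m (η Z) := hy'.map hm.continuous
      have h2 : closure {m (η Z)} ∈ irreducibleComponents B := by rw [hgen.def]; exact hZ
      have h3 := (Groth.Agent.Lib.Helper14.closure_mem_irreducibleComponents_iff (m (η Z))).1 h2
        (m y') h1
      exact hm.injective h3
    · have hsp : m (η Z) ⤳ m a := hgen.specializes haZ
      have h4 : η Z ⤳ a := hm.isInducing.specializes_iff.1 hsp
      exact specializes_iff_mem_closure.1 h4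
  · rintro Z ⟨hZ, haZ⟩ Z' ⟨hZ', haZ'⟩ heq
    have heq' : closure {η Z} = closure {η Z'} := heq
    have h1 : η Z ⤳ η Z' := specializes_iff_closure_subset.2 heq'.ge
    have h2 : η Z' ⤳ η Z := specializes_iff_closure_subset.2 heq'.le
    have h3 : η Z = η Z' := (h1.antisymm h2).eq
    rw [← (hη Z hZ haZ).def, ← (hη Z' hZ' haZ').def, h3]

section Fib

variable {X S : Scheme.{u}} (f : X ⟶ S)

theorem fiberι_injective (s : S) : Function.Injective (f.fiberι s) :=
  (f.fiberι s).isEmbedding.injective

theorem fiberι_fiberMap {U : Scheme.{u}} (p : U ⟶ X) (s : S) (u' : ↑((p ≫ f).fiber s)) :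
    f.fiberι s (MoreMor.fiberMap p f s u') = p ((p ≫ f).fiberι s u') := by
  have h := (Groth.Agent.Lib.H9EtFibLift2.PB p f s).w
  have h2 := congrArg (fun φ => φ u') h
  simp only [Scheme.Hom.comp_apply] at h2
  exact h2.symm

theorem etale_fiberMap {U : Scheme.{u}} (p : U ⟶ X) [hp : Etale p] (s : S) :
    Etale (MoreMor.fiberMap p f s) :=
  MorphismProperty.of_isPullback (P := @Etale) (Groth.Agent.Lib.H9EtFibLift2.PB p f s) hp

theorem fiberMap_eq_asFiber {U : Scheme.{u}} (p : U ⟶ X) (x : X) (u : U) (hu : p u = x)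
    (u' : ↑((p ≫ f).fiber (f x))) (hu' : (p ≫ f).fiberι (f x) u' = u) :
    MoreMor.fiberMap p f (f x) u' = f.asFiber x := by
  apply fiberι_injective f
  rw [fiberι_fiberMap, hu', hu, Scheme.Hom.fiberι_asFiber]

/-- the set of components in the fibre statements, in terms of a chosen point over `u`. -/
theorem components_subset {U : Scheme.{u}} (p : U ⟶ X) (s : S) (u : U)
    (u' : ↑((p ≫ f).fiber s)) (hu' : (p ≫ f).fiberι s u' = u) :
    {Z : Set ↑((p ≫ f).fiber s) | Z ∈ irreducibleComponents ↑((p ≫ f).fiber s) ∧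
        ∃ u'' ∈ Z, (p ≫ f).fiberι s u'' = u} =
      {Z : Set ↑((p ≫ f).fiber s) | Z ∈ irreducibleComponents ↑((p ≫ f).fiber s) ∧ u' ∈ Z} := by
  ext Z
  constructor
  · rintro ⟨hZ, u'', hu''Z, hu''⟩
    have h : u'' = u' := fiberι_injective (p ≫ f) s (hu''.trans hu'.symm)
    exact ⟨hZ, h ▸ hu''Z⟩
  · rintro ⟨hZ, hu'Z⟩
    exact ⟨hZ, u', hu'Z, hu'⟩

theorem components_empty {U : Scheme.{u}} (p : U ⟶ X) (s : S) (u : U)
    (hex : ¬ ∃ u' : ↑((p ≫ f).fiber s), (p ≫ f).fiberι s u' = u) :
    {Z : Set ↑((p ≫ f).fiber s) | Z ∈ irreducibleComponents ↑((p ≫ f).fiber s) ∧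
        ∃ u'' ∈ Z, (p ≫ f).fiberι s u'' = u} = ∅ := by
  rw [Set.eq_empty_iff_forall_notMem]
  rintro Z ⟨-, u'', -, h2⟩
  exact hex ⟨u'', h2⟩

theorem numGeomBranchesAt_fibre_eq_iSup (x : X) :
    Brnch.numGeomBranchesAt (f.fiber (f x)) (f.asFiber x) =
      ⨆ (U : Scheme.{u}) (g : U ⟶ X) (u : U) (_ : Etale g ∧ g u = x),
        {Z : Set ↑((g ≫ f).fiber (f x)) | Z ∈ irreducibleComponents ↑((g ≫ f).fiber (f x)) ∧
          ∃ u' ∈ Z, (g ≫ f).fiberι (f x) u' = u}.encard := by
  rw [Groth.Agent.Lib.H5bBranchMain.numGeomBranchesAt_eq_iSup]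
  apply le_antisymm
  · refine iSup_le fun V => iSup_le fun g => iSup_le fun v => iSup_le fun h => ?_
    obtain ⟨hg, hv⟩ := h
    obtain ⟨U, p, u, m, u', h1, h2, h3, h4, h5, h6⟩ :=
      Groth.Agent.Lib.H9EtFibLift2.main f x g v hv
    subst h6
    have hle := encard_components_le_of_isOpenEmbedding m m.isOpenEmbedding u'
    refine hle.trans ?_
    rw [← components_subset f p (f x) u u' h5]
    exact le_iSup_of_le U (le_iSup_of_le p (le_iSup_of_le u (le_iSup_of_le ⟨h1, h2⟩ le_rfl)))
  · refine iSup_le fun U => iSup_le fun p => iSup_le fun u => iSup_le fun h => ?_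
    obtain ⟨hp, hu⟩ := h
    by_cases hex : ∃ u' : ↑((p ≫ f).fiber (f x)), (p ≫ f).fiberι (f x) u' = u
    · obtain ⟨u', hu'⟩ := hex
      rw [components_subset f p (f x) u u' hu']
      haveI : Etale (MoreMor.fiberMap p f (f x)) := etale_fiberMap f p (f x)
      have hpt := fiberMap_eq_asFiber f p x u hu u' hu'
      exact le_iSup_of_le _ (le_iSup_of_le (MoreMor.fiberMap p f (f x)) (le_iSup_of_le u'
        (le_iSup_of_le ⟨inferInstance, hpt⟩ le_rfl)))
    · rw [components_empty f p (f x) u hex]
      simp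

end Fib

section ResFld

theorem bijective_residueFieldMap_congr {P Z : Scheme.{u}} {k l : P ⟶ Z} (h : k = l) (z : P) :
    Function.Bijective (k.residueFieldMap z) ↔ Function.Bijective (l.residueFieldMap z) := by
  subst h
  rfl

theorem bijective_residueFieldMap_congr' {P Z : Scheme.{u}} (k : P ⟶ Z) {z z' : P} (h : z = z') :
    Function.Bijective (k.residueFieldMap z) ↔ Function.Bijective (k.residueFieldMap z') := by
  subst h
  rfl

/-- in a commutative square of schemes whose two "vertical" maps induce isomorphisms of residue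
fields, one horizontal map is bijective on residue fields iff the other is. -/
theorem bijective_residueFieldMap_of_comm {P Q R Z : Scheme.{u}} (a : P ⟶ Q) (b : Q ⟶ Z)
    (c : P ⟶ R) (d : R ⟶ Z) (h : a ≫ b = c ≫ d) (z : P)
    (ha : Function.Bijective (a.residueFieldMap z))
    (hd : Function.Bijective (d.residueFieldMap (c z))) :
    Function.Bijective (b.residueFieldMap (a z)) ↔ Function.Bijective (c.residueFieldMap z) := by
  have h0 := bijective_residueFieldMap_congr h z
  rw [Scheme.residueFieldMap_comp, Scheme.residueFieldMap_comp] at h0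
  have h1 : Function.Bijective (b.residueFieldMap (a z) ≫ a.residueFieldMap z) ↔
      Function.Bijective (b.residueFieldMap (a z)) :=
    Function.Bijective.of_comp_iff' ha _
  have h2 : Function.Bijective (d.residueFieldMap (c z) ≫ c.residueFieldMap z) ↔
      Function.Bijective (c.residueFieldMap z) :=
    Function.Bijective.of_comp_iff _ hd
  exact h1.symm.trans (h0.trans h2)

end ResFld

section FibElem

variable {X S : Scheme.{u}} (f : X ⟶ S)

theorem bijective_residueFieldMap_fiberι (s : S) (z : ↑(f.fiber s)) :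
    Function.Bijective ((f.fiberι s).residueFieldMap z) := by
  haveI := Groth.Agent.Lib.Helper14.isIso_residueFieldMap_of_surjectiveOnStalks (f.fiberι s) z
  exact ConcreteCategory.bijective_of_isIso _

/-- residue field bijectivity for `p` at `fiberι u'` and for the induced map of fibres at `u'`
are equivalent. -/
theorem bijective_fiberMap_iff {U : Scheme.{u}} (p : U ⟶ X) (s : S) (u' : ↑((p ≫ f).fiber s)) :
    Function.Bijective (p.residueFieldMap ((p ≫ f).fiberι s u')) ↔
      Function.Bijective ((MoreMor.fiberMap p f s).residueFieldMap u') :=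
  bijective_residueFieldMap_of_comm ((p ≫ f).fiberι s) p (MoreMor.fiberMap p f s) (f.fiberι s)
    (Groth.Agent.Lib.H9EtFibLift2.PB p f s).w u'
    (bijective_residueFieldMap_fiberι (p ≫ f) s u')
    (bijective_residueFieldMap_fiberι f s _)

theorem numBranchesAt_fibre_eq_iSup (x : X) :
    Brnch.numBranchesAt (f.fiber (f x)) (f.asFiber x) =
      ⨆ (U : Scheme.{u}) (g : U ⟶ X) (u : U) (_ : Hens2.IsEtaleNbhd g u x),
        {Z : Set ↑((g ≫ f).fiber (f x)) | Z ∈ irreducibleComponents ↑((g ≫ f).fiber (f x)) ∧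
          ∃ u' ∈ Z, (g ≫ f).fiberι (f x) u' = u}.encard := by
  rw [Groth.Agent.Lib.H5bBranchMain.numBranchesAt_eq_iSup]
  apply le_antisymm
  · refine iSup_le fun V => iSup_le fun g => iSup_le fun v => iSup_le fun h => ?_
    obtain ⟨hg, hv, hbij⟩ := h
    obtain ⟨U, p, u, m, u', h1, h2, h3, h4, h5, h6⟩ :=
      Groth.Agent.Lib.H9EtFibLift2.main f x g v hv
    subst h6
    subst h5
    have hle := encard_components_le_of_isOpenEmbedding m m.isOpenEmbedding u'
    refine hle.trans ?_
    rw [← components_subset f p (f x) _ u' rfl]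
    have hpb : Function.Bijective (p.residueFieldMap ((p ≫ f).fiberι (f x) u')) := by
      rw [bijective_fiberMap_iff, ← bijective_residueFieldMap_congr h4 u',
        Scheme.residueFieldMap_comp]
      have hm : Function.Bijective (m.residueFieldMap u') :=
        ConcreteCategory.bijective_of_isIso _
      exact hm.comp hbij
    exact le_iSup_of_le U (le_iSup_of_le p (le_iSup_of_le _
      (le_iSup_of_le ⟨h1, h2, hpb⟩ le_rfl)))
  · refine iSup_le fun U => iSup_le fun p => iSup_le fun u => iSup_le fun h => ?_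
    obtain ⟨hp, hu, hbij⟩ := h
    by_cases hex : ∃ u' : ↑((p ≫ f).fiber (f x)), (p ≫ f).fiberι (f x) u' = u
    · obtain ⟨u', hu'⟩ := hex
      rw [components_subset f p (f x) u u' hu']
      haveI : Etale (MoreMor.fiberMap p f (f x)) := etale_fiberMap f p (f x)
      have hpt := fiberMap_eq_asFiber f p x u hu u' hu'
      have hb : Function.Bijective ((MoreMor.fiberMap p f (f x)).residueFieldMap u') := by
        rw [← bijective_fiberMap_iff, bijective_residueFieldMap_congr' p hu']
        exact hbij
      exact le_iSup_of_le _ (le_iSup_of_le (MoreMor.fiberMap p f (f x)) (le_iSup_of_le u'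
        (le_iSup_of_le ⟨inferInstance, hpt, hb⟩ le_rfl)))
    · rw [components_empty f p (f x) u hex]
      simp

end FibElem

end Groth.Agent.Lib.H5bBranchFib
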