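import Groth.Agent.Lib.Helper28FGDim
import Groth.Agent.Lib.Helper28DepthMore
import Groth.Agent.Lib.Helper29AdjDepthSurj

/-!
# Cohen–Macaulayness of quotients via ideal depths over the ambient ring (helper5)

For a Noetherian ring `S`, an ideal `𝔞` and `c : ℕ`, `CMe 𝔞 c` says that
`ht P ≤ depth_P (S/𝔞) + c` for every prime `P` of `S`.  This property glues along
`0 → S/(I ∩ J) → S/I × S/J → S/(I + J) → 0`, passes from `S/(𝔞 + x)` to `S/𝔞` at primes containing
a regular element `x`, and gives Cohen–Macaulayness of `S/𝔞` when `S` is Cohen–Macaulay and `𝔞` has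
height at least `c` locally.
-/

set_option autoImplicit false

universe u

noncomputable section

namespace Groth.Agent.Lib.H5b

open Groth.Agent.Lib.Helper28

variable {S : Type u} [CommRing S] [IsNoetherianRing S]

/-- `ht P ≤ depth_P (S/𝔞) + c` for all primes `P` -/
def CMe (𝔞 : Ideal S) (c : ℕ) : Prop :=
  ∀ P : Ideal S, P.IsPrime → P.height ≤ LocCoh.idealDepth P (S ⧸ 𝔞) + c

theorem cme_top (c : ℕ) : CMe (⊤ : Ideal S) c := by
  intro P _
  have : Subsingleton (S ⧸ (⊤ : Ideal S)) := Ideal.Quotient.subsingleton_iff.mpr rfl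
  rw [idealDepth_eq_top_of_subsingleton]
  simp

/-! ### Gluing -/

section Glue

variable (I J : Ideal S)

/-- `S/(I ∩ J) → S/I × S/J` -/
def glueF : (S ⧸ (I ⊓ J)) →ₗ[S] (S ⧸ I) × (S ⧸ J) :=
  (Ideal.Quotient.factorₐ S (inf_le_left : I ⊓ J ≤ I)).toLinearMap.prod
    (Ideal.Quotient.factorₐ S (inf_le_right : I ⊓ J ≤ J)).toLinearMap

/-- `S/I × S/J → S/(I + J)`, the difference -/
def glueG : (S ⧸ I) × (S ⧸ J) →ₗ[S] (S ⧸ (I ⊔ J)) :=
  (Ideal.Quotient.factorₐ S (le_sup_left : I ≤ I ⊔ J)).toLinearMap.coprod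
    (-(Ideal.Quotient.factorₐ S (le_sup_right : J ≤ I ⊔ J)).toLinearMap)

theorem glueF_mk (s : S) :
    glueF I J (Ideal.Quotient.mk _ s) = (Ideal.Quotient.mk I s, Ideal.Quotient.mk J s) := rfl

theorem glueG_mk (a b : S) :
    glueG I J (Ideal.Quotient.mk I a, Ideal.Quotient.mk J b) = Ideal.Quotient.mk (I ⊔ J) (a - b) := by
  unfold glueG
  rw [LinearMap.coprod_apply, LinearMap.neg_apply, map_sub, sub_eq_add_neg]
  rfl

theorem glueF_injective : Function.Injective (glueF I J) := by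
  rw [← LinearMap.ker_eq_bot, eq_bot_iff]
  intro x hx
  obtain ⟨s, rfl⟩ := Ideal.Quotient.mk_surjective x
  rw [LinearMap.mem_ker, glueF_mk, Prod.mk_eq_zero, Ideal.Quotient.eq_zero_iff_mem,
    Ideal.Quotient.eq_zero_iff_mem] at hx
  rw [Submodule.mem_bot, Ideal.Quotient.eq_zero_iff_mem]
  exact ⟨hx.1, hx.2⟩

theorem glueG_surjective : Function.Surjective (glueG I J) := by
  intro y
  obtain ⟨s, rfl⟩ := Ideal.Quotient.mk_surjective y
  refine ⟨(Ideal.Quotient.mk I s, Ideal.Quotient.mk J 0), ?_⟩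
  rw [glueG_mk, sub_zero]

theorem glue_exact : Function.Exact (glueF I J) (glueG I J) := by
  intro y
  obtain ⟨a', b'⟩ := y
  obtain ⟨a, rfl⟩ := Ideal.Quotient.mk_surjective a'
  obtain ⟨b, rfl⟩ := Ideal.Quotient.mk_surjective b'
  rw [glueG_mk, Ideal.Quotient.eq_zero_iff_mem]
  constructor
  · intro h
    obtain ⟨i, hi, j, hj, hij⟩ := Submodule.mem_sup.mp h
    refine ⟨Ideal.Quotient.mk _ (a - i), ?_⟩
    rw [glueF_mk]
    refine Prod.ext ?_ ?_
    · show Ideal.Quotient.mk I (a - i) = Ideal.Quotient.mk I a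
      rw [Ideal.Quotient.eq]
      have : a - i - a = -i := by ring
      rw [this]
      exact I.neg_mem hi
    · show Ideal.Quotient.mk J (a - i) = Ideal.Quotient.mk J b
      rw [Ideal.Quotient.eq]
      have : a - i - b = j := by linear_combination - hij
      rw [this]
      exact hj
  · rintro ⟨x, hx⟩
    obtain ⟨s, rfl⟩ := Ideal.Quotient.mk_surjective x
    rw [glueF_mk, Prod.mk.injEq, Ideal.Quotient.eq, Ideal.Quotient.eq] at hx
    have : a - b = (-(s - a)) + (s - b) := by ring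
    rw [this]
    exact Submodule.add_mem_sup (I.neg_mem hx.1) hx.2

theorem min_le_idealDepth_prod (P : Ideal S) (M M' : Type u) [AddCommGroup M] [Module S M]
    [Module.Finite S M] [AddCommGroup M'] [Module S M'] [Module.Finite S M'] :
    min (LocCoh.idealDepth P M) (LocCoh.idealDepth P M') ≤ LocCoh.idealDepth P (M × M') := by
  refine min_idealDepth_le_mid P (LinearMap.inl S M M') (LinearMap.snd S M M')
    LinearMap.inl_injective LinearMap.snd_surjective ?_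
  intro y
  constructor
  · intro h
    refine ⟨y.1, ?_⟩
    refine Prod.ext rfl ?_
    exact h.symm
  · rintro ⟨x, rfl⟩
    rfl

theorem CMe.inf {I J : Ideal S} {c : ℕ} (hI : CMe I c) (hJ : CMe J c) (hIJ : CMe (I ⊔ J) (c + 1)) :
    CMe (I ⊓ J) c := by
  intro P hP
  have h1 := hI P hP
  have h2 := hJ P hP
  have h3 := hIJ P hP
  have hd := min_idealDepth_le_left P (glueF I J) (glueG I J) (glueF_injective I J)
    (glueG_surjective I J) (glue_exact I J)
  have hp := min_le_idealDepth_prod P (S ⧸ I) (S ⧸ J)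
  have h3' : P.height ≤ LocCoh.idealDepth P (S ⧸ (I ⊔ J)) + 1 + c := by
    rw [add_assoc, add_comm 1 (c : ℕ∞)]
    exact_mod_cast h3
  calc P.height ≤ min (min (LocCoh.idealDepth P (S ⧸ I)) (LocCoh.idealDepth P (S ⧸ J)) + c)
        (LocCoh.idealDepth P (S ⧸ (I ⊔ J)) + 1 + c) := by
          refine le_min ?_ h3'
          rw [← min_add_add_right]
          exact le_min h1 h2
    _ = min (min (LocCoh.idealDepth P (S ⧸ I)) (LocCoh.idealDepth P (S ⧸ J)))
        (LocCoh.idealDepth P (S ⧸ (I ⊔ J)) + 1) + c := by rw [min_add_add_right]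
    _ ≤ LocCoh.idealDepth P (S ⧸ (I ⊓ J)) + c := by
          refine add_le_add ?_ le_rfl
          exact le_trans (min_le_min_right _ hp) hd

end Glue


/-! ### A regular element -/

section Regular

open Pointwise

variable (𝔞 : Ideal S) (x : S)

theorem smul_top_eq_map_sup_span :
    (x • (⊤ : Submodule S (S ⧸ 𝔞))) =
      Submodule.map (Submodule.mkQ 𝔞) (𝔞 ⊔ Ideal.span {x} : Ideal S) := by
  ext y
  rw [Submodule.mem_smul_pointwise_iff_exists, Submodule.mem_map]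
  constructor
  · rintro ⟨b, -, rfl⟩
    obtain ⟨t, rfl⟩ := Ideal.Quotient.mk_surjective b
    refine ⟨x * t, Ideal.mem_sup_right (Ideal.mul_mem_right _ _ (Ideal.subset_span rfl)), ?_⟩
    rfl
  · rintro ⟨s, hs, rfl⟩
    obtain ⟨a, ha, j, hj, rfl⟩ := Submodule.mem_sup.mp hs
    obtain ⟨r, rfl⟩ := Ideal.mem_span_singleton'.mp hj
    refine ⟨Ideal.Quotient.mk 𝔞 r, trivial, ?_⟩
    show x • Ideal.Quotient.mk 𝔞 r = Ideal.Quotient.mk 𝔞 (a + r * x)
    rw [map_add, Ideal.Quotient.eq_zero_iff_mem.mpr ha, zero_add, mul_comm, Algebra.smul_def]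
    rfl

/-- `(S/𝔞)/x(S/𝔞) ≃ S/(𝔞 + (x))` -/
def quotSMulTopEquiv : QuotSMulTop x (S ⧸ 𝔞) ≃ₗ[S] (S ⧸ (𝔞 ⊔ Ideal.span {x})) :=
  (Submodule.quotEquivOfEq _ _ (smul_top_eq_map_sup_span 𝔞 x)).trans
    (Submodule.quotientQuotientEquivQuotient (𝔞 : Submodule S S) (𝔞 ⊔ Ideal.span {x} : Ideal S)
      le_sup_left)

theorem CMe.of_regular {𝔞 : Ideal S} {x : S} {c : ℕ} (hreg : IsSMulRegular (S ⧸ 𝔞) x)
    (h : CMe (𝔞 ⊔ Ideal.span {x}) (c + 1)) (P : Ideal S) (hP : P.IsPrime) (hx : x ∈ P) :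
    P.height ≤ LocCoh.idealDepth P (S ⧸ 𝔞) + c := by
  by_cases hPM : P • (⊤ : Submodule S (S ⧸ 𝔞)) = ⊤
  · rw [idealDepth_eq_top_of_smul_top_eq_top P _ hPM]
    simp
  · have h1 := idealDepth_quotSMulTop_add_one P (S ⧸ 𝔞) hPM x hx hreg
    rw [idealDepth_congr (quotSMulTopEquiv 𝔞 x) P] at h1
    have h2 := h P hP
    rw [← h1]
    calc P.height ≤ LocCoh.idealDepth P (S ⧸ (𝔞 ⊔ Ideal.span {x})) + ((c + 1 : ℕ) : ℕ∞) := h2
      _ = LocCoh.idealDepth P (S ⧸ (𝔞 ⊔ Ideal.span {x})) + 1 + c := by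
          push_cast
          rw [add_assoc, add_comm (c : ℕ∞) 1]

end Regular

/-! ### Local formulation -/

section Local

variable (𝔞 : Ideal S)

theorem le_of_mem_support_quotient {Q : PrimeSpectrum S} (h : Q ∈ Module.support S (S ⧸ 𝔞)) :
    𝔞 ≤ Q.asIdeal := by
  rw [Module.mem_support_iff_of_finite, Ideal.annihilator_quotient] at h
  exact h

theorem cme_of_local (c : ℕ)
    (h : ∀ Q : Ideal S, ∀ _ : Q.IsPrime, 𝔞 ≤ Q → Q.height ≤
      LocCoh.depth (Localization.AtPrime Q) (LocalizedModule Q.primeCompl (S ⧸ 𝔞)) + c) :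
    CMe 𝔞 c := by
  intro P hP
  by_cases hPM : P • (⊤ : Submodule S (S ⧸ 𝔞)) = ⊤
  · rw [idealDepth_eq_top_of_smul_top_eq_top P _ hPM]
    simp
  · obtain ⟨Q, hPQ, hQs, hQ⟩ := exists_prime_depth_localization_eq hPM
    have h1 := h Q.asIdeal Q.2 (le_of_mem_support_quotient 𝔞 hQs)
    rw [hQ] at h1
    exact le_trans (Ideal.height_mono hPQ) h1

theorem CMe.local {𝔞 : Ideal S} {c : ℕ} (h : CMe 𝔞 c) (Q : Ideal S) [hQ : Q.IsPrime] :
    Q.height ≤ LocCoh.depth (Localization.AtPrime Q) (LocalizedModule Q.primeCompl (S ⧸ 𝔞)) + c :=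
  le_trans (h Q hQ) (add_le_add (idealDepth_le_depth_localization Q (S ⧸ 𝔞) le_rfl) le_rfl)

/-- combining a regular element with a Cohen–Macaulay chart away from it -/
theorem cme_of_regular_of_chart {x : S} {c : ℕ} (hreg : IsSMulRegular (S ⧸ 𝔞) x)
    (h : CMe (𝔞 ⊔ Ideal.span {x}) (c + 1))
    (hchart : ∀ Q : Ideal S, ∀ _ : Q.IsPrime, 𝔞 ≤ Q → x ∉ Q → Q.height ≤
      LocCoh.depth (Localization.AtPrime Q) (LocalizedModule Q.primeCompl (S ⧸ 𝔞)) + c) :
    CMe 𝔞 c := by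
  apply cme_of_local
  intro Q hQ h𝔞
  by_cases hx : x ∈ Q
  · exact le_trans (CMe.of_regular hreg h Q hQ hx)
      (add_le_add (idealDepth_le_depth_localization Q (S ⧸ 𝔞) le_rfl) le_rfl)
  · exact hchart Q hQ h𝔞 hx

end Local


/-! ### Passing to the quotient ring -/

section Quotient

variable (𝔞 : Ideal S)

/-- the depth of the local ring of `S/𝔞` at `𝔮` equals the depth of `(S/𝔞)_Q` over `S_Q` -/
theorem depth_localization_quotient (𝔮 : Ideal (S ⧸ 𝔞)) [𝔮.IsPrime] (Q : Ideal S) [Q.IsPrime]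
    (hQ : Q = 𝔮.comap (Ideal.Quotient.mk 𝔞)) :
    LocCoh.depth (Localization.AtPrime Q) (LocalizedModule Q.primeCompl (S ⧸ 𝔞)) =
      LocCoh.depth (Localization.AtPrime 𝔮) (Localization.AtPrime 𝔮) := by
  rw [Groth.Agent.Lib.Helper29AdjDepthSurj.depth_localization_eq_of_surjective
    (S := S) (R := S ⧸ 𝔞) Ideal.Quotient.mk_surjective (S ⧸ 𝔞) Q 𝔮 hQ]

theorem height_eq_add_of_cm [hS : LocCoh.IsCohenMacaulayRing S] (𝔮 : Ideal (S ⧸ 𝔞)) [𝔮.IsPrime]
    (Q : Ideal S) [Q.IsPrime] (hQ : Q = 𝔮.comap (Ideal.Quotient.mk 𝔞)) :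
    Q.height = 𝔮.height + (𝔞.map (algebraMap S (Localization.AtPrime Q))).height := by
  subst hQ
  exact height_comap_eq_height_add_height_map 𝔞 𝔮

/-- a Cohen–Macaulay local ring of the quotient gives the local depth bound -/
theorem local_bound_of_cm [hS : LocCoh.IsCohenMacaulayRing S] (c : ℕ) (𝔮 : Ideal (S ⧸ 𝔞))
    [𝔮.IsPrime] (Q : Ideal S) [Q.IsPrime] (hQ : Q = 𝔮.comap (Ideal.Quotient.mk 𝔞))
    (hcm : LocCoh.IsCohenMacaulayLocalRing (Localization.AtPrime 𝔮))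
    (hc : (𝔞.map (algebraMap S (Localization.AtPrime Q))).height ≤ c) :
    Q.height ≤ LocCoh.depth (Localization.AtPrime Q) (LocalizedModule Q.primeCompl (S ⧸ 𝔞)) + c := by
  rw [depth_localization_quotient 𝔞 𝔮 Q hQ, height_eq_add_of_cm 𝔞 𝔮 Q hQ]
  have h := hcm.supportDim_eq_depth
  rw [supportDim_localization_self] at h
  have h' : 𝔮.height = LocCoh.depth (Localization.AtPrime 𝔮) (Localization.AtPrime 𝔮) :=
    WithBot.coe_injective h
  rw [h']
  exact add_le_add le_rfl hc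

/-- the quotient is Cohen–Macaulay -/
theorem isCohenMacaulayRing_quotient_of_cme [hS : LocCoh.IsCohenMacaulayRing S] (c : ℕ)
    (h : CMe 𝔞 c) (hc : (c : ℕ∞) ≤ 𝔞.height) :
    LocCoh.IsCohenMacaulayRing (S ⧸ 𝔞) := by
  refine { isCohenMacaulayLocalRing_localization := ?_ }
  intro 𝔮 h𝔮
  have hQ : (𝔮.comap (Ideal.Quotient.mk 𝔞)).IsPrime := Ideal.comap_isPrime _ _
  set Q := 𝔮.comap (Ideal.Quotient.mk 𝔞) with hQdef
  have h𝔞Q : 𝔞 ≤ Q := by
    intro a ha
    rw [hQdef, Ideal.mem_comap, Ideal.Quotient.eq_zero_iff_mem.mpr ha]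
    exact 𝔮.zero_mem
  have h1 := h.local Q
  rw [depth_localization_quotient 𝔞 𝔮 Q rfl, height_eq_add_of_cm 𝔞 𝔮 Q rfl] at h1
  have h2 : (c : ℕ∞) ≤ (𝔞.map (algebraMap S (Localization.AtPrime Q))).height := by
    rw [← IsLocalization.height_under Q.primeCompl
      (𝔞.map (algebraMap S (Localization.AtPrime Q)))]
    exact le_trans hc (Ideal.height_mono Ideal.le_comap_map)
  have h3 : 𝔮.height + (c : ℕ∞) ≤
      LocCoh.depth (Localization.AtPrime 𝔮) (Localization.AtPrime 𝔮) + c :=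
    le_trans (add_le_add le_rfl h2) h1
  have h4 : 𝔮.height ≤ LocCoh.depth (Localization.AtPrime 𝔮) (Localization.AtPrime 𝔮) :=
    (ENat.add_le_add_iff_right (ENat.natCast_ne_top c)).mp h3
  have h5 : ((LocCoh.depth (Localization.AtPrime 𝔮) (Localization.AtPrime 𝔮) : ℕ∞) :
      WithBot ℕ∞) ≤ Module.supportDim (Localization.AtPrime 𝔮) (Localization.AtPrime 𝔮) :=
    depth_le_supportDim
  refine { supportDim_eq_depth := le_antisymm ?_ h5 }
  rw [supportDim_localization_self]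
  exact WithBot.coe_le_coe.mpr h4

end Quotient

end Groth.Agent.Lib.H5b

end
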