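import Mathlib
import Groth.Prelude.Def_W4bk4grassmannianPl
import Groth.Prelude.Def_CAlgX
import Groth.Agent.Lib.H5bCoord

/-!
# Determinantal ideals as ideals of opposite cells (helper5, second run)
-/

set_option autoImplicit false
set_option linter.unusedSectionVars false

universe u

noncomputable section

open MvPolynomial W4bk4grassmannian

namespace Groth.Agent.Lib.H5b

section Rows

variable {R : Type u} [CommRing R] {r e t : ℕ}

theorem det_mem_minorIdeal_of_bijective (Z : Matrix (Fin r) (Fin e) R) (d : ℕ)
    (N : Matrix (Fin d) (Fin d) R) (ρ : Fin t → Fin d) (β : Fin t → Fin r) (γ : Fin d → Fin e)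
    (hρ : Function.Bijective ρ) (h : ∀ a k, N (ρ a) k = Z (β a) (γ k)) :
    N.det ∈ CAlgX.minorIdeal Z t := by
  have htd : t = d := by
    have := Fintype.card_of_bijective hρ
    simpa using this
  subst htd
  let ρe : Fin t ≃ Fin t := Equiv.ofBijective ρ hρ
  have hN : N = Z.submatrix (β ∘ ρe.symm) γ := by
    ext k k'
    have h1 := h (ρe.symm k) k'
    have h2 : ρ (ρe.symm k) = k := ρe.apply_symm_apply k
    rw [h2] at h1
    rw [h1]
    rfl
  rw [hN]
  unfold CAlgX.minorIdeal
  exact Ideal.subset_span ⟨(β ∘ ρe.symm, γ), rfl⟩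

/-- If `t` rows of a square matrix are rows of `Z` (with relabelled columns), its determinant lies in
the ideal of `t × t` minors of `Z`. -/
theorem det_mem_minorIdeal_of_rows (Z : Matrix (Fin r) (Fin e) R) :
    ∀ (d : ℕ) (N : Matrix (Fin d) (Fin d) R) (ρ : Fin t → Fin d) (β : Fin t → Fin r)
      (γ : Fin d → Fin e), Function.Injective ρ → (∀ a k, N (ρ a) k = Z (β a) (γ k)) →
      N.det ∈ CAlgX.minorIdeal Z t := by
  intro d
  induction d with
  | zero =>
    intro N ρ β γ hρ h
    exact det_mem_minorIdeal_of_bijective Z 0 N ρ β γ ⟨hρ, fun i => i.elim0⟩ h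
  | succ d' ih =>
    intro N ρ β γ hρ h
    by_cases hsurj : Function.Surjective ρ
    · exact det_mem_minorIdeal_of_bijective Z _ N ρ β γ ⟨hρ, hsurj⟩ h
    · rw [Function.Surjective] at hsurj
      push Not at hsurj
      obtain ⟨i, hi⟩ := hsurj
      rw [Matrix.det_succ_row N i]
      apply Ideal.sum_mem
      intro j _
      apply Ideal.mul_mem_left
      have hex : ∀ a, ∃ b, i.succAbove b = ρ a := fun a => Fin.exists_succAbove_eq (hi a)
      choose ρ' hρ' using hex
      apply ih _ ρ' β (γ ∘ j.succAbove)
      · intro a b hab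
        apply hρ
        rw [← hρ' a, ← hρ' b, hab]
      · intro a k
        rw [Matrix.submatrix_apply, hρ' a, h]
        rfl

end Rows

variable (K : Type u) [CommRing K] (d r : ℕ)

theorem cellMinor_mem_minorIdeal (t : ℕ) (hd : 0 < d) (ht : 0 < t) (htd : t ≤ d)
    (θ : Idx d (d + r)) (hθ : d ≤ (θ.1 ⟨d - t, Nat.sub_lt hd ht⟩).val) :
    cellMinor K d r θ ∈ CAlgX.minorIdeal (genMatrix K r d) t := by
  unfold cellMinor
  have hge : ∀ a : Fin t, d ≤ (θ.1 ⟨d - t + a.val, by have := a.isLt; omega⟩).val := by
    intro a
    have hmono : θ.1 ⟨d - t, Nat.sub_lt hd ht⟩ ≤ θ.1 ⟨d - t + a.val, by have := a.isLt; omega⟩ :=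
      θ.2.monotone (by rw [Fin.le_def]; simp)
    exact le_trans hθ (Fin.le_def.mp hmono)
  apply det_mem_minorIdeal_of_rows (genMatrix K r d) d _
    (fun a : Fin t => (⟨d - t + a.val, by have := a.isLt; omega⟩ : Fin d))
    (fun a : Fin t => (⟨(θ.1 ⟨d - t + a.val, by have := a.isLt; omega⟩).val - d, by
      have := (θ.1 ⟨d - t + a.val, by have := a.isLt; omega⟩).isLt
      have := hge a
      omega⟩ : Fin r)) id
  · intro a b hab
    have := congrArg Fin.val hab
    simp only at this
    exact Fin.ext (by omega)
  · intro a k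
    rw [Matrix.submatrix_apply]
    unfold cellMatrix genMatrix
    simp only [Matrix.of_apply, id_eq]
    rw [dif_neg (not_lt.mpr (hge a))]

/-! ### Minors of `Z` as minors of `[I ; Z]` -/

/-- The index of `I(p + t, p + t + r)` attached to `p` columns `c` (identity rows) and `t` rows `fs`
of `Z`. -/
def cellIdx (p t : ℕ) (c : Fin p → Fin (p + t)) (hc : StrictMono c) (fs : Idx t r) :
    Idx (p + t) (p + t + r) :=
  ⟨fun k => if h : k.val < p then Fin.castAdd r (c ⟨k.val, h⟩)
    else Fin.natAdd (p + t) (fs.1 ⟨k.val - p, by have := k.isLt; omega⟩), by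
    intro a b hab
    rw [Fin.lt_def] at hab
    beta_reduce
    by_cases ha : a.val < p
    · by_cases hb : b.val < p
      · rw [dif_pos ha, dif_pos hb, Fin.lt_def]
        simp only [Fin.val_castAdd]
        exact Fin.lt_def.mp (hc (by rw [Fin.lt_def]; exact hab))
      · rw [dif_pos ha, dif_neg hb, Fin.lt_def]
        simp only [Fin.val_castAdd, Fin.val_natAdd]
        have := (c ⟨a.val, ha⟩).isLt
        omega
    · have hb : ¬ b.val < p := by omega
      rw [dif_neg ha, dif_neg hb, Fin.lt_def]
      simp only [Fin.val_natAdd]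
      have : fs.1 ⟨a.val - p, by have := a.isLt; omega⟩ < fs.1 ⟨b.val - p, by have := b.isLt; omega⟩ :=
        fs.2 (by rw [Fin.lt_def]; simp only; omega)
      rw [Fin.lt_def] at this
      omega⟩

theorem det_submatrix_eq_sign_mul_cellMinor (p t : ℕ) (c : Fin p → Fin (p + t)) (hc : StrictMono c)
    (fs : Idx t r) (g : Fin t → Fin (p + t)) (hg : Function.Injective g)
    (hcg : ∀ k b, c k ≠ g b) :
    ∃ u : CellRing K (p + t) r, ((genMatrix K r (p + t)).submatrix fs.1 g).det =
      u * cellMinor K (p + t) r (cellIdx r p t c hc fs) := by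
  classical
  have hbij : Function.Bijective (Sum.elim c g) := by
    rw [Fintype.bijective_iff_injective_and_card]
    constructor
    · rintro (k | b) (k' | b') h
      · simp only [Sum.elim_inl] at h
        rw [hc.injective h]
      · simp only [Sum.elim_inl, Sum.elim_inr] at h
        exact absurd h (hcg k b')
      · simp only [Sum.elim_inl, Sum.elim_inr] at h
        exact absurd h.symm (hcg k' b)
      · simp only [Sum.elim_inr] at h
        rw [hg h]
    · simp
  let ε : Fin p ⊕ Fin t ≃ Fin (p + t) := Equiv.ofBijective _ hbij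
  set θ := cellIdx r p t c hc fs with hθ
  have hM : Matrix.reindex (finSumFinEquiv (m := p) (n := t)).symm ε.symm
      ((cellMatrix K (p + t) r).submatrix θ.1 id) =
      Matrix.fromBlocks 1 0 ((genMatrix K r (p + t)).submatrix fs.1 c)
        ((genMatrix K r (p + t)).submatrix fs.1 g) := by
    apply Matrix.ext
    intro x y
    rw [Matrix.reindex_apply, Matrix.submatrix_apply, Matrix.submatrix_apply, Equiv.symm_symm,
      Equiv.symm_symm, id_eq]
    have hε : ∀ z, ε z = Sum.elim c g z := fun z => rfl
    rcases x with k | b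
    · have hθk : θ.1 (finSumFinEquiv (Sum.inl k)) = Fin.castAdd r (c k) := by
        rw [hθ]
        unfold cellIdx
        simp [k.isLt]
      rw [hθk]
      unfold cellMatrix
      simp only [Matrix.of_apply, Fin.val_castAdd]
      rw [dif_pos (c k).isLt]
      rcases y with k' | b'
      · rw [hε, Sum.elim_inl, Matrix.fromBlocks_apply₁₁, Matrix.one_apply]
        by_cases hkk : k = k'
        · subst hkk
          rw [if_pos rfl, if_pos rfl]
        · rw [if_neg hkk, if_neg]
          intro h
          exact hkk (hc.injective (Fin.ext h))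
      · rw [hε, Sum.elim_inr, Matrix.fromBlocks_apply₁₂, Matrix.zero_apply, if_neg]
        intro h
        exact hcg k b' (Fin.ext h)
    · have hθb : θ.1 (finSumFinEquiv (Sum.inr b)) = Fin.natAdd (p + t) (fs.1 b) := by
        rw [hθ]
        unfold cellIdx
        simp
      rw [hθb]
      unfold cellMatrix genMatrix
      simp only [Matrix.of_apply, Fin.val_natAdd]
      rw [dif_neg (by omega)]
      have hidx : (⟨p + t + (fs.1 b).val - (p + t), by have := (fs.1 b).isLt; omega⟩ : Fin r) =
          fs.1 b := Fin.ext (by simp)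
      rcases y with k' | b'
      · rw [hε, Sum.elim_inl, Matrix.fromBlocks_apply₂₁, Matrix.submatrix_apply, Matrix.of_apply,
          hidx]
      · rw [hε, Sum.elim_inr, Matrix.fromBlocks_apply₂₂, Matrix.submatrix_apply, Matrix.of_apply,
          hidx]
  have hdet := Matrix.det_reindex (finSumFinEquiv (m := p) (n := t)).symm ε.symm
    ((cellMatrix K (p + t) r).submatrix θ.1 id)
  rw [hM, Matrix.det_fromBlocks_zero₁₂, Matrix.det_one, one_mul] at hdet
  exact ⟨_, hdet⟩

/-- the generating set on the Plücker side -/
def cellGens (t : ℕ) (hd : 0 < d) (ht : 0 < t) : Set (CellRing K d r) :=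
  {f | ∃ θ : Idx d (d + r), d ≤ (θ.1 ⟨d - t, Nat.sub_lt hd ht⟩).val ∧ f = cellMinor K d r θ}

theorem minor_mem_span_cellGens (p t : ℕ) (ht : 0 < t) (f : Fin t → Fin r)
    (g : Fin t → Fin (p + t)) :
    ((genMatrix K r (p + t)).submatrix f g).det ∈
      Ideal.span (cellGens K (p + t) r t (by omega) ht) := by
  classical
  by_cases hf : Function.Injective f
  · by_cases hg : Function.Injective g
    · -- the sorted rows
      have hfc : (Finset.univ.image f).card = t := by
        rw [Finset.card_image_of_injective _ hf, Finset.card_univ, Fintype.card_fin]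
      set fs := sortIdx t r f hfc with hfs
      have hsub : (genMatrix K r (p + t)).submatrix f g =
          ((genMatrix K r (p + t)).submatrix fs.1 g).submatrix (sortPerm f hfc) id := by
        apply Matrix.ext
        intro a b
        rw [Matrix.submatrix_apply, Matrix.submatrix_apply, Matrix.submatrix_apply, id_eq,
          sortIdx_sortPerm]
      -- the complementary columns
      have hsc : ((Finset.univ.image g)ᶜ).card = p := by
        rw [Finset.card_compl, Finset.card_image_of_injective _ hg, Finset.card_univ,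
          Fintype.card_fin, Fintype.card_fin]
        omega
      let c : Fin p → Fin (p + t) := fun k => ((Finset.univ.image g)ᶜ).orderEmbOfFin hsc k
      have hc : StrictMono c := (((Finset.univ.image g)ᶜ).orderEmbOfFin hsc).strictMono
      have hcg : ∀ k b, c k ≠ g b := by
        intro k b h
        have hmem := Finset.orderEmbOfFin_mem ((Finset.univ.image g)ᶜ) hsc k
        rw [Finset.mem_compl] at hmem
        apply hmem
        rw [Finset.mem_image]
        exact ⟨b, Finset.mem_univ _, h.symm⟩
      obtain ⟨u, hu⟩ := det_submatrix_eq_sign_mul_cellMinor K r p t c hc fs g hg hcg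
      rw [hsub, Matrix.det_permute, hu, ← mul_assoc]
      apply Ideal.mul_mem_left
      apply Ideal.subset_span
      refine ⟨cellIdx r p t c hc fs, ?_, rfl⟩
      unfold cellIdx
      simp only
      rw [dif_neg (by simp)]
      simp
    · -- two equal columns
      rw [Function.Injective] at hg
      push Not at hg
      obtain ⟨a, b, hab, hne⟩ := hg
      rw [Matrix.det_zero_of_column_eq hne]
      · exact Ideal.zero_mem _
      · intro k
        rw [Matrix.submatrix_apply, Matrix.submatrix_apply, hab]
  · rw [Function.Injective] at hf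
    push Not at hf
    obtain ⟨a, b, hab, hne⟩ := hf
    rw [Matrix.det_zero_of_row_eq hne]
    · exact Ideal.zero_mem _
    · funext k
      rw [Matrix.submatrix_apply, Matrix.submatrix_apply, hab]

/-- **The ideal of the Plücker coordinates `θ ≰ φ_t` on the opposite cell is the determinantal
ideal.** -/
theorem span_cellGens_eq_minorIdeal (t : ℕ) (hd : 0 < d) (ht : 0 < t) (htd : t ≤ d) :
    Ideal.span (cellGens K d r t hd ht) = CAlgX.minorIdeal (genMatrix K r d) t := by
  apply le_antisymm
  · rw [Ideal.span_le]
    rintro f ⟨θ, hθ, rfl⟩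
    exact cellMinor_mem_minorIdeal K d r t hd ht htd θ hθ
  · obtain ⟨p, rfl⟩ : ∃ p, d = p + t := ⟨d - t, by omega⟩
    unfold CAlgX.minorIdeal
    rw [Ideal.span_le]
    rintro _ ⟨⟨f, g⟩, rfl⟩
    exact minor_mem_span_cellGens K r p t ht f g

end Groth.Agent.Lib.H5b
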