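import Mathlib

/-!
# Flat descent of ideals: the affine algebra (helper5)

* `map_iInf_comap_eq` : for a finite family of flat `A`-algebras `B k` with ideals `I k` satisfying the
  descent condition `I l ⊗ B k = B l ⊗ I k` in `B l ⊗[A] B k`, the ideal `J = ⋂ (I k ∩ A)` extends to `I l`
  in every `B l`.
* `le_of_map_le` : for a jointly surjective (on spectra) family of flat algebras, ideals of `A` can be
  compared after extension to all the `B k`.
* `map_iInf_comap_eq_of_cover` : combination for an arbitrary family containing a finite jointly surjective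
  subfamily.
-/

set_option autoImplicit false
universe u v
open TensorProduct

namespace Groth.Agent.Lib.H5bIdealDescAlg

section L1

variable {A : Type u} [CommRing A] {K : Type v}
  (B : K → Type u) [∀ k, CommRing (B k)] [∀ k, Algebra A (B k)]
  (I : ∀ k, Ideal (B k))

/-- The descent condition for a pair of indices. -/
def Compat (A : Type u) [CommRing A] {K : Type v}
    (B : K → Type u) [∀ k, CommRing (B k)] [∀ k, Algebra A (B k)]
    (I : ∀ k, Ideal (B k)) (l k : K) : Prop :=
  (I l).map (Algebra.TensorProduct.includeLeft : B l →ₐ[A] B l ⊗[A] B k) =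
    (I k).map (Algebra.TensorProduct.includeRight : B k →ₐ[A] B l ⊗[A] B k)

lemma tmul_mk_eq_zero {l k : K} (h : Compat A B I l k) {x : B l} (hx : x ∈ I l) :
    (x ⊗ₜ[A] (Ideal.Quotient.mk (I k) 1) : B l ⊗[A] (B k ⧸ I k)) = 0 := by
  let θ : B l ⊗[A] B k →ₐ[A] B l ⊗[A] (B k ⧸ I k) :=
    Algebra.TensorProduct.map (AlgHom.id A (B l)) (Ideal.Quotient.mkₐ A (I k))
  have h1 : (I k).map (Algebra.TensorProduct.includeRight : B k →ₐ[A] B l ⊗[A] B k) ≤
      RingHom.ker θ.toRingHom := by
    rw [Ideal.map_le_iff_le_comap]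
    intro y hy
    rw [Ideal.mem_comap, RingHom.mem_ker]
    change θ ((1 : B l) ⊗ₜ[A] y) = 0
    rw [Algebra.TensorProduct.map_tmul]
    have : (Ideal.Quotient.mkₐ A (I k)) y = 0 := Ideal.Quotient.eq_zero_iff_mem.mpr hy
    rw [this, tmul_zero]
  have h2 : (x ⊗ₜ[A] (1 : B k)) ∈
      (I l).map (Algebra.TensorProduct.includeLeft : B l →ₐ[A] B l ⊗[A] B k) :=
    Ideal.mem_map_of_mem _ hx
  rw [h] at h2
  have h3 := h1 h2
  rw [RingHom.mem_ker] at h3
  change θ (x ⊗ₜ[A] (1 : B k)) = 0 at h3
  rw [Algebra.TensorProduct.map_tmul] at h3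
  simpa using h3

variable [Fintype K] [DecidableEq K]

theorem map_iInf_comap_eq [∀ k, Module.Flat A (B k)]
    (h : ∀ l k, Compat A B I l k) (l : K) :
    (⨅ k, (I k).comap (algebraMap A (B k))).map (algebraMap A (B l)) = I l := by
  apply le_antisymm
  · rw [Ideal.map_le_iff_le_comap]
    exact iInf_le _ l
  · intro x hx
    set J : Ideal A := ⨅ k, (I k).comap (algebraMap A (B k)) with hJ
    let φ : A →ₗ[A] (∀ k, B k ⧸ I k) :=
      LinearMap.pi fun k => ((Ideal.Quotient.mkₐ A (I k)).toLinearMap).comp (Algebra.linearMap A (B k))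
    have hφ : ∀ a k, φ a k = Ideal.Quotient.mk (I k) (algebraMap A (B k) a) := fun a k => rfl
    have hker : LinearMap.ker φ = J := by
      ext a
      rw [LinearMap.mem_ker, hJ, Ideal.mem_iInf, funext_iff]
      refine forall_congr' fun k => ?_
      rw [hφ, Pi.zero_apply, Ideal.Quotient.eq_zero_iff_mem, Ideal.mem_comap]
    let φ' : (A ⧸ J) →ₗ[A] (∀ k, B k ⧸ I k) := Submodule.liftQ J φ hker.ge
    have hφ' : Function.Injective φ' := by
      rw [← LinearMap.ker_eq_bot]
      exact Submodule.ker_liftQ_eq_bot _ _ _ hker.le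
    have hinj := Module.Flat.lTensor_preserves_injective_linearMap (M := B l) φ' hφ'
    have hz : (x ⊗ₜ[A] (Ideal.Quotient.mk J 1) : B l ⊗[A] (A ⧸ J)) = 0 := by
      apply hinj
      rw [map_zero, LinearMap.lTensor_tmul]
      apply (TensorProduct.piRight A A (B l) (fun k => B k ⧸ I k)).injective
      rw [map_zero]
      funext k
      rw [TensorProduct.piRight_apply, TensorProduct.piRightHom_tmul]
      have e : φ' (Ideal.Quotient.mk J 1) k = Ideal.Quotient.mk (I k) 1 := by
        change φ 1 k = _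
        rw [hφ, map_one]
      change x ⊗ₜ[A] φ' ((Ideal.Quotient.mk J) 1) k = 0
      rw [e]
      exact tmul_mk_eq_zero B I (h l k) hx
    have h4 := congrArg (TensorProduct.tensorQuotEquivQuotSMul (B l) J) hz
    rw [TensorProduct.tensorQuotEquivQuotSMul_tmul_mk, map_zero, one_smul,
      Submodule.Quotient.mk_eq_zero, Ideal.smul_top_eq_map] at h4
    exact h4

end L1

section L2

variable {A : Type u} [CommRing A] {K : Type v}
  (B : K → Type u) [∀ k, CommRing (B k)] [∀ k, Algebra A (B k)]

/-- Joint surjectivity on prime spectra. -/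
def JointlySurj : Prop :=
  ∀ p : PrimeSpectrum A, ∃ (k : K) (q : PrimeSpectrum (B k)), q.asIdeal.comap (algebraMap A (B k)) = p.asIdeal

lemma rid_lTensor_subtype_mem {M : Type u} [CommRing M] [Algebra A M] (c : Ideal A)
    (z : M ⊗[A] c) :
    TensorProduct.rid A M ((LinearMap.lTensor M (Submodule.subtype c)) z) ∈ c.map (algebraMap A M) := by
  induction z using TensorProduct.induction_on with
  | zero => simp
  | tmul b r =>
    rw [LinearMap.lTensor_tmul, TensorProduct.rid_tmul, Submodule.subtype_apply, Algebra.smul_def]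
    exact Ideal.mul_mem_right _ _ (Ideal.mem_map_of_mem _ r.2)
  | add z w hz hw =>
    rw [map_add, map_add]
    exact Ideal.add_mem _ hz hw

theorem le_of_map_le [∀ k, Module.Flat A (B k)] (hs : JointlySurj (A := A) B) (J J' : Ideal A)
    (h : ∀ k, J.map (algebraMap A (B k)) ≤ J'.map (algebraMap A (B k))) : J ≤ J' := by
  intro a ha
  let μ : A →ₗ[A] A ⧸ J' := (Submodule.mkQ J').comp (LinearMap.toSpanSingleton A A a)
  have hμ : ∀ r, μ r = Ideal.Quotient.mk J' (r * a) := fun r => rfl
  let c : Ideal A := LinearMap.ker μ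
  by_contra hne
  have hc : c ≠ ⊤ := by
    intro hc
    have : (1 : A) ∈ c := hc ▸ Submodule.mem_top
    rw [LinearMap.mem_ker, hμ, one_mul, Ideal.Quotient.eq_zero_iff_mem] at this
    exact hne this
  obtain ⟨m, hm, hcm⟩ := Ideal.exists_le_maximal c hc
  obtain ⟨k, q, hq⟩ := hs ⟨m, hm.isPrime⟩
  have hmem : ((1 : B k) ⊗ₜ[A] (1 : A)) ∈ LinearMap.ker (LinearMap.lTensor (B k) μ) := by
    rw [LinearMap.mem_ker, LinearMap.lTensor_tmul, hμ, one_mul]
    apply (TensorProduct.tensorQuotEquivQuotSMul (B k) J').injective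
    rw [TensorProduct.tensorQuotEquivQuotSMul_tmul_mk, map_zero, Submodule.Quotient.mk_eq_zero,
      Ideal.smul_top_eq_map, Algebra.smul_def, mul_one]
    exact h k (Ideal.mem_map_of_mem _ ha)
  have hk := Module.Flat.ker_lTensor_eq (R := A) A (B k) μ
  have hmem' : ((1 : B k) ⊗ₜ[A] (1 : A)) ∈
      LinearMap.range (LinearMap.lTensor (B k) (LinearMap.ker μ).subtype) := by
    have := hk ▸ hmem
    exact this
  obtain ⟨z, hz⟩ := hmem'
  have h1 := rid_lTensor_subtype_mem (M := B k) c z
  rw [show (LinearMap.lTensor (B k) (Submodule.subtype c)) z = (1 : B k) ⊗ₜ[A] (1 : A) from hz,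
    TensorProduct.rid_tmul, one_smul] at h1
  have h2 : c.map (algebraMap A (B k)) ≤ q.asIdeal := by
    rw [Ideal.map_le_iff_le_comap, hq]
    exact hcm
  exact q.2.ne_top ((Ideal.eq_top_iff_one _).mpr (h2 h1))

end L2

section L3

variable {A : Type u} [CommRing A] {T : Type v}
  (B : T → Type u) [∀ t, CommRing (B t)] [∀ t, Algebra A (B t)] [∀ t, Module.Flat A (B t)]
  (I : ∀ t, Ideal (B t))

theorem eq_of_map_eq (s : Set T) (hs : JointlySurj (A := A) (fun t : s => B t)) (J J' : Ideal A)
    (h : ∀ t ∈ s, J.map (algebraMap A (B t)) = J'.map (algebraMap A (B t))) : J = J' :=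
  le_antisymm (le_of_map_le (fun t : s => B t) hs J J' fun t => (h t.1 t.2).le)
    (le_of_map_le (fun t : s => B t) hs J' J fun t => (h t.1 t.2).ge)

open Classical in
theorem map_iInf_comap_eq_of_cover (h : ∀ t t', Compat A B I t t')
    (s : Finset T) (hs : JointlySurj (A := A) (fun t : (s : Set T) => B t)) (t : T) :
    (⨅ t', (I t').comap (algebraMap A (B t'))).map (algebraMap A (B t)) = I t := by
  let Js : Finset T → Ideal A := fun s' => ⨅ k : s', (I k).comap (algebraMap A (B k))
  have hL1 : ∀ (s' : Finset T) (k : T), k ∈ s' → (Js s').map (algebraMap A (B k)) = I k := by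
    intro s' k hk
    exact map_iInf_comap_eq (A := A) (K := s') (fun k : s' => B k) (fun k : s' => I k)
      (fun l k => h l k) ⟨k, hk⟩
  have hmono : ∀ s' : Finset T, s ⊆ s' → Js s' = Js s := by
    intro s' hss
    refine eq_of_map_eq B (s : Set T) hs _ _ fun k hk => ?_
    rw [hL1 s' k (hss hk), hL1 s k hk]
  have hle : ∀ t' : T, Js s ≤ (I t').comap (algebraMap A (B t')) := by
    intro t'
    rw [← hmono (insert t' s) (Finset.subset_insert _ _)]
    exact iInf_le (fun k : (insert t' s : Finset T) => (I k).comap (algebraMap A (B k)))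
      ⟨t', Finset.mem_insert_self _ _⟩
  have heq : (⨅ t', (I t').comap (algebraMap A (B t'))) = Js s :=
    le_antisymm (le_iInf fun k => iInf_le _ k.1) (le_iInf hle)
  rw [heq, ← hmono (insert t s) (Finset.subset_insert _ _)]
  exact hL1 _ t (Finset.mem_insert_self _ _)

end L3

end Groth.Agent.Lib.H5bIdealDescAlg
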