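import Mathlib
import Groth.Agent.Lib.H5bIdealDescAlg
import Groth.Agent.Lib.Helper20EffCartier

set_option autoImplicit false
set_option linter.style.haveILetI false

universe u
open CategoryTheory CategoryTheory.Limits AlgebraicGeometry TensorProduct

namespace Groth.Agent.Lib.H5bIdealDesc

open Groth.Agent.Lib.H5bIdealDescAlg

/-- `appLE` of `Spec.map φ ≫ fromSpec` from the whole spectrum. -/
lemma appLE_SpecMap_fromSpec {X : Scheme.{u}} {V : X.Opens} (hV : IsAffineOpen V)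
    {R : CommRingCat.{u}} (φ : Γ(X, V) ⟶ R)
    (e : (⊤ : (Spec R).Opens) ≤ (Spec.map φ ≫ hV.fromSpec) ⁻¹ᵁ V) :
    (Spec.map φ ≫ hV.fromSpec).appLE V ⊤ e = φ ≫ (Scheme.ΓSpecIso R).inv := by
  apply Spec.map_injective
  rw [← cancel_mono hV.fromSpec]
  rw [IsAffineOpen.SpecMap_appLE_fromSpec _ hV (isAffineOpen_top (Spec R)) e,
    IsAffineOpen.fromSpec_top, Scheme.isoSpec_Spec_inv, Spec.map_comp, Category.assoc]

theorem compat_of_comap_eq {X Y P : Scheme.{u}} (g : X ⟶ P) (g' : Y ⟶ P)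
    (I : X.IdealSheafData) (I' : Y.IdealSheafData)
    (h : I.comap (pullback.fst g g') = I'.comap (pullback.snd g g'))
    {U : P.Opens} (hU : IsAffineOpen U) {V : X.Opens} (hV : IsAffineOpen V)
    {V' : Y.Opens} (hV' : IsAffineOpen V')
    (e : V ≤ g ⁻¹ᵁ U) (e' : V' ≤ g' ⁻¹ᵁ U) :
    letI := (g.appLE U V e).hom.toAlgebra
    letI := (g'.appLE U V' e').hom.toAlgebra
    (I.ideal ⟨V, hV⟩).map
        (Algebra.TensorProduct.includeLeft : Γ(X, V) →ₐ[Γ(P, U)] Γ(X, V) ⊗[Γ(P, U)] Γ(Y, V')) =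
      (I'.ideal ⟨V', hV'⟩).map
        (Algebra.TensorProduct.includeRight : Γ(Y, V') →ₐ[Γ(P, U)] Γ(X, V) ⊗[Γ(P, U)] Γ(Y, V')) := by
  letI := (g.appLE U V e).hom.toAlgebra
  letI := (g'.appLE U V' e').hom.toAlgebra
  let R : CommRingCat.{u} := CommRingCat.of (Γ(X, V) ⊗[Γ(P, U)] Γ(Y, V'))
  let φL : Γ(X, V) ⟶ R := CommRingCat.ofHom
    (Algebra.TensorProduct.includeLeft : Γ(X, V) →ₐ[Γ(P, U)] Γ(X, V) ⊗[Γ(P, U)] Γ(Y, V')).toRingHom
  let φR : Γ(Y, V') ⟶ R := CommRingCat.ofHom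
    (Algebra.TensorProduct.includeRight : Γ(Y, V') →ₐ[Γ(P, U)] Γ(X, V) ⊗[Γ(P, U)] Γ(Y, V')).toRingHom
  have hφ : g.appLE U V e ≫ φL = g'.appLE U V' e' ≫ φR := by
    ext a
    change (algebraMap Γ(P, U) Γ(X, V) a) ⊗ₜ[Γ(P, U)] (1 : Γ(Y, V')) =
      (1 : Γ(X, V)) ⊗ₜ[Γ(P, U)] (algebraMap Γ(P, U) Γ(Y, V') a)
    rw [Algebra.algebraMap_eq_smul_one, Algebra.algebraMap_eq_smul_one, TensorProduct.smul_tmul]
  let a : Spec R ⟶ X := Spec.map φL ≫ hV.fromSpec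
  let b : Spec R ⟶ Y := Spec.map φR ≫ hV'.fromSpec
  have hab : a ≫ g = b ≫ g' := by
    change (Spec.map φL ≫ hV.fromSpec) ≫ g = (Spec.map φR ≫ hV'.fromSpec) ≫ g'
    rw [Category.assoc, Category.assoc, ← IsAffineOpen.SpecMap_appLE_fromSpec g hU hV e,
      ← IsAffineOpen.SpecMap_appLE_fromSpec g' hU hV' e', ← Spec.map_comp_assoc,
      ← Spec.map_comp_assoc, hφ]
  let τ : Spec R ⟶ pullback g g' := pullback.lift a b hab
  have h1 : I.comap a = I'.comap b := by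
    have := congrArg (fun K => K.comap τ) h
    simp only [← Scheme.IdealSheafData.comap_comp] at this
    rwa [pullback.lift_fst, pullback.lift_snd] at this
  have ea : (⊤ : (Spec R).Opens) ≤ a ⁻¹ᵁ V := by
    intro x _
    change (Spec.map φL ≫ hV.fromSpec) x ∈ V
    rw [Scheme.Hom.comp_apply]
    exact hV.range_fromSpec.subset (Set.mem_range_self _)
  have eb : (⊤ : (Spec R).Opens) ≤ b ⁻¹ᵁ V' := by
    intro x _
    change (Spec.map φR ≫ hV'.fromSpec) x ∈ V'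
    rw [Scheme.Hom.comp_apply]
    exact hV'.range_fromSpec.subset (Set.mem_range_self _)
  have h2 := congrArg (fun K => K.ideal ⟨⊤, isAffineOpen_top (Spec R)⟩) h1
  simp only at h2
  rw [Groth.Agent.Lib.Helper20.EffCartier.ideal_comap_eq_map a I (isAffineOpen_top (Spec R)) hV ea,
    Groth.Agent.Lib.Helper20.EffCartier.ideal_comap_eq_map b I' (isAffineOpen_top (Spec R)) hV' eb,
    appLE_SpecMap_fromSpec hV φL ea, appLE_SpecMap_fromSpec hV' φR eb] at h2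
  rw [CommRingCat.hom_comp, CommRingCat.hom_comp, ← Ideal.map_map, ← Ideal.map_map] at h2
  have hbij : Function.Bijective (Scheme.ΓSpecIso R).inv.hom :=
    ConcreteCategory.bijective_of_isIso (Scheme.ΓSpecIso R).inv
  have h3 := congrArg (Ideal.comap (Scheme.ΓSpecIso R).inv.hom) h2
  rw [Ideal.comap_map_of_bijective _ hbij, Ideal.comap_map_of_bijective _ hbij] at h3
  exact h3

lemma exists_prime_of_mem {X P : Scheme.{u}} (g : X ⟶ P) {U : P.Opens} (hU : IsAffineOpen U)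
    {V : X.Opens} (hV : IsAffineOpen V) (e : V ≤ g ⁻¹ᵁ U) (p : PrimeSpectrum Γ(P, U))
    (y : X) (hy : y ∈ V) (hgy : g y = hU.fromSpec p) :
    ∃ q : PrimeSpectrum Γ(X, V), q.asIdeal.comap (g.appLE U V e).hom = p.asIdeal := by
  obtain ⟨q, hq⟩ : y ∈ Set.range hV.fromSpec := by rw [hV.range_fromSpec]; exact hy
  refine ⟨q, ?_⟩
  have h1 : hU.fromSpec (Spec.map (g.appLE U V e) q) = hU.fromSpec p := by
    rw [← Scheme.Hom.comp_apply, IsAffineOpen.SpecMap_appLE_fromSpec g hU hV e,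
      Scheme.Hom.comp_apply, hq, hgy]
  have h2 : Spec.map (g.appLE U V e) q = p := hU.fromSpec.isOpenEmbedding.injective h1
  rw [← h2]
  rfl

section Main

variable {P : Scheme.{u}} {ι : Type u} {Q : ι → Scheme.{u}} (g : ∀ i, Q i ⟶ P)

/-- Affine charts of the family lying over an affine open of the base. -/
structure Chart (U : P.affineOpens) : Type u where
  i : ι
  V : (Q i).affineOpens
  le : V.1 ≤ (g i) ⁻¹ᵁ U.1

variable {g}

/-- The descended ideal over an affine open. -/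
def J₀ (g : ∀ i, Q i ⟶ P) (I : ∀ i, (Q i).IdealSheafData) (U : P.affineOpens) : Ideal Γ(P, U.1) :=
  ⨅ t : Chart g U, ((I t.i).ideal t.V).comap ((g t.i).appLE U.1 t.V.1 t.le).hom

/-- The hypotheses of the descent theorem, in elementary form. -/
structure Hyp (g : ∀ i, Q i ⟶ P) (I : ∀ i, (Q i).IdealSheafData) : Prop where
  flat : ∀ i, Flat (g i)
  cover : ∀ U : P.affineOpens, ∃ s : Finset (Chart g U),
    ∀ x ∈ U.1, ∃ t ∈ s, ∃ y ∈ t.V.1, g t.i y = x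
  compat : ∀ i j, (I i).comap (pullback.fst (g i) (g j)) = (I j).comap (pullback.snd (g i) (g j))

variable {I : ∀ i, (Q i).IdealSheafData}

lemma jointlySurj (U : P.affineOpens) (s : Finset (Chart g U))
    (hs : ∀ x ∈ U.1, ∃ t ∈ s, ∃ y ∈ t.V.1, g t.i y = x) :
    letI : ∀ t : Chart g U, Algebra Γ(P, U.1) Γ(Q t.i, t.V.1) :=
      fun t => ((g t.i).appLE U.1 t.V.1 t.le).hom.toAlgebra
    JointlySurj (A := Γ(P, U.1)) (fun t : (s : Set (Chart g U)) => Γ(Q t.1.i, t.1.V.1)) := by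
  intro p
  obtain ⟨t, hts, y, hy, hgy⟩ := hs (U.2.fromSpec p) (by
    have := U.2.range_fromSpec
    exact this.subset (Set.mem_range_self _))
  obtain ⟨q, hq⟩ := exists_prime_of_mem (g t.i) U.2 t.V.2 t.le p y hy hgy
  exact ⟨⟨t, hts⟩, q, hq⟩

theorem map_J₀ (hyp : Hyp g I) (U : P.affineOpens) (t : Chart g U) :
    (J₀ g I U).map ((g t.i).appLE U.1 t.V.1 t.le).hom = (I t.i).ideal t.V := by
  letI : ∀ t : Chart g U, Algebra Γ(P, U.1) Γ(Q t.i, t.V.1) :=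
    fun t => ((g t.i).appLE U.1 t.V.1 t.le).hom.toAlgebra
  haveI : ∀ t : Chart g U, Module.Flat Γ(P, U.1) Γ(Q t.i, t.V.1) := fun t =>
    haveI := hyp.flat t.i
    Scheme.Hom.flat_appLE (g t.i) U.2 t.V.2 t.le
  obtain ⟨s, hs⟩ := hyp.cover U
  exact map_iInf_comap_eq_of_cover (A := Γ(P, U.1)) (fun t : Chart g U => Γ(Q t.i, t.V.1))
    (fun t => (I t.i).ideal t.V)
    (fun t t' => compat_of_comap_eq (g t.i) (g t'.i) (I t.i) (I t'.i) (hyp.compat t.i t'.i)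
      U.2 t.V.2 t'.V.2 t.le t'.le) s (jointlySurj U s hs) t

/-- Two ideals over an affine open with the same extension to all charts are equal. -/
theorem eq_of_map_chart_eq (hyp : Hyp g I) (U : P.affineOpens) (J J' : Ideal Γ(P, U.1))
    (h : ∀ t : Chart g U, J.map ((g t.i).appLE U.1 t.V.1 t.le).hom =
      J'.map ((g t.i).appLE U.1 t.V.1 t.le).hom) : J = J' := by
  letI : ∀ t : Chart g U, Algebra Γ(P, U.1) Γ(Q t.i, t.V.1) :=
    fun t => ((g t.i).appLE U.1 t.V.1 t.le).hom.toAlgebra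
  haveI : ∀ t : Chart g U, Module.Flat Γ(P, U.1) Γ(Q t.i, t.V.1) := fun t =>
    haveI := hyp.flat t.i
    Scheme.Hom.flat_appLE (g t.i) U.2 t.V.2 t.le
  obtain ⟨s, hs⟩ := hyp.cover U
  exact eq_of_map_eq (A := Γ(P, U.1)) (fun t : Chart g U => Γ(Q t.i, t.V.1)) (s : Set (Chart g U))
    (jointlySurj U s hs) J J' fun t _ => h t

/-- The descended ideal sheaf. -/
def Jdesc (hyp : Hyp g I) : P.IdealSheafData where
  ideal := J₀ g I
  map_ideal_basicOpen U f := by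
    refine eq_of_map_chart_eq hyp (P.affineBasicOpen f) _ _ fun t' => ?_
    have hle : t'.V.1 ≤ (g t'.i) ⁻¹ᵁ U.1 :=
      t'.le.trans ((TopologicalSpace.Opens.map (g t'.i).base).map (homOfLE (P.basicOpen_le f))).le
    have e1 : P.presheaf.map (homOfLE (P.basicOpen_le f)).op ≫
        (g t'.i).appLE (P.affineBasicOpen f).1 t'.V.1 t'.le = (g t'.i).appLE U.1 t'.V.1 hle :=
      Scheme.Hom.map_appLE _ _ _
    have e2 : ((J₀ g I U).map (P.presheaf.map (homOfLE (P.basicOpen_le f)).op).hom).map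
        ((g t'.i).appLE (P.affineBasicOpen f).1 t'.V.1 t'.le).hom =
        (J₀ g I U).map ((g t'.i).appLE U.1 t'.V.1 hle).hom :=
      (Ideal.map_map _ _).trans
        (congrArg (fun φ : Γ(P, U.1) ⟶ Γ(Q t'.i, t'.V.1) => (J₀ g I U).map φ.hom) e1)
    exact e2.trans ((map_J₀ hyp U ⟨t'.i, t'.V, hle⟩).trans
      (map_J₀ hyp (P.affineBasicOpen f) t').symm)

theorem Jdesc_comap (hyp : Hyp g I) (i : ι) : (Jdesc hyp).comap (g i) = I i := by
  refine Scheme.IdealSheafData.ext_of_iSup_eq_top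
    (ι := Σ U : P.affineOpens, {V : (Q i).affineOpens // V.1 ≤ (g i) ⁻¹ᵁ U.1})
    (fun p => p.2.1) ?_ ?_
  · rw [eq_top_iff]
    intro y _
    obtain ⟨_, ⟨U, hU, rfl⟩, hyU, -⟩ :=
      P.isBasis_affineOpens.exists_subset_of_mem_open (Set.mem_univ (g i y)) isOpen_univ
    obtain ⟨_, ⟨V, hV, rfl⟩, hyV, hVU⟩ :=
      (Q i).isBasis_affineOpens.exists_subset_of_mem_open (show y ∈ ((g i) ⁻¹ᵁ U : Set (Q i)) from hyU)
        ((g i) ⁻¹ᵁ U).2
    exact TopologicalSpace.Opens.mem_iSup.mpr ⟨⟨⟨U, hU⟩, ⟨⟨V, hV⟩, hVU⟩⟩, hyV⟩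
  · rintro ⟨U, V, hVU⟩
    change ((Jdesc hyp).comap (g i)).ideal ⟨V.1, V.2⟩ = _
    rw [Groth.Agent.Lib.Helper20.EffCartier.ideal_comap_eq_map (g i) (Jdesc hyp) V.2 U.2 hVU]
    exact map_J₀ hyp U ⟨i, V, hVU⟩

theorem Jdesc_unique (hyp : Hyp g I) (J : P.IdealSheafData) (hJ : ∀ i, J.comap (g i) = I i) :
    J = Jdesc hyp := by
  ext U : 2
  refine eq_of_map_chart_eq hyp U _ _ fun t => ?_
  change _ = (J₀ g I U).map _
  rw [map_J₀ hyp U t, ← hJ t.i]
  exact (Groth.Agent.Lib.Helper20.EffCartier.ideal_comap_eq_map (g t.i) J t.V.2 U.2 t.le).symm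

end Main

/-- An fpqc covering family satisfies the elementary hypotheses. -/
theorem hyp_of_fpqc {P : Scheme.{u}} {ι : Type u} {Q : ι → Scheme.{u}} (g : ∀ i, Q i ⟶ P)
    (hg : Presieve.ofArrows Q g ∈ Scheme.fpqcPrecoverage P)
    (I : ∀ i, (Q i).IdealSheafData)
    (h : ∀ i j, (I i).comap (pullback.fst (g i) (g j)) = (I j).comap (pullback.snd (g i) (g j))) :
    Hyp g I := by
  have hg1 : Presieve.ofArrows Q g ∈ Scheme.qcPrecoverage P := hg.1
  have hg2 : Presieve.ofArrows Q g ∈ Scheme.precoverage @Flat P := hg.2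
  rw [Scheme.ofArrows_mem_precoverage_iff] at hg2
  let E : PreZeroHypercover.{u} P := ⟨ι, Q, g⟩
  have hE : QuasiCompactCover E := Scheme.presieve₀_mem_qcPrecoverage_iff.mp hg1
  refine ⟨hg2.2, fun U => ?_, h⟩
  obtain ⟨n, f, V, hV, hVU⟩ := QuasiCompactCover.exists_isAffineOpen_of_isCompact E
    (U := U.1) U.2.isCompact
  have hle : ∀ k : Fin n, (V k) ≤ (g (f k)) ⁻¹ᵁ U.1 := by
    intro k y hy
    have : (g (f k)) y ∈ ⋃ i, E.f (f i) '' (V i) :=
      Set.mem_iUnion.mpr ⟨k, ⟨y, hy, rfl⟩⟩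
    rw [hVU] at this
    exact this
  classical
  refine ⟨Finset.univ.image fun k : Fin n => ⟨f k, ⟨V k, hV k⟩, hle k⟩, fun x hx => ?_⟩
  have hx' : x ∈ ⋃ i, E.f (f i) '' (V i) := by rw [hVU]; exact hx
  obtain ⟨k, y, hy, hyx⟩ := Set.mem_iUnion.mp hx'
  exact ⟨⟨f k, ⟨V k, hV k⟩, hle k⟩, Finset.mem_image_of_mem _ (Finset.mem_univ k), y, hy, hyx⟩

end Groth.Agent.Lib.H5bIdealDesc
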