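import Mathlib
import Groth.Agent.Lib.H5bIdealDesc
import Groth.Agent.Lib.Helper11RedCl
import Groth.Agent.Lib.Helper12Reduced

/-!
# Descent of ideal sheaves along a single fppf morphism; étale pullback of vanishing ideals (helper5)
-/

set_option autoImplicit false
set_option linter.style.haveILetI false

universe u
open CategoryTheory CategoryTheory.Limits AlgebraicGeometry TopologicalSpace

namespace Groth.Agent.Lib.H5bIdealDesc

section Single

variable {W T : Scheme.{u}} (p : W ⟶ T) [Flat p] [Surjective p] [LocallyOfFinitePresentation p]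

lemma single_mem_fpqc :
    Presieve.ofArrows (fun _ : PUnit.{u + 1} => W) (fun _ => p) ∈ Scheme.fpqcPrecoverage T := by
  rw [Presieve.ofArrows_pUnit]
  exact Scheme.fppfPrecoverage_le_fpqcPrecoverage _ (Scheme.Hom.singleton_mem_fppfPrecoverage p)

/-- Descent of ideal sheaves along a single fppf morphism: existence. -/
theorem exists_comap_eq_single (I : W.IdealSheafData)
    (h : I.comap (pullback.fst p p) = I.comap (pullback.snd p p)) :
    ∃ J : T.IdealSheafData, J.comap p = I := by
  have hyp := hyp_of_fpqc (fun _ : PUnit.{u + 1} => p) (single_mem_fpqc p) (fun _ => I)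
    (fun _ _ => h)
  exact ⟨Jdesc hyp, Jdesc_comap hyp PUnit.unit⟩

/-- Descent of ideal sheaves along a single fppf morphism: uniqueness. -/
theorem comap_injective_single {J J' : T.IdealSheafData} (h : J.comap p = J'.comap p) : J = J' := by
  have hyp := hyp_of_fpqc (fun _ : PUnit.{u + 1} => p) (single_mem_fpqc p) (fun _ => J'.comap p)
    (fun _ _ => by
      rw [← Scheme.IdealSheafData.comap_comp, ← Scheme.IdealSheafData.comap_comp, pullback.condition])
  exact (Jdesc_unique hyp J (fun _ => h)).trans (Jdesc_unique hyp J' (fun _ => rfl)).symm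

end Single

/-- `I.comap f = ⊥` iff `I ≤ f.ker`. -/
lemma comap_eq_bot_iff {X Y : Scheme.{u}} (f : X ⟶ Y) (I : Y.IdealSheafData) :
    I.comap f = ⊥ ↔ I ≤ f.ker := by
  rw [← le_bot_iff, ← Scheme.IdealSheafData.le_map_iff_comap_le, Scheme.IdealSheafData.map_bot]

/-- The pullback of the vanishing ideal of a closed set along an étale morphism is the vanishing ideal
of the preimage. -/
theorem comap_vanishingIdeal_of_etale {R U : Scheme.{u}} (e : R ⟶ U) [Etale e] (C : Closeds U) :
    (Scheme.IdealSheafData.vanishingIdeal C).comap e =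
      Scheme.IdealSheafData.vanishingIdeal (C.preimage e.continuous) := by
  set I := Scheme.IdealSheafData.vanishingIdeal C with hI
  haveI : IsReduced I.subscheme := Groth.Agent.Lib.Helper11RedCl.isReduced_subscheme_vanishingIdeal C
  haveI : Smooth (pullback.snd e I.subschemeι) := inferInstance
  haveI : IsReduced (pullback e I.subschemeι) :=
    Groth.Agent.Lib.Helper12.Reduced.isReduced_of_smooth (pullback.snd e I.subschemeι)
  change (pullback.fst e I.subschemeι).ker = _
  rw [Groth.Agent.Lib.Helper11RedCl.ker_eq_of_isReduced]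
  congr 1
  apply Closeds.ext
  rw [Closeds.coe_closure, Scheme.Pullback.range_fst,
    Groth.Agent.Lib.Helper11RedCl.range_subschemeι_vanishingIdeal]
  exact (C.isClosed.preimage e.continuous).closure_eq

end Groth.Agent.Lib.H5bIdealDesc
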