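-- helper8: cancellation for morphisms representable by algebraic spaces with a property.
import Mathlib
import Groth.Agent.Lib.Helper15DiagOfComp
import Groth.Agent.Lib.Helper15SpMapRep
import Groth.Agent.Lib.Helper15FpSwap

set_option autoImplicit false
set_option backward.isDefEq.respectTransparency false
set_option backward.isDefEq.respectTransparency.types false
open CategoryTheory CategoryTheory.Functor CategoryTheory.Limits Opposite AlgebraicGeometry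

universe u

namespace Groth.Agent.Lib.Helper8DiagCancel

open Groth.Agent.Lib.Helper17 Groth.Agent.Lib.Helper15PshFib Groth.Agent.Lib.Helper15RepComp
  Groth.Agent.Lib.Helper15RepPsh Groth.Agent.Lib.Helper15DiagBase
  Groth.Agent.Lib.Helper15SpMapRep

section L

variable {S : Scheme.{u}}

/-- `spMapOfOver` of a composite with the functor of a map of sheaves. -/
theorem spMapOfOver_ofSpMap_comp {F G : AlgSp.Sp S} {U : Over S} (a : F ⟶ G)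
    (Ψ : AlgSt.ofSp G ⥤ᵇ FibCat.overCat U) :
    AlgSt.spMapOfOver (BasedFunctor.comp (AlgSt.ofSpMap a) Ψ) = a ≫ AlgSt.spMapOfOver Ψ := by
  apply ObjectProperty.hom_ext
  apply NatTrans.ext
  funext T
  ext x
  rfl

end L

section Cancel

variable {S : Scheme.{u}} {𝒳 𝒴 𝒵 : AlgSt.Cat S}

/-- Cancellation: if `b` and `f ≫ b` are representable by algebraic spaces with `P`, and `P` is
stable under base change and has the cancellation property, then `f` is representable by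
algebraic spaces with `P`. -/
theorem repByAlgSpWith_cancel (P : MorphismProperty (AlgSp.Sp S))
    (hPb : ∀ ⦃X₁ Y₁ X₂ Y₂ : AlgSp.Sp S⦄, AlgSp.IsAlgSpace X₁ → AlgSp.IsAlgSpace Y₁ → AlgSp.IsAlgSpace X₂ →
      AlgSp.IsAlgSpace Y₂ → ∀ (a : X₁ ⟶ Y₁) (b : Y₂ ⟶ Y₁) (a' : X₂ ⟶ Y₂) (b' : X₂ ⟶ X₁),
      IsPullback b' a' a b → P a → P a')
    (hcancel : ∀ ⦃X Y Z : AlgSp.Sp S⦄, AlgSp.IsAlgSpace X → AlgSp.IsAlgSpace Y → AlgSp.IsAlgSpace Z →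
      ∀ (a : X ⟶ Y) (b : Y ⟶ Z), P b → P (a ≫ b) → P a)
    (f : 𝒳 ⥤ᵇ 𝒴) (b : 𝒴 ⥤ᵇ 𝒵) (hb : AlgSt.RepByAlgSpWith P b)
    (hfb : AlgSt.RepByAlgSpWith P (BasedFunctor.comp f b)) : AlgSt.RepByAlgSpWith P f := by
  intro U y
  let z : FibCat.overCat U ⥤ᵇ 𝒵 := BasedFunctor.comp y b
  obtain ⟨G, e_G, he_G, hPβ⟩ := hb U z
  obtain ⟨H, E₂, hE₂, hPα⟩ := hfb U z
  let yA : FibCat.fp z b ⥤ᵇ 𝒴 := FibCat.fpSnd z b
  -- inverse of pasteR
  obtain ⟨R', hR', -, ⟨ρ⟩⟩ := IsEquivOver.exists_inverse_isEquivOver' (pasteR z f b)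
    (isEquivOver_pasteR z f b)
  obtain ⟨e_G', he_G', -, ⟨γ⟩⟩ := IsEquivOver.exists_inverse_isEquivOver' e_G he_G
  let E₁ : AlgSt.ofSp H.obj ⥤ᵇ FibCat.fp yA f := BasedFunctor.comp E₂ R'
  have hE₁ : FibCat.IsEquivOver E₁ := IsEquivOver.comp _ _ hE₂ hR'
  let Φ : AlgSt.ofSp H.obj ⥤ᵇ AlgSt.ofSp G.obj :=
    BasedFunctor.comp E₁ (BasedFunctor.comp (FibCat.fpFst yA f) e_G')
  let a₀ : H.obj ⟶ G.obj := ObjectProperty.homMk (pshMapOf Φ)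
  -- the square
  let sq : BasedFunctor.comp (AlgSt.ofSpMap a₀) e_G ≅ BasedFunctor.comp E₁ (FibCat.fpFst yA f) :=
    (whiskerRightIso (ofPshMapIso Φ) e_G : _ ≅ BasedFunctor.comp Φ e_G) ≪≫
      (whiskerLeftIso (BasedFunctor.comp E₁ (FibCat.fpFst yA f)) γ : _ ≅ _)
  have hα : AlgSt.spMapOfOver (BasedFunctor.comp E₂ (FibCat.fpFst z (BasedFunctor.comp f b))) =
      a₀ ≫ AlgSt.spMapOfOver (BasedFunctor.comp e_G (FibCat.fpFst z b)) := by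
    rw [← spMapOfOver_ofSpMap_comp]
    apply spMapOfOver_eq_of_iso
    refine ?_ ≪≫ (whiskerRightIso sq (FibCat.fpFst z b)).symm
    exact (whiskerLeftIso E₂ (whiskerRightIso ρ (FibCat.fpFst z (BasedFunctor.comp f b)))).symm
  have hPa : P a₀ := by
    refine hcancel H.property G.property (AlgSp.IsAlgSpace.yon_obj U) a₀ _ hPβ ?_
    rw [← hα]
    exact hPα
  have hA : AlgSt.RepByAlgSpWith P (FibCat.fpFst yA f) :=
    (repByAlgSpWith_of_square P (FibCat.fpFst yA f) (AlgSt.ofSpMap a₀) E₁ e_G hE₁ he_G sq).2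
      (repByAlgSpWith_ofSpMap P hPb H G (ObjectProperty.homMk a₀) hPa)
  -- the section
  let s : FibCat.overCat U ⥤ᵇ FibCat.fp z b :=
    FibCat.fpLift (BasedFunctor.id _) y (Iso.refl _)
  exact repWith_transfer (FibCat.fpFst s (FibCat.fpFst yA f)) (FibCat.fpFst y f)
    (pasteL f yA s) (isEquivOver_pasteL f yA s) (Iso.refl _) P (hA U s)

/-- Cancellation for diagonals: if the diagonals of `g` and `f ≫ g` have `P` then so does the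
diagonal of `f`. -/
theorem repByAlgSpWith_diag_of_diag_comp (P : MorphismProperty (AlgSp.Sp S))
    (hPb : ∀ ⦃X₁ Y₁ X₂ Y₂ : AlgSp.Sp S⦄, AlgSp.IsAlgSpace X₁ → AlgSp.IsAlgSpace Y₁ → AlgSp.IsAlgSpace X₂ →
      AlgSp.IsAlgSpace Y₂ → ∀ (a : X₁ ⟶ Y₁) (b : Y₂ ⟶ Y₁) (a' : X₂ ⟶ Y₂) (b' : X₂ ⟶ X₁),
      IsPullback b' a' a b → P a → P a')
    (hcancel : ∀ ⦃X Y Z : AlgSp.Sp S⦄, AlgSp.IsAlgSpace X → AlgSp.IsAlgSpace Y → AlgSp.IsAlgSpace Z →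
      ∀ (a : X ⟶ Y) (b : Y ⟶ Z), P b → P (a ≫ b) → P a)
    (f : 𝒳 ⥤ᵇ 𝒴) (g : 𝒴 ⥤ᵇ 𝒵) (hg : AlgSt.RepByAlgSpWith P (FibCat.diag g))
    (hfg : AlgSt.RepByAlgSpWith P (FibCat.diag (BasedFunctor.comp f g))) :
    AlgSt.RepByAlgSpWith P (FibCat.diag f) := by
  have h1 : AlgSt.RepByAlgSpWith P (toRel f f g) := repByAlgSpWith_toRel P f f g hg
  have h2 : AlgSt.RepByAlgSpWith P (BasedFunctor.comp (FibCat.diag f) (toRel f f g)) :=
    (repByAlgSpWith_of_square P (FibCat.diag (BasedFunctor.comp f g))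
      (BasedFunctor.comp (FibCat.diag f) (toRel f f g)) (BasedFunctor.id _) (BasedFunctor.id _)
      (isEquivOver_id _) (isEquivOver_id _)
      (Groth.Agent.Lib.Helper15DiagComp.diagCompIso f g)).1 hfg
  exact repByAlgSpWith_cancel P hPb hcancel (FibCat.diag f) (toRel f f g) h1 h2

end Cancel

section BaseLocal

open Groth.Agent.Lib.Helper15.DiagBC

variable {S : Scheme.{u}} {𝒳 𝒴 : AlgSt.Cat S}

/-- If all base changes of `f` to schemes have diagonal representable by algebraic spaces with `P`,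
so has `f`. -/
theorem repByAlgSpWith_diag_of_forall_fpFst (P : MorphismProperty (AlgSp.Sp S)) (f : 𝒳 ⥤ᵇ 𝒴)
    (H : ∀ (T : Over S) (y : FibCat.overCat T ⥤ᵇ 𝒴),
      AlgSt.RepByAlgSpWith P (FibCat.diag (FibCat.fpFst y f))) :
    AlgSt.RepByAlgSpWith P (FibCat.diag f) := by
  intro U z
  let x₁ : FibCat.overCat U ⥤ᵇ 𝒳 := BasedFunctor.comp z (FibCat.fpFst f f)
  let x₂ : FibCat.overCat U ⥤ᵇ 𝒳 := BasedFunctor.comp z (FibCat.fpSnd f f)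
  let y : FibCat.overCat U ⥤ᵇ 𝒴 := BasedFunctor.comp x₁ f
  let A : FibCat.overCat U ⥤ᵇ FibCat.fp y f :=
    FibCat.fpLift (BasedFunctor.id _) x₁ (Iso.refl _)
  let B : FibCat.overCat U ⥤ᵇ FibCat.fp y f :=
    FibCat.fpLift (BasedFunctor.id _) x₂ (whiskerLeftIso z (FibCat.fpIso f f))
  let z' : FibCat.overCat U ⥤ᵇ FibCat.fp (f' f y) (f' f y) := FibCat.fpLift A B (Iso.refl _)
  let ι : BasedFunctor.comp z' (GG f y) ≅ z :=
    fpIsoMk f f (H := BasedFunctor.comp z' (GG f y)) (K := z) (Iso.refl _) (Iso.refl _) (fun a => by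
      change f.map (𝟙 _) ≫ (z.obj a).obj.iso.hom =
        (𝟙 _ ≫ y.map (𝟙 _) ≫ (z.obj a).obj.iso.hom) ≫ f.map (𝟙 _)
      rw [f.toFunctor.map_id, y.toFunctor.map_id, f.toFunctor.map_id]
      simp)
  have h1 : AlgSt.RepByAlgSpWith P (FibCat.fpFst (GG f y) (FibCat.diag f)) :=
    (repByAlgSpWith_of_square P (FibCat.fpFst (GG f y) (FibCat.diag f))
      (FibCat.diag (f' f y)) (EE f y) (BasedFunctor.id _) (isEquivOver_EE f y)
      (isEquivOver_id _) (Iso.refl _)).2 (H U y)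
  have h2 := h1 U z'
  have h3 := repWith_transfer (FibCat.fpFst z' (FibCat.fpFst (GG f y) (FibCat.diag f)))
    (FibCat.fpFst (BasedFunctor.comp z' (GG f y)) (FibCat.diag f))
    (pasteL (FibCat.diag f) (GG f y) z') (isEquivOver_pasteL (FibCat.diag f) (GG f y) z')
    (Iso.refl _) P h2
  have iD := IsEquivOver.isEquivalence (BasedFunctor.id (FibCat.fp f f)) (isEquivOver_id _)
  exact repWith_transfer (FibCat.fpFst (BasedFunctor.comp z' (GG f y)) (FibCat.diag f))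
    (FibCat.fpFst z (FibCat.diag f))
    (fpMap z (FibCat.diag f) (BasedFunctor.comp z' (GG f y)) (FibCat.diag f) (BasedFunctor.id _)
      (BasedFunctor.id _) (BasedFunctor.id _) ι (Iso.refl _))
    (isEquivOver_fpMap z (FibCat.diag f) (BasedFunctor.comp z' (GG f y)) (FibCat.diag f)
      (BasedFunctor.id _) (BasedFunctor.id _) (BasedFunctor.id _) ι (Iso.refl _)
      (isEquivOver_id _) (isEquivOver_id _))
    (Iso.refl _) P h3

end BaseLocal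

section Invariance

theorem aux_conj_id {D : Type*} [Category D] {X Y : D} (j : Y ≅ X) (u : X ⟶ X) (v : Y ⟶ Y)
    (hu : u = 𝟙 X) (hv : v = 𝟙 Y) : u ≫ 𝟙 X = (j.inv ≫ v ≫ j.hom) ≫ u := by
  subst hu hv
  simp

variable {S : Scheme.{u}} {𝒜 𝒜' ℬ ℬ' : AlgSt.Cat S}

/-- Invariance of "the diagonal is representable by algebraic spaces with `Q`" under equivalences
of source and target and 2-isomorphisms. -/
theorem repByAlgSpWith_diag_of_equiv_square (Q : MorphismProperty (AlgSp.Sp S))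
    (h : 𝒜 ⥤ᵇ ℬ) (h' : 𝒜' ⥤ᵇ ℬ') (E : 𝒜' ⥤ᵇ 𝒜) (E' : ℬ' ⥤ᵇ ℬ)
    (hE : FibCat.IsEquivOver E) (hE' : FibCat.IsEquivOver E')
    (ε : BasedFunctor.comp h' E' ≅ BasedFunctor.comp E h) :
    AlgSt.RepByAlgSpWith Q (FibCat.diag h) ↔ AlgSt.RepByAlgSpWith Q (FibCat.diag h') := by
  have iB := IsEquivOver.isEquivalence E' hE'
  let M : FibCat.fp h' h' ⥤ᵇ FibCat.fp h h := fpMap h h h' h' E E E' ε ε
  have hM : FibCat.IsEquivOver M := isEquivOver_fpMap h h h' h' E E E' ε ε hE hE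
  refine repByAlgSpWith_of_square Q (FibCat.diag h) (FibCat.diag h') E M hE hM ?_
  exact fpIsoMk h h (H := BasedFunctor.comp (FibCat.diag h') M)
    (K := BasedFunctor.comp E (FibCat.diag h)) (Iso.refl _) (Iso.refl _) (fun a => by
      change h.map (𝟙 _) ≫ 𝟙 _ =
        ((bApp ε a).inv ≫ E'.map (𝟙 _) ≫ (bApp ε a).hom) ≫ h.map (𝟙 _)
      exact aux_conj_id (bApp ε a) _ _ (h.toFunctor.map_id _) (E'.toFunctor.map_id _))

end Invariance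

section Factor

open Groth.Agent.Lib.Helper15.DiagBC

theorem aux_id_pad {D : Type*} [Category D] {X Z : D} (u : X ⟶ X) (hu : u = 𝟙 X) (m : X ⟶ Z) :
    u ≫ (𝟙 X ≫ m ≫ 𝟙 Z) = m := by
  subst hu
  simp

variable {S : Scheme.{u}} {𝒜 𝒴 𝒴' 𝒵 : AlgSt.Cat S}

/-- The functor `id × g : 𝒜 ×_𝒵 𝒴 ⟶ 𝒜 ×_𝒵 𝒴'`. -/
abbrev mapRight (p : 𝒜 ⥤ᵇ 𝒵) (g : 𝒴 ⥤ᵇ 𝒴') (q' : 𝒴' ⥤ᵇ 𝒵) :
    FibCat.fp p (BasedFunctor.comp g q') ⥤ᵇ FibCat.fp p q' :=
  fpMap p q' p (BasedFunctor.comp g q') (BasedFunctor.id _) g (BasedFunctor.id _) (Iso.refl _)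
    (Iso.refl _)

/-- `id × g` is a base change of `g`, up to the pasting equivalence. -/
def mapRightIso (p : 𝒜 ⥤ᵇ 𝒵) (g : 𝒴 ⥤ᵇ 𝒴') (q' : 𝒴' ⥤ᵇ 𝒵) :
    BasedFunctor.comp (FibCat.fpFst (FibCat.fpSnd p q') g) (BasedFunctor.id _) ≅
      BasedFunctor.comp (pasteR p g q') (mapRight p g q') :=
  fpIsoMk p q' (H := BasedFunctor.comp (FibCat.fpFst (FibCat.fpSnd p q') g) (BasedFunctor.id _))
    (K := BasedFunctor.comp (pasteR p g q') (mapRight p g q')) (Iso.refl _)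
    (FibCat.fpIso (FibCat.fpSnd p q') g) (fun a => by
      change p.map (𝟙 _) ≫ (𝟙 _ ≫ (a.obj.fst.obj.iso.hom ≫ q'.map a.obj.iso.hom) ≫ 𝟙 _) =
        a.obj.fst.obj.iso.hom ≫ q'.map a.obj.iso.hom
      exact aux_id_pad _ (p.toFunctor.map_id _) _)

theorem repByAlgSpWith_diag_mapRight (P : MorphismProperty (AlgSp.Sp S)) (p : 𝒜 ⥤ᵇ 𝒵)
    (g : 𝒴 ⥤ᵇ 𝒴') (q' : 𝒴' ⥤ᵇ 𝒵) (hg : AlgSt.RepByAlgSpWith P (FibCat.diag g)) :
    AlgSt.RepByAlgSpWith P (FibCat.diag (mapRight p g q')) :=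
  (repByAlgSpWith_diag_of_equiv_square P (mapRight p g q') (FibCat.fpFst (FibCat.fpSnd p q') g)
    (pasteR p g q') (BasedFunctor.id _) (isEquivOver_pasteR p g q') (isEquivOver_id _)
    (mapRightIso p g q')).2 (repByAlgSpWith_diag_fpFst P g (FibCat.fpSnd p q') hg)

end Factor

section FactorLeft

open Groth.Agent.Lib.Helper15FpSwap

variable {S : Scheme.{u}} {ℬ 𝒳 𝒳' 𝒵 : AlgSt.Cat S}

/-- The functor `f × id : 𝒳 ×_𝒵 ℬ ⟶ 𝒳' ×_𝒵 ℬ`. -/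
abbrev mapLeft (p' : 𝒳' ⥤ᵇ 𝒵) (f : 𝒳 ⥤ᵇ 𝒳') (c : ℬ ⥤ᵇ 𝒵) :
    FibCat.fp (BasedFunctor.comp f p') c ⥤ᵇ FibCat.fp p' c :=
  fpMap p' c (BasedFunctor.comp f p') c f (BasedFunctor.id _) (BasedFunctor.id _) (Iso.refl _)
    (Iso.refl _)

theorem aux_swap {D : Type*} [Category D] {X Y : D} (u : X ⟶ X) (v : Y ⟶ Y) (hu : u = 𝟙 X)
    (hv : v = 𝟙 Y) (m : X ⟶ Y) : u ≫ (𝟙 X ≫ m ≫ 𝟙 Y) = ((𝟙 X ≫ m) ≫ 𝟙 Y) ≫ v := by
  subst hu hv
  simp

def mapLeftIso (p' : 𝒳' ⥤ᵇ 𝒵) (f : 𝒳 ⥤ᵇ 𝒳') (c : ℬ ⥤ᵇ 𝒵) :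
    BasedFunctor.comp (mapRight c f p') (fpSwap c p') ≅
      BasedFunctor.comp (fpSwap c (BasedFunctor.comp f p')) (mapLeft p' f c) :=
  fpIsoMk p' c (H := BasedFunctor.comp (mapRight c f p') (fpSwap c p'))
    (K := BasedFunctor.comp (fpSwap c (BasedFunctor.comp f p')) (mapLeft p' f c))
    (Iso.refl _) (Iso.refl _) (fun a => by
      change p'.map (𝟙 _) ≫ (𝟙 _ ≫ a.obj.iso.inv ≫ 𝟙 _) =
        ((𝟙 _ ≫ a.obj.iso.inv) ≫ 𝟙 _) ≫ c.map (𝟙 _)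
      exact aux_swap _ _ (p'.toFunctor.map_id _) (c.toFunctor.map_id _) _)

theorem repByAlgSpWith_diag_mapLeft (P : MorphismProperty (AlgSp.Sp S)) (p' : 𝒳' ⥤ᵇ 𝒵)
    (f : 𝒳 ⥤ᵇ 𝒳') (c : ℬ ⥤ᵇ 𝒵) (hf : AlgSt.RepByAlgSpWith P (FibCat.diag f)) :
    AlgSt.RepByAlgSpWith P (FibCat.diag (mapLeft p' f c)) :=
  (repByAlgSpWith_diag_of_equiv_square P (mapLeft p' f c) (mapRight c f p')
    (fpSwap c (BasedFunctor.comp f p')) (fpSwap c p') (isEquivOver_fpSwap _ _)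
    (isEquivOver_fpSwap _ _) (mapLeftIso p' f c)).2 (repByAlgSpWith_diag_mapRight P c f p' hf)

end FactorLeft

section Prod

variable {S : Scheme.{u}} {𝒳 𝒳' 𝒴 𝒴' 𝒵 : AlgSt.Cat S}

theorem aux_prod {D : Type*} [Category D] {X Y : D} (u : X ⟶ X) (v : Y ⟶ Y) (hu : u = 𝟙 X)
    (hv : v = 𝟙 Y) (m m' : X ⟶ Y) (hm : m' = m) :
    u ≫ (𝟙 X ≫ (𝟙 X ≫ m ≫ 𝟙 Y) ≫ 𝟙 Y) = m' ≫ v := by
  subst hu hv hm
  simp

/-- The diagonal of `f ×_𝒵 g`. -/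
theorem repByAlgSpWith_diag_fpProdMap (h𝒳 : FibCat.IsFibGrpd 𝒳.p) (h𝒳' : FibCat.IsFibGrpd 𝒳'.p)
    (h𝒴 : FibCat.IsFibGrpd 𝒴.p) (h𝒵 : FibCat.IsFibGrpd 𝒵.p)
    (P : MorphismProperty (AlgSp.Sp S))
    (hPc : ∀ ⦃X Y Z : AlgSp.Sp S⦄, AlgSp.IsAlgSpace X → AlgSp.IsAlgSpace Y → AlgSp.IsAlgSpace Z →
      ∀ (a : X ⟶ Y) (b : Y ⟶ Z), P a → P b → P (a ≫ b))
    (hP : AlgSp.IsLocalOnBase AlgSp.IsEtCover P)
    (p' : 𝒳' ⥤ᵇ 𝒵) (q' : 𝒴' ⥤ᵇ 𝒵) (f : 𝒳 ⥤ᵇ 𝒳') (g : 𝒴 ⥤ᵇ 𝒴')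
    (e : BasedFunctor.comp (BasedFunctor.comp (FibCat.fpFst (BasedFunctor.comp f p')
        (BasedFunctor.comp g q')) f) p' ≅
      BasedFunctor.comp (BasedFunctor.comp (FibCat.fpSnd (BasedFunctor.comp f p')
        (BasedFunctor.comp g q')) g) q')
    (he : ∀ x, e.hom.toNatTrans.app x = x.obj.iso.hom)
    (hf : AlgSt.RepByAlgSpWith P (FibCat.diag f)) (hg : AlgSt.RepByAlgSpWith P (FibCat.diag g)) :
    AlgSt.RepByAlgSpWith P (FibCat.diag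
      (FibCat.fpLift (BasedFunctor.comp (FibCat.fpFst (BasedFunctor.comp f p')
        (BasedFunctor.comp g q')) f)
        (BasedFunctor.comp (FibCat.fpSnd (BasedFunctor.comp f p') (BasedFunctor.comp g q')) g)
        e)) := by
  have h₁ := repByAlgSpWith_diag_mapLeft P p' f (BasedFunctor.comp g q') hf
  have h₂ := repByAlgSpWith_diag_mapRight P p' g q' hg
  have h₁₂ := Groth.Agent.Lib.Helper15DiagComp.repByAlgSpWith_diag_comp
    (isFibGrpd_fp (BasedFunctor.comp f p') (BasedFunctor.comp g q') h𝒳 h𝒴 h𝒵)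
    (isFibGrpd_fp p' (BasedFunctor.comp g q') h𝒳' h𝒴 h𝒵) P hPc hP
    (mapLeft p' f (BasedFunctor.comp g q')) (mapRight p' g q') h₁ h₂
  refine (repByAlgSpWith_diag_of_equiv_square P
    (BasedFunctor.comp (mapLeft p' f (BasedFunctor.comp g q')) (mapRight p' g q')) _
    (BasedFunctor.id _) (BasedFunctor.id _) (isEquivOver_id _) (isEquivOver_id _) ?_).1 h₁₂
  exact fpIsoMk p' q'
    (H := BasedFunctor.comp (FibCat.fpLift (BasedFunctor.comp (FibCat.fpFst (BasedFunctor.comp f p')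
        (BasedFunctor.comp g q')) f)
        (BasedFunctor.comp (FibCat.fpSnd (BasedFunctor.comp f p') (BasedFunctor.comp g q')) g)
        e) (BasedFunctor.id _))
    (K := BasedFunctor.comp (BasedFunctor.id _)
      (BasedFunctor.comp (mapLeft p' f (BasedFunctor.comp g q')) (mapRight p' g q')))
    (Iso.refl _) (Iso.refl _) (fun a => by
      change p'.map (𝟙 _) ≫ (𝟙 _ ≫ (𝟙 _ ≫ a.obj.iso.hom ≫ 𝟙 _) ≫ 𝟙 _) =
        e.hom.toNatTrans.app a ≫ q'.map (𝟙 _)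
      exact aux_prod _ _ (p'.toFunctor.map_id _) (q'.toFunctor.map_id _) _ _ (he a))

end Prod

end Groth.Agent.Lib.Helper8DiagCancel
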