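-- helper8: two-property cancellation for functors representable by algebraic spaces; separatedness of f from f ≫ g (S12958)
import Mathlib
import Groth.Agent.Lib.Helper15GoodComp
import Groth.Agent.S10278
import Groth.Agent.S10275
import Groth.Agent.Lib.Helper8DiagCancel

set_option autoImplicit false
set_option backward.isDefEq.respectTransparency false
set_option backward.isDefEq.respectTransparency.types false
open CategoryTheory CategoryTheory.Functor CategoryTheory.Limits Opposite AlgebraicGeometry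

universe u

namespace Groth.Agent.Lib.Helper8SepCancel

open Groth.Agent.Lib.Helper17 Groth.Agent.Lib.Helper15PshFib Groth.Agent.Lib.Helper15RepComp
  Groth.Agent.Lib.Helper15RepPsh Groth.Agent.Lib.Helper15DiagBase Groth.Agent.Lib.Helper15DiagRepSp
  Groth.Agent.Lib.Helper15Descent Groth.Agent.Lib.Helper15DiagLft
  Groth.Agent.Lib.Helper15DiagDescent Groth.Agent.Lib.Helper15SpMapRep
  Groth.Agent.Lib.Helper15SrcCancel Groth.Agent.Lib.Helper15ChartSp Groth.Agent.Lib.Helper15Atlas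
  Groth.Agent.Lib.Helper15LocEss Groth.Agent.Lib.Helper15UnivComp Groth.Agent.Lib.Helper15SmLoc
  Groth.Agent.Lib.Helper15PtsComp Groth.Agent.Lib.Helper15PtsTop Groth.Agent.Lib.Helper15PtsQc
  Groth.Agent.Lib.Helper15FpSwap Groth.Agent.Lib.Helper15QcLocal Groth.Agent.Lib.Helper15ClosedQc
  Groth.Agent.Lib.Helper15UnivPts Groth.Agent.Lib.Helper15BaseChange
  Groth.Agent.Lib.Helper15MonoSep Groth.Agent.Lib.Helper15LocQ Groth.Agent.Lib.Helper15LocQEngine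
  Groth.Agent.Lib.Helper15LocQProps Groth.Agent.Lib.Helper15LocQSpace
  Groth.Agent.Lib.Helper15LocQSpace2 Groth.Agent.Lib.Helper15LocQRep
  Groth.Agent.Lib.Helper15LocQComp Groth.Agent.Lib.Helper15GoodComp
  Groth.Agent.Lib.Helper8DiagCancel

section Cancel

variable {S : Scheme.{u}} {𝒳 𝒴 𝒵 : AlgSt.Cat S}

/-- Two-property cancellation: if `b` is representable by algebraic spaces with `Q` and `f ≫ b`
with `P`, where `P` is stable under base change and `Q b`, `P (a ≫ b)` imply `P a`, then `f` is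
representable by algebraic spaces with `P`. -/
theorem repByAlgSpWith_cancel₂ (P Q : MorphismProperty (AlgSp.Sp S))
    (hPb : BCStable P)
    (hcancel : ∀ ⦃X Y Z : AlgSp.Sp S⦄, AlgSp.IsAlgSpace X → AlgSp.IsAlgSpace Y → AlgSp.IsAlgSpace Z →
      ∀ (a : X ⟶ Y) (b : Y ⟶ Z), Q b → P (a ≫ b) → P a)
    (f : 𝒳 ⥤ᵇ 𝒴) (b : 𝒴 ⥤ᵇ 𝒵) (hb : AlgSt.RepByAlgSpWith Q b)
    (hfb : AlgSt.RepByAlgSpWith P (BasedFunctor.comp f b)) : AlgSt.RepByAlgSpWith P f := by
  intro U y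
  let z : FibCat.overCat U ⥤ᵇ 𝒵 := BasedFunctor.comp y b
  obtain ⟨G, e_G, he_G, hPβ⟩ := hb U z
  obtain ⟨H, E₂, hE₂, hPα⟩ := hfb U z
  let yA : FibCat.fp z b ⥤ᵇ 𝒴 := FibCat.fpSnd z b
  obtain ⟨R', hR', -, ⟨ρ⟩⟩ := IsEquivOver.exists_inverse_isEquivOver' (pasteR z f b)
    (isEquivOver_pasteR z f b)
  obtain ⟨e_G', he_G', -, ⟨γ⟩⟩ := IsEquivOver.exists_inverse_isEquivOver' e_G he_G
  let E₁ : AlgSt.ofSp H.obj ⥤ᵇ FibCat.fp yA f := BasedFunctor.comp E₂ R'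
  have hE₁ : FibCat.IsEquivOver E₁ := IsEquivOver.comp _ _ hE₂ hR'
  let Φ : AlgSt.ofSp H.obj ⥤ᵇ AlgSt.ofSp G.obj :=
    BasedFunctor.comp E₁ (BasedFunctor.comp (FibCat.fpFst yA f) e_G')
  let a₀ : H.obj ⟶ G.obj := ObjectProperty.homMk (pshMapOf Φ)
  let sq : BasedFunctor.comp (AlgSt.ofSpMap a₀) e_G ≅ BasedFunctor.comp E₁ (FibCat.fpFst yA f) :=
    (whiskerRightIso (ofPshMapIso Φ) e_G : _ ≅ BasedFunctor.comp Φ e_G) ≪≫
      (whiskerLeftIso (BasedFunctor.comp E₁ (FibCat.fpFst yA f)) γ : _ ≅ _)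
  have hα : AlgSt.spMapOfOver (BasedFunctor.comp E₂ (FibCat.fpFst z (BasedFunctor.comp f b))) =
      a₀ ≫ AlgSt.spMapOfOver (BasedFunctor.comp e_G (FibCat.fpFst z b)) := by
    rw [← Helper15DiagLft.spMapOfOver_ofSpMap_comp]
    apply spMapOfOver_eq_of_iso
    refine ?_ ≪≫ (whiskerRightIso sq (FibCat.fpFst z b)).symm
    exact (whiskerLeftIso E₂ (whiskerRightIso ρ (FibCat.fpFst z (BasedFunctor.comp f b)))).symm
  have hPa : P a₀ := by
    refine hcancel H.property G.property (AlgSp.IsAlgSpace.yon_obj U) a₀ _ hPβ ?_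
    rw [← hα]
    exact hPα
  have hA : AlgSt.RepByAlgSpWith P (FibCat.fpFst yA f) :=
    (repByAlgSpWith_of_square P (FibCat.fpFst yA f) (AlgSt.ofSpMap a₀) E₁ e_G hE₁ he_G sq).2
      (repByAlgSpWith_ofSpMap P hPb H G (ObjectProperty.homMk a₀) hPa)
  let s : FibCat.overCat U ⥤ᵇ FibCat.fp z b :=
    FibCat.fpLift (BasedFunctor.id _) y (Iso.refl _)
  exact repWith_transfer (FibCat.fpFst s (FibCat.fpFst yA f)) (FibCat.fpFst y f)
    (pasteL f yA s) (isEquivOver_pasteL f yA s) (Iso.refl _) P (hA U s)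

/-- Two-property cancellation for diagonals. -/
theorem repByAlgSpWith_diag_of_diag_comp₂ (P Q : MorphismProperty (AlgSp.Sp S))
    (hPb : BCStable P)
    (hcancel : ∀ ⦃X Y Z : AlgSp.Sp S⦄, AlgSp.IsAlgSpace X → AlgSp.IsAlgSpace Y → AlgSp.IsAlgSpace Z →
      ∀ (a : X ⟶ Y) (b : Y ⟶ Z), Q b → P (a ≫ b) → P a)
    (f : 𝒳 ⥤ᵇ 𝒴) (g : 𝒴 ⥤ᵇ 𝒵) (hg : AlgSt.RepByAlgSpWith Q (FibCat.diag g))
    (hfg : AlgSt.RepByAlgSpWith P (FibCat.diag (BasedFunctor.comp f g))) :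
    AlgSt.RepByAlgSpWith P (FibCat.diag f) := by
  have h1 : AlgSt.RepByAlgSpWith Q (toRel f f g) := repByAlgSpWith_toRel Q f f g hg
  have h2 : AlgSt.RepByAlgSpWith P (BasedFunctor.comp (FibCat.diag f) (toRel f f g)) :=
    (repByAlgSpWith_of_square P (FibCat.diag (BasedFunctor.comp f g))
      (BasedFunctor.comp (FibCat.diag f) (toRel f f g)) (BasedFunctor.id _) (BasedFunctor.id _)
      (isEquivOver_id _) (isEquivOver_id _)
      (Groth.Agent.Lib.Helper15DiagComp.diagCompIso f g)).1 hfg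
  exact repByAlgSpWith_cancel₂ P Q hPb hcancel (FibCat.diag f) (toRel f f g) h1 h2

end Cancel

section Sep

variable {S : Scheme.{u}} {𝒳 𝒴 𝒵 : AlgSt.Cat S}

theorem bcStable_isProperMor : BCStable (AlgSp.IsProperMor (S := S)) := by
  intro X₁ Y₁ X₂ Y₂ hX₁ hY₁ hX₂ hY₂ a b a' b' sq ha
  exact Groth.Agent.S10275.result (X := ⟨X₁, hX₁⟩) (Y := ⟨Y₁, hY₁⟩) (Y' := ⟨Y₂, hY₂⟩)
    (X' := ⟨X₂, hX₂⟩) (ObjectProperty.homMk a) (ObjectProperty.homMk b) (ObjectProperty.homMk b')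
    (ObjectProperty.homMk a') sq ha

theorem isSeparatedMor_of_comp (f : 𝒳 ⥤ᵇ 𝒴) (g : 𝒴 ⥤ᵇ 𝒵)
    (hfg : AlgSt.IsSeparatedMor (BasedFunctor.comp f g))
    (hg : AlgSt.RepByAlgSpWith AlgSp.IsSeparatedMor (FibCat.diag g)) : AlgSt.IsSeparatedMor f := by
  refine repByAlgSpWith_diag_of_diag_comp₂ AlgSp.IsProperMor AlgSp.IsSeparatedMor
    bcStable_isProperMor ?_ f g hg hfg
  intro X Y Z hX hY hZ a b hb hab
  exact (Groth.Agent.S10278.result (X := ⟨X, hX⟩) (Y := ⟨Y, hY⟩) (B := ⟨Z, hZ⟩)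
    (ObjectProperty.homMk a) (ObjectProperty.homMk (a ≫ b)) (ObjectProperty.homMk b) rfl hb).2 hab

end Sep

end Groth.Agent.Lib.Helper8SepCancel
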