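-- helper8: quasi-separatedness of f from f ≫ g (S12959); diagonal_of_comp for base-change-stable properties
import Mathlib
import Groth.Agent.Lib.Helper15GoodComp
import Groth.Agent.Lib.Helper8SepCancel
import Groth.Agent.S9919
import Groth.Agent.Lib.Helper15ImmQc

set_option autoImplicit false
set_option backward.isDefEq.respectTransparency false
set_option backward.isDefEq.respectTransparency.types false
open CategoryTheory CategoryTheory.Functor CategoryTheory.Limits Opposite AlgebraicGeometry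

universe u

namespace Groth.Agent.Lib.Helper8QsCancel

open Groth.Agent.Lib.Helper17 Groth.Agent.Lib.Helper15PshFib Groth.Agent.Lib.Helper15RepComp
  Groth.Agent.Lib.Helper15RepPsh Groth.Agent.Lib.Helper15DiagBase Groth.Agent.Lib.Helper15DiagRepSp
  Groth.Agent.Lib.Helper15Descent Groth.Agent.Lib.Helper15DiagLft
  Groth.Agent.Lib.Helper15DiagDescent Groth.Agent.Lib.Helper15SpMapRep
  Groth.Agent.Lib.Helper15SrcCancel Groth.Agent.Lib.Helper15ChartSp Groth.Agent.Lib.Helper15Atlas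
  Groth.Agent.Lib.Helper15LocEss Groth.Agent.Lib.Helper15UnivComp Groth.Agent.Lib.Helper15SmLoc
  Groth.Agent.Lib.Helper15PtsComp Groth.Agent.Lib.Helper15PtsTop Groth.Agent.Lib.Helper15PtsQc
  Groth.Agent.Lib.Helper15FpSwap Groth.Agent.Lib.Helper15QcLocal Groth.Agent.Lib.Helper15ClosedQc
  Groth.Agent.Lib.Helper15UnivPts Groth.Agent.Lib.Helper15BaseChange
  Groth.Agent.Lib.Helper15MonoSep Groth.Agent.Lib.Helper15LocQ Groth.Agent.Lib.Helper15LocQEngine
  Groth.Agent.Lib.Helper15LocQProps Groth.Agent.Lib.Helper15LocQSpace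
  Groth.Agent.Lib.Helper15LocQSpace2 Groth.Agent.Lib.Helper15LocQRep
  Groth.Agent.Lib.Helper15LocQComp Groth.Agent.Lib.Helper15GoodComp
  Groth.Agent.Lib.Helper8DiagCancel

open Groth.Agent.Lib.Helper8SepCancel

section Cat

variable {C : Type*} [Category C] [HasPullbacks C]

/-- If the diagonal of `f ≫ g` has a property stable under base change, so does the diagonal of
`f`. -/
theorem diagonal_of_comp (P : MorphismProperty C) [P.IsStableUnderBaseChange] {X Y Z : C}
    (f : X ⟶ Y) (g : Y ⟶ Z) (h : P.diagonal (f ≫ g)) : P.diagonal f := by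
  rw [MorphismProperty.diagonal_iff] at h ⊢
  let j : pullback f f ⟶ pullback (f ≫ g) (f ≫ g) :=
    (pullbackDiagonalMapIdIso f f g).inv ≫ pullback.snd _ _
  have hj : Mono j := by
    have : Mono (pullback.snd (pullback.diagonal g)
      (pullback.map (f ≫ g) (f ≫ g) g g f f (𝟙 Z) (by simp) (by simp))) := inferInstance
    exact mono_comp _ _
  have e : pullback.diagonal (f ≫ g) = pullback.diagonal f ≫ j := pullback.diagonal_comp f g
  have sq1 : IsPullback (𝟙 X) (pullback.diagonal f) (pullback.diagonal f) (𝟙 (pullback f f)) :=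
    IsPullback.of_horiz_isIso ⟨by simp⟩
  have sq2 : IsPullback (𝟙 (pullback f f)) (𝟙 (pullback f f)) j j := IsKernelPair.id_of_mono j
  have sq := sq1.paste_vert sq2
  rw [← e, Category.comp_id] at sq
  exact P.of_isPullback sq h

end Cat


section Sp

variable {S : Scheme.{u}}

theorem isQuasiSeparatedMor_of_comp {X Y Z : AlgSp.Sp S} (a : X ⟶ Y) (b : Y ⟶ Z)
    (h : AlgSp.IsQuasiSeparatedMor (a ≫ b)) : AlgSp.IsQuasiSeparatedMor a :=
  diagonal_of_comp (AlgSp.RepWith (S := S) @QuasiCompact) a b h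

theorem bcStable_isQuasiSeparatedMor : BCStable (AlgSp.IsQuasiSeparatedMor (S := S)) := by
  intro X₁ Y₁ X₂ Y₂ _ _ _ _ a b a' b' sq ha
  have : (AlgSp.RepWith (S := S) @QuasiCompact).diagonal.IsStableUnderBaseChange := inferInstance
  exact MorphismProperty.of_isPullback (P := (AlgSp.RepWith (S := S) @QuasiCompact).diagonal) sq ha

theorem bcStable_qcqs :
    BCStable (AlgSp.IsQuasiCompactMor (S := S) ⊓ AlgSp.IsQuasiSeparatedMor) := by
  intro X₁ Y₁ X₂ Y₂ hX₁ hY₁ hX₂ hY₂ a b a' b' sq ha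
  exact ⟨Groth.Agent.Lib.Helper15ImmQc.isQuasiCompactMor_of_isPullback sq ha.1,
    bcStable_isQuasiSeparatedMor hX₁ hY₁ hX₂ hY₂ a b a' b' sq ha.2⟩

end Sp

section St

variable {S : Scheme.{u}} {𝒳 𝒴 𝒵 : AlgSt.Cat S}

theorem isQuasiSeparatedMor_of_comp_st (f : 𝒳 ⥤ᵇ 𝒴) (g : 𝒴 ⥤ᵇ 𝒵)
    (hfg : AlgSt.IsQuasiSeparatedMor (BasedFunctor.comp f g))
    (hg : AlgSt.RepByAlgSpWith AlgSp.IsQuasiSeparatedMor (FibCat.diag g)) :
    AlgSt.IsQuasiSeparatedMor f := by
  refine repByAlgSpWith_diag_of_diag_comp₂ (AlgSp.IsQuasiCompactMor ⊓ AlgSp.IsQuasiSeparatedMor)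
    AlgSp.IsQuasiSeparatedMor bcStable_qcqs ?_ f g hg hfg
  intro X Y Z hX hY hZ a b hb hab
  refine ⟨?_, isQuasiSeparatedMor_of_comp a b hab.2⟩
  exact Groth.Agent.S9919.result (X := ⟨X, hX⟩) (Y := ⟨Y, hY⟩) (Z := ⟨Z, hZ⟩)
    (ObjectProperty.homMk a) (ObjectProperty.homMk b) hab.1 hb

end St

end Groth.Agent.Lib.Helper8QsCancel
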