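-- helper8: diagonals of functors from the category of an algebraic space to a slice, read on
-- equalizer loci of pairs of points.
import Mathlib
import Groth.Agent.Lib.Helper15GoodComp
import Groth.Agent.Lib.Helper8DiagCancel
import Groth.Agent.Lib.Helper15MonoFF
import Groth.Agent.S9900
import Groth.Agent.Lib.Helper15ImmQc
import Groth.Agent.S9912
import Groth.Agent.Lib.Helper8QsCancel
import Groth.Agent.Lib.Helper8SepCancel
import Groth.Agent.S9922

set_option autoImplicit false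
set_option backward.isDefEq.respectTransparency false
set_option backward.isDefEq.respectTransparency.types false
open CategoryTheory CategoryTheory.Functor CategoryTheory.Limits Opposite AlgebraicGeometry

universe u

namespace Groth.Agent.Lib.Helper8DiagEq

open Groth.Agent.Lib.Helper17 Groth.Agent.Lib.Helper15PshFib Groth.Agent.Lib.Helper15RepComp
  Groth.Agent.Lib.Helper15RepPsh Groth.Agent.Lib.Helper15DiagBase Groth.Agent.Lib.Helper15DiagRepSp
  Groth.Agent.Lib.Helper15Descent Groth.Agent.Lib.Helper15DiagLft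
  Groth.Agent.Lib.Helper15DiagDescent Groth.Agent.Lib.Helper15SpMapRep
  Groth.Agent.Lib.Helper15SrcCancel Groth.Agent.Lib.Helper15ChartSp Groth.Agent.Lib.Helper15Atlas
  Groth.Agent.Lib.Helper15LocEss Groth.Agent.Lib.Helper15UnivComp Groth.Agent.Lib.Helper15SmLoc
  Groth.Agent.Lib.Helper15PtsComp Groth.Agent.Lib.Helper15PtsTop Groth.Agent.Lib.Helper15PtsQc
  Groth.Agent.Lib.Helper15FpSwap Groth.Agent.Lib.Helper15QcLocal Groth.Agent.Lib.Helper15ClosedQc
  Groth.Agent.Lib.Helper15UnivPts Groth.Agent.Lib.Helper15BaseChange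
  Groth.Agent.Lib.Helper15MonoSep Groth.Agent.Lib.Helper15LocQ Groth.Agent.Lib.Helper15LocQEngine
  Groth.Agent.Lib.Helper15LocQProps Groth.Agent.Lib.Helper15LocQSpace
  Groth.Agent.Lib.Helper15LocQSpace2 Groth.Agent.Lib.Helper15LocQRep
  Groth.Agent.Lib.Helper15LocQComp Groth.Agent.Lib.Helper15GoodComp
  Groth.Agent.Lib.Helper8DiagCancel Groth.Agent.Lib.Helper15MonoFF

section Fib

variable {S : Scheme.{u}} {F : AlgSp.Sp S} {U T : Over S}
  (Φ : AlgSt.ofSp F ⥤ᵇ FibCat.overCat U) (w : FibCat.overCat T ⥤ᵇ FibCat.fp Φ Φ)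

/-- On an object of the base change of the diagonal, the two points agree. -/
theorem pshSec_fst_eq_snd (z : (FibCat.fp w (FibCat.diag Φ)).obj) :
    pshSec (BasedFunctor.comp w (FibCat.fpFst Φ Φ)) ((FibCat.fpFst w (FibCat.diag Φ)).obj z) =
      pshSec (BasedFunctor.comp w (FibCat.fpSnd Φ Φ)) ((FibCat.fpFst w (FibCat.diag Φ)).obj z) := by
  let π := FibCat.fpFst w (FibCat.diag Φ)
  let ρ := FibCat.fpSnd w (FibCat.diag Φ)
  let ι := FibCat.fpIso w (FibCat.diag Φ)
  let ι₁ : BasedFunctor.comp π (BasedFunctor.comp w (FibCat.fpFst Φ Φ)) ≅ ρ :=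
    whiskerRightIso ι (FibCat.fpFst Φ Φ)
  let ι₂ : BasedFunctor.comp π (BasedFunctor.comp w (FibCat.fpSnd Φ Φ)) ≅ ρ :=
    whiskerRightIso ι (FibCat.fpSnd Φ Φ)
  have h := pshSec_eq_of_hom (ι₁ ≪≫ ι₂.symm).hom z
  rw [pshSec_comp π (BasedFunctor.comp w (FibCat.fpFst Φ Φ)) z,
    pshSec_comp π (BasedFunctor.comp w (FibCat.fpSnd Φ Φ)) z] at h
  have h2 := congrArg (F.obj.map (eqToHom (π.w_obj z)).op) h
  rw [psh_map_op_map_op, psh_map_op_map_op] at h2
  simpa using h2

end Fib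
section LiftsId

variable {S : Scheme.{u}} {U : Over S}

/-- A morphism of the slice lying over an identity of the base. -/
def LiftsId {c c' : Over U} (m : c ⟶ c') : Prop :=
  ∃ R : Over S, (FibCat.overCat U).p.IsHomLift (𝟙 R) m

theorem map_eq_eqToHom_of_lift_id {𝒳 𝒮 : Type*} [Category 𝒳] [Category 𝒮] (p : 𝒳 ⥤ 𝒮) {a b : 𝒳}
    (φ : a ⟶ b) (R : 𝒮) [p.IsHomLift (𝟙 R) φ] :
    p.map φ = eqToHom ((IsHomLift.domain_eq p (𝟙 R) φ).trans
      (IsHomLift.codomain_eq p (𝟙 R) φ).symm) := by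
  rw [IsHomLift.fac' p (𝟙 R) φ]
  simp

theorem liftsId_eq {c c' : Over U} (m m' : c ⟶ c') (h : LiftsId m) (h' : LiftsId m') : m = m' := by
  obtain ⟨R, hR⟩ := h
  obtain ⟨R', hR'⟩ := h'
  apply (Over.forget U).map_injective
  change (FibCat.overCat U).p.map m = (FibCat.overCat U).p.map m'
  rw [map_eq_eqToHom_of_lift_id _ m R, map_eq_eqToHom_of_lift_id _ m' R']

theorem liftsId_comp {c c' c'' : Over U} (m : c ⟶ c') (m' : c' ⟶ c'') (h : LiftsId m)
    (h' : LiftsId m') : LiftsId (m ≫ m') := by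
  obtain ⟨R, hR⟩ := h
  obtain ⟨R', hR'⟩ := h'
  have e : R = R' := (IsHomLift.codomain_eq (FibCat.overCat U).p (𝟙 R) m).symm.trans
    (IsHomLift.domain_eq (FibCat.overCat U).p (𝟙 R') m')
  subst e
  exact ⟨R, inferInstance⟩

theorem liftsId_map_app {F : AlgSp.Sp S} (Φ : AlgSt.ofSp F ⥤ᵇ FibCat.overCat U) {𝒜 : AlgSt.Cat S}
    {H' K' : 𝒜 ⥤ᵇ AlgSt.ofSp F} (α : H' ⟶ K') (a : 𝒜.obj) :
    LiftsId (Φ.map (α.toNatTrans.app a)) := by
  have := α.isHomLift' a
  exact ⟨𝒜.p.obj a, BasedFunctor.preserves_isHomLift Φ (𝟙 (𝒜.p.obj a)) (α.toNatTrans.app a)⟩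

end LiftsId

section Lift

variable {S : Scheme.{u}} {F : AlgSp.Sp S} {U T : Over S}
  (Φ : AlgSt.ofSp F ⥤ᵇ FibCat.overCat U) (w : FibCat.overCat T ⥤ᵇ FibCat.fp Φ Φ)
  {T' : Over S} (t : T' ⟶ T)

/-- The 2-isomorphism used to lift a morphism on which the two points agree. -/
def liftIso
    (h : ∀ c : Over T',
      pshSec (BasedFunctor.comp (AlgSt.overMap t) (BasedFunctor.comp w (FibCat.fpFst Φ Φ))) c =
        pshSec (BasedFunctor.comp (AlgSt.overMap t) (BasedFunctor.comp w (FibCat.fpSnd Φ Φ))) c) :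
    BasedFunctor.comp (AlgSt.overMap t) w ≅
      BasedFunctor.comp (BasedFunctor.comp (AlgSt.overMap t) (BasedFunctor.comp w (FibCat.fpFst Φ Φ)))
        (FibCat.diag Φ) :=
  fpIsoMk Φ Φ (H := BasedFunctor.comp (AlgSt.overMap t) w)
    (K := BasedFunctor.comp (BasedFunctor.comp (AlgSt.overMap t)
      (BasedFunctor.comp w (FibCat.fpFst Φ Φ))) (FibCat.diag Φ))
    (Iso.refl _) (pshIsoOfSecEq (fun c => (h c).symm)) (fun a => by
      apply liftsId_eq
      · exact liftsId_comp _ _ (liftsId_map_app Φ _ a) ⟨_, ((BasedFunctor.comp (BasedFunctor.comp (AlgSt.overMap t)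
          (BasedFunctor.comp w (FibCat.fpFst Φ Φ))) (FibCat.diag Φ)).obj a).property⟩
      · exact liftsId_comp _ _ ⟨_, ((BasedFunctor.comp (AlgSt.overMap t) w).obj a).property⟩
          (liftsId_map_app Φ _ a))

end Lift
section LiftFun

variable {S : Scheme.{u}} {F : AlgSp.Sp S} {U T : Over S}
  (Φ : AlgSt.ofSp F ⥤ᵇ FibCat.overCat U) (w : FibCat.overCat T ⥤ᵇ FibCat.fp Φ Φ)
  {T' : Over S} (t : T' ⟶ T)
  (h : ∀ c : Over T',
      pshSec (BasedFunctor.comp (AlgSt.overMap t) (BasedFunctor.comp w (FibCat.fpFst Φ Φ))) c =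
        pshSec (BasedFunctor.comp (AlgSt.overMap t) (BasedFunctor.comp w (FibCat.fpSnd Φ Φ))) c)

/-- The functor to the base change of the diagonal lifting a morphism on which the two points
agree. -/
def liftFun : FibCat.overCat T' ⥤ᵇ FibCat.fp w (FibCat.diag Φ) :=
  FibCat.fpLift (AlgSt.overMap t)
    (BasedFunctor.comp (AlgSt.overMap t) (BasedFunctor.comp w (FibCat.fpFst Φ Φ))) (liftIso Φ w t h)

include h in
/-- A morphism on which the two points agree is the image of a section of any sheaf representing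
the base change of the diagonal. -/
theorem exists_sec_of_eq {H : AlgSp.Sp S} (ε : AlgSt.ofSp H ⥤ᵇ FibCat.fp w (FibCat.diag Φ))
    (hε : FibCat.IsEquivOver ε) :
    ∃ s : H.obj.obj (op T'),
      AlgSt.secHom (BasedFunctor.comp ε (FibCat.fpFst w (FibCat.diag Φ))) ⟨T', s⟩ = t := by
  let π := FibCat.fpFst w (FibCat.diag Φ)
  let z := (liftFun Φ w t h).obj (Over.mk (𝟙 T'))
  obtain ⟨c, ι, hι⟩ := (IsEquivOver.essSurjOver ε hε) z
  obtain ⟨T'', s⟩ := c
  have hι' : (FibCat.fp w (FibCat.diag Φ)).p.IsHomLift (𝟙 T') ι.hom := hι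
  have hw : (FibCat.fp w (FibCat.diag Φ)).p.obj (ε.obj ⟨T'', s⟩) = T'' := ε.w_obj ⟨T'', s⟩
  have hT : T'' = T' :=
    hw.symm.trans (IsHomLift.domain_eq (FibCat.fp w (FibCat.diag Φ)).p (𝟙 T') ι.hom)
  subst hT
  have hk : (FibCat.fp w (FibCat.diag Φ)).p.map ι.hom = eqToHom hw := by
    have := IsHomLift.fac' (FibCat.fp w (FibCat.diag Φ)).p (𝟙 T'') ι.hom
    rw [this]
    simp
  refine ⟨s, ?_⟩
  change ovSec (BasedFunctor.comp ε π) ⟨T'', s⟩ = t
  rw [ovSec_comp]
  have h1 := ovSec_map π ι.hom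
  have h2 : ovSec π z = t := Category.id_comp _ |>.trans (Category.id_comp t)
  rw [← h1, h2, hk, eqToHom_trans_assoc, eqToHom_refl, Category.id_comp]

end LiftFun
section Pair

variable {S : Scheme.{u}}

/-- A functor over the base out of the category of a sheaf is faithful. -/
theorem faithful_of_ofSp {F : AlgSp.Sp S} {𝒴 : AlgSt.Cat S} (Φ : AlgSt.ofSp F ⥤ᵇ 𝒴) :
    Φ.toFunctor.Faithful := by
  refine ⟨fun {c c'} m m' h => ?_⟩
  apply Stk.EltObj.hom_ext
  have h1 := Functor.congr_hom Φ.w m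
  have h2 := Functor.congr_hom Φ.w m'
  rw [Functor.comp_map, h] at h1
  rw [Functor.comp_map] at h2
  have h3 := h1.symm.trans h2
  exact (cancel_mono _).1 ((cancel_epi _).1 h3)

variable {F : AlgSp.Sp S} {U T : Over S} (Φ : AlgSt.ofSp F ⥤ᵇ FibCat.overCat U)

/-- The functor of a point. -/
abbrev ptFun (a : (AlgSp.yon S).obj T ⟶ F) : FibCat.overCat T ⥤ᵇ AlgSt.ofSp F :=
  BasedFunctor.comp (AlgSt.ofOverCat T) (AlgSt.ofSpMap a)

theorem ovSec_ptFun_comp (a : (AlgSp.yon S).obj T ⟶ F) (c : Over T) :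
    ovSec (BasedFunctor.comp (ptFun a) Φ) c =
      ((a ≫ AlgSt.spMapOfOver Φ).hom.app (op c.left) ⟨c.hom⟩).down := by
  rw [ovSec_comp]
  change eqToHom _ ≫ ovSec Φ ⟨c.left, a.hom.app (op c.left) ⟨c.hom⟩⟩ = _
  rw [ovSec_eq_spMapOfOver]
  simp

variable (a b : (AlgSp.yon S).obj T ⟶ F)
  (hab : a ≫ AlgSt.spMapOfOver Φ = b ≫ AlgSt.spMapOfOver Φ)

/-- The functor of a pair of points with the same image. -/
def pairFun : FibCat.overCat T ⥤ᵇ FibCat.fp Φ Φ :=
  FibCat.fpLift (ptFun a) (ptFun b) (isoOfOverCat (fun c => by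
    rw [ovSec_ptFun_comp, ovSec_ptFun_comp, hab]))

end Pair
section Char

variable {S : Scheme.{u}} {F : AlgSp.Sp S} {U T : Over S} (Φ : AlgSt.ofSp F ⥤ᵇ FibCat.overCat U)
  (a b : (AlgSp.yon S).obj T ⟶ F)
  (hab : a ≫ AlgSt.spMapOfOver Φ = b ≫ AlgSt.spMapOfOver Φ)

theorem yon_map_app_mk {V W X : Over S} (v : V ⟶ W) (g : X ⟶ V) :
    ((AlgSp.yon S).map v).hom.app (op X) ⟨g⟩ = ⟨g ≫ v⟩ := rfl

theorem yon_map_app_id {V W : Over S} (v : V ⟶ W) :
    ((AlgSp.yon S).map v).hom.app (op V) ⟨𝟙 V⟩ = ⟨v⟩ := by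
  rw [yon_map_app_mk, Category.id_comp]

theorem yon_map_comp_eq_iff {T' : Over S} (t : T' ⟶ T) :
    ((AlgSp.yon S).map t ≫ a = (AlgSp.yon S).map t ≫ b) ↔
      a.hom.app (op T') ⟨t⟩ = b.hom.app (op T') ⟨t⟩ := by
  constructor
  · intro h
    have h1 := congrArg (fun m => m.hom.app (op T') ⟨𝟙 T'⟩) h
    rw [← yon_map_app_id t]
    simpa using h1
  · intro h
    apply ObjectProperty.hom_ext
    apply uliftYonedaEquiv.injective
    rw [← yon_map_app_id t] at h
    exact h

theorem transport_app_eq {X T' : Over S} (hX : X = T') (m : X ⟶ T)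
    (h : a.hom.app (op X) ⟨m⟩ = b.hom.app (op X) ⟨m⟩) :
    a.hom.app (op T') ⟨eqToHom hX.symm ≫ m⟩ = b.hom.app (op T') ⟨eqToHom hX.symm ≫ m⟩ := by
  subst hX
  simpa using h

variable {H : AlgSp.Sp S}
  (ε : AlgSt.ofSp H ⥤ᵇ FibCat.fp (pairFun Φ a b hab) (FibCat.diag Φ))

/-- The two points agree on the image of every section of a sheaf representing the base change of
the diagonal. -/
theorem yon_map_secHom_eq {T' : Over S} (s : H.obj.obj (op T')) :
    (AlgSp.yon S).map (AlgSt.secHom (BasedFunctor.comp ε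
        (FibCat.fpFst (pairFun Φ a b hab) (FibCat.diag Φ))) ⟨T', s⟩) ≫ a =
      (AlgSp.yon S).map (AlgSt.secHom (BasedFunctor.comp ε
        (FibCat.fpFst (pairFun Φ a b hab) (FibCat.diag Φ))) ⟨T', s⟩) ≫ b := by
  rw [yon_map_comp_eq_iff]
  let π := FibCat.fpFst (pairFun Φ a b hab) (FibCat.diag Φ)
  let z := ε.obj ⟨T', s⟩
  have h0 := pshSec_fst_eq_snd Φ (pairFun Φ a b hab) z
  have h1 : pshSec (ptFun a) (π.obj z) = pshSec (ptFun b) (π.obj z) := h0
  rw [pshSec_chart, pshSec_chart] at h1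
  exact transport_app_eq a b ((BasedFunctor.comp ε π).w_obj ⟨T', s⟩) (π.obj z).hom h1

include hab in
/-- A morphism on which the two points agree is the image of a section. -/
theorem exists_sec_of_yon_eq (hε : FibCat.IsEquivOver ε) {T' : Over S} (t : T' ⟶ T)
    (ht : (AlgSp.yon S).map t ≫ a = (AlgSp.yon S).map t ≫ b) :
    ∃ s : H.obj.obj (op T'), AlgSt.secHom (BasedFunctor.comp ε
        (FibCat.fpFst (pairFun Φ a b hab) (FibCat.diag Φ))) ⟨T', s⟩ = t := by
  refine exists_sec_of_eq Φ (pairFun Φ a b hab) t (fun c => ?_) ε hε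
  change pshSec (BasedFunctor.comp (BasedFunctor.comp (AlgSt.overMap t) (AlgSt.ofOverCat T))
      (Stk.ofPshMap a.hom)) c =
    pshSec (BasedFunctor.comp (BasedFunctor.comp (AlgSt.overMap t) (AlgSt.ofOverCat T))
      (Stk.ofPshMap b.hom)) c
  rw [pshSec_comp_ofPshMap, pshSec_comp_ofPshMap, pshSec_comp_ofOverCat, ovSec_overMap]
  have h1 := congrArg (fun m => m.hom.app (op c.left) ⟨c.hom⟩) ht
  rw [← yon_map_app_mk t c.hom]
  have h2 : a.hom.app (op c.left) (((AlgSp.yon S).map t).hom.app (op c.left) ⟨c.hom⟩) =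
      b.hom.app (op c.left) (((AlgSp.yon S).map t).hom.app (op c.left) ⟨c.hom⟩) := by
    simpa using h1
  exact h2

end Char
section Rep

open Groth.Agent.S9900

variable {S : Scheme.{u}}

theorem sp_isIso_of_bijective {F G : AlgSp.Sp S} (f : F ⟶ G)
    (h : ∀ T : (Over S)ᵒᵖ, Function.Bijective (f.hom.app T)) : IsIso f := by
  have h1 : ∀ T, IsIso (f.hom.app T) := fun T => (isIso_iff_bijective _).2 (h T)
  have h2 : IsIso f.hom := NatIso.isIso_of_isIso_app _
  have h3 : IsIso ((sheafToPresheaf (AlgSp.J S) (Type (u + 1))).map f) := h2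
  exact isIso_of_reflects_iso f (sheafToPresheaf (AlgSp.J S) (Type (u + 1)))

variable {F : AlgSp.Sp S} {U T : Over S} (Φ : AlgSt.ofSp F ⥤ᵇ FibCat.overCat U)
  (a b : (AlgSp.yon S).obj T ⟶ F)
  (hab : a ≫ AlgSt.spMapOfOver Φ = b ≫ AlgSt.spMapOfOver Φ)
  {H : AlgSp.Sp S}
  (ε : AlgSt.ofSp H ⥤ᵇ FibCat.fp (pairFun Φ a b hab) (FibCat.diag Φ))

include hab in
theorem mono_spMapOfOver_rep (hε : FibCat.IsEquivOver ε) :
    Mono (AlgSt.spMapOfOver (BasedFunctor.comp ε
      (FibCat.fpFst (pairFun Φ a b hab) (FibCat.diag Φ)))) := by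
  have := IsEquivOver.isEquivalence ε hε
  have := faithful_of_ofSp Φ
  have := diag_faithful Φ
  have := diag_full Φ
  have h1 := fpFst_faithful_of_faithful (pairFun Φ a b hab) (FibCat.diag Φ)
  have h2 := fpFst_full_of_ff (pairFun Φ a b hab) (FibCat.diag Φ)
  have i1 : (BasedFunctor.comp ε (FibCat.fpFst (pairFun Φ a b hab) (FibCat.diag Φ))).toFunctor.Full :=
    inferInstanceAs (ε.toFunctor ⋙ (FibCat.fpFst (pairFun Φ a b hab) (FibCat.diag Φ)).toFunctor).Full
  have i2 : (BasedFunctor.comp ε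
      (FibCat.fpFst (pairFun Φ a b hab) (FibCat.diag Φ))).toFunctor.Faithful :=
    inferInstanceAs
      (ε.toFunctor ⋙ (FibCat.fpFst (pairFun Φ a b hab) (FibCat.diag Φ)).toFunctor).Faithful
  exact mono_spMapOfOver_of_ff _

include hab in
/-- A sheaf representing the base change of the diagonal along a pair of points is the sheaf of
their equalizer locus. -/
theorem exists_iso_of_isEqLocus (hε : FibCat.IsEquivOver ε) {E : Over S} (e : E ⟶ T)
    (he : IsEqLocus a b e) :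
    ∃ i : (AlgSp.yon S).obj E ≅ H,
      i.hom ≫ AlgSt.spMapOfOver (BasedFunctor.comp ε
        (FibCat.fpFst (pairFun Φ a b hab) (FibCat.diag Φ))) = (AlgSp.yon S).map e := by
  have hmono := mono_spMapOfOver_rep Φ a b hab ε hε
  have hinj := (sp_mono_iff_injective _).1 hmono
  have hemono : Mono e := he.1
  obtain ⟨sE, hsE⟩ := exists_sec_of_yon_eq Φ a b hab ε hε e he.eq
  let i₀ : (AlgSp.yon S).obj E ⟶ H := ObjectProperty.homMk (uliftYonedaEquiv.{u + 1}.symm sE)
  have hi₀ : i₀ ≫ AlgSt.spMapOfOver (BasedFunctor.comp ε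
      (FibCat.fpFst (pairFun Φ a b hab) (FibCat.diag Φ))) = (AlgSp.yon S).map e := by
    apply ObjectProperty.hom_ext
    apply uliftYonedaEquiv.injective
    change (AlgSt.spMapOfOver (BasedFunctor.comp ε
      (FibCat.fpFst (pairFun Φ a b hab) (FibCat.diag Φ)))).hom.app (op E)
        ((uliftYonedaEquiv.{u + 1}.symm sE).app (op E) ⟨𝟙 E⟩) = ((AlgSp.yon S).map e).hom.app (op E) ⟨𝟙 E⟩
    rw [yon_map_app_id]
    have h1 : (uliftYonedaEquiv.{u + 1}.symm sE).app (op E) ⟨𝟙 E⟩ = sE := by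
      have := uliftYonedaEquiv.{u + 1}.apply_symm_apply sE
      exact this
    rw [h1, AlgSt.spMapOfOver_app, hsE]
  have hcomp : ∀ (X : (Over S)ᵒᵖ) (x : ((AlgSp.yon S).obj E).obj.obj X),
      (AlgSt.spMapOfOver (BasedFunctor.comp ε
        (FibCat.fpFst (pairFun Φ a b hab) (FibCat.diag Φ)))).hom.app X (i₀.hom.app X x) =
        ((AlgSp.yon S).map e).hom.app X x := by
    intro X x
    have := congrArg (fun m => m.hom.app X x) hi₀
    simpa using this
  have hiso : IsIso i₀ := by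
    apply sp_isIso_of_bijective
    intro X
    constructor
    · intro x x' hxx'
      have h1 := congrArg ((AlgSt.spMapOfOver (BasedFunctor.comp ε
        (FibCat.fpFst (pairFun Φ a b hab) (FibCat.diag Φ)))).hom.app X) hxx'
      rw [hcomp, hcomp] at h1
      obtain ⟨g⟩ := x
      obtain ⟨g'⟩ := x'
      have h2 : g ≫ e = g' ≫ e := congrArg ULift.down h1
      rw [(cancel_mono e).1 h2]
    · intro s
      obtain ⟨X⟩ := X
      let t : X ⟶ T := AlgSt.secHom (BasedFunctor.comp ε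
        (FibCat.fpFst (pairFun Φ a b hab) (FibCat.diag Φ))) ⟨X, s⟩
      have ht := yon_map_secHom_eq Φ a b hab ε s
      obtain ⟨t', ht'⟩ := (he.2 X t).1 ht
      refine ⟨⟨t'⟩, ?_⟩
      apply hinj (op X)
      rw [hcomp, yon_map_app_mk, ht', AlgSt.spMapOfOver_app]
  exact ⟨asIso i₀, hi₀⟩

end Rep
section Main

open Groth.Agent.S9900

variable {S : Scheme.{u}}

/-- A condition on the equalizer loci of all pairs of points of `F` with the same image under
`φ`. -/
def EqCond {F G : AlgSp.Sp S} (φ : F ⟶ G)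
    (R : ∀ ⦃E T : Over S⦄, (E ⟶ T) → Prop) : Prop :=
  ∀ (T : Over S) (a b : (AlgSp.yon S).obj T ⟶ F), a ≫ φ = b ≫ φ →
    ∀ (E : Over S) (e : E ⟶ T), IsEqLocus a b e → R e

variable {F : AlgSp.Sp S} {U : Over S} (Φ : AlgSt.ofSp F ⥤ᵇ FibCat.overCat U)

/-- Stability of a property of maps from algebraic spaces to schemes under precomposition with
isomorphisms. -/
def PrecompIso (P : MorphismProperty (AlgSp.Sp S)) : Prop :=
  ∀ ⦃A' A : AlgSp.Sp S⦄ ⦃T : Over S⦄, AlgSp.IsAlgSpace A' → AlgSp.IsAlgSpace A → ∀ (i : A' ≅ A)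
    (m : A ⟶ (AlgSp.yon S).obj T), P m → P (i.hom ≫ m)

theorem precompIso_of_bcStable (P : MorphismProperty (AlgSp.Sp S)) (hPb : BCStable P) :
    PrecompIso P :=
  fun _ _ T hA' hA i m hm =>
    precomp_iso_of_bcStable P hPb hA' hA (AlgSp.IsAlgSpace.yon_obj T) i m hm

/-- If the diagonal of `Φ` is representable by algebraic spaces with `P`, the sheaf maps of all
equalizer loci have `P`. -/
theorem eqCond_of_repByAlgSpWith_diag' (P : MorphismProperty (AlgSp.Sp S)) (hPi : PrecompIso P)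
    (h : AlgSt.RepByAlgSpWith P (FibCat.diag Φ)) :
    EqCond (AlgSt.spMapOfOver Φ) (fun _ _ e => P ((AlgSp.yon S).map e)) := by
  intro T a b hab E e he
  obtain ⟨H, ε, hε, hP⟩ := h T (pairFun Φ a b hab)
  obtain ⟨i, hi⟩ := exists_iso_of_isEqLocus Φ a b hab ε hε e he
  rw [← hi]
  exact hPi (AlgSp.IsAlgSpace.yon_obj E) H.property i _ hP

theorem eqCond_of_repByAlgSpWith_diag (P : MorphismProperty (AlgSp.Sp S)) (hPb : BCStable P)
    (h : AlgSt.RepByAlgSpWith P (FibCat.diag Φ)) :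
    EqCond (AlgSt.spMapOfOver Φ) (fun _ _ e => P ((AlgSp.yon S).map e)) :=
  eqCond_of_repByAlgSpWith_diag' Φ P (precompIso_of_bcStable P hPb) h

/-- The point of `F` given by a functor from a slice. -/
noncomputable def ptOfFun {T : Over S} (x : FibCat.overCat T ⥤ᵇ AlgSt.ofSp F) :
    (AlgSp.yon S).obj T ⟶ F :=
  ObjectProperty.homMk (uliftYonedaEquiv.{u + 1}.symm (pshSec x (Over.mk (𝟙 T))))

/-- A functor from a slice is the functor of its point. -/
noncomputable def ptFunIso {T : Over S} (x : FibCat.overCat T ⥤ᵇ AlgSt.ofSp F) :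
    ptFun (ptOfFun x) ≅ x :=
  pshIsoOfSecEq (fun c => by
    rw [pshSec_chart]
    let m : c ⟶ Over.mk (𝟙 T) := Over.homMk c.hom (by simp)
    exact pshSec_map x m)

/-- Conversely, if the sheaf maps of all equalizer loci have `P`, the diagonal of `Φ` is
representable by algebraic spaces with `P`. -/
theorem repByAlgSpWith_diag_of_eqCond' (P : MorphismProperty (AlgSp.Sp S)) (hPi : PrecompIso P)
    (hdiag : AlgSp.Representable (Limits.diag F)) (hrep : AlgSt.RepByAlgSp1 (FibCat.diag Φ))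
    (h : EqCond (AlgSt.spMapOfOver Φ) (fun _ _ e => P ((AlgSp.yon S).map e))) :
    AlgSt.RepByAlgSpWith P (FibCat.diag Φ) := by
  intro T w₀
  let x₁ := BasedFunctor.comp w₀ (FibCat.fpFst Φ Φ)
  let x₂ := BasedFunctor.comp w₀ (FibCat.fpSnd Φ Φ)
  let a := ptOfFun x₁
  let b := ptOfFun x₂
  have κ : BasedFunctor.comp (ptFun a) Φ ≅ BasedFunctor.comp (ptFun b) Φ :=
    whiskerRightIso (ptFunIso x₁) Φ ≪≫ whiskerLeftIso w₀ (FibCat.fpIso Φ Φ) ≪≫
      (whiskerRightIso (ptFunIso x₂) Φ).symm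
  have hab : a ≫ AlgSt.spMapOfOver Φ = b ≫ AlgSt.spMapOfOver Φ := by
    apply ObjectProperty.hom_ext
    apply uliftYonedaEquiv.injective
    have h1 := ovSec_eq_of_hom κ.hom (Over.mk (𝟙 T))
    rw [ovSec_ptFun_comp, ovSec_ptFun_comp] at h1
    exact ULift.ext _ _ h1
  let ι : pairFun Φ a b hab ≅ w₀ :=
    fpIsoMk Φ Φ (H := pairFun Φ a b hab) (K := w₀) (ptFunIso x₁) (ptFunIso x₂) (fun c => by
      apply liftsId_eq
      · exact liftsId_comp _ _ (liftsId_map_app Φ _ c) ⟨_, (w₀.obj c).property⟩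
      · exact liftsId_comp _ _ ⟨_, ((pairFun Φ a b hab).obj c).property⟩ (liftsId_map_app Φ _ c))
  obtain ⟨E, e, he⟩ := exists_isEqLocus hdiag a b
  have hPe : P ((AlgSp.yon S).map e) := h T a b hab E e he
  obtain ⟨H, ε, hε⟩ := hrep T (pairFun Φ a b hab)
  obtain ⟨i, hi⟩ := exists_iso_of_isEqLocus Φ a b hab ε hε e he
  have hP : P (AlgSt.spMapOfOver (BasedFunctor.comp ε
      (FibCat.fpFst (pairFun Φ a b hab) (FibCat.diag Φ)))) := by
    have h1 := hPi H.property (AlgSp.IsAlgSpace.yon_obj E) i.symm _ hPe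
    rw [← hi] at h1
    simpa using h1
  have iD := IsEquivOver.isEquivalence (BasedFunctor.id (FibCat.fp Φ Φ)) (isEquivOver_id _)
  exact repWith_transfer (FibCat.fpFst (pairFun Φ a b hab) (FibCat.diag Φ))
    (FibCat.fpFst w₀ (FibCat.diag Φ))
    (fpMap w₀ (FibCat.diag Φ) (pairFun Φ a b hab) (FibCat.diag Φ) (BasedFunctor.id _)
      (BasedFunctor.id _) (BasedFunctor.id _) ι (Iso.refl _))
    (isEquivOver_fpMap w₀ (FibCat.diag Φ) (pairFun Φ a b hab) (FibCat.diag Φ)
      (BasedFunctor.id _) (BasedFunctor.id _) (BasedFunctor.id _) ι (Iso.refl _)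
      (isEquivOver_id _) (isEquivOver_id _))
    (Iso.refl _) P ⟨H, ε, hε, hP⟩

theorem repByAlgSpWith_diag_of_eqCond (P : MorphismProperty (AlgSp.Sp S)) (hPb : BCStable P)
    (hdiag : AlgSp.Representable (Limits.diag F)) (hrep : AlgSt.RepByAlgSp1 (FibCat.diag Φ))
    (h : EqCond (AlgSt.spMapOfOver Φ) (fun _ _ e => P ((AlgSp.yon S).map e))) :
    AlgSt.RepByAlgSpWith P (FibCat.diag Φ) :=
  repByAlgSpWith_diag_of_eqCond' Φ P (precompIso_of_bcStable P hPb) hdiag hrep h

end Main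
section Sheaf

open Groth.Agent.S9900

variable {S : Scheme.{u}} {F G : AlgSp.Sp S} (φ : F ⟶ G)

theorem eqCond_mono {R R' : ∀ ⦃E T : Over S⦄, (E ⟶ T) → Prop}
    (hRR' : ∀ (T : Over S) (a b : (AlgSp.yon S).obj T ⟶ F) (E : Over S) (e : E ⟶ T),
      IsEqLocus a b e → R e → R' e) (h : EqCond φ R) : EqCond φ R' :=
  fun T a b hab E e he => hRR' T a b E e he (h T a b hab E e he)

/-- If the relative diagonal of `φ` is representable with `Q`, all equalizer loci have `Q`. -/
theorem eqCond_of_repWith_diagonal (Q : MorphismProperty Scheme.{u})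
    (h : AlgSp.RepWith Q (pullback.diagonal φ)) : EqCond φ (fun _ _ e => Q e.left) := by
  intro T a b hab E e he
  let c : (AlgSp.yon S).obj T ⟶ pullback φ φ := pullback.lift a b hab
  have he' : IsEqLocus (c ≫ pullback.fst φ φ) (c ≫ pullback.snd φ φ) e := by
    rw [pullback.lift_fst, pullback.lift_snd]
    exact he
  exact ((AlgSp.repWith_iff Q _).1 h).2 c _ e (he'.isPullback_diagonal φ c)

/-- Conversely, if all equalizer loci have `Q`, the relative diagonal is representable with `Q`. -/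
theorem repWith_diagonal_of_eqCond (Q : MorphismProperty Scheme.{u}) [Q.IsStableUnderBaseChange]
    (hdiag : AlgSp.Representable (Limits.diag F)) (h : EqCond φ (fun _ _ e => Q e.left)) :
    AlgSp.RepWith Q (pullback.diagonal φ) := by
  refine MorphismProperty.relative.of_exists (fun T c => ?_)
  obtain ⟨E, e, he⟩ := exists_isEqLocus hdiag (c ≫ pullback.fst φ φ) (c ≫ pullback.snd φ φ)
  exact ⟨E, _, e, he.isPullback_diagonal φ c, h T _ _ (by
    rw [Category.assoc, Category.assoc, pullback.condition]) E e he⟩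

end Sheaf

section Key

open Groth.Agent.S9900

variable {S : Scheme.{u}} {𝒳 𝒴 : AlgSt.Cat S}

/-- The property of maps of sheaves: all equalizer loci of pairs of points with the same image have
`R`. -/
def EqP (R : ∀ ⦃E T : Over S⦄, (E ⟶ T) → Prop) : MorphismProperty (AlgSp.Sp S) :=
  fun _ _ φ => EqCond φ R

theorem repByAlgSp1_iff_top {𝒜 ℬ : AlgSt.Cat S} (g : 𝒜 ⥤ᵇ ℬ) :
    AlgSt.RepByAlgSp1 g ↔ AlgSt.RepByAlgSpWith (⊤ : MorphismProperty (AlgSp.Sp S)) g := by
  constructor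
  · intro h U y
    obtain ⟨F, e, he⟩ := h U y
    exact ⟨F, e, he, trivial⟩
  · intro h U y
    obtain ⟨F, e, he, -⟩ := h U y
    exact ⟨F, e, he⟩

/-- Transfer of the diagonal condition from a base change to a presentation of its source. -/
theorem diag_pres_iff (P : MorphismProperty (AlgSp.Sp S)) (f : 𝒳 ⥤ᵇ 𝒴) {U : Over S}
    (y : FibCat.overCat U ⥤ᵇ 𝒴) {F : AlgSp.Sp S} (e₀ : AlgSt.ofSp F ⥤ᵇ FibCat.fp y f)
    (he₀ : FibCat.IsEquivOver e₀) :
    AlgSt.RepByAlgSpWith P (FibCat.diag (FibCat.fpFst y f)) ↔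
      AlgSt.RepByAlgSpWith P (FibCat.diag (BasedFunctor.comp e₀ (FibCat.fpFst y f))) :=
  repByAlgSpWith_diag_of_equiv_square P (FibCat.fpFst y f)
    (BasedFunctor.comp e₀ (FibCat.fpFst y f)) e₀ (BasedFunctor.id _) he₀ (isEquivOver_id _)
    (Iso.refl _)

/-- If the diagonal of `f` is representable by algebraic spaces with `P`, then the base changes of
`f` to schemes have all equalizer loci with `P`. -/
theorem repByAlgSpWith_eqP_of_diag' (P : MorphismProperty (AlgSp.Sp S)) (hPi : PrecompIso P)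
    (f : 𝒳 ⥤ᵇ 𝒴) (hf : AlgSt.RepByAlgSp1 f) (h : AlgSt.RepByAlgSpWith P (FibCat.diag f)) :
    AlgSt.RepByAlgSpWith (EqP (fun _ _ e => P ((AlgSp.yon S).map e))) f := by
  intro U y
  obtain ⟨F, e₀, he₀⟩ := hf U y
  refine ⟨F, e₀, he₀, ?_⟩
  have h1 := Groth.Agent.Lib.Helper15.DiagBC.repByAlgSpWith_diag_fpFst P f y h
  exact eqCond_of_repByAlgSpWith_diag' _ P hPi ((diag_pres_iff P f y e₀ he₀).1 h1)

theorem repByAlgSpWith_eqP_of_diag (P : MorphismProperty (AlgSp.Sp S)) (hPb : BCStable P)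
    (f : 𝒳 ⥤ᵇ 𝒴) (hf : AlgSt.RepByAlgSp1 f) (h : AlgSt.RepByAlgSpWith P (FibCat.diag f)) :
    AlgSt.RepByAlgSpWith (EqP (fun _ _ e => P ((AlgSp.yon S).map e))) f :=
  repByAlgSpWith_eqP_of_diag' P (precompIso_of_bcStable P hPb) f hf h

/-- Conversely. -/
theorem repByAlgSpWith_diag_of_eqP' (P : MorphismProperty (AlgSp.Sp S)) (hPi : PrecompIso P)
    (f : 𝒳 ⥤ᵇ 𝒴) (hΔ : AlgSt.RepByAlgSp1 (FibCat.diag f))
    (h : AlgSt.RepByAlgSpWith (EqP (fun _ _ e => P ((AlgSp.yon S).map e))) f) :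
    AlgSt.RepByAlgSpWith P (FibCat.diag f) := by
  apply repByAlgSpWith_diag_of_forall_fpFst
  intro T y
  obtain ⟨F, e₀, he₀, hc⟩ := h T y
  refine (diag_pres_iff P f y e₀ he₀).2 ?_
  have h1 : AlgSt.RepByAlgSp1 (FibCat.diag (BasedFunctor.comp e₀ (FibCat.fpFst y f))) := by
    rw [repByAlgSp1_iff_top] at hΔ ⊢
    exact (diag_pres_iff _ f y e₀ he₀).1 (Groth.Agent.Lib.Helper15.DiagBC.repByAlgSpWith_diag_fpFst _ f y hΔ)
  exact repByAlgSpWith_diag_of_eqCond' _ P hPi F.property.diag h1 hc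

theorem repByAlgSpWith_diag_of_eqP (P : MorphismProperty (AlgSp.Sp S)) (hPb : BCStable P)
    (f : 𝒳 ⥤ᵇ 𝒴) (hΔ : AlgSt.RepByAlgSp1 (FibCat.diag f))
    (h : AlgSt.RepByAlgSpWith (EqP (fun _ _ e => P ((AlgSp.yon S).map e))) f) :
    AlgSt.RepByAlgSpWith P (FibCat.diag f) :=
  repByAlgSpWith_diag_of_eqP' P (precompIso_of_bcStable P hPb) f hΔ h

/-- The relative diagonals of the base changes of `f` are representable with `Q` if and only if
all equalizer loci have `Q`. -/
theorem repByAlgSpWith_diagonal_iff_eqP (Q : MorphismProperty Scheme.{u})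
    [Q.IsStableUnderBaseChange] (f : 𝒳 ⥤ᵇ 𝒴) :
    AlgSt.RepByAlgSpWith (fun _ _ φ => AlgSp.RepWith Q (pullback.diagonal φ)) f ↔
      AlgSt.RepByAlgSpWith (EqP (fun _ _ e => Q e.left)) f := by
  constructor
  · intro h U y
    obtain ⟨F, e₀, he₀, hc⟩ := h U y
    exact ⟨F, e₀, he₀, eqCond_of_repWith_diagonal _ Q hc⟩
  · intro h U y
    obtain ⟨F, e₀, he₀, hc⟩ := h U y
    exact ⟨F, e₀, he₀, repWith_diagonal_of_eqCond _ Q F.property.diag hc⟩

/-- Change of the condition on equalizer loci, for presentations by algebraic spaces. -/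
theorem repByAlgSpWith_eqP_mono {R R' : ∀ ⦃E T : Over S⦄, (E ⟶ T) → Prop} (f : 𝒳 ⥤ᵇ 𝒴)
    (hRR' : ∀ (F : AlgSp.Sp S), AlgSp.IsAlgSpace F → ∀ (T : Over S)
      (a b : (AlgSp.yon S).obj T ⟶ F) (E : Over S) (e : E ⟶ T), IsEqLocus a b e → R e → R' e)
    (h : AlgSt.RepByAlgSpWith (EqP R) f) : AlgSt.RepByAlgSpWith (EqP R') f := by
  intro U y
  obtain ⟨F, e₀, he₀, hc⟩ := h U y
  exact ⟨F, e₀, he₀, eqCond_mono _ (hRR' F.obj F.property) hc⟩

end Key
section Translate

open Groth.Agent.S9900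

variable {S : Scheme.{u}}

theorem bcStable_isQuasiCompactMor : BCStable (AlgSp.IsQuasiCompactMor (S := S)) :=
  fun _ _ _ _ _ _ _ _ _ _ _ _ sq ha => Groth.Agent.Lib.Helper15ImmQc.isQuasiCompactMor_of_isPullback sq ha

theorem bcStable_isFiniteTypeMor : BCStable (AlgSp.IsFiniteTypeMor (S := S)) :=
  fun _ _ _ _ h1 h2 h3 h4 a b a' b' sq ha =>
    ⟨bcStable_lft h1 h2 h3 h4 a b a' b' sq ha.1,
      Groth.Agent.Lib.Helper15ImmQc.isQuasiCompactMor_of_isPullback sq ha.2⟩

theorem quasiCompact_of_isQuasiCompactMor_yon_map {E T : Over S} (e : E ⟶ T)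
    (h : AlgSp.IsQuasiCompactMor ((AlgSp.yon S).map e)) : QuasiCompact e.left := by
  let X : AlgSp.Space S := ⟨(AlgSp.yon S).obj E, AlgSp.IsAlgSpace.yon_obj E⟩
  let Y : AlgSp.Space S := ⟨(AlgSp.yon S).obj T, AlgSp.IsAlgSpace.yon_obj T⟩
  let g : X ⟶ Y := ObjectProperty.homMk ((AlgSp.yon S).map e)
  have h1 : AlgSp.RepWith @QuasiCompact ((AlgSp.yon S).map e) :=
    (Groth.Agent.S9912.result g (AlgSp.representable_yon_map e)).2 h
  exact (AlgSp.repWith_yon_map_iff @QuasiCompact e).1 h1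

variable {𝒳 𝒴 : AlgSt.Cat S} (f : 𝒳 ⥤ᵇ 𝒴)

/-- The base changes of `f` to schemes are quasi-separated if and only if all equalizer loci are
quasi-compact. -/
theorem qs_iff_eqP :
    AlgSt.RepByAlgSpWith AlgSp.IsQuasiSeparatedMor f ↔
      AlgSt.RepByAlgSpWith (EqP (fun _ _ e => QuasiCompact e.left)) f :=
  repByAlgSpWith_diagonal_iff_eqP @QuasiCompact f

/-- The diagonal of `f` is quasi-compact if and only if all equalizer loci are quasi-compact. -/
theorem qc_diag_iff_eqP (hf : AlgSt.RepByAlgSp1 f) (hΔ : AlgSt.RepByAlgSp1 (FibCat.diag f)) :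
    AlgSt.RepByAlgSpWith AlgSp.IsQuasiCompactMor (FibCat.diag f) ↔
      AlgSt.RepByAlgSpWith (EqP (fun _ _ e => QuasiCompact e.left)) f := by
  constructor
  · intro h
    exact repByAlgSpWith_eqP_mono f
      (fun F hF T a b E e he hR => quasiCompact_of_isQuasiCompactMor_yon_map e hR)
      (repByAlgSpWith_eqP_of_diag _ bcStable_isQuasiCompactMor f hf h)
  · intro h
    exact repByAlgSpWith_diag_of_eqP _ bcStable_isQuasiCompactMor f hΔ
      (repByAlgSpWith_eqP_mono f
        (fun F hF T a b E e he hR => Groth.Agent.Lib.Helper15ImmQc.isQuasiCompactMor_yon_map e hR) h)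

/-- The diagonal of `f` is of finite type if and only if all equalizer loci are quasi-compact. -/
theorem ft_diag_iff_eqP (hf : AlgSt.RepByAlgSp1 f) (hΔ : AlgSt.RepByAlgSp1 (FibCat.diag f)) :
    AlgSt.RepByAlgSpWith AlgSp.IsFiniteTypeMor (FibCat.diag f) ↔
      AlgSt.RepByAlgSpWith (EqP (fun _ _ e => QuasiCompact e.left)) f := by
  constructor
  · intro h
    exact repByAlgSpWith_eqP_mono f
      (fun F hF T a b E e he hR => quasiCompact_of_isQuasiCompactMor_yon_map e hR.2)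
      (repByAlgSpWith_eqP_of_diag _ bcStable_isFiniteTypeMor f hf h)
  · intro h
    exact repByAlgSpWith_diag_of_eqP _ bcStable_isFiniteTypeMor f hΔ
      (repByAlgSpWith_eqP_mono f
        (fun F hF T a b E e he hR =>
          ⟨Groth.Agent.Lib.Helper15LocQ.locP_yon_map_of_lft e (he.locallyOfFiniteType hF),
            Groth.Agent.Lib.Helper15ImmQc.isQuasiCompactMor_yon_map e hR⟩) h)

end Translate
section QcQs

open Groth.Agent.S9900

variable {S : Scheme.{u}}

theorem mono_yon_map {E T : Over S} (e : E ⟶ T) [Mono e] : Mono ((AlgSp.yon S).map e) := by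
  rw [sp_mono_iff_injective]
  rintro X ⟨g⟩ ⟨g'⟩ h
  have h1 : g ≫ e = g' ≫ e := congrArg ULift.down h
  rw [(cancel_mono e).1 h1]

theorem isQuasiSeparatedMor_of_mono {F G : AlgSp.Sp S} (f : F ⟶ G) [Mono f] :
    AlgSp.IsQuasiSeparatedMor f := by
  have : IsIso (pullback.diagonal f) := inferInstance
  exact repWith_of_isIso @QuasiCompact (pullback.diagonal f)

variable {𝒳 𝒴 : AlgSt.Cat S} (f : 𝒳 ⥤ᵇ 𝒴)

/-- The diagonal of `f` is quasi-compact and quasi-separated if and only if all equalizer loci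
are quasi-compact. -/
theorem qcqs_diag_iff_eqP (hf : AlgSt.RepByAlgSp1 f) (hΔ : AlgSt.RepByAlgSp1 (FibCat.diag f)) :
    AlgSt.RepByAlgSpWith (AlgSp.IsQuasiCompactMor ⊓ AlgSp.IsQuasiSeparatedMor) (FibCat.diag f) ↔
      AlgSt.RepByAlgSpWith (EqP (fun _ _ e => QuasiCompact e.left)) f := by
  constructor
  · intro h
    exact (qc_diag_iff_eqP f hf hΔ).1
      (Groth.Agent.Lib.Helper15PtsTop.repByAlgSpWith_mono
        (P := AlgSp.IsQuasiCompactMor ⊓ AlgSp.IsQuasiSeparatedMor) (Q := AlgSp.IsQuasiCompactMor)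
        (fun _ _ _ hh => hh.1) h)
  · intro h
    exact repByAlgSpWith_diag_of_eqP _ Groth.Agent.Lib.Helper8QsCancel.bcStable_qcqs f hΔ
      (repByAlgSpWith_eqP_mono f
        (fun F hF T a b E e he hR => by
          have : Mono e := he.1
          have := mono_yon_map e
          exact ⟨Groth.Agent.Lib.Helper15ImmQc.isQuasiCompactMor_yon_map e hR,
            isQuasiSeparatedMor_of_mono _⟩) h)

end QcQs
section Inf

variable {S : Scheme.{u}} {𝒜 ℬ : AlgSt.Cat S}

/-- Two properties each holding for some representing space hold together for one. -/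
theorem repByAlgSpWith_inf (P Q : MorphismProperty (AlgSp.Sp S)) (hQb : BCStable Q)
    (k : 𝒜 ⥤ᵇ ℬ) (h1 : AlgSt.RepByAlgSpWith P k) (h2 : AlgSt.RepByAlgSpWith Q k) :
    AlgSt.RepByAlgSpWith (P ⊓ Q) k := by
  intro U y
  obtain ⟨F₁, e₁, he₁, hP⟩ := h1 U y
  obtain ⟨F₂, e₂, he₂, hQ⟩ := h2 U y
  obtain ⟨i, hi⟩ := exists_iso_of_two_reps k y F₂.obj e₂ he₂ F₁.obj e₁ he₁
  refine ⟨F₁, e₁, he₁, hP, ?_⟩
  rw [← hi]
  exact precomp_iso_of_bcStable Q hQb F₁.property F₂.property (AlgSp.IsAlgSpace.yon_obj U) i _ hQ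

end Inf
section Sep

open Groth.Agent.S9900

variable {S : Scheme.{u}}

theorem bcStable_repWith (Q : MorphismProperty Scheme.{u}) [Q.IsStableUnderBaseChange] :
    BCStable (AlgSp.RepWith (S := S) Q) := by
  intro X₁ Y₁ X₂ Y₂ _ _ _ _ a b a' b' sq ha
  exact MorphismProperty.of_isPullback (P := AlgSp.RepWith (S := S) Q) sq ha

theorem bcStable_isSeparatedMor : BCStable (AlgSp.IsSeparatedMor (S := S)) := by
  intro X₁ Y₁ X₂ Y₂ _ _ _ _ a b a' b' sq ha
  have : (AlgSp.RepWith (S := S) @IsClosedImmersion).diagonal.IsStableUnderBaseChange :=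
    inferInstance
  exact MorphismProperty.of_isPullback
    (P := (AlgSp.RepWith (S := S) @IsClosedImmersion).diagonal) sq ha

theorem bcStable_isUnivClosedMor : BCStable (AlgSp.IsUnivClosedMor (S := S)) := by
  intro X₁ Y₁ X₂ Y₂ _ _ _ _ a b a' b' sq ha Z Z' hZ g fst snd sq'
  exact ha hZ (g ≫ b) (fst ≫ b') snd (sq'.paste_horiz sq)

theorem isClosedImmersion_of_mono_of_universallyClosed {X Y : Scheme.{u}} (g : X ⟶ Y) [Mono g]
    [LocallyOfFiniteType g] [UniversallyClosed g] : IsClosedImmersion g := by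
  rw [IsClosedImmersion.iff_isProper_and_mono]
  exact ⟨{}, inferInstance⟩

theorem universallyClosed_of_isUnivClosedMor_yon_map {E T : Over S} (e : E ⟶ T)
    (h : AlgSp.IsUnivClosedMor ((AlgSp.yon S).map e)) : UniversallyClosed e.left := by
  let X : AlgSp.Space S := ⟨(AlgSp.yon S).obj E, AlgSp.IsAlgSpace.yon_obj E⟩
  let Y : AlgSp.Space S := ⟨(AlgSp.yon S).obj T, AlgSp.IsAlgSpace.yon_obj T⟩
  let g : X ⟶ Y := ObjectProperty.homMk ((AlgSp.yon S).map e)
  have h1 : AlgSp.RepWith @UniversallyClosed ((AlgSp.yon S).map e) :=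
    (Groth.Agent.S9922.result g (AlgSp.representable_yon_map e)).2 h
  exact (AlgSp.repWith_yon_map_iff @UniversallyClosed e).1 h1

theorem isUnivClosedMor_yon_map {E T : Over S} (e : E ⟶ T) (h : UniversallyClosed e.left) :
    AlgSp.IsUnivClosedMor ((AlgSp.yon S).map e) := by
  let X : AlgSp.Space S := ⟨(AlgSp.yon S).obj E, AlgSp.IsAlgSpace.yon_obj E⟩
  let Y : AlgSp.Space S := ⟨(AlgSp.yon S).obj T, AlgSp.IsAlgSpace.yon_obj T⟩
  let g : X ⟶ Y := ObjectProperty.homMk ((AlgSp.yon S).map e)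
  exact (Groth.Agent.S9922.result g (AlgSp.representable_yon_map e)).1
    ((AlgSp.repWith_yon_map_iff @UniversallyClosed e).2 h)

theorem isProperMor_yon_map_of_isClosedImmersion {E T : Over S} (e : E ⟶ T) [Mono e]
    (h : IsClosedImmersion e.left) : AlgSp.IsProperMor ((AlgSp.yon S).map e) := by
  have := mono_yon_map e
  refine ⟨isSeparatedMor_of_mono _, ⟨?_, ?_⟩, ?_⟩
  · exact Groth.Agent.Lib.Helper15LocQ.locP_yon_map_of_lft e inferInstance
  · exact Groth.Agent.Lib.Helper15ImmQc.isQuasiCompactMor_yon_map e inferInstance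
  · exact isUnivClosedMor_yon_map e inferInstance

variable {𝒳 𝒴 : AlgSt.Cat S} (f : 𝒳 ⥤ᵇ 𝒴)

/-- The base changes of `f` to schemes are separated if and only if all equalizer loci are closed
immersions. -/
theorem sep_iff_eqP :
    AlgSt.RepByAlgSpWith AlgSp.IsSeparatedMor f ↔
      AlgSt.RepByAlgSpWith (EqP (fun _ _ e => IsClosedImmersion e.left)) f :=
  repByAlgSpWith_diagonal_iff_eqP @IsClosedImmersion f

/-- The diagonal of `f` is representable with `Q` if and only if all equalizer loci have `Q`. -/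
theorem repWith_diag_iff_eqP (Q : MorphismProperty Scheme.{u}) [Q.IsStableUnderBaseChange]
    (hf : AlgSt.RepByAlgSp1 f) (hΔ : AlgSt.RepByAlgSp1 (FibCat.diag f)) :
    AlgSt.RepByAlgSpWith (AlgSp.RepWith Q) (FibCat.diag f) ↔
      AlgSt.RepByAlgSpWith (EqP (fun _ _ e => Q e.left)) f := by
  constructor
  · intro h
    exact repByAlgSpWith_eqP_mono f
      (fun F hF T a b E e he hR => (AlgSp.repWith_yon_map_iff Q e).1 hR)
      (repByAlgSpWith_eqP_of_diag _ (bcStable_repWith Q) f hf h)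
  · intro h
    exact repByAlgSpWith_diag_of_eqP _ (bcStable_repWith Q) f hΔ
      (repByAlgSpWith_eqP_mono f
        (fun F hF T a b E e he hR => (AlgSp.repWith_yon_map_iff Q e).2 hR) h)

/-- The diagonal of `f` is universally closed if and only if all equalizer loci are closed
immersions. -/
theorem univClosed_diag_iff_eqP (hf : AlgSt.RepByAlgSp1 f)
    (hΔ : AlgSt.RepByAlgSp1 (FibCat.diag f)) :
    AlgSt.RepByAlgSpWith AlgSp.IsUnivClosedMor (FibCat.diag f) ↔
      AlgSt.RepByAlgSpWith (EqP (fun _ _ e => IsClosedImmersion e.left)) f := by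
  constructor
  · intro h
    exact repByAlgSpWith_eqP_mono f
      (fun F hF T a b E e he hR => by
        have : Mono e := he.1
        have : Mono e.left := inferInstance
        have := he.locallyOfFiniteType hF
        have := universallyClosed_of_isUnivClosedMor_yon_map e hR
        exact isClosedImmersion_of_mono_of_universallyClosed e.left)
      (repByAlgSpWith_eqP_of_diag _ bcStable_isUnivClosedMor f hf h)
  · intro h
    exact repByAlgSpWith_diag_of_eqP _ bcStable_isUnivClosedMor f hΔ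
      (repByAlgSpWith_eqP_mono f
        (fun F hF T a b E e he hR => by
          have : IsClosedImmersion e.left := hR
          exact isUnivClosedMor_yon_map e inferInstance) h)

/-- The diagonal of `f` is proper if and only if all equalizer loci are closed immersions. -/
theorem proper_diag_iff_eqP (hf : AlgSt.RepByAlgSp1 f)
    (hΔ : AlgSt.RepByAlgSp1 (FibCat.diag f)) :
    AlgSt.RepByAlgSpWith AlgSp.IsProperMor (FibCat.diag f) ↔
      AlgSt.RepByAlgSpWith (EqP (fun _ _ e => IsClosedImmersion e.left)) f := by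
  constructor
  · intro h
    exact repByAlgSpWith_eqP_mono f
      (fun F hF T a b E e he hR => by
        have : Mono e := he.1
        have : Mono e.left := inferInstance
        have := he.locallyOfFiniteType hF
        have := universallyClosed_of_isUnivClosedMor_yon_map e hR.2.2
        exact isClosedImmersion_of_mono_of_universallyClosed e.left)
      (repByAlgSpWith_eqP_of_diag _ Groth.Agent.Lib.Helper8SepCancel.bcStable_isProperMor f hf h)
  · intro h
    exact repByAlgSpWith_diag_of_eqP _ Groth.Agent.Lib.Helper8SepCancel.bcStable_isProperMor f hΔ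
      (repByAlgSpWith_eqP_mono f
        (fun F hF T a b E e he hR => by
          have : Mono e := he.1
          exact isProperMor_yon_map_of_isClosedImmersion e hR) h)

end Sep
end Groth.Agent.Lib.Helper8DiagEq
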