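import Mathlib
import Groth.Agent.S10129
import Groth.Agent.S9928
import Groth.Agent.S13210
import Groth.Agent.Lib.H5bIdealDesc2

/-!
# Closed subspaces of a sheaf with an étale chart, from an invariant ideal sheaf on the chart (helper5)
-/

set_option autoImplicit false
set_option linter.style.haveILetI false

universe u
open CategoryTheory CategoryTheory.Limits AlgebraicGeometry Opposite

namespace Groth.Agent.Lib.H5bClosedSub

open Groth.Agent.S13210 Groth.Agent.Lib.H5bIdealDesc

variable {S : Scheme.{u}}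

section

variable {X : AlgSp.Sp S} {U : Over S} (q : (AlgSp.yon S).obj U ⟶ X) (I : U.left.IdealSheafData)

/-- the closed subscheme of the chart, over `S`. -/
noncomputable abbrev VI : Over S := Over.mk (I.subschemeι ≫ U.hom)

/-- its inclusion. -/
noncomputable abbrev ιo : VI I ⟶ U := Over.homMk I.subschemeι rfl

instance : Mono (ιo I) := by
  haveI : Mono (ιo I).left := inferInstanceAs (Mono I.subschemeι)
  exact Over.mono_of_mono_left _

/-- `b` factors through the closed subscheme iff `I ≤ ker b`. -/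
lemma exists_lift_iff {W : Over S} (b : W ⟶ U) :
    (∃ c : W ⟶ VI I, c ≫ ιo I = b) ↔ I ≤ b.left.ker := by
  constructor
  · rintro ⟨c, rfl⟩
    have h := Scheme.Hom.le_ker_comp c.left I.subschemeι
    rwa [Scheme.IdealSheafData.ker_subschemeι] at h
  · intro h
    have hle : I.subschemeι.ker ≤ b.left.ker := by
      rwa [Scheme.IdealSheafData.ker_subschemeι]
    refine ⟨Over.homMk (IsClosedImmersion.lift I.subschemeι b.left hle) ?_, ?_⟩
    · change IsClosedImmersion.lift I.subschemeι b.left hle ≫ I.subschemeι ≫ U.hom = W.hom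
      rw [← Category.assoc, IsClosedImmersion.lift_fac]
      exact Over.w b
    · apply Over.OverMorphism.ext
      exact IsClosedImmersion.lift_fac _ _ _

/-- `I ≤ ker b` is local for the fppf topology. -/
lemma le_ker_of_sieve {W : Over S} (b : W ⟶ U) (R : Sieve W) (hR : R ∈ AlgSp.J S W)
    (h : ∀ ⦃V : Over S⦄ (φ : V ⟶ W), R φ → I ≤ (φ ≫ b).left.ker) : I ≤ b.left.ker := by
  rw [← exists_lift_iff]
  have hex : ∀ ⦃V : Over S⦄ (φ : V ⟶ W), R φ → ∃ c : V ⟶ VI I, c ≫ ιo I = φ ≫ b :=
    fun V φ hφ => (exists_lift_iff I _).2 (h φ hφ)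
  choose c hc using hex
  have hsh : Presieve.IsSheaf (AlgSp.J S) ((AlgSp.yon S).obj (VI I)).obj :=
    (isSheaf_iff_isSheaf_of_type _ _).1 ((AlgSp.yon S).obj (VI I)).property
  have hshU : Presieve.IsSheaf (AlgSp.J S) ((AlgSp.yon S).obj U).obj :=
    (isSheaf_iff_isSheaf_of_type _ _).1 ((AlgSp.yon S).obj U).property
  let x : Presieve.FamilyOfElements ((AlgSp.yon S).obj (VI I)).obj R.arrows :=
    fun V φ hφ => ⟨c φ hφ⟩
  have hx : x.Compatible := by
    intro Y₁ Y₂ Y g₁ g₂ f₁ f₂ h₁ h₂ e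
    change (⟨g₁ ≫ c f₁ h₁⟩ : ULift _) = ⟨g₂ ≫ c f₂ h₂⟩
    congr 1
    rw [← cancel_mono (ιo I), Category.assoc, Category.assoc, hc, hc, ← Category.assoc,
      ← Category.assoc, e]
  obtain ⟨⟨w⟩, hw, -⟩ := hsh _ hR x hx
  refine ⟨w, ?_⟩
  have : (⟨w ≫ ιo I⟩ : ((AlgSp.yon S).obj U).obj.obj (op W)) = ⟨b⟩ := by
    refine (hshU.isSeparated _ hR).ext ?_
    intro V φ hφ
    change (⟨φ ≫ w ≫ ιo I⟩ : ULift _) = ⟨φ ≫ b⟩
    congr 1
    have h1 : (⟨φ ≫ w⟩ : ULift (V ⟶ VI I)) = ⟨c φ hφ⟩ := hw φ hφ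
    have h2 : φ ≫ w = c φ hφ := congrArg ULift.down h1
    rw [← Category.assoc, h2, hc]
  exact congrArg ULift.down this

/-- membership predicate of the closed subspace, on `T'`-points of `X`. -/
def Zmem {T' : Over S} (ξ : (AlgSp.yon S).obj T' ⟶ X) : Prop :=
  ∀ (W : Over S) (a : W ⟶ T') (b : W ⟶ U),
    (AlgSp.yon S).map a ≫ ξ = (AlgSp.yon S).map b ≫ q → I ≤ b.left.ker

lemma Zmem.precomp {T' T'' : Over S} {ξ : (AlgSp.yon S).obj T' ⟶ X} (h : Zmem q I ξ)
    (φ : T'' ⟶ T') : Zmem q I ((AlgSp.yon S).map φ ≫ ξ) := by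
  intro W a b hab
  refine h W (a ≫ φ) b ?_
  rw [CategoryTheory.Functor.map_comp, Category.assoc, hab]

/-- the closed subspace as a subfunctor. -/
def Zsub : Subfunctor X.obj where
  obj T' := {x | Zmem q I ((yEquiv T'.unop X).symm x)}
  map := by
    intro T T₂ φ x hx
    change Zmem q I ((yEquiv T₂.unop X).symm (X.obj.map φ x))
    have e : (yEquiv T₂.unop X).symm (X.obj.map φ x) =
        (AlgSp.yon S).map φ.unop ≫ (yEquiv T.unop X).symm x :=
      (AlgSp.J S).uliftYonedaEquiv_symm_map φ x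
    rw [e]
    exact hx.precomp q I φ.unop

lemma mem_Zsub_iff {T' : Over S} (ξ : (AlgSp.yon S).obj T' ⟶ X) :
    yEquiv T' X ξ ∈ (Zsub q I).obj (op T') ↔ Zmem q I ξ := by
  change Zmem q I ((yEquiv T' X).symm (yEquiv T' X ξ)) ↔ _
  rw [Equiv.symm_apply_apply]

lemma Zsub_isSheaf : Presheaf.IsSheaf (AlgSp.J S) (Zsub q I).toFunctor := by
  have hsh : Presieve.IsSheaf (AlgSp.J S) X.obj := (isSheaf_iff_isSheaf_of_type _ _).1 X.property
  rw [isSheaf_iff_isSheaf_of_type, Subfunctor.isSheaf_iff _ hsh]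
  rintro ⟨T⟩ s hmem
  change Zmem q I ((yEquiv T X).symm s)
  intro W a b hab
  refine le_ker_of_sieve I b (((Zsub q I).sieveOfSection s).pullback a)
    ((AlgSp.J S).pullback_stable a hmem) ?_
  intro V φ hφ
  have h1 : X.obj.map (φ ≫ a).op s ∈ (Zsub q I).obj (op V) := hφ
  have h2 : Zmem q I ((yEquiv V X).symm (X.obj.map (φ ≫ a).op s)) := h1
  have e : (yEquiv V X).symm (X.obj.map (φ ≫ a).op s) =
      (AlgSp.yon S).map (φ ≫ a) ≫ (yEquiv T X).symm s :=
    (AlgSp.J S).uliftYonedaEquiv_symm_map (φ ≫ a).op s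
  rw [e] at h2
  refine h2 V (𝟙 V) (φ ≫ b) ?_
  rw [CategoryTheory.Functor.map_id, Category.id_comp, CategoryTheory.Functor.map_comp,
    Category.assoc, hab, CategoryTheory.Functor.map_comp, Category.assoc]

/-- the closed subspace as a sheaf. -/
noncomputable def Zsh : AlgSp.Sp S := ⟨(Zsub q I).toFunctor, Zsub_isSheaf q I⟩

/-- the inclusion. -/
noncomputable def incl : Zsh q I ⟶ X := ObjectProperty.homMk (Zsub q I).ι

instance : Mono (incl q I) := by
  haveI : Mono (incl q I).hom := inferInstanceAs (Mono (Zsub q I).ι)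
  exact Sheaf.Hom.mono_of_presheaf_mono _ _ _

lemma factor_iff {T' : Over S} (ξ : (AlgSp.yon S).obj T' ⟶ X) :
    (∃ a : (AlgSp.yon S).obj T' ⟶ Zsh q I, a ≫ incl q I = ξ) ↔ Zmem q I ξ := by
  rw [← mem_Zsub_iff]
  constructor
  · rintro ⟨a, rfl⟩
    rw [yEquiv_comp]
    exact (yEquiv T' (Zsh q I) a).2
  · intro h
    refine ⟨(yEquiv T' (Zsh q I)).symm ⟨yEquiv T' X ξ, h⟩, ?_⟩
    rw [yEquiv_symm_comp]
    apply (yEquiv T' X).injective
    rw [Equiv.apply_symm_apply]
    rfl

/-- the base change of the closed subspace to a scheme `T'`, computed from a chart of `T' ×_X U`. -/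
theorem exists_isPullback {T' W : Over S} (ξ : (AlgSp.yon S).obj T' ⟶ X) (p : W ⟶ T') (w₀ : W ⟶ U)
    (sq : IsPullback ((AlgSp.yon S).map w₀) ((AlgSp.yon S).map p) q ξ)
    [Etale p.left] [Surjective p.left]
    (J : T'.left.IdealSheafData) (hJ : J.comap p.left = I.comap w₀.left) :
    ∃ fst : (AlgSp.yon S).obj (VI J) ⟶ Zsh q I,
      IsPullback fst ((AlgSp.yon S).map (ιo J)) (incl q I) ξ := by
  -- `V(J) ⟶ T' ⟶ X` lies in the closed subspace
  have hV : Zmem q I ((AlgSp.yon S).map (ιo J) ≫ ξ) := by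
    intro W'' a b hab
    obtain ⟨d, hd⟩ := (AlgSp.yon S).map_surjective
      (sq.lift ((AlgSp.yon S).map b) ((AlgSp.yon S).map (a ≫ ιo J)) (by
        rw [← hab, CategoryTheory.Functor.map_comp, Category.assoc]))
    have hd1 : d ≫ w₀ = b := (AlgSp.yon S).map_injective (by
      rw [CategoryTheory.Functor.map_comp, hd, sq.lift_fst])
    have hd2 : d ≫ p = a ≫ ιo J := (AlgSp.yon S).map_injective (by
      rw [CategoryTheory.Functor.map_comp, hd, sq.lift_snd])
    have hd1' : d.left ≫ w₀.left = b.left := congrArg (fun m => m.left) hd1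
    have hd2' : d.left ≫ p.left = a.left ≫ J.subschemeι := congrArg (fun m => m.left) hd2
    rw [← comap_eq_bot_iff, ← hd1', Scheme.IdealSheafData.comap_comp, ← hJ,
      ← Scheme.IdealSheafData.comap_comp, hd2', comap_eq_bot_iff]
    have h := Scheme.Hom.le_ker_comp a.left J.subschemeι
    rwa [Scheme.IdealSheafData.ker_subschemeι] at h
  obtain ⟨fst, hfst⟩ := (factor_iff q I _).2 hV
  refine ⟨fst, ?_⟩
  apply isPullback_of_yon hfst
  intro T'' b' c' hbc
  obtain ⟨γ, rfl⟩ := (AlgSp.yon S).map_surjective c'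
  have hT'' : Zmem q I ((AlgSp.yon S).map γ ≫ ξ) := by
    rw [← hbc]
    exact (factor_iff q I _).1 ⟨b', rfl⟩
  -- pull the chart back along `γ`
  let W'' : Over S := Over.mk (pullback.snd p.left γ.left ≫ T''.hom)
  let a : W'' ⟶ T'' := Over.homMk (pullback.snd p.left γ.left) rfl
  let d : W'' ⟶ W := Over.homMk (pullback.fst p.left γ.left) (by
    change pullback.fst p.left γ.left ≫ W.hom = pullback.snd p.left γ.left ≫ T''.hom
    rw [← Over.w p, ← Over.w γ, ← Category.assoc, ← Category.assoc, pullback.condition])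
  have hda : d ≫ p = a ≫ γ := Over.OverMorphism.ext pullback.condition
  have hJle : J ≤ γ.left.ker := by
    have h1 := hT'' W'' a (d ≫ w₀) (by
      rw [← Category.assoc, ← CategoryTheory.Functor.map_comp, ← hda,
        CategoryTheory.Functor.map_comp, Category.assoc, ← sq.w,
        CategoryTheory.Functor.map_comp, Category.assoc])
    rw [← comap_eq_bot_iff] at h1 ⊢
    have h2 : (J.comap γ.left).comap a.left = (⊥ : T''.left.IdealSheafData).comap a.left := by
      rw [← Scheme.IdealSheafData.comap_comp, Scheme.IdealSheafData.comap_bot]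
      have : a.left ≫ γ.left = d.left ≫ p.left := (congrArg (fun m => m.left) hda).symm
      rw [this, Scheme.IdealSheafData.comap_comp, hJ, ← Scheme.IdealSheafData.comap_comp]
      exact h1
    haveI : Etale a.left := inferInstanceAs (Etale (pullback.snd p.left γ.left))
    haveI : Surjective a.left := inferInstanceAs (Surjective (pullback.snd p.left γ.left))
    exact comap_injective_single a.left h2
  obtain ⟨a₀, ha₀⟩ := (exists_lift_iff J γ).2 hJle
  refine ⟨(AlgSp.yon S).map a₀, ⟨?_, ?_⟩, ?_⟩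
  · rw [← cancel_mono (incl q I), Category.assoc, hfst, ← Category.assoc,
      ← CategoryTheory.Functor.map_comp, ha₀, hbc]
  · rw [← CategoryTheory.Functor.map_comp, ha₀]
  · intro a₂ ⟨_, e2⟩
    obtain ⟨α, rfl⟩ := (AlgSp.yon S).map_surjective a₂
    have e2' : α ≫ ιo J = γ := (AlgSp.yon S).map_injective (by
      rw [CategoryTheory.Functor.map_comp]; exact e2)
    congr 1
    rw [← cancel_mono (ιo J), e2', ha₀]

/-- invariance of the ideal sheaf under the equivalence relation of the chart. -/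
def Invariant : Prop :=
  ∀ (W' : Over S) (b₁ b₂ : W' ⟶ U),
    (AlgSp.yon S).map b₁ ≫ q = (AlgSp.yon S).map b₂ ≫ q → I.comap b₁.left = I.comap b₂.left

variable {q I}

theorem repWith_incl (hqe : AlgSp.RepWith @Etale q) (hqs : AlgSp.RepWith @Surjective q)
    (hinv : Invariant q I) : AlgSp.RepWith @IsClosedImmersion (incl q I) := by
  apply MorphismProperty.relative.of_exists
  intro T' ξ
  obtain ⟨W, p, w', sq⟩ := hqe.1 ξ
  obtain ⟨w₀, rfl⟩ := (AlgSp.yon S).map_surjective w'
  haveI : Etale p.left := hqe.2 ξ _ p sq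
  haveI : Surjective p.left := hqs.2 ξ _ p sq
  -- the descent condition
  let W2 : Over S := Over.mk (pullback.fst p.left p.left ≫ W.hom)
  let pr₁ : W2 ⟶ W := Over.homMk (pullback.fst p.left p.left) rfl
  let pr₂ : W2 ⟶ W := Over.homMk (pullback.snd p.left p.left) (by
    change pullback.snd p.left p.left ≫ W.hom = pullback.fst p.left p.left ≫ W.hom
    rw [← Over.w p, ← Category.assoc, ← Category.assoc, pullback.condition])
  have hpr : pr₁ ≫ p = pr₂ ≫ p := Over.OverMorphism.ext pullback.condition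
  have h := hinv W2 (pr₁ ≫ w₀) (pr₂ ≫ w₀) (by
    rw [CategoryTheory.Functor.map_comp, CategoryTheory.Functor.map_comp, Category.assoc,
      Category.assoc, sq.w, ← Category.assoc, ← Category.assoc,
      ← CategoryTheory.Functor.map_comp, ← CategoryTheory.Functor.map_comp, hpr])
  have h' : (I.comap w₀.left).comap (pullback.fst p.left p.left) =
      (I.comap w₀.left).comap (pullback.snd p.left p.left) := by
    rw [← Scheme.IdealSheafData.comap_comp, ← Scheme.IdealSheafData.comap_comp]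
    exact h
  obtain ⟨J, hJ⟩ := exists_comap_eq_single p.left (I.comap w₀.left) h'
  obtain ⟨fst, hfst⟩ := exists_isPullback q I ξ p w₀ sq J hJ
  exact ⟨VI J, fst, ιo J, hfst, inferInstanceAs (IsClosedImmersion J.subschemeι)⟩

/-- the closed subscheme of the chart is the base change of the closed subspace. -/
theorem exists_chart_isPullback (hqe : AlgSp.RepWith @Etale q) (hqs : AlgSp.RepWith @Surjective q)
    (hinv : Invariant q I) :
    ∃ fst : (AlgSp.yon S).obj (VI I) ⟶ Zsh q I,
      IsPullback fst ((AlgSp.yon S).map (ιo I)) (incl q I) q := by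
  obtain ⟨R, s, t', sq⟩ := hqe.1 q
  obtain ⟨t₀, rfl⟩ := (AlgSp.yon S).map_surjective t'
  haveI : Etale s.left := hqe.2 q _ s sq
  haveI : Surjective s.left := hqs.2 q _ s sq
  exact exists_isPullback q I q s t₀ sq I (hinv R s t₀ sq.w.symm)

end

end Groth.Agent.Lib.H5bClosedSub
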