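import Mathlib
import Groth.Prelude.Def_Dual3
import Groth.Agent.Lib.H5bHasAtMor
import Groth.Agent.Lib.Helper6QFAffB
import Groth.Agent.Lib.Helper4DimFormulaAL

/-!
# Residual transcendence degree at a point (helper5, second batch)

* `resTrdeg_comp`: additivity along composites (no finiteness hypotheses).
* `resTrdeg_eq_ptTrdeg`: for morphisms locally of finite type it is the natural number `ptTrdeg`.
* `resTrdeg_eq_zero_of_lqf`, `resTrdeg_eq_zero_of_etale`.
* `etLocalQ_resTrdeg`: étale local on the source and target.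
-/

set_option autoImplicit false
set_option linter.style.haveILetI false
universe u
open CategoryTheory CategoryTheory.Limits AlgebraicGeometry Topology TopologicalSpace

namespace Groth.Agent.Lib.H5bResTrdeg

open Groth.Agent.Lib.Helper4.DimFormula Algebra

theorem resTrdeg_comp {X Y S : Scheme.{u}} (f : X ⟶ Y) (q : Y ⟶ S) (x : X) :
    Dual3.resTrdeg (f ≫ q) x = Dual3.resTrdeg q (f.base x) + Dual3.resTrdeg f x := by
  letI : Algebra (S.residueField (q.base (f.base x))) (Y.residueField (f.base x)) :=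
    (q.residueFieldMap (f.base x)).hom.toAlgebra
  letI : Algebra (Y.residueField (f.base x)) (X.residueField x) := (f.residueFieldMap x).hom.toAlgebra
  letI : Algebra (S.residueField (q.base (f.base x))) (X.residueField x) :=
    ((f ≫ q).residueFieldMap x).hom.toAlgebra
  haveI : IsScalarTower (S.residueField (q.base (f.base x))) (Y.residueField (f.base x))
      (X.residueField x) :=
    IsScalarTower.of_algebraMap_eq fun c => by
      change ((f ≫ q).residueFieldMap x).hom c = _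
      rw [Scheme.residueFieldMap_comp]
      rfl
  haveI : FaithfulSMul (S.residueField (q.base (f.base x))) (Y.residueField (f.base x)) :=
    (faithfulSMul_iff_algebraMap_injective _ _).mpr (RingHom.injective _)
  haveI : FaithfulSMul (Y.residueField (f.base x)) (X.residueField x) :=
    (faithfulSMul_iff_algebraMap_injective _ _).mpr (RingHom.injective _)
  have h4 := trdeg_add_eq (S.residueField (q.base (f.base x))) (Y.residueField (f.base x))
    (A := X.residueField x)
  exact h4.symm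

theorem resTrdeg_eq_ptTrdeg {X Y : Scheme.{u}} (f : X ⟶ Y) [LocallyOfFiniteType f] (x : X) :
    Dual3.resTrdeg f x = (ptTrdeg f x : Cardinal.{u}) :=
  trdeg_eq_ptTrdeg f x

theorem resTrdeg_eq_zero_of_lqf {X Y : Scheme.{u}} (f : X ⟶ Y) [LocallyOfFiniteType f]
    [LocallyQuasiFinite f] (x : X) : Dual3.resTrdeg f x = 0 := by
  rw [resTrdeg_eq_ptTrdeg, Groth.Agent.Lib.Helper6.QFAff.ptTrdeg_eq_zero_of_locallyQuasiFinite f x]
  simp

theorem resTrdeg_eq_zero_of_etale {X Y : Scheme.{u}} (f : X ⟶ Y) [Etale f] (x : X) :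
    Dual3.resTrdeg f x = 0 := by
  have : LocallyQuasiFinite f :=
    ((Groth.Agent.Lib.Helper6.SmQF.etale_iff_smooth_and_locallyQuasiFinite f).mp inferInstance).2
  exact resTrdeg_eq_zero_of_lqf f x

theorem resTrdeg_congr {X Y : Scheme.{u}} {f g : X ⟶ Y} (h : f = g) (x : X) :
    Dual3.resTrdeg f x = Dual3.resTrdeg g x := by
  subst h; rfl

theorem resTrdeg_eq_of_etale_square {U U' V V' : Scheme.{u}} (h : U ⟶ V) (h' : U' ⟶ V')
    (a : U' ⟶ U) (b : V' ⟶ V) [Etale a] [Etale b] (comm : h' ≫ b = a ≫ h) (u' : U') :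
    Dual3.resTrdeg h (a.base u') = Dual3.resTrdeg h' u' := by
  have h1 := resTrdeg_comp h' b u'
  have h2 := resTrdeg_comp a h u'
  rw [resTrdeg_eq_zero_of_etale b, zero_add] at h1
  rw [resTrdeg_eq_zero_of_etale a, add_zero] at h2
  rw [← h1, ← h2]
  exact (resTrdeg_congr comm u').symm

theorem etLocalQ_resTrdeg (R : Cardinal.{u} → Prop) :
    Groth.Agent.Lib.H5bHasAtMor.EtLocalQ (fun _ _ h u => R (Dual3.resTrdeg h u)) := by
  intro U U' V V' h h' a b ha hb comm u'
  have := ha
  have := hb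
  show R (Dual3.resTrdeg h (a.base u')) ↔ R (Dual3.resTrdeg h' u')
  rw [resTrdeg_eq_of_etale_square h h' a b comm u']

section Sp

open AlgSp

variable {S : Scheme.{u}}

/-- composable chart diagrams through a point. -/
theorem exists_composable_charts {X Y Z : AlgSp.Sp S} (hX : IsAlgSpace X) (hY : IsAlgSpace Y)
    (hZ : IsAlgSpace Z) (f : X ⟶ Y) (g : Y ⟶ Z) (x : Points X) :
    ∃ (U V T : Over S) (a : (yon S).obj U ⟶ X) (b : (yon S).obj V ⟶ Y) (c : (yon S).obj T ⟶ Z)
      (h : U ⟶ V) (k : V ⟶ T) (u : ↥U.left),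
      RepWith @Etale a ∧ RepWith @Etale b ∧ RepWith @Etale c ∧
      a ≫ f = (yon S).map h ≫ b ∧ b ≫ g = (yon S).map k ≫ c ∧
      a ≫ (f ≫ g) = (yon S).map (h ≫ k) ≫ c ∧
      Points.ofPt a u = x ∧ Points.ofPt b (h.left.base u) = Points.map f x := by
  obtain ⟨T₀, r, hr, hrs⟩ := hZ.atlas
  obtain ⟨V₀, q, hq, hqs⟩ := hY.atlas
  obtain ⟨U₀, p, hp, hps⟩ := hX.atlas
  obtain ⟨V, prV, k, hprV, hwV, hptV⟩ :=
    Groth.Agent.Lib.H5bLqfDim.exists_chartPullback g q r hr
  have hbV : RepWith @Etale ((yon S).map prV ≫ q) :=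
    (RepWith @Etale).comp_mem _ _ ((repWith_yon_map_iff @Etale prV).2 hprV) hq
  obtain ⟨U, prU, h, hprU, hwU, hptU⟩ :=
    Groth.Agent.Lib.H5bLqfDim.exists_chartPullback f p ((yon S).map prV ≫ q) hbV
  have haU : RepWith @Etale ((yon S).map prU ≫ p) :=
    (RepWith @Etale).comp_mem _ _ ((repWith_yon_map_iff @Etale prU).2 hprU) hp
  have hcomp : ((yon S).map prU ≫ p) ≫ (f ≫ g) = (yon S).map (h ≫ k) ≫ r := by
    rw [← Category.assoc, hwU, Category.assoc, hwV, Functor.map_comp, Category.assoc]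
  obtain ⟨u₀, hu₀⟩ := Groth.Agent.S10177.surjective_ofPt p hps x
  obtain ⟨v₀, hv₀⟩ := Groth.Agent.S10177.surjective_ofPt q hqs (Points.map f x)
  obtain ⟨t₀, ht₀⟩ := Groth.Agent.S10177.surjective_ofPt r hrs (Points.map g (Points.map f x))
  obtain ⟨v, hv1, hv2⟩ := hptV v₀ t₀ (by
    rw [ht₀, ← hv₀]; rfl)
  have hvy : Points.ofPt ((yon S).map prV ≫ q) v = Points.map f x := by
    rw [Groth.Agent.S10176.ofPt_map_comp, hv1, hv₀]
  obtain ⟨u, hu1, hu2⟩ := hptU u₀ v (by
    rw [hvy, ← hu₀]; rfl)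
  have hux : Points.ofPt ((yon S).map prU ≫ p) u = x := by
    rw [Groth.Agent.S10176.ofPt_map_comp, hu1, hu₀]
  refine ⟨U, V, T₀, _, _, r, h, k, u, haU, hbV, hr, hwU, hwV, hcomp, hux, ?_⟩
  rw [hu2]; exact hvy

end Sp

end Groth.Agent.Lib.H5bResTrdeg
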