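import Mathlib
import Groth.Prelude
import Groth.Agent.Lib.H5bResTrdeg
import Groth.Agent.Lib.H5bHasAtMor
import Groth.Agent.Lib.Helper4DimFormulaAP
import Groth.Agent.Lib.Helper4DimFormulaAL
import Groth.Agent.Lib.Helper4DimFormulaAJ
import Groth.Agent.Lib.Helper4DimFormulaAD
import Groth.Agent.Lib.Helper4FibDimL
import Groth.Agent.Lib.Helper7TopDim
import Groth.Agent.Lib.Helper3GrpHomQF
import Groth.Agent.S5341

/-!
# Algebraic spaces locally of finite type over a one-point base

Scheme-level lemmas on residue transcendence degrees, closed points and local dimensions for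
schemes locally of finite type over a field, and their consequences for étale charts of a sheaf
`X` with a structure map `p : X ⟶ h_K` to a one-point scheme `K`.
-/

set_option autoImplicit false
universe u
open CategoryTheory CategoryTheory.Limits AlgebraicGeometry TopologicalSpace

namespace Groth.Agent.Lib.H5bFieldSp

open Groth.Agent.Lib.Helper4.DimFormula

/-- on a locally closed set `G` of a Jacobson scheme on which the residue transcendence
degree is constant, the local fibre dimension vanishes at points all of whose generizations lie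
in `G`. -/
theorem fibreDimAt_le_zero_of_const {T B : Scheme.{u}} (g : T ⟶ B) [LocallyOfFiniteType g]
    [JacobsonSpace ↥T] (G : Set ↥T) (hG : IsLocallyClosed G)
    (hconst : ∀ t₁ ∈ G, ∀ t₂ ∈ G, Dual3.resTrdeg g t₁ = Dual3.resTrdeg g t₂)
    (t : ↥T) (ht : t ∈ G) (hgen : ∀ w : ↥T, w ⤳ t → w ∈ G) : FlatMor.fibreDimAt g t ≤ 0 := by
  obtain ⟨z, hzG, hz⟩ := nonempty_inter_closedPoints ⟨t, ht⟩ hG
  have h0 : ptTrdeg g z = 0 := ptTrdeg_eq_zero_of_isClosed g z hz
  obtain ⟨w', -, hsp, hw'⟩ := exists_ptTrdeg_eq_fibreDimAt g t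
  have h3 : Dual3.resTrdeg g w' = Dual3.resTrdeg g z := hconst w' (hgen w' hsp) z hzG
  rw [Groth.Agent.Lib.H5bResTrdeg.resTrdeg_eq_ptTrdeg,
    Groth.Agent.Lib.H5bResTrdeg.resTrdeg_eq_ptTrdeg, h0] at h3
  have h4 : ptTrdeg g w' = 0 := by exact_mod_cast h3
  rw [hw', h4]
  simp

/-- on a locally closed set `G` of a Jacobson scheme on which the residue transcendence
degree is constant, that degree is zero. -/
theorem resTrdeg_eq_zero_of_const {T B : Scheme.{u}} (g : T ⟶ B) [LocallyOfFiniteType g]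
    [JacobsonSpace ↥T] (G : Set ↥T) (hG : IsLocallyClosed G)
    (hconst : ∀ t₁ ∈ G, ∀ t₂ ∈ G, Dual3.resTrdeg g t₁ = Dual3.resTrdeg g t₂)
    (t : ↥T) (ht : t ∈ G) : ptTrdeg g t = 0 := by
  obtain ⟨z, hzG, hz⟩ := nonempty_inter_closedPoints ⟨t, ht⟩ hG
  have h0 : ptTrdeg g z = 0 := ptTrdeg_eq_zero_of_isClosed g z hz
  have h3 : Dual3.resTrdeg g t = Dual3.resTrdeg g z := hconst t ht z hzG
  rw [Groth.Agent.Lib.H5bResTrdeg.resTrdeg_eq_ptTrdeg,
    Groth.Agent.Lib.H5bResTrdeg.resTrdeg_eq_ptTrdeg, h0] at h3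
  exact_mod_cast h3

/-- a set of clopen points in a locally Noetherian scheme is closed. -/
theorem isClosed_of_forall_isOpen_singleton {T : Scheme.{u}} [IsLocallyNoetherian T] (G : Set ↥T)
    (hG : ∀ t ∈ G, IsOpen ({t} : Set ↥T) ∧ IsClosed ({t} : Set ↥T)) : IsClosed G := by
  rw [← closure_subset_iff_isClosed]
  intro w hw
  obtain ⟨_, ⟨W, hW, rfl⟩, hwW, -⟩ := T.isBasis_affineOpens.exists_subset_of_mem_open
    (Set.mem_univ w) isOpen_univ
  replace hW : IsAffineOpen W := hW
  haveI : IsNoetherianRing Γ(T, W) := IsLocallyNoetherian.component_noetherian ⟨W, hW⟩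
  haveI : NoetherianSpace ((W : Set ↥T) : Type u) := noetherianSpace_of_isAffineOpen W hW
  have hfin : (G ∩ (W : Set ↥T)).Finite := by
    have hc : IsCompact (Subtype.val ⁻¹' G : Set ((W : Set ↥T) : Type u)) :=
      NoetherianSpace.isCompact _
    have hd : _root_.IsDiscrete (Subtype.val ⁻¹' G : Set ((W : Set ↥T) : Type u)) := by
      rw [isDiscrete_iff_forall_mem_exists_isOpen]
      intro y hy
      refine ⟨{y}, ?_, ?_⟩
      · have := (hG y.1 hy).1.preimage (continuous_subtype_val (p := fun t => t ∈ (W : Set ↥T)))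
        convert this
        ext y'
        simp only [Set.mem_singleton_iff, Set.mem_preimage]
        exact Subtype.ext_iff
      · ext y'
        simp only [Set.mem_inter_iff, Set.mem_singleton_iff, Set.mem_preimage]
        constructor
        · rintro ⟨h1, -⟩; exact h1
        · rintro rfl; exact ⟨rfl, hy⟩
    have h1 := (hc.finite hd).image Subtype.val
    refine h1.subset ?_
    rintro t ⟨htG, htW⟩
    exact ⟨⟨t, htW⟩, htG, rfl⟩
  have hcl : IsClosed (G ∩ (W : Set ↥T)) := by
    have := hfin.isClosed_biUnion (f := fun t => ({t} : Set ↥T)) (fun t ht => (hG t ht.1).2)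
    rwa [Set.biUnion_of_singleton] at this
  have h1 : w ∈ closure (G ∩ (W : Set ↥T)) := by
    have := W.isOpen.inter_closure (t := G) ⟨hwW, hw⟩
    rwa [Set.inter_comm] at this
  rw [hcl.closure_eq] at h1
  exact h1.1

/-- codimension zero iff no proper generization. -/
theorem stalk_dim_zero_iff {U : Scheme.{u}} (u : U) :
    ringKrullDim (U.presheaf.stalk u) = 0 ↔ ∀ u' : U, u' ⤳ u → u' = u := by
  rw [ringKrullDim_stalk_eq_coheight]
  constructor
  · intro h u' hsp
    have h0 : Order.coheight u = 0 := by exact_mod_cast h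
    have hmax : IsMax u := Order.coheight_eq_zero.mp h0
    have h1 : u ≤ u' := hsp
    have h2 : u' ≤ u := hmax h1
    exact (Specializes.antisymm h1 h2).eq
  · intro h
    have : Order.coheight u = 0 := by
      rw [Order.coheight_eq_zero]
      intro w hw
      have hw' : w ⤳ u := hw
      rw [h w hw']
    rw [this]
    rfl

/-- over a one-point locally Noetherian base, a point of residue transcendence degree zero has
no proper specialization. -/
theorem eq_of_specializes_of_ptTrdeg_eq_zero {T B : Scheme.{u}} (g : T ⟶ B)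
    [LocallyOfFiniteType g] [IsLocallyNoetherian B] [Subsingleton ↥B] (t t' : ↥T)
    (h0 : ptTrdeg g t = 0) (hsp : t ⤳ t') : t = t' := by
  obtain ⟨𝔭, h𝔭, rfl⟩ := exists_prime_fromSpecStalk_eq hsp
  have h1 := ringKrullDim_quotient_add_ptTrdeg_le g t' 𝔭
  rw [h0] at h1
  have h2 : ringKrullDim (B.presheaf.stalk (g.base t') ⧸ 𝔭.comap (g.stalkMap t').hom) ≤ 0 := by
    refine (ringKrullDim_quotient_le _).trans (le_of_eq ?_)
    rw [stalk_dim_zero_iff]
    intro b _
    exact Subsingleton.elim _ _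
  have h3 : ringKrullDim (T.presheaf.stalk t' ⧸ 𝔭) ≤ 0 := by
    have h4 : ringKrullDim (T.presheaf.stalk t' ⧸ 𝔭) ≤
        ringKrullDim (T.presheaf.stalk t' ⧸ 𝔭) + ((ptTrdeg g t' : ℕ) : WithBot ℕ∞) :=
      le_add_of_nonneg_right (by exact_mod_cast Nat.zero_le _)
    refine h4.trans (h1.trans ?_)
    calc ringKrullDim (B.presheaf.stalk (g.base t') ⧸ 𝔭.comap (g.stalkMap t').hom) +
          ((0 : ℕ) : WithBot ℕ∞)
        = ringKrullDim (B.presheaf.stalk (g.base t') ⧸ 𝔭.comap (g.stalkMap t').hom) := by simp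
      _ ≤ 0 := h2
  have h5 : 𝔭 = IsLocalRing.maximalIdeal (T.presheaf.stalk t') := by
    by_contra hne
    have h6 := one_le_ringKrullDim_quotient_of_ne_maximalIdeal 𝔭 hne
    have h7 : (1 : WithBot ℕ∞) ≤ 0 := h6.trans h3
    exact absurd h7 (by decide)
  subst h5
  exact Scheme.fromSpecStalk_closedPoint

/-- over a one-point locally Noetherian base, a point of residue transcendence degree zero is
closed. -/
theorem isClosed_singleton_of_ptTrdeg_eq_zero {T B : Scheme.{u}} (g : T ⟶ B)
    [LocallyOfFiniteType g] [IsLocallyNoetherian B] [Subsingleton ↥B] (t : ↥T)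
    (h0 : ptTrdeg g t = 0) : IsClosed ({t} : Set ↥T) := by
  rw [← closure_subset_iff_isClosed]
  intro t' ht'
  have hsp : t ⤳ t' := specializes_iff_mem_closure.mpr ht'
  exact (eq_of_specializes_of_ptTrdeg_eq_zero g t t' h0 hsp).symm

/-- a scheme all of whose points are closed has dimension `≤ 0`. -/
theorem topologicalKrullDim_le_zero_of_forall_isClosed (T : Scheme.{u})
    (h : ∀ t : ↥T, IsClosed ({t} : Set ↥T)) : topologicalKrullDim ↥T ≤ 0 := by
  rw [Groth.Agent.Lib.Helper4.FibDim.topologicalKrullDim_eq_iSup_ringKrullDim_stalk]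
  refine iSup_le fun t => le_of_eq ((stalk_dim_zero_iff t).2 fun t' hsp => ?_)
  have h1 : t ∈ ({t'} : Set ↥T) := hsp.mem_closed (h t') rfl
  exact (Set.mem_singleton_iff.mp h1).symm

section Sp

open AlgSp

variable {S : Scheme.{u}}

/-- charts of a sheaf over a one-point scheme: points with the same image in `|X|` have the same
residue transcendence degree. -/
theorem resTrdeg_eq_of_ofPt_eq {X : AlgSp.Sp S} {K : Over S} (p : X ⟶ (yon S).obj K)
    {U : Over S} (a : (yon S).obj U ⟶ X) (ha : RepWith @Etale a) (g : U ⟶ K)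
    (hcomm : a ≫ p = (yon S).map g ≫ 𝟙 _) (t₁ t₂ : ↥U.left)
    (h : Points.ofPt a t₁ = Points.ofPt a t₂) :
    Dual3.resTrdeg g.left t₁ = Dual3.resTrdeg g.left t₂ := by
  have e1 := Groth.Agent.Lib.H5bHasAtMor.hasAtMor_iff_of_chart
    (Groth.Agent.Lib.H5bResTrdeg.etLocalQ_resTrdeg (fun e => e = Dual3.resTrdeg g.left t₂))
    p (Points.ofPt a t₂) a (𝟙 _) g ha (repWith_id _ _) hcomm t₁ h
  have e2 := Groth.Agent.Lib.H5bHasAtMor.hasAtMor_iff_of_chart
    (Groth.Agent.Lib.H5bResTrdeg.etLocalQ_resTrdeg (fun e => e = Dual3.resTrdeg g.left t₂))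
    p (Points.ofPt a t₂) a (𝟙 _) g ha (repWith_id _ _) hcomm t₂ rfl
  exact e1.1 (e2.2 rfl)

/-- existence of the chart map to the one-point base. -/
theorem exists_chart_to_base {X : AlgSp.Sp S} {K : Over S} (p : X ⟶ (yon S).obj K)
    (hp : LocP @LocallyOfFiniteType p)
    {U : Over S} (a : (yon S).obj U ⟶ X) (ha : RepWith @Etale a) :
    ∃ g : U ⟶ K, a ≫ p = (yon S).map g ≫ 𝟙 _ ∧ LocallyOfFiniteType g.left := by
  obtain ⟨g, hg⟩ := (yon S).map_surjective (a ≫ p)
  have hcomm : a ≫ p = (yon S).map g ≫ 𝟙 _ := by rw [hg, Category.comp_id]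
  exact ⟨g, hcomm, hp a (𝟙 _) g ha (repWith_id _ _) hcomm⟩

/-- **Key statement**: for `X` locally of finite type over a one-point Jacobson locally Noetherian
scheme `K`, a chart point `u` over a locally closed point `x` of `|X|` without proper
generizations is clopen with local dimension zero. -/
theorem chart_point_isolated {X : AlgSp.Sp S} {K : Over S} [Subsingleton ↥K.left]
    [JacobsonSpace ↥K.left] [IsLocallyNoetherian K.left] (p : X ⟶ (yon S).obj K)
    (hp : LocP @LocallyOfFiniteType p)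
    {U : Over S} (a : (yon S).obj U ⟶ X) (ha : RepWith @Etale a) (u : ↥U.left)
    (hlc : IsLocallyClosed ({Points.ofPt a u} : Set (Points X)))
    (hgen : ∀ x' : Points X, x' ⤳ Points.ofPt a u → x' = Points.ofPt a u) :
    IsOpen ({u} : Set ↥U.left) ∧ IsClosed ({u} : Set ↥U.left) ∧
      FlatMor.localDim ↥U.left u = 0 := by
  obtain ⟨g, hcomm, hlft⟩ := exists_chart_to_base p hp a ha
  haveI := hlft
  haveI : JacobsonSpace ↥U.left := LocallyOfFiniteType.jacobsonSpace g.left
  haveI : IsLocallyNoetherian U.left := LocallyOfFiniteType.isLocallyNoetherian g.left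
  have hle : FlatMor.fibreDimAt g.left u ≤ 0 :=
    fibreDimAt_le_zero_of_const g.left (Points.ofPt a ⁻¹' {Points.ofPt a u})
      (hlc.preimage (Points.continuous_ofPt a))
      (fun t₁ ht₁ t₂ ht₂ => resTrdeg_eq_of_ofPt_eq p a ha g hcomm t₁ t₂ (ht₁.trans ht₂.symm))
      u rfl (fun w hw => hgen _ (hw.map (Points.continuous_ofPt a)))
  rw [Groth.Agent.S5341.fibreDimAt_eq_localDim_of_subsingleton] at hle
  have hopen : IsOpen ({u} : Set ↥U.left) :=
    (Groth.Agent.Lib.Helper3.GrpHomQF.isOpen_singleton_iff_localDim_le_zero U.left u).2 hle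
  exact ⟨hopen, isClosed_singleton_of_isLocallyClosed_singleton hopen.isLocallyClosed,
    le_antisymm hle (Groth.Agent.Lib.Helper7.TopDim.localDim_nonneg u)⟩

/-- for `X` locally of finite type over a one-point Jacobson locally Noetherian scheme, a chart
point over a locally closed point of `|X|` is closed in the chart. -/
theorem chart_point_isClosed {X : AlgSp.Sp S} {K : Over S} [Subsingleton ↥K.left]
    [JacobsonSpace ↥K.left] [IsLocallyNoetherian K.left] (p : X ⟶ (yon S).obj K)
    (hp : LocP @LocallyOfFiniteType p)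
    {U : Over S} (a : (yon S).obj U ⟶ X) (ha : RepWith @Etale a) (u : ↥U.left)
    (hlc : IsLocallyClosed ({Points.ofPt a u} : Set (Points X))) :
    IsClosed ({u} : Set ↥U.left) := by
  obtain ⟨g, hcomm, hlft⟩ := exists_chart_to_base p hp a ha
  haveI := hlft
  haveI : JacobsonSpace ↥U.left := LocallyOfFiniteType.jacobsonSpace g.left
  have h0 : ptTrdeg g.left u = 0 :=
    resTrdeg_eq_zero_of_const g.left (Points.ofPt a ⁻¹' {Points.ofPt a u})
      (hlc.preimage (Points.continuous_ofPt a))
      (fun t₁ ht₁ t₂ ht₂ => resTrdeg_eq_of_ofPt_eq p a ha g hcomm t₁ t₂ (ht₁.trans ht₂.symm))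
      u rfl
  exact isClosed_singleton_of_ptTrdeg_eq_zero g.left u h0

end Sp

end Groth.Agent.Lib.H5bFieldSp
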