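import Mathlib
import Groth.Prelude
import Groth.Agent.Lib.H5bFieldSp
import Groth.Agent.Lib.H5bLqfDim
import Groth.Agent.Lib.H5bEtLocal
import Groth.Agent.Lib.Helper4DimFormulaAE
import Groth.Agent.Lib.Helper4DimFormulaG
import Groth.Agent.S10485

/-!
# Quasi-finiteness over points of codimension at most one
-/

set_option autoImplicit false
universe u
open CategoryTheory CategoryTheory.Limits AlgebraicGeometry TopologicalSpace

namespace Groth.Agent.Lib.H5bCodimOne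

open Groth.Agent.Lib.Helper4.DimFormula Groth.Agent.Lib.H5bFieldSp

/-- existence of a maximal generization. -/
theorem exists_maximal_generization {U : Scheme.{u}} (u : U) :
    ∃ u'' : U, u'' ⤳ u ∧ ∀ w : U, w ⤳ u'' → w = u'' := by
  obtain ⟨𝔭, h𝔭, -⟩ := Ideal.exists_minimalPrimes_le
    (bot_le : (⊥ : Ideal (U.presheaf.stalk u)) ≤ IsLocalRing.maximalIdeal _)
  haveI : 𝔭.IsPrime := h𝔭.1.1
  exact ⟨_, fromSpecStalk_specializes u ⟨𝔭, inferInstance⟩,
    (mem_minimalPrimes_iff_fromSpecStalk_maximal u 𝔭).1 h𝔭⟩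

/-- **Lemma F**: over a point of codimension `≤ 1` of a locally Noetherian scheme, a morphism
locally of finite type is quasi-finite at `u` as soon as the maximal points of the source
whose images specialize to `h u` have residue transcendence degree zero. -/
theorem fibreDimAt_le_zero_of_codim_le_one {U V : Scheme.{u}} (h : U ⟶ V)
    [LocallyOfFiniteType h] [IsLocallyNoetherian V] (u : U)
    (hv : ringKrullDim (V.presheaf.stalk (h.base u)) ≤ 1)
    (H : ∀ u₀ : U, (∀ w : U, w ⤳ u₀ → w = u₀) → h.base u₀ ⤳ h.base u → ptTrdeg h u₀ = 0) :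
    FlatMor.fibreDimAt h u ≤ 0 := by
  obtain ⟨w', hw'b, hsp, hw'⟩ := exists_ptTrdeg_eq_fibreDimAt h u
  have hdimV : ringKrullDim (V.presheaf.stalk (h.base w')) ≤ 1 := by rw [hw'b]; exact hv
  obtain ⟨𝔭, h𝔭min, -⟩ := Ideal.exists_minimalPrimes_le
    (bot_le : (⊥ : Ideal (U.presheaf.stalk w')) ≤ IsLocalRing.maximalIdeal _)
  haveI h𝔭 : 𝔭.IsPrime := h𝔭min.1.1
  have hmax := (mem_minimalPrimes_iff_fromSpecStalk_maximal w' 𝔭).1 h𝔭min
  have hu₀sp : U.fromSpecStalk w' ⟨𝔭, h𝔭⟩ ⤳ w' := fromSpecStalk_specializes w' ⟨𝔭, h𝔭⟩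
  have ht0 : ptTrdeg h (U.fromSpecStalk w' ⟨𝔭, h𝔭⟩) = 0 :=
    H _ hmax (hw'b ▸ hu₀sp.map h.continuous)
  have ineq := ringKrullDim_quotient_add_ptTrdeg_le h w' 𝔭
  rw [ht0] at ineq
  have hq : ringKrullDim (V.presheaf.stalk (h.base w') ⧸ 𝔭.comap (h.stalkMap w').hom) ≤ 1 :=
    (ringKrullDim_quotient_le _).trans hdimV
  have key : ptTrdeg h w' = 0 := by
    by_cases hne : 𝔭 = IsLocalRing.maximalIdeal (U.presheaf.stalk w')
    · -- the maximal point is `w'` itself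
      have h1 : U.fromSpecStalk w' ⟨𝔭, h𝔭⟩ = w' := by
        subst hne
        exact Scheme.fromSpecStalk_closedPoint
      rw [h1] at ht0
      exact ht0
    · have h6 := one_le_ringKrullDim_quotient_of_ne_maximalIdeal 𝔭 hne
      have h7 : (1 : WithBot ℕ∞) + ((ptTrdeg h w' : ℕ) : WithBot ℕ∞) ≤ 1 := by
        calc (1 : WithBot ℕ∞) + ((ptTrdeg h w' : ℕ) : WithBot ℕ∞)
            ≤ ringKrullDim (U.presheaf.stalk w' ⧸ 𝔭) + ((ptTrdeg h w' : ℕ) : WithBot ℕ∞) :=
              add_le_add_left h6 _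
          _ ≤ ringKrullDim (V.presheaf.stalk (h.base w') ⧸ 𝔭.comap (h.stalkMap w').hom) +
                ((0 : ℕ) : WithBot ℕ∞) := ineq
          _ = ringKrullDim (V.presheaf.stalk (h.base w') ⧸ 𝔭.comap (h.stalkMap w').hom) := by
              simp
          _ ≤ 1 := hq
      have h8 : ((1 + ptTrdeg h w' : ℕ) : WithBot ℕ∞) ≤ ((1 : ℕ) : WithBot ℕ∞) := by
        push_cast; exact h7
      have h9 : 1 + ptTrdeg h w' ≤ 1 := by exact_mod_cast h8
      omega
  rw [hw', key]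
  simp

/-- **Lemma G**: a maximal point of a locally Noetherian scheme lies in every dense open
subset. -/
theorem mem_of_dense_of_maximal {U : Scheme.{u}} [IsLocallyNoetherian U] (u₀ : U)
    (hmax : ∀ w : U, w ⤳ u₀ → w = u₀) (D : Set ↥U) (hD : IsOpen D) (hDd : Dense D) :
    u₀ ∈ D := by
  obtain ⟨W, hW, hu₀W⟩ : ∃ W : U.Opens, IsAffineOpen W ∧ u₀ ∈ W := by
    obtain ⟨_, ⟨W, hW, rfl⟩, hu₀W, -⟩ := U.isBasis_affineOpens.exists_subset_of_mem_open
      (Set.mem_univ u₀) isOpen_univ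
    exact ⟨W, hW, hu₀W⟩
  haveI : IsNoetherianRing Γ(U, W) := IsLocallyNoetherian.component_noetherian ⟨W, hW⟩
  haveI : NoetherianSpace ↥(W : Scheme.{u}) := noetherianSpace_of_isAffineOpen W hW
  let w₀ : ↥(W : Scheme.{u}) := ⟨u₀, hu₀W⟩
  have hw₀max : ∀ y : ↥(W : Scheme.{u}), y ⤳ w₀ → y = w₀ := by
    intro y hy
    have h1 : W.ι.base y ⤳ W.ι.base w₀ := hy.map W.ι.continuous
    have h2 : W.ι.base y = u₀ := hmax _ h1
    exact W.ι.isOpenEmbedding.injective h2
  have hZ := mem_irreducibleComponents_of_forall_specializes w₀ hw₀max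
  obtain ⟨o, ho, hone, hoZ⟩ :=
    NoetherianSpace.exists_isOpen_nonempty_subset_irreducibleComponent _ hZ
  have hD' : Dense (W.ι.base ⁻¹' D) :=
    hDd.preimage W.ι.isOpenEmbedding.isOpenMap
  obtain ⟨w, hwo, hwD⟩ := hD'.inter_open_nonempty o ho hone
  have hsp : w₀ ⤳ w := specializes_iff_mem_closure.mpr (hoZ hwo)
  exact hsp.mem_open (hD.preimage W.ι.continuous) hwD

section Sp

open AlgSp

variable {S : Scheme.{u}}

/-- a chart diagram through a point whose target chart is a given étale surjective chart. -/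
theorem exists_chart_over {X Y : AlgSp.Sp S} (hX : IsAlgSpace X) (f : X ⟶ Y) {V : Over S}
    (b : (yon S).obj V ⟶ Y) (hb : RepWith @Etale b) (hbs : RepWith @Surjective b)
    (x : Points X) :
    ∃ (U : Over S) (a : (yon S).obj U ⟶ X) (h : U ⟶ V) (u : ↥U.left), RepWith @Etale a ∧
      a ≫ f = (yon S).map h ≫ b ∧ Points.ofPt a u = x := by
  obtain ⟨U₀, p, hp, hps⟩ := hX.atlas
  obtain ⟨W, pr, h, hpr, hw, hpt⟩ := Groth.Agent.Lib.H5bLqfDim.exists_chartPullback f p b hb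
  obtain ⟨u₀, hu₀⟩ := Groth.Agent.S10177.surjective_ofPt p hps x
  obtain ⟨v, hv⟩ := Groth.Agent.S10177.surjective_ofPt b hbs (Points.ofPt (p ≫ f) u₀)
  obtain ⟨w, hw1, -⟩ := hpt u₀ v hv.symm
  refine ⟨W, (yon S).map pr ≫ p, h, w,
    (RepWith @Etale).comp_mem _ _ ((repWith_yon_map_iff @Etale pr).2 hpr) hp, hw, ?_⟩
  rw [Groth.Agent.S10176.ofPt_map_comp, hw1, hu₀]

end Sp

end Groth.Agent.Lib.H5bCodimOne
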