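import Mathlib

/-!
# Open quotients of spectral spaces with compact saturations

`p : U → V` a continuous open surjection from a spectral space such that the saturation
`p ⁻¹' (p '' Q)` of every compact open `Q` is compact.  Then `V` is quasi-sober, prespectral,
quasi-separated and compact.  With finite fibres and a transport condition for strict
generizations inside fibres, `V` is T0 as well.
-/

set_option autoImplicit false
set_option linter.style.haveILetI false
set_option linter.unusedSectionVars false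
universe u v

namespace Groth.Agent.Lib.H5bSpecQuot

open Topology Set TopologicalSpace

variable {U : Type u} {V : Type v} [TopologicalSpace U] [TopologicalSpace V]

/-- opens of a prespectral space are open in the constructible topology. -/
lemma isOpen_constr_of_isOpen [PrespectralSpace U] {s : Set U} (hs : IsOpen s) :
    IsOpen[constructibleTopology U] s := by
  obtain ⟨B, hB, rfl⟩ := PrespectralSpace.isTopologicalBasis.open_eq_sUnion hs
  refine @isOpen_sUnion _ (constructibleTopology U) _ fun t ht => ?_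
  exact (hB ht).2.isOpen_constructibleTopology_of_isOpen (hB ht).1

/-- closed sets of a prespectral space are closed in the constructible topology. -/
lemma isClosed_constr_of_isClosed [PrespectralSpace U] {s : Set U} (hs : IsClosed s) :
    IsClosed[constructibleTopology U] s :=
  @IsClosed.mk _ (constructibleTopology U) _ (isOpen_constr_of_isOpen hs.isOpen_compl)

/-- compact opens are closed in the constructible topology. -/
lemma isClosed_constr_of_isCompact_isOpen {s : Set U} (hs : IsCompact s) (ho : IsOpen s) :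
    IsClosed[constructibleTopology U] s :=
  @IsClosed.mk _ (constructibleTopology U) _
    (IsCompact.isOpen_constructibleTopology_of_isClosed (by rwa [compl_compl]) ho.isClosed_compl)

/-- a spectral space is compact in its constructible topology. -/
lemma compactSpace_constr [CompactSpace U] [QuasiSober U] [PrespectralSpace U]
    [QuasiSeparatedSpace U] : @CompactSpace U (constructibleTopology U) :=
  @Function.Surjective.compactSpace (WithConstructibleTopology U) U _ (constructibleTopology U)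
    WithTopology.ofTopology (WithTopology.continuous_ofTopology _)
    (compactSpace_withConstructibleTopology (X := U)) (WithTopology.ofTopology_surjective _)

section Main

variable [CompactSpace U] [QuasiSober U] [PrespectralSpace U] [QuasiSeparatedSpace U]
variable (p : U → V) (hc : Continuous p) (ho : IsOpenMap p)
  (hsat : ∀ Q : Set U, IsOpen Q → IsCompact Q → IsCompact (p ⁻¹' (p '' Q)))

include hc ho hsat in
/-- the key point: an irreducible closed subset in the image has a "generic lift". -/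
theorem exists_generic_lift (T : Set V) (hT : IsIrreducible T) (hTc : IsClosed T)
    (hTr : T ⊆ range p) :
    ∃ ξ : U, p ξ ∈ T ∧ ∀ Q : Set U, IsOpen Q → IsCompact Q → (Q ∩ p ⁻¹' T).Nonempty →
      p ξ ∈ p '' Q := by
  classical
  let ι := {Q : Set U // IsOpen Q ∧ IsCompact Q ∧ (Q ∩ p ⁻¹' T).Nonempty}
  let Z : ι → Set U := fun Q => p ⁻¹' (p '' Q.1) ∩ p ⁻¹' T
  haveI : Nonempty ι := by
    obtain ⟨v, hv⟩ := hT.nonempty
    obtain ⟨u, rfl⟩ := hTr hv
    obtain ⟨Q, ⟨hQo, hQc⟩, huQ, -⟩ :=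
      PrespectralSpace.isTopologicalBasis.exists_subset_of_mem_open (mem_univ u) isOpen_univ
    exact ⟨⟨Q, hQo, hQc, u, huQ, hv⟩⟩
  have hne : ∀ i, (Z i).Nonempty := by
    rintro ⟨Q, hQo, hQc, u, huQ, huT⟩
    exact ⟨u, ⟨u, huQ, rfl⟩, huT⟩
  have hcl : ∀ i, IsClosed[constructibleTopology U] (Z i) := by
    rintro ⟨Q, hQo, hQc, -⟩
    refine @IsClosed.inter _ _ _ (constructibleTopology U) ?_ ?_
    · exact isClosed_constr_of_isCompact_isOpen (hsat Q hQo hQc) ((ho Q hQo).preimage hc)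
    · exact isClosed_constr_of_isClosed (hTc.preimage hc)
  have hdir : Directed (· ⊇ ·) Z := by
    rintro ⟨Q₁, hQ₁o, hQ₁c, u₁, hu₁Q, hu₁T⟩ ⟨Q₂, hQ₂o, hQ₂c, u₂, hu₂Q, hu₂T⟩
    -- the two opens `p(Q₁)`, `p(Q₂)` meet `T`
    obtain ⟨v, hvT, hv1, hv2⟩ := hT.isPreirreducible (p '' Q₁) (p '' Q₂) (ho Q₁ hQ₁o) (ho Q₂ hQ₂o)
      ⟨p u₁, hu₁T, u₁, hu₁Q, rfl⟩ ⟨p u₂, hu₂T, u₂, hu₂Q, rfl⟩
    obtain ⟨u, rfl⟩ := hTr hvT
    have hopen : IsOpen (p ⁻¹' (p '' Q₁) ∩ p ⁻¹' (p '' Q₂)) :=
      ((ho Q₁ hQ₁o).preimage hc).inter ((ho Q₂ hQ₂o).preimage hc)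
    obtain ⟨Q₃, ⟨hQ₃o, hQ₃c⟩, huQ₃, hQ₃sub⟩ :=
      PrespectralSpace.isTopologicalBasis.exists_subset_of_mem_open
        (show u ∈ p ⁻¹' (p '' Q₁) ∩ p ⁻¹' (p '' Q₂) from ⟨hv1, hv2⟩) hopen
    refine ⟨⟨Q₃, hQ₃o, hQ₃c, u, huQ₃, hvT⟩, ?_, ?_⟩
    · rintro w ⟨⟨w', hw'Q, hw'⟩, hwT⟩
      refine ⟨?_, hwT⟩
      have := (hQ₃sub hw'Q).1
      change p w ∈ p '' Q₁
      rw [← hw']; exact this
    · rintro w ⟨⟨w', hw'Q, hw'⟩, hwT⟩
      refine ⟨?_, hwT⟩
      have := (hQ₃sub hw'Q).2
      change p w ∈ p '' Q₂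
      rw [← hw']; exact this
  haveI := compactSpace_constr (U := U)
  obtain ⟨ξ, hξ⟩ := @IsCompact.nonempty_iInter_of_directed_nonempty_isCompact_isClosed U
    (constructibleTopology U) ι _ Z hdir hne
    (fun i => @IsClosed.isCompact _ (constructibleTopology U) _ _ (hcl i)) hcl
  rw [mem_iInter] at hξ
  refine ⟨ξ, (hξ (Classical.arbitrary ι)).2, fun Q hQo hQc hQT => ?_⟩
  exact (hξ ⟨Q, hQo, hQc, hQT⟩).1

include hc ho hsat in
/-- the quotient is quasi-sober. -/
theorem quasiSober (hs : Function.Surjective p) : QuasiSober V := by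
  refine ⟨fun {T} hT hTc => ?_⟩
  obtain ⟨ξ, hξT, hξ⟩ := exists_generic_lift p hc ho hsat T hT hTc
    (fun v _ => hs v)
  refine ⟨p ξ, ?_⟩
  rw [IsGenericPoint]
  refine subset_antisymm (hTc.closure_subset_iff.2 (singleton_subset_iff.2 hξT)) ?_
  intro v hvT
  rw [mem_closure_iff]
  intro W hW hvW
  obtain ⟨u, rfl⟩ := hs v
  obtain ⟨Q, ⟨hQo, hQc⟩, huQ, hQW⟩ :=
    PrespectralSpace.isTopologicalBasis.exists_subset_of_mem_open
      (show u ∈ p ⁻¹' W from hvW) (hW.preimage hc)
  obtain ⟨w, hwQ, hw⟩ := hξ Q hQo hQc ⟨u, huQ, hvT⟩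
  exact ⟨p ξ, hw ▸ hQW hwQ, rfl⟩

include hc ho hsat in
/-- the preimage of a compact open of the quotient is compact. -/
theorem isCompact_preimage_of_isCompact_isOpen (hs : Function.Surjective p) {W : Set V}
    (hW : IsOpen W) (hWc : IsCompact W) : IsCompact (p ⁻¹' W) := by
  classical
  let ι := {Q : Set U // IsOpen Q ∧ IsCompact Q ∧ Q ⊆ p ⁻¹' W}
  have hcov : W ⊆ ⋃ i : ι, p '' i.1 := by
    intro v hvW
    obtain ⟨u, rfl⟩ := hs v
    obtain ⟨Q, ⟨hQo, hQc⟩, huQ, hQW⟩ :=
      PrespectralSpace.isTopologicalBasis.exists_subset_of_mem_open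
        (show u ∈ p ⁻¹' W from hvW) (hW.preimage hc)
    exact mem_iUnion.2 ⟨⟨Q, hQo, hQc, hQW⟩, u, huQ, rfl⟩
  obtain ⟨t, ht⟩ := hWc.elim_finite_subcover (fun i : ι => p '' i.1) (fun i => ho _ i.2.1) hcov
  have heq : p ⁻¹' W = ⋃ i ∈ t, p ⁻¹' (p '' (i : ι).1) := by
    apply subset_antisymm
    · intro u hu
      have := ht hu
      simp only [mem_iUnion] at this ⊢
      exact this
    · intro u hu
      simp only [mem_iUnion] at hu
      obtain ⟨i, -, w, hwQ, hw⟩ := hu
      change p u ∈ W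
      rw [← hw]
      exact i.2.2.2 hwQ
  rw [heq]
  exact t.isCompact_biUnion fun i _ => hsat i.1 i.2.1 i.2.2.1

include hc ho hsat in
/-- the quotient is prespectral. -/
theorem prespectralSpace (hs : Function.Surjective p) : PrespectralSpace V := by
  refine PrespectralSpace.of_isTopologicalBasis (B := {W | ∃ Q : Set U, IsOpen Q ∧ IsCompact Q ∧ W = p '' Q})
    ?_ ?_
  · refine isTopologicalBasis_of_isOpen_of_nhds ?_ ?_
    · rintro _ ⟨Q, hQo, -, rfl⟩
      exact ho Q hQo
    · intro v W hvW hW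
      obtain ⟨u, rfl⟩ := hs v
      obtain ⟨Q, ⟨hQo, hQc⟩, huQ, hQW⟩ :=
        PrespectralSpace.isTopologicalBasis.exists_subset_of_mem_open
          (show u ∈ p ⁻¹' W from hvW) (hW.preimage hc)
      exact ⟨p '' Q, ⟨Q, hQo, hQc, rfl⟩, ⟨u, huQ, rfl⟩, image_subset_iff.2 hQW⟩
  · rintro _ ⟨Q, -, hQc, rfl⟩
    exact hQc.image hc

include hc ho hsat in
/-- the quotient is quasi-separated. -/
theorem quasiSeparatedSpace (hs : Function.Surjective p) : QuasiSeparatedSpace V := by
  refine ⟨fun W₁ W₂ h₁o h₁c h₂o h₂c => ?_⟩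
  have h1 := isCompact_preimage_of_isCompact_isOpen p hc ho hsat hs h₁o h₁c
  have h2 := isCompact_preimage_of_isCompact_isOpen p hc ho hsat hs h₂o h₂c
  have h3 : IsCompact (p ⁻¹' W₁ ∩ p ⁻¹' W₂) :=
    QuasiSeparatedSpace.inter_isCompact _ _ (h₁o.preimage hc) h1 (h₂o.preimage hc) h2
  have : W₁ ∩ W₂ = p '' (p ⁻¹' W₁ ∩ p ⁻¹' W₂) := by
    rw [← preimage_inter, image_preimage_eq _ hs]
  rw [this]
  exact h3.image hc

end Main

section T0

variable [T0Space U] (p : U → V) (hc : Continuous p) (ho : IsOpenMap p)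
  (hfin : ∀ v : V, (p ⁻¹' {v}).Finite)
  (hgen : ∀ u u' : U, u' ⤳ u → p u' = p u → u' ≠ u → ∀ v : U, p v = p u →
    ∃ v' : U, v' ⤳ v ∧ v' ≠ v ∧ p v' = p v)

include hfin hgen in
/-- no strict generizations inside a fibre. -/
theorem eq_of_specializes_of_fibre {u u' : U} (h : u' ⤳ u) (hp : p u' = p u) : u' = u := by
  classical
  by_contra hne
  -- the fibre through `u`, a finite set on which `⤳` is a partial order
  set Φ : Set U := p ⁻¹' {p u} with hΦ
  have hΦfin : Φ.Finite := hfin (p u)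
  have hstep : ∀ v ∈ Φ, ∃ v' ∈ Φ, v' ⤳ v ∧ v' ≠ v := by
    intro v hv
    obtain ⟨v', h1, h2, h3⟩ := hgen u u' h hp hne v hv
    exact ⟨v', h3.trans hv, h1, h2⟩
  -- a finite nonempty set has an element minimal for the strict order
  letI : PartialOrder U := specializationOrder U
  obtain ⟨m, hmΦ, hm⟩ := hΦfin.exists_maximal ⟨u, rfl⟩
  obtain ⟨v', hv'Φ, hv', hne'⟩ := hstep m hmΦ
  -- in the specialization order, `x ≤ y ↔ y ⤳ x`
  have hle : m ≤ v' := hv'
  exact hne' (le_antisymm (hm hv'Φ hle) hle)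

include hc ho hfin hgen in
/-- the quotient is T0. -/
theorem t0Space (hs : Function.Surjective p) : T0Space V := by
  classical
  refine ⟨fun x y hxy => ?_⟩
  obtain ⟨u, rfl⟩ := hs x
  -- lifting generizations: open map with finite fibres
  have lift : ∀ (w : U) (z : V), z ⤳ p w → ∃ w' : U, w' ⤳ w ∧ p w' = z := by
    intro w z hz
    by_contra hcon
    push Not at hcon
    -- every point of the fibre over `z` is missed by an open neighbourhood of `w`
    have : ∀ w' ∈ p ⁻¹' {z}, ∃ O : Set U, IsOpen O ∧ w ∈ O ∧ w' ∉ O := by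
      intro w' hw'
      have h1 : ¬ w' ⤳ w := fun h => hcon w' h hw'
      rw [specializes_iff_forall_open] at h1
      push Not at h1
      obtain ⟨O, hO, hwO, hw'O⟩ := h1
      exact ⟨O, hO, hwO, hw'O⟩
    choose! O hO hwO hw'O using this
    have hOpen : IsOpen (⋂ w' ∈ p ⁻¹' {z}, O w') :=
      (hfin z).isOpen_biInter fun w' hw' => hO w' hw'
    have hwmem : w ∈ ⋂ w' ∈ p ⁻¹' {z}, O w' := by
      simp only [mem_iInter]
      exact fun w' hw' => hwO w' hw'
    have hz' : z ∈ p '' (⋂ w' ∈ p ⁻¹' {z}, O w') :=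
      hz.mem_open (ho _ hOpen) ⟨w, hwmem, rfl⟩
    obtain ⟨w₀, hw₀, hw₀z⟩ := hz'
    simp only [mem_iInter] at hw₀
    exact hw'O w₀ hw₀z (hw₀ w₀ hw₀z)
  obtain ⟨u', hu'u, hu'y⟩ := lift u y hxy.specializes'
  obtain ⟨u'', hu''u', hu''x⟩ := lift u' (p u) (by rw [hu'y]; exact hxy.specializes)
  have h1 : u'' = u := eq_of_specializes_of_fibre p hfin hgen (hu''u'.trans hu'u) hu''x
  have h2 : u' = u := by
    subst h1
    exact (hu'u.antisymm hu''u').eq
  rw [← hu'y, h2]

end T0


end Groth.Agent.Lib.H5bSpecQuot
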