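import Mathlib
import Groth.Agent.Lib.H5bSpecQuot

/-!
# Constructible sets and the constructible topology of a spectral space

* constructible sets are clopen in the constructible topology, and conversely;
* the constructible topology of a T0 prespectral space is Hausdorff;
* spectral maps are continuous for the constructible topologies;
* the image of a saturated constructible set under a spectral surjection of spectral spaces is
  constructible.
-/

set_option autoImplicit false
set_option linter.style.haveILetI false
set_option linter.unusedSectionVars false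
universe u v

namespace Groth.Agent.Lib.H5bSpecQuot

open Topology Set TopologicalSpace

variable {U : Type u} {V : Type v} [TopologicalSpace U] [TopologicalSpace V]

/-- constructible sets are clopen in the constructible topology. -/
lemma isClopen_constr_of_isConstructible [CompactSpace U] {s : Set U}
    (hs : IsConstructible s) : @IsClopen U (constructibleTopology U) s := by
  induction hs using IsConstructible.empty_union_induction with
  | open_retrocompact Q hQo hQc =>
    have hQ : IsCompact Q := hQc.isCompact
    exact ⟨isClosed_constr_of_isCompact_isOpen hQ hQo,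
      hQ.isOpen_constructibleTopology_of_isOpen hQo⟩
  | union s hs t ht hs' ht' => exact @IsClopen.union U (constructibleTopology U) _ _ hs' ht'
  | compl s hs hs' => exact @IsClopen.compl U (constructibleTopology U) _ hs'

/-- the constructible topology of a T0 prespectral space is Hausdorff. -/
lemma t2Space_constr [T0Space V] [PrespectralSpace V] : @T2Space V (constructibleTopology V) := by
  refine @T2Space.mk V (constructibleTopology V) fun x y hxy => ?_
  have hns : ¬ Inseparable x y := fun h => hxy h.eq
  rw [inseparable_iff_forall_isOpen] at hns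
  push Not at hns
  obtain ⟨O, hO, hxO⟩ := hns
  -- a compact open containing exactly one of the two points
  have key : ∀ a b : V, a ∈ O → b ∉ O → ∃ Q : Set V, IsOpen Q ∧ IsCompact Q ∧ a ∈ Q ∧ b ∉ Q := by
    intro a b ha hb
    obtain ⟨Q, ⟨hQo, hQc⟩, haQ, hQO⟩ :=
      PrespectralSpace.isTopologicalBasis.exists_subset_of_mem_open ha hO
    exact ⟨Q, hQo, hQc, haQ, fun h => hb (hQO h)⟩
  have hopen : ∀ Q : Set V, IsOpen Q → IsCompact Q →
      IsOpen[constructibleTopology V] Q ∧ IsOpen[constructibleTopology V] Qᶜ := fun Q hQo hQc =>
    ⟨hQc.isOpen_constructibleTopology_of_isOpen hQo,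
      IsCompact.isOpen_constructibleTopology_of_isClosed (by rwa [compl_compl]) hQo.isClosed_compl⟩
  rcases hxO with ⟨hx, hy⟩ | ⟨hx, hy⟩
  · obtain ⟨Q, hQo, hQc, hxQ, hyQ⟩ := key x y hx hy
    exact ⟨Q, Qᶜ, (hopen Q hQo hQc).1, (hopen Q hQo hQc).2, hxQ, hyQ, disjoint_compl_right⟩
  · obtain ⟨Q, hQo, hQc, hyQ, hxQ⟩ := key y x hy hx
    exact ⟨Qᶜ, Q, (hopen Q hQo hQc).2, (hopen Q hQo hQc).1, hxQ, hyQ, disjoint_compl_left⟩

/-- a spectral map is continuous for the constructible topologies. -/
lemma continuous_constr (p : U → V) (hc : Continuous p)
    (hsp : ∀ W : Set V, IsOpen W → IsCompact W → IsCompact (p ⁻¹' W)) :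
    @Continuous U V (constructibleTopology U) (constructibleTopology V) p := by
  refine (continuous_generateFrom_iff (t := constructibleTopology U)
    (b := constructibleTopologySubbasis V) (f := p)).2 ?_
  rintro s (⟨hso, hsc⟩ | ⟨hscl, hsc⟩)
  · exact (hsp s hso hsc).isOpen_constructibleTopology_of_isOpen (hso.preimage hc)
  · refine IsCompact.isOpen_constructibleTopology_of_isClosed ?_ (hscl.preimage hc)
    rw [← preimage_compl]
    exact hsp _ hscl.isOpen_compl hsc

/-- every member of the subbasis of the constructible topology is constructible. -/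
lemma isConstructible_of_mem_subbasis [QuasiSeparatedSpace V] {s : Set V} (hs : s ∈ constructibleTopologySubbasis V) :
    IsConstructible s := by
  rcases hs with ⟨hso, hsc⟩ | ⟨hscl, hsc⟩
  · exact hsc.isConstructible hso
  · have := (hsc.isConstructible hscl.isOpen_compl).compl
    rwa [compl_compl] at this

/-- clopen for the constructible topology implies constructible. -/
lemma isConstructible_of_isClopen_constr [CompactSpace V] [QuasiSober V] [PrespectralSpace V]
    [QuasiSeparatedSpace V] {E : Set V} (hE : @IsClopen V (constructibleTopology V) E) :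
    IsConstructible E := by
  classical
  haveI := compactSpace_constr (U := V)
  have hbasis := @isTopologicalBasis_of_subbasis V (constructibleTopology V)
    (constructibleTopologySubbasis V) rfl
  obtain ⟨B, hB, hEB⟩ := @IsTopologicalBasis.open_eq_sUnion V (constructibleTopology V) _ hbasis
    E hE.2
  have hEc : @IsCompact V (constructibleTopology V) E :=
    @IsClosed.isCompact V (constructibleTopology V) _ _ hE.1
  obtain ⟨t, ht⟩ := @IsCompact.elim_finite_subcover V (constructibleTopology V) E ↥B hEc
    (fun b => (b : Set V))
    (fun b => @IsTopologicalBasis.isOpen V (constructibleTopology V) _ _ hbasis (hB b.2))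
    (by rw [hEB, sUnion_eq_iUnion])
  have heq : E = ⋃ b ∈ t, (b : Set V) := by
    refine subset_antisymm ht ?_
    intro v hv
    simp only [mem_iUnion] at hv
    obtain ⟨b, -, hvb⟩ := hv
    rw [hEB]
    exact ⟨b, b.2, hvb⟩
  rw [heq]
  refine IsConstructible.biUnion t.finite_toSet fun b _ => ?_
  obtain ⟨f, ⟨hf, hfs⟩, hfb⟩ := hB b.2
  rw [← hfb]
  exact IsConstructible.sInter hf fun s hs => isConstructible_of_mem_subbasis (hfs hs)

/-- the image of a saturated constructible set under a spectral surjection of spectral spaces is
constructible. -/
theorem isConstructible_image_of_saturated [CompactSpace U] [QuasiSober U] [PrespectralSpace U]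
    [QuasiSeparatedSpace U] [T0Space V] [CompactSpace V] [QuasiSober V] [PrespectralSpace V]
    [QuasiSeparatedSpace V] (p : U → V) (hc : Continuous p)
    (hsp : ∀ W : Set V, IsOpen W → IsCompact W → IsCompact (p ⁻¹' W))
    (hs : Function.Surjective p) {C : Set U} (hC : IsConstructible C)
    (hsat : p ⁻¹' (p '' C) = C) : IsConstructible (p '' C) := by
  haveI := compactSpace_constr (U := U)
  haveI := t2Space_constr (V := V)
  have hcc := continuous_constr p hc hsp
  have hclopen := isClopen_constr_of_isConstructible hC
  have himage : ∀ D : Set U, @IsClosed U (constructibleTopology U) D →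
      @IsClosed V (constructibleTopology V) (p '' D) := fun D hD =>
    @IsCompact.isClosed V (constructibleTopology V) _ _
      (@IsCompact.image U V (constructibleTopology U) (constructibleTopology V) _ _
        (@IsClosed.isCompact U (constructibleTopology U) _ _ hD) hcc)
  have hcompl : p '' Cᶜ = (p '' C)ᶜ := by
    ext v
    constructor
    · rintro ⟨u, hu, rfl⟩ ⟨u', hu', h⟩
      apply hu
      rw [← hsat]
      exact ⟨u', hu', h⟩
    · intro hv
      obtain ⟨u, rfl⟩ := hs v
      exact ⟨u, fun hu => hv ⟨u, hu, rfl⟩, rfl⟩
  refine isConstructible_of_isClopen_constr ⟨himage C hclopen.1, ?_⟩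
  have h2 := himage Cᶜ (@IsClopen.compl U (constructibleTopology U) _ hclopen).1
  rw [hcompl] at h2
  have h3 := @IsClosed.isOpen_compl V (constructibleTopology V) _ h2
  rwa [compl_compl] at h3

end Groth.Agent.Lib.H5bSpecQuot
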