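import Mathlib
import Groth.Prelude
import Groth.Agent.S10176
import Groth.Agent.Lib.H5bSpecQuot

/-!
# Sobriety of the space of points, chartwise

For a quasi-compact quasi-separated scheme `U`, an étale `a : h_U ⟶ X` such that `U ×_X U` is a
quasi-compact scheme, the open subset `a(|U|)` of `|X|` is quasi-sober, T0, prespectral and
quasi-separated.
-/

set_option autoImplicit false
set_option linter.style.haveILetI false
set_option linter.unusedSectionVars false
universe u
open CategoryTheory CategoryTheory.Limits AlgebraicGeometry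

namespace Groth.Agent.Lib.H5bSoberSp

open AlgSp Groth.Agent.Lib.H5bSpecQuot

variable {S : Scheme.{u}}

lemma locallyQuasiFinite_of_etale {Z T : Scheme.{u}} (g : Z ⟶ T) [Etale g] :
    LocallyQuasiFinite g where
  quasiFinite_appLE {U} hU {V} hV e := by
    have h := g.etale_appLE hU hV e
    algebraize [(g.appLE _ _ e).hom]
    exact inferInstanceAs (Algebra.QuasiFinite _ _)

section Chart

variable {X : AlgSp.Sp S} {U R : Over S} (a : (yon S).obj U ⟶ X) (ha : RepWith @Etale a)
  (s t : R ⟶ U) (sq : IsPullback ((yon S).map s) ((yon S).map t) a a)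

/-- the chart map onto its range. -/
noncomputable def pr : ↥U.left → ↥(Set.range (Points.ofPt a)) :=
  Set.rangeFactorization (Points.ofPt a)

lemma pr_surjective : Function.Surjective (pr a) := Set.rangeFactorization_surjective

lemma pr_continuous : Continuous (pr a) :=
  (Points.continuous_ofPt a).subtype_mk _

include ha in
lemma pr_isOpenMap : IsOpenMap (pr a) := by
  intro Q hQ
  have : pr a '' Q = Subtype.val ⁻¹' (Points.ofPt a '' Q) := by
    ext ⟨v, hv⟩
    constructor
    · rintro ⟨u, huQ, hu⟩
      exact ⟨u, huQ, congrArg Subtype.val hu⟩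
    · rintro ⟨u, huQ, hu⟩
      exact ⟨u, huQ, Subtype.ext hu⟩
  rw [this]
  exact (Groth.Agent.S10176.isOpenMap_ofPt a ha Q hQ).preimage continuous_subtype_val

lemma pr_eq_iff (u v : ↥U.left) : pr a u = pr a v ↔ Points.ofPt a u = Points.ofPt a v :=
  ⟨fun h => congrArg Subtype.val h, fun h => Subtype.ext h⟩

include sq in
lemma ofPt_s_eq_ofPt_t (r : ↥R.left) : Points.ofPt a (s.left r) = Points.ofPt a (t.left r) := by
  rw [← Groth.Agent.S10176.ofPt_map_comp s a, ← Groth.Agent.S10176.ofPt_map_comp t a, sq.w]

include sq in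
lemma pr_sat (Q : Set ↥U.left) : pr a ⁻¹' (pr a '' Q) = t.left '' (s.left ⁻¹' Q) := by
  rw [← Groth.Agent.S10176.preimage_ofPt_image sq Q]
  ext v
  constructor
  · rintro ⟨u, huQ, hu⟩
    exact ⟨u, huQ, congrArg Subtype.val hu⟩
  · rintro ⟨u, huQ, hu⟩
    exact ⟨u, huQ, Subtype.ext hu⟩

include ha sq in
lemma etale_s : Etale s.left := by
  have h1 : RepWith @Etale ((yon S).map s) := MorphismProperty.of_isPullback sq.flip ha
  exact (repWith_yon_map_iff @Etale s).1 h1

include ha sq in
lemma etale_t : Etale t.left := by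
  have h1 : RepWith @Etale ((yon S).map t) := MorphismProperty.of_isPullback sq ha
  exact (repWith_yon_map_iff @Etale t).1 h1

variable [CompactSpace ↥R.left] [QuasiSeparatedSpace ↥U.left]

include ha sq in
/-- saturations of compact opens are compact. -/
lemma isCompact_sat (Q : Set ↥U.left) (hQo : IsOpen Q) (hQc : IsCompact Q) :
    IsCompact (pr a ⁻¹' (pr a '' Q)) := by
  rw [pr_sat a s t sq Q]
  haveI : QuasiCompact s.left := inferInstance
  exact ((QuasiCompact.isCompact_preimage (f := s.left) Q hQo hQc)).image t.left.continuous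

include ha sq in
/-- fibres of the chart map are finite. -/
lemma finite_fibre (v : ↥(Set.range (Points.ofPt a))) : (pr a ⁻¹' {v}).Finite := by
  obtain ⟨u, rfl⟩ := pr_surjective a v
  haveI := etale_s a ha s t sq
  haveI : QuasiCompact s.left := inferInstance
  haveI := locallyQuasiFinite_of_etale s.left
  have hfin : (s.left ⁻¹' {u}).Finite := s.left.finite_preimage_singleton u
  refine (hfin.image t.left).subset ?_
  intro w hw
  have hw' : Points.ofPt a u = Points.ofPt a w := ((pr_eq_iff a w u).1 hw).symm
  obtain ⟨r, hr1, hr2⟩ := Groth.Agent.S10176.exists_point_of_isPullback_yon sq u w hw'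
  exact ⟨r, hr1, hr2⟩

include ha sq in
/-- transport of strict generizations inside fibres. -/
lemma gen_transport (u u' : ↥U.left) (h : u' ⤳ u) (hp : pr a u' = pr a u) (hne : u' ≠ u)
    (v : ↥U.left) (hv : pr a v = pr a u) :
    ∃ v' : ↥U.left, v' ⤳ v ∧ v' ≠ v ∧ pr a v' = pr a v := by
  haveI := etale_s a ha s t sq
  haveI := etale_t a ha s t sq
  haveI := locallyQuasiFinite_of_etale t.left
  have hv' : Points.ofPt a u = Points.ofPt a v := ((pr_eq_iff a v u).1 hv).symm
  obtain ⟨r, hr1, hr2⟩ := Groth.Agent.S10176.exists_point_of_isPullback_yon sq u v hv'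
  obtain ⟨r', hr'r, hr'⟩ := (Flat.generalizingMap s.left) (hr1 ▸ h : u' ⤳ s.left r)
  refine ⟨t.left r', ?_, ?_, ?_⟩
  · rw [← hr2]
    exact hr'r.map t.left.continuous
  · intro heq
    -- `r'` and `r` lie in the same fibre of `t`, which is discrete
    have hd := t.left.isDiscrete_preimage_singleton v
    have hr'mem : r' ∈ t.left ⁻¹' {v} := heq
    have hrmem : r ∈ t.left ⁻¹' {v} := hr2
    have : r' = r := by
      rw [isDiscrete_iff_forall_mem_exists_isOpen] at hd
      obtain ⟨O, hO, hOr⟩ := hd r hrmem
      have hrO : r ∈ O := by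
        have : r ∈ O ∩ t.left ⁻¹' {v} := by rw [hOr]; rfl
        exact this.1
      have hr'O : r' ∈ O := hr'r.mem_open hO hrO
      have : r' ∈ O ∩ t.left ⁻¹' {v} := ⟨hr'O, hr'mem⟩
      rw [hOr] at this
      exact this
    apply hne
    rw [← hr', this, hr1]
  · rw [pr_eq_iff, ← ofPt_s_eq_ofPt_t a s t sq r', hr']
    exact ((pr_eq_iff a u' u).1 hp).trans hv'

variable [CompactSpace ↥U.left]

include ha sq in
theorem quasiSober_range : QuasiSober ↥(Set.range (Points.ofPt a)) :=
  quasiSober (pr a) (pr_continuous a) (pr_isOpenMap a ha) (isCompact_sat a ha s t sq)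
    (pr_surjective a)

include ha sq in
theorem t0Space_range : T0Space ↥(Set.range (Points.ofPt a)) :=
  t0Space (pr a) (pr_continuous a) (pr_isOpenMap a ha) (finite_fibre a ha s t sq)
    (gen_transport a ha s t sq) (pr_surjective a)

include ha sq in
theorem prespectralSpace_range : PrespectralSpace ↥(Set.range (Points.ofPt a)) :=
  prespectralSpace (pr a) (pr_continuous a) (pr_isOpenMap a ha) (isCompact_sat a ha s t sq)
    (pr_surjective a)

include ha sq in
theorem quasiSeparatedSpace_range : QuasiSeparatedSpace ↥(Set.range (Points.ofPt a)) :=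
  quasiSeparatedSpace (pr a) (pr_continuous a) (pr_isOpenMap a ha) (isCompact_sat a ha s t sq)
    (pr_surjective a)

end Chart

end Groth.Agent.Lib.H5bSoberSp
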