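import Mathlib
import Groth.Prelude
import Groth.Agent.S10199
import Groth.Agent.Lib.H5bSpecQuot3

/-!
# Locally constructible subsets of the space of points of a quasi-separated algebraic space
-/

set_option autoImplicit false
set_option linter.style.haveILetI false
universe u
open CategoryTheory CategoryTheory.Limits AlgebraicGeometry Topology
open scoped Set.Notation

namespace Groth.Agent.Lib.H5bConstrSp

open AlgSp Groth.Agent.Lib.H5bSpecQuot Groth.Agent.Lib.H5bSoberSp

variable {S : Scheme.{u}}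

/-- a good chart through a point inside a prescribed open neighbourhood. -/
theorem exists_good_chart_in {P : AlgSp.Sp S} (hP : AlgSp.IsAlgSpace P)
    (hqs : AlgSp.IsQuasiSeparatedSp P) (x : AlgSp.Points P) (N : Set (AlgSp.Points P))
    (hN : IsOpen N) (hxN : x ∈ N) :
    ∃ (W : Over S) (q : (AlgSp.yon S).obj W ⟶ P) (w : ↥W.left) (R : Over S) (s t : R ⟶ W),
      IsAffine W.left ∧ AlgSp.RepWith @Etale q ∧ AlgSp.Points.ofPt q w = x ∧
      IsPullback ((AlgSp.yon S).map s) ((AlgSp.yon S).map t) q q ∧ CompactSpace ↥R.left ∧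
      Set.range (AlgSp.Points.ofPt q) ⊆ N := by
  obtain ⟨U, p, hpe, hps⟩ := hP.atlas
  obtain ⟨u₀, hu₀⟩ := Groth.Agent.S10177.surjective_ofPt p hps x
  obtain ⟨_, ⟨S₀, hS₀, rfl⟩, hsS₀, -⟩ :=
    (S.isBasis_affineOpens).exists_subset_of_mem_open (Set.mem_univ (U.hom u₀)) isOpen_univ
  have hNo : IsOpen (AlgSp.Points.ofPt p ⁻¹' N) := hN.preimage (AlgSp.Points.continuous_ofPt p)
  obtain ⟨_, ⟨U₀, hU₀, rfl⟩, hu₀U, hU₀sub⟩ :=
    (U.left.isBasis_affineOpens).exists_subset_of_mem_open
      (show u₀ ∈ ((U.hom ⁻¹ᵁ S₀ : U.left.Opens) : Set ↥U.left) ∩ AlgSp.Points.ofPt p ⁻¹' N from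
        ⟨hsS₀, by rw [Set.mem_preimage, hu₀]; exact hxN⟩) ((U.hom ⁻¹ᵁ S₀).isOpen.inter hNo)
  let U' : U.left.Opens := U₀
  let S₀' : S.Opens := S₀
  let W : Over S := Over.mk (U'.ι ≫ U.hom)
  let jO : W ⟶ U := Over.homMk U'.ι rfl
  have hq : AlgSp.RepWith @Etale ((AlgSp.yon S).map jO ≫ p) :=
    (AlgSp.RepWith @Etale).comp_mem _ _
      ((AlgSp.repWith_yon_map_iff @Etale jO).2 (inferInstanceAs (Etale U'.ι))) hpe
  obtain ⟨E, eV, eU', sqE⟩ := Functor.relativelyRepresentable.of_diag hP.diag
    ((AlgSp.yon S).map jO ≫ p) ((AlgSp.yon S).map jO ≫ p)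
  obtain ⟨eU, rfl⟩ := (AlgSp.yon S).map_surjective eU'
  have hqc : QuasiCompact (prod.lift eU eV).left :=
    Groth.Agent.S9920.property_of_repWith_diag hqs sqE
  haveI : IsAffine W.left := hU₀
  have hrange : Set.range W.hom ⊆ Set.range S₀'.ι := by
    rintro _ ⟨y, rfl⟩
    rw [Scheme.Opens.range_ι]
    exact (hU₀sub y.2).1
  let g : W.left ⟶ (S₀' : Scheme.{u}) := IsOpenImmersion.lift S₀'.ι W.hom hrange
  have hg : g ≫ S₀'.ι = W.hom := IsOpenImmersion.lift_fac _ _ _
  haveI : IsAffine (S₀' : Scheme.{u}) := hS₀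
  have sqg : IsPullback (pullback.fst g g) (pullback.snd g g) (g ≫ S₀'.ι) (g ≫ S₀'.ι) :=
    Groth.Agent.S10199.isPullback_comp_mono S₀'.ι (IsPullback.of_hasPullback g g)
  rw [hg] at sqg
  haveI : IsAffine (pullback W.hom W.hom) := .of_isIso sqg.isoPullback.inv
  haveI : CompactSpace ↥(W ⨯ W).left :=
    QuasiCompact.compactSpace_of_compactSpace (Over.prodLeftIsoPullback W W).hom
  haveI : CompactSpace ↥E.left :=
    QuasiCompact.compactSpace_of_compactSpace (prod.lift eU eV).left
  refine ⟨W, (AlgSp.yon S).map jO ≫ p, (⟨u₀, hu₀U⟩ : U'), E, eU, eV, hU₀, hq, ?_, sqE,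
    inferInstance, ?_⟩
  · rw [Groth.Agent.S10176.ofPt_map_comp jO p]
    exact hu₀
  · rintro _ ⟨y, rfl⟩
    rw [Groth.Agent.S10176.ofPt_map_comp jO p]
    exact (hU₀sub y.2).2

section Chart

variable {X : AlgSp.Sp S} {W R : Over S} [IsAffine W.left] [CompactSpace ↥R.left]
  (q : (yon S).obj W ⟶ X) (hq : RepWith @Etale q) (s t : R ⟶ W)
  (sq : IsPullback ((yon S).map s) ((yon S).map t) q q) (E : Set (Points X))

include hq sq in
/-- a subset whose preimage in a good chart is locally constructible is constructible on the image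
of the chart. -/
theorem isConstructible_range_inter (hE : IsLocallyConstructible (Points.ofPt q ⁻¹' E)) :
    IsConstructible ((Set.range (Points.ofPt q)) ↓∩ E) := by
  haveI := quasiSober_range q hq s t sq
  haveI := t0Space_range q hq s t sq
  haveI := prespectralSpace_range q hq s t sq
  haveI := quasiSeparatedSpace_range q hq s t sq
  haveI : CompactSpace ↥(Set.range (Points.ofPt q)) :=
    (pr_surjective q).compactSpace (pr_continuous q)
  have hC : IsConstructible (Points.ofPt q ⁻¹' E) := hE.isConstructible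
  have himg : pr q '' (Points.ofPt q ⁻¹' E) = (Set.range (Points.ofPt q)) ↓∩ E := by
    ext v
    constructor
    · rintro ⟨u, hu, rfl⟩
      exact hu
    · intro hv
      obtain ⟨u, rfl⟩ := pr_surjective q v
      exact ⟨u, hv, rfl⟩
  have hsat : pr q ⁻¹' (pr q '' (Points.ofPt q ⁻¹' E)) = Points.ofPt q ⁻¹' E := by
    rw [himg]
    rfl
  rw [← himg]
  exact isConstructible_image_of_saturated (pr q) (pr_continuous q)
    (fun O hO hOc => isCompact_preimage_of_isCompact_isOpen (pr q) (pr_continuous q)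
      (pr_isOpenMap q hq) (isCompact_sat q hq s t sq) (pr_surjective q) hO hOc)
    (pr_surjective q) hC hsat

include hq sq in
/-- conversely, the preimage in the good chart of a subset which is constructible on the image of
the chart is constructible. -/
theorem isConstructible_preimage_chart
    (hE : IsConstructible ((Set.range (Points.ofPt q)) ↓∩ E)) :
    IsConstructible (Points.ofPt q ⁻¹' E) := by
  haveI := quasiSeparatedSpace_range q hq s t sq
  have : Points.ofPt q ⁻¹' E = pr q ⁻¹' ((Set.range (Points.ofPt q)) ↓∩ E) := rfl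
  rw [this]
  refine hE.preimage (pr_continuous q) fun O hO hOr => ?_
  haveI : CompactSpace ↥(Set.range (Points.ofPt q)) :=
    (pr_surjective q).compactSpace (pr_continuous q)
  have hOc : IsCompact O := hOr.isCompact
  exact (isCompact_preimage_of_isCompact_isOpen (pr q) (pr_continuous q)
      (pr_isOpenMap q hq) (isCompact_sat q hq s t sq) (pr_surjective q) hO hOc).isRetrocompact
    (hO.preimage (pr_continuous q))

end Chart

end Groth.Agent.Lib.H5bConstrSp
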