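import Mathlib

/-!
# Points of a coproduct of schemes (helper5)

* `isColimitLeft`: the underlying cofan of schemes of a colimit cofan of `S`-schemes is a colimit;
* `cofan_props`: the coprojections of a colimit cofan of schemes are open immersions, jointly
  surjective and pairwise disjoint;
* `exists_decomp`: a morphism `r : T ⟶ ∐ X i` decomposes `T` as the coproduct of the opens
  `W i = r⁻¹(X i)`, and `r` restricted to `W i` factors through `X i`;
* `epi_SpecMap_of_field`: `Spec` of a homomorphism of fields is an epimorphism of schemes.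
-/

set_option autoImplicit false
set_option linter.style.haveILetI false
universe u

namespace Groth.Agent.Lib.H5bCoprodPts

open CategoryTheory CategoryTheory.Limits AlgebraicGeometry

noncomputable section

/-- the underlying cofan of schemes of a colimit cofan of `S`-schemes is a colimit. -/
def isColimitLeft {S : Scheme.{u}} {σ : Type u} {X : σ → Over S} (c : Cofan X) (hc : IsColimit c) :
    IsColimit (Cofan.mk c.pt.left (fun i => (c.inj i).left)) := by
  have h1 := isColimitOfPreserves (Over.forget S) hc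
  exact (isColimitMapCoconeCofanMkEquiv (Over.forget S) X c.inj).toFun
    (by
      have : c = Cofan.mk c.pt c.inj := by
        cases c
        rfl
      rw [this] at h1
      exact h1)

/-- properties of the coprojections of a colimit cofan of schemes. -/
lemma cofan_props {σ : Type u} {X : σ → Scheme.{u}} (c : Cofan X) (hc : IsColimit c) :
    (∀ i, IsOpenImmersion (c.inj i)) ∧ (∀ y : c.pt, ∃ i, y ∈ Set.range (c.inj i)) ∧
      (∀ i j (x : X i) (x' : X j), c.inj i x = c.inj j x' → i = j) := by
  let e : c.pt ≅ ∐ X := hc.coconePointUniqueUpToIso (coproductIsCoproduct X)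
  have he : ∀ i, c.inj i ≫ e.hom = Sigma.ι X i := fun i =>
    hc.comp_coconePointUniqueUpToIso_hom (coproductIsCoproduct X) ⟨i⟩
  have he' : ∀ i, c.inj i = Sigma.ι X i ≫ e.inv := fun i => by
    rw [← he i, Category.assoc, e.hom_inv_id, Category.comp_id]
  refine ⟨fun i => ?_, fun y => ?_, fun i j x x' h => ?_⟩
  · rw [he' i]
    infer_instance
  · obtain ⟨⟨i, x⟩, hx⟩ := (sigmaMk X).surjective (e.hom y)
    refine ⟨i, x, ?_⟩
    rw [he' i, Scheme.Hom.comp_apply]
    have : Sigma.ι X i x = e.hom y := by rw [← hx, sigmaMk_mk]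
    rw [this, ← Scheme.Hom.comp_apply, e.hom_inv_id]
    rfl
  · by_contra hij
    have h1 : Sigma.ι X i x = Sigma.ι X j x' := by
      rw [← he i, ← he j, Scheme.Hom.comp_apply, Scheme.Hom.comp_apply, h]
    have hd := disjoint_opensRange_sigmaι X i j hij
    have hmem : Sigma.ι X i x ∈
        ((Sigma.ι X i).opensRange ⊓ (Sigma.ι X j).opensRange : (∐ X).Opens) :=
      ⟨⟨x, rfl⟩, ⟨x', h1.symm⟩⟩
    rw [disjoint_iff.mp hd] at hmem
    exact hmem

open scoped Function in
/-- decomposition of a scheme mapping to a coproduct. -/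
lemma exists_decomp {σ : Type u} {X : σ → Scheme.{u}} (c : Cofan X) (hc : IsColimit c)
    {T : Scheme.{u}} (r : T ⟶ c.pt) :
    ∃ (W : σ → T.Opens) (x : ∀ i, (W i : Scheme.{u}) ⟶ X i),
      (∀ i, (W i).ι ≫ r = x i ≫ c.inj i) ∧
      Nonempty (IsColimit (Cofan.mk T (fun i => (W i).ι))) ∧
      (∀ i (y : T), y ∈ W i ↔ r y ∈ Set.range (c.inj i)) := by
  obtain ⟨hoi, hcov, hdisj⟩ := cofan_props c hc
  haveI := hoi
  let W : σ → T.Opens := fun i => r ⁻¹ᵁ (c.inj i).opensRange
  have hW : ∀ i (y : T), y ∈ W i ↔ r y ∈ Set.range (c.inj i) := fun i y => Iff.rfl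
  have hr : ∀ i, Set.range ((W i).ι ≫ r) ⊆ Set.range (c.inj i) := by
    rintro i _ ⟨y, rfl⟩
    rw [Scheme.Hom.comp_apply]
    exact (hW i _).mp y.2
  refine ⟨W, fun i => IsOpenImmersion.lift (c.inj i) ((W i).ι ≫ r) (hr i),
    fun i => (IsOpenImmersion.lift_fac _ _ _).symm, ?_, hW⟩
  refine nonempty_isColimit_cofanMk_of (fun i => (W i).ι) ?_ ?_
  · simp only [Scheme.Opens.opensRange_ι]
    rw [eq_top_iff]
    intro y _
    obtain ⟨i, hi⟩ := hcov (r y)
    rw [TopologicalSpace.Opens.mem_iSup]
    exact ⟨i, (hW i y).mpr hi⟩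
  · intro i j hij
    simp only [Function.onFun, Scheme.Opens.opensRange_ι]
    rw [disjoint_iff, eq_bot_iff]
    rintro y ⟨hy1, hy2⟩
    obtain ⟨a, ha⟩ := (hW i y).mp hy1
    obtain ⟨b, hb⟩ := (hW j y).mp hy2
    exact (hij (hdisj i j a b (ha.trans hb.symm))).elim

/-- `Spec` of a homomorphism of fields is an epimorphism of schemes. -/
lemma epi_SpecMap_of_field {K L : CommRingCat.{u}} (hK : IsField K) [Nontrivial L] (φ : K ⟶ L) :
    Epi (Spec.map φ) := by
  letI := hK.toField
  haveI : Flat (Spec.map φ) := by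
    rw [HasRingHomProperty.Spec_iff (P := @Flat)]
    algebraize [φ.hom]
    exact (inferInstance : Module.Flat K L)
  haveI : Surjective (Spec.map φ) := by
    constructor
    intro y
    obtain ⟨x⟩ : Nonempty (Spec L) := inferInstance
    refine ⟨x, ?_⟩
    haveI : Subsingleton (PrimeSpectrum K) := inferInstance
    exact Subsingleton.elim (α := PrimeSpectrum K) _ _
  exact Flat.epi_of_flat_of_surjective _

end

end Groth.Agent.Lib.H5bCoprodPts
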