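import Mathlib
import Groth.Prelude.Def_Grpd

set_option autoImplicit false
universe u
open CategoryTheory CategoryTheory.Limits AlgebraicGeometry

namespace Groth.Agent.Lib.R2H4.PairGrpd

variable {S U : Scheme.{u}} (pU : U ⟶ S)

lemma pair_cond : (pullback.fst (pullback.snd pU pU) (pullback.fst pU pU) ≫ pullback.fst pU pU) ≫ pU =
    (pullback.snd (pullback.snd pU pU) (pullback.fst pU pU) ≫ pullback.snd pU pU) ≫ pU := by
  rw [Category.assoc, pullback.condition, ← Category.assoc, pullback.condition, Category.assoc,
    pullback.condition, Category.assoc]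

/-- The pair groupoid `U ×_S U ⇉ U`. -/
noncomputable def pairGroupoid : Grpd.GroupoidScheme S where
  U := U
  R := pullback pU pU
  pU := pU
  pR := pullback.fst pU pU ≫ pU
  s := pullback.snd pU pU
  t := pullback.fst pU pU
  e := pullback.lift (𝟙 U) (𝟙 U) rfl
  i := pullback.lift (pullback.snd pU pU) (pullback.fst pU pU) pullback.condition.symm
  c := pullback.lift (pullback.fst _ _ ≫ pullback.fst pU pU) (pullback.snd _ _ ≫ pullback.snd pU pU)
    (pair_cond pU)
  s_over := pullback.condition.symm
  t_over := rfl
  comp_s := fun α β h => by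
    simp only [Category.assoc, pullback.lift_snd, pullback.lift_snd_assoc]
  comp_t := fun α β h => by
    simp only [Category.assoc, pullback.lift_fst, pullback.lift_fst_assoc]
  assoc := fun α β γ h₁ h₂ => by
    apply pullback.hom_ext <;>
    simp only [Category.assoc, pullback.lift_fst, pullback.lift_snd, pullback.lift_fst_assoc,
      pullback.lift_snd_assoc]
  e_s := pullback.lift_snd _ _ _
  e_t := pullback.lift_fst _ _ _
  comp_e := fun α => by
    apply pullback.hom_ext <;>
    simp only [Category.assoc, pullback.lift_fst, pullback.lift_snd, pullback.lift_fst_assoc,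
      pullback.lift_snd_assoc, Category.comp_id]
  e_comp := fun α => by
    apply pullback.hom_ext <;>
    simp only [Category.assoc, pullback.lift_fst, pullback.lift_snd, pullback.lift_fst_assoc,
      pullback.lift_snd_assoc, Category.comp_id]
  i_s := pullback.lift_snd _ _ _
  i_t := pullback.lift_fst _ _ _
  comp_i := fun α => by
    apply pullback.hom_ext <;>
    simp only [Category.assoc, pullback.lift_fst, pullback.lift_snd, pullback.lift_fst_assoc,
      pullback.lift_snd_assoc, Category.comp_id]
  i_comp := fun α => by
    apply pullback.hom_ext <;>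
    simp only [Category.assoc, pullback.lift_fst, pullback.lift_snd, pullback.lift_fst_assoc,
      pullback.lift_snd_assoc, Category.comp_id]

lemma toPair_comm_c (G : Grpd.GroupoidScheme S) {T : Scheme.{u}} (α β : T ⟶ G.R)
    (h : α ≫ G.s = β ≫ G.t)
    (h' : (α ≫ G.j) ≫ pullback.snd G.pU G.pU = (β ≫ G.j) ≫ pullback.fst G.pU G.pU) :
    (pullback.lift α β h ≫ G.c) ≫ G.j =
      pullback.lift (α ≫ G.j) (β ≫ G.j) h' ≫
        pullback.lift (pullback.fst (pullback.snd G.pU G.pU) (pullback.fst G.pU G.pU) ≫
          pullback.fst G.pU G.pU)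
          (pullback.snd (pullback.snd G.pU G.pU) (pullback.fst G.pU G.pU) ≫ pullback.snd G.pU G.pU)
          (pair_cond G.pU) := by
  have hjs : G.j ≫ pullback.snd G.pU G.pU = G.s := pullback.lift_snd _ _ _
  have hjt : G.j ≫ pullback.fst G.pU G.pU = G.t := pullback.lift_fst _ _ _
  apply pullback.hom_ext
  · rw [Category.assoc, hjt, G.comp_t, Category.assoc, pullback.lift_fst, ← Category.assoc,
      pullback.lift_fst, Category.assoc, hjt]
  · rw [Category.assoc, hjs, G.comp_s, Category.assoc, pullback.lift_snd, ← Category.assoc,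
      pullback.lift_snd, Category.assoc, hjs]

/-- `j = (t, s)` as a morphism of groupoids to the pair groupoid. -/
noncomputable def toPair (G : Grpd.GroupoidScheme S) :
    Grpd.GroupoidScheme.Hom G (pairGroupoid G.pU) where
  fU := 𝟙 _
  fR := G.j
  fU_over := Category.id_comp _
  comm_s := by
    change G.j ≫ pullback.snd _ _ = G.s ≫ 𝟙 _
    rw [Category.comp_id]; exact pullback.lift_snd _ _ _
  comm_t := by
    change G.j ≫ pullback.fst _ _ = G.t ≫ 𝟙 _
    rw [Category.comp_id]; exact pullback.lift_fst _ _ _
  comm_c := fun α β h => toPair_comm_c G α β h _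

end Groth.Agent.Lib.R2H4.PairGrpd
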