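import Mathlib
import Groth.Prelude.Def_Desc
import Groth.Prelude.Def_Grpd
import Groth.Agent.Lib.H5bDDGenJ
import Groth.Agent.Lib.H5bGQRestr
import Groth.Agent.Lib.R2H4PairGrpd

/-!
# The groupoid scheme of a descent datum (helper5)

For a descent datum `D` relative to `p : X ⟶ S` with scheme `V`, the scheme `R = V ×_S X` with
`s = prV`, `t = act` is a groupoid scheme over `S` (an equivalence relation: `j = (t, s)` is a
monomorphism). It is built as the groupoid induced on the monomorphism `R ⟶ V ×_S V` into the pair groupoid.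
-/

set_option autoImplicit false
set_option linter.unusedSectionVars false
set_option linter.style.haveILetI false
universe u

namespace Groth.Agent.Lib.H5bDDOrb

open CategoryTheory CategoryTheory.Limits AlgebraicGeometry Desc Groth.Agent.Lib.H5bDDGlue
  Groth.Agent.Lib.H5bDDGen Groth.Agent.Lib.R2H4.PairGrpd

variable {X S : Scheme.{u}} (p : X ⟶ S) (D : SchDD p)

lemma R_ext {T : Scheme.{u}} {a b : T ⟶ RR' p D} (h1 : a ≫ prV p D = b ≫ prV p D)
    (h2 : a ≫ homR p D = b ≫ homR p D) : a = b :=
  pullDD_hom_ext (wa p) D h1 h2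

lemma act_hom : act p D ≫ D.obj.hom = homR p D ≫ π₂ p := by
  have ht' : (𝟙 _ ≫ prV p D) ≫ D.obj.hom = homR p D ≫ π₁ p := by
    rw [Category.id_comp, prV_cond]
  have h := comp_act p D (𝟙 _) (homR p D) (Category.id_comp _) ht'
  have h2 : act p D = _ := (Category.id_comp _).symm.trans h
  rw [h2, φV_hom]

lemma inv_cond : (prV p D ≫ D.obj.hom) ≫ p = (act p D ≫ D.obj.hom) ≫ p := by
  rw [prV_cond, act_hom, Category.assoc, Category.assoc, pullback.condition]

lemma comp_inv_cond {T : Scheme.{u}} (r : T ⟶ RR' p D) :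
    ((r ≫ prV p D) ≫ D.obj.hom) ≫ p = ((r ≫ act p D) ≫ D.obj.hom) ≫ p := by
  have := inv_cond p D
  simp only [Category.assoc] at this ⊢
  rw [this]

/-- the action on points, in terms of the gluing bijections. -/
lemma act_eq {T : Scheme.{u}} (r : T ⟶ RR' p D) :
    r ≫ act p D = φV D ((r ≫ prV p D) ≫ D.obj.hom) ((r ≫ act p D) ≫ D.obj.hom)
      (comp_inv_cond p D r) (r ≫ prV p D) rfl := by
  have ht' : (r ≫ prV p D) ≫ D.obj.hom = (r ≫ homR p D) ≫ π₁ p := by
    rw [Category.assoc, prV_cond, Category.assoc]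
  have h := comp_act p D r (r ≫ homR p D) rfl ht'
  refine h.trans ?_
  refine φV_congr D ht'.symm ?_ _ _ rfl _ _
  rw [Category.assoc, Category.assoc, act_hom]

lemma Rlift_ext {T : Scheme.{u}} (r : T ⟶ RR' p D) (u : T ⟶ D.obj.left) (x₁ : T ⟶ X)
    (h : (u ≫ D.obj.hom) ≫ p = x₁ ≫ p) (h1 : r ≫ prV p D = u) (h2 : (r ≫ act p D) ≫ D.obj.hom = x₁) :
    r = Rlift p D u x₁ h := by
  apply R_ext
  · rw [h1, Rlift_prV]
  · rw [Rlift_homR]
    apply pullback.hom_ext
    · rw [pullback.lift_fst, Category.assoc, ← prV_cond, ← Category.assoc, h1]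
    · rw [pullback.lift_snd, Category.assoc, ← act_hom, ← Category.assoc, h2]

/-- the structure morphism to the base. -/
noncomputable abbrev pV : D.obj.left ⟶ S := D.obj.hom ≫ p

lemma ιR_cond : act p D ≫ pV p D = prV p D ≫ pV p D := by
  have := inv_cond p D
  simp only [Category.assoc] at this ⊢
  rw [this]

/-- `(t, s) : R ⟶ V ×_S V`. -/
noncomputable def ιR : RR' p D ⟶ pullback (pV p D) (pV p D) :=
  pullback.lift (act p D) (prV p D) (ιR_cond p D)

lemma ιR_fst : ιR p D ≫ pullback.fst _ _ = act p D := pullback.lift_fst _ _ _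

lemma ιR_snd : ιR p D ≫ pullback.snd _ _ = prV p D := pullback.lift_snd _ _ _

lemma eq_of_prV_act {T : Scheme.{u}} {a b : T ⟶ RR' p D} (h1 : a ≫ prV p D = b ≫ prV p D)
    (h2 : a ≫ act p D = b ≫ act p D) : a = b := by
  apply R_ext p D h1
  apply pullback.hom_ext
  · rw [Category.assoc, Category.assoc, ← prV_cond, ← Category.assoc, ← Category.assoc, h1]
  · rw [Category.assoc, Category.assoc, ← act_hom, ← Category.assoc, ← Category.assoc, h2]

instance mono_ιR : Mono (ιR p D) := by
  refine ⟨fun {T} a b h => ?_⟩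
  apply eq_of_prV_act
  · have := congrArg (· ≫ pullback.snd _ _) h
    simpa only [Category.assoc, ιR_snd] using this
  · have := congrArg (· ≫ pullback.fst _ _) h
    simpa only [Category.assoc, ιR_fst] using this

lemma cR_cond : ((pullback.snd (prV p D) (act p D) ≫ prV p D) ≫ D.obj.hom) ≫ p =
    (pullback.fst (prV p D) (act p D) ≫ act p D ≫ D.obj.hom) ≫ p := by
  have h1 := comp_inv_cond p D (pullback.snd (prV p D) (act p D))
  have h2 := comp_inv_cond p D (pullback.fst (prV p D) (act p D))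
  rw [h1, ← pullback.condition, h2]
  simp only [Category.assoc]

/-- composition. -/
noncomputable def cR : pullback (prV p D) (act p D) ⟶ RR' p D :=
  Rlift p D (pullback.snd _ _ ≫ prV p D) (pullback.fst _ _ ≫ act p D ≫ D.obj.hom) (cR_cond p D)

lemma cR_prV : cR p D ≫ prV p D = pullback.snd _ _ ≫ prV p D := Rlift_prV p D _ _ _

lemma cR_act : cR p D ≫ act p D = pullback.fst _ _ ≫ act p D := by
  rw [cR, Rlift_act]
  have e1 := act_eq p D (pullback.fst (prV p D) (act p D))
  have e2 := act_eq p D (pullback.snd (prV p D) (act p D))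
  have hc : pullback.fst (prV p D) (act p D) ≫ prV p D = pullback.snd _ _ ≫ act p D :=
    pullback.condition
  rw [e1]
  have e3 : φV D ((pullback.fst (prV p D) (act p D) ≫ prV p D) ≫ D.obj.hom)
      ((pullback.fst (prV p D) (act p D) ≫ act p D) ≫ D.obj.hom)
      (comp_inv_cond p D _) (pullback.fst (prV p D) (act p D) ≫ prV p D) rfl =
      φV D ((pullback.snd (prV p D) (act p D) ≫ act p D) ≫ D.obj.hom)
      ((pullback.fst (prV p D) (act p D) ≫ act p D) ≫ D.obj.hom)
      (by rw [← hc]; exact comp_inv_cond p D _)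
      (φV D ((pullback.snd (prV p D) (act p D) ≫ prV p D) ≫ D.obj.hom)
        ((pullback.snd (prV p D) (act p D) ≫ act p D) ≫ D.obj.hom)
        (comp_inv_cond p D _) (pullback.snd (prV p D) (act p D) ≫ prV p D) rfl)
      (φV_hom D _ _ _ _ _) :=
    φV_congr D (by rw [hc]) rfl _ _ (hc.trans e2) _ _
  rw [e3, φV_comp]
  exact φV_congr D rfl (Category.assoc _ _ _).symm _ _ rfl _ _

/-- inverse. -/
noncomputable def iR : RR' p D ⟶ RR' p D :=
  Rlift p D (act p D) (prV p D ≫ D.obj.hom) (inv_cond p D).symm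

lemma iR_prV : iR p D ≫ prV p D = act p D := Rlift_prV p D _ _ _

lemma act_eq_id : act p D = φV D (prV p D ≫ D.obj.hom) (act p D ≫ D.obj.hom) (inv_cond p D)
    (prV p D) rfl := by
  have h := act_eq p D (𝟙 _)
  refine (Category.id_comp _).symm.trans (h.trans ?_)
  exact φV_congr D (by rw [Category.id_comp]) (by rw [Category.id_comp]) _ _ (Category.id_comp _) _ _

lemma iR_act : iR p D ≫ act p D = prV p D := by
  rw [iR, Rlift_act]
  have e3 : φV D (act p D ≫ D.obj.hom) (prV p D ≫ D.obj.hom) (inv_cond p D).symm (act p D) rfl =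
      φV D (act p D ≫ D.obj.hom) (prV p D ≫ D.obj.hom) (inv_cond p D).symm
        (φV D (prV p D ≫ D.obj.hom) (act p D ≫ D.obj.hom) (inv_cond p D) (prV p D) rfl)
        (φV_hom D _ _ _ _ _) :=
    φV_congr D rfl rfl _ _ (act_eq_id p D) _ _
  rw [e3, φV_comp, φV_self]

section Grpd

/-- the pair groupoid of `V` over `S`. -/
noncomputable abbrev Gp : Grpd.GroupoidScheme S := pairGroupoid (pV p D)

lemma hs : prV p D ≫ 𝟙 D.obj.left = ιR p D ≫ (Gp p D).s := by
  rw [Category.comp_id]
  exact (ιR_snd p D).symm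

lemma ht : act p D ≫ 𝟙 D.obj.left = ιR p D ≫ (Gp p D).t := by
  rw [Category.comp_id]
  exact (ιR_fst p D).symm

lemma hc : cR p D ≫ ιR p D =
    pullback.map (prV p D) (act p D) (Gp p D).s (Gp p D).t (ιR p D) (ιR p D) (𝟙 D.obj.left)
      (hs p D) (ht p D) ≫ (Gp p D).c := by
  dsimp only [Gp, pairGroupoid]
  apply pullback.hom_ext
  · rw [Category.assoc, ιR_fst, cR_act, Category.assoc, pullback.lift_fst, ← Category.assoc,
      pullback.lift_fst, Category.assoc, ιR_fst]
  · rw [Category.assoc, ιR_snd, cR_prV, Category.assoc, pullback.lift_snd, ← Category.assoc,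
      pullback.lift_snd, Category.assoc, ιR_snd]

lemma he : δR p D ≫ ιR p D = 𝟙 D.obj.left ≫ (Gp p D).e := by
  rw [Category.id_comp]
  apply pullback.hom_ext
  · rw [Category.assoc, ιR_fst, δR_act]
    exact (pullback.lift_fst _ _ _).symm
  · rw [Category.assoc, ιR_snd, δR_prV]
    exact (pullback.lift_snd _ _ _).symm

lemma hi : iR p D ≫ ιR p D = ιR p D ≫ (Gp p D).i := by
  dsimp only [Gp, pairGroupoid]
  apply pullback.hom_ext
  · rw [Category.assoc, ιR_fst, iR_act, Category.assoc, pullback.lift_fst, ιR_snd]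
  · rw [Category.assoc, ιR_snd, iR_prV, Category.assoc, pullback.lift_snd, ιR_fst]

/-- the groupoid scheme `R ⇉ V` of a descent datum. -/
noncomputable def grpd : Grpd.GroupoidScheme S :=
  @Groth.Agent.Lib.H5bGQ.monoGroupoid S (Gp p D) D.obj.left (RR' p D) (𝟙 D.obj.left) (ιR p D)
    (prV p D) (act p D) (hs p D) (ht p D) (cR p D) (hc p D)
    (inferInstanceAs (Mono (𝟙 D.obj.left))) (mono_ιR p D) (δR p D) (he p D) (iR p D) (hi p D)

lemma grpd_s : (grpd p D).s = prV p D := rfl

lemma grpd_t : (grpd p D).t = act p D := rfl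

instance mono_j : Mono (grpd p D).j := by
  refine ⟨fun {T} a b h => ?_⟩
  have h1 : a ≫ (grpd p D).t = b ≫ (grpd p D).t := by
    have := congrArg (· ≫ pullback.fst _ _) h
    simpa only [Category.assoc, Grpd.GroupoidScheme.j, pullback.lift_fst] using this
  have h2 : a ≫ (grpd p D).s = b ≫ (grpd p D).s := by
    have := congrArg (· ≫ pullback.snd _ _) h
    simpa only [Category.assoc, Grpd.GroupoidScheme.j, pullback.lift_snd] using this
  exact eq_of_prV_act p D h2 h1

section Fin

variable [IsFinite p] [Flat p] [LocallyOfFinitePresentation p]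

instance isFinite_prV : IsFinite (prV p D) :=
  inferInstanceAs (IsFinite (pullback.fst D.obj.hom (π₁ p)))

instance flat_prV : Flat (prV p D) :=
  inferInstanceAs (Flat (pullback.fst D.obj.hom (π₁ p)))

instance lofp_prV : LocallyOfFinitePresentation (prV p D) :=
  inferInstanceAs (LocallyOfFinitePresentation (pullback.fst D.obj.hom (π₁ p)))

instance isFinite_s : IsFinite (grpd p D).s := isFinite_prV p D

instance flat_s : Flat (grpd p D).s := flat_prV p D

instance lofp_s : LocallyOfFinitePresentation (grpd p D).s := lofp_prV p D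

end Fin

end Grpd

end Groth.Agent.Lib.H5bDDOrb
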