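import Mathlib
import Groth.Prelude.Def_Desc
import Groth.Prelude.Def_Grpd
import Groth.Agent.Lib.H5bDDOrbA
import Groth.Agent.Lib.H5bGQThm
import Groth.Agent.Lib.H5bDDEffA

/-!
# Effectivity of descent data along finite locally free morphisms, orbits in affine opens (helper5)

`effective_of_orbit_affine`: for `p : X ⟶ S` finite locally free and a descent datum `D` on `V / X`
such that every orbit `act (prV⁻¹ v)` lies in an affine open of `V`, the datum is effective: the
quotient `Q = V / R` of the groupoid scheme `grpd p D` exists, `V ⟶ Q` is finite locally free with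
`R = V ×_Q V`, and `V ⟶ X ×_S Q` is an isomorphism by fpqc descent of isomorphisms.
-/

set_option autoImplicit false
set_option linter.unusedSectionVars false
set_option linter.style.haveILetI false
universe u

namespace Groth.Agent.Lib.H5bDDOrb

open CategoryTheory CategoryTheory.Limits AlgebraicGeometry Desc Groth.Agent.Lib.H5bDDGlue
  Groth.Agent.Lib.H5bDDGen

variable {X S : Scheme.{u}} (p : X ⟶ S) (D : SchDD p)

section Quot

variable {Q : Scheme.{u}} (q : D.obj.left ⟶ Q) (w : act p D ≫ q = prV p D ≫ q) (g : Q ⟶ S)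
  (hg : q ≫ g = D.obj.hom ≫ p)

/-- `V ⟶ X ×_S Q`. -/
noncomputable def aQ : D.obj.left ⟶ pullback p g :=
  pullback.lift D.obj.hom q hg.symm

lemma aQ_fst : aQ p D q g hg ≫ pullback.fst p g = D.obj.hom := pullback.lift_fst _ _ _

lemma aQ_snd : aQ p D q g hg ≫ pullback.snd p g = q := pullback.lift_snd _ _ _

include w in
lemma cQ_cond : (act p D ≫ aQ p D q g hg) ≫ pullback.snd p g = prV p D ≫ q := by
  rw [Category.assoc, aQ_snd, w]

/-- `R ⟶ (X ×_S Q) ×_Q V`. -/
noncomputable def cQ : RR' p D ⟶ pullback (pullback.snd p g) q :=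
  pullback.lift (act p D ≫ aQ p D q g hg) (prV p D) (cQ_cond p D q w g hg)

lemma cQ_fst : cQ p D q w g hg ≫ pullback.fst _ _ = act p D ≫ aQ p D q g hg :=
  pullback.lift_fst _ _ _

lemma cQ_snd : cQ p D q w g hg ≫ pullback.snd _ _ = prV p D := pullback.lift_snd _ _ _

include hg in
lemma dQ_cond : (pullback.snd (pullback.snd p g) q ≫ D.obj.hom) ≫ p =
    (pullback.fst (pullback.snd p g) q ≫ pullback.fst p g) ≫ p := by
  rw [Category.assoc, ← hg, ← Category.assoc, ← pullback.condition, Category.assoc, Category.assoc,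
    pullback.condition]

/-- the inverse of `cQ`. -/
noncomputable def dQ : pullback (pullback.snd p g) q ⟶ RR' p D :=
  Rlift p D (pullback.snd _ _) (pullback.fst _ _ ≫ pullback.fst p g) (dQ_cond p D q g hg)

lemma cQ_dQ : cQ p D q w g hg ≫ dQ p D q g hg = 𝟙 _ := by
  apply R_ext
  · rw [Category.assoc, dQ, Rlift_prV, cQ_snd, Category.id_comp]
  · rw [Category.assoc, dQ, Rlift_homR, Category.id_comp]
    apply pullback.hom_ext
    · rw [Category.assoc, pullback.lift_fst, ← Category.assoc, cQ_snd, prV_cond]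
    · rw [Category.assoc, pullback.lift_snd, ← Category.assoc, cQ_fst, Category.assoc, aQ_fst,
        act_hom]

lemma dQ_cQ : dQ p D q g hg ≫ cQ p D q w g hg = 𝟙 _ := by
  apply pullback.hom_ext
  · rw [Category.assoc, cQ_fst, Category.id_comp]
    apply pullback.hom_ext
    · rw [Category.assoc, Category.assoc, aQ_fst, act_hom, dQ, ← Category.assoc, Rlift_homR,
        pullback.lift_snd]
    · rw [Category.assoc, Category.assoc, aQ_snd, w, dQ, ← Category.assoc, Rlift_prV,
        pullback.condition]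
  · rw [Category.assoc, cQ_snd, Category.id_comp, dQ, Rlift_prV]

instance isIso_cQ : IsIso (cQ p D q w g hg) :=
  ⟨dQ p D q g hg, cQ_dQ p D q w g hg, dQ_cQ p D q w g hg⟩

/-- the descent square. -/
lemma isPullback_cQ (hpb : IsPullback (act p D) (prV p D) q q) :
    IsPullback (cQ p D q w g hg) (act p D) (pullback.fst (pullback.snd p g) q) (aQ p D q g hg) := by
  refine IsPullback.of_right ?_ (cQ_fst p D q w g hg)
    (IsPullback.of_hasPullback (pullback.snd p g) q).flip
  rw [cQ_snd, aQ_snd]
  exact hpb.flip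

include w in
theorem isIso_aQ [Surjective q] [Flat q] [QuasiCompact q]
    (hpb : IsPullback (act p D) (prV p D) q q) : IsIso (aQ p D q g hg) := by
  have hsq := isPullback_cQ p D q w g hg hpb
  have hb : (@Surjective ⊓ @Flat ⊓ @QuasiCompact : MorphismProperty Scheme.{u})
      (pullback.fst (pullback.snd p g) q) :=
    ⟨⟨inferInstance, inferInstance⟩, inferInstance⟩
  have hc : MorphismProperty.isomorphisms Scheme.{u} (cQ p D q w g hg) := isIso_cQ p D q w g hg
  exact MorphismProperty.of_isPullback_of_descendsAlong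
    (P := MorphismProperty.isomorphisms Scheme.{u})
    (Q := (@Surjective ⊓ @Flat ⊓ @QuasiCompact : MorphismProperty Scheme.{u})) hsq hb hc

end Quot

/-- **effectivity of descent data along a finite locally free morphism, orbits in affine opens.** -/
theorem effective_of_orbit_affine [IsFinite p] [Flat p] [LocallyOfFinitePresentation p]
    (horb : ∀ v : D.obj.left, ∃ W : D.obj.left.Opens, IsAffineOpen W ∧
      ∀ r : RR' p D, prV p D r = v → act p D r ∈ W) :
    ∃ W : Over S, Nonempty ((toDD p).obj W ≅ D) := by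
  have hcov := Groth.Agent.Lib.H5bGQ.hcov_of_orbit (grpd p D) horb
  obtain ⟨Q, q0, w, hUP, -, hsurj, -, -, -, -, hmono⟩ :=
    Groth.Agent.Lib.H5bGQ.main (grpd p D) hcov
  obtain ⟨hfin, hflat, hlfp, hpb⟩ := hmono (mono_j p D)
  obtain ⟨g, hg, -⟩ := hUP S (pV p D) (ιR_cond p D)
  obtain ⟨q, hq⟩ : ∃ q : D.obj.left ⟶ Q, q = q0 := ⟨q0, rfl⟩
  have w' : act p D ≫ q = prV p D ≫ q := by rw [hq]; exact w
  have hg' : q ≫ g = D.obj.hom ≫ p := by rw [hq]; exact hg
  have hpb' : IsPullback (act p D) (prV p D) q q := by rw [hq]; exact hpb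
  haveI : Surjective q := by rw [hq]; exact hsurj
  haveI : IsFinite q := by rw [hq]; exact hfin
  haveI : Flat q := by rw [hq]; exact hflat
  haveI hiso : IsIso (aQ p D q g hg') := isIso_aQ p D q w' g hg' hpb'
  let U : Over S := Over.mk g
  have hc : D.obj.hom ≫ p = q ≫ U.hom := hg'.symm
  haveI : IsIso (toDD_lift (U := U) D.obj.hom q hc) := hiso
  refine ⟨U, nonempty_iso_of_invariant D U q hc ?_⟩
  intro T x₀ x₁ h v
  have h' : (v.1 ≫ D.obj.hom) ≫ p = x₁ ≫ p := by rw [v.2, h]
  have e1 : Rlift p D v.1 x₁ h' ≫ prV p D = v.1 := Rlift_prV p D _ _ _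
  have e2 : Rlift p D v.1 x₁ h' ≫ act p D = (D.φ x₀ x₁ h v).1 := by
    rw [Rlift_act]
    exact φV_congr D v.2 rfl _ _ rfl _ _
  rw [← e2, Category.assoc, w', ← Category.assoc, e1]

end Groth.Agent.Lib.H5bDDOrb
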