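import Mathlib
import Groth.Prelude.Def_Desc
import Groth.Agent.Lib.H5bDDOrbA

/-!
# Orbits of a descent datum along a finite morphism with bounded geometric fibres (helper5)

* `exists_lift_geom`: geometric points (algebraically closed) lift along finite morphisms through any
  given point of the fibre.
* `encard_prV_fibre_le`: if the geometric fibres of `p` have at most `d` points, so do the fibres of
  `prV : R ⟶ V`.
* `exists_fin_cover_orbit`: the orbit of a point is the image of a map `Fin d → V`.
-/

set_option autoImplicit false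
set_option linter.unusedSectionVars false
set_option linter.style.haveILetI false
universe u

namespace Groth.Agent.Lib.H5bDDOrb

open CategoryTheory CategoryTheory.Limits AlgebraicGeometry Desc Groth.Agent.Lib.H5bDDGlue
  Groth.Agent.Lib.H5bDDGen

/-- geometric points lift along finite morphisms through a given point of the fibre. -/
theorem exists_lift_geom {K : Type u} [Field K] [IsAlgClosed K] {R V : Scheme.{u}} (g : R ⟶ V)
    [IsFinite g] (vb : Spec (CommRingCat.of K) ⟶ V) (r : R) (a : Spec (CommRingCat.of K))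
    (h : vb a = g r) : ∃ rb : Spec (CommRingCat.of K) ⟶ R, rb ≫ g = vb ∧ rb a = r := by
  obtain ⟨z, hz1, hz2⟩ := Scheme.Pullback.exists_preimage_pullback (f := vb) (g := g) a r h
  let π : pullback vb g ⟶ Spec (CommRingCat.of K) := pullback.fst vb g
  haveI : IsFinite π := inferInstanceAs (IsFinite (pullback.fst vb g))
  have huniv : π ⁻¹' {a} = Set.univ := by
    ext w
    simp only [Set.mem_preimage, Set.mem_singleton_iff, Set.mem_univ, iff_true]
    exact Subsingleton.elim _ _
  have hdisc : DiscreteTopology ↥(pullback vb g) := by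
    have := π.isDiscrete_preimage_singleton a
    rw [huniv] at this
    exact isDiscrete_univ_iff.mp this
  have hz : IsClosed ({z} : Set ↥(pullback vb g)) := isClosed_discrete _
  refine ⟨pointOfClosedPoint π z hz ≫ pullback.snd vb g, ?_, ?_⟩
  · rw [Category.assoc, ← pullback.condition, ← Category.assoc]
    have : pointOfClosedPoint π z hz ≫ pullback.fst vb g = 𝟙 _ := pointOfClosedPoint_comp π z hz
    rw [this, Category.id_comp]
  · rw [Scheme.Hom.comp_apply, pointOfClosedPoint_apply]
    exact hz2

variable {X S : Scheme.{u}} (p : X ⟶ S) (D : SchDD p)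

section Geom

variable (v : D.obj.left)

/-- an algebraic closure of the residue field. -/
abbrev Kv : Type u := AlgebraicClosure (D.obj.left.residueField v)

/-- the geometric point at `v`. -/
noncomputable def vbar : Spec (CommRingCat.of (Kv p D v)) ⟶ D.obj.left :=
  Spec.map (CommRingCat.ofHom (algebraMap (D.obj.left.residueField v) (Kv p D v))) ≫
    D.obj.left.fromSpecResidueField v

lemma vbar_apply (a : Spec (CommRingCat.of (Kv p D v))) : vbar p D v a = v := by
  rw [vbar, Scheme.Hom.comp_apply]
  have : D.obj.left.fromSpecResidueField v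
      ((Spec.map (CommRingCat.ofHom (algebraMap (D.obj.left.residueField v) (Kv p D v)))) a) ∈
      Set.range (D.obj.left.fromSpecResidueField v) := ⟨_, rfl⟩
  rw [Scheme.range_fromSpecResidueField] at this
  exact this

end Geom

variable [IsFinite p]

theorem encard_prV_fibre_le (d : ℕ)
    (hfib : ∀ (k : Type u) [Field k] [IsAlgClosed k] (y : Spec (CommRingCat.of k) ⟶ S),
      Set.encard {x : Spec (CommRingCat.of k) ⟶ X | x ≫ p = y} ≤ d) (v : D.obj.left) :
    (prV p D ⁻¹' {v}).encard ≤ d := by
  classical
  haveI : IsFinite (prV p D) := inferInstanceAs (IsFinite (pullback.fst D.obj.hom (π₁ p)))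
  let a : Spec (CommRingCat.of (Kv p D v)) := default
  have hex : ∀ r : RR' p D, prV p D r = v →
      ∃ rb : Spec (CommRingCat.of (Kv p D v)) ⟶ RR' p D, rb ≫ prV p D = vbar p D v ∧ rb a = r :=
    fun r hr => exists_lift_geom (prV p D) (vbar p D v) r a ((vbar_apply p D v a).trans hr.symm)
  let Φ : RR' p D → (Spec (CommRingCat.of (Kv p D v)) ⟶ X) := fun r =>
    if hr : prV p D r = v then ((hex r hr).choose ≫ act p D) ≫ D.obj.hom
    else vbar p D v ≫ D.obj.hom
  refine le_trans ?_ (hfib (Kv p D v) ((vbar p D v ≫ D.obj.hom) ≫ p))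
  refine Set.encard_le_encard_of_injOn (f := Φ) ?_ ?_
  · intro r hr
    have hr' : prV p D r = v := hr
    change Φ r ≫ p = _
    simp only [Φ, dif_pos hr']
    rw [← comp_inv_cond p D, (hex r hr').choose_spec.1]
  · intro r hr r' hr' hΦ
    have h1 : prV p D r = v := hr
    have h2 : prV p D r' = v := hr'
    simp only [Φ, dif_pos h1, dif_pos h2] at hΦ
    have hc1 : ((vbar p D v) ≫ D.obj.hom) ≫ p =
        (((hex r h1).choose ≫ act p D) ≫ D.obj.hom) ≫ p := by
      rw [← comp_inv_cond p D, (hex r h1).choose_spec.1]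
    have e1 := Rlift_ext p D (hex r h1).choose (vbar p D v) _ hc1 (hex r h1).choose_spec.1 rfl
    have e2 := Rlift_ext p D (hex r' h2).choose (vbar p D v) _ hc1 (hex r' h2).choose_spec.1
      hΦ.symm
    have e3 : (hex r h1).choose = (hex r' h2).choose := e1.trans e2.symm
    rw [← (hex r h1).choose_spec.2, ← (hex r' h2).choose_spec.2, e3]

theorem exists_fin_cover_orbit (d : ℕ)
    (hfib : ∀ (k : Type u) [Field k] [IsAlgClosed k] (y : Spec (CommRingCat.of k) ⟶ S),
      Set.encard {x : Spec (CommRingCat.of k) ⟶ X | x ≫ p = y} ≤ d) (v : D.obj.left) :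
    ∃ w : Fin d → D.obj.left, (∀ i, ∃ r : RR' p D, prV p D r = v ∧ act p D r = w i) ∧
      ∀ r : RR' p D, prV p D r = v → ∃ i, w i = act p D r := by
  classical
  have h1 := encard_prV_fibre_le p D d hfib v
  have h2 : (act p D '' (prV p D ⁻¹' {v})).encard ≤ d := (Set.encard_image_le _ _).trans h1
  rw [Set.encard_le_coe_iff_finite_ncard_le] at h2
  obtain ⟨hfin, hcard⟩ := h2
  obtain ⟨n, f, hf⟩ := hfin.fin_embedding
  have hn : n ≤ d := by
    have : (Set.range f).ncard = n := by
      rw [Set.ncard_range_of_injective f.injective, Nat.card_fin]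
    rw [hf] at this
    omega
  have hv0 : v ∈ act p D '' (prV p D ⁻¹' {v}) := by
    refine ⟨δR p D v, ?_, ?_⟩
    · change prV p D (δR p D v) = v
      rw [← Scheme.Hom.comp_apply, δR_prV]
      rfl
    · rw [← Scheme.Hom.comp_apply, δR_act]
      rfl
  refine ⟨fun i => if h : i.1 < n then f ⟨i.1, h⟩ else v, fun i => ?_, fun r hr => ?_⟩
  · by_cases h : i.1 < n
    · simp only [dif_pos h]
      have : f ⟨i.1, h⟩ ∈ Set.range f := ⟨_, rfl⟩
      rw [hf] at this
      obtain ⟨r, hr, hr2⟩ := this
      exact ⟨r, hr, hr2⟩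
    · simp only [dif_neg h]
      obtain ⟨r, hr, hr2⟩ := hv0
      exact ⟨r, hr, hr2⟩
  · have : act p D r ∈ Set.range f := by
      rw [hf]
      exact ⟨r, hr, rfl⟩
    obtain ⟨j, hj⟩ := this
    refine ⟨⟨j.1, lt_of_lt_of_le j.2 hn⟩, ?_⟩
    simp only [dif_pos j.2]
    exact hj

end Groth.Agent.Lib.H5bDDOrb
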