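import Mathlib
import Groth.Prelude.Def_Desc
import Groth.Agent.Lib.H5bDDGenI
import Groth.Agent.S1133
import Groth.Agent.S9866

/-!
# Descent along universally injective fpqc morphisms (helper5)

* `isStable_of_universallyInjective`: for a universally injective `p`, every open of the scheme of a
  descent datum relative to `p` is stable under the gluing bijections;
* `effective_of_restrict_base`: a descent datum relative to `p : X ⟶ S` whose scheme lies over an
  open `B` of `S` is effective as soon as its restriction to `p ∣_ B` is;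
* `effective_of_universallyInjective`: all descent data relative to a flat, surjective,
  quasi-compact, universally injective morphism are effective.
-/

set_option autoImplicit false
set_option linter.unusedSectionVars false
set_option linter.style.haveILetI false
universe u

namespace Groth.Agent.Lib.H5bDDRad

open CategoryTheory CategoryTheory.Limits AlgebraicGeometry Desc Groth.Agent.Lib.H5bDDGlue
  Groth.Agent.Lib.H5bDDGen

variable {X S : Scheme.{u}} {p : X ⟶ S}

/-- for a universally injective morphism, every open is stable under the gluing bijections. -/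
theorem isStable_of_universallyInjective [UniversallyInjective p] (D : SchDD p)
    (W : D.obj.left.Opens) : IsStable D W := by
  intro T x₀ x₁ h w hw
  rintro _ ⟨t, rfl⟩
  let ι := T.fromSpecResidueField t
  have hinj : ∀ (K : Type u) [Field K],
      Function.Injective (fun g : Spec (.of K) ⟶ X ↦ g ≫ p) :=
    ((tfae_universallyInjective p).out 0 1).1 ‹_›
  have hx : ι ≫ x₀ = ι ≫ x₁ := hinj (T.residueField t) (by
    change (ι ≫ x₀) ≫ p = (ι ≫ x₁) ≫ p
    simp only [Category.assoc, h])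
  have h' : (ι ≫ x₀) ≫ p = (ι ≫ x₁) ≫ p := by rw [Category.assoc, Category.assoc, h]
  let v' : Lifts D.obj (ι ≫ x₀) := ⟨ι ≫ w.1, by rw [Category.assoc, w.2]⟩
  have hnat : (D.φ (ι ≫ x₀) (ι ≫ x₁) h' v').1 = ι ≫ (D.φ x₀ x₁ h w).1 :=
    D.φ_natural ι x₀ x₁ h h' w v' rfl
  have hself : (D.φ (ι ≫ x₀) (ι ≫ x₁) h' v').1 = ι ≫ w.1 := by
    have e1 := φ_congr D (rfl : ι ≫ x₀ = ι ≫ x₀) hx.symm h' rfl v' v' rfl
    rw [e1, D.φ_self]
  have e : ι ≫ (D.φ x₀ x₁ h w).1 = ι ≫ w.1 := hnat.symm.trans hself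
  have e2 : (D.φ x₀ x₁ h w).1 t = w.1 t := by
    have h3 := congrArg (fun f : Spec (T.residueField t) ⟶ D.obj.left =>
      f (IsLocalRing.closedPoint _)) e
    simpa [ι, Scheme.Hom.comp_apply] using h3
  change (D.φ x₀ x₁ h w).1 t ∈ _
  rw [e2]
  exact hw ⟨t, rfl⟩

section base

variable (B : S.Opens)

/-- the restriction square. -/
lemma restrict_w : (p ⁻¹ᵁ B).ι ≫ p = (p ∣_ B) ≫ B.ι := (morphismRestrict_ι p B).symm

variable {B} (D' : SchDD p) (hfac : Set.range D'.obj.hom ⊆ ((p ⁻¹ᵁ B : X.Opens) : Set X))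

/-- the structure morphism of a descent datum lying over `B`, as a morphism to `p⁻¹ B`. -/
noncomputable def liftB : D'.obj.left ⟶ (p ⁻¹ᵁ B : Scheme.{u}) :=
  IsOpenImmersion.lift (p ⁻¹ᵁ B).ι D'.obj.hom (by rw [Scheme.Opens.range_ι]; exact hfac)

lemma liftB_ι : liftB D' hfac ≫ (p ⁻¹ᵁ B).ι = D'.obj.hom := IsOpenImmersion.lift_fac _ _ _

/-- the section of the projection from the restricted descent datum. -/
noncomputable def secB : D'.obj.left ⟶ (pullDD (restrict_w B) D').obj.left :=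
  pullDD_lift (restrict_w B) D' (𝟙 _) (liftB D' hfac) (by rw [Category.id_comp, liftB_ι])

lemma secB_pr : secB D' hfac ≫ prD (restrict_w B) D' = 𝟙 _ := pullDD_lift_pr _ _ _ _ _

lemma secB_hom : secB D' hfac ≫ (pullDD (restrict_w B) D').obj.hom = liftB D' hfac :=
  pullDD_lift_hom _ _ _ _ _

lemma pr_secB : prD (restrict_w B) D' ≫ secB D' hfac = 𝟙 _ := by
  apply pullDD_hom_ext (restrict_w B) D'
  · rw [Category.assoc, secB_pr, Category.comp_id, Category.id_comp]
  · rw [Category.assoc, secB_hom, Category.id_comp, ← cancel_mono (p ⁻¹ᵁ B).ι, Category.assoc,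
      liftB_ι, prD_cond]

include hfac in
lemma isIso_prD : IsIso (prD (restrict_w B) D') :=
  ⟨secB D' hfac, pr_secB D' hfac, secB_pr D' hfac⟩

include hfac in
/-- a descent datum lying over an open of the base is effective if its restriction is. -/
theorem effective_of_restrict_base (U_B : Over (B : Scheme.{u}))
    (e : (toDD (p ∣_ B)).obj U_B ≅ pullDD (restrict_w B) D') :
    ∃ U : Over S, Nonempty ((toDD p).obj U ≅ D') := by
  have w := restrict_w (p := p) B
  let c₀ : (pullDD (restrict_w B) D').obj.left ⟶ U_B.left :=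
    e.inv.hom.left ≫ sndU (p ∣_ B) U_B
  let c : D'.obj.left ⟶ U_B.left := secB D' hfac ≫ c₀
  let U : Over S := Over.mk (U_B.hom ≫ B.ι)
  have hpb₀ : IsPullback (pullDD (restrict_w B) D').obj.hom c₀ (p ∣_ B) U_B.hom :=
    isPullback_of_iso e
  let σ : D'.obj.left ≅ (pullDD (restrict_w B) D').obj.left :=
    ⟨secB D' hfac, prD (restrict_w B) D', secB_pr D' hfac, pr_secB D' hfac⟩
  have hpb₁ : IsPullback (liftB D' hfac) c (p ∣_ B) U_B.hom := by
    refine IsPullback.of_iso hpb₀ σ.symm (Iso.refl _) (Iso.refl _) (Iso.refl _) ?_ ?_ ?_ ?_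
    · change (pullDD (restrict_w B) D').obj.hom ≫ 𝟙 _ = prD (restrict_w B) D' ≫ liftB D' hfac
      rw [Category.comp_id, ← cancel_mono (p ⁻¹ᵁ B).ι, Category.assoc, liftB_ι, prD_cond]
    · change c₀ ≫ 𝟙 _ = prD (restrict_w B) D' ≫ secB D' hfac ≫ c₀
      rw [Category.comp_id, ← Category.assoc, pr_secB, Category.id_comp]
    · simp
    · simp
  have hbase : IsPullback (p ⁻¹ᵁ B).ι (p ∣_ B) p B.ι := (isPullback_morphismRestrict p B).flip
  have hpb : IsPullback D'.obj.hom c p (U_B.hom ≫ B.ι) := by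
    have := hpb₁.paste_horiz hbase
    rwa [liftB_ι] at this
  have hc : D'.obj.hom ≫ p = c ≫ U.hom := hpb.w
  haveI : IsIso (toDD_lift (U := U) D'.obj.hom c hc) := isIso_toDD_lift_of_isPullback (U := U) hpb
  refine ⟨U, nonempty_iso_of_invariant D' U c hc ?_⟩
  intro T x₀ x₁ h wv
  obtain ⟨wv', hwv'⟩ : ∃ y, y = D'.φ x₀ x₁ h wv := ⟨_, rfl⟩
  obtain ⟨x₀', hx₀'⟩ : ∃ y : T ⟶ (p ⁻¹ᵁ B : Scheme.{u}), y = wv.1 ≫ liftB D' hfac := ⟨_, rfl⟩
  obtain ⟨x₁', hx₁'⟩ : ∃ y : T ⟶ (p ⁻¹ᵁ B : Scheme.{u}), y = wv'.1 ≫ liftB D' hfac := ⟨_, rfl⟩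
  have hx₀ : x₀' ≫ (p ⁻¹ᵁ B).ι = x₀ := by rw [hx₀', Category.assoc, liftB_ι, wv.2]
  have hx₁ : x₁' ≫ (p ⁻¹ᵁ B).ι = x₁ := by rw [hx₁', Category.assoc, liftB_ι, wv'.2]
  have h' : x₀' ≫ (p ∣_ B) = x₁' ≫ (p ∣_ B) := by
    rw [← cancel_mono B.ι]
    calc (x₀' ≫ (p ∣_ B)) ≫ B.ι = x₀' ≫ (p ⁻¹ᵁ B).ι ≫ p := by rw [Category.assoc, w]
      _ = x₀ ≫ p := by rw [← Category.assoc, hx₀]
      _ = x₁ ≫ p := h
      _ = x₁' ≫ (p ⁻¹ᵁ B).ι ≫ p := by rw [← Category.assoc, hx₁]
      _ = (x₁' ≫ (p ∣_ B)) ≫ B.ι := by rw [Category.assoc, w]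
  let u : Lifts (pullDD (restrict_w B) D').obj x₀' :=
    ⟨wv.1 ≫ secB D' hfac, by rw [Category.assoc, secB_hom, hx₀']⟩
  have hinv := invariant_of_iso e x₀' x₁' h' u
  have hwv0 : wv.1 ≫ D'.obj.hom = x₀' ≫ (p ⁻¹ᵁ B).ι := by rw [wv.2, hx₀]
  have hz : ((pullDD (restrict_w B) D').φ x₀' x₁' h' u).1 ≫ prD (restrict_w B) D' = wv'.1 := by
    have hv : (⟨wv.1, hwv0⟩ : Lifts D'.obj (x₀' ≫ (p ⁻¹ᵁ B).ι)).1 =
        u.1 ≫ prD (restrict_w B) D' := by
      change wv.1 = (wv.1 ≫ secB D' hfac) ≫ prD (restrict_w B) D'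
      rw [Category.assoc, secB_pr, Category.comp_id]
    rw [pullDD_φ_pr (restrict_w B) D' x₀' x₁' h' u ⟨wv.1, hwv0⟩ hv, hwv']
    exact φ_congr D' hx₀ hx₁ _ h _ wv rfl
  have hz2 : ((pullDD (restrict_w B) D').φ x₀' x₁' h' u).1 = wv'.1 ≫ secB D' hfac := by
    rw [← hz, Category.assoc, pr_secB, Category.comp_id]
  rw [← hwv']
  change wv'.1 ≫ secB D' hfac ≫ c₀ = wv.1 ≫ secB D' hfac ≫ c₀
  rw [← Category.assoc, ← hz2, ← Category.assoc wv.1]
  exact hinv

end base

/-- all descent data relative to a flat, surjective, quasi-compact and universally injective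
morphism are effective. -/
theorem effective_of_universallyInjective (g : X ⟶ S) [Flat g] [Surjective g] [QuasiCompact g]
    [UniversallyInjective g] (D : SchDD g) : ∃ U : Over S, Nonempty ((toDD g).obj U ≅ D) := by
  haveI : IsSeparated g := ⟨IsClosedImmersion.of_isPreimmersion _ (by
    haveI : Surjective (pullback.diagonal g) := (UniversallyInjective.iff_diagonal g).1 inferInstance
    rw [Set.range_eq_univ.2 (pullback.diagonal g).surjective]
    exact isClosed_univ)⟩
  apply Groth.Agent.S9866.result g D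
  intro v
  obtain ⟨_, ⟨(B : S.Opens), hB, rfl⟩, hsB, -⟩ := S.isBasis_affineOpens.exists_subset_of_mem_open
    (Set.mem_univ (g (D.obj.hom v))) isOpen_univ
  let O : D.obj.left.Opens := D.obj.hom ⁻¹ᵁ (g ⁻¹ᵁ B)
  obtain ⟨_, ⟨(W : D.obj.left.Opens), hW, rfl⟩, hvW, hWO⟩ := D.obj.left.isBasis_affineOpens.exists_subset_of_mem_open
    (show v ∈ (O : Set D.obj.left) from hsB) O.isOpen
  have hst := isStable_of_universallyInjective D W
  refine ⟨restrictDD hst, restrictHom hst, ?_, ?_, ?_⟩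
  · change IsOpenImmersion (Scheme.Opens.ι W)
    infer_instance
  · rw [restrictHom_left]
    change v ∈ Set.range W.ι
    rw [Scheme.Opens.range_ι]
    exact hvW
  · have hfac : Set.range (restrictDD hst).obj.hom ⊆ ((g ⁻¹ᵁ B : X.Opens) : Set X) := by
      rintro _ ⟨a, rfl⟩
      change (W.ι ≫ D.obj.hom) a ∈ _
      rw [Scheme.Hom.comp_apply]
      exact hWO a.2
    have hsq := isPullback_morphismRestrict g B
    haveI : Flat (g ∣_ B) := MorphismProperty.of_isPullback (P := @Flat) hsq.flip inferInstance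
    haveI : Surjective (g ∣_ B) :=
      MorphismProperty.of_isPullback (P := @Surjective) hsq.flip inferInstance
    haveI : QuasiCompact (g ∣_ B) :=
      MorphismProperty.of_isPullback (P := @QuasiCompact) hsq.flip inferInstance
    haveI : IsAffine (B : Scheme.{u}) := hB
    haveI : IsAffine (W : Scheme.{u}) := hW
    haveI : IsAffine (restrictDD hst).obj.left := hW
    haveI := isIso_prD (restrictDD hst) hfac
    haveI : IsAffine (pullDD (restrict_w B) (restrictDD hst)).obj.left :=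
      IsAffine.of_isIso (prD (restrict_w B) (restrictDD hst))
    haveI : IsAffineHom ((pullDD (restrict_w B) (restrictDD hst)).obj.hom ≫ (g ∣_ B)) :=
      inferInstance
    haveI : IsAffineHom (pullDD (restrict_w B) (restrictDD hst)).obj.hom :=
      IsAffineHom.of_comp _ (g ∣_ B)
    obtain ⟨U_B, ⟨e⟩⟩ := Groth.Agent.S1133.result (g ∣_ B) (pullDD (restrict_w B) (restrictDD hst))
    exact effective_of_restrict_base (restrictDD hst) hfac U_B e

end Groth.Agent.Lib.H5bDDRad
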