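import Mathlib
import Groth.Prelude
import Groth.Agent.S10176
import Groth.Agent.S10177
import Groth.Agent.S9920

/-!
# Compactness of fibre products of charts: reduction steps
-/

set_option autoImplicit false
set_option linter.style.haveILetI false
universe u
open CategoryTheory CategoryTheory.Limits AlgebraicGeometry

namespace Groth.Agent.Lib.H5bDecQs

open AlgSp

variable {S : Scheme.{u}}

/-- the fibre product of two scheme charts is (representable by) a quasi-compact scheme. -/
def CompactFib {X : AlgSp.Sp S} {U V : Over S} (a : (yon S).obj U ⟶ X) (b : (yon S).obj V ⟶ X) :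
    Prop :=
  ∃ (P : Over S) (fst : P ⟶ U) (snd : P ⟶ V),
    IsPullback ((yon S).map fst) ((yon S).map snd) a b ∧ CompactSpace ↥P.left

theorem CompactFib.flip {X : AlgSp.Sp S} {U V : Over S} {a : (yon S).obj U ⟶ X}
    {b : (yon S).obj V ⟶ X} (h : CompactFib a b) : CompactFib b a := by
  obtain ⟨P, fst, snd, sq, hc⟩ := h
  exact ⟨P, snd, fst, sq.flip, hc⟩

/-- any scheme representing the fibre product is then quasi-compact. -/
theorem CompactFib.compactSpace {X : AlgSp.Sp S} {U V : Over S} {a : (yon S).obj U ⟶ X}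
    {b : (yon S).obj V ⟶ X} (h : CompactFib a b) {P : Over S} (fst : P ⟶ U) (snd : P ⟶ V)
    (sq : IsPullback ((yon S).map fst) ((yon S).map snd) a b) : CompactSpace ↥P.left := by
  obtain ⟨P', fst', snd', sq', hc⟩ := h
  let e := sq.isoIsPullback _ _ sq'
  let e' : P ≅ P' := (yon S).preimageIso e
  haveI := hc
  have : IsIso e'.hom.left := inferInstance
  exact QuasiCompact.compactSpace_of_compactSpace e'.hom.left

/-- left square of a pasting: the fibre product over a composite chart. -/
theorem isPullback_left {X : AlgSp.Sp S} {U U' V P P' : Over S} {a : (yon S).obj U ⟶ X}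
    {b : (yon S).obj V ⟶ X} {fst : P ⟶ U} {snd : P ⟶ V}
    (sq : IsPullback ((yon S).map fst) ((yon S).map snd) a b) (c : U' ⟶ U) {fst' : P' ⟶ U'}
    {snd' : P' ⟶ V}
    (sq' : IsPullback ((yon S).map fst') ((yon S).map snd') ((yon S).map c ≫ a) b) :
    ∃ ρ : P' ⟶ P, ρ ≫ snd = snd' ∧
      IsPullback ((yon S).map fst') ((yon S).map ρ) ((yon S).map c) ((yon S).map fst) := by
  have w : ((yon S).map fst' ≫ (yon S).map c) ≫ a = (yon S).map snd' ≫ b := by
    rw [Category.assoc]; exact sq'.w
  obtain ⟨ρ, hρ⟩ := (yon S).map_surjective (sq.lift _ _ w)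
  have h1 : (yon S).map ρ ≫ (yon S).map fst = (yon S).map fst' ≫ (yon S).map c := by
    rw [hρ, sq.lift_fst]
  have h2 : (yon S).map ρ ≫ (yon S).map snd = (yon S).map snd' := by
    rw [hρ, sq.lift_snd]
  refine ⟨ρ, ?_, ?_⟩
  · apply (yon S).map_injective
    rw [Functor.map_comp, h2]
  · have big : IsPullback ((yon S).map ρ ≫ (yon S).map snd) ((yon S).map fst') b
        ((yon S).map c ≫ a) := by
      rw [h2]; exact sq'.flip
    exact (IsPullback.of_right big h1 sq.flip).flip

/-- **étale-local reduction on the first chart**. -/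
theorem CompactFib.of_cover {X : AlgSp.Sp S} (hX : Functor.relativelyRepresentable (yon S) (Limits.diag X))
    {U V : Over S} (a : (yon S).obj U ⟶ X)
    (b : (yon S).obj V ⟶ X) {ι : Type*} [Finite ι] (Uk : ι → Over S) (c : ∀ k, Uk k ⟶ U)
    (hcov : ∀ u : ↥U.left, ∃ k, u ∈ Set.range (c k).left)
    (h : ∀ k, CompactFib ((yon S).map (c k) ≫ a) b) : CompactFib a b := by
  obtain ⟨P, snd, fst', sq⟩ := Functor.relativelyRepresentable.of_diag hX a b
  obtain ⟨fst, rfl⟩ := (yon S).map_surjective fst'
  refine ⟨P, fst, snd, sq, ?_⟩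
  choose Pk fk sk sqk hck using h
  have hρ := fun k => isPullback_left sq (c k) (sqk k)
  choose ρ hρ1 hρ2 using hρ
  refine ⟨?_⟩
  have hcov' : (Set.univ : Set ↥P.left) = ⋃ k, Set.range (ρ k).left := by
    symm
    rw [Set.eq_univ_iff_forall]
    intro e
    obtain ⟨k, u', hu'⟩ := hcov (fst.left e)
    have he : Points.ofPt ((yon S).map (c k)) u' = Points.ofPt ((yon S).map fst) e := by
      have h1 := Groth.Agent.S10176.ofPt_map_comp (c k) (𝟙 ((yon S).obj U)) u'
      have h2 := Groth.Agent.S10176.ofPt_map_comp fst (𝟙 ((yon S).obj U)) e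
      rw [Category.comp_id] at h1 h2
      rw [h1, h2, hu']
    obtain ⟨y, -, hy⟩ := Groth.Agent.S10176.exists_point_of_isPullback_yon (hρ2 k) u' e he
    exact Set.mem_iUnion.2 ⟨k, y, hy⟩
  rw [hcov']
  exact isCompact_iUnion fun k => by
    haveI := hck k
    exact isCompact_range (ρ k).left.continuous

/-- **precomposition with a quasi-compact morphism** on the first chart. -/
theorem CompactFib.precomp {X : AlgSp.Sp S} (hX : Functor.relativelyRepresentable (yon S) (Limits.diag X))
    {U W V : Over S} (a : (yon S).obj W ⟶ X)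
    (b : (yon S).obj V ⟶ X) (g : U ⟶ W) [QuasiCompact g.left] (h : CompactFib a b) :
    CompactFib ((yon S).map g ≫ a) b := by
  obtain ⟨P, fst, snd, sq, hc⟩ := h
  obtain ⟨P', snd', fst'', sq'⟩ :=
    Functor.relativelyRepresentable.of_diag hX ((yon S).map g ≫ a) b
  obtain ⟨fst', rfl⟩ := (yon S).map_surjective fst''
  refine ⟨P', fst', snd', sq', ?_⟩
  obtain ⟨ρ, -, hρ⟩ := isPullback_left sq g sq'
  have hg : RepWith @QuasiCompact ((yon S).map g) :=
    (repWith_yon_map_iff @QuasiCompact g).2 ‹_›
  haveI : QuasiCompact ρ.left := hg.2 _ _ _ hρ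
  haveI := hc
  exact QuasiCompact.compactSpace_of_compactSpace ρ.left

end Groth.Agent.Lib.H5bDecQs
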