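import Mathlib
import Groth.Prelude.Def_RegImm
import Groth.Prelude.Def_Mor2
import Groth.Prelude.Def_MoreMor
import Groth.Agent.Lib.R2H4SliceCM
import Groth.Agent.Lib.Helper5CMLocusSch

/-!
# Refining fppf covers by locally quasi-finite ones (helper4, round 2)

* `exists_cm_closed_point`: a flat lft morphism is Cohen–Macaulay at some point, closed in its
  fibre, of every nonempty fibre (helper5's `exists_closedPoint_cm` on the fibre).
* `main1375` (= S1375): disjoint union over the points of the base of the quasi-finite flat slices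
  of `R2H4SliceCM.main1349`.
-/

set_option autoImplicit false
set_option linter.style.haveILetI false
universe u
open scoped TensorProduct
open CategoryTheory CategoryTheory.Limits AlgebraicGeometry TopologicalSpace

namespace Groth.Agent.Lib.R2H4.QFRefine


section Pt

variable {S' S : Scheme.{u}}

/-- a flat locally finite type morphism is Cohen–Macaulay at some point, closed in its fibre, of
every nonempty fibre -/
theorem exists_cm_closed_point (g : S' ⟶ S) [Flat g] [LocallyOfFiniteType g] (s : S)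
    (hs : s ∈ Set.range g) :
    ∃ x : S', g x = s ∧ MoreMor.IsCMAt g x ∧
      IsClosed ({g.asFiber x} : Set ↑(g.fiber (g x))) := by
  haveI : Nonempty ↑(g.fiber s) := by
    obtain ⟨x₁, rfl⟩ := hs
    exact ⟨g.asFiber x₁⟩
  haveI hlft : LocallyOfFiniteType (g.fiberToSpecResidueField s) :=
    MorphismProperty.pullback_snd _ _ inferInstance
  obtain ⟨z, hzcl, hzcm⟩ := @Groth.Agent.Lib.Helper5.CMLocusSch.exists_closedPoint_cm
    (S.residueField s) _ (by
      change IsArtinianRing (IsLocalRing.ResidueField (S.presheaf.stalk s))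
      infer_instance) (g.fiber s) (g.fiberToSpecResidueField s) hlft _
  have key : ∀ (x : S') (y : S) (hy : y = g x) (z : g.fiber y) (hz : g.fiberι y z = x),
      IsClosed ({z} : Set ↑(g.fiber y)) →
      LocCoh.IsCohenMacaulayLocalRing ((g.fiber y).presheaf.stalk z) →
      LocCoh.IsCohenMacaulayLocalRing ((g.fiber (g x)).presheaf.stalk (g.asFiber x)) ∧
        IsClosed ({g.asFiber x} : Set ↑(g.fiber (g x))) := by
    intro x y hy
    subst hy
    intro z hz
    obtain rfl : z = g.asFiber x :=
      (g.fiberι (g x)).isEmbedding.injective (hz.trans (g.fiberι_asFiber x).symm)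
    exact fun h1 h2 => ⟨h2, h1⟩
  have hy : s = g (g.fiberι s z) := by
    have h1 : g.fiberι s z ∈ Set.range (g.fiberι s) := ⟨z, rfl⟩
    rw [Scheme.Hom.range_fiberι] at h1
    exact h1.symm
  obtain ⟨h1, h2⟩ := key (g.fiberι s z) s hy z rfl hzcl hzcm
  exact ⟨g.fiberι s z, hy.symm, ⟨Flat.stalkMap g _, h1⟩, h2⟩

end Pt

section Main

variable {S' S : Scheme.{u}}

set_option maxHeartbeats 1600000 in
/-- **S1375**: an fppf cover by one morphism is refined by a locally quasi-finite one. -/
theorem main1375 (g : S' ⟶ S) [Flat g] [LocallyOfFinitePresentation g] [Surjective g] :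
    ∃ (T : Scheme.{u}) (h : T ⟶ S), Flat h ∧ LocallyOfFinitePresentation h ∧
      LocallyQuasiFinite h ∧ Surjective h ∧
      ∀ t : ↑T, ∃ (V : T.Opens) (r : ↑V ⟶ S'), t ∈ V ∧ r ≫ g = V.ι ≫ h := by
  have hpt : ∀ s : S, ∃ x : S', g x = s ∧ MoreMor.IsCMAt g x ∧
      IsClosed ({g.asFiber x} : Set ↑(g.fiber (g x))) := fun s =>
    exists_cm_closed_point g s (g.surjective s)
  choose x hxs hxcm hxcl using hpt
  have hslice := fun s : S =>
    Groth.Agent.Lib.R2H4.SliceCM.main1349 g (x s) (hxcm s) (hxcl s)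
  choose V Z i hreg hrange hfl hlfp hqf huniq using hslice
  let T : Scheme.{u} := ∐ Z
  let h : T ⟶ S := Sigma.desc fun s => i s ≫ (V s).ι ≫ g
  have hflat : Flat h :=
    IsZariskiLocalAtSource.sigmaDesc (P := @Flat) fun s => hfl s
  have hlfp' : LocallyOfFinitePresentation h :=
    IsZariskiLocalAtSource.sigmaDesc (P := @LocallyOfFinitePresentation) fun s => hlfp s
  have hqf' : LocallyQuasiFinite h :=
    IsZariskiLocalAtSource.sigmaDesc (P := @LocallyQuasiFinite) fun s => hqf s
  refine ⟨T, h, hflat, hlfp', hqf', ⟨fun s => ?_⟩, fun t => ?_⟩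
  · obtain ⟨z, hz⟩ := hrange s
    refine ⟨Sigma.ι Z s z, ?_⟩
    rw [← Scheme.Hom.comp_apply, Sigma.ι_desc, ← Category.assoc, Scheme.Hom.comp_apply, hz, hxs]
  · obtain ⟨s, z, rfl⟩ := (sigmaOpenCover Z).exists_eq t
    refine ⟨(Sigma.ι Z s).opensRange, (Sigma.ι Z s).isoOpensRange.inv ≫ i s ≫ (V s).ι, ⟨z, rfl⟩, ?_⟩
    have h1 : (Sigma.ι Z s).opensRange.ι =
        (Sigma.ι Z s).isoOpensRange.inv ≫ Sigma.ι Z s := by
      rw [Iso.eq_inv_comp]
      exact Scheme.Hom.isoOpensRange_hom_ι _
    rw [h1]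
    simp only [Category.assoc]
    congr 1
    exact (Sigma.ι_desc (fun s => i s ≫ (V s).ι ≫ g) s).symm

end Main


end Groth.Agent.Lib.R2H4.QFRefine
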