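import Mathlib
import Groth.Prelude.Def_RegImm
import Groth.Prelude.Def_Mor2
import Groth.Prelude.Def_MoreMor
import Groth.Agent.Lib.R2H4QFRefine
import Groth.Agent.Lib.Helper20ResFld

/-!
# fppf coverings refined by residue-trivial étale neighbourhoods and finite flat covers
(helper4, round 2)

* `exists_etale_finite_part_res`: copy of `Helper20.EtSplit.exists_etale_finite_part` keeping the
  triviality of the residue field extension at the marked point of the étale neighbourhood
  (Mathlib's `Algebra.exists_etale_isIdempotentElem_forall_liesOver_eq` provides it).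
* `main1379res`: variant of `R2H4.FppfFinLocFree.main1379'` with a residue-trivial point.
* `main19339` (= S19339).
-/

set_option autoImplicit false
set_option linter.style.haveILetI false
universe w u
open scoped TensorProduct
open CategoryTheory CategoryTheory.Limits AlgebraicGeometry TopologicalSpace TensorProduct

namespace Groth.Agent.Lib.R2H4.EtFinPartRes

/- Copy of `Helper20.EtSplit.exists_etale_finite_part` keeping the triviality of the residue field
extension at the marked point of the étale neighbourhood. -/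
set_option backward.defeqAttrib.useBackward true in
set_option backward.isDefEq.respectTransparency false in
/-- Enhanced version of Mathlib's `exists_etale_isCompl_of_quasiFiniteAt`: étale locally on the
base around `s`, the points over the base point mapping to `x` are exactly those of an open
subscheme which is finite over the base. -/
theorem exists_etale_finite_part_res {X S : Scheme.{u}} (f : X ⟶ S) [LocallyOfFiniteType f]
    {x : X} {s : S} (h : f x = s) (hx : f.QuasiFiniteAt x) :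
    ∃ (U : Scheme.{u}) (g : U ⟶ S) (u : U), Etale g ∧ g u = s ∧
    Function.Bijective (g.residueFieldMap u) ∧
    ∃ (V : (pullback f g).Opens), IsFinite (V.ι ≫ pullback.snd f g) ∧
      ∀ w : ↥(pullback f g), pullback.snd f g w = u → (w ∈ V ↔ pullback.fst f g w = x) := by
  obtain ⟨_, ⟨U, hU, rfl⟩, hxU, -⟩ := S.isBasis_affineOpens.exists_subset_of_mem_open
    (Set.mem_univ (f x)) isOpen_univ
  obtain ⟨_, ⟨V, hV, rfl⟩, hxV, hUV : V ≤ f ⁻¹ᵁ U⟩ :=
    X.isBasis_affineOpens.exists_subset_of_mem_open hxU (f ⁻¹ᵁ U).2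
  have : (f.appLE U V hUV).hom.FiniteType := f.finiteType_appLE hU hV hUV
  algebraize [(f.appLE U V hUV).hom]
  have : (hV.primeIdealOf ⟨x, hxV⟩).asIdeal.LiesOver (hU.primeIdealOf ⟨f x, hxU⟩).asIdeal := by
    suffices hU.primeIdealOf ⟨f x, hxU⟩ = Spec.map (f.appLE U V hUV) (hV.primeIdealOf ⟨x, hxV⟩) from
      ⟨congr(($this).1)⟩
    apply hU.isoSpec.inv.homeomorph.injective
    apply Subtype.ext
    simp only [IsAffineOpen.primeIdealOf, Scheme.Hom.homeomorph_apply,
      ← Scheme.Hom.comp_apply, ← Scheme.Opens.ι_apply, IsAffineOpen.isoSpec_hom]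
    simp
  have : Algebra.QuasiFiniteAt Γ(S, U) (hV.primeIdealOf ⟨x, hxV⟩).asIdeal :=
    hx.quasiFiniteAt hV hU hUV hxV
  obtain ⟨R, _, _, _, P, _, _, e, _, P', _, _, hP', heP', hbij, _, huniq⟩ :=
    Algebra.exists_etale_isIdempotentElem_forall_liesOver_eq
    (hU.primeIdealOf ⟨f x, hxU⟩).asIdeal (hV.primeIdealOf ⟨x, hxV⟩).asIdeal
  have : (algebraMap R (Localization.Away e)).Finite := RingHom.finite_algebraMap.mpr ‹_›
  let φ : Γ(S, U) ⟶ .of R := CommRingCat.ofHom <| algebraMap Γ(S, U) R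
  have hφ : φ.hom.Etale := RingHom.etale_algebraMap.mpr ‹_›
  have : Etale (Spec.map φ) := HasRingHomProperty.Spec_iff.mpr hφ
  let e₁ : Spec (.of (R ⊗ Γ(X, V))) ≅ pullback (Spec.map (f.appLE U V hUV)) (Spec.map φ) :=
    (pullbackSpecIso _ _ _).symm ≪≫ pullbackSymmetry _ _
  have he₁ : e₁.hom ≫ pullback.fst _ _ =
      Spec.map (CommRingCat.ofHom Algebra.TensorProduct.includeRight.toRingHom) := by
    dsimp [e₁, RingHom.algebraMap_toAlgebra]
    rw [Category.assoc, pullbackSymmetry_hom_comp_fst]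
    exact pullbackSpecIso_inv_snd ..
  have he₁' : e₁.hom ≫ pullback.snd _ _ =
      Spec.map (CommRingCat.ofHom Algebra.TensorProduct.includeLeftRingHom) := by
    dsimp [e₁, RingHom.algebraMap_toAlgebra]
    rw [Category.assoc, pullbackSymmetry_hom_comp_snd]
    exact pullbackSpecIso_inv_fst ..
  let g : Spec (.of (R ⊗[Γ(S, U)] Γ(X, V))) ⟶ pullback f (Spec.map φ ≫ hU.fromSpec) :=
    e₁.hom ≫ pullback.map _ _ _ _ hV.fromSpec (𝟙 _) hU.fromSpec
      (IsAffineOpen.SpecMap_appLE_fromSpec ..) (by simp)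
  let W₁ := g ''ᵁ PrimeSpectrum.basicOpen e
  have : IsFinite (W₁.ι ≫ pullback.snd f _) := by
    let ι : Spec (.of (Localization.Away e)) ⟶ pullback f (Spec.map φ ≫ hU.fromSpec) :=
      Spec.map (CommRingCat.ofHom <| algebraMap _ _) ≫ g
    have : ι.opensRange = W₁ := by
      simp only [Scheme.Hom.opensRange_comp, ι, W₁]
      congr 1
      exact TopologicalSpace.Opens.ext <| PrimeSpectrum.localization_away_comap_range _ _
    rw [← this, ← MorphismProperty.cancel_left_of_respectsIso @IsFinite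
      (Scheme.Hom.isoOpensRange _).hom]
    have H : (pullbackSpecIso _ R _).inv ≫ pullback.fst _ (Spec.map (f.appLE U V hUV)) = _ :=
      pullbackSpecIso_inv_fst ..
    simpa [Scheme.Hom.isoOpensRange, ι, g, e₁, RingHom.algebraMap_toAlgebra, φ, H,
      ← Spec.map_comp, IsFinite.SpecMap_iff]
  refine ⟨Spec (.of R), Spec.map φ ≫ hU.fromSpec, ⟨P, ‹_›⟩, inferInstance, ?_, ?_, W₁, ‹_›, ?_⟩
  rotate_left
  · refine Groth.Agent.Lib.Helper20.ResFld.bijective_residueFieldMap_comp _ _ _ ?_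
      (Groth.Agent.Lib.Helper20.ResFld.bijective_residueFieldMap_of_isOpenImmersion _ _)
    exact Groth.Agent.Lib.Helper20.ResFld.bijective_residueFieldMap_SpecMap φ ⟨P, ‹_›⟩
      (hU.primeIdealOf ⟨f x, hxU⟩).asIdeal (P.over_def _) hbij
  rotate_right
  · dsimp [Spec.map_apply]
    convert! hU.fromSpec_primeIdealOf ⟨f x, hxU⟩
    · exact PrimeSpectrum.ext (Ideal.over_def _ _).symm
    · simp [h]
  · intro w hw
    have hg1 : g ≫ pullback.fst f _ =
        Spec.map (CommRingCat.ofHom Algebra.TensorProduct.includeRight.toRingHom) ≫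
          hV.fromSpec := by
      simp only [g, Category.assoc, pullback.map, pullback.lift_fst]
      rw [← Category.assoc, he₁]
    have hg2 : g ≫ pullback.snd f _ =
        Spec.map (CommRingCat.ofHom Algebra.TensorProduct.includeLeftRingHom) := by
      simp only [g, Category.assoc, pullback.map, pullback.lift_snd, Category.comp_id]
      exact he₁'
    have key : ∀ 𝔓 : Spec (.of (R ⊗[Γ(S, U)] Γ(X, V))),
        pullback.snd f _ (g 𝔓) = ⟨P, ‹_›⟩ → 𝔓.asIdeal.LiesOver P := by
      intro 𝔓 h𝔓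
      rw [← Scheme.Hom.comp_apply, hg2] at h𝔓
      exact ⟨congr(($h𝔓).asIdeal).symm⟩
    have hfst : ∀ 𝔓 : Spec (.of (R ⊗[Γ(S, U)] Γ(X, V))),
        pullback.fst f _ (g 𝔓) = hV.fromSpec
          ⟨𝔓.asIdeal.comap Algebra.TensorProduct.includeRight.toRingHom, inferInstance⟩ := by
      intro 𝔓
      rw [← Scheme.Hom.comp_apply, hg1]
      rfl
    constructor
    · rintro ⟨𝔓, h𝔓e, rfl⟩
      have hlo := key 𝔓 hw
      have h𝔓P' : 𝔓.asIdeal = P' := huniq 𝔓.asIdeal 𝔓.isPrime hlo h𝔓e
      refine (hfst 𝔓).trans ?_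
      convert! hV.fromSpec_primeIdealOf ⟨x, hxV⟩
      rw [h𝔓P', hP']
    · intro hwx
      have hwr : w ∈ Set.range g := by
        have hr : Set.range g = Set.range (pullback.map (Spec.map (f.appLE U V hUV)) (Spec.map φ) f
            (Spec.map φ ≫ hU.fromSpec) hV.fromSpec (𝟙 _) hU.fromSpec
            (IsAffineOpen.SpecMap_appLE_fromSpec ..) (by simp)) := by
          simp only [g, Scheme.Hom.comp_base, TopCat.hom_comp, ContinuousMap.coe_comp]
          rw [Set.range_comp]
          have hsurj : Set.range ⇑(TopCat.Hom.hom e₁.hom.base) = Set.univ :=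
            Set.range_eq_univ.mpr e₁.hom.homeomorph.surjective
          rw [hsurj, Set.image_univ]
        rw [hr, Scheme.Pullback.range_map]
        refine ⟨?_, by simp⟩
        change pullback.fst f _ w ∈ Set.range hV.fromSpec
        rw [hwx, hV.range_fromSpec]
        exact hxV
      obtain ⟨𝔓, rfl⟩ := hwr
      refine ⟨𝔓, ?_, rfl⟩
      have hlo := key 𝔓 hw
      have hinj : (⟨𝔓.asIdeal.comap Algebra.TensorProduct.includeRight.toRingHom, inferInstance⟩ :
          PrimeSpectrum Γ(X, V)) = hV.primeIdealOf ⟨x, hxV⟩ := by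
        apply hV.fromSpec.isOpenEmbedding.injective
        rw [hV.fromSpec_primeIdealOf ⟨x, hxV⟩]
        exact (hfst 𝔓).symm.trans hwx
      have hcomap : 𝔓.asIdeal.comap Algebra.TensorProduct.includeRight.toRingHom =
          P'.comap Algebra.TensorProduct.includeRight.toRingHom := by
        rw [hP']
        exact congr(($hinj).asIdeal)
      have := 𝔓.isPrime
      have h𝔓P' : 𝔓.asIdeal = P' :=
        Ideal.eq_of_comap_eq_comap_of_bijective_residueFieldMap hbij 𝔓.asIdeal P' hcomap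
      change e ∉ 𝔓.asIdeal
      rw [h𝔓P']
      exact heP'

open Groth.Agent.Lib.R2H4.QFRefine

variable {S₁ S : Scheme.{u}}

set_option maxHeartbeats 1600000 in
/-- variant of `main1379'` keeping a point of the étale neighbourhood over `s` with trivial
residue field extension -/
theorem main1379res (g : S₁ ⟶ S) [Flat g] [LocallyOfFinitePresentation g] (s : S)
    (hs : s ∈ Set.range g) :
    ∃ (S' V : Scheme.{u}) (e : S' ⟶ S) (π : V ⟶ S') (r : V ⟶ S₁), Etale e ∧
      (∃ y : S', e y = s ∧ Function.Bijective (e.residueFieldMap y)) ∧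
      Surjective π ∧ IsFinite π ∧ Flat π ∧ LocallyOfFinitePresentation π ∧ r ≫ g = π ≫ e := by
  obtain ⟨x, hxs, hxcm, hxcl⟩ := exists_cm_closed_point g s hs
  obtain ⟨V₀, Z, i, -, ⟨z₀, hz₀⟩, hfl, hlfp, hqf, -⟩ :=
    Groth.Agent.Lib.R2H4.SliceCM.main1349 g x hxcm hxcl
  set w : Z ⟶ S := i ≫ V₀.ι ≫ g with hw
  haveI := hfl
  haveI := hlfp
  haveI := hqf
  have hwz : w z₀ = s := by
    rw [hw, ← Category.assoc, Scheme.Hom.comp_apply, hz₀, hxs]
  obtain ⟨U, e, u, he, heu, hres, VV, hfin, hiff⟩ :=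
    exists_etale_finite_part_res w hwz (w.quasiFiniteAt z₀)
  haveI := he
  haveI := hfin
  set π₀ : ↑VV ⟶ U := VV.ι ≫ pullback.snd w e with hπ₀
  have hopen : IsOpen (Set.range π₀) := π₀.isOpenMap.isOpen_range
  let U' : U.Opens := ⟨Set.range π₀, hopen⟩
  have huU' : u ∈ U' := by
    obtain ⟨p, hp1, hp2⟩ := Scheme.Pullback.exists_preimage_pullback z₀ u (hwz.trans heu.symm)
    have hpV : p ∈ VV := (hiff p hp2).mpr hp1
    refine ⟨⟨p, hpV⟩, ?_⟩
    rw [hπ₀, Scheme.Hom.comp_apply]
    exact hp2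
  refine ⟨↑U', ↑(π₀ ⁻¹ᵁ U'), U'.ι ≫ e, π₀ ∣_ U',
    (π₀ ⁻¹ᵁ U').ι ≫ VV.ι ≫ pullback.fst w e ≫ i ≫ V₀.ι, inferInstance, ?_, ?_,
    inferInstance, inferInstance, inferInstance, ?_⟩
  · have hur : u ∈ Set.range U'.ι := by
      rw [Scheme.Opens.range_ι]
      exact huU'
    obtain ⟨y, hy⟩ := hur
    refine ⟨y, ?_, ?_⟩
    · rw [Scheme.Hom.comp_apply, hy]
      exact heu
    · refine Groth.Agent.Lib.Helper20.ResFld.bijective_residueFieldMap_comp _ _ _
        (Groth.Agent.Lib.Helper20.ResFld.bijective_residueFieldMap_of_isOpenImmersion _ _) ?_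
      rw [hy]
      exact hres
  · refine ⟨fun y => ?_⟩
    have hy : U'.ι y ∈ U' := by
      have : U'.ι y ∈ Set.range U'.ι := ⟨y, rfl⟩
      rwa [Scheme.Opens.range_ι] at this
    obtain ⟨v, hv⟩ := hy
    have hvr : v ∈ Set.range (π₀ ⁻¹ᵁ U').ι := by
      rw [Scheme.Opens.range_ι]
      exact ⟨v, rfl⟩
    obtain ⟨v', hv'⟩ := hvr
    refine ⟨v', ?_⟩
    apply U'.ι.isOpenEmbedding.injective
    rw [← Scheme.Hom.comp_apply, morphismRestrict_ι, Scheme.Hom.comp_apply, hv', hv]
  · simp only [Category.assoc]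
    have e1 : π₀ ∣_ U' ≫ U'.ι ≫ e = (π₀ ⁻¹ᵁ U').ι ≫ VV.ι ≫ pullback.snd w e ≫ e := by
      rw [← Category.assoc, morphismRestrict_ι, Category.assoc, hπ₀, Category.assoc]
    rw [e1, ← pullback.condition]

theorem main19339 {X : Scheme.{u}}
    {ι : Type u} (W : ι → Scheme.{u}) (w : ∀ j, W j ⟶ X)
    (hw : Presieve.ofArrows W w ∈
      Scheme.precoverage (@Flat ⊓ @LocallyOfFinitePresentation ⊓ @QuasiCompact ⊓ @QuasiSeparated) X) :
    ∃ (κ : Type u) (U V : κ → Scheme.{u}) (u : ∀ k, U k ⟶ X) (v : ∀ k, V k ⟶ U k),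
      (∀ k, Etale (u k)) ∧
        (∀ x : X, ∃ (k : κ) (y : U k), (u k).base y = x ∧ IsIso ((u k).residueFieldMap y)) ∧
        (∀ k, IsFinite (v k) ∧ Flat (v k) ∧ Surjective (v k)) ∧
        ∀ k, ∃ (j : ι) (r : V k ⟶ W j), r ≫ w j = v k ≫ u k := by
  rw [Scheme.ofArrows_mem_precoverage_iff] at hw
  obtain ⟨hsurj, hP⟩ := hw
  have hfl : ∀ j, Flat (w j) := fun j => (hP j).1.1.1
  have hfp : ∀ j, LocallyOfFinitePresentation (w j) := fun j => (hP j).1.1.2
  choose j hj using hsurj
  have key : ∀ x : X, ∃ (S' V : Scheme.{u}) (e : S' ⟶ X) (π : V ⟶ S') (r : V ⟶ W (j x)), Etale e ∧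
      (∃ y : S', e y = x ∧ Function.Bijective (e.residueFieldMap y)) ∧
      Surjective π ∧ IsFinite π ∧ Flat π ∧ LocallyOfFinitePresentation π ∧
      r ≫ w (j x) = π ≫ e := fun x => by
    haveI := hfl (j x)
    haveI := hfp (j x)
    exact main1379res (w (j x)) x (hj x)
  choose S' V e π r he hy hπs hπf hπfl hπfp hfac using key
  refine ⟨X, S', V, e, π, he, ?_, fun k => ⟨hπf k, hπfl k, hπs k⟩, fun k => ⟨j k, r k, hfac k⟩⟩
  intro x
  obtain ⟨y, hyx, hbij⟩ := hy x
  exact ⟨x, y, hyx, (ConcreteCategory.isIso_iff_bijective _).mpr hbij⟩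

end Groth.Agent.Lib.R2H4.EtFinPartRes
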