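import Mathlib

set_option autoImplicit false
universe u
open AlgebraicGeometry CategoryTheory Limits Opposite TopologicalSpace

namespace Groth.Agent.Lib.R2H4.FibRankA

variable {K : Type u} [Field K]

/-- Rank only depends on the ring map. -/
lemma rank_eq_of_ringEquiv {A B : Type u} [CommRing A] [CommRing B] (φ : K →+* A) (ψ : K →+* B)
    (e : A ≃+* B) (h : ∀ k, e (φ k) = ψ k) :
    @Module.rank K A _ _ (φ.toAlgebra.toModule) = @Module.rank K B _ _ (ψ.toAlgebra.toModule) := by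
  letI := φ.toAlgebra; letI := ψ.toAlgebra
  refine LinearEquiv.rank_eq
    { e with
      map_smul' := fun k a => ?_ }
  simp only [Algebra.smul_def, RingHom.algebraMap_toAlgebra]
  show e (φ k * a) = ψ k * e a
  rw [map_mul, h]

/-- The structure ring map `K → Γ(Y, V)` induced by `p : Y ⟶ Spec K`. -/
noncomputable def strMap {Y : Scheme.{u}} (p : Y ⟶ Spec (CommRingCat.of K)) (V : Y.Opens) :
    K →+* Γ(Y, V) :=
  ((Scheme.ΓSpecIso (CommRingCat.of K)).inv ≫ p.appTop ≫ Y.presheaf.map (homOfLE le_top).op).hom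

/-- The rank over `K` of the sections over an open. -/
noncomputable def rkO {Y : Scheme.{u}} (p : Y ⟶ Spec (CommRingCat.of K)) (V : Y.Opens) :
    Cardinal.{u} :=
  @Module.rank K Γ(Y, V) _ _ ((strMap p V).toAlgebra.toModule)

/-- The rank over `K` of the global sections. -/
noncomputable def rk {Y : Scheme.{u}} (p : Y ⟶ Spec (CommRingCat.of K)) : Cardinal.{u} :=
  letI := ((Scheme.ΓSpecIso (CommRingCat.of K)).inv ≫ p.appTop).hom.toAlgebra
  Module.rank K (Γ(Y, ⊤) : Type u)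

lemma rk_eq_rkO_top {Y : Scheme.{u}} (p : Y ⟶ Spec (CommRingCat.of K)) : rk p = rkO p ⊤ := by
  unfold rk rkO
  refine rank_eq_of_ringEquiv _ _ (RingEquiv.refl _) fun k => ?_
  simp [strMap]

lemma strMap_res {Y : Scheme.{u}} (p : Y ⟶ Spec (CommRingCat.of K)) {V W : Y.Opens} (h : V ≤ W)
    (k : K) : (Y.presheaf.map (homOfLE h).op).hom (strMap p W k) = strMap p V k := by
  simp only [strMap, CommRingCat.hom_comp, RingHom.comp_apply]
  rw [← RingHom.comp_apply, ← CommRingCat.hom_comp, ← Functor.map_comp]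
  rfl

lemma rk_congr {Y Y' : Scheme.{u}} (p : Y ⟶ Spec (CommRingCat.of K))
    (p' : Y' ⟶ Spec (CommRingCat.of K)) (e : Y ≅ Y') (he : e.hom ≫ p' = p) : rk p = rk p' := by
  unfold rk
  refine (rank_eq_of_ringEquiv _ _ (asIso (e.hom.app ⊤)).commRingCatIsoToRingEquiv
    fun k => ?_).symm
  subst he
  have : ((Scheme.ΓSpecIso (CommRingCat.of K)).inv ≫ p'.appTop) ≫ e.hom.app ⊤ =
      (Scheme.ΓSpecIso (CommRingCat.of K)).inv ≫ (e.hom ≫ p').appTop := by
    simp [Scheme.Hom.comp_appTop, Scheme.Hom.appTop]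
  exact congr($(this).hom k)

lemma rkO_eq_rk_ι {Y : Scheme.{u}} (p : Y ⟶ Spec (CommRingCat.of K)) (V : Y.Opens) :
    rkO p V = rk (V.ι ≫ p) := by
  unfold rk rkO
  refine (rank_eq_of_ringEquiv _ _ V.topIso.commRingCatIsoToRingEquiv fun k => ?_).symm
  have : ((Scheme.ΓSpecIso (CommRingCat.of K)).inv ≫ (V.ι ≫ p).appTop) ≫ V.topIso.hom =
      (Scheme.ΓSpecIso (CommRingCat.of K)).inv ≫ p.appTop ≫ Y.presheaf.map (homOfLE le_top).op := by
    rw [Scheme.Hom.comp_appTop, Category.assoc, Category.assoc]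
    congr 2
    show Y.presheaf.map _ ≫ Y.presheaf.map _ = Y.presheaf.map _
    rw [← Functor.map_comp]
    rfl
  exact congr($(this).hom k)

lemma rkO_add {Y : Scheme.{u}} (p : Y ⟶ Spec (CommRingCat.of K)) (V W : Y.Opens)
    (h : V ⊓ W = ⊥) : rkO p (V ⊔ W) = rkO p V + rkO p W := by
  let e₀ : Γ(Y, V ⊔ W) ≅ CommRingCat.of (Γ(Y, V) × Γ(Y, W)) :=
    (Y.sheaf.isProductOfDisjoint V W h).conePointUniqueUpToIso (CommRingCat.prodFanIsLimit _ _)
  have h1 : e₀.hom ≫ CommRingCat.ofHom (RingHom.fst _ _) = Y.presheaf.map (homOfLE le_sup_left).op :=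
    (Y.sheaf.isProductOfDisjoint V W h).conePointUniqueUpToIso_hom_comp
      (CommRingCat.prodFanIsLimit _ _) ⟨WalkingPair.left⟩
  have h2 : e₀.hom ≫ CommRingCat.ofHom (RingHom.snd _ _) = Y.presheaf.map (homOfLE le_sup_right).op :=
    (Y.sheaf.isProductOfDisjoint V W h).conePointUniqueUpToIso_hom_comp
      (CommRingCat.prodFanIsLimit _ _) ⟨WalkingPair.right⟩
  let e : Γ(Y, V ⊔ W) ≃+* Γ(Y, V) × Γ(Y, W) := e₀.commRingCatIsoToRingEquiv
  have he1 : ∀ s, (e s).1 = (Y.presheaf.map (homOfLE le_sup_left).op).hom s := fun s => by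
    rw [← h1]; rfl
  have he2 : ∀ s, (e s).2 = (Y.presheaf.map (homOfLE le_sup_right).op).hom s := fun s => by
    rw [← h2]; rfl
  unfold rkO
  letI a0 := (strMap p (V ⊔ W)).toAlgebra
  letI a1 := (strMap p V).toAlgebra
  letI a2 := (strMap p W).toAlgebra
  have key : Module.rank K Γ(Y, V ⊔ W) = Module.rank K (Γ(Y, V) × Γ(Y, W)) := by
    refine LinearEquiv.rank_eq
      { e with
        map_smul' := fun k a => ?_ }
    apply Prod.ext
    · show (e (k • a)).1 = k • (e a).1
      rw [he1, he1, Algebra.smul_def, Algebra.smul_def, map_mul]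
      congr 1
      exact strMap_res p le_sup_left k
    · show (e (k • a)).2 = k • (e a).2
      rw [he2, he2, Algebra.smul_def, Algebra.smul_def, map_mul]
      congr 1
      exact strMap_res p le_sup_right k
  rw [key, rank_prod']

end Groth.Agent.Lib.R2H4.FibRankA
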