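import Mathlib
import Groth.Agent.Lib.R2H4FibRankA

set_option autoImplicit false
universe u
open AlgebraicGeometry CategoryTheory Limits Opposite TopologicalSpace

namespace Groth.Agent.Lib.R2H4.FibRankB
open Groth.Agent.Lib.R2H4.FibRankA

variable {K : Type u} [Field K]

lemma rkO_bot {Y : Scheme.{u}} (p : Y ⟶ Spec (CommRingCat.of K)) : rkO p ⊥ = 0 := by
  unfold rkO
  letI := (strMap p ⊥).toAlgebra
  haveI : Subsingleton Γ(Y, ⊥) := by infer_instance
  exact rank_subsingleton' K _

lemma one_le_rkO {Y : Scheme.{u}} (p : Y ⟶ Spec (CommRingCat.of K)) (V : Y.Opens)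
    (hV : (V : Set Y).Nonempty) : 1 ≤ rkO p V := by
  unfold rkO
  letI := (strMap p V).toAlgebra
  haveI : Nonempty V := hV.to_subtype
  haveI : Nontrivial Γ(Y, V) := by infer_instance
  rw [Cardinal.one_le_iff_pos]
  exact rank_pos

lemma rkO_mono {Y : Scheme.{u}} (p : Y ⟶ Spec (CommRingCat.of K)) {V W : Y.Opens} (h : V ≤ W)
    (hV : IsClosed (V : Set Y)) : rkO p V ≤ rkO p W := by
  let V' : Y.Opens := ⟨(V : Set Y)ᶜ, hV.isOpen_compl⟩
  have h1 : W = V ⊔ (W ⊓ V') := by
    ext x
    simp only [Opens.coe_sup, Opens.coe_inf, Set.mem_union, SetLike.mem_coe, Set.mem_inter_iff]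
    constructor
    · intro hx
      by_cases hxV : x ∈ V
      · exact Or.inl hxV
      · exact Or.inr ⟨hx, hxV⟩
    · rintro (hx | ⟨hx, -⟩)
      · exact h hx
      · exact hx
  have h2 : V ⊓ (W ⊓ V') = ⊥ := by
    ext x
    simp only [Opens.coe_inf, Set.mem_inter_iff, SetLike.mem_coe, Opens.coe_bot,
      Set.mem_empty_iff_false, iff_false, not_and]
    intro hx _ hx'
    exact hx' hx
  rw [h1, rkO_add p _ _ h2]
  exact le_self_add

lemma rkO_le_rk {Y : Scheme.{u}} (p : Y ⟶ Spec (CommRingCat.of K)) (V : Y.Opens)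
    (hV : IsClosed (V : Set Y)) : rkO p V ≤ rk p := by
  rw [rk_eq_rkO_top]
  exact rkO_mono p le_top hV

lemma card_le_rkO {Y : Scheme.{u}} [DiscreteTopology Y] (p : Y ⟶ Spec (CommRingCat.of K))
    (F : Finset Y) : (F.card : Cardinal.{u}) ≤ rkO p ⟨(F : Set Y), isOpen_discrete _⟩ := by
  classical
  induction F using Finset.induction_on with
  | empty =>
    simp
  | insert y F hy ih =>
    have h1 : (⟨((insert y F : Finset Y) : Set Y), isOpen_discrete _⟩ : Y.Opens) =
        ⟨{y}, isOpen_discrete _⟩ ⊔ ⟨(F : Set Y), isOpen_discrete _⟩ := by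
      ext x
      simp
    have h2 : (⟨{y}, isOpen_discrete _⟩ : Y.Opens) ⊓ ⟨(F : Set Y), isOpen_discrete _⟩ = ⊥ := by
      ext x
      simp only [Opens.coe_inf, Opens.coe_mk, Set.mem_inter_iff, Set.mem_singleton_iff,
        Finset.mem_coe, Opens.coe_bot, Set.mem_empty_iff_false, iff_false, not_and]
      rintro rfl
      exact hy
    rw [h1, rkO_add p _ _ h2, Finset.card_insert_of_notMem hy, Nat.cast_add, Nat.cast_one, add_comm]
    exact add_le_add (one_le_rkO p _ ⟨y, rfl⟩) ih

/-- Claim A. -/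
lemma le_rk_iff_exists_compact {Y : Scheme.{u}} [DiscreteTopology Y]
    (p : Y ⟶ Spec (CommRingCat.of K)) (d : ℕ) :
    (d : Cardinal.{u}) ≤ rk p ↔ ∃ V : Y.Opens, IsCompact (V : Set Y) ∧ (d : Cardinal.{u}) ≤ rkO p V := by
  constructor
  · intro h
    by_cases hc : CompactSpace Y
    · exact ⟨⊤, by simpa using isCompact_univ, by rwa [← rk_eq_rkO_top]⟩
    · have hinf : Infinite Y := by
        by_contra hfin
        rw [not_infinite_iff_finite] at hfin
        exact hc inferInstance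
      obtain ⟨F, hF⟩ := Infinite.exists_subset_card_eq Y d
      refine ⟨⟨(F : Set Y), isOpen_discrete _⟩, F.finite_toSet.isCompact, ?_⟩
      rw [← hF]
      exact card_le_rkO p F
  · rintro ⟨V, -, hV⟩
    exact hV.trans (rkO_le_rk p V (isClosed_discrete _))

/-- Lemma B: for a finite morphism to the spectrum of a field, `rk` is Mathlib's `finrank`. -/
lemma rk_eq_finrank {Z : Scheme.{u}} (q : Z ⟶ Spec (CommRingCat.of K)) [IsFinite q]
    (x : Spec (CommRingCat.of K)) : rk q = (q.finrank x : Cardinal.{u}) := by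
  haveI : IsAffine Z := isAffine_of_isAffineHom q
  let φ : CommRingCat.of K ⟶ Γ(Z, ⊤) := (Scheme.ΓSpecIso (CommRingCat.of K)).inv ≫ q.appTop
  have hq : q = Z.isoSpec.hom ≫ Spec.map φ := by
    have h1 := Scheme.isoSpec_hom_naturality q
    rw [Scheme.isoSpec_Spec_hom] at h1
    rw [Spec.map_comp, reassoc_of% h1, ← Spec.map_comp, Iso.inv_hom_id, Spec.map_id,
      Category.comp_id]
  have hfin : IsFinite (Spec.map φ) := by
    have : IsFinite (Z.isoSpec.hom ≫ Spec.map φ) := hq ▸ inferInstance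
    exact (MorphismProperty.cancel_left_of_respectsIso @IsFinite _ _).mp this
  have hfin' : φ.hom.Finite := (IsFinite.SpecMap_iff φ).mp hfin
  letI := φ.hom.toAlgebra
  haveI : Module.Finite K Γ(Z, ⊤) := RingHom.finite_algebraMap.mp hfin'
  have h3 : q.finrank x = Module.finrank K Γ(Z, ⊤) := by
    conv_lhs => rw [hq]
    rw [Scheme.Hom.finrank_comp_left_of_isIso]
    have : φ = CommRingCat.ofHom (algebraMap K Γ(Z, ⊤)) := rfl
    rw [this, Scheme.Hom.finrank_SpecMap_algebraMap, Module.rankAtStalk_eq_finrank_of_free]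
    rfl
  rw [h3, Module.finrank_eq_rank]
  rfl

end Groth.Agent.Lib.R2H4.FibRankB
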