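import Mathlib
import Groth.Agent.Lib.R2H4FibRankB

set_option autoImplicit false
universe u
open AlgebraicGeometry CategoryTheory Limits Opposite TopologicalSpace

namespace Groth.Agent.Lib.R2H4.FibRankC
open Groth.Agent.Lib.R2H4.FibRankA Groth.Agent.Lib.R2H4.FibRankB

variable {K : Type u} [Field K]

/-- (P1) restricting to an open commutes with taking the fibre. -/
lemma rkO_preimage_eq {P U : Scheme.{u}} (π : P ⟶ U) (g : Spec (CommRingCat.of K) ⟶ U)
    (V : P.Opens) :
    rkO (pullback.snd π g) ((pullback.fst π g) ⁻¹ᵁ V) = rk (pullback.snd (V.ι ≫ π) g) := by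
  rw [rkO_eq_rk_ι]
  let e : pullback (V.ι ≫ π) g ≅ ↑((pullback.fst π g) ⁻¹ᵁ V) :=
    (pullbackRightPullbackFstIso π g V.ι).symm ≪≫ pullbackSymmetry _ _ ≪≫
      pullbackRestrictIsoRestrict (pullback.fst π g) V
  refine (rk_congr _ _ e ?_).symm
  simp only [Iso.trans_hom, Iso.symm_hom, Category.assoc, e]
  rw [pullbackRestrictIsoRestrict_hom_ι_assoc, pullbackSymmetry_hom_comp_fst_assoc,
    pullbackRightPullbackFstIso_inv_snd_snd]

/-- (P2) transitivity of fibres. -/
lemma rk_pullback_snd_comp {X S U : Scheme.{u}} (f : X ⟶ S) (h : U ⟶ S)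
    (g : Spec (CommRingCat.of K) ⟶ U) :
    rk (pullback.snd (pullback.snd f h) g) = rk (pullback.snd f (g ≫ h)) :=
  rk_congr _ _ (pullbackLeftPullbackSndIso f h g) (pullbackLeftPullbackSndIso_hom_snd f h g)

variable {K' : Type u} [Field K']

/-- K1 -/
lemma rkO_preimage_of_isCompact {Y : Scheme.{u}} (p : Y ⟶ Spec (CommRingCat.of K))
    [LocallyQuasiFinite p] (i : Spec (CommRingCat.of K') ⟶ Spec (CommRingCat.of K))
    (V : Y.Opens) (hV : IsCompact (V : Set Y)) :
    rkO (pullback.snd p i) ((pullback.fst p i) ⁻¹ᵁ V) = rkO p V := by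
  rw [rkO_preimage_eq, rkO_eq_rk_ι]
  haveI : QuasiCompact (V.ι ≫ p) :=
    (HasAffineProperty.iff_of_isAffine (P := @QuasiCompact)).mpr (isCompact_iff_compactSpace.mp hV)
  haveI : IsFinite (V.ι ≫ p) := IsFinite.of_locallyQuasiFinite _
  obtain ⟨x'⟩ : Nonempty (Spec (CommRingCat.of K')) := inferInstance
  rw [rk_eq_finrank _ x', rk_eq_finrank _ (i x'), Scheme.Hom.finrank_pullback_snd]

/-- L3: invariance of the fibre rank under field extension. -/
lemma le_rk_pullback_iff {Y : Scheme.{u}} (p : Y ⟶ Spec (CommRingCat.of K))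
    [LocallyQuasiFinite p] (i : Spec (CommRingCat.of K') ⟶ Spec (CommRingCat.of K)) (d : ℕ) :
    (d : Cardinal.{u}) ≤ rk (pullback.snd p i) ↔ (d : Cardinal.{u}) ≤ rk p := by
  haveI : IsLocallyArtinian Y := IsLocallyArtinian.of_locallyQuasiFinite p
  haveI : IsLocallyArtinian (pullback p i) :=
    IsLocallyArtinian.of_locallyQuasiFinite (pullback.snd p i)
  rw [le_rk_iff_exists_compact, le_rk_iff_exists_compact]
  constructor
  · rintro ⟨V', hV'c, hV'⟩
    let V : Y.Opens := ⟨(pullback.fst p i) '' (V' : Set _), isOpen_discrete _⟩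
    have hVc : IsCompact (V : Set Y) := hV'c.image (pullback.fst p i).continuous
    refine ⟨V, hVc, ?_⟩
    rw [← rkO_preimage_of_isCompact p i V hVc]
    refine hV'.trans (rkO_mono _ ?_ (isClosed_discrete _))
    intro x hx
    exact ⟨x, hx, rfl⟩
  · rintro ⟨V, hVc, hV⟩
    refine ⟨(pullback.fst p i) ⁻¹ᵁ V, ?_, ?_⟩
    · -- compactness of the preimage: it is the underlying space of a finite scheme
      haveI : QuasiCompact (V.ι ≫ p) :=
        (HasAffineProperty.iff_of_isAffine (P := @QuasiCompact)).mpr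
          (isCompact_iff_compactSpace.mp hVc)
      haveI : QuasiCompact (pullback.snd (V.ι ≫ p) i) := inferInstance
      haveI : CompactSpace ↥(pullback (V.ι ≫ p) i) :=
        QuasiCompact.compactSpace_of_compactSpace (pullback.snd (V.ι ≫ p) i)
      let e : pullback (V.ι ≫ p) i ≅ ↑((pullback.fst p i) ⁻¹ᵁ V) :=
        (pullbackRightPullbackFstIso p i V.ι).symm ≪≫ pullbackSymmetry _ _ ≪≫
          pullbackRestrictIsoRestrict (pullback.fst p i) V
      haveI : CompactSpace ↥((pullback.fst p i) ⁻¹ᵁ V) :=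
        e.hom.homeomorph.compactSpace
      exact isCompact_iff_compactSpace.mpr inferInstance
    · rwa [rkO_preimage_of_isCompact p i V hVc]

end Groth.Agent.Lib.R2H4.FibRankC
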