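import Mathlib
import Groth.Agent.Lib.R2H4FibRankC
import Groth.Agent.Lib.R2H4EtFinPartRes

set_option autoImplicit false
universe u
open AlgebraicGeometry CategoryTheory Limits Opposite TopologicalSpace

namespace Groth.Agent.Lib.R2H4.FibRankD
open Groth.Agent.Lib.R2H4.FibRankA Groth.Agent.Lib.R2H4.FibRankB Groth.Agent.Lib.R2H4.FibRankC

/-- The rank of the ring of functions of the fibre of `f` over `s`. -/
noncomputable def fibRk {X S : Scheme.{u}} (f : X ⟶ S) (s : S) : Cardinal.{u} :=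
  rk (K := S.residueField s) (pullback.snd f (S.fromSpecResidueField s))

variable {K : Type u} [Field K]

lemma nonempty_of_one_le_rk {Y : Scheme.{u}} (p : Y ⟶ Spec (CommRingCat.of K)) (h : 1 ≤ rk p) :
    Nonempty Y := by
  by_contra hne
  rw [not_nonempty_iff] at hne
  have : (⊤ : Y.Opens) = ⊥ := by
    ext x
    exact (hne.false x).elim
  rw [rk_eq_rkO_top, this, rkO_bot] at h
  exact absurd h (by simp)

/-- T1 -/
lemma le_rk_iff_le_fibRk {X S : Scheme.{u}} (f : X ⟶ S) [LocallyQuasiFinite f]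
    (g : Spec (CommRingCat.of K) ⟶ S) (x₀ : Spec (CommRingCat.of K)) (d : ℕ) :
    (d : Cardinal.{u}) ≤ rk (pullback.snd f g) ↔ (d : Cardinal.{u}) ≤ fibRk f (g x₀) := by
  obtain ⟨⟨x, φ⟩, rfl⟩ := (Scheme.SpecToEquivOfField K S).symm.surjective g
  have hx : (Spec.map φ ≫ S.fromSpecResidueField x) x₀ = x := by
    simp
  change (d : Cardinal.{u}) ≤ rk (pullback.snd f (Spec.map φ ≫ S.fromSpecResidueField x)) ↔
    (d : Cardinal.{u}) ≤ fibRk f ((Spec.map φ ≫ S.fromSpecResidueField x) x₀)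
  rw [hx, ← rk_pullback_snd_comp f (S.fromSpecResidueField x) (Spec.map φ)]
  exact le_rk_pullback_iff (K := S.residueField x) _ _ d

/-- T4 -/
lemma le_fibRk_pullback_iff {X S U : Scheme.{u}} (f : X ⟶ S) [LocallyQuasiFinite f] (h : U ⟶ S)
    (u : U) (d : ℕ) :
    (d : Cardinal.{u}) ≤ fibRk (pullback.snd f h) u ↔ (d : Cardinal.{u}) ≤ fibRk f (h u) := by
  unfold fibRk
  rw [rk_pullback_snd_comp (K := U.residueField u) f h (U.fromSpecResidueField u)]
  obtain ⟨x₀⟩ : Nonempty (Spec (U.residueField u)) := inferInstance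
  have := le_rk_iff_le_fibRk (K := U.residueField u) f (U.fromSpecResidueField u ≫ h) x₀ d
  have hx : (U.fromSpecResidueField u ≫ h) x₀ = h u := by
    rw [Scheme.Hom.comp_apply, Scheme.fromSpecResidueField_apply]
  rw [hx] at this
  exact this

/-- E1 -/
lemma fibRk_eq_add {P U : Scheme.{u}} (π : P ⟶ U) (V W : P.Opens) (h1 : V ⊓ W = ⊥)
    (h2 : V ⊔ W = ⊤) (u : U) :
    fibRk π u = fibRk (V.ι ≫ π) u + fibRk (W.ι ≫ π) u := by
  unfold fibRk
  rw [rk_eq_rkO_top, ← rkO_preimage_eq, ← rkO_preimage_eq, ← rkO_add]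
  · congr 1
    rw [← Scheme.Hom.preimage_sup, h2]
    rfl
  · rw [← Scheme.Hom.preimage_inf, h1]
    rfl

/-- E2 -/
lemma fibRk_eq_finrank {Z U : Scheme.{u}} (q : Z ⟶ U) [IsFinite q] [Flat q] (u : U) :
    fibRk q u = (q.finrank u : Cardinal.{u}) := by
  unfold fibRk
  obtain ⟨x₀⟩ : Nonempty (Spec (U.residueField u)) := inferInstance
  rw [rk_eq_finrank (K := U.residueField u) _ x₀, Scheme.Hom.finrank_pullback_snd,
    Scheme.fromSpecResidueField_apply]

lemma nat_sub_le_of_le_add (d d₁ : ℕ) (c : Cardinal.{u}) (h : (d : Cardinal.{u}) ≤ d₁ + c) :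
    ((d - d₁ : ℕ) : Cardinal.{u}) ≤ c := by
  rcases lt_or_ge c Cardinal.aleph0 with hc | hc
  · obtain ⟨m, rfl⟩ := Cardinal.lt_aleph0.mp hc
    have : d ≤ d₁ + m := by exact_mod_cast h
    exact_mod_cast (by omega : d - d₁ ≤ m)
  · exact Cardinal.natCast_lt_aleph0.le.trans hc

lemma le_add_of_nat_sub_le (d d₁ : ℕ) (c : Cardinal.{u}) (h : ((d - d₁ : ℕ) : Cardinal.{u}) ≤ c) :
    (d : Cardinal.{u}) ≤ d₁ + c := by
  have h1 : (d : Cardinal.{u}) ≤ ((d₁ + (d - d₁) : ℕ) : Cardinal.{u}) := by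
    exact_mod_cast (by omega : d ≤ d₁ + (d - d₁))
  refine h1.trans ?_
  rw [Nat.cast_add]
  exact add_le_add le_rfl h

end Groth.Agent.Lib.R2H4.FibRankD
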