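import Mathlib
import Groth.Agent.Lib.R2H4FibRankD

set_option autoImplicit false
universe u
open AlgebraicGeometry CategoryTheory Limits Opposite TopologicalSpace

namespace Groth.Agent.Lib.R2H4.FibRankE
open Groth.Agent.Lib.R2H4.FibRankA Groth.Agent.Lib.R2H4.FibRankB Groth.Agent.Lib.R2H4.FibRankC
  Groth.Agent.Lib.R2H4.FibRankD

/-- the étale-local decomposition, packaged -/
lemma exists_etale_split {X S : Scheme.{u}} (f : X ⟶ S) [LocallyOfFiniteType f] [IsSeparated f]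
    [LocallyQuasiFinite f] (x : X) :
    ∃ (U : Scheme.{u}) (h : U ⟶ S) (u : U), Etale h ∧ h u = f x ∧
    ∃ (V W : (pullback f h).Opens), V ⊓ W = ⊥ ∧ V ⊔ W = ⊤ ∧
      IsFinite (V.ι ≫ pullback.snd f h) ∧ ∃ v : V, (V.ι ≫ pullback.snd f h) v = u := by
  obtain ⟨U, h, u, hét, hu, -, V, hVfin, hV⟩ :=
    Groth.Agent.Lib.R2H4.EtFinPartRes.exists_etale_finite_part_res f (x := x) rfl (f.quasiFiniteAt x)
  haveI : IsFinite V.ι := .of_comp _ (pullback.snd f h)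
  have hcl : IsClosed (SetLike.coe V) := by
    have := V.ι.isClosedMap.isClosed_range
    rwa [Scheme.Opens.range_ι] at this
  let W : (pullback f h).Opens := ⟨(SetLike.coe V)ᶜ, hcl.isOpen_compl⟩
  obtain ⟨w, hw1, hw2⟩ := Scheme.Pullback.exists_preimage_pullback (f := f) (g := h) x u hu.symm
  refine ⟨U, h, u, hét, hu, V, W, ?_, ?_, hVfin, ⟨w, (hV w hw2).mpr hw1⟩, hw2⟩
  · ext y
    simp [W]
  · ext y
    simp [W]

theorem isOpen_le_fibRk (d : ℕ) : ∀ {X S : Scheme.{u}} (f : X ⟶ S) [Flat f]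
    [LocallyOfFinitePresentation f] [IsSeparated f] [LocallyQuasiFinite f],
    IsOpen {s : S | (d : Cardinal.{u}) ≤ fibRk f s} := by
  induction d using Nat.strong_induction_on with
  | _ d ih =>
  intro X S f _ _ _ _
  rw [isOpen_iff_forall_mem_open]
  intro s hs
  rcases Nat.eq_zero_or_pos d with rfl | hd
  · exact ⟨Set.univ, fun _ _ => by simp, isOpen_univ, Set.mem_univ _⟩
  -- the fibre is nonempty
  have h0 : ((1 : ℕ) : Cardinal.{u}) ≤ (d : Cardinal.{u}) := Nat.cast_le.mpr hd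
  have h1 : (1 : Cardinal.{u}) ≤ fibRk f s := by
    rw [Nat.cast_one] at h0
    exact h0.trans hs
  obtain ⟨y⟩ := nonempty_of_one_le_rk (K := S.residueField s) _ h1
  let x : X := pullback.fst f (S.fromSpecResidueField s) y
  have hx : f x = s := by
    have := congr($(pullback.condition (f := f) (g := S.fromSpecResidueField s)) y)
    rw [Scheme.Hom.comp_apply, Scheme.Hom.comp_apply, Scheme.fromSpecResidueField_apply] at this
    exact this
  obtain ⟨U, h, u, hét, hu, V, W, hVW1, hVW2, hVfin, v, hv⟩ := exists_etale_split f x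
  rw [hx] at hu
  set π := pullback.snd f h with hπ
  have hE : ∀ u' : U, fibRk π u' = ((V.ι ≫ π).finrank u' : Cardinal.{u}) + fibRk (W.ι ≫ π) u' := by
    intro u'
    rw [fibRk_eq_add π V W hVW1 hVW2 u', fibRk_eq_finrank]
  set d₁ := (V.ι ≫ π).finrank u with hd₁
  have hd₁pos : 1 ≤ d₁ := by
    have := Scheme.Hom.one_le_finrank_map (V.ι ≫ π) v
    rwa [hv] at this
  have hU₁ : IsOpen {u' : U | (V.ι ≫ π).finrank u' = d₁} :=
    (Scheme.Hom.isLocallyConstant_finrank (V.ι ≫ π)).isOpen_fiber d₁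
  have hU₂ : IsOpen {u' : U | ((d - d₁ : ℕ) : Cardinal.{u}) ≤ fibRk (W.ι ≫ π) u'} :=
    ih (d - d₁) (by omega) (W.ι ≫ π)
  have hu₂ : u ∈ {u' : U | ((d - d₁ : ℕ) : Cardinal.{u}) ≤ fibRk (W.ι ≫ π) u'} := by
    have h3 : (d : Cardinal.{u}) ≤ fibRk π u := by
      rw [le_fibRk_pullback_iff, hu]
      exact hs
    rw [hE u] at h3
    exact nat_sub_le_of_le_add d d₁ _ h3
  refine ⟨h '' ({u' : U | (V.ι ≫ π).finrank u' = d₁} ∩
    {u' : U | ((d - d₁ : ℕ) : Cardinal.{u}) ≤ fibRk (W.ι ≫ π) u'}), ?_,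
    h.isOpenMap _ (hU₁.inter hU₂), ⟨u, ⟨rfl, hu₂⟩, hu⟩⟩
  rintro _ ⟨u', ⟨hu'1, hu'2⟩, rfl⟩
  show (d : Cardinal.{u}) ≤ fibRk f (h u')
  rw [← le_fibRk_pullback_iff, hE u', hu'1]
  exact le_add_of_nat_sub_le d d₁ _ hu'2

theorem main1449 {X S : Scheme.{u}} (f : X ⟶ S) [Flat f] [LocallyOfFinitePresentation f]
    [IsSeparated f] [LocallyQuasiFinite f] :
    ∃ U : ℕ → S.Opens, Antitone U ∧ U 0 = ⊤ ∧ ∀ (K : Type u) [Field K]
      (g : Spec (CommRingCat.of K) ⟶ S) (d : ℕ),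
      Set.range ⇑g ⊆ (U d : Set ↑S) ↔ (d : Cardinal.{u}) ≤ rk (pullback.snd f g) := by
  refine ⟨fun d => ⟨{s : S | (d : Cardinal.{u}) ≤ fibRk f s}, isOpen_le_fibRk d f⟩, ?_, ?_, ?_⟩
  · intro d d' hdd' s hs
    have hs' : (d' : Cardinal.{u}) ≤ fibRk f s := hs
    exact le_trans (Nat.cast_le.mpr hdd') hs'
  · ext s
    simp
  · intro K _ g d
    constructor
    · intro h
      obtain ⟨x₀⟩ : Nonempty (Spec (CommRingCat.of K)) := inferInstance
      exact (le_rk_iff_le_fibRk f g x₀ d).mpr (h ⟨x₀, rfl⟩)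
    · rintro h _ ⟨x₀, rfl⟩
      exact (le_rk_iff_le_fibRk f g x₀ d).mp h

end Groth.Agent.Lib.R2H4.FibRankE
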