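import Mathlib
import Groth.Prelude.Def_Mor2
import Groth.Agent.Lib.R2H4FibRankE
import Groth.Agent.Lib.Helper2Weight2
import Groth.Agent.Lib.H9QfFin1

set_option autoImplicit false
universe u
open AlgebraicGeometry CategoryTheory Limits Opposite TopologicalSpace

namespace Groth.Agent.Lib.R2H4.FibRankF
open Groth.Agent.Lib.R2H4.FibRankA Groth.Agent.Lib.R2H4.FibRankB Groth.Agent.Lib.R2H4.FibRankC
  Groth.Agent.Lib.R2H4.FibRankD Groth.Agent.Lib.R2H4.FibRankE

/-- the preimage of an open in a base change is the base change of the open. -/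
noncomputable def preimageIso {P U U' : Scheme.{u}} (π : P ⟶ U) (g : U' ⟶ U) (V : P.Opens) :
    pullback (V.ι ≫ π) g ≅ ↑((pullback.fst π g) ⁻¹ᵁ V) :=
  (pullbackRightPullbackFstIso π g V.ι).symm ≪≫ pullbackSymmetry _ _ ≪≫
    pullbackRestrictIsoRestrict (pullback.fst π g) V

lemma preimageIso_hom_ι_snd {P U U' : Scheme.{u}} (π : P ⟶ U) (g : U' ⟶ U) (V : P.Opens) :
    (preimageIso π g V).hom ≫ ((pullback.fst π g) ⁻¹ᵁ V).ι ≫ pullback.snd π g =
      pullback.snd (V.ι ≫ π) g := by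
  simp only [preimageIso, Iso.trans_hom, Iso.symm_hom, Category.assoc]
  rw [pullbackRestrictIsoRestrict_hom_ι_assoc, pullbackSymmetry_hom_comp_fst_assoc,
    pullbackRightPullbackFstIso_inv_snd_snd]

lemma card_eq_of_forall_nat (c : Cardinal.{u}) (r : ℕ)
    (h : ∀ d : ℕ, (d : Cardinal.{u}) ≤ c ↔ d ≤ r) : c = r := by
  have hc : c < Cardinal.aleph0 := by
    by_contra hc
    rw [not_lt] at hc
    have := (h (r + 1)).mp (Cardinal.natCast_lt_aleph0.le.trans hc)
    omega
  obtain ⟨m, rfl⟩ := Cardinal.lt_aleph0.mp hc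
  have h1 : m ≤ r := (h m).mp le_rfl
  have h2 : r ≤ m := by exact_mod_cast (h r).mpr le_rfl
  exact_mod_cast le_antisymm h1 h2

lemma fibRk_pullback_eq {X S U : Scheme.{u}} (f : X ⟶ S) [LocallyQuasiFinite f] (h : U ⟶ S)
    (u : U) (r : ℕ) (hr : fibRk f (h u) = r) : fibRk (pullback.snd f h) u = r := by
  apply card_eq_of_forall_nat
  intro d
  rw [le_fibRk_pullback_iff, hr]
  exact Nat.cast_le

lemma fibRk_eq_of_pullback_eq {X S U : Scheme.{u}} (f : X ⟶ S) [LocallyQuasiFinite f] (h : U ⟶ S)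
    (u : U) (r : ℕ) (hr : fibRk (pullback.snd f h) u = r) : fibRk f (h u) = r := by
  apply card_eq_of_forall_nat
  intro d
  rw [← le_fibRk_pullback_iff, hr]
  exact Nat.cast_le

lemma one_le_fibRk {P T : Scheme.{u}} (π : P ⟶ T) (x : P) : 1 ≤ fibRk π (π x) := by
  obtain ⟨x₀⟩ : Nonempty (Spec (T.residueField (π x))) := inferInstance
  obtain ⟨w, hw1, hw2⟩ := Scheme.Pullback.exists_preimage_pullback (f := π)
    (g := T.fromSpecResidueField (π x)) x x₀ (by rw [Scheme.fromSpecResidueField_apply])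
  unfold fibRk
  rw [rk_eq_rkO_top]
  exact one_le_rkO (K := T.residueField (π x)) _ ⊤ ⟨w, trivial⟩

lemma nonempty_fibre_of_one_le_fibRk {P T : Scheme.{u}} (π : P ⟶ T) (t : T)
    (h : 1 ≤ fibRk π t) : ∃ x : P, π x = t := by
  obtain ⟨y⟩ := nonempty_of_one_le_rk (K := T.residueField t) _ h
  refine ⟨pullback.fst π (T.fromSpecResidueField t) y, ?_⟩
  have := congr($(pullback.condition (f := π) (g := T.fromSpecResidueField t)) y)
  rw [Scheme.Hom.comp_apply, Scheme.Hom.comp_apply, Scheme.fromSpecResidueField_apply] at this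
  exact this

lemma eq_sub_of_cast_eq_add (r d₁ : ℕ) (c : Cardinal.{u}) (h : (r : Cardinal.{u}) = d₁ + c) :
    c = ((r - d₁ : ℕ) : Cardinal.{u}) := by
  have hc : c < Cardinal.aleph0 := by
    refine lt_of_le_of_lt ?_ (Cardinal.natCast_lt_aleph0 (n := r))
    rw [h]
    exact le_add_self
  obtain ⟨m, rfl⟩ := Cardinal.lt_aleph0.mp hc
  have : r = d₁ + m := by exact_mod_cast h
  exact_mod_cast (by omega : m = r - d₁)

theorem isFinite_of_fibRk_const (r : ℕ) : ∀ {P T : Scheme.{u}} (π : P ⟶ T) [Flat π]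
    [LocallyOfFinitePresentation π] [IsSeparated π] [LocallyQuasiFinite π],
    (∀ t, fibRk π t = r) → IsFinite π := by
  induction r using Nat.strong_induction_on with
  | _ r ih =>
  intro P T π _ _ _ _ hr
  rcases Nat.eq_zero_or_pos r with rfl | hrpos
  · haveI : IsEmpty P := ⟨fun x => by
      have := one_le_fibRk π x
      rw [hr] at this
      simp at this⟩
    infer_instance
  apply Groth.Agent.Lib.Helper2.Weight.isFinite_of_etale_local
  intro t
  obtain ⟨x, hx⟩ := nonempty_fibre_of_one_le_fibRk π t (by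
    rw [hr]; exact_mod_cast hrpos)
  obtain ⟨U, h, u, hét, hu, V, W, hVW1, hVW2, hVfin, v, hv⟩ := exists_etale_split π x
  rw [hx] at hu
  set πU := pullback.snd π h with hπU
  have hWc : ∀ y, y ∈ W ↔ y ∉ V := fun y =>
    ⟨fun hW hV => by
      have : y ∈ V ⊓ W := ⟨hV, hW⟩
      rw [hVW1] at this
      exact this,
    fun hV => by
      have : y ∈ V ⊔ W := by rw [hVW2]; trivial
      exact this.resolve_left hV⟩
  have hrU : ∀ u', fibRk πU u' = r := fun u' => fibRk_pullback_eq π h u' r (hr _)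
  have hE : ∀ u' : U, fibRk πU u' =
      ((V.ι ≫ πU).finrank u' : Cardinal.{u}) + fibRk (W.ι ≫ πU) u' := by
    intro u'
    rw [fibRk_eq_add πU V W hVW1 hVW2 u', fibRk_eq_finrank]
  set d₁ := (V.ι ≫ πU).finrank u with hd₁
  have hd₁pos : 1 ≤ d₁ := by
    have := Scheme.Hom.one_le_finrank_map (V.ι ≫ πU) v
    rwa [hv] at this
  have hd₁le : d₁ ≤ r := by
    have h1 := hE u
    rw [hrU, ← hd₁] at h1
    have : (d₁ : Cardinal.{u}) ≤ r := by rw [h1]; exact le_self_add
    exact_mod_cast this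
  let U₁ : U.Opens := ⟨{u' : U | (V.ι ≫ πU).finrank u' = d₁},
    (Scheme.Hom.isLocallyConstant_finrank (V.ι ≫ πU)).isOpen_fiber d₁⟩
  have hu₁ : u ∈ U₁ := rfl
  have hW : ∀ u' ∈ U₁, fibRk (W.ι ≫ πU) u' = ((r - d₁ : ℕ) : Cardinal.{u}) := by
    intro u' hu'
    have h1 := hE u'
    rw [hrU, show (V.ι ≫ πU).finrank u' = d₁ from hu'] at h1
    exact eq_sub_of_cast_eq_add r d₁ _ h1
  have hρ : ∀ u'' : U₁, fibRk (pullback.snd (W.ι ≫ πU) U₁.ι) u'' = ((r - d₁ : ℕ) : Cardinal.{u}) :=
    fun u'' => fibRk_pullback_eq (W.ι ≫ πU) U₁.ι u'' _ (hW _ u''.2)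
  have hρfin : IsFinite (pullback.snd (W.ι ≫ πU) U₁.ι) :=
    ih (r - d₁) (by omega) _ hρ
  have hVfin' : IsFinite (pullback.snd (V.ι ≫ πU) U₁.ι) := inferInstance
  have key : IsFinite (pullback.snd πU U₁.ι) := by
    let O : Bool → (pullback πU U₁.ι).Opens := fun b =>
      bif b then (pullback.fst πU U₁.ι) ⁻¹ᵁ V else (pullback.fst πU U₁.ι) ⁻¹ᵁ W
    have hcompl : ∀ y : ↥(pullback πU U₁.ι), y ∈ O false ↔ y ∉ O true := fun y => hWc _
    refine Groth.Agent.Lib.H9QfFin1.isFinite_of_clopen_cover (ι := Bool) _ (fun b => ↑(O b))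
      (fun b => (O b).ι) ?_ ?_ ?_
    · intro b
      rw [Scheme.Opens.range_ι]
      rw [← isOpen_compl_iff]
      cases b
      · have : (SetLike.coe (O false))ᶜ = SetLike.coe (O true) := by
          ext y
          simp only [Set.mem_compl_iff, SetLike.mem_coe]
          rw [hcompl]
          exact not_not
        rw [this]
        exact (O true).2
      · have : (SetLike.coe (O true))ᶜ = SetLike.coe (O false) := by
          ext y
          simp only [Set.mem_compl_iff, SetLike.mem_coe]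
          rw [hcompl]
        rw [this]
        exact (O false).2
    · intro y
      by_cases hy : y ∈ O true
      · exact ⟨true, by rw [Scheme.Opens.range_ι]; exact hy⟩
      · exact ⟨false, by rw [Scheme.Opens.range_ι]; exact (hcompl y).mpr hy⟩
    · intro b
      cases b
      · show IsFinite (((pullback.fst πU U₁.ι) ⁻¹ᵁ W).ι ≫ pullback.snd πU U₁.ι)
        rw [← MorphismProperty.cancel_left_of_respectsIso @IsFinite (preimageIso πU U₁.ι W).hom,
          preimageIso_hom_ι_snd]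
        exact hρfin
      · show IsFinite (((pullback.fst πU U₁.ι) ⁻¹ᵁ V).ι ≫ pullback.snd πU U₁.ι)
        rw [← MorphismProperty.cancel_left_of_respectsIso @IsFinite (preimageIso πU U₁.ι V).hom,
          preimageIso_hom_ι_snd]
        exact hVfin'
  refine ⟨U₁, U₁.ι ≫ h, inferInstance, ⟨⟨u, hu₁⟩, by
    rw [Scheme.Hom.comp_apply]; exact hu⟩, ?_⟩
  rw [← pullbackLeftPullbackSndIso_hom_snd π h U₁.ι] at key
  exact (MorphismProperty.cancel_left_of_respectsIso @IsFinite _ _).mp key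

theorem main1447 {X S : Scheme.{u}} (f : X ⟶ S) [Flat f] [LocallyOfFinitePresentation f]
    [IsSeparated f] [LocallyQuasiFinite f] (n : ℕ)
    (hn : ∀ (K : Type u) [Field K] (g : Spec (CommRingCat.of K) ⟶ S),
      rk (pullback.snd f g) ≤ (n : Cardinal.{u})) :
    ∃ deg : ↑S → ℕ, (∀ s, deg s ≤ n) ∧ (∀ r : ℕ, IsClosed {s : ↑S | deg s ≤ r}) ∧
      ∀ (T : Scheme.{u}) (g : T ⟶ S) (r : ℕ),
        Mor2.IsFinLocFreeOfDeg r (pullback.snd f g) ↔ ∀ t : T, deg (g t) = r := by
  have hle : ∀ s, fibRk f s ≤ (n : Cardinal.{u}) := fun s =>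
    hn (S.residueField s) (S.fromSpecResidueField s)
  have hdeg : ∀ s, fibRk f s = ((Cardinal.toNat (fibRk f s) : ℕ) : Cardinal.{u}) := fun s =>
    (Cardinal.cast_toNat_of_lt_aleph0
      (lt_of_le_of_lt (hle s) Cardinal.natCast_lt_aleph0)).symm
  refine ⟨fun s => Cardinal.toNat (fibRk f s), ?_, ?_, ?_⟩
  · intro s
    have := hle s
    rw [hdeg s] at this
    exact_mod_cast this
  · intro r
    rw [← isOpen_compl_iff]
    have : {s : ↑S | Cardinal.toNat (fibRk f s) ≤ r}ᶜ =
        {s : S | ((r + 1 : ℕ) : Cardinal.{u}) ≤ fibRk f s} := by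
      ext s
      simp only [Set.mem_compl_iff, Set.mem_setOf_eq, not_le]
      rw [hdeg s, Nat.cast_le, Cardinal.toNat_natCast]
      exact Iff.rfl
    rw [this]
    exact isOpen_le_fibRk (r + 1) f
  · intro T g r
    constructor
    · rintro ⟨⟨hfin, hflat, hlfp⟩, hrank⟩ t
      have h1 : fibRk (pullback.snd f g) t = (r : Cardinal.{u}) := by
        rw [fibRk_eq_finrank, hrank]
      have h2 := fibRk_eq_of_pullback_eq f g t r h1
      show Cardinal.toNat (fibRk f (g t)) = r
      rw [h2, Cardinal.toNat_natCast]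
    · intro h
      have h1 : ∀ t, fibRk (pullback.snd f g) t = (r : Cardinal.{u}) := fun t => by
        apply fibRk_pullback_eq
        rw [hdeg (g t)]
        exact congrArg _ (h t)
      haveI : IsFinite (pullback.snd f g) := isFinite_of_fibRk_const r _ h1
      refine ⟨⟨inferInstance, inferInstance, inferInstance⟩, fun t => ?_⟩
      have h2 := h1 t
      rw [fibRk_eq_finrank] at h2
      exact_mod_cast h2

end Groth.Agent.Lib.R2H4.FibRankF
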