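import Mathlib
import Groth.Prelude.Def_Mor2
import Groth.Agent.Lib.R2H4FibRankF

set_option autoImplicit false
universe u
open AlgebraicGeometry CategoryTheory Limits Opposite TopologicalSpace

namespace Groth.Agent.Lib.R2H4.FibRankG
open Groth.Agent.Lib.R2H4.FibRankA Groth.Agent.Lib.R2H4.FibRankB Groth.Agent.Lib.R2H4.FibRankC
  Groth.Agent.Lib.R2H4.FibRankD Groth.Agent.Lib.R2H4.FibRankE Groth.Agent.Lib.R2H4.FibRankF

/-- (R1) -/
lemma fibRk_lt_aleph0 {X S : Scheme.{u}} (f : X ⟶ S) [LocallyQuasiFinite f] [QuasiCompact f]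
    (s : S) : fibRk f s < Cardinal.aleph0 := by
  unfold fibRk
  haveI : IsFinite (pullback.snd f (S.fromSpecResidueField s)) :=
    IsFinite.of_locallyQuasiFinite _
  obtain ⟨x₀⟩ : Nonempty (Spec (S.residueField s)) := inferInstance
  rw [rk_eq_finrank (K := S.residueField s) _ x₀]
  exact Cardinal.natCast_lt_aleph0

/-- general stratification statement. -/
theorem strat {X S : Scheme.{u}} (f : X ⟶ S) [Flat f] [LocallyOfFinitePresentation f]
    [IsSeparated f] [LocallyQuasiFinite f] (hfin : ∀ s, fibRk f s < Cardinal.aleph0) :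
    (∀ s, fibRk f s = ((Cardinal.toNat (fibRk f s) : ℕ) : Cardinal.{u})) ∧
    (∀ r : ℕ, IsClosed {s : ↑S | Cardinal.toNat (fibRk f s) ≤ r}) ∧
      ∀ (T : Scheme.{u}) (g : T ⟶ S) (r : ℕ),
        Mor2.IsFinLocFreeOfDeg r (pullback.snd f g) ↔
          ∀ t : T, Cardinal.toNat (fibRk f (g t)) = r := by
  have hdeg : ∀ s, fibRk f s = ((Cardinal.toNat (fibRk f s) : ℕ) : Cardinal.{u}) := fun s =>
    (Cardinal.cast_toNat_of_lt_aleph0 (hfin s)).symm
  refine ⟨hdeg, ?_, ?_⟩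
  · intro r
    rw [← isOpen_compl_iff]
    have : {s : ↑S | Cardinal.toNat (fibRk f s) ≤ r}ᶜ =
        {s : S | ((r + 1 : ℕ) : Cardinal.{u}) ≤ fibRk f s} := by
      ext s
      simp only [Set.mem_compl_iff, Set.mem_setOf_eq, not_le]
      rw [hdeg s, Nat.cast_le, Cardinal.toNat_natCast]
      exact Iff.rfl
    rw [this]
    exact isOpen_le_fibRk (r + 1) f
  · intro T g r
    constructor
    · rintro ⟨⟨hfin, hflat, hlfp⟩, hrank⟩ t
      have h1 : fibRk (pullback.snd f g) t = (r : Cardinal.{u}) := by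
        rw [fibRk_eq_finrank, hrank]
      have h2 := fibRk_eq_of_pullback_eq f g t r h1
      rw [h2, Cardinal.toNat_natCast]
    · intro h
      have h1 : ∀ t, fibRk (pullback.snd f g) t = (r : Cardinal.{u}) := fun t => by
        apply fibRk_pullback_eq
        rw [hdeg (g t)]
        exact congrArg _ (h t)
      haveI : IsFinite (pullback.snd f g) := isFinite_of_fibRk_const r _ h1
      refine ⟨⟨inferInstance, inferInstance, inferInstance⟩, fun t => ?_⟩
      have h2 := h1 t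
      rw [fibRk_eq_finrank] at h2
      exact_mod_cast h2

/-- (R2) local claim. -/
lemma exists_open_isCompact_inter (r : ℕ) (hr : 0 < r)
    (ih : ∀ m < r, ∀ {X S : Scheme.{u}} (f : X ⟶ S) [Flat f] [LocallyOfFinitePresentation f]
      [IsSeparated f] [LocallyQuasiFinite f] [QuasiCompact f] [CompactSpace S],
      IsCompact {s : S | (m : Cardinal.{u}) ≤ fibRk f s})
    {X S : Scheme.{u}} (f : X ⟶ S) [Flat f] [LocallyOfFinitePresentation f]
    [IsSeparated f] [LocallyQuasiFinite f] [QuasiCompact f] (x : X) :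
    ∃ O : Set S, IsOpen O ∧ f x ∈ O ∧ IsCompact ({s : S | (r : Cardinal.{u}) ≤ fibRk f s} ∩ O) := by
  obtain ⟨U, h, u, hét, hu, V, W, hVW1, hVW2, hVfin, v, hv⟩ := exists_etale_split f x
  set πU := pullback.snd f h with hπU
  have hWc : ∀ y, y ∈ W ↔ y ∉ V := fun y =>
    ⟨fun hW hV => by
      have : y ∈ V ⊓ W := ⟨hV, hW⟩
      rw [hVW1] at this
      exact this,
    fun hV => by
      have : y ∈ V ⊔ W := by rw [hVW2]; trivial
      exact this.resolve_left hV⟩
  have hWcl : IsClosed (SetLike.coe W) := by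
    rw [← isOpen_compl_iff]
    have : (SetLike.coe W)ᶜ = SetLike.coe V := by
      ext y
      simp only [Set.mem_compl_iff, SetLike.mem_coe]
      rw [hWc]
      exact not_not
    rw [this]
    exact V.2
  haveI : IsClosedImmersion W.ι :=
    IsClosedImmersion.of_isPreimmersion _ (by rw [Scheme.Opens.range_ι]; exact hWcl)
  have hE : ∀ u' : U, fibRk πU u' =
      ((V.ι ≫ πU).finrank u' : Cardinal.{u}) + fibRk (W.ι ≫ πU) u' := by
    intro u'
    rw [fibRk_eq_add πU V W hVW1 hVW2 u', fibRk_eq_finrank]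
  set d₁ := (V.ι ≫ πU).finrank u with hd₁
  have hd₁pos : 1 ≤ d₁ := by
    have := Scheme.Hom.one_le_finrank_map (V.ι ≫ πU) v
    rwa [hv] at this
  have hU₁ : IsOpen {u' : U | (V.ι ≫ πU).finrank u' = d₁} :=
    (Scheme.Hom.isLocallyConstant_finrank (V.ι ≫ πU)).isOpen_fiber d₁
  obtain ⟨_, ⟨U₀, hU'aff, rfl⟩, huU', hU'le⟩ :=
    U.isBasis_affineOpens.exists_subset_of_mem_open (show u ∈ {u' : U | (V.ι ≫ πU).finrank u' = d₁}
      from rfl) hU₁
  obtain ⟨U', rfl⟩ : ∃ U' : U.Opens, U' = U₀ := ⟨U₀, rfl⟩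
  haveI : CompactSpace ↥(U' : Scheme.{u}) := isCompact_iff_compactSpace.mp hU'aff.isCompact
  have hN := ih (r - d₁) (by omega) (pullback.snd (W.ι ≫ πU) U'.ι)
  have key : ∀ u'' : U', (r : Cardinal.{u}) ≤ fibRk f (h (U'.ι u'')) ↔
      ((r - d₁ : ℕ) : Cardinal.{u}) ≤ fibRk (pullback.snd (W.ι ≫ πU) U'.ι) u'' := by
    intro u''
    rw [le_fibRk_pullback_iff, ← le_fibRk_pullback_iff f h, hE,
      show (V.ι ≫ πU).finrank (U'.ι u'') = d₁ from hU'le u''.2]
    exact ⟨nat_sub_le_of_le_add r d₁ _, le_add_of_nat_sub_le r d₁ _⟩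
  refine ⟨h '' (U' : Set U), h.isOpenMap _ U'.2, ⟨u, huU', hu⟩, ?_⟩
  have : {s : S | (r : Cardinal.{u}) ≤ fibRk f s} ∩ h '' (U' : Set U) =
      (fun u'' : U' => h (U'.ι u'')) ''
        {u'' : U' | ((r - d₁ : ℕ) : Cardinal.{u}) ≤ fibRk (pullback.snd (W.ι ≫ πU) U'.ι) u''} := by
    ext s
    constructor
    · rintro ⟨hs, u', hu', rfl⟩
      exact ⟨⟨u', hu'⟩, (key ⟨u', hu'⟩).mp hs, rfl⟩
    · rintro ⟨u'', hu'', rfl⟩
      exact ⟨(key u'').mpr hu'', U'.ι u'', u''.2, rfl⟩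
  rw [this]
  exact hN.image (h.continuous.comp U'.ι.continuous)

theorem isCompact_le_fibRk (r : ℕ) : ∀ {X S : Scheme.{u}} (f : X ⟶ S) [Flat f]
    [LocallyOfFinitePresentation f] [IsSeparated f] [LocallyQuasiFinite f] [QuasiCompact f]
    [CompactSpace S], IsCompact {s : S | (r : Cardinal.{u}) ≤ fibRk f s} := by
  induction r using Nat.strong_induction_on with
  | _ r ih =>
  intro X S f _ _ _ _ _ _
  rcases Nat.eq_zero_or_pos r with rfl | hr
  · have : {s : S | ((0 : ℕ) : Cardinal.{u}) ≤ fibRk f s} = Set.univ := by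
      ext s; simp
    rw [this]
    exact isCompact_univ
  haveI : CompactSpace X := QuasiCompact.compactSpace_of_compactSpace f
  choose O hO1 hO2 hO3 using fun x => exists_open_isCompact_inter r hr ih f x
  obtain ⟨t, ht⟩ := isCompact_univ.elim_finite_subcover (fun x => f ⁻¹' O x)
    (fun x => (hO1 x).preimage f.continuous) (fun x _ => Set.mem_iUnion.mpr ⟨x, hO2 x⟩)
  have : {s : S | (r : Cardinal.{u}) ≤ fibRk f s} =
      ⋃ x ∈ t, ({s : S | (r : Cardinal.{u}) ≤ fibRk f s} ∩ O x) := by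
    ext s
    simp only [Set.mem_setOf_eq, Set.mem_iUnion, Set.mem_inter_iff, exists_and_left, exists_prop]
    constructor
    · intro hs
      refine ⟨hs, ?_⟩
      have h1 : (1 : Cardinal.{u}) ≤ fibRk f s := by
        have h0 : ((1 : ℕ) : Cardinal.{u}) ≤ (r : Cardinal.{u}) := Nat.cast_le.mpr hr
        rw [Nat.cast_one] at h0
        exact h0.trans hs
      obtain ⟨x, rfl⟩ := nonempty_fibre_of_one_le_fibRk f s h1
      have := ht (Set.mem_univ x)
      simp only [Set.mem_iUnion, Set.mem_preimage, exists_prop] at this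
      exact this
    · rintro ⟨hs, -⟩
      exact hs
  rw [this]
  exact t.finite_toSet.isCompact_biUnion fun x _ => hO3 x

theorem main1448 {X S : Scheme.{u}} (f : X ⟶ S) [Flat f] [LocallyOfFinitePresentation f]
    [IsSeparated f] [LocallyQuasiFinite f] [QuasiCompact f] :
    ∃ deg : ↑S → ℕ, (∀ r : ℕ, IsClosed {s : ↑S | deg s ≤ r}) ∧
      (∀ r : ℕ, IsRetrocompact {s : ↑S | deg s = r}) ∧
      ∀ (T : Scheme.{u}) (g : T ⟶ S) (r : ℕ),
        Mor2.IsFinLocFreeOfDeg r (pullback.snd f g) ↔ ∀ t : T, deg (g t) = r := by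
  obtain ⟨hdeg, hcl, hiff⟩ := strat f (fibRk_lt_aleph0 f)
  refine ⟨fun s => Cardinal.toNat (fibRk f s), hcl, ?_, hiff⟩
  intro r U hUc hUo
  obtain ⟨Uo, rfl⟩ : ∃ Uo : S.Opens, (Uo : Set S) = U := ⟨⟨U, hUo⟩, rfl⟩
  haveI : CompactSpace ↥(Uo : Scheme.{u}) := isCompact_iff_compactSpace.mp hUc
  have hc : IsCompact ({u : Uo | (r : Cardinal.{u}) ≤ fibRk (pullback.snd f Uo.ι) u} ∩
      {u : Uo | ((r + 1 : ℕ) : Cardinal.{u}) ≤ fibRk (pullback.snd f Uo.ι) u}ᶜ) :=
    (isCompact_le_fibRk r (pullback.snd f Uo.ι)).inter_right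
      (isOpen_le_fibRk (r + 1) (pullback.snd f Uo.ι)).isClosed_compl
  have key : ∀ (s : S) (d : ℕ), (d : Cardinal.{u}) ≤ fibRk f s ↔ d ≤ Cardinal.toNat (fibRk f s) := by
    intro s d
    conv_lhs => rw [hdeg s]
    exact Nat.cast_le
  have : {s : ↑S | Cardinal.toNat (fibRk f s) = r} ∩ (Uo : Set S) =
      (fun u : Uo => Uo.ι u) '' ({u : Uo | (r : Cardinal.{u}) ≤ fibRk (pullback.snd f Uo.ι) u} ∩
        {u : Uo | ((r + 1 : ℕ) : Cardinal.{u}) ≤ fibRk (pullback.snd f Uo.ι) u}ᶜ) := by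
    ext s
    constructor
    · rintro ⟨hs, hsU⟩
      refine ⟨⟨s, hsU⟩, ⟨?_, ?_⟩, rfl⟩
      · show (r : Cardinal.{u}) ≤ fibRk (pullback.snd f Uo.ι) ⟨s, hsU⟩
        rw [le_fibRk_pullback_iff]
        show (r : Cardinal.{u}) ≤ fibRk f s
        rw [key]
        exact hs.ge
      · show ¬ ((r + 1 : ℕ) : Cardinal.{u}) ≤ fibRk (pullback.snd f Uo.ι) ⟨s, hsU⟩
        rw [le_fibRk_pullback_iff]
        show ¬ ((r + 1 : ℕ) : Cardinal.{u}) ≤ fibRk f s
        rw [key]
        have : Cardinal.toNat (fibRk f s) = r := hs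
        omega
    · rintro ⟨u, ⟨h1, h2⟩, rfl⟩
      refine ⟨?_, u.2⟩
      have h1' : (r : Cardinal.{u}) ≤ fibRk (pullback.snd f Uo.ι) u := h1
      have h2' : ¬ ((r + 1 : ℕ) : Cardinal.{u}) ≤ fibRk (pullback.snd f Uo.ι) u := h2
      rw [le_fibRk_pullback_iff, key] at h1' h2'
      show Cardinal.toNat (fibRk f (Uo.ι u)) = r
      omega
  rw [this]
  exact hc.image Uo.ι.continuous

end Groth.Agent.Lib.R2H4.FibRankG
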