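import Mathlib
import Groth.Agent.Lib.R2H4FibRankG

/-!
# Quasi-compactness of separated flat quasi-finite morphisms with finite fibres over a
Noetherian base

`h : R ⟶ W` flat, locally of finite presentation, separated, locally quasi-finite with finite
fibres, `W` Noetherian.  Then `R` is quasi-compact.
-/

set_option autoImplicit false
set_option linter.style.haveILetI false
universe u
open AlgebraicGeometry CategoryTheory Limits Opposite TopologicalSpace

namespace Groth.Agent.Lib.H5bQcEtale

open Groth.Agent.Lib.R2H4.FibRankA Groth.Agent.Lib.R2H4.FibRankB Groth.Agent.Lib.R2H4.FibRankC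
  Groth.Agent.Lib.R2H4.FibRankD Groth.Agent.Lib.R2H4.FibRankE Groth.Agent.Lib.R2H4.FibRankF
  Groth.Agent.Lib.R2H4.FibRankG

/-- a locally quasi-finite morphism has finite fibre degree at a point with finite fibre. -/
lemma fibRk_lt_aleph0_of_finite {X S : Scheme.{u}} (f : X ⟶ S) [LocallyQuasiFinite f] (s : S)
    (hfin : (f ⁻¹' {s}).Finite) : fibRk f s < Cardinal.aleph0 := by
  unfold fibRk
  haveI : Finite ↥(f.fiber s) := by
    haveI : Finite ↥(f ⁻¹' {s}) := hfin
    exact Finite.of_equiv _ (f.fiberHomeo s).symm.toEquiv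
  haveI : CompactSpace ↥(pullback f (S.fromSpecResidueField s)) :=
    (inferInstance : CompactSpace ↥(f.fiber s))
  haveI : QuasiCompact (pullback.snd f (S.fromSpecResidueField s)) := inferInstance
  haveI : IsFinite (pullback.snd f (S.fromSpecResidueField s)) :=
    IsFinite.of_locallyQuasiFinite _
  obtain ⟨x₀⟩ : Nonempty (Spec (S.residueField s)) := inferInstance
  rw [rk_eq_finrank (K := S.residueField s) _ x₀]
  exact Cardinal.natCast_lt_aleph0

/-- the bundle of hypotheses (kept as a plain proposition to keep instance search cheap). -/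
def QF {R W : Scheme.{u}} (h : R ⟶ W) : Prop :=
  Flat h ∧ LocallyOfFinitePresentation h ∧ IsSeparated h ∧ LocallyQuasiFinite h

lemma QF.mk' {R W : Scheme.{u}} (h : R ⟶ W) [Flat h] [LocallyOfFinitePresentation h]
    [IsSeparated h] [LocallyQuasiFinite h] : QF h := ⟨‹_›, ‹_›, ‹_›, ‹_›⟩

lemma QF.pullback_snd {R W T : Scheme.{u}} {h : R ⟶ W} (hq : QF h) (g : T ⟶ W) :
    QF (pullback.snd h g) :=
  ⟨MorphismProperty.pullback_snd (P := @Flat) _ _ hq.1,
    MorphismProperty.pullback_snd (P := @LocallyOfFinitePresentation) _ _ hq.2.1,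
    MorphismProperty.pullback_snd (P := @IsSeparated) _ _ hq.2.2.1,
    MorphismProperty.pullback_snd (P := @LocallyQuasiFinite) _ _ hq.2.2.2⟩

lemma QF.strat {R W : Scheme.{u}} {h : R ⟶ W} (hq : QF h)
    (hfin : ∀ s, fibRk h s < Cardinal.aleph0) :
    (∀ s, fibRk h s = ((Cardinal.toNat (fibRk h s) : ℕ) : Cardinal.{u})) ∧
    (∀ r : ℕ, IsClosed {s : ↑W | Cardinal.toNat (fibRk h s) ≤ r}) ∧
      ∀ (T : Scheme.{u}) (g : T ⟶ W) (r : ℕ),
        Mor2.IsFinLocFreeOfDeg r (pullback.snd h g) ↔
          ∀ t : T, Cardinal.toNat (fibRk h (g t)) = r := by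
  obtain ⟨h1, h2, h3, h4⟩ := hq
  exact Groth.Agent.Lib.R2H4.FibRankG.strat h hfin

lemma QF.fibRk_pullback_eq {R W T : Scheme.{u}} {h : R ⟶ W} (hq : QF h) (g : T ⟶ W) (t : T)
    (r : ℕ) (hr : fibRk h (g t) = r) : fibRk (pullback.snd h g) t = r := by
  obtain ⟨h1, h2, h3, h4⟩ := hq
  exact Groth.Agent.Lib.R2H4.FibRankF.fibRk_pullback_eq h g t r hr

lemma compactSpace_of_isFinite {X Y : Scheme.{u}} (f : X ⟶ Y) (hf : IsFinite f)
    (hY : CompactSpace ↥Y) : CompactSpace ↥X :=
  QuasiCompact.compactSpace_of_compactSpace f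

lemma isNoetherian_subscheme {W : Scheme.{u}} (hW : IsNoetherian W) (I : W.IdealSheafData) :
    IsNoetherian I.subscheme := by
  haveI : IsLocallyNoetherian I.subscheme := LocallyOfFiniteType.isLocallyNoetherian I.subschemeι
  haveI : CompactSpace ↥I.subscheme := QuasiCompact.compactSpace_of_compactSpace I.subschemeι
  exact {}

lemma compactSpace_opens {W : Scheme.{u}} (hW : IsNoetherian W) (U : W.Opens) :
    CompactSpace ↥(U : Scheme.{u}) := by
  haveI : NoetherianSpace ↥W := inferInstance
  exact isCompact_iff_compactSpace.1 (NoetherianSpace.isCompact (U : Set ↥W))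

lemma compactSpace_of_isEmpty {R : Scheme.{u}} (hR : IsEmpty ↥R) : CompactSpace ↥R :=
  ⟨by rw [Set.univ_eq_empty_iff.2 hR]; exact isCompact_empty⟩

/-- covering by the preimages of an open and a closed subscheme. -/
lemma compactSpace_of_cover {R W : Scheme.{u}} (h : R ⟶ W) (U : W.Opens) (I : W.IdealSheafData)
    (hUI : (U : Set ↥W) ∪ Set.range I.subschemeι = Set.univ)
    (h1 : CompactSpace ↥(pullback h U.ι)) (h2 : CompactSpace ↥(pullback h I.subschemeι)) :
    CompactSpace ↥R := by
  refine ⟨?_⟩
  have hcov : (Set.univ : Set ↥R) =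
      Set.range (pullback.fst h U.ι) ∪ Set.range (pullback.fst h I.subschemeι) := by
    rw [Scheme.Pullback.range_fst, Scheme.Pullback.range_fst, Scheme.Opens.range_ι,
      ← Set.preimage_union, hUI, Set.preimage_univ]
  rw [hcov]
  exact (isCompact_range (pullback.fst h U.ι).continuous).union
    (isCompact_range (pullback.fst h I.subschemeι).continuous)

lemma range_subschemeι_vanishingIdeal {W : Scheme.{u}} (F : Set ↥W) (hF : IsClosed F) :
    Set.range (Scheme.IdealSheafData.vanishingIdeal (X := W) ⟨F, hF⟩).subschemeι = F := by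
  rw [Scheme.IdealSheafData.range_subschemeι, Scheme.IdealSheafData.coe_support_vanishingIdeal]
  rfl

/-- bounded fibre degree over a Noetherian base implies quasi-compactness. -/
theorem compactSpace_of_fibRk_le_aux (r : ℕ) : ∀ {R W : Scheme.{u}} (h : R ⟶ W), QF h →
    IsNoetherian W → (∀ s, fibRk h s ≤ (r : Cardinal.{u})) → CompactSpace ↥R := by
  induction r using Nat.strong_induction_on with
  | _ r ih =>
  intro R W h hq hW hr
  have hfin : ∀ s, fibRk h s < Cardinal.aleph0 := fun s =>
    lt_of_le_of_lt (hr s) Cardinal.natCast_lt_aleph0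
  obtain ⟨hdeg, hcl, hiff⟩ := hq.strat hfin
  have hle : ∀ s, Cardinal.toNat (fibRk h s) ≤ r := fun s => by
    have := hr s
    rw [hdeg s, Nat.cast_le] at this
    exact this
  rcases Nat.eq_zero_or_pos r with rfl | hrpos
  · -- all fibres are empty
    refine compactSpace_of_isEmpty ⟨fun x => ?_⟩
    have h1 := one_le_fibRk h x
    have h2 := hr (h x)
    have : (1 : Cardinal.{u}) ≤ ((0 : ℕ) : Cardinal.{u}) := h1.trans h2
    simp at this
  · -- the closed locus of smaller degree and its open complement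
    let F : Set ↥W := {s | Cardinal.toNat (fibRk h s) ≤ r - 1}
    have hF : IsClosed F := hcl (r - 1)
    let U : W.Opens := ⟨Fᶜ, hF.isOpen_compl⟩
    -- over `U` the morphism is finite
    have hU : ∀ t : ↥U, Cardinal.toNat (fibRk h (U.ι t)) = r := by
      intro t
      have ht : (U.ι t) ∉ F := by
        have h0 : U.ι t ∈ (U : Set ↥W) := by
          rw [← Scheme.Opens.range_ι]; exact ⟨t, rfl⟩
        exact h0
      have h1 : ¬ Cardinal.toNat (fibRk h (U.ι t)) ≤ r - 1 := ht
      have h2 := hle (U.ι t)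
      omega
    have hfinU : Mor2.IsFinLocFreeOfDeg r (pullback.snd h U.ι) := (hiff _ U.ι r).2 hU
    have hc1 : CompactSpace ↥(pullback h U.ι) :=
      compactSpace_of_isFinite (pullback.snd h U.ι) hfinU.1.1 (compactSpace_opens hW U)
    -- the closed part
    let I : W.IdealSheafData := Scheme.IdealSheafData.vanishingIdeal ⟨F, hF⟩
    have hI : Set.range I.subschemeι = F := range_subschemeι_vanishingIdeal F hF
    have hZ : ∀ z : ↥I.subscheme,
        fibRk (pullback.snd h I.subschemeι) z ≤ ((r - 1 : ℕ) : Cardinal.{u}) := by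
      intro z
      have hz : I.subschemeι z ∈ F := hI ▸ ⟨z, rfl⟩
      have h1 := hq.fibRk_pullback_eq I.subschemeι z _ (hdeg (I.subschemeι z))
      rw [h1, Nat.cast_le]
      exact hz
    have hc2 : CompactSpace ↥(pullback h I.subschemeι) :=
      ih (r - 1) (by omega) (pullback.snd h I.subschemeι) (hq.pullback_snd _)
        (isNoetherian_subscheme hW I) hZ
    refine compactSpace_of_cover h U I ?_ hc1 hc2
    rw [hI]
    exact Set.compl_union_self F

/-- **quasi-compactness**: a flat, locally finitely presented, separated, locally quasi-finite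
morphism with finite fibres to a Noetherian scheme has quasi-compact source. -/
theorem compactSpace_of_finite_fibres {R W : Scheme.{u}} (h : R ⟶ W) [Flat h]
    [LocallyOfFinitePresentation h] [IsSeparated h] [LocallyQuasiFinite h] [IsNoetherian W]
    (hfin : ∀ s : W, (h ⁻¹' {s}).Finite) : CompactSpace ↥R := by
  have hlt : ∀ s, fibRk h s < Cardinal.aleph0 := fun s => fibRk_lt_aleph0_of_finite h s (hfin s)
  have hq : QF h := QF.mk' h
  obtain ⟨hdeg, hcl, -⟩ := hq.strat hlt
  haveI : NoetherianSpace ↥W := inferInstance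
  -- bound the degree by its values at the generic points of the irreducible components
  have hcomp : (irreducibleComponents ↥W).Finite := NoetherianSpace.finite_irreducibleComponents
  have hgen : ∀ Z ∈ irreducibleComponents ↥W, ∃ η : ↥W, IsGenericPoint η Z := fun Z hZ =>
    QuasiSober.sober hZ.1 (isClosed_of_mem_irreducibleComponents Z hZ)
  choose η hη using hgen
  obtain ⟨r, hrmax⟩ : ∃ r : ℕ, ∀ (Z : Set ↥W) (hZ : Z ∈ irreducibleComponents ↥W),
      Cardinal.toNat (fibRk h (η Z hZ)) ≤ r := by
    haveI : Finite ↥(irreducibleComponents ↥W) := hcomp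
    obtain ⟨r, hr⟩ := (Set.finite_range fun Z : ↥(irreducibleComponents ↥W) =>
      Cardinal.toNat (fibRk h (η Z.1 Z.2))).bddAbove
    exact ⟨r, fun Z hZ => hr ⟨⟨Z, hZ⟩, rfl⟩⟩
  refine compactSpace_of_fibRk_le_aux r h hq ‹_› fun s => ?_
  obtain ⟨Z, hZ, hsZ⟩ : ∃ Z ∈ irreducibleComponents ↥W, s ∈ Z := by
    have : s ∈ ⋃₀ irreducibleComponents ↥W := by
      rw [sUnion_irreducibleComponents]; trivial
    exact this
  have hmem : s ∈ {s : ↥W | Cardinal.toNat (fibRk h s) ≤ r} := by
    have hsub : Z ⊆ {s : ↥W | Cardinal.toNat (fibRk h s) ≤ r} := by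
      rw [← (hη Z hZ).def]
      exact (hcl r).closure_subset_iff.2 (Set.singleton_subset_iff.2 (hrmax Z hZ))
    exact hsub hsZ
  rw [hdeg s, Nat.cast_le]
  exact hmem

end Groth.Agent.Lib.H5bQcEtale
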