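import Mathlib
import Groth.Prelude
import Groth.Agent.Lib.H5bDecQs
import Groth.Agent.Lib.H5bQcEtale
import Groth.Agent.Lib.Helper12ResidualFactor
import Groth.Agent.S10265

/-!
# A locally Noetherian decent algebraic space is quasi-separated: the key steps
-/

set_option autoImplicit false
set_option linter.style.haveILetI false
universe u
open CategoryTheory CategoryTheory.Limits AlgebraicGeometry

namespace Groth.Agent.Lib.H5bDecQs

open AlgSp

variable {S : Scheme.{u}}

/-- finite fibres of the projection `W ×_X W' → W` for a decent space `X` and `W'` quasi-compact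
with an étale chart. -/
theorem finite_fibre_fst {X : AlgSp.Space S} (hX : IsDecent X.obj) {W W' R : Over S}
    [CompactSpace ↥W'.left] (a : (yon S).obj W ⟶ X.obj) (b : (yon S).obj W' ⟶ X.obj)
    (hb : RepWith @Etale b) (fst : R ⟶ W) (snd : R ⟶ W')
    (sq : IsPullback ((yon S).map fst) ((yon S).map snd) a b) (w : ↥W.left) :
    (fst.left ⁻¹' {w}).Finite := by
  obtain ⟨p, hp, hm, hq⟩ := hX (Points.ofPt a w)
  let κ : Type u := W.left.residueField w
  let str : Spec (CommRingCat.of κ) ⟶ S := W.left.fromSpecResidueField w ≫ W.hom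
  let ιw : Over.mk str ⟶ W := Over.homMk (W.left.fromSpecResidueField w) rfl
  let c : (yon S).obj (Over.mk str) ⟶ X.obj := (yon S).map ιw ≫ a
  let pt0 : ↥(Over.mk str).left := ((⊥ : PrimeSpectrum κ) : ↥(Spec (CommRingCat.of κ)))
  have hpt0 : ιw.left pt0 = w := Scheme.fromSpecResidueField_apply _ _
  have hc : Points.ofPt c pt0 ∈ Set.range (Points.map p.toHom) := by
    rw [Groth.Agent.S10176.ofPt_map_comp, hpt0, ← hp,
      ← Points.ofPt_toHom p ((⊥ : PrimeSpectrum p.K) : ↥p.pt.left), Points.ofPt_eq_map_ofScheme]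
    exact ⟨_, rfl⟩
  let Z : AlgSp.Space S := ⟨(yon S).obj p.pt, IsAlgSpace.yon_obj _⟩
  let i : Z ⟶ X := ObjectProperty.homMk p.toHom
  haveI : Mono i.hom := hm
  obtain ⟨d, hd⟩ := Groth.Agent.Lib.Helper12.ResidualFactor.exists_factor_fieldPoint i κ str c hc
  obtain ⟨δ, rfl⟩ := (yon S).map_surjective d
  -- the fibre product of the field point with the chart
  obtain ⟨TK, t, pr', sqK⟩ := hq.1 b
  obtain ⟨pr, rfl⟩ := (yon S).map_surjective pr'
  haveI : QuasiCompact t.left := hq.2 _ _ t sqK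
  haveI : CompactSpace ↥TK.left := QuasiCompact.compactSpace_of_compactSpace t.left
  haveI : QuasiSeparatedSpace ↥p.pt.left :=
    (inferInstance : QuasiSeparatedSpace ↥(Spec (CommRingCat.of p.K)))
  haveI : QuasiCompact pr.left := quasiCompact_of_compactSpace _
  -- the fibre product of the residue field point with the chart
  obtain ⟨T, q₂, q₁', sqT⟩ := Functor.relativelyRepresentable.of_diag X.property.diag c b
  obtain ⟨q₁, rfl⟩ := (yon S).map_surjective q₁'
  have hcK : (yon S).map δ ≫ p.toHom = c := hd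
  obtain ⟨ρ, -, hρ⟩ := isPullback_left sqK δ (by rw [hcK]; exact sqT)
  have hprq : RepWith @QuasiCompact ((yon S).map pr) :=
    (repWith_yon_map_iff @QuasiCompact pr).2 ‹_›
  haveI : QuasiCompact q₁.left := hprq.2 _ _ _ hρ.flip
  haveI : CompactSpace ↥(Over.mk str).left :=
    (inferInstance : CompactSpace ↥(Spec (CommRingCat.of κ)))
  haveI : CompactSpace ↥T.left := QuasiCompact.compactSpace_of_compactSpace q₁.left
  -- `q₁` is étale
  obtain ⟨ρ', -, hρ'⟩ := isPullback_left sq ιw sqT
  haveI : Etale fst.left := hb.2 _ _ fst sq.flip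
  have hfe : RepWith @Etale ((yon S).map fst) := (repWith_yon_map_iff @Etale fst).2 ‹_›
  haveI : Etale q₁.left := hfe.2 _ _ _ hρ'.flip
  haveI : LocallyQuasiFinite q₁.left := Groth.Agent.S10265.locallyQuasiFinite_of_unramified _
  have hfin : (Set.univ : Set ↥T.left).Finite := by
    have := q₁.left.finite_preimage_singleton pt0
    refine this.subset (fun y _ => ?_)
    exact (inferInstance : Subsingleton (PrimeSpectrum κ)).elim _ _
  refine (hfin.image ρ'.left).subset ?_
  intro r hr
  have e : Points.ofPt ((yon S).map ιw) pt0 = Points.ofPt ((yon S).map fst) r := by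
    have h1 := Groth.Agent.S10176.ofPt_map_comp ιw (𝟙 ((yon S).obj W)) pt0
    have h2 := Groth.Agent.S10176.ofPt_map_comp fst (𝟙 ((yon S).obj W)) r
    rw [Category.comp_id] at h1 h2
    have hr' : fst.left r = w := hr
    rw [h1, h2, hpt0, hr']
  obtain ⟨y, -, hy⟩ := Groth.Agent.S10176.exists_point_of_isPullback_yon hρ' pt0 r e
  exact ⟨y, trivial, hy⟩

/-- **key case**: the fibre product of a chart from a Noetherian scheme with an étale chart from an
affine scheme over a decent space is quasi-compact. -/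
theorem compactFib_of_noeth {X : AlgSp.Space S} (hX : IsDecent X.obj) {W W' : Over S}
    [IsNoetherian W.left] [IsAffine W'.left] (a : (yon S).obj W ⟶ X.obj)
    (b : (yon S).obj W' ⟶ X.obj) (hb : RepWith @Etale b) : CompactFib a b := by
  obtain ⟨R, snd, fst', sq⟩ := Functor.relativelyRepresentable.of_diag X.property.diag a b
  obtain ⟨fst, rfl⟩ := (yon S).map_surjective fst'
  refine ⟨R, fst, snd, sq, ?_⟩
  haveI : Etale fst.left := hb.2 _ _ fst sq.flip
  haveI : LocallyQuasiFinite fst.left := Groth.Agent.S10265.locallyQuasiFinite_of_unramified _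
  haveI : IsSeparated fst.left := by
    have hmono : Mono (prod.lift fst snd) := (Groth.Agent.S9920.isEqLocus_of_isPullback sq).1
    haveI : Mono (prod.lift fst snd).left := Over.mono_left_of_mono _
    have e : fst.left = (prod.lift fst snd).left ≫ (Over.prodLeftIsoPullback W W').hom ≫
        pullback.fst W.hom W'.hom := by
      rw [Over.prodLeftIsoPullback_hom_fst, ← Over.comp_left, prod.lift_fst]
    rw [e]
    infer_instance
  exact Groth.Agent.Lib.H5bQcEtale.compactSpace_of_finite_fibres fst.left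
    (fun w => finite_fibre_fst hX a b hb fst snd sq w)

/-- **Noetherian affine refinement** of an arbitrary chart from a quasi-compact scheme to a locally
Noetherian space. -/
theorem exists_noeth_cover {X : Sp S} (hN : IsLocNoethSp X) {U : Over S} [CompactSpace ↥U.left]
    (a : (yon S).obj U ⟶ X) :
    ∃ (ι : Type u) (_ : Finite ι) (T W : ι → Over S) (c : ∀ k, T k ⟶ U) (g : ∀ k, T k ⟶ W k)
      (p : ∀ k, (yon S).obj (W k) ⟶ X),
      (∀ k, IsAffine (T k).left) ∧ (∀ k, IsAffine (W k).left) ∧ (∀ k, IsNoetherian (W k).left) ∧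
      (∀ k, RepWith @Etale (p k)) ∧ (∀ k, (yon S).map (c k) ≫ a = (yon S).map (g k) ≫ p k) ∧
      ∀ u : ↥U.left, ∃ k, u ∈ Set.range (c k).left := by
  obtain ⟨W₀, p₀, hpe, hps, hWN⟩ := hN
  obtain ⟨T₀, s, f', sq⟩ := hpe.1 a
  obtain ⟨f, rfl⟩ := (yon S).map_surjective f'
  haveI : Etale s.left := hpe.2 _ _ s sq
  haveI : Surjective s.left := hps.2 _ _ s sq
  haveI : IsLocallyNoetherian W₀.left := hWN
  have key : ∀ t : ↥T₀.left, ∃ (Wt : W₀.left.Opens) (Tt : T₀.left.Opens), IsAffineOpen Wt ∧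
      IsAffineOpen Tt ∧ t ∈ Tt ∧ Tt ≤ f.left ⁻¹ᵁ Wt := by
    intro t
    obtain ⟨Wt, hWt, htW⟩ : ∃ Wt : W₀.left.Opens, IsAffineOpen Wt ∧ f.left t ∈ Wt := by
      obtain ⟨_, ⟨Wt, hWt, rfl⟩, h1, -⟩ := (W₀.left.isBasis_affineOpens).exists_subset_of_mem_open
        (Set.mem_univ (f.left t)) isOpen_univ
      exact ⟨Wt, hWt, h1⟩
    obtain ⟨_, ⟨Tt, hTt, rfl⟩, h1, h2⟩ := (T₀.left.isBasis_affineOpens).exists_subset_of_mem_open
      (show t ∈ ((f.left ⁻¹ᵁ Wt : T₀.left.Opens) : Set ↥T₀.left) from htW) (f.left ⁻¹ᵁ Wt).isOpen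
    exact ⟨Wt, Tt, hWt, hTt, h1, h2⟩
  choose Wt Tt hWt hTt htT hTW using key
  have hopen : ∀ t, IsOpen (s.left '' (Tt t : Set ↥T₀.left)) := fun t =>
    s.left.isOpenMap _ (Tt t).isOpen
  have hcov : (Set.univ : Set ↥U.left) ⊆ ⋃ t, s.left '' (Tt t : Set ↥T₀.left) := by
    intro u _
    obtain ⟨t, rfl⟩ := s.left.surjective u
    exact Set.mem_iUnion.2 ⟨t, t, htT t, rfl⟩
  obtain ⟨F, hF⟩ := isCompact_univ.elim_finite_subcover _ hopen hcov
  -- the data
  let T : ↥F → Over S := fun k => Over.mk ((Tt k.1).ι ≫ T₀.hom)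
  let W : ↥F → Over S := fun k => Over.mk ((Wt k.1).ι ≫ W₀.hom)
  let jT : ∀ k, T k ⟶ T₀ := fun k => Over.homMk (Tt k.1).ι rfl
  let jW : ∀ k, W k ⟶ W₀ := fun k => Over.homMk (Wt k.1).ι rfl
  have hrange : ∀ k : ↥F, Set.range ((Tt k.1).ι ≫ f.left) ⊆ Set.range (Wt k.1).ι := by
    intro k
    rintro _ ⟨y, rfl⟩
    rw [Scheme.Opens.range_ι]
    exact hTW k.1 y.2
  let g₀ : ∀ k : ↥F, (T k).left ⟶ (W k).left := fun k =>
    IsOpenImmersion.lift (Wt k.1).ι ((Tt k.1).ι ≫ f.left) (hrange k)
  have hg₀ : ∀ k, g₀ k ≫ (Wt k.1).ι = (Tt k.1).ι ≫ f.left := fun k =>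
    IsOpenImmersion.lift_fac _ _ _
  let g : ∀ k, T k ⟶ W k := fun k => Over.homMk (g₀ k) (by
    change g₀ k ≫ (Wt k.1).ι ≫ W₀.hom = (Tt k.1).ι ≫ T₀.hom
    rw [← Category.assoc, hg₀ k, Category.assoc, Over.w f])
  have hgj : ∀ k, g k ≫ jW k = jT k ≫ f := fun k => by
    apply Over.OverMorphism.ext
    exact hg₀ k
  refine ⟨↥F, inferInstance, T, W, fun k => jT k ≫ s, g, fun k => (yon S).map (jW k) ≫ p₀,
    fun k => hTt k.1, fun k => hWt k.1, fun k => ?_, fun k => ?_, fun k => ?_, fun u => ?_⟩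
  · haveI : IsAffine ((W k).left) := hWt k.1
    haveI : IsLocallyNoetherian (W k).left :=
      LocallyOfFiniteType.isLocallyNoetherian (Wt k.1).ι
    exact {}
  · have h1 : RepWith @Etale ((yon S).map (jW k)) :=
      (repWith_yon_map_iff @Etale (jW k)).2 (inferInstance : Etale (Wt k.1).ι)
    exact MorphismProperty.comp_mem _ _ _ h1 hpe
  · rw [Functor.map_comp, Category.assoc, ← sq.w, ← Category.assoc, ← Functor.map_comp,
      ← hgj k, Functor.map_comp, Category.assoc]
  · obtain ⟨t, htF, y, hy, rfl⟩ : ∃ t ∈ F, u ∈ s.left '' (Tt t : Set ↥T₀.left) := by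
      have := hF (Set.mem_univ u)
      simpa only [Set.mem_iUnion, exists_prop] using this
    exact ⟨⟨t, htF⟩, ⟨y, hy⟩, rfl⟩

/-- reduction of the first chart to Noetherian affine étale charts. -/
theorem CompactFib.of_locNoeth {X : Sp S}
    (hX : Functor.relativelyRepresentable (yon S) (Limits.diag X)) (hN : IsLocNoethSp X)
    {U V : Over S} [CompactSpace ↥U.left] (a : (yon S).obj U ⟶ X) (b : (yon S).obj V ⟶ X)
    (h : ∀ (W : Over S) (p : (yon S).obj W ⟶ X), IsAffine W.left → IsNoetherian W.left →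
      RepWith @Etale p → CompactFib p b) : CompactFib a b := by
  obtain ⟨ι, _, T, W, c, g, p, hT, hW, hWN, hp, hfac, hcov⟩ := exists_noeth_cover hN a
  refine CompactFib.of_cover hX a b T c hcov fun k => ?_
  rw [hfac k]
  haveI := hT k
  haveI := hW k
  haveI : QuasiCompact (g k).left := inferInstance
  exact CompactFib.precomp hX (p k) b (g k) (h (W k) (p k) (hW k) (hWN k) (hp k))

/-- **main theorem**: for a locally Noetherian decent algebraic space, fibre products of charts from
quasi-compact schemes are quasi-compact. -/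
theorem compactFib_of_locNoeth_of_decent {X : AlgSp.Space S} (hN : IsLocNoethSp X.obj)
    (hX : IsDecent X.obj) {U V : Over S} [CompactSpace ↥U.left] [CompactSpace ↥V.left]
    (a : (yon S).obj U ⟶ X.obj) (b : (yon S).obj V ⟶ X.obj) : CompactFib a b := by
  refine CompactFib.of_locNoeth X.property.diag hN a b fun W p hWa hWn hp => ?_
  refine (CompactFib.of_locNoeth X.property.diag hN b p fun W' p' hWa' hWn' hp' => ?_).flip
  haveI := hWa
  haveI := hWn'
  exact compactFib_of_noeth hX p' p hp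

end Groth.Agent.Lib.H5bDecQs
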