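import Mathlib
import Groth.Prelude.Def_AlgSp
import Groth.Prelude.Def_AlgSp3
import Groth.Prelude.Def_AlgSp4
import Groth.Agent.Lib.H5bBootC
import Groth.Agent.Lib.Helper12ProperLoc

/-!
# Finite = proper + locally quasi-finite, for algebraic spaces (helper5)

* `isFiniteMor_of_proper_lqf`: a proper locally quasi-finite morphism of algebraic spaces is finite
  (it is representable by the theorem on separated locally quasi-finite morphisms, and then
  Zariski's main theorem for schemes applies);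
* `locP_lqf_of_isFiniteMor`, `isFiniteMor_iff_proper_lqf`.
-/

set_option autoImplicit false
set_option linter.style.haveILetI false
set_option linter.unusedSectionVars false
set_option linter.unusedSimpArgs false
set_option linter.unusedVariables false
universe u

open CategoryTheory CategoryTheory.Limits AlgebraicGeometry AlgSp Opposite

namespace Groth.Agent.Lib.H5bFin

open Groth.Agent.Lib.Helper12.LocPCases

variable {S : Scheme.{u}}

theorem isFiniteMor_of_proper_lqf {X Y : AlgSp.Space S} (f : X ⟶ Y)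
    (hp : AlgSp.IsProperMor f.hom)
    (hq : AlgSp.LocP (@LocallyQuasiFinite ⊓ @LocallyOfFiniteType) f.hom) :
    AlgSp.IsFiniteMor f.hom := by
  intro Z hZ g
  have hrep := Groth.Agent.S10260.result f hq hp.1
  obtain ⟨W, i, fst, sq⟩ := hrep g
  have hpi : AlgSp.IsProperMor ((yon S).map i) :=
    Groth.Agent.Lib.Helper12.Proper.isProperMor_baseChange X.property Y.property
      (AlgSp.IsAlgSpace.yon_obj Z) sq hp
  haveI : IsProper i.left := Groth.Agent.Lib.Helper12.ProperLoc.isProper_of_isProperMor_yon_map i hpi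
  haveI : LocallyQuasiFinite i.left :=
    (AlgSp.locP_yon_map (good_lqf.locP_baseChange X.property Y.property
      (AlgSp.IsAlgSpace.yon_obj Z) sq hq)).1
  haveI : IsFinite i.left :=
    (IsFinite.iff_isProper_and_locallyQuasiFinite i.left).2 ⟨inferInstance, inferInstance⟩
  haveI := hZ
  exact ⟨W, i, fst, sq, isAffine_of_isAffineHom i.left, inferInstance⟩

theorem locP_lqf_of_isFiniteMor {X Y : AlgSp.Sp S} (f : X ⟶ Y) (hf : AlgSp.IsFiniteMor f) :
    AlgSp.LocP (@LocallyQuasiFinite ⊓ @LocallyOfFiniteType) f := by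
  intro U V a b h hae hbe hcomm
  -- local on the source
  have key : ∀ u : U.left, ∃ W : U.left.Opens, u ∈ W ∧
      (@LocallyQuasiFinite ⊓ @LocallyOfFiniteType : MorphismProperty Scheme.{u}) (W.ι ≫ h.left) := by
    intro u
    obtain ⟨V₁', hV₁', huV₁', -⟩ :=
      TopologicalSpace.Opens.isBasis_iff_nbhd.mp V.left.isBasis_affineOpens
        (U := ⊤) (x := h.left u) trivial
    obtain ⟨V₁, hV₁, huV₁⟩ : ∃ V₁ : V.left.Opens, IsAffineOpen V₁ ∧ h.left u ∈ V₁ :=
      ⟨V₁', hV₁', huV₁'⟩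
    let Z : Over S := Over.mk (V₁.ι ≫ V.hom)
    let ι : Z ⟶ V := Over.homMk V₁.ι rfl
    haveI : IsAffine Z.left := hV₁
    obtain ⟨W, i, fst, sq, hWa, hfin⟩ := hf (Z := Z) hV₁ ((yon S).map ι ≫ b)
    haveI : IsFinite i.left := hfin
    let U₁ : U.left.Opens := h.left ⁻¹ᵁ V₁
    let Uo : Over S := Over.mk (U₁.ι ≫ U.hom)
    let ιU : Uo ⟶ U := Over.homMk U₁.ι rfl
    have hr : Set.range (U₁.ι ≫ h.left) ⊆ Set.range V₁.ι := by
      rw [Scheme.Opens.range_ι]
      rintro _ ⟨x, rfl⟩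
      exact x.2
    let h₁l : U₁.toScheme ⟶ V₁.toScheme := IsOpenImmersion.lift V₁.ι (U₁.ι ≫ h.left) hr
    have hh₁l : h₁l ≫ V₁.ι = U₁.ι ≫ h.left := IsOpenImmersion.lift_fac _ _ _
    let h₁ : Uo ⟶ Z := Over.homMk h₁l (by
      show h₁l ≫ V₁.ι ≫ V.hom = U₁.ι ≫ U.hom
      rw [← Category.assoc, hh₁l, Category.assoc, Over.w h])
    have hh₁ : h₁ ≫ ι = ιU ≫ h := by
      ext
      exact hh₁l
    have hc : ((yon S).map ιU ≫ a) ≫ f = (yon S).map h₁ ≫ (yon S).map ι ≫ b := by
      rw [Category.assoc, hcomm, ← Category.assoc, ← Functor.map_comp, ← hh₁, Functor.map_comp,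
        Category.assoc]
    obtain ⟨k, hk⟩ := (yon S).map_surjective (sq.lift ((yon S).map ιU ≫ a) ((yon S).map h₁) hc)
    have hk1 : (yon S).map k ≫ fst = (yon S).map ιU ≫ a := by rw [hk, sq.lift_fst]
    have hk2 : k ≫ i = h₁ := (yon S).map_injective (by rw [Functor.map_comp, hk, sq.lift_snd])
    have hιe : AlgSp.RepWith @Etale ((yon S).map ι ≫ b) :=
      (AlgSp.RepWith @Etale).comp_mem _ _
        ((AlgSp.repWith_yon_map_iff _ _).2 (inferInstanceAs (Etale V₁.ι))) hbe
    have hfe : AlgSp.RepWith @Etale fst :=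
      MorphismProperty.of_isPullback (P := AlgSp.RepWith @Etale) sq.flip hιe
    have hae' : AlgSp.RepWith @Etale ((yon S).map ιU ≫ a) :=
      (AlgSp.RepWith @Etale).comp_mem _ _
        ((AlgSp.repWith_yon_map_iff _ _).2 (inferInstanceAs (Etale U₁.ι))) hae
    haveI hke : Etale k.left :=
      Groth.Agent.Lib.Helper12.SrcLocal.etale_of_chart_comp fst _ k hfe hae' hk1
    haveI : LocallyQuasiFinite k.left := (good_lqf.hEt _ hke).1
    refine ⟨U₁, huV₁, ?_⟩
    have e1 : U₁.ι ≫ h.left = (k.left ≫ i.left) ≫ V₁.ι := by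
      rw [← hh₁l]
      congr 1
      exact (congrArg (fun m => m.left) hk2).symm
    rw [e1]
    exact ⟨inferInstance, inferInstance⟩
  choose Wf hWf1 hWf2 using key
  have hcov : iSup Wf = ⊤ := by
    rw [eq_top_iff]
    intro u _
    exact TopologicalSpace.Opens.mem_iSup.2 ⟨u, hWf1 u⟩
  exact ⟨IsZariskiLocalAtSource.of_iSup_eq_top Wf hcov (fun u => (hWf2 u).1),
    IsZariskiLocalAtSource.of_iSup_eq_top Wf hcov (fun u => (hWf2 u).2)⟩

theorem isFiniteMor_iff_proper_lqf {X Y : AlgSp.Space S} (f : X ⟶ Y) :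
    AlgSp.IsFiniteMor f.hom ↔ (AlgSp.IsProperMor f.hom ∧
      AlgSp.LocP (@LocallyQuasiFinite ⊓ @LocallyOfFiniteType) f.hom) :=
  ⟨fun h => ⟨Groth.Agent.Lib.Helper12.ProperLoc.isProperMor_of_isFiniteMor f h,
    locP_lqf_of_isFiniteMor f.hom h⟩, fun h => isFiniteMor_of_proper_lqf f h.1 h.2⟩

end Groth.Agent.Lib.H5bFin
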