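import Mathlib
import Groth.Prelude.Def_AlgSp
import Groth.Prelude.Def_AlgSp3
import Groth.Prelude.Def_AlgSp4
import Groth.Prelude.Def_AlgSpInf
import Groth.Agent.Lib.H5bBootD
import Groth.Agent.S10587

/-!
# Immersions and thickenings (helper5)

* `isImmersion_of_thick`: for a cartesian square of schemes over a thickening `T₀ ⟶ T'`, a
  monomorphism locally of finite type `W' ⟶ T'` whose restriction `W₀ ⟶ T₀` is an immersion is an
  immersion;
* `repWith_isImmersion_of_thick`: the same for algebraic spaces.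
-/

set_option autoImplicit false
set_option linter.style.haveILetI false
set_option linter.unusedSectionVars false
set_option linter.unusedSimpArgs false
set_option linter.unusedVariables false
universe u

open CategoryTheory CategoryTheory.Limits AlgebraicGeometry AlgSp Opposite

namespace Groth.Agent.Lib.H5bThick

variable {S : Scheme.{u}}

theorem isImmersion_of_thick_aux {T' W' T₀ W₀ : Over S} (w' : W' ⟶ T') (t : T₀ ⟶ T')
    (k : W₀ ⟶ W') (w₀ : W₀ ⟶ T₀) (sq : IsPullback k.left w₀.left w'.left t.left)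
    (ht : AlgSp.thick t.left) [Mono w'.left] [LocallyOfFiniteType w'.left]
    (U' : T'.left.Opens) (c₀ : W₀.left ⟶ (t.left ⁻¹ᵁ U').toScheme)
    (hc₀ : c₀ ≫ (t.left ⁻¹ᵁ U').ι = w₀.left) [IsClosedImmersion c₀] :
    IsImmersion w'.left := by
  haveI : IsClosedImmersion t.left := ht.1
  haveI : Surjective t.left := ht.2
  have hk : AlgSp.thick k.left := MorphismProperty.of_isPullback (P := AlgSp.thick) sq.flip ht
  haveI : Surjective k.left := hk.2
  have ht₀ : AlgSp.thick (t.left ∣_ U') :=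
    MorphismProperty.of_isPullback (P := AlgSp.thick) (isPullback_morphismRestrict t.left U').flip ht
  have hr : Set.range w'.left ⊆ Set.range U'.ι := by
    rw [Scheme.Opens.range_ι]
    rintro _ ⟨x, rfl⟩
    obtain ⟨x₀, rfl⟩ := k.left.surjective x
    have e1 : w'.left (k.left x₀) = t.left (w₀.left x₀) := by
      rw [← Scheme.Hom.comp_apply, ← Scheme.Hom.comp_apply, sq.w]
    rw [e1, ← hc₀, Scheme.Hom.comp_apply]
    exact (c₀ x₀).2
  let w'' : W'.left ⟶ U'.toScheme := IsOpenImmersion.lift U'.ι w'.left hr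
  have hw'' : w'' ≫ U'.ι = w'.left := IsOpenImmersion.lift_fac _ _ _
  let Uo' : Over S := Over.mk (U'.ι ≫ T'.hom)
  let Uo₀ : Over S := Over.mk ((t.left ⁻¹ᵁ U').ι ≫ T₀.hom)
  let w''o : W' ⟶ Uo' := Over.homMk w'' (by
    show w'' ≫ U'.ι ≫ T'.hom = W'.hom
    rw [← Category.assoc, hw'', Over.w w'])
  let c₀o : W₀ ⟶ Uo₀ := Over.homMk c₀ (by
    show c₀ ≫ (t.left ⁻¹ᵁ U').ι ≫ T₀.hom = W₀.hom
    rw [← Category.assoc, hc₀, Over.w w₀])
  let t₀o : Uo₀ ⟶ Uo' := Over.homMk (t.left ∣_ U') (by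
    show (t.left ∣_ U') ≫ U'.ι ≫ T'.hom = (t.left ⁻¹ᵁ U').ι ≫ T₀.hom
    rw [← Category.assoc, morphismRestrict_ι, Category.assoc, Over.w t])
  have comm : k ≫ w''o = c₀o ≫ t₀o := by
    ext
    show k.left ≫ w'' = c₀ ≫ (t.left ∣_ U')
    rw [← cancel_mono U'.ι, Category.assoc, Category.assoc, hw'', morphismRestrict_ι,
      ← Category.assoc, hc₀, sq.w]
  have hUC₀ : AlgSp.IsUnivClosedMor ((yon S).map c₀o) :=
    Groth.Agent.Lib.Helper12.Proper.isUnivClosedMor_of_isClosedImmersion _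
      ((AlgSp.repWith_yon_map_iff _ _).2 (inferInstanceAs (IsClosedImmersion c₀)))
  have hUC' : AlgSp.IsUnivClosedMor ((yon S).map w''o) :=
    (Groth.Agent.S10587.result ((AlgSp.ofScheme S).map k) ((AlgSp.ofScheme S).map t₀o)
      ((AlgSp.ofScheme S).map c₀o) ((AlgSp.ofScheme S).map w''o)
      ((AlgSp.isThickMor_yon_map_iff k).2 hk) ((AlgSp.isThickMor_yon_map_iff t₀o).2 ht₀)
      (by rw [← Functor.map_comp, ← Functor.map_comp, comm])).2.2.1.1 hUC₀
  haveI : UniversallyClosed w'' := (AlgSp.repWith_yon_map_iff _ w''o).1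
    (Groth.Agent.S9922.repWith_universallyClosed_of_isUnivClosedMor _
      (AlgSp.representable_yon_map w''o) hUC')
  haveI : Mono w'' := by
    constructor
    intro Z a b hab
    rw [← cancel_mono w'.left, ← hw'', ← Category.assoc, hab, Category.assoc]
  haveI : LocallyOfFiniteType (w'' ≫ U'.ι) := by rw [hw'']; infer_instance
  haveI : LocallyOfFiniteType w'' := locallyOfFiniteType_of_comp w'' U'.ι
  haveI : IsProper w'' := {}
  haveI : IsClosedImmersion w'' :=
    (IsClosedImmersion.iff_isProper_and_mono w'').2 ⟨inferInstance, inferInstance⟩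
  rw [← hw'']
  infer_instance

theorem isImmersion_of_thick {T' W' T₀ W₀ : Over S} (w' : W' ⟶ T') (t : T₀ ⟶ T')
    (k : W₀ ⟶ W') (w₀ : W₀ ⟶ T₀) (sq : IsPullback k.left w₀.left w'.left t.left)
    (ht : AlgSp.thick t.left) [IsImmersion w₀.left] [Mono w'.left]
    [LocallyOfFiniteType w'.left] : IsImmersion w'.left := by
  haveI : IsClosedImmersion t.left := ht.1
  let U₀ : T₀.left.Opens := w₀.left.coborderRange
  let U' : T'.left.Opens := ⟨(t.left '' (U₀ : Set T₀.left)ᶜ)ᶜ,
    (t.left.isClosedMap _ U₀.isOpen.isClosed_compl).isOpen_compl⟩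
  have hinj : Function.Injective t.left := t.left.isClosedEmbedding.injective
  have hU : t.left ⁻¹ᵁ U' = U₀ := by
    ext x
    constructor
    · intro hx
      by_contra hn
      exact hx ⟨x, hn, rfl⟩
    · rintro hx ⟨y, hy, hxy⟩
      exact hy (hinj hxy ▸ hx)
  obtain ⟨c₀, hc₀, hci⟩ : ∃ c₀ : W₀.left ⟶ (t.left ⁻¹ᵁ U').toScheme,
      c₀ ≫ (t.left ⁻¹ᵁ U').ι = w₀.left ∧ IsClosedImmersion c₀ := by
    rw [hU]
    exact ⟨w₀.left.liftCoborder, w₀.left.liftCoborder_ι, inferInstance⟩
  haveI := hci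
  exact isImmersion_of_thick_aux w' t k w₀ sq ht U' c₀ hc₀

/-- immersions lift along cartesian squares of thickenings, for monomorphisms locally of finite
type. -/
theorem repWith_isImmersion_of_thick {X X' Y Y' : AlgSp.Space S} (i : X ⟶ X') (j : Y ⟶ Y')
    (f : X ⟶ Y) (f' : X' ⟶ Y') (hj : AlgSp.IsThickMor j.hom)
    (hcart : IsPullback i.hom f.hom f'.hom j.hom)
    (hf : AlgSp.RepWith @IsImmersion f.hom) [Mono f'.hom]
    (hlft' : AlgSp.LocP @LocallyOfFiniteType f'.hom) :
    AlgSp.RepWith @IsImmersion f'.hom := by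
  obtain ⟨hrep', -, -⟩ := Groth.Agent.Lib.H5bBoot.mono_lft_consequences f' hlft'
  refine ⟨hrep', fun T' W' g' fst' w' sq' => ?_⟩
  change IsImmersion w'.left
  obtain ⟨T₀, t, gT, sqT⟩ := hj.1 g'
  have ht : AlgSp.thick t.left := hj.2 g' gT t sqT
  have sqS := IsPullback.of_hasPullback w' t
  have sqSy := sqS.map (yon S)
  have sqSl := sqS.map (Over.forget S)
  have hcond : ((yon S).map (pullback.fst w' t) ≫ fst') ≫ f'.hom =
      ((yon S).map (pullback.snd w' t) ≫ gT) ≫ j.hom := by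
    rw [Category.assoc, sq'.w, ← Category.assoc, sqSy.w, Category.assoc, Category.assoc, sqT.w]
  obtain ⟨fst₀, hfst₀⟩ : ∃ fst₀ : (yon S).obj (pullback w' t) ⟶ X.obj,
      fst₀ = hcart.lift _ _ hcond := ⟨_, rfl⟩
  have h1 : fst₀ ≫ i.hom = (yon S).map (pullback.fst w' t) ≫ fst' := by
    rw [hfst₀, hcart.lift_fst]
  have h2 : fst₀ ≫ f.hom = (yon S).map (pullback.snd w' t) ≫ gT := by
    rw [hfst₀, hcart.lift_snd]
  have big : IsPullback (fst₀ ≫ i.hom) ((yon S).map (pullback.snd w' t)) f'.hom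
      (gT ≫ j.hom) := by
    rw [h1, sqT.w]
    exact sqSy.paste_horiz sq'
  have sq₀ : IsPullback fst₀ ((yon S).map (pullback.snd w' t)) f.hom gT :=
    IsPullback.of_right big h2 hcart
  haveI : IsImmersion (pullback.snd w' t).left := hf.2 gT fst₀ _ sq₀
  haveI : Mono ((yon S).map w') := sq'.mono_snd_of_mono
  haveI : Mono w' := (yon S).mono_of_mono_map inferInstance
  haveI : Mono w'.left := inferInstance
  haveI : LocallyOfFiniteType w'.left :=
    AlgSp.locP_yon_map (Groth.Agent.Lib.Helper12.LocPCases.good_lft.locP_baseChange X'.property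
      Y'.property (AlgSp.IsAlgSpace.yon_obj T') sq' hlft')
  exact isImmersion_of_thick w' t (pullback.fst w' t) (pullback.snd w' t) sqSl ht

end Groth.Agent.Lib.H5bThick
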