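import Mathlib
import Groth.Prelude.Def_AlgSp
import Groth.Prelude.Def_AlgSp3
import Groth.Prelude.Def_AlgSp4
import Groth.Prelude.Def_AlgSpInf
import Groth.Agent.Lib.H5bThickImm
import Groth.Agent.Lib.H5bFinA
import Groth.Agent.S10589

/-!
# Global properties of morphisms of thickenings (helper5)

`thick_global_iff`: for a cartesian morphism of thickenings for which "unramified", "locally
quasi-finite" and "locally of finite type" transfer, closed immersions, proper morphisms, finite
morphisms and immersions transfer.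
-/

set_option autoImplicit false
set_option linter.style.haveILetI false
set_option linter.unusedSectionVars false
set_option linter.unusedSimpArgs false
set_option linter.unusedVariables false
universe u

open CategoryTheory CategoryTheory.Limits AlgebraicGeometry AlgSp Opposite

namespace Groth.Agent.Lib.H5bThick

open Groth.Agent.Lib.H5bBoot

variable {S : Scheme.{u}}

theorem thick_global_iff {X X' Y Y' : AlgSp.Space S} (i : X ⟶ X') (j : Y ⟶ Y')
    (f : X ⟶ Y) (f' : X' ⟶ Y') (hi : AlgSp.IsThickMor i.hom) (hj : AlgSp.IsThickMor j.hom)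
    (w : i ≫ f' = f ≫ j) (hcart : IsPullback i.hom f.hom f'.hom j.hom)
    (hlft : AlgSp.LocP @LocallyOfFiniteType f.hom ↔ AlgSp.LocP @LocallyOfFiniteType f'.hom)
    (hlqf : AlgSp.LocP (@LocallyQuasiFinite ⊓ @LocallyOfFiniteType) f.hom ↔
      AlgSp.LocP (@LocallyQuasiFinite ⊓ @LocallyOfFiniteType) f'.hom)
    (hunr : AlgSp.LocP (@LocallyOfFiniteType ⊓ @FormallyUnramified) f.hom ↔
      AlgSp.LocP (@LocallyOfFiniteType ⊓ @FormallyUnramified) f'.hom) :
    (AlgSp.RepWith @IsClosedImmersion f.hom ↔ AlgSp.RepWith @IsClosedImmersion f'.hom) ∧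
    (AlgSp.IsProperMor f.hom ↔ AlgSp.IsProperMor f'.hom) ∧
    (AlgSp.IsFiniteMor f.hom ↔ AlgSp.IsFiniteMor f'.hom) ∧
    (AlgSp.RepWith @IsImmersion f.hom ↔ AlgSp.RepWith @IsImmersion f'.hom) := by
  obtain ⟨-, hqc, huc, hui, -⟩ := Groth.Agent.S10587.result i j f f' hi hj w
  obtain ⟨hsep, -⟩ := Groth.Agent.S10589.result i j f f' hi hj w
  have hprop : AlgSp.IsProperMor f.hom ↔ AlgSp.IsProperMor f'.hom := by
    unfold AlgSp.IsProperMor AlgSp.IsFiniteTypeMor
    rw [hsep, hlft, hqc, huc]
  refine ⟨?_, hprop, ?_, ?_⟩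
  · rw [(closedImmersion_tfae f).2.1, (closedImmersion_tfae f').2.1, huc, hunr, hui]
  · rw [Groth.Agent.Lib.H5bFin.isFiniteMor_iff_proper_lqf, Groth.Agent.Lib.H5bFin.isFiniteMor_iff_proper_lqf,
      hprop, hlqf]
  · constructor
    · intro hf
      have hfu : AlgSp.LocP (@LocallyOfFiniteType ⊓ @FormallyUnramified) f.hom :=
        locP_of_repWith Groth.Agent.Lib.Helper12.LocPCases.good_unram f.hom
          (Groth.Agent.Lib.Helper12.OpenSub.repWith_mono
            (fun _ _ g hg => by
              haveI : IsImmersion g := hg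
              exact ⟨inferInstance, inferInstance⟩) hf)
      haveI : Mono f.hom := Groth.Agent.S9928.result f hf
      have hfu' := hunr.1 hfu
      have hui' := hui.1 (isUnivInjectiveMor_of_mono f)
      haveI : Mono f'.hom := mono_of_unramified_univInjective f' hfu' hui'
      exact repWith_isImmersion_of_thick i j f f' hj hcart hf
        (Groth.Agent.Lib.Helper12.LargestOpen.locP_mono (fun _ _ g hg => hg.1) hfu')
    · intro hf'
      exact MorphismProperty.of_isPullback (P := AlgSp.RepWith @IsImmersion) hcart hf'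

end Groth.Agent.Lib.H5bThick
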