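import Mathlib
import Groth.Agent.Lib.H5bBootC
import Groth.Agent.Lib.H5bThickGlob
import Groth.Agent.Lib.Helper12OpenSub2
import Groth.Agent.S10587
import Groth.Agent.S10294
import Groth.Agent.S9874

/-!
# Isomorphisms, open immersions, monomorphisms and finite locally free morphisms along thickenings
(helper5)

Abstract forms of the deformation statements: `f` is the base change of `f'` along a thickening
`j : Y ⟶ Y'`, and the étale-local properties are known to pass from `f` to `f'`.

* `openImmersion_of_etale_univInjective`: étale + universally injective ⇒ open immersion;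
* `iso_openImm_iff`;
* `finLocFree_iff`;
* `diag_data`: the diagonal of `f'` as a morphism over the base, with its base change.
-/

set_option autoImplicit false
set_option linter.style.haveILetI false
set_option linter.unusedSectionVars false
set_option linter.unusedSimpArgs false
set_option linter.unusedVariables false
universe u

open CategoryTheory CategoryTheory.Limits AlgebraicGeometry AlgSp Opposite

namespace Groth.Agent.Lib.H5bDefIso

open Groth.Agent.Lib.Helper12.LocPCases Groth.Agent.Lib.H5bBoot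

variable {S : Scheme.{u}}

/-- an étale universally injective morphism of algebraic spaces is an open immersion. -/
theorem openImmersion_of_etale_univInjective {X Y : AlgSp.Space S} (f : X ⟶ Y)
    (het : AlgSp.LocP @Etale f.hom) (hinj : AlgSp.IsUnivInjectiveMor f.hom) :
    AlgSp.RepWith @IsOpenImmersion f.hom := by
  have hunr : AlgSp.LocP (@LocallyOfFiniteType ⊓ @FormallyUnramified) f.hom :=
    Groth.Agent.Lib.Helper12.LargestOpen.locP_mono
      (fun _ _ g hg => by haveI : Etale g := hg; exact ⟨inferInstance, inferInstance⟩) het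
  have hlft : AlgSp.LocP @LocallyOfFiniteType f.hom :=
    Groth.Agent.Lib.Helper12.LargestOpen.locP_mono (fun _ _ g hg => hg.1) hunr
  haveI hmono : Mono f.hom := mono_of_unramified_univInjective f hunr hinj
  obtain ⟨hrep, -, -⟩ := mono_lft_consequences f hlft
  refine ⟨hrep, ?_⟩
  intro U V g fst snd sq
  have h1 : AlgSp.LocP @Etale ((yon S).map snd) :=
    good_etale.locP_baseChange X.property Y.property (AlgSp.IsAlgSpace.yon_obj U) sq het
  haveI : Etale snd.left := AlgSp.locP_yon_map h1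
  haveI : Mono ((yon S).map snd) :=
    MorphismProperty.of_isPullback (P := MorphismProperty.monomorphisms _) sq
      (MorphismProperty.monomorphisms.infer_property f.hom)
  haveI : Mono snd := (yon S).mono_of_mono_map inferInstance
  haveI : Mono snd.left := inferInstance
  exact IsOpenImmersion.of_flat_of_mono snd.left

theorem isSurjectiveMor_of_isIso {X Y : AlgSp.Sp S} (f : X ⟶ Y) [IsIso f] :
    AlgSp.IsSurjectiveMor f := by
  intro y
  refine ⟨AlgSp.Points.map (inv f) y, ?_⟩
  rw [← AlgSp.Points.map_comp, IsIso.inv_hom_id, AlgSp.Points.map_id]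

/-- isomorphisms and open immersions along a thickening of the target, given that étaleness
passes from `f` to `f'`. -/
theorem iso_openImm_iff {X X' Y Y' : AlgSp.Space S} (i : X ⟶ X') (j : Y ⟶ Y')
    (f : X ⟶ Y) (f' : X' ⟶ Y') (hi : AlgSp.IsThickMor i.hom) (hj : AlgSp.IsThickMor j.hom)
    (w : i ≫ f' = f ≫ j) (hcart : IsPullback i.hom f.hom f'.hom j.hom)
    (het : AlgSp.LocP @Etale f.hom → AlgSp.LocP @Etale f'.hom) :
    (IsIso f.hom ↔ IsIso f'.hom) ∧
    (AlgSp.RepWith @IsOpenImmersion f.hom ↔ AlgSp.RepWith @IsOpenImmersion f'.hom) := by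
  obtain ⟨hsurj, -, -, hui, -⟩ := Groth.Agent.S10587.result i j f f' hi hj w
  have hopen : AlgSp.RepWith @IsOpenImmersion f.hom → AlgSp.RepWith @IsOpenImmersion f'.hom := by
    intro h
    have h1 : AlgSp.LocP @Etale f.hom :=
      locP_of_repWith good_etale f.hom
        (Groth.Agent.Lib.Helper12.OpenSub.repWith_mono
          (fun _ _ g hg => by haveI : IsOpenImmersion g := hg; infer_instance) h)
    haveI : Mono f.hom := Groth.Agent.Lib.Helper12.LargestOpen.mono_of_open f.hom h
    exact openImmersion_of_etale_univInjective f' (het h1) (hui.1 (isUnivInjectiveMor_of_mono f))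
  refine ⟨⟨fun h => ?_, fun h => ?_⟩, ⟨hopen, fun h => ?_⟩⟩
  · haveI := h
    have h0 : AlgSp.RepWith @IsOpenImmersion f.hom :=
      MorphismProperty.of_isIso (AlgSp.RepWith @IsOpenImmersion) f.hom
    exact isIso_of_open_surjective f'.hom (hopen h0) (hsurj.1 (isSurjectiveMor_of_isIso f.hom))
  · haveI := h
    exact MorphismProperty.of_isPullback (P := MorphismProperty.isomorphisms _) hcart
      (MorphismProperty.isomorphisms.infer_property f'.hom)
  · exact MorphismProperty.of_isPullback (P := AlgSp.RepWith @IsOpenImmersion) hcart h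

/-- finite locally free (of degree `d`) along a thickening of the target. -/
theorem finLocFree_iff {X X' Y Y' : AlgSp.Space S} (i : X ⟶ X') (j : Y ⟶ Y')
    (f : X ⟶ Y) (f' : X' ⟶ Y') (hj : AlgSp.IsThickMor j.hom)
    (hcart : IsPullback i.hom f.hom f'.hom j.hom)
    (hfin : AlgSp.IsFiniteMor f.hom → AlgSp.IsFiniteMor f'.hom)
    (hflat : AlgSp.LocP @Flat f.hom → AlgSp.LocP @Flat f'.hom)
    (hlfp : AlgSp.LocP @LocallyOfFinitePresentation f.hom →
      AlgSp.LocP @LocallyOfFinitePresentation f'.hom) :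
    (AlgSp.IsFinLocFreeMor f.hom ↔ AlgSp.IsFinLocFreeMor f'.hom) ∧
    (∀ d : ℕ, AlgSp.IsFinLocFreeOfDegMor d f.hom ↔ AlgSp.IsFinLocFreeOfDegMor d f'.hom) := by
  have h4 : AlgSp.IsFinLocFreeMor f.hom → AlgSp.IsFinLocFreeMor f'.hom := by
    intro h
    obtain ⟨h1, h2, h3⟩ := (Groth.Agent.S10294.result f).1.1 h
    exact (Groth.Agent.S10294.result f').1.2 ⟨hfin h1, hflat h2, hlfp h3⟩
  refine ⟨⟨h4, fun h => MorphismProperty.of_isPullback (P := AlgSp.RepWith AlgSp.finLocFree) hcart h⟩,
    fun d => ⟨fun h => ?_, fun h =>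
      MorphismProperty.of_isPullback (P := AlgSp.RepWith (AlgSp.finLocFreeOfDeg d)) hcart h⟩⟩
  have h0 : AlgSp.IsFinLocFreeMor f'.hom :=
    h4 (Groth.Agent.Lib.Helper12.OpenSub.repWith_mono (fun _ _ g hg => hg.1) h)
  refine ⟨h0.1, ?_⟩
  intro U V g fst snd sq
  have hsnd : AlgSp.finLocFree snd.left := h0.2 g fst snd sq
  refine ⟨hsnd, fun y => ?_⟩
  obtain ⟨U₀, t, g₀, sqt⟩ := hj.1 g
  have ht : AlgSp.thick t.left := hj.2 g g₀ t sqt
  obtain ⟨V₀, snd₀, fst₀, sq₀⟩ := h.1 g₀
  have hd : AlgSp.finLocFreeOfDeg d snd₀.left := h.2 g₀ fst₀ snd₀ sq₀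
  have outer : IsPullback (fst₀ ≫ i.hom) ((yon S).map snd₀) f'.hom (g₀ ≫ j.hom) :=
    sq₀.paste_horiz hcart
  have comm : (fst₀ ≫ i.hom) ≫ f'.hom = (yon S).map (snd₀ ≫ t) ≫ g := by
    rw [outer.w, sqt.w, Functor.map_comp, Category.assoc]
  obtain ⟨k₀, hk₀⟩ := (yon S).map_surjective (sq.lift (fst₀ ≫ i.hom) ((yon S).map (snd₀ ≫ t)) comm)
  have hk1 : (yon S).map k₀ ≫ fst = fst₀ ≫ i.hom := by rw [hk₀, sq.lift_fst]
  have hk2 : k₀ ≫ snd = snd₀ ≫ t :=
    (yon S).map_injective (by rw [Functor.map_comp, hk₀, sq.lift_snd])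
  have outer' : IsPullback ((yon S).map k₀ ≫ fst) ((yon S).map snd₀) f'.hom
      ((yon S).map t ≫ g) := by
    rw [hk1, ← sqt.w]
    exact outer
  have sqL : IsPullback ((yon S).map k₀) ((yon S).map snd₀) ((yon S).map snd) ((yon S).map t) :=
    IsPullback.of_right outer' (by rw [← Functor.map_comp, ← Functor.map_comp, hk2]) sq
  have sqO : IsPullback k₀ snd₀ snd t := IsPullback.of_map (yon S) hk2 sqL
  have sqS : IsPullback k₀.left snd₀.left snd.left t.left := sqO.map (Over.forget S)
  obtain ⟨y₀, rfl⟩ := ht.2.surj y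
  haveI : IsFinite snd.left := hsnd.1
  haveI : Flat snd.left := hsnd.2.1
  show Scheme.Hom.finrank snd.left (t.left y₀) = d
  rw [← Scheme.Hom.finrank_of_isPullback _ _ _ _ sqS y₀]
  exact hd.2 y₀

/-- the diagonal of `f'` as a morphism of spaces over the base, together with its base change, the
diagonal of `f`. -/
theorem exists_diag_data {X X' Y Y' B B' : AlgSp.Space S} (iX : X ⟶ X') (iY : Y ⟶ Y') (iB : B ⟶ B')
    (f : X ⟶ Y) (f' : X' ⟶ Y') (g : Y ⟶ B) (g' : Y' ⟶ B')
    (hcX : IsPullback iX.hom (f ≫ g).hom (f' ≫ g').hom iB.hom)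
    (hcY : IsPullback iY.hom g.hom g'.hom iB.hom) (w : iX ≫ f' = f ≫ iY) :
    ∃ (Z Z' : AlgSp.Space S) (iZ : Z ⟶ Z') (δ : X ⟶ Z) (δ' : X' ⟶ Z') (p : Z ⟶ X)
      (p' q' : Z' ⟶ X'),
      δ ≫ p = 𝟙 X ∧ δ' ≫ p' = 𝟙 X' ∧
      IsPullback p'.hom q'.hom f'.hom f'.hom ∧
      IsPullback iZ.hom (p ≫ (f ≫ g)).hom (p' ≫ (f' ≫ g')).hom iB.hom ∧
      iX ≫ δ' = δ ≫ iZ ∧
      (Mono f.hom → IsIso δ.hom) ∧ (IsIso δ'.hom → Mono f'.hom) ∧
      (Mono f'.hom → IsIso δ'.hom) ∧ (IsIso δ.hom → Mono f.hom) := by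
  have sq2 : IsPullback iX.hom f.hom f'.hom iY.hom :=
    IsPullback.of_bot hcX (congrArg (fun φ => φ.hom) w) hcY
  have w' : f.hom ≫ iY.hom = iX.hom ≫ f'.hom := sq2.w.symm
  have sqZ := IsPullback.of_hasPullback f.hom f.hom
  have sqZ' := IsPullback.of_hasPullback f'.hom f'.hom
  have hZ : AlgSp.IsAlgSpace (pullback f.hom f.hom) :=
    Groth.Agent.S9874.isAlgSpace_of_isPullback Y.property.diag X.property X.property sqZ
  have hZ' : AlgSp.IsAlgSpace (pullback f'.hom f'.hom) :=
    Groth.Agent.S9874.isAlgSpace_of_isPullback Y'.property.diag X'.property X'.property sqZ'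
  let Z : AlgSp.Space S := ⟨pullback f.hom f.hom, hZ⟩
  let Z' : AlgSp.Space S := ⟨pullback f'.hom f'.hom, hZ'⟩
  let iZh : pullback f.hom f.hom ⟶ pullback f'.hom f'.hom :=
    pullback.map f.hom f.hom f'.hom f'.hom iX.hom iX.hom iY.hom w' w'
  let iZ : Z ⟶ Z' := ObjectProperty.homMk iZh
  let δ : X ⟶ Z := ObjectProperty.homMk (pullback.diagonal f.hom)
  let δ' : X' ⟶ Z' := ObjectProperty.homMk (pullback.diagonal f'.hom)
  let p : Z ⟶ X := ObjectProperty.homMk (pullback.fst f.hom f.hom)
  let p' : Z' ⟶ X' := ObjectProperty.homMk (pullback.fst f'.hom f'.hom)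
  let q' : Z' ⟶ X' := ObjectProperty.homMk (pullback.snd f'.hom f'.hom)
  refine ⟨Z, Z', iZ, δ, δ', p, p', q', ?_, ?_, sqZ', ?_, ?_, ?_, ?_, ?_, ?_⟩
  · apply ObjectProperty.hom_ext
    exact pullback.diagonal_fst f.hom
  · apply ObjectProperty.hom_ext
    exact pullback.diagonal_fst f'.hom
  · -- `Z = Z' ×_{X'} X` via the first projections
    have r1 : IsPullback (pullback.snd f.hom f.hom ≫ iX.hom) (pullback.fst f.hom f.hom) f'.hom
        (f.hom ≫ iY.hom) := sqZ.flip.paste_horiz sq2
    have r2 : IsPullback (iZh ≫ pullback.snd f'.hom f'.hom) (pullback.fst f.hom f.hom) f'.hom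
        (iX.hom ≫ f'.hom) := by
      have e1 : iZh ≫ pullback.snd f'.hom f'.hom = pullback.snd f.hom f.hom ≫ iX.hom :=
        pullback.lift_snd _ _ _
      rw [e1, ← w']
      exact r1
    have e2 : iZh ≫ pullback.fst f'.hom f'.hom = pullback.fst f.hom f.hom ≫ iX.hom :=
      pullback.lift_fst _ _ _
    have top : IsPullback iZh (pullback.fst f.hom f.hom) (pullback.fst f'.hom f'.hom) iX.hom :=
      IsPullback.of_right r2 e2 sqZ'.flip
    exact top.paste_vert hcX
  · apply ObjectProperty.hom_ext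
    show iX.hom ≫ pullback.diagonal f'.hom = pullback.diagonal f.hom ≫ iZh
    apply pullback.hom_ext
    · rw [Category.assoc, pullback.diagonal_fst, Category.assoc]
      erw [pullback.lift_fst]
      rw [← Category.assoc, pullback.diagonal_fst, Category.comp_id, Category.id_comp]
    · rw [Category.assoc, pullback.diagonal_snd, Category.assoc]
      erw [pullback.lift_snd]
      rw [← Category.assoc, pullback.diagonal_snd, Category.comp_id, Category.id_comp]
  · intro h
    exact (pullback.isIso_diagonal_iff f.hom).2 h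
  · intro h
    exact (pullback.isIso_diagonal_iff f'.hom).1 h
  · intro h
    exact (pullback.isIso_diagonal_iff f'.hom).2 h
  · intro h
    exact (pullback.isIso_diagonal_iff f.hom).1 h

end Groth.Agent.Lib.H5bDefIso
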