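import Mathlib
import Groth.Agent.Lib.Helper3FibCritSch

/-!
# The flat locus of `X ⟶ Y` over `S` and base change (helper5)

For `p : U ⟶ V`, `q : V ⟶ W` with `p ≫ q` flat and locally of finite presentation and `q` locally of
finite type, and a base change `W' ⟶ W`, the base change `p'` of `p` is flat at a point `u'` iff
`p` is flat at the image of `u'` (`flat_stalkMap_baseChange_iff`).  Also: cancellation of flatness
at a point along an étale morphism (`flat_stalkMap_of_comp_etale`).
-/

set_option autoImplicit false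
set_option linter.style.haveILetI false

open CategoryTheory CategoryTheory.Limits AlgebraicGeometry

universe u

namespace Groth.Agent.Lib.H5bFlatBC

open Groth.Agent.Lib.Helper3.FibCritSch

/-- flatness cancels along étale morphisms. -/
instance hasOfPostcomp_flat_etale : MorphismProperty.HasOfPostcompProperty @Flat @Etale := by
  rw [MorphismProperty.hasOfPostcompProperty_iff_le_diagonal]
  intro X Y f hf
  haveI : Etale f := hf
  haveI : Etale (pullback.diagonal f) := inferInstance
  exact inferInstanceAs (Flat (pullback.diagonal f))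

/-- pointwise cancellation of flatness along an étale morphism (finite presentation case). -/
theorem flat_stalkMap_of_comp_etale {U V V₀ : Scheme.{u}} (h : U ⟶ V) (q : V ⟶ V₀) [Etale q]
    [LocallyOfFinitePresentation (h ≫ q)] (u : U) (H : ((h ≫ q).stalkMap u).hom.Flat) :
    (h.stalkMap u).hom.Flat := by
  let O : U.Opens := ⟨{x | ((h ≫ q).stalkMap x).hom.Flat}, Groth.Agent.S0386.result (h ≫ q)⟩
  haveI h1 : Flat (O.ι ≫ h ≫ q) :=
    Flat.of_stalkMap _ (fun x => (flat_stalkMap_ι_comp_iff (h ≫ q) O x).mpr x.2)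
  haveI : Flat ((O.ι ≫ h) ≫ q) := by rwa [Category.assoc]
  haveI : Flat (O.ι ≫ h) := MorphismProperty.of_postcomp (W := @Flat) (W' := @Etale) (O.ι ≫ h) q
    inferInstance inferInstance
  exact (flat_stalkMap_ι_comp_iff h O ⟨u, H⟩).mp (Flat.stalkMap (O.ι ≫ h) ⟨u, H⟩)

/-- flatness at a point passes to a base change (finite presentation case). -/
theorem flat_stalkMap_of_isPullback {U V U' V' : Scheme.{u}} (p : U ⟶ V)
    [LocallyOfFinitePresentation p] (pV : V' ⟶ V) (pU : U' ⟶ U) (p' : U' ⟶ V')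
    (sq : IsPullback pU p' p pV) (u' : U') (h : (p.stalkMap (pU u')).hom.Flat) :
    (p'.stalkMap u').hom.Flat := by
  let O : U.Opens := ⟨{x | (p.stalkMap x).hom.Flat}, Groth.Agent.S0386.result p⟩
  let O' : U'.Opens := pU ⁻¹ᵁ O
  have htop : IsPullback (pU ∣_ O) O'.ι O.ι pU := isPullback_morphismRestrict pU O
  have hbig := htop.paste_vert sq
  haveI : Flat (O.ι ≫ p) :=
    Flat.of_stalkMap _ (fun x => (flat_stalkMap_ι_comp_iff p O x).mpr x.2)
  haveI hFl : Flat (O'.ι ≫ p') := MorphismProperty.of_isPullback (P := @Flat) hbig inferInstance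
  have hz : u' ∈ O' := h
  exact (flat_stalkMap_ι_comp_iff p' O' (⟨u', hz⟩ : O')).mp
    (Flat.stalkMap (O'.ι ≫ p') (⟨u', hz⟩ : O'))

/-- the fibre criterion at an arbitrary point of a fibre. -/
theorem flat_stalkMap_of_fiberMap_at {X Y S : Scheme.{u}} (f : X ⟶ Y) (g : Y ⟶ S)
    [LocallyOfFinitePresentation (f ≫ g)] [LocallyOfFiniteType g] (s : S) (z : (f ≫ g).fiber s)
    (hflat : ((f ≫ g).stalkMap ((f ≫ g).fiberι s z)).hom.Flat)
    (hz : ((MoreMor.fiberMap f g s).stalkMap z).hom.Flat) :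
    (f.stalkMap ((f ≫ g).fiberι s z)).hom.Flat := by
  have hs : (f ≫ g) ((f ≫ g).fiberι s z) = s := by
    have : (f ≫ g).fiberι s z ∈ Set.range ((f ≫ g).fiberι s) := ⟨z, rfl⟩
    rw [Scheme.Hom.range_fiberι] at this
    exact this
  generalize hx : (f ≫ g).fiberι s z = x at *
  subst hs
  have : z = (f ≫ g).asFiber x := by
    apply ((f ≫ g).fiberι _).isEmbedding.injective
    rw [hx, Scheme.Hom.fiberι_asFiber]
  subst this
  exact flat_stalkMap_of_flat_of_fiberMap f g x hflat hz

/-- a ring map out of a field is flat. -/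
theorem ringHom_flat_of_field {K L : Type u} [Field K] [CommRing L] (φ : K →+* L) : φ.Flat := by
  algebraize [φ]
  exact (inferInstance : Module.Flat K L)

set_option maxHeartbeats 800000 in
/-- **descent of flatness at a point from a base change.** -/
theorem flat_stalkMap_of_baseChange {U V W U' V' W' : Scheme.{u}} (p : U ⟶ V) (q : V ⟶ W)
    [LocallyOfFinitePresentation (p ≫ q)] [LocallyOfFiniteType q] [Flat (p ≫ q)]
    (t : W' ⟶ W) (pV : V' ⟶ V) (q' : V' ⟶ W') (sq1 : IsPullback pV q' q t)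
    (pU : U' ⟶ U) (p' : U' ⟶ V') (sq2 : IsPullback pU p' p pV) (u' : U')
    (h : (p'.stalkMap u').hom.Flat) : (p.stalkMap (pU u')).hom.Flat := by
  have sq12 : IsPullback pU (p' ≫ q') (p ≫ q) t := sq2.paste_vert sq1
  haveI : LocallyOfFinitePresentation p :=
    Groth.Agent.Lib.Helper6.locallyOfFinitePresentation_of_comp (g := q) inferInstance inferInstance
  haveI : LocallyOfFinitePresentation p' :=
    MorphismProperty.of_isPullback (P := @LocallyOfFinitePresentation) sq2 inferInstance
  -- the point of the fibre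
  obtain ⟨w', hw'⟩ : ∃ w' : W', w' = (p' ≫ q') u' := ⟨_, rfl⟩
  obtain ⟨z', hz'⟩ : ∃ z' : (p' ≫ q').fiber w', (p' ≫ q').fiberι w' z' = u' := by
    subst hw'
    exact ⟨(p' ≫ q').asFiber u', Scheme.Hom.fiberι_asFiber _ _⟩
  have h1 : ((MoreMor.fiberMap p' q' w').stalkMap z').hom.Flat :=
    flat_stalkMap_fiberMap_of_flat p' q' w' z' (by rw [hz']; exact h)
  -- the maps between fibres
  have sqα := isPullback_fiberToSpecResidueField_of_isPullback sq12 w'
  have sqβ := isPullback_fiberToSpecResidueField_of_isPullback sq1 w'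
  set ρ := Spec.map (t.residueFieldMap w') with hρ
  set α : (p' ≫ q').fiber w' ⟶ (p ≫ q).fiber (t w') :=
    pullback.map _ _ _ _ pU ρ t sq12.w.symm (by simp [hρ]) with hα
  set β : q'.fiber w' ⟶ q.fiber (t w') :=
    pullback.map _ _ _ _ pV ρ t sq1.w.symm (by simp [hρ]) with hβ
  haveI : Flat ρ := by
    rw [hρ, Flat.SpecMap_iff]
    exact ringHom_flat_of_field _
  haveI : Flat α := MorphismProperty.of_isPullback (P := @Flat) sqα.flip inferInstance
  haveI : Flat β := MorphismProperty.of_isPullback (P := @Flat) sqβ.flip inferInstance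
  have hα1 : α ≫ (p ≫ q).fiberι (t w') = (p' ≫ q').fiberι w' ≫ pU := pullback.lift_fst _ _ _
  have hα2 : α ≫ (p ≫ q).fiberToSpecResidueField (t w') =
      (p' ≫ q').fiberToSpecResidueField w' ≫ ρ := pullback.lift_snd _ _ _
  have hβ1 : β ≫ q.fiberι (t w') = q'.fiberι w' ≫ pV := pullback.lift_fst _ _ _
  have hβ2 : β ≫ q.fiberToSpecResidueField (t w') = q'.fiberToSpecResidueField w' ≫ ρ :=
    pullback.lift_snd _ _ _
  have hF1 : MoreMor.fiberMap p q (t w') ≫ q.fiberι (t w') = (p ≫ q).fiberι (t w') ≫ p :=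
    pullback.lift_fst _ _ _
  have hF2 : MoreMor.fiberMap p q (t w') ≫ q.fiberToSpecResidueField (t w') =
      (p ≫ q).fiberToSpecResidueField (t w') := pullback.lift_snd _ _ _
  have hF1' : MoreMor.fiberMap p' q' w' ≫ q'.fiberι w' = (p' ≫ q').fiberι w' ≫ p' :=
    pullback.lift_fst _ _ _
  have hF2' : MoreMor.fiberMap p' q' w' ≫ q'.fiberToSpecResidueField w' =
      (p' ≫ q').fiberToSpecResidueField w' := pullback.lift_snd _ _ _
  have comm : MoreMor.fiberMap p' q' w' ≫ β = α ≫ MoreMor.fiberMap p q (t w') := by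
    apply pullback.hom_ext
    · show (MoreMor.fiberMap p' q' w' ≫ β) ≫ q.fiberι (t w') =
        (α ≫ MoreMor.fiberMap p q (t w')) ≫ q.fiberι (t w')
      have e1 : (MoreMor.fiberMap p' q' w' ≫ β) ≫ q.fiberι (t w') =
          (p' ≫ q').fiberι w' ≫ p' ≫ pV := by
        rw [Category.assoc, hβ1, ← Category.assoc, hF1', Category.assoc]
      have e2 : (α ≫ MoreMor.fiberMap p q (t w')) ≫ q.fiberι (t w') =
          (p' ≫ q').fiberι w' ≫ pU ≫ p := by
        rw [Category.assoc, hF1, ← Category.assoc, hα1, Category.assoc]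
      rw [e1, e2, sq2.w]
    · show (MoreMor.fiberMap p' q' w' ≫ β) ≫ q.fiberToSpecResidueField (t w') =
        (α ≫ MoreMor.fiberMap p q (t w')) ≫ q.fiberToSpecResidueField (t w')
      have e1 : (MoreMor.fiberMap p' q' w' ≫ β) ≫ q.fiberToSpecResidueField (t w') =
          (p' ≫ q').fiberToSpecResidueField w' ≫ ρ := by
        rw [Category.assoc, hβ2, ← Category.assoc, hF2']
      have e2 : (α ≫ MoreMor.fiberMap p q (t w')) ≫ q.fiberToSpecResidueField (t w') =
          (p' ≫ q').fiberToSpecResidueField w' ≫ ρ := by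
        rw [Category.assoc, hF2, hα2]
      rw [e1, e2]
  have h2 : ((MoreMor.fiberMap p' q' w' ≫ β).stalkMap z').hom.Flat :=
    Groth.Agent.Lib.Helper5.FiberMor.flat_comp _ _ z' h1 (Flat.stalkMap β _)
  rw [comm] at h2
  have h3 : ((MoreMor.fiberMap p q (t w')).stalkMap (α z')).hom.Flat :=
    Groth.Agent.Lib.Helper5.FiberMor.flat_of_comp α _ z' h2 (Flat.stalkMap α z')
  have h4 := flat_stalkMap_of_fiberMap_at p q (t w') (α z') (Flat.stalkMap (p ≫ q) _) h3
  have h5 : (p ≫ q).fiberι (t w') (α z') = pU u' := by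
    rw [← Scheme.Hom.comp_apply, hα1, Scheme.Hom.comp_apply, hz']
  rwa [h5] at h4

/-- **the flat locus commutes with base change.** -/
theorem flat_stalkMap_baseChange_iff {U V W U' V' W' : Scheme.{u}} (p : U ⟶ V) (q : V ⟶ W)
    [LocallyOfFinitePresentation (p ≫ q)] [LocallyOfFiniteType q] [Flat (p ≫ q)]
    (t : W' ⟶ W) (pV : V' ⟶ V) (q' : V' ⟶ W') (sq1 : IsPullback pV q' q t)
    (pU : U' ⟶ U) (p' : U' ⟶ V') (sq2 : IsPullback pU p' p pV) (u' : U') :
    (p'.stalkMap u').hom.Flat ↔ (p.stalkMap (pU u')).hom.Flat := by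
  haveI : LocallyOfFinitePresentation p :=
    Groth.Agent.Lib.Helper6.locallyOfFinitePresentation_of_comp (g := q) inferInstance inferInstance
  exact ⟨flat_stalkMap_of_baseChange p q t pV q' sq1 pU p' sq2 u',
    flat_stalkMap_of_isPullback p pV pU p' sq2 u'⟩

end Groth.Agent.Lib.H5bFlatBC
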