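import Mathlib
import Groth.Agent.Lib.H5bFlatCI

/-!
# Relative cartesian charts, with surjectivity of both charts (helper5)
-/

set_option autoImplicit false
universe u

namespace Groth.Agent.Lib.H5bFlatCI2

open CategoryTheory CategoryTheory.Limits AlgebraicGeometry Opposite AlgSp

variable {S : Scheme.{u}}

/-- chart diagrams of `f` and of its base change `f'` lying over given compatible charts of the
bases, forming a cartesian square of schemes. -/
theorem exists_relative_cartesian_chart_surj {X Y X' Y' : AlgSp.Sp S} (hX : IsAlgSpace X)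
    {f : X ⟶ Y} {g : Y' ⟶ Y} {g' : X' ⟶ X} {f' : X' ⟶ Y'} (sq : IsPullback g' f' f g)
    {V V' : Over S} (b : (yon S).obj V ⟶ Y) (b' : (yon S).obj V' ⟶ Y') (pV : V' ⟶ V)
    (hb : RepWith @Etale b) (hb' : RepWith @Etale b') (hb's : RepWith @Surjective b')
    (hbg : b' ≫ g = (yon S).map pV ≫ b) :
    ∃ (U U' : Over S) (a : (yon S).obj U ⟶ X) (a' : (yon S).obj U' ⟶ X') (h : U ⟶ V)
      (h' : U' ⟶ V') (pU : U' ⟶ U),
      RepWith @Etale a ∧ RepWith @Etale a' ∧ RepWith @Surjective a' ∧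
      (RepWith @Surjective b → RepWith @Surjective a) ∧
      a ≫ f = (yon S).map h ≫ b ∧ a' ≫ f' = (yon S).map h' ≫ b' ∧
      a' ≫ g' = (yon S).map pU ≫ a ∧ IsPullback pU.left h'.left h.left pV.left := by
  have hmulE := repWith_isMultiplicative (S := S) @Etale
  have hmulS := repWith_isMultiplicative (S := S) @Surjective
  have hbcE := repWith_isStableUnderBaseChange (S := S) @Etale
  have hbcS := repWith_isStableUnderBaseChange (S := S) @Surjective
  obtain ⟨U₀, a₀, ha₀, ha₀s⟩ := hX.atlas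
  -- `U = U₀ ×_Y V`
  have sqU := hb.rep.isPullback' (a₀ ≫ f)
  set h := hb.rep.fst' (a₀ ≫ f) with hh
  set prU := hb.rep.snd (a₀ ≫ f) with hprU
  have hprUe : Etale prU.left := hb.property_snd (a₀ ≫ f)
  have ha : RepWith @Etale ((yon S).map prU ≫ a₀) :=
    hmulE.comp_mem _ _ ((repWith_yon_map_iff @Etale prU).2 hprUe) ha₀
  have haf : ((yon S).map prU ≫ a₀) ≫ f = (yon S).map h ≫ b := by
    rw [Category.assoc]; exact sqU.w.symm
  -- `U' = U ×_V V'`
  have sqU' : IsPullback ((yon S).map (pullback.fst h pV)) ((yon S).map (pullback.snd h pV))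
      ((yon S).map h) ((yon S).map pV) := (IsPullback.of_hasPullback h pV).map (yon S)
  have w : ((yon S).map (pullback.fst h pV) ≫ (yon S).map prU ≫ a₀) ≫ f =
      ((yon S).map (pullback.snd h pV) ≫ b') ≫ g := by
    rw [Category.assoc, haf, ← Category.assoc, sqU'.w, Category.assoc, Category.assoc, hbg]
  obtain ⟨a', ha'⟩ : ∃ a' : (yon S).obj (pullback h pV) ⟶ X', a' = sq.lift _ _ w := ⟨_, rfl⟩
  have ha'1 : a' ≫ g' = (yon S).map (pullback.fst h pV) ≫ (yon S).map prU ≫ a₀ := by
    rw [ha', sq.lift_fst]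
  have ha'2 : a' ≫ f' = (yon S).map (pullback.snd h pV) ≫ b' := by
    rw [ha', sq.lift_snd]
  -- `A₁ = U₀ ×_X X'`
  have sqA : IsPullback (pullback.fst a₀ g') (pullback.snd a₀ g') a₀ g' :=
    IsPullback.of_hasPullback a₀ g'
  have hπ2e : RepWith @Etale (pullback.snd a₀ g') := hbcE.of_isPullback sqA ha₀
  have hπ2s : RepWith @Surjective (pullback.snd a₀ g') := hbcS.of_isPullback sqA ha₀s
  have wk : ((yon S).map (pullback.fst h pV) ≫ (yon S).map prU) ≫ a₀ = a' ≫ g' := by
    rw [ha'1, Category.assoc]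
  obtain ⟨k, hk⟩ : ∃ k : (yon S).obj (pullback h pV) ⟶ pullback a₀ g', k = sqA.lift _ _ wk :=
    ⟨_, rfl⟩
  have hk1 : k ≫ pullback.fst a₀ g' = (yon S).map (pullback.fst h pV) ≫ (yon S).map prU := by
    rw [hk, sqA.lift_fst]
  have hk2 : k ≫ pullback.snd a₀ g' = a' := by rw [hk, sqA.lift_snd]
  have sqi : IsPullback (pullback.snd a₀ g' ≫ f') (pullback.fst a₀ g') g (a₀ ≫ f) :=
    sqA.flip.paste_horiz sq.flip
  have sqii : IsPullback ((yon S).map (pullback.fst h pV) ≫ (yon S).map prU)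
      ((yon S).map (pullback.snd h pV)) (a₀ ≫ f) ((yon S).map pV ≫ b) :=
    sqU'.paste_horiz sqU.flip
  have sqiii : IsPullback k ((yon S).map (pullback.snd h pV)) (pullback.snd a₀ g' ≫ f') b' := by
    refine IsPullback.of_right ?_ ?_ sqi.flip
    · rw [hk1, hbg]; exact sqii
    · rw [← Category.assoc, hk2, ha'2]
  have hke : RepWith @Etale k := hbcE.of_isPullback sqiii.flip hb'
  have hks : RepWith @Surjective k := hbcS.of_isPullback sqiii.flip hb's
  have ha'e : RepWith @Etale a' := by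
    rw [← hk2]; exact hmulE.comp_mem _ _ hke hπ2e
  have ha's : RepWith @Surjective a' := by
    rw [← hk2]; exact hmulS.comp_mem _ _ hks hπ2s
  refine ⟨_, pullback h pV, (yon S).map prU ≫ a₀, a', h, pullback.snd h pV, pullback.fst h pV,
    ha, ha'e, ha's, ?_, haf, ha'2, ha'1, ?_⟩
  · intro hbs
    have hprUs : Surjective prU.left := hbs.property_snd (a₀ ≫ f)
    exact hmulS.comp_mem _ _ ((repWith_yon_map_iff @Surjective prU).2 hprUs) ha₀s
  · exact (IsPullback.of_hasPullback h pV).map (Over.forget S)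

end Groth.Agent.Lib.H5bFlatCI2
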