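import Mathlib
import Groth.Agent.Lib.H5bFlatCI2
import Groth.Agent.Lib.Helper12LocPNbhd
import Groth.Agent.S10176
import Groth.Agent.S10177

/-!
# Deformation cubes of charts for morphisms over a thickening of algebraic spaces (helper5)

* `exists_deform_cube`: for `X' ⟶ Y' ⟶ B'` and its base change `X ⟶ Y ⟶ B` along a thickening
  `B ⟶ B'`, surjective étale charts of all six spaces forming cartesian squares of schemes.
* `locP_of_surj_chart`: `LocP P` can be tested on one chart diagram with surjective source chart.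
* `locP_iff_of_cube`: transfer of `LocP P` between `f` and `f'` from a scheme-level implication.
-/

set_option autoImplicit false
universe u

namespace Groth.Agent.Lib.H5bDeform

open CategoryTheory CategoryTheory.Limits AlgebraicGeometry Opposite AlgSp
open Groth.Agent.Lib.Helper12.LocPCases

variable {S : Scheme.{u}}

theorem exists_deform_cube {X X' Y Y' B B' : AlgSp.Space S} (iX : X ⟶ X') (iY : Y ⟶ Y')
    (iB : B ⟶ B') (f : X ⟶ Y) (f' : X' ⟶ Y') (g : Y ⟶ B) (g' : Y' ⟶ B')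
    (hcX : IsPullback iX.hom (f ≫ g).hom (f' ≫ g').hom iB.hom)
    (hcY : IsPullback iY.hom g.hom g'.hom iB.hom)
    (w : iX ≫ f' = f ≫ iY) (hB : AlgSp.IsThickMor iB.hom) :
    ∃ (Wb Ws Vb Vs Ub Us : Over S) (cb : (yon S).obj Wb ⟶ B'.obj) (cs : (yon S).obj Ws ⟶ B.obj)
      (bb : (yon S).obj Vb ⟶ Y'.obj) (bs : (yon S).obj Vs ⟶ Y.obj)
      (ab : (yon S).obj Ub ⟶ X'.obj) (as : (yon S).obj Us ⟶ X.obj)
      (tW : Ws ⟶ Wb) (tV : Vs ⟶ Vb) (tU : Us ⟶ Ub) (qb : Vb ⟶ Wb) (qs : Vs ⟶ Ws)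
      (pb : Ub ⟶ Vb) (ps : Us ⟶ Vs),
      (RepWith @Etale cb ∧ RepWith @Surjective cb) ∧ (RepWith @Etale cs ∧ RepWith @Surjective cs) ∧
      (RepWith @Etale bb ∧ RepWith @Surjective bb) ∧ (RepWith @Etale bs ∧ RepWith @Surjective bs) ∧
      (RepWith @Etale ab ∧ RepWith @Surjective ab) ∧ (RepWith @Etale as ∧ RepWith @Surjective as) ∧
      IsPullback cs ((yon S).map tW) iB.hom cb ∧ AlgSp.thick tW.left ∧
      ab ≫ f'.hom = (yon S).map pb ≫ bb ∧ as ≫ f.hom = (yon S).map ps ≫ bs ∧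
      bb ≫ g'.hom = (yon S).map qb ≫ cb ∧ bs ≫ g.hom = (yon S).map qs ≫ cs ∧
      as ≫ iX.hom = (yon S).map tU ≫ ab ∧ bs ≫ iY.hom = (yon S).map tV ≫ bb ∧
      IsPullback tV.left qs.left qb.left tW.left ∧ IsPullback tU.left ps.left pb.left tV.left := by
  have hX' := X'.property
  have hY' := Y'.property
  have hB' := B'.property
  have hbcE := AlgSp.repWith_isStableUnderBaseChange (S := S) @Etale
  have hbcS := AlgSp.repWith_isStableUnderBaseChange (S := S) @Surjective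
  have sq2 : IsPullback iX.hom f.hom f'.hom iY.hom :=
    IsPullback.of_bot hcX (congrArg (fun φ => φ.hom) w) hcY
  obtain ⟨Wb, cb, hcb, hcbs⟩ := hB'.atlas
  have sqW := hB.rep.isPullback cb
  have htW : AlgSp.thick (hB.rep.snd cb).left := hB.property_snd cb
  have hcs : AlgSp.RepWith @Etale (hB.rep.fst cb) := hbcE.of_isPullback sqW.flip hcb
  have hcss : AlgSp.RepWith @Surjective (hB.rep.fst cb) := hbcS.of_isPullback sqW.flip hcbs
  obtain ⟨Vb, Vs, bb, bs, qb, qs, tV, hbb, hbs, hbss, hbbimp, c2b, c2s, cV, sqV⟩ :=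
    Groth.Agent.Lib.H5bFlatCI2.exists_relative_cartesian_chart_surj hY' hcY cb (hB.rep.fst cb)
      (hB.rep.snd cb) hcb hcs hcss sqW.w
  obtain ⟨Ub, Us, ab, as, pb, ps, tU, hab, has, hass, habimp, c1b, c1s, cU, sqU⟩ :=
    Groth.Agent.Lib.H5bFlatCI2.exists_relative_cartesian_chart_surj hX' sq2 bb bs tV hbb hbs hbss cV
  exact ⟨Wb, _, Vb, Vs, Ub, Us, cb, hB.rep.fst cb, bb, bs, ab, as, hB.rep.snd cb, tV, tU, qb, qs,
    pb, ps, ⟨hcb, hcbs⟩, ⟨hcs, hcss⟩, ⟨hbb, hbbimp hcbs⟩, ⟨hbs, hbss⟩,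
    ⟨hab, habimp (hbbimp hcbs)⟩, ⟨has, hass⟩, sqW, htW, c1b, c1s, c2b, c2s, cU, cV, sqV, sqU⟩

/-- `LocP P` can be tested on one chart diagram whose source chart is surjective. -/
theorem locP_of_surj_chart {P : MorphismProperty Scheme.{u}} (hP : Good P)
    [IsZariskiLocalAtSource P]
    {X Y : AlgSp.Sp S} (hX : IsAlgSpace X) (hY : IsAlgSpace Y) (f : X ⟶ Y)
    {U V : Over S} (a : (yon S).obj U ⟶ X) (b : (yon S).obj V ⟶ Y) (h : U ⟶ V)
    (ha : RepWith @Etale a) (has : RepWith @Surjective a) (hb : RepWith @Etale b)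
    (hc : a ≫ f = (yon S).map h ≫ b) (hPh : P h.left) : LocP P f := by
  rw [Groth.Agent.Lib.Helper12.LocPNbhd.locP_iff_forall_hasAtMor hP hX hY f]
  intro x
  obtain ⟨u, hu⟩ := Groth.Agent.S10177.surjective_ofPt a has x
  refine ⟨U, V, a, b, h, u, ha, hb, hc, hu, ⊤, trivial, ?_⟩
  haveI := hP.comp
  exact P.comp_mem _ _ (hP.hEt _ inferInstance) hPh

/-- transfer of `LocP P` between a morphism and its base change, given the implication for one
pair of chart diagrams with surjective source chart. -/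
theorem locP_iff_of_cube {P : MorphismProperty Scheme.{u}} (hP : Good P)
    [IsZariskiLocalAtSource P]
    {X X' Y Y' : AlgSp.Space S} (iX : X ⟶ X') (iY : Y ⟶ Y') (f : X ⟶ Y) (f' : X' ⟶ Y')
    (sq2 : IsPullback iX.hom f.hom f'.hom iY.hom)
    {Ub Us Vb Vs : Over S} (ab : (yon S).obj Ub ⟶ X'.obj) (as : (yon S).obj Us ⟶ X.obj)
    (bb : (yon S).obj Vb ⟶ Y'.obj) (bs : (yon S).obj Vs ⟶ Y.obj) (pb : Ub ⟶ Vb) (ps : Us ⟶ Vs)
    (hab : RepWith @Etale ab) (habs : RepWith @Surjective ab) (hbb : RepWith @Etale bb)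
    (has : RepWith @Etale as) (hbs : RepWith @Etale bs)
    (c1b : ab ≫ f'.hom = (yon S).map pb ≫ bb) (c1s : as ≫ f.hom = (yon S).map ps ≫ bs)
    (himp : P ps.left → P pb.left) : LocP P f.hom ↔ LocP P f'.hom := by
  constructor
  · intro hf
    exact locP_of_surj_chart hP X'.property Y'.property f'.hom ab bb pb hab habs hbb c1b
      (himp (hf as bs ps has hbs c1s))
  · intro hf'
    exact hP.locP_baseChange X'.property Y'.property Y.property sq2 hf'

/-- the thin source chart of a cube surjects onto the points of the thick one, so `iX` is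
surjective on points. -/
theorem surjective_points_of_cube {X X' : AlgSp.Space S} (iX : X ⟶ X')
    {Ub Us : Over S} (ab : (yon S).obj Ub ⟶ X'.obj) (as : (yon S).obj Us ⟶ X.obj) (tU : Us ⟶ Ub)
    (habs : RepWith @Surjective ab) (cU : as ≫ iX.hom = (yon S).map tU ≫ ab)
    (hsU : Surjective tU.left) : Function.Surjective (AlgSp.Points.map iX.hom) := by
  intro x'
  obtain ⟨ub, hub⟩ := Groth.Agent.S10177.surjective_ofPt ab habs x'
  obtain ⟨us, hus⟩ := hsU.surj ub
  refine ⟨AlgSp.Points.ofPt as us, ?_⟩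
  rw [AlgSp.Points.map_ofPt, cU, Groth.Agent.S10176.ofPt_map_comp, hus, hub]

end Groth.Agent.Lib.H5bDeform
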