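import Mathlib
import Groth.Agent.Lib.H5bDeform
import Groth.Agent.Lib.H5bFibCrit
import Groth.Agent.Lib.Helper2Thick
import Groth.Agent.Lib.Helper2Deform
import Groth.Agent.S1317
import Groth.Agent.S1320
import Groth.Agent.S1321
import Groth.Agent.S1322
import Groth.Agent.S1312

/-!
# Deformations over finite order thickenings of algebraic spaces (helper5)

* `isFiniteOrderThickening_of_chart`: the pullback of a finite order thickening of algebraic
  spaces to any étale scheme chart (affine or not) is a finite order thickening of schemes.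
* `core_fin`: `LocP P f ↔ LocP P f'` for the seven classes, for `f` the base change of `f'` along
  a finite order thickening of the base with `X'` flat over the base.
-/

set_option autoImplicit false
universe u

namespace Groth.Agent.Lib.H5bDeformFin

open CategoryTheory CategoryTheory.Limits AlgebraicGeometry Opposite AlgSp TopologicalSpace
open Groth.Agent.Lib.Helper12.LocPCases

variable {S : Scheme.{u}}

theorem isFiniteOrderThickening_of_chart {B B' : AlgSp.Sp S} {iB : B ⟶ B'}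
    (hB : AlgSp.IsFinThickMor iB)
    {Wb Ws : Over S} (cb : (yon S).obj Wb ⟶ B') (cs : (yon S).obj Ws ⟶ B) (tW : Ws ⟶ Wb)
    (hcb : RepWith @Etale cb) (sq : IsPullback cs ((yon S).map tW) iB cb) :
    MoreMor.IsFiniteOrderThickening tW.left := by
  obtain ⟨n, hth, hn⟩ := hB
  have htW : AlgSp.thick tW.left := hth.2 cb cs tW sq
  haveI : IsClosedImmersion tW.left := htW.1
  refine ⟨htW, n + 1, ?_⟩
  rw [Scheme.IdealSheafData.zero_eq_bot, eq_bot_iff]
  refine Scheme.IdealSheafData.le_of_iSup_eq_top (ι := Wb.left.affineOpens) (fun i => i) ?_ ?_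
  · rw [eq_top_iff]
    intro x _
    obtain ⟨_, ⟨U, hU, rfl⟩, hxU, -⟩ :=
      Wb.left.isBasis_affineOpens.exists_subset_of_mem_open (Set.mem_univ x) isOpen_univ
    exact Opens.mem_iSup.mpr ⟨⟨U, hU⟩, hxU⟩
  · rintro ⟨V', hV'⟩
    let Vo : Over S := Over.mk (V'.ι ≫ Wb.hom)
    let Wo : Over S := Over.mk ((tW.left ⁻¹ᵁ V').ι ≫ Ws.hom)
    let jV : Vo ⟶ Wb := Over.homMk V'.ι rfl
    let jW : Wo ⟶ Ws := Over.homMk (tW.left ⁻¹ᵁ V').ι rfl
    let r : Wo ⟶ Vo := Over.homMk (tW.left ∣_ V') (by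
      show (tW.left ∣_ V') ≫ V'.ι ≫ Wb.hom = (tW.left ⁻¹ᵁ V').ι ≫ Ws.hom
      rw [← Category.assoc, morphismRestrict_ι, Category.assoc, Over.w tW])
    have hw : r ≫ jV = jW ≫ tW := by
      ext
      exact morphismRestrict_ι _ _
    have sq0 : IsPullback ((yon S).map jW) ((yon S).map r) ((yon S).map tW) ((yon S).map jV) :=
      (Groth.Agent.Lib.H5bFibCrit.isPullback_yon_of_left r jW jV tW hw
        (isPullback_morphismRestrict tW.left V')).flip
    have sq1 : IsPullback ((yon S).map jW ≫ cs) ((yon S).map r) iB ((yon S).map jV ≫ cb) :=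
      sq0.paste_horiz sq
    have hje : RepWith @Etale ((yon S).map jV ≫ cb) :=
      (repWith_isMultiplicative (S := S) @Etale).comp_mem _ _
        ((repWith_yon_map_iff @Etale jV).2 (inferInstance : Etale V'.ι)) hcb
    have hpow : (tW.left ∣_ V').ker ^ (n + 1) = ⊥ :=
      hn ((yon S).map jV ≫ cb) ((yon S).map jW ≫ cs) r hV' hje sq1
    haveI : IsAffine V'.toScheme := hV'
    have h1 := congr(($hpow).ideal ⟨⊤, isAffineOpen_top _⟩)
    rw [Scheme.IdealSheafData.ideal_pow, Scheme.IdealSheafData.ideal_bot, Pi.pow_apply,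
      Scheme.ker_morphismRestrict_ideal] at h1
    show (tW.left.ker ^ (n + 1)).ideal ⟨V', hV'⟩ ≤ (⊥ : Wb.left.IdealSheafData).ideal ⟨V', hV'⟩
    rw [Scheme.IdealSheafData.ideal_pow, Scheme.IdealSheafData.ideal_bot, Pi.pow_apply]
    have key : ∀ (U₁ : Wb.left.affineOpens), U₁.1 = V' →
        (tW.left.ker.ideal U₁) ^ (n + 1) = ⊥ → (tW.left.ker.ideal ⟨V', hV'⟩) ^ (n + 1) = ⊥ := by
      rintro ⟨U₁, hU₁⟩ rfl h
      exact h
    exact (key ⟨V'.ι ''ᵁ ⊤, (isAffineOpen_top V'.toScheme).image_of_isOpenImmersion _⟩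
      (by simp) h1).le

/-- the common core of the deformation statements over a finite order thickening. -/
theorem core_fin {X X' Y Y' B B' : AlgSp.Space S} (iX : X ⟶ X') (iY : Y ⟶ Y')
    (iB : B ⟶ B') (f : X ⟶ Y) (f' : X' ⟶ Y') (g : Y ⟶ B) (g' : Y' ⟶ B')
    (hcX : IsPullback iX.hom (f ≫ g).hom (f' ≫ g').hom iB.hom)
    (hcY : IsPullback iY.hom g.hom g'.hom iB.hom)
    (w : iX ≫ f' = f ≫ iY)
    (hB : AlgSp.IsFinThickMor iB.hom) (hflat : AlgSp.LocP @Flat (f' ≫ g').hom) :
    Function.Surjective (AlgSp.Points.map iX.hom) ∧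
    (AlgSp.LocP @Flat f.hom ↔ AlgSp.LocP @Flat f'.hom) ∧
    (AlgSp.LocP @LocallyOfFiniteType f.hom ↔ AlgSp.LocP @LocallyOfFiniteType f'.hom) ∧
    (AlgSp.LocP (@LocallyQuasiFinite ⊓ @LocallyOfFiniteType) f.hom ↔
      AlgSp.LocP (@LocallyQuasiFinite ⊓ @LocallyOfFiniteType) f'.hom) ∧
    (AlgSp.LocP @LocallyOfFinitePresentation f.hom ↔
      AlgSp.LocP @LocallyOfFinitePresentation f'.hom) ∧
    (AlgSp.LocP @Smooth f.hom ↔ AlgSp.LocP @Smooth f'.hom) ∧
    (AlgSp.LocP (@LocallyOfFiniteType ⊓ @FormallyUnramified) f.hom ↔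
      AlgSp.LocP (@LocallyOfFiniteType ⊓ @FormallyUnramified) f'.hom) ∧
    (AlgSp.LocP @Etale f.hom ↔ AlgSp.LocP @Etale f'.hom) := by
  have sq2 : IsPullback iX.hom f.hom f'.hom iY.hom :=
    IsPullback.of_bot hcX (congrArg (fun φ => φ.hom) w) hcY
  have hBt : AlgSp.IsThickMor iB.hom := by
    obtain ⟨n, h, -⟩ := hB
    exact h
  obtain ⟨Wb, Ws, Vb, Vs, Ub, Us, cb, cs, bb, bs, ab, as, tW, tV, tU, qb, qs, pb, ps, ⟨hcb, hcbs⟩,
    ⟨hcs, hcss⟩, ⟨hbb, hbbs⟩, ⟨hbs, hbss⟩, ⟨hab, habs⟩, ⟨has, hass⟩, sqW, htW, c1b, c1s, c2b, c2s,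
    cU, cV, sqV, sqU⟩ :=
    Groth.Agent.Lib.H5bDeform.exists_deform_cube iX iY iB f f' g g' hcX hcY w hBt
  have c12 : ab ≫ (f' ≫ g').hom = (AlgSp.yon S).map (pb ≫ qb) ≫ cb := by
    show ab ≫ f'.hom ≫ g'.hom = _
    rw [← Category.assoc, c1b, Category.assoc, c2b, Functor.map_comp, Category.assoc]
  haveI k2 : Flat (pb.left ≫ qb.left) := hflat ab cb (pb ≫ qb) hab hcb c12
  have hthW : MoreMor.IsFiniteOrderThickening tW.left :=
    isFiniteOrderThickening_of_chart hB cb cs tW hcb sqW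
  have hthV : MoreMor.IsFiniteOrderThickening tV.left :=
    Groth.Agent.Lib.Helper2.Thick.fthick_baseChange tV.left tW.left qs.left qb.left hthW sqV
  have hsU : Surjective tU.left :=
    MorphismProperty.of_isPullback (P := @Surjective) sqU.flip hthV.1.2
  have hcXs : IsPullback tU.left (ps.left ≫ qs.left) (pb.left ≫ qb.left) tW.left :=
    sqU.paste_vert sqV
  refine ⟨Groth.Agent.Lib.H5bDeform.surjective_points_of_cube iX ab as tU habs cU hsU,
    ?_, ?_, ?_, ?_, ?_, ?_, ?_⟩
  · exact Groth.Agent.Lib.H5bDeform.locP_iff_of_cube good_flat iX iY f f' sq2 ab as bb bs pb ps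
      hab habs hbb has hbs c1b c1s
      (fun h => (Groth.Agent.S1317.result tU.left tV.left tW.left ps.left pb.left qs.left qb.left
        hthW hcXs sqV sqU.w).1 h)
  · exact Groth.Agent.Lib.H5bDeform.locP_iff_of_cube good_lft iX iY f f' sq2 ab as bb bs pb ps
      hab habs hbb has hbs c1b c1s
      (fun h => by
        haveI : LocallyOfFiniteType ps.left := h
        exact Groth.Agent.Lib.Helper2.Thick.lft_of_fthick tU.left tV.left ps.left pb.left hthV sqU)
  · exact Groth.Agent.Lib.H5bDeform.locP_iff_of_cube good_lqf iX iY f f' sq2 ab as bb bs pb ps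
      hab habs hbb has hbs c1b c1s
      (fun h => by
        haveI : LocallyOfFiniteType ps.left := h.2
        haveI : LocallyOfFiniteType pb.left := Groth.Agent.Lib.Helper2.Thick.lft_of_fthick tU.left tV.left ps.left pb.left hthV sqU
        exact ⟨(Groth.Agent.S1312.result tU.left tV.left ps.left pb.left hthV.1 sqU).1 h.1,
          inferInstance⟩)
  · exact Groth.Agent.Lib.H5bDeform.locP_iff_of_cube good_lfp iX iY f f' sq2 ab as bb bs pb ps
      hab habs hbb has hbs c1b c1s
      (fun h => (Groth.Agent.S1320.result tU.left tV.left tW.left ps.left pb.left qs.left qb.left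
        hthW hcXs sqV sqU.w).1 h)
  · exact Groth.Agent.Lib.H5bDeform.locP_iff_of_cube good_smooth iX iY f f' sq2 ab as bb bs pb ps
      hab habs hbb has hbs c1b c1s
      (fun h => (Groth.Agent.S1321.result tU.left tV.left tW.left ps.left pb.left qs.left qb.left
        hthW hcXs sqV sqU.w).1 h)
  · exact Groth.Agent.Lib.H5bDeform.locP_iff_of_cube good_unram iX iY f f' sq2 ab as bb bs pb ps
      hab habs hbb has hbs c1b c1s
      (fun h => by
        haveI : LocallyOfFiniteType ps.left := h.1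
        haveI : FormallyUnramified ps.left := h.2
        exact ⟨Groth.Agent.Lib.Helper2.Thick.lft_of_fthick tU.left tV.left ps.left pb.left hthV sqU,
          Groth.Agent.Lib.Helper2.Thick.fu_of_fthick tU.left tV.left ps.left pb.left hthV sqU⟩)
  · exact Groth.Agent.Lib.H5bDeform.locP_iff_of_cube good_etale iX iY f f' sq2 ab as bb bs pb ps
      hab habs hbb has hbs c1b c1s
      (fun h => (Groth.Agent.S1322.result tU.left tV.left tW.left ps.left pb.left qs.left qb.left
        hthW hcXs sqV sqU.w).1 h)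

end Groth.Agent.Lib.H5bDeformFin
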