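import Mathlib
import Groth.Prelude
import Groth.Agent.Lib.H5bQcEtale
import Groth.Agent.Lib.H5bDecQs
import Groth.Agent.Lib.Helper9SpPoint6
import Groth.Agent.S10176

/-!
# Degree stratification for a flat, separated, lfp, locally quasi-finite map from a scheme to an
algebraic space with universally bounded fibres
-/

set_option autoImplicit false
set_option linter.style.haveILetI false
universe u
open CategoryTheory CategoryTheory.Limits AlgebraicGeometry

namespace Groth.Agent.Lib.H5bDegStrat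

open AlgSp
open Groth.Agent.Lib.R2H4.FibRankA Groth.Agent.Lib.R2H4.FibRankB Groth.Agent.Lib.R2H4.FibRankC
  Groth.Agent.Lib.R2H4.FibRankD Groth.Agent.Lib.R2H4.FibRankE Groth.Agent.Lib.R2H4.FibRankF
  Groth.Agent.Lib.R2H4.FibRankG

section scheme

/-- the fibre degree is invariant under isomorphisms of the source. -/
lemma fibRk_congr_iso {P P' T : Scheme.{u}} (q : P ⟶ T) (q' : P' ⟶ T) (e : P ≅ P')
    (he : e.hom ≫ q' = q) (t : T) : fibRk q t = fibRk q' t := by
  unfold fibRk
  have hcomm : q ≫ 𝟙 T = e.hom ≫ q' := by rw [Category.comp_id, he]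
  have hcomm' : T.fromSpecResidueField t ≫ 𝟙 T = 𝟙 _ ≫ T.fromSpecResidueField t := by simp
  let m : pullback q (T.fromSpecResidueField t) ⟶ pullback q' (T.fromSpecResidueField t) :=
    pullback.map q (T.fromSpecResidueField t) q' (T.fromSpecResidueField t) e.hom (𝟙 _) (𝟙 _)
      hcomm hcomm'
  haveI : IsIso m := by dsimp only [m]; infer_instance
  refine rk_congr (K := T.residueField t) _ _ (asIso m) ?_
  change m ≫ pullback.snd q' (T.fromSpecResidueField t) = pullback.snd q (T.fromSpecResidueField t)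
  dsimp only [m, pullback.map]
  rw [pullback.lift_snd, Category.comp_id]

/-- the fibre degree of a base change. -/
lemma fibRk_eq_iff_of_isPullback {P R T W : Scheme.{u}} {h : R ⟶ W} [LocallyQuasiFinite h]
    {g : T ⟶ W} {fst : P ⟶ R} {snd : P ⟶ T} (sq : IsPullback fst snd h g) (t : T) (r : ℕ) :
    fibRk snd t = r ↔ fibRk h (g t) = r := by
  rw [fibRk_congr_iso snd (pullback.snd h g) sq.isoPullback sq.isoPullback_hom_snd t]
  exact ⟨fibRk_eq_of_pullback_eq h g t r, fibRk_pullback_eq h g t r⟩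

end scheme

variable {S : Scheme.{u}} {X : Sp S} {W : Over S} (w : (yon S).obj W ⟶ X)

/-- two squares over the same chart have the same fibre degrees. -/
lemma fibRk_square_congr {T P P' : Over S} {ξ : (yon S).obj T ⟶ X} {a : (yon S).obj P ⟶ (yon S).obj W}
    {b : P ⟶ T} {a' : (yon S).obj P' ⟶ (yon S).obj W} {b' : P' ⟶ T}
    (sq : IsPullback a ((yon S).map b) w ξ) (sq' : IsPullback a' ((yon S).map b') w ξ)
    (t : ↥T.left) : fibRk b.left t = fibRk b'.left t := by
  let e0 := sq.isoIsPullback _ _ sq'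
  let e : P ≅ P' := (yon S).preimageIso e0
  have he : e.hom ≫ b' = b := by
    apply (yon S).map_injective
    rw [Functor.map_comp, Functor.preimageIso_hom, Functor.map_preimage]
    exact sq.isoIsPullback_hom_snd _ _ sq'
  exact fibRk_congr_iso b.left b'.left ((Over.forget S).mapIso e)
    (by rw [Functor.mapIso_hom, ← he]; rfl) t

/-- base change of squares. -/
lemma fibRk_square_bc {T T'' P P'' : Over S} {ξ : (yon S).obj T ⟶ X} (φ : T'' ⟶ T)
    {ξ'' : (yon S).obj T'' ⟶ X} (hξ : (yon S).map φ ≫ ξ = ξ'')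
    {a : (yon S).obj P ⟶ (yon S).obj W} {b : P ⟶ T} (sq : IsPullback a ((yon S).map b) w ξ)
    {a'' : (yon S).obj P'' ⟶ (yon S).obj W} {b'' : P'' ⟶ T''}
    (sq'' : IsPullback a'' ((yon S).map b'') w ξ'')
    [LocallyQuasiFinite b.left] (t'' : ↥T''.left) (r : ℕ) :
    fibRk b''.left t'' = r ↔ fibRk b.left (φ.left t'') = r := by
  subst hξ
  obtain ⟨a₀, rfl⟩ := (yon S).map_surjective a
  obtain ⟨a₀'', rfl⟩ := (yon S).map_surjective a''
  obtain ⟨ρ, -, hρ⟩ := Groth.Agent.Lib.H5bDecQs.isPullback_left sq.flip φ sq''.flip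
  have hw : b'' ≫ φ = ρ ≫ b := by
    apply (yon S).map_injective
    simp only [Functor.map_comp]
    exact hρ.w
  have h1 : IsPullback b'' ρ φ b := IsPullback.of_map (yon S) hw hρ
  have h2 : IsPullback b''.left ρ.left φ.left b.left := h1.map (Over.forget S)
  exact fibRk_eq_iff_of_isPullback h2.flip t'' r

variable {w}

/-- fibre degrees over field points are bounded natural numbers. -/
lemma fibRk_fieldPt (hfl : RepWith @Flat w) {n : ℕ} (hb : W4dec.DegFibresLE n w) (q : FieldPt X)
    {P : Over S} {a : (yon S).obj P ⟶ (yon S).obj W} {b : P ⟶ q.pt}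
    (sq : IsPullback a ((yon S).map b) w q.toHom) (s : ↥q.pt.left) :
    ∃ r : ℕ, r ≤ n ∧ fibRk b.left s = r := by
  obtain ⟨hfin, hrk⟩ := hb q P b a sq.flip
  haveI := hfin
  haveI : Flat b.left := hfl.2 _ _ b sq
  exact ⟨b.left.finrank s, hrk s, fibRk_eq_finrank b.left s⟩


end Groth.Agent.Lib.H5bDegStrat
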