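import Mathlib
import Groth.Prelude
import Groth.Agent.Lib.H5bQcEtale
import Groth.Agent.Lib.H5bDecQs
import Groth.Agent.Lib.Helper9SpPoint6
import Groth.Agent.S10176
import Groth.Agent.Lib.H5bDegStratA

/-!
# Degree stratification for a flat, separated, lfp, locally quasi-finite map from a scheme to an
algebraic space with universally bounded fibres
-/

set_option autoImplicit false
set_option linter.style.haveILetI false
universe u
open CategoryTheory CategoryTheory.Limits AlgebraicGeometry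

namespace Groth.Agent.Lib.H5bDegStrat

open AlgSp
open Groth.Agent.Lib.R2H4.FibRankA Groth.Agent.Lib.R2H4.FibRankB Groth.Agent.Lib.R2H4.FibRankC
  Groth.Agent.Lib.R2H4.FibRankD Groth.Agent.Lib.R2H4.FibRankE Groth.Agent.Lib.R2H4.FibRankF
  Groth.Agent.Lib.R2H4.FibRankG


variable {S : Scheme.{u}} {X : Sp S} {W : Over S} {w : (yon S).obj W ⟶ X}

/-- fibre degrees of every square are bounded natural numbers. -/
lemma fibRk_square_nat (hfl : RepWith @Flat w) (hqf : RepWith @LocallyQuasiFinite w) {n : ℕ}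
    (hb : W4dec.DegFibresLE n w) {T P : Over S} {ξ : (yon S).obj T ⟶ X}
    {a : (yon S).obj P ⟶ (yon S).obj W} {b : P ⟶ T} (sq : IsPullback a ((yon S).map b) w ξ)
    (t : ↥T.left) : ∃ r : ℕ, r ≤ n ∧ fibRk b.left t = r := by
  have hrep : Representable w := hfl.1
  have hq : (FieldPt.ofPt ξ t).toHom = (yon S).map (Over.homMk (T.left.fromSpecResidueField t) rfl) ≫ ξ :=
    FieldPt.toHom_ofPt ξ t
  have sqq := hrep.isPullback (FieldPt.ofPt ξ t).toHom
  obtain ⟨a₁, ha₁⟩ := (yon S).map_surjective (hrep.fst (FieldPt.ofPt ξ t).toHom)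
  rw [← ha₁] at sqq
  obtain ⟨r, hr, h1⟩ := fibRk_fieldPt hfl hb (FieldPt.ofPt ξ t) sqq (IsLocalRing.closedPoint _)
  haveI : LocallyQuasiFinite b.left := hqf.2 _ _ b sq
  refine ⟨r, hr, ?_⟩
  let ι : (FieldPt.ofPt ξ t).pt ⟶ T := Over.homMk (T.left.fromSpecResidueField t) rfl
  have hq' : (yon S).map ι ≫ ξ = (FieldPt.ofPt ξ t).toHom := hq.symm
  have h2 := (fibRk_square_bc w ι hq' sq sqq
    (IsLocalRing.closedPoint (FieldPt.ofPt ξ t).K) r).1 h1
  have h3 : ι.left (IsLocalRing.closedPoint (FieldPt.ofPt ξ t).K) = t :=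
    Scheme.fromSpecResidueField_apply _ _
  rwa [h3] at h2

/-- the degree function on the points of the space. -/
noncomputable def degAt (hrep : Representable w) (x : Points X) : ℕ :=
  Cardinal.toNat (fibRk (hrep.snd (Quotient.out x).toHom).left
    (IsLocalRing.closedPoint (Quotient.out x).K))

/-- the fibre degree of any square at a point is the degree function at its image. -/
lemma fibRk_eq_degAt (hfl : RepWith @Flat w) (hqf : RepWith @LocallyQuasiFinite w) {n : ℕ}
    (hb : W4dec.DegFibresLE n w) {T P : Over S} {ξ : (yon S).obj T ⟶ X}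
    {a : (yon S).obj P ⟶ (yon S).obj W} {b : P ⟶ T} (sq : IsPullback a ((yon S).map b) w ξ)
    (t : ↥T.left) : fibRk b.left t = (degAt hfl.1 (Points.ofPt ξ t) : Cardinal.{u}) := by
  have hrep : Representable w := hfl.1
  let p : FieldPt X := Quotient.out (Points.ofPt ξ t)
  have hp : Points.mk p = Points.ofPt ξ t := Quotient.out_eq _
  let q := FieldPt.ofPt ξ t
  have hpq : Points.mk p = Points.mk q := hp
  obtain ⟨Ω, hΩ, w', α, β, hαβ⟩ :=
    Groth.Agent.Lib.Helper9.SpPoint.rel_toHom (Points.mk_eq_mk_iff.1 hpq)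
  -- the common extension
  have sqζ := hrep.isPullback ((yon S).map α ≫ p.toHom)
  obtain ⟨a₁, ha₁⟩ := (yon S).map_surjective (hrep.fst ((yon S).map α ≫ p.toHom))
  rw [← ha₁] at sqζ
  obtain ⟨r, hr, h1⟩ := fibRk_square_nat hfl hqf hb sqζ (IsLocalRing.closedPoint Ω)
  -- transfer to `p`
  have sqp := hrep.isPullback p.toHom
  obtain ⟨a₂, ha₂⟩ := (yon S).map_surjective (hrep.fst p.toHom)
  rw [← ha₂] at sqp
  haveI : LocallyQuasiFinite (hrep.snd p.toHom).left := hqf.2 _ _ _ sqp
  have h2 := (fibRk_square_bc w α rfl sqp sqζ (IsLocalRing.closedPoint Ω) r).1 h1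
  have h3 : fibRk (hrep.snd p.toHom).left (IsLocalRing.closedPoint p.K) = r := by
    have : α.left (IsLocalRing.closedPoint Ω) = IsLocalRing.closedPoint p.K :=
      Subsingleton.elim (α := PrimeSpectrum p.K) _ _
    rwa [this] at h2
  have hD : degAt hfl.1 (Points.ofPt ξ t) = r := by
    unfold degAt
    rw [h3, Cardinal.toNat_natCast]
  -- transfer to `ξ`
  haveI : LocallyQuasiFinite b.left := hqf.2 _ _ b sq
  have hζ : (yon S).map (β ≫ (Over.homMk (T.left.fromSpecResidueField t) rfl : q.pt ⟶ T)) ≫ ξ =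
      (yon S).map α ≫ p.toHom := by
    rw [Functor.map_comp, Category.assoc, ← FieldPt.toHom_ofPt, ← hαβ]
  have h4 := (fibRk_square_bc w _ hζ sq sqζ (IsLocalRing.closedPoint Ω) r).1 h1
  have h5 : (β ≫ (Over.homMk (T.left.fromSpecResidueField t) rfl : q.pt ⟶ T)).left
      (IsLocalRing.closedPoint Ω) = t := by
    rw [Over.comp_left, Scheme.Hom.comp_apply]
    exact Scheme.fromSpecResidueField_apply _ _
  rw [h5] at h4
  rw [h4, hD]

/-- the degree function is bounded. -/
lemma degAt_le (hfl : RepWith @Flat w) (hqf : RepWith @LocallyQuasiFinite w) {n : ℕ}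
    (hb : W4dec.DegFibresLE n w) (x : Points X) : degAt hfl.1 x ≤ n := by
  have hrep : Representable w := hfl.1
  obtain ⟨p, rfl⟩ := Points.mk_surjective x
  have sqp := hrep.isPullback p.toHom
  obtain ⟨a₂, ha₂⟩ := (yon S).map_surjective (hrep.fst p.toHom)
  rw [← ha₂] at sqp
  obtain ⟨r, hr, h1⟩ := fibRk_square_nat hfl hqf hb sqp (IsLocalRing.closedPoint p.K)
  have h2 := fibRk_eq_degAt hfl hqf hb sqp (IsLocalRing.closedPoint p.K)
  rw [Points.ofPt_toHom] at h2
  rw [h2, Nat.cast_inj] at h1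
  rw [h1]
  exact hr

/-- the four properties of a square. -/
lemma qf_square (hfl : RepWith @Flat w) (hfp : RepWith @LocallyOfFinitePresentation w)
    (hsep : RepWith @IsSeparated w) (hqf : RepWith @LocallyQuasiFinite w) {T P : Over S}
    {ξ : (yon S).obj T ⟶ X} {a : (yon S).obj P ⟶ (yon S).obj W} {b : P ⟶ T}
    (sq : IsPullback a ((yon S).map b) w ξ) : Groth.Agent.Lib.H5bQcEtale.QF b.left :=
  ⟨hfl.2 _ _ b sq, hfp.2 _ _ b sq, hsep.2 _ _ b sq, hqf.2 _ _ b sq⟩

/-- the strata are closed. -/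
lemma isClosed_degAt_lt (hfl : RepWith @Flat w) (hfp : RepWith @LocallyOfFinitePresentation w)
    (hsep : RepWith @IsSeparated w) (hqf : RepWith @LocallyQuasiFinite w) {n : ℕ}
    (hb : W4dec.DegFibresLE n w) (r : ℕ) : IsClosed {x : Points X | degAt hfl.1 x < r} := by
  have hrep : Representable w := hfl.1
  rw [← isOpen_compl_iff, Points.isOpen_iff]
  intro T ξ
  have sq := hrep.isPullback ξ
  obtain ⟨a₂, ha₂⟩ := (yon S).map_surjective (hrep.fst ξ)
  rw [← ha₂] at sq
  have hq := qf_square hfl hfp hsep hqf sq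
  have hfin : ∀ t, fibRk (hrep.snd ξ).left t < Cardinal.aleph0 := fun t => by
    obtain ⟨r, -, h⟩ := fibRk_square_nat hfl hqf hb sq t
    rw [h]
    exact Cardinal.natCast_lt_aleph0
  obtain ⟨-, hcl, -⟩ := hq.strat hfin
  rcases Nat.eq_zero_or_pos r with rfl | hr
  · have : {x : Points X | degAt hfl.1 x < 0}ᶜ = Set.univ := by
      ext x; simp
    rw [this, Set.preimage_univ]
    exact isOpen_univ
  · have : Points.ofPt ξ ⁻¹' {x : Points X | degAt hfl.1 x < r}ᶜ =
        {t : ↥T.left | Cardinal.toNat (fibRk (hrep.snd ξ).left t) ≤ r - 1}ᶜ := by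
      ext t
      simp only [Set.mem_preimage, Set.mem_compl_iff, Set.mem_ofPred_eq]
      rw [fibRk_eq_degAt hfl hqf hb sq t, Cardinal.toNat_natCast]
      omega
    rw [this]
    exact (hcl (r - 1)).isOpen_compl

/-- **core**: a square is finite locally free of degree `r` iff the degree function is `r` on the
image. -/
lemma finLocFreeOfDeg_iff (hfl : RepWith @Flat w) (hfp : RepWith @LocallyOfFinitePresentation w)
    (hsep : RepWith @IsSeparated w) (hqf : RepWith @LocallyQuasiFinite w) {n : ℕ}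
    (hb : W4dec.DegFibresLE n w) {T P : Over S} {ξ : (yon S).obj T ⟶ X}
    {a : (yon S).obj P ⟶ (yon S).obj W} {b : P ⟶ T} (sq : IsPullback a ((yon S).map b) w ξ)
    (r : ℕ) :
    Mor2.IsFinLocFreeOfDeg r b.left ↔ ∀ t, degAt hfl.1 (Points.ofPt ξ t) = r := by
  have hq := qf_square hfl hfp hsep hqf sq
  have hfin : ∀ t, fibRk b.left t < Cardinal.aleph0 := fun t => by
    obtain ⟨r, -, h⟩ := fibRk_square_nat hfl hqf hb sq t
    rw [h]
    exact Cardinal.natCast_lt_aleph0
  obtain ⟨-, -, hiff⟩ := hq.strat hfin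
  have h1 := hiff T.left (𝟙 _) r
  have h2 : Mor2.IsFinLocFreeOfDeg r (pullback.snd b.left (𝟙 T.left)) ↔
      Mor2.IsFinLocFreeOfDeg r b.left := by
    have e : pullback.snd b.left (𝟙 T.left) = pullback.fst b.left (𝟙 T.left) ≫ b.left := by
      rw [pullback.condition, Category.comp_id]
    rw [e]
    exact MorphismProperty.cancel_left_of_respectsIso (AlgSp.finLocFreeOfDeg.{u} r)
      (pullback.fst b.left (𝟙 T.left)) b.left
  rw [← h2, h1]
  refine forall_congr' fun t => ?_
  change Cardinal.toNat (fibRk b.left t) = r ↔ _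
  rw [fibRk_eq_degAt hfl hqf hb sq t, Cardinal.toNat_natCast]

end Groth.Agent.Lib.H5bDegStrat
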