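import Mathlib

/-!
# A normality criterion (helper5, second run)

Let `A` be a domain and `x ≠ 0` an element with `A/xA` reduced.  If `A` embeds into an integrally
closed domain `Q` in such a way that every element of `Q` becomes, after multiplication by a power
of the image of `x`, the image of an element of `A`, then `A` is integrally closed.
-/

set_option autoImplicit false

namespace Groth.Agent.Lib.H5b

open Polynomial

theorem isIntegrallyClosed_of_isRadical_span {A Q : Type*} [CommRing A] [IsDomain A]
    [CommRing Q] [IsDomain Q] [IsIntegrallyClosed Q]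
    (ψ : A →+* Q) (hψ : Function.Injective ψ) (x : A) (hx : x ≠ 0)
    (hred : (Ideal.span {x}).IsRadical)
    (hQ : ∀ q : Q, ∃ (k : ℕ) (a : A), ψ a = ψ x ^ k * q) : IsIntegrallyClosed A := by
  rw [isIntegrallyClosed_iff (FractionRing A)]
  intro z hz
  obtain ⟨u, v, hv, rfl⟩ := IsFractionRing.div_surjective A z
  have hv0 : v ≠ 0 := nonZeroDivisors.ne_zero hv
  have hvF : algebraMap A (FractionRing A) v ≠ 0 := by
    rw [Ne, map_eq_zero_iff _ (IsFractionRing.injective A (FractionRing A))]
    exact hv0
  -- descent: if `a * v = x ^ k * u` then `u / v` lies in `A`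
  have key : ∀ (k : ℕ) (a : A), a * v = x ^ k * u →
      ∃ y, algebraMap A (FractionRing A) y =
        algebraMap A (FractionRing A) u / algebraMap A (FractionRing A) v := by
    intro k
    induction k with
    | zero =>
      intro a ha
      refine ⟨a, ?_⟩
      rw [pow_zero, one_mul] at ha
      rw [eq_div_iff hvF, ← map_mul, ha]
    | succ k ih =>
      intro a ha
      obtain ⟨p, hpm, hp0⟩ := hz
      -- `x ^ (k+1) * (u / v) = a`
      have h1 : algebraMap A (FractionRing A) (x ^ (k + 1)) *
          (algebraMap A (FractionRing A) u / algebraMap A (FractionRing A) v) =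
          algebraMap A (FractionRing A) a := by
        rw [mul_div_assoc', eq_comm, eq_div_iff hvF, ← map_mul, ← map_mul, ha]
      have h2 := dvd_pow_natDegree_of_eval₂_eq_zero
        (IsFractionRing.injective A (FractionRing A)) hpm (x ^ (k + 1)) a _ hp0 h1
      have h3 : x ∣ a ^ p.natDegree := dvd_trans (dvd_pow_self x (Nat.succ_ne_zero k)) h2
      have h4 : a ^ p.natDegree ∈ Ideal.span {x} := Ideal.mem_span_singleton.mpr h3
      have h5 : a ∈ Ideal.span {x} := hred ⟨_, h4⟩
      obtain ⟨a', rfl⟩ := Ideal.mem_span_singleton.mp h5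
      apply ih a'
      have h6 : x * (a' * v) = x * (x ^ k * u) := by
        rw [← mul_assoc, ha, pow_succ]
        ring
      exact mul_left_cancel₀ hx h6
  -- the image of `u / v` in the fraction field of `Q` is integral, hence lies in `Q`
  have hginj : Function.Injective ((algebraMap Q (FractionRing Q)).comp ψ) :=
    (IsFractionRing.injective Q (FractionRing Q)).comp hψ
  let Ψ : FractionRing A →+* FractionRing Q := IsFractionRing.lift hginj
  have hΨ : ∀ a : A, Ψ (algebraMap A (FractionRing A) a) = algebraMap Q (FractionRing Q) (ψ a) :=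
    fun a => IsFractionRing.lift_algebraMap hginj a
  have hint : IsIntegral Q
      (Ψ (algebraMap A (FractionRing A) u / algebraMap A (FractionRing A) v)) := by
    apply IsIntegral.map_of_comp_eq ψ Ψ _ hz
    ext a
    exact (hΨ a).symm
  obtain ⟨q, hq⟩ := (isIntegrallyClosed_iff (FractionRing Q)).mp inferInstance hint
  obtain ⟨k, a, hka⟩ := hQ q
  apply key k a
  have hvQ : algebraMap Q (FractionRing Q) (ψ v) ≠ 0 := by
    rw [← hΨ]
    rw [Ne, map_eq_zero_iff _ Ψ.injective]
    exact hvF
  rw [map_div₀, hΨ, hΨ, eq_div_iff hvQ, ← map_mul] at hq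
  have e' : q * ψ v = ψ u := IsFractionRing.injective Q (FractionRing Q) hq
  apply hψ
  rw [map_mul, map_mul, map_pow, hka, ← e']
  ring

end Groth.Agent.Lib.H5b
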