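import Mathlib
import Groth.Prelude.Def_W4bk4grassmannianPl
import Groth.Agent.Lib.H5bCoord
import Groth.Agent.Lib.H5bStdIndep
import Groth.Agent.Lib.Helper24Grass
import Groth.Agent.Lib.H5bDim
import Groth.Agent.Lib.H5bNormal

/-!
# The echelon chart of a Schubert variety and normality (helper5, second run)

For `w ∈ I(d,n)` the matrices in the Schubert variety `X(w)` whose `w`-minor does not vanish are,
up to the right action of `GL_d`, the matrices in echelon form: identity on the rows `w`, free
entries at the positions `(i,k)` with `i < w_k`, `i ∉ w`, and zero elsewhere.  Scaling the first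
column by a new variable `t` we obtain a homomorphism `ψ : S → K[t, y_p]` with kernel `J(w)`,
sending `X_w` to `t` and such that every `y_p` is, up to a power of `t`, in the image.  Together
with the reducedness of `S/(J(w) + (X_w))` this shows that `S/J(w)` is integrally closed.
-/

set_option autoImplicit false

universe u

noncomputable section

open MvPolynomial W4bk4grassmannian

namespace Groth.Agent.Lib.H5b

section MinorsMap

variable {K : Type u} [CommRing K] {d n : ℕ} {R : Type*} [CommRing R] [Algebra K R]

/-- Substituting the minors of a matrix with entries in a `K`-algebra. -/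
def minorsMap (M : Matrix (Fin n) (Fin d) R) : PlRing K d n →ₐ[K] R :=
  MvPolynomial.aeval fun θ : Idx d n => (M.submatrix θ.1 id).det

theorem minorsMap_X (M : Matrix (Fin n) (Fin d) R) (θ : Idx d n) :
    minorsMap (K := K) M (X θ) = (M.submatrix θ.1 id).det := by
  unfold minorsMap
  rw [aeval_X]

theorem minorsMap_coord (M : Matrix (Fin n) (Fin d) R) (a : Fin d → Fin n) :
    minorsMap (K := K) M (coord K d n a) = (M.submatrix a id).det := by
  classical
  unfold coord
  split_ifs with h
  · rw [map_mul, map_pow, map_neg, map_one, minorsMap_X]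
    have hsub : M.submatrix a id =
        (M.submatrix (sortIdx d n a h).1 id).submatrix (sortPerm a h) id := by
      ext s t
      simp only [Matrix.submatrix_apply, id_eq]
      rw [sortIdx_sortPerm]
    rw [hsub, Matrix.det_permute, sign_sortPerm]
  · rw [map_zero]
    have hninj : ¬ Function.Injective a := by
      intro hinj
      apply h
      rw [Finset.card_image_of_injective _ hinj, Finset.card_univ, Fintype.card_fin]
    rw [Function.Injective] at hninj
    push Not at hninj
    obtain ⟨s, t, hst, hne⟩ := hninj
    symm
    apply Matrix.det_zero_of_row_eq hne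
    ext k
    simp only [Matrix.submatrix_apply, id_eq]
    rw [hst]

theorem minorsMap_eq_evalMinors (A : Matrix (Fin n) (Fin d) K) :
    minorsMap (K := K) A = evalMinors K d n A := rfl

end MinorsMap

section Echelon

open scoped Classical

variable {d n : ℕ}

/-- The free positions of the echelon form attached to `w`: above the pivot of the column and
not in a pivot row. -/
def IsFree (w : Idx d n) (p : Fin n × Fin d) : Prop := p.1 < w.1 p.2 ∧ ∀ j, w.1 j ≠ p.1

/-- The type of free positions. -/
abbrev FreePos (w : Idx d n) : Type := {p : Fin n × Fin d // IsFree w p}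

variable {R : Type*} [CommRing R]

/-- The echelon matrix with free entries `y`. -/
def echMat0 (w : Idx d n) (y : FreePos w → R) : Matrix (Fin n) (Fin d) R :=
  Matrix.of fun i k => if i = w.1 k then 1 else if h : IsFree w (i, k) then y ⟨(i, k), h⟩ else 0

/-- The scaling of the columns: the first column is multiplied by `t`. -/
def echCol (t : R) (k : Fin d) : R := if k.val = 0 then t else 1

/-- The echelon matrix with free entries `y` and first column scaled by `t`. -/
def echMat (w : Idx d n) (t : R) (y : FreePos w → R) : Matrix (Fin n) (Fin d) R :=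
  Matrix.of fun i k => echCol t k * echMat0 w y i k

theorem echMat_apply (w : Idx d n) (t : R) (y : FreePos w → R) (i : Fin n) (k : Fin d) :
    echMat w t y i k = echCol t k * echMat0 w y i k := rfl

theorem prod_echCol (hd : 0 < d) (t : R) : ∏ k : Fin d, echCol t k = t := by
  rw [Finset.prod_eq_single (⟨0, hd⟩ : Fin d)]
  · simp [echCol]
  · intro k _ hk
    unfold echCol
    rw [if_neg]
    intro h0
    exact hk (Fin.ext h0)
  · intro h
    exact absurd (Finset.mem_univ _) h

/-- Scaling the columns of a matrix scales its maximal minors. -/
theorem det_submatrix_scale (M : Matrix (Fin n) (Fin d) R) (c : Fin d → R)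
    (a : Fin d → Fin n) :
    ((Matrix.of fun i k => c k * M i k).submatrix a id).det =
      (M.submatrix a id).det * ∏ k, c k := by
  have h : (Matrix.of fun i k => c k * M i k).submatrix a id =
      Matrix.of fun j k => c k * (M.submatrix a id) j k := by
    ext j k
    simp only [Matrix.submatrix_apply, id_eq, Matrix.of_apply]
  rw [h, Matrix.det_mul_row, mul_comm]

theorem det_submatrix_echMat (hd : 0 < d) (w : Idx d n) (t : R) (y : FreePos w → R)
    (a : Fin d → Fin n) :
    ((echMat w t y).submatrix a id).det = ((echMat0 w y).submatrix a id).det * t := by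
  unfold echMat
  rw [det_submatrix_scale, prod_echCol hd]

theorem echMat0_submatrix_self (w : Idx d n) (y : FreePos w → R) :
    (echMat0 w y).submatrix w.1 id = 1 := by
  ext j k
  simp only [Matrix.submatrix_apply, id_eq, echMat0, Matrix.of_apply, Matrix.one_apply]
  by_cases hjk : j = k
  · subst hjk
    simp
  · rw [if_neg (fun h => hjk (w.2.injective h)), if_neg hjk, dif_neg]
    intro hfree
    exact hfree.2 j rfl

/-- Replacing one row of a matrix which is the identity on the rows `w`. -/
theorem submatrix_update_of_submatrix_eq_one (w : Idx d n) (M : Matrix (Fin n) (Fin d) R)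
    (hM : M.submatrix w.1 id = 1) (k : Fin d) (i : Fin n) :
    M.submatrix (Function.update w.1 k i) id = Matrix.updateRow 1 k (M i) := by
  ext j l
  simp only [Matrix.submatrix_apply, id_eq]
  by_cases hjk : j = k
  · subst hjk
    rw [Function.update_self, Matrix.updateRow_self]
  · rw [Function.update_of_ne hjk, Matrix.updateRow_ne hjk]
    have := congrFun (congrFun hM j) l
    simpa using this

theorem det_updateRow_one (k : Fin d) (v : Fin d → R) :
    (Matrix.updateRow (1 : Matrix (Fin d) (Fin d) R) k v).det = v k := by
  rw [← Matrix.cramer_transpose_apply, Matrix.transpose_one, Matrix.cramer_one]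
  rfl

theorem det_submatrix_update (w : Idx d n) (M : Matrix (Fin n) (Fin d) R)
    (hM : M.submatrix w.1 id = 1) (k : Fin d) (i : Fin n) :
    (M.submatrix (Function.update w.1 k i) id).det = M i k := by
  rw [submatrix_update_of_submatrix_eq_one w M hM, det_updateRow_one]

theorem echMat0_apply_free (w : Idx d n) (y : FreePos w → R) (p : FreePos w) :
    echMat0 w y p.1.1 p.1.2 = y p := by
  simp only [echMat0, Matrix.of_apply]
  rw [if_neg (fun h => p.2.2 p.1.2 h.symm), dif_pos p.2]

theorem echMat0_apply_eq_zero (w : Idx d n) (y : FreePos w → R) (i : Fin n) (k : Fin d)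
    (h : w.1 k < i) : echMat0 w y i k = 0 := by
  simp only [echMat0, Matrix.of_apply]
  rw [if_neg (ne_of_gt h), dif_neg]
  intro hfree
  exact absurd hfree.1 (not_lt.mpr h.le)

theorem echMat_apply_eq_zero (w : Idx d n) (t : R) (y : FreePos w → R) (i : Fin n) (k : Fin d)
    (h : w.1 k < i) : echMat w t y i k = 0 := by
  rw [echMat_apply, echMat0_apply_eq_zero w y i k h, mul_zero]

end Echelon

section EchMap

open scoped Classical

variable (K : Type u) [Field K] {d n : ℕ}

/-- The coordinate ring of the (scaled) echelon chart. -/
abbrev EchRing (w : Idx d n) : Type u := MvPolynomial (Option (FreePos w)) K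

/-- The generic scaled echelon matrix. -/
def echGen (w : Idx d n) : Matrix (Fin n) (Fin d) (EchRing K w) :=
  echMat w (X none) (fun p => X (some p))

/-- Substituting the minors of the generic scaled echelon matrix. -/
def echMap (w : Idx d n) : PlRing K d n →ₐ[K] EchRing K w := minorsMap (echGen K w)

theorem echMap_X_self (hd : 0 < d) (w : Idx d n) : echMap K w (X w) = X none := by
  unfold echMap echGen
  rw [minorsMap_X, det_submatrix_echMat hd, echMat0_submatrix_self, Matrix.det_one, one_mul]

theorem echMap_coord_update (hd : 0 < d) (w : Idx d n) (p : FreePos w) :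
    echMap K w (coord K d n (Function.update w.1 p.1.2 p.1.1)) = X (some p) * X none := by
  unfold echMap echGen
  rw [minorsMap_coord, det_submatrix_echMat hd,
    det_submatrix_update w _ (echMat0_submatrix_self w _), echMat0_apply_free]

/-- The scaled echelon matrix attached to an assignment of the variables. -/
def echPt (w : Idx d n) (v : Option (FreePos w) → K) : Matrix (Fin n) (Fin d) K :=
  echMat w (v none) (fun p => v (some p))

theorem eval_echMap (w : Idx d n) (v : Option (FreePos w) → K) (f : PlRing K d n) :
    MvPolynomial.eval v (echMap K w f) = evalMinors K d n (echPt K w v) f := by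
  have h : ((MvPolynomial.aeval v : EchRing K w →ₐ[K] K).comp (echMap K w)) =
      evalMinors K d n (echPt K w v) := by
    apply MvPolynomial.algHom_ext
    intro θ
    rw [AlgHom.comp_apply]
    unfold echMap
    rw [minorsMap_X]
    unfold evalMinors
    rw [aeval_X]
    rw [← AlgHom.coe_toRingHom, RingHom.map_det]
    congr 1
    ext s k
    simp only [RingHom.mapMatrix_apply, Matrix.map_apply, Matrix.submatrix_apply, id_eq,
      echGen, echPt, echMat, echMat0, echCol, Matrix.of_apply]
    split_ifs <;> simp
  have := congrArg (fun g => g f) h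
  simpa [MvPolynomial.coe_aeval_eq_eval] using this

theorem echMap_eq_zero_of_mem [Infinite K] (w : Idx d n) (f : PlRing K d n)
    (hf : f ∈ schubertVanishing K d n w) : echMap K w f = 0 := by
  apply MvPolynomial.funext
  intro v
  rw [eval_echMap, map_zero]
  unfold schubertVanishing at hf
  rw [Ideal.mem_iInf] at hf
  have h1 := hf (echPt K w v)
  rw [Ideal.mem_iInf] at h1
  have h2 := h1 (fun φ hφ => det_submatrix_eq_zero_of_shape w (echPt K w v)
    (fun i k hik => echMat_apply_eq_zero w _ _ i k hik) φ hφ)
  rw [RingHom.mem_ker] at h2
  exact h2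

theorem update_injective (w : Idx d n) (k : Fin d) (i : Fin n) (hi : ∀ j, w.1 j ≠ i) :
    Function.Injective (Function.update w.1 k i) := by
  intro a b hab
  by_cases ha : a = k
  · by_cases hb : b = k
    · rw [ha, hb]
    · subst ha
      rw [Function.update_self, Function.update_of_ne hb] at hab
      exact absurd hab.symm (hi b)
  · by_cases hb : b = k
    · subst hb
      rw [Function.update_of_ne ha, Function.update_self] at hab
      exact absurd hab (hi a)
    · rw [Function.update_of_ne ha, Function.update_of_ne hb] at hab
      exact w.2.injective hab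

theorem sortIdx_update_not_le (w : Idx d n) (k : Fin d) (i : Fin n) (hik : w.1 k < i)
    (h : (Finset.univ.image (Function.update w.1 k i)).card = d) :
    ¬ sortIdx d n (Function.update w.1 k i) h ≤ w := by
  intro hle
  have h1 := Helper24Grass.wt_mono hle
  rw [Helper24Grass.wt_sortIdx] at h1
  have h2 : Helper24Grass.wt (Function.update w.1 k i) + (w.1 k).val =
      Helper24Grass.wt w.1 + i.val := by
    unfold Helper24Grass.wt
    rw [← Finset.add_sum_erase _ _ (Finset.mem_univ k),
      ← Finset.add_sum_erase (f := fun t => (w.1 t).val) _ (Finset.mem_univ k),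
      Function.update_self]
    have h3 : ∑ x ∈ Finset.univ.erase k, (Function.update w.1 k i x).val =
        ∑ x ∈ Finset.univ.erase k, (w.1 x).val := by
      refine Finset.sum_congr rfl (fun x hx => ?_)
      rw [Function.update_of_ne (Finset.ne_of_mem_erase hx)]
    rw [h3]
    ring
  have h4 : (w.1 k).val < i.val := hik
  omega

/-- A point of `X(w)` with non-vanishing `w`-minor has the same minors as a scaled echelon
matrix. -/
theorem exists_echPt_of_det_ne_zero (hd : 0 < d) (w : Idx d n) (A : Matrix (Fin n) (Fin d) K)
    (hA : ∀ φ : Idx d n, ¬ φ ≤ w → (A.submatrix φ.1 id).det = 0)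
    (hδ : (A.submatrix w.1 id).det ≠ 0) :
    ∃ v : Option (FreePos w) → K, evalMinors K d n (echPt K w v) = evalMinors K d n A := by
  set g : Matrix (Fin d) (Fin d) K := A.submatrix w.1 id with hg
  have hu : IsUnit g.det := isUnit_iff_ne_zero.mpr hδ
  let A' : Matrix (Fin n) (Fin d) K := Matrix.of fun i k => ∑ l, A i l * g⁻¹ l k
  have hsub : ∀ a : Fin d → Fin n, A'.submatrix a id = A.submatrix a id * g⁻¹ := by
    intro a
    ext j k
    simp [A', Matrix.mul_apply]
  have h1 : A'.submatrix w.1 id = 1 := by
    rw [hsub]
    exact Matrix.mul_nonsing_inv g hu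
  have h2 : ∀ a : Fin d → Fin n,
      (A'.submatrix a id).det = (A.submatrix a id).det * g.det⁻¹ := by
    intro a
    rw [hsub, Matrix.det_mul, Matrix.det_nonsing_inv, Ring.inverse_eq_inv']
  have h3 : ∀ φ : Idx d n, ¬ φ ≤ w → (A'.submatrix φ.1 id).det = 0 := by
    intro φ hφ
    rw [h2, hA φ hφ, zero_mul]
  have h4 : ∀ i k, echMat0 w (fun p : FreePos w => A' p.1.1 p.1.2) i k = A' i k := by
    intro i k
    simp only [echMat0, Matrix.of_apply]
    by_cases hik : i = w.1 k
    · subst hik
      rw [if_pos rfl]
      have := congrFun (congrFun h1 k) k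
      simpa using this.symm
    · rw [if_neg hik]
      by_cases hfree : IsFree w (i, k)
      · rw [dif_pos hfree]
      · rw [dif_neg hfree]
        symm
        by_cases hrow : ∃ j, w.1 j = i
        · obtain ⟨j, rfl⟩ := hrow
          have hjk : j ≠ k := fun h => hik (by rw [h])
          have := congrFun (congrFun h1 j) k
          simpa [Matrix.one_apply, hjk] using this
        · push Not at hrow
          have hlt : w.1 k < i := by
            by_contra hcon
            apply hfree
            exact ⟨lt_of_le_of_ne (not_lt.mp hcon) hik, hrow⟩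
          have hinj := update_injective w k i hrow
          have hcard : (Finset.univ.image (Function.update w.1 k i)).card = d := by
            rw [Finset.card_image_of_injective _ hinj]
            simp
          rw [← det_submatrix_update w A' h1 k i, ← evalMinors_coord]
          unfold coord
          rw [dif_pos hcard, map_mul, evalMinors_X,
            h3 _ (sortIdx_update_not_le w k i hlt hcard), mul_zero]
  have h5 : echMat0 w (fun p : FreePos w => A' p.1.1 p.1.2) = A' := by
    ext i k
    exact h4 i k
  refine ⟨fun o => Option.elim o g.det (fun p => A' p.1.1 p.1.2), ?_⟩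
  apply MvPolynomial.algHom_ext
  intro θ
  rw [evalMinors_X, evalMinors_X]
  unfold echPt
  rw [det_submatrix_echMat hd]
  simp only [Option.elim]
  rw [h5, h2, mul_assoc, inv_mul_cancel₀ hδ, mul_one]

/-- **The kernel of the echelon chart is the ideal of the Schubert variety.** -/
theorem ker_echMap [Infinite K] (hd : 0 < d) (hdn : d < n) (w : Idx d n) :
    RingHom.ker (echMap K w).toRingHom = schubertVanishing K d n w := by
  apply le_antisymm
  · intro f hf
    have hf0 : echMap K w f = 0 := hf
    have hmul : (X w : PlRing K d n) * f ∈ schubertVanishing K d n w := by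
      unfold schubertVanishing
      rw [Ideal.mem_iInf]
      intro A
      rw [Ideal.mem_iInf]
      intro hA
      rw [RingHom.mem_ker]
      change evalMinors K d n A (X w * f) = 0
      rw [map_mul, evalMinors_X]
      by_cases hδ : (A.submatrix w.1 id).det = 0
      · rw [hδ, zero_mul]
      · obtain ⟨v, hv⟩ := exists_echPt_of_det_ne_zero K hd w A hA hδ
        rw [← hv, ← eval_echMap, hf0, map_zero, mul_zero]
    have hprime := isPrime_schubertVanishing K hd hdn w
    rcases hprime.mem_or_mem hmul with h | h
    · exact absurd h (X_not_mem_schubertVanishing K hd w w le_rfl)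
    · exact h
  · intro f hf
    rw [RingHom.mem_ker]
    exact echMap_eq_zero_of_mem K w f hf

/-- Every element of the chart ring is, up to a power of `t`, a polynomial in the minors. -/
theorem exists_pow_mul_eq_echMap (hd : 0 < d) (w : Idx d n) (q : EchRing K w) :
    ∃ (k : ℕ) (a : PlRing K d n), echMap K w a = (X none) ^ k * q := by
  induction q using MvPolynomial.induction_on with
  | C c =>
    refine ⟨0, C c, ?_⟩
    rw [pow_zero, one_mul]
    exact (echMap K w).commutes c
  | add p q hp hq =>
    obtain ⟨k1, a1, h1⟩ := hp
    obtain ⟨k2, a2, h2⟩ := hq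
    refine ⟨k1 + k2, X w ^ k2 * a1 + X w ^ k1 * a2, ?_⟩
    rw [map_add, map_mul, map_mul, map_pow, map_pow, echMap_X_self K hd, h1, h2]
    ring
  | mul_X p o hp =>
    obtain ⟨k, a, h⟩ := hp
    cases o with
    | none =>
      refine ⟨k, a * X w, ?_⟩
      rw [map_mul, h, echMap_X_self K hd]
      ring
    | some pp =>
      refine ⟨k + 1, a * coord K d n (Function.update w.1 pp.1.2 pp.1.1), ?_⟩
      rw [map_mul, h, echMap_coord_update K hd]
      ring

theorem isRadical_schubertVanishing_sup_span [Infinite K] (hd : 0 < d) (hdn : d < n)
    (w : Idx d n) :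
    (schubertVanishing K d n w ⊔ Ideal.span {(X w : PlRing K d n)}).IsRadical := by
  by_cases h : ∃ φ : Idx d n, φ < w
  · rw [schubertVanishing_sup_span K hd w h]
    apply Ideal.isRadical_iInf
    intro φ
    apply Ideal.isRadical_iInf
    intro _
    exact isRadical_schubertVanishing K φ
  · rw [eq_botIdx_of_not_exists_lt hdn w h, sup_span_X_botIdx K hd hdn]
    exact (ker_zero_isMaximal K).isPrime.isRadical

/-- **Schubert varieties are normal**: the homogeneous coordinate ring `S/J(w)` of a Schubert
variety is an integrally closed domain. -/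
theorem isDomain_and_isIntegrallyClosed_schubert [Infinite K] (hd : 0 < d) (hdn : d < n)
    (w : Idx d n) :
    IsDomain (PlRing K d n ⧸ schubertVanishing K d n w) ∧
      IsIntegrallyClosed (PlRing K d n ⧸ schubertVanishing K d n w) := by
  have hprime := isPrime_schubertVanishing K hd hdn w
  have hdom : IsDomain (PlRing K d n ⧸ schubertVanishing K d n w) :=
    (Ideal.Quotient.isDomain_iff_prime _).mpr hprime
  refine ⟨hdom, ?_⟩
  let ψ : (PlRing K d n ⧸ schubertVanishing K d n w) →+* EchRing K w :=
    Ideal.Quotient.lift (schubertVanishing K d n w) (echMap K w).toRingHom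
      (fun a ha => echMap_eq_zero_of_mem K w a ha)
  have hψ : Function.Injective ψ :=
    (Ideal.injective_lift_iff _).mpr (ker_echMap K hd hdn w)
  have hx : Ideal.Quotient.mk (schubertVanishing K d n w) (X w : PlRing K d n) ≠ 0 := by
    rw [Ne, Ideal.Quotient.eq_zero_iff_mem]
    exact X_not_mem_schubertVanishing K hd w w le_rfl
  have hψx : ψ (Ideal.Quotient.mk (schubertVanishing K d n w) (X w : PlRing K d n)) = X none := by
    change echMap K w (X w) = X none
    exact echMap_X_self K hd w
  refine isIntegrallyClosed_of_isRadical_span ψ hψ
    (Ideal.Quotient.mk (schubertVanishing K d n w) (X w : PlRing K d n)) hx ?_ ?_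
  · -- the hyperplane section is reduced
    have hsurj : Function.Surjective (Ideal.Quotient.mk (schubertVanishing K d n w)) :=
      Ideal.Quotient.mk_surjective
    have hcomap : Ideal.comap (Ideal.Quotient.mk (schubertVanishing K d n w))
        (Ideal.span {Ideal.Quotient.mk (schubertVanishing K d n w) (X w : PlRing K d n)}) =
        schubertVanishing K d n w ⊔ Ideal.span {(X w : PlRing K d n)} := by
      rw [← Set.image_singleton, ← Ideal.map_span, Ideal.comap_map_of_surjective _ hsurj,
        ← RingHom.ker_eq_comap_bot, Ideal.mk_ker, sup_comm]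
    intro y hy
    obtain ⟨y, rfl⟩ := hsurj y
    obtain ⟨m, hm⟩ := hy
    have h1 : y ^ m ∈ Ideal.comap (Ideal.Quotient.mk (schubertVanishing K d n w))
        (Ideal.span {Ideal.Quotient.mk (schubertVanishing K d n w) (X w : PlRing K d n)}) := by
      rw [Ideal.mem_comap, map_pow]
      exact hm
    rw [hcomap] at h1
    have h2 := isRadical_schubertVanishing_sup_span K hd hdn w ⟨m, h1⟩
    rw [← hcomap, Ideal.mem_comap] at h2
    exact h2
  · intro q
    obtain ⟨k, a, ha⟩ := exists_pow_mul_eq_echMap K hd w q
    refine ⟨k, Ideal.Quotient.mk _ a, ?_⟩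
    rw [hψx]
    exact ha

end EchMap

end Groth.Agent.Lib.H5b
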