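import Groth.Agent.Lib.H5bDetRing
import Groth.Agent.Lib.H5bEchelon

/-!
# Dehomogenization of a normal graded domain (helper5)

If `𝔞` is a homogeneous prime of a polynomial ring with `S/𝔞` integrally closed and `X_y ∉ 𝔞`,
then `S/(𝔞 + (X_y - 1))` is an integrally closed domain.
-/

set_option autoImplicit false

universe u

noncomputable section

open MvPolynomial W4bk4grassmannian

namespace Groth.Agent.Lib.H5b

/-- descent of divisibility along an injection into an integrally closed domain -/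
theorem isIntegrallyClosed_of_dvd_descent {B Q : Type*} [CommRing B] [IsDomain B]
    [CommRing Q] [IsDomain Q] [IsIntegrallyClosed Q]
    (ψ : B →+* Q) (hψ : Function.Injective ψ)
    (hdesc : ∀ (q : Q) (u v : B), v ≠ 0 → q * ψ v = ψ u → ∃ b : B, b * v = u) :
    IsIntegrallyClosed B := by
  rw [isIntegrallyClosed_iff (FractionRing B)]
  intro z hz
  obtain ⟨u, v, hv, rfl⟩ := IsFractionRing.div_surjective B z
  have hv0 : v ≠ 0 := nonZeroDivisors.ne_zero hv
  have hvF : algebraMap B (FractionRing B) v ≠ 0 := by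
    rw [Ne, map_eq_zero_iff _ (IsFractionRing.injective B (FractionRing B))]
    exact hv0
  have hginj : Function.Injective ((algebraMap Q (FractionRing Q)).comp ψ) :=
    (IsFractionRing.injective Q (FractionRing Q)).comp hψ
  let Ψ : FractionRing B →+* FractionRing Q := IsFractionRing.lift hginj
  have hΨ : ∀ a : B, Ψ (algebraMap B (FractionRing B) a) = algebraMap Q (FractionRing Q) (ψ a) :=
    fun a => IsFractionRing.lift_algebraMap hginj a
  have hint : IsIntegral Q
      (Ψ (algebraMap B (FractionRing B) u / algebraMap B (FractionRing B) v)) := by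
    apply IsIntegral.map_of_comp_eq ψ Ψ _ hz
    ext a
    exact (hΨ a).symm
  obtain ⟨q, hq⟩ := (isIntegrallyClosed_iff (FractionRing Q)).mp inferInstance hint
  have hvQ : algebraMap Q (FractionRing Q) (ψ v) ≠ 0 := by
    rw [← hΨ]
    rw [Ne, map_eq_zero_iff _ Ψ.injective]
    exact hvF
  rw [map_div₀, hΨ, hΨ, eq_div_iff hvQ, ← map_mul] at hq
  have e' : q * ψ v = ψ u := IsFractionRing.injective Q (FractionRing Q) hq
  obtain ⟨b, hb⟩ := hdesc q u v hv0 e'
  refine ⟨b, ?_⟩
  rw [eq_div_iff hvF, ← map_mul, hb]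

/-- quotient by the kernel of a map to an integrally closed domain, with descent of divisibility -/
theorem isDomain_and_isIntegrallyClosed_quotient_of_descent {S Q : Type*} [CommRing S]
    [CommRing Q] [IsDomain Q] [IsIntegrallyClosed Q] (𝔟 : Ideal S)
    (ρ : S →+* Q) (hker : RingHom.ker ρ = 𝔟)
    (hdesc : ∀ (q : Q) (U V : S), ρ V ≠ 0 → q * ρ V = ρ U → ∃ F : S, ρ F * ρ V = ρ U) :
    IsDomain (S ⧸ 𝔟) ∧ IsIntegrallyClosed (S ⧸ 𝔟) := by
  have hprime : 𝔟.IsPrime := by
    rw [← hker]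
    exact RingHom.ker_isPrime ρ
  have hdom : IsDomain (S ⧸ 𝔟) := Ideal.Quotient.isDomain 𝔟
  refine ⟨hdom, ?_⟩
  let ψ : (S ⧸ 𝔟) →+* Q := Ideal.Quotient.lift 𝔟 ρ (fun a ha => by
    rw [← hker] at ha
    exact ha)
  have hψmk : ∀ s : S, ψ (Ideal.Quotient.mk 𝔟 s) = ρ s := fun s => rfl
  have hψ : Function.Injective ψ := by
    rw [injective_iff_map_eq_zero]
    intro a ha
    obtain ⟨s, rfl⟩ := Ideal.Quotient.mk_surjective a
    rw [hψmk] at ha
    rw [Ideal.Quotient.eq_zero_iff_mem, ← hker]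
    exact ha
  apply isIntegrallyClosed_of_dvd_descent ψ hψ
  intro q u v hv hq
  obtain ⟨U, rfl⟩ := Ideal.Quotient.mk_surjective u
  obtain ⟨V, rfl⟩ := Ideal.Quotient.mk_surjective v
  rw [hψmk, hψmk] at hq
  have hV : ρ V ≠ 0 := by
    intro h0
    apply hv
    apply hψ
    rw [hψmk, h0, map_zero]
  obtain ⟨F, hF⟩ := hdesc q U V hV hq
  refine ⟨Ideal.Quotient.mk 𝔟 F, ?_⟩
  apply hψ
  rw [map_mul, hψmk, hψmk, hψmk, hF]

section Dehom

variable {σ : Type*} {R : Type*} [CommRing R]

theorem eval₂_mul_of_isHomogeneous {B : Type*} [CommSemiring B] (g : R →+* B)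
    (P : MvPolynomial σ R) (k : ℕ) (hP : P.IsHomogeneous k) (c : B) (v : σ → B) :
    eval₂ g (fun i => c * v i) P = c ^ k * eval₂ g v P := by
  rw [eval₂_eq, eval₂_eq, Finset.mul_sum]
  refine Finset.sum_congr rfl (fun m hm => ?_)
  have hdeg : ∑ i ∈ m.support, m i = k := by
    have h1 := hP (mem_support_iff.mp hm)
    rw [← h1]
    simp [Finsupp.weight_apply, Finsupp.sum]
  simp_rw [mul_pow]
  rw [Finset.prod_mul_distrib, Finset.prod_pow_eq_pow_sum, hdeg]
  ring

theorem homogeneousComponent_mul_of_isHomogeneous (F H : MvPolynomial σ R) (k g : ℕ)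
    (hH : H.IsHomogeneous g) :
    homogeneousComponent (k + g) (F * H) = homogeneousComponent k F * H := by
  conv_lhs => rw [← sum_homogeneousComponent F]
  rw [Finset.sum_mul, map_sum]
  have h1 : ∀ j ∈ Finset.range (F.totalDegree + 1),
      homogeneousComponent (k + g) (homogeneousComponent j F * H) =
        if j = k then homogeneousComponent k F * H else 0 := by
    intro j _
    have hj : (homogeneousComponent j F * H).IsHomogeneous (j + g) :=
      (homogeneousComponent_isHomogeneous j F).mul hH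
    rw [homogeneousComponent_of_mem hj]
    by_cases hjk : j = k
    · subst hjk
      rw [if_pos rfl, if_pos rfl]
    · rw [if_neg hjk, if_neg (by omega)]
  rw [Finset.sum_congr rfl h1, Finset.sum_ite_eq']
  split_ifs with hk
  · rfl
  · have : F.totalDegree < k := by
      have := Finset.mem_range.not.mp hk
      omega
    rw [homogeneousComponent_eq_zero _ _ this, zero_mul]

end Dehom

section DehomMain

variable {σ : Type*} {R : Type*} [CommRing R] (𝔞 : Ideal (MvPolynomial σ R)) (y : σ)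

/-- the localization of `S/𝔞` at the class of `X_y` -/
abbrev DehomLoc : Type _ := Localization.Away (Ideal.Quotient.mk 𝔞 (X y : MvPolynomial σ R))

/-- `S → S/𝔞 → (S/𝔞)_x` -/
def dehomPhi : MvPolynomial σ R →+* DehomLoc 𝔞 y :=
  (algebraMap (MvPolynomial σ R ⧸ 𝔞) (DehomLoc 𝔞 y)).comp (Ideal.Quotient.mk 𝔞)

/-- the inverse of `x` -/
def dehomInv : DehomLoc 𝔞 y :=
  IsLocalization.Away.invSelf (Ideal.Quotient.mk 𝔞 (X y : MvPolynomial σ R))

/-- the dehomogenization map `X_θ ↦ X_θ / X_y` -/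
def dehom : MvPolynomial σ R →+* DehomLoc 𝔞 y :=
  eval₂Hom ((dehomPhi 𝔞 y).comp C) (fun θ => dehomInv 𝔞 y * dehomPhi 𝔞 y (X θ))

theorem dehomPhi_X_mul_inv : dehomPhi 𝔞 y (X y) * dehomInv 𝔞 y = 1 :=
  IsLocalization.Away.mul_invSelf (S := DehomLoc 𝔞 y)
    (Ideal.Quotient.mk 𝔞 (X y : MvPolynomial σ R))

theorem dehom_X_self : dehom 𝔞 y (X y) = 1 := by
  unfold dehom
  rw [coe_eval₂Hom, eval₂_X, mul_comm]
  exact dehomPhi_X_mul_inv 𝔞 y

theorem dehom_of_isHomogeneous (F : MvPolynomial σ R) (D : ℕ) (hF : F.IsHomogeneous D) :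
    dehom 𝔞 y F = dehomInv 𝔞 y ^ D * dehomPhi 𝔞 y F := by
  unfold dehom
  rw [coe_eval₂Hom, eval₂_mul_of_isHomogeneous _ F D hF]
  congr 1
  have := eval₂_comp_left (dehomPhi 𝔞 y) C X F
  rw [eval₂_eta] at this
  exact this.symm

theorem dehom_mul_pow (F : MvPolynomial σ R) (D : ℕ) (hF : F.IsHomogeneous D) :
    dehom 𝔞 y F * dehomPhi 𝔞 y (X y) ^ D = dehomPhi 𝔞 y F := by
  rw [dehom_of_isHomogeneous 𝔞 y F D hF]
  calc dehomInv 𝔞 y ^ D * dehomPhi 𝔞 y F * dehomPhi 𝔞 y (X y) ^ D
      = (dehomPhi 𝔞 y (X y) * dehomInv 𝔞 y) ^ D * dehomPhi 𝔞 y F := by ring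
    _ = _ := by rw [dehomPhi_X_mul_inv, one_pow, one_mul]

theorem dehom_homog (G : MvPolynomial σ R) :
    dehom 𝔞 y (homog G.totalDegree y G) = dehom 𝔞 y G :=
  map_homog (dehom 𝔞 y) y (dehom_X_self 𝔞 y) G

theorem dehomPhi_eq_zero_iff [h𝔞 : 𝔞.IsPrime] (hy : (X y : MvPolynomial σ R) ∉ 𝔞)
    (F : MvPolynomial σ R) : dehomPhi 𝔞 y F = 0 ↔ F ∈ 𝔞 := by
  have hx : Ideal.Quotient.mk 𝔞 (X y : MvPolynomial σ R) ≠ 0 := by
    rwa [Ne, Ideal.Quotient.eq_zero_iff_mem]
  have hinj : Function.Injective (algebraMap (MvPolynomial σ R ⧸ 𝔞) (DehomLoc 𝔞 y)) :=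
    IsLocalization.injective _ (powers_le_nonZeroDivisors_of_noZeroDivisors hx)
  unfold dehomPhi
  rw [RingHom.comp_apply, map_eq_zero_iff _ hinj, Ideal.Quotient.eq_zero_iff_mem]

/-- the kernel of the dehomogenization is `𝔞 + (X_y - 1)` -/
theorem ker_dehom [h𝔞 : 𝔞.IsPrime] (hy : (X y : MvPolynomial σ R) ∉ 𝔞)
    (hhom : ∀ F ∈ 𝔞, ∀ k, homogeneousComponent k F ∈ 𝔞) :
    RingHom.ker (dehom 𝔞 y) = 𝔞 ⊔ Ideal.span {(X y - 1 : MvPolynomial σ R)} := by
  apply le_antisymm
  · intro G hG
    rw [RingHom.mem_ker] at hG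
    have h1 : dehomPhi 𝔞 y (homog G.totalDegree y G) = 0 := by
      rw [← dehom_mul_pow 𝔞 y _ _ (homog_isHomogeneous _ y G), dehom_homog, hG, zero_mul]
    rw [dehomPhi_eq_zero_iff 𝔞 y hy] at h1
    have hsub := homog_sub_mem G.totalDegree y G le_rfl
    have e : G = homog G.totalDegree y G - (homog G.totalDegree y G - G) := by ring
    rw [e]
    exact Ideal.sub_mem _ (Ideal.mem_sup_left h1) (Ideal.mem_sup_right hsub)
  · apply sup_le
    · intro F hF
      rw [RingHom.mem_ker, ← sum_homogeneousComponent F, map_sum]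
      apply Finset.sum_eq_zero
      intro k _
      rw [dehom_of_isHomogeneous 𝔞 y _ k (homogeneousComponent_isHomogeneous k F),
        (dehomPhi_eq_zero_iff 𝔞 y hy _).mpr (hhom F hF k), mul_zero]
    · rw [Ideal.span_le, Set.singleton_subset_iff, SetLike.mem_coe, RingHom.mem_ker, map_sub,
        dehom_X_self, map_one, sub_self]

/-- dehomogenization of an integrally closed graded domain -/
theorem isDomain_and_isIntegrallyClosed_dehom [h𝔞 : 𝔞.IsPrime]
    [IsIntegrallyClosed (MvPolynomial σ R ⧸ 𝔞)]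
    (hy : (X y : MvPolynomial σ R) ∉ 𝔞)
    (hhom : ∀ F ∈ 𝔞, ∀ k, homogeneousComponent k F ∈ 𝔞) :
    IsDomain (MvPolynomial σ R ⧸ (𝔞 ⊔ Ideal.span {(X y - 1 : MvPolynomial σ R)})) ∧
      IsIntegrallyClosed
        (MvPolynomial σ R ⧸ (𝔞 ⊔ Ideal.span {(X y - 1 : MvPolynomial σ R)})) := by
  have hdomA : IsDomain (MvPolynomial σ R ⧸ 𝔞) := Ideal.Quotient.isDomain 𝔞
  have hx : Ideal.Quotient.mk 𝔞 (X y : MvPolynomial σ R) ≠ 0 := by
    rwa [Ne, Ideal.Quotient.eq_zero_iff_mem]
  have hpow := powers_le_nonZeroDivisors_of_noZeroDivisors hx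
  have hdomQ : IsDomain (DehomLoc 𝔞 y) := IsLocalization.isDomain_localization hpow
  have hicQ : IsIntegrallyClosed (DehomLoc 𝔞 y) :=
    isIntegrallyClosed_of_isLocalization (DehomLoc 𝔞 y) _ hpow
  apply isDomain_and_isIntegrallyClosed_quotient_of_descent _ (dehom 𝔞 y)
    (ker_dehom 𝔞 y hy hhom)
  intro q U V _ hq
  obtain ⟨k, a, hka⟩ := IsLocalization.Away.surj
    (Ideal.Quotient.mk 𝔞 (X y : MvPolynomial σ R)) q
  obtain ⟨F, rfl⟩ := Ideal.Quotient.mk_surjective a
  have hka' : q * dehomPhi 𝔞 y (X y) ^ k = dehomPhi 𝔞 y F := hka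
  set DU := U.totalDegree with hDU
  set DV := V.totalDegree with hDV
  set Uh := homog DU y U with hUh
  set Vh := homog DV y V with hVh
  have hU1 : dehom 𝔞 y Uh = dehom 𝔞 y U := dehom_homog 𝔞 y U
  have hV1 : dehom 𝔞 y Vh = dehom 𝔞 y V := dehom_homog 𝔞 y V
  have hU2 := dehom_mul_pow 𝔞 y Uh DU (homog_isHomogeneous _ y U)
  have hV2 := dehom_mul_pow 𝔞 y Vh DV (homog_isHomogeneous _ y V)
  rw [hU1] at hU2
  rw [hV1] at hV2
  -- the relation in `S/𝔞`
  have hrel : F * (Vh * X y ^ DU) - Uh * X y ^ (k + DV) ∈ 𝔞 := by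
    rw [← dehomPhi_eq_zero_iff 𝔞 y hy, map_sub, map_mul, map_mul, map_mul, map_pow, map_pow,
      ← hka', ← hU2, ← hV2, sub_eq_zero]
    calc q * dehomPhi 𝔞 y (X y) ^ k * (dehom 𝔞 y V * dehomPhi 𝔞 y (X y) ^ DV *
          dehomPhi 𝔞 y (X y) ^ DU)
        = (q * dehom 𝔞 y V) * dehomPhi 𝔞 y (X y) ^ DU * dehomPhi 𝔞 y (X y) ^ (k + DV) := by
          rw [pow_add]
          ring
      _ = _ := by rw [hq]
  have hH : (Vh * X y ^ DU).IsHomogeneous (DV + DU) :=
    (homog_isHomogeneous _ y V).mul (by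
      have := (isHomogeneous_X R y).pow DU
      rwa [one_mul] at this)
  have hW : (Uh * X y ^ (k + DV)).IsHomogeneous (k + (DV + DU)) := by
    have h1 := (homog_isHomogeneous DU y U).mul (by
      have := (isHomogeneous_X R y).pow (k + DV)
      rwa [one_mul] at this : (X y ^ (k + DV) : MvPolynomial σ R).IsHomogeneous (k + DV))
    have e : DU + (k + DV) = k + (DV + DU) := by omega
    rwa [e] at h1
  have hcomp := hhom _ hrel (k + (DV + DU))
  rw [map_sub, homogeneousComponent_mul_of_isHomogeneous F _ k _ hH,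
    homogeneousComponent_eq_self hW] at hcomp
  refine ⟨homogeneousComponent k F, ?_⟩
  have hz : dehom 𝔞 y (homogeneousComponent k F * (Vh * X y ^ DU) - Uh * X y ^ (k + DV)) = 0 := by
    have := (ker_dehom 𝔞 y hy hhom).ge (Ideal.mem_sup_left hcomp)
    exact this
  rw [map_sub, map_mul, map_mul, map_mul, map_pow, map_pow, dehom_X_self, one_pow, one_pow,
    mul_one, mul_one, hU1, hV1, sub_eq_zero] at hz
  exact hz

end DehomMain

section HomogIdeal

variable (K : Type u) [Field K] [Infinite K] {d n : ℕ}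

/-- the Schubert ideals are homogeneous -/
theorem homogeneousComponent_mem_schubertVanishing (hd : 0 < d) (w : Idx d n)
    (F : PlRing K d n) (hF : F ∈ schubertVanishing K d n w) (k : ℕ) :
    homogeneousComponent k F ∈ schubertVanishing K d n w := by
  classical
  unfold schubertVanishing at hF ⊢
  rw [Ideal.mem_iInf]
  intro A
  rw [Ideal.mem_iInf]
  intro hA
  rw [RingHom.mem_ker]
  change evalMinors K d n A (homogeneousComponent k F) = 0
  have e1 : ∀ (B : Matrix (Fin n) (Fin d) K) (G : PlRing K d n), evalMinors K d n B G =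
      MvPolynomial.eval (fun θ : Idx d n => (B.submatrix θ.1 id).det) G := by
    intro B G
    unfold evalMinors
    rw [← MvPolynomial.coe_aeval_eq_eval]
    rfl
  -- scaled matrices
  let j0 : Fin d := ⟨0, hd⟩
  let v : K → Fin d → K := fun c j => if j = j0 then c else 1
  let Ac : K → Matrix (Fin n) (Fin d) K := fun c => Matrix.of fun i j => A i j * v c j
  have hdet : ∀ (c : K) (θ : Idx d n),
      ((Ac c).submatrix θ.1 id).det = c * (A.submatrix θ.1 id).det := by
    intro c θ
    have h1 : (Ac c).submatrix θ.1 id = A.submatrix θ.1 id * Matrix.diagonal (v c) := by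
      ext i j
      simp [Ac, Matrix.mul_diagonal]
    rw [h1, Matrix.det_mul, Matrix.det_diagonal]
    have h2 : ∏ j, v c j = c := by
      simp only [v]
      rw [Finset.prod_ite_eq']
      simp
    rw [h2, mul_comm]
  have hAc : ∀ c, evalMinors K d n (Ac c) F = 0 := by
    intro c
    rw [Ideal.mem_iInf] at hF
    have h1 := hF (Ac c)
    rw [Ideal.mem_iInf] at h1
    exact h1 (fun φ hφ => by rw [hdet, hA φ hφ, mul_zero])
  -- polynomial in c
  let p : Polynomial K := ∑ j ∈ Finset.range (F.totalDegree + 1),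
    Polynomial.C (evalMinors K d n A (homogeneousComponent j F)) * Polynomial.X ^ j
  have hp : ∀ c, p.eval c = 0 := by
    intro c
    rw [← hAc c]
    conv_rhs => rw [← sum_homogeneousComponent F, map_sum]
    simp only [p]
    rw [Polynomial.eval_finsetSum]
    refine Finset.sum_congr rfl (fun j _ => ?_)
    rw [Polynomial.eval_mul, Polynomial.eval_C, Polynomial.eval_pow, Polynomial.eval_X, e1, e1]
    have h3 : (fun θ : Idx d n => ((Ac c).submatrix θ.1 id).det) =
        fun θ => c * (A.submatrix θ.1 id).det := funext (hdet c)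
    rw [h3, eval_mul_of_isHomogeneous _ j (homogeneousComponent_isHomogeneous j F)]
    ring
  have hp0 : p = 0 := Polynomial.funext (fun c => by rw [hp c, Polynomial.eval_zero])
  by_cases hk : k < F.totalDegree + 1
  · have h4 := congrArg (fun q => Polynomial.coeff q k) hp0
    simp only [p, Polynomial.finsetSum_coeff, Polynomial.coeff_C_mul, Polynomial.coeff_X_pow,
      Polynomial.coeff_zero] at h4
    rw [Finset.sum_eq_single k] at h4
    · simpa using h4
    · intro b _ hb
      rw [if_neg (Ne.symm hb), mul_zero]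
    · intro hk'
      exact absurd (Finset.mem_range.mpr hk) hk'
  · rw [homogeneousComponent_eq_zero _ _ (by omega), map_zero]

end HomogIdeal

section DetNormal

variable (K : Type u) [Field K] [Infinite K] (d r : ℕ) (t : ℕ) (ht : 0 < t) (htd : t ≤ d)
  (htr : t ≤ r)

include ht htd htr in
/-- the determinantal ring is an integrally closed domain -/
theorem isDomain_and_isIntegrallyClosed_detRing :
    IsDomain (CellRing K d r ⧸ CAlgX.minorIdeal (genMatrix K r d) t) ∧
      IsIntegrallyClosed (CellRing K d r ⧸ CAlgX.minorIdeal (genMatrix K r d) t) := by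
  have hr : 0 < r := by omega
  have hd : 0 < d := by omega
  have hdn : d < d + r := by omega
  set w := detIdx t ht htd htr with hw
  have hprime := isPrime_schubertVanishing K hd hdn w
  obtain ⟨_, hic⟩ := isDomain_and_isIntegrallyClosed_schubert K hd hdn w
  have hy := X_not_mem_schubertVanishing K hd w (cellBot d hr) (botIdx_le hdn w)
  obtain ⟨h1, h2⟩ := isDomain_and_isIntegrallyClosed_dehom (schubertVanishing K d (d + r) w)
    (cellBot d hr) hy (homogeneousComponent_mem_schubertVanishing K hd w)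
  have e := detRingEquiv K d r t ht htd htr hr
  have h1' : IsDomain (PlRing K d (d + r) ⧸ detB K d r t ht htd htr hr) := h1
  have h2' : IsIntegrallyClosed (PlRing K d (d + r) ⧸ detB K d r t ht htd htr hr) := h2
  exact ⟨MulEquiv.isDomain _ e.symm.toMulEquiv, IsIntegrallyClosed.of_equiv e⟩

end DetNormal

end Groth.Agent.Lib.H5b

end
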