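import Mathlib
import Groth.Prelude.Def_DescFam

/-!
# Pullback of descent data along endomorphisms of the covering family (helper5)

For a descent datum `D` relative to a family `f i : X i ⟶ S` and endomorphisms `e i` of the `X i`
over `S`, any descent datum `D'` whose schemes are pullbacks of those of `D` along the `e i`,
compatibly with the gluing bijections, is isomorphic to `D` (`PullData.iso`), naturally
(`PullData.naturality`).
-/

set_option autoImplicit false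
universe w u

namespace Groth.Agent.Lib.H5bDescPull

open CategoryTheory CategoryTheory.Limits AlgebraicGeometry Desc

variable {S : Scheme.{u}} {ι : Type w} {X : ι → Scheme.{u}} {f : ∀ i, X i ⟶ S}

/-- an isomorphism of descent data from componentwise inverses. -/
def isoOfInv {D D' : SchDDFam f} (a : D ⟶ D') (b : ∀ i, D'.obj i ⟶ D.obj i)
    (h1 : ∀ i, a.hom i ≫ b i = 𝟙 _) (h2 : ∀ i, b i ≫ a.hom i = 𝟙 _) : D ≅ D' where
  hom := a
  inv := ⟨b, by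
    intro T i j x₀ x₁ h v w hw
    have h2' : ∀ i, (b i).left ≫ (a.hom i).left = 𝟙 _ := fun i =>
      congrArg (fun m => m.left) (h2 i)
    have h1' : ∀ i, (a.hom i).left ≫ (b i).left = 𝟙 _ := fun i =>
      congrArg (fun m => m.left) (h1 i)
    have hv : v.1 = w.1 ≫ (a.hom i).left := by
      rw [hw, Category.assoc, h2', Category.comp_id]
    rw [a.comm x₀ x₁ h w v hv, Category.assoc, h1', Category.comp_id]⟩
  hom_inv_id := SchDDFam.hom_ext (funext h1)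
  inv_hom_id := SchDDFam.hom_ext (funext h2)

/-- `D'` is a pullback of `D` along the endomorphisms `e i`. -/
structure PullData (e : ∀ i, X i ⟶ X i) (D D' : SchDDFam f) where
  he : ∀ i, e i ≫ f i = f i
  /-- the projections -/
  c : ∀ i, (D'.obj i).left ⟶ (D.obj i).left
  sq : ∀ i, IsPullback (c i) (D'.obj i).hom (D.obj i).hom (e i)
  compat : ∀ ⦃T : Scheme.{u}⦄ ⦃i j : ι⦄ (x₀ : T ⟶ X i) (x₁ : T ⟶ X j) (h : x₀ ≫ f i = x₁ ≫ f j)
    (h' : (x₀ ≫ e i) ≫ f i = (x₁ ≫ e j) ≫ f j)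
    (v : Lifts (D'.obj i) x₀) (v' : Lifts (D.obj i) (x₀ ≫ e i)), v'.1 = v.1 ≫ c i →
    (D'.φ x₀ x₁ h v).1 ≫ c j = (D.φ (x₀ ≫ e i) (x₁ ≫ e j) h' v').1

namespace PullData

variable {e : ∀ i, X i ⟶ X i} {D D' : SchDDFam f} (P : PullData e D D')

include P in
lemma hx {T : Scheme.{u}} {i : ι} (x : T ⟶ X i) : (x ≫ e i) ≫ f i = x ≫ f i := by
  rw [Category.assoc, P.he]

/-- the comparison morphism. -/
noncomputable def m (i : ι) : (D'.obj i).left ⟶ (D.obj i).left :=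
  (D.φ ((D'.obj i).hom ≫ e i) (D'.obj i).hom (P.hx _) ⟨P.c i, (P.sq i).w⟩).1

lemma m_hom (i : ι) : P.m i ≫ (D.obj i).hom = (D'.obj i).hom :=
  (D.φ ((D'.obj i).hom ≫ e i) (D'.obj i).hom (P.hx _) ⟨P.c i, (P.sq i).w⟩).2

lemma key {T : Scheme.{u}} {i : ι} (x : T ⟶ X i) (v : Lifts (D.obj i) (x ≫ e i))
    (u : T ⟶ (D'.obj i).left) (hu1 : u ≫ P.c i = v.1) (hu2 : u ≫ (D'.obj i).hom = x) :
    u ≫ P.m i = (D.φ (x ≫ e i) x (P.hx x) v).1 :=
  (D.φ_natural u ((D'.obj i).hom ≫ e i) (D'.obj i).hom (P.hx _) (x ≫ e i) x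
    (by rw [← Category.assoc, hu2]) hu2 (P.hx x) ⟨P.c i, (P.sq i).w⟩ v hu1.symm).symm

/-- the twist. -/
noncomputable def r (i : ι) : (D.obj i).left ⟶ (D.obj i).left :=
  (D.φ (D.obj i).hom ((D.obj i).hom ≫ e i) (P.hx _).symm ⟨𝟙 _, Category.id_comp _⟩).1

lemma r_hom (i : ι) : P.r i ≫ (D.obj i).hom = (D.obj i).hom ≫ e i :=
  (D.φ (D.obj i).hom ((D.obj i).hom ≫ e i) (P.hx _).symm ⟨𝟙 _, Category.id_comp _⟩).2

lemma key2 {T : Scheme.{u}} {i : ι} (x : T ⟶ X i) (w : Lifts (D.obj i) x) :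
    w.1 ≫ P.r i = (D.φ x (x ≫ e i) (P.hx x).symm w).1 :=
  (D.φ_natural w.1 (D.obj i).hom ((D.obj i).hom ≫ e i) (P.hx _).symm x (x ≫ e i) w.2
    (by rw [← Category.assoc, w.2]) (P.hx x).symm ⟨𝟙 _, Category.id_comp _⟩ w
    (Category.comp_id _).symm).symm

/-- the inverse of the comparison morphism. -/
noncomputable def n (i : ι) : (D.obj i).left ⟶ (D'.obj i).left :=
  (P.sq i).lift (P.r i) (D.obj i).hom (P.r_hom i)

lemma n_c (i : ι) : P.n i ≫ P.c i = P.r i := (P.sq i).lift_fst _ _ _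

lemma n_hom (i : ι) : P.n i ≫ (D'.obj i).hom = (D.obj i).hom := (P.sq i).lift_snd _ _ _

lemma n_m (i : ι) : P.n i ≫ P.m i = 𝟙 _ := by
  rw [P.key (D.obj i).hom ⟨P.r i, P.r_hom i⟩ (P.n i) (P.n_c i) (P.n_hom i)]
  have h1 : (⟨P.r i, P.r_hom i⟩ : Lifts (D.obj i) ((D.obj i).hom ≫ e i)) =
      D.φ (D.obj i).hom ((D.obj i).hom ≫ e i) (P.hx _).symm ⟨𝟙 _, Category.id_comp _⟩ := rfl
  rw [h1, D.φ_comp, D.φ_self]

lemma m_n (i : ι) : P.m i ≫ P.n i = 𝟙 _ := by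
  apply (P.sq i).hom_ext
  · rw [Category.assoc, P.n_c, Category.id_comp,
      P.key2 (D'.obj i).hom ⟨P.m i, P.m_hom i⟩]
    have h1 : (⟨P.m i, P.m_hom i⟩ : Lifts (D.obj i) (D'.obj i).hom) =
        D.φ ((D'.obj i).hom ≫ e i) (D'.obj i).hom (P.hx _) ⟨P.c i, (P.sq i).w⟩ := rfl
    rw [h1, D.φ_comp, D.φ_self]
  · rw [Category.assoc, P.n_hom, P.m_hom, Category.id_comp]

/-- the comparison as a morphism of descent data. -/
noncomputable def toHom : D' ⟶ D :=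
  ⟨fun i => Over.homMk (P.m i) (P.m_hom i), by
    intro T i j x₀ x₁ h v w hw
    have hw' : w.1 = v.1 ≫ P.m i := hw
    show (D.φ x₀ x₁ h w).1 = (D'.φ x₀ x₁ h v).1 ≫ P.m j
    let v' : Lifts (D.obj i) (x₀ ≫ e i) := ⟨v.1 ≫ P.c i, by
      rw [Category.assoc, (P.sq i).w, ← Category.assoc, v.2]⟩
    have hw2 : w = D.φ (x₀ ≫ e i) x₀ (P.hx x₀) v' :=
      Subtype.ext (hw'.trans (P.key x₀ v' v.1 rfl v.2))
    have h' : (x₀ ≫ e i) ≫ f i = (x₁ ≫ e j) ≫ f j := by rw [P.hx, P.hx, h]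
    have hc := P.compat x₀ x₁ h h' v v' rfl
    rw [hw2, D.φ_comp,
      P.key x₁ (D.φ (x₀ ≫ e i) (x₁ ≫ e j) h' v') (D'.φ x₀ x₁ h v).1 hc (D'.φ x₀ x₁ h v).2,
      D.φ_comp]⟩

/-- a pullback of `D` along endomorphisms over `S` is isomorphic to `D`. -/
noncomputable def iso : D' ≅ D :=
  isoOfInv P.toHom (fun i => Over.homMk (P.n i) (P.n_hom i))
    (fun i => Over.OverMorphism.ext (P.m_n i)) (fun i => Over.OverMorphism.ext (P.n_m i))

lemma iso_hom : P.iso.hom = P.toHom := rfl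

end PullData

/-- naturality of the comparison. -/
theorem PullData.naturality {e : ∀ i, X i ⟶ X i} {D₁ D₂ D₁' D₂' : SchDDFam f}
    (P₁ : PullData e D₁ D₁') (P₂ : PullData e D₂ D₂') (b : D₁ ⟶ D₂) (b' : D₁' ⟶ D₂')
    (hb : ∀ i, (b'.hom i).left ≫ P₂.c i = P₁.c i ≫ (b.hom i).left) :
    b' ≫ P₂.toHom = P₁.toHom ≫ b := by
  apply SchDDFam.hom_ext
  funext i
  apply Over.OverMorphism.ext
  show (b'.hom i).left ≫ P₂.m i = P₁.m i ≫ (b.hom i).left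
  have hv : (P₁.c i ≫ (b.hom i).left) ≫ (D₂.obj i).hom = (D₁'.obj i).hom ≫ e i := by
    rw [Category.assoc, Over.w (b.hom i), (P₁.sq i).w]
  rw [P₂.key (D₁'.obj i).hom ⟨P₁.c i ≫ (b.hom i).left, hv⟩ (b'.hom i).left (hb i)
    (Over.w (b'.hom i))]
  exact b.comm ((D₁'.obj i).hom ≫ e i) (D₁'.obj i).hom (P₁.hx _) ⟨P₁.c i, (P₁.sq i).w⟩
    ⟨P₁.c i ≫ (b.hom i).left, hv⟩ rfl

end Groth.Agent.Lib.H5bDescPull
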