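import Mathlib

/-!
# Rank factorization from vanishing minors (helper5, second run)

A matrix over a field all of whose `(n+1) × (n+1)` minors vanish is a product of an `r × n` and an
`n × d` matrix.  The proof is by induction on `n`, passing to the Schur complement of a nonzero
entry.
-/

set_option autoImplicit false

namespace Groth.Agent.Lib.H5b

open Matrix

variable {K : Type*} [Field K]

/-- The minors of the Schur complement of a nonzero entry are, up to the pivot, minors of the
matrix one size larger. -/
theorem det_schur_submatrix {r d t : ℕ} (Z : Matrix (Fin r) (Fin d) K) (i₀ : Fin r) (k₀ : Fin d)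
    (ha : Z i₀ k₀ ≠ 0) (f : Fin t → Fin r) (g : Fin t → Fin d)
    (h : (Z.submatrix (Sum.elim (fun _ : Unit => i₀) f) (Sum.elim (fun _ : Unit => k₀) g)).det = 0) :
    ((Matrix.of fun i k => Z i k - Z i k₀ * Z i₀ k / Z i₀ k₀).submatrix f g).det = 0 := by
  classical
  set M := Z.submatrix (Sum.elim (fun _ : Unit => i₀) f) (Sum.elim (fun _ : Unit => k₀) g) with hM
  let B : Matrix Unit (Fin t) K := Matrix.of fun _ j => Z i₀ (g j) / Z i₀ k₀
  let C : Matrix (Fin t) Unit K := Matrix.of fun i _ => Z (f i) k₀
  let D : Matrix (Fin t) (Fin t) K := Z.submatrix f g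
  have hN : Matrix.fromBlocks (1 : Matrix Unit Unit K) B C D =
      Matrix.diagonal (Sum.elim (fun _ : Unit => (Z i₀ k₀)⁻¹) (fun _ : Fin t => (1 : K))) * M := by
    ext i j
    rw [Matrix.diagonal_mul]
    rcases i with i | i <;> rcases j with j | j
    · simp [M, inv_mul_cancel₀ ha]
    · simp [M, B, div_eq_inv_mul]
    · simp [M, C]
    · simp [M, D]
  have hdet : (Matrix.fromBlocks (1 : Matrix Unit Unit K) B C D).det = 0 := by
    rw [hN, Matrix.det_mul, h, mul_zero]
  rw [Matrix.det_fromBlocks_one₁₁] at hdet
  have hEq : (Matrix.of fun i k => Z i k - Z i k₀ * Z i₀ k / Z i₀ k₀).submatrix f g = D - C * B := by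
    ext i j
    simp [D, C, B, Matrix.mul_apply, mul_div_assoc]
  rw [hEq]
  exact hdet

/-- **Rank factorization**: a matrix all of whose `(n+1)`-minors vanish is a product of an
`r × n` matrix and an `n × d` matrix. -/
theorem exists_mul_eq_of_minors_eq_zero {r d : ℕ} :
    ∀ (n : ℕ) (Z : Matrix (Fin r) (Fin d) K),
      (∀ (a : Fin (n + 1) → Fin r) (b : Fin (n + 1) → Fin d), (Z.submatrix a b).det = 0) →
      ∃ (U : Fin r → Fin n → K) (V : Fin n → Fin d → K), ∀ i k, Z i k = ∑ l, U i l * V l k := by
  classical
  intro n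
  induction n with
  | zero =>
    intro Z h
    refine ⟨fun _ l => l.elim0, fun l _ => l.elim0, fun i k => ?_⟩
    have := h (fun _ => i) (fun _ => k)
    rw [Matrix.det_fin_one] at this
    simpa using this
  | succ n ih =>
    intro Z h
    by_cases hz : ∀ i k, Z i k = 0
    · exact ⟨fun _ _ => 0, fun _ _ => 0, fun i k => by simp [hz i k]⟩
    · push Not at hz
      obtain ⟨i₀, k₀, ha⟩ := hz
      have h' : ∀ (f : Fin (n + 1) → Fin r) (g : Fin (n + 1) → Fin d),
          ((Matrix.of fun i k => Z i k - Z i k₀ * Z i₀ k / Z i₀ k₀).submatrix f g).det = 0 := by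
        intro f g
        apply det_schur_submatrix Z i₀ k₀ ha f g
        let e : Fin (n + 1 + 1) ≃ Unit ⊕ Fin (n + 1) :=
          Fintype.equivOfCardEq (by simp [Nat.add_comm])
        have h1 := h (Sum.elim (fun _ : Unit => i₀) f ∘ e) (Sum.elim (fun _ : Unit => k₀) g ∘ e)
        have h2 : Z.submatrix (Sum.elim (fun _ : Unit => i₀) f ∘ e)
            (Sum.elim (fun _ : Unit => k₀) g ∘ e) =
            (Z.submatrix (Sum.elim (fun _ : Unit => i₀) f)
              (Sum.elim (fun _ : Unit => k₀) g)).submatrix e e := by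
          ext i j
          simp
        rw [h2, Matrix.det_submatrix_equiv_self] at h1
        exact h1
      obtain ⟨U', V', hUV⟩ := ih _ h'
      refine ⟨fun i => Fin.snoc (U' i) (Z i k₀ / Z i₀ k₀),
        Fin.snoc (α := fun _ => Fin d → K) V' (fun k => Z i₀ k), fun i k => ?_⟩
      rw [Fin.sum_univ_castSucc]
      simp only [Fin.snoc_castSucc, Fin.snoc_last]
      have := hUV i k
      simp only [Matrix.of_apply] at this
      rw [← this]
      field_simp
      ring

end Groth.Agent.Lib.H5b
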