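import Mathlib
import Groth.Prelude.Def_W4bk4grassmannianPl
import Groth.Agent.Lib.H5bRich

/-!
# The row multigrading and standard monomials (helper5, second run)

The minors of a matrix of variables are homogeneous for the multigrading by rows
(`deg x_{ik} = e_i`).  Consequently, if a polynomial `f` in the Plücker coordinates has a
row-homogeneous image under `richMap σ τ` and `f ≡ Σ l_c · (standard monomial c)` modulo the kernel,
then every standard monomial `c` in `[σ, τ]` with `l_c ≠ 0` has the same row degree as `f`.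
-/

set_option autoImplicit false
set_option linter.unusedSectionVars false

universe u

noncomputable section

open MvPolynomial W4bk4grassmannian

namespace Groth.Agent.Lib.H5b

variable (K : Type u) [Field K] {d n : ℕ}

/-- the row weight of the variable `x_{ik}` -/
def rowW : Fin n × Fin d → (Fin n →₀ ℕ) := fun p => Finsupp.single p.1 1

/-- the row degree of an index: the indicator of its set of rows -/
def rowDeg (θ : Idx d n) : Fin n →₀ ℕ := ∑ t : Fin d, Finsupp.single (θ.1 t) 1

/-- the row degree of a tuple of indices -/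
def chainRowDeg {m : ℕ} (c : Fin m → Idx d n) : Fin n →₀ ℕ := ∑ j : Fin m, rowDeg (c j)

theorem weight_rowW_permMono (θ : Idx d n) (π : Equiv.Perm (Fin d)) :
    Finsupp.weight (rowW (d := d) (n := n)) (permMono θ π) = rowDeg θ := by
  unfold permMono rowDeg
  rw [map_sum]
  rw [← Equiv.sum_comp π (fun t => Finsupp.single (θ.1 t) 1)]
  refine Finset.sum_congr rfl (fun k _ => ?_)
  rw [Finsupp.weight_single]
  simp [rowW]

theorem isWH_richMap_X (σ τ θ : Idx d n) :
    IsWeightedHomogeneous (rowW (d := d) (n := n)) (richMap K σ τ (X θ)) (rowDeg θ) := by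
  rw [richMap_X, det_submatrix_richMat]
  apply IsWeightedHomogeneous.sum
  intro π _
  have h := isWeightedHomogeneous_monomial (R := K) (rowW (d := d) (n := n)) (permMono θ π)
    (∏ k : Fin d, (if σ.1 k ≤ θ.1 (π k) ∧ θ.1 (π k) ≤ τ.1 k then (1 : K) else 0))
    (weight_rowW_permMono θ π)
  rcases Int.units_eq_one_or (Equiv.Perm.sign π) with hs | hs
  · rw [hs, one_smul]
    exact h
  · rw [hs, Units.neg_smul, one_smul]
    exact h.neg

theorem isWH_richMap_chainMon {m : ℕ} (σ τ : Idx d n) (c : Fin m → Idx d n) :
    IsWeightedHomogeneous (rowW (d := d) (n := n)) (richMap K σ τ (chainMon K c))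
      (chainRowDeg c) := by
  rw [richMap_chainMon]
  unfold chainRowDeg
  exact IsWeightedHomogeneous.prod _ _ _ (fun j _ => isWH_richMap_X K σ τ (c j))

/-- total row degree -/
theorem sum_rowDeg (θ : Idx d n) : ∑ i : Fin n, rowDeg θ i = d := by
  unfold rowDeg
  simp_rw [Finsupp.finsetSum_apply]
  rw [Finset.sum_comm]
  simp [Finsupp.single_apply]

theorem sum_chainRowDeg {m : ℕ} (c : Fin m → Idx d n) :
    ∑ i : Fin n, chainRowDeg c i = m * d := by
  unfold chainRowDeg
  simp_rw [Finsupp.finsetSum_apply]
  rw [Finset.sum_comm]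
  simp_rw [sum_rowDeg]
  simp

/-- an index is determined by its row degree -/
theorem rowDeg_injective : Function.Injective (rowDeg (d := d) (n := n)) := by
  classical
  intro θ θ' h
  have hmem : ∀ (ψ : Idx d n) (i : Fin n), rowDeg ψ i ≠ 0 ↔ i ∈ Finset.univ.image ψ.1 := by
    intro ψ i
    unfold rowDeg
    rw [Finsupp.finsetSum_apply]
    simp only [Finsupp.single_apply, ne_eq, Finset.sum_eq_zero_iff, Finset.mem_univ, forall_true_left,
      ite_eq_right_iff, one_ne_zero, imp_false, not_forall, not_not, Finset.mem_image, true_and]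
  have himg : Finset.univ.image θ.1 = Finset.univ.image θ'.1 := by
    ext i
    rw [← hmem, ← hmem, h]
  have hcard : (Finset.univ.image θ'.1).card = d := by
    rw [Finset.card_image_of_injective _ θ'.2.injective, Finset.card_univ, Fintype.card_fin]
  have e1 := Finset.orderEmbOfFin_unique hcard (f := θ.1)
    (fun x => by rw [← himg]; exact Finset.mem_image_of_mem _ (Finset.mem_univ x)) θ.2
  have e2 := Finset.orderEmbOfFin_unique hcard (f := θ'.1)
    (fun x => Finset.mem_image_of_mem _ (Finset.mem_univ x)) θ'.2
  exact Subtype.ext (e1.trans e2.symm)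

theorem rowDeg_sup_add_inf (τ φ : Idx d n) :
    rowDeg (W4bk4grassmannian.sup τ φ) + rowDeg (W4bk4grassmannian.inf τ φ) =
      rowDeg τ + rowDeg φ := by
  unfold rowDeg W4bk4grassmannian.sup W4bk4grassmannian.inf
  rw [← Finset.sum_add_distrib, ← Finset.sum_add_distrib]
  refine Finset.sum_congr rfl (fun t _ => ?_)
  simp only
  rcases le_total (τ.1 t) (φ.1 t) with h | h
  · rw [max_eq_right h, min_eq_left h, add_comm]
  · rw [max_eq_left h, min_eq_right h]

theorem diagMono_sup_add_inf (τ φ : Idx d n) :
    diagMono (W4bk4grassmannian.sup τ φ) + diagMono (W4bk4grassmannian.inf τ φ) =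
      diagMono τ + diagMono φ := by
  unfold diagMono W4bk4grassmannian.sup W4bk4grassmannian.inf
  rw [← Finset.sum_add_distrib, ← Finset.sum_add_distrib]
  refine Finset.sum_congr rfl (fun t _ => ?_)
  simp only
  rcases le_total (τ.1 t) (φ.1 t) with h | h
  · rw [max_eq_right h, min_eq_left h, add_comm]
  · rw [max_eq_left h, min_eq_right h]

/-- **Key lemma.** -/
theorem chainRowDeg_eq_of_coeff_ne_zero (hd : 0 < d) (σ τ : Idx d n) (l : Chain d n →₀ K)
    (f : PlRing K d n) (hf : richMap K σ τ f = richMap K σ τ (stdComb K l))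
    (μ0 : Fin n →₀ ℕ) (hμ : IsWeightedHomogeneous (rowW (d := d) (n := n)) (richMap K σ τ f) μ0)
    (c : Chain d n) (hc : ∀ j, σ ≤ c.2.1 j ∧ c.2.1 j ≤ τ) (hne : l c ≠ 0) :
    chainRowDeg c.2.1 = μ0 ∧ richMap K σ τ f ≠ 0 := by
  classical
  constructor
  · by_contra hdeg
    -- take the homogeneous component of weight `chainRowDeg c`
    have h1 : weightedHomogeneousComponent (rowW (d := d) (n := n)) (chainRowDeg c.2.1)
        (richMap K σ τ f) = 0 :=
      hμ.weightedHomogeneousComponent_ne _ hdeg
    have h2 : weightedHomogeneousComponent (rowW (d := d) (n := n)) (chainRowDeg c.2.1)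
        (richMap K σ τ (stdComb K l)) =
        richMap K σ τ (stdComb K (l.filter
          (fun c' : Chain d n => chainRowDeg c'.2.1 = chainRowDeg c.2.1))) := by
      unfold stdComb
      rw [Finsupp.linearCombination_apply, Finsupp.linearCombination_apply, Finsupp.sum,
        Finsupp.sum, map_sum, map_sum, map_sum, Finsupp.support_filter, Finset.sum_filter]
      refine Finset.sum_congr rfl (fun c' _ => ?_)
      rw [map_smul, map_smul]
      by_cases hc' : chainRowDeg c'.2.1 = chainRowDeg c.2.1
      · rw [if_pos hc', Finsupp.filter_apply_pos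
          (fun c' : Chain d n => chainRowDeg c'.2.1 = chainRowDeg c.2.1) l hc', map_smul]
        congr 1
        rw [← hc']
        exact (isWH_richMap_chainMon K σ τ c'.2.1).weightedHomogeneousComponent_same
      · rw [if_neg hc']
        rw [(isWH_richMap_chainMon K σ τ c'.2.1).weightedHomogeneousComponent_ne _
          (fun h => hc' h.symm), smul_zero]
    rw [hf, h2] at h1
    have h3 := coeff_eq_zero_of_richMap_eq_zero K hd σ τ _ h1 c hc
    rw [Finsupp.filter_apply_pos
      (fun c' : Chain d n => chainRowDeg c'.2.1 = chainRowDeg c.2.1) l rfl] at h3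
    exact hne h3
  · intro h0
    rw [h0] at hf
    exact hne (coeff_eq_zero_of_richMap_eq_zero K hd σ τ l hf.symm c hc)

end Groth.Agent.Lib.H5b
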