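import Mathlib
import Groth.Prelude.Def_W4bk4grassmannianPl
import Groth.Agent.Lib.H5bRowDeg
import Groth.Agent.Lib.H5bSchubertB

/-!
# The shape of the straightening relation of a skew pair (helper5, second run)
-/

set_option autoImplicit false
set_option linter.unusedSectionVars false

universe u

noncomputable section

open MvPolynomial W4bk4grassmannian

namespace Groth.Agent.Lib.H5b

variable (K : Type u) [Field K] {d n : ℕ}

theorem plIdealTop_le_vanishing : plIdealTop (d := d) (n := n) K ≤ vanishing K d n := by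
  unfold plIdealTop
  rw [Ideal.span_le]
  rintro f ⟨i, j, r, -, rfl⟩
  unfold vanishing
  simp only [Submodule.coe_iInf, Set.mem_iInter, SetLike.mem_coe, RingHom.mem_ker]
  intro A
  exact evalMinors_shuffleRel A i j r

/-- the standard monomial `X_α X_β`, `β ≤ α` -/
def pairChain (α β : Idx d n) (h : β ≤ α) : Chain d n :=
  ⟨2, ⟨![α, β], by
    intro a b hab
    fin_cases a <;> fin_cases b
    · exact le_refl _
    · exact h
    · exact absurd hab (by decide)
    · exact le_refl _⟩⟩

theorem chainMon_pairChain (α β : Idx d n) (h : β ≤ α) :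
    chainMon K (pairChain α β h).2.1 = X α * X β := by
  unfold chainMon pairChain
  rw [Fin.prod_univ_two]
  rfl

theorem eq_pairChain (c : Fin 2 → Idx d n) (hanti : Antitone c) (α β : Idx d n) (h : β ≤ α)
    (h0 : c 0 = α) (h1 : c 1 = β) : (⟨2, ⟨c, hanti⟩⟩ : Chain d n) = pairChain α β h := by
  unfold pairChain
  have : c = ![α, β] := by
    funext j
    fin_cases j
    · exact h0
    · exact h1
  subst this
  rfl

variable [Infinite K]

section

variable (hd : 0 < d) (τ φ : Idx d n) (l : Chain d n →₀ K)
  (hl : X τ * X φ - stdComb K l ∈ plIdealTop (d := d) (n := n) K)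

include hl in
theorem richMap_pair_eq (σ' τ' : Idx d n) :
    richMap K σ' τ' (X τ * X φ) = richMap K σ' τ' (stdComb K l) := by
  have h := richMap_eq_zero_of_mem K σ' τ' _ (plIdealTop_le_schubertVanishing K τ' hl)
  rw [map_sub, sub_eq_zero] at h
  exact h

theorem isWH_richMap_pair (σ' τ' : Idx d n) :
    IsWeightedHomogeneous (rowW (d := d) (n := n)) (richMap K σ' τ' (X τ * X φ))
      (rowDeg τ + rowDeg φ) := by
  rw [map_mul]
  exact (isWH_richMap_X K σ' τ' τ).mul (isWH_richMap_X K σ' τ' φ)

include hd hl in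
/-- the standard monomials occurring in the straightening of `X_τ X_φ` -/
theorem support_structure (c : Chain d n) (hc : l c ≠ 0) :
    ∃ (α β : Idx d n) (h : β ≤ α), c = pairChain α β h ∧
      W4bk4grassmannian.sup τ φ ≤ α ∧ β ≤ W4bk4grassmannian.inf τ φ ∧
      rowDeg α + rowDeg β = rowDeg τ + rowDeg φ := by
  obtain ⟨m, c, hanti⟩ := c
  have hsum : ∑ i : Fin n, (rowDeg τ + rowDeg φ) i = 2 * d := by
    simp only [Finsupp.add_apply]
    rw [Finset.sum_add_distrib, sum_rowDeg, sum_rowDeg]
    ring
  rcases Nat.eq_zero_or_pos m with rfl | hm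
  · exfalso
    have key := chainRowDeg_eq_of_coeff_ne_zero K hd τ τ l _ (richMap_pair_eq K τ φ l hl τ τ) _
      (isWH_richMap_pair K τ φ τ τ) ⟨0, ⟨c, hanti⟩⟩ (fun j => j.elim0) hc
    have h1 := sum_chainRowDeg c
    rw [key.1, hsum] at h1
    omega
  · obtain ⟨m', rfl⟩ : ∃ m', m = m' + 1 := ⟨m - 1, by omega⟩
    have hmem : ∀ j, c (Fin.last m') ≤ c j ∧ c j ≤ c 0 :=
      fun j => ⟨hanti (Fin.le_last j), hanti (Fin.zero_le j)⟩
    have key := chainRowDeg_eq_of_coeff_ne_zero K hd (c (Fin.last m')) (c 0) l _
      (richMap_pair_eq K τ φ l hl _ _) _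
      (isWH_richMap_pair K τ φ _ _) ⟨m' + 1, ⟨c, hanti⟩⟩ hmem hc
    have h1 := sum_chainRowDeg c
    rw [key.1, hsum] at h1
    have hm' : m' = 1 := by
      have : (m' + 1) * d = 2 * d := h1.symm
      have := Nat.eq_of_mul_eq_mul_right hd this
      omega
    subst hm'
    have hne := key.2
    rw [map_mul] at hne
    have hτ : richMap K (c (Fin.last 1)) (c 0) (X τ) ≠ 0 := left_ne_zero_of_mul hne
    have hφ : richMap K (c (Fin.last 1)) (c 0) (X φ) ≠ 0 := right_ne_zero_of_mul hne
    have hτ1 : τ ≤ c 0 := by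
      by_contra h
      exact hτ (richMap_X_eq_zero_of_not_le K _ _ τ h)
    have hτ2 : c (Fin.last 1) ≤ τ := by
      by_contra h
      exact hτ (richMap_X_eq_zero_of_not_ge K _ _ τ h)
    have hφ1 : φ ≤ c 0 := by
      by_contra h
      exact hφ (richMap_X_eq_zero_of_not_le K _ _ φ h)
    have hφ2 : c (Fin.last 1) ≤ φ := by
      by_contra h
      exact hφ (richMap_X_eq_zero_of_not_ge K _ _ φ h)
    have hlast : Fin.last 1 = (1 : Fin 2) := rfl
    rw [hlast] at hτ2 hφ2
    refine ⟨c 0, c 1, hanti (by decide), eq_pairChain c hanti _ _ _ rfl rfl,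
      fun t => max_le (hτ1 t) (hφ1 t), fun t => le_min (hτ2 t) (hφ2 t), ?_⟩
    have h2 := key.1
    unfold chainRowDeg at h2
    rw [Fin.sum_univ_two] at h2
    exact h2

include hd hl in
/-- the coefficient of `X_{τ∨φ} X_{τ∧φ}` is one -/
theorem coeff_sup_inf :
    l (pairChain (W4bk4grassmannian.sup τ φ) (W4bk4grassmannian.inf τ φ)
      (fun _ => le_trans (min_le_left _ _) (le_max_left _ _))) = 1 := by
  classical
  set cs := pairChain (W4bk4grassmannian.sup τ φ) (W4bk4grassmannian.inf τ φ)
    (fun _ => le_trans (min_le_left _ _) (le_max_left _ _)) with hcs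
  have hτ1 : τ ≤ W4bk4grassmannian.sup τ φ := fun t => le_max_left _ _
  have hτ2 : W4bk4grassmannian.inf τ φ ≤ τ := fun t => min_le_left _ _
  have hφ1 : φ ≤ W4bk4grassmannian.sup τ φ := fun t => le_max_right _ _
  have hφ2 : W4bk4grassmannian.inf τ φ ≤ φ := fun t => min_le_right _ _
  have h1 := richMap_pair_eq K τ φ l hl (W4bk4grassmannian.inf τ φ) (W4bk4grassmannian.sup τ φ)
  -- the right-hand side reduces to one term
  have h2 : richMap K (W4bk4grassmannian.inf τ φ) (W4bk4grassmannian.sup τ φ) (stdComb K l) =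
      l cs • richMap K (W4bk4grassmannian.inf τ φ) (W4bk4grassmannian.sup τ φ)
        (chainMon K cs.2.1) := by
    unfold stdComb
    rw [Finsupp.linearCombination_apply, Finsupp.sum, map_sum]
    simp_rw [map_smul]
    apply Finset.sum_eq_single cs
    · intro c hc hne
      rw [Finsupp.mem_support_iff] at hc
      obtain ⟨α, β, h, rfl, hα, hβ, -⟩ := support_structure K hd τ φ l hl c hc
      rw [richMap_chainMon_eq_zero, smul_zero]
      intro hall
      apply hne
      have hall' : ∀ j : Fin 2, W4bk4grassmannian.inf τ φ ≤ ![α, β] j ∧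
          ![α, β] j ≤ W4bk4grassmannian.sup τ φ := hall
      have e1 : α = W4bk4grassmannian.sup τ φ := le_antisymm (hall' 0).2 hα
      have e2 : β = W4bk4grassmannian.inf τ φ := le_antisymm hβ (hall' 1).1
      subst e1 e2
      rfl
    · intro hns
      rw [Finsupp.notMem_support_iff] at hns
      rw [hns, zero_smul]
  rw [h2, map_mul] at h1
  -- compare the coefficients of the leading monomial
  have hL : LeadsWith (wgt (d := d) (n := n))
      (richMap K (W4bk4grassmannian.inf τ φ) (W4bk4grassmannian.sup τ φ) (X τ) *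
        richMap K (W4bk4grassmannian.inf τ φ) (W4bk4grassmannian.sup τ φ) (X φ))
      (diagMono τ + diagMono φ) :=
    (leadsWith_richMap_X K _ _ τ hτ2 hτ1).mul (leadsWith_richMap_X K _ _ φ hφ2 hφ1)
  have hR : LeadsWith (wgt (d := d) (n := n))
      (richMap K (W4bk4grassmannian.inf τ φ) (W4bk4grassmannian.sup τ φ) (chainMon K cs.2.1))
      (diagMono (W4bk4grassmannian.sup τ φ) + diagMono (W4bk4grassmannian.inf τ φ)) := by
    rw [hcs, chainMon_pairChain, map_mul]
    exact (leadsWith_richMap_X K _ _ _ (fun _ => le_trans (min_le_left _ _) (le_max_left _ _))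
      (le_refl _)).mul (leadsWith_richMap_X K _ _ _ (le_refl _)
        (fun _ => le_trans (min_le_left _ _) (le_max_left _ _)))
  have h3 := congrArg (coeff (diagMono τ + diagMono φ)) h1
  rw [hL.1, coeff_smul, ← diagMono_sup_add_inf, hR.1, smul_eq_mul, mul_one] at h3
  exact h3.symm

include hd hl in
/-- **The shape of the straightening relation of a skew pair.** -/
theorem straightening_shape :
    ∃ g ∈ Submodule.span K {f : PlRing K d n | ∃ α β : Idx d n,
        β ≤ α ∧ W4bk4grassmannian.sup τ φ < α ∧ β < W4bk4grassmannian.inf τ φ ∧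
          f = X α * X β},
      X τ * X φ - X (W4bk4grassmannian.sup τ φ) * X (W4bk4grassmannian.inf τ φ) - g ∈
        vanishing K d n := by
  classical
  set cs := pairChain (W4bk4grassmannian.sup τ φ) (W4bk4grassmannian.inf τ φ)
    (fun _ => le_trans (min_le_left _ _) (le_max_left _ _)) with hcs
  have hone : l cs = 1 := coeff_sup_inf K hd τ φ l hl
  refine ⟨stdComb K (l.erase cs), ?_, ?_⟩
  · unfold stdComb
    rw [Finsupp.linearCombination_apply, Finsupp.sum]
    apply Submodule.sum_mem
    intro c hc
    apply Submodule.smul_mem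
    apply Submodule.subset_span
    rw [Finsupp.support_erase, Finset.mem_erase, Finsupp.mem_support_iff] at hc
    obtain ⟨α, β, h, rfl, hα, hβ, hdeg⟩ := support_structure K hd τ φ l hl c hc.2
    refine ⟨α, β, h, ?_, ?_, chainMon_pairChain K α β h⟩
    · apply lt_of_le_of_ne hα
      intro e1
      apply hc.1
      subst e1
      have e2 : rowDeg β = rowDeg (W4bk4grassmannian.inf τ φ) := by
        rw [← rowDeg_sup_add_inf τ φ] at hdeg
        exact add_left_cancel hdeg
      have e3 := rowDeg_injective e2
      subst e3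
      rfl
    · apply lt_of_le_of_ne hβ
      intro e1
      apply hc.1
      subst e1
      have e2 : rowDeg α = rowDeg (W4bk4grassmannian.sup τ φ) := by
        rw [← rowDeg_sup_add_inf τ φ] at hdeg
        exact add_right_cancel hdeg
      have e3 := rowDeg_injective e2
      subst e3
      rfl
  · have hsplit : stdComb K l =
        X (W4bk4grassmannian.sup τ φ) * X (W4bk4grassmannian.inf τ φ) +
          stdComb K (l.erase cs) := by
      conv_lhs => rw [← Finsupp.single_add_erase cs l]
      rw [stdComb_add]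
      congr 1
      unfold stdComb
      rw [Finsupp.linearCombination_single, hone, one_smul, hcs, chainMon_pairChain]
    have e : X τ * X φ - X (W4bk4grassmannian.sup τ φ) * X (W4bk4grassmannian.inf τ φ) -
        stdComb K (l.erase cs) = X τ * X φ - stdComb K l := by
      rw [hsplit]
      ring
    rw [e]
    exact plIdealTop_le_vanishing K hl

end

/-- existence form -/
theorem exists_straightening_shape (hd : 0 < d) (τ φ : Idx d n) :
    ∃ g ∈ Submodule.span K {f : PlRing K d n | ∃ α β : Idx d n,
        β ≤ α ∧ W4bk4grassmannian.sup τ φ < α ∧ β < W4bk4grassmannian.inf τ φ ∧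
          f = X α * X β},
      X τ * X φ - X (W4bk4grassmannian.sup τ φ) * X (W4bk4grassmannian.inf τ φ) - g ∈
        vanishing K d n := by
  obtain ⟨l, hl⟩ := exists_stdComb K (X τ * X φ : PlRing K d n)
  exact straightening_shape K hd τ φ l hl

end Groth.Agent.Lib.H5b
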