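import Mathlib
import Groth.Prelude.Def_W4bk4grassmannianPl
import Groth.Agent.Lib.H5bEchelon
import Groth.Agent.Lib.H5bCell
import Groth.Agent.Lib.H5bRank
import Groth.Agent.Lib.H5bStraight

/-!
# Determinantal ideals as vanishing ideals (helper5, second run)

The determinantal variety `D_t` of `r × d` matrices of rank `< t` is the opposite cell of a
Schubert variety `X(φ_t) ⊆ G(d, d + r)`.  Using that the homogeneous ideal `J(φ_t)` is prime and
generated by Plücker relations and the coordinates `X_θ`, `θ ≰ φ_t`, we show that a polynomial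
vanishing at all matrices of rank `< t` lies in the ideal of `t`-minors.
-/

set_option autoImplicit false

universe u

noncomputable section

open MvPolynomial W4bk4grassmannian

namespace Groth.Agent.Lib.H5b

section Homog

variable {σ : Type*} {R : Type*} [CommSemiring R]

theorem eval_mul_of_isHomogeneous (P : MvPolynomial σ R) (k : ℕ) (hP : P.IsHomogeneous k) (c : R)
    (v : σ → R) : eval (fun i => c * v i) P = c ^ k * eval v P := by
  rw [eval_eq, eval_eq, Finset.mul_sum]
  refine Finset.sum_congr rfl (fun m hm => ?_)
  have hdeg : ∑ i ∈ m.support, m i = k := by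
    have h1 := hP (mem_support_iff.mp hm)
    rw [← h1]
    simp [Finsupp.weight_apply, Finsupp.sum]
  simp_rw [mul_pow]
  rw [Finset.prod_mul_distrib, Finset.prod_pow_eq_pow_sum, hdeg]
  ring

/-- Homogenization of degree `D` with respect to the variable `y`. -/
def homog (D : ℕ) (y : σ) (F : MvPolynomial σ R) : MvPolynomial σ R :=
  ∑ k ∈ Finset.range (D + 1), X y ^ (D - k) * homogeneousComponent k F

theorem homog_isHomogeneous (D : ℕ) (y : σ) (F : MvPolynomial σ R) :
    (homog D y F).IsHomogeneous D := by
  unfold homog
  apply IsHomogeneous.sum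
  intro k hk
  have hk' : k ≤ D := by
    have := Finset.mem_range.mp hk
    omega
  have h1 : (X y ^ (D - k) : MvPolynomial σ R).IsHomogeneous (D - k) := by
    have := (isHomogeneous_X R y).pow (D - k)
    rwa [one_mul] at this
  have h2 := h1.mul (homogeneousComponent_isHomogeneous k F)
  rwa [Nat.sub_add_cancel hk'] at h2

theorem map_homog {B : Type*} [CommSemiring B] (φ : MvPolynomial σ R →+* B) (y : σ)
    (hy : φ (X y) = 1) (F : MvPolynomial σ R) : φ (homog F.totalDegree y F) = φ F := by
  unfold homog
  rw [map_sum]
  simp_rw [map_mul, map_pow, hy, one_pow, one_mul]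
  rw [← map_sum, sum_homogeneousComponent]

end Homog

section Cell

variable (K : Type u) [Field K] (d r : ℕ)

/-- Restriction of Plücker polynomials to the opposite big cell `[I_d ; Z]`. -/
def cellMap : PlRing K d (d + r) →ₐ[K] CellRing K d r := minorsMap (cellMatrix K d r)

theorem cellMap_X (θ : Idx d (d + r)) : cellMap K d r (X θ) = cellMinor K d r θ := by
  unfold cellMap cellMinor
  rw [minorsMap_X]

/-- The matrix `[I_d ; Z₀]` with entries in `K`. -/
def cellPt (Z₀ : Matrix (Fin r) (Fin d) K) : Matrix (Fin (d + r)) (Fin d) K :=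
  Matrix.of fun i j => if h : i.val < d then (if i.val = j.val then 1 else 0)
    else Z₀ ⟨i.val - d, by have := i.isLt; omega⟩ j

theorem eval_cellMap (Z₀ : Matrix (Fin r) (Fin d) K) (F : PlRing K d (d + r)) :
    MvPolynomial.eval (fun p : Fin r × Fin d => Z₀ p.1 p.2) (cellMap K d r F) =
      evalMinors K d (d + r) (cellPt K d r Z₀) F := by
  have h : ((MvPolynomial.aeval (fun p : Fin r × Fin d => Z₀ p.1 p.2) :
      CellRing K d r →ₐ[K] K).comp (cellMap K d r)) = evalMinors K d (d + r) (cellPt K d r Z₀) := by
    apply MvPolynomial.algHom_ext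
    intro θ
    rw [AlgHom.comp_apply]
    unfold cellMap
    rw [minorsMap_X]
    unfold evalMinors
    rw [aeval_X]
    rw [← AlgHom.coe_toRingHom, RingHom.map_det]
    congr 1
    ext s k
    simp only [RingHom.mapMatrix_apply, Matrix.map_apply, Matrix.submatrix_apply, id_eq,
      cellMatrix, cellPt, Matrix.of_apply]
    split_ifs <;> simp
  have := congrArg (fun g => g F) h
  simpa [MvPolynomial.coe_aeval_eq_eval] using this

variable {r} in
/-- The index of the identity block. -/
abbrev cellBot (hr : 0 < r) : Idx d (d + r) := botIdx (Nat.lt_add_of_pos_right hr)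

theorem cellMatrix_submatrix_bot (hr : 0 < r) :
    (cellMatrix K d r).submatrix (cellBot d hr).1 id = 1 := by
  ext j k
  simp only [Matrix.submatrix_apply, id_eq, cellMatrix, Matrix.of_apply, botIdx, Matrix.one_apply]
  rw [dif_pos j.isLt]
  by_cases hjk : j = k
  · subst hjk
    simp
  · rw [if_neg hjk, if_neg]
    intro h
    exact hjk (Fin.ext h)

theorem cellPt_submatrix_bot (hr : 0 < r) (Z₀ : Matrix (Fin r) (Fin d) K) :
    (cellPt K d r Z₀).submatrix (cellBot d hr).1 id = 1 := by
  ext j k
  simp only [Matrix.submatrix_apply, id_eq, cellPt, Matrix.of_apply, botIdx, Matrix.one_apply]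
  rw [dif_pos j.isLt]
  by_cases hjk : j = k
  · subst hjk
    simp
  · rw [if_neg hjk, if_neg]
    intro h
    exact hjk (Fin.ext h)

theorem cellMap_X_bot (hr : 0 < r) : cellMap K d r (X (cellBot d hr)) = 1 := by
  rw [cellMap_X]
  unfold cellMinor
  rw [cellMatrix_submatrix_bot K d r hr, Matrix.det_one]

/-- A lift of functions on the cell to Plücker polynomials. -/
def cellLift (hr : 0 < r) : CellRing K d r →ₐ[K] PlRing K d (d + r) :=
  MvPolynomial.aeval fun p : Fin r × Fin d =>
    coord K d (d + r) (Function.update (cellBot d hr).1 p.2 (Fin.natAdd d p.1))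

theorem cellMap_cellLift (hr : 0 < r) (f : CellRing K d r) :
    cellMap K d r (cellLift K d r hr f) = f := by
  have h : (cellMap K d r).comp (cellLift K d r hr) = AlgHom.id K (CellRing K d r) := by
    apply MvPolynomial.algHom_ext
    intro p
    rw [AlgHom.comp_apply, AlgHom.id_apply]
    unfold cellLift cellMap
    rw [aeval_X, minorsMap_coord,
      det_submatrix_update (cellBot d hr) _ (cellMatrix_submatrix_bot K d r hr)]
    simp only [cellMatrix, Matrix.of_apply, Fin.natAdd]
    rw [dif_neg (by omega)]
    congr 1
    ext
    · simp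
    · rfl
  exact congrArg (fun g => g f) h

end Cell

section Main

variable (K : Type u) [Field K] {d r : ℕ}

theorem Idx.add_le {n : ℕ} (a : Idx d n) :
    ∀ (m : ℕ) (k j : Fin d), j.val = k.val + m → (a.1 k).val + m ≤ (a.1 j).val := by
  intro m
  induction m with
  | zero =>
    intro k j h
    have : j = k := Fin.ext (by omega)
    rw [this]
    omega
  | succ m ih =>
    intro k j h
    let j' : Fin d := ⟨k.val + m, by have := j.isLt; omega⟩
    have h1 := ih k j' rfl
    have h2 : j' < j := by
      rw [Fin.lt_def]
      simp only [j']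
      omega
    have h3 := Fin.lt_def.mp (a.2 h2)
    omega

/-- The index `φ_t` of the Schubert variety whose opposite cell is the determinantal variety
`D_t`. -/
def detIdx (t : ℕ) (ht : 0 < t) (htd : t ≤ d) (htr : t ≤ r) : Idx d (d + r) :=
  ⟨fun k => if h : k.val + t ≤ d then ⟨k.val + t - 1, by omega⟩
    else ⟨k.val + r, by have := k.isLt; omega⟩, by
    intro a b hab
    have hab' : a.val < b.val := hab
    rw [Fin.lt_def]
    dsimp only
    split_ifs <;> simp only <;> omega⟩

theorem le_detIdx_iff (t : ℕ) (ht : 0 < t) (htd : t ≤ d) (htr : t ≤ r) (θ : Idx d (d + r)) :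
    θ ≤ detIdx t ht htd htr ↔ (θ.1 ⟨d - t, Nat.sub_lt (by omega) ht⟩).val < d := by
  constructor
  · intro h
    have h1 := Fin.le_def.mp (h ⟨d - t, by omega⟩)
    simp only [detIdx] at h1
    rw [dif_pos (by omega)] at h1
    simp only at h1
    omega
  · intro hlt k
    rw [Fin.le_def]
    simp only [detIdx]
    split_ifs with hk
    · have h1 := Idx.add_le θ (d - t - k.val) k ⟨d - t, by omega⟩ (by simp only; omega)
      simp only
      omega
    · have hd : 0 < d := by omega
      have h1 := Idx.add_le θ (d - 1 - k.val) k ⟨d - 1, by omega⟩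
        (by have := k.isLt; simp only; omega)
      have h2 := (θ.1 ⟨d - 1, by omega⟩).isLt
      have := k.isLt
      simp only
      omega

/-- **The ideal of `t`-minors is the vanishing ideal of the matrices of rank `< t`.** -/
theorem mem_minorIdeal_of_forall_eval_eq_zero [Infinite K] (t : ℕ) (ht : 0 < t) (htd : t ≤ d)
    (htr : t ≤ r) (f : CellRing K d r)
    (hf : ∀ Z₀ : Matrix (Fin r) (Fin d) K,
      (∀ (a : Fin t → Fin r) (b : Fin t → Fin d), (Z₀.submatrix a b).det = 0) →
        MvPolynomial.eval (fun p : Fin r × Fin d => Z₀ p.1 p.2) f = 0) :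
    f ∈ CAlgX.minorIdeal (genMatrix K r d) t := by
  classical
  have hd : 0 < d := by omega
  have hr : 0 < r := by omega
  have hdn : d < d + r := by omega
  set w := detIdx t ht htd htr with hw
  set ι := cellBot d hr with hι
  set F := cellLift K d r hr f with hF
  set Fh := homog F.totalDegree ι F with hFh
  have hcell : cellMap K d r Fh = f := by
    have := map_homog (cellMap K d r : PlRing K d (d + r) →+* CellRing K d r) ι
      (cellMap_X_bot K d r hr) F
    rw [hFh]
    refine Eq.trans this ?_
    exact cellMap_cellLift K d r hr f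
  have hhom : Fh.IsHomogeneous F.totalDegree := homog_isHomogeneous _ ι F
  have hmem : (X ι : PlRing K d (d + r)) * Fh ∈ schubertVanishing K d (d + r) w := by
    unfold schubertVanishing
    rw [Ideal.mem_iInf]
    intro A
    rw [Ideal.mem_iInf]
    intro hA
    rw [RingHom.mem_ker]
    change evalMinors K d (d + r) A (X ι * Fh) = 0
    rw [map_mul, evalMinors_X]
    by_cases hδ : (A.submatrix ι.1 id).det = 0
    · rw [hδ, zero_mul]
    · set g : Matrix (Fin d) (Fin d) K := A.submatrix ι.1 id with hg
      have hu : IsUnit g.det := isUnit_iff_ne_zero.mpr hδ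
      let A' : Matrix (Fin (d + r)) (Fin d) K := Matrix.of fun i k => ∑ l, A i l * g⁻¹ l k
      have hsub : ∀ a : Fin d → Fin (d + r), A'.submatrix a id = A.submatrix a id * g⁻¹ := by
        intro a
        ext j k
        simp [A', Matrix.mul_apply]
      have h1 : A'.submatrix ι.1 id = 1 := by
        rw [hsub]
        exact Matrix.mul_nonsing_inv g hu
      have h2 : ∀ a : Fin d → Fin (d + r),
          (A'.submatrix a id).det = (A.submatrix a id).det * g.det⁻¹ := by
        intro a
        rw [hsub, Matrix.det_mul, Matrix.det_nonsing_inv, Ring.inverse_eq_inv']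
      have h3 : ∀ φ : Idx d (d + r), ¬ φ ≤ w → (A'.submatrix φ.1 id).det = 0 := by
        intro φ hφ
        rw [h2, hA φ hφ, zero_mul]
      let Z₀ : Matrix (Fin r) (Fin d) K := Matrix.of fun i k => A' (Fin.natAdd d i) k
      have hA' : A' = cellPt K d r Z₀ := by
        ext i k
        simp only [cellPt, Matrix.of_apply]
        by_cases hi : i.val < d
        · rw [dif_pos hi]
          have e := congrFun (congrFun h1 ⟨i.val, hi⟩) k
          simp only [Matrix.submatrix_apply, id_eq, Matrix.one_apply] at e
          have hιi : ι.1 ⟨i.val, hi⟩ = i := Fin.ext rfl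
          rw [hιi] at e
          rw [e]
          by_cases hik : i.val = k.val
          · rw [if_pos hik, if_pos (Fin.ext hik)]
          · rw [if_neg hik, if_neg]
            intro h
            exact hik (congrArg Fin.val h)
        · rw [dif_neg hi]
          simp only [Z₀, Matrix.of_apply]
          congr 1
          apply Fin.ext
          simp only [Fin.natAdd]
          omega
      have hker : CAlgX.minorIdeal (genMatrix K r d) t ≤
          RingHom.ker (MvPolynomial.eval (fun p : Fin r × Fin d => Z₀ p.1 p.2)) := by
        rw [← span_cellGens_eq_minorIdeal K d r t hd ht htd, Ideal.span_le]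
        rintro _ ⟨θ, hθ, rfl⟩
        rw [SetLike.mem_coe, RingHom.mem_ker, ← cellMap_X, eval_cellMap, evalMinors_X, ← hA']
        apply h3 θ
        rw [hw, le_detIdx_iff]
        omega
      have hZ : ∀ (a : Fin t → Fin r) (b : Fin t → Fin d), (Z₀.submatrix a b).det = 0 := by
        intro a b
        have hmem : ((genMatrix K r d).submatrix a b).det ∈ CAlgX.minorIdeal (genMatrix K r d) t :=
          Ideal.subset_span ⟨(a, b), rfl⟩
        have h4 := hker hmem
        rw [RingHom.mem_ker, RingHom.map_det] at h4
        convert h4 using 2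
        ext i j
        simp [genMatrix]
      have h0 := hf Z₀ hZ
      have hscale : evalMinors K d (d + r) A Fh =
          g.det ^ F.totalDegree * evalMinors K d (d + r) A' Fh := by
        have e1 : ∀ B : Matrix (Fin (d + r)) (Fin d) K, evalMinors K d (d + r) B Fh =
            MvPolynomial.eval (fun θ : Idx d (d + r) => (B.submatrix θ.1 id).det) Fh := by
          intro B
          unfold evalMinors
          rw [← MvPolynomial.coe_aeval_eq_eval]
          rfl
        rw [e1, e1, ← eval_mul_of_isHomogeneous Fh _ hhom]
        congr 2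
        funext θ
        rw [h2, mul_comm, mul_assoc, inv_mul_cancel₀ hδ, mul_one]
      rw [hscale, hA', ← eval_cellMap, hcell, h0, mul_zero, mul_zero]
  have hprime := isPrime_schubertVanishing K hd hdn w
  have hFhmem : Fh ∈ schubertVanishing K d (d + r) w :=
    (hprime.mem_or_mem hmem).resolve_left
      (X_not_mem_schubertVanishing K hd w ι (botIdx_le hdn w))
  rw [← plIdeal_eq_schubertVanishing K hd w] at hFhmem
  have hle : plIdeal K w ≤
      Ideal.comap (cellMap K d r) (CAlgX.minorIdeal (genMatrix K r d) t) := by
    unfold plIdeal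
    rw [Ideal.span_le]
    rintro P (⟨i, j, rr, hp, rfl⟩ | ⟨φ, hφ, rfl⟩)
    · rw [SetLike.mem_coe, Ideal.mem_comap]
      have hz : cellMap K d r (shuffleRel K i j rr) = 0 := by
        apply MvPolynomial.funext
        intro x
        have hx : x = fun p : Fin r × Fin d => (Matrix.of fun i k => x (i, k) :
            Matrix (Fin r) (Fin d) K) p.1 p.2 := by
          funext p
          simp
        rw [hx, eval_cellMap, map_zero]
        have hv : shuffleRel K i j rr ∈ vanishing K d (d + r) :=
          plIdealTop_le_vanishing K (Ideal.subset_span ⟨i, j, rr, hp, rfl⟩)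
        unfold vanishing at hv
        rw [Ideal.mem_iInf] at hv
        exact hv _
      rw [hz]
      exact zero_mem _
    · rw [SetLike.mem_coe, Ideal.mem_comap, cellMap_X]
      apply cellMinor_mem_minorIdeal K d r t hd ht htd φ
      rw [hw, le_detIdx_iff] at hφ
      omega
  have h5 := hle hFhmem
  rw [Ideal.mem_comap, hcell] at h5
  exact h5

end Main

end Groth.Agent.Lib.H5b
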