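import Groth.Agent.Lib.H5bDet
import Groth.Agent.Lib.H5bCM

/-!
# Determinantal rings as dehomogenizations of Schubert cones (helper5)

`R/I_t ≃ S/(J(φ_t) + (X_ι - 1))`, where `ι` is the least index.
-/

set_option autoImplicit false

universe u

noncomputable section

open MvPolynomial W4bk4grassmannian

namespace Groth.Agent.Lib.H5b

section Homog

variable {σ : Type*} {R : Type*} [CommRing R]

theorem homog_sub_mem (D : ℕ) (y : σ) (F : MvPolynomial σ R) (hD : F.totalDegree ≤ D) :
    homog D y F - F ∈ Ideal.span {(X y - 1 : MvPolynomial σ R)} := by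
  have hF : ∑ k ∈ Finset.range (D + 1), homogeneousComponent k F = F := by
    rw [← Finset.sum_subset (s₁ := Finset.range (F.totalDegree + 1))]
    · exact sum_homogeneousComponent F
    · intro k hk
      have := Finset.mem_range.mp hk
      exact Finset.mem_range.mpr (by omega)
    · intro k _ hk
      apply homogeneousComponent_eq_zero
      have := Finset.mem_range.not.mp hk
      omega
  have e : homog D y F - F =
      ∑ k ∈ Finset.range (D + 1), (X y ^ (D - k) - 1) * homogeneousComponent k F := by
    calc homog D y F - F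
        = homog D y F - ∑ k ∈ Finset.range (D + 1), homogeneousComponent k F := by rw [hF]
      _ = _ := by
        unfold homog
        rw [← Finset.sum_sub_distrib]
        refine Finset.sum_congr rfl (fun k _ => ?_)
        ring
  rw [e]
  apply Ideal.sum_mem
  intro k _
  apply Ideal.mul_mem_right
  rw [Ideal.mem_span_singleton]
  have := sub_dvd_pow_sub_pow (X y : MvPolynomial σ R) 1 (D - k)
  rwa [one_pow] at this

end Homog


section Kernel

variable (K : Type u) [Field K] [Infinite K] (d r : ℕ)

/-- a homogeneous polynomial killed by the restriction to the big cell vanishes, after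
multiplication by `X_ι`, at the minors of every matrix -/
theorem X_mul_mem_vanishing (hr : 0 < r) (Fh : PlRing K d (d + r)) (D : ℕ)
    (hhom : Fh.IsHomogeneous D) (hcell : cellMap K d r Fh = 0) :
    (X (cellBot d hr) : PlRing K d (d + r)) * Fh ∈ vanishing K d (d + r) := by
  classical
  set ι := cellBot d hr with hι
  unfold vanishing
  rw [Ideal.mem_iInf]
  intro A
  rw [RingHom.mem_ker]
  change evalMinors K d (d + r) A (X ι * Fh) = 0
  rw [map_mul, evalMinors_X]
  by_cases hδ : (A.submatrix ι.1 id).det = 0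
  · rw [hδ, zero_mul]
  · set g : Matrix (Fin d) (Fin d) K := A.submatrix ι.1 id with hg
    have hu : IsUnit g.det := isUnit_iff_ne_zero.mpr hδ
    let A' : Matrix (Fin (d + r)) (Fin d) K := Matrix.of fun i k => ∑ l, A i l * g⁻¹ l k
    have hsub : ∀ a : Fin d → Fin (d + r), A'.submatrix a id = A.submatrix a id * g⁻¹ := by
      intro a
      ext j k
      simp [A', Matrix.mul_apply]
    have h1 : A'.submatrix ι.1 id = 1 := by
      rw [hsub]
      exact Matrix.mul_nonsing_inv g hu
    have h2 : ∀ a : Fin d → Fin (d + r),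
        (A'.submatrix a id).det = (A.submatrix a id).det * g.det⁻¹ := by
      intro a
      rw [hsub, Matrix.det_mul, Matrix.det_nonsing_inv, Ring.inverse_eq_inv']
    let Z₀ : Matrix (Fin r) (Fin d) K := Matrix.of fun i k => A' (Fin.natAdd d i) k
    have hA' : A' = cellPt K d r Z₀ := by
      ext i k
      simp only [cellPt, Matrix.of_apply]
      by_cases hi : i.val < d
      · rw [dif_pos hi]
        have e := congrFun (congrFun h1 ⟨i.val, hi⟩) k
        simp only [Matrix.submatrix_apply, id_eq, Matrix.one_apply] at e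
        have hιi : ι.1 ⟨i.val, hi⟩ = i := Fin.ext rfl
        rw [hιi] at e
        rw [e]
        by_cases hik : i.val = k.val
        · rw [if_pos hik, if_pos (Fin.ext hik)]
        · rw [if_neg hik, if_neg]
          intro h
          exact hik (congrArg Fin.val h)
      · rw [dif_neg hi]
        simp only [Z₀, Matrix.of_apply]
        congr 1
        apply Fin.ext
        simp only [Fin.natAdd]
        omega
    have hscale : evalMinors K d (d + r) A Fh =
        g.det ^ D * evalMinors K d (d + r) A' Fh := by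
      have e1 : ∀ B : Matrix (Fin (d + r)) (Fin d) K, evalMinors K d (d + r) B Fh =
          MvPolynomial.eval (fun θ : Idx d (d + r) => (B.submatrix θ.1 id).det) Fh := by
        intro B
        unfold evalMinors
        rw [← MvPolynomial.coe_aeval_eq_eval]
        rfl
      rw [e1, e1, ← eval_mul_of_isHomogeneous Fh _ hhom]
      congr 2
      funext θ
      rw [h2, mul_comm, mul_assoc, inv_mul_cancel₀ hδ, mul_one]
    rw [hscale, hA', ← eval_cellMap, hcell, map_zero, mul_zero, mul_zero]

theorem vanishing_le_schubertVanishing {n : ℕ} (w : Idx d n) :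
    vanishing K d n ≤ schubertVanishing K d n w := by
  unfold vanishing schubertVanishing
  exact le_iInf fun A => le_iInf fun _ => iInf_le _ A

/-- the kernel of the restriction to the big cell lies in `J(w) + (X_ι - 1)` -/
theorem ker_cellMap_le (hd : 0 < d) (hr : 0 < r) (w : Idx d (d + r)) (H : PlRing K d (d + r))
    (hH : cellMap K d r H = 0) :
    H ∈ schubertVanishing K d (d + r) w ⊔
      Ideal.span {(X (cellBot d hr) - 1 : PlRing K d (d + r))} := by
  have hdn : d < d + r := by omega
  set ι := cellBot d hr with hι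
  set Hh := homog H.totalDegree ι H with hHh
  have hcell : cellMap K d r Hh = 0 := by
    have := map_homog (cellMap K d r : PlRing K d (d + r) →+* CellRing K d r) ι
      (cellMap_X_bot K d r hr) H
    rw [hHh]
    exact this.trans hH
  have hhom : Hh.IsHomogeneous H.totalDegree := homog_isHomogeneous _ ι H
  have hmem := vanishing_le_schubertVanishing K d w
    (X_mul_mem_vanishing K d r hr Hh _ hhom hcell)
  have hprime := isPrime_schubertVanishing K hd hdn w
  have hHhmem : Hh ∈ schubertVanishing K d (d + r) w :=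
    (hprime.mem_or_mem hmem).resolve_left
      (X_not_mem_schubertVanishing K hd w ι (botIdx_le hdn w))
  have hsub := homog_sub_mem H.totalDegree ι H le_rfl
  have e : H = Hh - (Hh - H) := by ring
  rw [e]
  exact Ideal.sub_mem _ (Ideal.mem_sup_left hHhmem) (Ideal.mem_sup_right hsub)

variable (t : ℕ) (ht : 0 < t) (htd : t ≤ d) (htr : t ≤ r)

/-- the dehomogenized ideal of the determinantal Schubert variety -/
def detB (hr : 0 < r) : Ideal (PlRing K d (d + r)) :=
  schubertVanishing K d (d + r) (detIdx t ht htd htr) ⊔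
    Ideal.span {(X (cellBot d hr) - 1 : PlRing K d (d + r))}

theorem schubertVanishing_le_comap_minorIdeal :
    schubertVanishing K d (d + r) (detIdx t ht htd htr) ≤
      Ideal.comap (cellMap K d r) (CAlgX.minorIdeal (genMatrix K r d) t) := by
  have hd : 0 < d := by omega
  set w := detIdx t ht htd htr with hw
  rw [← plIdeal_eq_schubertVanishing K hd w]
  unfold plIdeal
  rw [Ideal.span_le]
  rintro P (⟨i, j, rr, hp, rfl⟩ | ⟨φ, hφ, rfl⟩)
  · rw [SetLike.mem_coe, Ideal.mem_comap]
    have hz : cellMap K d r (shuffleRel K i j rr) = 0 := by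
      apply MvPolynomial.funext
      intro x
      have hx : x = fun p : Fin r × Fin d => (Matrix.of fun i k => x (i, k) :
          Matrix (Fin r) (Fin d) K) p.1 p.2 := by
        funext p
        simp
      rw [hx, eval_cellMap, map_zero]
      have hv : shuffleRel K i j rr ∈ vanishing K d (d + r) :=
        plIdealTop_le_vanishing K (Ideal.subset_span ⟨i, j, rr, hp, rfl⟩)
      unfold vanishing at hv
      rw [Ideal.mem_iInf] at hv
      exact hv _
    rw [hz]
    exact zero_mem _
  · rw [SetLike.mem_coe, Ideal.mem_comap, cellMap_X]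
    apply cellMinor_mem_minorIdeal K d r t hd ht htd φ
    rw [hw, le_detIdx_iff] at hφ
    omega

theorem comap_minorIdeal_eq (hr : 0 < r) :
    Ideal.comap (cellMap K d r) (CAlgX.minorIdeal (genMatrix K r d) t) =
      detB K d r t ht htd htr hr := by
  have hd : 0 < d := by omega
  apply le_antisymm
  · intro F hF
    rw [Ideal.mem_comap] at hF
    have hsurj : Function.Surjective (cellMap K d r) := fun f =>
      ⟨cellLift K d r hr f, cellMap_cellLift K d r hr f⟩
    have hle : CAlgX.minorIdeal (genMatrix K r d) t ≤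
        Ideal.map (cellMap K d r) (schubertVanishing K d (d + r) (detIdx t ht htd htr)) := by
      rw [← span_cellGens_eq_minorIdeal K d r t hd ht htd, Ideal.span_le]
      rintro _ ⟨θ, hθ, rfl⟩
      rw [← cellMap_X]
      apply Ideal.mem_map_of_mem
      apply X_mem_schubertVanishing
      rw [le_detIdx_iff]
      omega
    obtain ⟨G, hG, hGF⟩ := (Ideal.mem_map_iff_of_surjective _ hsurj).mp (hle hF)
    have hker : cellMap K d r (F - G) = 0 := by rw [map_sub, hGF, sub_self]
    have h1 := ker_cellMap_le K d r hd hr (detIdx t ht htd htr) (F - G) hker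
    have e : F = (F - G) + G := by ring
    rw [e]
    exact Ideal.add_mem _ h1 (Ideal.mem_sup_left hG)
  · unfold detB
    apply sup_le (schubertVanishing_le_comap_minorIdeal K d r t ht htd htr)
    rw [Ideal.span_le, Set.singleton_subset_iff, SetLike.mem_coe, Ideal.mem_comap, map_sub,
      cellMap_X_bot K d r hr, map_one, sub_self]
    exact zero_mem _

/-- `R/I_t ≃ S/(J(φ_t) + (X_ι - 1))` -/
def detRingEquiv (hr : 0 < r) :
    (PlRing K d (d + r) ⧸ detB K d r t ht htd htr hr) ≃+*
      (CellRing K d r ⧸ CAlgX.minorIdeal (genMatrix K r d) t) :=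
  let f : PlRing K d (d + r) →+* (CellRing K d r ⧸ CAlgX.minorIdeal (genMatrix K r d) t) :=
    (Ideal.Quotient.mk _).comp (cellMap K d r : PlRing K d (d + r) →+* CellRing K d r)
  have hf : Function.Surjective f := fun y => by
    obtain ⟨g, rfl⟩ := Ideal.Quotient.mk_surjective y
    exact ⟨cellLift K d r hr g, by
      show Ideal.Quotient.mk _ (cellMap K d r (cellLift K d r hr g)) = _
      rw [cellMap_cellLift]⟩
  have hker : detB K d r t ht htd htr hr = RingHom.ker f := by
    rw [← comap_minorIdeal_eq K d r t ht htd htr hr]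
    ext F
    rw [Ideal.mem_comap, RingHom.mem_ker]
    show _ ↔ Ideal.Quotient.mk _ (cellMap K d r F) = 0
    rw [Ideal.Quotient.eq_zero_iff_mem]
  (Ideal.quotEquivOfEq hker).trans (RingHom.quotientKerEquivOfSurjective hf)

end Kernel


/-! ### More on `CMe` -/

section CMeMore

open Groth.Agent.Lib.Helper28

variable {S : Type u} [CommRing S] [IsNoetherianRing S]

omit [IsNoetherianRing S] in
theorem smul_top_ne_top_of_le {𝔞 Q : Ideal S} (hQ : Q ≠ ⊤) (h : 𝔞 ≤ Q) :
    Q • (⊤ : Submodule S (S ⧸ 𝔞)) ≠ ⊤ := by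
  intro htop
  have hle : Q • (⊤ : Submodule S (S ⧸ 𝔞)) ≤ Submodule.map (Submodule.mkQ 𝔞) Q := by
    rw [Submodule.smul_le]
    intro q hq m _
    obtain ⟨s, rfl⟩ := Ideal.Quotient.mk_surjective m
    exact ⟨q * s, Q.mul_mem_right _ hq, rfl⟩
  have h1 : Ideal.Quotient.mk 𝔞 (1 : S) ∈ Submodule.map (Submodule.mkQ 𝔞) Q := by
    apply hle
    rw [htop]
    trivial
  obtain ⟨q, hq, hq1⟩ := h1
  have h2 : q - 1 ∈ 𝔞 := Ideal.Quotient.eq.mp hq1
  apply hQ
  rw [Ideal.eq_top_iff_one]
  have e : (1 : S) = q - (q - 1) := by ring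
  rw [e]
  exact Q.sub_mem hq (h h2)

theorem CMe.sup_span_regular {𝔞 : Ideal S} {y : S} {c : ℕ} (h : CMe 𝔞 c)
    (hreg : IsSMulRegular (S ⧸ 𝔞) y) : CMe (𝔞 ⊔ Ideal.span {y}) (c + 1) := by
  apply cme_of_local
  intro Q hQ hle
  have h𝔞 : 𝔞 ≤ Q := le_sup_left.trans hle
  have hy : y ∈ Q := hle (Ideal.mem_sup_right (Ideal.subset_span rfl))
  have hPM := smul_top_ne_top_of_le hQ.ne_top h𝔞
  have h1 := idealDepth_quotSMulTop_add_one Q (S ⧸ 𝔞) hPM y hy hreg
  rw [idealDepth_congr (quotSMulTopEquiv 𝔞 y) Q] at h1
  have h2 := h Q hQ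
  have h3 := idealDepth_le_depth_localization Q (S ⧸ (𝔞 ⊔ Ideal.span {y})) le_rfl
  rw [← h1] at h2
  calc Q.height ≤ LocCoh.idealDepth Q (S ⧸ (𝔞 ⊔ Ideal.span {y})) + 1 + c := h2
    _ ≤ LocCoh.depth (Localization.AtPrime Q)
          (LocalizedModule Q.primeCompl (S ⧸ (𝔞 ⊔ Ideal.span {y}))) + 1 + c :=
        add_le_add (add_le_add h3 le_rfl) le_rfl
    _ = _ := by
        push_cast
        rw [add_assoc, add_comm (1 : ℕ∞) (c : ℕ∞)]

omit [IsNoetherianRing S] in
theorem isSMulRegular_of_notMem_prime {𝔞 : Ideal S} [h𝔞 : 𝔞.IsPrime] {y : S} (hy : y ∉ 𝔞) :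
    IsSMulRegular (S ⧸ 𝔞) y := by
  intro a b hab
  obtain ⟨a', rfl⟩ := Ideal.Quotient.mk_surjective a
  obtain ⟨b', rfl⟩ := Ideal.Quotient.mk_surjective b
  have h1 : Ideal.Quotient.mk 𝔞 (y * a') = Ideal.Quotient.mk 𝔞 (y * b') := hab
  rw [Ideal.Quotient.eq, ← mul_sub] at h1
  rw [Ideal.Quotient.eq]
  rcases h𝔞.mem_or_mem h1 with h | h
  · exact absurd h hy
  · exact h

end CMeMore

/-! ### Cohen–Macaulayness and dimension of the determinantal ring -/

section DetCM

open Groth.Agent.Lib.Helper28

variable (K : Type u) [Field K] [Infinite K] (d r : ℕ) (t : ℕ) (ht : 0 < t) (htd : t ≤ d)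
  (htr : t ≤ r)

theorem X_bot_sub_one_notMem (hd : 0 < d) (hr : 0 < r) (w : Idx d (d + r)) :
    (X (cellBot d hr) - 1 : PlRing K d (d + r)) ∉ schubertVanishing K d (d + r) w := by
  intro hmem
  have h := schubertVanishing_le_ker_zero K hd w hmem
  rw [RingHom.mem_ker] at h
  change evalMinors K d (d + r) (0 : Matrix (Fin (d + r)) (Fin d) K) (X (cellBot d hr) - 1) = 0 at h
  rw [map_sub, evalMinors_zero_X K hd, map_one, zero_sub] at h
  exact one_ne_zero (neg_eq_zero.mp h)

theorem isCohenMacaulayRing_detB (hr : 0 < r) :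
    LocCoh.IsCohenMacaulayRing (PlRing K d (d + r) ⧸ detB K d r t ht htd htr hr) := by
  classical
  have hd : 0 < d := by omega
  have hdn : d < d + r := by omega
  set w := detIdx t ht htd htr with hw
  have hS : LocCoh.IsCohenMacaulayRing (PlRing K d (d + r)) :=
    isCohenMacaulayRing_mvPolynomial_finite K (Idx d (d + r))
  have hprime := isPrime_schubertVanishing K hd hdn w
  have hy := X_bot_sub_one_notMem K d r hd hr w
  have hcme : CMe (detB K d r t ht htd htr hr) (cod w + 1) :=
    (cme_main K hd hdn _ w rfl).1.sup_span_regular (isSMulRegular_of_notMem_prime hy)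
  refine isCohenMacaulayRing_quotient_of_cme _ (cod w + 1) hcme ?_
  rw [Ideal.height_eq_inf_minimalPrimes]
  refine le_iInf₂ fun 𝔭 h𝔭 => ?_
  have h𝔭prime : 𝔭.IsPrime := h𝔭.1.1
  have hle : detB K d r t ht htd htr hr ≤ 𝔭 := h𝔭.1.2
  have hlt : schubertVanishing K d (d + r) w < 𝔭 := by
    refine lt_of_le_of_ne (le_sup_left.trans hle) ?_
    intro heq
    apply hy
    rw [heq]
    exact hle (Ideal.mem_sup_right (Ideal.subset_span rfl))
  have h1 := Ideal.height_add_one_le_of_lt_of_isPrime hlt
  rw [(height_schubertVanishing K hd hdn w).1] at h1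
  exact_mod_cast h1

include ht htd htr in
/-- the determinantal ring is Cohen–Macaulay -/
theorem isCohenMacaulayRing_detRing :
    LocCoh.IsCohenMacaulayRing (CellRing K d r ⧸ CAlgX.minorIdeal (genMatrix K r d) t) := by
  have hr : 0 < r := by omega
  have := isCohenMacaulayRing_detB K d r t ht htd htr hr
  exact isCohenMacaulayRing_of_ringEquiv (detRingEquiv K d r t ht htd htr hr)

end DetCM


section DetDim

theorem withBot_add_one_cancel' {a : WithBot ℕ∞} {m : ℕ}
    (h : a + 1 = ((m + 1 : ℕ) : WithBot ℕ∞)) : a = (m : WithBot ℕ∞) := by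
  cases a with
  | bot => rw [WithBot.bot_add] at h; exact absurd h WithBot.bot_ne_coe
  | coe a' =>
    cases a' with
    | top =>
      exfalso
      have h1 : (⊤ : ℕ∞) + 1 = ((m + 1 : ℕ) : ℕ∞) := by exact_mod_cast h
      rw [top_add] at h1
      exact ENat.top_ne_natCast _ h1
    | coe n =>
      have h1 : (n : ℕ∞) + 1 = ((m + 1 : ℕ) : ℕ∞) := by exact_mod_cast h
      have h' : n + 1 = m + 1 := by exact_mod_cast h1
      have : n = m := by omega
      rw [this]
      rfl

variable (K : Type u) [Field K] [Infinite K] (d r : ℕ) (t : ℕ) (ht : 0 < t) (htd : t ≤ d)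
  (htr : t ≤ r)

omit [Infinite K] in
theorem codeg_detIdx : codeg (detIdx t ht htd htr) = (t - 1) * (r + d - t + 1) := by
  unfold codeg
  have h1 : ∀ k : Fin d, ((detIdx t ht htd htr).1 k).val - k.val =
      (fun j : ℕ => if j + t ≤ d then t - 1 else r) k.val := by
    intro k
    simp only [detIdx]
    split_ifs with h
    · simp only; omega
    · simp only; omega
  rw [Finset.sum_congr rfl (fun k _ => h1 k),
    Fin.sum_univ_eq_sum_range (fun j : ℕ => if j + t ≤ d then t - 1 else r) d]
  obtain ⟨p, rfl⟩ : ∃ p, d = p + t := ⟨d - t, by omega⟩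
  have hsplit : p + t = (p + 1) + (t - 1) := by omega
  rw [hsplit, Finset.sum_range_add]
  have e1 : ∀ x ∈ Finset.range (p + 1),
      (if x + t ≤ p + 1 + (t - 1) then t - 1 else r) = t - 1 := by
    intro x hx
    have := Finset.mem_range.mp hx
    rw [if_pos (by omega)]
  have e2 : ∀ x ∈ Finset.range (t - 1),
      (if p + 1 + x + t ≤ p + 1 + (t - 1) then t - 1 else r) = r := by
    intro x hx
    rw [if_neg (by omega)]
  rw [Finset.sum_congr rfl e1, Finset.sum_congr rfl e2, Finset.sum_const, Finset.sum_const,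
    Finset.card_range, Finset.card_range, smul_eq_mul, smul_eq_mul]
  have e3 : r + (p + 1 + (t - 1)) - t + 1 = p + 1 + r := by omega
  rw [e3]
  ring

theorem ringKrullDim_detB (hr : 0 < r) :
    ringKrullDim (PlRing K d (d + r) ⧸ detB K d r t ht htd htr hr) =
      (((t - 1) * (r + d - t + 1) : ℕ) : WithBot ℕ∞) := by
  classical
  have hd : 0 < d := by omega
  have hdn : d < d + r := by omega
  set w := detIdx t ht htd htr with hw
  have hprime := isPrime_schubertVanishing K hd hdn w
  have hdom : IsDomain (PlRing K d (d + r) ⧸ schubertVanishing K d (d + r) w) :=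
    Ideal.Quotient.isDomain _
  obtain ⟨N, -, hdim, hht⟩ := Groth.Agent.Lib.Helper14.FTDim.exists_dim K
    (PlRing K d (d + r) ⧸ schubertVanishing K d (d + r) w)
  -- the point `[I ; 0]`
  set A₀ : Matrix (Fin (d + r)) (Fin d) K := cellPt K d r 0 with hA₀
  have hA₀w : ∀ φ : Idx d (d + r), ¬ φ ≤ w → (A₀.submatrix φ.1 id).det = 0 := by
    intro φ hφ
    rw [hw, le_detIdx_iff] at hφ
    apply Matrix.det_eq_zero_of_row_eq_zero ⟨d - t, Nat.sub_lt hd ht⟩
    intro k
    simp only [hA₀, Matrix.submatrix_apply, cellPt, Matrix.of_apply, id_eq]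
    rw [dif_neg hφ]
    rfl
  have hle : schubertVanishing K d (d + r) w ≤
      RingHom.ker (evalMinors K d (d + r) A₀).toRingHom := by
    unfold schubertVanishing
    exact (iInf_le _ A₀).trans (iInf_le _ hA₀w)
  let ev : (PlRing K d (d + r) ⧸ schubertVanishing K d (d + r) w) →+* K :=
    Ideal.Quotient.lift (schubertVanishing K d (d + r) w)
      (evalMinors K d (d + r) A₀).toRingHom (fun f hf => hle hf)
  have hsurj : Function.Surjective ev := by
    intro a
    refine ⟨Ideal.Quotient.mk _ (C a), ?_⟩
    change evalMinors K d (d + r) A₀ (C a) = a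
    unfold evalMinors
    rw [aeval_C]
    rfl
  have hmax : (RingHom.ker ev).IsMaximal := RingHom.ker_isMaximal_of_surjective ev hsurj
  set y : PlRing K d (d + r) := X (cellBot d hr) - 1 with hy
  have hne : Ideal.Quotient.mk (schubertVanishing K d (d + r) w) y ≠ 0 := by
    rw [Ne, Ideal.Quotient.eq_zero_iff_mem]
    exact X_bot_sub_one_notMem K d r hd hr w
  have hmem : Ideal.Quotient.mk (schubertVanishing K d (d + r) w) y ∈ RingHom.ker ev := by
    rw [RingHom.mem_ker]
    change evalMinors K d (d + r) A₀ y = 0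
    rw [hy, map_sub, evalMinors_X, map_one, hA₀, cellPt_submatrix_bot K d r hr, Matrix.det_one,
      sub_self]
  have key := Module.ringKrullDim_quotient_add_one_of_mem_nonZeroDivisors
    (mem_nonZeroDivisors_of_ne_zero hne) (p := RingHom.ker ev)
    (by rw [hht (RingHom.ker ev), hdim]; rfl) hmem
  have hmap : Ideal.map (Ideal.Quotient.mk (schubertVanishing K d (d + r) w))
      (Ideal.span {y}) =
      Ideal.span {Ideal.Quotient.mk (schubertVanishing K d (d + r) w) y} := by
    rw [Ideal.map_span, Set.image_singleton]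
  have hiso : ringKrullDim (PlRing K d (d + r) ⧸ detB K d r t ht htd htr hr) =
      ringKrullDim ((PlRing K d (d + r) ⧸ schubertVanishing K d (d + r) w) ⧸
        Ideal.span {Ideal.Quotient.mk (schubertVanishing K d (d + r) w) y}) := by
    rw [← hmap]
    exact (ringKrullDim_eq_of_ringEquiv
      (DoubleQuot.quotQuotEquivQuotSup (schubertVanishing K d (d + r) w)
        (Ideal.span {y}))).symm
  rw [hiso]
  have hA := ringKrullDim_schubert K hd hdn (codeg w) w rfl
  rw [hA, hw, codeg_detIdx] at key
  exact withBot_add_one_cancel' key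

include ht htd htr in
theorem ringKrullDim_detRing :
    ringKrullDim (CellRing K d r ⧸ CAlgX.minorIdeal (genMatrix K r d) t) =
      (((t - 1) * (r + d - t + 1) : ℕ) : WithBot ℕ∞) := by
  have hr : 0 < r := by omega
  rw [← ringKrullDim_detB K d r t ht htd htr hr]
  exact (ringKrullDim_eq_of_ringEquiv (detRingEquiv K d r t ht htd htr hr)).symm

end DetDim

end Groth.Agent.Lib.H5b

end
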