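import Mathlib
import Groth.Prelude.Def_AlgSp
import Groth.Agent.S9900
import Groth.Agent.S9921
import Groth.Agent.Lib.H5bCoprodPts

/-!
# The diagonal of a sheaf with a presentation (helper5)

* `isEqLocus_pullback_snd`: equalizer loci are stable under base change;
* `isEqLocus_of_kernelPair_prodLift`: if `h_R` (with `t, s`) is the kernel pair of `q : h_U ⟶ F`,
  the equalizer locus of `q ∘ α, q ∘ β` is the base change of `(t, s) : R ⟶ U × U` along `(α, β)`;
* `repWith_diag_of_presentation`: if moreover `q` is representable étale surjective and `F` is an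
  algebraic space, then the diagonal of `F` has every property `P` of `(t, s)` that is stable
  under base change and descends along fppf coverings;
* `isClosedImmersion_of_finite_cofan`, `quasiCompact_of_finite_cofan`: morphisms out of a finite
  coproduct of schemes;
* `prod_snd_left`: the second projection of `U × U` in `Over S` is a base change of `U ⟶ S`.
-/

set_option autoImplicit false
set_option linter.unusedSectionVars false
set_option linter.style.haveILetI false
universe u

namespace Groth.Agent.Lib.H5bDiagPres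

open CategoryTheory CategoryTheory.Limits AlgebraicGeometry AlgSp Opposite
open Groth.Agent.S9900

variable {S : Scheme.{u}}

/-- equalizer loci are stable under base change. -/
lemma isEqLocus_pullback_snd {F : AlgSp.Sp S} {T T' E : Over S} {a b : (yon S).obj T ⟶ F}
    {e : E ⟶ T} (he : IsEqLocus a b e) (p : T' ⟶ T) :
    IsEqLocus ((yon S).map p ≫ a) ((yon S).map p ≫ b) (pullback.snd e p) := by
  haveI : Mono e := he.1
  refine ⟨inferInstance, fun Z t => ⟨fun h => ?_, ?_⟩⟩
  · have h' : (yon S).map (t ≫ p) ≫ a = (yon S).map (t ≫ p) ≫ b := by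
      rw [Functor.map_comp, Category.assoc, Category.assoc]
      exact h
    obtain ⟨t', ht'⟩ := (he.2 Z (t ≫ p)).1 h'
    exact ⟨pullback.lift t' t ht', pullback.lift_snd _ _ _⟩
  · rintro ⟨t', rfl⟩
    have h1 : (pullback.snd e p) ≫ p = pullback.fst e p ≫ e := pullback.condition.symm
    have h2 : (yon S).map ((t' ≫ pullback.snd e p) ≫ p) ≫ a =
        (yon S).map ((t' ≫ pullback.snd e p) ≫ p) ≫ b := by
      rw [Category.assoc, h1, ← Category.assoc, Functor.map_comp, Category.assoc, Category.assoc,
        he.eq]
    rw [Functor.map_comp, Category.assoc, Category.assoc] at h2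
    exact h2

/-- the equalizer locus of two points lifting to `h_U`, as a base change of `(t, s)`. -/
lemma isEqLocus_of_kernelPair_prodLift {F : AlgSp.Sp S} {U R : Over S} (q : (yon S).obj U ⟶ F)
    (s t : R ⟶ U) (hk : IsPullback ((yon S).map t) ((yon S).map s) q q) {T' : Over S}
    (α β : T' ⟶ U) :
    IsEqLocus ((yon S).map α ≫ q) ((yon S).map β ≫ q)
      (pullback.snd (prod.lift t s) (prod.lift α β)) := by
  haveI : Mono (prod.lift t s) := ⟨fun {Z} x₁ x₂ hx => by
    apply (yon S).map_injective
    apply hk.hom_ext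
    · have := congrArg (fun m => m ≫ prod.fst) hx
      simp only [Category.assoc, prod.lift_fst] at this
      rw [← Functor.map_comp, ← Functor.map_comp, this]
    · have := congrArg (fun m => m ≫ prod.snd) hx
      simp only [Category.assoc, prod.lift_snd] at this
      rw [← Functor.map_comp, ← Functor.map_comp, this]⟩
  refine ⟨inferInstance, fun Z x => ⟨fun h => ?_, ?_⟩⟩
  · have hw : (yon S).map (x ≫ α) ≫ q = (yon S).map (x ≫ β) ≫ q := by
      rw [Functor.map_comp, Functor.map_comp, Category.assoc, Category.assoc]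
      exact h
    obtain ⟨r, hr⟩ := (yon S).map_surjective (hk.lift _ _ hw)
    have hr1 : r ≫ t = x ≫ α := by
      apply (yon S).map_injective
      rw [Functor.map_comp, hr, hk.lift_fst]
    have hr2 : r ≫ s = x ≫ β := by
      apply (yon S).map_injective
      rw [Functor.map_comp, hr, hk.lift_snd]
    have hc : r ≫ prod.lift t s = x ≫ prod.lift α β := by
      apply Limits.prod.hom_ext
      · rw [Category.assoc, Category.assoc, prod.lift_fst, prod.lift_fst, hr1]
      · rw [Category.assoc, Category.assoc, prod.lift_snd, prod.lift_snd, hr2]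
    exact ⟨pullback.lift r x hc, pullback.lift_snd _ _ _⟩
  · rintro ⟨z, rfl⟩
    have hc : pullback.fst (prod.lift t s) (prod.lift α β) ≫ prod.lift t s =
        pullback.snd (prod.lift t s) (prod.lift α β) ≫ prod.lift α β := pullback.condition
    have h1 : pullback.fst (prod.lift t s) (prod.lift α β) ≫ t =
        pullback.snd (prod.lift t s) (prod.lift α β) ≫ α := by
      have := congrArg (fun m => m ≫ prod.fst) hc
      simpa only [Category.assoc, prod.lift_fst] using this
    have h2 : pullback.fst (prod.lift t s) (prod.lift α β) ≫ s =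
        pullback.snd (prod.lift t s) (prod.lift α β) ≫ β := by
      have := congrArg (fun m => m ≫ prod.snd) hc
      simpa only [Category.assoc, prod.lift_snd] using this
    have e1 : (yon S).map (z ≫ pullback.snd (prod.lift t s) (prod.lift α β)) ≫ (yon S).map α ≫ q =
        (yon S).map (z ≫ pullback.fst (prod.lift t s) (prod.lift α β)) ≫ (yon S).map t ≫ q := by
      have := congrArg (fun m => (yon S).map (z ≫ m) ≫ q) h1
      simpa only [Functor.map_comp, Category.assoc] using this.symm
    have e2 : (yon S).map (z ≫ pullback.snd (prod.lift t s) (prod.lift α β)) ≫ (yon S).map β ≫ q =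
        (yon S).map (z ≫ pullback.fst (prod.lift t s) (prod.lift α β)) ≫ (yon S).map s ≫ q := by
      have := congrArg (fun m => (yon S).map (z ≫ m) ≫ q) h2
      simpa only [Functor.map_comp, Category.assoc] using this.symm
    rw [e1, e2, hk.w]

/-- the diagonal of an algebraic space with a presentation `(U, R, q)` has every property of
`(t, s) : R ⟶ U × U` which is stable under base change and descends along fppf coverings. -/
theorem repWith_diag_of_presentation {F : AlgSp.Sp S} (hF : AlgSp.IsAlgSpace F) {R U : Over S}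
    (s t : R ⟶ U) (q : (yon S).obj U ⟶ F) (hqe : AlgSp.RepWith @Etale q)
    (hqs : AlgSp.RepWith @Surjective q) (hk : IsPullback ((yon S).map t) ((yon S).map s) q q)
    (P : MorphismProperty Scheme.{u}) [P.IsStableUnderBaseChange]
    [P.DescendsAlong (@Surjective ⊓ @Flat ⊓ @LocallyOfFinitePresentation)]
    (hP : P (prod.lift t s).left) : AlgSp.RepWith P (Limits.diag F) := by
  refine Groth.Agent.S9921.repWith_diag_of_isEqLocus P (fun {T} a b => ?_)
  obtain ⟨E, e, he⟩ := exists_isEqLocus hF.diag a b
  refine ⟨E, e, he, ?_⟩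
  -- an étale covering of `T` over which `a` and `b` lift to `h_U`
  obtain ⟨T₁, p₁, α₁', sq₁⟩ := hqe.1 a
  obtain ⟨α₁, rfl⟩ := (yon S).map_surjective α₁'
  haveI : Etale p₁.left := hqe.2 _ _ p₁ sq₁
  haveI : Surjective p₁.left := hqs.2 _ _ p₁ sq₁
  obtain ⟨T', p₂, β', sq₂⟩ := hqe.1 ((yon S).map p₁ ≫ b)
  obtain ⟨β, rfl⟩ := (yon S).map_surjective β'
  haveI : Etale p₂.left := hqe.2 _ _ p₂ sq₂
  haveI : Surjective p₂.left := hqs.2 _ _ p₂ sq₂
  obtain ⟨pT, hpT⟩ : ∃ pT : T' ⟶ T, pT = p₂ ≫ p₁ := ⟨_, rfl⟩
  have hpTl : pT.left = p₂.left ≫ p₁.left := by rw [hpT]; rfl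
  haveI : Surjective pT.left := by rw [hpTl]; infer_instance
  haveI : Etale pT.left := by rw [hpTl]; infer_instance
  obtain ⟨α, hα⟩ : ∃ α : T' ⟶ U, α = p₂ ≫ α₁ := ⟨_, rfl⟩
  have hαq : (yon S).map α ≫ q = (yon S).map pT ≫ a := by
    rw [hα, hpT, Functor.map_comp, Functor.map_comp, Category.assoc, Category.assoc, sq₁.w]
  have hβq : (yon S).map β ≫ q = (yon S).map pT ≫ b := by
    rw [sq₂.w, hpT, Functor.map_comp, Category.assoc]
  -- the two descriptions of the equalizer locus over `T'`
  have h1 := isEqLocus_pullback_snd he pT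
  have h2 := isEqLocus_of_kernelPair_prodLift q s t hk α β
  rw [hαq, hβq] at h2
  haveI : Mono (pullback.snd e pT) := h1.1
  haveI : Mono (pullback.snd (prod.lift t s) (prod.lift α β)) := h2.1
  obtain ⟨i, hi⟩ := exists_iso_of_factor_iff (pullback.snd e pT)
    (pullback.snd (prod.lift t s) (prod.lift α β))
    (fun Z x => (h1.2 Z x).symm.trans (h2.2 Z x))
  have hP2 : P (pullback.snd (prod.lift t s) (prod.lift α β)).left :=
    P.of_isPullback ((IsPullback.of_hasPullback (prod.lift t s) (prod.lift α β)).map
      (Over.forget S)) hP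
  have hP1 : P (pullback.snd e pT).left := by
    rw [← hi, Over.comp_left]
    haveI : IsIso i.hom.left := inferInstanceAs (IsIso ((Over.forget S).map i.hom))
    exact (P.cancel_left_of_respectsIso i.hom.left _).2 hP2
  have sqs : IsPullback (pullback.fst e pT).left (pullback.snd e pT).left e.left pT.left :=
    (IsPullback.of_hasPullback e pT).map (Over.forget S)
  exact MorphismProperty.of_isPullback_of_descendsAlong
    (Q := @Surjective ⊓ @Flat ⊓ @LocallyOfFinitePresentation) sqs.flip
    ⟨⟨inferInstance, inferInstance⟩, inferInstance⟩ hP1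

section Cofan

open Groth.Agent.Lib.H5bCoprodPts

variable {σ : Type u} {X : σ → Scheme.{u}} (c : Cofan X) (hc : IsColimit c)

include hc in
/-- a morphism from a coproduct is surjective on stalks if its components are. -/
lemma surjectiveOnStalks_of_cofan {Y : Scheme.{u}} (f : c.pt ⟶ Y)
    (h : ∀ i, SurjectiveOnStalks (c.inj i ≫ f)) : SurjectiveOnStalks f := by
  let e : c.pt ≅ ∐ X := hc.coconePointUniqueUpToIso (coproductIsCoproduct X)
  have he : ∀ i, c.inj i ≫ e.hom = Sigma.ι X i := fun i =>
    hc.comp_coconePointUniqueUpToIso_hom (coproductIsCoproduct X) ⟨i⟩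
  have hf : f = e.hom ≫ Sigma.desc (fun i => c.inj i ≫ f) := by
    apply Cofan.IsColimit.hom_ext hc
    intro i
    rw [← Category.assoc, he i, Sigma.ι_desc]
  rw [hf]
  haveI : SurjectiveOnStalks (Sigma.desc (fun i => c.inj i ≫ f)) :=
    IsZariskiLocalAtSource.sigmaDesc h
  infer_instance

include hc in
/-- a monomorphism from a finite coproduct is a closed immersion if its components are. -/
lemma isClosedImmersion_of_finite_cofan [Finite σ] {Y : Scheme.{u}} (f : c.pt ⟶ Y) [Mono f]
    (h : ∀ i, IsClosedImmersion (c.inj i ≫ f)) : IsClosedImmersion f := by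
  obtain ⟨-, hcov, -⟩ := cofan_props c hc
  haveI := surjectiveOnStalks_of_cofan c hc f (fun i => inferInstance)
  refine ⟨?_⟩
  refine .of_continuous_injective_isClosedMap f.continuous f.injective ?_
  intro C hC
  have hEq : f '' C = ⋃ i, (c.inj i ≫ f) '' ((c.inj i) ⁻¹' C) := by
    ext y
    constructor
    · rintro ⟨x, hx, rfl⟩
      obtain ⟨i, x', rfl⟩ := hcov x
      exact Set.mem_iUnion.2 ⟨i, x', hx, by rw [Scheme.Hom.comp_apply]⟩
    · intro hy
      obtain ⟨i, x', hx', rfl⟩ := Set.mem_iUnion.1 hy
      exact ⟨c.inj i x', hx', by rw [Scheme.Hom.comp_apply]⟩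
  rw [hEq]
  refine isClosed_iUnion_of_finite (fun i => ?_)
  exact (c.inj i ≫ f).isClosedEmbedding.isClosedMap _ (hC.preimage (c.inj i).continuous)

include hc in
/-- a morphism from a finite coproduct is quasi-compact if its components are. -/
lemma quasiCompact_of_finite_cofan [Finite σ] {Y : Scheme.{u}} (f : c.pt ⟶ Y)
    (h : ∀ i, QuasiCompact (c.inj i ≫ f)) : QuasiCompact f := by
  obtain ⟨-, hcov, -⟩ := cofan_props c hc
  refine ⟨fun K hK hKc => ?_⟩
  have hEq : f ⁻¹' K = ⋃ i, (c.inj i) '' ((c.inj i ≫ f) ⁻¹' K) := by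
    ext x
    constructor
    · intro hx
      obtain ⟨i, x', rfl⟩ := hcov x
      refine Set.mem_iUnion.2 ⟨i, x', ?_, rfl⟩
      show (c.inj i ≫ f) x' ∈ K
      rw [Scheme.Hom.comp_apply]
      exact hx
    · intro hx
      obtain ⟨i, x', hx', rfl⟩ := Set.mem_iUnion.1 hx
      have : (c.inj i ≫ f) x' ∈ K := hx'
      rw [Scheme.Hom.comp_apply] at this
      exact this
  rw [hEq]
  refine isCompact_iUnion (fun i => ?_)
  exact ((h i).isCompact_preimage K hK hKc).image (c.inj i).continuous

end Cofan

/-- the second projection of `U × U` in `Over S` has every property of `U ⟶ S` stable under base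
change. -/
lemma prod_snd_left (P : MorphismProperty Scheme.{u}) [P.IsStableUnderBaseChange] (U : Over S)
    (hU : P U.hom) : P (prod.snd : U ⨯ U ⟶ U).left := by
  rw [← Over.prodLeftIsoPullback_hom_snd, P.cancel_left_of_respectsIso]
  exact P.pullback_snd _ _ hU

end Groth.Agent.Lib.H5bDiagPres
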