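import Mathlib
import Groth.Agent.Lib.Helper4DimFormulaAD
import Groth.Agent.Lib.Helper4DimFormulaAO

/-!
# The dimension inequality for morphisms locally of finite type (helper5, second batch)

`stalkDim_add_ptTrdeg_le`: for `f : X ⟶ Y` locally of finite type with `Y` locally Noetherian,
`dim O_{X,x} + trdeg κ(x)/κ(f x) ≤ dim O_{Y,f x} + E` where `E` bounds the transcendence degrees
of the maximal points specializing to `x`.
-/

set_option autoImplicit false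
set_option linter.style.haveILetI false
universe u
open CategoryTheory CategoryTheory.Limits AlgebraicGeometry Topology TopologicalSpace

namespace Groth.Agent.Lib.H5bDimIneq

open Groth.Agent.Lib.Helper4.DimFormula

/-- the point of `X` attached to a minimal prime of a local ring of `X` has a zero-dimensional
local ring. -/
theorem ringKrullDim_stalk_fromSpecStalk_of_minimal {X : Scheme.{u}} (x : X)
    (𝔭 : Ideal (X.presheaf.stalk x)) [h𝔭 : 𝔭.IsPrime]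
    (hmin : 𝔭 ∈ (⊥ : Ideal (X.presheaf.stalk x)).minimalPrimes) :
    ringKrullDim (X.presheaf.stalk (X.fromSpecStalk x ⟨𝔭, h𝔭⟩)) = 0 := by
  rw [ringKrullDim_stalk_eq_coheight]
  have : Order.coheight (X.fromSpecStalk x ⟨𝔭, h𝔭⟩) = 0 := by
    rw [Order.coheight_eq_zero]
    intro η hη
    have hη' : η ⤳ X.fromSpecStalk x ⟨𝔭, h𝔭⟩ := hη
    have hξx : X.fromSpecStalk x ⟨𝔭, h𝔭⟩ ⤳ x := by
      have : X.fromSpecStalk x ⟨𝔭, h𝔭⟩ ∈ Set.range (X.fromSpecStalk x) := ⟨_, rfl⟩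
      rw [Scheme.range_fromSpecStalk] at this
      exact this
    have hηx : η ∈ Set.range (X.fromSpecStalk x) := by
      rw [Scheme.range_fromSpecStalk]
      exact hη'.trans hξx
    obtain ⟨𝔮, rfl⟩ := hηx
    have hq : 𝔮 ⤳ ⟨𝔭, h𝔭⟩ :=
      ((X.fromSpecStalk x).isEmbedding.isInducing.specializes_iff).mp hη'
    have hle : 𝔮.asIdeal ≤ 𝔭 := (PrimeSpectrum.le_iff_specializes 𝔮 ⟨𝔭, h𝔭⟩).mpr hq
    have : 𝔭 ≤ 𝔮.asIdeal := hmin.2 ⟨𝔮.isPrime, bot_le⟩ hle
    have heq : 𝔮 = ⟨𝔭, h𝔭⟩ := PrimeSpectrum.ext (le_antisymm hle this)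
    rw [heq]
  rw [this]; rfl

theorem stalkDim_add_ptTrdeg_le {X Y : Scheme.{u}} [IsLocallyNoetherian Y] (f : X ⟶ Y)
    [LocallyOfFiniteType f] (x : X) (E : WithBot ℕ∞)
    (hE : ∀ ξ : X, ξ ⤳ x → ringKrullDim (X.presheaf.stalk ξ) = 0 →
      (ptTrdeg f ξ : WithBot ℕ∞) ≤ E) :
    ringKrullDim (X.presheaf.stalk x) + (ptTrdeg f x : WithBot ℕ∞) ≤
      ringKrullDim (Y.presheaf.stalk (f.base x)) + E := by
  haveI : IsLocallyNoetherian X := LocallyOfFiniteType.isLocallyNoetherian f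
  obtain ⟨n, hn⟩ := exists_nat_ringKrullDim_eq (X.presheaf.stalk x)
  obtain ⟨l, hl⟩ := Order.le_krullDim_iff.mp
    (hn.ge : (n : WithBot ℕ∞) ≤ Order.krullDim (PrimeSpectrum (X.presheaf.stalk x)))
  obtain ⟨𝔭, h𝔭min, h𝔭le⟩ := Ideal.exists_minimalPrimes_le (bot_le : ⊥ ≤ l.head.asIdeal)
  haveI h𝔭 : 𝔭.IsPrime := h𝔭min.1.1
  have h1 : (n : WithBot ℕ∞) ≤ ringKrullDim (X.presheaf.stalk x ⧸ 𝔭) := by
    rw [ringKrullDim_quotient]
    let l' : LTSeries ↥(PrimeSpectrum.zeroLocus (𝔭 : Set (X.presheaf.stalk x))) :=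
      { length := l.length
        toFun := fun i => ⟨l i, by
          rw [PrimeSpectrum.mem_zeroLocus]
          exact h𝔭le.trans (l.head_le i)⟩
        step := fun i => l.step i }
    rw [← hl]
    exact Order.LTSeries.length_le_krullDim l'
  have h2 := ringKrullDim_quotient_add_ptTrdeg_le f x 𝔭
  have hξx : X.fromSpecStalk x ⟨𝔭, h𝔭⟩ ⤳ x := by
    have : X.fromSpecStalk x ⟨𝔭, h𝔭⟩ ∈ Set.range (X.fromSpecStalk x) := ⟨_, rfl⟩
    rw [Scheme.range_fromSpecStalk] at this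
    exact this
  have h3 := hE _ hξx (ringKrullDim_stalk_fromSpecStalk_of_minimal x 𝔭 h𝔭min)
  have h4 : ringKrullDim (Y.presheaf.stalk (f.base x) ⧸ 𝔭.comap (f.stalkMap x).hom) ≤
      ringKrullDim (Y.presheaf.stalk (f.base x)) := ringKrullDim_quotient_le _
  calc ringKrullDim (X.presheaf.stalk x) + (ptTrdeg f x : WithBot ℕ∞)
      = (n : WithBot ℕ∞) + (ptTrdeg f x : WithBot ℕ∞) := by rw [hn]
    _ ≤ ringKrullDim (X.presheaf.stalk x ⧸ 𝔭) + (ptTrdeg f x : WithBot ℕ∞) :=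
        add_le_add_left h1 _
    _ ≤ _ := h2
    _ ≤ _ := add_le_add h4 h3

end Groth.Agent.Lib.H5bDimIneq
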