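-- helper8: cancellation results for LocQ properties of functors of algebraic stacks
-- (lfp cancellation; flat descent along a surjective flat functor)
import Mathlib
import Groth.Agent.Lib.Helper15GoodComp

set_option autoImplicit false
set_option backward.isDefEq.respectTransparency false
set_option backward.isDefEq.respectTransparency.types false
open CategoryTheory CategoryTheory.Functor CategoryTheory.Limits Opposite AlgebraicGeometry

universe u

namespace Groth.Agent.Lib.Helper8LocQCancel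

open Groth.Agent.Lib.Helper17 Groth.Agent.Lib.Helper15PshFib Groth.Agent.Lib.Helper15RepComp
  Groth.Agent.Lib.Helper15RepPsh Groth.Agent.Lib.Helper15DiagBase Groth.Agent.Lib.Helper15DiagRepSp
  Groth.Agent.Lib.Helper15Descent Groth.Agent.Lib.Helper15DiagLft
  Groth.Agent.Lib.Helper15DiagDescent Groth.Agent.Lib.Helper15SpMapRep
  Groth.Agent.Lib.Helper15SrcCancel Groth.Agent.Lib.Helper15ChartSp Groth.Agent.Lib.Helper15Atlas
  Groth.Agent.Lib.Helper15LocEss Groth.Agent.Lib.Helper15UnivComp Groth.Agent.Lib.Helper15SmLoc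
  Groth.Agent.Lib.Helper15PtsComp Groth.Agent.Lib.Helper15PtsTop Groth.Agent.Lib.Helper15PtsQc
  Groth.Agent.Lib.Helper15FpSwap Groth.Agent.Lib.Helper15QcLocal Groth.Agent.Lib.Helper15ClosedQc
  Groth.Agent.Lib.Helper15UnivPts Groth.Agent.Lib.Helper15BaseChange
  Groth.Agent.Lib.Helper15MonoSep Groth.Agent.Lib.Helper15LocQ Groth.Agent.Lib.Helper15LocQEngine
  Groth.Agent.Lib.Helper15LocQProps Groth.Agent.Lib.Helper15LocQSpace
  Groth.Agent.Lib.Helper15LocQSpace2 Groth.Agent.Lib.Helper15LocQRep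
  Groth.Agent.Lib.Helper15LocQComp Groth.Agent.Lib.Helper15GoodComp

section Sch

theorem fp_stableSource :
    RingHom.StableUnderCompositionWithLocalizationAwaySource @RingHom.FinitePresentation := by
  intro R S T _ _ _ _ r _ f hf
  exact hf.comp (RingHom.finitePresentation_holdsForLocalizationAway S r)

/-- If `h ≫ k` is locally of finite presentation and `k` is locally of finite type then `h` is
locally of finite presentation. -/
theorem lfp_of_comp_of_lft {X Y Z : Scheme.{u}} (h : X ⟶ Y) (k : Y ⟶ Z)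
    (hhk : LocallyOfFinitePresentation (h ≫ k)) (hk : LocallyOfFiniteType k) :
    LocallyOfFinitePresentation h := by
  rw [HasRingHomProperty.iff_exists_appLE (P := @LocallyOfFinitePresentation) fp_stableSource]
  intro x
  obtain ⟨W, hW, hxW, -⟩ := exists_isAffineOpen_mem_and_subset
    (X := Z) (x := k (h x)) (U := ⊤) trivial
  obtain ⟨V, hV, hxV, hVW⟩ := exists_isAffineOpen_mem_and_subset
    (X := Y) (x := h x) (U := k ⁻¹ᵁ W) hxW
  obtain ⟨U, hU, hxU, hUV⟩ := exists_isAffineOpen_mem_and_subset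
    (X := X) (x := x) (U := h ⁻¹ᵁ V) hxV
  have hVW' : V ≤ k ⁻¹ᵁ W := hVW
  have hUV' : U ≤ h ⁻¹ᵁ V := hUV
  refine ⟨⟨V, hV⟩, ⟨U, hU⟩, hxU, hUV', ?_⟩
  have e1 : U ≤ (h ≫ k) ⁻¹ᵁ W := fun a ha => hVW (hUV ha)
  have h1 : ((h ≫ k).appLE W U e1).hom.FinitePresentation :=
    HasRingHomProperty.appLE (P := @LocallyOfFinitePresentation) _ hhk ⟨W, hW⟩ ⟨U, hU⟩ e1
  have h2 : (k.appLE W V hVW').hom.FiniteType :=
    HasRingHomProperty.appLE (P := @LocallyOfFiniteType) _ hk ⟨W, hW⟩ ⟨V, hV⟩ hVW'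
  have h3 : (h ≫ k).appLE W U e1 = k.appLE W V hVW' ≫ h.appLE V U hUV' := by
    rw [Scheme.Hom.appLE_comp_appLE]
  rw [h3] at h1
  exact RingHom.FinitePresentation.of_comp_finiteType _ h1 h2

open TensorProduct in
theorem flat_of_flat_of_faithfullyFlat (R A B : Type*) [CommRing R] [CommRing A] [CommRing B]
    [Algebra R A] [Algebra A B] [Algebra R B] [IsScalarTower R A B] [Module.Flat R B]
    [Module.FaithfullyFlat A B] : Module.Flat R A := by
  rw [Module.Flat.iff_lTensor_preserves_injective_linearMap]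
  intro N P _ _ _ _ f hf
  have h1 : Function.Injective (f.lTensor B) :=
    Module.Flat.lTensor_preserves_injective_linearMap f hf
  have h2 : Function.Injective ((f.baseChange A).lTensor B) := by
    have : (AlgebraTensorModule.cancelBaseChange R A B B P).toLinearMap.restrictScalars A ∘ₗ
        (f.baseChange A).lTensor B =
        ((f.baseChange B).restrictScalars A) ∘ₗ
        (AlgebraTensorModule.cancelBaseChange R A B B N).toLinearMap.restrictScalars A := by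
      ext b n
      simp
    have h3 : Function.Injective
        ((AlgebraTensorModule.cancelBaseChange R A B B P).toLinearMap.restrictScalars A ∘ₗ
        (f.baseChange A).lTensor B) := by
      rw [this]
      exact (show Function.Injective (f.baseChange B) from h1).comp
        (AlgebraTensorModule.cancelBaseChange R A B B N).injective
    rw [LinearMap.coe_comp] at h3
    exact Function.Injective.of_comp h3
  exact (Module.FaithfullyFlat.lTensor_injective_iff_injective A B (f.baseChange A)).1 h2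

theorem flat_of_comp_of_flat_surjective {X Y Z : Scheme.{u}} (h : X ⟶ Y) (k : Y ⟶ Z)
    (hh : Flat h) (hs : Surjective h) (hhk : Flat (h ≫ k)) : Flat k := by
  rw [Flat.iff_flat_stalkMap]
  intro y
  obtain ⟨x, rfl⟩ := hs.surj y
  have h1 : ((h ≫ k).stalkMap x).hom.Flat := Flat.stalkMap (h ≫ k) x
  have h2 : (h.stalkMap x).hom.Flat := Flat.stalkMap h x
  rw [Scheme.Hom.stalkMap_comp] at h1
  algebraize [(k.stalkMap (h x)).hom, (h.stalkMap x).hom,
    (h.stalkMap x).hom.comp (k.stalkMap (h x)).hom]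
  have : Module.Flat (Z.presheaf.stalk (k (h x))) (X.presheaf.stalk x) := h1
  have hl : IsLocalHom (algebraMap (Y.presheaf.stalk (h x)) (X.presheaf.stalk x)) :=
    inferInstanceAs (IsLocalHom (h.stalkMap x).hom)
  have : Module.FaithfullyFlat (Y.presheaf.stalk (h x)) (X.presheaf.stalk x) :=
    Module.FaithfullyFlat.of_flat_of_isLocalHom
  exact flat_of_flat_of_faithfullyFlat (Z.presheaf.stalk (k (h x))) (Y.presheaf.stalk (h x))
    (X.presheaf.stalk x)

end Sch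

section St

variable {S : Scheme.{u}} {𝒳 𝒴 𝒵 : AlgSt.Cat S}

theorem locQ_lfp_of_comp (h𝒳 : AlgSt.IsAlgStack Scheme.fppfPrecoverage 𝒳)
    (h𝒴 : AlgSt.IsAlgStack Scheme.fppfPrecoverage 𝒴)
    (h𝒵 : AlgSt.IsAlgStack Scheme.fppfPrecoverage 𝒵) (f : 𝒳 ⥤ᵇ 𝒴) (g : 𝒴 ⥤ᵇ 𝒵)
    (hfg : AlgSt.LocQ (AlgSp.LocP @LocallyOfFinitePresentation) (BasedFunctor.comp f g))
    (hg : AlgSt.LocQ (AlgSp.LocP @LocallyOfFiniteType) g) :
    AlgSt.LocQ (AlgSp.LocP @LocallyOfFinitePresentation) f := by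
  obtain ⟨U, V, W, x, y, z, h, k, α, β, hx₁, hx₂, hy₁, hy₂, hz₁, hz₂, hα₁, hα₂, hβ₁, hβ₂, hγ⟩ :=
    exists_good_squares h𝒳 h𝒴 h𝒵 f g
  have hP : AlgSp.LocP @LocallyOfFinitePresentation ((AlgSp.yon S).map (h ≫ k)) :=
    (locQ_iff_forall_good _ isSmoothLocalST_lfp h𝒳 h𝒵 (BasedFunctor.comp f g)).1 hfg U W x z
      (h ≫ k) _ hx₁ hz₁ hγ
  have hP' : AlgSp.LocP @LocallyOfFiniteType ((AlgSp.yon S).map k) :=
    (locQ_iff_forall_good _ isSmoothLocalST_lft h𝒴 h𝒵 g).1 hg V W y z k β hy₁ hz₁ hβ₁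
  have h1 : LocallyOfFinitePresentation (h.left ≫ k.left) := AlgSp.locP_yon_map hP
  have h2 : LocallyOfFiniteType k.left := AlgSp.locP_yon_map hP'
  have h3 : LocallyOfFinitePresentation h.left := lfp_of_comp_of_lft h.left k.left h1 h2
  exact ⟨U, V, x, y, h, α, hx₁, hx₂, hy₁, locP_yon_map_of_lfp h h3⟩

/-- The second projection of a 2-fibre product is surjective when the first functor is. -/
theorem isSurjective_fpSnd (h𝒳 : AlgSt.IsAlgStack Scheme.fppfPrecoverage 𝒳)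
    (h𝒴 : AlgSt.IsAlgStack Scheme.fppfPrecoverage 𝒴)
    (h𝒵 : AlgSt.IsAlgStack Scheme.fppfPrecoverage 𝒵) (f : 𝒳 ⥤ᵇ 𝒴) (g : 𝒵 ⥤ᵇ 𝒴)
    (hf : AlgSt.IsSurjective f) : AlgSt.IsSurjective (FibCat.fpSnd f g) := by
  have h1 : AlgSt.IsSurjective (FibCat.fpFst g f) :=
    Groth.Agent.S12825.result h𝒳 h𝒴 h𝒵 f g hf
  intro z
  obtain ⟨w, rfl⟩ := h1 z
  obtain ⟨v, rfl⟩ := points_map_surjective_of_isEquivOver _ (isEquivOver_fpSwap f g) w
  exact ⟨v, (points_map_comp (fpSwap f g) (FibCat.fpFst g f) v)⟩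

theorem surjective_left_of_good (h𝒳 : AlgSt.IsAlgStack Scheme.fppfPrecoverage 𝒳)
    (h𝒴 : AlgSt.IsAlgStack Scheme.fppfPrecoverage 𝒴) (f : 𝒳 ⥤ᵇ 𝒴) (hf : AlgSt.IsSurjective f)
    {U V : Over S} (x : FibCat.overCat U ⥤ᵇ 𝒳) (y : FibCat.overCat V ⥤ᵇ 𝒴) (h : U ⟶ V)
    (α : BasedFunctor.comp x f ≅ BasedFunctor.comp (AlgSt.overMap h) y)
    (hℓ : AlgSt.RepByAlgSpWith AlgSp.IsSurjectiveMor (FibCat.fpLift x (AlgSt.overMap h) α)) :
    Function.Surjective h.left := by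
  have hV := isAlgStack_overCat V
  have hU := isAlgStack_overCat U
  have hfp : AlgSt.IsAlgStack Scheme.fppfPrecoverage (FibCat.fp f y) :=
    isAlgStack_fp_of_isPrestack (IsStack.isPrestack _ h𝒴.isStack) h𝒴.diag h𝒳 hV f y
  have h1 : AlgSt.IsSurjective (FibCat.fpSnd f y) := isSurjective_fpSnd h𝒳 h𝒴 hV f y hf
  have h2 : AlgSt.IsSurjective (FibCat.fpLift x (AlgSt.overMap h) α) :=
    (isSurjective_iff_repByAlgSpWith hU hfp _ (repByAlgSp1_of_repByAlgSpWith _ _ hℓ)).2 hℓ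
  intro v
  obtain ⟨w, hw⟩ := h1 (ptOver V v)
  obtain ⟨u', rfl⟩ := h2 w
  obtain ⟨u, rfl⟩ := (ptOver_bijective U).2 u'
  refine ⟨u, (ptOver_bijective V).1 ?_⟩
  rw [← ptOver_map, ← hw]
  exact points_map_comp (FibCat.fpLift x (AlgSt.overMap h) α) (FibCat.fpSnd f y) (ptOver U u)


theorem locQ_flat_of_comp_of_surjective (h𝒳 : AlgSt.IsAlgStack Scheme.fppfPrecoverage 𝒳)
    (h𝒴 : AlgSt.IsAlgStack Scheme.fppfPrecoverage 𝒴)
    (h𝒵 : AlgSt.IsAlgStack Scheme.fppfPrecoverage 𝒵) (f : 𝒳 ⥤ᵇ 𝒴) (g : 𝒴 ⥤ᵇ 𝒵)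
    (hf₁ : AlgSt.LocQ (AlgSp.LocP @Flat) f) (hf₂ : AlgSt.IsSurjective f)
    (hfg : AlgSt.LocQ (AlgSp.LocP @Flat) (BasedFunctor.comp f g)) :
    AlgSt.LocQ (AlgSp.LocP @Flat) g := by
  obtain ⟨U, V, W, x, y, z, h, k, α, β, hx₁, hx₂, hy₁, hy₂, hz₁, hz₂, hα₁, hα₂, hβ₁, hβ₂, hγ⟩ :=
    exists_good_squares h𝒳 h𝒴 h𝒵 f g
  have hP : AlgSp.LocP @Flat ((AlgSp.yon S).map (h ≫ k)) :=
    (locQ_iff_forall_good _ isSmoothLocalST_flat h𝒳 h𝒵 (BasedFunctor.comp f g)).1 hfg U W x z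
      (h ≫ k) _ hx₁ hz₁ hγ
  have hP' : AlgSp.LocP @Flat ((AlgSp.yon S).map h) :=
    (locQ_iff_forall_good _ isSmoothLocalST_flat h𝒳 h𝒴 f).1 hf₁ U V x y h α hx₁ hy₁ hα₁
  have h1 : Flat (h.left ≫ k.left) := AlgSp.locP_yon_map hP
  have h2 : Flat h.left := AlgSp.locP_yon_map hP'
  have h3 : Surjective h.left := ⟨surjective_left_of_good h𝒳 h𝒴 f hf₂ x y h α hα₂⟩
  have h4 : Flat k.left := flat_of_comp_of_flat_surjective h.left k.left h2 h3 h1
  exact ⟨V, W, y, z, k, β, hy₁, hy₂, hz₁, locP_yon_map_of_flat k h4⟩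

end St

end Groth.Agent.Lib.Helper8LocQCancel
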