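-- helper8: products of morphisms representable by algebraic spaces with a property.
import Mathlib
import Groth.Agent.Lib.Helper8DiagCancel
import Groth.Agent.Lib.Helper17SelfOver
import Groth.Agent.Lib.Helper17AlgStEquiv

set_option autoImplicit false
set_option backward.isDefEq.respectTransparency false
set_option backward.isDefEq.respectTransparency.types false
open CategoryTheory CategoryTheory.Functor CategoryTheory.Limits Opposite AlgebraicGeometry

universe u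

namespace Groth.Agent.Lib.Helper8ProdMap

open Groth.Agent.Lib.Helper17 Groth.Agent.Lib.Helper8DiagCancel Groth.Agent.Lib.Helper15FpSwap

variable {S : Scheme.{u}}

theorem repByAlgSpWith_mapRight {𝒜 𝒴 𝒴' 𝒵 : AlgSt.Cat S} (P : MorphismProperty (AlgSp.Sp S))
    (p : 𝒜 ⥤ᵇ 𝒵) (g : 𝒴 ⥤ᵇ 𝒴') (q' : 𝒴' ⥤ᵇ 𝒵) (hg : AlgSt.RepByAlgSpWith P g) :
    AlgSt.RepByAlgSpWith P (mapRight p g q') :=
  (repByAlgSpWith_of_square P (mapRight p g q') (FibCat.fpFst (FibCat.fpSnd p q') g)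
    (pasteR p g q') (BasedFunctor.id _) (isEquivOver_pasteR p g q') (isEquivOver_id _)
    (mapRightIso p g q')).2 (repByAlgSpWith_fpFst P g (FibCat.fpSnd p q') hg)

theorem repByAlgSpWith_mapLeft {ℬ 𝒳 𝒳' 𝒵 : AlgSt.Cat S} (P : MorphismProperty (AlgSp.Sp S))
    (p' : 𝒳' ⥤ᵇ 𝒵) (f : 𝒳 ⥤ᵇ 𝒳') (c : ℬ ⥤ᵇ 𝒵) (hf : AlgSt.RepByAlgSpWith P f) :
    AlgSt.RepByAlgSpWith P (mapLeft p' f c) :=
  (repByAlgSpWith_of_square P (mapLeft p' f c) (mapRight c f p')
    (fpSwap c (BasedFunctor.comp f p')) (fpSwap c p') (isEquivOver_fpSwap _ _)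
    (isEquivOver_fpSwap _ _) (mapLeftIso p' f c)).2 (repByAlgSpWith_mapRight P c f p' hf)

end Groth.Agent.Lib.Helper8ProdMap
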