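-- helper8: LocQ P for functors of algebraic stacks: precomposition with smooth charts, base change
import Mathlib
import Groth.Agent.Lib.Helper15GoodComp
import Groth.Agent.Lib.Helper8DiagCancel
import Groth.Agent.Lib.Helper8ProdMap

set_option autoImplicit false
set_option backward.isDefEq.respectTransparency false
set_option backward.isDefEq.respectTransparency.types false
open CategoryTheory CategoryTheory.Functor CategoryTheory.Limits Opposite AlgebraicGeometry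

universe u

namespace Groth.Agent.Lib.Helper8LocQBase

open Groth.Agent.Lib.Helper17 Groth.Agent.Lib.Helper15PshFib Groth.Agent.Lib.Helper15RepComp
  Groth.Agent.Lib.Helper15RepPsh Groth.Agent.Lib.Helper15DiagBase Groth.Agent.Lib.Helper15DiagRepSp
  Groth.Agent.Lib.Helper15Descent Groth.Agent.Lib.Helper15DiagLft
  Groth.Agent.Lib.Helper15DiagDescent Groth.Agent.Lib.Helper15SpMapRep
  Groth.Agent.Lib.Helper15SrcCancel Groth.Agent.Lib.Helper15ChartSp Groth.Agent.Lib.Helper15Atlas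
  Groth.Agent.Lib.Helper15LocEss Groth.Agent.Lib.Helper15UnivComp Groth.Agent.Lib.Helper15SmLoc
  Groth.Agent.Lib.Helper15PtsComp Groth.Agent.Lib.Helper15PtsTop Groth.Agent.Lib.Helper15PtsQc
  Groth.Agent.Lib.Helper15FpSwap Groth.Agent.Lib.Helper15QcLocal Groth.Agent.Lib.Helper15ClosedQc
  Groth.Agent.Lib.Helper15UnivPts Groth.Agent.Lib.Helper15BaseChange
  Groth.Agent.Lib.Helper15MonoSep Groth.Agent.Lib.Helper15LocQ Groth.Agent.Lib.Helper15LocQEngine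
  Groth.Agent.Lib.Helper15LocQProps Groth.Agent.Lib.Helper15LocQSpace
  Groth.Agent.Lib.Helper15LocQSpace2 Groth.Agent.Lib.Helper15LocQRep
  Groth.Agent.Lib.Helper15LocQComp Groth.Agent.Lib.Helper15GoodComp
  Groth.Agent.Lib.Helper8DiagCancel

section Iso0

variable {S : Scheme.{u}}

/-- A functor from the category of a sheaf to a slice is the functor of its map of sheaves. -/
noncomputable def isoSpMap {F : AlgSp.Sp S} {W : Over S} (Φ : AlgSt.ofSp F ⥤ᵇ FibCat.overCat W)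
    (a : F ⟶ (AlgSp.yon S).obj W) (ha : AlgSt.spMapOfOver Φ = a) :
    Φ ≅ BasedFunctor.comp (AlgSt.ofSpMap a) (AlgSt.toOverCat W) :=
  isoOfOverCat (fun c => by
    obtain ⟨T, s⟩ := c
    rw [ovSec_eq_spMapOfOver, ovSec_eq_spMapOfOver, spMapOfOver_ofSpMap_toOverCat, ha])

end Iso0

section A

variable {S : Scheme.{u}} {𝒳 𝒴 : AlgSt.Cat S}

/-- Precomposing with a smooth chart keeps `LocQ P`. -/
theorem locQ_precomp_smooth (P : MorphismProperty (AlgSp.Sp S)) (hP : AlgSp.IsSmoothLocalST P)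
    (h𝒳 : FibCat.IsFibGrpd 𝒳.p)
    (f : 𝒳 ⥤ᵇ 𝒴) (hf : AlgSt.LocQ P f) {U : Over S} (s : FibCat.overCat U ⥤ᵇ 𝒳)
    (hs : AlgSt.RepByAlgSpWith (AlgSp.LocP @Smooth) s) :
    AlgSt.LocQ P (BasedFunctor.comp s f) := by
  obtain ⟨U₁, V, x₁, y, h, α, hx₁, hx₂, hy₁, hPh⟩ := hf
  obtain ⟨G, e, he, ht⟩ := hs U₁ x₁
  have hU₁ : FibCat.IsFibGrpd (FibCat.overCat U₁).p := (isFibSet_overForget U₁).1
  have hU : FibCat.IsFibGrpd (FibCat.overCat U).p := (isFibSet_overForget U).1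
  have hV : FibCat.IsFibGrpd (FibCat.overCat V).p := (isFibSet_overForget V).1
  have hV' : FibCat.IsFibGrpd (AlgSt.ofSch V).p :=
    (isFibSetoid_ofPsh ((AlgSp.yon S).obj V).obj).1
  have hG : FibCat.IsFibGrpd (AlgSt.ofSp G.obj).p := (isFibSetoid_ofPsh G.obj.obj).1
  have hfp : FibCat.IsFibGrpd (FibCat.fp x₁ s).p := isFibGrpd_fp x₁ s hU₁ hU h𝒳
  let t : G.obj ⟶ (AlgSp.yon S).obj U₁ :=
    AlgSt.spMapOfOver (BasedFunctor.comp e (FibCat.fpFst x₁ s))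
  let xG : AlgSt.ofSp G.obj ⥤ᵇ FibCat.overCat U := BasedFunctor.comp e (FibCat.fpSnd x₁ s)
  have hcx := chart_precomp_equiv hG hfp e he (FibCat.fpSnd x₁ s)
  have hcy := chart_precomp_equiv hV' hV (AlgSt.toOverCat V) (isEquivOver_toOverCat V) y
  let VV : AlgSp.Space S := ⟨(AlgSp.yon S).obj V, AlgSp.IsAlgSpace.yon_obj V⟩
  let hh : G ⟶ VV := ObjectProperty.homMk (t ≫ (AlgSp.yon S).map h)
  refine locQ_of_space_square P hP (BasedFunctor.comp s f) G VV xG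
    (BasedFunctor.comp (AlgSt.toOverCat V) y) hh ?_
    (hcx.1 (repByAlgSpWith_fpSnd _ x₁ s hx₁)) (hcx.2 (repByAlgSpWith_fpSnd _ x₁ s hx₂))
    (hcy.1 hy₁)
    (hP.precomp G.property (AlgSp.IsAlgSpace.yon_obj U₁) (AlgSp.IsAlgSpace.yon_obj V) t _ ht hPh)
  let i1 : BasedFunctor.comp xG (BasedFunctor.comp s f) ≅
      BasedFunctor.comp (BasedFunctor.comp (BasedFunctor.comp e (FibCat.fpFst x₁ s)) x₁) f :=
    whiskerRightIso (whiskerLeftIso e (FibCat.fpIso x₁ s).symm) f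
  let i2 : BasedFunctor.comp (BasedFunctor.comp (BasedFunctor.comp e (FibCat.fpFst x₁ s)) x₁) f ≅
      BasedFunctor.comp (BasedFunctor.comp (BasedFunctor.comp e (FibCat.fpFst x₁ s))
        (AlgSt.overMap h)) y :=
    whiskerLeftIso (BasedFunctor.comp e (FibCat.fpFst x₁ s)) α
  let i3 : BasedFunctor.comp (BasedFunctor.comp e (FibCat.fpFst x₁ s)) (AlgSt.overMap h) ≅
      BasedFunctor.comp (AlgSt.ofSpMap (t ≫ (AlgSp.yon S).map h)) (AlgSt.toOverCat V) :=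
    isoSpMap _ _ (spMapOfOver_comp_overMap _ h)
  exact i1 ≪≫ i2 ≪≫ whiskerRightIso i3 y

end A


section B

variable {S : Scheme.{u}} {𝒳 𝒴 : AlgSt.Cat S}

/-- `LocQ P` can be checked after precomposing with a smooth surjective chart. -/
theorem locQ_of_precomp_cover (P : MorphismProperty (AlgSp.Sp S))
    (f : 𝒳 ⥤ᵇ 𝒴) {U : Over S} (s : FibCat.overCat U ⥤ᵇ 𝒳)
    (hs₁ : AlgSt.RepByAlgSpWith (AlgSp.LocP @Smooth) s)
    (hs₂ : AlgSt.RepByAlgSpWith AlgSp.IsSurjectiveMor s)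
    (hsf : AlgSt.LocQ P (BasedFunctor.comp s f)) : AlgSt.LocQ P f := by
  obtain ⟨U₃, V, x₃, y, h, α, hx₁, hx₂, hy₁, hPh⟩ := hsf
  have hU₃ : FibCat.IsFibGrpd (FibCat.overCat U₃).p := (isFibSet_overForget U₃).1
  have hU : FibCat.IsFibGrpd (FibCat.overCat U).p := (isFibSet_overForget U).1
  exact ⟨U₃, V, BasedFunctor.comp x₃ s, y, h, α,
    repByAlgSpWith_comp_of_compCond hU₃ hU _ compCond_smooth x₃ s hx₁ hs₁,
    repByAlgSpWith_comp_of_compCond hU₃ hU _ compCond_isSurjectiveMor x₃ s hx₂ hs₂, hy₁, hPh⟩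

end B

section Main

variable {S : Scheme.{u}} {𝒳 𝒴 𝒴' : AlgSt.Cat S}

/-- `LocQ P` is stable under base change, for `P` smooth local on source and target and stable
under base change. -/
theorem locQ_fpFst (P : MorphismProperty (AlgSp.Sp S)) (hP : AlgSp.IsSmoothLocalST P)
    (hPb : BCStable P)
    (h𝒳 : AlgSt.IsAlgStack Scheme.fppfPrecoverage 𝒳)
    (h𝒴 : AlgSt.IsAlgStack Scheme.fppfPrecoverage 𝒴)
    (h𝒴' : AlgSt.IsAlgStack Scheme.fppfPrecoverage 𝒴')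
    (f : 𝒳 ⥤ᵇ 𝒴) (g : 𝒴' ⥤ᵇ 𝒴) (hf : AlgSt.LocQ P f) : AlgSt.LocQ P (FibCat.fpFst g f) := by
  obtain ⟨V, y₀, hy₁, hy₂⟩ := h𝒴.atlas
  obtain ⟨W, yW, kW, β, hβ₁, hβ₂, hyW₁, hyW₂⟩ := exists_good_square_over h𝒴' h𝒴 g y₀
  obtain ⟨U, x, hx₁, hx₂⟩ := h𝒳.atlas
  let φ : FibCat.overCat U ⥤ᵇ 𝒴 := BasedFunctor.comp x f
  have hφ : AlgSt.RepByAlgSp1 φ := repByAlgSp1_of_repByAlgSp1_diag h𝒴.diag U φ
  have hLφ : AlgSt.LocQ P φ := locQ_precomp_smooth P hP h𝒳.isStack.1 f hf x hx₁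
  obtain ⟨F_V, e_V, he_V⟩ := hφ V y₀
  have hPV := prop_atlas_of_locQ P hP (isAlgStack_overCat U) h𝒴 φ hLφ y₀ hy₁ F_V e_V he_V
  let c : FibCat.overCat W ⥤ᵇ 𝒴 := BasedFunctor.comp yW g
  obtain ⟨F_W, e_W, he_W⟩ := hφ W c
  obtain ⟨q, sq⟩ := exists_isPullback_baseChange φ y₀ F_V.obj e_V he_V kW c β F_W.obj e_W he_W
  have hPW : P (AlgSt.spMapOfOver (BasedFunctor.comp e_W (FibCat.fpFst c φ))) :=
    hPb F_V.property (AlgSp.IsAlgSpace.yon_obj V) F_W.property (AlgSp.IsAlgSpace.yon_obj W) _ _ _ _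
      sq hPV
  -- the chart of the fibre product
  have hU : FibCat.IsFibGrpd (FibCat.overCat U).p := (isFibSet_overForget U).1
  have hW : FibCat.IsFibGrpd (FibCat.overCat W).p := (isFibSet_overForget W).1
  have hW' : FibCat.IsFibGrpd (AlgSt.ofSch W).p :=
    (isFibSetoid_ofPsh ((AlgSp.yon S).obj W).obj).1
  have hF : FibCat.IsFibGrpd (AlgSt.ofSp F_W.obj).p := (isFibSetoid_ofPsh F_W.obj.obj).1
  have hfp1 : FibCat.IsFibGrpd (FibCat.fp c φ).p := isFibGrpd_fp c φ hW hU h𝒴.isStack.1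
  have hfp2 : FibCat.IsFibGrpd (FibCat.fp g φ).p := isFibGrpd_fp g φ h𝒴'.isStack.1 hU h𝒴.isStack.1
  let Pr : FibCat.fp c φ ⥤ᵇ FibCat.fp g f :=
    BasedFunctor.comp (mapLeft g yW φ) (mapRight g x f)
  have hPr₁ : AlgSt.RepByAlgSpWith (AlgSp.LocP @Smooth) Pr :=
    repByAlgSpWith_comp_of_compCond hfp1 hfp2 _ compCond_smooth _ _
      (Groth.Agent.Lib.Helper8ProdMap.repByAlgSpWith_mapLeft _ g yW φ (hyW₁ hy₁))
      (Groth.Agent.Lib.Helper8ProdMap.repByAlgSpWith_mapRight _ g x f hx₁)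
  have hPr₂ : AlgSt.RepByAlgSpWith AlgSp.IsSurjectiveMor Pr :=
    repByAlgSpWith_comp_of_compCond hfp1 hfp2 _ compCond_isSurjectiveMor _ _
      (Groth.Agent.Lib.Helper8ProdMap.repByAlgSpWith_mapLeft _ g yW φ (hyW₂ hy₂))
      (Groth.Agent.Lib.Helper8ProdMap.repByAlgSpWith_mapRight _ g x f hx₂)
  have hcx := chart_precomp_equiv hF hfp1 e_W he_W Pr
  have hcy := chart_precomp_equiv hW' hW (AlgSt.toOverCat W) (isEquivOver_toOverCat W) yW
  let WW : AlgSp.Space S := ⟨(AlgSp.yon S).obj W, AlgSp.IsAlgSpace.yon_obj W⟩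
  let hh : F_W ⟶ WW :=
    ObjectProperty.homMk (AlgSt.spMapOfOver (BasedFunctor.comp e_W (FibCat.fpFst c φ)))
  refine locQ_of_space_square P hP (FibCat.fpFst g f) F_W WW (BasedFunctor.comp e_W Pr)
    (BasedFunctor.comp (AlgSt.toOverCat W) yW) hh ?_ (hcx.1 hPr₁) (hcx.2 hPr₂) (hcy.1 (hyW₁ hy₁)) hPW
  let i1 : BasedFunctor.comp (BasedFunctor.comp e_W Pr) (FibCat.fpFst g f) ≅
      BasedFunctor.comp (BasedFunctor.comp e_W (FibCat.fpFst c φ)) yW := Iso.refl _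
  exact i1 ≪≫ whiskerRightIso (isoSpMap (BasedFunctor.comp e_W (FibCat.fpFst c φ)) _ rfl) yW

end Main

end Groth.Agent.Lib.Helper8LocQBase
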