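-- helper8: fppf descent of LocQ P along a flat lfp surjective functor of algebraic stacks (S12994)
import Mathlib
import Groth.Agent.Lib.Helper15GoodComp
import Groth.Agent.Lib.Helper8LocQBase
import Groth.Agent.Lib.Helper8ProdMap
import Groth.Agent.S10530
import Groth.Agent.S10527

set_option autoImplicit false
set_option backward.isDefEq.respectTransparency false
set_option backward.isDefEq.respectTransparency.types false
open CategoryTheory CategoryTheory.Functor CategoryTheory.Limits Opposite AlgebraicGeometry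

universe u

namespace Groth.Agent.Lib.Helper8LocQFppf

open Groth.Agent.Lib.Helper17 Groth.Agent.Lib.Helper15PshFib Groth.Agent.Lib.Helper15RepComp
  Groth.Agent.Lib.Helper15RepPsh Groth.Agent.Lib.Helper15DiagBase Groth.Agent.Lib.Helper15DiagRepSp
  Groth.Agent.Lib.Helper15Descent Groth.Agent.Lib.Helper15DiagLft
  Groth.Agent.Lib.Helper15DiagDescent Groth.Agent.Lib.Helper15SpMapRep
  Groth.Agent.Lib.Helper15SrcCancel Groth.Agent.Lib.Helper15ChartSp Groth.Agent.Lib.Helper15Atlas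
  Groth.Agent.Lib.Helper15LocEss Groth.Agent.Lib.Helper15UnivComp Groth.Agent.Lib.Helper15SmLoc
  Groth.Agent.Lib.Helper15PtsComp Groth.Agent.Lib.Helper15PtsTop Groth.Agent.Lib.Helper15PtsQc
  Groth.Agent.Lib.Helper15FpSwap Groth.Agent.Lib.Helper15QcLocal Groth.Agent.Lib.Helper15ClosedQc
  Groth.Agent.Lib.Helper15UnivPts Groth.Agent.Lib.Helper15BaseChange
  Groth.Agent.Lib.Helper15MonoSep Groth.Agent.Lib.Helper15LocQ Groth.Agent.Lib.Helper15LocQEngine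
  Groth.Agent.Lib.Helper15LocQProps Groth.Agent.Lib.Helper15LocQSpace
  Groth.Agent.Lib.Helper15LocQSpace2 Groth.Agent.Lib.Helper15LocQRep
  Groth.Agent.Lib.Helper15LocQComp Groth.Agent.Lib.Helper15GoodComp
  Groth.Agent.Lib.Helper8DiagCancel

open Groth.Agent.Lib.Helper8LocQBase Groth.Agent.Lib.Helper8ProdMap

section Conv

variable {S : Scheme.{u}}

/-- A morphism of schemes whose functor of slices is representable with `Q` has `Q`. -/
theorem prop_yon_map_of_repByAlgSpWith (Q : MorphismProperty (AlgSp.Sp S)) (hQb : BCStable Q)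
    {W V : Over S} (k : W ⟶ V) (h : AlgSt.RepByAlgSpWith Q (AlgSt.overMap k)) :
    Q ((AlgSp.yon S).map k) := by
  have h1 := prop_spMapOfOver_of_repByAlgSpWith Q hQb (AlgSt.overMap k) h
    ⟨(AlgSp.yon S).obj W, AlgSp.IsAlgSpace.yon_obj W⟩ (AlgSt.toOverCat W) (isEquivOver_toOverCat W)
  rwa [spMapOfOver_comp_overMap, Groth.Agent.Lib.Helper15EquivRep.spMapOfOver_toOverCat,
    Category.id_comp] at h1

end Conv

section A'

variable {S : Scheme.{u}} {𝒰 𝒳 𝒴 : AlgSt.Cat S}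

/-- Precomposing with a smooth functor from an algebraic stack keeps `LocQ P`. -/
theorem locQ_precomp_smooth' (P : MorphismProperty (AlgSp.Sp S)) (hP : AlgSp.IsSmoothLocalST P)
    (h𝒰 : AlgSt.IsAlgStack Scheme.fppfPrecoverage 𝒰) (h𝒳 : FibCat.IsFibGrpd 𝒳.p)
    (f : 𝒳 ⥤ᵇ 𝒴) (hf : AlgSt.LocQ P f) (s : 𝒰 ⥤ᵇ 𝒳)
    (hs : AlgSt.RepByAlgSpWith (AlgSp.LocP @Smooth) s) :
    AlgSt.LocQ P (BasedFunctor.comp s f) := by
  obtain ⟨U', u, hu₁, hu₂⟩ := h𝒰.atlas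
  have hU' : FibCat.IsFibGrpd (FibCat.overCat U').p := (isFibSet_overForget U').1
  have h1 : AlgSt.LocQ P (BasedFunctor.comp (BasedFunctor.comp u s) f) :=
    locQ_precomp_smooth P hP h𝒳 f hf (BasedFunctor.comp u s)
      (repByAlgSpWith_comp_of_compCond hU' h𝒰.isStack.1 _ compCond_smooth u s hu₁ hs)
  exact locQ_of_precomp_cover P (BasedFunctor.comp s f) u hu₁ hu₂ h1

end A'


section Main

variable {S : Scheme.{u}} {𝒳 𝒴 𝒵 : AlgSt.Cat S}

/-- `LocQ P` descends along a flat, locally finitely presented, surjective functor of algebraic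
stacks, for `P` smooth local on source and target and fppf local on the base. -/
theorem locQ_of_locQ_fpFst_of_fppf (P : MorphismProperty (AlgSp.Sp S))
    (hP : AlgSp.IsSmoothLocalST P) (hP₂ : AlgSp.IsLocalOnBase AlgSp.IsFppfCover P)
    (h𝒳 : AlgSt.IsAlgStack Scheme.fppfPrecoverage 𝒳)
    (h𝒴 : AlgSt.IsAlgStack Scheme.fppfPrecoverage 𝒴)
    (h𝒵 : AlgSt.IsAlgStack Scheme.fppfPrecoverage 𝒵) (f : 𝒳 ⥤ᵇ 𝒴) (z : 𝒵 ⥤ᵇ 𝒴)
    (hz₁ : AlgSt.LocQ (AlgSp.LocP @Flat) z)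
    (hz₂ : AlgSt.LocQ (AlgSp.LocP @LocallyOfFinitePresentation) z)
    (hz₃ : AlgSt.IsSurjective z) (hL : AlgSt.LocQ P (FibCat.fpFst z f)) : AlgSt.LocQ P f := by
  have hpre𝒴 := IsStack.isPrestack _ h𝒴.isStack
  -- atlases
  obtain ⟨U, x, hx₁, hx₂⟩ := h𝒳.atlas
  obtain ⟨W₀, xZ, hxZ₁, hxZ₂⟩ := h𝒵.atlas
  obtain ⟨V, y₀, hy₁, hy₂⟩ := h𝒴.atlas
  have hU := isAlgStack_overCat U
  have hW₀ := isAlgStack_overCat W₀
  have hUf : FibCat.IsFibGrpd (FibCat.overCat U).p := (isFibSet_overForget U).1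
  have hW₀f : FibCat.IsFibGrpd (FibCat.overCat W₀).p := (isFibSet_overForget W₀).1
  have hVf : FibCat.IsFibGrpd (FibCat.overCat V).p := (isFibSet_overForget V).1
  let φ : FibCat.overCat U ⥤ᵇ 𝒴 := BasedFunctor.comp x f
  have hφ : AlgSt.RepByAlgSp1 φ := repByAlgSp1_of_repByAlgSp1_diag h𝒴.diag U φ
  -- the representable fppf cover `z'`
  let z' : FibCat.overCat W₀ ⥤ᵇ 𝒴 := BasedFunctor.comp xZ z
  have hz'rep : AlgSt.RepByAlgSp1 z' := repByAlgSp1_of_repByAlgSp1_diag h𝒴.diag W₀ z'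
  have hxZrep : AlgSt.RepByAlgSp1 xZ := repByAlgSp1_of_repByAlgSpWith _ xZ hxZ₁
  have hfl : AlgSt.LocQ (AlgSp.LocP @Flat) z' :=
    locQ_comp _ isSmoothLocalST_flat
      (fun _ _ _ _ hY hZ a b ha hb => locP_flat_comp hY hZ a b ha hb) hW₀ h𝒵 h𝒴 xZ z
      (locQ_of_repByAlgSpWith _ isSmoothLocalST_flat hW₀ h𝒵 xZ (flat_of_smooth hxZ₁)) hz₁
  have hfl' : AlgSt.RepByAlgSpWith (AlgSp.LocP @Flat) z' :=
    repByAlgSpWith_of_locQ _ isSmoothLocalST_flat bcStable_flat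
      (isLocalOnBase_fppf_of_fpqc _ (Groth.Agent.S10530.result S)) hW₀ h𝒴 z' hz'rep hfl
  have hfp : AlgSt.LocQ (AlgSp.LocP @LocallyOfFinitePresentation) z' :=
    locQ_comp _ isSmoothLocalST_lfp
      (fun _ _ _ _ hY hZ a b ha hb => locP_lfp_comp hY hZ a b ha hb) hW₀ h𝒵 h𝒴 xZ z
      (locQ_of_repByAlgSpWith _ isSmoothLocalST_lfp hW₀ h𝒵 xZ (lfp_of_smooth hxZ₁)) hz₂
  have hfp' : AlgSt.RepByAlgSpWith (AlgSp.LocP @LocallyOfFinitePresentation) z' :=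
    repByAlgSpWith_of_locQ _ isSmoothLocalST_lfp bcStable_lfp
      (isLocalOnBase_fppf_of_fpqc _ (Groth.Agent.S10527.result S)) hW₀ h𝒴 z' hz'rep hfp
  have hxZs : AlgSt.IsSurjective xZ := (isSurjective_iff_repByAlgSpWith hW₀ h𝒵 xZ hxZrep).2 hxZ₂
  have hz's : AlgSt.IsSurjective z' := by
    intro η
    obtain ⟨ζ, rfl⟩ := hz₃ η
    obtain ⟨ξ, rfl⟩ := hxZs ζ
    exact ⟨ξ, points_map_comp xZ z ξ⟩
  have hsurj' : AlgSt.RepByAlgSpWith AlgSp.IsSurjectiveMor z' :=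
    (isSurjective_iff_repByAlgSpWith hW₀ h𝒴 z' hz'rep).1 hz's
  -- the fppf cover of the atlas `V`
  obtain ⟨V₂, t, v, β, hℓ₁, hℓ₂, ht₁, ht₂⟩ := exists_good_square_over hW₀ h𝒴 z' y₀
  have hV₂f : FibCat.IsFibGrpd (FibCat.overCat V₂).p := (isFibSet_overForget V₂).1
  have hfpz'y : FibCat.IsFibGrpd (FibCat.fp z' y₀).p := isFibGrpd_fp z' y₀ hW₀f hVf h𝒴.isStack.1
  have hv₁ : AlgSt.RepByAlgSpWith (AlgSp.LocP @Flat) (AlgSt.overMap v) :=
    repByAlgSpWith_comp_of_compCond hV₂f hfpz'y _ compCond_flat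
      (FibCat.fpLift t (AlgSt.overMap v) β) (FibCat.fpSnd z' y₀) (flat_of_smooth hℓ₁)
      (repByAlgSpWith_fpSnd _ z' y₀ hfl')
  have hv₂ : AlgSt.RepByAlgSpWith (AlgSp.LocP @LocallyOfFinitePresentation) (AlgSt.overMap v) :=
    repByAlgSpWith_comp_of_compCond hV₂f hfpz'y _ compCond_lfp
      (FibCat.fpLift t (AlgSt.overMap v) β) (FibCat.fpSnd z' y₀) (lfp_of_smooth hℓ₁)
      (repByAlgSpWith_fpSnd _ z' y₀ hfp')
  have hv₃ : AlgSt.RepByAlgSpWith AlgSp.IsSurjectiveMor (AlgSt.overMap v) :=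
    repByAlgSpWith_comp_of_compCond hV₂f hfpz'y _ compCond_isSurjectiveMor
      (FibCat.fpLift t (AlgSt.overMap v) β) (FibCat.fpSnd z' y₀) hℓ₂
      (repByAlgSpWith_fpSnd _ z' y₀ hsurj')
  have hcov : AlgSp.IsFppfCover (fun _ : PUnit.{u + 1} => (AlgSp.yon S).obj V₂)
      (fun _ => (AlgSp.yon S).map v) := by
    refine isFppfCover_of_schemes (fun _ : PUnit.{u + 1} => V₂) (fun _ => v)
      (fun _ => AlgSp.locP_yon_map (prop_yon_map_of_repByAlgSpWith _ bcStable_flat v hv₁))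
      (fun _ => AlgSp.locP_yon_map (prop_yon_map_of_repByAlgSpWith _ bcStable_lfp v hv₂))
      (fun p => ⟨PUnit.unit, ?_⟩)
    exact surjective_of_isSurjectiveMor_yon_map v
      (prop_yon_map_of_repByAlgSpWith _ bcStable_isSurjectiveMor v hv₃) p
  -- representing spaces over `V` and over `V₂`
  obtain ⟨F_V, e_V, he_V⟩ := hφ V y₀
  let c₂ : FibCat.overCat V₂ ⥤ᵇ 𝒴 := BasedFunctor.comp (AlgSt.overMap v) y₀
  obtain ⟨F₂, e₂, he₂⟩ := hφ V₂ c₂
  obtain ⟨q, sq⟩ := exists_isPullback_baseChange φ y₀ F_V.obj e_V he_V v c₂ (Iso.refl _) F₂.obj e₂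
    he₂
  -- `P` over `V₂`, from the chart `V₂ ⟶ 𝒵`
  have h_fpzφ : AlgSt.IsAlgStack Scheme.fppfPrecoverage (FibCat.fp z φ) :=
    isAlgStack_fp_of_isPrestack hpre𝒴 h𝒴.diag h𝒵 hU z φ
  have h_fpzf : AlgSt.IsAlgStack Scheme.fppfPrecoverage (FibCat.fp z f) :=
    isAlgStack_fp_of_isPrestack hpre𝒴 h𝒴.diag h𝒵 h𝒳 z f
  let ψ : FibCat.fp z φ ⥤ᵇ 𝒵 := FibCat.fpFst z φ
  have hLψ : AlgSt.LocQ P ψ :=
    locQ_precomp_smooth' P hP h_fpzφ h_fpzf.isStack.1 (FibCat.fpFst z f) hL (mapRight z x f)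
      (repByAlgSpWith_mapRight _ z x f hx₁)
  let τ : FibCat.overCat V₂ ⥤ᵇ 𝒵 := BasedFunctor.comp t xZ
  have hτ : AlgSt.RepByAlgSpWith (AlgSp.LocP @Smooth) τ :=
    repByAlgSpWith_comp_of_compCond hV₂f hW₀f _ compCond_smooth t xZ (ht₁ hy₁) hxZ₁
  have iY := IsEquivOver.isEquivalence (BasedFunctor.id 𝒴) (isEquivOver_id _)
  let Θ : FibCat.fp c₂ φ ⥤ᵇ FibCat.fp (BasedFunctor.comp τ z) φ :=
    fpMap (BasedFunctor.comp τ z) φ c₂ φ (BasedFunctor.id _) (BasedFunctor.id _)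
      (BasedFunctor.id _) β.symm (Iso.refl _)
  have hΘ : FibCat.IsEquivOver Θ :=
    isEquivOver_fpMap (BasedFunctor.comp τ z) φ c₂ φ (BasedFunctor.id _)
      (BasedFunctor.id _) (BasedFunctor.id _) β.symm (Iso.refl _) (isEquivOver_id _)
      (isEquivOver_id _)
  obtain ⟨I, hI, -, ⟨ρ⟩⟩ := IsEquivOver.exists_inverse_isEquivOver' (pasteL φ z τ)
    (isEquivOver_pasteL φ z τ)
  let e₃ : AlgSt.ofSp F₂.obj ⥤ᵇ FibCat.fp τ ψ := BasedFunctor.comp (BasedFunctor.comp e₂ Θ) I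
  have he₃ : FibCat.IsEquivOver e₃ :=
    IsEquivOver.comp _ _ (IsEquivOver.comp _ _ he₂ hΘ) hI
  have hP₃ : P (AlgSt.spMapOfOver (BasedFunctor.comp e₃ (FibCat.fpFst τ ψ))) :=
    prop_atlas_of_locQ P hP h_fpzφ h𝒵 ψ hLψ τ hτ F₂ e₃ he₃
  have hP₂' : P (AlgSt.spMapOfOver (BasedFunctor.comp e₂ (FibCat.fpFst c₂ φ))) := by
    have := spMapOfOver_eq_of_iso (BasedFunctor.comp e₃ (FibCat.fpFst τ ψ))
      (BasedFunctor.comp e₂ (FibCat.fpFst c₂ φ))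
      (whiskerLeftIso (BasedFunctor.comp e₂ Θ)
        (whiskerRightIso ρ (FibCat.fpFst (BasedFunctor.comp τ z) φ)))
    rwa [this] at hP₃
  -- descend to `V`
  have hPV : P (AlgSt.spMapOfOver (BasedFunctor.comp e_V (FibCat.fpFst y₀ φ))) :=
    (hP₂ (fun _ : PUnit.{u + 1} => (AlgSp.yon S).obj V₂) (fun _ => (AlgSp.yon S).map v)
      (AlgSp.IsAlgSpace.yon_obj V) (fun _ => AlgSp.IsAlgSpace.yon_obj V₂) hcov
      (AlgSt.spMapOfOver (BasedFunctor.comp e_V (FibCat.fpFst y₀ φ))) F_V.property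
      (fun _ => F₂.obj) (fun _ => AlgSt.spMapOfOver (BasedFunctor.comp e₂ (FibCat.fpFst c₂ φ)))
      (fun _ => q) (fun _ => F₂.property) (fun _ => sq)).2 (fun _ => hP₂')
  -- the space square for `φ`
  have hLφ : AlgSt.LocQ P φ := by
    have hF : FibCat.IsFibGrpd (AlgSt.ofSp F_V.obj).p := (isFibSetoid_ofPsh F_V.obj.obj).1
    have hV' : FibCat.IsFibGrpd (AlgSt.ofSch V).p :=
      (isFibSetoid_ofPsh ((AlgSp.yon S).obj V).obj).1
    have hfpy : FibCat.IsFibGrpd (FibCat.fp y₀ φ).p := isFibGrpd_fp y₀ φ hVf hUf h𝒴.isStack.1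
    have hcx := chart_precomp_equiv hF hfpy e_V he_V (FibCat.fpSnd y₀ φ)
    have hcy := chart_precomp_equiv hV' hVf (AlgSt.toOverCat V) (isEquivOver_toOverCat V) y₀
    let VV : AlgSp.Space S := ⟨(AlgSp.yon S).obj V, AlgSp.IsAlgSpace.yon_obj V⟩
    let hh : F_V ⟶ VV :=
      ObjectProperty.homMk (AlgSt.spMapOfOver (BasedFunctor.comp e_V (FibCat.fpFst y₀ φ)))
    refine locQ_of_space_square P hP φ F_V VV (BasedFunctor.comp e_V (FibCat.fpSnd y₀ φ))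
      (BasedFunctor.comp (AlgSt.toOverCat V) y₀) hh ?_
      (hcx.1 (repByAlgSpWith_fpSnd _ y₀ φ hy₁)) (hcx.2 (repByAlgSpWith_fpSnd _ y₀ φ hy₂))
      (hcy.1 hy₁) hPV
    exact (whiskerLeftIso e_V (FibCat.fpIso y₀ φ).symm :
        BasedFunctor.comp (BasedFunctor.comp e_V (FibCat.fpSnd y₀ φ)) φ ≅
          BasedFunctor.comp (BasedFunctor.comp e_V (FibCat.fpFst y₀ φ)) y₀) ≪≫
      whiskerRightIso (isoSpMap (BasedFunctor.comp e_V (FibCat.fpFst y₀ φ)) _ rfl) y₀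
  exact locQ_of_precomp_cover P f x hx₁ hx₂ hLφ

end Main

end Groth.Agent.Lib.Helper8LocQFppf
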