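-- helper8: LocQ invariance under iso, base change for the second projection, flat descent along a flat surjective functor (S13003)
import Mathlib
import Groth.Agent.Lib.Helper15GoodComp
import Groth.Agent.Lib.Helper8LocQFppf
import Groth.Agent.Lib.Helper8LocQCancel

set_option autoImplicit false
set_option backward.isDefEq.respectTransparency false
set_option backward.isDefEq.respectTransparency.types false
open CategoryTheory CategoryTheory.Functor CategoryTheory.Limits Opposite AlgebraicGeometry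

universe u

namespace Groth.Agent.Lib.Helper8LocQFlat

open Groth.Agent.Lib.Helper17 Groth.Agent.Lib.Helper15PshFib Groth.Agent.Lib.Helper15RepComp
  Groth.Agent.Lib.Helper15RepPsh Groth.Agent.Lib.Helper15DiagBase Groth.Agent.Lib.Helper15DiagRepSp
  Groth.Agent.Lib.Helper15Descent Groth.Agent.Lib.Helper15DiagLft
  Groth.Agent.Lib.Helper15DiagDescent Groth.Agent.Lib.Helper15SpMapRep
  Groth.Agent.Lib.Helper15SrcCancel Groth.Agent.Lib.Helper15ChartSp Groth.Agent.Lib.Helper15Atlas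
  Groth.Agent.Lib.Helper15LocEss Groth.Agent.Lib.Helper15UnivComp Groth.Agent.Lib.Helper15SmLoc
  Groth.Agent.Lib.Helper15PtsComp Groth.Agent.Lib.Helper15PtsTop Groth.Agent.Lib.Helper15PtsQc
  Groth.Agent.Lib.Helper15FpSwap Groth.Agent.Lib.Helper15QcLocal Groth.Agent.Lib.Helper15ClosedQc
  Groth.Agent.Lib.Helper15UnivPts Groth.Agent.Lib.Helper15BaseChange
  Groth.Agent.Lib.Helper15MonoSep Groth.Agent.Lib.Helper15LocQ Groth.Agent.Lib.Helper15LocQEngine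
  Groth.Agent.Lib.Helper15LocQProps Groth.Agent.Lib.Helper15LocQSpace
  Groth.Agent.Lib.Helper15LocQSpace2 Groth.Agent.Lib.Helper15LocQRep
  Groth.Agent.Lib.Helper15LocQComp Groth.Agent.Lib.Helper15GoodComp
  Groth.Agent.Lib.Helper8DiagCancel

open Groth.Agent.Lib.Helper8LocQBase Groth.Agent.Lib.Helper8LocQFppf
  Groth.Agent.Lib.Helper8LocQCancel

variable {S : Scheme.{u}} {𝒳 𝒴 𝒵 : AlgSt.Cat S}

/-- `LocQ P` is invariant under 2-isomorphism. -/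
theorem locQ_of_iso (P : MorphismProperty (AlgSp.Sp S)) {f f' : 𝒳 ⥤ᵇ 𝒴} (i : f ≅ f')
    (hf : AlgSt.LocQ P f) : AlgSt.LocQ P f' := by
  obtain ⟨U, V, x, y, h, α, hx₁, hx₂, hy₁, hPh⟩ := hf
  exact ⟨U, V, x, y, h, (whiskerLeftIso x i).symm ≪≫ α, hx₁, hx₂, hy₁, hPh⟩

/-- The second projection of a 2-fibre product has `LocQ P` when the first functor does. -/
theorem locQ_fpSnd (P : MorphismProperty (AlgSp.Sp S)) (hP : AlgSp.IsSmoothLocalST P)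
    (hPb : BCStable P)
    (h𝒳 : AlgSt.IsAlgStack Scheme.fppfPrecoverage 𝒳)
    (h𝒴 : AlgSt.IsAlgStack Scheme.fppfPrecoverage 𝒴)
    (h𝒵 : AlgSt.IsAlgStack Scheme.fppfPrecoverage 𝒵)
    (z : 𝒵 ⥤ᵇ 𝒴) (f : 𝒳 ⥤ᵇ 𝒴) (hz : AlgSt.LocQ P z) : AlgSt.LocQ P (FibCat.fpSnd z f) := by
  have hpre𝒴 := IsStack.isPrestack _ h𝒴.isStack
  have h1 : AlgSt.LocQ P (FibCat.fpFst f z) := locQ_fpFst P hP hPb h𝒵 h𝒴 h𝒳 z f hz
  have hfp : AlgSt.IsAlgStack Scheme.fppfPrecoverage (FibCat.fp z f) :=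
    isAlgStack_fp_of_isPrestack hpre𝒴 h𝒴.diag h𝒵 h𝒳 z f
  have hfp' : AlgSt.IsAlgStack Scheme.fppfPrecoverage (FibCat.fp f z) :=
    isAlgStack_fp_of_isPrestack hpre𝒴 h𝒴.diag h𝒳 h𝒵 f z
  exact locQ_precomp_smooth' P hP hfp hfp'.isStack.1 (FibCat.fpFst f z) h1 (fpSwap z f)
    (Groth.Agent.Lib.Helper15EquivRep.repByAlgSpWith_of_isEquivOver _ locP_smooth_id _
      (isEquivOver_fpSwap z f))

theorem locQ_flat_of_fpFst_of_surjective_flat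
    (h𝒳 : AlgSt.IsAlgStack Scheme.fppfPrecoverage 𝒳)
    (h𝒴 : AlgSt.IsAlgStack Scheme.fppfPrecoverage 𝒴)
    (h𝒵 : AlgSt.IsAlgStack Scheme.fppfPrecoverage 𝒵) (f : 𝒳 ⥤ᵇ 𝒴) (z : 𝒵 ⥤ᵇ 𝒴)
    (hz₁ : AlgSt.LocQ (AlgSp.LocP @Flat) z) (hz₂ : AlgSt.IsSurjective z)
    (hL : AlgSt.LocQ (AlgSp.LocP @Flat) (FibCat.fpFst z f)) :
    AlgSt.LocQ (AlgSp.LocP @Flat) f := by
  have hpre𝒴 := IsStack.isPrestack _ h𝒴.isStack
  have hfp : AlgSt.IsAlgStack Scheme.fppfPrecoverage (FibCat.fp z f) :=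
    isAlgStack_fp_of_isPrestack hpre𝒴 h𝒴.diag h𝒵 h𝒳 z f
  have h1 : AlgSt.LocQ (AlgSp.LocP @Flat) (FibCat.fpSnd z f) :=
    locQ_fpSnd _ isSmoothLocalST_flat bcStable_flat h𝒳 h𝒴 h𝒵 z f hz₁
  have h2 : AlgSt.IsSurjective (FibCat.fpSnd z f) := isSurjective_fpSnd h𝒵 h𝒴 h𝒳 z f hz₂
  have h3 : AlgSt.LocQ (AlgSp.LocP @Flat) (BasedFunctor.comp (FibCat.fpFst z f) z) :=
    locQ_comp _ isSmoothLocalST_flat
      (fun _ _ _ _ hY hZ a b ha hb => locP_flat_comp hY hZ a b ha hb) hfp h𝒵 h𝒴 _ z hL hz₁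
  have h4 : AlgSt.LocQ (AlgSp.LocP @Flat) (BasedFunctor.comp (FibCat.fpSnd z f) f) :=
    locQ_of_iso _ (FibCat.fpIso z f) h3
  exact locQ_flat_of_comp_of_surjective hfp h𝒳 h𝒴 (FibCat.fpSnd z f) f h1 h2 h4

end Groth.Agent.Lib.Helper8LocQFlat
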