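-- helper8: lifting objects along a jointly surjective flat lfp family, fppf locally (S13022)
import Mathlib
import Groth.Agent.Lib.Helper15GoodComp
import Groth.Agent.Lib.Helper8LocQFlat

set_option autoImplicit false
set_option backward.isDefEq.respectTransparency false
set_option backward.isDefEq.respectTransparency.types false
open CategoryTheory CategoryTheory.Functor CategoryTheory.Limits Opposite AlgebraicGeometry

universe u

namespace Groth.Agent.Lib.Helper8FppfLift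

open Groth.Agent.Lib.Helper17 Groth.Agent.Lib.Helper15PshFib Groth.Agent.Lib.Helper15RepComp
  Groth.Agent.Lib.Helper15RepPsh Groth.Agent.Lib.Helper15DiagBase Groth.Agent.Lib.Helper15DiagRepSp
  Groth.Agent.Lib.Helper15Descent Groth.Agent.Lib.Helper15DiagLft
  Groth.Agent.Lib.Helper15DiagDescent Groth.Agent.Lib.Helper15SpMapRep
  Groth.Agent.Lib.Helper15SrcCancel Groth.Agent.Lib.Helper15ChartSp Groth.Agent.Lib.Helper15Atlas
  Groth.Agent.Lib.Helper15LocEss Groth.Agent.Lib.Helper15UnivComp Groth.Agent.Lib.Helper15SmLoc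
  Groth.Agent.Lib.Helper15PtsComp Groth.Agent.Lib.Helper15PtsTop Groth.Agent.Lib.Helper15PtsQc
  Groth.Agent.Lib.Helper15FpSwap Groth.Agent.Lib.Helper15QcLocal Groth.Agent.Lib.Helper15ClosedQc
  Groth.Agent.Lib.Helper15UnivPts Groth.Agent.Lib.Helper15BaseChange
  Groth.Agent.Lib.Helper15MonoSep Groth.Agent.Lib.Helper15LocQ Groth.Agent.Lib.Helper15LocQEngine
  Groth.Agent.Lib.Helper15LocQProps Groth.Agent.Lib.Helper15LocQSpace
  Groth.Agent.Lib.Helper15LocQSpace2 Groth.Agent.Lib.Helper15LocQRep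
  Groth.Agent.Lib.Helper15LocQComp Groth.Agent.Lib.Helper15GoodComp
  Groth.Agent.Lib.Helper8DiagCancel

open Groth.Agent.Lib.Helper8LocQBase Groth.Agent.Lib.Helper8LocQFppf
  Groth.Agent.Lib.Helper8LocQFlat

section Sch

variable {S : Scheme.{u}}

theorem flat_left_of_locQ_overMap {V U : Over S} (g : V ⟶ U)
    (hL : AlgSt.LocQ (AlgSp.LocP @Flat) (AlgSt.overMap g)) : Flat g.left := by
  have hrep : AlgSt.RepByAlgSp1 (AlgSt.overMap g) :=
    repByAlgSp1_of_repByAlgSp1_diag (isAlgStack_overCat U).diag V (AlgSt.overMap g)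
  have hR : AlgSt.RepByAlgSpWith (AlgSp.LocP @Flat) (AlgSt.overMap g) :=
    repByAlgSpWith_of_locQ _ isSmoothLocalST_flat bcStable_flat
      (isLocalOnBase_fppf_of_fpqc _ (Groth.Agent.S10530.result S)) (isAlgStack_overCat V)
      (isAlgStack_overCat U) (AlgSt.overMap g) hrep hL
  exact AlgSp.locP_yon_map (prop_yon_map_of_repByAlgSpWith _ bcStable_flat g hR)

theorem lfp_left_of_locQ_overMap {V U : Over S} (g : V ⟶ U)
    (hL : AlgSt.LocQ (AlgSp.LocP @LocallyOfFinitePresentation) (AlgSt.overMap g)) :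
    LocallyOfFinitePresentation g.left := by
  have hrep : AlgSt.RepByAlgSp1 (AlgSt.overMap g) :=
    repByAlgSp1_of_repByAlgSp1_diag (isAlgStack_overCat U).diag V (AlgSt.overMap g)
  have hR : AlgSt.RepByAlgSpWith (AlgSp.LocP @LocallyOfFinitePresentation) (AlgSt.overMap g) :=
    repByAlgSpWith_of_locQ _ isSmoothLocalST_lfp bcStable_lfp
      (isLocalOnBase_fppf_of_fpqc _ (Groth.Agent.S10527.result S)) (isAlgStack_overCat V)
      (isAlgStack_overCat U) (AlgSt.overMap g) hrep hL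
  exact AlgSp.locP_yon_map (prop_yon_map_of_repByAlgSpWith _ bcStable_lfp g hR)

end Sch

section Main

variable {S : Scheme.{u}} {𝒳 𝒳' : AlgSt.Cat S}

/-- One member of the covering: a scheme chart of `U ×_𝒳 𝒳'`. -/
theorem exists_lift_chart (h𝒳 : AlgSt.IsAlgStack Scheme.fppfPrecoverage 𝒳)
    (h𝒳' : AlgSt.IsAlgStack Scheme.fppfPrecoverage 𝒳') (f : 𝒳' ⥤ᵇ 𝒳)
    (hf₁ : AlgSt.LocQ (AlgSp.LocP @Flat) f)
    (hf₂ : AlgSt.LocQ (AlgSp.LocP @LocallyOfFinitePresentation) f)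
    (U : Over S) (x : FibCat.overCat U ⥤ᵇ 𝒳) :
    ∃ (V : Over S) (g : V ⟶ U) (x' : FibCat.overCat V ⥤ᵇ 𝒳'),
      Nonempty (BasedFunctor.comp x' f ≅ BasedFunctor.comp (AlgSt.overMap g) x) ∧
      Flat g.left ∧ LocallyOfFinitePresentation g.left ∧
      ∀ u : ↥U.left, AlgSt.Points.map x (ptOver U u) ∈ Set.range (AlgSt.Points.map f) →
        u ∈ Set.range g.left := by
  have hpre𝒳 := IsStack.isPrestack _ h𝒳.isStack
  have hU := isAlgStack_overCat U
  have hUf : FibCat.IsFibGrpd (FibCat.overCat U).p := (isFibSet_overForget U).1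
  have h𝒫 : AlgSt.IsAlgStack Scheme.fppfPrecoverage (FibCat.fp x f) :=
    isAlgStack_fp_of_isPrestack hpre𝒳 h𝒳.diag hU h𝒳' x f
  obtain ⟨V, a, ha₁, ha₂⟩ := h𝒫.atlas
  have hV := isAlgStack_overCat V
  obtain ⟨g, ⟨lam⟩⟩ := exists_iso_overMap (BasedFunctor.comp a (FibCat.fpFst x f))
  refine ⟨V, g, BasedFunctor.comp a (FibCat.fpSnd x f), ⟨?_⟩, ?_, ?_, ?_⟩
  · exact (whiskerLeftIso a (FibCat.fpIso x f).symm :
      BasedFunctor.comp (BasedFunctor.comp a (FibCat.fpSnd x f)) f ≅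
        BasedFunctor.comp (BasedFunctor.comp a (FibCat.fpFst x f)) x) ≪≫ whiskerRightIso lam x
  · have h1 : AlgSt.LocQ (AlgSp.LocP @Flat) (FibCat.fpFst x f) :=
      locQ_fpFst _ isSmoothLocalST_flat bcStable_flat h𝒳' h𝒳 hU f x hf₁
    have h2 : AlgSt.LocQ (AlgSp.LocP @Flat) a :=
      locQ_of_repByAlgSpWith _ isSmoothLocalST_flat hV h𝒫 a (flat_of_smooth ha₁)
    have h3 := locQ_comp _ isSmoothLocalST_flat
      (fun _ _ _ _ hY hZ a b ha hb => locP_flat_comp hY hZ a b ha hb) hV h𝒫 hU a _ h2 h1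
    exact flat_left_of_locQ_overMap g (locQ_of_iso _ lam h3)
  · have h1 : AlgSt.LocQ (AlgSp.LocP @LocallyOfFinitePresentation) (FibCat.fpFst x f) :=
      locQ_fpFst _ isSmoothLocalST_lfp bcStable_lfp h𝒳' h𝒳 hU f x hf₂
    have h2 : AlgSt.LocQ (AlgSp.LocP @LocallyOfFinitePresentation) a :=
      locQ_of_repByAlgSpWith _ isSmoothLocalST_lfp hV h𝒫 a (lfp_of_smooth ha₁)
    have h3 := locQ_comp _ isSmoothLocalST_lfp
      (fun _ _ _ _ hY hZ a b ha hb => locP_lfp_comp hY hZ a b ha hb) hV h𝒫 hU a _ h2 h1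
    exact lfp_left_of_locQ_overMap g (locQ_of_iso _ lam h3)
  · rintro u ⟨p, hp⟩
    obtain ⟨w, hw₁, -⟩ := points_fp_surjective h𝒳'.isStack.1 h𝒳.isStack.1 hUf f x (ptOver U u) p
      hp.symm
    have has : AlgSt.IsSurjective a :=
      (isSurjective_iff_repByAlgSpWith hV h𝒫 a (repByAlgSp1_of_repByAlgSpWith _ a ha₁)).2 ha₂
    obtain ⟨v', rfl⟩ := has w
    obtain ⟨v, rfl⟩ := (ptOver_bijective V).2 v'
    refine ⟨v, (ptOver_bijective U).1 ?_⟩
    rw [← ptOver_map, ← hw₁,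
      ← points_map_congr _ _ ((BasedNatTrans.forgetful _ _).mapIso lam) (ptOver V v)]
    exact points_map_comp a (FibCat.fpFst x f) (ptOver V v)

end Main


section Fam

variable {S : Scheme.{u}} {𝒳 : AlgSt.Cat S}

theorem exists_fppf_cover_lifting (h𝒳 : AlgSt.IsAlgStack Scheme.fppfPrecoverage 𝒳)
    (J : Type u) (𝒳' : J → AlgSt.Cat S)
    (h𝒳' : ∀ j, AlgSt.IsAlgStack Scheme.fppfPrecoverage (𝒳' j)) (f : ∀ j, 𝒳' j ⥤ᵇ 𝒳)
    (hf₁ : ∀ j, AlgSt.LocQ (AlgSp.LocP @Flat) (f j))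
    (hf₂ : ∀ j, AlgSt.LocQ (AlgSp.LocP @LocallyOfFinitePresentation) (f j))
    (hf₃ : ∀ p : AlgSt.Points 𝒳, ∃ j, p ∈ Set.range (AlgSt.Points.map (f j)))
    (U : Over S) (x : FibCat.overCat U ⥤ᵇ 𝒳) :
    ∃ (ι : Type u) (V : ι → Over S) (g : ∀ i, V i ⟶ U) (c : ι → J),
      (Presieve.ofArrows (fun i ↦ (V i).left) fun i ↦ (g i).left) ∈
        Scheme.fppfPrecoverage U.left ∧
      ∀ i, ∃ x' : FibCat.overCat (V i) ⥤ᵇ 𝒳' (c i),
        Nonempty (BasedFunctor.comp x' (f (c i)) ≅ BasedFunctor.comp (AlgSt.overMap (g i)) x) := by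
  have H := fun j => exists_lift_chart h𝒳 (h𝒳' j) (f j) (hf₁ j) (hf₂ j) U x
  choose V g x' hiso hfl hfp hsurj using H
  refine ⟨J, V, g, id, ?_, fun j => ⟨x' j, hiso j⟩⟩
  rw [Scheme.fppfPrecoverage, Scheme.ofArrows_mem_precoverage_iff]
  refine ⟨fun u => ?_, fun j => ⟨hfl j, hfp j⟩⟩
  obtain ⟨j, hj⟩ := hf₃ (AlgSt.Points.map x (ptOver U u))
  exact ⟨j, hsurj j u hj⟩

end Fam

end Groth.Agent.Lib.Helper8FppfLift
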