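-- helper8: points in the closure of the image of a quasi-compact morphism of algebraic stacks are
-- witnessed by valuation rings (S13036)
import Mathlib
import Groth.Agent.Lib.Helper15GoodComp
import Groth.Agent.Lib.Helper8LocQFlat
import Groth.Agent.Lib.Helper8FppfLift
import Groth.Agent.Lib.Helper15QcLocal

set_option autoImplicit false
set_option backward.isDefEq.respectTransparency false
set_option backward.isDefEq.respectTransparency.types false
open CategoryTheory CategoryTheory.Functor CategoryTheory.Limits Opposite AlgebraicGeometry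

universe u

namespace Groth.Agent.Lib.Helper8ValClosure

open Groth.Agent.Lib.Helper17 Groth.Agent.Lib.Helper15PshFib Groth.Agent.Lib.Helper15RepComp
  Groth.Agent.Lib.Helper15RepPsh Groth.Agent.Lib.Helper15DiagBase Groth.Agent.Lib.Helper15DiagRepSp
  Groth.Agent.Lib.Helper15Descent Groth.Agent.Lib.Helper15DiagLft
  Groth.Agent.Lib.Helper15DiagDescent Groth.Agent.Lib.Helper15SpMapRep
  Groth.Agent.Lib.Helper15SrcCancel Groth.Agent.Lib.Helper15ChartSp Groth.Agent.Lib.Helper15Atlas
  Groth.Agent.Lib.Helper15LocEss Groth.Agent.Lib.Helper15UnivComp Groth.Agent.Lib.Helper15SmLoc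
  Groth.Agent.Lib.Helper15PtsComp Groth.Agent.Lib.Helper15PtsTop Groth.Agent.Lib.Helper15PtsQc
  Groth.Agent.Lib.Helper15FpSwap Groth.Agent.Lib.Helper15QcLocal Groth.Agent.Lib.Helper15ClosedQc
  Groth.Agent.Lib.Helper15UnivPts Groth.Agent.Lib.Helper15BaseChange
  Groth.Agent.Lib.Helper15MonoSep Groth.Agent.Lib.Helper15LocQ Groth.Agent.Lib.Helper15LocQEngine
  Groth.Agent.Lib.Helper15LocQProps Groth.Agent.Lib.Helper15LocQSpace
  Groth.Agent.Lib.Helper15LocQSpace2 Groth.Agent.Lib.Helper15LocQRep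
  Groth.Agent.Lib.Helper15LocQComp Groth.Agent.Lib.Helper15GoodComp
  Groth.Agent.Lib.Helper8DiagCancel

open Groth.Agent.Lib.Helper8LocQBase Groth.Agent.Lib.Helper8LocQFppf
  Groth.Agent.Lib.Helper8LocQFlat Groth.Agent.Lib.Helper8FppfLift

section Alg

theorem exists_comap_specializes_of_mem_closure {R B : Type u} [CommRing R] [CommRing B]
    (f : R →+* B) (x : PrimeSpectrum R)
    (hx : x ∈ closure (Set.range (PrimeSpectrum.comap f))) :
    ∃ p' : PrimeSpectrum B, (p'.asIdeal.comap f) ≤ x.asIdeal := by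
  rw [PrimeSpectrum.closure_range_comap] at hx
  have hx' : (⊥ : Ideal B).comap f ≤ x.asIdeal := by
    rw [← RingHom.ker_eq_comap_bot]; exact hx
  obtain ⟨q, hq₁, hq₂⟩ := Ideal.exists_minimalPrimes_le hx'
  obtain ⟨p', hp', -, rfl⟩ := Ideal.exists_comap_eq_of_mem_minimalPrimes f _ hq₁
  exact ⟨⟨p', hp'⟩, hq₂⟩

/-- A point in the closure of the image of a morphism of affine schemes is the image of the closed
point of a valuation ring whose generic point lifts. -/
theorem exists_valuationRing_of_mem_closure_range {R B : CommRingCat.{u}} (g : Spec B ⟶ Spec R)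
    (y₀ : Spec R) (h : y₀ ∈ closure (Set.range g)) :
    ∃ (A : Type u) (_ : CommRing A) (_ : IsDomain A) (_ : ValuationRing A)
      (a : Spec (CommRingCat.of A) ⟶ Spec R) (x : Spec (CommRingCat.of (FractionRing A)) ⟶ Spec B),
      x ≫ g = Spec.map (CommRingCat.ofHom (algebraMap A (FractionRing A))) ≫ a ∧
      a (IsLocalRing.closedPoint A) = y₀ := by
  let φ : R ⟶ B := Spec.preimage g
  have hφ : Spec.map φ = g := Spec.map_preimage g
  have h' : y₀ ∈ closure (Set.range (PrimeSpectrum.comap φ.hom)) := by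
    rw [← hφ] at h; exact h
  obtain ⟨p', hp'⟩ := exists_comap_specializes_of_mem_closure φ.hom y₀ h'
  let P : Ideal R := y₀.asIdeal
  have hPprime : P.IsPrime := y₀.isPrime
  let K := FractionRing (B ⧸ p'.asIdeal)
  let RP := Localization.AtPrime P
  let f0 : R →+* K := ((algebraMap (B ⧸ p'.asIdeal) K).comp (Ideal.Quotient.mk p'.asIdeal)).comp φ.hom
  have hf0 : ∀ y : P.primeCompl, IsUnit (f0 y) := fun y => by
    have h1 : Ideal.Quotient.mk p'.asIdeal (φ.hom y.1) ≠ 0 := fun h =>
      y.2 (hp' (show φ.hom y.1 ∈ p'.asIdeal from Ideal.Quotient.eq_zero_iff_mem.1 h))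
    exact IsUnit.mk0 _ ((map_ne_zero_iff _ (IsFractionRing.injective (B ⧸ p'.asIdeal) K)).2 h1)
  let f : RP →+* K := IsLocalization.lift hf0
  obtain ⟨A, hA, hloc⟩ := IsLocalRing.exists_factor_valuationRing f
  let ρ : R →+* A := (f.codRestrict A.toSubring hA).comp (algebraMap R RP)
  let e : FractionRing A ≃ₐ[A] K := FractionRing.algEquiv A K
  let β : B →+* FractionRing A :=
    (e.symm : K →+* FractionRing A).comp
      ((algebraMap (B ⧸ p'.asIdeal) K).comp (Ideal.Quotient.mk p'.asIdeal))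
  refine ⟨A, inferInstance, inferInstance, inferInstance, Spec.map (CommRingCat.ofHom ρ),
    Spec.map (CommRingCat.ofHom β), ?_, ?_⟩
  · rw [← hφ, ← Spec.map_comp, ← Spec.map_comp]
    congr 1
    ext r
    change e.symm (f0 r) = algebraMap A (FractionRing A) (ρ r)
    have h1 : algebraMap A K (ρ r) = f0 r := by
      change f (algebraMap R RP r) = f0 r
      exact IsLocalization.lift_eq hf0 r
    rw [← h1, AlgEquiv.symm_apply_eq]
    exact (e.commutes (ρ r)).symm
  · have h1 : PrimeSpectrum.comap (f.codRestrict A.toSubring hA) (IsLocalRing.closedPoint A) =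
        IsLocalRing.closedPoint RP :=
      IsLocalRing.comap_closedPoint (S := A) (f.codRestrict A.toSubring hA)
    change PrimeSpectrum.comap ρ (IsLocalRing.closedPoint A) = y₀
    change PrimeSpectrum.comap (algebraMap R RP)
      (PrimeSpectrum.comap (f.codRestrict A.toSubring hA) (IsLocalRing.closedPoint A)) = y₀
    rw [h1]
    ext1
    exact IsLocalization.AtPrime.under_maximalIdeal RP P

end Alg

section Main

variable {S : Scheme.{u}} {𝒳 𝒴 : AlgSt.Cat S}

/-- S13036 -/
theorem exists_valuationRing_witness (h𝒳 : AlgSt.IsAlgStack Scheme.fppfPrecoverage 𝒳)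
    (h𝒴 : AlgSt.IsAlgStack Scheme.fppfPrecoverage 𝒴) (f : 𝒳 ⥤ᵇ 𝒴)
    (hf : AlgSt.IsQuasiCompactMor Scheme.fppfPrecoverage f)
    (y : AlgSt.Points 𝒴) (hy : y ∈ closure (Set.range (AlgSt.Points.map f))) :
    ∃ (A : Type u) (_ : CommRing A) (_ : IsDomain A) (_ : ValuationRing A)
      (sA : Spec (CommRingCat.of A) ⟶ S)
      (a : FibCat.overCat (Over.mk sA) ⥤ᵇ 𝒴)
      (x : FibCat.overCat (Over.mk (Spec.map (CommRingCat.ofHom (algebraMap A (FractionRing A))) ≫
        sA)) ⥤ᵇ 𝒳),
      Nonempty (BasedFunctor.comp x f ≅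
        BasedFunctor.comp (AlgSt.overMap (Over.homMk (Spec.map (CommRingCat.ofHom
          (algebraMap A (FractionRing A)))) rfl :
          Over.mk (Spec.map (CommRingCat.ofHom (algebraMap A (FractionRing A))) ≫ sA) ⟶
            Over.mk sA)) a) ∧
      AlgSt.Points.ofChart a (IsLocalRing.closedPoint A) = y := by
  have hpre𝒴 := IsStack.isPrestack _ h𝒴.isStack
  -- 1. a smooth atlas of the target and a point over `y`
  obtain ⟨V, c, hc₁, hc₂⟩ := h𝒴.atlas
  have hV := isAlgStack_overCat V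
  have hcs : AlgSt.IsSurjective c :=
    (isSurjective_iff_repByAlgSpWith hV h𝒴 c (repByAlgSp1_of_repByAlgSpWith _ c hc₁)).2 hc₂
  obtain ⟨v', rfl⟩ := hcs y
  obtain ⟨v, rfl⟩ := (ptOver_bijective V).2 v'
  -- 2. an affine open neighbourhood
  let i := V.left.affineOpenCover.idx v
  let B₀ : CommRingCat.{u} := V.left.affineOpenCover.X i
  let ι : Spec B₀ ⟶ V.left := V.left.affineOpenCover.f i
  obtain ⟨v₀, hv₀⟩ := V.left.affineOpenCover.covers v
  let V' : Over S := Over.mk (ι ≫ V.hom)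
  let j : V' ⟶ V := Over.homMk ι rfl
  let c' : FibCat.overCat V' ⥤ᵇ 𝒴 := BasedFunctor.comp (AlgSt.overMap j) c
  have hc'₁ : AlgSt.RepByAlgSpWith (AlgSp.LocP @Smooth) c' :=
    smooth_overMap_comp j (inferInstanceAs (Etale ι)) c hc₁
  have hV' := isAlgStack_overCat V'
  have hV'f : FibCat.IsFibGrpd (FibCat.overCat V').p := (isFibSet_overForget V').1
  have hqV' : AlgSt.IsQuasiCompact (FibCat.overCat V') :=
    isQuasiCompact_overCat V' (inferInstanceAs (IsAffine (Spec B₀)))
  -- 3. an affine chart of the fibre product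
  obtain ⟨U, u, hU, hu₁, hu₂⟩ := hf (FibCat.overCat V') hV' hqV' c'
  have h𝒫 : AlgSt.IsAlgStack Scheme.fppfPrecoverage (FibCat.fp c' f) :=
    isAlgStack_fp_of_isPrestack hpre𝒴 h𝒴.diag hV' h𝒳 c' f
  have hUst := isAlgStack_overCat U
  obtain ⟨g, ⟨lam⟩⟩ := exists_iso_overMap (BasedFunctor.comp u (FibCat.fpFst c' f))
  let x₀ : FibCat.overCat U ⥤ᵇ 𝒳 := BasedFunctor.comp u (FibCat.fpSnd c' f)
  let α : BasedFunctor.comp x₀ f ≅ BasedFunctor.comp (AlgSt.overMap g) c' :=
    (whiskerLeftIso u (FibCat.fpIso c' f).symm :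
      BasedFunctor.comp (BasedFunctor.comp u (FibCat.fpSnd c' f)) f ≅
        BasedFunctor.comp (BasedFunctor.comp u (FibCat.fpFst c' f)) c') ≪≫ whiskerRightIso lam c'
  -- 4. the point lies in the closure of the image of the chart
  have hcl : v₀ ∈ closure (Set.range g.left) := by
    rw [mem_closure_iff]
    intro O hO hvO
    have hopen : IsOpen (AlgSt.Points.ofChart c' '' O) :=
      isOpenMap_ofChart h𝒴 c' (flat_of_smooth hc'₁) (lfp_of_smooth hc'₁) O hO
    have hyO : AlgSt.Points.map c (ptOver V v) ∈ AlgSt.Points.ofChart c' '' O := by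
      refine ⟨v₀, hvO, ?_⟩
      rw [ofChart_overMap, ← ofChart_eq_map_ptOver]
      exact congrArg _ hv₀
    obtain ⟨_, ⟨o, hoO, rfl⟩, ⟨p, hp⟩⟩ := mem_closure_iff.1 hy _ hopen hyO
    rw [ofChart_eq_map_ptOver] at hp
    obtain ⟨w, hw₁, -⟩ := points_fp_surjective h𝒳.isStack.1 h𝒴.isStack.1 hV'f f c' (ptOver V' o) p
      hp.symm
    have hus : AlgSt.IsSurjective u :=
      (isSurjective_iff_repByAlgSpWith hUst h𝒫 u (repByAlgSp1_of_repByAlgSpWith _ u hu₁)).2 hu₂
    obtain ⟨t', rfl⟩ := hus w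
    obtain ⟨t, rfl⟩ := (ptOver_bijective U).2 t'
    refine ⟨o, hoO, t, (ptOver_bijective V').1 ?_⟩
    rw [← ptOver_map, ← hw₁,
      ← points_map_congr _ _ ((BasedNatTrans.forgetful _ _).mapIso lam) (ptOver U t)]
    exact points_map_comp u (FibCat.fpFst c' f) (ptOver U t)
  -- 5. replace the affine chart by a spectrum
  have : IsAffine U.left := hU
  let e : Spec Γ(U.left, ⊤) ≅ U.left := U.left.isoSpec.symm
  let U'' : Over S := Over.mk (e.hom ≫ U.hom)
  let k : U'' ⟶ U := Over.homMk e.hom rfl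
  let g'' : U'' ⟶ V' := k ≫ g
  have hcl'' : v₀ ∈ closure (Set.range g''.left) := by
    have h1 : Set.range g''.left = Set.range g.left := by
      change Set.range (e.hom ≫ g.left) = _
      rw [Scheme.Hom.comp_base, TopCat.coe_comp]
      exact Function.Surjective.range_comp (f := e.hom) e.hom.surjective _
    rw [h1]
    exact hcl
  -- 6. the valuation ring
  obtain ⟨A, i1, i2, i3, a₀, x₁, hsq, hcp⟩ :=
    exists_valuationRing_of_mem_closure_range (R := B₀) (B := Γ(U.left, ⊤)) g''.left v₀ hcl''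
  -- 7. assembling
  let sA : Spec (CommRingCat.of A) ⟶ S := a₀ ≫ V'.hom
  let a₀' : Over.mk sA ⟶ V' := Over.homMk a₀ rfl
  let qA : Over.mk (Spec.map (CommRingCat.ofHom (algebraMap A (FractionRing A))) ≫ sA) ⟶
      Over.mk sA := Over.homMk (Spec.map (CommRingCat.ofHom (algebraMap A (FractionRing A)))) rfl
  have hx₁w : x₁ ≫ U''.hom =
      Spec.map (CommRingCat.ofHom (algebraMap A (FractionRing A))) ≫ sA := by
    have h1 : U''.hom = g''.left ≫ V'.hom := (Over.w g'').symm
    rw [h1, ← Category.assoc, hsq, Category.assoc]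
  let ξ : Over.mk (Spec.map (CommRingCat.ofHom (algebraMap A (FractionRing A))) ≫ sA) ⟶ U'' :=
    Over.homMk x₁ hx₁w
  let m : Over.mk (Spec.map (CommRingCat.ofHom (algebraMap A (FractionRing A))) ≫ sA) ⟶ U := ξ ≫ k
  have hm : m ≫ g = qA ≫ a₀' := by
    ext
    change (x₁ ≫ e.hom) ≫ g.left = _ ≫ a₀
    rw [Category.assoc]
    exact hsq
  refine ⟨A, i1, i2, i3, sA, BasedFunctor.comp (AlgSt.overMap a₀') c',
    BasedFunctor.comp (AlgSt.overMap m) x₀, ⟨?_⟩, ?_⟩
  · exact (whiskerLeftIso (AlgSt.overMap m) α : BasedFunctor.comp (BasedFunctor.comp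
        (AlgSt.overMap m) x₀) f ≅ BasedFunctor.comp (BasedFunctor.comp (AlgSt.overMap m)
          (AlgSt.overMap g)) c') ≪≫ whiskerRightIso (overMapCompIso m g) c' ≪≫
      eqToIso (by rw [hm]) ≪≫ (whiskerRightIso (overMapCompIso qA a₀') c').symm
  · rw [ofChart_overMap, ofChart_overMap, ← ofChart_eq_map_ptOver]
    change AlgSt.Points.ofChart c (ι (a₀ (IsLocalRing.closedPoint A))) = _
    rw [hcp, hv₀]

end Main

end Groth.Agent.Lib.Helper8ValClosure
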