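import Mathlib
import Groth.Agent.Lib.Helper8ValClosure
import Groth.Agent.Lib.Helper4DVRSch
import Groth.Agent.Lib.Helper4DVREx

/-!
# Discrete valuation rings witnessing points in the closure of the image of a morphism of finite
type to a locally Noetherian scheme (helper5)
-/

set_option autoImplicit false
set_option linter.style.haveILetI false

universe u
open CategoryTheory CategoryTheory.Limits AlgebraicGeometry Opposite

namespace Groth.Agent.Lib.H5bDvrClosure

open Groth.Agent.Lib.Helper4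

/-- a point of the source gives a trivial discrete valuation ring witness. -/
lemma exists_dvr_of_mem_range {W₀ U : Scheme.{u}} (a₀ : W₀ ⟶ U) (w : W₀) :
    ∃ (A : Type u) (_ : CommRing A) (_ : IsDomain A) (_ : IsDiscreteValuationRing A)
      (a : Spec (CommRingCat.of A) ⟶ U) (x : Spec (CommRingCat.of (FractionRing A)) ⟶ W₀),
      x ≫ a₀ = Spec.map (CommRingCat.ofHom (algebraMap A (FractionRing A))) ≫ a ∧
      a (IsLocalRing.closedPoint A) = a₀ w := by
  let k := W₀.residueField w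
  let ι : k ⟶ CommRingCat.of (PowerSeries k) := CommRingCat.ofHom (PowerSeries.C (R := k))
  refine ⟨PowerSeries k, inferInstance, inferInstance, inferInstance,
    Spec.map ι ≫ W₀.fromSpecResidueField w ≫ a₀,
    Spec.map (CommRingCat.ofHom (algebraMap (PowerSeries k) (FractionRing (PowerSeries k)))) ≫
      Spec.map ι ≫ W₀.fromSpecResidueField w, ?_, ?_⟩
  · simp only [Category.assoc]
  · rw [Scheme.Hom.comp_apply, Scheme.Hom.comp_apply, Scheme.fromSpecResidueField_apply]

/-- the scheme-level discrete valuation ring witness. -/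
theorem exists_dvr_of_ker_le {W₀ U : Scheme.{u}} [IsAffine W₀] [IsLocallyNoetherian U]
    (a₀ : W₀ ⟶ U) [LocallyOfFiniteType a₀] (V : U.affineOpens)
    (hr : Set.range a₀ ⊆ V.1) (u : U) (huV : u ∈ V.1)
    (hker : u ∈ U.zeroLocus (U := V.1) (RingHom.ker (a₀.app V.1).hom : Set Γ(U, V.1))) :
    ∃ (A : Type u) (_ : CommRing A) (_ : IsDomain A) (_ : IsDiscreteValuationRing A)
      (a : Spec (CommRingCat.of A) ⟶ U) (x : Spec (CommRingCat.of (FractionRing A)) ⟶ W₀),
      x ≫ a₀ = Spec.map (CommRingCat.ofHom (algebraMap A (FractionRing A))) ≫ a ∧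
      a (IsLocalRing.closedPoint A) = u := by
  have hle : (⊤ : W₀.Opens) ≤ a₀ ⁻¹ᵁ V.1 := fun w _ => hr ⟨w, rfl⟩
  let ψ : Γ(U, V.1) ⟶ Γ(W₀, ⊤) := a₀.appLE V.1 ⊤ hle
  have hfac : Spec.map ψ ≫ V.2.fromSpec = (isAffineOpen_top W₀).fromSpec ≫ a₀ :=
    IsAffineOpen.SpecMap_appLE_fromSpec a₀ V.2 (isAffineOpen_top W₀) hle
  let y₀ : Spec Γ(U, V.1) := V.2.primeIdealOf ⟨u, huV⟩
  have hy₀ : V.2.fromSpec y₀ = u := V.2.fromSpec_primeIdealOf ⟨u, huV⟩
  have hψ : RingHom.ker ψ.hom ≤ RingHom.ker (a₀.app V.1).hom := by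
    intro t ht
    have h1 : ψ = a₀.app V.1 ≫ W₀.presheaf.map (homOfLE hle).op := rfl
    have h2 : W₀.presheaf.map (homOfLE hle).op ≫
        W₀.presheaf.map (homOfLE (le_top : a₀ ⁻¹ᵁ V.1 ≤ ⊤)).op = 𝟙 _ := by
      rw [← CategoryTheory.Functor.map_comp]
      exact W₀.presheaf.map_id _
    rw [RingHom.mem_ker] at ht ⊢
    have h3 : (W₀.presheaf.map (homOfLE hle).op ≫
        W₀.presheaf.map (homOfLE (le_top : a₀ ⁻¹ᵁ V.1 ≤ ⊤)).op).hom
        ((a₀.app V.1).hom t) = 0 := by
      rw [CommRingCat.hom_comp, RingHom.comp_apply]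
      have : (W₀.presheaf.map (homOfLE hle).op).hom ((a₀.app V.1).hom t) = ψ.hom t := by
        rw [h1]; rfl
      rw [this, ht, map_zero]
    rw [h2] at h3
    exact h3
  have hmem : y₀ ∈ closure (Set.range (PrimeSpectrum.comap ψ.hom)) := by
    rw [PrimeSpectrum.closure_range_comap]
    have h2 : y₀ ∈ V.2.fromSpec ⁻¹' U.zeroLocus (U := V.1)
        (RingHom.ker (a₀.app V.1).hom : Set Γ(U, V.1)) := by
      rw [Set.mem_preimage, hy₀]; exact hker
    rw [V.2.fromSpec_preimage_zeroLocus] at h2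
    exact PrimeSpectrum.zeroLocus_anti_mono hψ h2
  obtain ⟨p', hp'⟩ :=
    Groth.Agent.Lib.Helper8ValClosure.exists_comap_specializes_of_mem_closure ψ.hom y₀ hmem
  let w : W₀ := (isAffineOpen_top W₀).fromSpec p'
  have hspec : a₀ w ⤳ u := by
    have h1 : (Spec.map ψ) p' ⤳ y₀ :=
      (PrimeSpectrum.le_iff_specializes (PrimeSpectrum.comap ψ.hom p') y₀).mp hp'
    have h2 := h1.map V.2.fromSpec.continuous
    rw [hy₀, ← Scheme.Hom.comp_apply, hfac, Scheme.Hom.comp_apply] at h2
    exact h2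
  by_cases hne : a₀ w = u
  · rw [← hne]
    exact exists_dvr_of_mem_range a₀ w
  · have hφ : (a₀.residueFieldMap w).hom.EssFiniteType :=
      RingHom.EssFiniteType.residueFieldMap (LocallyOfFiniteType.stalkMap a₀ w)
    obtain ⟨V', hV', g, hg1, hg2⟩ := DVRSch.exists_dvr_hom hspec hne
      (L := W₀.residueField w) (a₀.residueFieldMap w) hφ
    haveI := hV'
    obtain ⟨ab, bb, hab, hba, ha, hb⟩ := DVREx.dvr_bridge V'
    refine ⟨V', inferInstance, inferInstance, inferInstance, g,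
      Spec.map ab ≫ W₀.fromSpecResidueField w, ?_, hg2⟩
    rw [Category.assoc, ← Scheme.Hom.SpecMap_residueFieldMap_fromSpecResidueField, ← hg1,
      ← Category.assoc, ← Spec.map_comp, ha]

end Groth.Agent.Lib.H5bDvrClosure
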