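import Mathlib

set_option autoImplicit false
universe u

namespace Q1

open IsLocalRing

section ArtSub

variable {C : Type u} [CommRing C] [IsLocalRing C]
  {κ K : Type u} [Field κ] [Field K] (ev : C →+* κ) (hev : Function.Surjective ev)
  (f : K →+* κ)

/-- the subring of elements with residue in the subfield -/
def sub0 : Subring C := f.range.comap ev

lemma mem_sub0 (c : C) : c ∈ sub0 ev f ↔ ∃ k, f k = ev c := Iff.rfl

include hev in
lemma ker_ev : RingHom.ker ev = maximalIdeal C := by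
  have : (RingHom.ker ev).IsMaximal := RingHom.ker_isMaximal_of_surjective ev hev
  exact eq_maximalIdeal this

include hev in
lemma max_le_sub0 (c : C) (hc : c ∈ maximalIdeal C) : c ∈ sub0 ev f := by
  rw [← ker_ev ev hev, RingHom.mem_ker] at hc
  exact ⟨0, by rw [map_zero, hc]⟩

lemma isUnit_sub0 (c : sub0 ev f) (hc : IsUnit (c : C)) : IsUnit c := by
  obtain ⟨k, hk⟩ := c.2
  have hne : ev c ≠ 0 := (hc.map ev).ne_zero
  have hk0 : k ≠ 0 := by
    rintro rfl
    rw [map_zero] at hk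
    exact hne hk.symm
  obtain ⟨d, hd⟩ := hc.exists_right_inv
  have hd' : d ∈ sub0 ev f := by
    refine ⟨k⁻¹, ?_⟩
    have : ev c * ev d = 1 := by rw [← map_mul, hd, map_one]
    rw [map_inv₀, hk]
    exact (eq_inv_of_mul_eq_one_right this).symm
  exact IsUnit.of_mul_eq_one (⟨d, hd'⟩ : sub0 ev f) (Subtype.ext hd)

instance isLocalHom_subtype : IsLocalHom (sub0 ev f).subtype :=
  ⟨fun c hc => isUnit_sub0 ev f c hc⟩

instance isLocalRing_sub0 : IsLocalRing (sub0 ev f) := by
  apply IsLocalRing.of_isUnit_or_isUnit_one_sub_self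
  intro c
  rcases IsLocalRing.isUnit_or_isUnit_one_sub_self (c : C) with h | h
  · exact Or.inl (isUnit_sub0 ev f c h)
  · exact Or.inr (isUnit_sub0 ev f (1 - c) h)


section Art

variable [IsArtinianRing C]

lemma mem_max0_iff (c : sub0 ev f) : c ∈ maximalIdeal (sub0 ev f) ↔ (c : C) ∈ maximalIdeal C := by
  rw [← IsLocalRing.maximalIdeal_comap (sub0 ev f).subtype]
  rfl

lemma max0_nilpotent : IsNilpotent (maximalIdeal (sub0 ev f)) := by
  obtain ⟨n, hn⟩ : IsNilpotent (maximalIdeal C) := by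
    have := IsArtinianRing.isNilpotent_jacobson_bot (R := C)
    rwa [IsLocalRing.jacobson_eq_maximalIdeal ⊥ bot_ne_top] at this
  refine ⟨n, ?_⟩
  have h1 : ((maximalIdeal (sub0 ev f)) ^ n).map (sub0 ev f).subtype ≤ (maximalIdeal C) ^ n := by
    rw [Ideal.map_pow]
    apply Ideal.pow_right_mono
    rw [Ideal.map_le_iff_le_comap, IsLocalRing.maximalIdeal_comap]
  rw [hn] at h1
  rw [Ideal.zero_eq_bot, eq_bot_iff]
  intro z hz
  have : (sub0 ev f).subtype z ∈ (⊥ : Ideal C) := h1 (Ideal.mem_map_of_mem _ hz)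
  rw [Ideal.mem_bot] at this ⊢
  exact Subtype.ext this

include hev in
lemma max0_fg (hfin : f.Finite) : (maximalIdeal (sub0 ev f)).FG := by
  classical
  -- generators of the maximal ideal of `C`
  obtain ⟨sx, hsx⟩ : (maximalIdeal C).FG := IsNoetherian.noetherian _
  -- generators of `κ` over `K`
  letI := f.toAlgebra
  have hfin' : Module.Finite K κ := hfin
  obtain ⟨sκ, hsκ⟩ := hfin'.fg_top
  let σ : κ → C := Function.surjInv hev
  have hσ : ∀ w, ev (σ w) = w := Function.surjInv_eq hev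
  have hx_mem : ∀ x ∈ sx, x ∈ maximalIdeal C := fun x hx => hsx ▸ Ideal.subset_span hx
  -- key decomposition of elements of `C`
  have hdec : ∀ c : C, ∃ (d : κ → sub0 ev f) (μ : C), μ ∈ maximalIdeal C ∧
      c = ∑ v ∈ sκ, (d v : C) * σ v + μ := by
    intro c
    have hc : ev c ∈ Submodule.span K (sκ : Set κ) := hsκ ▸ Submodule.mem_top
    obtain ⟨a, -, ha⟩ := Submodule.mem_span_finset.mp hc
    have ha' : ∑ v ∈ sκ, f (a v) * v = ev c := by
      rw [← ha]
      refine Finset.sum_congr rfl fun v _ => ?_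
      rw [Algebra.smul_def, RingHom.algebraMap_toAlgebra]
    refine ⟨fun v => ⟨σ (f (a v)), ⟨a v, (hσ _).symm⟩⟩, c - ∑ v ∈ sκ, σ (f (a v)) * σ v, ?_, ?_⟩
    · rw [← ker_ev ev hev, RingHom.mem_ker, map_sub, map_sum, sub_eq_zero, ← ha']
      refine (Finset.sum_congr rfl fun v _ => ?_).symm
      rw [map_mul, hσ, hσ]
    · simp
  choose d μ hμ hc using hdec
  -- the finitely many generators
  let g : κ × C → sub0 ev f := fun q =>
    if h : q.2 ∈ maximalIdeal C then
      ⟨σ q.1 * q.2, max_le_sub0 ev hev f _ (Ideal.mul_mem_left _ _ h)⟩ else 0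
  have hg : ∀ v x, x ∈ maximalIdeal C → ((g (v, x) : sub0 ev f) : C) = σ v * x := by
    intro v x hx
    simp only [g, dif_pos hx]
  have hgm : ∀ q, g q ∈ maximalIdeal (sub0 ev f) := by
    intro q
    by_cases h : q.2 ∈ maximalIdeal C
    · rw [mem_max0_iff]
      simp only [g, dif_pos h]
      exact Ideal.mul_mem_left _ _ h
    · simp only [g, dif_neg h]
      exact Ideal.zero_mem _
  let G : Finset (sub0 ev f) := (sκ ×ˢ sx).image g
  set I₀ : Ideal (sub0 ev f) := Ideal.span (G : Set (sub0 ev f)) with hI₀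
  set m₀ := maximalIdeal (sub0 ev f) with hm₀
  have hI₀m : I₀ ≤ m₀ := by
    rw [hI₀, Ideal.span_le]
    intro z hz
    obtain ⟨q, -, rfl⟩ := Finset.mem_image.mp hz
    exact hgm q
  -- key step
  have key : m₀ ≤ I₀ ⊔ m₀ * m₀ := by
    intro e₀ he₀
    have he : (e₀ : C) ∈ Ideal.span (sx : Set C) := by
      rw [hsx]
      exact (mem_max0_iff ev f e₀).mp he₀
    obtain ⟨c, -, hce⟩ := Submodule.mem_span_finset.mp he
    let xm : C → sub0 ev f := fun x =>
      if h : x ∈ maximalIdeal C then ⟨x, max_le_sub0 ev hev f x h⟩ else 0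
    have hxm : ∀ x ∈ sx, ((xm x : sub0 ev f) : C) = x := by
      intro x hx
      simp only [xm, dif_pos (hx_mem x hx)]
    have hxmm : ∀ x, xm x ∈ m₀ := by
      intro x
      by_cases h : x ∈ maximalIdeal C
      · rw [hm₀, mem_max0_iff]
        simp only [xm, dif_pos h]
        exact h
      · simp only [xm, dif_neg h]
        exact Ideal.zero_mem _
    let μ' : C → sub0 ev f := fun x => ⟨μ (c x), max_le_sub0 ev hev f _ (hμ _)⟩
    have hμ'm : ∀ x, μ' x ∈ m₀ := fun x => by
      rw [hm₀, mem_max0_iff]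
      exact hμ _
    let A : sub0 ev f := ∑ x ∈ sx, ∑ v ∈ sκ, d (c x) v * g (v, x)
    let B : sub0 ev f := ∑ x ∈ sx, μ' x * xm x
    have hA : A ∈ I₀ := by
      refine Ideal.sum_mem _ fun x hx => Ideal.sum_mem _ fun v hv => Ideal.mul_mem_left _ _ ?_
      exact Ideal.subset_span (Finset.mem_image_of_mem g (Finset.mk_mem_product hv hx))
    have hB : B ∈ m₀ * m₀ :=
      Ideal.sum_mem _ fun x _ => Ideal.mul_mem_mul (hμ'm x) (hxmm x)
    have hAB : e₀ = A + B := by
      apply Subtype.ext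
      rw [← hce]
      simp only [A, B, Subring.coe_add, AddSubmonoidClass.coe_finsetSum, Subring.coe_mul]
      rw [← Finset.sum_add_distrib]
      refine Finset.sum_congr rfl fun x hx => ?_
      rw [hxm x hx, smul_eq_mul]
      conv_lhs => rw [hc (c x)]
      rw [add_mul, Finset.sum_mul]
      congr 1
      refine Finset.sum_congr rfl fun v _ => ?_
      rw [hg v x (hx_mem x hx), mul_assoc]
    rw [hAB]
    exact Submodule.add_mem_sup hA hB
  -- induction
  have hind : ∀ k : ℕ, m₀ ≤ I₀ ⊔ m₀ ^ (k + 1) := by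
    intro k
    induction k with
    | zero => rw [zero_add, pow_one]; exact le_sup_right
    | succ k ih =>
      have h3 : m₀ ^ (k + 1) ≤ I₀ ⊔ m₀ ^ (k + 1 + 1) := by
        calc m₀ ^ (k + 1) = m₀ ^ k * m₀ := pow_succ _ _
          _ ≤ m₀ ^ k * (I₀ ⊔ m₀ * m₀) := Ideal.mul_mono_right key
          _ = m₀ ^ k * I₀ ⊔ m₀ ^ k * (m₀ * m₀) := Ideal.mul_sup _ _ _
          _ ≤ I₀ ⊔ m₀ ^ (k + 1 + 1) := by
            apply sup_le_sup Ideal.mul_le_right
            rw [pow_succ, pow_succ, mul_assoc]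
      calc m₀ ≤ I₀ ⊔ m₀ ^ (k + 1) := ih
        _ ≤ I₀ ⊔ (I₀ ⊔ m₀ ^ (k + 1 + 1)) := sup_le_sup le_rfl h3
        _ = I₀ ⊔ m₀ ^ (k + 1 + 1) := by rw [← sup_assoc, sup_idem]
  obtain ⟨n, hn⟩ := max0_nilpotent ev f
  have hle : m₀ ≤ I₀ := by
    have h4 : m₀ ^ (n + 1) = ⊥ := by
      rw [pow_succ, hn, Ideal.zero_eq_bot, Ideal.bot_mul]
    have := hind n
    rwa [h4, sup_bot_eq] at this
  have heq : m₀ = I₀ := le_antisymm hle hI₀m
  rw [heq]
  exact ⟨G, rfl⟩

include hev in
theorem isArtinianRing_sub0 (hfin : f.Finite) : IsArtinianRing (sub0 ev f) := by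
  have hN : IsNoetherianRing (sub0 ev f) := by
    apply IsNoetherianRing.of_prime
    intro P hP
    have : P = maximalIdeal (sub0 ev f) := by
      have hle : maximalIdeal (sub0 ev f) ≤ P := by
        intro z hz
        obtain ⟨n, hn⟩ := max0_nilpotent ev f
        have h1 : z ^ n ∈ (maximalIdeal (sub0 ev f)) ^ n := Ideal.pow_mem_pow hz n
        rw [hn] at h1
        have h0 : z ^ n = 0 := h1
        exact hP.mem_of_pow_mem n (h0 ▸ P.zero_mem)
      exact ((IsLocalRing.maximalIdeal.isMaximal _).eq_of_le hP.ne_top hle).symm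
    rw [this]
    exact max0_fg ev hev f hfin
  exact (isArtinianRing_iff_isNilpotent_maximalIdeal _).mpr (max0_nilpotent ev f)

end Art

end ArtSub

end Q1
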