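import Mathlib
import Groth.Agent.Lib.H9ArtLiftA

set_option autoImplicit false
universe u

namespace Q2

open AlgebraicGeometry CategoryTheory IsLocalRing Opposite TopologicalSpace

section Factor

variable {X Y : Scheme.{u}} {R : Type u} [CommRing R] [IsLocalRing R]

lemma le_preimage (f : Spec (CommRingCat.of R) ⟶ X) {W : X.Opens}
    (hfW : f (closedPoint R) ∈ W) : (⊤ : (Spec (CommRingCat.of R)).Opens) ≤ f ⁻¹ᵁ W :=
  (Scheme.preimage_eq_top_of_closedPoint_mem (R := CommRingCat.of R) f hfW).ge

/-- the ring map of a morphism from a local spectrum landing in an affine open -/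
noncomputable def ringOf (f : Spec (CommRingCat.of R) ⟶ X) (W : X.Opens)
    (hfW : f (closedPoint R) ∈ W) : Γ(X, W) ⟶ CommRingCat.of R :=
  f.appLE W ⊤ (le_preimage f hfW) ≫ (Scheme.ΓSpecIso (CommRingCat.of R)).hom

lemma factor (f : Spec (CommRingCat.of R) ⟶ X) {W : X.Opens} (hW : IsAffineOpen W)
    (hfW : f (closedPoint R) ∈ W) :
    Spec.map (ringOf f W hfW) ≫ hW.fromSpec = f := by
  have := IsAffineOpen.SpecMap_appLE_fromSpec f hW (isAffineOpen_top _) (le_preimage f hfW)
  rw [IsAffineOpen.fromSpec_top, Iso.eq_inv_comp, Scheme.isoSpec_Spec_hom] at this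
  rw [ringOf, Spec.map_comp, Category.assoc]
  exact this

lemma ringOf_comp (f : Spec (CommRingCat.of R) ⟶ X) (g : X ⟶ Y) (V : Y.Opens) (W : X.Opens)
    (hWV : W ≤ g ⁻¹ᵁ V) (hfW : f (closedPoint R) ∈ W) (hV : (f ≫ g) (closedPoint R) ∈ V) :
    ringOf (f ≫ g) V hV = g.appLE V W hWV ≫ ringOf f W hfW := by
  rw [ringOf, ringOf, ← Category.assoc, Scheme.Hom.appLE_comp_appLE]

lemma ringOf_SpecMap {R' : Type u} [CommRing R'] [IsLocalRing R'] (φ : R' →+* R)
    (f' : Spec (CommRingCat.of R') ⟶ X) (W : X.Opens) (hf' : f' (closedPoint R') ∈ W)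
    (h : (Spec.map (CommRingCat.ofHom φ) ≫ f') (closedPoint R) ∈ W) :
    ringOf (Spec.map (CommRingCat.ofHom φ) ≫ f') W h = ringOf f' W hf' ≫ CommRingCat.ofHom φ := by
  rw [ringOf, ringOf, Category.assoc, ← Scheme.ΓSpecIso_naturality, ← Category.assoc]
  congr 1

/-- evaluation at the closed point, as a map out of the ring -/
noncomputable def evR (R : Type u) [CommRing R] [IsLocalRing R] :
    CommRingCat.of R ⟶ (Spec (CommRingCat.of R)).residueField (closedPoint R) :=
  (Scheme.ΓSpecIso (CommRingCat.of R)).inv ≫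
    (Spec (CommRingCat.of R)).evaluation ⊤ (closedPoint R) trivial

set_option backward.isDefEq.respectTransparency false in
lemma ringOf_evR (f : Spec (CommRingCat.of R) ⟶ X) (W : X.Opens)
    (hfW : f (closedPoint R) ∈ W) :
    ringOf f W hfW ≫ evR R = X.evaluation W (f (closedPoint R)) hfW ≫
      f.residueFieldMap (closedPoint R) := by
  rw [Scheme.evaluation_naturality, ringOf, evR, Category.assoc, Iso.hom_inv_id_assoc,
    Scheme.Hom.appLE, Category.assoc]
  congr 1
  rw [← Scheme.germ_residue, ← Scheme.germ_residue, ← Category.assoc, TopCat.Presheaf.germ_res]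

set_option backward.isDefEq.respectTransparency false in
lemma evR_surjective (R : Type u) [CommRing R] [IsLocalRing R] :
    Function.Surjective (evR R).hom := by
  have h1 : (Spec (CommRingCat.of R)).presheaf.germ ⊤ (closedPoint R) trivial =
      (Scheme.ΓSpecIso (CommRingCat.of R)).hom ≫ (stalkClosedPointIso (CommRingCat.of R)).inv :=
    (ΓSpecIso_hom_stalkClosedPointIso_inv (CommRingCat.of R)).symm
  have h2 : evR R = (stalkClosedPointIso (CommRingCat.of R)).inv ≫
      (Spec (CommRingCat.of R)).residue (closedPoint R) := by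
    rw [evR, ← Scheme.germ_residue, h1, Category.assoc, Iso.inv_hom_id_assoc]
  rw [h2]
  intro w
  obtain ⟨z, hz⟩ := (Spec (CommRingCat.of R)).residue_surjective (closedPoint R) w
  refine ⟨(stalkClosedPointIso (CommRingCat.of R)).hom z, ?_⟩
  rw [CommRingCat.comp_apply]
  have : (stalkClosedPointIso (CommRingCat.of R)).inv ((stalkClosedPointIso (CommRingCat.of R)).hom z) = z := by
    rw [← CommRingCat.comp_apply, Iso.hom_inv_id]
    rfl
  rw [this, hz]

end Factor

end Q2
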