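import Mathlib
import Groth.Agent.Lib.H9ArtLiftB

set_option autoImplicit false
universe u

namespace Q3

open AlgebraicGeometry CategoryTheory IsLocalRing Opposite TopologicalSpace Q1 Q2

set_option backward.isDefEq.respectTransparency false in
lemma evaluation_surjective_of_eq (R : Type u) [CommRing R] [IsLocalRing R]
    (x : Spec (CommRingCat.of R)) (hx : x = closedPoint R) :
    Function.Surjective ((Spec (CommRingCat.of R)).evaluation ⊤ x trivial).hom := by
  subst hx
  have h : (Spec (CommRingCat.of R)).evaluation ⊤ (closedPoint R) trivial =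
      (Scheme.ΓSpecIso (CommRingCat.of R)).hom ≫ evR R := by
    rw [evR, Iso.hom_inv_id_assoc]
  rw [h]
  intro w
  obtain ⟨r, hr⟩ := evR_surjective R w
  refine ⟨(Scheme.ΓSpecIso (CommRingCat.of R)).inv r, ?_⟩
  rw [CommRingCat.comp_apply]
  have : (Scheme.ΓSpecIso (CommRingCat.of R)).hom ((Scheme.ΓSpecIso (CommRingCat.of R)).inv r) = r := by
    rw [← CommRingCat.comp_apply, Iso.inv_hom_id]
    rfl
  rw [this]
  exact hr

set_option backward.isDefEq.respectTransparency false in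
lemma ringOf_SpecMap_top {R₀ R : Type u} [CommRing R₀] [CommRing R] [IsLocalRing R₀] [IsLocalRing R]
    (ι : R₀ →+* R) :
    ringOf (Spec.map (CommRingCat.ofHom ι)) ⊤ trivial =
      (Scheme.ΓSpecIso (CommRingCat.of R₀)).hom ≫ CommRingCat.ofHom ι := by
  rw [ringOf, ← Scheme.ΓSpecIso_naturality]
  congr 1


set_option backward.isDefEq.respectTransparency false in
lemma surj_res_aux {T : Scheme.{u}} {R₀ R : Type u} [CommRing R₀] [CommRing R] [IsLocalRing R₀]
    [IsLocalRing R] (ι : R₀ →+* R) (a₀ : Spec (CommRingCat.of R₀) ⟶ T)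
    (hcl : (Spec.map (CommRingCat.ofHom ι)) (closedPoint R) = closedPoint R₀)
    (hmem : ∀ c₀ : R₀, (evR R).hom (ι c₀) ∈
      ((Spec.map (CommRingCat.ofHom ι) ≫ a₀).residueFieldMap (closedPoint R)).hom.range) :
    Function.Surjective
      (a₀.residueFieldMap ((Spec.map (CommRingCat.ofHom ι)) (closedPoint R))).hom := by
  set j := Spec.map (CommRingCat.ofHom ι) with hj
  intro w
  obtain ⟨c₀, hc₀⟩ := evaluation_surjective_of_eq R₀ (j (closedPoint R)) hcl w
  have hjev := ringOf_evR j ⊤ trivial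
  rw [ringOf_SpecMap_top ι] at hjev
  have e1 : (j.residueFieldMap (closedPoint R)).hom w =
      (evR R).hom (ι ((Scheme.ΓSpecIso (CommRingCat.of R₀)).hom c₀)) := by
    rw [← hc₀]
    exact (congrArg (fun φ => φ.hom c₀) hjev).symm
  obtain ⟨k, hk⟩ := hmem ((Scheme.ΓSpecIso (CommRingCat.of R₀)).hom c₀)
  rw [← e1, Scheme.residueFieldMap_comp] at hk
  exact ⟨k, (j.residueFieldMap (closedPoint R)).hom.injective hk⟩

lemma surj_res {T : Scheme.{u}} {R₀ R : Type u} [CommRing R₀] [CommRing R] [IsLocalRing R₀]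
    [IsLocalRing R] (ι : R₀ →+* R) (a₀ : Spec (CommRingCat.of R₀) ⟶ T)
    (hcl : (Spec.map (CommRingCat.ofHom ι)) (closedPoint R) = closedPoint R₀)
    (a : Spec (CommRingCat.of R) ⟶ T) (h1 : Spec.map (CommRingCat.ofHom ι) ≫ a₀ = a)
    (hmem : ∀ c₀ : R₀, (evR R).hom (ι c₀) ∈ (a.residueFieldMap (closedPoint R)).hom.range) :
    Function.Surjective (a₀.residueFieldMap (closedPoint R₀)).hom := by
  subst h1
  have key : ∀ x, (Spec.map (CommRingCat.ofHom ι)) (closedPoint R) = x →
      Function.Surjective (a₀.residueFieldMap x).hom := by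
    rintro _ rfl
    exact surj_res_aux ι a₀ hcl hmem
  exact key _ hcl


set_option backward.isDefEq.respectTransparency false in
theorem core {S T : Scheme.{u}} (g : T ⟶ S) (t : T)
    (hT : ∀ (C C' : Type u) [CommRing C] [CommRing C'] [IsLocalRing C] [IsLocalRing C']
        [IsArtinianRing C] [IsArtinianRing C'] (π : C' →+* C), Function.Surjective π →
        ∀ (a : Spec (CommRingCat.of C) ⟶ T) (b : Spec (CommRingCat.of C') ⟶ S),
          a (IsLocalRing.closedPoint C) = t →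
          Function.Surjective (a.residueFieldMap (IsLocalRing.closedPoint C)).hom →
          Spec.map (CommRingCat.ofHom π) ≫ b = a ≫ g →
          ∃ c : Spec (CommRingCat.of C') ⟶ T, Spec.map (CommRingCat.ofHom π) ≫ c = a ∧ c ≫ g = b)
    (C C' : Type u) [CommRing C] [CommRing C'] [IsLocalRing C] [IsLocalRing C']
    [IsArtinianRing C] [IsArtinianRing C'] (π : C' →+* C) (hπ : Function.Surjective π)
    (a : Spec (CommRingCat.of C) ⟶ T) (b : Spec (CommRingCat.of C') ⟶ S)
    (ha : a (IsLocalRing.closedPoint C) = t)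
    (hfin : (a.residueFieldMap (IsLocalRing.closedPoint C)).hom.Finite)
    (hcomm : Spec.map (CommRingCat.ofHom π) ≫ b = a ≫ g) :
    ∃ c : Spec (CommRingCat.of C') ⟶ T, Spec.map (CommRingCat.ofHom π) ≫ c = a ∧ c ≫ g = b := by
  -- notation
  let f := (a.residueFieldMap (closedPoint C)).hom
  let ev : C →+* (Spec (CommRingCat.of C)).residueField (closedPoint C) := (evR C).hom
  have hev : Function.Surjective ev := evR_surjective C
  let ev' : C' →+* (Spec (CommRingCat.of C)).residueField (closedPoint C) := ev.comp π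
  have hev' : Function.Surjective ev' := hev.comp hπ
  have : IsLocalHom π := hπ.isLocalHom
  have hπcl : (Spec.map (CommRingCat.ofHom π)) (closedPoint C) = closedPoint C' :=
    Spec_closedPoint (f := CommRingCat.ofHom π)
  -- affine opens
  obtain ⟨_, ⟨V, hV, rfl⟩, hbV, -⟩ := S.isBasis_affineOpens.exists_subset_of_mem_open
    (Set.mem_univ (b (closedPoint C'))) isOpen_univ
  have hgV : a (closedPoint C) ∈ g ⁻¹ᵁ V := by
    change g (a (closedPoint C)) ∈ V
    have : g (a (closedPoint C)) = b (closedPoint C') := by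
      have h : (Spec.map (CommRingCat.ofHom π) ≫ b) (closedPoint C) = (a ≫ g) (closedPoint C) := by
        rw [hcomm]
      exact h.symm.trans (congrArg b hπcl)
    rw [this]
    exact hbV
  obtain ⟨_, ⟨W, hW, rfl⟩, haW, hWV⟩ := T.isBasis_affineOpens.exists_subset_of_mem_open
    hgV (g ⁻¹ᵁ V).2
  have hWV' : W ≤ g ⁻¹ᵁ V := hWV
  -- ring maps
  let α := ringOf a W haW
  let β := ringOf b V hbV
  have hagV : (a ≫ g) (closedPoint C) ∈ V := hgV
  have hπbV : (Spec.map (CommRingCat.ofHom π) ≫ b) (closedPoint C) ∈ V := by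
    rw [hcomm]; exact hagV
  -- key equation
  have hE : β ≫ CommRingCat.ofHom π = g.appLE V W hWV' ≫ α := by
    have e1 : ringOf (Spec.map (CommRingCat.ofHom π) ≫ b) V hπbV = ringOf (a ≫ g) V hagV := by
      congr 1
    rw [ringOf_SpecMap π b V hbV hπbV, ringOf_comp a g V W hWV' haW hagV] at e1
    exact e1
  -- claim A
  have hA : ∀ τ, α.hom τ ∈ sub0 ev f := by
    intro τ
    refine ⟨T.evaluation W (a (closedPoint C)) haW τ, ?_⟩
    have := ringOf_evR a W haW
    exact (congrArg (fun φ => φ.hom τ) this).symm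
  -- claim B
  have hB : ∀ γ, β.hom γ ∈ sub0 ev' f := by
    intro γ
    have h1 : π (β.hom γ) = α.hom ((g.appLE V W hWV').hom γ) :=
      congrArg (fun φ => φ.hom γ) hE
    obtain ⟨k, hk⟩ := hA ((g.appLE V W hWV').hom γ)
    exact ⟨k, by rw [hk, ← h1]; rfl⟩
  -- the subrings
  have hArt0 : IsArtinianRing (sub0 ev f) := isArtinianRing_sub0 ev hev f hfin
  have hArt0' : IsArtinianRing (sub0 ev' f) := isArtinianRing_sub0 ev' hev' f hfin
  let ι : sub0 ev f →+* C := (sub0 ev f).subtype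
  let ι' : sub0 ev' f →+* C' := (sub0 ev' f).subtype
  let α₀ : Γ(T, W) ⟶ CommRingCat.of (sub0 ev f) :=
    CommRingCat.ofHom (α.hom.codRestrict (sub0 ev f) hA)
  let β₀ : Γ(S, V) ⟶ CommRingCat.of (sub0 ev' f) :=
    CommRingCat.ofHom (β.hom.codRestrict (sub0 ev' f) hB)
  have hα₀ : α₀ ≫ CommRingCat.ofHom ι = α := by
    ext τ; rfl
  have hβ₀ : β₀ ≫ CommRingCat.ofHom ι' = β := by
    ext γ; rfl
  have hπ₀mem : ∀ x ∈ sub0 ev' f, π x ∈ sub0 ev f := fun x hx => hx
  let π₀ : sub0 ev' f →+* sub0 ev f := π.restrict (sub0 ev' f) (sub0 ev f) hπ₀mem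
  have hπ₀ : Function.Surjective π₀ := by
    rintro ⟨c, hc⟩
    obtain ⟨c', rfl⟩ := hπ c
    exact ⟨⟨c', hc⟩, rfl⟩
  have hιπ : ι.comp π₀ = π.comp ι' := by
    ext x; rfl
  -- the morphisms
  let a₀ : Spec (CommRingCat.of (sub0 ev f)) ⟶ T := Spec.map α₀ ≫ hW.fromSpec
  let b₀ : Spec (CommRingCat.of (sub0 ev' f)) ⟶ S := Spec.map β₀ ≫ hV.fromSpec
  have h1 : Spec.map (CommRingCat.ofHom ι) ≫ a₀ = a := by
    calc Spec.map (CommRingCat.ofHom ι) ≫ a₀
        = Spec.map (α₀ ≫ CommRingCat.ofHom ι) ≫ hW.fromSpec := by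
          rw [Spec.map_comp, Category.assoc]
      _ = Spec.map α ≫ hW.fromSpec := by rw [hα₀]
      _ = a := factor a hW haW
  have h2 : Spec.map (CommRingCat.ofHom ι') ≫ b₀ = b := by
    calc Spec.map (CommRingCat.ofHom ι') ≫ b₀
        = Spec.map (β₀ ≫ CommRingCat.ofHom ι') ≫ hV.fromSpec := by
          rw [Spec.map_comp, Category.assoc]
      _ = Spec.map β ≫ hV.fromSpec := by rw [hβ₀]
      _ = b := factor b hV hbV
  have h3 : Spec.map (CommRingCat.ofHom π₀) ≫ b₀ = a₀ ≫ g := by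
    have e1 : β₀ ≫ CommRingCat.ofHom π₀ = g.appLE V W hWV' ≫ α₀ := by
      ext γ
      exact congrArg (fun φ => φ.hom γ) hE
    change Spec.map (CommRingCat.ofHom π₀) ≫ Spec.map β₀ ≫ hV.fromSpec =
      (Spec.map α₀ ≫ hW.fromSpec) ≫ g
    rw [Category.assoc, ← IsAffineOpen.SpecMap_appLE_fromSpec g hV hW hWV', ← Spec.map_comp_assoc,
      ← Spec.map_comp_assoc, e1]
  -- closed point
  have : IsLocalHom (CommRingCat.ofHom ι).hom :=
    inferInstanceAs (IsLocalHom (sub0 ev f).subtype)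
  have hιcl : (Spec.map (CommRingCat.ofHom ι)) (closedPoint C) = closedPoint (sub0 ev f) :=
    Spec_closedPoint (f := CommRingCat.ofHom ι)
  have h4 : a₀ (closedPoint (sub0 ev f)) = t := by
    have e : (Spec.map (CommRingCat.ofHom ι) ≫ a₀) (closedPoint C) = a (closedPoint C) := by
      rw [h1]
    exact ((congrArg a₀ hιcl).symm.trans e).trans ha
  -- residue fields
  have h5 : Function.Surjective (a₀.residueFieldMap (closedPoint (sub0 ev f))).hom :=
    surj_res ι a₀ hιcl a h1 (fun c₀ => c₀.2)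
  obtain ⟨c₀, hc1, hc2⟩ := hT (sub0 ev f) (sub0 ev' f) π₀ hπ₀ a₀ b₀ h4 h5 h3
  refine ⟨Spec.map (CommRingCat.ofHom ι') ≫ c₀, ?_, ?_⟩
  · calc Spec.map (CommRingCat.ofHom π) ≫ Spec.map (CommRingCat.ofHom ι') ≫ c₀
        = Spec.map (CommRingCat.ofHom (π.comp ι')) ≫ c₀ := by
          rw [CommRingCat.ofHom_comp, Spec.map_comp, Category.assoc]
      _ = Spec.map (CommRingCat.ofHom (ι.comp π₀)) ≫ c₀ := by rw [hιπ]
      _ = Spec.map (CommRingCat.ofHom ι) ≫ Spec.map (CommRingCat.ofHom π₀) ≫ c₀ := by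
          rw [CommRingCat.ofHom_comp, Spec.map_comp, Category.assoc]
      _ = a := by rw [hc1, h1]
  · rw [Category.assoc, hc2, h2]

end Q3
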