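import Mathlib
import Groth.Agent.Lib.H9ArtLiftC

set_option autoImplicit false
universe u

namespace Q4

open AlgebraicGeometry CategoryTheory IsLocalRing Opposite TopologicalSpace Q1 Q2 Q3

lemma finite_residueFieldMap {X Y : Scheme.{u}} (f : X ⟶ Y) [FormallyUnramified f]
    [LocallyOfFiniteType f] (x : X) : (f.residueFieldMap x).hom.Finite := by
  algebraize [(f.stalkMap x).hom]
  have : IsLocalHom (algebraMap (Y.presheaf.stalk (f x)) (X.presheaf.stalk x)) :=
    inferInstanceAs <| IsLocalHom (f.stalkMap x).hom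
  have : Algebra.EssFiniteType (Y.presheaf.stalk (f x)) (X.presheaf.stalk x) := by
    rw [← RingHom.essFiniteType_algebraMap, RingHom.algebraMap_toAlgebra]
    exact LocallyOfFiniteType.stalkMap f x
  have : Algebra.FormallyUnramified (Y.presheaf.stalk (f x)) (X.presheaf.stalk x) := by
    rw [← RingHom.formallyUnramified_algebraMap, RingHom.algebraMap_toAlgebra]
    exact FormallyUnramified.stalkMap f x
  have h : (algebraMap (IsLocalRing.ResidueField <| Y.presheaf.stalk (f x))
      (IsLocalRing.ResidueField <| X.presheaf.stalk x)).Finite :=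
    RingHom.finite_algebraMap.mpr inferInstance
  have key : (f.residueFieldMap x).hom = algebraMap (IsLocalRing.ResidueField <| Y.presheaf.stalk (f x))
      (IsLocalRing.ResidueField <| X.presheaf.stalk x) := by
    refine RingHom.ext fun y => ?_
    obtain ⟨y, rfl⟩ := IsLocalRing.residue_surjective y
    rfl
  rw [key]
  exact h

lemma finite_comp_residue_aux {X T U : Scheme.{u}} (e : U ⟶ T) [FormallyUnramified e]
    [LocallyOfFiniteType e] (a : X ⟶ U) (x : X)
    (hsurj : Function.Surjective (a.residueFieldMap x).hom) :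
    ((a ≫ e).residueFieldMap x).hom.Finite := by
  rw [Scheme.residueFieldMap_comp]
  exact RingHom.Finite.comp (RingHom.Finite.of_surjective _ hsurj)
    (finite_residueFieldMap e (a x))

set_option backward.isDefEq.respectTransparency false in
lemma finite_comp_residue {T U : Scheme.{u}} (e : U ⟶ T) [FormallyUnramified e]
    [LocallyOfFiniteType e] {C : Type u} [CommRing C] [IsLocalRing C]
    (a : Spec (CommRingCat.of C) ⟶ U)
    (hsurj : Function.Surjective (a.residueFieldMap (closedPoint C)).hom) :
    ((a ≫ e).residueFieldMap (closedPoint C)).hom.Finite :=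
  finite_comp_residue_aux e a _ hsurj

end Q4

namespace Q5

open AlgebraicGeometry CategoryTheory IsLocalRing Opposite TopologicalSpace Q1 Q2 Q3

lemma ring_lift {R A B C : Type u} [CommRing R] [CommRing A] [CommRing B] [CommRing C]
    (θ : R →+* A) (hθ : θ.Etale) (α : A →+* C) (γ' : R →+* B) (π : B →+* C)
    (hπ : Function.Surjective π) (hnil : IsNilpotent (RingHom.ker π))
    (hE : π.comp γ' = α.comp θ) :
    ∃ γ : A →+* B, π.comp γ = α ∧ γ.comp θ = γ' := by
  algebraize [θ]
  let _ : Algebra R B := γ'.toAlgebra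
  let _ : Algebra R C := (π.comp γ').toAlgebra
  have hcomm : ∀ r : R, α (algebraMap R A r) = algebraMap R C r := fun r =>
    (congrArg (fun φ => φ r) hE).symm
  let f : A →ₐ[R] C := { α with commutes' := hcomm }
  let g : B →ₐ[R] C := { π with commutes' := fun r => rfl }
  have : Algebra.FormallySmooth R A := inferInstance
  let l := Algebra.FormallySmooth.liftOfSurjective f g hπ hnil
  refine ⟨l.toRingHom, ?_, ?_⟩
  · ext x; exact Algebra.FormallySmooth.liftOfSurjective_apply f g hπ hnil x
  · ext r; exact l.commutes r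

lemma ker_nilpotent {C C' : Type u} [CommRing C] [CommRing C'] [IsLocalRing C] [IsLocalRing C']
    [IsArtinianRing C'] (π : C' →+* C) : IsNilpotent (RingHom.ker π) := by
  have h1 : RingHom.ker π ≤ maximalIdeal C' :=
    IsLocalRing.le_maximalIdeal (RingHom.ker_ne_top π)
  have h2 : IsNilpotent (maximalIdeal C') := by
    have := IsArtinianRing.isNilpotent_jacobson_bot (R := C')
    rwa [IsLocalRing.jacobson_eq_maximalIdeal ⊥ bot_ne_top] at this
  obtain ⟨n, hn⟩ := h2
  refine ⟨n, ?_⟩
  have := Ideal.pow_right_mono h1 n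
  rw [hn] at this
  exact le_bot_iff.mp this

set_option backward.isDefEq.respectTransparency false in
/-- infinitesimal lifting along an étale morphism, for local Artinian thickenings -/
theorem etale_lift {T U : Scheme.{u}} (e : U ⟶ T) [Etale e]
    (C C' : Type u) [CommRing C] [CommRing C'] [IsLocalRing C] [IsLocalRing C']
    [IsArtinianRing C'] (π : C' →+* C) (hπ : Function.Surjective π)
    (a : Spec (CommRingCat.of C) ⟶ U) (c' : Spec (CommRingCat.of C') ⟶ T)
    (h : Spec.map (CommRingCat.ofHom π) ≫ c' = a ≫ e) :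
    ∃ c : Spec (CommRingCat.of C') ⟶ U, Spec.map (CommRingCat.ofHom π) ≫ c = a ∧ c ≫ e = c' := by
  have : IsLocalHom π := hπ.isLocalHom
  have hπcl : (Spec.map (CommRingCat.ofHom π)) (closedPoint C) = closedPoint C' :=
    Spec_closedPoint (f := CommRingCat.ofHom π)
  -- affine opens
  obtain ⟨_, ⟨V, hV, rfl⟩, hcV, -⟩ := T.isBasis_affineOpens.exists_subset_of_mem_open
    (Set.mem_univ (c' (closedPoint C'))) isOpen_univ
  have heV : a (closedPoint C) ∈ e ⁻¹ᵁ V := by
    change e (a (closedPoint C)) ∈ V
    have : e (a (closedPoint C)) = c' (closedPoint C') := by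
      have h' : (Spec.map (CommRingCat.ofHom π) ≫ c') (closedPoint C) = (a ≫ e) (closedPoint C) := by
        rw [h]
      exact h'.symm.trans (congrArg c' hπcl)
    rw [this]
    exact hcV
  obtain ⟨_, ⟨W, hW, rfl⟩, haW, hWV⟩ := U.isBasis_affineOpens.exists_subset_of_mem_open
    heV (e ⁻¹ᵁ V).2
  have hWV' : W ≤ e ⁻¹ᵁ V := hWV
  let α := ringOf a W haW
  let β := ringOf c' V hcV
  have haeV : (a ≫ e) (closedPoint C) ∈ V := heV
  have hπcV : (Spec.map (CommRingCat.ofHom π) ≫ c') (closedPoint C) ∈ V := by
    rw [h]; exact haeV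
  have hE : β ≫ CommRingCat.ofHom π = e.appLE V W hWV' ≫ α := by
    have e1 : ringOf (Spec.map (CommRingCat.ofHom π) ≫ c') V hπcV = ringOf (a ≫ e) V haeV := by
      congr 1
    rw [ringOf_SpecMap π c' V hcV hπcV, ringOf_comp a e V W hWV' haW haeV] at e1
    exact e1
  have hθ : (e.appLE V W hWV').hom.Etale := Etale.etale_appLE e hV hW hWV'
  have hE' : π.comp β.hom = α.hom.comp (e.appLE V W hWV').hom := by
    have := congrArg CommRingCat.Hom.hom hE
    exact this
  obtain ⟨γ, hγ1, hγ2⟩ := ring_lift (e.appLE V W hWV').hom hθ α.hom β.hom π hπ (ker_nilpotent π) hE'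
  refine ⟨Spec.map (CommRingCat.ofHom γ) ≫ hW.fromSpec, ?_, ?_⟩
  · calc Spec.map (CommRingCat.ofHom π) ≫ Spec.map (CommRingCat.ofHom γ) ≫ hW.fromSpec
        = Spec.map (CommRingCat.ofHom γ ≫ CommRingCat.ofHom π) ≫ hW.fromSpec := by
          rw [Spec.map_comp, Category.assoc]
      _ = Spec.map α ≫ hW.fromSpec := by
          congr 2
          ext x
          exact congrArg (fun φ => φ x) hγ1
      _ = a := factor a hW haW
  · calc (Spec.map (CommRingCat.ofHom γ) ≫ hW.fromSpec) ≫ e
        = Spec.map (CommRingCat.ofHom γ) ≫ Spec.map (e.appLE V W hWV') ≫ hV.fromSpec := by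
          rw [Category.assoc, IsAffineOpen.SpecMap_appLE_fromSpec e hV hW hWV']
      _ = Spec.map (e.appLE V W hWV' ≫ CommRingCat.ofHom γ) ≫ hV.fromSpec := by
          rw [Spec.map_comp, Category.assoc]
      _ = Spec.map β ≫ hV.fromSpec := by
          congr 2
          ext x
          exact congrArg (fun φ => φ x) hγ2
      _ = c' := factor c' hV hcV

end Q5
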