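import Mathlib
import Groth.Agent.Lib.H5bDvrLift
import Groth.Agent.Lib.H9ArtLiftD
import Groth.Agent.Lib.Helper4DVRSch
import Groth.Agent.S10343
import Groth.Agent.S15344

/-!
# Universally closed decent morphisms: lifting over discrete valuation rings after a finite
separable extension (helper5)
-/

set_option autoImplicit false
set_option linter.style.haveILetI false

universe u
open CategoryTheory CategoryTheory.Limits AlgebraicGeometry Opposite

namespace Groth.Agent.Lib.H5bDvrExt

open Groth.Agent.Lib.H5bUCAff Groth.Agent.Lib.H5bDvrLift IsLocalRing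

variable {S : Scheme.{u}}

/-- residue fields of a scheme étale over a field are finite separable extensions. -/
theorem exists_residueField_finite_separable {K : Type u} [Field K] {Wx : Scheme.{u}}
    (v : Wx ⟶ Spec (CommRingCat.of K)) [Etale v] (y : Wx) :
    ∃ ψ : K →+* Wx.residueField y,
      Spec.map (CommRingCat.ofHom ψ) = Wx.fromSpecResidueField y ≫ v ∧
      (letI := ψ.toAlgebra; Module.Finite K (Wx.residueField y) ∧
        Algebra.IsSeparable K (Wx.residueField y)) := by
  let Sk : Scheme.{u} := Spec (CommRingCat.of K)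
  let pt : Sk := v y
  let ρ : Sk.residueField pt ⟶ Wx.residueField y := v.residueFieldMap y
  let ε : CommRingCat.of K ⟶ Sk.residueField pt :=
    CommRingCat.ofHom (algebraMap K pt.asIdeal.ResidueField) ≫
      (Scheme.Spec.residueFieldIso (CommRingCat.of K) pt).inv
  have hε : Spec.map ε = Sk.fromSpecResidueField pt := by
    rw [Spec.map_comp]
    exact Scheme.Spec.map_residueFieldIso_inv_eq_fromSpecResidueField (CommRingCat.of K) pt
  have hρ : Spec.map ρ ≫ Sk.fromSpecResidueField pt = Wx.fromSpecResidueField y ≫ v :=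
    Scheme.Hom.SpecMap_residueFieldMap_fromSpecResidueField v y
  haveI : pt.asIdeal.IsMaximal := by
    have : pt.asIdeal = ⊥ := by
      rcases Ideal.eq_bot_or_top pt.asIdeal with h | h
      · exact h
      · exact absurd h pt.isPrime.ne_top
    rw [this]; exact Ideal.bot_isMaximal
  have hεsurj : Function.Surjective ε.hom := by
    have h1 : Function.Surjective (algebraMap K pt.asIdeal.ResidueField) :=
      Ideal.algebraMap_residueField_surjective pt.asIdeal
    have h2 : Function.Surjective (Scheme.Spec.residueFieldIso (CommRingCat.of K) pt).inv.hom :=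
      (ConcreteCategory.bijective_of_isIso _).2
    exact h2.comp h1
  refine ⟨ρ.hom.comp ε.hom, ?_, ?_⟩
  · have : CommRingCat.ofHom (ρ.hom.comp ε.hom) = ε ≫ ρ := rfl
    rw [this, Spec.map_comp, hε, hρ]
  · have hfin : (ρ.hom.comp ε.hom).Finite :=
      RingHom.Finite.comp (Q4.finite_residueFieldMap v y)
        (RingHom.Finite.of_surjective _ hεsurj)
    refine ⟨hfin, ?_⟩
    letI a1 : Algebra K (Sk.residueField pt) := ε.hom.toAlgebra
    letI a2 : Algebra (Sk.residueField pt) (Wx.residueField y) := ρ.hom.toAlgebra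
    letI a3 : Algebra K (Wx.residueField y) := (ρ.hom.comp ε.hom).toAlgebra
    haveI : IsScalarTower K (Sk.residueField pt) (Wx.residueField y) :=
      IsScalarTower.of_algebraMap_eq (fun _ => rfl)
    haveI s1 : Algebra.IsSeparable K (Sk.residueField pt) := by
      refine ⟨fun x => ?_⟩
      obtain ⟨k, rfl⟩ := hεsurj x
      exact isSeparable_algebraMap k
    haveI s2 : Algebra.IsSeparable (Sk.residueField pt) (Wx.residueField y) :=
      inferInstanceAs (letI : Algebra (Sk.residueField (v.base y)) (Wx.residueField y) :=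
        (v.residueFieldMap y).hom.toAlgebra
        Algebra.IsSeparable (Sk.residueField (v.base y)) (Wx.residueField y))
    exact Algebra.IsSeparable.trans K (Sk.residueField pt) (Wx.residueField y)

section Spec

set_option linter.unusedSectionVars false

variable {A : Type u} [CommRing A] [IsDomain A] [IsDiscreteValuationRing A] {K : Type u} [Field K]
  [Algebra A K] [IsFractionRing A K] (a : Spec (CommRingCat.of A) ⟶ S)
  {P : AlgSp.Sp S} (pr : P ⟶ (AlgSp.yon S).obj (Over.mk a))
  (s : (AlgSp.yon S).obj (SpO a K) ⟶ P)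

/-- a `K`-point over the generic point specialises to a point over the closed point, along a
universally closed morphism. -/
theorem exists_specializes_closedPoint (huc : AlgSp.IsUnivClosedMor pr)
    (hs : s ≫ pr = (AlgSp.yon S).map (strO a K)) :
    ∃ x', AlgSp.Points.ofPt s (closedPoint K) ⤳ x' ∧
      AlgSp.Points.map pr x' = AlgSp.Points.schemeHomeo (Over.mk a) (closedPoint A) := by
  have hcl : IsClosedMap (AlgSp.Points.map pr) :=
    huc (AlgSp.IsAlgSpace.yon_obj _) (𝟙 _) (𝟙 P) pr (IsPullback.id_horiz pr)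
  obtain ⟨x, hx⟩ : ∃ x, x = AlgSp.Points.ofPt s (closedPoint K) := ⟨_, rfl⟩
  have hprx : AlgSp.Points.map pr x =
      AlgSp.Points.schemeHomeo (Over.mk a) ((strO a K).left (closedPoint K)) := by
    rw [hx, AlgSp.Points.map_ofPt, hs, ofPt_yon_map]
  have hsp : AlgSp.Points.map pr x ⤳ AlgSp.Points.schemeHomeo (Over.mk a) (closedPoint A) := by
    rw [hprx]
    exact (specializes_closedPoint (R := A) ((strO a K).left (closedPoint K))).map
      (AlgSp.Points.schemeHomeo (Over.mk a)).continuous
  have h1 : IsClosed (AlgSp.Points.map pr '' closure {x}) := hcl _ isClosed_closure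
  have h2 : AlgSp.Points.schemeHomeo (Over.mk a) (closedPoint A) ∈
      AlgSp.Points.map pr '' closure {x} := by
    have h3 : closure {AlgSp.Points.map pr x} ⊆ AlgSp.Points.map pr '' closure {x} :=
      closure_minimal (by
        rintro _ rfl
        exact ⟨x, subset_closure rfl, rfl⟩) h1
    exact h3 (specializes_iff_mem_closure.1 hsp)
  obtain ⟨x', hx'1, hx'2⟩ := h2
  exact ⟨x', hx ▸ specializes_iff_mem_closure.2 hx'1, hx'2⟩

omit [IsDomain A] [IsDiscreteValuationRing A] in
/-- the localisation `Spec K ⟶ Spec A` is a monomorphism of schemes over `S`. -/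
theorem mono_strO_fractionRing : Mono (strO a K) := by
  haveI : Epi (CommRingCat.ofHom (algebraMap A K)) :=
    ⟨fun g h w => CommRingCat.hom_ext
      (IsLocalization.ringHom_ext (nonZeroDivisors A) (congrArg CommRingCat.Hom.hom w))⟩
  haveI : Mono (Spec.map (CommRingCat.ofHom (algebraMap A K))) := by
    have : Mono (CommRingCat.ofHom (algebraMap A K)).op := inferInstance
    exact inferInstanceAs (Mono (Scheme.Spec.map (CommRingCat.ofHom (algebraMap A K)).op))
  exact (Over.forget S).mono_of_mono_map (inferInstanceAs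
    (Mono (Spec.map (CommRingCat.ofHom (algebraMap A K)))))

end Spec

/-- an affine étale chart through a point of an algebraic space. -/
theorem exists_affine_chart_at {P : AlgSp.Sp S} (hP : AlgSp.IsAlgSpace P) (x' : AlgSp.Points P) :
    ∃ (W₀ : Over S) (q₀ : (AlgSp.yon S).obj W₀ ⟶ P) (w'₀ : ↥W₀.left), IsAffine W₀.left ∧
      AlgSp.RepWith @Etale q₀ ∧ AlgSp.Points.ofPt q₀ w'₀ = x' := by
  obtain ⟨U, p, hpe, hps⟩ := hP.atlas
  obtain ⟨u₀, hu₀⟩ := Groth.Agent.S10177.surjective_ofPt p hps x'
  obtain ⟨_, ⟨U₀, hU₀, rfl⟩, hu₀U, -⟩ :=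
    (U.left.isBasis_affineOpens).exists_subset_of_mem_open (Set.mem_univ u₀) isOpen_univ
  let U' : U.left.Opens := U₀
  let W₀ : Over S := Over.mk (U'.ι ≫ U.hom)
  let jO : W₀ ⟶ U := Over.homMk U'.ι rfl
  refine ⟨W₀, (AlgSp.yon S).map jO ≫ p, (⟨u₀, hu₀U⟩ : U'), hU₀, ?_, ?_⟩
  · exact (AlgSp.RepWith @Etale).comp_mem _ _
      ((AlgSp.repWith_yon_map_iff @Etale jO).2 (inferInstanceAs (Etale U'.ι))) hpe
  · rw [Groth.Agent.S10176.ofPt_map_comp jO p]
    exact hu₀

open Groth.Agent.Lib.Helper12.Proper in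
/-- **lifting after a finite separable extension**: for `f` locally of finite type, decent and
universally closed, a valuative square over a discrete valuation ring has a lift after a finite
separable extension of the fraction field, with a discrete valuation ring dominating `A`. -/
theorem exists_domExt_lift {X Y : AlgSp.Space S} (f : X ⟶ Y)
    (hlft : AlgSp.LocP @LocallyOfFiniteType f.hom) (hdec : AlgSp.IsDecentMor f.hom)
    (huc : AlgSp.IsUnivClosedMor f.hom) (sq : AlgSp.ValSq f.hom)
    (hd : IsDiscreteValuationRing sq.A) :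
    ∃ e : sq.DomExt, IsDiscreteValuationRing e.A' ∧
      (letI := e.ψ.toAlgebra; Module.Finite sq.K e.K' ∧ Algebra.IsSeparable sq.K e.K') ∧
      e.HasLift := by
  have sqP := IsPullback.of_hasPullback f.hom sq.bot
  have hP : AlgSp.IsAlgSpace (pullback f.hom sq.bot) :=
    Groth.Agent.S9874.isAlgSpace_of_isPullback Y.property.diag X.property
      (AlgSp.IsAlgSpace.yon_obj _) sqP
  obtain ⟨pr, hprdef⟩ : ∃ pr, pr = pullback.snd f.hom sq.bot := ⟨_, rfl⟩
  obtain ⟨fst, hfstdef⟩ : ∃ fst, fst = pullback.fst f.hom sq.bot := ⟨_, rfl⟩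
  rw [← hprdef, ← hfstdef] at sqP
  obtain ⟨s, hs1, hs2⟩ : ∃ s : (AlgSp.yon S).obj sq.ptK ⟶ pullback f.hom sq.bot,
      s ≫ fst = sq.top ∧ s ≫ pr = (AlgSp.yon S).map sq.j :=
    ⟨sqP.lift sq.top ((AlgSp.yon S).map sq.j) sq.comm, sqP.lift_fst _ _ _, sqP.lift_snd _ _ _⟩
  have hucP : AlgSp.IsUnivClosedMor pr := isUnivClosedMor_baseChange sqP huc
  have hlftP : AlgSp.LocP @LocallyOfFiniteType pr :=
    locP_lft_baseChange X.property Y.property (AlgSp.IsAlgSpace.yon_obj _) sqP hlft
  have hdecP : AlgSp.IsDecent (pullback f.hom sq.bot) := hdec sq.bot fst pr sqP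
  -- monomorphisms
  haveI : Mono sq.j := mono_strO_fractionRing (K := sq.K) sq.str
  haveI : Mono ((AlgSp.yon S).map sq.j) := (AlgSp.yon S).map_mono _
  haveI : Mono s := mono_of_mono_fac hs2
  -- specialisation and chart
  obtain ⟨x', hxx', hx'c⟩ := exists_specializes_closedPoint (K := sq.K) sq.str pr s hucP hs2
  obtain ⟨W₀, q₀, w'₀, hW₀, hq₀e, hw'₀⟩ := exists_affine_chart_at hP x'
  obtain ⟨c₀, hc₀⟩ := (AlgSp.yon S).map_surjective (q₀ ≫ pr)
  haveI : LocallyOfFiniteType c₀.left :=
    hlftP q₀ (𝟙 _) c₀ hq₀e (AlgSp.repWith_id _ _) (by rw [hc₀, Category.comp_id])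
  haveI : IsLocallyNoetherian (Over.mk sq.str).left :=
    inferInstanceAs (IsLocallyNoetherian (Spec (CommRingCat.of sq.A)))
  haveI : IsLocallyNoetherian W₀.left := LocallyOfFiniteType.isLocallyNoetherian c₀.left
  have hc₀w' : c₀.left w'₀ = closedPoint sq.A := by
    apply (AlgSp.Points.schemeHomeo (Over.mk sq.str)).injective
    rw [← hx'c, ← hw'₀, AlgSp.Points.map_ofPt, ← hc₀, ofPt_yon_map]
  -- generisation
  obtain ⟨w, hww', hw⟩ := Groth.Agent.S10343.result ⟨_, hP⟩ x'
    (AlgSp.Points.ofPt s (closedPoint sq.K)) hxx' (hdecP _) q₀ hq₀e w'₀ hw'₀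
  -- the fibre
  obtain ⟨Wx, v, u', sqx⟩ := hq₀e.1 s
  obtain ⟨u, rfl⟩ := (AlgSp.yon S).map_surjective u'
  haveI : Etale v.left := hq₀e.2 _ _ v sqx
  obtain ⟨y, rfl, -⟩ := Groth.Agent.S10176.exists_point_of_isPullback_yon sqx w
    (closedPoint sq.K) hw
  haveI : Mono ((AlgSp.yon S).map u) :=
    PullbackCone.mono_fst_of_is_pullback_of_mono sqx.isLimit
  haveI : Mono u := (AlgSp.yon S).mono_of_mono_map ‹_›
  haveI : Mono u.left := inferInstance
  haveI hiso : IsIso (u.left.residueFieldMap y) :=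
    Groth.Agent.S15344.isIso_residueFieldMap_of_mono u.left y
  have huc0 : u ≫ c₀ = v ≫ sq.j := by
    apply (AlgSp.yon S).map_injective
    rw [Functor.map_comp, Functor.map_comp, hc₀, ← Category.assoc, sqx.w, Category.assoc, hs2]
  have huc0l : u.left ≫ c₀.left = v.left ≫ sq.j.left := by
    rw [← Over.comp_left, huc0, Over.comp_left]
  have hne : u.left y ≠ w'₀ := by
    intro h
    have h1 : c₀.left (u.left y) = closedPoint sq.A := by rw [h, hc₀w']
    rw [← Scheme.Hom.comp_apply, huc0l, Scheme.Hom.comp_apply] at h1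
    have h2 := congrArg PrimeSpectrum.asIdeal h1
    have h3 : (sq.j.left (v.left y)).asIdeal = ⊥ := by
      show Ideal.comap (algebraMap sq.A sq.K) (v.left y).asIdeal = ⊥
      have : (v.left y).asIdeal = ⊥ := by
        rcases Ideal.eq_bot_or_top (v.left y).asIdeal with h | h
        · exact h
        · exact absurd h (v.left y).isPrime.ne_top
      rw [this, ← RingHom.ker_eq_comap_bot, (RingHom.injective_iff_ker_eq_bot _).1
        (IsFractionRing.injective sq.A sq.K)]
    rw [h3] at h2
    exact IsDiscreteValuationRing.not_a_field sq.A h2.symm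
  -- the discrete valuation ring
  have hφr : (u.left.residueFieldMap y).hom.EssFiniteType :=
    (RingHom.FiniteType.of_surjective _
      (ConcreteCategory.bijective_of_isIso (u.left.residueFieldMap y)).2).essFiniteType
  obtain ⟨V, hV, g, hg1, hg2⟩ := Groth.Agent.Lib.Helper4.DVRSch.exists_dvr_hom hww' hne
    (L := Wx.left.residueField y) (u.left.residueFieldMap y) hφr
  rw [Scheme.Hom.SpecMap_residueFieldMap_fromSpecResidueField] at hg1
  obtain ⟨ψ, hψ, hfin, hsep⟩ := exists_residueField_finite_separable (K := sq.K) v.left y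
  let φc : CommRingCat.of sq.A ⟶ CommRingCat.of V := Spec.preimage (g ≫ c₀.left)
  have hφc : Spec.map φc = g ≫ c₀.left := Spec.map_preimage _
  have hcomm : (algebraMap V (Wx.left.residueField y)).comp φc.hom =
      ψ.comp (algebraMap sq.A sq.K) := by
    have h1 : Spec.map (CommRingCat.ofHom ((algebraMap V (Wx.left.residueField y)).comp φc.hom)) =
        Spec.map (CommRingCat.ofHom (ψ.comp (algebraMap sq.A sq.K))) := by
      have hL : CommRingCat.ofHom ((algebraMap V (Wx.left.residueField y)).comp φc.hom) =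
          φc ≫ CommRingCat.ofHom V.subtype := rfl
      have hR : CommRingCat.ofHom (ψ.comp (algebraMap sq.A sq.K)) =
          CommRingCat.ofHom (algebraMap sq.A sq.K) ≫ CommRingCat.ofHom ψ := rfl
      rw [hL, hR, Spec.map_comp, Spec.map_comp, hψ, hφc, ← Category.assoc, hg1, Category.assoc,
        Category.assoc, huc0l]
      rfl
    exact congrArg CommRingCat.Hom.hom (Spec.map_injective h1)
  have hloc : IsLocalHom φc.hom := by
    have h1 : Spec.map φc (closedPoint V) = closedPoint sq.A := by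
      rw [hφc, Scheme.Hom.comp_apply, hg2, hc₀w']
    have h2 := congrArg PrimeSpectrum.asIdeal h1
    exact ((IsLocalRing.local_hom_TFAE φc.hom).out 0 4).2 h2
  let e : sq.DomExt :=
    { A' := V, K' := Wx.left.residueField y, φ := φc.hom, ψ := ψ, comm := hcomm,
      isLocalHom := hloc }
  refine ⟨e, hV, ⟨hfin, hsep⟩, ?_⟩
  -- the lift
  have hgw : g ≫ W₀.hom = e.ptA'.hom := by
    show g ≫ W₀.hom = Spec.map (CommRingCat.ofHom φc.hom) ≫ sq.str
    rw [← Over.w c₀, ← Category.assoc, ← hφc]
    rfl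
  let gO : e.ptA' ⟶ W₀ := Over.homMk g hgw
  let φ' : e.ptA' ⟶ sq.ptA := Over.homMk (Spec.map (CommRingCat.ofHom e.φ)) rfl
  let kk : e.ptK' ⟶ e.ptA' := Over.homMk (Spec.map (CommRingCat.ofHom (algebraMap e.A' e.K'))) rfl
  have hΨw : Spec.map (CommRingCat.ofHom e.ψ) ≫ sq.ptK.hom = e.ptK'.hom := by
    change Spec.map _ ≫ Spec.map _ ≫ _ = Spec.map _ ≫ Spec.map _ ≫ _
    rw [← Spec.map_comp_assoc, ← Spec.map_comp_assoc, ← CommRingCat.ofHom_comp,
      ← CommRingCat.ofHom_comp, e.comm]
  let Ψ : e.ptK' ⟶ sq.ptK := Over.homMk (Spec.map (CommRingCat.ofHom e.ψ)) hΨw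
  have hιw : Wx.left.fromSpecResidueField y ≫ Wx.hom = e.ptK'.hom := by
    rw [← hΨw, ← Over.w v, ← Category.assoc, ← hψ]
  let ιO : e.ptK' ⟶ Wx := Over.homMk (Wx.left.fromSpecResidueField y) hιw
  have hgc : gO ≫ c₀ = φ' := Over.OverMorphism.ext hφc.symm
  have hkg : kk ≫ gO = ιO ≫ u := Over.OverMorphism.ext hg1
  have hιv : ιO ≫ v = Ψ := Over.OverMorphism.ext hψ.symm
  refine ⟨(AlgSp.yon S).map gO ≫ q₀ ≫ fst, ?_, ?_⟩
  · show (AlgSp.yon S).map kk ≫ (AlgSp.yon S).map gO ≫ q₀ ≫ fst = (AlgSp.yon S).map Ψ ≫ sq.top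
    rw [← Category.assoc, ← Functor.map_comp, hkg, Functor.map_comp, Category.assoc,
      ← Category.assoc ((AlgSp.yon S).map u), sqx.w, Category.assoc, hs1, ← Category.assoc,
      ← Functor.map_comp, hιv]
  · show ((AlgSp.yon S).map gO ≫ q₀ ≫ fst) ≫ f.hom = (AlgSp.yon S).map φ' ≫ sq.bot
    rw [Category.assoc, Category.assoc, sqP.w, ← Category.assoc q₀, ← hc₀, ← Category.assoc,
      ← Functor.map_comp, hgc]

end Groth.Agent.Lib.H5bDvrExt
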