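import Mathlib
import Groth.Agent.Lib.H5bUCAff2
import Groth.Agent.S10180
import Groth.Agent.S9874

/-!
# Universal closedness and affine spaces for algebraic spaces: the reduction (helper5)
-/

set_option autoImplicit false
set_option linter.style.haveILetI false

universe u
open CategoryTheory CategoryTheory.Limits AlgebraicGeometry Opposite TensorProduct

namespace Groth.Agent.Lib.H5bUCAff

open Groth.Agent.S13210 Groth.Agent.S9908 Groth.Agent.S9909

variable {S : Scheme.{u}}

/-- changing the corner of a pullback square along an isomorphism. -/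
lemma isPullback_of_iso_corner {C : Type*} [Category C] {P X Y Y' Z : C} {fst : P ⟶ X}
    {snd : P ⟶ Y} {f : X ⟶ Z} {g : Y ⟶ Z} (sq : IsPullback fst snd f g) (e : Y' ≅ Y) :
    IsPullback fst (snd ≫ e.inv) f (e.hom ≫ g) := by
  have h1 : IsPullback e.inv g (e.hom ≫ g) (𝟙 Z) :=
    IsPullback.of_horiz_isIso ⟨by rw [Iso.inv_hom_id_assoc, Category.comp_id]⟩
  have h2 := sq.flip.paste_horiz h1
  rw [Category.comp_id] at h2
  exact h2.flip

section Data

variable {X Y : AlgSp.Sp S} (hX : AlgSp.IsAlgSpace X) (hY : AlgSp.IsAlgSpace Y) (f : X ⟶ Y)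
  (hqc : AlgSp.IsQuasiCompactMor f) {V : Over S} (p : (AlgSp.yon S).obj V ⟶ Y)

/-- the affine space over the atlas, over `S`. -/
noncomputable abbrev AffO (V : Over S) (n : ℕ) : Over S :=
  Over.mk ((𝔸(ULift.{u} (Fin n); V.left) ↘ V.left) ≫ V.hom)

/-- the projection of the affine space. -/
noncomputable abbrev affπ (V : Over S) (n : ℕ) : AffO V n ⟶ V :=
  Over.homMk (𝔸(ULift.{u} (Fin n); V.left) ↘ V.left)

/-- the hypothesis on affine spaces. -/
def AffHyp : Prop :=
  ∀ (n : ℕ) (P : AlgSp.Sp S) (fst : P ⟶ X) (snd : P ⟶ (AlgSp.yon S).obj (AffO V n)),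
    IsPullback fst snd f ((AlgSp.yon S).map (affπ V n) ≫ p) → IsClosedMap (AlgSp.Points.map snd)

variable {f p}

include hX hY in
/-- the hypothesis on affine spaces, restricted to an affine open of the atlas. -/
lemma affHyp_restrict (H : AffHyp f p) {R : Type u} [CommRing R]
    (jR : Spec (CommRingCat.of R) ⟶ V.left) [IsOpenImmersion jR] (n : ℕ) {P : AlgSp.Sp S}
    (pr : P ⟶ pullback (pullback.snd f p)
      ((AlgSp.yon S).map (Over.homMk jR rfl : Over.mk (jR ≫ V.hom) ⟶ V)))
    (snd : P ⟶ (AlgSp.yon S).obj (SpO (jR ≫ V.hom) (MvPolynomial (ULift.{u} (Fin n)) R)))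
    (sq : IsPullback pr snd (pullback.snd _ _)
      ((AlgSp.yon S).map (strO (jR ≫ V.hom) (MvPolynomial (ULift.{u} (Fin n)) R)))) :
    IsClosedMap (AlgSp.Points.map snd) := by
  let jO : Over.mk (jR ≫ V.hom) ⟶ V := Over.homMk jR rfl
  -- the open immersion of `Spec R[x]` into the affine space over `V`
  let ιn : Spec (CommRingCat.of (MvPolynomial (ULift.{u} (Fin n)) R)) ⟶
      𝔸(ULift.{u} (Fin n); V.left) :=
    (AffineSpace.SpecIso (ULift.{u} (Fin n)) (CommRingCat.of R)).inv ≫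
      AffineSpace.map (ULift.{u} (Fin n)) jR
  haveI : IsOpenImmersion (AffineSpace.map (ULift.{u} (Fin n)) jR) :=
    MorphismProperty.of_isPullback (P := @IsOpenImmersion)
      (AffineSpace.isPullback_map (n := ULift.{u} (Fin n)) jR).flip inferInstance
  haveI : IsOpenImmersion ιn := by dsimp only [ιn]; infer_instance
  have hιn : ιn ≫ (𝔸(ULift.{u} (Fin n); V.left) ↘ V.left) =
      Spec.map (CommRingCat.ofHom (algebraMap R (MvPolynomial (ULift.{u} (Fin n)) R))) ≫ jR := by
    dsimp only [ιn]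
    rw [Category.assoc, AffineSpace.map_over, ← Category.assoc, AffineSpace.SpecIso_inv_over]
    rfl
  let ιnO : SpO (jR ≫ V.hom) (MvPolynomial (ULift.{u} (Fin n)) R) ⟶ AffO V n :=
    Over.homMk ιn (by
      change ιn ≫ (𝔸(ULift.{u} (Fin n); V.left) ↘ V.left) ≫ V.hom = _
      rw [← Category.assoc, hιn, Category.assoc]
      rfl)
  haveI : IsOpenImmersion ιnO.left := inferInstanceAs (IsOpenImmersion ιn)
  have hιπ : ιnO ≫ affπ V n = strO (jR ≫ V.hom) (MvPolynomial (ULift.{u} (Fin n)) R) ≫ jO :=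
    Over.OverMorphism.ext hιn
  -- the base change to the affine space
  have sqn := IsPullback.of_hasPullback f ((AlgSp.yon S).map (affπ V n) ≫ p)
  have hcl := H n _ _ _ sqn
  have sqV := IsPullback.of_hasPullback f p
  have sqX' := IsPullback.of_hasPullback (pullback.snd f p) ((AlgSp.yon S).map jO)
  have big := sq.paste_horiz (sqX'.paste_horiz sqV)
  have hbig : (AlgSp.yon S).map (strO (jR ≫ V.hom) (MvPolynomial (ULift.{u} (Fin n)) R)) ≫
      (AlgSp.yon S).map jO ≫ p =
      (AlgSp.yon S).map ιnO ≫ (AlgSp.yon S).map (affπ V n) ≫ p := by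
    rw [← Category.assoc, ← Functor.map_comp, ← hιπ, Functor.map_comp, Category.assoc]
  rw [hbig] at big
  let pr' := sqn.lift (pr ≫ pullback.fst _ _ ≫ pullback.fst f p) (snd ≫ (AlgSp.yon S).map ιnO)
    (by rw [Category.assoc]; exact big.w)
  have hpr' : IsPullback pr' snd (pullback.snd f ((AlgSp.yon S).map (affπ V n) ≫ p))
      ((AlgSp.yon S).map ιnO) := by
    refine IsPullback.of_right ?_ (sqn.lift_snd _ _ _) sqn
    rw [sqn.lift_fst]
    exact big
  have hPn : AlgSp.IsAlgSpace (pullback f ((AlgSp.yon S).map (affπ V n) ≫ p)) :=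
    Groth.Agent.S9874.isAlgSpace_of_isPullback hY.diag hX (AlgSp.IsAlgSpace.yon_obj _) sqn
  have hP : AlgSp.IsAlgSpace P :=
    Groth.Agent.S9874.isAlgSpace_of_isPullback hY.diag hX (AlgSp.IsAlgSpace.yon_obj _) big
  exact isClosedMap_of_openImmersion hPn hP _ ιnO pr' snd hpr' hcl


include hX hY hqc in
/-- base changes to affine schemes mapping into an affine open of the atlas are closed. -/
theorem isClosedMap_of_affine_of_affHyp (H : AffHyp f p) (V' : V.left.affineOpens) (T : Over S)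
    [IsAffine T.left] (c₀ : T ⟶ V) (hc₀ : Set.range c₀.left ⊆ V'.1) {P : AlgSp.Sp S}
    (a : P ⟶ pullback f p) (sndT : P ⟶ (AlgSp.yon S).obj T)
    (sqA : IsPullback a sndT (pullback.snd f p) ((AlgSp.yon S).map c₀)) :
    IsClosedMap (AlgSp.Points.map sndT) := by
  let R : Type u := Γ(V.left, V'.1)
  let jR : Spec (CommRingCat.of R) ⟶ V.left := V'.2.fromSpec
  haveI : IsOpenImmersion jR := inferInstanceAs (IsOpenImmersion V'.2.fromSpec)
  let sR : Spec (CommRingCat.of R) ⟶ S := jR ≫ V.hom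
  let jO : Over.mk sR ⟶ V := Over.homMk jR rfl
  have sqX' := IsPullback.of_hasPullback (pullback.snd f p) ((AlgSp.yon S).map jO)
  have sqV := IsPullback.of_hasPullback f p
  -- quasi-compactness of the base change
  haveI : IsAffine (Over.mk sR).left := inferInstanceAs (IsAffine (Spec (CommRingCat.of R)))
  have hqcV : AlgSp.IsQuasiCompactSp ((AlgSp.yon S).obj (Over.mk sR)) :=
    ⟨Over.mk sR, 𝟙 _, AlgSp.repWith_id _ _, AlgSp.repWith_id _ _, inferInstance⟩
  have hX'qc : AlgSp.IsQuasiCompactSp (pullback (pullback.snd f p) ((AlgSp.yon S).map jO)) :=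
    hqc (AlgSp.IsAlgSpace.yon_obj _) hqcV ((AlgSp.yon S).map jO ≫ p) _ _ (sqX'.paste_horiz sqV)
  obtain ⟨W₀, p₀, hW₀, hp₀e, hp₀s⟩ := Groth.Agent.S10180.exists_affine_chart hX'qc
  haveI := hW₀
  obtain ⟨β, hβ⟩ := (AlgSp.yon S).map_surjective
    (p₀ ≫ pullback.snd (pullback.snd f p) ((AlgSp.yon S).map jO))
  -- the chart as a spectrum
  let B : Type u := Γ(W₀.left, ⊤)
  let eW : W₀.left ≅ Spec (CommRingCat.of B) := W₀.left.isoSpec
  let φ : CommRingCat.of R ⟶ CommRingCat.of B := Spec.preimage (eW.inv ≫ β.left)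
  have hφ : Spec.map φ = eW.inv ≫ β.left := Spec.map_preimage _
  letI : Algebra R B := φ.hom.toAlgebra
  have hφ' : Spec.map (CommRingCat.ofHom (algebraMap R B)) = eW.inv ≫ β.left := hφ
  let eWO : SpO sR B ≅ W₀ := Over.isoMk eW.symm (by
    change eW.inv ≫ W₀.hom = Spec.map (CommRingCat.ofHom (algebraMap R B)) ≫ sR
    rw [hφ', Category.assoc]
    exact congrArg (eW.inv ≫ ·) (Over.w β).symm)
  have heWO : eWO.hom ≫ β = strO sR B := Over.OverMorphism.ext hφ'.symm
  let w : (AlgSp.yon S).obj (SpO sR B) ⟶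
      pullback (pullback.snd f p) ((AlgSp.yon S).map jO) := (AlgSp.yon S).map eWO.hom ≫ p₀
  have hwe : AlgSp.RepWith @Etale w :=
    (MorphismProperty.cancel_left_of_respectsIso (AlgSp.RepWith @Etale)
      ((AlgSp.yon S).map eWO.hom) p₀).2 hp₀e
  have hws : AlgSp.RepWith @Surjective w :=
    (MorphismProperty.cancel_left_of_respectsIso (AlgSp.RepWith @Surjective)
      ((AlgSp.yon S).map eWO.hom) p₀).2 hp₀s
  have hwb : w ≫ pullback.snd (pullback.snd f p) ((AlgSp.yon S).map jO) =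
      (AlgSp.yon S).map (strO sR B) := by
    rw [Category.assoc, ← hβ, ← Functor.map_comp, heWO]
  -- the test scheme as a spectrum
  let A' : Type u := Γ(T.left, ⊤)
  let eT : T.left ≅ Spec (CommRingCat.of A') := T.left.isoSpec
  let c₁ : T.left ⟶ Spec (CommRingCat.of R) := IsOpenImmersion.lift jR c₀.left (by
    rw [V'.2.range_fromSpec]; exact hc₀)
  have hc₁ : c₁ ≫ jR = c₀.left := IsOpenImmersion.lift_fac _ _ _
  let ψ : CommRingCat.of R ⟶ CommRingCat.of A' := Spec.preimage (eT.inv ≫ c₁)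
  have hψ : Spec.map ψ = eT.inv ≫ c₁ := Spec.map_preimage _
  letI : Algebra R A' := ψ.hom.toAlgebra
  have hψ' : Spec.map (CommRingCat.ofHom (algebraMap R A')) = eT.inv ≫ c₁ := hψ
  let eTO : SpO sR A' ≅ T := Over.isoMk eT.symm (by
    change eT.inv ≫ T.hom = Spec.map (CommRingCat.ofHom (algebraMap R A')) ≫ sR
    rw [hψ', Category.assoc, ← Over.w c₀, ← hc₁, Category.assoc])
  have heTO : eTO.hom ≫ c₀ = strO sR A' ≫ jO := by
    apply Over.OverMorphism.ext
    change eT.inv ≫ c₀.left = Spec.map (CommRingCat.ofHom (algebraMap R A')) ≫ jR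
    rw [hψ', Category.assoc, hc₁]
  -- the square over `Spec R`
  have sq1 := isPullback_of_iso_corner sqA ((AlgSp.yon S).mapIso eTO)
  have hcomp : ((AlgSp.yon S).mapIso eTO).hom ≫ (AlgSp.yon S).map c₀ =
      (AlgSp.yon S).map (strO sR A') ≫ (AlgSp.yon S).map jO := by
    rw [Functor.mapIso_hom, ← Functor.map_comp, heTO, Functor.map_comp]
  rw [hcomp] at sq1
  let prT' := sqX'.lift a ((sndT ≫ ((AlgSp.yon S).mapIso eTO).inv) ≫
    (AlgSp.yon S).map (strO sR A')) (by rw [Category.assoc]; exact sq1.w)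
  have sqT : IsPullback prT' (sndT ≫ ((AlgSp.yon S).mapIso eTO).inv)
      (pullback.snd (pullback.snd f p) ((AlgSp.yon S).map jO))
      ((AlgSp.yon S).map (strO sR A')) := by
    refine IsPullback.of_right ?_ (sqX'.lift_snd _ _ _) sqX'
    rw [sqX'.lift_fst]
    exact sq1
  have hcl := affine_core sR _ w hwb hwe hws
    (fun n P pr snd sq => affHyp_restrict hX hY H jR n pr snd sq) A' prT' _ sqT
  have hfun : AlgSp.Points.map sndT = AlgSp.Points.map ((AlgSp.yon S).mapIso eTO).hom ∘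
      AlgSp.Points.map (sndT ≫ ((AlgSp.yon S).mapIso eTO).inv) := by
    funext x
    rw [Function.comp_apply, ← AlgSp.Points.map_comp, Category.assoc, Iso.inv_hom_id,
      Category.comp_id]
  rw [hfun]
  exact (isClosedMap_map_of_iso ((AlgSp.yon S).mapIso eTO)).comp hcl

include hX hY hqc in
/-- **(3) ⇒ (1)**: a quasi-compact morphism whose base changes to the affine spaces over an étale
atlas of the target are closed is universally closed. -/
theorem isUnivClosedMor_of_affHyp (hpe : AlgSp.RepWith @Etale p) (hps : AlgSp.RepWith @Surjective p)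
    (H : AffHyp f p) : AlgSp.IsUnivClosedMor f := by
  refine Groth.Agent.S9924.isUnivClosedMor_of_chart f p hpe hps _ _
    (IsPullback.of_hasPullback f p) ?_
  intro Z Z' hZ g fstZ sndZ sqZ
  refine isClosedMap_map_of_good sndZ (fun T c => ∃ (c₀ : T ⟶ V) (V' : V.left.affineOpens),
    c ≫ g = (AlgSp.yon S).map c₀ ∧ Set.range c₀.left ⊆ V'.1) ?_ ?_
  · intro T c t
    obtain ⟨c₀, hc₀⟩ := (AlgSp.yon S).map_surjective (c ≫ g)
    obtain ⟨_, ⟨V', hV', rfl⟩, hvV', -⟩ := (V.left.isBasis_affineOpens).exists_subset_of_mem_open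
      (Set.mem_univ (c₀.left t)) isOpen_univ
    obtain ⟨_, ⟨U₀, hU, rfl⟩, htU, hUsub⟩ := (T.left.isBasis_affineOpens).exists_subset_of_mem_open
      (show t ∈ c₀.left ⁻¹' (V' : Set V.left) from hvV') (V'.isOpen.preimage c₀.left.continuous)
    let U : T.left.Opens := U₀
    refine ⟨⟨U, hU⟩, htU, (Over.homMk U.ι rfl : Over.mk (U.ι ≫ T.hom) ⟶ T) ≫ c₀, ⟨V', hV'⟩, ?_, ?_⟩
    · rw [Category.assoc, ← hc₀, Functor.map_comp]
    · rintro _ ⟨x, rfl⟩
      have hx : U.ι x ∈ (U : Set T.left) := by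
        have h2 : U.ι x ∈ Set.range U.ι := ⟨x, rfl⟩
        rw [U.range_ι] at h2; exact h2
      exact hUsub hx
  · rintro T hT c ⟨c₀, V', hc, hr⟩ P pr sndT sq
    haveI := hT
    have sqA := sq.paste_horiz sqZ
    rw [hc] at sqA
    exact isClosedMap_of_affine_of_affHyp hX hY hqc H V' T c₀ hr _ sndT sqA

end Data

end Groth.Agent.Lib.H5bUCAff
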