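import Mathlib
import Groth.Agent.Lib.H5bIdealDescAlg

/-!
# Flat base change of kernels (helper5)

* `ker_includeLeft_eq_map`: for a flat `A`-algebra `A'` and an `A`-algebra `B`,
  `ker (A' → A' ⊗[A] B) = ker (A → B) · A'`.
* `ker_pushout_inr`: the same for pushouts in `CommRingCat`.
* `ker_app_eq_map_of_flat`: for a cartesian square of schemes with `f : T' ⟶ T` flat, affine opens
  `UT ≤ f⁻¹ US` and `iX⁻¹ US` compact, `ker (Γ(T', UT) → Γ(Y, iY⁻¹ UT))` is generated by
  `ker (Γ(T, US) → Γ(X, iX⁻¹ US))`.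
-/

set_option autoImplicit false
set_option linter.style.haveILetI false

universe u
open CategoryTheory CategoryTheory.Limits AlgebraicGeometry TensorProduct

namespace Groth.Agent.Lib.H5bKerFlat

section Algebra

variable (A B A' : Type u) [CommRing A] [CommRing B] [CommRing A'] [Algebra A B] [Algebra A A']

theorem ker_includeLeft_eq_map [Module.Flat A A'] :
    RingHom.ker (Algebra.TensorProduct.includeLeft : A' →ₐ[A] A' ⊗[A] B).toRingHom =
      (RingHom.ker (algebraMap A B)).map (algebraMap A A') := by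
  apply le_antisymm
  · intro a' ha'
    rw [RingHom.mem_ker] at ha'
    change (a' ⊗ₜ[A] (1 : B) : A' ⊗[A] B) = 0 at ha'
    let fl : A →ₗ[A] B := Algebra.linearMap A B
    have h1 : (LinearMap.lTensor A' fl) (a' ⊗ₜ[A] (1 : A)) = 0 := by
      rw [LinearMap.lTensor_tmul]
      change a' ⊗ₜ[A] (algebraMap A B 1) = 0
      rw [map_one]
      exact ha'
    have hex := Module.Flat.lTensor_exact A' (LinearMap.exact_subtype_ker_map fl)
    obtain ⟨z, hz⟩ := (hex _).1 h1
    have hK : LinearMap.ker fl = RingHom.ker (algebraMap A B) := by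
      ext r
      simp [fl, RingHom.mem_ker]
    have h3 := Groth.Agent.Lib.H5bIdealDescAlg.rid_lTensor_subtype_mem (A := A) (M := A')
      (LinearMap.ker fl) z
    rw [hz] at h3
    simpa [hK] using h3
  · rw [Ideal.map_le_iff_le_comap]
    intro k hk
    rw [RingHom.mem_ker] at hk
    rw [Ideal.mem_comap, RingHom.mem_ker]
    change (algebraMap A A' k ⊗ₜ[A] (1 : B) : A' ⊗[A] B) = 0
    rw [Algebra.algebraMap_eq_smul_one, TensorProduct.smul_tmul, ← Algebra.algebraMap_eq_smul_one,
      hk, TensorProduct.tmul_zero]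

end Algebra

section Pushout

theorem ker_inr_of_isPushout {A B A' P : CommRingCat.{u}} {f : A ⟶ B} {φ : A ⟶ A'} {inl : B ⟶ P}
    {inr : A' ⟶ P} (h : IsPushout f φ inl inr) (hφ : φ.hom.Flat) :
    RingHom.ker inr.hom = (RingHom.ker f.hom).map φ.hom := by
  letI := f.hom.toAlgebra
  letI := φ.hom.toAlgebra
  haveI : Module.Flat A A' := hφ
  have h' := (CommRingCat.isPushout_tensorProduct A A' B).flip
  have hf : CommRingCat.ofHom (algebraMap A B) = f := rfl
  have hφ' : CommRingCat.ofHom (algebraMap A A') = φ := rfl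
  rw [hf, hφ'] at h'
  let e := h.isoIsPushout _ _ h'
  have he : inr ≫ e.hom = CommRingCat.ofHom
      (Algebra.TensorProduct.includeLeftRingHom : A' →+* A' ⊗[A] B) :=
    h.inr_isoIsPushout_hom _ _ h'
  have hinj : Function.Injective e.hom.hom :=
    (ConcreteCategory.bijective_of_isIso e.hom).1
  have h1 : RingHom.ker inr.hom = RingHom.ker (inr ≫ e.hom).hom := by
    ext a
    rw [RingHom.mem_ker, RingHom.mem_ker, CommRingCat.hom_comp, RingHom.comp_apply]
    constructor
    · intro ha
      rw [ha, map_zero]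
    · intro ha
      exact hinj (by rw [ha, map_zero])
  rw [h1, he]
  exact ker_includeLeft_eq_map A B A'

end Pushout

section Scheme

variable {X Y T T' : Scheme.{u}} {f : T' ⟶ T} {g : Y ⟶ X} {iX : X ⟶ T} {iY : Y ⟶ T'}

theorem ker_app_eq_map_of_flat (H : IsPullback g iY iX f) [Flat f] {US : T.Opens} {UT : T'.Opens}
    (hUS : IsAffineOpen US) (hUT : IsAffineOpen UT) (hUST : UT ≤ f ⁻¹ᵁ US)
    (hc : IsCompact (X := X) (iX ⁻¹ᵁ US)) :
    RingHom.ker (iY.app UT).hom = (RingHom.ker (iX.app US).hom).map (f.appLE US UT hUST).hom := by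
  have hUY : iY ⁻¹ᵁ UT = g ⁻¹ᵁ (iX ⁻¹ᵁ US) ⊓ iY ⁻¹ᵁ UT := by
    apply le_antisymm
    · refine le_inf ?_ le_rfl
      rw [← Scheme.Hom.comp_preimage, H.w, Scheme.Hom.comp_preimage]
      exact Scheme.Hom.preimage_mono iY hUST
    · exact inf_le_right
  haveI := mono_pushoutSection_of_isCompact_of_flat_right H hUST (le_refl (iX ⁻¹ᵁ US)) hUY hUS hUT hc
  have hinj : Function.Injective (pushoutSection H hUST (le_refl (iX ⁻¹ᵁ US)) hUY).hom :=
    (ConcreteCategory.mono_iff_injective_of_preservesPullback _).1 inferInstance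
  have hcomp : pushout.inr _ _ ≫ pushoutSection H hUST (le_refl (iX ⁻¹ᵁ US)) hUY =
      iY.app UT := by
    rw [pushout.inr_desc]
    exact (Scheme.Hom.app_eq_appLE _).symm
  have h1 : RingHom.ker (iY.app UT).hom = RingHom.ker
      (pushout.inr (iX.appLE US (iX ⁻¹ᵁ US) le_rfl) (f.appLE US UT hUST)).hom := by
    ext a
    rw [RingHom.mem_ker, RingHom.mem_ker, ← hcomp, CommRingCat.hom_comp, RingHom.comp_apply]
    constructor
    · intro ha
      exact hinj (by rw [ha, map_zero])
    · intro ha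
      rw [ha, map_zero]
  rw [h1, ker_inr_of_isPushout (IsPushout.of_hasPushout _ _) (f.flat_appLE hUS hUT hUST)]
  rw [← Scheme.Hom.app_eq_appLE]

end Scheme

end Groth.Agent.Lib.H5bKerFlat
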