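import Mathlib
import Groth.Agent.Lib.H5bKerFlat
import Groth.Agent.Lib.H5bClosedSub
import Groth.Agent.Lib.Helper20EffCartier

/-!
# The kernel ideal sheaf of a morphism from a sheaf to a scheme (helper5)

For `φ : G ⟶ h_T` (`G` any fppf sheaf, `T` a scheme over `S`):
* `Kpre φ V`: the ideal of functions on the open `V` of `T` vanishing on all scheme points of `G`;
* `KerId φ`: the largest quasi-coherent ideal sheaf `I` on `T` such that every scheme point of `G`
  factors through `V(I)`;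
* `Covers φ x₀ V`: the scheme point `x₀ : h_{W₀} ⟶ G` covers `G` over `V` étale locally;
* `Kpre_eq_ker_of_covers`: then `Kpre φ V = ker (Γ(T, V) → Γ(W₀, a₀⁻¹ V))`;
* `QcOver φ`: over every affine open, `G` is covered by a quasi-compact scheme point;
* `KerId_ideal`: for `QcOver φ`, `(KerId φ).ideal V = Kpre φ V`;
* `KerId_comap_of_flat`: flat base change of the kernel ideal.
-/

set_option autoImplicit false
set_option linter.style.haveILetI false

universe u
open CategoryTheory CategoryTheory.Limits AlgebraicGeometry Opposite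

namespace Groth.Agent.Lib.H5bKerId

/-- a section over `O` vanishing after a flat morphism covering `O` is zero. -/
lemma eq_zero_of_flat_cover {A B : Scheme.{u}} (g : A ⟶ B) [Flat g] (O : B.Opens)
    (hO : (O : Set B) ⊆ Set.range g) (s : Γ(B, O)) (hs : (g.app O).hom s = 0) : s = 0 := by
  apply TopCat.Presheaf.section_ext B.sheaf O
  intro b hb
  obtain ⟨a, rfl⟩ := hO hb
  have hinj : Function.Injective (g.stalkMap a).hom := by
    have hfl : (g.stalkMap a).hom.Flat := Flat.stalkMap g a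
    have hloc : IsLocalHom (g.stalkMap a).hom := inferInstance
    algebraize [(g.stalkMap a).hom]
    have : IsLocalHom (algebraMap (B.presheaf.stalk (g a)) (A.presheaf.stalk a)) := hloc
    have : Module.FaithfullyFlat (B.presheaf.stalk (g a)) (A.presheaf.stalk a) :=
      Module.FaithfullyFlat.of_flat_of_isLocalHom
    exact FaithfulSMul.algebraMap_injective _ _
  apply hinj
  have h1 := Scheme.Hom.germ_stalkMap_apply g O a hb s
  have h2 : (g.stalkMap a).hom ((B.presheaf.germ O (g a) hb).hom s) = 0 := by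
    refine h1.trans ?_
    change (A.presheaf.germ (g ⁻¹ᵁ O) a hb).hom ((g.app O).hom s) = 0
    rw [hs, map_zero]
  have h3 : (g.stalkMap a).hom ((B.presheaf.germ O (g a) hb).hom 0) = 0 := by
    rw [map_zero, map_zero]
  exact h2.trans h3.symm

set_option backward.defeqAttrib.useBackward true in
set_option backward.isDefEq.respectTransparency false in
/-- compatibility of the section-wise kernel with basic opens, when the preimage of the affine open
is quasi-compact (copied from the proof of Mathlib's `Scheme.Hom.ker_apply`). -/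
lemma map_ker_app_basicOpen {X Y : Scheme.{u}} (f : X ⟶ Y) (U : Y.affineOpens)
    (hc : IsCompact (X := X) (f ⁻¹ᵁ U.1)) (s : Γ(Y, U)) :
    (RingHom.ker (f.app U).hom).map (Y.presheaf.map (homOfLE <| Y.basicOpen_le s).op).hom =
      RingHom.ker (f.app (Y.affineBasicOpen s)).hom := by
  apply le_antisymm
  · refine Ideal.map_le_iff_le_comap.mpr fun x hx ↦ ?_
    simp_rw [RingHom.comap_ker, ← CommRingCat.hom_comp, Scheme.affineBasicOpen_coe, f.naturality,
      CommRingCat.hom_comp, ← RingHom.comap_ker]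
    exact Ideal.ker_le_comap _ hx
  · intro x hx
    have := U.2.isLocalization_basicOpen s
    obtain ⟨x, ⟨_, n, rfl⟩, rfl⟩ := IsLocalization.exists_mk'_eq (.powers s) x
    refine (IsLocalization.mk'_mem_map_algebraMap_iff _ _ _ _ _).mpr ?_
    suffices ∃ (V : X.Opens) (hV : V = X.basicOpen ((f.app U).hom s)),
        letI := hV.trans_le (X.basicOpen_le _); ((f.app U).hom x |_ V) = 0 by
      obtain ⟨_, rfl, H⟩ := this
      obtain ⟨n, hn⟩ := exists_pow_mul_eq_zero_of_res_basicOpen_eq_zero_of_isCompact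
        X (U := f ⁻¹ᵁ U) hc (f.app U x) (f.app U s) H
      exact ⟨_, ⟨n, rfl⟩, by simpa using hn⟩
    refine ⟨f ⁻¹ᵁ Y.basicOpen s, by simp, ?_⟩
    replace hx : (Y.presheaf.map (homOfLE (Y.basicOpen_le s)).op ≫ f.app _).hom x = 0 := by
      trans (f.app (Y.basicOpen s)).hom (algebraMap Γ(Y, U) _ x)
      · simp [-NatTrans.naturality, RingHom.algebraMap_toAlgebra]
      · simp only [Scheme.affineBasicOpen_coe, RingHom.mem_ker] at hx
        rw [← IsLocalization.mk'_spec' (M := .powers s), map_mul, hx, mul_zero]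
    rwa [f.naturality] at hx

variable {S : Scheme.{u}} {G : AlgSp.Sp S} {T : Over S} (φ : G ⟶ (AlgSp.yon S).obj T)

/-- functions on `V` vanishing on all scheme points of `G`. -/
def Kpre (V : T.left.Opens) : Ideal Γ(T.left, V) where
  carrier := {t | ∀ (W : Over S) (x : (AlgSp.yon S).obj W ⟶ G) (a : W ⟶ T),
    x ≫ φ = (AlgSp.yon S).map a → (a.left.app V).hom t = 0}
  add_mem' := by
    intro s t hs ht W x a h
    rw [map_add, hs W x a h, ht W x a h, add_zero]
  zero_mem' := by
    intro W x a h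
    rw [map_zero]
  smul_mem' := by
    intro c t ht W x a h
    rw [smul_eq_mul, map_mul, ht W x a h, mul_zero]

lemma mem_Kpre {V : T.left.Opens} {t : Γ(T.left, V)} :
    t ∈ Kpre φ V ↔ ∀ (W : Over S) (x : (AlgSp.yon S).obj W ⟶ G) (a : W ⟶ T),
      x ≫ φ = (AlgSp.yon S).map a → (a.left.app V).hom t = 0 := Iff.rfl

/-- the kernel ideal sheaf of `φ`. -/
noncomputable def KerId : T.left.IdealSheafData :=
  sInf {J | ∃ (W : Over S) (x : (AlgSp.yon S).obj W ⟶ G) (a : W ⟶ T),
    x ≫ φ = (AlgSp.yon S).map a ∧ J = a.left.ker}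

lemma KerId_le {W : Over S} {x : (AlgSp.yon S).obj W ⟶ G} {a : W ⟶ T}
    (h : x ≫ φ = (AlgSp.yon S).map a) : KerId φ ≤ a.left.ker :=
  sInf_le ⟨W, x, a, h, rfl⟩

lemma le_KerId_iff {I : T.left.IdealSheafData} :
    I ≤ KerId φ ↔ ∀ (W : Over S) (x : (AlgSp.yon S).obj W ⟶ G) (a : W ⟶ T),
      x ≫ φ = (AlgSp.yon S).map a → I ≤ a.left.ker := by
  constructor
  · intro h W x a hx
    exact h.trans (KerId_le φ hx)
  · intro h
    apply le_sInf
    rintro J ⟨W, x, a, hx, rfl⟩
    exact h W x a hx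

lemma KerId_ideal_le (V : T.left.affineOpens) : (KerId φ).ideal V ≤ Kpre φ V.1 := by
  intro t ht W x a hx
  have h1 : (KerId φ).ideal V ≤ a.left.ker.ideal V := (KerId_le φ hx) V
  have h2 := Scheme.Hom.ideal_ker_le a.left V (h1 ht)
  exact h2

/-- the scheme point `x₀` covers `G` over the open `V` of `T`, flat locally. -/
def Covers {W₀ : Over S} (x₀ : (AlgSp.yon S).obj W₀ ⟶ G) (V : T.left.Opens) : Prop :=
  ∀ (W : Over S) (x : (AlgSp.yon S).obj W ⟶ G) (a : W ⟶ T), x ≫ φ = (AlgSp.yon S).map a →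
    ∃ (W₁ : Over S) (e : W₁ ⟶ W) (c : W₁ ⟶ W₀), Flat e.left ∧
      ((a.left ⁻¹ᵁ V : W.left.Opens) : Set W.left) ⊆ Set.range e.left ∧
      (AlgSp.yon S).map e ≫ x = (AlgSp.yon S).map c ≫ x₀

variable {φ}

lemma Covers.mono {W₀ : Over S} {x₀ : (AlgSp.yon S).obj W₀ ⟶ G} {V V' : T.left.Opens}
    (h : Covers φ x₀ V) (hV : V' ≤ V) : Covers φ x₀ V' := by
  intro W x a hx
  obtain ⟨W₁, e, c, he, hr, hc⟩ := h W x a hx
  exact ⟨W₁, e, c, he, fun w hw => hr (Scheme.Hom.preimage_mono a.left hV hw), hc⟩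

lemma app_app_eq_zero {A B B' C : Scheme.{u}} (e : A ⟶ B) (a : B ⟶ C) (c : A ⟶ B') (a₀ : B' ⟶ C)
    (h : e ≫ a = c ≫ a₀) (V : C.Opens) (t : Γ(C, V)) (ht : (a₀.app V).hom t = 0) :
    (e.app (a ⁻¹ᵁ V)).hom ((a.app V).hom t) = 0 := by
  have key : ∀ (m : A ⟶ C), m = c ≫ a₀ → (m.app V).hom t = 0 := by
    rintro _ rfl
    change (c.app _).hom ((a₀.app V).hom t) = 0
    rw [ht, map_zero]
  exact key (e ≫ a) h

lemma Kpre_eq_ker_of_covers {W₀ : Over S} {x₀ : (AlgSp.yon S).obj W₀ ⟶ G} {a₀ : W₀ ⟶ T}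
    (h₀ : x₀ ≫ φ = (AlgSp.yon S).map a₀) {V : T.left.Opens} (hc : Covers φ x₀ V) :
    Kpre φ V = RingHom.ker (a₀.left.app V).hom := by
  apply le_antisymm
  · intro t ht
    exact ht W₀ x₀ a₀ h₀
  · intro t ht W x a hx
    rw [RingHom.mem_ker] at ht
    obtain ⟨W₁, e, c, he, hr, hce⟩ := hc W x a hx
    haveI := he
    apply eq_zero_of_flat_cover e.left (a.left ⁻¹ᵁ V) hr
    have hcomm : e ≫ a = c ≫ a₀ := (AlgSp.yon S).map_injective (by
      rw [CategoryTheory.Functor.map_comp, CategoryTheory.Functor.map_comp, ← hx, ← h₀,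
        ← Category.assoc, hce, Category.assoc])
    have hcomm' : e.left ≫ a.left = c.left ≫ a₀.left := congrArg (fun m => m.left) hcomm
    exact app_app_eq_zero e.left a.left c.left a₀.left hcomm' V t ht

variable (φ)

/-- over every affine open of `T`, `G` is covered by a quasi-compact scheme point. -/
def QcOver : Prop :=
  ∀ V : T.left.affineOpens, ∃ (W₀ : Over S) (x₀ : (AlgSp.yon S).obj W₀ ⟶ G) (a₀ : W₀ ⟶ T),
    x₀ ≫ φ = (AlgSp.yon S).map a₀ ∧ CompactSpace W₀.left ∧ Set.range a₀.left ⊆ V.1 ∧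
      Covers φ x₀ V.1

variable {φ}

/-- the ideal sheaf with sections `Kpre`. -/
noncomputable def Ksh (hq : QcOver φ) : T.left.IdealSheafData where
  ideal V := Kpre φ V.1
  map_ideal_basicOpen := by
    intro U s
    obtain ⟨W₀, x₀, a₀, h₀, hcpt, hr, hcov⟩ := hq U
    have hcov' : Covers φ x₀ (T.left.affineBasicOpen s).1 := hcov.mono (T.left.basicOpen_le s)
    rw [Kpre_eq_ker_of_covers h₀ hcov, Kpre_eq_ker_of_covers h₀ hcov']
    refine map_ker_app_basicOpen a₀.left U ?_ s
    have : ((a₀.left ⁻¹ᵁ U.1 : W₀.left.Opens) : Set W₀.left) = Set.univ := by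
      ext w
      simp only [Set.mem_univ, iff_true]
      exact hr ⟨w, rfl⟩
    rw [this]
    exact isCompact_univ

theorem KerId_eq_Ksh (hq : QcOver φ) : KerId φ = Ksh hq := by
  apply le_antisymm
  · intro V
    exact KerId_ideal_le φ V
  · rw [le_KerId_iff]
    intro W x a hx
    rw [Scheme.Hom.ker, Scheme.IdealSheafData.le_ofIdeals_iff]
    intro V t ht
    exact ht W x a hx

theorem KerId_ideal (hq : QcOver φ) (V : T.left.affineOpens) :
    (KerId φ).ideal V = Kpre φ V.1 := by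
  rw [KerId_eq_Ksh hq]
  rfl

/-- an open of `T` over which `G` has no points misses the support of the kernel ideal. -/
theorem disjoint_support_of_forall_isEmpty (hq : QcOver φ) (O : T.left.Opens)
    (h : ∀ (W : Over S) (x : (AlgSp.yon S).obj W ⟶ G) (a : W ⟶ T),
      x ≫ φ = (AlgSp.yon S).map a → ∀ w : W.left, a.left w ∉ O) :
    Disjoint ((KerId φ).support : Set T.left) (O : Set T.left) := by
  rw [Set.disjoint_left]
  intro t hts htO
  obtain ⟨_, ⟨V, hV, rfl⟩, htV, hVO⟩ :=
    T.left.isBasis_affineOpens.exists_subset_of_mem_open htO O.2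
  have htop : (KerId φ).ideal ⟨V, hV⟩ = ⊤ := by
    rw [KerId_ideal hq, Ideal.eq_top_iff_one]
    intro W x a hx
    apply TopCat.Presheaf.section_ext W.left.sheaf (a.left ⁻¹ᵁ V)
    intro w hw
    exact absurd (hVO hw) (h W x a hx w)
  have h1 : t ∈ ((KerId φ).support : Set T.left) ∩ (V : Set T.left) := ⟨hts, htV⟩
  rw [Scheme.IdealSheafData.coe_support_inter (KerId φ) ⟨V, hV⟩, htop] at h1
  have h2 : t ∈ T.left.zeroLocus (U := V) (Set.univ : Set Γ(T.left, V)) := h1.1
  rw [Scheme.zeroLocus_univ] at h2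
  exact h2 htV

/-- flat base change of the kernel ideal. -/
theorem KerId_comap_of_flat {G' : AlgSp.Sp S} {T' : Over S}
    (φ' : G' ⟶ (AlgSp.yon S).obj T') (π : G' ⟶ G) (ρ : T' ⟶ T)
    (sq : IsPullback π φ' φ ((AlgSp.yon S).map ρ)) [Flat ρ.left] (hq : QcOver φ) :
    KerId φ' = (KerId φ).comap ρ.left := by
  apply le_antisymm
  · let ι : Type u := {p : T'.left.affineOpens × T.left.affineOpens // p.1.1 ≤ ρ.left ⁻¹ᵁ p.2.1}
    refine Scheme.IdealSheafData.le_of_iSup_eq_top (ι := ι) (fun i => i.1.1) ?_ ?_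
    · rw [eq_top_iff]
      intro t' _
      obtain ⟨_, ⟨V, hV, rfl⟩, htV, -⟩ := T.left.isBasis_affineOpens.exists_subset_of_mem_open
        (Set.mem_univ (ρ.left t')) isOpen_univ
      obtain ⟨_, ⟨U', hU', rfl⟩, htU, hUV⟩ := T'.left.isBasis_affineOpens.exists_subset_of_mem_open
        (show t' ∈ ((ρ.left ⁻¹ᵁ V : T'.left.Opens) : Set T'.left) from htV) (ρ.left ⁻¹ᵁ V).2
      exact TopologicalSpace.Opens.mem_iSup.mpr ⟨⟨⟨⟨U', hU'⟩, ⟨V, hV⟩⟩, hUV⟩, htU⟩
    · rintro ⟨⟨U', V⟩, hUV⟩
      change (KerId φ').ideal U' ≤ ((KerId φ).comap ρ.left).ideal U'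
      obtain ⟨W₀, x₀, a₀, h₀, hcpt, hr, hcov⟩ := hq V
      -- the base change of the covering point
      let Y : Over S := Over.mk (pullback.snd a₀.left ρ.left ≫ T'.hom)
      let g' : Y ⟶ T' := Over.homMk (pullback.snd a₀.left ρ.left) rfl
      let pr : Y ⟶ W₀ := Over.homMk (pullback.fst a₀.left ρ.left) (by
        change pullback.fst a₀.left ρ.left ≫ W₀.hom = pullback.snd a₀.left ρ.left ≫ T'.hom
        rw [← Over.w a₀, ← Over.w ρ, ← Category.assoc, ← Category.assoc, pullback.condition])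
      have hpr : pr ≫ a₀ = g' ≫ ρ := Over.OverMorphism.ext pullback.condition
      let xY : (AlgSp.yon S).obj Y ⟶ G' := sq.lift ((AlgSp.yon S).map pr ≫ x₀) ((AlgSp.yon S).map g')
        (by rw [Category.assoc, h₀, ← CategoryTheory.Functor.map_comp, hpr,
          CategoryTheory.Functor.map_comp])
      have hxY : xY ≫ φ' = (AlgSp.yon S).map g' := sq.lift_snd _ _ _
      have hc : IsCompact (X := W₀.left) (a₀.left ⁻¹ᵁ V.1) := by
        have : ((a₀.left ⁻¹ᵁ V.1 : W₀.left.Opens) : Set W₀.left) = Set.univ := by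
          ext w
          simp only [Set.mem_univ, iff_true]
          exact hr ⟨w, rfl⟩
        rw [this]
        exact isCompact_univ
      have key := Groth.Agent.Lib.H5bKerFlat.ker_app_eq_map_of_flat
        (IsPullback.of_hasPullback a₀.left ρ.left) V.2 U'.2 hUV hc
      intro t ht
      have h1 : t ∈ Kpre φ' U'.1 := KerId_ideal_le φ' U' ht
      have h2 : t ∈ RingHom.ker (g'.left.app U'.1).hom := h1 Y xY g' hxY
      rw [Groth.Agent.Lib.Helper20.EffCartier.ideal_comap_eq_map ρ.left (KerId φ) U'.2 V.2 hUV,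
        KerId_ideal hq V, Kpre_eq_ker_of_covers h₀ hcov, ← key]
      exact h2
  · rw [le_KerId_iff]
    intro W x' a' hx'
    rw [← Scheme.IdealSheafData.le_map_iff_comap_le, Scheme.IdealSheafData.map_ker]
    refine KerId_le φ (x := x' ≫ π) (a := a' ≫ ρ) ?_
    rw [Category.assoc, sq.w, ← Category.assoc, hx', CategoryTheory.Functor.map_comp]

end Groth.Agent.Lib.H5bKerId
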