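import Mathlib
import Groth.Prelude.Def_AlgSp
import Groth.Agent.S9897
import Groth.Agent.S9893

/-!
# Extension by the empty set for fppf sheaves (helper5)

For `g : S ⟶ S'`, sheaves over `S` correspond to sheaves over `S'` with a map to `h_S`.

* `xiSub`: for a presheaf `P` over `S'` with a map `π` to `h_S`, the presheaf over `S` of sections
  of `P` lying over the structure maps;
* `isSheaf_of_xi`: `P` is a sheaf as soon as `xiSub` is one.
-/

set_option autoImplicit false
set_option linter.style.haveILetI false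
universe u

namespace Groth.Agent.Lib.H5bShriek

open CategoryTheory CategoryTheory.Limits AlgebraicGeometry Opposite MorphismProperty
open Groth.Agent.S13210 Groth.Agent.S9897 Groth.Agent.S9893

variable {S S' : Scheme.{u}} (g : S ⟶ S')

/-- `h_S` over `S'`. -/
noncomputable abbrev hS : AlgSp.Sp S' := (AlgSp.yon S').obj (Over.mk g)

lemma map_tau {T T₂ : Over S} (f : T₂ ⟶ T) : (Over.map g).map f ≫ tau g T = tau g T₂ := by
  apply Over.OverMorphism.ext
  show f.left ≫ T.hom = T₂.hom
  exact Over.w f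

/-- the canonical isomorphism `T'_t/S' ≅ T'`. -/
noncomputable def isoOfHom {T' : Over S'} (t : T' ⟶ Over.mk g) :
    (Over.map g).obj (Over.mk t.left) ≅ T' :=
  Over.isoMk (Iso.refl _) (by
    show 𝟙 _ ≫ T'.hom = t.left ≫ g
    rw [Category.id_comp]
    exact (Over.w t).symm)

lemma isoOfHom_hom_comp {T' : Over S'} (t : T' ⟶ Over.mk g) :
    (isoOfHom g t).hom ≫ t = tau g (Over.mk t.left) := by
  apply Over.OverMorphism.ext
  show 𝟙 _ ≫ t.left = t.left
  exact Category.id_comp _

lemma isoOfHom_inv_comp {T' : Over S'} (t : T' ⟶ Over.mk g) :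
    (isoOfHom g t).inv ≫ tau g (Over.mk t.left) = t := by
  rw [Iso.inv_comp_eq, isoOfHom_hom_comp]

section Xi

variable (P : (Over S')ᵒᵖ ⥤ Type (u + 1)) (π : P ⟶ (hS g).obj)

/-- sections of `P` over `T/S'` lying over the structure map of `T`. -/
def xiSub : Subfunctor ((Over.map g).op ⋙ P) where
  obj T := {x | π.app (op ((Over.map g).obj T.unop)) x = ULift.up (tau g T.unop)}
  map := by
    intro T T₂ f x hx
    show π.app _ (P.map ((Over.map g).map f.unop).op x) = ULift.up (tau g T₂.unop)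
    rw [NatTrans.naturality_apply]
    have hx' : π.app (op ((Over.map g).obj T.unop)) x = ULift.up (tau g T.unop) := hx
    rw [hx']
    show ULift.up ((Over.map g).map f.unop ≫ tau g T.unop) = _
    rw [map_tau]

lemma mc {C : Type*} [Category C] (P : Cᵒᵖ ⥤ Type (u + 1)) {X Y Z : C} (f : X ⟶ Y) (h : Y ⟶ Z)
    (a : P.obj (op Z)) : P.map f.op (P.map h.op a) = P.map (f ≫ h).op a := by
  simp

lemma mid {C : Type*} [Category C] (P : Cᵒᵖ ⥤ Type (u + 1)) {X : C} (a : P.obj (op X)) :
    P.map (𝟙 X).op a = a := by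
  simp

lemma map_iso_injective {C : Type*} [Category C] (P : Cᵒᵖ ⥤ Type (u + 1)) {X Y : C} (e : X ≅ Y) :
    Function.Injective (P.map e.hom.op) :=
  Function.LeftInverse.injective (g := P.map e.inv.op) (fun a => by
    rw [mc, e.inv_hom_id, mid])

lemma fam_congr {C : Type*} [Category C] {P : Cᵒᵖ ⥤ Type (u + 1)} {X : C} {R : Sieve X}
    (x : Presieve.FamilyOfElements P R.arrows) {Y : C} {f₁ f₂ : Y ⟶ X} (h : f₁ = f₂)
    (h₁ : R f₁) (h₂ : R f₂) : x f₁ h₁ = x f₂ h₂ := by
  subst h; rfl

/-- a presheaf over `S'` with a map to `h_S` whose restriction over `S` is a sheaf is a sheaf. -/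
theorem isSheaf_of_xi (hP : Presieve.IsSheaf (AlgSp.J S) (xiSub g P π).toFunctor) :
    Presieve.IsSheaf (AlgSp.J S') P := by
  intro T' R hR (x : Presieve.FamilyOfElements P R.arrows) (hx : x.Compatible)
  have hsh : Presieve.IsSheaf (AlgSp.J S') (hS g).obj :=
    (isSheaf_iff_isSheaf_of_type _ _).1 (hS g).property
  -- glue the structure maps
  obtain ⟨⟨t⟩, ht, htu⟩ := hsh R hR (x.map π) (hx.map π)
  have ht' : ∀ {V : Over S'} (f : V ⟶ T') (hf : R f), π.app _ (x f hf) = ULift.up (f ≫ t) :=
    fun f hf => (ht f hf).symm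
  let T : Over S := Over.mk t.left
  let ι : (Over.map g).obj T ≅ T' := isoOfHom g t
  have hιt : ι.hom ≫ t = tau g T := isoOfHom_hom_comp g t
  let R' : Sieve ((Over.map g).obj T) := R.pullback ι.hom
  have hR' : R' ∈ AlgSp.J S' _ := (AlgSp.J S').pullback_stable ι.hom hR
  let R_S : Sieve T := R'.functorPullback (Over.map g)
  have hR_S : R_S ∈ AlgSp.J S T := Functor.cover_lift (Over.map g) (AlgSp.J S) (AlgSp.J S') hR'
  let z : Presieve.FamilyOfElements (xiSub g P π).toFunctor R_S.arrows := fun V f₀ hf₀ =>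
    ⟨x ((Over.map g).map f₀ ≫ ι.hom) hf₀, by
      show π.app _ (x ((Over.map g).map f₀ ≫ ι.hom) hf₀) = ULift.up (tau g V)
      rw [ht', Category.assoc, hιt, map_tau]⟩
  have hz : z.Compatible := by
    intro Y₁ Y₂ Z g₁ g₂ f₁ f₂ h₁ h₂ e
    apply Subtype.ext
    show P.map ((Over.map g).map g₁).op (x ((Over.map g).map f₁ ≫ ι.hom) h₁) =
      P.map ((Over.map g).map g₂).op (x ((Over.map g).map f₂ ≫ ι.hom) h₂)
    apply hx
    rw [← Category.assoc, ← Category.assoc, ← CategoryTheory.Functor.map_comp,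
      ← CategoryTheory.Functor.map_comp, e]
  obtain ⟨⟨w, hw⟩, hwa, hwu⟩ := hP R_S hR_S z hz
  have hwa' : ∀ {V : Over S} (f₀ : V ⟶ T) (h : R_S f₀),
      P.map ((Over.map g).map f₀).op w = x ((Over.map g).map f₀ ≫ ι.hom) h := fun f₀ h =>
    congrArg Subtype.val (hwa f₀ h)
  refine ⟨P.map ι.inv.op w, ?_, ?_⟩
  · intro V' f hf
    let V : Over S := Over.mk (f.left ≫ t.left)
    let κ : (Over.map g).obj V ≅ V' := isoOfHom g (f ≫ t)
    let f₀ : V ⟶ T := Over.homMk f.left rfl
    have hκ : (Over.map g).map f₀ ≫ ι.hom = κ.hom ≫ f := by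
      apply Over.OverMorphism.ext
      show f.left ≫ 𝟙 _ = 𝟙 _ ≫ f.left
      rw [Category.comp_id, Category.id_comp]
    have hκ' : κ.hom ≫ f ≫ ι.inv = (Over.map g).map f₀ := by
      rw [← Category.assoc, ← hκ, Category.assoc, Iso.hom_inv_id, Category.comp_id]
    have hR1 : R (κ.hom ≫ f) := R.downward_closed hf κ.hom
    have hR2 : R_S f₀ := by
      show R ((Over.map g).map f₀ ≫ ι.hom)
      rw [hκ]; exact hR1
    have h1 := hwa' f₀ hR2
    rw [fam_congr x hκ hR2 hR1, Presieve.FamilyOfElements.comp_of_compatible R hx hf κ.hom] at h1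
    apply map_iso_injective P κ
    rw [← h1, mc, mc, Category.assoc, hκ']
  · intro s hs
    have hπs : π.app _ s = ULift.up t := by
      apply htu
      intro V f hf
      show (hS g).obj.map f.op (π.app _ s) = π.app _ (x f hf)
      rw [← hs f hf, NatTrans.naturality_apply]
    have hw' : P.map ι.hom.op s ∈ (xiSub g P π).obj (op T) := by
      show π.app _ (P.map ι.hom.op s) = ULift.up (tau g T)
      rw [NatTrans.naturality_apply, hπs]
      show ULift.up (ι.hom ≫ t) = _
      rw [hιt]
    have h1 : (⟨P.map ι.hom.op s, hw'⟩ : (xiSub g P π).toFunctor.obj (op T)) = ⟨w, hw⟩ := by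
      apply hwu
      intro V f₀ hf₀
      apply Subtype.ext
      show P.map ((Over.map g).map f₀).op (P.map ι.hom.op s) = x ((Over.map g).map f₀ ≫ ι.hom) hf₀
      rw [mc]
      exact hs _ hf₀
    have h2 : P.map ι.hom.op s = w := congrArg Subtype.val h1
    rw [← h2, mc, Iso.inv_hom_id, mid]

end Xi

lemma map_eq_self (F : AlgSp.Sp S) {A : Over S} (p : A ⟶ A) (hp : p.left = 𝟙 _)
    (x : F.obj.obj (op A)) : F.obj.map p.op x = x := by
  have : p = 𝟙 A := Over.OverMorphism.ext hp
  rw [this]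
  exact mid F.obj x

lemma map_map_eq (F : AlgSp.Sp S) {A B C : Over S} (p : A ⟶ B) (q : B ⟶ C) (r : A ⟶ C)
    (h : p.left ≫ q.left = r.left) (x : F.obj.obj (op C)) :
    F.obj.map p.op (F.obj.map q.op x) = F.obj.map r.op x := by
  have : p ≫ q = r := Over.OverMorphism.ext h
  rw [← this]
  exact mc F.obj p q x

noncomputable section J

variable (F : AlgSp.Sp S)

/-- sections of the extension by the empty set of `F`: a structure map to `S` and a section of
`F`. -/
structure JSec (T' : Over S') where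
  /-- the structure map -/
  t : T' ⟶ Over.mk g
  /-- the section -/
  x : F.obj.obj (op (Over.mk t.left))

variable {g F}

lemma JSec.ext' {T' : Over S'} {a b : JSec g F T'} (h : a.t = b.t)
    (hx : F.obj.map (Over.homMk (𝟙 _) (by rw [h]; exact Category.id_comp _) :
      Over.mk b.t.left ⟶ Over.mk a.t.left).op a.x = b.x) : a = b := by
  obtain ⟨t, x⟩ := a
  obtain ⟨t', x'⟩ := b
  dsimp only at h
  subst h
  have : (Over.homMk (𝟙 _) (Category.id_comp _) : Over.mk t.left ⟶ Over.mk t.left) = 𝟙 _ := rfl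
  dsimp only at hx
  rw [this, mid] at hx
  rw [hx]

/-- restriction of sections. -/
abbrev JSec.res {T' T'' : Over S'} (f : T'' ⟶ T') (a : JSec g F T') : JSec g F T'' :=
  ⟨f ≫ a.t, F.obj.map (Over.homMk f.left rfl : Over.mk (f ≫ a.t).left ⟶ Over.mk a.t.left).op a.x⟩

lemma JSec.res_id {T' : Over S'} (a : JSec g F T') : a.res (𝟙 T') = a := by
  refine JSec.ext' (Category.id_comp _) ?_
  show F.obj.map _ (F.obj.map _ a.x) = a.x
  rw [mc]
  exact mid F.obj a.x

lemma JSec.res_comp {T₁ T₂ T₃ : Over S'} (f' : T₃ ⟶ T₂) (f : T₂ ⟶ T₁) (a : JSec g F T₁) :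
    a.res (f' ≫ f) = (a.res f).res f' := by
  refine JSec.ext' (Category.assoc _ _ _) ?_
  show F.obj.map _ (F.obj.map _ a.x) = F.obj.map _ (F.obj.map _ a.x)
  rw [mc, mc]
  rfl

variable (g F)

/-- the extension by the empty set, as a presheaf. -/
def JPre : (Over S')ᵒᵖ ⥤ Type (u + 1) where
  obj T' := JSec g F T'.unop
  map f := ↾fun a => a.res f.unop
  map_id T' := by
    ext a : 3
    exact JSec.res_id a
  map_comp f f' := by
    ext a : 3
    exact JSec.res_comp f'.unop f.unop a
/-- the structure map of the extension by the empty set. -/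
def piJ : JPre g F ⟶ (hS g).obj where
  app T' := ↾fun a => ULift.up a.t
  naturality _ _ _ := rfl

variable {g F}

lemma t_eq_of_mem {T : Over S} {a : JSec g F ((Over.map g).obj T)}
    (ha : a ∈ (xiSub g (JPre g F) (piJ g F)).obj (op T)) : a.t = tau g T :=
  congrArg ULift.down ha

lemma left_eq_of_mem {T : Over S} {a : JSec g F ((Over.map g).obj T)}
    (ha : a ∈ (xiSub g (JPre g F) (piJ g F)).obj (op T)) : 𝟙 T.left ≫ a.t.left = T.hom := by
  rw [t_eq_of_mem ha, Category.id_comp]
  rfl

variable (g F)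

/-- sections of the extension by the empty set lying over the structure map are sections of
`F`. -/
def xiEquiv (T : Over S) :
    (xiSub g (JPre g F) (piJ g F)).toFunctor.obj (op T) ≃ F.obj.obj (op T) where
  toFun a := F.obj.map (Over.homMk (𝟙 T.left) (left_eq_of_mem a.2) : T ⟶ Over.mk a.1.t.left).op a.1.x
  invFun x := ⟨⟨tau g T, x⟩, rfl⟩
  left_inv := by
    rintro ⟨a, ha⟩
    apply Subtype.ext
    refine JSec.ext' (t_eq_of_mem ha).symm ?_
    refine (map_map_eq F _ _ (𝟙 _) ?_ a.x).trans (mid F.obj a.x)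
    exact Category.comp_id _
  right_inv x := map_eq_self F _ rfl x

lemma xiEquiv_naturality {T T₂ : Over S} (f : T₂ ⟶ T)
    (a : (xiSub g (JPre g F) (piJ g F)).toFunctor.obj (op T)) :
    xiEquiv g F T₂ ((xiSub g (JPre g F) (piJ g F)).toFunctor.map f.op a) =
      F.obj.map f.op (xiEquiv g F T a) := by
  obtain ⟨a, ha⟩ := a
  let r : T₂ ⟶ Over.mk a.t.left := Over.homMk f.left (by
    show f.left ≫ a.t.left = T₂.hom
    rw [t_eq_of_mem ha]; exact Over.w f)
  refine (map_map_eq F _ _ r ?_ a.x).trans (map_map_eq F _ _ r ?_ a.x).symm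
  · exact Category.id_comp _
  · exact Category.comp_id _

/-- the restriction of the extension by the empty set is `F`. -/
def xiIso : (xiSub g (JPre g F) (piJ g F)).toFunctor ≅ F.obj :=
  NatIso.ofComponents (fun T => (xiEquiv g F T.unop).toIso) (by
    intro T T₂ f
    ext a : 3
    exact xiEquiv_naturality g F f.unop a)

theorem JPre_isSheaf : Presheaf.IsSheaf (AlgSp.J S') (JPre g F) := by
  rw [isSheaf_iff_isSheaf_of_type]
  apply isSheaf_of_xi g (JPre g F) (piJ g F)
  exact Presieve.isSheaf_iso (AlgSp.J S) (xiIso g F).symm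
    ((isSheaf_iff_isSheaf_of_type _ _).1 F.property)

/-- the extension by the empty set, as a sheaf. -/
def JSh : AlgSp.Sp S' := ⟨JPre g F, JPre_isSheaf g F⟩

/-- the structure map to `h_S`. -/
def piSh : JSh g F ⟶ hS g := ObjectProperty.homMk (piJ g F)


/-- the unit `F ⟶ j⁻¹ j_! F`. -/
def unitJ : F ⟶ (Φ g).obj (JSh g F) :=
  ObjectProperty.homMk
    { app := fun T => ↾fun x => (⟨tau g T.unop, x⟩ : JSec g F ((Over.map g).obj T.unop))
      naturality := by
        intro T T₂ f
        ext x : 3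
        symm
        refine JSec.ext' (map_tau g f.unop) ?_
        exact map_map_eq F _ _ f.unop (Category.id_comp _) x }

lemma unitJ_app {T : Over S} (x : F.obj.obj (op T)) :
    (unitJ g F).hom.app (op T) x = (⟨tau g T, x⟩ : JSec g F ((Over.map g).obj T)) := rfl

lemma unitJ_injective {T : Over S} (x y : F.obj.obj (op T))
    (h : (unitJ g F).hom.app (op T) x = (unitJ g F).hom.app (op T) y) : x = y := by
  rw [unitJ_app, unitJ_app] at h
  exact eq_of_heq (JSec.mk.inj h).2

/-- every section is the restriction of a section in the image of the unit. -/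
lemma JSec.eq_res {T' : Over S'} (a : JSec g F T') :
    a = (⟨tau g (Over.mk a.t.left), a.x⟩ : JSec g F _).res (isoOfHom g a.t).inv := by
  symm
  refine JSec.ext' (isoOfHom_inv_comp g a.t) ?_
  refine (map_map_eq F _ _ (𝟙 _) ?_ a.x).trans (mid F.obj a.x)
  exact Category.comp_id _

lemma JSec.res_iso {T' : Over S'} (a : JSec g F T') :
    a.res (isoOfHom g a.t).hom = (⟨tau g (Over.mk a.t.left), a.x⟩ : JSec g F _) := by
  refine JSec.ext' (isoOfHom_hom_comp g a.t) ?_
  refine (map_map_eq F _ _ (𝟙 _) ?_ a.x).trans (mid F.obj a.x)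
  exact Category.comp_id _

end J

end Groth.Agent.Lib.H5bShriek
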