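import Mathlib
import Groth.Agent.Lib.H5bKerId
import Groth.Agent.S9964
import Groth.Agent.S10180
import Groth.Agent.Lib.H5bAtlasDesc
import Groth.Agent.Lib.Helper15ImmQc
import Groth.Agent.S9874

/-!
# Scheme theoretic image of a quasi-compact morphism of algebraic spaces, on charts (helper5)
-/

set_option autoImplicit false
set_option linter.style.haveILetI false

universe u
open CategoryTheory CategoryTheory.Limits AlgebraicGeometry Opposite

namespace Groth.Agent.Lib.H5bSchIm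

open Groth.Agent.S13210 Groth.Agent.Lib.H5bKerId Groth.Agent.Lib.H5bClosedSub
  Groth.Agent.Lib.H5bIdealDesc

variable {S : Scheme.{u}}

section General

/-- factoring through a monomorphism of sheaves can be checked on scheme points. -/
theorem exists_lift_of_points {A B C : AlgSp.Sp S} (m : B ⟶ C) [Mono m] (g : A ⟶ C)
    (h : ∀ (T : Over S) (x : (AlgSp.yon S).obj T ⟶ A),
      ∃ y : (AlgSp.yon S).obj T ⟶ B, y ≫ m = x ≫ g) :
    ∃ k : A ⟶ B, k ≫ m = g := by
  have hex : ∀ (T : (Over S)ᵒᵖ) (a : A.obj.obj T),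
      ∃ b : B.obj.obj T, m.hom.app T b = g.hom.app T a := by
    rintro ⟨T⟩ a
    obtain ⟨y, hy⟩ := h T ((yEquiv T A).symm a)
    refine ⟨yEquiv T B y, ?_⟩
    rw [← yEquiv_comp, hy, yEquiv_comp, Equiv.apply_symm_apply]
  choose k hk using hex
  refine ⟨ObjectProperty.homMk { app := fun T => ↾fun a => k T a, naturality := ?_ }, ?_⟩
  · intro T T₂ φ
    ext a : 3
    obtain ⟨T⟩ := T
    obtain ⟨T₂⟩ := T₂
    apply Groth.Agent.S9964.app_injective_of_mono m T₂
    change m.hom.app _ (k _ (A.obj.map φ a)) = m.hom.app _ (B.obj.map φ (k _ a))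
    rw [hk, NatTrans.naturality_apply, NatTrans.naturality_apply, hk]
  · apply ObjectProperty.hom_ext
    ext T a
    exact hk T a

/-- monomorphisms into `C` through which the same scheme points factor are isomorphic over `C`. -/
theorem exists_iso_of_points {B B' C : AlgSp.Sp S} (m : B ⟶ C) [Mono m] (m' : B' ⟶ C) [Mono m']
    (h : ∀ (T : Over S) (ξ : (AlgSp.yon S).obj T ⟶ C),
      (∃ y : (AlgSp.yon S).obj T ⟶ B, y ≫ m = ξ) ↔ (∃ y' : (AlgSp.yon S).obj T ⟶ B', y' ≫ m' = ξ)) :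
    ∃ e : B ≅ B', e.hom ≫ m' = m := by
  obtain ⟨k, hk⟩ := exists_lift_of_points m' m (fun T x => (h T (x ≫ m)).1 ⟨x, rfl⟩)
  obtain ⟨k', hk'⟩ := exists_lift_of_points m m' (fun T x => (h T (x ≫ m')).2 ⟨x, rfl⟩)
  refine ⟨⟨k, k', ?_, ?_⟩, hk⟩
  · rw [← cancel_mono m, Category.assoc, hk', hk, Category.id_comp]
  · rw [← cancel_mono m', Category.assoc, hk, hk', Category.id_comp]

end General

section Kc

variable {F Y : AlgSp.Sp S} (f : F ⟶ Y) {U : Over S} (q : (AlgSp.yon S).obj U ⟶ Y)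

/-- the kernel ideal on the chart `U` of `Y` of the base change of `f`. -/
noncomputable def Kc : U.left.IdealSheafData := KerId (pullback.snd f q)

lemma Kc_le {W : Over S} (x : (AlgSp.yon S).obj W ⟶ F) (b : W ⟶ U)
    (h : x ≫ f = (AlgSp.yon S).map b ≫ q) : Kc f q ≤ b.left.ker :=
  KerId_le (pullback.snd f q) (x := pullback.lift x ((AlgSp.yon S).map b) h) (pullback.lift_snd _ _ _)

lemma le_Kc_iff {I : U.left.IdealSheafData} :
    I ≤ Kc f q ↔ ∀ (W : Over S) (x : (AlgSp.yon S).obj W ⟶ F) (b : W ⟶ U),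
      x ≫ f = (AlgSp.yon S).map b ≫ q → I ≤ b.left.ker := by
  constructor
  · intro h W x b hx
    exact h.trans (Kc_le f q x b hx)
  · intro h
    refine (le_KerId_iff (pullback.snd f q)).2 ?_
    intro W x a hx
    refine h W (x ≫ pullback.fst f q) a ?_
    rw [Category.assoc, pullback.condition, ← Category.assoc, hx]

variable {f q}

/-- a quasi-compact morphism of algebraic spaces satisfies `QcOver` on every chart. -/
theorem qcOver_of_isQuasiCompactMor (hf : AlgSp.IsQuasiCompactMor f) : QcOver (pullback.snd f q) := by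
  intro V
  let V' : Over S := Over.mk (V.1.ι ≫ U.hom)
  let j : V' ⟶ U := Over.homMk V.1.ι rfl
  haveI : IsAffine V'.left := V.2
  have hqcV : AlgSp.IsQuasiCompactSp ((AlgSp.yon S).obj V') :=
    ⟨V', 𝟙 _, AlgSp.repWith_id _ _, AlgSp.repWith_id _ _, inferInstance⟩
  have hP : AlgSp.IsQuasiCompactSp (pullback f ((AlgSp.yon S).map j ≫ q)) :=
    hf (AlgSp.IsAlgSpace.yon_obj V') hqcV ((AlgSp.yon S).map j ≫ q) _ _
      (IsPullback.of_hasPullback f ((AlgSp.yon S).map j ≫ q))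
  obtain ⟨W₀, p₀, hW₀, hp₀e, hp₀s⟩ := Groth.Agent.S10180.exists_affine_chart hP
  let lf : pullback f ((AlgSp.yon S).map j ≫ q) ⟶ pullback f q :=
    pullback.lift (pullback.fst _ _) (pullback.snd _ _ ≫ (AlgSp.yon S).map j)
      (by rw [pullback.condition, Category.assoc])
  obtain ⟨a₀', ha₀'⟩ := (AlgSp.yon S).map_surjective (p₀ ≫ pullback.snd f ((AlgSp.yon S).map j ≫ q))
  refine ⟨W₀, p₀ ≫ lf, a₀' ≫ j, ?_, ?_, ?_, ?_⟩
  · rw [Category.assoc, pullback.lift_snd, ← Category.assoc, ← ha₀', CategoryTheory.Functor.map_comp]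
  · haveI := hW₀
    infer_instance
  · rintro _ ⟨w, rfl⟩
    change (a₀'.left ≫ V.1.ι) w ∈ V.1
    rw [Scheme.Hom.comp_apply]
    exact (a₀'.left w).2
  · intro W x a hx
    -- restrict to the preimage of `V`
    let O : W.left.Opens := a.left ⁻¹ᵁ V.1
    let WO : Over S := Over.mk (O.ι ≫ W.hom)
    let ιO : WO ⟶ W := Over.homMk O.ι rfl
    have hrange : Set.range (O.ι ≫ a.left) ⊆ Set.range V.1.ι := by
      rintro _ ⟨w, rfl⟩
      rw [Scheme.Opens.range_ι]
      exact w.2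
    let ar₀ : O.toScheme ⟶ V.1.toScheme := IsOpenImmersion.lift V.1.ι (O.ι ≫ a.left) hrange
    have har₀ : ar₀ ≫ V.1.ι = O.ι ≫ a.left := IsOpenImmersion.lift_fac _ _ _
    let ar : WO ⟶ V' := Over.homMk ar₀ (by
      change ar₀ ≫ V.1.ι ≫ U.hom = O.ι ≫ W.hom
      rw [← Category.assoc, har₀, Category.assoc, Over.w a])
    have har : ar ≫ j = ιO ≫ a := Over.OverMorphism.ext har₀
    let pt : (AlgSp.yon S).obj WO ⟶ pullback f ((AlgSp.yon S).map j ≫ q) :=
      pullback.lift ((AlgSp.yon S).map ιO ≫ x ≫ pullback.fst f q) ((AlgSp.yon S).map ar) (by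
        rw [Category.assoc, Category.assoc, pullback.condition, ← Category.assoc x, hx,
          ← Category.assoc, ← Category.assoc, ← CategoryTheory.Functor.map_comp, ← har,
          CategoryTheory.Functor.map_comp, Category.assoc])
    obtain ⟨W₁, e₁, c', sq⟩ := hp₀e.1 pt
    obtain ⟨c, rfl⟩ := (AlgSp.yon S).map_surjective c'
    haveI : Etale e₁.left := hp₀e.2 pt _ e₁ sq
    haveI : Surjective e₁.left := hp₀s.2 pt _ e₁ sq
    refine ⟨W₁, e₁ ≫ ιO, c, ?_, ?_, ?_⟩
    · change Flat (e₁.left ≫ O.ι)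
      infer_instance
    · intro w hw
      obtain ⟨w₁, hw₁⟩ := e₁.left.surjective (⟨w, hw⟩ : O.toScheme)
      refine ⟨w₁, ?_⟩
      change (e₁.left ≫ O.ι) w₁ = w
      rw [Scheme.Hom.comp_apply, hw₁]
      rfl
    · have h1 := sq.w
      have hpt1 : pt ≫ pullback.fst f ((AlgSp.yon S).map j ≫ q) =
          (AlgSp.yon S).map ιO ≫ x ≫ pullback.fst f q := pullback.lift_fst _ _ _
      have hpt2 : pt ≫ pullback.snd f ((AlgSp.yon S).map j ≫ q) = (AlgSp.yon S).map ar :=
        pullback.lift_snd _ _ _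
      have hlf1 : lf ≫ pullback.fst f q = pullback.fst f ((AlgSp.yon S).map j ≫ q) :=
        pullback.lift_fst _ _ _
      have hlf2 : lf ≫ pullback.snd f q =
          pullback.snd f ((AlgSp.yon S).map j ≫ q) ≫ (AlgSp.yon S).map j :=
        pullback.lift_snd _ _ _
      apply pullback.hom_ext
      · calc ((AlgSp.yon S).map (e₁ ≫ ιO) ≫ x) ≫ pullback.fst f q
            = (AlgSp.yon S).map e₁ ≫ ((AlgSp.yon S).map ιO ≫ x ≫ pullback.fst f q) := by
              rw [CategoryTheory.Functor.map_comp]; simp only [Category.assoc]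
          _ = (AlgSp.yon S).map e₁ ≫ pt ≫ pullback.fst f ((AlgSp.yon S).map j ≫ q) := by rw [hpt1]
          _ = ((AlgSp.yon S).map c ≫ p₀) ≫ pullback.fst f ((AlgSp.yon S).map j ≫ q) := by
              rw [h1, Category.assoc]
          _ = ((AlgSp.yon S).map c ≫ p₀) ≫ lf ≫ pullback.fst f q := by rw [hlf1]
          _ = ((AlgSp.yon S).map c ≫ p₀ ≫ lf) ≫ pullback.fst f q := by simp only [Category.assoc]
      · calc ((AlgSp.yon S).map (e₁ ≫ ιO) ≫ x) ≫ pullback.snd f q
            = (AlgSp.yon S).map (e₁ ≫ ιO) ≫ (AlgSp.yon S).map a := by rw [Category.assoc, hx]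
          _ = (AlgSp.yon S).map e₁ ≫ (AlgSp.yon S).map (ιO ≫ a) := by
              simp only [CategoryTheory.Functor.map_comp, Category.assoc]
          _ = (AlgSp.yon S).map e₁ ≫ (AlgSp.yon S).map ar ≫ (AlgSp.yon S).map j := by
              rw [← har, CategoryTheory.Functor.map_comp]
          _ = (AlgSp.yon S).map e₁ ≫ (pt ≫ pullback.snd f ((AlgSp.yon S).map j ≫ q)) ≫
                (AlgSp.yon S).map j := by rw [hpt2]
          _ = ((AlgSp.yon S).map c ≫ p₀) ≫ pullback.snd f ((AlgSp.yon S).map j ≫ q) ≫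
                (AlgSp.yon S).map j := by rw [h1]; simp only [Category.assoc]
          _ = ((AlgSp.yon S).map c ≫ p₀) ≫ lf ≫ pullback.snd f q := by rw [hlf2]
          _ = ((AlgSp.yon S).map c ≫ p₀ ≫ lf) ≫ pullback.snd f q := by simp only [Category.assoc]

variable (q) in
/-- flat base change of the kernel ideal on charts. -/
theorem Kc_eq_comap_of_isPullback {F' Y' : AlgSp.Sp S} {f' : F' ⟶ Y'} {g₁ : F' ⟶ F} {r : Y' ⟶ Y}
    (sq : IsPullback g₁ f' f r) {U' : Over S} (q' : (AlgSp.yon S).obj U' ⟶ Y') (ρ : U' ⟶ U)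
    [Flat ρ.left] (hcomm : q' ≫ r = (AlgSp.yon S).map ρ ≫ q) (hq : QcOver (pullback.snd f q)) :
    Kc f' q' = (Kc f q).comap ρ.left := by
  let π : pullback f' q' ⟶ pullback f q :=
    pullback.lift (pullback.fst f' q' ≫ g₁) (pullback.snd f' q' ≫ (AlgSp.yon S).map ρ) (by
      rw [Category.assoc, sq.w, ← Category.assoc, pullback.condition, Category.assoc, hcomm,
        Category.assoc])
  have hπ1 : π ≫ pullback.fst f q = pullback.fst f' q' ≫ g₁ := pullback.lift_fst _ _ _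
  have hπ2 : π ≫ pullback.snd f q = pullback.snd f' q' ≫ (AlgSp.yon S).map ρ :=
    pullback.lift_snd _ _ _
  have hbig : IsPullback (π ≫ pullback.fst f q) (pullback.snd f' q') f
      ((AlgSp.yon S).map ρ ≫ q) := by
    rw [hπ1, ← hcomm]
    exact (IsPullback.of_hasPullback f' q').paste_horiz sq
  have hsq : IsPullback π (pullback.snd f' q') (pullback.snd f q) ((AlgSp.yon S).map ρ) :=
    IsPullback.of_right hbig hπ2 (IsPullback.of_hasPullback f q)
  exact KerId_comap_of_flat (pullback.snd f' q') π ρ hsq hq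

variable (f q) in
theorem Kc_comap_of_flat (hq : QcOver (pullback.snd f q)) {U' : Over S} (ρ : U' ⟶ U)
    [Flat ρ.left] : Kc f ((AlgSp.yon S).map ρ ≫ q) = (Kc f q).comap ρ.left :=
  Kc_eq_comap_of_isPullback q (IsPullback.id_horiz f) ((AlgSp.yon S).map ρ ≫ q) ρ
    (Category.comp_id _) hq

/-- the kernel ideal of a quasi-compact morphism is invariant. -/
theorem invariant_Kc (hqe : AlgSp.RepWith @Etale q) (hq : QcOver (pullback.snd f q)) :
    Invariant q (Kc f q) := by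
  intro W' b₁ b₂ hb
  obtain ⟨R, s, t', sq⟩ := hqe.1 q
  obtain ⟨t₀, rfl⟩ := (AlgSp.yon S).map_surjective t'
  haveI : Etale s.left := hqe.2 q _ s sq
  haveI : Etale t₀.left := hqe.2 q _ t₀ sq.flip
  obtain ⟨e, he⟩ := (AlgSp.yon S).map_surjective
    (sq.lift ((AlgSp.yon S).map b₁) ((AlgSp.yon S).map b₂) hb)
  have he1 : e ≫ t₀ = b₁ := (AlgSp.yon S).map_injective (by
    rw [CategoryTheory.Functor.map_comp, he, sq.lift_fst])
  have he2 : e ≫ s = b₂ := (AlgSp.yon S).map_injective (by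
    rw [CategoryTheory.Functor.map_comp, he, sq.lift_snd])
  have he1' : e.left ≫ t₀.left = b₁.left := congrArg (fun m => m.left) he1
  have he2' : e.left ≫ s.left = b₂.left := congrArg (fun m => m.left) he2
  rw [← he1', ← he2', Scheme.IdealSheafData.comap_comp, Scheme.IdealSheafData.comap_comp,
    ← Kc_comap_of_flat f q hq t₀, ← Kc_comap_of_flat f q hq s, sq.w]

variable (f q) in
/-- `f` factors through the closed subspace of its kernel ideal. -/
theorem exists_factor_Zsh : ∃ f' : F ⟶ Zsh q (Kc f q), f' ≫ incl q (Kc f q) = f := by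
  refine exists_lift_of_points (incl q (Kc f q)) f ?_
  intro T x
  refine (factor_iff q (Kc f q) (x ≫ f)).2 ?_
  intro W a b hab
  exact Kc_le f q ((AlgSp.yon S).map a ≫ x) b (by rw [Category.assoc, hab])

/-- descent of a factorisation through a monomorphism along an étale covering of schemes. -/
theorem exists_lift_of_cover {B C : AlgSp.Sp S} (m : B ⟶ C) [Mono m] {T W : Over S} (w : W ⟶ T)
    [Etale w.left] [Surjective w.left] (ξ : (AlgSp.yon S).obj T ⟶ C)
    (y : (AlgSp.yon S).obj W ⟶ B) (hy : y ≫ m = (AlgSp.yon S).map w ≫ ξ) :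
    ∃ z : (AlgSp.yon S).obj T ⟶ B, z ≫ m = ξ := by
  have hwe : AlgSp.RepWith @Etale ((AlgSp.yon S).map w) :=
    (AlgSp.repWith_yon_map_iff _ _).2 inferInstance
  have hws : AlgSp.RepWith @Surjective ((AlgSp.yon S).map w) :=
    (AlgSp.repWith_yon_map_iff _ _).2 inferInstance
  obtain ⟨z, hz⟩ := Groth.Agent.Lib.H5bAtlasDesc.exists_desc_of_atlas ((AlgSp.yon S).map w)
    hwe hws y (by
      intro Q g₁ g₂ hg
      rw [← cancel_mono m, Category.assoc, Category.assoc, hy, ← Category.assoc, hg,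
        Category.assoc])
  haveI := Groth.Agent.Lib.H5bAtlasDesc.epi_of_atlas ((AlgSp.yon S).map w) hwe hws
  refine ⟨z, ?_⟩
  rw [← cancel_epi ((AlgSp.yon S).map w), ← Category.assoc, hz, hy]

lemma mono_of_closed {Z' : AlgSp.Sp S} (i' : Z' ⟶ Y) (hi' : AlgSp.RepWith @IsClosedImmersion i') :
    Mono i' :=
  Groth.Agent.S9928.mono_of_repWith @IsClosedImmersion
    (fun X Y g hg => by haveI : IsClosedImmersion g := hg; infer_instance) _ hi'

/-- minimality of the closed subspace of the kernel ideal. -/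
theorem exists_factor_of_closed (hqe : AlgSp.RepWith @Etale q) (hqs : AlgSp.RepWith @Surjective q)
    {Z' : AlgSp.Sp S} (i' : Z' ⟶ Y) (hi' : AlgSp.RepWith @IsClosedImmersion i')
    (hfac : ∃ f'' : F ⟶ Z', f'' ≫ i' = f) :
    ∃ k : Zsh q (Kc f q) ⟶ Z', k ≫ i' = incl q (Kc f q) := by
  haveI := mono_of_closed i' hi'
  obtain ⟨f'', hf''⟩ := hfac
  obtain ⟨ZU, ι', fstZ, sqZ⟩ := hi'.1 q
  haveI : IsClosedImmersion ι'.left := hi'.2 q _ ι' sqZ
  have hle : ι'.left.ker ≤ Kc f q := by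
    rw [le_Kc_iff]
    intro W x b hx
    obtain ⟨c, hc⟩ := (AlgSp.yon S).map_surjective
      (sqZ.lift (x ≫ f'') ((AlgSp.yon S).map b) (by rw [Category.assoc, hf'', hx]))
    have hc2 : c ≫ ι' = b := (AlgSp.yon S).map_injective (by
      rw [CategoryTheory.Functor.map_comp, hc, sqZ.lift_snd])
    have hc2' : c.left ≫ ι'.left = b.left := congrArg (fun m => m.left) hc2
    rw [← hc2']
    exact Scheme.Hom.le_ker_comp _ _
  refine exists_lift_of_points i' (incl q (Kc f q)) ?_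
  intro T z
  have hmem : Zmem q (Kc f q) (z ≫ incl q (Kc f q)) := (factor_iff q (Kc f q) _).1 ⟨z, rfl⟩
  obtain ⟨W, w, b', sqW⟩ := hqe.1 (z ≫ incl q (Kc f q))
  obtain ⟨b, rfl⟩ := (AlgSp.yon S).map_surjective b'
  haveI : Etale w.left := hqe.2 _ _ w sqW
  haveI : Surjective w.left := hqs.2 _ _ w sqW
  have hb : ι'.left.ker ≤ b.left.ker := hle.trans (hmem W w b sqW.w.symm)
  let c₀ : W.left ⟶ ZU.left := IsClosedImmersion.lift ι'.left b.left hb
  have hc₀ : c₀ ≫ ι'.left = b.left := IsClosedImmersion.lift_fac _ _ hb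
  let c : W ⟶ ZU := Over.homMk c₀ (by
    rw [← Over.w ι', ← Category.assoc, hc₀, Over.w b])
  have hc : c ≫ ι' = b := Over.OverMorphism.ext hc₀
  refine exists_lift_of_cover i' w (z ≫ incl q (Kc f q)) ((AlgSp.yon S).map c ≫ fstZ) ?_
  rw [Category.assoc, sqZ.w, ← Category.assoc, ← CategoryTheory.Functor.map_comp, hc, sqW.w]

/-- the closed subspace of the kernel ideal is the scheme theoretic image. -/
theorem isSchImage_incl (hqe : AlgSp.RepWith @Etale q) (hqs : AlgSp.RepWith @Surjective q)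
    (hf : AlgSp.IsQuasiCompactMor f) : AlgSp.IsSchImage f (incl q (Kc f q)) :=
  ⟨repWith_incl hqe hqs (invariant_Kc hqe (qcOver_of_isQuasiCompactMor hf)), exists_factor_Zsh f q,
    fun _ i' _ hi' hfac => exists_factor_of_closed hqe hqs i' hi' hfac⟩

end Kc

section Uniq

variable {F Y : AlgSp.Sp S} {f : F ⟶ Y}

/-- the scheme theoretic image is unique up to isomorphism over the target. -/
theorem exists_iso_of_isSchImage {Z₁ Z₂ : AlgSp.Sp S} {i₁ : Z₁ ⟶ Y} {i₂ : Z₂ ⟶ Y}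
    (hZ₁ : AlgSp.IsAlgSpace Z₁) (hZ₂ : AlgSp.IsAlgSpace Z₂) (h₁ : AlgSp.IsSchImage f i₁)
    (h₂ : AlgSp.IsSchImage f i₂) : ∃ e : Z₁ ≅ Z₂, e.hom ≫ i₂ = i₁ := by
  haveI := mono_of_closed i₁ h₁.1
  haveI := mono_of_closed i₂ h₂.1
  obtain ⟨k, hk⟩ := h₁.2.2 i₂ hZ₂ h₂.1 h₂.2.1
  obtain ⟨k', hk'⟩ := h₂.2.2 i₁ hZ₁ h₁.1 h₁.2.1
  refine ⟨⟨k, k', ?_, ?_⟩, hk⟩
  · rw [← cancel_mono i₁, Category.assoc, hk', hk, Category.id_comp]
  · rw [← cancel_mono i₂, Category.assoc, hk, hk', Category.id_comp]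

/-- being the scheme theoretic image is invariant under isomorphisms over the target. -/
theorem isSchImage_of_iso {Z₁ Z₂ : AlgSp.Sp S} {i₁ : Z₁ ⟶ Y} {i₂ : Z₂ ⟶ Y} (e : Z₁ ≅ Z₂)
    (he : e.hom ≫ i₂ = i₁) (h₁ : AlgSp.IsSchImage f i₁) : AlgSp.IsSchImage f i₂ := by
  obtain ⟨hc, ⟨f', hf'⟩, hmin⟩ := h₁
  refine ⟨?_, ⟨f' ≫ e.hom, by rw [Category.assoc, he, hf']⟩, ?_⟩
  · rw [← he] at hc
    exact (MorphismProperty.cancel_left_of_respectsIso (AlgSp.RepWith @IsClosedImmersion)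
      e.hom i₂).1 hc
  · intro Z' i' hZ' hi' hfac
    obtain ⟨k, hk⟩ := hmin i' hZ' hi' hfac
    exact ⟨e.inv ≫ k, by rw [Category.assoc, hk, ← he, Iso.inv_hom_id_assoc]⟩

variable {U : Over S} {q : (AlgSp.yon S).obj U ⟶ Y}

/-- scheme points of the scheme theoretic image of a quasi-compact morphism, on an atlas. -/
theorem factor_iff_of_isSchImage (hY : AlgSp.IsAlgSpace Y) (hqe : AlgSp.RepWith @Etale q)
    (hqs : AlgSp.RepWith @Surjective q) (hf : AlgSp.IsQuasiCompactMor f) {Z : AlgSp.Sp S}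
    (hZ : AlgSp.IsAlgSpace Z) {i : Z ⟶ Y} (hi : AlgSp.IsSchImage f i) {T : Over S}
    (ξ : (AlgSp.yon S).obj T ⟶ Y) :
    (∃ ζ : (AlgSp.yon S).obj T ⟶ Z, ζ ≫ i = ξ) ↔ Zmem q (Kc f q) ξ := by
  have h2 := isSchImage_incl hqe hqs hf
  have hZ2 : AlgSp.IsAlgSpace (Zsh q (Kc f q)) :=
    Groth.Agent.S10129.isAlgSpace_of_representable hY (incl q (Kc f q)) h2.1.rep
  obtain ⟨e, he⟩ := exists_iso_of_isSchImage hZ hZ2 hi h2
  rw [← factor_iff]
  constructor
  · rintro ⟨ζ, rfl⟩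
    exact ⟨ζ ≫ e.hom, by rw [Category.assoc, he]⟩
  · rintro ⟨a, rfl⟩
    exact ⟨a ≫ e.inv, by rw [Category.assoc, ← he, Iso.inv_hom_id_assoc]⟩

end Uniq

section FlatBC

/-- descent of `K ≤ ker b` along an étale surjective morphism. -/
lemma le_ker_of_etale_cover {A B C : Scheme.{u}} (e : A ⟶ B) [Etale e] [Surjective e] (b : B ⟶ C)
    (K : C.IdealSheafData) (h : K ≤ (e ≫ b).ker) : K ≤ b.ker := by
  rw [← comap_eq_bot_iff] at h ⊢
  rw [Scheme.IdealSheafData.comap_comp] at h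
  apply comap_injective_single e
  rw [h, Scheme.IdealSheafData.comap_bot]

/-- membership in the closed subspace of a pulled back ideal, for a chart of the base change. -/
theorem zmem_comap_iff {X Y : AlgSp.Sp S} (f : X ⟶ Y) {U UX : Over S}
    (q : (AlgSp.yon S).obj U ⟶ Y) (p : (AlgSp.yon S).obj UX ⟶ pullback f q)
    (hpe : AlgSp.RepWith @Etale p) (hps : AlgSp.RepWith @Surjective p) (ρ : UX ⟶ U)
    (hρ : (AlgSp.yon S).map ρ = p ≫ pullback.snd f q) (K : U.left.IdealSheafData) {T : Over S}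
    (ξ : (AlgSp.yon S).obj T ⟶ X) :
    Zmem (p ≫ pullback.fst f q) (K.comap ρ.left) ξ ↔ Zmem q K (ξ ≫ f) := by
  constructor
  · intro h W a b hab
    let pt : (AlgSp.yon S).obj W ⟶ pullback f q :=
      pullback.lift ((AlgSp.yon S).map a ≫ ξ) ((AlgSp.yon S).map b) (by rw [Category.assoc, hab])
    have hpt1 : pt ≫ pullback.fst f q = (AlgSp.yon S).map a ≫ ξ := pullback.lift_fst _ _ _
    have hpt2 : pt ≫ pullback.snd f q = (AlgSp.yon S).map b := pullback.lift_snd _ _ _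
    obtain ⟨W₁, e, c', sq₁⟩ := hpe.1 pt
    obtain ⟨c, rfl⟩ := (AlgSp.yon S).map_surjective c'
    haveI : Etale e.left := hpe.2 pt _ e sq₁
    haveI : Surjective e.left := hps.2 pt _ e sq₁
    have h1 := h W₁ (e ≫ a) c (by
      rw [CategoryTheory.Functor.map_comp, Category.assoc, ← hpt1, ← Category.assoc, ← sq₁.w,
        Category.assoc])
    have hcρ : c ≫ ρ = e ≫ b := (AlgSp.yon S).map_injective (by
      rw [CategoryTheory.Functor.map_comp, CategoryTheory.Functor.map_comp, hρ, ← hpt2,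
        ← Category.assoc, sq₁.w, Category.assoc])
    have hcρ' : c.left ≫ ρ.left = e.left ≫ b.left := congrArg (fun m => m.left) hcρ
    apply le_ker_of_etale_cover e.left b.left K
    rw [← hcρ', ← comap_eq_bot_iff, Scheme.IdealSheafData.comap_comp, comap_eq_bot_iff]
    exact h1
  · intro h W a b hab
    have h1 := h W a (b ≫ ρ) (by
      rw [← Category.assoc, hab, CategoryTheory.Functor.map_comp, hρ]
      simp only [Category.assoc]
      rw [pullback.condition])
    rw [← comap_eq_bot_iff, ← Scheme.IdealSheafData.comap_comp, comap_eq_bot_iff]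
    exact h1

/-- flat base change of the scheme theoretic image of a quasi-compact morphism. -/
theorem isSchImage_flat_baseChange {X Y V Z VX ZX : AlgSp.Sp S} (hX : AlgSp.IsAlgSpace X)
    (hY : AlgSp.IsAlgSpace Y) (hZ : AlgSp.IsAlgSpace Z) (f : X ⟶ Y) (hf : AlgSp.LocP @Flat f)
    (g : V ⟶ Y) (hg : AlgSp.IsQuasiCompactMor g) (i : Z ⟶ Y) (hZi : AlgSp.IsSchImage g i)
    (g₁ : VX ⟶ V) (gX : VX ⟶ X) (sqV : IsPullback g₁ gX g f) (i₁ : ZX ⟶ Z) (iX : ZX ⟶ X)
    (sqZ : IsPullback i₁ iX i f) : AlgSp.IsSchImage gX iX := by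
  obtain ⟨U, q, hqe, hqs⟩ := hY.atlas
  have sqP := IsPullback.of_hasPullback f q
  have hP : AlgSp.IsAlgSpace (pullback f q) :=
    Groth.Agent.S9874.isAlgSpace_of_isPullback hY.diag hX (AlgSp.IsAlgSpace.yon_obj U) sqP
  obtain ⟨UX, p, hpe, hps⟩ := hP.atlas
  obtain ⟨ρ, hρ⟩ := (AlgSp.yon S).map_surjective (p ≫ pullback.snd f q)
  have hfe : AlgSp.RepWith @Etale (pullback.fst f q) :=
    MorphismProperty.of_isPullback (P := AlgSp.RepWith @Etale) sqP.flip hqe
  have hfs : AlgSp.RepWith @Surjective (pullback.fst f q) :=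
    MorphismProperty.of_isPullback (P := AlgSp.RepWith @Surjective) sqP.flip hqs
  have hqXe : AlgSp.RepWith @Etale (p ≫ pullback.fst f q) :=
    (AlgSp.RepWith @Etale).comp_mem _ _ hpe hfe
  have hqXs : AlgSp.RepWith @Surjective (p ≫ pullback.fst f q) :=
    (AlgSp.RepWith @Surjective).comp_mem _ _ hps hfs
  have hcomm : (p ≫ pullback.fst f q) ≫ f = (AlgSp.yon S).map ρ ≫ q := by
    rw [Category.assoc, pullback.condition, ← Category.assoc, hρ]
  haveI : Flat ρ.left := hf _ q ρ hqXe hqe hcomm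
  have hgq : QcOver (pullback.snd g q) := qcOver_of_isQuasiCompactMor hg
  have hK : Kc gX (p ≫ pullback.fst f q) = (Kc g q).comap ρ.left :=
    Kc_eq_comap_of_isPullback q sqV (p ≫ pullback.fst f q) ρ hcomm hgq
  have hgX : AlgSp.IsQuasiCompactMor gX :=
    Groth.Agent.Lib.Helper15ImmQc.isQuasiCompactMor_of_isPullback sqV hg
  have h1 : AlgSp.IsSchImage gX (incl (p ≫ pullback.fst f q) (Kc gX (p ≫ pullback.fst f q))) :=
    isSchImage_incl hqXe hqXs hgX
  have hiX : AlgSp.RepWith @IsClosedImmersion iX :=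
    MorphismProperty.of_isPullback (P := AlgSp.RepWith @IsClosedImmersion) sqZ hZi.1
  haveI := mono_of_closed iX hiX
  obtain ⟨e, he⟩ := exists_iso_of_points
    (incl (p ≫ pullback.fst f q) (Kc gX (p ≫ pullback.fst f q))) iX (by
      intro T ξ
      rw [factor_iff, hK, zmem_comap_iff f q p hpe hps ρ hρ,
        ← factor_iff_of_isSchImage hY hqe hqs hg hZ hZi]
      constructor
      · rintro ⟨ζ, hζ⟩
        exact ⟨sqZ.lift ζ ξ hζ, sqZ.lift_snd _ _ _⟩
      · rintro ⟨y, rfl⟩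
        exact ⟨y ≫ i₁, by rw [Category.assoc, sqZ.w, Category.assoc]⟩)
  exact isSchImage_of_iso e he h1

end FlatBC

end Groth.Agent.Lib.H5bSchIm
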