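import Mathlib
import Groth.Agent.Lib.H5bSchIm

/-!
# Quasi-compact morphisms of algebraic spaces: affine charts covering the base change (helper5)
-/

set_option autoImplicit false
set_option linter.style.haveILetI false

universe u
open CategoryTheory CategoryTheory.Limits AlgebraicGeometry Opposite

namespace Groth.Agent.Lib.H5bSchIm

open Groth.Agent.S13210 Groth.Agent.Lib.H5bKerId Groth.Agent.Lib.H5bClosedSub
  Groth.Agent.Lib.H5bIdealDesc

variable {S : Scheme.{u}}

variable {F Y : AlgSp.Sp S} {f : F ⟶ Y} {U : Over S} {q : (AlgSp.yon S).obj U ⟶ Y}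

/-- over an affine open of a chart, the base change of a quasi-compact morphism is covered by an
affine scheme. -/
theorem exists_affine_covers (hf : AlgSp.IsQuasiCompactMor f) (V : U.left.affineOpens) :
    ∃ (W₀ : Over S) (x₀ : (AlgSp.yon S).obj W₀ ⟶ pullback f q) (a₀ : W₀ ⟶ U),
      x₀ ≫ pullback.snd f q = (AlgSp.yon S).map a₀ ∧ IsAffine W₀.left ∧
        Set.range a₀.left ⊆ V.1 ∧ Covers (pullback.snd f q) x₀ V.1 := by
  let V' : Over S := Over.mk (V.1.ι ≫ U.hom)
  let j : V' ⟶ U := Over.homMk V.1.ι rfl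
  haveI : IsAffine V'.left := V.2
  have hqcV : AlgSp.IsQuasiCompactSp ((AlgSp.yon S).obj V') :=
    ⟨V', 𝟙 _, AlgSp.repWith_id _ _, AlgSp.repWith_id _ _, inferInstance⟩
  have hP : AlgSp.IsQuasiCompactSp (pullback f ((AlgSp.yon S).map j ≫ q)) :=
    hf (AlgSp.IsAlgSpace.yon_obj V') hqcV ((AlgSp.yon S).map j ≫ q) _ _
      (IsPullback.of_hasPullback f ((AlgSp.yon S).map j ≫ q))
  obtain ⟨W₀, p₀, hW₀, hp₀e, hp₀s⟩ := Groth.Agent.S10180.exists_affine_chart hP
  let lf : pullback f ((AlgSp.yon S).map j ≫ q) ⟶ pullback f q :=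
    pullback.lift (pullback.fst _ _) (pullback.snd _ _ ≫ (AlgSp.yon S).map j)
      (by rw [pullback.condition, Category.assoc])
  obtain ⟨a₀', ha₀'⟩ := (AlgSp.yon S).map_surjective (p₀ ≫ pullback.snd f ((AlgSp.yon S).map j ≫ q))
  refine ⟨W₀, p₀ ≫ lf, a₀' ≫ j, ?_, ?_, ?_, ?_⟩
  · rw [Category.assoc, pullback.lift_snd, ← Category.assoc, ← ha₀', CategoryTheory.Functor.map_comp]
  · exact hW₀
  · rintro _ ⟨w, rfl⟩
    change (a₀'.left ≫ V.1.ι) w ∈ V.1
    rw [Scheme.Hom.comp_apply]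
    exact (a₀'.left w).2
  · intro W x a hx
    -- restrict to the preimage of `V`
    let O : W.left.Opens := a.left ⁻¹ᵁ V.1
    let WO : Over S := Over.mk (O.ι ≫ W.hom)
    let ιO : WO ⟶ W := Over.homMk O.ι rfl
    have hrange : Set.range (O.ι ≫ a.left) ⊆ Set.range V.1.ι := by
      rintro _ ⟨w, rfl⟩
      rw [Scheme.Opens.range_ι]
      exact w.2
    let ar₀ : O.toScheme ⟶ V.1.toScheme := IsOpenImmersion.lift V.1.ι (O.ι ≫ a.left) hrange
    have har₀ : ar₀ ≫ V.1.ι = O.ι ≫ a.left := IsOpenImmersion.lift_fac _ _ _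
    let ar : WO ⟶ V' := Over.homMk ar₀ (by
      change ar₀ ≫ V.1.ι ≫ U.hom = O.ι ≫ W.hom
      rw [← Category.assoc, har₀, Category.assoc, Over.w a])
    have har : ar ≫ j = ιO ≫ a := Over.OverMorphism.ext har₀
    let pt : (AlgSp.yon S).obj WO ⟶ pullback f ((AlgSp.yon S).map j ≫ q) :=
      pullback.lift ((AlgSp.yon S).map ιO ≫ x ≫ pullback.fst f q) ((AlgSp.yon S).map ar) (by
        rw [Category.assoc, Category.assoc, pullback.condition, ← Category.assoc x, hx,
          ← Category.assoc, ← Category.assoc, ← CategoryTheory.Functor.map_comp, ← har,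
          CategoryTheory.Functor.map_comp, Category.assoc])
    obtain ⟨W₁, e₁, c', sq⟩ := hp₀e.1 pt
    obtain ⟨c, rfl⟩ := (AlgSp.yon S).map_surjective c'
    haveI : Etale e₁.left := hp₀e.2 pt _ e₁ sq
    haveI : Surjective e₁.left := hp₀s.2 pt _ e₁ sq
    refine ⟨W₁, e₁ ≫ ιO, c, ?_, ?_, ?_⟩
    · change Flat (e₁.left ≫ O.ι)
      infer_instance
    · intro w hw
      obtain ⟨w₁, hw₁⟩ := e₁.left.surjective (⟨w, hw⟩ : O.toScheme)
      refine ⟨w₁, ?_⟩
      change (e₁.left ≫ O.ι) w₁ = w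
      rw [Scheme.Hom.comp_apply, hw₁]
      rfl
    · have h1 := sq.w
      have hpt1 : pt ≫ pullback.fst f ((AlgSp.yon S).map j ≫ q) =
          (AlgSp.yon S).map ιO ≫ x ≫ pullback.fst f q := pullback.lift_fst _ _ _
      have hpt2 : pt ≫ pullback.snd f ((AlgSp.yon S).map j ≫ q) = (AlgSp.yon S).map ar :=
        pullback.lift_snd _ _ _
      have hlf1 : lf ≫ pullback.fst f q = pullback.fst f ((AlgSp.yon S).map j ≫ q) :=
        pullback.lift_fst _ _ _
      have hlf2 : lf ≫ pullback.snd f q =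
          pullback.snd f ((AlgSp.yon S).map j ≫ q) ≫ (AlgSp.yon S).map j :=
        pullback.lift_snd _ _ _
      apply pullback.hom_ext
      · calc ((AlgSp.yon S).map (e₁ ≫ ιO) ≫ x) ≫ pullback.fst f q
            = (AlgSp.yon S).map e₁ ≫ ((AlgSp.yon S).map ιO ≫ x ≫ pullback.fst f q) := by
              rw [CategoryTheory.Functor.map_comp]; simp only [Category.assoc]
          _ = (AlgSp.yon S).map e₁ ≫ pt ≫ pullback.fst f ((AlgSp.yon S).map j ≫ q) := by rw [hpt1]
          _ = ((AlgSp.yon S).map c ≫ p₀) ≫ pullback.fst f ((AlgSp.yon S).map j ≫ q) := by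
              rw [h1, Category.assoc]
          _ = ((AlgSp.yon S).map c ≫ p₀) ≫ lf ≫ pullback.fst f q := by rw [hlf1]
          _ = ((AlgSp.yon S).map c ≫ p₀ ≫ lf) ≫ pullback.fst f q := by simp only [Category.assoc]
      · calc ((AlgSp.yon S).map (e₁ ≫ ιO) ≫ x) ≫ pullback.snd f q
            = (AlgSp.yon S).map (e₁ ≫ ιO) ≫ (AlgSp.yon S).map a := by rw [Category.assoc, hx]
          _ = (AlgSp.yon S).map e₁ ≫ (AlgSp.yon S).map (ιO ≫ a) := by
              simp only [CategoryTheory.Functor.map_comp, Category.assoc]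
          _ = (AlgSp.yon S).map e₁ ≫ (AlgSp.yon S).map ar ≫ (AlgSp.yon S).map j := by
              rw [← har, CategoryTheory.Functor.map_comp]
          _ = (AlgSp.yon S).map e₁ ≫ (pt ≫ pullback.snd f ((AlgSp.yon S).map j ≫ q)) ≫
                (AlgSp.yon S).map j := by rw [hpt2]
          _ = ((AlgSp.yon S).map c ≫ p₀) ≫ pullback.snd f ((AlgSp.yon S).map j ≫ q) ≫
                (AlgSp.yon S).map j := by rw [h1]; simp only [Category.assoc]
          _ = ((AlgSp.yon S).map c ≫ p₀) ≫ lf ≫ pullback.snd f q := by rw [hlf2]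
          _ = ((AlgSp.yon S).map c ≫ p₀ ≫ lf) ≫ pullback.snd f q := by simp only [Category.assoc]

end Groth.Agent.Lib.H5bSchIm
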