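import Mathlib
import Groth.Agent.Lib.H5bUCAff3
import Groth.Agent.Lib.Helper12Proper
import Groth.Agent.S10054
import Groth.Agent.S10192
import Groth.Agent.S10176
import Groth.Agent.S9874

/-!
# The Noetherian valuative criterion for universal closedness (helper5)

For `f : X ⟶ Y` of finite type with `Y` locally Noetherian: if every valuative square over a
discrete valuation ring has a lift after a dominating extension, `f` is universally closed.
-/

set_option autoImplicit false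
set_option linter.style.haveILetI false

universe u
open CategoryTheory CategoryTheory.Limits AlgebraicGeometry Opposite

namespace Groth.Agent.Lib.H5bDvrUC

open Groth.Agent.Lib.H5bUCAff IsLocalRing

variable {S : Scheme.{u}}

/-- closedness of one base change to a locally Noetherian scheme, from the DVR criterion. -/
theorem isClosedMap_of_dvr_liftExt {X Y : AlgSp.Space S} (f : X ⟶ Y)
    (hft : AlgSp.IsFiniteTypeMor f.hom)
    (hval : ∀ sq : AlgSp.ValSq f.hom, IsDiscreteValuationRing sq.A → sq.HasLiftExt)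
    (B : Over S) [IsLocallyNoetherian B.left] (g : (AlgSp.yon S).obj B ⟶ Y.obj)
    {P : AlgSp.Sp S} (fst : P ⟶ X.obj) (snd : P ⟶ (AlgSp.yon S).obj B)
    (sq : IsPullback fst snd f.hom g) : IsClosedMap (AlgSp.Points.map snd) := by
  have hP : AlgSp.IsAlgSpace P :=
    Groth.Agent.S9874.isAlgSpace_of_isPullback Y.property.diag X.property
      (AlgSp.IsAlgSpace.yon_obj _) sq
  have hBN : AlgSp.IsLocNoethSp ((AlgSp.yon S).obj B) :=
    ⟨B, 𝟙 _, AlgSp.repWith_id _ _, AlgSp.repWith_id _ _, inferInstance⟩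
  have hsnd : AlgSp.IsFiniteTypeMor snd :=
    ⟨Groth.Agent.Lib.Helper12.Proper.locP_lft_baseChange X.property Y.property
        (AlgSp.IsAlgSpace.yon_obj _) sq hft.1,
      Groth.Agent.Lib.Helper12.Proper.isQuasiCompactMor_baseChange sq hft.2⟩
  intro T hT
  refine isClosed_of_closure_subset fun y hy => ?_
  obtain ⟨Z, i, hi, hrange, -⟩ := Groth.Agent.S10192.result (⟨P, hP⟩ : AlgSp.Space S) T hT
  let BB : AlgSp.Space S := ⟨(AlgSp.yon S).obj B, AlgSp.IsAlgSpace.yon_obj _⟩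
  let sndH : (⟨P, hP⟩ : AlgSp.Space S) ⟶ BB := ObjectProperty.homMk snd
  have hcomp : AlgSp.IsFiniteTypeMor (i ≫ sndH).hom :=
    ⟨Groth.Agent.Lib.Helper12.Proper.locP_lft_comp hP (AlgSp.IsAlgSpace.yon_obj _) i.hom snd
        (Groth.Agent.Lib.Helper12.Proper.locP_lft_of_isClosedImmersion hP i.hom hi) hsnd.1,
      Groth.Agent.Lib.Helper12.Proper.isQuasiCompactMor_comp hP (AlgSp.IsAlgSpace.yon_obj _)
        i.hom snd (Groth.Agent.Lib.Helper12.Proper.isQuasiCompactMor_of_isClosedImmersion i.hom hi)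
        hsnd.2⟩
  have hy' : y ∈ closure (Set.range (AlgSp.Points.map (i ≫ sndH).hom)) := by
    have : Set.range (AlgSp.Points.map (i ≫ sndH).hom) = AlgSp.Points.map snd '' T := by
      rw [← hrange, ← Set.range_comp]
      congr 1
      funext z
      exact AlgSp.Points.map_comp i.hom snd z
    rw [this]; exact hy
  obtain ⟨A, _, _, hDVR, a, α, κ, hcomm, hcl⟩ :=
    Groth.Agent.S10054.result S (i ≫ sndH) hcomp hBN y hy'
  have hcomm' : κ ≫ i.hom ≫ snd = (AlgSp.yon S).map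
      (Over.homMk (Spec.map (CommRingCat.ofHom (algebraMap A (FractionRing A))))) ≫ α := hcomm
  have hcommV : (κ ≫ i.hom ≫ fst) ≫ f.hom = (AlgSp.yon S).map
      (Over.homMk (Spec.map (CommRingCat.ofHom (algebraMap A (FractionRing A)))) rfl :
        Over.mk (Spec.map (CommRingCat.ofHom (algebraMap A (FractionRing A))) ≫ a) ⟶ Over.mk a) ≫
        α ≫ g := by
    have := hcomm' =≫ g
    simp only [Category.assoc] at this ⊢
    rw [sq.w]
    exact this
  let vsq : AlgSp.ValSq f.hom :=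
    { A := A, K := FractionRing A, str := a,
      top := κ ≫ i.hom ≫ fst, bot := α ≫ g,
      comm := hcommV }
  obtain ⟨e, l, hl1, hl2⟩ := hval vsq hDVR
  haveI : IsLocalHom e.φ := e.isLocalHom
  have hΨw : Spec.map (CommRingCat.ofHom e.ψ) ≫ vsq.ptK.hom = e.ptK'.hom := by
    change Spec.map _ ≫ Spec.map _ ≫ _ = Spec.map _ ≫ Spec.map _ ≫ _
    rw [← Spec.map_comp_assoc, ← Spec.map_comp_assoc, ← CommRingCat.ofHom_comp,
      ← CommRingCat.ofHom_comp, e.comm]
  let Ψ : e.ptK' ⟶ vsq.ptK := Over.homMk (Spec.map (CommRingCat.ofHom e.ψ)) hΨw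
  let φ' : e.ptA' ⟶ vsq.ptA := Over.homMk (Spec.map (CommRingCat.ofHom e.φ)) rfl
  let kk : e.ptK' ⟶ e.ptA' := Over.homMk (Spec.map (CommRingCat.ofHom (algebraMap e.A' e.K'))) rfl
  have hl1' : (AlgSp.yon S).map kk ≫ l = (AlgSp.yon S).map Ψ ≫ κ ≫ i.hom ≫ fst := hl1
  have hl2' : l ≫ f.hom = ((AlgSp.yon S).map φ' ≫ α) ≫ g := by
    rw [Category.assoc]; exact hl2
  obtain ⟨lP, hlP⟩ : ∃ lP : (AlgSp.yon S).obj e.ptA' ⟶ P,
      lP = sq.lift l ((AlgSp.yon S).map φ' ≫ α) hl2' := ⟨_, rfl⟩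
  have hlP1 : lP ≫ fst = l := by rw [hlP, sq.lift_fst]
  have hlP2 : lP ≫ snd = (AlgSp.yon S).map φ' ≫ α := by rw [hlP, sq.lift_snd]
  have hkφ : kk ≫ φ' = Ψ ≫ vsq.j := by
    apply Over.OverMorphism.ext
    show Spec.map (CommRingCat.ofHom (algebraMap e.A' e.K')) ≫ Spec.map (CommRingCat.ofHom e.φ) =
      Spec.map (CommRingCat.ofHom e.ψ) ≫
        Spec.map (CommRingCat.ofHom (algebraMap A (FractionRing A)))
    rw [← Spec.map_comp, ← Spec.map_comp, ← CommRingCat.ofHom_comp, ← CommRingCat.ofHom_comp]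
    exact congrArg (fun r => Spec.map (CommRingCat.ofHom r)) e.comm
  have hm : (AlgSp.yon S).map kk ≫ lP = (AlgSp.yon S).map Ψ ≫ κ ≫ i.hom := by
    apply sq.hom_ext
    · rw [Category.assoc, hlP1, hl1']
      simp only [Category.assoc]
    · have h1 : ((AlgSp.yon S).map kk ≫ lP) ≫ snd = (AlgSp.yon S).map (kk ≫ φ') ≫ α := by
        rw [Category.assoc, hlP2, Functor.map_comp, Category.assoc]
      have h2 : ((AlgSp.yon S).map Ψ ≫ κ ≫ i.hom) ≫ snd = (AlgSp.yon S).map (Ψ ≫ vsq.j) ≫ α := by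
        rw [Category.assoc, Category.assoc, hcomm', Functor.map_comp, Category.assoc]
      rw [h1, h2, hkφ]
  have hx₀ : AlgSp.Points.ofPt lP (kk.left (closedPoint e.K')) ∈ T := by
    rw [← Groth.Agent.S10176.ofPt_map_comp kk lP, hm, ← hrange]
    exact ⟨AlgSp.Points.ofPt ((AlgSp.yon S).map Ψ ≫ κ) (closedPoint e.K'), rfl⟩
  have hspec' : AlgSp.Points.ofPt lP (kk.left (closedPoint e.K')) ⤳
      AlgSp.Points.ofPt lP (closedPoint e.A') :=
    (specializes_closedPoint (kk.left (closedPoint e.K'))).map (AlgSp.Points.continuous_ofPt lP)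
  have hx₁ : AlgSp.Points.ofPt lP (closedPoint e.A') ∈ T :=
    hT.stableUnderSpecialization hspec' hx₀
  refine ⟨_, hx₁, ?_⟩
  rw [AlgSp.Points.map_ofPt, hlP2, Groth.Agent.S10176.ofPt_map_comp φ' α, ← hcl]
  have h3 : φ'.left (closedPoint e.A') = closedPoint A := comap_closedPoint e.φ
  rw [h3, AlgSp.Points.ofPt_eq_map_ofScheme]
  rfl

/-- **Noetherian valuative criterion for universal closedness** (with extensions allowed). -/
theorem isUnivClosedMor_of_dvr_liftExt {X Y : AlgSp.Space S} (f : X ⟶ Y)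
    (hft : AlgSp.IsFiniteTypeMor f.hom) (hY : AlgSp.IsLocNoethSp Y.obj)
    (hval : ∀ sq : AlgSp.ValSq f.hom, IsDiscreteValuationRing sq.A → sq.HasLiftExt) :
    AlgSp.IsUnivClosedMor f.hom := by
  obtain ⟨V, p, hpe, hps, hVN⟩ := hY
  refine isUnivClosedMor_of_affHyp X.property Y.property hft.2 hpe hps ?_
  intro n P fst snd sq
  haveI : IsLocallyNoetherian V.left := hVN
  haveI : IsLocallyNoetherian (AffO V n).left :=
    LocallyOfFiniteType.isLocallyNoetherian (𝔸(ULift.{u} (Fin n); V.left) ↘ V.left)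
  exact isClosedMap_of_dvr_liftExt f hft hval (AffO V n) _ fst snd sq

/-- a lift gives a lift after the trivial extension. -/
theorem hasLiftExt_of_hasLift {F G : AlgSp.Sp S} {f : F ⟶ G} (sq : AlgSp.ValSq f)
    (h : sq.HasLift) : sq.HasLiftExt := by
  obtain ⟨l, h1, h2⟩ := h
  let e : sq.DomExt :=
    { A' := sq.A, K' := sq.K, φ := RingHom.id _, ψ := RingHom.id _, comm := rfl,
      isLocalHom := ⟨fun _ h => h⟩ }
  refine ⟨e, ?_⟩
  have hΨw : Spec.map (CommRingCat.ofHom e.ψ) ≫ sq.ptK.hom = e.ptK'.hom := by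
    change Spec.map _ ≫ Spec.map _ ≫ _ = Spec.map _ ≫ Spec.map _ ≫ _
    rw [← Spec.map_comp_assoc, ← Spec.map_comp_assoc, ← CommRingCat.ofHom_comp,
      ← CommRingCat.ofHom_comp, e.comm]
  let Ψ : e.ptK' ⟶ sq.ptK := Over.homMk (Spec.map (CommRingCat.ofHom e.ψ)) hΨw
  let φ' : e.ptA' ⟶ sq.ptA := Over.homMk (Spec.map (CommRingCat.ofHom e.φ)) rfl
  let kk : e.ptK' ⟶ e.ptA' := Over.homMk (Spec.map (CommRingCat.ofHom (algebraMap e.A' e.K'))) rfl
  have hkφ : kk ≫ φ' = Ψ ≫ sq.j := by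
    apply Over.OverMorphism.ext
    show Spec.map (CommRingCat.ofHom (algebraMap e.A' e.K')) ≫ Spec.map (CommRingCat.ofHom e.φ) =
      Spec.map (CommRingCat.ofHom e.ψ) ≫
        Spec.map (CommRingCat.ofHom (algebraMap sq.A sq.K))
    rw [← Spec.map_comp, ← Spec.map_comp, ← CommRingCat.ofHom_comp, ← CommRingCat.ofHom_comp]
  refine ⟨(AlgSp.yon S).map φ' ≫ l, ?_, ?_⟩
  · show (AlgSp.yon S).map kk ≫ (AlgSp.yon S).map φ' ≫ l = (AlgSp.yon S).map Ψ ≫ sq.top
    rw [← Category.assoc, ← Functor.map_comp, hkφ, Functor.map_comp, Category.assoc, h1]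
  · show ((AlgSp.yon S).map φ' ≫ l) ≫ f = (AlgSp.yon S).map φ' ≫ sq.bot
    rw [Category.assoc, h2]

end Groth.Agent.Lib.H5bDvrUC
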