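import Mathlib
import Groth.Prelude.Def_AlgSpDec
import Groth.Prelude.Def_Hens2
import Groth.Agent.Lib.H5bFibChart
import Groth.Agent.S10176

/-!
# Elementary étale neighbourhoods of a point of an algebraic space (helper5)

* `mono_toHom_of_jointly_mono`: the monomorphism condition passes to a chart mapping jointly
  monomorphically to two charts with that condition.
* `isElemEtaleNbhd_comp`: an elementary étale neighbourhood (of schemes) of an elementary étale
  neighbourhood is an elementary étale neighbourhood.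
* `exists_common_refinement`: two elementary étale neighbourhoods are dominated by a third.
* `exists_equalizer`: two parallel morphisms of elementary étale neighbourhoods are equalized.
-/

set_option autoImplicit false
set_option linter.style.haveILetI false
universe u

namespace Groth.Agent.Lib.H5bElemNbhd

open AlgSp CategoryTheory CategoryTheory.Limits AlgebraicGeometry

variable {S : Scheme.{u}}

/-- the spectrum of the residue field of a point of a scheme over `S`, over `S`. -/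
noncomputable abbrev resPt (T : Over S) (t : ↥T.left) : Over S :=
  Over.mk (T.left.fromSpecResidueField t ≫ T.hom)

/-- the canonical morphism `Spec κ(t) ⟶ T` over `S`. -/
noncomputable abbrev resι (T : Over S) (t : ↥T.left) : resPt T t ⟶ T :=
  Over.homMk (T.left.fromSpecResidueField t) rfl

theorem toHom_ofPt {F : Sp S} {T : Over S} (g : (yon S).obj T ⟶ F) (t : ↥T.left) :
    (FieldPt.ofPt g t).toHom = (yon S).map (resι T t) ≫ g :=
  FieldPt.toHom_ofPt g t

instance mono_resι (T : Over S) (t : ↥T.left) : Mono (resι T t) := by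
  haveI : Mono (resι T t).left := by
    show Mono (T.left.fromSpecResidueField t)
    infer_instance
  exact Over.mono_of_mono_left _

instance mono_yon_map_resι (T : Over S) (t : ↥T.left) : Mono ((yon S).map (resι T t)) :=
  inferInstance

/-- the map on residue field spectra induced by a morphism over `S`. -/
theorem exists_resMap {T' T : Over S} (f : T' ⟶ T) (t' : ↥T'.left) (t : ↥T.left)
    (h : f.left t' = t) :
    ∃ r : resPt T' t' ⟶ resPt T t, r ≫ resι T t = resι T' t' ≫ f ∧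
      (Function.Bijective (f.left.residueFieldMap t') → IsIso r) := by
  subst h
  have hsq : Spec.map (f.left.residueFieldMap t') ≫ T.left.fromSpecResidueField (f.left t') =
      T'.left.fromSpecResidueField t' ≫ f.left :=
    Scheme.Hom.SpecMap_residueFieldMap_fromSpecResidueField f.left t'
  refine ⟨Over.homMk (Spec.map (f.left.residueFieldMap t')) ?_, ?_, ?_⟩
  · show Spec.map (f.left.residueFieldMap t') ≫ T.left.fromSpecResidueField (f.left t') ≫ T.hom = _
    rw [reassoc_of% hsq, Over.w f]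
    rfl
  · apply Over.OverMorphism.ext
    exact hsq
  · intro hb
    haveI : IsIso (f.left.residueFieldMap t') :=
      (ConcreteCategory.isIso_iff_bijective _).2 hb
    have hiso : ∀ (r : resPt T' t' ⟶ resPt T (f.left t')),
        r.left = Spec.map (f.left.residueFieldMap t') → IsIso r := by
      intro r hr
      haveI : IsIso ((Over.forget S).map r) := by
        show IsIso r.left
        rw [hr]
        infer_instance
      exact isIso_of_reflects_iso r (Over.forget S)
    exact hiso _ rfl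

/-- the monomorphism condition for a chart mapping jointly monomorphically to two charts. -/
theorem mono_toHom_of_jointly_mono {X : Sp S} {W U₁ U₂ : Over S}
    (a₁ : (yon S).obj U₁ ⟶ X) (a₂ : (yon S).obj U₂ ⟶ X) (p₁ : W ⟶ U₁) (p₂ : W ⟶ U₂)
    (hw : (yon S).map p₁ ≫ a₁ = (yon S).map p₂ ≫ a₂)
    (hjm : ∀ (T : Sp S) (α β : T ⟶ (yon S).obj W), α ≫ (yon S).map p₁ = β ≫ (yon S).map p₁ →
      α ≫ (yon S).map p₂ = β ≫ (yon S).map p₂ → α = β)
    (w : ↥W.left) (u₁ : ↥U₁.left) (u₂ : ↥U₂.left) (h₁ : p₁.left w = u₁) (h₂ : p₂.left w = u₂)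
    (hm₁ : Mono (FieldPt.ofPt a₁ u₁).toHom) (hm₂ : Mono (FieldPt.ofPt a₂ u₂).toHom) :
    Mono (FieldPt.ofPt ((yon S).map p₁ ≫ a₁) w).toHom := by
  obtain ⟨r₁, hr₁, -⟩ := exists_resMap p₁ w u₁ h₁
  obtain ⟨r₂, hr₂, -⟩ := exists_resMap p₂ w u₂ h₂
  haveI hm₁' : Mono ((yon S).map (resι U₁ u₁) ≫ a₁) := by
    rw [toHom_ofPt] at hm₁
    exact hm₁
  haveI hm₂' : Mono ((yon S).map (resι U₂ u₂) ≫ a₂) := by
    rw [toHom_ofPt] at hm₂
    exact hm₂
  have e₁ : (yon S).map (resι W w) ≫ (yon S).map p₁ ≫ a₁ =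
      (yon S).map r₁ ≫ (yon S).map (resι U₁ u₁) ≫ a₁ := by
    rw [← Category.assoc, ← Functor.map_comp, ← hr₁, Functor.map_comp, Category.assoc]
  have e₂ : (yon S).map (resι W w) ≫ (yon S).map p₁ ≫ a₁ =
      (yon S).map r₂ ≫ (yon S).map (resι U₂ u₂) ≫ a₂ := by
    rw [hw, ← Category.assoc, ← Functor.map_comp, ← hr₂, Functor.map_comp, Category.assoc]
  have key : Mono ((yon S).map (resι W w) ≫ (yon S).map p₁ ≫ a₁) := by
    refine ⟨fun {T} α β hαβ => ?_⟩
    have k₁ : α ≫ (yon S).map r₁ = β ≫ (yon S).map r₁ := by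
      rw [← cancel_mono ((yon S).map (resι U₁ u₁) ≫ a₁), Category.assoc, Category.assoc, ← e₁]
      exact hαβ
    have k₂ : α ≫ (yon S).map r₂ = β ≫ (yon S).map r₂ := by
      rw [← cancel_mono ((yon S).map (resι U₂ u₂) ≫ a₂), Category.assoc, Category.assoc, ← e₂]
      exact hαβ
    have l₁ : (α ≫ (yon S).map (resι W w)) ≫ (yon S).map p₁ =
        (β ≫ (yon S).map (resι W w)) ≫ (yon S).map p₁ := by
      rw [Category.assoc, Category.assoc, ← Functor.map_comp, ← hr₁, Functor.map_comp,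
        reassoc_of% k₁]
    have l₂ : (α ≫ (yon S).map (resι W w)) ≫ (yon S).map p₂ =
        (β ≫ (yon S).map (resι W w)) ≫ (yon S).map p₂ := by
      rw [Category.assoc, Category.assoc, ← Functor.map_comp, ← hr₂, Functor.map_comp,
        reassoc_of% k₂]
    have := hjm T _ _ l₁ l₂
    exact (cancel_mono _).1 this
  rw [toHom_ofPt]
  exact key

/-- an elementary étale neighbourhood (of schemes) of an elementary étale neighbourhood of a
point of a sheaf is an elementary étale neighbourhood. -/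
theorem isElemEtaleNbhd_comp {X : Sp S} {U : Over S} (a : (yon S).obj U ⟶ X) (u : ↥U.left)
    (x : Points X) (ha : IsElemEtaleNbhd a u x) {V : Scheme.{u}} (g : V ⟶ U.left) (v : V)
    (hg : Hens2.IsEtaleNbhd g v u) :
    IsElemEtaleNbhd (U := Over.mk (g ≫ U.hom))
      ((yon S).map (Over.homMk g rfl : Over.mk (g ≫ U.hom) ⟶ U) ≫ a) v x := by
  set V' : Over S := Over.mk (g ≫ U.hom) with hV'
  set g' : V' ⟶ U := Over.homMk g rfl with hg'
  haveI := hg.etale
  have hge : RepWith @Etale ((yon S).map g') :=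
    (repWith_yon_map_iff @Etale g').2 (show Etale g from inferInstance)
  refine ⟨(repWith_isMultiplicative (S := S) @Etale).comp_mem _ _ hge ha.etale, ?_, ?_⟩
  · rw [Groth.Agent.S10176.ofPt_map_comp]
    show Points.ofPt a (g v) = x
    rw [hg.base_eq]
    exact ha.ofPt_eq
  · obtain ⟨r, hr, hiso⟩ := exists_resMap g' v u hg.base_eq
    haveI : IsIso r := hiso hg.residue_bijective
    haveI hm : Mono ((yon S).map (resι U u) ≫ a) := by
      have := ha.mono
      rw [toHom_ofPt] at this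
      exact this
    have e : (yon S).map (resι V' v) ≫ (yon S).map g' ≫ a =
        (yon S).map r ≫ (yon S).map (resι U u) ≫ a := by
      rw [← Category.assoc, ← Functor.map_comp, ← hr, Functor.map_comp, Category.assoc]
    haveI : IsIso ((yon S).map r) := Functor.map_isIso _ _
    haveI : Mono ((yon S).map r) := inferInstance
    have key : Mono ((yon S).map (resι V' v) ≫ (yon S).map g' ≫ a) := by
      rw [e]
      exact mono_comp _ _
    rw [toHom_ofPt]
    exact key

/-- two elementary étale neighbourhoods are dominated by a third. -/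
theorem exists_common_refinement {X : Sp S} (x : Points X) {U₁ U₂ : Over S}
    (a₁ : (yon S).obj U₁ ⟶ X) (a₂ : (yon S).obj U₂ ⟶ X) (u₁ : ↥U₁.left) (u₂ : ↥U₂.left)
    (h₁ : IsElemEtaleNbhd a₁ u₁ x) (h₂ : IsElemEtaleNbhd a₂ u₂ x) :
    ∃ (U : Over S) (a : (yon S).obj U ⟶ X) (v : ↥U.left) (p₁ : U ⟶ U₁) (p₂ : U ⟶ U₂),
      IsElemEtaleNbhd a v x ∧ (yon S).map p₁ ≫ a₁ = a ∧ (yon S).map p₂ ≫ a₂ = a ∧
        p₁.left v = u₁ ∧ p₂.left v = u₂ := by
  have rep := h₁.etale.rep
  have sq : IsPullback ((yon S).map (rep.fst' a₂)) ((yon S).map (rep.snd a₂)) a₁ a₂ :=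
    rep.isPullback' a₂
  obtain ⟨w, hw₁, hw₂⟩ := Groth.Agent.S10176.exists_point_of_isPullback_yon sq u₁ u₂
    (h₁.ofPt_eq.trans h₂.ofPt_eq.symm)
  have hp₁ : RepWith @Etale ((yon S).map (rep.fst' a₂)) :=
    (RepWith @Etale).of_isPullback sq.flip h₂.etale
  refine ⟨rep.pullback a₂, (yon S).map (rep.fst' a₂) ≫ a₁, w, rep.fst' a₂, rep.snd a₂,
    ⟨?_, ?_, ?_⟩, rfl, sq.w.symm, hw₁, hw₂⟩
  · exact (repWith_isMultiplicative (S := S) @Etale).comp_mem _ _ hp₁ h₁.etale
  · rw [Groth.Agent.S10176.ofPt_map_comp, hw₁]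
    exact h₁.ofPt_eq
  · exact mono_toHom_of_jointly_mono a₁ a₂ (rep.fst' a₂) (rep.snd a₂) sq.w
      (fun T α β e₁ e₂ => sq.hom_ext e₁ e₂) w u₁ u₂ hw₁ hw₂ h₁.mono h₂.mono

/-- two parallel morphisms of elementary étale neighbourhoods are equalized by a third. -/
theorem exists_equalizer {X : Sp S} (x : Points X) {U₁ U₂ : Over S}
    (a₁ : (yon S).obj U₁ ⟶ X) (a₂ : (yon S).obj U₂ ⟶ X) (u₁ : ↥U₁.left) (u₂ : ↥U₂.left)
    (b c : U₁ ⟶ U₂) (h₁ : IsElemEtaleNbhd a₁ u₁ x) (h₂ : IsElemEtaleNbhd a₂ u₂ x)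
    (hb : (yon S).map b ≫ a₂ = a₁) (hc : (yon S).map c ≫ a₂ = a₁)
    (hbu : b.left u₁ = u₂) (hcu : c.left u₁ = u₂) :
    ∃ (U : Over S) (a : (yon S).obj U ⟶ X) (v : ↥U.left) (h : U ⟶ U₁),
      IsElemEtaleNbhd a v x ∧ (yon S).map h ≫ a₁ = a ∧ h.left v = u₁ ∧ h ≫ b = h ≫ c := by
  have rep := h₂.etale.rep
  set W := rep.pullback a₂ with hW
  set π₁ : W ⟶ U₂ := rep.fst' a₂ with hπ₁
  set π₂ : W ⟶ U₂ := rep.snd a₂ with hπ₂
  have sq : IsPullback ((yon S).map π₁) ((yon S).map π₂) a₂ a₂ := rep.isPullback' a₂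
  -- the diagonal
  let δ : U₂ ⟶ W := rep.lift' (𝟙 U₂) (𝟙 U₂) rfl
  have hδ₁ : δ ≫ π₁ = 𝟙 _ := rep.lift'_fst _ _ _
  have hδ₂ : δ ≫ π₂ = 𝟙 _ := rep.lift'_snd _ _ _
  let bc : U₁ ⟶ W := rep.lift' b c (hb.trans hc.symm)
  have hbc₁ : bc ≫ π₁ = b := rep.lift'_fst _ _ _
  have hbc₂ : bc ≫ π₂ = c := rep.lift'_snd _ _ _
  haveI hπ₁e : Etale π₁.left :=
    (repWith_yon_map_iff @Etale π₁).1 ((RepWith @Etale).of_isPullback sq.flip h₂.etale)
  have hδl : δ.left ≫ π₁.left = 𝟙 _ := by
    rw [← Over.comp_left, hδ₁]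
    rfl
  haveI hδe : Etale δ.left := by
    haveI : Etale (δ.left ≫ π₁.left) := by
      rw [hδl]
      infer_instance
    exact Etale.of_comp δ.left π₁.left
  haveI : Mono δ.left := by
    haveI : Mono (δ.left ≫ π₁.left) := by
      rw [hδl]
      infer_instance
    exact mono_of_mono δ.left π₁.left
  haveI : IsOpenImmersion δ.left := IsOpenImmersion.of_flat_of_mono _
  -- the point `bc u₁` lies on the diagonal
  set w' := bc.left u₁ with hw'
  have hw'₁ : π₁.left w' = u₂ := by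
    rw [hw', ← Scheme.Hom.comp_apply, ← Over.comp_left, hbc₁]
    exact hbu
  have hw'₂ : π₂.left w' = u₂ := by
    rw [hw', ← Scheme.Hom.comp_apply, ← Over.comp_left, hbc₂]
    exact hcu
  obtain ⟨r₁, hr₁, -⟩ := exists_resMap π₁ w' u₂ hw'₁
  obtain ⟨r₂, hr₂, -⟩ := exists_resMap π₂ w' u₂ hw'₂
  haveI hm : Mono ((yon S).map (resι U₂ u₂) ≫ a₂) := by
    have := h₂.mono
    rw [toHom_ofPt] at this
    exact this
  have hrr : r₁ = r₂ := by
    apply (yon S).map_injective
    rw [← cancel_mono ((yon S).map (resι U₂ u₂) ≫ a₂), ← Category.assoc, ← Category.assoc,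
      ← Functor.map_comp, ← Functor.map_comp, hr₁, hr₂, Functor.map_comp, Functor.map_comp,
      Category.assoc, Category.assoc, sq.w]
  have hππ : resι W w' ≫ π₁ = resι W w' ≫ π₂ := by
    rw [← hr₁, ← hr₂, hrr]
  have hfac : resι W w' = (resι W w' ≫ π₁) ≫ δ := by
    apply rep.hom_ext'
    · rw [Category.assoc, hδ₁, Category.comp_id]
    · rw [Category.assoc, hδ₂, Category.comp_id]
      exact hππ.symm
  have hmem : w' ∈ Set.range δ.left := by
    have h1 : (resι W w').left = (resι W w' ≫ π₁).left ≫ δ.left := by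
      conv_lhs => rw [hfac]
      rfl
    have h2 : W.left.fromSpecResidueField w' (IsLocalRing.closedPoint _) = w' :=
      Scheme.fromSpecResidueField_apply _ _
    refine ⟨(resι W w' ≫ π₁).left (IsLocalRing.closedPoint _), ?_⟩
    rw [← Scheme.Hom.comp_apply, ← h1]
    exact h2
  -- the equalizer
  let E : U₁.left.Opens := bc.left ⁻¹ᵁ δ.left.opensRange
  have hu₁E : u₁ ∈ E := hmem
  let Uo : Over S := Over.mk (E.ι ≫ U₁.hom)
  let h : Uo ⟶ U₁ := Over.homMk E.ι rfl
  have hnb : Hens2.IsEtaleNbhd E.ι (⟨u₁, hu₁E⟩ : ↥E) u₁ :=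
    ⟨inferInstance, rfl, (ConcreteCategory.isIso_iff_bijective _).1 inferInstance⟩
  have hel := isElemEtaleNbhd_comp a₁ u₁ x h₁ E.ι (⟨u₁, hu₁E⟩ : ↥E) hnb
  refine ⟨Uo, (yon S).map h ≫ a₁, (⟨u₁, hu₁E⟩ : ↥E), h, hel, rfl, rfl, ?_⟩
  have hrange : Set.range (E.ι ≫ bc.left) ⊆ Set.range δ.left := by
    rintro _ ⟨e, rfl⟩
    exact e.2
  let e : (E : Scheme.{u}) ⟶ U₂.left := IsOpenImmersion.lift δ.left (E.ι ≫ bc.left) hrange
  have he : e ≫ δ.left = E.ι ≫ bc.left := IsOpenImmersion.lift_fac _ _ _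
  apply Over.OverMorphism.ext
  show E.ι ≫ b.left = E.ι ≫ c.left
  have hδl₂ : δ.left ≫ π₂.left = 𝟙 _ := by
    rw [← Over.comp_left, hδ₂]
    rfl
  have e1 : E.ι ≫ b.left = e := by
    rw [← hbc₁, Over.comp_left, ← Category.assoc, ← he, Category.assoc, hδl, Category.comp_id]
  have e2 : E.ι ≫ c.left = e := by
    rw [← hbc₂, Over.comp_left, ← Category.assoc, ← he, Category.assoc, hδl₂, Category.comp_id]
  rw [e1, e2]

end Groth.Agent.Lib.H5bElemNbhd
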