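import Mathlib
import Groth.Prelude.Def_Hensel
import Groth.Agent.Lib.Helper3HenselL
import Groth.Agent.Lib.Helper3HzP
import Groth.Agent.Lib.H5bBranchRing

/-!
# A henselization of an étale-local extension with trivial residue extension is a henselization
of the base (helper5)
-/

set_option autoImplicit false
set_option linter.style.haveILetI false
set_option linter.unusedSectionVars false
universe u

namespace Groth.Agent.Lib.H5bHzTransfer

open IsLocalRing

/-- Let `A = (R₀)_p`, `B = E_q` with `E` étale over `R₀`, `q` over `p`, and `κ(A) → κ(B)`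
surjective.  A henselization of `B` is a henselization of `A`. -/
theorem isHenselization_of_etale_local
    {R₀ E A B R : Type u} [CommRing R₀] [CommRing E] [CommRing A] [CommRing B] [CommRing R]
    [Algebra R₀ E] [Algebra.Etale R₀ E]
    (p : Ideal R₀) [p.IsPrime] (q : Ideal E) [q.IsPrime]
    [Algebra R₀ A] [IsLocalization.AtPrime A p] [Algebra E B] [IsLocalization.AtPrime B q]
    [IsLocalRing A] [IsLocalRing B] [IsLocalRing R]
    [Algebra A B] [IsLocalHom (algebraMap A B)]
    (hcomm : (algebraMap A B).comp (algebraMap R₀ A) = (algebraMap E B).comp (algebraMap R₀ E))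
    (hres : Function.Surjective (IsLocalRing.ResidueField.map (algebraMap A B)))
    [Algebra B R] [IsLocalHom (algebraMap B R)] [hBR : Hensel.IsHenselization B R]
    [Algebra A R] [IsScalarTower A B R] :
    ∃ (_ : IsLocalHom (algebraMap A R)), Hensel.IsHenselization A R := by
  have hloc : IsLocalHom (algebraMap A R) := by
    rw [IsScalarTower.algebraMap_eq A B R]
    exact RingHom.isLocalHom_comp _ _
  refine ⟨hloc, ⟨hBR.henselian, ?_⟩⟩
  intro T _ _ f hf
  haveI := hf
  letI algAT : Algebra A T := f.toAlgebra
  letI algR₀T : Algebra R₀ T := (f.comp (algebraMap R₀ A)).toAlgebra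
  haveI : IsScalarTower R₀ A T := IsScalarTower.of_algebraMap_eq (fun _ => rfl)
  letI algR₀B : Algebra R₀ B := ((algebraMap E B).comp (algebraMap R₀ E)).toAlgebra
  haveI : IsScalarTower R₀ E B := IsScalarTower.of_algebraMap_eq (fun _ => rfl)
  haveI : IsScalarTower R₀ A B :=
    IsScalarTower.of_algebraMap_eq (fun r => (congrArg (fun m => m r) hcomm).symm)
  haveI : Algebra.FormallyUnramified E B :=
    Algebra.FormallyUnramified.of_isLocalization q.primeCompl
  haveI : Algebra.FormallyUnramified R₀ B := Algebra.FormallyUnramified.comp R₀ E B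
  haveI : Algebra.FormallyUnramified A B := Algebra.FormallyUnramified.of_restrictScalars R₀ A B
  haveI : Algebra.EssFiniteType E B := Algebra.EssFiniteType.of_isLocalization B q.primeCompl
  haveI : Algebra.EssFiniteType R₀ B := Algebra.EssFiniteType.comp R₀ E B
  haveI : Algebra.EssFiniteType A B := Algebra.EssFiniteType.of_comp R₀ A B
  have hmB : (maximalIdeal A).map (algebraMap A B) = maximalIdeal B :=
    Algebra.FormallyUnramified.map_maximalIdeal
  -- any extension of `f` to `B` maps the maximal ideal into the maximal ideal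
  have key1 : ∀ β : B →+* T, β.comp (algebraMap A B) = f →
      ∀ b ∈ maximalIdeal B, β b ∈ maximalIdeal T := by
    intro β hβ b hb
    rw [← hmB] at hb
    have hle : (maximalIdeal A).map (algebraMap A B) ≤ (maximalIdeal T).comap β := by
      rw [Ideal.map_le_iff_le_comap, Ideal.comap_comap, hβ]
      exact ((local_hom_TFAE f).out 0 3 rfl rfl).mp hf
    exact hle hb
  -- uniqueness of extensions of `f` to `B`
  have key2 : ∀ β₁ β₂ : B →+* T, β₁.comp (algebraMap A B) = f →
      β₂.comp (algebraMap A B) = f → β₁ = β₂ := by
    intro β₁ β₂ h₁ h₂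
    have hresid : ∀ b : B, residue T (β₁ b) = residue T (β₂ b) := by
      intro b
      obtain ⟨y, hy⟩ := hres (residue B b)
      obtain ⟨a, rfl⟩ := IsLocalRing.residue_surjective y
      rw [IsLocalRing.ResidueField.map_residue] at hy
      have hm : b - algebraMap A B a ∈ maximalIdeal B := by
        rw [← IsLocalRing.residue_eq_zero_iff, map_sub, hy, sub_self]
      have e1 := key1 β₁ h₁ _ hm
      have e2 := key1 β₂ h₂ _ hm
      have ha1 : β₁ (algebraMap A B a) = f a := congrArg (fun m => m a) h₁
      have ha2 : β₂ (algebraMap A B a) = f a := congrArg (fun m => m a) h₂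
      have hb1 : β₁ b = β₁ (b - algebraMap A B a) + f a := by
        rw [map_sub, ha1, sub_add_cancel]
      have hb2 : β₂ b = β₂ (b - algebraMap A B a) + f a := by
        rw [map_sub, ha2, sub_add_cancel]
      rw [hb1, hb2, map_add, map_add, (IsLocalRing.residue_eq_zero_iff _).2 e1,
        (IsLocalRing.residue_eq_zero_iff _).2 e2]
    let θ₁ : E →ₐ[R₀] T :=
      { β₁.comp (algebraMap E B) with
        commutes' := fun r => by
          show β₁ (algebraMap E B (algebraMap R₀ E r)) = f (algebraMap R₀ A r)
          rw [← h₁]
          exact congrArg β₁ (congrArg (fun m => m r) hcomm).symm }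
    let θ₂ : E →ₐ[R₀] T :=
      { β₂.comp (algebraMap E B) with
        commutes' := fun r => by
          show β₂ (algebraMap E B (algebraMap R₀ E r)) = f (algebraMap R₀ A r)
          rw [← h₂]
          exact congrArg β₂ (congrArg (fun m => m r) hcomm).symm }
    let χ : E →ₐ[R₀] ResidueField T :=
      { (residue T).comp θ₁.toRingHom with
        commutes' := fun r => by
          show residue T (θ₁ (algebraMap R₀ E r)) = algebraMap R₀ (ResidueField T) r
          rw [θ₁.commutes]
          rfl }
    obtain ⟨θ, -, huniq⟩ :=
      Groth.Agent.Lib.Helper3.Hensel.existsUnique_algHom_residue (R := R₀) (S := T) (A := E) χ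
    have hθ₁ : θ₁ = θ := huniq θ₁ (fun e => rfl)
    have hθ₂ : θ₂ = θ := huniq θ₂ (fun e => (hresid (algebraMap E B e)).symm)
    apply IsLocalization.ringHom_ext q.primeCompl
    ext e
    exact congrArg (fun m : E →ₐ[R₀] T => m e) (hθ₁.trans hθ₂.symm)
  -- existence of an extension of `f` to `B`
  have key3 : ∃ β : B →+* T, β.comp (algebraMap A B) = f := by
    let e : ResidueField A ≃+* ResidueField B :=
      RingEquiv.ofBijective (IsLocalRing.ResidueField.map (algebraMap A B))
        ⟨(IsLocalRing.ResidueField.map (algebraMap A B)).injective, hres⟩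
    let χ₀ : E →+* ResidueField T := (IsLocalRing.ResidueField.map f).comp
      (e.symm.toRingHom.comp ((residue B).comp (algebraMap E B)))
    have hχ₀ : ∀ r : R₀, χ₀ (algebraMap R₀ E r) = algebraMap R₀ (ResidueField T) r := by
      intro r
      show IsLocalRing.ResidueField.map f (e.symm (residue B (algebraMap E B
        (algebraMap R₀ E r)))) = _
      have h1 : algebraMap E B (algebraMap R₀ E r) = algebraMap A B (algebraMap R₀ A r) :=
        (congrArg (fun m => m r) hcomm).symm
      have h2 : residue B (algebraMap A B (algebraMap R₀ A r)) =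
          e (residue A (algebraMap R₀ A r)) :=
        (IsLocalRing.ResidueField.map_residue _ _).symm
      rw [h1, h2, e.symm_apply_apply, IsLocalRing.ResidueField.map_residue]
      rfl
    let χ : E →ₐ[R₀] ResidueField T := { χ₀ with commutes' := hχ₀ }
    have hker : RingHom.ker χ.toRingHom = q := by
      ext x
      rw [RingHom.mem_ker]
      show IsLocalRing.ResidueField.map f (e.symm (residue B (algebraMap E B x))) = 0 ↔ _
      rw [map_eq_zero_iff _ (IsLocalRing.ResidueField.map f).injective,
        map_eq_zero_iff _ e.symm.injective, IsLocalRing.residue_eq_zero_iff]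
      exact IsLocalization.AtPrime.to_map_mem_maximal_iff B q x
    obtain ⟨θ, hθ⟩ := Groth.Agent.Lib.H5bBranchRing.exists_algHom_of_ker χ
    rw [hker] at hθ
    have hunits : ∀ y : q.primeCompl, IsUnit (θ.toRingHom y) := by
      intro y
      by_contra hnu
      have hmem : θ.toRingHom y ∈ maximalIdeal T := (IsLocalRing.mem_maximalIdeal _).2 hnu
      have : (y : E) ∈ q := hθ.le (Ideal.mem_comap.2 hmem)
      exact y.2 this
    refine ⟨IsLocalization.lift (M := q.primeCompl) (g := θ.toRingHom) hunits, ?_⟩
    apply IsLocalization.ringHom_ext p.primeCompl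
    ext r
    show IsLocalization.lift (M := q.primeCompl) (g := θ.toRingHom) hunits
      (algebraMap A B (algebraMap R₀ A r)) = f (algebraMap R₀ A r)
    have h1 : algebraMap A B (algebraMap R₀ A r) = algebraMap E B (algebraMap R₀ E r) :=
      congrArg (fun m => m r) hcomm
    rw [h1, IsLocalization.lift_eq]
    exact θ.commutes r
  obtain ⟨β, hβ⟩ := key3
  have hβloc : IsLocalHom β := by
    refine ⟨fun b hb => ?_⟩
    by_contra hnb
    have h1 : b ∈ maximalIdeal B := (IsLocalRing.mem_maximalIdeal _).2 hnb
    exact ((IsLocalRing.mem_maximalIdeal _).1 (key1 β hβ b h1)) hb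
  obtain ⟨g', hg', huniq'⟩ := hBR.universal T β hβloc
  refine ⟨g', ?_, ?_⟩
  · show g'.comp (algebraMap A R) = f
    rw [IsScalarTower.algebraMap_eq A B R, ← RingHom.comp_assoc, hg', hβ]
  · intro g'' hg''
    apply huniq'
    apply key2 _ _ ?_ hβ
    rw [RingHom.comp_assoc, ← IsScalarTower.algebraMap_eq A B R]
    exact hg''

end Groth.Agent.Lib.H5bHzTransfer
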