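import Mathlib
import Groth.Prelude.Def_Hensel
import Groth.Prelude.Def_AlgSpDec
import Groth.Agent.Lib.H5bHzTransfer
import Groth.Agent.Lib.H5bFibChart
import Groth.Agent.Lib.Helper10MonoField

/-!
# Henselizations along morphisms of elementary étale neighbourhoods (helper5)
-/

set_option autoImplicit false
set_option linter.style.haveILetI false
universe u

namespace Groth.Agent.Lib.H5bHzTransferSch

open AlgebraicGeometry CategoryTheory IsLocalRing

/-- for an étale morphism `g : U' ⟶ U` and a point `u'` with trivial residue field extension, a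
henselization of `O_{U',u'}` is a henselization of `O_{U,g u'}`. -/
theorem isHenselization_stalk_of_etale {U' U : Scheme.{u}} (g : U' ⟶ U) [Etale g] (u' : U')
    (hbij : Function.Bijective (g.residueFieldMap u'))
    (R : Type u) [CommRing R] [IsLocalRing R] [Algebra (U'.presheaf.stalk u') R]
    [IsLocalHom (algebraMap (U'.presheaf.stalk u') R)]
    [Hensel.IsHenselization (U'.presheaf.stalk u') R] :
    letI : Algebra (U.presheaf.stalk (g u')) R :=
      ((algebraMap (U'.presheaf.stalk u') R).comp (g.stalkMap u').hom).toAlgebra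
    ∃ (_ : IsLocalHom (algebraMap (U.presheaf.stalk (g u')) R)),
      Hensel.IsHenselization (U.presheaf.stalk (g u')) R := by
  letI algAR : Algebra (U.presheaf.stalk (g u')) R :=
    ((algebraMap (U'.presheaf.stalk u') R).comp (g.stalkMap u').hom).toAlgebra
  obtain ⟨W, hW, hxW, -⟩ :=
    exists_isAffineOpen_mem_and_subset (X := U) (x := g u') (U := ⊤) trivial
  obtain ⟨V, hV, huV, hVW⟩ :=
    exists_isAffineOpen_mem_and_subset (X := U') (x := u') (U := g ⁻¹ᵁ W) hxW
  letI algRE : Algebra Γ(U, W) Γ(U', V) := (g.appLE W V hVW).hom.toAlgebra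
  haveI : Algebra.Etale Γ(U, W) Γ(U', V) :=
    HasRingHomProperty.appLE @Etale g inferInstance ⟨W, hW⟩ ⟨V, hV⟩ hVW
  letI algRA : Algebra Γ(U, W) (U.presheaf.stalk (g u')) :=
    (U.presheaf.germ W (g u') hxW).hom.toAlgebra
  haveI hlocA : IsLocalization.AtPrime (U.presheaf.stalk (g u'))
      (hW.primeIdealOf ⟨g u', hxW⟩).asIdeal := hW.isLocalization_stalk ⟨g u', hxW⟩
  letI algEB : Algebra Γ(U', V) (U'.presheaf.stalk u') :=
    (U'.presheaf.germ V u' huV).hom.toAlgebra
  haveI hlocB : IsLocalization.AtPrime (U'.presheaf.stalk u')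
      (hV.primeIdealOf ⟨u', huV⟩).asIdeal := hV.isLocalization_stalk ⟨u', huV⟩
  letI algAB : Algebra (U.presheaf.stalk (g u')) (U'.presheaf.stalk u') :=
    (g.stalkMap u').hom.toAlgebra
  haveI : IsLocalHom (algebraMap (U.presheaf.stalk (g u')) (U'.presheaf.stalk u')) := by
    show IsLocalHom (g.stalkMap u').hom
    infer_instance
  haveI : IsScalarTower (U.presheaf.stalk (g u')) (U'.presheaf.stalk u') R :=
    IsScalarTower.of_algebraMap_eq (fun _ => rfl)
  have hcomm : (algebraMap (U.presheaf.stalk (g u')) (U'.presheaf.stalk u')).comp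
      (algebraMap Γ(U, W) (U.presheaf.stalk (g u'))) =
      (algebraMap Γ(U', V) (U'.presheaf.stalk u')).comp (algebraMap Γ(U, W) Γ(U', V)) := by
    ext r
    show (g.stalkMap u').hom ((U.presheaf.germ W (g u') hxW).hom r) =
      (U'.presheaf.germ V u' huV).hom ((g.appLE W V hVW).hom r)
    have := Scheme.Hom.germ_stalkMap_apply g W u' hxW r
    rw [this]
    simp only [Scheme.Hom.appLE, homOfLE_leOfHom, CommRingCat.hom_comp, RingHom.coe_comp,
      Function.comp_apply, U'.presheaf.germ_res_apply]
  have hres : Function.Surjective (IsLocalRing.ResidueField.map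
      (algebraMap (U.presheaf.stalk (g u')) (U'.presheaf.stalk u'))) := hbij.2
  exact Groth.Agent.Lib.H5bHzTransfer.isHenselization_of_etale_local
    (R₀ := Γ(U, W)) (E := Γ(U', V)) (A := U.presheaf.stalk (g u'))
    (B := U'.presheaf.stalk u') (R := R)
    (hW.primeIdealOf ⟨g u', hxW⟩).asIdeal (hV.primeIdealOf ⟨u', huV⟩).asIdeal hcomm hres

open AlgSp in
/-- a morphism of étale charts of an algebraic space is étale, and is trivial on residue fields at a
point where the source chart is an elementary étale neighbourhood. -/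
theorem etale_and_bijective_of_elem_nbhds {S : Scheme.{u}} {X : AlgSp.Sp S} {U U' : Over S}
    (a : (yon S).obj U ⟶ X) (a' : (yon S).obj U' ⟶ X) (g : U' ⟶ U) (u' : ↥U'.left)
    (hg : (yon S).map g ≫ a = a') (haE : RepWith @Etale a) (haE' : RepWith @Etale a')
    (hmono : Mono (FieldPt.ofPt a' u').toHom) :
    Etale g.left ∧ Function.Bijective (g.left.residueFieldMap u') := by
  have h1 : RepWith @Etale ((yon S).map g) :=
    Groth.Agent.Lib.H5bFibChart.repWith_etale_of_comp (IsAlgSpace.yon_obj U) ((yon S).map g) a haE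
      (hg ▸ haE')
  have hE : Etale g.left := (repWith_yon_map_iff @Etale g).1 h1
  refine ⟨hE, ?_⟩
  set ρ := g.left.residueFieldMap u' with hρ
  have hsq : Spec.map ρ ≫ U.left.fromSpecResidueField (g.left u') =
      U'.left.fromSpecResidueField u' ≫ g.left :=
    Scheme.Hom.SpecMap_residueFieldMap_fromSpecResidueField g.left u'
  let r : Over.mk (U'.left.fromSpecResidueField u' ≫ U'.hom) ⟶
      Over.mk (U.left.fromSpecResidueField (g.left u') ≫ U.hom) :=
    Over.homMk (Spec.map ρ) (by
      show Spec.map ρ ≫ U.left.fromSpecResidueField (g.left u') ≫ U.hom = _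
      rw [reassoc_of% hsq, Over.w g]
      rfl)
  have hr : r ≫ Over.homMk (U.left.fromSpecResidueField (g.left u')) rfl =
      (Over.homMk (U'.left.fromSpecResidueField u') rfl :
        Over.mk (U'.left.fromSpecResidueField u' ≫ U'.hom) ⟶ U') ≫ g := by
    apply Over.OverMorphism.ext
    exact hsq
  have hfac : (yon S).map (Over.homMk (U'.left.fromSpecResidueField u') rfl :
        Over.mk (U'.left.fromSpecResidueField u' ≫ U'.hom) ⟶ U') ≫ a' = (yon S).map r ≫
      ((yon S).map (Over.homMk (U.left.fromSpecResidueField (g.left u')) rfl) ≫ a) := by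
    rw [← hg, ← Category.assoc, ← Functor.map_comp, ← hr, Functor.map_comp, Category.assoc]
  have hmono' : Mono ((yon S).map (Over.homMk (U'.left.fromSpecResidueField u') rfl :
        Over.mk (U'.left.fromSpecResidueField u' ≫ U'.hom) ⟶ U') ≫ a') := by
    have := hmono
    rw [FieldPt.toHom_ofPt] at this
    exact this
  have hm1 : Mono ((yon S).map r) := by
    rw [hfac] at hmono'
    exact mono_of_mono _ ((yon S).map (Over.homMk (U.left.fromSpecResidueField (g.left u')) rfl) ≫ a)
  have hm2 : Mono r := (yon S).mono_of_mono_map hm1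
  have hm3 : Mono (Spec.map ρ) := by
    have : Mono r.left := inferInstance
    exact this
  have hepi : Epi ρ := by
    have : Mono ρ.op := Scheme.Spec.mono_of_mono_map (by exact hm3)
    exact unop_epi_of_mono ρ.op
  have hsurj : Function.Surjective ρ.hom := by
    algebraize [ρ.hom]
    have : Algebra.IsEpi (U.left.residueField (g.left u')) (U'.left.residueField u') :=
      CommRingCat.epi_iff_epi.mp <| inferInstanceAs (Epi ρ)
    exact Groth.Agent.Lib.Helper10.MonoField.surjective_of_isEpi_field _ _
  exact ⟨ρ.hom.injective, hsurj⟩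

end Groth.Agent.Lib.H5bHzTransferSch
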