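import Mathlib
import Groth.Prelude.Def_Hensel
import Groth.Agent.Lib.Helper3HenselL
import Groth.Agent.Lib.Helper3HzP
import Groth.Agent.Lib.H5bBranchRing

/-!
# A henselization of a local ring is a henselization of an étale-local extension with trivial
residue extension (helper5)
-/

set_option autoImplicit false
set_option linter.style.haveILetI false
set_option linter.unusedSectionVars false
universe u

namespace Groth.Agent.Lib.H5bHzUp

open IsLocalRing

section

variable {R₀ E A B T : Type u} [CommRing R₀] [CommRing E] [CommRing A] [CommRing B] [CommRing T]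
    [Algebra R₀ E] [Algebra.Etale R₀ E]
    (p : Ideal R₀) [p.IsPrime] (q : Ideal E) [q.IsPrime]
    [Algebra R₀ A] [IsLocalization.AtPrime A p] [Algebra E B] [IsLocalization.AtPrime B q]
    [IsLocalRing A] [IsLocalRing B] [HenselianLocalRing T]
    [Algebra A B] [IsLocalHom (algebraMap A B)]
    (hcomm : (algebraMap A B).comp (algebraMap R₀ A) = (algebraMap E B).comp (algebraMap R₀ E))
    (hres : Function.Surjective (IsLocalRing.ResidueField.map (algebraMap A B)))
    (f : A →+* T) (hf : IsLocalHom f)

include p q hcomm hf in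
/-- any extension of `f` to `B` maps the maximal ideal into the maximal ideal. -/
theorem map_mem_maximalIdeal (β : B →+* T) (hβ : β.comp (algebraMap A B) = f)
    (b : B) (hb : b ∈ maximalIdeal B) : β b ∈ maximalIdeal T := by
  letI algR₀B : Algebra R₀ B := ((algebraMap E B).comp (algebraMap R₀ E)).toAlgebra
  haveI : IsScalarTower R₀ E B := IsScalarTower.of_algebraMap_eq (fun _ => rfl)
  haveI : IsScalarTower R₀ A B :=
    IsScalarTower.of_algebraMap_eq (fun r => (congrArg (fun m => m r) hcomm).symm)
  haveI : Algebra.FormallyUnramified E B :=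
    Algebra.FormallyUnramified.of_isLocalization q.primeCompl
  haveI : Algebra.FormallyUnramified R₀ B := Algebra.FormallyUnramified.comp R₀ E B
  haveI : Algebra.FormallyUnramified A B := Algebra.FormallyUnramified.of_restrictScalars R₀ A B
  haveI : Algebra.EssFiniteType E B := Algebra.EssFiniteType.of_isLocalization B q.primeCompl
  haveI : Algebra.EssFiniteType R₀ B := Algebra.EssFiniteType.comp R₀ E B
  haveI : Algebra.EssFiniteType A B := Algebra.EssFiniteType.of_comp R₀ A B
  have hmB : (maximalIdeal A).map (algebraMap A B) = maximalIdeal B :=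
    Algebra.FormallyUnramified.map_maximalIdeal
  rw [← hmB] at hb
  have hle : (maximalIdeal A).map (algebraMap A B) ≤ (maximalIdeal T).comap β := by
    rw [Ideal.map_le_iff_le_comap, Ideal.comap_comap, hβ]
    exact ((local_hom_TFAE f).out 0 3 rfl rfl).mp hf
  exact hle hb

include p q hcomm hres hf in
/-- uniqueness of extensions of `f` to `B`. -/
theorem ext_of_comp_eq (β₁ β₂ : B →+* T) (h₁ : β₁.comp (algebraMap A B) = f)
    (h₂ : β₂.comp (algebraMap A B) = f) : β₁ = β₂ := by
  letI algAT : Algebra A T := f.toAlgebra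
  letI algR₀T : Algebra R₀ T := (f.comp (algebraMap R₀ A)).toAlgebra
  haveI : IsScalarTower R₀ A T := IsScalarTower.of_algebraMap_eq (fun _ => rfl)
  have key1 := map_mem_maximalIdeal p q hcomm f hf
  have hresid : ∀ b : B, residue T (β₁ b) = residue T (β₂ b) := by
    intro b
    obtain ⟨y, hy⟩ := hres (residue B b)
    obtain ⟨a, rfl⟩ := IsLocalRing.residue_surjective y
    rw [IsLocalRing.ResidueField.map_residue] at hy
    have hm : b - algebraMap A B a ∈ maximalIdeal B := by
      rw [← IsLocalRing.residue_eq_zero_iff, map_sub, hy, sub_self]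
    have e1 := key1 β₁ h₁ _ hm
    have e2 := key1 β₂ h₂ _ hm
    have ha1 : β₁ (algebraMap A B a) = f a := congrArg (fun m => m a) h₁
    have ha2 : β₂ (algebraMap A B a) = f a := congrArg (fun m => m a) h₂
    have hb1 : β₁ b = β₁ (b - algebraMap A B a) + f a := by
      rw [map_sub, ha1, sub_add_cancel]
    have hb2 : β₂ b = β₂ (b - algebraMap A B a) + f a := by
      rw [map_sub, ha2, sub_add_cancel]
    rw [hb1, hb2, map_add, map_add, (IsLocalRing.residue_eq_zero_iff _).2 e1,
      (IsLocalRing.residue_eq_zero_iff _).2 e2]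
  let θ₁ : E →ₐ[R₀] T :=
    { β₁.comp (algebraMap E B) with
      commutes' := fun r => by
        show β₁ (algebraMap E B (algebraMap R₀ E r)) = f (algebraMap R₀ A r)
        rw [← h₁]
        exact congrArg β₁ (congrArg (fun m => m r) hcomm).symm }
  let θ₂ : E →ₐ[R₀] T :=
    { β₂.comp (algebraMap E B) with
      commutes' := fun r => by
        show β₂ (algebraMap E B (algebraMap R₀ E r)) = f (algebraMap R₀ A r)
        rw [← h₂]
        exact congrArg β₂ (congrArg (fun m => m r) hcomm).symm }
  let χ : E →ₐ[R₀] ResidueField T :=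
    { (residue T).comp θ₁.toRingHom with
      commutes' := fun r => by
        show residue T (θ₁ (algebraMap R₀ E r)) = algebraMap R₀ (ResidueField T) r
        rw [θ₁.commutes]
        rfl }
  obtain ⟨θ, -, huniq⟩ :=
    Groth.Agent.Lib.Helper3.Hensel.existsUnique_algHom_residue (R := R₀) (S := T) (A := E) χ
  have hθ₁ : θ₁ = θ := huniq θ₁ (fun e => rfl)
  have hθ₂ : θ₂ = θ := huniq θ₂ (fun e => (hresid (algebraMap E B e)).symm)
  apply IsLocalization.ringHom_ext q.primeCompl
  ext e
  exact congrArg (fun m : E →ₐ[R₀] T => m e) (hθ₁.trans hθ₂.symm)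

include p q hcomm hres hf in
/-- existence of an extension of `f` to `B`. -/
theorem exists_extension : ∃ β : B →+* T, β.comp (algebraMap A B) = f := by
  letI algAT : Algebra A T := f.toAlgebra
  letI algR₀T : Algebra R₀ T := (f.comp (algebraMap R₀ A)).toAlgebra
  haveI : IsScalarTower R₀ A T := IsScalarTower.of_algebraMap_eq (fun _ => rfl)
  let e : ResidueField A ≃+* ResidueField B :=
    RingEquiv.ofBijective (IsLocalRing.ResidueField.map (algebraMap A B))
      ⟨(IsLocalRing.ResidueField.map (algebraMap A B)).injective, hres⟩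
  let χ₀ : E →+* ResidueField T := (IsLocalRing.ResidueField.map f).comp
    (e.symm.toRingHom.comp ((residue B).comp (algebraMap E B)))
  have hχ₀ : ∀ r : R₀, χ₀ (algebraMap R₀ E r) = algebraMap R₀ (ResidueField T) r := by
    intro r
    show IsLocalRing.ResidueField.map f (e.symm (residue B (algebraMap E B
      (algebraMap R₀ E r)))) = _
    have h1 : algebraMap E B (algebraMap R₀ E r) = algebraMap A B (algebraMap R₀ A r) :=
      (congrArg (fun m => m r) hcomm).symm
    have h2 : residue B (algebraMap A B (algebraMap R₀ A r)) =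
        e (residue A (algebraMap R₀ A r)) :=
      (IsLocalRing.ResidueField.map_residue _ _).symm
    rw [h1, h2, e.symm_apply_apply, IsLocalRing.ResidueField.map_residue]
    rfl
  let χ : E →ₐ[R₀] ResidueField T := { χ₀ with commutes' := hχ₀ }
  have hker : RingHom.ker χ.toRingHom = q := by
    ext x
    rw [RingHom.mem_ker]
    show IsLocalRing.ResidueField.map f (e.symm (residue B (algebraMap E B x))) = 0 ↔ _
    rw [map_eq_zero_iff _ (IsLocalRing.ResidueField.map f).injective,
      map_eq_zero_iff _ e.symm.injective, IsLocalRing.residue_eq_zero_iff]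
    exact IsLocalization.AtPrime.to_map_mem_maximal_iff B q x
  obtain ⟨θ, hθ⟩ := Groth.Agent.Lib.H5bBranchRing.exists_algHom_of_ker χ
  rw [hker] at hθ
  have hunits : ∀ y : q.primeCompl, IsUnit (θ.toRingHom y) := by
    intro y
    by_contra hnu
    have hmem : θ.toRingHom y ∈ maximalIdeal T := (IsLocalRing.mem_maximalIdeal _).2 hnu
    have : (y : E) ∈ q := hθ.le (Ideal.mem_comap.2 hmem)
    exact y.2 this
  refine ⟨IsLocalization.lift (M := q.primeCompl) (g := θ.toRingHom) hunits, ?_⟩
  apply IsLocalization.ringHom_ext p.primeCompl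
  ext r
  show IsLocalization.lift (M := q.primeCompl) (g := θ.toRingHom) hunits
    (algebraMap A B (algebraMap R₀ A r)) = f (algebraMap R₀ A r)
  have h1 : algebraMap A B (algebraMap R₀ A r) = algebraMap E B (algebraMap R₀ E r) :=
    congrArg (fun m => m r) hcomm
  rw [h1, IsLocalization.lift_eq]
  exact θ.commutes r

end

/-- Let `A = (R₀)_p`, `B = E_q` with `E` étale over `R₀`, `q` over `p`, and `κ(A) → κ(B)`
surjective.  A henselization `R` of `A` has a unique structure of `B`-algebra over `A`, and is a
henselization of `B`. -/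
theorem exists_isHenselization_of_etale_local
    {R₀ E A B R : Type u} [CommRing R₀] [CommRing E] [CommRing A] [CommRing B] [CommRing R]
    [Algebra R₀ E] [Algebra.Etale R₀ E]
    (p : Ideal R₀) [p.IsPrime] (q : Ideal E) [q.IsPrime]
    [Algebra R₀ A] [IsLocalization.AtPrime A p] [Algebra E B] [IsLocalization.AtPrime B q]
    [IsLocalRing A] [IsLocalRing B] [IsLocalRing R]
    [Algebra A B] [IsLocalHom (algebraMap A B)]
    (hcomm : (algebraMap A B).comp (algebraMap R₀ A) = (algebraMap E B).comp (algebraMap R₀ E))
    (hres : Function.Surjective (IsLocalRing.ResidueField.map (algebraMap A B)))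
    [Algebra A R] [hloc : IsLocalHom (algebraMap A R)] [hAR : Hensel.IsHenselization A R] :
    ∃ β : B →+* R, β.comp (algebraMap A B) = algebraMap A R ∧
      letI : Algebra B R := β.toAlgebra
      ∃ (_ : IsLocalHom (algebraMap B R)), Hensel.IsHenselization B R := by
  haveI : HenselianLocalRing R := hAR.henselian
  obtain ⟨β, hβ⟩ := exists_extension p q hcomm hres (algebraMap A R) hloc
  refine ⟨β, hβ, ?_⟩
  letI : Algebra B R := β.toAlgebra
  have hβloc : IsLocalHom β := by
    refine ⟨fun b hb => ?_⟩
    by_contra hnb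
    have h1 : b ∈ maximalIdeal B := (IsLocalRing.mem_maximalIdeal _).2 hnb
    exact ((IsLocalRing.mem_maximalIdeal _).1
      (map_mem_maximalIdeal p q hcomm (algebraMap A R) hloc β hβ b h1)) hb
  refine ⟨hβloc, ⟨hAR.henselian, ?_⟩⟩
  intro T _ _ φ hφ
  haveI := hφ
  have hfloc : IsLocalHom (φ.comp (algebraMap A B)) := RingHom.isLocalHom_comp _ _
  obtain ⟨g, hg, huniq⟩ := hAR.universal T (φ.comp (algebraMap A B)) hfloc
  refine ⟨g, ?_, ?_⟩
  · show g.comp β = φ
    apply ext_of_comp_eq p q hcomm hres (φ.comp (algebraMap A B)) hfloc _ _ ?_ rfl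
    rw [RingHom.comp_assoc, hβ]
    exact hg
  · intro g' hg'
    apply huniq
    have hg'' : g'.comp β = φ := hg'
    rw [← hβ, ← RingHom.comp_assoc, hg'']

end Groth.Agent.Lib.H5bHzUp
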