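import Mathlib
import Groth.Prelude.Def_Hensel
import Groth.Prelude.Def_AlgSpDec
import Groth.Prelude.Def_Brnch
import Groth.Agent.Lib.H5bHzUp
import Groth.Agent.Lib.H5bHzTransferSch
import Groth.Agent.Lib.H5bElemNbhd
import Groth.Agent.Lib.H5bBranchMain
import Groth.Agent.Lib.Helper14IrrComp

/-!
# The henselian local ring of a decent space at a point: independence of the elementary étale
neighbourhood, and branches (helper5)
-/

set_option autoImplicit false
set_option linter.style.haveILetI false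
universe u

namespace Groth.Agent.Lib.H5bElemHz

open AlgebraicGeometry CategoryTheory IsLocalRing AlgSp

/-- for an étale morphism `g : U' ⟶ U` and a point `u'` with trivial residue field extension, a
henselization of `O_{U,g u'}` is a henselization of `O_{U',u'}`. -/
theorem exists_isHenselization_stalk_of_etale {U' U : Scheme.{u}} (g : U' ⟶ U) [Etale g] (u' : U')
    (hbij : Function.Bijective (g.residueFieldMap u'))
    (R : Type u) [CommRing R] [IsLocalRing R] [Algebra (U.presheaf.stalk (g u')) R]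
    [IsLocalHom (algebraMap (U.presheaf.stalk (g u')) R)]
    [Hensel.IsHenselization (U.presheaf.stalk (g u')) R] :
    ∃ β : U'.presheaf.stalk u' →+* R,
      β.comp (g.stalkMap u').hom = algebraMap (U.presheaf.stalk (g u')) R ∧
      letI : Algebra (U'.presheaf.stalk u') R := β.toAlgebra
      ∃ (_ : IsLocalHom (algebraMap (U'.presheaf.stalk u') R)),
        Hensel.IsHenselization (U'.presheaf.stalk u') R := by
  obtain ⟨W, hW, hxW, -⟩ :=
    exists_isAffineOpen_mem_and_subset (X := U) (x := g u') (U := ⊤) trivial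
  obtain ⟨V, hV, huV, hVW⟩ :=
    exists_isAffineOpen_mem_and_subset (X := U') (x := u') (U := g ⁻¹ᵁ W) hxW
  letI algRE : Algebra Γ(U, W) Γ(U', V) := (g.appLE W V hVW).hom.toAlgebra
  haveI : Algebra.Etale Γ(U, W) Γ(U', V) :=
    HasRingHomProperty.appLE @Etale g inferInstance ⟨W, hW⟩ ⟨V, hV⟩ hVW
  letI algRA : Algebra Γ(U, W) (U.presheaf.stalk (g u')) :=
    (U.presheaf.germ W (g u') hxW).hom.toAlgebra
  haveI hlocA : IsLocalization.AtPrime (U.presheaf.stalk (g u'))
      (hW.primeIdealOf ⟨g u', hxW⟩).asIdeal := hW.isLocalization_stalk ⟨g u', hxW⟩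
  letI algEB : Algebra Γ(U', V) (U'.presheaf.stalk u') :=
    (U'.presheaf.germ V u' huV).hom.toAlgebra
  haveI hlocB : IsLocalization.AtPrime (U'.presheaf.stalk u')
      (hV.primeIdealOf ⟨u', huV⟩).asIdeal := hV.isLocalization_stalk ⟨u', huV⟩
  letI algAB : Algebra (U.presheaf.stalk (g u')) (U'.presheaf.stalk u') :=
    (g.stalkMap u').hom.toAlgebra
  haveI : IsLocalHom (algebraMap (U.presheaf.stalk (g u')) (U'.presheaf.stalk u')) := by
    show IsLocalHom (g.stalkMap u').hom
    infer_instance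
  have hcomm : (algebraMap (U.presheaf.stalk (g u')) (U'.presheaf.stalk u')).comp
      (algebraMap Γ(U, W) (U.presheaf.stalk (g u'))) =
      (algebraMap Γ(U', V) (U'.presheaf.stalk u')).comp (algebraMap Γ(U, W) Γ(U', V)) := by
    ext r
    show (g.stalkMap u').hom ((U.presheaf.germ W (g u') hxW).hom r) =
      (U'.presheaf.germ V u' huV).hom ((g.appLE W V hVW).hom r)
    have := Scheme.Hom.germ_stalkMap_apply g W u' hxW r
    rw [this]
    simp only [Scheme.Hom.appLE, homOfLE_leOfHom, CommRingCat.hom_comp, RingHom.coe_comp,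
      Function.comp_apply, U'.presheaf.germ_res_apply]
  have hres : Function.Surjective (IsLocalRing.ResidueField.map
      (algebraMap (U.presheaf.stalk (g u')) (U'.presheaf.stalk u'))) := hbij.2
  exact Groth.Agent.Lib.H5bHzUp.exists_isHenselization_of_etale_local
    (R₀ := Γ(U, W)) (E := Γ(U', V)) (A := U.presheaf.stalk (g u'))
    (B := U'.presheaf.stalk u') (R := R)
    (hW.primeIdealOf ⟨g u', hxW⟩).asIdeal (hV.primeIdealOf ⟨u', huV⟩).asIdeal hcomm hres

variable {S : Scheme.{u}}

/-- a henselization of the local ring of one elementary étale neighbourhood is (for a suitable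
algebra structure) a henselization of the local ring of any other. -/
theorem exists_isHenselization_of_isElemEtaleNbhd {X : Sp S} (x : Points X) {U₀ : Over S}
    (a₀ : (yon S).obj U₀ ⟶ X) (u₀ : ↥U₀.left) (h₀ : IsElemEtaleNbhd a₀ u₀ x)
    (R : Type u) [CommRing R] [IsLocalRing R] [Algebra ↥(U₀.left.presheaf.stalk u₀) R]
    [IsLocalHom (algebraMap ↥(U₀.left.presheaf.stalk u₀) R)]
    [Hensel.IsHenselization ↥(U₀.left.presheaf.stalk u₀) R]
    {U : Over S} (a : (yon S).obj U ⟶ X) (u : ↥U.left) (h : IsElemEtaleNbhd a u x) :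
    ∃ (_ : Algebra ↥(U.left.presheaf.stalk u) R)
      (_ : IsLocalHom (algebraMap ↥(U.left.presheaf.stalk u) R)),
      Hensel.IsHenselization ↥(U.left.presheaf.stalk u) R := by
  obtain ⟨W, aW, w, p₁, p₂, hW, hp₁, hp₂, hw₁, hw₂⟩ :=
    Groth.Agent.Lib.H5bElemNbhd.exists_common_refinement x a a₀ u u₀ h h₀
  obtain ⟨hE₂, hb₂⟩ := Groth.Agent.Lib.H5bHzTransferSch.etale_and_bijective_of_elem_nbhds
    a₀ aW p₂ w hp₂ h₀.etale hW.etale hW.mono
  obtain ⟨hE₁, hb₁⟩ := Groth.Agent.Lib.H5bHzTransferSch.etale_and_bijective_of_elem_nbhds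
    a aW p₁ w hp₁ h.etale hW.etale hW.mono
  subst hw₂
  subst hw₁
  haveI := hE₂
  haveI := hE₁
  obtain ⟨β, -, hβ'⟩ := exists_isHenselization_stalk_of_etale p₂.left w hb₂ R
  letI : Algebra (W.left.presheaf.stalk w) R := β.toAlgebra
  obtain ⟨hloc, hHz⟩ := hβ'
  haveI := hloc
  haveI := hHz
  obtain ⟨hloc', hHz'⟩ :=
    Groth.Agent.Lib.H5bHzTransferSch.isHenselization_stalk_of_etale p₁.left w hb₁ R
  exact ⟨_, hloc', hHz'⟩

/-- the number of irreducible components through a point is the number of minimal primes of the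
local ring. -/
theorem encard_components_eq_minimalPrimes (U : Scheme.{u}) (u : U) :
    {Z : Set U | Z ∈ irreducibleComponents U ∧ u ∈ Z}.encard =
      (minimalPrimes (U.presheaf.stalk u)).encard := by
  have hb := Groth.Agent.Lib.Helper14.bijOn_irreducibleComponents_specStalk U u
  rw [← hb.image_eq, hb.injOn.encard_image]
  have hb2 : Set.BijOn (fun z : PrimeSpectrum (U.presheaf.stalk u) => z.asIdeal)
      {z | closure ({z} : Set (PrimeSpectrum (U.presheaf.stalk u))) ∈
        irreducibleComponents (PrimeSpectrum (U.presheaf.stalk u))}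
      (minimalPrimes (U.presheaf.stalk u)) := by
    refine ⟨?_, ?_, ?_⟩
    · intro z hz
      have := (PrimeSpectrum.vanishingIdeal_mem_minimalPrimes (s := {z})).2 hz
      rwa [PrimeSpectrum.vanishingIdeal_singleton] at this
    · intro z₁ _ z₂ _ h
      exact PrimeSpectrum.ext h
    · intro P hP
      refine ⟨⟨P, hP.1.1⟩, ?_, rfl⟩
      show closure ({(⟨P, hP.1.1⟩ : PrimeSpectrum (U.presheaf.stalk u))} :
        Set (PrimeSpectrum (U.presheaf.stalk u))) ∈ irreducibleComponents _
      rw [← PrimeSpectrum.vanishingIdeal_mem_minimalPrimes, PrimeSpectrum.vanishingIdeal_singleton]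
      exact hP
  rw [← hb2.image_eq, hb2.injOn.encard_image]
  rfl

theorem hasUniqueMinimalPrime_iff (A : Type u) [CommRing A] :
    CAlgX.HasUniqueMinimalPrime A ↔ (minimalPrimes A).encard = 1 := by
  rw [Set.encard_eq_one]
  constructor
  · rintro ⟨P, hP, huniq⟩
    refine ⟨P, Set.eq_singleton_iff_unique_mem.2 ⟨hP, fun Q hQ => huniq Q hQ⟩⟩
  · rintro ⟨P, hP⟩
    refine ⟨P, by rw [hP]; rfl, fun Q hQ => by rw [hP] at hQ; exact hQ⟩

section Main

variable {X : Sp S} (x : Points X) {U₀ : Over S}
    (a₀ : (yon S).obj U₀ ⟶ X) (u₀ : ↥U₀.left) (h₀ : IsElemEtaleNbhd a₀ u₀ x)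
    (R : Type u) [CommRing R] [IsLocalRing R] [Algebra ↥(U₀.left.presheaf.stalk u₀) R]
    [IsLocalHom (algebraMap ↥(U₀.left.presheaf.stalk u₀) R)]
    [Hensel.IsHenselization ↥(U₀.left.presheaf.stalk u₀) R]

include h₀ in
/-- the number of branches of any elementary étale neighbourhood is the number of minimal primes
of the henselian local ring. -/
theorem numBranchesAt_eq {U : Over S} (a : (yon S).obj U ⟶ X) (u : ↥U.left)
    (h : IsElemEtaleNbhd a u x) :
    Brnch.numBranchesAt U.left u = (minimalPrimes R).encard := by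
  obtain ⟨alg, hloc, hHz⟩ := exists_isHenselization_of_isElemEtaleNbhd x a₀ u₀ h₀ R a u h
  exact (Groth.Agent.S9237.result (U.left.presheaf.stalk u) R).symm

include h₀ in
theorem isUnibranch_iff {U : Over S} (a : (yon S).obj U ⟶ X) (u : ↥U.left)
    (h : IsElemEtaleNbhd a u x) :
    CAlg2.IsUnibranch ↥(U.left.presheaf.stalk u) ↔ CAlgX.HasUniqueMinimalPrime R := by
  rw [← Groth.Agent.S9235.result, hasUniqueMinimalPrime_iff, ← numBranchesAt_eq x a₀ u₀ h₀ R a u h]
  rfl

theorem hasUniqueMinimalPrime_stalk_iff {U : Scheme.{u}} (u : U) :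
    CAlgX.HasUniqueMinimalPrime ↥(U.presheaf.stalk u) ↔
      {Z : Set ↥U | Z ∈ irreducibleComponents ↥U ∧ u ∈ Z}.encard = 1 := by
  rw [hasUniqueMinimalPrime_iff, encard_components_eq_minimalPrimes]

include h₀ in
/-- the number of components through the point of an elementary étale neighbourhood is at most
the number of minimal primes of the henselian local ring. -/
theorem encard_components_le {U : Over S} (a : (yon S).obj U ⟶ X) (u : ↥U.left)
    (h : IsElemEtaleNbhd a u x) :
    {Z : Set ↥U.left | Z ∈ irreducibleComponents ↥U.left ∧ u ∈ Z}.encard ≤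
      (minimalPrimes R).encard := by
  rw [← numBranchesAt_eq x a₀ u₀ h₀ R a u h,
    Groth.Agent.Lib.H5bBranchMain.numBranchesAt_eq_iSup]
  have hid : Hens2.IsEtaleNbhd (𝟙 U.left) u u := by
    refine ⟨inferInstance, rfl, ?_⟩
    rw [Scheme.residueFieldMap_id]
    exact Function.bijective_id
  exact le_iSup_of_le U.left (le_iSup_of_le (𝟙 U.left) (le_iSup_of_le u
    (le_iSup_of_le hid le_rfl)))

include h₀ in
/-- the number of minimal primes of the henselian local ring is the supremum of the numbers of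
components through the points of the elementary étale neighbourhoods. -/
theorem encard_minimalPrimes_le_of_forall (n : ℕ∞)
    (hall : ∀ (U : Over S) (a : (yon S).obj U ⟶ X) (u : ↥U.left), IsElemEtaleNbhd a u x →
      {Z : Set ↥U.left | Z ∈ irreducibleComponents ↥U.left ∧ u ∈ Z}.encard ≤ n) :
    (minimalPrimes R).encard ≤ n := by
  rw [← numBranchesAt_eq x a₀ u₀ h₀ R a₀ u₀ h₀,
    Groth.Agent.Lib.H5bBranchMain.numBranchesAt_eq_iSup]
  refine iSup_le fun V => iSup_le fun g => iSup_le fun v => iSup_le fun hg => ?_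
  exact hall (Over.mk (g ≫ U₀.hom))
    ((yon S).map (Over.homMk g rfl : Over.mk (g ≫ U₀.hom) ⟶ U₀) ≫ a₀) v
    (Groth.Agent.Lib.H5bElemNbhd.isElemEtaleNbhd_comp a₀ u₀ x h₀ g v hg)

end Main

end Groth.Agent.Lib.H5bElemHz
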