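import Mathlib
import Groth.Agent.S10544
import Groth.Agent.S10524
import Groth.Agent.S10261
import Groth.Agent.S10194
import Groth.Agent.S9938
import Groth.Agent.Lib.Helper12LargestOpen
import Groth.Agent.Lib.Helper12OpenSub2
import Groth.Prelude.Def_AlgSpDec
import Groth.Agent.S10176

/-!
# Isomorphisms and open immersions of algebraic spaces are fpqc local on the base (helper5)

Uses that étaleness (S10544) and universal injectivity (S10524) are fpqc local on the base, and
that an étale universally injective morphism is an open immersion (S10261).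
-/

set_option autoImplicit false
set_option linter.style.haveILetI false
universe u

open CategoryTheory CategoryTheory.Limits AlgebraicGeometry

namespace Groth.Agent.Lib.H5bFpqcIso

open AlgSp

variable {S : Scheme.{u}}

/-- a monomorphism of algebraic spaces is universally injective -/
theorem isUnivInjectiveMor_of_mono {X Y : AlgSp.Sp S} (hX : IsAlgSpace X) (hY : IsAlgSpace Y)
    (f : X ⟶ Y) [Mono f] : AlgSp.IsUnivInjectiveMor f := by
  let f' : (⟨X, hX⟩ : AlgSp.Space S) ⟶ ⟨Y, hY⟩ := ObjectProperty.homMk f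
  have := (Groth.Agent.S9938.result f').1
  refine this.1 ?_
  intro K _ str a b hab
  exact (cancel_mono f).1 hab

/-- an open immersion of algebraic spaces is étale -/
theorem isEtaleMor_of_open {X Y : AlgSp.Sp S} (f : X ⟶ Y)
    (hf : AlgSp.RepWith @IsOpenImmersion f) : AlgSp.IsEtaleMor f := by
  intro U φ hφ
  exact (AlgSp.RepWith @Etale).comp_mem _ _ hφ
    (Groth.Agent.Lib.Helper12.OpenSub.repWith_mono
      (fun _ _ g hg => by haveI : IsOpenImmersion g := hg; infer_instance) hf)

/-- an fpqc covering is jointly surjective on points -/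
theorem exists_point_of_isFpqcCover {ι : Type u} {Y : AlgSp.Sp S} (Yi : ι → AlgSp.Sp S)
    (g : ∀ i, Yi i ⟶ Y) (hcov : AlgSp.IsFpqcCover Yi g) (y : AlgSp.Points Y) :
    ∃ (i : ι) (yi : AlgSp.Points (Yi i)), AlgSp.Points.map (g i) yi = y := by
  induction y using AlgSp.Points.ind with | h p₀ => ?_
  obtain ⟨m, W, c, -, -, hsurj, hl⟩ := hcov.2 p₀.pt
    (by change IsAffine (Spec (CommRingCat.of p₀.K)); infer_instance) p₀.toHom
  obtain ⟨j, w, hw⟩ := hsurj (default : Spec (CommRingCat.of p₀.K))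
  obtain ⟨i, l, hl'⟩ := hl j
  refine ⟨i, AlgSp.Points.ofPt l w, ?_⟩
  rw [AlgSp.Points.map_ofPt, hl', Groth.Agent.S10176.ofPt_map_comp, hw]
  exact AlgSp.Points.ofPt_toHom p₀ _

/-- étale + universally injective + surjective implies isomorphism -/
theorem isIso_of_etale_univInj_surj {X Y : AlgSp.Sp S} (hX : IsAlgSpace X) (hY : IsAlgSpace Y)
    (f : X ⟶ Y) (het : AlgSp.IsEtaleMor f) (hinj : AlgSp.IsUnivInjectiveMor f)
    (hsurj : Function.Surjective (AlgSp.Points.map f)) : IsIso f := by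
  let X' : AlgSp.Space S := ⟨X, hX⟩
  let Y' : AlgSp.Space S := ⟨Y, hY⟩
  let f' : X' ⟶ Y' := ObjectProperty.homMk f
  have hopen : AlgSp.RepWith @IsOpenImmersion f'.hom := Groth.Agent.S10261.result f' het hinj
  obtain ⟨k, hk⟩ := (Groth.Agent.S10194.result f' hopen (𝟙 Y')).2 (by
    rintro _ ⟨y, rfl⟩
    exact hsurj _)
  haveI : Mono f := Groth.Agent.Lib.Helper12.LargestOpen.mono_of_open f hopen
  have hk' : k.hom ≫ f = 𝟙 _ := congrArg (fun φ => φ.hom) hk
  refine ⟨k.hom, ?_, hk'⟩
  rw [← cancel_mono f, Category.assoc, hk', Category.comp_id, Category.id_comp]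

/-- isomorphisms are fpqc local on the base (descent direction) -/
theorem isIso_of_fpqcCover {ι : Type u} {Y : AlgSp.Sp S} (Yi : ι → AlgSp.Sp S)
    (g : ∀ i, Yi i ⟶ Y) (hY : IsAlgSpace Y) (hYi : ∀ i, IsAlgSpace (Yi i))
    (hcov : AlgSp.IsFpqcCover Yi g) {X : AlgSp.Sp S} (f : X ⟶ Y) (hX : IsAlgSpace X)
    (Xi : ι → AlgSp.Sp S) (p : ∀ i, Xi i ⟶ Yi i) (q : ∀ i, Xi i ⟶ X)
    (hXi : ∀ i, IsAlgSpace (Xi i)) (sq : ∀ i, IsPullback (q i) (p i) f (g i))
    (H : ∀ i, IsIso (p i)) : IsIso f := by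
  have het : AlgSp.IsEtaleMor f :=
    (Groth.Agent.S10544.result S Yi g hY hYi hcov f hX Xi p q hXi sq).2 (fun i => by
      haveI := H i
      intro U φ hφ
      exact (AlgSp.RepWith @Etale).comp_mem _ _ hφ
        (MorphismProperty.of_isIso (AlgSp.RepWith @Etale) _))
  have hinj : AlgSp.IsUnivInjectiveMor f :=
    (Groth.Agent.S10524.result S Yi g hY hYi hcov f hX Xi p q hXi sq).2 (fun i => by
      haveI := H i
      exact isUnivInjectiveMor_of_mono (hXi i) (hYi i) (p i))
  refine isIso_of_etale_univInj_surj hX hY f het hinj ?_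
  intro y
  obtain ⟨i, yi, hyi⟩ := exists_point_of_isFpqcCover Yi g hcov y
  haveI := H i
  refine ⟨AlgSp.Points.map (q i) (AlgSp.Points.map (inv (p i)) yi), ?_⟩
  rw [← AlgSp.Points.map_comp, ← AlgSp.Points.map_comp, (sq i).w,
    ← Category.assoc, IsIso.inv_hom_id, Category.id_comp]
  exact hyi

end Groth.Agent.Lib.H5bFpqcIso
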