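import Mathlib
import Groth.Prelude.Def_Desc
import Groth.Prelude.Def_AlgSp
import Groth.Agent.Lib.H5bSpDescC
import Groth.Agent.Lib.H5bDDGenA
import Groth.Agent.S9927

/-!
# Descending a sheaf which is representable after an fpqc base change: the comparison map (helper5)

Setting of `H5bSpDescA/B/C`, now with `pT : T' ⟶ T` only flat, surjective and quasi-compact and `F'`
an algebraic space.  Given an effective descent datum `e : toDD W₀ ≅ sheafDD sq` we construct a map
`ρ : F' ⟶ h_W` over `h_T` (`W = Wd W₀`) whose base change to `T'` is the isomorphism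
`h_{W'} ≅ h_{T' ×_T W}` (`exists_toWd`).  The map is built on an étale chart of `F'` by descent of
morphisms of schemes along an fpqc covering.
-/

set_option autoImplicit false
set_option linter.unusedSectionVars false
set_option linter.style.haveILetI false
universe u

namespace Groth.Agent.Lib.H5bSpDesc

open CategoryTheory CategoryTheory.Limits AlgebraicGeometry Desc AlgSp Opposite

variable {S : Scheme.{u}} {T T' W' : Over S} {pT : T' ⟶ T} {F' : AlgSp.Sp S}
  {c : F' ⟶ (yon S).obj T} {g' : W' ⟶ T'} {σ : (yon S).obj W' ⟶ F'}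
  (sq : IsPullback σ ((yon S).map g') c ((yon S).map pT))
  (W₀ : Over T.left) (e : (toDD pT.left).obj W₀ ≅ sheafDD sq)

include sq in
/-- points with the same image in `F'` have the same image in `T`. -/
lemma sameImg_pT {Q : Scheme.{u}} {s : Q ⟶ S} {t t₁ : Q ⟶ W'.left} {ht : t ≫ W'.hom = s}
    {ht₁ : t₁ ≫ W'.hom = s} (h : SameImg σ s t t₁ ht ht₁) :
    (t ≫ g'.left) ≫ pT.left = (t₁ ≫ g'.left) ≫ pT.left := by
  have h1 := congrArg (fun m => m ≫ c) h
  simp only [Category.assoc, sq.w] at h1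
  simp only [← Functor.map_comp] at h1
  have h2 := (yon S).map_injective h1
  have h3 := congrArg (fun m => m.left) h2
  simpa using h3

/-- points of `W'` with the same image in `F'` have the same image in the descended scheme. -/
lemma eli_snd_of_sameImg {Q : Scheme.{u}} {s : Q ⟶ S} {t t₁ : Q ⟶ W'.left} {ht : t ≫ W'.hom = s}
    {ht₁ : t₁ ≫ W'.hom = s} (h : SameImg σ s t t₁ ht ht₁) :
    t ≫ eli sq W₀ e ≫ pullback.snd pT.left W₀.hom =
      t₁ ≫ eli sq W₀ e ≫ pullback.snd pT.left W₀.hom := by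
  have hx := sameImg_pT sq h
  let v : Lifts (sheafDD sq).obj (t ≫ g'.left) := ⟨t, rfl⟩
  let w : Lifts (sheafDD sq).obj (t₁ ≫ g'.left) := ⟨t₁, rfl⟩
  have hs : (t ≫ g'.left) ≫ T'.hom = s := by rw [Category.assoc, Over.w g', ht]
  have hw : w = sheafMap sq (t ≫ g'.left) (t₁ ≫ g'.left) hx v :=
    sheafMap_unique sq (t ≫ g'.left) (t₁ ≫ g'.left) hx v w hs h.symm
  have hv' : (t ≫ eli sq W₀ e) ≫ pullback.fst pT.left W₀.hom = t ≫ g'.left := by
    rw [Category.assoc, eli_fst]
  let v' : Lifts ((toDD pT.left).obj W₀).obj (t ≫ g'.left) := ⟨t ≫ eli sq W₀ e, hv'⟩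
  have hcomm := e.inv.comm (t ≫ g'.left) (t₁ ≫ g'.left) hx v v' rfl
  have hφ : ((sheafDD sq).φ (t ≫ g'.left) (t₁ ≫ g'.left) hx v).1 = t₁ :=
    (congrArg Subtype.val hw).symm
  have hcan : (((toDD pT.left).obj W₀).φ (t ≫ g'.left) (t₁ ≫ g'.left) hx v').1 ≫
      pullback.snd pT.left W₀.hom = (t ≫ eli sq W₀ e) ≫ pullback.snd pT.left W₀.hom := by
    change pullback.lift (t₁ ≫ g'.left) ((t ≫ eli sq W₀ e) ≫ pullback.snd pT.left W₀.hom) _ ≫
      pullback.snd pT.left W₀.hom = _
    rw [pullback.lift_snd]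
  rw [hcomm, hφ] at hcan
  rw [Category.assoc, Category.assoc] at hcan
  exact hcan.symm

/-- the projection `T' ×_T W ⟶ T'` in `Over S`. -/
noncomputable def fstd : Wdd pT W₀ ⟶ T' :=
  Over.homMk (pullback.fst pT.left W₀.hom) (by
    change pullback.fst pT.left W₀.hom ≫ T'.hom = pullback.snd pT.left W₀.hom ≫ W₀.hom ≫ T.hom
    rw [← Over.w pT, ← Category.assoc, pullback.condition, Category.assoc])

lemma εdi_fstd : εdi sq W₀ e ≫ fstd W₀ = g' := by
  ext
  exact eli_fst sq W₀ e

lemma isPullback_Wdd : IsPullback (fstd (pT := pT) W₀) (πd pT W₀) pT (wd W₀) := by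
  have hw : fstd (pT := pT) W₀ ≫ pT = πd pT W₀ ≫ wd W₀ := by
    ext
    exact pullback.condition
  exact IsPullback.of_map (Over.forget S) hw (IsPullback.of_hasPullback pT.left W₀.hom)

end Groth.Agent.Lib.H5bSpDesc
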