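import Mathlib
import Groth.Prelude.Def_Desc
import Groth.Prelude.Def_AlgSp
import Groth.Agent.Lib.H5bSpDescE

/-!
# The comparison map to the descended scheme along an fpqc covering (helper5)

`exists_toWd`: in the setting of `H5bSpDescE`, for `pT` flat, surjective and quasi-compact and `F'`
an algebraic space, there is `ρ : F' ⟶ h_W` over `h_T` with `σ ≫ ρ` the canonical map
`h_{W'} ≅ h_{T' ×_T W} ⟶ h_W`.
-/

set_option autoImplicit false
set_option linter.unusedSectionVars false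
set_option linter.style.haveILetI false
universe u

namespace Groth.Agent.Lib.H5bSpDesc

open CategoryTheory CategoryTheory.Limits AlgebraicGeometry Desc AlgSp Opposite
open Groth.Agent.Lib.H5bDDGen

variable {S : Scheme.{u}} {T T' W' : Over S} {pT : T' ⟶ T} {F' : AlgSp.Sp S}
  {c : F' ⟶ (yon S).obj T} {g' : W' ⟶ T'} {σ : (yon S).obj W' ⟶ F'}
  (sq : IsPullback σ ((yon S).map g') c ((yon S).map pT))
  (W₀ : Over T.left) (e : (toDD pT.left).obj W₀ ≅ sheafDD sq)

/-- base changes of an fpqc morphism in `Over S` are epimorphisms. -/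
lemma epi_fst_of_fpqc [Surjective pT.left] [Flat pT.left] [QuasiCompact pT.left] {Z : Over S}
    (z : Z ⟶ T) : UGood (pullback.fst z pT).left := by
  have hsq : IsPullback (pullback.fst z pT).left (pullback.snd z pT).left z.left pT.left :=
    (IsPullback.of_hasPullback z pT).map (Over.forget S)
  exact MorphismProperty.of_isPullback (P := UGood) hsq.flip (uGood_of_fpqc pT.left)

theorem exists_toWd [Surjective pT.left] [Flat pT.left] [QuasiCompact pT.left]
    (hF' : IsAlgSpace F') :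
    ∃ ρ : F' ⟶ (yon S).obj (Wd W₀), ρ ≫ (yon S).map (wd W₀) = c ∧
      σ ≫ ρ = (yon S).map (εdi sq W₀ e ≫ πd pT W₀) := by
  obtain ⟨U, q, hqe, hqs⟩ := hF'.atlas
  haveI : Epi q := Groth.Agent.S9927.epi_of_repWith q hqe hqs
  haveI : EffectiveEpi q := (isRegularEpi_iff_effectiveEpi _).1 (IsRegularEpiCategory.regularEpiOfEpi _)
  obtain ⟨t, ht⟩ := (yon S).map_surjective (q ≫ c)
  have hcomp : ((yon S).map (pullback.fst t pT) ≫ q) ≫ c =
      (yon S).map (pullback.snd t pT) ≫ (yon S).map pT := by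
    rw [Category.assoc, ← ht, ← Functor.map_comp, ← Functor.map_comp, pullback.condition]
  obtain ⟨k', hk'⟩ := (yon S).map_surjective (sq.lift _ _ hcomp)
  have hk1 : (yon S).map k' ≫ σ = (yon S).map (pullback.fst t pT) ≫ q := by
    rw [hk', sq.lift_fst]
  have hk2 : k' ≫ g' = pullback.snd t pT := by
    apply (yon S).map_injective
    rw [Functor.map_comp, hk', sq.lift_snd]
  have hsqU : IsPullback (pullback.fst t pT).left (pullback.snd t pT).left t.left pT.left :=
    (IsPullback.of_hasPullback t pT).map (Over.forget S)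
  have hgood := epi_fst_of_fpqc (pT := pT) t
  haveI : EffectiveEpi (pullback.fst t pT).left := hgood.effectiveEpi
  haveI : Epi (pullback.fst t pT).left := hgood.epi
  -- the map on `U' = U ×_T T'`
  obtain ⟨u₁, hu₁def⟩ : ∃ u₁ : (pullback t pT).left ⟶ W₀.left,
      u₁ = k'.left ≫ eli sq W₀ e ≫ pullback.snd pT.left W₀.hom := ⟨_, rfl⟩
  have hu₁ : ∀ {Q : Scheme.{u}} (g₁ g₂ : Q ⟶ (pullback t pT).left),
      g₁ ≫ (pullback.fst t pT).left = g₂ ≫ (pullback.fst t pT).left → g₁ ≫ u₁ = g₂ ≫ u₁ := by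
    intro Q g₁ g₂ h12
    have hs2 : g₂ ≫ (pullback t pT).hom = g₁ ≫ (pullback t pT).hom := by
      rw [← Over.w (pullback.fst t pT), ← Category.assoc, ← Category.assoc, h12]
    have ht1 : (g₁ ≫ k'.left) ≫ W'.hom = g₁ ≫ (pullback t pT).hom := by
      rw [Category.assoc, Over.w k']
    have ht2 : (g₂ ≫ k'.left) ≫ W'.hom = g₁ ≫ (pullback t pT).hom := by
      rw [Category.assoc, Over.w k', hs2]
    have hsame : SameImg σ (g₁ ≫ (pullback t pT).hom) (g₁ ≫ k'.left) (g₂ ≫ k'.left) ht1 ht2 := by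
      let G₁ : Over.mk (g₁ ≫ (pullback t pT).hom) ⟶ pullback t pT := Over.homMk g₁ rfl
      let G₂ : Over.mk (g₁ ≫ (pullback t pT).hom) ⟶ pullback t pT := Over.homMk g₂ hs2
      have e1 : (Over.homMk (g₁ ≫ k'.left) ht1 : Over.mk (g₁ ≫ (pullback t pT).hom) ⟶ W') =
          G₁ ≫ k' := by
        ext
        rfl
      have e2 : (Over.homMk (g₂ ≫ k'.left) ht2 : Over.mk (g₁ ≫ (pullback t pT).hom) ⟶ W') =
          G₂ ≫ k' := by
        ext
        rfl
      have e3 : G₁ ≫ pullback.fst t pT = G₂ ≫ pullback.fst t pT := by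
        ext
        exact h12
      change (yon S).map (Over.homMk (g₁ ≫ k'.left) ht1 :
          Over.mk (g₁ ≫ (pullback t pT).hom) ⟶ W') ≫ σ =
        (yon S).map (Over.homMk (g₂ ≫ k'.left) ht2 :
          Over.mk (g₁ ≫ (pullback t pT).hom) ⟶ W') ≫ σ
      rw [e1, e2, Functor.map_comp, Functor.map_comp, Category.assoc, Category.assoc, hk1,
        ← Category.assoc, ← Category.assoc, ← Functor.map_comp, ← Functor.map_comp, e3]
    have := eli_snd_of_sameImg sq W₀ e hsame
    rw [hu₁def]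
    simpa only [Category.assoc] using this
  obtain ⟨u₀l, hu₀l⟩ : ∃ u₀l : U.left ⟶ W₀.left, (pullback.fst t pT).left ≫ u₀l = u₁ :=
    ⟨EffectiveEpi.desc (pullback.fst t pT).left u₁ (fun g₁ g₂ h => hu₁ g₁ g₂ h),
      EffectiveEpi.fac _ _ _⟩
  have hu₀T : u₀l ≫ W₀.hom = t.left := by
    rw [← cancel_epi (pullback.fst t pT).left, ← Category.assoc, hu₀l, hu₁def]
    simp only [Category.assoc]
    rw [← pullback.condition, ← Category.assoc (eli sq W₀ e), eli_fst, ← Category.assoc,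
      ← Over.comp_left, hk2]
    exact hsqU.w.symm
  obtain ⟨u₀, hu₀⟩ : ∃ u₀ : U ⟶ Wd W₀, u₀.left = u₀l :=
    ⟨Over.homMk u₀l (by
      change u₀l ≫ W₀.hom ≫ T.hom = U.hom
      rw [← Category.assoc, hu₀T, Over.w t]), rfl⟩
  have hpr : pullback.fst t pT ≫ u₀ = k' ≫ εdi sq W₀ e ≫ πd pT W₀ := by
    ext
    have h1 : (pullback.fst t pT).left ≫ u₀.left = (pullback.fst t pT).left ≫ u₀l :=
      congrArg (fun m => (pullback.fst t pT).left ≫ m) hu₀
    exact h1.trans (hu₀l.trans hu₁def)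
  -- `yon u₀` coequalizes the kernel pair of `q`
  have hcoeq : ∀ {H : AlgSp.Sp S} (g₁ g₂ : H ⟶ (yon S).obj U), g₁ ≫ q = g₂ ≫ q →
      g₁ ≫ (yon S).map u₀ = g₂ ≫ (yon S).map u₀ := by
    intro H g₁ g₂ h12
    apply Groth.Agent.Lib.H5bJointEpi.hom_ext_yon
    intro Z x
    obtain ⟨a, ha⟩ := (yon S).map_surjective (x ≫ g₁)
    obtain ⟨b, hb⟩ := (yon S).map_surjective (x ≫ g₂)
    have hab : (yon S).map a ≫ q = (yon S).map b ≫ q := by
      rw [ha, hb, Category.assoc, Category.assoc, h12]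
    rw [← Category.assoc, ← Category.assoc, ← ha, ← hb, ← Functor.map_comp, ← Functor.map_comp]
    congr 1
    have hat : a ≫ t = b ≫ t := by
      apply (yon S).map_injective
      rw [Functor.map_comp, Functor.map_comp, ht, ← Category.assoc, ← Category.assoc, hab]
    have ca : (pullback.fst (a ≫ t) pT ≫ a) ≫ t = pullback.snd (a ≫ t) pT ≫ pT := by
      rw [Category.assoc, pullback.condition]
    have cb : (pullback.fst (a ≫ t) pT ≫ b) ≫ t = pullback.snd (a ≫ t) pT ≫ pT := by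
      rw [Category.assoc, ← hat, pullback.condition]
    have hk : pullback.lift _ _ ca ≫ k' = pullback.lift _ _ cb ≫ k' := by
      refine eq_of_σ_g' sq ?_ ?_
      · rw [Category.assoc, Category.assoc, hk2, pullback.lift_snd, pullback.lift_snd]
      · rw [Functor.map_comp, Functor.map_comp, Category.assoc, Category.assoc, hk1,
          ← Category.assoc, ← Category.assoc, ← Functor.map_comp, ← Functor.map_comp,
          pullback.lift_fst, pullback.lift_fst, Functor.map_comp, Functor.map_comp,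
          Category.assoc, Category.assoc, hab]
    have hZ := epi_fst_of_fpqc (pT := pT) (a ≫ t)
    haveI : Epi (pullback.fst (a ≫ t) pT).left := hZ.epi
    haveI : Epi (pullback.fst (a ≫ t) pT) := Over.epi_of_epi_left _
    rw [← cancel_epi (pullback.fst (a ≫ t) pT)]
    calc pullback.fst (a ≫ t) pT ≫ a ≫ u₀
        = pullback.lift _ _ ca ≫ pullback.fst t pT ≫ u₀ := by
          rw [← Category.assoc, ← Category.assoc, pullback.lift_fst]
      _ = pullback.lift _ _ ca ≫ k' ≫ εdi sq W₀ e ≫ πd pT W₀ := by rw [hpr]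
      _ = pullback.lift _ _ cb ≫ k' ≫ εdi sq W₀ e ≫ πd pT W₀ := by
          rw [← Category.assoc, hk, Category.assoc]
      _ = pullback.fst (a ≫ t) pT ≫ b ≫ u₀ := by
          rw [← hpr, ← Category.assoc, pullback.lift_fst, Category.assoc]
  obtain ⟨ρ, hqρ⟩ : ∃ ρ : F' ⟶ (yon S).obj (Wd W₀), q ≫ ρ = (yon S).map u₀ :=
    ⟨EffectiveEpi.desc q ((yon S).map u₀) (fun g₁ g₂ h => hcoeq g₁ g₂ h), EffectiveEpi.fac _ _ _⟩
  refine ⟨ρ, ?_, ?_⟩
  · rw [← cancel_epi q, ← Category.assoc, hqρ, ← Functor.map_comp, ← ht]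
    congr 1
    ext
    exact (congrArg (fun m => m ≫ W₀.hom) hu₀).trans hu₀T
  · apply Groth.Agent.Lib.H5bJointEpi.hom_ext_yon
    intro Z w
    obtain ⟨w₀, rfl⟩ := (yon S).map_surjective w
    have sqZ := hqe.rep.isPullback' ((yon S).map w₀ ≫ σ)
    haveI : Etale (hqe.rep.snd ((yon S).map w₀ ≫ σ)).left := hqe.property_snd _
    haveI : Surjective (hqe.rep.snd ((yon S).map w₀ ≫ σ)).left := hqs.property_snd _
    haveI : Epi ((yon S).map (hqe.rep.snd ((yon S).map w₀ ≫ σ))) :=
      Groth.Agent.Lib.H5bQuotOpen.epi_yon_map _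
    rw [← cancel_epi ((yon S).map (hqe.rep.snd ((yon S).map w₀ ≫ σ)))]
    have hax : hqe.rep.fst' ((yon S).map w₀ ≫ σ) ≫ t =
        (hqe.rep.snd ((yon S).map w₀ ≫ σ) ≫ w₀ ≫ g') ≫ pT := by
      apply (yon S).map_injective
      rw [Functor.map_comp, ht, ← Category.assoc, sqZ.w]
      simp only [Functor.map_comp, Category.assoc, sq.w]
    have hk : pullback.lift _ _ hax ≫ k' = hqe.rep.snd ((yon S).map w₀ ≫ σ) ≫ w₀ := by
      refine eq_of_σ_g' sq ?_ ?_
      · rw [Category.assoc, hk2, pullback.lift_snd, Category.assoc]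
      · rw [Functor.map_comp, Category.assoc, hk1, ← Category.assoc, ← Functor.map_comp,
          pullback.lift_fst, sqZ.w, Functor.map_comp, Category.assoc]
    have key : hqe.rep.fst' ((yon S).map w₀ ≫ σ) ≫ u₀ =
        hqe.rep.snd ((yon S).map w₀ ≫ σ) ≫ w₀ ≫ εdi sq W₀ e ≫ πd pT W₀ := by
      calc hqe.rep.fst' ((yon S).map w₀ ≫ σ) ≫ u₀
          = pullback.lift _ _ hax ≫ pullback.fst t pT ≫ u₀ := by
            rw [← Category.assoc, pullback.lift_fst]
        _ = pullback.lift _ _ hax ≫ k' ≫ εdi sq W₀ e ≫ πd pT W₀ := by rw [hpr]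
        _ = _ := by rw [← Category.assoc, hk, Category.assoc]
    calc (yon S).map (hqe.rep.snd ((yon S).map w₀ ≫ σ)) ≫ (yon S).map w₀ ≫ σ ≫ ρ
        = ((yon S).map (hqe.rep.fst' ((yon S).map w₀ ≫ σ)) ≫ q) ≫ ρ := by
          rw [sqZ.w]; simp only [Category.assoc]
      _ = (yon S).map (hqe.rep.fst' ((yon S).map w₀ ≫ σ) ≫ u₀) := by
          rw [Category.assoc, hqρ, ← Functor.map_comp]
      _ = _ := by rw [key]; simp only [Functor.map_comp]

end Groth.Agent.Lib.H5bSpDesc
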