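import Mathlib
import Groth.Prelude.Def_Desc
import Groth.Prelude.Def_AlgSp
import Groth.Prelude.Def_AlgSpCov
import Groth.Agent.Lib.H5bSpDescF
import Groth.Agent.Lib.H5bFpqcIso
import Groth.Agent.Lib.Helper15LocEss

/-!
# Descent of representability along an fpqc covering (helper5)

`exists_rep_of_iso_fpqc`: in the setting of `H5bSpDescE/F` (`pT` flat, surjective, quasi-compact,
`F'` an algebraic space over `h_T` whose base change to `T'` is the scheme `W'`), if the descent datum
`sheafDD sq` is effective then `F'` is representable by the descended scheme.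
-/

set_option autoImplicit false
set_option linter.unusedSectionVars false
set_option linter.style.haveILetI false
universe u

namespace Groth.Agent.Lib.H5bSpDesc

open CategoryTheory CategoryTheory.Limits AlgebraicGeometry Desc AlgSp Opposite

/-- a flat, surjective, quasi-compact morphism of schemes is an fpqc covering of sheaves. -/
lemma isFpqcCover_yon_map {S : Scheme.{u}} {A B : Over S} (π : A ⟶ B) [Flat π.left]
    [Surjective π.left] [QuasiCompact π.left] :
    AlgSp.IsFpqcCover (fun _ : PUnit.{u + 1} => (yon S).obj A) (fun _ => (yon S).map π) := by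
  refine ⟨fun _ => Groth.Agent.Lib.Helper15LocEss.locP_yon_map_of_flat π inferInstance,
    fun Z hZ h => ?_⟩
  haveI := hZ
  obtain ⟨z, rfl⟩ := (yon S).map_surjective h
  have hsq : IsPullback (pullback.fst z π).left (pullback.snd z π).left z.left π.left :=
    (IsPullback.of_hasPullback z π).map (Over.forget S)
  haveI : QuasiCompact (pullback.fst z π).left :=
    MorphismProperty.of_isPullback (P := @QuasiCompact) hsq.flip inferInstance
  haveI : Flat (pullback.fst z π).left :=
    MorphismProperty.of_isPullback (P := @Flat) hsq.flip inferInstance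
  haveI : Surjective (pullback.fst z π).left :=
    MorphismProperty.of_isPullback (P := @Surjective) hsq.flip inferInstance
  haveI : CompactSpace (pullback z π).left :=
    QuasiCompact.compactSpace_of_compactSpace (pullback.fst z π).left
  obtain ⟨𝒰, h𝒰⟩ : ∃ 𝒰 : (pullback z π).left.OpenCover,
      𝒰 = (pullback z π).left.affineCover.finiteSubcover := ⟨_, rfl⟩
  haveI : Fintype 𝒰.I₀ := by rw [h𝒰]; infer_instance
  haveI : ∀ i, IsAffine (𝒰.X i) := by rw [h𝒰]; infer_instance
  let eq := Fintype.equivFin 𝒰.I₀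
  let W : Fin (Fintype.card 𝒰.I₀) → Over S := fun j =>
    Over.mk (𝒰.f (eq.symm j) ≫ (pullback z π).hom)
  let incl : ∀ j, W j ⟶ pullback z π := fun j => Over.homMk (𝒰.f (eq.symm j)) rfl
  refine ⟨Fintype.card 𝒰.I₀, W, fun j => incl j ≫ pullback.fst z π, fun j => ?_, fun j => ?_,
    fun x => ?_, fun j => ⟨PUnit.unit, (yon S).map (incl j ≫ pullback.snd z π), ?_⟩⟩
  · exact inferInstanceAs (IsAffine (𝒰.X (eq.symm j)))
  · rw [Over.comp_left]
    haveI : Flat (incl j).left := inferInstanceAs (Flat (𝒰.f (eq.symm j)))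
    infer_instance
  · obtain ⟨y, rfl⟩ := (pullback.fst z π).left.surjective x
    obtain ⟨i, w, rfl⟩ := 𝒰.exists_eq y
    obtain ⟨j, rfl⟩ := eq.symm.surjective i
    refine ⟨j, w, ?_⟩
    rw [Over.comp_left, Scheme.Hom.comp_apply]
    rfl
  · rw [← Functor.map_comp, ← Functor.map_comp, Category.assoc, Category.assoc, pullback.condition]

variable {S : Scheme.{u}} {T T' W' : Over S} {pT : T' ⟶ T} {F' : AlgSp.Sp S}
  {c : F' ⟶ (yon S).obj T} {g' : W' ⟶ T'} {σ : (yon S).obj W' ⟶ F'}
  (sq : IsPullback σ ((yon S).map g') c ((yon S).map pT))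
  (W₀ : Over T.left) (e : (toDD pT.left).obj W₀ ≅ sheafDD sq)

include sq e in
/-- **Descent of representability along an fpqc covering.** -/
theorem exists_rep_of_iso_fpqc [Surjective pT.left] [Flat pT.left] [QuasiCompact pT.left]
    (hF' : IsAlgSpace F') :
    ∃ τ : (yon S).obj (Wd W₀) ≅ F', τ.hom ≫ c = (yon S).map (wd W₀) := by
  obtain ⟨ρ, hρ1, hρ2⟩ := exists_toWd sq W₀ e hF'
  have hsqd : IsPullback (pullback.fst pT.left W₀.hom) (pullback.snd pT.left W₀.hom) pT.left
      W₀.hom := IsPullback.of_hasPullback _ _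
  haveI : Flat (πd pT W₀).left :=
    MorphismProperty.of_isPullback (P := @Flat) hsqd (inferInstance : Flat pT.left)
  haveI : Surjective (πd pT W₀).left :=
    MorphismProperty.of_isPullback (P := @Surjective) hsqd (inferInstance : Surjective pT.left)
  haveI : QuasiCompact (πd pT W₀).left :=
    MorphismProperty.of_isPullback (P := @QuasiCompact) hsqd (inferInstance : QuasiCompact pT.left)
  have hcov := isFpqcCover_yon_map (πd pT W₀)
  have hbot : IsPullback ((yon S).map (πd pT W₀)) ((yon S).map (fstd (pT := pT) W₀))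
      ((yon S).map (wd W₀)) ((yon S).map pT) := ((isPullback_Wdd (pT := pT) W₀).map (yon S)).flip
  have hbig : IsPullback σ ((yon S).map (εdi sq W₀ e) ≫ (yon S).map (fstd (pT := pT) W₀))
      (ρ ≫ (yon S).map (wd W₀)) ((yon S).map pT) := by
    rw [hρ1, ← Functor.map_comp, εdi_fstd]
    exact sq
  have htop : IsPullback σ ((yon S).map (εdi sq W₀ e)) ρ ((yon S).map (πd pT W₀)) :=
    IsPullback.of_bot hbig (by rw [hρ2, Functor.map_comp]) hbot
  haveI : IsIso (εdi sq W₀ e) := ⟨εd sq W₀ e, εdi_εd sq W₀ e, εd_εdi sq W₀ e⟩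
  haveI : IsIso ρ := Groth.Agent.Lib.H5bFpqcIso.isIso_of_fpqcCover
    (fun _ : PUnit.{u + 1} => (yon S).obj (Wdd pT W₀)) (fun _ => (yon S).map (πd pT W₀))
    (IsAlgSpace.yon_obj _) (fun _ => IsAlgSpace.yon_obj _) hcov ρ hF'
    (fun _ => (yon S).obj W') (fun _ => (yon S).map (εdi sq W₀ e)) (fun _ => σ)
    (fun _ => IsAlgSpace.yon_obj _) (fun _ => htop) (fun _ => inferInstance)
  refine ⟨(asIso ρ).symm, ?_⟩
  rw [Iso.symm_hom, asIso_inv, IsIso.inv_comp_eq, hρ1]

end Groth.Agent.Lib.H5bSpDesc
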