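import Mathlib
import Groth.Prelude.Def_Desc
import Groth.Prelude.Def_AlgSp
import Groth.Prelude.Def_AlgSpCov
import Groth.Agent.Lib.H5bSpDescG
import Groth.Agent.Lib.Helper12ZarGlue
import Groth.Agent.Lib.Helper12TopDescent
import Groth.Agent.S9874

/-!
# fpqc descent of representability of a morphism of algebraic spaces (helper5)

`exists_rep_of_fpqcCover`: let `{Y_i ⟶ Y}` be an fpqc covering of algebraic spaces, `f : X ⟶ Y` with
base changes `p_i : X_i ⟶ Y_i`, and `P` a property of morphisms of schemes which is Zariski local on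
the target, descends along fpqc coverings and for which descent data are effective along fpqc
coverings.  If every base change of every `p_i` to an affine scheme is a scheme with structure
morphism in `P`, the same holds for `f`.
-/

set_option autoImplicit false
set_option linter.unusedSectionVars false
set_option linter.style.haveILetI false
universe u

namespace Groth.Agent.Lib.H5bSpDesc

open CategoryTheory CategoryTheory.Limits AlgebraicGeometry Desc AlgSp Opposite
open Groth.Agent.Lib.Helper12.TopDescent Groth.Agent.Lib.Helper12.ZarGlue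

/-- a pullback square for `f` along `l ≫ g` gives one for the base change `p` of `f` along `l`. -/
lemma exists_isPullback_of_comp {S : Scheme.{u}} {X Y Xi Yi : AlgSp.Sp S} {f : X ⟶ Y} {g : Yi ⟶ Y}
    {p : Xi ⟶ Yi} {q : Xi ⟶ X} (sq : IsPullback q p f g) {Z W : Over S}
    (l : (yon S).obj Z ⟶ Yi) (w : W ⟶ Z) (fst : (yon S).obj W ⟶ X)
    (hpb : IsPullback fst ((yon S).map w) f (l ≫ g)) :
    ∃ fst' : (yon S).obj W ⟶ Xi, IsPullback fst' ((yon S).map w) p l := by
  have hw : fst ≫ f = ((yon S).map w ≫ l) ≫ g := by rw [hpb.w, Category.assoc]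
  refine ⟨sq.lift fst ((yon S).map w ≫ l) hw, ?_⟩
  refine IsPullback.of_right ?_ (sq.lift_snd _ _ _) sq
  rw [sq.lift_fst]
  exact hpb

/-- a standard fpqc covering of an affine scheme, assembled into one fpqc morphism. -/
lemma exists_coprod_of_standard_fpqc {S : Scheme.{u}} {m : ℕ} (W : Fin m → Over S) {Z : Over S}
    (c : ∀ j, W j ⟶ Z) (hWa : ∀ j, IsAffine (W j).left) (hZ : IsAffine Z.left)
    (hfl : ∀ j, Flat (c j).left) (hsurj : ∀ z : ↥Z.left, ∃ j, z ∈ Set.range (c j).left) :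
    ∃ (T' : Over S) (pT : T' ⟶ Z) (ji : ∀ j : ULift.{u} (Fin m), W j.down ⟶ T'),
      IsAffine T'.left ∧ Flat pT.left ∧ Surjective pT.left ∧ QuasiCompact pT.left ∧
      (∀ j, IsOpenImmersion (ji j).left) ∧ (∀ t : T'.left, ∃ j, t ∈ Set.range (ji j).left) ∧
      ∀ j, ji j ≫ pT = c j.down := by
  haveI := hZ
  let Wl : ULift.{u} (Fin m) → Scheme.{u} := fun j => (W j.down).left
  haveI : ∀ j, IsAffine (Wl j) := fun j => hWa j.down
  let T' : Over S := Over.mk (Sigma.desc (fun j : ULift.{u} (Fin m) => (W j.down).hom))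
  have hw : Sigma.desc (fun j : ULift.{u} (Fin m) => (c j.down).left) ≫ Z.hom = T'.hom := by
    apply Sigma.hom_ext
    intro j
    rw [← Category.assoc, Sigma.ι_desc]
    show (c j.down).left ≫ Z.hom = Sigma.ι Wl j ≫ Sigma.desc _
    rw [Sigma.ι_desc]
    exact Over.w (c j.down)
  let pT : T' ⟶ Z := Over.homMk (Sigma.desc (fun j : ULift.{u} (Fin m) => (c j.down).left)) hw
  let ji : ∀ j : ULift.{u} (Fin m), W j.down ⟶ T' := fun j =>
    Over.homMk (Sigma.ι Wl j) (by
      show Sigma.ι Wl j ≫ Sigma.desc _ = _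
      rw [Sigma.ι_desc])
  have hTa : IsAffine T'.left := inferInstanceAs (IsAffine (∐ Wl))
  haveI := hTa
  have hflat : Flat pT.left :=
    IsZariskiLocalAtSource.sigmaDesc (P := @Flat) (fun j : ULift.{u} (Fin m) => hfl j.down)
  have hsj : Surjective pT.left := by
    refine ⟨fun z => ?_⟩
    obtain ⟨j, w, hw⟩ := hsurj z
    refine ⟨(Sigma.ι Wl ⟨j⟩) w, ?_⟩
    show (Sigma.desc (fun j : ULift.{u} (Fin m) => (c j.down).left)) ((Sigma.ι Wl ⟨j⟩) w) = z
    rw [← Scheme.Hom.comp_apply, Sigma.ι_desc]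
    exact hw
  have hqc : QuasiCompact pT.left := inferInstance
  refine ⟨T', pT, ji, hTa, hflat, hsj, hqc,
    fun j => inferInstanceAs (IsOpenImmersion (Sigma.ι Wl j)), fun t => ?_, fun j => ?_⟩
  · obtain ⟨j, y, hy⟩ := (sigmaOpenCover Wl).exists_eq t
    exact ⟨j, y, hy⟩
  · ext
    show Sigma.ι Wl j ≫ Sigma.desc _ = _
    rw [Sigma.ι_desc]

theorem exists_rep_of_fpqcCover {S : Scheme.{u}} (P : MorphismProperty Scheme.{u})
    [IsZariskiLocalAtTarget P] [P.DescendsAlong (@Surjective ⊓ @Flat ⊓ @QuasiCompact)]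
    (hdesc : ∀ ⦃X' S' : Scheme.{u}⦄ (p : X' ⟶ S'), Surjective p → Flat p → QuasiCompact p →
      ∀ D : Desc.SchDD p, P D.obj.hom → (Desc.toDD p).essImage D)
    {ι : Type u} {X Y : AlgSp.Sp S} (Yi : ι → AlgSp.Sp S) (g : ∀ i, Yi i ⟶ Y)
    (hcov : Refines Yi g) (hY : IsAlgSpace Y) (hX : IsAlgSpace X) (f : X ⟶ Y)
    (Xi : ι → AlgSp.Sp S) (p : ∀ i, Xi i ⟶ Yi i) (q : ∀ i, Xi i ⟶ X)
    (sq : ∀ i, IsPullback (q i) (p i) f (g i))
    (H : ∀ i (W : Over S), IsAffine W.left → ∀ l : (yon S).obj W ⟶ Yi i,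
      ∃ (V : Over S) (v : V ⟶ W) (a : (yon S).obj V ⟶ Xi i),
        IsPullback a ((yon S).map v) (p i) l ∧ P v.left)
    {Z : Over S} (hZ : IsAffine Z.left) (h : (yon S).obj Z ⟶ Y) :
    ∃ (W₀ : Over S) (w₀ : W₀ ⟶ Z) (fst : (yon S).obj W₀ ⟶ X),
      IsPullback fst ((yon S).map w₀) f h ∧ P w₀.left := by
  haveI := hZ
  obtain ⟨m, W, c, hWa, hfl, hsurj, hl⟩ := hcov Z hZ h
  choose i l hl using hl
  choose V v a sqa hP using fun j => H (i j) (W j) (hWa j) (l j)
  obtain ⟨T', pT, ji, hTa, hflat, hsj, hqc, hjo, hjs, hji⟩ :=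
    exists_coprod_of_standard_fpqc W c hWa hZ hfl hsurj
  haveI := hflat
  haveI := hsj
  haveI := hqc
  haveI := hjo
  -- squares over the `W j`
  have sqb : ∀ j : ULift.{u} (Fin m), IsPullback (a j.down ≫ q (i j.down))
      ((yon S).map (v j.down)) f ((yon S).map (ji j) ≫ (yon S).map pT ≫ h) := by
    intro j
    have h1 := (sqa j.down).paste_horiz (sq (i j.down))
    rw [hl j.down] at h1
    rw [← Category.assoc, ← Functor.map_comp, hji]
    exact h1
  obtain ⟨W', w', a₀, sq₀, hk⟩ := exists_rep_of_openCover f ((yon S).map pT ≫ h)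
    (fun j : ULift.{u} (Fin m) => W j.down) ji (fun j => V j.down) (fun j => v j.down)
    (fun j => a j.down ≫ q (i j.down)) sqb hjs
  choose k hk1 hk2 using hk
  have hPw' : P w'.left :=
    property_of_openCover P w' _ ji hjs _ _ k hk1 (fun j => hP j.down)
  -- the fibre product
  have hF' : IsAlgSpace (pullback f h) :=
    Groth.Agent.S9874.isAlgSpace_of_isPullback hY.diag hX (IsAlgSpace.yon_obj Z)
      (IsPullback.of_hasPullback f h)
  have hw : a₀ ≫ f = ((yon S).map w' ≫ (yon S).map pT) ≫ h := by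
    rw [Category.assoc]
    exact sq₀.w
  obtain ⟨σm, hσm⟩ : ∃ σm : (yon S).obj W' ⟶ pullback f h,
      σm = pullback.lift a₀ ((yon S).map w' ≫ (yon S).map pT) hw := ⟨_, rfl⟩
  have hσ1 : σm ≫ pullback.fst f h = a₀ := by rw [hσm, pullback.lift_fst]
  have hσ2 : σm ≫ pullback.snd f h = (yon S).map w' ≫ (yon S).map pT := by
    rw [hσm, pullback.lift_snd]
  have sq' : IsPullback σm ((yon S).map w') (pullback.snd f h) ((yon S).map pT) := by
    refine IsPullback.of_right ?_ hσ2 (IsPullback.of_hasPullback f h)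
    rw [hσ1]
    exact sq₀
  obtain ⟨W₀, ⟨e⟩⟩ := hdesc pT.left inferInstance inferInstance inferInstance (sheafDD sq') hPw'
  obtain ⟨τ, hτ⟩ := exists_rep_of_iso_fpqc sq' W₀ e hF'
  refine ⟨Wd W₀, wd W₀, τ.hom ≫ pullback.fst f h, ?_, ?_⟩
  · exact IsPullback.of_iso (IsPullback.of_hasPullback f h) τ.symm (Iso.refl _) (Iso.refl _)
      (Iso.refl _) (by simp) (by simp [← hτ]) (by simp) (by simp)
  · have hsqd : IsPullback (pullback.fst pT.left W₀.hom) (pullback.snd pT.left W₀.hom) pT.left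
        W₀.hom := IsPullback.of_hasPullback _ _
    refine MorphismProperty.of_isPullback_of_descendsAlong (P := P)
      (Q := @Surjective ⊓ @Flat ⊓ @QuasiCompact) hsqd ⟨⟨inferInstance, inferInstance⟩,
        inferInstance⟩ ?_
    have h1 : pullback.fst pT.left W₀.hom = el sq' W₀ e ≫ w'.left := (el_g' sq' W₀ e).symm
    rw [h1]
    haveI : IsIso (el sq' W₀ e) := ⟨eli sq' W₀ e, el_eli sq' W₀ e, eli_el sq' W₀ e⟩
    exact (P.cancel_left_of_respectsIso _ _).2 hPw'

end Groth.Agent.Lib.H5bSpDesc
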