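import Mathlib
import Groth.Prelude.Def_Desc
import Groth.Prelude.Def_AlgSp
import Groth.Prelude.Def_AlgSpCov
import Groth.Agent.Lib.H5bSpDescH
import Groth.Agent.Lib.Helper12Descent
import Groth.Agent.Lib.Helper12AffineDescent
import Groth.Agent.S1133

/-!
# Representable-type properties of morphisms of algebraic spaces are fpqc local on the base (helper5)

Generic forms of the statements "`f` is affine / integral / finite / a closed immersion / ... is fpqc
local on the base", deduced from `H5bSpDesc.exists_rep_of_fpqcCover`.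
-/

set_option autoImplicit false
set_option linter.unusedSectionVars false
set_option linter.style.haveILetI false
universe u

namespace Groth.Agent.Lib.H5bFpqcBaseRep

open CategoryTheory CategoryTheory.Limits AlgebraicGeometry Desc AlgSp Opposite
open Groth.Agent.Lib.H5bSpDesc

/-- the effectivity hypothesis of `exists_rep_of_fpqcCover`. -/
def EffDesc (P : MorphismProperty Scheme.{u}) : Prop :=
  ∀ ⦃X' S' : Scheme.{u}⦄ (p : X' ⟶ S'), Surjective p → Flat p → QuasiCompact p →
    ∀ D : Desc.SchDD p, P D.obj.hom → (Desc.toDD p).essImage D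

/-- effectivity of fpqc descent data for properties implying affineness. -/
lemma effDesc_of_le_affine (P : MorphismProperty Scheme.{u})
    (hP : ∀ ⦃A B : Scheme.{u}⦄ (f : A ⟶ B), P f → IsAffineHom f) : EffDesc P := by
  intro X' S' p hs hf hq D hD
  haveI := hs
  haveI := hf
  haveI := hq
  haveI := hP _ hD
  exact Groth.Agent.S1133.result p D

variable {S : Scheme.{u}}

/-- properties of the form "every base change to an affine scheme is a scheme with structure
morphism satisfying `C`", with `C` given over affine targets by a property `P` of morphisms of schemes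
with effective fpqc descent, are fpqc local on the base. -/
theorem isLocalOnBase_of_affineCond (P : MorphismProperty Scheme.{u})
    [IsZariskiLocalAtTarget P] [P.DescendsAlong (@Surjective ⊓ @Flat ⊓ @QuasiCompact)]
    (hdesc : EffDesc P) (C : ∀ ⦃W Z : Over S⦄, (W ⟶ Z) → Prop)
    (hC : ∀ ⦃W Z : Over S⦄ (i : W ⟶ Z), IsAffine Z.left → (C i ↔ P i.left)) :
    AlgSp.IsLocalOnBase (AlgSp.IsFpqcCover (S := S)) (fun F G f =>
      ∀ ⦃Z : Over S⦄, IsAffine Z.left → ∀ (g : (yon S).obj Z ⟶ G),
        ∃ (W : Over S) (i : W ⟶ Z) (fst : (yon S).obj W ⟶ F),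
          IsPullback fst ((yon S).map i) f g ∧ C i) := by
  intro ι Y Yi g hY hYi hcov X f hX Xi p q hXi sq
  constructor
  · intro hf i Z hZ l
    obtain ⟨W, w, fst, hpb, hW⟩ := hf hZ (l ≫ g i)
    obtain ⟨fst', hpb'⟩ := exists_isPullback_of_comp (sq i) l w fst hpb
    exact ⟨W, w, fst', hpb', hW⟩
  · intro H Z hZ h
    obtain ⟨W₀, w₀, fst, hpb, hP⟩ := exists_rep_of_fpqcCover P hdesc Yi g hcov.2
      hY hX f Xi p q sq (fun i W hW l => by
        obtain ⟨V, v, a, hpb, hV⟩ := H i hW l
        exact ⟨V, v, a, hpb, (hC v hW).1 hV⟩) hZ h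
    exact ⟨W₀, w₀, fst, hpb, (hC w₀ hZ).2 hP⟩

/-- `RepWith P` is fpqc local on the base for `P` with effective fpqc descent. -/
theorem isLocalOnBase_repWith (P : MorphismProperty Scheme.{u}) [P.IsStableUnderBaseChange]
    [IsZariskiLocalAtTarget P] [P.DescendsAlong (@Surjective ⊓ @Flat ⊓ @QuasiCompact)]
    (hdesc : EffDesc P) :
    AlgSp.IsLocalOnBase (AlgSp.IsFpqcCover (S := S)) (AlgSp.RepWith P) := by
  intro ι Y Yi g hY hYi hcov X f hX Xi p q hXi sq
  constructor
  · intro hf i
    exact MorphismProperty.of_isPullback (P := AlgSp.RepWith P) (sq i) hf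
  · intro H
    refine Groth.Agent.Lib.Helper12.ZarGlue.repWith_of_affine P f (fun Z hZ h => ?_)
    exact exists_rep_of_fpqcCover P hdesc Yi g hcov.2 hY hX f Xi p q sq (fun i W hW l =>
      ⟨(H i).rep.pullback l, (H i).rep.snd l, (H i).rep.fst l, (H i).rep.isPullback l,
        (H i).property_snd l⟩) hZ h

end Groth.Agent.Lib.H5bFpqcBaseRep
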