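import Mathlib
import Groth.Prelude.Def_AlgSpSub
import Groth.Agent.S10534
import Groth.Agent.S10505
import Groth.Agent.S10506
import Groth.Agent.S10507
import Groth.Agent.S9874
import Groth.Agent.S9928
import Groth.Agent.S10176
import Groth.Agent.S10695
import Groth.Agent.Lib.Helper12SrcLocal
import Groth.Agent.Lib.H5bIntDimSp
import Groth.Agent.Lib.Helper12OpenSub2

/-!
# Separatedness from an elementary distinguished square (helper5)
-/

set_option autoImplicit false
set_option linter.style.haveILetI false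
set_option linter.unusedSimpArgs false
universe u
open CategoryTheory CategoryTheory.Limits AlgebraicGeometry
open AlgSp

namespace Groth.Agent.Lib.H5bElemSep

variable {S : Scheme.{u}}

/-- The fibre products `A_a ×_Y A_b` of the members of an fpqc covering `{A_a ⟶ X}` form an fpqc
covering of `X ×_Y X`. -/
theorem isFpqcCover_pullback_map {X Y : AlgSp.Space S} (g : X ⟶ Y) {κ : Type u}
    (A : κ → AlgSp.Space S) (φ : ∀ a, A a ⟶ X)
    (hcov : AlgSp.IsFpqcCover (fun a => (A a).obj) (fun a => (φ a).hom)) :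
    AlgSp.IsFpqcCover
      (fun r : Σ _ : κ, κ => pullback ((φ r.1).hom ≫ g.hom) ((φ r.2).hom ≫ g.hom))
      (fun r => pullback.map ((φ r.1).hom ≫ g.hom) ((φ r.2).hom ≫ g.hom) g.hom g.hom
        (φ r.1).hom (φ r.2).hom (𝟙 _) (Category.comp_id _) (Category.comp_id _)) := by
  have hD : AlgSp.IsAlgSpace (pullback g.hom g.hom) :=
    Groth.Agent.S9874.isAlgSpace_of_isPullback Y.property.diag X.property X.property
      (IsPullback.of_hasPullback _ _)
  have hDa : ∀ a, AlgSp.IsAlgSpace (pullback ((φ a).hom ≫ g.hom) g.hom) := fun a =>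
    Groth.Agent.S9874.isAlgSpace_of_isPullback Y.property.diag (A a).property X.property
      (IsPullback.of_hasPullback _ _)
  have hYab : ∀ a b, AlgSp.IsAlgSpace (pullback ((φ a).hom ≫ g.hom) ((φ b).hom ≫ g.hom)) :=
    fun a b => Groth.Agent.S9874.isAlgSpace_of_isPullback Y.property.diag (A a).property
      (A b).property (IsPullback.of_hasPullback _ _)
  let D : AlgSp.Space S := ⟨pullback g.hom g.hom, hD⟩
  let Da : κ → AlgSp.Space S := fun a => ⟨pullback ((φ a).hom ≫ g.hom) g.hom, hDa a⟩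
  let Yab : κ → κ → AlgSp.Space S := fun a b =>
    ⟨pullback ((φ a).hom ≫ g.hom) ((φ b).hom ≫ g.hom), hYab a b⟩
  let μ : ∀ a, Da a ⟶ D := fun a => ObjectProperty.homMk
    (pullback.map ((φ a).hom ≫ g.hom) g.hom g.hom g.hom (φ a).hom (𝟙 _) (𝟙 _)
      (Category.comp_id _) (by simp))
  let ν : ∀ a b, Yab a b ⟶ Da a := fun a b => ObjectProperty.homMk
    (pullback.map ((φ a).hom ≫ g.hom) ((φ b).hom ≫ g.hom) ((φ a).hom ≫ g.hom) g.hom
      (𝟙 _) (φ b).hom (𝟙 _) (by simp) (by simp))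
  let pr1 : D ⟶ X := ObjectProperty.homMk (pullback.fst g.hom g.hom)
  let fstA : ∀ a, Da a ⟶ A a := fun a => ObjectProperty.homMk (pullback.fst _ _)
  let sndA : ∀ a, Da a ⟶ X := fun a => ObjectProperty.homMk (pullback.snd _ _)
  let sndAB : ∀ a b, Yab a b ⟶ A b := fun a b => ObjectProperty.homMk (pullback.snd _ _)
  have sq1 : ∀ a, IsPullback (μ a).hom (fstA a).hom pr1.hom (φ a).hom := by
    intro a
    refine IsPullback.of_right (h₁₂ := pullback.snd g.hom g.hom) (h₂₂ := g.hom) (v₁₃ := g.hom)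
      ?_ ?_ (IsPullback.of_hasPullback g.hom g.hom).flip
    · have e : (μ a).hom ≫ pullback.snd g.hom g.hom = pullback.snd ((φ a).hom ≫ g.hom) g.hom := by
        simp only [μ, ObjectProperty.homMk_hom, pullback.lift_snd, Category.comp_id]
      rw [e]
      exact (IsPullback.of_hasPullback ((φ a).hom ≫ g.hom) g.hom).flip
    · simp only [μ, pr1, fstA, ObjectProperty.homMk_hom, pullback.lift_fst]
  have sq2 : ∀ a b, IsPullback (ν a b).hom (sndAB a b).hom (sndA a).hom (φ b).hom := by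
    intro a b
    refine IsPullback.of_right (h₁₂ := pullback.fst ((φ a).hom ≫ g.hom) g.hom) (h₂₂ := g.hom)
      (v₁₃ := (φ a).hom ≫ g.hom) ?_ ?_ (IsPullback.of_hasPullback ((φ a).hom ≫ g.hom) g.hom)
    · have e : (ν a b).hom ≫ pullback.fst ((φ a).hom ≫ g.hom) g.hom =
          pullback.fst ((φ a).hom ≫ g.hom) ((φ b).hom ≫ g.hom) := by
        simp only [ν, ObjectProperty.homMk_hom, pullback.lift_fst, Category.comp_id]
      rw [e]
      exact IsPullback.of_hasPullback ((φ a).hom ≫ g.hom) ((φ b).hom ≫ g.hom)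
    · simp only [ν, sndA, sndAB, ObjectProperty.homMk_hom, pullback.lift_snd]
  have h1 : AlgSp.IsFpqcCover (fun a => (Da a).obj) (fun a => (μ a).hom) :=
    Groth.Agent.S10506.result (a := pr1) A φ Da μ fstA sq1 hcov
  have h2 : ∀ a, AlgSp.IsFpqcCover (fun b => (Yab a b).obj) (fun b => (ν a b).hom) := fun a =>
    Groth.Agent.S10506.result (a := sndA a) A φ (Yab a) (ν a) (sndAB a) (sq2 a) hcov
  have h3 := Groth.Agent.S10507.result D Da μ (fun _ => κ) Yab ν h1 h2
  have e : (fun r : Σ _ : κ, κ =>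
      pullback.map ((φ r.1).hom ≫ g.hom) ((φ r.2).hom ≫ g.hom) g.hom g.hom
        (φ r.1).hom (φ r.2).hom (𝟙 _) (Category.comp_id _) (Category.comp_id _)) =
      fun r : Σ _ : κ, κ => (ν r.1 r.2 ≫ μ r.1).hom := by
    funext r
    apply pullback.hom_ext <;>
      simp only [μ, ν, ObjectProperty.homMk_hom, ObjectProperty.FullSubcategory.comp_hom,
        pullback.lift_fst, pullback.lift_snd, Category.comp_id, Category.id_comp, Category.assoc,
        pullback.lift_fst_assoc, pullback.lift_snd_assoc]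
  rw [e]
  exact h3

/-- Separatedness can be checked on the pieces `A_a ×_Y A_b` of an fpqc covering `{A_a ⟶ X}`. -/
theorem isSeparatedMor_of_cover {X Y : AlgSp.Space S} (g : X ⟶ Y) {κ : Type u}
    (A : κ → AlgSp.Space S) (φ : ∀ a, A a ⟶ X)
    (hcov : AlgSp.IsFpqcCover (fun a => (A a).obj) (fun a => (φ a).hom))
    (h : ∀ a b, AlgSp.RepWith @IsClosedImmersion
      (pullback.map (φ a).hom (φ b).hom ((φ a).hom ≫ g.hom) ((φ b).hom ≫ g.hom) (𝟙 _) (𝟙 _) g.hom
        (Category.id_comp _).symm (Category.id_comp _).symm)) :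
    AlgSp.IsSeparatedMor g.hom := by
  have hD : AlgSp.IsAlgSpace (pullback g.hom g.hom) :=
    Groth.Agent.S9874.isAlgSpace_of_isPullback Y.property.diag X.property X.property
      (IsPullback.of_hasPullback _ _)
  have hYab : ∀ a b, AlgSp.IsAlgSpace (pullback ((φ a).hom ≫ g.hom) ((φ b).hom ≫ g.hom)) :=
    fun a b => Groth.Agent.S9874.isAlgSpace_of_isPullback Y.property.diag (A a).property
      (A b).property (IsPullback.of_hasPullback _ _)
  have hXab : ∀ a b, AlgSp.IsAlgSpace (pullback (φ a).hom (φ b).hom) :=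
    fun a b => Groth.Agent.S9874.isAlgSpace_of_isPullback X.property.diag (A a).property
      (A b).property (IsPullback.of_hasPullback _ _)
  have key := (Groth.Agent.S10534.result S)
    (fun r : Σ _ : κ, κ => pullback ((φ r.1).hom ≫ g.hom) ((φ r.2).hom ≫ g.hom))
    (fun r => pullback.map ((φ r.1).hom ≫ g.hom) ((φ r.2).hom ≫ g.hom) g.hom g.hom
        (φ r.1).hom (φ r.2).hom (𝟙 _) (Category.comp_id _) (Category.comp_id _))
    hD (fun r => hYab r.1 r.2) (isFpqcCover_pullback_map g A φ hcov)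
    (pullback.diagonal g.hom) X.property
    (fun r : Σ _ : κ, κ => pullback (φ r.1).hom (φ r.2).hom)
    (fun r => pullback.map (φ r.1).hom (φ r.2).hom ((φ r.1).hom ≫ g.hom) ((φ r.2).hom ≫ g.hom)
      (𝟙 _) (𝟙 _) g.hom (Category.id_comp _).symm (Category.id_comp _).symm)
    (fun r => pullback.fst (φ r.1).hom (φ r.2).hom ≫ (φ r.1).hom)
    (fun r => hXab r.1 r.2)
    (fun r => pullback_map_diagonal_isPullback (φ r.1).hom (φ r.2).hom g.hom)
  exact key.2 (fun r => h r.1 r.2)

/-- Transport of the closed-immersion property from a map between chosen fibre products to the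
canonical map between Mathlib's chosen pullbacks. -/
theorem repWith_map_of_isPullback {A B X Y PX PY : AlgSp.Sp S} (a : A ⟶ X) (b : B ⟶ X) (g : X ⟶ Y)
    (pX : PX ⟶ A) (qX : PX ⟶ B) (hPX : IsPullback pX qX a b)
    (pY : PY ⟶ A) (qY : PY ⟶ B) (hPY : IsPullback pY qY (a ≫ g) (b ≫ g))
    (c : PX ⟶ PY) (hc₁ : c ≫ pY = pX) (hc₂ : c ≫ qY = qX)
    (hc : AlgSp.RepWith @IsClosedImmersion c) :
    AlgSp.RepWith @IsClosedImmersion
      (pullback.map a b (a ≫ g) (b ≫ g) (𝟙 _) (𝟙 _) g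
        (Category.id_comp _).symm (Category.id_comp _).symm) := by
  have e : pullback.map a b (a ≫ g) (b ≫ g) (𝟙 _) (𝟙 _) g
      (Category.id_comp _).symm (Category.id_comp _).symm =
      hPX.isoPullback.inv ≫ c ≫ hPY.isoPullback.hom := by
    apply pullback.hom_ext
    · simp only [pullback.lift_fst, Category.comp_id, Category.assoc,
        IsPullback.isoPullback_hom_fst, hc₁, IsPullback.isoPullback_inv_fst]
    · simp only [pullback.lift_snd, Category.comp_id, Category.assoc,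
        IsPullback.isoPullback_hom_snd, hc₂, IsPullback.isoPullback_inv_snd]
  rw [e]
  exact (MorphismProperty.cancel_left_of_respectsIso (AlgSp.RepWith @IsClosedImmersion) _ _).2
    ((MorphismProperty.cancel_right_of_respectsIso (AlgSp.RepWith @IsClosedImmersion) _ _).2 hc)

/-- The piece over `U ×_Y U` for a monomorphism `U ⟶ X` with `U ⟶ Y` separated. -/
theorem repWith_map_self {U X Y : AlgSp.Sp S} (j : U ⟶ X) (g : X ⟶ Y) [Mono j]
    (hU : AlgSp.IsSeparatedMor (j ≫ g)) :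
    AlgSp.RepWith @IsClosedImmersion
      (pullback.map j j (j ≫ g) (j ≫ g) (𝟙 _) (𝟙 _) g
        (Category.id_comp _).symm (Category.id_comp _).symm) := by
  have e : pullback.diagonal (j ≫ g) = pullback.diagonal j ≫
      pullback.map j j (j ≫ g) (j ≫ g) (𝟙 _) (𝟙 _) g
        (Category.id_comp _).symm (Category.id_comp _).symm := by
    apply pullback.hom_ext
    · simp only [pullback.diagonal_fst, Category.assoc, pullback.lift_fst, Category.comp_id]
    · simp only [pullback.diagonal_snd, Category.assoc, pullback.lift_snd, Category.comp_id]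
  have h : AlgSp.RepWith @IsClosedImmersion (pullback.diagonal (j ≫ g)) := hU
  rw [e] at h
  exact (MorphismProperty.cancel_left_of_respectsIso (AlgSp.RepWith @IsClosedImmersion) _ _).1 h

/-- The canonical map `U ×_X V ⟶ U ×_Y V` is a closed immersion as soon as it is closed on points,
`U ⟶ X` is an open immersion and `U ⟶ Y` is separated. -/
theorem repWith_closedImm_of_isClosedMor {U V X Y PX PY : AlgSp.Sp S} (g : X ⟶ Y) (j : U ⟶ X)
    (f : V ⟶ X) (hj : AlgSp.RepWith @IsOpenImmersion j) (hU : AlgSp.IsSeparatedMor (j ≫ g))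
    (pX : PX ⟶ U) (qX : PX ⟶ V) (hPX : IsPullback pX qX j f)
    (pY : PY ⟶ U) (qY : PY ⟶ V) (hPY : IsPullback pY qY (j ≫ g) (f ≫ g))
    (c : PX ⟶ PY) (hc₁ : c ≫ pY = pX) (hc₂ : c ≫ qY = qX) (hcl : AlgSp.IsClosedMor c) :
    AlgSp.RepWith @IsClosedImmersion c := by
  have hqX : AlgSp.RepWith @IsOpenImmersion qX :=
    MorphismProperty.of_isPullback (P := AlgSp.RepWith @IsOpenImmersion) hPX hj
  have hΓ : AlgSp.RepWith @IsClosedImmersion
      (pullback.lift (𝟙 PX) pX (by simp) : PX ⟶ pullback (pX ≫ (j ≫ g)) (j ≫ g)) :=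
    MorphismProperty.of_isPullback (P := AlgSp.RepWith @IsClosedImmersion)
      (pullback_lift_diagonal_isPullback pX (j ≫ g)) hU
  have e2 : qX ≫ (f ≫ g) = pX ≫ (j ≫ g) := by
    rw [← Category.assoc, ← hPX.w, Category.assoc]
  have hcond : pullback.snd (pX ≫ (j ≫ g)) (j ≫ g) ≫ (j ≫ g) =
      (pullback.fst (pX ≫ (j ≫ g)) (j ≫ g) ≫ qX) ≫ (f ≫ g) := by
    rw [Category.assoc, e2]
    exact pullback.condition.symm
  have sqo : IsPullback (hPY.lift _ _ hcond) (pullback.fst (pX ≫ (j ≫ g)) (j ≫ g)) qY qX := by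
    refine IsPullback.of_right (h₁₂ := pY) (h₂₂ := f ≫ g) (v₁₃ := j ≫ g) ?_
      (hPY.lift_snd _ _ _) hPY
    rw [hPY.lift_fst, e2]
    exact (IsPullback.of_hasPullback _ _).flip
  have ho : AlgSp.RepWith @IsOpenImmersion (hPY.lift _ _ hcond) :=
    MorphismProperty.of_isPullback (P := AlgSp.RepWith @IsOpenImmersion) sqo.flip hqX
  have hc : c = pullback.lift (𝟙 PX) pX (by simp) ≫ hPY.lift _ _ hcond := by
    apply hPY.hom_ext
    · rw [hc₁, Category.assoc, hPY.lift_fst, pullback.lift_snd]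
    · rw [hc₂, Category.assoc, hPY.lift_snd, pullback.lift_fst_assoc, Category.id_comp]
  have hpre : AlgSp.RepWith @IsPreimmersion c := by
    rw [hc]
    exact (AlgSp.repWith_isMultiplicative (S := S) @IsPreimmersion).comp_mem _ _
      (Groth.Agent.Lib.Helper12.OpenSub.repWith_mono
        (fun _ _ k hk => by haveI : IsClosedImmersion k := hk; infer_instance) hΓ)
      (Groth.Agent.Lib.Helper12.OpenSub.repWith_mono
        (fun _ _ k hk => by haveI : IsOpenImmersion k := hk; infer_instance) ho)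
  refine ⟨hpre.1, fun T W t fst snd sq => ?_⟩
  haveI : IsPreimmersion snd.left := hpre.2 t fst snd sq
  refine IsClosedImmersion.of_isPreimmersion snd.left ?_
  have hr : Set.range snd.left = (AlgSp.Points.ofPt t) ⁻¹' (Set.range (AlgSp.Points.map c)) := by
    ext z
    constructor
    · rintro ⟨w, rfl⟩
      refine ⟨AlgSp.Points.ofPt fst w, ?_⟩
      rw [AlgSp.Points.map_ofPt, sq.w, Groth.Agent.S10176.ofPt_map_comp]
    · rintro ⟨x, hx⟩
      obtain ⟨w, -, hw⟩ :=
        Groth.Agent.Lib.H5bIntDimSp.exists_point_of_isPullback_chart sq x z hx.symm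
      exact ⟨w, hw⟩
  rw [hr]
  refine IsClosed.preimage (AlgSp.Points.continuous_ofPt t) ?_
  rw [← Set.image_univ]
  exact hcl _ isClosed_univ

/-- the two-member family `{U, V}`. -/
def fam (U V : AlgSp.Space S) : ULift.{u} Bool → AlgSp.Space S
  | ⟨true⟩ => U
  | ⟨false⟩ => V

/-- the two-member family of morphisms `{j, f}`. -/
def famMap {U V X : AlgSp.Space S} (j : U ⟶ X) (f : V ⟶ X) : ∀ a, fam U V a ⟶ X
  | ⟨true⟩ => j
  | ⟨false⟩ => f

lemma locP_mono {P Q : MorphismProperty Scheme.{u}} (h : P ≤ Q) {F G : AlgSp.Sp S} {f : F ⟶ G}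
    (hf : AlgSp.LocP P f) : AlgSp.LocP Q f :=
  fun _ _ a b k ha hb hc => h _ (hf a b k ha hb hc)

lemma flat_lfp_of_isEtaleMor {F G : AlgSp.Sp S} (f : F ⟶ G) (hf : AlgSp.IsEtaleMor f) :
    AlgSp.LocP @Flat f ∧ AlgSp.LocP @LocallyOfFinitePresentation f := by
  have h := Groth.Agent.Lib.Helper12.SrcLocal.locP_etale_of_isEtaleMor f hf
  exact ⟨locP_mono (fun _ _ k hk => by haveI : Etale k := hk; infer_instance) h,
    locP_mono (fun _ _ k hk => by haveI : Etale k := hk; infer_instance) h⟩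

/-- the members of an elementary distinguished square form an fpqc covering. -/
theorem isFpqcCover_of_isElemDistSq {U V X : AlgSp.Space S} (j : U ⟶ X) (f : V ⟶ X)
    (hsq : AlgSp.IsElemDistSq j.hom f.hom) :
    AlgSp.IsFpqcCover (fun a => (fam U V a).obj) (fun a => (famMap j f a).hom) := by
  refine Groth.Agent.S10505.result X (fam U V) (famMap j f) ⟨?_, fun x => ?_⟩
  · rintro ⟨_ | _⟩
    · exact flat_lfp_of_isEtaleMor f.hom hsq.2.1
    · exact flat_lfp_of_isEtaleMor j.hom (Groth.Agent.S10695.isEtaleMor_of_open _ hsq.1)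
  · rcases Groth.Agent.S10695.jointly_surjective j.hom f.hom hsq x with h | h
    · exact ⟨⟨true⟩, h⟩
    · exact ⟨⟨false⟩, h⟩

/-- Main theorem. -/
theorem isSeparatedMor_of_isElemDistSq {U V X Y PX PY QX QY : AlgSp.Space S} (g : X ⟶ Y)
    (j : U ⟶ X) (f : V ⟶ X) (hsq : AlgSp.IsElemDistSq j.hom f.hom)
    (hU : AlgSp.IsSeparatedMor (j ≫ g).hom) (hV : AlgSp.IsSeparatedMor (f ≫ g).hom)
    (pX : PX ⟶ U) (qX : PX ⟶ V) (hPX : IsPullback pX.hom qX.hom j.hom f.hom)
    (pY : PY ⟶ U) (qY : PY ⟶ V) (hPY : IsPullback pY.hom qY.hom (j ≫ g).hom (f ≫ g).hom)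
    (c : PX ⟶ PY) (hc₁ : c ≫ pY = pX) (hc₂ : c ≫ qY = qX) (hcl : AlgSp.IsClosedMor c.hom)
    (rX₁ rX₂ : QX ⟶ V) (hQX : IsPullback rX₁.hom rX₂.hom f.hom f.hom)
    (rY₁ rY₂ : QY ⟶ V) (hQY : IsPullback rY₁.hom rY₂.hom (f ≫ g).hom (f ≫ g).hom)
    (d : QX ⟶ QY) (hd₁ : d ≫ rY₁ = rX₁) (hd₂ : d ≫ rY₂ = rX₂)
    (hdcl : AlgSp.RepWith @IsClosedImmersion d.hom) : AlgSp.IsSeparatedMor g.hom := by
  haveI : Mono j.hom :=
    Groth.Agent.S9928.mono_of_repWith @IsOpenImmersion
      (fun _ _ k hk => by haveI : IsOpenImmersion k := hk; infer_instance) j.hom hsq.1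
  have hc₁' : c.hom ≫ pY.hom = pX.hom := congrArg (fun m => m.hom) hc₁
  have hc₂' : c.hom ≫ qY.hom = qX.hom := congrArg (fun m => m.hom) hc₂
  have hd₁' : d.hom ≫ rY₁.hom = rX₁.hom := congrArg (fun m => m.hom) hd₁
  have hd₂' : d.hom ≫ rY₂.hom = rX₂.hom := congrArg (fun m => m.hom) hd₂
  have hcc : AlgSp.RepWith @IsClosedImmersion c.hom :=
    repWith_closedImm_of_isClosedMor g.hom j.hom f.hom hsq.1 hU pX.hom qX.hom hPX pY.hom qY.hom
      hPY c.hom hc₁' hc₂' hcl
  refine isSeparatedMor_of_cover g (fam U V) (famMap j f) (isFpqcCover_of_isElemDistSq j f hsq) ?_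
  rintro ⟨_ | _⟩ ⟨_ | _⟩
  · exact repWith_map_of_isPullback f.hom f.hom g.hom rX₁.hom rX₂.hom hQX rY₁.hom rY₂.hom hQY
      d.hom hd₁' hd₂' hdcl
  · exact repWith_map_of_isPullback f.hom j.hom g.hom qX.hom pX.hom hPX.flip qY.hom pY.hom
      hPY.flip c.hom hc₂' hc₁' hcc
  · exact repWith_map_of_isPullback j.hom f.hom g.hom pX.hom qX.hom hPX pY.hom qY.hom hPY
      c.hom hc₁' hc₂' hcc
  · exact repWith_map_self j.hom g.hom hU

end Groth.Agent.Lib.H5bElemSep
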