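import Mathlib
import Groth.Agent.Lib.Helper12EtSmST
import Groth.Agent.Lib.Helper12LargestOpen
import Groth.Agent.S10194
import Groth.Agent.S10195
import Groth.Agent.S10175
import Groth.Agent.S10210
import Groth.Agent.S10209

set_option autoImplicit false
universe u
open CategoryTheory CategoryTheory.Limits AlgebraicGeometry
open AlgSp

namespace Groth.Agent.Lib.H5bEsl

variable {S : Scheme.{u}}

/-- the hypotheses: étale local on the source, smooth local on the base, stable under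
postcomposition with open immersions. -/
structure Hyp (P : MorphismProperty (AlgSp.Sp S)) : Prop where
  h1 : AlgSp.IsLocalOnSource (AlgSp.IsEtCover (S := S)) P
  h2 : AlgSp.IsLocalOnBase (AlgSp.IsSmCover (S := S)) P
  h3 : ∀ ⦃X Y Z : AlgSp.Space S⦄ (f : X ⟶ Y) (j : Y ⟶ Z), P f.hom →
    AlgSp.RepWith @IsOpenImmersion j.hom → P (f ≫ j).hom

open Groth.Agent.Lib.Helper12.SmoothST Groth.Agent.Lib.Helper12.EtSmST

lemma isEtaleMor_comp {X Y Z : AlgSp.Sp S} (f : X ⟶ Y) (g : Y ⟶ Z) (hf : AlgSp.IsEtaleMor f)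
    (hg : AlgSp.IsEtaleMor g) : AlgSp.IsEtaleMor (f ≫ g) := by
  intro U φ hφ
  rw [← Category.assoc]
  exact hg _ (hf φ hφ)

/-- the two-member family `{𝟙 Y, f}` is an étale covering when `f` is étale. -/
lemma isEtCover_option {X Y : AlgSp.Sp S} (f : X ⟶ Y) (hf : AlgSp.IsEtaleMor f) :
    AlgSp.IsEtCover (S := S) (ι := Option PUnit.{u + 1}) (X := Y)
      (fun i => Option.rec (motive := fun _ => AlgSp.Sp S) Y (fun _ => X) i)
      (fun i => Option.rec (motive := fun i =>
        (Option.rec (motive := fun _ => AlgSp.Sp S) Y (fun _ => X) i : AlgSp.Sp S) ⟶ Y)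
        (𝟙 Y) (fun _ => f) i) := by
  refine ⟨fun i => ?_, fun y => ⟨none, y, ?_⟩⟩
  · cases i with
    | none => exact isEtaleMor_id Y
    | some _ => exact hf
  · show AlgSp.Points.map (𝟙 Y) y = y
    rw [AlgSp.Points.map_id]

/-- the two-member family `{𝟙 Y, f}` is a smooth covering when `f` is smooth. -/
lemma isSmCover_option {X Y : AlgSp.Sp S} (f : X ⟶ Y) (hf : AlgSp.LocP @Smooth f) :
    AlgSp.IsSmCover (S := S) (ι := Option PUnit.{u + 1}) (X := Y)
      (fun i => Option.rec (motive := fun _ => AlgSp.Sp S) Y (fun _ => X) i)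
      (fun i => Option.rec (motive := fun i =>
        (Option.rec (motive := fun _ => AlgSp.Sp S) Y (fun _ => X) i : AlgSp.Sp S) ⟶ Y)
        (𝟙 Y) (fun _ => f) i) := by
  refine ⟨fun i => ?_, fun y => ⟨none, y, ?_⟩⟩
  · cases i with
    | none => exact locP_smooth_id Y
    | some _ => exact hf
  · show AlgSp.Points.map (𝟙 Y) y = y
    rw [AlgSp.Points.map_id]

variable {P : MorphismProperty (AlgSp.Sp S)}

namespace Hyp

/-- precomposition with étale morphisms. -/
lemma precomp (h : Hyp P) {X Y Z : AlgSp.Sp S} (hX : AlgSp.IsAlgSpace X) (hY : AlgSp.IsAlgSpace Y)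
    (hZ : AlgSp.IsAlgSpace Z) (f : X ⟶ Y) (g : Y ⟶ Z) (hf : AlgSp.IsEtaleMor f) (hg : P g) :
    P (f ≫ g) := by
  have key := h.h1 (ι := Option PUnit.{u + 1}) (X := Y)
    (fun i => Option.rec (motive := fun _ => AlgSp.Sp S) Y (fun _ => X) i)
    (fun i => Option.rec (motive := fun i =>
      (Option.rec (motive := fun _ => AlgSp.Sp S) Y (fun _ => X) i : AlgSp.Sp S) ⟶ Y)
      (𝟙 Y) (fun _ => f) i) hY
    (fun i => by cases i with
      | none => exact hY
      | some _ => exact hX) (isEtCover_option f hf) g hZ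
  exact key.1 hg (some PUnit.unit)

/-- smooth base change. -/
lemma baseChange (h : Hyp P) {X Y X' Y' : AlgSp.Sp S} (hX : AlgSp.IsAlgSpace X)
    (hY : AlgSp.IsAlgSpace Y) (hX' : AlgSp.IsAlgSpace X') (hY' : AlgSp.IsAlgSpace Y')
    (f : X ⟶ Y) (g : Y' ⟶ Y) (f' : X' ⟶ Y') (g' : X' ⟶ X) (sq : IsPullback g' f' f g)
    (hg : AlgSp.LocP @Smooth g) (hf : P f) : P f' := by
  have key := h.h2 (ι := Option PUnit.{u + 1}) (Y := Y)
    (fun i => Option.rec (motive := fun _ => AlgSp.Sp S) Y (fun _ => Y') i)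
    (fun i => Option.rec (motive := fun i =>
      (Option.rec (motive := fun _ => AlgSp.Sp S) Y (fun _ => Y') i : AlgSp.Sp S) ⟶ Y)
      (𝟙 Y) (fun _ => g) i) hY
    (fun i => by cases i with
      | none => exact hY
      | some _ => exact hY') (isSmCover_option g hg) f hX
    (fun i => Option.rec (motive := fun _ => AlgSp.Sp S) X (fun _ => X') i)
    (fun i => Option.rec (motive := fun i =>
      (Option.rec (motive := fun _ => AlgSp.Sp S) X (fun _ => X') i : AlgSp.Sp S) ⟶
      (Option.rec (motive := fun _ => AlgSp.Sp S) Y (fun _ => Y') i : AlgSp.Sp S))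
      f (fun _ => f') i)
    (fun i => Option.rec (motive := fun i =>
      (Option.rec (motive := fun _ => AlgSp.Sp S) X (fun _ => X') i : AlgSp.Sp S) ⟶ X)
      (𝟙 X) (fun _ => g') i)
    (fun i => by cases i with
      | none => exact hX
      | some _ => exact hX')
    (fun i => by cases i with
      | none => exact IsPullback.of_horiz_isIso ⟨by simp⟩
      | some _ => exact sq)
  exact key.1 hf (some PUnit.unit)

/-- postcomposition with open immersions, unbundled. -/
lemma postcomp_open (h : Hyp P) {X Y Z : AlgSp.Sp S} (hX : AlgSp.IsAlgSpace X)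
    (hY : AlgSp.IsAlgSpace Y) (hZ : AlgSp.IsAlgSpace Z) (f : X ⟶ Y) (j : Y ⟶ Z) (hf : P f)
    (hj : AlgSp.RepWith @IsOpenImmersion j) : P (f ≫ j) :=
  h.h3 (X := ⟨X, hX⟩) (Y := ⟨Y, hY⟩) (Z := ⟨Z, hZ⟩) ⟨f⟩ ⟨j⟩ hf hj

/-- a single étale morphism surjective on points is a covering of the source. -/
lemma of_etale_surj (h : Hyp P) {X' X Y : AlgSp.Sp S} (hX' : AlgSp.IsAlgSpace X')
    (hX : AlgSp.IsAlgSpace X) (hY : AlgSp.IsAlgSpace Y) (g : X' ⟶ X) (f : X ⟶ Y)
    (hg : AlgSp.IsEtaleMor g) (hs : Function.Surjective (AlgSp.Points.map g)) (hgf : P (g ≫ f)) :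
    P f := by
  have key := h.h1 (ι := PUnit.{u + 1}) (X := X) (fun _ => X') (fun _ => g) hX (fun _ => hX')
    ⟨fun _ => hg, fun x => ⟨PUnit.unit, hs x⟩⟩ f hY
  exact key.2 (fun _ => hgf)

/-- a morphism from a sheaf without points has `P`. -/
lemma of_isEmpty (h : Hyp P) {X Y : AlgSp.Sp S} (hX : AlgSp.IsAlgSpace X) (hY : AlgSp.IsAlgSpace Y)
    (f : X ⟶ Y) (he : IsEmpty (AlgSp.Points X)) : P f := by
  have key := h.h1 (ι := PEmpty.{u + 1}) (X := X) (fun i => PEmpty.elim i)
    (fun i => PEmpty.elim i) hX (fun i => PEmpty.elim i)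
    ⟨fun i => PEmpty.elim i, fun x => (he.false x).elim⟩ f hY
  exact key.2 (fun i => PEmpty.elim i)

/-- a single smooth morphism surjective on points is a covering of the base. -/
lemma of_smooth_surj (h : Hyp P) {X Y X' Y' : AlgSp.Sp S} (hX : AlgSp.IsAlgSpace X)
    (hY : AlgSp.IsAlgSpace Y) (hX' : AlgSp.IsAlgSpace X') (hY' : AlgSp.IsAlgSpace Y')
    (f : X ⟶ Y) (g : Y' ⟶ Y) (f' : X' ⟶ Y') (g' : X' ⟶ X) (sq : IsPullback g' f' f g)
    (hg : AlgSp.LocP @Smooth g) (hs : Function.Surjective (AlgSp.Points.map g)) (hf' : P f') :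
    P f := by
  have key := h.h2 (ι := PUnit.{u + 1}) (Y := Y) (fun _ => Y') (fun _ => g) hY (fun _ => hY')
    ⟨fun _ => hg, fun y => ⟨PUnit.unit, hs y⟩⟩ f hX (fun _ => X') (fun _ => f') (fun _ => g')
    (fun _ => hX') (fun _ => sq)
  exact key.2 (fun _ => hf')

end Hyp

end Groth.Agent.Lib.H5bEsl
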