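import Mathlib

set_option autoImplicit false
universe u
open Polynomial

namespace Groth.Agent.Lib.H5bEsl

variable {R : Type u} [CommRing R] (Pr : StandardEtalePair R)

/-- the quotient polynomial `f / (X - z)` over `C = Pr.Ring`. -/
noncomputable def f1 : Pr.Ring[X] := (Pr.f.map (algebraMap R Pr.Ring)) /ₘ (X - C Pr.X)

lemma fC_eq : Pr.f.map (algebraMap R Pr.Ring) = (X - C Pr.X) * f1 Pr := by
  rw [f1, eq_comm, Polynomial.mul_divByMonic_eq_iff_isRoot, IsRoot.def, eval_map, ← aeval_def]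
  exact Pr.hasMap_X.1

lemma f1_monic : (f1 Pr).Monic := by
  have h : ((X - C Pr.X) * f1 Pr).Monic := by
    rw [← fC_eq]; exact Pr.monic_f.map _
  exact Monic.of_mul_monic_left (monic_X_sub_C _) h

lemma f1_natDegree [Nontrivial Pr.Ring] : (f1 Pr).natDegree + 1 = Pr.f.natDegree := by
  have h := congrArg natDegree (fC_eq Pr)
  rw [Pr.monic_f.natDegree_map, (monic_X_sub_C _).natDegree_mul (f1_monic Pr),
    natDegree_X_sub_C] at h
  omega

/-- the standard étale pair over `Pr.Ring` of degree one less. -/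
noncomputable def pair1 : StandardEtalePair Pr.Ring where
  f := f1 Pr
  monic_f := f1_monic Pr
  g := Pr.g.map (algebraMap R Pr.Ring)
  cond := by
    obtain ⟨p₁, p₂, n, e⟩ := Pr.cond
    refine ⟨(X - C Pr.X) * p₁.map (algebraMap R Pr.Ring),
      p₁.map (algebraMap R Pr.Ring) + (X - C Pr.X) * p₂.map (algebraMap R Pr.Ring), n, ?_⟩
    have e' := congrArg (Polynomial.map (algebraMap R Pr.Ring)) e
    simp only [Polynomial.map_add, Polynomial.map_mul, Polynomial.map_pow,
      ← Polynomial.derivative_map] at e'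
    rw [fC_eq Pr] at e'
    have hd : derivative ((X - C Pr.X) * f1 Pr) = f1 Pr + (X - C Pr.X) * derivative (f1 Pr) := by
      rw [derivative_mul, derivative_sub, derivative_X, derivative_C, sub_zero, one_mul]
    rw [hd] at e'
    linear_combination e'

/-- the `R`-algebra structure on `(pair1 Pr).Ring` through `Pr.Ring`. -/
@[reducible] noncomputable def algR : Algebra R (pair1 Pr).Ring :=
  ((algebraMap Pr.Ring (pair1 Pr).Ring).comp (algebraMap R Pr.Ring)).toAlgebra

lemma hasMap_X1 :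
    letI := algR Pr
    Pr.HasMap (pair1 Pr).X := by
  letI := algR Pr
  haveI : IsScalarTower R Pr.Ring (pair1 Pr).Ring := IsScalarTower.of_algebraMap_eq' rfl
  constructor
  · rw [← Polynomial.aeval_map_algebraMap Pr.Ring, fC_eq, map_mul]
    have : aeval (pair1 Pr).X (f1 Pr) = 0 := (pair1 Pr).hasMap_X.1
    rw [this, mul_zero]
  · rw [← Polynomial.aeval_map_algebraMap Pr.Ring]
    exact (pair1 Pr).hasMap_X.2

/-- the other map `Pr.Ring → (pair1 Pr).Ring`, sending `X` to `X`. -/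
noncomputable def gam : Pr.Ring →+* (pair1 Pr).Ring :=
  letI := algR Pr
  (Pr.lift (pair1 Pr).X (hasMap_X1 Pr)).toRingHom

lemma gam_comp : (gam Pr).comp (algebraMap R Pr.Ring) =
    (algebraMap Pr.Ring (pair1 Pr).Ring).comp (algebraMap R Pr.Ring) := by
  letI := algR Pr
  ext r
  exact (Pr.lift (pair1 Pr).X (hasMap_X1 Pr)).commutes r

lemma gam_X : gam Pr Pr.X = (pair1 Pr).X := by
  letI := algR Pr
  exact Pr.lift_X _ _

theorem exists_lift_field (K : Type u) [Field K] (a₁ a₂ : Pr.Ring →+* K)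
    (h : a₁.comp (algebraMap R Pr.Ring) = a₂.comp (algebraMap R Pr.Ring)) (hne : a₁ ≠ a₂) :
    ∃ a' : (pair1 Pr).Ring →+* K,
      a'.comp (algebraMap Pr.Ring (pair1 Pr).Ring) = a₂ ∧ a'.comp (gam Pr) = a₁ := by
  letI := algR Pr
  haveI : IsScalarTower R Pr.Ring (pair1 Pr).Ring := IsScalarTower.of_algebraMap_eq' rfl
  letI : Algebra Pr.Ring K := a₂.toAlgebra
  letI : Algebra R K := (a₂.comp (algebraMap R Pr.Ring)).toAlgebra
  haveI : IsScalarTower R Pr.Ring K := IsScalarTower.of_algebraMap_eq' rfl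
  let a₁' : Pr.Ring →ₐ[R] K := ⟨a₁, fun r => congr($h r)⟩
  let a₂' : Pr.Ring →ₐ[R] K := ⟨a₂, fun r => rfl⟩
  have hz : a₁ Pr.X ≠ a₂ Pr.X := by
    intro hz
    apply hne
    have : a₁' = a₂' := Pr.hom_ext hz
    ext c
    exact congr($this c)
  have hm : (pair1 Pr).HasMap (a₁ Pr.X) := by
    constructor
    · have h0 : aeval (a₁ Pr.X) (Pr.f.map (algebraMap R Pr.Ring)) = 0 := by
        rw [Polynomial.aeval_map_algebraMap]
        have : aeval (a₁' Pr.X) Pr.f = a₁' (aeval Pr.X Pr.f) := Polynomial.aeval_algHom_apply _ _ _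
        rw [show a₁ Pr.X = a₁' Pr.X from rfl, this, Pr.hasMap_X.1, map_zero]
      rw [fC_eq, map_mul] at h0
      rcases mul_eq_zero.1 h0 with h1 | h1
      · exfalso
        apply hz
        simp only [map_sub, aeval_X, aeval_C] at h1
        exact sub_eq_zero.1 h1
      · exact h1
    · show IsUnit (aeval (a₁ Pr.X) (Pr.g.map (algebraMap R Pr.Ring)))
      rw [Polynomial.aeval_map_algebraMap]
      have : aeval (a₁' Pr.X) Pr.g = a₁' (aeval Pr.X Pr.g) := Polynomial.aeval_algHom_apply _ _ _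
      rw [show a₁ Pr.X = a₁' Pr.X from rfl, this]
      exact Pr.hasMap_X.2.map a₁'
  refine ⟨((pair1 Pr).lift (a₁ Pr.X) hm).toRingHom, ?_, ?_⟩
  · ext c
    exact ((pair1 Pr).lift (a₁ Pr.X) hm).commutes c
  · let b : Pr.Ring →ₐ[R] K :=
      (((pair1 Pr).lift (a₁ Pr.X) hm).restrictScalars R).comp (Pr.lift (pair1 Pr).X (hasMap_X1 Pr))
    have hb : b = a₁' := by
      apply Pr.hom_ext
      show ((pair1 Pr).lift (a₁ Pr.X) hm) (Pr.lift (pair1 Pr).X (hasMap_X1 Pr) Pr.X) = a₁ Pr.X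
      rw [Pr.lift_X, (pair1 Pr).lift_X]
    ext c
    exact congr($hb c)

end Groth.Agent.Lib.H5bEsl
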