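import Mathlib
import Groth.Agent.Lib.H5bEslA
import Groth.Agent.S9874

set_option autoImplicit false
universe u
open CategoryTheory CategoryTheory.Limits AlgebraicGeometry
open AlgSp

namespace Groth.Agent.Lib.H5bEsl

variable {S : Scheme.{u}} {P : MorphismProperty (AlgSp.Sp S)}

open Groth.Agent.Lib.Helper12.SmoothST Groth.Agent.Lib.Helper12.EtSmST
open Groth.Agent.Lib.Helper12.LargestOpen

/-- a pullback square along a monomorphism can be shortened. -/
lemma isPullback_of_comp_mono {C : Type*} [Category C] {A B X Y Z : C} {g' : A ⟶ X} {f' : A ⟶ B}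
    {f0 : X ⟶ Y} {g0 : B ⟶ Y} (j : Y ⟶ Z) [Mono j]
    (sq : IsPullback g' f' (f0 ≫ j) (g0 ≫ j)) : IsPullback g' f' f0 g0 := by
  have w : g' ≫ f0 = f' ≫ g0 := by
    rw [← cancel_mono j, Category.assoc, Category.assoc, sq.w]
  refine ⟨⟨w⟩, ⟨PullbackCone.IsLimit.mk _
    (fun s => sq.lift s.fst s.snd (by rw [← Category.assoc, s.condition, Category.assoc]))
    (fun s => sq.lift_fst _ _ _) (fun s => sq.lift_snd _ _ _)
    (fun s m h1 h2 => sq.hom_ext (by rw [h1, sq.lift_fst]) (by rw [h2, sq.lift_snd]))⟩⟩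

namespace Hyp

/-- descent along a smooth morphism whose image contains the image of `f`. -/
lemma of_smooth_image (h : Hyp P) {X Y X' Y' : AlgSp.Sp S} (hX : AlgSp.IsAlgSpace X)
    (hY : AlgSp.IsAlgSpace Y) (hX' : AlgSp.IsAlgSpace X') (hY' : AlgSp.IsAlgSpace Y')
    (f : X ⟶ Y) (g : Y' ⟶ Y) (f' : X' ⟶ Y') (g' : X' ⟶ X) (sq : IsPullback g' f' f g)
    (hg : AlgSp.LocP @Smooth g)
    (hr : Set.range (AlgSp.Points.map f) ⊆ Set.range (AlgSp.Points.map g)) (hf' : P f') :
    P f := by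
  have hW : IsOpen (Set.range (AlgSp.Points.map g)) :=
    (covProp_smooth.isOpenMap hY' hY g hg).isOpen_range
  obtain ⟨Y0, j, hj, hjr⟩ := Groth.Agent.S10195.result ⟨Y, hY⟩ _ hW
  obtain ⟨f0, hf0⟩ := (Groth.Agent.S10194.exists_factor_iff j.hom hj f).2 (by rw [hjr]; exact hr)
  obtain ⟨g0, hg0⟩ := (Groth.Agent.S10194.exists_factor_iff j.hom hj g).2 (by rw [hjr])
  haveI : Mono j.hom := mono_of_open j.hom hj
  have hg0s : AlgSp.LocP @Smooth g0 :=
    covProp_smooth.cancel_open hY' Y0.property hY g0 j.hom hj (by rw [hg0]; exact hg)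
  have hsurj : Function.Surjective (AlgSp.Points.map g0) := by
    intro y0
    have : AlgSp.Points.map j.hom y0 ∈ Set.range (AlgSp.Points.map g) := by
      rw [← hjr]; exact ⟨y0, rfl⟩
    obtain ⟨y', hy'⟩ := this
    refine ⟨y', injective_map_of_open j.hom hj ?_⟩
    rw [← AlgSp.Points.map_comp, hg0, hy']
  have sq0 : IsPullback g' f' f0 g0 := by
    apply isPullback_of_comp_mono j.hom
    rw [hf0, hg0]
    exact sq
  have hPf0 : P f0 := h.of_smooth_surj hX Y0.property hX' hY' f0 g0 f' g' sq0 hg0s hsurj hf'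
  rw [← hf0]
  exact h.postcomp_open hX Y0.property hY f0 j.hom hPf0 hj

/-- a two-member étale covering of the source. -/
lemma of_two_etale (h : Hyp P) {A0 A1 X Y : AlgSp.Sp S} (hA0 : AlgSp.IsAlgSpace A0)
    (hA1 : AlgSp.IsAlgSpace A1) (hX : AlgSp.IsAlgSpace X) (hY : AlgSp.IsAlgSpace Y)
    (e0 : A0 ⟶ X) (e1 : A1 ⟶ X) (f : X ⟶ Y) (he0 : AlgSp.IsEtaleMor e0)
    (he1 : AlgSp.IsEtaleMor e1)
    (hs : ∀ x : AlgSp.Points X, x ∈ Set.range (AlgSp.Points.map e0) ∨
      x ∈ Set.range (AlgSp.Points.map e1))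
    (h0 : P (e0 ≫ f)) (h1 : P (e1 ≫ f)) : P f := by
  have key := h.h1 (ι := Option PUnit.{u + 1}) (X := X)
    (fun i => Option.rec (motive := fun _ => AlgSp.Sp S) A0 (fun _ => A1) i)
    (fun i => Option.rec (motive := fun i =>
      (Option.rec (motive := fun _ => AlgSp.Sp S) A0 (fun _ => A1) i : AlgSp.Sp S) ⟶ X)
      e0 (fun _ => e1) i) hX
    (fun i => by cases i with
      | none => exact hA0
      | some _ => exact hA1)
    ⟨fun i => by cases i with
      | none => exact he0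
      | some _ => exact he1,
     fun x => by
      rcases hs x with hx | hx
      · exact ⟨none, hx⟩
      · exact ⟨some PUnit.unit, hx⟩⟩ f hY
  refine key.2 (fun i => ?_)
  cases i with
  | none => exact h0
  | some _ => exact h1

end Hyp

end Groth.Agent.Lib.H5bEsl
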