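import Mathlib
import Groth.Agent.Lib.H5bEslB
import Groth.Agent.Lib.H5bEslC
import Groth.Agent.S13210

set_option autoImplicit false
universe u
open CategoryTheory CategoryTheory.Limits AlgebraicGeometry Opposite
open AlgSp

namespace Groth.Agent.Lib.H5bEsl

variable {S : Scheme.{u}} {P : MorphismProperty (AlgSp.Sp S)}

open Groth.Agent.Lib.Helper12.SmoothST Groth.Agent.Lib.Helper12.EtSmST
open Groth.Agent.S13210

/-- a field point lies in the image of `e` as soon as its section lifts. -/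
lemma mem_range_map_of_lift {A F : AlgSp.Sp S} (e : A ⟶ F) {K : Type u} [Field K]
    (str : Spec (CommRingCat.of K) ⟶ S) (val : F.obj.obj (op (Over.mk str)))
    (σ : (AlgSp.yon S).obj (Over.mk str) ⟶ A)
    (hσ : σ ≫ e = (yEquiv (Over.mk str) F).symm val) :
    AlgSp.Points.mk (⟨K, str, val⟩ : AlgSp.FieldPt F) ∈ Set.range (AlgSp.Points.map e) := by
  refine ⟨AlgSp.Points.mk ⟨K, str, yEquiv (Over.mk str) A σ⟩, ?_⟩
  rw [AlgSp.Points.map_mk]
  show AlgSp.Points.mk ⟨K, str, e.hom.app _ (yEquiv (Over.mk str) A σ)⟩ = _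
  rw [← yEquiv_comp, hσ, Equiv.apply_symm_apply]

/-- the object `Spec Pr.Ring` over `S`. -/
noncomputable def stdObj {R : CommRingCat.{u}} (Pr : StandardEtalePair R) (s : Spec R ⟶ S) :
    Over S :=
  Over.mk (Spec.map (CommRingCat.ofHom (algebraMap R Pr.Ring)) ≫ s)

/-- the structure morphism `Spec Pr.Ring ⟶ Spec R` over `S`. -/
noncomputable def stdHom {R : CommRingCat.{u}} (Pr : StandardEtalePair R) (s : Spec R ⟶ S) :
    stdObj Pr s ⟶ Over.mk s :=
  Over.homMk (Spec.map (CommRingCat.ofHom (algebraMap R Pr.Ring))) rfl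

lemma etale_stdHom {R : CommRingCat.{u}} (Pr : StandardEtalePair R) (s : Spec R ⟶ S) :
    Etale (stdHom Pr s).left := by
  show Etale (Spec.map (CommRingCat.ofHom (algebraMap R Pr.Ring)))
  rw [HasRingHomProperty.Spec_iff (P := @Etale)]
  exact RingHom.etale_algebraMap.2 inferInstance

lemma isEtaleMor_stdHom {R : CommRingCat.{u}} (Pr : StandardEtalePair R) (s : Spec R ⟶ S) :
    AlgSp.IsEtaleMor ((AlgSp.yon S).map (stdHom Pr s)) :=
  (AlgSp.isEtaleMor_yon_map_iff _).2 (etale_stdHom Pr s)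

lemma isEmpty_points_of_subsingleton {R : CommRingCat.{u}} (Pr : StandardEtalePair R)
    (s : Spec R ⟶ S) [Subsingleton Pr.Ring] {U : AlgSp.Sp S}
    (h : U ⟶ (AlgSp.yon S).obj (stdObj Pr s)) : IsEmpty (AlgSp.Points U) := by
  haveI : IsEmpty ↥(stdObj Pr s).left := by
    show IsEmpty (PrimeSpectrum Pr.Ring)
    infer_instance
  haveI : IsEmpty (AlgSp.Points ((AlgSp.yon S).obj (stdObj Pr s))) :=
    (AlgSp.Points.schemeEquiv (stdObj Pr s)).symm.isEmpty
  exact Function.isEmpty (AlgSp.Points.map h)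

section step

variable {R : CommRingCat.{u}} (Pr : StandardEtalePair R) (s : Spec R ⟶ S)

/-- the object `Spec (pair1 Pr).Ring`. -/
noncomputable abbrev V1 : Over S :=
  stdObj (R := CommRingCat.of Pr.Ring) (pair1 Pr) (stdObj Pr s).hom

noncomputable abbrev b1 : V1 Pr s ⟶ stdObj Pr s :=
  stdHom (R := CommRingCat.of Pr.Ring) (pair1 Pr) (stdObj Pr s).hom

lemma spec_gam_comp :
    Spec.map (CommRingCat.ofHom (gam Pr)) ≫ Spec.map (CommRingCat.ofHom (algebraMap R Pr.Ring)) =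
      Spec.map (CommRingCat.ofHom (algebraMap Pr.Ring (pair1 Pr).Ring)) ≫
        Spec.map (CommRingCat.ofHom (algebraMap R Pr.Ring)) := by
  rw [← Spec.map_comp, ← Spec.map_comp, ← CommRingCat.ofHom_comp, ← CommRingCat.ofHom_comp,
    gam_comp]

/-- the other morphism `Spec (pair1 Pr).Ring ⟶ Spec Pr.Ring`. -/
noncomputable def c1 : V1 Pr s ⟶ stdObj Pr s :=
  Over.homMk (Spec.map (CommRingCat.ofHom (gam Pr))) (by
    show Spec.map (CommRingCat.ofHom (gam Pr)) ≫
        (Spec.map (CommRingCat.ofHom (algebraMap R Pr.Ring)) ≫ s) =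
      Spec.map (CommRingCat.ofHom (algebraMap Pr.Ring (pair1 Pr).Ring)) ≫
        (Spec.map (CommRingCat.ofHom (algebraMap R Pr.Ring)) ≫ s)
    rw [← Category.assoc, spec_gam_comp, Category.assoc])

lemma c1_comp : c1 Pr s ≫ stdHom Pr s = b1 Pr s ≫ stdHom Pr s := by
  apply Over.OverMorphism.ext
  exact spec_gam_comp Pr

end step

/-- the core of the inductive step: `P` for the base change of `h ≫ h_{b0}` along `h_{b0}`. -/
lemma claimA_aux (hP : Hyp P) {R : CommRingCat.{u}} (Pr : StandardEtalePair R)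
    [Nontrivial Pr.Ring] (s : Spec R ⟶ S)
    (IH : ∀ (U1 : AlgSp.Sp S), AlgSp.IsAlgSpace U1 →
      ∀ h1 : U1 ⟶ (AlgSp.yon S).obj (V1 Pr s), P h1 → P (h1 ≫ (AlgSp.yon S).map (b1 Pr s)))
    (U : AlgSp.Sp S) (hU : AlgSp.IsAlgSpace U) (h : U ⟶ (AlgSp.yon S).obj (stdObj Pr s))
    (hh : P h) {U' : AlgSp.Sp S} (hU' : AlgSp.IsAlgSpace U') {p : U' ⟶ U}
    {q : U' ⟶ (AlgSp.yon S).obj (stdObj Pr s)}
    (sq1 : IsPullback p q (h ≫ (AlgSp.yon S).map (stdHom Pr s))
      ((AlgSp.yon S).map (stdHom Pr s))) : P q := by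
  have hY0 : AlgSp.IsAlgSpace ((AlgSp.yon S).obj (Over.mk s)) := AlgSp.IsAlgSpace.yon_obj _
  have hV0a : AlgSp.IsAlgSpace ((AlgSp.yon S).obj (stdObj Pr s)) := AlgSp.IsAlgSpace.yon_obj _
  have hV1a : AlgSp.IsAlgSpace ((AlgSp.yon S).obj (V1 Pr s)) := AlgSp.IsAlgSpace.yon_obj _
  have heb0 := isEtaleMor_stdHom Pr s
  have heb1 : AlgSp.IsEtaleMor ((AlgSp.yon S).map (b1 Pr s)) :=
    isEtaleMor_stdHom (R := CommRingCat.of Pr.Ring) (pair1 Pr) (stdObj Pr s).hom
  have hec1 : AlgSp.IsEtaleMor ((AlgSp.yon S).map (c1 Pr s)) := by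
    refine Groth.Agent.S10210.isEtaleMor_of_comp hV1a hV0a _ ((AlgSp.yon S).map (stdHom Pr s))
      ?_ heb0
    rw [← Functor.map_comp, c1_comp, Functor.map_comp]
    exact isEtaleMor_comp _ _ heb1 heb0
  -- the diagonal piece
  obtain ⟨e0, he0p, he0q⟩ : ∃ e0 : U ⟶ U', e0 ≫ p = 𝟙 U ∧ e0 ≫ q = h :=
    ⟨sq1.lift (𝟙 U) h (by simp), sq1.lift_fst _ _ _, sq1.lift_snd _ _ _⟩
  have hpe : AlgSp.IsEtaleMor p := isEtaleMor_baseChange hV0a hY0 hU sq1.flip heb0
  have he0 : AlgSp.IsEtaleMor e0 := isEtaleMor_of_section hU' e0 p hpe he0p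
  -- the second pullback
  obtain ⟨U1, p1, q1, sq2⟩ : ∃ (U1 : AlgSp.Sp S) (p1 : U1 ⟶ U)
      (q1 : U1 ⟶ (AlgSp.yon S).obj (V1 Pr s)),
      IsPullback p1 q1 h ((AlgSp.yon S).map (c1 Pr s)) :=
    ⟨_, _, _, IsPullback.of_hasPullback h ((AlgSp.yon S).map (c1 Pr s))⟩
  have hU1 : AlgSp.IsAlgSpace U1 :=
    Groth.Agent.S9874.isAlgSpace_of_isPullback hV0a.diag hU hV1a sq2
  have hq1 : P q1 := hP.baseChange hU hV0a hU1 hV1a h _ q1 p1 sq2
    (locP_smooth_of_isEtaleMor _ hec1) hh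
  have hw1 : p1 ≫ h ≫ (AlgSp.yon S).map (stdHom Pr s) =
      (q1 ≫ (AlgSp.yon S).map (b1 Pr s)) ≫ (AlgSp.yon S).map (stdHom Pr s) := by
    rw [← Category.assoc, sq2.w, Category.assoc, Category.assoc, ← Functor.map_comp, c1_comp,
      Functor.map_comp]
  obtain ⟨e1, he1p, he1q⟩ : ∃ e1 : U1 ⟶ U', e1 ≫ p = p1 ∧
      e1 ≫ q = q1 ≫ (AlgSp.yon S).map (b1 Pr s) :=
    ⟨sq1.lift p1 (q1 ≫ (AlgSp.yon S).map (b1 Pr s)) hw1, sq1.lift_fst _ _ _, sq1.lift_snd _ _ _⟩
  have hp1 : AlgSp.IsEtaleMor p1 := isEtaleMor_baseChange hV1a hV0a hU sq2.flip hec1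
  have he1 : AlgSp.IsEtaleMor e1 :=
    Groth.Agent.S10210.isEtaleMor_of_comp hU1 hU' e1 p (by rw [he1p]; exact hp1) hpe
  refine hP.of_two_etale hU hU1 hU' hV0a e0 e1 q he0 he1 ?_ (by rw [he0q]; exact hh)
    (by rw [he1q]; exact IH U1 hU1 q1 hq1)
  -- joint surjectivity
  intro x
  induction x using AlgSp.Points.ind with | h pt => ?_
  obtain ⟨K, str, val⟩ := pt
  obtain ⟨τ, hτ⟩ : ∃ τ : (AlgSp.yon S).obj (Over.mk str) ⟶ U',
      τ = (yEquiv (Over.mk str) U').symm val := ⟨_, rfl⟩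
  obtain ⟨hm, hhm⟩ := (AlgSp.yon S).map_surjective (τ ≫ p ≫ h)
  obtain ⟨cm, hcm⟩ := (AlgSp.yon S).map_surjective (τ ≫ q)
  have hbm : hm ≫ stdHom Pr s = cm ≫ stdHom Pr s := by
    apply (AlgSp.yon S).map_injective
    rw [Functor.map_comp, Functor.map_comp, hhm, hcm, Category.assoc, Category.assoc,
      Category.assoc, sq1.w]
  by_cases hEq : hm = cm
  · left
    refine mem_range_map_of_lift e0 str val (τ ≫ p) ?_
    rw [← hτ]
    apply sq1.hom_ext
    · rw [Category.assoc, Category.assoc, he0p, Category.comp_id]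
    · rw [Category.assoc, Category.assoc, he0q, ← hcm, ← hEq, hhm]
  · right
    -- ring maps
    let a₁ : Pr.Ring →+* K := (Spec.preimage hm.left).hom
    let a₂ : Pr.Ring →+* K := (Spec.preimage cm.left).hom
    have ha₁ : Spec.map (CommRingCat.ofHom a₁) = hm.left := Spec.map_preimage _
    have ha₂ : Spec.map (CommRingCat.ofHom a₂) = cm.left := Spec.map_preimage _
    have h12 : a₁.comp (algebraMap R Pr.Ring) = a₂.comp (algebraMap R Pr.Ring) := by
      have e1 : Spec.map (CommRingCat.ofHom (a₁.comp (algebraMap R Pr.Ring))) =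
          Spec.map (CommRingCat.ofHom (a₂.comp (algebraMap R Pr.Ring))) := by
        rw [CommRingCat.ofHom_comp, CommRingCat.ofHom_comp, Spec.map_comp, Spec.map_comp, ha₁, ha₂]
        exact congrArg (fun m => m.left) hbm
      exact congrArg CommRingCat.Hom.hom (Spec.map_injective e1)
    have hne : a₁ ≠ a₂ := by
      intro h'
      apply hEq
      apply Over.OverMorphism.ext
      rw [← ha₁, ← ha₂, h']
    obtain ⟨a', ha'2, ha'1⟩ := exists_lift_field Pr K a₁ a₂ h12 hne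
    have hv1 : Spec.map (CommRingCat.ofHom a') ≫ (V1 Pr s).hom = str := by
      show Spec.map (CommRingCat.ofHom a') ≫
        (Spec.map (CommRingCat.ofHom (algebraMap Pr.Ring (pair1 Pr).Ring)) ≫
          (stdObj Pr s).hom) = str
      rw [← Category.assoc, ← Spec.map_comp, ← CommRingCat.ofHom_comp, ha'2, ha₂]
      exact Over.w cm
    let v1 : Over.mk str ⟶ V1 Pr s := Over.homMk (Spec.map (CommRingCat.ofHom a')) hv1
    have hv1c : v1 ≫ c1 Pr s = hm := by
      apply Over.OverMorphism.ext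
      show Spec.map (CommRingCat.ofHom a') ≫ Spec.map (CommRingCat.ofHom (gam Pr)) = hm.left
      rw [← Spec.map_comp, ← CommRingCat.ofHom_comp, ha'1, ha₁]
    have hv1b : v1 ≫ b1 Pr s = cm := by
      apply Over.OverMorphism.ext
      show Spec.map (CommRingCat.ofHom a') ≫
        Spec.map (CommRingCat.ofHom (algebraMap Pr.Ring (pair1 Pr).Ring)) = cm.left
      rw [← Spec.map_comp, ← CommRingCat.ofHom_comp, ha'2, ha₂]
    have hw2 : (τ ≫ p) ≫ h = (AlgSp.yon S).map v1 ≫ (AlgSp.yon S).map (c1 Pr s) := by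
      rw [← Functor.map_comp, hv1c, hhm, Category.assoc]
    refine mem_range_map_of_lift e1 str val (sq2.lift (τ ≫ p) ((AlgSp.yon S).map v1) hw2) ?_
    rw [← hτ]
    apply sq1.hom_ext
    · rw [Category.assoc, he1p, sq2.lift_fst]
    · rw [Category.assoc, he1q, ← Category.assoc, sq2.lift_snd, ← Functor.map_comp, hv1b, hcm]

/-- the inductive step of the étale postcomposition claim for standard étale algebras. -/
lemma claimA_step (hP : Hyp P) {R : CommRingCat.{u}} (Pr : StandardEtalePair R)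
    [Nontrivial Pr.Ring] (s : Spec R ⟶ S)
    (IH : ∀ (U1 : AlgSp.Sp S), AlgSp.IsAlgSpace U1 →
      ∀ h1 : U1 ⟶ (AlgSp.yon S).obj (V1 Pr s), P h1 → P (h1 ≫ (AlgSp.yon S).map (b1 Pr s)))
    (U : AlgSp.Sp S) (hU : AlgSp.IsAlgSpace U) (h : U ⟶ (AlgSp.yon S).obj (stdObj Pr s))
    (hh : P h) : P (h ≫ (AlgSp.yon S).map (stdHom Pr s)) := by
  have hY0 : AlgSp.IsAlgSpace ((AlgSp.yon S).obj (Over.mk s)) := AlgSp.IsAlgSpace.yon_obj _
  have hV0a : AlgSp.IsAlgSpace ((AlgSp.yon S).obj (stdObj Pr s)) := AlgSp.IsAlgSpace.yon_obj _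
  have heb0 := isEtaleMor_stdHom Pr s
  have sq1 := IsPullback.of_hasPullback (h ≫ (AlgSp.yon S).map (stdHom Pr s))
    ((AlgSp.yon S).map (stdHom Pr s))
  have hU' : AlgSp.IsAlgSpace (pullback (h ≫ (AlgSp.yon S).map (stdHom Pr s))
      ((AlgSp.yon S).map (stdHom Pr s))) :=
    Groth.Agent.S9874.isAlgSpace_of_isPullback hY0.diag hU hV0a sq1
  refine hP.of_smooth_image hU hY0 hU' hV0a _ _ _ _ sq1 (locP_smooth_of_isEtaleMor _ heb0) ?_ ?_
  · rintro _ ⟨x, rfl⟩
    exact ⟨AlgSp.Points.map h x, (AlgSp.Points.map_comp _ _ _).symm⟩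
  · exact claimA_aux hP Pr s IH U hU h hh hU' sq1

/-- étale postcomposition for standard étale algebras, by induction on the degree. -/
theorem claimA_std (hP : Hyp P) : ∀ (d : ℕ) (R : CommRingCat.{u}) (Pr : StandardEtalePair R),
    Pr.f.natDegree ≤ d → ∀ (s : Spec R ⟶ S) (U : AlgSp.Sp S), AlgSp.IsAlgSpace U →
    ∀ h : U ⟶ (AlgSp.yon S).obj (stdObj Pr s), P h →
      P (h ≫ (AlgSp.yon S).map (stdHom Pr s)) := by
  intro d
  induction d with
  | zero =>
    intro R Pr hd s U hU h hh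
    rcases subsingleton_or_nontrivial Pr.Ring with hs | hn
    · exact hP.of_isEmpty hU (AlgSp.IsAlgSpace.yon_obj _) _ (isEmpty_points_of_subsingleton Pr s h)
    · have := f1_natDegree Pr
      omega
  | succ d IH =>
    intro R Pr hd s U hU h hh
    rcases subsingleton_or_nontrivial Pr.Ring with hs | hn
    · exact hP.of_isEmpty hU (AlgSp.IsAlgSpace.yon_obj _) _ (isEmpty_points_of_subsingleton Pr s h)
    · refine claimA_step hP Pr s (fun U1 hU1 h1 hh1 => ?_) U hU h hh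
      refine IH (CommRingCat.of Pr.Ring) (pair1 Pr) ?_ (stdObj Pr s).hom U1 hU1 h1 hh1
      have := f1_natDegree Pr
      show (f1 Pr).natDegree ≤ d
      omega

end Groth.Agent.Lib.H5bEsl
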