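import Mathlib

set_option autoImplicit false
universe u
open CategoryTheory CategoryTheory.Limits AlgebraicGeometry

namespace Groth.Agent.Lib.H5bEsl

/-- an étale morphism of schemes is, locally on source and target, standard étale. -/
theorem exists_std_etale_chart {V Y : Scheme.{u}} (b : V ⟶ Y) [Etale b] (v : V) :
    ∃ (R : CommRingCat.{u}) (Pr : StandardEtalePair R) (jY : Spec R ⟶ Y)
      (jV : Spec (CommRingCat.of Pr.Ring) ⟶ V),
      IsOpenImmersion jY ∧ IsOpenImmersion jV ∧ v ∈ Set.range jV ∧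
      jV ≫ b = Spec.map (CommRingCat.ofHom (algebraMap R Pr.Ring)) ≫ jY := by
  obtain ⟨U, hU, hbv⟩ : ∃ U : Y.Opens, IsAffineOpen U ∧ b v ∈ U := by
    obtain ⟨_, ⟨U, hU, rfl⟩, hx, -⟩ :=
      Y.isBasis_affineOpens.exists_subset_of_mem_open (Set.mem_univ (b v)) isOpen_univ
    exact ⟨U, hU, hx⟩
  obtain ⟨V', hV', hvV', hle⟩ : ∃ V' : V.Opens, IsAffineOpen V' ∧ v ∈ V' ∧ V' ≤ b ⁻¹ᵁ U := by
    obtain ⟨_, ⟨V', hV', rfl⟩, hx, hsub⟩ :=
      V.isBasis_affineOpens.exists_subset_of_mem_open (show v ∈ ((b ⁻¹ᵁ U : V.Opens) : Set V) from hbv)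
        (b ⁻¹ᵁ U).isOpen
    exact ⟨V', hV', hx, hsub⟩
  have hφ : (b.appLE U V' hle).hom.Etale :=
    HasRingHomProperty.appLE (P := @Etale) b inferInstance ⟨U, hU⟩ ⟨V', hV'⟩ hle
  letI : Algebra Γ(Y, U) Γ(V, V') := (b.appLE U V' hle).hom.toAlgebra
  haveI : Algebra.Etale Γ(Y, U) Γ(V, V') := RingHom.etale_algebraMap.1 hφ
  let q := hV'.primeIdealOf ⟨v, hvV'⟩
  haveI : Algebra.FormallyEtale Γ(V, V') (Localization.AtPrime q.asIdeal) :=
    Algebra.FormallyEtale.of_isLocalization q.asIdeal.primeCompl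
  haveI : Algebra.IsEtaleAt Γ(Y, U) q.asIdeal :=
    Algebra.FormallyEtale.comp Γ(Y, U) Γ(V, V') (Localization.AtPrime q.asIdeal)
  obtain ⟨f, hfq, hstd⟩ := Algebra.IsEtaleAt.exists_isStandardEtale (R := Γ(Y, U)) q.asIdeal
  obtain ⟨Pres⟩ := hstd.nonempty_standardEtalePresentation
  let e : Localization.Away f ≃ₐ[Γ(Y, U)] Pres.P.Ring := Pres.equivRing
  refine ⟨Γ(Y, U), Pres.P, hU.fromSpec,
    Spec.map (CommRingCat.ofHom e.toAlgHom.toRingHom) ≫
      Spec.map (CommRingCat.ofHom (algebraMap Γ(V, V') (Localization.Away f))) ≫ hV'.fromSpec,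
    inferInstance, ?_, ?_, ?_⟩
  · haveI : IsIso (CommRingCat.ofHom e.toAlgHom.toRingHom) :=
      inferInstanceAs (IsIso e.toRingEquiv.toCommRingCatIso.hom)
    infer_instance
  · have h1 : hV'.fromSpec q = v := hV'.fromSpec_primeIdealOf ⟨v, hvV'⟩
    have h2 : q ∈ Set.range
        (Spec.map (CommRingCat.ofHom (algebraMap Γ(V, V') (Localization.Away f)))) := by
      have := PrimeSpectrum.localization_away_comap_range (Localization.Away f) f
      change q ∈ Set.range (PrimeSpectrum.comap (algebraMap Γ(V, V') (Localization.Away f)))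
      rw [this]
      exact hfq
    obtain ⟨q', hq'⟩ := h2
    refine ⟨PrimeSpectrum.comap e.symm.toAlgHom.toRingHom q', ?_⟩
    rw [Scheme.Hom.comp_apply, Scheme.Hom.comp_apply]
    have h3 : Spec.map (CommRingCat.ofHom e.toAlgHom.toRingHom)
        (PrimeSpectrum.comap e.symm.toAlgHom.toRingHom q') = q' := by
      change PrimeSpectrum.comap e.toAlgHom.toRingHom
        (PrimeSpectrum.comap e.symm.toAlgHom.toRingHom q') = q'
      rw [← PrimeSpectrum.comap_comp_apply]
      have : (e.symm.toAlgHom.toRingHom).comp e.toAlgHom.toRingHom = RingHom.id _ := by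
        ext x; simp
      rw [this]
      rfl
    rw [h3, hq', h1]
  · rw [Category.assoc, Category.assoc, ← IsAffineOpen.SpecMap_appLE_fromSpec b hU hV' hle,
      ← Spec.map_comp_assoc, ← Spec.map_comp_assoc]
    congr 2
    ext x
    change e (algebraMap Γ(V, V') (Localization.Away f) (algebraMap Γ(Y, U) Γ(V, V') x)) =
      algebraMap Γ(Y, U) Pres.P.Ring x
    rw [← IsScalarTower.algebraMap_apply, e.commutes]

end Groth.Agent.Lib.H5bEsl
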