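import Mathlib
import Groth.Agent.Lib.H5bEslD
import Groth.Agent.Lib.H5bEslE

set_option autoImplicit false
universe u
open CategoryTheory CategoryTheory.Limits AlgebraicGeometry Opposite
open AlgSp

namespace Groth.Agent.Lib.H5bEsl

variable {S : Scheme.{u}} {P : MorphismProperty (AlgSp.Sp S)}

open Groth.Agent.Lib.Helper12.SmoothST Groth.Agent.Lib.Helper12.EtSmST
open Groth.Agent.Lib.Helper12.LargestOpen

/-- étale postcomposition for étale morphisms of schemes. -/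
theorem claimA_sch (hP : Hyp P) {V Y : Over S} (b : V ⟶ Y) (hb : Etale b.left)
    {U : AlgSp.Sp S} (hU : AlgSp.IsAlgSpace U) (h : U ⟶ (AlgSp.yon S).obj V) (hh : P h) :
    P (h ≫ (AlgSp.yon S).map b) := by
  haveI := hb
  choose R Pr jY jV hjY hjV hv hcomm using fun v : V.left => exists_std_etale_chart b.left v
  let s : ∀ v, Spec (R v) ⟶ S := fun v => jY v ≫ Y.hom
  let jYo : ∀ v, Over.mk (s v) ⟶ Y := fun v => Over.homMk (jY v) rfl
  have hVw : ∀ v, jV v ≫ V.hom = (stdObj (Pr v) (s v)).hom := fun v => by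
    show jV v ≫ V.hom =
      Spec.map (CommRingCat.ofHom (algebraMap (R v) (Pr v).Ring)) ≫ jY v ≫ Y.hom
    rw [← Over.w b, ← Category.assoc, hcomm v, Category.assoc]
  let jVo : ∀ v, stdObj (Pr v) (s v) ⟶ V := fun v => Over.homMk (jV v) (hVw v)
  have hsq : ∀ v, jVo v ≫ b = stdHom (Pr v) (s v) ≫ jYo v :=
    fun v => Over.OverMorphism.ext (hcomm v)
  have hjVr : ∀ v, AlgSp.RepWith @IsOpenImmersion ((AlgSp.yon S).map (jVo v)) :=
    fun v => (AlgSp.repWith_yon_map_iff _ _).2 (hjV v)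
  have hjYr : ∀ v, AlgSp.RepWith @IsOpenImmersion ((AlgSp.yon S).map (jYo v)) :=
    fun v => (AlgSp.repWith_yon_map_iff _ _).2 (hjY v)
  have hVa : AlgSp.IsAlgSpace ((AlgSp.yon S).obj V) := AlgSp.IsAlgSpace.yon_obj _
  have hYa : AlgSp.IsAlgSpace ((AlgSp.yon S).obj Y) := AlgSp.IsAlgSpace.yon_obj _
  have sqv : ∀ v, IsPullback (pullback.fst h ((AlgSp.yon S).map (jVo v)))
      (pullback.snd h ((AlgSp.yon S).map (jVo v))) h ((AlgSp.yon S).map (jVo v)) :=
    fun v => IsPullback.of_hasPullback _ _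
  have hUv : ∀ v, AlgSp.IsAlgSpace (pullback h ((AlgSp.yon S).map (jVo v))) := fun v =>
    Groth.Agent.S9874.isAlgSpace_of_isPullback hVa.diag hU (AlgSp.IsAlgSpace.yon_obj _) (sqv v)
  have hfo : ∀ v, AlgSp.RepWith @IsOpenImmersion (pullback.fst h ((AlgSp.yon S).map (jVo v))) :=
    fun v => MorphismProperty.of_isPullback (P := AlgSp.RepWith @IsOpenImmersion) (sqv v).flip
      (hjVr v)
  have key := hP.h1 (ι := ↥V.left) (X := U) (fun v => pullback h ((AlgSp.yon S).map (jVo v)))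
    (fun v => pullback.fst h ((AlgSp.yon S).map (jVo v))) hU hUv
    ⟨fun v => covProp_etale.of_open (hUv v) hU _ (hfo v), fun x => ?_⟩
    (h ≫ (AlgSp.yon S).map b) hYa
  · refine key.2 (fun v => ?_)
    have e1 : pullback.fst h ((AlgSp.yon S).map (jVo v)) ≫ h ≫ (AlgSp.yon S).map b =
        (pullback.snd h ((AlgSp.yon S).map (jVo v)) ≫
          (AlgSp.yon S).map (stdHom (Pr v) (s v))) ≫ (AlgSp.yon S).map (jYo v) := by
      rw [← Category.assoc, (sqv v).w, Category.assoc, Category.assoc, ← Functor.map_comp, hsq v,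
        Functor.map_comp]
    rw [e1]
    refine hP.postcomp_open (hUv v) (AlgSp.IsAlgSpace.yon_obj _) hYa _ _ ?_ (hjYr v)
    refine claimA_std hP _ (R v) (Pr v) le_rfl (s v) _ (hUv v) _ ?_
    exact hP.baseChange hU hVa (hUv v) (AlgSp.IsAlgSpace.yon_obj _) h _ _ _ (sqv v)
      (covProp_smooth.of_open (AlgSp.IsAlgSpace.yon_obj _) hVa _ (hjVr v)) hh
  · -- joint surjectivity
    obtain ⟨t, ht⟩ := hv (AlgSp.Points.toScheme V (AlgSp.Points.map h x))
    have e2 : AlgSp.Points.map h x = AlgSp.Points.map ((AlgSp.yon S).map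
        (jVo (AlgSp.Points.toScheme V (AlgSp.Points.map h x))))
        (AlgSp.Points.schemeHomeo _ t) := by
      rw [AlgSp.Points.map_yon_map_apply]
      show _ = AlgSp.Points.schemeHomeo V (jV _ t)
      rw [ht]
      exact (AlgSp.Points.ofScheme_toScheme V _).symm
    obtain ⟨p, hp1, -⟩ := Groth.Agent.S10175.exists_point_of_isPullback
      (sqv (AlgSp.Points.toScheme V (AlgSp.Points.map h x))) x _ e2
    exact ⟨_, p, hp1⟩

/-- étale postcomposition along an étale chart of an algebraic space. -/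
theorem claimA_chart (hP : Hyp P) {Y : AlgSp.Sp S} (hY : AlgSp.IsAlgSpace Y) {Y0 : Over S}
    (β : (AlgSp.yon S).obj Y0 ⟶ Y) (hβ : AlgSp.IsEtaleMor β) {X : AlgSp.Sp S}
    (hX : AlgSp.IsAlgSpace X) (g : X ⟶ (AlgSp.yon S).obj Y0) (hg : P g) : P (g ≫ β) := by
  have hY0a : AlgSp.IsAlgSpace ((AlgSp.yon S).obj Y0) := AlgSp.IsAlgSpace.yon_obj _
  have hβr : AlgSp.RepWith @Etale β := by
    have := hβ (𝟙 _) (AlgSp.repWith_id _ Y0)
    rwa [Category.id_comp] at this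
  obtain ⟨R1, r2, r1y, sqR⟩ := hβr.1 β
  obtain ⟨r1, rfl⟩ := (AlgSp.yon S).map_surjective r1y
  have hr2 : Etale r2.left := hβr.2 β _ r2 sqR
  have hr1 : Etale r1.left := hβr.2 β _ r1 sqR.flip
  have hR1a : AlgSp.IsAlgSpace ((AlgSp.yon S).obj R1) := AlgSp.IsAlgSpace.yon_obj _
  have sqX := IsPullback.of_hasPullback (g ≫ β) β
  have hX1 : AlgSp.IsAlgSpace (pullback (g ≫ β) β) :=
    Groth.Agent.S9874.isAlgSpace_of_isPullback hY.diag hX hY0a sqX
  obtain ⟨k, hk1, hk2⟩ : ∃ k : pullback (g ≫ β) β ⟶ (AlgSp.yon S).obj R1,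
      k ≫ (AlgSp.yon S).map r1 = pullback.fst (g ≫ β) β ≫ g ∧
      k ≫ (AlgSp.yon S).map r2 = pullback.snd (g ≫ β) β :=
    ⟨sqR.lift (pullback.fst (g ≫ β) β ≫ g) (pullback.snd (g ≫ β) β)
      (by rw [Category.assoc]; exact sqX.w), sqR.lift_fst _ _ _, sqR.lift_snd _ _ _⟩
  have sqL : IsPullback k (pullback.fst (g ≫ β) β) ((AlgSp.yon S).map r1) g := by
    refine IsPullback.of_right ?_ hk1 sqR.flip
    rw [hk2]
    exact sqX.flip
  have hr1s : AlgSp.LocP @Smooth ((AlgSp.yon S).map r1) :=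
    locP_smooth_of_isEtaleMor _ ((AlgSp.isEtaleMor_yon_map_iff r1).2 hr1)
  have hk : P k := hP.baseChange hX hY0a hX1 hR1a g _ k _ sqL.flip hr1s hg
  have hpY : P (pullback.snd (g ≫ β) β) := by
    rw [← hk2]
    exact claimA_sch hP r2 hr2 hX1 k hk
  refine hP.of_smooth_image hX hY hX1 hY0a (g ≫ β) β _ _ sqX
    (locP_smooth_of_isEtaleMor _ hβ) ?_ hpY
  rintro _ ⟨x, rfl⟩
  exact ⟨AlgSp.Points.map g x, (AlgSp.Points.map_comp _ _ _).symm⟩

end Groth.Agent.Lib.H5bEsl
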