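import Mathlib

set_option autoImplicit false
universe u
open MvPolynomial

namespace Groth.Agent.Lib.H5bEsl

section rename

variable (R : Type u) [CommRing R]

/-- renaming variables along an injection into a finite type is a smooth ring map. -/
theorem smooth_rename {σ τ : Type} [Finite τ] (f : σ → τ) (hf : Function.Injective f) :
    (rename f : MvPolynomial σ R →ₐ[R] MvPolynomial τ R).toRingHom.Smooth := by
  classical
  let e : ↥(Set.range f)ᶜ ⊕ σ ≃ τ :=
    (Equiv.sumComm _ _).trans
      ((Equiv.sumCongr (Equiv.ofInjective f hf) (Equiv.refl _)).trans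
        (Equiv.Set.sumCompl (Set.range f)))
  have he : ∀ i, e (Sum.inr i) = f i := fun i => by
    simp [e]
  have h1 : (rename f : MvPolynomial σ R →ₐ[R] MvPolynomial τ R) =
      ((renameEquiv R e).toAlgHom.comp (sumAlgEquiv R ↥(Set.range f)ᶜ σ).symm.toAlgHom).comp
        (IsScalarTower.toAlgHom R (MvPolynomial σ R)
          (MvPolynomial ↥(Set.range f)ᶜ (MvPolynomial σ R))) := by
    rw [← sumAlgEquiv_comp_rename_inr]
    ext i
    simp [he]
  rw [h1]
  have h2 : (IsScalarTower.toAlgHom R (MvPolynomial σ R)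
      (MvPolynomial ↥(Set.range f)ᶜ (MvPolynomial σ R))).toRingHom.Smooth := by
    show (algebraMap (MvPolynomial σ R)
      (MvPolynomial ↥(Set.range f)ᶜ (MvPolynomial σ R))).Smooth
    rw [RingHom.smooth_algebraMap]
    exact ⟨inferInstance, inferInstance⟩
  have h3 : ((renameEquiv R e).toAlgHom.comp
      (sumAlgEquiv R ↥(Set.range f)ᶜ σ).symm.toAlgHom).toRingHom.Smooth := by
    apply RingHom.Smooth.of_bijective
    exact ((sumAlgEquiv R ↥(Set.range f)ᶜ σ).symm.trans (renameEquiv R e)).bijective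
  exact RingHom.Smooth.comp h2 h3

end rename

variable (R : Type u) [CommRing R] (n m : ℕ)

/-- the product of the differences of the coordinates. -/
noncomputable def disc : MvPolynomial (Fin n × Fin (m + 1)) R :=
  ∏ k : Fin n, ∏ p ∈ (Finset.univ : Finset (Fin (m + 1))).offDiag, (X (k, p.1) - X (k, p.2))

lemma disc_def : disc R n m =
    ∏ k : Fin n, ∏ p ∈ (Finset.univ : Finset (Fin (m + 1))).offDiag,
      (X (k, p.1) - X (k, p.2) : MvPolynomial (Fin n × Fin (m + 1)) R) := rfl

lemma sub_dvd_disc (k : Fin n) (j j' : Fin (m + 1)) (hne : j ≠ j') :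
    (X (k, j) - X (k, j') : MvPolynomial (Fin n × Fin (m + 1)) R) ∣ disc R n m := by
  rw [disc_def]
  have h1 : (∏ p ∈ (Finset.univ : Finset (Fin (m + 1))).offDiag,
      (X (k, p.1) - X (k, p.2) : MvPolynomial (Fin n × Fin (m + 1)) R)) ∣
      ∏ k : Fin n, ∏ p ∈ (Finset.univ : Finset (Fin (m + 1))).offDiag,
        (X (k, p.1) - X (k, p.2) : MvPolynomial (Fin n × Fin (m + 1)) R) :=
    Finset.dvd_prod_of_mem (fun k' : Fin n => ∏ p ∈ (Finset.univ : Finset (Fin (m + 1))).offDiag,
      (X (k', p.1) - X (k', p.2) : MvPolynomial (Fin n × Fin (m + 1)) R)) (Finset.mem_univ k)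
  have h2 : (X (k, j) - X (k, j') : MvPolynomial (Fin n × Fin (m + 1)) R) ∣
      ∏ p ∈ (Finset.univ : Finset (Fin (m + 1))).offDiag,
        (X (k, p.1) - X (k, p.2) : MvPolynomial (Fin n × Fin (m + 1)) R) :=
    Finset.dvd_prod_of_mem (fun p : Fin (m + 1) × Fin (m + 1) =>
      (X (k, p.1) - X (k, p.2) : MvPolynomial (Fin n × Fin (m + 1)) R)) (a := (j, j'))
      (Finset.mem_offDiag.2 ⟨Finset.mem_univ j, Finset.mem_univ j', hne⟩)
  exact dvd_trans h2 h1

lemma eval₂_disc_ne_zero {K : Type u} [Field K] (g : R →+* K) (c : Fin (m + 1) → K)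
    (hc : Function.Injective c) :
    eval₂Hom g (fun p : Fin n × Fin (m + 1) => c p.2) (disc R n m) ≠ 0 := by
  rw [disc_def, map_prod]
  refine Finset.prod_ne_zero_iff.2 (fun k _ => ?_)
  rw [map_prod]
  refine Finset.prod_ne_zero_iff.2 (fun p hp => ?_)
  have hp' : p.1 ≠ p.2 := (Finset.mem_offDiag.1 hp).2.2
  simp only [map_sub, eval₂Hom_X']
  rw [sub_ne_zero]
  exact fun h => hp' (hc h)

attribute [irreducible] disc

/-- the coordinate ring of `n` configurations of `m + 1` distinct points of the line. -/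
abbrev Conf : Type u := Localization.Away (disc R n m)

/-- the projection to the `J`-th points. -/
noncomputable def phi (J : Fin n → Fin (m + 1)) : MvPolynomial (Fin n) R →ₐ[R] Conf R n m :=
  (IsScalarTower.toAlgHom R (MvPolynomial (Fin n × Fin (m + 1)) R) (Conf R n m)).comp
    (rename (fun k => (k, J k)))

lemma phi_X (J : Fin n → Fin (m + 1)) (k : Fin n) :
    phi R n m J (X k) = algebraMap (MvPolynomial (Fin n × Fin (m + 1)) R) (Conf R n m) (X (k, J k)) := by
  simp [phi]

theorem smooth_phi (J : Fin n → Fin (m + 1)) : (phi R n m J).toRingHom.Smooth := by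
  have h1 : (rename (fun k => (k, J k)) :
      MvPolynomial (Fin n) R →ₐ[R] MvPolynomial (Fin n × Fin (m + 1)) R).toRingHom.Smooth :=
    smooth_rename R _ (fun a b h => (Prod.ext_iff.1 h).1)
  have h2 : (algebraMap (MvPolynomial (Fin n × Fin (m + 1)) R) (Conf R n m)).Smooth :=
    RingHom.Smooth.holdsForLocalizationAway (Conf R n m) (disc R n m)
  exact RingHom.Smooth.comp h1 h2

theorem smooth_algebraMap_conf : (algebraMap R (Conf R n m)).Smooth := by
  have h1 : (algebraMap R (MvPolynomial (Fin n × Fin (m + 1)) R)).Smooth := by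
    rw [RingHom.smooth_algebraMap]
    exact ⟨inferInstance, inferInstance⟩
  have h2 : (algebraMap (MvPolynomial (Fin n × Fin (m + 1)) R) (Conf R n m)).Smooth :=
    RingHom.Smooth.holdsForLocalizationAway (Conf R n m) (disc R n m)
  rw [IsScalarTower.algebraMap_eq R (MvPolynomial (Fin n × Fin (m + 1)) R) (Conf R n m)]
  exact RingHom.Smooth.comp h1 h2

theorem comap_surjective :
    Function.Surjective (PrimeSpectrum.comap (algebraMap R (Conf R n m))) := by
  intro 𝔭
  let κ := 𝔭.asIdeal.ResidueField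
  let K := AlgebraicClosure κ
  let g : R →+* K := (algebraMap κ K).comp (algebraMap R κ)
  have hg : RingHom.ker g = 𝔭.asIdeal := by
    ext r
    simp only [RingHom.mem_ker, g, RingHom.comp_apply]
    rw [map_eq_zero_iff _ (algebraMap κ K).injective]
    rw [← RingHom.mem_ker, Ideal.ker_algebraMap_residueField]
  let emb : Fin (m + 1) ↪ K := Fin.valEmbedding.trans (Infinite.natEmbedding K)
  let ev : MvPolynomial (Fin n × Fin (m + 1)) R →+* K := eval₂Hom g (fun p => emb p.2)
  have hev : IsUnit (ev (disc R n m)) := by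
    rw [isUnit_iff_ne_zero]
    exact eval₂_disc_ne_zero R n m g emb emb.injective
  let β : Conf R n m →+* K := IsLocalization.Away.lift (disc R n m) hev
  have hβ : β.comp (algebraMap R (Conf R n m)) = g := by
    ext r
    simp only [RingHom.comp_apply]
    rw [IsScalarTower.algebraMap_apply R (MvPolynomial (Fin n × Fin (m + 1)) R) (Conf R n m)]
    simp only [β, IsLocalization.Away.lift_eq]
    simp [ev]
  refine ⟨PrimeSpectrum.comap β ⟨⊥, Ideal.isPrime_bot⟩, ?_⟩
  apply PrimeSpectrum.ext
  rw [← PrimeSpectrum.comap_comp_apply, hβ]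
  simp only [PrimeSpectrum.comap_asIdeal]
  exact hg

theorem exists_eval_ne_zero {B : Type u} [CommRing B] {K : Type u} [Field K] (ξ : B →+* K)
    (β : Conf R n m →+* K) (h : MvPolynomial (Fin n) B) (hdeg : ∀ k, h.degreeOf k ≤ m)
    (hc : ∃ d, IsUnit (h.coeff d)) :
    ∃ J : Fin n → Fin (m + 1),
      eval (fun k => β (algebraMap (MvPolynomial (Fin n × Fin (m + 1)) R) (Conf R n m) (X (k, J k)))) (map ξ h) ≠ 0 := by
  haveI : DecidableEq K := Classical.decEq K
  by_contra hcon
  push Not at hcon
  have hinj : ∀ k, Function.Injective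
      (fun j : Fin (m + 1) => β (algebraMap (MvPolynomial (Fin n × Fin (m + 1)) R) (Conf R n m) (X (k, j)))) := by
    intro k j j' hjj
    by_contra hne
    have hdvd : (X (k, j) - X (k, j') : MvPolynomial (Fin n × Fin (m + 1)) R) ∣ disc R n m :=
      sub_dvd_disc R n m k j j' hne
    have hu : IsUnit (algebraMap (MvPolynomial (Fin n × Fin (m + 1)) R) (Conf R n m) (disc R n m)) :=
      IsLocalization.Away.algebraMap_isUnit _
    have hu2 : IsUnit (β (algebraMap (MvPolynomial (Fin n × Fin (m + 1)) R) (Conf R n m)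
        (X (k, j) - X (k, j') : MvPolynomial (Fin n × Fin (m + 1)) R))) :=
      (isUnit_of_dvd_unit ((map_dvd (algebraMap (MvPolynomial (Fin n × Fin (m + 1)) R) (Conf R n m)) hdvd)) hu).map β
    apply hu2.ne_zero
    simp only [map_sub]
    exact sub_eq_zero.2 hjj
  have hne : map ξ h ≠ 0 := by
    obtain ⟨d, hd⟩ := hc
    intro h0
    have : coeff d (map ξ h) = ξ (coeff d h) := coeff_map ξ h d
    rw [h0, coeff_zero] at this
    exact (hd.map ξ).ne_zero this.symm
  apply hne
  refine MvPolynomial.eq_zero_of_eval_zero_at_prod_finset (map ξ h)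
    (fun k => Finset.univ.image (fun j : Fin (m + 1) => β (algebraMap (MvPolynomial (Fin n × Fin (m + 1)) R) (Conf R n m) (X (k, j)))))
    (fun k => ?_) (fun x hx => ?_)
  · rw [Finset.card_image_of_injective _ (hinj k), Finset.card_univ, Fintype.card_fin]
    have : (map ξ h).degreeOf k ≤ h.degreeOf k := by
      rw [degreeOf_def, degreeOf_def]
      exact Multiset.count_le_of_le _ degrees_map_le
    have := hdeg k
    omega
  · have hx' : ∀ k, ∃ j : Fin (m + 1), β (algebraMap (MvPolynomial (Fin n × Fin (m + 1)) R) (Conf R n m) (X (k, j))) = x k := by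
      intro k
      obtain ⟨j, -, hj⟩ := Finset.mem_image.1 (hx k)
      exact ⟨j, hj⟩
    choose J hJ using hx'
    have := hcon J
    rwa [show (fun k => β (algebraMap (MvPolynomial (Fin n × Fin (m + 1)) R) (Conf R n m) (X (k, J k)))) = x from funext hJ] at this

end Groth.Agent.Lib.H5bEsl
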