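import Mathlib
import Groth.Agent.Lib.H5bEslF
import Groth.Agent.Lib.H5bEslG

set_option autoImplicit false
universe u
open CategoryTheory CategoryTheory.Limits AlgebraicGeometry Opposite
open AlgSp

namespace Groth.Agent.Lib.H5bEsl

variable {S : Scheme.{u}} {P : MorphismProperty (AlgSp.Sp S)}

open Groth.Agent.Lib.Helper12.SmoothST Groth.Agent.Lib.Helper12.EtSmST
open Groth.Agent.Lib.Helper12.LargestOpen
open Groth.Agent.S13210

/-- a scheme-level pullback square of schemes over `S` gives a pullback of representable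
sheaves. -/
theorem isPullback_yon_of_left' {A B C D : Over S} (f : A ⟶ B) (g : A ⟶ C) (h : B ⟶ D)
    (k : C ⟶ D) (w : f ≫ h = g ≫ k) (sq : IsPullback f.left g.left h.left k.left) :
    IsPullback ((yon S).map f) ((yon S).map g) ((yon S).map h) ((yon S).map k) := by
  have : IsPullback f g h k := IsPullback.of_map (Over.forget S) w sq
  exact this.map (yon S)

lemma locP_smooth_yon_map {A B : Over S} (m : A ⟶ B) (hm : Smooth m.left) :
    AlgSp.LocP @Smooth ((AlgSp.yon S).map m) :=
  Groth.Agent.Lib.Helper12.LocPGen.locP_yon_map_of @Smooth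
    (fun g hg => by haveI := hg; infer_instance) (fun u k hk h => smooth_hcancel u k hk h) m hm

lemma surjective_map_yon_map {A B : Over S} (m : A ⟶ B) (hm : Function.Surjective m.left) :
    Function.Surjective (AlgSp.Points.map ((AlgSp.yon S).map m)) := by
  rw [AlgSp.Points.map_yon_map_eq]
  exact (AlgSp.Points.schemeHomeo B).surjective.comp
    (hm.comp (AlgSp.Points.schemeHomeo A).symm.surjective)

section spec

variable (R : CommRingCat.{u}) (s : Spec R ⟶ S)

/-- the spectrum of an `R`-algebra, over `S` through `s : Spec R ⟶ S`. -/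
noncomputable def specOver (A : Type u) [CommRing A] [Algebra R A] : Over S :=
  Over.mk (Spec.map (CommRingCat.ofHom (algebraMap R A)) ≫ s)

/-- the structure morphism to `Spec R`. -/
noncomputable def specHom (A : Type u) [CommRing A] [Algebra R A] :
    specOver R s A ⟶ Over.mk s :=
  Over.homMk (Spec.map (CommRingCat.ofHom (algebraMap R A))) rfl

variable {R}

/-- the morphism of spectra induced by a homomorphism of `R`-algebras. -/
noncomputable def specMap {A A' : Type u} [CommRing A] [CommRing A'] [Algebra R A] [Algebra R A']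
    (ψ : A →ₐ[R] A') : specOver R s A' ⟶ specOver R s A :=
  Over.homMk (Spec.map (CommRingCat.ofHom ψ.toRingHom)) (by
    show Spec.map (CommRingCat.ofHom ψ.toRingHom) ≫
      (Spec.map (CommRingCat.ofHom (algebraMap R A)) ≫ s) =
      Spec.map (CommRingCat.ofHom (algebraMap R A')) ≫ s
    rw [← Category.assoc, ← Spec.map_comp, ← CommRingCat.ofHom_comp]
    congr 3
    exact ψ.comp_algebraMap)

lemma specMap_left {A A' : Type u} [CommRing A] [CommRing A'] [Algebra R A] [Algebra R A']
    (ψ : A →ₐ[R] A') : (specMap s ψ).left = Spec.map (CommRingCat.ofHom ψ.toRingHom) := rfl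

lemma specMap_comp_specHom {A A' : Type u} [CommRing A] [CommRing A'] [Algebra R A]
    [Algebra R A'] (ψ : A →ₐ[R] A') : specMap s ψ ≫ specHom R s A = specHom R s A' := by
  apply Over.OverMorphism.ext
  show Spec.map (CommRingCat.ofHom ψ.toRingHom) ≫ Spec.map (CommRingCat.ofHom (algebraMap R A)) =
    Spec.map (CommRingCat.ofHom (algebraMap R A'))
  rw [← Spec.map_comp, ← CommRingCat.ofHom_comp]
  congr 2
  exact ψ.comp_algebraMap

lemma specMap_comp {A A' A'' : Type u} [CommRing A] [CommRing A'] [CommRing A''] [Algebra R A]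
    [Algebra R A'] [Algebra R A''] (ψ : A →ₐ[R] A') (ψ' : A' →ₐ[R] A'') :
    specMap s ψ' ≫ specMap s ψ = specMap s (ψ'.comp ψ) := by
  apply Over.OverMorphism.ext
  show Spec.map (CommRingCat.ofHom ψ'.toRingHom) ≫ Spec.map (CommRingCat.ofHom ψ.toRingHom) =
    Spec.map (CommRingCat.ofHom (ψ'.comp ψ).toRingHom)
  rw [← Spec.map_comp, ← CommRingCat.ofHom_comp]
  rfl

/-- a field-valued point of the spectrum of an `R`-algebra. -/
noncomputable def kpt {A : Type u} [CommRing A] [Algebra R A] {K : Type u} [Field K]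
    (str : Spec (CommRingCat.of K) ⟶ S) (a : A →+* K)
    (ha : Spec.map (CommRingCat.ofHom (a.comp (algebraMap R A))) ≫ s = str) :
    Over.mk str ⟶ specOver R s A :=
  Over.homMk (Spec.map (CommRingCat.ofHom a)) (by
    show Spec.map (CommRingCat.ofHom a) ≫ (Spec.map (CommRingCat.ofHom (algebraMap R A)) ≫ s) = str
    rw [← Category.assoc, ← Spec.map_comp, ← CommRingCat.ofHom_comp]
    exact ha)

/-- the ring map of a field-valued point. -/
noncomputable def kmap {A : Type u} [CommRing A] [Algebra R A] {K : Type u} [Field K]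
    {str : Spec (CommRingCat.of K) ⟶ S} (t : Over.mk str ⟶ specOver R s A) : A →+* K :=
  (Spec.preimage t.left).hom

lemma spec_kmap {A : Type u} [CommRing A] [Algebra R A] {K : Type u} [Field K]
    {str : Spec (CommRingCat.of K) ⟶ S} (t : Over.mk str ⟶ specOver R s A) :
    Spec.map (CommRingCat.ofHom (kmap s t)) = t.left := Spec.map_preimage _

lemma kmap_str {A : Type u} [CommRing A] [Algebra R A] {K : Type u} [Field K]
    {str : Spec (CommRingCat.of K) ⟶ S} (t : Over.mk str ⟶ specOver R s A) :
    Spec.map (CommRingCat.ofHom ((kmap s t).comp (algebraMap R A))) ≫ s = str := by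
  rw [CommRingCat.ofHom_comp, Spec.map_comp, spec_kmap, Category.assoc]
  exact Over.w t

lemma kmap_comp_specMap {A A' : Type u} [CommRing A] [CommRing A'] [Algebra R A] [Algebra R A']
    {K : Type u} [Field K] {str : Spec (CommRingCat.of K) ⟶ S}
    (t : Over.mk str ⟶ specOver R s A') (ψ : A →ₐ[R] A') :
    kmap s (t ≫ specMap s ψ) = (kmap s t).comp ψ.toRingHom := by
  have h : Spec.map (CommRingCat.ofHom (kmap s (t ≫ specMap s ψ))) =
      Spec.map (CommRingCat.ofHom ((kmap s t).comp ψ.toRingHom)) := by
    rw [spec_kmap, CommRingCat.ofHom_comp, Spec.map_comp, spec_kmap]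
    rfl
  exact congrArg CommRingCat.Hom.hom (Spec.map_injective h)

lemma kpt_ext {A : Type u} [CommRing A] [Algebra R A] {K : Type u} [Field K]
    {str : Spec (CommRingCat.of K) ⟶ S} (t t' : Over.mk str ⟶ specOver R s A)
    (h : kmap s t = kmap s t') : t = t' := by
  apply Over.OverMorphism.ext
  rw [← spec_kmap, ← spec_kmap, h]

lemma kmap_kpt {A : Type u} [CommRing A] [Algebra R A] {K : Type u} [Field K]
    (str : Spec (CommRingCat.of K) ⟶ S) (a : A →+* K)
    (ha : Spec.map (CommRingCat.ofHom (a.comp (algebraMap R A))) ≫ s = str) :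
    kmap s (kpt s str a ha) = a := by
  have h : Spec.map (CommRingCat.ofHom (kmap s (kpt s str a ha))) =
      Spec.map (CommRingCat.ofHom a) := by
    rw [spec_kmap]
    rfl
  exact congrArg CommRingCat.Hom.hom (Spec.map_injective h)

end spec

end Groth.Agent.Lib.H5bEsl
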