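import Mathlib
import Groth.Agent.Lib.H5bEslH

set_option autoImplicit false
universe u
open CategoryTheory CategoryTheory.Limits AlgebraicGeometry Opposite
open AlgSp

namespace Groth.Agent.Lib.H5bEsl

variable {S : Scheme.{u}} {P : MorphismProperty (AlgSp.Sp S)}

open Groth.Agent.Lib.Helper12.SmoothST Groth.Agent.Lib.Helper12.EtSmST
open Groth.Agent.Lib.Helper12.LargestOpen
open Groth.Agent.S13210

attribute [local instance] MvPolynomial.algebraMvPolynomial

section An

variable (R : CommRingCat.{u}) (s : Spec R ⟶ S) (B : Type u) [CommRing B] [Algebra R B] (n : ℕ)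

/-- `A^n_B ⟶ Spec B`. -/
noncomputable def pAn : specOver R s (MvPolynomial (Fin n) B) ⟶ specOver R s B :=
  specMap s (IsScalarTower.toAlgHom R B (MvPolynomial (Fin n) B))

/-- `A^n_B ⟶ A^n_R`. -/
noncomputable def qAn : specOver R s (MvPolynomial (Fin n) B) ⟶
    specOver R s (MvPolynomial (Fin n) R) :=
  specMap s (MvPolynomial.mapAlgHom (Algebra.ofId R B))

/-- `A^n_B = Spec B ×_{Spec R} A^n_R`. -/
theorem isPullback_An :
    IsPullback ((yon S).map (pAn R s B n)) ((yon S).map (qAn R s B n))
      ((yon S).map (specHom R s B)) ((yon S).map (specHom R s (MvPolynomial (Fin n) R))) := by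
  apply isPullback_yon_of_left'
  · rw [pAn, qAn, specMap_comp_specHom, specMap_comp_specHom]
  · have := CommRingCat.isPushout_of_isPushout R B (MvPolynomial (Fin n) R)
      (MvPolynomial (Fin n) B)
    exact isPullback_SpecMap_of_isPushout _ _ _ _ this

end An

section trick

variable (R : CommRingCat.{u}) (s : Spec R ⟶ S) (B : Type u) [CommRing B] [Algebra R B] (n m : ℕ)
  (h : MvPolynomial (Fin n) B)

/-- the composite `MvPolynomial (Fin n) R → MvPolynomial (Fin n) B → (MvPolynomial (Fin n) B)_h`. -/
noncomputable def psih : MvPolynomial (Fin n) R →ₐ[R] Localization.Away h :=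
  (IsScalarTower.toAlgHom R (MvPolynomial (Fin n) B) (Localization.Away h)).comp
    (MvPolynomial.mapAlgHom (Algebra.ofId R B))

lemma psih_eq : specMap s (psih R B n h) =
    specMap s (IsScalarTower.toAlgHom R (MvPolynomial (Fin n) B) (Localization.Away h)) ≫
      qAn R s B n := by
  rw [qAn, specMap_comp]
  rfl

lemma smooth_specMap_phi (J : Fin n → Fin (m + 1)) :
    Smooth (specMap s (phi R n m J)).left := by
  show Smooth (Spec.map (CommRingCat.ofHom (phi R n m J).toRingHom))
  rw [HasRingHomProperty.Spec_iff (P := @Smooth)]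
  exact smooth_phi R n m J

lemma smooth_specHom_conf : Smooth (specHom R s (Conf R n m)).left := by
  show Smooth (Spec.map (CommRingCat.ofHom (algebraMap R (Conf R n m))))
  rw [HasRingHomProperty.Spec_iff (P := @Smooth)]
  exact smooth_algebraMap_conf R n m

lemma surjective_specHom_conf : Function.Surjective (specHom R s (Conf R n m)).left :=
  comap_surjective R n m

/-- the `A^n`-trick: a property `P` which holds for `D(h) ⟶ A^n_R`, with `h` a polynomial over `B`
with a unit coefficient, holds for `Spec B ⟶ Spec R`. -/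
theorem An_trick (hP : Hyp P) (hdeg : ∀ k, h.degreeOf k ≤ m) (hc : ∃ d, IsUnit (h.coeff d))
    (hPh : P ((yon S).map (specMap s (psih R B n h)))) :
    P ((yon S).map (specHom R s B)) := by
  have hYa : AlgSp.IsAlgSpace ((yon S).obj (Over.mk s)) := AlgSp.IsAlgSpace.yon_obj _
  have hXa : AlgSp.IsAlgSpace ((yon S).obj (specOver R s B)) := AlgSp.IsAlgSpace.yon_obj _
  have hCa : AlgSp.IsAlgSpace ((yon S).obj (specOver R s (Conf R n m))) :=
    AlgSp.IsAlgSpace.yon_obj _
  have hAYa : AlgSp.IsAlgSpace ((yon S).obj (specOver R s (MvPolynomial (Fin n) R))) :=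
    AlgSp.IsAlgSpace.yon_obj _
  have hOa : AlgSp.IsAlgSpace ((yon S).obj (specOver R s (Localization.Away h))) :=
    AlgSp.IsAlgSpace.yon_obj _
  have sqW := isPullback_An R s B n
  -- the base change to the configuration space
  obtain ⟨XB, pXB, pB, sqXB⟩ : ∃ (XB : AlgSp.Sp S) (pXB : XB ⟶ (yon S).obj (specOver R s B))
      (pB : XB ⟶ (yon S).obj (specOver R s (Conf R n m))),
      IsPullback pXB pB ((yon S).map (specHom R s B)) ((yon S).map (specHom R s (Conf R n m))) :=
    ⟨_, _, _, IsPullback.of_hasPullback _ _⟩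
  have hXBa : AlgSp.IsAlgSpace XB :=
    Groth.Agent.S9874.isAlgSpace_of_isPullback hYa.diag hXa hCa sqXB
  refine hP.of_smooth_surj hXa hYa hXBa hCa _ _ pB pXB sqXB
    (locP_smooth_yon_map _ (smooth_specHom_conf R s n m))
    (surjective_map_yon_map _ (surjective_specHom_conf R s n m)) ?_
  -- the maps to `A^n_B`
  have hφπ : ∀ J : Fin n → Fin (m + 1), (yon S).map (specMap s (phi R n m J)) ≫
      (yon S).map (specHom R s (MvPolynomial (Fin n) R)) =
      (yon S).map (specHom R s (Conf R n m)) := fun J => by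
    rw [← Functor.map_comp, specMap_comp_specHom]
  have hwex : ∀ J : Fin n → Fin (m + 1),
      ∃ w : XB ⟶ (yon S).obj (specOver R s (MvPolynomial (Fin n) B)),
        w ≫ (yon S).map (pAn R s B n) = pXB ∧
        w ≫ (yon S).map (qAn R s B n) = pB ≫ (yon S).map (specMap s (phi R n m J)) := fun J =>
    ⟨sqW.lift pXB (pB ≫ (yon S).map (specMap s (phi R n m J)))
      (by rw [Category.assoc, hφπ J]; exact sqXB.w), sqW.lift_fst _ _ _, sqW.lift_snd _ _ _⟩
  choose w hw1 hw2 using hwex
  have sqR : ∀ J, IsPullback (w J) pB ((yon S).map (qAn R s B n))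
      ((yon S).map (specMap s (phi R n m J))) := fun J => by
    refine IsPullback.of_right ?_ (hw2 J) sqW
    rw [hw1 J, hφπ J]
    exact sqXB
  -- the opens
  have hOex : ∀ J : Fin n → Fin (m + 1), ∃ (O : AlgSp.Sp S)
      (a : O ⟶ (yon S).obj (specOver R s (Localization.Away h)))
      (c : O ⟶ (yon S).obj (specOver R s (Conf R n m))),
      IsPullback a c ((yon S).map (specMap s (psih R B n h)))
        ((yon S).map (specMap s (phi R n m J))) := fun J =>
    ⟨_, _, _, IsPullback.of_hasPullback _ _⟩
  choose O a c sqO using hOex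
  have hOJa : ∀ J, AlgSp.IsAlgSpace (O J) := fun J =>
    Groth.Agent.S9874.isAlgSpace_of_isPullback hAYa.diag hOa hCa (sqO J)
  have hPc : ∀ J, P (c J) := fun J =>
    hP.baseChange hOa hAYa (hOJa J) hCa _ _ (c J) (a J) (sqO J)
      (locP_smooth_yon_map _ (smooth_specMap_phi R s n m J)) hPh
  set ιh := specMap s (IsScalarTower.toAlgHom R (MvPolynomial (Fin n) B) (Localization.Away h))
    with hιh
  have hιq : (yon S).map ιh ≫ (yon S).map (qAn R s B n) =
      (yon S).map (specMap s (psih R B n h)) := by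
    rw [← Functor.map_comp, psih_eq]
  have heex : ∀ J : Fin n → Fin (m + 1), ∃ e : O J ⟶ XB,
      e ≫ w J = a J ≫ (yon S).map ιh ∧ e ≫ pB = c J := fun J =>
    ⟨(sqR J).lift (a J ≫ (yon S).map ιh) (c J)
      (by rw [Category.assoc, hιq]; exact (sqO J).w), (sqR J).lift_fst _ _ _,
      (sqR J).lift_snd _ _ _⟩
  choose e he1 he2 using heex
  have sqE : ∀ J, IsPullback (e J) (a J) (w J) ((yon S).map ιh) := fun J => by
    refine IsPullback.of_right ?_ (he1 J) (sqR J).flip
    rw [he2 J, hιq]
    exact (sqO J).flip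
  have hιo : AlgSp.RepWith @IsOpenImmersion ((yon S).map ιh) := by
    rw [AlgSp.repWith_yon_map_iff]
    show IsOpenImmersion (Spec.map (CommRingCat.ofHom
      (algebraMap (MvPolynomial (Fin n) B) (Localization.Away h))))
    infer_instance
  have heo : ∀ J, AlgSp.RepWith @IsOpenImmersion (e J) := fun J =>
    MorphismProperty.of_isPullback (P := AlgSp.RepWith @IsOpenImmersion) (sqE J).flip hιo
  -- apply étale locality on the source
  have key := hP.h1 (ι := ULift.{u} (Fin n → Fin (m + 1))) (X := XB) (fun J => O J.down)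
    (fun J => e J.down) hXBa (fun J => hOJa J.down)
    ⟨fun J => covProp_etale.of_open (hOJa J.down) hXBa _ (heo J.down), fun x => ?_⟩ pB hCa
  · refine key.2 (fun J => ?_)
    rw [he2]
    exact hPc J.down
  -- joint surjectivity
  induction x using AlgSp.Points.ind with | h pt => ?_
  obtain ⟨K, str, val⟩ := pt
  obtain ⟨τ, hτ⟩ : ∃ τ : (AlgSp.yon S).obj (Over.mk str) ⟶ XB,
      τ = (yEquiv (Over.mk str) XB).symm val := ⟨_, rfl⟩
  obtain ⟨ξ', hξ'⟩ := (AlgSp.yon S).map_surjective (τ ≫ pXB)
  obtain ⟨β', hβ'⟩ := (AlgSp.yon S).map_surjective (τ ≫ pB)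
  have hcompat : ξ' ≫ specHom R s B = β' ≫ specHom R s (Conf R n m) := by
    apply (AlgSp.yon S).map_injective
    rw [Functor.map_comp, Functor.map_comp, hξ', hβ', Category.assoc, Category.assoc, sqXB.w]
  have hcompat' : (kmap s ξ').comp (algebraMap R B) =
      (kmap s β').comp (algebraMap R (Conf R n m)) := by
    have h1 : Spec.map (CommRingCat.ofHom ((kmap s ξ').comp (algebraMap R B))) =
        Spec.map (CommRingCat.ofHom ((kmap s β').comp (algebraMap R (Conf R n m)))) := by
      rw [CommRingCat.ofHom_comp, CommRingCat.ofHom_comp, Spec.map_comp, Spec.map_comp, spec_kmap,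
        spec_kmap]
      exact congrArg (fun m => m.left) hcompat
    exact congrArg CommRingCat.Hom.hom (Spec.map_injective h1)
  obtain ⟨J, hJ⟩ := exists_eval_ne_zero R n m (kmap s ξ') (kmap s β') h hdeg hc
  -- the field point of `D(h)`
  let θ : MvPolynomial (Fin n) B →+* K :=
    MvPolynomial.eval₂Hom (kmap s ξ') (fun k => kmap s β' (phi R n m J (MvPolynomial.X k)))
  have hθh : IsUnit (θ h) := by
    rw [isUnit_iff_ne_zero]
    show MvPolynomial.eval₂ (kmap s ξ') _ h ≠ 0
    rw [MvPolynomial.eval₂_eq_eval_map]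
    simp only [phi_X]
    exact hJ
  let θ' : Localization.Away h →+* K := IsLocalization.Away.lift h hθh
  have hθ'1 : θ'.comp (algebraMap (MvPolynomial (Fin n) B) (Localization.Away h)) = θ :=
    IsLocalization.Away.lift_comp h hθh
  have hθC : θ.comp (algebraMap B (MvPolynomial (Fin n) B)) = kmap s ξ' := by
    ext b
    simp [θ]
  have hθR : (θ'.comp (algebraMap R (Localization.Away h))) =
      (kmap s ξ').comp (algebraMap R B) := by
    rw [IsScalarTower.algebraMap_eq R (MvPolynomial (Fin n) B) (Localization.Away h),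
      ← RingHom.comp_assoc, hθ'1, IsScalarTower.algebraMap_eq R B (MvPolynomial (Fin n) B),
      ← RingHom.comp_assoc, hθC]
  let o' : Over.mk str ⟶ specOver R s (Localization.Away h) :=
    kpt s str θ' (by rw [hθR]; exact kmap_str s ξ')
  have ho'1 : o' ≫ ιh ≫ pAn R s B n = ξ' := by
    apply kpt_ext s
    rw [← Category.assoc, pAn, kmap_comp_specMap, hιh, kmap_comp_specMap, kmap_kpt]
    show (θ'.comp (algebraMap (MvPolynomial (Fin n) B) (Localization.Away h))).comp
      (algebraMap B (MvPolynomial (Fin n) B)) = _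
    rw [hθ'1, hθC]
  have ho'2 : o' ≫ specMap s (psih R B n h) = β' ≫ specMap s (phi R n m J) := by
    apply kpt_ext s
    rw [kmap_comp_specMap, kmap_comp_specMap, kmap_kpt]
    apply MvPolynomial.ringHom_ext
    · intro r
      show θ' (algebraMap (MvPolynomial (Fin n) B) (Localization.Away h)
        (MvPolynomial.map (algebraMap R B) (MvPolynomial.C r))) =
        kmap s β' (phi R n m J (MvPolynomial.C r))
      rw [MvPolynomial.map_C, ← RingHom.comp_apply, hθ'1]
      have h2 : phi R n m J (MvPolynomial.C r) = algebraMap R (Conf R n m) r :=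
        (phi R n m J).commutes r
      rw [h2]
      have h3 := congrArg (fun f => f r) hcompat'
      simp only [RingHom.comp_apply] at h3
      rw [← h3]
      simp [θ]
    · intro k
      show θ' (algebraMap (MvPolynomial (Fin n) B) (Localization.Away h)
        (MvPolynomial.map (algebraMap R B) (MvPolynomial.X k))) =
        kmap s β' (phi R n m J (MvPolynomial.X k))
      rw [MvPolynomial.map_X, ← RingHom.comp_apply, hθ'1]
      simp [θ]
  have hlift : (yon S).map o' ≫ (yon S).map (specMap s (psih R B n h)) =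
      (τ ≫ pB) ≫ (yon S).map (specMap s (phi R n m J)) := by
    rw [← Functor.map_comp, ho'2, Functor.map_comp, hβ']
  refine ⟨⟨J⟩, ?_⟩
  refine mem_range_map_of_lift (e J) str val ((sqO J).lift ((yon S).map o') (τ ≫ pB) hlift) ?_
  rw [← hτ]
  apply sqXB.hom_ext
  · have e_pXB : e J ≫ pXB = a J ≫ (yon S).map ιh ≫ (yon S).map (pAn R s B n) := by
      rw [← hw1 J, ← Category.assoc, he1 J, Category.assoc]
    rw [Category.assoc, e_pXB, ← Category.assoc, (sqO J).lift_fst, ← Functor.map_comp,
      ← Functor.map_comp, ho'1, hξ']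
  · rw [Category.assoc, he2 J, (sqO J).lift_snd]

end trick

end Groth.Agent.Lib.H5bEsl
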