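import Mathlib
import Groth.Agent.Lib.H5bEslI
import Groth.Agent.S10177
import Groth.Agent.S10211

set_option autoImplicit false
universe u
open CategoryTheory CategoryTheory.Limits AlgebraicGeometry Opposite
open AlgSp

namespace Groth.Agent.Lib.H5bEsl

variable {S : Scheme.{u}} {P : MorphismProperty (AlgSp.Sp S)}

open Groth.Agent.Lib.Helper12.SmoothST Groth.Agent.Lib.Helper12.EtSmST
open Groth.Agent.Lib.Helper12.LargestOpen
open Groth.Agent.S13210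

/-- an affine étale chart of an algebraic space at a point. -/
theorem exists_affine_chart_at {X : AlgSp.Sp S} (hX : AlgSp.IsAlgSpace X) (x : AlgSp.Points X) :
    ∃ (R : CommRingCat.{u}) (s : Spec R ⟶ S) (α : (AlgSp.yon S).obj (Over.mk s) ⟶ X),
      AlgSp.IsEtaleMor α ∧ x ∈ Set.range (AlgSp.Points.map α) := by
  obtain ⟨T, t, hte, hts⟩ := hX.atlas
  obtain ⟨w, hw⟩ := Groth.Agent.S10177.surjective_ofPt t hts x
  obtain ⟨U, hU, hwU⟩ : ∃ U : T.left.Opens, IsAffineOpen U ∧ w ∈ U := by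
    obtain ⟨_, ⟨U, hU, rfl⟩, hx, -⟩ :=
      T.left.isBasis_affineOpens.exists_subset_of_mem_open (Set.mem_univ w) isOpen_univ
    exact ⟨U, hU, hx⟩
  let jo : Over.mk (hU.fromSpec ≫ T.hom) ⟶ T := Over.homMk hU.fromSpec rfl
  refine ⟨Γ(T.left, U), hU.fromSpec ≫ T.hom, (AlgSp.yon S).map jo ≫ t, ?_, ?_⟩
  · refine isEtaleMor_comp _ _ ((AlgSp.isEtaleMor_yon_map_iff jo).2 ?_)
      (fun _ _ hφ => (AlgSp.repWith_isMultiplicative (S := S) @Etale).comp_mem _ _ hφ hte)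
    show Etale hU.fromSpec
    infer_instance
  · have h1 : hU.fromSpec (hU.primeIdealOf ⟨w, hwU⟩) = w := hU.fromSpec_primeIdealOf ⟨w, hwU⟩
    refine ⟨AlgSp.Points.schemeHomeo _ (hU.primeIdealOf ⟨w, hwU⟩), ?_⟩
    rw [AlgSp.Points.map_comp, AlgSp.Points.map_yon_map_apply]
    show AlgSp.Points.map t (AlgSp.Points.schemeHomeo T (hU.fromSpec _)) = x
    rw [h1, ← hw]
    exact (AlgSp.Points.ofPt_eq_map_ofScheme t w).symm

/-- an affine étale chart at a point of an algebraic space over an affine scheme, in normal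
form. -/
theorem exists_rel_affine_chart_at {X : AlgSp.Sp S} (hX : AlgSp.IsAlgSpace X)
    {R : CommRingCat.{u}} (s : Spec R ⟶ S) (f : X ⟶ (AlgSp.yon S).obj (Over.mk s))
    (x : AlgSp.Points X) :
    ∃ (B : Type u) (_ : CommRing B) (_ : Algebra R B)
      (α : (AlgSp.yon S).obj (specOver R s B) ⟶ X),
      AlgSp.IsEtaleMor α ∧ x ∈ Set.range (AlgSp.Points.map α) ∧
        α ≫ f = (AlgSp.yon S).map (specHom R s B) := by
  obtain ⟨R', s', α', hα', z, hz⟩ := exists_affine_chart_at hX x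
  obtain ⟨m, hm⟩ := (AlgSp.yon S).map_surjective (α' ≫ f)
  let φ : R ⟶ R' := Spec.preimage m.left
  have hφ : Spec.map φ = m.left := Spec.map_preimage _
  letI : Algebra R R' := φ.hom.toAlgebra
  have hs' : Spec.map (CommRingCat.ofHom (algebraMap R R')) ≫ s = s' := by
    show Spec.map φ ≫ s = s'
    rw [hφ]
    exact Over.w m
  let ι : specOver R s R' ⟶ Over.mk s' := Over.homMk (𝟙 (Spec R')) (by
    show 𝟙 (Spec R') ≫ s' = Spec.map (CommRingCat.ofHom (algebraMap R R')) ≫ s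
    rw [Category.id_comp, hs'])
  refine ⟨R', inferInstance, inferInstance, (AlgSp.yon S).map ι ≫ α', ?_, ?_, ?_⟩
  · refine isEtaleMor_comp _ _ ((AlgSp.isEtaleMor_yon_map_iff ι).2 ?_) hα'
    show Etale (𝟙 (Spec R'))
    infer_instance
  · obtain ⟨z0, rfl⟩ := (AlgSp.Points.schemeHomeo (Over.mk s')).surjective z
    refine ⟨AlgSp.Points.schemeHomeo (specOver R s R') z0, ?_⟩
    rw [AlgSp.Points.map_comp, AlgSp.Points.map_yon_map_apply]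
    exact hz
  · rw [Category.assoc, ← hm, ← Functor.map_comp]
    congr 1
    apply Over.OverMorphism.ext
    show 𝟙 (Spec R') ≫ m.left = Spec.map (CommRingCat.ofHom (algebraMap R R'))
    rw [Category.id_comp, ← hφ]
    rfl

/-- the local datum of `IsEtaleSmoothLocalST.locality` at a point, for a fixed smooth
`b : V ⟶ Y` and a fixed point of `V`. -/
def LocAt (P : MorphismProperty (AlgSp.Sp S)) {X Y V : AlgSp.Sp S} (f : X ⟶ Y)
    (x : AlgSp.Points X) (b : V ⟶ Y) (v' : AlgSp.Points V) : Prop :=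
  ∃ (W U : AlgSp.Sp S) (p : W ⟶ X) (q : W ⟶ V) (e : U ⟶ W) (v : AlgSp.Points U),
    AlgSp.IsAlgSpace W ∧ AlgSp.IsAlgSpace U ∧ IsPullback p q f b ∧ AlgSp.IsEtaleMor e ∧
    AlgSp.Points.map (e ≫ p) v = x ∧ AlgSp.Points.map (e ≫ q) v = v' ∧ P (e ≫ q)

/-- the local datum of `IsEtaleSmoothLocalST.locality` at a point. -/
def Loc (P : MorphismProperty (AlgSp.Sp S)) {X Y : AlgSp.Sp S} (f : X ⟶ Y)
    (x : AlgSp.Points X) : Prop :=
  ∃ (V : AlgSp.Sp S) (b : V ⟶ Y) (v' : AlgSp.Points V), AlgSp.IsAlgSpace V ∧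
    AlgSp.LocP @Smooth b ∧ LocAt P f x b v'

/-- the conclusion at a point: an étale neighbourhood on which `P` holds. -/
def Good (P : MorphismProperty (AlgSp.Sp S)) {X Y : AlgSp.Sp S} (f : X ⟶ Y)
    (x : AlgSp.Points X) : Prop :=
  ∃ (X' : AlgSp.Sp S) (a : X' ⟶ X), AlgSp.IsAlgSpace X' ∧ AlgSp.IsEtaleMor a ∧
    x ∈ Set.range (AlgSp.Points.map a) ∧ P (a ≫ f)

/-- transfer of the local datum along an étale morphism to the source. -/
theorem Loc.precomp (hP : Hyp P) {X2 X Y : AlgSp.Sp S} (hX2 : AlgSp.IsAlgSpace X2)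
    (hX : AlgSp.IsAlgSpace X) (hY : AlgSp.IsAlgSpace Y) (α : X2 ⟶ X) (hα : AlgSp.IsEtaleMor α)
    (f : X ⟶ Y) (x2 : AlgSp.Points X2) (h : Loc P f (AlgSp.Points.map α x2)) :
    Loc P (α ≫ f) x2 := by
  obtain ⟨V, b, v', hV, hb, W, U, p, q, e, v, hW, hU, sq, he, hv, hv', hPq⟩ := h
  obtain ⟨W2, αW, p2, sqW⟩ : ∃ (W2 : AlgSp.Sp S) (αW : W2 ⟶ W) (p2 : W2 ⟶ X2),
      IsPullback αW p2 p α := ⟨_, _, _, IsPullback.of_hasPullback _ _⟩
  have hW2 : AlgSp.IsAlgSpace W2 :=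
    Groth.Agent.S9874.isAlgSpace_of_isPullback hX.diag hW hX2 sqW
  obtain ⟨U2, αU, e2, sqU⟩ : ∃ (U2 : AlgSp.Sp S) (αU : U2 ⟶ U) (e2 : U2 ⟶ W2),
      IsPullback αU e2 e αW := ⟨_, _, _, IsPullback.of_hasPullback _ _⟩
  have hU2 : AlgSp.IsAlgSpace U2 :=
    Groth.Agent.S9874.isAlgSpace_of_isPullback hW.diag hU hW2 sqU
  have he2 : AlgSp.IsEtaleMor e2 := isEtaleMor_baseChange hU hW hW2 sqU he
  have hαW : AlgSp.IsEtaleMor αW := isEtaleMor_baseChange hX2 hX hW sqW.flip hα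
  have hαU : AlgSp.IsEtaleMor αU := isEtaleMor_baseChange hW2 hW hU sqU.flip hαW
  obtain ⟨w2, hw2a, hw2b⟩ := Groth.Agent.S10175.exists_point_of_isPullback sqW
    (AlgSp.Points.map e v) x2 (by rw [← AlgSp.Points.map_comp, hv])
  obtain ⟨u2, hu2a, hu2b⟩ := Groth.Agent.S10175.exists_point_of_isPullback sqU v w2 hw2a.symm
  have hcomm : e2 ≫ αW ≫ q = αU ≫ e ≫ q := by
    rw [← Category.assoc, ← sqU.w, Category.assoc]
  refine ⟨V, b, v', hV, hb, W2, U2, p2, αW ≫ q, e2, u2, hW2, hU2,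
    (sqW.paste_horiz sq.flip).flip, he2, ?_, ?_, ?_⟩
  · rw [AlgSp.Points.map_comp, hu2b, hw2b]
  · rw [hcomm, AlgSp.Points.map_comp, hu2a, hv']
  · rw [hcomm]
    exact hP.precomp hU2 hU hV αU (e ≫ q) hαU hPq

/-- transfer of the local datum along an étale base change. -/
theorem Loc.baseChange (hP : Hyp P) {X Y X1 Y1 : AlgSp.Sp S} (hX : AlgSp.IsAlgSpace X)
    (hY : AlgSp.IsAlgSpace Y) (hX1 : AlgSp.IsAlgSpace X1) (hY1 : AlgSp.IsAlgSpace Y1)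
    (f : X ⟶ Y) (β : Y1 ⟶ Y) (hβ : AlgSp.IsEtaleMor β) (f1 : X1 ⟶ Y1) (a1 : X1 ⟶ X)
    (sqX : IsPullback a1 f1 f β) (x1 : AlgSp.Points X1)
    (h : Loc P f (AlgSp.Points.map a1 x1)) : Loc P f1 x1 := by
  obtain ⟨V, b, v', hV, hb, W, U, p, q, e, v, hW, hU, sq, he, hv, hv', hPq⟩ := h
  obtain ⟨V1, βV, b1, sqV⟩ : ∃ (V1 : AlgSp.Sp S) (βV : V1 ⟶ V) (b1 : V1 ⟶ Y1),
      IsPullback βV b1 b β := ⟨_, _, _, IsPullback.of_hasPullback _ _⟩
  have hV1 : AlgSp.IsAlgSpace V1 :=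
    Groth.Agent.S9874.isAlgSpace_of_isPullback hY.diag hV hY1 sqV
  have hb1 : AlgSp.LocP @Smooth b1 := locP_smooth_baseChange hV hY hY1 sqV hb
  have hβV : AlgSp.IsEtaleMor βV := isEtaleMor_baseChange hY1 hY hV sqV.flip hβ
  obtain ⟨W1, βW, q1, sqW⟩ : ∃ (W1 : AlgSp.Sp S) (βW : W1 ⟶ W) (q1 : W1 ⟶ V1),
      IsPullback βW q1 q βV := ⟨_, _, _, IsPullback.of_hasPullback _ _⟩
  have hW1 : AlgSp.IsAlgSpace W1 :=
    Groth.Agent.S9874.isAlgSpace_of_isPullback hV.diag hW hV1 sqW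
  have hβW : AlgSp.IsEtaleMor βW := isEtaleMor_baseChange hV1 hV hW sqW.flip hβV
  have big : IsPullback (βW ≫ p) q1 f (βV ≫ b) := sqW.paste_horiz sq
  obtain ⟨p1, hp1a, hp1f⟩ : ∃ p1 : W1 ⟶ X1, p1 ≫ a1 = βW ≫ p ∧ p1 ≫ f1 = q1 ≫ b1 :=
    ⟨sqX.lift (βW ≫ p) (q1 ≫ b1) (by rw [big.w, Category.assoc, sqV.w]),
      sqX.lift_fst _ _ _, sqX.lift_snd _ _ _⟩
  have sq1 : IsPullback p1 q1 f1 b1 := by
    refine IsPullback.of_right ?_ hp1f sqX
    rw [hp1a, ← sqV.w]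
    exact big
  obtain ⟨U1, βU, e1, sqU⟩ : ∃ (U1 : AlgSp.Sp S) (βU : U1 ⟶ U) (e1 : U1 ⟶ W1),
      IsPullback βU e1 e βW := ⟨_, _, _, IsPullback.of_hasPullback _ _⟩
  have hU1 : AlgSp.IsAlgSpace U1 :=
    Groth.Agent.S9874.isAlgSpace_of_isPullback hW.diag hU hW1 sqU
  have he1 : AlgSp.IsEtaleMor e1 := isEtaleMor_baseChange hU hW hW1 sqU he
  have hP1 : P (e1 ≫ q1) :=
    hP.baseChange hU hV hU1 hV1 (e ≫ q) βV (e1 ≫ q1) βU (sqU.paste_vert sqW)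
      (locP_smooth_of_isEtaleMor _ hβV) hPq
  have sqWX : IsPullback βW p1 p a1 := by
    refine IsPullback.of_right ?_ hp1a.symm sq.flip
    have := sq1.flip.paste_horiz sqV
    rw [← sqW.w, ← sqX.w] at this
    exact this
  obtain ⟨w1, hw1a, hw1b⟩ := Groth.Agent.S10175.exists_point_of_isPullback sqWX
    (AlgSp.Points.map e v) x1 (by rw [← AlgSp.Points.map_comp, hv])
  obtain ⟨u1, hu1a, hu1b⟩ := Groth.Agent.S10175.exists_point_of_isPullback sqU v w1 hw1a.symm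
  refine ⟨V1, b1, _, hV1, hb1, W1, U1, p1, q1, e1, u1, hW1, hU1, sq1, he1, ?_, rfl, hP1⟩
  rw [AlgSp.Points.map_comp, hu1b, hw1b]

/-- replacing `V` by a smooth `V3 ⟶ V`. -/
theorem LocAt.shrink (hP : Hyp P) {X Y V V3 : AlgSp.Sp S} (hX : AlgSp.IsAlgSpace X)
    (hY : AlgSp.IsAlgSpace Y) (hV : AlgSp.IsAlgSpace V) (hV3 : AlgSp.IsAlgSpace V3)
    (f : X ⟶ Y) (x : AlgSp.Points X) (b : V ⟶ Y) (c : V3 ⟶ V) (hc : AlgSp.LocP @Smooth c)
    (v3 : AlgSp.Points V3) (h : LocAt P f x b (AlgSp.Points.map c v3)) :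
    LocAt P f x (c ≫ b) v3 := by
  obtain ⟨W, U, p, q, e, v, hW, hU, sq, he, hv, hv', hPq⟩ := h
  obtain ⟨W3, cW, q3, sqW⟩ : ∃ (W3 : AlgSp.Sp S) (cW : W3 ⟶ W) (q3 : W3 ⟶ V3),
      IsPullback cW q3 q c := ⟨_, _, _, IsPullback.of_hasPullback _ _⟩
  have hW3 : AlgSp.IsAlgSpace W3 :=
    Groth.Agent.S9874.isAlgSpace_of_isPullback hV.diag hW hV3 sqW
  obtain ⟨U3, cU, e3, sqU⟩ : ∃ (U3 : AlgSp.Sp S) (cU : U3 ⟶ U) (e3 : U3 ⟶ W3),
      IsPullback cU e3 e cW := ⟨_, _, _, IsPullback.of_hasPullback _ _⟩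
  have hU3 : AlgSp.IsAlgSpace U3 :=
    Groth.Agent.S9874.isAlgSpace_of_isPullback hW.diag hU hW3 sqU
  have he3 : AlgSp.IsEtaleMor e3 := isEtaleMor_baseChange hU hW hW3 sqU he
  have sqUV : IsPullback cU (e3 ≫ q3) (e ≫ q) c := sqU.paste_vert sqW
  have hP3 : P (e3 ≫ q3) :=
    hP.baseChange hU hV hU3 hV3 (e ≫ q) c (e3 ≫ q3) cU sqUV hc hPq
  obtain ⟨u3, hu3a, hu3b⟩ := Groth.Agent.S10175.exists_point_of_isPullback sqUV v v3 hv'
  refine ⟨W3, U3, cW ≫ p, q3, e3, u3, hW3, hU3, sqW.paste_horiz sq, he3, ?_, hu3b, hP3⟩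
  rw [← Category.assoc, ← sqU.w, Category.assoc, AlgSp.Points.map_comp, hu3a, hv]

/-- `Good` along an étale morphism to the source. -/
theorem Good.of_precomp {X2 X Y : AlgSp.Sp S} (α : X2 ⟶ X) (hα : AlgSp.IsEtaleMor α)
    (f : X ⟶ Y) (x2 : AlgSp.Points X2) (h : Good P (α ≫ f) x2) :
    Good P f (AlgSp.Points.map α x2) := by
  obtain ⟨X', a, hX', ha, ⟨z, hz⟩, hPa⟩ := h
  refine ⟨X', a ≫ α, hX', isEtaleMor_comp _ _ ha hα, ⟨z, ?_⟩, ?_⟩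
  · rw [AlgSp.Points.map_comp, hz]
  · rw [Category.assoc]
    exact hPa

/-- `Good` along the base change to an étale chart of the target. -/
theorem Good.of_baseChange (hP : Hyp P) {X Y X1 : AlgSp.Sp S} (hX : AlgSp.IsAlgSpace X)
    (hY : AlgSp.IsAlgSpace Y) (hX1 : AlgSp.IsAlgSpace X1) {Y0 : Over S}
    (f : X ⟶ Y) (β : (AlgSp.yon S).obj Y0 ⟶ Y) (hβ : AlgSp.IsEtaleMor β)
    (f1 : X1 ⟶ (AlgSp.yon S).obj Y0) (a1 : X1 ⟶ X) (sqX : IsPullback a1 f1 f β)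
    (x1 : AlgSp.Points X1) (h : Good P f1 x1) : Good P f (AlgSp.Points.map a1 x1) := by
  obtain ⟨X', a, hX', ha, ⟨z, hz⟩, hPa⟩ := h
  have ha1 : AlgSp.IsEtaleMor a1 :=
    isEtaleMor_baseChange (AlgSp.IsAlgSpace.yon_obj _) hY hX sqX.flip hβ
  refine ⟨X', a ≫ a1, hX', isEtaleMor_comp _ _ ha ha1, ⟨z, ?_⟩, ?_⟩
  · rw [AlgSp.Points.map_comp, hz]
  · rw [Category.assoc, sqX.w, ← Category.assoc]
    exact claimA_chart hP hY β hβ hX' (a ≫ f1) hPa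

end Groth.Agent.Lib.H5bEsl
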