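import Mathlib
import Groth.Agent.Lib.H5bEslJ

set_option autoImplicit false
universe u
open CategoryTheory CategoryTheory.Limits AlgebraicGeometry Opposite
open AlgSp

namespace Groth.Agent.Lib.H5bEsl

variable {S : Scheme.{u}} {P : MorphismProperty (AlgSp.Sp S)}

open Groth.Agent.Lib.Helper12.SmoothST Groth.Agent.Lib.Helper12.EtSmST
open Groth.Agent.Lib.Helper12.LargestOpen
open Groth.Agent.S13210

attribute [local instance] MvPolynomial.algebraMvPolynomial

/-- a polynomial outside an ideal has a coefficient outside its contraction. -/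
lemma exists_coeff_not_mem {B : Type*} [CommRing B] {σ : Type*} (h : MvPolynomial σ B)
    (ω : Ideal (MvPolynomial σ B)) (hh : h ∉ ω) :
    ∃ d, h.coeff d ∉ Ideal.comap (MvPolynomial.C (σ := σ)) ω := by
  by_contra hcon
  push_neg at hcon
  apply hh
  have : h ∈ Ideal.map MvPolynomial.C (Ideal.comap (MvPolynomial.C (σ := σ)) ω) :=
    MvPolynomial.mem_map_C_iff.2 hcon
  exact Ideal.map_comap_le this

/-- a basic open neighbourhood inside an open subset of a prime spectrum. -/
lemma exists_basicOpen_subset {A : Type u} [CommRing A] (Ω : Set (PrimeSpectrum A))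
    (hΩ : IsOpen Ω) (ω : PrimeSpectrum A) (hω : ω ∈ Ω) :
    ∃ h : A, h ∉ ω.asIdeal ∧ ∀ ζ : PrimeSpectrum A, h ∉ ζ.asIdeal → ζ ∈ Ω := by
  obtain ⟨_, ⟨h, rfl⟩, h1, h2⟩ :=
    PrimeSpectrum.isTopologicalBasis_basic_opens.exists_subset_of_mem_open hω hΩ
  exact ⟨h, h1, fun ζ hζ => h2 hζ⟩

section cover

variable (R : CommRingCat.{u}) (s : Spec R ⟶ S) (B : Type u) [CommRing B] [Algebra R B] (n : ℕ)

instance isScalarTower_mvPolynomial_away (b0 : B) :
    IsScalarTower R (MvPolynomial (Fin n) B) (MvPolynomial (Fin n) (Localization.Away b0)) := by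
  apply IsScalarTower.of_algebraMap_eq'
  refine RingHom.ext fun r => ?_
  show MvPolynomial.C (algebraMap R (Localization.Away b0) r) =
    MvPolynomial.map (algebraMap B (Localization.Away b0)) (MvPolynomial.C (algebraMap R B r))
  rw [MvPolynomial.map_C, ← IsScalarTower.algebraMap_apply]

/-- `A^n` over the localisation is an open subscheme of `A^n`. -/
lemma isOpenImmersion_specMap_away (b0 : B) :
    IsOpenImmersion (Spec.map (CommRingCat.ofHom (algebraMap (MvPolynomial (Fin n) B)
      (MvPolynomial (Fin n) (Localization.Away b0))))) := by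
  haveI : IsLocalization.Away (MvPolynomial.C b0 : MvPolynomial (Fin n) B)
      (MvPolynomial (Fin n) (Localization.Away b0)) := by
    have := MvPolynomial.isLocalization (σ := Fin n) (Submonoid.powers b0) (Localization.Away b0)
    rwa [Submonoid.map_powers] at this
  exact IsOpenImmersion.of_isLocalization (MvPolynomial.C b0 : MvPolynomial (Fin n) B)

variable (b0 : B) (h : MvPolynomial (Fin n) B)

/-- the polynomial over the localisation. -/
noncomputable abbrev hloc : MvPolynomial (Fin n) (Localization.Away b0) :=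
  MvPolynomial.map (algebraMap B (Localization.Away b0)) h

/-- the composite `B[T] → B_{b0}[T] → B_{b0}[T]_{h'}`. -/
noncomputable def jalg : MvPolynomial (Fin n) B →ₐ[R] Localization.Away (hloc B n b0 h) :=
  (IsScalarTower.toAlgHom R (MvPolynomial (Fin n) (Localization.Away b0))
    (Localization.Away (hloc B n b0 h))).comp
    (IsScalarTower.toAlgHom R (MvPolynomial (Fin n) B)
      (MvPolynomial (Fin n) (Localization.Away b0)))

lemma psih_loc_eq : specMap s (psih R (Localization.Away b0) n (hloc B n b0 h)) =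
    specMap s (jalg R B n b0 h) ≫ qAn R s B n := by
  rw [qAn, specMap_comp]
  congr 1
  apply AlgHom.ext
  intro x
  show algebraMap (MvPolynomial (Fin n) (Localization.Away b0)) (Localization.Away (hloc B n b0 h))
      (MvPolynomial.map (algebraMap R (Localization.Away b0)) x) =
    algebraMap (MvPolynomial (Fin n) (Localization.Away b0)) (Localization.Away (hloc B n b0 h))
      (MvPolynomial.map (algebraMap B (Localization.Away b0))
        (MvPolynomial.map (algebraMap R B) x))
  rw [MvPolynomial.map_map, ← IsScalarTower.algebraMap_eq]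

lemma isOpenImmersion_jalg : IsOpenImmersion (specMap s (jalg R B n b0 h)).left := by
  have h1 : specMap s (jalg R B n b0 h) =
      specMap s (IsScalarTower.toAlgHom R (MvPolynomial (Fin n) (Localization.Away b0))
        (Localization.Away (hloc B n b0 h))) ≫
      specMap s (IsScalarTower.toAlgHom R (MvPolynomial (Fin n) B)
        (MvPolynomial (Fin n) (Localization.Away b0))) := by
    rw [specMap_comp]
    rfl
  rw [h1, Over.comp_left]
  haveI : IsOpenImmersion (specMap s (IsScalarTower.toAlgHom R
      (MvPolynomial (Fin n) (Localization.Away b0)) (Localization.Away (hloc B n b0 h)))).left := by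
    show IsOpenImmersion (Spec.map (CommRingCat.ofHom
      (algebraMap (MvPolynomial (Fin n) (Localization.Away b0))
        (Localization.Away (hloc B n b0 h)))))
    infer_instance
  haveI : IsOpenImmersion (specMap s (IsScalarTower.toAlgHom R (MvPolynomial (Fin n) B)
      (MvPolynomial (Fin n) (Localization.Away b0)))).left := by
    show IsOpenImmersion (Spec.map (CommRingCat.ofHom (algebraMap (MvPolynomial (Fin n) B)
      (MvPolynomial (Fin n) (Localization.Away b0)))))
    exact isOpenImmersion_specMap_away B n b0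
  infer_instance

lemma jalg_not_mem (z0 : PrimeSpectrum (Localization.Away (hloc B n b0 h))) :
    h ∉ (PrimeSpectrum.comap (jalg R B n b0 h).toRingHom z0).asIdeal := by
  intro hmem
  have h1 : algebraMap (MvPolynomial (Fin n) (Localization.Away b0))
      (Localization.Away (hloc B n b0 h)) (hloc B n b0 h) ∈ z0.asIdeal := hmem
  exact z0.isPrime.ne_top (Ideal.eq_top_of_isUnit_mem _ h1
    (IsLocalization.Away.algebraMap_isUnit (hloc B n b0 h)))

/-- `P` holds for `D(h') ⟶ A^n_R` as soon as `D(h)` lies in the image of an étale `g` for which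
`P (g ≫ q)` holds. -/
theorem cover_Dh (hP : Hyp P) {U : AlgSp.Sp S} (hU : AlgSp.IsAlgSpace U)
    (g : U ⟶ (yon S).obj (specOver R s (MvPolynomial (Fin n) B))) (hg : AlgSp.IsEtaleMor g)
    (hPg : P (g ≫ (yon S).map (qAn R s B n)))
    (hsub : ∀ ζ : PrimeSpectrum (MvPolynomial (Fin n) B), h ∉ ζ.asIdeal →
      AlgSp.Points.schemeHomeo (specOver R s (MvPolynomial (Fin n) B)) ζ ∈
        Set.range (AlgSp.Points.map g)) :
    P ((yon S).map (specMap s (psih R (Localization.Away b0) n (hloc B n b0 h)))) := by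
  have hABa : AlgSp.IsAlgSpace ((yon S).obj (specOver R s (MvPolynomial (Fin n) B))) :=
    AlgSp.IsAlgSpace.yon_obj _
  have hARa : AlgSp.IsAlgSpace ((yon S).obj (specOver R s (MvPolynomial (Fin n) R))) :=
    AlgSp.IsAlgSpace.yon_obj _
  have hDa : AlgSp.IsAlgSpace ((yon S).obj (specOver R s (Localization.Away (hloc B n b0 h)))) :=
    AlgSp.IsAlgSpace.yon_obj _
  have hj : AlgSp.IsEtaleMor ((yon S).map (specMap s (jalg R B n b0 h))) := by
    rw [AlgSp.isEtaleMor_yon_map_iff]
    haveI := isOpenImmersion_jalg R s B n b0 h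
    infer_instance
  obtain ⟨U2, gU, g2, sqU⟩ : ∃ (U2 : AlgSp.Sp S) (gU : U2 ⟶ U)
      (g2 : U2 ⟶ (yon S).obj (specOver R s (Localization.Away (hloc B n b0 h)))),
      IsPullback gU g2 g ((yon S).map (specMap s (jalg R B n b0 h))) :=
    ⟨_, _, _, IsPullback.of_hasPullback _ _⟩
  have hU2 : AlgSp.IsAlgSpace U2 :=
    Groth.Agent.S9874.isAlgSpace_of_isPullback hABa.diag hU hDa sqU
  have hg2 : AlgSp.IsEtaleMor g2 := isEtaleMor_baseChange hU hABa hDa sqU hg
  have hgU : AlgSp.IsEtaleMor gU := isEtaleMor_baseChange hDa hABa hU sqU.flip hj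
  refine hP.of_etale_surj hU2 hDa hARa g2 _ hg2 ?_ ?_
  · intro z
    obtain ⟨z0, rfl⟩ := (AlgSp.Points.schemeHomeo _).surjective z
    obtain ⟨u, hu⟩ := hsub (PrimeSpectrum.comap (jalg R B n b0 h).toRingHom z0)
      (jalg_not_mem R B n b0 h z0)
    have e1 : AlgSp.Points.map g u = AlgSp.Points.map ((yon S).map (specMap s (jalg R B n b0 h)))
        (AlgSp.Points.schemeHomeo _ z0) := by
      rw [hu, AlgSp.Points.map_yon_map_apply]
      rfl
    obtain ⟨p2, -, hp2⟩ := Groth.Agent.S10175.exists_point_of_isPullback sqU u _ e1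
    exact ⟨p2, hp2⟩
  · rw [psih_loc_eq, Functor.map_comp, ← Category.assoc, ← sqU.w, Category.assoc]
    exact hP.precomp hU2 hU hARa gU _ hgU hPg

end cover

section core2

variable (R : CommRingCat.{u}) (s : Spec R ⟶ S) (B : Type u) [CommRing B] [Algebra R B] (n : ℕ)

/-- the heart of the argument: from an étale `g : U ⟶ A^n_B` with `P (g ≫ q)` to an open
neighbourhood of the image point in `Spec B` on which `P` holds. -/
theorem core2 (hP : Hyp P) {U : AlgSp.Sp S} (hU : AlgSp.IsAlgSpace U)
    (g : U ⟶ (yon S).obj (specOver R s (MvPolynomial (Fin n) B))) (hg : AlgSp.IsEtaleMor g)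
    (hPg : P (g ≫ (yon S).map (qAn R s B n))) (v : AlgSp.Points U) :
    Good P ((yon S).map (specHom R s B))
      (AlgSp.Points.map (g ≫ (yon S).map (pAn R s B n)) v) := by
  have hΩ : IsOpen (Set.range (AlgSp.Points.map g)) :=
    (Groth.Agent.S10211.isOpenMap_map_of_isEtaleMor hU g hg).isOpen_range
  have hΩ' : IsOpen ((AlgSp.Points.schemeHomeo (specOver R s (MvPolynomial (Fin n) B))) ⁻¹'
      Set.range (AlgSp.Points.map g)) :=
    hΩ.preimage (AlgSp.Points.schemeHomeo _).continuous
  obtain ⟨ω, hω⟩ := (AlgSp.Points.schemeHomeo (specOver R s (MvPolynomial (Fin n) B))).surjective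
    (AlgSp.Points.map g v)
  have hωΩ : ω ∈ (AlgSp.Points.schemeHomeo (specOver R s (MvPolynomial (Fin n) B))) ⁻¹'
      Set.range (AlgSp.Points.map g) := by
    show AlgSp.Points.schemeHomeo _ ω ∈ Set.range (AlgSp.Points.map g)
    rw [hω]
    exact ⟨v, rfl⟩
  obtain ⟨h, hωh, hsub⟩ := exists_basicOpen_subset
    (A := MvPolynomial (Fin n) B) _ hΩ' ω hωΩ
  obtain ⟨d, hd⟩ := exists_coeff_not_mem h _ hωh
  obtain ⟨b0, hb0⟩ : ∃ b0 : B, b0 = h.coeff d := ⟨_, rfl⟩
  rw [← hb0] at hd
  have hunit : IsUnit ((hloc B n b0 h).coeff d) := by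
    rw [MvPolynomial.coeff_map, ← hb0]
    exact IsLocalization.Away.algebraMap_isUnit b0
  have hdeg : ∀ k, (hloc B n b0 h).degreeOf k ≤
      Finset.univ.sup (fun k => (hloc B n b0 h).degreeOf k) :=
    fun k => Finset.le_sup (f := fun k => (hloc B n b0 h).degreeOf k) (Finset.mem_univ k)
  have hPh := cover_Dh R s B n b0 h hP hU g hg hPg (fun ζ hζ => hsub ζ hζ)
  have hPB := An_trick R s (Localization.Away b0) n _ (hloc B n b0 h) hP hdeg ⟨d, hunit⟩ hPh
  refine ⟨(yon S).obj (specOver R s (Localization.Away b0)),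
    (yon S).map (specMap s (IsScalarTower.toAlgHom R B (Localization.Away b0))),
    AlgSp.IsAlgSpace.yon_obj _, ?_, ?_, ?_⟩
  · rw [AlgSp.isEtaleMor_yon_map_iff]
    haveI : IsOpenImmersion (specMap s (IsScalarTower.toAlgHom R B (Localization.Away b0))).left := by
      show IsOpenImmersion (Spec.map (CommRingCat.ofHom (algebraMap B (Localization.Away b0))))
      infer_instance
    infer_instance
  · have hx' : PrimeSpectrum.comap (algebraMap B (MvPolynomial (Fin n) B)) ω ∈
        Set.range (PrimeSpectrum.comap (algebraMap B (Localization.Away b0))) := by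
      rw [PrimeSpectrum.localization_away_comap_range (Localization.Away b0) b0]
      exact hd
    obtain ⟨x2, hx2⟩ := hx'
    refine ⟨AlgSp.Points.schemeHomeo (specOver R s (Localization.Away b0)) x2, ?_⟩
    rw [AlgSp.Points.map_yon_map_apply, AlgSp.Points.map_comp, ← hω,
      AlgSp.Points.map_yon_map_apply]
    congr 1
  · rw [← Functor.map_comp, specMap_comp_specHom]
    exact hPB

end core2

end Groth.Agent.Lib.H5bEsl
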