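import Mathlib
import Groth.Agent.Lib.H5bEslK

set_option autoImplicit false
universe u
open CategoryTheory CategoryTheory.Limits AlgebraicGeometry Opposite
open AlgSp

namespace Groth.Agent.Lib.H5bEsl

variable {S : Scheme.{u}} {P : MorphismProperty (AlgSp.Sp S)}

open Groth.Agent.Lib.Helper12.SmoothST Groth.Agent.Lib.Helper12.EtSmST
open Groth.Agent.Lib.Helper12.LargestOpen
open Groth.Agent.S13210

attribute [local instance] MvPolynomial.algebraMvPolynomial

/-- shrinking the smooth `V` to a scheme étale over an affine space. -/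
theorem LocAt.exists_std (hP : Hyp P) {R : CommRingCat.{u}} (s : Spec R ⟶ S)
    {X V : AlgSp.Sp S} (hX : AlgSp.IsAlgSpace X) (hV : AlgSp.IsAlgSpace V)
    (f : X ⟶ (yon S).obj (Over.mk s)) (x : AlgSp.Points X) (b : V ⟶ (yon S).obj (Over.mk s))
    (hb : AlgSp.LocP @Smooth b) (v' : AlgSp.Points V) (h : LocAt P f x b v') :
    ∃ (n : ℕ) (V0 : Over S) (c0 : V0 ⟶ specOver R s (MvPolynomial (Fin n) R))
      (v0 : AlgSp.Points ((yon S).obj V0)),
      Etale c0.left ∧
        LocAt P f x ((yon S).map (c0 ≫ specHom R s (MvPolynomial (Fin n) R))) v0 := by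
  have hYa : AlgSp.IsAlgSpace ((yon S).obj (Over.mk s)) := AlgSp.IsAlgSpace.yon_obj _
  obtain ⟨A, _, _, γ, hγ, ⟨z, hz⟩, hγb⟩ := exists_rel_affine_chart_at hV s b v'
  have hsm : AlgSp.LocP @Smooth ((yon S).map (specHom R s A)) := by
    rw [← hγb]
    exact locP_smooth_comp hV hYa γ b (locP_smooth_of_isEtaleMor γ hγ) hb
  have hsm' : Smooth (specHom R s A).left := AlgSp.locP_yon_map hsm
  have hsm'' : (algebraMap R A).Smooth := by
    have : Smooth (Spec.map (CommRingCat.ofHom (algebraMap R A))) := hsm'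
    rwa [HasRingHomProperty.Spec_iff (P := @Smooth)] at this
  haveI : Algebra.Smooth R A := RingHom.smooth_algebraMap.1 hsm''
  obtain ⟨z0, rfl⟩ := (AlgSp.Points.schemeHomeo (specOver R s A)).surjective z
  obtain ⟨z1, hz1⟩ : ∃ z1 : PrimeSpectrum A, z1 = z0 := ⟨z0, rfl⟩
  obtain ⟨f0, hf0, n, alg, tower, hstd⟩ :=
    Algebra.IsSmoothAt.exists_isStandardEtale_mvPolynomial (R := R) (S := A) (p := z1.asIdeal)
  letI := alg
  haveI := tower
  haveI := hstd
  have hVa : AlgSp.IsAlgSpace ((yon S).obj (specOver R s (Localization.Away f0))) :=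
    AlgSp.IsAlgSpace.yon_obj _
  have hcA : AlgSp.IsEtaleMor ((yon S).map (specMap s
      (IsScalarTower.toAlgHom R A (Localization.Away f0)))) := by
    rw [AlgSp.isEtaleMor_yon_map_iff]
    haveI : IsOpenImmersion (specMap s (IsScalarTower.toAlgHom R A (Localization.Away f0))).left := by
      show IsOpenImmersion (Spec.map (CommRingCat.ofHom (algebraMap A (Localization.Away f0))))
      infer_instance
    infer_instance
  have hc : AlgSp.IsEtaleMor ((yon S).map (specMap s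
      (IsScalarTower.toAlgHom R A (Localization.Away f0))) ≫ γ) := isEtaleMor_comp _ _ hcA hγ
  have hcb : ((yon S).map (specMap s (IsScalarTower.toAlgHom R A (Localization.Away f0))) ≫ γ) ≫ b =
      (yon S).map (specMap s (IsScalarTower.toAlgHom R (MvPolynomial (Fin n) R)
        (Localization.Away f0)) ≫ specHom R s (MvPolynomial (Fin n) R)) := by
    rw [Category.assoc, hγb, ← Functor.map_comp, specMap_comp_specHom, specMap_comp_specHom]
  obtain ⟨q', hq'⟩ : z1 ∈ Set.range (PrimeSpectrum.comap (algebraMap A (Localization.Away f0))) := by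
    rw [PrimeSpectrum.localization_away_comap_range (Localization.Away f0) f0]
    exact hf0
  have hv0 : AlgSp.Points.map ((yon S).map (specMap s
      (IsScalarTower.toAlgHom R A (Localization.Away f0))) ≫ γ)
      (AlgSp.Points.schemeHomeo (specOver R s (Localization.Away f0)) q') = v' := by
    rw [AlgSp.Points.map_comp, AlgSp.Points.map_yon_map_apply, ← hz]
    congr 2
    rw [← hz1, ← hq']
    rfl
  have h' := LocAt.shrink hP hX hYa hV hVa f x b _ (locP_smooth_of_isEtaleMor _ hc)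
    (AlgSp.Points.schemeHomeo (specOver R s (Localization.Away f0)) q') (by rw [hv0]; exact h)
  rw [hcb] at h'
  refine ⟨n, specOver R s (Localization.Away f0), specMap s (IsScalarTower.toAlgHom R
    (MvPolynomial (Fin n) R) (Localization.Away f0)), _, ?_, h'⟩
  show Etale (Spec.map (CommRingCat.ofHom
    (algebraMap (MvPolynomial (Fin n) R) (Localization.Away f0))))
  rw [HasRingHomProperty.Spec_iff (P := @Etale)]
  exact RingHom.etale_algebraMap.2 inferInstance

/-- the affine case with `V` étale over an affine space. -/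
theorem core (hP : Hyp P) (R : CommRingCat.{u}) (s : Spec R ⟶ S) (B : Type u) [CommRing B]
    [Algebra R B] (n : ℕ) {V0 : Over S} (c0 : V0 ⟶ specOver R s (MvPolynomial (Fin n) R))
    (hc0 : Etale c0.left) (x : AlgSp.Points ((yon S).obj (specOver R s B)))
    (v0 : AlgSp.Points ((yon S).obj V0))
    (h : LocAt P ((yon S).map (specHom R s B)) x
      ((yon S).map (c0 ≫ specHom R s (MvPolynomial (Fin n) R))) v0) :
    Good P ((yon S).map (specHom R s B)) x := by
  obtain ⟨W, U, p, q, e, v, hW, hU, sq, he, hv, -, hPq⟩ := h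
  have sqA := isPullback_An R s B n
  obtain ⟨r, hr1, hr2⟩ : ∃ r : W ⟶ (yon S).obj (specOver R s (MvPolynomial (Fin n) B)),
      r ≫ (yon S).map (pAn R s B n) = p ∧ r ≫ (yon S).map (qAn R s B n) = q ≫ (yon S).map c0 :=
    ⟨sqA.lift p (q ≫ (yon S).map c0) (by rw [sq.w, Functor.map_comp, Category.assoc]),
      sqA.lift_fst _ _ _, sqA.lift_snd _ _ _⟩
  have sqR : IsPullback r q ((yon S).map (qAn R s B n)) ((yon S).map c0) := by
    refine IsPullback.of_right ?_ hr2 sqA
    rw [hr1, ← Functor.map_comp]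
    exact sq
  have hr : AlgSp.IsEtaleMor r :=
    isEtaleMor_baseChange (AlgSp.IsAlgSpace.yon_obj _) (AlgSp.IsAlgSpace.yon_obj _)
      (AlgSp.IsAlgSpace.yon_obj _) sqR.flip ((AlgSp.isEtaleMor_yon_map_iff c0).2 hc0)
  have hPg : P ((e ≫ r) ≫ (yon S).map (qAn R s B n)) := by
    rw [Category.assoc, hr2, ← Category.assoc]
    exact claimA_sch hP c0 hc0 hU (e ≫ q) hPq
  have hG := core2 R s B n hP hU (e ≫ r) (isEtaleMor_comp _ _ he hr) hPg v
  rwa [Category.assoc, hr1, hv] at hG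

/-- the local datum gives an étale neighbourhood on which `P` holds. -/
theorem good_of_loc (hP : Hyp P) {X Y : AlgSp.Sp S} (hX : AlgSp.IsAlgSpace X)
    (hY : AlgSp.IsAlgSpace Y) (f : X ⟶ Y) (x : AlgSp.Points X) (h : Loc P f x) :
    Good P f x := by
  obtain ⟨R, s, β, hβ, y0, hy0⟩ := exists_affine_chart_at hY (AlgSp.Points.map f x)
  have hY0a : AlgSp.IsAlgSpace ((yon S).obj (Over.mk s)) := AlgSp.IsAlgSpace.yon_obj _
  obtain ⟨X1, a1, f1, sqX⟩ : ∃ (X1 : AlgSp.Sp S) (a1 : X1 ⟶ X)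
      (f1 : X1 ⟶ (yon S).obj (Over.mk s)), IsPullback a1 f1 f β :=
    ⟨_, _, _, IsPullback.of_hasPullback _ _⟩
  have hX1 : AlgSp.IsAlgSpace X1 :=
    Groth.Agent.S9874.isAlgSpace_of_isPullback hY.diag hX hY0a sqX
  obtain ⟨x1, hx1a, -⟩ := Groth.Agent.S10175.exists_point_of_isPullback sqX x y0 hy0.symm
  have h1 : Loc P f1 x1 :=
    Loc.baseChange hP hX hY hX1 hY0a f β hβ f1 a1 sqX x1 (by rw [hx1a]; exact h)
  obtain ⟨B, _, _, α, hα, ⟨x2, hx2⟩, hαf⟩ := exists_rel_affine_chart_at hX1 s f1 x1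
  have hX2a : AlgSp.IsAlgSpace ((yon S).obj (specOver R s B)) := AlgSp.IsAlgSpace.yon_obj _
  have h2 : Loc P (α ≫ f1) x2 :=
    Loc.precomp hP hX2a hX1 hY0a α hα f1 x2 (by rw [hx2]; exact h1)
  rw [hαf] at h2
  obtain ⟨V, b, v', hV, hb, hL⟩ := h2
  obtain ⟨n, V0, c0, v0, hc0, hL'⟩ := LocAt.exists_std hP s hX2a hV _ x2 b hb v' hL
  have hG := core hP R s B n c0 hc0 x2 v0 hL'
  rw [← hαf] at hG
  have hG1 := Good.of_precomp α hα f1 x2 hG
  rw [hx2] at hG1
  have hG0 := Good.of_baseChange hP hX hY hX1 f β hβ f1 a1 sqX x1 hG1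
  rwa [hx1a] at hG0

/-- the hard direction of locality. -/
theorem of_forall_loc (hP : Hyp P) {X Y : AlgSp.Sp S} (hX : AlgSp.IsAlgSpace X)
    (hY : AlgSp.IsAlgSpace Y) (f : X ⟶ Y) (h : ∀ x : AlgSp.Points X, Loc P f x) : P f := by
  have hgood : ∀ x : AlgSp.Points X, Good P f x := fun x => good_of_loc hP hX hY f x (h x)
  choose X' a hX' ha hxa hPa using hgood
  obtain ⟨T, t, hte, hts⟩ := hX.atlas
  have key := hP.h1 (ι := ↥T.left) (X := X) (fun w => X' (AlgSp.Points.ofPt t w))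
    (fun w => a (AlgSp.Points.ofPt t w)) hX (fun w => hX' _)
    ⟨fun w => ha _, fun x => ?_⟩ f hY
  · exact key.2 (fun w => hPa _)
  · obtain ⟨w, hw⟩ := Groth.Agent.S10177.surjective_ofPt t hts x
    exact ⟨w, hw ▸ hxa _⟩

/-- the main theorem. -/
theorem isEtaleSmoothLocalST_of_hyp (hP : Hyp P) : AlgSp.IsEtaleSmoothLocalST P := by
  refine ⟨fun X Y Z hX hY hZ f g hf hg => hP.precomp hX hY hZ f g hf hg,
    fun X Y X' Y' hX hY hX' hY' f g f' g' sq hg hf =>
      hP.baseChange hX hY hX' hY' f g f' g' sq hg hf,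
    fun X Y hX hY f => ⟨fun hf x => ?_, fun h => ?_⟩⟩
  · refine ⟨Y, X, X, 𝟙 Y, 𝟙 X, f, 𝟙 X, x, hY, hX, hX, locP_smooth_id Y,
      IsPullback.of_horiz_isIso ⟨by simp⟩, isEtaleMor_id X, ?_, ?_⟩
    · rw [Category.id_comp, AlgSp.Points.map_id]
    · rw [Category.id_comp]
      exact hf
  · refine of_forall_loc hP hX hY f (fun x => ?_)
    obtain ⟨V, W, U, b, p, q, e, v, hV, hW, hU, hb, sq, he, hv, hPq⟩ := h x
    exact ⟨V, b, _, hV, hb, W, U, p, q, e, v, hW, hU, sq, he, hv, rfl, hPq⟩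

end Groth.Agent.Lib.H5bEsl
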