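import Mathlib

set_option autoImplicit false
set_option linter.style.haveILetI false
universe u
open CategoryTheory CategoryTheory.Limits AlgebraicGeometry Topology TopologicalSpace

namespace Groth.Agent.Lib.H5bEtField

/-- the residue rings of an étale algebra over a field are étale. -/
theorem etale_quotient (k A : Type u) [Field k] [CommRing A] [Algebra k A] [Algebra.Etale k A]
    (p : Ideal A) [hp : p.IsPrime] : p.IsMaximal ∧ Algebra.Etale k (A ⧸ p) ∧ Module.Finite k (A ⧸ p) := by
  haveI := Algebra.FormallyUnramified.finite_of_free k A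
  haveI : IsArtinianRing A := isArtinian_of_tower k inferInstance
  haveI := Algebra.FormallyUnramified.isReduced_of_field k A
  have hm : p.IsMaximal := IsArtinianRing.isMaximal_of_isPrime p
  have H : Algebra.FormallyEtale k A := inferInstance
  rw [Algebra.FormallyEtale.iff_of_equiv ((IsArtinianRing.equivPi A).restrictScalars k),
    Algebra.FormallyEtale.pi_iff] at H
  haveI : Algebra.FormallyEtale k (A ⧸ p) := H ⟨p, hm⟩
  haveI : Module.Finite k (A ⧸ p) := Module.Finite.of_surjective
    (Algebra.linearMap A (A ⧸ p) |>.restrictScalars k) Ideal.Quotient.mk_surjective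
  refine ⟨hm, ⟨?_, ?_⟩, inferInstance⟩
  · infer_instance
  · exact Algebra.FinitePresentation.of_finiteType.mp inferInstance

/-- every point of a scheme étale over a field lies in the image of the spectrum of a field
finite étale over the base (affine chart form). -/
theorem exists_field_chart_aux {U : Scheme.{u}} {k : Type u} [Field k]
    (g : U ⟶ Spec (CommRingCat.of k)) [Etale g] (R : CommRingCat.{u}) (j : Spec R ⟶ U)
    [IsOpenImmersion j] (p : PrimeSpectrum R) :
    ∃ (K : Type u) (_ : Field K) (ι : Spec (CommRingCat.of K) ⟶ U),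
      j p ∈ Set.range ι ∧ Etale (ι ≫ g) ∧ IsFinite (ι ≫ g) := by
  let φ : CommRingCat.of k ⟶ R := Spec.preimage (j ≫ g)
  have hφ : Spec.map φ = j ≫ g := Spec.map_preimage _
  have hφe : φ.hom.Etale := by
    rw [← HasRingHomProperty.Spec_iff (P := @Etale), hφ]
    infer_instance
  letI : Algebra k R := φ.hom.toAlgebra
  haveI : Algebra.Etale k R := hφe
  haveI : p.asIdeal.IsPrime := p.2
  obtain ⟨hm, he, hfin⟩ := etale_quotient k R p.asIdeal
  letI : Field (R ⧸ p.asIdeal) := Ideal.Quotient.field p.asIdeal
  refine ⟨R ⧸ p.asIdeal, inferInstance,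
    Spec.map (CommRingCat.ofHom (Ideal.Quotient.mk p.asIdeal)) ≫ j, ?_, ?_, ?_⟩
  · refine ⟨⟨⊥, Ideal.isPrime_bot⟩, ?_⟩
    rw [Scheme.Hom.comp_apply]
    congr 1
    apply PrimeSpectrum.ext
    show Ideal.comap (Ideal.Quotient.mk p.asIdeal) ⊥ = p.asIdeal
    rw [← RingHom.ker_eq_comap_bot, Ideal.mk_ker]
  · rw [Category.assoc, ← hφ, ← Spec.map_comp]
    rw [HasRingHomProperty.Spec_iff (P := @Etale)]
    exact he
  · rw [Category.assoc, ← hφ, ← Spec.map_comp]
    rw [IsFinite.SpecMap_iff]
    exact hfin

/-- every point of a scheme étale over a field lies in the image of the spectrum of a field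
finite étale over the base. -/
theorem exists_field_chart {U : Scheme.{u}} {k : Type u} [Field k]
    (g : U ⟶ Spec (CommRingCat.of k)) [Etale g] (u : U) :
    ∃ (K : Type u) (_ : Field K) (ι : Spec (CommRingCat.of K) ⟶ U),
      u ∈ Set.range ι ∧ Etale (ι ≫ g) ∧ IsFinite (ι ≫ g) := by
  obtain ⟨p, hp⟩ := U.affineOpenCover.covers u
  haveI : IsOpenImmersion (U.affineOpenCover.f (U.affineOpenCover.idx u)) :=
    U.affineOpenCover.map_prop _
  obtain ⟨K, hK, ι, h1, h2, h3⟩ := exists_field_chart_aux g _
    (U.affineOpenCover.f (U.affineOpenCover.idx u)) p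
  exact ⟨K, hK, ι, hp ▸ h1, h2, h3⟩

end Groth.Agent.Lib.H5bEtField
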