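import Mathlib
import Groth.Agent.Lib.H5bFinA
import Groth.Agent.Lib.H5bBootE
import Groth.Agent.Lib.H5bBootD
import Groth.Agent.Lib.H5bFibCrit
import Groth.Agent.Lib.Helper12LocPNbhd
import Groth.Agent.Lib.Helper12OpenSub2
import Groth.Agent.S10195
import Groth.Agent.S10194
import Groth.Agent.S10175
import Groth.Agent.S10176
import Groth.Agent.S10177
import Groth.Agent.S10260
import Groth.Agent.S10267
import Groth.Agent.S10554
import Groth.Agent.S9874

/-!
# Étale localization of quasi-finite morphisms of algebraic spaces: plumbing (helper5)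

* `isOpen_lqfLocus`, `exists_lqf_locus`: the locus where a morphism is locally quasi-finite is an
  open subspace `X'`, and `X' ⟶ Y` is locally quasi-finite;
* `exists_lqf_scheme_chart`: for `f` separated, `X' ⟶ Y` is representable (by the theorem on
  separated locally quasi-finite morphisms);
* `exists_open_of_chart_pullback`: transfer of the scheme-level fibre product `T ×_{Y₀} U` to an
  open subspace of any fibre product `X ×_Y U`;
* `finite_open_closed_of_finite`: an open subscheme of that fibre product which is finite over `U`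
  gives an open and closed subspace of `X ×_Y U`, finite over `U`.
-/

set_option autoImplicit false
set_option linter.style.haveILetI false
set_option linter.unusedSectionVars false
set_option linter.unusedSimpArgs false
set_option linter.unusedVariables false
universe u

open CategoryTheory CategoryTheory.Limits AlgebraicGeometry AlgSp Opposite

namespace Groth.Agent.Lib.H5bEtLoc

open Groth.Agent.Lib.Helper12.LocPCases Groth.Agent.Lib.H5bBoot

variable {S : Scheme.{u}}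

/-- the set of points where `f` is locally quasi-finite (in some chart diagram). -/
def lqfLocus {X Y : AlgSp.Space S} (f : X ⟶ Y) : Set (AlgSp.Points X.obj) :=
  {x | AlgSp.HasAtMor (fun U _ h u => ∃ W : U.Opens, u ∈ W ∧
    (@LocallyQuasiFinite ⊓ @LocallyOfFiniteType : MorphismProperty Scheme.{u}) (W.ι ≫ h)) f.hom x}

theorem mem_lqfLocus_of_hasAtMor {X Y : AlgSp.Space S} (f : X ⟶ Y) (x : AlgSp.Points X.obj)
    (h : AlgSp.HasAtMor (fun U _ h u => ∃ W : U.Opens, u ∈ W ∧ LocallyQuasiFinite (W.ι ≫ h) ∧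
      LocallyOfFiniteType (W.ι ≫ h)) f.hom x) : x ∈ lqfLocus f := by
  obtain ⟨U, V, a, b, h, u, ha, hb, hc, hu, W, hW, h1, h2⟩ := h
  exact ⟨U, V, a, b, h, u, ha, hb, hc, hu, W, hW, ⟨h1, h2⟩⟩

theorem isOpen_lqfLocus {X Y : AlgSp.Space S} (f : X ⟶ Y) : IsOpen (lqfLocus f) := by
  rw [isOpen_iff_forall_mem_open]
  intro x hx
  obtain ⟨X', j, hj, hxj, hloc⟩ :=
    (Groth.Agent.Lib.Helper12.LocPNbhd.hasAtMor_iff_exists_open good_lqf f x).1 hx
  refine ⟨Set.range (AlgSp.Points.map j.hom), ?_,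
    Groth.Agent.Lib.Helper12.OpenSub.isOpen_range_of_open j.hom hj, hxj⟩
  rintro _ ⟨x', rfl⟩
  exact (Groth.Agent.Lib.Helper12.LocPNbhd.hasAtMor_iff_exists_open good_lqf f _).2
    ⟨X', j, hj, ⟨x', rfl⟩, hloc⟩

/-- the locally quasi-finite locus as an open subspace. -/
theorem exists_lqf_locus {X Y : AlgSp.Space S} (f : X ⟶ Y) :
    ∃ (X' : AlgSp.Space S) (j' : X' ⟶ X), AlgSp.RepWith @IsOpenImmersion j'.hom ∧
      Set.range (AlgSp.Points.map j'.hom) = lqfLocus f ∧
      AlgSp.LocP (@LocallyQuasiFinite ⊓ @LocallyOfFiniteType) (j' ≫ f).hom := by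
  obtain ⟨X', j', hj', hrange⟩ := Groth.Agent.S10195.result X _ (isOpen_lqfLocus f)
  refine ⟨X', j', hj', hrange, ?_⟩
  rw [Groth.Agent.Lib.Helper12.LocPNbhd.locP_iff_forall_hasAtMor good_lqf X'.property Y.property
    (j' ≫ f).hom]
  intro x'
  have hx : AlgSp.Points.map j'.hom x' ∈ lqfLocus f := by
    rw [← hrange]
    exact ⟨x', rfl⟩
  obtain ⟨U, V, a, b, h, u, ha, hb, hc, hu, W, hW, hPW⟩ := hx
  let Wo : Over S := Over.mk (W.ι ≫ U.hom)
  let ι : Wo ⟶ U := Over.homMk W.ι rfl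
  have hι : AlgSp.RepWith @Etale ((AlgSp.yon S).map ι) :=
    (AlgSp.repWith_yon_map_iff _ _).2 (inferInstance : Etale W.ι)
  have ha' : AlgSp.RepWith @Etale ((AlgSp.yon S).map ι ≫ a) :=
    (AlgSp.RepWith @Etale).comp_mem _ _ hι ha
  have hc' : ((AlgSp.yon S).map ι ≫ a) ≫ f.hom = (AlgSp.yon S).map (ι ≫ h) ≫ b := by
    rw [Category.assoc, hc, Functor.map_comp, Category.assoc]
  have hsub : Set.range (AlgSp.Points.map ((AlgSp.yon S).map ι ≫ a)) ⊆
      Set.range (AlgSp.Points.map j'.hom) := by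
    rw [hrange]
    rintro _ ⟨p, rfl⟩
    obtain ⟨w, rfl⟩ := (AlgSp.Points.schemeEquiv Wo).surjective p
    refine ⟨U, V, a, b, h, ι.left w, ha, hb, hc, ?_, W, w.2, hPW⟩
    show AlgSp.Points.ofPt a (ι.left w) =
      AlgSp.Points.map ((AlgSp.yon S).map ι ≫ a) (AlgSp.Points.ofScheme Wo w)
    rw [← AlgSp.Points.ofPt_eq_map_ofScheme, Groth.Agent.S10176.ofPt_map_comp]
  obtain ⟨aW, haW⟩ := (Groth.Agent.S10194.exists_factor_iff j'.hom hj' _).2 hsub
  haveI : Mono j'.hom := Groth.Agent.Lib.Helper12.LargestOpen.mono_of_open j'.hom hj'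
  have heaW : AlgSp.RepWith @Etale aW := by
    refine MorphismProperty.of_isPullback (P := AlgSp.RepWith @Etale)
      (Groth.Agent.Lib.Helper12.LargestOpen.isPullback_id_of_mono aW j'.hom) ?_
    rw [haW]
    exact ha'
  refine ⟨Wo, V, aW, b, ι ≫ h, ⟨u, hW⟩, heaW, hb, ?_, ?_, ⊤, trivial, ?_⟩
  · show aW ≫ j'.hom ≫ f.hom = _
    rw [← Category.assoc, haW, hc']
  · apply Groth.Agent.Lib.Helper12.LargestOpen.injective_map_of_open j'.hom hj'
    rw [AlgSp.Points.map_ofPt, haW, Groth.Agent.S10176.ofPt_map_comp]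
    exact hu
  · haveI := good_lqf.comp
    show (@LocallyQuasiFinite ⊓ @LocallyOfFiniteType : MorphismProperty Scheme.{u})
      ((⊤ : Wo.left.Opens).ι ≫ (W.ι ≫ h.left))
    exact MorphismProperty.comp_mem _ _ _ (good_lqf.hEt _ inferInstance) hPW

/-- for `f` separated, the locally quasi-finite locus is representable over `Y`. -/
theorem exists_lqf_scheme_chart {X Y : AlgSp.Space S} (f : X ⟶ Y)
    (hsep : AlgSp.IsSeparatedMor f.hom) :
    ∃ (X' : AlgSp.Space S) (j' : X' ⟶ X), AlgSp.RepWith @IsOpenImmersion j'.hom ∧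
      Set.range (AlgSp.Points.map j'.hom) = lqfLocus f ∧
      AlgSp.LocP (@LocallyQuasiFinite ⊓ @LocallyOfFiniteType) (j' ≫ f).hom ∧
      AlgSp.IsSeparatedMor (j' ≫ f).hom ∧ AlgSp.Representable (j' ≫ f).hom := by
  obtain ⟨X', j', hj', hrange, hloc⟩ := exists_lqf_locus f
  haveI : Mono j'.hom := Groth.Agent.Lib.Helper12.LargestOpen.mono_of_open j'.hom hj'
  have hs : AlgSp.IsSeparatedMor (j' ≫ f).hom :=
    Groth.Agent.Lib.Helper12.Proper.isSeparatedMor_comp j'.hom f.hom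
      (Groth.Agent.Lib.Helper12.Proper.isSeparatedMor_of_mono j'.hom) hsep
  exact ⟨X', j', hj', hrange, hloc, hs, Groth.Agent.S10260.result (j' ≫ f) hloc hs⟩

/-- the scheme-level fibre product `Q = T ×_{Y₀} U` is the open subspace of `P = X ×_Y U` lying
over `X'`. -/
theorem exists_open_of_chart_pullback {X X' Y P : AlgSp.Space S} (f : X ⟶ Y) (j' : X' ⟶ X)
    (hj' : AlgSp.RepWith @IsOpenImmersion j'.hom)
    {Y₀ T₀ Uo Q : Over S} (b : (AlgSp.yon S).obj Y₀ ⟶ Y.obj) (h : T₀ ⟶ Y₀)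
    (fstT : (AlgSp.yon S).obj T₀ ⟶ X'.obj)
    (sqT : IsPullback fstT ((AlgSp.yon S).map h) (j' ≫ f).hom b)
    (go : Uo ⟶ Y₀) (qT : Q ⟶ T₀) (qU : Q ⟶ Uo) (hw : qT ≫ h = qU ≫ go)
    (sqQ : IsPullback qT.left qU.left h.left go.left)
    (prX : P.obj ⟶ X.obj) (prU : P.obj ⟶ (AlgSp.yon S).obj Uo)
    (sqP : IsPullback prX prU f.hom ((AlgSp.yon S).map go ≫ b)) :
    ∃ κ : (AlgSp.yon S).obj Q ⟶ P.obj, AlgSp.RepWith @IsOpenImmersion κ ∧
      κ ≫ prX = (AlgSp.yon S).map qT ≫ fstT ≫ j'.hom ∧ κ ≫ prU = (AlgSp.yon S).map qU ∧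
      Set.range (AlgSp.Points.map κ) =
        AlgSp.Points.map prX ⁻¹' Set.range (AlgSp.Points.map j'.hom) := by
  have sqQ' : IsPullback ((AlgSp.yon S).map qT) ((AlgSp.yon S).map qU) ((AlgSp.yon S).map h)
      ((AlgSp.yon S).map go) :=
    Groth.Agent.Lib.H5bFibCrit.isPullback_yon_of_left qT qU h go hw sqQ
  have big : IsPullback ((AlgSp.yon S).map qT ≫ fstT) ((AlgSp.yon S).map qU) (j' ≫ f).hom
      ((AlgSp.yon S).map go ≫ b) := sqQ'.paste_horiz sqT
  have comm : ((AlgSp.yon S).map qT ≫ fstT ≫ j'.hom) ≫ f.hom =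
      (AlgSp.yon S).map qU ≫ (AlgSp.yon S).map go ≫ b := by
    have := big.w
    simpa [Category.assoc] using this
  let κ : (AlgSp.yon S).obj Q ⟶ P.obj :=
    sqP.lift ((AlgSp.yon S).map qT ≫ fstT ≫ j'.hom) ((AlgSp.yon S).map qU) comm
  have hκ1 : κ ≫ prX = (AlgSp.yon S).map qT ≫ fstT ≫ j'.hom := sqP.lift_fst _ _ _
  have hκ2 : κ ≫ prU = (AlgSp.yon S).map qU := sqP.lift_snd _ _ _
  have big' : IsPullback ((AlgSp.yon S).map qT ≫ fstT) (κ ≫ prU) (j'.hom ≫ f.hom)
      ((AlgSp.yon S).map go ≫ b) := by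
    rw [hκ2]
    exact big
  have top : IsPullback ((AlgSp.yon S).map qT ≫ fstT) κ j'.hom prX :=
    IsPullback.of_bot big' (by rw [hκ1, Category.assoc]) sqP
  refine ⟨κ, MorphismProperty.of_isPullback (P := AlgSp.RepWith @IsOpenImmersion) top hj', hκ1,
    hκ2, ?_⟩
  exact Groth.Agent.Lib.Helper12.OpenSub.range_map_fst_of_isPullback top.flip

/-- an open subspace of `P`, finite over `U` with `P ⟶ U` separated, is also closed in `P`. -/
theorem closedImmersion_of_finite_comp {V P U : AlgSp.Space S} (jV : V ⟶ P) (prU : P ⟶ U)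
    (hjV : AlgSp.RepWith @IsOpenImmersion jV.hom) (hsep : AlgSp.IsSeparatedMor prU.hom)
    (hfin : AlgSp.IsFiniteMor (jV ≫ prU).hom) : AlgSp.RepWith @IsClosedImmersion jV.hom := by
  haveI : Mono jV.hom := Groth.Agent.Lib.Helper12.LargestOpen.mono_of_open jV.hom hjV
  have hUC : AlgSp.IsUnivClosedMor jV.hom :=
    isUnivClosedMor_of_comp jV prU
      (Groth.Agent.Lib.Helper12.ProperLoc.isProperMor_of_isFiniteMor (jV ≫ prU) hfin).2.2 hsep
  have hlft : AlgSp.LocP @LocallyOfFiniteType jV.hom :=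
    locP_of_repWith good_lft jV.hom
      (Groth.Agent.Lib.Helper12.OpenSub.repWith_mono
        (fun _ _ g hg => by haveI : IsOpenImmersion g := hg; infer_instance) hjV)
  exact (closedImmersion_tfae jV).2.2.1.2 ⟨hUC, hlft, inferInstance⟩

end Groth.Agent.Lib.H5bEtLoc
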