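import Mathlib

/-!
# Scheme-level finiteness lemmas for étale localization (helper5)

* `finite_quasiFiniteAt_fiber`: a finite type morphism is quasi-finite at only finitely many points
  of a given fibre;
* `finite_points_over`: in a fibre product `M = Xk ×_pt R` with `pt` a one-point scheme and `Xk`
  locally quasi-finite over it, only finitely many points lie over a given pair of points.
-/

set_option autoImplicit false
set_option linter.style.haveILetI false
universe u

open CategoryTheory CategoryTheory.Limits AlgebraicGeometry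

namespace Groth.Agent.Lib.H5bEtLocSch

theorem finite_quasiFiniteAt_fiber {A W : Scheme.{u}} (m : A ⟶ W) [LocallyOfFiniteType m]
    [QuasiCompact m] (w : W) : {a : A | m a = w ∧ m.QuasiFiniteAt a}.Finite := by
  haveI : LocallyOfFiniteType (m.fiberToSpecResidueField w) :=
    MorphismProperty.pullback_snd _ _ inferInstance
  haveI : IsLocallyNoetherian (m.fiber w) :=
    LocallyOfFiniteType.isLocallyNoetherian (m.fiberToSpecResidueField w)
  haveI : IsNoetherian (m.fiber w) := {}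
  have hD : {z : m.fiber w | IsOpen ({z} : Set (m.fiber w))}.Finite := by
    refine (TopologicalSpace.NoetherianSpace.isCompact _).finite ⟨?_⟩
    rw [discreteTopology_iff_isOpen_singleton]
    rintro ⟨z, hz⟩
    have : ({⟨z, hz⟩} : Set {z : m.fiber w | IsOpen ({z} : Set (m.fiber w))}) =
        Subtype.val ⁻¹' {z} := by
      ext ⟨a, ha⟩
      simp [Subtype.ext_iff]
    rw [this]
    exact hz.preimage continuous_subtype_val
  refine (hD.image (m.fiberι w)).subset ?_
  rintro a ⟨rfl, hq⟩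
  exact ⟨m.asFiber a, Scheme.Hom.quasiFiniteAt_iff_isOpen_singleton_asFiber.1 hq,
    m.fiberι_asFiber a⟩

theorem finite_points_over {Xk pt R M : Scheme.{u}} (hk : Xk ⟶ pt) (ρ : R ⟶ pt) (χ : M ⟶ Xk)
    (lam : M ⟶ R) (sq : IsPullback χ lam hk ρ) [LocallyQuasiFinite hk] [Subsingleton pt]
    [QuasiSeparatedSpace pt] (ξ : Xk) (r₀ : R) : {m : M | χ m = ξ ∧ lam m = r₀}.Finite := by
  have hdisc : DiscreteTopology Xk := by
    have h1 := hk.isDiscrete_preimage_singleton (hk ξ)
    have huniv : hk ⁻¹' {hk ξ} = Set.univ := by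
      ext x
      simp [Subsingleton.elim (hk x) (hk ξ)]
    rw [huniv] at h1
    exact isDiscrete_univ_iff.1 h1
  let O : Xk.Opens := ⟨{ξ}, isOpen_discrete _⟩
  haveI : Subsingleton ↥O.toScheme := ⟨fun a b => Subtype.ext (a.2.trans b.2.symm)⟩
  haveI : CompactSpace ↥O.toScheme := inferInstance
  have sq1 : IsPullback (χ ∣_ O) (χ ⁻¹ᵁ O).ι O.ι χ := isPullback_morphismRestrict χ O
  have sq2 : IsPullback (χ ∣_ O) ((χ ⁻¹ᵁ O).ι ≫ lam) (O.ι ≫ hk) ρ := sq1.paste_vert sq
  haveI : LocallyQuasiFinite (O.ι ≫ hk) := inferInstance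
  haveI : QuasiCompact (O.ι ≫ hk) := inferInstance
  haveI : LocallyQuasiFinite ((χ ⁻¹ᵁ O).ι ≫ lam) :=
    MorphismProperty.of_isPullback (P := @LocallyQuasiFinite) sq2 inferInstance
  haveI : QuasiCompact ((χ ⁻¹ᵁ O).ι ≫ lam) :=
    MorphismProperty.of_isPullback (P := @QuasiCompact) sq2 inferInstance
  have hfin := ((χ ⁻¹ᵁ O).ι ≫ lam).finite_preimage_singleton r₀
  refine (hfin.image (χ ⁻¹ᵁ O).ι).subset ?_
  rintro m ⟨h1, h2⟩
  have hm : m ∈ χ ⁻¹ᵁ O := by
    show χ m ∈ ({ξ} : Set Xk)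
    rw [h1]
    rfl
  refine ⟨⟨m, hm⟩, ?_, rfl⟩
  show ((χ ⁻¹ᵁ O).ι ≫ lam) ⟨m, hm⟩ = r₀
  rw [Scheme.Hom.comp_apply]
  exact h2

end Groth.Agent.Lib.H5bEtLocSch
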