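import Mathlib
import Groth.Agent.Lib.H5bEtLoc
import Groth.Agent.Lib.H5bEtLocSch

/-!
# Étale localization of quasi-finite morphisms of algebraic spaces: finiteness of the fibre (helper5)

In the situation of `H5bEtLoc` (`X' ⊂ X` the locally quasi-finite locus, `T₀ = X' ×_Y Y₀` a scheme):

* `finite_fibre_of_qc`: if `f` is quasi-compact then `T₀ ⟶ Y₀` has finite fibres;
* `finite_over_of_decent`: if `Y` is decent then only finitely many points of `T₀` lie over a given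
  pair of points of `X'` and `Y₀`.
-/

set_option autoImplicit false
set_option linter.style.haveILetI false
set_option linter.unusedSectionVars false
set_option linter.unusedSimpArgs false
set_option linter.unusedVariables false
universe u

open CategoryTheory CategoryTheory.Limits AlgebraicGeometry AlgSp Opposite

namespace Groth.Agent.Lib.H5bEtLoc

open Groth.Agent.Lib.Helper12.LocPCases Groth.Agent.Lib.H5bBoot

variable {S : Scheme.{u}}

/-- a monomorphism of sheaves is injective on points (source and target algebraic spaces). -/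
theorem injective_map_of_mono {X Y : AlgSp.Space S} (f : X ⟶ Y) [Mono f.hom] :
    Function.Injective (AlgSp.Points.map f.hom) :=
  (isUnivInjectiveMor_of_mono f) Y.property (𝟙 Y.obj) (𝟙 X.obj) f.hom IsPullback.of_id_fst

theorem finite_fibre_of_qc {X X' Y : AlgSp.Space S} (f : X ⟶ Y) (j' : X' ⟶ X)
    (hj' : AlgSp.RepWith @IsOpenImmersion j'.hom)
    (hlft : AlgSp.LocP @LocallyOfFiniteType f.hom)
    (hloc : AlgSp.LocP (@LocallyQuasiFinite ⊓ @LocallyOfFiniteType) (j' ≫ f).hom)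
    (hqc : AlgSp.IsQuasiCompactMor f.hom)
    {Y₀ T₀ : Over S} (b : (AlgSp.yon S).obj Y₀ ⟶ Y.obj) (hbe : AlgSp.RepWith @Etale b)
    (h : T₀ ⟶ Y₀) (fstT : (AlgSp.yon S).obj T₀ ⟶ X'.obj)
    (sqT : IsPullback fstT ((AlgSp.yon S).map h) (j' ≫ f).hom b) (y₀ : ↥Y₀.left) :
    {t : ↥T₀.left | h.left t = y₀}.Finite := by
  have hlqf : (@LocallyQuasiFinite ⊓ @LocallyOfFiniteType : MorphismProperty Scheme.{u}) h.left :=
    AlgSp.locP_yon_map (good_lqf.locP_baseChange X'.property Y.property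
      (AlgSp.IsAlgSpace.yon_obj Y₀) sqT hloc)
  haveI : LocallyQuasiFinite h.left := hlqf.1
  haveI : LocallyOfFiniteType h.left := hlqf.2
  -- an affine open neighbourhood of `y₀`
  obtain ⟨W₀', hW₀', hyW₀', -⟩ :=
    TopologicalSpace.Opens.isBasis_iff_nbhd.mp Y₀.left.isBasis_affineOpens
      (U := ⊤) (x := y₀) trivial
  obtain ⟨W₀, hW₀, hyW₀⟩ : ∃ W₀ : Y₀.left.Opens, IsAffineOpen W₀ ∧ y₀ ∈ W₀ := ⟨W₀', hW₀', hyW₀'⟩
  let Wo : Over S := Over.mk (W₀.ι ≫ Y₀.hom)
  let ιW : Wo ⟶ Y₀ := Over.homMk W₀.ι rfl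
  haveI : IsAffine Wo.left := hW₀
  let gW : (AlgSp.yon S).obj Wo ⟶ Y.obj := (AlgSp.yon S).map ιW ≫ b
  have sqZ := IsPullback.of_hasPullback f.hom gW
  have hZ : AlgSp.IsAlgSpace (pullback f.hom gW) :=
    Groth.Agent.S9874.isAlgSpace_of_isPullback Y.property.diag X.property
      (AlgSp.IsAlgSpace.yon_obj Wo) sqZ
  have hWqc : AlgSp.IsQuasiCompactSp ((AlgSp.yon S).obj Wo) :=
    ⟨Wo, 𝟙 _, AlgSp.repWith_id _ Wo, AlgSp.repWith_id _ Wo, (inferInstance : CompactSpace ↥Wo.left)⟩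
  obtain ⟨A, pA, hpAe, hpAs, hAc⟩ :=
    hqc (AlgSp.IsAlgSpace.yon_obj Wo) hWqc gW (pullback.fst f.hom gW) (pullback.snd f.hom gW) sqZ
  haveI : CompactSpace ↥A.left := hAc
  -- the open subscheme of `T₀` over `W₀`
  let TW : T₀.left.Opens := h.left ⁻¹ᵁ W₀
  let TWo : Over S := Over.mk (TW.ι ≫ T₀.hom)
  let ιT : TWo ⟶ T₀ := Over.homMk TW.ι rfl
  let hW : TWo ⟶ Wo := Over.homMk (h.left ∣_ W₀) (by
    show (h.left ∣_ W₀) ≫ W₀.ι ≫ Y₀.hom = TW.ι ≫ T₀.hom
    rw [← Category.assoc, morphismRestrict_ι, Category.assoc, Over.w h])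
  have hwW : ιT ≫ h = hW ≫ ιW := by
    ext
    exact (morphismRestrict_ι _ _).symm
  have sqQ : IsPullback ιT.left hW.left h.left ιW.left :=
    (isPullback_morphismRestrict h.left W₀).flip
  obtain ⟨c, hco, hc1, hc2, -⟩ :=
    exists_open_of_chart_pullback (P := ⟨pullback f.hom gW, hZ⟩) f j' hj' b h fstT sqT ιW ιT hW hwW
      sqQ (pullback.fst f.hom gW) (pullback.snd f.hom gW) sqZ
  -- pull the chart `A` back to `TW`
  obtain ⟨A'', α, β', sqA⟩ := hpAe.1 c
  have hαe : Etale α.left := hpAe.2 c β' α sqA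
  have hαs : Surjective α.left := hpAs.2 c β' α sqA
  obtain ⟨β, rfl⟩ := (AlgSp.yon S).map_surjective β'
  haveI hβo : IsOpenImmersion β.left :=
    (AlgSp.repWith_yon_map_iff @IsOpenImmersion β).1
      (MorphismProperty.of_isPullback (P := AlgSp.RepWith @IsOpenImmersion) sqA.flip hco)
  obtain ⟨m, hm⟩ := (AlgSp.yon S).map_surjective (pA ≫ pullback.snd f.hom gW)
  have hmlft : AlgSp.LocP @LocallyOfFiniteType ((AlgSp.yon S).map m) := by
    rw [hm]
    exact good_lft.locP_comp hZ (AlgSp.IsAlgSpace.yon_obj Wo) pA _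
      (locP_of_repWith good_lft pA (Groth.Agent.Lib.Helper12.OpenSub.repWith_mono
        (fun _ _ g hg => by haveI : Etale g := hg; infer_instance) hpAe))
      (good_lft.locP_baseChange X.property Y.property (AlgSp.IsAlgSpace.yon_obj Wo) sqZ hlft)
  haveI : LocallyOfFiniteType m.left := AlgSp.locP_yon_map hmlft
  haveI : QuasiCompact m.left := inferInstance
  have hβm : β ≫ m = α ≫ hW := by
    apply (AlgSp.yon S).map_injective
    rw [Functor.map_comp, Functor.map_comp, hm, ← Category.assoc, sqA.w, Category.assoc, hc2]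
  have hβml : β.left ≫ m.left = α.left ≫ hW.left := congrArg (fun k => k.left) hβm
  -- quasi-finiteness of `m` at the points of `A''`
  haveI : Etale α.left := hαe
  haveI : LocallyQuasiFinite α.left := (good_lqf.hEt _ hαe).1
  haveI : LocallyQuasiFinite hW.left :=
    MorphismProperty.of_isPullback (P := @LocallyQuasiFinite) sqQ inferInstance
  haveI : LocallyQuasiFinite (β.left ≫ m.left) := by
    rw [hβml]
    infer_instance
  let w₀ : ↥Wo.left := ⟨y₀, hyW₀⟩
  have hD := Groth.Agent.Lib.H5bEtLocSch.finite_quasiFiniteAt_fiber m.left w₀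
  have hD' : (β.left ⁻¹' {a : ↥A.left | m.left a = w₀ ∧ m.left.QuasiFiniteAt a}).Finite :=
    hD.preimage (β.left.isOpenEmbedding.injective.injOn)
  refine (hD'.image (fun a'' => ιT.left (α.left a''))).subset ?_
  rintro t (ht : h.left t = y₀)
  have htW : t ∈ TW := by
    show h.left t ∈ W₀
    rw [ht]
    exact hyW₀
  obtain ⟨a'', ha''⟩ := hαs.surj (⟨t, htW⟩ : ↥TWo.left)
  refine ⟨a'', ⟨?_, ?_⟩, ?_⟩
  · have e1 : m.left (β.left a'') = hW.left (α.left a'') := by
      rw [← Scheme.Hom.comp_apply, ← Scheme.Hom.comp_apply, hβml]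
    rw [e1, ha'']
    apply Subtype.ext
    show ((h.left ∣_ W₀) ⟨t, htW⟩).1 = y₀
    have e2 : W₀.ι ((h.left ∣_ W₀) ⟨t, htW⟩) = h.left (TW.ι ⟨t, htW⟩) := by
      rw [← Scheme.Hom.comp_apply, ← Scheme.Hom.comp_apply, morphismRestrict_ι]
    exact e2.trans ht
  · exact Scheme.Hom.quasiFiniteAt_comp_iff_of_isOpenImmersion.1
      ((β.left ≫ m.left).quasiFiniteAt a'')
  · show ιT.left (α.left a'') = t
    rw [ha'']
    rfl

theorem finite_over_of_decent {X X' Y : AlgSp.Space S} (f : X ⟶ Y) (j' : X' ⟶ X)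
    (hloc : AlgSp.LocP (@LocallyQuasiFinite ⊓ @LocallyOfFiniteType) (j' ≫ f).hom)
    (hrep : AlgSp.Representable (j' ≫ f).hom) (hdec : AlgSp.IsDecent Y.obj)
    {Y₀ T₀ : Over S} (b : (AlgSp.yon S).obj Y₀ ⟶ Y.obj)
    (h : T₀ ⟶ Y₀) (fstT : (AlgSp.yon S).obj T₀ ⟶ X'.obj)
    (sqT : IsPullback fstT ((AlgSp.yon S).map h) (j' ≫ f).hom b) (y₀ : ↥Y₀.left)
    (x' : AlgSp.Points X'.obj) :
    {t : ↥T₀.left | h.left t = y₀ ∧ AlgSp.Points.ofPt fstT t = x'}.Finite := by
  obtain ⟨p, hp, hpm, hpq⟩ := hdec (AlgSp.Points.ofPt b y₀)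
  haveI := hpm
  -- `R = pt ×_Y Y₀`
  obtain ⟨R, r, rfst, sqR⟩ := hpq.1 b
  obtain ⟨ρ, rfl⟩ := (AlgSp.yon S).map_surjective rfst
  let s₀ : ↥p.pt.left := IsLocalRing.closedPoint p.K
  have e0 : AlgSp.Points.map p.toHom (AlgSp.Points.ofScheme p.pt s₀) =
      AlgSp.Points.map b (AlgSp.Points.ofScheme Y₀ y₀) := by
    rw [← AlgSp.Points.ofPt_eq_map_ofScheme, ← AlgSp.Points.ofPt_eq_map_ofScheme,
      AlgSp.Points.ofPt_toHom, hp]
  obtain ⟨q, -, hq2⟩ := Groth.Agent.S10175.exists_point_of_isPullback sqR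
    (AlgSp.Points.ofScheme p.pt s₀) (AlgSp.Points.ofScheme Y₀ y₀) e0
  obtain ⟨r₀, rfl⟩ := (AlgSp.Points.schemeEquiv R).surjective q
  have hr₀ : r.left r₀ = y₀ :=
    (AlgSp.Points.schemeEquiv Y₀).injective ((AlgSp.Points.map_yon_map_apply r r₀).symm.trans hq2)
  -- `Xk = X' ×_Y pt`
  obtain ⟨Xk, hk, fstk, sqk⟩ := hrep p.toHom
  have hklqf : (@LocallyQuasiFinite ⊓ @LocallyOfFiniteType : MorphismProperty Scheme.{u}) hk.left :=
    AlgSp.locP_yon_map (good_lqf.locP_baseChange X'.property Y.property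
      (AlgSp.IsAlgSpace.yon_obj p.pt) sqk hloc)
  haveI : LocallyQuasiFinite hk.left := hklqf.1
  haveI : Mono fstk :=
    MorphismProperty.of_isPullback (P := MorphismProperty.monomorphisms _) sqk.flip
      (MorphismProperty.monomorphisms.infer_property p.toHom)
  have hmk : Mono fstk := inferInstance
  have hinjk : Function.Injective (AlgSp.Points.map fstk) :=
    @injective_map_of_mono S ((AlgSp.ofScheme S).obj Xk) X' (ObjectProperty.homMk fstk) hmk
  -- `M = T₀ ×_{Y₀} R`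
  let Mo : Over S := Over.mk (pullback.fst h.left r.left ≫ T₀.hom)
  let μ : Mo ⟶ T₀ := Over.homMk (pullback.fst h.left r.left) rfl
  let lam : Mo ⟶ R := Over.homMk (pullback.snd h.left r.left) (by
    show pullback.snd h.left r.left ≫ R.hom = pullback.fst h.left r.left ≫ T₀.hom
    rw [← Over.w r, ← Category.assoc, ← pullback.condition, Category.assoc, Over.w h])
  have hw : μ ≫ h = lam ≫ r := by
    ext
    exact pullback.condition
  have sqM : IsPullback μ.left lam.left h.left r.left := IsPullback.of_hasPullback _ _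
  have sqM' := Groth.Agent.Lib.H5bFibCrit.isPullback_yon_of_left μ lam h r hw sqM
  have big : IsPullback ((AlgSp.yon S).map μ ≫ fstT) ((AlgSp.yon S).map lam) (j' ≫ f).hom
      ((AlgSp.yon S).map r ≫ b) := sqM'.paste_horiz sqT
  have comm : ((AlgSp.yon S).map μ ≫ fstT) ≫ (j' ≫ f).hom =
      (AlgSp.yon S).map (lam ≫ ρ) ≫ p.toHom := by
    rw [big.w, Functor.map_comp, Category.assoc, sqR.w]
  obtain ⟨χ, hχ⟩ := (AlgSp.yon S).map_surjective
    (sqk.lift ((AlgSp.yon S).map μ ≫ fstT) ((AlgSp.yon S).map (lam ≫ ρ)) comm)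
  have hχ1 : (AlgSp.yon S).map χ ≫ fstk = (AlgSp.yon S).map μ ≫ fstT := by
    rw [hχ, sqk.lift_fst]
  have hχ2 : χ ≫ hk = lam ≫ ρ :=
    (AlgSp.yon S).map_injective (by rw [Functor.map_comp, hχ, sqk.lift_snd])
  have big' : IsPullback ((AlgSp.yon S).map χ ≫ fstk) ((AlgSp.yon S).map lam) (j' ≫ f).hom
      ((AlgSp.yon S).map ρ ≫ p.toHom) := by
    rw [hχ1, sqR.w]
    exact big
  have sqL : IsPullback ((AlgSp.yon S).map χ) ((AlgSp.yon S).map lam) ((AlgSp.yon S).map hk)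
      ((AlgSp.yon S).map ρ) :=
    IsPullback.of_right big' (by rw [← Functor.map_comp, ← Functor.map_comp, hχ2]) sqk
  have sqO : IsPullback χ lam hk ρ := IsPullback.of_map (AlgSp.yon S) hχ2 sqL
  have sqS : IsPullback χ.left lam.left hk.left ρ.left := sqO.map (Over.forget S)
  haveI : Subsingleton ↥p.pt.left := (inferInstance : Subsingleton (PrimeSpectrum p.K))
  haveI : QuasiSeparatedSpace ↥p.pt.left :=
    (inferInstance : QuasiSeparatedSpace ↥(Spec (CommRingCat.of p.K)))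
  by_cases hE : ∃ t₀ : ↥T₀.left, h.left t₀ = y₀ ∧ AlgSp.Points.ofPt fstT t₀ = x'
  · obtain ⟨t₀, ht₀1, ht₀2⟩ := hE
    obtain ⟨m₀, hm₀1, hm₀2⟩ :=
      Scheme.Pullback.exists_preimage_pullback (f := h.left) (g := r.left) t₀ r₀
        (ht₀1.trans hr₀.symm)
    have key := Groth.Agent.Lib.H5bEtLocSch.finite_points_over hk.left ρ.left χ.left lam.left sqS
      (χ.left m₀) r₀
    refine (key.image μ.left).subset ?_
    rintro t ⟨ht1, ht2⟩
    obtain ⟨m, hm1, hm2⟩ :=
      Scheme.Pullback.exists_preimage_pullback (f := h.left) (g := r.left) t r₀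
        (ht1.trans hr₀.symm)
    refine ⟨m, ⟨?_, hm2⟩, hm1⟩
    have e : ∀ m' : ↥Mo.left, AlgSp.Points.ofPt fstk (χ.left m') =
        AlgSp.Points.ofPt fstT (μ.left m') := fun m' => by
      rw [← Groth.Agent.S10176.ofPt_map_comp, ← Groth.Agent.S10176.ofPt_map_comp, hχ1]
    apply (AlgSp.Points.schemeEquiv Xk).injective
    apply hinjk
    show AlgSp.Points.map fstk (AlgSp.Points.ofScheme Xk (χ.left m)) =
      AlgSp.Points.map fstk (AlgSp.Points.ofScheme Xk (χ.left m₀))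
    rw [← AlgSp.Points.ofPt_eq_map_ofScheme, ← AlgSp.Points.ofPt_eq_map_ofScheme, e, e]
    have e1 : μ.left m = t := hm1
    have e2 : μ.left m₀ = t₀ := hm₀1
    rw [e1, e2, ht2, ht₀2]
  · refine Set.Finite.subset Set.finite_empty ?_
    rintro t ⟨ht1, ht2⟩
    exact (hE ⟨t, ht1, ht2⟩).elim

end Groth.Agent.Lib.H5bEtLoc
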