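import Mathlib
import Groth.Prelude.Def_Desc
import Groth.Prelude.Def_SGA1
import Groth.Agent.Lib.Helper20EtDesc
import Groth.Agent.S2912

/-!
# Étale schemes over a radicial fpqc covering carry a canonical descent datum (helper5)

For `g : S' ⟶ S` universally injective and `U'` étale over `S'`, any two `T`-points `x₀, x₁` of `S'`
with the same image in `S` agree on a surjective immersion `e : E ⟶ T`; étale-ness of `U'` gives a
unique transport of lifts from `x₀` to `x₁`, which is a descent datum.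
-/

set_option autoImplicit false
set_option linter.style.haveILetI false
set_option linter.unusedVariables false
set_option linter.unusedSectionVars false
universe u

open CategoryTheory CategoryTheory.Limits AlgebraicGeometry MorphismProperty

namespace Groth.Agent.Lib.H5bEtRad

open Desc

/-- surjective immersions are universally submersive. -/
lemma univSubmersive_of_surjective_immersion {A B : Scheme.{u}} (e : A ⟶ B) [IsImmersion e]
    [Surjective e] : SGA1.UnivSubmersive e := by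
  intro X' Y' i₁ i₂ f' hsq
  haveI : IsImmersion f' := MorphismProperty.of_isPullback (P := @IsImmersion) hsq.flip inferInstance
  haveI : Surjective f' := MorphismProperty.of_isPullback (P := @Surjective) hsq.flip inferInstance
  show Topology.IsQuotientMap f'
  have : IsHomeomorph f' := by
    rw [isHomeomorph_iff_isEmbedding_surjective]
    exact ⟨f'.isEmbedding, f'.surjective⟩
  exact this.isQuotientMap

/-- flat surjective quasi-compact morphisms are universally submersive. -/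
lemma univSubmersive_of_fpqc {A B : Scheme.{u}} (g : A ⟶ B) [Flat g] [Surjective g]
    [QuasiCompact g] : SGA1.UnivSubmersive g := by
  intro X' Y' i₁ i₂ f' hsq
  haveI : Flat f' := MorphismProperty.of_isPullback (P := @Flat) hsq.flip inferInstance
  haveI : Surjective f' := MorphismProperty.of_isPullback (P := @Surjective) hsq.flip inferInstance
  haveI : QuasiCompact f' :=
    MorphismProperty.of_isPullback (P := @QuasiCompact) hsq.flip inferInstance
  exact Flat.isQuotientMap_of_surjective f'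

section Eq

variable {S S' : Scheme.{u}} (g : S' ⟶ S) {T : Scheme.{u}} (x₀ x₁ : T ⟶ S')
  (h : x₀ ≫ g = x₁ ≫ g)

/-- the locus of `T` on which `x₀ = x₁`. -/
noncomputable abbrev E : Scheme.{u} := pullback (pullback.lift x₀ x₁ h) (pullback.diagonal g)

/-- the inclusion of the locus on which `x₀ = x₁`. -/
noncomputable abbrev e : E g x₀ x₁ h ⟶ T := pullback.fst _ _

lemma e_comp : e g x₀ x₁ h ≫ x₀ = e g x₀ x₁ h ≫ x₁ := by
  have h0 : e g x₀ x₁ h ≫ x₀ = pullback.snd (pullback.lift x₀ x₁ h) (pullback.diagonal g) :=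
    calc e g x₀ x₁ h ≫ x₀ = e g x₀ x₁ h ≫ (pullback.lift x₀ x₁ h ≫ pullback.fst g g) := by
          rw [pullback.lift_fst]
      _ = (e g x₀ x₁ h ≫ pullback.lift x₀ x₁ h) ≫ pullback.fst g g := (Category.assoc _ _ _).symm
      _ = (pullback.snd (pullback.lift x₀ x₁ h) (pullback.diagonal g) ≫ pullback.diagonal g) ≫
            pullback.fst g g := by rw [pullback.condition]
      _ = _ := by rw [Category.assoc, pullback.diagonal_fst, Category.comp_id]
  have h1 : e g x₀ x₁ h ≫ x₁ = pullback.snd (pullback.lift x₀ x₁ h) (pullback.diagonal g) :=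
    calc e g x₀ x₁ h ≫ x₁ = e g x₀ x₁ h ≫ (pullback.lift x₀ x₁ h ≫ pullback.snd g g) := by
          rw [pullback.lift_snd]
      _ = (e g x₀ x₁ h ≫ pullback.lift x₀ x₁ h) ≫ pullback.snd g g := (Category.assoc _ _ _).symm
      _ = (pullback.snd (pullback.lift x₀ x₁ h) (pullback.diagonal g) ≫ pullback.diagonal g) ≫
            pullback.snd g g := by rw [pullback.condition]
      _ = _ := by rw [Category.assoc, pullback.diagonal_snd, Category.comp_id]
  rw [h0, h1]

instance : IsImmersion (e g x₀ x₁ h) := by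
  unfold e
  infer_instance

instance [UniversallyInjective g] : Surjective (e g x₀ x₁ h) := by
  haveI : Surjective (pullback.diagonal g) := (UniversallyInjective.iff_diagonal g).mp inferInstance
  unfold e
  infer_instance

variable [UniversallyInjective g] (U' : Over S') [Etale U'.hom]

lemma exists_unique_transport (v : Lifts U' x₀) :
    ∃! v' : T ⟶ U'.left, v' ≫ U'.hom = x₁ ∧ e g x₀ x₁ h ≫ v' = e g x₀ x₁ h ≫ v.1 := by
  refine Groth.Agent.Lib.Helper20.EtDesc.exists_unique_lift_of_univSubmersive (e g x₀ x₁ h)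
    (univSubmersive_of_surjective_immersion _) U'.hom x₁ (e g x₀ x₁ h ≫ v.1) ?_ ?_
  · rw [Category.assoc, v.2, e_comp]
  · have : pullback.fst (e g x₀ x₁ h) (e g x₀ x₁ h) = pullback.snd (e g x₀ x₁ h) (e g x₀ x₁ h) := by
      rw [← cancel_mono (e g x₀ x₁ h)]; exact pullback.condition
    rw [this]

/-- transport of lifts from `x₀` to `x₁`. -/
noncomputable def tr (v : Lifts U' x₀) : Lifts U' x₁ :=
  ⟨(exists_unique_transport g x₀ x₁ h U' v).choose,
    (exists_unique_transport g x₀ x₁ h U' v).choose_spec.1.1⟩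

lemma e_tr (v : Lifts U' x₀) :
    e g x₀ x₁ h ≫ (tr g x₀ x₁ h U' v).1 = e g x₀ x₁ h ≫ v.1 :=
  (exists_unique_transport g x₀ x₁ h U' v).choose_spec.1.2

/-- the transport is characterised by agreeing with the given lift on a surjective family. -/
lemma tr_eq_of_surjective (v : Lifts U' x₀) (v' : Lifts U' x₁) {A : Scheme.{u}} (k : A ⟶ T)
    [Surjective k] (hk : k ≫ v'.1 = k ≫ v.1) : tr g x₀ x₁ h U' v = v' := by
  apply Subtype.ext
  refine Groth.Agent.Lib.Helper20.EtDesc.hom_ext_of_surjective U'.hom _ _ ?_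
    (pullback.fst k (e g x₀ x₁ h) ≫ k) ?_
  · rw [(tr g x₀ x₁ h U' v).2, v'.2]
  · calc (pullback.fst k (e g x₀ x₁ h) ≫ k) ≫ (tr g x₀ x₁ h U' v).1
        = (pullback.snd k (e g x₀ x₁ h) ≫ e g x₀ x₁ h) ≫ (tr g x₀ x₁ h U' v).1 := by
          rw [pullback.condition]
      _ = pullback.snd k (e g x₀ x₁ h) ≫ (e g x₀ x₁ h ≫ (tr g x₀ x₁ h U' v).1) :=
          Category.assoc _ _ _
      _ = pullback.snd k (e g x₀ x₁ h) ≫ (e g x₀ x₁ h ≫ v.1) := by rw [e_tr]
      _ = (pullback.snd k (e g x₀ x₁ h) ≫ e g x₀ x₁ h) ≫ v.1 := (Category.assoc _ _ _).symm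
      _ = (pullback.fst k (e g x₀ x₁ h) ≫ k) ≫ v.1 := by rw [← pullback.condition]
      _ = pullback.fst k (e g x₀ x₁ h) ≫ (k ≫ v.1) := Category.assoc _ _ _
      _ = pullback.fst k (e g x₀ x₁ h) ≫ (k ≫ v'.1) := by rw [hk]
      _ = (pullback.fst k (e g x₀ x₁ h) ≫ k) ≫ v'.1 := (Category.assoc _ _ _).symm

end Eq

section DD

variable {S S' : Scheme.{u}} (g : S' ⟶ S) [UniversallyInjective g] (U' : Over S') [Etale U'.hom]

/-- the canonical descent datum on an étale scheme over a radicial covering. -/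
noncomputable def dd : SchDD g where
  obj := U'
  φ T x₀ x₁ h :=
    { toFun := tr g x₀ x₁ h U'
      invFun := tr g x₁ x₀ h.symm U'
      left_inv := fun v =>
        tr_eq_of_surjective g x₁ x₀ h.symm U' _ v (e g x₀ x₁ h) (e_tr g x₀ x₁ h U' v).symm
      right_inv := fun v =>
        tr_eq_of_surjective g x₀ x₁ h U' _ v (e g x₁ x₀ h.symm) (e_tr g x₁ x₀ h.symm U' v).symm }
  φ_natural T T' g' x₀ x₁ h h' v v' hv' := by
    have key := tr_eq_of_surjective g (g' ≫ x₀) (g' ≫ x₁) h' U' v'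
      ⟨g' ≫ (tr g x₀ x₁ h U' v).1, by rw [Category.assoc, (tr g x₀ x₁ h U' v).2]⟩
      (pullback.fst g' (e g x₀ x₁ h)) (by
        show pullback.fst g' (e g x₀ x₁ h) ≫ (g' ≫ (tr g x₀ x₁ h U' v).1) =
          pullback.fst g' (e g x₀ x₁ h) ≫ v'.1
        calc pullback.fst g' (e g x₀ x₁ h) ≫ (g' ≫ (tr g x₀ x₁ h U' v).1)
            = (pullback.fst g' (e g x₀ x₁ h) ≫ g') ≫ (tr g x₀ x₁ h U' v).1 :=
              (Category.assoc _ _ _).symm
          _ = (pullback.snd g' (e g x₀ x₁ h) ≫ e g x₀ x₁ h) ≫ (tr g x₀ x₁ h U' v).1 := by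
              rw [pullback.condition]
          _ = pullback.snd g' (e g x₀ x₁ h) ≫ (e g x₀ x₁ h ≫ (tr g x₀ x₁ h U' v).1) :=
              Category.assoc _ _ _
          _ = pullback.snd g' (e g x₀ x₁ h) ≫ (e g x₀ x₁ h ≫ v.1) := by rw [e_tr]
          _ = (pullback.snd g' (e g x₀ x₁ h) ≫ e g x₀ x₁ h) ≫ v.1 := (Category.assoc _ _ _).symm
          _ = (pullback.fst g' (e g x₀ x₁ h) ≫ g') ≫ v.1 := by rw [← pullback.condition]
          _ = pullback.fst g' (e g x₀ x₁ h) ≫ (g' ≫ v.1) := Category.assoc _ _ _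
          _ = pullback.fst g' (e g x₀ x₁ h) ≫ v'.1 := by rw [hv'])
    exact congrArg Subtype.val key
  φ_self T x v := tr_eq_of_surjective g x x rfl U' v v (𝟙 T) rfl
  φ_comp T x₀ x₁ x₂ h₀₁ h₁₂ v := by
    refine (tr_eq_of_surjective g x₀ x₂ (h₀₁.trans h₁₂) U' v _
      (pullback.fst (e g x₀ x₁ h₀₁) (e g x₁ x₂ h₁₂) ≫ e g x₀ x₁ h₀₁) ?_).symm
    show (pullback.fst (e g x₀ x₁ h₀₁) (e g x₁ x₂ h₁₂) ≫ e g x₀ x₁ h₀₁) ≫
        (tr g x₁ x₂ h₁₂ U' (tr g x₀ x₁ h₀₁ U' v)).1 =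
      (pullback.fst (e g x₀ x₁ h₀₁) (e g x₁ x₂ h₁₂) ≫ e g x₀ x₁ h₀₁) ≫ v.1
    calc (pullback.fst (e g x₀ x₁ h₀₁) (e g x₁ x₂ h₁₂) ≫ e g x₀ x₁ h₀₁) ≫
          (tr g x₁ x₂ h₁₂ U' (tr g x₀ x₁ h₀₁ U' v)).1
        = (pullback.snd (e g x₀ x₁ h₀₁) (e g x₁ x₂ h₁₂) ≫ e g x₁ x₂ h₁₂) ≫
          (tr g x₁ x₂ h₁₂ U' (tr g x₀ x₁ h₀₁ U' v)).1 := by rw [pullback.condition]
      _ = pullback.snd (e g x₀ x₁ h₀₁) (e g x₁ x₂ h₁₂) ≫ (e g x₁ x₂ h₁₂ ≫
          (tr g x₁ x₂ h₁₂ U' (tr g x₀ x₁ h₀₁ U' v)).1) := Category.assoc _ _ _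
      _ = pullback.snd (e g x₀ x₁ h₀₁) (e g x₁ x₂ h₁₂) ≫ (e g x₁ x₂ h₁₂ ≫
          (tr g x₀ x₁ h₀₁ U' v).1) := by rw [e_tr]
      _ = (pullback.snd (e g x₀ x₁ h₀₁) (e g x₁ x₂ h₁₂) ≫ e g x₁ x₂ h₁₂) ≫
          (tr g x₀ x₁ h₀₁ U' v).1 := (Category.assoc _ _ _).symm
      _ = (pullback.fst (e g x₀ x₁ h₀₁) (e g x₁ x₂ h₁₂) ≫ e g x₀ x₁ h₀₁) ≫
          (tr g x₀ x₁ h₀₁ U' v).1 := by rw [← pullback.condition]
      _ = pullback.fst (e g x₀ x₁ h₀₁) (e g x₁ x₂ h₁₂) ≫ (e g x₀ x₁ h₀₁ ≫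
          (tr g x₀ x₁ h₀₁ U' v).1) := Category.assoc _ _ _
      _ = pullback.fst (e g x₀ x₁ h₀₁) (e g x₁ x₂ h₁₂) ≫ (e g x₀ x₁ h₀₁ ≫ v.1) := by rw [e_tr]
      _ = (pullback.fst (e g x₀ x₁ h₀₁) (e g x₁ x₂ h₁₂) ≫ e g x₀ x₁ h₀₁) ≫ v.1 :=
          (Category.assoc _ _ _).symm

/-- an étale scheme over a radicial fpqc covering descends. -/
theorem exists_descent [Flat g] [Surjective g] [QuasiCompact g] :
    ∃ (U : Over S), Etale U.hom ∧ Nonempty ((Over.pullback g).obj U ≅ U') := by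
  obtain ⟨U, ⟨ι⟩⟩ := Groth.Agent.S2912.result g (dd g U')
  have ιo : Over.mk (pullback.fst g U.hom) ≅ U' :=
    ⟨ι.hom.hom, ι.inv.hom, congrArg SchDD.Hom.hom ι.hom_inv_id,
      congrArg SchDD.Hom.hom ι.inv_hom_id⟩
  have hfst : Etale (pullback.fst g U.hom) := by
    have : pullback.fst g U.hom = ιo.hom.left ≫ U'.hom := (Over.w ιo.hom).symm
    rw [this]
    haveI : IsIso ιo.hom.left := (Over.forget S').map_isIso ιo.hom
    infer_instance
  have hU : Etale U.hom :=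
    MorphismProperty.of_isPullback_of_descendsAlong (P := @Etale)
      (Q := @Surjective ⊓ @Flat ⊓ @QuasiCompact) (IsPullback.of_hasPullback g U.hom)
      ⟨⟨inferInstance, inferInstance⟩, inferInstance⟩ hfst
  refine ⟨U, hU, ⟨?_ ≪≫ ιo⟩⟩
  exact Over.isoMk (pullbackSymmetry U.hom g) (by simp)

end DD

end Groth.Agent.Lib.H5bEtRad
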