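import Mathlib
import Groth.Agent.Lib.H5bEtRadA

/-!
# Base change along a radicial fpqc morphism is full on étale targets (helper5)
-/

set_option autoImplicit false
set_option linter.style.haveILetI false
set_option linter.unusedVariables false
set_option linter.unusedSectionVars false
universe u

open CategoryTheory CategoryTheory.Limits AlgebraicGeometry MorphismProperty

namespace Groth.Agent.Lib.H5bEtRad

variable {S S' : Scheme.{u}} (g : S' ⟶ S)

/-- fullness of base change along a radicial fpqc morphism, for étale targets. -/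
theorem pb_map_surjective [Flat g] [Surjective g] [QuasiCompact g] [UniversallyInjective g]
    (X Y : Over S) [Etale X.hom]
    (ψ : (Over.pullback g).obj Y ⟶ (Over.pullback g).obj X) :
    ∃ φ : Y ⟶ X, (Over.pullback g).map φ = ψ := by
  have hψw : ψ.left ≫ pullback.snd X.hom g = pullback.snd Y.hom g := Over.w ψ
  have hψ : (ψ.left ≫ pullback.fst X.hom g) ≫ X.hom = pullback.fst Y.hom g ≫ Y.hom := by
    rw [Category.assoc, pullback.condition, ← Category.assoc, hψw, pullback.condition]
  haveI : UniversallyInjective (pullback.fst Y.hom g) :=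
    MorphismProperty.pullback_fst (P := @UniversallyInjective) _ _ inferInstance
  haveI : Surjective (pullback.diagonal (pullback.fst Y.hom g)) :=
    (UniversallyInjective.iff_diagonal _).mp inferInstance
  have hcoc : pullback.fst (pullback.fst Y.hom g) (pullback.fst Y.hom g) ≫
      (ψ.left ≫ pullback.fst X.hom g) =
      pullback.snd (pullback.fst Y.hom g) (pullback.fst Y.hom g) ≫
        (ψ.left ≫ pullback.fst X.hom g) := by
    refine Groth.Agent.Lib.Helper20.EtDesc.hom_ext_of_surjective X.hom _ _ ?_
      (pullback.diagonal (pullback.fst Y.hom g)) ?_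
    · calc (pullback.fst (pullback.fst Y.hom g) (pullback.fst Y.hom g) ≫
            (ψ.left ≫ pullback.fst X.hom g)) ≫ X.hom
          = pullback.fst (pullback.fst Y.hom g) (pullback.fst Y.hom g) ≫
            ((ψ.left ≫ pullback.fst X.hom g) ≫ X.hom) := Category.assoc _ _ _
        _ = pullback.fst (pullback.fst Y.hom g) (pullback.fst Y.hom g) ≫
            (pullback.fst Y.hom g ≫ Y.hom) := by rw [hψ]
        _ = (pullback.fst (pullback.fst Y.hom g) (pullback.fst Y.hom g) ≫
            pullback.fst Y.hom g) ≫ Y.hom := (Category.assoc _ _ _).symm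
        _ = (pullback.snd (pullback.fst Y.hom g) (pullback.fst Y.hom g) ≫
            pullback.fst Y.hom g) ≫ Y.hom := by rw [pullback.condition]
        _ = pullback.snd (pullback.fst Y.hom g) (pullback.fst Y.hom g) ≫
            (pullback.fst Y.hom g ≫ Y.hom) := Category.assoc _ _ _
        _ = pullback.snd (pullback.fst Y.hom g) (pullback.fst Y.hom g) ≫
            ((ψ.left ≫ pullback.fst X.hom g) ≫ X.hom) := by rw [hψ]
        _ = (pullback.snd (pullback.fst Y.hom g) (pullback.fst Y.hom g) ≫
            (ψ.left ≫ pullback.fst X.hom g)) ≫ X.hom := (Category.assoc _ _ _).symm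
    · calc pullback.diagonal (pullback.fst Y.hom g) ≫
            (pullback.fst (pullback.fst Y.hom g) (pullback.fst Y.hom g) ≫
              (ψ.left ≫ pullback.fst X.hom g))
          = (pullback.diagonal (pullback.fst Y.hom g) ≫
            pullback.fst (pullback.fst Y.hom g) (pullback.fst Y.hom g)) ≫
              (ψ.left ≫ pullback.fst X.hom g) := (Category.assoc _ _ _).symm
        _ = (pullback.diagonal (pullback.fst Y.hom g) ≫
            pullback.snd (pullback.fst Y.hom g) (pullback.fst Y.hom g)) ≫
              (ψ.left ≫ pullback.fst X.hom g) := by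
            rw [pullback.diagonal_fst, pullback.diagonal_snd]
        _ = _ := Category.assoc _ _ _
  obtain ⟨φ₀, ⟨hφ₁, hφ₂⟩, -⟩ :=
    Groth.Agent.Lib.Helper20.EtDesc.exists_unique_lift_of_univSubmersive (pullback.fst Y.hom g)
      (univSubmersive_of_fpqc _) X.hom Y.hom (ψ.left ≫ pullback.fst X.hom g) hψ hcoc
  refine ⟨Over.homMk φ₀ hφ₁, ?_⟩
  apply Over.OverMorphism.ext
  apply pullback.hom_ext
  · have h1 : ((Over.pullback g).map (Over.homMk φ₀ hφ₁ : Y ⟶ X)).left ≫ pullback.fst X.hom g =
        pullback.fst Y.hom g ≫ φ₀ := pullback.lift_fst _ _ _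
    rw [h1, hφ₂]
  · have h2 : ((Over.pullback g).map (Over.homMk φ₀ hφ₁ : Y ⟶ X)).left ≫ pullback.snd X.hom g =
        pullback.snd Y.hom g := Over.w ((Over.pullback g).map (Over.homMk φ₀ hφ₁ : Y ⟶ X))
    rw [h2, hψw]

end Groth.Agent.Lib.H5bEtRad
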