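import Mathlib
import Groth.Prelude.Def_AlgSpCov
import Groth.Prelude.Def_AlgSpEt
import Groth.Agent.S10209
import Groth.Agent.S9874
import Groth.Agent.S10175
import Groth.Agent.S10176
import Groth.Agent.S10177
import Groth.Agent.S10288

set_option autoImplicit false
universe u
open CategoryTheory CategoryTheory.Limits AlgebraicGeometry
open AlgSp

namespace Groth.Agent.Lib.H5bEtSite

variable {S : Scheme.{u}}

/-- étale-local lifting of a scheme-valued point through an étale morphism of algebraic spaces. -/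
lemma exists_etale_lift {X Y : AlgSp.Sp S} (hX : IsAlgSpace X) (hY : IsAlgSpace Y)
    (g : Y ⟶ X) (hg : IsEtaleMor g) {T : Over S} (a : (yon S).obj T ⟶ X) (t : ↥T.left)
    (y : Points Y) (hy : Points.map g y = Points.ofPt a t) :
    ∃ (W : Over S) (c : W ⟶ T) (l : (yon S).obj W ⟶ Y), Etale c.left ∧ t ∈ Set.range c.left ∧
      l ≫ g = (yon S).map c ≫ a := by
  have sq : IsPullback (pullback.fst a g) (pullback.snd a g) a g := IsPullback.of_hasPullback _ _
  have hP : IsAlgSpace (pullback a g) :=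
    Groth.Agent.S9874.isAlgSpace_of_isPullback hX.diag (IsAlgSpace.yon_obj T) hY sq
  have hfst : IsEtaleMor (pullback.fst a g) :=
    Groth.Agent.S10209.isEtaleMor_of_isPullback hY (IsAlgSpace.yon_obj T) sq hg
  obtain ⟨p, hp1, hp2⟩ := Groth.Agent.S10175.exists_point_of_isPullback sq
    (Points.ofPt (𝟙 _) t) y (by rw [Points.map_ofPt, Category.id_comp, hy])
  obtain ⟨W, w, hwe, hws⟩ := hP.atlas
  obtain ⟨z, rfl⟩ := Groth.Agent.S10177.surjective_ofPt w hws p
  obtain ⟨c, hc⟩ := (yon S).map_surjective (w ≫ pullback.fst a g)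
  have hce : RepWith @Etale ((yon S).map c) := by rw [hc]; exact hfst w hwe
  refine ⟨W, c, w ≫ pullback.snd a g, (repWith_yon_map_iff _ _).1 hce, ⟨z, ?_⟩, ?_⟩
  · apply (Points.schemeHomeo T).injective
    rw [← Groth.Agent.S10288.ofPt_yon_map, hc, ← Points.map_ofPt, hp1]
    rfl
  · rw [Category.assoc, ← pullback.condition, ← Category.assoc, hc]

/-- the morphism of algebraic spaces defined by a morphism of sheaves from a scheme. -/
noncomputable abbrev spHom {T : Space S} {U : Over S} (a : (yon S).obj U ⟶ T.obj) :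
    (AlgSp.ofScheme S).obj U ⟶ T := ObjectProperty.homMk a

/-- the condition defining the covering sieves of `etLift`. -/
def LiftsEt {T : Space S} (R : Sieve T) : Prop :=
  ∀ (U : Over S) (a : (yon S).obj U ⟶ T.obj), ∃ (ι : Type u) (V : ι → Over S) (c : ∀ i, V i ⟶ U),
    (∀ i, Etale (c i).left) ∧ (∀ x : ↥U.left, ∃ i, x ∈ Set.range (c i).left) ∧
    ∀ i, R.arrows (spHom ((yon S).map (c i) ≫ a))

/-- the topology on algebraic spaces over `S` whose covering sieves are those through which every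
scheme-valued point lifts étale locally. -/
def etLift (S : Scheme.{u}) : GrothendieckTopology (Space S) where
  sieves T := {R | LiftsEt R}
  top_mem' T U a := ⟨PUnit, fun _ => U, fun _ => 𝟙 U, fun _ => by
    rw [Over.id_left]; infer_instance, fun x => ⟨PUnit.unit, x, by simp⟩, fun _ => trivial⟩
  pullback_stable' T T' R f hR U a := by
    obtain ⟨ι, V, c, hce, hcs, hR'⟩ := hR U (a ≫ f.hom)
    refine ⟨ι, V, c, hce, hcs, fun i => ?_⟩
    have : spHom ((yon S).map (c i) ≫ a) ≫ f = spHom ((yon S).map (c i) ≫ a ≫ f.hom) := by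
      apply ObjectProperty.hom_ext
      exact Category.assoc _ _ _
    show R.arrows (spHom ((yon S).map (c i) ≫ a) ≫ f)
    rw [this]
    exact hR' i
  transitive' T R hR R' hR' U a := by
    obtain ⟨ι, V, c, hce, hcs, hRc⟩ := hR U a
    choose ι' V' c' hce' hcs' hR'' using fun i => hR' (hRc i) (V i) (𝟙 _)
    refine ⟨Σ i, ι' i, fun j => V' j.1 j.2, fun j => c' j.1 j.2 ≫ c j.1, fun j => ?_, fun x => ?_,
      fun j => ?_⟩
    · haveI := hce j.1
      haveI := hce' j.1 j.2
      rw [Over.comp_left]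
      infer_instance
    · obtain ⟨i, v, rfl⟩ := hcs x
      obtain ⟨i', v', rfl⟩ := hcs' i v
      exact ⟨⟨i, i'⟩, v', by rw [Over.comp_left, Scheme.Hom.comp_apply]⟩
    · have h1 := hR'' j.1 j.2
      have : spHom ((yon S).map (c' j.1 j.2) ≫ 𝟙 _) ≫ spHom ((yon S).map (c j.1) ≫ a) =
          spHom ((yon S).map (c' j.1 j.2 ≫ c j.1) ≫ a) := by
        apply ObjectProperty.hom_ext
        show ((yon S).map (c' j.1 j.2) ≫ 𝟙 _) ≫ (yon S).map (c j.1) ≫ a = _
        rw [Category.comp_id, ← Category.assoc, ← Functor.map_comp]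
        rfl
      show R'.arrows (spHom ((yon S).map (c' j.1 j.2 ≫ c j.1) ≫ a))
      rw [← this]
      exact h1

lemma mem_etLift_iff {T : Space S} (R : Sieve T) : R ∈ etLift S T ↔ LiftsEt R := Iff.rfl

/-- the big étale topology on algebraic spaces is contained in the étale-lifting topology. -/
lemma spacesTop_le_etLift : spacesTop S IsEtaleMor ≤ etLift S := by
  unfold spacesTop
  rw [Precoverage.toGrothendieck_le_iff_le_toPrecoverage]
  intro T R hR
  rw [GrothendieckTopology.mem_toPrecoverage_iff]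
  intro U a
  obtain ⟨hRe, hRs⟩ := (mem_spacesPre_iff _ R).1 hR
  choose Y g hg hx using fun t : ↥U.left => hRs (Points.ofPt a t)
  choose y hy using hx
  choose W c l hce hct hl using fun t => exists_etale_lift T.property (Y t).property (g t).hom
    (hRe (g t) (hg t)) a t (y t) (hy t)
  refine ⟨↥U.left, W, c, hce, fun x => ⟨x, hct x⟩, fun t => ?_⟩
  refine ⟨Y t, spHom (l t), g t, hg t, ?_⟩
  apply ObjectProperty.hom_ext
  exact hl t

/-- the functor from the small étale site of `Y` to algebraic spaces over `Y`. -/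
noncomputable abbrev Fc (Y : Space S) : EtOver Y.obj ⥤ Over Y :=
  EtOver.toEtSpOver Y ⋙ ObjectProperty.ι (fun E : Over Y => IsEtaleMor E.hom.hom)

instance isCocontinuous_Fc (Ys : Space S) :
    (Fc Ys).IsCocontinuous (etTop Ys.obj) (spacesTopOver IsEtaleMor Ys) where
  cover_lift := by
    intro E R hR
    rw [GrothendieckTopology.mem_over_iff] at hR
    have h1 : LiftsEt (Sieve.overEquiv _ R) := spacesTop_le_etLift _ hR
    obtain ⟨ι, V, c, hce, hcs, hRc⟩ := h1 E.obj.left (𝟙 _)
    let Ei : ι → EtOver Ys.obj := fun i => EtOver.mk ((yon S).map (c i) ≫ E.obj.hom)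
      ((repWith_isMultiplicative (S := S) @Etale).comp_mem _ _
        ((repWith_yon_map_iff _ _).2 (hce i)) E.property)
    let gi : ∀ i, Ei i ⟶ E := fun i => EtOver.homMk (c i) rfl
    refine (etTop Ys.obj).superset_covering ?_ (ofArrows_mem_etTop Ei gi hcs)
    rw [Sieve.ofArrows, Sieve.generate_le_iff]
    rintro _ _ ⟨i⟩
    show R.arrows ((Fc Ys).map (gi i))
    have h2 := hRc i
    rw [Sieve.overEquiv_iff] at h2
    have hw : 𝟙 _ ≫ (spHom ((yon S).map (c i) ≫ 𝟙 _) ≫ ((Fc Ys).obj E).hom) =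
        ((Fc Ys).obj (Ei i)).hom := by
      apply ObjectProperty.hom_ext
      show 𝟙 _ ≫ ((yon S).map (c i) ≫ 𝟙 _) ≫ E.obj.hom = (yon S).map (c i) ≫ E.obj.hom
      rw [Category.id_comp, Category.comp_id]
    have key : (Fc Ys).map (gi i) =
        (Over.homMk (𝟙 _) hw : (Fc Ys).obj (Ei i) ⟶
          Over.mk (spHom ((yon S).map (c i) ≫ 𝟙 _) ≫ ((Fc Ys).obj E).hom)) ≫
          Over.homMk (spHom ((yon S).map (c i) ≫ 𝟙 _)) := by
      apply Over.OverMorphism.ext
      apply ObjectProperty.hom_ext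
      show (yon S).map (c i) = 𝟙 _ ≫ ((yon S).map (c i) ≫ 𝟙 _)
      rw [Category.id_comp, Category.comp_id]
    rw [key]
    exact R.downward_closed h2 _

end Groth.Agent.Lib.H5bEtSite
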