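import Mathlib
import Groth.Agent.Lib.H5bEtSite

set_option autoImplicit false
universe u
open CategoryTheory CategoryTheory.Limits AlgebraicGeometry
open AlgSp

namespace Groth.Agent.Lib.H5bEtSite

variable {S : Scheme.{u}}

/-- the functor `Fc` sends the fibre products of the small étale site to fibre products. -/
lemma isPullback_Fc {Y : Space S} {E₁ E₂ E₀ : EtOver Y.obj} (g₁ : E₁ ⟶ E₀) (g₂ : E₂ ⟶ E₀) :
    IsPullback ((Fc Y).map (EtOver.pullbackFst g₁ g₂)) ((Fc Y).map (EtOver.pullbackSnd g₁ g₂))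
      ((Fc Y).map g₁) ((Fc Y).map g₂) := by
  have w : (Fc Y).map (EtOver.pullbackFst g₁ g₂) ≫ (Fc Y).map g₁ =
      (Fc Y).map (EtOver.pullbackSnd g₁ g₂) ≫ (Fc Y).map g₂ := by
    exact ((Fc Y).map_comp _ _).symm.trans
      ((congrArg (fun k => (Fc Y).map k) (EtOver.pullback_condition g₁ g₂)).trans
        ((Fc Y).map_comp _ _))
  refine IsPullback.of_map (Over.forget Y) w ?_
  have w' : (Over.forget Y).map ((Fc Y).map (EtOver.pullbackFst g₁ g₂)) ≫
      (Over.forget Y).map ((Fc Y).map g₁) =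
      (Over.forget Y).map ((Fc Y).map (EtOver.pullbackSnd g₁ g₂)) ≫
        (Over.forget Y).map ((Fc Y).map g₂) :=
    ((Over.forget Y).map_comp _ _).symm.trans
      ((congrArg (fun k => (Over.forget Y).map k) w).trans ((Over.forget Y).map_comp _ _))
  refine IsPullback.of_map (ObjectProperty.ι _) w' ?_
  exact (IsPullback.of_hasPullback g₁.hom.left g₂.hom.left).map (yon S)

instance preservesLimit_cospan_Fc {Y : Space S} {E₁ E₂ E₀ : EtOver Y.obj} (g₁ : E₁ ⟶ E₀)
    (g₂ : E₂ ⟶ E₀) : PreservesLimit (cospan g₁ g₂) (Fc Y) :=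
  preservesLimit_of_preserves_limit_cone (EtOver.pullbackIsLimit g₁ g₂)
    ((isLimitMapConePullbackConeEquiv _ _).symm (isPullback_Fc g₁ g₂).isLimit)

instance preservesPullbacks_Fc (Y : Space S) : PreservesLimitsOfShape WalkingCospan (Fc Y) where
  preservesLimit {K} := preservesLimit_of_iso_diagram _ (diagramIsoCospan K).symm

/-- the image of a covering of the small étale site is a covering of the big étale site. -/
lemma cover_Fc {Ys : Space S} {E : EtOver Ys.obj} (R : Presieve E) (hR : R ∈ etPre Ys.obj E) :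
    Sieve.generate (R.map (Fc Ys)) ∈ spacesTopOver IsEtaleMor Ys ((Fc Ys).obj E) := by
  obtain ⟨ι, Z, g, rfl⟩ := R.exists_eq_ofArrows
  rw [ofArrows_mem_etPre_iff] at hR
  rw [Presieve.map_ofArrows, ← Sieve.ofArrows, GrothendieckTopology.mem_over_iff,
    Sieve.overEquiv_ofArrows]
  apply Precoverage.generate_mem_toGrothendieck
  rw [mem_spacesPre_iff]
  refine ⟨?_, ?_⟩
  · rintro _ _ ⟨i⟩
    exact isEtaleMor_of_repWith _ ((repWith_yon_map_iff _ _).2 (EtOver.etale_left (g i)))
  · intro x
    obtain ⟨u, rfl⟩ := (Points.schemeHomeo E.obj.left).surjective x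
    obtain ⟨i, v, hv⟩ := hR u
    refine ⟨_, _, ⟨i⟩, Points.schemeHomeo _ v, ?_⟩
    show Points.map ((yon S).map (g i).hom.left) (Points.schemeHomeo _ v) = _
    rw [Points.map_yon_map_apply, hv]

instance isContinuous_Fc (Ys : Space S) :
    (Fc Ys).IsContinuous (etTop Ys.obj) (spacesTopOver IsEtaleMor Ys) where
  op_comp_isSheaf_of_types := fun G => by
    have H := (isSheaf_iff_isSheaf_of_type _ _).1 G.property
    unfold etTop
    rw [Precoverage.isSheaf_toGrothendieck_iff_of_isStableUnderBaseChange]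
    intro E R hR
    rw [Presieve.IsSheafFor.comp_iff_of_preservesPairwisePullbacks, Presieve.isSheafFor_iff_generate]
    exact H _ (cover_Fc R hR)

end Groth.Agent.Lib.H5bEtSite
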