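import Mathlib
import Groth.Prelude.Def_Flatn

/-!
# The functor of relative morphisms into an open subscheme is an open subfunctor
-/

universe u

open CategoryTheory CategoryTheory.Limits AlgebraicGeometry Opposite

namespace Groth.Agent.Lib.Helper8MorS

variable {X Y U S : Scheme.{u}}

/-- `T ×_S X` over `S`. -/
noncomputable abbrev PT (gX : X ⟶ S) (T : Over S) : Over S :=
  (Over.map gX).obj ((Over.pullback gX).obj T)

/-- base change of a morphism. -/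
noncomputable abbrev PTmap (gX : X ⟶ S) {T' T : Over S} (φ : T' ⟶ T) : PT gX T' ⟶ PT gX T :=
  (Over.map gX).map ((Over.pullback gX).map φ)

/-- the underlying morphism of the base change. -/
noncomputable def PTl (gX : X ⟶ S) {T' T : Over S} (φ : T' ⟶ T) :
    pullback T'.hom gX ⟶ pullback T.hom gX := (PTmap gX φ).left

theorem PTl_fst (gX : X ⟶ S) {T' T : Over S} (φ : T' ⟶ T) :
    PTl gX φ ≫ pullback.fst T.hom gX = pullback.fst T'.hom gX ≫ φ.left := by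
  simp [PTl]
  exact pullback.lift_fst _ _ _

theorem PTl_snd (gX : X ⟶ S) {T' T : Over S} (φ : T' ⟶ T) :
    PTl gX φ ≫ pullback.snd T.hom gX = pullback.snd T'.hom gX := by
  simp [PTl]
  exact pullback.lift_snd _ _ _

theorem PTl_isPullback (gX : X ⟶ S) {T' T : Over S} (φ : T' ⟶ T) :
    IsPullback (PTl gX φ) (pullback.fst T'.hom gX) (pullback.fst T.hom gX) φ.left := by
  refine IsPullback.of_right ?_ (PTl_fst gX φ) (IsPullback.of_hasPullback T.hom gX).flip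
  rw [PTl_snd, Over.w φ]
  exact (IsPullback.of_hasPullback T'.hom gX).flip

section Rep

variable {gX : X ⟶ S} {gY : Y ⟶ S} {M : Over S} (e : (Flatn.morS gX gY).RepresentableBy M)

/-- the underlying morphism of the section classified by `ψ`. -/
noncomputable def cl {T : Over S} (ψ : T ⟶ M) : pullback T.hom gX ⟶ Y :=
  (e.homEquiv ψ : PT gX T ⟶ Over.mk gY).left

theorem homEquiv_eq' {T : Over S} (ψ : T ⟶ M) :
    (e.homEquiv ψ : PT gX T ⟶ Over.mk gY) =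
      PTmap gX ψ ≫ (e.homEquiv (𝟙 M) : PT gX M ⟶ Over.mk gY) :=
  (e.homEquiv_eq ψ).trans (Flatn.morS_map gX gY ψ (e.homEquiv (𝟙 M)))

theorem cl_eq {T : Over S} (ψ : T ⟶ M) : cl e ψ = PTl gX ψ ≫ cl e (𝟙 M) := by
  unfold cl
  rw [homEquiv_eq' e ψ]
  rfl

variable (j : U ⟶ Y) [IsOpenImmersion j] [IsProper gX]

/-- the locus of `M` over which the universal morphism factors through `U`. -/
noncomputable def M₀ : M.left.Opens :=
  ⟨(pullback.fst M.hom gX '' (cl e (𝟙 M) ⁻¹' (Set.range j)ᶜ))ᶜ,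
    ((pullback.fst M.hom gX).isClosedMap _
      ((j.isOpenEmbedding.isOpen_range.isClosed_compl).preimage
        (cl e (𝟙 M)).continuous)).isOpen_compl⟩

theorem range_subset_iff {T : Over S} (ψ : T ⟶ M) :
    Set.range ψ.left ⊆ (M₀ e j : Set M.left) ↔ Set.range (cl e ψ) ⊆ Set.range j := by
  have hψ := cl_eq e ψ
  have hpb := PTl_isPullback gX ψ
  constructor
  · rintro h _ ⟨w, rfl⟩
    by_contra hw
    have h1 : ψ.left (pullback.fst T.hom gX w) ∉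
        pullback.fst M.hom gX '' (cl e (𝟙 M) ⁻¹' (Set.range j)ᶜ) := h ⟨_, rfl⟩
    refine h1 ⟨PTl gX ψ w, ?_, ?_⟩
    · show cl e (𝟙 M) (PTl gX ψ w) ∉ Set.range j
      rw [← Scheme.Hom.comp_apply, ← hψ]
      exact hw
    · rw [← Scheme.Hom.comp_apply, PTl_fst, Scheme.Hom.comp_apply]
  · rintro h _ ⟨t, rfl⟩
    show ψ.left t ∉ pullback.fst M.hom gX '' (cl e (𝟙 M) ⁻¹' (Set.range j)ᶜ)
    rintro ⟨z, hz, hzt⟩
    have hz' : cl e (𝟙 M) z ∉ Set.range j := hz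
    obtain ⟨w, hw1, hw2⟩ := Scheme.exists_preimage_of_isPullback hpb z t hzt
    have h3 : cl e (𝟙 M) z = cl e ψ w := by
      rw [hψ, Scheme.Hom.comp_apply]
      exact congrArg _ hw1.symm
    exact hz' (h3 ▸ h ⟨w, rfl⟩)

theorem exists_fwd {T : Over S} (φ : T ⟶ Over.mk ((M₀ e j).ι ≫ M.hom)) :
    ∃ b : PT gX T ⟶ Over.mk (j ≫ gY),
      b ≫ (Over.homMk j rfl : Over.mk (j ≫ gY) ⟶ Over.mk gY) =
        (e.homEquiv (φ ≫ (Over.homMk (M₀ e j).ι rfl : Over.mk ((M₀ e j).ι ≫ M.hom) ⟶ M)) :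
          PT gX T ⟶ Over.mk gY) := by
  have hr : Set.range (φ ≫ (Over.homMk (M₀ e j).ι rfl :
      Over.mk ((M₀ e j).ι ≫ M.hom) ⟶ M)).left ⊆ (M₀ e j : Set M.left) := by
    rintro _ ⟨t, rfl⟩
    have h1 : (φ ≫ (Over.homMk (M₀ e j).ι rfl :
      Over.mk ((M₀ e j).ι ≫ M.hom) ⟶ M)).left = φ.left ≫ (M₀ e j).ι := rfl
    rw [h1, Scheme.Hom.comp_apply]
    have h2 := Set.mem_range_self (f := (M₀ e j).ι) (φ.left t)
    rw [Scheme.Opens.range_ι] at h2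
    exact h2
  have h2 := (range_subset_iff e j _).1 hr
  refine ⟨Over.homMk (IsOpenImmersion.lift j _ h2) ?_, ?_⟩
  · show IsOpenImmersion.lift j _ h2 ≫ (j ≫ gY) = _
    rw [IsOpenImmersion.lift_fac_assoc]
    exact Over.w (e.homEquiv (φ ≫ (Over.homMk (M₀ e j).ι rfl :
      Over.mk ((M₀ e j).ι ≫ M.hom) ⟶ M)) : PT gX T ⟶ Over.mk gY)
  · refine Over.OverMorphism.ext ?_
    show IsOpenImmersion.lift j _ h2 ≫ j = _
    exact IsOpenImmersion.lift_fac _ _ _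

theorem exists_bwd {T : Over S} (b : PT gX T ⟶ Over.mk (j ≫ gY)) :
    ∃ φ : T ⟶ Over.mk ((M₀ e j).ι ≫ M.hom),
      φ ≫ (Over.homMk (M₀ e j).ι rfl : Over.mk ((M₀ e j).ι ≫ M.hom) ⟶ M) =
        e.homEquiv.symm (b ≫ (Over.homMk j rfl : Over.mk (j ≫ gY) ⟶ Over.mk gY)) := by
  have h1 : (e.homEquiv (e.homEquiv.symm
      (b ≫ (Over.homMk j rfl : Over.mk (j ≫ gY) ⟶ Over.mk gY))) : PT gX T ⟶ Over.mk gY) =
        b ≫ (Over.homMk j rfl : Over.mk (j ≫ gY) ⟶ Over.mk gY) :=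
    e.homEquiv.apply_symm_apply _
  have h2 : Set.range (cl e (e.homEquiv.symm
      (b ≫ (Over.homMk j rfl : Over.mk (j ≫ gY) ⟶ Over.mk gY)))) ⊆ Set.range j := by
    have h3 : cl e (e.homEquiv.symm
      (b ≫ (Over.homMk j rfl : Over.mk (j ≫ gY) ⟶ Over.mk gY))) = b.left ≫ j := by
      unfold cl
      rw [h1]
      rfl
    rw [h3]
    rintro _ ⟨w, rfl⟩
    exact ⟨b.left w, (Scheme.Hom.comp_apply _ _ _).symm⟩
  have hr := (range_subset_iff e j _).2 h2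
  have hr' : Set.range (e.homEquiv.symm
      (b ≫ (Over.homMk j rfl : Over.mk (j ≫ gY) ⟶ Over.mk gY))).left ⊆
      Set.range (M₀ e j).ι := by
    rw [Scheme.Opens.range_ι]; exact hr
  refine ⟨Over.homMk (IsOpenImmersion.lift (M₀ e j).ι _ hr') ?_, ?_⟩
  · show IsOpenImmersion.lift (M₀ e j).ι _ hr' ≫ ((M₀ e j).ι ≫ M.hom) = _
    rw [IsOpenImmersion.lift_fac_assoc]
    exact Over.w _
  · refine Over.OverMorphism.ext ?_
    show IsOpenImmersion.lift (M₀ e j).ι _ hr' ≫ (M₀ e j).ι = _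
    exact IsOpenImmersion.lift_fac _ _ _

/-- from morphisms to `M₀` to sections into `U`. -/
noncomputable def fwd {T : Over S} (φ : T ⟶ Over.mk ((M₀ e j).ι ≫ M.hom)) :
    PT gX T ⟶ Over.mk (j ≫ gY) := (exists_fwd e j φ).choose

theorem fwd_spec {T : Over S} (φ : T ⟶ Over.mk ((M₀ e j).ι ≫ M.hom)) :
    fwd e j φ ≫ (Over.homMk j rfl : Over.mk (j ≫ gY) ⟶ Over.mk gY) =
      (e.homEquiv (φ ≫ (Over.homMk (M₀ e j).ι rfl : Over.mk ((M₀ e j).ι ≫ M.hom) ⟶ M)) :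
        PT gX T ⟶ Over.mk gY) := (exists_fwd e j φ).choose_spec

/-- from sections into `U` to morphisms to `M₀`. -/
noncomputable def bwd {T : Over S} (b : PT gX T ⟶ Over.mk (j ≫ gY)) :
    T ⟶ Over.mk ((M₀ e j).ι ≫ M.hom) := (exists_bwd e j b).choose

theorem bwd_spec {T : Over S} (b : PT gX T ⟶ Over.mk (j ≫ gY)) :
    bwd e j b ≫ (Over.homMk (M₀ e j).ι rfl : Over.mk ((M₀ e j).ι ≫ M.hom) ⟶ M) =
      e.homEquiv.symm (b ≫ (Over.homMk j rfl : Over.mk (j ≫ gY) ⟶ Over.mk gY)) :=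
  (exists_bwd e j b).choose_spec

theorem bwd_fwd {T : Over S} (φ : T ⟶ Over.mk ((M₀ e j).ι ≫ M.hom)) :
    bwd e j (fwd e j φ) = φ := by
  rw [← cancel_mono (Over.homMk (M₀ e j).ι rfl : Over.mk ((M₀ e j).ι ≫ M.hom) ⟶ M),
    bwd_spec, fwd_spec]
  exact e.homEquiv.symm_apply_apply _

theorem fwd_bwd {T : Over S} (b : PT gX T ⟶ Over.mk (j ≫ gY)) :
    fwd e j (bwd e j b) = b := by
  rw [← cancel_mono (Over.homMk j rfl : Over.mk (j ≫ gY) ⟶ Over.mk gY), fwd_spec, bwd_spec]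
  exact e.homEquiv.apply_symm_apply _

theorem fwd_comp {T T' : Over S} (f : T' ⟶ T) (g : T ⟶ Over.mk ((M₀ e j).ι ≫ M.hom)) :
    fwd e j (f ≫ g) = PTmap gX f ≫ fwd e j g := by
  have h1 : fwd e j (f ≫ g) ≫ (Over.homMk j rfl : Over.mk (j ≫ gY) ⟶ Over.mk gY) =
      PTmap gX f ≫ (e.homEquiv (g ≫ (Over.homMk (M₀ e j).ι rfl :
        Over.mk ((M₀ e j).ι ≫ M.hom) ⟶ M)) : PT gX T ⟶ Over.mk gY) := by
    rw [fwd_spec, Category.assoc, e.homEquiv_comp]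
    rfl
  have h2 : (PTmap gX f ≫ fwd e j g) ≫ (Over.homMk j rfl : Over.mk (j ≫ gY) ⟶ Over.mk gY) =
      PTmap gX f ≫ (e.homEquiv (g ≫ (Over.homMk (M₀ e j).ι rfl :
        Over.mk ((M₀ e j).ι ≫ M.hom) ⟶ M)) : PT gX T ⟶ Over.mk gY) := by
    rw [Category.assoc, fwd_spec]
  exact (cancel_mono (Over.homMk j rfl : Over.mk (j ≫ gY) ⟶ Over.mk gY)).1 (h1.trans h2.symm)

/-- `M₀` represents the functor of relative morphisms into `U`. -/
noncomputable def rep :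
    (Flatn.morS gX (j ≫ gY)).RepresentableBy (Over.mk ((M₀ e j).ι ≫ M.hom)) where
  homEquiv {T} := ⟨fwd e j, bwd e j, bwd_fwd e j, fwd_bwd e j⟩
  homEquiv_comp {T T'} f g :=
    (fwd_comp e j f g).trans (Flatn.morS_map gX (j ≫ gY) f (fwd e j g)).symm

theorem main17080 :
    ∃ (M₀ : M.left.Opens)
      (e₀ : (Flatn.morS gX (j ≫ gY)).RepresentableBy (Over.mk (M₀.ι ≫ M.hom))),
      ∀ (T : Over S) (φ : T ⟶ Over.mk (M₀.ι ≫ M.hom)),
        (e.homEquiv (φ ≫ Over.homMk M₀.ι rfl) :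
            (Over.map gX).obj ((Over.pullback gX).obj T) ⟶ Over.mk gY) =
          (e₀.homEquiv φ : (Over.map gX).obj ((Over.pullback gX).obj T) ⟶ Over.mk (j ≫ gY)) ≫
            (Over.homMk j rfl : Over.mk (j ≫ gY) ⟶ Over.mk gY) :=
  ⟨M₀ e j, rep e j, fun _ φ => (fwd_spec e j φ).symm⟩

end Rep

end Groth.Agent.Lib.Helper8MorS
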