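import Mathlib
import Groth.Prelude.Def_Flatn
import Groth.Agent.Lib.Helper8MorS
import Groth.Agent.S0117

/-!
# Étale schemes over a thickening: preliminaries (helper5)

For a surjective closed immersion `i : S₀ ⟶ S` and `V₀ : Over S₀` we study the functor
`G = Flatn.morS i (V₀.hom ≫ i)` on `Over S`, whose sections over `T` are the `S₀`-morphisms
`T ×_S S₀ ⟶ V₀` (`gEquiv`).
-/

universe u

open CategoryTheory CategoryTheory.Limits AlgebraicGeometry Opposite

namespace Groth.Agent.Lib.H5bEtThick

open Groth.Agent.Lib.Helper8MorS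

variable {S S₀ : Scheme.{u}} (i : S₀ ⟶ S)

/-- the projection `T ×_S S₀ ⟶ T`. -/
noncomputable abbrev pr (T : Over S) : ((Over.pullback i).obj T).left ⟶ T.left :=
  pullback.fst T.hom i

lemma pb_map_pr {T' T : Over S} (φ : T' ⟶ T) :
    ((Over.pullback i).map φ).left ≫ pr i T = pr i T' ≫ φ.left :=
  pullback.lift_fst _ _ _

instance [IsClosedImmersion i] (T : Over S) : IsClosedImmersion (pr i T) := by
  unfold pr
  infer_instance

instance [Surjective i] (T : Over S) : Surjective (pr i T) := by
  unfold pr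
  infer_instance

lemma pr_isHomeomorph [IsClosedImmersion i] [Surjective i] (T : Over S) :
    IsHomeomorph (pr i T) := by
  rw [isHomeomorph_iff_isEmbedding_surjective]
  exact ⟨(pr i T).isClosedEmbedding.isEmbedding, (pr i T).surjective⟩

variable (V₀ : Over S₀)

/-- the functor `T ↦ Hom_{S₀}(T ×_S S₀, V₀)` on schemes over `S`. -/
noncomputable abbrev G : (Over S)ᵒᵖ ⥤ Type u := Flatn.morS i (V₀.hom ≫ i)

variable {V₀}

/-- sections of `G` from `S₀`-morphisms. -/
noncomputable def toG {T : Over S} (c : (Over.pullback i).obj T ⟶ V₀) : (G i V₀).obj (op T) :=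
  (Over.homMk c.left (by
    change c.left ≫ V₀.hom ≫ i = ((Over.pullback i).obj T).hom ≫ i
    rw [← Category.assoc, Over.w c]) : PT i T ⟶ Over.mk (V₀.hom ≫ i))

/-- `S₀`-morphisms from sections of `G` (using that `i` is a monomorphism). -/
noncomputable def ofG [Mono i] {T : Over S} (b : (G i V₀).obj (op T)) :
    (Over.pullback i).obj T ⟶ V₀ :=
  Over.homMk (b : PT i T ⟶ Over.mk (V₀.hom ≫ i)).left (by
    rw [← cancel_mono i, Category.assoc]
    exact Over.w (b : PT i T ⟶ Over.mk (V₀.hom ≫ i)))

@[simp] lemma ofG_toG [Mono i] {T : Over S} (c : (Over.pullback i).obj T ⟶ V₀) :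
    ofG i (toG i c) = c := by
  apply Over.OverMorphism.ext
  rfl

@[simp] lemma toG_ofG [Mono i] {T : Over S} (b : (G i V₀).obj (op T)) :
    toG i (ofG i b) = b := by
  apply Over.OverMorphism.ext
  rfl

lemma ofG_injective [Mono i] {T : Over S} : Function.Injective (ofG i (V₀ := V₀) (T := T)) := by
  intro b b' h
  rw [← toG_ofG i b, h, toG_ofG]

lemma toG_injective [Mono i] {T : Over S} : Function.Injective (toG i (V₀ := V₀) (T := T)) := by
  intro b b' h
  rw [← ofG_toG i b, h, ofG_toG]

lemma G_map_toG {T' T : Over S} (φ : T' ⟶ T) (c : (Over.pullback i).obj T ⟶ V₀) :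
    (G i V₀).map φ.op (toG i c) = toG i ((Over.pullback i).map φ ≫ c) := by
  apply Over.OverMorphism.ext
  rfl

lemma ofG_G_map [Mono i] {T' T : Over S} (φ : T' ⟶ T) (b : (G i V₀).obj (op T)) :
    ofG i ((G i V₀).map φ.op b) = (Over.pullback i).map φ ≫ ofG i b := by
  apply Over.OverMorphism.ext
  rfl

section Thick

variable [IsClosedImmersion i] [Surjective i]

lemma pb_map_injective (X Y : Over S) [Etale X.hom] :
    Function.Injective (fun φ : Y ⟶ X => (Over.pullback i).map φ) :=
  (Groth.Agent.S0117.result i X Y).1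

lemma pb_map_surjective (X Y : Over S) [Etale X.hom] :
    Function.Surjective (fun φ : Y ⟶ X => (Over.pullback i).map φ) :=
  (Groth.Agent.S0117.result i X Y).2

end Thick

end Groth.Agent.Lib.H5bEtThick
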