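import Mathlib
import Groth.Agent.S9436

/-!
# Local lifting of étale schemes along a closed immersion, with open immersion (helper5)

A variant of `exists_etale_lift_general` (in `Groth.Agent.S10615`) recording that the comparison
map `r` is an open immersion.
-/

set_option autoImplicit false
set_option linter.style.haveILetI false
universe u
open CategoryTheory CategoryTheory.Limits AlgebraicGeometry Opposite TopologicalSpace

namespace Groth.Agent.Lib.H5bEtThick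

open TensorProduct in
/-- an étale scheme over `Spec (A/I)` lifts, locally, to an étale affine scheme over `Spec A`. -/
theorem exists_etale_lift_nbhd' (A : Type u) [CommRing A] (I : Ideal A) {E : Scheme.{u}}
    (e : E ⟶ Spec (CommRingCat.of (A ⧸ I))) [Etale e] (x : E) :
    ∃ (W W₀ : Scheme.{u}) (c : W ⟶ Spec (CommRingCat.of A)) (k : W₀ ⟶ W) (r : W₀ ⟶ E),
      IsAffine W ∧ Etale c ∧
      IsPullback k (r ≫ e) c (Spec.map (CommRingCat.ofHom (Ideal.Quotient.mk I))) ∧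
      x ∈ Set.range r ∧ IsOpenImmersion r := by
  obtain ⟨U, hU, hxU, -⟩ :=
    exists_isAffineOpen_mem_and_subset (X := E) (x := x) (U := ⊤) trivial
  let θ : CommRingCat.of (A ⧸ I) ⟶ Γ(E, U) :=
    (Scheme.ΓSpecIso (CommRingCat.of (A ⧸ I))).inv ≫ e.appLE ⊤ U le_top
  have hfac : Spec.map θ = hU.fromSpec ≫ e := by
    have h1 := IsAffineOpen.SpecMap_appLE_fromSpec e
      (isAffineOpen_top (Spec (CommRingCat.of (A ⧸ I)))) hU le_top
    rw [← h1, IsAffineOpen.fromSpec_top, Scheme.isoSpec_Spec_inv, ← Spec.map_comp]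
  have hθe : Etale (Spec.map θ) := by
    rw [hfac]
    infer_instance
  have hθ : θ.hom.Etale := (HasRingHomProperty.Spec_iff (P := @Etale)).1 hθe
  algebraize [θ.hom]
  obtain ⟨C, _, _, hC, ⟨ε⟩⟩ := Groth.Agent.S9436.result A I Γ(E, U)
  let c : Spec (CommRingCat.of C) ⟶ Spec (CommRingCat.of A) :=
    Spec.map (CommRingCat.ofHom (algebraMap A C))
  have hc : Etale c :=
    (HasRingHomProperty.Spec_iff (P := @Etale)).2 (RingHom.etale_algebraMap.2 hC)
  haveI : IsIso (CommRingCat.ofHom ε.symm.toRingHom) :=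
    (RingEquiv.toCommRingCatIso ε.symm.toRingEquiv).isIso_hom
  let r : pullback (Spec.map (CommRingCat.ofHom (algebraMap A (A ⧸ I))))
      (Spec.map (CommRingCat.ofHom (algebraMap A C))) ⟶ E :=
    (pullbackSpecIso A (A ⧸ I) C).hom ≫ Spec.map (CommRingCat.ofHom ε.symm.toRingHom) ≫
      hU.fromSpec
  have hre : r ≫ e = pullback.fst _ _ := by
    have h2 : θ ≫ CommRingCat.ofHom ε.symm.toRingHom =
        CommRingCat.ofHom (algebraMap (A ⧸ I) ((A ⧸ I) ⊗[A] C)) := by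
      apply CommRingCat.hom_ext
      ext y
      exact ε.symm.commutes y
    calc r ≫ e = (pullbackSpecIso A (A ⧸ I) C).hom ≫
          Spec.map (CommRingCat.ofHom ε.symm.toRingHom) ≫ hU.fromSpec ≫ e := by
          simp only [r, Category.assoc]
      _ = (pullbackSpecIso A (A ⧸ I) C).hom ≫
          Spec.map (θ ≫ CommRingCat.ofHom ε.symm.toRingHom) := by
          rw [← hfac, ← Spec.map_comp]
      _ = _ := by rw [h2, pullbackSpecIso_hom_fst']
  refine ⟨Spec (CommRingCat.of C), _, c, pullback.snd _ _, r, inferInstance, hc, ?_, ?_, ?_⟩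
  · rw [hre]
    exact (IsPullback.of_hasPullback _ _).flip
  · have h3 : Set.range r = Set.range hU.fromSpec := by
      have e1 : r = ((pullbackSpecIso A (A ⧸ I) C).hom ≫
          Spec.map (CommRingCat.ofHom ε.symm.toRingHom)) ≫ hU.fromSpec := by
        simp only [r, Category.assoc]
      rw [e1, Scheme.Hom.comp_base, TopCat.coe_comp, Set.range_comp]
      have hs : Function.Surjective ((pullbackSpecIso A (A ⧸ I) C).hom ≫
          Spec.map (CommRingCat.ofHom ε.symm.toRingHom)) :=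
        (Scheme.Hom.surjective _)
      rw [hs.range_eq, Set.image_univ]
    rw [h3, hU.range_fromSpec]
    exact hxU
  · dsimp only [r]
    infer_instance

/-- étale schemes over a closed subscheme of an affine scheme lift locally. -/
theorem exists_etale_lift_affine' {W W₀ E : Scheme.{u}} [IsAffine W] (k : W₀ ⟶ W)
    [IsClosedImmersion k] (e : E ⟶ W₀) [Etale e] (x : E) :
    ∃ (W₁ W₁₀ : Scheme.{u}) (c : W₁ ⟶ W) (k₁ : W₁₀ ⟶ W₁) (r₁ : W₁₀ ⟶ E),
      IsAffine W₁ ∧ Etale c ∧ IsPullback k₁ (r₁ ≫ e) c k ∧ x ∈ Set.range r₁ ∧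
        IsOpenImmersion r₁ := by
  obtain ⟨hW₀, hsurj⟩ := IsClosedImmersion.isAffine_surjective_of_isAffine k
  haveI := hW₀
  let φ : Γ(W, ⊤) →+* Γ(W₀, ⊤) := k.appTop.hom
  have hsurj' : Function.Surjective φ := hsurj
  let I : Ideal Γ(W, ⊤) := RingHom.ker φ
  let ψe : Γ(W₀, ⊤) ≃+* Γ(W, ⊤) ⧸ I := (RingHom.quotientKerEquivOfSurjective hsurj').symm
  let ψ : Γ(W₀, ⊤) →+* Γ(W, ⊤) ⧸ I := ψe.toRingHom
  have hψ : ψ.comp φ = Ideal.Quotient.mk I := RingHom.quotientKerEquivOfSurjective_symm_comp hsurj'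
  let k' : Spec (CommRingCat.of (Γ(W, ⊤) ⧸ I)) ⟶ W₀ :=
    Spec.map (CommRingCat.ofHom ψ) ≫ W₀.isoSpec.inv
  have hcomp : k.appTop ≫ CommRingCat.ofHom ψ = CommRingCat.ofHom (Ideal.Quotient.mk I) := by
    apply CommRingCat.hom_ext
    exact hψ
  have hk : k' ≫ k = Spec.map (CommRingCat.ofHom (Ideal.Quotient.mk I)) ≫ W.isoSpec.inv := by
    calc k' ≫ k = Spec.map (CommRingCat.ofHom ψ) ≫ (W₀.isoSpec.inv ≫ k) := Category.assoc _ _ _
      _ = Spec.map (CommRingCat.ofHom ψ) ≫ (Spec.map k.appTop ≫ W.isoSpec.inv) := by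
          rw [Scheme.isoSpec_inv_naturality]
      _ = Spec.map (k.appTop ≫ CommRingCat.ofHom ψ) ≫ W.isoSpec.inv := by
          rw [Spec.map_comp, Category.assoc]
      _ = _ := by rw [hcomp]
  haveI : IsIso (CommRingCat.ofHom ψ) := (RingEquiv.toCommRingCatIso ψe).isIso_hom
  haveI : IsIso k' := by
    dsimp only [k']
    infer_instance
  haveI : Etale (e ≫ inv k') := inferInstance
  obtain ⟨W₁, W₁₀, c', k₁, r₁, hW₁, hc', sq, hx, hoi⟩ :=
    exists_etale_lift_nbhd' Γ(W, ⊤) I (e ≫ inv k') x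
  haveI := hc'
  refine ⟨W₁, W₁₀, c' ≫ W.isoSpec.inv, k₁, r₁, hW₁, inferInstance, ?_, hx, hoi⟩
  have sq2 : IsPullback (Spec.map (CommRingCat.ofHom (Ideal.Quotient.mk I))) k' W.isoSpec.inv k :=
    IsPullback.of_vert_isIso ⟨hk.symm⟩
  have := sq.paste_vert sq2
  have e1 : (r₁ ≫ e ≫ inv k') ≫ k' = r₁ ≫ e := by
    rw [Category.assoc, Category.assoc, IsIso.inv_hom_id, Category.comp_id]
  rwa [e1] at this

/-- étale schemes over a closed subscheme lift locally. -/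
theorem exists_etale_lift_general' {W W₀ E : Scheme.{u}} (k : W₀ ⟶ W)
    [IsClosedImmersion k] (e : E ⟶ W₀) [Etale e] (x : E) :
    ∃ (W₁ W₁₀ : Scheme.{u}) (c : W₁ ⟶ W) (k₁ : W₁₀ ⟶ W₁) (r₁ : W₁₀ ⟶ E),
      IsAffine W₁ ∧ Etale c ∧ IsPullback k₁ (r₁ ≫ e) c k ∧ x ∈ Set.range r₁ ∧
        IsOpenImmersion r₁ := by
  obtain ⟨Wa, hWa, hxa, -⟩ :=
    exists_isAffineOpen_mem_and_subset (X := W) (x := k (e x)) (U := ⊤) trivial
  haveI : IsAffine Wa.toScheme := hWa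
  let x' : (e ⁻¹ᵁ (k ⁻¹ᵁ Wa)).toScheme := ⟨x, hxa⟩
  obtain ⟨W₁, W₁₀, c, k₁, r₁, hW₁, hc, sq, hx, hoi⟩ :=
    exists_etale_lift_affine' (k ∣_ Wa) (e ∣_ (k ⁻¹ᵁ Wa)) x'
  haveI := hc
  haveI := hoi
  refine ⟨W₁, W₁₀, c ≫ Wa.ι, k₁, r₁ ≫ (e ⁻¹ᵁ (k ⁻¹ᵁ Wa)).ι, hW₁, inferInstance, ?_, ?_,
    inferInstance⟩
  · have sq2 : IsPullback (k ∣_ Wa) (k ⁻¹ᵁ Wa).ι Wa.ι k := isPullback_morphismRestrict k Wa
    have := sq.paste_vert sq2
    have e1 : (r₁ ≫ e ∣_ (k ⁻¹ᵁ Wa)) ≫ (k ⁻¹ᵁ Wa).ι = (r₁ ≫ (e ⁻¹ᵁ (k ⁻¹ᵁ Wa)).ι) ≫ e := by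
      rw [Category.assoc, Category.assoc, morphismRestrict_ι]
    rwa [e1] at this
  · obtain ⟨y, hy⟩ := hx
    refine ⟨y, ?_⟩
    rw [Scheme.Hom.comp_apply, hy]
    rfl

end Groth.Agent.Lib.H5bEtThick
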