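import Mathlib
import Groth.Prelude.Def_Flatn
import Groth.Agent.Lib.Helper8MorS

/-!
# The functor of relative morphisms is a Zariski sheaf; local criterion for representability

* `morS_sep`, `morS_glue`: sections of `Flatn.morS g f` are determined by, and glue from, their
  restrictions to an open cover of the test scheme.
* `bijective_of_affine`: a section `ev` of `morS g f` over `W` induces bijections
  `(T ⟶ W) → morS(T)` for all `T` as soon as it does so for all affine `T`.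
* `representableBy_of_bijective`: representability from bijectivity.
-/

universe u

open CategoryTheory CategoryTheory.Limits AlgebraicGeometry Opposite

namespace Groth.Agent.Lib.R2H3.MorSLocal

open Groth.Agent.Lib.Helper8MorS

variable {Z X S : Scheme.{u}}

section General

variable (G : (Over S)ᵒᵖ ⥤ Type u)

/-- the member of an open cover of `T.left`, as an object over `S`. -/
abbrev Ti (T : Over S) (𝒰 : Scheme.OpenCover.{u} T.left) (i : 𝒰.I₀) : Over S := Over.mk (𝒰.f i ≫ T.hom)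

/-- the inclusion of a member of an open cover. -/
abbrev ji (T : Over S) (𝒰 : Scheme.OpenCover.{u} T.left) (i : 𝒰.I₀) : Ti T 𝒰 i ⟶ T := Over.homMk (𝒰.f i) rfl

/-- the overlap of two members of an open cover, as an object over `S`. -/
noncomputable abbrev Tij (T : Over S) (𝒰 : Scheme.OpenCover.{u} T.left) (i j : 𝒰.I₀) : Over S :=
  Over.mk (pullback.fst (𝒰.f i) (𝒰.f j) ≫ 𝒰.f i ≫ T.hom)

/-- first projection of the overlap. -/
noncomputable abbrev p1 (T : Over S) (𝒰 : Scheme.OpenCover.{u} T.left) (i j : 𝒰.I₀) : Tij T 𝒰 i j ⟶ Ti T 𝒰 i :=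
  Over.homMk (pullback.fst (𝒰.f i) (𝒰.f j)) rfl

/-- second projection of the overlap. -/
noncomputable abbrev p2 (T : Over S) (𝒰 : Scheme.OpenCover.{u} T.left) (i j : 𝒰.I₀) : Tij T 𝒰 i j ⟶ Ti T 𝒰 j :=
  Over.homMk (pullback.snd (𝒰.f i) (𝒰.f j)) (by
    change pullback.snd (𝒰.f i) (𝒰.f j) ≫ 𝒰.f j ≫ T.hom = pullback.fst (𝒰.f i) (𝒰.f j) ≫ 𝒰.f i ≫ T.hom
    rw [← Category.assoc, ← pullback.condition, Category.assoc])

lemma p1_ji (T : Over S) (𝒰 : Scheme.OpenCover.{u} T.left) (i j : 𝒰.I₀) :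
    p1 T 𝒰 i j ≫ ji T 𝒰 i = p2 T 𝒰 i j ≫ ji T 𝒰 j :=
  Over.OverMorphism.ext pullback.condition

/-- A presheaf on schemes over `S` is a Zariski sheaf. -/
structure IsZarSheaf : Prop where
  sep : ∀ (T : Over S) (𝒰 : Scheme.OpenCover.{u} T.left) (b b' : G.obj (op T)),
    (∀ i, G.map (ji T 𝒰 i).op b = G.map (ji T 𝒰 i).op b') → b = b'
  glue : ∀ (T : Over S) (𝒰 : Scheme.OpenCover.{u} T.left) (x : ∀ i, G.obj (op (Ti T 𝒰 i))),
    (∀ i j, G.map (p1 T 𝒰 i j).op (x i) = G.map (p2 T 𝒰 i j).op (x j)) →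
      ∃ b : G.obj (op T), ∀ i, G.map (ji T 𝒰 i).op b = x i

variable {G}

lemma map_comp_op {T T' T'' : Over S} (φ : T'' ⟶ T') (ψ : T' ⟶ T) (b : G.obj (op T)) :
    G.map (φ ≫ ψ).op b = G.map φ.op (G.map ψ.op b) := by
  rw [op_comp, Functor.map_comp_apply]

theorem injective_of_affine (W : Over S) (ev : G.obj (op W))
    (h : ∀ T : Over S, IsAffine T.left → Function.Injective (fun a : T ⟶ W => G.map a.op ev))
    (T : Over S) : Function.Injective (fun a : T ⟶ W => G.map a.op ev) := by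
  intro a a' haa
  replace haa : G.map a.op ev = G.map a'.op ev := haa
  apply Over.OverMorphism.ext
  refine Scheme.Cover.hom_ext T.left.affineCover _ _ (fun i => ?_)
  have h1 : ji T T.left.affineCover i ≫ a = ji T T.left.affineCover i ≫ a' := by
    apply h (Ti T T.left.affineCover i) (inferInstanceAs (IsAffine (T.left.affineCover.X i)))
    change G.map (ji T T.left.affineCover i ≫ a).op ev = G.map (ji T T.left.affineCover i ≫ a').op ev
    rw [map_comp_op, map_comp_op, haa]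
  exact congrArg (fun m => m.left) h1

theorem bijective_of_affine (hG : IsZarSheaf G) (W : Over S) (ev : G.obj (op W))
    (h : ∀ T : Over S, IsAffine T.left → Function.Bijective (fun a : T ⟶ W => G.map a.op ev))
    (T : Over S) : Function.Bijective (fun a : T ⟶ W => G.map a.op ev) := by
  have hinj := injective_of_affine W ev (fun T hT => (h T hT).1)
  refine ⟨hinj T, fun b => ?_⟩
  let 𝒰 := T.left.affineCover
  have hex : ∀ i, ∃ a : Ti T 𝒰 i ⟶ W, G.map a.op ev = G.map (ji T 𝒰 i).op b := fun i =>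
    (h (Ti T 𝒰 i) (inferInstanceAs (IsAffine (𝒰.X i)))).2 _
  choose a ha using hex
  have hcompat : ∀ i j, p1 T 𝒰 i j ≫ a i = p2 T 𝒰 i j ≫ a j := by
    intro i j
    apply hinj
    change G.map (p1 T 𝒰 i j ≫ a i).op ev = G.map (p2 T 𝒰 i j ≫ a j).op ev
    rw [map_comp_op, map_comp_op, ha, ha, ← map_comp_op, ← map_comp_op, p1_ji]
  let al : T.left ⟶ W.left := 𝒰.glueMorphisms (fun i => (a i).left)
    (fun i j => congrArg (fun m => m.left) (hcompat i j))
  have hal : ∀ i, 𝒰.f i ≫ al = (a i).left := fun i => 𝒰.ι_glueMorphisms _ _ i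
  have hw : al ≫ W.hom = T.hom := by
    refine Scheme.Cover.hom_ext 𝒰 _ _ (fun i => ?_)
    rw [← Category.assoc, hal]
    exact Over.w (a i)
  refine ⟨Over.homMk al hw, ?_⟩
  apply hG.sep T 𝒰
  intro i
  change G.map (ji T 𝒰 i).op (G.map (Over.homMk al hw : T ⟶ W).op ev) = _
  rw [← map_comp_op, ← ha]
  have : ji T 𝒰 i ≫ (Over.homMk al hw : T ⟶ W) = a i := Over.OverMorphism.ext (hal i)
  rw [this]

/-- representability from a universal element. -/
noncomputable def representableBy_of_bijective (W : Over S) (ev : G.obj (op W))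
    (h : ∀ T : Over S, Function.Bijective (fun a : T ⟶ W => G.map a.op ev)) :
    G.RepresentableBy W where
  homEquiv {T} := Equiv.ofBijective _ (h T)
  homEquiv_comp φ a := map_comp_op φ a ev

end General

section MorS

variable (g : Z ⟶ S) (f : X ⟶ S)

lemma PTl_ji (T : Over S) (𝒰 : Scheme.OpenCover.{u} T.left) (i : 𝒰.I₀) :
    PTl g (ji T 𝒰 i) = (Scheme.Pullback.openCoverOfLeft 𝒰 T.hom g).f i := by
  apply pullback.hom_ext
  · rw [PTl_fst]
    exact (pullback.lift_fst _ _ _).symm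
  · rw [PTl_snd]
    exact ((pullback.lift_snd _ _ _).trans (Category.comp_id _)).symm

lemma map_left {T T' : Over S} (φ : T' ⟶ T) (b : (Flatn.morS g f).obj (op T)) :
    ((Flatn.morS g f).map φ.op b : PT g T' ⟶ Over.mk f).left =
      PTl g φ ≫ (b : PT g T ⟶ Over.mk f).left := rfl

theorem morS_sep (T : Over S) (𝒰 : Scheme.OpenCover.{u} T.left)
    (b b' : (Flatn.morS g f).obj (op T))
    (h : ∀ i, (Flatn.morS g f).map (ji T 𝒰 i).op b = (Flatn.morS g f).map (ji T 𝒰 i).op b') :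
    b = b' := by
  apply Over.OverMorphism.ext
  refine Scheme.Cover.hom_ext (Scheme.Pullback.openCoverOfLeft 𝒰 T.hom g) _ _ (fun i => ?_)
  have := congrArg (fun m : PT g (Ti T 𝒰 i) ⟶ Over.mk f => m.left) (h i)
  simp only [map_left, PTl_ji] at this
  exact this

lemma exists_comparison (T : Over S) (𝒰 : Scheme.OpenCover.{u} T.left) (i j : 𝒰.I₀) {P : Scheme.{u}}
    (a : P ⟶ pullback (Ti T 𝒰 i).hom g) (b : P ⟶ pullback (Ti T 𝒰 j).hom g)
    (hab : a ≫ PTl g (ji T 𝒰 i) = b ≫ PTl g (ji T 𝒰 j)) :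
    ∃ c : P ⟶ pullback (Tij T 𝒰 i j).hom g,
      c ≫ PTl g (p1 T 𝒰 i j) = a ∧ c ≫ PTl g (p2 T 𝒰 i j) = b := by
  have h1 : (a ≫ pullback.fst (Ti T 𝒰 i).hom g) ≫ 𝒰.f i =
      (b ≫ pullback.fst (Ti T 𝒰 j).hom g) ≫ 𝒰.f j := by
    have := congrArg (· ≫ pullback.fst T.hom g) hab
    simp only [Category.assoc, PTl_fst] at this
    simpa using this
  have h2 : a ≫ pullback.snd (Ti T 𝒰 i).hom g = b ≫ pullback.snd (Ti T 𝒰 j).hom g := by
    have := congrArg (· ≫ pullback.snd T.hom g) hab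
    simpa only [Category.assoc, PTl_snd] using this
  refine ⟨pullback.lift (pullback.lift _ _ h1) (a ≫ pullback.snd (Ti T 𝒰 i).hom g) ?_, ?_, ?_⟩
  · change pullback.lift _ _ h1 ≫ pullback.fst (𝒰.f i) (𝒰.f j) ≫ 𝒰.f i ≫ T.hom = _
    rw [pullback.lift_fst_assoc, Category.assoc, Category.assoc]
    exact congrArg (a ≫ ·) pullback.condition
  · apply pullback.hom_ext
    · rw [Category.assoc, PTl_fst, pullback.lift_fst_assoc]
      exact pullback.lift_fst _ _ _
    · rw [Category.assoc, PTl_snd, pullback.lift_snd]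
  · apply pullback.hom_ext
    · rw [Category.assoc, PTl_fst, pullback.lift_fst_assoc]
      exact pullback.lift_snd _ _ _
    · rw [Category.assoc, PTl_snd, pullback.lift_snd]
      exact h2

theorem morS_glue (T : Over S) (𝒰 : Scheme.OpenCover.{u} T.left)
    (x : ∀ i, (Flatn.morS g f).obj (op (Ti T 𝒰 i)))
    (h : ∀ i j, (Flatn.morS g f).map (p1 T 𝒰 i j).op (x i) =
      (Flatn.morS g f).map (p2 T 𝒰 i j).op (x j)) :
    ∃ b : (Flatn.morS g f).obj (op T), ∀ i, (Flatn.morS g f).map (ji T 𝒰 i).op b = x i := by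
  let 𝒱 := Scheme.Pullback.openCoverOfLeft 𝒰 T.hom g
  let xl : ∀ i : 𝒰.I₀, pullback (Ti T 𝒰 i).hom g ⟶ X :=
    fun i => (x i : PT g (Ti T 𝒰 i) ⟶ Over.mk f).left
  have hV : ∀ i : 𝒰.I₀, 𝒱.f i = PTl g (ji T 𝒰 i) := fun i => (PTl_ji g T 𝒰 i).symm
  have hcompat : ∀ i j : 𝒰.I₀, pullback.fst (𝒱.f i) (𝒱.f j) ≫ xl i =
      pullback.snd (𝒱.f i) (𝒱.f j) ≫ xl j := by
    intro i j
    obtain ⟨c, hc1, hc2⟩ := exists_comparison g T 𝒰 i j
      (pullback.fst (𝒱.f i) (𝒱.f j)) (pullback.snd (𝒱.f i) (𝒱.f j))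
      (by rw [← hV, ← hV]; exact pullback.condition)
    have h3 : PTl g (p1 T 𝒰 i j) ≫ xl i = PTl g (p2 T 𝒰 i j) ≫ xl j :=
      congrArg (fun m : PT g (Tij T 𝒰 i j) ⟶ Over.mk f => m.left) (h i j)
    calc pullback.fst (𝒱.f i) (𝒱.f j) ≫ xl i
        = (c ≫ PTl g (p1 T 𝒰 i j)) ≫ xl i := congrArg (· ≫ xl i) hc1.symm
      _ = c ≫ PTl g (p1 T 𝒰 i j) ≫ xl i := Category.assoc _ _ _
      _ = c ≫ PTl g (p2 T 𝒰 i j) ≫ xl j := congrArg (c ≫ ·) h3
      _ = (c ≫ PTl g (p2 T 𝒰 i j)) ≫ xl j := (Category.assoc _ _ _).symm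
      _ = pullback.snd (𝒱.f i) (𝒱.f j) ≫ xl j := congrArg (· ≫ xl j) hc2
  let bl : pullback T.hom g ⟶ X := 𝒱.glueMorphisms xl hcompat
  have hbl : ∀ i : 𝒰.I₀, PTl g (ji T 𝒰 i) ≫ bl = xl i := fun i =>
    (congrArg (· ≫ bl) (hV i)).symm.trans (𝒱.ι_glueMorphisms xl hcompat i)
  have hw : bl ≫ f = pullback.snd T.hom g ≫ g := by
    refine Scheme.Cover.hom_ext 𝒱 _ _ (fun (i : 𝒰.I₀) => ?_)
    have h4 : xl i ≫ f = pullback.snd (Ti T 𝒰 i).hom g ≫ g :=
      Over.w (x i : PT g (Ti T 𝒰 i) ⟶ Over.mk f)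
    have h5 : PTl g (ji T 𝒰 i) ≫ bl ≫ f = PTl g (ji T 𝒰 i) ≫ pullback.snd T.hom g ≫ g :=
      calc PTl g (ji T 𝒰 i) ≫ bl ≫ f = (PTl g (ji T 𝒰 i) ≫ bl) ≫ f := (Category.assoc _ _ _).symm
        _ = xl i ≫ f := congrArg (· ≫ f) (hbl i)
        _ = pullback.snd (Ti T 𝒰 i).hom g ≫ g := h4
        _ = (PTl g (ji T 𝒰 i) ≫ pullback.snd T.hom g) ≫ g :=
          congrArg (· ≫ g) (PTl_snd g (ji T 𝒰 i)).symm
        _ = PTl g (ji T 𝒰 i) ≫ pullback.snd T.hom g ≫ g := Category.assoc _ _ _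
    exact (congrArg (· ≫ bl ≫ f) (hV i)).trans
      (h5.trans (congrArg (· ≫ pullback.snd T.hom g ≫ g) (hV i)).symm)
  refine ⟨(Over.homMk bl hw : PT g T ⟶ Over.mk f), fun i => ?_⟩
  apply Over.OverMorphism.ext
  rw [map_left]
  exact hbl i

theorem isZarSheaf_morS : IsZarSheaf (Flatn.morS g f) :=
  ⟨morS_sep g f, morS_glue g f⟩

end MorS

end Groth.Agent.Lib.R2H3.MorSLocal
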