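import Mathlib
import Groth.Prelude.Def_HTop

/-!
# Sheaf condition for sieves locally refined by basic covers (helper4, round 2)

For a Zariski sheaf `F` on the category of schemes and a class `K` of "basic covers" (presieves) for
which `F` is a sheaf and which is stable under base change to affine schemes up to refinement
(`StableAff`), `F` satisfies the sheaf condition for every sieve that is locally on the target
refined by a member of `K` (`LocRef`): `isSheafFor_of_locRef`.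
Also `zariski_ext`, `zariski_glue`, `sieve_mem_zariski_of_opens`.
-/

set_option autoImplicit false
universe w u
open CategoryTheory CategoryTheory.Limits AlgebraicGeometry Opposite

namespace Groth.Agent.Lib.R2H4.LocSheaf

variable {F : Scheme.{u}ᵒᵖ ⥤ Type w}

/-- A sieve containing the inclusions of opens covering the scheme is a Zariski covering sieve. -/
theorem sieve_mem_zariski_of_opens {Z : Scheme.{u}} (T : Sieve Z)
    (h : ∀ z : Z, ∃ W : Z.Opens, z ∈ W ∧ T W.ι) : T ∈ Scheme.zariskiTopology Z := by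
  choose W hzW hW using h
  have hcov : TopologicalSpace.IsOpenCover W := by
    apply TopologicalSpace.IsOpenCover.mk
    rw [eq_top_iff]
    intro z _
    exact TopologicalSpace.Opens.mem_iSup.2 ⟨z, hzW z⟩
  let 𝒰 := Z.openCoverOfIsOpenCover W hcov
  refine GrothendieckTopology.superset_covering _ ?_ 𝒰.mem_grothendieckTopology
  rw [Sieve.ofArrows, Sieve.generate_le_iff]
  rintro _ _ ⟨z⟩
  exact hW z

/-- Zariski separatedness, local form. -/
theorem zariski_ext (hF : Presieve.IsSheaf Scheme.zariskiTopology F) {Z : Scheme.{u}}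
    (a b : F.obj (op Z))
    (h : ∀ z : Z, ∃ W : Z.Opens, z ∈ W ∧ F.map W.ι.op a = F.map W.ι.op b) : a = b := by
  let T : Sieve Z :=
    { arrows := fun Y g => F.map g.op a = F.map g.op b
      downward_closed := by
        intro Y Y' g hg k
        rw [op_comp, F.map_comp]
        change F.map k.op (F.map g.op a) = F.map k.op (F.map g.op b)
        rw [hg] }
  have hT : T ∈ Scheme.zariskiTopology Z := sieve_mem_zariski_of_opens T h
  exact (hF T hT).isSeparatedFor.ext (fun Y g hg => hg)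

/-- Zariski gluing over a family of opens. -/
theorem zariski_glue (hF : Presieve.IsSheaf Scheme.zariskiTopology F) {Z : Scheme.{u}}
    {ι : Type u} (W : ι → Z.Opens) (hW : ∀ z : Z, ∃ i, z ∈ W i)
    (s : ∀ i, F.obj (op ((W i : Z.Opens) : Scheme.{u})))
    (hs : ∀ i j (Y : Scheme.{u}) (g₁ : Y ⟶ ((W i : Z.Opens) : Scheme.{u}))
      (g₂ : Y ⟶ ((W j : Z.Opens) : Scheme.{u})), g₁ ≫ (W i).ι = g₂ ≫ (W j).ι →
        F.map g₁.op (s i) = F.map g₂.op (s j)) :
    ∃ t : F.obj (op Z), ∀ i, F.map (W i).ι.op t = s i := by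
  have hmem : Sieve.ofArrows (fun i => ((W i : Z.Opens) : Scheme.{u})) (fun i => (W i).ι) ∈
      Scheme.zariskiTopology Z := by
    apply sieve_mem_zariski_of_opens
    intro z
    obtain ⟨i, hi⟩ := hW z
    exact ⟨W i, hi, Sieve.ofArrows_mk _ _ i⟩
  have h1 := hF _ hmem
  rw [Sieve.ofArrows, ← Presieve.isSheafFor_iff_generate, Presieve.isSheafFor_arrows_iff] at h1
  obtain ⟨t, ht, -⟩ := h1 s (fun i j Y g₁ g₂ hg => hs i j Y g₁ g₂ hg)
  exact ⟨t, ht⟩

/-- A sieve on `X` is locally refined by basic covers from `K`. -/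
def LocRef (K : ∀ T : Scheme.{u}, Presieve T → Prop) {X : Scheme.{u}} (S : Sieve X) : Prop :=
  ∀ x : X, ∃ (U : X.Opens), x ∈ U ∧ ∃ R : Presieve ((U : X.Opens) : Scheme.{u}), K U R ∧
    ∀ ⦃Z : Scheme.{u}⦄ (g : Z ⟶ ((U : X.Opens) : Scheme.{u})), R g → S (g ≫ U.ι)

/-- The class `K` of basic covers is stable under base change to affine schemes, up to refinement. -/
def StableAff (K : ∀ T : Scheme.{u}, Presieve T → Prop) : Prop :=
  ∀ (T : Scheme.{u}) (R : Presieve T), K T R → ∀ (T' : Scheme.{u}) [IsAffine T'] (f : T' ⟶ T),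
    ∃ R' : Presieve T', K T' R' ∧ ∀ ⦃Z : Scheme.{u}⦄ (g : Z ⟶ T'), R' g → Sieve.generate R (g ≫ f)

theorem LocRef.pullback {K : ∀ T : Scheme.{u}, Presieve T → Prop} (hst : StableAff K)
    {X : Scheme.{u}} {S : Sieve X} (hS : LocRef K S) {Z : Scheme.{u}} (f : Z ⟶ X) :
    LocRef K (S.pullback f) := by
  intro z
  obtain ⟨U, hzU, R, hKR, hRS⟩ := hS (f z)
  obtain ⟨_, ⟨W, hW, rfl⟩, hzW, hWU⟩ := Z.isBasis_affineOpens.exists_subset_of_mem_open
    (show z ∈ ((f ⁻¹ᵁ U : Z.Opens) : Set Z) from hzU) (f ⁻¹ᵁ U).2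
  have hW' : IsAffine ((W : Z.Opens) : Scheme.{u}) := hW
  let fW : ((W : Z.Opens) : Scheme.{u}) ⟶ ((U : X.Opens) : Scheme.{u}) := f.resLE U W hWU
  obtain ⟨R', hKR', hR'⟩ := hst U R hKR W fW
  refine ⟨W, hzW, R', hKR', ?_⟩
  intro Z' g hg
  obtain ⟨Y, h, k, hk, hhk⟩ := hR' g hg
  change S ((g ≫ Scheme.Opens.ι W) ≫ f)
  have : (g ≫ Scheme.Opens.ι W) ≫ f = h ≫ (k ≫ U.ι) := by
    rw [Category.assoc, ← Scheme.Hom.resLE_comp_ι f hWU, ← Category.assoc, ← hhk, Category.assoc]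
  rw [this]
  exact S.downward_closed (hRS k hk) h

theorem isSeparatedFor_of_locRef (hF : Presieve.IsSheaf Scheme.zariskiTopology F)
    (K : ∀ T : Scheme.{u}, Presieve T → Prop)
    (hK : ∀ T R, K T R → Presieve.IsSeparatedFor F R)
    {X : Scheme.{u}} (S : Sieve X) (hS : LocRef K S) : Presieve.IsSeparatedFor F S.arrows := by
  intro x t₁ t₂ h₁ h₂
  apply zariski_ext hF
  intro z
  obtain ⟨U, hzU, R, hKR, hRS⟩ := hS z
  refine ⟨U, hzU, ?_⟩
  apply (hK U R hKR).ext
  intro Y g hg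
  have e₁ := h₁ (g ≫ U.ι) (hRS g hg)
  have e₂ := h₂ (g ≫ U.ι) (hRS g hg)
  rw [op_comp, F.map_comp] at e₁ e₂
  exact e₁.trans e₂.symm

theorem isSheafFor_of_locRef (hF : Presieve.IsSheaf Scheme.zariskiTopology F)
    (K : ∀ T : Scheme.{u}, Presieve T → Prop)
    (hK : ∀ T R, K T R → Presieve.IsSheafFor F R) (hst : StableAff K)
    {X : Scheme.{u}} (S : Sieve X) (hS : LocRef K S) : Presieve.IsSheafFor F S.arrows := by
  have hKsep : ∀ T R, K T R → Presieve.IsSeparatedFor F R :=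
    fun T R h => (hK T R h).isSeparatedFor
  have hsepAll : ∀ {Z : Scheme.{u}} (f : Z ⟶ X), Presieve.IsSeparatedFor F (S.pullback f).arrows :=
    fun f => isSeparatedFor_of_locRef hF K hKsep _ (hS.pullback hst f)
  rw [← Presieve.isSeparatedFor_and_exists_isAmalgamation_iff_isSheafFor]
  refine ⟨isSeparatedFor_of_locRef hF K hKsep S hS, ?_⟩
  intro x hx
  have hsc : x.SieveCompatible := (Presieve.compatible_iff_sieveCompatible x).1 hx
  have xcongr : ∀ {Z : Scheme.{u}} {f f' : Z ⟶ X} (hf : S f) (hf' : S f') (_ : f = f'),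
      x f hf = x f' hf' := by
    intro Z f f' hf hf' e; subst e; rfl
  -- restriction formula
  have xres : ∀ {Z Z' : Scheme.{u}} (f : Z ⟶ X) (g : Z' ⟶ Z) (hf : S f) (hgf : S (g ≫ f)),
      F.map g.op (x f hf) = x (g ≫ f) hgf := fun f g hf hgf => (hsc f g hf).symm
  choose U hxU R hKR hRS using hS
  let y : ∀ a : X, Presieve.FamilyOfElements F (R a) :=
    fun a Z g hg => x (g ≫ (U a).ι) (hRS a g hg)
  have hy : ∀ a, (y a).Compatible := by
    intro a Z₁ Z₂ Y h₁ h₂ g₁ g₂ hg₁ hg₂ e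
    change F.map h₁.op (x (g₁ ≫ (U a).ι) _) = F.map h₂.op (x (g₂ ≫ (U a).ι) _)
    rw [xres _ h₁ _ (S.downward_closed (hRS a g₁ hg₁) h₁),
      xres _ h₂ _ (S.downward_closed (hRS a g₂ hg₂) h₂)]
    apply xcongr
    rw [← Category.assoc, e, Category.assoc]
  let s : ∀ a : X, F.obj (op ((U a : X.Opens) : Scheme.{u})) :=
    fun a => (hK _ _ (hKR a)).amalgamate (y a) (hy a)
  have hs : ∀ (a : X) (Z : Scheme.{u}) (g : Z ⟶ ((U a : X.Opens) : Scheme.{u})) (hg : R a g),
      F.map g.op (s a) = x (g ≫ (U a).ι) (hRS a g hg) :=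
    fun a Z g hg => (hK _ _ (hKR a)).valid_glue (hy a) g hg
  have star : ∀ (a : X) (Z : Scheme.{u}) (f : Z ⟶ ((U a : X.Opens) : Scheme.{u}))
      (hf : S (f ≫ (U a).ι)), F.map f.op (s a) = x (f ≫ (U a).ι) hf := by
    intro a Z f hf
    apply zariski_ext hF
    intro z
    obtain ⟨_, ⟨W, hW, rfl⟩, hzW, -⟩ := Z.isBasis_affineOpens.exists_subset_of_mem_open
      (Set.mem_univ z) isOpen_univ
    refine ⟨W, hzW, ?_⟩
    have hW' : IsAffine ((W : Z.Opens) : Scheme.{u}) := hW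
    obtain ⟨R', hKR', hR'⟩ := hst _ (R a) (hKR a) W (Scheme.Opens.ι W ≫ f)
    apply (hKsep _ R' hKR').ext
    intro Y g hg
    obtain ⟨Y', h, k, hk, hhk⟩ := hR' g hg
    have e1 : F.map g.op (F.map (Scheme.Opens.ι W).op (F.map f.op (s a))) =
        F.map h.op (F.map k.op (s a)) := by
      simp only [← Functor.map_comp_apply, ← op_comp]
      rw [hhk]
    have hS1 : S (h ≫ k ≫ (U a).ι) := S.downward_closed (hRS a k hk) h
    rw [e1, hs a _ k hk, xres _ h _ hS1]
    have hS2 : S (Scheme.Opens.ι W ≫ f ≫ (U a).ι) := S.downward_closed hf _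
    have hS3 : S (g ≫ Scheme.Opens.ι W ≫ f ≫ (U a).ι) := S.downward_closed hS2 _
    rw [xres _ (Scheme.Opens.ι W) hf hS2, xres _ g hS2 hS3]
    apply xcongr
    rw [← Category.assoc, hhk, Category.assoc, Category.assoc]
  have hcompat : ∀ (a b : X) (Y : Scheme.{u}) (g₁ : Y ⟶ ((U a : X.Opens) : Scheme.{u}))
      (g₂ : Y ⟶ ((U b : X.Opens) : Scheme.{u})), g₁ ≫ (U a).ι = g₂ ≫ (U b).ι →
        F.map g₁.op (s a) = F.map g₂.op (s b) := by
    intro a b Y g₁ g₂ e
    apply (hsepAll (g₁ ≫ (U a).ι)).ext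
    intro Y' h hh
    have hh1 : S ((h ≫ g₁) ≫ (U a).ι) := by rw [Category.assoc]; exact hh
    have hh2 : S ((h ≫ g₂) ≫ (U b).ι) := by rw [Category.assoc, ← e]; exact hh
    have e1 := star a Y' (h ≫ g₁) hh1
    have e2 := star b Y' (h ≫ g₂) hh2
    rw [op_comp, F.map_comp] at e1 e2
    refine e1.trans (Eq.trans ?_ e2.symm)
    apply xcongr
    rw [Category.assoc, Category.assoc, e]
  obtain ⟨t, ht⟩ := zariski_glue hF U (fun z => ⟨z, hxU z⟩) s hcompat
  refine ⟨t, ?_⟩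
  intro Z f hf
  apply zariski_ext hF
  intro z
  refine ⟨f ⁻¹ᵁ (U (f z)), hxU (f z), ?_⟩
  have hS1 : S ((f ⁻¹ᵁ (U (f z))).ι ≫ f) := S.downward_closed hf _
  have hS2 : S ((f ∣_ (U (f z))) ≫ (U (f z)).ι) := by rw [morphismRestrict_ι]; exact hS1
  rw [xres f _ hf hS1]
  have e1 : F.map (f ⁻¹ᵁ (U (f z))).ι.op (F.map f.op t) = F.map (f ∣_ (U (f z))).op (s (f z)) := by
    rw [← ht (f z)]
    simp only [← Functor.map_comp_apply, ← op_comp]
    rw [morphismRestrict_ι]
  rw [e1, star (f z) _ (f ∣_ (U (f z))) hS2]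
  apply xcongr
  exact morphismRestrict_ι _ _

end Groth.Agent.Lib.R2H4.LocSheaf
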