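import Mathlib
import Groth.Agent.Lib.R2H3MorSLocal
import Groth.Agent.Lib.R2H4LocSheaf

/-!
# Zariski gluing of representability for presheaves on schemes over `S`

For a presheaf `G` on `Over S` which is a Zariski sheaf (`MorSLocal.IsZarSheaf`), covered by
"open pieces" (`Piece G`), `G` is representable (`isRepresentable_of_pieces`).  The proof passes to
the presheaf `tot G` on all schemes (`T ↦ Σ t : T ⟶ S, G (T, t)`) and uses Mathlib's
`Scheme.LocalRepresentability`.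
-/

universe u

open CategoryTheory CategoryTheory.Limits AlgebraicGeometry Opposite

namespace Groth.Agent.Lib.R2H3.ZarGlueOver

open Groth.Agent.Lib.R2H3.MorSLocal

variable {S : Scheme.{u}} (G : (Over S)ᵒᵖ ⥤ Type u)

/-- restriction of a section along a morphism of schemes compatible with given structure maps. -/
def rs {T' T : Scheme.{u}} (φ : T' ⟶ T) {t : T ⟶ S} {t' : T' ⟶ S} (h : φ ≫ t = t')
    (b : G.obj (op (Over.mk t))) : G.obj (op (Over.mk t')) :=
  G.map (Over.homMk φ h : Over.mk t' ⟶ Over.mk t).op b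

variable {G}

lemma rs_congr {T' T : Scheme.{u}} {φ φ' : T' ⟶ T} (hφ : φ = φ') {t : T ⟶ S} {t' : T' ⟶ S}
    (h : φ ≫ t = t') (b : G.obj (op (Over.mk t))) :
    rs G φ h b = rs G φ' (hφ ▸ h) b := by
  subst hφ
  rfl

lemma rs_congr' {T' T : Scheme.{u}} {φ φ' : T' ⟶ T} (hφ : φ = φ') {t : T ⟶ S} {t' : T' ⟶ S}
    (h : φ ≫ t = t') (h' : φ' ≫ t = t') (b : G.obj (op (Over.mk t))) :
    rs G φ h b = rs G φ' h' b := by
  subst hφ
  rfl

lemma rs_rs {T'' T' T : Scheme.{u}} (ψ : T'' ⟶ T') (φ : T' ⟶ T) {t : T ⟶ S} {t' : T' ⟶ S}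
    {t'' : T'' ⟶ S} (h : φ ≫ t = t') (h' : ψ ≫ t' = t'') (b : G.obj (op (Over.mk t))) :
    rs G ψ h' (rs G φ h b) = rs G (ψ ≫ φ) (by rw [Category.assoc, h, h']) b := by
  unfold rs
  rw [← map_comp_op]
  rfl

lemma rs_id {T : Scheme.{u}} {t t' : T ⟶ S} (h : 𝟙 T ≫ t = t') (b : G.obj (op (Over.mk t))) :
    rs G (𝟙 T) h b = (show t = t' by simpa using h) ▸ b := by
  have ht : t = t' := by simpa using h
  subst ht
  unfold rs
  have : (Over.homMk (𝟙 T) h : Over.mk t ⟶ Over.mk t) = 𝟙 _ := rfl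
  rw [this, op_id, G.map_id]
  rfl

lemma rs_id' {T : Scheme.{u}} {t : T ⟶ S} (h : 𝟙 T ≫ t = t) (b : G.obj (op (Over.mk t))) :
    rs G (𝟙 T) h b = b := rs_id h b

/-- pull back an equation between restrictions. -/
lemma rs_transfer {T₀ T₁ T₂ : Scheme.{u}} {t₁ : T₁ ⟶ S} {t₂ : T₂ ⟶ S}
    {b₁ : G.obj (op (Over.mk t₁))} {b₂ : G.obj (op (Over.mk t₂))} {φ₁ : T₀ ⟶ T₁} {φ₂ : T₀ ⟶ T₂}
    {t₀ : T₀ ⟶ S} {h₁ : φ₁ ≫ t₁ = t₀} {h₂ : φ₂ ≫ t₂ = t₀}
    (H : rs G φ₁ h₁ b₁ = rs G φ₂ h₂ b₂) {T₃ : Scheme.{u}} (ψ : T₃ ⟶ T₀) {ψ₁ : T₃ ⟶ T₁}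
    {ψ₂ : T₃ ⟶ T₂} (e1 : ψ ≫ φ₁ = ψ₁) (e2 : ψ ≫ φ₂ = ψ₂) {t₃ : T₃ ⟶ S}
    (k₁ : ψ₁ ≫ t₁ = t₃) (k₂ : ψ₂ ≫ t₂ = t₃) : rs G ψ₁ k₁ b₁ = rs G ψ₂ k₂ b₂ := by
  subst e1 e2
  have hψ : ψ ≫ t₀ = t₃ := by rw [← h₁, ← Category.assoc, k₁]
  have := congrArg (rs G ψ hψ) H
  rwa [rs_rs, rs_rs] at this

lemma map_eq_rs {T' T : Over S} (a : T' ⟶ T) (b : G.obj (op T)) :
    G.map a.op b = rs G a.left (Over.w a) (b : G.obj (op (Over.mk T.hom))) := rfl

lemma sigma_rs_eq {T' T : Scheme.{u}} (φ : T' ⟶ T) {t : T ⟶ S} {t' t'' : T' ⟶ S}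
    (h1 : φ ≫ t = t') (h2 : φ ≫ t = t'') (b : G.obj (op (Over.mk t))) :
    (⟨t', rs G φ h1 b⟩ : Σ t : T' ⟶ S, G.obj (op (Over.mk t))) = ⟨t'', rs G φ h2 b⟩ := by
  subst h1
  subst h2
  rfl

variable (G)

/-- the presheaf on all schemes associated with a presheaf on schemes over `S`. -/
def tot : Scheme.{u}ᵒᵖ ⥤ Type u where
  obj T := Σ t : T.unop ⟶ S, G.obj (op (Over.mk t))
  map φ := ↾fun x => ⟨φ.unop ≫ x.1, rs G φ.unop rfl x.2⟩
  map_id T := by
    refine ConcreteCategory.hom_ext _ _ (fun x => ?_)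
    obtain ⟨t, b⟩ := x
    change (⟨𝟙 _ ≫ t, rs G (𝟙 _) rfl b⟩ : Σ t : T.unop ⟶ S, G.obj (op (Over.mk t))) = ⟨t, b⟩
    refine (sigma_rs_eq (𝟙 _) rfl (Category.id_comp t) b).trans ?_
    rw [rs_id']
  map_comp φ ψ := by
    refine ConcreteCategory.hom_ext _ _ (fun x => ?_)
    obtain ⟨t, b⟩ := x
    change (⟨(ψ.unop ≫ φ.unop) ≫ t, rs G (ψ.unop ≫ φ.unop) rfl b⟩ :
      Σ t : _ ⟶ S, G.obj (op (Over.mk t))) =
      ⟨ψ.unop ≫ φ.unop ≫ t, rs G ψ.unop rfl (rs G φ.unop rfl b)⟩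
    rw [rs_rs]
    exact sigma_rs_eq _ _ _ b

variable {G}

lemma tot_map {T T' : Scheme.{u}} (φ : T' ⟶ T) (x : (tot G).obj (op T)) :
    (tot G).map φ.op x = ⟨φ ≫ x.1, rs G φ rfl x.2⟩ := rfl

lemma tot_ext {T : Scheme.{u}} {t t' : T ⟶ S} {b : G.obj (op (Over.mk t))}
    {b' : G.obj (op (Over.mk t'))} (h : t = t')
    (h2 : rs G (𝟙 T) ((Category.id_comp t).trans h) b = b') :
    (⟨t, b⟩ : Σ t : T ⟶ S, G.obj (op (Over.mk t))) = ⟨t', b'⟩ := by
  subst h
  rw [rs_id'] at h2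
  subst h2
  rfl

lemma tot_ext_iff {T : Scheme.{u}} {t t' : T ⟶ S} {b : G.obj (op (Over.mk t))}
    {b' : G.obj (op (Over.mk t'))} :
    (⟨t, b⟩ : Σ t : T ⟶ S, G.obj (op (Over.mk t))) = ⟨t', b'⟩ ↔
      ∃ h : t = t', rs G (𝟙 T) ((Category.id_comp t).trans h) b = b' := by
  constructor
  · intro h
    obtain h1 : t = t' := congrArg Sigma.fst h
    subst h1
    have h2 : b = b' := eq_of_heq (Sigma.mk.inj h).2
    subst h2
    exact ⟨rfl, rs_id' _ _⟩
  · rintro ⟨h, h2⟩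
    exact tot_ext h h2

theorem isSheaf_tot (hG : IsZarSheaf G) : Presieve.IsSheaf Scheme.zariskiTopology (tot G) := by
  rw [Precoverage.isSheaf_toGrothendieck_iff_of_isStableUnderBaseChange_of_small.{u}]
  intro Y 𝒰
  change Presieve.IsSheafFor _ (Presieve.ofArrows 𝒰.X 𝒰.f)
  rw [Presieve.isSheafFor_arrows_iff]
  intro x hx
  -- the structure map
  have hcompat : ∀ i j, pullback.fst (𝒰.f i) (𝒰.f j) ≫ (x i).1 =
      pullback.snd (𝒰.f i) (𝒰.f j) ≫ (x j).1 := fun i j =>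
    congrArg Sigma.fst (hx i j _ (pullback.fst (𝒰.f i) (𝒰.f j)) (pullback.snd (𝒰.f i) (𝒰.f j))
      pullback.condition)
  let 𝒰' : Scheme.OpenCover.{u} Y := 𝒰
  let t : Y ⟶ S := 𝒰'.glueMorphisms (fun i => (x i).1) hcompat
  have ht : ∀ i, 𝒰.f i ≫ t = (x i).1 := fun i => 𝒰'.ι_glueMorphisms _ _ i
  let T : Over S := Over.mk t
  let b' : ∀ i, G.obj (op (Ti T 𝒰' i)) := fun i =>
    rs G (𝟙 _) ((Category.id_comp _).trans (ht i).symm) (x i).2
  have hb' : ∀ i j, G.map (p1 T 𝒰' i j).op (b' i) = G.map (p2 T 𝒰' i j).op (b' j) := by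
    intro i j
    have h1 := hx i j _ (pullback.fst (𝒰.f i) (𝒰.f j)) (pullback.snd (𝒰.f i) (𝒰.f j))
      pullback.condition
    obtain ⟨h2, h3⟩ := tot_ext_iff.1 h1
    rw [rs_rs] at h3
    change rs G (pullback.fst (𝒰.f i) (𝒰.f j)) _ (rs G (𝟙 _) _ (x i).2) =
      rs G (pullback.snd (𝒰.f i) (𝒰.f j)) _ (rs G (𝟙 _) _ (x j).2)
    rw [rs_rs, rs_rs]
    exact rs_transfer h3 (𝟙 _) (by simp) (by simp) _ _
  obtain ⟨b, hb⟩ := hG.glue T 𝒰' b' hb'
  refine ⟨⟨t, b⟩, ?_, ?_⟩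
  · intro i
    rw [tot_map]
    have hxi : x i = ⟨(x i).1, (x i).2⟩ := rfl
    rw [hxi]
    refine tot_ext (ht i) ?_
    have h1 : rs G (𝒰.f i) rfl b = rs G (𝟙 _) ((Category.id_comp _).trans (ht i).symm) (x i).2 :=
      hb i
    change rs G (𝟙 _) _ (rs G (𝒰.f i) _ b) = _
    rw [h1, rs_rs]
    exact (rs_congr (Category.id_comp _) _ _).trans (rs_id' _ _)
  · rintro ⟨t', c⟩ hy
    have ht' : t' = t := by
      refine Scheme.Cover.hom_ext 𝒰' _ _ (fun i => ?_)
      rw [ht i]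
      exact congrArg Sigma.fst (hy i)
    refine tot_ext ht' ?_
    apply hG.sep T 𝒰'
    intro i
    rw [hb i]
    obtain ⟨h2, h3⟩ := tot_ext_iff.1 (hy i)
    rw [rs_rs] at h3
    change rs G (𝒰.f i) _ (rs G (𝟙 _) _ c) = rs G (𝟙 _) _ (x i).2
    rw [← h3, rs_rs, rs_rs]
    exact rs_congr' (by simp) _ _ _

variable (G)

/-- an open piece of `G`: a section `e` over `W` which is a universal element of an open
subfunctor of `G`. -/
structure Piece where
  /-- the representing object of the piece -/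
  W : Over S
  /-- the universal element -/
  e : G.obj (op W)
  inj : ∀ T : Over S, Function.Injective (fun a : T ⟶ W => G.map a.op e)
  /-- the open locus where a section lies in the piece -/
  locus : ∀ (T : Over S), G.obj (op T) → T.left.Opens
  locus_spec : ∀ (T : Over S) (b : G.obj (op T)) (T' : Over S) (φ : T' ⟶ T),
    (∃ a : T' ⟶ W, G.map a.op e = G.map φ.op b) ↔ Set.range φ.left ⊆ (locus T b : Set T.left)

variable {G}

namespace Piece

variable (P : Piece G)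

/-- the map of presheaves on schemes given by a piece. -/
noncomputable def toTot : yoneda.obj P.W.left ⟶ tot G :=
  yonedaEquiv.symm (⟨P.W.hom, P.e⟩ : (tot G).obj (op P.W.left))

lemma toTot_app {T' : Scheme.{u}} (a' : T' ⟶ P.W.left) :
    P.toTot.app (op T') a' = (⟨a' ≫ P.W.hom, rs G a' rfl P.e⟩ : (tot G).obj (op T')) := by
  exact yonedaEquiv_symm_app_apply (F := tot G) _ (op T') a'

/-- restriction of a section to the locus lies in the piece. -/
lemma exists_hom_locus {T : Scheme.{u}} (t : T ⟶ S) (b : G.obj (op (Over.mk t))) :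
    ∃ a : (P.locus (Over.mk t) b).toScheme ⟶ P.W.left,
      ∃ h : a ≫ P.W.hom = (P.locus (Over.mk t) b).ι ≫ t,
        rs G a h P.e = rs G (P.locus (Over.mk t) b).ι rfl b := by
  let U := P.locus (Over.mk t) b
  let φ : Over.mk (U.ι ≫ t) ⟶ Over.mk t := Over.homMk U.ι rfl
  obtain ⟨a, ha⟩ := (P.locus_spec (Over.mk t) b (Over.mk (U.ι ≫ t)) φ).2 (by
    change Set.range U.ι ⊆ _
    rw [Scheme.Opens.range_ι])
  exact ⟨a.left, Over.w a, ha⟩

theorem isOpenImmersion_toTot : IsOpenImmersion.presheaf P.toTot := by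
  refine MorphismProperty.relative.of_exists (fun T g => ?_)
  have hg : ∀ {T' : Scheme.{u}} (φ : T' ⟶ T),
      g.app (op T') φ = (tot G).map φ.op (yonedaEquiv g) := fun φ => (map_yonedaEquiv g φ).symm
  generalize hx : yonedaEquiv g = x at hg
  obtain ⟨t, b⟩ := x
  let U : T.Opens := P.locus (Over.mk t) b
  obtain ⟨a, ha1, ha2⟩ := P.exists_hom_locus t b
  have hcomm : yoneda.map a ≫ P.toTot = yoneda.map U.ι ≫ g := by
    apply yonedaEquiv.injective
    rw [yonedaEquiv_comp, yonedaEquiv_comp, yonedaEquiv_yoneda_map, yonedaEquiv_yoneda_map,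
      toTot_app, hg]
    exact tot_ext ha1 ((rs_rs _ _ _ _ _).trans
      ((rs_congr' (Category.id_comp _) _ _ _).trans ha2))
  refine ⟨U.toScheme, yoneda.map a, U.ι, ?_, inferInstance⟩
  refine IsPullback.of_forall_isPullback_app (fun T' => ?_)
  rw [Types.isPullback_iff]
  refine ⟨congrArg (fun m => m.app T') hcomm, ?_, ?_⟩
  · rintro c c' ⟨-, h2⟩
    have h3 : c ≫ U.ι = c' ≫ U.ι := h2
    exact (cancel_mono U.ι).1 h3
  · intro (a' : T'.unop ⟶ P.W.left) (φ : T'.unop ⟶ T) h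
    replace h : P.toTot.app (op T'.unop) a' = g.app (op T'.unop) φ := h
    rw [toTot_app, hg] at h
    obtain ⟨h1, h2⟩ := tot_ext_iff.1 h
    rw [rs_rs] at h2
    -- `φ` factors through the locus
    have hr : Set.range φ ⊆ (U : Set T) := by
      refine (P.locus_spec (Over.mk t) b (Over.mk (φ ≫ t))
        (Over.homMk φ rfl : Over.mk (φ ≫ t) ⟶ Over.mk t)).1 ⟨Over.homMk a' h1, ?_⟩
      exact (rs_congr' (Category.id_comp _).symm _ _ _).trans h2
    have hr' : Set.range φ ⊆ Set.range U.ι := by rwa [Scheme.Opens.range_ι]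
    let c : T'.unop ⟶ U.toScheme := IsOpenImmersion.lift U.ι φ hr'
    have hc : c ≫ U.ι = φ := IsOpenImmersion.lift_fac _ _ _
    refine ⟨c, ?_, hc⟩
    change c ≫ a = a'
    have hca : (c ≫ a) ≫ P.W.hom = φ ≫ t := by rw [Category.assoc, ha1, ← Category.assoc, hc]
    have := P.inj (Over.mk (φ ≫ t)) (a₁ := Over.homMk (c ≫ a) hca) (a₂ := Over.homMk a' h1) (by
      change rs G (c ≫ a) _ P.e = rs G a' _ P.e
      have h3 : rs G (c ≫ a) hca P.e = rs G c (by rw [← Category.assoc, hc]) (rs G a ha1 P.e) :=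
        (rs_rs _ _ _ _ _).symm
      rw [h3, ha2, rs_rs]
      refine Eq.trans ?_ ((rs_congr' (Category.id_comp _).symm _ _ _).trans h2).symm
      exact rs_congr' hc _ _ _)
    exact congrArg (fun m => m.left) this

end Piece

section Main

variable {ι : Type u} (P : ι → Piece G)

theorem isLocallySurjective_desc
    (hcov : ∀ (T : Over S) (b : G.obj (op T)) (x : T.left), ∃ i, x ∈ (P i).locus T b) :
    Presheaf.IsLocallySurjective Scheme.zariskiTopology
      (Sigma.desc (fun i => (P i).toTot)) := by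
  constructor
  intro T s
  obtain ⟨t, b⟩ := s
  apply Groth.Agent.Lib.R2H4.LocSheaf.sieve_mem_zariski_of_opens
  intro x
  obtain ⟨i, hi⟩ := hcov (Over.mk t) b x
  let U : T.Opens := (P i).locus (Over.mk t) b
  refine ⟨U, hi, ?_⟩
  obtain ⟨a, ha1, ha2⟩ := (P i).exists_hom_locus t b
  refine ⟨(Sigma.ι (fun i => yoneda.obj (P i).W.left) i).app (op U.toScheme) a, ?_⟩
  have h1 : (Sigma.ι (fun i => yoneda.obj (P i).W.left) i ≫
      Sigma.desc (fun i => (P i).toTot)).app (op U.toScheme) a =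
        (P i).toTot.app (op U.toScheme) a := by
    rw [Sigma.ι_desc]
  rw [NatTrans.comp_app] at h1
  refine h1.trans ?_
  rw [Piece.toTot_app]
  exact tot_ext ha1 ((rs_rs _ _ _ _ _).trans
    ((rs_congr' (Category.id_comp _) _ _ _).trans ha2))

theorem isRepresentable_tot (hG : IsZarSheaf G)
    (hcov : ∀ (T : Over S) (b : G.obj (op T)) (x : T.left), ∃ i, x ∈ (P i).locus T b) :
    (tot G).IsRepresentable := by
  have := isLocallySurjective_desc P hcov
  exact Scheme.LocalRepresentability.isRepresentable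
    (F := ⟨tot G, (isSheaf_iff_isSheaf_of_type _ _).2 (isSheaf_tot hG)⟩)
    (f := fun i => (P i).toTot) (fun i => (P i).isOpenImmersion_toTot)

end Main

/-- representability of `tot G` gives representability of `G`. -/
theorem isRepresentable_of_tot (h : (tot G).IsRepresentable) : G.IsRepresentable := by
  obtain ⟨M, ⟨r⟩⟩ := h
  have hr : ∀ {T' : Scheme.{u}} (c : T' ⟶ M),
      r.homEquiv c = (tot G).map c.op (r.homEquiv (𝟙 M)) := fun c => r.homEquiv_eq c
  generalize hx : r.homEquiv (𝟙 M) = x at hr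
  obtain ⟨w, e⟩ := x
  let W : Over S := Over.mk w
  refine ⟨W, ⟨representableBy_of_bijective W (G := G) e (fun T => ⟨?_, ?_⟩)⟩⟩
  · intro a a' haa
    replace haa : rs G a.left (Over.w a) e = rs G a'.left (Over.w a') e := haa
    have h1 : r.homEquiv a.left = r.homEquiv a'.left := by
      rw [hr, hr]
      refine tot_ext ((Over.w a).trans (Over.w a').symm) ?_
      refine (rs_rs _ _ _ _ _).trans ?_
      exact rs_transfer haa (𝟙 _) (by simp) (by simp) _ _
    exact Over.OverMorphism.ext (r.homEquiv.injective h1)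
  · intro b
    let al : T.left ⟶ M := r.homEquiv.symm (⟨T.hom, b⟩ : (tot G).obj (op T.left))
    have h1 : r.homEquiv al = (⟨T.hom, b⟩ : (tot G).obj (op T.left)) :=
      Equiv.apply_symm_apply _ _
    rw [hr] at h1
    obtain ⟨h2, h3⟩ := tot_ext_iff.1 h1
    rw [rs_rs] at h3
    refine ⟨Over.homMk al h2, ?_⟩
    exact (rs_congr' (Category.id_comp _).symm _ _ _).trans h3

/-- **Zariski gluing**: a Zariski sheaf on `Over S` covered by open pieces is representable. -/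
theorem isRepresentable_of_pieces (hG : IsZarSheaf G) {ι : Type u} (P : ι → Piece G)
    (hcov : ∀ (T : Over S) (b : G.obj (op T)) (x : T.left), ∃ i, x ∈ (P i).locus T b) :
    G.IsRepresentable :=
  isRepresentable_of_tot (isRepresentable_tot P hG hcov)

end Groth.Agent.Lib.R2H3.ZarGlueOver
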