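import Mathlib
import Groth.Agent.Lib.H5bEtThickA
import Groth.Agent.Lib.H5bEtThickB
import Groth.Agent.Lib.R2H3ZarGlueOver

/-!
# Étale schemes over a thickening lift (helper5)

For a surjective closed immersion `i : S₀ ⟶ S` and `V₀` étale over `S₀` there is `V` étale over
`S` with `V ×_S S₀ ≅ V₀` over `S₀` (`exists_lift`).  The scheme `V` represents the functor
`T ↦ Hom_{S₀}(T ×_S S₀, V₀)`, which is glued from local lifts by
`R2H3.ZarGlueOver.isRepresentable_of_pieces`.
-/

set_option autoImplicit false
set_option linter.style.haveILetI false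
universe u
open CategoryTheory CategoryTheory.Limits AlgebraicGeometry Opposite TopologicalSpace

namespace Groth.Agent.Lib.H5bEtThick

open Groth.Agent.Lib.R2H3.ZarGlueOver Groth.Agent.Lib.R2H3.MorSLocal Groth.Agent.Lib.Helper8MorS

variable {S S₀ : Scheme.{u}} (i : S₀ ⟶ S) [IsClosedImmersion i]

/-- local lifts of an étale `S₀`-scheme. -/
theorem exists_localLift (V₀ : Over S₀) [Etale V₀.hom] (x : V₀.left) :
    ∃ (W : Over S) (θ : (Over.pullback i).obj W ⟶ V₀),
      Etale W.hom ∧ IsOpenImmersion θ.left ∧ x ∈ Set.range θ.left := by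
  obtain ⟨W₁, W₁₀, c, k₁, r₁, -, hc, sq, hx, hoi⟩ := exists_etale_lift_general' i V₀.hom x
  haveI := hoi
  refine ⟨Over.mk c, Over.homMk (sq.isoPullback.inv ≫ r₁) ?_, hc, ?_, ?_⟩
  · change (sq.isoPullback.inv ≫ r₁) ≫ V₀.hom = pullback.snd c i
    rw [Category.assoc]
    exact sq.isoPullback_inv_snd
  · change IsOpenImmersion (sq.isoPullback.inv ≫ r₁)
    infer_instance
  · obtain ⟨y, hy⟩ := hx
    refine ⟨sq.isoPullback.hom y, ?_⟩
    change (sq.isoPullback.inv ≫ r₁) (sq.isoPullback.hom y) = x
    rw [← Scheme.Hom.comp_apply, Iso.hom_inv_id_assoc]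
    exact hy

variable [Surjective i]

/-- the open piece of `G` given by a local lift. -/
noncomputable def piece (V₀ : Over S₀) (W : Over S) [Etale W.hom]
    (θ : (Over.pullback i).obj W ⟶ V₀) [IsOpenImmersion θ.left] : Piece (G i V₀) where
  W := W
  e := toG i θ
  inj T := by
    intro a a' h
    replace h : (G i V₀).map a.op (toG i θ) = (G i V₀).map a'.op (toG i θ) := h
    rw [G_map_toG, G_map_toG] at h
    have h' := toG_injective i h
    have h2 : (Over.pullback i).map a = (Over.pullback i).map a' := by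
      apply Over.OverMorphism.ext
      rw [← cancel_mono θ.left]
      exact congrArg (fun m => m.left) h'
    exact pb_map_injective i W T h2
  locus T b := ⟨pr i T '' ((ofG i b).left ⁻¹' Set.range θ.left),
    (pr_isHomeomorph i T).isOpenMap _
      (θ.left.isOpenEmbedding.isOpen_range.preimage (ofG i b).left.continuous)⟩
  locus_spec T b T' φ := by
    constructor
    · rintro ⟨a, ha⟩ y ⟨t', rfl⟩
      have h : (Over.pullback i).map a ≫ θ = (Over.pullback i).map φ ≫ ofG i b := by
        have := congrArg (ofG i) ha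
        rwa [G_map_toG, ofG_toG, ofG_G_map] at this
      obtain ⟨t'₀, rfl⟩ := (pr i T').surjective t'
      refine ⟨((Over.pullback i).map φ).left t'₀, ?_, ?_⟩
      · refine ⟨((Over.pullback i).map a).left t'₀, ?_⟩
        have h3 := congrArg (fun m => m.left t'₀) h
        simpa only [Over.comp_left, Scheme.Hom.comp_apply] using h3
      · have h3 := congrArg (fun m => m t'₀) (pb_map_pr i φ)
        simpa only [Scheme.Hom.comp_apply] using h3
    · intro hr
      have hrange : Set.range ((Over.pullback i).map φ ≫ ofG i b).left ⊆ Set.range θ.left := by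
        rintro _ ⟨t'₀, rfl⟩
        obtain ⟨z, hz, hz'⟩ := hr ⟨pr i T' t'₀, rfl⟩
        have h3 := congrArg (fun m => m t'₀) (pb_map_pr i φ)
        simp only [Scheme.Hom.comp_apply] at h3
        have h4 : z = ((Over.pullback i).map φ).left t'₀ :=
          (pr i T).isClosedEmbedding.injective (hz'.trans h3.symm)
        rw [Over.comp_left, Scheme.Hom.comp_apply, ← h4]
        exact hz
      let c : ((Over.pullback i).obj T').left ⟶ ((Over.pullback i).obj W).left :=
        IsOpenImmersion.lift θ.left ((Over.pullback i).map φ ≫ ofG i b).left hrange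
      have hc : c ≫ θ.left = ((Over.pullback i).map φ ≫ ofG i b).left :=
        IsOpenImmersion.lift_fac _ _ _
      let c' : (Over.pullback i).obj T' ⟶ (Over.pullback i).obj W := Over.homMk c (by
        rw [← Over.w θ, ← Category.assoc, hc]
        exact Over.w _)
      have hc' : c' ≫ θ = (Over.pullback i).map φ ≫ ofG i b := Over.OverMorphism.ext hc
      obtain ⟨a, ha⟩ := pb_map_surjective i W T' c'
      replace ha : (Over.pullback i).map a = c' := ha
      refine ⟨a, ?_⟩
      rw [G_map_toG, ha, hc', ← G_map_toG, toG_ofG]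

section Rep

variable {i}
variable {G' : (Over S)ᵒᵖ ⥤ Type u}

/-- over a representing object, the locus of a piece is isomorphic to the piece. -/
theorem etale_locus_of_rep (P : Piece G') {V : Over S} (r : G'.RepresentableBy V)
    (hW : Etale P.W.hom) :
    Etale ((P.locus V (r.homEquiv (𝟙 V))).ι ≫ V.hom) := by
  set ev := r.homEquiv (𝟙 V) with hev
  set L := P.locus V ev with hL
  let ax : P.W ⟶ V := r.homEquiv.symm P.e
  have hax : G'.map ax.op ev = P.e := by
    rw [hev, ← r.homEquiv_eq]
    exact Equiv.apply_symm_apply _ _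
  have hrange : Set.range ax.left ⊆ (L : Set V.left) :=
    (P.locus_spec V ev P.W ax).1 ⟨𝟙 _, by
      rw [hax]
      simp⟩
  let LO : Over S := Over.mk (L.ι ≫ V.hom)
  let φ : LO ⟶ V := Over.homMk L.ι rfl
  have hφr : Set.range φ.left ⊆ (L : Set V.left) := by
    change Set.range L.ι ⊆ _
    rw [Scheme.Opens.range_ι]
  obtain ⟨a, ha⟩ := (P.locus_spec V ev LO φ).2 hφr
  have hr2 : Set.range ax.left ⊆ Set.range L.ι := by
    rw [Scheme.Opens.range_ι]
    exact hrange
  let ax' : P.W ⟶ LO := Over.homMk (IsOpenImmersion.lift L.ι ax.left hr2) (by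
    change IsOpenImmersion.lift L.ι ax.left hr2 ≫ L.ι ≫ V.hom = P.W.hom
    rw [← Category.assoc, IsOpenImmersion.lift_fac]
    exact Over.w ax)
  have hax' : ax' ≫ φ = ax := Over.OverMorphism.ext (IsOpenImmersion.lift_fac _ _ _)
  have h1 : ax' ≫ a = 𝟙 _ := by
    apply P.inj
    change G'.map (ax' ≫ a).op P.e = G'.map (𝟙 P.W).op P.e
    rw [map_comp_op, ha, ← map_comp_op, hax', hax]
    simp
  have h2 : a ≫ ax' = 𝟙 _ := by
    have h3 : a ≫ ax = φ := by
      apply r.homEquiv.injective
      rw [r.homEquiv_eq, r.homEquiv_eq φ, ← hev, map_comp_op, hax, ha]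
    apply Over.OverMorphism.ext
    rw [← cancel_mono L.ι]
    have h4 := congrArg (fun m => m.left) h3
    have h5 := congrArg (fun m => m.left) hax'
    simp only [Over.comp_left] at h4 h5
    change (a.left ≫ ax'.left) ≫ φ.left = 𝟙 _ ≫ φ.left
    rw [Category.assoc, h5, h4, Category.id_comp]
  haveI : IsIso a.left :=
    ⟨ax'.left, congrArg (fun m => m.left) h2, congrArg (fun m => m.left) h1⟩
  have h6 : L.ι ≫ V.hom = a.left ≫ P.W.hom := (Over.w a).symm
  rw [h6]
  infer_instance

end Rep

/-- the unit of `Over.map i ⊣ Over.pullback i` is an isomorphism when `i` is a monomorphism. -/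
instance isIso_unit_of_mono {S S₀ : Scheme.{u}} (i : S₀ ⟶ S) [Mono i] (Z : Over S₀) :
    IsIso ((Over.mapPullbackAdj i).unit.app Z) := by
  have h : IsIso ((Over.forget S₀).map ((Over.mapPullbackAdj i).unit.app Z)) := by
    refine ⟨pullback.fst (Z.hom ≫ i) i, ?_, ?_⟩
    · change pullback.lift (𝟙 Z.left) Z.hom _ ≫ pullback.fst (Z.hom ≫ i) i = 𝟙 _
      exact pullback.lift_fst _ _ _
    · change pullback.fst (Z.hom ≫ i) i ≫ pullback.lift (𝟙 Z.left) Z.hom _ = 𝟙 _
      apply pullback.hom_ext
      · rw [Category.assoc, pullback.lift_fst, Category.comp_id, Category.id_comp]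
      · rw [← cancel_mono i, Category.assoc, Category.assoc, pullback.lift_snd_assoc,
          Category.id_comp]
        exact pullback.condition
  exact isIso_of_reflects_iso _ (Over.forget S₀)

/-- **Étale schemes lift along thickenings.** -/
theorem exists_lift (V₀ : Over S₀) [Etale V₀.hom] :
    ∃ (V : Over S) (ε : (Over.pullback i).obj V ⟶ V₀), Etale V.hom ∧ IsIso ε := by
  have hex := fun x : V₀.left => exists_localLift i V₀ x
  choose W θ hW hθ hx using hex
  haveI := hW
  haveI := hθ
  let P : V₀.left → Piece (G i V₀) := fun x => piece i V₀ (W x) (θ x)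
  have hcov : ∀ (T : Over S) (b : (G i V₀).obj (op T)) (t : T.left), ∃ x, t ∈ (P x).locus T b := by
    intro T b t
    obtain ⟨t₀, rfl⟩ := (pr i T).surjective t
    exact ⟨(ofG i b).left t₀, t₀, hx _, rfl⟩
  obtain ⟨V, ⟨r⟩⟩ := isRepresentable_of_pieces (isZarSheaf_morS i (V₀.hom ≫ i)) P hcov
  set ev := r.homEquiv (𝟙 V) with hev
  refine ⟨V, ofG i ev, ?_, ?_⟩
  · rw [IsZariskiLocalAtSource.iff_of_iSup_eq_top (P := @Etale) (fun x => (P x).locus V ev)]
    · intro x
      exact etale_locus_of_rep (P x) r (hW x)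
    · rw [eq_top_iff]
      intro t _
      obtain ⟨x, hxt⟩ := hcov V ev t
      exact Opens.mem_iSup.2 ⟨x, hxt⟩
  · apply isIso_of_yoneda_map_bijective
    intro Z
    let adj := Over.mapPullbackAdj i
    have hcomp : (fun ψ : Z ⟶ (Over.pullback i).obj V => ψ ≫ ofG i ev) =
        (fun c : (Over.pullback i).obj ((Over.map i).obj Z) ⟶ V₀ => adj.unit.app Z ≫ c) ∘
          (ofG i) ∘ r.homEquiv ∘ (adj.homEquiv Z V).symm := by
      funext ψ
      simp only [Function.comp_apply]
      rw [r.homEquiv_eq, ← hev, ofG_G_map, ← Category.assoc]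
      congr 1
      have := (adj.homEquiv Z V).apply_symm_apply ψ
      rw [Adjunction.homEquiv_unit] at this
      exact this.symm
    rw [hcomp]
    refine Function.Bijective.comp ?_ (Function.Bijective.comp ?_
      (Function.Bijective.comp r.homEquiv.bijective (adj.homEquiv Z V).symm.bijective))
    · constructor
      · intro c c' h
        exact (cancel_epi _).1 h
      · intro c
        exact ⟨inv (adj.unit.app Z) ≫ c, by simp⟩
    · exact ⟨ofG_injective i, fun c => ⟨toG i c, ofG_toG i c⟩⟩

end Groth.Agent.Lib.H5bEtThick
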