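import Mathlib
import Groth.Prelude.Def_AlgSp
import Groth.Prelude.Def_AlgSpCov
import Groth.Agent.Lib.Helper15LocEss

/-!
# Finite families of flat quasi-compact morphisms of schemes are fpqc coverings (helper5)
-/

set_option autoImplicit false
set_option linter.unusedSectionVars false
set_option linter.style.haveILetI false
universe u

namespace Groth.Agent.Lib.H5bFGlue

open CategoryTheory CategoryTheory.Limits AlgebraicGeometry AlgSp Opposite

/-- a finite, jointly surjective family of flat quasi-compact morphisms of schemes is an fpqc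
covering of sheaves. -/
lemma isFpqcCover_yon_map_finite {S : Scheme.{u}} {κ : Type u} [Finite κ] {B : Over S}
    (A : κ → Over S) (π : ∀ i, A i ⟶ B) (hfl : ∀ i, Flat (π i).left)
    (hqc : ∀ i, QuasiCompact (π i).left)
    (hs : ∀ b : ↥B.left, ∃ i, b ∈ Set.range (π i).left) :
    AlgSp.IsFpqcCover (fun i => (yon S).obj (A i)) (fun i => (yon S).map (π i)) := by
  refine ⟨fun i => Groth.Agent.Lib.Helper15LocEss.locP_yon_map_of_flat (π i) (hfl i),
    fun Z hZ h => ?_⟩
  haveI := hZ
  haveI := Fintype.ofFinite κ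
  obtain ⟨z, rfl⟩ := (yon S).map_surjective h
  have hsq : ∀ i, IsPullback (pullback.fst z (π i)).left (pullback.snd z (π i)).left z.left
      (π i).left := fun i => (IsPullback.of_hasPullback z (π i)).map (Over.forget S)
  haveI : ∀ i, QuasiCompact (pullback.fst z (π i)).left := fun i =>
    MorphismProperty.of_isPullback (P := @QuasiCompact) (hsq i).flip (hqc i)
  haveI : ∀ i, Flat (pullback.fst z (π i)).left := fun i =>
    MorphismProperty.of_isPullback (P := @Flat) (hsq i).flip (hfl i)
  haveI : ∀ i, CompactSpace (pullback z (π i)).left := fun i =>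
    QuasiCompact.compactSpace_of_compactSpace (pullback.fst z (π i)).left
  -- finite affine covers of the pullbacks
  have hcov : ∀ i, ∃ 𝒰 : (pullback z (π i)).left.OpenCover,
      𝒰 = (pullback z (π i)).left.affineCover.finiteSubcover := fun i => ⟨_, rfl⟩
  choose 𝒰 h𝒰 using hcov
  haveI : ∀ i, Fintype (𝒰 i).I₀ := fun i => by rw [h𝒰 i]; infer_instance
  haveI : ∀ i (l : (𝒰 i).I₀), IsAffine ((𝒰 i).X l) := fun i => by rw [h𝒰 i]; infer_instance
  let J := Σ i, (𝒰 i).I₀
  let eq := Fintype.equivFin J
  let W' : J → Over S := fun r => Over.mk ((𝒰 r.1).f r.2 ≫ (pullback z (π r.1)).hom)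
  let incl' : ∀ r : J, W' r ⟶ pullback z (π r.1) := fun r => Over.homMk ((𝒰 r.1).f r.2) rfl
  refine ⟨Fintype.card J, fun j => W' (eq.symm j),
    fun j => incl' (eq.symm j) ≫ pullback.fst z (π (eq.symm j).1), fun j => ?_, fun j => ?_,
    fun x => ?_, fun j => ⟨(eq.symm j).1,
      (yon S).map (incl' (eq.symm j) ≫ pullback.snd z (π (eq.symm j).1)), ?_⟩⟩
  · exact inferInstanceAs (IsAffine ((𝒰 (eq.symm j).1).X (eq.symm j).2))
  · rw [Over.comp_left]
    haveI : Flat (incl' (eq.symm j)).left :=
      inferInstanceAs (Flat ((𝒰 (eq.symm j).1).f (eq.symm j).2))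
    infer_instance
  · obtain ⟨i, a, ha⟩ := hs (z.left x)
    obtain ⟨y, hy1, -⟩ := Scheme.exists_preimage_of_isPullback (hsq i) x a ha.symm
    obtain ⟨l, w, hw⟩ := (𝒰 i).exists_eq y
    have hP : ∀ r : J, r = ⟨i, l⟩ →
        x ∈ Set.range ⇑(incl' r ≫ pullback.fst z (π r.1)).left := by
      rintro r rfl
      refine ⟨w, ?_⟩
      rw [Over.comp_left, Scheme.Hom.comp_apply]
      change (pullback.fst z (π i)).left (((𝒰 i).f l) w) = x
      rw [hw]
      exact hy1
    exact ⟨eq ⟨i, l⟩, hP _ (eq.symm_apply_apply _)⟩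
  · rw [← Functor.map_comp, ← Functor.map_comp, Category.assoc, Category.assoc, pullback.condition]

end Groth.Agent.Lib.H5bFGlue
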