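import Mathlib

/-!
# The localization at `1 + J` (helper5)

For an `R`-algebra `B` and an ideal `J` of `B`, the localization `B' = (1 + J)⁻¹ B` is flat over `R`
as soon as `B_q` is flat over `R` for every prime `q ⊇ J`; and every prime `q ⊇ J` survives in `B'`.
-/

set_option autoImplicit false
universe u

namespace Groth.Agent.Lib.H5bFGlue

variable {B : Type u} [CommRing B]

/-- the submonoid `1 + J`. -/
def oneAdd (J : Ideal B) : Submonoid B where
  carrier := {b | b - 1 ∈ J}
  one_mem' := by simp
  mul_mem' := fun {a b} ha hb => by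
    have h : a * b - 1 = a * (b - 1) + (a - 1) := by ring
    rw [Set.mem_setOf_eq, h]
    exact J.add_mem (J.mul_mem_left _ hb) ha

lemma mem_oneAdd {J : Ideal B} {b : B} : b ∈ oneAdd J ↔ b - 1 ∈ J := Iff.rfl

/-- a prime containing `J` is disjoint from `1 + J`. -/
lemma disjoint_oneAdd (J : Ideal B) (q : Ideal B) [q.IsPrime] (h : J ≤ q) :
    Disjoint (oneAdd J : Set B) (q : Set B) := by
  rw [Set.disjoint_left]
  intro b hb hbq
  have h1 : b - 1 ∈ q := h hb
  have h2 : (1 : B) ∈ q := by
    have : (1 : B) = b - (b - 1) := by ring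
    rw [this]
    exact q.sub_mem hbq h1
  exact (Ideal.IsPrime.ne_top ‹_›) ((Ideal.eq_top_iff_one _).2 h2)

/-- `J` is contained in every maximal ideal of `(1 + J)⁻¹ B`. -/
lemma le_comap_of_isMaximal (J : Ideal B) (n : Ideal (Localization (oneAdd J))) [hn : n.IsMaximal] :
    J ≤ n.comap (algebraMap B (Localization (oneAdd J))) := by
  intro x hx
  rw [Ideal.mem_comap]
  by_contra hxn
  obtain ⟨y, i, hi, hyi⟩ := hn.exists_inv hxn
  obtain ⟨⟨b, s⟩, hbs⟩ := IsLocalization.mk'_surjective (oneAdd J) y
  have hs : y * algebraMap B _ (s : B) = algebraMap B _ b := by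
    rw [← hbs]
    exact IsLocalization.mk'_spec _ _ _
  have hmem : (s : B) - b * x ∈ oneAdd J := by
    rw [mem_oneAdd]
    have : (s : B) - b * x - 1 = ((s : B) - 1) - b * x := by ring
    rw [this]
    exact J.sub_mem s.2 (J.mul_mem_left _ hx)
  have h1 : i * algebraMap B (Localization (oneAdd J)) (s : B) =
      algebraMap B _ ((s : B) - b * x) := by
    have hi' : i = 1 - y * algebraMap B _ x := by rw [← hyi]; ring
    rw [hi', map_sub, map_mul, ← hs]
    ring
  have hu : IsUnit (i * algebraMap B (Localization (oneAdd J)) (s : B)) := by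
    rw [h1]
    exact IsLocalization.map_units _ (⟨_, hmem⟩ : oneAdd J)
  have hui : IsUnit i := isUnit_of_mul_isUnit_left hu
  exact hn.ne_top (Ideal.eq_top_of_isUnit_mem _ hi hui)

variable {R : Type u} [CommRing R] [Algebra R B]

/-- `(1 + J)⁻¹ B` is flat over `R` if `B_q` is for every prime `q ⊇ J`. -/
theorem flat_localization_oneAdd (J : Ideal B)
    (H : ∀ (q : Ideal B) [q.IsPrime], J ≤ q → Module.Flat R (Localization.AtPrime q)) :
    Module.Flat R (Localization (oneAdd J)) := by
  refine Module.flat_of_isLocalized_maximal (Localization (oneAdd J)) (Localization (oneAdd J))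
    (fun n _ => Localization.AtPrime n)
    (fun n _ => Algebra.linearMap (Localization (oneAdd J)) (Localization.AtPrime n))
    (fun n hn => ?_)
  haveI := hn
  have hq : J ≤ n.comap (algebraMap B (Localization (oneAdd J))) := le_comap_of_isMaximal J n
  haveI := H (n.comap (algebraMap B (Localization (oneAdd J)))) hq
  let e := IsLocalization.localizationLocalizationAtPrimeIsoLocalization (oneAdd J) n
  exact Module.Flat.of_linearEquiv (e.toLinearEquiv.restrictScalars R).symm

end Groth.Agent.Lib.H5bFGlue
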