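import Mathlib
import Groth.Agent.Lib.H5bFGlueRing

/-!
# Flattening a morphism of affine schemes near a closed subset (helper5)

`exists_flat_spec`: for `φ : R ⟶ B` and an ideal `I` of `R`, if `Spec B ⟶ Spec R` is flat at every
point over `V(I)` then `B' = (1 + IB)⁻¹ B` is flat over `R` and `Spec B' ⟶ Spec B` hits every point
over `V(I)`.
-/

set_option autoImplicit false
set_option linter.style.haveILetI false
universe u

namespace Groth.Agent.Lib.H5bFGlue

open AlgebraicGeometry CategoryTheory

/-- ring level: flatness of `R → (1 + IB)⁻¹ B` from flatness of the local homomorphisms at the primes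
over `V(I)`. -/
theorem flat_comp_localization_oneAdd {R B : Type u} [CommRing R] [CommRing B] (φ : R →+* B)
    (I : Ideal R)
    (H : ∀ (q : Ideal B) [q.IsPrime], I ≤ q.comap φ →
      (Localization.localRingHom (q.comap φ) q φ rfl).Flat) :
    ((algebraMap B (Localization (oneAdd (I.map φ)))).comp φ).Flat := by
  letI : Algebra R B := φ.toAlgebra
  have hφ : algebraMap R B = φ := RingHom.algebraMap_toAlgebra φ
  have key : Module.Flat R (Localization (oneAdd (I.map φ))) := by
    refine flat_localization_oneAdd (R := R) (I.map φ) (fun q hq hJ => ?_)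
    have hI : I ≤ q.comap φ := Ideal.map_le_iff_le_comap.1 hJ
    have h1 := H q hI
    have h0 : (algebraMap R (Localization.AtPrime (q.comap φ))).Flat :=
      RingHom.flat_algebraMap_iff.2 (IsLocalization.flat _ (q.comap φ).primeCompl)
    have h2 := RingHom.Flat.comp h0 h1
    have h3 : (Localization.localRingHom (q.comap φ) q φ rfl).comp
        (algebraMap R (Localization.AtPrime (q.comap φ))) =
        algebraMap R (Localization.AtPrime q) := by
      ext x
      rw [RingHom.comp_apply, Localization.localRingHom_to_map,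
        IsScalarTower.algebraMap_apply R B (Localization.AtPrime q), hφ]
    rw [h3] at h2
    exact RingHom.flat_algebraMap_iff.1 h2
  have h4 : (algebraMap B (Localization (oneAdd (I.map φ)))).comp φ =
      algebraMap R (Localization (oneAdd (I.map φ))) := by
    rw [IsScalarTower.algebraMap_eq R B (Localization (oneAdd (I.map φ))), hφ]
  rw [h4]
  exact RingHom.flat_algebraMap_iff.2 key

/-- scheme level. -/
theorem exists_flat_spec {R B : CommRingCat.{u}} (φ : R ⟶ B) (I : Ideal R)
    (H : ∀ q : PrimeSpectrum B, I ≤ q.asIdeal.comap φ.hom →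
      ((Spec.map φ).stalkMap q).hom.Flat) :
    ∃ (B' : CommRingCat.{u}) (ψ : B ⟶ B'), Flat (Spec.map ψ ≫ Spec.map φ) ∧
      ∀ q : PrimeSpectrum B, I ≤ q.asIdeal.comap φ.hom → q ∈ Set.range (Spec.map ψ) := by
  refine ⟨CommRingCat.of (Localization (oneAdd (I.map φ.hom))),
    CommRingCat.ofHom (algebraMap B (Localization (oneAdd (I.map φ.hom)))), ?_, fun q hq => ?_⟩
  · rw [← Spec.map_comp, HasRingHomProperty.Spec_iff (P := @Flat), CommRingCat.hom_comp,
      CommRingCat.hom_ofHom]
    refine flat_comp_localization_oneAdd φ.hom I (fun q hq hI => ?_)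
    have h := H ⟨q, hq⟩ hI
    rw [RingHom.Flat.respectsIso.arrow_mk_iso_iff (Scheme.arrowStalkMapSpecIso φ ⟨q, hq⟩)] at h
    exact h
  · have hJ : I.map φ.hom ≤ q.asIdeal := Ideal.map_le_iff_le_comap.2 hq
    have hd := disjoint_oneAdd (I.map φ.hom) q.asIdeal hJ
    have hr := PrimeSpectrum.localization_comap_range (Localization (oneAdd (I.map φ.hom)))
      (oneAdd (I.map φ.hom))
    have hq' : q ∈ Set.range (PrimeSpectrum.comap
        (algebraMap B (Localization (oneAdd (I.map φ.hom))))) := by
      rw [hr]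
      exact hd
    exact hq'

/-- scheme level, for an arbitrary morphism between spectra. -/
theorem exists_flat_spec' {R B : CommRingCat.{u}} (g₀ : Spec B ⟶ Spec R) (I : Ideal R)
    (H : ∀ q : ↥(Spec B), I ≤ PrimeSpectrum.asIdeal (g₀ q) → (g₀.stalkMap q).hom.Flat) :
    ∃ (B' : CommRingCat.{u}) (ψ : B ⟶ B'), Flat (Spec.map ψ ≫ g₀) ∧
      ∀ q : ↥(Spec B), I ≤ PrimeSpectrum.asIdeal (g₀ q) → q ∈ Set.range (Spec.map ψ) := by
  obtain ⟨φ, rfl⟩ := Spec.map_surjective g₀
  obtain ⟨B', ψ, h1, h2⟩ := exists_flat_spec φ I (fun q hq => H q hq)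
  exact ⟨B', ψ, h1, fun q hq => h2 q hq⟩

end Groth.Agent.Lib.H5bFGlue
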