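import Mathlib
import Groth.Prelude.Def_AlgSp
import Groth.Prelude.Def_AlgSpCov
import Groth.Prelude.Def_AlgSpMor5
import Groth.Agent.Lib.H5bFGlueSch
import Groth.Agent.S10175
import Groth.Agent.S10176
import Groth.Agent.S10177
import Groth.Agent.S10180

/-!
# Formal glueing: the local covering (helper5)

Over an affine étale chart `Spec R ⟶ X` the family `{U ⟶ X, Y ⟶ X}` is refined by a two-member
family of flat quasi-compact morphisms of schemes `{U' ⟶ Spec R, V' ⟶ Spec R}` that is jointly
surjective.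
-/

set_option autoImplicit false
set_option linter.unusedSectionVars false
set_option linter.style.haveILetI false
universe u

namespace Groth.Agent.Lib.H5bFGlue

open CategoryTheory CategoryTheory.Limits AlgebraicGeometry AlgSp Opposite

variable {S : Scheme.{u}}

/-- a point of a scheme chart lies in the image of a representable base change iff its image point
lies in the image of the morphism. -/
lemma mem_range_snd_iff {F G : AlgSp.Sp S} {g : F ⟶ G} {T W : Over S} {b : (yon S).obj T ⟶ G}
    {w : W ⟶ T} {l : (yon S).obj W ⟶ F} (sq : IsPullback l ((yon S).map w) g b) (t : ↥T.left) :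
    t ∈ Set.range w.left ↔ Points.ofPt b t ∈ Set.range (Points.map g) := by
  constructor
  · rintro ⟨u, rfl⟩
    refine ⟨Points.ofPt l u, ?_⟩
    rw [Points.map_ofPt, sq.w, Groth.Agent.S10176.ofPt_map_comp]
  · rintro ⟨x, hx⟩
    rw [Points.ofPt_eq_map_ofScheme] at hx
    obtain ⟨p, -, hp2⟩ := Groth.Agent.S10175.exists_point_of_isPullback sq x
      (Points.ofScheme T t) hx
    obtain ⟨u, rfl⟩ := (Points.schemeHomeo W).surjective p
    refine ⟨u, ?_⟩
    apply (Points.schemeHomeo T).injective
    rw [← Points.map_yon_map_apply]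
    exact hp2

/-- a closed immersion of finite presentation into `Spec R` is cut out by a finitely generated
ideal. -/
lemma exists_fg_ideal_of_closedImmersion {R : CommRingCat.{u}} {Z' : Scheme.{u}} (c : Z' ⟶ Spec R)
    [IsClosedImmersion c] [LocallyOfFinitePresentation c] :
    ∃ I : Ideal R, I.FG ∧ ∀ t : ↥(Spec R), t ∈ Set.range c ↔ I ≤ PrimeSpectrum.asIdeal t := by
  obtain ⟨I, e, he⟩ := IsClosedImmersion.Spec_iff.1 (inferInstance : IsClosedImmersion c)
  refine ⟨I, ?_, fun t => ?_⟩
  · have h1 : LocallyOfFinitePresentation (Spec.map (CommRingCat.ofHom (Ideal.Quotient.mk I))) := by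
      have h0 : LocallyOfFinitePresentation
          (e.hom ≫ Spec.map (CommRingCat.ofHom (Ideal.Quotient.mk I))) := by
        rw [← he]; infer_instance
      exact (MorphismProperty.cancel_left_of_respectsIso @LocallyOfFinitePresentation e.hom _).1 h0
    rw [HasRingHomProperty.Spec_iff (P := @LocallyOfFinitePresentation),
      CommRingCat.hom_ofHom] at h1
    have h2 : Algebra.FinitePresentation R (R ⧸ I) := RingHom.finitePresentation_algebraMap.1 h1
    have h3 := Algebra.FinitePresentation.ker_fG_of_surjective (Ideal.Quotient.mkₐ R I)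
      (Ideal.Quotient.mkₐ_surjective R I)
    simpa only [AlgHom.toRingHom_eq_coe, Ideal.Quotient.mkₐ_ker] using h3
  · have hr : Set.range c = Set.range (Spec.map (CommRingCat.ofHom (Ideal.Quotient.mk I))) := by
      rw [he]
      ext x
      constructor
      · rintro ⟨z, rfl⟩
        exact ⟨e.hom z, by rw [Scheme.Hom.comp_apply]⟩
      · rintro ⟨z, rfl⟩
        refine ⟨e.inv z, ?_⟩
        rw [Scheme.Hom.comp_apply, ← Scheme.Hom.comp_apply e.inv e.hom, e.inv_hom_id]
        rfl
    rw [hr]
    have h4 := range_comap_of_surjective _ (Ideal.Quotient.mk I)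
      Ideal.Quotient.mk_surjective
    rw [Ideal.mk_ker] at h4
    change t ∈ Set.range (PrimeSpectrum.comap (Ideal.Quotient.mk I)) ↔ _
    rw [h4]
    exact PrimeSpectrum.mem_zeroLocus _ _

/-- **The local covering.** -/
theorem exists_local_cover {X Y Z FZ U : AlgSp.Sp S} (f : Y ⟶ X) (hqc : AlgSp.IsQuasiCompactMor f)
    (i : Z ⟶ X) (hi : AlgSp.RepWith @IsClosedImmersion i)
    (hifp : AlgSp.LocP @LocallyOfFinitePresentation i)
    (iY : FZ ⟶ Y) (fZ : FZ ⟶ Z) (hFZ : IsPullback iY fZ f i)
    (hfZ : Function.Surjective (Points.map fZ))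
    (hflat : ∀ y ∈ Set.range (Points.map iY), AlgSp.IsFlatAtMor f y) (j : U ⟶ X)
    (hj : AlgSp.RepWith @IsOpenImmersion j)
    (hU : Set.range (Points.map j) = (Set.range (Points.map i))ᶜ)
    (R : CommRingCat.{u}) (s : Spec R ⟶ S) (b : (yon S).obj (Over.mk s) ⟶ X)
    (hb : AlgSp.RepWith @Etale b) :
    ∃ (U' V' : Over S) (o : U' ⟶ Over.mk s) (v : V' ⟶ Over.mk s), Flat o.left ∧
      QuasiCompact o.left ∧ Flat v.left ∧ QuasiCompact v.left ∧
      (∀ t : ↥(Over.mk s).left, t ∈ Set.range o.left ∨ t ∈ Set.range v.left) ∧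
      (∃ l : (yon S).obj U' ⟶ U, l ≫ j = (yon S).map o ≫ b) ∧
      (∃ l : (yon S).obj V' ⟶ Y, l ≫ f = (yon S).map v ≫ b) := by
  have hbcE := repWith_isStableUnderBaseChange (S := S) @Etale
  -- the open part
  let U' : Over S := hj.rep.pullback b
  let o : U' ⟶ Over.mk s := hj.rep.snd b
  have sqU : IsPullback (hj.rep.fst b) ((yon S).map o) j b := hj.rep.isPullback b
  haveI ho : IsOpenImmersion o.left := hj.property_snd b
  -- the closed part
  let Z' : Over S := hi.rep.pullback b
  let c : Z' ⟶ Over.mk s := hi.rep.snd b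
  have sqZ : IsPullback (hi.rep.fst b) ((yon S).map c) i b := hi.rep.isPullback b
  have hc : IsClosedImmersion c.left := hi.property_snd b
  have hlZ : AlgSp.RepWith @Etale (hi.rep.fst b) := hbcE.of_isPullback sqZ.flip hb
  have hcfp : LocallyOfFinitePresentation c.left := hifp (hi.rep.fst b) b c hlZ hb sqZ.w
  let c₀ : Z'.left ⟶ Spec R := c.left
  haveI : IsClosedImmersion c₀ := hc
  haveI : LocallyOfFinitePresentation c₀ := hcfp
  obtain ⟨I, hIfg, hI⟩ := exists_fg_ideal_of_closedImmersion c₀
  -- membership in the closed set in terms of points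
  have hmemZ : ∀ t : ↥(Spec R), I ≤ PrimeSpectrum.asIdeal t ↔
      Points.ofPt b t ∈ Set.range (Points.map i) := fun t =>
    (hI t).symm.trans (mem_range_snd_iff sqZ t)
  have hmemU : ∀ t : ↥(Spec R), t ∈ Set.range o.left ↔ ¬ I ≤ PrimeSpectrum.asIdeal t := by
    intro t
    rw [hmemZ t, mem_range_snd_iff sqU t, hU]
    rfl
  -- quasi-compactness of the open part
  let o₀ : U'.left ⟶ Spec R := o.left
  have hqcU : QuasiCompact o₀ := by
    have h1 : IsCompact ((PrimeSpectrum.zeroLocus (I : Set R))ᶜ) :=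
      (PrimeSpectrum.isCompact_isOpen_iff_ideal.2 ⟨I, hIfg, rfl⟩).1
    have h2 : Set.range o₀ = (PrimeSpectrum.zeroLocus (I : Set R))ᶜ := by
      ext t
      exact (hmemU t).trans (not_congr (PrimeSpectrum.mem_zeroLocus _ _).symm)
    have hcomp : IsCompact (Set.range o₀) := by
      rw [h2]; exact h1
    haveI : IsOpenImmersion o₀ := ho
    haveI : CompactSpace ↥U'.left := by
      rw [← isCompact_univ_iff, o₀.isOpenEmbedding.isInducing.isCompact_iff, Set.image_univ]
      exact hcomp
    exact (HasAffineProperty.iff_of_isAffine (P := @QuasiCompact)).2 ‹CompactSpace ↥U'.left›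
  -- the base change of `Y`, an affine chart of it
  have hqcT : AlgSp.IsQuasiCompactSp ((yon S).obj (Over.mk s)) :=
    ⟨Over.mk s, 𝟙 _, AlgSp.repWith_id _ _, AlgSp.repWith_id _ _,
      (inferInstance : CompactSpace ↥(Spec R))⟩
  have sqY := IsPullback.of_hasPullback f b
  have hP : AlgSp.IsQuasiCompactSp (pullback f b) :=
    hqc (AlgSp.IsAlgSpace.yon_obj (Over.mk s)) hqcT b _ _ sqY
  obtain ⟨V₀, p₀, hV₀, hp₀e, hp₀s⟩ := Groth.Agent.S10180.exists_affine_chart hP
  haveI := hV₀
  let B : CommRingCat.{u} := Γ(V₀.left, ⊤)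
  let V : Over S := Over.mk (V₀.left.isoSpec.inv ≫ V₀.hom)
  let eV : V ⟶ V₀ := Over.homMk V₀.left.isoSpec.inv rfl
  let p : (yon S).obj V ⟶ pullback f b := (yon S).map eV ≫ p₀
  have hpe : AlgSp.RepWith @Etale p := MorphismProperty.comp_mem _ _ _
    ((AlgSp.repWith_yon_map_iff _ _).2 (show Etale V₀.left.isoSpec.inv from inferInstance)) hp₀e
  have hps : AlgSp.RepWith @Surjective p := MorphismProperty.comp_mem _ _ _
    ((AlgSp.repWith_yon_map_iff _ _).2
      (show Surjective V₀.left.isoSpec.inv from inferInstance)) hp₀s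
  obtain ⟨g, hg⟩ := (yon S).map_surjective (p ≫ pullback.snd f b)
  let aY : (yon S).obj V ⟶ Y := p ≫ pullback.fst f b
  have hpY : AlgSp.RepWith @Etale (pullback.fst f b) := hbcE.of_isPullback sqY.flip hb
  have haY : AlgSp.RepWith @Etale aY := MorphismProperty.comp_mem _ _ _ hpe hpY
  have hsq : aY ≫ f = (yon S).map g ≫ b := by
    rw [hg]
    simp only [aY, p, Category.assoc, pullback.condition]
  let g₀ : Spec B ⟶ Spec R := g.left
  have hfl : ∀ q : ↥(Spec B), I ≤ PrimeSpectrum.asIdeal (g₀ q) → (g₀.stalkMap q).hom.Flat := by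
    intro q hq
    obtain ⟨z, hz⟩ := (hmemZ (g₀ q)).1 hq
    have h2 : Points.map f (Points.ofPt aY q) = Points.map i z := by
      rw [hz, Points.map_ofPt, hsq, Groth.Agent.S10176.ofPt_map_comp]
    obtain ⟨w, hw1, -⟩ := Groth.Agent.S10175.exists_point_of_isPullback hFZ (Points.ofPt aY q) z h2
    exact hflat _ ⟨w, hw1⟩ aY b g q haY hb hsq rfl
  obtain ⟨B', ψ, hψfl, hψr⟩ := exists_flat_spec' g₀ I hfl
  let V' : Over S := Over.mk (Spec.map ψ ≫ V.hom)
  let lam : V' ⟶ V := Over.homMk (Spec.map ψ) rfl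
  let v : V' ⟶ Over.mk s := lam ≫ g
  refine ⟨U', V', o, v, inferInstance, hqcU, hψfl, ?_, ?_, ⟨hj.rep.fst b, sqU.w⟩,
    ⟨(yon S).map lam ≫ aY, ?_⟩⟩
  · haveI : IsAffine V'.left := inferInstanceAs (IsAffine (Spec B'))
    haveI : IsAffine (Over.mk s).left := inferInstanceAs (IsAffine (Spec R))
    infer_instance
  · intro t
    by_cases ht : I ≤ PrimeSpectrum.asIdeal t
    · right
      obtain ⟨z, hz⟩ := (hmemZ t).1 ht
      obtain ⟨w, rfl⟩ := hfZ z
      have h1 : Points.map f (Points.map iY w) =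
          Points.map b (Points.ofScheme (Over.mk s) t) := by
        rw [← Points.ofPt_eq_map_ofScheme, ← hz, ← Points.map_comp, ← Points.map_comp, hFZ.w]
      obtain ⟨p', -, hp'2⟩ := Groth.Agent.S10175.exists_point_of_isPullback sqY
        (Points.map iY w) (Points.ofScheme (Over.mk s) t) h1
      obtain ⟨v₀, hv₀⟩ := Groth.Agent.S10177.surjective_ofPt p hps p'
      have h2 : g₀ v₀ = t := by
        apply (Points.schemeHomeo (Over.mk s)).injective
        have h3 := Points.map_yon_map_apply g v₀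
        rw [hg, Points.map_comp] at h3
        have h4 : Points.map p (Points.schemeHomeo V v₀) = p' := by
          rw [← hv₀, Points.ofPt_eq_map_ofScheme]
          rfl
        rw [h4, hp'2] at h3
        exact h3.symm
      obtain ⟨v', rfl⟩ := hψr v₀ (by rw [h2]; exact ht)
      exact ⟨v', h2⟩
    · left
      exact (hmemU t).2 ht
  · rw [Category.assoc, hsq, ← Category.assoc, ← Functor.map_comp]

end Groth.Agent.Lib.H5bFGlue
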