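import Mathlib

/-!
# Quotient of a field by a finite "equivalence relation": the algebra (helper5)

`k` a field, `Λ` a ring with two ring homomorphisms `σ τ : k →+* Λ` (source and target of a
groupoid `Spec Λ ⇉ Spec k`).  `eqField σ τ` is the equalizer subfield `k'`.  Under the
composition law `hcomp` the natural map `k ⊗[k'] k → Λ` is injective (Artin's trick); under the
monomorphism hypothesis `hepi` and finiteness it is surjective.
-/

set_option autoImplicit false
set_option linter.style.haveILetI false

universe u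
open TensorProduct

namespace Groth.Agent.Lib.H5bFQAlg

variable {k Λ : Type u} [Field k] [CommRing Λ] (σ τ : k →+* Λ)

/-- the equalizer subfield. -/
def eqField : Subfield k where
  __ := RingHom.eqLocus σ τ
  inv_mem' := by
    intro x hx
    have hx' : σ x = τ x := hx
    change σ x⁻¹ = τ x⁻¹
    by_cases h0 : x = 0
    · rw [h0, inv_zero, map_zero, map_zero]
    · have h1 : σ x⁻¹ * σ x = 1 := by rw [← map_mul, inv_mul_cancel₀ h0, map_one]
      have h2 : τ x * τ x⁻¹ = 1 := by rw [← map_mul, mul_inv_cancel₀ h0, map_one]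
      calc σ x⁻¹ = σ x⁻¹ * (τ x * τ x⁻¹) := by rw [h2, mul_one]
        _ = (σ x⁻¹ * σ x) * τ x⁻¹ := by rw [hx', mul_assoc]
        _ = τ x⁻¹ := by rw [h1, one_mul]

lemma mem_eqField {x : k} : x ∈ eqField σ τ ↔ σ x = τ x := Iff.rfl

/-- `Λ` as a `k`-algebra through a given ring homomorphism. -/
def Via (_f : k →+* Λ) : Type u := Λ

instance (f : k →+* Λ) : CommRing (Via f) := inferInstanceAs (CommRing Λ)
instance (f : k →+* Λ) : Algebra k (Via f) := f.toAlgebra

/-- the identity, as a ring isomorphism to `Via f`. -/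
def toVia (f : k →+* Λ) : Λ ≃+* Via f := RingEquiv.refl Λ

lemma algebraMap_via (f : k →+* Λ) (a : k) : algebraMap k (Via f) a = toVia f (f a) := rfl

/-- the composition law. -/
def Comp : Prop :=
  ∀ (T : Type u) [CommRing T] (α β : Λ →+* T), α.comp τ = β.comp σ →
    ∃ γ : Λ →+* T, γ.comp σ = α.comp σ ∧ γ.comp τ = β.comp τ

/-- the monomorphism property. -/
def Epi : Prop :=
  ∀ (T : Type u) [CommRing T] (α β : Λ →+* T), α.comp σ = β.comp σ → α.comp τ = β.comp τ → α = β

variable {σ τ}

/-- transport of relations along a `τ`-linear functional. -/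
lemma star (hc : Comp σ τ) (l : Via τ →ₗ[k] k) {ι : Type*} (A : Finset ι) (x y : ι → k)
    (h : ∑ i ∈ A, σ (x i) * τ (y i) = 0) :
    ∑ i ∈ A, σ (l (toVia τ (σ (x i)))) * τ (y i) = 0 := by
  let T := Via τ ⊗[k] Via σ
  let α : Λ →+* T := (Algebra.TensorProduct.includeLeftRingHom : Via τ →+* T).comp
    (toVia τ).toRingHom
  let β : Λ →+* T := ((Algebra.TensorProduct.includeRight : Via σ →ₐ[k] T).toRingHom).comp
    (toVia σ).toRingHom
  have hαβ : α.comp τ = β.comp σ := by
    ext a
    change (toVia τ (τ a)) ⊗ₜ[k] (1 : Via σ) = (1 : Via τ) ⊗ₜ[k] (toVia σ (σ a))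
    rw [← algebraMap_via, ← algebraMap_via, Algebra.algebraMap_eq_smul_one,
      Algebra.algebraMap_eq_smul_one, smul_tmul]
  obtain ⟨γ, hγσ, hγτ⟩ := hc T α β hαβ
  have h1 : ∑ i ∈ A, ((toVia τ (σ (x i))) ⊗ₜ[k] (toVia σ (τ (y i)))) = (0 : T) := by
    have := congrArg γ h
    rw [map_sum, map_zero] at this
    rw [← this]
    refine Finset.sum_congr rfl fun i _ => ?_
    rw [map_mul]
    have e1 : γ (σ (x i)) = α (σ (x i)) := RingHom.congr_fun hγσ (x i)
    have e2 : γ (τ (y i)) = β (τ (y i)) := RingHom.congr_fun hγτ (y i)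
    rw [e1, e2]
    change _ = ((toVia τ (σ (x i))) ⊗ₜ[k] (1 : Via σ)) * ((1 : Via τ) ⊗ₜ[k] (toVia σ (τ (y i))))
    rw [Algebra.TensorProduct.tmul_mul_tmul, mul_one, one_mul]
  let c : T →ₗ[k] Via σ := (TensorProduct.lid k (Via σ)).toLinearMap ∘ₗ LinearMap.rTensor (Via σ) l
  have h2 := congrArg c h1
  rw [map_sum, map_zero] at h2
  have h3 : ∀ i, c ((toVia τ (σ (x i))) ⊗ₜ[k] (toVia σ (τ (y i)))) =
      toVia σ (σ (l (toVia τ (σ (x i)))) * τ (y i)) := by
    intro i
    change (TensorProduct.lid k (Via σ)) (LinearMap.rTensor (Via σ) l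
      ((toVia τ (σ (x i))) ⊗ₜ[k] (toVia σ (τ (y i))))) = _
    rw [LinearMap.rTensor_tmul, TensorProduct.lid_tmul, Algebra.smul_def, algebraMap_via, map_mul]
  simp only [h3] at h2
  rw [← map_sum] at h2
  exact (toVia σ).injective (h2.trans (map_zero _).symm)

/-- `τ`-linear functionals separate the points of `Λ`. -/
lemma eq_of_forall_dual (τ : k →+* Λ) {z w : Λ}
    (h : ∀ l : Via τ →ₗ[k] k, l (toVia τ z) = l (toVia τ w)) : z = w := by
  have h0 : toVia τ z - toVia τ w = 0 := by
    rw [← Module.forall_dual_apply_eq_zero_iff k]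
    intro l
    rw [map_sub, h l, sub_self]
  exact (toVia τ).injective (sub_eq_zero.1 h0)

/-- **Artin's trick**: a family of elements of `k` linearly independent over the equalizer subfield
has no nontrivial `σ(k)`-linear relation between its images under `τ`. -/
theorem eq_zero_of_sum_eq_zero [Nontrivial Λ] (hc : Comp σ τ) {ι : Type*} (y : ι → k)
    (hy : LinearIndependent (eqField σ τ) y) (A : Finset ι) :
    ∀ x : ι → k, ∑ i ∈ A, σ (x i) * τ (y i) = 0 → ∀ i ∈ A, x i = 0 := by
  classical
  induction A using Finset.induction_on with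
  | empty => intro x _ i hi; simp at hi
  | insert j A hj ih =>
    intro x hx
    by_cases hxj : x j = 0
    · rw [Finset.sum_insert hj, hxj, map_zero, zero_mul, zero_add] at hx
      intro i hi
      rcases Finset.mem_insert.1 hi with rfl | hi
      · exact hxj
      · exact ih x hx i hi
    · exfalso
      -- normalise
      obtain ⟨x', hx'def⟩ : ∃ x' : ι → k, x' = fun i => (x j)⁻¹ * x i := ⟨_, rfl⟩
      have hx'j : x' j = 1 := by rw [hx'def]; exact inv_mul_cancel₀ hxj
      have hx' : ∑ i ∈ insert j A, σ (x' i) * τ (y i) = 0 := by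
        have : ∑ i ∈ insert j A, σ (x' i) * τ (y i) =
            σ (x j)⁻¹ * ∑ i ∈ insert j A, σ (x i) * τ (y i) := by
          rw [Finset.mul_sum]
          refine Finset.sum_congr rfl fun i _ => ?_
          rw [hx'def, map_mul, mul_assoc]
        rw [this, hx, mul_zero]
      -- all coefficients are in the equalizer
      have hmem : ∀ i ∈ A, σ (x' i) = τ (x' i) := by
        intro i hi
        apply eq_of_forall_dual τ
        intro l
        have h1 := star hc l (insert j A) x' y hx'
        have h2 : ∑ i ∈ insert j A, σ (l (toVia τ (σ (1 : k))) * x' i) * τ (y i) = 0 := by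
          have : ∑ i ∈ insert j A, σ (l (toVia τ (σ (1 : k))) * x' i) * τ (y i) =
              σ (l (toVia τ (σ (1 : k)))) * ∑ i ∈ insert j A, σ (x' i) * τ (y i) := by
            rw [Finset.mul_sum]
            refine Finset.sum_congr rfl fun i _ => ?_
            rw [map_mul, mul_assoc]
          rw [this, hx', mul_zero]
        have h3 : ∑ i ∈ A, σ (l (toVia τ (σ (x' i))) - l (toVia τ (σ (1 : k))) * x' i) * τ (y i) = 0 := by
          have : ∑ i ∈ insert j A, σ (l (toVia τ (σ (x' i))) - l (toVia τ (σ (1 : k))) * x' i) * τ (y i) = 0 := by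
            simp only [map_sub, sub_mul, Finset.sum_sub_distrib]
            rw [h1, h2, sub_zero]
          rwa [Finset.sum_insert hj, hx'j, mul_one, sub_self, map_zero, zero_mul, zero_add] at this
        have h4 := ih _ h3 i hi
        have h5 : l (toVia τ (σ (x' i))) = l (toVia τ (σ (1 : k))) * x' i := sub_eq_zero.1 h4
        have h6 : l (toVia τ (τ (x' i))) = x' i * l (toVia τ (σ (1 : k))) := by
          have : toVia τ (τ (x' i)) = x' i • toVia τ (σ (1 : k)) := by
            rw [Algebra.smul_def, map_one, map_one, mul_one, algebraMap_via]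
          rw [this, map_smul, smul_eq_mul]
        rw [h5, h6, mul_comm]
      have hmem' : ∀ i ∈ insert j A, x' i ∈ eqField σ τ := by
        intro i hi
        rcases Finset.mem_insert.1 hi with rfl | hi
        · rw [hx'j]; exact one_mem _
        · exact hmem i hi
      have hsum : ∑ i ∈ insert j A, x' i * y i = 0 := by
        have hinj : Function.Injective τ := τ.injective
        apply hinj
        rw [map_zero, map_sum, ← hx']
        refine Finset.sum_congr rfl fun i hi => ?_
        rw [map_mul, ← (mem_eqField σ τ).1 (hmem' i hi)]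
      -- contradiction with linear independence
      have hli := linearIndependent_iff'.1 hy (insert j A)
        (fun i => if h : i ∈ insert j A then ⟨x' i, hmem' i h⟩ else 0) (by
          rw [← hsum]
          refine Finset.sum_congr rfl fun i hi => ?_
          rw [dif_pos hi]
          rfl) j (Finset.mem_insert_self j A)
      rw [dif_pos (Finset.mem_insert_self j A)] at hli
      have : x' j = 0 := congrArg Subtype.val hli
      rw [hx'j] at this
      exact one_ne_zero this

/-- `k` is finite over the equalizer subfield. -/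
theorem finite_eqField [Nontrivial Λ] (hc : Comp σ τ) (hfin : σ.Finite) :
    Module.Finite (eqField σ τ) k := by
  classical
  let b := Module.Basis.ofVectorSpace (eqField σ τ) k
  haveI : Module.Finite k (Via σ) := hfin
  haveI : IsNoetherian k (Via σ) := isNoetherian_of_isNoetherianRing_of_finite k (Via σ)
  have hli : LinearIndependent k (fun i => toVia σ (τ (b i))) := by
    rw [linearIndependent_iff']
    intro A g hg i hi
    refine eq_zero_of_sum_eq_zero hc (fun i => b i) b.linearIndependent A g ?_ i hi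
    apply (toVia σ).injective
    rw [map_zero, ← hg, map_sum]
    refine Finset.sum_congr rfl fun i _ => ?_
    rw [Algebra.smul_def, algebraMap_via, map_mul]
  haveI : Finite _ := hli.finite_of_isNoetherian
  exact Module.Finite.of_basis b

section Prod

variable (σ τ)

/-- `Λ` as an algebra over the equalizer subfield. -/
@[reducible] def algEq : Algebra (eqField σ τ) Λ := (σ.comp (eqField σ τ).subtype).toAlgebra

attribute [local instance] algEq

/-- `σ` as an algebra homomorphism. -/
def σA : k →ₐ[eqField σ τ] Λ := { σ with commutes' := fun _ => rfl }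

/-- `τ` as an algebra homomorphism. -/
def τA : k →ₐ[eqField σ τ] Λ := { τ with commutes' := fun a => ((mem_eqField σ τ).1 a.2).symm }

/-- the natural map `k ⊗[k'] k → Λ`. -/
def prodMap : k ⊗[eqField σ τ] k →ₐ[eqField σ τ] Λ := Algebra.TensorProduct.productMap (σA σ τ) (τA σ τ)

lemma prodMap_tmul (a b : k) : prodMap σ τ (a ⊗ₜ b) = σ a * τ b := by
  rw [prodMap, Algebra.TensorProduct.productMap_apply_tmul]; rfl

variable {σ τ}

theorem prodMap_injective [Nontrivial Λ] (hc : Comp σ τ) : Function.Injective (prodMap σ τ) := by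
  classical
  rw [injective_iff_map_eq_zero]
  intro z hz
  let b := Module.Basis.ofVectorSpace (eqField σ τ) k
  let B := Algebra.TensorProduct.basis k b
  obtain ⟨c, hcdef⟩ : ∃ c : _ →₀ k, c = B.repr z := ⟨_, rfl⟩
  have hrepr := B.linearCombination_repr z
  rw [← hcdef, Finsupp.linearCombination_apply, Finsupp.sum] at hrepr
  have hB : ∀ i, (c i) • B i = (c i) ⊗ₜ[eqField σ τ] (b i) := by
    intro i
    rw [Algebra.TensorProduct.basis_apply, TensorProduct.smul_tmul', smul_eq_mul, mul_one]
  simp only [hB] at hrepr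
  have h0 : ∑ i ∈ c.support, σ (c i) * τ (b i) = 0 := by
    rw [← hz, ← hrepr, map_sum]
    exact Finset.sum_congr rfl fun i _ => (prodMap_tmul σ τ _ _).symm
  have hall := eq_zero_of_sum_eq_zero hc (fun i => b i) b.linearIndependent _ _ h0
  rw [← hrepr]
  refine Finset.sum_eq_zero fun i hi => ?_
  rw [hall i hi, TensorProduct.zero_tmul]

theorem prodMap_surjective (he : Epi σ τ) (hfin : σ.Finite) :
    Function.Surjective (prodMap σ τ) := by
  have hσ : (prodMap σ τ).toRingHom.comp
      (Algebra.TensorProduct.includeLeftRingHom : k →+* k ⊗[eqField σ τ] k) = σ := by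
    ext a
    change prodMap σ τ (a ⊗ₜ 1) = σ a
    rw [prodMap_tmul, map_one, mul_one]
  have hτ : (prodMap σ τ).toRingHom.comp
      ((Algebra.TensorProduct.includeRight : k →ₐ[eqField σ τ] k ⊗[eqField σ τ] k).toRingHom) = τ := by
    ext a
    change prodMap σ τ (1 ⊗ₜ a) = τ a
    rw [prodMap_tmul, map_one, one_mul]
  have hf : (prodMap σ τ).toRingHom.Finite := by
    refine RingHom.Finite.of_comp_finite (f := (Algebra.TensorProduct.includeLeftRingHom :
      k →+* k ⊗[eqField σ τ] k)) ?_
    rw [hσ]; exact hfin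
  haveI : CategoryTheory.Epi (CommRingCat.ofHom (prodMap σ τ).toRingHom) := by
    refine ⟨fun {T} α β hαβ => ?_⟩
    have h := congrArg CommRingCat.Hom.hom hαβ
    have h' : α.hom.comp (prodMap σ τ).toRingHom = β.hom.comp (prodMap σ τ).toRingHom := h
    apply CommRingCat.hom_ext
    refine he T α.hom β.hom ?_ ?_
    · rw [← hσ, ← RingHom.comp_assoc, h', RingHom.comp_assoc]
    · rw [← hτ, ← RingHom.comp_assoc, h', RingHom.comp_assoc]
  exact RingHom.surjective_of_epi_of_finite (CommRingCat.ofHom (prodMap σ τ).toRingHom) hf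

/-- the inverse `Λ → k ⊗[k'] k`. -/
theorem exists_inverse [Nontrivial Λ] (hc : Comp σ τ) (he : Epi σ τ) (hfin : σ.Finite) :
    ∃ ψ : Λ →+* k ⊗[eqField σ τ] k,
      ψ.comp σ = (Algebra.TensorProduct.includeLeftRingHom : k →+* k ⊗[eqField σ τ] k) ∧
      ψ.comp τ = (Algebra.TensorProduct.includeRight :
        k →ₐ[eqField σ τ] k ⊗[eqField σ τ] k).toRingHom ∧
      Function.Bijective ψ := by
  let e : k ⊗[eqField σ τ] k ≃+* Λ :=
    RingEquiv.ofBijective (prodMap σ τ).toRingHom ⟨prodMap_injective hc, prodMap_surjective he hfin⟩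
  refine ⟨e.symm.toRingHom, ?_, ?_, e.symm.bijective⟩
  · ext a
    change e.symm (σ a) = a ⊗ₜ 1
    rw [RingEquiv.symm_apply_eq]
    change _ = prodMap σ τ (a ⊗ₜ 1)
    rw [prodMap_tmul, map_one, mul_one]
  · ext a
    change e.symm (τ a) = 1 ⊗ₜ a
    rw [RingEquiv.symm_apply_eq]
    change _ = prodMap σ τ (1 ⊗ₜ a)
    rw [prodMap_tmul, map_one, one_mul]

end Prod

end Groth.Agent.Lib.H5bFQAlg
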