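import Mathlib
import Groth.Agent.Lib.H5bFQAlg
import Groth.Agent.Lib.H5bUCAff2
import Groth.Agent.Lib.H5bQuotOpen
import Groth.Agent.Lib.H5bDvrLift
import Groth.Prelude.Def_AlgSpDec
import Groth.Agent.Lib.H9Slice

/-!
# Quotient of a field point by a finite equivalence relation (helper5)

Let `q : Spec K ⟶ X` be a field point of an fppf sheaf `X` such that `Spec K ×_X Spec K` is a
scheme `R` finite over `Spec K` (first projection).  Then `q` factors through a monomorphism
`q' : Spec K' ⟶ X`, where `K' ⊆ K` is a subfield with `K / K'` finite and `R = Spec K ×_{K'} Spec K`.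
-/

set_option autoImplicit false
set_option linter.style.haveILetI false

universe u
open CategoryTheory CategoryTheory.Limits AlgebraicGeometry Opposite TensorProduct

namespace Groth.Agent.Lib.H5bFQ

open Groth.Agent.Lib.H5bUCAff Groth.Agent.Lib.H5bFQAlg Groth.Agent.S13210

variable {S : Scheme.{u}}

lemma specMap_comp {A B C : Type u} [CommRing A] [CommRing B] [CommRing C] (f : A →+* B)
    (g : B →+* C) : Spec.map (CommRingCat.ofHom g) ≫ Spec.map (CommRingCat.ofHom f) =
      Spec.map (CommRingCat.ofHom (g.comp f)) := by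
  rw [← Spec.map_comp]; rfl

lemma specMap_inj {A B : Type u} [CommRing A] [CommRing B] {f g : A →+* B}
    (h : Spec.map (CommRingCat.ofHom f) = Spec.map (CommRingCat.ofHom g)) : f = g := by
  have := Spec.map_injective h
  exact congrArg CommRingCat.Hom.hom this

/-- monomorphisms of sheaves can be tested on scheme points. -/
theorem mono_of_points {B C : AlgSp.Sp S} (m : B ⟶ C)
    (h : ∀ (T : Over S) (a b : (AlgSp.yon S).obj T ⟶ B), a ≫ m = b ≫ m → a = b) : Mono m := by
  refine ⟨fun {Z} f g hfg => ?_⟩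
  apply ObjectProperty.hom_ext
  ext T z
  obtain ⟨T⟩ := T
  have h1 := h T ((yEquiv T B).symm (f.hom.app (op T) z)) ((yEquiv T B).symm (g.hom.app (op T) z)) (by
    rw [yEquiv_symm_comp, yEquiv_symm_comp]
    congr 1
    have := congrArg (fun φ => φ.hom.app (op T) z) hfg
    exact this)
  exact (yEquiv T B).symm.injective h1

section Core

variable {X : AlgSp.Sp S} (q : AlgSp.FieldPt X) {Λ : Type u} [CommRing Λ] (σ τ : q.K →+* Λ)
  (hστ : Spec.map (CommRingCat.ofHom τ) ≫ q.str = Spec.map (CommRingCat.ofHom σ) ≫ q.str)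

/-- the scheme of relations. -/
noncomputable abbrev RO : Over S := Over.mk (Spec.map (CommRingCat.ofHom σ) ≫ q.str)

/-- the source map. -/
noncomputable abbrev sO : RO q σ ⟶ q.pt := Over.homMk (Spec.map (CommRingCat.ofHom σ)) rfl

/-- the target map. -/
noncomputable abbrev tO : RO q σ ⟶ q.pt := Over.homMk (Spec.map (CommRingCat.ofHom τ)) hστ

variable (sq : IsPullback ((AlgSp.yon S).map (tO q σ τ hστ)) ((AlgSp.yon S).map (sO q σ))
  q.toHom q.toHom)

include sq

lemma epi_of_sq : H5bFQAlg.Epi σ τ := by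
  intro T _ α β hσ hτ
  have hb : Spec.map (CommRingCat.ofHom β) ≫ (RO q σ).hom =
      Spec.map (CommRingCat.ofHom α) ≫ (RO q σ).hom := by
    change Spec.map _ ≫ Spec.map _ ≫ q.str = Spec.map _ ≫ Spec.map _ ≫ q.str
    rw [← Category.assoc, ← Category.assoc, specMap_comp, specMap_comp, hσ]
  let W : Over S := Over.mk (Spec.map (CommRingCat.ofHom α) ≫ (RO q σ).hom)
  let a : W ⟶ RO q σ := Over.homMk (Spec.map (CommRingCat.ofHom α)) rfl
  let b : W ⟶ RO q σ := Over.homMk (Spec.map (CommRingCat.ofHom β)) hb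
  have h1 : a ≫ sO q σ = b ≫ sO q σ := by
    apply Over.OverMorphism.ext
    change Spec.map _ ≫ Spec.map _ = Spec.map _ ≫ Spec.map _
    rw [specMap_comp, specMap_comp, hσ]
  have h2 : a ≫ tO q σ τ hστ = b ≫ tO q σ τ hστ := by
    apply Over.OverMorphism.ext
    change Spec.map _ ≫ Spec.map _ = Spec.map _ ≫ Spec.map _
    rw [specMap_comp, specMap_comp, hτ]
  have h3 : (AlgSp.yon S).map a = (AlgSp.yon S).map b := by
    apply sq.hom_ext
    · rw [← Functor.map_comp, ← Functor.map_comp, h2]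
    · rw [← Functor.map_comp, ← Functor.map_comp, h1]
  have h4 : a = b := (AlgSp.yon S).map_injective h3
  exact specMap_inj (congrArg (fun φ => φ.left) h4)

lemma comp_of_sq : H5bFQAlg.Comp σ τ := by
  intro T _ α β hαβ
  have hb : Spec.map (CommRingCat.ofHom β) ≫ (RO q σ).hom =
      Spec.map (CommRingCat.ofHom α) ≫ (RO q σ).hom := by
    change Spec.map _ ≫ Spec.map _ ≫ q.str = Spec.map _ ≫ Spec.map _ ≫ q.str
    rw [← Category.assoc, specMap_comp, ← hαβ, ← specMap_comp, Category.assoc, hστ]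
  let W : Over S := Over.mk (Spec.map (CommRingCat.ofHom α) ≫ (RO q σ).hom)
  let a : W ⟶ RO q σ := Over.homMk (Spec.map (CommRingCat.ofHom α)) rfl
  let b : W ⟶ RO q σ := Over.homMk (Spec.map (CommRingCat.ofHom β)) hb
  have h1 : a ≫ tO q σ τ hστ = b ≫ sO q σ := by
    apply Over.OverMorphism.ext
    change Spec.map _ ≫ Spec.map _ = Spec.map _ ≫ Spec.map _
    rw [specMap_comp, specMap_comp, hαβ]
  have hw : (AlgSp.yon S).map (b ≫ tO q σ τ hστ) ≫ q.toHom =
      (AlgSp.yon S).map (a ≫ sO q σ) ≫ q.toHom := by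
    calc (AlgSp.yon S).map (b ≫ tO q σ τ hστ) ≫ q.toHom
        = (AlgSp.yon S).map b ≫ (AlgSp.yon S).map (tO q σ τ hστ) ≫ q.toHom := by
          rw [Functor.map_comp, Category.assoc]
      _ = (AlgSp.yon S).map (b ≫ sO q σ) ≫ q.toHom := by
          rw [sq.w, Functor.map_comp, Category.assoc]
      _ = (AlgSp.yon S).map a ≫ (AlgSp.yon S).map (tO q σ τ hστ) ≫ q.toHom := by
          rw [← h1, Functor.map_comp, Category.assoc]
      _ = (AlgSp.yon S).map (a ≫ sO q σ) ≫ q.toHom := by
          rw [sq.w, Functor.map_comp, Category.assoc]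
  obtain ⟨r, hr⟩ := (AlgSp.yon S).map_surjective (sq.lift _ _ hw)
  have hr1 : r ≫ tO q σ τ hστ = b ≫ tO q σ τ hστ := by
    apply (AlgSp.yon S).map_injective
    rw [Functor.map_comp, hr, sq.lift_fst]
  have hr2 : r ≫ sO q σ = a ≫ sO q σ := by
    apply (AlgSp.yon S).map_injective
    rw [Functor.map_comp, hr, sq.lift_snd]
  obtain ⟨γ, hγ⟩ := Spec.map_surjective r.left
  refine ⟨γ.hom, ?_, ?_⟩
  · apply specMap_inj
    have := congrArg (fun φ => φ.left) hr2
    change r.left ≫ Spec.map _ = Spec.map _ ≫ Spec.map _ at this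
    rw [← specMap_comp, ← specMap_comp, ← this, ← hγ]
    rfl
  · apply specMap_inj
    have := congrArg (fun φ => φ.left) hr1
    change r.left ≫ Spec.map _ = Spec.map _ ≫ Spec.map _ at this
    rw [← specMap_comp, ← specMap_comp, ← this, ← hγ]
    rfl

lemma nontrivial_of_sq : Nontrivial Λ := by
  obtain ⟨r, -⟩ := (AlgSp.yon S).map_surjective (sq.lift (𝟙 _) (𝟙 _) rfl)
  obtain ⟨γ, -⟩ := Spec.map_surjective r.left
  exact RingHom.domain_nontrivial γ.hom

end Core

section Core2

variable {X : AlgSp.Sp S} (q : AlgSp.FieldPt X) {Λ : Type u} [CommRing Λ] (σ τ : q.K →+* Λ)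
  (hστ : Spec.map (CommRingCat.ofHom τ) ≫ q.str = Spec.map (CommRingCat.ofHom σ) ≫ q.str)

include hστ in
/-- the structure morphism of the quotient field. -/
theorem exists_str :
    ∃ str' : Spec (CommRingCat.of (eqField σ τ)) ⟶ S,
      Spec.map (CommRingCat.ofHom (algebraMap (eqField σ τ) q.K)) ≫ str' = q.str := by
  let x := q.str (IsLocalRing.closedPoint q.K)
  let φx : S.residueField x ⟶ CommRingCat.of q.K :=
    Scheme.descResidueField (Scheme.stalkClosedPointTo q.str)
  have hstr : Spec.map φx ≫ S.fromSpecResidueField x = q.str :=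
    Scheme.descResidueField_stalkClosedPointTo_fromSpecResidueField q.K S q.str
  have hmem : ∀ a, φx.hom a ∈ eqField σ τ := by
    intro a
    have h1 : Spec.map (CommRingCat.ofHom τ) ≫ Spec.map φx =
        Spec.map (CommRingCat.ofHom σ) ≫ Spec.map φx := by
      rw [← cancel_mono (S.fromSpecResidueField x), Category.assoc, Category.assoc, hstr, hστ]
    rw [← Spec.map_comp, ← Spec.map_comp] at h1
    have h2 := Spec.map_injective h1
    exact (congrArg (fun f => f.hom a) h2).symm
  let φ' : S.residueField x →+* eqField σ τ := φx.hom.codRestrict (eqField σ τ) hmem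
  refine ⟨Spec.map (CommRingCat.ofHom φ') ≫ S.fromSpecResidueField x, ?_⟩
  rw [← hstr, ← Category.assoc, ← Spec.map_comp]
  rfl

/-- **the quotient of a field point by a finite equivalence relation** (affine form). -/
theorem core (sq : IsPullback ((AlgSp.yon S).map (tO q σ τ hστ)) ((AlgSp.yon S).map (sO q σ))
    q.toHom q.toHom) (hfin : σ.Finite) :
    ∃ (q' : AlgSp.FieldPt X) (c : q.pt ⟶ q'.pt), Mono q'.toHom ∧
      (AlgSp.yon S).map c ≫ q'.toHom = q.toHom ∧ IsFinite c.left ∧ Flat c.left ∧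
      Surjective c.left ∧ IsPullback (tO q σ τ hστ) (sO q σ) c c := by
  haveI := nontrivial_of_sq q σ τ hστ sq
  have hc := comp_of_sq q σ τ hστ sq
  have he := epi_of_sq q σ τ hστ sq
  haveI hfinK : Module.Finite (eqField σ τ) q.K := finite_eqField hc hfin
  obtain ⟨ψ, hψσ, hψτ, hψbij⟩ := exists_inverse hc he hfin
  obtain ⟨str', hstr'⟩ := exists_str q σ τ hστ
  let ε : q.pt ≅ SpO str' q.K := Over.isoMk (Iso.refl _) (by
    change 𝟙 _ ≫ Spec.map _ ≫ str' = q.str
    rw [Category.id_comp, hstr'])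
  obtain ⟨e, hedef⟩ : ∃ e : (AlgSp.yon S).obj (SpO str' q.K) ⟶ X,
      e = (AlgSp.yon S).map ε.inv ≫ q.toHom := ⟨_, rfl⟩
  haveI hfl : Flat (strO str' q.K).left := by
    show Flat (Spec.map (CommRingCat.ofHom (algebraMap (eqField σ τ) q.K)))
    rw [Flat.SpecMap_iff]
    exact (RingHom.flat_algebraMap_iff).2 inferInstance
  haveI hfp : LocallyOfFinitePresentation (strO str' q.K).left := by
    show LocallyOfFinitePresentation (Spec.map (CommRingCat.ofHom (algebraMap (eqField σ τ) q.K)))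
    rw [HasRingHomProperty.Spec_iff (P := @LocallyOfFinitePresentation)]
    haveI : Algebra.FinitePresentation (eqField σ τ) q.K :=
      Algebra.FinitePresentation.of_finiteType.1 inferInstance
    exact RingHom.finitePresentation_algebraMap.2 inferInstance
  haveI hsurj : Surjective (strO str' q.K).left := by
    refine ⟨fun p => ⟨IsLocalRing.closedPoint q.K, ?_⟩⟩
    exact (inferInstance : Subsingleton (PrimeSpectrum (eqField σ τ))).elim _ _
  haveI hepi : Epi ((AlgSp.yon S).map (strO str' q.K)) := Groth.Agent.Lib.H5bQuotOpen.epi_yon_map _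
  have sq2 := isPullback_tensor str' (B := q.K) q.K
  -- the comparison with the scheme of relations
  have hp : Spec.map (CommRingCat.ofHom ψ) ≫ (RO q σ).hom =
      (SpO str' (q.K ⊗[eqField σ τ] q.K)).hom := by
    change Spec.map _ ≫ Spec.map _ ≫ q.str = Spec.map _ ≫ str'
    rw [← Category.assoc, specMap_comp, hψσ, ← hstr', ← Category.assoc, specMap_comp]
  let p : SpO str' (q.K ⊗[eqField σ τ] q.K) ⟶ RO q σ := Over.homMk (Spec.map (CommRingCat.ofHom ψ)) hp
  have hpL : mapO str' (Algebra.TensorProduct.includeLeft :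
      q.K →ₐ[eqField σ τ] q.K ⊗[eqField σ τ] q.K) ≫ ε.inv = p ≫ sO q σ := by
    apply Over.OverMorphism.ext
    change Spec.map _ ≫ 𝟙 _ = Spec.map _ ≫ Spec.map _
    rw [Category.comp_id, specMap_comp, hψσ]
    rfl
  have hpR : mapO str' (Algebra.TensorProduct.includeRight :
      q.K →ₐ[eqField σ τ] q.K ⊗[eqField σ τ] q.K) ≫ ε.inv = p ≫ tO q σ τ hστ := by
    apply Over.OverMorphism.ext
    change Spec.map _ ≫ 𝟙 _ = Spec.map _ ≫ Spec.map _
    rw [Category.comp_id, specMap_comp, hψτ]
  have hagree : (AlgSp.yon S).map (mapO str' (Algebra.TensorProduct.includeLeft :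
      q.K →ₐ[eqField σ τ] q.K ⊗[eqField σ τ] q.K)) ≫ e =
      (AlgSp.yon S).map (mapO str' (Algebra.TensorProduct.includeRight :
      q.K →ₐ[eqField σ τ] q.K ⊗[eqField σ τ] q.K)) ≫ e := by
    rw [hedef, ← Category.assoc, ← Functor.map_comp, hpL, ← Category.assoc, ← Functor.map_comp, hpR,
      Functor.map_comp, Functor.map_comp, Category.assoc, Category.assoc, sq.w]
  obtain ⟨m, hm⟩ := Groth.Agent.Lib.H5bDvrLift.exists_desc_of_epi
    ((AlgSp.yon S).map (strO str' q.K)) _ _ sq2 e hagree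
  -- the new point
  let q' : AlgSp.FieldPt X := ⟨eqField σ τ, str', (AlgSp.J S).uliftYonedaEquiv m⟩
  have hq' : q'.toHom = m := Equiv.symm_apply_apply _ _
  let c : q.pt ⟶ q'.pt := Over.homMk (Spec.map (CommRingCat.ofHom (algebraMap (eqField σ τ) q.K))) hstr'
  have hcε : c = ε.hom ≫ strO str' q.K := by
    apply Over.OverMorphism.ext
    change Spec.map _ = 𝟙 _ ≫ Spec.map _
    rw [Category.id_comp]
  have hts : tO q σ τ hστ ≫ c = sO q σ ≫ c := by
    apply Over.OverMorphism.ext
    change Spec.map _ ≫ Spec.map _ = Spec.map _ ≫ Spec.map _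
    rw [specMap_comp, specMap_comp]
    congr 2
    ext a
    exact ((mem_eqField σ τ).1 a.2).symm
  have key : ∀ {W : Over S} (x : W ⟶ SpO str' q.K),
      (AlgSp.yon S).map (x ≫ ε.inv) ≫ q.toHom = (AlgSp.yon S).map (x ≫ strO str' q.K) ≫ m := by
    intro W x
    rw [Functor.map_comp, Category.assoc, Functor.map_comp, Category.assoc, hm, hedef]
  refine ⟨q', c, ?_, ?_, ?_, hfl, hsurj, ?_⟩
  · -- monomorphism
    rw [hq']
    apply mono_of_points
    intro T a b hab
    obtain ⟨a₀, rfl⟩ := (AlgSp.yon S).map_surjective a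
    obtain ⟨b₀, rfl⟩ := (AlgSp.yon S).map_surjective b
    congr 1
    obtain ⟨π, hπ⟩ : ∃ π : SpO str' q.K ⟶ Over.mk str', π = strO str' q.K := ⟨_, rfl⟩
    rw [← hπ] at key
    haveI : Flat π.left := hπ ▸ hfl
    haveI : Surjective π.left := hπ ▸ hsurj
    have c1 : pullback.fst a₀ π ≫ a₀ = pullback.snd a₀ π ≫ π := pullback.condition
    have c2 : pullback.fst (pullback.fst a₀ π ≫ b₀) π ≫ pullback.fst a₀ π ≫ b₀ =
        pullback.snd (pullback.fst a₀ π ≫ b₀) π ≫ π := pullback.condition
    have s1 : IsPullback (pullback.fst a₀ π).left (pullback.snd a₀ π).left a₀.left π.left :=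
      (IsPullback.of_hasPullback a₀ π).map (Over.forget S)
    have s2 : IsPullback (pullback.fst (pullback.fst a₀ π ≫ b₀) π).left
        (pullback.snd (pullback.fst a₀ π ≫ b₀) π).left (pullback.fst a₀ π ≫ b₀).left π.left :=
      (IsPullback.of_hasPullback (pullback.fst a₀ π ≫ b₀) π).map (Over.forget S)
    haveI : Flat (pullback.fst a₀ π).left := MorphismProperty.of_isPullback s1.flip inferInstance
    haveI : Surjective (pullback.fst a₀ π).left := MorphismProperty.of_isPullback s1.flip inferInstance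
    haveI : Flat (pullback.fst (pullback.fst a₀ π ≫ b₀) π).left :=
      MorphismProperty.of_isPullback s2.flip inferInstance
    haveI : Surjective (pullback.fst (pullback.fst a₀ π ≫ b₀) π).left :=
      MorphismProperty.of_isPullback s2.flip inferInstance
    haveI : Epi (pullback.fst (pullback.fst a₀ π ≫ b₀) π ≫ pullback.fst a₀ π).left := by
      rw [Over.comp_left]
      exact Flat.epi_of_flat_of_surjective _
    haveI : Epi (pullback.fst (pullback.fst a₀ π ≫ b₀) π ≫ pullback.fst a₀ π) :=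
      (Over.forget S).epi_of_epi_map ‹_›
    rw [← cancel_epi (pullback.fst (pullback.fst a₀ π ≫ b₀) π ≫ pullback.fst a₀ π)]
    have hw : (AlgSp.yon S).map ((pullback.fst (pullback.fst a₀ π ≫ b₀) π ≫ pullback.snd a₀ π) ≫ ε.inv) ≫
        q.toHom = (AlgSp.yon S).map (pullback.snd (pullback.fst a₀ π ≫ b₀) π ≫ ε.inv) ≫ q.toHom := by
      rw [key, key, Category.assoc, ← c1, ← c2, Functor.map_comp, Functor.map_comp, Category.assoc,
        Category.assoc, Functor.map_comp, Functor.map_comp, Category.assoc, Category.assoc, hab]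
    obtain ⟨r, hr⟩ := (AlgSp.yon S).map_surjective (sq.lift _ _ hw)
    have hrt : r ≫ tO q σ τ hστ =
        (pullback.fst (pullback.fst a₀ π ≫ b₀) π ≫ pullback.snd a₀ π) ≫ ε.inv := by
      apply (AlgSp.yon S).map_injective
      rw [Functor.map_comp, hr, sq.lift_fst]
    have hrs : r ≫ sO q σ = pullback.snd (pullback.fst a₀ π ≫ b₀) π ≫ ε.inv := by
      apply (AlgSp.yon S).map_injective
      rw [Functor.map_comp, hr, sq.lift_snd]
    have hcπ : c = ε.hom ≫ π := by rw [hπ]; exact hcε
    calc (pullback.fst (pullback.fst a₀ π ≫ b₀) π ≫ pullback.fst a₀ π) ≫ a₀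
        = ((pullback.fst (pullback.fst a₀ π ≫ b₀) π ≫ pullback.snd a₀ π) ≫ ε.inv) ≫ ε.hom ≫ π := by
          simp only [Category.assoc, Iso.inv_hom_id_assoc, c1]
      _ = r ≫ tO q σ τ hστ ≫ c := by rw [← hrt, hcπ, Category.assoc]
      _ = r ≫ sO q σ ≫ c := by rw [hts]
      _ = (pullback.snd (pullback.fst a₀ π ≫ b₀) π ≫ ε.inv) ≫ ε.hom ≫ π := by
          rw [← hrs, hcπ, Category.assoc]
      _ = (pullback.fst (pullback.fst a₀ π ≫ b₀) π ≫ pullback.fst a₀ π) ≫ b₀ := by
          simp only [Category.assoc, Iso.inv_hom_id_assoc, c2]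
  · rw [hq', hcε, Functor.map_comp, Category.assoc, hm, hedef, ← Category.assoc, ← Functor.map_comp,
      Iso.hom_inv_id, (AlgSp.yon S).map_id, Category.id_comp]
  · show IsFinite (Spec.map (CommRingCat.ofHom (algebraMap (eqField σ τ) q.K)))
    rw [IsFinite.SpecMap_iff]
    exact RingHom.finite_algebraMap.2 hfinK
  · -- the cartesian square
    refine IsPullback.of_map (Over.forget S) hts ?_
    have hT : IsPullback
        (Spec.map (CommRingCat.ofHom (Algebra.TensorProduct.includeLeftRingHom :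
          q.K →+* q.K ⊗[eqField σ τ] q.K)))
        (Spec.map (CommRingCat.ofHom ((Algebra.TensorProduct.includeRight :
          q.K →ₐ[eqField σ τ] q.K ⊗[eqField σ τ] q.K).toRingHom)))
        (Spec.map (CommRingCat.ofHom (algebraMap (eqField σ τ) q.K)))
        (Spec.map (CommRingCat.ofHom (algebraMap (eqField σ τ) q.K))) :=
      isPullback_SpecMap_of_isPushout _ _ _ _
        (CommRingCat.isPushout_tensorProduct (eqField σ τ) q.K q.K)
    let eψ : CommRingCat.of Λ ≅ CommRingCat.of (q.K ⊗[eqField σ τ] q.K) :=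
      (RingEquiv.ofBijective ψ hψbij).toCommRingCatIso
    have heψ : eψ.hom = CommRingCat.ofHom ψ := rfl
    have h1 := IsPullback.of_iso hT (Scheme.Spec.mapIso eψ.op) (Iso.refl _) (Iso.refl _) (Iso.refl _)
      (fst' := Spec.map (CommRingCat.ofHom σ)) (snd' := Spec.map (CommRingCat.ofHom τ))
      (f' := Spec.map (CommRingCat.ofHom (algebraMap (eqField σ τ) q.K)))
      (g' := Spec.map (CommRingCat.ofHom (algebraMap (eqField σ τ) q.K)))
      (by
        change _ ≫ 𝟙 _ = Spec.map eψ.hom ≫ _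
        rw [Category.comp_id, heψ, specMap_comp, hψσ])
      (by
        change _ ≫ 𝟙 _ = Spec.map eψ.hom ≫ _
        rw [Category.comp_id, heψ, specMap_comp, hψτ])
      (by simp) (by simp)
    exact h1.flip

end Core2

lemma eq_isoSpec_comp {Y : Scheme.{u}} [IsAffine Y] {K : Type u} [CommRing K]
    (f : Y ⟶ Spec (CommRingCat.of K)) :
    f = Y.isoSpec.hom ≫ Spec.map (CommRingCat.ofHom
      ((Scheme.ΓSpecIso (CommRingCat.of K)).inv ≫ f.appTop).hom) := by
  have h := Scheme.isoSpec_hom_naturality f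
  rw [Scheme.isoSpec_Spec_hom] at h
  have h2 : Spec.map (CommRingCat.ofHom ((Scheme.ΓSpecIso (CommRingCat.of K)).inv ≫ f.appTop).hom) =
      Spec.map f.appTop ≫ Spec.map (Scheme.ΓSpecIso (CommRingCat.of K)).inv := by
    rw [← Spec.map_comp]; rfl
  rw [h2, ← Category.assoc, h, Category.assoc, ← Spec.map_comp, Iso.inv_hom_id, Spec.map_id,
    Category.comp_id]

/-- **the quotient of a field point by a finite equivalence relation**: if the self-product of a
field point `q : Spec K ⟶ X` of a sheaf is a scheme finite over `Spec K`, then `q` factors through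
a monomorphism `Spec K' ⟶ X` with `K / K'` finite, and `R = Spec K ×_{K'} Spec K`. -/
theorem exists_mono_quotient {X : AlgSp.Sp S} (q : AlgSp.FieldPt X) {R : Over S} (s t : R ⟶ q.pt)
    (sq : IsPullback ((AlgSp.yon S).map t) ((AlgSp.yon S).map s) q.toHom q.toHom)
    [IsFinite s.left] :
    ∃ (q' : AlgSp.FieldPt X) (c : q.pt ⟶ q'.pt), Mono q'.toHom ∧
      (AlgSp.yon S).map c ≫ q'.toHom = q.toHom ∧ IsFinite c.left ∧ Flat c.left ∧
      Surjective c.left ∧ IsPullback t s c c := by
  haveI : IsAffine q.pt.left := (inferInstance : IsAffine (Spec (CommRingCat.of q.K)))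
  haveI : IsAffine R.left := isAffine_of_isAffineHom s.left
  obtain ⟨σ, hσ⟩ : ∃ σ : q.K →+* Γ(R.left, ⊤),
      s.left = R.left.isoSpec.hom ≫ Spec.map (CommRingCat.ofHom σ) := ⟨_, eq_isoSpec_comp s.left⟩
  obtain ⟨τ, hτ⟩ : ∃ τ : q.K →+* Γ(R.left, ⊤),
      t.left = R.left.isoSpec.hom ≫ Spec.map (CommRingCat.ofHom τ) := ⟨_, eq_isoSpec_comp t.left⟩
  have hστ : Spec.map (CommRingCat.ofHom τ) ≫ q.str = Spec.map (CommRingCat.ofHom σ) ≫ q.str := by
    rw [← cancel_epi R.left.isoSpec.hom, ← Category.assoc, ← hτ, ← Category.assoc, ← hσ]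
    exact (Over.w t).trans (Over.w s).symm
  let j : R ≅ RO q σ := Over.isoMk R.left.isoSpec (by
    change R.left.isoSpec.hom ≫ Spec.map _ ≫ q.str = R.hom
    rw [← Category.assoc, ← hσ]
    exact Over.w s)
  have hjs : j.hom ≫ sO q σ = s := by
    apply Over.OverMorphism.ext
    exact hσ.symm
  have hjt : j.hom ≫ tO q σ τ hστ = t := by
    apply Over.OverMorphism.ext
    exact hτ.symm
  have sq' : IsPullback ((AlgSp.yon S).map (tO q σ τ hστ)) ((AlgSp.yon S).map (sO q σ))
      q.toHom q.toHom := by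
    refine IsPullback.of_iso sq ((AlgSp.yon S).mapIso j) (Iso.refl _) (Iso.refl _) (Iso.refl _)
      ?_ ?_ (by simp) (by simp)
    · rw [Iso.refl_hom, Category.comp_id, Functor.mapIso_hom, ← Functor.map_comp, hjt]
    · rw [Iso.refl_hom, Category.comp_id, Functor.mapIso_hom, ← Functor.map_comp, hjs]
  have hfin : σ.Finite := by
    have h1 : IsFinite (R.left.isoSpec.hom ≫ Spec.map (CommRingCat.ofHom σ)) := hσ ▸ ‹IsFinite s.left›
    have h2 : IsFinite (Spec.map (CommRingCat.ofHom σ)) :=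
      (MorphismProperty.cancel_left_of_respectsIso @IsFinite _ _).1 h1
    exact (IsFinite.SpecMap_iff _).1 h2
  obtain ⟨q', c, h1, h2, h3, h3a, h3b, h4⟩ := core q σ τ hστ sq' hfin
  refine ⟨q', c, h1, h2, h3, h3a, h3b, ?_⟩
  refine IsPullback.of_iso h4 j.symm (Iso.refl _) (Iso.refl _) (Iso.refl _) ?_ ?_ (by simp) (by simp)
  · rw [Iso.refl_hom, Category.comp_id, Iso.symm_hom, ← hjt, Iso.inv_hom_id_assoc]
  · rw [Iso.refl_hom, Category.comp_id, Iso.symm_hom, ← hjs, Iso.inv_hom_id_assoc]

/-- a field point factoring through another one defines the same point. -/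
lemma mk_eq_of_factor {X : AlgSp.Sp S} (q q' : AlgSp.FieldPt X) (c : q.pt ⟶ q'.pt)
    (h : (AlgSp.yon S).map c ≫ q'.toHom = q.toHom) : AlgSp.Points.mk q' = AlgSp.Points.mk q := by
  refine AlgSp.Points.sound ⟨q.K, inferInstance, q.str, c, 𝟙 _, ?_⟩
  rw [op_id, Functor.map_id_apply, ← AlgSp.FieldPt.toHom_app q' c]
  have h2 : q.val = q.toHom.hom.app (op q.pt) ⟨𝟙 _⟩ := by
    rw [AlgSp.FieldPt.toHom_app, op_id, Functor.map_id_apply]
  rw [h2, ← h]
  change _ = q'.toHom.hom.app _ (((AlgSp.yon S).map c).hom.app _ ⟨𝟙 _⟩)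
  congr 1

/-- sheaf-level form: a field point whose self-product has étale quasi-compact first projection
factors through a monomorphism from the spectrum of a field, along a finite étale morphism. -/
theorem exists_mono_quotient_of_etale {X : AlgSp.Sp S} (q : AlgSp.FieldPt X) {P : AlgSp.Sp S}
    (fst snd : P ⟶ (AlgSp.yon S).obj q.pt) (sq : IsPullback fst snd q.toHom q.toHom)
    (he : AlgSp.RepWith @Etale fst) (hqc : AlgSp.RepWith @QuasiCompact fst) :
    ∃ (q' : AlgSp.FieldPt X) (c : q.pt ⟶ q'.pt), Mono q'.toHom ∧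
      (AlgSp.yon S).map c ≫ q'.toHom = q.toHom ∧ IsFinite c.left ∧ Etale c.left ∧
      Surjective c.left := by
  have hrep := he.1
  have sqa := hrep.isPullback (𝟙 _)
  haveI : IsIso (hrep.fst (𝟙 _)) := sqa.isIso_fst_of_isIso
  obtain ⟨W, a, b, sqa, hiso⟩ : ∃ (W : Over S) (a : (AlgSp.yon S).obj W ⟶ P) (b : W ⟶ q.pt),
      IsPullback a ((AlgSp.yon S).map b) fst (𝟙 _) ∧ IsIso a := ⟨_, _, _, sqa, inferInstance⟩
  haveI := hiso
  haveI hbe : Etale b.left := he.2 _ _ _ sqa
  haveI hbq : QuasiCompact b.left := hqc.2 _ _ _ sqa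
  obtain ⟨t, ht⟩ := (AlgSp.yon S).map_surjective (a ≫ snd)
  have hb : (AlgSp.yon S).map b = a ≫ fst := by rw [sqa.w, Category.comp_id]
  have sq' : IsPullback ((AlgSp.yon S).map t) ((AlgSp.yon S).map b) q.toHom q.toHom := by
    refine IsPullback.of_iso sq.flip (asIso a).symm (Iso.refl _) (Iso.refl _) (Iso.refl _)
      ?_ ?_ (by simp) (by simp)
    · rw [Iso.refl_hom, Category.comp_id, Iso.symm_hom, asIso_inv, ht, IsIso.inv_hom_id_assoc]
    · rw [Iso.refl_hom, Category.comp_id, Iso.symm_hom, asIso_inv, hb, IsIso.inv_hom_id_assoc]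
  haveI : LocallyQuasiFinite b.left := Groth.Agent.Lib.H9Slice.locallyQuasiFinite_of_etale _
  haveI : IsLocallyArtinian q.pt.left := by
    show IsLocallyArtinian (Spec (CommRingCat.of q.K))
    rw [Scheme.isLocallyArtinianScheme_Spec]
    exact (inferInstance : IsArtinianRing q.K)
  haveI : IsFinite b.left := IsFinite.of_locallyQuasiFinite b.left
  obtain ⟨q', c, h1, h2, h3, h4, h5, h6⟩ := exists_mono_quotient q b t sq'
  refine ⟨q', c, h1, h2, h3, ?_, h5⟩
  have h7 : IsPullback b.left t.left c.left c.left := (h6.map (Over.forget S)).flip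
  haveI := h3
  exact MorphismProperty.of_isPullback_of_descendsAlong (P := @Etale)
    (Q := @Surjective ⊓ @Flat ⊓ @QuasiCompact) h7 ⟨⟨h5, h4⟩, inferInstance⟩ hbe

end Groth.Agent.Lib.H5bFQ
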