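import Mathlib
import Groth.Agent.Lib.H5bFQ
import Groth.Agent.Lib.Helper9SpPoint6
import Groth.Agent.S10177

/-!
# Monomorphic representatives of points of charts (helper5)

* `repWith_quasiCompact_of_precomp`: quasi-compactness of `h_T ⟶ X` descends along a surjective
  precomposition.
* `repWith_quasiCompact_of_mk_eq`: quasi-compactness of a field point only depends on its class.
* `locallyQuasiFinite_of_chart_point`: the self-product of a point of an étale chart is locally
  quasi-finite over the residue field.
* `exists_mono_of_chart_point`: a quasi-compact point of an étale chart is represented by a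
  quasi-compact monomorphism.
-/

set_option autoImplicit false
set_option linter.style.haveILetI false

universe u
open CategoryTheory CategoryTheory.Limits AlgebraicGeometry Opposite

namespace Groth.Agent.Lib.H5bFQ2

open AlgSp

variable {S : Scheme.{u}}

lemma quasiCompact_of_surjective_comp {A B C : Scheme.{u}} (π : A ⟶ B) (f : B ⟶ C) [Surjective π]
    (h : QuasiCompact (π ≫ f)) : QuasiCompact f := by
  refine ⟨fun V hVo hVc => ?_⟩
  have h1 := h.isCompact_preimage V hVo hVc
  have h2 : f ⁻¹' V = π '' ((π ≫ f) ⁻¹' V) := by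
    ext x
    constructor
    · intro hx
      obtain ⟨y, rfl⟩ := π.surjective x
      exact ⟨y, by simpa using hx, rfl⟩
    · rintro ⟨y, hy, rfl⟩
      simpa using hy
  rw [h2]
  exact h1.image π.continuous

/-- quasi-compactness of `h_T ⟶ X` descends along a surjective precomposition. -/
theorem repWith_quasiCompact_of_precomp {X : Sp S} {T T' : Over S} (g : (yon S).obj T ⟶ X)
    (hg : Representable g) (ω : T' ⟶ T) [Surjective ω.left]
    (h : RepWith @QuasiCompact ((yon S).map ω ≫ g)) : RepWith @QuasiCompact g := by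
  refine ⟨hg, fun Z W h' fst snd sq => ?_⟩
  obtain ⟨fst₀, rfl⟩ := (yon S).map_surjective fst
  have top : IsPullback ((yon S).map (pullback.snd fst₀ ω)) ((yon S).map (pullback.fst fst₀ ω))
      ((yon S).map ω) ((yon S).map fst₀) := ((IsPullback.of_hasPullback fst₀ ω).map (yon S)).flip
  have outer := top.paste_vert sq
  rw [← Functor.map_comp] at outer
  have key : QuasiCompact (pullback.fst fst₀ ω ≫ snd).left := h.2 _ _ _ outer
  rw [Over.comp_left] at key
  have s1 : IsPullback (pullback.fst fst₀ ω).left (pullback.snd fst₀ ω).left fst₀.left ω.left :=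
    (IsPullback.of_hasPullback fst₀ ω).map (Over.forget S)
  haveI : Surjective (pullback.fst fst₀ ω).left :=
    MorphismProperty.of_isPullback (P := @Surjective) s1.flip ‹Surjective ω.left›
  exact quasiCompact_of_surjective_comp (pullback.fst fst₀ ω).left snd.left key

/-- quasi-compactness of a field point only depends on its class. -/
theorem repWith_quasiCompact_of_mk_eq {X : Sp S} (hX : IsAlgSpace X) (q q' : FieldPt X)
    (h : Points.mk q' = Points.mk q) (hq : RepWith @QuasiCompact q.toHom) :
    RepWith @QuasiCompact q'.toHom := by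
  obtain ⟨Ω, _, w, a, b, hab⟩ :=
    Groth.Agent.Lib.Helper9.SpPoint.rel_toHom (Points.mk_eq_mk_iff.1 h)
  have hb : RepWith @QuasiCompact ((yon S).map b) := by
    rw [repWith_yon_map_iff]
    haveI : IsAffine q.pt.left := (inferInstance : IsAffine (Spec (CommRingCat.of q.K)))
    exact (HasAffineProperty.iff_of_isAffine (P := @QuasiCompact)).mpr
      (inferInstance : CompactSpace ↥(Spec (CommRingCat.of Ω)))
  have h1 : RepWith @QuasiCompact ((yon S).map b ≫ q.toHom) :=
    (RepWith @QuasiCompact).comp_mem _ _ hb hq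
  rw [← hab] at h1
  haveI : Surjective a.left := by
    refine ⟨fun p => ⟨IsLocalRing.closedPoint Ω, ?_⟩⟩
    exact (inferInstance : Subsingleton (PrimeSpectrum q'.K)).elim _ _
  exact repWith_quasiCompact_of_precomp q'.toHom (hX.representable_from_yon _) a h1

/-- the self-product of a point of an étale chart is locally quasi-finite over the residue
field. -/
theorem locallyQuasiFinite_of_chart_point {X : Sp S} {U : Over S} (a : (yon S).obj U ⟶ X)
    (ha : RepWith @Etale a) (u : ↥U.left) {F : Over S} (s t : F ⟶ (FieldPt.ofPt a u).pt)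
    (sq : IsPullback ((yon S).map t) ((yon S).map s) (FieldPt.ofPt a u).toHom
      (FieldPt.ofPt a u).toHom) : LocallyQuasiFinite s.left := by
  obtain ⟨up, hup⟩ : ∃ up : FieldPt X, up = FieldPt.ofPt a u := ⟨_, rfl⟩
  let ι : (FieldPt.ofPt a u).pt ⟶ U := Over.homMk (U.left.fromSpecResidueField u) rfl
  have hι : (FieldPt.ofPt a u).toHom = (yon S).map ι ≫ a := FieldPt.toHom_ofPt a u
  have hrep := ha.1
  have sqG := hrep.isPullback' (FieldPt.ofPt a u).toHom
  haveI : Etale (hrep.snd (FieldPt.ofPt a u).toHom).left := ha.2 _ _ _ sqG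
  have hw : (yon S).map (t ≫ ι) ≫ a = (yon S).map s ≫ (FieldPt.ofPt a u).toHom := by
    rw [Functor.map_comp, Category.assoc, ← hι, sq.w]
  let φ := hrep.lift' (t ≫ ι) s hw
  have hφ1 : φ ≫ hrep.fst' (FieldPt.ofPt a u).toHom = t ≫ ι := hrep.lift'_fst _ _ hw
  have hφ2 : φ ≫ hrep.snd (FieldPt.ofPt a u).toHom = s := hrep.lift'_snd _ _ hw
  have outer : IsPullback ((yon S).map t)
      ((yon S).map φ ≫ (yon S).map (hrep.snd (FieldPt.ofPt a u).toHom))
      ((yon S).map ι ≫ a) (FieldPt.ofPt a u).toHom := by
    rw [← Functor.map_comp, hφ2, ← hι]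
    exact sq
  have top : IsPullback ((yon S).map t) ((yon S).map φ) ((yon S).map ι)
      ((yon S).map (hrep.fst' (FieldPt.ofPt a u).toHom)) :=
    IsPullback.of_bot outer (by rw [← Functor.map_comp, ← Functor.map_comp, hφ1]) sqG
  have top' : IsPullback t φ ι (hrep.fst' (FieldPt.ofPt a u).toHom) :=
    IsPullback.of_map (yon S) hφ1.symm top
  have top'' := top'.map (Over.forget S)
  have hιq : LocallyQuasiFinite ι.left := by
    change LocallyQuasiFinite (U.left.fromSpecResidueField u)
    infer_instance
  haveI : LocallyQuasiFinite φ.left :=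
    MorphismProperty.of_isPullback (P := @LocallyQuasiFinite) top'' hιq
  haveI : LocallyQuasiFinite (hrep.snd (FieldPt.ofPt a u).toHom).left :=
    Groth.Agent.Lib.H9Slice.locallyQuasiFinite_of_etale _
  rw [← hφ2, Over.comp_left]
  infer_instance

/-- a quasi-compact point of an étale chart is represented by a quasi-compact monomorphism. -/
theorem exists_mono_of_chart_point {X : Sp S} (hX : IsAlgSpace X) {U : Over S}
    (a : (yon S).obj U ⟶ X) (ha : RepWith @Etale a) (u : ↥U.left)
    (hqc : RepWith @QuasiCompact (FieldPt.ofPt a u).toHom) :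
    ∃ p : FieldPt X, Points.mk p = Points.ofPt a u ∧ Mono p.toHom ∧
      RepWith @QuasiCompact p.toHom := by
  have hrep := hqc.1
  have sqF := hrep.isPullback' (FieldPt.ofPt a u).toHom
  haveI : QuasiCompact (hrep.snd (FieldPt.ofPt a u).toHom).left := hqc.2 _ _ _ sqF
  haveI : LocallyQuasiFinite (hrep.snd (FieldPt.ofPt a u).toHom).left :=
    locallyQuasiFinite_of_chart_point a ha u _ _ sqF
  haveI : IsLocallyArtinian (FieldPt.ofPt a u).pt.left := by
    show IsLocallyArtinian (Spec (CommRingCat.of (FieldPt.ofPt a u).K))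
    rw [Scheme.isLocallyArtinianScheme_Spec]
    exact (inferInstance : IsArtinianRing (FieldPt.ofPt a u).K)
  haveI : IsFinite (hrep.snd (FieldPt.ofPt a u).toHom).left := IsFinite.of_locallyQuasiFinite _
  obtain ⟨q', c, h1, h2, h3, h4, h5, h6⟩ :=
    Groth.Agent.Lib.H5bFQ.exists_mono_quotient (FieldPt.ofPt a u) _ _ sqF
  refine ⟨q', Groth.Agent.Lib.H5bFQ.mk_eq_of_factor _ q' c h2, h1, ?_⟩
  haveI := h5
  exact repWith_quasiCompact_of_precomp q'.toHom (hX.representable_from_yon _) c (h2 ▸ hqc)

end Groth.Agent.Lib.H5bFQ2
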