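import Mathlib
import Groth.Agent.Lib.H5bFQ2
import Groth.Agent.Lib.Helper12PullbackPts
import Groth.Agent.S10176

/-!
# Finite fibres of étale charts and monomorphic representatives of points (helper5)
-/

set_option autoImplicit false
set_option linter.style.haveILetI false

universe u
open CategoryTheory CategoryTheory.Limits AlgebraicGeometry Opposite

namespace Groth.Agent.Lib.H5bFQ3

open AlgSp

variable {S : Scheme.{u}}

/-- a scheme finite over the spectrum of a field has finitely many points. -/
lemma finite_of_isFinite_field {T : Scheme.{u}} {k : Type u} [Field k]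
    (c : T ⟶ Spec (CommRingCat.of k)) [IsFinite c] : Finite ↥T := by
  have h := c.finite_preimage_singleton (IsLocalRing.closedPoint k)
  have h2 : (Set.univ : Set ↥T) ⊆ c ⁻¹' {IsLocalRing.closedPoint k} := by
    intro x _
    exact (inferInstance : Subsingleton (PrimeSpectrum k)).elim _ _
  exact Set.finite_univ_iff.1 (h.subset h2)

/-- a scheme with finitely many points, locally quasi-finite over a field, is finite over it. -/
lemma isFinite_of_finite {T : Scheme.{u}} {k : Type u} [Field k]
    (c : T ⟶ Spec (CommRingCat.of k)) [LocallyQuasiFinite c] [Finite ↥T] : IsFinite c := by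
  haveI : CompactSpace ↥T := Finite.compactSpace
  haveI : QuasiCompact c := (HasAffineProperty.iff_of_isAffine (P := @QuasiCompact)).mpr
    (inferInstance : CompactSpace ↥T)
  haveI : IsLocallyArtinian (Spec (CommRingCat.of k)) := by
    rw [Scheme.isLocallyArtinianScheme_Spec]
    exact (inferInstance : IsArtinianRing k)
  exact IsFinite.of_locallyQuasiFinite c

/-- points of the fibre `Spec k ×_X U` lie over the point. -/
lemma ofPt_eq_mk_of_sq {X : Sp S} (p : FieldPt X) {U : Over S} (φ : (yon S).obj U ⟶ X)
    {T : Over S} (c : T ⟶ p.pt) (d : T ⟶ U)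
    (w : (yon S).map c ≫ p.toHom = (yon S).map d ≫ φ) (τ : ↥T.left) :
    Points.ofPt φ (d.left τ) = Points.mk p := by
  rw [← Groth.Agent.S10176.ofPt_map_comp, ← w, Groth.Agent.S10176.ofPt_map_comp,
    Points.ofPt_toHom]

/-- the base change of a monomorphism from a scheme is a monomorphism of schemes. -/
lemma mono_left_of_sq {X : Sp S} {A B T : Over S} (p : (yon S).obj A ⟶ X) [Mono p]
    (φ : (yon S).obj B ⟶ X) (c : T ⟶ A) (d : T ⟶ B)
    (sq : IsPullback ((yon S).map c) ((yon S).map d) p φ) : Mono d.left := by
  haveI : Mono d := by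
    refine ⟨fun {W} α β h => ?_⟩
    apply (yon S).map_injective
    apply sq.hom_ext
    · rw [← cancel_mono p, Category.assoc, Category.assoc, sq.w, ← Category.assoc,
        ← Category.assoc, ← Functor.map_comp, ← Functor.map_comp, h]
    · rw [← Functor.map_comp, ← Functor.map_comp, h]
  infer_instance

/-- the fibre `Spec k ×_X U` of an étale chart over a monomorphic point with finite set-theoretic
fibre is finite over `k`. -/
theorem isFinite_of_mono_point {X : Sp S} (p : FieldPt X) [Mono p.toHom] {U : Over S}
    (φ : (yon S).obj U ⟶ X) (hφ : RepWith @Etale φ) {T : Over S} (c : T ⟶ p.pt) (d : T ⟶ U)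
    (sq : IsPullback ((yon S).map c) ((yon S).map d) p.toHom φ)
    (hfin : (Points.ofPt φ ⁻¹' {Points.mk p}).Finite) : IsFinite c.left := by
  haveI : Etale c.left := hφ.2 _ _ _ sq.flip
  haveI : LocallyQuasiFinite c.left := Groth.Agent.Lib.H9Slice.locallyQuasiFinite_of_etale _
  haveI := mono_left_of_sq p.toHom φ c d sq
  haveI : Finite ↥(Points.ofPt φ ⁻¹' {Points.mk p}) := hfin.to_subtype
  haveI : Finite ↥T.left := by
    refine Finite.of_injective
      (fun τ => (⟨d.left τ, ofPt_eq_mk_of_sq p φ c d sq.w τ⟩ : ↥(Points.ofPt φ ⁻¹' {Points.mk p}))) ?_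
    intro τ τ' h
    exact d.left.injective (congrArg Subtype.val h)
  exact isFinite_of_finite (k := p.K) c.left

/-- the self-product of a point of an étale chart is finite over the residue field as soon as the
set of points of `R = U ×_X U` with source and target this point is finite. -/
theorem isFinite_selfProduct_of_chart_point {X : Sp S} {U : Over S} (φ : (yon S).obj U ⟶ X)
    (hφ : RepWith @Etale φ) {R : Over S} (s t : R ⟶ U)
    (sqR : IsPullback ((yon S).map t) ((yon S).map s) φ φ) (u : ↥U.left)
    (hfin : {r : ↥R.left | s.left r = u ∧ t.left r = u}.Finite)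
    {F : Over S} (sF tF : F ⟶ (FieldPt.ofPt φ u).pt)
    (sqF : IsPullback ((yon S).map tF) ((yon S).map sF) (FieldPt.ofPt φ u).toHom
      (FieldPt.ofPt φ u).toHom) : IsFinite sF.left := by
  let ι : (FieldPt.ofPt φ u).pt ⟶ U := Over.homMk (U.left.fromSpecResidueField u) rfl
  have hι : (FieldPt.ofPt φ u).toHom = (yon S).map ι ≫ φ := FieldPt.toHom_ofPt φ u
  haveI : Mono ι.left := by
    change Mono (U.left.fromSpecResidueField u)
    infer_instance
  haveI : Mono ι := (Over.forget S).mono_of_mono_map ‹_›
  have hw : (yon S).map (tF ≫ ι) ≫ φ = (yon S).map (sF ≫ ι) ≫ φ := by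
    rw [Functor.map_comp, Functor.map_comp, Category.assoc, Category.assoc, ← hι, sqF.w]
  obtain ⟨j, hj⟩ := (yon S).map_surjective (sqR.lift _ _ hw)
  have hjt : j ≫ t = tF ≫ ι := by
    apply (yon S).map_injective
    rw [Functor.map_comp, hj, sqR.lift_fst]
  have hjs : j ≫ s = sF ≫ ι := by
    apply (yon S).map_injective
    rw [Functor.map_comp, hj, sqR.lift_snd]
  haveI : Mono j := by
    refine ⟨fun {W} α β h => ?_⟩
    apply (yon S).map_injective
    apply sqF.hom_ext
    · rw [← Functor.map_comp, ← Functor.map_comp]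
      congr 1
      rw [← cancel_mono ι, Category.assoc, Category.assoc, ← hjt, ← Category.assoc, h,
        Category.assoc]
    · rw [← Functor.map_comp, ← Functor.map_comp]
      congr 1
      rw [← cancel_mono ι, Category.assoc, Category.assoc, ← hjs, ← Category.assoc, h,
        Category.assoc]
  haveI : Mono j.left := inferInstance
  haveI : Finite ↥{r : ↥R.left | s.left r = u ∧ t.left r = u} := hfin.to_subtype
  haveI : Finite ↥F.left := by
    refine Finite.of_injective
      (fun f => (⟨j.left f, ?_, ?_⟩ : ↥{r : ↥R.left | s.left r = u ∧ t.left r = u})) ?_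
    · rw [← Scheme.Hom.comp_apply, ← Over.comp_left, hjs, Over.comp_left, Scheme.Hom.comp_apply]
      exact Scheme.fromSpecResidueField_apply _ _
    · rw [← Scheme.Hom.comp_apply, ← Over.comp_left, hjt, Over.comp_left, Scheme.Hom.comp_apply]
      exact Scheme.fromSpecResidueField_apply _ _
    · intro f f' h
      exact j.left.injective (congrArg Subtype.val h)
  haveI : LocallyQuasiFinite sF.left :=
    Groth.Agent.Lib.H5bFQ2.locallyQuasiFinite_of_chart_point φ hφ u sF tF sqF
  exact isFinite_of_finite (k := (FieldPt.ofPt φ u).K) sF.left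

/-- the set-theoretic fibre of a chart over a point is finite as soon as the fibre scheme is. -/
theorem finite_fibre_of_isFinite {X : Sp S} (p : FieldPt X) {U : Over S}
    (φ : (yon S).obj U ⟶ X) {T : Over S} (c : T ⟶ p.pt) (d : T ⟶ U)
    (sq : IsPullback ((yon S).map c) ((yon S).map d) p.toHom φ) [IsFinite c.left] :
    (Points.ofPt φ ⁻¹' {Points.mk p}).Finite := by
  haveI : Finite ↥T.left := finite_of_isFinite_field (k := p.K) c.left
  refine (Set.finite_range d.left).subset ?_
  intro u hu
  have e : Points.ofPt φ u = Points.ofPt p.toHom (IsLocalRing.closedPoint p.K) := by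
    rw [Points.ofPt_toHom]; exact hu
  obtain ⟨y, hy, -⟩ := Groth.Agent.S10176.exists_point_of_isPullback_yon sq.flip u _ e
  exact ⟨y, hy⟩

/-- the same for `R = U ×_X U`. -/
theorem finite_fibre_R_of_isFinite {X : Sp S} (p : FieldPt X) {U : Over S}
    (φ : (yon S).obj U ⟶ X) {T : Over S} (c : T ⟶ p.pt) (d : T ⟶ U)
    (sq : IsPullback ((yon S).map c) ((yon S).map d) p.toHom φ) [IsFinite c.left]
    {R : Over S} (s t : R ⟶ U) (sqR : IsPullback ((yon S).map t) ((yon S).map s) φ φ) :
    (Points.ofPt ((yon S).map t ≫ φ) ⁻¹' {Points.mk p}).Finite := by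
  have hw : (yon S).map (pullback.fst d t ≫ c) ≫ p.toHom =
      (yon S).map (pullback.snd d t ≫ s) ≫ φ := by
    rw [Functor.map_comp, Functor.map_comp, Category.assoc, Category.assoc, sq.w, ← sqR.w,
      ← Category.assoc, ← Category.assoc, ← Functor.map_comp, ← Functor.map_comp,
      pullback.condition]
  obtain ⟨ρ, hρ⟩ := (yon S).map_surjective (sq.lift _ _ hw)
  have hρc : ρ ≫ c = pullback.fst d t ≫ c := by
    apply (yon S).map_injective
    rw [Functor.map_comp, hρ, sq.lift_fst]
  have hρd : ρ ≫ d = pullback.snd d t ≫ s := by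
    apply (yon S).map_injective
    rw [Functor.map_comp, hρ, sq.lift_snd]
  have top : IsPullback ((yon S).map (pullback.fst d t)) ((yon S).map (pullback.snd d t))
      ((yon S).map d) ((yon S).map t) := (IsPullback.of_hasPullback d t).map (yon S)
  have outer := top.paste_vert sqR
  rw [← Functor.map_comp, ← hρd, Functor.map_comp, ← sq.w] at outer
  have sq2 : IsPullback ((yon S).map (pullback.fst d t)) ((yon S).map ρ) ((yon S).map c)
      ((yon S).map c) :=
    IsPullback.of_bot outer (by rw [← Functor.map_comp, ← Functor.map_comp, hρc]) sq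
  have sq2' : IsPullback (pullback.fst d t) ρ c c := IsPullback.of_map (yon S) hρc.symm sq2
  have sq2'' := sq2'.map (Over.forget S)
  haveI : IsFinite ρ.left := MorphismProperty.of_isPullback (P := @IsFinite) sq2'' ‹IsFinite c.left›
  haveI : IsFinite (ρ ≫ c).left := by rw [Over.comp_left]; infer_instance
  haveI : Finite ↥(pullback d t).left := finite_of_isFinite_field (k := p.K) (ρ ≫ c).left
  refine (Set.finite_range (pullback.snd d t).left).subset ?_
  intro r hr
  have hr' : Points.ofPt φ (t.left r) = Points.mk p := by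
    rw [← Groth.Agent.S10176.ofPt_map_comp]; exact hr
  have e : Points.ofPt φ (t.left r) = Points.ofPt p.toHom (IsLocalRing.closedPoint p.K) := by
    rw [Points.ofPt_toHom]; exact hr'
  obtain ⟨τ, hτ, -⟩ := Groth.Agent.S10176.exists_point_of_isPullback_yon sq.flip _ _ e
  have s1 : IsPullback (pullback.fst d t).left (pullback.snd d t).left d.left t.left :=
    (IsPullback.of_hasPullback d t).map (Over.forget S)
  obtain ⟨y, -, hy⟩ := Groth.Agent.Lib.Helper12.exists_preimage_of_isPullback s1 τ r hτ
  exact ⟨y, hy⟩

end Groth.Agent.Lib.H5bFQ3
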