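import Mathlib
import Groth.Agent.Lib.H5bFQ3

/-!
# Quasi-compactness of a point can be tested on affine étale charts (helper5)
-/

set_option autoImplicit false
set_option linter.style.haveILetI false

universe u
open CategoryTheory CategoryTheory.Limits AlgebraicGeometry Opposite MorphismProperty

namespace Groth.Agent.Lib.H5bFQ4

open AlgSp

variable {S : Scheme.{u}}

/-- `QuasiCompact` descends along surjective flat morphisms locally of finite presentation. -/
instance descendsAlong_quasiCompact :
    DescendsAlong @QuasiCompact (@Surjective ⊓ @Flat ⊓ @QuasiCompact : MorphismProperty Scheme.{u}) where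
  of_isPullback {A X Y Z fst snd f g} sq hf hfst := by
    haveI : Surjective f := hf.1.1
    haveI : QuasiCompact f := hf.2
    haveI : QuasiCompact fst := hfst
    haveI : Surjective snd := MorphismProperty.of_isPullback (P := @Surjective) sq ‹Surjective f›
    have h : QuasiCompact (snd ≫ g) := by rw [← sq.w]; infer_instance
    exact Groth.Agent.Lib.H5bFQ2.quasiCompact_of_surjective_comp snd g h

/-- quasi-compactness of `g : h_T ⟶ X` can be tested on the base change to one étale atlas. -/
theorem repWith_quasiCompact_of_atlas {X : Sp S} {U₀ T₀ E : Over S} (a : (yon S).obj U₀ ⟶ X)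
    (hae : RepWith @Etale a) (has : RepWith @Surjective a) (g : (yon S).obj T₀ ⟶ X)
    (hg : Representable g) (e₁ : (yon S).obj E ⟶ (yon S).obj T₀) (e₂ : E ⟶ U₀)
    (sqE : IsPullback e₁ ((yon S).map e₂) g a) (hqc : QuasiCompact e₂.left) :
    RepWith @QuasiCompact g := by
  refine ⟨hg, fun Z W h fst snd sq => ?_⟩
  have ha := hae.1
  have sqZ := ha.isPullback h
  haveI : Etale (ha.snd h).left := hae.2 _ _ _ sqZ
  haveI : Surjective (ha.snd h).left := has.2 _ _ _ sqZ
  -- `W' = W ×_Z Z'`
  have sqA : IsPullback ((yon S).map (pullback.fst snd (ha.snd h)))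
      ((yon S).map (pullback.snd snd (ha.snd h))) ((yon S).map snd) ((yon S).map (ha.snd h)) :=
    (IsPullback.of_hasPullback snd (ha.snd h)).map (yon S)
  have sqAB := sqA.paste_horiz sq
  rw [← ha.w] at sqAB
  -- the map to `E`
  have hcomm : ((yon S).map (pullback.fst snd (ha.snd h)) ≫ fst) ≫ g =
      ((yon S).map (pullback.snd snd (ha.snd h)) ≫ ha.fst h) ≫ a := by
    rw [Category.assoc, Category.assoc]; exact sqAB.w
  have sqD : IsPullback (sqE.lift _ _ hcomm) ((yon S).map (pullback.snd snd (ha.snd h)))
      ((yon S).map e₂) (ha.fst h) := by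
    refine IsPullback.of_right ?_ (sqE.lift_snd _ _ hcomm) sqE
    rw [sqE.lift_fst]
    exact sqAB
  have hrq : RepWith @QuasiCompact ((yon S).map e₂) := (repWith_yon_map_iff _ _).2 hqc
  haveI : QuasiCompact (pullback.snd snd (ha.snd h)).left := hrq.2 _ _ _ sqD
  -- descent
  have s1 : IsPullback (pullback.snd snd (ha.snd h)).left (pullback.fst snd (ha.snd h)).left
      (ha.snd h).left snd.left := ((IsPullback.of_hasPullback snd (ha.snd h)).map (Over.forget S)).flip
  have hfl : Flat (ha.snd h).left := inferInstance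
  have hlfp : LocallyOfFinitePresentation (ha.snd h).left := inferInstance
  have hsj : Surjective (ha.snd h).left := inferInstance
  have hQ : (@Surjective ⊓ @Flat ⊓ @LocallyOfFinitePresentation : MorphismProperty Scheme.{u})
      (ha.snd h).left := ⟨⟨hsj, hfl⟩, hlfp⟩
  exact MorphismProperty.of_isPullback_of_descendsAlong (P := @QuasiCompact)
    (Q := @Surjective ⊓ @Flat ⊓ @LocallyOfFinitePresentation) s1 hQ
    ‹QuasiCompact (pullback.snd snd (ha.snd h)).left›

/-- quasi-compactness of `g : h_T ⟶ X` can be tested on affine étale charts. -/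
theorem repWith_quasiCompact_of_charts {X : Sp S} (hX : IsAlgSpace X) {T₀ : Over S}
    (g : (yon S).obj T₀ ⟶ X)
    (H : ∀ (U : Over S) (φ : (yon S).obj U ⟶ X), IsAffine U.left → RepWith @Etale φ →
      ∀ (T : Over S) (c : T ⟶ T₀) (d : T ⟶ U), IsPullback ((yon S).map c) ((yon S).map d) g φ →
        CompactSpace ↥T.left) : RepWith @QuasiCompact g := by
  obtain ⟨U₀, a, hae, has⟩ := hX.atlas
  have hg := hX.representable_from_yon g
  have sqE := hg.isPullback' a
  refine repWith_quasiCompact_of_atlas a hae has g hg _ _ sqE ?_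
  rw [quasiCompact_iff_forall_isAffineOpen]
  intro W hW
  let Wo : Over S := Over.mk (W.ι ≫ U₀.hom)
  let w : Wo ⟶ U₀ := Over.homMk W.ι rfl
  have hwe : RepWith @Etale ((yon S).map w) := (repWith_yon_map_iff _ _).2
    (by change Etale W.ι; infer_instance)
  have hφ : RepWith @Etale ((yon S).map w ≫ a) := (RepWith @Etale).comp_mem _ _ hwe hae
  have sq1 : IsPullback ((yon S).map (pullback.fst (hg.snd a) w))
      ((yon S).map (pullback.snd (hg.snd a) w)) ((yon S).map (hg.snd a)) ((yon S).map w) :=
    (IsPullback.of_hasPullback (hg.snd a) w).map (yon S)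
  have sq2 := sq1.paste_horiz sqE
  rw [← Functor.map_comp] at sq2
  haveI : CompactSpace ↥(pullback (hg.snd a) w).left := H Wo _ hW hφ _ _ _ sq2
  have s1 : IsPullback (pullback.fst (hg.snd a) w).left (pullback.snd (hg.snd a) w).left
      (hg.snd a).left w.left := (IsPullback.of_hasPullback (hg.snd a) w).map (Over.forget S)
  have hrange : ((hg.snd a).left ⁻¹ᵁ W : Set ↥(hg.pullback a).left) =
      Set.range (pullback.fst (hg.snd a) w).left := by
    ext x
    constructor
    · intro hx
      obtain ⟨y, hy, -⟩ := Groth.Agent.Lib.Helper12.exists_preimage_of_isPullback s1 x ⟨_, hx⟩ rfl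
      exact ⟨y, hy⟩
    · rintro ⟨y, rfl⟩
      change (hg.snd a).left ((pullback.fst (hg.snd a) w).left y) ∈ W
      rw [← Scheme.Hom.comp_apply, s1.w, Scheme.Hom.comp_apply]
      exact ((pullback.snd (hg.snd a) w).left y).2
  rw [hrange]
  exact isCompact_range (pullback.fst (hg.snd a) w).left.continuous

end Groth.Agent.Lib.H5bFQ4
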