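import Mathlib
import Groth.Agent.Lib.H9FibGeomRk
import Groth.Agent.Lib.Helper28FormalFibres
import Groth.Agent.Lib.Helper6SepBC
import Groth.Agent.Lib.Helper5TensorSk
import Groth.Agent.Lib.Helper5CodepthFib
import Groth.Agent.S0386

/-! EGA IV 12.1.6 continued: geometric (R_k) + (S_{k+1}) of the fibres is open for flat LFP morphisms (`isOpen_geomRk_sk`), and for LFP morphisms together with flatness at the point (`isOpen_flatAt_geomRk_sk`); consequences: geometric normality (`isOpen_flatAt_geomNormalFib`, `isOpen_geomNormalFib`) and geometric reducedness (`isOpen_flatAt_geomReducedFib`, `isOpen_geomReducedFib`) of fibres are open. Tools: `hasSk_localization_iff_of_height_eq` ((S_n) transfer along flat maps with 0-dimensional fibres), `geomSk_iff`, `geomNormal_iff` (geom. normal at a point = geometric R_1 + S_2), `geomReduced_iff` (= geometric R_0 + S_1), `goodRkS_iff`, `geomRkFib_openImmersion`, `hasSk_fib_openImmersion`. -/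

set_option autoImplicit false
set_option linter.style.haveILetI false
set_option linter.unusedSimpArgs false
set_option linter.unusedVariables false
universe u

namespace Groth.Agent.Lib.H9FibGeomNormal

open Groth.Agent.Lib.H9FibGeomRk

-- ===== part NsG =====
section

open AlgebraicGeometry CategoryTheory Limits IsLocalRing TensorProduct Topology
open Groth.Agent.Lib.Helper28

section Alg

variable {A B : Type u} [CommRing A] [CommRing B] [IsNoetherianRing A] [IsNoetherianRing B]
  [Algebra A B] [Module.Flat A B]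

/-- for a flat map of Noetherian rings whose fibres are zero-dimensional at `Q`, the depths of
`B_Q` and of `A_{Q ∩ A}` agree. -/
theorem depth_eq_of_height_eq (Q : Ideal B) [Q.IsPrime]
    (hQ : Q.height = (Q.comap (algebraMap A B)).height) :
    LocCoh.depth (Localization.AtPrime Q) (Localization.AtPrime Q) =
      LocCoh.depth (Localization.AtPrime (Q.comap (algebraMap A B)))
        (Localization.AtPrime (Q.comap (algebraMap A B))) := by
  haveI hloc := isLocalRing_fibLocRing (A := A) Q
  haveI hN : IsNoetherianRing (EGA4.FibLocRing A B Q) := by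
    unfold EGA4.FibLocRing
    infer_instance
  have h1 := height_eq_height_fibLocRing_add (A := A) Q
  have h2 := depth_localization_eq_add_fibLocRing (A := A) Q
  have hfin : (Q.comap (algebraMap A B)).height ≠ ⊤ := Ideal.height_ne_top_of_isPrime
  have h0 : (maximalIdeal (EGA4.FibLocRing A B Q)).height = 0 := by
    rw [hQ] at h1
    have h3 : 0 + (Q.comap (algebraMap A B)).height =
        (maximalIdeal (EGA4.FibLocRing A B Q)).height + (Q.comap (algebraMap A B)).height := by
      rw [zero_add]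
      exact h1
    exact ((ENat.add_left_injective_of_ne_top hfin) h3).symm
  have hd0 : LocCoh.depth (EGA4.FibLocRing A B Q) (EGA4.FibLocRing A B Q) = 0 := by
    have h4 := depth_le_supportDim (R := EGA4.FibLocRing A B Q) (M := EGA4.FibLocRing A B Q)
    rw [Module.supportDim_self_eq_ringKrullDim,
      ← IsLocalRing.maximalIdeal_height_eq_ringKrullDim, h0] at h4
    have h5 : LocCoh.depth (EGA4.FibLocRing A B Q) (EGA4.FibLocRing A B Q) ≤ 0 :=
      WithBot.coe_le_coe.mp h4
    exact nonpos_iff_eq_zero.mp h5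
  rw [h2, hd0, add_zero]

/-- `(S_n)` transfers both ways between `A_q` and `B_Q` along a flat map whose fibres are
zero-dimensional. -/
theorem hasSk_localization_iff_of_height_eq (n : ℕ)
    (hht : ∀ (Q : Ideal B) [Q.IsPrime], Q.height = (Q.comap (algebraMap A B)).height)
    (Q : Ideal B) [Q.IsPrime] :
    LocCoh.HasSk n (Localization.AtPrime Q) (Localization.AtPrime Q) ↔
      LocCoh.HasSk n (Localization.AtPrime (Q.comap (algebraMap A B)))
        (Localization.AtPrime (Q.comap (algebraMap A B))) := by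
  rw [hasSk_localization_atPrime_iff, hasSk_localization_atPrime_iff]
  constructor
  · intro h p hp hpq
    haveI : Q.LiesOver (Q.comap (algebraMap A B)) := ⟨rfl⟩
    obtain ⟨Q', hQ'Q, hQ'p, hQ'over⟩ :=
      Ideal.exists_ideal_le_liesOver_of_le (p := p) (q := Q.comap (algebraMap A B)) Q hpq
    have hcomap : Q'.comap (algebraMap A B) = p := hQ'over.over.symm
    have h1 := h Q' hQ'Q
    rw [hht Q', depth_eq_of_height_eq Q' (hht Q')] at h1
    have e1 : (Q'.comap (algebraMap A B)).height = p.height := by rw [hcomap]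
    rw [e1, depth_self_congr_ideal hcomap] at h1
    exact h1
  · intro h Q' hQ' hQ'Q
    have h1 := h (Q'.comap (algebraMap A B)) (Ideal.comap_mono hQ'Q)
    rw [hht Q', depth_eq_of_height_eq Q' (hht Q')]
    exact h1

end Alg

section Sch

open Groth.Agent.Lib.Helper6.BcBridge Groth.Agent.Lib.Helper6.BcAlg Groth.Agent.Lib.Helper6.BcGeom
open Groth.Agent.Lib.Helper5.TensorSk

variable (k : Type u) [Field k] (X : Scheme.{u}) [X.Over (Spec (CommRingCat.of k))]
  [LocallyOfFinitePresentation (X ↘ Spec (CommRingCat.of k))]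

set_option synthInstance.maxHeartbeats 400000 in
set_option maxHeartbeats 1600000 in
/-- **geometric `(S_n)` at a point** (tested on finite extensions) is `(S_n)` at the point. -/
theorem geomSk_iff (n : ℕ) (x : X) :
    (∀ (K : Type u) [Field K] [Algebra k K], Module.Finite k K →
      ∀ x' : Curv2.bc k X K, Curv2.bcFst k X K x' = x →
        LocCoh.HasSk n ((Curv2.bc k X K).presheaf.stalk x')
          ((Curv2.bc k X K).presheaf.stalk x')) ↔
      LocCoh.HasSk n (X.presheaf.stalk x) (X.presheaf.stalk x) := by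
  haveI : IsLocallyNoetherian X :=
    LocallyOfFiniteType.isLocallyNoetherian (X ↘ Spec (CommRingCat.of k))
  obtain ⟨R, _, _, ι, _, hι, q₀, rfl⟩ := exists_chart k X x
  haveI hfpR : Algebra.FinitePresentation k R := by
    have h1 : LocallyOfFinitePresentation (ι ≫ (X ↘ Spec (CommRingCat.of k))) := inferInstance
    rw [hι, LocallyOfFinitePresentation.SpecMap_iff, CommRingCat.hom_ofHom,
      RingHom.finitePresentation_algebraMap] at h1
    exact h1
  haveI : IsNoetherianRing R := Algebra.FiniteType.isNoetherianRing k R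
  haveI : IsNoetherianRing (Localization.AtPrime q₀.asIdeal) :=
    IsLocalization.isNoetherianRing q₀.asIdeal.primeCompl _ inferInstance
  have key : ∀ (K : Type u) [Field K] [Algebra k K], Module.Finite k K →
      ∀ Q : PrimeSpectrum (R ⊗[k] K),
        PrimeSpectrum.comap (Algebra.TensorProduct.includeLeftRingHom) Q = q₀ →
        (LocCoh.HasSk n (Localization.AtPrime Q.asIdeal) (Localization.AtPrime Q.asIdeal) ↔
          LocCoh.HasSk n (Localization.AtPrime q₀.asIdeal) (Localization.AtPrime q₀.asIdeal)) := by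
    intro K _ _ hfin Q hQ
    haveI := hfin
    haveI : IsNoetherianRing (R ⊗[k] K) := IsNoetherianRing.of_finite R (R ⊗[k] K)
    have h1 := hasSk_localization_iff_of_height_eq (A := R) (B := R ⊗[k] K) n
      (fun Q' _ => Groth.Agent.Lib.H5bEtLocal.height_eq_height_under (A := R) Q') Q.asIdeal
    have hq : Q.asIdeal.comap (algebraMap R (R ⊗[k] K)) = q₀.asIdeal :=
      congrArg PrimeSpectrum.asIdeal hQ
    refine h1.trans ?_
    constructor
    · intro h
      exact hasSk_self_of_ringEquiv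
        (Localization.localRingEquiv _ q₀.asIdeal (RingEquiv.refl R) (by
          rw [hq]; ext; simp)) n h
    · intro h
      exact hasSk_self_of_ringEquiv
        (Localization.localRingEquiv q₀.asIdeal _ (RingEquiv.refl R) (by
          rw [hq]; ext; simp)) n h
  haveI : IsNoetherianRing (X.presheaf.stalk (ι q₀)) :=
    isNoetherianRing_of_ringEquiv _ (stalkEquivSpec ι q₀).symm
  constructor
  · intro h
    obtain ⟨Q, hQ⟩ := PrimeSpectrum.comap_surjective_of_faithfullyFlat
      (A := R) (B := R ⊗[k] k) q₀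
    have hfin : Module.Finite k k := inferInstance
    obtain ⟨x'', hx'', ⟨e''⟩⟩ := exists_point_of_prime_left k X k ι hι Q
    have hQ' : PrimeSpectrum.comap (Algebra.TensorProduct.includeLeftRingHom) Q = q₀ := hQ
    rw [hQ'] at hx''
    have h1 := h k hfin x'' hx''
    haveI : IsNoetherianRing (R ⊗[k] k) := IsNoetherianRing.of_finite R (R ⊗[k] k)
    haveI : IsNoetherianRing (Localization.AtPrime Q.asIdeal) :=
      IsLocalization.isNoetherianRing Q.asIdeal.primeCompl _ inferInstance
    haveI : IsNoetherianRing ((Curv2.bc k X k).presheaf.stalk x'') :=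
      isNoetherianRing_of_ringEquiv _ e''.symm
    have h2 := hasSk_self_of_ringEquiv e'' n h1
    have h3 := (key k hfin Q hQ').mp h2
    exact hasSk_self_of_ringEquiv (stalkEquivSpec ι q₀).symm n h3
  · intro h K _ _ hfin x' hx'
    haveI := hfin
    obtain ⟨Q, hQ, ⟨e⟩⟩ := exists_prime_of_point_left k X K ι hι x' q₀ hx'.symm
    haveI : IsNoetherianRing (R ⊗[k] K) := IsNoetherianRing.of_finite R (R ⊗[k] K)
    haveI : IsNoetherianRing (Localization.AtPrime Q.asIdeal) :=
      IsLocalization.isNoetherianRing Q.asIdeal.primeCompl _ inferInstance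
    haveI : IsNoetherianRing ((Curv2.bc k X K).presheaf.stalk x') :=
      isNoetherianRing_of_ringEquiv _ e.symm
    have h3 := hasSk_self_of_ringEquiv (stalkEquivSpec ι q₀) n h
    have h2 := (key K hfin Q hQ).mpr h3
    exact hasSk_self_of_ringEquiv e.symm n h2

set_option synthInstance.maxHeartbeats 400000 in
/-- stalks of finite base changes are Noetherian. -/
theorem isNoetherianRing_stalk_bc (K : Type u) [Field K] [Algebra k K] [Module.Finite k K]
    (x' : Curv2.bc k X K) : IsNoetherianRing ((Curv2.bc k X K).presheaf.stalk x') := by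
  obtain ⟨R, _, _, ι, _, hι, q₀, hq₀⟩ := exists_chart k X (Curv2.bcFst k X K x')
  haveI hfpR : Algebra.FinitePresentation k R := by
    have h1 : LocallyOfFinitePresentation (ι ≫ (X ↘ Spec (CommRingCat.of k))) := inferInstance
    rw [hι, LocallyOfFinitePresentation.SpecMap_iff, CommRingCat.hom_ofHom,
      RingHom.finitePresentation_algebraMap] at h1
    exact h1
  haveI : IsNoetherianRing R := Algebra.FiniteType.isNoetherianRing k R
  obtain ⟨Q, hQ, ⟨e⟩⟩ := exists_prime_of_point_left k X K ι hι x' q₀ hq₀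
  haveI : IsNoetherianRing (R ⊗[k] K) := IsNoetherianRing.of_finite R (R ⊗[k] K)
  haveI : IsNoetherianRing (Localization.AtPrime Q.asIdeal) :=
    IsLocalization.isNoetherianRing Q.asIdeal.primeCompl _ inferInstance
  exact isNoetherianRing_of_ringEquiv _ e.symm

/-- Serre's criterion for a Noetherian local ring. -/
theorem normal_iff_hasRk_one_and_hasSk_two (T : Type u) [CommRing T] [IsLocalRing T]
    [IsNoetherianRing T] :
    (IsDomain T ∧ IsIntegrallyClosed T) ↔ (LocCoh.HasRk 1 T ∧ LocCoh.HasSk 2 T T) := by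
  rw [← forall_isIntegrallyClosed_localization_iff_hasRk_one_and_hasSk_two]
  constructor
  · rintro ⟨h1, h2⟩
    exact Groth.Agent.Lib.Helper6.SepBC.isNormalRing_of_normal T
  · intro h
    exact Groth.Agent.Lib.Helper6.SepBC.normal_of_isNormalRing T h

/-- **geometric normality at a point** is geometric `(R_1)` and `(S_2)`. -/
theorem geomNormal_iff (x : X) :
    (∀ (K : Type u) [Field K] [Algebra k K], Module.Finite k K →
      ∀ x' : Curv2.bc k X K, Curv2.bcFst k X K x' = x →
        IsDomain ((Curv2.bc k X K).presheaf.stalk x') ∧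
          IsIntegrallyClosed ((Curv2.bc k X K).presheaf.stalk x')) ↔
      GeomRk k X 1 x ∧ LocCoh.HasSk 2 (X.presheaf.stalk x) (X.presheaf.stalk x) := by
  rw [← geomSk_iff k X 2 x]
  constructor
  · intro h
    refine ⟨fun K _ _ hK x' hx' => ?_, fun K _ _ hK x' hx' => ?_⟩
    · haveI := hK
      haveI := isNoetherianRing_stalk_bc k X K x'
      exact ((normal_iff_hasRk_one_and_hasSk_two _).mp (h K hK x' hx')).1
    · haveI := hK
      haveI := isNoetherianRing_stalk_bc k X K x'
      exact ((normal_iff_hasRk_one_and_hasSk_two _).mp (h K hK x' hx')).2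
  · rintro ⟨h1, h2⟩ K _ _ hK x' hx'
    haveI := hK
    haveI := isNoetherianRing_stalk_bc k X K x'
    exact (normal_iff_hasRk_one_and_hasSk_two _).mpr ⟨h1 K hK x' hx', h2 K hK x' hx'⟩

/-- **geometric reducedness at a point** is geometric `(R_0)` and `(S_1)`. -/
theorem geomReduced_iff (x : X) :
    Curv2.IsGeomReducedAt k X x ↔
      GeomRk k X 0 x ∧ LocCoh.HasSk 1 (X.presheaf.stalk x) (X.presheaf.stalk x) := by
  rw [← geomSk_iff k X 1 x]
  constructor
  · intro h
    refine ⟨fun K _ _ hK x' hx' => ?_, fun K _ _ hK x' hx' => ?_⟩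
    · haveI := hK
      haveI := isNoetherianRing_stalk_bc k X K x'
      haveI := h K x' hx'
      exact (isReduced_iff_hasRk_zero_and_hasSk_one.mp inferInstance).1
    · haveI := hK
      haveI := isNoetherianRing_stalk_bc k X K x'
      haveI := h K x' hx'
      exact (isReduced_iff_hasRk_zero_and_hasSk_one.mp inferInstance).2
  · rintro ⟨h1, h2⟩
    haveI := Groth.Agent.Lib.Helper6.BcRed.isGeometricallyReduced_stalk_of_purelyInseparable k X x
      (fun k' _ _ hfin _ x' hx' => by
        haveI := isNoetherianRing_stalk_bc k X k' x'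
        exact isReduced_iff_hasRk_zero_and_hasSk_one.mpr
          ⟨h1 k' inferInstance x' hx', h2 k' inferInstance x' hx'⟩)
    exact Groth.Agent.Lib.Helper6.BcRed.isGeomReducedAt_of_isGeometricallyReduced_stalk k X x

end Sch

end

-- ===== part NsH =====
section

open AlgebraicGeometry CategoryTheory Limits IsLocalRing TensorProduct Topology
open Groth.Agent.Lib.Helper28 Groth.Agent.Lib.Helper5 Groth.Agent.Lib.Helper5.GenDepth
open Groth.Agent.Lib.H9ModFibAlg Groth.Agent.Lib.H9ModFibSch
open Groth.Agent.Lib.H9RectDepthAlg Groth.Agent.Lib.H9RectDepthSch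
open Groth.Agent.Lib.H9FibNumerics Groth.Agent.Lib.H9FibNumericsSch
open Groth.Agent.Lib.H9FibSkEquidim
open Groth.Agent.Lib.Helper5.FibSmConstr

section Pointwise

variable {A B : Type u} [CommRing A] [CommRing B] [Algebra A B] [Algebra.FiniteType A B]

/-- geometric `(R_k)` and `(S_{k+1})` of the fibre at a prime `q`, numerically. -/
def GoodRkS (A : Type u) {B : Type u} [CommRing A] [CommRing B] [Algebra A B] (k : ℕ)
    (q : PrimeSpectrum B) : Prop :=
  (∀ (z : Ideal B) [z.IsPrime], z ≤ q.asIdeal → z.under A = q.asIdeal.under A →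
      min (((k + 1 : ℕ) : ℕ) : WithBot ℕ∞) (fdm A B z) ≤ ((fdep A B z : ℕ∞) : WithBot ℕ∞)) ∧
  (∀ (z : Ideal B) [hz : z.IsPrime], z ≤ q.asIdeal → z.under A = q.asIdeal.under A →
      fdm A B z ≤ ((k : ℕ) : WithBot ℕ∞) → (⟨z, hz⟩ : PrimeSpectrum B) ∈ Algebra.smoothLocus A B)

set_option maxHeartbeats 800000 in
theorem goodRkS_iff (k : ℕ) (q : PrimeSpectrum B) :
    GoodRkS A k q ↔ q ∉ Bad A B (ZC True A B) (SSk (k + 1)) ∧
      q ∉ Bad A B (ZC False A B ∩ (Algebra.smoothLocus A B)ᶜ) (SSk (k + 1)) := by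
  haveI := q.2
  have hS : (∀ (z : Ideal B) [z.IsPrime], z ≤ q.asIdeal → z.under A = q.asIdeal.under A →
      min (((k + 1 : ℕ) : ℕ) : WithBot ℕ∞) (fdm A B z) ≤ ((fdep A B z : ℕ∞) : WithBot ℕ∞)) ↔
      q ∉ Bad A B (ZC True A B) (SSk (k + 1)) := by
    constructor
    · rintro h ⟨z, ⟨hzZ, hzS⟩, hzq, hzA⟩
      haveI := z.2
      have h1 := (sk_arith (k + 1) (fdm A B z.asIdeal) (fdep A B z.asIdeal)
        (ftd A z.asIdeal)).mp (h z.asIdeal hzq hzA)
      exact h1 ⟨hzZ, hzS⟩
    · intro h z hz hzq hzA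
      rw [sk_arith (k + 1) (fdm A B z) (fdep A B z) (ftd A z)]
      rintro ⟨h1, h2⟩
      exact h ⟨⟨z, hz⟩, ⟨h1, h2⟩, hzq, hzA⟩
  unfold GoodRkS
  rw [hS]
  refine and_congr_right fun hSk => ?_
  have hSk' := hS.mpr hSk
  have hkk : ∀ d : ℕ∞, d + 1 ≤ ((k + 1 : ℕ) : ℕ∞) ↔ d ≤ (k : ℕ∞) := by
    intro d
    induction d using ENat.recTopCoe with
    | top => simp
    | coe d =>
      have h1 : ((d : ℕ∞) + 1 ≤ ((k + 1 : ℕ) : ℕ∞)) ↔ d + 1 ≤ k + 1 := by exact_mod_cast Iff.rfl
      rw [h1, Nat.cast_le]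
      omega
  constructor
  · rintro h ⟨z, ⟨⟨-, hzns⟩, hzS⟩, hzq, hzA⟩
    haveI := z.2
    apply hzns
    have hd : fdep A B z.asIdeal ≤ (k : ℕ∞) := (hkk _).mp hzS
    refine h z.asIdeal hzq hzA ?_
    have h1 := hSk' z.asIdeal hzq hzA
    rw [min_le_iff] at h1
    have hd' : ((fdep A B z.asIdeal : ℕ∞) : WithBot ℕ∞) ≤ ((k : ℕ) : WithBot ℕ∞) := by
      have : ((k : ℕ) : WithBot ℕ∞) = (((k : ℕ) : ℕ∞) : WithBot ℕ∞) := rfl
      rw [this]
      exact WithBot.coe_le_coe.mpr hd
    rcases h1 with h1 | h1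
    · exfalso
      have h2 := h1.trans hd'
      have h3 : (((k + 1 : ℕ) : ℕ∞) : WithBot ℕ∞) ≤ (((k : ℕ) : ℕ∞) : WithBot ℕ∞) := h2
      have h4 := WithBot.coe_le_coe.mp h3
      have h5 : k + 1 ≤ k := by exact_mod_cast h4
      omega
    · exact h1.trans hd'
  · intro h z hz hzq hzA hle
    by_contra hns
    apply h
    refine ⟨⟨z, hz⟩, ⟨⟨fun hf => hf.elim, hns⟩, ?_⟩, hzq, hzA⟩
    change fdep A B z + 1 ≤ ((k + 1 : ℕ) : ℕ∞)
    rw [hkk]
    obtain ⟨-, h1⟩ := fdep_le_fdm (A := A) B z (fdm_self_ne_bot z)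
    have h2 := h1.trans hle
    have h3 : ((fdep A B z : ℕ∞) : WithBot ℕ∞) ≤ (((k : ℕ) : ℕ∞) : WithBot ℕ∞) := h2
    exact WithBot.coe_le_coe.mp h3

end Pointwise

section Open

variable {A B : Type u} [CommRing A] [CommRing B] [Algebra A B]
  [Algebra.FinitePresentation A B] [Module.Flat A B]

/-- **openness of geometric `(R_k)` + `(S_{k+1})` (algebraic form)**. -/
theorem isOpen_goodRkS (k : ℕ) : IsOpen {q : PrimeSpectrum B | GoodRkS A k q} := by
  have h1 := (isClosed_bad_fp True (sDown_SSk (k + 1)) (sFin_SSk (k + 1)) (A := A) (B := B)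
    B).isOpen_compl
  have h3 := (isClosed_bad_fp_ns False (sDown_SSk (k + 1)) (sFin_SSk (k + 1)) (A := A)
      (B := B)).isOpen_compl
  convert h1.inter h3 using 1
  ext q
  simp only [Set.mem_ofPred_eq, Set.mem_inter_iff, Set.mem_compl_iff]
  exact goodRkS_iff k q

end Open

section Sch

variable {X Y : Scheme.{u}} (f : X ⟶ Y)

section Chart

variable {U : X.Opens} (hU : IsAffineOpen U) {V : Y.Opens} (hV : IsAffineOpen V)
  (hUV : U ≤ f ⁻¹ᵁ V)

include hV in
theorem hasSk_stalk_chart (hft : (f.appLE V U hUV).hom.FiniteType) (n : ℕ)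
    (x : X) (hxU : x ∈ U) :
    letI : Algebra Γ(Y, V) Γ(X, U) := (f.appLE V U hUV).hom.toAlgebra
    LocCoh.HasSk n ((f.fiber (f.base x)).presheaf.stalk (f.asFiber x))
        ((f.fiber (f.base x)).presheaf.stalk (f.asFiber x)) ↔
      ∀ (z : Ideal Γ(X, U)) [z.IsPrime], z ≤ (hU.primeIdealOf ⟨x, hxU⟩).asIdeal →
        z.under Γ(Y, V) = (hU.primeIdealOf ⟨x, hxU⟩).asIdeal.under Γ(Y, V) →
        min ((n : ℕ) : WithBot ℕ∞) (fdm Γ(Y, V) Γ(X, U) z) ≤
          ((fdep Γ(Y, V) Γ(X, U) z : ℕ∞) : WithBot ℕ∞) := by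
  letI aVU : Algebra Γ(Y, V) Γ(X, U) := (f.appLE V U hUV).hom.toAlgebra
  haveI : Algebra.FiniteType Γ(Y, V) Γ(X, U) := hft
  exact (SemiInv.fiber_ring_dict f hU hV hUV (semiInv_hasSk n) hft x hxU).trans
    (alg_hasSk_iff Γ(X, U) n _)

include hV in
theorem goodRkS_chart [LocallyOfFinitePresentation f] [Flat f]
    (hft : (f.appLE V U hUV).hom.FiniteType) (k : ℕ) (x : X) (hxU : x ∈ U) :
    letI : Algebra Γ(Y, V) Γ(X, U) := (f.appLE V U hUV).hom.toAlgebra
    (GeomRkFib f k x ∧
      LocCoh.HasSk (k + 1) ((f.fiber (f.base x)).presheaf.stalk (f.asFiber x))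
        ((f.fiber (f.base x)).presheaf.stalk (f.asFiber x))) ↔
      GoodRkS Γ(Y, V) k (hU.primeIdealOf ⟨x, hxU⟩) := by
  letI aVU : Algebra Γ(Y, V) Γ(X, U) := (f.appLE V U hUV).hom.toAlgebra
  have e1 := geomRkFib_chart f hU hV hUV hft k x hxU
  have e2 := hasSk_stalk_chart f hU hV hUV hft (k + 1) x hxU
  unfold GoodRkS
  constructor
  · rintro ⟨a, b⟩
    exact ⟨e2.mp b, e1.mp a⟩
  · rintro ⟨b, a⟩
    exact ⟨e1.mpr a, e2.mpr b⟩

end Chart

set_option synthInstance.maxHeartbeats 400000 in
set_option maxHeartbeats 1600000 in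
/-- **EGA IV 12.1.6 (second form)**: geometric `(R_k)` and `(S_{k+1})` of the fibres is an open
condition for flat morphisms locally of finite presentation. -/
theorem isOpen_geomRk_sk [Flat f] [LocallyOfFinitePresentation f] (k : ℕ) :
    IsOpen {x : X | GeomRkFib f k x ∧
      LocCoh.HasSk (k + 1) ((f.fiber (f.base x)).presheaf.stalk (f.asFiber x))
        ((f.fiber (f.base x)).presheaf.stalk (f.asFiber x))} := by
  rw [isOpen_iff_forall_mem_open]
  intro x hx
  obtain ⟨U, hU, V, hV, hUV, hxU, hfp⟩ := exists_chart_ring f x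
  letI aVU : Algebra Γ(Y, V) Γ(X, U) := (f.appLE V U hUV).hom.toAlgebra
  haveI : Algebra.FinitePresentation Γ(Y, V) Γ(X, U) := hfp
  haveI : Module.Flat Γ(Y, V) Γ(X, U) :=
    HasRingHomProperty.appLE (P := @Flat) f inferInstance ⟨V, hV⟩ ⟨U, hU⟩ hUV
  have hft : (f.appLE V U hUV).hom.FiniteType := RingHom.FiniteType.of_finitePresentation hfp
  have hopen := isOpen_goodRkS (A := Γ(Y, V)) (B := Γ(X, U)) k
  set W : Set X := Subtype.val '' ((fun y : U => hU.primeIdealOf y) ⁻¹'
    {q | GoodRkS Γ(Y, V) k q}) with hW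
  have hWopen : IsOpen W := by
    apply U.isOpen.isOpenMap_subtype_val
    exact hopen.preimage hU.isoSpec.hom.continuous
  refine ⟨W, ?_, hWopen, ?_⟩
  · rintro _ ⟨⟨x', hx'U⟩, hx', rfl⟩
    exact (goodRkS_chart f hU hV hUV hft k x' hx'U).mpr hx'
  · exact ⟨⟨x, hxU⟩, (goodRkS_chart f hU hV hUV hft k x hxU).mp hx, rfl⟩

end Sch

end

-- ===== part NsI =====
section

open AlgebraicGeometry CategoryTheory Limits IsLocalRing TensorProduct Topology
open Groth.Agent.Lib.Helper28 Groth.Agent.Lib.Helper5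
open Groth.Agent.Lib.H9ModFibAlg Groth.Agent.Lib.H9ModFibSch
open Groth.Agent.Lib.H9FibNumerics Groth.Agent.Lib.H9FibNumericsSch
open Groth.Agent.Lib.H9FibSkEquidim
open Groth.Agent.Lib.Helper5.FibSmConstr Groth.Agent.Lib.Helper5.FiberMor
open Groth.Agent.Lib.Helper5.CodepthFib Groth.Agent.Lib.Helper5.TensorSk

variable {X Y : Scheme.{u}} (f : X ⟶ Y)

/-- geometric normality of the fibre at a point, as in the statements. -/
def GeomNormalFib (x : X) : Prop :=
  ∀ (K : Type u) [Field K] [Algebra (IsLocalRing.ResidueField (Y.presheaf.stalk (f.base x))) K],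
    Module.Finite (IsLocalRing.ResidueField (Y.presheaf.stalk (f.base x))) K →
    ∀ x' : ↥(FBase.bc (f.fiberToSpecResidueField (f.base x)) K),
      (FBase.bcπ (f.fiberToSpecResidueField (f.base x)) K).base x' = f.asFiber x →
      IsDomain ((FBase.bc (f.fiberToSpecResidueField (f.base x)) K).presheaf.stalk x') ∧
        IsIntegrallyClosed ((FBase.bc (f.fiberToSpecResidueField (f.base x)) K).presheaf.stalk x')

theorem geomNormalFib_iff [LocallyOfFinitePresentation f] (x : X) :
    GeomNormalFib f x ↔ GeomRkFib f 1 x ∧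
      LocCoh.HasSk 2 ((f.fiber (f.base x)).presheaf.stalk (f.asFiber x))
        ((f.fiber (f.base x)).presheaf.stalk (f.asFiber x)) := by
  letI : (f.fiber (f x)).Over (Spec (CommRingCat.of (IsLocalRing.ResidueField
      (Y.presheaf.stalk (f.base x))))) := ⟨f.fiberToSpecResidueField (f x)⟩
  haveI : LocallyOfFinitePresentation ((f.fiber (f x)) ↘ Spec (CommRingCat.of
      (IsLocalRing.ResidueField (Y.presheaf.stalk (f.base x))))) :=
    lfp_fiberToSpecResidueField f (f x)
  have h0 := geomNormal_iff (IsLocalRing.ResidueField (Y.presheaf.stalk (f.base x)))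
    (f.fiber (f x)) (f.asFiber x)
  have h1 : GeomNormalFib f x ↔ (∀ (K : Type u) [Field K]
      [Algebra (IsLocalRing.ResidueField (Y.presheaf.stalk (f.base x))) K],
      Module.Finite (IsLocalRing.ResidueField (Y.presheaf.stalk (f.base x))) K →
      ∀ x' : Curv2.bc (IsLocalRing.ResidueField (Y.presheaf.stalk (f.base x))) (f.fiber (f x)) K,
        Curv2.bcFst (IsLocalRing.ResidueField (Y.presheaf.stalk (f.base x))) (f.fiber (f x)) K x' =
          f.asFiber x →
        IsDomain ((Curv2.bc (IsLocalRing.ResidueField (Y.presheaf.stalk (f.base x)))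
          (f.fiber (f x)) K).presheaf.stalk x') ∧
          IsIntegrallyClosed ((Curv2.bc (IsLocalRing.ResidueField (Y.presheaf.stalk (f.base x)))
            (f.fiber (f x)) K).presheaf.stalk x')) :=
    ⟨fun h K _ _ hK y hy => h K hK y hy, fun h K _ _ hK y hy => h K hK y hy⟩
  have h2 : GeomRkFib f 1 x ↔ GeomRk (IsLocalRing.ResidueField (Y.presheaf.stalk (f.base x)))
      (f.fiber (f x)) 1 (f.asFiber x) :=
    ⟨fun h K _ _ hK y hy => h K hK y hy, fun h K _ _ hK y hy => h K hK y hy⟩
  rw [h1, h2]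
  exact h0

theorem geomReducedFib_iff [LocallyOfFinitePresentation f] (x : X) :
    FBase.IsGeomReducedAt (f.fiberToSpecResidueField (f.base x)) (f.asFiber x) ↔
      GeomRkFib f 0 x ∧
      LocCoh.HasSk 1 ((f.fiber (f.base x)).presheaf.stalk (f.asFiber x))
        ((f.fiber (f.base x)).presheaf.stalk (f.asFiber x)) := by
  letI : (f.fiber (f x)).Over (Spec (CommRingCat.of (IsLocalRing.ResidueField
      (Y.presheaf.stalk (f.base x))))) := ⟨f.fiberToSpecResidueField (f x)⟩
  haveI : LocallyOfFinitePresentation ((f.fiber (f x)) ↘ Spec (CommRingCat.of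
      (IsLocalRing.ResidueField (Y.presheaf.stalk (f.base x))))) :=
    lfp_fiberToSpecResidueField f (f x)
  have h0 := geomReduced_iff (IsLocalRing.ResidueField (Y.presheaf.stalk (f.base x)))
    (f.fiber (f x)) (f.asFiber x)
  have h1 : FBase.IsGeomReducedAt (f.fiberToSpecResidueField (f.base x)) (f.asFiber x) ↔
      Curv2.IsGeomReducedAt (IsLocalRing.ResidueField (Y.presheaf.stalk (f.base x)))
        (f.fiber (f x)) (f.asFiber x) :=
    ⟨fun h K _ _ y hy => h K y hy, fun h K _ _ y hy => h K y hy⟩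
  have h2 : GeomRkFib f 0 x ↔ GeomRk (IsLocalRing.ResidueField (Y.presheaf.stalk (f.base x)))
      (f.fiber (f x)) 0 (f.asFiber x) :=
    ⟨fun h K _ _ hK y hy => h K hK y hy, fun h K _ _ hK y hy => h K hK y hy⟩
  rw [h1, h2]
  exact h0

section OpenImm

theorem isoInv_hasSk (n : ℕ) :
    IsoInv.{u} (fun R _ => IsNoetherianRing R ∧ LocCoh.HasSk n R R) := by
  rintro R S _ _ e ⟨h1, h2⟩
  haveI := h1
  haveI : IsNoetherianRing S := isNoetherianRing_of_ringEquiv R e
  exact ⟨inferInstance, hasSk_self_of_ringEquiv e n h2⟩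

theorem isoInv_dim_le (c : WithBot ℕ∞) : IsoInv.{u} (fun R _ => ringKrullDim R ≤ c) := by
  intro R S _ _ e h
  rw [← ringKrullDim_eq_of_ringEquiv e]
  exact h

variable {U : Scheme.{u}} (j : U ⟶ X) [IsOpenImmersion j]

theorem hasSk_fib_openImmersion [LocallyOfFiniteType f] (n : ℕ) (u : U) :
    LocCoh.HasSk n (((j ≫ f).fiber ((j ≫ f).base u)).presheaf.stalk ((j ≫ f).asFiber u))
        (((j ≫ f).fiber ((j ≫ f).base u)).presheaf.stalk ((j ≫ f).asFiber u)) ↔
      LocCoh.HasSk n ((f.fiber (f.base (j.base u))).presheaf.stalk (f.asFiber (j.base u)))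
        ((f.fiber (f.base (j.base u))).presheaf.stalk (f.asFiber (j.base u))) := by
  have h := fiber_stalk_openImmersion_iff f (isoInv_hasSk n) j u
  have n1 := isNoetherianRing_fiber_stalk (j ≫ f) ((j ≫ f).base u) ((j ≫ f).asFiber u)
  have n2 := isNoetherianRing_fiber_stalk f (f.base (j.base u)) (f.asFiber (j.base u))
  constructor
  · intro h1
    exact (h.mp ⟨n1, h1⟩).2
  · intro h1
    exact (h.mpr ⟨n2, h1⟩).2

theorem geomRkFib_openImmersion [LocallyOfFinitePresentation f] (k : ℕ) (u : U) :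
    GeomRkFib (j ≫ f) k u ↔ GeomRkFib f k (j.base u) := by
  rw [geomRkFib_iff, geomRkFib_iff]
  have hl : Lsm (j ≫ f) = j ⁻¹' Lsm f := lsm_openImmersion f j inferInstance
  constructor
  · intro h x' hfx' hspec hdim
    have hx' : x' ∈ Set.range j := hspec.mem_open j.isOpenEmbedding.isOpen_range ⟨u, rfl⟩
    obtain ⟨u', rfl⟩ := hx'
    have h1 := h u' (by
      rw [Scheme.Hom.comp_apply, Scheme.Hom.comp_apply]
      exact hfx') (j.isOpenEmbedding.isInducing.specializes_iff.mp hspec)
      ((fiber_stalk_openImmersion_iff f (isoInv_dim_le k) j u').mpr hdim)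
    rw [hl] at h1
    exact h1
  · intro h u' hfu' hspec hdim
    have h1 := h (j u') (by
      rw [Scheme.Hom.comp_apply, Scheme.Hom.comp_apply] at hfu'
      exact hfu') (hspec.map j.continuous)
      ((fiber_stalk_openImmersion_iff f (isoInv_dim_le k) j u').mp hdim)
    rw [hl]
    exact h1

end OpenImm

section Main

set_option synthInstance.maxHeartbeats 400000 in
/-- **EGA IV 12.1.6, pointwise flat form**: for `f` locally of finite presentation the locus where
`f` is flat and the fibre is geometrically `(R_k)` and `(S_{k+1})` is open. -/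
theorem isOpen_flatAt_geomRk_sk [LocallyOfFinitePresentation f] (k : ℕ) :
    IsOpen {x : X | (f.stalkMap x).hom.Flat ∧ GeomRkFib f k x ∧
      LocCoh.HasSk (k + 1) ((f.fiber (f.base x)).presheaf.stalk (f.asFiber x))
        ((f.fiber (f.base x)).presheaf.stalk (f.asFiber x))} := by
  have hopen := Groth.Agent.S0386.result f
  obtain ⟨U, hU⟩ : ∃ U : X.Opens, (U : Set X) = {x : X | (f.stalkMap x).hom.Flat} :=
    ⟨⟨_, hopen⟩, rfl⟩
  haveI : Flat (U.ι ≫ f) := by
    rw [Flat.iff_flat_stalkMap]
    intro u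
    rw [Scheme.Hom.stalkMap_comp]
    have h1 : (f.stalkMap (U.ι u)).hom.Flat := by
      have hu : (u.1 : X) ∈ (U : Set X) := u.2
      rw [hU] at hu
      exact hu
    have h2 : (U.ι.stalkMap u).hom.Flat := Flat.stalkMap U.ι u
    exact RingHom.Flat.comp h1 h2
  have hE := isOpen_geomRk_sk (U.ι ≫ f) k
  have heq : {x : X | (f.stalkMap x).hom.Flat ∧ GeomRkFib f k x ∧
      LocCoh.HasSk (k + 1) ((f.fiber (f.base x)).presheaf.stalk (f.asFiber x))
        ((f.fiber (f.base x)).presheaf.stalk (f.asFiber x))} =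
      U.ι '' {u | GeomRkFib (U.ι ≫ f) k u ∧
        LocCoh.HasSk (k + 1) (((U.ι ≫ f).fiber ((U.ι ≫ f).base u)).presheaf.stalk
          ((U.ι ≫ f).asFiber u))
          (((U.ι ≫ f).fiber ((U.ι ≫ f).base u)).presheaf.stalk ((U.ι ≫ f).asFiber u))} := by
    ext x
    constructor
    · rintro ⟨hfl, h1, h2⟩
      have hxU : x ∈ (U : Set X) := by rw [hU]; exact hfl
      refine ⟨⟨x, hxU⟩, ⟨?_, ?_⟩, rfl⟩
      · exact (geomRkFib_openImmersion f U.ι k ⟨x, hxU⟩).mpr h1
      · exact (hasSk_fib_openImmersion f U.ι (k + 1) ⟨x, hxU⟩).mpr h2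
    · rintro ⟨u, ⟨h1, h2⟩, rfl⟩
      refine ⟨?_, (geomRkFib_openImmersion f U.ι k u).mp h1,
        (hasSk_fib_openImmersion f U.ι (k + 1) u).mp h2⟩
      have hmem : (u.1 : X) ∈ (U : Set X) := u.2
      rw [hU] at hmem
      exact hmem
  rw [heq]
  exact U.ι.isOpenEmbedding.isOpenMap _ hE

/-- S5923. -/
theorem isOpen_flatAt_geomNormalFib [LocallyOfFinitePresentation f] :
    IsOpen {x : X | (f.stalkMap x).hom.Flat ∧ GeomNormalFib f x} := by
  have h := isOpen_flatAt_geomRk_sk f 1
  convert h using 1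
  ext x
  simp only [Set.mem_ofPred_eq]
  rw [geomNormalFib_iff]

/-- S4963. -/
theorem isOpen_flatAt_geomReducedFib [LocallyOfFinitePresentation f] :
    IsOpen {x : X | (f.stalkMap x).hom.Flat ∧
      FBase.IsGeomReducedAt (f.fiberToSpecResidueField (f.base x)) (f.asFiber x)} := by
  have h := isOpen_flatAt_geomRk_sk f 0
  convert h using 1
  ext x
  simp only [Set.mem_ofPred_eq]
  rw [geomReducedFib_iff]

/-- S2549. -/
theorem isOpen_geomReducedFib [Flat f] [LocallyOfFinitePresentation f] :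
    IsOpen {x : X |
      FBase.IsGeomReducedAt (f.fiberToSpecResidueField (f.base x)) (f.asFiber x)} := by
  have h := isOpen_geomRk_sk f 0
  convert h using 1
  ext x
  simp only [Set.mem_ofPred_eq]
  rw [geomReducedFib_iff]

/-- flat form of S5923. -/
theorem isOpen_geomNormalFib [Flat f] [LocallyOfFinitePresentation f] :
    IsOpen {x : X | GeomNormalFib f x} := by
  have h := isOpen_geomRk_sk f 1
  convert h using 1
  ext x
  simp only [Set.mem_ofPred_eq]
  rw [geomNormalFib_iff]

end Main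

end

end Groth.Agent.Lib.H9FibGeomNormal
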