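import Mathlib
import Groth.Agent.Lib.H9FibGeomNormal

/-! Mathlib `GeometricallyReduced` of a scheme over a field is pointwise geometric reducedness (`geometricallyReduced_iff_forall_isGeomReducedAt`); for flat proper f.p. morphisms the locus of geometrically reduced fibres is open (`isOpen_geometricallyReduced_fibre`, EGA IV 12.2.4). -/

set_option autoImplicit false
set_option linter.style.haveILetI false
set_option linter.unusedSimpArgs false
set_option linter.unusedVariables false
universe u

namespace Groth.Agent.Lib.H9GeomRedFibre

-- ===== part NsJ =====
section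

open AlgebraicGeometry CategoryTheory Limits

/-- a scheme over a field is geometrically reduced iff it is geometrically reduced at every
point. -/
theorem geometricallyReduced_iff_forall_isGeomReducedAt {k : Type u} [Field k] {F : Scheme.{u}}
    (φ : F ⟶ Spec (CommRingCat.of k)) :
    GeometricallyReduced φ ↔ ∀ x : F, FBase.IsGeomReducedAt φ x := by
  rw [geometricallyReduced_iff, geometrically_iff_of_commRing_of_isClosedUnderIsomorphisms]
  constructor
  · intro h x K _ _ x' _
    haveI : IsReduced (pullback φ (Spec.map (CommRingCat.ofHom (algebraMap k K)))) := h K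
    exact (inferInstance : _root_.IsReduced
      ((pullback φ (Spec.map (CommRingCat.ofHom (algebraMap k K)))).presheaf.stalk x'))
  · intro h K _ _
    haveI : ∀ y : ↥(pullback φ (Spec.map (CommRingCat.ofHom (algebraMap k K)))),
        _root_.IsReduced ((pullback φ (Spec.map
          (CommRingCat.ofHom (algebraMap k K)))).presheaf.stalk y) := fun y =>
      h ((FBase.bcπ φ K).base y) K y rfl
    exact isReduced_of_isReduced_stalk _

/-- S0435. -/
theorem isOpen_geometricallyReduced_fibre {X Y : Scheme.{u}} (f : X ⟶ Y) [Flat f] [IsProper f]
    [LocallyOfFinitePresentation f] :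
    IsOpen {y : Y | GeometricallyReduced (f.fiberToSpecResidueField y)} := by
  have h := Groth.Agent.Lib.H9ModFibSch.isOpen_forall_fiber f
    (fun y z => FBase.IsGeomReducedAt (f.fiberToSpecResidueField y) z)
    (Groth.Agent.Lib.H9FibGeomNormal.isOpen_geomReducedFib f)
  convert h using 1
  ext y
  exact geometricallyReduced_iff_forall_isGeomReducedAt (f.fiberToSpecResidueField y)

end

end Groth.Agent.Lib.H9GeomRedFibre
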