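import Mathlib
import Groth.Prelude.Def_FDesc
import Groth.Agent.Lib.H9GeomRedFibre
import Groth.Agent.Lib.Helper12GeomRed

/-!
# Geometric reducedness of scheme fibres, pointwise (helper5)

* `Q h w`: the fibre of `h` through `w` is geometrically reduced at `w`.
* `q_iff`: reformulation without dependent types.
* `q_comp_etale_iff`: étale-local on the source.
* `geometricallyReduced_fiber_iff`: the fibre over `t` is geometrically reduced iff `Q h w` for all
  `w` over `t`.
* `isReduced_of_geometricallyReduced_fiber`, `geometricallyReduced_fiber_of_forall`: geometric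
  reducedness of the fibre over `t` in terms of the base changes `W ×_T Spec K` along
  `Spec K ⟶ Spec κ(t) ⟶ T`.
-/

set_option autoImplicit false
set_option linter.style.haveILetI false
universe u

namespace Groth.Agent.Lib.H5bFibGR

open CategoryTheory CategoryTheory.Limits AlgebraicGeometry

/-- the fibre of `h` through `w` is geometrically reduced at `w`. -/
def Q {W T : Scheme.{u}} (h : W ⟶ T) (w : W) : Prop :=
  FBase.IsGeomReducedAt (h.fiberToSpecResidueField (h w)) (h.asFiber w)

theorem mem_fiber {W T : Scheme.{u}} (h : W ⟶ T) (t : T) (z : h.fiber t) :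
    h (h.fiberι t z) = t := by
  have : h.fiberι t z ∈ Set.range (h.fiberι t) := ⟨z, rfl⟩
  rw [Scheme.Hom.range_fiberι] at this
  exact this

theorem q_iff {W T : Scheme.{u}} (h : W ⟶ T) (w : W) :
    Q h w ↔ ∀ (t : T) (z : h.fiber t), h.fiberι t z = w →
      FBase.IsGeomReducedAt (h.fiberToSpecResidueField t) z := by
  constructor
  · intro H t z hz
    have ht : h w = t := by rw [← hz]; exact mem_fiber h t z
    subst ht
    have : z = h.asFiber w := by
      apply (h.fiberι _).isEmbedding.injective
      rw [hz, Scheme.Hom.fiberι_asFiber]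
    subst this
    exact H
  · intro H
    exact H (h w) (h.asFiber w) (Scheme.Hom.fiberι_asFiber h w)

/-- the map on fibres induced by a morphism over the base. -/
theorem exists_fiberMap {W' W T : Scheme.{u}} (e : W' ⟶ W) (h : W ⟶ T) (t : T) :
    ∃ et : (e ≫ h).fiber t ⟶ h.fiber t,
      IsPullback ((e ≫ h).fiberι t) et e (h.fiberι t) ∧
      et ≫ h.fiberToSpecResidueField t = (e ≫ h).fiberToSpecResidueField t := by
  let g := T.fromSpecResidueField t
  have hbig := IsPullback.of_hasPullback (e ≫ h) g
  have hbot := IsPullback.of_hasPullback h g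
  have hc : (pullback.fst (e ≫ h) g ≫ e) ≫ h = pullback.snd (e ≫ h) g ≫ g := by
    rw [Category.assoc]; exact pullback.condition
  refine ⟨pullback.lift (pullback.fst (e ≫ h) g ≫ e) (pullback.snd (e ≫ h) g) hc, ?_, ?_⟩
  · change IsPullback (pullback.fst (e ≫ h) g) (pullback.lift _ _ hc) e (pullback.fst h g)
    refine IsPullback.of_bot ?_ (by rw [pullback.lift_fst]) hbot
    rw [pullback.lift_snd]
    exact hbig
  · exact pullback.lift_snd _ _ _

/-- geometric reducedness of the fibre at a point is étale local on the source. -/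
theorem q_comp_etale_iff {W' W T : Scheme.{u}} (e : W' ⟶ W) [Etale e] (h : W ⟶ T) (w' : W') :
    Q (e ≫ h) w' ↔ Q h (e w') := by
  rw [q_iff, q_iff]
  constructor
  · intro H t z hz
    obtain ⟨et, sq, het⟩ := exists_fiberMap e h t
    haveI : Etale et := MorphismProperty.of_isPullback (P := @Etale) sq inferInstance
    obtain ⟨z0, hz1, hz2⟩ := Scheme.Pullback.exists_preimage_pullback (f := e) (g := h.fiberι t)
      w' z hz.symm
    have h1 : (e ≫ h).fiberι t (sq.isoPullback.inv z0) = w' := by
      rw [← hz1, ← Scheme.Hom.comp_apply, sq.isoPullback_inv_fst]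
    have h2 : et (sq.isoPullback.inv z0) = z := by
      rw [← hz2, ← Scheme.Hom.comp_apply, sq.isoPullback_inv_snd]
    have h3 := H t (sq.isoPullback.inv z0) h1
    rw [← het] at h3
    rw [← h2]
    exact (Groth.Agent.Lib.Helper12.GeomRed.isGeomReducedAt_iff_of_etale et _ _).1 h3
  · intro H t z' hz'
    obtain ⟨et, sq, het⟩ := exists_fiberMap e h t
    haveI : Etale et := MorphismProperty.of_isPullback (P := @Etale) sq inferInstance
    have h1 : h.fiberι t (et z') = e w' := by
      rw [← hz', ← Scheme.Hom.comp_apply, ← Scheme.Hom.comp_apply, sq.w]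
    have h3 := H t (et z') h1
    rw [← het]
    exact (Groth.Agent.Lib.Helper12.GeomRed.isGeomReducedAt_iff_of_etale et _ _).2 h3

/-- the fibre over `t` is geometrically reduced iff it is so at every point. -/
theorem geometricallyReduced_fiber_iff {W T : Scheme.{u}} (h : W ⟶ T) (t : T) :
    GeometricallyReduced (h.fiberToSpecResidueField t) ↔ ∀ w : W, h w = t → Q h w := by
  refine (Groth.Agent.Lib.H9GeomRedFibre.geometricallyReduced_iff_forall_isGeomReducedAt
    (h.fiberToSpecResidueField t)).trans ?_
  constructor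
  · intro H w hw
    subst hw
    exact H _
  · intro H z
    exact (q_iff h _).1 (H _ (mem_fiber h t z)) t z rfl

theorem isReduced_of_geometricallyReduced_fiber {W T : Scheme.{u}} (h : W ⟶ T) (t : T)
    (H : GeometricallyReduced (h.fiberToSpecResidueField t)) {K : Type u} [Field K]
    (ψ : Spec (.of K) ⟶ Spec (T.residueField t)) {Z : Scheme.{u}} (fst : Z ⟶ W)
    (snd : Z ⟶ Spec (.of K)) (sq : IsPullback fst snd h (ψ ≫ T.fromSpecResidueField t)) :
    IsReduced Z := by
  have hfib : IsPullback (h.fiberι t) (h.fiberToSpecResidueField t) h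
    (T.fromSpecResidueField t) := IsPullback.of_hasPullback _ _
  let l : Z ⟶ h.fiber t := hfib.lift fst (snd ≫ ψ) (by rw [sq.w, Category.assoc])
  have hl1 : l ≫ h.fiberι t = fst := hfib.lift_fst _ _ _
  have hl2 : l ≫ h.fiberToSpecResidueField t = snd ≫ ψ := hfib.lift_snd _ _ _
  have sq' : IsPullback l snd (h.fiberToSpecResidueField t) ψ :=
    IsPullback.of_right (by rw [hl1]; exact sq) hl2 hfib
  exact H.geometrically_isReduced ψ l snd sq'

theorem geometricallyReduced_fiber_of_forall {W T : Scheme.{u}} (h : W ⟶ T) (t : T)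
    (H : ∀ (K : Type u) [Field K] (ψ : Spec (.of K) ⟶ Spec (T.residueField t)),
      ∃ (Z : Scheme.{u}) (fst : Z ⟶ W) (snd : Z ⟶ Spec (.of K)),
        IsPullback fst snd h (ψ ≫ T.fromSpecResidueField t) ∧ IsReduced Z) :
    GeometricallyReduced (h.fiberToSpecResidueField t) := by
  rw [geometricallyReduced_iff]
  intro K _ y Z' fst' snd' sq'
  obtain ⟨Z, fst, snd, sq, hZ⟩ := H K y
  have hfib : IsPullback (h.fiberι t) (h.fiberToSpecResidueField t) h
    (T.fromSpecResidueField t) := IsPullback.of_hasPullback _ _
  have sq2 : IsPullback (fst' ≫ h.fiberι t) snd' h (y ≫ T.fromSpecResidueField t) :=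
    sq'.paste_horiz hfib
  let e : Z' ≅ Z := sq2.isoIsPullback _ _ sq
  exact isReduced_of_isOpenImmersion e.hom

end Groth.Agent.Lib.H5bFibGR
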