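import Mathlib
import Groth.Prelude.Def_AlgSpDec
import Groth.Prelude.Def_AlgSp3
import Groth.Prelude.Def_AlgSp4
import Groth.Prelude.Def_AlgSpMor5
import Groth.Prelude.Def_Dual3
import Groth.Agent.S3625
import Groth.Agent.S3627
import Groth.Agent.Lib.H5bHasAtMor
import Groth.Agent.Lib.H5bFibCrit
import Groth.Agent.Lib.Helper12FibreSpec
import Groth.Agent.Lib.Helper5GorRing
import Groth.Agent.Lib.Helper5FiberMor

/-!
# Chart independence of "Gorenstein at a point" for morphisms of algebraic spaces (helper5)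

* `NoethFib f`: the fibres of `f` over field points are locally Noetherian algebraic spaces.
* `isLocallyNoetherian_fiber_of_chart`: the scheme fibres of the top arrow of a chart diagram of such
  an `f` are locally Noetherian.
* `isGorensteinAt_of_etale`: an étale morphism of schemes is Gorenstein at every point.
* `gor_iff_of_etale_square`: "Gorenstein at a point" is étale local on source and target.
* `gorAt_chart_indep`, `locPAt_gor_of_chart`: one chart diagram suffices.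
* `noethFib_of_isPullback`: `NoethFib` is stable under base change.
-/

set_option autoImplicit false
universe u

namespace Groth.Agent.Lib.H5bGorCI

open CategoryTheory CategoryTheory.Limits AlgebraicGeometry Opposite AlgSp IsLocalRing
open Groth.Agent.Lib.H5bFibChart Groth.Agent.Lib.H5bFibCrit Groth.Agent.Lib.H5bHasAtMor

variable {S : Scheme.{u}}

/-- the fibres of `f` over field points are locally Noetherian. -/
def NoethFib {F G : AlgSp.Sp S} (f : F ⟶ G) : Prop :=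
  ∀ (k : AlgSp.FieldPt G) (Xk : AlgSp.Sp S) (a : Xk ⟶ F) (b : Xk ⟶ (AlgSp.yon S).obj k.pt),
    IsPullback a b f k.toHom → AlgSp.IsLocNoethSp Xk

/-- base change of `NoethFib`. -/
theorem noethFib_of_isPullback {X Y X' Y' : AlgSp.Sp S} {f : X ⟶ Y} {g : Y' ⟶ Y} {g' : X' ⟶ X}
    {f' : X' ⟶ Y'} (sq : IsPullback g' f' f g) (hf : NoethFib f) : NoethFib f' := by
  intro k' Xk a b hP
  have h2 : IsPullback (a ≫ g') b f (k'.toHom ≫ g) := hP.paste_horiz sq
  refine hf (k'.map g) Xk (a ≫ g') b ?_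
  rw [FieldPt.toHom_map]
  exact h2

/-- the scheme fibres of the top arrow of a chart diagram are locally Noetherian. -/
theorem isLocallyNoetherian_fiber_of_chart {F G : AlgSp.Sp S} (hF : IsAlgSpace F)
    (hG : IsAlgSpace G) (f : F ⟶ G) (hf : NoethFib f) {U V : Over S}
    (a : (yon S).obj U ⟶ F) (b : (yon S).obj V ⟶ G) (p : U ⟶ V)
    (ha : RepWith @Etale a) (hb : RepWith @Etale b) (comm : a ≫ f = (yon S).map p ≫ b)
    (v : ↥V.left) : IsLocallyNoetherian (p.left.fiber v) := by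
  let k : FieldPt G := FieldPt.ofPt b v
  let pt : k.pt ⟶ V := Over.homMk (V.left.fromSpecResidueField v) rfl
  have hk : k.toHom = (yon S).map pt ≫ b := FieldPt.toHom_ofPt b v
  let Vs : Over S := Over.mk (p.left.fiberι v ≫ U.hom)
  let ιV : Vs ⟶ U := Over.homMk (p.left.fiberι v) rfl
  have hπ : p.left.fiberToSpecResidueField v ≫ k.pt.hom = Vs.hom := by
    show p.left.fiberToSpecResidueField v ≫ V.left.fromSpecResidueField v ≫ V.hom =
      p.left.fiberι v ≫ U.hom
    rw [← Category.assoc, ← Scheme.Hom.fiber_fac, Category.assoc, Over.w p]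
  let πV : Vs ⟶ k.pt := Over.homMk (p.left.fiberToSpecResidueField v) hπ
  have w : ιV ≫ p = πV ≫ pt := by
    apply Over.OverMorphism.ext
    show p.left.fiberι v ≫ p.left = p.left.fiberToSpecResidueField v ≫ V.left.fromSpecResidueField v
    exact Scheme.Hom.fiber_fac _ _
  have sqV : IsPullback ((yon S).map ιV) ((yon S).map πV) ((yon S).map p) ((yon S).map pt) :=
    isPullback_yon_of_left ιV πV p pt w (IsPullback.of_hasPullback _ _)
  have sqY := IsPullback.of_hasPullback f k.toHom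
  have hcomm : ((yon S).map ιV ≫ a) ≫ f = (yon S).map πV ≫ k.toHom := by
    rw [hk, Category.assoc, comm, ← Category.assoc, sqV.w, Category.assoc]
  let β : (yon S).obj Vs ⟶ pullback f k.toHom := sqY.lift _ _ hcomm
  have hβ1 : β ≫ pullback.fst f k.toHom = (yon S).map ιV ≫ a := sqY.lift_fst _ _ _
  have hβ2 : β ≫ pullback.snd f k.toHom = (yon S).map πV := sqY.lift_snd _ _ _
  have sqY' : IsPullback (pullback.fst f k.toHom) (pullback.snd f k.toHom) f
      ((yon S).map pt ≫ b) := hk ▸ sqY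
  have hβ : RepWith @Etale β :=
    repWith_etale_fibre_chart hF hG f a b p ha hb comm pt ιV πV sqV sqY' β hβ1 hβ2
  exact Groth.Agent.Lib.Helper12.FibreSpec.isLocallyNoetherian_of_chart
    (hf k _ _ _ sqY) β hβ

section Sch

/-- the fibres of an étale morphism of schemes are locally Noetherian. -/
theorem isLocallyNoetherian_fiber_of_etale {U T : Scheme.{u}} (k : U ⟶ T) [Etale k] (t : T) :
    IsLocallyNoetherian (k.fiber t) := by
  haveI : LocallyOfFiniteType (k.fiberToSpecResidueField t) :=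
    inferInstanceAs (LocallyOfFiniteType (pullback.snd k (T.fromSpecResidueField t)))
  exact LocallyOfFiniteType.isLocallyNoetherian (k.fiberToSpecResidueField t)

/-- an étale morphism is Gorenstein at every point. -/
theorem isGorensteinAt_of_etale {U T : Scheme.{u}} (k : U ⟶ T) [Etale k] (x : U) :
    Dual3.IsGorensteinAt k x := by
  refine ⟨AlgebraicGeometry.Flat.stalkMap k x, ?_⟩
  rw [Groth.Agent.Lib.Helper5.FiberMor.fiber_stalk_iff k x
    Groth.Agent.Lib.Helper5.FiberMor.isoInv_gor]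
  have hunr : (k.stalkMap x).hom.FormallyUnramified :=
    AlgebraicGeometry.FormallyUnramified.stalkMap k x
  have hess : (k.stalkMap x).hom.EssFiniteType := LocallyOfFiniteType.stalkMap k x
  algebraize [(k.stalkMap x).hom]
  haveI hloc : IsLocalHom (algebraMap (T.presheaf.stalk (k x)) (U.presheaf.stalk x)) :=
    inferInstanceAs <| IsLocalHom (k.stalkMap x).hom
  have hfld := Algebra.FormallyUnramified.isField_quotient_map_maximalIdeal
    (R := T.presheaf.stalk (k x)) (S := U.presheaf.stalk x)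
  letI := hfld.toField
  exact Groth.Agent.Lib.Helper5.GorRing.gorLocal_of_field _

/-- "Gorenstein at a point" is étale local on the source and target. -/
theorem gor_iff_of_etale_square {U₁ V₁ U₃ V₃ T : Scheme.{u}} (h₁ : U₁ ⟶ V₁) (h₃ : U₃ ⟶ V₃)
    (p : U₃ ⟶ U₁) (q : V₃ ⟶ V₁) [Etale p] [Etale q] (comm : h₃ ≫ q = p ≫ h₁)
    (fstT : T ⟶ U₁) (sndT : T ⟶ V₃) (sq : IsPullback fstT sndT h₁ q)
    (hN1 : ∀ y, IsLocallyNoetherian (h₁.fiber y)) (hN3 : ∀ y, IsLocallyNoetherian (h₃.fiber y))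
    (hNT : ∀ y, IsLocallyNoetherian (sndT.fiber y)) (u₃ : U₃) :
    Dual3.IsGorensteinAt h₁ (p u₃) ↔ Dual3.IsGorensteinAt h₃ u₃ := by
  haveI : Etale fstT := MorphismProperty.of_isPullback (P := @Etale) sq.flip inferInstance
  let k : U₃ ⟶ T := sq.lift p h₃ comm.symm
  have hk1 : k ≫ fstT = p := sq.lift_fst _ _ _
  have hk2 : k ≫ sndT = h₃ := sq.lift_snd _ _ _
  haveI : Etale (k ≫ fstT) := by rw [hk1]; infer_instance
  haveI : Etale k := MorphismProperty.of_postcomp (W := @Etale) (W' := @Etale) k fstT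
    inferInstance inferInstance
  have hpk : p u₃ = fstT (k u₃) := by rw [← hk1]; rfl
  have hNk : ∀ y, IsLocallyNoetherian (k.fiber y) := isLocallyNoetherian_fiber_of_etale k
  have hNks : ∀ y, IsLocallyNoetherian ((k ≫ sndT).fiber y) := by rw [hk2]; exact hN3
  obtain ⟨r1, -, r3⟩ := Groth.Agent.S3625.result U₁ V₁ T V₃ h₁ q sndT fstT sq hN1 (k u₃)
  obtain ⟨s1, s2⟩ := Groth.Agent.S3627.result U₃ T V₃ k sndT hNk hNT hNks u₃
  rw [hpk]
  constructor
  · intro H
    have := s1 (isGorensteinAt_of_etale k u₃) (r1 H)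
    rwa [hk2] at this
  · intro H
    rw [← hk2] at H
    obtain ⟨-, H2⟩ := s2 H (AlgebraicGeometry.Flat.stalkMap k u₃)
    exact r3 (AlgebraicGeometry.Flat.stalkMap q _) H2

end Sch

/-- one step of chart independence: passing to an étale refinement of a chart diagram. -/
theorem gorAt_step {F G : AlgSp.Sp S} (hF : IsAlgSpace F) (hG : IsAlgSpace G) (f : F ⟶ G)
    (hf : NoethFib f) {U₁ V₁ U₃ V₃ : Over S} (a₁ : (yon S).obj U₁ ⟶ F) (b₁ : (yon S).obj V₁ ⟶ G)
    (h₁ : U₁ ⟶ V₁) (ha₁ : RepWith @Etale a₁) (hb₁ : RepWith @Etale b₁)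
    (c₁ : a₁ ≫ f = (yon S).map h₁ ≫ b₁) (h₃ : U₃ ⟶ V₃) (p : U₃ ⟶ U₁) (q : V₃ ⟶ V₁)
    (hp : Etale p.left) (hq : Etale q.left) (comm : h₃ ≫ q = p ≫ h₁) (u₃ : ↥U₃.left) :
    Dual3.IsGorensteinAt h₁.left (p.left u₃) ↔ Dual3.IsGorensteinAt h₃.left u₃ := by
  have hmul := repWith_isMultiplicative (S := S) @Etale
  have hb₃ : RepWith @Etale ((yon S).map q ≫ b₁) :=
    hmul.comp_mem _ _ ((repWith_yon_map_iff @Etale q).2 hq) hb₁
  have ha₃ : RepWith @Etale ((yon S).map p ≫ a₁) :=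
    hmul.comp_mem _ _ ((repWith_yon_map_iff @Etale p).2 hp) ha₁
  have c₃ : ((yon S).map p ≫ a₁) ≫ f = (yon S).map h₃ ≫ (yon S).map q ≫ b₁ := by
    rw [Category.assoc, c₁, ← Category.assoc, ← Functor.map_comp, ← comm, Functor.map_comp,
      Category.assoc]
  have sqO := IsPullback.of_hasPullback h₁ q
  have sq : IsPullback (pullback.fst h₁ q).left (pullback.snd h₁ q).left h₁.left q.left :=
    sqO.map (Over.forget S)
  have hfst : Etale (pullback.fst h₁ q).left :=
    MorphismProperty.of_isPullback (P := @Etale) sq.flip hq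
  have haT : RepWith @Etale ((yon S).map (pullback.fst h₁ q) ≫ a₁) :=
    hmul.comp_mem _ _ ((repWith_yon_map_iff @Etale (pullback.fst h₁ q)).2 hfst) ha₁
  have cT : ((yon S).map (pullback.fst h₁ q) ≫ a₁) ≫ f =
      (yon S).map (pullback.snd h₁ q) ≫ (yon S).map q ≫ b₁ := by
    rw [Category.assoc, c₁, ← Category.assoc, ← Functor.map_comp, sqO.w, Functor.map_comp,
      Category.assoc]
  haveI := hp
  haveI := hq
  have commL : h₃.left ≫ q.left = p.left ≫ h₁.left := by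
    have := congrArg (fun φ => φ.left) comm
    simpa using this
  exact gor_iff_of_etale_square h₁.left h₃.left p.left q.left commL _ _ sq
    (isLocallyNoetherian_fiber_of_chart hF hG f hf a₁ b₁ h₁ ha₁ hb₁ c₁)
    (isLocallyNoetherian_fiber_of_chart hF hG f hf _ _ h₃ ha₃ hb₃ c₃)
    (isLocallyNoetherian_fiber_of_chart hF hG f hf _ _ (pullback.snd h₁ q) haT hb₃ cT) u₃

/-- **chart independence** of "Gorenstein at a point". -/
theorem gorAt_chart_indep {F G : AlgSp.Sp S} (hF : IsAlgSpace F) (hG : IsAlgSpace G) (f : F ⟶ G)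
    (hf : NoethFib f) {U₁ V₁ U₂ V₂ : Over S}
    (a₁ : (yon S).obj U₁ ⟶ F) (b₁ : (yon S).obj V₁ ⟶ G) (h₁ : U₁ ⟶ V₁)
    (ha₁ : RepWith @Etale a₁) (hb₁ : RepWith @Etale b₁) (c₁ : a₁ ≫ f = (yon S).map h₁ ≫ b₁)
    (a₂ : (yon S).obj U₂ ⟶ F) (b₂ : (yon S).obj V₂ ⟶ G) (h₂ : U₂ ⟶ V₂)
    (ha₂ : RepWith @Etale a₂) (hb₂ : RepWith @Etale b₂) (c₂ : a₂ ≫ f = (yon S).map h₂ ≫ b₂)
    (u₁ : ↥U₁.left) (u₂ : ↥U₂.left) (e : Points.ofPt a₁ u₁ = Points.ofPt a₂ u₂)
    (H : Dual3.IsGorensteinAt h₁.left u₁) : Dual3.IsGorensteinAt h₂.left u₂ := by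
  obtain ⟨U, V, h, p₁, p₂, q₁, q₂, u, hp₁, hp₂, hq₁, hq₂, e₁, e₂, hu₁, hu₂⟩ :=
    exists_common_chart f a₁ b₁ h₁ ha₁ hb₁ c₁ a₂ b₂ h₂ ha₂ hb₂ c₂ u₁ u₂ e
  subst hu₁
  subst hu₂
  have E₁ : h ≫ q₁ = p₁ ≫ h₁ := Over.OverMorphism.ext (by simpa using e₁)
  have E₂ : h ≫ q₂ = p₂ ≫ h₂ := Over.OverMorphism.ext (by simpa using e₂)
  have A := (gorAt_step hF hG f hf a₁ b₁ h₁ ha₁ hb₁ c₁ h p₁ q₁ hp₁ hq₁ E₁ u).1 H
  exact (gorAt_step hF hG f hf a₂ b₂ h₂ ha₂ hb₂ c₂ h p₂ q₂ hp₂ hq₂ E₂ u).2 A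

/-- one chart diagram through `x` at which the top arrow is Gorenstein suffices. -/
theorem locPAt_gor_of_chart {F G : AlgSp.Sp S} (hF : IsAlgSpace F) (hG : IsAlgSpace G) (f : F ⟶ G)
    (hf : NoethFib f) (x : Points F) {U₁ V₁ : Over S}
    (a₁ : (yon S).obj U₁ ⟶ F) (b₁ : (yon S).obj V₁ ⟶ G) (h₁ : U₁ ⟶ V₁)
    (ha₁ : RepWith @Etale a₁) (hb₁ : RepWith @Etale b₁) (c₁ : a₁ ≫ f = (yon S).map h₁ ≫ b₁)
    (u₁ : ↥U₁.left) (hu : Points.ofPt a₁ u₁ = x) (H : Dual3.IsGorensteinAt h₁.left u₁) :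
    LocPAt (fun h u => Dual3.IsGorensteinAt h u) f x := by
  intro U V a b h u ha hb c hu'
  exact gorAt_chart_indep hF hG f hf a₁ b₁ h₁ ha₁ hb₁ c₁ a b h ha hb c u₁ u (hu.trans hu'.symm) H

end Groth.Agent.Lib.H5bGorCI
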