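import Mathlib
import Groth.Agent.Lib.H5bGorCI
import Groth.Agent.Lib.Helper12NoethDescent

/-!
# Gorenstein schemes are étale local (helper5)

* `gor_stalk_iff_of_etale`: for an étale morphism to a locally Noetherian scheme, the local ring
  at a point is Gorenstein iff the local ring at its image is.
* `isGorenstein_of_etale`, `isGorenstein_of_etale_surjective`.
* `isGorenstein_chart`: every étale chart of an étale-locally Gorenstein sheaf is Gorenstein.
-/

set_option autoImplicit false
universe u

namespace Groth.Agent.Lib.H5bGorEt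

open CategoryTheory CategoryTheory.Limits AlgebraicGeometry Opposite AlgSp IsLocalRing LocCoh

theorem gor_stalk_iff_of_etale {R T : Scheme.{u}} (k : R ⟶ T) [Etale k] [IsLocallyNoetherian T]
    (r : R) :
    IsGorensteinLocalRing (R.presheaf.stalk r) ↔ IsGorensteinLocalRing (T.presheaf.stalk (k r)) := by
  haveI : IsLocallyNoetherian R := LocallyOfFiniteType.isLocallyNoetherian k
  have h1 := Groth.Agent.Lib.Helper5.FiberMor.flat_iff k r
    Groth.Agent.Lib.Helper5.FiberRing.flatLocalIff_gor Groth.Agent.Lib.Helper5.FiberMor.isoInv_gor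
    (AlgebraicGeometry.Flat.stalkMap k r)
  have h2 := (Groth.Agent.Lib.H5bGorCI.isGorensteinAt_of_etale k r).2
  exact ⟨fun h => (h1.1 h).1, fun h => h1.2 ⟨h, h2⟩⟩

theorem isGorenstein_of_etale {R T : Scheme.{u}} (k : R ⟶ T) [Etale k]
    (hT : Dual3.IsGorenstein T) : Dual3.IsGorenstein R := by
  haveI := hT.1
  refine ⟨LocallyOfFiniteType.isLocallyNoetherian k, fun r => ?_⟩
  exact (gor_stalk_iff_of_etale k r).2 (hT.2 (k r))

theorem isGorenstein_of_etale_surjective {R T : Scheme.{u}} (k : R ⟶ T) [Etale k] [Surjective k]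
    (hR : Dual3.IsGorenstein R) : Dual3.IsGorenstein T := by
  haveI := hR.1
  haveI : IsLocallyNoetherian T :=
    Groth.Agent.Lib.Helper12.NoethDescent.isLocallyNoetherian_of_flat_lfp_surjective k
  refine ⟨inferInstance, fun t => ?_⟩
  obtain ⟨r, rfl⟩ := (inferInstance : Surjective k).surj t
  exact (gor_stalk_iff_of_etale k r).1 (hR.2 r)

variable {S : Scheme.{u}}

/-- every étale chart of an étale-locally Gorenstein sheaf is a Gorenstein scheme. -/
theorem isGorenstein_chart {F : AlgSp.Sp S} (hF : AlgSp.EtaleLocally Dual3.IsGorenstein F)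
    {U : Over S} (a : (AlgSp.yon S).obj U ⟶ F) (ha : AlgSp.RepWith @Etale a) :
    Dual3.IsGorenstein U.left := by
  obtain ⟨V, q, hqe, hqs, hV⟩ := hF
  obtain ⟨W, snd, fst', sq⟩ := hqe.1 a
  obtain ⟨fst, rfl⟩ := (AlgSp.yon S).map_surjective fst'
  haveI : Etale snd.left := hqe.2 _ _ snd sq
  haveI : Surjective snd.left := hqs.2 _ _ snd sq
  haveI : Etale fst.left := ha.2 _ _ fst sq.flip
  exact isGorenstein_of_etale_surjective snd.left (isGorenstein_of_etale fst.left hV)

end Groth.Agent.Lib.H5bGorEt
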