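import Mathlib
import Groth.Agent.Lib.H5bGorCI
import Groth.Agent.Lib.H5bGorEt

/-!
# Étale surjective charts of the fibres of a morphism of algebraic spaces (helper5)

`exists_fibre_chart`: for `f : X ⟶ Y` and an étale chart `b : h_V ⟶ Y` there is a chart diagram
`(a, b, p : U ⟶ V)` of `f` such that every point of `X` over a point `v` of `V` lifts to `U`, and
for every `v` the scheme fibre `p⁻¹(v)` is an étale surjective chart of the fibre `X_v`.
-/

set_option autoImplicit false
universe u

namespace Groth.Agent.Lib.H5bGorFib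

open CategoryTheory CategoryTheory.Limits AlgebraicGeometry Opposite AlgSp
open Groth.Agent.Lib.H5bFibCrit

variable {S : Scheme.{u}}

/-- transport of a property of the local ring of a fibre along the identification of a point of
the fibre over `v` with the point `asFiber` of its image. -/
theorem stalk_fiber_transport (P : ∀ (R : Type u) [CommRing R], Prop) {U V : Scheme.{u}}
    (h : U ⟶ V) (v : V) (t : h.fiber v)
    (H : P ((h.fiber (h (h.fiberι v t))).presheaf.stalk (h.asFiber (h.fiberι v t)))) :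
    P ((h.fiber v).presheaf.stalk t) := by
  have hs : h (h.fiberι v t) = v := by
    have : h.fiberι v t ∈ Set.range (h.fiberι v) := ⟨t, rfl⟩
    rw [Scheme.Hom.range_fiberι] at this
    exact this
  generalize hx : h.fiberι v t = x at *
  subst hs
  have : t = h.asFiber x := by
    apply (h.fiberι _).isEmbedding.injective
    rw [hx, Scheme.Hom.fiberι_asFiber]
  subst this
  exact H

theorem exists_fibre_chart {X Y : AlgSp.Sp S} (hX : IsAlgSpace X) (f : X ⟶ Y) {V : Over S}
    (b : (yon S).obj V ⟶ Y) (hb : RepWith @Etale b) :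
    ∃ (U : Over S) (a : (yon S).obj U ⟶ X) (p : U ⟶ V), RepWith @Etale a ∧
      a ≫ f = (yon S).map p ≫ b ∧
      (∀ (x : Points X) (v : ↥V.left), Points.ofPt b v = Points.map f x →
        ∃ u : ↥U.left, Points.ofPt a u = x ∧ p.left u = v) ∧
      ∀ (v : ↥V.left) (Xv : AlgSp.Sp S) (aX : Xv ⟶ X)
        (cX : Xv ⟶ (yon S).obj (Over.mk (V.left.fromSpecResidueField v ≫ V.hom))),
        IsPullback aX cX f ((yon S).map (Over.homMk (V.left.fromSpecResidueField v) rfl :
          Over.mk (V.left.fromSpecResidueField v ≫ V.hom) ⟶ V) ≫ b) →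
        ∃ β : (yon S).obj (Over.mk (p.left.fiberι v ≫ U.hom)) ⟶ Xv,
          RepWith @Etale β ∧ RepWith @Surjective β := by
  have hmulE := repWith_isMultiplicative (S := S) @Etale
  have hbcE := repWith_isStableUnderBaseChange (S := S) @Etale
  have hbcS := repWith_isStableUnderBaseChange (S := S) @Surjective
  obtain ⟨U₀, a₀, ha₀, ha₀s⟩ := hX.atlas
  have sqU := hb.rep.isPullback' (a₀ ≫ f)
  set p := hb.rep.fst' (a₀ ≫ f) with hp
  set prU := hb.rep.snd (a₀ ≫ f) with hprU
  have hprUe : Etale prU.left := hb.property_snd (a₀ ≫ f)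
  have ha : RepWith @Etale ((yon S).map prU ≫ a₀) :=
    hmulE.comp_mem _ _ ((repWith_yon_map_iff @Etale prU).2 hprUe) ha₀
  have haf : ((yon S).map prU ≫ a₀) ≫ f = (yon S).map p ≫ b := by
    rw [Category.assoc]; exact sqU.w.symm
  -- `P = X ×_Y h_V` and `b' : h_U ⟶ P`
  have sqP := IsPullback.of_hasPullback f b
  let b' : (yon S).obj (hb.rep.pullback (a₀ ≫ f)) ⟶ pullback f b :=
    sqP.lift ((yon S).map prU ≫ a₀) ((yon S).map p) haf
  have hb'1 : b' ≫ pullback.fst f b = (yon S).map prU ≫ a₀ := sqP.lift_fst _ _ _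
  have hb'2 : b' ≫ pullback.snd f b = (yon S).map p := sqP.lift_snd _ _ _
  have sqb' : IsPullback b' ((yon S).map prU) (pullback.fst f b) a₀ := by
    refine IsPullback.of_right ?_ hb'1 sqP.flip
    rw [hb'2]; exact sqU
  have hb'e : RepWith @Etale b' := hbcE.of_isPullback sqb'.flip ha₀
  have hb's : RepWith @Surjective b' := hbcS.of_isPullback sqb'.flip ha₀s
  refine ⟨_, (yon S).map prU ≫ a₀, p, ha, haf, ?_, ?_⟩
  · intro x v hv
    obtain ⟨u₀, hu₀⟩ := Groth.Agent.S10177.surjective_ofPt a₀ ha₀s x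
    obtain ⟨y, hy1, hy2⟩ := Groth.Agent.S10176.exists_point_of_isPullback_yon sqU v u₀
      (by rw [hv, ← hu₀, AlgSp.Points.map_ofPt])
    refine ⟨y, ?_, hy1⟩
    rw [Groth.Agent.S10176.ofPt_map_comp, hy2, hu₀]
  · intro v Xv aX cX sq
    -- the scheme fibre as an object over `S`
    let K' : Over S := Over.mk (V.left.fromSpecResidueField v ≫ V.hom)
    let pt : K' ⟶ V := Over.homMk (V.left.fromSpecResidueField v) rfl
    let Vs : Over S := Over.mk (p.left.fiberι v ≫ (hb.rep.pullback (a₀ ≫ f)).hom)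
    let ιV : Vs ⟶ hb.rep.pullback (a₀ ≫ f) := Over.homMk (p.left.fiberι v) rfl
    have hπ : p.left.fiberToSpecResidueField v ≫ K'.hom = Vs.hom := by
      show p.left.fiberToSpecResidueField v ≫ V.left.fromSpecResidueField v ≫ V.hom =
        p.left.fiberι v ≫ (hb.rep.pullback (a₀ ≫ f)).hom
      rw [← Category.assoc, ← Scheme.Hom.fiber_fac, Category.assoc, Over.w p]
    let πV : Vs ⟶ K' := Over.homMk (p.left.fiberToSpecResidueField v) hπ
    have w : ιV ≫ p = πV ≫ pt := by
      apply Over.OverMorphism.ext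
      show p.left.fiberι v ≫ p.left =
        p.left.fiberToSpecResidueField v ≫ V.left.fromSpecResidueField v
      exact Scheme.Hom.fiber_fac _ _
    have sqV : IsPullback ((yon S).map ιV) ((yon S).map πV) ((yon S).map p) ((yon S).map pt) :=
      isPullback_yon_of_left ιV πV p pt w (IsPullback.of_hasPullback _ _)
    -- `j : Xv ⟶ P`
    let j : Xv ⟶ pullback f b := sqP.lift aX (cX ≫ (yon S).map pt) (by rw [sq.w, Category.assoc])
    have hj1 : j ≫ pullback.fst f b = aX := sqP.lift_fst _ _ _
    have hj2 : j ≫ pullback.snd f b = cX ≫ (yon S).map pt := sqP.lift_snd _ _ _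
    have sqL : IsPullback j cX (pullback.snd f b) ((yon S).map pt) :=
      IsPullback.of_right (by rw [hj1]; exact sq) hj2 sqP
    -- `β`
    have hcomm : ((yon S).map ιV ≫ (yon S).map prU ≫ a₀) ≫ f =
        (yon S).map πV ≫ (yon S).map pt ≫ b := by
      rw [Category.assoc, haf, ← Category.assoc, sqV.w, Category.assoc]
    let β : (yon S).obj Vs ⟶ Xv := sq.lift _ _ hcomm
    have hβ1 : β ≫ aX = (yon S).map ιV ≫ (yon S).map prU ≫ a₀ := sq.lift_fst _ _ _
    have hβ2 : β ≫ cX = (yon S).map πV := sq.lift_snd _ _ _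
    have hw : β ≫ j = (yon S).map ιV ≫ b' := by
      apply sqP.hom_ext
      · rw [Category.assoc, hj1, hβ1, Category.assoc, hb'1]
      · rw [Category.assoc, hj2, ← Category.assoc, hβ2, Category.assoc, hb'2, sqV.w]
    have sqβ : IsPullback ((yon S).map ιV) β b' j := by
      refine IsPullback.of_bot ?_ hw.symm sqL
      rw [hβ2, hb'2]
      exact sqV
    exact ⟨β, hbcE.of_isPullback sqβ hb'e, hbcS.of_isPullback sqβ hb's⟩

end Groth.Agent.Lib.H5bGorFib
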