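import Mathlib
import Groth.Agent.Lib.H5bGorFib
import Groth.Agent.Lib.H5bFibGR
import Groth.Agent.Lib.Helper12FieldBC
import Groth.Agent.S10686

/-!
# Frames: scheme charts of the base change of a morphism of algebraic spaces (helper5)

A `Frame f g` for `f : X ⟶ Y` and `g : h_T ⟶ Y` consists of a pullback `P = X ×_Y h_T`, an étale
surjective chart `c : h_W ⟶ P` and the morphism of schemes `h : W ⟶ T` representing `c ≫ p2`.

* `Frame.exists_chart`: for every `pt : K' ⟶ T` and every pullback `Xψ = X ×_Y h_{K'}` the scheme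
  `W ×_T K'` is an étale surjective chart of `Xψ`.
* `exists_frame_of_etale`: frames exist over an étale `b : h_V ⟶ Y`, with `c ≫ p1` étale.
* `Frame.prop_of_locP`: `LocP P f` gives `P h.left`.
* `Frame.q_iff_of_ofPt_eq`: saturation of the locus of geometrically reduced fibre points.
* `Frame.isOpen_forall_fibre`: if `P ⟶ h_T` is closed on points, `O ⊆ W` open and saturated then
  `{t | h⁻¹(t) ⊆ O}` is open.
* `Frame.gr_iff`: the fibre of `f` at the point `g(t)` is geometrically reduced iff the scheme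
  fibre `h⁻¹(t)` is.
* `isOpen_gr`: S10682.
-/

set_option autoImplicit false
set_option linter.style.haveILetI false
universe u

namespace Groth.Agent.Lib.H5bFibFrame

open CategoryTheory CategoryTheory.Limits AlgebraicGeometry Opposite AlgSp
open Groth.Agent.Lib.H5bFibGR

variable {S : Scheme.{u}}

/-- a chart of the base change of `f` along `g`. -/
structure Frame {X Y : AlgSp.Sp S} (f : X ⟶ Y) {T : Over S} (g : (yon S).obj T ⟶ Y) where
  P : AlgSp.Sp S
  p1 : P ⟶ X
  p2 : P ⟶ (yon S).obj T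
  sq : IsPullback p1 p2 f g
  W : Over S
  c : (yon S).obj W ⟶ P
  hce : RepWith @Etale c
  hcs : RepWith @Surjective c
  h : W ⟶ T
  hh : c ≫ p2 = (yon S).map h

namespace Frame

variable {X Y : AlgSp.Sp S} {f : X ⟶ Y} {T : Over S} {g : (yon S).obj T ⟶ Y}

theorem comm (F : Frame f g) : (F.c ≫ F.p1) ≫ f = (yon S).map F.h ≫ g := by
  rw [Category.assoc, F.sq.w, ← Category.assoc, F.hh]

/-- the chart of a further base change. -/
theorem exists_chart (F : Frame f g) {K' : Over S} (pt : K' ⟶ T) {Xψ : AlgSp.Sp S}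
    (a : Xψ ⟶ X) (b : Xψ ⟶ (yon S).obj K') (sq : IsPullback a b f ((yon S).map pt ≫ g)) :
    ∃ β : (yon S).obj (pullback F.h pt) ⟶ Xψ, RepWith @Etale β ∧ RepWith @Surjective β := by
  have hbcE := repWith_isStableUnderBaseChange (S := S) @Etale
  have hbcS := repWith_isStableUnderBaseChange (S := S) @Surjective
  have sqV : IsPullback ((yon S).map (pullback.fst F.h pt)) ((yon S).map (pullback.snd F.h pt))
      ((yon S).map F.h) ((yon S).map pt) := (IsPullback.of_hasPullback F.h pt).map (yon S)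
  let j : Xψ ⟶ F.P := F.sq.lift a (b ≫ (yon S).map pt) (by rw [sq.w, Category.assoc])
  have hj1 : j ≫ F.p1 = a := F.sq.lift_fst _ _ _
  have hj2 : j ≫ F.p2 = b ≫ (yon S).map pt := F.sq.lift_snd _ _ _
  have sqL : IsPullback j b F.p2 ((yon S).map pt) :=
    IsPullback.of_right (by rw [hj1]; exact sq) hj2 F.sq
  have hcomm : ((yon S).map (pullback.fst F.h pt) ≫ F.c ≫ F.p1) ≫ f =
      (yon S).map (pullback.snd F.h pt) ≫ (yon S).map pt ≫ g := by
    rw [Category.assoc, F.comm, ← Category.assoc, sqV.w, Category.assoc]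
  let β : (yon S).obj (pullback F.h pt) ⟶ Xψ := sq.lift _ _ hcomm
  have hβ1 : β ≫ a = (yon S).map (pullback.fst F.h pt) ≫ F.c ≫ F.p1 := sq.lift_fst _ _ _
  have hβ2 : β ≫ b = (yon S).map (pullback.snd F.h pt) := sq.lift_snd _ _ _
  have hw : β ≫ j = (yon S).map (pullback.fst F.h pt) ≫ F.c := by
    apply F.sq.hom_ext
    · rw [Category.assoc, hj1, hβ1, Category.assoc]
    · rw [Category.assoc, hj2, ← Category.assoc, hβ2, Category.assoc, F.hh, sqV.w]
  have sqβ : IsPullback ((yon S).map (pullback.fst F.h pt)) β F.c j := by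
    refine IsPullback.of_bot ?_ hw.symm sqL
    rw [hβ2, F.hh]
    exact sqV
  exact ⟨β, hbcE.of_isPullback sqβ F.hce, hbcS.of_isPullback sqβ F.hcs⟩

theorem prop_of_locP (F : Frame f g) (hg : RepWith @Etale g) (ha : RepWith @Etale (F.c ≫ F.p1))
    {P : MorphismProperty Scheme.{u}} (hP : LocP P f) : P F.h.left :=
  hP (F.c ≫ F.p1) g F.h ha hg F.comm

/-- the locus of geometrically reduced fibre points is saturated for the chart. -/
theorem q_iff_of_ofPt_eq (F : Frame f g) (w w' : ↥F.W.left)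
    (hww : Points.ofPt F.c w = Points.ofPt F.c w') : Q F.h.left w ↔ Q F.h.left w' := by
  have sq := F.hce.rep.isPullback' F.c
  haveI h1 : Etale (F.hce.rep.snd F.c).left := F.hce.property_snd F.c
  haveI h2 : Etale (F.hce.rep.fst' F.c).left := F.hce.2 F.c _ _ sq.flip
  obtain ⟨y, hy1, hy2⟩ := Groth.Agent.S10176.exists_point_of_isPullback_yon sq w w' hww
  have hcomp : F.hce.rep.fst' F.c ≫ F.h = F.hce.rep.snd F.c ≫ F.h := by
    apply (yon S).map_injective
    rw [Functor.map_comp, Functor.map_comp, ← F.hh, ← Category.assoc, ← Category.assoc, sq.w]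
  have hcomp' : (F.hce.rep.fst' F.c).left ≫ F.h.left = (F.hce.rep.snd F.c).left ≫ F.h.left :=
    congrArg (fun m => m.left) hcomp
  rw [← hy1, ← hy2, ← q_comp_etale_iff, ← q_comp_etale_iff, hcomp']

theorem map_p2_ofPt (F : Frame f g) (w : ↥F.W.left) :
    Points.map F.p2 (Points.ofPt F.c w) = Points.schemeHomeo T (F.h.left w) := by
  rw [Points.map_ofPt, F.hh, ← Category.comp_id ((yon S).map F.h),
    Groth.Agent.S10176.ofPt_map_comp]
  rfl

/-- openness of the locus of fibres contained in a saturated open. -/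
theorem isOpen_forall_fibre (F : Frame f g) (hcl : IsClosedMap (Points.map F.p2))
    (O : Set ↥F.W.left) (hO : IsOpen O)
    (hsat : ∀ w w', Points.ofPt F.c w = Points.ofPt F.c w' → (w ∈ O ↔ w' ∈ O)) :
    IsOpen {t : ↥T.left | ∀ w : ↥F.W.left, F.h.left w = t → w ∈ O} := by
  have hopen : IsOpen (Points.ofPt F.c '' O) :=
    Groth.Agent.S10176.isOpenMap_ofPt F.c F.hce O hO
  have hsurj := Groth.Agent.S10177.surjective_ofPt F.c F.hcs
  have hcompl : (Points.ofPt F.c '' O)ᶜ = Points.ofPt F.c '' Oᶜ := by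
    ext x
    constructor
    · intro hx
      obtain ⟨w, rfl⟩ := hsurj x
      exact ⟨w, fun hw => hx ⟨w, hw, rfl⟩, rfl⟩
    · rintro ⟨w, hw, rfl⟩ ⟨w', hw', e⟩
      exact hw ((hsat w' w e).1 hw')
  have hclosed : IsClosed (Points.map F.p2 '' (Points.ofPt F.c '' Oᶜ)) :=
    hcl _ (hcompl ▸ hopen.isClosed_compl)
  have hset : {t : ↥T.left | ∀ w : ↥F.W.left, F.h.left w = t → w ∈ O} =
      (Points.schemeHomeo T ⁻¹' (Points.map F.p2 '' (Points.ofPt F.c '' Oᶜ)))ᶜ := by
    ext t
    simp only [Set.mem_ofPred_eq, Set.mem_compl_iff, Set.mem_preimage, Set.mem_image]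
    constructor
    · rintro H ⟨_, ⟨w, hw, rfl⟩, e⟩
      rw [F.map_p2_ofPt] at e
      exact hw (H w ((Points.schemeHomeo T).injective e))
    · intro H w hw
      by_contra hwO
      exact H ⟨_, ⟨w, hwO, rfl⟩, by rw [F.map_p2_ofPt, hw]⟩
  rw [hset]
  exact (hclosed.preimage (Points.schemeHomeo T).continuous).isOpen_compl

end Frame

/-- frames over an étale chart of the target. -/
theorem exists_frame_of_etale {X Y : AlgSp.Sp S} (hX : IsAlgSpace X) (f : X ⟶ Y) {V : Over S}
    (b : (yon S).obj V ⟶ Y) (hb : RepWith @Etale b) :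
    ∃ F : Frame f b, RepWith @Etale (F.c ≫ F.p1) := by
  have hmulE := repWith_isMultiplicative (S := S) @Etale
  have hbcE := repWith_isStableUnderBaseChange (S := S) @Etale
  have hbcS := repWith_isStableUnderBaseChange (S := S) @Surjective
  obtain ⟨U₀, a₀, ha₀, ha₀s⟩ := hX.atlas
  have sqU := hb.rep.isPullback' (a₀ ≫ f)
  set p := hb.rep.fst' (a₀ ≫ f) with hp
  set prU := hb.rep.snd (a₀ ≫ f) with hprU
  have hprUe : Etale prU.left := hb.property_snd (a₀ ≫ f)
  have ha : RepWith @Etale ((yon S).map prU ≫ a₀) :=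
    hmulE.comp_mem _ _ ((repWith_yon_map_iff @Etale prU).2 hprUe) ha₀
  have haf : ((yon S).map prU ≫ a₀) ≫ f = (yon S).map p ≫ b := by
    rw [Category.assoc]; exact sqU.w.symm
  have sqP := IsPullback.of_hasPullback f b
  let b' : (yon S).obj (hb.rep.pullback (a₀ ≫ f)) ⟶ pullback f b :=
    sqP.lift ((yon S).map prU ≫ a₀) ((yon S).map p) haf
  have hb'1 : b' ≫ pullback.fst f b = (yon S).map prU ≫ a₀ := sqP.lift_fst _ _ _
  have hb'2 : b' ≫ pullback.snd f b = (yon S).map p := sqP.lift_snd _ _ _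
  have sqb' : IsPullback b' ((yon S).map prU) (pullback.fst f b) a₀ := by
    refine IsPullback.of_right ?_ hb'1 sqP.flip
    rw [hb'2]; exact sqU
  have hb'e : RepWith @Etale b' := hbcE.of_isPullback sqb'.flip ha₀
  have hb's : RepWith @Surjective b' := hbcS.of_isPullback sqb'.flip ha₀s
  refine ⟨{ P := pullback f b, p1 := pullback.fst f b, p2 := pullback.snd f b, sq := sqP,
            W := hb.rep.pullback (a₀ ≫ f), c := b', hce := hb'e, hcs := hb's, h := p,
            hh := hb'2 }, ?_⟩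
  show RepWith @Etale (b' ≫ pullback.fst f b)
  rw [hb'1]
  exact ha

/-- the fibre of `f` at `y` is geometrically reduced (the predicate of S10682, S10683, S10686). -/
def GR {X Y : AlgSp.Space S} (f : X ⟶ Y) (y : AlgSp.Points Y.obj) : Prop :=
  ∀ (k : AlgSp.FieldPt Y.obj), AlgSp.Points.mk k = y →
    ∀ (k' : Type u) [Field k'] (φ : k.K →+* k') (Xk' : AlgSp.Sp S) (a : Xk' ⟶ X.obj)
      (b : Xk' ⟶ (AlgSp.yon S).obj (Over.mk (Spec.map (CommRingCat.ofHom φ) ≫ k.str))),
      IsPullback a b f.hom ((AlgSp.yon S).map (Over.homMk (Spec.map (CommRingCat.ofHom φ)) rfl :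
        Over.mk (Spec.map (CommRingCat.ofHom φ) ≫ k.str) ⟶ k.pt) ≫ k.toHom) →
      AlgSp.EtaleLocally (fun U => IsReduced U) Xk'

/-- the chart of the fibre over a field extension of the residue field. -/
theorem Frame.exists_field_chart {X Y : AlgSp.Space S} {f : X ⟶ Y} {T : Over S}
    {g : (yon S).obj T ⟶ Y.obj} (F : Frame f.hom g) (t : ↥T.left) (k' : Type u) [Field k']
    (φ : (FieldPt.ofPt g t).K →+* k') (Xk' : AlgSp.Sp S) (a : Xk' ⟶ X.obj)
    (b : Xk' ⟶ (AlgSp.yon S).obj
      (Over.mk (Spec.map (CommRingCat.ofHom φ) ≫ (FieldPt.ofPt g t).str)))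
    (sq : IsPullback a b f.hom ((AlgSp.yon S).map
      (Over.homMk (Spec.map (CommRingCat.ofHom φ)) rfl :
        Over.mk (Spec.map (CommRingCat.ofHom φ) ≫ (FieldPt.ofPt g t).str) ⟶
          (FieldPt.ofPt g t).pt) ≫ (FieldPt.ofPt g t).toHom)) :
    ∃ (Z : Over S) (β : (yon S).obj Z ⟶ Xk') (fst : Z.left ⟶ F.W.left)
      (snd : Z.left ⟶ Spec (.of k')), RepWith @Etale β ∧ RepWith @Surjective β ∧
      IsPullback fst snd F.h.left
        (Spec.map (CommRingCat.ofHom φ) ≫ T.left.fromSpecResidueField t) := by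
  let k := FieldPt.ofPt g t
  let K' : Over S := Over.mk (Spec.map (CommRingCat.ofHom φ) ≫ k.str)
  let eφ : K' ⟶ k.pt := Over.homMk (Spec.map (CommRingCat.ofHom φ)) rfl
  let ι : k.pt ⟶ T := Over.homMk (T.left.fromSpecResidueField t) rfl
  have hk : k.toHom = (yon S).map ι ≫ g := FieldPt.toHom_ofPt g t
  have sq' : IsPullback a b f.hom ((yon S).map (eφ ≫ ι) ≫ g) := by
    rw [Functor.map_comp, Category.assoc, ← hk]
    exact sq
  obtain ⟨β, hβe, hβs⟩ := F.exists_chart (eφ ≫ ι) a b sq'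
  have sV := (IsPullback.of_hasPullback F.h (eφ ≫ ι)).map (Over.forget S)
  exact ⟨pullback F.h (eφ ≫ ι), β, _, _, hβe, hβs, sV⟩

/-- the fibre of `f` at `g(t)` is geometrically reduced iff the scheme fibre of the frame is. -/
theorem Frame.gr_iff {X Y : AlgSp.Space S} {f : X ⟶ Y} {T : Over S}
    {g : (yon S).obj T ⟶ Y.obj} (F : Frame f.hom g) (t : ↥T.left) :
    GR f (Points.ofPt g t) ↔ GeometricallyReduced (F.h.left.fiberToSpecResidueField t) := by
  constructor
  · intro hGR
    apply geometricallyReduced_fiber_of_forall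
    intro K _ ψ
    obtain ⟨φ, rfl⟩ : ∃ φ : (FieldPt.ofPt g t).K →+* K, Spec.map (CommRingCat.ofHom φ) = ψ :=
      ⟨(Spec.preimage ψ).hom, Spec.map_preimage ψ⟩
    have hred := hGR (FieldPt.ofPt g t) rfl K φ _ _ _ (IsPullback.of_hasPullback f.hom _)
    obtain ⟨Z, β, fst, snd, hβe, -, sV⟩ := F.exists_field_chart t K φ _ _ _
      (IsPullback.of_hasPullback f.hom _)
    exact ⟨Z.left, fst, snd, sV, Groth.Agent.Lib.Helper12.FieldBC.isReduced_of_chart hred β hβe⟩
  · intro hGR
    have h01 := (Groth.Agent.S10686.result f (Points.ofPt g t)).out 0 1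
    refine h01.1 ⟨FieldPt.ofPt g t, rfl, ?_⟩
    intro k' _ φ Xk' a b sq
    obtain ⟨Z, β, fst, snd, hβe, hβs, sV⟩ := F.exists_field_chart t k' φ Xk' a b sq
    exact ⟨Z, β, hβe, hβs, isReduced_of_geometricallyReduced_fiber F.h.left t hGR _ fst snd sV⟩

/-- S10682: for a flat proper morphism of finite presentation the locus of geometrically reduced
fibres is open. -/
theorem isOpen_gr {X Y : AlgSp.Space S} (f : X ⟶ Y) (hf1 : AlgSp.LocP @Flat f.hom)
    (hf2 : AlgSp.IsProperMor f.hom) (hf3 : AlgSp.IsFinitePresentationMor f.hom) :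
    IsOpen {y : AlgSp.Points Y.obj | GR f y} := by
  obtain ⟨V, b, hbe, hbs⟩ := Y.property.atlas
  obtain ⟨F, hFa⟩ := exists_frame_of_etale X.property f.hom b hbe
  haveI : Flat F.h.left := F.prop_of_locP hbe hFa hf1
  haveI : LocallyOfFinitePresentation F.h.left := F.prop_of_locP hbe hFa hf3.1
  have hO : IsOpen {w : ↥F.W.left | Q F.h.left w} :=
    Groth.Agent.Lib.H9FibGeomNormal.isOpen_geomReducedFib F.h.left
  have hcl : IsClosedMap (Points.map F.p2) :=
    hf2.2.2 (IsAlgSpace.yon_obj V) b F.p1 F.p2 F.sq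
  have h1 := F.isOpen_forall_fibre hcl {w | Q F.h.left w} hO
    (fun w w' e => F.q_iff_of_ofPt_eq w w' e)
  have h2 : Points.ofPt b ⁻¹' {y | GR f y} =
      {t | ∀ w : ↥F.W.left, F.h.left w = t → w ∈ {w | Q F.h.left w}} := by
    ext t
    rw [Set.mem_preimage, Set.mem_ofPred_eq, F.gr_iff t, geometricallyReduced_fiber_iff]
    rfl
  have h3 : {y | GR f y} = Points.ofPt b '' (Points.ofPt b ⁻¹' {y | GR f y}) :=
    (Set.image_preimage_eq _ (Groth.Agent.S10177.surjective_ofPt b hbs)).symm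
  rw [h3, h2]
  exact Groth.Agent.S10176.isOpenMap_ofPt b hbe _ h1

end Groth.Agent.Lib.H5bFibFrame
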