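import Mathlib
import Groth.Agent.Lib.H9FibGeomNormal
import Groth.Agent.Lib.H9ModLocus
import Groth.Agent.Lib.Helper4FibDimE
import Groth.Agent.Lib.Helper5IntDim

/-! Local constructibility of the fibrewise geometric (R_k) locus for a morphism locally of finite presentation (EGA IV 9.9.x; S3454): lsm_baseChange_ft (Lsm base change for LFT), RLsm (ring-level fibrewise smooth locus), GoodG (numerical geometric R_k locus in Spec B), rlsm_baseChange, dlt_baseChange (fdm+ftd invariant under base change), goodG_baseChange, GenProp/exists_genProp_finite (generic element for a finite set of primes), ftd_lt_of_lt, BadZ, exists_generic_badZ (generic closedness of fibrewise specializations of codim<=k points of a closed set), fibLD_eq (Helper4 fibLD = fdm+ftd), isOpen_dlt_le (Chevalley numerically), isLocalization_away_tensor, isOpen_rlsm_of_flat, goodG_gen, goodG_bc, isConstructible_goodG, mem_lsm_chart' (no flatness), geomRkFib_chart', isLocallyConstructible_geomRkFib, hasRk_bc_of_forall_smooth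 (arbitrary field ext), geomRkAll_iff (all extensions <-> finite extensions), isLocallyConstructible_geomRkAll (helper9). -/

set_option autoImplicit false
set_option linter.style.haveILetI false
set_option linter.unusedSimpArgs false
set_option linter.unusedVariables false
universe u

namespace Groth.Agent.Lib.H9FibGeomRkConstr

-- ===== part GkA =====
section

open AlgebraicGeometry CategoryTheory Limits TensorProduct Topology
open Groth.Agent.Lib.H9ModFibAlg Groth.Agent.Lib.H9RectDepthAlg Groth.Agent.Lib.H9FibNumerics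
open Groth.Agent.Lib.H9FibGeomRk
open Groth.Agent.Lib.Helper5.FibSmConstr Groth.Agent.Lib.Helper20.FlatDesc

/-- base change of the fibrewise smooth locus, for morphisms locally of finite type. -/
theorem lsm_baseChange_ft {X Y X' Y' : Scheme.{u}} (f : X ⟶ Y) (g : Y' ⟶ Y) (g' : X' ⟶ X)
    (f' : X' ⟶ Y') (hf : LocallyOfFiniteType f) (hsq : IsPullback g' f' f g) :
    Lsm f' = g' ⁻¹' Lsm f := by
  ext x'
  obtain ⟨h, hpb, hcomm⟩ : ∃ h : f'.fiber (f' x') ⟶ f.fiber (g (f' x')),
      IsPullback h (f'.fiberToSpecResidueField (f' x'))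
        (f.fiberToSpecResidueField (g (f' x'))) (Spec.map (g.residueFieldMap (f' x'))) ∧
      h ≫ f.fiberι (g (f' x')) = f'.fiberι (f' x') ≫ g' :=
    ⟨_, isPullback_fiberToSpecResidueField_of_isPullback hsq (f' x'), pullback.lift_fst _ _ _⟩
  have hw₁ : f.fiberι (g (f' x')) (h (f'.asFiber x')) = g' x' := by
    rw [← Scheme.Hom.comp_apply, hcomm, Scheme.Hom.comp_apply, f'.fiberι_asFiber]
  have hyy : g (f' x') = f (g' x') := by
    rw [← Scheme.Hom.comp_apply, ← Scheme.Hom.comp_apply, hsq.w]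
  haveI : LocallyOfFiniteType (f.fiberToSpecResidueField (g (f' x'))) :=
    Groth.Agent.Lib.Helper4.VarDim.locallyOfFiniteType_fiberToSpecResidueField f _
  haveI : LocallyOfFinitePresentation (f.fiberToSpecResidueField (g (f' x'))) := inferInstance
  haveI : Subsingleton ↥(Spec (Y.residueField (g (f' x')))) :=
    inferInstanceAs (Subsingleton (PrimeSpectrum (Y.residueField (g (f' x')))))
  haveI : Flat (Spec.map (g.residueFieldMap (f' x'))) := inferInstance
  show ((f'.fiberToSpecResidueField (f' x')).stalkMap (f'.asFiber x')).hom.FormallySmooth ↔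
    ((f.fiberToSpecResidueField (f (g' x'))).stalkMap (f.asFiber (g' x'))).hom.FormallySmooth
  rw [formallySmooth_stalkMap_iff_of_isPullback hpb (f'.asFiber x')]
  exact fiber_transport f hyy _ _ (hw₁.trans (f.fiberι_asFiber _).symm)

section Defs

variable (A B : Type u) [CommRing A] [CommRing B] [Algebra A B]

/-- the ring-level fibrewise smooth locus. -/
def RLsm : Set (PrimeSpectrum B) := Lsm (Spec.map (CommRingCat.ofHom (algebraMap A B)))

/-- the primes of `B` at which the fibre satisfies the geometric `(R_k)` condition, numerically: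
every fibrewise generization of fibre codimension `≤ k` is a smooth point of its fibre. -/
def GoodG (k : ℕ) : Set (PrimeSpectrum B) :=
  {q | ∀ z : PrimeSpectrum B, z.asIdeal ≤ q.asIdeal → z.asIdeal.under A = q.asIdeal.under A →
    fdm A B z.asIdeal ≤ ((k : ℕ) : WithBot ℕ∞) → z ∈ RLsm A B}

end Defs

section BC

variable {A B A' B' : Type u} [CommRing A] [CommRing B] [CommRing A'] [CommRing B']
  [Algebra A B] [Algebra A A'] [Algebra B B'] [Algebra A' B'] [Algebra A B']
  [IsScalarTower A B B'] [IsScalarTower A A' B'] [Algebra.IsPushout A B A' B']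
  [Algebra.FiniteType A B]

theorem rlsm_baseChange :
    RLsm A' B' = PrimeSpectrum.comap (algebraMap B B') ⁻¹' RLsm A B := by
  have hpo := CommRingCat.isPushout_of_isPushout A B A' B'
  have hsq := isPullback_SpecMap_of_isPushout _ _ _ _ hpo
  have h1 : LocallyOfFiniteType (Spec.map (CommRingCat.ofHom (algebraMap A B))) := by
    rw [HasRingHomProperty.Spec_iff (P := @LocallyOfFiniteType), CommRingCat.hom_ofHom,
      RingHom.finiteType_algebraMap]
    infer_instance
  have hbc := lsm_baseChange_ft _ _ _ _ h1 hsq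
  ext q'
  let x' : ↥(Spec (CommRingCat.of B')) := q'
  have e5 : x' ∈ Lsm (Spec.map (CommRingCat.ofHom (algebraMap A' B'))) ↔
      (Spec.map (CommRingCat.ofHom (algebraMap B B'))) x' ∈
        Lsm (Spec.map (CommRingCat.ofHom (algebraMap A B))) := by
    rw [hbc]
    rfl
  exact e5

end BC

end

-- ===== part GkB =====
section

open AlgebraicGeometry CategoryTheory Limits TensorProduct Topology
open Groth.Agent.Lib.H9ModFibAlg Groth.Agent.Lib.H9RectDepthAlg Groth.Agent.Lib.H9FibNumerics
open Groth.Agent.Lib.H9FibGeomRk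
open Groth.Agent.Lib.Helper5.FibSmConstr Groth.Agent.Lib.Helper20.FlatDesc

/-- cancellation of a natural number in `WithBot ℕ∞` (inequality). -/
theorem withBot_le_of_add_nat_le {a b : WithBot ℕ∞} {t : ℕ}
    (h : a + ((t : ℕ) : WithBot ℕ∞) ≤ b + ((t : ℕ) : WithBot ℕ∞)) : a ≤ b := by
  induction a using WithBot.recBotCoe with
  | bot => exact bot_le
  | coe a =>
    induction b using WithBot.recBotCoe with
    | bot => simp at h
    | coe b =>
      have h1 : ((a + (t : ℕ∞) : ℕ∞) : WithBot ℕ∞) ≤ ((b + (t : ℕ∞) : ℕ∞) : WithBot ℕ∞) := h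
      have h2 := WithBot.coe_le_coe.mp h1
      exact WithBot.coe_le_coe.mpr ((ENat.add_le_add_iff_right (ENat.natCast_ne_top t)).mp h2)

/-- cancellation of a natural number in `WithBot ℕ∞` (equality). -/
theorem withBot_eq_of_add_nat_eq {a b : WithBot ℕ∞} {t : ℕ}
    (h : a + ((t : ℕ) : WithBot ℕ∞) = b + ((t : ℕ) : WithBot ℕ∞)) : a = b :=
  le_antisymm (withBot_le_of_add_nat_le h.le) (withBot_le_of_add_nat_le h.ge)

section BC

variable {A B A' B' : Type u} [CommRing A] [CommRing B] [CommRing A'] [CommRing B']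
  [Algebra A B] [Algebra A A'] [Algebra B B'] [Algebra A' B'] [Algebra A B']
  [IsScalarTower A B B'] [IsScalarTower A A' B'] [Algebra.IsPushout A B A' B']
  [Algebra.FiniteType A B]

set_option synthInstance.maxHeartbeats 400000 in
set_option maxHeartbeats 1600000 in
/-- **Invariance of the local fibre dimension** `dim O_{X_s,x} + trdeg κ(x)/κ(s)` under base
change. -/
theorem dlt_baseChange (q' : Ideal B') [q'.IsPrime] (q : Ideal B) [q.IsPrime]
    (hq : q = q'.comap (algebraMap B B')) :
    fdm A' B' q' + ((ftd A' q' : ℕ) : WithBot ℕ∞) = fdm A B q + ((ftd A q : ℕ) : WithBot ℕ∞) := by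
  have hpo1 : Algebra.IsPushout A A' B B' := Algebra.IsPushout.symm inferInstance
  haveI : Algebra.FiniteType A' B' :=
    Algebra.FiniteType.equiv (inferInstanceAs (Algebra.FiniteType A' (A' ⊗[A] B)))
      (Algebra.IsPushout.equiv A A' B B')
  obtain ⟨c, c', h1, h2⟩ := fdep_fdm_baseChange (A := A) (A' := A') B B' (Algebra.linearMap B B')
    (IsBaseChange.linearMap B B') q' q hq
  have h3 := rdep_baseChange (A := A) (A' := A') B B' (Algebra.linearMap B B')
    (IsBaseChange.linearMap B B') q' q hq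
  unfold rdep at h3
  obtain ⟨hf, -⟩ := fdep_le_fdm (A := A) B q (fdm_self_ne_bot q)
  obtain ⟨hf', -⟩ := fdep_le_fdm (A := A') B' q' (fdm_self_ne_bot q')
  obtain ⟨n, hn⟩ := ENat.ne_top_iff_exists.mp hf
  obtain ⟨n', hn'⟩ := ENat.ne_top_iff_exists.mp hf'
  rw [← hn, ← hn'] at h1 h3
  have e1 : n' + c' = n + c := by exact_mod_cast h1
  have e3 : n' + ftd A' q' = n + ftd A q := by exact_mod_cast h3
  have e4 : c' + ftd A q = c + ftd A' q' := by omega
  apply withBot_eq_of_add_nat_eq (t := c' + ftd A q)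
  have e5 : fdm A' B' q' + ((ftd A' q' : ℕ) : WithBot ℕ∞) + (((c' + ftd A q : ℕ) : ℕ) : WithBot ℕ∞) =
      (fdm A' B' q' + ((c' : ℕ) : WithBot ℕ∞)) +
        (((ftd A' q' + ftd A q : ℕ) : ℕ) : WithBot ℕ∞) := by
    push_cast
    abel
  have e6 : fdm A B q + ((ftd A q : ℕ) : WithBot ℕ∞) + (((c' + ftd A q : ℕ) : ℕ) : WithBot ℕ∞) =
      (fdm A B q + ((c : ℕ) : WithBot ℕ∞)) +
        (((ftd A' q' + ftd A q : ℕ) : ℕ) : WithBot ℕ∞) := by
    rw [e4]
    push_cast
    abel
  rw [e5, e6, h2]

set_option synthInstance.maxHeartbeats 400000 in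
set_option maxHeartbeats 1600000 in
/-- **Base change invariance** of the geometric `(R_k)` locus. -/
theorem goodG_baseChange (k : ℕ) :
    GoodG A' B' k = PrimeSpectrum.comap (algebraMap B B') ⁻¹' GoodG A B k := by
  obtain ⟨k1, k2⟩ := ftd_baseChange (A := A) (B := B) (A' := A') (B' := B')
  have hAA : ∀ (q' : Ideal B'), (q'.comap (algebraMap B B')).under A = (q'.under A').under A := by
    intro q'
    rw [Ideal.under_def, Ideal.under_def, Ideal.under_def, Ideal.comap_comap, Ideal.comap_comap,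
      ← IsScalarTower.algebraMap_eq, ← IsScalarTower.algebraMap_eq]
  have hrl := rlsm_baseChange (A := A) (B := B) (A' := A') (B' := B')
  ext q'
  haveI := q'.2
  constructor
  · intro h z hzq hzA hdim
    haveI := z.2
    obtain ⟨z', hz'p, hz'q', hz'z, hz'A', hz'ftd⟩ := k2 q'.asIdeal z.asIdeal hzq hzA
    haveI := hz'p
    have hd := dlt_baseChange (A := A) (A' := A') z' z.asIdeal hz'z.symm
    rw [hz'ftd] at hd
    have hd' := withBot_eq_of_add_nat_eq hd
    have hmem := h ⟨z', hz'p⟩ hz'q' hz'A' (by rw [hd']; exact hdim)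
    rw [hrl] at hmem
    have hzz : PrimeSpectrum.comap (algebraMap B B') ⟨z', hz'p⟩ = z := PrimeSpectrum.ext hz'z
    rw [Set.mem_preimage, hzz] at hmem
    exact hmem
  · intro h z' hz'q' hz'A' hdim
    haveI := z'.2
    rw [hrl, Set.mem_preimage]
    refine h (PrimeSpectrum.comap (algebraMap B B') z') (Ideal.comap_mono hz'q') ?_ ?_
    · change (z'.asIdeal.comap (algebraMap B B')).under A =
        (q'.asIdeal.comap (algebraMap B B')).under A
      rw [hAA, hAA, hz'A']
    · refine le_trans ?_ hdim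
      have hd := dlt_baseChange (A := A) (A' := A') z'.asIdeal
        (z'.asIdeal.comap (algebraMap B B')) rfl
      have hk := k1 z'.asIdeal (z'.asIdeal.comap (algebraMap B B')) rfl
      apply withBot_le_of_add_nat_le (t := ftd A (z'.asIdeal.comap (algebraMap B B')))
      change fdm A B (z'.asIdeal.comap (algebraMap B B')) + _ ≤ _
      rw [← hd]
      have hk' : ((ftd A' z'.asIdeal : ℕ) : WithBot ℕ∞) ≤
          ((ftd A (z'.asIdeal.comap (algebraMap B B')) : ℕ) : WithBot ℕ∞) := by
        exact_mod_cast hk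
      exact add_le_add_right hk' _

end BC

end

-- ===== part GkC =====
section

open AlgebraicGeometry CategoryTheory Limits TensorProduct Topology
open Groth.Agent.Lib.H9ModFibAlg Groth.Agent.Lib.H9RectDepthAlg Groth.Agent.Lib.H9FibNumerics
open Groth.Agent.Lib.H9FibGeomRk

section Gen

variable {A B : Type u} [CommRing A] [CommRing B] [Algebra A B]

/-- the generic property of an element `g` of the base with respect to a prime `P` of `B`:
it kills `V(P)` if `P` is not dominant, and otherwise bounds the relative transcendence degrees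
along `V(P)`. -/
def GenProp (g : A) (P : PrimeSpectrum B) : Prop :=
  (P.asIdeal.under A ≠ ⊥ → algebraMap A B g ∈ P.asIdeal) ∧
  (P.asIdeal.under A = ⊥ → ∀ (t : Ideal B) [t.IsPrime], P.asIdeal ≤ t → algebraMap A B g ∉ t →
    ftd A t ≤ ftd A P.asIdeal)

theorem GenProp.mul_right {g : A} {P : PrimeSpectrum B} (h : GenProp g P) (g' : A) :
    GenProp (g * g') P := by
  refine ⟨fun hne => ?_, fun hbot t _ hPt hgt => ?_⟩
  · rw [map_mul]
    exact Ideal.mul_mem_right _ _ (h.1 hne)
  · refine h.2 hbot t hPt fun hmem => hgt ?_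
    rw [map_mul]
    exact Ideal.mul_mem_right _ _ hmem

theorem GenProp.mul_left {g : A} {P : PrimeSpectrum B} (h : GenProp g P) (g' : A) :
    GenProp (g' * g) P := by
  rw [mul_comm]
  exact h.mul_right g'

theorem exists_genProp (hUC : CAlg.IsUniversallyCatenary A) [Algebra.FiniteType A B]
    (P : PrimeSpectrum B) : ∃ g : A, g ≠ 0 ∧ GenProp g P := by
  by_cases hP : P.asIdeal.under A = ⊥
  · obtain ⟨g, hg, hgen⟩ := exists_ftd_le (A := A) (B := B) hUC P.asIdeal
    refine ⟨g, fun h0 => hg (by rw [h0]; exact zero_mem _), fun hne => (hne hP).elim,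
      fun _ t _ hPt hgt => hgen t hPt hgt⟩
  · obtain ⟨g, hg, hg0⟩ := Submodule.exists_mem_ne_zero_of_ne_bot hP
    exact ⟨g, hg0, fun _ => hg, fun hbot => (hP hbot).elim⟩

theorem exists_genProp_finite [IsDomain A] (hUC : CAlg.IsUniversallyCatenary A) [Algebra.FiniteType A B]
    (PP : Set (PrimeSpectrum B)) (hfin : PP.Finite) :
    ∃ g : A, g ≠ 0 ∧ ∀ P ∈ PP, GenProp g P := by
  induction PP, hfin using Set.Finite.induction_on with
  | empty => exact ⟨1, one_ne_zero, fun P hP => (Set.notMem_empty P hP).elim⟩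
  | @insert P s hPs hs ih =>
    obtain ⟨g, hg, hgs⟩ := ih
    obtain ⟨g', hg', hgP⟩ := exists_genProp hUC P
    refine ⟨g * g', mul_ne_zero hg hg', ?_⟩
    intro P' hP'
    rcases Set.mem_insert_iff.mp hP' with rfl | hP'
    · exact hgP.mul_left g
    · exact (hgs P' hP').mul_right g'

/-- **strictness of the relative transcendence degree** along strict specializations in a
fibre. -/
theorem ftd_lt_of_lt (hUC : CAlg.IsUniversallyCatenary A) [Algebra.FiniteType A B]
    (P P' : Ideal B) [P.IsPrime] [P'.IsPrime] (hlt : P < P') (hA : P.under A = P'.under A) :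
    ftd A P' < ftd A P := by
  have h := height_map_add_eq (A := A) (B := B) hUC P' P hlt.le
  rw [← hA, Ideal.map_quotient_self] at h
  haveI : (P'.map (Ideal.Quotient.mk P)).IsPrime :=
    Ideal.isPrime_map_quotientMk_of_isPrime hlt.le
  haveI : IsDomain (B ⧸ P) := Ideal.Quotient.isDomain P
  have h0 : (⊥ : Ideal (A ⧸ P.under A)).height = 0 := Ideal.height_bot
  rw [h0, zero_add] at h
  have hne : P'.map (Ideal.Quotient.mk P) ≠ ⊥ := by
    intro hbot
    rw [Ideal.map_eq_bot_iff_le_ker, Ideal.mk_ker] at hbot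
    exact not_le_of_gt hlt hbot
  have h1 : (1 : ℕ∞) ≤ (P'.map (Ideal.Quotient.mk P)).height := by
    rw [Order.one_le_iff_ne_zero]
    intro h0'
    rw [Ideal.height_eq_zero_iff] at h0'
    have hbp : (⊥ : Ideal (B ⧸ P)) ∈ minimalPrimes (B ⧸ P) := by
      rw [IsDomain.minimalPrimes_eq_singleton_bot]
      exact Set.mem_singleton _
    have := h0'.2 hbp.1 bot_le
    exact hne (le_bot_iff.mp this)
  have h2 : (1 : ℕ∞) + (ftd A P' : ℕ∞) ≤ (ftd A P : ℕ∞) := by
    rw [← h]
    exact add_le_add_left h1 _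
  have h3 : 1 + ftd A P' ≤ ftd A P := by exact_mod_cast h2
  omega

end Gen

section Main

variable {B : Type u} [CommRing B]

theorem exists_comp_le {Y : Set (PrimeSpectrum B)} {y : PrimeSpectrum B} (hy : y ∈ Y) :
    ∃ P : PrimeSpectrum B, P.asIdeal ∈ (PrimeSpectrum.vanishingIdeal Y).minimalPrimes ∧
      P.asIdeal ≤ y.asIdeal := by
  have h : PrimeSpectrum.vanishingIdeal Y ≤ y.asIdeal := fun b hb =>
    (PrimeSpectrum.mem_vanishingIdeal _ _).mp hb y hy
  obtain ⟨P, hPmin, hPy⟩ := Ideal.exists_minimalPrimes_le h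
  exact ⟨⟨P, hPmin.1.1⟩, hPmin, hPy⟩

theorem comp_mem {Y : Set (PrimeSpectrum B)} (hY : IsClosed Y) {P : PrimeSpectrum B}
    (hP : P.asIdeal ∈ (PrimeSpectrum.vanishingIdeal Y).minimalPrimes) : P ∈ Y := by
  rw [← hY.closure_eq, ← PrimeSpectrum.zeroLocus_vanishingIdeal_eq_closure,
    PrimeSpectrum.mem_zeroLocus, SetLike.coe_subset_coe]
  exact hP.1.2

theorem finite_comp [IsNoetherianRing B] (Y : Set (PrimeSpectrum B)) :
    {P : PrimeSpectrum B | P.asIdeal ∈ (PrimeSpectrum.vanishingIdeal Y).minimalPrimes}.Finite := by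
  have h := Ideal.finite_minimalPrimes_of_isNoetherianRing B (PrimeSpectrum.vanishingIdeal Y)
  exact h.preimage (fun P _ P' _ h => PrimeSpectrum.ext h)

/-- fibrewise specializations of the points of `Z` of fibre codimension `≤ k`. -/
def BadZ (A : Type u) [CommRing A] [Algebra A B] (Z : Set (PrimeSpectrum B)) (k : ℕ) :
    Set (PrimeSpectrum B) :=
  {q | ∃ z : PrimeSpectrum B, z.asIdeal ≤ q.asIdeal ∧ z.asIdeal.under A = q.asIdeal.under A ∧
    fdm A B z.asIdeal ≤ ((k : ℕ) : WithBot ℕ∞) ∧ z ∈ Z}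

variable {A : Type u} [CommRing A] [Algebra A B] [IsDomain A]

set_option maxHeartbeats 1600000 in
/-- **Generic structure of the fibrewise specializations**: over a dense open of the base, the
fibrewise specializations of the points of a closed set `Z` of fibre codimension `≤ k` form a
closed set (a union of irreducible components of `Z`). -/
theorem exists_generic_badZ (hUC : CAlg.IsUniversallyCatenary A) [Algebra.FiniteType A B]
    (hδ : ∀ d : ℕ, IsOpen {q : PrimeSpectrum B |
      fdm A B q.asIdeal + ((ftd A q.asIdeal : ℕ) : WithBot ℕ∞) ≤ ((d : ℕ) : WithBot ℕ∞)})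
    (Z : Set (PrimeSpectrum B)) (hZ : IsClosed Z) (k : ℕ) :
    ∃ g : A, g ≠ 0 ∧ ∃ C : Set (PrimeSpectrum B), IsClosed C ∧
      ∀ q : PrimeSpectrum B, algebraMap A B g ∉ q.asIdeal → (q ∈ BadZ A Z k ↔ q ∈ C) := by
  classical
  haveI : IsNoetherianRing A := hUC.1
  haveI : IsNoetherianRing B := Algebra.FiniteType.isNoetherianRing A B
  set δle : ℕ → Set (PrimeSpectrum B) := fun d => {q : PrimeSpectrum B |
      fdm A B q.asIdeal + ((ftd A q.asIdeal : ℕ) : WithBot ℕ∞) ≤ ((d : ℕ) : WithBot ℕ∞)} with hδle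
  set comp : Set (PrimeSpectrum B) → Set (PrimeSpectrum B) := fun Y =>
    {P : PrimeSpectrum B | P.asIdeal ∈ (PrimeSpectrum.vanishingIdeal Y).minimalPrimes} with hcomp
  set CP : PrimeSpectrum B → Set (PrimeSpectrum B) := fun P =>
    PrimeSpectrum.zeroLocus (P.asIdeal : Set B) ∩ (δle (k + ftd A P.asIdeal))ᶜ with hCPdef
  have hCP : ∀ P, IsClosed (CP P) := fun P =>
    (PrimeSpectrum.isClosed_zeroLocus _).inter (hδ _).isClosed_compl
  set PP : Set (PrimeSpectrum B) := comp Z ∪ ⋃ P ∈ comp Z, comp (CP P) with hPP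
  have hPPfin : PP.Finite :=
    (finite_comp Z).union ((finite_comp Z).biUnion fun P _ => finite_comp (CP P))
  obtain ⟨g, hg0, hg⟩ := exists_genProp_finite hUC PP hPPfin
  set Idx : Set (PrimeSpectrum B) := {P | P ∈ comp Z ∧ P.asIdeal.under A = ⊥ ∧
    fdm A B P.asIdeal ≤ ((k : ℕ) : WithBot ℕ∞)} with hIdx
  refine ⟨g, hg0, ⋃ P ∈ Idx, PrimeSpectrum.zeroLocus (P.asIdeal : Set B), ?_, ?_⟩
  · exact ((finite_comp Z).subset (fun P hP => hP.1)).isClosed_biUnion fun P _ =>
      PrimeSpectrum.isClosed_zeroLocus _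
  intro q hgq
  constructor
  · rintro ⟨z, hzq, hzA, hdim, hzZ⟩
    haveI := z.2
    obtain ⟨P, hPmin, hPz⟩ := exists_comp_le hzZ
    have hgP := hg P (Or.inl hPmin)
    have hgz : algebraMap A B g ∉ z.asIdeal := fun h => hgq (hzq h)
    have hPbot : P.asIdeal.under A = ⊥ := by
      by_contra hne
      exact hgz (hPz (hgP.1 hne))
    have hftd : ftd A z.asIdeal ≤ ftd A P.asIdeal := hgP.2 hPbot z.asIdeal hPz hgz
    have hfdmP : fdm A B P.asIdeal ≤ ((k : ℕ) : WithBot ℕ∞) := by
      by_contra hnot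
      have hPO : P ∉ δle (k + ftd A P.asIdeal) := by
        intro hmem
        apply hnot
        apply withBot_le_of_add_nat_le (t := ftd A P.asIdeal)
        have h1 : fdm A B P.asIdeal + ((ftd A P.asIdeal : ℕ) : WithBot ℕ∞) ≤
            (((k + ftd A P.asIdeal : ℕ) : ℕ) : WithBot ℕ∞) := hmem
        push_cast at h1
        exact h1
      have hzO : z ∈ δle (k + ftd A P.asIdeal) := by
        show fdm A B z.asIdeal + ((ftd A z.asIdeal : ℕ) : WithBot ℕ∞) ≤
            (((k + ftd A P.asIdeal : ℕ) : ℕ) : WithBot ℕ∞)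
        push_cast
        exact add_le_add hdim (by exact_mod_cast hftd)
      have hspec : P ⤳ z := (PrimeSpectrum.le_iff_specializes P z).mp hPz
      exact hPO (hspec.mem_open (hδ _) hzO)
    refine Set.mem_biUnion (⟨hPmin, hPbot, hfdmP⟩ : P ∈ Idx) ?_
    rw [PrimeSpectrum.mem_zeroLocus, SetLike.coe_subset_coe]
    exact hPz.trans hzq
  · intro hq
    simp only [Set.mem_iUnion] at hq
    obtain ⟨P, ⟨hPmin, hPbot, hfdmP⟩, hPq⟩ := hq
    rw [PrimeSpectrum.mem_zeroLocus, SetLike.coe_subset_coe] at hPq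
    haveI := P.2
    haveI := q.2
    obtain ⟨z, hzp, hPz, hzq, hzA, hftd1⟩ := exists_fibGen_ftd_le hUC P.asIdeal q.asIdeal hPq
    haveI := hzp
    have hgP := hg P (Or.inl hPmin)
    have hgz : algebraMap A B g ∉ z := fun h => hgq (hzq h)
    have hftd2 : ftd A z ≤ ftd A P.asIdeal := hgP.2 hPbot z hPz hgz
    have hftd : ftd A z = ftd A P.asIdeal := le_antisymm hftd2 hftd1
    have hPZ : P ∈ Z := comp_mem hZ hPmin
    have hzZ : (⟨z, hzp⟩ : PrimeSpectrum B) ∈ Z :=
      hZ.stableUnderSpecialization ((PrimeSpectrum.le_iff_specializes P ⟨z, hzp⟩).mp hPz) hPZ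
    have hPO : P ∈ δle (k + ftd A P.asIdeal) := by
      show fdm A B P.asIdeal + ((ftd A P.asIdeal : ℕ) : WithBot ℕ∞) ≤
          (((k + ftd A P.asIdeal : ℕ) : ℕ) : WithBot ℕ∞)
      push_cast
      exact add_le_add_left hfdmP _
    have hzO : (⟨z, hzp⟩ : PrimeSpectrum B) ∈ δle (k + ftd A P.asIdeal) := by
      by_contra hnot
      have hzC : (⟨z, hzp⟩ : PrimeSpectrum B) ∈ CP P := by
        refine ⟨?_, hnot⟩
        rw [PrimeSpectrum.mem_zeroLocus, SetLike.coe_subset_coe]
        exact hPz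
      obtain ⟨P', hP'min, hP'z⟩ := exists_comp_le hzC
      have hP'PP : P' ∈ PP := Or.inr (Set.mem_biUnion hPmin hP'min)
      have hgP' := hg P' hP'PP
      have hP'C : P' ∈ CP P := comp_mem (hCP P) hP'min
      have hPP' : P.asIdeal ≤ P'.asIdeal := by
        have := hP'C.1
        rw [PrimeSpectrum.mem_zeroLocus, SetLike.coe_subset_coe] at this
        exact this
      have hne : P.asIdeal ≠ P'.asIdeal := by
        intro h
        have hPP'eq : P = P' := PrimeSpectrum.ext h
        exact hP'C.2 (hPP'eq ▸ hPO)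
      have hlt : P.asIdeal < P'.asIdeal := lt_of_le_of_ne hPP' hne
      have hP'z' : P'.asIdeal ≤ z := hP'z
      have hgP'z : algebraMap A B g ∉ P'.asIdeal := fun h => hgz (hP'z' h)
      have hP'bot : P'.asIdeal.under A = ⊥ := by
        by_contra hne'
        exact hgP'z (hgP'.1 hne')
      have h1 : ftd A z ≤ ftd A P'.asIdeal := hgP'.2 hP'bot z hP'z' hgz
      have h2 : ftd A P'.asIdeal < ftd A P.asIdeal :=
        ftd_lt_of_lt hUC P.asIdeal P'.asIdeal hlt (hPbot.trans hP'bot.symm)
      omega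
    have hdim : fdm A B z ≤ ((k : ℕ) : WithBot ℕ∞) := by
      apply withBot_le_of_add_nat_le (t := ftd A z)
      have h1 : fdm A B z + ((ftd A z : ℕ) : WithBot ℕ∞) ≤
          (((k + ftd A P.asIdeal : ℕ) : ℕ) : WithBot ℕ∞) := hzO
      rw [← hftd] at h1
      push_cast at h1
      exact h1
    exact ⟨⟨z, hzp⟩, hzq, hzA, hdim, hzZ⟩

end Main

end

-- ===== part GkD =====
section

open AlgebraicGeometry CategoryTheory Limits TensorProduct Topology
open Groth.Agent.Lib.H9ModFibAlg Groth.Agent.Lib.H9RectDepthAlg Groth.Agent.Lib.H9FibNumerics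
open Groth.Agent.Lib.H9FibGeomRk
open Groth.Agent.Lib.Helper5.GenDepth Groth.Agent.Lib.Helper5.CodepthOpen
open Groth.Agent.Lib.Helper4.FibDim

attribute [local instance] Algebra.TensorProduct.rightAlgebra

variable (A B : Type u) [CommRing A] [CommRing B] [Algebra A B] [Algebra.FiniteType A B]

set_option synthInstance.maxHeartbeats 400000 in
set_option maxHeartbeats 1600000 in
/-- the local dimension of the fibre at a point is the dimension of the fibre local ring plus
the transcendence degree of the residue field. -/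
theorem fibLD_eq (q : PrimeSpectrum B) :
    fibLD (PrimeSpectrum.comap (algebraMap A B)) q =
      fdm A B q.asIdeal + ((ftd A q.asIdeal : ℕ) : WithBot ℕ∞) := by
  rw [fibLD_comap_eq]
  set p := PrimeSpectrum.comap (algebraMap A B) q with hp
  set Q := PrimeSpectrum.preimageHomeomorphFiber A B p ⟨q, rfl⟩ with hQ
  have hQq : PrimeSpectrum.comap Algebra.TensorProduct.includeRight.toRingHom Q = q :=
    comap_includeRight_preimageHomeomorphFiber p.asIdeal ⟨q, rfl⟩
  haveI : Algebra.FiniteType p.asIdeal.ResidueField (p.asIdeal.Fiber B) := inferInstance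
  haveI hN : IsNoetherianRing (p.asIdeal.Fiber B) :=
    Algebra.FiniteType.isNoetherianRing p.asIdeal.ResidueField (p.asIdeal.Fiber B)
  obtain ⟨n, e, hn, he, -, he'⟩ :=
    Groth.Agent.Lib.Helper14.LocalDim.exists_dims (k := p.asIdeal.ResidueField) Q.asIdeal
  have h2 := Groth.Agent.Lib.Helper14.LocalDim.localDim_eq (k := p.asIdeal.ResidueField)
    Q.asIdeal n e hn he he'
  have hQq' : q.asIdeal = Q.asIdeal.comap (algebraMap B (p.asIdeal.Fiber B)) :=
    (congrArg PrimeSpectrum.asIdeal hQq).symm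
  -- the transcendence degree
  have h3 : ftd p.asIdeal.ResidueField Q.asIdeal = ftd A q.asIdeal :=
    ftd_fiber_eq p.asIdeal Q.asIdeal q.asIdeal hQq'
  have h4 := ftd_field_eq_dim (K := p.asIdeal.ResidueField) Q.asIdeal
  rw [he, h3] at h4
  -- the dimension
  obtain ⟨-, h5⟩ := fibMap_numerics B p.asIdeal Q
  have h6 : (fibMap p.asIdeal Q).asIdeal = q.asIdeal := hQq'.symm
  obtain ⟨-, h7⟩ := fdep_congr (A := A) B h6
  obtain ⟨-, h8⟩ := dep_dm_congr Q.asIdeal
    (TensorProduct.AlgebraTensorModule.rid B (p.asIdeal.Fiber B) (p.asIdeal.Fiber B))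
  obtain ⟨-, h9⟩ := dep_dm_self Q.asIdeal
  have h10 : fdm A B q.asIdeal = ((n : ℕ) : WithBot ℕ∞) := by
    rw [← h7, h5, h8, h9, Module.supportDim_self_eq_ringKrullDim,
      IsLocalization.AtPrime.ringKrullDim_eq_height Q.asIdeal, hn]
    rfl
  rw [h10]
  have h11 : ((ftd A q.asIdeal : ℕ) : WithBot ℕ∞) = ((e : ℕ) : WithBot ℕ∞) := h4
  rw [h11]
  refine Eq.trans ?_ (by rfl)
  exact h2

/-- **Chevalley's semicontinuity**, numerically. -/
theorem isOpen_dlt_le (d : ℕ) : IsOpen {q : PrimeSpectrum B |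
    fdm A B q.asIdeal + ((ftd A q.asIdeal : ℕ) : WithBot ℕ∞) ≤ ((d : ℕ) : WithBot ℕ∞)} := by
  have h := isOpen_setOf_fibLD_comap_le A B d
  convert h using 1
  ext q
  rw [Set.mem_ofPred_eq, Set.mem_ofPred_eq, fibLD_eq]

end

-- ===== part GkE =====
section

open AlgebraicGeometry CategoryTheory Limits TensorProduct Topology TopologicalSpace
open Groth.Agent.Lib.H9ModFibAlg Groth.Agent.Lib.H9RectDepthAlg Groth.Agent.Lib.H9FibNumerics
open Groth.Agent.Lib.H9FibGeomRk Groth.Agent.Lib.H9RectDepthConstr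
open Groth.Agent.Lib.Helper5.FibSmConstr Groth.Agent.Lib.Helper2.GenFree
open Groth.Agent.Lib.H9ModLocus

attribute [local instance] Algebra.TensorProduct.rightAlgebra

theorem isLocalization_away_tensor (A B : Type u) [CommRing A] [CommRing B] [Algebra A B] (g : A) :
    IsLocalization.Away (algebraMap A B g) (Localization.Away g ⊗[A] B) := by
  have hloc : IsLocalization (Algebra.algebraMapSubmonoid B (Submonoid.powers g))
      (Localization.Away g ⊗[A] B) :=
    (Algebra.isLocalization_iff_isPushout (Submonoid.powers g) (Localization.Away g)).mpr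
      inferInstance
  have h : Algebra.algebraMapSubmonoid B (Submonoid.powers g) =
      Submonoid.powers (algebraMap A B g) := Submonoid.map_powers _ _
  rw [h] at hloc
  exact hloc

/-- in the flat case the ring-level fibrewise smooth locus is open. -/
theorem isOpen_rlsm_of_flat (A B : Type u) [CommRing A] [CommRing B] [Algebra A B]
    [Algebra.FinitePresentation A B] [Module.Flat A B] : IsOpen (RLsm A B) := by
  haveI : Flat (Spec.map (CommRingCat.ofHom (algebraMap A B))) :=
    Flat.SpecMap_iff.mpr (RingHom.flat_algebraMap_iff.mpr inferInstance)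
  haveI : LocallyOfFinitePresentation (Spec.map (CommRingCat.ofHom (algebraMap A B))) := by
    rw [LocallyOfFinitePresentation.SpecMap_iff, CommRingCat.hom_ofHom,
      RingHom.finitePresentation_algebraMap]
    infer_instance
  unfold RLsm
  rw [lsm_eq_smoothLocus_of_flat]
  exact (Scheme.Hom.smoothLocus _).2

set_option synthInstance.maxHeartbeats 400000 in
set_option maxHeartbeats 1600000 in
/-- **the generic step** for the geometric `(R_k)` locus. -/
theorem goodG_gen (k : ℕ) : ModLocus.Gen (fun A B M _ _ _ _ _ => GoodG A B k) := by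
  intro A₁ B₁ M₁ _ _ _ _ _ _ _ _ _ hA₁
  haveI : IsNoetherianRing A₁ := Algebra.FiniteType.isNoetherianRing ℤ A₁
  have hUC : CAlg.IsUniversallyCatenary A₁ := isUniversallyCatenary_of_finiteType_int A₁ hA₁
  obtain ⟨g₀, hg₀, hfree, -, -, -⟩ := exists_freeAway A₁ B₁ B₁
  -- the flat part
  haveI : Module.Free (Localization.Away g₀) (Localization.Away g₀ ⊗[A₁] B₁) :=
    hfree.free (Localization.Away g₀) (TensorProduct.mk A₁ (Localization.Away g₀) B₁ 1)
  haveI : IsNoetherianRing (Localization.Away g₀) :=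
    IsLocalization.isNoetherianRing (Submonoid.powers g₀) _ inferInstance
  haveI : Algebra.FinitePresentation (Localization.Away g₀) (Localization.Away g₀ ⊗[A₁] B₁) :=
    Algebra.FinitePresentation.of_finiteType.mp inferInstance
  have hopen₀ := isOpen_rlsm_of_flat (Localization.Away g₀) (Localization.Away g₀ ⊗[A₁] B₁)
  haveI hloc₀ := isLocalization_away_tensor A₁ B₁ g₀
  have hemb := PrimeSpectrum.localization_away_isOpenEmbedding (Localization.Away g₀ ⊗[A₁] B₁)
    (algebraMap A₁ B₁ g₀)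
  have hrange := PrimeSpectrum.localization_away_comap_range (Localization.Away g₀ ⊗[A₁] B₁)
    (algebraMap A₁ B₁ g₀)
  have hbc₀ := rlsm_baseChange (A := A₁) (B := B₁) (A' := Localization.Away g₀)
    (B' := Localization.Away g₀ ⊗[A₁] B₁)
  set D₀ : Set (PrimeSpectrum B₁) := {q | algebraMap A₁ B₁ g₀ ∉ q.asIdeal} with hD₀
  have hW : IsOpen (RLsm A₁ B₁ ∩ D₀) := by
    have h1 : RLsm A₁ B₁ ∩ D₀ = PrimeSpectrum.comap (algebraMap B₁ (Localization.Away g₀ ⊗[A₁] B₁)) ''
        RLsm (Localization.Away g₀) (Localization.Away g₀ ⊗[A₁] B₁) := by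
      rw [hbc₀, Set.image_preimage_eq_inter_range, hrange]
      rfl
    rw [h1]
    exact hemb.isOpenMap _ hopen₀
  obtain ⟨g₁, hg₁, C, hC, hCq⟩ := exists_generic_badZ hUC (isOpen_dlt_le A₁ B₁)
    (RLsm A₁ B₁ ∩ D₀)ᶜ hW.isClosed_compl k
  refine ⟨g₀ * g₁, mul_ne_zero hg₀ hg₁, ?_⟩
  show IsConstructible (GoodG (Localization.Away (g₀ * g₁))
    (Localization.Away (g₀ * g₁) ⊗[A₁] B₁) k)
  rw [goodG_baseChange (A := A₁) (B := B₁) (A' := Localization.Away (g₀ * g₁))
    (B' := Localization.Away (g₀ * g₁) ⊗[A₁] B₁)]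
  have heq : PrimeSpectrum.comap (algebraMap B₁ (Localization.Away (g₀ * g₁) ⊗[A₁] B₁)) ⁻¹'
      GoodG A₁ B₁ k =
      PrimeSpectrum.comap (algebraMap B₁ (Localization.Away (g₀ * g₁) ⊗[A₁] B₁)) ⁻¹' Cᶜ := by
    ext q''
    set q := PrimeSpectrum.comap (algebraMap B₁ (Localization.Away (g₀ * g₁) ⊗[A₁] B₁)) q''
      with hq
    have hgq : algebraMap A₁ B₁ (g₀ * g₁) ∉ q.asIdeal := by
      intro hmem
      have h1 : algebraMap B₁ (Localization.Away (g₀ * g₁) ⊗[A₁] B₁)
          (algebraMap A₁ B₁ (g₀ * g₁)) ∈ q''.asIdeal := hmem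
      rw [← IsScalarTower.algebraMap_apply,
        IsScalarTower.algebraMap_apply A₁ (Localization.Away (g₀ * g₁))
          (Localization.Away (g₀ * g₁) ⊗[A₁] B₁)] at h1
      exact q''.2.ne_top (Ideal.eq_top_of_isUnit_mem _ h1
        ((IsLocalization.Away.algebraMap_isUnit (g₀ * g₁)).map _))
    have hg₀q : algebraMap A₁ B₁ g₀ ∉ q.asIdeal := by
      intro hmem
      apply hgq
      rw [map_mul]
      exact Ideal.mul_mem_right _ _ hmem
    have hg₁q : algebraMap A₁ B₁ g₁ ∉ q.asIdeal := by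
      intro hmem
      apply hgq
      rw [map_mul]
      exact Ideal.mul_mem_left _ _ hmem
    show q ∈ GoodG A₁ B₁ k ↔ q ∉ C
    rw [← hCq q hg₁q]
    constructor
    · rintro h ⟨z, hzq, hzA, hdim, hzW⟩
      exact hzW ⟨h z hzq hzA hdim, fun hmem => hg₀q (hzq hmem)⟩
    · intro h z hzq hzA hdim
      by_contra hns
      exact h ⟨z, hzq, hzA, hdim, fun hW' => hns hW'.1⟩
  rw [heq]
  haveI : IsNoetherianRing (Localization.Away (g₀ * g₁)) :=
    IsLocalization.isNoetherianRing (Submonoid.powers (g₀ * g₁)) _ inferInstance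
  haveI : IsNoetherianRing (Localization.Away (g₀ * g₁) ⊗[A₁] B₁) :=
    Algebra.FiniteType.isNoetherianRing (Localization.Away (g₀ * g₁)) _
  apply Groth.Agent.Lib.Helper5.LocusGeneric.IsOpen.isConstructible_of_noetherianSpace
  exact hC.isOpen_compl.preimage (PrimeSpectrum.continuous_comap _)

end

-- ===== part GkF =====
section

open AlgebraicGeometry CategoryTheory Limits TensorProduct Topology TopologicalSpace
open Groth.Agent.Lib.H9ModFibAlg Groth.Agent.Lib.H9RectDepthAlg Groth.Agent.Lib.H9FibNumerics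
open Groth.Agent.Lib.H9FibGeomRk Groth.Agent.Lib.H9RectDepthConstr
open Groth.Agent.Lib.H9FibNumericsSch
open Groth.Agent.Lib.Helper5.FibSmConstr
open Groth.Agent.Lib.H9ModLocus

theorem goodG_bc (k : ℕ) : ModLocus.BC (fun A B M _ _ _ _ _ => GoodG A B k) := by
  intro A B A' B' _ _ _ _ _ _ _ _ _ _ _ _ _ M _ _ _ M' _ _ _ _ f hf
  exact goodG_baseChange k

/-- **Constructibility of the geometric `(R_k)` locus**, ring level. -/
theorem isConstructible_goodG (k : ℕ) (A B : Type u) [CommRing A] [CommRing B] [Algebra A B]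
    [Algebra.FinitePresentation A B] : IsConstructible (GoodG A B k) :=
  isConstructible_of_generic_fp (fun A B M _ _ _ _ _ => GoodG A B k) (goodG_bc k) (goodG_gen k)
    A B B

section Chart

variable {X Y : Scheme.{u}} (f : X ⟶ Y) {U : X.Opens} (hU : IsAffineOpen U)
  {V : Y.Opens} (hV : IsAffineOpen V) (hUV : U ≤ f ⁻¹ᵁ V)

include hV in
set_option maxHeartbeats 800000 in
/-- the fibrewise smooth locus in a chart. -/
theorem mem_lsm_chart' [LocallyOfFiniteType f] (x : X) (hxU : x ∈ U) :
    letI : Algebra Γ(Y, V) Γ(X, U) := (f.appLE V U hUV).hom.toAlgebra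
    x ∈ Lsm f ↔ hU.primeIdealOf ⟨x, hxU⟩ ∈ RLsm Γ(Y, V) Γ(X, U) := by
  letI aVU : Algebra Γ(Y, V) Γ(X, U) := (f.appLE V U hUV).hom.toAlgebra
  have h1 : Lsm (hU.fromSpec ≫ f) = hU.fromSpec ⁻¹' Lsm f :=
    lsm_openImmersion f hU.fromSpec inferInstance
  have hcomm : Spec.map (f.appLE V U hUV) ≫ hV.fromSpec = hU.fromSpec ≫ f :=
    hV.SpecMap_appLE_fromSpec f hU hUV
  have hp : IsPullback (𝟙 (Spec Γ(X, U))) (Spec.map (f.appLE V U hUV))
      (Spec.map (f.appLE V U hUV) ≫ hV.fromSpec) hV.fromSpec := by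
    have h0 : IsPullback (𝟙 (Spec Γ(X, U))) (Spec.map (f.appLE V U hUV))
        (Spec.map (f.appLE V U hUV)) (𝟙 (Spec Γ(Y, V))) := IsPullback.of_horiz_isIso ⟨by simp⟩
    have := h0.paste_vert (IsKernelPair.id_of_mono hV.fromSpec)
    simpa using this
  have hft : LocallyOfFiniteType (Spec.map (f.appLE V U hUV) ≫ hV.fromSpec) := by
    rw [hcomm]
    infer_instance
  have h2 : Lsm (Spec.map (f.appLE V U hUV)) =
      (𝟙 (Spec Γ(X, U)) : Spec Γ(X, U) ⟶ Spec Γ(X, U)) ⁻¹'
        Lsm (Spec.map (f.appLE V U hUV) ≫ hV.fromSpec) :=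
    lsm_baseChange_ft _ _ _ _ hft hp
  let y : ↥(Spec Γ(X, U)) := hU.primeIdealOf ⟨x, hxU⟩
  have hx : hU.fromSpec y = x := hU.fromSpec_primeIdealOf ⟨x, hxU⟩
  have e1 : x ∈ Lsm f ↔ y ∈ Lsm (hU.fromSpec ≫ f) := by
    rw [h1, Set.mem_preimage, hx]
  have e2 : y ∈ Lsm (hU.fromSpec ≫ f) ↔ y ∈ Lsm (Spec.map (f.appLE V U hUV)) := by
    rw [← hcomm, h2]
    rfl
  exact e1.trans e2

include hV in
set_option maxHeartbeats 800000 in
theorem geomRkFib_chart' [LocallyOfFinitePresentation f]
    (hft : (f.appLE V U hUV).hom.FiniteType) (k : ℕ) (x : X) (hxU : x ∈ U) :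
    letI : Algebra Γ(Y, V) Γ(X, U) := (f.appLE V U hUV).hom.toAlgebra
    GeomRkFib f k x ↔ hU.primeIdealOf ⟨x, hxU⟩ ∈ GoodG Γ(Y, V) Γ(X, U) k := by
  letI aVU : Algebra Γ(Y, V) Γ(X, U) := (f.appLE V U hUV).hom.toAlgebra
  rw [geomRkFib_iff]
  have h1 := forall_fibGen_chart f hU hV hUV x hxU
    (fun x' => ringKrullDim ((f.fiber (f.base x')).presheaf.stalk (f.asFiber x')) ≤ k →
      x' ∈ Lsm f)
    (fun z => fdm Γ(Y, V) Γ(X, U) z.asIdeal ≤ ((k : ℕ) : WithBot ℕ∞) →
      z ∈ RLsm Γ(Y, V) Γ(X, U))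
    (fun x' h => by
      have e1 := dim_stalk_chart f hU hV hUV hft x' h ((k : ℕ) : WithBot ℕ∞)
      have e2 := mem_lsm_chart' f hU hV hUV x' h
      exact imp_congr e1 e2)
  exact h1

end Chart

set_option synthInstance.maxHeartbeats 400000 in
set_option maxHeartbeats 1600000 in
/-- **EGA IV 9.9.x**: the geometric `(R_k)` locus of the fibres (tested on finite extensions) is
locally constructible. -/
theorem isLocallyConstructible_geomRkFib {X Y : Scheme.{u}} (f : X ⟶ Y)
    [LocallyOfFinitePresentation f] (k : ℕ) :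
    IsLocallyConstructible {x : X | GeomRkFib f k x} := by
  intro x
  obtain ⟨U, hU, V, hV, hUV, hxU, hfp⟩ := exists_chart_ring f x
  letI aVU : Algebra Γ(Y, V) Γ(X, U) := (f.appLE V U hUV).hom.toAlgebra
  haveI : Algebra.FinitePresentation Γ(Y, V) Γ(X, U) := hfp
  have hft : (f.appLE V U hUV).hom.FiniteType := RingHom.FiniteType.of_finitePresentation hfp
  have hW := isConstructible_goodG k Γ(Y, V) Γ(X, U)
  refine ⟨U, U.isOpen.mem_nhds hxU, U.isOpen, ?_⟩
  have hpre := hU.isoSpec.hom.isConstructible_preimage hW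
  have heq : (Subtype.val : ↥U → X) ⁻¹' {x : X | GeomRkFib f k x} =
      (fun y : U => hU.primeIdealOf y) ⁻¹' GoodG Γ(Y, V) Γ(X, U) k := by
    ext ⟨x', hx'⟩
    exact geomRkFib_chart' f hU hV hUV hft k x' hx'
  change IsConstructible ((Subtype.val : ↥U → X) ⁻¹' _)
  rw [heq]
  exact hpre

end

-- ===== part GkG =====
section

open AlgebraicGeometry CategoryTheory Limits TensorProduct Topology
open Groth.Agent.Lib.Helper6.BcBridge Groth.Agent.Lib.Helper6.BcAlg Groth.Agent.Lib.Helper6.BcGeom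
open Groth.Agent.Lib.Helper28
open Groth.Agent.Lib.H9FibGeomRk Groth.Agent.Lib.H9FibGeomNormal
open Groth.Agent.Lib.H9FibNumericsSch
open Groth.Agent.Lib.Helper5.FibSmConstr

section Field

variable (k : Type u) [Field k] (X : Scheme.{u}) [X.Over (Spec (CommRingCat.of k))]
  [LocallyOfFinitePresentation (X ↘ Spec (CommRingCat.of k))]

set_option synthInstance.maxHeartbeats 400000 in
set_option maxHeartbeats 1600000 in
/-- if the generizations of `x` of codimension `≤ n` are smooth points, then `(R_n)` holds at the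
points over `x` after an arbitrary extension of the base field. -/
theorem hasRk_bc_of_forall_smooth (n : ℕ) (x : X)
    (h : ∀ z : X, z ⤳ x → ringKrullDim (X.presheaf.stalk z) ≤ n →
      z ∈ (X ↘ Spec (CommRingCat.of k)).smoothLocus)
    (K : Type u) [Field K] [Algebra k K] (x' : Curv2.bc k X K)
    (hx' : Curv2.bcFst k X K x' = x) :
    LocCoh.HasRk n ((Curv2.bc k X K).presheaf.stalk x') := by
  haveI : IsLocallyNoetherian X :=
    LocallyOfFiniteType.isLocallyNoetherian (X ↘ Spec (CommRingCat.of k))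
  obtain ⟨R, _, _, ι, _, hι, q₀, rfl⟩ := exists_chart k X x
  haveI hfpR : Algebra.FinitePresentation k R := by
    have h1 : LocallyOfFinitePresentation (ι ≫ (X ↘ Spec (CommRingCat.of k))) := inferInstance
    rw [hι, LocallyOfFinitePresentation.SpecMap_iff, CommRingCat.hom_ofHom,
      RingHom.finitePresentation_algebraMap] at h1
    exact h1
  haveI : IsNoetherianRing R := Algebra.FiniteType.isNoetherianRing k R
  have hdimq : ∀ q : PrimeSpectrum R,
      ringKrullDim (X.presheaf.stalk (ι q)) = ((q.asIdeal.height : ℕ∞) : WithBot ℕ∞) := by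
    intro q
    rw [ringKrullDim_eq_of_ringEquiv (stalkEquivSpec ι q),
      IsLocalization.AtPrime.ringKrullDim_eq_height q.asIdeal (Localization.AtPrime q.asIdeal)]
  obtain ⟨Q, hQ, ⟨e⟩⟩ := exists_prime_of_point_left k X K ι hι x' q₀ hx'.symm
  refine hasRk_of_ringEquiv e.symm n ?_
  rw [hasRk_localization_atPrime_iff]
  intro Q' hQ'p hQ'Q hQ'ht
  set q' : PrimeSpectrum R := PrimeSpectrum.comap (Algebra.TensorProduct.includeLeftRingHom)
    (⟨Q', hQ'p⟩ : PrimeSpectrum (R ⊗[k] K)) with hq'
  have hq'le : q'.asIdeal ≤ q₀.asIdeal := by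
    rw [← hQ]
    exact Ideal.comap_mono hQ'Q
  have hspec : ι q' ⤳ ι q₀ :=
    ((PrimeSpectrum.le_iff_specializes q' q₀).mp hq'le).map ι.continuous
  haveI : Q'.LiesOver q'.asIdeal := ⟨rfl⟩
  have hht : q'.asIdeal.height ≤ Q'.height :=
    Groth.Agent.Lib.Helper5.height_le_height_of_liesOver_of_hasGoingDown
      (A := R) (B := R ⊗[k] K) q'.asIdeal Q'
  have hsm := h (ι q') hspec (by
    rw [hdimq q']
    have h2 : (((q'.asIdeal.height : ℕ∞)) : WithBot ℕ∞) ≤ (((n : ℕ) : ℕ∞) : WithBot ℕ∞) :=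
      WithBot.coe_le_coe.mpr (hht.trans hQ'ht)
    exact h2)
  obtain ⟨y', hy', ⟨e'⟩⟩ := exists_point_of_prime_left k X K ι hι ⟨Q', hQ'p⟩
  haveI := Groth.Agent.Lib.Helper6.GeomRegAt.isRegularLocalRing_stalk_of_mem_smoothLocus k X
    (X ↘ Spec (CommRingCat.of k)) K (Spec.map (CommRingCat.ofHom (algebraMap k K))) y' (by
      have : pullback.fst (X ↘ Spec (CommRingCat.of k))
          (Spec.map (CommRingCat.ofHom (algebraMap k K))) y' = ι q' := hy'
      rw [this]
      exact hsm)
  exact IsRegularLocalRing.of_ringEquiv e'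

end Field

section Fib

variable {X Y : Scheme.{u}} (f : X ⟶ Y)

/-- the geometric `(R_k)` condition tested on all field extensions is the one tested on finite
extensions. -/
theorem geomRkAll_iff [LocallyOfFinitePresentation f] (k : ℕ) (x : X) :
    (∀ (K : Type u) [Field K] [Algebra (IsLocalRing.ResidueField (Y.presheaf.stalk (f.base x))) K]
        (x' : ↥(FBase.bc (f.fiberToSpecResidueField (f.base x)) K)),
        (FBase.bcπ (f.fiberToSpecResidueField (f.base x)) K).base x' = f.asFiber x →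
          LocCoh.HasRk k
            ((FBase.bc (f.fiberToSpecResidueField (f.base x)) K).presheaf.stalk x')) ↔
      GeomRkFib f k x := by
  constructor
  · intro h K _ _ _ x' hx'
    exact h K x' hx'
  · intro h K _ _ x' hx'
    letI : (f.fiber (f x)).Over (Spec (CommRingCat.of (IsLocalRing.ResidueField
        (Y.presheaf.stalk (f.base x))))) := ⟨f.fiberToSpecResidueField (f x)⟩
    haveI : LocallyOfFinitePresentation ((f.fiber (f x)) ↘ Spec (CommRingCat.of
        (IsLocalRing.ResidueField (Y.presheaf.stalk (f.base x))))) :=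
      lfp_fiberToSpecResidueField f (f x)
    have h1 : GeomRk (IsLocalRing.ResidueField (Y.presheaf.stalk (f.base x)))
        (f.fiber (f x)) k (f.asFiber x) := fun K _ _ hK y hy => h K hK y hy
    rw [geomRk_iff] at h1
    exact hasRk_bc_of_forall_smooth (IsLocalRing.ResidueField (Y.presheaf.stalk (f.base x)))
      (f.fiber (f x)) k (f.asFiber x) h1 K x' hx'

/-- **S3454**. -/
theorem isLocallyConstructible_geomRkAll [LocallyOfFinitePresentation f] (k : ℕ) :
    IsLocallyConstructible {x : X |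
      ∀ (K : Type u) [Field K] [Algebra (IsLocalRing.ResidueField (Y.presheaf.stalk (f.base x))) K]
        (x' : ↥(FBase.bc (f.fiberToSpecResidueField (f.base x)) K)),
        (FBase.bcπ (f.fiberToSpecResidueField (f.base x)) K).base x' = f.asFiber x →
          LocCoh.HasRk k
            ((FBase.bc (f.fiberToSpecResidueField (f.base x)) K).presheaf.stalk x')} := by
  have h := isLocallyConstructible_geomRkFib f k
  convert h using 1
  ext x
  exact geomRkAll_iff f k x

end Fib

end

end Groth.Agent.Lib.H9FibGeomRkConstr
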