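import Mathlib
import Groth.Agent.Lib.Helper5RelCMOpen

/-! Openness of the locus where a morphism locally of finite presentation is flat with fibre of codepth at most n (EGA IV 12.1.1 (vii)); port of Helper5RelCMOpen from the Cohen-Macaulay case n = 0 to general n (helper9). -/

set_option autoImplicit false
set_option linter.style.haveILetI false
set_option linter.unusedSimpArgs false
set_option linter.unusedVariables false
universe u

namespace Groth.Agent.Lib.H9RelCodepth

-- ===== part RelCodepthA =====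
section

open CategoryTheory CategoryTheory.Limits AlgebraicGeometry Topology TensorProduct TopologicalSpace
  IsLocalRing
open Groth.Agent.Lib.Helper5.CodepthFib Groth.Agent.Lib.Helper5.LocusGeneric
  Groth.Agent.Lib.Helper5.FibCodepthConstr
  Groth.Agent.Lib.Helper5.FiberMor Groth.Agent.Lib.Helper5.FiberRing Groth.Agent.Lib.Helper5.FiberBC
  Groth.Agent.Lib.Helper5.CodepthOpen
  Groth.Agent.Lib.Helper5.CMLocusOpen Groth.Agent.Lib.Helper5.GrpCM
  Groth.Agent.Lib.Helper5.GenDepth Groth.Agent.Lib.Helper28 LocCoh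
  Groth.Agent.Lib.Helper5.RelCMOpen

section Scheme

theorem codepthLE_stalk_fromSpec_iff (n : ℕ) {X : Scheme.{u}} {U : X.Opens} (hU : IsAffineOpen U)
    (y : Spec Γ(X, U)) :
    CodepthLE n (X.presheaf.stalk (hU.fromSpec y)) ↔
      CodepthLE n (Localization.AtPrime y.asIdeal) := by
  have e : X.presheaf.stalk (hU.fromSpec y) ≃+* Localization.AtPrime y.asIdeal :=
    (asIso (hU.fromSpec.stalkMap y)).commRingCatIsoToRingEquiv.trans
      (Spec.stalkIso _ y).commRingCatIsoToRingEquiv
  exact ⟨isoInv_codepthLE n _ _ e, isoInv_codepthLE n _ _ e.symm⟩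

theorem codepthLE_stalk_of_specializes (n : ℕ) {X : Scheme.{u}} [IsLocallyNoetherian X]
    {z z' : X} (h : z' ⤳ z) (hz : CodepthLE n (X.presheaf.stalk z)) :
    CodepthLE n (X.presheaf.stalk z') := by
  obtain ⟨_, ⟨U, hU : IsAffineOpen U, rfl⟩, hzU, -⟩ :=
    X.isBasis_affineOpens.exists_subset_of_mem_open (Set.mem_univ z) isOpen_univ
  have hz'U : z' ∈ U := h.mem_open U.2 hzU
  haveI : IsNoetherianRing Γ(X, U) := IsLocallyNoetherian.component_noetherian ⟨U, hU⟩
  obtain ⟨p, rfl⟩ : ∃ p, hU.fromSpec p = z := ⟨_, hU.fromSpec_primeIdealOf ⟨z, hzU⟩⟩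
  obtain ⟨p', rfl⟩ : ∃ p', hU.fromSpec p' = z' := ⟨_, hU.fromSpec_primeIdealOf ⟨z', hz'U⟩⟩
  have hsp : p' ⤳ p := hU.fromSpec.isOpenEmbedding.isInducing.specializes_iff.mp h
  have hle : p'.asIdeal ≤ p.asIdeal := (PrimeSpectrum.le_iff_specializes p' p).mpr hsp
  rw [codepthLE_stalk_fromSpec_iff n hU] at hz ⊢
  rw [codepthLE_localization_iff] at hz ⊢
  exact codepth_generization Γ(X, U) n hle hz

/-- base change invariance of the codepth of fibre local rings, with explicit image point. -/
theorem codepthLE_fiber_bc_iff (n : ℕ) {X Y X' Y' : Scheme.{u}} {f : X ⟶ Y} {g : Y' ⟶ Y}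
    {f' : X' ⟶ Y'} {g' : X' ⟶ X} [LocallyOfFiniteType f] (hsq : IsPullback g' f' f g) (x' : X')
    (x : X) (hx : g' x' = x) :
    CodepthLE n ((f'.fiber (f' x')).presheaf.stalk (f'.asFiber x')) ↔
      CodepthLE n ((f.fiber (f x)).presheaf.stalk (f.asFiber x)) := by
  subst hx
  haveI : LocallyOfFiniteType (f.fiberToSpecResidueField (f (g' x'))) := by
    dsimp only [Scheme.Hom.fiberToSpecResidueField]
    exact MorphismProperty.pullback_snd (P := @LocallyOfFiniteType) f _ inferInstance
  haveI : IsLocallyNoetherian (f.fiber (f (g' x'))) :=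
    LocallyOfFiniteType.isLocallyNoetherian (f.fiberToSpecResidueField (f (g' x')))
  exact fiber_stalk_baseChange_iff_of_ringBCInv
    (ringBCInv_of_fibCMInv (fibCMInv_codepthLE n) (isoInv_codepthLE n)) (isoInv_codepthLE n)
    hsq x' (Or.inl inferInstance)

/-- over a Cohen–Macaulay base ring, a flat morphism locally of finite type has local ring of
codepth `≤ n` at `z` iff the fibre through `z` has codepth `≤ n` at `z`. -/
theorem codepthLE_stalk_iff_fiber_of_cmRing (n : ℕ) {D : Type u} [CommRing D]
    [hCM : IsCohenMacaulayRing D]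
    {X : Scheme.{u}} (f : X ⟶ Spec (CommRingCat.of D)) [LocallyOfFiniteType f] [Flat f] (z : X) :
    CodepthLE n (X.presheaf.stalk z) ↔
      CodepthLE n ((f.fiber (f z)).presheaf.stalk (f.asFiber z)) := by
  haveI : IsNoetherianRing D := hCM.toIsNoetherian
  haveI : IsLocallyNoetherian X := LocallyOfFiniteType.isLocallyNoetherian f
  have hY : IsCohenMacaulayLocalRing ((Spec (CommRingCat.of D)).presheaf.stalk (f z)) :=
    isoInv_cm _ _ (Spec.stalkIso (CommRingCat.of D) _).commRingCatIsoToRingEquiv.symm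
      (hCM.isCohenMacaulayLocalRing_localization _)
  exact flat_iff_of_baseCM f z (baseCMInv_codepthLE n) (isoInv_codepthLE n) (Flat.stalkMap f z) hY

end Scheme

section Affine

variable {A C : Type u} [CommRing A] [CommRing C] [Algebra A C] [IsNoetherianRing A]
  [IsNoetherianRing C] [Module.Flat A C] [Algebra.FiniteType A C]

/-- the fibre through `x` of `Spec C ⟶ Spec A` has codepth `≤ n` at `x`. -/
def CDfib (n : ℕ) (A C : Type u) [CommRing A] [CommRing C] [Algebra A C]
    (x : Spec (CommRingCat.of C)) : Prop :=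
  CodepthLE n
    (((Spec.map (CommRingCat.ofHom (algebraMap A C))).fiber
      ((Spec.map (CommRingCat.ofHom (algebraMap A C))) x)).presheaf.stalk
      ((Spec.map (CommRingCat.ofHom (algebraMap A C))).asFiber x))

theorem cdfib_step (n : ℕ) (Q' : Ideal C) [hQ' : Q'.IsPrime] (p : Ideal (C ⧸ Q')) [hp : p.IsPrime]
    (hht : p.height ≤ 1)
    (h₁ : CDfib n A C ⟨p.comap (Ideal.Quotient.mk Q'), inferInstance⟩) :
    CDfib n A C ⟨Q', hQ'⟩ := by
  haveI : IsDomain (C ⧸ Q') := Ideal.Quotient.isDomain Q'
  haveI : IsDomain (Localization.AtPrime p) :=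
    IsLocalization.isDomain_localization
      (le_nonZeroDivisors_of_noZeroDivisors (fun h0 => h0 (zero_mem p)))
  haveI : IsNoetherianRing (Localization.AtPrime p) :=
    IsLocalization.isNoetherianRing p.primeCompl _ inferInstance
  have hdim : ringKrullDim (Localization.AtPrime p) ≤ 1 := by
    rw [IsLocalization.AtPrime.ringKrullDim_eq_height p (Localization.AtPrime p)]
    exact_mod_cast hht
  haveI hCM : IsCohenMacaulayRing (Localization.AtPrime p) :=
    isCohenMacaulayRing_of_isDomain_of_dim_le_one _ hdim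
  haveI hF1 : LocallyOfFiniteType (Spec.map (CommRingCat.ofHom (algebraMap A C))) := by
    rw [HasRingHomProperty.Spec_iff (P := @LocallyOfFiniteType), CommRingCat.hom_ofHom,
      RingHom.finiteType_algebraMap]
    infer_instance
  haveI hF2 : Flat (Spec.map (CommRingCat.ofHom (algebraMap A C))) :=
    Flat.SpecMap_iff.mpr (RingHom.flat_algebraMap_iff.mpr inferInstance)
  -- the curve through the two points
  let ψ : C →+* Localization.AtPrime p :=
    (algebraMap (C ⧸ Q') (Localization.AtPrime p)).comp (Ideal.Quotient.mk Q')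
  let t : Spec (CommRingCat.of (Localization.AtPrime p)) ⟶ Spec (CommRingCat.of C) :=
    Spec.map (CommRingCat.ofHom ψ)
  have hsq := IsPullback.of_hasPullback (Spec.map (CommRingCat.ofHom (algebraMap A C)))
    (t ≫ Spec.map (CommRingCat.ofHom (algebraMap A C)))
  let σ : Spec (CommRingCat.of (Localization.AtPrime p)) ⟶
      pullback (Spec.map (CommRingCat.ofHom (algebraMap A C)))
        (t ≫ Spec.map (CommRingCat.ofHom (algebraMap A C))) :=
    pullback.lift t (𝟙 _) (by simp)
  have hσ1 : σ ≫ pullback.fst _ _ = t := pullback.lift_fst _ _ _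
  -- the two points
  let c : Spec (CommRingCat.of (Localization.AtPrime p)) :=
    IsLocalRing.closedPoint (Localization.AtPrime p)
  let η : Spec (CommRingCat.of (Localization.AtPrime p)) := ⟨⊥, Ideal.isPrime_bot⟩
  have hηc : η ⤳ c := (PrimeSpectrum.le_iff_specializes η c).mp bot_le
  have hz : σ η ⤳ σ c := hηc.map σ.continuous
  have hc : t c = ⟨p.comap (Ideal.Quotient.mk Q'), inferInstance⟩ := by
    refine PrimeSpectrum.ext ?_
    show Ideal.comap ψ (maximalIdeal (Localization.AtPrime p)) = _
    rw [← Ideal.comap_comap]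
    exact congrArg (Ideal.comap (Ideal.Quotient.mk Q'))
      (IsLocalization.AtPrime.under_maximalIdeal (Localization.AtPrime p) p)
  have hη : t η = ⟨Q', hQ'⟩ := by
    refine PrimeSpectrum.ext ?_
    show Ideal.comap ψ ⊥ = _
    rw [← Ideal.comap_comap, Ideal.comap_bot_of_injective _
      (IsLocalization.injective (M := p.primeCompl) (Localization.AtPrime p)
        (le_nonZeroDivisors_of_noZeroDivisors (fun h0 => h0 (zero_mem p)))),
      ← RingHom.ker_eq_comap_bot, Ideal.mk_ker]
  have h1c : pullback.fst (Spec.map (CommRingCat.ofHom (algebraMap A C)))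
      (t ≫ Spec.map (CommRingCat.ofHom (algebraMap A C))) (σ c) =
      ⟨p.comap (Ideal.Quotient.mk Q'), inferInstance⟩ := by
    rw [← Scheme.Hom.comp_apply, hσ1]
    exact hc
  have h1η : pullback.fst (Spec.map (CommRingCat.ofHom (algebraMap A C)))
      (t ≫ Spec.map (CommRingCat.ofHom (algebraMap A C))) (σ η) = ⟨Q', hQ'⟩ := by
    rw [← Scheme.Hom.comp_apply, hσ1]
    exact hη
  haveI : LocallyOfFiniteType (pullback.snd (Spec.map (CommRingCat.ofHom (algebraMap A C)))
      (t ≫ Spec.map (CommRingCat.ofHom (algebraMap A C)))) :=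
    MorphismProperty.pullback_snd _ _ inferInstance
  haveI : IsLocallyNoetherian (pullback (Spec.map (CommRingCat.ofHom (algebraMap A C)))
      (t ≫ Spec.map (CommRingCat.ofHom (algebraMap A C)))) :=
    LocallyOfFiniteType.isLocallyNoetherian (pullback.snd _ _)
  have hA := (codepthLE_fiber_bc_iff n hsq (σ c) _ h1c).mpr h₁
  have hB := (codepthLE_stalk_iff_fiber_of_cmRing n (pullback.snd _ _) (σ c)).mpr hA
  have hC := codepthLE_stalk_of_specializes n hz hB
  have hD := (codepthLE_stalk_iff_fiber_of_cmRing n (pullback.snd _ _) (σ η)).mp hC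
  exact (codepthLE_fiber_bc_iff n hsq (σ η) _ h1η).mp hD

theorem cdfib_generization (n : ℕ) (x : Spec (CommRingCat.of C)) (hx : CDfib n A C x) :
    ∀ (I : Ideal C) (x' : Spec (CommRingCat.of C)), x'.asIdeal = I → I ≤ x.asIdeal →
      CDfib n A C x' := by
  intro I
  induction I using WellFoundedGT.induction with
  | ind I IH =>
    intro x' hI hle
    subst hI
    by_cases heq : x'.asIdeal = x.asIdeal
    · have : x' = x := PrimeSpectrum.ext heq
      rw [this]
      exact hx
    · have hlt : x'.asIdeal < x.asIdeal := lt_of_le_of_ne hle heq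
      haveI := x'.2
      haveI := x.2
      obtain ⟨p, hp, hht, hlt', hle'⟩ := exists_prime_height_le_one hlt
      haveI := hp
      have h₁ : CDfib n A C ⟨p.comap (Ideal.Quotient.mk x'.asIdeal), inferInstance⟩ :=
        IH _ hlt' ⟨p.comap (Ideal.Quotient.mk x'.asIdeal), inferInstance⟩ rfl hle'
      exact cdfib_step n x'.asIdeal p hht h₁

omit [IsNoetherianRing A] [IsNoetherianRing C] [Algebra.FiniteType A C] in
theorem isOpen_cdfib (n : ℕ) (hA : Algebra.FiniteType ℤ A) [Algebra.FinitePresentation A C] :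
    IsOpen (Lcd n (Spec.map (CommRingCat.ofHom (algebraMap A C)))) := by
  haveI : IsNoetherianRing A := Algebra.FiniteType.isNoetherianRing ℤ A
  haveI : IsNoetherianRing C := Algebra.FiniteType.isNoetherianRing A C
  have hcon : IsConstructible (Lcd n (Spec.map (CommRingCat.ofHom (algebraMap A C)))) := by
    refine isConstructible_of_generic (fun {X Y} f => Lcd n f)
      (fun f g g' f' hf hsq => lcd_baseChange n f g g' f' hf hsq)
      (fun A₁ B₁ _ _ _ _ _ hA₁ => lcd_generic n A₁ B₁ hA₁)
      (CommRingCat.ofHom (algebraMap A C)) hA ?_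
    rw [CommRingCat.hom_ofHom, RingHom.finitePresentation_algebraMap]
    infer_instance
  refine PrimeSpectrum.isOpen_of_stableUnderGeneralization_of_isConstructible ?_ hcon
  intro x x' hsp hx
  exact cdfib_generization n x hx x'.asIdeal x' rfl
    ((PrimeSpectrum.le_iff_specializes x' x).mpr hsp)

end Affine

section General

/-- For `f` flat and locally of finite presentation, the set of points at which the fibre has
codepth `≤ n` is open. -/
theorem isOpen_lcd_of_flat (n : ℕ) {X Y : Scheme.{u}} (f : X ⟶ Y) [LocallyOfFinitePresentation f]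
    [Flat f] : IsOpen (Lcd n f) :=
  isOpen_locus_of_flat (fun {X Y} f => Lcd n f)
    (fun f g g' f' hf hsq => lcd_baseChange n f g g' f' hf hsq)
    (fun f j hj => lcd_openImmersion n f j hj)
    (fun A B _ _ _ _ _ hA => isOpen_cdfib n hA) f

/-- **EGA IV 12.1.1 (vii)/12.1.6**: for `f` locally of finite presentation, the set of
points at which `f` is flat and the fibre has codepth `≤ n` is open. -/
theorem isOpen_flat_and_lcd (n : ℕ) {X Y : Scheme.{u}} (f : X ⟶ Y)
    [LocallyOfFinitePresentation f] :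
    IsOpen {x : X | (f.stalkMap x).hom.Flat ∧ x ∈ Lcd n f} := by
  have hopen := Groth.Agent.S0386.result f
  obtain ⟨U, hU⟩ : ∃ U : X.Opens, (U : Set X) = {x : X | (f.stalkMap x).hom.Flat} :=
    ⟨⟨_, hopen⟩, rfl⟩
  haveI : Flat (U.ι ≫ f) := by
    rw [Flat.iff_flat_stalkMap]
    intro u
    rw [Scheme.Hom.stalkMap_comp]
    have h1 : (f.stalkMap (U.ι u)).hom.Flat := by
      have hu : (u.1 : X) ∈ (U : Set X) := u.2
      rw [hU] at hu
      exact hu
    have h2 : (U.ι.stalkMap u).hom.Flat := Flat.stalkMap U.ι u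
    exact RingHom.Flat.comp h1 h2
  have hE := isOpen_lcd_of_flat n (U.ι ≫ f)
  have heq : {x : X | (f.stalkMap x).hom.Flat ∧ x ∈ Lcd n f} = U.ι '' (Lcd n (U.ι ≫ f)) := by
    ext x
    constructor
    · rintro ⟨hfl, hcm⟩
      have hxU : x ∈ (U : Set X) := by rw [hU]; exact hfl
      refine ⟨⟨x, hxU⟩, ?_, rfl⟩
      rw [lcd_openImmersion n f U.ι inferInstance]
      exact hcm
    · rintro ⟨u, hu, rfl⟩
      rw [lcd_openImmersion n f U.ι inferInstance] at hu
      refine ⟨?_, hu⟩
      have hmem : (u.1 : X) ∈ (U : Set X) := u.2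
      rw [hU] at hmem
      exact hmem
  rw [heq]
  exact U.ι.isOpenEmbedding.isOpenMap _ hE

/-- the fibre local rings of a morphism locally of finite type are Noetherian local rings. -/
theorem codepthLE_fiber_iff (n : ℕ) {X Y : Scheme.{u}} (f : X ⟶ Y) [LocallyOfFiniteType f]
    (x : X) :
    CodepthLE n ((f.fiber (f x)).presheaf.stalk (f.asFiber x)) ↔
      ringKrullDim ((f.fiber (f x)).presheaf.stalk (f.asFiber x)) ≤
        ((LocCoh.depth ((f.fiber (f x)).presheaf.stalk (f.asFiber x))
          ((f.fiber (f x)).presheaf.stalk (f.asFiber x)) : ℕ∞) : WithBot ℕ∞) + n := by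
  haveI : LocallyOfFiniteType (f.fiberToSpecResidueField (f x)) := by
    dsimp only [Scheme.Hom.fiberToSpecResidueField]
    exact MorphismProperty.pullback_snd (P := @LocallyOfFiniteType) f _ inferInstance
  haveI : IsLocallyNoetherian (f.fiber (f x)) :=
    LocallyOfFiniteType.isLocallyNoetherian (f.fiberToSpecResidueField (f x))
  exact ⟨fun ⟨_, _, h⟩ => h, fun h => ⟨inferInstance, inferInstance, h⟩⟩

theorem main {X Y : Scheme.{u}} (f : X ⟶ Y) [LocallyOfFinitePresentation f] (n : ℕ) :
    IsOpen {x : X | (f.stalkMap x).hom.Flat ∧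
      ringKrullDim ((f.fiber (f.base x)).presheaf.stalk (f.asFiber x)) ≤
        ((LocCoh.depth ((f.fiber (f.base x)).presheaf.stalk (f.asFiber x))
          ((f.fiber (f.base x)).presheaf.stalk (f.asFiber x)) : ℕ∞) : WithBot ℕ∞) + n} := by
  have h := isOpen_flat_and_lcd n f
  convert h using 1
  ext x
  exact and_congr Iff.rfl (codepthLE_fiber_iff n f x).symm

end General

end

end Groth.Agent.Lib.H9RelCodepth
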