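import Mathlib
import Groth.Agent.Lib.Helper5RelCMOpen
import Groth.Agent.Lib.Helper5TensorSk
import Groth.Agent.Lib.Helper28Hypersurface
import Groth.Agent.Lib.H9NzdFibre
import Groth.Agent.Lib.Helper28LocLoc
import Groth.Agent.S11651
import Groth.Agent.Lib.Helper3FlatOpenFP
import Groth.Agent.Lib.H9RelCodepth

/-! Openness of the fibrewise (S_k) locus of a flat morphism locally of finite presentation (EGA IV 12.1.6): Nagata criterion on a Noetherian model, generization via the curve trick and lifting of (S_k) from a hypersurface section, and a neighbourhood statement in the generic fibre obtained from the closed fibrewise codepth loci (helper9). -/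

set_option autoImplicit false
set_option linter.style.haveILetI false
set_option linter.unusedSimpArgs false
set_option linter.unusedVariables false
universe u

namespace Groth.Agent.Lib.H9RelSk

-- ===== part SkA =====
section

open CategoryTheory CategoryTheory.Limits AlgebraicGeometry Topology TensorProduct TopologicalSpace
  IsLocalRing
open Groth.Agent.Lib.Helper5.CodepthFib Groth.Agent.Lib.Helper5.LocusGeneric
  Groth.Agent.Lib.Helper5.FibCodepthConstr
  Groth.Agent.Lib.Helper5.FiberMor Groth.Agent.Lib.Helper5.FiberRing Groth.Agent.Lib.Helper5.FiberBC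
  Groth.Agent.Lib.Helper5.CodepthOpen
  Groth.Agent.Lib.Helper5.CMLocusOpen Groth.Agent.Lib.Helper5.GrpCM
  Groth.Agent.Lib.Helper5.GenDepth Groth.Agent.Lib.Helper28 LocCoh
  Groth.Agent.Lib.Helper5.RelCMOpen Groth.Agent.Lib.Helper5.TensorSk
  Groth.Agent.Lib.Helper5.FlatCMFibres

/-- `R` is a Noetherian local ring satisfying Serre's condition `(S_k)`. -/
def SkLoc (k : ℕ) (R : Type u) [CommRing R] : Prop :=
  ∃ (_ : IsLocalRing R), IsNoetherianRing R ∧ LocCoh.HasSk k R R

theorem isoInv_skLoc (k : ℕ) : IsoInv.{u} (SkLoc k) := by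
  rintro R S _ _ e ⟨h1, h2, h3⟩
  haveI := h1
  haveI := h2
  haveI : IsLocalRing S := e.isLocalRing
  haveI : IsNoetherianRing S := isNoetherianRing_of_ringEquiv R e
  exact ⟨inferInstance, inferInstance, hasSk_self_of_ringEquiv e k h3⟩

theorem skLoc_congr (k : ℕ) {R S : Type u} [CommRing R] [CommRing S] (e : R ≃+* S) :
    SkLoc k R ↔ SkLoc k S :=
  ⟨isoInv_skLoc k _ _ e, isoInv_skLoc k _ _ e.symm⟩

section Ring

variable {A : Type u} [CommRing A] [IsNoetherianRing A]

/-- `(S_k)` of the local ring at `p` as `HasSkAt`. -/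
theorem skLoc_localization_iff (k : ℕ) (p : Ideal A) [p.IsPrime] :
    SkLoc k (Localization.AtPrime p) ↔ EGA4.HasSkAt k A A p := by
  haveI : IsNoetherianRing (Localization.AtPrime p) :=
    IsLocalization.isNoetherianRing p.primeCompl _ inferInstance
  unfold EGA4.HasSkAt
  rw [hasSk_congr (localizedModuleSelfEquiv p)]
  exact ⟨fun ⟨_, _, h⟩ => h, fun h => ⟨inferInstance, inferInstance, h⟩⟩

/-- pointwise form. -/
theorem skLoc_localization_iff' (k : ℕ) (p : Ideal A) [p.IsPrime] :
    SkLoc k (Localization.AtPrime p) ↔ ∀ (p₁ : Ideal A) [p₁.IsPrime], p₁ ≤ p →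
      min (k : ℕ∞) p₁.height ≤
        LocCoh.depth (Localization.AtPrime p₁) (Localization.AtPrime p₁) := by
  rw [skLoc_localization_iff, hasSkAt_self_iff]

theorem skLoc_iff_of_isLocalRing (k : ℕ) [IsLocalRing A] :
    SkLoc k A ↔ EGA4.HasSkAt k A A (maximalIdeal A) := by
  rw [hasSkAt_self_iff]
  constructor
  · rintro ⟨_, _, h⟩ p₁ hp₁ _
    exact (hasSk_self_iff_enat k).mp h p₁
  · intro h
    refine ⟨inferInstance, inferInstance, (hasSk_self_iff_enat k).mpr fun p hp => ?_⟩
    exact h p (IsLocalRing.le_maximalIdeal hp.ne_top)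

theorem skLoc_of_le (k : ℕ) {p q : Ideal A} [p.IsPrime] [q.IsPrime] (hqp : q ≤ p)
    (h : SkLoc k (Localization.AtPrime p)) : SkLoc k (Localization.AtPrime q) := by
  rw [skLoc_localization_iff'] at h ⊢
  intro p₁ _ h1
  exact h p₁ (h1.trans hqp)

end Ring

theorem ringBCInv_skLoc (n : ℕ) : RingBCInv.{u} (SkLoc n) := by
  intro k T k' _ _ _ _ _ _ _ hft 𝔮 _ h𝔮
  haveI hN : IsNoetherianRing (T ⊗[k] k') := by
    rcases hft with h | h
    · haveI := h
      haveI : Algebra.EssFiniteType k' (k' ⊗[k] T) := inferInstance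
      haveI : IsNoetherianRing (k' ⊗[k] T) := Algebra.EssFiniteType.isNoetherianRing k' _
      exact isNoetherianRing_of_ringEquiv _ (Algebra.TensorProduct.comm k k' T).toRingEquiv
    · haveI := h
      haveI : Algebra.EssFiniteType T (T ⊗[k] k') := inferInstance
      exact Algebra.EssFiniteType.isNoetherianRing T _
  have hF : ∀ (Q : Ideal (T ⊗[k] k')) [Q.IsPrime],
      LocCoh.IsCohenMacaulayLocalRing (EGA4.FibLocRing T (T ⊗[k] k') Q) :=
    fun Q _ => fieldFibP_cm k T k' hft Q
  have key := hasSkAt_iff_of_cm_fibres n hF 𝔮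
  rw [skLoc_localization_iff, ← key, skLoc_iff_of_isLocalRing]
  have transport : ∀ (p q : Ideal T) [p.IsPrime] [q.IsPrime], p = q →
      (EGA4.HasSkAt n T T p ↔ EGA4.HasSkAt n T T q) := by
    intro p q _ _ e
    subst e
    exact Iff.rfl
  exact transport _ _ h𝔮

end

-- ===== part SkB =====
section

open CategoryTheory CategoryTheory.Limits AlgebraicGeometry Topology TensorProduct TopologicalSpace
  IsLocalRing
open Groth.Agent.Lib.Helper5.CodepthFib Groth.Agent.Lib.Helper5.LocusGeneric
  Groth.Agent.Lib.Helper5.FibCodepthConstr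
  Groth.Agent.Lib.Helper5.FiberMor Groth.Agent.Lib.Helper5.FiberRing Groth.Agent.Lib.Helper5.FiberBC
  Groth.Agent.Lib.Helper5.CodepthOpen
  Groth.Agent.Lib.Helper5.CMLocusOpen Groth.Agent.Lib.Helper5.GrpCM
  Groth.Agent.Lib.Helper5.GenDepth Groth.Agent.Lib.Helper28 LocCoh
  Groth.Agent.Lib.Helper5.RelCMOpen Groth.Agent.Lib.Helper5.TensorSk
  Groth.Agent.Lib.Helper5.FlatCMFibres

section LIso

variable {A B : Type u} [CommRing A] [CommRing B] [Algebra A B]

/-- the fibre local ring at the preimage of a prime `q` of `B ⧸ P B` is `(B ⧸ P B)_q`. -/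
theorem nonempty_fibLocRing_equiv_localization_quotient (P : Ideal A)
    (q : Ideal (B ⧸ P.map (algebraMap A B))) [q.IsPrime]
    (h : (q.comap (Ideal.Quotient.mk (P.map (algebraMap A B)))).comap (algebraMap A B) = P) :
    Nonempty (Localization.AtPrime q ≃+*
      EGA4.FibLocRing A B (q.comap (Ideal.Quotient.mk (P.map (algebraMap A B))))) := by
  refine ⟨(localizationQuotientEquiv (P.map (algebraMap A B)) q).trans
    (Ideal.quotEquivOfEq ?_)⟩
  rw [h, Ideal.map_map, ← IsScalarTower.algebraMap_eq]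

end LIso

section R1

variable {D B : Type u} [CommRing D] [CommRing B] [IsDomain D] [IsLocalRing D]
  [IsNoetherianRing D] [IsLocalRing B] [IsNoetherianRing B] [Algebra D B]
  [IsLocalHom (algebraMap D B)] [Module.Flat D B]

omit [IsLocalRing B] [IsNoetherianRing B] [IsLocalHom (algebraMap D B)] [Module.Flat D B]
  [IsNoetherianRing D] in
/-- every prime of `D ⧸ (t)` is the maximal ideal, for a one-dimensional local domain `D`. -/
theorem prime_quot_eq (hdim : ringKrullDim D ≤ 1) (t : D) (ht0 : t ≠ 0)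
    (p : Ideal (D ⧸ Ideal.span {t})) [hp : p.IsPrime] :
    p = (maximalIdeal D).map (Ideal.Quotient.mk (Ideal.span {t})) := by
  have hq : (p.comap (Ideal.Quotient.mk (Ideal.span {t}))).IsPrime := Ideal.comap_isPrime _ _
  have htq : t ∈ p.comap (Ideal.Quotient.mk (Ideal.span {t})) := by
    rw [Ideal.mem_comap, Ideal.Quotient.eq_zero_iff_mem.mpr (Ideal.mem_span_singleton_self t)]
    exact zero_mem _
  have hle : p.comap (Ideal.Quotient.mk (Ideal.span {t})) ≤ maximalIdeal D :=
    IsLocalRing.le_maximalIdeal hq.ne_top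
  have heq : p.comap (Ideal.Quotient.mk (Ideal.span {t})) = maximalIdeal D := by
    by_contra hne
    have hlt : p.comap (Ideal.Quotient.mk (Ideal.span {t})) < maximalIdeal D :=
      lt_of_le_of_ne hle hne
    have hbot : (⊥ : Ideal D) < p.comap (Ideal.Quotient.mk (Ideal.span {t})) := by
      refine lt_of_le_of_ne bot_le ?_
      intro h0
      rw [← h0] at htq
      exact ht0 ((Submodule.mem_bot D).mp htq)
    haveI : (⊥ : Ideal D).IsPrime := Ideal.isPrime_bot
    have h1 := Ideal.height_add_one_le_of_lt_of_isPrime hbot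
    have h2 := Ideal.height_add_one_le_of_lt_of_isPrime hlt
    have h3 : ((maximalIdeal D).height : WithBot ℕ∞) ≤ 1 :=
      (Ideal.height_le_ringKrullDim_of_isPrime).trans hdim
    have h4 : (maximalIdeal D).height ≤ 1 := by exact_mod_cast h3
    have h5 : (1 : ℕ∞) + 1 ≤ 1 :=
      calc (1 : ℕ∞) + 1 ≤ (p.comap (Ideal.Quotient.mk (Ideal.span {t}))).height + 1 := by
            gcongr
            exact le_trans (by simp) h1
        _ ≤ (maximalIdeal D).height := h2
        _ ≤ 1 := h4
    exact absurd h5 (by decide)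
  rw [← heq, Ideal.map_comap_of_surjective _ Ideal.Quotient.mk_surjective]

/-- For a flat local homomorphism from a one-dimensional Noetherian local domain, `(S_k)` of the
closed fibre implies `(S_k)` of the target. -/
theorem hasSk_of_closedFibre (hdim : ringKrullDim D ≤ 1) (k : ℕ)
    (hF : LocCoh.HasSk k (B ⧸ (maximalIdeal D).map (algebraMap D B))
      (B ⧸ (maximalIdeal D).map (algebraMap D B))) : LocCoh.HasSk k B B := by
  by_cases hm : maximalIdeal D = ⊥
  · have h0 : (maximalIdeal D).map (algebraMap D B) = ⊥ := by rw [hm, Ideal.map_bot]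
    haveI : IsNoetherianRing (B ⧸ (maximalIdeal D).map (algebraMap D B)) := inferInstance
    exact hasSk_self_of_ringEquiv
      ((Ideal.quotEquivOfEq h0).trans (RingEquiv.quotientBot B)) k hF
  · obtain ⟨t, htm, ht0⟩ : ∃ t ∈ maximalIdeal D, t ≠ 0 := by
      by_contra hcon
      push Not at hcon
      exact hm (eq_bot_iff.mpr fun x hx => (Submodule.mem_bot D).mpr (hcon x hx))
    -- notation
    set I : Ideal D := Ideal.span {t} with hI
    set J : Ideal B := I.map (algebraMap D B) with hJ
    have hJ' : J = Ideal.span {algebraMap D B t} := by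
      rw [hJ, hI, Ideal.map_span, Set.image_singleton]
    have htB : algebraMap D B t ∈ maximalIdeal B := by
      rw [mem_maximalIdeal, mem_nonunits_iff]
      intro hu
      exact ((mem_maximalIdeal t).mp htm) (isUnit_of_map_unit (algebraMap D B) t hu)
    have hreg : IsSMulRegular B (algebraMap D B t) :=
      IsSMulRegular.of_flat (IsRegular.of_ne_zero ht0).isSMulRegular
    haveI hflat : Module.Flat (D ⧸ I) (B ⧸ J) :=
      Groth.Agent.Lib.H9NzdFibre.flat_quot_of_flat I
    -- `D ⧸ I` is zero-dimensional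
    have hdim0 : ringKrullDim (D ⧸ I) ≤ 0 := by
      have h1 := ringKrullDim_quotient_succ_le_of_nonZeroDivisor
        (mem_nonZeroDivisors_of_ne_zero ht0)
      have h2 : ringKrullDim (D ⧸ I) + 1 ≤ 1 := h1.trans hdim
      rcases eq_or_ne (ringKrullDim (D ⧸ I)) ⊥ with hb | hb
      · rw [hb]; exact bot_le
      · obtain ⟨n, hn⟩ := WithBot.ne_bot_iff_exists.mp hb
        rw [← hn] at h2 ⊢
        have h3 : n + 1 ≤ (0 : ℕ∞) + 1 := by
          rw [zero_add]
          exact_mod_cast h2
        have h4 : n ≤ 0 := (ENat.add_le_add_iff_right ENat.one_ne_top).mp h3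
        exact_mod_cast h4
    have hA : LocCoh.HasSk k (D ⧸ I) (D ⧸ I) := by
      rw [hasSk_self_iff_enat]
      intro p hp
      have h1 : ((p.height : ℕ∞) : WithBot ℕ∞) ≤ 0 :=
        (Ideal.height_le_ringKrullDim_of_isPrime).trans hdim0
      have h2 : p.height ≤ 0 := by exact_mod_cast h1
      exact le_trans (min_le_right _ _) (h2.trans (by simp))
    -- the fibres
    have hfib : ∀ (p : Ideal (D ⧸ I)) [p.IsPrime],
        LocCoh.HasSk k (p.Fiber (B ⧸ J)) (p.Fiber (B ⧸ J)) := by
      rw [forall_hasSk_fiber_iff]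
      intro q hq
      -- the only prime of `D ⧸ I`
      set M' : Ideal (D ⧸ I) := (maximalIdeal D).map (Ideal.Quotient.mk I) with hM'
      have hqc : q.comap (algebraMap (D ⧸ I) (B ⧸ J)) = M' := prime_quot_eq hdim t ht0 _
      set I₀ : Ideal (B ⧸ J) := M'.map (algebraMap (D ⧸ I) (B ⧸ J)) with hI₀
      have hI₀q : I₀ ≤ q := by
        rw [hI₀, Ideal.map_le_iff_le_comap, hqc]
      have hI₀' : I₀ = ((maximalIdeal D).map (algebraMap D B)).map (Ideal.Quotient.mk J) := by
        rw [hI₀, hM', Ideal.map_map, Ideal.map_map]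
        congr 1
      have hIJ : J ≤ (maximalIdeal D).map (algebraMap D B) :=
        Ideal.map_mono ((Ideal.span_singleton_le_iff_mem _).mpr htm)
      let e : ((B ⧸ J) ⧸ I₀) ≃+* (B ⧸ (maximalIdeal D).map (algebraMap D B)) :=
        (Ideal.quotEquivOfEq hI₀').trans (DoubleQuot.quotQuotEquivQuotOfLE hIJ)
      have hS : LocCoh.HasSk k ((B ⧸ J) ⧸ I₀) ((B ⧸ J) ⧸ I₀) :=
        hasSk_self_of_ringEquiv e.symm k hF
      set qbar : Ideal ((B ⧸ J) ⧸ I₀) := q.map (Ideal.Quotient.mk I₀) with hqbar
      haveI hqbarP : qbar.IsPrime :=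
        Ideal.map_isPrime_of_surjective Ideal.Quotient.mk_surjective (by rwa [Ideal.mk_ker])
      have hcomap : qbar.comap (Ideal.Quotient.mk I₀) = q := by
        rw [hqbar, Ideal.comap_map_of_surjective _ Ideal.Quotient.mk_surjective,
          ← RingHom.ker_eq_comap_bot, Ideal.mk_ker, sup_eq_left]
        exact hI₀q
      have hlies : (qbar.comap (Ideal.Quotient.mk I₀)).comap (algebraMap (D ⧸ I) (B ⧸ J)) = M' := by
        rw [hcomap, hqc]
      obtain ⟨e'⟩ := nonempty_fibLocRing_equiv_localization_quotient (A := D ⧸ I) (B := B ⧸ J)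
        M' qbar hlies
      have hSn : SnLocalRing k (Localization.AtPrime qbar) := by
        haveI : IsNoetherianRing (Localization.AtPrime qbar) :=
          IsLocalization.isNoetherianRing qbar.primeCompl _ inferInstance
        refine ⟨inferInstance, inferInstance, ?_⟩
        rw [IsLocalization.AtPrime.ringKrullDim_eq_height qbar (Localization.AtPrime qbar)]
        exact (hasSk_self_iff k).mp hS qbar
      have hSn' := snLocalRing_of_ringEquiv k _ _ e' hSn
      have transport : ∀ (q₁ q₂ : Ideal (B ⧸ J)) [q₁.IsPrime] [q₂.IsPrime], q₁ = q₂ →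
          SnLocalRing k (EGA4.FibLocRing (D ⧸ I) (B ⧸ J) q₁) →
          SnLocalRing k (EGA4.FibLocRing (D ⧸ I) (B ⧸ J) q₂) := by
        intro q₁ q₂ _ _ e h
        subst e
        exact h
      exact transport _ _ hcomap hSn'
    have hBJ : LocCoh.HasSk k (B ⧸ J) (B ⧸ J) := hasSk_of_flat_of_fibres (A := D ⧸ I) k hA hfib
    have hBt : LocCoh.HasSk k (B ⧸ Ideal.span {algebraMap D B t})
        (B ⧸ Ideal.span {algebraMap D B t}) :=
      hasSk_self_of_ringEquiv (Ideal.quotEquivOfEq hJ') k hBJ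
    exact hasSk_of_hasSk_quotient_span_singleton k (algebraMap D B t) htB hreg hBt

end R1

end

-- ===== part SkC =====
section

open CategoryTheory CategoryTheory.Limits AlgebraicGeometry Topology TensorProduct TopologicalSpace
  IsLocalRing
open Groth.Agent.Lib.Helper5.CodepthFib Groth.Agent.Lib.Helper5.LocusGeneric
  Groth.Agent.Lib.Helper5.FibCodepthConstr
  Groth.Agent.Lib.Helper5.FiberMor Groth.Agent.Lib.Helper5.FiberRing Groth.Agent.Lib.Helper5.FiberBC
  Groth.Agent.Lib.Helper5.CodepthOpen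
  Groth.Agent.Lib.Helper5.CMLocusOpen Groth.Agent.Lib.Helper5.GrpCM
  Groth.Agent.Lib.Helper5.GenDepth Groth.Agent.Lib.Helper28 LocCoh
  Groth.Agent.Lib.Helper5.RelCMOpen Groth.Agent.Lib.Helper5.TensorSk
  Groth.Agent.Lib.Helper5.FlatCMFibres

/-- The locus where the local ring of the fibre satisfies `(S_k)`. -/
def Lsk (k : ℕ) {X Y : Scheme.{u}} (f : X ⟶ Y) : Set X :=
  {x | SkLoc k ((f.fiber (f x)).presheaf.stalk (f.asFiber x))}

theorem lsk_baseChange (k : ℕ) {X Y X' Y' : Scheme.{u}} (f : X ⟶ Y) (g : Y' ⟶ Y) (g' : X' ⟶ X)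
    (f' : X' ⟶ Y') (hf : LocallyOfFinitePresentation f) (hsq : IsPullback g' f' f g) :
    Lsk k f' = g' ⁻¹' Lsk k f := by
  ext x'
  haveI : LocallyOfFiniteType f := inferInstance
  haveI : LocallyOfFiniteType (f.fiberToSpecResidueField (f (g' x'))) := by
    dsimp only [Scheme.Hom.fiberToSpecResidueField]
    exact MorphismProperty.pullback_snd (P := @LocallyOfFiniteType) f _ inferInstance
  haveI : IsLocallyNoetherian (f.fiber (f (g' x'))) :=
    LocallyOfFiniteType.isLocallyNoetherian (f.fiberToSpecResidueField (f (g' x')))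
  exact fiber_stalk_baseChange_iff_of_ringBCInv (ringBCInv_skLoc k) (isoInv_skLoc k)
    hsq x' (Or.inl inferInstance)

theorem lsk_openImmersion (k : ℕ) {X Y U : Scheme.{u}} (f : X ⟶ Y) (j : U ⟶ X)
    (hj : IsOpenImmersion j) : Lsk k (j ≫ f) = j ⁻¹' Lsk k f := by
  ext u
  exact fiber_stalk_openImmersion_iff f (isoInv_skLoc k) j u

section Scheme

theorem skLoc_stalk_fromSpec_iff (k : ℕ) {X : Scheme.{u}} {U : X.Opens} (hU : IsAffineOpen U)
    (y : Spec Γ(X, U)) :
    SkLoc k (X.presheaf.stalk (hU.fromSpec y)) ↔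
      SkLoc k (Localization.AtPrime y.asIdeal) := by
  have e : X.presheaf.stalk (hU.fromSpec y) ≃+* Localization.AtPrime y.asIdeal :=
    (asIso (hU.fromSpec.stalkMap y)).commRingCatIsoToRingEquiv.trans
      (Spec.stalkIso _ y).commRingCatIsoToRingEquiv
  exact skLoc_congr k e

theorem skLoc_stalk_of_specializes (k : ℕ) {X : Scheme.{u}} [IsLocallyNoetherian X]
    {z z' : X} (h : z' ⤳ z) (hz : SkLoc k (X.presheaf.stalk z)) :
    SkLoc k (X.presheaf.stalk z') := by
  obtain ⟨_, ⟨U, hU : IsAffineOpen U, rfl⟩, hzU, -⟩ :=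
    X.isBasis_affineOpens.exists_subset_of_mem_open (Set.mem_univ z) isOpen_univ
  have hz'U : z' ∈ U := h.mem_open U.2 hzU
  haveI : IsNoetherianRing Γ(X, U) := IsLocallyNoetherian.component_noetherian ⟨U, hU⟩
  obtain ⟨p, rfl⟩ : ∃ p, hU.fromSpec p = z := ⟨_, hU.fromSpec_primeIdealOf ⟨z, hzU⟩⟩
  obtain ⟨p', rfl⟩ : ∃ p', hU.fromSpec p' = z' := ⟨_, hU.fromSpec_primeIdealOf ⟨z', hz'U⟩⟩
  have hsp : p' ⤳ p := hU.fromSpec.isOpenEmbedding.isInducing.specializes_iff.mp h
  have hle : p'.asIdeal ≤ p.asIdeal := (PrimeSpectrum.le_iff_specializes p' p).mpr hsp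
  rw [skLoc_stalk_fromSpec_iff k hU] at hz ⊢
  exact skLoc_of_le k hle hz

/-- base change invariance of `(S_k)` of fibre local rings, with explicit image point. -/
theorem skLoc_fiber_bc_iff (k : ℕ) {X Y X' Y' : Scheme.{u}} {f : X ⟶ Y} {g : Y' ⟶ Y}
    {f' : X' ⟶ Y'} {g' : X' ⟶ X} [LocallyOfFiniteType f] (hsq : IsPullback g' f' f g) (x' : X')
    (x : X) (hx : g' x' = x) :
    SkLoc k ((f'.fiber (f' x')).presheaf.stalk (f'.asFiber x')) ↔
      SkLoc k ((f.fiber (f x)).presheaf.stalk (f.asFiber x)) := by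
  subst hx
  haveI : LocallyOfFiniteType (f.fiberToSpecResidueField (f (g' x'))) := by
    dsimp only [Scheme.Hom.fiberToSpecResidueField]
    exact MorphismProperty.pullback_snd (P := @LocallyOfFiniteType) f _ inferInstance
  haveI : IsLocallyNoetherian (f.fiber (f (g' x'))) :=
    LocallyOfFiniteType.isLocallyNoetherian (f.fiberToSpecResidueField (f (g' x')))
  exact fiber_stalk_baseChange_iff_of_ringBCInv (ringBCInv_skLoc k) (isoInv_skLoc k)
    hsq x' (Or.inl inferInstance)

/-- over a one-dimensional Noetherian domain, a flat morphism locally of finite type whose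
fibre through `z` is `(S_k)` at `z` has `(S_k)` local ring at `z`. -/
theorem skLoc_stalk_of_fiber (k : ℕ) {D : Type u} [CommRing D] [IsDomain D] [IsNoetherianRing D]
    (hdim : ringKrullDim D ≤ 1)
    {X : Scheme.{u}} (f : X ⟶ Spec (CommRingCat.of D)) [LocallyOfFiniteType f] [Flat f] (z : X)
    (h : SkLoc k ((f.fiber (f z)).presheaf.stalk (f.asFiber z))) :
    SkLoc k (X.presheaf.stalk z) := by
  haveI : IsLocallyNoetherian X := LocallyOfFiniteType.isLocallyNoetherian f
  rw [fiber_stalk_iff f z (isoInv_skLoc k)] at h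
  obtain ⟨_, _, h⟩ := h
  letI := (f.stalkMap z).hom.toAlgebra
  haveI : IsLocalHom (algebraMap ((Spec (CommRingCat.of D)).presheaf.stalk (f z))
      (X.presheaf.stalk z)) :=
    inferInstanceAs (IsLocalHom (f.stalkMap z).hom)
  haveI : Module.Flat ((Spec (CommRingCat.of D)).presheaf.stalk (f z)) (X.presheaf.stalk z) :=
    Flat.stalkMap f z
  let e := (Spec.stalkIso (CommRingCat.of D) (f z)).commRingCatIsoToRingEquiv
  haveI : IsDomain (Localization.AtPrime (f z).asIdeal) :=
    IsLocalization.isDomain_localization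
      (le_nonZeroDivisors_of_noZeroDivisors (fun h0 => h0 (zero_mem (f z).asIdeal)))
  haveI : IsDomain ((Spec (CommRingCat.of D)).presheaf.stalk (f z)) :=
    e.toMulEquiv.isDomain _
  have hdim' : ringKrullDim ((Spec (CommRingCat.of D)).presheaf.stalk (f z)) ≤ 1 := by
    rw [ringKrullDim_eq_of_ringEquiv e,
      IsLocalization.AtPrime.ringKrullDim_eq_height (f z).asIdeal
        (Localization.AtPrime (f z).asIdeal)]
    exact (Ideal.height_le_ringKrullDim_of_isPrime).trans hdim
  exact ⟨inferInstance, inferInstance, hasSk_of_closedFibre hdim' k h⟩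

/-- at a point whose image has a field as local ring, the local ring of the fibre is the local
ring of the source. -/
theorem skLoc_fiber_of_stalk (k : ℕ) {X Y : Scheme.{u}} (f : X ⟶ Y) (z : X)
    (hm : maximalIdeal (Y.presheaf.stalk (f z)) = ⊥)
    (h : SkLoc k (X.presheaf.stalk z)) :
    SkLoc k ((f.fiber (f z)).presheaf.stalk (f.asFiber z)) := by
  rw [fiber_stalk_iff f z (isoInv_skLoc k)]
  have h0 : (maximalIdeal (Y.presheaf.stalk (f z))).map (f.stalkMap z).hom = ⊥ := by
    rw [hm, Ideal.map_bot]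
  exact isoInv_skLoc k _ _
    ((Ideal.quotEquivOfEq h0).trans (RingEquiv.quotientBot (X.presheaf.stalk z))).symm h

theorem maximalIdeal_stalk_eq_bot {D : Type u} [CommRing D] [IsDomain D]
    (y : Spec (CommRingCat.of D)) (hy : y.asIdeal = ⊥) :
    maximalIdeal ((Spec (CommRingCat.of D)).presheaf.stalk y) = ⊥ := by
  let e := (Spec.stalkIso (CommRingCat.of D) y).commRingCatIsoToRingEquiv
  have h1 : maximalIdeal (Localization.AtPrime y.asIdeal) = ⊥ := by
    rw [← Localization.AtPrime.map_eq_maximalIdeal, eq_bot_iff, Ideal.map_le_iff_le_comap]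
    intro x hx
    have hx0 : x = 0 := by
      rw [hy] at hx
      exact (Submodule.mem_bot _).mp hx
    rw [hx0]
    exact zero_mem _
  rw [eq_bot_iff]
  intro a ha
  have h2 : e a ∈ maximalIdeal (Localization.AtPrime y.asIdeal) := by
    rw [mem_maximalIdeal, mem_nonunits_iff] at ha ⊢
    intro hu
    exact ha ((isUnit_map_iff e a).mp hu)
  rw [h1, Submodule.mem_bot] at h2
  rw [Submodule.mem_bot]
  exact e.injective (h2.trans (map_zero e).symm)

end Scheme

end

-- ===== part SkD =====
section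

open CategoryTheory CategoryTheory.Limits AlgebraicGeometry Topology TensorProduct TopologicalSpace
  IsLocalRing
open Groth.Agent.Lib.Helper5.CodepthFib Groth.Agent.Lib.Helper5.LocusGeneric
  Groth.Agent.Lib.Helper5.FibCodepthConstr
  Groth.Agent.Lib.Helper5.FiberMor Groth.Agent.Lib.Helper5.FiberRing Groth.Agent.Lib.Helper5.FiberBC
  Groth.Agent.Lib.Helper5.CodepthOpen
  Groth.Agent.Lib.Helper5.CMLocusOpen Groth.Agent.Lib.Helper5.GrpCM
  Groth.Agent.Lib.Helper5.GenDepth Groth.Agent.Lib.Helper28 LocCoh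
  Groth.Agent.Lib.Helper5.RelCMOpen Groth.Agent.Lib.Helper5.TensorSk
  Groth.Agent.Lib.Helper5.FlatCMFibres

section Affine

variable {A C : Type u} [CommRing A] [CommRing C] [Algebra A C] [IsNoetherianRing A]
  [IsNoetherianRing C] [Module.Flat A C] [Algebra.FiniteType A C]

/-- the fibre through `x` of `Spec C ⟶ Spec A` is `(S_k)` at `x`. -/
def SKfib (k : ℕ) (A C : Type u) [CommRing A] [CommRing C] [Algebra A C]
    (x : Spec (CommRingCat.of C)) : Prop :=
  SkLoc k
    (((Spec.map (CommRingCat.ofHom (algebraMap A C))).fiber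
      ((Spec.map (CommRingCat.ofHom (algebraMap A C))) x)).presheaf.stalk
      ((Spec.map (CommRingCat.ofHom (algebraMap A C))).asFiber x))

theorem skfib_step (k : ℕ) (Q' : Ideal C) [hQ' : Q'.IsPrime] (p : Ideal (C ⧸ Q')) [hp : p.IsPrime]
    (hht : p.height ≤ 1)
    (h₁ : SKfib k A C ⟨p.comap (Ideal.Quotient.mk Q'), inferInstance⟩) :
    SKfib k A C ⟨Q', hQ'⟩ := by
  haveI : IsDomain (C ⧸ Q') := Ideal.Quotient.isDomain Q'
  haveI : IsDomain (Localization.AtPrime p) :=
    IsLocalization.isDomain_localization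
      (le_nonZeroDivisors_of_noZeroDivisors (fun h0 => h0 (zero_mem p)))
  haveI : IsNoetherianRing (Localization.AtPrime p) :=
    IsLocalization.isNoetherianRing p.primeCompl _ inferInstance
  have hdim : ringKrullDim (Localization.AtPrime p) ≤ 1 := by
    rw [IsLocalization.AtPrime.ringKrullDim_eq_height p (Localization.AtPrime p)]
    exact_mod_cast hht
  haveI hF1 : LocallyOfFiniteType (Spec.map (CommRingCat.ofHom (algebraMap A C))) := by
    rw [HasRingHomProperty.Spec_iff (P := @LocallyOfFiniteType), CommRingCat.hom_ofHom,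
      RingHom.finiteType_algebraMap]
    infer_instance
  haveI hF2 : Flat (Spec.map (CommRingCat.ofHom (algebraMap A C))) :=
    Flat.SpecMap_iff.mpr (RingHom.flat_algebraMap_iff.mpr inferInstance)
  -- the curve through the two points
  let ψ : C →+* Localization.AtPrime p :=
    (algebraMap (C ⧸ Q') (Localization.AtPrime p)).comp (Ideal.Quotient.mk Q')
  let t : Spec (CommRingCat.of (Localization.AtPrime p)) ⟶ Spec (CommRingCat.of C) :=
    Spec.map (CommRingCat.ofHom ψ)
  have hsq := IsPullback.of_hasPullback (Spec.map (CommRingCat.ofHom (algebraMap A C)))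
    (t ≫ Spec.map (CommRingCat.ofHom (algebraMap A C)))
  let σ : Spec (CommRingCat.of (Localization.AtPrime p)) ⟶
      pullback (Spec.map (CommRingCat.ofHom (algebraMap A C)))
        (t ≫ Spec.map (CommRingCat.ofHom (algebraMap A C))) :=
    pullback.lift t (𝟙 _) (by simp)
  have hσ1 : σ ≫ pullback.fst _ _ = t := pullback.lift_fst _ _ _
  have hσ2 : σ ≫ pullback.snd _ _ = 𝟙 _ := pullback.lift_snd _ _ _
  -- the two points
  let c : Spec (CommRingCat.of (Localization.AtPrime p)) :=
    IsLocalRing.closedPoint (Localization.AtPrime p)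
  let η : Spec (CommRingCat.of (Localization.AtPrime p)) := ⟨⊥, Ideal.isPrime_bot⟩
  have hηc : η ⤳ c := (PrimeSpectrum.le_iff_specializes η c).mp bot_le
  have hz : σ η ⤳ σ c := hηc.map σ.continuous
  have hc : t c = ⟨p.comap (Ideal.Quotient.mk Q'), inferInstance⟩ := by
    refine PrimeSpectrum.ext ?_
    show Ideal.comap ψ (maximalIdeal (Localization.AtPrime p)) = _
    rw [← Ideal.comap_comap]
    exact congrArg (Ideal.comap (Ideal.Quotient.mk Q'))
      (IsLocalization.AtPrime.under_maximalIdeal (Localization.AtPrime p) p)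
  have hη : t η = ⟨Q', hQ'⟩ := by
    refine PrimeSpectrum.ext ?_
    show Ideal.comap ψ ⊥ = _
    rw [← Ideal.comap_comap, Ideal.comap_bot_of_injective _
      (IsLocalization.injective (M := p.primeCompl) (Localization.AtPrime p)
        (le_nonZeroDivisors_of_noZeroDivisors (fun h0 => h0 (zero_mem p)))),
      ← RingHom.ker_eq_comap_bot, Ideal.mk_ker]
  have h1c : pullback.fst (Spec.map (CommRingCat.ofHom (algebraMap A C)))
      (t ≫ Spec.map (CommRingCat.ofHom (algebraMap A C))) (σ c) =
      ⟨p.comap (Ideal.Quotient.mk Q'), inferInstance⟩ := by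
    rw [← Scheme.Hom.comp_apply, hσ1]
    exact hc
  have h1η : pullback.fst (Spec.map (CommRingCat.ofHom (algebraMap A C)))
      (t ≫ Spec.map (CommRingCat.ofHom (algebraMap A C))) (σ η) = ⟨Q', hQ'⟩ := by
    rw [← Scheme.Hom.comp_apply, hσ1]
    exact hη
  have h2η : pullback.snd (Spec.map (CommRingCat.ofHom (algebraMap A C)))
      (t ≫ Spec.map (CommRingCat.ofHom (algebraMap A C))) (σ η) = η := by
    rw [← Scheme.Hom.comp_apply, hσ2]
    rfl
  haveI : LocallyOfFiniteType (pullback.snd (Spec.map (CommRingCat.ofHom (algebraMap A C)))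
      (t ≫ Spec.map (CommRingCat.ofHom (algebraMap A C)))) :=
    MorphismProperty.pullback_snd _ _ inferInstance
  haveI : IsLocallyNoetherian (pullback (Spec.map (CommRingCat.ofHom (algebraMap A C)))
      (t ≫ Spec.map (CommRingCat.ofHom (algebraMap A C)))) :=
    LocallyOfFiniteType.isLocallyNoetherian (pullback.snd _ _)
  have hA := (skLoc_fiber_bc_iff k hsq (σ c) _ h1c).mpr h₁
  have hB := skLoc_stalk_of_fiber k hdim (pullback.snd _ _) (σ c) hA
  have hC := skLoc_stalk_of_specializes k hz hB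
  have hm : maximalIdeal ((Spec (CommRingCat.of (Localization.AtPrime p))).presheaf.stalk
      (pullback.snd (Spec.map (CommRingCat.ofHom (algebraMap A C)))
        (t ≫ Spec.map (CommRingCat.ofHom (algebraMap A C))) (σ η))) = ⊥ :=
    maximalIdeal_stalk_eq_bot _ (by rw [h2η])
  have hD := skLoc_fiber_of_stalk k (pullback.snd _ _) (σ η) hm hC
  exact (skLoc_fiber_bc_iff k hsq (σ η) _ h1η).mp hD

theorem skfib_generization (k : ℕ) (x : Spec (CommRingCat.of C)) (hx : SKfib k A C x) :
    ∀ (I : Ideal C) (x' : Spec (CommRingCat.of C)), x'.asIdeal = I → I ≤ x.asIdeal →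
      SKfib k A C x' := by
  intro I
  induction I using WellFoundedGT.induction with
  | ind I IH =>
    intro x' hI hle
    subst hI
    by_cases heq : x'.asIdeal = x.asIdeal
    · have : x' = x := PrimeSpectrum.ext heq
      rw [this]
      exact hx
    · have hlt : x'.asIdeal < x.asIdeal := lt_of_le_of_ne hle heq
      haveI := x'.2
      haveI := x.2
      obtain ⟨p, hp, hht, hlt', hle'⟩ := exists_prime_height_le_one hlt
      haveI := hp
      have h₁ : SKfib k A C ⟨p.comap (Ideal.Quotient.mk x'.asIdeal), inferInstance⟩ :=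
        IH _ hlt' ⟨p.comap (Ideal.Quotient.mk x'.asIdeal), inferInstance⟩ rfl hle'
      exact skfib_step k x'.asIdeal p hht h₁

omit [Algebra.FiniteType A C] in
theorem stableUnderGeneralization_lsk (k : ℕ) [Algebra.FiniteType A C] :
    StableUnderGeneralization (Lsk k (Spec.map (CommRingCat.ofHom (algebraMap A C)))) := by
  intro x x' hsp hx
  exact skfib_generization k x hx x'.asIdeal x' rfl
    ((PrimeSpectrum.le_iff_specializes x' x).mpr hsp)

end Affine

end

-- ===== part SkE =====
section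

open CategoryTheory CategoryTheory.Limits AlgebraicGeometry Topology TensorProduct TopologicalSpace
  IsLocalRing
open Groth.Agent.Lib.Helper5.FiberStalk Groth.Agent.Lib.Helper5.FiberMor

/-- a commutative square of ring homomorphisms with isomorphisms as vertical maps induces an
isomorphism on the quotients by the extended maximal ideals. -/
noncomputable def quotEquivOfComm {A₁ B₁ A₂ B₂ : Type u} [CommRing A₁] [CommRing B₁] [CommRing A₂]
    [CommRing B₂] [IsLocalRing A₁] [IsLocalRing A₂] (φ₁ : A₁ →+* B₁) (φ₂ : A₂ →+* B₂)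
    (eA : A₁ ≃+* A₂) (eB : B₁ ≃+* B₂)
    (h : (eB : B₁ →+* B₂).comp φ₁ = φ₂.comp (eA : A₁ →+* A₂)) :
    (B₁ ⧸ (maximalIdeal A₁).map φ₁) ≃+* (B₂ ⧸ (maximalIdeal A₂).map φ₂) :=
  Ideal.quotientEquiv _ _ eB (by
    rw [Ideal.map_map]
    change _ = Ideal.map ((eB : B₁ →+* B₂).comp φ₁) _
    rw [h, ← Ideal.map_map]
    congr 1
    exact (IsLocalRing.map_ringEquiv_maximalIdeal eA).symm)

variable {A B : Type u} [CommRing A] [CommRing B] [Algebra A B]

/-- The local ring of the fibre of `Spec B ⟶ Spec A` at `x` is the fibre local ring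
`B_x ⧸ (x ∩ A) B_x`. -/
theorem nonempty_fiber_stalk_equiv_fibLocRing (x : Spec (CommRingCat.of B)) :
    Nonempty
      ((((Spec.map (CommRingCat.ofHom (algebraMap A B))).fiber
        ((Spec.map (CommRingCat.ofHom (algebraMap A B))) x)).presheaf.stalk
        ((Spec.map (CommRingCat.ofHom (algebraMap A B))).asFiber x)) ≃+*
        EGA4.FibLocRing A B x.asIdeal) := by
  obtain ⟨e0⟩ := nonempty_stalk_asFiber_equiv (Spec.map (CommRingCat.ofHom (algebraMap A B))) x
  refine ⟨e0.trans ?_⟩
  set φ : CommRingCat.of A ⟶ CommRingCat.of B := CommRingCat.ofHom (algebraMap A B) with hφ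
  have key := Scheme.localRingHom_comp_stalkIso φ x
  let eA : (Spec (CommRingCat.of A)).presheaf.stalk ((Spec.map φ) x) ≃+*
      Localization.AtPrime (PrimeSpectrum.comap φ.hom x).asIdeal :=
    (Spec.stalkIso (CommRingCat.of A) (PrimeSpectrum.comap φ.hom x)).commRingCatIsoToRingEquiv
  let eB : (Spec (CommRingCat.of B)).presheaf.stalk x ≃+* Localization.AtPrime x.asIdeal :=
    (Spec.stalkIso (CommRingCat.of B) x).commRingCatIsoToRingEquiv
  have hcomm : (eB : _ →+* _).comp ((Spec.map φ).stalkMap x).hom =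
      (Localization.localRingHom (PrimeSpectrum.comap φ.hom x).asIdeal x.asIdeal φ.hom rfl).comp
        (eA : _ →+* _) := by
    have h2 : (Spec.map φ).stalkMap x ≫ (Spec.stalkIso (CommRingCat.of B) x).hom =
        (Spec.stalkIso (CommRingCat.of A) (PrimeSpectrum.comap φ.hom x)).hom ≫
          CommRingCat.ofHom (Localization.localRingHom
            (PrimeSpectrum.comap φ.hom x).asIdeal x.asIdeal φ.hom rfl) := by
      exact ((Iso.comp_inv_eq (Spec.stalkIso (CommRingCat.of B) x)).mp
        ((Category.assoc _ _ _).trans key)).symm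
    exact congrArg CommRingCat.Hom.hom h2
  have e1 := quotEquivOfComm ((Spec.map φ).stalkMap x).hom
    (Localization.localRingHom (PrimeSpectrum.comap φ.hom x).asIdeal x.asIdeal φ.hom rfl)
    eA eB hcomm
  refine e1.trans (Ideal.quotEquivOfEq ?_)
  rw [← Localization.AtPrime.map_eq_maximalIdeal, Ideal.map_map]
  congr 1
  refine RingHom.ext fun a => ?_
  rw [RingHom.comp_apply, Localization.localRingHom_to_map]
  rfl

end

-- ===== part SkF =====
section

open CategoryTheory CategoryTheory.Limits AlgebraicGeometry Topology TensorProduct TopologicalSpace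
  IsLocalRing
open Groth.Agent.Lib.Helper5.CodepthFib
  Groth.Agent.Lib.Helper5.FiberMor Groth.Agent.Lib.Helper5.FiberRing
  Groth.Agent.Lib.Helper5.CodepthOpen
  Groth.Agent.Lib.Helper5.GenDepth Groth.Agent.Lib.Helper28 LocCoh
  Groth.Agent.Lib.Helper5.TensorSk
  Groth.Agent.Lib.Helper5.FlatCMFibres

section Height

variable {R : Type u} [CommRing R]

/-- `ht p + ht (q/p) ≤ ht q` for primes `p ≤ q`. -/
theorem height_add_height_quot_le (p q : Ideal R) [p.IsPrime] [q.IsPrime] (hpq : p ≤ q) :
    p.height + (q.map (Ideal.Quotient.mk p)).height ≤ q.height := by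
  have hsurjp : Function.Surjective (Ideal.Quotient.mk p) := Ideal.Quotient.mk_surjective
  haveI hqp : (q.map (Ideal.Quotient.mk p)).IsPrime :=
    Ideal.map_isPrime_of_surjective hsurjp (by rwa [Ideal.mk_ker])
  let f : PrimeSpectrum (R ⧸ p) → PrimeSpectrum R := PrimeSpectrum.comap (Ideal.Quotient.mk p)
  have hf : StrictMono f := by
    intro x y hxy
    have hle : f x ≤ f y := Ideal.comap_mono (le_of_lt hxy)
    refine lt_of_le_of_ne hle fun heq => ?_
    have := PrimeSpectrum.comap_injective_of_surjective (Ideal.Quotient.mk p) hsurjp heq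
    exact (ne_of_lt hxy) this
  have hb : ∀ x, (⟨p, inferInstance⟩ : PrimeSpectrum R) ≤ f x := by
    intro x r hr
    show Ideal.Quotient.mk p r ∈ x.asIdeal
    rw [Ideal.Quotient.eq_zero_iff_mem.2 hr]
    exact x.asIdeal.zero_mem
  have hfx : f ⟨q.map (Ideal.Quotient.mk p), hqp⟩ = ⟨q, inferInstance⟩ := by
    apply PrimeSpectrum.ext
    show Ideal.comap (Ideal.Quotient.mk p) (q.map (Ideal.Quotient.mk p)) = q
    rw [Ideal.comap_map_of_surjective _ hsurjp, ← RingHom.ker_eq_comap_bot, Ideal.mk_ker,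
      sup_of_le_left hpq]
  have h := Groth.Agent.S11651.height_add_le_of_strictMono f hf _ hb
    ⟨q.map (Ideal.Quotient.mk p), hqp⟩
  rw [hfx] at h
  rw [← PrimeSpectrum.height_eq_orderHeight, ← PrimeSpectrum.height_eq_orderHeight,
    ← PrimeSpectrum.height_eq_orderHeight] at h
  exact h

end Height

section GD

variable {A B : Type u} [CommRing A] [CommRing B] [Algebra A B] [IsNoetherianRing A]
  [IsNoetherianRing B]

/-- going down for a quotient flat at a point: `ht (Q ∩ A) ≤ ht (Q/ζ)`. -/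
theorem height_comap_le_height_quot (ζ Q : Ideal B) [ζ.IsPrime] [Q.IsPrime] (hζQ : ζ ≤ Q)
    (hflat : Module.Flat A (LocalizedModule Q.primeCompl (B ⧸ ζ))) :
    (Q.comap (algebraMap A B)).height ≤ (Q.map (Ideal.Quotient.mk ζ)).height := by
  haveI hQbar : (Q.map (Ideal.Quotient.mk ζ)).IsPrime :=
    Ideal.map_isPrime_of_surjective Ideal.Quotient.mk_surjective (by rwa [Ideal.mk_ker])
  set Qbar : Ideal (B ⧸ ζ) := Q.map (Ideal.Quotient.mk ζ) with hQbar_def
  have h1 : IsLocalization (Algebra.algebraMapSubmonoid (B ⧸ ζ) Q.primeCompl)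
      (Localization.AtPrime Qbar) := by
    rw [algebraMapSubmonoid_quotient_primeCompl ζ Q hζQ]
    infer_instance
  haveI h2 : IsLocalizedModule Q.primeCompl
      (IsScalarTower.toAlgHom B (B ⧸ ζ) (Localization.AtPrime Qbar)).toLinearMap :=
    isLocalizedModule_iff_isLocalization.mpr h1
  haveI hflatS : Module.Flat A (Localization.AtPrime Qbar) :=
    Groth.Agent.Lib.H9NzdFibre.flat_of_isLocalizedModule Q.primeCompl
      (IsScalarTower.toAlgHom B (B ⧸ ζ) (Localization.AtPrime Qbar)).toLinearMap hflat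
  haveI : IsNoetherianRing (Localization.AtPrime Qbar) :=
    IsLocalization.isNoetherianRing Qbar.primeCompl _ inferInstance
  -- the maximal ideal of the localization lies over `Q ∩ A`
  have hover : (maximalIdeal (Localization.AtPrime Qbar)).comap
      (algebraMap A (Localization.AtPrime Qbar)) = Q.comap (algebraMap A B) := by
    have hu := IsLocalization.AtPrime.under_maximalIdeal (Localization.AtPrime Qbar) Qbar
    rw [Ideal.under_def] at hu
    rw [IsScalarTower.algebraMap_eq A (B ⧸ ζ) (Localization.AtPrime Qbar), ← Ideal.comap_comap,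
      hu, IsScalarTower.algebraMap_eq A B (B ⧸ ζ), ← Ideal.comap_comap]
    congr 1
    rw [hQbar_def]
    show Ideal.comap (Ideal.Quotient.mk ζ) (Q.map (Ideal.Quotient.mk ζ)) = Q
    rw [Ideal.comap_map_of_surjective _ Ideal.Quotient.mk_surjective, ← RingHom.ker_eq_comap_bot,
      Ideal.mk_ker, sup_of_le_left hζQ]
  haveI : (maximalIdeal (Localization.AtPrime Qbar)).LiesOver (Q.comap (algebraMap A B)) :=
    ⟨hover.symm⟩
  have h3 := Ideal.height_eq_height_add_of_liesOver_of_hasGoingDown (Q.comap (algebraMap A B))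
    (maximalIdeal (Localization.AtPrime Qbar))
  have h4 : (maximalIdeal (Localization.AtPrime Qbar)).height = Qbar.height := by
    have h5 := IsLocalization.AtPrime.ringKrullDim_eq_height Qbar (Localization.AtPrime Qbar)
    rw [← IsLocalRing.maximalIdeal_height_eq_ringKrullDim] at h5
    exact WithBot.coe_injective h5
  rw [← h4, h3]
  exact le_self_add

end GD

section PC

variable {A B : Type u} [CommRing A] [CommRing B] [Algebra A B] [IsNoetherianRing B]

/-- pointwise criterion for `(S_k)` of a fibre local ring. -/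
theorem skLoc_fibLocRing_of_forall (k : ℕ) (x : Ideal B) [x.IsPrime]
    (h : ∀ (Q : Ideal B) [Q.IsPrime], Q ≤ x →
      Q.comap (algebraMap A B) = x.comap (algebraMap A B) →
      SnLocalRing k (EGA4.FibLocRing A B Q)) :
    SkLoc k (EGA4.FibLocRing A B x) := by
  obtain ⟨Xb, hXb, hx⟩ := exists_prime_fiber_comap_eq (A := A) x
  haveI := hXb
  obtain ⟨e⟩ := nonempty_localization_fiber_equiv (x.comap (algebraMap A B)) Xb x hx
  haveI : IsNoetherianRing ((x.comap (algebraMap A B)).Fiber B) :=
    isNoetherianRing_fiber (x.comap (algebraMap A B))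
  refine (skLoc_congr k (R := Localization.AtPrime Xb) (S := EGA4.FibLocRing A B x) e).mp ?_
  rw [skLoc_localization_iff']
  intro qb hqb hle
  haveI : (qb.comap (Algebra.TensorProduct.includeRight :
      B →ₐ[A] (x.comap (algebraMap A B)).Fiber B)).IsPrime := Ideal.comap_isPrime _ _
  have hQx : qb.comap (Algebra.TensorProduct.includeRight :
      B →ₐ[A] (x.comap (algebraMap A B)).Fiber B) ≤ x := by
    exact (Ideal.comap_mono hle).trans hx.ge
  have hQP := comap_includeRight_comap (x.comap (algebraMap A B)) qb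
  have hSn := h _ hQx hQP
  obtain ⟨e'⟩ := nonempty_localization_fiber_equiv (x.comap (algebraMap A B)) qb _ rfl
  obtain ⟨_, _, hle'⟩ := snLocalRing_of_ringEquiv k _ (Localization.AtPrime qb) e'.symm hSn
  rw [IsLocalization.AtPrime.ringKrullDim_eq_height qb (Localization.AtPrime qb),
    withBot_min_natCast_le_iff] at hle'
  exact hle'

/-- the fibre local ring at a point over the zero ideal is the local ring. -/
noncomputable def fibLocRingEquivOfComapBot (Q : Ideal B) [Q.IsPrime]
    (h : Q.comap (algebraMap A B) = ⊥) : EGA4.FibLocRing A B Q ≃+* Localization.AtPrime Q :=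
  (Ideal.quotEquivOfEq (by rw [h, Ideal.map_bot])).trans (RingEquiv.quotientBot _)

theorem snLocalRing_fibLocRing_of_skLoc_generic (k : ℕ) (ξ ζ : Ideal B) [ξ.IsPrime] [ζ.IsPrime]
    (hζξ : ζ ≤ ξ) (hξ0 : ξ.comap (algebraMap A B) = ⊥)
    (hξ : SkLoc k (EGA4.FibLocRing A B ξ)) : SnLocalRing k (EGA4.FibLocRing A B ζ) := by
  have hζ0 : ζ.comap (algebraMap A B) = ⊥ := by
    rw [eq_bot_iff, ← hξ0]
    exact Ideal.comap_mono hζξ
  have h1 : SkLoc k (Localization.AtPrime ξ) :=
    (skLoc_congr k (fibLocRingEquivOfComapBot (A := A) ξ hξ0)).mp hξ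
  rw [skLoc_localization_iff'] at h1
  have h2 := h1 ζ hζξ
  haveI : IsNoetherianRing (Localization.AtPrime ζ) :=
    IsLocalization.isNoetherianRing ζ.primeCompl _ inferInstance
  refine snLocalRing_of_ringEquiv k _ _ (fibLocRingEquivOfComapBot (A := A) ζ hζ0).symm ?_
  refine ⟨inferInstance, inferInstance, ?_⟩
  rw [IsLocalization.AtPrime.ringKrullDim_eq_height ζ (Localization.AtPrime ζ),
    withBot_min_natCast_le_iff]
  exact h2

end PC

end

-- ===== part SkG =====
section

open CategoryTheory CategoryTheory.Limits AlgebraicGeometry Topology TensorProduct TopologicalSpace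
  IsLocalRing
open Groth.Agent.Lib.Helper5.CodepthFib
  Groth.Agent.Lib.Helper5.FiberMor Groth.Agent.Lib.Helper5.FiberRing
  Groth.Agent.Lib.Helper5.CodepthOpen
  Groth.Agent.Lib.Helper5.GenDepth Groth.Agent.Lib.Helper28 LocCoh
  Groth.Agent.Lib.Helper5.TensorSk
  Groth.Agent.Lib.Helper5.FlatCMFibres

section FlatGeneric

variable {A B : Type u} [CommRing A] [CommRing B] [Algebra A B] [IsDomain A]

/-- the localization at a prime over the zero ideal of a domain `A` of any module is flat
over `A`. -/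
theorem flat_localizedModule_of_comap_eq_bot (ξ : Ideal B) [ξ.IsPrime]
    (hξ0 : ξ.comap (algebraMap A B) = ⊥) (M : Type u) [AddCommGroup M] [Module B M] [Module A M]
    [IsScalarTower A B M] : Module.Flat A (LocalizedModule ξ.primeCompl M) := by
  have hunit : ∀ s : nonZeroDivisors A, IsUnit (algebraMap A (Localization.AtPrime ξ) s) := by
    intro s
    rw [IsScalarTower.algebraMap_apply A B (Localization.AtPrime ξ)]
    have hs : algebraMap A B s ∈ ξ.primeCompl := by
      intro hmem
      have h1 : (s : A) ∈ ξ.comap (algebraMap A B) := hmem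
      rw [hξ0, Ideal.mem_bot] at h1
      exact nonZeroDivisors.ne_zero s.2 h1
    exact IsLocalization.map_units (Localization.AtPrime ξ) (⟨algebraMap A B s, hs⟩ : ξ.primeCompl)
  let φ : FractionRing A →+* Localization.AtPrime ξ :=
    IsLocalization.lift (M := nonZeroDivisors A) hunit
  letI : Module (FractionRing A) (LocalizedModule ξ.primeCompl M) := Module.compHom _ φ
  haveI : IsScalarTower A (FractionRing A) (LocalizedModule ξ.primeCompl M) := by
    refine ⟨fun a x m => ?_⟩
    show φ (a • x) • m = a • (φ x • m)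
    rw [Algebra.smul_def, map_mul, IsLocalization.lift_eq, mul_smul, algebraMap_smul]
  exact (Module.flat_iff_of_isLocalization (FractionRing A) (nonZeroDivisors A) _).mp inferInstance

end FlatGeneric

section NCore

variable {A B : Type u} [CommRing A] [CommRing B] [Algebra A B] [IsDomain A] [IsNoetherianRing A]
  [IsNoetherianRing B] [Module.Flat A B] [Algebra.FinitePresentation A B]

omit [IsDomain A] [IsNoetherianRing A] [IsNoetherianRing B] [Module.Flat A B]
  [Algebra.FinitePresentation A B] in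
theorem numbers (Q : Ideal B) [Q.IsPrime] [IsNoetherianRing B] :
    ∃ d δ : ℕ, δ ≤ d ∧
      (∀ k : ℕ, SnLocalRing k (EGA4.FibLocRing A B Q) ↔ min k d ≤ δ) ∧
      (∀ n : ℕ, CodepthLE n (EGA4.FibLocRing A B Q) ↔ d ≤ δ + n) ∧
      (@maximalIdeal (EGA4.FibLocRing A B Q) _ (isLocalRing_fibLocRing (A := A) Q)).height
        = d := by
  haveI : IsLocalRing (EGA4.FibLocRing A B Q) := isLocalRing_fibLocRing (A := A) Q
  haveI : IsNoetherianRing (Localization.AtPrime Q) :=
    IsLocalization.isNoetherianRing Q.primeCompl _ inferInstance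
  obtain ⟨d, δ, hd, hδ, hle⟩ := exists_nat_height_depth (EGA4.FibLocRing A B Q)
  refine ⟨d, δ, hle, fun k => ?_, fun n => ?_, hd⟩
  · rw [snLocalRing_iff, hd, hδ, min_le_iff, min_le_iff, Nat.cast_le, Nat.cast_le]
  · rw [codepthLE_iff, hd, hδ]
    constructor <;> intro h <;> exact_mod_cast h

/-- the open set attached to a minimal prime of a codepth locus. -/
def Wz (A : Type u) {B : Type u} [CommRing A] [CommRing B] [Algebra A B]
    (ξ : PrimeSpectrum B) (ζ : Ideal B) : Set (PrimeSpectrum B) :=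
  {q | (ζ ≤ ξ.asIdeal ∧ Module.Flat A (LocalizedModule q.asIdeal.primeCompl (B ⧸ ζ))) ∨
    (¬ ζ ≤ ξ.asIdeal ∧ ¬ ζ ≤ q.asIdeal)}

omit [IsDomain A] [IsNoetherianRing A] [Module.Flat A B] in
theorem isOpen_Wz (ξ : PrimeSpectrum B) (ζ : Ideal B) : IsOpen (Wz A ξ ζ) := by
  by_cases h : ζ ≤ ξ.asIdeal
  · have : Wz A ξ ζ =
        {q | Module.Flat A (LocalizedModule q.asIdeal.primeCompl (B ⧸ ζ))} := by
      ext q
      simp [Wz, h]
    rw [this]
    haveI : Module.FinitePresentation B (B ⧸ ζ) := Module.finitePresentation_of_finite B (B ⧸ ζ)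
    exact Groth.Agent.Lib.Helper3.FlatOpen.isOpen_flatLocus_of_finitePresentation
      (R := A) (S := B) (M := B ⧸ ζ)
  · have : Wz A ξ ζ = (PrimeSpectrum.zeroLocus (ζ : Set B))ᶜ := by
      ext q
      simp [Wz, h, PrimeSpectrum.mem_zeroLocus]
    rw [this]
    exact (PrimeSpectrum.isClosed_zeroLocus _).isOpen_compl

omit [IsNoetherianRing A] [IsNoetherianRing B] [Module.Flat A B]
  [Algebra.FinitePresentation A B] in
theorem mem_Wz_self (ξ : PrimeSpectrum B) (hξ0 : ξ.asIdeal.comap (algebraMap A B) = ⊥)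
    (ζ : Ideal B) : ξ ∈ Wz A ξ ζ := by
  by_cases h : ζ ≤ ξ.asIdeal
  · exact Or.inl ⟨h, flat_localizedModule_of_comap_eq_bot ξ.asIdeal hξ0 (B ⧸ ζ)⟩
  · exact Or.inr ⟨h, h⟩

/-- the core of the Nagata criterion: a point of the generic fibre at which the fibre is `(S_k)`
has an open neighbourhood on which all fibres are `(S_k)`. -/
theorem ncore (k : ℕ)
    (hZ : ∀ n : ℕ, IsClosed {Q : PrimeSpectrum B |
      ¬ CodepthLE n (EGA4.FibLocRing A B Q.asIdeal)})
    (ξ : PrimeSpectrum B) (hξ0 : ξ.asIdeal.comap (algebraMap A B) = ⊥)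
    (hξ : SkLoc k (EGA4.FibLocRing A B ξ.asIdeal)) :
    ∃ W : Set (PrimeSpectrum B), IsOpen W ∧ ξ ∈ W ∧
      ∀ x ∈ W, SkLoc k (EGA4.FibLocRing A B x.asIdeal) := by
  classical
  -- the codepth loci and their ideals
  set Z : ℕ → Set (PrimeSpectrum B) := fun n =>
    {Q : PrimeSpectrum B | ¬ CodepthLE n (EGA4.FibLocRing A B Q.asIdeal)} with hZdef
  set I : ℕ → Ideal B := fun n => PrimeSpectrum.vanishingIdeal (Z n) with hIdef
  have hZI : ∀ n, PrimeSpectrum.zeroLocus (I n : Set B) = Z n := by
    intro n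
    rw [hIdef, PrimeSpectrum.zeroLocus_vanishingIdeal_eq_closure, (hZ n).closure_eq]
  have hfin : ∀ n, (I n).minimalPrimes.Finite := fun n =>
    Ideal.finite_minimalPrimes_of_isNoetherianRing B (I n)
  -- the bound
  obtain ⟨dξ, δξ, hleξ, -, hcdξ, -⟩ := numbers (A := A) ξ.asIdeal
  set N : ℕ := dξ with hN
  have hξN : ξ ∉ Z N := by
    intro hmem
    exact hmem ((hcdξ N).mpr (by omega))
  -- the open set
  set W : Set (PrimeSpectrum B) :=
    (Z N)ᶜ ∩ ⋂ n ∈ Finset.range N, ⋂ ζ ∈ (I n).minimalPrimes, Wz A ξ ζ with hW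
  have hWopen : IsOpen W := by
    refine (hZ N).isOpen_compl.inter ?_
    refine isOpen_biInter_finset fun n _ => ?_
    exact (hfin n).isOpen_biInter fun ζ _ => isOpen_Wz ξ ζ
  have hξW : ξ ∈ W := by
    refine ⟨hξN, ?_⟩
    simp only [Set.mem_iInter]
    intro n _ ζ _
    exact mem_Wz_self ξ hξ0 ζ
  refine ⟨W, hWopen, hξW, fun x hxW => ?_⟩
  haveI := x.2
  apply skLoc_fibLocRing_of_forall
  intro Q hQ hQx hQP
  -- `Q` is a point of `W`
  have hQW : (⟨Q, hQ⟩ : PrimeSpectrum B) ∈ W := by
    have hsp : (⟨Q, hQ⟩ : PrimeSpectrum B) ⤳ x :=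
      (PrimeSpectrum.le_iff_specializes ⟨Q, hQ⟩ x).mp hQx
    exact hsp.mem_open hWopen hxW
  obtain ⟨d, δ, hle, hSn, hcd, hd⟩ := numbers (A := A) Q
  rw [hSn]
  by_cases hcm : d = δ
  · rw [hcm]
    exact min_le_right _ _
  -- the non Cohen–Macaulay case
  have hlt : δ < d := lt_of_le_of_ne hle (Ne.symm hcm)
  obtain ⟨n, hn⟩ : ∃ n : ℕ, d = δ + n + 1 := ⟨d - δ - 1, by omega⟩
  have hQZn : (⟨Q, hQ⟩ : PrimeSpectrum B) ∈ Z n := by
    show ¬ CodepthLE n (EGA4.FibLocRing A B Q)
    rw [hcd]
    omega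
  have hQZN : ¬ (⟨Q, hQ⟩ : PrimeSpectrum B) ∈ Z N := hQW.1
  have hnN : n < N := by
    have h1 : CodepthLE N (EGA4.FibLocRing A B Q) := not_not.mp hQZN
    rw [hcd] at h1
    omega
  -- a minimal prime of the codepth locus below `Q`
  have hIQ : I n ≤ Q := by
    have h1 : (⟨Q, hQ⟩ : PrimeSpectrum B) ∈ PrimeSpectrum.zeroLocus (I n : Set B) := by
      rw [hZI]
      exact hQZn
    exact (PrimeSpectrum.mem_zeroLocus _ _).mp h1
  obtain ⟨ζ, hζmin, hζQ⟩ := Ideal.exists_minimalPrimes_le hIQ
  haveI hζP : ζ.IsPrime := hζmin.1.1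
  have hζZn : (⟨ζ, hζP⟩ : PrimeSpectrum B) ∈ Z n := by
    rw [← hZI]
    exact (PrimeSpectrum.mem_zeroLocus _ _).mpr hζmin.1.2
  have hQWz : (⟨Q, hQ⟩ : PrimeSpectrum B) ∈ Wz A ξ ζ := by
    have h1 := hQW.2
    simp only [Set.mem_iInter] at h1
    exact h1 n (Finset.mem_range.mpr hnN) ζ hζmin
  obtain ⟨hζξ, hflat⟩ : ζ ≤ ξ.asIdeal ∧
      Module.Flat A (LocalizedModule Q.primeCompl (B ⧸ ζ)) := by
    rcases hQWz with h | h
    · exact h
    · exact absurd hζQ h.2
  -- the point `ζ` of the generic fibre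
  haveI := ξ.2
  have hζ0 : ζ.comap (algebraMap A B) = ⊥ := by
    rw [eq_bot_iff, ← hξ0]
    exact Ideal.comap_mono hζξ
  have hSnζ := snLocalRing_fibLocRing_of_skLoc_generic (A := A) k ξ.asIdeal ζ hζξ hξ0 hξ
  obtain ⟨dζ, δζ, hleζ, hSnζ', hcdζ, hdζ⟩ := numbers (A := A) ζ
  rw [hSnζ'] at hSnζ
  have hncd : ¬ dζ ≤ δζ + n := by
    rw [← hcdζ]
    exact hζZn
  have hdζk : k + n + 1 ≤ dζ := by
    rcases min_le_iff.mp hSnζ with h | h <;> omega
  -- heights
  haveI : IsLocalRing (EGA4.FibLocRing A B Q) := isLocalRing_fibLocRing (A := A) Q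
  haveI : IsLocalRing (EGA4.FibLocRing A B ζ) := isLocalRing_fibLocRing (A := A) ζ
  have hQ1 := height_eq_height_fibLocRing_add (A := A) Q
  have hζ1 := height_eq_height_fibLocRing_add (A := A) ζ
  rw [hd] at hQ1
  rw [hdζ, hζ0, Ideal.height_bot, add_zero] at hζ1
  have h2 := height_add_height_quot_le ζ Q hζQ
  have h3 := height_comap_le_height_quot (A := A) ζ Q hζQ hflat
  obtain ⟨r, hr⟩ := ENat.ne_top_iff_exists.mp
    (Ideal.height_ne_top_of_isPrime (I := Q.comap (algebraMap A B)))
  have h4 : (dζ : ℕ∞) + r ≤ d + r := by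
    calc (dζ : ℕ∞) + r = ζ.height + (Q.comap (algebraMap A B)).height := by rw [hζ1, hr]
      _ ≤ ζ.height + (Q.map (Ideal.Quotient.mk ζ)).height := by gcongr
      _ ≤ Q.height := h2
      _ = d + r := by rw [hQ1, hr]
  have h5 : dζ + r ≤ d + r := by exact_mod_cast h4
  have h6 : k ≤ δ := by omega
  exact le_trans (min_le_left _ _) h6

end NCore

end

-- ===== part SkH =====
section

open CategoryTheory CategoryTheory.Limits AlgebraicGeometry Topology TensorProduct TopologicalSpace
  IsLocalRing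
open Groth.Agent.Lib.Helper5.CodepthFib Groth.Agent.Lib.Helper5.LocusGeneric
  Groth.Agent.Lib.Helper5.FibCodepthConstr
  Groth.Agent.Lib.Helper5.FiberMor Groth.Agent.Lib.Helper5.FiberRing
  Groth.Agent.Lib.Helper5.CodepthOpen
  Groth.Agent.Lib.Helper5.GenDepth Groth.Agent.Lib.Helper28 LocCoh
  Groth.Agent.Lib.Helper5.RelCMOpen

section Bridge

variable {A B : Type u} [CommRing A] [CommRing B] [Algebra A B]

theorem mem_lsk_spec_iff (k : ℕ) (x : Spec (CommRingCat.of B)) :
    x ∈ Lsk k (Spec.map (CommRingCat.ofHom (algebraMap A B))) ↔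
      SkLoc k (EGA4.FibLocRing A B x.asIdeal) := by
  obtain ⟨e⟩ := nonempty_fiber_stalk_equiv_fibLocRing (A := A) x
  exact skLoc_congr k e

theorem mem_lcd_spec_iff (n : ℕ) (x : Spec (CommRingCat.of B)) :
    x ∈ Lcd n (Spec.map (CommRingCat.ofHom (algebraMap A B))) ↔
      CodepthLE n (EGA4.FibLocRing A B x.asIdeal) := by
  obtain ⟨e⟩ := nonempty_fiber_stalk_equiv_fibLocRing (A := A) x
  exact ⟨isoInv_codepthLE n _ _ e, isoInv_codepthLE n _ _ e.symm⟩

end Bridge

section Nagata

variable {A B : Type u} [CommRing A] [CommRing B] [Algebra A B] [IsNoetherianRing A]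
  [Module.Flat A B] [Algebra.FinitePresentation A B]

theorem isClosed_codepth_locus (n : ℕ) :
    IsClosed {Q : PrimeSpectrum B | ¬ CodepthLE n (EGA4.FibLocRing A B Q.asIdeal)} := by
  haveI : LocallyOfFinitePresentation (Spec.map (CommRingCat.ofHom (algebraMap A B))) := by
    rw [LocallyOfFinitePresentation.SpecMap_iff, CommRingCat.hom_ofHom,
      RingHom.finitePresentation_algebraMap]
    infer_instance
  haveI : Flat (Spec.map (CommRingCat.ofHom (algebraMap A B))) :=
    Flat.SpecMap_iff.mpr (RingHom.flat_algebraMap_iff.mpr inferInstance)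
  have h := Groth.Agent.Lib.H9RelCodepth.isOpen_lcd_of_flat n
    (Spec.map (CommRingCat.ofHom (algebraMap A B)))
  have heq : {Q : PrimeSpectrum B | ¬ CodepthLE n (EGA4.FibLocRing A B Q.asIdeal)} =
      (Lcd n (Spec.map (CommRingCat.ofHom (algebraMap A B))))ᶜ := by
    ext Q
    exact not_congr (mem_lcd_spec_iff (A := A) n Q).symm
  rw [heq]
  exact h.isClosed_compl

/-- the Nagata condition for the fibrewise `(S_k)` locus. -/
theorem nagata_lsk (k : ℕ) (p : PrimeSpectrum B)
    (hp : p ∈ Lsk k (Spec.map (CommRingCat.ofHom (algebraMap A B)))) :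
    ∃ U : Set (PrimeSpectrum B), IsOpen U ∧
      (U ∩ PrimeSpectrum.zeroLocus (p.asIdeal : Set B)).Nonempty ∧
      U ∩ PrimeSpectrum.zeroLocus (p.asIdeal : Set B) ⊆
        Lsk k (Spec.map (CommRingCat.ofHom (algebraMap A B))) := by
  haveI := p.2
  set P : Ideal A := p.asIdeal.comap (algebraMap A B) with hP
  haveI hPprime : P.IsPrime := Ideal.comap_isPrime _ _
  -- the base change to the closure of the image point
  set A' : Type u := A ⧸ P with hA'
  set B' : Type u := (A ⧸ P) ⊗[A] B with hB'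
  haveI : IsNoetherianRing B' := Algebra.FiniteType.isNoetherianRing A' B'
  let ψ : B →+* B' := (Algebra.TensorProduct.includeRight : B →ₐ[A] B').toRingHom
  let e := Algebra.TensorProduct.quotIdealMapEquivQuotTensor B P
  have hψe : ∀ b : B, ψ b = e (Ideal.Quotient.mk (P.map (algebraMap A B)) b) := fun b => rfl
  have hψsurj : Function.Surjective ψ := by
    intro y
    obtain ⟨z, rfl⟩ := e.surjective y
    obtain ⟨b, rfl⟩ := Ideal.Quotient.mk_surjective z
    exact ⟨b, hψe b⟩
  have hker : RingHom.ker ψ = P.map (algebraMap A B) := by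
    ext b
    rw [RingHom.mem_ker, hψe, map_eq_zero_iff e e.injective, Ideal.Quotient.eq_zero_iff_mem]
  have hkerp : RingHom.ker ψ ≤ p.asIdeal := by
    rw [hker, Ideal.map_le_iff_le_comap]
  -- the pullback square
  have hpo := CommRingCat.isPushout_tensorProduct A A' B
  have hsq : IsPullback (Spec.map (CommRingCat.ofHom ψ))
      (Spec.map (CommRingCat.ofHom (algebraMap A' B')))
      (Spec.map (CommRingCat.ofHom (algebraMap A B)))
      (Spec.map (CommRingCat.ofHom (algebraMap A A'))) :=
    (isPullback_SpecMap_of_isPushout _ _ _ _ hpo).flip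
  haveI : LocallyOfFinitePresentation (Spec.map (CommRingCat.ofHom (algebraMap A B))) := by
    rw [LocallyOfFinitePresentation.SpecMap_iff, CommRingCat.hom_ofHom,
      RingHom.finitePresentation_algebraMap]
    infer_instance
  have hbc := lsk_baseChange k _ _ _ _ inferInstance hsq
  -- the point over `p`
  haveI hξ'prime : (p.asIdeal.map ψ).IsPrime := Ideal.map_isPrime_of_surjective hψsurj hkerp
  let ξ' : PrimeSpectrum B' := ⟨p.asIdeal.map ψ, hξ'prime⟩
  have hcomap_map : ∀ (x : Ideal B), RingHom.ker ψ ≤ x → (x.map ψ).comap ψ = x := by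
    intro x hx
    rw [Ideal.comap_map_of_surjective _ hψsurj, ← RingHom.ker_eq_comap_bot, sup_of_le_left hx]
  have hξ'p : PrimeSpectrum.comap ψ ξ' = p := PrimeSpectrum.ext (hcomap_map _ hkerp)
  have hξ'0 : ξ'.asIdeal.comap (algebraMap A' B') = ⊥ := by
    rw [eq_bot_iff]
    intro a' ha'
    obtain ⟨a, rfl⟩ := Ideal.Quotient.mk_surjective a'
    rw [Ideal.mem_comap] at ha'
    have h1 : algebraMap A' B' (Ideal.Quotient.mk P a) = ψ (algebraMap A B a) := by
      have := (Algebra.TensorProduct.includeRight : B →ₐ[A] B').commutes a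
      rw [IsScalarTower.algebraMap_apply A A' B'] at this
      exact this.symm
    rw [h1] at ha'
    have h2 : algebraMap A B a ∈ (p.asIdeal.map ψ).comap ψ := ha'
    rw [hcomap_map _ hkerp] at h2
    rw [Ideal.mem_bot, Ideal.Quotient.eq_zero_iff_mem]
    exact h2
  have hξ'L : ξ' ∈ Lsk k (Spec.map (CommRingCat.ofHom (algebraMap A' B'))) := by
    rw [hbc]
    show (Spec.map (CommRingCat.ofHom ψ)) ξ' ∈
      Lsk k (Spec.map (CommRingCat.ofHom (algebraMap A B)))
    have : (Spec.map (CommRingCat.ofHom ψ)) ξ' = p := hξ'p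
    rw [this]
    exact hp
  obtain ⟨W', hW'open, hξ'W', hW'⟩ := ncore (A := A') (B := B') k
    (fun n => isClosed_codepth_locus (A := A') (B := B') n) ξ' hξ'0
    ((mem_lsk_spec_iff (A := A') (B := B') k ξ').mp hξ'L)
  -- transport to `Spec B`
  have hemb := PrimeSpectrum.isClosedEmbedding_comap_of_surjective B' ψ hψsurj
  refine ⟨((PrimeSpectrum.comap ψ) '' W'ᶜ)ᶜ,
    (hemb.isClosedMap _ hW'open.isClosed_compl).isOpen_compl, ⟨p, ?_, ?_⟩, ?_⟩
  · rintro ⟨y, hy, hyp⟩
    have : y = ξ' := hemb.injective (hyp.trans hξ'p.symm)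
    exact hy (this ▸ hξ'W')
  · exact (PrimeSpectrum.mem_zeroLocus _ _).mpr le_rfl
  · rintro x ⟨hxU, hxV⟩
    haveI := x.2
    have hpx : p.asIdeal ≤ x.asIdeal := (PrimeSpectrum.mem_zeroLocus _ _).mp hxV
    have hkerx : RingHom.ker ψ ≤ x.asIdeal := hkerp.trans hpx
    haveI hx'prime : (x.asIdeal.map ψ).IsPrime := Ideal.map_isPrime_of_surjective hψsurj hkerx
    let x' : PrimeSpectrum B' := ⟨x.asIdeal.map ψ, hx'prime⟩
    have hx'x : PrimeSpectrum.comap ψ x' = x := PrimeSpectrum.ext (hcomap_map _ hkerx)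
    have hx'W' : x' ∈ W' := by
      by_contra hcon
      exact hxU ⟨x', hcon, hx'x⟩
    have hx'L : x' ∈ Lsk k (Spec.map (CommRingCat.ofHom (algebraMap A' B'))) :=
      (mem_lsk_spec_iff (A := A') (B := B') k x').mpr (hW' x' hx'W')
    rw [hbc] at hx'L
    have h3 : (Spec.map (CommRingCat.ofHom ψ)) x' ∈
        Lsk k (Spec.map (CommRingCat.ofHom (algebraMap A B))) := hx'L
    have h4 : (Spec.map (CommRingCat.ofHom ψ)) x' = x := hx'x
    rw [h4] at h3
    exact h3

theorem isOpen_lsk_spec (k : ℕ) (hA : Algebra.FiniteType ℤ A) :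
    IsOpen (Lsk k (Spec.map (CommRingCat.ofHom (algebraMap A B)))) := by
  haveI : IsNoetherianRing B := Algebra.FiniteType.isNoetherianRing A B
  exact Groth.Agent.Lib.Helper7.RegOpen.isOpen_of_nagata (A := B)
    (Lsk k (Spec.map (CommRingCat.ofHom (algebraMap A B))))
    (stableUnderGeneralization_lsk k) (fun p hp => nagata_lsk k p hp)

end Nagata

section General

/-- **EGA IV 12.1.6 (S_k)**: for `f` flat and locally of finite presentation, the set of points at
which the fibre satisfies `(S_k)` is open. -/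
theorem isOpen_lsk_of_flat (k : ℕ) {X Y : Scheme.{u}} (f : X ⟶ Y)
    [LocallyOfFinitePresentation f] [Flat f] : IsOpen (Lsk k f) :=
  isOpen_locus_of_flat (fun {X Y} f => Lsk k f)
    (fun f g g' f' hf hsq => lsk_baseChange k f g g' f' hf hsq)
    (fun f j hj => lsk_openImmersion k f j hj)
    (fun A B _ _ _ _ _ hA =>
      haveI : IsNoetherianRing A := Algebra.FiniteType.isNoetherianRing ℤ A
      isOpen_lsk_spec k hA) f

theorem skLoc_fiber_iff (k : ℕ) {X Y : Scheme.{u}} (f : X ⟶ Y) [LocallyOfFiniteType f]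
    (x : X) :
    SkLoc k ((f.fiber (f x)).presheaf.stalk (f.asFiber x)) ↔
      LocCoh.HasSk k ((f.fiber (f x)).presheaf.stalk (f.asFiber x))
        ((f.fiber (f x)).presheaf.stalk (f.asFiber x)) := by
  haveI : LocallyOfFiniteType (f.fiberToSpecResidueField (f x)) := by
    dsimp only [Scheme.Hom.fiberToSpecResidueField]
    exact MorphismProperty.pullback_snd (P := @LocallyOfFiniteType) f _ inferInstance
  haveI : IsLocallyNoetherian (f.fiber (f x)) :=
    LocallyOfFiniteType.isLocallyNoetherian (f.fiberToSpecResidueField (f x))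
  exact ⟨fun ⟨_, _, h⟩ => h, fun h => ⟨inferInstance, inferInstance, h⟩⟩

theorem main {X Y : Scheme.{u}} (f : X ⟶ Y) [Flat f] [LocallyOfFinitePresentation f]
    (k : ℕ) :
    IsOpen {x : X | LocCoh.HasSk k ((f.fiber (f.base x)).presheaf.stalk (f.asFiber x))
      ((f.fiber (f.base x)).presheaf.stalk (f.asFiber x))} := by
  have h := isOpen_lsk_of_flat k f
  convert h using 1
  ext x
  exact (skLoc_fiber_iff k f x).symm

end General

end

end Groth.Agent.Lib.H9RelSk
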