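import Mathlib
import Groth.Agent.Lib.H9RelSk
import Groth.Agent.Lib.Helper5FibCodepthConstr

/-! Local constructibility of the fibrewise (S_k) locus of a morphism locally of finite presentation (EGA IV 9.9.3-type): lsk_generic, isLocallyConstructible_lsk, main; from helper5 LocusGeneric framework + openness in the flat case (H9RelSk) (helper9). -/

set_option autoImplicit false
set_option linter.style.haveILetI false
set_option linter.unusedSimpArgs false
set_option linter.unusedVariables false
universe u

namespace Groth.Agent.Lib.H9SkConstr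

-- ===== part SkCon =====
section

open CategoryTheory CategoryTheory.Limits AlgebraicGeometry Topology TensorProduct TopologicalSpace
open Groth.Agent.Lib.Helper5.LocusGeneric Groth.Agent.Lib.Helper5.FibCodepthConstr
  Groth.Agent.Lib.Helper2.GenFree Groth.Agent.Lib.H9RelSk

theorem isOpen_lsk_spec' (k : ℕ) {A B : Type u} [CommRing A] [CommRing B] [Algebra A B]
    [IsNoetherianRing A] [Module.Flat A B] [Algebra.FinitePresentation A B] [i : Algebra ℤ A]
    (hA : Algebra.FiniteType ℤ A) :
    IsOpen (Lsk k (Spec.map (CommRingCat.ofHom (algebraMap A B)))) := by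
  obtain rfl : i = Ring.toIntAlgebra A := Subsingleton.elim _ _
  exact isOpen_lsk_spec k hA

theorem lsk_generic (k : ℕ) (A₁ B₁ : Type u) [CommRing A₁] [IsDomain A₁] [CommRing B₁]
    [Algebra A₁ B₁] [Algebra.FinitePresentation A₁ B₁] (hA₁ : Algebra.FiniteType ℤ A₁) :
    ∃ g : A₁, g ≠ 0 ∧ IsConstructible (Lsk k (Spec.map (CommRingCat.ofHom
      (algebraMap (Localization.Away g) (Localization.Away g ⊗[A₁] B₁))))) := by
  haveI : IsNoetherianRing A₁ := Algebra.FiniteType.isNoetherianRing ℤ A₁
  obtain ⟨g, hg, hfree, -, -, -⟩ := exists_freeAway A₁ B₁ B₁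
  refine ⟨g, hg, ?_⟩
  haveI : Module.Free (Localization.Away g) (Localization.Away g ⊗[A₁] B₁) :=
    hfree.free (Localization.Away g) (TensorProduct.mk A₁ (Localization.Away g) B₁ 1)
  haveI hfp1 : Algebra.FinitePresentation A₁ (Localization.Away g) :=
    IsLocalization.Away.finitePresentation g
  have hft1 : Algebra.FiniteType A₁ (Localization.Away g) := inferInstance
  have hft2 : Algebra.FiniteType ℤ (Localization.Away g) := Algebra.FiniteType.trans hA₁ hft1
  haveI : IsNoetherianRing (Localization.Away g) := Algebra.FiniteType.isNoetherianRing ℤ _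
  have hft3 : Algebra.FiniteType ℤ (Localization.Away g ⊗[A₁] B₁) :=
    Algebra.FiniteType.trans hft2 inferInstance
  haveI : IsNoetherianRing (Localization.Away g ⊗[A₁] B₁) :=
    Algebra.FiniteType.isNoetherianRing ℤ _
  haveI : NoetherianSpace ↥(Spec (CommRingCat.of (Localization.Away g ⊗[A₁] B₁))) :=
    inferInstanceAs (NoetherianSpace (PrimeSpectrum (Localization.Away g ⊗[A₁] B₁)))
  apply IsOpen.isConstructible_of_noetherianSpace
  exact isOpen_lsk_spec' k hft2

/-- **EGA IV 9.9.3-type**: for `f` locally of finite presentation, the set of points at which the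
local ring of the fibre satisfies `(S_k)` is locally constructible. -/
theorem isLocallyConstructible_lsk (k : ℕ) {X Y : Scheme.{u}} (f : X ⟶ Y)
    [LocallyOfFinitePresentation f] : IsLocallyConstructible (Lsk k f) := by
  refine isLocallyConstructible_locus_int (fun {X Y} f => Lsk k f)
    (fun f g g' f' hf hsq => lsk_baseChange k f g g' f' hf hsq)
    (fun f j hj _ => lsk_openImmersion k f j hj) ?_ f
  intro A B φ hA hφ
  exact isConstructible_of_generic (fun {X Y} f => Lsk k f)
    (fun f g g' f' hf hsq => lsk_baseChange k f g g' f' hf hsq)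
    (fun A₁ B₁ _ _ _ _ _ hA₁ => lsk_generic k A₁ B₁ hA₁) φ hA hφ

theorem main {X S : Scheme.{u}} (f : X ⟶ S) [LocallyOfFinitePresentation f] (k : ℕ) :
    Topology.IsLocallyConstructible {x : X |
      LocCoh.HasSk k ((f.fiber (f.base x)).presheaf.stalk (f.asFiber x))
        ((f.fiber (f.base x)).presheaf.stalk (f.asFiber x))} := by
  have h := isLocallyConstructible_lsk k f
  convert h using 1
  ext x
  exact (skLoc_fiber_iff k f x).symm

end

end Groth.Agent.Lib.H9SkConstr
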