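import Mathlib
import Groth.Agent.Lib.H9FibGeomRkConstr
import Groth.Agent.Lib.H9SkConstr
import Groth.Agent.Lib.Helper5Compl

/-! Local constructibility of the fibrewise geometrically normal locus (S3455) and of the base loci of geometric R_k / geometric normality of all fibres for f of finite presentation (S4828, S4827): hasSk_atPrime_iff_hasSkAt, hasSk_bc_of_hasSk (S_n and Noetherianity at points over x after ARBITRARY field extension), geomNormalAll_iff (all-ext geometric normality at x <-> GeomRkFib 1 and S_2), isLocallyConstructible_geomNormalAll, isLocallyConstructible_forall_fiber (Chevalley: loc. constructible pointwise condition => loc. constructible condition on all points of the fibre), isLocallyConstructible_base_geomRk, isLocallyConstructible_base_geomNormal (helper9). -/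

set_option autoImplicit false
set_option linter.style.haveILetI false
set_option linter.unusedSimpArgs false
set_option linter.unusedVariables false
universe u

namespace Groth.Agent.Lib.H9FibGeomNormalConstr

open Groth.Agent.Lib.H9FibGeomRkConstr

-- ===== part GkH =====
section

open AlgebraicGeometry CategoryTheory Limits TensorProduct Topology
open Groth.Agent.Lib.Helper6.BcBridge Groth.Agent.Lib.Helper6.BcAlg Groth.Agent.Lib.Helper6.BcGeom
open Groth.Agent.Lib.Helper28
open Groth.Agent.Lib.H9FibGeomRk Groth.Agent.Lib.H9FibGeomNormal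
open Groth.Agent.Lib.H9FibNumericsSch
open Groth.Agent.Lib.Helper5.FibSmConstr Groth.Agent.Lib.Helper5.TensorSk
open Groth.Agent.Lib.Helper5.FlatCMFibres

section Alg

variable {R : Type u} [CommRing R] [IsNoetherianRing R]

/-- `(S_n)` of the local ring at `p` in the two available forms. -/
theorem hasSk_atPrime_iff_hasSkAt (n : ℕ) (p : Ideal R) [p.IsPrime] :
    LocCoh.HasSk n (Localization.AtPrime p) (Localization.AtPrime p) ↔ EGA4.HasSkAt n R R p := by
  rw [hasSk_localization_atPrime_iff, hasSkAt_self_iff]
  refine forall_congr' fun q => forall_congr' fun hq => forall_congr' fun hqp => ?_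
  have h1 : ((n : ℕ) : WithBot ℕ∞) = (((n : ℕ) : ℕ∞) : WithBot ℕ∞) := rfl
  rw [h1, ← WithBot.coe_min, WithBot.coe_le_coe]

end Alg

section Field

variable (k : Type u) [Field k] (X : Scheme.{u}) [X.Over (Spec (CommRingCat.of k))]
  [LocallyOfFinitePresentation (X ↘ Spec (CommRingCat.of k))]

set_option synthInstance.maxHeartbeats 400000 in
set_option maxHeartbeats 1600000 in
/-- `(S_n)` at a point ascends to the points over it after an arbitrary extension of the base
field; the local rings there are Noetherian. -/
theorem hasSk_bc_of_hasSk (n : ℕ) (x : X)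
    (h : LocCoh.HasSk n (X.presheaf.stalk x) (X.presheaf.stalk x))
    (K : Type u) [Field K] [Algebra k K] (x' : Curv2.bc k X K)
    (hx' : Curv2.bcFst k X K x' = x) :
    IsNoetherianRing ((Curv2.bc k X K).presheaf.stalk x') ∧
    LocCoh.HasSk n ((Curv2.bc k X K).presheaf.stalk x')
      ((Curv2.bc k X K).presheaf.stalk x') := by
  haveI : IsLocallyNoetherian X :=
    LocallyOfFiniteType.isLocallyNoetherian (X ↘ Spec (CommRingCat.of k))
  obtain ⟨R, _, _, ι, _, hι, q₀, rfl⟩ := exists_chart k X x
  haveI hfpR : Algebra.FinitePresentation k R := by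
    have h1 : LocallyOfFinitePresentation (ι ≫ (X ↘ Spec (CommRingCat.of k))) := inferInstance
    rw [hι, LocallyOfFinitePresentation.SpecMap_iff, CommRingCat.hom_ofHom,
      RingHom.finitePresentation_algebraMap] at h1
    exact h1
  haveI hftR : Algebra.FiniteType k R := inferInstance
  haveI : IsNoetherianRing R := Algebra.FiniteType.isNoetherianRing k R
  haveI : IsNoetherianRing (K ⊗[k] R) := Algebra.FiniteType.isNoetherianRing K (K ⊗[k] R)
  haveI : IsNoetherianRing (R ⊗[k] K) :=
    isNoetherianRing_of_ringEquiv _ (Algebra.TensorProduct.comm k K R).toRingEquiv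
  haveI : IsNoetherianRing (Localization.AtPrime q₀.asIdeal) :=
    IsLocalization.isNoetherianRing q₀.asIdeal.primeCompl _ inferInstance
  haveI : IsNoetherianRing (X.presheaf.stalk (ι q₀)) :=
    isNoetherianRing_of_ringEquiv _ (stalkEquivSpec ι q₀).symm
  obtain ⟨Q, hQ, ⟨e⟩⟩ := exists_prime_of_point_left k X K ι hι x' q₀ hx'.symm
  haveI : IsNoetherianRing (Localization.AtPrime Q.asIdeal) :=
    IsLocalization.isNoetherianRing Q.asIdeal.primeCompl _ inferInstance
  haveI hN' : IsNoetherianRing ((Curv2.bc k X K).presheaf.stalk x') :=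
    isNoetherianRing_of_ringEquiv _ e.symm
  refine ⟨hN', ?_⟩
  have h3 := hasSk_self_of_ringEquiv (stalkEquivSpec ι q₀) n h
  rw [hasSk_atPrime_iff_hasSkAt] at h3
  have hF : ∀ (Q' : Ideal (R ⊗[k] K)) [Q'.IsPrime],
      LocCoh.IsCohenMacaulayLocalRing (EGA4.FibLocRing R (R ⊗[k] K) Q') :=
    fun Q' _ => cm_fibres_baseChange_field k R K (Or.inl hftR) Q'
  have hq : Q.asIdeal.comap (algebraMap R (R ⊗[k] K)) = q₀.asIdeal :=
    congrArg PrimeSpectrum.asIdeal hQ
  have h4 : EGA4.HasSkAt n R R (Q.asIdeal.comap (algebraMap R (R ⊗[k] K))) := by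
    rw [hasSkAt_self_iff] at h3 ⊢
    intro p₁ hp₁ hle
    exact h3 p₁ (hle.trans hq.le)
  have h5 := (hasSkAt_iff_of_cm_fibres n hF Q.asIdeal).mp h4
  rw [← hasSk_atPrime_iff_hasSkAt] at h5
  exact hasSk_self_of_ringEquiv e.symm n h5

end Field

section Fib

variable {X Y : Scheme.{u}} (f : X ⟶ Y)

set_option synthInstance.maxHeartbeats 400000 in
set_option maxHeartbeats 1600000 in
/-- geometric normality of the fibre at a point, tested on all field extensions, is geometric
`(R_1)` together with `(S_2)`. -/
theorem geomNormalAll_iff [LocallyOfFinitePresentation f] (x : X) :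
    (∀ (K : Type u) [Field K] [Algebra (IsLocalRing.ResidueField (Y.presheaf.stalk (f.base x))) K]
        (x' : ↥(FBase.bc (f.fiberToSpecResidueField (f.base x)) K)),
        (FBase.bcπ (f.fiberToSpecResidueField (f.base x)) K).base x' = f.asFiber x →
          (IsDomain ((FBase.bc (f.fiberToSpecResidueField (f.base x)) K).presheaf.stalk x') ∧
            IsIntegrallyClosed
              ((FBase.bc (f.fiberToSpecResidueField (f.base x)) K).presheaf.stalk x'))) ↔
      GeomRkFib f 1 x ∧
      LocCoh.HasSk 2 ((f.fiber (f.base x)).presheaf.stalk (f.asFiber x))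
        ((f.fiber (f.base x)).presheaf.stalk (f.asFiber x)) := by
  rw [← geomNormalFib_iff]
  constructor
  · intro h K _ _ _ x' hx'
    exact h K x' hx'
  · intro h K _ _ x' hx'
    rw [geomNormalFib_iff] at h
    obtain ⟨hR, hS⟩ := h
    letI : (f.fiber (f x)).Over (Spec (CommRingCat.of (IsLocalRing.ResidueField
        (Y.presheaf.stalk (f.base x))))) := ⟨f.fiberToSpecResidueField (f x)⟩
    haveI : LocallyOfFinitePresentation ((f.fiber (f x)) ↘ Spec (CommRingCat.of
        (IsLocalRing.ResidueField (Y.presheaf.stalk (f.base x))))) :=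
      lfp_fiberToSpecResidueField f (f x)
    have hR' := (geomRkAll_iff f 1 x).mpr hR K x' hx'
    obtain ⟨hN, hS'⟩ := hasSk_bc_of_hasSk (IsLocalRing.ResidueField (Y.presheaf.stalk (f.base x)))
      (f.fiber (f x)) 2 (f.asFiber x) hS K x' hx'
    haveI : IsNoetherianRing
        ((FBase.bc (f.fiberToSpecResidueField (f.base x)) K).presheaf.stalk x') := hN
    exact (normal_iff_hasRk_one_and_hasSk_two _).mpr ⟨hR', hS'⟩

/-- **S3455**. -/
theorem isLocallyConstructible_geomNormalAll [LocallyOfFinitePresentation f] :
    IsLocallyConstructible {x : X |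
      ∀ (K : Type u) [Field K] [Algebra (IsLocalRing.ResidueField (Y.presheaf.stalk (f.base x))) K]
        (x' : ↥(FBase.bc (f.fiberToSpecResidueField (f.base x)) K)),
        (FBase.bcπ (f.fiberToSpecResidueField (f.base x)) K).base x' = f.asFiber x →
          (IsDomain ((FBase.bc (f.fiberToSpecResidueField (f.base x)) K).presheaf.stalk x') ∧
            IsIntegrallyClosed
              ((FBase.bc (f.fiberToSpecResidueField (f.base x)) K).presheaf.stalk x'))} := by
  have h1 := isLocallyConstructible_geomRkFib f 1
  have h2 := Groth.Agent.Lib.H9SkConstr.main f 2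
  have h := h1.inter h2
  convert h using 1
  ext x
  exact geomNormalAll_iff f x

end Fib

end

-- ===== part GkI =====
section

open AlgebraicGeometry CategoryTheory Limits TensorProduct Topology
open Groth.Agent.Lib.H9ModFibSch

variable {X Y : Scheme.{u}} (f : X ⟶ Y)

/-- for a morphism of finite presentation, a locally constructible condition on the points of
the source gives a locally constructible condition on the fibres (Chevalley). -/
theorem isLocallyConstructible_forall_fiber [LocallyOfFinitePresentation f] [QuasiCompact f]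
    (P : ∀ (y : Y), f.fiber y → Prop)
    (hP : IsLocallyConstructible {x : X | P (f x) (f.asFiber x)}) :
    IsLocallyConstructible {y : Y | ∀ z : f.fiber y, P y z} := by
  have himg : IsLocallyConstructible (f '' {x : X | P (f x) (f.asFiber x)}ᶜ) :=
    f.isLocallyConstructible_image (Groth.Agent.Lib.Helper5.isLocallyConstructible_compl hP)
  have heq : {y : Y | ∀ z : f.fiber y, P y z} = (f '' {x : X | P (f x) (f.asFiber x)}ᶜ)ᶜ := by
    ext y
    rw [Set.mem_ofPred_eq, forall_fiber_iff f P y]
    simp only [Set.mem_compl_iff, Set.mem_image, Set.mem_ofPred_eq, not_exists, not_and, not_not]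
    constructor
    · intro h x hx hfx
      exact hx (h x hfx)
    · intro h x hfx
      by_contra hcon
      exact h x hcon hfx
  rw [heq]
  exact Groth.Agent.Lib.Helper5.isLocallyConstructible_compl himg

/-- **S4828**. -/
theorem isLocallyConstructible_base_geomRk [LocallyOfFinitePresentation f] [QuasiCompact f]
    (k : ℕ) :
    IsLocallyConstructible {s : Y |
      ∀ (K : Type u) [Field K] [Algebra (IsLocalRing.ResidueField (Y.presheaf.stalk s)) K]
        (x' : ↥(FBase.bc (f.fiberToSpecResidueField s) K)),
        LocCoh.HasRk k ((FBase.bc (f.fiberToSpecResidueField s) K).presheaf.stalk x')} := by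
  have h := isLocallyConstructible_forall_fiber f
    (fun y z => ∀ (K : Type u) [Field K] [Algebra (IsLocalRing.ResidueField (Y.presheaf.stalk y)) K]
        (x' : ↥(FBase.bc (f.fiberToSpecResidueField y) K)),
        (FBase.bcπ (f.fiberToSpecResidueField y) K).base x' = z →
          LocCoh.HasRk k ((FBase.bc (f.fiberToSpecResidueField y) K).presheaf.stalk x'))
    (isLocallyConstructible_geomRkAll f k)
  convert h using 1
  ext s
  constructor
  · intro hs z K _ _ x' _
    exact hs K x'
  · intro hs K _ _ x'
    exact hs _ K x' rfl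

/-- **S4827**. -/
theorem isLocallyConstructible_base_geomNormal [LocallyOfFinitePresentation f] [QuasiCompact f] :
    IsLocallyConstructible {s : Y |
      ∀ (K : Type u) [Field K] [Algebra (IsLocalRing.ResidueField (Y.presheaf.stalk s)) K]
        (x' : ↥(FBase.bc (f.fiberToSpecResidueField s) K)),
        IsDomain ((FBase.bc (f.fiberToSpecResidueField s) K).presheaf.stalk x') ∧
          IsIntegrallyClosed ((FBase.bc (f.fiberToSpecResidueField s) K).presheaf.stalk x')} := by
  have h := isLocallyConstructible_forall_fiber f
    (fun y z => ∀ (K : Type u) [Field K] [Algebra (IsLocalRing.ResidueField (Y.presheaf.stalk y)) K]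
        (x' : ↥(FBase.bc (f.fiberToSpecResidueField y) K)),
        (FBase.bcπ (f.fiberToSpecResidueField y) K).base x' = z →
          (IsDomain ((FBase.bc (f.fiberToSpecResidueField y) K).presheaf.stalk x') ∧
            IsIntegrallyClosed ((FBase.bc (f.fiberToSpecResidueField y) K).presheaf.stalk x')))
    (isLocallyConstructible_geomNormalAll f)
  convert h using 1
  ext s
  constructor
  · intro hs z K _ _ x' _
    exact hs K x'
  · intro hs K _ _ x'
    exact hs _ K x' rfl

end

end Groth.Agent.Lib.H9FibGeomNormalConstr
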