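import Mathlib
import Groth.Agent.Lib.H5bFibFrame
import Groth.Agent.Lib.H9FibGeomNormalConstr

/-!
# Constructibility of the locus of geometrically reduced fibres (helper5)

* `Frame.ofChart`: a frame from any étale surjective chart of a pullback.
* `isLocallyConstructible_q`, `isLocallyConstructible_forall_q`: scheme level (EGA IV 9.7.7).
* `isConstructible_gr`: S10683.
-/

set_option autoImplicit false
set_option linter.style.haveILetI false
universe u

namespace Groth.Agent.Lib.H5bFibFrame

open CategoryTheory CategoryTheory.Limits AlgebraicGeometry Opposite AlgSp Topology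
open Groth.Agent.Lib.H5bFibGR

variable {S : Scheme.{u}}

/-- a frame from an étale surjective chart of a pullback. -/
noncomputable def Frame.ofChart {X Y : AlgSp.Sp S} {f : X ⟶ Y} {T : Over S}
    {g : (yon S).obj T ⟶ Y} {P : AlgSp.Sp S} {p1 : P ⟶ X} {p2 : P ⟶ (yon S).obj T}
    (sq : IsPullback p1 p2 f g) {W : Over S} (c : (yon S).obj W ⟶ P) (hce : RepWith @Etale c)
    (hcs : RepWith @Surjective c) : Frame f g where
  P := P
  p1 := p1
  p2 := p2
  sq := sq
  W := W
  c := c
  hce := hce
  hcs := hcs
  h := (yon S).preimage (c ≫ p2)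
  hh := ((yon S).map_preimage _).symm

theorem isLocallyConstructible_q {W T : Scheme.{u}} (h : W ⟶ T)
    [LocallyOfFinitePresentation h] : IsLocallyConstructible {w : W | Q h w} := by
  have h1 := Groth.Agent.Lib.H9FibGeomRkConstr.isLocallyConstructible_geomRkFib h 0
  have h2 := Groth.Agent.Lib.H9SkConstr.main h 1
  have h3 := h1.inter h2
  convert h3 using 1
  ext w
  exact Groth.Agent.Lib.H9FibGeomNormal.geomReducedFib_iff h w

theorem isLocallyConstructible_forall_q {W T : Scheme.{u}} (h : W ⟶ T)
    [LocallyOfFinitePresentation h] [QuasiCompact h] :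
    IsLocallyConstructible {t : T | ∀ w : W, h w = t → Q h w} := by
  have himg : IsLocallyConstructible (h '' {w : W | Q h w}ᶜ) :=
    h.isLocallyConstructible_image (Groth.Agent.Lib.Helper5.isLocallyConstructible_compl (isLocallyConstructible_q h))
  have heq : {t : T | ∀ w : W, h w = t → Q h w} = (h '' {w : W | Q h w}ᶜ)ᶜ := by
    ext t
    simp only [Set.mem_ofPred_eq, Set.mem_compl_iff, Set.mem_image, not_exists, not_and]
    constructor
    · intro H w hw hwt
      exact hw (H w hwt)
    · intro H w hwt
      by_contra hcon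
      exact H w hcon hwt
  rw [heq]
  exact Groth.Agent.Lib.Helper5.isLocallyConstructible_compl himg

/-- S10683. -/
theorem isConstructible_gr {X Y : AlgSp.Space S} (f : X ⟶ Y)
    (hf1 : AlgSp.IsQuasiCompactMor f.hom) (hf2 : AlgSp.LocP @LocallyOfFinitePresentation f.hom)
    (V : Over S) (hV : IsAffine V.left) (a : (AlgSp.yon S).obj V ⟶ Y.obj)
    (ha : AlgSp.RepWith @Etale a) :
    IsConstructible ((AlgSp.Points.ofPt a) ⁻¹' {y : AlgSp.Points Y.obj | GR f y}) := by
  have sqP := IsPullback.of_hasPullback f.hom a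
  have hqcV : IsQuasiCompactSp ((yon S).obj V) :=
    ⟨V, 𝟙 _, repWith_id _ V, repWith_id _ V, inferInstance⟩
  obtain ⟨W, c, hce, hcs, hW⟩ := hf1 (IsAlgSpace.yon_obj V) hqcV a _ _ sqP
  let F : Frame f.hom a := Frame.ofChart sqP c hce hcs
  have hp1 : RepWith @Etale (pullback.fst f.hom a) :=
    (repWith_isStableUnderBaseChange (S := S) @Etale).of_isPullback sqP.flip ha
  have hFa : RepWith @Etale (F.c ≫ F.p1) :=
    (repWith_isMultiplicative (S := S) @Etale).comp_mem _ _ hce hp1
  haveI : LocallyOfFinitePresentation F.h.left := F.prop_of_locP ha hFa hf2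
  haveI : CompactSpace ↥F.W.left := hW
  haveI : QuasiCompact F.h.left := inferInstance
  have h1 := isLocallyConstructible_forall_q F.h.left
  have h2 : Points.ofPt a ⁻¹' {y | GR f y} =
      {t | ∀ w : ↥F.W.left, F.h.left w = t → Q F.h.left w} := by
    ext t
    rw [Set.mem_preimage, Set.mem_ofPred_eq, F.gr_iff t, geometricallyReduced_fiber_iff]
    rfl
  rw [h2]
  exact h1.isConstructible

end Groth.Agent.Lib.H5bFibFrame
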