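import Mathlib
import Groth.Agent.Lib.H5bChartBC
import Groth.Agent.Lib.H5bHasAtMor
import Groth.Agent.Lib.Helper3LocDimBC
import Groth.Agent.S5341

/-!
# Relative dimension at a point and base change, for algebraic spaces (helper5, second batch)

* `hasAtMor_fibreDimAt_baseChange_iff`: for `f` locally of finite type and a pullback square, any
  predicate of the relative dimension at `x'` for `f'` is the same predicate for `f` at the image.
* `hasAtMor_fibreDimAt_to_field_iff`: for a morphism to the spectrum of a field, the relative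
  dimension at a point is the local dimension of any chart there.
-/

set_option autoImplicit false
universe u
open CategoryTheory CategoryTheory.Limits AlgebraicGeometry Topology TopologicalSpace

namespace Groth.Agent.Lib.H5bFibDimBC

open AlgSp Groth.Agent.Lib.H5bHasAtMor

variable {S : Scheme.{u}}

theorem hasAtMor_fibreDimAt_baseChange_iff {X Y X' Y' : AlgSp.Sp S} (hX : IsAlgSpace X)
    (hY : IsAlgSpace Y) (hY' : IsAlgSpace Y') {f : X ⟶ Y} {g : Y' ⟶ Y} {g' : X' ⟶ X}
    {f' : X' ⟶ Y'} (sq : IsPullback g' f' f g) (hf : LocP @LocallyOfFiniteType f)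
    (x' : Points X') (R : WithBot ℕ∞ → Prop) :
    HasAtMor (fun _ _ h u => R (FlatMor.fibreDimAt h u)) f' x' ↔
      HasAtMor (fun _ _ h u => R (FlatMor.fibreDimAt h u)) f (Points.map g' x') := by
  obtain ⟨U, V, U', V', a, b, a', b', h, h', pU, pV, ha, hb, ha', ha's, hb', c1, c2, c3, c4, hpb⟩ :=
    Groth.Agent.Lib.H5bChartBC.exists_cartesian_charts hX hY hY' sq
  obtain ⟨u', hu'⟩ := Groth.Agent.S10177.surjective_ofPt a' ha's x'
  have hlft : LocallyOfFiniteType h.left := hf a b h ha hb c1
  have hu : Points.ofPt a (pU.left.base u') = Points.map g' x' := by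
    rw [← Groth.Agent.S10176.ofPt_map_comp, ← c3, ← hu']; rfl
  have hbc := Groth.Agent.Lib.Helper3.LocDimBC.fibreDimAt_eq_of_isPullback h.left pV.left pU.left
    h'.left hpb u'
  rw [hasAtMor_iff_of_chart (etLocalQ_fibreDimAt R) f' x' a' b' h' ha' hb' c2 u' hu',
    hasAtMor_iff_of_chart (etLocalQ_fibreDimAt R) f _ a b h ha hb c1 _ hu]
  show R (FlatMor.fibreDimAt h'.left u') ↔ R (FlatMor.fibreDimAt h.left (pU.left.base u'))
  rw [hbc]

/-- for a morphism to the spectrum of a field, the relative dimension at a point is the local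
dimension of any étale chart through the point. -/
theorem hasAtMor_fibreDimAt_to_field_iff {F : AlgSp.Sp S} {K : Over S} [Subsingleton ↥K.left]
    (q : F ⟶ (yon S).obj K) {T : Over S} (c : (yon S).obj T ⟶ F) (hc : RepWith @Etale c)
    (t : ↥T.left) (R : WithBot ℕ∞ → Prop) :
    HasAtMor (fun _ _ h u => R (FlatMor.fibreDimAt h u)) q (Points.ofPt c t) ↔
      R (FlatMor.localDim ↥T.left t) := by
  obtain ⟨h₁, hh₁⟩ := (yon S).map_surjective (c ≫ q)
  rw [hasAtMor_iff_of_chart (etLocalQ_fibreDimAt R) q _ c (𝟙 _) h₁ hc (repWith_id _ _)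
    (by rw [hh₁, Category.comp_id]) t rfl]
  show R (FlatMor.fibreDimAt h₁.left t) ↔ _
  rw [Groth.Agent.S5341.fibreDimAt_eq_localDim_of_subsingleton h₁.left t]

end Groth.Agent.Lib.H5bFibDimBC
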