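import Mathlib
import Groth.Agent.Lib.H5bFibFrame2
import Groth.Agent.Lib.H5bIntDimSp
import Groth.Agent.S10678
import Groth.Agent.S10180
import Groth.Agent.S0404

/-!
# Dimension of the fibres of a morphism of algebraic spaces via frames (helper5)

* `dim_eq_of_chart`: the dimension of a sheaf is the dimension of any étale surjective chart.
* `dim_fibre_indep`: for `f` of finite type the dimension of the fibre over a field point only
  depends on the point of `|Y|`.
* `isOpen_of_affine_charts`: openness in `|Y|` can be tested on affine étale charts.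
* `exists_affine_frame`: for quasi-compact `f` and an affine étale chart of `Y`, a frame with affine
  `W`.
* `Frame.dim_fibre_eq`: the dimension of the fibre of `f` over any field point in the class of
  `a(t)` is the dimension of the scheme fibre `h⁻¹(t)`.
* `isOpen_lt_dim`: S10679.
-/

set_option autoImplicit false
set_option linter.style.haveILetI false
universe u

namespace Groth.Agent.Lib.H5bFibDim

open CategoryTheory CategoryTheory.Limits AlgebraicGeometry Opposite AlgSp Topology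
open Groth.Agent.Lib.H5bFibFrame

variable {S : Scheme.{u}}

/-- the dimension of a sheaf is the dimension of any étale surjective chart. -/
theorem dim_eq_of_chart {F : AlgSp.Sp S} {Z : Over S} (c : (yon S).obj Z ⟶ F)
    (hce : RepWith @Etale c) (hcs : RepWith @Surjective c) :
    AlgSp.dim F = topologicalKrullDim ↥Z.left := by
  apply le_antisymm
  · rw [AlgSp.dim]
    refine iSup_le fun U => iSup_le fun a => iSup_le fun ha => ?_
    have sq := hce.rep.isPullback' a
    haveI h1 : Etale (hce.rep.snd a).left := hce.property_snd a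
    have h1s : Surjective (hce.rep.snd a).left := hcs.2 a _ _ sq
    haveI h2 : Etale (hce.rep.fst' a).left := ha.2 c _ _ sq.flip
    have e1 := Groth.Agent.Lib.H5bIntDimSp.dim_le_iSup_of_etale_cover (U := U.left)
      (ι := Unit) (fun _ => (hce.rep.pullback a).left) (fun _ => (hce.rep.snd a).left)
      (fun u => ⟨(), h1s.surj u⟩)
    have e2 := Groth.Agent.Lib.H5bIntDimSp.dim_le_of_etale (hce.rep.fst' a).left
    refine e1.trans ?_
    rw [iSup_const]
    exact e2
  · exact Groth.Agent.Lib.H5bIntDimSp.dim_chart_le c hce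

theorem withBot_enat_eq_of_forall (δ δ' : WithBot ℕ∞) (h0 : δ = ⊥ ↔ δ' = ⊥)
    (hn : ∀ n : ℕ, δ ≤ ((n : ℕ) : WithBot ℕ∞) ↔ δ' ≤ ((n : ℕ) : WithBot ℕ∞)) : δ = δ' := by
  have key : ∀ (a b : WithBot ℕ∞), (a = ⊥ ↔ b = ⊥) →
      (∀ n : ℕ, a ≤ ((n : ℕ) : WithBot ℕ∞) ↔ b ≤ ((n : ℕ) : WithBot ℕ∞)) → a ≤ b := by
    intro a b h0 hn
    induction b using WithBot.recBotCoe with
    | bot => rw [h0.2 rfl]
    | coe m =>
      induction m using ENat.recTopCoe with
      | top => exact le_top
      | coe n => exact (hn n).2 le_rfl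
  exact le_antisymm (key δ δ' h0 hn) (key δ' δ h0.symm (fun n => (hn n).symm))

/-- the dimension of the fibre only depends on the point. -/
theorem dim_fibre_indep {X Y : AlgSp.Space S} (f : X ⟶ Y) (hf : AlgSp.IsFiniteTypeMor f.hom)
    (k k' : AlgSp.FieldPt Y.obj) (hkk : AlgSp.Points.mk k = AlgSp.Points.mk k')
    {Xk Xk' : AlgSp.Sp S} (fst : Xk ⟶ X.obj) (snd : Xk ⟶ (AlgSp.yon S).obj k.pt)
    (fst' : Xk' ⟶ X.obj) (snd' : Xk' ⟶ (AlgSp.yon S).obj k'.pt)
    (sq : IsPullback fst snd f.hom k.toHom) (sq' : IsPullback fst' snd' f.hom k'.toHom) :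
    AlgSp.dim Xk = AlgSp.dim Xk' := by
  have h1 := Groth.Agent.S10678.result f hf (AlgSp.Points.mk k) k rfl Xk fst snd sq
  have h2 := Groth.Agent.S10678.result f hf (AlgSp.Points.mk k) k' hkk.symm Xk' fst' snd' sq'
  exact withBot_enat_eq_of_forall _ _ (h1.1.trans h2.1.symm)
    (fun n => (h1.2 n).trans (h2.2 n).symm)

/-- openness in `|Y|` can be tested on affine étale charts. -/
theorem isOpen_of_affine_charts {Y : AlgSp.Sp S} (hY : IsAlgSpace Y) (E : Set (Points Y))
    (H : ∀ (V : Over S) (a : (yon S).obj V ⟶ Y), IsAffine V.left → RepWith @Etale a →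
      IsOpen (Points.ofPt a ⁻¹' E)) : IsOpen E := by
  obtain ⟨V₀, b, hbe, hbs⟩ := hY.atlas
  rw [isOpen_iff_forall_mem_open]
  intro y hy
  obtain ⟨v, rfl⟩ := Groth.Agent.S10177.surjective_ofPt b hbs y
  obtain ⟨U₀, hU, hvU, -⟩ := TopologicalSpace.Opens.isBasis_iff_nbhd.mp
    V₀.left.isBasis_affineOpens (TopologicalSpace.Opens.mem_top v)
  obtain ⟨U, rfl⟩ : ∃ U : V₀.left.Opens, U = U₀ := ⟨U₀, rfl⟩
  let Vi : Over S := Over.mk (U.ι ≫ V₀.hom)
  let ι : Vi ⟶ V₀ := Over.homMk U.ι rfl
  have hιe : RepWith @Etale ((yon S).map ι ≫ b) :=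
    (repWith_isMultiplicative (S := S) @Etale).comp_mem _ _
      ((repWith_yon_map_iff @Etale ι).2 (inferInstanceAs (Etale U.ι))) hbe
  have hopen := H Vi ((yon S).map ι ≫ b) hU hιe
  refine ⟨Points.ofPt ((yon S).map ι ≫ b) '' (Points.ofPt ((yon S).map ι ≫ b) ⁻¹' E),
    Set.image_preimage_subset _ _, Groth.Agent.S10176.isOpenMap_ofPt _ hιe _ hopen, ?_⟩
  have hv : Points.ofPt ((yon S).map ι ≫ b) (⟨v, hvU⟩ : ↥U) = Points.ofPt b v := by
    rw [Groth.Agent.S10176.ofPt_map_comp]
    rfl
  exact ⟨⟨v, hvU⟩, by rw [Set.mem_preimage, hv]; exact hy, hv⟩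

/-- for a quasi-compact morphism and an affine étale chart of the target, a frame with affine
source. -/
theorem exists_affine_frame {X Y : AlgSp.Space S} (f : X ⟶ Y)
    (hf : AlgSp.IsQuasiCompactMor f.hom) {V : Over S} (hV : IsAffine V.left)
    (a : (yon S).obj V ⟶ Y.obj) (ha : RepWith @Etale a) :
    ∃ F : Frame f.hom a, IsAffine F.W.left ∧ RepWith @Etale (F.c ≫ F.p1) := by
  have sqP := IsPullback.of_hasPullback f.hom a
  have hP : IsAlgSpace (pullback f.hom a) :=
    Groth.Agent.S9874.isAlgSpace_of_isPullback Y.property.diag X.property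
      (IsAlgSpace.yon_obj V) sqP
  have hqcV : IsQuasiCompactSp ((yon S).obj V) :=
    ⟨V, 𝟙 _, repWith_id _ V, repWith_id _ V, inferInstance⟩
  have hPqc := hf (IsAlgSpace.yon_obj V) hqcV a _ _ sqP
  obtain ⟨W, c, hW, hce, hcs⟩ := (Groth.Agent.S10180.result ⟨_, hP⟩).1 hPqc
  have hp1 : RepWith @Etale (pullback.fst f.hom a) :=
    (repWith_isStableUnderBaseChange (S := S) @Etale).of_isPullback sqP.flip ha
  exact ⟨Frame.ofChart sqP c hce hcs, hW,
    (repWith_isMultiplicative (S := S) @Etale).comp_mem _ _ hce hp1⟩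

/-- the dimension of the fibre of `f` over a field point in the class of `a(t)` is the dimension
of the scheme fibre of the frame. -/
theorem Frame.dim_fibre_eq {X Y : AlgSp.Space S} {f : X ⟶ Y} (hf : AlgSp.IsFiniteTypeMor f.hom)
    {T : Over S} {g : (yon S).obj T ⟶ Y.obj} (F : Frame f.hom g) (t : ↥T.left)
    (k : AlgSp.FieldPt Y.obj) (hk : AlgSp.Points.mk k = Points.ofPt g t)
    {Xk : AlgSp.Sp S} (fst : Xk ⟶ X.obj) (snd : Xk ⟶ (AlgSp.yon S).obj k.pt)
    (sq : IsPullback fst snd f.hom k.toHom) :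
    AlgSp.dim Xk = topologicalKrullDim ↥(F.h.left.fiber t) := by
  let k₀ := FieldPt.ofPt g t
  let ι : k₀.pt ⟶ T := Over.homMk (T.left.fromSpecResidueField t) rfl
  have hk₀ : k₀.toHom = (yon S).map ι ≫ g := FieldPt.toHom_ofPt g t
  have sq₀ := IsPullback.of_hasPullback f.hom k₀.toHom
  rw [dim_fibre_indep f hf k k₀ hk fst snd _ _ sq sq₀]
  have sq₀' : IsPullback (pullback.fst f.hom k₀.toHom) (pullback.snd f.hom k₀.toHom) f.hom
      ((yon S).map ι ≫ g) := by rw [← hk₀]; exact sq₀
  obtain ⟨β, hβe, hβs⟩ := F.exists_chart ι _ _ sq₀'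
  rw [dim_eq_of_chart β hβe hβs]
  have sV := (IsPullback.of_hasPullback F.h ι).map (Over.forget S)
  have sF : IsPullback (F.h.left.fiberι t) (F.h.left.fiberToSpecResidueField t) F.h.left
      (T.left.fromSpecResidueField t) := IsPullback.of_hasPullback _ _
  exact Groth.Agent.Lib.Helper4.ProdDim.topologicalKrullDim_eq_of_iso (sV.isoIsPullback _ _ sF)

/-- S10679: for a flat morphism of finite presentation the fibre dimension is lower
semi-continuous. -/
theorem isOpen_lt_dim {X Y : AlgSp.Space S} (f : X ⟶ Y)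
    (hf1 : AlgSp.LocP @Flat f.hom) (hf2 : AlgSp.IsFinitePresentationMor f.hom)
    (d : WithBot ℕ∞) :
    IsOpen {y : AlgSp.Points Y.obj | ∀ (k : AlgSp.FieldPt Y.obj), AlgSp.Points.mk k = y →
      ∀ (Xk : AlgSp.Sp S) (fst : Xk ⟶ X.obj) (snd : Xk ⟶ (AlgSp.yon S).obj k.pt),
        IsPullback fst snd f.hom k.toHom → d < AlgSp.dim Xk} := by
  have hft : AlgSp.IsFiniteTypeMor f.hom :=
    ⟨fun U V a b h ha hb comm => by
      haveI : LocallyOfFinitePresentation h.left := hf2.1 a b h ha hb comm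
      infer_instance, hf2.2.1⟩
  apply isOpen_of_affine_charts Y.property
  intro V a hV hae
  obtain ⟨F, hW, hFa⟩ := exists_affine_frame f hf2.2.1 hV a hae
  haveI : Flat F.h.left := F.prop_of_locP hae hFa hf1
  haveI : LocallyOfFinitePresentation F.h.left := F.prop_of_locP hae hFa hf2.1
  haveI : IsAffine F.W.left := hW
  haveI : IsAffine V.left := hV
  have hopen := Groth.Agent.S0404.result F.h.left d
  have hset : Points.ofPt a ⁻¹' {y : AlgSp.Points Y.obj | ∀ (k : AlgSp.FieldPt Y.obj),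
      AlgSp.Points.mk k = y →
      ∀ (Xk : AlgSp.Sp S) (fst : Xk ⟶ X.obj) (snd : Xk ⟶ (AlgSp.yon S).obj k.pt),
        IsPullback fst snd f.hom k.toHom → d < AlgSp.dim Xk} =
      {t | d < topologicalKrullDim ↥(F.h.left.fiber t)} := by
    ext t
    simp only [Set.mem_preimage, Set.mem_ofPred_eq]
    constructor
    · intro H
      have h1 := H (FieldPt.ofPt a t) rfl _ _ _ (IsPullback.of_hasPullback f.hom _)
      rwa [Frame.dim_fibre_eq hft F t (FieldPt.ofPt a t) rfl _ _
        (IsPullback.of_hasPullback f.hom _)] at h1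
    · intro H k hk Xk fst snd sq
      rw [Frame.dim_fibre_eq hft F t k hk fst snd sq]
      exact H
  rw [hset]
  exact hopen

end Groth.Agent.Lib.H5bFibDim
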