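import Mathlib
import Groth.Agent.Lib.H5bEtField
import Groth.Agent.Lib.Helper10MonoField

/-!
# Monomorphisms from spectra of fields are preimmersions; one-point étale schemes over a field (helper5)
-/

set_option autoImplicit false
set_option linter.style.haveILetI false

universe u
open CategoryTheory CategoryTheory.Limits AlgebraicGeometry Opposite

namespace Groth.Agent.Lib.H5bFibEmb

/-- a monomorphism from the spectrum of a field to a scheme is a preimmersion. -/
theorem isPreimmersion_of_mono_field {K : Type u} [Field K] {V : Scheme.{u}}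
    (m : Spec (CommRingCat.of K) ⟶ V) [Mono m] : IsPreimmersion m := by
  have h := Scheme.descResidueField_stalkClosedPointTo_fromSpecResidueField K V m
  haveI h1 : Mono (Spec.map (V.descResidueField (Scheme.stalkClosedPointTo m)) ≫
      V.fromSpecResidueField (m (IsLocalRing.closedPoint K))) := by rw [h]; infer_instance
  haveI h2 : Mono (Spec.map (V.descResidueField (Scheme.stalkClosedPointTo m))) :=
    mono_of_mono _ (V.fromSpecResidueField (m (IsLocalRing.closedPoint K)))
  haveI : Nonempty ↥(Spec (CommRingCat.of K)) := ⟨IsLocalRing.closedPoint K⟩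
  haveI h3 : IsIso (Spec.map (V.descResidueField (Scheme.stalkClosedPointTo m))) :=
    Groth.Agent.Lib.Helper10.MonoField.isIso_of_mono_of_nonempty
      (V.residueField (m (IsLocalRing.closedPoint K))) _
  rw [← h]
  infer_instance

/-- a reduced ring with a single prime ideal: the prime is zero. -/
theorem prime_eq_bot_of_subsingleton {R : Type u} [CommRing R] [IsReduced R]
    [Subsingleton (PrimeSpectrum R)] (p : Ideal R) [hp : p.IsPrime] : p = ⊥ := by
  have h1 : nilradical R = ⊥ := nilradical_eq_zero R
  rw [nilradical_eq_sInf] at h1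
  have h2 : sInf {J : Ideal R | J.IsPrime} = p := by
    apply le_antisymm
    · exact sInf_le hp
    · refine le_sInf fun J hJ => ?_
      have : (⟨J, hJ⟩ : PrimeSpectrum R) = ⟨p, hp⟩ := Subsingleton.elim _ _
      rw [show J = p from congrArg PrimeSpectrum.asIdeal this]
  rw [← h2, h1]

/-- a scheme étale over a field with exactly one point is the spectrum of a field. -/
theorem exists_iso_spec_field {k : Type u} [Field k] {T : Scheme.{u}}
    (g : T ⟶ Spec (CommRingCat.of k)) [Etale g] [Nonempty ↥T] [Subsingleton ↥T] :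
    ∃ (K : Type u) (_ : Field K), Nonempty (Spec (CommRingCat.of K) ≅ T) := by
  obtain ⟨t⟩ := ‹Nonempty ↥T›
  obtain ⟨p, hp⟩ := T.affineOpenCover.covers t
  let R : CommRingCat.{u} := T.affineOpenCover.X (T.affineOpenCover.idx t)
  let j : Spec R ⟶ T := T.affineOpenCover.f (T.affineOpenCover.idx t)
  haveI : IsOpenImmersion j := T.affineOpenCover.map_prop _
  haveI : Surjective j := ⟨fun t' => ⟨p, hp.trans (Subsingleton.elim _ _)⟩⟩
  haveI : IsIso j := (isIso_iff_isOpenImmersion_and_surjective j).2 ⟨inferInstance, inferInstance⟩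
  let φ : CommRingCat.of k ⟶ R := Spec.preimage (j ≫ g)
  have hφ : Spec.map φ = j ≫ g := Spec.map_preimage _
  have hφe : φ.hom.Etale := by
    rw [← HasRingHomProperty.Spec_iff (P := @Etale), hφ]
    infer_instance
  letI : Algebra k R := φ.hom.toAlgebra
  haveI : Algebra.Etale k R := hφe
  haveI := Algebra.FormallyUnramified.finite_of_free k R
  haveI : IsArtinianRing R := isArtinian_of_tower k inferInstance
  haveI := Algebra.FormallyUnramified.isReduced_of_field k R
  haveI : Subsingleton (PrimeSpectrum R) := by
    refine ⟨fun a b => ?_⟩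
    have hinj : Function.Injective j := j.isOpenEmbedding.injective
    exact hinj (Subsingleton.elim _ _)
  haveI hpp : p.asIdeal.IsPrime := p.2
  have hbot : p.asIdeal = ⊥ := prime_eq_bot_of_subsingleton p.asIdeal
  obtain ⟨hmax, -, -⟩ := Groth.Agent.Lib.H5bEtField.etale_quotient k R p.asIdeal
  letI : Field (R ⧸ p.asIdeal) := Ideal.Quotient.field p.asIdeal
  have hbij : Function.Bijective (Ideal.Quotient.mk p.asIdeal) := by
    refine ⟨?_, Ideal.Quotient.mk_surjective⟩
    rw [RingHom.injective_iff_ker_eq_bot, Ideal.mk_ker]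
    exact hbot
  let ψ : R ⟶ CommRingCat.of (R ⧸ p.asIdeal) := CommRingCat.ofHom (Ideal.Quotient.mk p.asIdeal)
  haveI : IsIso ψ := (ConcreteCategory.isIso_iff_bijective ψ).2 hbij
  exact ⟨R ⧸ p.asIdeal, inferInstance, ⟨asIso (Spec.map ψ) ≪≫ asIso j⟩⟩

end Groth.Agent.Lib.H5bFibEmb
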