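import Mathlib
import Groth.Agent.S10468

set_option autoImplicit false
universe u
open CategoryTheory CategoryTheory.Limits AlgebraicGeometry
open AlgSp

namespace Groth.Agent.Lib.H5bFieldCC

open TensorProduct

variable {S : Scheme.{u}}

/-- Base change of an algebraic space over a separably closed field point along a field
extension induces a bijection on connected components of the spaces of points. -/
theorem connectedComponentsMap_bijective_of_isSepClosed {Y P : AlgSp.Sp S} (hY : IsAlgSpace Y)
    {κ Ω : Type u} [Field κ] [Field Ω] [IsSepClosed κ]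
    (σ : Spec (CommRingCat.of κ) ⟶ S) (w : Spec (CommRingCat.of Ω) ⟶ S)
    (γ : Over.mk w ⟶ Over.mk σ) (f : Y ⟶ (yon S).obj (Over.mk σ)) (p1 : P ⟶ Y)
    (p2 : P ⟶ (yon S).obj (Over.mk w)) (t : IsPullback p2 p1 ((yon S).map γ) f) :
    Function.Bijective (Continuous.connectedComponentsMap (Points.continuous_map p1)) := by
  have huo : IsUnivOpenMor ((yon S).map γ) :=
    Groth.Agent.S9911.result ⟨(yon S).obj (Over.mk w), IsAlgSpace.yon_obj _⟩ σ
      (ObjectProperty.homMk ((yon S).map γ))
  have hopen : IsOpenMap (Points.map p1) := huo hY f p2 p1 t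
  letI : Algebra κ Ω := (Spec.preimage γ.left).hom.toAlgebra
  have e2 : Spec.map (CommRingCat.ofHom (algebraMap κ Ω)) = γ.left := Spec.map_preimage γ.left
  have hfib : ∀ y : Points Y, IsConnected (Points.map p1 ⁻¹' {y}) := by
    intro y
    obtain ⟨q, rfl⟩ := Points.mk_surjective y
    rw [← Points.ofPt_toHom q (IsLocalRing.closedPoint q.K)]
    obtain ⟨φ, hφ⟩ := (yon S).map_surjective (q.toHom ≫ f)
    letI : Algebra κ q.K := (Spec.preimage φ.left).hom.toAlgebra
    have e1 : Spec.map (CommRingCat.ofHom (algebraMap κ q.K)) = φ.left := Spec.map_preimage φ.left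
    let R : Over S := Over.mk (pullback.fst φ.left γ.left ≫ q.pt.hom)
    let r1 : R ⟶ q.pt := Over.homMk (pullback.fst φ.left γ.left) rfl
    let r2 : R ⟶ Over.mk w := Over.homMk (pullback.snd φ.left γ.left) (by
      show pullback.snd φ.left γ.left ≫ w = pullback.fst φ.left γ.left ≫ q.pt.hom
      have h1 : γ.left ≫ σ = w := Over.w γ
      have h2 : φ.left ≫ σ = q.pt.hom := Over.w φ
      calc pullback.snd φ.left γ.left ≫ w
          = pullback.snd φ.left γ.left ≫ γ.left ≫ σ := congrArg _ h1.symm
        _ = (pullback.fst φ.left γ.left ≫ φ.left) ≫ σ := by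
            rw [← Category.assoc, ← pullback.condition]
        _ = pullback.fst φ.left γ.left ≫ q.pt.hom := by
            rw [Category.assoc]; exact congrArg _ h2)
    have s : IsPullback ((yon S).map r2) ((yon S).map r1) ((yon S).map γ) ((yon S).map φ) :=
      Groth.Agent.Lib.H5bFibCrit.isPullback_yon_of_left r2 r1 γ φ
        (by apply Over.OverMorphism.ext; exact pullback.condition.symm)
        (IsPullback.of_hasPullback φ.left γ.left).flip
    let l : (yon S).obj R ⟶ P :=
      t.lift ((yon S).map r2) ((yon S).map r1 ≫ q.toHom) (by rw [s.w, Category.assoc, hφ])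
    have hl2 : l ≫ p2 = (yon S).map r2 := t.lift_fst _ _ _
    have hp : l ≫ p1 = (yon S).map r1 ≫ q.toHom := t.lift_snd _ _ _
    have s' : IsPullback (l ≫ p2) ((yon S).map r1) ((yon S).map γ) (q.toHom ≫ f) := by
      rw [hl2, ← hφ]
      exact s
    have sqf : IsPullback l ((yon S).map r1) p1 q.toHom := IsPullback.of_right s' hp t
    have : IrreducibleSpace (Spec (CommRingCat.of (q.K ⊗[κ] Ω))) := by
      change IrreducibleSpace (PrimeSpectrum (q.K ⊗[κ] Ω))
      rw [PrimeSpectrum.irreducibleSpace_iff_isPrime_nilradical]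
      refine Groth.Agent.Lib.Helper14.GeomIrr.isPrime_nilradical_tensor_of_isSepClosed
        (k := κ) (S := Ω) ?_ q.K
      rw [nilradical_eq_zero]
      exact Ideal.isPrime_bot
    have hirr0 : IrreducibleSpace ↥(pullback (Spec.map (CommRingCat.ofHom (algebraMap κ q.K)))
        (Spec.map (CommRingCat.ofHom (algebraMap κ Ω)))) :=
      (pullbackSpecIso κ q.K Ω).hom.homeomorph.irreducibleSpace_iff.mpr inferInstance
    have hirr : IrreducibleSpace ↥(pullback φ.left γ.left) := by
      rw [e1, e2] at hirr0
      exact hirr0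
    have : ConnectedSpace ↥R.left := (inferInstance : ConnectedSpace ↥(pullback φ.left γ.left))
    have hR : ConnectedSpace (Points ((yon S).obj R)) :=
      (Points.schemeHomeo R).surjective.connectedSpace (Points.schemeHomeo R).continuous
    exact Groth.Agent.S10468.fibre_connected' p1 q.str q.toHom _ l _ sqf hR
  have hsurj : Function.Surjective (Points.map p1) := fun y => (hfib y).nonempty
  have hco : Topology.IsCoinducing (Points.map p1) :=
    (hopen.isQuotientMap (Points.continuous_map _) hsurj).isCoinducing
  exact hco.connectedComponentsMap_bijective hfib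

end Groth.Agent.Lib.H5bFieldCC
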