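import Mathlib

/-!
# Embedding a small field extension into a big algebraically closed field (helper5)

`nonempty_algHom_of_card_lt`: for fields `F → L`, `F → k` with `k` algebraically closed and
`#L < #k`, there is an `F`-embedding `L → k`.
-/

set_option autoImplicit false
set_option linter.style.haveILetI false

universe u
open Cardinal

namespace Groth.Agent.Lib.H5bFieldEmb

/-- a field extension `L/F` of cardinality smaller than that of an algebraically closed extension
`k/F` embeds into `k` over `F`. -/
theorem nonempty_algHom_of_card_lt {F L k : Type u} [Field F] [Field L] [Field k] [Algebra F L]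
    [Algebra F k] [IsAlgClosed k] (h : #L < #k) : Nonempty (L →ₐ[F] k) := by
  obtain ⟨s, hs⟩ := exists_isTranscendenceBasis F L
  obtain ⟨t, ht⟩ := exists_isTranscendenceBasis F k
  have hst : #s ≤ #t := by
    by_contra hlt
    rw [not_le] at hlt
    have h1 : #k ≤ max (max #F #t) ℵ₀ := IsAlgClosed.cardinal_le_max_transcendence_basis' _ ht
    have hF : #F ≤ #L := Cardinal.mk_le_of_injective (algebraMap F L).injective
    have hsL : #s ≤ #L := Cardinal.mk_set_le s
    have h2 : #k ≤ ℵ₀ := by
      by_contra h3
      rw [not_le] at h3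
      have h4 : max (max #F #t) ℵ₀ < #k :=
        max_lt (max_lt (hF.trans_lt h) ((hlt.le.trans hsL).trans_lt h)) h3
      exact absurd h1 (not_le.mpr h4)
    have hLfin : #L < ℵ₀ := h.trans_le h2
    haveI : Finite L := Cardinal.lt_aleph0_iff_finite.mp hLfin
    haveI : Finite F := Finite.of_injective _ (algebraMap F L).injective
    haveI : Module.Finite F L := Module.Finite.of_finite
    haveI : Algebra.IsAlgebraic F L := Algebra.IsAlgebraic.of_finite F L
    haveI : IsEmpty s := hs.1.isEmpty_of_isAlgebraic
    have h5 : #s = 0 := Cardinal.mk_eq_zero _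
    rw [h5] at hlt
    exact absurd hlt (not_lt.mpr zero_le)
  obtain ⟨e⟩ := (Cardinal.le_def _ _).1 hst
  let x : s → k := fun i => ((e i : t) : k)
  have hx : AlgebraicIndependent F x := ht.1.comp e e.injective
  let φ₀ : IntermediateField.adjoin F (Set.range ((↑) : s → L)) →ₐ[F] k :=
    ((IntermediateField.val _).comp hx.aevalEquivField.toAlgHom).comp
      hs.1.aevalEquivField.symm.toAlgHom
  haveI : Algebra.IsAlgebraic (IntermediateField.adjoin F (Set.range ((↑) : s → L))) L :=
    hs.isAlgebraic_field
  letI : Algebra (IntermediateField.adjoin F (Set.range ((↑) : s → L))) k :=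
    φ₀.toRingHom.toAlgebra
  haveI : IsScalarTower F (IntermediateField.adjoin F (Set.range ((↑) : s → L))) k :=
    IsScalarTower.of_algebraMap_eq (fun r => (φ₀.commutes r).symm)
  let ψ : L →ₐ[IntermediateField.adjoin F (Set.range ((↑) : s → L))] k := IsAlgClosed.lift
  exact ⟨ψ.restrictScalars F⟩

/-- ring hom version. -/
theorem exists_ringHom_of_card_lt {F L k : Type u} [Field F] [Field L] [Field k] (φ : F →+* L)
    (ψ : F →+* k) [IsAlgClosed k] (h : #L < #k) : ∃ χ : L →+* k, χ.comp φ = ψ := by
  letI := φ.toAlgebra
  letI := ψ.toAlgebra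
  obtain ⟨χ⟩ := nonempty_algHom_of_card_lt (F := F) (L := L) (k := k) h
  refine ⟨χ.toRingHom, ?_⟩
  ext r
  exact χ.commutes r

/-- a finite extension of a field of cardinality smaller than an infinite cardinal still has smaller
cardinality. -/
theorem card_lt_of_finite {F L : Type u} [Field F] [Field L] (φ : F →+* L) (hφ : φ.Finite)
    {c : Cardinal.{u}} (hc : ℵ₀ ≤ c) (h : #F < c) : #L < c := by
  letI := φ.toAlgebra
  haveI : Module.Finite F L := hφ
  by_cases hF : Finite F
  · haveI := hF
    haveI : Finite L := Module.finite_of_finite F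
    exact (Cardinal.lt_aleph0_of_finite L).trans_le hc
  · haveI : Algebra.IsAlgebraic F L := Algebra.IsAlgebraic.of_finite F L
    have h1 : #L ≤ max #F ℵ₀ := Algebra.IsAlgebraic.cardinalMk_le_max F L
    rw [not_finite_iff_infinite] at hF
    haveI := hF
    have h2 : ℵ₀ ≤ #F := Cardinal.aleph0_le_mk F
    rw [max_eq_left h2] at h1
    exact h1.trans_lt h

end Groth.Agent.Lib.H5bFieldEmb
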