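import Mathlib
import Groth.Prelude
import Groth.Agent.Lib.Helper4DimFormulaG
import Groth.Agent.Lib.Helper3QFinDim

/-!
# Local finiteness of the set of irreducible components

Maximal points, their relation with irreducible components in quasi-sober T0 spaces, and the
permanence of "quasi-compact opens have finitely many irreducible components" under flat
morphisms locally of finite type.
-/

set_option autoImplicit false
universe u
open CategoryTheory CategoryTheory.Limits AlgebraicGeometry TopologicalSpace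

namespace Groth.Agent.Lib.H5bFinComp

open Groth.Agent.Lib.Helper4.DimFormula

/-- maximal points (points without proper generizations). -/
def maxPts (T : Type*) [TopologicalSpace T] : Set T := {t | ∀ t' : T, t' ⤳ t → t' = t}

/-- in a quasi-sober T0 space, finiteness of the set of irreducible components is finiteness of
the set of maximal points. -/
theorem finite_irreducibleComponents_iff (T : Type*) [TopologicalSpace T] [QuasiSober T]
    [T0Space T] : (irreducibleComponents T).Finite ↔ (maxPts T).Finite := by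
  constructor
  · intro h
    refine Set.Finite.of_injOn (f := fun t : T => closure ({t} : Set T)) ?_ ?_ h
    · intro t ht
      exact mem_irreducibleComponents_of_forall_specializes t ht
    · intro t _ t' _ htt'
      have htt' : closure ({t} : Set T) = closure ({t'} : Set T) := htt'
      have h1 : t ⤳ t' := by
        rw [specializes_iff_mem_closure, htt']; exact subset_closure rfl
      have h2 : t' ⤳ t := by
        rw [specializes_iff_mem_closure, ← htt']; exact subset_closure rfl
      exact (h1.antisymm h2).eq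
  · intro h
    refine (h.image (fun t : T => closure ({t} : Set T))).subset ?_
    intro Z hZ
    obtain ⟨g, hg⟩ := QuasiSober.sober hZ.1 (isClosed_of_mem_irreducibleComponents Z hZ)
    refine ⟨g, ?_, hg.def⟩
    intro t' ht'
    have h1 : Z ⊆ closure ({t'} : Set T) := by
      rw [← hg.def]
      exact closure_minimal (Set.singleton_subset_iff.mpr ht'.mem_closure) isClosed_closure
    have h2 : closure ({t'} : Set T) ⊆ Z := hZ.2 isIrreducible_singleton.closure h1
    have h3 : g ⤳ t' := by
      rw [specializes_iff_mem_closure, hg.def]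
      exact h2 (subset_closure rfl)
    exact (ht'.antisymm h3).eq

/-- for an open subset `W` of a scheme, finiteness of the irreducible components of `W` in terms
of maximal points of the ambient scheme. -/
theorem finite_irreducibleComponents_opens_iff {U : Scheme.{u}} (W : U.Opens) :
    (irreducibleComponents ↥W).Finite ↔ (maxPts ↥U ∩ (W : Set ↥U)).Finite := by
  haveI : QuasiSober ↥W := W.isOpen.isOpenEmbedding_subtypeVal.quasiSober
  rw [finite_irreducibleComponents_iff]
  have himg : maxPts ↥U ∩ (W : Set ↥U) = Subtype.val '' (maxPts ↥W) := by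
    ext u
    constructor
    · rintro ⟨hu, huW⟩
      refine ⟨⟨u, huW⟩, ?_, rfl⟩
      intro t' ht'
      have := hu t'.1 ((subtype_specializes_iff _ _).mp ht')
      exact Subtype.ext this
    · rintro ⟨w, hw, rfl⟩
      refine ⟨?_, w.2⟩
      intro u' hu'
      have hu'W : u' ∈ W := hu'.mem_open W.isOpen w.2
      have := hw ⟨u', hu'W⟩ ((subtype_specializes_iff _ _).mpr hu')
      exact congrArg Subtype.val this
  rw [himg]
  exact (Set.finite_image_iff Subtype.val_injective.injOn).symm

/-- the points of a fibre of a quasi-compact morphism locally of finite type that are maximal in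
the fibre form a finite set. -/
theorem finite_maximal_in_fibre {W V : Scheme.{u}} (r : W ⟶ V) [LocallyOfFiniteType r]
    [QuasiCompact r] (η : V) :
    {w : W | r.base w = η ∧ ∀ w' : W, w' ⤳ w → r.base w' = η → w' = w}.Finite := by
  haveI := Groth.Agent.Lib.Helper3.QFinDim.noetherianSpace_fiber r η
  have hfin : (maxPts ↥(r.fiber η)).Finite :=
    (finite_irreducibleComponents_iff _).1 NoetherianSpace.finite_irreducibleComponents
  refine (hfin.image (r.fiberι η).base).subset ?_
  rintro w ⟨hw, hmax⟩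
  have : w ∈ Set.range (r.fiberι η).base := by rw [r.range_fiberι]; exact hw
  obtain ⟨z, rfl⟩ := this
  refine ⟨z, ?_, rfl⟩
  intro z' hz'
  have h1 : (r.fiberι η).base z' ⤳ (r.fiberι η).base z := hz'.map (r.fiberι η).continuous
  have h2 : r.base ((r.fiberι η).base z') = η := by
    have : (r.fiberι η).base z' ∈ Set.range (r.fiberι η).base := ⟨z', rfl⟩
    rwa [r.range_fiberι] at this
  exact (r.fiberι η).isEmbedding.injective (hmax _ h1 h2)

/-- **L1**: a flat morphism locally of finite type pulls back local finiteness of the set of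
maximal points. -/
theorem finite_maxPts_inter_of_flat {U V : Scheme.{u}} (h : U ⟶ V) [Flat h]
    [LocallyOfFiniteType h]
    (hV : ∀ W : V.Opens, IsCompact (W : Set ↥V) → (maxPts ↥V ∩ (W : Set ↥V)).Finite)
    (W : U.Opens) (hW : IsCompact (W : Set ↥U)) : (maxPts ↥U ∩ (W : Set ↥U)).Finite := by
  have hex : ∀ w : ↥(W : Set ↥U), ∃ (Vw : V.Opens) (Ww : U.Opens), IsAffineOpen Vw ∧
      IsAffineOpen Ww ∧ w.1 ∈ Ww ∧ Ww ≤ W ∧ Ww ≤ h ⁻¹ᵁ Vw := by
    rintro ⟨w, hw⟩
    obtain ⟨Vw, hVw, hwV⟩ : ∃ Vw : V.Opens, IsAffineOpen Vw ∧ h.base w ∈ Vw := by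
      obtain ⟨_, ⟨Vw, hVw, rfl⟩, h1, -⟩ := V.isBasis_affineOpens.exists_subset_of_mem_open
        (Set.mem_univ (h.base w)) isOpen_univ
      exact ⟨Vw, hVw, h1⟩
    obtain ⟨Ww, hWw, hwW, hle⟩ : ∃ Ww : U.Opens, IsAffineOpen Ww ∧ w ∈ Ww ∧
        Ww ≤ W ⊓ h ⁻¹ᵁ Vw := by
      obtain ⟨_, ⟨Ww, hWw, rfl⟩, h1, h2⟩ := U.isBasis_affineOpens.exists_subset_of_mem_open
        (show w ∈ ((W ⊓ h ⁻¹ᵁ Vw : U.Opens) : Set ↥U) from ⟨hw, hwV⟩) (W ⊓ h ⁻¹ᵁ Vw).isOpen
      exact ⟨Ww, hWw, h1, h2⟩
    exact ⟨Vw, Ww, hVw, hWw, hwW, hle.trans inf_le_left, hle.trans inf_le_right⟩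
  choose Vf Wf hVf hWf hmem hleW hleV using hex
  obtain ⟨t, ht⟩ := hW.elim_finite_subcover (fun w : ↥(W : Set ↥U) => ((Wf w : U.Opens) : Set ↥U))
    (fun w => (Wf w).isOpen) (fun w hw => Set.mem_iUnion.mpr ⟨⟨w, hw⟩, hmem ⟨w, hw⟩⟩)
  -- the finite pieces
  have hpiece : ∀ (w : ↥(W : Set ↥U)) (η : ↥V), η ∈ Vf w →
      {u : ↥U | u ∈ Wf w ∧ h.base u = η ∧ u ∈ maxPts ↥U}.Finite := by
    intro w η hη
    haveI : IsAffine ↑(Wf w) := hWf w
    haveI : IsAffine ↑(Vf w) := hVf w
    have hfin := finite_maximal_in_fibre (h.resLE (Vf w) (Wf w) (hleV w)) ⟨η, hη⟩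
    refine (hfin.image (Wf w).ι.base).subset ?_
    rintro u ⟨huW, huη, humax⟩
    have hres : ∀ u' : ↥((Wf w : U.Opens) : Scheme.{u}),
        (Vf w).ι.base ((h.resLE (Vf w) (Wf w) (hleV w)).base u') =
        h.base ((Wf w).ι.base u') := by
      intro u'
      show ((h.resLE (Vf w) (Wf w) (hleV w) ≫ (Vf w).ι).base u') = ((Wf w).ι ≫ h).base u'
      rw [Scheme.Hom.resLE_comp_ι]
    let u₀ : ↥((Wf w : U.Opens) : Scheme.{u}) := ⟨u, huW⟩
    refine ⟨u₀, ⟨?_, ?_⟩, rfl⟩
    · apply (Vf w).ι.isOpenEmbedding.injective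
      exact (hres u₀).trans huη
    · intro u' hu' _
      have h1 : (Wf w).ι.base u' ⤳ u := hu'.map (Wf w).ι.continuous
      exact (Wf w).ι.isOpenEmbedding.injective (humax _ h1)
  have hfinV : ∀ w : ↥(W : Set ↥U), (maxPts ↥V ∩ ((Vf w : V.Opens) : Set ↥V)).Finite :=
    fun w => hV (Vf w) (hVf w).isCompact
  refine ((t.finite_toSet.biUnion (fun w _ => (hfinV w).biUnion
    (fun η hη => hpiece w η hη.2)))).subset ?_
  rintro u ⟨humax, huW⟩
  obtain ⟨w, hwt, huw⟩ : ∃ w ∈ t, u ∈ Wf w := by
    have := ht huW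
    simpa using this
  have hη : h.base u ∈ maxPts ↥V := by
    intro v' hv'
    obtain ⟨u', hu', hu'v⟩ := (Flat.generalizingMap h) hv'
    rw [humax u' hu'] at hu'v
    exact hu'v.symm
  simp only [Set.mem_iUnion]
  exact ⟨w, hwt, h.base u, ⟨hη, hleV w huw⟩, huw, rfl, humax⟩

end Groth.Agent.Lib.H5bFinComp
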