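import Mathlib
import Groth.Prelude
import Groth.Agent.Lib.H5bFinComp
import Groth.Agent.Lib.H5bCodimOne

/-!
# Local finiteness of irreducible components: descent along open surjections and étale charts
-/

set_option autoImplicit false
universe u
open CategoryTheory CategoryTheory.Limits AlgebraicGeometry TopologicalSpace

namespace Groth.Agent.Lib.H5bFinComp

/-- maximal points of an open subscheme. -/
theorem maxPts_inter_opens {U : Scheme.{u}} (W : U.Opens) :
    maxPts ↥U ∩ (W : Set ↥U) = W.ι.base '' (maxPts ↥(W : Scheme.{u})) := by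
  ext u
  constructor
  · rintro ⟨hu, huW⟩
    let w : ↥(W : Scheme.{u}) := ⟨u, huW⟩
    refine ⟨w, ?_, rfl⟩
    intro t' ht'
    have h1 : W.ι.base t' ⤳ u := ht'.map W.ι.continuous
    exact W.ι.isOpenEmbedding.injective (hu _ h1)
  · rintro ⟨w, hw, rfl⟩
    refine ⟨?_, w.2⟩
    intro u' hu'
    have hu'W : u' ∈ W := hu'.mem_open W.isOpen w.2
    let w' : ↥(W : Scheme.{u}) := ⟨u', hu'W⟩
    have h1 : w' ⤳ w := by
      rw [← W.ι.isOpenEmbedding.isInducing.specializes_iff]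
      exact hu'
    exact congrArg W.ι.base (hw w' h1)

/-- the property used below. -/
def Pm (U : Scheme.{u}) : Prop :=
  ∀ W : U.Opens, IsCompact (W : Set ↥U) → (maxPts ↥U ∩ (W : Set ↥U)).Finite

theorem pm_iff (U : Scheme.{u}) :
    Pm U ↔ ∀ W : U.Opens, IsCompact (W : Set ↥U) → (irreducibleComponents ↥W).Finite := by
  refine forall₂_congr fun W _ => ?_
  rw [finite_irreducibleComponents_opens_iff]

/-- **K1** -/
theorem pm_of_flat {U V : Scheme.{u}} (h : U ⟶ V) [Flat h] [LocallyOfFiniteType h] (hV : Pm V) :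
    Pm U := fun W hW => finite_maxPts_inter_of_flat h hV W hW

/-- **K2**: descent along an open surjective morphism. -/
theorem pm_of_isOpenMap_surjective {U' U : Scheme.{u}} (g : U' ⟶ U) (hg : IsOpenMap g.base)
    (hs : Function.Surjective g.base) (hU' : Pm U') : Pm U := by
  intro W hW
  have hex : ∀ u : ↥(W : Set ↥U), ∃ (x : ↥U') (Wx : U'.Opens), g.base x = u.1 ∧ IsAffineOpen Wx ∧
      x ∈ Wx := by
    rintro ⟨u, hu⟩
    obtain ⟨x, hx⟩ := hs u
    obtain ⟨_, ⟨Wx, hWx, rfl⟩, h1, -⟩ := U'.isBasis_affineOpens.exists_subset_of_mem_open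
      (Set.mem_univ x) isOpen_univ
    exact ⟨x, Wx, hx, hWx, h1⟩
  choose xf Wf hxf hWf hmem using hex
  obtain ⟨t, ht⟩ := hW.elim_finite_subcover
    (fun u : ↥(W : Set ↥U) => g.base '' ((Wf u : U'.Opens) : Set ↥U'))
    (fun u => hg _ (Wf u).isOpen)
    (fun u hu => Set.mem_iUnion.mpr ⟨⟨u, hu⟩, xf ⟨u, hu⟩, hmem ⟨u, hu⟩, hxf ⟨u, hu⟩⟩)
  refine (t.finite_toSet.biUnion (fun u _ =>
    (hU' (Wf u) (hWf u).isCompact).image g.base)).subset ?_
  rintro u ⟨humax, huW⟩
  obtain ⟨i, hit, x, hxW, hxu⟩ : ∃ i ∈ t, ∃ x ∈ ((Wf i : U'.Opens) : Set ↥U'), g.base x = u := by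
    have := ht huW
    simpa using this
  obtain ⟨x', hx'sp, hx'max⟩ := Groth.Agent.Lib.H5bCodimOne.exists_maximal_generization x
  have hx'W : x' ∈ Wf i := hx'sp.mem_open (Wf i).isOpen hxW
  have h1 : g.base x' ⤳ u := hxu ▸ hx'sp.map g.continuous
  simp only [Set.mem_iUnion]
  exact ⟨i, hit, x', ⟨hx'max, hx'W⟩, humax _ h1⟩

section Sp

open AlgSp

variable {S : Scheme.{u}}

/-- **K3**: the property passes from an étale surjective chart to any étale chart. -/
theorem pm_of_charts {X : AlgSp.Sp S} {U₁ U₂ : Over S} (a₁ : (yon S).obj U₁ ⟶ X)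
    (a₂ : (yon S).obj U₂ ⟶ X) (ha₁ : RepWith @Etale a₁) (has₁ : RepWith @Surjective a₁)
    (ha₂ : RepWith @Etale a₂) (h : Pm U₁.left) : Pm U₂.left := by
  have sq := ha₁.rep.isPullback' a₂
  haveI h1 : Etale (ha₁.rep.snd a₂).left := ha₁.property_snd a₂
  haveI h2 : Etale (ha₁.rep.fst' a₂).left := ha₂.2 a₁ _ _ sq.flip
  have h3 : Surjective (ha₁.rep.snd a₂).left := has₁.2 a₂ _ _ sq
  have hW : Pm (ha₁.rep.pullback a₂).left := pm_of_flat (ha₁.rep.fst' a₂).left h
  exact pm_of_isOpenMap_surjective (ha₁.rep.snd a₂).left (ha₁.rep.snd a₂).left.isOpenMap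
    h3.surj hW

end Sp

end Groth.Agent.Lib.H5bFinComp
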