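import Mathlib
import Groth.Prelude
import Groth.Agent.Lib.H5bFieldSp
import Groth.Agent.Lib.H5bFibDimBC
import Groth.Agent.Lib.Helper12LocPCases
import Groth.Agent.Lib.Helper12OpenSub2
import Groth.Agent.S10313
import Groth.Agent.S10338
import Groth.Agent.S10423
import Groth.Agent.S10175
import Groth.Agent.S10177
import Groth.Agent.S10176
import Groth.Agent.S9874

/-!
# Finite fibres and quasi-finiteness (helper5)

* `isLocallyClosed_singleton_of_finite`: in a finite `T0` space all singletons are locally closed;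
* `hasAtMor_lqf_of_finite_fibre`: for `f : X ⟶ Y` locally of finite type and quasi-separated, and
  a field valued point `y` of `Y` whose fibre `X_y` has finitely many points, `f` is quasi-finite
  at every point over `y`.
-/

set_option autoImplicit false
set_option linter.style.haveILetI false
universe u
open CategoryTheory CategoryTheory.Limits AlgebraicGeometry Topology TopologicalSpace

namespace Groth.Agent.Lib.H5bFinFib

theorem isLocallyClosed_singleton_of_finite {α : Type*} [TopologicalSpace α] [T0Space α]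
    [Finite α] (x : α) : IsLocallyClosed ({x} : Set α) := by
  let B : Set α := ⋃ z ∈ (closure {x} \ {x} : Set α), closure {z}
  have hB : IsClosed B :=
    (Set.toFinite (closure {x} \ {x} : Set α)).isClosed_biUnion fun _ _ => isClosed_closure
  refine ⟨Bᶜ, closure {x}, hB.isOpen_compl, isClosed_closure, ?_⟩
  ext w
  simp only [Set.mem_singleton_iff, Set.mem_inter_iff, Set.mem_compl_iff]
  constructor
  · rintro rfl
    refine ⟨?_, subset_closure rfl⟩
    intro hw
    simp only [B, Set.mem_iUnion] at hw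
    obtain ⟨z, ⟨hz1, hz2⟩, hz3⟩ := hw
    have h1 : w ⤳ z := specializes_iff_mem_closure.2 hz1
    have h2 : z ⤳ w := specializes_iff_mem_closure.2 hz3
    exact hz2 (h2.antisymm h1).eq
  · rintro ⟨hw1, hw2⟩
    by_contra hne
    exact hw1 (Set.mem_biUnion (show w ∈ (closure {x} \ {x} : Set α) from ⟨hw2, hne⟩)
      (subset_closure rfl))

open AlgSp

variable {S : Scheme.{u}}

theorem hasAtMor_lqf_of_locallyClosed_points {X Y : AlgSp.Space S} (f : X ⟶ Y)
    (hlft : LocP @LocallyOfFiniteType f.hom)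
    (y : FieldPt Y.obj) (Xy : Sp S) (fst : Xy ⟶ X.obj) (snd : Xy ⟶ (yon S).obj y.pt)
    (hsq : IsPullback fst snd f.hom y.toHom)
    (hlc : ∀ z : Points Xy, IsLocallyClosed ({z} : Set (Points Xy)))
    (x : Points X.obj) (hx : Points.map f.hom x = Points.mk y) :
    HasAtMor (fun U _ h u => ∃ W : U.Opens, u ∈ W ∧ LocallyQuasiFinite (W.ι ≫ h) ∧
      LocallyOfFiniteType (W.ι ≫ h)) f.hom x := by
  have hXy : IsAlgSpace Xy :=
    Groth.Agent.S9874.isAlgSpace_of_isPullback Y.property.diag X.property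
      (IsAlgSpace.yon_obj _) hsq
  have hp : LocP @LocallyOfFiniteType snd :=
    Groth.Agent.Lib.Helper12.LocPCases.good_lft.locP_baseChange X.property Y.property
      (IsAlgSpace.yon_obj _) hsq hlft
  haveI : Subsingleton ↥y.pt.left := (inferInstance : Subsingleton (PrimeSpectrum y.K))
  haveI : IsLocallyNoetherian y.pt.left :=
    (inferInstance : IsLocallyNoetherian (Spec (CommRingCat.of y.K)))
  -- a point of the fibre over `x`
  let s₀ : ↥y.pt.left := IsLocalRing.closedPoint y.K
  have e0 : Points.map f.hom x = Points.map y.toHom (Points.ofScheme y.pt s₀) := by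
    rw [← Points.ofPt_eq_map_ofScheme, Points.ofPt_toHom, hx]
  obtain ⟨xt, hxt1, -⟩ := Groth.Agent.S10175.exists_point_of_isPullback hsq x _ e0
  -- a chart of the fibre
  obtain ⟨U₀, c, hc, hcs⟩ := hXy.atlas
  obtain ⟨t, ht⟩ := Groth.Agent.S10177.surjective_ofPt c hcs xt
  have hclosed : ∀ u : ↥U₀.left, IsClosed ({u} : Set ↥U₀.left) := fun u =>
    Groth.Agent.Lib.H5bFieldSp.chart_point_isClosed snd hp c hc u (hlc _)
  have hdim : topologicalKrullDim ↥U₀.left ≤ 0 :=
    Groth.Agent.Lib.H5bFieldSp.topologicalKrullDim_le_zero_of_forall_isClosed U₀.left hclosed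
  have hloc : FlatMor.localDim ↥U₀.left t ≤ 0 :=
    (Groth.Agent.Lib.Helper7.TopDim.localDim_le_dim _).trans hdim
  have h1 : HasAtMor (fun _ _ h u => FlatMor.fibreDimAt h u ≤ 0) snd (Points.ofPt c t) :=
    (Groth.Agent.Lib.H5bFibDimBC.hasAtMor_fibreDimAt_to_field_iff snd c hc t (fun e => e ≤ 0)).2
      hloc
  rw [ht] at h1
  have h2 : HasAtMor (fun _ _ h u => FlatMor.fibreDimAt h u ≤ 0) f.hom (Points.map fst xt) :=
    (Groth.Agent.Lib.H5bFibDimBC.hasAtMor_fibreDimAt_baseChange_iff X.property Y.property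
      (IsAlgSpace.yon_obj _) hsq hlft xt (fun e => e ≤ 0)).1 h1
  rw [hxt1] at h2
  obtain ⟨U', V', a', b', h', u', ha', hb', c', hu', hq⟩ := h2
  haveI : LocallyOfFiniteType h'.left := hlft a' b' h' ha' hb' c'
  exact ⟨U', V', a', b', h', u', ha', hb', c', hu',
    (Groth.Agent.S10313.exists_open_lqf_iff h'.left u').2 hq⟩

theorem hasAtMor_lqf_of_finite_fibre {X Y : AlgSp.Space S} (f : X ⟶ Y)
    (hlft : LocP @LocallyOfFiniteType f.hom) (hqs : IsQuasiSeparatedMor f.hom)
    (y : FieldPt Y.obj) (Xy : Sp S) (fst : Xy ⟶ X.obj) (snd : Xy ⟶ (yon S).obj y.pt)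
    (hsq : IsPullback fst snd f.hom y.toHom) (hfin : Finite (Points Xy))
    (x : Points X.obj) (hx : Points.map f.hom x = Points.mk y) :
    HasAtMor (fun U _ h u => ∃ W : U.Opens, u ∈ W ∧ LocallyQuasiFinite (W.ι ≫ h) ∧
      LocallyOfFiniteType (W.ι ≫ h)) f.hom x := by
  have hXy : IsAlgSpace Xy :=
    Groth.Agent.S9874.isAlgSpace_of_isPullback Y.property.diag X.property
      (IsAlgSpace.yon_obj _) hsq
  have hdec : IsDecent Xy := (Groth.Agent.S10423.result f).2 hqs y.toHom fst snd hsq
  haveI : T0Space (Points Xy) := Groth.Agent.S10338.result ⟨Xy, hXy⟩ hdec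
  exact hasAtMor_lqf_of_locallyClosed_points f hlft y Xy fst snd hsq
    (fun z => isLocallyClosed_singleton_of_finite z) x hx

/-- the fibres of a locally quasi-finite morphism over field valued points are discrete. -/
theorem discreteTopology_fibre_of_locP_lqf {X Y : AlgSp.Space S} (f : X ⟶ Y)
    (hlqf : LocP (@LocallyQuasiFinite ⊓ @LocallyOfFiniteType) f.hom)
    (y : FieldPt Y.obj) (Xy : Sp S) (fst : Xy ⟶ X.obj) (snd : Xy ⟶ (yon S).obj y.pt)
    (hsq : IsPullback fst snd f.hom y.toHom) : DiscreteTopology (Points Xy) := by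
  have hXy : IsAlgSpace Xy :=
    Groth.Agent.S9874.isAlgSpace_of_isPullback Y.property.diag X.property
      (IsAlgSpace.yon_obj _) hsq
  have hp : LocP (@LocallyQuasiFinite ⊓ @LocallyOfFiniteType) snd :=
    Groth.Agent.Lib.Helper12.LocPCases.good_lqf.locP_baseChange X.property Y.property
      (IsAlgSpace.yon_obj _) hsq hlqf
  haveI : Subsingleton ↥y.pt.left := (inferInstance : Subsingleton (PrimeSpectrum y.K))
  obtain ⟨U₀, c, hc, hcs⟩ := hXy.atlas
  obtain ⟨g, hg⟩ := (yon S).map_surjective (c ≫ snd)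
  have hgP : (@LocallyQuasiFinite ⊓ @LocallyOfFiniteType : MorphismProperty Scheme.{u}) g.left :=
    hp c (𝟙 _) g hc (repWith_id _ _) (by rw [hg, Category.comp_id])
  haveI : LocallyQuasiFinite g.left := hgP.1
  have hdisc : DiscreteTopology ↥U₀.left := by
    by_cases hne : Nonempty ↥U₀.left
    · obtain ⟨ξ⟩ := hne
      have h1 := g.left.isDiscrete_preimage_singleton (g.left ξ)
      have huniv : g.left ⁻¹' {g.left ξ} = Set.univ := by
        ext x
        simp [Subsingleton.elim (g.left x) (g.left ξ)]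
      rw [huniv] at h1
      exact isDiscrete_univ_iff.1 h1
    · haveI : IsEmpty ↥U₀.left := not_nonempty_iff.1 hne
      exact ⟨Subsingleton.elim _ _⟩
  rw [discreteTopology_iff_isOpen_singleton]
  intro z
  obtain ⟨u, rfl⟩ := Groth.Agent.S10177.surjective_ofPt c hcs z
  have h2 := Groth.Agent.S10176.isOpenMap_ofPt c hc {u} (isOpen_discrete _)
  rwa [Set.image_singleton] at h2

end Groth.Agent.Lib.H5bFinFib
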