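import Mathlib
import Groth.Agent.S0115
import Groth.Agent.S4997
import Groth.Agent.S10554
import Groth.Agent.Lib.Helper12SrcLocal

/-!
# Smoothness and étaleness descend along fppf covers of the source

Scheme level (étale case, from the smooth case `S0115` and `S4997`) and the chart-wise version for
morphisms of algebraic spaces.
-/

set_option autoImplicit false
universe u

namespace Groth.Agent.Lib.H5bFppfComp

open AlgebraicGeometry CategoryTheory Limits MorphismProperty

/-- discreteness of fibres descends along a surjective open map on the source. -/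
theorem isDiscrete_preimage_of_comp {W U V : Type*} [TopologicalSpace W] [TopologicalSpace U]
    (e : W → U) (h : U → V) (he : IsOpenMap e) (hs : Function.Surjective e) (v : V)
    (hd : _root_.IsDiscrete ((h ∘ e) ⁻¹' {v})) : _root_.IsDiscrete (h ⁻¹' {v}) := by
  rw [isDiscrete_iff_forall_mem_exists_isOpen] at hd ⊢
  intro u hu
  obtain ⟨w, rfl⟩ := hs u
  obtain ⟨O, hO, hOw⟩ := hd w hu
  refine ⟨e '' O, he O hO, ?_⟩
  ext u'
  constructor
  · rintro ⟨⟨w', hw'O, rfl⟩, hw'v⟩
    have : w' ∈ O ∩ (h ∘ e) ⁻¹' {v} := ⟨hw'O, hw'v⟩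
    rw [hOw] at this
    rw [Set.mem_singleton_iff] at this ⊢
    rw [this]
  · intro hu'
    rw [Set.mem_singleton_iff] at hu'
    subst hu'
    have : w ∈ O ∩ (h ∘ e) ⁻¹' {v} := by rw [hOw]; exact rfl
    exact ⟨⟨w, this.1, rfl⟩, hu⟩

/-- étaleness descends along an fppf cover of the source (schemes). -/
theorem etale_of_fppf_comp {W U V : Scheme.{u}} (e : W ⟶ U) (h : U ⟶ V) [Surjective e] [Flat e]
    [LocallyOfFinitePresentation e] [Etale (e ≫ h)] : Etale h := by
  haveI : Smooth h := Groth.Agent.S0115.result e h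
  rw [Groth.Agent.S4997.result]
  refine ⟨inferInstance, ?_⟩
  rw [locallyQuasiFinite_iff_isDiscrete_preimage_singleton]
  intro v
  haveI : LocallyQuasiFinite (e ≫ h) := ((Groth.Agent.S4997.result (e ≫ h)).1 inferInstance).2
  have hd : _root_.IsDiscrete ((e ≫ h) ⁻¹' {v}) :=
    (locallyQuasiFinite_iff_isDiscrete_preimage_singleton (f := e ≫ h)).1 inferInstance v
  refine isDiscrete_preimage_of_comp e h e.isOpenMap e.surjective v ?_
  convert hd using 2
  ext x
  simp

variable {S : Scheme.{u}}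

open AlgSp Groth.Agent.Lib.Helper12.SrcLocal

/-- chart-wise properties which descend along fppf covers of the source (for schemes) descend
along fppf covers of the source for algebraic spaces. -/
theorem locP_of_fppf_comp (P : MorphismProperty Scheme.{u})
    (hdesc : ∀ {W U V : Scheme.{u}} (e : W ⟶ U) (h : U ⟶ V), Surjective e → Flat e →
      LocallyOfFinitePresentation e → P (e ≫ h) → P h)
    {X Y B : AlgSp.Sp S} (hX : AlgSp.IsAlgSpace X) (hY : AlgSp.IsAlgSpace Y)
    (f : X ⟶ Y) (q : Y ⟶ B)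
    (hs : AlgSp.IsSurjectiveMor f) (hfl : AlgSp.LocP @Flat f)
    (hfp : AlgSp.LocP @LocallyOfFinitePresentation f)
    (h : AlgSp.LocP P (f ≫ q)) : AlgSp.LocP P q := by
  intro U V a b hh ha hb hcomm
  obtain ⟨D⟩ := exists_chartData hY (fun _ : PUnit.{u + 1} => X) (fun _ => hX) (fun _ => f) a
  have hsnd : AlgSp.RepWith @Etale (pullback.snd a f) :=
    MorphismProperty.of_isPullback (P := AlgSp.RepWith @Etale)
      (IsPullback.of_hasPullback a f) ha
  have hai : AlgSp.RepWith @Etale (D.q PUnit.unit ≫ pullback.snd a f) :=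
    (AlgSp.RepWith @Etale).comp_mem _ _ (D.hqe _) hsnd
  have hci : (D.q PUnit.unit ≫ pullback.snd a f) ≫ f = (AlgSp.yon S).map (D.e PUnit.unit) ≫ a := by
    rw [D.he, Category.assoc, Category.assoc, pullback.condition]
  have h1 : Flat (D.e PUnit.unit).left := hfl _ a (D.e _) hai ha hci
  have h2 : LocallyOfFinitePresentation (D.e PUnit.unit).left := hfp _ a (D.e _) hai ha hci
  have h3 : Surjective (D.e PUnit.unit).left := ⟨fun x => by
    obtain ⟨i, hi⟩ := D.jointly_surjective (fun y => ⟨PUnit.unit, hs y⟩) x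
    exact hi⟩
  have hPe : P ((D.e PUnit.unit).left ≫ hh.left) := by
    have := h (D.q PUnit.unit ≫ pullback.snd a f) b (D.e PUnit.unit ≫ hh) hai hb
      (by rw [← Category.assoc, hci, Functor.map_comp, Category.assoc, Category.assoc, hcomm])
    rwa [Over.comp_left] at this
  exact hdesc _ _ h3 h1 h2 hPe

theorem locP_smooth_of_fppf_comp
    {X Y B : AlgSp.Sp S} (hX : AlgSp.IsAlgSpace X) (hY : AlgSp.IsAlgSpace Y)
    (f : X ⟶ Y) (q : Y ⟶ B)
    (hs : AlgSp.IsSurjectiveMor f) (hfl : AlgSp.LocP @Flat f)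
    (hfp : AlgSp.LocP @LocallyOfFinitePresentation f)
    (h : AlgSp.LocP @Smooth (f ≫ q)) : AlgSp.LocP @Smooth q :=
  locP_of_fppf_comp @Smooth
    (fun e h h1 h2 h3 h4 => by
      haveI := h1; haveI := h2; haveI := h3; haveI : Smooth (e ≫ h) := h4
      exact Groth.Agent.S0115.result e h)
    hX hY f q hs hfl hfp h

theorem isEtaleMor_of_fppf_comp
    {X Y B : AlgSp.Sp S} (hX : AlgSp.IsAlgSpace X) (hY : AlgSp.IsAlgSpace Y)
    (hB : AlgSp.IsAlgSpace B) (f : X ⟶ Y) (q : Y ⟶ B)
    (hs : AlgSp.IsSurjectiveMor f) (hfl : AlgSp.LocP @Flat f)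
    (hfp : AlgSp.LocP @LocallyOfFinitePresentation f)
    (h : AlgSp.IsEtaleMor (f ≫ q)) : AlgSp.IsEtaleMor q := by
  apply Groth.Agent.S10554.isEtaleMor_of_locP hB
  exact locP_of_fppf_comp @Etale
    (fun e h h1 h2 h3 h4 => by
      haveI := h1; haveI := h2; haveI := h3; haveI : Etale (e ≫ h) := h4
      exact etale_of_fppf_comp e h)
    hX hY f q hs hfl hfp (locP_etale_of_isEtaleMor (f ≫ q) h)

end Groth.Agent.Lib.H5bFppfComp
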