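import Mathlib
import Groth.Prelude.Def_Desc
import Groth.Prelude.Def_AlgSp
import Groth.Prelude.Def_AlgSpCov
import Groth.Agent.Lib.H5bFpqcBaseRep

/-!
# Affineness of an algebraic space descends along a faithfully flat affine base change (helper5)

`exists_affine_of_prod_affine`: over an affine base `S`, if `T' ⟶ S` is flat and surjective with `T'`
affine and the base change `X ⨯ h_{T'}` of an algebraic space `X` over `S` is an affine scheme, then
`X` is an affine scheme.
-/

set_option autoImplicit false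
set_option linter.unusedSectionVars false
set_option linter.style.haveILetI false
universe u

namespace Groth.Agent.Lib.H5bFpqcAffBC

open CategoryTheory CategoryTheory.Limits AlgebraicGeometry Desc AlgSp Opposite
open Groth.Agent.Lib.H5bSpDesc Groth.Agent.Lib.H5bFpqcBaseRep

theorem exists_affine_of_prod_affine {S : Scheme.{u}} (hS : IsAffine S) (T' : Over S)
    (hT' : IsAffine T'.left) [Flat T'.hom] [Surjective T'.hom] (X : AlgSp.Sp S)
    (hX : IsAlgSpace X) (W' : Over S) (hW' : IsAffine W'.left)
    (e : X ⨯ (yon S).obj T' ≅ (yon S).obj W') :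
    ∃ U : Over S, IsAffine U.left ∧ Nonempty (X ≅ (yon S).obj U) := by
  haveI := hS
  haveI := hT'
  haveI := hW'
  have hpt : IsTerminal ((yon S).obj (Over.mk (𝟙 S))) :=
    IsTerminal.isTerminalObj (yon S) _ Over.mkIdTerminal
  obtain ⟨pT, hpT⟩ : ∃ pT : T' ⟶ Over.mk (𝟙 S), pT = Over.mkIdTerminal.from T' := ⟨_, rfl⟩
  have hpTl : pT.left = T'.hom := by rw [hpT]; simp
  haveI : IsAffine (Over.mk (𝟙 S)).left := hS
  haveI : Flat pT.left := by rw [hpTl]; infer_instance
  haveI : Surjective pT.left := by rw [hpTl]; infer_instance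
  haveI : QuasiCompact pT.left := inferInstance
  have hright : IsPullback (prod.fst : X ⨯ (yon S).obj T' ⟶ X) prod.snd (hpt.from _)
      (hpt.from _) := IsPullback.of_is_product' (prodIsProd _ _) hpt
  obtain ⟨g', hg'⟩ := (yon S).map_surjective (e.inv ≫ prod.snd)
  have hyp : (yon S).map pT = hpt.from _ := hpt.hom_ext _ _
  have sq0 : IsPullback (e.inv ≫ prod.fst) ((yon S).map g') (hpt.from X) ((yon S).map pT) := by
    rw [hg', hyp]
    exact IsPullback.of_iso hright e (Iso.refl _) (Iso.refl _) (Iso.refl _) (by simp) (by simp)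
      (by simp) (by simp)
  haveI := Groth.Agent.Lib.Helper12.descendsAlong_isAffineHom.{u}
  obtain ⟨W₀, w₀, fst, hpb, hP⟩ := exists_rep_of_fpqcCover @IsAffineHom
    (effDesc_of_le_affine _ (fun _ _ _ h => h))
    (fun _ : PUnit.{u + 1} => (yon S).obj T') (fun _ => (yon S).map pT)
    (isFpqcCover_yon_map pT).2 (IsAlgSpace.yon_obj _) hX (hpt.from X)
    (fun _ => (yon S).obj W') (fun _ => (yon S).map g') (fun _ => e.inv ≫ prod.fst)
    (fun _ => sq0) (fun _ W hW l => by
      haveI := hW
      obtain ⟨l₀, rfl⟩ := (yon S).map_surjective l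
      refine ⟨pullback g' l₀, pullback.snd g' l₀, (yon S).map (pullback.fst g' l₀),
        (IsPullback.of_hasPullback g' l₀).map (yon S), ?_⟩
      have hg'a : IsAffineHom g'.left := inferInstance
      exact MorphismProperty.of_isPullback (P := @IsAffineHom)
        ((IsPullback.of_hasPullback g' l₀).map (Over.forget S)) hg'a)
    (Z := Over.mk (𝟙 S)) hS (𝟙 _)
  haveI := hP
  haveI : IsIso fst := MorphismProperty.of_isPullback
    (P := MorphismProperty.isomorphisms (AlgSp.Sp S)) hpb.flip
    (inferInstance : IsIso (𝟙 ((yon S).obj (Over.mk (𝟙 S)))))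
  exact ⟨W₀, isAffine_of_isAffineHom w₀.left, ⟨(asIso fst).symm⟩⟩

end Groth.Agent.Lib.H5bFpqcAffBC
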