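import Mathlib
import Groth.Prelude.Def_AlgSp
import Groth.Prelude.Def_AlgSp3

/-!
# Morphisms into a sheaf separated over a base: equalizers (helper5)

For `f : X ⟶ Y` separated (diagonal representable by closed immersions) and two maps
`l l' : h_Z ⟶ X` with the same image in `Y`, the locus where `l = l'` is a closed subscheme of `Z`
(`exists_eqLocus`).  Consequences: two such maps agree as soon as they agree after an fpqc base
change (`eq_of_comp_fpqc_eq`) or on a scheme whose map to an affine `Z` is injective on global
sections (`eq_of_comp_dense_eq`).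
-/

set_option autoImplicit false
set_option linter.style.haveILetI false
universe u

namespace Groth.Agent.Lib.H5bFpqcSec

open CategoryTheory CategoryTheory.Limits AlgebraicGeometry AlgSp

variable {S : Scheme.{u}}

/-- the equalizer locus of two maps into a sheaf separated over a base. -/
theorem exists_eqLocus {X Y : AlgSp.Sp S} (f : X ⟶ Y) (hf : AlgSp.IsSeparatedMor f) {Z : Over S}
    (l l' : (yon S).obj Z ⟶ X) (hc : l ≫ f = l' ≫ f) :
    ∃ (E : Over S) (w : E ⟶ Z), IsClosedImmersion w.left ∧
      (yon S).map w ≫ l = (yon S).map w ≫ l' ∧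
      ∀ ⦃Q : Over S⦄ (k : Q ⟶ Z), (yon S).map k ≫ l = (yon S).map k ≫ l' →
        ∃ k' : Q ⟶ E, k' ≫ w = k := by
  obtain ⟨E, w, pr, psq⟩ := hf.1 (pullback.lift l l' hc)
  have hw : IsClosedImmersion w.left := hf.2 _ _ w psq
  have e1 : pr = (yon S).map w ≫ l := by
    have := psq.w =≫ pullback.fst f f
    rwa [Category.assoc, pullback.diagonal_fst, Category.comp_id, Category.assoc,
      pullback.lift_fst] at this
  have e2 : pr = (yon S).map w ≫ l' := by
    have := psq.w =≫ pullback.snd f f
    rwa [Category.assoc, pullback.diagonal_snd, Category.comp_id, Category.assoc,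
      pullback.lift_snd] at this
  refine ⟨E, w, hw, e1.symm.trans e2, fun Q k hk => ?_⟩
  have hcond : ((yon S).map k ≫ l) ≫ pullback.diagonal f =
      (yon S).map k ≫ pullback.lift l l' hc := by
    apply pullback.hom_ext
    · rw [Category.assoc, pullback.diagonal_fst, Category.comp_id, Category.assoc,
        pullback.lift_fst]
    · rw [Category.assoc, pullback.diagonal_snd, Category.comp_id, Category.assoc,
        pullback.lift_snd, hk]
  obtain ⟨k', hk'⟩ := (yon S).map_surjective (psq.lift _ _ hcond)
  refine ⟨k', ?_⟩
  apply (yon S).map_injective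
  rw [Functor.map_comp, hk', psq.lift_snd]

/-- two maps into a sheaf separated over a base agree if they agree after an fpqc base change. -/
theorem eq_of_comp_fpqc_eq {X Y : AlgSp.Sp S} (f : X ⟶ Y) (hf : AlgSp.IsSeparatedMor f)
    {Z Z' : Over S} (π : Z' ⟶ Z) [Surjective π.left] [Flat π.left] [QuasiCompact π.left]
    (l l' : (yon S).obj Z ⟶ X) (hc : l ≫ f = l' ≫ f)
    (h : (yon S).map π ≫ l = (yon S).map π ≫ l') : l = l' := by
  obtain ⟨E, w, hw, hwl, huniv⟩ := exists_eqLocus f hf l l' hc
  obtain ⟨k', hk'⟩ := huniv π h
  haveI := hw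
  have hk'l : k'.left ≫ w.left = π.left := by rw [← Over.comp_left, hk']
  have hsec : pullback.lift (𝟙 Z'.left) k'.left (by rw [Category.id_comp, hk'l]) ≫
      pullback.fst π.left w.left = 𝟙 _ := pullback.lift_fst _ _ _
  haveI : IsSplitEpi (pullback.fst π.left w.left) := IsSplitEpi.mk' ⟨_, hsec⟩
  haveI : IsIso (pullback.fst π.left w.left) := isIso_of_mono_of_isSplitEpi _
  have hiso : MorphismProperty.isomorphisms Scheme.{u} w.left :=
    MorphismProperty.of_isPullback_of_descendsAlong
      (P := MorphismProperty.isomorphisms Scheme.{u}) (Q := @Surjective ⊓ @Flat ⊓ @QuasiCompact)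
      (IsPullback.of_hasPullback π.left w.left) ⟨⟨inferInstance, inferInstance⟩, inferInstance⟩
      (inferInstance : IsIso (pullback.fst π.left w.left))
  haveI : IsIso w.left := hiso
  haveI : IsIso ((Over.forget S).map w) := by
    show IsIso w.left
    infer_instance
  haveI : IsIso w := isIso_of_reflects_iso w (Over.forget S)
  rw [← cancel_epi ((yon S).map w)]
  exact hwl

/-- two maps from an affine scheme into a sheaf separated over a base agree if they agree on a
scheme whose map to the affine scheme is injective on global sections. -/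
theorem eq_of_comp_dense_eq {X Y : AlgSp.Sp S} (f : X ⟶ Y) (hf : AlgSp.IsSeparatedMor f)
    {Z Z₁ : Over S} [IsAffine Z.left] (d : Z₁ ⟶ Z) (hd : Function.Injective d.left.appTop)
    (l l' : (yon S).obj Z ⟶ X) (hc : l ≫ f = l' ≫ f)
    (h : (yon S).map d ≫ l = (yon S).map d ≫ l') : l = l' := by
  obtain ⟨E, w, hw, hwl, huniv⟩ := exists_eqLocus f hf l l' hc
  obtain ⟨k', hk'⟩ := huniv d h
  haveI := hw
  have hk'l : k'.left ≫ w.left = d.left := by rw [← Over.comp_left, hk']
  have hinj : Function.Injective w.left.appTop := by
    have h1 : d.left.appTop = w.left.appTop ≫ k'.left.appTop := by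
      rw [← hk'l, Scheme.Hom.comp_appTop]
    rw [h1] at hd
    exact Function.Injective.of_comp (f := k'.left.appTop) (by simpa using hd)
  haveI : IsIso w.left := IsClosedImmersion.isIso_of_injective_of_isAffine hinj
  haveI : IsIso ((Over.forget S).map w) := by
    show IsIso w.left
    infer_instance
  haveI : IsIso w := isIso_of_reflects_iso w (Over.forget S)
  rw [← cancel_epi ((yon S).map w)]
  exact hwl

end Groth.Agent.Lib.H5bFpqcSec
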