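import Mathlib
import Groth.Prelude.Def_Desc
import Groth.Prelude.Def_AlgSp

/-!
# The descent datum on `T' ×_W U` (helper5)

Setting: `pT : T' ⟶ T` in `Over S`, a sheaf `W`, a `T'`-point `lP` of `W` whose two pullbacks to
`T' ×_T T'` agree (`H1`), a chart `q₀ : h_U ⟶ W` and a scheme `V` representing `h_{T'} ×_W h_U`.
Then `V.left` over `T'.left` carries a descent datum relative to `pT.left` (`chartDD`): the gluing
bijections keep the `U`-component.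
-/

set_option autoImplicit false
set_option linter.unusedSectionVars false
set_option linter.style.haveILetI false
universe u

namespace Groth.Agent.Lib.H5bFpqcSec

open CategoryTheory CategoryTheory.Limits AlgebraicGeometry Desc AlgSp Opposite

variable {S : Scheme.{u}} {T T' U V : Over S} {pT : T' ⟶ T} {W : AlgSp.Sp S}
  {lP : (yon S).obj T' ⟶ W} {q₀ : (yon S).obj U ⟶ W} {gV : V ⟶ T'} {uV : V ⟶ U}
  (sqV : IsPullback ((yon S).map uV) ((yon S).map gV) q₀ lP)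
  (H1 : ∀ ⦃Z : Over S⦄ (x₀ x₁ : Z ⟶ T'), x₀ ≫ pT = x₁ ≫ pT →
    (yon S).map x₀ ≫ lP = (yon S).map x₁ ≫ lP)

include sqV H1 in
lemma tw_cond {Z : Over S} (t : Z ⟶ V) (x₁ : Z ⟶ T') (h : t ≫ gV ≫ pT = x₁ ≫ pT) :
    (yon S).map (t ≫ uV) ≫ q₀ = (yon S).map x₁ ≫ lP := by
  rw [Functor.map_comp, Category.assoc, sqV.w, ← Category.assoc, ← Functor.map_comp]
  exact H1 (t ≫ gV) x₁ (by rw [Category.assoc]; exact h)

/-- the twisted point. -/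
noncomputable def tw {Z : Over S} (t : Z ⟶ V) (x₁ : Z ⟶ T') (h : t ≫ gV ≫ pT = x₁ ≫ pT) :
    Z ⟶ V :=
  (yon S).preimage (sqV.lift ((yon S).map (t ≫ uV)) ((yon S).map x₁) (tw_cond sqV H1 t x₁ h))

lemma tw_gV {Z : Over S} (t : Z ⟶ V) (x₁ : Z ⟶ T') (h : t ≫ gV ≫ pT = x₁ ≫ pT) :
    tw sqV H1 t x₁ h ≫ gV = x₁ := by
  apply (yon S).map_injective
  rw [Functor.map_comp, tw, Functor.map_preimage, sqV.lift_snd]

lemma tw_uV {Z : Over S} (t : Z ⟶ V) (x₁ : Z ⟶ T') (h : t ≫ gV ≫ pT = x₁ ≫ pT) :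
    tw sqV H1 t x₁ h ≫ uV = t ≫ uV := by
  apply (yon S).map_injective
  rw [Functor.map_comp, tw, Functor.map_preimage, sqV.lift_fst]

include sqV in
lemma eq_of_gV_uV {Z : Over S} {t t' : Z ⟶ V} (h1 : t ≫ gV = t' ≫ gV) (h2 : t ≫ uV = t' ≫ uV) :
    t = t' := by
  apply (yon S).map_injective
  apply sqV.hom_ext
  · rw [← Functor.map_comp, ← Functor.map_comp, h2]
  · rw [← Functor.map_comp, ← Functor.map_comp, h1]

include sqV in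
lemma eq_of_gV_uV_left {Z : Scheme.{u}} {t t₁ : Z ⟶ V.left} (h1 : t ≫ gV.left = t₁ ≫ gV.left)
    (h2 : t ≫ uV.left = t₁ ≫ uV.left) : t = t₁ := by
  have ht : t₁ ≫ V.hom = t ≫ V.hom := by
    rw [← Over.w gV, ← Category.assoc, ← Category.assoc, h1]
  have := eq_of_gV_uV sqV (Z := Over.mk (t ≫ V.hom)) (t := Over.homMk t rfl)
    (t' := Over.homMk t₁ ht) (by ext; exact h1) (by ext; exact h2)
  exact congrArg (fun m => m.left) this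

/-- the twisted point, on schemes. -/
noncomputable def twL {Z : Scheme.{u}} (s : Z ⟶ S) (t : Z ⟶ V.left) (ht : t ≫ V.hom = s)
    (x₁ : Z ⟶ T'.left) (hx₁ : x₁ ≫ T'.hom = s) (h : t ≫ gV.left ≫ pT.left = x₁ ≫ pT.left) :
    Z ⟶ V.left :=
  (tw sqV H1 (Z := Over.mk s) (Over.homMk t ht) (Over.homMk x₁ hx₁) (by ext; exact h)).left

lemma twL_gV {Z : Scheme.{u}} (s : Z ⟶ S) (t : Z ⟶ V.left) (ht : t ≫ V.hom = s)
    (x₁ : Z ⟶ T'.left) (hx₁ : x₁ ≫ T'.hom = s) (h : t ≫ gV.left ≫ pT.left = x₁ ≫ pT.left) :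
    twL sqV H1 s t ht x₁ hx₁ h ≫ gV.left = x₁ :=
  congrArg (fun m => m.left)
    (tw_gV sqV H1 (Z := Over.mk s) (Over.homMk t ht) (Over.homMk x₁ hx₁) (by ext; exact h))

lemma twL_uV {Z : Scheme.{u}} (s : Z ⟶ S) (t : Z ⟶ V.left) (ht : t ≫ V.hom = s)
    (x₁ : Z ⟶ T'.left) (hx₁ : x₁ ≫ T'.hom = s) (h : t ≫ gV.left ≫ pT.left = x₁ ≫ pT.left) :
    twL sqV H1 s t ht x₁ hx₁ h ≫ uV.left = t ≫ uV.left :=
  congrArg (fun m => m.left)
    (tw_uV sqV H1 (Z := Over.mk s) (Over.homMk t ht) (Over.homMk x₁ hx₁) (by ext; exact h))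

lemma lifts_hom {Z : Scheme.{u}} {x₀ : Z ⟶ T'.left} (v : Lifts (Over.mk gV.left) x₀) :
    v.1 ≫ V.hom = x₀ ≫ T'.hom := by
  have : v.1 ≫ gV.left = x₀ := v.2
  calc v.1 ≫ V.hom = v.1 ≫ gV.left ≫ T'.hom := by rw [Over.w gV]
    _ = x₀ ≫ T'.hom := by rw [← Category.assoc, this]

lemma hom_eq_of_compat {Z : Scheme.{u}} {x₀ x₁ : Z ⟶ T'.left}
    (h : x₀ ≫ pT.left = x₁ ≫ pT.left) : x₁ ≫ T'.hom = x₀ ≫ T'.hom := by
  rw [← Over.w pT, ← Category.assoc, ← h, Category.assoc]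

lemma lifts_compat {Z : Scheme.{u}} {x₀ x₁ : Z ⟶ T'.left} (h : x₀ ≫ pT.left = x₁ ≫ pT.left)
    (v : Lifts (Over.mk gV.left) x₀) : v.1 ≫ gV.left ≫ pT.left = x₁ ≫ pT.left := by
  have : v.1 ≫ gV.left = x₀ := v.2
  rw [← Category.assoc, this, h]

/-- the gluing map. -/
noncomputable def chartMap {Z : Scheme.{u}} (x₀ x₁ : Z ⟶ T'.left)
    (h : x₀ ≫ pT.left = x₁ ≫ pT.left) (v : Lifts (Over.mk gV.left) x₀) :
    Lifts (Over.mk gV.left) x₁ :=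
  ⟨twL sqV H1 (x₀ ≫ T'.hom) v.1 (lifts_hom v) x₁ (hom_eq_of_compat h) (lifts_compat h v),
    twL_gV sqV H1 (x₀ ≫ T'.hom) v.1 (lifts_hom v) x₁ (hom_eq_of_compat h) (lifts_compat h v)⟩

lemma chartMap_uV {Z : Scheme.{u}} (x₀ x₁ : Z ⟶ T'.left)
    (h : x₀ ≫ pT.left = x₁ ≫ pT.left) (v : Lifts (Over.mk gV.left) x₀) :
    (chartMap sqV H1 x₀ x₁ h v).1 ≫ uV.left = v.1 ≫ uV.left :=
  twL_uV sqV H1 (x₀ ≫ T'.hom) v.1 (lifts_hom v) x₁ (hom_eq_of_compat h) (lifts_compat h v)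

lemma chartMap_unique {Z : Scheme.{u}} (x₀ x₁ : Z ⟶ T'.left)
    (h : x₀ ≫ pT.left = x₁ ≫ pT.left) (v : Lifts (Over.mk gV.left) x₀)
    (w : Lifts (Over.mk gV.left) x₁) (hw : w.1 ≫ uV.left = v.1 ≫ uV.left) :
    w = chartMap sqV H1 x₀ x₁ h v := by
  apply Subtype.ext
  refine eq_of_gV_uV_left sqV ?_ ?_
  · exact w.2.trans (chartMap sqV H1 x₀ x₁ h v).2.symm
  · rw [hw, chartMap_uV]

lemma chartMap_natural {Z Z' : Scheme.{u}} (k : Z' ⟶ Z) (x₀ x₁ : Z ⟶ T'.left)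
    (h : x₀ ≫ pT.left = x₁ ≫ pT.left) (h' : (k ≫ x₀) ≫ pT.left = (k ≫ x₁) ≫ pT.left)
    (v : Lifts (Over.mk gV.left) x₀) (v' : Lifts (Over.mk gV.left) (k ≫ x₀))
    (hv' : v'.1 = k ≫ v.1) :
    (chartMap sqV H1 (k ≫ x₀) (k ≫ x₁) h' v').1 = k ≫ (chartMap sqV H1 x₀ x₁ h v).1 := by
  have hw : (k ≫ (chartMap sqV H1 x₀ x₁ h v).1) ≫ gV.left = k ≫ x₁ := by
    rw [Category.assoc]
    exact congrArg (fun m => k ≫ m) (chartMap sqV H1 x₀ x₁ h v).2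
  have := chartMap_unique sqV H1 (k ≫ x₀) (k ≫ x₁) h' v'
    ⟨k ≫ (chartMap sqV H1 x₀ x₁ h v).1, hw⟩
    (by
      show (k ≫ (chartMap sqV H1 x₀ x₁ h v).1) ≫ uV.left = v'.1 ≫ uV.left
      rw [Category.assoc, chartMap_uV, hv', Category.assoc])
  exact (congrArg Subtype.val this).symm

/-- the descent datum on `V = T' ×_W U`. -/
noncomputable def chartDD : SchDD pT.left where
  obj := Over.mk gV.left
  φ _ x₀ x₁ h :=
    { toFun := chartMap sqV H1 x₀ x₁ h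
      invFun := chartMap sqV H1 x₁ x₀ h.symm
      left_inv := fun v => (chartMap_unique sqV H1 x₁ x₀ h.symm _ v
        (chartMap_uV sqV H1 x₀ x₁ h v).symm).symm
      right_inv := fun v => (chartMap_unique sqV H1 x₀ x₁ h _ v
        (chartMap_uV sqV H1 x₁ x₀ h.symm v).symm).symm }
  φ_natural _ _ k x₀ x₁ h h' v v' hv' := chartMap_natural sqV H1 k x₀ x₁ h h' v v' hv'
  φ_self _ x v := (chartMap_unique sqV H1 x x rfl v v rfl).symm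
  φ_comp _ x₀ x₁ x₂ h₀₁ h₁₂ v :=
    chartMap_unique sqV H1 x₀ x₂ (h₀₁.trans h₁₂) v _
      ((chartMap_uV sqV H1 x₁ x₂ h₁₂ _).trans (chartMap_uV sqV H1 x₀ x₁ h₀₁ v))

lemma chartDD_obj : (chartDD sqV H1).obj = Over.mk gV.left := rfl

lemma chartDD_φ_uV {Z : Scheme.{u}} (x₀ x₁ : Z ⟶ T'.left)
    (h : x₀ ≫ pT.left = x₁ ≫ pT.left) (v : Lifts (chartDD sqV H1).obj x₀) :
    ((chartDD sqV H1).φ x₀ x₁ h v).1 ≫ uV.left = v.1 ≫ uV.left :=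
  chartMap_uV sqV H1 x₀ x₁ h v

end Groth.Agent.Lib.H5bFpqcSec
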