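import Mathlib
import Groth.Prelude.Def_Desc
import Groth.Prelude.Def_AlgSp
import Groth.Prelude.Def_AlgSp3
import Groth.Agent.S1133
import Groth.Agent.Lib.H5bDDGenA
import Groth.Agent.Lib.H5bJointEpi
import Groth.Agent.Lib.H5bQuotOpen
import Groth.Agent.Lib.H5bFpqcSecA
import Groth.Agent.Lib.H5bFpqcSecB

/-!
# Descending a point of a separated sheaf along an fpqc covering (helper5)

`exists_section_of_fpqc`: let `pT : T' ⟶ T` be flat, surjective and quasi-compact, `pr : W ⟶ h_T`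
separated, `lP` a `T'`-point of `W` over `pT` whose two pullbacks to `T' ×_T T'` agree, and suppose
there is a chart `q₀ : h_U ⟶ W` such that `V = T' ×_W U` is a scheme, affine, étale and surjective
over `T'`.  Then `lP` descends to a section of `pr`.
-/

set_option autoImplicit false
set_option linter.unusedSectionVars false
set_option linter.style.haveILetI false
universe u

namespace Groth.Agent.Lib.H5bFpqcSec

open CategoryTheory CategoryTheory.Limits AlgebraicGeometry Desc AlgSp Opposite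
open Groth.Agent.Lib.H5bDDGen

variable {S : Scheme.{u}} {T T' U V : Over S} {pT : T' ⟶ T} {W : AlgSp.Sp S}
  {lP : (yon S).obj T' ⟶ W} {q₀ : (yon S).obj U ⟶ W} {gV : V ⟶ T'} {uV : V ⟶ U}
  (sqV : IsPullback ((yon S).map uV) ((yon S).map gV) q₀ lP)
  (H1 : ∀ ⦃Z : Over S⦄ (x₀ x₁ : Z ⟶ T'), x₀ ≫ pT = x₁ ≫ pT →
    (yon S).map x₀ ≫ lP = (yon S).map x₁ ≫ lP)
  (P₀ : Over T.left) (e : (toDD pT.left).obj P₀ ≅ chartDD sqV H1)

/-- the map `T' ×_T P₀ ⟶ V`. -/
noncomputable def el : pullback pT.left P₀.hom ⟶ V.left := e.hom.hom.left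

/-- its inverse. -/
noncomputable def eli : V.left ⟶ pullback pT.left P₀.hom := e.inv.hom.left

lemma el_gV : el sqV H1 P₀ e ≫ gV.left = pullback.fst pT.left P₀.hom := Over.w e.hom.hom

lemma eli_fst : eli sqV H1 P₀ e ≫ pullback.fst pT.left P₀.hom = gV.left := Over.w e.inv.hom

lemma el_eli : el sqV H1 P₀ e ≫ eli sqV H1 P₀ e = 𝟙 _ :=
  congrArg (fun m => m.hom.left) e.hom_inv_id

lemma eli_el : eli sqV H1 P₀ e ≫ el sqV H1 P₀ e = 𝟙 _ :=
  congrArg (fun m => m.hom.left) e.inv_hom_id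

/-- the map `T' ×_T P₀ ⟶ U` is constant along the fibres of the projection to `P₀`. -/
lemma el_uV_cond {Q : Scheme.{u}} (g₁ g₂ : Q ⟶ pullback pT.left P₀.hom)
    (h : g₁ ≫ pullback.snd pT.left P₀.hom = g₂ ≫ pullback.snd pT.left P₀.hom) :
    g₁ ≫ el sqV H1 P₀ e ≫ uV.left = g₂ ≫ el sqV H1 P₀ e ≫ uV.left := by
  have hx : (g₁ ≫ pullback.fst pT.left P₀.hom) ≫ pT.left =
      (g₂ ≫ pullback.fst pT.left P₀.hom) ≫ pT.left := by
    rw [Category.assoc, Category.assoc, pullback.condition, ← Category.assoc, ← Category.assoc, h]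
  let v : Lifts ((toDD pT.left).obj P₀).obj (g₁ ≫ pullback.fst pT.left P₀.hom) := ⟨g₁, rfl⟩
  have hw : (g₁ ≫ el sqV H1 P₀ e) ≫ gV.left = g₁ ≫ pullback.fst pT.left P₀.hom := by
    rw [Category.assoc, el_gV]
  let w : Lifts (chartDD sqV H1).obj (g₁ ≫ pullback.fst pT.left P₀.hom) :=
    ⟨g₁ ≫ el sqV H1 P₀ e, hw⟩
  have hcomm := e.hom.comm (g₁ ≫ pullback.fst pT.left P₀.hom)
    (g₂ ≫ pullback.fst pT.left P₀.hom) hx v w rfl
  have hcan : (((toDD pT.left).obj P₀).φ (g₁ ≫ pullback.fst pT.left P₀.hom)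
      (g₂ ≫ pullback.fst pT.left P₀.hom) hx v).1 = g₂ := by
    change pullback.lift (g₂ ≫ pullback.fst pT.left P₀.hom)
      (g₁ ≫ pullback.snd pT.left P₀.hom) _ = g₂
    apply pullback.hom_ext
    · rw [pullback.lift_fst]
    · rw [pullback.lift_snd, h]
  have hu := chartDD_φ_uV sqV H1 (g₁ ≫ pullback.fst pT.left P₀.hom)
    (g₂ ≫ pullback.fst pT.left P₀.hom) hx w
  rw [hcomm, hcan] at hu
  change (g₂ ≫ e.hom.hom.left) ≫ uV.left = (g₁ ≫ el sqV H1 P₀ e) ≫ uV.left at hu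
  simp only [Category.assoc] at hu
  exact hu.symm

section fpqc

variable [Surjective pT.left] [Flat pT.left] [QuasiCompact pT.left]

lemma effectiveEpi_snd : EffectiveEpi (pullback.snd pT.left P₀.hom) :=
  (uGood_of_fpqc (pullback.snd pT.left P₀.hom)).effectiveEpi

/-- the descended morphism `P₀ ⟶ U`. -/
noncomputable def m₀ : P₀.left ⟶ U.left :=
  haveI := effectiveEpi_snd (pT := pT) P₀
  EffectiveEpi.desc (pullback.snd pT.left P₀.hom) (el sqV H1 P₀ e ≫ uV.left)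
    (fun g₁ g₂ h => el_uV_cond sqV H1 P₀ e g₁ g₂ h)

lemma snd_m₀ : pullback.snd pT.left P₀.hom ≫ m₀ sqV H1 P₀ e = el sqV H1 P₀ e ≫ uV.left := by
  haveI := effectiveEpi_snd (pT := pT) P₀
  exact EffectiveEpi.fac _ _ _

variable {pr : W ⟶ (yon S).obj T} (hlP : lP ≫ pr = (yon S).map pT) {c₀ : U ⟶ T}
  (hc₀ : (yon S).map c₀ = q₀ ≫ pr)

include sqV hlP hc₀ in
lemma uV_c₀ : uV ≫ c₀ = gV ≫ pT := by
  apply (yon S).map_injective
  rw [Functor.map_comp, Functor.map_comp, hc₀, ← Category.assoc, sqV.w, Category.assoc, hlP]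

include hlP hc₀ in
lemma m₀_c₀ : m₀ sqV H1 P₀ e ≫ c₀.left = P₀.hom := by
  haveI := effectiveEpi_snd (pT := pT) P₀
  haveI : Epi (pullback.snd pT.left P₀.hom) := inferInstance
  rw [← cancel_epi (pullback.snd pT.left P₀.hom), ← Category.assoc, snd_m₀, Category.assoc,
    ← Over.comp_left, uV_c₀ sqV hlP hc₀, Over.comp_left, ← Category.assoc, el_gV,
    pullback.condition]

/-- the descended scheme, over `S`. -/
noncomputable def Pd : Over S := Over.mk (P₀.hom ≫ T.hom)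

/-- its structure morphism to `T`. -/
noncomputable def pP : Pd P₀ ⟶ T := Over.homMk P₀.hom rfl

/-- `T' ×_T P`, over `S`. -/
noncomputable def PPd : Over S := Over.mk (pullback.snd pT.left P₀.hom ≫ P₀.hom ≫ T.hom)

/-- the projection `T' ×_T P ⟶ P`. -/
noncomputable def πP : PPd (pT := pT) P₀ ⟶ Pd P₀ := Over.homMk (pullback.snd pT.left P₀.hom) rfl

/-- the projection `T' ×_T P ⟶ T'`. -/
noncomputable def fP : PPd (pT := pT) P₀ ⟶ T' :=
  Over.homMk (pullback.fst pT.left P₀.hom) (by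
    change pullback.fst pT.left P₀.hom ≫ T'.hom = pullback.snd pT.left P₀.hom ≫ P₀.hom ≫ T.hom
    rw [← Over.w pT, ← Category.assoc, pullback.condition, Category.assoc])

lemma isPullback_PPd : IsPullback (fP (pT := pT) P₀) (πP (pT := pT) P₀) pT (pP P₀) := by
  have hw : fP (pT := pT) P₀ ≫ pT = πP (pT := pT) P₀ ≫ pP P₀ := by
    ext
    exact pullback.condition
  exact IsPullback.of_map (Over.forget S) hw (IsPullback.of_hasPullback pT.left P₀.hom)

include hlP hc₀ in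
/-- the morphism `P ⟶ U` over `S`. -/
lemma exists_mP : ∃ m : Pd P₀ ⟶ U, m.left = m₀ sqV H1 P₀ e ∧ m ≫ c₀ = pP P₀ := by
  have h1 : m₀ sqV H1 P₀ e ≫ U.hom = (Pd P₀).hom := by
    change m₀ sqV H1 P₀ e ≫ U.hom = P₀.hom ≫ T.hom
    rw [← m₀_c₀ sqV H1 P₀ e hlP hc₀, ← Over.w c₀, Category.assoc]
  refine ⟨Over.homMk (m₀ sqV H1 P₀ e) h1, rfl, ?_⟩
  ext
  exact m₀_c₀ sqV H1 P₀ e hlP hc₀

lemma el_hom : el sqV H1 P₀ e ≫ V.hom = (PPd (pT := pT) P₀).hom := by
  change el sqV H1 P₀ e ≫ V.hom = pullback.snd pT.left P₀.hom ≫ P₀.hom ≫ T.hom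
  rw [← Over.w gV, ← Category.assoc, el_gV, ← Over.w pT, ← Category.assoc, pullback.condition,
    Category.assoc]

/-- `el` over `S`. -/
noncomputable def εd : PPd (pT := pT) P₀ ⟶ V := Over.homMk (el sqV H1 P₀ e) (el_hom sqV H1 P₀ e)

lemma eli_hom : eli sqV H1 P₀ e ≫ (PPd (pT := pT) P₀).hom = V.hom := by
  rw [← el_hom sqV H1 P₀ e, ← Category.assoc, eli_el, Category.id_comp]

/-- `eli` over `S`. -/
noncomputable def εdi : V ⟶ PPd (pT := pT) P₀ :=
  Over.homMk (eli sqV H1 P₀ e) (eli_hom sqV H1 P₀ e)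

lemma εd_gV : εd sqV H1 P₀ e ≫ gV = fP (pT := pT) P₀ := by
  ext
  exact el_gV sqV H1 P₀ e

lemma εdi_fP : εdi sqV H1 P₀ e ≫ fP (pT := pT) P₀ = gV := by
  ext
  exact eli_fst sqV H1 P₀ e

/-- the key compatibility: on `T' ×_T P` the chart point and the given point agree. -/
lemma key_compat (m : Pd P₀ ⟶ U) (hm : m.left = m₀ sqV H1 P₀ e) :
    (yon S).map (πP (pT := pT) P₀) ≫ (yon S).map m ≫ q₀ =
      (yon S).map (fP (pT := pT) P₀) ≫ lP := by
  have h1 : πP (pT := pT) P₀ ≫ m = εd sqV H1 P₀ e ≫ uV := by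
    ext
    change pullback.snd pT.left P₀.hom ≫ m.left = el sqV H1 P₀ e ≫ uV.left
    rw [hm, snd_m₀]
  rw [← Category.assoc, ← Functor.map_comp, h1, Functor.map_comp, Category.assoc, sqV.w,
    ← Category.assoc, ← Functor.map_comp, εd_gV]

include e in
lemma etale_P₀ [Etale gV.left] : Etale P₀.hom := by
  haveI : IsIso (el sqV H1 P₀ e) := ⟨eli sqV H1 P₀ e, el_eli sqV H1 P₀ e, eli_el sqV H1 P₀ e⟩
  have h1 : Etale (pullback.fst pT.left P₀.hom) := by
    rw [← el_gV sqV H1 P₀ e]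
    infer_instance
  exact MorphismProperty.of_isPullback_of_descendsAlong (P := @Etale)
    (Q := @Surjective ⊓ @Flat ⊓ @QuasiCompact) (IsPullback.of_hasPullback pT.left P₀.hom)
    ⟨⟨inferInstance, inferInstance⟩, inferInstance⟩ h1

include e in
lemma surjective_P₀ [Surjective gV.left] : Surjective P₀.hom := by
  haveI : IsIso (el sqV H1 P₀ e) := ⟨eli sqV H1 P₀ e, el_eli sqV H1 P₀ e, eli_el sqV H1 P₀ e⟩
  have h1 : Surjective (pullback.fst pT.left P₀.hom) := by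
    rw [← el_gV sqV H1 P₀ e]
    infer_instance
  exact MorphismProperty.of_isPullback_of_descendsAlong (P := @Surjective)
    (Q := @Surjective ⊓ @Flat ⊓ @QuasiCompact) (IsPullback.of_hasPullback pT.left P₀.hom)
    ⟨⟨inferInstance, inferInstance⟩, inferInstance⟩ h1

end fpqc

end Groth.Agent.Lib.H5bFpqcSec
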