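import Mathlib
import Groth.Prelude.Def_Desc
import Groth.Prelude.Def_AlgSp
import Groth.Prelude.Def_AlgSp3
import Groth.Agent.Lib.H5bFpqcSecC

/-!
# Descending a point of a separated sheaf along an fpqc covering, II (helper5)

`exists_section_of_fpqc`: the main theorem (see `H5bFpqcSecC`).
-/

set_option autoImplicit false
set_option linter.unusedSectionVars false
set_option linter.style.haveILetI false
universe u

namespace Groth.Agent.Lib.H5bFpqcSec

open CategoryTheory CategoryTheory.Limits AlgebraicGeometry Desc AlgSp Opposite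
open Groth.Agent.Lib.H5bDDGen

variable {S : Scheme.{u}} {T T' U V : Over S} {pT : T' ⟶ T} {W : AlgSp.Sp S}
  {lP : (yon S).obj T' ⟶ W} {q₀ : (yon S).obj U ⟶ W} {gV : V ⟶ T'} {uV : V ⟶ U}
  (sqV : IsPullback ((yon S).map uV) ((yon S).map gV) q₀ lP)
  (H1 : ∀ ⦃Z : Over S⦄ (x₀ x₁ : Z ⟶ T'), x₀ ≫ pT = x₁ ≫ pT →
    (yon S).map x₀ ≫ lP = (yon S).map x₁ ≫ lP)
  (P₀ : Over T.left) (e : (toDD pT.left).obj P₀ ≅ chartDD sqV H1)
  [Surjective pT.left] [Flat pT.left] [QuasiCompact pT.left]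
  {pr : W ⟶ (yon S).obj T} (hsep : AlgSp.IsSeparatedMor pr)
  (hlP : lP ≫ pr = (yon S).map pT) {c₀ : U ⟶ T} (hc₀ : (yon S).map c₀ = q₀ ≫ pr)

include hsep hc₀ in
/-- the chart point of `P` coequalizes the kernel pair of `P ⟶ T`. -/
lemma coeq_cond (m : Pd P₀ ⟶ U) (hm : m.left = m₀ sqV H1 P₀ e) (hmc : m ≫ c₀ = pP P₀)
    {Z : Over S} (a b : Z ⟶ Pd P₀) (hab : a ≫ pP P₀ = b ≫ pP P₀) :
    (yon S).map a ≫ (yon S).map m ≫ q₀ = (yon S).map b ≫ (yon S).map m ≫ q₀ := by
  obtain ⟨z, hz⟩ : ∃ z : Z ⟶ T, z = a ≫ pP P₀ := ⟨_, rfl⟩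
  have hsq : IsPullback (pullback.fst z pT).left (pullback.snd z pT).left z.left pT.left :=
    (IsPullback.of_hasPullback z pT).map (Over.forget S)
  haveI : Surjective (pullback.fst z pT).left :=
    MorphismProperty.of_isPullback (P := @Surjective) hsq.flip inferInstance
  haveI : Flat (pullback.fst z pT).left :=
    MorphismProperty.of_isPullback (P := @Flat) hsq.flip inferInstance
  haveI : QuasiCompact (pullback.fst z pT).left :=
    MorphismProperty.of_isPullback (P := @QuasiCompact) hsq.flip inferInstance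
  refine eq_of_comp_fpqc_eq pr hsep (pullback.fst z pT) _ _ ?_ ?_
  · have hk : ∀ k : Z ⟶ Pd P₀, ((yon S).map k ≫ (yon S).map m ≫ q₀) ≫ pr =
        (yon S).map (k ≫ pP P₀) := by
      intro k
      rw [Category.assoc, Category.assoc, ← hc₀, ← Functor.map_comp, ← Functor.map_comp, hmc]
    rw [hk a, hk b, hab]
  · have ha' : pullback.snd z pT ≫ pT = (pullback.fst z pT ≫ a) ≫ pP P₀ := by
      rw [Category.assoc, ← hz]
      exact pullback.condition.symm
    have hb' : pullback.snd z pT ≫ pT = (pullback.fst z pT ≫ b) ≫ pP P₀ := by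
      rw [Category.assoc, ← hab, ← hz]
      exact pullback.condition.symm
    have e1 : (yon S).map (pullback.fst z pT) ≫ (yon S).map a ≫ (yon S).map m ≫ q₀ =
        (yon S).map (pullback.snd z pT) ≫ lP := by
      rw [← Category.assoc, ← Functor.map_comp, ← (isPullback_PPd (pT := pT) P₀).lift_snd _ _ ha',
        Functor.map_comp, Category.assoc, key_compat sqV H1 P₀ e m hm, ← Category.assoc,
        ← Functor.map_comp, (isPullback_PPd (pT := pT) P₀).lift_fst]
    have e2 : (yon S).map (pullback.fst z pT) ≫ (yon S).map b ≫ (yon S).map m ≫ q₀ =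
        (yon S).map (pullback.snd z pT) ≫ lP := by
      rw [← Category.assoc, ← Functor.map_comp, ← (isPullback_PPd (pT := pT) P₀).lift_snd _ _ hb',
        Functor.map_comp, Category.assoc, key_compat sqV H1 P₀ e m hm, ← Category.assoc,
        ← Functor.map_comp, (isPullback_PPd (pT := pT) P₀).lift_fst]
    rw [e1, e2]

include e hsep hlP hc₀ in
/-- the section, given an effective descent datum. -/
theorem exists_section_of_iso [Etale gV.left] [Surjective gV.left] :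
    ∃ σ : (yon S).obj T ⟶ W, σ ≫ pr = 𝟙 _ ∧ (yon S).map pT ≫ σ = lP := by
  obtain ⟨m, hm, hmc⟩ := exists_mP sqV H1 P₀ e hlP hc₀
  haveI : Etale (pP P₀).left := etale_P₀ sqV H1 P₀ e
  haveI : Surjective (pP P₀).left := surjective_P₀ sqV H1 P₀ e
  haveI : Epi ((yon S).map (pP P₀)) := Groth.Agent.Lib.H5bQuotOpen.epi_yon_map (pP P₀)
  haveI : EffectiveEpi ((yon S).map (pP P₀)) :=
    (isRegularEpi_iff_effectiveEpi _).1 (IsRegularEpiCategory.regularEpiOfEpi _)
  have hcond : ∀ {H : AlgSp.Sp S} (g₁ g₂ : H ⟶ (yon S).obj (Pd P₀)),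
      g₁ ≫ (yon S).map (pP P₀) = g₂ ≫ (yon S).map (pP P₀) →
        g₁ ≫ (yon S).map m ≫ q₀ = g₂ ≫ (yon S).map m ≫ q₀ := by
    intro H g₁ g₂ h
    apply Groth.Agent.Lib.H5bJointEpi.hom_ext_yon
    intro Z x
    obtain ⟨a, ha⟩ := (yon S).map_surjective (x ≫ g₁)
    obtain ⟨b, hb⟩ := (yon S).map_surjective (x ≫ g₂)
    have hab : a ≫ pP P₀ = b ≫ pP P₀ := by
      apply (yon S).map_injective
      rw [Functor.map_comp, Functor.map_comp, ha, hb, Category.assoc, Category.assoc, h]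
    have := coeq_cond sqV H1 P₀ e hsep hc₀ m hm hmc a b hab
    rw [ha, hb, Category.assoc, Category.assoc] at this
    exact this
  obtain ⟨σ, hσ⟩ : ∃ σ : (yon S).obj T ⟶ W, (yon S).map (pP P₀) ≫ σ = (yon S).map m ≫ q₀ :=
    ⟨EffectiveEpi.desc ((yon S).map (pP P₀)) ((yon S).map m ≫ q₀) (fun g₁ g₂ h => hcond g₁ g₂ h),
      EffectiveEpi.fac _ _ _⟩
  refine ⟨σ, ?_, ?_⟩
  · rw [← cancel_epi ((yon S).map (pP P₀)), ← Category.assoc, hσ, Category.assoc, ← hc₀,
      ← Functor.map_comp, hmc, Category.comp_id]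
  · haveI : Epi ((yon S).map gV) := Groth.Agent.Lib.H5bQuotOpen.epi_yon_map gV
    rw [← cancel_epi ((yon S).map gV)]
    have h1 : gV ≫ pT = εdi sqV H1 P₀ e ≫ πP (pT := pT) P₀ ≫ pP P₀ := by
      rw [← (isPullback_PPd (pT := pT) P₀).w, ← Category.assoc, εdi_fP]
    rw [← Category.assoc, ← Functor.map_comp, h1, Functor.map_comp, Functor.map_comp,
      Category.assoc, Category.assoc, hσ, key_compat sqV H1 P₀ e m hm, ← Category.assoc,
      ← Functor.map_comp, εdi_fP]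

end Groth.Agent.Lib.H5bFpqcSec

namespace Groth.Agent.Lib.H5bFpqcSec

open CategoryTheory CategoryTheory.Limits AlgebraicGeometry Desc AlgSp Opposite

/-- **Descent of a point of a separated sheaf along an fpqc covering.** -/
theorem exists_section_of_fpqc {S : Scheme.{u}} {T T' U V : Over S} (pT : T' ⟶ T)
    [Surjective pT.left] [Flat pT.left] [QuasiCompact pT.left]
    {W : AlgSp.Sp S} (pr : W ⟶ (yon S).obj T) (hsep : AlgSp.IsSeparatedMor pr)
    (lP : (yon S).obj T' ⟶ W) (hlP : lP ≫ pr = (yon S).map pT)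
    (q₀ : (yon S).obj U ⟶ W) (gV : V ⟶ T') (uV : V ⟶ U)
    (sqV : IsPullback ((yon S).map uV) ((yon S).map gV) q₀ lP)
    [IsAffineHom gV.left] [Etale gV.left] [Surjective gV.left]
    (H1 : ∀ ⦃Z : Over S⦄ (x₀ x₁ : Z ⟶ T'), x₀ ≫ pT = x₁ ≫ pT →
      (yon S).map x₀ ≫ lP = (yon S).map x₁ ≫ lP) :
    ∃ σ : (yon S).obj T ⟶ W, σ ≫ pr = 𝟙 _ ∧ (yon S).map pT ≫ σ = lP := by
  obtain ⟨c₀, hc₀⟩ := (yon S).map_surjective (q₀ ≫ pr)
  haveI : IsAffineHom (chartDD sqV H1).obj.hom := inferInstanceAs (IsAffineHom gV.left)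
  obtain ⟨P₀, ⟨e⟩⟩ := Groth.Agent.S1133.result pT.left (chartDD sqV H1)
  exact exists_section_of_iso sqV H1 P₀ e hsep hlP hc₀

end Groth.Agent.Lib.H5bFpqcSec
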