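import Groth.Agent.Lib.H5bDehom
import Groth.Agent.S11267

/-!
# Division by the corner minor in the determinantal ring (helper5)

If `F(UW) = δ(UW) · h(U, W)` for the "top" Plücker coordinate `δ` of the determinantal Schubert
variety, then `h` is a polynomial in the entries of `UW`.
-/

set_option autoImplicit false

universe u

noncomputable section

open MvPolynomial W4bk4grassmannian

namespace Groth.Agent.Lib.H5b

section Normalize

variable (K : Type u) [Field K] (d r : ℕ)

/-- normalization of a matrix with invertible top block to the big cell -/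
theorem exists_cellPt_of_det_ne_zero (hr : 0 < r) (A : Matrix (Fin (d + r)) (Fin d) K)
    (hδ : (A.submatrix (cellBot d hr).1 id).det ≠ 0) :
    ∃ Z₀ : Matrix (Fin r) (Fin d) K, ∀ a : Fin d → Fin (d + r),
      ((cellPt K d r Z₀).submatrix a id).det =
        (A.submatrix a id).det * ((A.submatrix (cellBot d hr).1 id).det)⁻¹ := by
  classical
  set ι := cellBot d hr with hι
  set g : Matrix (Fin d) (Fin d) K := A.submatrix ι.1 id with hg
  have hu : IsUnit g.det := isUnit_iff_ne_zero.mpr hδ
  let A' : Matrix (Fin (d + r)) (Fin d) K := Matrix.of fun i k => ∑ l, A i l * g⁻¹ l k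
  have hsub : ∀ a : Fin d → Fin (d + r), A'.submatrix a id = A.submatrix a id * g⁻¹ := by
    intro a
    ext j k
    simp [A', Matrix.mul_apply]
  have h1 : A'.submatrix ι.1 id = 1 := by
    rw [hsub]
    exact Matrix.mul_nonsing_inv g hu
  have h2 : ∀ a : Fin d → Fin (d + r),
      (A'.submatrix a id).det = (A.submatrix a id).det * g.det⁻¹ := by
    intro a
    rw [hsub, Matrix.det_mul, Matrix.det_nonsing_inv, Ring.inverse_eq_inv']
  let Z₀ : Matrix (Fin r) (Fin d) K := Matrix.of fun i k => A' (Fin.natAdd d i) k
  have hA' : A' = cellPt K d r Z₀ := by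
    ext i k
    simp only [cellPt, Matrix.of_apply]
    by_cases hi : i.val < d
    · rw [dif_pos hi]
      have e := congrFun (congrFun h1 ⟨i.val, hi⟩) k
      simp only [Matrix.submatrix_apply, id_eq, Matrix.one_apply] at e
      have hιi : ι.1 ⟨i.val, hi⟩ = i := Fin.ext rfl
      rw [hιi] at e
      rw [e]
      by_cases hik : i.val = k.val
      · rw [if_pos hik, if_pos (Fin.ext hik)]
      · rw [if_neg hik, if_neg]
        intro h
        exact hik (congrArg Fin.val h)
    · rw [dif_neg hi]
      simp only [Z₀, Matrix.of_apply]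
      congr 1
      apply Fin.ext
      simp only [Fin.natAdd]
      omega
  refine ⟨Z₀, fun a => ?_⟩
  rw [← hA', h2]

theorem evalMinors_eq_pow_mul_eval_cellMap (hr : 0 < r) (A : Matrix (Fin (d + r)) (Fin d) K)
    (Z₀ : Matrix (Fin r) (Fin d) K)
    (hZ : ∀ a : Fin d → Fin (d + r), ((cellPt K d r Z₀).submatrix a id).det =
        (A.submatrix a id).det * ((A.submatrix (cellBot d hr).1 id).det)⁻¹)
    (hδ : (A.submatrix (cellBot d hr).1 id).det ≠ 0)
    (Fh : PlRing K d (d + r)) (D : ℕ) (hhom : Fh.IsHomogeneous D) :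
    evalMinors K d (d + r) A Fh = (A.submatrix (cellBot d hr).1 id).det ^ D *
      MvPolynomial.eval (fun p : Fin r × Fin d => Z₀ p.1 p.2) (cellMap K d r Fh) := by
  have e1 : ∀ B : Matrix (Fin (d + r)) (Fin d) K, evalMinors K d (d + r) B Fh =
      MvPolynomial.eval (fun θ : Idx d (d + r) => (B.submatrix θ.1 id).det) Fh := by
    intro B
    unfold evalMinors
    rw [← MvPolynomial.coe_aeval_eq_eval]
    rfl
  rw [eval_cellMap, e1, e1, ← eval_mul_of_isHomogeneous Fh _ hhom]
  congr 2
  funext θ
  rw [hZ, mul_comm, mul_assoc, inv_mul_cancel₀ hδ, mul_one]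

end Normalize

section Dagger

variable (K : Type u) [Field K] [IsAlgClosed K] (d r n : ℕ) (hn : 0 < n) (hnd : n + 1 ≤ d)
  (hnr : n + 1 ≤ r)

/-- the Plücker coordinate of `φ_{n+1}` on the cell: up to sign, the corner `n`-minor -/
def cornerPl : CellRing K d r := cellMinor K d r (detIdx (n + 1) (Nat.succ_pos n) hnd hnr)

include hn in
theorem botIdx_lt_detIdx (hdn : d < d + r) :
    botIdx hdn < detIdx (n + 1) (Nat.succ_pos n) hnd hnr := by
  refine lt_of_le_of_ne (botIdx_le hdn _) ?_
  intro h
  have h0 := congrArg (fun θ : Idx d (d + r) => (θ.1 ⟨0, by omega⟩).val) h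
  simp only [botIdx, detIdx] at h0
  rw [dif_pos (by simp; omega)] at h0
  simp at h0
  omega

theorem pairingMap_minorIdeal (F : CellRing K d r)
    (hF : F ∈ CAlgX.minorIdeal (genMatrix K r d) (n + 1)) : pairingMap K n r d F = 0 := by
  rw [← Groth.Agent.S11267.result K r n d] at hF
  exact hF

theorem eval_eq_zero_of_pairingMap_eq_mul (F : CellRing K d r) (h : PairRing K n r d)
    (hF : pairingMap K n r d F = pairingMap K n r d (cornerPl K d r n hnd hnr) * h)
    (Z₀ : Matrix (Fin r) (Fin d) K)
    (hZ : ∀ (a : Fin (n + 1) → Fin r) (b : Fin (n + 1) → Fin d), (Z₀.submatrix a b).det = 0)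
    (hδ : MvPolynomial.eval (fun p : Fin r × Fin d => Z₀ p.1 p.2) (cornerPl K d r n hnd hnr) = 0) :
    MvPolynomial.eval (fun p : Fin r × Fin d => Z₀ p.1 p.2) F = 0 := by
  obtain ⟨U, V, hUV⟩ := exists_mul_eq_of_minors_eq_zero n Z₀ hZ
  have hfun : (fun p : Fin r × Fin d => ∑ k, U p.1 k * V k p.2) =
      fun p : Fin r × Fin d => Z₀ p.1 p.2 := by
    funext p
    exact (hUV p.1 p.2).symm
  have h1 := Groth.Agent.S11267.eval_pairingMap K r n d U V F
  have h2 := Groth.Agent.S11267.eval_pairingMap K r n d U V (cornerPl K d r n hnd hnr)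
  rw [hfun] at h1 h2
  rw [← h1, hF, map_mul, h2, hδ, zero_mul]

theorem pairingMap_cornerPl_ne_zero :
    pairingMap K n r d (cornerPl K d r n hnd hnr) ≠ 0 := by
  have hinf : Infinite K := IsAlgClosed.instInfinite
  have hd : 0 < d := by omega
  have hr : 0 < r := by omega
  have hdn : d < d + r := by omega
  set w := detIdx (n + 1) (Nat.succ_pos n) hnd hnr with hw
  intro h0
  have h1 : cornerPl K d r n hnd hnr ∈ CAlgX.minorIdeal (genMatrix K r d) (n + 1) := by
    rw [← Groth.Agent.S11267.result K r n d]
    exact h0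
  have h2 : (X w : PlRing K d (d + r)) ∈
      Ideal.comap (cellMap K d r) (CAlgX.minorIdeal (genMatrix K r d) (n + 1)) := by
    rw [Ideal.mem_comap, cellMap_X]
    exact h1
  rw [comap_minorIdeal_eq K d r (n + 1) (Nat.succ_pos n) hnd hnr hr] at h2
  have hprime := isPrime_schubertVanishing K hd hdn w
  have hy := X_not_mem_schubertVanishing K hd w (cellBot d hr) (botIdx_le hdn w)
  have hker := ker_dehom (schubertVanishing K d (d + r) w) (cellBot d hr) hy
    (homogeneousComponent_mem_schubertVanishing K hd w)
  have h3 : dehom (schubertVanishing K d (d + r) w) (cellBot d hr) (X w) = 0 := by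
    have : (X w : PlRing K d (d + r)) ∈
        RingHom.ker (dehom (schubertVanishing K d (d + r) w) (cellBot d hr)) := by
      rw [hker]
      exact h2
    exact this
  have h4 := dehom_mul_pow (schubertVanishing K d (d + r) w) (cellBot d hr) (X w) 1
    (isHomogeneous_X K w)
  rw [h3, zero_mul] at h4
  have h5 := (dehomPhi_eq_zero_iff (schubertVanishing K d (d + r) w) (cellBot d hr) hy
    (X w)).mp h4.symm
  exact X_not_mem_schubertVanishing K hd w w le_rfl h5

include hn in
/-- division by the corner coordinate stays in the algebra generated by the entries of `UW` -/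
theorem exists_of_pairingMap_eq_cornerPl_mul (F : CellRing K d r) (h : PairRing K n r d)
    (hF : pairingMap K n r d F = pairingMap K n r d (cornerPl K d r n hnd hnr) * h) :
    ∃ F', pairingMap K n r d F' = h := by
  classical
  have hinf : Infinite K := IsAlgClosed.instInfinite
  have hd : 0 < d := by omega
  have hr : 0 < r := by omega
  have hdn : d < d + r := by omega
  set w := detIdx (n + 1) (Nat.succ_pos n) hnd hnr with hw
  set ι := cellBot d hr with hι
  have hvan := eval_eq_zero_of_pairingMap_eq_mul K d r n hnd hnr F h hF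
  set G := cellLift K d r hr F with hG
  have hGF : cellMap K d r G = F := cellMap_cellLift K d r hr F
  set Gh := homog G.totalDegree ι G with hGh
  have hGhF : cellMap K d r Gh = F := by
    have := map_homog (cellMap K d r : PlRing K d (d + r) →+* CellRing K d r) ι
      (cellMap_X_bot K d r hr) G
    rw [hGh]
    exact this.trans hGF
  have hhom : Gh.IsHomogeneous G.totalDegree := homog_isHomogeneous _ ι G
  -- `Gh` vanishes on every Schubert divisor
  have key : ∀ φ ∈ divisors w, Gh ∈ schubertVanishing K d (d + r) φ := by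
    intro φ hφ
    have hprime := isPrime_schubertVanishing K hd hdn φ
    have hy := X_not_mem_schubertVanishing K hd φ ι (botIdx_le hdn φ)
    refine (hprime.mem_or_mem (?_ : X ι * Gh ∈ _)).resolve_left hy
    unfold schubertVanishing
    rw [Ideal.mem_iInf]
    intro A
    rw [Ideal.mem_iInf]
    intro hA
    rw [RingHom.mem_ker]
    change evalMinors K d (d + r) A (X ι * Gh) = 0
    rw [map_mul, evalMinors_X]
    by_cases hδ : (A.submatrix ι.1 id).det = 0
    · rw [hδ, zero_mul]
    · obtain ⟨Z₀, hZ₀⟩ := exists_cellPt_of_det_ne_zero K d r hr A hδ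
      rw [evalMinors_eq_pow_mul_eval_cellMap K d r hr A Z₀ hZ₀ hδ Gh _ hhom, hGhF]
      have hcell : ∀ θ : Idx d (d + r), ¬ θ ≤ φ →
          MvPolynomial.eval (fun p : Fin r × Fin d => Z₀ p.1 p.2) (cellMinor K d r θ) = 0 := by
        intro θ hθ
        rw [← cellMap_X, eval_cellMap, evalMinors_X, hZ₀, hA θ hθ, zero_mul]
      have hzero : MvPolynomial.eval (fun p : Fin r × Fin d => Z₀ p.1 p.2) F = 0 := by
        apply hvan Z₀
        · intro a b
          have hmem : ((genMatrix K r d).submatrix a b).det ∈
              CAlgX.minorIdeal (genMatrix K r d) (n + 1) :=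
            Ideal.subset_span ⟨(a, b), rfl⟩
          have hle : CAlgX.minorIdeal (genMatrix K r d) (n + 1) ≤ RingHom.ker
              (MvPolynomial.eval (fun p : Fin r × Fin d => Z₀ p.1 p.2)) := by
            rw [← span_cellGens_eq_minorIdeal K d r (n + 1) hd (Nat.succ_pos n) hnd, Ideal.span_le]
            rintro _ ⟨θ, hθ, rfl⟩
            rw [SetLike.mem_coe, RingHom.mem_ker]
            apply hcell
            intro hle
            have h1 := hle.trans (le_of_lt hφ.1)
            rw [hw, le_detIdx_iff] at h1
            omega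
          have h2 := hle hmem
          rw [RingHom.mem_ker, RingHom.map_det] at h2
          rw [← h2]
          congr 1
          ext i j
          simp [genMatrix]
        · exact hcell w (not_le_of_gt hφ.1)
      rw [hzero, mul_zero, mul_zero]
  have hmem : Gh ∈ schubertVanishing K d (d + r) w ⊔ Ideal.span {(X w : PlRing K d (d + r))} := by
    rw [schubertVanishing_sup_span K hd w ⟨_, botIdx_lt_detIdx d r n hn hnd hnr hdn⟩]
    rw [Ideal.mem_iInf]
    intro φ
    rw [Ideal.mem_iInf]
    exact key φ
  obtain ⟨J, hJ, H', hH', hsum⟩ := Submodule.mem_sup.mp hmem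
  obtain ⟨H, rfl⟩ := Ideal.mem_span_singleton'.mp hH'
  refine ⟨cellMap K d r H, ?_⟩
  have hJ0 : pairingMap K n r d (cellMap K d r J) = 0 :=
    pairingMap_minorIdeal K d r n _
      (schubertVanishing_le_comap_minorIdeal K d r (n + 1) (Nat.succ_pos n) hnd hnr hJ)
  have hFeq : F = cellMap K d r J + cellMap K d r H * cornerPl K d r n hnd hnr := by
    rw [← hGhF, ← hsum, map_add, map_mul, cellMap_X]
    rfl
  rw [hFeq, map_add, hJ0, zero_add, map_mul, mul_comm] at hF
  exact mul_left_cancel₀ (pairingMap_cornerPl_ne_zero K d r n hnd hnr) hF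

include hn in
theorem exists_of_pairingMap_eq_cornerPl_pow_mul (M : ℕ) :
    ∀ (F : CellRing K d r) (f : PairRing K n r d),
      pairingMap K n r d F = pairingMap K n r d (cornerPl K d r n hnd hnr) ^ M * f →
        ∃ F', pairingMap K n r d F' = f := by
  induction M with
  | zero =>
    intro F f hF
    exact ⟨F, by rw [hF, pow_zero, one_mul]⟩
  | succ M ih =>
    intro F f hF
    rw [pow_succ', mul_assoc] at hF
    obtain ⟨F', hF'⟩ := exists_of_pairingMap_eq_cornerPl_mul K d r n hn hnd hnr F _ hF
    exact ih F' f hF'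

end Dagger

end Groth.Agent.Lib.H5b

end
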