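import Groth.Agent.Lib.H5bGLa

/-!
# Igusa's trick for `GL_n` acting on pairs of matrices (helper5)
-/

set_option autoImplicit false

universe u

noncomputable section

open MvPolynomial W4bk4grassmannian

namespace Groth.Agent.Lib.H5b

section Corner

/-- the last `n` rows -/
def rowIdx (r n : ℕ) (hnr : n + 1 ≤ r) (a : Fin n) : Fin r :=
  ⟨r - n + a.val, by have := a.isLt; omega⟩

/-- the first `n` columns -/
def colIdx (d n : ℕ) (hnd : n + 1 ≤ d) (b : Fin n) : Fin d :=
  ⟨b.val, by have := b.isLt; omega⟩

/-- the rotation of the columns -/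
def colRotFwd (d n : ℕ) (hnd : n + 1 ≤ d) (j : Fin d) : Fin d :=
  if h : j.val < d - n then ⟨j.val + n, by omega⟩ else ⟨j.val - (d - n), by omega⟩

/-- the inverse rotation of the columns -/
def colRotBwd (d n : ℕ) (hnd : n + 1 ≤ d) (i : Fin d) : Fin d :=
  if h : i.val < n then ⟨i.val + (d - n), by omega⟩ else ⟨i.val - n, by omega⟩

/-- the rotation of the columns -/
def colRot (d n : ℕ) (hnd : n + 1 ≤ d) : Equiv.Perm (Fin d) where
  toFun := colRotFwd d n hnd
  invFun := colRotBwd d n hnd
  left_inv := by
    intro j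
    have := j.isLt
    unfold colRotFwd colRotBwd
    apply Fin.ext
    by_cases h : j.val < d - n
    · rw [dif_pos h]
      rw [dif_neg (by simp only; omega)]
      simp
    · rw [dif_neg h]
      rw [dif_pos (by simp only; omega)]
      simp only
      omega
  right_inv := by
    intro i
    have := i.isLt
    unfold colRotFwd colRotBwd
    apply Fin.ext
    by_cases h : i.val < n
    · rw [dif_pos h]
      rw [dif_neg (by simp only; omega)]
      simp
    · rw [dif_neg h]
      rw [dif_pos (by simp only; omega)]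
      simp only
      omega

variable (K : Type u) [Field K] (d r n : ℕ) (hnd : n + 1 ≤ d) (hnr : n + 1 ≤ r)

/-- the corner block of the generic matrix -/
def cornerMat : Matrix (Fin n) (Fin n) (CellRing K d r) :=
  Matrix.of fun a b => X (rowIdx r n hnr a, colIdx d n hnd b)

theorem cornerPl_eq : ∃ e : CellRing K d r,
    cornerPl K d r n hnd hnr = e * (cornerMat K d r n hnd hnr).det := by
  classical
  set w := detIdx (n + 1) (Nat.succ_pos n) hnd hnr with hw
  set N : Matrix (Fin d) (Fin d) (CellRing K d r) := (cellMatrix K d r).submatrix w.1 id with hN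
  set τ := colRot d n hnd with hτ
  set N' : Matrix (Fin d) (Fin d) (CellRing K d r) := N.submatrix id τ with hN'
  have hNN' : N = N'.submatrix id τ.symm := by
    ext i j
    simp [hN']
  have hdet : N.det = Equiv.Perm.sign τ.symm * N'.det := by
    conv_lhs => rw [hNN']
    exact Matrix.det_permute' τ.symm N'
  -- entries of `N'`
  have hw1 : ∀ i : Fin d, i.val < d - n → (w.1 i).val = i.val + n := by
    intro i hi
    rw [hw]
    simp only [detIdx]
    rw [dif_pos (by omega)]
    simp only
    omega
  have hw2 : ∀ i : Fin d, ¬ i.val < d - n → (w.1 i).val = i.val + r := by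
    intro i hi
    rw [hw]
    simp only [detIdx]
    rw [dif_neg (by omega)]
  have hτ1 : ∀ j : Fin d, j.val < d - n → (τ j).val = j.val + n := by
    intro j hj
    simp only [hτ, colRot, colRotFwd, Equiv.coe_fn_mk]
    rw [dif_pos hj]
  have hτ2 : ∀ j : Fin d, ¬ j.val < d - n → (τ j).val = j.val - (d - n) := by
    intro j hj
    simp only [hτ, colRot, colRotFwd, Equiv.coe_fn_mk]
    rw [dif_neg hj]
  have hent1 : ∀ (i j : Fin d), i.val < d - n → N' i j = if i = j then 1 else 0 := by
    intro i j hi
    simp only [hN', hN, Matrix.submatrix_apply, id_eq, cellMatrix, Matrix.of_apply]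
    have := i.isLt
    rw [dif_pos (by rw [hw1 i hi]; omega), hw1 i hi]
    by_cases hj : j.val < d - n
    · rw [hτ1 j hj]
      by_cases hij : i = j
      · subst hij
        rw [if_pos rfl, if_pos rfl]
      · rw [if_neg hij, if_neg]
        intro h
        exact hij (Fin.ext (by omega))
    · rw [hτ2 j hj, if_neg (by omega), if_neg]
      intro h
      rw [h] at hi
      exact hj hi
  have hent2 : ∀ (i j : Fin d) (hi : ¬ i.val < d - n) (hj : ¬ j.val < d - n),
      N' i j = X (⟨i.val + r - d, by have := i.isLt; omega⟩, ⟨j.val - (d - n), by omega⟩) := by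
    intro i j hi hj
    simp only [hN', hN, Matrix.submatrix_apply, id_eq, cellMatrix, Matrix.of_apply]
    rw [dif_neg (by rw [hw2 i hi]; omega)]
    congr 1
    apply Prod.ext
    · apply Fin.ext
      simp only
      rw [hw2 i hi]
    · apply Fin.ext
      simp only
      rw [hτ2 j hj]
  have htri := Matrix.twoBlockTriangular_det N' (fun i : Fin d => ¬ i.val < d - n) (by
    intro i hi j hj
    have hi' : i.val < d - n := not_not.mp hi
    rw [hent1 i j hi', if_neg]
    intro h
    rw [h] at hi'
    exact hj hi')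
  have hblock1 : (Matrix.toSquareBlockProp N' fun i : Fin d => ¬ ¬ i.val < d - n) = 1 := by
    ext ⟨i, hi⟩ ⟨j, hj⟩
    rw [Matrix.toSquareBlockProp_def, Matrix.of_apply, hent1 i j (not_not.mp hi),
      Matrix.one_apply]
    simp only [Subtype.mk.injEq]
  let e : Fin n ≃ {i : Fin d // ¬ i.val < d - n} :=
    { toFun := fun a => ⟨⟨d - n + a.val, by have := a.isLt; omega⟩, by simp⟩
      invFun := fun i => ⟨i.1.val - (d - n), by have := i.1.isLt; have := i.2; omega⟩
      left_inv := by
        intro a
        apply Fin.ext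
        simp
      right_inv := by
        rintro ⟨i, hi⟩
        apply Subtype.ext
        apply Fin.ext
        simp only
        omega }
  have hblock2 : (Matrix.toSquareBlockProp N' fun i : Fin d => ¬ i.val < d - n).submatrix e e =
      cornerMat K d r n hnd hnr := by
    refine Matrix.ext fun a b => ?_
    rw [Matrix.submatrix_apply, Matrix.toSquareBlockProp_def, Matrix.of_apply,
      hent2 _ _ (e a).2 (e b).2]
    simp only [cornerMat, Matrix.of_apply, rowIdx, colIdx, e, Equiv.coe_fn_mk]
    have := a.isLt
    congr 1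
    apply Prod.ext
    · apply Fin.ext
      simp only
      omega
    · apply Fin.ext
      simp only
      omega
  refine ⟨((Equiv.Perm.sign τ.symm : ℤˣ) : ℤ), ?_⟩
  have h1 : cornerPl K d r n hnd hnr = N.det := rfl
  rw [h1, hdet, htri, hblock1, Matrix.det_one, mul_one, ← hblock2,
    Matrix.det_submatrix_equiv_self]

end Corner

section Weighted

variable {σ : Type*} {R : Type*} [CommSemiring R]

theorem eval_pow_weight_mul (wt : σ → ℕ) (P : MvPolynomial σ R) (a : ℕ)
    (hP : IsWeightedHomogeneous wt P a) (c : R) (x : σ → R) :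
    eval (fun v => c ^ wt v * x v) P = c ^ a * eval x P := by
  rw [eval_eq, eval_eq, Finset.mul_sum]
  refine Finset.sum_congr rfl (fun m hm => ?_)
  have hdeg : ∑ i ∈ m.support, wt i * m i = a := by
    have h1 := hP (mem_support_iff.mp hm)
    rw [← h1]
    simp [Finsupp.weight_apply, Finsupp.sum, mul_comm]
  simp_rw [mul_pow, ← pow_mul]
  rw [Finset.prod_mul_distrib, Finset.prod_pow_eq_pow_sum, hdeg]
  ring

theorem sum_weightedHomogeneousComponent_range (wt : σ → ℕ) (f : MvPolynomial σ R) :
    ∑ a ∈ Finset.range (weightedTotalDegree wt f + 1), weightedHomogeneousComponent wt a f = f := by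
  conv_rhs => rw [← sum_weightedHomogeneousComponent wt f]
  symm
  apply finsum_eq_sum_of_support_subset
  intro a ha
  rw [Function.mem_support] at ha
  rw [Finset.coe_range, Set.mem_Iio]
  by_contra hlt
  apply ha
  apply weightedHomogeneousComponent_eq_zero
  omega

end Weighted

section IgusaGL

variable (K : Type u) [Field K] (n m q : ℕ)

/-- weight: degree in the `U`-variables -/
def uWt : (Fin m × Fin n) ⊕ (Fin n × Fin q) → ℕ := Sum.elim (fun _ => 1) (fun _ => 0)

theorem eval_glTranslate (A : GL (Fin n) K) (x : (Fin m × Fin n) ⊕ (Fin n × Fin q) → K)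
    (f : PairRing K n m q) :
    MvPolynomial.eval x (glTranslate K n m q A f) =
      MvPolynomial.eval (Sum.elim
        (fun p : Fin m × Fin n => ∑ k, x (Sum.inl (p.1, k)) *
          ((A⁻¹ : GL (Fin n) K) : Matrix (Fin n) (Fin n) K) k p.2)
        (fun p : Fin n × Fin q => ∑ k, (A : Matrix (Fin n) (Fin n) K) p.1 k *
          x (Sum.inr (k, p.2)))) f := by
  have h : ((MvPolynomial.aeval x : PairRing K n m q →ₐ[K] K).comp (glTranslate K n m q A)) =
      (MvPolynomial.aeval (Sum.elim
        (fun p : Fin m × Fin n => ∑ k, x (Sum.inl (p.1, k)) *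
          ((A⁻¹ : GL (Fin n) K) : Matrix (Fin n) (Fin n) K) k p.2)
        (fun p : Fin n × Fin q => ∑ k, (A : Matrix (Fin n) (Fin n) K) p.1 k *
          x (Sum.inr (k, p.2)))) : PairRing K n m q →ₐ[K] K) := by
    apply MvPolynomial.algHom_ext
    intro v
    rw [AlgHom.comp_apply]
    unfold glTranslate
    rw [aeval_X, aeval_X]
    rcases v with p | p
    · simp only [Sum.elim_inl, map_sum, map_mul, aeval_X, aeval_C]
      rfl
    · simp only [Sum.elim_inr, map_sum, map_mul, aeval_X, aeval_C]
      rfl
  have := congrArg (fun φ => φ f) h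
  simpa [MvPolynomial.coe_aeval_eq_eval] using this

variable (hnq : n + 1 ≤ q) (hnm : n + 1 ≤ m)

/-- the substitution `U ↦ Y_first adj(Y_c)`, `W ↦ Y_last` -/
def igusaSub : PairRing K n m q →ₐ[K] CellRing K q m :=
  MvPolynomial.aeval (Sum.elim
    (fun p : Fin m × Fin n => ∑ l : Fin n, X (p.1, colIdx q n hnq l) *
      (cornerMat K q m n hnq hnm).adjugate l p.2)
    (fun p : Fin n × Fin q => X (rowIdx m n hnm p.1, p.2)))

theorem mapMatrix_cornerMat (Y : Matrix (Fin m) (Fin q) K) :
    (MvPolynomial.eval (fun p : Fin m × Fin q => Y p.1 p.2)).mapMatrix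
      (cornerMat K q m n hnq hnm) = Y.submatrix (rowIdx m n hnm) (colIdx q n hnq) := by
  ext a b
  simp [cornerMat]

theorem eval_igusaSub (U : Matrix (Fin m) (Fin n) K) (W : Matrix (Fin n) (Fin q) K)
    (g : PairRing K n m q) :
    MvPolynomial.eval (fun p : Fin m × Fin q => (U * W) p.1 p.2) (igusaSub K n m q hnq hnm g) =
      MvPolynomial.eval (Sum.elim
        (fun p : Fin m × Fin n => ((U * W.submatrix id (colIdx q n hnq)) *
          ((U.submatrix (rowIdx m n hnm) id) * (W.submatrix id (colIdx q n hnq))).adjugate)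
            p.1 p.2)
        (fun p : Fin n × Fin q => ((U.submatrix (rowIdx m n hnm) id) * W) p.1 p.2)) g := by
  have hYc : (U * W).submatrix (rowIdx m n hnm) (colIdx q n hnq) =
      (U.submatrix (rowIdx m n hnm) id) * (W.submatrix id (colIdx q n hnq)) := by
    ext a b
    simp [Matrix.mul_apply]
  have h : ((MvPolynomial.aeval (fun p : Fin m × Fin q => (U * W) p.1 p.2) :
      CellRing K q m →ₐ[K] K).comp (igusaSub K n m q hnq hnm)) =
      (MvPolynomial.aeval (Sum.elim
        (fun p : Fin m × Fin n => ((U * W.submatrix id (colIdx q n hnq)) *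
          ((U.submatrix (rowIdx m n hnm) id) * (W.submatrix id (colIdx q n hnq))).adjugate)
            p.1 p.2)
        (fun p : Fin n × Fin q => ((U.submatrix (rowIdx m n hnm) id) * W) p.1 p.2)) :
          PairRing K n m q →ₐ[K] K) := by
    apply MvPolynomial.algHom_ext
    intro v
    rw [AlgHom.comp_apply]
    unfold igusaSub
    rw [aeval_X, aeval_X]
    rcases v with p | p
    · simp only [Sum.elim_inl, map_sum, map_mul, aeval_X]
      rw [Matrix.mul_apply]
      refine Finset.sum_congr rfl (fun l _ => ?_)
      have e1 : (U * W) p.1 (colIdx q n hnq l) =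
          (U * W.submatrix id (colIdx q n hnq)) p.1 l := by
        simp [Matrix.mul_apply]
      have e2 : (MvPolynomial.aeval (fun p : Fin m × Fin q => (U * W) p.1 p.2) :
          CellRing K q m →ₐ[K] K) ((cornerMat K q m n hnq hnm).adjugate l p.2) =
          ((U.submatrix (rowIdx m n hnm) id) * (W.submatrix id (colIdx q n hnq))).adjugate
            l p.2 := by
        rw [← hYc, ← mapMatrix_cornerMat K n m q hnq hnm (U * W), ← RingHom.map_adjugate]
        simp
      rw [e1, e2]
    · simp only [Sum.elim_inr, aeval_X]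
      simp [Matrix.mul_apply]
  have := congrArg (fun φ => φ g) h
  simpa [MvPolynomial.coe_aeval_eq_eval] using this

omit [Field K] in
theorem mul_adjugate_corner {K : Type u} [Field K] (U₁ W₀ : Matrix (Fin n) (Fin n) K)
    (U : Matrix (Fin m) (Fin n) K) (h : U₁.det ≠ 0) :
    (U * W₀) * (U₁ * W₀).adjugate = (U₁.det * W₀.det) • (U * U₁⁻¹) := by
  have hadj : U₁.adjugate = U₁.det • U₁⁻¹ := by
    rw [Matrix.inv_def, Ring.inverse_eq_inv', smul_smul, mul_inv_cancel₀ h, one_smul]
  rw [Matrix.adjugate_mul_distrib, Matrix.mul_assoc, ← Matrix.mul_assoc W₀, Matrix.mul_adjugate,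
    Matrix.smul_mul, Matrix.one_mul, Matrix.mul_smul, hadj, Matrix.mul_smul, smul_smul, mul_comm]

variable [Infinite K]

/-- Igusa's trick for `GL_n`: an invariant times a power of the corner minor of `UW` is a
polynomial in the entries of `UW` -/
theorem exists_pairingMap_eq_pow_mul_of_invariant (f : PairRing K n m q)
    (hf : ∀ A : GL (Fin n) K, glTranslate K n m q A f = f) :
    ∃ (M : ℕ) (E : CellRing K q m),
      pairingMap K n m q E =
        pairingMap K n m q ((cornerMat K q m n hnq hnm).det) ^ M * f := by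
  set wt := uWt n m q with hwt
  set M := weightedTotalDegree wt f + 1 with hM
  refine ⟨M, ∑ a ∈ Finset.range M, (cornerMat K q m n hnq hnm).det ^ (M - a) *
    igusaSub K n m q hnq hnm (weightedHomogeneousComponent wt a f), ?_⟩
  apply MvPolynomial.funext
  intro x
  set U : Matrix (Fin m) (Fin n) K := Matrix.of fun i k => x (Sum.inl (i, k)) with hU
  set W : Matrix (Fin n) (Fin q) K := Matrix.of fun k j => x (Sum.inr (k, j)) with hW
  have hx : x = Sum.elim (fun p : Fin m × Fin n => U p.1 p.2)
      (fun p : Fin n × Fin q => W p.1 p.2) := by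
    funext v
    rcases v with p | p <;> simp [hU, hW]
  have hP : ∀ G : CellRing K q m, MvPolynomial.eval x (pairingMap K n m q G) =
      MvPolynomial.eval (fun p : Fin m × Fin q => (U * W) p.1 p.2) G := by
    intro G
    conv_lhs => rw [hx]
    rw [Groth.Agent.S11267.eval_pairingMap K m n q U W G]
    rfl
  set U₁ := U.submatrix (rowIdx m n hnm) id with hU₁def
  set W₀ := W.submatrix id (colIdx q n hnq) with hW₀def
  set δx := U₁.det * W₀.det with hδx
  have hYc : (U * W).submatrix (rowIdx m n hnm) (colIdx q n hnq) = U₁ * W₀ := by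
    ext a b
    simp [Matrix.mul_apply, hU₁def, hW₀def]
  have hδ : MvPolynomial.eval (fun p : Fin m × Fin q => (U * W) p.1 p.2)
      (cornerMat K q m n hnq hnm).det = δx := by
    rw [RingHom.map_det, mapMatrix_cornerMat, hYc, Matrix.det_mul]
  rw [map_mul, map_pow, hP, hP, hδ, map_sum]
  simp_rw [map_mul, map_pow, hδ, eval_igusaSub]
  by_cases h0 : δx = 0
  · rw [h0, zero_pow (by omega), zero_mul]
    apply Finset.sum_eq_zero
    intro a ha
    have := Finset.mem_range.mp ha
    rw [zero_pow (by omega), zero_mul]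
  · have hU₁ : U₁.det ≠ 0 := left_ne_zero_of_mul h0
    set A : GL (Fin n) K := Matrix.GeneralLinearGroup.mkOfDetNeZero U₁ hU₁ with hAdef
    have hA : (A : Matrix (Fin n) (Fin n) K) = U₁ := rfl
    have hAinv : ((A⁻¹ : GL (Fin n) K) : Matrix (Fin n) (Fin n) K) = U₁⁻¹ := by
      rw [Matrix.coe_units_inv]
      rfl
    set x'' : (Fin m × Fin n) ⊕ (Fin n × Fin q) → K :=
      Sum.elim (fun p : Fin m × Fin n => (U * U₁⁻¹) p.1 p.2)
        (fun p : Fin n × Fin q => (U₁ * W) p.1 p.2) with hx''
    have hinv : MvPolynomial.eval x'' f = MvPolynomial.eval x f := by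
      have h1 := eval_glTranslate K n m q A x f
      rw [hf A] at h1
      rw [h1]
      congr 2
      funext v
      rcases v with p | p
      · simp [hx'', hAinv, Matrix.mul_apply, hU]
      · simp [hx'', hA, Matrix.mul_apply, hW]
    have hterm : ∀ a, MvPolynomial.eval (Sum.elim
        (fun p : Fin m × Fin n => ((U * W₀) * (U₁ * W₀).adjugate) p.1 p.2)
        (fun p : Fin n × Fin q => (U₁ * W) p.1 p.2)) (weightedHomogeneousComponent wt a f) =
        δx ^ a * MvPolynomial.eval x'' (weightedHomogeneousComponent wt a f) := by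
      intro a
      rw [← eval_pow_weight_mul wt _ a (weightedHomogeneousComponent_isWeightedHomogeneous a f)
        δx x'']
      congr 2
      funext v
      rcases v with p | p
      · simp only [Sum.elim_inl, hwt, uWt, pow_one, hx'']
        rw [mul_adjugate_corner n m U₁ W₀ U hU₁]
        rfl
      · simp only [Sum.elim_inr, hwt, uWt, pow_zero, one_mul, hx'']
    have hsum : ∑ a ∈ Finset.range M,
        MvPolynomial.eval x'' (weightedHomogeneousComponent wt a f) = MvPolynomial.eval x f := by
      rw [← hinv, ← map_sum, hM, sum_weightedHomogeneousComponent_range]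
    rw [← hsum, Finset.mul_sum]
    refine Finset.sum_congr rfl (fun a ha => ?_)
    have := Finset.mem_range.mp ha
    rw [hterm, ← mul_assoc, ← pow_add, Nat.sub_add_cancel (by omega)]

end IgusaGL

section FFTGL

variable (K : Type u) [Field K] [IsAlgClosed K] (n m q : ℕ)

/-- first fundamental theorem for `GL_n`, large matrices -/
theorem mem_range_pairingMap_of_invariant_of_le (hn : 0 < n) (hnq : n + 1 ≤ q) (hnm : n + 1 ≤ m)
    (f : PairRing K n m q) (hf : ∀ A : GL (Fin n) K, glTranslate K n m q A f = f) :
    ∃ F, pairingMap K n m q F = f := by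
  have hinf : Infinite K := IsAlgClosed.instInfinite
  obtain ⟨M, E, hE⟩ := exists_pairingMap_eq_pow_mul_of_invariant K n m q hnq hnm f hf
  obtain ⟨e, he⟩ := cornerPl_eq K q m n hnq hnm
  apply exists_of_pairingMap_eq_cornerPl_pow_mul K q m n hn hnq hnm M (e ^ M * E) f
  rw [map_mul, hE, he, map_mul, map_pow, mul_pow]
  ring

/-- padding: the embedding of the small pair ring -/
def padEmb : PairRing K n m q →ₐ[K] PairRing K n (m + (n + 1)) ((n + 1) + q) :=
  MvPolynomial.rename (Sum.map (Prod.map (Fin.castAdd (n + 1)) id)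
    (Prod.map id (Fin.natAdd (n + 1))))

/-- padding: the projection back -/
def padProj : PairRing K n (m + (n + 1)) ((n + 1) + q) →ₐ[K] PairRing K n m q :=
  MvPolynomial.aeval (Sum.elim
    (fun p : Fin (m + (n + 1)) × Fin n =>
      if h : p.1.val < m then (X (Sum.inl (⟨p.1.val, h⟩, p.2)) : PairRing K n m q) else 0)
    (fun p : Fin n × Fin ((n + 1) + q) =>
      if h : n + 1 ≤ p.2.val then
        (X (Sum.inr (p.1, ⟨p.2.val - (n + 1), by have := p.2.isLt; omega⟩)) : PairRing K n m q)
      else 0))

/-- padding: the projection on the `Y`-side -/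
def padProjY : MvPolynomial (Fin (m + (n + 1)) × Fin ((n + 1) + q)) K →ₐ[K]
    MvPolynomial (Fin m × Fin q) K :=
  MvPolynomial.aeval (fun p : Fin (m + (n + 1)) × Fin ((n + 1) + q) =>
    if h : p.1.val < m ∧ n + 1 ≤ p.2.val then
      (X (⟨p.1.val, h.1⟩, ⟨p.2.val - (n + 1), by have := p.2.isLt; omega⟩) :
        MvPolynomial (Fin m × Fin q) K)
    else 0)

omit [IsAlgClosed K] in
theorem padProj_padEmb (f : PairRing K n m q) : padProj K n m q (padEmb K n m q f) = f := by
  have h : (padProj K n m q).comp (padEmb K n m q) = AlgHom.id K _ := by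
    apply MvPolynomial.algHom_ext
    intro v
    rw [AlgHom.comp_apply, AlgHom.id_apply]
    unfold padEmb padProj
    rw [rename_X, aeval_X]
    rcases v with p | p
    · simp only [Sum.map_inl, Sum.elim_inl, Prod.map_fst, Prod.map_snd, id_eq, Fin.val_castAdd]
      rw [dif_pos p.1.isLt]
    · simp only [Sum.map_inr, Sum.elim_inr, Prod.map_fst, Prod.map_snd, id_eq, Fin.val_natAdd]
      rw [dif_pos (by omega)]
      congr 3
      apply Fin.ext
      simp
  exact congrArg (fun φ => φ f) h

omit [IsAlgClosed K] in
theorem glTranslate_padEmb (A : GL (Fin n) K) (f : PairRing K n m q) :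
    glTranslate K n (m + (n + 1)) ((n + 1) + q) A (padEmb K n m q f) =
      padEmb K n m q (glTranslate K n m q A f) := by
  have h : (glTranslate K n (m + (n + 1)) ((n + 1) + q) A).comp (padEmb K n m q) =
      (padEmb K n m q).comp (glTranslate K n m q A) := by
    apply MvPolynomial.algHom_ext
    intro v
    rw [AlgHom.comp_apply, AlgHom.comp_apply]
    unfold padEmb glTranslate
    rw [rename_X, aeval_X, aeval_X]
    rcases v with p | p
    · simp only [Sum.map_inl, Sum.elim_inl, Prod.map_fst, Prod.map_snd, id_eq, map_sum, map_mul,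
        rename_X, rename_C]
      rfl
    · simp only [Sum.map_inr, Sum.elim_inr, Prod.map_fst, Prod.map_snd, id_eq, map_sum, map_mul,
        rename_X, rename_C]
      rfl
  exact congrArg (fun φ => φ f) h

omit [IsAlgClosed K] in
theorem padProj_pairingMap (G : MvPolynomial (Fin (m + (n + 1)) × Fin ((n + 1) + q)) K) :
    padProj K n m q (pairingMap K n (m + (n + 1)) ((n + 1) + q) G) =
      pairingMap K n m q (padProjY K n m q G) := by
  have h : (padProj K n m q).comp (pairingMap K n (m + (n + 1)) ((n + 1) + q)) =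
      (pairingMap K n m q).comp (padProjY K n m q) := by
    apply MvPolynomial.algHom_ext
    intro p
    rw [AlgHom.comp_apply, AlgHom.comp_apply]
    unfold padProj padProjY pairingMap
    rw [aeval_X, aeval_X, map_sum]
    simp only [map_mul, aeval_X, Sum.elim_inl, Sum.elim_inr]
    by_cases h1 : p.1.val < m
    · by_cases h2 : n + 1 ≤ p.2.val
      · rw [dif_pos ⟨h1, h2⟩, aeval_X]
        refine Finset.sum_congr rfl (fun k _ => ?_)
        rw [dif_pos h1, dif_pos h2]
      · rw [dif_neg (fun h => h2 h.2), map_zero]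
        apply Finset.sum_eq_zero
        intro k _
        rw [dif_neg h2, mul_zero]
    · rw [dif_neg (fun h => h1 h.1), map_zero]
      apply Finset.sum_eq_zero
      intro k _
      rw [dif_neg h1, zero_mul]
  exact congrArg (fun φ => φ G) h

/-- first fundamental theorem for `GL_n` (`n > 0`) -/
theorem mem_range_pairingMap_of_invariant (hn : 0 < n)
    (f : PairRing K n m q) (hf : ∀ A : GL (Fin n) K, glTranslate K n m q A f = f) :
    ∃ F, pairingMap K n m q F = f := by
  obtain ⟨F', hF'⟩ := mem_range_pairingMap_of_invariant_of_le K n (m + (n + 1)) ((n + 1) + q) hn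
    (by omega) (by omega) (padEmb K n m q f) (fun A => by
      rw [glTranslate_padEmb, hf A])
  refine ⟨padProjY K n m q F', ?_⟩
  rw [← padProj_pairingMap, hF', padProj_padEmb]

/-- polynomials in the entries of `UW` are invariant -/
theorem glTranslate_pairingMap (A : GL (Fin n) K) (F : MvPolynomial (Fin m × Fin q) K) :
    glTranslate K n m q A (pairingMap K n m q F) = pairingMap K n m q F := by
  have hinf : Infinite K := IsAlgClosed.instInfinite
  apply MvPolynomial.funext
  intro x
  set U : Matrix (Fin m) (Fin n) K := Matrix.of fun i k => x (Sum.inl (i, k)) with hU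
  set W : Matrix (Fin n) (Fin q) K := Matrix.of fun k j => x (Sum.inr (k, j)) with hW
  have hx : x = Sum.elim (fun p : Fin m × Fin n => U p.1 p.2)
      (fun p : Fin n × Fin q => W p.1 p.2) := by
    funext v
    rcases v with p | p <;> simp [hU, hW]
  set Ai : Matrix (Fin n) (Fin n) K := ((A⁻¹ : GL (Fin n) K) : Matrix (Fin n) (Fin n) K) with hAi
  set Am : Matrix (Fin n) (Fin n) K := (A : Matrix (Fin n) (Fin n) K) with hAm
  have hAA : Ai * Am = 1 := by
    rw [hAi, hAm, ← Units.val_mul, inv_mul_cancel]
    rfl
  rw [eval_glTranslate]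
  have h1 := Groth.Agent.S11267.eval_pairingMap K m n q (U * Ai) (Am * W) F
  have h2 := Groth.Agent.S11267.eval_pairingMap K m n q U W F
  have e1 : (Sum.elim (fun p : Fin m × Fin n => ∑ k, x (Sum.inl (p.1, k)) * Ai k p.2)
      (fun p : Fin n × Fin q => ∑ k, Am p.1 k * x (Sum.inr (k, p.2)))) =
      Sum.elim (fun p : Fin m × Fin n => (U * Ai) p.1 p.2)
        (fun p : Fin n × Fin q => (Am * W) p.1 p.2) := by
    funext v
    rcases v with p | p <;> simp [Matrix.mul_apply, hU, hW]
  rw [e1, h1]
  conv_rhs => rw [hx, h2]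
  congr 2
  funext p
  have e2 : (U * Ai) * (Am * W) = U * W := by
    rw [Matrix.mul_assoc, ← Matrix.mul_assoc Ai, hAA, Matrix.one_mul]
  have := congrFun (congrFun e2 p.1) p.2
  simpa [Matrix.mul_apply] using this

end FFTGL

end Groth.Agent.Lib.H5b

end
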