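import Mathlib
import Groth.Prelude.Def_Hensel
import Groth.Prelude.Def_Dual3
import Groth.Agent.S0538
import Groth.Agent.S0539
import Groth.Agent.S0540
import Groth.Agent.S0736
import Groth.Agent.Lib.Helper3IndEtHz
import Groth.Agent.Lib.Helper3ShQuot
import Groth.Agent.Lib.Helper14WEFlat
import Groth.Agent.Lib.Helper28FibreTrans
import Groth.Agent.Lib.Helper28FlatEquidim
import Groth.Agent.Lib.Helper5FiberMor
import Groth.Agent.Lib.Helper5FiberRing
import Groth.Agent.Lib.Helper5GorRing

/-!
# "Gorenstein at a point" through strict henselizations (helper5)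

For a local homomorphism `α : C → A` of local rings, strict henselizations `R'` of `C` and `R` of
`A` and a compatible local homomorphism `φ : R' → R`:

* `flat_iff_sh`: `α` is flat iff `φ` is flat;
* `gor_quot_iff_sh`: if `A / m_C A` is Noetherian, `A / m_C A` is Gorenstein iff `R / m_{R'} R` is;
* `isGorensteinAt_iff_sh`: the scheme version for `Dual3.IsGorensteinAt`.
-/

set_option autoImplicit false
set_option linter.style.haveILetI false
set_option linter.unusedSectionVars false
universe u

namespace Groth.Agent.Lib.H5bGorSh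

open IsLocalRing LocCoh AlgebraicGeometry CategoryTheory

section Ring

variable {C A : Type u} [CommRing C] [CommRing A] [IsLocalRing C] [IsLocalRing A]
  (α : C →+* A) [IsLocalHom α]
  (R : Type u) [CommRing R] [IsLocalRing R] [Algebra A R] [IsLocalHom (algebraMap A R)]
  [Hensel.IsStrictHenselization A R]
  (R' : Type u) [CommRing R'] [IsLocalRing R'] [Algebra C R'] [IsLocalHom (algebraMap C R')]
  [Hensel.IsStrictHenselization C R']
  (φ : R' →+* R)
  (hφ : φ.comp (algebraMap C R') = (algebraMap A R).comp α)

include hφ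

/-- flatness can be tested on strict henselizations. -/
theorem flat_iff_sh : α.Flat ↔ φ.Flat := by
  haveI hffA : Module.FaithfullyFlat A R := Groth.Agent.S0539.result A R
  haveI hffC : Module.FaithfullyFlat C R' := Groth.Agent.S0539.result C R'
  have hβ : (algebraMap A R).Flat := (RingHom.flat_algebraMap_iff).2 inferInstance
  have hβ' : (algebraMap C R').Flat := (RingHom.flat_algebraMap_iff).2 inferInstance
  constructor
  · intro hα
    have hcomp : (φ.comp (algebraMap C R')).Flat := by
      rw [hφ]; exact RingHom.Flat.comp hα hβ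
    haveI hwe : Algebra.WeaklyEtale C R' :=
      Groth.Agent.S0736.result C R'
        (Groth.Agent.Lib.Helper3.IndEt.isIndEtale_of_isStrictHenselization C R')
    letI i1 : Algebra R' R := φ.toAlgebra
    letI i2 : Algebra C R := (φ.comp (algebraMap C R')).toAlgebra
    haveI : IsScalarTower C R' R := IsScalarTower.of_algebraMap_eq (fun _ => rfl)
    haveI : Module.Flat C R := hcomp
    exact Groth.Agent.Lib.Helper14.WEFlat.flat_of_flat_of_weaklyEtale C R' R
  · intro hφf
    have hcomp : ((algebraMap A R).comp α).Flat := by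
      rw [← hφ]; exact RingHom.Flat.comp hβ' hφf
    letI i1 : Algebra C A := α.toAlgebra
    letI i2 : Algebra C R := ((algebraMap A R).comp α).toAlgebra
    haveI : IsScalarTower C A R := IsScalarTower.of_algebraMap_eq (fun _ => rfl)
    haveI : Module.Flat C R := hcomp
    exact Groth.Agent.Lib.Helper28.flat_of_faithfullyFlat_of_flat_comp C A R

/-- the ideal generated by `m_{R'}` in `R` is the one generated by `m_C A`. -/
theorem map_map_eq :
    ((maximalIdeal C).map α).map (algebraMap A R) = (maximalIdeal R').map φ := by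
  rw [Ideal.map_map, ← hφ, ← Ideal.map_map, Groth.Agent.S0538.result C R']

/-- the Gorenstein property of the fibre ring can be tested on strict henselizations. -/
theorem gor_quot_iff_sh [IsNoetherianRing (A ⧸ (maximalIdeal C).map α)] :
    IsGorensteinLocalRing (A ⧸ (maximalIdeal C).map α) ↔
      IsGorensteinLocalRing (R ⧸ (maximalIdeal R').map φ) := by
  haveI hffA : Module.FaithfullyFlat A R := Groth.Agent.S0539.result A R
  have hβ : (algebraMap A R).Flat := (RingHom.flat_algebraMap_iff).2 inferInstance
  set I : Ideal A := (maximalIdeal C).map α with hI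
  have hIne : I ≠ ⊤ := (IsLocalRing.map_maximalIdeal_lt_top α).ne
  have hJne : I.map (algebraMap A R) ≠ ⊤ :=
    Groth.Agent.Lib.Helper28.map_ne_top_of_isLocalHom I hIne
  haveI l1 : IsLocalRing (A ⧸ I) := Groth.Agent.Lib.Helper5.isLocalRing_quotient hIne
  haveI l2 : IsLocalRing (R ⧸ I.map (algebraMap A R)) :=
    Groth.Agent.Lib.Helper5.isLocalRing_quotient hJne
  haveI l3 : IsLocalHom (algebraMap (A ⧸ I) (R ⧸ I.map (algebraMap A R))) :=
    Groth.Agent.Lib.Helper28.isLocalHom_quotient_map I
  haveI sh : Hensel.IsStrictHenselization (A ⧸ I) (R ⧸ I.map (algebraMap A R)) :=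
    Groth.Agent.Lib.Helper3.ShQuot.isStrictHenselization_quotient I
  haveI n2 : IsNoetherianRing (R ⧸ I.map (algebraMap A R)) :=
    (Groth.Agent.S0540.result (A ⧸ I) (R ⧸ I.map (algebraMap A R))).1 inferInstance
  have key := Groth.Agent.Lib.Helper5.FiberRing.comp_iff α (algebraMap A R)
    Groth.Agent.Lib.Helper5.FiberRing.flatLocalIff_gor hβ
  have hm : (maximalIdeal A).map (algebraMap A R) = maximalIdeal R :=
    Groth.Agent.S0538.result A R
  have hfield : IsGorensteinLocalRing (R ⧸ (maximalIdeal A).map (algebraMap A R)) := by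
    rw [hm]
    letI : Field (R ⧸ maximalIdeal R) := Ideal.Quotient.field (maximalIdeal R)
    exact Groth.Agent.Lib.Helper5.GorRing.gorLocal_of_field (R ⧸ maximalIdeal R)
  have hid := map_map_eq α R R' φ hφ
  have e : (R ⧸ I.map (algebraMap A R)) ≃+* (R ⧸ (maximalIdeal R').map φ) :=
    Ideal.quotEquivOfEq hid
  constructor
  · intro h
    exact Groth.Agent.Lib.Helper5.FiberMor.isoInv_gor _ _ e (key.2 ⟨h, hfield⟩)
  · intro h
    exact (key.1 (Groth.Agent.Lib.Helper5.FiberMor.isoInv_gor _ _ e.symm h)).1

end Ring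

section Sch

/-- "Gorenstein at a point" of a morphism of schemes with locally Noetherian fibre through the
point, in terms of strict henselizations of the two local rings. -/
theorem isGorensteinAt_iff_sh {U V : Scheme.{u}} (h : U ⟶ V) (u : U)
    [IsLocallyNoetherian (h.fiber (h u))]
    (R : Type u) [CommRing R] [IsLocalRing R] [Algebra ↥(U.presheaf.stalk u) R]
    [IsLocalHom (algebraMap ↥(U.presheaf.stalk u) R)]
    [Hensel.IsStrictHenselization ↥(U.presheaf.stalk u) R]
    (R' : Type u) [CommRing R'] [IsLocalRing R'] [Algebra ↥(V.presheaf.stalk (h u)) R']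
    [IsLocalHom (algebraMap ↥(V.presheaf.stalk (h u)) R')]
    [Hensel.IsStrictHenselization ↥(V.presheaf.stalk (h u)) R']
    (φ : R' →+* R)
    (hφ : φ.comp (algebraMap ↥(V.presheaf.stalk (h u)) R') =
      (algebraMap ↥(U.presheaf.stalk u) R).comp (h.stalkMap u).hom) :
    Dual3.IsGorensteinAt h u ↔
      φ.Flat ∧ LocCoh.IsGorensteinLocalRing (R ⧸ (IsLocalRing.maximalIdeal R').map φ) := by
  unfold Dual3.IsGorensteinAt
  rw [Groth.Agent.Lib.Helper5.FiberMor.fiber_stalk_iff h u
    Groth.Agent.Lib.Helper5.FiberMor.isoInv_gor]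
  haveI : IsLocalHom (h.stalkMap u).hom := inferInstance
  obtain ⟨e⟩ := Groth.Agent.Lib.Helper5.FiberStalk.nonempty_stalk_asFiber_equiv h u
  haveI : IsNoetherianRing ↥((h.fiber (h u)).presheaf.stalk (h.asFiber u)) := inferInstance
  haveI : IsNoetherianRing (↥(U.presheaf.stalk u) ⧸
      (maximalIdeal ↥(V.presheaf.stalk (h u))).map (h.stalkMap u).hom) :=
    isNoetherianRing_of_ringEquiv _ e
  rw [flat_iff_sh (h.stalkMap u).hom R R' φ hφ, gor_quot_iff_sh (h.stalkMap u).hom R R' φ hφ]

end Sch

end Groth.Agent.Lib.H5bGorSh
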