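import Groth.Prelude
import Groth.Agent.Lib.Helper3Branch

/-!
# Factorizations through strict henselizations

* `exists_lift`: a local homomorphism `A → B` lifts to a local homomorphism between strict
  henselizations.
* `exists_factor`: a local homomorphism `Sh(A) → T` over `A → B → T` (`T` strictly henselian)
  factors through any strict henselization of `B`.
-/

universe u

open IsLocalRing Polynomial

namespace Groth.Agent.Lib.Helper8ShFactor

/-- field theory: roots of separable polynomials land in the image of a separably closed field -/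
theorem mem_range_of_sep {k k' KZ KY Ω : Type u} [Field k] [Field k'] [Field KZ] [Field KY]
    [Field Ω] [Algebra k KZ] [Algebra k' KY] [Algebra.IsSeparable k KZ] [IsSepClosed KY]
    (ι : k →+* k') (τβ : KY →+* Ω) (τρ : KZ →+* Ω)
    (h : τρ.comp (algebraMap k KZ) = (τβ.comp (algebraMap k' KY)).comp ι) (z : KZ) :
    τρ z ∈ τβ.range := by
  have hsep : (minpoly k z).Separable := Algebra.IsSeparable.isSeparable k z
  have hsplit : ((minpoly k z).map ((algebraMap k' KY).comp ι)).Splits :=
    IsSepClosed.splits_codomain _ hsep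
  have hne : (minpoly k z).map ((algebraMap k' KY).comp ι) ≠ 0 :=
    Polynomial.map_ne_zero (minpoly.ne_zero (Algebra.IsSeparable.isIntegral k z))
  refine hsplit.mem_range_of_isRoot hne (i := τβ) ?_
  rw [Polynomial.map_map, IsRoot.def, eval_map]
  have e : τβ.comp ((algebraMap k' KY).comp ι) = τρ.comp (algebraMap k KZ) := by rw [h]; rfl
  rw [e, ← Polynomial.hom_eval₂, ← aeval_def, minpoly.aeval, map_zero]

theorem exists_field_factor {k k' KZ KY Ω : Type u} [Field k] [Field k'] [Field KZ] [Field KY]
    [Field Ω] [Algebra k KZ] [Algebra k' KY] [Algebra.IsSeparable k KZ] [IsSepClosed KY]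
    (ι : k →+* k') (τβ : KY →+* Ω) (τρ : KZ →+* Ω)
    (h : τρ.comp (algebraMap k KZ) = (τβ.comp (algebraMap k' KY)).comp ι) :
    ∃ τα : KZ →+* KY, τβ.comp τα = τρ ∧
      τα.comp (algebraMap k KZ) = (algebraMap k' KY).comp ι := by
  classical
  have hmem : ∀ z, ∃ a : KY, τβ a = τρ z := fun z => mem_range_of_sep ι τβ τρ h z
  choose a ha using hmem
  have hinj : Function.Injective τβ := τβ.injective
  let τα : KZ →+* KY :=
    { toFun := a
      map_one' := hinj (by rw [ha, map_one, map_one])
      map_mul' := fun x y => hinj (by rw [ha, map_mul, map_mul, ha, ha])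
      map_zero' := hinj (by rw [ha, map_zero, map_zero])
      map_add' := fun x y => hinj (by rw [ha, map_add, map_add, ha, ha]) }
  have h1 : τβ.comp τα = τρ := RingHom.ext fun z => ha z
  refine ⟨τα, h1, ?_⟩
  apply RingHom.ext
  intro x
  apply hinj
  have := congrArg (fun φ : k →+* Ω => φ x) h
  simp only [RingHom.comp_apply] at this ⊢
  rw [← this]
  exact ha _

theorem isLocalHom_of_residue {S T : Type u} [CommRing S] [CommRing T] [IsLocalRing S]
    [IsLocalRing T] (g : S →+* T) (τ : ResidueField S →+* ResidueField T)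
    (h : ∀ x, residue T (g x) = τ (residue S x)) : IsLocalHom g := by
  constructor
  intro x hx
  by_contra hnx
  have h1 : residue S x = 0 := (residue_eq_zero_iff x).mpr ((mem_maximalIdeal x).mpr hnx)
  have h2 : residue T (g x) = 0 := by rw [h, h1, map_zero]
  exact ((mem_maximalIdeal _).mp ((residue_eq_zero_iff _).mp h2)) hx

theorem algebraMap_residueField_eq {R S : Type u} [CommRing R] [CommRing S] [IsLocalRing R]
    [IsLocalRing S] [Algebra R S] [IsLocalHom (algebraMap R S)] :
    algebraMap (ResidueField R) (ResidueField S) = ResidueField.map (algebraMap R S) := by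
  apply RingHom.ext
  intro x
  obtain ⟨x, rfl⟩ := residue_surjective x
  rfl

section

variable {A B SA SB : Type u} [CommRing A] [CommRing B] [IsLocalRing A] [IsLocalRing B]
  [CommRing SA] [CommRing SB] [IsLocalRing SA] [IsLocalRing SB]
  [Algebra A SA] [IsLocalHom (algebraMap A SA)] [hSA : Hensel.IsStrictHenselization A SA]
  [Algebra B SB] [IsLocalHom (algebraMap B SB)] [hSB : Hensel.IsStrictHenselization B SB]

/-- a map from a strict henselization `SB` of `B` into a strictly henselian `T` over `B → T`. -/
theorem exists_lift_to {T : Type u} [CommRing T] [HenselianLocalRing T]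
    [IsSepClosed (ResidueField T)] (fB : B →+* T) [IsLocalHom fB] :
    ∃ (β : SB →+* T) (τβ : ResidueField SB →+* ResidueField T), IsLocalHom β ∧
      β.comp (algebraMap B SB) = fB ∧ (∀ x, residue T (β x) = τβ (residue SB x)) ∧
      τβ.comp (algebraMap (ResidueField B) (ResidueField SB)) = ResidueField.map fB := by
  haveI : Algebra.IsSeparable (ResidueField B) (ResidueField SB) := hSB.isSepClosure.separable
  letI : Algebra (ResidueField B) (ResidueField T) := (ResidueField.map fB).toAlgebra
  let l : ResidueField SB →ₐ[ResidueField B] ResidueField T := IsSepClosed.lift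
  have hl : (l : ResidueField SB →+* ResidueField T).comp
      (algebraMap (ResidueField B) (ResidueField SB)) = ResidueField.map fB := l.comp_algebraMap
  have hl' : (l : ResidueField SB →+* ResidueField T).comp
      (ResidueField.map (algebraMap B SB)) = ResidueField.map fB := by
    rw [← algebraMap_residueField_eq]; exact hl
  obtain ⟨β, ⟨hβ1, hβ2⟩, -⟩ := hSB.universal T fB (l : ResidueField SB →+* ResidueField T) hl'
  exact ⟨β, l, isLocalHom_of_residue β _ hβ2, hβ1, hβ2, hl⟩

/-- a local homomorphism lifts to strict henselizations. -/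
theorem exists_lift (φ : A →+* B) [IsLocalHom φ] :
    ∃ ψ : SA →+* SB, IsLocalHom ψ ∧ ψ.comp (algebraMap A SA) = (algebraMap B SB).comp φ := by
  haveI : HenselianLocalRing SB := hSB.henselian
  haveI : IsSepClosed (ResidueField SB) := hSB.isSepClosure.sep_closed
  haveI : IsLocalHom ((algebraMap B SB).comp φ) := RingHom.isLocalHom_comp _ _
  obtain ⟨β, -, h1, h2, -, -⟩ := exists_lift_to (B := A) (SB := SA) ((algebraMap B SB).comp φ)
  exact ⟨β, h1, h2⟩

/-- factorization of `ρ : SA → T` through a strict henselization of `B`. -/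
theorem exists_factor {T : Type u} [CommRing T] [HenselianLocalRing T]
    [IsSepClosed (ResidueField T)] (φ : A →+* B) [IsLocalHom φ] (fB : B →+* T) [IsLocalHom fB]
    (ρ : SA →+* T) [IsLocalHom ρ] (hρ : ρ.comp (algebraMap A SA) = fB.comp φ) :
    ∃ (α : SA →+* SB) (β : SB →+* T), IsLocalHom α ∧ IsLocalHom β ∧
      α.comp (algebraMap A SA) = (algebraMap B SB).comp φ ∧ β.comp (algebraMap B SB) = fB ∧
      β.comp α = ρ := by
  haveI : HenselianLocalRing SB := hSB.henselian
  haveI : IsSepClosed (ResidueField SB) := hSB.isSepClosure.sep_closed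
  haveI : Algebra.IsSeparable (ResidueField A) (ResidueField SA) := hSA.isSepClosure.separable
  obtain ⟨β, τβ, hβloc, hβ1, hβ2, hβ3⟩ := exists_lift_to (SB := SB) fB
  have hτ : (ResidueField.map ρ).comp (algebraMap (ResidueField A) (ResidueField SA)) =
      (τβ.comp (algebraMap (ResidueField B) (ResidueField SB))).comp (ResidueField.map φ) := by
    rw [hβ3, algebraMap_residueField_eq, ← ResidueField.map_comp, ← ResidueField.map_comp]
    congr 1
  obtain ⟨τα, hτα1, hτα2⟩ := exists_field_factor (ResidueField.map φ) τβ (ResidueField.map ρ) hτ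
  haveI : IsLocalHom ((algebraMap B SB).comp φ) := RingHom.isLocalHom_comp _ _
  have hα0 : τα.comp (ResidueField.map (algebraMap A SA)) =
      ResidueField.map ((algebraMap B SB).comp φ) := by
    rw [← algebraMap_residueField_eq, hτα2, algebraMap_residueField_eq, ← ResidueField.map_comp]
  obtain ⟨α, ⟨hα1, hα2⟩, -⟩ := hSA.universal SB ((algebraMap B SB).comp φ) τα hα0
  haveI hαloc : IsLocalHom α := isLocalHom_of_residue α τα hα2
  haveI : IsLocalHom (fB.comp φ) := RingHom.isLocalHom_comp _ _
  have hρ0 : (ResidueField.map ρ).comp (ResidueField.map (algebraMap A SA)) =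
      ResidueField.map (fB.comp φ) := by
    rw [← ResidueField.map_comp]
    congr 1
  obtain ⟨γ, -, hγ⟩ := hSA.universal T (fB.comp φ) (ResidueField.map ρ) hρ0
  have e1 : β.comp α = γ := by
    apply hγ
    refine ⟨?_, fun x => ?_⟩
    · rw [RingHom.comp_assoc, hα1, ← RingHom.comp_assoc, hβ1]
    · rw [RingHom.comp_apply, hβ2, hα2, ← hτα1]
      rfl
  have e2 : ρ = γ := by
    apply hγ
    exact ⟨hρ, fun x => rfl⟩
  exact ⟨α, β, hαloc, hβloc, hα1, hβ1, e1.trans e2.symm⟩

end

end Groth.Agent.Lib.Helper8ShFactor
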