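import Mathlib
import Groth.Prelude.Def_Hensel
import Groth.Prelude.Def_CAlg2
import Groth.Prelude.Def_CAlgX
import Groth.Agent.S2135
import Groth.Agent.Lib.H5bGorSh
import Groth.Agent.Lib.Helper8ShFactor
import Groth.Agent.Lib.Helper3Branch

/-!
# Geometric unibranchness descends along flat local homomorphisms (helper5)

* `hasUniqueMinimalPrime_of_flat`: for a flat local homomorphism `SA → SB` of local rings, if `SB`
  has a unique minimal prime so has `SA`;
* `isGeomUnibranch_of_flat`: for a flat local homomorphism `A → B` of local rings, if `B` is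
  geometrically unibranch so is `A` (through strict henselizations, `S2135`).
-/

set_option autoImplicit false
set_option linter.style.haveILetI false
universe u

namespace Groth.Agent.Lib.H5bGeomUniFlat

open IsLocalRing

theorem hasUniqueMinimalPrime_of_flat {SA SB : Type u} [CommRing SA] [CommRing SB]
    [IsLocalRing SA] [IsLocalRing SB] (ψ : SA →+* SB) [hloc : IsLocalHom ψ] (hψ : ψ.Flat)
    (h : CAlgX.HasUniqueMinimalPrime SB) : CAlgX.HasUniqueMinimalPrime SA := by
  letI := ψ.toAlgebra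
  haveI : Module.Flat SA SB := hψ
  haveI : IsLocalHom (algebraMap SA SB) := hloc
  haveI : Module.FaithfullyFlat SA SB := Module.FaithfullyFlat.of_flat_of_isLocalHom
  obtain ⟨q0, hq0, huniq⟩ := h
  haveI : q0.IsPrime := hq0.1.1
  have key : ∀ p ∈ minimalPrimes SA, p = q0.comap ψ := by
    intro p hp
    haveI : p.IsPrime := hp.1.1
    obtain ⟨Q, hQ⟩ := PrimeSpectrum.comap_surjective_of_faithfullyFlat (A := SA) (B := SB)
      ⟨p, inferInstance⟩
    have hQp : Q.asIdeal.comap ψ = p := congrArg PrimeSpectrum.asIdeal hQ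
    obtain ⟨q', hq', hle⟩ := Ideal.exists_minimalPrimes_le (I := ⊥) (J := Q.asIdeal) bot_le
    have hq'0 : q' = q0 := huniq q' hq'
    subst hq'0
    have h1 : q'.comap ψ ≤ p := hQp ▸ Ideal.comap_mono hle
    exact le_antisymm (hp.2 ⟨inferInstance, bot_le⟩ h1) h1
  obtain ⟨p, hp, -⟩ := Ideal.exists_minimalPrimes_le (I := (⊥ : Ideal SA))
    (J := maximalIdeal SA) bot_le
  exact ⟨p, hp, fun p' hp' => (key p' hp').trans (key p hp).symm⟩

theorem isGeomUnibranch_of_flat {A B : Type u} [CommRing A] [CommRing B] [IsLocalRing A]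
    [IsLocalRing B] (α : A →+* B) [IsLocalHom α] (hα : α.Flat) (hB : CAlg2.IsGeomUnibranch B) :
    CAlg2.IsGeomUnibranch A := by
  obtain ⟨SA, _, _, _, _, hSA⟩ := Groth.Agent.Lib.Helper3.Branch.exists_isStrictHenselization A
  obtain ⟨SB, _, _, _, _, hSB⟩ := Groth.Agent.Lib.Helper3.Branch.exists_isStrictHenselization B
  obtain ⟨ψ, hψloc, hψ⟩ := Groth.Agent.Lib.Helper8ShFactor.exists_lift (SA := SA) (SB := SB) α
  have hψf : ψ.Flat := (Groth.Agent.Lib.H5bGorSh.flat_iff_sh α SB SA ψ hψ).1 hα
  rw [Groth.Agent.S2135.result (A := A) (Ash := SA)]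
  exact hasUniqueMinimalPrime_of_flat ψ hψf
    ((Groth.Agent.S2135.result (A := B) (Ash := SB)).1 hB)

end Groth.Agent.Lib.H5bGeomUniFlat
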