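import Mathlib
import Groth.Prelude.Def_AlgSpGpd
import Groth.Prelude.Def_AlgSpCov
import Groth.Agent.Lib.Helper12LargestOpen
import Groth.Agent.S10194
import Groth.Agent.S10195

/-!
# The largest open over which the source map of a groupoid has `P` is invariant (helper5)
-/

set_option autoImplicit false
universe u
open CategoryTheory CategoryTheory.Limits AlgebraicGeometry Opposite TopologicalSpace
open AlgSp

namespace Groth.Agent.Lib.H5bGpdInv

open Groth.Agent.Lib.Helper12.LargestOpen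

variable {S : Scheme.{u}} {B : AlgSp.Sp S} (G : AlgSp.GroupoidSp B)

/-- composition on `T`-valued points. -/
noncomputable def cmp {T : AlgSp.Sp S} (α β : T ⟶ G.R) (h : α ≫ G.s = β ≫ G.t) : T ⟶ G.R :=
  pullback.lift α β h ≫ G.c

lemma cmp_congr {T : AlgSp.Sp S} {α α' β β' : T ⟶ G.R} (hα : α = α') (hβ : β = β')
    (h : α ≫ G.s = β ≫ G.t) (h' : α' ≫ G.s = β' ≫ G.t) : cmp G α β h = cmp G α' β' h' := by
  subst hα hβ
  rfl

lemma cmp_s {T : AlgSp.Sp S} (α β : T ⟶ G.R) (h : α ≫ G.s = β ≫ G.t) :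
    cmp G α β h ≫ G.s = β ≫ G.s := G.comp_s α β h

lemma cmp_t {T : AlgSp.Sp S} (α β : T ⟶ G.R) (h : α ≫ G.s = β ≫ G.t) :
    cmp G α β h ≫ G.t = α ≫ G.t := G.comp_t α β h

lemma cmp_assoc {T : AlgSp.Sp S} (α β γ : T ⟶ G.R) (h₁ : α ≫ G.s = β ≫ G.t)
    (h₂ : β ≫ G.s = γ ≫ G.t) :
    cmp G (cmp G α β h₁) γ ((cmp_s G α β h₁).trans h₂) =
      cmp G α (cmp G β γ h₂) (h₁.trans (cmp_t G β γ h₂).symm) := G.assoc α β γ h₁ h₂

lemma cmp_e {T : AlgSp.Sp S} (α : T ⟶ G.R) (h : α ≫ G.s = (α ≫ G.s ≫ G.e) ≫ G.t) :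
    cmp G α (α ≫ G.s ≫ G.e) h = α := G.comp_e α

lemma cmp_i_left {T : AlgSp.Sp S} (α : T ⟶ G.R) (h : (α ≫ G.i) ≫ G.s = α ≫ G.t) :
    cmp G (α ≫ G.i) α h = α ≫ G.s ≫ G.e := G.i_comp α

lemma cmp_i_right {T : AlgSp.Sp S} (α : T ⟶ G.R) (h : α ≫ G.s = (α ≫ G.i) ≫ G.t) :
    cmp G α (α ≫ G.i) h = α ≫ G.t ≫ G.e := G.comp_i α

lemma lift_fst_snd_c :
    cmp G (pullback.fst G.s G.t) (pullback.snd G.s G.t) pullback.condition = G.c := by
  have : pullback.lift (pullback.fst G.s G.t) (pullback.snd G.s G.t) pullback.condition =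
      𝟙 (pullback G.s G.t) := by
    apply pullback.hom_ext <;> simp
  show pullback.lift _ _ _ ≫ G.c = G.c
  rw [this, Category.id_comp]

lemma precomp_cmp {T T' : AlgSp.Sp S} (m : T' ⟶ T) (α β : T ⟶ G.R) (h : α ≫ G.s = β ≫ G.t) :
    m ≫ cmp G α β h = cmp G (m ≫ α) (m ≫ β) (by rw [Category.assoc, Category.assoc, h]) := by
  show m ≫ pullback.lift α β h ≫ G.c = pullback.lift (m ≫ α) (m ≫ β) _ ≫ G.c
  rw [← Category.assoc]
  congr 1
  apply pullback.hom_ext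
  · rw [Category.assoc, pullback.lift_fst, pullback.lift_fst]
  · rw [Category.assoc, pullback.lift_snd, pullback.lift_snd]

/-- the second projection `R ×_{s,U,t} R ⟶ R` is also the base change of `s` along `s`, through
the composition. -/
theorem isPullback_c_snd : IsPullback G.c (pullback.snd G.s G.t) G.s G.s := by
  have hcomm : G.c ≫ G.s = pullback.snd G.s G.t ≫ G.s := by
    have := cmp_s G (pullback.fst G.s G.t) (pullback.snd G.s G.t) pullback.condition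
    rwa [lift_fst_snd_c] at this
  refine IsPullback.of_isLimit' ⟨hcomm⟩ (PullbackCone.IsLimit.mk _
    (fun c => pullback.lift
      (cmp G c.fst (c.snd ≫ G.i) (by rw [Category.assoc, G.i_t]; exact c.condition)) c.snd
      (by rw [cmp_s, Category.assoc, G.i_s])) ?_ ?_ ?_)
  · intro c
    have hα : cmp G c.fst (c.snd ≫ G.i) (by rw [Category.assoc, G.i_t]; exact c.condition) ≫ G.s =
        c.snd ≫ G.t := by rw [cmp_s, Category.assoc, G.i_s]
    show cmp G (cmp G c.fst (c.snd ≫ G.i) _) c.snd hα = c.fst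
    have h2 : (c.snd ≫ G.i) ≫ G.s = c.snd ≫ G.t := by rw [Category.assoc, G.i_s]
    have h1 : c.fst ≫ G.s = (c.snd ≫ G.i) ≫ G.t := by
      rw [Category.assoc, G.i_t]; exact c.condition
    rw [cmp_congr G rfl rfl hα ((cmp_s G c.fst (c.snd ≫ G.i) h1).trans h2),
      cmp_assoc G c.fst (c.snd ≫ G.i) c.snd h1 h2]
    have h3 : cmp G (c.snd ≫ G.i) c.snd h2 = c.fst ≫ G.s ≫ G.e := by
      rw [cmp_i_left, ← Category.assoc, ← c.condition, Category.assoc]
    have h4 : c.fst ≫ G.s = (c.fst ≫ G.s ≫ G.e) ≫ G.t := by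
      simp only [Category.assoc, G.e_t, Category.comp_id]
    rw [cmp_congr G rfl h3 _ h4, cmp_e]
  · intro c
    exact pullback.lift_snd _ _ _
  · intro c m hm1 hm2
    have hα' : (m ≫ pullback.fst G.s G.t) ≫ G.s = c.snd ≫ G.t := by
      rw [Category.assoc, pullback.condition, ← Category.assoc, hm2]
    have hγ : cmp G (m ≫ pullback.fst G.s G.t) c.snd hα' = c.fst := by
      rw [← hm1, ← lift_fst_snd_c, precomp_cmp]
      exact cmp_congr G rfl hm2.symm _ _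
    apply pullback.hom_ext
    · rw [pullback.lift_fst]
      -- `α' = γ ∘ β⁻¹`
      have h2 : c.snd ≫ G.s = (c.snd ≫ G.i) ≫ G.t := by rw [Category.assoc, G.i_t]
      have e1 : cmp G c.fst (c.snd ≫ G.i) (by rw [Category.assoc, G.i_t]; exact c.condition) =
          cmp G (cmp G (m ≫ pullback.fst G.s G.t) c.snd hα') (c.snd ≫ G.i)
            ((cmp_s G _ _ hα').trans h2) := cmp_congr G hγ.symm rfl _ _
      rw [e1, cmp_assoc G (m ≫ pullback.fst G.s G.t) c.snd (c.snd ≫ G.i) hα' h2]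
      have h3 : cmp G c.snd (c.snd ≫ G.i) h2 =
          (m ≫ pullback.fst G.s G.t) ≫ G.s ≫ G.e := by
        rw [cmp_i_right, ← Category.assoc, ← hα', Category.assoc]
      have h4 : (m ≫ pullback.fst G.s G.t) ≫ G.s =
          ((m ≫ pullback.fst G.s G.t) ≫ G.s ≫ G.e) ≫ G.t := by
        simp only [Category.assoc, G.e_t, Category.comp_id]
      rw [cmp_congr G rfl h3 _ h4, cmp_e]
    · rw [pullback.lift_snd]
      exact hm2

variable {G}

/-- `P` only depends on the base change up to the choice of the pullback square. -/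
lemma P_of_isPullback {Q P : MorphismProperty (AlgSp.Sp S)} (hQ : CovProp Q)
    (hP : AlgSp.IsLocalOnBase (fun _ _ Y g => AlgSp.IsCover Q Y g) P)
    {X Y Y' X₁ X₂ : AlgSp.Sp S} (hX : AlgSp.IsAlgSpace X) (hY : AlgSp.IsAlgSpace Y)
    (hY' : AlgSp.IsAlgSpace Y') (f : X ⟶ Y) (j : Y' ⟶ Y)
    {a₁ : X₁ ⟶ X} {f₁ : X₁ ⟶ Y'} {a₂ : X₂ ⟶ X} {f₂ : X₂ ⟶ Y'}
    (sq₁ : IsPullback a₁ f₁ f j) (sq₂ : IsPullback a₂ f₂ f j) (h : P f₁) : P f₂ := by
  have hid : ∀ A : AlgSp.Sp S, AlgSp.IsAlgSpace A → Q (𝟙 A) := fun A hA =>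
    hQ.of_open hA hA (𝟙 A) (Groth.Agent.S9937.repWith_of_isIso @IsOpenImmersion (𝟙 A))
  have hX₁ : AlgSp.IsAlgSpace X₁ :=
    Groth.Agent.S9874.isAlgSpace_of_isPullback hY.diag hX hY' sq₁
  have hX₂ : AlgSp.IsAlgSpace X₂ :=
    Groth.Agent.S9874.isAlgSpace_of_isPullback hY.diag hX hY' sq₂
  have hw : a₂ ≫ f = f₂ ≫ j := sq₂.w
  have e1 : sq₁.lift a₂ f₂ hw ≫ f₁ = f₂ ≫ 𝟙 Y' := by rw [sq₁.lift_snd, Category.comp_id]
  haveI : IsIso (sq₁.lift a₂ f₂ hw) := by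
    refine ⟨sq₂.lift a₁ f₁ sq₁.w, ?_, ?_⟩
    · apply sq₂.hom_ext <;> simp
    · apply sq₁.hom_ext <;> simp
  have sq : IsPullback (sq₁.lift a₂ f₂ hw) f₂ f₁ (𝟙 Y') := IsPullback.of_horiz_isIso ⟨e1⟩
  exact baseChange_of_local hid hP hX₁ hY' hX₂ hY' f₁ (𝟙 Y') f₂ _ sq (hid Y' hY') h

/-- the main invariance statement. -/
theorem isInvariant_of_largest {Q P : MorphismProperty (AlgSp.Sp S)} (hQ : CovProp Q)
    (hP : AlgSp.IsLocalOnBase (fun _ _ Y g => AlgSp.IsCover Q Y g) P)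
    (hU : AlgSp.IsAlgSpace G.U) (hR : AlgSp.IsAlgSpace G.R) (hs : Q G.s) (ht : Q G.t)
    {W : AlgSp.Sp S} (hWsp : AlgSp.IsAlgSpace W) (w : W ⟶ G.U)
    (hw : AlgSp.RepWith @IsOpenImmersion w)
    (hmax : ∀ (W' : AlgSp.Sp S) (w' : W' ⟶ G.U), AlgSp.IsAlgSpace W' →
      AlgSp.RepWith @IsOpenImmersion w' →
      (P (pullback.snd G.s w') ↔ ∃ k : W' ⟶ W, k ≫ w = w')) :
    G.IsInvariant w := by
  obtain ⟨W₀, h1, h2, -, h4⟩ := main hQ hP
    (X := ⟨G.R, hR⟩) (Y := ⟨G.U, hU⟩) (ObjectProperty.homMk G.s)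
  -- `|W| = W₀`
  have hWopen : IsOpen (Set.range (AlgSp.Points.map w)) := by
    rw [← Set.image_univ]
    exact hQ.isOpenMap hWsp hU w (hQ.of_open hWsp hU w hw) _ isOpen_univ
  have hW₀ : Set.range (AlgSp.Points.map w) = (W₀ : Set (AlgSp.Points G.U)) := by
    apply Set.Subset.antisymm
    · refine h2 ⟨_, hWopen⟩ ?_
      intro W₁ X₁ j₁ j₁' f₁ hj₁ hr₁ sq₁
      obtain ⟨k, hk⟩ := (Groth.Agent.S10194.exists_factor_iff w hw j₁.hom).2 (by rw [hr₁]; rfl)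
      have hp : P (pullback.snd G.s j₁.hom) := (hmax W₁.obj j₁.hom W₁.property hj₁).2 ⟨k, hk⟩
      exact P_of_isPullback hQ hP hR hU W₁.property G.s j₁.hom
        (IsPullback.of_hasPullback G.s j₁.hom) sq₁ hp
    · obtain ⟨W₀', j₀, hj₀, hr₀⟩ := Groth.Agent.S10195.result ⟨G.U, hU⟩
        (W₀ : Set (AlgSp.Points G.U)) W₀.2
      have hpa : AlgSp.IsAlgSpace (pullback G.s j₀.hom) :=
        Groth.Agent.S9874.isAlgSpace_of_isPullback hU.diag hR W₀'.property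
          (IsPullback.of_hasPullback G.s j₀.hom)
      have hp : P (pullback.snd G.s j₀.hom) :=
        h1 W₀' ⟨pullback G.s j₀.hom, hpa⟩ j₀ (ObjectProperty.homMk (pullback.fst G.s j₀.hom))
          (ObjectProperty.homMk (pullback.snd G.s j₀.hom)) hj₀ hr₀
          (IsPullback.of_hasPullback G.s j₀.hom)
      obtain ⟨k, hk⟩ := (hmax W₀'.obj j₀.hom W₀'.property hj₀).1 hp
      rw [← hr₀]
      exact (Groth.Agent.S10194.exists_factor_iff w hw j₀.hom).1 ⟨k, hk⟩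
  -- the largest open of `R` over which the projection has `P`
  have hPRa : AlgSp.IsAlgSpace (pullback G.s G.t) :=
    Groth.Agent.S9874.isAlgSpace_of_isPullback hU.diag hR hR (IsPullback.of_hasPullback G.s G.t)
  obtain ⟨W', k1, k2, -, -⟩ := main hQ hP
    (X := ⟨pullback G.s G.t, hPRa⟩) (Y := ⟨G.R, hR⟩)
    (ObjectProperty.homMk (pullback.snd G.s G.t))
  have eqT : (W' : Set (AlgSp.Points G.R)) =
      AlgSp.Points.map G.t ⁻¹' (W₀ : Set (AlgSp.Points G.U)) :=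
    h4 ⟨G.R, hR⟩ ⟨pullback G.s G.t, hPRa⟩ (ObjectProperty.homMk G.t)
      (ObjectProperty.homMk (pullback.fst G.s G.t))
      (ObjectProperty.homMk (pullback.snd G.s G.t)) ht (IsPullback.of_hasPullback G.s G.t)
      W' k1 k2
  have eqS : (W' : Set (AlgSp.Points G.R)) =
      AlgSp.Points.map G.s ⁻¹' (W₀ : Set (AlgSp.Points G.U)) :=
    h4 ⟨G.R, hR⟩ ⟨pullback G.s G.t, hPRa⟩ (ObjectProperty.homMk G.s)
      (ObjectProperty.homMk G.c)
      (ObjectProperty.homMk (pullback.snd G.s G.t)) hs (isPullback_c_snd G)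
      W' k1 k2
  intro T r
  rw [Groth.Agent.S10194.exists_factor_iff w hw (r ≫ G.t),
    Groth.Agent.S10194.exists_factor_iff w hw (r ≫ G.s), hW₀]
  constructor
  · rintro H _ ⟨x, rfl⟩
    have hx : AlgSp.Points.map r x ∈ AlgSp.Points.map G.t ⁻¹' (W₀ : Set (AlgSp.Points G.U)) := by
      rw [Set.mem_preimage]
      rw [← AlgSp.Points.map_comp]
      exact H ⟨x, rfl⟩
    rw [← eqT, eqS] at hx
    rw [AlgSp.Points.map_comp]
    exact hx
  · rintro H _ ⟨x, rfl⟩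
    have hx : AlgSp.Points.map r x ∈ AlgSp.Points.map G.s ⁻¹' (W₀ : Set (AlgSp.Points G.U)) := by
      rw [Set.mem_preimage]
      rw [← AlgSp.Points.map_comp]
      exact H ⟨x, rfl⟩
    rw [← eqS, eqT] at hx
    rw [AlgSp.Points.map_comp]
    exact hx

end Groth.Agent.Lib.H5bGpdInv
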