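import Mathlib
import Groth.Agent.Lib.H5bGpdInv

/-!
# Invariance of largest opens for groupoids: the general form and the stabilizer (helper5)
-/

set_option autoImplicit false
universe u
open CategoryTheory CategoryTheory.Limits AlgebraicGeometry Opposite TopologicalSpace
open AlgSp

namespace Groth.Agent.Lib.H5bGpdInv

open Groth.Agent.Lib.Helper12.LargestOpen

variable {S : Scheme.{u}} {B : AlgSp.Sp S} (G : AlgSp.GroupoidSp B)

lemma e_cmp {T : AlgSp.Sp S} (α : T ⟶ G.R) (h : (α ≫ G.t ≫ G.e) ≫ G.s = α ≫ G.t) :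
    cmp G (α ≫ G.t ≫ G.e) α h = α := G.e_comp α

lemma s_e_t {T : AlgSp.Sp S} (x : T ⟶ G.U) : (x ≫ G.e) ≫ G.t = x := by
  rw [Category.assoc, G.e_t, Category.comp_id]

lemma s_e_s {T : AlgSp.Sp S} (x : T ⟶ G.U) : (x ≫ G.e) ≫ G.s = x := by
  rw [Category.assoc, G.e_s, Category.comp_id]

/-- `(α ∘ β⁻¹) ∘ β = α`. -/
lemma cmp_cancel_right_inv {T : AlgSp.Sp S} (α β : T ⟶ G.R) (h : α ≫ G.s = β ≫ G.s)
    (h1 : α ≫ G.s = (β ≫ G.i) ≫ G.t) (h2 : cmp G α (β ≫ G.i) h1 ≫ G.s = β ≫ G.t) :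
    cmp G (cmp G α (β ≫ G.i) h1) β h2 = α := by
  have h2' : (β ≫ G.i) ≫ G.s = β ≫ G.t := by rw [Category.assoc, G.i_s]
  rw [cmp_congr G rfl rfl h2 ((cmp_s G α (β ≫ G.i) h1).trans h2'),
    cmp_assoc G α (β ≫ G.i) β h1 h2']
  have h3 : cmp G (β ≫ G.i) β h2' = α ≫ G.s ≫ G.e := by
    rw [cmp_i_left, ← Category.assoc, ← h, Category.assoc]
  have h4 : α ≫ G.s = (α ≫ G.s ≫ G.e) ≫ G.t := by
    simp only [Category.assoc, G.e_t, Category.comp_id]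
  rw [cmp_congr G rfl h3 _ h4, cmp_e]

/-- `(α ∘ β) ∘ β⁻¹ = α`. -/
lemma cmp_cancel_right {T : AlgSp.Sp S} (α β : T ⟶ G.R) (h : α ≫ G.s = β ≫ G.t)
    (h2 : cmp G α β h ≫ G.s = (β ≫ G.i) ≫ G.t) :
    cmp G (cmp G α β h) (β ≫ G.i) h2 = α := by
  have h2' : β ≫ G.s = (β ≫ G.i) ≫ G.t := by rw [Category.assoc, G.i_t]
  rw [cmp_congr G rfl rfl h2 ((cmp_s G α β h).trans h2'),
    cmp_assoc G α β (β ≫ G.i) h h2']
  have h3 : cmp G β (β ≫ G.i) h2' = α ≫ G.s ≫ G.e := by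
    rw [cmp_i_right, ← Category.assoc, ← h, Category.assoc]
  have h4 : α ≫ G.s = (α ≫ G.s ≫ G.e) ≫ G.t := by
    simp only [Category.assoc, G.e_t, Category.comp_id]
  rw [cmp_congr G rfl h3 _ h4, cmp_e]

/-- `α⁻¹ ∘ (α ∘ β) = β`. -/
lemma cmp_cancel_left {T : AlgSp.Sp S} (α β : T ⟶ G.R) (h : α ≫ G.s = β ≫ G.t)
    (h' : (α ≫ G.i) ≫ G.s = cmp G α β h ≫ G.t) :
    cmp G (α ≫ G.i) (cmp G α β h) h' = β := by
  have h0 : (α ≫ G.i) ≫ G.s = α ≫ G.t := by rw [Category.assoc, G.i_s]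
  have e1 := cmp_assoc G (α ≫ G.i) α β h0 h
  rw [cmp_congr G rfl rfl h' (h0.trans (cmp_t G α β h).symm), ← e1]
  have h3 : cmp G (α ≫ G.i) α h0 = β ≫ G.t ≫ G.e := by
    rw [cmp_i_left, ← Category.assoc, h, Category.assoc]
  have h4 : (β ≫ G.t ≫ G.e) ≫ G.s = β ≫ G.t := by
    simp only [Category.assoc, G.e_s, Category.comp_id]
  rw [cmp_congr G h3 rfl _ h4, e_cmp]

/-- `α ∘ (α⁻¹ ∘ β) = β`. -/
lemma cmp_cancel_left_inv {T : AlgSp.Sp S} (α β : T ⟶ G.R) (h : α ≫ G.t = β ≫ G.t)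
    (h1 : (α ≫ G.i) ≫ G.s = β ≫ G.t) (h2 : α ≫ G.s = cmp G (α ≫ G.i) β h1 ≫ G.t) :
    cmp G α (cmp G (α ≫ G.i) β h1) h2 = β := by
  have h0 : α ≫ G.s = (α ≫ G.i) ≫ G.t := by rw [Category.assoc, G.i_t]
  have e1 := cmp_assoc G α (α ≫ G.i) β h0 h1
  rw [cmp_congr G rfl rfl h2 (h0.trans (cmp_t G (α ≫ G.i) β h1).symm), ← e1]
  have h3 : cmp G α (α ≫ G.i) h0 = β ≫ G.t ≫ G.e := by
    rw [cmp_i_right, ← Category.assoc, h, Category.assoc]
  have h4 : (β ≫ G.t ≫ G.e) ≫ G.s = β ≫ G.t := by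
    simp only [Category.assoc, G.e_s, Category.comp_id]
  rw [cmp_congr G h3 rfl _ h4, e_cmp]

/-! ### points of the stabilizer -/

lemma stab_ι_t : G.stabilizerι ≫ G.t = G.stabilizerToU := by
  have h : G.stabilizerι ≫ G.j = G.stabilizerToU ≫ G.diag := pullback.condition
  have h1 := congrArg (fun m => m ≫ pullback.fst G.pU G.pU) h
  simp only [Category.assoc, GroupoidSp.j_fst] at h1
  rw [h1]
  show G.stabilizerToU ≫ pullback.lift (𝟙 G.U) (𝟙 G.U) rfl ≫ pullback.fst G.pU G.pU = _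
  rw [pullback.lift_fst, Category.comp_id]

lemma stab_ι_s : G.stabilizerι ≫ G.s = G.stabilizerToU := by
  have h : G.stabilizerι ≫ G.j = G.stabilizerToU ≫ G.diag := pullback.condition
  have h1 := congrArg (fun m => m ≫ pullback.snd G.pU G.pU) h
  simp only [Category.assoc, GroupoidSp.j_snd] at h1
  rw [h1]
  show G.stabilizerToU ≫ pullback.lift (𝟙 G.U) (𝟙 G.U) rfl ≫ pullback.snd G.pU G.pU = _
  rw [pullback.lift_snd, Category.comp_id]

/-- a point of the stabilizer from an arrow with equal source and target. -/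
noncomputable def mkStab {T : AlgSp.Sp S} (ρ : T ⟶ G.R) (h : ρ ≫ G.t = ρ ≫ G.s) :
    T ⟶ G.stabilizer :=
  pullback.lift ρ (ρ ≫ G.s) (by
    apply pullback.hom_ext
    · rw [Category.assoc, GroupoidSp.j_fst, Category.assoc]
      show _ = ρ ≫ G.s ≫ pullback.lift (𝟙 G.U) (𝟙 G.U) rfl ≫ pullback.fst G.pU G.pU
      rw [pullback.lift_fst, Category.comp_id, h]
    · rw [Category.assoc, GroupoidSp.j_snd, Category.assoc]
      show _ = ρ ≫ G.s ≫ pullback.lift (𝟙 G.U) (𝟙 G.U) rfl ≫ pullback.snd G.pU G.pU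
      rw [pullback.lift_snd, Category.comp_id])

lemma mkStab_ι {T : AlgSp.Sp S} (ρ : T ⟶ G.R) (h : ρ ≫ G.t = ρ ≫ G.s) :
    mkStab G ρ h ≫ G.stabilizerι = ρ := pullback.lift_fst _ _ _

lemma mkStab_toU {T : AlgSp.Sp S} (ρ : T ⟶ G.R) (h : ρ ≫ G.t = ρ ≫ G.s) :
    mkStab G ρ h ≫ G.stabilizerToU = ρ ≫ G.s := pullback.lift_snd _ _ _

lemma stab_ext {T : AlgSp.Sp S} (σ σ' : T ⟶ G.stabilizer)
    (h : σ ≫ G.stabilizerι = σ' ≫ G.stabilizerι) : σ = σ' := by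
  apply pullback.hom_ext
  · exact h
  · show σ ≫ G.stabilizerToU = σ' ≫ G.stabilizerToU
    rw [← stab_ι_s, ← Category.assoc, h, Category.assoc]

/-! ### conjugation -/

/-- `r⁻¹ ∘ γ ∘ r` for `γ` an automorphism of the target of `r`. -/
noncomputable def conj {T : AlgSp.Sp S} (γ r : T ⟶ G.R) (hs : γ ≫ G.s = r ≫ G.t)
    (ht : γ ≫ G.t = r ≫ G.t) : T ⟶ G.R :=
  cmp G (cmp G (r ≫ G.i) γ (by rw [Category.assoc, G.i_s, ht])) r (by rw [cmp_s, hs])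

lemma conj_s {T : AlgSp.Sp S} (γ r : T ⟶ G.R) (hs : γ ≫ G.s = r ≫ G.t)
    (ht : γ ≫ G.t = r ≫ G.t) : conj G γ r hs ht ≫ G.s = r ≫ G.s := cmp_s G _ _ _

lemma conj_t {T : AlgSp.Sp S} (γ r : T ⟶ G.R) (hs : γ ≫ G.s = r ≫ G.t)
    (ht : γ ≫ G.t = r ≫ G.t) : conj G γ r hs ht ≫ G.t = r ≫ G.s := by
  show cmp G _ r _ ≫ G.t = _
  rw [cmp_t, cmp_t, Category.assoc, G.i_t]

/-- `r ∘ δ ∘ r⁻¹` for `δ` an automorphism of the source of `r`. -/
noncomputable def conj' {T : AlgSp.Sp S} (δ r : T ⟶ G.R) (hs : δ ≫ G.s = r ≫ G.s)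
    (ht : δ ≫ G.t = r ≫ G.s) : T ⟶ G.R :=
  cmp G (cmp G r δ ht.symm) (r ≫ G.i) (by rw [cmp_s, hs, Category.assoc, G.i_t])

lemma conj'_s {T : AlgSp.Sp S} (δ r : T ⟶ G.R) (hs : δ ≫ G.s = r ≫ G.s)
    (ht : δ ≫ G.t = r ≫ G.s) : conj' G δ r hs ht ≫ G.s = r ≫ G.t := by
  show cmp G _ (r ≫ G.i) _ ≫ G.s = _
  rw [cmp_s, Category.assoc, G.i_s]

lemma conj'_t {T : AlgSp.Sp S} (δ r : T ⟶ G.R) (hs : δ ≫ G.s = r ≫ G.s)
    (ht : δ ≫ G.t = r ≫ G.s) : conj' G δ r hs ht ≫ G.t = r ≫ G.t := by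
  show cmp G _ (r ≫ G.i) _ ≫ G.t = _
  rw [cmp_t, cmp_t]

lemma conj_congr {T : AlgSp.Sp S} {γ γ' r r' : T ⟶ G.R} (hγ : γ = γ') (hr : r = r')
    (hs : γ ≫ G.s = r ≫ G.t) (ht : γ ≫ G.t = r ≫ G.t) (hs' : γ' ≫ G.s = r' ≫ G.t)
    (ht' : γ' ≫ G.t = r' ≫ G.t) : conj G γ r hs ht = conj G γ' r' hs' ht' := by
  subst hγ hr
  rfl

lemma conj'_congr {T : AlgSp.Sp S} {δ δ' r r' : T ⟶ G.R} (hδ : δ = δ') (hr : r = r')
    (hs : δ ≫ G.s = r ≫ G.s) (ht : δ ≫ G.t = r ≫ G.s) (hs' : δ' ≫ G.s = r' ≫ G.s)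
    (ht' : δ' ≫ G.t = r' ≫ G.s) : conj' G δ r hs ht = conj' G δ' r' hs' ht' := by
  subst hδ hr
  rfl

lemma precomp_conj {T T' : AlgSp.Sp S} (m : T' ⟶ T) (γ r : T ⟶ G.R) (hs : γ ≫ G.s = r ≫ G.t)
    (ht : γ ≫ G.t = r ≫ G.t) :
    m ≫ conj G γ r hs ht = conj G (m ≫ γ) (m ≫ r)
      (by rw [Category.assoc, Category.assoc, hs]) (by rw [Category.assoc, Category.assoc, ht]) := by
  show m ≫ cmp G (cmp G (r ≫ G.i) γ _) r _ = cmp G (cmp G ((m ≫ r) ≫ G.i) (m ≫ γ) _) (m ≫ r) _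
  rw [precomp_cmp]
  refine cmp_congr G ?_ rfl _ _
  rw [precomp_cmp]
  exact cmp_congr G (Category.assoc _ _ _).symm rfl _ _

/-- `r ∘ (r⁻¹ ∘ γ ∘ r) ∘ r⁻¹ = γ`. -/
lemma conj'_conj {T : AlgSp.Sp S} (γ r : T ⟶ G.R) (hs : γ ≫ G.s = r ≫ G.t)
    (ht : γ ≫ G.t = r ≫ G.t) :
    conj' G (conj G γ r hs ht) r (conj_s G γ r hs ht) (conj_t G γ r hs ht) = γ := by
  have h0 : (r ≫ G.i) ≫ G.s = γ ≫ G.t := by rw [Category.assoc, G.i_s, ht]
  have h1 : cmp G (r ≫ G.i) γ h0 ≫ G.s = r ≫ G.t := by rw [cmp_s, hs]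
  have h2 : r ≫ G.s = cmp G (r ≫ G.i) γ h0 ≫ G.t := by rw [cmp_t, Category.assoc, G.i_t]
  -- `r ∘ ((r⁻¹ ∘ γ) ∘ r) = (r ∘ (r⁻¹ ∘ γ)) ∘ r = γ ∘ r`
  have e1 : cmp G r (conj G γ r hs ht) (conj_t G γ r hs ht).symm = cmp G γ r hs := by
    have e2 := cmp_assoc G r (cmp G (r ≫ G.i) γ h0) r h2 h1
    show cmp G r (cmp G (cmp G (r ≫ G.i) γ _) r _) _ = _
    rw [cmp_congr G rfl rfl _ (h2.trans (cmp_t G _ r h1).symm), ← e2]
    refine cmp_congr G ?_ rfl _ _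
    exact cmp_cancel_left_inv G r γ ht.symm h0 h2
  show cmp G (cmp G r (conj G γ r hs ht) _) (r ≫ G.i) _ = γ
  have h3 : cmp G γ r hs ≫ G.s = (r ≫ G.i) ≫ G.t := by rw [cmp_s, Category.assoc, G.i_t]
  rw [cmp_congr G e1 rfl _ h3]
  exact cmp_cancel_right G γ r hs h3

/-- `r⁻¹ ∘ (r ∘ δ ∘ r⁻¹) ∘ r = δ`. -/
lemma conj_conj' {T : AlgSp.Sp S} (δ r : T ⟶ G.R) (hs : δ ≫ G.s = r ≫ G.s)
    (ht : δ ≫ G.t = r ≫ G.s) :
    conj G (conj' G δ r hs ht) r (conj'_s G δ r hs ht) (conj'_t G δ r hs ht) = δ := by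
  have h0 : r ≫ G.s = δ ≫ G.t := ht.symm
  have h1 : cmp G r δ h0 ≫ G.s = (r ≫ G.i) ≫ G.t := by rw [cmp_s, hs, Category.assoc, G.i_t]
  have h2 : (r ≫ G.i) ≫ G.s = cmp G r δ h0 ≫ G.t := by rw [cmp_t, Category.assoc, G.i_s]
  -- `r⁻¹ ∘ ((r ∘ δ) ∘ r⁻¹) = (r⁻¹ ∘ (r ∘ δ)) ∘ r⁻¹ = δ ∘ r⁻¹`
  have h3 : δ ≫ G.s = (r ≫ G.i) ≫ G.t := by rw [hs, Category.assoc, G.i_t]
  have e1 : cmp G (r ≫ G.i) (conj' G δ r hs ht)
      (by rw [Category.assoc, G.i_s, conj'_t]) = cmp G δ (r ≫ G.i) h3 := by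
    have e2 := cmp_assoc G (r ≫ G.i) (cmp G r δ h0) (r ≫ G.i) h2 h1
    show cmp G (r ≫ G.i) (cmp G (cmp G r δ _) (r ≫ G.i) _) _ = _
    rw [cmp_congr G rfl rfl _ (h2.trans (cmp_t G _ (r ≫ G.i) h1).symm), ← e2]
    refine cmp_congr G ?_ rfl _ _
    exact cmp_cancel_left G r δ h0 h2
  show cmp G (cmp G (r ≫ G.i) (conj' G δ r hs ht) _) r _ = δ
  have h4 : cmp G δ (r ≫ G.i) h3 ≫ G.s = r ≫ G.t := by rw [cmp_s, Category.assoc, G.i_s]
  rw [cmp_congr G e1 rfl _ h4]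
  exact cmp_cancel_right_inv G δ r hs h3 h4

/-- the conjugation map `Stab ×_{U,t} R ⟶ Stab`. -/
noncomputable def conjMap : pullback G.stabilizerToU G.t ⟶ G.stabilizer :=
  mkStab G (conj G (pullback.fst G.stabilizerToU G.t ≫ G.stabilizerι)
      (pullback.snd G.stabilizerToU G.t)
      (by rw [Category.assoc, stab_ι_s, pullback.condition])
      (by rw [Category.assoc, stab_ι_t, pullback.condition]))
    (by rw [conj_s, conj_t])

/-- `Stab ×_{U,t} R ⟶ R` is also the base change of `Stab ⟶ U` along `s`, through conjugation. -/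
theorem isPullback_conjMap :
    IsPullback (conjMap G) (pullback.snd G.stabilizerToU G.t) G.stabilizerToU G.s := by
  have hcomm : conjMap G ≫ G.stabilizerToU = pullback.snd G.stabilizerToU G.t ≫ G.s := by
    show mkStab G _ _ ≫ G.stabilizerToU = _
    rw [mkStab_toU, conj_s]
  have hι : conjMap G ≫ G.stabilizerι = conj G (pullback.fst G.stabilizerToU G.t ≫ G.stabilizerι)
      (pullback.snd G.stabilizerToU G.t)
      (by rw [Category.assoc, stab_ι_s, pullback.condition])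
      (by rw [Category.assoc, stab_ι_t, pullback.condition]) := mkStab_ι G _ _
  have hds : ∀ c : PullbackCone G.stabilizerToU G.s,
      (c.fst ≫ G.stabilizerι) ≫ G.s = c.snd ≫ G.s := fun c => by
    rw [Category.assoc, stab_ι_s, c.condition]
  have hdt : ∀ c : PullbackCone G.stabilizerToU G.s,
      (c.fst ≫ G.stabilizerι) ≫ G.t = c.snd ≫ G.s := fun c => by
    rw [Category.assoc, stab_ι_t, c.condition]
  refine IsPullback.of_isLimit' ⟨hcomm⟩ (PullbackCone.IsLimit.mk _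
    (fun c => pullback.lift
      (mkStab G (conj' G (c.fst ≫ G.stabilizerι) c.snd (hds c) (hdt c))
        (by rw [conj'_s, conj'_t])) c.snd
      (by rw [mkStab_toU, conj'_s])) ?_ ?_ ?_)
  · intro c
    apply stab_ext
    rw [Category.assoc, hι, precomp_conj]
    have e1 : pullback.lift (mkStab G (conj' G (c.fst ≫ G.stabilizerι) c.snd (hds c) (hdt c))
        (by rw [conj'_s, conj'_t])) c.snd (by rw [mkStab_toU, conj'_s]) ≫
        pullback.fst G.stabilizerToU G.t ≫ G.stabilizerι =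
        conj' G (c.fst ≫ G.stabilizerι) c.snd (hds c) (hdt c) := by
      rw [← Category.assoc, pullback.lift_fst, mkStab_ι]
    have e2 : pullback.lift (mkStab G (conj' G (c.fst ≫ G.stabilizerι) c.snd (hds c) (hdt c))
        (by rw [conj'_s, conj'_t])) c.snd (by rw [mkStab_toU, conj'_s]) ≫
        pullback.snd G.stabilizerToU G.t = c.snd := pullback.lift_snd _ _ _
    rw [conj_congr G e1 e2 _ _ (conj'_s G _ _ (hds c) (hdt c)) (conj'_t G _ _ (hds c) (hdt c))]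
    exact conj_conj' G _ _ (hds c) (hdt c)
  · intro c
    exact pullback.lift_snd _ _ _
  · intro c m hm1 hm2
    apply pullback.hom_ext
    · rw [pullback.lift_fst]
      apply stab_ext
      rw [mkStab_ι]
      have hγs : (m ≫ pullback.fst G.stabilizerToU G.t ≫ G.stabilizerι) ≫ G.s = c.snd ≫ G.t := by
        rw [Category.assoc, Category.assoc, stab_ι_s, pullback.condition, ← Category.assoc, hm2]
      have hγt : (m ≫ pullback.fst G.stabilizerToU G.t ≫ G.stabilizerι) ≫ G.t = c.snd ≫ G.t := by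
        rw [Category.assoc, Category.assoc, stab_ι_t, pullback.condition, ← Category.assoc, hm2]
      have e3 : c.fst ≫ G.stabilizerι =
          conj G (m ≫ pullback.fst G.stabilizerToU G.t ≫ G.stabilizerι) c.snd hγs hγt := by
        rw [← hm1, Category.assoc, hι, precomp_conj]
        exact conj_congr G rfl hm2 _ _ _ _
      rw [conj'_congr G e3 rfl (hds c) (hdt c) (conj_s G _ _ hγs hγt) (conj_t G _ _ hγs hγt),
        conj'_conj, Category.assoc]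
    · rw [pullback.lift_snd]
      exact hm2

variable {G}

/-- the general invariance statement: the largest open over which `f : X ⟶ U` has `P` is
invariant as soon as the base changes of `f` along `s` and `t` agree. -/
theorem isInvariant_of_squares {Q P : MorphismProperty (AlgSp.Sp S)} (hQ : CovProp Q)
    (hP : AlgSp.IsLocalOnBase (fun _ _ Y g => AlgSp.IsCover Q Y g) P)
    (hU : AlgSp.IsAlgSpace G.U) (hR : AlgSp.IsAlgSpace G.R) (hs : Q G.s) (ht : Q G.t)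
    {X E : AlgSp.Sp S} (hX : AlgSp.IsAlgSpace X) (f : X ⟶ G.U) (pr : E ⟶ G.R) (a b : E ⟶ X)
    (sqT : IsPullback a pr f G.t) (sqS : IsPullback b pr f G.s)
    {W : AlgSp.Sp S} (hWsp : AlgSp.IsAlgSpace W) (w : W ⟶ G.U)
    (hw : AlgSp.RepWith @IsOpenImmersion w)
    (hmax : ∀ (W' : AlgSp.Sp S) (w' : W' ⟶ G.U), AlgSp.IsAlgSpace W' →
      AlgSp.RepWith @IsOpenImmersion w' →
      (P (pullback.snd f w') ↔ ∃ k : W' ⟶ W, k ≫ w = w')) :
    G.IsInvariant w := by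
  have hE : AlgSp.IsAlgSpace E := Groth.Agent.S9874.isAlgSpace_of_isPullback hU.diag hX hR sqT
  obtain ⟨W₀, h1, h2, -, h4⟩ := main hQ hP
    (X := ⟨X, hX⟩) (Y := ⟨G.U, hU⟩) (ObjectProperty.homMk f)
  -- `|W| = W₀`
  have hWopen : IsOpen (Set.range (AlgSp.Points.map w)) := by
    rw [← Set.image_univ]
    exact hQ.isOpenMap hWsp hU w (hQ.of_open hWsp hU w hw) _ isOpen_univ
  have hW₀ : Set.range (AlgSp.Points.map w) = (W₀ : Set (AlgSp.Points G.U)) := by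
    apply Set.Subset.antisymm
    · refine h2 ⟨_, hWopen⟩ ?_
      intro W₁ X₁ j₁ j₁' f₁ hj₁ hr₁ sq₁
      obtain ⟨k, hk⟩ := (Groth.Agent.S10194.exists_factor_iff w hw j₁.hom).2 (by rw [hr₁]; rfl)
      have hp : P (pullback.snd f j₁.hom) := (hmax W₁.obj j₁.hom W₁.property hj₁).2 ⟨k, hk⟩
      exact P_of_isPullback hQ hP hX hU W₁.property f j₁.hom
        (IsPullback.of_hasPullback f j₁.hom) sq₁ hp
    · obtain ⟨W₀', j₀, hj₀, hr₀⟩ := Groth.Agent.S10195.result ⟨G.U, hU⟩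
        (W₀ : Set (AlgSp.Points G.U)) W₀.2
      have hpa : AlgSp.IsAlgSpace (pullback f j₀.hom) :=
        Groth.Agent.S9874.isAlgSpace_of_isPullback hU.diag hX W₀'.property
          (IsPullback.of_hasPullback f j₀.hom)
      have hp : P (pullback.snd f j₀.hom) :=
        h1 W₀' ⟨pullback f j₀.hom, hpa⟩ j₀ (ObjectProperty.homMk (pullback.fst f j₀.hom))
          (ObjectProperty.homMk (pullback.snd f j₀.hom)) hj₀ hr₀
          (IsPullback.of_hasPullback f j₀.hom)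
      obtain ⟨k, hk⟩ := (hmax W₀'.obj j₀.hom W₀'.property hj₀).1 hp
      rw [← hr₀]
      exact (Groth.Agent.S10194.exists_factor_iff w hw j₀.hom).1 ⟨k, hk⟩
  -- the largest open of `R` over which the projection has `P`
  obtain ⟨W', k1, k2, -, -⟩ := main hQ hP
    (X := ⟨E, hE⟩) (Y := ⟨G.R, hR⟩) (ObjectProperty.homMk pr)
  have eqT : (W' : Set (AlgSp.Points G.R)) =
      AlgSp.Points.map G.t ⁻¹' (W₀ : Set (AlgSp.Points G.U)) :=
    h4 ⟨G.R, hR⟩ ⟨E, hE⟩ (ObjectProperty.homMk G.t) (ObjectProperty.homMk a)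
      (ObjectProperty.homMk pr) ht sqT W' k1 k2
  have eqS : (W' : Set (AlgSp.Points G.R)) =
      AlgSp.Points.map G.s ⁻¹' (W₀ : Set (AlgSp.Points G.U)) :=
    h4 ⟨G.R, hR⟩ ⟨E, hE⟩ (ObjectProperty.homMk G.s) (ObjectProperty.homMk b)
      (ObjectProperty.homMk pr) hs sqS W' k1 k2
  intro T r
  rw [Groth.Agent.S10194.exists_factor_iff w hw (r ≫ G.t),
    Groth.Agent.S10194.exists_factor_iff w hw (r ≫ G.s), hW₀]
  constructor
  · rintro H _ ⟨x, rfl⟩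
    have hx : AlgSp.Points.map r x ∈ AlgSp.Points.map G.t ⁻¹' (W₀ : Set (AlgSp.Points G.U)) := by
      rw [Set.mem_preimage, ← AlgSp.Points.map_comp]
      exact H ⟨x, rfl⟩
    rw [← eqT, eqS] at hx
    rw [AlgSp.Points.map_comp]
    exact hx
  · rintro H _ ⟨x, rfl⟩
    have hx : AlgSp.Points.map r x ∈ AlgSp.Points.map G.s ⁻¹' (W₀ : Set (AlgSp.Points G.U)) := by
      rw [Set.mem_preimage, ← AlgSp.Points.map_comp]
      exact H ⟨x, rfl⟩
    rw [← eqS, eqT] at hx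
    rw [AlgSp.Points.map_comp]
    exact hx

/-- the stabilizer case. -/
theorem isInvariant_of_largest_stabilizer {Q P : MorphismProperty (AlgSp.Sp S)} (hQ : CovProp Q)
    (hP : AlgSp.IsLocalOnBase (fun _ _ Y g => AlgSp.IsCover Q Y g) P)
    (hB : AlgSp.IsAlgSpace B)
    (hU : AlgSp.IsAlgSpace G.U) (hR : AlgSp.IsAlgSpace G.R) (hs : Q G.s) (ht : Q G.t)
    {W : AlgSp.Sp S} (hWsp : AlgSp.IsAlgSpace W) (w : W ⟶ G.U)
    (hw : AlgSp.RepWith @IsOpenImmersion w)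
    (hmax : ∀ (W' : AlgSp.Sp S) (w' : W' ⟶ G.U), AlgSp.IsAlgSpace W' →
      AlgSp.RepWith @IsOpenImmersion w' →
      (P (pullback.snd G.stabilizerToU w') ↔ ∃ k : W' ⟶ W, k ≫ w = w')) :
    G.IsInvariant w := by
  have hUU : AlgSp.IsAlgSpace (pullback G.pU G.pU) :=
    Groth.Agent.S9874.isAlgSpace_of_isPullback hB.diag hU hU (IsPullback.of_hasPullback _ _)
  have hStab : AlgSp.IsAlgSpace G.stabilizer :=
    Groth.Agent.S9874.isAlgSpace_of_isPullback hUU.diag hR hU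
      (IsPullback.of_hasPullback G.j G.diag)
  exact isInvariant_of_squares hQ hP hU hR hs ht hStab G.stabilizerToU
    (pullback.snd G.stabilizerToU G.t) (pullback.fst G.stabilizerToU G.t) (conjMap G)
    (IsPullback.of_hasPullback _ _) (isPullback_conjMap G) hWsp w hw hmax

end Groth.Agent.Lib.H5bGpdInv
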