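import Mathlib
import Groth.Prelude.Def_AlgSp4
import Groth.Agent.S13210
import Groth.Agent.S10175
import Groth.Agent.S10177
import Groth.Agent.S10509
import Groth.Agent.S9884
import Groth.Agent.S14276
import Groth.Agent.S9869
import Groth.Agent.Lib.Helper12OpenSub
import Groth.Agent.Lib.Helper9Shf
import Groth.Agent.Lib.Helper9QuotSh
import Groth.Agent.Lib.Helper9SpQuot
import Groth.Agent.Lib.H5bQuotOpen
import Groth.Agent.Lib.H5bSlQuot

/-!
# Restriction of a groupoid along a morphism with open saturation (helper5)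

* `exists_point_of_rho`: if points of `X` with the same image in `Q` are locally related by
  `p₁ p₂ : P ⟶ X`, then points of `|X|` with the same image in `|Q|` are related by a point of `|P|`;
* `isColimit_quotπ`: the quotient sheaf `QuotSh.quot` as a coequalizer of `h_s, h_t`;
* `repWith_isOpenImmersion_of_restrict`: the map of quotient sheaves induced by restricting a
  pre-relation whose strict relation is an equivalence relation on scheme-valued points along
  `g : U' ⟶ U` is an open immersion, provided the saturation of `g` is open and covered by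
  `U' ×_U R` as an fppf sheaf.
-/

set_option autoImplicit false
set_option linter.style.haveILetI false
universe u

namespace Groth.Agent.Lib.H5bGpdOpen

open CategoryTheory CategoryTheory.Limits AlgebraicGeometry Opposite MorphismProperty
open AlgSp Groth.Agent.S13210 Groth.Agent.Lib.Helper12 Groth.Agent.Lib.Helper9
  Groth.Agent.Lib.Helper9.LocalRel

variable {S : Scheme.{u}}

/-- points with the same image in the quotient are related by a point of the relation. -/
lemma exists_point_of_rho {P X Q : AlgSp.Sp S} (p₁ p₂ : P ⟶ X) (π : X ⟶ Q)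
    (hRho : ∀ {W : AlgSp.Sp S} (a b : W ⟶ X), a ≫ π = b ≫ π → Rho p₁ p₂ a b)
    (z x : AlgSp.Points X) (e : AlgSp.Points.map π z = AlgSp.Points.map π x) :
    ∃ p : AlgSp.Points P, AlgSp.Points.map p₁ p = z ∧ AlgSp.Points.map p₂ p = x := by
  induction z using AlgSp.Points.ind with | h p => ?_
  induction x using AlgSp.Points.ind with | h q => ?_
  obtain ⟨Ω, _, w, a, b, hab⟩ := AlgSp.Points.mk_eq_mk_iff.1 e
  have hab' : π.hom.app _ (X.obj.map a.op p.val) = π.hom.app _ (X.obj.map b.op q.val) := by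
    have h1 := NatTrans.naturality_apply π.hom a.op p.val
    have h2 := NatTrans.naturality_apply π.hom b.op q.val
    rw [h1, h2]
    exact hab
  obtain ⟨A, hA⟩ : ∃ A, A = (yEquiv (Over.mk w) X).symm (X.obj.map a.op p.val) := ⟨_, rfl⟩
  obtain ⟨B, hB⟩ : ∃ B, B = (yEquiv (Over.mk w) X).symm (X.obj.map b.op q.val) := ⟨_, rfl⟩
  have hAB : A ≫ π = B ≫ π := by
    rw [hA, hB, yEquiv_symm_comp, yEquiv_symm_comp, hab']
  obtain ⟨W', e', he', r, hr1, hr2⟩ := hRho A B hAB
  haveI : Sheaf.IsLocallySurjective e' := (Sheaf.isLocallySurjective_iff_epi _).2 he'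
  obtain ⟨Rc, hRc, hlift⟩ :=
    Groth.Agent.S9884.exists_fppf_lift e' (𝟙 ((AlgSp.yon S).obj (Over.mk w)))
  obtain ⟨hRs, hRp⟩ := (Groth.Agent.S14276.mem_precoverage_iff').1 hRc
  obtain ⟨Y, γ, hγ, y₀, hy₀⟩ := hRs (IsLocalRing.closedPoint Ω)
  obtain ⟨d, hd⟩ := hlift γ hγ
  rw [Category.comp_id] at hd
  have hγ0 : (Over.homMk γ : Over.mk (γ ≫ (Over.mk w).hom) ⟶ Over.mk w).left y₀ =
      IsLocalRing.closedPoint Ω := hy₀
  refine ⟨AlgSp.Points.ofPt (d ≫ r) y₀, ?_, ?_⟩
  · rw [AlgSp.Points.map_ofPt, Category.assoc, hr1, ← Category.assoc, hd,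
      Groth.Agent.S10509.ofPt_yon_map_comp, hγ0, hA]
    exact (Groth.Agent.S10177.ofPt_closedPoint ⟨Ω, w, X.obj.map a.op p.val⟩).trans
      (Groth.Agent.S10175.mk_restrict p w a)
  · rw [AlgSp.Points.map_ofPt, Category.assoc, hr2, ← Category.assoc, hd,
      Groth.Agent.S10509.ofPt_yon_map_comp, hγ0, hB]
    exact (Groth.Agent.S10177.ofPt_closedPoint ⟨Ω, w, X.obj.map b.op q.val⟩).trans
      (Groth.Agent.S10175.mk_restrict q w b)

/-- the quotient map from `h_U` to the quotient sheaf. -/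
noncomputable def qπ {R U : Over S} (s t : R ⟶ U) :
    (AlgSp.yon S).obj U ⟶ QuotSh.quot Scheme.fppfPrecoverage s t :=
  (QuotSh.repIsoUliftYoneda Scheme.fppfPrecoverage U).inv ≫
    QuotSh.quotπ Scheme.fppfPrecoverage s t

lemma qπ_condition {R U : Over S} (s t : R ⟶ U) :
    (AlgSp.yon S).map s ≫ qπ s t = (AlgSp.yon S).map t ≫ qπ s t := by
  unfold qπ
  rw [← Category.assoc, ← Category.assoc, ← Groth.Agent.Lib.H5bSl.repIso_inv_comp_repMap,
    ← Groth.Agent.Lib.H5bSl.repIso_inv_comp_repMap, Category.assoc, Category.assoc,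
    QuotSh.quot_condition]

instance epi_quotπ {R U : Over S} (s t : R ⟶ U) :
    Epi (QuotSh.quotπ Scheme.fppfPrecoverage s t) := by
  unfold QuotSh.quotπ
  exact coequalizer.π_epi

instance epi_qπ {R U : Over S} (s t : R ⟶ U) : Epi (qπ s t) := by
  unfold qπ
  infer_instance

/-- the quotient sheaf is the coequalizer of `h_s, h_t`. -/
noncomputable def isColimit_qπ {R U : Over S} (s t : R ⟶ U) :
    IsColimit (Cofork.ofπ (qπ s t) (qπ_condition s t)) := by
  refine Cofork.IsColimit.mk' _ (fun c => ?_)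
  have hc : QuotSh.repMap Scheme.fppfPrecoverage s ≫
      (QuotSh.repIsoUliftYoneda Scheme.fppfPrecoverage U).hom ≫ c.π =
      QuotSh.repMap Scheme.fppfPrecoverage t ≫
        (QuotSh.repIsoUliftYoneda Scheme.fppfPrecoverage U).hom ≫ c.π := by
    rw [← Category.assoc, ← Category.assoc, Groth.Agent.S9869.repMap_comp_repIso,
      Groth.Agent.S9869.repMap_comp_repIso, Category.assoc, Category.assoc, c.condition]
  let dsc : QuotSh.quot Scheme.fppfPrecoverage s t ⟶ c.pt := coequalizer.desc _ hc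
  have hdsc : QuotSh.quotπ Scheme.fppfPrecoverage s t ≫ dsc =
      (QuotSh.repIsoUliftYoneda Scheme.fppfPrecoverage U).hom ≫ c.π := coequalizer.π_desc _ _
  refine ⟨dsc, ?_, fun {m} hm => ?_⟩
  · show qπ s t ≫ dsc = c.π
    unfold qπ
    rw [Category.assoc, hdsc, Iso.inv_hom_id_assoc]
  · have hm' : qπ s t ≫ m = c.π := hm
    have h1 : QuotSh.quotπ Scheme.fppfPrecoverage s t ≫ m =
        QuotSh.quotπ Scheme.fppfPrecoverage s t ≫ dsc := by
      rw [hdsc, ← hm']
      unfold qπ
      rw [Category.assoc, Iso.hom_inv_id_assoc]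
    exact (cancel_epi (QuotSh.quotπ Scheme.fppfPrecoverage s t)).1 h1

/-- a morphism of schemes inducing an epimorphism of fppf sheaves is surjective. -/
lemma surjective_of_epi_yon_map {Z T : Over S} (h : Z ⟶ T) [Epi ((AlgSp.yon S).map h)] :
    Function.Surjective h.left := by
  intro w
  haveI : Sheaf.IsLocallySurjective ((AlgSp.yon S).map h) :=
    (Sheaf.isLocallySurjective_iff_epi _).2 inferInstance
  obtain ⟨Rc, hRc, hlift⟩ :=
    Groth.Agent.S9884.exists_fppf_lift ((AlgSp.yon S).map h) (𝟙 ((AlgSp.yon S).obj T))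
  obtain ⟨hRs, hRp⟩ := (Groth.Agent.S14276.mem_precoverage_iff').1 hRc
  obtain ⟨Y, γ, hγ, y₀, hy₀⟩ := hRs w
  obtain ⟨d, hd⟩ := hlift γ hγ
  obtain ⟨d₀, rfl⟩ := (AlgSp.yon S).map_surjective d
  rw [Category.comp_id, ← Functor.map_comp] at hd
  have h1 := (AlgSp.yon S).map_injective hd
  refine ⟨d₀.left y₀, ?_⟩
  have h2 := congrArg (fun m => m.left y₀) h1
  exact h2.trans hy₀

section Main

variable {R U R' U' : Over S} (s t : R ⟶ U) (g : U' ⟶ U) (s' t' : R' ⟶ U') (r : R' ⟶ R)

/-- the strict relation on `h_T`-points in terms of morphisms of schemes. -/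
lemma sig_yon_iff {T : Over S} (a b : T ⟶ U) :
    Sig ((AlgSp.yon S).map s) ((AlgSp.yon S).map t) ((AlgSp.yon S).map a)
      ((AlgSp.yon S).map b) ↔ ∃ ρ : T ⟶ R, ρ ≫ s = a ∧ ρ ≫ t = b := by
  constructor
  · rintro ⟨r, h1, h2⟩
    obtain ⟨ρ, rfl⟩ := (AlgSp.yon S).map_surjective r
    rw [← Functor.map_comp] at h1 h2
    exact ⟨ρ, (AlgSp.yon S).map_injective h1, (AlgSp.yon S).map_injective h2⟩
  · rintro ⟨ρ, rfl, rfl⟩
    exact ⟨(AlgSp.yon S).map ρ, by rw [Functor.map_comp], by rw [Functor.map_comp]⟩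

lemma sig_equivalence
    (hσ : ∀ T : Over S,
      _root_.Equivalence (fun a b : T ⟶ U => ∃ ρ : T ⟶ R, ρ ≫ s = a ∧ ρ ≫ t = b))
    (T : AlgSp.Sp S) (hT : SpQuot.IsRep T) :
    _root_.Equivalence (Sig ((AlgSp.yon S).map s) ((AlgSp.yon S).map t) (T := T)) := by
  obtain ⟨T₀, rfl⟩ := hT
  refine ⟨fun a => ?_, fun {a b} hab => ?_, fun {a b c} hab hbc => ?_⟩
  · obtain ⟨a, rfl⟩ := (AlgSp.yon S).map_surjective a
    exact (sig_yon_iff s t a a).2 ((hσ T₀).refl a)
  · obtain ⟨a, rfl⟩ := (AlgSp.yon S).map_surjective a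
    obtain ⟨b, rfl⟩ := (AlgSp.yon S).map_surjective b
    exact (sig_yon_iff s t b a).2 ((hσ T₀).symm ((sig_yon_iff s t a b).1 hab))
  · obtain ⟨a, rfl⟩ := (AlgSp.yon S).map_surjective a
    obtain ⟨b, rfl⟩ := (AlgSp.yon S).map_surjective b
    obtain ⟨c, rfl⟩ := (AlgSp.yon S).map_surjective c
    exact (sig_yon_iff s t a c).2
      ((hσ T₀).trans ((sig_yon_iff s t a b).1 hab) ((sig_yon_iff s t b c).1 hbc))

lemma ofPt_s_eq_ofPt_t {F : AlgSp.Sp S} (π : (AlgSp.yon S).obj U ⟶ F)
    (w : (AlgSp.yon S).map s ≫ π = (AlgSp.yon S).map t ≫ π) (ρ : R.left) :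
    AlgSp.Points.ofPt π (s.left ρ) = AlgSp.Points.ofPt π (t.left ρ) := by
  rw [← Groth.Agent.S10509.ofPt_yon_map_comp s π ρ, w, Groth.Agent.S10509.ofPt_yon_map_comp]

/-- **Restriction with open saturation.** -/
theorem repWith_isOpenImmersion_of_restrict
    (hsq : IsPullback (prod.lift t' s') r (prod.map g g) (prod.lift t s))
    (hσ : ∀ T : Over S,
      _root_.Equivalence (fun a b : T ⟶ U => ∃ ρ : T ⟶ R, ρ ≫ s = a ∧ ρ ≫ t = b))
    {F F' : AlgSp.Sp S} (π : (AlgSp.yon S).obj U ⟶ F)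
    (w : (AlgSp.yon S).map s ≫ π = (AlgSp.yon S).map t ≫ π)
    (hπ : IsColimit (Cofork.ofπ π w))
    (π' : (AlgSp.yon S).obj U' ⟶ F')
    (w' : (AlgSp.yon S).map s' ≫ π' = (AlgSp.yon S).map t' ≫ π')
    (hπ' : IsColimit (Cofork.ofπ π' w'))
    (ψ : F' ⟶ F) (hψ : π' ≫ ψ = (AlgSp.yon S).map g ≫ π)
    {Z WO : Over S} (p₁ : Z ⟶ U') (p₂ : Z ⟶ R) (hp : p₁ ≫ g = p₂ ≫ t)
    (ι : WO ⟶ U) [IsOpenImmersion ι.left] (h : Z ⟶ WO) (hh : h ≫ ι = p₂ ≫ s)
    [Epi ((AlgSp.yon S).map h)]
    (hWmem : ∀ (u' : U'.left) (ρ : R.left), g.left u' = t.left ρ →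
      s.left ρ ∈ Set.range ι.left) :
    AlgSp.RepWith @IsOpenImmersion ψ := by
  classical
  haveI : Epi π := epi_of_isColimit_cofork hπ
  haveI : Epi π' := epi_of_isColimit_cofork hπ'
  have hts : t' ≫ g = r ≫ t := by
    have := congrArg (fun m => m ≫ prod.fst) hsq.w
    simpa only [Category.assoc, prod.lift_fst, prod.map_fst, prod.lift_fst_assoc] using this
  have hss : s' ≫ g = r ≫ s := by
    have := congrArg (fun m => m ≫ prod.snd) hsq.w
    simpa only [Category.assoc, prod.lift_snd, prod.map_snd, prod.lift_snd_assoc] using this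
  have hRho : ∀ {W : AlgSp.Sp S} (a b : W ⟶ (AlgSp.yon S).obj U), a ≫ π = b ≫ π →
      Rho ((AlgSp.yon S).map s) ((AlgSp.yon S).map t) a b := fun a b hab =>
    rho_of_comp_eq_of_generators SpQuot.IsRep SpQuot.hgen (sig_equivalence s t hσ) π w hπ a b hab
  -- `ψ` is a monomorphism
  have hrep : ∀ (T : AlgSp.Sp S), SpQuot.IsRep T → ∀ (a b : T ⟶ (AlgSp.yon S).obj U'),
      Sig ((AlgSp.yon S).map s) ((AlgSp.yon S).map t) (a ≫ (AlgSp.yon S).map g)
        (b ≫ (AlgSp.yon S).map g) → a ≫ π' = b ≫ π' := by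
    rintro T ⟨T₀, rfl⟩ a b ⟨r₀, hr1, hr2⟩
    obtain ⟨ρ, rfl⟩ := (AlgSp.yon S).map_surjective r₀
    obtain ⟨a₀, rfl⟩ := (AlgSp.yon S).map_surjective a
    obtain ⟨b₀, rfl⟩ := (AlgSp.yon S).map_surjective b
    rw [← Functor.map_comp, ← Functor.map_comp] at hr1 hr2
    have hρs : ρ ≫ s = a₀ ≫ g := (AlgSp.yon S).map_injective hr1
    have hρt : ρ ≫ t = b₀ ≫ g := (AlgSp.yon S).map_injective hr2
    have hcond : prod.lift b₀ a₀ ≫ prod.map g g = ρ ≫ prod.lift t s := by
      apply Limits.prod.hom_ext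
      · simp only [Category.assoc, prod.map_fst, prod.lift_fst_assoc, prod.lift_fst, hρt]
      · simp only [Category.assoc, prod.map_snd, prod.lift_snd_assoc, prod.lift_snd, hρs]
    obtain ⟨l, hl1, hl2⟩ := hsq.exists_lift _ _ hcond
    have hlt : l ≫ t' = b₀ := by
      have := congrArg (fun m => m ≫ prod.fst) hl1
      simpa only [Category.assoc, prod.lift_fst] using this
    have hls : l ≫ s' = a₀ := by
      have := congrArg (fun m => m ≫ prod.snd) hl1
      simpa only [Category.assoc, prod.lift_snd] using this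
    rw [← hls, ← hlt, Functor.map_comp, Functor.map_comp, Category.assoc, Category.assoc, w']
  have hmono : Mono ψ := by
    constructor
    intro W₀ x y hxy
    obtain ⟨W₁, e, he, a, b, ha, hb⟩ := ToposLike.exists_local_lift₂ π' inferInstance x y
    have h1 : (a ≫ (AlgSp.yon S).map g) ≫ π = (b ≫ (AlgSp.yon S).map g) ≫ π := by
      rw [Category.assoc, Category.assoc, ← hψ, ← Category.assoc, ← Category.assoc, ← ha, ← hb,
        Category.assoc, Category.assoc, hxy]
    obtain ⟨κ, Gf, c, hG, hc, hsig⟩ := exists_sig_cover SpQuot.IsRep SpQuot.hgen (hRho _ _ h1)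
    have h2 : a ≫ π' = b ≫ π' := by
      apply hc
      intro i
      rw [← Category.assoc, ← Category.assoc]
      refine hrep _ (hG i) _ _ ?_
      rw [Category.assoc, Category.assoc]
      exact hsig i
    haveI := he
    rw [← cancel_epi e, ha, hb, h2]
  -- the open subset of `|F|`
  let WF : Set (AlgSp.Points F) := Set.range (AlgSp.Points.map ((AlgSp.yon S).map g ≫ π))
  have hV : ∀ u : U.left, AlgSp.Points.ofPt π u ∈ WF ↔ u ∈ Set.range ι.left := by
    intro u
    constructor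
    · rintro ⟨x', hx'⟩
      obtain ⟨u', rfl⟩ := (AlgSp.Points.schemeHomeo U').surjective x'
      have e : AlgSp.Points.map π (AlgSp.Points.schemeHomeo U (g.left u')) =
          AlgSp.Points.map π (AlgSp.Points.schemeHomeo U u) := by
        rw [← AlgSp.Points.map_yon_map_apply, ← AlgSp.Points.map_comp, hx',
          AlgSp.Points.ofPt_eq_map_ofScheme]
        rfl
      obtain ⟨p, hp1, hp2⟩ := exists_point_of_rho ((AlgSp.yon S).map s) ((AlgSp.yon S).map t) π
        hRho _ _ e.symm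
      obtain ⟨ρ, rfl⟩ := (AlgSp.Points.schemeHomeo R).surjective p
      rw [AlgSp.Points.map_yon_map_apply] at hp1 hp2
      have h1 : s.left ρ = u := (AlgSp.Points.schemeHomeo U).injective hp1
      have h2 : t.left ρ = g.left u' := (AlgSp.Points.schemeHomeo U).injective hp2
      rw [← h1]
      exact hWmem u' ρ h2.symm
    · rintro ⟨w₀, rfl⟩
      obtain ⟨z, rfl⟩ := surjective_of_epi_yon_map h w₀
      have h1 : ι.left (h.left z) = s.left (p₂.left z) := by
        have := congrArg (fun m => m.left z) hh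
        exact this
      have h2 : g.left (p₁.left z) = t.left (p₂.left z) := by
        have := congrArg (fun m => m.left z) hp
        exact this
      rw [h1, ofPt_s_eq_ofPt_t s t π w, ← h2]
      refine ⟨AlgSp.Points.schemeHomeo U' (p₁.left z), ?_⟩
      rw [AlgSp.Points.map_comp, AlgSp.Points.map_yon_map_apply,
        AlgSp.Points.ofPt_eq_map_ofScheme]
      rfl
  have hVopen : IsOpen {u : U.left | AlgSp.Points.ofPt π u ∈ WF} := by
    have h1 : {u : U.left | AlgSp.Points.ofPt π u ∈ WF} = Set.range ι.left := by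
      ext u
      exact hV u
    rw [h1]
    exact ι.left.isOpenEmbedding.isOpen_range
  haveI : Sheaf.IsLocallySurjective π := (Sheaf.isLocallySurjective_iff_epi _).2 inferInstance
  have hWopen : IsOpen WF := by
    rw [AlgSp.Points.isOpen_iff]
    intro T x
    rw [isOpen_iff_forall_mem_open]
    intro t₀ ht₀
    obtain ⟨Rc, hRc, hlift⟩ := Groth.Agent.S9884.exists_fppf_lift π x
    obtain ⟨hRs, hRp⟩ := (Groth.Agent.S14276.mem_precoverage_iff').1 hRc
    obtain ⟨Y, γ, hγ, y₀, hy₀⟩ := hRs t₀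
    obtain ⟨d, hd⟩ := hlift γ hγ
    obtain ⟨a, rfl⟩ := (AlgSp.yon S).map_surjective d
    haveI : Flat γ := (hRp γ hγ).1
    haveI : LocallyOfFinitePresentation γ := (hRp γ hγ).2
    have key : ∀ y : Y, AlgSp.Points.ofPt x (γ y) = AlgSp.Points.ofPt π (a.left y) := by
      intro y
      rw [← Groth.Agent.S10509.ofPt_yon_map_comp a π y, hd,
        Groth.Agent.S10509.ofPt_yon_map_comp]
      rfl
    refine ⟨γ '' (a.left ⁻¹' {u : U.left | AlgSp.Points.ofPt π u ∈ WF}), ?_,
      γ.isOpenMap _ (hVopen.preimage a.left.continuous), ⟨y₀, ?_, hy₀⟩⟩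
    · rintro _ ⟨y, hy, rfl⟩
      show AlgSp.Points.ofPt x (γ y) ∈ WF
      rw [key]
      exact hy
    · show AlgSp.Points.ofPt π (a.left y₀) ∈ WF
      rw [← key, hy₀]
      exact ht₀
  have hincl := OpenSub.repWith_incl hWopen
  obtain ⟨q, hq⟩ := (OpenSub.factor_iff WF ((AlgSp.yon S).map g ≫ π)).2 (fun u' =>
    ⟨AlgSp.Points.schemeHomeo U' u', by rw [AlgSp.Points.ofPt_eq_map_ofScheme]; rfl⟩)
  -- the induced map `F' ⟶ F_W`
  have hq' : (AlgSp.yon S).map s' ≫ q = (AlgSp.yon S).map t' ≫ q := by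
    rw [← cancel_mono (OpenSub.incl F WF), Category.assoc, Category.assoc, hq, ← hψ,
      ← Category.assoc, ← Category.assoc, w']
  obtain ⟨ψ', hψ'⟩ := Cofork.IsColimit.desc' hπ' q hq'
  have hψ'' : π' ≫ ψ' = q := hψ'
  have hfac : ψ' ≫ OpenSub.incl F WF = ψ := by
    rw [← cancel_epi π', ← Category.assoc, hψ'', hq, hψ]
  -- `q` is an epimorphism
  have hepi : Epi q := by
    have sqV := hincl.rep.isPullback π
    haveI : IsOpenImmersion (hincl.rep.snd π).left := hincl.property_snd π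
    haveI : Epi (hincl.rep.fst π) := Groth.Agent.Lib.Helper9.epi_of_isPullback_sheaf _ sqV
    obtain ⟨a', ha'⟩ := (OpenSub.factor_iff WF ((AlgSp.yon S).map ι ≫ π)).2 (fun w₀ => by
      rw [Groth.Agent.S10509.ofPt_yon_map_comp]
      exact (hV _).2 ⟨w₀, rfl⟩)
    obtain ⟨τ', hτ'⟩ := (AlgSp.yon S).map_surjective (sqV.lift a' ((AlgSp.yon S).map ι) ha')
    have hτ'1 : τ' ≫ hincl.rep.snd π = ι := by
      apply (AlgSp.yon S).map_injective
      rw [Functor.map_comp, hτ', sqV.lift_snd]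
    have hτ'2 : (AlgSp.yon S).map τ' ≫ hincl.rep.fst π = a' := by
      rw [hτ', sqV.lift_fst]
    have hτl : τ'.left ≫ (hincl.rep.snd π).left = ι.left := by
      rw [← Over.comp_left, hτ'1]
    haveI : IsOpenImmersion τ'.left := by
      haveI : IsOpenImmersion (τ'.left ≫ (hincl.rep.snd π).left) := by
        rw [hτl]
        infer_instance
      exact IsOpenImmersion.of_comp τ'.left (hincl.rep.snd π).left
    haveI : Surjective τ'.left := by
      constructor
      intro v
      have hv : AlgSp.Points.ofPt π ((hincl.rep.snd π).left v) ∈ WF := by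
        have h1 : AlgSp.Points.ofPt π ((hincl.rep.snd π).left v) =
            AlgSp.Points.map (OpenSub.incl F WF) (AlgSp.Points.ofPt (hincl.rep.fst π) v) := by
          rw [AlgSp.Points.map_ofPt, sqV.w, Groth.Agent.S10509.ofPt_yon_map_comp]
        rw [h1]
        exact (OpenSub.range_map_incl WF).subset ⟨_, rfl⟩
      obtain ⟨w₀, hw₀⟩ := (hV _).1 hv
      refine ⟨w₀, ?_⟩
      apply (hincl.rep.snd π).left.injective
      rw [← Scheme.Hom.comp_apply, hτl, hw₀]
    haveI := Groth.Agent.Lib.H5bQuotOpen.epi_yon_map τ'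
    have hcomp : ((AlgSp.yon S).map h ≫ (AlgSp.yon S).map τ' ≫ hincl.rep.fst π) =
        (AlgSp.yon S).map p₁ ≫ q := by
      rw [← cancel_mono (OpenSub.incl F WF)]
      calc ((AlgSp.yon S).map h ≫ (AlgSp.yon S).map τ' ≫ hincl.rep.fst π) ≫ OpenSub.incl F WF
          = (AlgSp.yon S).map h ≫ ((AlgSp.yon S).map τ' ≫ hincl.rep.fst π) ≫
              OpenSub.incl F WF := by simp only [Category.assoc]
        _ = (AlgSp.yon S).map (h ≫ ι) ≫ π := by
            rw [hτ'2, ha', Functor.map_comp, Category.assoc]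
        _ = (AlgSp.yon S).map p₂ ≫ (AlgSp.yon S).map s ≫ π := by
            rw [hh, Functor.map_comp, Category.assoc]
        _ = (AlgSp.yon S).map (p₂ ≫ t) ≫ π := by
            rw [w, Functor.map_comp, Category.assoc]
        _ = ((AlgSp.yon S).map p₁ ≫ q) ≫ OpenSub.incl F WF := by
            rw [← hp, Functor.map_comp, Category.assoc, Category.assoc, hq]
    haveI : Epi ((AlgSp.yon S).map p₁ ≫ q) := by
      rw [← hcomp]
      infer_instance
    exact epi_of_epi ((AlgSp.yon S).map p₁) q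
  haveI : Epi ψ' := by
    haveI : Epi (π' ≫ ψ') := by rw [hψ'']; exact hepi
    exact epi_of_epi π' ψ'
  haveI : Mono ψ' := by
    haveI : Mono (ψ' ≫ OpenSub.incl F WF) := by rw [hfac]; exact hmono
    exact mono_of_mono ψ' (OpenSub.incl F WF)
  haveI : IsIso ψ' := ToposLike.isIso_of_mono_of_epi ψ' inferInstance inferInstance
  rw [← hfac]
  exact (MorphismProperty.cancel_left_of_respectsIso (AlgSp.RepWith @IsOpenImmersion) ψ'
    (OpenSub.incl F WF)).2 hincl

end Main

end Groth.Agent.Lib.H5bGpdOpen
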