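import Mathlib
import Groth.Prelude
import Groth.Agent.Lib.H5bFibDimBC
import Groth.Agent.Lib.Helper12LocPCases
import Groth.Agent.Lib.Helper12LocPNbhd
import Groth.Agent.S10313
import Groth.Agent.S10175
import Groth.Agent.S9874

/-!
# Translation invariance of the relative dimension on group algebraic spaces (helper5)

* `hasAtMor_fibreDimAt_translate`: for a group algebraic space `G` locally of finite type over
  `B`, any predicate of the relative dimension at `x ∈ |G|` holds iff it holds at `e(π(x))`;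
* `hasAtMor_lqf_iff_fibreDimAt`: quasi-finiteness at a point is `fibreDimAt ≤ 0`;
* `locP_lqf_baseChange_iff`: the base change of `G` along `h : T ⟶ B` is locally quasi-finite iff
  `G ⟶ B` is quasi-finite at `e(h(t))` for all `t ∈ |T|`.
-/

set_option autoImplicit false
set_option linter.style.haveILetI false
universe u
open CategoryTheory CategoryTheory.Limits AlgebraicGeometry MonoidalCategory MonObj

namespace Groth.Agent.Lib.H5bGrpTrans

open CartesianMonoidalCategory in
/-- In a cartesian monoidal category, the multiplication of a group object is a base change of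
the map to the unit object. -/
lemma isPullback_mul {C : Type*} [Category C] [CartesianMonoidalCategory C] (G : C)
    [GrpObj G] :
    IsPullback (fst G G) μ[G] (toUnit G) (toUnit G) := by
  have hμ : ∀ {T : C} (a b : T ⟶ G), lift a b ≫ μ[G] = a * b := fun a b =>
    (CategoryTheory.Hom.mul_def a b).symm
  have hm : ∀ {T : C} (m : T ⟶ G ⊗ G), m ≫ μ[G] = (m ≫ fst G G) * (m ≫ snd G G) := by
    intro T m
    rw [← hμ]
    congr 1
    apply CartesianMonoidalCategory.hom_ext
    · rw [lift_fst]
    · rw [lift_snd]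
  refine ⟨⟨toUnit_unique _ _⟩,
    ⟨PullbackCone.IsLimit.mk _ (fun s => lift s.fst (s.fst⁻¹ * s.snd)) ?_ ?_ ?_⟩⟩
  · intro s
    rw [lift_fst]
  · intro s
    rw [hμ, mul_inv_cancel_left]
  · intro s m hm1 hm2
    apply CartesianMonoidalCategory.hom_ext
    · rw [lift_fst, hm1]
    · rw [lift_snd, ← hm2, hm, hm1, inv_mul_cancel_left]

open CartesianMonoidalCategory in
lemma isPullback_fst_snd {C : Type*} [Category C] [CartesianMonoidalCategory C] (G : C) :
    IsPullback (fst G G) (snd G G) (toUnit G) (toUnit G) := by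
  refine ⟨⟨toUnit_unique _ _⟩,
    ⟨PullbackCone.IsLimit.mk _ (fun s => lift s.fst s.snd) ?_ ?_ ?_⟩⟩
  · intro s
    rw [lift_fst]
  · intro s
    rw [lift_snd]
  · intro s m hm1 hm2
    apply CartesianMonoidalCategory.hom_ext
    · rw [lift_fst, hm1]
    · rw [lift_snd, hm2]

open CartesianMonoidalCategory in
lemma lift_id_unit_mul {C : Type*} [Category C] [CartesianMonoidalCategory C] (G : C)
    [GrpObj G] : lift (𝟙 G) (toUnit G ≫ η[G]) ≫ μ[G] = 𝟙 G := by
  rw [← CategoryTheory.Hom.mul_def]
  have : (toUnit G ≫ η[G] : G ⟶ G) = 1 := (CategoryTheory.Hom.one_def).symm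
  rw [this, _root_.mul_one]

open AlgSp

variable {S : Scheme.{u}}

open CartesianMonoidalCategory in
theorem hasAtMor_fibreDimAt_translate {B : AlgSp.Sp S} (hB : IsAlgSpace B) (G : Over B) [GrpObj G]
    (hG : IsAlgSpace G.left) (hlft : LocP @LocallyOfFiniteType G.hom) (R : WithBot ℕ∞ → Prop)
    (x : Points G.left) :
    HasAtMor (fun _ _ h u => R (FlatMor.fibreDimAt h u)) G.hom x ↔
      HasAtMor (fun _ _ h u => R (FlatMor.fibreDimAt h u)) G.hom
        (Points.map (η[G]).left (Points.map G.hom x)) := by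
  have sqm : IsPullback (fst G G).left (μ[G]).left G.hom G.hom :=
    (isPullback_mul G).map (Over.forget B)
  have sqp : IsPullback (fst G G).left (snd G G).left G.hom G.hom :=
    (isPullback_fst_snd G).map (Over.forget B)
  have hGG : IsAlgSpace (G ⊗ G).left :=
    Groth.Agent.S9874.isAlgSpace_of_isPullback hB.diag hG hG sqp
  let ζ : G ⟶ G ⊗ G := lift (𝟙 G) (toUnit G ≫ η[G])
  let z : Points (G ⊗ G).left := Points.map ζ.left x
  have h1 := Groth.Agent.Lib.H5bFibDimBC.hasAtMor_fibreDimAt_baseChange_iff hG hB hG sqp.flip hlft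
    z R
  have h2 := Groth.Agent.Lib.H5bFibDimBC.hasAtMor_fibreDimAt_baseChange_iff hG hB hG sqm.flip hlft
    z R
  have e1 : Points.map (μ[G]).left z = x := by
    show Points.map (μ[G]).left (Points.map ζ.left x) = x
    rw [← Points.map_comp, ← Over.comp_left]
    have : ζ ≫ μ[G] = 𝟙 G := lift_id_unit_mul G
    rw [this, Over.id_left, Points.map_id]
  have e2 : Points.map (snd G G).left z = Points.map (η[G]).left (Points.map G.hom x) := by
    show Points.map (snd G G).left (Points.map ζ.left x) = _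
    rw [← Points.map_comp, ← Over.comp_left]
    have : ζ ≫ snd G G = toUnit G ≫ η[G] := lift_snd _ _
    rw [this, Over.comp_left, Points.map_comp]
    rfl
  rw [e1] at h2
  rw [e2] at h1
  exact h2.symm.trans h1

/-- quasi-finiteness at a point is the vanishing of the relative dimension there. -/
theorem hasAtMor_lqf_iff_fibreDimAt {X Y : AlgSp.Sp S} (f : X ⟶ Y)
    (hlft : LocP @LocallyOfFiniteType f) (x : Points X) :
    HasAtMor (fun U _ h u => ∃ W : U.Opens, u ∈ W ∧ LocallyQuasiFinite (W.ι ≫ h) ∧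
      LocallyOfFiniteType (W.ι ≫ h)) f x ↔
      HasAtMor (fun _ _ h u => FlatMor.fibreDimAt h u ≤ 0) f x := by
  constructor
  · rintro ⟨U', V', a', b', h', u', ha', hb', c', hu', hq⟩
    haveI : LocallyOfFiniteType h'.left := hlft a' b' h' ha' hb' c'
    exact ⟨U', V', a', b', h', u', ha', hb', c', hu',
      (Groth.Agent.S10313.exists_open_lqf_iff h'.left u').1 hq⟩
  · rintro ⟨U', V', a', b', h', u', ha', hb', c', hu', hq⟩
    haveI : LocallyOfFiniteType h'.left := hlft a' b' h' ha' hb' c'
    exact ⟨U', V', a', b', h', u', ha', hb', c', hu',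
      (Groth.Agent.S10313.exists_open_lqf_iff h'.left u').2 hq⟩

/-- the base change of a group algebraic space `G ⟶ B` along `h : T ⟶ B` is locally quasi-finite
iff `G ⟶ B` is quasi-finite at the points `e(h(t))`. -/
theorem locP_lqf_baseChange_iff {B : AlgSp.Sp S} (hB : IsAlgSpace B) (G : Over B) [GrpObj G]
    (hG : IsAlgSpace G.left) (hlft : LocP @LocallyOfFiniteType G.hom)
    {T P : AlgSp.Sp S} (hT : IsAlgSpace T) (h : T ⟶ B) (fst : P ⟶ G.left) (snd : P ⟶ T)
    (sq : IsPullback fst snd G.hom h) :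
    LocP (@LocallyQuasiFinite ⊓ @LocallyOfFiniteType) snd ↔
      ∀ t : Points T, HasAtMor (fun U _ h u => ∃ W : U.Opens, u ∈ W ∧
        LocallyQuasiFinite (W.ι ≫ h) ∧ LocallyOfFiniteType (W.ι ≫ h)) G.hom
          (Points.map (η[G]).left (Points.map h t)) := by
  have hP : IsAlgSpace P := Groth.Agent.S9874.isAlgSpace_of_isPullback hB.diag hG hT sq
  have hlft' : LocP @LocallyOfFiniteType snd :=
    Groth.Agent.Lib.Helper12.LocPCases.good_lft.locP_baseChange hG hB hT sq hlft
  have key : ∀ z : Points P,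
      HasAtMor (fun U _ h u => ∃ W : U.Opens, u ∈ W ∧ LocallyQuasiFinite (W.ι ≫ h) ∧
        LocallyOfFiniteType (W.ι ≫ h)) snd z ↔
      HasAtMor (fun U _ h u => ∃ W : U.Opens, u ∈ W ∧ LocallyQuasiFinite (W.ι ≫ h) ∧
        LocallyOfFiniteType (W.ι ≫ h)) G.hom
          (Points.map (η[G]).left (Points.map h (Points.map snd z))) := by
    intro z
    rw [hasAtMor_lqf_iff_fibreDimAt snd hlft', hasAtMor_lqf_iff_fibreDimAt G.hom hlft,
      Groth.Agent.Lib.H5bFibDimBC.hasAtMor_fibreDimAt_baseChange_iff hG hB hT sq hlft z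
        (fun e => e ≤ 0),
      hasAtMor_fibreDimAt_translate hB G hG hlft (fun e => e ≤ 0) (Points.map fst z)]
    rw [← Points.map_comp fst G.hom, sq.w, Points.map_comp]
  rw [Groth.Agent.Lib.Helper12.LocPNbhd.locP_iff_forall_hasAtMor
    Groth.Agent.Lib.Helper12.LocPCases.good_lqf hP hT]
  constructor
  · intro H t
    have e0 : Points.map G.hom (Points.map (η[G]).left (Points.map h t)) = Points.map h t := by
      rw [← Points.map_comp]
      have : (η[G]).left ≫ G.hom = 𝟙 B := Over.w η[G]
      rw [this]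
      exact Points.map_id _
    obtain ⟨z, -, hz2⟩ := Groth.Agent.S10175.exists_point_of_isPullback sq _ t e0
    rw [← hz2]
    refine (key z).1 ?_
    obtain ⟨U', V', a', b', h', u', ha', hb', c', hu', W, hW, hq, hl⟩ := H z
    exact ⟨U', V', a', b', h', u', ha', hb', c', hu', W, hW, hq, hl⟩
  · intro H z
    obtain ⟨U', V', a', b', h', u', ha', hb', c', hu', W, hW, hq, hl⟩ :=
      (key z).2 (H (Points.map snd z))
    exact ⟨U', V', a', b', h', u', ha', hb', c', hu', W, hW, hq, hl⟩

end Groth.Agent.Lib.H5bGrpTrans
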