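import Mathlib
import Groth.Prelude
import Groth.Agent.Lib.H5bGrpTrans
import Groth.Agent.Lib.H5bUnrLocus

/-!
# Translation invariance of the unramified locus on group algebraic spaces (helper5)

* `hasAtMor_unr_translate`: for a group algebraic space `G` locally of finite type over `B`,
  `G ⟶ B` is unramified at `x ∈ |G|` iff it is at `e(π(x))`;
* `locP_unr_baseChange_iff`: the base change of `G` along `h : T ⟶ B` is unramified iff
  `G ⟶ B` is unramified at `e(h(t))` for all `t ∈ |T|`.
-/

set_option autoImplicit false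
set_option linter.style.haveILetI false
universe u
open CategoryTheory CategoryTheory.Limits AlgebraicGeometry MonoidalCategory MonObj

namespace Groth.Agent.Lib.H5bGrpTrans

open AlgSp Groth.Agent.Lib.H5bUnrLocus

variable {S : Scheme.{u}}

open CartesianMonoidalCategory in
theorem hasAtMor_unr_translate {B : AlgSp.Sp S} (hB : IsAlgSpace B) (G : Over B) [GrpObj G]
    (hG : IsAlgSpace G.left) (hlft : LocP @LocallyOfFiniteType G.hom) (x : Points G.left) :
    HasAtMor Qunr G.hom x ↔
      HasAtMor Qunr G.hom (Points.map (η[G]).left (Points.map G.hom x)) := by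
  have sqm : IsPullback (fst G G).left (μ[G]).left G.hom G.hom :=
    (isPullback_mul G).map (Over.forget B)
  have sqp : IsPullback (fst G G).left (snd G G).left G.hom G.hom :=
    (isPullback_fst_snd G).map (Over.forget B)
  have hGG : IsAlgSpace (G ⊗ G).left :=
    Groth.Agent.S9874.isAlgSpace_of_isPullback hB.diag hG hG sqp
  let ζ : G ⟶ G ⊗ G := lift (𝟙 G) (toUnit G ≫ η[G])
  let z : Points (G ⊗ G).left := Points.map ζ.left x
  have h1 := unrLocus_baseChange (X := ⟨G.left, hG⟩) (Y := ⟨B, hB⟩) (X' := ⟨(G ⊗ G).left, hGG⟩)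
    (Y' := ⟨G.left, hG⟩) (ObjectProperty.homMk G.hom) hlft (ObjectProperty.homMk G.hom)
    (ObjectProperty.homMk (snd G G).left) (ObjectProperty.homMk (fst G G).left) sqp.flip z
  have h2 := unrLocus_baseChange (X := ⟨G.left, hG⟩) (Y := ⟨B, hB⟩) (X' := ⟨(G ⊗ G).left, hGG⟩)
    (Y' := ⟨G.left, hG⟩) (ObjectProperty.homMk G.hom) hlft (ObjectProperty.homMk G.hom)
    (ObjectProperty.homMk (μ[G]).left) (ObjectProperty.homMk (fst G G).left) sqm.flip z
  have e1 : Points.map (μ[G]).left z = x := by
    show Points.map (μ[G]).left (Points.map ζ.left x) = x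
    rw [← Points.map_comp, ← Over.comp_left]
    have : ζ ≫ μ[G] = 𝟙 G := lift_id_unit_mul G
    rw [this, Over.id_left, Points.map_id]
  have e2 : Points.map (snd G G).left z = Points.map (η[G]).left (Points.map G.hom x) := by
    show Points.map (snd G G).left (Points.map ζ.left x) = _
    rw [← Points.map_comp, ← Over.comp_left]
    have : ζ ≫ snd G G = toUnit G ≫ η[G] := lift_snd _ _
    rw [this, Over.comp_left, Points.map_comp]
    rfl
  have h1' : HasAtMor Qunr (fst G G).left z ↔
      HasAtMor Qunr G.hom (Points.map (snd G G).left z) := h1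
  have h2' : HasAtMor Qunr (fst G G).left z ↔
      HasAtMor Qunr G.hom (Points.map (μ[G]).left z) := h2
  rw [e1] at h2'
  rw [e2] at h1'
  exact h2'.symm.trans h1'

/-- the base change of a group algebraic space `G ⟶ B` along `h : T ⟶ B` is unramified iff
`G ⟶ B` is unramified at the points `e(h(t))`. -/
theorem locP_unr_baseChange_iff {B : AlgSp.Sp S} (hB : IsAlgSpace B) (G : Over B) [GrpObj G]
    (hG : IsAlgSpace G.left) (hlft : LocP @LocallyOfFiniteType G.hom)
    {T P : AlgSp.Sp S} (hT : IsAlgSpace T) (h : T ⟶ B) (fst : P ⟶ G.left) (snd : P ⟶ T)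
    (sq : IsPullback fst snd G.hom h) :
    LocP (@LocallyOfFiniteType ⊓ @FormallyUnramified) snd ↔
      ∀ t : Points T, HasAtMor Qunr G.hom (Points.map (η[G]).left (Points.map h t)) := by
  have hP : IsAlgSpace P := Groth.Agent.S9874.isAlgSpace_of_isPullback hB.diag hG hT sq
  have key : ∀ z : Points P, HasAtMor Qunr snd z ↔
      HasAtMor Qunr G.hom (Points.map (η[G]).left (Points.map h (Points.map snd z))) := by
    intro z
    have h1 : HasAtMor Qunr snd z ↔ HasAtMor Qunr G.hom (Points.map fst z) :=
      unrLocus_baseChange (X := ⟨G.left, hG⟩) (Y := ⟨B, hB⟩) (X' := ⟨P, hP⟩) (Y' := ⟨T, hT⟩)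
        (ObjectProperty.homMk G.hom) hlft (ObjectProperty.homMk h) (ObjectProperty.homMk fst)
        (ObjectProperty.homMk snd) sq z
    rw [h1, hasAtMor_unr_translate hB G hG hlft (Points.map fst z)]
    rw [← Points.map_comp fst G.hom, sq.w, Points.map_comp]
  rw [Groth.Agent.Lib.Helper12.LocPNbhd.locP_iff_forall_hasAtMor
    Groth.Agent.Lib.Helper12.LocPCases.good_unram hP hT]
  constructor
  · intro H t
    have e0 : Points.map G.hom (Points.map (η[G]).left (Points.map h t)) = Points.map h t := by
      rw [← Points.map_comp]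
      have : (η[G]).left ≫ G.hom = 𝟙 B := Over.w η[G]
      rw [this]
      exact Points.map_id _
    obtain ⟨z, -, hz2⟩ := Groth.Agent.S10175.exists_point_of_isPullback sq _ t e0
    rw [← hz2]
    refine (key z).1 ?_
    obtain ⟨U', V', a', b', h', u', ha', hb', c', hu', W, hW, hq, hl⟩ := H z
    exact ⟨U', V', a', b', h', u', ha', hb', c', hu', W, hW, hq, hl⟩
  · intro H z
    obtain ⟨U', V', a', b', h', u', ha', hb', c', hu', W, hW, hq, hl⟩ :=
      (key z).2 (H (Points.map snd z))
    exact ⟨U', V', a', b', h', u', ha', hb', c', hu', W, hW, hq, hl⟩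

end Groth.Agent.Lib.H5bGrpTrans
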