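import Groth.Agent.Lib.H5bStdBasis
import Groth.Agent.Lib.H5bRowDeg

/-!
# The toric degeneration of `S/J(w)` to the Hibi ring (helper5)
-/

set_option autoImplicit false

universe u

noncomputable section

open MvPolynomial W4bk4grassmannian

namespace Groth.Agent.Lib.H5b

variable (K : Type u) [Field K] {d n : ℕ}

/-- the Hibi weight of an index: the weight of its diagonal monomial -/
def hibiV : Idx d n → ℕ := fun θ => Finsupp.weight (wgt (d := d) (n := n)) (diagMono θ)

theorem tupWt_hibiV {m : ℕ} (c : Fin m → Idx d n) :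
    tupWt hibiV c = Finsupp.weight (wgt (d := d) (n := n)) (chainExp c) := by
  unfold tupWt hibiV chainExp
  rw [map_sum]

theorem hibiV_sup_add_inf (a b : Idx d n) :
    hibiV (W4bk4grassmannian.sup a b) + hibiV (W4bk4grassmannian.inf a b) = hibiV a + hibiV b := by
  unfold hibiV
  rw [← map_add, diagMono_sup_add_inf, map_add]

section

variable [Infinite K] (hd : 0 < d) (w : Idx d n)

theorem exists_support_weight_ge (f : PlRing K d n) (c₀ : WChain w)
    (hc₀ : (stdBasis K hd w).repr (mkW K w f) c₀ ≠ 0) :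
    ∃ s ∈ (shapeMap K w f).support,
      chWt hibiV c₀ ≤ Finsupp.weight (wgt (d := d) (n := n)) s := by
  classical
  set B := stdBasis K hd w with hB
  set l := B.repr (mkW K w f) with hl
  have hsum : mkW K w f = mkW K w (∑ c ∈ l.support, l c • chainMon K c.1.2.1) := by
    conv_lhs => rw [← B.linearCombination_repr (mkW K w f), Finsupp.linearCombination_apply,
      Finsupp.sum]
    rw [map_sum]
    refine Finset.sum_congr rfl (fun c _ => ?_)
    rw [mkW_smul, hB, stdBasis_apply]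
  have hmem : f - ∑ c ∈ l.support, l c • chainMon K c.1.2.1 ∈ schubertVanishing K d n w :=
    Ideal.Quotient.eq.mp hsum
  have hshape : shapeMap K w f = ∑ c ∈ l.support, l c • shapeMap K w (chainMon K c.1.2.1) := by
    have := shapeMap_eq_zero_of_mem K w _ hmem
    rw [map_sub, sub_eq_zero] at this
    rw [this, map_sum]
    refine Finset.sum_congr rfl (fun c _ => ?_)
    rw [map_smul]
  have hne : l.support.Nonempty := ⟨c₀, Finsupp.mem_support_iff.mpr hc₀⟩
  obtain ⟨c₁, hc₁, hmax⟩ := Finset.exists_max_image l.support (fun c => chWt hibiV c) hne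
  refine ⟨chainExp c₁.1.2.1, ?_, ?_⟩
  · rw [mem_support_iff, hshape, coeff_sum, Finset.sum_eq_single c₁]
    · rw [coeff_smul, (leadsWith_shapeMap_chainMon K w c₁.1.2.1 c₁.2).1, smul_eq_mul, mul_one]
      exact Finsupp.mem_support_iff.mp hc₁
    · intro c hc hcc
      rw [coeff_smul, smul_eq_mul]
      have hz : coeff (chainExp c₁.1.2.1) (shapeMap K w (chainMon K c.1.2.1)) = 0 := by
        by_contra hcon
        have hm : chainExp c₁.1.2.1 ∈ (shapeMap K w (chainMon K c.1.2.1)).support :=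
          mem_support_iff.mpr hcon
        have hne' : chainExp c₁.1.2.1 ≠ chainExp c.1.2.1 := by
          intro hh
          apply hcc
          exact Subtype.ext (chainExp_injective hd hh).symm
        have h1 := (leadsWith_shapeMap_chainMon K w c.1.2.1 c.2).2 _ hm hne'
        have h2 := hmax c hc
        unfold chWt at h2
        rw [tupWt_hibiV, tupWt_hibiV] at h2
        omega
      rw [hz, mul_zero]
    · intro hh; exact absurd hc₁ hh
  · have := hmax c₀ (Finsupp.mem_support_iff.mpr hc₀)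
    unfold chWt at this ⊢
    rw [tupWt_hibiV] at this ⊢
    rw [tupWt_hibiV] at this
    exact this

theorem mkW_mem_filt_of_weight_le (f : PlRing K d n) (N : ℕ)
    (h : ∀ s ∈ (shapeMap K w f).support, Finsupp.weight (wgt (d := d) (n := n)) s ≤ N) :
    mkW K w f ∈ filt (stdBasis K hd w) (chWt hibiV) N := by
  rw [mem_filt_iff]
  intro c hc
  obtain ⟨s, hs, hle⟩ := exists_support_weight_ge K hd w f c hc
  exact le_trans hle (h s hs)

theorem mkW_mem_filtLt_of_weight_lt (f : PlRing K d n) (N : ℕ)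
    (h : ∀ s ∈ (shapeMap K w f).support, Finsupp.weight (wgt (d := d) (n := n)) s < N) :
    mkW K w f ∈ filtLt (stdBasis K hd w) (chWt hibiV) N := by
  rw [mem_filtLt_iff]
  intro c hc
  obtain ⟨s, hs, hle⟩ := exists_support_weight_ge K hd w f c hc
  exact lt_of_le_of_lt hle (h s hs)

theorem hibi_tup {m : ℕ} (c : Fin m → Idx d n) (hc : ∀ j, c j ≤ w) :
    mkW K w (chainMon K c) ∈ filt (stdBasis K hd w) (chWt hibiV) (tupWt hibiV c) := by
  apply mkW_mem_filt_of_weight_le
  intro s hs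
  rw [tupWt_hibiV]
  exact (leadsWith_shapeMap_chainMon K w c hc).weight_le hs

theorem hibi_filtHyp : FiltHyp (stdBasis K hd w) (chWt hibiV) :=
  filtHyp_of_tup K hd w hibiV (fun _ c hc => hibi_tup K hd w c hc)

/-- the Hibi relation lies in the strictly smaller filtration piece -/
theorem hibi_rel_mem (a b : Below w) :
    mkW K w (X a.1 * X b.1 - X (Below.sup a b).1 * X (Below.inf a b).1) ∈
      filtLt (stdBasis K hd w) (chWt hibiV) (hibiV a.1 + hibiV b.1) := by
  classical
  apply mkW_mem_filtLt_of_weight_lt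
  intro s hs
  have h1 : LeadsWith (wgt (d := d) (n := n)) (shapeMap K w (X a.1 * X b.1))
      (diagMono a.1 + diagMono b.1) := by
    rw [map_mul]
    exact (leadsWith_shapeMap_X K w a.1 a.2).mul (leadsWith_shapeMap_X K w b.1 b.2)
  have h2 : LeadsWith (wgt (d := d) (n := n))
      (shapeMap K w (X (Below.sup a b).1 * X (Below.inf a b).1))
      (diagMono a.1 + diagMono b.1) := by
    rw [map_mul, ← diagMono_sup_add_inf a.1 b.1]
    exact (leadsWith_shapeMap_X K w _ (Below.sup a b).2).mul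
      (leadsWith_shapeMap_X K w _ (Below.inf a b).2)
  have hN : hibiV a.1 + hibiV b.1 =
      Finsupp.weight (wgt (d := d) (n := n)) (diagMono a.1 + diagMono b.1) := by
    unfold hibiV
    rw [map_add]
  rw [hN]
  rw [map_sub] at hs
  have hne : s ≠ diagMono a.1 + diagMono b.1 := by
    rintro rfl
    rw [mem_support_iff, coeff_sub, h1.1, h2.1, sub_self] at hs
    exact hs rfl
  have hs' := support_sub _ _ _ hs
  rcases Finset.mem_union.mp hs' with h | h
  · exact h1.2 s h hne
  · exact h2.2 s h hne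


end

/-! ### Chain monomials span the Hibi ring -/

section SpanHibi

variable (w : Idx d n) {m : ℕ}

theorem repl_le (c : Fin m → Idx d n) (hc : ∀ j, c j ≤ w) (k₁ k₂ : Fin m) (hk : k₁ ≠ k₂)
    (i' j' : Idx d n) (hi' : i' ≤ w) (hj' : j' ≤ w) (j : Fin m) :
    Helper24Grass.repl c k₁ k₂ i' j' j ≤ w := by
  by_cases hj2 : j = k₂
  · subst hj2; rw [Helper24Grass.repl_k₂]; exact hj'
  · by_cases hj1 : j = k₁
    · subst hj1; rw [Helper24Grass.repl_k₁ c _ _ hk]; exact hi'
    · rw [Helper24Grass.repl_other c k₁ k₂ i' j' j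
        (Finset.mem_erase.mpr ⟨hj2, Finset.mem_erase.mpr ⟨hj1, Finset.mem_univ _⟩⟩)]
      exact hc j

theorem bmon_split (c : Fin m → Idx d n) (hc : ∀ j, c j ≤ w) (k₁ k₂ : Fin m) (hk : k₁ ≠ k₂) :
    bmon K c hc = X (⟨c k₁, hc k₁⟩ : Below w) * X (⟨c k₂, hc k₂⟩ : Below w) *
      ∏ k ∈ (Finset.univ.erase k₁).erase k₂, X (⟨c k, hc k⟩ : Below w) := by
  unfold bmon
  rw [Helper24Grass.prod_split _ k₁ k₂ hk]

theorem bmon_repl (c : Fin m → Idx d n) (hc : ∀ j, c j ≤ w) (k₁ k₂ : Fin m) (hk : k₁ ≠ k₂)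
    (i' j' : Below w) :
    bmon K (Helper24Grass.repl c k₁ k₂ i'.1 j'.1) (repl_le w c hc k₁ k₂ hk i'.1 j'.1 i'.2 j'.2) =
      X i' * X j' * ∏ k ∈ (Finset.univ.erase k₁).erase k₂, X (⟨c k, hc k⟩ : Below w) := by
  unfold bmon
  rw [Helper24Grass.prod_split _ k₁ k₂ hk]
  congr 1
  · congr 1
    · congr 1
      exact Subtype.ext (Helper24Grass.repl_k₁ c k₁ k₂ hk i'.1 j'.1)
    · congr 1
      exact Subtype.ext (Helper24Grass.repl_k₂ c k₁ k₂ i'.1 j'.1)
  · refine Finset.prod_congr rfl (fun k hk' => ?_)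
    congr 1
    exact Subtype.ext (Helper24Grass.repl_other c k₁ k₂ i'.1 j'.1 k hk')

theorem hibi_step (c : Fin m → Idx d n) (hc : ∀ j, c j ≤ w) (k₁ k₂ : Fin m)
    (h2 : ¬ c k₂ ≤ c k₁) (hw : Helper24Grass.wt (c k₂).1 ≤ Helper24Grass.wt (c k₁).1) :
    ∃ (c' : Fin m → Idx d n) (hc' : ∀ j, c' j ≤ w), Helper24Grass.pot c < Helper24Grass.pot c' ∧
      bmon K c hc - bmon K c' hc' ∈ hibiIdeal K w := by
  have hk : k₁ ≠ k₂ := by
    rintro rfl; exact h2 (le_refl _)
  set a : Below w := ⟨c k₁, hc k₁⟩ with ha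
  set b : Below w := ⟨c k₂, hc k₂⟩ with hb
  refine ⟨Helper24Grass.repl c k₁ k₂ (Below.sup a b).1 (Below.inf a b).1,
    repl_le w c hc k₁ k₂ hk _ _ (Below.sup a b).2 (Below.inf a b).2, ?_, ?_⟩
  · apply Helper24Grass.pot_repl_gt c k₁ k₂ hk _ _ _ hw
    have hle : c k₁ ≤ (Below.sup a b).1 := fun t => le_max_left _ _
    have hne : c k₁ ≠ (Below.sup a b).1 := by
      intro heq
      apply h2
      rw [heq]
      exact fun t => le_max_right _ _
    have h1 := Helper24Grass.wt_mono hle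
    rcases Nat.lt_or_ge (Helper24Grass.wt (c k₁).1) (Helper24Grass.wt (Below.sup a b).1.1) with h | h
    · exact h
    · exact absurd (Helper24Grass.eq_of_le_of_wt_eq hle (le_antisymm h1 h)) hne
  · rw [bmon_split K w c hc k₁ k₂ hk, bmon_repl K w c hc k₁ k₂ hk (Below.sup a b) (Below.inf a b),
      ← sub_mul]
    exact Ideal.mul_mem_right _ _ (Ideal.subset_span ⟨a, b, rfl⟩)

theorem hibi_bmon_mem (c : Fin m → Idx d n) (hc : ∀ j, c j ≤ w) :
    Ideal.Quotient.mk (hibiIdeal K w) (bmon K c hc) ∈ spanStd K (hibiIdeal K w) := by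
  induction' hN : m * 2 ^ (d * n) - Helper24Grass.pot c using Nat.strong_induction_on
    with N ih generalizing c
  by_cases hcomp : ∀ k₁ k₂, c k₁ ≤ c k₂ ∨ c k₂ ≤ c k₁
  · exact mk_bmon_mem_of_chain K _ c hc hcomp
  · push Not at hcomp
    obtain ⟨k₁, k₂, h1, h2⟩ := hcomp
    have key : ∃ (c' : Fin m → Idx d n) (hc' : ∀ j, c' j ≤ w),
        Helper24Grass.pot c < Helper24Grass.pot c' ∧
        bmon K c hc - bmon K c' hc' ∈ hibiIdeal K w := by
      rcases le_total (Helper24Grass.wt (c k₂).1) (Helper24Grass.wt (c k₁).1) with hw | hw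
      · exact hibi_step K w c hc k₁ k₂ h2 hw
      · exact hibi_step K w c hc k₂ k₁ h1 hw
    obtain ⟨c', hc', hpot, hrel⟩ := key
    have hb := Helper24Grass.pot_le c'
    have := ih (m * 2 ^ (d * n) - Helper24Grass.pot c') (by omega) c' hc' rfl
    rw [Ideal.Quotient.eq.mpr hrel]
    exact this

theorem hibi_spanStd : spanStd K (hibiIdeal K w) = ⊤ :=
  spanStd_eq_top K _ (fun _ c hc => hibi_bmon_mem K w c hc)

end SpanHibi


/-! ### The degeneration -/

section Main

attribute [local instance] Polynomial.algebra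

variable [Infinite K] (w : Idx d n)

theorem hibi_kill (hd : 0 < d) (q : MvPolynomial (Below w) K)
    (hq : q ∈ {f | ∃ a b : Below w, f = X a * X b - X (Below.sup a b) * X (Below.inf a b)}) :
    reesPhi (hibi_filtHyp K hd w) (fun θ : Below w => hibiV θ.1) (gB K w)
      (gB_mem_filt K hd w hibiV) q ∈ reesT (hibi_filtHyp K hd w) := by
  obtain ⟨a, b, rfl⟩ := hq
  apply mem_reesT_of_coe_eq _ _ (hibiV a.1 + hibiV b.1) _ (hibi_rel_mem K hd w a b)
  rw [map_sub, Subalgebra.coe_sub, coe_reesPhi_X_mul_X, coe_reesPhi_X_mul_X]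
  have h1 : hibiV (Below.sup a b).1 + hibiV (Below.inf a b).1 = hibiV a.1 + hibiV b.1 :=
    hibiV_sup_add_inf a.1 b.1
  rw [h1, ← map_sub]
  congr 1

theorem hibi_main (hd : 0 < d) :
    ∃ (R : Type u) (_ : CommRing R) (_ : Algebra K R) (_ : Algebra (Polynomial K) R)
      (_ : IsScalarTower K (Polynomial K) R),
      Module.Free (Polynomial K) R ∧
      Nonempty ((R ⧸ Ideal.span {algebraMap (Polynomial K) R Polynomial.X}) ≃ₐ[K]
        (MvPolynomial (Below w) K ⧸ hibiIdeal K w)) ∧
      ∀ c : K, c ≠ 0 →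
        Nonempty ((R ⧸ Ideal.span {algebraMap (Polynomial K) R (Polynomial.X - Polynomial.C c)}) ≃ₐ[K]
          (PlRing K d n ⧸ schubertVanishing K d n w)) := by
  refine ⟨rees (hibi_filtHyp K hd w), inferInstance, inferInstance, inferInstance, inferInstance,
    free_rees _, ?_, fun c hc => ⟨reesFibre (hibi_filtHyp K hd w) c hc⟩⟩
  exact reesZeroFibre (hibi_filtHyp K hd w) (fun θ : Below w => hibiV θ.1) (gB K w)
    (gB_mem_filt K hd w hibiV) (hibiIdeal K w) _ rfl (hibi_kill K w hd) chMon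
    (prod_chMon K hd w) (weight_chMon w hibiV) (hibi_spanStd K w)

end Main

end Groth.Agent.Lib.H5b

end
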