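import Mathlib
import Groth.Prelude
import Groth.Agent.Lib.H5bFibCrit

set_option autoImplicit false
universe u
open CategoryTheory CategoryTheory.Limits AlgebraicGeometry Topology TopologicalSpace
open AlgSp

namespace Groth.Agent.Lib.Helper8CutOut

variable {S : Scheme.{u}}

/-- the kernel ideal of a representable morphism on an étale chart, computed from any pullback
square. -/
theorem idealOfRep_ideal_eq_ker {X Z : Sp S} {i : Z ⟶ X} (hi : Representable i) {T W : Over S}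
    (a : (yon S).obj T ⟶ X) (ha : RepWith @Etale a) {snd : W ⟶ T} {fst : (yon S).obj W ⟶ Z}
    (sq : IsPullback fst ((yon S).map snd) i a) (hE : IsAffine (EtOver.mk a ha).obj.left.left) :
    (idealOfRep hi).ideal (EtOver.mk a ha) hE = RingHom.ker snd.left.appTop.hom := by
  have sq' : IsPullback (EtOver.bcObj hi (EtOver.mk a ha)).obj.hom
      ((yon S).map (EtOver.bcπ hi (EtOver.mk a ha))) i a :=
    EtOver.isPullback_bcObj hi (EtOver.mk a ha)
  have h1 : (sq.isoIsPullback _ _ sq').hom ≫ (yon S).map (EtOver.bcπ hi (EtOver.mk a ha)) =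
      (yon S).map snd := sq.isoIsPullback_hom_snd _ _ sq'
  let ε : W ≅ (EtOver.bcObj hi (EtOver.mk a ha)).obj.left :=
    (yon S).preimageIso (sq.isoIsPullback _ _ sq')
  have hε : (yon S).map ε.hom = (sq.isoIsPullback _ _ sq').hom := by
    simp [ε]
  have h2 : ε.hom ≫ EtOver.bcπ hi (EtOver.mk a ha) = snd := by
    apply (yon S).map_injective
    rw [Functor.map_comp, hε, h1]
  have h3 : snd.left = ε.hom.left ≫ (EtOver.bcπ hi (EtOver.mk a ha)).left := by
    rw [← h2]; rfl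
  haveI : IsIso ε.hom.left := inferInstanceAs (IsIso ((Over.forget S).map ε.hom))
  haveI : IsIso ε.hom.left.appTop := inferInstanceAs (IsIso (ε.hom.left.app ⊤))
  have hinj : Function.Injective ε.hom.left.appTop.hom :=
    (ConcreteCategory.bijective_of_isIso ε.hom.left.appTop).1
  ext x
  change (EtOver.bcπ hi (EtOver.mk a ha)).left.appTop.hom x = 0 ↔ snd.left.appTop.hom x = 0
  rw [h3, Scheme.Hom.comp_appTop, CommRingCat.hom_comp, RingHom.comp_apply]
  constructor
  · intro h; rw [h, map_zero]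
  · intro h; exact hinj (by rw [h, map_zero])

/-- the chart of `X` given by an open of a chart. -/
noncomputable def chartOpen {X : Sp S} {V : Over S} (φ : (yon S).obj V ⟶ X)
    (hφ : RepWith @Etale φ) (U : V.left.Opens) : EtOver X :=
  EtOver.mk ((yon S).map (Over.homMk U.ι rfl : Over.mk (U.ι ≫ V.hom) ⟶ V) ≫ φ)
    ((repWith_isMultiplicative (S := S) @Etale).comp_mem _ _
      ((repWith_yon_map_iff _ _).2 (inferInstanceAs (Etale U.ι))) hφ)

set_option backward.isDefEq.respectTransparency false in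
/-- the ideal sheaf of the inverse image of a closed subspace in a chart, on an affine open of the
chart, is the value of the ideal of the closed subspace on that affine open as an étale chart. -/
theorem ker_ideal_eq {X Z : Sp S} {i : Z ⟶ X} (hi : RepWith @IsClosedImmersion i)
    {V ZV : Over S} {φ : (yon S).obj V ⟶ X} (hφ : RepWith @Etale φ) {sndV : ZV ⟶ V}
    {fstV : (yon S).obj ZV ⟶ Z} (sq : IsPullback fstV ((yon S).map sndV) i φ)
    (U : V.left.Opens) (hU : IsAffineOpen U) (hU' : IsAffineOpen (U.ι ''ᵁ ⊤)) :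
    sndV.left.ker.ideal ⟨U.ι ''ᵁ ⊤, hU'⟩ = (idealOfRep hi.1).ideal (chartOpen φ hφ U) hU := by
  haveI : IsClosedImmersion sndV.left := hi.2 _ _ sndV sq
  have sqSch : IsPullback (sndV.left ⁻¹ᵁ U).ι (sndV.left ∣_ U) sndV.left U.ι :=
    (isPullback_morphismRestrict sndV.left U).flip
  let OU : Over S := Over.mk (U.ι ≫ V.hom)
  let ιU : OU ⟶ V := Over.homMk U.ι rfl
  let ZU : Over S := Over.mk ((sndV.left ⁻¹ᵁ U).ι ≫ ZV.hom)
  let jU : ZU ⟶ ZV := Over.homMk (sndV.left ⁻¹ᵁ U).ι rfl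
  let rU : ZU ⟶ OU := Over.homMk (sndV.left ∣_ U) (by
    change (sndV.left ∣_ U) ≫ U.ι ≫ V.hom = (sndV.left ⁻¹ᵁ U).ι ≫ ZV.hom
    rw [← Category.assoc, ← sqSch.w, Category.assoc, Over.w sndV])
  have hw : jU ≫ sndV = rU ≫ ιU := by
    ext
    exact sqSch.w
  have sqY : IsPullback ((yon S).map jU) ((yon S).map rU) ((yon S).map sndV) ((yon S).map ιU) :=
    Groth.Agent.Lib.H5bFibCrit.isPullback_yon_of_left jU rU sndV ιU hw sqSch
  have big : IsPullback ((yon S).map jU ≫ fstV) ((yon S).map rU) i ((yon S).map ιU ≫ φ) :=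
    sqY.paste_horiz sq
  have hL0 : (idealOfRep hi.1).ideal (chartOpen φ hφ U) hU = RingHom.ker rU.left.appTop.hom :=
    idealOfRep_ideal_eq_ker hi.1 _ _ big hU
  haveI : IsClosedImmersion (sndV.left ∣_ U) :=
    MorphismProperty.of_isPullback (P := @IsClosedImmersion) sqSch inferInstance
  haveI : IsAffine U.toScheme := hU
  have h4 := Scheme.ker_morphismRestrict_ideal sndV.left U ⟨⊤, isAffineOpen_top _⟩
  have h5 := Scheme.Hom.ker_apply (sndV.left ∣_ U) ⟨⊤, isAffineOpen_top _⟩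
  rw [hL0]
  exact h4.symm.trans h5

/-- a representable closed immersion pulled back to a chart is the closed subscheme of its kernel. -/
theorem exists_isPullback_ker {X Z : Sp S} {i : Z ⟶ X} {V ZV : Over S} {φ : (yon S).obj V ⟶ X}
    {sndV : ZV ⟶ V} {fstV : (yon S).obj ZV ⟶ Z} (sq : IsPullback fstV ((yon S).map sndV) i φ)
    [IsClosedImmersion sndV.left] :
    ∃ fst : (yon S).obj (Over.mk (sndV.left.ker.subschemeι ≫ V.hom)) ⟶ Z,
      IsPullback fst ((yon S).map (Over.homMk sndV.left.ker.subschemeι rfl :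
        Over.mk (sndV.left.ker.subschemeι ≫ V.hom) ⟶ V)) i φ := by
  let ε : ZV.left ≅ sndV.left.ker.subscheme := asIso sndV.left.toImage
  have hε : ε.hom ≫ sndV.left.ker.subschemeι = sndV.left := sndV.left.toImage_imageι
  have hinv : ε.inv ≫ sndV.left = sndV.left.ker.subschemeι := by
    rw [Iso.inv_comp_eq]; exact hε.symm
  let OK : Over S := Over.mk (sndV.left.ker.subschemeι ≫ V.hom)
  let ιK : OK ⟶ V := Over.homMk sndV.left.ker.subschemeι rfl
  let eO : OK ≅ ZV := Over.isoMk ε.symm (by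
    change ε.inv ≫ ZV.hom = sndV.left.ker.subschemeι ≫ V.hom
    rw [← Over.w sndV, ← Category.assoc, hinv])
  have hι : eO.hom ≫ sndV = ιK := by
    ext
    exact hinv
  have sqIso : IsPullback ((yon S).map eO.hom) ((yon S).map ιK) ((yon S).map sndV)
      (𝟙 ((yon S).obj V)) := by
    haveI : IsIso ((yon S).map eO.hom) := inferInstance
    exact IsPullback.of_horiz_isIso ⟨by rw [Category.comp_id, ← Functor.map_comp, hι]⟩
  have big := sqIso.paste_horiz sq
  rw [Category.id_comp] at big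
  exact ⟨_, big⟩

set_option backward.isDefEq.respectTransparency false in
/-- on a chart, the ideal sheaf of the closed subspace cut out by a product is the product of the
ideal sheaves. -/
theorem ker_eq_mul {X Z₁ Z₂ Z : Sp S} {i₁ : Z₁ ⟶ X} {i₂ : Z₂ ⟶ X} {i : Z ⟶ X}
    (I₁ I₂ : IdealEt X) (h₁ : IsCutOutBy I₁ i₁) (h₂ : IsCutOutBy I₂ i₂)
    (h : IsCutOutBy (I₁ * I₂) i) {V : Over S} {φ : (yon S).obj V ⟶ X} (hφ : RepWith @Etale φ)
    {W₁ W₂ W : Over S} {s₁ : W₁ ⟶ V} {s₂ : W₂ ⟶ V} {s : W ⟶ V}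
    {f₁ : (yon S).obj W₁ ⟶ Z₁} {f₂ : (yon S).obj W₂ ⟶ Z₂} {f : (yon S).obj W ⟶ Z}
    (sq₁ : IsPullback f₁ ((yon S).map s₁) i₁ φ) (sq₂ : IsPullback f₂ ((yon S).map s₂) i₂ φ)
    (sq : IsPullback f ((yon S).map s) i φ) :
    s.left.ker = s₁.left.ker * s₂.left.ker := by
  obtain ⟨hi₁, rfl⟩ := h₁
  obtain ⟨hi₂, rfl⟩ := h₂
  obtain ⟨hi, hI⟩ := h
  have key : ∀ (W' : V.left.Opens) (hW' : IsAffineOpen W') (U : V.left.Opens)
      (hU : IsAffineOpen U), W' = U.ι ''ᵁ ⊤ →
      s.left.ker.ideal ⟨W', hW'⟩ = (s₁.left.ker * s₂.left.ker).ideal ⟨W', hW'⟩ := by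
    intro W' hW' U hU e
    subst e
    have hm : (idealOfRep hi.1).ideal (chartOpen φ hφ U) hU =
        (idealOfRep hi₁.1).ideal (chartOpen φ hφ U) hU *
          (idealOfRep hi₂.1).ideal (chartOpen φ hφ U) hU := by
      rw [hI]; rfl
    change _ = s₁.left.ker.ideal ⟨U.ι ''ᵁ ⊤, hW'⟩ * s₂.left.ker.ideal ⟨U.ι ''ᵁ ⊤, hW'⟩
    exact (ker_ideal_eq hi hφ sq U hU hW').trans (hm.trans (congrArg₂ (· * ·)
      (ker_ideal_eq hi₁ hφ sq₁ U hU hW').symm (ker_ideal_eq hi₂ hφ sq₂ U hU hW').symm))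
  apply Scheme.IdealSheafData.ext
  funext U'
  exact key U'.1 U'.2 U'.1 U'.2 U'.1.ι_image_top.symm

end Groth.Agent.Lib.Helper8CutOut
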