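import Mathlib
import Groth.Agent.Lib.Helper8CutOut
import Groth.Agent.Lib.H5bClosedSub
import Groth.Agent.Lib.Helper20EffCartier
import Groth.Agent.S10129

/-!
# Quasi-coherent ideal families on the small étale site and ideal sheaves on charts (helper5)
-/

set_option autoImplicit false
set_option linter.style.haveILetI false
set_option backward.isDefEq.respectTransparency false

universe u
open CategoryTheory CategoryTheory.Limits AlgebraicGeometry Opposite

namespace Groth.Agent.Lib.H5bIdealEtChart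

open AlgSp Groth.Agent.Lib.Helper8CutOut Groth.Agent.Lib.H5bClosedSub

variable {S : Scheme.{u}} {X : Sp S}

section Map

variable {T T' : Over S} (ρ : T' ⟶ T) {c : (yon S).obj T ⟶ X} {c' : (yon S).obj T' ⟶ X}
  (h : (yon S).map ρ ≫ c = c') (hc : RepWith @Etale c) (hc' : RepWith @Etale c')

/-- the morphism of the small étale site induced on opens of charts. -/
noncomputable def chartOpenMap (V : T.left.Opens) (O : T'.left.Opens) (e : O ≤ ρ.left ⁻¹ᵁ V) :
    chartOpen c' hc' O ⟶ chartOpen c hc V :=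
  EtOver.homMk (Over.homMk (ρ.left.resLE V O e) (by
    change ρ.left.resLE V O e ≫ V.ι ≫ T.hom = O.ι ≫ T'.hom
    rw [← Category.assoc, Scheme.Hom.resLE_comp_ι, Category.assoc, Over.w ρ])) (by
    subst h
    have e1 : (Over.homMk (ρ.left.resLE V O e) (by
        change ρ.left.resLE V O e ≫ V.ι ≫ T.hom = O.ι ≫ T'.hom
        rw [← Category.assoc, Scheme.Hom.resLE_comp_ι, Category.assoc, Over.w ρ]) :
        Over.mk (O.ι ≫ T'.hom) ⟶ Over.mk (V.ι ≫ T.hom)) ≫
        (Over.homMk V.ι rfl : Over.mk (V.ι ≫ T.hom) ⟶ T) =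
        (Over.homMk O.ι rfl : Over.mk (O.ι ≫ T'.hom) ⟶ T') ≫ ρ :=
      Over.OverMorphism.ext (Scheme.Hom.resLE_comp_ι _ _)
    exact ((Category.assoc _ _ _).symm.trans (congrArg (· ≫ c)
      (((yon S).map_comp _ _).symm.trans ((congrArg (yon S).map e1).trans
        ((yon S).map_comp _ _))))).trans (Category.assoc _ _ _))

lemma chartOpenMap_left (V : T.left.Opens) (O : T'.left.Opens) (e : O ≤ ρ.left ⁻¹ᵁ V) :
    (chartOpenMap ρ h hc hc' V O e).hom.left.left = ρ.left.resLE V O e := rfl

variable (I : IdealEt X) (hI : I.IsQCoh)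

include h hI in
/-- transfer of the values of a quasi-coherent ideal family between opens of charts. -/
lemma ideal_map_topIso (V : T.left.Opens) (O : T'.left.Opens) (e : O ≤ ρ.left ⁻¹ᵁ V)
    (hV : IsAffineOpen V) (hO : IsAffineOpen O) :
    (I.ideal (chartOpen c' hc' O) hO).map O.topIso.hom.hom =
      ((I.ideal (chartOpen c hc V) hV).map V.topIso.hom.hom).map (ρ.left.appLE V O e).hom := by
  have h1 : I.ideal (chartOpen c' hc' O) hO =
      (I.ideal (chartOpen c hc V) hV).map (ρ.left.resLE V O e).appTop.hom :=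
    le_antisymm (hI (chartOpenMap ρ h hc hc' V O e) hV hO)
      (I.map_le (chartOpenMap ρ h hc hc' V O e) hV hO)
  have h2 : (ρ.left.resLE V O e).appTop = V.topIso.hom ≫ ρ.left.appLE V O e ≫ O.topIso.inv :=
    Scheme.Hom.resLE_app_top _ _
  rw [h1, h2, Ideal.map_map, Ideal.map_map, ← CommRingCat.hom_comp, ← CommRingCat.hom_comp]
  congr 2
  simp only [Category.assoc, Iso.inv_hom_id, Category.comp_id]

end Map

section Def

variable {T : Over S} (c : (yon S).obj T ⟶ X) (hc : RepWith @Etale c) (I : IdealEt X)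
  (hI : I.IsQCoh)

/-- the ideal sheaf on a chart defined by a quasi-coherent ideal family. -/
noncomputable def chartIdeal : T.left.IdealSheafData where
  ideal V := (I.ideal (chartOpen c hc V.1) V.2).map V.1.topIso.hom.hom
  map_ideal_basicOpen := by
    intro V s
    have h := ideal_map_topIso (𝟙 T) (c := c) (c' := c)
      (by rw [CategoryTheory.Functor.map_id, Category.id_comp]) hc hc I hI V.1
      (T.left.basicOpen s) (T.left.basicOpen_le s) V.2 (T.left.affineBasicOpen s).2
    have h3 : (𝟙 T : T ⟶ T).left.appLE V.1 (T.left.basicOpen s) (T.left.basicOpen_le s) =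
        T.left.presheaf.map (homOfLE (T.left.basicOpen_le s)).op := by
      change (𝟙 T.left : T.left ⟶ T.left).appLE V.1 (T.left.basicOpen s) (T.left.basicOpen_le s) = _
      simp [Scheme.Hom.appLE]
    rw [h3] at h
    exact h.symm

lemma chartIdeal_ideal (V : T.left.affineOpens) :
    (chartIdeal c hc I hI).ideal V = (I.ideal (chartOpen c hc V.1) V.2).map V.1.topIso.hom.hom :=
  rfl

end Def

section Comap

variable {T T' : Over S} (ρ : T' ⟶ T) {c : (yon S).obj T ⟶ X} {c' : (yon S).obj T' ⟶ X}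
  (h : (yon S).map ρ ≫ c = c') (hc : RepWith @Etale c) (hc' : RepWith @Etale c')
  (I : IdealEt X) (hI : I.IsQCoh)

include h in
/-- the chart ideal is compatible with flat morphisms of charts. -/
theorem chartIdeal_comap [Flat ρ.left] :
    chartIdeal c' hc' I hI = (chartIdeal c hc I hI).comap ρ.left := by
  let ι : Type u := {p : T'.left.affineOpens × T.left.affineOpens // p.1.1 ≤ ρ.left ⁻¹ᵁ p.2.1}
  have hcov : ⨆ i : ι, (i.1.1 : T'.left.Opens) = ⊤ := by
    rw [eq_top_iff]
    intro t' _
    obtain ⟨_, ⟨V, hV, rfl⟩, htV, -⟩ := T.left.isBasis_affineOpens.exists_subset_of_mem_open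
      (Set.mem_univ (ρ.left t')) isOpen_univ
    obtain ⟨_, ⟨U', hU', rfl⟩, htU, hUV⟩ := T'.left.isBasis_affineOpens.exists_subset_of_mem_open
      (show t' ∈ ((ρ.left ⁻¹ᵁ V : T'.left.Opens) : Set T'.left) from htV) (ρ.left ⁻¹ᵁ V).2
    exact TopologicalSpace.Opens.mem_iSup.mpr ⟨⟨⟨⟨U', hU'⟩, ⟨V, hV⟩⟩, hUV⟩, htU⟩
  have key : ∀ i : ι, (chartIdeal c' hc' I hI).ideal i.1.1 =
      ((chartIdeal c hc I hI).comap ρ.left).ideal i.1.1 := by
    rintro ⟨⟨O, V⟩, hOV⟩
    rw [Groth.Agent.Lib.Helper20.EffCartier.ideal_comap_eq_map ρ.left (chartIdeal c hc I hI)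
      O.2 V.2 hOV]
    exact ideal_map_topIso ρ h hc hc' I hI V.1 O.1 hOV V.2 O.2
  apply le_antisymm
  · exact Scheme.IdealSheafData.le_of_iSup_eq_top (ι := ι) (fun i => i.1.1) hcov
      (fun i => (key i).le)
  · exact Scheme.IdealSheafData.le_of_iSup_eq_top (ι := ι) (fun i => i.1.1) hcov
      (fun i => (key i).ge)

end Comap

section Main

variable (I : IdealEt X) (hI : I.IsQCoh)

/-- the chart ideal of an étale surjective chart is invariant. -/
theorem invariant_chartIdeal {U : Over S} (q : (yon S).obj U ⟶ X) (hqe : RepWith @Etale q) :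
    Invariant q (chartIdeal q hqe I hI) := by
  intro W' b₁ b₂ hb
  obtain ⟨R, s, t', sq⟩ := hqe.1 q
  obtain ⟨t₀, rfl⟩ := (yon S).map_surjective t'
  haveI : Etale s.left := hqe.2 q _ s sq
  haveI : Etale t₀.left := hqe.2 q _ t₀ sq.flip
  obtain ⟨e, he⟩ := (yon S).map_surjective (sq.lift ((yon S).map b₁) ((yon S).map b₂) hb)
  have he1 : e ≫ t₀ = b₁ := (yon S).map_injective (by
    rw [CategoryTheory.Functor.map_comp, he, sq.lift_fst])
  have he2 : e ≫ s = b₂ := (yon S).map_injective (by
    rw [CategoryTheory.Functor.map_comp, he, sq.lift_snd])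
  have he1' : e.left ≫ t₀.left = b₁.left := congrArg (fun m => m.left) he1
  have he2' : e.left ≫ s.left = b₂.left := congrArg (fun m => m.left) he2
  have hs : RepWith @Etale ((yon S).map s ≫ q) :=
    (repWith_isMultiplicative (S := S) @Etale).comp_mem _ _
      ((repWith_yon_map_iff _ _).2 (inferInstanceAs (Etale s.left))) hqe
  rw [← he1', ← he2', Scheme.IdealSheafData.comap_comp, Scheme.IdealSheafData.comap_comp,
    ← chartIdeal_comap t₀ sq.w hqe hs I hI, ← chartIdeal_comap s rfl hqe hs I hI]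

/-- the value of the chart ideal of an affine object on the whole chart. -/
theorem chartIdeal_ideal_top (E : EtOver X) (hE : IsAffine E.obj.left.left) :
    (chartIdeal E.obj.hom E.property I hI).ideal ⟨⊤, isAffineOpen_top _⟩ = I.ideal E hE := by
  haveI := hE
  let g : chartOpen E.obj.hom E.property (⊤ : E.obj.left.left.Opens) ⟶ E :=
    EtOver.homMk (Over.homMk (⊤ : E.obj.left.left.Opens).ι rfl) rfl
  have hT : IsAffineOpen (⊤ : E.obj.left.left.Opens) := isAffineOpen_top _
  have h1 : I.ideal (chartOpen E.obj.hom E.property ⊤) hT =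
      (I.ideal E hE).map (⊤ : E.obj.left.left.Opens).ι.appTop.hom :=
    le_antisymm (hI g hE hT) (I.map_le g hE hT)
  change (I.ideal (chartOpen E.obj.hom E.property ⊤) hT).map
    (⊤ : E.obj.left.left.Opens).topIso.hom.hom = _
  rw [h1, Ideal.map_map, ← CommRingCat.hom_comp]
  have h2 : (⊤ : E.obj.left.left.Opens).ι.appTop ≫ (⊤ : E.obj.left.left.Opens).topIso.hom =
      𝟙 _ := by
    rw [Scheme.Opens.ι_appTop, Scheme.Opens.topIso_hom, ← CategoryTheory.Functor.map_comp]
    exact E.obj.left.left.presheaf.map_id _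
  rw [h2]
  exact Ideal.map_id _

include hI in
/-- every quasi-coherent ideal family cuts out a closed subspace. -/
theorem exists_isCutOutBy (hX : IsAlgSpace X) :
    ∃ (Z : Sp S) (i : Z ⟶ X), IsAlgSpace Z ∧ IsCutOutBy I i := by
  obtain ⟨U, q, hqe, hqs⟩ := hX.atlas
  have hinv := invariant_chartIdeal I hI q hqe
  have hcl := repWith_incl hqe hqs hinv
  refine ⟨Zsh q (chartIdeal q hqe I hI), incl q (chartIdeal q hqe I hI),
    Groth.Agent.S10129.isAlgSpace_of_representable hX _ hcl.rep, hcl, ?_⟩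
  apply IdealEt.ext
  funext E hE
  haveI : IsAffine E.obj.left.left := hE
  obtain ⟨W, p, w', sq⟩ := hqe.1 E.obj.hom
  obtain ⟨w₀, rfl⟩ := (yon S).map_surjective w'
  haveI : Etale p.left := hqe.2 E.obj.hom _ p sq
  haveI : Surjective p.left := hqs.2 E.obj.hom _ p sq
  haveI : Etale w₀.left := E.property.2 q _ w₀ sq.flip
  have hpc : RepWith @Etale ((yon S).map p ≫ E.obj.hom) :=
    (repWith_isMultiplicative (S := S) @Etale).comp_mem _ _
      ((repWith_yon_map_iff _ _).2 (inferInstanceAs (Etale p.left))) E.property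
  have hJ : (chartIdeal E.obj.hom E.property I hI).comap p.left =
      (chartIdeal q hqe I hI).comap w₀.left := by
    rw [← chartIdeal_comap p rfl E.property hpc I hI, ← chartIdeal_comap w₀ sq.w hqe hpc I hI]
  obtain ⟨fst, sqK⟩ := exists_isPullback q (chartIdeal q hqe I hI) E.obj.hom p w₀ sq
    (chartIdeal E.obj.hom E.property I hI) hJ
  have h1 := idealOfRep_ideal_eq_ker hcl.1 E.obj.hom E.property sqK hE
  have h2 : RingHom.ker (ιo (chartIdeal E.obj.hom E.property I hI)).left.appTop.hom =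
      (chartIdeal E.obj.hom E.property I hI).ideal ⟨⊤, isAffineOpen_top _⟩ :=
    Scheme.IdealSheafData.ker_subschemeι_app _ ⟨⊤, isAffineOpen_top _⟩
  exact (h1.trans h2).trans (chartIdeal_ideal_top I hI E hE)

end Main

end Groth.Agent.Lib.H5bIdealEtChart
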