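import Mathlib
import Groth.Prelude.Def_Coh
import Groth.Agent.Lib.Helper23QCohExt

/-!
# The long exact cohomology sequence of `O_X`-modules is linear (helper2, round 2)

`HmapL φ i` : the `Γ(X, O_X)`-linear map `H^i(X, M) → H^i(X, N)` induced by `φ : M ⟶ N`;
`deltaL S hS i` : the linear connecting map; exactness in the `∃` form; versions over a base ring.
-/

set_option autoImplicit false
set_option linter.unusedSectionVars false
universe u

namespace Groth.Agent.Lib.R2H2.HHLin

open CategoryTheory CategoryTheory.Limits AlgebraicGeometry Opposite Abelian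
open Groth.Agent.Lib.Helper23.QCohLocal

variable {X : Scheme.{u}}

/-- the map of underlying abelian sheaves -/
noncomputable def abMap {M N : X.Modules} (φ : M ⟶ N) : Coh.toAb M ⟶ Coh.toAb N :=
  (toAbF X).map φ

lemma abMap_comp {M N P : X.Modules} (φ : M ⟶ N) (ψ : N ⟶ P) :
    abMap (φ ≫ ψ) = abMap φ ≫ abMap ψ := (toAbF X).map_comp φ ψ

lemma abMap_id (M : X.Modules) : abMap (𝟙 M) = 𝟙 (Coh.toAb M) := (toAbF X).map_id M

lemma abMap_add {M N : X.Modules} (φ ψ : M ⟶ N) : abMap (φ + ψ) = abMap φ + abMap ψ :=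
  (toAbF X).map_add

/-- `O`-linear maps commute with multiplication by global functions -/
lemma smulAb_naturality {M N : X.Modules} (φ : M ⟶ N) (r : Coh.Γtop X) :
    Coh.smulAb M r ≫ abMap φ = abMap φ ≫ Coh.smulAb N r := by
  apply Sheaf.hom_ext
  apply NatTrans.ext
  funext U
  ext m
  change φ.app U.unop ((Coh.smulAb M r).hom.app U m) = (Coh.smulAb N r).hom.app U (φ.app U.unop m)
  rw [Coh.smulAb_app, Coh.smulAb_app]
  exact Scheme.Modules.Hom.app_smul φ _ m

/-- the map induced on cohomology by a morphism of modules -/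
noncomputable def HmapL {M N : X.Modules} (φ : M ⟶ N) (i : ℕ) :
    Coh.HH X M i →ₗ[Coh.Γtop X] Coh.HH X N i where
  toFun := Sheaf.H.map (abMap φ) i
  map_add' := map_add _
  map_smul' r x := by
    change Sheaf.H.map (abMap φ) i (Sheaf.H.map (Coh.smulAb M r) i x) =
      Sheaf.H.map (Coh.smulAb N r) i (Sheaf.H.map (abMap φ) i x)
    rw [← Sheaf.H.map_comp_apply, ← Sheaf.H.map_comp_apply, smulAb_naturality]

lemma HmapL_apply {M N : X.Modules} (φ : M ⟶ N) (i : ℕ) (x : Coh.HH X M i) :
    HmapL φ i x = Sheaf.H.map (abMap φ) i x := rfl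

lemma HmapL_comp {M N P : X.Modules} (φ : M ⟶ N) (ψ : N ⟶ P) (i : ℕ) (x : Coh.HH X M i) :
    HmapL (φ ≫ ψ) i x = HmapL ψ i (HmapL φ i x) := by
  rw [HmapL_apply, HmapL_apply, HmapL_apply, abMap_comp, Sheaf.H.map_comp_apply]

lemma HmapL_id (M : X.Modules) (i : ℕ) (x : Coh.HH X M i) : HmapL (𝟙 M) i x = x := by
  rw [HmapL_apply, abMap_id, Sheaf.H.map_id_apply]

lemma HmapL_add {M N : X.Modules} (φ ψ : M ⟶ N) (i : ℕ) (x : Coh.HH X M i) :
    HmapL (φ + ψ) i x = HmapL φ i x + HmapL ψ i x := by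
  rw [HmapL_apply, HmapL_apply, HmapL_apply, abMap_add, Sheaf.H.map_add_apply]

lemma HmapL_zero {M N : X.Modules} (i : ℕ) (x : Coh.HH X M i) :
    HmapL (0 : M ⟶ N) i x = 0 := by
  have h := HmapL_add (0 : M ⟶ N) 0 i x
  rw [add_zero] at h
  exact left_eq_add.mp h

lemma HmapL_sum {M N : X.Modules} {ι : Type*} (s : Finset ι) (φ : ι → (M ⟶ N)) (i : ℕ)
    (x : Coh.HH X M i) : HmapL (∑ j ∈ s, φ j) i x = ∑ j ∈ s, HmapL (φ j) i x := by
  classical
  induction s using Finset.induction_on with
  | empty => rw [Finset.sum_empty, Finset.sum_empty, HmapL_zero]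
  | insert a s ha ih => rw [Finset.sum_insert ha, Finset.sum_insert ha, HmapL_add, ih]

section Les

variable (S : ShortComplex X.Modules) (hS : S.ShortExact)

/-- the endomorphism of the underlying short complex of abelian sheaves given by a global function -/
noncomputable def smulSC (r : Coh.Γtop X) : S.map (toAbF X) ⟶ S.map (toAbF X) :=
  ShortComplex.homMk (Coh.smulAb S.X₁ r) (Coh.smulAb S.X₂ r) (Coh.smulAb S.X₃ r)
    (smulAb_naturality S.f r) (smulAb_naturality S.g r)

/-- the connecting map -/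
noncomputable def deltaL (i : ℕ) : Coh.HH X S.X₃ i →ₗ[Coh.Γtop X] Coh.HH X S.X₁ (i + 1) where
  toFun x := x.comp (shortExact_toAbF S hS).extClass rfl
  map_add' x y := Ext.add_comp _ _ _ _
  map_smul' r x := by
    change (x.comp (Ext.mk₀ (Coh.smulAb S.X₃ r)) (add_zero i)).comp
        (shortExact_toAbF S hS).extClass rfl =
      (x.comp (shortExact_toAbF S hS).extClass rfl).comp (Ext.mk₀ (Coh.smulAb S.X₁ r))
        (add_zero (i + 1))
    have h := ShortComplex.ShortExact.extClass_naturality (shortExact_toAbF S hS)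
      (shortExact_toAbF S hS) (smulSC S r)
    rw [Ext.comp_assoc _ _ _ (add_zero i) (zero_add 1) (by omega),
      Ext.comp_assoc _ _ _ rfl (add_zero 1) (by omega)]
    congr 1
    exact h.symm

lemma deltaL_apply (i : ℕ) (x : Coh.HH X S.X₃ i) :
    deltaL S hS i x = x.comp (shortExact_toAbF S hS).extClass rfl := rfl

include hS in
theorem exact₂ (i : ℕ) (x₂ : Coh.HH X S.X₂ i) (h : HmapL S.g i x₂ = 0) :
    ∃ x₁ : Coh.HH X S.X₁ i, HmapL S.f i x₁ = x₂ :=
  Ext.covariant_sequence_exact₂ _ (shortExact_toAbF S hS) x₂ h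

theorem exact₃ (i : ℕ) (x₃ : Coh.HH X S.X₃ i) (h : deltaL S hS i x₃ = 0) :
    ∃ x₂ : Coh.HH X S.X₂ i, HmapL S.g i x₂ = x₃ :=
  Ext.covariant_sequence_exact₃ _ (shortExact_toAbF S hS) x₃ rfl h

theorem exact₁ (i : ℕ) (x₁ : Coh.HH X S.X₁ (i + 1)) (h : HmapL S.f (i + 1) x₁ = 0) :
    ∃ x₃ : Coh.HH X S.X₃ i, deltaL S hS i x₃ = x₁ :=
  Ext.covariant_sequence_exact₁ _ (shortExact_toAbF S hS) x₁ h rfl

end Les

section Base

variable (A : Type u) [CommRing A] [X.Over (Spec (CommRingCat.of A))]

/-- the `A`-linear map induced on cohomology -/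
noncomputable def HmapA {M N : X.Modules} (φ : M ⟶ N) (i : ℕ) :
    Coh.HH X M i →ₗ[A] Coh.HH X N i where
  toFun := HmapL φ i
  map_add' := map_add _
  map_smul' r x := (HmapL φ i).map_smul (Coh.toGlobal (X ↘ Spec (CommRingCat.of A)) r) x

lemma HmapA_apply {M N : X.Modules} (φ : M ⟶ N) (i : ℕ) (x : Coh.HH X M i) :
    HmapA A φ i x = HmapL φ i x := rfl

/-- the `A`-linear connecting map -/
noncomputable def deltaA (S : ShortComplex X.Modules) (hS : S.ShortExact) (i : ℕ) :
    Coh.HH X S.X₃ i →ₗ[A] Coh.HH X S.X₁ (i + 1) where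
  toFun := deltaL S hS i
  map_add' := map_add _
  map_smul' r x := (deltaL S hS i).map_smul (Coh.toGlobal (X ↘ Spec (CommRingCat.of A)) r) x

lemma deltaA_apply (S : ShortComplex X.Modules) (hS : S.ShortExact) (i : ℕ)
    (x : Coh.HH X S.X₃ i) : deltaA A S hS i x = deltaL S hS i x := rfl

end Base

section Fin

variable {A : Type*} [CommRing A] [IsNoetherianRing A]
  {N₁ N₂ N₃ : Type*} [AddCommGroup N₁] [AddCommGroup N₂] [AddCommGroup N₃]
  [Module A N₁] [Module A N₂] [Module A N₃]

/-- the middle term of an exact sequence of modules over a Noetherian ring with finite ends is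
finite -/
theorem finite_of_exact (f : N₁ →ₗ[A] N₂) (g : N₂ →ₗ[A] N₃)
    (hex : ∀ y, g y = 0 → ∃ x, f x = y) [Module.Finite A N₁] [Module.Finite A N₃] :
    Module.Finite A N₂ := by
  have h1 : Module.Finite A (LinearMap.ker g) := by
    have hle : LinearMap.ker g ≤ LinearMap.range f := by
      intro y hy
      obtain ⟨x, hx⟩ := hex y hy
      exact ⟨x, hx⟩
    have h2 : Module.Finite A (LinearMap.range f) := Module.Finite.range f
    have : IsNoetherian A (LinearMap.range f) := isNoetherian_of_isNoetherianRing_of_finite A _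
    exact Module.Finite.of_injective (Submodule.inclusion hle) (Submodule.inclusion_injective hle)
  have h3 : Module.Finite A (N₂ ⧸ LinearMap.ker g) := by
    have : IsNoetherian A N₃ := isNoetherian_of_isNoetherianRing_of_finite A N₃
    have h4 : Module.Finite A (LinearMap.range g) := Module.IsNoetherian.finite A _
    exact Module.Finite.equiv (LinearMap.quotKerEquivRange g).symm
  exact Module.Finite.of_submodule_quotient (LinearMap.ker g)

end Fin

end Groth.Agent.Lib.R2H2.HHLin
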