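import Groth.Agent.Lib.R2H2KoszulAbs
import Groth.Agent.Lib.R2H2HHLin
import Groth.Agent.Lib.Helper16Flasque

/-!
# Dimension shifting along an exact Koszul complex of `O_X`-modules (helper2, round 2)

For exact Koszul data `D` in `X.Modules`:
* `subsingleton_HH_G_top`: `H^q(G r) = 0` if `H^{q + (r - (i+1))}(G i) = 0` for all `i < r`;
* `exists_sum_top`: if `r = s + 1` and `H^{1 + (s - (i+1))}(G i) = 0` for `i < s`, then every class in
  `H^0(G (s+1))` is a sum of images of classes in `H^0(G s)` under the maps `X l s`.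
-/

set_option autoImplicit false
universe u

namespace Groth.Agent.Lib.R2H2.KoszulShift

open CategoryTheory CategoryTheory.Limits AlgebraicGeometry
open Groth.Agent.Lib.R2H2.KoszulAbs Groth.Agent.Lib.R2H2.HHLin

variable {X : Scheme.{u}}

lemma subsingleton_HH_of_isZero {M : X.Modules} (hM : IsZero M) (q : ℕ) :
    Subsingleton (Coh.HH X M q) := by
  have h0 : ∀ x : Coh.HH X M q, x = 0 := fun x => by
    have h1 : HmapL (𝟙 M) q x = x := HmapL_id M q x
    rw [hM.eq_of_src (𝟙 M) 0, HmapL_zero] at h1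
    exact h1.symm
  exact ⟨fun a b => (h0 a).trans (h0 b).symm⟩

lemma HmapL_zsmul {M N : X.Modules} (n : ℤ) (φ : M ⟶ N) (i : ℕ) (x : Coh.HH X M i) :
    HmapL (n • φ) i x = n • HmapL φ i x :=
  map_zsmul (AddMonoidHom.mk' (fun ψ : M ⟶ N => HmapL ψ i x)
    (fun a b => HmapL_add a b i x)) n φ

variable {r : ℕ} (D : KData X.Modules r)

lemma subsingleton_HH_K (i q : ℕ) (h : Subsingleton (Coh.HH X (D.G i) q)) :
    Subsingleton (Coh.HH X (D.K i) q) := by
  have h0 : ∀ x : Coh.HH X (D.K i) q, x = 0 := fun x => by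
    have h2 : HmapL (∑ S : Finset (Fin r), D.prj i S ≫ D.inj i S) q x = x := by
      rw [D.total i, HmapL_id]
    rw [HmapL_sum] at h2
    rw [← h2]
    refine Finset.sum_eq_zero (fun S _ => ?_)
    rw [HmapL_comp, Subsingleton.elim (HmapL (D.prj i S) q x) 0, map_zero]
  exact ⟨fun a b => (h0 a).trans (h0 b).symm⟩

variable (hex : ∀ i : ℕ, (ShortComplex.mk (D.d i) (D.d (i + 1)) (D.d_comp_d i)).Exact)

/-- the short exact sequence `0 ⟶ Z i ⟶ K i ⟶ Z (i+1) ⟶ 0` -/
noncomputable def ses (i : ℕ) : ShortComplex X.Modules :=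
  ShortComplex.mk (kernel.ι (D.d i)) (kernel.lift (D.d (i + 1)) (D.d i) (D.d_comp_d i)) (by
    apply (cancel_mono (kernel.ι (D.d (i + 1)))).1
    rw [Category.assoc, kernel.lift_ι, kernel.condition, zero_comp])

include hex in
lemma ses_shortExact (i : ℕ) : (ses D i).ShortExact :=
  Groth.Agent.Lib.Helper16.Flasque.shortExact_lift (kernel.ι (D.d i)) (D.d i) (D.d (i + 1))
    (kernel.condition _) (D.d_comp_d i)
    (ShortComplex.exact_of_f_is_kernel _ (kernelIsKernel _)) (hex i)

variable (hmono : Mono (D.d 0))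

include hex hmono in
/-- vanishing of the cohomology of the cycles -/
theorem subsingleton_HH_Z (t : ℕ) : ∀ (q : ℕ),
    (∀ i : ℕ, i < t → Subsingleton (Coh.HH X (D.G i) (q + (t - (i + 1))))) →
    Subsingleton (Coh.HH X (kernel (D.d t)) q) := by
  induction t with
  | zero =>
    intro q _
    have := hmono
    exact subsingleton_HH_of_isZero (isZero_kernel_of_mono (D.d 0)) q
  | succ t ih =>
    intro q h
    have hS := ses_shortExact D hex t
    have h1 : Subsingleton (Coh.HH X (ses D t).X₁ (q + 1)) := by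
      apply ih (q + 1)
      intro i hi
      have e : q + 1 + (t - (i + 1)) = q + (t + 1 - (i + 1)) := by omega
      rw [e]
      exact h i (by omega)
    have h2 : Subsingleton (Coh.HH X (ses D t).X₂ q) := by
      apply subsingleton_HH_K D t q
      have e : q + (t + 1 - (t + 1)) = q := by omega
      have h3 := h t (by omega)
      rw [e] at h3
      exact h3
    have h0 : ∀ x : Coh.HH X (ses D t).X₃ q, x = 0 := fun x => by
      obtain ⟨y, hy⟩ := exact₃ (ses D t) hS q x (Subsingleton.elim _ _)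
      rw [← hy, Subsingleton.elim y 0, map_zero]
    exact ⟨fun a b => (h0 a).trans (h0 b).symm⟩

include hex in
/-- the cohomology of `K r` comes from the cycles -/
lemma exists_of_top (q : ℕ) (y : Coh.HH X (D.K r) q) :
    ∃ z : Coh.HH X (kernel (D.d r)) q, HmapL (kernel.ι (D.d r)) q z = y := by
  have hS := ses_shortExact D hex r
  have hz : IsZero (kernel (D.d (r + 1))) := by
    have h1 : IsZero (D.K (r + 1)) := D.isZero_K (r + 1) (by omega)
    exact IsZero.of_mono_eq_zero (kernel.ι (D.d (r + 1))) (h1.eq_of_tgt _ _)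
  have h3 : Subsingleton (Coh.HH X (ses D r).X₃ q) := subsingleton_HH_of_isZero hz q
  exact exact₂ (ses D r) hS q y (Subsingleton.elim _ _)

include hex hmono in
theorem subsingleton_HH_K_top (q : ℕ)
    (h : ∀ i : ℕ, i < r → Subsingleton (Coh.HH X (D.G i) (q + (r - (i + 1))))) :
    Subsingleton (Coh.HH X (D.K r) q) := by
  have := subsingleton_HH_Z D hex hmono r q h
  have h0 : ∀ y : Coh.HH X (D.K r) q, y = 0 := fun y => by
    obtain ⟨z, hz⟩ := exists_of_top D hex q y
    rw [← hz, Subsingleton.elim z 0, map_zero]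
  exact ⟨fun a b => (h0 a).trans (h0 b).symm⟩

lemma inj_prj_univ : D.inj r Finset.univ ≫ D.prj r Finset.univ = 𝟙 (D.G r) := by
  rw [D.inj_prj, if_pos ⟨rfl, by rw [Finset.card_univ, Fintype.card_fin]⟩]

include hex hmono in
/-- **vanishing for the last term of an exact Koszul complex** -/
theorem subsingleton_HH_G_top (q : ℕ)
    (h : ∀ i : ℕ, i < r → Subsingleton (Coh.HH X (D.G i) (q + (r - (i + 1))))) :
    Subsingleton (Coh.HH X (D.G r) q) := by
  have := subsingleton_HH_K_top D hex hmono q h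
  have h0 : ∀ y : Coh.HH X (D.G r) q, y = 0 := fun y => by
    have h1 : HmapL (D.inj r Finset.univ ≫ D.prj r Finset.univ) q y = y := by
      rw [inj_prj_univ, HmapL_id]
    rw [HmapL_comp] at h1
    rw [← h1, Subsingleton.elim (HmapL (D.inj r Finset.univ) q y) 0, map_zero]
  exact ⟨fun a b => (h0 a).trans (h0 b).symm⟩

include hex hmono in
/-- **surjectivity on `H^0` at the end of an exact Koszul complex** -/
theorem exists_sum_top (s : ℕ) (hr : r = s + 1)
    (h : ∀ i : ℕ, i < s → Subsingleton (Coh.HH X (D.G i) (1 + (s - (i + 1)))))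
    (y : Coh.HH X (D.G (s + 1)) 0) :
    ∃ w : Fin r → Coh.HH X (D.G s) 0, y = ∑ l : Fin r, HmapL (D.X l s) 0 (w l) := by
  subst hr
  have hS := ses_shortExact D hex s
  have h1 : Subsingleton (Coh.HH X (ses D s).X₁ (0 + 1)) := subsingleton_HH_Z D hex hmono s 1 h
  -- lift `inj y`
  obtain ⟨z, hz⟩ := exists_of_top D hex 0 (HmapL (D.inj (s + 1) Finset.univ) 0 y)
  obtain ⟨w, hw⟩ := exact₃ (ses D s) hS 0 z (Subsingleton.elim _ _)
  have hw' : HmapL (D.d s) 0 w = HmapL (D.inj (s + 1) Finset.univ) 0 y := by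
    have e : D.d s = (ses D s).g ≫ kernel.ι (D.d (s + 1)) := (kernel.lift_ι _ _ _).symm
    rw [e]
    exact (HmapL_comp (ses D s).g (kernel.ι (D.d (s + 1))) 0 w).trans
      ((congrArg (HmapL (kernel.ι (D.d (s + 1))) 0) hw).trans hz)
  have hy : y = HmapL (D.d s ≫ D.prj (s + 1) Finset.univ) 0 w := by
    rw [HmapL_comp, hw', ← HmapL_comp, inj_prj_univ, HmapL_id]
  rw [D.d_comp_prj s Finset.univ (by rw [Finset.card_univ, Fintype.card_fin]), HmapL_sum] at hy
  refine ⟨fun l => (eps l (Finset.univ.erase l)) •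
    HmapL (D.prj s (Finset.univ.erase l)) 0 w, ?_⟩
  rw [hy]
  refine Finset.sum_congr rfl fun l _ => ?_
  rw [if_pos (Finset.mem_univ l), HmapL_zsmul, HmapL_comp, map_zsmul]

end Groth.Agent.Lib.R2H2.KoszulShift
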