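import Groth.Agent.Lib.R2H2FinPush
import Groth.Agent.S0014
import Groth.Agent.Lib.R2H2KoszulShift
set_option backward.isDefEq.respectTransparency.types false

/-!
# Chevalley's theorem for Noetherian schemes (helper2, round 2)

`isAffine_of_finite_surjective` : if `f : Y ⟶ X` is finite and surjective, `Y` is affine and `X` is
Noetherian, then `X` is affine.  The proof is the dévissage of Stacks 01YQ: `H^1(X, F) = 0` for all
coherent `F` by `DevL.devissage_roots`, with the generic models `g_* O_W` for `W ⊆ Y` an integral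
closed subscheme dominating the closure of the given point, and then Serre's criterion.
-/

set_option autoImplicit false
set_option linter.style.haveILetI false
universe u

open CategoryTheory CategoryTheory.Limits AlgebraicGeometry TopologicalSpace

namespace Groth.Agent.Lib.R2H2.Chevalley

theorem isAffine_of_finite_surjective {Y X : Scheme.{u}} (f : Y ⟶ X) [IsFinite f]
    [Surjective f] [IsAffine Y] [IsNoetherian X] : IsAffine X := by
  classical
  haveI : CompactSpace X := inferInstance
  haveI : QuasiSeparatedSpace X := inferInstance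
  haveI : IsLocallyNoetherian Y := LocallyOfFiniteType.isLocallyNoetherian f
  refine Groth.Agent.S0014.result X (fun I i hi hIq hIft => ?_)
  have cI : Coh.IsCoh I := ⟨hIq, hIft⟩
  refine Groth.Agent.Lib.R2H2.DevL.devissage_roots
    (P := fun F : X.Modules => Subsingleton (Coh.HH X F 1)) ?_ ?_ ?_ ?_ I cI
  · -- zero modules
    intro M hM
    exact Groth.Agent.Lib.R2H2.KoszulShift.subsingleton_HH_of_isZero hM 1
  · -- extensions
    intro S hS _ _ _ h₁ h₃
    refine ⟨fun a b => ?_⟩
    have hz : ∀ c : Coh.HH X S.X₂ 1, c = 0 := by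
      intro c
      obtain ⟨x₁, hx₁⟩ := Groth.Agent.Lib.R2H2.HHLin.exact₂ S hS 1 c (Subsingleton.elim _ _)
      rw [← hx₁, Subsingleton.elim x₁ 0, map_zero]
    rw [hz a, hz b]
  · -- roots
    intro F r _ h
    refine ⟨fun a b => ?_⟩
    have hinj : Function.Injective
        (Groth.Agent.Lib.R2H2.HHLin.HmapL (Groth.Agent.Lib.R2H2.StalkPow.powι F r) 1) := by
      intro a b hab
      have h1 := congrArg
        (Groth.Agent.Lib.R2H2.HHLin.HmapL (Groth.Agent.Lib.R2H2.StalkPow.powπ F r) 1) hab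
      rw [← Groth.Agent.Lib.R2H2.HHLin.HmapL_comp, ← Groth.Agent.Lib.R2H2.HHLin.HmapL_comp,
        Groth.Agent.Lib.R2H2.StalkPow.powι_π, Groth.Agent.Lib.R2H2.HHLin.HmapL_id,
        Groth.Agent.Lib.R2H2.HHLin.HmapL_id] at h1
      exact h1
    exact hinj (Subsingleton.elim _ _)
  · -- the generic models
    intro y
    obtain ⟨η, rfl⟩ := f.surjective y
    obtain ⟨W, i, hi, hW, -, hgen⟩ := Groth.Agent.Lib.R2H2.DevD.exists_integral_closed
      (closure {η}) isClosed_closure isIrreducible_singleton.closure η rfl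
    subst hgen
    haveI : IsAffine W := isAffine_of_isAffineHom i
    have hO : Coh.IsCoh (Coh.structureModule W) := by
      haveI : SheafOfModules.IsFinitePresentation (R := W.ringCatSheaf) (Coh.structureModule W) :=
        Groth.Agent.Helper18FinFlat.isFinitePresentation_structureModule W
      exact ⟨inferInstance, inferInstance⟩
    have cG : Coh.IsCoh (Groth.Agent.Lib.R2H2.FinPush.pushO (i ≫ f)) :=
      Groth.Agent.Lib.R2H2.ClosedPn.isCoh_push (i ≫ f) _ hO
    haveI : (Groth.Agent.Lib.R2H2.FinPush.pushO (i ≫ f)).IsQuasicoherent := cG.1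
    have hPG : Subsingleton (Coh.HH X (Groth.Agent.Lib.R2H2.FinPush.pushO (i ≫ f)) 1) := by
      haveI : Coh.IsQCoh (Coh.structureModule W) := hO.1
      exact (Groth.Agent.Lib.R2H2.ClosedPn.subsingleton_HH_push_iff (i ≫ f)
        (Coh.structureModule W) hO.1 1).1
        (Groth.Agent.Lib.Helper23.AffVanish.subsingleton_HH (Coh.structureModule W) 1 one_pos)
    refine ⟨Groth.Agent.Lib.R2H2.FinPush.pushO (i ≫ f), cG,
      Groth.Agent.Lib.R2H2.FinPush.nontrivial_stalk_pushO (i ≫ f) (genericPoint W),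
      Groth.Agent.Lib.R2H2.FinPush.stalk_pushO_smul_eq_zero (i ≫ f) (Coh.structureModule W),
      fun J hJ => ?_⟩
    -- a function vanishing on the preimage of `V(J)`
    let T : Set W := (i ≫ f) ⁻¹' (J.support : Set X)
    have hT : IsClosed T := J.support.isClosed.preimage (i ≫ f).continuous
    have hηT : genericPoint W ∈ (⟨Tᶜ, hT.isOpen_compl⟩ : W.Opens) := hJ
    obtain ⟨_, ⟨b₀, rfl⟩, hηb, hbT⟩ :=
      (TopologicalSpace.Opens.isBasis_iff_nbhd.1 (isBasis_basicOpen W)) hηT
    have hb₀ : ∀ w : W, (i ≫ f) w ∈ (J.support : Set X) → w ∉ W.basicOpen b₀ :=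
      fun w hw hwb => hbT hwb hw
    obtain ⟨N, hN⟩ := Groth.Agent.Lib.R2H2.FinPush.exists_pow_mulO_comp_un_eq_zero (i ≫ f) J
      (show Coh.Γtop W from b₀) hb₀
    have hb₀ne : b₀ ≠ 0 := by
      rintro rfl
      rw [Scheme.basicOpen_zero] at hηb
      exact hηb
    haveI : IsDomain Γ(W, ⊤) := inferInstance
    have hbne' : (b₀ ^ N : Γ(W, ⊤)) ≠ 0 := pow_ne_zero N hb₀ne
    have hbne : (show Coh.Γtop W from b₀) ^ N ≠ 0 := hbne'
    exact ⟨Groth.Agent.Lib.R2H2.FinPush.pushO (i ≫ f),
      Groth.Agent.Lib.R2H2.FinPush.mulO (i ≫ f) ((show Coh.Γtop W from b₀) ^ N),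
      Groth.Agent.Lib.R2H2.FinPush.mono_mulO (i ≫ f) _ hbne, cG.1,
      Groth.Agent.Lib.R2H2.FinPush.bijective_stalkLin_mulO (i ≫ f) hO _ hbne, hPG, hN⟩

end Groth.Agent.Lib.R2H2.Chevalley
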