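import Mathlib
import Groth.Agent.Lib.Helper22NA11

set_option autoImplicit false
universe u
open CategoryTheory CategoryTheory.Limits AlgebraicGeometry TopologicalSpace Opposite

namespace Groth.Agent.Lib.H9Lim1

section E

variable {I : Type u} [SmallCategory I] [IsCofiltered I] (D : I ⥤ Scheme.{u}) (c : Cone D)
  (hc : IsLimit c)

include hc in
/-- if the preimage in the limit of a quasi-compact open is affine, so is the preimage at some
stage -/
theorem exists_isAffineOpen_preimage [∀ {i j} (f : i ⟶ j), IsAffineHom (D.map f)]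
    [∀ i, QuasiSeparatedSpace (D.obj i)] (i : I) (U : (D.obj i).Opens)
    (hU' : IsCompact (U : Set (D.obj i))) (hU : IsAffineOpen (c.π.app i ⁻¹ᵁ U)) :
    ∃ (j : I) (f : j ⟶ i), IsAffineOpen (D.map f ⁻¹ᵁ U) := by
  have (j : Over i) : CompactSpace ((opensDiagram D i U).obj j) :=
    isCompact_iff_compactSpace.mp (QuasiCompact.isCompact_preimage _ U.2 hU')
  have (j : Over i) : QuasiSeparatedSpace ((opensDiagram D i U).obj j) :=
    (isQuasiSeparated_iff_quasiSeparatedSpace _ (D.map _ ⁻¹ᵁ _).2).mp (.of_quasiSeparatedSpace _)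
  have : IsAffine (opensCone D c i U).pt := hU
  obtain ⟨j, hj⟩ := Scheme.exists_isAffine_of_isLimit _ _ (isLimitOpensCone D c hc i U)
  exact ⟨j.left, j.hom, hj⟩

end E

/-- a cofiltered limit over `X` of schemes affine over `X` is affine over `X` -/
theorem isAffineHom_of_isLimit {X : Scheme.{u}} {I : Type u} [SmallCategory I] [IsCofiltered I]
    (D : I ⥤ Over X) (c : Cone D) (hc : IsLimit c) (h : ∀ i, IsAffineHom (D.obj i).hom) :
    IsAffineHom c.pt.hom := by
  have : IsConnected I := IsCofiltered.isConnected I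
  let D' : I ⥤ Scheme.{u} := D ⋙ Over.forget X
  let c' : Cone D' := (Over.forget X).mapCone c
  have hc' : IsLimit c' := isLimitOfPreserves (Over.forget X) hc
  have hA : ∀ {i j : I} (f : i ⟶ j), IsAffineHom (D'.map f) := fun {i j} f => by
    have h1 : (D.map f).left ≫ (D.obj j).hom = (D.obj i).hom := Over.w (D.map f)
    have := h i
    have := h j
    have h2 : IsAffineHom ((D.map f).left ≫ (D.obj j).hom) := by rw [h1]; infer_instance
    exact IsAffineHom.of_comp (D.map f).left (D.obj j).hom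
  obtain ⟨i⟩ := IsCofiltered.nonempty (C := I)
  have h3 := isAffineHom_π_app D' c' hc' i
  have h4 : (c.π.app i).left ≫ (D.obj i).hom = c.pt.hom := Over.w (c.π.app i)
  have := h i
  rw [← h4]
  have : IsAffineHom (c.π.app i).left := h3
  infer_instance



/-- in a system over a qcqs base `X` with affine transitions and qcqs structure maps whose limit
is affine over `X`, some stage is affine over `X` -/
theorem exists_isAffineHom_stage {X : Scheme.{u}} [CompactSpace X] [QuasiSeparatedSpace X]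
    {I : Type u} [SmallCategory I] [IsCofiltered I]
    (D : I ⥤ Over X) (c : Cone D) (hc : IsLimit c)
    (hprops : ∀ i, QuasiCompact (D.obj i).hom ∧ QuasiSeparated (D.obj i).hom)
    (haff : ∀ (i j : I) (a : i ⟶ j), IsAffineHom (D.map a).left)
    (hlim : IsAffineHom c.pt.hom) : ∃ k, IsAffineHom (D.obj k).hom := by
  classical
  have : IsConnected I := IsCofiltered.isConnected I
  let D' : I ⥤ Scheme.{u} := D ⋙ Over.forget X
  let c' : Cone D' := (Over.forget X).mapCone c
  have hc' : IsLimit c' := isLimitOfPreserves (Over.forget X) hc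
  have hA : ∀ {i j : I} (f : i ⟶ j), IsAffineHom (D'.map f) := fun {i j} f => haff i j f
  have hQ : ∀ i, QuasiSeparatedSpace (D'.obj i) := fun i => by
    haveI : QuasiSeparated (D.obj i).hom := (hprops i).2
    show QuasiSeparatedSpace (D.obj i).left
    exact quasiSeparatedSpace_of_quasiSeparated (D.obj i).hom
  obtain ⟨i₁⟩ := IsCofiltered.nonempty (C := I)
  have hcov : ∀ x : X, ∃ U : X.Opens, IsAffineOpen U ∧ x ∈ U := by
    intro x
    obtain ⟨_, ⟨U, hU, rfl⟩, hxU, -⟩ := X.isBasis_affineOpens.exists_subset_of_mem_open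
      (Set.mem_univ x) isOpen_univ
    exact ⟨U, hU, hxU⟩
  choose U hU hxU using hcov
  have hstage : ∀ x : X, ∃ (j : I) (g : j ⟶ i₁), IsAffineOpen ((D.obj j).hom ⁻¹ᵁ U x) := by
    intro x
    have := (hprops i₁).1
    have hcomp : IsCompact (((D.obj i₁).hom ⁻¹ᵁ U x : (D'.obj i₁).Opens) : Set (D'.obj i₁)) :=
      QuasiCompact.isCompact_preimage (f := (D.obj i₁).hom) _ (U x).2 (hU x).isCompact
    have haffU : IsAffineOpen (c'.π.app i₁ ⁻¹ᵁ ((D.obj i₁).hom ⁻¹ᵁ U x)) := by
      have h1 : (c.π.app i₁).left ≫ (D.obj i₁).hom = c.pt.hom := Over.w (c.π.app i₁)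
      have h2 : c'.π.app i₁ ⁻¹ᵁ ((D.obj i₁).hom ⁻¹ᵁ U x) = c.pt.hom ⁻¹ᵁ U x := by
        rw [← h1]; rfl
      rw [h2]
      exact (hU x).preimage c.pt.hom
    obtain ⟨j, g, hj⟩ := exists_isAffineOpen_preimage D' c' hc' i₁
      ((D.obj i₁).hom ⁻¹ᵁ U x) hcomp haffU
    refine ⟨j, g, ?_⟩
    have h3 : (D.map g).left ≫ (D.obj i₁).hom = (D.obj j).hom := Over.w (D.map g)
    have h4 : (D.obj j).hom ⁻¹ᵁ U x = D'.map g ⁻¹ᵁ ((D.obj i₁).hom ⁻¹ᵁ U x) := by
      rw [← h3]; rfl
    rw [h4]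
    exact hj
  choose j g hj using hstage
  obtain ⟨σ, hσ⟩ := CompactSpace.elim_nhds_subcover (fun x => ((U x : X.Opens) : Set X))
    (fun x => (U x).2.mem_nhds (hxU x))
  obtain ⟨k, hk⟩ := IsCofiltered.inf_objs_exists (σ.image j)
  refine ⟨k, isAffineHom_of_forall_exists_isAffineOpen (f := (D.obj k).hom) (fun y => ?_)⟩
  have hy : y ∈ ⋃ x ∈ σ, ((U x : X.Opens) : Set X) := by rw [hσ]; trivial
  obtain ⟨x, hx, hyx⟩ := Set.mem_iUnion₂.mp hy
  refine ⟨U x, hyx, hU x, ?_⟩
  obtain ⟨t⟩ := hk (Finset.mem_image_of_mem j hx)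
  have h5 : (D.map t).left ≫ (D.obj (j x)).hom = (D.obj k).hom := Over.w (D.map t)
  have h6 : (D.obj k).hom ⁻¹ᵁ U x = D'.map t ⁻¹ᵁ ((D.obj (j x)).hom ⁻¹ᵁ U x) := by
    rw [← h5]; rfl
  rw [h6]
  exact @IsAffineOpen.preimage _ _ _ (hj x) (D'.map t) (hA t)



theorem exists_affine_system {X Y : Scheme.{u}} (f : Y ⟶ X)
    [CompactSpace X] [QuasiSeparatedSpace X] [CompactSpace Y] [QuasiSeparatedSpace Y]
    [IsAffineHom f] :
    ∃ (I : Type u) (_ : SmallCategory I) (_ : IsFiltered I) (D : Iᵒᵖ ⥤ Over X)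
      (c : Limits.Cone D) (_ : Limits.IsLimit c),
      (∀ i, IsAffineHom (D.obj i).hom ∧ LocallyOfFinitePresentation (D.obj i).hom) ∧
      Nonempty (c.pt ≅ Over.mk f) := by
  classical
  obtain ⟨I, pI, hdir, hne, D, c, hc, hprops, haff, ⟨e⟩⟩ :=
    Groth.Agent.Lib.Helper22.NA11.exists_over_system (g := f) (ι := 𝟙 X)
  haveI : IsFiltered I := isFiltered_of_directed_le_nonempty I
  -- the limit is affine over X
  have e' : c.pt ≅ Over.mk f := e ≪≫ Over.isoMk (Iso.refl _) (by simp)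
  have hlim : IsAffineHom c.pt.hom := by
    have h1 : e'.hom.left ≫ f = c.pt.hom := Over.w e'.hom
    rw [← h1]
    infer_instance
  obtain ⟨k, hk⟩ := exists_isAffineHom_stage D c hc
    (fun i => ⟨(hprops i).2.1, (hprops i).2.2⟩) haff hlim
  -- restrict to the stages above k
  let I' : Type u := {i : I // k.unop ≤ i}
  haveI : Nonempty I' := ⟨⟨k.unop, le_refl _⟩⟩
  haveI : IsDirected I' (fun a b => a ≤ b) := by
    refine ⟨fun a b => ?_⟩
    obtain ⟨m, h1, h2⟩ := hdir.directed a.1 b.1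
    exact ⟨⟨m, le_trans a.2 h1⟩, h1, h2⟩
  haveI : IsFiltered I' := isFiltered_of_directed_le_nonempty I'
  let ι : I' ⥤ I := (Subtype.mono_coe (fun i : I => k.unop ≤ i)).functor
  haveI : ι.Final := by
    rw [Monotone.final_functor_iff]
    intro d
    obtain ⟨m, h1, h2⟩ := hdir.directed d k.unop
    exact ⟨⟨m, h2⟩, h1⟩
  haveI : ι.op.Initial := Functor.initial_op_of_final ι
  refine ⟨I', inferInstance, inferInstance, ι.op ⋙ D, c.whisker ι.op,
    (Functor.Initial.isLimitWhiskerEquiv ι.op c).symm hc, fun i => ⟨?_, (hprops _).1⟩, ⟨e'⟩⟩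
  have hle : k.unop ≤ i.unop.1 := i.unop.2
  have h2 : (D.map (homOfLE hle).op).left ≫ (D.obj k).hom = (D.obj (op i.unop.1)).hom :=
    Over.w (D.map (homOfLE hle).op)
  have := haff _ _ (homOfLE hle).op
  show IsAffineHom (D.obj (op i.unop.1)).hom
  rw [← h2]
  infer_instance

theorem main {X Y : Scheme.{u}} (f : Y ⟶ X)
    [CompactSpace X] [QuasiSeparatedSpace X] [CompactSpace Y] [QuasiSeparatedSpace Y] :
    IsAffineHom f ↔
      ∃ (I : Type u) (_ : SmallCategory I) (_ : IsFiltered I) (D : Iᵒᵖ ⥤ Over X)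
        (c : Limits.Cone D) (_ : Limits.IsLimit c),
        (∀ i, IsAffineHom (D.obj i).hom ∧ LocallyOfFinitePresentation (D.obj i).hom) ∧
        Nonempty (c.pt ≅ Over.mk f) := by
  constructor
  · intro h
    exact exists_affine_system f
  · rintro ⟨I, _, _, D, c, hc, h, ⟨e⟩⟩
    have h1 := isAffineHom_of_isLimit D c hc (fun i => (h i).1)
    have h2 : e.inv.left ≫ c.pt.hom = f := Over.w e.inv
    rw [← h2]
    infer_instance


end Groth.Agent.Lib.H9Lim1
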