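import Mathlib
import Groth.Agent.Lib.H9Lim1

/-!
# Zariski's main theorem, finite form, over a quasi-compact quasi-separated base (helper3, round 2)

Cutting an integral compactification down to a finite one over a qcqs base: if `g : Y ⟶ S` is
integral, `S` qcqs, and `j : X ⟶ Y` is an open immersion with `X` compact and `j ≫ g` locally of
finite type, then `j ≫ g` factors as an open immersion followed by a finite morphism
(`exists_finite_of_integral`).  The proof writes `Y` as a cofiltered limit of affine finitely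
presented `S`-schemes (`H9Lim1.exists_affine_system`), finds a stage at which `X` is cut out by
affine opens with surjective section maps (`exists_stage`), and takes the scheme-theoretic image of
`Y` at that stage (`exists_of_stage`).
-/

set_option autoImplicit false
set_option linter.unusedSectionVars false
universe u
open CategoryTheory CategoryTheory.Limits AlgebraicGeometry TopologicalSpace Opposite

namespace Groth.Agent.Lib.R2H3.ZMTFin



theorem isIso_iff_of_isAffine' {X Y : Scheme.{u}} (f : X ⟶ Y) [IsAffine Y] :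
    IsIso f ↔ IsAffine X ∧ IsIso (f.appTop) :=
  @HasAffineProperty.iff_of_isAffine (MorphismProperty.isomorphisms Scheme.{u}) _
    instHasAffinePropertyIsomorphismsSchemeAndIsAffineIsIsoCommRingCatAppTop _ _ f _

theorem surjective_map_eqToHom {Y : Scheme.{u}} {U V : Y.Opens} (h : U = V) :
    Function.Surjective (Y.presheaf.map (eqToHom h).op) := by
  subst h
  intro y
  exact ⟨y, by simp⟩

theorem isIso_map_eqToHom {Y : Scheme.{u}} {U V : Y.Opens} (h : U = V) :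
    IsIso (Y.presheaf.map (eqToHom h).op) := by
  subst h
  simp only [eqToHom_refl, op_id, CategoryTheory.Functor.map_id]
  infer_instance

theorem surj_of_comm {A B C D : CommRingCat.{u}} (a : A ⟶ B) (b : B ⟶ D) (c : A ⟶ C) (d : C ⟶ D)
    (hd : Function.Surjective d) (h : a ≫ b = c ≫ d) (hc : Function.Surjective c) :
    Function.Surjective b := by
  intro y
  obtain ⟨z, hz⟩ := hd y
  obtain ⟨x, rfl⟩ := hc z
  refine ⟨a x, ?_⟩
  rw [← hz, ← ConcreteCategory.comp_apply, h, ConcreteCategory.comp_apply]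

variable {Y P : Scheme.{u}} (π : Y ⟶ P) [QuasiCompact π]

/-- if `π.app W` is surjective for an affine open `W`, then `toImage` is an isomorphism on sections over `ι⁻¹ W`. -/
theorem isIso_toImage_app (W : P.Opens) (hW : IsAffineOpen W)
    (hs : Function.Surjective (π.app W)) : IsIso (π.toImage.app (π.imageι ⁻¹ᵁ W)) := by
  rw [ConcreteCategory.isIso_iff_bijective]
  refine ⟨Scheme.Hom.toImage_app_injective π ⟨W, hW⟩, ?_⟩
  have h := Scheme.Hom.congr_app (Scheme.Hom.toImage_imageι π) W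
  rw [Scheme.Hom.comp_app] at h
  exact surj_of_comm _ _ _ _ (surjective_map_eqToHom _) h hs

/-- `toImage` restricted over `ι⁻¹ W` is an isomorphism when `π.app W` is surjective, `W` and `π⁻¹ W` affine. -/
theorem isIso_restrict_toImage (W : P.Opens) (hW : IsAffineOpen W) (hW' : IsAffineOpen (π ⁻¹ᵁ W))
    (hs : Function.Surjective (π.app W)) : IsIso (π.toImage ∣_ (π.imageι ⁻¹ᵁ W)) := by
  have hU : IsAffineOpen (π.imageι ⁻¹ᵁ W) := hW.preimage π.imageι
  have hU' : IsAffineOpen (π.toImage ⁻¹ᵁ (π.imageι ⁻¹ᵁ W)) := by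
    rw [← Scheme.Hom.comp_preimage, Scheme.Hom.toImage_imageι]; exact hW'
  have : IsAffine (π.imageι ⁻¹ᵁ W).toScheme := hU
  have : IsAffine (π.toImage ⁻¹ᵁ (π.imageι ⁻¹ᵁ W)).toScheme := hU'
  have key : ∀ U' : π.image.Opens, U' = π.imageι ⁻¹ᵁ W → IsIso (π.toImage.app U') := by
    rintro _ rfl
    exact isIso_toImage_app π W hW hs
  rw [isIso_iff_of_isAffine']
  refine ⟨inferInstance, ?_⟩
  rw [morphismRestrict_appTop]
  have := key ((π.imageι ⁻¹ᵁ W).ι ''ᵁ ⊤) (by simp)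
  exact @IsIso.comp_isIso _ _ _ _ _ _ _ this (isIso_map_eqToHom _)


/-- being an isomorphism over an open can be checked on an open cover of that open -/
theorem isIso_restrict_of_iSup {Y Z : Scheme.{u}} (p : Y ⟶ Z) {ι : Type*} (U : Z.Opens)
    (V : ι → Z.Opens) (hU : ⨆ i, V i = U) (h : ∀ i, IsIso (p ∣_ V i)) : IsIso (p ∣_ U) := by
  have hle : ∀ i, V i ≤ U := fun i => by rw [← hU]; exact le_iSup V i
  have key : (MorphismProperty.isomorphisms Scheme.{u}) (p ∣_ U) := by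
    apply IsZariskiLocalAtTarget.of_iSup_eq_top (P := MorphismProperty.isomorphisms Scheme.{u})
      (fun i : ι => U.ι ⁻¹ᵁ (V i))
    · rw [eq_top_iff]
      rintro ⟨z, hz⟩ -
      rw [← hU] at hz
      obtain ⟨i, hi⟩ := Opens.mem_iSup.mp hz
      exact Opens.mem_iSup.mpr ⟨i, hi⟩
    · intro i
      rw [(MorphismProperty.isomorphisms Scheme.{u}).arrow_mk_iso_iff
        (morphismRestrictRestrict p U _)]
      have e : U.ι ''ᵁ (U.ι ⁻¹ᵁ (V i)) = V i := by
        rw [Scheme.Hom.image_preimage_eq_opensRange_inf, Scheme.Opens.opensRange_ι]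
        exact inf_eq_right.mpr (hle i)
      rw [(MorphismProperty.isomorphisms Scheme.{u}).arrow_mk_iso_iff (morphismRestrictEq p e)]
      exact h i
  exact key

theorem comp_app_eq {X Y Z : Scheme.{u}} (f : X ⟶ Y) (g : Y ⟶ Z) (k : X ⟶ Z) (hk : f ≫ g = k)
    (V : Z.Opens) :
    ∃ e : k ⁻¹ᵁ V = f ⁻¹ᵁ (g ⁻¹ᵁ V),
      g.app V ≫ f.app (g ⁻¹ᵁ V) ≫ X.presheaf.map (eqToHom e).op = k.app V := by
  subst hk
  refine ⟨Scheme.Hom.comp_preimage f g V, ?_⟩
  simp only [Scheme.Hom.app_eq_appLE, Scheme.Hom.appLE_map, Scheme.Hom.appLE_comp_appLE]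

theorem injective_map_eqToHom {Y : Scheme.{u}} {U V : Y.Opens} (h : U = V) :
    Function.Injective (Y.presheaf.map (eqToHom h).op) := by
  subst h
  intro a b hab
  simpa using hab

omit [QuasiCompact π] in
/-- finiteness of the scheme-theoretic image of an integral scheme in an affine scheme of finite type -/
theorem isFinite_imageι_comp {S : Scheme.{u}} [IsAffineHom π] (s : P ⟶ S) [IsAffineHom s]
    [LocallyOfFiniteType s] (q : Y ⟶ S) [IsIntegralHom q] (hq : π ≫ s = q) :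
    IsFinite (π.imageι ≫ s) := by
  rw [IsFinite.iff_isIntegralHom_and_locallyOfFiniteType]
  refine ⟨⟨fun V hV => ?_⟩, inferInstance⟩
  have hq' : π.toImage ≫ (π.imageι ≫ s) = q := by
    rw [← Category.assoc, Scheme.Hom.toImage_imageι, hq]
  obtain ⟨e, he⟩ := comp_app_eq π.toImage (π.imageι ≫ s) q hq' V
  have hint : (q.app V).hom.IsIntegral := q.isIntegral_app V hV
  rw [← he, CommRingCat.hom_comp] at hint
  refine RingHom.IsIntegral.tower_bot _ _ ?_ hint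
  rw [CommRingCat.hom_comp]
  exact (injective_map_eqToHom e).comp
    (Scheme.Hom.toImage_app_injective π ⟨s ⁻¹ᵁ V, hV.preimage s⟩)


omit [QuasiCompact π] in
/-- assembling: a stage at which the compact open `X` of the integral scheme `Y` is cut out by affine
opens with surjective section maps gives a finite compactification of `X`. -/
theorem exists_of_stage {S X : Scheme.{u}} [IsAffineHom π] (s : P ⟶ S) [IsAffineHom s]
    [LocallyOfFiniteType s] (q : Y ⟶ S) [IsIntegralHom q] (hq : π ≫ s = q) (j : X ⟶ Y)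
    [IsOpenImmersion j] {A : Type*} (W : A → P.Opens) (hW : ∀ a, IsAffineOpen (W a))
    (hs : ∀ a, Function.Surjective (π.app (W a)))
    (hO : ⨆ a, π ⁻¹ᵁ (W a) = j.opensRange) :
    ∃ (T : Scheme.{u}) (j' : X ⟶ T) (π' : T ⟶ S),
      IsOpenImmersion j' ∧ IsFinite π' ∧ j' ≫ π' = j ≫ q := by
  let OZ : π.image.Opens := ⨆ a, π.imageι ⁻¹ᵁ (W a)
  have h1 : IsIso (π.toImage ∣_ OZ) :=
    isIso_restrict_of_iSup π.toImage OZ (fun a => π.imageι ⁻¹ᵁ (W a)) rfl
      (fun a => isIso_restrict_toImage π (W a) (hW a) ((hW a).preimage π) (hs a))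
  have h2 : π.toImage ⁻¹ᵁ OZ = j.opensRange := by
    rw [← hO]
    simp only [OZ, Scheme.Hom.preimage_iSup, ← Scheme.Hom.comp_preimage,
      Scheme.Hom.toImage_imageι]
  have hr : Set.range j = Set.range (π.toImage ⁻¹ᵁ OZ).ι := by
    rw [Scheme.Opens.range_ι, h2]
    rfl
  let e : X ≅ (π.toImage ⁻¹ᵁ OZ).toScheme := IsOpenImmersion.isoOfRangeEq j (π.toImage ⁻¹ᵁ OZ).ι hr
  have he : e.hom ≫ (π.toImage ⁻¹ᵁ OZ).ι = j := IsOpenImmersion.isoOfRangeEq_hom_fac _ _ _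
  have h3 : j ≫ π.toImage = e.hom ≫ (π.toImage ∣_ OZ) ≫ OZ.ι := by
    rw [morphismRestrict_ι, ← Category.assoc, he]
  refine ⟨π.image, j ≫ π.toImage, π.imageι ≫ s, ?_, isFinite_imageι_comp π s q hq, ?_⟩
  · rw [h3]
    infer_instance
  · rw [Category.assoc, ← Category.assoc π.toImage, Scheme.Hom.toImage_imageι, hq]



theorem finiteType_appLE {X Y S : Scheme.{u}} (j : X ⟶ Y) [IsOpenImmersion j] (q : Y ⟶ S)
    [LocallyOfFiniteType (j ≫ q)] (U : Y.Opens) (hU : IsAffineOpen U) (V : S.Opens)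
    (hV : IsAffineOpen V) (hUO : U ≤ j.opensRange) (hUV : U ≤ q ⁻¹ᵁ V) :
    (q.appLE V U hUV).hom.FiniteType := by
  have hU' : IsAffineOpen (j ⁻¹ᵁ U) := hU.preimage_of_isOpenImmersion j hUO
  have e : j ⁻¹ᵁ U ≤ (j ≫ q) ⁻¹ᵁ V := by
    rw [Scheme.Hom.comp_preimage]; exact Scheme.Hom.preimage_mono _ hUV
  have h1 : ((j ≫ q).appLE V (j ⁻¹ᵁ U) e).hom.FiniteType :=
    HasRingHomProperty.appLE @LocallyOfFiniteType (j ≫ q) inferInstance ⟨V, hV⟩ ⟨_, hU'⟩ e
  have himg : j ''ᵁ (j ⁻¹ᵁ U) = U := by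
    rw [Scheme.Hom.image_preimage_eq_opensRange_inf, inf_eq_right.mpr hUO]
  have key : ∀ (U₀ : Y.Opens) (h0 : U₀ = j ''ᵁ (j ⁻¹ᵁ U)),
      IsIso (j.appLE U₀ (j ⁻¹ᵁ U) (by rw [h0]; exact (j.preimage_image_eq _).ge)) := by
    rintro _ rfl
    exact inferInstanceAs (IsIso (j.app _ ≫
      X.presheaf.map (eqToHom (j.preimage_image_eq _).symm).op))
  have hiso : IsIso (j.appLE U (j ⁻¹ᵁ U) le_rfl) := key U himg.symm
  have h2 : (j ≫ q).appLE V (j ⁻¹ᵁ U) e = q.appLE V U hUV ≫ j.appLE U (j ⁻¹ᵁ U) le_rfl :=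
    (Scheme.Hom.appLE_comp_appLE _ _ _ _ _ _ _).symm
  rw [h2, CommRingCat.hom_comp] at h1
  exact (RingHom.finiteType_respectsIso.cancel_right_isIso _ (j.appLE U (j ⁻¹ᵁ U) le_rfl)).mp h1

section stage

variable {I : Type u} [SmallCategory I] [IsCofiltered I] (D : I ⥤ Scheme.{u}) (c : Cone D)
  (hc : IsLimit c)

theorem res_injective {X : Scheme.{u}} {V W : X.Opens} (h : V ≤ W) (h' : W ≤ V) :
    Function.Injective (X.presheaf.map (homOfLE h).op) := by
  intro a b hab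
  have := congrArg (X.presheaf.map (homOfLE h').op) hab
  rw [← ConcreteCategory.comp_apply, ← ConcreteCategory.comp_apply, ← Functor.map_comp] at this
  have h2 : (homOfLE h).op ≫ (homOfLE h').op = 𝟙 _ := Subsingleton.elim _ _
  rw [h2, CategoryTheory.Functor.map_id] at this
  simpa using this

theorem res_surjective {X : Scheme.{u}} {V W : X.Opens} (h : V ≤ W) (h' : W ≤ V) :
    Function.Surjective (X.presheaf.map (homOfLE h).op) := by
  intro a
  refine ⟨X.presheaf.map (homOfLE h').op a, ?_⟩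
  rw [← ConcreteCategory.comp_apply, ← Functor.map_comp]
  have h2 : (homOfLE h').op ≫ (homOfLE h).op = 𝟙 _ := Subsingleton.elim _ _
  rw [h2, CategoryTheory.Functor.map_id]
  simp

set_option backward.defeqAttrib.useBackward true in
set_option backward.isDefEq.respectTransparency false in
open Scheme.Opens in
include hc in
/-- sections of the limit over the preimage of an affine open come from a finite stage
(copied from helper1's `R2H1CycLimB`). -/
theorem exists_appLE_eq [∀ {i j} (f : i ⟶ j), IsAffineHom (D.map f)]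
    (i : I) (V : (D.obj i).Opens) (hV : IsAffineOpen V) (r : Γ(c.pt, c.π.app i ⁻¹ᵁ V)) :
    ∃ (j : I) (f : j ⟶ i) (s : Γ(D.obj j, D.map f ⁻¹ᵁ V))
      (h : c.π.app i ⁻¹ᵁ V ≤ c.π.app j ⁻¹ᵁ D.map f ⁻¹ᵁ V),
      r = (c.π.app j).appLE (D.map f ⁻¹ᵁ V) (c.π.app i ⁻¹ᵁ V) h s := by
  have (j : _) : IsAffine ((opensDiagram D i V).op.obj j).unop := hV.preimage _
  have (j : _) : IsAffine ((opensDiagram D i V).obj j) := hV.preimage _
  obtain ⟨⟨j⟩, s, hs⟩ := (Types.jointly_surjective_of_isColimit (isColimitOfPreserves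
    (Scheme.Γ ⋙ forget _) (isLimitOpensCone D c hc i V).op) ((c.π.app i ⁻¹ᵁ V).topIso.inv r))
  obtain ⟨s, rfl⟩ := (D.map j.hom ⁻¹ᵁ V).topIso.symm.commRingCatIsoToRingEquiv.surjective s
  have h : c.π.app j.left ⁻¹ᵁ D.map j.hom ⁻¹ᵁ V = c.π.app i ⁻¹ᵁ V := congr($(c.w j.hom) ⁻¹ᵁ V)
  have : r = (c.π.app j.left).appLE (D.map j.hom ⁻¹ᵁ V) (c.π.app i ⁻¹ᵁ V) h.ge s := by
    convert!
      show r = ((topIso _).inv ≫ ((opensCone D c i V).π.app j).appTop ≫ (topIso _).hom) s from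
        (c.π.app i ⁻¹ᵁ V).topIso.commRingCatIsoToRingEquiv.symm_apply_eq.mp hs.symm using 3
    simp [Scheme.Hom.app_eq_appLE, Scheme.Hom.resLE_appLE]
  exact ⟨j.left, j.hom, s, h.ge, this⟩

omit [IsCofiltered I] in
theorem preimage_eq {i j : I} (a : j ⟶ i) (W : (D.obj i).Opens) :
    c.π.app j ⁻¹ᵁ (D.map a ⁻¹ᵁ W) = c.π.app i ⁻¹ᵁ W := by
  rw [← Scheme.Hom.comp_preimage, c.w]

/-- the section map from stage `(j, a)` to the limit, over the preimage of `W`. -/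
noncomputable abbrev rho {i : I} (W : (D.obj i).Opens) {j : I} (a : j ⟶ i) :
    Γ(D.obj j, D.map a ⁻¹ᵁ W) ⟶ Γ(c.pt, c.π.app i ⁻¹ᵁ W) :=
  (c.π.app j).appLE (D.map a ⁻¹ᵁ W) (c.π.app i ⁻¹ᵁ W) (preimage_eq D c a W).ge

theorem rho_mono {i : I} (W : (D.obj i).Opens) {j k : I} (a : j ⟶ i) (a' : k ⟶ i) (b : k ⟶ j)
    (hb : b ≫ a = a') : Set.range (rho D c W a) ⊆ Set.range (rho D c W a') := by
  subst hb
  rintro _ ⟨x, rfl⟩
  refine ⟨(D.map b).appLE (D.map a ⁻¹ᵁ W) (D.map (b ≫ a) ⁻¹ᵁ W)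
    (by rw [D.map_comp, Scheme.Hom.comp_preimage]) x, ?_⟩
  simp only [rho]
  rw [← ConcreteCategory.comp_apply, Scheme.Hom.appLE_comp_appLE]
  congr 2
  simp [c.w]


variable [∀ {i j} (f : i ⟶ j), IsAffineHom (D.map f)]

include hc in
theorem mem_range_rho {i : I} (W : (D.obj i).Opens) (hW : IsAffineOpen W)
    (r : Γ(c.pt, c.π.app i ⁻¹ᵁ W)) : ∃ (j : I) (a : j ⟶ i), r ∈ Set.range (rho D c W a) := by
  obtain ⟨j, a, s, h, hr⟩ := exists_appLE_eq D c hc i W hW r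
  exact ⟨j, a, s, hr.symm⟩

include hc in
theorem exists_finset_subset {i : I} (W : (D.obj i).Opens) (hW : IsAffineOpen W)
    (G : Finset Γ(c.pt, c.π.app i ⁻¹ᵁ W)) :
    ∃ (j : I) (a : j ⟶ i), (G : Set Γ(c.pt, c.π.app i ⁻¹ᵁ W)) ⊆ Set.range (rho D c W a) := by
  classical
  induction G using Finset.induction_on with
  | empty => exact ⟨i, 𝟙 i, by simp⟩
  | insert r G _ ih =>
    obtain ⟨j₁, a₁, h₁⟩ := ih
    obtain ⟨j₂, a₂, h₂⟩ := mem_range_rho D c hc W hW r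
    obtain ⟨k, b₁, b₂, hb⟩ := IsCofiltered.cospan a₁ a₂
    refine ⟨k, b₁ ≫ a₁, ?_⟩
    intro x hx
    rw [Finset.coe_insert, Set.mem_insert_iff] at hx
    rcases hx with rfl | hx
    · exact rho_mono D c W a₂ (b₁ ≫ a₁) b₂ hb.symm h₂
    · exact rho_mono D c W a₁ (b₁ ≫ a₁) b₁ rfl (h₁ hx)

theorem range_appLE_subset {S : Scheme.{u}} (t : ∀ i, D.obj i ⟶ S) (q : c.pt ⟶ S)
    (hq : ∀ i, c.π.app i ≫ t i = q) (ht : ∀ {i j : I} (f : i ⟶ j), D.map f ≫ t j = t i)
    {i : I} (W : (D.obj i).Opens) (V : S.Opens) (hWV : W ≤ t i ⁻¹ᵁ V)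
    (hUV : c.π.app i ⁻¹ᵁ W ≤ q ⁻¹ᵁ V) {j : I} (a : j ⟶ i) :
    Set.range (q.appLE V (c.π.app i ⁻¹ᵁ W) hUV) ⊆ Set.range (rho D c W a) := by
  rintro _ ⟨x, rfl⟩
  have h1 : D.map a ⁻¹ᵁ W ≤ t j ⁻¹ᵁ V := by
    rw [← ht a, Scheme.Hom.comp_preimage]
    exact Scheme.Hom.preimage_mono _ hWV
  refine ⟨(t j).appLE V (D.map a ⁻¹ᵁ W) h1 x, ?_⟩
  simp only [rho]
  rw [← ConcreteCategory.comp_apply, Scheme.Hom.appLE_comp_appLE]
  congr 2
  simp [hq]


include hc in
theorem exists_surj_stage {S : Scheme.{u}} (t : ∀ i, D.obj i ⟶ S) (q : c.pt ⟶ S)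
    (hq : ∀ i, c.π.app i ≫ t i = q) (ht : ∀ {i j : I} (f : i ⟶ j), D.map f ≫ t j = t i)
    {i : I} (W : (D.obj i).Opens) (hW : IsAffineOpen W) (V : S.Opens) (hWV : W ≤ t i ⁻¹ᵁ V)
    (hUV : c.π.app i ⁻¹ᵁ W ≤ q ⁻¹ᵁ V)
    (hft : (q.appLE V (c.π.app i ⁻¹ᵁ W) hUV).hom.FiniteType) :
    ∃ (j : I) (a : j ⟶ i), ∀ (k : I) (b : k ⟶ j),
      Function.Surjective ((c.π.app k).app (D.map (b ≫ a) ⁻¹ᵁ W)) := by
  classical
  let _ := (q.appLE V (c.π.app i ⁻¹ᵁ W) hUV).hom.toAlgebra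
  have hft' : Algebra.FiniteType Γ(S, V) Γ(c.pt, c.π.app i ⁻¹ᵁ W) := hft
  obtain ⟨G, hG⟩ := hft'.out
  obtain ⟨j, a, hGa⟩ := exists_finset_subset D c hc W hW G
  have hall : ∀ x : Γ(c.pt, c.π.app i ⁻¹ᵁ W), x ∈ Set.range (rho D c W a) := by
    intro x
    have hx : x ∈ Algebra.adjoin Γ(S, V) (G : Set Γ(c.pt, c.π.app i ⁻¹ᵁ W)) := by
      rw [hG]; exact Algebra.mem_top
    induction hx using Algebra.adjoin_induction with
    | mem x hx => exact hGa hx
    | algebraMap r =>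
      exact range_appLE_subset D c t q hq ht W V hWV hUV a ⟨r, rfl⟩
    | add x y _ _ hx hy =>
      obtain ⟨x', rfl⟩ := hx
      obtain ⟨y', rfl⟩ := hy
      exact ⟨x' + y', map_add _ _ _⟩
    | mul x y _ _ hx hy =>
      obtain ⟨x', rfl⟩ := hx
      obtain ⟨y', rfl⟩ := hy
      exact ⟨x' * y', map_mul _ _ _⟩
  refine ⟨j, a, fun k b => ?_⟩
  have h1 : Function.Surjective (rho D c W (b ≫ a)) := fun x =>
    rho_mono D c W a (b ≫ a) b rfl (hall x)
  have hle : c.π.app k ⁻¹ᵁ (D.map (b ≫ a) ⁻¹ᵁ W) ≤ c.π.app i ⁻¹ᵁ W :=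
    (preimage_eq D c (b ≫ a) W).le
  have h2 : rho D c W (b ≫ a) ≫ c.pt.presheaf.map (homOfLE hle).op =
      (c.π.app k).app (D.map (b ≫ a) ⁻¹ᵁ W) := by
    rw [Scheme.Hom.app_eq_appLE]
    exact Scheme.Hom.appLE_map _ _ _
  rw [← h2]
  intro y
  obtain ⟨z, hz⟩ := res_surjective hle (preimage_eq D c (b ≫ a) W).ge y
  obtain ⟨x, hx⟩ := h1 z
  refine ⟨x, ?_⟩
  rw [ConcreteCategory.comp_apply, hx]
  exact hz


include hc in
theorem exists_basic_nhd {S : Scheme.{u}} (t : ∀ i, D.obj i ⟶ S) (q : c.pt ⟶ S)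
    (hq : ∀ i, c.π.app i ≫ t i = q) (x : c.pt) (O : c.pt.Opens) (hx : x ∈ O) :
    ∃ (i : I) (W : (D.obj i).Opens) (V : S.Opens), IsAffineOpen W ∧ IsAffineOpen V ∧
      W ≤ t i ⁻¹ᵁ V ∧ x ∈ c.π.app i ⁻¹ᵁ W ∧ c.π.app i ⁻¹ᵁ W ≤ O := by
  obtain ⟨_, ⟨V, hV, rfl⟩, hxV, -⟩ := S.isBasis_affineOpens.exists_subset_of_mem_open
    (Set.mem_univ (q x)) isOpen_univ
  have hx' : x ∈ O ⊓ q ⁻¹ᵁ V := ⟨hx, hxV⟩
  obtain ⟨_, ⟨i, W₀, hW₀, rfl⟩, hxW₀, hW₀O⟩ :=
    Opens.isBasis_iff_nbhd.mp (isBasis_preimage_isAffineOpen D c hc) hx'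
  have hx1 : c.π.app i x ∈ W₀ ⊓ t i ⁻¹ᵁ V := by
    refine ⟨hxW₀, ?_⟩
    show t i (c.π.app i x) ∈ V
    rw [← Scheme.Hom.comp_apply, hq i]
    exact hxV
  obtain ⟨f, hf1, hf2⟩ := hW₀.exists_basicOpen_le (V := W₀ ⊓ t i ⁻¹ᵁ V) ⟨c.π.app i x, hx1⟩ hxW₀
  refine ⟨i, (D.obj i).basicOpen f, V, hW₀.basicOpen f, hV, hf1.trans inf_le_right, hf2, ?_⟩
  exact (Scheme.Hom.preimage_mono _ (hf1.trans inf_le_left)).trans (hW₀O.trans inf_le_left)


include hc in
/-- a compact open `X` of the limit, of finite type over the base, is cut out at a finite stage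
by affine opens over which the section maps to the limit are surjective. -/
theorem exists_stage {S : Scheme.{u}} (t : ∀ i, D.obj i ⟶ S) (q : c.pt ⟶ S)
    (hq : ∀ i, c.π.app i ≫ t i = q) (ht : ∀ {i j : I} (f : i ⟶ j), D.map f ≫ t j = t i)
    {X : Scheme.{u}} [CompactSpace X] (j : X ⟶ c.pt) [IsOpenImmersion j]
    [LocallyOfFiniteType (j ≫ q)] :
    ∃ (k : I) (A : Type u) (W : A → (D.obj k).Opens), (∀ a, IsAffineOpen (W a)) ∧
      (∀ a, Function.Surjective ((c.π.app k).app (W a))) ∧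
      ⨆ a, c.π.app k ⁻¹ᵁ (W a) = j.opensRange := by
  classical
  have hcomp : IsCompact (j.opensRange : Set c.pt) := isCompact_range j.continuous
  choose i W V hW hV hWV hxW hWO using fun x : (j.opensRange : Set c.pt) =>
    exists_basic_nhd D c hc t q hq x.1 j.opensRange x.2
  have hUV : ∀ x, c.π.app (i x) ⁻¹ᵁ W x ≤ q ⁻¹ᵁ V x := fun x => by
    rw [← hq (i x), Scheme.Hom.comp_preimage]
    exact Scheme.Hom.preimage_mono _ (hWV x)
  have haffU : ∀ x, IsAffineOpen (c.π.app (i x) ⁻¹ᵁ W x) := fun x => by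
    have := isAffineHom_π_app D c hc (i x)
    exact (hW x).preimage (c.π.app (i x))
  have hft : ∀ x, (q.appLE (V x) (c.π.app (i x) ⁻¹ᵁ W x) (hUV x)).hom.FiniteType := fun x =>
    finiteType_appLE j q _ (haffU x) (V x) (hV x) (hWO x) (hUV x)
  choose jj aa hsurj using fun x =>
    exists_surj_stage D c hc t q hq ht (W x) (hW x) (V x) (hWV x) (hUV x) (hft x)
  obtain ⟨F, hF⟩ := hcomp.elim_nhds_subcover'
    (fun x hx => ((c.π.app (i ⟨x, hx⟩) ⁻¹ᵁ W ⟨x, hx⟩ : c.pt.Opens) : Set c.pt))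
    (fun x hx => (c.π.app (i ⟨x, hx⟩) ⁻¹ᵁ W ⟨x, hx⟩).2.mem_nhds (hxW ⟨x, hx⟩))
  obtain ⟨k, hk⟩ := IsCofiltered.inf_objs_exists (F.image jj)
  have b : ∀ a : F, k ⟶ jj a.1 := fun a =>
    (hk (Finset.mem_image_of_mem jj a.2)).some
  refine ⟨k, F, fun a => D.map (b a ≫ aa a.1) ⁻¹ᵁ W a.1, fun a => (hW a.1).preimage (D.map _),
    fun a => hsurj a.1 k (b a), ?_⟩
  apply le_antisymm
  · refine iSup_le fun a => ?_
    rw [preimage_eq]
    exact hWO a.1
  · intro y hy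
    have := hF hy
    simp only [Set.mem_iUnion] at this
    obtain ⟨x, hxF, hyx⟩ := this
    refine Opens.mem_iSup.mpr ⟨⟨x, hxF⟩, ?_⟩
    rw [preimage_eq]
    exact hyx

end stage


/-- **Cutting an integral compactification down to a finite one, qcqs base.** -/
theorem exists_finite_of_integral {S Y X : Scheme.{u}} [CompactSpace S] [QuasiSeparatedSpace S]
    (g : Y ⟶ S) [IsIntegralHom g] (j : X ⟶ Y) [IsOpenImmersion j] [CompactSpace X]
    [LocallyOfFiniteType (j ≫ g)] :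
    ∃ (T : Scheme.{u}) (j' : X ⟶ T) (π' : T ⟶ S),
      IsOpenImmersion j' ∧ IsFinite π' ∧ j' ≫ π' = j ≫ g := by
  have : CompactSpace Y := QuasiCompact.compactSpace_of_compactSpace g
  have : QuasiSeparatedSpace Y := quasiSeparatedSpace_of_quasiSeparated g
  obtain ⟨I, _, _, D, c, hc, hprops, ⟨e⟩⟩ := Groth.Agent.Lib.H9Lim1.exists_affine_system g
  have : IsConnected Iᵒᵖ := IsCofiltered.isConnected Iᵒᵖ
  let D' : Iᵒᵖ ⥤ Scheme.{u} := D ⋙ Over.forget S
  let c' : Cone D' := (Over.forget S).mapCone c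
  have hc' : IsLimit c' := isLimitOfPreserves (Over.forget S) hc
  have hA : ∀ {i j : Iᵒᵖ} (f : i ⟶ j), IsAffineHom (D'.map f) := fun {i j} f => by
    have h1 : (D.map f).left ≫ (D.obj j).hom = (D.obj i).hom := Over.w (D.map f)
    have := (hprops i).1
    have := (hprops j).1
    have h2 : IsAffineHom ((D.map f).left ≫ (D.obj j).hom) := by rw [h1]; infer_instance
    exact IsAffineHom.of_comp (D.map f).left (D.obj j).hom
  let t : ∀ i, D'.obj i ⟶ S := fun i => (D.obj i).hom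
  let q : c'.pt ⟶ S := c.pt.hom
  have hq : ∀ i, c'.π.app i ≫ t i = q := fun i => Over.w (c.π.app i)
  have ht : ∀ {i j : Iᵒᵖ} (f : i ⟶ j), D'.map f ≫ t j = t i := fun {i j} f => Over.w (D.map f)
  let e' : c'.pt ≅ Y := (Over.forget S).mapIso e
  let j₀ : X ⟶ c'.pt := j ≫ e'.inv
  have hj₀ : j₀ ≫ q = j ≫ g := by
    have h1 : e'.inv ≫ q = g := Over.w e.inv
    show (j ≫ e'.inv) ≫ q = j ≫ g
    rw [Category.assoc, h1]
  have : IsOpenImmersion j₀ := by
    show IsOpenImmersion (j ≫ e'.inv)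
    infer_instance
  have : LocallyOfFiniteType (j₀ ≫ q) := by rw [hj₀]; infer_instance
  obtain ⟨k, A, W, hW, hs, hO⟩ := exists_stage D' c' hc' t q hq ht j₀
  have : IsAffineHom (c'.π.app k) := isAffineHom_π_app D' c' hc' k
  have : IsAffineHom (t k) := (hprops k).1
  have : LocallyOfFinitePresentation (t k) := (hprops k).2
  have : IsIntegralHom q := by
    have h1 : e'.hom ≫ g = q := Over.w e.hom
    rw [← h1]
    infer_instance
  obtain ⟨T, j', π', h1, h2, h3⟩ := exists_of_stage (c'.π.app k) (t k) q (hq k) j₀ W hW hs hO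
  exact ⟨T, j', π', h1, h2, h3.trans hj₀⟩

end Groth.Agent.Lib.R2H3.ZMTFin
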