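import Mathlib
import Groth.Agent.Lib.R2H3ZMTFin
import Groth.Agent.Lib.Helper22FTLimit

/-!
# Zariski's main theorem, finite + finitely presented form, over a qcqs base (helper3, round 2)

`exists_finite_fp_of_integral`: `S` qcqs, `g : Y ⟶ S` integral, `j : X ⟶ Y` an open immersion with `X`
compact and `j ≫ g` locally of finite presentation; then `j ≫ g` factors as an open immersion followed
by a finite morphism of finite presentation.  Tools: `liftJ` (factorization through `V(J)`, `J ≤ ker π`),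
`isOpenImmersion_comp_liftJ`, `isFinite_subschemeι_comp` (finiteness from integral equations in `J`),
`exists_ft_le_finsets` / `exists_ft_le_ideals` (finite type sub-ideal sheaves containing finitely many
sections / f.g. ideals), `exists_monic_mem_ker`, `ker_fg_of_fp`, `exists_stage'`.
-/

set_option autoImplicit false
set_option linter.unusedSectionVars false
universe u
open CategoryTheory CategoryTheory.Limits AlgebraicGeometry TopologicalSpace Opposite

namespace Groth.Agent.Lib.R2H3.ZMTFinB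

open Groth.Agent.Lib.R2H3.ZMTFin


theorem finite_of_gens {R B C : Type u} [CommRing R] [CommRing B] [CommRing C] (φ : R →+* B)
    (ψ : B →+* C) (hψ : Function.Surjective ψ) (G : Finset B)
    (hG : @Algebra.adjoin R B _ _ φ.toAlgebra (G : Set B) = ⊤)
    (hint : ∀ x ∈ G, ∃ p : Polynomial R, p.Monic ∧ ψ (p.eval₂ φ x) = 0) :
    (ψ.comp φ).Finite := by
  algebraize [φ, ψ, ψ.comp φ]
  have hint' : ∀ x ∈ G, IsIntegral R (ψ x) := by
    intro x hx
    obtain ⟨p, hp, h0⟩ := hint x hx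
    refine ⟨p, hp, ?_⟩
    rw [← h0, Polynomial.hom_eval₂]
    rfl
  have hall : ∀ b : B, IsIntegral R (ψ b) := by
    intro b
    have hb : b ∈ Algebra.adjoin R (G : Set B) := by rw [hG]; exact Algebra.mem_top
    induction hb using Algebra.adjoin_induction with
    | mem x hx => exact hint' x hx
    | algebraMap r =>
      have : ψ (algebraMap R B r) = algebraMap R C r := rfl
      rw [this]
      exact isIntegral_algebraMap
    | add x y _ _ hx hy => rw [map_add]; exact hx.add hy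
    | mul x y _ _ hx hy => rw [map_mul]; exact hx.mul hy
  have h1 : (ψ.comp φ).IsIntegral := by
    intro c
    obtain ⟨b, rfl⟩ := hψ c
    exact hall b
  have h2 : (ψ.comp φ).FiniteType := by
    refine RingHom.FiniteType.comp (RingHom.FiniteType.of_surjective ψ hψ) ?_
    exact ⟨⟨G, hG⟩⟩
  exact RingHom.IsIntegral.to_finite h1 h2




section lift

variable {Y P : Scheme.{u}} (π : Y ⟶ P) [QuasiCompact π] (J : P.IdealSheafData) (hJ : J ≤ π.ker)

/-- the factorization of `π` through the closed subscheme `V(J)`, `J ≤ ker π`. -/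
noncomputable def liftJ : Y ⟶ J.subscheme :=
  IsClosedImmersion.lift J.subschemeι π (by rw [J.ker_subschemeι]; exact hJ)

@[reassoc]
theorem liftJ_fac : liftJ π J hJ ≫ J.subschemeι = π := IsClosedImmersion.lift_fac _ _ _

theorem isIso_liftJ_app (W : P.Opens) (hW : IsAffineOpen W)
    (hs : Function.Surjective (π.app W)) (hKJ : π.ker.ideal ⟨W, hW⟩ ≤ J.ideal ⟨W, hW⟩) :
    IsIso ((liftJ π J hJ).app (J.subschemeι ⁻¹ᵁ W)) := by
  rw [ConcreteCategory.isIso_iff_bijective]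
  obtain ⟨e, he⟩ := comp_app_eq (liftJ π J hJ) J.subschemeι π (liftJ_fac π J hJ) W
  constructor
  · rw [injective_iff_map_eq_zero]
    intro z hz
    obtain ⟨b, rfl⟩ := J.subschemeι_app_surjective ⟨W, hW⟩ z
    have h1 : π.app W b = 0 := by
      rw [← he]
      simp only [ConcreteCategory.comp_apply]
      rw [hz, map_zero]
    have h2 : b ∈ π.ker.ideal ⟨W, hW⟩ := by
      rw [Scheme.Hom.ker_apply]; exact h1
    have h3 := hKJ h2
    rw [← J.ker_subschemeι_app ⟨W, hW⟩] at h3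
    exact h3
  · intro y
    obtain ⟨x, hx⟩ := hs (Y.presheaf.map (eqToHom e).op y)
    refine ⟨J.subschemeι.app W x, ?_⟩
    apply injective_map_eqToHom e
    rw [← hx, ← he]
    rfl


theorem isIso_restrict_liftJ (W : P.Opens) (hW : IsAffineOpen W) (hW' : IsAffineOpen (π ⁻¹ᵁ W))
    (hs : Function.Surjective (π.app W)) (hKJ : π.ker.ideal ⟨W, hW⟩ ≤ J.ideal ⟨W, hW⟩) :
    IsIso (liftJ π J hJ ∣_ (J.subschemeι ⁻¹ᵁ W)) := by
  have hU : IsAffineOpen (J.subschemeι ⁻¹ᵁ W) := hW.preimage J.subschemeι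
  have hU' : IsAffineOpen (liftJ π J hJ ⁻¹ᵁ (J.subschemeι ⁻¹ᵁ W)) := by
    rw [← Scheme.Hom.comp_preimage, liftJ_fac]; exact hW'
  have : IsAffine (J.subschemeι ⁻¹ᵁ W).toScheme := hU
  have : IsAffine (liftJ π J hJ ⁻¹ᵁ (J.subschemeι ⁻¹ᵁ W)).toScheme := hU'
  have key : ∀ U' : J.subscheme.Opens, U' = J.subschemeι ⁻¹ᵁ W →
      IsIso ((liftJ π J hJ).app U') := by
    rintro _ rfl
    exact isIso_liftJ_app π J hJ W hW hs hKJ
  rw [isIso_iff_of_isAffine']
  refine ⟨inferInstance, ?_⟩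
  rw [morphismRestrict_appTop]
  have := key ((J.subschemeι ⁻¹ᵁ W).ι ''ᵁ ⊤) (by simp)
  exact @IsIso.comp_isIso _ _ _ _ _ _ _ this (isIso_map_eqToHom _)

/-- the open immersion of `X` into `V(J)`. -/
theorem isOpenImmersion_comp_liftJ {X : Scheme.{u}} (j : X ⟶ Y) [IsOpenImmersion j]
    [IsAffineHom π] {A : Type*} (W : A → P.Opens) (hW : ∀ a, IsAffineOpen (W a))
    (hs : ∀ a, Function.Surjective (π.app (W a)))
    (hKJ : ∀ a, π.ker.ideal ⟨W a, hW a⟩ ≤ J.ideal ⟨W a, hW a⟩)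
    (hO : ⨆ a, π ⁻¹ᵁ (W a) = j.opensRange) :
    IsOpenImmersion (j ≫ liftJ π J hJ) := by
  let OZ : J.subscheme.Opens := ⨆ a, J.subschemeι ⁻¹ᵁ (W a)
  have h1 : IsIso (liftJ π J hJ ∣_ OZ) :=
    isIso_restrict_of_iSup (liftJ π J hJ) OZ (fun a => J.subschemeι ⁻¹ᵁ (W a)) rfl
      (fun a => isIso_restrict_liftJ π J hJ (W a) (hW a) ((hW a).preimage π) (hs a) (hKJ a))
  have h2 : liftJ π J hJ ⁻¹ᵁ OZ = j.opensRange := by
    rw [← hO]
    simp only [OZ, Scheme.Hom.preimage_iSup, ← Scheme.Hom.comp_preimage, liftJ_fac]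
  have hr : Set.range j = Set.range (liftJ π J hJ ⁻¹ᵁ OZ).ι := by
    rw [Scheme.Opens.range_ι, h2]
    rfl
  let e : X ≅ (liftJ π J hJ ⁻¹ᵁ OZ).toScheme :=
    IsOpenImmersion.isoOfRangeEq j (liftJ π J hJ ⁻¹ᵁ OZ).ι hr
  have he : e.hom ≫ (liftJ π J hJ ⁻¹ᵁ OZ).ι = j := IsOpenImmersion.isoOfRangeEq_hom_fac _ _ _
  have h3 : j ≫ liftJ π J hJ = e.hom ≫ (liftJ π J hJ ∣_ OZ) ≫ OZ.ι := by
    rw [morphismRestrict_ι, ← Category.assoc, he]
  rw [h3]
  infer_instance

end lift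



set_option backward.isDefEq.respectTransparency.types false in
theorem isFinite_of_app {T S : Scheme.{u}} (h : T ⟶ S) [IsAffineHom h] {M : Type*}
    (V : M → S.affineOpens) (hV : ⨆ m, (V m : S.Opens) = ⊤)
    (hfin : ∀ m, (h.app (V m)).hom.Finite) : IsFinite h := by
  refine HasAffineProperty.of_iSup_eq_top (P := @IsFinite) V hV fun m => ?_
  have haff : IsAffineOpen (h ⁻¹ᵁ (V m).1) := (V m).2.preimage h
  refine ⟨haff, ?_⟩
  have key : ∀ U' : S.Opens, U' = (V m).1 → (h.app U').hom.Finite := by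
    rintro _ rfl
    exact hfin m
  have h1 := key ((V m).1.ι ''ᵁ ⊤) (by simp)
  have h3 := congrArg CommRingCat.Hom.hom (morphismRestrict_appTop h (V m).1)
  rw [h3]
  exact RingHom.Finite.comp (RingHom.Finite.of_surjective _ (surjective_map_eqToHom _)) h1


theorem isFinite_subschemeι_comp {P S : Scheme.{u}} (s : P ⟶ S) [IsAffineHom s]
    (J : P.IdealSheafData) {M : Type*} (V : M → S.affineOpens)
    (hV : ⨆ m, (V m : S.Opens) = ⊤) (G : ∀ m, Finset Γ(P, s ⁻¹ᵁ (V m).1))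
    (hG : ∀ m, @Algebra.adjoin _ _ _ _ (s.app (V m).1).hom.toAlgebra (G m : Set _) = ⊤)
    (hint : ∀ m, ∀ x ∈ G m, ∃ p : Polynomial Γ(S, (V m).1), p.Monic ∧
      p.eval₂ (s.app (V m).1).hom x ∈ J.ideal ⟨s ⁻¹ᵁ (V m).1, (V m).2.preimage s⟩) :
    IsFinite (J.subschemeι ≫ s) := by
  refine isFinite_of_app (J.subschemeι ≫ s) V hV fun m => ?_
  have h3 := congrArg CommRingCat.Hom.hom (Scheme.Hom.comp_app J.subschemeι s (V m).1)
  rw [h3]
  refine finite_of_gens (s.app (V m).1).hom (J.subschemeι.app (s ⁻¹ᵁ (V m).1)).hom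
    (J.subschemeι_app_surjective ⟨s ⁻¹ᵁ (V m).1, (V m).2.preimage s⟩) (G m) (hG m) ?_
  intro x hx
  obtain ⟨p, hp, h0⟩ := hint m x hx
  refine ⟨p, hp, ?_⟩
  rw [← J.ker_subschemeι_app ⟨s ⁻¹ᵁ (V m).1, (V m).2.preimage s⟩] at h0
  exact h0



open Groth.Agent.Lib.Helper22.FTIdeal

section ft

variable {X : Scheme.{u}} [CompactSpace X] [QuasiSeparatedSpace X]

/-- a finite type sub-ideal sheaf containing finitely many given local sections. -/
theorem exists_ft_le_finsets (I : X.IdealSheafData) {M : Type*} [Finite M]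
    (U : M → X.affineOpens) (E : ∀ m, Finset Γ(X, (U m).1))
    (hE : ∀ m, ∀ x ∈ E m, x ∈ I.ideal (U m)) :
    ∃ J : X.IdealSheafData, J ≤ I ∧ FT J ∧ ∀ m, ∀ x ∈ E m, x ∈ J.ideal (U m) := by
  classical
  have := Fintype.ofFinite M
  let Jf : (Σ m : M, Γ(X, (U m).1)) → X.IdealSheafData := fun p =>
    if h : p.2 ∈ I.ideal (U p.1) then (exists_ft_le_mem I (U p.1) p.2 h).choose else ⊥
  have hJf : ∀ p, Jf p ≤ I ∧ FT (Jf p) ∧ (p.2 ∈ I.ideal (U p.1) → p.2 ∈ (Jf p).ideal (U p.1)) := by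
    intro p
    by_cases h : p.2 ∈ I.ideal (U p.1)
    · have hs := (exists_ft_le_mem I (U p.1) p.2 h).choose_spec
      simp only [Jf, dif_pos h]
      exact ⟨hs.1, hs.2.1, fun _ => hs.2.2⟩
    · simp only [Jf, dif_neg h]
      exact ⟨bot_le, ft_bot, fun h' => absurd h' h⟩
  refine ⟨(Finset.univ.sigma E).sup Jf, Finset.sup_le fun p _ => (hJf p).1, ?_, ?_⟩
  · exact Finset.sup_induction ft_bot (fun _ h1 _ h2 => h1.sup h2) fun p _ => (hJf p).2.1
  · intro m x hx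
    have hmem : (⟨m, x⟩ : Σ m : M, Γ(X, (U m).1)) ∈ Finset.univ.sigma E := by
      simp [hx]
    have hle : Jf ⟨m, x⟩ ≤ (Finset.univ.sigma E).sup Jf := Finset.le_sup hmem
    exact hle (U m) ((hJf ⟨m, x⟩).2.2 (hE m x hx))

theorem exists_ft_le_ideals (I : X.IdealSheafData) {A : Type*} [Finite A]
    (W : A → X.affineOpens) (hfg : ∀ a, (I.ideal (W a)).FG) :
    ∃ J : X.IdealSheafData, J ≤ I ∧ FT J ∧ ∀ a, I.ideal (W a) ≤ J.ideal (W a) := by
  choose E hE using hfg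
  obtain ⟨J, h1, h2, h3⟩ := exists_ft_le_finsets I W E (fun a x hx => by
    rw [← hE a]; exact Ideal.subset_span hx)
  refine ⟨J, h1, h2, fun a => ?_⟩
  rw [← hE a, Ideal.span_le]
  exact fun x hx => h3 a x hx

end ft


theorem ker_fg_of_fp {R B C : Type u} [CommRing R] [CommRing B] [CommRing C] (f : R →+* B)
    (g : B →+* C) (hg : Function.Surjective g) (hf : f.FiniteType)
    (hgf : (g.comp f).FinitePresentation) : (RingHom.ker g).FG := by
  have h1 : g.FinitePresentation := RingHom.FinitePresentation.of_comp_finiteType f hgf hf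
  algebraize [g]
  have := Algebra.FinitePresentation.ker_fG_of_surjective (Algebra.ofId B C) hg
  exact this

theorem finitePresentation_appLE {X Y S : Scheme.{u}} (j : X ⟶ Y) [IsOpenImmersion j] (q : Y ⟶ S)
    [LocallyOfFinitePresentation (j ≫ q)] (U : Y.Opens) (hU : IsAffineOpen U) (V : S.Opens)
    (hV : IsAffineOpen V) (hUO : U ≤ j.opensRange) (hUV : U ≤ q ⁻¹ᵁ V) :
    (q.appLE V U hUV).hom.FinitePresentation := by
  have hU' : IsAffineOpen (j ⁻¹ᵁ U) := hU.preimage_of_isOpenImmersion j hUO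
  have e : j ⁻¹ᵁ U ≤ (j ≫ q) ⁻¹ᵁ V := by
    rw [Scheme.Hom.comp_preimage]; exact Scheme.Hom.preimage_mono _ hUV
  have h1 : ((j ≫ q).appLE V (j ⁻¹ᵁ U) e).hom.FinitePresentation :=
    HasRingHomProperty.appLE @LocallyOfFinitePresentation (j ≫ q) inferInstance ⟨V, hV⟩
      ⟨_, hU'⟩ e
  have himg : j ''ᵁ (j ⁻¹ᵁ U) = U := by
    rw [Scheme.Hom.image_preimage_eq_opensRange_inf, inf_eq_right.mpr hUO]
  have key : ∀ (U₀ : Y.Opens) (h0 : U₀ = j ''ᵁ (j ⁻¹ᵁ U)),
      IsIso (j.appLE U₀ (j ⁻¹ᵁ U) (by rw [h0]; exact (j.preimage_image_eq _).ge)) := by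
    rintro _ rfl
    exact inferInstanceAs (IsIso (j.app _ ≫
      X.presheaf.map (eqToHom (j.preimage_image_eq _).symm).op))
  have hiso : IsIso (j.appLE U (j ⁻¹ᵁ U) le_rfl) := key U himg.symm
  have h2 : (j ≫ q).appLE V (j ⁻¹ᵁ U) e = q.appLE V U hUV ≫ j.appLE U (j ⁻¹ᵁ U) le_rfl :=
    (Scheme.Hom.appLE_comp_appLE _ _ _ _ _ _ _).symm
  rw [h2, CommRingCat.hom_comp] at h1
  exact (RingHom.finitePresentation_respectsIso.cancel_right_isIso _
    (j.appLE U (j ⁻¹ᵁ U) le_rfl)).mp h1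


section stage

variable {I : Type u} [SmallCategory I] [IsCofiltered I] (D : I ⥤ Scheme.{u}) (c : Cone D)
  (hc : IsLimit c) [∀ {i j} (f : i ⟶ j), IsAffineHom (D.map f)]

include hc in
/-- variant of `ZMTFin.exists_stage` remembering the affine opens of the base and finiteness of
the index set. -/
theorem exists_stage' {S : Scheme.{u}} (t : ∀ i, D.obj i ⟶ S) (q : c.pt ⟶ S)
    (hq : ∀ i, c.π.app i ≫ t i = q) (ht : ∀ {i j : I} (f : i ⟶ j), D.map f ≫ t j = t i)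
    {X : Scheme.{u}} [CompactSpace X] (j : X ⟶ c.pt) [IsOpenImmersion j]
    [LocallyOfFiniteType (j ≫ q)] :
    ∃ (k : I) (A : Type u) (_ : Finite A) (W : A → (D.obj k).Opens) (V : A → S.Opens),
      (∀ a, IsAffineOpen (W a)) ∧ (∀ a, IsAffineOpen (V a)) ∧ (∀ a, W a ≤ t k ⁻¹ᵁ V a) ∧
      (∀ a, Function.Surjective ((c.π.app k).app (W a))) ∧
      ⨆ a, c.π.app k ⁻¹ᵁ (W a) = j.opensRange := by
  classical
  have hcomp : IsCompact (j.opensRange : Set c.pt) := isCompact_range j.continuous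
  choose i W V hW hV hWV hxW hWO using fun x : (j.opensRange : Set c.pt) =>
    exists_basic_nhd D c hc t q hq x.1 j.opensRange x.2
  have hUV : ∀ x, c.π.app (i x) ⁻¹ᵁ W x ≤ q ⁻¹ᵁ V x := fun x => by
    rw [← hq (i x), Scheme.Hom.comp_preimage]
    exact Scheme.Hom.preimage_mono _ (hWV x)
  have haffU : ∀ x, IsAffineOpen (c.π.app (i x) ⁻¹ᵁ W x) := fun x => by
    have := isAffineHom_π_app D c hc (i x)
    exact (hW x).preimage (c.π.app (i x))
  have hft : ∀ x, (q.appLE (V x) (c.π.app (i x) ⁻¹ᵁ W x) (hUV x)).hom.FiniteType := fun x =>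
    finiteType_appLE j q _ (haffU x) (V x) (hV x) (hWO x) (hUV x)
  choose jj aa hsurj using fun x =>
    exists_surj_stage D c hc t q hq ht (W x) (hW x) (V x) (hWV x) (hUV x) (hft x)
  obtain ⟨F, hF⟩ := hcomp.elim_nhds_subcover'
    (fun x hx => ((c.π.app (i ⟨x, hx⟩) ⁻¹ᵁ W ⟨x, hx⟩ : c.pt.Opens) : Set c.pt))
    (fun x hx => (c.π.app (i ⟨x, hx⟩) ⁻¹ᵁ W ⟨x, hx⟩).2.mem_nhds (hxW ⟨x, hx⟩))
  obtain ⟨k, hk⟩ := IsCofiltered.inf_objs_exists (F.image jj)
  have b : ∀ a : F, k ⟶ jj a.1 := fun a =>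
    (hk (Finset.mem_image_of_mem jj a.2)).some
  refine ⟨k, F, inferInstance, fun a => D.map (b a ≫ aa a.1) ⁻¹ᵁ W a.1, fun a => V a.1,
    fun a => (hW a.1).preimage (D.map _), fun a => hV a.1, fun a => ?_,
    fun a => hsurj a.1 k (b a), ?_⟩
  · rw [← ht (b a ≫ aa a.1), Scheme.Hom.comp_preimage]
    exact Scheme.Hom.preimage_mono _ (hWV a.1)
  apply le_antisymm
  · refine iSup_le fun a => ?_
    rw [preimage_eq]
    exact hWO a.1
  · intro y hy
    have := hF hy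
    simp only [Set.mem_iUnion] at this
    obtain ⟨x, hxF, hyx⟩ := this
    refine Opens.mem_iSup.mpr ⟨⟨x, hxF⟩, ?_⟩
    rw [preimage_eq]
    exact hyx

end stage


/-- integral equations for sections of an affine stage over an integral limit. -/
theorem exists_monic_mem_ker {Y P S : Scheme.{u}} (π : Y ⟶ P) [QuasiCompact π] (s : P ⟶ S)
    (q : Y ⟶ S) [IsIntegralHom q] (hq : π ≫ s = q) (V : S.Opens) (hV : IsAffineOpen V)
    (haff : IsAffineOpen (s ⁻¹ᵁ V)) (x : Γ(P, s ⁻¹ᵁ V)) :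
    ∃ p : Polynomial Γ(S, V), p.Monic ∧
      p.eval₂ (s.app V).hom x ∈ π.ker.ideal ⟨s ⁻¹ᵁ V, haff⟩ := by
  obtain ⟨e, he⟩ := comp_app_eq π s q hq V
  have hint : (q.app V).hom.IsIntegral := q.isIntegral_app V hV
  obtain ⟨p, hp, h0⟩ := hint ((π.app (s ⁻¹ᵁ V) ≫ Y.presheaf.map (eqToHom e).op) x)
  refine ⟨p, hp, ?_⟩
  rw [Scheme.Hom.ker_apply, RingHom.mem_ker]
  have h1 : (q.app V).hom =
      (π.app (s ⁻¹ᵁ V) ≫ Y.presheaf.map (eqToHom e).op).hom.comp (s.app V).hom := by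
    rw [← CommRingCat.hom_comp, he]
  rw [h1, ← Polynomial.hom_eval₂] at h0
  have h2 : (Y.presheaf.map (eqToHom e).op).hom ((π.app (s ⁻¹ᵁ V)).hom
      (Polynomial.eval₂ (s.app V).hom x p)) = 0 := h0
  exact (injective_iff_map_eq_zero _).mp (injective_map_eqToHom e) _ h2


open Groth.Agent.Lib.Helper22.FTLimit in
/-- assembling, finitely presented version. -/
theorem exists_of_stage_fp {S X Y P : Scheme.{u}} [CompactSpace S] [CompactSpace P]
    [QuasiSeparatedSpace P] (π : Y ⟶ P) [IsAffineHom π] (s : P ⟶ S) [IsAffineHom s]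
    [LocallyOfFinitePresentation s] (q : Y ⟶ S) [IsIntegralHom q] (hq : π ≫ s = q) (j : X ⟶ Y)
    [IsOpenImmersion j] [LocallyOfFinitePresentation (j ≫ q)]
    {A : Type*} [Finite A] (W : A → P.Opens) (V : A → S.Opens) (hW : ∀ a, IsAffineOpen (W a))
    (hV : ∀ a, IsAffineOpen (V a)) (hWV : ∀ a, W a ≤ s ⁻¹ᵁ V a)
    (hs : ∀ a, Function.Surjective (π.app (W a)))
    (hO : ⨆ a, π ⁻¹ᵁ (W a) = j.opensRange) :
    ∃ (T : Scheme.{u}) (j' : X ⟶ T) (π' : T ⟶ S),
      IsOpenImmersion j' ∧ IsFinite π' ∧ LocallyOfFinitePresentation π' ∧ j' ≫ π' = j ≫ q := by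
  classical
  -- the kernel is finitely generated on the `W a`
  have hfgK : ∀ a, (π.ker.ideal ⟨W a, hW a⟩).FG := by
    intro a
    rw [Scheme.Hom.ker_apply]
    have hle : π ⁻¹ᵁ (W a) ≤ j.opensRange := by rw [← hO]; exact le_iSup (fun a => π ⁻¹ᵁ (W a)) a
    have hUV : π ⁻¹ᵁ (W a) ≤ q ⁻¹ᵁ V a := by
      rw [← hq, Scheme.Hom.comp_preimage]; exact Scheme.Hom.preimage_mono _ (hWV a)
    have h1 := finitePresentation_appLE j q (π ⁻¹ᵁ (W a)) ((hW a).preimage π) (V a) (hV a) hle hUV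
    have h2 : (s.appLE (V a) (W a) (hWV a)).hom.FiniteType :=
      HasRingHomProperty.appLE @LocallyOfFiniteType s inferInstance ⟨V a, hV a⟩ ⟨W a, hW a⟩ _
    refine ker_fg_of_fp (s.appLE (V a) (W a) (hWV a)).hom (π.app (W a)).hom (hs a) h2 ?_
    have h3 : q.appLE (V a) (π ⁻¹ᵁ (W a)) hUV = s.appLE (V a) (W a) (hWV a) ≫ π.app (W a) := by
      subst hq
      rw [Scheme.Hom.app_eq_appLE, Scheme.Hom.appLE_comp_appLE]
    rw [← CommRingCat.hom_comp, ← h3]
    exact h1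
  obtain ⟨J₁, hJ₁le, hJ₁ft, hJ₁⟩ :=
    exists_ft_le_ideals π.ker (fun a => (⟨W a, hW a⟩ : P.affineOpens)) hfgK
  -- a finite affine cover of the base
  obtain ⟨σ, hσ, hσX⟩ := isCompact_iff_finite_and_eq_biUnion_affineOpens.mp
    (show IsCompact ((⊤ : S.Opens) : Set S) from isCompact_univ)
  have : Finite σ := hσ.to_subtype
  have hcov : ⨆ m : σ, ((m.1 : S.affineOpens) : S.Opens) = ⊤ := by
    rw [hσX, iSup_subtype]
  have haffm : ∀ m : σ, IsAffineOpen (s ⁻¹ᵁ m.1.1) := fun m => m.1.2.preimage s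
  have hftm : ∀ m : σ, (s.app m.1.1).hom.FiniteType := fun m => by
    rw [Scheme.Hom.app_eq_appLE]
    exact HasRingHomProperty.appLE @LocallyOfFiniteType s inferInstance m.1 ⟨_, haffm m⟩ _
  choose G hG using fun m : σ => (hftm m).out
  choose pp hmonic hmem using fun (m : σ) (x : Γ(P, s ⁻¹ᵁ m.1.1)) =>
    exists_monic_mem_ker π s q hq m.1.1 m.1.2 (haffm m) x
  obtain ⟨J₂, hJ₂le, hJ₂ft, hJ₂⟩ := exists_ft_le_finsets π.ker
    (fun m : σ => (⟨s ⁻¹ᵁ m.1.1, haffm m⟩ : P.affineOpens))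
    (fun m => (G m).image (fun x => (pp m x).eval₂ (s.app m.1.1).hom x))
    (fun m y hy => by
      obtain ⟨x, _, rfl⟩ := Finset.mem_image.mp hy
      exact hmem m x)
  have hJ : J₁ ⊔ J₂ ≤ π.ker := sup_le hJ₁le hJ₂le
  have hFT : FT (J₁ ⊔ J₂) := hJ₁ft.sup hJ₂ft
  have hlfp : LocallyOfFinitePresentation (J₁ ⊔ J₂).subschemeι :=
    locallyOfFinitePresentation_subschemeι _ hFT
  refine ⟨(J₁ ⊔ J₂).subscheme, j ≫ liftJ π (J₁ ⊔ J₂) hJ, (J₁ ⊔ J₂).subschemeι ≫ s, ?_, ?_,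
    inferInstance, ?_⟩
  · exact isOpenImmersion_comp_liftJ π (J₁ ⊔ J₂) hJ j W hW hs
      (fun a => (hJ₁ a).trans ((le_sup_left : J₁ ≤ J₁ ⊔ J₂) ⟨W a, hW a⟩)) hO
  · refine isFinite_subschemeι_comp s (J₁ ⊔ J₂) (fun m : σ => m.1) hcov G hG ?_
    intro m x hx
    refine ⟨pp m x, hmonic m x, ?_⟩
    exact (le_sup_right : J₂ ≤ J₁ ⊔ J₂) ⟨s ⁻¹ᵁ m.1.1, haffm m⟩
      (hJ₂ m _ (Finset.mem_image_of_mem _ hx))
  · rw [Category.assoc, liftJ_fac_assoc, hq]


/-- **Cutting an integral compactification down to a finite, finitely presented one, qcqs base.** -/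
theorem exists_finite_fp_of_integral {S Y X : Scheme.{u}} [CompactSpace S]
    [QuasiSeparatedSpace S] (g : Y ⟶ S) [IsIntegralHom g] (j : X ⟶ Y) [IsOpenImmersion j]
    [CompactSpace X] [LocallyOfFinitePresentation (j ≫ g)] :
    ∃ (T : Scheme.{u}) (j' : X ⟶ T) (π' : T ⟶ S),
      IsOpenImmersion j' ∧ IsFinite π' ∧ LocallyOfFinitePresentation π' ∧ j' ≫ π' = j ≫ g := by
  have : CompactSpace Y := QuasiCompact.compactSpace_of_compactSpace g
  have : QuasiSeparatedSpace Y := quasiSeparatedSpace_of_quasiSeparated g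
  obtain ⟨I, _, _, D, c, hc, hprops, ⟨e⟩⟩ := Groth.Agent.Lib.H9Lim1.exists_affine_system g
  have : IsConnected Iᵒᵖ := IsCofiltered.isConnected Iᵒᵖ
  let D' : Iᵒᵖ ⥤ Scheme.{u} := D ⋙ Over.forget S
  let c' : Cone D' := (Over.forget S).mapCone c
  have hc' : IsLimit c' := isLimitOfPreserves (Over.forget S) hc
  have hA : ∀ {i j : Iᵒᵖ} (f : i ⟶ j), IsAffineHom (D'.map f) := fun {i j} f => by
    have h1 : (D.map f).left ≫ (D.obj j).hom = (D.obj i).hom := Over.w (D.map f)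
    have := (hprops i).1
    have := (hprops j).1
    have h2 : IsAffineHom ((D.map f).left ≫ (D.obj j).hom) := by rw [h1]; infer_instance
    exact IsAffineHom.of_comp (D.map f).left (D.obj j).hom
  let t : ∀ i, D'.obj i ⟶ S := fun i => (D.obj i).hom
  let q : c'.pt ⟶ S := c.pt.hom
  have hq : ∀ i, c'.π.app i ≫ t i = q := fun i => Over.w (c.π.app i)
  have ht : ∀ {i j : Iᵒᵖ} (f : i ⟶ j), D'.map f ≫ t j = t i := fun {i j} f => Over.w (D.map f)
  let e' : c'.pt ≅ Y := (Over.forget S).mapIso e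
  let j₀ : X ⟶ c'.pt := j ≫ e'.inv
  have hj₀ : j₀ ≫ q = j ≫ g := by
    have h1 : e'.inv ≫ q = g := Over.w e.inv
    show (j ≫ e'.inv) ≫ q = j ≫ g
    rw [Category.assoc, h1]
  have : IsOpenImmersion j₀ := by
    show IsOpenImmersion (j ≫ e'.inv)
    infer_instance
  have : LocallyOfFinitePresentation (j₀ ≫ q) := by rw [hj₀]; infer_instance
  obtain ⟨k, A, hAfin, W, V, hW, hV, hWV, hs, hO⟩ := exists_stage' D' c' hc' t q hq ht j₀
  have : IsAffineHom (c'.π.app k) := isAffineHom_π_app D' c' hc' k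
  have : IsAffineHom (t k) := (hprops k).1
  have : LocallyOfFinitePresentation (t k) := (hprops k).2
  have : CompactSpace (D'.obj k) := QuasiCompact.compactSpace_of_compactSpace (t k)
  have : QuasiSeparatedSpace (D'.obj k) := quasiSeparatedSpace_of_quasiSeparated (t k)
  have : IsIntegralHom q := by
    have h1 : e'.hom ≫ g = q := Over.w e.hom
    rw [← h1]
    infer_instance
  obtain ⟨T, j', π', h1, h2, h3, h4⟩ :=
    exists_of_stage_fp (c'.π.app k) (t k) q (hq k) j₀ W V hW hV hWV hs hO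
  exact ⟨T, j', π', h1, h2, h3, h4.trans hj₀⟩

end Groth.Agent.Lib.R2H3.ZMTFinB
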