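import Mathlib
import Groth.Agent.Lib.R2H3ZMTFinB
import Groth.Agent.Lib.Helper20EffCartier

set_option autoImplicit false
set_option linter.unusedSectionVars false
universe u
open CategoryTheory CategoryTheory.Limits AlgebraicGeometry TopologicalSpace Opposite

namespace Groth.Agent.Lib.R2H3.IntLim

open Groth.Agent.Lib.R2H3.ZMTFin Groth.Agent.Lib.R2H3.ZMTFinB Groth.Agent.Lib.Helper22.FTIdeal

/-- a finite type sub-ideal sheaf of the kernel of an integral scheme over an affine stage of
finite type, cutting out a closed subscheme which is finite over the base. -/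
theorem exists_finite_ft_le_ker {S Y P : Scheme.{u}} [CompactSpace S] [CompactSpace P]
    [QuasiSeparatedSpace P] (π : Y ⟶ P) [QuasiCompact π] (s : P ⟶ S) [IsAffineHom s]
    [LocallyOfFiniteType s] (q : Y ⟶ S) [IsIntegralHom q] (hq : π ≫ s = q) :
    ∃ J : P.IdealSheafData, J ≤ π.ker ∧ FT J ∧ IsFinite (J.subschemeι ≫ s) := by
  classical
  obtain ⟨σ, hσ, hσX⟩ := isCompact_iff_finite_and_eq_biUnion_affineOpens.mp
    (show IsCompact ((⊤ : S.Opens) : Set S) from isCompact_univ)
  have : Finite σ := hσ.to_subtype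
  have hcov : ⨆ m : σ, ((m.1 : S.affineOpens) : S.Opens) = ⊤ := by
    rw [hσX, iSup_subtype]
  have haffm : ∀ m : σ, IsAffineOpen (s ⁻¹ᵁ m.1.1) := fun m => m.1.2.preimage s
  have hftm : ∀ m : σ, (s.app m.1.1).hom.FiniteType := fun m => by
    rw [Scheme.Hom.app_eq_appLE]
    exact HasRingHomProperty.appLE @LocallyOfFiniteType s inferInstance m.1 ⟨_, haffm m⟩ _
  choose G hG using fun m : σ => (hftm m).out
  choose pp hmonic hmem using fun (m : σ) (x : Γ(P, s ⁻¹ᵁ m.1.1)) =>
    exists_monic_mem_ker π s q hq m.1.1 m.1.2 (haffm m) x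
  obtain ⟨J₂, hJ₂le, hJ₂ft, hJ₂⟩ := exists_ft_le_finsets π.ker
    (fun m : σ => (⟨s ⁻¹ᵁ m.1.1, haffm m⟩ : P.affineOpens))
    (fun m => (G m).image (fun x => (pp m x).eval₂ (s.app m.1.1).hom x))
    (fun m y hy => by
      obtain ⟨x, _, rfl⟩ := Finset.mem_image.mp hy
      exact hmem m x)
  refine ⟨J₂, hJ₂le, hJ₂ft, ?_⟩
  refine isFinite_subschemeι_comp s J₂ (fun m : σ => m.1) hcov G hG ?_
  intro m x hx
  exact ⟨pp m x, hmonic m x, hJ₂ m _ (Finset.mem_image_of_mem _ hx)⟩

/-- enlarging the ideal keeps finiteness. -/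
theorem isFinite_of_le {S P : Scheme.{u}} (s : P ⟶ S) {J J' : P.IdealSheafData} (h : J ≤ J')
    (hfin : IsFinite (J.subschemeι ≫ s)) : IsFinite (J'.subschemeι ≫ s) := by
  have h1 : Scheme.IdealSheafData.inclusion h ≫ J.subschemeι = J'.subschemeι :=
    Scheme.IdealSheafData.inclusion_subschemeι h
  have : IsClosedImmersion (Scheme.IdealSheafData.inclusion h) := by
    have : IsClosedImmersion (Scheme.IdealSheafData.inclusion h ≫ J.subschemeι) := by
      rw [h1]; infer_instance
    exact IsClosedImmersion.of_comp (Scheme.IdealSheafData.inclusion h) J.subschemeι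
  rw [← h1, Category.assoc]
  infer_instance

/-- the inverse image of a finite type ideal sheaf is of finite type. -/
theorem ft_comap {X Y : Scheme.{u}} (K : X.IdealSheafData) (hK : FT K) (f : Y ⟶ X) :
    FT (K.comap f) := by
  intro W
  have key : ∀ x : W.1, ∃ r : Γ(Y, W.1), x.1 ∈ Y.basicOpen r ∧
      ∃ V : X.affineOpens, Y.basicOpen r ≤ f ⁻¹ᵁ V.1 := by
    intro ⟨x, hx⟩
    obtain ⟨V, hV, hxV, -⟩ :=
      exists_isAffineOpen_mem_and_subset (x := f x) (U := (⊤ : X.Opens)) trivial
    obtain ⟨r, hr, hxr⟩ := W.2.exists_basicOpen_le (V := f ⁻¹ᵁ V) ⟨x, hxV⟩ hx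
    exact ⟨r, hxr, ⟨V, hV⟩, hr⟩
  choose r hxr V hrV using key
  have hspan : Ideal.span (Set.range r) = ⊤ := by
    rw [← W.2.self_le_iSup_basicOpen_iff]
    exact fun x hxW ↦ Opens.mem_iSup.mpr ⟨⟨_, ⟨x, hxW⟩, rfl⟩, hxr ⟨x, hxW⟩⟩
  have inst := W.2.isLocalization_basicOpen
  refine Groth.Agent.Lib.Helper22.FTIdeal.fg_of_span_isLocalization _ _ hspan
    (fun g => Γ(Y, Y.basicOpen g.1)) ?_
  rintro ⟨_, x, rfl⟩
  have hle : Y.affineBasicOpen (r x) ≤ W := Y.affineBasicOpen_le (r x)
  have hmap := (K.comap f).map_ideal hle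
  have hfg : ((K.comap f).ideal (Y.affineBasicOpen (r x))).FG := by
    have := Groth.Agent.Lib.Helper20.EffCartier.ideal_comap_eq_map f K
      (Y.affineBasicOpen (r x)).2 (V x).2 (hrV x)
    change (K.comap f).ideal (Y.affineBasicOpen (r x)) = _ at this
    rw [this]
    exact (hK (V x)).map _
  rw [← hmap] at hfg
  exact hfg

section sys

variable {S : Scheme.{u}} {α : Type u} [Preorder α] (D : αᵒᵖ ⥤ Over S) (c : Cone D)

/-- the stages -/
abbrev P (i : α) : Scheme.{u} := (D.obj (op i)).left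
/-- structure maps -/
abbrev sP (i : α) : P D i ⟶ S := (D.obj (op i)).hom
/-- transition maps -/
abbrev tr {i i' : α} (h : i ≤ i') : P D i' ⟶ P D i := (D.map (homOfLE h).op).left
/-- projections -/
abbrev pr (i : α) : c.pt.left ⟶ P D i := (c.π.app (op i)).left

theorem tr_sP {i i' : α} (h : i ≤ i') : tr D h ≫ sP D i = sP D i' := Over.w _

theorem pr_sP (i : α) : pr D c i ≫ sP D i = c.pt.hom := Over.w _

theorem pr_tr {i i' : α} (h : i ≤ i') : pr D c i' ≫ tr D h = pr D c i := by
  have h1 := c.w (homOfLE h).op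
  exact congrArg CommaMorphism.left h1

theorem tr_refl (i : α) : tr D (le_refl i) = 𝟙 _ := by
  have : (homOfLE (le_refl i)).op = 𝟙 (op i) := rfl
  simp only [tr, this, D.map_id]
  rfl

theorem tr_trans {i i' i'' : α} (h₁ : i ≤ i') (h₂ : i' ≤ i'') :
    tr D h₂ ≫ tr D h₁ = tr D (h₁.trans h₂) := by
  have : (homOfLE (h₁.trans h₂)).op = (homOfLE h₂).op ≫ (homOfLE h₁).op := rfl
  simp only [tr, this, D.map_comp]
  rfl

/-- the index set: finite type sub-ideal sheaves of the kernels of the projections which cut out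
closed subschemes finite over the base. -/
structure Obj where
  /-- stage -/
  i : α
  /-- ideal sheaf -/
  J : (P D i).IdealSheafData
  le : J ≤ (pr D c i).ker
  ft : FT J
  fin : IsFinite (J.subschemeι ≫ sP D i)

instance : Preorder (Obj D c) where
  le A B := ∃ h : A.i ≤ B.i, A.J ≤ B.J.map (tr D h)
  le_refl A := ⟨le_refl _, by rw [tr_refl, Scheme.IdealSheafData.map_id]⟩
  le_trans A B C := by
    rintro ⟨h₁, H₁⟩ ⟨h₂, H₂⟩
    refine ⟨h₁.trans h₂, H₁.trans ?_⟩
    rw [← tr_trans D h₁ h₂, Scheme.IdealSheafData.map_comp]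
    exact Scheme.IdealSheafData.map_mono _ H₂

theorem Obj.le_def {A B : Obj D c} : A ≤ B ↔ ∃ h : A.i ≤ B.i, A.J ≤ B.J.map (tr D h) := Iff.rfl

variable [CompactSpace S] [QuasiSeparatedSpace S] [∀ i, IsAffineHom (sP D i)]
  [∀ i, LocallyOfFinitePresentation (sP D i)] [IsIntegralHom c.pt.hom]

instance compactSpace_P (i : α) : CompactSpace (P D i) :=
  QuasiCompact.compactSpace_of_compactSpace (sP D i)

instance quasiSeparatedSpace_P (i : α) : QuasiSeparatedSpace (P D i) :=
  quasiSeparatedSpace_of_quasiSeparated (sP D i)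

instance isAffineHom_pr (i : α) : IsAffineHom (pr D c i) := by
  have : IsAffineHom (pr D c i ≫ sP D i) := by
    rw [pr_sP]; infer_instance
  exact IsAffineHom.of_comp (pr D c i) (sP D i)

theorem exists_obj (i : α) : ∃ A : Obj D c, A.i = i := by
  obtain ⟨J, h1, h2, h3⟩ := exists_finite_ft_le_ker (pr D c i) (sP D i) c.pt.hom (pr_sP D c i)
  exact ⟨⟨i, J, h1, h2, h3⟩, rfl⟩

theorem comap_le_ker {i i' : α} (h : i ≤ i') (J : (P D i).IdealSheafData)
    (hJ : J ≤ (pr D c i).ker) : J.comap (tr D h) ≤ (pr D c i').ker := by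
  rw [← Scheme.IdealSheafData.le_map_iff_comap_le, Scheme.IdealSheafData.map_ker, pr_tr]
  exact hJ

theorem exists_ge (A B : Obj D c) (k : α) (hA : A.i ≤ k) (hB : B.i ≤ k) :
    ∃ C : Obj D c, C.i = k ∧ A ≤ C ∧ B ≤ C := by
  obtain ⟨J, h1, h2, h3⟩ := exists_finite_ft_le_ker (pr D c k) (sP D k) c.pt.hom (pr_sP D c k)
  refine ⟨⟨k, A.J.comap (tr D hA) ⊔ B.J.comap (tr D hB) ⊔ J,
    sup_le (sup_le (comap_le_ker D c hA _ A.le) (comap_le_ker D c hB _ B.le)) h1,
    ((ft_comap _ A.ft _).sup (ft_comap _ B.ft _)).sup h2,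
    isFinite_of_le _ le_sup_right h3⟩, rfl, ⟨hA, ?_⟩, ⟨hB, ?_⟩⟩
  · rw [Scheme.IdealSheafData.le_map_iff_comap_le]
    exact le_sup_left.trans le_sup_left
  · rw [Scheme.IdealSheafData.le_map_iff_comap_le]
    exact le_sup_right.trans le_sup_left

instance [IsDirected α (· ≤ ·)] : IsDirected (Obj D c) (· ≤ ·) := by
  refine ⟨fun A B => ?_⟩
  obtain ⟨k, hA, hB⟩ := exists_ge_ge A.i B.i
  obtain ⟨C, -, h1, h2⟩ := exists_ge D c A B k hA hB
  exact ⟨C, h1, h2⟩

instance [Nonempty α] : Nonempty (Obj D c) := by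
  obtain ⟨i⟩ := ‹Nonempty α›
  exact ⟨(exists_obj D c i).choose⟩

omit [CompactSpace S] [QuasiSeparatedSpace S] [∀ i, IsAffineHom (sP D i)]
  [∀ i, LocallyOfFinitePresentation (sP D i)] [IsIntegralHom c.pt.hom] in
theorem Obj.le_i {A B : Obj D c} (h : A ≤ B) : A.i ≤ B.i := h.choose

omit [CompactSpace S] [QuasiSeparatedSpace S] [∀ i, IsAffineHom (sP D i)]
  [∀ i, LocallyOfFinitePresentation (sP D i)] [IsIntegralHom c.pt.hom] in
theorem Obj.le_J {A B : Obj D c} (h : A ≤ B) : A.J ≤ B.J.map (tr D (Obj.le_i D c h)) :=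
  h.choose_spec

/-- the objects of the new system -/
noncomputable abbrev Z (A : Obj D c) : Over S := Over.mk (A.J.subschemeι ≫ sP D A.i)

/-- the closed immersion of `Z A` into the stage, as a morphism over `S`. -/
noncomputable def ιO (A : Obj D c) : Z D c A ⟶ D.obj (op A.i) :=
  Over.homMk (U := Z D c A) (V := D.obj (op A.i)) A.J.subschemeι rfl

instance (A : Obj D c) : Mono (ιO D c A) := by
  have : Mono ((Over.forget S).map (ιO D c A)) := by
    change Mono A.J.subschemeι
    infer_instance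
  exact (Over.forget S).mono_of_mono_map this

/-- transition maps of the new system -/
noncomputable def trZ {A B : Obj D c} (h : A ≤ B) : Z D c B ⟶ Z D c A :=
  Over.homMk (U := Z D c B) (V := Z D c A)
    (Scheme.IdealSheafData.subschemeMap B.J A.J (tr D (Obj.le_i D c h)) (Obj.le_J D c h)) (by
      change _ ≫ A.J.subschemeι ≫ sP D A.i = B.J.subschemeι ≫ sP D B.i
      rw [← Category.assoc, Scheme.IdealSheafData.subschemeMap_subschemeι, Category.assoc, tr_sP])

theorem trZ_ιO {A B : Obj D c} (h : A ≤ B) :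
    trZ D c h ≫ ιO D c A = ιO D c B ≫ D.map (homOfLE (Obj.le_i D c h)).op := by
  ext
  exact Scheme.IdealSheafData.subschemeMap_subschemeι B.J A.J (tr D (Obj.le_i D c h))
    (Obj.le_J D c h)

/-- the new system -/
noncomputable abbrev sysZ : (Obj D c)ᵒᵖ ⥤ Over S where
  obj A := Z D c A.unop
  map {A B} f := trZ D c (leOfHom f.unop)
  map_id A := by
    rw [← cancel_mono (ιO D c A.unop), trZ_ιO, Category.id_comp]
    have : (homOfLE (Obj.le_i D c (leOfHom (𝟙 A : A ⟶ A).unop))).op = 𝟙 (op A.unop.i) := rfl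
    rw [this, D.map_id, Category.comp_id]
  map_comp {A B C} f g := by
    rw [← cancel_mono (ιO D c C.unop), trZ_ιO, Category.assoc, trZ_ιO, ← Category.assoc, trZ_ιO,
      Category.assoc, ← D.map_comp]
    rfl

/-- the projections of the new cone -/
noncomputable def prZ (A : Obj D c) : c.pt ⟶ Z D c A :=
  Over.homMk (U := c.pt) (V := Z D c A) (liftJ (pr D c A.i) A.J A.le) (by
    change _ ≫ A.J.subschemeι ≫ sP D A.i = c.pt.hom
    rw [← Category.assoc, liftJ_fac, pr_sP])

theorem prZ_ιO (A : Obj D c) : prZ D c A ≫ ιO D c A = c.π.app (op A.i) := by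
  ext
  exact liftJ_fac (pr D c A.i) A.J A.le

/-- the new cone -/
noncomputable def coneZ : Cone (sysZ D c) where
  pt := c.pt
  π :=
    { app := fun A => prZ D c A.unop
      naturality := fun A B f => by
        change 𝟙 _ ≫ prZ D c B.unop = prZ D c A.unop ≫ trZ D c (leOfHom f.unop)
        rw [Category.id_comp, ← cancel_mono (ιO D c B.unop), Category.assoc, trZ_ιO,
          ← Category.assoc, prZ_ιO, prZ_ιO, c.w] }

section lim

variable [IsDirected α (· ≤ ·)] (s : Cone (sysZ D c))

theorem cone_comparable {A B : Obj D c} (h : A ≤ B) :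
    s.π.app (op B) ≫ ιO D c B ≫ D.map (homOfLE (Obj.le_i D c h)).op =
      s.π.app (op A) ≫ ιO D c A := by
  rw [← trZ_ιO D c h, ← Category.assoc]
  congr 1
  exact s.w (homOfLE h).op

theorem cone_general (A B : Obj D c) (k : α) (hA : k ≤ A.i) (hB : k ≤ B.i) :
    s.π.app (op A) ≫ ιO D c A ≫ D.map (homOfLE hA).op =
      s.π.app (op B) ≫ ιO D c B ≫ D.map (homOfLE hB).op := by
  obtain ⟨C, hAC, hBC⟩ := exists_ge_ge A B
  have key : ∀ (E : Obj D c) (hE : k ≤ E.i) (hEC : E ≤ C),
      s.π.app (op E) ≫ ιO D c E ≫ D.map (homOfLE hE).op =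
        s.π.app (op C) ≫ ιO D c C ≫ D.map (homOfLE (hE.trans (Obj.le_i D c hEC))).op := by
    intro E hE hEC
    calc s.π.app (op E) ≫ ιO D c E ≫ D.map (homOfLE hE).op
        = (s.π.app (op E) ≫ ιO D c E) ≫ D.map (homOfLE hE).op := (Category.assoc _ _ _).symm
      _ = (s.π.app (op C) ≫ ιO D c C ≫ D.map (homOfLE (Obj.le_i D c hEC)).op) ≫
            D.map (homOfLE hE).op := by rw [cone_comparable D c s hEC]
      _ = _ := by
          simp only [Category.assoc, ← D.map_comp]
          rfl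
  rw [key A hA hAC, key B hB hBC]

/-- a chosen object at each stage -/
noncomputable def chosen (i : α) : Obj D c := (exists_obj D c i).choose

theorem chosen_i (i : α) : (chosen D c i).i = i := (exists_obj D c i).choose_spec

/-- the cone over the old system induced by a cone over the new one. -/
noncomputable def coneD : Cone D where
  pt := s.pt
  π :=
    { app := fun i => s.π.app (op (chosen D c i.unop)) ≫ ιO D c (chosen D c i.unop) ≫
        D.map (homOfLE (chosen_i D c i.unop).ge).op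
      naturality := fun i j f => by
        change 𝟙 _ ≫ _ = _
        rw [Category.id_comp]
        have hji : j.unop ≤ i.unop := leOfHom f.unop
        have h1 : D.map (homOfLE (chosen_i D c i.unop).ge).op ≫ D.map f =
            D.map (homOfLE (hji.trans (chosen_i D c i.unop).ge)).op := by
          rw [← D.map_comp]
          rfl
        rw [Category.assoc, Category.assoc, h1]
        exact cone_general D c s _ _ _ _ _ }

theorem coneD_π (i : α) : (coneD D c s).π.app (op i) =
    s.π.app (op (chosen D c i)) ≫ ιO D c (chosen D c i) ≫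
        D.map (homOfLE (chosen_i D c i).ge).op := rfl

/-- the lift -/
noncomputable def liftZ (hc : IsLimit c) : s.pt ⟶ c.pt := hc.lift (coneD D c s)

theorem liftZ_π (hc : IsLimit c) (i : α) : liftZ D c s hc ≫ c.π.app (op i) =
    s.π.app (op (chosen D c i)) ≫ ιO D c (chosen D c i) ≫
        D.map (homOfLE (chosen_i D c i).ge).op := hc.fac (coneD D c s) (op i)

theorem liftZ_prZ (hc : IsLimit c) (A : Obj D c) :
    liftZ D c s hc ≫ prZ D c A = s.π.app (op A) := by
  rw [← cancel_mono (ιO D c A), Category.assoc, prZ_ιO, liftZ_π,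
    cone_general D c s _ A A.i _ (le_refl _)]
  have : (homOfLE (le_refl A.i)).op = 𝟙 (op A.i) := rfl
  rw [this, D.map_id, Category.comp_id]

theorem liftZ_uniq (hc : IsLimit c) (m : s.pt ⟶ c.pt)
    (hm : ∀ A : Obj D c, m ≫ prZ D c A = s.π.app (op A)) : m = liftZ D c s hc := by
  apply hc.uniq (coneD D c s) m
  rintro ⟨i⟩
  rw [coneD_π, ← hm (chosen D c i), Category.assoc, ← Category.assoc (prZ D c _), prZ_ιO, c.w]
  rfl

end lim

/-- the new cone is a limit cone. -/
noncomputable def isLimitConeZ [IsDirected α (· ≤ ·)] (hc : IsLimit c) : IsLimit (coneZ D c) where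
  lift s := liftZ D c s hc
  fac s A := liftZ_prZ D c s hc A.unop
  uniq s m hm := liftZ_uniq D c s hc m (fun A => hm (op A))

theorem isFinite_Z (A : Obj D c) : IsFinite (Z D c A).hom := A.fin

theorem locallyOfFinitePresentation_Z (A : Obj D c) :
    LocallyOfFinitePresentation (Z D c A).hom := by
  have := Groth.Agent.Lib.Helper22.FTLimit.locallyOfFinitePresentation_subschemeι A.J A.ft
  change LocallyOfFinitePresentation (A.J.subschemeι ≫ sP D A.i)
  infer_instance

end sys

/-- an integral scheme over a qcqs base is a directed limit of finite, finitely presented ones. -/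
theorem exists_finite_fp_system {X S : Scheme.{u}} (f : X ⟶ S) [IsIntegralHom f]
    [CompactSpace S] [QuasiSeparatedSpace S] :
    ∃ (I : Type u) (_ : Preorder I) (_ : IsDirected I (fun a b => a ≤ b)) (_ : Nonempty I)
      (D : Iᵒᵖ ⥤ Over S) (c : Limits.Cone D) (_ : Limits.IsLimit c),
      (∀ i, IsFinite (D.obj i).hom ∧ LocallyOfFinitePresentation (D.obj i).hom) ∧
      Nonempty (c.pt ≅ Over.mk f) := by
  have : CompactSpace X := QuasiCompact.compactSpace_of_compactSpace f
  have : QuasiSeparatedSpace X := quasiSeparatedSpace_of_quasiSeparated f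
  obtain ⟨I₀, _, _, D₀, c₀, hc₀, hprops, ⟨e⟩⟩ := Groth.Agent.Lib.H9Lim1.exists_affine_system f
  obtain ⟨α, _, _, _, F, hF⟩ := IsFiltered.exists_directed I₀
  have : F.op.Initial := Functor.initial_op_of_final F
  let D : αᵒᵖ ⥤ Over S := F.op ⋙ D₀
  let c : Cone D := c₀.whisker F.op
  have hc : IsLimit c := (Functor.Initial.isLimitWhiskerEquiv F.op c₀).symm hc₀
  have : ∀ i, IsAffineHom (sP D i) := fun i => (hprops _).1
  have : ∀ i, LocallyOfFinitePresentation (sP D i) := fun i => (hprops _).2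
  have : IsIntegralHom c.pt.hom := by
    have h1 : e.hom.left ≫ f = c₀.pt.hom := Over.w e.hom
    change IsIntegralHom c₀.pt.hom
    rw [← h1]
    have : IsIso e.hom.left := (Over.forget S).map_isIso e.hom
    have : IsClosedImmersion e.hom.left := inferInstance
    have : IsIntegralHom e.hom.left := inferInstance
    infer_instance
  refine ⟨Obj D c, inferInstance, inferInstance, inferInstance, sysZ D c, coneZ D c,
    isLimitConeZ D c hc, fun A => ⟨isFinite_Z D c A.unop, locallyOfFinitePresentation_Z D c A.unop⟩,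
    ⟨e⟩⟩

end Groth.Agent.Lib.R2H3.IntLim
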