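import Mathlib
import Groth.Agent.Lib.Helper22NA11

set_option autoImplicit false
universe u
open CategoryTheory CategoryTheory.Limits AlgebraicGeometry TopologicalSpace Opposite

namespace Groth.Agent.Lib.H9Lim3

variable {X : Scheme.{u}} {I : Type u} [SmallCategory I] (D : I ⥤ Over X)

set_option backward.isDefEq.respectTransparency false in
/-- the system of self fibre products `Dᵢ ×[X] Dᵢ` -/
@[reducible] noncomputable def prodDiagram : I ⥤ Scheme.{u} where
  obj i := pullback (D.obj i).hom (D.obj i).hom
  map {i j} f := pullback.map _ _ _ _ (D.map f).left (D.map f).left (𝟙 X)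
    (by rw [Category.comp_id, Over.w]) (by rw [Category.comp_id, Over.w])
  map_id i := by
    apply pullback.hom_ext <;> simp
  map_comp f g := by
    apply pullback.hom_ext <;> simp

lemma prodDiagram_map_fst {i j : I} (f : i ⟶ j) :
    (prodDiagram D).map f ≫ pullback.fst (D.obj j).hom (D.obj j).hom =
      pullback.fst (D.obj i).hom (D.obj i).hom ≫ (D.map f).left :=
  pullback.lift_fst _ _ _

lemma prodDiagram_map_snd {i j : I} (f : i ⟶ j) :
    (prodDiagram D).map f ≫ pullback.snd (D.obj j).hom (D.obj j).hom =
      pullback.snd (D.obj i).hom (D.obj i).hom ≫ (D.map f).left :=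
  pullback.lift_snd _ _ _

/-- the cone of self fibre products -/
noncomputable def prodCone (c : Cone D) : Cone (prodDiagram D) where
  pt := pullback c.pt.hom c.pt.hom
  π :=
    { app := fun i => pullback.map _ _ _ _ (c.π.app i).left (c.π.app i).left (𝟙 X)
        (by rw [Category.comp_id]; exact (Over.w (c.π.app i)).symm)
        (by rw [Category.comp_id]; exact (Over.w (c.π.app i)).symm)
      naturality := fun i j f => by
        have hw : (c.π.app i).left ≫ (D.map f).left = (c.π.app j).left := by
          rw [← Over.comp_left, c.w]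
        apply pullback.hom_ext
        · show (𝟙 _ ≫ _) ≫ _ = (_ ≫ (prodDiagram D).map f) ≫ _
          rw [Category.id_comp, Category.assoc, prodDiagram_map_fst, pullback.lift_fst,
            pullback.lift_fst_assoc, Category.assoc, hw]
        · show (𝟙 _ ≫ _) ≫ _ = (_ ≫ (prodDiagram D).map f) ≫ _
          rw [Category.id_comp, Category.assoc, prodDiagram_map_snd, pullback.lift_snd,
            pullback.lift_snd_assoc, Category.assoc, hw] }

lemma prodCone_π_fst (c : Cone D) (i : I) :
    (prodCone D c).π.app i ≫ pullback.fst (D.obj i).hom (D.obj i).hom =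
      pullback.fst c.pt.hom c.pt.hom ≫ (c.π.app i).left :=
  pullback.lift_fst _ _ _

lemma prodCone_π_snd (c : Cone D) (i : I) :
    (prodCone D c).π.app i ≫ pullback.snd (D.obj i).hom (D.obj i).hom =
      pullback.snd c.pt.hom c.pt.hom ≫ (c.π.app i).left :=
  pullback.lift_snd _ _ _

section lim

variable [IsCofiltered I] (c : Cone D) (hc : IsLimit c)

/-- the underlying limit cone in schemes -/
noncomputable def isLimitForget : IsLimit ((Over.forget X).mapCone c) :=
  haveI : IsConnected I := IsCofiltered.isConnected I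
  isLimitOfPreserves (Over.forget X) hc

/-- cone of first projections -/
noncomputable def coneFst (s : Cone (prodDiagram D)) : Cone (D ⋙ Over.forget X) where
  pt := s.pt
  π :=
    { app := fun i => s.π.app i ≫ pullback.fst (D.obj i).hom (D.obj i).hom
      naturality := fun i j f => by
        have key : s.π.app j ≫ pullback.fst (D.obj j).hom (D.obj j).hom =
            (s.π.app i ≫ pullback.fst (D.obj i).hom (D.obj i).hom) ≫ (D.map f).left := by
          rw [Category.assoc, ← prodDiagram_map_fst, ← Category.assoc, s.w]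
        exact (Category.id_comp _).trans key }

/-- cone of second projections -/
noncomputable def coneSnd (s : Cone (prodDiagram D)) : Cone (D ⋙ Over.forget X) where
  pt := s.pt
  π :=
    { app := fun i => s.π.app i ≫ pullback.snd (D.obj i).hom (D.obj i).hom
      naturality := fun i j f => by
        have key : s.π.app j ≫ pullback.snd (D.obj j).hom (D.obj j).hom =
            (s.π.app i ≫ pullback.snd (D.obj i).hom (D.obj i).hom) ≫ (D.map f).left := by
          rw [Category.assoc, ← prodDiagram_map_snd, ← Category.assoc, s.w]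
        exact (Category.id_comp _).trans key }

/-- first component of the lift -/
noncomputable def liftFst (s : Cone (prodDiagram D)) : s.pt ⟶ c.pt.left :=
  (isLimitForget D c hc).lift (coneFst D s)

/-- second component of the lift -/
noncomputable def liftSnd (s : Cone (prodDiagram D)) : s.pt ⟶ c.pt.left :=
  (isLimitForget D c hc).lift (coneSnd D s)

lemma liftFst_π (s : Cone (prodDiagram D)) (i : I) :
    liftFst D c hc s ≫ (c.π.app i).left =
      s.π.app i ≫ pullback.fst (D.obj i).hom (D.obj i).hom :=
  (isLimitForget D c hc).fac (coneFst D s) i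

lemma liftSnd_π (s : Cone (prodDiagram D)) (i : I) :
    liftSnd D c hc s ≫ (c.π.app i).left =
      s.π.app i ≫ pullback.snd (D.obj i).hom (D.obj i).hom :=
  (isLimitForget D c hc).fac (coneSnd D s) i

include hc in
lemma hom_ext_left {W : Scheme.{u}} (a b : W ⟶ c.pt.left)
    (h : ∀ i, a ≫ (c.π.app i).left = b ≫ (c.π.app i).left) : a = b :=
  (isLimitForget D c hc).hom_ext h

lemma lift_cond (s : Cone (prodDiagram D)) :
    liftFst D c hc s ≫ c.pt.hom = liftSnd D c hc s ≫ c.pt.hom := by
  obtain ⟨i⟩ := IsCofiltered.nonempty (C := I)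
  have h1 : (c.π.app i).left ≫ (D.obj i).hom = c.pt.hom := Over.w (c.π.app i)
  have h4 : (liftFst D c hc s ≫ (c.π.app i).left) ≫ (D.obj i).hom =
      (liftSnd D c hc s ≫ (c.π.app i).left) ≫ (D.obj i).hom := by
    rw [liftFst_π, liftSnd_π]
    refine (Category.assoc _ _ _).trans (Eq.trans ?_ (Category.assoc _ _ _).symm)
    exact congrArg (s.π.app i ≫ ·) pullback.condition
  have h5 : ∀ l : s.pt ⟶ c.pt.left, l ≫ c.pt.hom = (l ≫ (c.π.app i).left) ≫ (D.obj i).hom :=
    fun l => ((Category.assoc _ _ _).trans (congrArg (l ≫ ·) h1)).symm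
  exact (h5 _).trans (h4.trans (h5 _).symm)

/-- the self fibre product of the limit is the limit of the self fibre products -/
noncomputable def isLimitProdCone : IsLimit (prodCone D c) where
  lift s := pullback.lift (liftFst D c hc s) (liftSnd D c hc s) (lift_cond D c hc s)
  fac s i := by
    apply pullback.hom_ext
    · refine (Category.assoc _ _ _).trans ?_
      refine (congrArg (pullback.lift (liftFst D c hc s) (liftSnd D c hc s)
        (lift_cond D c hc s) ≫ ·) (prodCone_π_fst D c i)).trans ?_
      refine (Category.assoc _ _ _).symm.trans ?_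
      refine (congrArg (· ≫ (c.π.app i).left) (pullback.lift_fst _ _ _)).trans ?_
      exact liftFst_π D c hc s i
    · refine (Category.assoc _ _ _).trans ?_
      refine (congrArg (pullback.lift (liftFst D c hc s) (liftSnd D c hc s)
        (lift_cond D c hc s) ≫ ·) (prodCone_π_snd D c i)).trans ?_
      refine (Category.assoc _ _ _).symm.trans ?_
      refine (congrArg (· ≫ (c.π.app i).left) (pullback.lift_snd _ _ _)).trans ?_
      exact liftSnd_π D c hc s i
  uniq s m hm := by
    apply pullback.hom_ext
    · refine Eq.trans ?_ (pullback.lift_fst _ _ _).symm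
      refine hom_ext_left D c hc _ _ fun i => ?_
      refine Eq.trans ?_ (liftFst_π D c hc s i).symm
      refine (Category.assoc _ _ _).trans ?_
      refine (congrArg (m ≫ ·) (prodCone_π_fst D c i).symm).trans ?_
      refine (Category.assoc _ _ _).symm.trans ?_
      exact congrArg (· ≫ pullback.fst (D.obj i).hom (D.obj i).hom) (hm i)
    · refine Eq.trans ?_ (pullback.lift_snd _ _ _).symm
      refine hom_ext_left D c hc _ _ fun i => ?_
      refine Eq.trans ?_ (liftSnd_π D c hc s i).symm
      refine (Category.assoc _ _ _).trans ?_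
      refine (congrArg (m ≫ ·) (prodCone_π_snd D c i).symm).trans ?_
      refine (Category.assoc _ _ _).symm.trans ?_
      exact congrArg (· ≫ pullback.snd (D.obj i).hom (D.obj i).hom) (hm i)

end lim



set_option backward.isDefEq.respectTransparency false in
/-- for a separated `t : A ⟶ B` over `S`, a point in the closure of the diagonal of `A/S`
mapping into the diagonal of `B/S` lies in the diagonal of `A/S` -/
theorem mem_range_diagonal_of_mem_closure {A B S : Scheme.{u}} (t : A ⟶ B) [IsSeparated t]
    (h : B ⟶ S) (w : ↥(pullback (t ≫ h) (t ≫ h)))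
    (hw : w ∈ closure (Set.range (pullback.diagonal (t ≫ h))))
    (hw' : (pullback.map (t ≫ h) (t ≫ h) h h t t (𝟙 S) (Category.comp_id _)
      (Category.comp_id _)) w ∈ Set.range (pullback.diagonal h)) :
    w ∈ Set.range (pullback.diagonal (t ≫ h)) := by
  have sq := pullback_map_diagonal_isPullback t t h
  set m := pullback.map t t (t ≫ h) (t ≫ h) (𝟙 A) (𝟙 A) h (Category.id_comp _).symm
    (Category.id_comp _).symm with hm
  have him : IsImmersion m := MorphismProperty.of_isPullback (P := @IsImmersion) sq inferInstance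
  have hδ : pullback.diagonal t ≫ m = pullback.diagonal (t ≫ h) := by
    apply pullback.hom_ext <;> simp [hm]
  obtain ⟨b, hb⟩ := hw'
  obtain ⟨v, -, hv⟩ := Scheme.exists_preimage_of_isPullback sq b w hb
  have h1 : Set.range (pullback.diagonal (t ≫ h)) = m '' Set.range (pullback.diagonal t) := by
    rw [← hδ, Scheme.Hom.comp_base, TopCat.coe_comp, Set.range_comp]
  have h2 : v ∈ closure (Set.range (pullback.diagonal t)) := by
    rw [m.isEmbedding.closure_eq_preimage_closure_image, ← h1]
    show m v ∈ closure (Set.range (pullback.diagonal (t ≫ h)))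
    rw [hv]
    exact hw
  rw [(pullback.diagonal t).isClosedEmbedding.isClosed_range.closure_eq] at h2
  obtain ⟨a, ha⟩ := h2
  refine ⟨a, ?_⟩
  rw [← hv, ← ha, ← hδ]
  rfl




theorem mem_range_diagonal_of_mem_closure' {A B S : Scheme.{u}} (t : A ⟶ B) [IsSeparated t]
    (h : B ⟶ S) (hA : A ⟶ S) (e : t ≫ h = hA) (w : ↥(pullback hA hA))
    (hw : w ∈ closure (Set.range (pullback.diagonal hA)))
    (hw' : (pullback.map hA hA h h t t (𝟙 S) (by rw [Category.comp_id, e])
      (by rw [Category.comp_id, e])) w ∈ Set.range (pullback.diagonal h)) :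
    w ∈ Set.range (pullback.diagonal hA) := by
  subst e
  exact mem_range_diagonal_of_mem_closure t h w hw hw'

variable {X : Scheme.{u}} {I : Type u} [SmallCategory I] (D : I ⥤ Over X)

set_option backward.isDefEq.respectTransparency false in
lemma diagonal_map {i j : I} (f : i ⟶ j) :
    pullback.diagonal (D.obj i).hom ≫ (prodDiagram D).map f =
      (D.map f).left ≫ pullback.diagonal (D.obj j).hom := by
  apply pullback.hom_ext <;> simp

set_option backward.isDefEq.respectTransparency false in
lemma diagonal_π (c : Cone D) (i : I) :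
    pullback.diagonal c.pt.hom ≫ (prodCone D c).π.app i =
      (c.π.app i).left ≫ pullback.diagonal (D.obj i).hom := by
  apply pullback.hom_ext <;> simp [prodCone]


/-- in a cofiltered system over `X` with affine transitions whose members are quasi-compact
schemes with quasi-compact quasi-separated structure maps, if the limit is separated over `X`
then so is some stage -/
theorem exists_isSeparated_stage [IsCofiltered I] (c : Cone D) (hc : IsLimit c)
    (haff : ∀ (i j : I) (a : i ⟶ j), IsAffineHom (D.map a).left)
    (hcpt : ∀ i, CompactSpace (D.obj i).left)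
    (hqc : ∀ i, QuasiCompact (D.obj i).hom) (hqs : ∀ i, QuasiSeparated (D.obj i).hom)
    (hsep : IsSeparated c.pt.hom) : ∃ i, IsSeparated (D.obj i).hom := by
  classical
  by_contra H
  push Not at H
  let E := prodDiagram D
  let cE := prodCone D c
  have hcE : IsLimit cE := isLimitProdCone D c hc
  haveI hEaff : ∀ {i j : I} (f : i ⟶ j), IsAffineHom (E.map f) := fun {i j} f =>
    MorphismProperty.pullbackMap (P := @IsAffineHom) (haff i j f) (haff i j f)
      (Over.w (D.map f)).symm (Over.w (D.map f)).symm
  let Δ : ∀ i, (D.obj i).left ⟶ E.obj i := fun i => pullback.diagonal (D.obj i).hom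
  let W : ∀ i, Set (E.obj i) := fun i => closure (Set.range (Δ i)) \ Set.range (Δ i)
  have hWc : ∀ i, IsClosed (W i) := fun i => by
    have h1 := (Δ i).isLocallyClosed_range.isOpen_coborder
    rwa [coborder, isOpen_compl_iff] at h1
  have hWne : ∀ i, (W i).Nonempty := fun i => by
    by_contra hne
    rw [Set.not_nonempty_iff_eq_empty, Set.sdiff_eq_empty] at hne
    apply H i
    have hcl : IsClosed (Set.range (Δ i)) := closure_subset_iff_isClosed.mp hne
    exact ⟨IsClosedImmersion.of_isPreimmersion _ hcl⟩
  have hEcpt : ∀ i, CompactSpace (E.obj i) := fun i => by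
    haveI := hcpt i
    haveI := hqc i
    exact QuasiCompact.compactSpace_of_compactSpace
      (pullback.fst (D.obj i).hom (D.obj i).hom)
  have hmaps : ∀ {i j : I} (f : i ⟶ j), Set.MapsTo (E.map f) (W i) (W j) := by
    intro i j f x hx
    have hsub : (E.map f) '' Set.range (Δ i) ⊆ Set.range (Δ j) := by
      rintro _ ⟨_, ⟨z, rfl⟩, rfl⟩
      refine ⟨(D.map f).left z, ?_⟩
      have := congrArg (fun g => g z) (diagonal_map D f)
      exact this.symm
    refine ⟨?_, ?_⟩
    · have h1 := image_closure_subset_closure_image (E.map f).continuous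
        (s := Set.range (Δ i)) ⟨x, hx.1, rfl⟩
      exact closure_mono hsub h1
    · intro hx2
      haveI : IsSeparated (D.map f).left := by
        haveI := haff i j f
        infer_instance
      exact hx.2 (mem_range_diagonal_of_mem_closure' (D.map f).left (D.obj j).hom (D.obj i).hom
        (Over.w (D.map f)) x hx.1 hx2)
  obtain ⟨w, hw⟩ := exists_mem_of_isClosed_of_nonempty E cE hcE W hWc hWne
    (fun i => (hWc i).isCompact) hmaps
  let ΔY : c.pt.left ⟶ cE.pt := pullback.diagonal c.pt.hom
  haveI : IsClosedImmersion ΔY := hsep.isClosedImmersion_diagonal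
  have hcompat : ∀ i (y : c.pt.left), cE.π.app i (ΔY y) = Δ i ((c.π.app i).left y) := by
    intro i y
    exact congrArg (fun g => g y) (diagonal_π D c i)
  have hwY : w ∉ Set.range ΔY := by
    rintro ⟨y, rfl⟩
    obtain ⟨i⟩ := IsCofiltered.nonempty (C := I)
    exact (hw i).2 ⟨_, (hcompat i y).symm⟩
  let O : cE.pt.Opens := ⟨(Set.range ΔY)ᶜ, ΔY.isClosedEmbedding.isClosed_range.isOpen_compl⟩
  have hwO : w ∈ O := hwY
  obtain ⟨_, ⟨i, V, hV, rfl⟩, hwV, hVO⟩ :=
    TopologicalSpace.Opens.isBasis_iff_nbhd.mp (isBasis_preimage_isAffineOpen E cE hcE) hwO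
  let U : (D.obj i).left.Opens := Δ i ⁻¹ᵁ V
  haveI : QuasiCompact (Δ i) := (hqs i).quasiCompact_diagonal
  have hUc : IsCompact (U : Set (D.obj i).left) :=
    QuasiCompact.isCompact_preimage (f := Δ i) _ V.2 hV.isCompact
  let D' : I ⥤ Scheme.{u} := D ⋙ Over.forget X
  let c' : Cone D' := (Over.forget X).mapCone c
  have hc' : IsLimit c' := isLimitForget D c hc
  haveI hD'aff : ∀ {i j : I} (f : i ⟶ j), IsAffineHom (D'.map f) := fun {i j} f => haff i j f
  have H1 : c'.π.app i ⁻¹ᵁ U ≤ c'.π.app i ⁻¹ᵁ ⊥ := by
    intro y hy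
    exfalso
    have h1 : Δ i ((c.π.app i).left y) ∈ V := hy
    rw [← hcompat i y] at h1
    have h2 : ΔY y ∈ O := hVO h1
    exact h2 ⟨y, rfl⟩
  obtain ⟨j, t, ht⟩ := exists_map_preimage_le_map_preimage D' c' hc' hUc H1
  have hwj := (hw j).1
  have hwjV : cE.π.app j w ∈ (E.map t ⁻¹ᵁ V : (E.obj j).Opens) := by
    show E.map t (cE.π.app j w) ∈ V
    have h3 : cE.π.app j ≫ E.map t = cE.π.app i := cE.w t
    have h4 : E.map t (cE.π.app j w) = cE.π.app i w := congrArg (fun g => g w) h3
    rw [h4]
    exact hwV
  obtain ⟨_, hzV, ⟨z, rfl⟩⟩ := mem_closure_iff.mp hwj _ (E.map t ⁻¹ᵁ V).2 hwjV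
  have h5 : E.map t (Δ j z) = Δ i ((D.map t).left z) :=
    congrArg (fun g => g z) (diagonal_map D t)
  have h6 : (D.map t).left z ∈ U := by
    show Δ i ((D.map t).left z) ∈ V
    rw [← h5]
    exact hzV
  exact ht h6




theorem main {X Y : Scheme.{u}} (f : Y ⟶ X)
    [CompactSpace X] [QuasiSeparatedSpace X] [CompactSpace Y] [QuasiSeparatedSpace Y] :
    ∃ (Z : Scheme.{u}) (g : Y ⟶ Z) (h : Z ⟶ X), IsAffineHom g ∧ LocallyOfFinitePresentation h ∧
      QuasiCompact h ∧ QuasiSeparated h ∧ (IsSeparated f → IsSeparated h) ∧ g ≫ h = f := by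
  classical
  obtain ⟨I, pI, hdir, hne, D, c, hc, hprops, haff, ⟨e⟩⟩ :=
    Groth.Agent.Lib.Helper22.NA11.exists_over_system (g := f) (ι := 𝟙 X)
  haveI : IsFiltered I := isFiltered_of_directed_le_nonempty I
  have e' : c.pt ≅ Over.mk f := e ≪≫ Over.isoMk (Iso.refl _) (by simp)
  haveI hD'aff : ∀ {i j : Iᵒᵖ} (a : i ⟶ j), IsAffineHom ((D ⋙ Over.forget X).map a) :=
    fun {i j} a => haff i j a
  have hproj : ∀ i, IsAffineHom (c.π.app i).left := fun i =>
    isAffineHom_π_app (D ⋙ Over.forget X) ((Over.forget X).mapCone c) (isLimitForget D c hc) i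
  have key : ∃ i : Iᵒᵖ, IsSeparated f → IsSeparated (D.obj i).hom := by
    by_cases hs : IsSeparated f
    · have hsep : IsSeparated c.pt.hom := by
        have h1 : e'.hom.left ≫ f = c.pt.hom := Over.w e'.hom
        rw [← h1]
        infer_instance
      obtain ⟨i, hi⟩ := exists_isSeparated_stage D c hc haff
        (fun i => by
          haveI := (hprops i).2.1
          exact QuasiCompact.compactSpace_of_compactSpace (D.obj i).hom)
        (fun i => (hprops i).2.1) (fun i => (hprops i).2.2) hsep
      exact ⟨i, fun _ => hi⟩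
    · obtain ⟨i⟩ := hne
      exact ⟨op i, fun h => absurd h hs⟩
  obtain ⟨i, hi⟩ := key
  refine ⟨(D.obj i).left, e'.inv.left ≫ (c.π.app i).left, (D.obj i).hom, ?_, (hprops i).1,
    (hprops i).2.1, (hprops i).2.2, hi, ?_⟩
  · haveI := hproj i
    infer_instance
  · rw [Category.assoc]
    have h2 : (c.π.app i).left ≫ (D.obj i).hom = c.pt.hom := Over.w (c.π.app i)
    rw [h2]
    exact Over.w e'.inv


end Groth.Agent.Lib.H9Lim3
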