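import Mathlib

/-!
# Affine charts of a fibre product (helper3, round 2)

For a pullback square `Z = X ×_S Y` and affine opens `U ⊆ a⁻¹W`, `V ⊆ b⁻¹W`, the open `p⁻¹U ⊓ q⁻¹V` of `Z`
is affine with ring of sections the pushout (tensor product) of `Γ(U)` and `Γ(V)` over `Γ(W)`.
-/

set_option autoImplicit false
universe u
open CategoryTheory CategoryTheory.Limits AlgebraicGeometry

namespace Groth.Agent.Lib.R2H3.ProdChart

variable {X Y S Z : Scheme.{u}} {a : X ⟶ S} {b : Y ⟶ S} {p : Z ⟶ X} {q : Z ⟶ Y}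
  (H : IsPullback p q a b) {W : S.Opens} {U : X.Opens} {V : Y.Opens}
  (hW : IsAffineOpen W) (hU : IsAffineOpen U) (hV : IsAffineOpen V)
  (hUW : U ≤ a ⁻¹ᵁ W) (hVW : V ≤ b ⁻¹ᵁ W)

include H hW hU hV hUW hVW in
theorem isAffineOpen_inf : IsAffineOpen (p ⁻¹ᵁ U ⊓ q ⁻¹ᵁ V) := by
  have : IsAffine (W : Scheme.{u}) := hW
  have : IsAffine (U : Scheme.{u}) := hU
  have : IsAffine (V : Scheme.{u}) := hV
  exact .of_isIso (Scheme.Hom.isPullback_resLE H hVW hUW rfl).isoPullback.hom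

include H hW hU hV in
theorem isPushout_appLE :
    IsPushout (a.appLE W U hUW) (b.appLE W V hVW)
      (p.appLE U (p ⁻¹ᵁ U ⊓ q ⁻¹ᵁ V) inf_le_left) (q.appLE V (p ⁻¹ᵁ U ⊓ q ⁻¹ᵁ V) inf_le_right) := by
  haveI := isIso_pushoutSection_of_isAffineOpen H hVW hUW rfl hW hV hU
  exact (isIso_pushoutSection_iff H hVW hUW rfl).mp inferInstance

end Groth.Agent.Lib.R2H3.ProdChart
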