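import Mathlib
import Groth.Prelude.Def_OmegaPn
import Groth.Prelude.Def_Omega4
import Groth.Agent.Lib.R2H3ProdChart

/-!
# Affine charts of the sheaf of principal parts `P^n_{X/S}` (helper3, round 2)

* `pullbackUnitHom f : f^* O_Y ≅ O_X` with its value on pulled-back sections.
* `W0 f U = fst⁻¹U ⊓ snd⁻¹U` is affine, contained in the open where the diagonal is closed, and
  `Γ(W0) → Γ(nbhd f n, pr1⁻¹U)` is surjective.
* `span_dn_eq_top`: over an affine open `U` over an affine open of the base, `Γ(U, P^n)` is spanned over `Γ(U, O_X)`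
  by the image of `d^n`.
* `epi_of_dn_mem_range`, `epi_of_locally_surjective`.
-/

set_option autoImplicit false
universe u
open CategoryTheory CategoryTheory.Limits AlgebraicGeometry TopologicalSpace Opposite

namespace Groth.Agent.Lib.R2H3.PnChart

section unit

instance final_opensMap {X Y : Scheme.{u}} (f : X ⟶ Y) : (TopologicalSpace.Opens.map f.base).Final := by
  apply Functor.final_of_exists_of_isFiltered
  · intro U
    exact ⟨⊤, ⟨homOfLE le_top⟩⟩
  · intro U V s s'
    exact ⟨V, 𝟙 V, Subsingleton.elim _ _⟩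

instance isRightAdjoint_pushforward {X Y : Scheme.{u}} (f : X ⟶ Y) :
    (SheafOfModules.pushforward.{u} f.toRingCatSheafHom).IsRightAdjoint :=
  inferInstanceAs ((Scheme.Modules.pushforward f).IsRightAdjoint)

set_option backward.isDefEq.respectTransparency.types false in
/-- `f^* O_Y ⟶ O_X` -/
noncomputable def pullbackUnitHom {X Y : Scheme.{u}} (f : X ⟶ Y) :
    (Scheme.Modules.pullback f).obj (Coh.structureModule Y) ⟶ Coh.structureModule X :=
  SheafOfModules.pullbackObjUnitToUnit.{u} f.toRingCatSheafHom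

set_option backward.isDefEq.respectTransparency.types false in
theorem isIso_pullbackObjUnitToUnit {X Y : Scheme.{u}} (f : X ⟶ Y) :
    IsIso (SheafOfModules.pullbackObjUnitToUnit.{u} f.toRingCatSheafHom) := by
  infer_instance

set_option backward.isDefEq.respectTransparency.types false in
instance {X Y : Scheme.{u}} (f : X ⟶ Y) : IsIso (pullbackUnitHom f) := isIso_pullbackObjUnitToUnit f

theorem homEquiv_app {X X' : Scheme.{u}} (h : X' ⟶ X) {Ω : X.Modules} {Ω' : X'.Modules}
    (c : (Scheme.Modules.pullback h).obj Ω ⟶ Ω') (U : X.Opens) (x : Γ(Ω, U)) :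
    ((Scheme.Modules.pullbackPushforwardAdjunction h).homEquiv Ω Ω' c).app U x =
      c.app (h ⁻¹ᵁ U) (OmegaSh.pullSect h Ω U x) := by
  rw [Adjunction.homEquiv_unit]
  rfl

set_option backward.isDefEq.respectTransparency.types false in
theorem pullbackUnitHom_pullSect {X Y : Scheme.{u}} (f : X ⟶ Y) (U : Y.Opens) (b : Γ(Y, U)) :
    (pullbackUnitHom f).app (f ⁻¹ᵁ U)
      (OmegaSh.pullSect f (Coh.structureModule Y) U (OmegaSh.strSect Y U b)) =
    OmegaSh.strSect X (f ⁻¹ᵁ U) (f.app U b) := by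
  rw [← homEquiv_app]
  have h := SheafOfModules.pullbackPushforwardAdjunction_homEquiv_pullbackObjUnitToUnit.{u}
    f.toRingCatSheafHom
  have h2 : (Scheme.Modules.pullbackPushforwardAdjunction f).homEquiv _ _ (pullbackUnitHom f) =
      SheafOfModules.unitToPushforwardObjUnit.{u} f.toRingCatSheafHom := h
  rw [h2]
  rfl

end unit

section chart

theorem surj_of_eq {A B : CommRingCat.{u}} (φ ψ : A ⟶ B) (h : φ = ψ)
    (hs : Function.Surjective ψ.hom) : Function.Surjective φ.hom := h ▸ hs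

variable {X S : Scheme.{u}} (f : X ⟶ S)

/-- the chart `fst⁻¹U ⊓ snd⁻¹U` of `X ×_S X` -/
noncomputable abbrev W0 (U : X.Opens) : (pullback f f).Opens :=
  pullback.fst f f ⁻¹ᵁ U ⊓ pullback.snd f f ⁻¹ᵁ U

theorem diagonal_preimage_W0 (U : X.Opens) : pullback.diagonal f ⁻¹ᵁ (W0 f U) = U := by
  ext x
  change ((pullback.fst f f) ((pullback.diagonal f) x) ∈ U ∧
    (pullback.snd f f) ((pullback.diagonal f) x) ∈ U) ↔ x ∈ U
  rw [← Scheme.Hom.comp_apply, ← Scheme.Hom.comp_apply, pullback.diagonal_fst, pullback.diagonal_snd]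
  exact and_self_iff

variable {U : X.Opens} {T : S.Opens} (hU : IsAffineOpen U) (hT : IsAffineOpen T)
  (hUT : U ≤ f ⁻¹ᵁ T)

include hU hT hUT in
theorem isAffineOpen_W0 : IsAffineOpen (W0 f U) :=
  Groth.Agent.Lib.R2H3.ProdChart.isAffineOpen_inf (IsPullback.of_hasPullback f f) hT hU hU hUT hUT

theorem diagonal_app_surjective (U : X.Opens) :
    Function.Surjective ((pullback.diagonal f).app (W0 f U)).hom := by
  intro b
  have hle : pullback.diagonal f ⁻¹ᵁ (W0 f U) ≤ U := (diagonal_preimage_W0 f U).le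
  have hge : U ≤ pullback.diagonal f ⁻¹ᵁ (W0 f U) := (diagonal_preimage_W0 f U).ge
  refine ⟨(pullback.fst f f).appLE U (W0 f U) inf_le_left (X.presheaf.map (homOfLE hge).op b), ?_⟩
  have h1 : (pullback.fst f f).appLE U (W0 f U) inf_le_left ≫
      (pullback.diagonal f).appLE (W0 f U) (pullback.diagonal f ⁻¹ᵁ (W0 f U)) le_rfl =
      (pullback.diagonal f ≫ pullback.fst f f).appLE U (pullback.diagonal f ⁻¹ᵁ (W0 f U))
        (by rw [pullback.diagonal_fst]; exact hle) :=
    Scheme.Hom.appLE_comp_appLE _ _ _ _ _ _ _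
  have h2 : ∀ (k : X ⟶ X) (_ : k = 𝟙 X) (e : pullback.diagonal f ⁻¹ᵁ (W0 f U) ≤ k ⁻¹ᵁ U),
      k.appLE U (pullback.diagonal f ⁻¹ᵁ (W0 f U)) e = X.presheaf.map (homOfLE hle).op := by
    rintro _ rfl e
    rw [Scheme.Hom.appLE, Scheme.Hom.id_app]
    exact Category.id_comp _
  rw [h2 _ (pullback.diagonal_fst f)] at h1
  rw [Scheme.Hom.appLE_eq_app] at h1
  have h3 := congr($h1 (X.presheaf.map (homOfLE hge).op b))
  rw [CommRingCat.comp_apply] at h3
  rw [h3, ← CommRingCat.comp_apply, ← Functor.map_comp]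
  exact congr($(X.presheaf.map_id _) b)

include hU hT hUT in
/-- the chart lies in the open where the diagonal is closed -/
theorem W0_le_coborderRange : W0 f U ≤ (pullback.diagonal f).coborderRange := by
  have hW0 := isAffineOpen_W0 f hU hT hUT
  have hUa : IsAffineOpen (pullback.diagonal f ⁻¹ᵁ (W0 f U)) := by
    rw [diagonal_preimage_W0]; exact hU
  have : IsAffine ((W0 f U : (pullback f f).Opens) : Scheme.{u}) := hW0
  have : IsAffine ((pullback.diagonal f ⁻¹ᵁ (W0 f U) : X.Opens) : Scheme.{u}) := hUa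
  have hsurj : Function.Surjective ((pullback.diagonal f ∣_ (W0 f U)).appTop).hom := by
    have e : (W0 f U).ι ''ᵁ ⊤ = W0 f U := by simp
    have key : ∀ (V : (pullback f f).Opens) (_ : V = W0 f U),
        Function.Surjective ((pullback.diagonal f).app V).hom := by
      rintro _ rfl; exact diagonal_app_surjective f U
    have h2 : Function.Surjective (X.presheaf.map (eqToHom
        (image_morphismRestrict_preimage (pullback.diagonal f) (W0 f U) ⊤)).op).hom :=
      (ConcreteCategory.bijective_of_isIso (C := CommRingCat) _).2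
    have h3 := Function.Surjective.comp h2 (key _ e)
    refine surj_of_eq _ _ (morphismRestrict_appTop (pullback.diagonal f) (W0 f U)) ?_
    exact h3
  have : IsClosedImmersion (pullback.diagonal f ∣_ (W0 f U)) :=
    IsClosedImmersion.of_surjective_of_isAffine _ hsurj
  have hcl : IsClosed (Set.range (pullback.diagonal f ∣_ (W0 f U))) :=
    (pullback.diagonal f ∣_ (W0 f U)).isClosedEmbedding.isClosed_range
  intro z hz
  change z ∈ coborder (Set.range (pullback.diagonal f))
  rw [coborder_eq_union_closure_compl]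
  by_cases hzc : z ∈ closure (Set.range (pullback.diagonal f))
  · left
    have h1 : (⟨z, hz⟩ : (W0 f U : (pullback f f).Opens)) ∈
        closure (Set.range (pullback.diagonal f ∣_ (W0 f U))) := by
      refine closure_subtype.mpr ?_
      have h2 : z ∈ closure (SetLike.coe (W0 f U) ∩ Set.range (pullback.diagonal f)) :=
        (W0 f U).isOpen.inter_closure ⟨hz, hzc⟩
      refine closure_mono ?_ h2
      rintro _ ⟨hw, x, rfl⟩
      refine ⟨⟨_, hw⟩, ⟨⟨x, hw⟩, ?_⟩, rfl⟩
      apply Subtype.ext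
      exact morphismRestrict_base_coe (pullback.diagonal f) (W0 f U) ⟨x, hw⟩
    rw [hcl.closure_eq] at h1
    obtain ⟨x, hx⟩ := h1
    refine ⟨x.1, ?_⟩
    have := morphismRestrict_base_coe (pullback.diagonal f) (W0 f U) x
    rw [hx] at this
    exact this.symm
  · right
    exact hzc

theorem pr1_preimage_eq (n : ℕ) (U : X.Opens) :
    PrinPart.pr1 f n ⁻¹ᵁ U = PrinPart.nbhdι f n ⁻¹ᵁ (W0 f U) := by
  ext x
  change PrinPart.pr1 f n x ∈ U ↔ (pullback.fst f f (PrinPart.nbhdι f n x) ∈ U ∧
    pullback.snd f f (PrinPart.nbhdι f n x) ∈ U)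
  have h1 : pullback.fst f f (PrinPart.nbhdι f n x) = PrinPart.pr1 f n x := by
    rw [PrinPart.pr1, Scheme.Hom.comp_apply]
  have h2 : pullback.snd f f (PrinPart.nbhdι f n x) = PrinPart.pr2 f n x := by
    rw [PrinPart.pr2, Scheme.Hom.comp_apply]
  rw [h1, h2, ← PrinPart.pr1_apply]
  exact (and_self_iff).symm

instance (n : ℕ) : IsClosedImmersion (PrinPart.infNbhdι (PrinPart.diagCl f) n) := by
  unfold PrinPart.infNbhdι; infer_instance

include hU hT hUT in
theorem nbhdι_appLE_surjective (n : ℕ) :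
    Function.Surjective ((PrinPart.nbhdι f n).appLE (W0 f U) (PrinPart.pr1 f n ⁻¹ᵁ U)
      (pr1_preimage_eq f n U).le).hom := by
  have hle : W0 f U ≤ (pullback.diagonal f).coborderRange := W0_le_coborderRange f hU hT hUT
  have hle' : W0 f U ≤ (pullback.diagonal f).coborderRange.ι.opensRange := by
    rw [Scheme.Opens.opensRange_ι]; exact hle
  have hV : IsAffineOpen ((pullback.diagonal f).coborderRange.ι ⁻¹ᵁ W0 f U) :=
    (isAffineOpen_W0 f hU hT hUT).preimage_of_isOpenImmersion _ hle'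
  have h1 := (PrinPart.infNbhdι (PrinPart.diagCl f) n).app_surjective _ hV
  haveI := (pullback.diagonal f).coborderRange.ι.isIso_app (W0 f U) hle'
  have h2 : Function.Surjective ((pullback.diagonal f).coborderRange.ι.app (W0 f U)).hom :=
    (ConcreteCategory.bijective_of_isIso (C := CommRingCat) _).2
  have h3 := Function.Surjective.comp h1 h2
  have key : (PrinPart.nbhdι f n).appLE (W0 f U) (PrinPart.pr1 f n ⁻¹ᵁ U)
      (pr1_preimage_eq f n U).le =
      ((pullback.diagonal f).coborderRange.ι.app (W0 f U) ≫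
        (PrinPart.infNbhdι (PrinPart.diagCl f) n).app _) ≫
        (PrinPart.nbhd f n).presheaf.map (homOfLE (pr1_preimage_eq f n U).le).op := by
    change (PrinPart.infNbhdι (PrinPart.diagCl f) n ≫
      (pullback.diagonal f).coborderRange.ι).app _ ≫ _ = _
    rw [Scheme.Hom.comp_app]
    rfl
  refine surj_of_eq _ _ key ?_
  have h4 : Function.Surjective ((PrinPart.nbhd f n).presheaf.map
      (homOfLE (pr1_preimage_eq f n U).le).op).hom := by
    have : ∀ (V V' : (PrinPart.nbhd f n).Opens) (e : V = V') (h : V ≤ V'),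
        Function.Surjective ((PrinPart.nbhd f n).presheaf.map (homOfLE h).op).hom := by
      rintro V _ rfl h
      have : homOfLE h = 𝟙 V := Subsingleton.elim _ _
      rw [this, op_id, (PrinPart.nbhd f n).presheaf.map_id]
      exact Function.surjective_id
    exact this _ _ (pr1_preimage_eq f n U) _
  have h5 := Function.Surjective.comp h4 h3
  exact h5

end chart

section ring

theorem pushout_span (A B C R : Type*) [CommRing A] [CommRing B] [CommRing C] [CommRing R]
    [Algebra A B] [Algebra A C] [Algebra B R] [Algebra C R] [Algebra A R]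
    [IsScalarTower A B R] [IsScalarTower A C R] [Algebra.IsPushout A B C R] :
    Submodule.span B (Set.range (algebraMap C R)) = ⊤ := by
  rw [eq_top_iff]
  rintro r -
  have h : IsBaseChange B (IsScalarTower.toAlgHom A C R).toLinearMap := Algebra.IsPushout.out
  refine h.inductionOn r _ (zero_mem _) (fun c => Submodule.subset_span ⟨c, rfl⟩)
    (fun b n hn => Submodule.smul_mem _ b hn) (fun _ _ h1 h2 => add_mem h1 h2)

theorem pushout_closure {A B C R : CommRingCat.{u}} {a : A ⟶ B} {b : A ⟶ C} {p : B ⟶ R} {q : C ⟶ R}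
    (h : IsPushout a b p q) (r : R) :
    r ∈ AddSubmonoid.closure {x : R | ∃ y z, x = p.hom y * q.hom z} := by
  letI : Algebra A B := a.hom.toAlgebra
  letI : Algebra A C := b.hom.toAlgebra
  letI : Algebra B R := p.hom.toAlgebra
  letI : Algebra C R := q.hom.toAlgebra
  letI : Algebra A R := (a ≫ p).hom.toAlgebra
  haveI : IsScalarTower A B R := IsScalarTower.of_algebraMap_eq fun r => rfl
  haveI : IsScalarTower A C R := IsScalarTower.of_algebraMap_eq fun r => congr($h.w r)
  haveI : Algebra.IsPushout A B C R := CommRingCat.isPushout_iff_isPushout.mp h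
  have h2 := pushout_span A B C R
  have hr : r ∈ Submodule.span B (Set.range (algebraMap C R)) := by rw [h2]; trivial
  have hsm : ∀ (t : B) (x : R),
      x ∈ AddSubmonoid.closure {x : R | ∃ y z, x = p.hom y * q.hom z} →
      t • x ∈ AddSubmonoid.closure {x : R | ∃ y z, x = p.hom y * q.hom z} := by
    intro t x hx
    induction hx using AddSubmonoid.closure_induction with
    | mem x hx =>
      obtain ⟨y, z, rfl⟩ := hx
      refine AddSubmonoid.subset_closure ⟨t * y, z, ?_⟩
      rw [map_mul, mul_assoc]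
      rfl
    | zero => rw [smul_zero]; exact zero_mem _
    | add x y _ _ hx hy => rw [smul_add]; exact add_mem hx hy
  induction hr using Submodule.span_induction with
  | mem x hx =>
    obtain ⟨z, rfl⟩ := hx
    refine AddSubmonoid.subset_closure ⟨1, z, ?_⟩
    rw [map_one, one_mul]
    rfl
  | zero => exact zero_mem _
  | add x y _ _ hx hy => exact add_mem hx hy
  | smul t x _ hx => exact hsm t x hx

end ring

theorem epi_of_locally_surjective {X : Scheme.{u}} {M N : X.Modules} (π : M ⟶ N)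
    (h : ∀ (V : X.Opens) (t : Γ(N, V)) (x : X), x ∈ V → ∃ (V' : X.Opens) (hle : V' ≤ V), x ∈ V' ∧
      ∃ s : Γ(M, V'), π.app V' s = N.presheaf.map (homOfLE hle).op t) : Epi π := by
  have h1 : Epi ((SheafOfModules.toSheaf X.ringCatSheaf).map π) := by
    refine (TopCat.Sheaf.isLocallySurjective_iff_epi (X := X.carrier) (C := Ab)
      (F := (SheafOfModules.toSheaf X.ringCatSheaf).obj M)
      (G := (SheafOfModules.toSheaf X.ringCatSheaf).obj N)
      ((SheafOfModules.toSheaf X.ringCatSheaf).map π)).1 ?_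
    rw [TopCat.Presheaf.isLocallySurjective_iff]
    intro V t x hx
    obtain ⟨V', hle, hxV', s, hs⟩ := h V t x hx
    exact ⟨V', hle, ⟨s, hs⟩, hxV'⟩
  exact (SheafOfModules.toSheaf X.ringCatSheaf).epi_of_epi_map h1

theorem app_naturality {X : Scheme.{u}} {M N : X.Modules} (φ : M ⟶ N) {U V : X.Opens} (e : V ≤ U)
    (m : Γ(M, U)) :
    φ.app V (M.presheaf.map (homOfLE e).op m) = N.presheaf.map (homOfLE e).op (φ.app U m) :=
  congr($((Scheme.Modules.Hom.mapPresheaf φ).naturality (homOfLE e).op) m)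

section gen

variable {X S : Scheme.{u}} (f : X ⟶ S) {U : X.Opens} {T : S.Opens} (hU : IsAffineOpen U)
  (hT : IsAffineOpen T) (hUT : U ≤ f ⁻¹ᵁ T)

/-- `θ (d^n c) = p₂♯ c` -/
theorem unit_dn (n : ℕ) (U : X.Opens) (c : Γ(X, U)) :
    (pullbackUnitHom (PrinPart.pr2 f n)).app (PrinPart.pr1 f n ⁻¹ᵁ U) (PrinPart.dn f n U c) =
      OmegaSh.strSect (PrinPart.nbhd f n) (PrinPart.pr1 f n ⁻¹ᵁ U)
        ((PrinPart.pr2 f n).appLE U (PrinPart.pr1 f n ⁻¹ᵁ U) (PrinPart.preimage_pr1 f n U).le c) := by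
  change (pullbackUnitHom (PrinPart.pr2 f n)).app (PrinPart.pr1 f n ⁻¹ᵁ U)
    (((Scheme.Modules.pullback (PrinPart.pr2 f n)).obj (Coh.structureModule X)).presheaf.map
      (homOfLE (PrinPart.preimage_pr1 f n U).le).op
      (OmegaSh.pullSect (PrinPart.pr2 f n) (Coh.structureModule X) U (OmegaSh.strSect X U c))) = _
  rw [app_naturality, pullbackUnitHom_pullSect]
  rfl

theorem unit_smul (n : ℕ) (U : X.Opens) (b : Γ(X, U)) (y : Γ(PrinPart.P f n, U)) :
    (pullbackUnitHom (PrinPart.pr2 f n)).app (PrinPart.pr1 f n ⁻¹ᵁ U) (b • y) =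
      (PrinPart.pr1 f n).app U b •
        (pullbackUnitHom (PrinPart.pr2 f n)).app (PrinPart.pr1 f n ⁻¹ᵁ U) y := by
  change (pullbackUnitHom (PrinPart.pr2 f n)).app (PrinPart.pr1 f n ⁻¹ᵁ U)
    ((PrinPart.pr1 f n).app U b • (show Γ((Scheme.Modules.pullback (PrinPart.pr2 f n)).obj
      (Coh.structureModule X), PrinPart.pr1 f n ⁻¹ᵁ U) from y)) = _
  rw [Scheme.Modules.Hom.app_smul]

/-- sections of `P^n` over `U` as functions on the infinitesimal neighbourhood -/
noncomputable def thetaU (n : ℕ) (U : X.Opens) :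
    Γ(PrinPart.P f n, U) →+ Γ(PrinPart.nbhd f n, PrinPart.pr1 f n ⁻¹ᵁ U) :=
  (OmegaSh.fnSect (PrinPart.nbhd f n) (PrinPart.pr1 f n ⁻¹ᵁ U)).comp
    ((pullbackUnitHom (PrinPart.pr2 f n)).app (PrinPart.pr1 f n ⁻¹ᵁ U)).hom

theorem thetaU_dn (n : ℕ) (U : X.Opens) (c : Γ(X, U)) :
    thetaU f n U (PrinPart.dn f n U c) =
      (PrinPart.pr2 f n).appLE U (PrinPart.pr1 f n ⁻¹ᵁ U) (PrinPart.preimage_pr1 f n U).le c := by
  change OmegaSh.fnSect _ _ ((pullbackUnitHom (PrinPart.pr2 f n)).app (PrinPart.pr1 f n ⁻¹ᵁ U)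
    (PrinPart.dn f n U c)) = _
  rw [unit_dn]
  rfl

theorem thetaU_smul (n : ℕ) (U : X.Opens) (b : Γ(X, U)) (y : Γ(PrinPart.P f n, U)) :
    thetaU f n U (b • y) = (PrinPart.pr1 f n).app U b * thetaU f n U y := by
  change OmegaSh.fnSect _ _ ((pullbackUnitHom (PrinPart.pr2 f n)).app (PrinPart.pr1 f n ⁻¹ᵁ U)
    (b • y)) = _
  rw [unit_smul]
  rfl

theorem thetaU_injective (n : ℕ) (U : X.Opens) : Function.Injective (thetaU f n U) := by
  have hinj : Function.Injective ((pullbackUnitHom (PrinPart.pr2 f n)).app (PrinPart.pr1 f n ⁻¹ᵁ U)) :=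
    (ConcreteCategory.bijective_of_isIso
      ((pullbackUnitHom (PrinPart.pr2 f n)).app (PrinPart.pr1 f n ⁻¹ᵁ U))).1
  intro a b hab
  exact hinj hab

include hU hT hUT in
/-- **Generation**: over an affine open `U` lying over an affine open of the base, `Γ(U, P^n)` is spanned over
`Γ(U, O_X)` (left structure) by the image of `d^n`. -/
theorem span_dn_eq_top (n : ℕ) :
    Submodule.span Γ(X, U) (Set.range (PrinPart.dn f n U)) = ⊤ := by
  rw [eq_top_iff]
  rintro y -
  have hν := nbhdι_appLE_surjective f hU hT hUT n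
  have hpo := Groth.Agent.Lib.R2H3.ProdChart.isPushout_appLE (IsPullback.of_hasPullback f f)
    hT hU hU hUT hUT
  have e1 : (pullback.fst f f).appLE U (W0 f U) inf_le_left ≫
      (PrinPart.nbhdι f n).appLE (W0 f U) (PrinPart.pr1 f n ⁻¹ᵁ U) (pr1_preimage_eq f n U).le =
      (PrinPart.pr1 f n).app U := by
    rw [Scheme.Hom.appLE_comp_appLE]
    exact Scheme.Hom.appLE_eq_app (PrinPart.pr1 f n)
  have e2 : (pullback.snd f f).appLE U (W0 f U) inf_le_right ≫
      (PrinPart.nbhdι f n).appLE (W0 f U) (PrinPart.pr1 f n ⁻¹ᵁ U) (pr1_preimage_eq f n U).le =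
      (PrinPart.pr2 f n).appLE U (PrinPart.pr1 f n ⁻¹ᵁ U) (PrinPart.preimage_pr1 f n U).le := by
    rw [Scheme.Hom.appLE_comp_appLE]
    rfl
  have key : ∀ r : Γ(pullback f f, W0 f U),
      ∃ y' ∈ Submodule.span Γ(X, U) (Set.range (PrinPart.dn f n U)),
      thetaU f n U y' = (PrinPart.nbhdι f n).appLE (W0 f U) (PrinPart.pr1 f n ⁻¹ᵁ U)
            (pr1_preimage_eq f n U).le r := by
    intro r
    have hr := pushout_closure hpo r
    induction hr using AddSubmonoid.closure_induction with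
    | mem x hx =>
      obtain ⟨b, c, rfl⟩ := hx
      refine ⟨b • PrinPart.dn f n U c,
        Submodule.smul_mem _ _ (Submodule.subset_span ⟨c, rfl⟩), ?_⟩
      rw [thetaU_smul, thetaU_dn, map_mul]
      have e1' := congr($e1 b)
      have e2' := congr($e2 c)
      rw [CommRingCat.comp_apply] at e1' e2'
      rw [← e1', ← e2']
    | zero => exact ⟨0, zero_mem _, by rw [map_zero, map_zero]⟩
    | add x y _ _ hx hy =>
      obtain ⟨x', hx', ex⟩ := hx
      obtain ⟨y', hy', ey⟩ := hy
      exact ⟨x' + y', add_mem hx' hy', by rw [map_add, ex, ey, map_add]⟩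
  obtain ⟨r, hr⟩ := hν (thetaU f n U y)
  obtain ⟨y', hy', e⟩ := key r
  have : y' = y := by
    apply thetaU_injective f n U
    rw [e]
    exact hr
  rw [← this]
  exact hy'

/-- a map into `P^n` whose image contains, locally on a basis of good affines, every `d^n c`, is an epimorphism -/
theorem epi_of_dn_mem_range (n : ℕ) {M : X.Modules} (φ : M ⟶ PrinPart.P f n)
    (h : ∀ (V : X.Opens) (x : X), x ∈ V → ∃ (U : X.Opens) (T : S.Opens), IsAffineOpen U ∧
      IsAffineOpen T ∧ U ≤ f ⁻¹ᵁ T ∧ x ∈ U ∧ U ≤ V ∧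
      ∀ c : Γ(X, U), ∃ s : Γ(M, U), φ.app U s = PrinPart.dn f n U c) : Epi φ := by
  apply epi_of_locally_surjective
  intro V t x hx
  obtain ⟨U, T, hU, hT, hUT, hxU, hUV, hc⟩ := h V x hx
  refine ⟨U, hUV, hxU, ?_⟩
  have hmem : ∀ t' : Γ(PrinPart.P f n, U), t' ∈
      Submodule.span Γ(X, U) (Set.range (PrinPart.dn f n U)) := by
    intro t'
    rw [span_dn_eq_top f hU hT hUT n]; trivial
  generalize (PrinPart.P f n).presheaf.map (homOfLE hUV).op t = t'
  have hmem' := hmem t'
  induction hmem' using Submodule.span_induction with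
  | mem y hy =>
    obtain ⟨c, rfl⟩ := hy
    exact hc c
  | zero => exact ⟨0, map_zero _⟩
  | add y z _ _ hy hz =>
    obtain ⟨s1, h1⟩ := hy
    obtain ⟨s2, h2⟩ := hz
    exact ⟨s1 + s2, by rw [map_add, h1, h2]⟩
  | smul b y _ hy =>
    obtain ⟨s1, h1⟩ := hy
    exact ⟨b • s1, by rw [Scheme.Modules.Hom.app_smul, h1]⟩

end gen

end Groth.Agent.Lib.R2H3.PnChart
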