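/-
helper1 (round 2): the Segre embedding P^n_S x_S P^m_S -> P^(nm+n+m)_S is a closed immersion (S1616).
Construction over Z: chart ring maps z_kl -> p^*(x_k/x_i) q^*(y_l/y_j) on p^-1 D+(x_i) ⊓ q^-1 D+(y_j) (for ANY pair of maps p, q to projective spaces),
glued with helper13 toAff_eq_toAff / glue_opens; closed immersion via HasAffineProperty and helper3 isPushout_appLE; base change via cat_lemma
(pullbacks over a terminal object).
-/
import Mathlib
import Groth.Prelude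
import Groth.Agent.Lib.Helper13ProjUPa
import Groth.Agent.Lib.Helper27PnChart
import Groth.Agent.Lib.R2H3PnChart

set_option autoImplicit false
set_option linter.style.haveILetI false
set_option linter.unusedSectionVars false
universe u v

namespace Groth.Agent.Lib.R2H1.Segre

section Part1

open CategoryTheory CategoryTheory.Limits


/-- base change of a morphism `σ : A ×_Z B ⟶ D` over a terminal object `Z` along `S ⟶ Z`:
`(A×S) ×_S (B×S) ⟶ D×S` is a pullback of `σ`. -/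
theorem cat_lemma {C : Type u} [Category.{v} C] [HasPullbacks C] {Z : C} (hZ : IsTerminal Z)
    {A B D S : C} (a : A ⟶ Z) (b : B ⟶ Z) (c : D ⟶ Z) (s : S ⟶ Z) (σ : pullback a b ⟶ D) :
    ∃ (φ : pullback (pullback.snd a s) (pullback.snd b s) ⟶ pullback c s)
      (π : pullback (pullback.snd a s) (pullback.snd b s) ⟶ pullback a b),
      φ ≫ pullback.snd c s =
        pullback.fst (pullback.snd a s) (pullback.snd b s) ≫ pullback.snd a s ∧
      IsPullback π φ σ (pullback.fst c s) := by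
  let X := pullback (pullback.snd a s) (pullback.snd b s)
  let f1 : X ⟶ pullback a s := pullback.fst _ _
  let f2 : X ⟶ pullback b s := pullback.snd _ _
  let π : X ⟶ pullback a b :=
    pullback.lift (f1 ≫ pullback.fst a s) (f2 ≫ pullback.fst b s) (hZ.hom_ext _ _)
  let φ : X ⟶ pullback c s := pullback.lift (π ≫ σ) (f1 ≫ pullback.snd a s) (hZ.hom_ext _ _)
  have hπ1 : π ≫ pullback.fst a b = f1 ≫ pullback.fst a s := pullback.lift_fst _ _ _
  have hπ2 : π ≫ pullback.snd a b = f2 ≫ pullback.fst b s := pullback.lift_snd _ _ _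
  have hφ1 : φ ≫ pullback.fst c s = π ≫ σ := pullback.lift_fst _ _ _
  have hφ2 : φ ≫ pullback.snd c s = f1 ≫ pullback.snd a s := pullback.lift_snd _ _ _
  have hcond : f1 ≫ pullback.snd a s = f2 ≫ pullback.snd b s := pullback.condition
  have key : ∀ (T : C) (x : T ⟶ pullback a b) (y : T ⟶ pullback c s)
      (_ : x ≫ σ = y ≫ pullback.fst c s), ∃ l : T ⟶ X, l ≫ π = x ∧ l ≫ φ = y := by
    intro T x y hxy
    let tS : T ⟶ S := y ≫ pullback.snd c s
    let l1 : T ⟶ pullback a s := pullback.lift (x ≫ pullback.fst a b) tS (hZ.hom_ext _ _)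
    let l2 : T ⟶ pullback b s := pullback.lift (x ≫ pullback.snd a b) tS (hZ.hom_ext _ _)
    have h11 : l1 ≫ pullback.fst a s = x ≫ pullback.fst a b := pullback.lift_fst _ _ _
    have h12 : l1 ≫ pullback.snd a s = tS := pullback.lift_snd _ _ _
    have h21 : l2 ≫ pullback.fst b s = x ≫ pullback.snd a b := pullback.lift_fst _ _ _
    have h22 : l2 ≫ pullback.snd b s = tS := pullback.lift_snd _ _ _
    let l : T ⟶ X := pullback.lift l1 l2 (h12.trans h22.symm)
    have hl1 : l ≫ f1 = l1 := pullback.lift_fst _ _ _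
    have hl2 : l ≫ f2 = l2 := pullback.lift_snd _ _ _
    have hlπ : l ≫ π = x := by
      apply pullback.hom_ext
      · rw [Category.assoc, hπ1, ← Category.assoc, hl1, h11]
      · rw [Category.assoc, hπ2, ← Category.assoc, hl2, h21]
    refine ⟨l, hlπ, ?_⟩
    apply pullback.hom_ext
    · rw [Category.assoc, hφ1, ← Category.assoc, hlπ, hxy]
    · rw [Category.assoc, hφ2, ← Category.assoc, hl1, h12]
  have uniq : ∀ (T : C) (l l' : T ⟶ X), l ≫ π = l' ≫ π → l ≫ φ = l' ≫ φ → l = l' := by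
    intro T l l' h1 h2
    have e1 : l ≫ f1 = l' ≫ f1 := by
      apply pullback.hom_ext
      · simpa only [Category.assoc, hπ1] using congrArg (fun k => k ≫ pullback.fst a b) h1
      · simpa only [Category.assoc, hφ2] using congrArg (fun k => k ≫ pullback.snd c s) h2
    have e2 : l ≫ f2 = l' ≫ f2 := by
      apply pullback.hom_ext
      · simpa only [Category.assoc, hπ2] using congrArg (fun k => k ≫ pullback.snd a b) h1
      · simpa only [Category.assoc, hφ2, hcond] using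
          congrArg (fun k => k ≫ pullback.snd c s) h2
    exact pullback.hom_ext e1 e2
  refine ⟨φ, π, hφ2, IsPullback.mk ⟨hφ1.symm⟩ ⟨PullbackCone.IsLimit.mk _
    (fun t => (key t.pt t.fst t.snd t.condition).choose)
    (fun t => (key t.pt t.fst t.snd t.condition).choose_spec.1)
    (fun t => (key t.pt t.fst t.snd t.condition).choose_spec.2)
    (fun t l h1 h2 => uniq _ _ _
      (h1.trans (key t.pt t.fst t.snd t.condition).choose_spec.1.symm)
      (h2.trans (key t.pt t.fst t.snd t.condition).choose_spec.2.symm))⟩⟩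

end Part1

section Part2

open CategoryTheory CategoryTheory.Limits AlgebraicGeometry TopologicalSpace Opposite
  HomogeneousLocalization MvPolynomial


open Groth.Agent.Helper13Dehom Groth.Agent.Helper13AffMor Groth.Agent.Helper13ProjUP

/-- the base ring `ℤ` lifted to universe `u` -/
abbrev ZZ : Type u := ULift.{u} ℤ

theorem ringHom_unique {B : Type u} [CommRing B] (f g : ZZ.{u} →+* B) : f = g := by
  have h : f.comp (ULift.ringEquiv.symm : ℤ ≃+* ULift.{u} ℤ).toRingHom =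
      g.comp (ULift.ringEquiv.symm : ℤ ≃+* ULift.{u} ℤ).toRingHom := Subsingleton.elim _ _
  refine RingHom.ext fun x => ?_
  change f ((ULift.ringEquiv.symm : ℤ ≃+* ULift.{u} ℤ) x.down) =
    g ((ULift.ringEquiv.symm : ℤ ≃+* ULift.{u} ℤ) x.down)
  exact RingHom.congr_fun h x.down

theorem hom_ext_X {σ : Type*} {B : Type u} [CommRing B] (F G : MvPolynomial σ ZZ.{u} →+* B)
    (h : ∀ v, F (X v) = G (X v)) : F = G :=
  MvPolynomial.ringHom_ext
    (fun r => RingHom.congr_fun (ringHom_unique (F.comp C) (G.comp C)) r) h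

/-- rescaling the generators by `u` rescales a homogeneous polynomial of degree `d` by `u ^ d` -/
theorem scale {σ : Type*} {B : Type u} [CommRing B] (F G : MvPolynomial σ ZZ.{u} →+* B) (u : B)
    (h : ∀ v, G (X v) = u * F (X v)) {d : ℕ} {a : MvPolynomial σ ZZ.{u}}
    (ha : a ∈ MvPolynomial.homogeneousSubmodule σ ZZ.{u} d) : G a = u ^ d * F a := by
  have hC : ∀ c, G (C c) = F (C c) := fun c =>
    RingHom.congr_fun (ringHom_unique (G.comp C) (F.comp C)) c
  have hmon : ∀ s ∈ a.support, G (monomial s (coeff s a)) = u ^ d * F (monomial s (coeff s a)) := by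
    intro s hs
    have hdeg : Finsupp.weight (1 : σ → ℕ) s = d := ha (MvPolynomial.mem_support_iff.1 hs)
    have hsum : ∑ v ∈ s.support, s v = d := by
      rw [← hdeg, Finsupp.weight_apply, Finsupp.sum]
      simp
    rw [MvPolynomial.monomial_eq, map_mul, map_mul, hC, Finsupp.prod, map_prod, map_prod]
    have hv : ∀ v ∈ s.support, G (X v ^ s v) = u ^ s v * F (X v ^ s v) := by
      intro v _
      rw [map_pow, map_pow, h, mul_pow]
    rw [Finset.prod_congr rfl hv, Finset.prod_mul_distrib, Finset.prod_pow_eq_pow_sum, hsum]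
    ring
  have e := MvPolynomial.support_sum_monomial_coeff a
  calc G a = G (∑ v ∈ a.support, monomial v (coeff v a)) := by rw [e]
    _ = ∑ v ∈ a.support, u ^ d * F (monomial v (coeff v a)) := by
      rw [map_sum]; exact Finset.sum_congr rfl hmon
    _ = u ^ d * F (∑ v ∈ a.support, monomial v (coeff v a)) := by
      rw [map_sum, Finset.mul_sum]
    _ = u ^ d * F a := by rw [e]

section General

variable {R A : Type u} [CommRing R] [CommRing A] [Algebra R A]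
  {𝒜 : ℕ → Submodule R A} [GradedAlgebra 𝒜] {Y : Scheme.{u}}

theorem appLE_dehom_overlap (p : Y ⟶ Proj 𝒜)
    {f g : A} (hf : f ∈ 𝒜 1) (hg : g ∈ 𝒜 1) {d : ℕ} {a : A} (ha : a ∈ 𝒜 d) (W : Y.Opens)
    (hWf : W ≤ p ⁻¹ᵁ Proj.basicOpen 𝒜 f) (hWg : W ≤ p ⁻¹ᵁ Proj.basicOpen 𝒜 g) :
    (p.appLE _ W hWg).hom (dehom hg a) =
      (p.appLE _ W hWg).hom (dehom hg f) ^ d * (p.appLE _ W hWf).hom (dehom hf a) := by
  have hWD : W ≤ p ⁻¹ᵁ (Proj.basicOpen 𝒜 f ⊓ Proj.basicOpen 𝒜 g) :=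
    fun x hx => ⟨hWf hx, hWg hx⟩
  have key := congrArg (p.appLE _ W hWD).hom
    (dehom_overlap hf hg ha (W := Proj.basicOpen 𝒜 f ⊓ Proj.basicOpen 𝒜 g)
      inf_le_left inf_le_right)
  rw [map_mul, map_pow] at key
  have h1 : ∀ (U : (Proj 𝒜).Opens) (hU : Proj.basicOpen 𝒜 f ⊓ Proj.basicOpen 𝒜 g ≤ U)
      (hWU : W ≤ p ⁻¹ᵁ U) (s : Γ(Proj 𝒜, U)),
      (p.appLE _ W hWD).hom (resO hU s) = (p.appLE U W hWU).hom s := by
    intro U hU hWU s
    have := Scheme.Hom.map_appLE p hWD (homOfLE hU).op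
    exact congrArg (fun φ => φ.hom s) this
  rw [h1 _ inf_le_right hWg, h1 _ inf_le_right hWg, h1 _ inf_le_left hWf] at key
  exact key

end General

theorem hX (n : ℕ) (i : Fin (n + 1)) :
    (X i : MvPolynomial (Fin (n + 1)) ZZ.{u}) ∈ CohB1.polyGrading n ZZ.{u} 1 :=
  MvPolynomial.isHomogeneous_X _ i

/-- the standard open `D₊(x_i)` -/
noncomputable abbrev Dx (n : ℕ) (i : Fin (n + 1)) : (Proj (CohB1.polyGrading n ZZ.{u})).Opens :=
  Proj.basicOpen (CohB1.polyGrading n ZZ.{u}) (X i)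

variable {Y : Scheme.{u}}

section Co

variable {n : ℕ} (p : Y ⟶ Proj (CohB1.polyGrading n ZZ.{u}))

/-- pulled-back affine coordinates `p^*(x_k / x_i)` on `W ⊆ p⁻¹ D₊(x_i)` -/
noncomputable def co (i : Fin (n + 1)) (W : Y.Opens) (hW : W ≤ p ⁻¹ᵁ Dx n i) (k : Fin (n + 1)) :
    Γ(Y, W) :=
  (p.appLE (Dx n i) W hW).hom (dehom (hX n i) (X k))

theorem co_self (i : Fin (n + 1)) (W : Y.Opens) (hW : W ≤ p ⁻¹ᵁ Dx n i) : co p i W hW i = 1 := by
  unfold co
  rw [dehom_self, map_one]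

theorem co_res (i : Fin (n + 1)) {W W' : Y.Opens} (h : W' ≤ W) (hW : W ≤ p ⁻¹ᵁ Dx n i)
    (k : Fin (n + 1)) :
    (Y.presheaf.map (homOfLE h).op).hom (co p i W hW k) = co p i W' (h.trans hW) k := by
  unfold co
  have := Scheme.Hom.appLE_map p hW (homOfLE h).op
  exact congrArg (fun φ => φ.hom (dehom (hX n i) (X k))) this

theorem co_overlap (i i' : Fin (n + 1)) (W : Y.Opens) (hW : W ≤ p ⁻¹ᵁ Dx n i)
    (hW' : W ≤ p ⁻¹ᵁ Dx n i') (k : Fin (n + 1)) :
    co p i' W hW' k = co p i' W hW' i * co p i W hW k := by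
  have := appLE_dehom_overlap p (hX n i) (hX n i') (hX n k) W hW hW'
  rw [pow_one] at this
  exact this

theorem co_mul_co (i i' : Fin (n + 1)) (W : Y.Opens) (hW : W ≤ p ⁻¹ᵁ Dx n i)
    (hW' : W ≤ p ⁻¹ᵁ Dx n i') : co p i W hW i' * co p i' W hW' i = 1 := by
  have h := co_overlap p i' i W hW' hW i
  rw [co_self] at h
  exact h.symm

theorem basicOpen_co (i i' : Fin (n + 1)) (W : Y.Opens) (hW' : W ≤ p ⁻¹ᵁ Dx n i') :
    Y.basicOpen (co p i' W hW' i) = W ⊓ p ⁻¹ᵁ (Dx n i ⊓ Dx n i') := by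
  have h1 : Y.basicOpen (co p i' W hW' i) =
      W ⊓ p ⁻¹ᵁ ((Proj (CohB1.polyGrading n ZZ.{u})).basicOpen (dehom (hX n i') (X i))) :=
    basicOpen_appLE p hW' (dehom (hX n i') (X i))
  rw [basicOpen_dehom (hX n i) (hX n i')] at h1
  exact h1

end Co

/-- index bijection for the Segre coordinates -/
def idx (n m : ℕ) : Fin (n + 1) × Fin (m + 1) ≃ Fin (n * m + n + m + 1) :=
  finProdFinEquiv.trans (finCongr (by ring))

/-- the unique ring map from `ZZ` -/
noncomputable def cst (B : Type u) [CommRing B] : ZZ.{u} →+* B :=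
  (Int.castRingHom B).comp (ULift.ringEquiv : ULift.{u} ℤ ≃+* ℤ).toRingHom

variable {n m : ℕ} (p : Y ⟶ Proj (CohB1.polyGrading n ZZ.{u}))
  (q : Y ⟶ Proj (CohB1.polyGrading m ZZ.{u}))

/-- the Segre ring map `z_{kl} ↦ p^*(x_k/x_i) q^*(y_l/y_j)` -/
noncomputable def Psi (ij : Fin (n + 1) × Fin (m + 1)) (W : Y.Opens)
    (hp : W ≤ p ⁻¹ᵁ Dx n ij.1) (hq : W ≤ q ⁻¹ᵁ Dx m ij.2) :
    MvPolynomial (Fin (n * m + n + m + 1)) ZZ.{u} →+* Γ(Y, W) :=
  MvPolynomial.eval₂Hom (cst Γ(Y, W))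
    (fun v => co p ij.1 W hp ((idx n m).symm v).1 * co q ij.2 W hq ((idx n m).symm v).2)

theorem Psi_X (ij : Fin (n + 1) × Fin (m + 1)) (W : Y.Opens)
    (hp : W ≤ p ⁻¹ᵁ Dx n ij.1) (hq : W ≤ q ⁻¹ᵁ Dx m ij.2) (v : Fin (n * m + n + m + 1)) :
    Psi p q ij W hp hq (X v) =
      co p ij.1 W hp ((idx n m).symm v).1 * co q ij.2 W hq ((idx n m).symm v).2 := by
  unfold Psi
  rw [MvPolynomial.eval₂Hom_X']

theorem Psi_self (ij : Fin (n + 1) × Fin (m + 1)) (W : Y.Opens)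
    (hp : W ≤ p ⁻¹ᵁ Dx n ij.1) (hq : W ≤ q ⁻¹ᵁ Dx m ij.2) :
    Psi p q ij W hp hq (X (idx n m ij)) = 1 := by
  rw [Psi_X, Equiv.symm_apply_apply, co_self, co_self, mul_one]

theorem Psi_res (ij : Fin (n + 1) × Fin (m + 1)) {W W' : Y.Opens} (h : W' ≤ W)
    (hp : W ≤ p ⁻¹ᵁ Dx n ij.1) (hq : W ≤ q ⁻¹ᵁ Dx m ij.2) :
    (Y.presheaf.map (homOfLE h).op).hom.comp (Psi p q ij W hp hq) =
      Psi p q ij W' (h.trans hp) (h.trans hq) := by
  apply hom_ext_X
  intro v
  rw [RingHom.comp_apply, Psi_X, Psi_X, map_mul, co_res, co_res]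

theorem exists_phi (ij : Fin (n + 1) × Fin (m + 1)) (W : Y.Opens)
    (hp : W ≤ p ⁻¹ᵁ Dx n ij.1) (hq : W ≤ q ⁻¹ᵁ Dx m ij.2) :
    ∃ φ : Γ(Proj (CohB1.polyGrading (n * m + n + m) ZZ.{u}),
        Dx (n * m + n + m) (idx n m ij)) →+* Γ(Y, W),
      ∀ a, φ (dehom (hX (n * m + n + m) (idx n m ij)) a) = Psi p q ij W hp hq a :=
  exists_dehomLift (hX _ _) (Psi p q ij W hp hq) (Psi_self p q ij W hp hq)

/-- the ring map of the Segre chart -/
noncomputable def phi (ij : Fin (n + 1) × Fin (m + 1)) (W : Y.Opens)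
    (hp : W ≤ p ⁻¹ᵁ Dx n ij.1) (hq : W ≤ q ⁻¹ᵁ Dx m ij.2) :
    Γ(Proj (CohB1.polyGrading (n * m + n + m) ZZ.{u}),
        Dx (n * m + n + m) (idx n m ij)) →+* Γ(Y, W) :=
  Classical.choose (exists_phi p q ij W hp hq)

theorem phi_dehom (ij : Fin (n + 1) × Fin (m + 1)) (W : Y.Opens)
    (hp : W ≤ p ⁻¹ᵁ Dx n ij.1) (hq : W ≤ q ⁻¹ᵁ Dx m ij.2)
    (a : MvPolynomial (Fin (n * m + n + m + 1)) ZZ.{u}) :
    phi p q ij W hp hq (dehom (hX (n * m + n + m) (idx n m ij)) a) = Psi p q ij W hp hq a :=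
  Classical.choose_spec (exists_phi p q ij W hp hq) a

/-- the open `p⁻¹ D₊(x_i) ∩ q⁻¹ D₊(y_j)` -/
noncomputable def V (ij : Fin (n + 1) × Fin (m + 1)) : Y.Opens := p ⁻¹ᵁ Dx n ij.1 ⊓ q ⁻¹ᵁ Dx m ij.2

theorem V_le_p (ij : Fin (n + 1) × Fin (m + 1)) : V p q ij ≤ p ⁻¹ᵁ Dx n ij.1 := inf_le_left

theorem V_le_q (ij : Fin (n + 1) × Fin (m + 1)) : V p q ij ≤ q ⁻¹ᵁ Dx m ij.2 := inf_le_right

/-- the Segre chart morphism -/
noncomputable def gch (ij : Fin (n + 1) × Fin (m + 1)) :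
    (V p q ij : Scheme.{u}) ⟶ Proj (CohB1.polyGrading (n * m + n + m) ZZ.{u}) :=
  toAff (Groth.Agent.Helper13ProjUP.isAffineOpen_basicOpen (hX (n * m + n + m) (idx n m ij)))
    (CommRingCat.ofHom (phi p q ij (V p q ij) (V_le_p p q ij) (V_le_q p q ij)))

theorem phi_res_dehom (ij : Fin (n + 1) × Fin (m + 1)) {W' : Y.Opens} (h : W' ≤ V p q ij)
    (z : MvPolynomial (Fin (n * m + n + m + 1)) ZZ.{u}) :
    (CommRingCat.ofHom (phi p q ij (V p q ij) (V_le_p p q ij) (V_le_q p q ij)) ≫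
        Y.presheaf.map (homOfLE h).op).hom (dehom (hX (n * m + n + m) (idx n m ij)) z) =
      Psi p q ij W' (h.trans (V_le_p p q ij)) (h.trans (V_le_q p q ij)) z := by
  change (Y.presheaf.map (homOfLE h).op).hom
    (phi p q ij (V p q ij) (V_le_p p q ij) (V_le_q p q ij)
      (dehom (hX (n * m + n + m) (idx n m ij)) z)) = _
  rw [phi_dehom]
  exact RingHom.congr_fun (Psi_res p q ij h _ _) z

theorem gch_compat (a b : Fin (n + 1) × Fin (m + 1)) :
    Y.homOfLE (inf_le_left : V p q a ⊓ V p q b ≤ V p q a) ≫ gch p q a =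
      Y.homOfLE (inf_le_right : V p q a ⊓ V p q b ≤ V p q b) ≫ gch p q b := by
  unfold gch
  rw [toAff_homOfLE, toAff_homOfLE]
  have hpa : V p q a ⊓ V p q b ≤ p ⁻¹ᵁ Dx n a.1 := inf_le_left.trans (V_le_p p q a)
  have hqa : V p q a ⊓ V p q b ≤ q ⁻¹ᵁ Dx m a.2 := inf_le_left.trans (V_le_q p q a)
  have hpb : V p q a ⊓ V p q b ≤ p ⁻¹ᵁ Dx n b.1 := inf_le_right.trans (V_le_p p q b)
  have hqb : V p q a ⊓ V p q b ≤ q ⁻¹ᵁ Dx m b.2 := inf_le_right.trans (V_le_q p q b)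
  refine toAff_eq_toAff (hX _ (idx n m a)) (hX _ (idx n m b)) _ _
    (Psi p q a _ hpa hqa (X (idx n m b))) (Psi p q b _ hpb hqb (X (idx n m a))) ?_ ?_ ?_
  · rw [Psi_X, Psi_X, Equiv.symm_apply_apply, Equiv.symm_apply_apply]
    have h1 := co_mul_co p a.1 b.1 _ hpa hpb
    have h2 := co_mul_co q a.2 b.2 _ hqa hqb
    calc co p a.1 _ hpa b.1 * co q a.2 _ hqa b.2 * (co p b.1 _ hpb a.1 * co q b.2 _ hqb a.2)
        = (co p a.1 _ hpa b.1 * co p b.1 _ hpb a.1) *
          (co q a.2 _ hqa b.2 * co q b.2 _ hqb a.2) := by ring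
      _ = 1 := by rw [h1, h2, mul_one]
  · exact phi_res_dehom p q a _ _
  · intro d z hz
    have e1 := phi_res_dehom p q b (inf_le_right : V p q a ⊓ V p q b ≤ V p q b) z
    have e2 := phi_res_dehom p q a (inf_le_left : V p q a ⊓ V p q b ≤ V p q a) z
    have e3 : Psi p q b _ hpb hqb z =
        (Psi p q b _ hpb hqb (X (idx n m a))) ^ d * Psi p q a _ hpa hqa z := by
      refine scale _ _ _ (fun v => ?_) hz
      rw [Psi_X, Psi_X, Psi_X, Equiv.symm_apply_apply,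
        co_overlap p a.1 b.1 _ hpa hpb ((idx n m).symm v).1,
        co_overlap q a.2 b.2 _ hqa hqb ((idx n m).symm v).2]
      ring
    exact e1.trans (e3.trans
      (congrArg (fun t => (Psi p q b _ hpb hqb (X (idx n m a))) ^ d * t) e2.symm))

theorem exists_V (y : Y) : ∃ ij, y ∈ V p q ij := by
  have h1 : p.base y ∈ (⨆ i : Fin (n + 1), Dx n i) := by
    rw [show (⨆ i : Fin (n + 1), Dx n i) = ⊤ from
      Groth.Agent.Lib.Helper27PnChart.iSup_basicOpen_X n ZZ.{u}]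
    trivial
  have h2 : q.base y ∈ (⨆ j : Fin (m + 1), Dx m j) := by
    rw [show (⨆ j : Fin (m + 1), Dx m j) = ⊤ from
      Groth.Agent.Lib.Helper27PnChart.iSup_basicOpen_X m ZZ.{u}]
    trivial
  obtain ⟨i, hi⟩ := Opens.mem_iSup.1 h1
  obtain ⟨j, hj⟩ := Opens.mem_iSup.1 h2
  refine ⟨(i, j), ?_⟩
  show y ∈ p ⁻¹ᵁ Dx n i ⊓ q ⁻¹ᵁ Dx m j
  exact Opens.mem_inf.2 ⟨hi, hj⟩

theorem exists_sigma : ∃ σ : Y ⟶ Proj (CohB1.polyGrading (n * m + n + m) ZZ.{u}),
    ∀ ij, (V p q ij).ι ≫ σ = gch p q ij :=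
  glue_opens (V p q) (exists_V p q) (gch p q) (gch_compat p q)

section Sigma

variable (σ : Y ⟶ Proj (CohB1.polyGrading (n * m + n + m) ZZ.{u}))
  (hσ : ∀ ij, (V p q ij).ι ≫ σ = gch p q ij)

include hσ in
theorem V_le_preimage (ij : Fin (n + 1) × Fin (m + 1)) :
    V p q ij ≤ σ ⁻¹ᵁ Dx (n * m + n + m) (idx n m ij) :=
  le_preimage_of_ι_comp_eq _ σ _ (hσ ij)

include hσ in
theorem appLE_sigma (ij : Fin (n + 1) × Fin (m + 1)) :
    σ.appLE (Dx (n * m + n + m) (idx n m ij)) (V p q ij) (V_le_preimage p q σ hσ ij) =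
      CommRingCat.ofHom (phi p q ij (V p q ij) (V_le_p p q ij) (V_le_q p q ij)) :=
  appLE_of_ι_comp_eq _ σ _ (hσ ij)

include hσ in
theorem preimage_le_V (ij : Fin (n + 1) × Fin (m + 1)) :
    σ ⁻¹ᵁ Dx (n * m + n + m) (idx n m ij) ≤ V p q ij := by
  intro y hy
  obtain ⟨b, hb⟩ := exists_V p q y
  have hle := V_le_preimage p q σ hσ b
  have e2 : (σ.appLE (Dx (n * m + n + m) (idx n m b)) (V p q b) hle).hom
      (dehom (hX (n * m + n + m) (idx n m b)) (X (idx n m ij))) =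
      co p b.1 (V p q b) (V_le_p p q b) ij.1 * co q b.2 (V p q b) (V_le_q p q b) ij.2 := by
    rw [appLE_sigma p q σ hσ b]
    change phi p q b (V p q b) (V_le_p p q b) (V_le_q p q b)
      (dehom (hX (n * m + n + m) (idx n m b)) (X (idx n m ij))) = _
    rw [phi_dehom, Psi_X, Equiv.symm_apply_apply]
  have e1 : Y.basicOpen ((σ.appLE (Dx (n * m + n + m) (idx n m b)) (V p q b) hle).hom
      (dehom (hX (n * m + n + m) (idx n m b)) (X (idx n m ij)))) =
      V p q b ⊓ σ ⁻¹ᵁ ((Proj (CohB1.polyGrading (n * m + n + m) ZZ.{u})).basicOpen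
        (dehom (hX (n * m + n + m) (idx n m b)) (X (idx n m ij)))) :=
    basicOpen_appLE σ hle _
  rw [e2, basicOpen_dehom (hX _ (idx n m ij)) (hX _ (idx n m b)), Scheme.basicOpen_mul,
    basicOpen_co, basicOpen_co] at e1
  have hy0 : σ.base y ∈ Dx (n * m + n + m) (idx n m ij) ⊓ Dx (n * m + n + m) (idx n m b) :=
    Opens.mem_inf.2 ⟨hy, hle hb⟩
  have hy1 : y ∈ V p q b ⊓
      σ ⁻¹ᵁ (Dx (n * m + n + m) (idx n m ij) ⊓ Dx (n * m + n + m) (idx n m b)) :=
    Opens.mem_inf.2 ⟨hb, hy0⟩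
  rw [← e1] at hy1
  obtain ⟨h3, h4⟩ := Opens.mem_inf.1 hy1
  have h5 : p.base y ∈ Dx n ij.1 ⊓ Dx n b.1 := (Opens.mem_inf.1 h3).2
  have h6 : q.base y ∈ Dx m ij.2 ⊓ Dx m b.2 := (Opens.mem_inf.1 h4).2
  show y ∈ p ⁻¹ᵁ Dx n ij.1 ⊓ q ⁻¹ᵁ Dx m ij.2
  exact Opens.mem_inf.2 ⟨(Opens.mem_inf.1 h5).1, (Opens.mem_inf.1 h6).1⟩

end Sigma

end Part2

section Part3

open CategoryTheory CategoryTheory.Limits AlgebraicGeometry TopologicalSpace Opposite
  HomogeneousLocalization MvPolynomial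


open Groth.Agent.Helper13Dehom Groth.Agent.Helper13AffMor Groth.Agent.Helper13ProjUP

theorem appLE_surj_congr {T Z : Scheme.{u}} (f : T ⟶ Z) {U U' : Z.Opens} {W W' : T.Opens}
    (hU : U = U') (hW : W = W') (h : W ≤ f ⁻¹ᵁ U) (h' : W' ≤ f ⁻¹ᵁ U')
    (hs : Function.Surjective (f.appLE U W h).hom) :
    Function.Surjective (f.appLE U' W' h').hom := by
  subst hU hW
  exact hs

variable {Y : Scheme.{u}} {n m : ℕ} (p : Y ⟶ Proj (CohB1.polyGrading n ZZ.{u}))
  (q : Y ⟶ Proj (CohB1.polyGrading m ZZ.{u}))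

theorem pull_p (ij : Fin (n + 1) × Fin (m + 1)) (W : Y.Opens)
    (hp : W ≤ p ⁻¹ᵁ Dx n ij.1) (hq : W ≤ q ⁻¹ᵁ Dx m ij.2)
    (z : MvPolynomial (Fin (n + 1)) ZZ.{u}) :
    (p.appLE (Dx n ij.1) W hp).hom (dehom (hX n ij.1) z) =
      Psi p q ij W hp hq (MvPolynomial.rename (fun k => idx n m (k, ij.2)) z) := by
  have h : ((p.appLE (Dx n ij.1) W hp).hom.comp (dehom (hX n ij.1))) =
      (Psi p q ij W hp hq).comp
        (MvPolynomial.rename (R := ZZ.{u}) (fun k => idx n m (k, ij.2))).toRingHom := by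
    apply hom_ext_X
    intro k
    rw [RingHom.comp_apply, RingHom.comp_apply]
    change co p ij.1 W hp k =
      Psi p q ij W hp hq (MvPolynomial.rename (fun k => idx n m (k, ij.2)) (X k))
    rw [MvPolynomial.rename_X, Psi_X, Equiv.symm_apply_apply, co_self, mul_one]
  exact RingHom.congr_fun h z

theorem pull_q (ij : Fin (n + 1) × Fin (m + 1)) (W : Y.Opens)
    (hp : W ≤ p ⁻¹ᵁ Dx n ij.1) (hq : W ≤ q ⁻¹ᵁ Dx m ij.2)
    (z : MvPolynomial (Fin (m + 1)) ZZ.{u}) :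
    (q.appLE (Dx m ij.2) W hq).hom (dehom (hX m ij.2) z) =
      Psi p q ij W hp hq (MvPolynomial.rename (fun l => idx n m (ij.1, l)) z) := by
  have h : ((q.appLE (Dx m ij.2) W hq).hom.comp (dehom (hX m ij.2))) =
      (Psi p q ij W hp hq).comp
        (MvPolynomial.rename (R := ZZ.{u}) (fun l => idx n m (ij.1, l))).toRingHom := by
    apply hom_ext_X
    intro l
    rw [RingHom.comp_apply, RingHom.comp_apply]
    change co q ij.2 W hq l =
      Psi p q ij W hp hq (MvPolynomial.rename (fun l => idx n m (ij.1, l)) (X l))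
    rw [MvPolynomial.rename_X, Psi_X, Equiv.symm_apply_apply, co_self, one_mul]
  exact RingHom.congr_fun h z

section CI

variable {S : Scheme.{u}} [IsAffine S] {a : Proj (CohB1.polyGrading n ZZ.{u}) ⟶ S}
  {b : Proj (CohB1.polyGrading m ZZ.{u}) ⟶ S} (H : IsPullback p q a b)

include H in
theorem isAffineOpen_V (ij : Fin (n + 1) × Fin (m + 1)) : IsAffineOpen (V p q ij) :=
  Groth.Agent.Lib.R2H3.ProdChart.isAffineOpen_inf H (isAffineOpen_top S)
    (Groth.Agent.Helper13ProjUP.isAffineOpen_basicOpen (hX n ij.1))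
    (Groth.Agent.Helper13ProjUP.isAffineOpen_basicOpen (hX m ij.2))
    (fun x _ => show a.base x ∈ (⊤ : S.Opens) from Opens.mem_top _)
    (fun x _ => show b.base x ∈ (⊤ : S.Opens) from Opens.mem_top _)

include H in
theorem phi_surjective (ij : Fin (n + 1) × Fin (m + 1)) :
    Function.Surjective (phi p q ij (V p q ij) (V_le_p p q ij) (V_le_q p q ij)) := by
  intro r
  have hpo := Groth.Agent.Lib.R2H3.ProdChart.isPushout_appLE H (isAffineOpen_top S)
    (Groth.Agent.Helper13ProjUP.isAffineOpen_basicOpen (hX n ij.1))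
    (Groth.Agent.Helper13ProjUP.isAffineOpen_basicOpen (hX m ij.2))
    (fun x _ => show a.base x ∈ (⊤ : S.Opens) from Opens.mem_top _)
    (fun x _ => show b.base x ∈ (⊤ : S.Opens) from Opens.mem_top _)
  have hr := Groth.Agent.Lib.R2H3.PnChart.pushout_closure hpo r
  induction hr using AddSubmonoid.closure_induction with
  | mem x hx =>
    obtain ⟨y, z, rfl⟩ := hx
    obtain ⟨d, a', ha', rfl⟩ := exists_dehom_eq (hX n ij.1) y
    obtain ⟨e, b', hb', rfl⟩ := exists_dehom_eq (hX m ij.2) z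
    refine ⟨dehom (hX _ (idx n m ij)) (MvPolynomial.rename (fun k => idx n m (k, ij.2)) a') *
      dehom (hX _ (idx n m ij)) (MvPolynomial.rename (fun l => idx n m (ij.1, l)) b'), ?_⟩
    rw [map_mul, phi_dehom, phi_dehom, ← pull_p, ← pull_q]
    rfl
  | zero => exact ⟨0, map_zero _⟩
  | add x y _ _ hx hy =>
    obtain ⟨x', rfl⟩ := hx
    obtain ⟨y', rfl⟩ := hy
    exact ⟨x' + y', map_add _ _ _⟩

variable (σ : Y ⟶ Proj (CohB1.polyGrading (n * m + n + m) ZZ.{u}))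
  (hσ : ∀ ij, (V p q ij).ι ≫ σ = gch p q ij)

include H hσ in
theorem isClosedImmersion_sigma : IsClosedImmersion σ := by
  have hcov : (⨆ ij : Fin (n + 1) × Fin (m + 1), Dx (n * m + n + m) (idx n m ij)) = ⊤ := by
    rw [← Groth.Agent.Lib.Helper27PnChart.iSup_basicOpen_X (n * m + n + m) ZZ.{u}]
    exact (idx n m).iSup_comp (g := fun v => Dx (n * m + n + m) v)
  rw [HasAffineProperty.iff_of_iSup_eq_top (P := @IsClosedImmersion)
    (fun ij : Fin (n + 1) × Fin (m + 1) =>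
      (⟨Dx (n * m + n + m) (idx n m ij),
        Groth.Agent.Helper13ProjUP.isAffineOpen_basicOpen (hX _ (idx n m ij))⟩ :
        (Proj (CohB1.polyGrading (n * m + n + m) ZZ.{u})).affineOpens)) hcov]
  intro ij
  have hpre : σ ⁻¹ᵁ Dx (n * m + n + m) (idx n m ij) = V p q ij :=
    le_antisymm (preimage_le_V p q σ hσ ij) (V_le_preimage p q σ hσ ij)
  refine ⟨?_, ?_⟩
  · show IsAffine ((σ ⁻¹ᵁ Dx (n * m + n + m) (idx n m ij) : Y.Opens) : Scheme.{u})
    rw [hpre]
    exact isAffineOpen_V p q H ij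
  · have hW' : (σ ⁻¹ᵁ Dx (n * m + n + m) (idx n m ij)).ι ''ᵁ
        ((σ ∣_ Dx (n * m + n + m) (idx n m ij)) ⁻¹ᵁ ⊤) = V p q ij := by
      rw [show ((σ ∣_ Dx (n * m + n + m) (idx n m ij)) ⁻¹ᵁ
        (⊤ : ((Dx (n * m + n + m) (idx n m ij) : (Proj _).Opens) : Scheme.{u}).Opens)) = ⊤ from rfl,
        Scheme.Opens.ι_image_top, hpre]
    have key := appLE_surj_congr σ (Scheme.Opens.ι_image_top _).symm hW'.symm
      (V_le_preimage p q σ hσ ij)
      ((Set.image_mono le_rfl).trans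
        (image_morphismRestrict_preimage σ (Dx (n * m + n + m) (idx n m ij)) ⊤).le)
      (by rw [appLE_sigma p q σ hσ ij]; exact phi_surjective p q H ij)
    have e := morphismRestrict_app' σ (Dx (n * m + n + m) (idx n m ij)) ⊤
    show Function.Surjective ((σ ∣_ Dx (n * m + n + m) (idx n m ij)).app ⊤).hom
    rw [e]
    exact key

end CI

/-- **Segre embedding**. -/
theorem segre (S : Scheme.{u}) (n m : ℕ) :
    ∃ φ : pullback (CohB1.ProjSpaceOver.toBase n S) (CohB1.ProjSpaceOver.toBase m S) ⟶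
        CohB1.ProjSpaceOver (n * m + n + m) S,
      IsClosedImmersion φ ∧ φ ≫ CohB1.ProjSpaceOver.toBase (n * m + n + m) S =
        pullback.fst (CohB1.ProjSpaceOver.toBase n S) (CohB1.ProjSpaceOver.toBase m S) ≫
          CohB1.ProjSpaceOver.toBase n S := by
  obtain ⟨σ, hσ⟩ := exists_sigma
    (pullback.fst (CohB1.ProjSpace.toSpec n ZZ.{u}) (CohB1.ProjSpace.toSpec m ZZ.{u}))
    (pullback.snd (CohB1.ProjSpace.toSpec n ZZ.{u}) (CohB1.ProjSpace.toSpec m ZZ.{u}))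
  have hci : IsClosedImmersion σ :=
    isClosedImmersion_sigma _ _ (IsPullback.of_hasPullback _ _) σ hσ
  obtain ⟨φ, π, h1, hpb⟩ := cat_lemma specULiftZIsTerminal
    (CohB1.ProjSpace.toSpec n ZZ.{u}) (CohB1.ProjSpace.toSpec m ZZ.{u})
    (CohB1.ProjSpace.toSpec (n * m + n + m) ZZ.{u}) (specULiftZIsTerminal.from S) σ
  exact ⟨φ, MorphismProperty.of_isPullback (P := @IsClosedImmersion) hpb hci, h1⟩

end Part3

end Groth.Agent.Lib.R2H1.Segre
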