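import Mathlib
import Groth.Agent.Lib.R2H3ZMTFin

set_option autoImplicit false
set_option linter.unusedSectionVars false
universe u
open CategoryTheory CategoryTheory.Limits AlgebraicGeometry TopologicalSpace Opposite

namespace Groth.Agent.Lib.R2H3.ChowDense

open Groth.Agent.Lib.R2H3.ZMTFin

/-- `ι : U ⟶ Y` is schematically dominant: `O_Y ⟶ ι_* O_U` is injective. -/
def SchDense {U Y : Scheme.{u}} (ι : U ⟶ Y) : Prop :=
  ∀ V : Y.Opens, Function.Injective (ι.app V)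

theorem schDense_toImage {X Y : Scheme.{u}} (f : X ⟶ Y) [QuasiCompact f] :
    SchDense f.toImage := by
  intro V
  exact TopCat.Presheaf.app_injective_of_stalkFunctor_map_injective
    (F := f.image.sheaf) f.toImage.c V (fun x _ => f.stalkFunctor_toImage_injective x)

/-- if `σ ≫ o = ι` with `o` an open immersion and `ι` schematically dominant, so is `σ`. -/
theorem SchDense.of_comp {U O Y : Scheme.{u}} {ι : U ⟶ Y} (hι : SchDense ι) (σ : U ⟶ O)
    (o : O ⟶ Y) [IsOpenImmersion o] (h : σ ≫ o = ι) : SchDense σ := by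
  intro W
  have key : ∀ W' : O.Opens, W' = o ⁻¹ᵁ (o ''ᵁ W) → Function.Injective (σ.app W') := by
    rintro _ rfl
    obtain ⟨e, he⟩ := comp_app_eq σ o ι h (o ''ᵁ W)
    have h1 : Function.Injective (ι.app (o ''ᵁ W)).hom := hι (o ''ᵁ W)
    have he' : ∀ x, (ι.app (o ''ᵁ W)).hom x = (U.presheaf.map (eqToHom e).op).hom
        ((σ.app (o ⁻¹ᵁ (o ''ᵁ W))).hom ((o.app (o ''ᵁ W)).hom x)) := by
      intro x
      rw [← he]
      rfl
    have : IsIso (o.app (o ''ᵁ W)) := by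
      apply Scheme.Hom.isIso_app
      exact Scheme.Hom.image_le_opensRange o W
    have hsurj : Function.Surjective (o.app (o ''ᵁ W)).hom :=
      (ConcreteCategory.bijective_of_isIso (o.app (o ''ᵁ W))).2
    intro a b hab
    obtain ⟨a', rfl⟩ := hsurj a
    obtain ⟨b', rfl⟩ := hsurj b
    congr 1
    apply h1
    rw [he', he']
    exact congrArg _ hab
  exact key W (o.preimage_image_eq W).symm

/-- a closed immersion through which a schematically dominant morphism factors is an iso. -/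
theorem SchDense.isIso_of_isClosedImmersion {U E Y : Scheme.{u}} {ι : U ⟶ Y} (hι : SchDense ι)
    (e : E ⟶ Y) [IsClosedImmersion e] (k : U ⟶ E) (h : k ≫ e = ι) : IsIso e := by
  rw [IsClosedImmersion.isIso_iff_ker_eq_bot]
  apply le_antisymm _ bot_le
  intro V
  rw [Scheme.Hom.ker_apply]
  intro x hx
  rw [RingHom.mem_ker] at hx
  obtain ⟨e', he'⟩ := comp_app_eq k e ι h V.1
  have : (ι.app V.1).hom x = 0 := by
    rw [← he', CommRingCat.hom_comp, RingHom.comp_apply, hx, map_zero]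
  have h0 : x = 0 := hι V.1 (by rw [this, map_zero])
  rw [h0]
  exact Submodule.zero_mem _

/-- two morphisms into a separated scheme which agree on a schematically dominant `ι` are
equal. -/
theorem SchDense.ext {U Y T Z : Scheme.{u}} {ι : U ⟶ Y} (hι : SchDense ι) {f g : Y ⟶ T}
    (s : T ⟶ Z) [IsSeparated s] (h : f ≫ s = g ≫ s) (hU : ι ≫ f = ι ≫ g) : f = g := by
  let X' : Over Z := Over.mk (f ≫ s)
  let Y' : Over Z := Over.mk s
  let U' : Over Z := Over.mk (ι ≫ f ≫ s)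
  let f' : X' ⟶ Y' := Over.homMk f
  let g' : X' ⟶ Y' := Over.homMk g h.symm
  let ι' : U' ⟶ X' := Over.homMk ι
  have : IsSeparated Y'.hom := ‹_›
  have hlift : ι' ≫ f' = ι' ≫ g' := by ext1; exact hU
  have : IsIso (equalizer.ι f' g').left :=
    hι.isIso_of_isClosedImmersion _ (equalizer.lift ι' hlift).left
      (by rw [← Over.comp_left, equalizer.lift_ι]; rfl)
  rw [← cancel_epi (equalizer.ι f' g').left]
  exact congr($(equalizer.condition f' g').left)

/-- a morphism factors through a closed immersion as soon as it does so on a schematically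
dominant `ι`. -/
theorem SchDense.exists_lift {U Y W C : Scheme.{u}} {ι : U ⟶ Y} (hι : SchDense ι) (b : Y ⟶ W)
    (c : C ⟶ W) [IsClosedImmersion c] (k : U ⟶ C) (h : k ≫ c = ι ≫ b) :
    ∃ l : Y ⟶ C, l ≫ c = b ∧ ι ≫ l = k := by
  have : IsIso (pullback.fst b c) :=
    hι.isIso_of_isClosedImmersion _ (pullback.lift ι k h.symm) (pullback.lift_fst _ _ _)
  refine ⟨inv (pullback.fst b c) ≫ pullback.snd b c, ?_, ?_⟩
  · rw [Category.assoc, ← pullback.condition, IsIso.inv_hom_id_assoc]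
  · rw [← cancel_mono c, Category.assoc, Category.assoc, ← pullback.condition,
      IsIso.inv_hom_id_assoc, h]


section core

variable {S X Q X' : Scheme.{u}} (f : X ⟶ S) [IsSeparated f] (t : Q ⟶ S)
  (π : X' ⟶ X) (h : X' ⟶ Q) (hπh : π ≫ f = h ≫ t)
  (U : X.Opens) (ι' : U.toScheme ⟶ X') (hι' : SchDense ι') (hι'π : ι' ≫ π = U.ι)
  (g : U.toScheme ⟶ Q) (hι'h : ι' ≫ h = g)
  (Uk : X.Opens) (hUk : U ≤ Uk) {P : Scheme.{u}} (p : P ⟶ S) [IsSeparated p]
  (j : Uk.toScheme ⟶ P) [IsImmersion j] (hj : j ≫ p = Uk.ι ≫ f) (q : Q ⟶ P) (hq : q ≫ p = t)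
  (hg : g ≫ q = X.homOfLE hUk ≫ j)

include hπh hι' hι'π hι'h hj hq hg in
theorem step1 : π ⁻¹ᵁ Uk ≤ h ⁻¹ᵁ (q ⁻¹ᵁ j.coborderRange) := by
  have hr : Set.range ι' ⊆ ((π ⁻¹ᵁ Uk : X'.Opens) : Set X') := by
    rintro _ ⟨u, rfl⟩
    show π (ι' u) ∈ Uk
    rw [← Scheme.Hom.comp_apply, hι'π]
    exact hUk u.2
  let σ : U.toScheme ⟶ (π ⁻¹ᵁ Uk).toScheme :=
    IsOpenImmersion.lift (π ⁻¹ᵁ Uk).ι ι' (by simpa using hr)
  have hσ : σ ≫ (π ⁻¹ᵁ Uk).ι = ι' := IsOpenImmersion.lift_fac _ _ _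
  have hσd : SchDense σ := hι'.of_comp σ (π ⁻¹ᵁ Uk).ι hσ
  have hσπ : σ ≫ (π ∣_ Uk) = X.homOfLE hUk := by
    rw [← cancel_mono Uk.ι, Category.assoc, morphismRestrict_ι, ← Category.assoc, hσ, hι'π,
      Scheme.homOfLE_ι]
  have key : (π ∣_ Uk) ≫ j = (π ⁻¹ᵁ Uk).ι ≫ h ≫ q := by
    apply hσd.ext p
    · rw [Category.assoc, hj, ← Category.assoc, morphismRestrict_ι, Category.assoc,
        Category.assoc, Category.assoc, hq, hπh]
    · rw [← Category.assoc, hσπ, ← Category.assoc, hσ, ← Category.assoc, hι'h, hg]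
  intro x hx
  have h1 : q (h x) = j ((π ∣_ Uk) ⟨x, hx⟩) := by
    have := congrArg (fun φ : (π ⁻¹ᵁ Uk).toScheme ⟶ P => φ ⟨x, hx⟩) key
    exact this.symm
  show q (h x) ∈ coborder (Set.range j)
  rw [h1]
  exact subset_coborder ⟨_, rfl⟩

include hπh hι' hι'π hι'h hj hq hg in
theorem step2 : ∃ l : (h ⁻¹ᵁ (q ⁻¹ᵁ j.coborderRange)).toScheme ⟶ Uk.toScheme,
    l ≫ j.liftCoborder = (h ∣_ (q ⁻¹ᵁ j.coborderRange)) ≫ (q ∣_ j.coborderRange) ∧
    l ≫ Uk.ι = (h ⁻¹ᵁ (q ⁻¹ᵁ j.coborderRange)).ι ≫ π := by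
  have hr : Set.range ι' ⊆ ((h ⁻¹ᵁ (q ⁻¹ᵁ j.coborderRange) : X'.Opens) : Set X') := by
    rintro _ ⟨u, rfl⟩
    show q (h (ι' u)) ∈ coborder (Set.range j)
    have h1 : q (h (ι' u)) = j (X.homOfLE hUk u) := by
      have h2 : ι' ≫ h ≫ q = X.homOfLE hUk ≫ j := by rw [← Category.assoc, hι'h, hg]
      exact congrArg (fun φ : U.toScheme ⟶ P => φ u) h2
    rw [h1]
    exact subset_coborder ⟨_, rfl⟩
  let σ : U.toScheme ⟶ (h ⁻¹ᵁ (q ⁻¹ᵁ j.coborderRange)).toScheme :=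
    IsOpenImmersion.lift (h ⁻¹ᵁ (q ⁻¹ᵁ j.coborderRange)).ι ι' (by simpa using hr)
  have hσ : σ ≫ (h ⁻¹ᵁ (q ⁻¹ᵁ j.coborderRange)).ι = ι' := IsOpenImmersion.lift_fac _ _ _
  have hσd : SchDense σ := hι'.of_comp σ _ hσ
  have hb' : ((h ∣_ (q ⁻¹ᵁ j.coborderRange)) ≫ (q ∣_ j.coborderRange)) ≫ j.coborderRange.ι =
      (h ⁻¹ᵁ (q ⁻¹ᵁ j.coborderRange)).ι ≫ h ≫ q := by
    rw [Category.assoc, morphismRestrict_ι, ← Category.assoc, morphismRestrict_ι, Category.assoc]
  obtain ⟨l, hl1, hl2⟩ := hσd.exists_lift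
    ((h ∣_ (q ⁻¹ᵁ j.coborderRange)) ≫ (q ∣_ j.coborderRange)) j.liftCoborder (X.homOfLE hUk) (by
      rw [← cancel_mono j.coborderRange.ι, Category.assoc, Category.assoc,
        Scheme.Hom.liftCoborder_ι, hb', ← Category.assoc σ, hσ, ← Category.assoc, hι'h, hg])
  refine ⟨l, hl1, ?_⟩
  apply hσd.ext f
  · calc (l ≫ Uk.ι) ≫ f = l ≫ j ≫ p := by rw [Category.assoc, hj]
      _ = (l ≫ j.liftCoborder) ≫ j.coborderRange.ι ≫ p := by
        rw [Category.assoc, Scheme.Hom.liftCoborder_ι_assoc]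
      _ = ((h ⁻¹ᵁ (q ⁻¹ᵁ j.coborderRange)).ι ≫ h ≫ q) ≫ p := by
        rw [hl1, ← Category.assoc, hb']
      _ = ((h ⁻¹ᵁ (q ⁻¹ᵁ j.coborderRange)).ι ≫ π) ≫ f := by
        simp only [Category.assoc, hq, hπh]
  · rw [← Category.assoc, hl2, Scheme.homOfLE_ι, ← Category.assoc, hσ, hι'π]

variable (ε : X' ⟶ pullback f t) [IsClosedImmersion ε] (hε1 : ε ≫ pullback.fst f t = π)
  (hε2 : ε ≫ pullback.snd f t = h)

include hπh hι' hι'π hι'h hj hq hg hε1 hε2 in
theorem step3 : IsClosedImmersion (h ∣_ (q ⁻¹ᵁ j.coborderRange)) := by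
  obtain ⟨l, hl1, hl2⟩ := step2 f t π h hπh U ι' hι' hι'π g hι'h Uk hUk p j hj q hq hg
  subst hε1 hε2
  rw [morphismRestrict_comp]
  have hl1' : l ≫ j.liftCoborder =
      ((ε ≫ pullback.snd f t) ∣_ (q ⁻¹ᵁ j.coborderRange)) ≫ (q ∣_ j.coborderRange) := hl1
  let ρ : (ε ⁻¹ᵁ (pullback.snd f t ⁻¹ᵁ (q ⁻¹ᵁ j.coborderRange))).toScheme ⟶
      pullback j.liftCoborder (q ∣_ j.coborderRange) :=
    pullback.lift l ((ε ≫ pullback.snd f t) ∣_ (q ⁻¹ᵁ j.coborderRange)) hl1'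
  have hρ1 : ρ ≫ pullback.fst _ _ = l := pullback.lift_fst _ _ _
  have hρ2 : ρ ≫ pullback.snd _ _ = (ε ≫ pullback.snd f t) ∣_ (q ⁻¹ᵁ j.coborderRange) :=
    pullback.lift_snd _ _ _
  have hcompat : (pullback.fst j.liftCoborder (q ∣_ j.coborderRange) ≫ Uk.ι) ≫ f =
      (pullback.snd j.liftCoborder (q ∣_ j.coborderRange) ≫ (q ⁻¹ᵁ j.coborderRange).ι) ≫ t := by
    calc (pullback.fst j.liftCoborder (q ∣_ j.coborderRange) ≫ Uk.ι) ≫ f
        = pullback.fst j.liftCoborder (q ∣_ j.coborderRange) ≫ j ≫ p := by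
          rw [Category.assoc, hj]
      _ = (pullback.fst j.liftCoborder (q ∣_ j.coborderRange) ≫ j.liftCoborder) ≫
            j.coborderRange.ι ≫ p := by
          rw [Category.assoc, Scheme.Hom.liftCoborder_ι_assoc]
      _ = pullback.snd j.liftCoborder (q ∣_ j.coborderRange) ≫
            ((q ∣_ j.coborderRange) ≫ j.coborderRange.ι) ≫ p := by
          rw [pullback.condition]; simp only [Category.assoc]
      _ = _ := by
          rw [morphismRestrict_ι]; simp only [Category.assoc, hq]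
  let τ₀ : pullback j.liftCoborder (q ∣_ j.coborderRange) ⟶ pullback f t :=
    pullback.lift (pullback.fst _ _ ≫ Uk.ι) (pullback.snd _ _ ≫ (q ⁻¹ᵁ j.coborderRange).ι) hcompat
  have hτ₀1 : τ₀ ≫ pullback.fst f t = pullback.fst _ _ ≫ Uk.ι := pullback.lift_fst _ _ _
  have hτ₀2 : τ₀ ≫ pullback.snd f t = pullback.snd _ _ ≫ (q ⁻¹ᵁ j.coborderRange).ι :=
    pullback.lift_snd _ _ _
  have hrτ : Set.range τ₀ ⊆
      ((pullback.snd f t ⁻¹ᵁ (q ⁻¹ᵁ j.coborderRange) : (pullback f t).Opens) :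
        Set ↥(pullback f t)) := by
    rintro _ ⟨z, rfl⟩
    show pullback.snd f t (τ₀ z) ∈ q ⁻¹ᵁ j.coborderRange
    rw [← Scheme.Hom.comp_apply, hτ₀2, Scheme.Hom.comp_apply]
    exact (pullback.snd j.liftCoborder (q ∣_ j.coborderRange) z).2
  let τ : pullback j.liftCoborder (q ∣_ j.coborderRange) ⟶
      (pullback.snd f t ⁻¹ᵁ (q ⁻¹ᵁ j.coborderRange)).toScheme :=
    IsOpenImmersion.lift (pullback.snd f t ⁻¹ᵁ (q ⁻¹ᵁ j.coborderRange)).ι τ₀ (by simpa using hrτ)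
  have hτ : τ ≫ (pullback.snd f t ⁻¹ᵁ (q ⁻¹ᵁ j.coborderRange)).ι = τ₀ :=
    IsOpenImmersion.lift_fac _ _ _
  have hτsnd : τ ≫ (pullback.snd f t ∣_ (q ⁻¹ᵁ j.coborderRange)) =
      pullback.snd j.liftCoborder (q ∣_ j.coborderRange) := by
    rw [← cancel_mono (q ⁻¹ᵁ j.coborderRange).ι, Category.assoc, morphismRestrict_ι,
      ← Category.assoc, hτ, hτ₀2]
  have hρτ : ρ ≫ τ = ε ∣_ (pullback.snd f t ⁻¹ᵁ (q ⁻¹ᵁ j.coborderRange)) := by
    rw [← cancel_mono (pullback.snd f t ⁻¹ᵁ (q ⁻¹ᵁ j.coborderRange)).ι, Category.assoc, hτ,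
      morphismRestrict_ι]
    apply pullback.hom_ext
    · rw [Category.assoc, hτ₀1, ← Category.assoc, hρ1]
      exact hl2.trans (Category.assoc _ _ _).symm
    · rw [Category.assoc, hτ₀2, ← Category.assoc, hρ2]
      exact (morphismRestrict_ι _ _).trans (Category.assoc _ _ _).symm
  have : Mono τ := by
    have : Mono (τ ≫ (pullback.snd f t ∣_ (q ⁻¹ᵁ j.coborderRange))) := by
      rw [hτsnd]; infer_instance
    exact mono_of_mono τ (pullback.snd f t ∣_ (q ⁻¹ᵁ j.coborderRange))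
  have : IsClosedImmersion (ρ ≫ τ) := by rw [hρτ]; infer_instance
  have : IsClosedImmersion ρ := IsClosedImmersion.of_comp ρ τ
  rw [← hρτ, Category.assoc, hτsnd]
  have h3 : IsClosedImmersion (pullback.snd j.liftCoborder (q ∣_ j.coborderRange)) :=
    inferInstance
  exact IsClosedImmersion.comp ρ _

end core


instance : MorphismProperty.RespectsRight @IsImmersion @IsOpenImmersion where
  postcomp i hi f hf := by
    have : IsOpenImmersion i := hi
    have : IsImmersion f := hf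
    exact inferInstanceAs (IsImmersion (f ≫ i))

/-- the core of Chow's lemma: the scheme-theoretic closure of the graph of `g : U ⟶ Q`. -/
theorem chow_core {S X Q : Scheme.{u}} (f : X ⟶ S) [IsSeparated f] (t : Q ⟶ S) [IsProper t]
    {K : Type*} (Uk : K → X.Opens) (hcov : ⨆ k, Uk k = ⊤) (U : X.Opens) (hU : ∀ k, U ≤ Uk k)
    (hdense : Dense (U : Set X)) [QuasiCompact U.ι]
    (P : K → Scheme.{u}) (p : ∀ k, P k ⟶ S) [∀ k, IsSeparated (p k)]
    (j : ∀ k, (Uk k).toScheme ⟶ P k) [∀ k, IsImmersion (j k)]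
    (hj : ∀ k, j k ≫ p k = (Uk k).ι ≫ f)
    (q : ∀ k, Q ⟶ P k) (hq : ∀ k, q k ≫ p k = t)
    (g : U.toScheme ⟶ Q) (hgt : g ≫ t = U.ι ≫ f)
    (hg : ∀ k, g ≫ q k = X.homOfLE (hU k) ≫ j k) :
    ∃ (X' : Scheme.{u}) (π : X' ⟶ X) (h : X' ⟶ Q), IsProper π ∧ Surjective π ∧
      IsIso (π ∣_ U) ∧ IsImmersion h ∧ h ≫ t = π ≫ f := by
  let γ : U.toScheme ⟶ pullback f t := pullback.lift U.ι g hgt.symm
  have hγ1 : γ ≫ pullback.fst f t = U.ι := pullback.lift_fst _ _ _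
  have hγ2 : γ ≫ pullback.snd f t = g := pullback.lift_snd _ _ _
  have : IsImmersion γ := by
    have : IsImmersion (γ ≫ pullback.fst f t) := by rw [hγ1]; infer_instance
    exact IsImmersion.of_comp γ (pullback.fst f t)
  have : QuasiCompact γ := by
    have : QuasiCompact (γ ≫ pullback.fst f t) := by rw [hγ1]; infer_instance
    exact QuasiCompact.of_comp γ (pullback.fst f t)
  have hι'ε : γ.toImage ≫ γ.imageι = γ := γ.toImage_imageι
  have hι'π : γ.toImage ≫ γ.imageι ≫ pullback.fst f t = U.ι := by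
    rw [← Category.assoc, hι'ε, hγ1]
  have hι'h : γ.toImage ≫ γ.imageι ≫ pullback.snd f t = g := by
    rw [← Category.assoc, hι'ε, hγ2]
  have hd : SchDense γ.toImage := schDense_toImage γ
  have hπh : (γ.imageι ≫ pullback.fst f t) ≫ f = (γ.imageι ≫ pullback.snd f t) ≫ t := by
    rw [Category.assoc, Category.assoc, pullback.condition]
  have hstep1 := fun k => step1 f t (γ.imageι ≫ pullback.fst f t) (γ.imageι ≫ pullback.snd f t)
    hπh U γ.toImage hd hι'π g hι'h (Uk k) (hU k) (p k) (j k) (hj k) (q k) (hq k) (hg k)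
  have hstep3 := fun k => step3 f t (γ.imageι ≫ pullback.fst f t) (γ.imageι ≫ pullback.snd f t)
    hπh U γ.toImage hd hι'π g hι'h (Uk k) (hU k) (p k) (j k) (hj k) (q k) (hq k) (hg k)
    γ.imageι rfl rfl
  refine ⟨γ.image, γ.imageι ≫ pullback.fst f t, γ.imageι ≫ pullback.snd f t, inferInstance,
    ?_, ?_, ?_, hπh.symm⟩
  · -- surjective
    have : IsDominant (γ.toImage ≫ γ.imageι ≫ pullback.fst f t) := by
      rw [hι'π]
      constructor
      rw [DenseRange, Scheme.Opens.range_ι]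
      exact hdense
    have : IsDominant (γ.imageι ≫ pullback.fst f t) := IsDominant.of_comp γ.toImage _
    exact surjective_of_isDominant_of_isClosed_range _
      (Scheme.Hom.isClosedMap (γ.imageι ≫ pullback.fst f t)).isClosed_range
  · -- iso over U
    have hr : Set.range γ.toImage ⊆
        (((γ.imageι ≫ pullback.fst f t) ⁻¹ᵁ U : γ.image.Opens) : Set γ.image) := by
      rintro _ ⟨u, rfl⟩
      show (γ.imageι ≫ pullback.fst f t) (γ.toImage u) ∈ U
      rw [← Scheme.Hom.comp_apply, hι'π]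
      exact u.2
    let σ : U.toScheme ⟶ ((γ.imageι ≫ pullback.fst f t) ⁻¹ᵁ U).toScheme :=
      IsOpenImmersion.lift ((γ.imageι ≫ pullback.fst f t) ⁻¹ᵁ U).ι γ.toImage
        (by rw [Scheme.Opens.range_ι]; exact hr)
    have hσ : σ ≫ ((γ.imageι ≫ pullback.fst f t) ⁻¹ᵁ U).ι = γ.toImage :=
      IsOpenImmersion.lift_fac _ _ _
    have hσd : SchDense σ := hd.of_comp σ _ hσ
    have hσπ : σ ≫ ((γ.imageι ≫ pullback.fst f t) ∣_ U) = 𝟙 _ := by
      rw [← cancel_mono U.ι, Category.assoc, morphismRestrict_ι, ← Category.assoc, hσ, hι'π,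
        Category.id_comp]
    have hπσ : ((γ.imageι ≫ pullback.fst f t) ∣_ U) ≫ σ = 𝟙 _ := by
      rw [← cancel_mono ((γ.imageι ≫ pullback.fst f t) ⁻¹ᵁ U).ι, Category.assoc, hσ,
        Category.id_comp]
      apply hσd.ext ((γ.imageι ≫ pullback.fst f t) ≫ f)
      · rw [Category.assoc, ← Category.assoc γ.toImage, hι'π, ← Category.assoc,
          morphismRestrict_ι, Category.assoc]
      · rw [← Category.assoc, hσπ, Category.id_comp, hσ]
    exact ⟨σ, hπσ, hσπ⟩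
  · -- immersion
    apply IsZariskiLocalAtTarget.of_range_subset_iSup (P := @IsImmersion)
      (fun k => q k ⁻¹ᵁ (j k).coborderRange)
    · rintro _ ⟨x, rfl⟩
      have hx : (γ.imageι ≫ pullback.fst f t) x ∈ (⊤ : X.Opens) := trivial
      rw [← hcov] at hx
      obtain ⟨k, hk⟩ := Opens.mem_iSup.mp hx
      exact Opens.mem_iSup.mpr ⟨k, hstep1 k hk⟩
    · intro k
      have := hstep3 k
      infer_instance

end Groth.Agent.Lib.R2H3.ChowDense
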