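import Mathlib
import Groth.Agent.Lib.R2H3ZMTFin
import Groth.Agent.Lib.R2H3ProdChart
import Groth.Agent.Lib.R2H1Segre
import Groth.Agent.Lib.Helper27PnChart
import Groth.Agent.Lib.R2H3ChowDense

set_option autoImplicit false
set_option linter.unusedSectionVars false
universe u
open CategoryTheory CategoryTheory.Limits AlgebraicGeometry TopologicalSpace Opposite

namespace Groth.Agent.Lib.R2H3.ChowAffine

open Groth.Agent.Lib.R2H3.ZMTFin Groth.Agent.Lib.R2H1.Segre

/-- restriction to an affine open with affine preimage, surjective on sections, is a closed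
immersion. -/
theorem isClosedImmersion_restrict {X Y : Scheme.{u}} (i : X ⟶ Y) (O : Y.Opens)
    (hO : IsAffineOpen O) (hO' : IsAffineOpen (i ⁻¹ᵁ O))
    (hs : Function.Surjective (i.app O).hom) : IsClosedImmersion (i ∣_ O) := by
  have : IsAffine O.toScheme := hO
  have : IsAffine (i ⁻¹ᵁ O).toScheme := hO'
  apply IsClosedImmersion.of_surjective_of_isAffine
  have key : ∀ O' : Y.Opens, O' = O → Function.Surjective (i.app O').hom := by
    rintro _ rfl; exact hs
  have hsurj : Function.Surjective (i.app (O.ι ''ᵁ ⊤) ≫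
      X.presheaf.map (eqToHom (image_morphismRestrict_preimage i O ⊤)).op).hom := by
    rw [CommRingCat.hom_comp, RingHom.coe_comp]
    exact Function.Surjective.comp (surjective_map_eqToHom _)
      (key _ (Scheme.Opens.ι_image_top O))
  have e := morphismRestrict_appTop i O
  rw [e]
  exact hsurj

theorem app_surjective_of_appLE {X Y : Scheme.{u}} (i : X ⟶ Y) (O : Y.Opens) (B : X.Opens)
    (hB : i ⁻¹ᵁ O = B) (hs : Function.Surjective (i.appLE O B hB.ge).hom) :
    Function.Surjective (i.app O).hom := by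
  subst hB
  rwa [Scheme.Hom.appLE_eq_app] at hs

section chart

variable {σ : Type} {X S : Scheme.{u}} (π : X ⟶ S) (s : σ → Γ(X, ⊤))
  (c : Spec (CommRingCat.of (MvPolynomial σ ZZ.{u})) ⟶ Spec (CommRingCat.of ZZ.{u}))

/-- the ring map `x_t ↦ s_t`. -/
noncomputable def phiS : MvPolynomial σ ZZ.{u} →+* Γ(X, ⊤) := MvPolynomial.eval₂Hom (cst _) s

/-- the morphism to affine space over `ℤ` given by the functions `s`. -/
noncomputable def aS : X ⟶ Spec (CommRingCat.of (MvPolynomial σ ZZ.{u})) :=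
  X.toSpecΓ ≫ Spec.map (CommRingCat.ofHom (phiS s))

/-- the coordinate functions. -/
noncomputable def xS (t : σ) : Γ(Spec (CommRingCat.of (MvPolynomial σ ZZ.{u})), ⊤) :=
  (Scheme.ΓSpecIso (CommRingCat.of (MvPolynomial σ ZZ.{u}))).inv (MvPolynomial.X t)

theorem aS_appTop_xS (t : σ) : (aS s).appTop (xS t) = s t := by
  have h : (Scheme.ΓSpecIso (CommRingCat.of (MvPolynomial σ ZZ.{u}))).inv ≫ (aS s).appTop =
      CommRingCat.ofHom (phiS s) := by
    unfold aS
    rw [Scheme.Hom.comp_appTop, Scheme.toSpecΓ_appTop, ← Category.assoc,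
      ← Scheme.ΓSpecIso_inv_naturality, Category.assoc, Iso.inv_hom_id, Category.comp_id]
  have h2 := congrArg (fun φ => φ.hom (MvPolynomial.X t)) h
  have h3 : phiS s (MvPolynomial.X t) = s t := by
    unfold phiS
    rw [MvPolynomial.eval₂Hom_X']
  rw [← h3]
  exact h2

/-- the morphism to affine space over `S`. -/
noncomputable def iS : X ⟶ pullback c (specULiftZIsTerminal.from S) :=
  pullback.lift (aS s) π (specULiftZIsTerminal.hom_ext _ _)

theorem iS_fst : iS π s c ≫ pullback.fst c _ = aS s := pullback.lift_fst _ _ _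

theorem iS_snd : iS π s c ≫ pullback.snd c _ = π := pullback.lift_snd _ _ _

/-- the basic open `D(x_k)` of affine space. -/
noncomputable def Dk (k : σ) : (Spec (CommRingCat.of (MvPolynomial σ ZZ.{u}))).Opens :=
  (Spec (CommRingCat.of (MvPolynomial σ ZZ.{u}))).basicOpen (xS k)

theorem isAffineOpen_Dk (k : σ) : IsAffineOpen (Dk (σ := σ) k) :=
  (isAffineOpen_top _).basicOpen _

/-- the chart `D(x_k) ×_ℤ V` of affine space over `S`. -/
noncomputable abbrev chartO (k : σ) (V : S.Opens) :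
    (pullback c (specULiftZIsTerminal.from S)).Opens :=
  pullback.fst c _ ⁻¹ᵁ Dk k ⊓ pullback.snd c _ ⁻¹ᵁ V

theorem isAffineOpen_chartO (k : σ) (V : S.Opens) (hV : IsAffineOpen V) :
    IsAffineOpen (chartO c k V) :=
  Groth.Agent.Lib.R2H3.ProdChart.isAffineOpen_inf (IsPullback.of_hasPullback c _)
    (isAffineOpen_top (Spec (CommRingCat.of ZZ.{u}))) (isAffineOpen_Dk k) hV
    (fun _ _ => trivial) (fun _ _ => trivial)

theorem aS_preimage_Dk (k : σ) : aS s ⁻¹ᵁ Dk k = X.basicOpen (s k) := by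
  unfold Dk
  rw [Scheme.preimage_basicOpen_top, aS_appTop_xS]

theorem iS_preimage_chartO (k : σ) (V : S.Opens) (hle : X.basicOpen (s k) ≤ π ⁻¹ᵁ V) :
    iS π s c ⁻¹ᵁ chartO c k V = X.basicOpen (s k) := by
  unfold chartO
  rw [Scheme.Hom.preimage_inf, ← Scheme.Hom.comp_preimage, ← Scheme.Hom.comp_preimage, iS_fst,
    iS_snd, aS_preimage_Dk]
  exact inf_eq_left.mpr hle

theorem appLE_congr_hom {X Y : Scheme.{u}} {f g : X ⟶ Y} (h : f = g) (U : Y.Opens)
    (V : X.Opens) (e : V ≤ f ⁻¹ᵁ U) : f.appLE U V e = g.appLE U V (h ▸ e) := by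
  subst h; rfl

/-- restriction of global functions to `X_{s_k}`. -/
noncomputable def resB (k : σ) : Γ(X, ⊤) →+* Γ(X, X.basicOpen (s k)) :=
  (X.presheaf.map (homOfLE le_top).op).hom

theorem appLE_fst_xS (k t : σ) (V : S.Opens) (hle : X.basicOpen (s k) ≤ π ⁻¹ᵁ V) :
    (iS π s c).appLE (chartO c k V) (X.basicOpen (s k)) (iS_preimage_chartO π s c k V hle).ge
      ((pullback.fst c (specULiftZIsTerminal.from S)).appLE (Dk k) (chartO c k V) inf_le_left
        ((Spec (CommRingCat.of (MvPolynomial σ ZZ.{u}))).presheaf.map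
          (homOfLE (le_top : Dk k ≤ ⊤)).op (xS t))) = resB s k (s t) := by
  have h1 := Scheme.Hom.appLE_comp_appLE (iS π s c) (pullback.fst c (specULiftZIsTerminal.from S))
    (Dk k) (chartO c k V) (X.basicOpen (s k)) inf_le_left
    (iS_preimage_chartO π s c k V hle).ge
  have h2 := appLE_congr_hom (iS_fst π s c) (Dk k) (X.basicOpen (s k))
    ((iS_preimage_chartO π s c k V hle).ge.trans
      ((Opens.map (iS π s c).base).map (homOfLE (inf_le_left :
        chartO c k V ≤ pullback.fst c _ ⁻¹ᵁ Dk k))).le)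
  have h3 := Scheme.Hom.map_appLE (aS s) (U := Dk k) (V := X.basicOpen (s k))
    (by rw [aS_preimage_Dk]) (homOfLE (le_top : Dk (σ := σ) k ≤ ⊤)).op
  have h4 : ∀ y, (iS π s c).appLE (chartO c k V) (X.basicOpen (s k))
      (iS_preimage_chartO π s c k V hle).ge
      ((pullback.fst c (specULiftZIsTerminal.from S)).appLE (Dk k) (chartO c k V) inf_le_left y) =
      (aS s).appLE (Dk k) (X.basicOpen (s k)) (by rw [aS_preimage_Dk]) y := by
    intro y
    rw [← CommRingCat.comp_apply, h1, h2]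
  rw [h4, ← CommRingCat.comp_apply, h3, ← aS_appTop_xS s t]
  rfl

theorem appLE_fst (k : σ) (V : S.Opens) (hle : X.basicOpen (s k) ≤ π ⁻¹ᵁ V)
    (y : Γ(Spec (CommRingCat.of (MvPolynomial σ ZZ.{u})), Dk k)) :
    (iS π s c).appLE (chartO c k V) (X.basicOpen (s k)) (iS_preimage_chartO π s c k V hle).ge
      ((pullback.fst c (specULiftZIsTerminal.from S)).appLE (Dk k) (chartO c k V) inf_le_left y) =
      (aS s).appLE (Dk k) (X.basicOpen (s k)) (by rw [aS_preimage_Dk]) y := by
  have h1 := Scheme.Hom.appLE_comp_appLE (iS π s c) (pullback.fst c (specULiftZIsTerminal.from S))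
    (Dk k) (chartO c k V) (X.basicOpen (s k)) inf_le_left
    (iS_preimage_chartO π s c k V hle).ge
  have h2 := appLE_congr_hom (iS_fst π s c) (Dk k) (X.basicOpen (s k))
    ((iS_preimage_chartO π s c k V hle).ge.trans
      ((Opens.map (iS π s c).base).map (homOfLE (inf_le_left :
        chartO c k V ≤ pullback.fst c _ ⁻¹ᵁ Dk k))).le)
  rw [← CommRingCat.comp_apply, h1, h2]

theorem appLE_snd (k : σ) (V : S.Opens) (hle : X.basicOpen (s k) ≤ π ⁻¹ᵁ V) (z : Γ(S, V)) :
    (iS π s c).appLE (chartO c k V) (X.basicOpen (s k)) (iS_preimage_chartO π s c k V hle).ge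
      ((pullback.snd c (specULiftZIsTerminal.from S)).appLE V (chartO c k V) inf_le_right z) =
      π.appLE V (X.basicOpen (s k)) hle z := by
  have h1 := Scheme.Hom.appLE_comp_appLE (iS π s c) (pullback.snd c (specULiftZIsTerminal.from S))
    V (chartO c k V) (X.basicOpen (s k)) inf_le_right
    (iS_preimage_chartO π s c k V hle).ge
  have h2 := appLE_congr_hom (iS_snd π s c) V (X.basicOpen (s k))
    ((iS_preimage_chartO π s c k V hle).ge.trans
      ((Opens.map (iS π s c).base).map (homOfLE (inf_le_right :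
        chartO c k V ≤ pullback.snd c _ ⁻¹ᵁ V))).le)
  rw [← CommRingCat.comp_apply, h1, h2]

/-- the chart criterion: the morphism to affine space is a closed immersion over the chart as
soon as the obvious functions generate. -/
theorem chart_closedImmersion [IsAffine X] (k : σ) (V : S.Opens) (hV : IsAffineOpen V)
    (hle : X.basicOpen (s k) ≤ π ⁻¹ᵁ V)
    (hgen : Subring.closure (Set.range (π.appLE V (X.basicOpen (s k)) hle).hom ∪
      Set.range (fun t => resB s k (s t)) ∪ {y | y * resB s k (s k) = 1}) = ⊤) :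
    IsClosedImmersion (iS π s c ∣_ chartO c k V) := by
  refine isClosedImmersion_restrict _ _ (isAffineOpen_chartO c k V hV)
    (by rw [iS_preimage_chartO π s c k V hle]; exact (isAffineOpen_top X).basicOpen _) ?_
  apply app_surjective_of_appLE _ _ (X.basicOpen (s k)) (iS_preimage_chartO π s c k V hle)
  rw [← RingHom.range_eq_top, eq_top_iff, ← hgen, Subring.closure_le]
  have hres : ∀ t, resB s k (s t) ∈ ((iS π s c).appLE (chartO c k V) (X.basicOpen (s k))
      (iS_preimage_chartO π s c k V hle).ge).hom.range := fun t =>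
    ⟨_, appLE_fst_xS π s c k t V hle⟩
  rintro y ((⟨z, rfl⟩ | ⟨t, rfl⟩) | hy)
  · exact ⟨_, appLE_snd π s c k V hle z⟩
  · exact hres t
  · -- the inverse of `s k`
    let ψ : Γ(pullback c (specULiftZIsTerminal.from S), chartO c k V) →+*
        Γ(X, X.basicOpen (s k)) := ((iS π s c).appLE (chartO c k V) (X.basicOpen (s k))
      (iS_preimage_chartO π s c k V hle).ge).hom
    let θ : Γ(Spec (CommRingCat.of (MvPolynomial σ ZZ.{u})), Dk k) →+*
        Γ(pullback c (specULiftZIsTerminal.from S), chartO c k V) :=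
      ((pullback.fst c (specULiftZIsTerminal.from S)).appLE (Dk k) (chartO c k V)
        inf_le_left).hom
    let r : Γ(Spec (CommRingCat.of (MvPolynomial σ ZZ.{u})), Dk k) :=
      ((Spec (CommRingCat.of (MvPolynomial σ ZZ.{u}))).presheaf.map
          (homOfLE (le_top : Dk k ≤ ⊤)).op).hom (xS k)
    have hu : ∃ u : Γ(Spec (CommRingCat.of (MvPolynomial σ ZZ.{u})), Dk k), u * r = 1 := by
      have h0 := (Spec (CommRingCat.of (MvPolynomial σ ZZ.{u}))).toRingedSpace.isUnit_res_basicOpen
        (xS (σ := σ) k)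
      obtain ⟨u, hu⟩ := h0.exists_left_inv
      exact ⟨u, hu⟩
    obtain ⟨u, hu'⟩ := hu
    have e1 : resB s k (s k) = ψ (θ r) := (appLE_fst_xS π s c k k V hle).symm
    have h1 : ψ (θ u) * resB s k (s k) = 1 := by
      rw [e1, ← map_mul, ← map_mul, hu', map_one, map_one]
    have h2 : y = ψ (θ u) := by
      have hy' : y * resB s k (s k) = 1 := hy
      calc y = y * (ψ (θ u) * resB s k (s k)) := by rw [h1, mul_one]
        _ = (y * resB s k (s k)) * ψ (θ u) := by ring
        _ = ψ (θ u) := by rw [hy', one_mul]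
    rw [h2]
    exact ⟨_, rfl⟩

end chart


section gen

variable {X S : Scheme.{u}} (π : X ⟶ S)

/-- restriction of global functions to `X_f`. -/
noncomputable def resF (f : Γ(X, ⊤)) : Γ(X, ⊤) →+* Γ(X, X.basicOpen f) :=
  (X.presheaf.map (homOfLE le_top).op).hom

theorem local_gen [IsAffine X] [LocallyOfFiniteType π] (f : Γ(X, ⊤)) (V : S.Opens)
    (hV : IsAffineOpen V) (hle : X.basicOpen f ≤ π ⁻¹ᵁ V) :
    ∃ A₀ : Finset Γ(X, ⊤), ∀ G : Subring Γ(X, X.basicOpen f),
      Set.range (π.appLE V (X.basicOpen f) hle).hom ⊆ G → (∀ a ∈ A₀, resF f a ∈ G) →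
      (∀ y, y * resF f f = 1 → y ∈ G) → G = ⊤ := by
  classical
  have hft : (π.appLE V (X.basicOpen f) hle).hom.FiniteType :=
    HasRingHomProperty.appLE @LocallyOfFiniteType π inferInstance ⟨V, hV⟩
      ⟨_, (isAffineOpen_top X).basicOpen f⟩ hle
  let _ := (π.appLE V (X.basicOpen f) hle).hom.toAlgebra
  obtain ⟨E, hE⟩ := (hft : Algebra.FiniteType Γ(S, V) Γ(X, X.basicOpen f)).out
  have hloc : IsLocalization.Away f Γ(X, X.basicOpen f) := inferInstance
  have hres : ∀ a, algebraMap Γ(X, ⊤) Γ(X, X.basicOpen f) a = resF f a := fun a => rfl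
  have key : ∀ y : Γ(X, X.basicOpen f), ∃ (a : Γ(X, ⊤)) (N : ℕ),
      y * resF f f ^ N = resF f a := by
    intro y
    obtain ⟨⟨a, ⟨_, N, rfl⟩⟩, h⟩ := IsLocalization.surj (Submonoid.powers f) y
    refine ⟨a, N, ?_⟩
    rw [← hres, ← hres, ← map_pow]
    exact h
  choose a N haN using key
  obtain ⟨w, hw⟩ := (IsLocalization.Away.algebraMap_isUnit (S := Γ(X, X.basicOpen f)) f).exists_left_inv
  rw [hres] at hw
  refine ⟨E.image a, fun G h1 h2 h3 => ?_⟩
  rw [eq_top_iff]
  intro b _
  have hb : b ∈ Algebra.adjoin Γ(S, V) (E : Set Γ(X, X.basicOpen f)) := by rw [hE]; trivial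
  induction hb using Algebra.adjoin_induction with
  | mem y hy =>
    have hwG : w ∈ G := h3 w hw
    have haG : resF f (a y) ∈ G := h2 _ (Finset.mem_image_of_mem a hy)
    have : y = resF f (a y) * w ^ N y := by
      rw [← haN y, mul_assoc, ← mul_pow, mul_comm (resF f f), hw, one_pow, mul_one]
    rw [this]
    exact mul_mem haG (pow_mem hwG _)
  | algebraMap r => exact h1 ⟨r, rfl⟩
  | add x y _ _ hx hy => exact add_mem (hx trivial) (hy trivial)
  | mul x y _ _ hx hy => exact mul_mem (hx trivial) (hy trivial)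

/-- the standard affine chart of projective space. -/
theorem exists_aff (n : ℕ) :
    ∃ aff : Spec (CommRingCat.of (MvPolynomial {j : Fin (n + 1) // j ≠ 0} ZZ.{u})) ⟶
      CohB1.ProjSpace n ZZ.{u}, IsOpenImmersion aff := by
  have hiso : IsIso (CommRingCat.ofHom (Groth.Agent.Lib.Helper27PnChart.chart n ZZ.{u} 0)) := by
    rw [ConcreteCategory.isIso_iff_bijective]
    exact Groth.Agent.Lib.Helper27PnChart.chart_bijective n ZZ.{u} 0
  have h1 : IsOpenImmersion
      (Spec.map (inv (CommRingCat.ofHom (Groth.Agent.Lib.Helper27PnChart.chart n ZZ.{u} 0)))) :=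
    inferInstance
  have h2 : IsOpenImmersion (Proj.awayι (CohB1.polyGrading n ZZ.{u}) (MvPolynomial.X 0)
    (hX n 0) one_pos) := inferInstance
  exact ⟨_, @IsOpenImmersion.comp _ _ _ _ _ h1 h2⟩

/-- an affine scheme locally of finite type over an arbitrary base admits an immersion into a
projective space over the base. -/
theorem exists_immersion_projSpace [IsAffine X] [LocallyOfFiniteType π] :
    ∃ (n : ℕ) (j : X ⟶ CohB1.ProjSpaceOver n S), IsImmersion j ∧
      j ≫ CohB1.ProjSpaceOver.toBase n S = π := by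
  classical
  -- local data
  have h1 : ∀ x : X, ∃ (V : S.Opens) (f : Γ(X, ⊤)), IsAffineOpen V ∧ x ∈ X.basicOpen f ∧
      X.basicOpen f ≤ π ⁻¹ᵁ V := by
    intro x
    obtain ⟨V, hV, hxV, -⟩ :=
      exists_isAffineOpen_mem_and_subset (x := π x) (U := (⊤ : S.Opens)) trivial
    obtain ⟨f, hf, hxf⟩ := (isAffineOpen_top X).exists_basicOpen_le (V := π ⁻¹ᵁ V) ⟨x, hxV⟩
      trivial
    exact ⟨V, f, hV, hxf, hf⟩
  choose V f hV hxf hle using h1
  choose A₀ hA₀ using fun x => local_gen π (f x) (V x) (hV x) (hle x)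
  obtain ⟨F, hF⟩ := isCompact_univ.elim_nhds_subcover
    (fun x => ((X.basicOpen (f x) : X.Opens) : Set X))
    (fun x _ => (X.basicOpen (f x)).2.mem_nhds (hxf x))
  -- the sections
  let 𝒯 : Finset Γ(X, ⊤) := F.image f ∪ F.biUnion A₀
  let n := 𝒯.card
  let e : {j : Fin (n + 1) // j ≠ 0} ≃ ↥𝒯 :=
    (finSuccAboveEquiv (0 : Fin (n + 1))).symm.trans 𝒯.equivFin.symm
  let s : {j : Fin (n + 1) // j ≠ 0} → Γ(X, ⊤) := fun k => (e k).1
  obtain ⟨aff, haff⟩ := exists_aff.{u} n
  let c := aff ≫ CohB1.ProjSpace.toSpec n ZZ.{u}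
  have himm : IsImmersion (iS π s c) := by
    have hmem : ∀ x : X, ∃ x' ∈ F, x ∈ X.basicOpen (f x') := by
      intro x
      have := hF.2 (Set.mem_univ x)
      simp only [Set.mem_iUnion] at this
      obtain ⟨x', hx', hxx'⟩ := this
      exact ⟨x', hx', hxx'⟩
    choose x' hx'F hxx' using hmem
    have hfT : ∀ x, f (x' x) ∈ 𝒯 := fun x =>
      Finset.mem_union_left _ (Finset.mem_image_of_mem f (hx'F x))
    let k : X → {j : Fin (n + 1) // j ≠ 0} := fun x => e.symm ⟨f (x' x), hfT x⟩
    have hk : ∀ x, s (k x) = f (x' x) := fun x => by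
      show (e (e.symm ⟨f (x' x), hfT x⟩)).1 = f (x' x)
      rw [Equiv.apply_symm_apply]
    have main : ∀ (x : X) (g : Γ(X, ⊤)) (_ : s (k x) = g) (hle' : X.basicOpen g ≤ π ⁻¹ᵁ V (x' x))
        (A : Finset Γ(X, ⊤))
        (_ : ∀ G : Subring Γ(X, X.basicOpen g),
          Set.range (π.appLE (V (x' x)) (X.basicOpen g) hle').hom ⊆ G →
          (∀ a ∈ A, resF g a ∈ G) → (∀ y, y * resF g g = 1 → y ∈ G) → G = ⊤)
        (_ : ∀ a ∈ A, a ∈ 𝒯), IsClosedImmersion (iS π s c ∣_ chartO c (k x) (V (x' x))) := by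
      rintro x _ rfl hle' A hA hAT
      apply chart_closedImmersion π s c (k x) (V (x' x)) (hV (x' x)) hle'
      apply hA
      · exact fun y hy => Subring.subset_closure (Or.inl (Or.inl hy))
      · intro a ha
        refine Subring.subset_closure (Or.inl (Or.inr ⟨e.symm ⟨a, hAT a ha⟩, ?_⟩))
        show resB s (k x) ((e (e.symm ⟨a, hAT a ha⟩)).1) = _
        rw [Equiv.apply_symm_apply]
        rfl
      · exact fun y hy => Subring.subset_closure (Or.inr hy)
    apply IsZariskiLocalAtTarget.of_range_subset_iSup (P := @IsImmersion)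
      (fun x : X => chartO c (k x) (V (x' x)))
    · rintro _ ⟨x, rfl⟩
      refine Opens.mem_iSup.mpr ⟨x, ?_⟩
      show x ∈ iS π s c ⁻¹ᵁ chartO c (k x) (V (x' x))
      rw [iS_preimage_chartO π s c (k x) (V (x' x)) (by rw [hk x]; exact hle (x' x)), hk x]
      exact hxx' x
    · intro x
      have := main x (f (x' x)) (hk x) (hle (x' x)) (A₀ (x' x)) (hA₀ (x' x))
        (fun a ha => Finset.mem_union_right _ (Finset.mem_biUnion.mpr ⟨x' x, hx'F x, ha⟩))
      infer_instance
  let jA : pullback c (specULiftZIsTerminal.from S) ⟶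
      pullback (CohB1.ProjSpace.toSpec n ZZ.{u}) (specULiftZIsTerminal.from S) :=
    pullback.map c (specULiftZIsTerminal.from S) (CohB1.ProjSpace.toSpec n ZZ.{u})
      (specULiftZIsTerminal.from S) aff (𝟙 S) (𝟙 _) (by simp [c]) (by simp)
  have hjA : IsOpenImmersion jA := by
    dsimp only [jA]
    infer_instance
  have hsnd : jA ≫ pullback.snd (CohB1.ProjSpace.toSpec n ZZ.{u}) (specULiftZIsTerminal.from S) =
      pullback.snd c _ := by
    dsimp only [jA]
    rw [pullback.lift_snd, Category.comp_id]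
  have himm2 : IsImmersion (iS π s c ≫ jA) := inferInstance
  refine ⟨n, iS π s c ≫ jA, himm2, ?_⟩
  show (iS π s c ≫ jA) ≫ pullback.snd (CohB1.ProjSpace.toSpec n ZZ.{u})
    (specULiftZIsTerminal.from S) = π
  rw [Category.assoc, hsnd, iS_snd]

end gen

end Groth.Agent.Lib.R2H3.ChowAffine
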