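import Mathlib
import Groth.Agent.Lib.R2H1Segre

set_option autoImplicit false
set_option linter.unusedSectionVars false
universe u
open CategoryTheory CategoryTheory.Limits AlgebraicGeometry TopologicalSpace Opposite

namespace Groth.Agent.Lib.R2H3.ChowProd

/-- a finite family of morphisms to projective spaces over `S` is dominated by one morphism to a
closed subscheme of a projective space over `S` (fibre products and Segre embeddings). -/
theorem exists_product {S U : Scheme.{u}} (u : U ⟶ S) {K : Type*} (s : Finset K)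
    (hs : s.Nonempty) (n : K → ℕ) (j : ∀ k, U ⟶ CohB1.ProjSpaceOver (n k) S)
    (hj : ∀ k, j k ≫ CohB1.ProjSpaceOver.toBase (n k) S = u) :
    ∃ (Q : Scheme.{u}) (t : Q ⟶ S) (N : ℕ) (c : Q ⟶ CohB1.ProjSpaceOver N S) (g : U ⟶ Q),
      IsClosedImmersion c ∧ c ≫ CohB1.ProjSpaceOver.toBase N S = t ∧ g ≫ t = u ∧
      ∀ k ∈ s, ∃ q : Q ⟶ CohB1.ProjSpaceOver (n k) S,
        q ≫ CohB1.ProjSpaceOver.toBase (n k) S = t ∧ g ≫ q = j k := by
  induction hs using Finset.Nonempty.cons_induction with
  | singleton a =>
    refine ⟨CohB1.ProjSpaceOver (n a) S, CohB1.ProjSpaceOver.toBase (n a) S, n a, 𝟙 _, j a,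
      inferInstance, Category.id_comp _, hj a, fun k hk => ?_⟩
    rw [Finset.mem_singleton] at hk
    subst hk
    exact ⟨𝟙 _, Category.id_comp _, Category.comp_id _⟩
  | cons a s ha hs ih =>
    obtain ⟨Q, t, N, c, g, hc, hct, hgt, hq⟩ := ih
    obtain ⟨φ, hφ, hφt⟩ := Groth.Agent.Lib.R2H1.Segre.segre S N (n a)
    let m : pullback t (CohB1.ProjSpaceOver.toBase (n a) S) ⟶
        pullback (CohB1.ProjSpaceOver.toBase N S) (CohB1.ProjSpaceOver.toBase (n a) S) :=
      pullback.map t (CohB1.ProjSpaceOver.toBase (n a) S) (CohB1.ProjSpaceOver.toBase N S)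
        (CohB1.ProjSpaceOver.toBase (n a) S) c (𝟙 _) (𝟙 S)
        ((Category.comp_id _).trans hct.symm)
        ((Category.comp_id _).trans (Category.id_comp _).symm)
    haveI : MorphismProperty.IsStableUnderComposition @IsClosedImmersion.{u} :=
      (inferInstance : MorphismProperty.IsMultiplicative @IsClosedImmersion.{u}).toIsStableUnderComposition
    have hm : IsClosedImmersion m :=
      MorphismProperty.pullbackMap (P := @IsClosedImmersion) hc
        (inferInstance : IsClosedImmersion (𝟙 (CohB1.ProjSpaceOver (n a) S))) hct.symm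
        (Category.id_comp _).symm
    have hm1 : m ≫ pullback.fst _ _ = pullback.fst _ _ ≫ c := pullback.lift_fst _ _ _
    refine ⟨pullback t (CohB1.ProjSpaceOver.toBase (n a) S), pullback.fst _ _ ≫ t, _, m ≫ φ,
      pullback.lift g (j a) (hgt.trans (hj a).symm), inferInstance, ?_, ?_, ?_⟩
    · rw [Category.assoc, hφt, ← Category.assoc, hm1, Category.assoc, hct]
    · rw [← Category.assoc, pullback.lift_fst, hgt]
    · intro k hk
      rw [Finset.mem_cons] at hk
      rcases hk with rfl | hk
      · exact ⟨pullback.snd _ _, pullback.condition.symm, pullback.lift_snd _ _ _⟩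
      · obtain ⟨q, hq1, hq2⟩ := hq k hk
        refine ⟨pullback.fst _ _ ≫ q, by rw [Category.assoc, hq1], ?_⟩
        rw [← Category.assoc, pullback.lift_fst, hq2]

end Groth.Agent.Lib.R2H3.ChowProd
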