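import Mathlib

set_option autoImplicit false
universe u
open CategoryTheory AlgebraicGeometry TopologicalSpace

namespace Groth.Agent.Lib.R2H3.ChowTop

/-- a generic point of an irreducible component not lying in an open `V` has an open neighbourhood
disjoint from `V`, when there are only finitely many irreducible components. -/
theorem exists_open_disjoint_of_mem_genericPoints {α : Type*} [TopologicalSpace α]
    (hirr : (irreducibleComponents α).Finite) {η : α} (hη : η ∈ genericPoints α)
    {V : Set α} (hV : IsOpen V) (hηV : η ∉ V) :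
    ∃ O : Set α, IsOpen O ∧ η ∈ O ∧ Disjoint O V := by
  have hZc : closure {η} ∈ irreducibleComponents α := hη
  have hC : IsClosed (⋃₀ (irreducibleComponents α \ {closure {η}})) := by
    rw [Set.sUnion_eq_biUnion]
    apply Set.Finite.isClosed_biUnion (hirr.subset Set.sdiff_subset)
    intro s hs
    exact isClosed_of_mem_irreducibleComponents s hs.1
  refine ⟨(⋃₀ (irreducibleComponents α \ {closure {η}}))ᶜ, hC.isOpen_compl, ?_, ?_⟩
  · rintro ⟨Z', ⟨hZ', hne⟩, hηZ'⟩
    apply hne
    have h1 : closure {η} ⊆ Z' :=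
      (isClosed_of_mem_irreducibleComponents Z' hZ').closure_subset_iff.mpr
        (Set.singleton_subset_iff.mpr hηZ')
    exact Set.mem_singleton_iff.mpr (subset_antisymm (hZc.2 hZ'.1 h1) h1)
  · rw [Set.disjoint_left]
    intro y hy hyV
    have hy' : y ∈ ⋃₀ irreducibleComponents α := by
      rw [sUnion_irreducibleComponents]; trivial
    obtain ⟨Z', hZ', hyZ'⟩ := hy'
    have hZ'eq : Z' = closure {η} := by
      by_contra hne
      exact hy ⟨Z', ⟨hZ', hne⟩, hyZ'⟩
    rw [hZ'eq] at hyZ'
    exact hηV ((specializes_iff_mem_closure.mpr hyZ').mem_open hV hyV)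

theorem exists_isAffineOpen_ge_of_genericPoints (X : Scheme.{u})
    (hirr : (irreducibleComponents X).Finite) (T : Finset X)
    (hT : (T : Set X) ⊆ genericPoints X) (V : X.Opens) (hV : IsAffineOpen V) :
    ∃ W : X.Opens, IsAffineOpen W ∧ V ≤ W ∧ ∀ η ∈ T, η ∈ W := by
  classical
  induction T using Finset.induction_on with
  | empty => exact ⟨V, hV, le_rfl, by simp⟩
  | insert η T hη ih =>
    obtain ⟨W, hW, hVW, hTW⟩ := ih (fun x hx => hT (by simp [Finset.mem_coe.mp hx]))
    by_cases hηW : η ∈ W
    · refine ⟨W, hW, hVW, ?_⟩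
      intro x hx
      rw [Finset.mem_insert] at hx
      rcases hx with rfl | hx
      · exact hηW
      · exact hTW x hx
    · obtain ⟨O, hO, hηO, hOW⟩ :=
        exists_open_disjoint_of_mem_genericPoints hirr (hT (by simp)) W.2 hηW
      obtain ⟨W', hW', hηW', hW'O⟩ :=
        exists_isAffineOpen_mem_and_subset (X := X) (U := ⟨O, hO⟩) hηO
      have hdisj : Disjoint W W' := by
        rw [← Opens.coe_disjoint]
        exact (hOW.mono_left hW'O).symm
      refine ⟨W ⊔ W', hW.sup_of_disjoint hW' hdisj, hVW.trans le_sup_left, ?_⟩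
      intro x hx
      rw [Finset.mem_insert] at hx
      rcases hx with rfl | hx
      · exact Or.inr hηW'
      · exact Or.inl (hTW x hx)

/-- a quasi-compact quasi-separated scheme with finitely many irreducible components has a finite
affine open cover whose intersection is dense (and quasi-compact). -/
theorem exists_affine_cover (X : Scheme.{u}) [CompactSpace X] [QuasiSeparatedSpace X]
    (hirr : (irreducibleComponents X).Finite) :
    ∃ (t : Finset X) (W : X → X.Opens) (U : X.Opens), (∀ x, IsAffineOpen (W x)) ∧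
      (∀ y : X, ∃ x ∈ t, y ∈ W x) ∧ (∀ x ∈ t, U ≤ W x) ∧ Dense (U : Set X) ∧
      IsCompact (U : Set X) := by
  classical
  have hG : (genericPoints X).Finite := genericPoints.finite hirr
  have key : ∀ x : X, ∃ W : X.Opens, IsAffineOpen W ∧ x ∈ W ∧ ∀ η ∈ genericPoints X, η ∈ W := by
    intro x
    obtain ⟨V, hV, hxV, -⟩ := exists_isAffineOpen_mem_and_subset (X := X) (x := x) (U := ⊤) trivial
    obtain ⟨W, hW, hVW, hGW⟩ := exists_isAffineOpen_ge_of_genericPoints X hirr hG.toFinset
      (by simp) V hV
    exact ⟨W, hW, hVW hxV, fun η hη => hGW η (hG.mem_toFinset.mpr hη)⟩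
  choose W hW hxW hGW using key
  obtain ⟨t, ht⟩ := isCompact_univ.elim_finite_subcover (fun x => ((W x : X.Opens) : Set X))
    (fun x => (W x).2) (fun x _ => Set.mem_iUnion.mpr ⟨x, hxW x⟩)
  have hind : ∀ t : Finset X, IsCompact ((t.inf W : X.Opens) : Set X) ∧
      genericPoints X ⊆ ((t.inf W : X.Opens) : Set X) := by
    intro t
    induction t using Finset.induction_on with
    | empty =>
      rw [Finset.inf_empty]
      exact ⟨isCompact_univ, fun _ _ => trivial⟩
    | insert a t ha ih =>
      rw [Finset.inf_insert]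
      refine ⟨?_, fun η hη => ⟨hGW a η hη, ih.2 hη⟩⟩
      exact QuasiSeparatedSpace.inter_isCompact _ _ (W a).2 (hW a).isCompact (t.inf W).2 ih.1
  refine ⟨t, W, t.inf W, hW, ?_, fun x hx => Finset.inf_le hx, ?_, (hind t).1⟩
  · intro y
    have := ht (Set.mem_univ y)
    simp only [Set.mem_iUnion] at this
    obtain ⟨x, hx, hy⟩ := this
    exact ⟨x, hx, hy⟩
  · rw [dense_iff_closure_eq, ← Set.univ_subset_iff, ← genericPoints.closure (α := X)]
    exact closure_mono (hind t).2

end Groth.Agent.Lib.R2H3.ChowTop
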