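import Mathlib
import Groth.Agent.Lib.R2H3ChowDense
import Groth.Agent.Lib.R2H3ChowAffine
import Groth.Agent.Lib.R2H3ChowProd
import Groth.Agent.Lib.R2H3ChowTop
import Groth.Agent.S9705

set_option autoImplicit false
set_option linter.unusedSectionVars false
universe u
open CategoryTheory CategoryTheory.Limits AlgebraicGeometry TopologicalSpace Opposite

namespace Groth.Agent.Lib.R2H3.ChowMain

open Groth.Agent.Lib.R2H3.ChowDense Groth.Agent.Lib.R2H3.ChowAffine
  Groth.Agent.Lib.R2H3.ChowProd Groth.Agent.Lib.R2H3.ChowTop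

/-- Chow's lemma over a quasi-compact quasi-separated base, for `X` with finitely many irreducible
components. -/
theorem chow_qcqs {X S : Scheme.{u}} (f : X ⟶ S) [CompactSpace S] [QuasiSeparatedSpace S]
    [IsSeparated f] [LocallyOfFiniteType f] [QuasiCompact f]
    (hirr : (irreducibleComponents (X : Type u)).Finite) :
    ∃ (n : ℕ) (X' : Scheme.{u}) (π : X' ⟶ X) (j : X' ⟶ CohB1.ProjSpaceOver n S),
      IsImmersion j ∧ j ≫ CohB1.ProjSpaceOver.toBase n S = π ≫ f ∧ IsProper π ∧ Surjective π ∧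
      ∃ U : X.Opens, Dense (U : Set X) ∧ IsIso (π ∣_ U) := by
  have hXc : CompactSpace X := QuasiCompact.compactSpace_of_compactSpace f
  have hXq : QuasiSeparatedSpace X := quasiSeparatedSpace_of_quasiSeparated f
  rcases isEmpty_or_nonempty X with hX | hX
  · refine ⟨0, X, 𝟙 X, (isInitialOfIsEmpty (X := X)).to _, inferInstance,
      (isInitialOfIsEmpty (X := X)).hom_ext _ _, inferInstance, inferInstance, ⊤, ?_, inferInstance⟩
    intro x
    exact (hX.false x).elim
  obtain ⟨t, W, U, hW, hcov, hU, hdense, hUc⟩ := exists_affine_cover X hirr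
  have : CompactSpace U.toScheme := isCompact_iff_compactSpace.mp hUc
  have : QuasiCompact U.ι := inferInstance
  obtain ⟨x₀⟩ := hX
  obtain ⟨k₀, hk₀, -⟩ := hcov x₀
  -- the index type
  let K : Type u := {x // x ∈ t}
  let Uk : K → X.Opens := fun k => W k.1
  have hcov' : ⨆ k, Uk k = ⊤ := by
    rw [eq_top_iff]
    intro y _
    obtain ⟨x, hx, hy⟩ := hcov y
    exact Opens.mem_iSup.mpr ⟨⟨x, hx⟩, hy⟩
  have hU' : ∀ k, U ≤ Uk k := fun k => hU k.1 k.2
  have haff : ∀ k, IsAffine (Uk k).toScheme := fun k => hW k.1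
  have key : ∀ k : K, ∃ (n : ℕ) (j : (Uk k).toScheme ⟶ CohB1.ProjSpaceOver n S), IsImmersion j ∧
      j ≫ CohB1.ProjSpaceOver.toBase n S = (Uk k).ι ≫ f := fun k =>
    exists_immersion_projSpace ((Uk k).ι ≫ f)
  choose n j hjimm hj using key
  obtain ⟨Q, t', N, c, g, hc, hct, hgt, hq⟩ := exists_product (U.ι ≫ f) (Finset.univ : Finset K)
    ⟨⟨k₀, hk₀⟩, Finset.mem_univ _⟩ n (fun k => X.homOfLE (hU' k) ≫ j k) (fun k => by
      rw [Category.assoc, hj k, ← Category.assoc, X.homOfLE_ι])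
  have key2 : ∀ k : K, ∃ q : Q ⟶ CohB1.ProjSpaceOver (n k) S,
      q ≫ CohB1.ProjSpaceOver.toBase (n k) S = t' ∧ g ≫ q = X.homOfLE (hU' k) ≫ j k :=
    fun k => hq k (Finset.mem_univ _)
  choose q hq1 hq2 using key2
  have hprop : ∀ m, IsProper (CohB1.ProjSpaceOver.toBase m S) :=
    fun m => Groth.Agent.S9705.isProper_toBase m S
  have : IsProper t' := by
    rw [← hct]
    infer_instance
  obtain ⟨X', π, h, hπ, hπs, hiso, himm, hht⟩ := chow_core f t' Uk hcov' U hU' hdense
    (fun k => CohB1.ProjSpaceOver (n k) S) (fun k => CohB1.ProjSpaceOver.toBase (n k) S)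
    j hj q hq1 g hgt hq2
  refine ⟨N, X', π, h ≫ c, inferInstance, ?_, hπ, hπs, U, hdense, hiso⟩
  rw [Category.assoc, hct, hht]

end Groth.Agent.Lib.R2H3.ChowMain
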