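import Mathlib
import Groth.Agent.Lib.Helper22NA13
import Groth.Agent.Lib.H9Lim3
import Groth.Agent.Lib.R2H3ChowMain
import Groth.Agent.S0591
import Groth.Agent.S9190
import Groth.Agent.S9693

set_option autoImplicit false
set_option linter.unusedSectionVars false
universe u
open CategoryTheory CategoryTheory.Limits AlgebraicGeometry TopologicalSpace Opposite

namespace Groth.Agent.Lib.R2H3.ChowApprox

open Groth.Agent.Lib.Helper22 Groth.Agent.Lib.Helper22.FTIdeal Groth.Agent.Lib.Helper22.FTLimit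

/-- Stacks 09ZR: a separated morphism of finite type over a quasi-separated base, with
quasi-compact source, factors as a closed immersion followed by a separated morphism of finite
presentation. -/
theorem exists_closedImmersion_fp_sep {X S : Scheme.{u}} (f : X ⟶ S) [LocallyOfFiniteType f]
    [IsSeparated f] [CompactSpace X] [QuasiSeparatedSpace S] :
    ∃ (Y : Scheme.{u}) (f' : Y ⟶ S) (ι : X ⟶ Y), LocallyOfFinitePresentation f' ∧
      QuasiCompact f' ∧ IsSeparated f' ∧ IsClosedImmersion ι ∧ ι ≫ f' = f := by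
  have : QuasiSeparatedSpace X := quasiSeparatedSpace_of_quasiSeparated f
  obtain ⟨Y, f', j, h1, h2, h3, h4, h5, h6, h7⟩ := NA13.exists_closedImmersion_fp f
  have hconn : IsConnected (Idx j.ker)ᵒᵖ := IsCofiltered.isConnected _
  have hlim : IsLimit ((Over.map f').mapCone (cone j.ker)) := by
    refine isLimitOfReflects (Over.forget S) ?_
    exact isLimitOfPreserves (Over.forget Y) (coneIsLimit j.ker)
  have hprops : ∀ i : (Idx j.ker)ᵒᵖ, CompactSpace i.unop.1.subscheme ∧
      QuasiCompact (i.unop.1.subschemeι ≫ f') ∧ QuasiSeparated (i.unop.1.subschemeι ≫ f') := by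
    intro i
    have h2 : CompactSpace i.unop.1.subscheme :=
      (quasiCompact_iff_compactSpace i.unop.1.subschemeι).mp inferInstance
    exact ⟨h2, inferInstance, inferInstance⟩
  have hsep : IsSeparated ((Over.map f').mapCone (cone j.ker)).pt.hom := by
    change IsSeparated (j.ker.subschemeι ≫ f')
    have e : j.toImage ≫ j.ker.subschemeι ≫ f' = f := by
      rw [← Category.assoc, j.toImage_imageι, h7]
    have : IsIso j.toImage := inferInstance
    have e' : j.ker.subschemeι ≫ f' = inv j.toImage ≫ f := by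
      rw [← e, IsIso.inv_hom_id_assoc]
    rw [e']
    infer_instance
  obtain ⟨i, hi⟩ := H9Lim3.exists_isSeparated_stage (FTLimit.diag j.ker ⋙ Over.map f')
    ((Over.map f').mapCone (cone j.ker)) hlim
    (fun i k a => by
      change IsAffineHom ((FTLimit.diag j.ker).map a).left
      rw [FTLimit.diag_map_left]
      have hle : k.unop.1 ≤ i.unop.1 := a.unop.le
      have : IsClosedImmersion (Scheme.IdealSheafData.inclusion hle ≫ k.unop.1.subschemeι) := by
        rw [Scheme.IdealSheafData.inclusion_subschemeι]; infer_instance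
      have : IsClosedImmersion (Scheme.IdealSheafData.inclusion hle) :=
        IsClosedImmersion.of_comp (Scheme.IdealSheafData.inclusion hle) k.unop.1.subschemeι
      exact (inferInstance : IsAffineHom (Scheme.IdealSheafData.inclusion hle)))
    (fun i => (hprops i).1) (fun i => (hprops i).2.1) (fun i => (hprops i).2.2) hsep
  have hi' : IsSeparated (i.unop.1.subschemeι ≫ f') := hi
  have hfp : LocallyOfFinitePresentation i.unop.1.subschemeι :=
    locallyOfFinitePresentation_subschemeι _ i.unop.2.2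
  have hcl : IsClosedImmersion (Scheme.IdealSheafData.inclusion i.unop.2.1) := by
    have : IsClosedImmersion (Scheme.IdealSheafData.inclusion i.unop.2.1 ≫
        i.unop.1.subschemeι) := by
      rw [Scheme.IdealSheafData.inclusion_subschemeι]; infer_instance
    exact IsClosedImmersion.of_comp (Scheme.IdealSheafData.inclusion i.unop.2.1)
      i.unop.1.subschemeι
  refine ⟨i.unop.1.subscheme, i.unop.1.subschemeι ≫ f',
    j.toImage ≫ Scheme.IdealSheafData.inclusion i.unop.2.1, inferInstance, inferInstance, hi',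
    inferInstance, ?_⟩
  rw [Category.assoc, ← Category.assoc (Scheme.IdealSheafData.inclusion _),
    Scheme.IdealSheafData.inclusion_subschemeι, ← h7, ← Category.assoc]
  congr 1
  exact j.toImage_imageι

/-- Chow data are stable under base change. -/
theorem chow_baseChange {X S X₀ S₀ : Scheme.{u}} (f : X ⟶ S) (F : X₀ ⟶ S₀) (ψ : X ⟶ X₀)
    (b : S ⟶ S₀) (hpb : IsPullback ψ f F b) (n : ℕ) {X₁ : Scheme.{u}} (π₁ : X₁ ⟶ X₀)
    (j₁ : X₁ ⟶ CohB1.ProjSpaceOver n S₀) [IsImmersion j₁]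
    (hj₁ : j₁ ≫ CohB1.ProjSpaceOver.toBase n S₀ = π₁ ≫ F) [IsProper π₁] [Surjective π₁] :
    ∃ (X' : Scheme.{u}) (π : X' ⟶ X) (j : X' ⟶ CohB1.ProjSpaceOver n S),
      IsImmersion j ∧ j ≫ CohB1.ProjSpaceOver.toBase n S = π ≫ f ∧ IsProper π ∧ Surjective π := by
  obtain ⟨q, hq⟩ := Groth.Agent.S9693.projSpaceOver_isPullback n b
  have comm : (pullback.fst π₁ ψ ≫ j₁) ≫ CohB1.ProjSpaceOver.toBase n S₀ =
      (pullback.snd π₁ ψ ≫ f) ≫ b := by
    rw [Category.assoc, hj₁, ← Category.assoc, pullback.condition, Category.assoc, hpb.w,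
      Category.assoc]
  have hj1 : hq.lift (pullback.fst π₁ ψ ≫ j₁) (pullback.snd π₁ ψ ≫ f) comm ≫ q =
      pullback.fst π₁ ψ ≫ j₁ := hq.lift_fst _ _ _
  have hj2 : hq.lift (pullback.fst π₁ ψ ≫ j₁) (pullback.snd π₁ ψ ≫ f) comm ≫
      CohB1.ProjSpaceOver.toBase n S = pullback.snd π₁ ψ ≫ f := hq.lift_snd _ _ _
  have hbig : IsPullback (pullback.fst π₁ ψ) (pullback.snd π₁ ψ ≫ f) (π₁ ≫ F) b :=
    (IsPullback.of_hasPullback π₁ ψ).paste_vert hpb
  have hbig' : IsPullback (pullback.fst π₁ ψ)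
      (hq.lift (pullback.fst π₁ ψ ≫ j₁) (pullback.snd π₁ ψ ≫ f) comm ≫
        CohB1.ProjSpaceOver.toBase n S) (j₁ ≫ CohB1.ProjSpaceOver.toBase n S₀) b := by
    rw [hj2, hj₁]; exact hbig
  have htop : IsPullback (pullback.fst π₁ ψ)
      (hq.lift (pullback.fst π₁ ψ ≫ j₁) (pullback.snd π₁ ψ ≫ f) comm) j₁ q :=
    IsPullback.of_bot hbig' hj1.symm hq
  refine ⟨pullback π₁ ψ, pullback.snd π₁ ψ,
    hq.lift (pullback.fst π₁ ψ ≫ j₁) (pullback.snd π₁ ψ ≫ f) comm, ?_, hj2, inferInstance,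
    inferInstance⟩
  exact MorphismProperty.of_isPullback (P := @IsImmersion) htop inferInstance

/-- Chow's lemma over a Noetherian base (without the dense open). -/
theorem chow_noeth {X S : Scheme.{u}} (f : X ⟶ S) [IsNoetherian S] [IsSeparated f]
    [LocallyOfFiniteType f] [QuasiCompact f] :
    ∃ (n : ℕ) (X' : Scheme.{u}) (π : X' ⟶ X) (j : X' ⟶ CohB1.ProjSpaceOver n S),
      IsImmersion j ∧ j ≫ CohB1.ProjSpaceOver.toBase n S = π ≫ f ∧ IsProper π ∧ Surjective π := by
  have : IsLocallyNoetherian X := LocallyOfFiniteType.isLocallyNoetherian f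
  have : CompactSpace X := QuasiCompact.compactSpace_of_compactSpace f
  have : IsNoetherian X := {}
  obtain ⟨n, X', π, j, h1, h2, h3, h4, -⟩ := Groth.Agent.Lib.R2H3.ChowMain.chow_qcqs f
    TopologicalSpace.NoetherianSpace.finite_irreducibleComponents
  exact ⟨n, X', π, j, h1, h2, h3, h4⟩

/-- Chow's lemma for separated morphisms of finite presentation over the limit of a good system. -/
theorem chow_fp_cone {A : Type u} [Preorder A] (DA : Aᵒᵖ ⥤ Scheme.{u}) (cA : Cone DA)
    (hcA : IsLimit cA) (hA : NA5.GoodSys DA) {Y : Scheme.{u}} (f : Y ⟶ cA.pt)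
    [IsSeparated f] [LocallyOfFinitePresentation f] [QuasiCompact f] :
    ∃ (n : ℕ) (Y' : Scheme.{u}) (π : Y' ⟶ Y) (j : Y' ⟶ CohB1.ProjSpaceOver n cA.pt),
      IsImmersion j ∧ j ≫ CohB1.ProjSpaceOver.toBase n cA.pt = π ≫ f ∧ IsProper π ∧
        Surjective π := by
  have := hA.dir
  have := hA.ne
  have : IsFiltered A := isFiltered_of_directed_le_nonempty A
  have haff : ∀ (x y : Aᵒᵖ) (a : x ⟶ y), IsAffineHom (DA.map a) := fun x y a => hA.aff a
  have hcpt := hA.cpt
  have hlft := hA.lft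
  have hqs : ∀ x, QuasiSeparatedSpace (DA.obj x) := fun x => NA4.quasiSeparatedSpace_of_lft _
  obtain ⟨i, Yi, fi, g, hfi1, hfi2, hfi3, hpb⟩ := Groth.Agent.S0591.result DA cA hcA Y f
  have : CompactSpace Yi := QuasiCompact.compactSpace_of_compactSpace fi
  have : QuasiSeparatedSpace Yi := quasiSeparatedSpace_of_quasiSeparated fi
  obtain ⟨k, φ, Xk, Yk, fk, gk, pY, pX, hP1, hP2, hsep⟩ :=
    Groth.Agent.S9190.result DA cA hcA i fi (𝟙 _) f (𝟙 cA.pt) (cA.π.app i) g
      (IsPullback.id_vert (cA.π.app i)) hpb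
  have : IsIso gk := hP1.isIso_snd_of_isIso
  have hR : IsPullback pX (fk ≫ gk) fi (DA.map φ) := by
    have := hP2.paste_vert hP1
    rwa [Category.comp_id] at this
  have hcomm : g ≫ fi = (f ≫ cA.π.app k) ≫ DA.map φ := by
    rw [hpb.w, Category.assoc, cA.w φ]
  have hψ1 : hR.lift g (f ≫ cA.π.app k) hcomm ≫ pX = g := hR.lift_fst _ _ _
  have hψ2 : hR.lift g (f ≫ cA.π.app k) hcomm ≫ fk ≫ gk = f ≫ cA.π.app k := hR.lift_snd _ _ _
  have hL : IsPullback (hR.lift g (f ≫ cA.π.app k) hcomm) f (fk ≫ gk) (cA.π.app k) := by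
    refine IsPullback.of_right ?_ hψ2 hR
    rw [hψ1, cA.w φ]
    exact hpb
  have : LocallyOfFinitePresentation fk :=
    MorphismProperty.of_isPullback (P := @LocallyOfFinitePresentation) hP2 hfi1
  have : QuasiCompact fk := MorphismProperty.of_isPullback (P := @QuasiCompact) hP2 hfi2
  have : IsLocallyNoetherian (DA.obj k) := NA4.isLocallyNoetherian_of_lft _
  have : IsNoetherian (DA.obj k) := {}
  obtain ⟨n, X₁, π₁, j₁, h1, h2, h3, h4⟩ := chow_noeth (fk ≫ gk)
  obtain ⟨Y', π, j, h5, h6, h7, h8⟩ := chow_baseChange f (fk ≫ gk) _ _ hL n π₁ j₁ h2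
  exact ⟨n, Y', π, j, h5, h6, h7, h8⟩

/-- Chow's lemma for separated morphisms of finite presentation over a quasi-compact
quasi-separated base. -/
theorem chow_fp {Y S : Scheme.{u}} (f : Y ⟶ S) [CompactSpace S] [QuasiSeparatedSpace S]
    [IsSeparated f] [LocallyOfFinitePresentation f] [QuasiCompact f] :
    ∃ (n : ℕ) (Y' : Scheme.{u}) (π : Y' ⟶ Y) (j : Y' ⟶ CohB1.ProjSpaceOver n S),
      IsImmersion j ∧ j ≫ CohB1.ProjSpaceOver.toBase n S = π ≫ f ∧ IsProper π ∧ Surjective π := by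
  obtain ⟨A, pA, DA, cA, hcA, eA, hA⟩ := NA10.exists_goodSys S
  obtain ⟨n, X₁, π₁, j₁, h1, h2, h3, h4⟩ := chow_fp_cone DA cA hcA hA (f ≫ eA.inv)
  have hpb : IsPullback (𝟙 Y) f (f ≫ eA.inv) eA.inv :=
    IsPullback.of_horiz_isIso ⟨by rw [Category.id_comp]⟩
  obtain ⟨Y', π, j, h5, h6, h7, h8⟩ := chow_baseChange f (f ≫ eA.inv) _ _ hpb n π₁ j₁ h2
  exact ⟨n, Y', π, j, h5, h6, h7, h8⟩

/-- Chow's lemma over a quasi-compact quasi-separated base. -/
theorem chow_ft {X S : Scheme.{u}} (f : X ⟶ S) [CompactSpace S] [QuasiSeparatedSpace S]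
    [IsSeparated f] [LocallyOfFiniteType f] [QuasiCompact f] :
    ∃ (n : ℕ) (X' : Scheme.{u}) (π : X' ⟶ X) (j : X' ⟶ CohB1.ProjSpaceOver n S),
      IsImmersion j ∧ j ≫ CohB1.ProjSpaceOver.toBase n S = π ≫ f ∧ IsProper π ∧ Surjective π := by
  have : CompactSpace X := QuasiCompact.compactSpace_of_compactSpace f
  obtain ⟨Y, f', ι, h1, h2, h3, h4, h5⟩ := exists_closedImmersion_fp_sep f
  obtain ⟨n, Y', πY, jY, h6, h7, h8, h9⟩ := chow_fp f'
  refine ⟨n, pullback πY ι, pullback.snd πY ι, pullback.fst πY ι ≫ jY, inferInstance, ?_,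
    inferInstance, inferInstance⟩
  rw [Category.assoc, h7, ← Category.assoc, pullback.condition, Category.assoc, h5]

end Groth.Agent.Lib.R2H3.ChowApprox
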