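import Mathlib
import Groth.Agent.Lib.R2H3ChowApprox
import Groth.Agent.S9189
import Groth.Agent.S9190
import Groth.Agent.S9705

set_option autoImplicit false
set_option linter.unusedSectionVars false
universe u
open CategoryTheory CategoryTheory.Limits AlgebraicGeometry TopologicalSpace Opposite

namespace Groth.Agent.Lib.R2H3.ProperDesc

open Groth.Agent.Lib.R2H3.ChowApprox

/-- base change of a morphism to a projective space, with the cartesian square made explicit. -/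
theorem projMap_baseChange {X S X₀ S₀ : Scheme.{u}} (f : X ⟶ S) (F : X₀ ⟶ S₀) (ψ : X ⟶ X₀)
    (b : S ⟶ S₀) (hpb : IsPullback ψ f F b) (n : ℕ) {X₁ : Scheme.{u}} (π₁ : X₁ ⟶ X₀)
    (j₁ : X₁ ⟶ CohB1.ProjSpaceOver n S₀)
    (hj₁ : j₁ ≫ CohB1.ProjSpaceOver.toBase n S₀ = π₁ ≫ F)
    (q : CohB1.ProjSpaceOver n S ⟶ CohB1.ProjSpaceOver n S₀)
    (hq : IsPullback q (CohB1.ProjSpaceOver.toBase n S) (CohB1.ProjSpaceOver.toBase n S₀) b) :
    ∃ j : pullback π₁ ψ ⟶ CohB1.ProjSpaceOver n S,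
      j ≫ CohB1.ProjSpaceOver.toBase n S = pullback.snd π₁ ψ ≫ f ∧
      IsPullback (pullback.fst π₁ ψ) j j₁ q := by
  have comm : (pullback.fst π₁ ψ ≫ j₁) ≫ CohB1.ProjSpaceOver.toBase n S₀ =
      (pullback.snd π₁ ψ ≫ f) ≫ b := by
    rw [Category.assoc, hj₁, ← Category.assoc, pullback.condition, Category.assoc, hpb.w,
      Category.assoc]
  have hj1 : hq.lift (pullback.fst π₁ ψ ≫ j₁) (pullback.snd π₁ ψ ≫ f) comm ≫ q =
      pullback.fst π₁ ψ ≫ j₁ := hq.lift_fst _ _ _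
  have hj2 : hq.lift (pullback.fst π₁ ψ ≫ j₁) (pullback.snd π₁ ψ ≫ f) comm ≫
      CohB1.ProjSpaceOver.toBase n S = pullback.snd π₁ ψ ≫ f := hq.lift_snd _ _ _
  have hbig : IsPullback (pullback.fst π₁ ψ) (pullback.snd π₁ ψ ≫ f) (π₁ ≫ F) b :=
    (IsPullback.of_hasPullback π₁ ψ).paste_vert hpb
  have hbig' : IsPullback (pullback.fst π₁ ψ)
      (hq.lift (pullback.fst π₁ ψ ≫ j₁) (pullback.snd π₁ ψ ≫ f) comm ≫
        CohB1.ProjSpaceOver.toBase n S) (j₁ ≫ CohB1.ProjSpaceOver.toBase n S₀) b := by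
    rw [hj2, hj₁]; exact hbig
  exact ⟨_, hj2, IsPullback.of_bot hbig' hj1.symm hq⟩

section rebase

variable {I : Type u} [SmallCategory I] {D : I ⥤ Scheme.{u}} {c : Cone D}
  {i₀ : I} {X₀ Y₀ : Scheme.{u}} {f₀ : X₀ ⟶ Y₀} {g₀ : Y₀ ⟶ D.obj i₀}
  {X Y : Scheme.{u}} {f : X ⟶ Y} {g : Y ⟶ c.pt} {qY : Y ⟶ Y₀} {qX : X ⟶ X₀}

/-- limit squares over a later stage. -/
theorem exists_rebase (hY : IsPullback qY g g₀ (c.π.app i₀)) (hX : IsPullback qX f f₀ qY)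
    {i : I} (φ : i ⟶ i₀) {Xi Yi : Scheme.{u}} {fi : Xi ⟶ Yi} {gi : Yi ⟶ D.obj i} {pY : Yi ⟶ Y₀}
    {pX : Xi ⟶ X₀} (hP1 : IsPullback pY gi g₀ (D.map φ)) (hP2 : IsPullback pX fi f₀ pY) :
    ∃ (qY' : Y ⟶ Yi) (qX' : X ⟶ Xi), IsPullback qY' g gi (c.π.app i) ∧
      IsPullback qX' f fi qY' := by
  have hcomm : qY ≫ g₀ = (g ≫ c.π.app i) ≫ D.map φ := by
    rw [hY.w, Category.assoc, c.w φ]
  have h1 : hP1.lift qY (g ≫ c.π.app i) hcomm ≫ pY = qY := hP1.lift_fst _ _ _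
  have h2 : hP1.lift qY (g ≫ c.π.app i) hcomm ≫ gi = g ≫ c.π.app i := hP1.lift_snd _ _ _
  have hY' : IsPullback (hP1.lift qY (g ≫ c.π.app i) hcomm) g gi (c.π.app i) := by
    refine IsPullback.of_right ?_ h2 hP1
    rw [h1, c.w φ]
    exact hY
  have hcomm2 : qX ≫ f₀ = (f ≫ hP1.lift qY (g ≫ c.π.app i) hcomm) ≫ pY := by
    rw [hX.w, Category.assoc, h1]
  have h3 : hP2.lift qX (f ≫ hP1.lift qY (g ≫ c.π.app i) hcomm) hcomm2 ≫ pX = qX :=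
    hP2.lift_fst _ _ _
  have h4 : hP2.lift qX (f ≫ hP1.lift qY (g ≫ c.π.app i) hcomm) hcomm2 ≫ fi =
      f ≫ hP1.lift qY (g ≫ c.π.app i) hcomm := hP2.lift_snd _ _ _
  refine ⟨_, _, hY', IsPullback.of_right ?_ h4 hP2⟩
  rw [h3, h1]
  exact hX

end rebase

/-- Stacks 081F: properness descends along limits. -/
theorem proper_descend {I : Type u} [SmallCategory I] [IsCofiltered I]
    (D : I ⥤ Scheme.{u}) (c : Cone D) (hc : IsLimit c)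
    [∀ (i j : I) (f : i ⟶ j), IsAffineHom (D.map f)] (i₀ : I) [CompactSpace (D.obj i₀)]
    [QuasiSeparatedSpace (D.obj i₀)] {X₀ Y₀ : Scheme.{u}} (f₀ : X₀ ⟶ Y₀) (g₀ : Y₀ ⟶ D.obj i₀)
    [CompactSpace X₀] [QuasiSeparatedSpace X₀] [CompactSpace Y₀] [QuasiSeparatedSpace Y₀]
    {X Y : Scheme.{u}} (f : X ⟶ Y) (g : Y ⟶ c.pt) (qY : Y ⟶ Y₀) (qX : X ⟶ X₀)
    (hY : IsPullback qY g g₀ (c.π.app i₀)) (hX : IsPullback qX f f₀ qY)
    [LocallyOfFiniteType f₀] [IsProper f] :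
    ∃ (i : I) (φ : i ⟶ i₀) (Xi Yi : Scheme.{u}) (fi : Xi ⟶ Yi) (gi : Yi ⟶ D.obj i) (pY : Yi ⟶ Y₀)
      (pX : Xi ⟶ X₀), IsPullback pY gi g₀ (D.map φ) ∧ IsPullback pX fi f₀ pY ∧ IsProper fi := by
  -- Step 1: separatedness
  obtain ⟨i₁, φ₁, X₁, Y₁, f₁, g₁, pY₁, pX₁, hP1, hP2, hsep⟩ :=
    Groth.Agent.S9190.result D c hc i₀ f₀ g₀ f g qY qX hY hX
  obtain ⟨qY₁, qX₁, hY₁, hX₁⟩ := exists_rebase hY hX φ₁ hP1 hP2
  have : IsAffineHom pY₁ :=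
    MorphismProperty.of_isPullback (P := @IsAffineHom) hP1.flip inferInstance
  have : IsAffineHom pX₁ :=
    MorphismProperty.of_isPullback (P := @IsAffineHom) hP2.flip inferInstance
  have : CompactSpace Y₁ := QuasiCompact.compactSpace_of_compactSpace pY₁
  have : QuasiSeparatedSpace Y₁ := quasiSeparatedSpace_of_quasiSeparated pY₁
  have : CompactSpace X₁ := QuasiCompact.compactSpace_of_compactSpace pX₁
  have : QuasiSeparatedSpace X₁ := quasiSeparatedSpace_of_quasiSeparated pX₁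
  have : CompactSpace (D.obj i₁) := QuasiCompact.compactSpace_of_compactSpace (D.map φ₁)
  have : QuasiSeparatedSpace (D.obj i₁) := quasiSeparatedSpace_of_quasiSeparated (D.map φ₁)
  have : LocallyOfFiniteType f₁ :=
    MorphismProperty.of_isPullback (P := @LocallyOfFiniteType) hP2 inferInstance
  have : QuasiCompact f₁ := inferInstance
  -- Step 2: Chow's lemma
  obtain ⟨n, X₁', π₁, j₁, hj₁imm, hj₁, hπ₁, hπ₁s⟩ := chow_ft f₁
  have hpropY₁ : IsProper (CohB1.ProjSpaceOver.toBase n Y₁) := Groth.Agent.S9705.isProper_toBase n Y₁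
  have hpropY : IsProper (CohB1.ProjSpaceOver.toBase n Y) := Groth.Agent.S9705.isProper_toBase n Y
  -- Step 3: base change to the limit
  obtain ⟨q, hq⟩ := Groth.Agent.S9693.projSpaceOver_isPullback n qY₁
  obtain ⟨j, hj, hjpb⟩ := projMap_baseChange f f₁ qX₁ qY₁ hX₁ n π₁ j₁ hj₁ q hq
  have hjimm : IsImmersion j := MorphismProperty.of_isPullback (P := @IsImmersion) hjpb hj₁imm
  have : IsProper (j ≫ CohB1.ProjSpaceOver.toBase n Y) := by rw [hj]; infer_instance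
  have : IsProper j := IsProper.of_comp j (CohB1.ProjSpaceOver.toBase n Y)
  have hjcl : IsClosedImmersion j :=
    IsClosedImmersion.of_isPreimmersion j j.isClosedMap.isClosed_range
  have hY' : IsPullback q (CohB1.ProjSpaceOver.toBase n Y ≫ g)
      (CohB1.ProjSpaceOver.toBase n Y₁ ≫ g₁) (c.π.app i₁) := hq.paste_vert hY₁
  have : CompactSpace X₁' := QuasiCompact.compactSpace_of_compactSpace π₁
  have : QuasiSeparatedSpace X₁' := quasiSeparatedSpace_of_quasiSeparated π₁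
  have : CompactSpace (CohB1.ProjSpaceOver n Y₁) :=
    QuasiCompact.compactSpace_of_compactSpace (CohB1.ProjSpaceOver.toBase n Y₁)
  have : QuasiSeparatedSpace (CohB1.ProjSpaceOver n Y₁) :=
    quasiSeparatedSpace_of_quasiSeparated (CohB1.ProjSpaceOver.toBase n Y₁)
  -- Step 4: descend the closed immersion
  obtain ⟨i₂, φ₂, X₂', P₂, j₂, gP₂, pP, pX', hR1, hR2, hj₂⟩ :=
    Groth.Agent.S9189.result D c hc i₁ j₁ (CohB1.ProjSpaceOver.toBase n Y₁ ≫ g₁) j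
      (CohB1.ProjSpaceOver.toBase n Y ≫ g) q (pullback.fst π₁ qX₁) hY' hjpb
  -- Step 5: the stage `i₂`
  obtain ⟨Y₂, pY₂, g₂, hQ1⟩ : ∃ (Y₂ : Scheme.{u}) (pY₂ : Y₂ ⟶ Y₁) (g₂ : Y₂ ⟶ D.obj i₂),
      IsPullback pY₂ g₂ g₁ (D.map φ₂) := ⟨_, _, _, IsPullback.of_hasPullback _ _⟩
  obtain ⟨X₂, pX₂, f₂, hQ2⟩ : ∃ (X₂ : Scheme.{u}) (pX₂ : X₂ ⟶ X₁) (f₂ : X₂ ⟶ Y₂),
      IsPullback pX₂ f₂ f₁ pY₂ := ⟨_, _, _, IsPullback.of_hasPullback _ _⟩
  refine ⟨i₂, φ₂ ≫ φ₁, X₂, Y₂, f₂, g₂, pY₂ ≫ pY₁, pX₂ ≫ pX₁, ?_, hQ2.paste_horiz hP2, ?_⟩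
  · rw [D.map_comp]
    exact hQ1.paste_horiz hP1
  -- properness of `f₂`
  have hsep₂ : IsSeparated f₂ := MorphismProperty.of_isPullback (P := @IsSeparated) hQ2 hsep
  have hlft₂ : LocallyOfFiniteType f₂ :=
    MorphismProperty.of_isPullback (P := @LocallyOfFiniteType) hQ2 inferInstance
  have hqc₂ : QuasiCompact f₂ := MorphismProperty.of_isPullback (P := @QuasiCompact) hQ2 inferInstance
  -- the projection `P₂ ⟶ Y₂`
  have hcommT : (pP ≫ CohB1.ProjSpaceOver.toBase n Y₁) ≫ g₁ = gP₂ ≫ D.map φ₂ := by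
    rw [Category.assoc]; exact hR1.w
  obtain ⟨T, hT1, hT2⟩ : ∃ T : P₂ ⟶ Y₂, T ≫ pY₂ = pP ≫ CohB1.ProjSpaceOver.toBase n Y₁ ∧
      T ≫ g₂ = gP₂ := ⟨hQ1.lift _ _ hcommT, hQ1.lift_fst _ _ _, hQ1.lift_snd _ _ _⟩
  have hT : IsPullback pP T (CohB1.ProjSpaceOver.toBase n Y₁) pY₂ := by
    refine IsPullback.of_bot ?_ hT1.symm hQ1
    rw [hT2]
    exact hR1
  have hTprop : IsProper T := MorphismProperty.of_isPullback (P := @IsProper) hT hpropY₁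
  -- the map `X₂' ⟶ X₂`
  have hcommρ : (pX' ≫ π₁) ≫ f₁ = (j₂ ≫ T) ≫ pY₂ := by
    rw [Category.assoc, ← hj₁, ← Category.assoc, hR2.w, Category.assoc, Category.assoc, hT1]
  obtain ⟨ρ, hρ1, hρ2⟩ : ∃ ρ : X₂' ⟶ X₂, ρ ≫ pX₂ = pX' ≫ π₁ ∧ ρ ≫ f₂ = j₂ ≫ T :=
    ⟨hQ2.lift _ _ hcommρ, hQ2.lift_fst _ _ _, hQ2.lift_snd _ _ _⟩
  have hρpb : IsPullback pX' ρ π₁ pX₂ := by
    refine IsPullback.of_bot ?_ hρ1.symm hQ2
    rw [hρ2, ← hj₁]
    exact hR2.paste_vert hT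
  have hρs : Surjective ρ := MorphismProperty.of_isPullback (P := @Surjective) hρpb hπ₁s
  have : UniversallyClosed (ρ ≫ f₂) := by
    rw [hρ2]
    infer_instance
  have : UniversallyClosed f₂ := UniversallyClosed.of_comp_surjective ρ f₂
  exact {}

end Groth.Agent.Lib.R2H3.ProperDesc
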