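import Mathlib
import Groth.Agent.Lib.R2H3ChowApprox
import Groth.Agent.S0594

set_option autoImplicit false
set_option linter.unusedSectionVars false
universe u
open CategoryTheory CategoryTheory.Limits AlgebraicGeometry TopologicalSpace Opposite

namespace Groth.Agent.Lib.R2H3.ProperLim

open Groth.Agent.Lib.R2H3.ChowApprox
open Groth.Agent.Lib.Helper22 Groth.Agent.Lib.Helper22.FTIdeal Groth.Agent.Lib.Helper22.FTLimit

/-- a proper scheme over a quasi-compact quasi-separated base is a closed subscheme of a proper
scheme of finite presentation over the base. -/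
theorem exists_closedImmersion_proper_fp {X S : Scheme.{u}} (f : X ⟶ S) [IsProper f]
    [CompactSpace S] [QuasiSeparatedSpace S] :
    ∃ (Y : Scheme.{u}) (f' : Y ⟶ S) (ι : X ⟶ Y), LocallyOfFinitePresentation f' ∧ IsProper f' ∧
      IsClosedImmersion ι ∧ ι ≫ f' = f := by
  have : CompactSpace X := QuasiCompact.compactSpace_of_compactSpace f
  obtain ⟨Y, f', ι, h1, h2, h3, h4, h5⟩ := exists_closedImmersion_fp_sep f
  have : CompactSpace Y := QuasiCompact.compactSpace_of_compactSpace f'
  have : QuasiSeparatedSpace Y := quasiSeparatedSpace_of_quasiSeparated f'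
  obtain ⟨n, Y', π, j, hj1, hj2, hπ, hπs⟩ := chow_fp f'
  have hprop : IsProper (CohB1.ProjSpaceOver.toBase n S) := Groth.Agent.S9705.isProper_toBase n S
  have : CompactSpace (CohB1.ProjSpaceOver n S) :=
    QuasiCompact.compactSpace_of_compactSpace (CohB1.ProjSpaceOver.toBase n S)
  have : QuasiSeparatedSpace (CohB1.ProjSpaceOver n S) :=
    quasiSeparatedSpace_of_quasiSeparated (CohB1.ProjSpaceOver.toBase n S)
  have : CompactSpace Y' := QuasiCompact.compactSpace_of_compactSpace π
  have : QuasiSeparatedSpace Y' := quasiSeparatedSpace_of_quasiSeparated π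
  have hconn : IsConnected (Idx ι.ker)ᵒᵖ := IsCofiltered.isConnected _
  -- the pulled back system
  have hlimE : IsLimit ((Over.pullback π).mapCone (cone ι.ker)) :=
    isLimitOfPreserves (Over.pullback π) (coneIsLimit ι.ker)
  have hlimD : IsLimit ((Over.forget Y').mapCone ((Over.pullback π).mapCone (cone ι.ker))) :=
    isLimitOfPreserves (Over.forget Y') hlimE
  obtain ⟨t, ht⟩ : ∃ t : (FTLimit.diag ι.ker ⋙ Over.pullback π) ⋙ Over.forget Y' ⟶
      (Functor.const _).obj (CohB1.ProjSpaceOver n S), ∀ J : (Idx ι.ker)ᵒᵖ, t.app J =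
      pullback.snd J.unop.1.subschemeι π ≫ j :=
    ⟨{ app := fun J => pullback.snd J.unop.1.subschemeι π ≫ j
       naturality := fun J K a => by
        change ((FTLimit.diag ι.ker ⋙ Over.pullback π).map a).left ≫
          ((FTLimit.diag ι.ker ⋙ Over.pullback π).obj K).hom ≫ j =
          (((FTLimit.diag ι.ker ⋙ Over.pullback π).obj J).hom ≫ j) ≫ 𝟙 _
        rw [Category.comp_id, ← Category.assoc, Over.w] }, fun _ => rfl⟩
  have htrans : ∀ (J K : (Idx ι.ker)ᵒᵖ) (a : J ⟶ K),
      IsClosedImmersion (((FTLimit.diag ι.ker ⋙ Over.pullback π) ⋙ Over.forget Y').map a) := by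
    intro J K a
    have h1 : IsClosedImmersion (pullback.snd K.unop.1.subschemeι π) := inferInstance
    have h2 : IsClosedImmersion (pullback.snd J.unop.1.subschemeι π) := inferInstance
    obtain ⟨m, hm, e⟩ : ∃ m : pullback J.unop.1.subschemeι π ⟶ pullback K.unop.1.subschemeι π,
        m = ((FTLimit.diag ι.ker ⋙ Over.pullback π) ⋙ Over.forget Y').map a ∧
        m ≫ pullback.snd K.unop.1.subschemeι π = pullback.snd J.unop.1.subschemeι π :=
      ⟨_, rfl, Over.w ((FTLimit.diag ι.ker ⋙ Over.pullback π).map a)⟩
    have : IsClosedImmersion (m ≫ pullback.snd K.unop.1.subschemeι π) := by rw [e]; exact h2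
    have hm' : IsClosedImmersion m := IsClosedImmersion.of_comp m (pullback.snd K.unop.1.subschemeι π)
    rw [← hm]
    exact hm'
  have hcpt : ∀ J, CompactSpace (((FTLimit.diag ι.ker ⋙ Over.pullback π) ⋙ Over.forget Y').obj J) := by
    intro J
    have h : CompactSpace ↥(pullback J.unop.1.subschemeι π) :=
      QuasiCompact.compactSpace_of_compactSpace (pullback.snd J.unop.1.subschemeι π)
    exact h
  have hqs : ∀ J, QuasiSeparatedSpace
      (((FTLimit.diag ι.ker ⋙ Over.pullback π) ⋙ Over.forget Y').obj J) := by
    intro J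
    have h : QuasiSeparatedSpace ↥(pullback J.unop.1.subschemeι π) :=
      quasiSeparatedSpace_of_quasiSeparated (pullback.snd J.unop.1.subschemeι π)
    exact h
  have hlft : ∀ J, LocallyOfFiniteType (t.app J) := by
    intro J
    have : LocallyOfFiniteType (pullback.snd J.unop.1.subschemeι π ≫ j) := inferInstance
    rw [ht]
    exact this
  -- the limit is a closed subscheme of the projective space
  have hιf : IsProper (ι.ker.subschemeι ≫ f') := by
    have e : ι.toImage ≫ ι.ker.subschemeι ≫ f' = f := by
      rw [← Category.assoc, ι.toImage_imageι, h5]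
    have : IsIso ι.toImage := inferInstance
    have e' : ι.ker.subschemeι ≫ f' = inv ι.toImage ≫ f := by
      rw [← e, IsIso.inv_hom_id_assoc]
    rw [e']
    infer_instance
  have hapex : IsClosedImmersion (pullback.snd ι.ker.subschemeι π ≫ j) := by
    have h1 : IsProper ((pullback.snd ι.ker.subschemeι π ≫ j) ≫
        CohB1.ProjSpaceOver.toBase n S) := by
      have e : (pullback.snd ι.ker.subschemeι π ≫ j) ≫ CohB1.ProjSpaceOver.toBase n S =
          pullback.fst ι.ker.subschemeι π ≫ ι.ker.subschemeι ≫ f' := by
        rw [Category.assoc, hj2, ← Category.assoc, ← pullback.condition, Category.assoc]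
      rw [e]
      infer_instance
    have h2 : IsProper (pullback.snd ι.ker.subschemeι π ≫ j) :=
      IsProper.of_comp _ (CohB1.ProjSpaceOver.toBase n S)
    exact IsClosedImmersion.of_isPreimmersion _
      (pullback.snd ι.ker.subschemeι π ≫ j).isClosedMap.isClosed_range
  obtain ⟨i₀⟩ : Nonempty (Idx ι.ker)ᵒᵖ := inferInstance
  have hapex' : IsClosedImmersion
      (((Over.forget Y').mapCone ((Over.pullback π).mapCone (cone ι.ker))).π.app i₀ ≫
        t.app i₀) := by
    have e : ((Over.forget Y').mapCone ((Over.pullback π).mapCone (cone ι.ker))).π.app i₀ ≫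
        t.app i₀ = pullback.snd ι.ker.subschemeι π ≫ j := by
      rw [ht]
      have hw : ((Over.pullback π).map ((cone ι.ker).π.app i₀)).left ≫
          pullback.snd i₀.unop.1.subschemeι π = pullback.snd ι.ker.subschemeι π :=
        Over.w ((Over.pullback π).map ((cone ι.ker).π.app i₀))
      exact (Category.assoc _ _ _).symm.trans (congrArg (· ≫ j) hw)
    rw [e]
    exact hapex
  obtain ⟨J₀, hJ₀⟩ := Groth.Agent.S0594.result (CohB1.ProjSpaceOver n S)
    ((FTLimit.diag ι.ker ⋙ Over.pullback π) ⋙ Over.forget Y') t _ hlimD i₀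
  rw [ht] at hJ₀
  have hJ₀' : IsClosedImmersion (pullback.snd J₀.unop.1.subschemeι π ≫ j) := hJ₀
  -- the stage `J₀` is proper over `S`
  have hfp : LocallyOfFinitePresentation J₀.unop.1.subschemeι :=
    locallyOfFinitePresentation_subschemeι _ J₀.unop.2.2
  have hUC : UniversallyClosed (J₀.unop.1.subschemeι ≫ f') := by
    have e : pullback.fst J₀.unop.1.subschemeι π ≫ J₀.unop.1.subschemeι ≫ f' =
        (pullback.snd J₀.unop.1.subschemeι π ≫ j) ≫ CohB1.ProjSpaceOver.toBase n S := by
      rw [Category.assoc, hj2, ← Category.assoc (pullback.snd _ _), ← pullback.condition,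
        Category.assoc]
    have : UniversallyClosed (pullback.fst J₀.unop.1.subschemeι π ≫
        J₀.unop.1.subschemeι ≫ f') := by
      rw [e]
      have : IsProper ((pullback.snd J₀.unop.1.subschemeι π ≫ j) ≫
          CohB1.ProjSpaceOver.toBase n S) := inferInstance
      infer_instance
    exact UniversallyClosed.of_comp_surjective (pullback.fst J₀.unop.1.subschemeι π)
      (J₀.unop.1.subschemeι ≫ f')
  have hprop₀ : IsProper (J₀.unop.1.subschemeι ≫ f') := {}
  have hcl₀ : IsClosedImmersion (Scheme.IdealSheafData.inclusion J₀.unop.2.1) := by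
    have : IsClosedImmersion (Scheme.IdealSheafData.inclusion J₀.unop.2.1 ≫
        J₀.unop.1.subschemeι) := by
      rw [Scheme.IdealSheafData.inclusion_subschemeι]; infer_instance
    exact IsClosedImmersion.of_comp (Scheme.IdealSheafData.inclusion J₀.unop.2.1)
      J₀.unop.1.subschemeι
  refine ⟨J₀.unop.1.subscheme, J₀.unop.1.subschemeι ≫ f',
    ι.toImage ≫ Scheme.IdealSheafData.inclusion J₀.unop.2.1, inferInstance, hprop₀,
    inferInstance, ?_⟩
  rw [Category.assoc, ← Category.assoc (Scheme.IdealSheafData.inclusion _),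
    Scheme.IdealSheafData.inclusion_subschemeι, ← h5, ← Category.assoc]
  congr 1
  exact ι.toImage_imageι

/-- Stacks 0A0S-type statement: a proper scheme over a qcqs base is a directed limit of proper
schemes of finite presentation with closed immersions as transition and projection maps. -/
theorem exists_proper_fp_system {X S : Scheme.{u}} (f : X ⟶ S) [IsProper f] [CompactSpace S]
    [QuasiSeparatedSpace S] :
    ∃ (I : Type u) (_ : SmallCategory I) (_ : IsCofiltered I) (D : I ⥤ Over S) (c : Limits.Cone D)
      (_ : Limits.IsLimit c) (e : c.pt ≅ Over.mk f),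
      (∀ (i j : I) (a : i ⟶ j), IsClosedImmersion (D.map a).left) ∧
      (∀ i, IsClosedImmersion (c.π.app i).left ∧ IsProper (D.obj i).hom ∧
        LocallyOfFinitePresentation (D.obj i).hom) := by
  obtain ⟨Y, f', ι, h1, h2, h3, h4⟩ := exists_closedImmersion_proper_fp f
  have : CompactSpace Y := QuasiCompact.compactSpace_of_compactSpace f'
  have : QuasiSeparatedSpace Y := quasiSeparatedSpace_of_quasiSeparated f'
  have hconn : IsConnected (Idx ι.ker)ᵒᵖ := IsCofiltered.isConnected _
  have hlim : IsLimit ((Over.map f').mapCone (cone ι.ker)) := by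
    refine isLimitOfReflects (Over.forget S) ?_
    exact isLimitOfPreserves (Over.forget Y) (coneIsLimit ι.ker)
  have hincl : ∀ {J K : Y.IdealSheafData} (h : J ≤ K),
      IsClosedImmersion (Scheme.IdealSheafData.inclusion h) := by
    intro J K h
    have : IsClosedImmersion (Scheme.IdealSheafData.inclusion h ≫ J.subschemeι) := by
      rw [Scheme.IdealSheafData.inclusion_subschemeι]; infer_instance
    exact IsClosedImmersion.of_comp (Scheme.IdealSheafData.inclusion h) J.subschemeι
  let e : X ≅ ι.ker.subscheme := asIso ι.toImage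
  have he : e.hom ≫ ι.ker.subschemeι = ι := ι.toImage_imageι
  refine ⟨(Idx ι.ker)ᵒᵖ, inferInstance, inferInstance, FTLimit.diag ι.ker ⋙ Over.map f',
    (Over.map f').mapCone (cone ι.ker), hlim,
    (Over.isoMk (f := Over.mk f) (g := Over.mk (ι.ker.subschemeι ≫ f')) e ?_).symm,
    fun i j a => ?_, fun i => ⟨?_, ?_, ?_⟩⟩
  · change e.hom ≫ ι.ker.subschemeι ≫ f' = f
    rw [reassoc_of% he, h4]
  · change IsClosedImmersion ((FTLimit.diag ι.ker).map a).left
    rw [FTLimit.diag_map_left]
    exact hincl _
  · change IsClosedImmersion (Scheme.IdealSheafData.inclusion i.unop.2.1)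
    exact hincl _
  · change IsProper (i.unop.1.subschemeι ≫ f')
    infer_instance
  · have h1' : LocallyOfFinitePresentation i.unop.1.subschemeι :=
      locallyOfFinitePresentation_subschemeι _ i.unop.2.2
    change LocallyOfFinitePresentation (i.unop.1.subschemeι ≫ f')
    infer_instance

end Groth.Agent.Lib.R2H3.ProperLim
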