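import Mathlib
import Groth.Agent.Lib.R2H3ProperLim
import Groth.Agent.Lib.R2H3ProperDesc
import Groth.Agent.S9220
import Groth.Agent.S0591

set_option autoImplicit false
set_option linter.unusedSectionVars false
universe u
open CategoryTheory CategoryTheory.Limits AlgebraicGeometry TopologicalSpace Opposite

namespace Groth.Agent.Lib.R2H3.ProperArrow

open Groth.Agent.Lib.Helper22 Groth.Agent.Lib.Helper22.FTIdeal Groth.Agent.Lib.Helper22.LimBC

section img

variable {I : Type u} [SmallCategory I] (DY : I ⥤ Scheme.{u}) (cY : Cone DY) {X : Scheme.{u}}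
  (ι : X ⟶ cY.pt)

/-- the ideal sheaf of the scheme-theoretic image of `X` in the stage `j`. -/
noncomputable def N (j : I) : (DY.obj j).IdealSheafData := (ι ≫ cY.π.app j).ker

theorem N_map {j j' : I} (a : j ⟶ j') : (N DY cY ι j).map (DY.map a) = N DY cY ι j' := by
  rw [N, Scheme.IdealSheafData.map_ker, Category.assoc, cY.w, N]

/-- the system of scheme-theoretic images. -/
noncomputable def imgDiagram : I ⥤ Scheme.{u} where
  obj j := (N DY cY ι j).subscheme
  map {j j'} a := Scheme.IdealSheafData.subschemeMap (N DY cY ι j) (N DY cY ι j') (DY.map a)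
    (N_map DY cY ι a).ge
  map_id j := by
    rw [← cancel_mono (N DY cY ι j).subschemeι, Scheme.IdealSheafData.subschemeMap_subschemeι,
      DY.map_id, Category.comp_id, Category.id_comp]
  map_comp {j j' j''} a b := by
    rw [← cancel_mono (N DY cY ι j'').subschemeι, Scheme.IdealSheafData.subschemeMap_subschemeι,
      Category.assoc, Scheme.IdealSheafData.subschemeMap_subschemeι,
      Scheme.IdealSheafData.subschemeMap_subschemeι_assoc, DY.map_comp]

theorem isAffineHom_imgDiagram_map [∀ (i j : I) (a : i ⟶ j), IsAffineHom (DY.map a)]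
    {j j' : I} (a : j ⟶ j') : IsAffineHom ((imgDiagram DY cY ι).map a) := by
  change IsAffineHom (Scheme.IdealSheafData.subschemeMap (N DY cY ι j) (N DY cY ι j') (DY.map a)
    (N_map DY cY ι a).ge)
  have : IsAffineHom (Scheme.IdealSheafData.subschemeMap (N DY cY ι j) (N DY cY ι j') (DY.map a)
      (N_map DY cY ι a).ge ≫ (N DY cY ι j').subschemeι) := by
    rw [Scheme.IdealSheafData.subschemeMap_subschemeι]; infer_instance
  exact IsAffineHom.of_comp _ (N DY cY ι j').subschemeι

/-- the inclusion into the ambient system. -/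
noncomputable def imgι : imgDiagram DY cY ι ⟶ DY where
  app j := (N DY cY ι j).subschemeι
  naturality j j' a := Scheme.IdealSheafData.subschemeMap_subschemeι (N DY cY ι j)
    (N DY cY ι j') (DY.map a) (N_map DY cY ι a).ge

/-- the map to the scheme-theoretic image. -/
noncomputable def toImg (j : I) : X ⟶ (N DY cY ι j).subscheme := (ι ≫ cY.π.app j).toImage

theorem toImg_ι (j : I) : toImg DY cY ι j ≫ (N DY cY ι j).subschemeι = ι ≫ cY.π.app j :=
  (ι ≫ cY.π.app j).toImage_imageι

/-- the cone of the system of scheme-theoretic images. -/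
noncomputable def imgCone : Cone (imgDiagram DY cY ι) where
  pt := X
  π :=
    { app := fun j => toImg DY cY ι j
      naturality := fun j j' a => by
        change 𝟙 X ≫ toImg DY cY ι j' = toImg DY cY ι j ≫
          Scheme.IdealSheafData.subschemeMap (N DY cY ι j) (N DY cY ι j') (DY.map a)
            (N_map DY cY ι a).ge
        rw [Category.id_comp, ← cancel_mono (N DY cY ι j').subschemeι, Category.assoc,
          Scheme.IdealSheafData.subschemeMap_subschemeι, toImg_ι, reassoc_of% toImg_ι,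
          cY.w] }

theorem imgCone_π_ι (j : I) :
    (imgCone DY cY ι).π.app j ≫ (N DY cY ι j).subschemeι = ι ≫ cY.π.app j :=
  toImg_ι DY cY ι j

/-- a cone over the images gives a cone over the ambient system. -/
noncomputable def ambCone (s : Cone (imgDiagram DY cY ι)) : Cone DY where
  pt := s.pt
  π := s.π ≫ imgι DY cY ι

/-- the components of a cone, with their types made explicit. -/
noncomputable def sπ (s : Cone (imgDiagram DY cY ι)) (j : I) : s.pt ⟶ (N DY cY ι j).subscheme :=
  s.π.app j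

theorem ambCone_π (s : Cone (imgDiagram DY cY ι)) (j : I) :
    (ambCone DY cY ι s).π.app j = sπ DY cY ι s j ≫ (N DY cY ι j).subschemeι := rfl

theorem ker_le_ker_of_cone [IsCofiltered I] [∀ (i j : I) (a : i ⟶ j), IsAffineHom (DY.map a)]
    [∀ j, CompactSpace (DY.obj j)] [∀ j, QuasiSeparatedSpace (DY.obj j)]
    [CompactSpace cY.pt] [QuasiSeparatedSpace cY.pt]
    (hcY : IsLimit cY) (s : Cone (imgDiagram DY cY ι)) (m : s.pt ⟶ cY.pt)
    (hm : ∀ j, m ≫ cY.π.app j = sπ DY cY ι s j ≫ (N DY cY ι j).subschemeι) : ι.ker ≤ m.ker := by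
  conv_lhs => rw [← sSup_ftSub ι.ker]
  refine sSup_le fun K hK => ?_
  obtain ⟨j, Kj, -, hcomap⟩ := Groth.Agent.S9220.result DY cY hcY K hK.2
  have h1 : Kj ≤ N DY cY ι j := by
    rw [N, ← Scheme.IdealSheafData.map_ker, Scheme.IdealSheafData.le_map_iff_comap_le, hcomap]
    exact hK.1
  have h2 : N DY cY ι j ≤ (m ≫ cY.π.app j).ker := by
    rw [hm j]
    conv_lhs => rw [← (N DY cY ι j).ker_subschemeι]
    exact Scheme.Hom.le_ker_comp _ _
  rw [← hcomap, ← Scheme.IdealSheafData.le_map_iff_comap_le, Scheme.IdealSheafData.map_ker]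
  exact h1.trans h2

section lift

variable [IsCofiltered I] [∀ (i j : I) (a : i ⟶ j), IsAffineHom (DY.map a)]
    [∀ j, CompactSpace (DY.obj j)] [∀ j, QuasiSeparatedSpace (DY.obj j)]
    [CompactSpace cY.pt] [QuasiSeparatedSpace cY.pt] [IsClosedImmersion ι]
    (hcY : IsLimit cY) (s : Cone (imgDiagram DY cY ι))

/-- the lift of a cone. -/
noncomputable def liftImg : s.pt ⟶ X :=
  IsClosedImmersion.lift ι (hcY.lift (ambCone DY cY ι s))
    (ker_le_ker_of_cone DY cY ι hcY s _ (fun j =>
      (hcY.fac (ambCone DY cY ι s) j).trans (ambCone_π DY cY ι s j)))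

theorem liftImg_ι : liftImg DY cY ι hcY s ≫ ι = hcY.lift (ambCone DY cY ι s) :=
  IsClosedImmersion.lift_fac _ _ _

theorem liftImg_toImg (j : I) :
    liftImg DY cY ι hcY s ≫ toImg DY cY ι j = sπ DY cY ι s j := by
  rw [← cancel_mono (N DY cY ι j).subschemeι, Category.assoc, toImg_ι, ← Category.assoc,
    liftImg_ι, ← ambCone_π]
  exact hcY.fac (ambCone DY cY ι s) j

theorem liftImg_uniq (m' : s.pt ⟶ X) (hm' : ∀ j, m' ≫ toImg DY cY ι j = sπ DY cY ι s j) :
    m' = liftImg DY cY ι hcY s := by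
  rw [← cancel_mono ι, liftImg_ι]
  refine hcY.hom_ext fun j => ?_
  have h1 : hcY.lift (ambCone DY cY ι s) ≫ cY.π.app j =
      sπ DY cY ι s j ≫ (N DY cY ι j).subschemeι :=
    (hcY.fac (ambCone DY cY ι s) j).trans (ambCone_π DY cY ι s j)
  have h2 : (m' ≫ ι) ≫ cY.π.app j = sπ DY cY ι s j ≫ (N DY cY ι j).subschemeι := by
    rw [Category.assoc, ← toImg_ι, ← Category.assoc, hm' j]
  exact h2.trans h1.symm

end lift

/-- a closed subscheme of a limit is the limit of its scheme-theoretic images in the stages. -/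
noncomputable def isLimitImgCone [IsCofiltered I]
    [∀ (i j : I) (a : i ⟶ j), IsAffineHom (DY.map a)]
    [∀ j, CompactSpace (DY.obj j)] [∀ j, QuasiSeparatedSpace (DY.obj j)]
    [CompactSpace cY.pt] [QuasiSeparatedSpace cY.pt] [IsClosedImmersion ι]
    (hcY : IsLimit cY) : IsLimit (imgCone DY cY ι) where
  lift s := liftImg DY cY ι hcY s
  fac s j := liftImg_toImg DY cY ι hcY s j
  uniq s m' hm' := liftImg_uniq DY cY ι hcY s m' hm'

end img

open Groth.Agent.Lib.R2H3.ProperDesc Groth.Agent.Lib.R2H3.ProperLim in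
/-- descent of a proper morphism of finite presentation to a stage of a good system. -/
theorem exists_proper_stage {A : Type u} [Preorder A] (DA : Aᵒᵖ ⥤ Scheme.{u}) (cA : Cone DA)
    (hcA : IsLimit cA) (hA : NA5.GoodSys DA) {Y : Scheme.{u}} (f : Y ⟶ cA.pt)
    [IsProper f] [LocallyOfFinitePresentation f] :
    ∃ (k : Aᵒᵖ) (Y₀ : Scheme.{u}) (F : Y₀ ⟶ DA.obj k) (ψ : Y ⟶ Y₀), IsProper F ∧
      LocallyOfFinitePresentation F ∧ IsPullback ψ f F (cA.π.app k) := by
  have := hA.dir
  have := hA.ne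
  have : IsFiltered A := isFiltered_of_directed_le_nonempty A
  have haff : ∀ (x y : Aᵒᵖ) (a : x ⟶ y), IsAffineHom (DA.map a) := fun x y a => hA.aff a
  have hcpt := hA.cpt
  have hlft := hA.lft
  have hqs : ∀ x, QuasiSeparatedSpace (DA.obj x) := fun x => NA4.quasiSeparatedSpace_of_lft _
  obtain ⟨i, Yi, fi, g, hfi1, hfi2, hfi3, hpb⟩ := Groth.Agent.S0591.result DA cA hcA Y f
  have : CompactSpace Yi := QuasiCompact.compactSpace_of_compactSpace fi
  have : QuasiSeparatedSpace Yi := quasiSeparatedSpace_of_quasiSeparated fi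
  obtain ⟨k, φ, Xk, Yk, fk, gk, pY, pX, hP1, hP2, hprop⟩ :=
    proper_descend DA cA hcA i fi (𝟙 _) f (𝟙 cA.pt) (cA.π.app i) g
      (IsPullback.id_vert (cA.π.app i)) hpb
  have : IsIso gk := hP1.isIso_snd_of_isIso
  have hR : IsPullback pX (fk ≫ gk) fi (DA.map φ) := by
    have := hP2.paste_vert hP1
    rwa [Category.comp_id] at this
  have hcomm : g ≫ fi = (f ≫ cA.π.app k) ≫ DA.map φ := by
    rw [hpb.w, Category.assoc, cA.w φ]
  have hψ1 : hR.lift g (f ≫ cA.π.app k) hcomm ≫ pX = g := hR.lift_fst _ _ _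
  have hψ2 : hR.lift g (f ≫ cA.π.app k) hcomm ≫ fk ≫ gk = f ≫ cA.π.app k := hR.lift_snd _ _ _
  have hL : IsPullback (hR.lift g (f ≫ cA.π.app k) hcomm) f (fk ≫ gk) (cA.π.app k) := by
    refine IsPullback.of_right ?_ hψ2 hR
    rw [hψ1, cA.w φ]
    exact hpb
  have : LocallyOfFinitePresentation fk :=
    MorphismProperty.of_isPullback (P := @LocallyOfFinitePresentation) hP2 hfi1
  exact ⟨k, Xk, fk ≫ gk, _, inferInstance, inferInstance, hL⟩

open Groth.Agent.Lib.R2H3.ProperDesc Groth.Agent.Lib.R2H3.ProperLim in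
/-- a proper morphism over a quasi-compact quasi-separated base is a limit of proper morphisms
between schemes of finite type over `ℤ`. -/
theorem exists_proper_arrow_system {X S : Scheme.{u}} (f : X ⟶ S) [IsProper f] [CompactSpace S]
    [QuasiSeparatedSpace S] :
    ∃ (I : Type u) (_ : SmallCategory I) (_ : IsCofiltered I) (DX DS : I ⥤ Scheme.{u})
      (φ : DX ⟶ DS) (cX : Limits.Cone DX) (cS : Limits.Cone DS) (_ : Limits.IsLimit cX)
      (_ : Limits.IsLimit cS) (eX : cX.pt ≅ X) (eS : cS.pt ≅ S),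
      (∀ (i j : I) (a : i ⟶ j), IsAffineHom (DX.map a) ∧ IsAffineHom (DS.map a)) ∧
      (∀ i, IsProper (φ.app i) ∧ CompactSpace (DS.obj i) ∧
        LocallyOfFiniteType (Limits.IsTerminal.from specULiftZIsTerminal (DS.obj i))) ∧
      (∀ i, cX.π.app i ≫ φ.app i = eX.hom ≫ f ≫ eS.inv ≫ cS.π.app i) := by
  obtain ⟨Y, f', ι, h1, h2, h3, h4⟩ := exists_closedImmersion_proper_fp f
  obtain ⟨A, pA, DA, cA, hcA, eA, hA⟩ := NA10.exists_goodSys S
  obtain ⟨k, Y₀, F, ψ, hF1, hF2, hL⟩ := exists_proper_stage DA cA hcA hA (f' ≫ eA.inv)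
  have := hA.dir
  have := hA.ne
  have : IsFiltered A := isFiltered_of_directed_le_nonempty A
  have haff : ∀ {x y : Aᵒᵖ} (a : x ⟶ y), IsAffineHom (DA.map a) := fun a => hA.aff a
  have hlft := hA.lft
  have : CompactSpace (DA.obj k) := hA.cpt k
  have : QuasiSeparatedSpace (DA.obj k) := NA4.quasiSeparatedSpace_of_lft _
  have : CompactSpace Y₀ := QuasiCompact.compactSpace_of_compactSpace F
  have : QuasiSeparatedSpace Y₀ := quasiSeparatedSpace_of_quasiSeparated F
  have hYc : CompactSpace Y := QuasiCompact.compactSpace_of_compactSpace f'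
  have hYq : QuasiSeparatedSpace Y := quasiSeparatedSpace_of_quasiSeparated f'
  have : CompactSpace (bcCone k hL).pt := hYc
  have : QuasiSeparatedSpace (bcCone k hL).pt := hYq
  obtain ⟨ι', hι', hιπ⟩ : ∃ ι' : X ⟶ (bcCone k hL).pt, IsClosedImmersion ι' ∧
      ∀ j, ι' ≫ (bcCone k hL).π.app j = ι ≫ bcπ k hL j := ⟨ι, h3, fun j => rfl⟩
  have hcS : IsLimit (cA.whisker (Over.forget k)) :=
    (Functor.Initial.isLimitWhiskerEquiv (Over.forget k) cA).symm hcA
  refine ⟨Over k, inferInstance, inferInstance, imgDiagram (bcDiagram DA k F) (bcCone k hL) ι',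
    Over.forget k ⋙ DA, imgι (bcDiagram DA k F) (bcCone k hL) ι' ≫ bcDiagramι DA k F,
    imgCone (bcDiagram DA k F) (bcCone k hL) ι', cA.whisker (Over.forget k),
    isLimitImgCone (bcDiagram DA k F) (bcCone k hL) ι' (isLimitBcCone k hL hcA), hcS,
    Iso.refl X, eA, fun i j a => ⟨?_, haff _⟩, fun j => ⟨?_, hA.cpt _, hA.lft _⟩, fun j => ?_⟩
  · -- affine transitions
    exact isAffineHom_imgDiagram_map (bcDiagram DA k F) (bcCone k hL) ι' a
  · -- properness
    have hd : IsProper (dSnd DA k F j) :=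
      MorphismProperty.of_isPullback (P := @IsProper) (isPullback_d DA k F j) hF1
    change IsProper ((N (bcDiagram DA k F) (bcCone k hL) ι' j).subschemeι ≫ dSnd DA k F j)
    infer_instance
  · -- compatibility
    change toImg (bcDiagram DA k F) (bcCone k hL) ι' j ≫
      (N (bcDiagram DA k F) (bcCone k hL) ι' j).subschemeι ≫ dSnd DA k F j =
      𝟙 X ≫ f ≫ eA.inv ≫ cA.π.app j.left
    rw [← Category.assoc, toImg_ι, Category.id_comp, ← h4, hιπ, Category.assoc, bcπ_snd,
      Category.assoc, Category.assoc]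

end Groth.Agent.Lib.R2H3.ProperArrow
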