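import Mathlib
import Groth.Agent.Lib.R2H3ProperArrow
import Groth.Agent.Lib.R2H3IntLim
import Groth.Agent.Lib.R2H2Chevalley
import Groth.Agent.S9187
import Groth.Agent.S9207

set_option autoImplicit false
set_option linter.unusedSectionVars false
universe u
open CategoryTheory CategoryTheory.Limits AlgebraicGeometry TopologicalSpace Opposite

namespace Groth.Agent.Lib.R2H3.AffineDesc

open Groth.Agent.Lib.Helper22 Groth.Agent.Lib.Helper22.LimBC

/-- descent of a finite morphism of finite presentation to a stage of a good system. -/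
theorem exists_finite_stage {A : Type u} [Preorder A] (DA : Aᵒᵖ ⥤ Scheme.{u}) (cA : Cone DA)
    (hcA : IsLimit cA) (hA : NA5.GoodSys DA) {Y : Scheme.{u}} (f : Y ⟶ cA.pt)
    [IsFinite f] [LocallyOfFinitePresentation f] :
    ∃ (k : Aᵒᵖ) (Y₀ : Scheme.{u}) (F : Y₀ ⟶ DA.obj k) (ψ : Y ⟶ Y₀), IsFinite F ∧
      LocallyOfFinitePresentation F ∧ IsPullback ψ f F (cA.π.app k) := by
  have := hA.dir
  have := hA.ne
  have : IsFiltered A := isFiltered_of_directed_le_nonempty A
  have haff : ∀ (x y : Aᵒᵖ) (a : x ⟶ y), IsAffineHom (DA.map a) := fun x y a => hA.aff a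
  have hcpt := hA.cpt
  have hlft := hA.lft
  have hqs : ∀ x, QuasiSeparatedSpace (DA.obj x) := fun x => NA4.quasiSeparatedSpace_of_lft _
  obtain ⟨i, Yi, fi, g, hfi1, hfi2, hfi3, hpb⟩ := Groth.Agent.S0591.result DA cA hcA Y f
  have : CompactSpace Yi := QuasiCompact.compactSpace_of_compactSpace fi
  have : QuasiSeparatedSpace Yi := quasiSeparatedSpace_of_quasiSeparated fi
  obtain ⟨k, φ, Xk, Yk, fk, gk, pY, pX, hP1, hP2, hfin⟩ :=
    Groth.Agent.S9187.result DA cA hcA i fi (𝟙 _) f (𝟙 cA.pt) (cA.π.app i) g
      (IsPullback.id_vert (cA.π.app i)) hpb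
  have : IsIso gk := hP1.isIso_snd_of_isIso
  have hR : IsPullback pX (fk ≫ gk) fi (DA.map φ) := by
    have := hP2.paste_vert hP1
    rwa [Category.comp_id] at this
  have hcomm : g ≫ fi = (f ≫ cA.π.app k) ≫ DA.map φ := by
    rw [hpb.w, Category.assoc, cA.w φ]
  have hψ1 : hR.lift g (f ≫ cA.π.app k) hcomm ≫ pX = g := hR.lift_fst _ _ _
  have hψ2 : hR.lift g (f ≫ cA.π.app k) hcomm ≫ fk ≫ gk = f ≫ cA.π.app k := hR.lift_snd _ _ _
  have hL : IsPullback (hR.lift g (f ≫ cA.π.app k) hcomm) f (fk ≫ gk) (cA.π.app k) := by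
    refine IsPullback.of_right ?_ hψ2 hR
    rw [hψ1, cA.w φ]
    exact hpb
  have : LocallyOfFinitePresentation fk :=
    MorphismProperty.of_isPullback (P := @LocallyOfFinitePresentation) hP2 hfi1
  exact ⟨k, Xk, fk ≫ gk, _, inferInstance, inferInstance, hL⟩

/-- Stacks 01ZT for finite morphisms of finite presentation. -/
theorem isAffine_of_finite_fp_surjective {T S : Scheme.{u}} (g : T ⟶ S) [IsFinite g]
    [LocallyOfFinitePresentation g] [Surjective g] [IsAffine T] [CompactSpace S]
    [QuasiSeparatedSpace S] : IsAffine S := by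
  obtain ⟨A, pA, DA, cA, hcA, eA, hA⟩ := NA10.exists_goodSys S
  obtain ⟨k, T₀, F, ψ, hF1, hF2, hL⟩ := exists_finite_stage DA cA hcA hA (g ≫ eA.inv)
  have := hA.dir
  have := hA.ne
  have : IsFiltered A := isFiltered_of_directed_le_nonempty A
  have haff : ∀ {x y : Aᵒᵖ} (a : x ⟶ y), IsAffineHom (DA.map a) := fun a => hA.aff a
  have haff' : ∀ (x y : Aᵒᵖ) (a : x ⟶ y), IsAffineHom (DA.map a) := fun _ _ a => hA.aff a
  have hlft := hA.lft
  have hcpt := hA.cpt
  have hqs : ∀ x, QuasiSeparatedSpace (DA.obj x) := fun x => NA4.quasiSeparatedSpace_of_lft _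
  have hnoeth : ∀ x, IsNoetherian (DA.obj x) := fun x =>
    { toIsLocallyNoetherian := NA4.isLocallyNoetherian_of_lft _ }
  have : CompactSpace T₀ := QuasiCompact.compactSpace_of_compactSpace F
  have : QuasiSeparatedSpace T₀ := quasiSeparatedSpace_of_quasiSeparated F
  -- an affine stage
  have : IsAffine (bcCone k hL).pt := ‹IsAffine T›
  obtain ⟨j₁, hj₁⟩ := Scheme.exists_isAffine_of_isLimit (bcDiagram DA k F) (bcCone k hL)
    (isLimitBcCone k hL hcA)
  -- a surjective stage
  have hclosed : IsClosed (Set.range F) := F.isClosedMap.isClosed_range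
  let U : (DA.obj k).Opens := ⟨(Set.range F)ᶜ, hclosed.isOpen_compl⟩
  have : CompactSpace U.toScheme :=
    isCompact_iff_compactSpace.mp (TopologicalSpace.NoetherianSpace.isCompact (U : Set (DA.obj k)))
  have hempty : IsEmpty ↥(pullback U.ι (cA.π.app k)) := by
    rw [Scheme.isEmpty_pullback_iff, Scheme.Opens.range_ι, Set.disjoint_left]
    rintro _ hx ⟨s, rfl⟩
    apply hx
    obtain ⟨t, rfl⟩ := (g ≫ eA.inv).surjective s
    refine ⟨ψ t, ?_⟩
    rw [← Scheme.Hom.comp_apply, hL.w, Scheme.Hom.comp_apply]
  obtain ⟨i', φ, hφ⟩ := Groth.Agent.S9207.result DA cA hcA k U.ι hempty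
  rw [Scheme.isEmpty_pullback_iff, Scheme.Opens.range_ι, Set.disjoint_left] at hφ
  have hrange : Set.range (DA.map φ) ⊆ Set.range F := by
    rintro _ ⟨s, rfl⟩
    by_contra h
    exact hφ h ⟨s, rfl⟩
  -- a common stage
  obtain ⟨j₃, a₁, a₂, -⟩ := IsCofilteredOrEmpty.cone_objs j₁ (Over.mk φ)
  have hsurj : Surjective (dSnd DA k F j₃) := by
    refine ⟨fun s => ?_⟩
    have h1 : DA.map j₃.hom s ∈ Set.range F := by
      apply hrange
      have e : j₃.hom = a₂.left ≫ φ := (Over.w a₂).symm
      rw [e, DA.map_comp, Scheme.Hom.comp_apply]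
      exact ⟨_, rfl⟩
    obtain ⟨t, ht⟩ := h1
    obtain ⟨z, -, hz⟩ := Scheme.Pullback.exists_preimage_pullback (f := F) (g := DA.map j₃.hom)
      t s ht
    exact ⟨z, hz⟩
  have haff₃ : IsAffine ((bcDiagram DA k F).obj j₃) :=
    isAffine_of_isAffineHom ((bcDiagram DA k F).map a₁)
  have hfin₃ : IsFinite (dSnd DA k F j₃) :=
    MorphismProperty.of_isPullback (P := @IsFinite) (isPullback_d DA k F j₃) hF1
  have := hnoeth j₃.left
  have h3 : IsAffine (DA.obj j₃.left) :=
    Groth.Agent.Lib.R2H2.Chevalley.isAffine_of_finite_surjective (dSnd DA k F j₃)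
  have h4 : IsAffineHom (cA.π.app j₃.left) := isAffineHom_π_app DA cA hcA j₃.left
  have h5 : IsAffine cA.pt := isAffine_of_isAffineHom (cA.π.app j₃.left)
  exact IsAffine.of_isIso eA.inv

/-- Stacks 05YU: integral surjective morphisms from affine schemes have affine targets. -/
theorem isAffine_of_integral_surjective {X S : Scheme.{u}} (f : X ⟶ S) [IsIntegralHom f]
    [Surjective f] [IsAffine X] [CompactSpace S] [QuasiSeparatedSpace S] : IsAffine S := by
  obtain ⟨I, pI, hdir, hne, D, c, hc, hprops, ⟨e⟩⟩ :=
    Groth.Agent.Lib.R2H3.IntLim.exists_finite_fp_system f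
  have : IsFiltered I := isFiltered_of_directed_le_nonempty I
  have hconn : IsConnected Iᵒᵖ := IsCofiltered.isConnected _
  have hlim : IsLimit ((Over.forget S).mapCone c) := isLimitOfPreserves (Over.forget S) hc
  have haff : ∀ {i j : Iᵒᵖ} (a : i ⟶ j), IsAffineHom ((D ⋙ Over.forget S).map a) := by
    intro i j a
    obtain ⟨p, q, m, hp, hq, hm, hw⟩ : ∃ (p : (D.obj i).left ⟶ S) (q : (D.obj j).left ⟶ S)
        (m : (D.obj i).left ⟶ (D.obj j).left), IsFinite p ∧ IsFinite q ∧
        m = (D ⋙ Over.forget S).map a ∧ m ≫ q = p :=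
      ⟨_, _, _, (hprops i).1, (hprops j).1, rfl, Over.w (D.map a)⟩
    have : IsAffineHom (m ≫ q) := by rw [hw]; infer_instance
    rw [← hm]
    exact IsAffineHom.of_comp m q
  have hcpt : ∀ i, CompactSpace ((D ⋙ Over.forget S).obj i) := by
    intro i
    obtain ⟨p, hp⟩ : ∃ p : (D.obj i).left ⟶ S, IsFinite p := ⟨_, (hprops i).1⟩
    have h : CompactSpace ↥(D.obj i).left := QuasiCompact.compactSpace_of_compactSpace p
    exact h
  have hqs : ∀ i, QuasiSeparatedSpace ((D ⋙ Over.forget S).obj i) := by
    intro i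
    obtain ⟨p, hp⟩ : ∃ p : (D.obj i).left ⟶ S, IsFinite p := ⟨_, (hprops i).1⟩
    have h : QuasiSeparatedSpace ↥(D.obj i).left := quasiSeparatedSpace_of_quasiSeparated p
    exact h
  have : IsAffine ((Over.forget S).mapCone c).pt := by
    have eX : c.pt.left ≅ X := (Over.forget S).mapIso e
    have : IsAffine c.pt.left := IsAffine.of_isIso eX.hom
    exact this
  obtain ⟨i, hi⟩ := Scheme.exists_isAffine_of_isLimit (D ⋙ Over.forget S)
    ((Over.forget S).mapCone c) hlim
  obtain ⟨p, hp1, hp2, hp3⟩ : ∃ p : (D.obj i).left ⟶ S, IsFinite p ∧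
      LocallyOfFinitePresentation p ∧ (c.π.app i).left ≫ p = c.pt.hom :=
    ⟨_, (hprops i).1, (hprops i).2, Over.w (c.π.app i)⟩
  have hsurj : Surjective p := by
    have h1 : e.inv.left ≫ c.pt.hom = f := Over.w e.inv
    have : IsIso e.inv.left := inferInstanceAs (IsIso ((Over.forget S).mapIso e).inv)
    have : Surjective ((e.inv.left ≫ (c.π.app i).left) ≫ p) := by
      rw [Category.assoc, hp3, h1]; infer_instance
    exact Surjective.of_comp (e.inv.left ≫ (c.π.app i).left) p
  have : IsAffine (D.obj i).left := hi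
  exact isAffine_of_finite_fp_surjective p

/-- Stacks 09MQ-type statement: the target of a surjective universally closed morphism from a
separated scheme is separated. -/
theorem isSeparated_of_surjective_universallyClosed {X S : Scheme.{u}} (f : X ⟶ S)
    [Surjective f] [UniversallyClosed f] [X.IsSeparated] : S.IsSeparated := by
  have hm : UniversallyClosed (pullback.map (terminal.from X) (terminal.from X) (terminal.from S)
      (terminal.from S) f f (𝟙 _) ((Category.comp_id _).trans (terminal.comp_from f).symm)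
      ((Category.comp_id _).trans (terminal.comp_from f).symm)) :=
    MorphismProperty.pullbackMap (P := @UniversallyClosed) inferInstance inferInstance
      (terminal.comp_from f).symm (terminal.comp_from f).symm
  have hcomm : pullback.diagonal (terminal.from X) ≫
      pullback.map (terminal.from X) (terminal.from X) (terminal.from S)
      (terminal.from S) f f (𝟙 _) ((Category.comp_id _).trans (terminal.comp_from f).symm)
      ((Category.comp_id _).trans (terminal.comp_from f).symm) =
      f ≫ pullback.diagonal (terminal.from S) := by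
    have h1 : pullback.map (terminal.from X) (terminal.from X) (terminal.from S)
        (terminal.from S) f f (𝟙 _) ((Category.comp_id _).trans (terminal.comp_from f).symm)
        ((Category.comp_id _).trans (terminal.comp_from f).symm) ≫ pullback.fst _ _ =
        pullback.fst _ _ ≫ f := pullback.lift_fst _ _ _
    have h2 : pullback.map (terminal.from X) (terminal.from X) (terminal.from S)
        (terminal.from S) f f (𝟙 _) ((Category.comp_id _).trans (terminal.comp_from f).symm)
        ((Category.comp_id _).trans (terminal.comp_from f).symm) ≫ pullback.snd _ _ =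
        pullback.snd _ _ ≫ f := pullback.lift_snd _ _ _
    apply pullback.hom_ext
    · rw [Category.assoc, h1, ← Category.assoc, pullback.diagonal_fst, Category.id_comp,
        Category.assoc, pullback.diagonal_fst, Category.comp_id]
    · rw [Category.assoc, h2, ← Category.assoc, pullback.diagonal_snd, Category.id_comp,
        Category.assoc, pullback.diagonal_snd, Category.comp_id]
  have hrange : Set.range (pullback.diagonal (terminal.from S)) =
      (pullback.map (terminal.from X) (terminal.from X) (terminal.from S)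
      (terminal.from S) f f (𝟙 _) ((Category.comp_id _).trans (terminal.comp_from f).symm)
      ((Category.comp_id _).trans (terminal.comp_from f).symm)) ''
        Set.range (pullback.diagonal (terminal.from X)) := by
    ext y
    constructor
    · rintro ⟨s, rfl⟩
      obtain ⟨x, rfl⟩ := f.surjective s
      refine ⟨_, ⟨x, rfl⟩, ?_⟩
      rw [← Scheme.Hom.comp_apply, hcomm, Scheme.Hom.comp_apply]
    · rintro ⟨_, ⟨x, rfl⟩, rfl⟩
      refine ⟨f x, ?_⟩
      rw [← Scheme.Hom.comp_apply, ← hcomm, Scheme.Hom.comp_apply]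
  have hcl : IsClosed (Set.range (pullback.diagonal (terminal.from S))) := by
    rw [hrange]
    exact Scheme.Hom.isClosedMap _ _
      (pullback.diagonal (terminal.from X)).isClosedEmbedding.isClosed_range
  exact ⟨⟨IsClosedImmersion.of_isPreimmersion _ hcl⟩⟩

/-- `S0593`. -/
theorem isAffine_of_surjective_universallyClosed (X S : Scheme.{u}) (f : X ⟶ S)
    [IsAffine X] [Surjective f] [UniversallyClosed f] : IsAffine S := by
  have hS : S.IsSeparated := isSeparated_of_surjective_universallyClosed f
  have : CompactSpace S := by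
    constructor
    rw [← range_eq_univ f]
    exact isCompact_range f.continuous
  have : IsAffineHom f := by
    have : IsAffineHom (f ≫ terminal.from S) := by
      rw [terminal.comp_from]; infer_instance
    exact IsAffineHom.of_comp f (terminal.from S)
  have : IsIntegralHom f := by
    rw [IsIntegralHom.iff_universallyClosed_and_isAffineHom]
    exact ⟨inferInstance, inferInstance⟩
  exact isAffine_of_integral_surjective f

end Groth.Agent.Lib.R2H3.AffineDesc
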