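import Mathlib
import Groth.Prelude.Def_Grpd
import Groth.Agent.Lib.H5bOrbit
import Groth.Agent.Lib.R2H3AffineDesc

/-!
# Invariant affine opens from the restriction of a groupoid along an integral morphism (helper5)

`exists_invariant_affine_of_restriction`: for `s, t, g : U' ⟶ U` integral with every orbit meeting
the image of `g`, an invariant affine open of the restricted groupoid containing `u'` gives an
invariant affine open of `U` containing `g u'`.
-/

set_option autoImplicit false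
set_option linter.style.haveILetI false
set_option linter.unusedSectionVars false
set_option linter.unusedSimpArgs false
universe u

open CategoryTheory CategoryTheory.Limits AlgebraicGeometry

namespace Groth.Agent.Lib.H5bRG

variable {S : Scheme.{u}} (G : Grpd.GroupoidScheme S) {U' : Scheme.{u}} (g : U' ⟶ G.U)

theorem exists_Rt_point (x' : U') (y : G.U) (ho : Orb G y (g x')) :
    ∃ z : ↑(pullback g G.t), pullback.fst g G.t z = x' ∧ (pullback.snd g G.t ≫ G.s) z = y := by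
  obtain ⟨ρ, hs, ht⟩ := ho
  obtain ⟨z, hz1, hz2⟩ :=
    Scheme.Pullback.exists_preimage_pullback (f := g) (g := G.t) x' ρ ht.symm
  exact ⟨z, hz1, by rw [Scheme.Hom.comp_apply, hz2, hs]⟩

theorem orb_of_Rt_point (z : ↑(pullback g G.t)) :
    Orb G ((pullback.snd g G.t ≫ G.s) z) (g (pullback.fst g G.t z)) := by
  refine ⟨pullback.snd g G.t z, (Scheme.Hom.comp_apply _ _ _).symm, ?_⟩
  rw [← Scheme.Hom.comp_apply, ← pullback.condition, Scheme.Hom.comp_apply]

theorem exists_invariant_affine_of_restriction [IsIntegralHom G.s] [IsIntegralHom G.t]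
    [IsIntegralHom g]
    (horb : ∀ u : G.U, ∃ r : G.R, G.s r = u ∧ G.t r ∈ Set.range ⇑g) (u' : U') (W' : U'.Opens)
    (hW' : IsAffineOpen W') (hu' : u' ∈ W')
    (hinv : (pullback.fst (pullback.snd g G.t ≫ G.s) g ≫ pullback.fst g G.t) ⁻¹ᵁ W' =
      (pullback.snd (pullback.snd g G.t ≫ G.s) g) ⁻¹ᵁ W') :
    ∃ W : G.U.Opens, IsAffineOpen W ∧ g u' ∈ W ∧ G.s ⁻¹ᵁ W = G.t ⁻¹ᵁ W := by
  obtain ⟨h, hh⟩ : ∃ h, h = pullback.snd g G.t ≫ G.s := ⟨_, rfl⟩
  obtain ⟨pr₀, hpr₀⟩ : ∃ pr₀, pr₀ = pullback.fst g G.t := ⟨_, rfl⟩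
  haveI : IsIntegralHom h := by rw [hh]; infer_instance
  haveI : IsIntegralHom pr₀ := by rw [hpr₀]; infer_instance
  rw [← hh, ← hpr₀] at hinv
  have key : ∀ x₁' x₂' : U', Orb G (g x₂') (g x₁') → (x₁' ∈ W' ↔ x₂' ∈ W') := by
    intro x₁' x₂' ho
    obtain ⟨z, hz1, hz2⟩ := exists_Rt_point G g x₁' (g x₂') ho
    rw [← hh] at hz2
    rw [← hpr₀] at hz1
    obtain ⟨r', hr1, hr2⟩ :=
      Scheme.Pullback.exists_preimage_pullback (f := h) (g := g) z x₂' hz2
    have h1 : r' ∈ (pullback.fst h g ≫ pr₀) ⁻¹ᵁ W' ↔ r' ∈ (pullback.snd h g) ⁻¹ᵁ W' := by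
      rw [hinv]
    have h2 : (pullback.fst h g ≫ pr₀) r' = x₁' := by
      rw [Scheme.Hom.comp_apply, hr1, hz1]
    have h3 : r' ∈ (pullback.fst h g ≫ pr₀) ⁻¹ᵁ W' ↔ x₁' ∈ W' := by
      rw [← h2]; rfl
    have h4 : r' ∈ (pullback.snd h g) ⁻¹ᵁ W' ↔ x₂' ∈ W' := by
      rw [← hr2]; rfl
    rw [← h3, ← h4, h1]
  let Wt : (pullback g G.t).Opens := pr₀ ⁻¹ᵁ W'
  let Wset : Set G.U := h '' (Wt : Set ↑(pullback g G.t))
  have hchar : ∀ y, y ∈ Wset ↔ ∃ x' ∈ W', Orb G y (g x') := by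
    intro y
    constructor
    · rintro ⟨z, hz, rfl⟩
      refine ⟨pr₀ z, hz, ?_⟩
      rw [hh, hpr₀]
      exact orb_of_Rt_point G g z
    · rintro ⟨x', hx', ho⟩
      obtain ⟨z, hz1, hz2⟩ := exists_Rt_point G g x' y ho
      rw [← hh] at hz2
      rw [← hpr₀] at hz1
      refine ⟨z, ?_, hz2⟩
      show pr₀ z ∈ W'
      rw [hz1]
      exact hx'
  have hsat : ∀ z, h z ∈ Wset → z ∈ Wt := by
    intro z hz
    obtain ⟨x', hx', ho⟩ := (hchar _).mp hz
    have ho2 : Orb G (h z) (g (pr₀ z)) := by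
      rw [hh, hpr₀]
      exact orb_of_Rt_point G g z
    exact (key (pr₀ z) x' (ho.symm.trans ho2)).mpr hx'
  have hsurj : Function.Surjective h := by
    intro y
    obtain ⟨r, hr, x', hx'⟩ := horb y
    obtain ⟨z, -, hz2⟩ := exists_Rt_point G g x' y ⟨r, hr, hx'.symm⟩
    rw [← hh] at hz2
    exact ⟨z, hz2⟩
  have hopen : IsOpen Wset := by
    have hcl : IsClosedMap h := h.isClosedMap
    have hW : Wset = (h '' ((Wt : Set ↑(pullback g G.t))ᶜ))ᶜ := by
      ext y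
      constructor
      · rintro hy ⟨z, hz, rfl⟩
        exact hz (hsat z hy)
      · intro hy
        obtain ⟨z, rfl⟩ := hsurj y
        by_contra hn
        exact hy ⟨z, fun hz => hn ⟨z, hz, rfl⟩, rfl⟩
    rw [hW]
    exact (hcl _ Wt.isOpen.isClosed_compl).isOpen_compl
  let W : G.U.Opens := ⟨Wset, hopen⟩
  have hpre : h ⁻¹ᵁ W = Wt := by
    ext z
    exact ⟨hsat z, fun hz => ⟨z, hz, rfl⟩⟩
  refine ⟨W, ?_, ?_, ?_⟩
  · have hWt : IsAffineOpen Wt := hW'.preimage pr₀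
    haveI : IsAffine (h ⁻¹ᵁ W).toScheme := by
      rw [hpre]
      exact hWt
    haveI : Surjective (h ∣_ W) := by
      constructor
      intro y
      obtain ⟨z, hz⟩ := hsurj y.1
      have hzW : z ∈ h ⁻¹ᵁ W := by
        show h z ∈ W
        rw [hz]
        exact y.2
      refine ⟨⟨z, hzW⟩, ?_⟩
      apply Subtype.ext
      have : ((h ∣_ W) ⟨z, hzW⟩).1 = h z := by simp
      rw [this, hz]
    exact Groth.Agent.Lib.R2H3.AffineDesc.isAffine_of_surjective_universallyClosed _ _ (h ∣_ W)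
  · exact (hchar _).mpr ⟨u', hu', Orb.refl G _⟩
  · ext r
    show G.s r ∈ Wset ↔ G.t r ∈ Wset
    rw [hchar, hchar]
    constructor
    · rintro ⟨x', hx', ho⟩
      exact ⟨x', hx', (Orb.s_t r).symm.trans ho⟩
    · rintro ⟨x', hx', ho⟩
      exact ⟨x', hx', (Orb.s_t r).trans ho⟩

end Groth.Agent.Lib.H5bRG
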