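import Mathlib
import Groth.Agent.Lib.H5bClosedSub
import Groth.Agent.Lib.Helper12OpenSub
import Groth.Agent.Lib.Helper12OpenSub2
import Groth.Agent.S10176
import Groth.Agent.S10177

/-!
# Descending invariant immersions along an étale atlas (helper5)
-/

set_option autoImplicit false
set_option linter.style.haveILetI false

universe u
open CategoryTheory CategoryTheory.Limits AlgebraicGeometry Opposite

namespace Groth.Agent.Lib.H5bInvImm

open Groth.Agent.S13210 Groth.Agent.Lib.H5bClosedSub Groth.Agent.Lib.Helper12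

variable {S : Scheme.{u}}

/-- cancelling a monomorphism in the cospan of a pullback square. -/
lemma isPullback_of_comp_mono {C : Type*} [Category C] {P X Y W Z : C} {fst : P ⟶ X}
    {snd : P ⟶ Y} {f : X ⟶ W} {g : Y ⟶ W} (m : W ⟶ Z) [Mono m]
    (h : IsPullback fst snd (f ≫ m) (g ≫ m)) : IsPullback fst snd f g := by
  have hw : fst ≫ f = snd ≫ g := by
    rw [← cancel_mono m, Category.assoc, Category.assoc, h.w]
  refine ⟨⟨hw⟩, ⟨PullbackCone.IsLimit.mk _
    (fun s => h.lift s.fst s.snd (by rw [← Category.assoc, s.condition, Category.assoc]))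
    (fun s => h.lift_fst _ _ _) (fun s => h.lift_snd _ _ _) ?_⟩⟩
  intro s m' h1 h2
  apply h.hom_ext
  · rw [h1, h.lift_fst]
  · rw [h2, h.lift_snd]

/-- the kernel of the base change of a closed immersion. -/
lemma ker_fst_of_isPullback {Z Z' X Y : Scheme.{u}} {i : Z ⟶ Y} {f : X ⟶ Y} {fst : Z' ⟶ X}
    {snd : Z' ⟶ Z} (sq : IsPullback fst snd f i) [IsClosedImmersion i] :
    fst.ker = i.ker.comap f := by
  rw [← Scheme.IdealSheafData.ker_fst_of_isClosedImmersion, ← sq.isoPullback_hom_fst,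
    Scheme.Hom.ker_comp_of_isIso]

/-- the saturation of an invariant subset of the atlas is itself. -/
lemma preimage_image_of_invariant {X : AlgSp.Sp S} {R U : Over S} {s t : R ⟶ U}
    {p : (AlgSp.yon S).obj U ⟶ X}
    (hpb : IsPullback ((AlgSp.yon S).map t) ((AlgSp.yon S).map s) p p) (U₀ : Set U.left)
    (hinv : s.left ⁻¹' U₀ = t.left ⁻¹' U₀) :
    AlgSp.Points.ofPt p ⁻¹' (AlgSp.Points.ofPt p '' U₀) = U₀ := by
  apply Set.Subset.antisymm
  · rintro u ⟨u', hu', he⟩
    obtain ⟨r, hr1, hr2⟩ := Groth.Agent.S10176.exists_point_of_isPullback_yon hpb u u' he.symm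
    have h1 : r ∈ s.left ⁻¹' U₀ := by rw [Set.mem_preimage, hr2]; exact hu'
    rw [hinv, Set.mem_preimage, hr1] at h1
    exact h1
  · exact Set.subset_preimage_image _ _

/-- the open subsheaf pulls back to the open subscheme of a chart. -/
theorem exists_isPullback_incl {X : AlgSp.Sp S} {W : Set (AlgSp.Points X)} {T : Over S}
    (g : (AlgSp.yon S).obj T ⟶ X) (V : T.left.Opens)
    (hV : (V : Set T.left) = AlgSp.Points.ofPt g ⁻¹' W) :
    ∃ a' : (AlgSp.yon S).obj (Over.mk (V.ι ≫ T.hom)) ⟶ OpenSub.obj X W,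
      IsPullback a' ((AlgSp.yon S).map (Over.homMk V.ι rfl : Over.mk (V.ι ≫ T.hom) ⟶ T))
        (OpenSub.incl X W) g := by
  let T' : Over S := Over.mk (V.ι ≫ T.hom)
  let ι : T' ⟶ T := Over.homMk V.ι rfl
  have hfac : ∀ t : ↥T'.left, AlgSp.Points.ofPt ((AlgSp.yon S).map ι ≫ g) t ∈ W := by
    intro t
    rw [Groth.Agent.S10509.ofPt_yon_map_comp]
    have h3 : V.ι t ∈ (V : Set T.left) := by
      have h := V.range_ι
      have h2 : V.ι t ∈ Set.range V.ι := ⟨t, rfl⟩
      rw [h] at h2; exact h2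
    rw [hV] at h3
    exact h3
  obtain ⟨a', ha'⟩ := (OpenSub.factor_iff W _).2 hfac
  refine ⟨a', ?_⟩
  apply isPullback_of_yon ha'
  intro T'' b c hbc
  obtain ⟨c₀, rfl⟩ := (AlgSp.yon S).map_surjective c
  have hc : ∀ t : ↥T''.left, c₀.left t ∈ (V : Set T.left) := by
    intro t
    have h := (OpenSub.factor_iff W (b ≫ OpenSub.incl X W)).1 ⟨b, rfl⟩ t
    rw [hbc, Groth.Agent.S10509.ofPt_yon_map_comp] at h
    rw [hV]
    exact h
  have hrange : Set.range c₀.left ⊆ Set.range V.ι := by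
    rw [V.range_ι]; rintro _ ⟨t, rfl⟩; exact hc t
  let d₀ : T''.left ⟶ V.toScheme := IsOpenImmersion.lift V.ι c₀.left hrange
  have hd₀ : d₀ ≫ V.ι = c₀.left := IsOpenImmersion.lift_fac _ _ _
  let d : T'' ⟶ T' := Over.homMk d₀ (by
    show d₀ ≫ V.ι ≫ T.hom = T''.hom
    rw [← Category.assoc, hd₀]; exact Over.w c₀)
  have hdι : d ≫ ι = c₀ := by ext1; exact hd₀
  refine ⟨(AlgSp.yon S).map d, ⟨?_, ?_⟩, ?_⟩
  · rw [← cancel_mono (OpenSub.incl X W), Category.assoc, ha', ← Category.assoc,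
      ← Functor.map_comp, hdι, hbc]
  · rw [← Functor.map_comp, hdι]
  · rintro a ⟨-, ha2⟩
    obtain ⟨a₀, rfl⟩ := (AlgSp.yon S).map_surjective a
    rw [← Functor.map_comp] at ha2
    have h := (AlgSp.yon S).map_injective ha2
    congr 1
    ext1
    rw [← cancel_mono V.ι]
    have h4 : a₀.left ≫ V.ι = c₀.left := congrArg (fun m => m.left) h
    rw [h4]; exact hd₀.symm

/-- the open subsheaf of a clopen set of points is a closed subsheaf. -/
theorem repWith_isClosedImmersion_incl {X : AlgSp.Sp S} {W : Set (AlgSp.Points X)}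
    (hW : IsOpen W) (hWc : IsClosed W) :
    AlgSp.RepWith @IsClosedImmersion (OpenSub.incl X W) := by
  apply MorphismProperty.relative.of_exists
  intro T g
  let V : T.left.Opens :=
    ⟨AlgSp.Points.ofPt g ⁻¹' W, hW.preimage (AlgSp.Points.continuous_ofPt g)⟩
  obtain ⟨a', sq⟩ := exists_isPullback_incl (W := W) g V rfl
  refine ⟨_, a', _, sq, ?_⟩
  change IsClosedImmersion V.ι
  apply IsClosedImmersion.of_isPreimmersion
  rw [V.range_ι]
  exact hWc.preimage (AlgSp.Points.continuous_ofPt g)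

/-- the range of the first projection of a pullback square of schemes. -/
lemma range_fst_of_isPullback {P X Y Z : Scheme.{u}} {fst : P ⟶ X} {snd : P ⟶ Y} {f : X ⟶ Z}
    {g : Y ⟶ Z} (h : IsPullback fst snd f g) : Set.range fst = f ⁻¹' Set.range g := by
  have h1 := Scheme.image_preimage_eq_of_isPullback h.flip Set.univ
  simpa [Set.image_univ] using h1

/-- invariance of the kernel of a closed immersion into an (open) piece of the atlas whose
preimages under the two projections of the relation agree. -/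
theorem invariant_ker {X X₀ : AlgSp.Sp S} {R U U₀ : Over S} {s t : R ⟶ U}
    {p : (AlgSp.yon S).obj U ⟶ X}
    (hpb : IsPullback ((AlgSp.yon S).map t) ((AlgSp.yon S).map s) p p)
    (ι₀ : U₀ ⟶ U) [Mono ι₀.left] (p₀ : (AlgSp.yon S).obj U₀ ⟶ X₀) (j : X₀ ⟶ X)
    (hj : p₀ ≫ j = (AlgSp.yon S).map ι₀ ≫ p)
    {Z' R' : Scheme.{u}} (c' : Z' ⟶ U₀.left) [IsClosedImmersion c'] (k : R' ⟶ R.left)
    (s' t' : R' ⟶ Z')
    (hs : IsPullback k s' s.left (c' ≫ ι₀.left)) (ht : IsPullback k t' t.left (c' ≫ ι₀.left)) :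
    Invariant p₀ c'.ker := by
  intro W' b₁ b₂ hb
  have hb' : (AlgSp.yon S).map (b₁ ≫ ι₀) ≫ p = (AlgSp.yon S).map (b₂ ≫ ι₀) ≫ p := by
    rw [Functor.map_comp, Functor.map_comp, Category.assoc, Category.assoc, ← hj,
      ← Category.assoc, ← Category.assoc, hb]
  obtain ⟨r, hr⟩ := (AlgSp.yon S).map_surjective (hpb.lift _ _ hb')
  have hr1 : r ≫ t = b₁ ≫ ι₀ := by
    apply (AlgSp.yon S).map_injective
    rw [Functor.map_comp, hr, hpb.lift_fst]
  have hr2 : r ≫ s = b₂ ≫ ι₀ := by
    apply (AlgSp.yon S).map_injective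
    rw [Functor.map_comp, hr, hpb.lift_snd]
  have hr1' : r.left ≫ t.left = b₁.left ≫ ι₀.left := congrArg (fun m => m.left) hr1
  have hr2' : r.left ≫ s.left = b₂.left ≫ ι₀.left := congrArg (fun m => m.left) hr2
  have sqP := IsPullback.of_hasPullback r.left k
  have h1 : IsPullback (pullback.fst r.left k) (pullback.snd r.left k ≫ t')
      (b₁.left ≫ ι₀.left) (c' ≫ ι₀.left) := by
    rw [← hr1']
    exact sqP.paste_vert ht
  have h2 : IsPullback (pullback.fst r.left k) (pullback.snd r.left k ≫ s')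
      (b₂.left ≫ ι₀.left) (c' ≫ ι₀.left) := by
    rw [← hr2']
    exact sqP.paste_vert hs
  rw [← ker_fst_of_isPullback (isPullback_of_comp_mono ι₀.left h1),
    ← ker_fst_of_isPullback (isPullback_of_comp_mono ι₀.left h2)]

end Groth.Agent.Lib.H5bInvImm
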