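import Mathlib
import Groth.Prelude.Def_RegImm
import Groth.Agent.Lib.Helper13KzLiftB
import Groth.Agent.Lib.Helper13KzTor
import Groth.Agent.S11917
import Groth.Agent.Lib.H9RegImmFlatBC
import Groth.Agent.Lib.H9RegImmStalk

/-!
# Concatenation of Koszul-regular sequences and composition of Koszul-regular immersions (helper9)

* `quasiIso_mappingCone_map`: a map of mapping cones induced by quasi-isomorphisms is a quasi-iso
  (via the derived category).
* `exists_quasiIso_single`: a complex with `K.X 1 = 0`, acyclic off degree 0, is quasi-isomorphic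
  to `H⁰` in degree `0`.
* `isKoszulRegularSeq_append`: if `fs` is Koszul-regular in `A` and `bs` maps to a Koszul-regular
  sequence in `A ⧸ (fs)` then `bs ++ fs` is Koszul-regular.
* `exists_koszul_ker_comp`, `restrict_data`, `comp_at`: geometric bookkeeping for the composition
  of (locally closed) Koszul-regular immersions.
-/

set_option autoImplicit false
set_option linter.style.haveILetI false
universe u

namespace Groth.Agent.Lib.H9KoszulComp

section Sec1
open CategoryTheory CategoryTheory.Limits CochainComplex CohIII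

variable {A : Type u} [CommRing A]

/-- a map of mapping cones induced by quasi-isomorphisms is a quasi-isomorphism. -/
theorem quasiIso_mappingCone_map {K₁ L₁ K₂ L₂ : CochainComplex (ModuleCat.{u} A) ℤ}
    (φ₁ : K₁ ⟶ L₁) (φ₂ : K₂ ⟶ L₂) (a : K₁ ⟶ K₂) (b : L₁ ⟶ L₂) (comm : φ₁ ≫ b = a ≫ φ₂)
    (ha : QuasiIso a) (hb : QuasiIso b) : QuasiIso (mappingCone.map φ₁ φ₂ a b comm) := by
  letI : HasDerivedCategory (ModuleCat.{u} A) := HasDerivedCategory.standard _
  rw [← DerivedCategory.isIso_Q_map_iff_quasiIso] at ha hb ⊢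
  have h := Pretriangulated.isIso₃_of_isIso₁₂
    (DerivedCategory.Q.mapTriangle.map (mappingCone.triangleMap φ₁ φ₂ a b comm))
    (DerivedCategory.mappingCone_triangle_distinguished φ₁)
    (DerivedCategory.mappingCone_triangle_distinguished φ₂) ha hb
  exact h

variable {A : Type u} [CommRing A]

theorem exists_quasiIso_append (M N : ModuleCat.{u} A) (fs : List A)
    (ε : koszulCx M fs ⟶ koszulCx N []) (hε : QuasiIso ε) :
    ∀ bs : List A, ∃ ψ : koszulCx M (bs ++ fs) ⟶ koszulCx N bs, QuasiIso ψ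
  | [] => ⟨ε, hε⟩
  | b :: bs => by
    obtain ⟨ψ, hψ⟩ := exists_quasiIso_append M N fs ε hε bs
    refine ⟨mappingCone.map (b • 𝟙 (koszulCx M (bs ++ fs))) (b • 𝟙 (koszulCx N bs)) ψ ψ
      (by simp), ?_⟩
    exact quasiIso_mappingCone_map _ _ ψ ψ _ hψ hψ

end Sec1

section Sec2
open CategoryTheory CategoryTheory.Limits CochainComplex

variable {A : Type u} [CommRing A]

/-- A complex with `K.X 1 = 0`, acyclic off degree `0`, is quasi-isomorphic to its `H⁰` placed in
degree `0`. -/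
theorem exists_quasiIso_single (K : CochainComplex (ModuleCat.{u} A) ℤ) (hX : IsZero (K.X 1))
    (hK : ∀ i : ℤ, i ≠ 0 → IsZero (K.homology i)) (N : ModuleCat.{u} A) (e : K.homology 0 ≅ N) :
    ∃ ε : K ⟶ (HomologicalComplex.single (ModuleCat.{u} A) (ComplexShape.up ℤ) 0).obj N,
      QuasiIso ε := by
  have hd : K.d 0 1 = 0 := hX.eq_of_tgt _ _
  haveI h1 : IsIso (K.homologyι 0) := K.isIso_homologyι 0 1 (by simp) hd
  let L := (HomologicalComplex.single (ModuleCat.{u} A) (ComplexShape.up ℤ) 0).obj N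
  let φ : K.X 0 ⟶ N := K.pOpcycles 0 ≫ inv (K.homologyι 0) ≫ e.hom
  have hφ : ∀ i : ℤ, (ComplexShape.up ℤ).Rel i 0 → K.d i 0 ≫ φ = 0 := by
    intro i _
    simp [φ]
  refine ⟨HomologicalComplex.mkHomToSingle φ hφ, ?_⟩
  rw [quasiIso_iff]
  intro i
  rw [quasiIsoAt_iff_isIso_homologyMap]
  by_cases hi : i = 0
  · subst hi
    have hdL : L.d 0 1 = 0 := by simp [L]
    have hdL' : L.d (-1) 0 = 0 := by simp [L]
    haveI h2 : IsIso (L.homologyι 0) := L.isIso_homologyι 0 1 (by simp) hdL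
    haveI h3 : IsIso (L.pOpcycles 0) := L.isIso_pOpcycles (-1) 0 (by simp) hdL'
    have hop : HomologicalComplex.opcyclesMap (HomologicalComplex.mkHomToSingle φ hφ) 0 =
        inv (K.homologyι 0) ≫ e.hom ≫
          (HomologicalComplex.singleObjXSelf (ComplexShape.up ℤ) 0 N).inv ≫ L.pOpcycles 0 := by
      rw [← cancel_epi (K.pOpcycles 0), HomologicalComplex.p_opcyclesMap,
        HomologicalComplex.mkHomToSingle_f]
      simp only [φ, Category.assoc]
      rfl
    haveI h4 : IsIso (HomologicalComplex.opcyclesMap (HomologicalComplex.mkHomToSingle φ hφ) 0) := by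
      rw [hop]; infer_instance
    have hnat := HomologicalComplex.homologyι_naturality (HomologicalComplex.mkHomToSingle φ hφ) 0
    haveI : IsIso (HomologicalComplex.homologyMap (HomologicalComplex.mkHomToSingle φ hφ) 0 ≫
        L.homologyι 0) := by
      rw [hnat]; infer_instance
    exact IsIso.of_isIso_comp_right _ (L.homologyι 0)
  · have hz1 := hK i hi
    have hz2 : IsZero (L.homology i) := HomologicalComplex.isZero_single_obj_homology (ComplexShape.up ℤ) 0 N i hi
    exact ⟨⟨0, hz1.eq_of_src _ _, hz2.eq_of_src _ _⟩⟩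

end Sec2

section Sec3
open CategoryTheory CategoryTheory.Limits CochainComplex CohIII
open Groth.Agent.Helper13KzLift Groth.Agent.Helper13Kz Groth.Agent.Lib.Helper21


variable {A : Type u} [CommRing A]

/-- `A ⧸ I` as an `A`-module is the restriction of scalars of `A ⧸ I` over itself. -/
noncomputable def quotEquiv (I : Ideal A) : (A ⧸ I) ≃ₗ[A]
    ((ModuleCat.restrictScalars (Ideal.Quotient.mk I)).obj (ModuleCat.of (A ⧸ I) (A ⧸ I))) where
  toFun x := x
  invFun x := x
  map_add' _ _ := rfl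
  map_smul' a x := by
    obtain ⟨y, rfl⟩ := Ideal.Quotient.mk_surjective x
    rfl
  left_inv _ := rfl
  right_inv _ := rfl

/-- Concatenation of Koszul-regular sequences. -/
theorem isKoszulRegularSeq_append (fs bs : List A) (hfs : LCI.IsKoszulRegularSeq A fs)
    (hbs : LCI.IsKoszulRegularSeq (A ⧸ Ideal.ofList fs)
      (bs.map (Ideal.Quotient.mk (Ideal.ofList fs)))) :
    LCI.IsKoszulRegularSeq A (bs ++ fs) := by
  intro i hi
  rw [isZero_congr (koszul_eq A (bs ++ fs))]
  obtain ⟨π, hπ⟩ : ∃ π : A →+* A ⧸ Ideal.ofList fs, π = Ideal.Quotient.mk (Ideal.ofList fs) :=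
    ⟨_, rfl⟩
  obtain ⟨N, hN⟩ : ∃ N : ModuleCat.{u} A, N = (ModuleCat.restrictScalars
    (Ideal.Quotient.mk (Ideal.ofList fs))).obj
      (ModuleCat.of (A ⧸ Ideal.ofList fs) (A ⧸ Ideal.ofList fs)) := ⟨_, rfl⟩
  obtain ⟨e0⟩ := Groth.Agent.S11917.main A fs
  have h : Ideal.ofList fs • (⊤ : Submodule A A) = Ideal.ofList fs := by simp
  have e : (koszulCx (ModuleCat.of A A) fs).homology 0 ≅ N := by
    rw [hN]
    exact (e0.trans ((Submodule.quotEquivOfEq _ _ h).trans (quotEquiv _))).toModuleIso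
  obtain ⟨ε, hε⟩ := exists_quasiIso_single (koszulCx (ModuleCat.of A A) fs)
    (isZero_koszulCx_X_pos _ fs 1 one_pos)
    (fun i hi => (isZero_congr (koszul_eq A fs) i).mp (hfs i hi)) N e
  obtain ⟨ψ, hψ⟩ := exists_quasiIso_append (ModuleCat.of A A) N fs ε hε bs
  have hz : IsZero ((koszulCx N bs).homology i) := by
    rw [hN]
    exact isZero_homology_restrict (Ideal.Quotient.mk (Ideal.ofList fs))
      (ModuleCat.of (A ⧸ Ideal.ofList fs) (A ⧸ Ideal.ofList fs)) bs i
      ((isZero_congr (koszul_eq (A ⧸ Ideal.ofList fs) _) i).mp (hbs i hi))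
  haveI := (quasiIsoAt_iff_isIso_homologyMap ψ i).mp (hψ.quasiIsoAt i)
  exact hz.of_iso (asIso (HomologicalComplex.homologyMap ψ i))

end Sec3

section Sec4
open CategoryTheory CategoryTheory.Limits

/-- kernel of a composite `R ↠ S → T` when both kernels are generated by Koszul-regular sequences. -/
theorem exists_koszul_ker_comp {R S T : Type u} [CommRing R] [CommRing S] [CommRing T]
    (π : R →+* S) (hπ : Function.Surjective π) (ρ : S →+* T)
    (is : List R) (his : LCI.IsKoszulRegularSeq R is) (hI : RingHom.ker π = Ideal.ofList is)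
    (js : List S) (hjs : LCI.IsKoszulRegularSeq S js) (hJ : RingHom.ker ρ = Ideal.ofList js) :
    ∃ ks : List R, LCI.IsKoszulRegularSeq R ks ∧ RingHom.ker (ρ.comp π) = Ideal.ofList ks ∧
      ks.length = js.length + is.length := by
  obtain ⟨bs, rfl⟩ := List.map_surjective_iff.mpr hπ js
  have hK : RingHom.ker (ρ.comp π) = Ideal.ofList (bs ++ is) := by
    rw [← RingHom.comap_ker, hJ, ← Ideal.map_ofList, Ideal.comap_map_of_surjective π hπ,
      ← RingHom.ker_eq_comap_bot, hI, Ideal.ofList_append]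
  refine ⟨bs ++ is, ?_, hK, by simp⟩
  apply isKoszulRegularSeq_append is bs his
  -- transfer along the isomorphism `S ≃ R ⧸ (is)`
  let e : (R ⧸ Ideal.ofList is) ≃+* S :=
    (Ideal.quotEquivOfEq hI.symm).trans (RingHom.quotientKerEquivOfSurjective hπ)
  have hflat : (e.symm : S →+* R ⧸ Ideal.ofList is).Flat :=
    RingHom.Flat.of_bijective e.symm.bijective
  have h1 := Groth.Agent.Lib.H9RegImmFlatBC.isKoszulRegularSeq_map _ hflat _ hjs
  have h2 : (bs.map π).map (e.symm : S →+* R ⧸ Ideal.ofList is) =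
      bs.map (Ideal.Quotient.mk (Ideal.ofList is)) := by
    rw [List.map_map]
    apply List.map_congr_left
    intro b _
    simp only [Function.comp_apply, RingHom.coe_coe]
    rw [RingEquiv.symm_apply_eq]
    simp [e]
  rw [h2] at h1
  exact h1

end Sec4

section Sec5
open CategoryTheory CategoryTheory.Limits AlgebraicGeometry TopologicalSpace

/-- restricting a locally closed immersion with Koszul data to a smaller affine open. -/
theorem restrict_data {Y X : Scheme.{u}} (i : Y ⟶ X) (U : X.Opens) (hU : IsAffineOpen U)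
    (hcl : IsClosedImmersion (i ∣_ U)) (fs : List Γ(X, U)) (hfs : LCI.IsKoszulRegularSeq Γ(X, U) fs)
    (hker : RingHom.ker (i.app U).hom = Ideal.ofList fs) (W : X.Opens) (hW : IsAffineOpen W)
    (hWU : W ≤ U) :
    IsClosedImmersion (i ∣_ W) ∧ ∃ fs' : List Γ(X, W), fs'.length = fs.length ∧
      LCI.IsKoszulRegularSeq Γ(X, W) fs' ∧ RingHom.ker (i.app W).hom = Ideal.ofList fs' := by
  have hsq : IsPullback (𝟙 Y) i i (𝟙 X) := IsPullback.of_horiz_isIso ⟨by simp⟩
  have hWU' : W ≤ (𝟙 X : X ⟶ X) ⁻¹ᵁ U := hWU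
  obtain ⟨h1, h2⟩ := Groth.Agent.Lib.H9RegImmFlatBC.isClosedImmersion_and_ker i (𝟙 X) i (𝟙 Y) hsq
    U hU hcl W hW hWU'
  refine ⟨h1, fs.map ((𝟙 X : X ⟶ X).appLE U W hWU').hom, by simp, ?_, ?_⟩
  · exact Groth.Agent.Lib.H9RegImmFlatBC.isKoszulRegularSeq_map _
      (Scheme.Hom.flat_appLE (𝟙 X) hU hW hWU') fs hfs
  · rw [h2, hker, Ideal.map_ofList]

/-- pointwise composition of Koszul-regular immersions, keeping track of lengths. -/
theorem comp_at {Z Y X : Scheme.{u}} (i : Y ⟶ X) (j : Z ⟶ Y) (z : Z)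
    (U : X.Opens) (hU : IsAffineOpen U) (hzU : i (j z) ∈ U) (hclU : IsClosedImmersion (i ∣_ U))
    (fs : List Γ(X, U)) (hfs : LCI.IsKoszulRegularSeq Γ(X, U) fs)
    (hkerU : RingHom.ker (i.app U).hom = Ideal.ofList fs)
    (V : Y.Opens) (hV : IsAffineOpen V) (hzV : j z ∈ V) (hclV : IsClosedImmersion (j ∣_ V))
    (gs : List Γ(Y, V)) (hgs : LCI.IsKoszulRegularSeq Γ(Y, V) gs)
    (hkerV : RingHom.ker (j.app V).hom = Ideal.ofList gs) :
    ∃ W : X.affineOpens, (j ≫ i) z ∈ W.1 ∧ IsClosedImmersion ((j ≫ i) ∣_ W.1) ∧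
      ∃ ks : List Γ(X, W.1), ks.length = gs.length + fs.length ∧
        LCI.IsKoszulRegularSeq Γ(X, W.1) ks ∧
        RingHom.ker ((j ≫ i).app W.1).hom = Ideal.ofList ks := by
  haveI : IsAffine U.toScheme := hU
  haveI := hclU
  have hU' : IsAffineOpen (i ⁻¹ᵁ U) := isAffine_of_isAffineHom (i ∣_ U)
  have hsurjU := Groth.Agent.Lib.H9RegImmStalk.app_surjective_of_restrict i U
  obtain ⟨fbar, hfle, hyf⟩ := hU'.exists_basicOpen_le (V := i ⁻¹ᵁ U ⊓ V) ⟨j z, ⟨hzU, hzV⟩⟩ hzU
  obtain ⟨f, rfl⟩ := hsurjU fbar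
  have hW : IsAffineOpen (X.basicOpen f) := hU.basicOpen f
  have hWU : X.basicOpen f ≤ U := X.basicOpen_le f
  have hpre : i ⁻¹ᵁ X.basicOpen f = Y.basicOpen ((i.app U).hom f) := Scheme.preimage_basicOpen i f
  have hzW : j z ∈ i ⁻¹ᵁ X.basicOpen f := by
    rw [hpre]
    exact hyf
  have hW'V : i ⁻¹ᵁ X.basicOpen f ≤ V := by
    rw [hpre]
    exact hfle.trans inf_le_right
  obtain ⟨hcl1, fs', hlen1, hfs', hker1⟩ := restrict_data i U hU hclU fs hfs hkerU _ hW hWU
  haveI : IsAffine (X.basicOpen f).toScheme := hW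
  haveI := hcl1
  have hW' : IsAffineOpen (i ⁻¹ᵁ X.basicOpen f) := isAffine_of_isAffineHom (i ∣_ X.basicOpen f)
  obtain ⟨hcl2, gs', hlen2, hgs', hker2⟩ := restrict_data j V hV hclV gs hgs hkerV _ hW' hW'V
  haveI := hcl2
  have hsurjW := Groth.Agent.Lib.H9RegImmStalk.app_surjective_of_restrict i (X.basicOpen f)
  obtain ⟨ks, hks, hK, hlen⟩ := exists_koszul_ker_comp (i.app (X.basicOpen f)).hom
    hsurjW (j.app (i ⁻¹ᵁ X.basicOpen f)).hom fs' hfs' hker1 gs' hgs' hker2
  refine ⟨⟨X.basicOpen f, hW⟩, hzW, ?_, ks, by rw [hlen, hlen1, hlen2], hks, ?_⟩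
  · show IsClosedImmersion ((j ≫ i) ∣_ X.basicOpen f)
    rw [morphismRestrict_comp]
    exact @IsClosedImmersion.comp _ _ _ _ _ hcl2 hcl1
  · rw [Scheme.Hom.comp_app]
    exact hK

end Sec5

end Groth.Agent.Lib.H9KoszulComp
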