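import Mathlib
import Groth.Prelude.Def_RegImm
import Groth.Agent.Lib.Helper13RLf
import Groth.Agent.S8654

/-!
# Open immersions are Koszul-regular; `IsKoszulAt` is local on the source (lead)
-/

set_option autoImplicit false
set_option linter.style.haveILetI false
universe u

open CategoryTheory CategoryTheory.Limits AlgebraicGeometry

namespace Groth.Agent.Lib.R2LeadKzFpqcC

theorem isKoszulRegularSeq_nil (A : Type u) [CommRing A] : LCI.IsKoszulRegularSeq A [] := by
  intro i hi
  exact HomologicalComplex.isZero_single_obj_homology _ _ _ _ hi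

/-- an open immersion is a Koszul-regular immersion (generated by the empty sequence). -/
theorem isRegularImmersion_of_isOpenImmersion {U X : Scheme.{u}} (j : U ⟶ X) [IsOpenImmersion j] :
    RegImm.IsRegularImmersion .koszul j := by
  refine ⟨inferInstance, fun z => ?_⟩
  obtain ⟨_, ⟨(V : X.Opens), hV, rfl⟩, hzV, hVle⟩ :=
    X.isBasis_affineOpens.exists_subset_of_mem_open (show j z ∈ j.opensRange from ⟨z, rfl⟩)
      j.opensRange.isOpen
  haveI hiso : IsIso (j ∣_ V) := Groth.Agent.Helper13RL.isIso_restrict_of_le_opensRange j V hVle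
  refine ⟨⟨V, hV⟩, hzV, inferInstance, [], isKoszulRegularSeq_nil _, ?_⟩
  haveI : IsIso (j.app V) := Scheme.Hom.isIso_app j V hVle
  rw [Ideal.ofList_nil]
  exact (RingHom.injective_iff_ker_eq_bot _).mp (ConcreteCategory.bijective_of_isIso (j.app V)).1

/-- being Koszul at a point is local on the source. -/
theorem isKoszulAt_of_openImmersion_comp {W X S : Scheme.{u}} (ι : W ⟶ X) [IsOpenImmersion ι]
    (f : X ⟶ S) (w : W) (h : Synt.IsKoszulAt f (ι w)) : Synt.IsKoszulAt (ι ≫ f) w := by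
  obtain ⟨U₀, P₀, i₀, π₀, hxU₀, hlft, hi₀, hπ₀, hcomm⟩ := h
  haveI := hπ₀
  refine ⟨ι ⁻¹ᵁ U₀, P₀, (ι ∣_ U₀) ≫ i₀, π₀, hxU₀, ?_, ?_, hπ₀, ?_⟩
  · have : (ι ⁻¹ᵁ U₀).ι ≫ ι ≫ f = (ι ∣_ U₀) ≫ (U₀.ι ≫ f) := by
      rw [← Category.assoc, ← morphismRestrict_ι, Category.assoc]
    rw [this]
    haveI := hlft
    infer_instance
  · exact Groth.Agent.S8654.result i₀ (ι ∣_ U₀) hi₀ (isRegularImmersion_of_isOpenImmersion _)
  · rw [Category.assoc, hcomm, ← Category.assoc, morphismRestrict_ι, Category.assoc]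

end Groth.Agent.Lib.R2LeadKzFpqcC
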