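import Mathlib
import Groth.Prelude.Def_RegImm
import Groth.Prelude.Def_CAlg
import Groth.Agent.S9142
import Groth.Agent.Lib.Helper28FibreTrans
import Groth.Agent.Lib.Helper28FlatNormal
import Groth.Agent.Lib.Helper5FlatCMFibres
import Groth.Agent.Lib.Helper5TensorSk
import Groth.Agent.Lib.Helper12NoethDescent

/-!
# H5bSynt: Cohen–Macaulayness and `(S_k)` along syntomic ring maps and morphisms (helper5)

Ring level (`R → A` flat between Noetherian rings, all fibre local rings Cohen–Macaulay):
* `cm_localization_iff`: `A_Q` is CM iff `R_{Q ∩ R}` is CM;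
* `hasSk_localization_iff`: `A_Q` is `(S_k)` iff `R_{Q ∩ R}` is `(S_k)`;
* `fibLocRing_cm_of_isSyntomic`: the fibre local rings of a syntomic ring map are CM.
-/

set_option autoImplicit false
universe u

namespace Groth.Agent.Lib.H5b.Synt

open Groth.Agent.Lib.Helper28 Groth.Agent.Lib.Helper5 Groth.Agent.Lib.Helper5.FlatCMFibres

section Ring

variable {R A : Type u} [CommRing R] [CommRing A] [Algebra R A]

theorem fibLocRing_cm_of_isSyntomic [IsNoetherianRing A] (h : Synt.IsSyntomic R A) (Q : Ideal A)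
    [Q.IsPrime] : LocCoh.IsCohenMacaulayLocalRing (EGA4.FibLocRing R A Q) := by
  refine (forall_isCohenMacaulayRing_fiber_iff (A := R) (B := A)).mp ?_ Q
  intro p hp
  exact Groth.Agent.S9142.result _ _ (h.2.2 ⟨p, hp⟩)

theorem height_maximalIdeal_localization (B : Type u) [CommRing B] (Q : Ideal B) [Q.IsPrime] :
    (IsLocalRing.maximalIdeal (Localization.AtPrime Q)).height = Q.height := by
  have h1 := IsLocalization.AtPrime.ringKrullDim_eq_height Q (Localization.AtPrime Q)
  rw [← IsLocalRing.maximalIdeal_height_eq_ringKrullDim] at h1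
  exact WithBot.coe_injective h1

variable [IsNoetherianRing R] [IsNoetherianRing A] [Module.Flat R A]

theorem cm_localization_iff (Q : Ideal A) [Q.IsPrime]
    (hF : LocCoh.IsCohenMacaulayLocalRing (EGA4.FibLocRing R A Q)) :
    LocCoh.IsCohenMacaulayLocalRing (Localization.AtPrime Q) ↔
      LocCoh.IsCohenMacaulayLocalRing (Localization.AtPrime (Q.comap (algebraMap R A))) := by
  have hNA : IsNoetherianRing (Localization.AtPrime Q) :=
    IsLocalization.isNoetherianRing Q.primeCompl _ inferInstance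
  have hNR : IsNoetherianRing (Localization.AtPrime (Q.comap (algebraMap R A))) :=
    IsLocalization.isNoetherianRing (Q.comap (algebraMap R A)).primeCompl _ inferInstance
  have hc := codepth_eq (A := R) Q hF
  rw [isCohenMacaulayLocalRing_iff, isCohenMacaulayLocalRing_iff,
    height_maximalIdeal_localization, height_maximalIdeal_localization]
  have hQ : Q.height ≠ ⊤ := Ideal.height_ne_top_of_isPrime
  have hP : (Q.comap (algebraMap R A)).height ≠ ⊤ := Ideal.height_ne_top_of_isPrime
  constructor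
  · intro h
    rw [← h] at hc
    rw [add_comm] at hc
    exact (ENat.add_right_injective_of_ne_top hQ) hc
  · intro h
    rw [← h] at hc
    rw [add_comm Q.height] at hc
    exact ((ENat.add_right_injective_of_ne_top hP) hc).symm

theorem hasSkAt_self_iff_hasSk {B : Type u} [CommRing B] (k : ℕ) (p : Ideal B) [p.IsPrime] :
    EGA4.HasSkAt k B B p ↔
      LocCoh.HasSk k (Localization.AtPrime p) (Localization.AtPrime p) := by
  unfold EGA4.HasSkAt
  exact hasSk_congr (IsLocalizedModule.mapEquiv p.primeCompl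
    (LocalizedModule.mkLinearMap p.primeCompl B) (Algebra.linearMap B (Localization.AtPrime p))
    (Localization.AtPrime p) (LinearEquiv.refl B B))

theorem hasSk_localization_iff (k : ℕ)
    (hF : ∀ (Q : Ideal A) [Q.IsPrime], LocCoh.IsCohenMacaulayLocalRing (EGA4.FibLocRing R A Q))
    (Q : Ideal A) [Q.IsPrime] :
    LocCoh.HasSk k (Localization.AtPrime Q) (Localization.AtPrime Q) ↔
      LocCoh.HasSk k (Localization.AtPrime (Q.comap (algebraMap R A)))
        (Localization.AtPrime (Q.comap (algebraMap R A))) := by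
  rw [← hasSkAt_self_iff_hasSk, ← hasSkAt_self_iff_hasSk]
  exact (hasSkAt_iff_of_cm_fibres (A := R) k hF Q).symm

end Ring

section Scheme

open AlgebraicGeometry CategoryTheory

/-- The stalk at a point of an affine open is the localization of the coordinate ring at the
corresponding prime. -/
theorem nonempty_stalk_equiv (X : Scheme.{u}) {U : X.Opens} (hU : IsAffineOpen U) (x : X)
    (hx : x ∈ U) :
    Nonempty (X.presheaf.stalk x ≃+* Localization.AtPrime (hU.primeIdealOf ⟨x, hx⟩).asIdeal) := by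
  letI : Algebra Γ(X, U) (X.presheaf.stalk x) :=
    TopCat.Presheaf.algebra_section_stalk X.presheaf ⟨x, hx⟩
  haveI : IsLocalization.AtPrime (X.presheaf.stalk x) (hU.primeIdealOf ⟨x, hx⟩).asIdeal :=
    hU.isLocalization_stalk ⟨x, hx⟩
  exact ⟨(IsLocalization.algEquiv (hU.primeIdealOf ⟨x, hx⟩).asIdeal.primeCompl
    (X.presheaf.stalk x) (Localization.AtPrime (hU.primeIdealOf ⟨x, hx⟩).asIdeal)).toRingEquiv⟩

variable {X S : Scheme.{u}}

theorem exists_chart (f : X ⟶ S) (x : X) (U : X.affineOpens) (V : S.affineOpens)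
    (e : U.1 ≤ f ⁻¹ᵁ V.1) (hx : x ∈ U.1) :
    letI := (f.appLE V.1 U.1 e).hom.toAlgebra
    ∃ (Q : Ideal Γ(X, U.1)) (_ : Q.IsPrime),
      Nonempty (X.presheaf.stalk x ≃+* Localization.AtPrime Q) ∧
      Nonempty (S.presheaf.stalk (f x) ≃+*
        Localization.AtPrime (Q.comap (algebraMap Γ(S, V.1) Γ(X, U.1)))) := by
  letI := (f.appLE V.1 U.1 e).hom.toAlgebra
  refine ⟨(U.2.primeIdealOf ⟨x, hx⟩).asIdeal, inferInstance, nonempty_stalk_equiv X U.2 x hx, ?_⟩
  have hc := IsAffineOpen.comap_primeIdealOf_appLE (f := f) (x := x) V.1 V.2 U.1 U.2 e hx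
  have hc' : (U.2.primeIdealOf ⟨x, hx⟩).asIdeal.comap (algebraMap Γ(S, V.1) Γ(X, U.1)) =
      (V.2.primeIdealOf ⟨f x, e hx⟩).asIdeal := congrArg PrimeSpectrum.asIdeal hc
  have key : ∀ (P : Ideal Γ(S, V.1)) [P.IsPrime], P = (V.2.primeIdealOf ⟨f x, e hx⟩).asIdeal →
      Nonempty (S.presheaf.stalk (f x) ≃+* Localization.AtPrime P) := by
    intro P hP hPe
    subst hPe
    exact nonempty_stalk_equiv S V.2 (f x) (e hx)
  exact key _ hc'

/-- For `f` syntomic at `x` between locally Noetherian schemes, the local ring at `x` is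
Cohen–Macaulay (resp. `(S_k)`) iff the local ring at `f x` is. -/
theorem stalk_iff_of_isSyntomicAt [IsLocallyNoetherian X] [IsLocallyNoetherian S] (f : X ⟶ S)
    (x : X) (h : Synt.IsSyntomicAt f x) :
    (LocCoh.IsCohenMacaulayLocalRing (X.presheaf.stalk x) ↔
      LocCoh.IsCohenMacaulayLocalRing (S.presheaf.stalk (f x))) ∧
    ∀ k : ℕ, (LocCoh.HasSk k (X.presheaf.stalk x) (X.presheaf.stalk x) ↔
      LocCoh.HasSk k (S.presheaf.stalk (f x)) (S.presheaf.stalk (f x))) := by
  obtain ⟨U, V, e, hx, hsyn⟩ := h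
  letI := (f.appLE V.1 U.1 e).hom.toAlgebra
  haveI hNR : IsNoetherianRing Γ(S, V.1) := IsLocallyNoetherian.component_noetherian V
  haveI hNA : IsNoetherianRing Γ(X, U.1) := IsLocallyNoetherian.component_noetherian U
  haveI : Module.Flat Γ(S, V.1) Γ(X, U.1) := hsyn.1
  have hF : ∀ (Q : Ideal Γ(X, U.1)) [Q.IsPrime],
      LocCoh.IsCohenMacaulayLocalRing (EGA4.FibLocRing Γ(S, V.1) Γ(X, U.1) Q) :=
    fun Q _ => fibLocRing_cm_of_isSyntomic hsyn Q
  obtain ⟨Q, hQ, ⟨e1⟩, ⟨e2⟩⟩ := exists_chart f x U V e hx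
  have hNAQ : IsNoetherianRing (Localization.AtPrime Q) :=
    IsLocalization.isNoetherianRing Q.primeCompl _ inferInstance
  have hNRP : IsNoetherianRing
      (Localization.AtPrime (Q.comap (algebraMap Γ(S, V.1) Γ(X, U.1)))) :=
    IsLocalization.isNoetherianRing (Q.comap (algebraMap Γ(S, V.1) Γ(X, U.1))).primeCompl _
      inferInstance
  have hNx : IsNoetherianRing (X.presheaf.stalk x) := isNoetherianRing_of_ringEquiv _ e1.symm
  have hNs : IsNoetherianRing (S.presheaf.stalk (f x)) := isNoetherianRing_of_ringEquiv _ e2.symm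
  refine ⟨?_, fun k => ?_⟩
  · constructor
    · intro h1
      have h2 : LocCoh.IsCohenMacaulayLocalRing (Localization.AtPrime Q) :=
        isCohenMacaulayLocalRing_of_ringEquiv e1
      have h3 := (cm_localization_iff Q (hF Q)).mp h2
      exact isCohenMacaulayLocalRing_of_ringEquiv e2.symm
    · intro h1
      have h2 : LocCoh.IsCohenMacaulayLocalRing
          (Localization.AtPrime (Q.comap (algebraMap Γ(S, V.1) Γ(X, U.1)))) :=
        isCohenMacaulayLocalRing_of_ringEquiv e2
      have h3 := (cm_localization_iff Q (hF Q)).mpr h2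
      exact isCohenMacaulayLocalRing_of_ringEquiv e1.symm
  · constructor
    · intro h1
      have h2 := Groth.Agent.Lib.Helper5.TensorSk.hasSk_self_of_ringEquiv e1 k h1
      have h3 := (hasSk_localization_iff k hF Q).mp h2
      exact Groth.Agent.Lib.Helper5.TensorSk.hasSk_self_of_ringEquiv e2.symm k h3
    · intro h1
      have h2 := Groth.Agent.Lib.Helper5.TensorSk.hasSk_self_of_ringEquiv e2 k h1
      have h3 := (hasSk_localization_iff k hF Q).mpr h2
      exact Groth.Agent.Lib.Helper5.TensorSk.hasSk_self_of_ringEquiv e1.symm k h3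

theorem flat_of_isSyntomicMor (f : X ⟶ S) (h : Synt.IsSyntomicMor f) : Flat f := by
  have hQ : RingHom.StableUnderCompositionWithLocalizationAwaySource RingHom.Flat :=
    fun _ S _ _ _ _ _ r _ _ hf => RingHom.Flat.comp (RingHom.Flat.holdsForLocalizationAway S r) hf
  rw [HasRingHomProperty.iff_exists_appLE (P := @Flat) hQ]
  intro x
  obtain ⟨U, V, e, hx, hsyn⟩ := h x
  exact ⟨V, U, hx, e, hsyn.1⟩

theorem lfp_of_isSyntomicMor (f : X ⟶ S) (h : Synt.IsSyntomicMor f) :
    LocallyOfFinitePresentation f := by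
  have hQ : RingHom.StableUnderCompositionWithLocalizationAwaySource
      @RingHom.FinitePresentation := by
    intro R S T _ _ _ _ r _ f hf
    exact hf.comp (RingHom.finitePresentation_holdsForLocalizationAway S r)
  rw [HasRingHomProperty.iff_exists_appLE (P := @LocallyOfFinitePresentation) hQ]
  intro x
  obtain ⟨U, V, e, hx, hsyn⟩ := h x
  exact ⟨V, U, hx, e, hsyn.2.1⟩

theorem isLocallyNoetherian_of_isSyntomicMor [IsLocallyNoetherian S] (f : X ⟶ S)
    (h : Synt.IsSyntomicMor f) : IsLocallyNoetherian X := by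
  haveI := lfp_of_isSyntomicMor f h
  exact LocallyOfFiniteType.isLocallyNoetherian f

theorem isLocallyNoetherian_of_syntomic_cover {ι : Type u} {Xi : ι → Scheme.{u}}
    (f : ∀ i, Xi i ⟶ S) (hsurj : ∀ s : S, ∃ i, s ∈ Set.range (f i).base)
    (hsyn : ∀ i, Synt.IsSyntomicMor (f i)) (hX : ∀ i, IsLocallyNoetherian (Xi i)) :
    IsLocallyNoetherian S := by
  haveI hfl : Flat (Limits.Sigma.desc f) :=
    IsZariskiLocalAtSource.sigmaDesc (P := @Flat) (fun i => flat_of_isSyntomicMor (f i) (hsyn i))
  haveI hfp : LocallyOfFinitePresentation (Limits.Sigma.desc f) :=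
    IsZariskiLocalAtSource.sigmaDesc (P := @LocallyOfFinitePresentation)
      (fun i => lfp_of_isSyntomicMor (f i) (hsyn i))
  haveI hs : Surjective (Limits.Sigma.desc f) := by
    refine ⟨fun s => ?_⟩
    obtain ⟨i, x, hx⟩ := hsurj s
    refine ⟨Limits.Sigma.ι Xi i x, ?_⟩
    rw [← Scheme.Hom.comp_apply, Limits.Sigma.ι_desc]
    exact hx
  haveI hN : IsLocallyNoetherian (∐ Xi) :=
    (isLocallyNoetherian_iff_openCover (AlgebraicGeometry.sigmaOpenCover Xi)).mpr (fun i => hX i)
  exact Groth.Agent.Lib.Helper12.NoethDescent.isLocallyNoetherian_of_flat_lfp_surjective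
    (Limits.Sigma.desc f)

end Scheme

end Groth.Agent.Lib.H5b.Synt
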