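import Groth.Agent.Lib.H9EtCoordB

/-! Sections of a morphism locally of finite presentation: smoothness at a point of the section is
equivalent to the existence of an etale chart to affine space carrying the section to the zero
section (helper9). -/

set_option autoImplicit false
set_option linter.style.haveILetI false
set_option linter.unusedSimpArgs false
universe u
open TensorProduct KaehlerDifferential IsLocalRing
open AlgebraicGeometry CategoryTheory CategoryTheory.Limits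

namespace Groth.Agent.Lib.H9SecChart

-- ===== part D1.0 =====
section

open Groth.Agent.Lib.H9EtCoord

lemma exists_basis_local {R M T : Type*} [CommRing R] [IsLocalRing R] [AddCommGroup M]
    [Module R M] [Module.Finite R M] [Module.Flat R M]
    (d : T → M) (hd : Submodule.span R (Set.range d) = ⊤) :
    ∃ (m : ℕ) (w : Fin m → T), LinearIndependent R (d ∘ w) ∧
      Submodule.span R (Set.range (d ∘ w)) = ⊤ := by
  obtain ⟨m, w, hli, hsp⟩ := exists_extend_local d hd (r := 0) (Fin.elim0)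
    (linearIndependent_empty_type)
  refine ⟨m, w, ?_, ?_⟩
  · have := hli.comp (Sum.inr : Fin m → Fin 0 ⊕ Fin m) Sum.inr_injective
    exact this
  · rw [← hsp]
    congr 1
    ext z
    constructor
    · rintro ⟨j, rfl⟩
      exact ⟨Sum.inr j, rfl⟩
    · rintro ⟨j | j, rfl⟩
      · exact Fin.elim0 j
      · exact ⟨j, rfl⟩

theorem ring_main (R B : Type u) [CommRing R] [CommRing B] (φ : R →+* B) (σ : B →+* R)
    (hσφ : ∀ r, σ (φ r) = r) (hfp : φ.FinitePresentation) (q : Ideal B) [q.IsPrime]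
    (hsm : letI := φ.toAlgebra; Algebra.IsSmoothAt R q) :
    ∃ (g : B) (_ : g ∉ q) (m : ℕ) (b : Fin m → B), (∀ j, σ (b j) = 0) ∧
      ∀ (C : Type u) [CommRing C] (ψ : B →+* C),
        (letI := ψ.toAlgebra; IsLocalization.Away g C) →
        (MvPolynomial.eval₂Hom (ψ.comp φ)
          (fun j : ULift.{u} (Fin m) => ψ (b j.down))).Etale := by
  letI := φ.toAlgebra
  haveI : Algebra.FinitePresentation R B := hfp
  haveI : Algebra.IsSmoothAt R q := hsm
  obtain ⟨hfree, hfin⟩ := free_kaehler R B (q := q)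
  obtain ⟨m, w, hli, hsp⟩ := exists_basis_local (R := Localization.AtPrime q)
    (M := Ω[Localization.AtPrime q⁄R]) (T := B)
    (fun b => D R (Localization.AtPrime q) (algebraMap B (Localization.AtPrime q) b))
    (span_D_algebraMap R B q)
  let b : Fin m → B := fun j => w j - φ (σ (w j))
  have hb : ∀ j, σ (b j) = 0 := fun j => by
    simp only [b, map_sub, hσφ, sub_self]
  have hDb : (fun j => D R (Localization.AtPrime q) (algebraMap B (Localization.AtPrime q) (b j)))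
      = (fun b => D R (Localization.AtPrime q) (algebraMap B (Localization.AtPrime q) b)) ∘ w := by
    funext j
    simp only [b, map_sub, Function.comp_apply]
    have : algebraMap B (Localization.AtPrime q) (φ (σ (w j))) =
        algebraMap R (Localization.AtPrime q) (σ (w j)) := by
      rw [IsScalarTower.algebraMap_apply R B (Localization.AtPrime q)]
      rfl
    rw [this, Derivation.map_algebraMap, sub_zero]
  let φ₀ : MvPolynomial (Fin m) R →ₐ[R] B := MvPolynomial.aeval b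
  letI : Algebra (MvPolynomial (Fin m) R) B := φ₀.toRingHom.toAlgebra
  haveI : IsScalarTower R (MvPolynomial (Fin m) R) B :=
    IsScalarTower.of_algebraMap_eq (fun a => (φ₀.commutes a).symm)
  have hX : ∀ i, algebraMap (MvPolynomial (Fin m) R) B (MvPolynomial.X i) = b i :=
    fun i => MvPolynomial.aeval_X _ i
  haveI : Algebra.IsEtaleAt (MvPolynomial (Fin m) R) q :=
    isEtaleAt_of_basis R B (Fin m) q (by simp only [hX]; rw [hDb]; exact hli)
      (by simp only [hX]; rw [hDb]; exact hsp)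
  haveI : Algebra.FinitePresentation (MvPolynomial (Fin m) R) B :=
    Algebra.FinitePresentation.of_restrict_scalars_finitePresentation R _ _
  obtain ⟨g, hg, hE⟩ := Algebra.exists_etale_of_isEtaleAt (R := MvPolynomial (Fin m) R) q
  refine ⟨g, hg, m, b, hb, ?_⟩
  intro C _ ψ hψ
  letI := ψ.toAlgebra
  haveI : IsLocalization.Away g C := hψ
  let e : Localization.Away g ≃ₐ[B] C := IsLocalization.algEquiv (.powers g) _ _
  have key : MvPolynomial.eval₂Hom (ψ.comp φ) (ψ ∘ b) =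
      e.toRingEquiv.toRingHom.comp
        (algebraMap (MvPolynomial (Fin m) R) (Localization.Away g)) := by
    apply MvPolynomial.ringHom_ext
    · intro r
      rw [MvPolynomial.eval₂Hom_C, RingHom.comp_apply, RingHom.comp_apply,
        IsScalarTower.algebraMap_apply (MvPolynomial (Fin m) R) B (Localization.Away g),
        ← MvPolynomial.algebraMap_eq, ← IsScalarTower.algebraMap_apply R (MvPolynomial (Fin m) R) B]
      change ψ (φ r) = e (algebraMap B (Localization.Away g) (algebraMap R B r))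
      rw [e.commutes]
      rfl
    · intro j
      rw [MvPolynomial.eval₂Hom_X', RingHom.comp_apply,
        IsScalarTower.algebraMap_apply (MvPolynomial (Fin m) R) B (Localization.Away g), hX]
      change ψ (b j) = e (algebraMap B (Localization.Away g) (b j))
      rw [e.commutes]
      rfl
  have key2 : MvPolynomial.eval₂Hom (ψ.comp φ) (fun j : ULift.{u} (Fin m) => ψ (b j.down)) =
      (MvPolynomial.eval₂Hom (ψ.comp φ) (ψ ∘ b)).comp
        (MvPolynomial.renameEquiv R (Equiv.ulift.{u} (α := Fin m))).toRingEquiv.toRingHom := by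
    apply MvPolynomial.ringHom_ext
    · intro r
      simp
    · intro j
      simp
  rw [key2]
  refine RingHom.Etale.respectsIso.2 _ _ ?_
  rw [key]
  exact RingHom.Etale.respectsIso.1 _ e.toRingEquiv (RingHom.etale_algebraMap.mpr hE)

end

-- ===== part D2.0 =====
section

variable {X Y : Scheme.{u}} (f : X ⟶ Y) (i : Y ⟶ X) (hi : i ≫ f = 𝟙 Y)

include hi in
lemma preimage_preimage (U : Y.Opens) : i ⁻¹ᵁ (f ⁻¹ᵁ U) = U := by
  rw [← Scheme.Hom.comp_preimage, hi]
  rfl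

include hi in
/-- affine opens compatible with a section -/
lemma exists_affine_pair (y : Y) :
    ∃ (U : Y.Opens) (V : X.Opens), IsAffineOpen U ∧ IsAffineOpen V ∧ y ∈ U ∧
      U ≤ i ⁻¹ᵁ V ∧ V ≤ f ⁻¹ᵁ U := by
  have hfy : f (i y) = y := by
    rw [← Scheme.Hom.comp_apply, hi]; rfl
  obtain ⟨_, ⟨U₀, hU₀, rfl⟩, hyU₀, -⟩ :=
    Y.isBasis_affineOpens.exists_subset_of_mem_open (Set.mem_univ y) isOpen_univ
  have hx0 : i y ∈ f ⁻¹ᵁ U₀ := by
    change f (i y) ∈ U₀
    rw [hfy]; exact hyU₀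
  obtain ⟨_, ⟨V₀, hV₀, rfl⟩, hxV₀, hVU₀'⟩ :=
    X.isBasis_affineOpens.exists_subset_of_mem_open hx0 (f ⁻¹ᵁ U₀).2
  have hVU₀ : V₀ ≤ f ⁻¹ᵁ U₀ := hVU₀'
  obtain ⟨a, ha1, ha2⟩ := hU₀.exists_basicOpen_le (V := i ⁻¹ᵁ V₀) ⟨y, hxV₀⟩ hyU₀
  refine ⟨Y.basicOpen a, X.basicOpen (f.appLE U₀ V₀ hVU₀ a), hU₀.basicOpen a,
    hV₀.basicOpen _, ha2, ?_, ?_⟩
  · rw [Scheme.basicOpen_appLE, Scheme.Hom.preimage_inf, preimage_preimage f i hi]
    exact le_inf ha1 le_rfl
  · rw [Scheme.basicOpen_appLE]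
    exact inf_le_right

end

-- ===== part D4.0 =====
section

/-- A morphism of affine schemes to affine space is etale if the corresponding polynomial
ring map is. -/
theorem etale_homOfVector_of_ring {n : Type u} {S T : Scheme.{u}} [IsAffine S] [IsAffine T]
    (p : T ⟶ S) (v : n → Γ(T, ⊤))
    (h : (MvPolynomial.eval₂Hom p.appTop.hom v).Etale) :
    Etale (AffineSpace.homOfVector p v) := by
  rw [HasRingHomProperty.iff_of_isAffine (P := @Etale)]
  let E : MvPolynomial n Γ(S, ⊤) →+* Γ(𝔸(n; S), ⊤) :=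
    MvPolynomial.eval₂Hom ((𝔸(n; S) ↘ S).appTop).hom (AffineSpace.coord S)
  have hE : CommRingCat.ofHom E =
      (Scheme.ΓSpecIso (.of (MvPolynomial n Γ(S, ⊤)))).inv ≫
        (AffineSpace.isoOfIsAffine n S).hom.appTop := by
    rw [AffineSpace.isoOfIsAffine_hom_appTop, Iso.inv_hom_id_assoc]
  haveI : IsIso (CommRingCat.ofHom E) := by
    rw [hE]
    haveI : IsIso ((AffineSpace.isoOfIsAffine n S).hom.appTop) := by
      change IsIso ((AffineSpace.isoOfIsAffine n S).hom.app ⊤)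
      infer_instance
    infer_instance
  have key : CommRingCat.ofHom E ≫ (AffineSpace.homOfVector p v).appTop =
      CommRingCat.ofHom (MvPolynomial.eval₂Hom p.appTop.hom v) := by
    ext1
    apply MvPolynomial.ringHom_ext
    · intro r
      simp only [CommRingCat.hom_comp, CommRingCat.hom_ofHom, RingHom.comp_apply, E,
        MvPolynomial.eval₂Hom_C]
      rw [← CommRingCat.comp_apply, ← Scheme.Hom.comp_appTop, AffineSpace.homOfVector_over]
    · intro j
      simp only [CommRingCat.hom_comp, CommRingCat.hom_ofHom, RingHom.comp_apply, E,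
        MvPolynomial.eval₂Hom_X']
      exact AffineSpace.homOfVector_appTop_coord p v j
  have h2 : ((CommRingCat.ofHom E ≫ (AffineSpace.homOfVector p v).appTop).hom).Etale := by
    rw [key]; exact h
  exact (RingHom.Etale.respectsIso.cancel_left_isIso (CommRingCat.ofHom E) _).mp h2

end

-- ===== part D5.0 =====
section

variable {X Y : Scheme.{u}}

lemma topIso_hom_inv_apply (U : X.Opens) (s : Γ(X, U)) :
    U.topIso.hom.hom (U.topIso.inv.hom s) = s := by
  rw [← RingHom.comp_apply, ← CommRingCat.hom_comp, Iso.inv_hom_id]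
  rfl

lemma topIso_inv_hom_apply (U : X.Opens) (s : Γ(U, ⊤)) :
    U.topIso.inv.hom (U.topIso.hom.hom s) = s := by
  rw [← RingHom.comp_apply, ← CommRingCat.hom_comp, Iso.hom_inv_id]
  rfl

lemma resLE_appTop_eq (f : X ⟶ Y) {U : Y.Opens} {V : X.Opens} (e : V ≤ f ⁻¹ᵁ U)
    (s : Γ(U, ⊤)) :
    (f.resLE U V e).appTop.hom s = V.topIso.inv.hom ((f.appLE U V e).hom (U.topIso.hom.hom s)) := by
  have h := Scheme.Hom.resLE_app_top f e
  exact congr($h s)

lemma resLE_appTop_topIso_inv (f : X ⟶ Y) {U : Y.Opens} {V : X.Opens} (e : V ≤ f ⁻¹ᵁ U)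
    (s : Γ(Y, U)) :
    (f.resLE U V e).appTop.hom (U.topIso.inv.hom s) = V.topIso.inv.hom ((f.appLE U V e).hom s) := by
  rw [resLE_appTop_eq, topIso_hom_inv_apply]

lemma homOfLE_appTop_topIso_inv {V W : X.Opens} (e : V ≤ W) (s : Γ(X, W)) :
    (X.homOfLE e).appTop.hom (W.topIso.inv.hom s) =
      V.topIso.inv.hom ((X.presheaf.map (homOfLE e).op).hom s) := by
  have h := resLE_appTop_topIso_inv (𝟙 X) (U := W) (V := V) e s
  rw [Scheme.Hom.resLE_id] at h
  rw [h]
  congr 1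

end

-- ===== part D6.0 =====
section

variable {X Y : Scheme.{u}}

/-- etaleness on the basic open `W = D(g)` -/
theorem etale_chart_W (f : X ⟶ Y) (U₁ : Y.Opens) (V₁ : X.Opens) (hU₁ : IsAffineOpen U₁)
    (hV₁ : IsAffineOpen V₁) (hVU₁ : V₁ ≤ f ⁻¹ᵁ U₁) (g : Γ(X, V₁)) (m : ℕ) (b : Fin m → Γ(X, V₁))
    (hE : ∀ (C : Type u) [CommRing C] (ψ : Γ(X, V₁) →+* C),
        (letI := ψ.toAlgebra; IsLocalization.Away g C) →
        (MvPolynomial.eval₂Hom (ψ.comp (f.appLE U₁ V₁ hVU₁).hom)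
          (fun j : ULift.{u} (Fin m) => ψ (b j.down))).Etale)
    (hWV₁ : X.basicOpen g ≤ V₁) (hWU₁ : X.basicOpen g ≤ f ⁻¹ᵁ U₁) :
    Etale (AffineSpace.homOfVector (f.resLE U₁ (X.basicOpen g) hWU₁)
      (fun j : ULift.{u} (Fin m) => (X.basicOpen g).topIso.inv.hom
        ((X.presheaf.map (homOfLE hWV₁).op).hom (b j.down)))) := by
  haveI : IsAffine (U₁ : Scheme.{u}) := hU₁
  haveI : IsAffine ((X.basicOpen g : X.Opens) : Scheme.{u}) := hV₁.basicOpen g
  apply etale_homOfVector_of_ring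
  set W := X.basicOpen g with hW
  let ψ : Γ(X, V₁) →+* Γ(X, W) := (X.presheaf.map (homOfLE hWV₁).op).hom
  have hloc : (letI := ψ.toAlgebra; IsLocalization.Away g Γ(X, W)) :=
    hV₁.isLocalization_of_eq_basicOpen g (homOfLE hWV₁) rfl
  have h1 := hE Γ(X, W) ψ hloc
  let eW : Γ(W, ⊤) ≃+* Γ(X, W) := W.topIso.commRingCatIsoToRingEquiv
  let eU : Γ(U₁, ⊤) ≃+* Γ(Y, U₁) := U₁.topIso.commRingCatIsoToRingEquiv
  have key : MvPolynomial.eval₂Hom (f.resLE U₁ W hWU₁).appTop.hom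
      (fun j : ULift.{u} (Fin m) => W.topIso.inv.hom (ψ (b j.down))) =
      eW.symm.toRingHom.comp ((MvPolynomial.eval₂Hom (ψ.comp (f.appLE U₁ V₁ hVU₁).hom)
          (fun j : ULift.{u} (Fin m) => ψ (b j.down))).comp
        (MvPolynomial.mapEquiv (ULift.{u} (Fin m)) eU).toRingHom) := by
    apply MvPolynomial.ringHom_ext
    · intro r
      simp only [MvPolynomial.eval₂Hom_C, RingHom.comp_apply, RingEquiv.toRingHom_eq_coe,
        RingEquiv.coe_toRingHom, MvPolynomial.mapEquiv_apply, MvPolynomial.map_C]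
      rw [resLE_appTop_eq]
      have : (f.appLE U₁ W hWU₁).hom (U₁.topIso.hom.hom r) =
          ψ ((f.appLE U₁ V₁ hVU₁).hom (eU r)) := by
        have h3 : f.appLE U₁ W hWU₁ =
            f.appLE U₁ V₁ hVU₁ ≫ X.presheaf.map (homOfLE hWV₁).op :=
          (Scheme.Hom.appLE_map f hVU₁ (homOfLE hWV₁).op).symm
        rw [h3]
        rfl
      rw [this]
      rfl
    · intro j
      simp only [MvPolynomial.eval₂Hom_X', RingHom.comp_apply, RingEquiv.toRingHom_eq_coe,
        RingEquiv.coe_toRingHom, MvPolynomial.mapEquiv_apply, MvPolynomial.map_X]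
      rfl
  exact key ▸ RingHom.Etale.respectsIso.1 _ eW.symm (RingHom.Etale.respectsIso.2 _ _ h1)

end

-- ===== part D6.1 =====
section

variable {X Y : Scheme.{u}}

instance isOpenImmersion_affineSpace_map (n : Type u) {S T : Scheme.{u}} (j : S ⟶ T)
    [IsOpenImmersion j] : IsOpenImmersion (AffineSpace.map n j) :=
  MorphismProperty.of_isPullback (AffineSpace.isPullback_map (n := n) j).flip inferInstance

/-- etaleness on smaller opens -/
theorem etale_chart (f : X ⟶ Y) (U₁ : Y.Opens) (V₁ : X.Opens) (hU₁ : IsAffineOpen U₁)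
    (hV₁ : IsAffineOpen V₁) (hVU₁ : V₁ ≤ f ⁻¹ᵁ U₁) (g : Γ(X, V₁)) (m : ℕ) (b : Fin m → Γ(X, V₁))
    (hE : ∀ (C : Type u) [CommRing C] (ψ : Γ(X, V₁) →+* C),
        (letI := ψ.toAlgebra; IsLocalization.Away g C) →
        (MvPolynomial.eval₂Hom (ψ.comp (f.appLE U₁ V₁ hVU₁).hom)
          (fun j : ULift.{u} (Fin m) => ψ (b j.down))).Etale)
    (U : Y.Opens) (V : X.Opens) (hUU₁ : U ≤ U₁) (hVV₁ : V ≤ V₁) (hVW : V ≤ X.basicOpen g)
    (hVU : V ≤ f ⁻¹ᵁ U) :
    Etale (AffineSpace.homOfVector (f.resLE U V hVU)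
      (fun j : ULift.{u} (Fin m) => V.topIso.inv.hom
        ((X.presheaf.map (homOfLE hVV₁).op).hom (b j.down)))) := by
  have hWV₁ : X.basicOpen g ≤ V₁ := X.basicOpen_le g
  have hWU₁ : X.basicOpen g ≤ f ⁻¹ᵁ U₁ := hWV₁.trans hVU₁
  have hW := etale_chart_W f U₁ V₁ hU₁ hV₁ hVU₁ g m b hE hWV₁ hWU₁
  set πW := AffineSpace.homOfVector (f.resLE U₁ (X.basicOpen g) hWU₁)
      (fun j : ULift.{u} (Fin m) => (X.basicOpen g).topIso.inv.hom
        ((X.presheaf.map (homOfLE hWV₁).op).hom (b j.down))) with hπW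
  set π := AffineSpace.homOfVector (f.resLE U V hVU)
      (fun j : ULift.{u} (Fin m) => V.topIso.inv.hom
        ((X.presheaf.map (homOfLE hVV₁).op).hom (b j.down))) with hπ
  have hcomp : π ≫ AffineSpace.map (ULift.{u} (Fin m)) (Y.homOfLE hUU₁) = X.homOfLE hVW ≫ πW := by
    apply AffineSpace.hom_ext
    · rw [Category.assoc, AffineSpace.map_over, Category.assoc, hπ,
        AffineSpace.homOfVector_over_assoc, hπW, AffineSpace.homOfVector_over,
        Scheme.Hom.resLE_map, Scheme.Hom.map_resLE]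
    · intro j
      rw [Scheme.Hom.comp_appTop, Scheme.Hom.comp_appTop, CommRingCat.comp_apply,
        CommRingCat.comp_apply, AffineSpace.map_appTop_coord, hπ, hπW,
        AffineSpace.homOfVector_appTop_coord, AffineSpace.homOfVector_appTop_coord]
      have := homOfLE_appTop_topIso_inv hVW
        ((X.presheaf.map (homOfLE hWV₁).op).hom (b j.down))
      refine Eq.trans ?_ this.symm
      congr 1
      rw [← RingHom.comp_apply, ← CommRingCat.hom_comp, ← Functor.map_comp]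
      rfl
  haveI : Etale (π ≫ AffineSpace.map (ULift.{u} (Fin m)) (Y.homOfLE hUU₁)) := by
    rw [hcomp]; infer_instance
  exact Etale.of_comp π (AffineSpace.map (ULift.{u} (Fin m)) (Y.homOfLE hUU₁))

end

-- ===== part D3.0 =====
section

variable {X Y : Scheme.{u}} (f : X ⟶ Y) (i : Y ⟶ X) (hi : i ≫ f = 𝟙 Y)

lemma id_appLE_self (U₁ : Y.Opens) (e : U₁ ≤ (𝟙 Y) ⁻¹ᵁ U₁) : (𝟙 Y : Y ⟶ Y).appLE U₁ U₁ e = 𝟙 _ := by
  simp only [Scheme.Hom.appLE, Scheme.Hom.id_app, Category.id_comp]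
  exact Y.presheaf.map_id _

include hi in
lemma section_appLE (U₁ : Y.Opens) (V₁ : X.Opens) (hUV₁ : U₁ ≤ i ⁻¹ᵁ V₁) (hVU₁ : V₁ ≤ f ⁻¹ᵁ U₁)
    (r : Γ(Y, U₁)) : (i.appLE V₁ U₁ hUV₁).hom ((f.appLE U₁ V₁ hVU₁).hom r) = r := by
  have h := Scheme.Hom.appLE_comp_appLE i f U₁ V₁ U₁ hVU₁ hUV₁
  have h2 : (i ≫ f).appLE U₁ U₁ (by rw [hi]; exact le_rfl) = 𝟙 _ := by
    simp only [hi]
    exact id_appLE_self U₁ _
  rw [h2] at h
  have := congr($h r)
  simpa using this

end

-- ===== part D3.1 =====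
section

variable {X Y : Scheme.{u}} (f : X ⟶ Y) (i : Y ⟶ X) (hi : i ≫ f = 𝟙 Y)

set_option backward.defeqAttrib.useBackward true in
set_option backward.isDefEq.respectTransparency false in
lemma mem_basicOpen_of_notMem_primeIdealOf {V : X.Opens} (hV : IsAffineOpen V) (x : X)
    (hx : x ∈ V) (g : Γ(X, V)) (hg : g ∉ (hV.primeIdealOf ⟨x, hx⟩).asIdeal) :
    x ∈ X.basicOpen g := by
  rwa [← PrimeSpectrum.mem_basicOpen, IsAffineOpen.primeIdealOf,
    ← hV.fromSpec_preimage_basicOpen, Scheme.Hom.mem_preimage, ← Scheme.Hom.comp_apply,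
    IsAffineOpen.isoSpec_hom, IsAffineOpen.toSpecΓ_fromSpec] at hg

include hi in
theorem chart_of_affine_pair [LocallyOfFinitePresentation f] (U₁ : Y.Opens) (V₁ : X.Opens)
    (hU₁ : IsAffineOpen U₁) (hV₁ : IsAffineOpen V₁) (y : Y) (hy : y ∈ U₁)
    (hUV₁ : U₁ ≤ i ⁻¹ᵁ V₁) (hVU₁ : V₁ ≤ f ⁻¹ᵁ U₁) (hsm : i y ∈ f.smoothLocus) :
    ∃ (U : Y.Opens) (V : X.Opens) (_ : y ∈ U) (hUV : U ≤ i ⁻¹ᵁ V) (hVU : V ≤ f ⁻¹ᵁ U) (m : ℕ)
      (v : ULift.{u} (Fin m) → Γ(V, ⊤)),
      Etale (AffineSpace.homOfVector (f.resLE U V hVU) v) ∧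
        ∀ j, (i.resLE V U hUV).appTop (v j) = 0 := by
  have hx : i y ∈ V₁ := hUV₁ hy
  have hfp := f.finitePresentation_appLE hU₁ hV₁ hVU₁
  have hsm' := (formallySmooth_stalkMap_iff U₁ hU₁ V₁ hV₁ hVU₁ hx).mp hsm
  obtain ⟨g, hg, m, b, hb, hE⟩ := ring_main Γ(Y, U₁) Γ(X, V₁) (f.appLE U₁ V₁ hVU₁).hom
    (i.appLE V₁ U₁ hUV₁).hom (section_appLE f i hi U₁ V₁ hUV₁ hVU₁) hfp
    (hV₁.primeIdealOf ⟨i y, hx⟩).asIdeal hsm'
  have hxg : i y ∈ X.basicOpen g := mem_basicOpen_of_notMem_primeIdealOf hV₁ (i y) hx g hg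
  set σg : Γ(Y, U₁) := (i.appLE V₁ U₁ hUV₁).hom g with hσg
  set U : Y.Opens := Y.basicOpen σg with hU
  set V : X.Opens := X.basicOpen (g * (f.appLE U₁ V₁ hVU₁).hom σg) with hV
  have hU_eq : U = U₁ ⊓ i ⁻¹ᵁ (X.basicOpen g) := Scheme.basicOpen_appLE i U₁ V₁ hUV₁ g
  have hV_eq : V = X.basicOpen g ⊓ (V₁ ⊓ f ⁻¹ᵁ U) := by
    rw [hV, Scheme.basicOpen_mul]
    congr 1
    exact Scheme.basicOpen_appLE f V₁ U₁ hVU₁ σg
  have hyU : y ∈ U := by
    rw [hU_eq]
    exact ⟨hy, hxg⟩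
  have hUU₁ : U ≤ U₁ := hU_eq ▸ inf_le_left
  have hVV₁ : V ≤ V₁ := hV_eq ▸ (inf_le_right.trans inf_le_left)
  have hVW : V ≤ X.basicOpen g := hV_eq ▸ inf_le_left
  have hVU : V ≤ f ⁻¹ᵁ U := hV_eq ▸ (inf_le_right.trans inf_le_right)
  have hUV : U ≤ i ⁻¹ᵁ V := by
    rw [hV_eq, Scheme.Hom.preimage_inf, Scheme.Hom.preimage_inf, preimage_preimage f i hi]
    refine le_inf ?_ (le_inf (hUU₁.trans hUV₁) le_rfl)
    rw [hU_eq]
    exact inf_le_right
  -- the coordinate functions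
  let ψV : Γ(X, V₁) →+* Γ(X, V) := (X.presheaf.map (homOfLE hVV₁).op).hom
  let v : ULift.{u} (Fin m) → Γ(V, ⊤) := fun j => V.topIso.inv.hom (ψV (b j.down))
  refine ⟨U, V, hyU, hUV, hVU, m, v, ?_, ?_⟩
  · -- etaleness
    exact etale_chart f U₁ V₁ hU₁ hV₁ hVU₁ g m b hE U V hUU₁ hVV₁ hVW hVU
  · -- vanishing along the section
    intro j
    change (i.resLE V U hUV).appTop.hom (V.topIso.inv.hom (ψV (b j.down))) = 0
    rw [resLE_appTop_topIso_inv]
    have h2 : (i.appLE V U hUV).hom (ψV (b j.down)) =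
        (Y.presheaf.map (homOfLE hUU₁).op).hom ((i.appLE V₁ U₁ hUV₁).hom (b j.down)) := by
      simp only [ψV]
      rw [← RingHom.comp_apply, ← CommRingCat.hom_comp, Scheme.Hom.map_appLE,
        ← RingHom.comp_apply, ← CommRingCat.hom_comp, Scheme.Hom.appLE_map]
    rw [h2, hb, map_zero, map_zero]

end

-- ===== part D7.0 =====
section

set_option backward.isDefEq.respectTransparency.types false in
theorem smooth_affineSpace (σ : Type u) (S : Scheme.{u}) [Finite σ] : Smooth (𝔸(σ; S) ↘ S) :=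
  MorphismProperty.pullback_fst _ _ <| by
  have := isIso_of_isTerminal specULiftZIsTerminal.{u} terminalIsTerminal (terminal.from _)
  rw [← terminal.comp_from (Spec.map (CommRingCat.ofHom MvPolynomial.C)),
    MorphismProperty.cancel_right_of_respectsIso (P := @Smooth),
    HasRingHomProperty.Spec_iff (P := @Smooth), RingHom.Smooth]
  have h : Algebra.Smooth (ULift ℤ) (MvPolynomial σ (ULift.{u} ℤ)) := {}
  convert! h
  exact Algebra.algebra_ext _ _ fun _ ↦ rfl

theorem main {X Y : Scheme.{u}} (f : X ⟶ Y)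
    [LocallyOfFinitePresentation f] (i : Y ⟶ X) (hi : i ≫ f = 𝟙 Y) (y : Y) :
    i.base y ∈ f.smoothLocus ↔
      ∃ (U : Y.Opens) (V : X.Opens) (_ : y ∈ U) (hUV : U ≤ i ⁻¹ᵁ V) (hVU : V ≤ f ⁻¹ᵁ U) (m : ℕ)
        (v : ULift.{u} (Fin m) → Γ(V, ⊤)),
        Etale (AffineSpace.homOfVector (f.resLE U V hVU) v) ∧
          ∀ j, (i.resLE V U hUV).appTop (v j) = 0 := by
  constructor
  · intro hsm
    obtain ⟨U₁, V₁, hU₁, hV₁, hy, hUV₁, hVU₁⟩ := exists_affine_pair f i hi y
    exact chart_of_affine_pair f i hi U₁ V₁ hU₁ hV₁ y hy hUV₁ hVU₁ hsm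
  · rintro ⟨U, V, hyU, hUV, hVU, m, v, hEt, -⟩
    haveI := hEt
    haveI : Smooth (𝔸(ULift.{u} (Fin m); (U : Scheme.{u})) ↘ (U : Scheme.{u})) :=
      smooth_affineSpace _ _
    have h1 : f.resLE U V hVU = AffineSpace.homOfVector (f.resLE U V hVU) v ≫
        (𝔸(ULift.{u} (Fin m); (U : Scheme.{u})) ↘ (U : Scheme.{u})) :=
      (AffineSpace.homOfVector_over _ _).symm
    haveI : Smooth (f.resLE U V hVU) := by
      rw [h1]; infer_instance
    haveI : Smooth (V.ι ≫ f) := by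
      rw [← Scheme.Hom.resLE_comp_ι f hVU]; infer_instance
    have h2 := Scheme.Hom.preimage_smoothLocus_eq V.ι f
    rw [Scheme.Hom.smoothLocus_eq_top (V.ι ≫ f)] at h2
    have h3 : (⟨i.base y, hUV hyU⟩ : V) ∈ V.ι ⁻¹ᵁ f.smoothLocus := by
      rw [h2]; trivial
    exact h3

end

end Groth.Agent.Lib.H9SecChart
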