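import Mathlib
import Groth.Agent.Lib.H9SecChart

/-!
# Etale coordinates inside the kernel of a surjection (helper3)

`coords_in_ker`: for `φ : B → C` of finite presentation, smooth at a prime `q` of `C`, and any
function `ρ : C → B` (thought of as a set-theoretic lift along a surjection `B → D ← C`), there are
etale coordinates `t_j = w_j - φ (ρ w_j)` of `C` over `B` near `q`, together with "partial
derivatives" `d k : C → C_q` (additive, Leibniz) with `d k (t j) = δ_{jk}`.
-/

set_option autoImplicit false
set_option linter.style.haveILetI false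
set_option linter.unusedVariables false
set_option linter.unusedSectionVars false
universe u

namespace Groth.Agent.Lib.R2H3.KzCoords

open TensorProduct KaehlerDifferential IsLocalRing
open Groth.Agent.Lib.H9EtCoord Groth.Agent.Lib.H9SecChart

theorem coords_in_ker (B C : Type u) [CommRing B] [CommRing C] (φ : B →+* C) (ρ : C → B)
    (hfp : φ.FinitePresentation) (q : Ideal C) [q.IsPrime]
    (hsm : letI := φ.toAlgebra; Algebra.IsSmoothAt B q) :
    ∃ (g : C) (_ : g ∉ q) (n : ℕ) (w : Fin n → C)
      (d : Fin n → C → Localization.AtPrime q),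
      (∀ k x y, d k (x + y) = d k x + d k y) ∧
      (∀ k x y, d k (x * y) = algebraMap C (Localization.AtPrime q) x * d k y +
        algebraMap C (Localization.AtPrime q) y * d k x) ∧
      (∀ k j, d k (w j - φ (ρ (w j))) = if j = k then 1 else 0) ∧
      ∀ (R : Type u) [CommRing R] (ψ : C →+* R),
        (letI := ψ.toAlgebra; IsLocalization.Away g R) →
        (MvPolynomial.eval₂Hom (ψ.comp φ)
          (fun j : ULift.{u} (Fin n) => ψ (w j.down - φ (ρ (w j.down))))).Etale := by
  letI := φ.toAlgebra
  haveI : Algebra.FinitePresentation B C := hfp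
  haveI : Algebra.IsSmoothAt B q := hsm
  obtain ⟨hfree, hfin⟩ := free_kaehler B C (q := q)
  obtain ⟨m, w, hli, hsp⟩ := exists_basis_local (R := Localization.AtPrime q)
    (M := Ω[Localization.AtPrime q⁄B]) (T := C)
    (fun b => D B (Localization.AtPrime q) (algebraMap C (Localization.AtPrime q) b))
    (span_D_algebraMap B C q)
  let b : Fin m → C := fun j => w j - φ (ρ (w j))
  have hDb : (fun j => D B (Localization.AtPrime q) (algebraMap C (Localization.AtPrime q) (b j)))
      = (fun b => D B (Localization.AtPrime q) (algebraMap C (Localization.AtPrime q) b)) ∘ w := by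
    funext j
    simp only [b, map_sub, Function.comp_apply]
    have : algebraMap C (Localization.AtPrime q) (φ (ρ (w j))) =
        algebraMap B (Localization.AtPrime q) (ρ (w j)) := by
      rw [IsScalarTower.algebraMap_apply B C (Localization.AtPrime q)]
      rfl
    rw [this, Derivation.map_algebraMap, sub_zero]
  -- the basis and the partial derivatives
  have hli' : LinearIndependent (Localization.AtPrime q)
      (fun j => D B (Localization.AtPrime q) (algebraMap C (Localization.AtPrime q) (b j))) := by
    rw [hDb]; exact hli
  have hsp' : ⊤ ≤ Submodule.span (Localization.AtPrime q)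
      (Set.range fun j => D B (Localization.AtPrime q)
        (algebraMap C (Localization.AtPrime q) (b j))) := by
    rw [hDb]; exact hsp.ge
  let bas : Module.Basis (Fin m) (Localization.AtPrime q) Ω[Localization.AtPrime q⁄B] :=
    Module.Basis.mk hli' hsp'
  let d : Fin m → C → Localization.AtPrime q := fun k x =>
    bas.coord k (D B (Localization.AtPrime q) (algebraMap C (Localization.AtPrime q) x))
  have hd1 : ∀ k x y, d k (x + y) = d k x + d k y := by
    intro k x y
    simp only [d, map_add]
  have hd2 : ∀ k x y, d k (x * y) = algebraMap C (Localization.AtPrime q) x * d k y +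
      algebraMap C (Localization.AtPrime q) y * d k x := by
    intro k x y
    simp only [d, map_mul, Derivation.leibniz, map_add, map_smul, smul_eq_mul]
  have hd3 : ∀ k j, d k (b j) = if j = k then 1 else 0 := by
    intro k j
    have h1 : D B (Localization.AtPrime q) (algebraMap C (Localization.AtPrime q) (b j)) =
        bas j := (Module.Basis.mk_apply hli' hsp' j).symm
    simp only [d]
    rw [h1, Module.Basis.coord_apply, Module.Basis.repr_self, Finsupp.single_apply]
  let φ₀ : MvPolynomial (Fin m) B →ₐ[B] C := MvPolynomial.aeval b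
  letI : Algebra (MvPolynomial (Fin m) B) C := φ₀.toRingHom.toAlgebra
  haveI : IsScalarTower B (MvPolynomial (Fin m) B) C :=
    IsScalarTower.of_algebraMap_eq (fun a => (φ₀.commutes a).symm)
  have hX : ∀ i, algebraMap (MvPolynomial (Fin m) B) C (MvPolynomial.X i) = b i :=
    fun i => MvPolynomial.aeval_X _ i
  haveI : Algebra.IsEtaleAt (MvPolynomial (Fin m) B) q :=
    isEtaleAt_of_basis B C (Fin m) q (by simp only [hX]; rw [hDb]; exact hli)
      (by simp only [hX]; rw [hDb]; exact hsp)
  haveI : Algebra.FinitePresentation (MvPolynomial (Fin m) B) C :=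
    Algebra.FinitePresentation.of_restrict_scalars_finitePresentation B _ _
  obtain ⟨g, hg, hE⟩ := Algebra.exists_etale_of_isEtaleAt (R := MvPolynomial (Fin m) B) q
  refine ⟨g, hg, m, w, d, hd1, hd2, hd3, ?_⟩
  intro R _ ψ hψ
  letI := ψ.toAlgebra
  haveI : IsLocalization.Away g R := hψ
  let e : Localization.Away g ≃ₐ[C] R := IsLocalization.algEquiv (.powers g) _ _
  have key : MvPolynomial.eval₂Hom (ψ.comp φ) (ψ ∘ b) =
      e.toRingEquiv.toRingHom.comp
        (algebraMap (MvPolynomial (Fin m) B) (Localization.Away g)) := by
    apply MvPolynomial.ringHom_ext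
    · intro r
      rw [MvPolynomial.eval₂Hom_C, RingHom.comp_apply, RingHom.comp_apply,
        IsScalarTower.algebraMap_apply (MvPolynomial (Fin m) B) C (Localization.Away g),
        ← MvPolynomial.algebraMap_eq, ← IsScalarTower.algebraMap_apply B (MvPolynomial (Fin m) B) C]
      change ψ (φ r) = e (algebraMap C (Localization.Away g) (algebraMap B C r))
      rw [e.commutes]
      rfl
    · intro j
      rw [MvPolynomial.eval₂Hom_X', RingHom.comp_apply,
        IsScalarTower.algebraMap_apply (MvPolynomial (Fin m) B) C (Localization.Away g), hX]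
      change ψ (b j) = e (algebraMap C (Localization.Away g) (b j))
      rw [e.commutes]
      rfl
  have key2 : MvPolynomial.eval₂Hom (ψ.comp φ) (fun j : ULift.{u} (Fin m) => ψ (b j.down)) =
      (MvPolynomial.eval₂Hom (ψ.comp φ) (ψ ∘ b)).comp
        (MvPolynomial.renameEquiv B (Equiv.ulift.{u} (α := Fin m))).toRingEquiv.toRingHom := by
    apply MvPolynomial.ringHom_ext
    · intro r
      simp
    · intro j
      simp
  change (MvPolynomial.eval₂Hom (ψ.comp φ) (fun j : ULift.{u} (Fin m) => ψ (b j.down))).Etale
  rw [key2]
  refine RingHom.Etale.respectsIso.2 _ _ ?_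
  rw [key]
  exact RingHom.Etale.respectsIso.1 _ e.toRingEquiv (RingHom.etale_algebraMap.mpr hE)

end Groth.Agent.Lib.R2H3.KzCoords
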