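import Mathlib
import Groth.Prelude.Def_RegImm
import Groth.Agent.Lib.R2H3KzGen
import Groth.Agent.Lib.R2H3KzFBC
import Groth.Agent.Lib.H9RegImmFlatBC

/-!
# Etale descent of Koszul-regular generators (helper3)

`etale_descend`: `B → E` flat, formally unramified, finitely presented; `θ : E → D` surjective with
`B → E → D` surjective and `ker θ` generated by a Koszul-regular sequence `W`.  Then there are
`b ∈ B` with `θ b = 1` and a list `l` in `I = ker (B → D)` of the same length as `W` with
`b I ⊆ (l)` and `l` Koszul-regular in `B_b`.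
-/

set_option autoImplicit false
set_option linter.style.haveILetI false
set_option linter.unusedVariables false
set_option linter.unusedSectionVars false
universe u

namespace Groth.Agent.Lib.R2H3.KzEtDesc

open CategoryTheory CategoryTheory.Limits CochainComplex CohIII MonoidalCategory
open Groth.Agent.Helper13Kz Groth.Agent.Helper13KzLift Groth.Agent.Lib.Helper21
open Groth.Agent.Lib.Helper5.KoszulGor
open scoped TensorProduct

section L
variable {B : Type u} [CommRing B]

/-- (L): if `M ⊗ E'` is trivial and `E'` surjects `B`-linearly onto `B ⧸ I`, then `M = I M`. -/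
theorem smul_top_eq_top_of_subsingleton_tensor (I : Ideal B) (M E' : Type u) [AddCommGroup M]
    [Module B M] [AddCommGroup E'] [Module B E'] (τ : E' →ₗ[B] B ⧸ I)
    (hτ : Function.Surjective τ) [Subsingleton (M ⊗[B] E')] :
    I • (⊤ : Submodule B M) = ⊤ := by
  have h1 : Function.Surjective (LinearMap.lTensor M τ) := LinearMap.lTensor_surjective M hτ
  haveI : Subsingleton (M ⊗[B] (B ⧸ I)) := h1.subsingleton
  haveI : Subsingleton (M ⧸ (I • (⊤ : Submodule B M))) :=
    (TensorProduct.tensorQuotEquivQuotSMul M I).symm.injective.subsingleton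
  exact Submodule.Quotient.subsingleton_iff.mp inferInstance

end L

section S123
variable {B E D : Type u} [CommRing B] [CommRing E] [CommRing D] [Algebra B E]

/-- S1 -/
theorem exists_sub_mem_ker (θ : E →+* D)
    (hπ : Function.Surjective (θ.comp (algebraMap B E))) (e : E) :
    ∃ b : B, e - algebraMap B E b ∈ RingHom.ker θ := by
  obtain ⟨b, hb⟩ := hπ (θ e)
  refine ⟨b, ?_⟩
  rw [RingHom.mem_ker, map_sub, ← hb]
  simp

/-- S2 -/
theorem ker_le_map_sup_sq [Algebra.FormallyUnramified B E] (θ : E →+* D)
    (hπ : Function.Surjective (θ.comp (algebraMap B E))) :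
    RingHom.ker θ ≤ (RingHom.ker (θ.comp (algebraMap B E))).map (algebraMap B E) ⊔
      RingHom.ker θ * RingHom.ker θ := by
  set N := RingHom.ker θ with hN
  set π := θ.comp (algebraMap B E) with hπdef
  set I := RingHom.ker π with hI
  set J : Ideal E := I.map (algebraMap B E) ⊔ N * N with hJ
  -- the nilpotent ideal in `E ⧸ J`
  set K : Ideal (E ⧸ J) := N.map (Ideal.Quotient.mk J) with hK
  have hKnil : IsNilpotent K := by
    refine ⟨2, ?_⟩
    rw [pow_two, hK, ← Ideal.map_mul, Ideal.zero_eq_bot, Ideal.map_eq_bot_iff_le_ker,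
      Ideal.mk_ker]
    exact le_sup_right
  -- σ : D → E ⧸ J
  have hle : RingHom.ker π ≤ RingHom.ker ((Ideal.Quotient.mk J).comp (algebraMap B E)) := by
    intro b hb
    rw [RingHom.mem_ker, RingHom.comp_apply, Ideal.Quotient.eq_zero_iff_mem]
    exact le_sup_left (a := I.map (algebraMap B E)) (Ideal.mem_map_of_mem _ hb)
  let σ : D →+* E ⧸ J := π.liftOfSurjective hπ ⟨(Ideal.Quotient.mk J).comp (algebraMap B E), hle⟩
  have hσ : ∀ b : B, σ (π b) = Ideal.Quotient.mk J (algebraMap B E b) := by
    intro b
    exact RingHom.liftOfRightInverse_comp_apply _ _ _ _ b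
  let g₁ : E →ₐ[B] E ⧸ J := Ideal.Quotient.mkₐ B J
  let g₂ : E →ₐ[B] E ⧸ J :=
    { (σ.comp θ) with
      commutes' := fun b => by
        change σ (θ (algebraMap B E b)) = _
        exact hσ b }
  have hg : g₁ = g₂ := by
    apply Algebra.FormallyUnramified.ext K hKnil
    intro x
    obtain ⟨b, hb⟩ := exists_sub_mem_ker θ hπ x
    have h2 : g₂ x = Ideal.Quotient.mk J (algebraMap B E b) := by
      change σ (θ x) = _
      rw [← hσ b]
      congr 1
      have := hb
      rw [RingHom.mem_ker, map_sub, sub_eq_zero] at this
      rw [this]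
      rfl
    rw [h2]
    change Ideal.Quotient.mk K (Ideal.Quotient.mk J x) = _
    rw [Ideal.Quotient.eq, ← map_sub]
    exact Ideal.mem_map_of_mem _ hb
  intro x hx
  have h1 : g₁ x = g₂ x := by rw [hg]
  have h2 : g₂ x = 0 := by
    change σ (θ x) = 0
    rw [(RingHom.mem_ker).mp hx, map_zero]
  rw [h2] at h1
  exact Ideal.Quotient.eq_zero_iff_mem.mp h1

/-- S3 -/
theorem exists_sub_mem_sq [Algebra.FormallyUnramified B E] (θ : E →+* D)
    (hπ : Function.Surjective (θ.comp (algebraMap B E))) (x : E) (hx : x ∈ RingHom.ker θ) :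
    ∃ u ∈ RingHom.ker (θ.comp (algebraMap B E)),
      x - algebraMap B E u ∈ RingHom.ker θ * RingHom.ker θ := by
  set N := RingHom.ker θ with hN
  set π := θ.comp (algebraMap B E) with hπdef
  set I := RingHom.ker π with hI
  have hφN : ∀ u ∈ I, algebraMap B E u ∈ N := by
    intro u hu
    rw [hN, RingHom.mem_ker]
    exact hu
  have hadd : ∀ y z : E, (∃ u ∈ I, y - algebraMap B E u ∈ N * N) →
      (∃ u ∈ I, z - algebraMap B E u ∈ N * N) → ∃ u ∈ I, (y + z) - algebraMap B E u ∈ N * N := by
    rintro y z ⟨u, hu, hy⟩ ⟨v, hv, hz⟩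
    refine ⟨u + v, I.add_mem hu hv, ?_⟩
    have : y + z - algebraMap B E (u + v) = (y - algebraMap B E u) + (z - algebraMap B E v) := by
      rw [map_add]; ring
    rw [this]
    exact Ideal.add_mem _ hy hz
  have hmap : ∀ y ∈ I.map (algebraMap B E), ∃ u ∈ I, y - algebraMap B E u ∈ N * N := by
    intro y hy
    refine Submodule.span_induction (p := fun y _ => ∃ u ∈ I, y - algebraMap B E u ∈ N * N)
      ?_ ?_ ?_ ?_ hy
    · rintro _ ⟨a, ha, rfl⟩
      exact ⟨a, ha, by rw [sub_self]; exact Ideal.zero_mem _⟩
    · exact ⟨0, I.zero_mem, by rw [map_zero, sub_zero]; exact Ideal.zero_mem _⟩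
    · intro y z _ _ h1 h2
      exact hadd y z h1 h2
    · rintro e y _ ⟨u, hu, hy⟩
      obtain ⟨b, hb⟩ := exists_sub_mem_ker θ hπ e
      refine ⟨b * u, I.mul_mem_left _ hu, ?_⟩
      have : e • y - algebraMap B E (b * u) =
          e * (y - algebraMap B E u) + (e - algebraMap B E b) * algebraMap B E u := by
        rw [map_mul, smul_eq_mul]; ring
      rw [this]
      refine Ideal.add_mem _ (Ideal.mul_mem_left _ _ hy) (Ideal.mul_mem_mul hb (hφN u hu))
  have := ker_le_map_sup_sq θ hπ hx
  obtain ⟨y, hy, z, hz, rfl⟩ := Submodule.mem_sup.mp this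
  refine hadd y z (hmap y hy) ⟨0, I.zero_mem, ?_⟩
  rw [map_zero, sub_zero]
  exact hz

end S123


section FBC
variable {S T : Type u} [CommRing S] [CommRing T]

theorem koszulRegular_iff_tensor [Algebra S T] [Module.Flat S T] (l : List S) :
    LCI.IsKoszulRegularSeq T (l.map (algebraMap S T)) ↔
      ∀ i : ℤ, i ≠ 0 → Subsingleton (((koszulCx (ModuleCat.of S S) l).homology i) ⊗[S] T) := by
  constructor
  · intro h i hi
    rw [← KzFBC.isZero_iff_subsingleton_tensor l i]
    exact (isZero_congr (koszul_eq T (l.map (algebraMap S T))) i).mp (h i hi)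
  · intro h i hi
    rw [isZero_congr (koszul_eq T (l.map (algebraMap S T))) i]
    exact (KzFBC.isZero_iff_subsingleton_tensor l i).mpr (h i hi)

end FBC

section S456
variable {B E D : Type u} [CommRing B] [CommRing E] [CommRing D] [Algebra B E]

/-- S4-S6 -/
theorem exists_r [Algebra.FormallyUnramified B E] (θ : E →+* D)
    (hπ : Function.Surjective (θ.comp (algebraMap B E)))
    (W : List E) (hW : LCI.IsKoszulRegularSeq E W) (hker : RingHom.ker θ = Ideal.ofList W) :
    ∃ (r : E) (l : List B), r - 1 ∈ RingHom.ker θ ∧ l.length = W.length ∧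
      (∀ x ∈ l, x ∈ RingHom.ker (θ.comp (algebraMap B E))) ∧
      (∀ x ∈ RingHom.ker θ, r * x ∈ Ideal.ofList (l.map (algebraMap B E))) ∧
      LCI.IsKoszulRegularSeq (Localization.Away r)
        (l.map (algebraMap B (Localization.Away r))) := by
  classical
  set N := RingHom.ker θ with hN
  set π := θ.comp (algebraMap B E) with hπdef
  set I := RingHom.ker π with hI
  have hWN : ∀ w ∈ W, w ∈ N := fun w hw => by
    have : N = Ideal.span {x | x ∈ W} := hker
    rw [this]; exact Ideal.subset_span hw
  have hch : ∀ w : E, ∃ u : B, w ∈ N → (u ∈ I ∧ w - algebraMap B E u ∈ N * N) := by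
    intro w
    by_cases hw : w ∈ N
    · obtain ⟨u, hu, h⟩ := exists_sub_mem_sq θ hπ w hw
      exact ⟨u, fun _ => ⟨hu, h⟩⟩
    · exact ⟨0, fun h => absurd h hw⟩
  choose f hf using hch
  set l := W.map f with hl
  have hlI : ∀ x ∈ l, x ∈ I := by
    intro x hx
    obtain ⟨w, hw, rfl⟩ := List.mem_map.mp hx
    exact (hf w (hWN w hw)).1
  set N' : Ideal E := Ideal.ofList (l.map (algebraMap B E)) with hN'
  have hN'N : N' ≤ N := by
    rw [hN', Ideal.ofList, Ideal.span_le]
    intro y hy
    obtain ⟨x, hx, rfl⟩ := List.mem_map.mp hy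
    exact hlI x hx
  have hNle : N ≤ N' ⊔ N • N := by
    have : N = Ideal.span {x | x ∈ W} := hker
    calc N = Ideal.span {x | x ∈ W} := this
      _ ≤ N' ⊔ N • N := by
        rw [Ideal.span_le]
        intro w hw
        have h1 : algebraMap B E (f w) ∈ N' := by
          apply Ideal.subset_span
          exact List.mem_map.mpr ⟨f w, List.mem_map.mpr ⟨w, hw, rfl⟩, rfl⟩
        have h2 : w - algebraMap B E (f w) ∈ N • N := (hf w (hWN w hw)).2
        have : w = algebraMap B E (f w) + (w - algebraMap B E (f w)) := by ring
        change w ∈ N' ⊔ N • N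
        rw [this]
        exact Submodule.add_mem_sup h1 h2
  have hNfg : N.FG := by
    have : N = Ideal.span {x | x ∈ W} := hker
    rw [this]
    exact Submodule.fg_span (List.finite_toSet W)
  obtain ⟨r, hr1, hr2⟩ := Submodule.exists_sub_one_mem_and_smul_le_of_fg_of_le_sup
    (I := N) (N := N') (N' := N) (P := N) hNfg le_rfl hNle
  have hr2' : ∀ x ∈ N, r * x ∈ N' := by
    intro x hx
    apply hr2
    exact Submodule.smul_mem_pointwise_smul x r N hx
  refine ⟨r, l, hr1, by rw [hl, List.length_map], hlI, hr2', ?_⟩
  -- Koszul-regularity in E_r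
  have hflat : (algebraMap E (Localization.Away r)).Flat := by
    rw [RingHom.flat_algebraMap_iff]
    exact IsLocalization.flat _ (Submonoid.powers r)
  have hg := Groth.Agent.Lib.H9RegImmFlatBC.isKoszulRegularSeq_map _ hflat W hW
  have hmapeq : l.map (algebraMap B (Localization.Away r)) =
      (l.map (algebraMap B E)).map (algebraMap E (Localization.Away r)) := by
    have : ∀ l' : List B, l'.map (algebraMap B (Localization.Away r)) =
        (l'.map (algebraMap B E)).map (algebraMap E (Localization.Away r)) := by
      intro l'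
      rw [List.map_map]
      apply List.map_congr_left
      intro x _
      rw [Function.comp_apply, ← IsScalarTower.algebraMap_apply]
    exact this l
  rw [hmapeq]
  refine KzGen.isKoszulRegularSeq_of_same_length _ _ hg ?_ ?_
  · simp [hl]
  · rw [← Ideal.map_ofList (algebraMap E (Localization.Away r)) (l.map (algebraMap B E)),
      ← Ideal.map_ofList (algebraMap E (Localization.Away r)) W]
    apply le_antisymm
    · apply Ideal.map_mono
      exact hN'N.trans (le_of_eq hker)
    · have : Ideal.ofList W = N := hker.symm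
      rw [this, Ideal.map_le_iff_le_comap]
      intro x hx
      rw [Ideal.mem_comap]
      have hu : IsUnit (algebraMap E (Localization.Away r) r) :=
        IsLocalization.Away.algebraMap_isUnit r
      have h3 : algebraMap E (Localization.Away r) x =
          ↑hu.unit⁻¹ * algebraMap E (Localization.Away r) (r * x) := by
        rw [map_mul, ← mul_assoc]
        have : ↑hu.unit⁻¹ * algebraMap E (Localization.Away r) r = 1 := by
          rw [Units.inv_mul_eq_one]; rfl
        rw [this, one_mul]
      rw [h3]
      exact Ideal.mul_mem_left _ _ (Ideal.mem_map_of_mem _ (hr2' x hx))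

end S456


section Main
variable {B E D : Type u} [CommRing B] [CommRing E] [CommRing D] [Algebra B E]

/-- the ideal `I = ker (B → D)` is finitely generated. -/
theorem ker_fg [Algebra.FinitePresentation B E] (θ : E →+* D) (hθ : Function.Surjective θ)
    (hπ : Function.Surjective (θ.comp (algebraMap B E))) (hN : (RingHom.ker θ).FG) :
    (RingHom.ker (θ.comp (algebraMap B E))).FG := by
  letI algD : Algebra B D := (θ.comp (algebraMap B E)).toAlgebra
  let θa : E →ₐ[B] D := { θ with commutes' := fun b => rfl }
  haveI : Algebra.FinitePresentation B D :=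
    Algebra.FinitePresentation.of_surjective (f := θa) hθ hN
  exact Algebra.FinitePresentation.ker_fG_of_surjective (Algebra.ofId B D) hπ

/-- a `B`-linear surjection `E_r → B ⧸ I`. -/
theorem exists_tau (θ : E →+* D) (hπ : Function.Surjective (θ.comp (algebraMap B E)))
    (r : E) (hr : r - 1 ∈ RingHom.ker θ) :
    ∃ τ : Localization.Away r →ₗ[B] B ⧸ RingHom.ker (θ.comp (algebraMap B E)),
      Function.Surjective τ := by
  set π := θ.comp (algebraMap B E) with hπdef
  have hθr : θ r = 1 := by
    have := (RingHom.mem_ker).mp hr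
    rw [map_sub, map_one, sub_eq_zero] at this
    exact this
  have hu : IsUnit (θ r) := by rw [hθr]; exact isUnit_one
  let θr : Localization.Away r →+* D := IsLocalization.Away.lift r hu
  have hθr_eq : ∀ e : E, θr (algebraMap E (Localization.Away r) e) = θ e :=
    fun e => IsLocalization.Away.lift_eq r hu e
  let eqv : B ⧸ RingHom.ker π ≃+* D := RingHom.quotientKerEquivOfSurjective hπ
  have heqv : ∀ b : B, eqv.symm (π b) = Ideal.Quotient.mk _ b :=
    fun b => RingHom.quotientKerEquivOfSurjective_symm_apply hπ b
  have hθrB : ∀ b : B, θr (algebraMap B (Localization.Away r) b) = π b := by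
    intro b
    rw [IsScalarTower.algebraMap_apply B E (Localization.Away r), hθr_eq]
    rfl
  let τ : Localization.Away r →ₗ[B] B ⧸ RingHom.ker π :=
    { toFun := fun x => eqv.symm (θr x)
      map_add' := fun x y => by rw [map_add, map_add]
      map_smul' := fun b x => by
        rw [RingHom.id_apply, Algebra.smul_def, map_mul, map_mul, hθrB, heqv, Algebra.smul_def]
        rfl }
  refine ⟨τ, ?_⟩
  intro z
  obtain ⟨b, rfl⟩ := Ideal.Quotient.mk_surjective z
  refine ⟨algebraMap B (Localization.Away r) b, ?_⟩
  change eqv.symm (θr (algebraMap B (Localization.Away r) b)) = _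
  rw [hθrB, heqv]

/-- **Étale descent of Koszul-regular generators.** -/
theorem etale_descend [Module.Flat B E] [Algebra.FormallyUnramified B E]
    [Algebra.FinitePresentation B E] (θ : E →+* D) (hθ : Function.Surjective θ)
    (hπ : Function.Surjective (θ.comp (algebraMap B E)))
    (W : List E) (hW : LCI.IsKoszulRegularSeq E W) (hker : RingHom.ker θ = Ideal.ofList W) :
    ∃ (b : B) (l : List B), θ (algebraMap B E b) = 1 ∧ l.length = W.length ∧
      (∀ x ∈ l, x ∈ RingHom.ker (θ.comp (algebraMap B E))) ∧
      (∀ a ∈ RingHom.ker (θ.comp (algebraMap B E)), b * a ∈ Ideal.ofList l) ∧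
      LCI.IsKoszulRegularSeq (Localization.Away b)
        (l.map (algebraMap B (Localization.Away b))) := by
  classical
  obtain ⟨r, l, hr1, hlen, hlI, hrN, hKr⟩ := exists_r θ hπ W hW hker
  set N := RingHom.ker θ with hN
  set π := θ.comp (algebraMap B E) with hπdef
  set I := RingHom.ker π with hI
  set L : Ideal B := Ideal.ofList l with hL
  have hNfg : N.FG := by
    have : N = Ideal.span {x | x ∈ W} := hker
    rw [this]
    exact Submodule.fg_span (List.finite_toSet W)
  have hIfg : I.FG := ker_fg θ hθ hπ hNfg
  obtain ⟨τ, hτ⟩ := exists_tau θ hπ r hr1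
  haveI hflatEr : Module.Flat E (Localization.Away r) :=
    IsLocalization.flat _ (Submonoid.powers r)
  haveI hflatBr : Module.Flat B (Localization.Away r) := Module.Flat.trans B E _
  -- `I E_r ≤ (l) E_r`
  have hIEr : ∀ a ∈ I, algebraMap B (Localization.Away r) a ∈
      Ideal.ofList (l.map (algebraMap B (Localization.Away r))) := by
    intro a ha
    have h1 : algebraMap B E a ∈ N := by
      rw [hN, RingHom.mem_ker]; exact ha
    have h2 := hrN _ h1
    have hu : IsUnit (algebraMap E (Localization.Away r) r) :=
      IsLocalization.Away.algebraMap_isUnit r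
    have h3 : algebraMap B (Localization.Away r) a =
        ↑hu.unit⁻¹ * algebraMap E (Localization.Away r) (r * algebraMap B E a) := by
      rw [map_mul, ← mul_assoc]
      have : ↑hu.unit⁻¹ * algebraMap E (Localization.Away r) r = 1 := by
        rw [Units.inv_mul_eq_one]; rfl
      rw [this, one_mul, ← IsScalarTower.algebraMap_apply]
    rw [h3]
    refine Ideal.mul_mem_left _ _ ?_
    have h4 := Ideal.mem_map_of_mem (algebraMap E (Localization.Away r)) h2
    rw [Ideal.map_ofList, List.map_map] at h4
    have h5 : l.map (algebraMap B (Localization.Away r)) =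
        l.map (⇑(algebraMap E (Localization.Away r)) ∘ ⇑(algebraMap B E)) := by
      apply List.map_congr_left
      intro x _
      rw [Function.comp_apply, ← IsScalarTower.algebraMap_apply]
    rw [h5]
    exact h4
  -- the module `M = I / (l)`
  let M : Submodule B (B ⧸ L) := Submodule.map (Submodule.mkQ L) I
  have hMfg : (⊤ : Submodule B M).FG := by
    have : M.FG := Submodule.FG.map _ hIfg
    exact Module.Finite.fg_top (self := Module.Finite.iff_fg.mpr this)
  have hMtensor : Subsingleton (M ⊗[B] Localization.Away r) := by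
    have hinj : Function.Injective (LinearMap.rTensor (Localization.Away r) M.subtype) :=
      Module.Flat.rTensor_preserves_injective_linearMap _ (Submodule.injective_subtype M)
    have hzero : ∀ t : M ⊗[B] Localization.Away r,
        LinearMap.rTensor (Localization.Away r) M.subtype t = 0 := by
      intro t
      induction t using TensorProduct.induction_on with
      | zero => rw [map_zero]
      | add x y hx hy => rw [map_add, hx, hy, add_zero]
      | tmul m x =>
        rw [LinearMap.rTensor_tmul]
        obtain ⟨a, ha, ham⟩ := m.2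
        change (m : B ⧸ L) ⊗ₜ[B] x = 0
        rw [← ham]
        have key : ∀ y ∈ Ideal.ofList (l.map (algebraMap B (Localization.Away r))),
            ∀ x : Localization.Away r,
              (Submodule.mkQ L (1 : B)) ⊗ₜ[B] (y * x) = (0 : (B ⧸ L) ⊗[B] Localization.Away r) := by
          intro y hy
          refine Submodule.span_induction
            (p := fun y _ => ∀ x : Localization.Away r,
              (Submodule.mkQ L (1 : B)) ⊗ₜ[B] (y * x) =
                (0 : (B ⧸ L) ⊗[B] Localization.Away r)) ?_ ?_ ?_ ?_ hy
          · rintro _ hy x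
            obtain ⟨c, hc, rfl⟩ := List.mem_map.mp hy
            rw [← Algebra.smul_def, ← TensorProduct.smul_tmul, ← map_smul, smul_eq_mul, mul_one]
            have : Submodule.mkQ L c = 0 := by
              rw [Submodule.mkQ_apply, Submodule.Quotient.mk_eq_zero]
              exact Ideal.subset_span hc
            rw [this, TensorProduct.zero_tmul]
          · intro x
            rw [zero_mul, TensorProduct.tmul_zero]
          · intro y z _ _ h1 h2 x
            rw [add_mul, TensorProduct.tmul_add, h1, h2, add_zero]
          · intro c y _ h1 x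
            rw [smul_eq_mul, mul_comm c y, mul_assoc]
            exact h1 (c * x)
        have h6 : Submodule.mkQ L a = a • Submodule.mkQ L (1 : B) := by
          rw [← map_smul, smul_eq_mul, mul_one]
        rw [h6, TensorProduct.smul_tmul, Algebra.smul_def]
        exact key _ (hIEr a ha) x
    refine ⟨fun s t => hinj ?_⟩
    rw [hzero s, hzero t]
  -- `M = I M`
  have hMI : I • (⊤ : Submodule B M) = ⊤ :=
    smul_top_eq_top_of_subsingleton_tensor I M (Localization.Away r) τ hτ
  obtain ⟨b, hb1, hb2⟩ := Submodule.exists_sub_one_mem_and_smul_eq_zero_of_fg_of_le_smul I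
    (⊤ : Submodule B M) hMfg (le_of_eq hMI.symm)
  have hbI : ∀ a ∈ I, b * a ∈ L := by
    intro a ha
    have hm : Submodule.mkQ L a ∈ M := ⟨a, ha, rfl⟩
    have := hb2 ⟨_, hm⟩ Submodule.mem_top
    have h7 : b • Submodule.mkQ L a = 0 := congrArg Subtype.val this
    rw [← map_smul, Submodule.mkQ_apply, Submodule.Quotient.mk_eq_zero, smul_eq_mul] at h7
    exact h7
  refine ⟨b, l, ?_, hlen, hlI, hbI, ?_⟩
  · have := (RingHom.mem_ker).mp hb1
    rw [map_sub, map_one, sub_eq_zero] at this
    exact this
  -- Koszul-regularity in `B_b`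
  rw [koszulRegular_iff_tensor l]
  intro i hi
  have hHr := (koszulRegular_iff_tensor (T := Localization.Away r) l).mp hKr i hi
  set H := (koszulCx (ModuleCat.of B B) l).homology i with hH
  have hHI : I • (⊤ : Submodule B H) = ⊤ :=
    smul_top_eq_top_of_subsingleton_tensor I H (Localization.Away r) τ hτ
  have hbH : ∀ z : H, b • z = 0 := by
    intro z
    have hz : z ∈ I • (⊤ : Submodule B H) := by rw [hHI]; exact Submodule.mem_top
    refine Submodule.smul_induction_on hz ?_ ?_
    · intro a ha m _
      rw [← mul_smul]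
      exact KzGen.smul_eq_zero_of_mem l (b * a) (hbI a ha) i m
    · intro x y hx hy
      rw [smul_add, hx, hy, add_zero]
  refine ⟨fun s t => ?_⟩
  have hzero : ∀ t : H ⊗[B] Localization.Away b, t = 0 := by
    intro t
    induction t using TensorProduct.induction_on with
    | zero => rfl
    | add x y hx hy => rw [hx, hy, add_zero]
    | tmul h x =>
      have h8 : x = b • (IsLocalization.Away.invSelf b * x) := by
        rw [Algebra.smul_def, ← mul_assoc, IsLocalization.Away.mul_invSelf, one_mul]
      rw [h8, ← TensorProduct.smul_tmul, hbH, TensorProduct.zero_tmul]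
  rw [hzero s, hzero t]

end Main

end Groth.Agent.Lib.R2H3.KzEtDesc
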