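import Mathlib

/-!
# Exchange lemma for generators of an ideal, using partial derivatives at a prime (helper3)

Let `J ≤ q` be an ideal generated by `s` elements, `t_1, …, t_n ∈ J`, and suppose there are maps
`d k : C → C_q` (additive, Leibniz) with `d k (t j) = δ_{jk}`.  Then near `q`, `J` is generated by
`t_1, …, t_n` together with `s - n` further elements.
-/

set_option autoImplicit false
set_option linter.style.haveILetI false
set_option linter.unusedVariables false
set_option linter.unusedSectionVars false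
universe u

namespace Groth.Agent.Lib.R2H3.KzExchange

open IsLocalRing

variable {C : Type u} [CommRing C] (q : Ideal C) [q.IsPrime]

/-- the functional `x ↦ d x mod q`. -/
noncomputable def mu (d : C → Localization.AtPrime q)
    (hd1 : ∀ x y, d (x + y) = d x + d y) : C →+ ResidueField (Localization.AtPrime q) where
  toFun x := residue _ (d x)
  map_zero' := by
    have h : d 0 = 0 := by
      have := hd1 0 0
      rw [add_zero] at this
      exact left_eq_add.mp this
    rw [h, map_zero]
  map_add' x y := by rw [hd1, map_add]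

/-- reduction of an element of `C` to the residue field. -/
noncomputable def bar : C →+* ResidueField (Localization.AtPrime q) :=
  (residue _).comp (algebraMap C (Localization.AtPrime q))

lemma bar_eq_zero {x : C} (hx : x ∈ q) : bar q x = 0 := by
  rw [bar, RingHom.comp_apply, residue_eq_zero_iff]
  exact (IsLocalization.AtPrime.to_map_mem_maximal_iff (Localization.AtPrime q) q x).mpr hx

lemma bar_ne_zero {x : C} (hx : x ∉ q) : bar q x ≠ 0 := by
  rw [bar, RingHom.comp_apply, Ne, residue_eq_zero_iff]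
  intro h
  exact hx ((IsLocalization.AtPrime.to_map_mem_maximal_iff (Localization.AtPrime q) q x).mp h)

lemma mu_mul (d : C → Localization.AtPrime q)
    (hd1 : ∀ x y, d (x + y) = d x + d y)
    (hd2 : ∀ x y, d (x * y) = algebraMap C (Localization.AtPrime q) x * d y +
      algebraMap C (Localization.AtPrime q) y * d x) (x y : C) :
    mu q d hd1 (x * y) = bar q x * mu q d hd1 y + bar q y * mu q d hd1 x := by
  change residue _ (d (x * y)) = _
  rw [hd2, map_add, map_mul, map_mul]
  rfl

/-- elements of an ideal generated by elements of `q` killed by `mu` are killed by `mu`. -/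
lemma mu_eq_zero_of_mem_span (d : C → Localization.AtPrime q)
    (hd1 : ∀ x y, d (x + y) = d x + d y)
    (hd2 : ∀ x y, d (x * y) = algebraMap C (Localization.AtPrime q) x * d y +
      algebraMap C (Localization.AtPrime q) y * d x) (S : Set C)
    (hS : ∀ x ∈ S, x ∈ q ∧ mu q d hd1 x = 0) (z : C) (hz : z ∈ Ideal.span S) :
    z ∈ q ∧ mu q d hd1 z = 0 := by
  refine Submodule.span_induction (p := fun z _ => z ∈ q ∧ mu q d hd1 z = 0) ?_ ?_ ?_ ?_ hz
  · intro x hx
    exact hS x hx
  · exact ⟨q.zero_mem, map_zero _⟩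
  · rintro x y _ _ ⟨h1, h2⟩ ⟨h3, h4⟩
    exact ⟨q.add_mem h1 h3, by rw [map_add, h2, h4, add_zero]⟩
  · rintro a x _ ⟨h1, h2⟩
    refine ⟨q.mul_mem_left a h1, ?_⟩
    rw [smul_eq_mul, mu_mul q d hd1 hd2, h2, bar_eq_zero q h1]
    simp

theorem exchange_aux (J : Ideal C) (hJq : J ≤ q) (n : ℕ) (t : Fin n → C) (ht : ∀ j, t j ∈ J)
    (d : Fin n → C → Localization.AtPrime q)
    (hd1 : ∀ k x y, d k (x + y) = d k x + d k y)
    (hd2 : ∀ k x y, d k (x * y) = algebraMap C (Localization.AtPrime q) x * d k y +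
      algebraMap C (Localization.AtPrime q) y * d k x)
    (hd3 : ∀ k j, d k (t j) = if j = k then 1 else 0)
    (s : ℕ) (rs : Fin s → C) (hJ : J = Ideal.span (Set.range rs)) :
    ∀ k : ℕ, k ≤ n → ∃ (c : C) (_ : c ∉ q) (m : ℕ) (w : Fin m → C), m + k = s ∧
      (∀ i, w i ∈ J) ∧ ∀ x ∈ J, c * x ∈ Ideal.span (Set.range w ∪
        {y | ∃ j : Fin n, (j : ℕ) < k ∧ y = t j}) := by
  intro k
  induction k with
  | zero =>
    intro _
    refine ⟨1, fun h => ‹q.IsPrime›.ne_top ((Ideal.eq_top_iff_one _).mpr h), s, rs, rfl, ?_, ?_⟩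
    · intro i
      rw [hJ]
      exact Ideal.subset_span ⟨i, rfl⟩
    · intro x hx
      rw [one_mul]
      rw [hJ] at hx
      exact Ideal.span_mono Set.subset_union_left hx
  | succ k ih =>
    intro hk
    obtain ⟨c, hc, m, w, hmk, hwJ, hgen⟩ := ih (by omega)
    set j₀ : Fin n := ⟨k, by omega⟩ with hj₀
    set T : Set C := {y | ∃ j : Fin n, (j : ℕ) < k ∧ y = t j} with hT
    have h1 := hgen (t j₀) (ht j₀)
    rw [Ideal.span_union, Submodule.mem_sup] at h1
    obtain ⟨y, hy, z, hz, hyz⟩ := h1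
    obtain ⟨a, ha⟩ := (Ideal.mem_span_range_iff_exists_fun).mp hy
    -- the functional
    set μ := mu q (d j₀) (hd1 j₀) with hμ
    have hμt : μ (t j₀) = 1 := by
      change residue _ (d j₀ (t j₀)) = 1
      rw [hd3, if_pos rfl, map_one]
    have hμz : z ∈ q ∧ μ z = 0 := by
      refine mu_eq_zero_of_mem_span q (d j₀) (hd1 j₀) (hd2 j₀) T ?_ z hz
      rintro x ⟨j, hjk, rfl⟩
      refine ⟨hJq (ht j), ?_⟩
      change residue _ (d j₀ (t j)) = 0
      have hne : j ≠ j₀ := by
        intro h
        rw [h] at hjk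
        simp [hj₀] at hjk
      rw [hd3, if_neg hne, map_zero]
    have hμc : μ (c * t j₀) = bar q c := by
      rw [hμ, mu_mul q (d j₀) (hd1 j₀) (hd2 j₀), ← hμ, hμt, bar_eq_zero q (hJq (ht j₀))]
      simp
    have hμy : μ y = bar q c := by
      rw [← hμc, ← hyz, map_add, hμz.2, add_zero]
    have hex : ∃ i₀, a i₀ ∉ q := by
      by_contra hcon
      push Not at hcon
      have : μ y = 0 := by
        rw [← ha, map_sum]
        apply Finset.sum_eq_zero
        intro i _
        rw [hμ, mu_mul q (d j₀) (hd1 j₀) (hd2 j₀), bar_eq_zero q (hcon i),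
          bar_eq_zero q (hJq (hwJ i))]
        simp
      rw [hμy] at this
      exact bar_ne_zero q hc this
    obtain ⟨i₀, hi₀⟩ := hex
    obtain ⟨m', rfl⟩ : ∃ m', m = m' + 1 := by
      cases m with
      | zero => exact i₀.elim0
      | succ m' => exact ⟨m', rfl⟩
    set T' : Set C := {y | ∃ j : Fin n, (j : ℕ) < k + 1 ∧ y = t j} with hT'
    set L : Ideal C := Ideal.span (Set.range (w ∘ i₀.succAbove) ∪ T') with hL
    have hTT' : T ⊆ T' := by
      rintro x ⟨j, hjk, rfl⟩
      exact ⟨j, by omega, rfl⟩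
    have htL : t j₀ ∈ L := Ideal.subset_span (Or.inr ⟨j₀, by simp [hj₀], rfl⟩)
    have hzL : z ∈ L := Ideal.span_mono (hTT'.trans Set.subset_union_right) hz
    have hwL : ∀ i', w (i₀.succAbove i') ∈ L := fun i' =>
      Ideal.subset_span (Or.inl ⟨i', rfl⟩)
    have hkey : a i₀ * w i₀ ∈ L := by
      have hsum : ∑ i, a i * w i = a i₀ * w i₀ + ∑ i', a (i₀.succAbove i') * w (i₀.succAbove i') :=
        Fin.sum_univ_succAbove _ i₀
      have : a i₀ * w i₀ = c * t j₀ - z - ∑ i', a (i₀.succAbove i') * w (i₀.succAbove i') := by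
        rw [← hyz, ← ha, hsum]
        ring
      rw [this]
      refine L.sub_mem (L.sub_mem (L.mul_mem_left _ htL) hzL) (L.sum_mem fun i' _ => ?_)
      exact L.mul_mem_left _ (hwL i')
    refine ⟨c * a i₀, fun h => (‹q.IsPrime›.mem_or_mem h).elim hc hi₀, m', w ∘ i₀.succAbove,
      by omega, fun i' => hwJ _, ?_⟩
    intro x hx
    have h2 := hgen x hx
    have h3 : ∀ u ∈ Ideal.span (Set.range w ∪ T), a i₀ * u ∈ L := by
      intro u hu
      refine Submodule.span_induction (p := fun u _ => a i₀ * u ∈ L) ?_ ?_ ?_ ?_ hu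
      · rintro u (⟨i, rfl⟩ | hu)
        · by_cases hi : i = i₀
          · rw [hi]; exact hkey
          · obtain ⟨i', rfl⟩ := Fin.exists_succAbove_eq hi
            exact L.mul_mem_left _ (hwL i')
        · exact L.mul_mem_left _ (Ideal.subset_span (Or.inr (hTT' hu)))
      · rw [mul_zero]; exact L.zero_mem
      · intro u v _ _ hu hv
        rw [mul_add]; exact L.add_mem hu hv
      · intro b u _ hu
        rw [smul_eq_mul, mul_left_comm]
        exact L.mul_mem_left _ hu
    have := h3 _ h2
    rw [mul_comm c (a i₀), mul_assoc]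
    exact this

/-- **Exchange**, list form. -/
theorem exchange (J : Ideal C) (hJq : J ≤ q) (n : ℕ) (t : Fin n → C) (ht : ∀ j, t j ∈ J)
    (d : Fin n → C → Localization.AtPrime q)
    (hd1 : ∀ k x y, d k (x + y) = d k x + d k y)
    (hd2 : ∀ k x y, d k (x * y) = algebraMap C (Localization.AtPrime q) x * d k y +
      algebraMap C (Localization.AtPrime q) y * d k x)
    (hd3 : ∀ k j, d k (t j) = if j = k then 1 else 0)
    (rs : List C) (hJ : J = Ideal.ofList rs) :
    ∃ (c : C) (_ : c ∉ q) (w : List C), w.length + n = rs.length ∧ (∀ x ∈ w, x ∈ J) ∧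
      ∀ x ∈ J, c * x ∈ Ideal.ofList (w ++ List.ofFn t) := by
  have hJ' : J = Ideal.span (Set.range rs.get) := by
    rw [hJ, Ideal.ofList]
    congr 1
    ext x
    simp [List.mem_iff_get]
  obtain ⟨c, hc, m, w, hm, hwJ, hgen⟩ := exchange_aux q J hJq n t ht d hd1 hd2 hd3 rs.length rs.get
    hJ' n le_rfl
  refine ⟨c, hc, List.ofFn w, by simpa using hm, ?_, ?_⟩
  · intro x hx
    obtain ⟨i, rfl⟩ := (List.mem_ofFn' w x).mp hx
    exact hwJ i
  · intro x hx
    have := hgen x hx
    rw [Ideal.ofList]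
    refine Ideal.span_mono ?_ this
    rintro y (⟨i, rfl⟩ | ⟨j, -, rfl⟩)
    · simp only [List.mem_append, Set.mem_ofPred_eq]
      exact Or.inl ((List.mem_ofFn' w _).mpr ⟨i, rfl⟩)
    · simp only [List.mem_append, Set.mem_ofPred_eq]
      exact Or.inr ((List.mem_ofFn' t _).mpr ⟨j, rfl⟩)

end Groth.Agent.Lib.R2H3.KzExchange
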