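import Mathlib
import Groth.Prelude.Def_RegImm
import Groth.Agent.Lib.H9KoszulComp
import Groth.Agent.Lib.Helper5KoszulGor

set_option autoImplicit false
set_option linter.style.haveILetI false
set_option linter.unusedVariables false
set_option linter.unusedSectionVars false
universe u

namespace Groth.Agent.Lib.R2H3.KzQuot

open CategoryTheory CategoryTheory.Limits CochainComplex CohIII
open Groth.Agent.Helper13KzLift Groth.Agent.Helper13Kz Groth.Agent.Lib.Helper21
open Groth.Agent.Lib.H9KoszulComp Groth.Agent.Lib.Helper5.KoszulGor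

variable {A : Type u} [CommRing A]

/-- quotient direction of concatenation: if `fs` and `bs ++ fs` are Koszul-regular in `A`, then the
image of `bs` is Koszul-regular in `A ⧸ (fs)`. -/
theorem isKoszulRegularSeq_quot_of_append (fs bs : List A) (hfs : LCI.IsKoszulRegularSeq A fs)
    (h : LCI.IsKoszulRegularSeq A (bs ++ fs)) :
    LCI.IsKoszulRegularSeq (A ⧸ Ideal.ofList fs)
      (bs.map (Ideal.Quotient.mk (Ideal.ofList fs))) := by
  intro i hi
  rw [isZero_congr (koszul_eq (A ⧸ Ideal.ofList fs) _) i]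
  apply isZero_homology_of_restrict (Ideal.Quotient.mk (Ideal.ofList fs))
    (ModuleCat.of (A ⧸ Ideal.ofList fs) (A ⧸ Ideal.ofList fs)) bs i
  obtain ⟨N, hN⟩ : ∃ N : ModuleCat.{u} A, N = (ModuleCat.restrictScalars
    (Ideal.Quotient.mk (Ideal.ofList fs))).obj
      (ModuleCat.of (A ⧸ Ideal.ofList fs) (A ⧸ Ideal.ofList fs)) := ⟨_, rfl⟩
  rw [← hN]
  obtain ⟨e0⟩ := Groth.Agent.S11917.main A fs
  have h' : Ideal.ofList fs • (⊤ : Submodule A A) = Ideal.ofList fs := by simp
  have e : (koszulCx (ModuleCat.of A A) fs).homology 0 ≅ N := by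
    rw [hN]
    exact (e0.trans ((Submodule.quotEquivOfEq _ _ h').trans (quotEquiv _))).toModuleIso
  obtain ⟨ε, hε⟩ := exists_quasiIso_single (koszulCx (ModuleCat.of A A) fs)
    (isZero_koszulCx_X_pos _ fs 1 one_pos)
    (fun i hi => (isZero_congr (koszul_eq A fs) i).mp (hfs i hi)) N e
  obtain ⟨ψ, hψ⟩ := exists_quasiIso_append (ModuleCat.of A A) N fs ε hε bs
  have hz : IsZero ((koszulCx (ModuleCat.of A A) (bs ++ fs)).homology i) :=
    (isZero_congr (koszul_eq A (bs ++ fs)) i).mp (h i hi)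
  haveI := (quasiIsoAt_iff_isIso_homologyMap ψ i).mp (hψ.quasiIsoAt i)
  exact hz.of_iso (asIso (HomologicalComplex.homologyMap ψ i)).symm

end Groth.Agent.Lib.R2H3.KzQuot
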