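import Groth.Agent.Lib.H9ClChart

/-! A closed immersion of smooth `S`-schemes is locally cut out by a regular sequence (helper9). -/

set_option autoImplicit false
set_option linter.style.haveILetI false
set_option linter.unusedSimpArgs false
universe u
open AlgebraicGeometry CategoryTheory CategoryTheory.Limits RingTheory.Sequence

namespace Groth.Agent.Lib.H9RegSm

-- ===== part F1.0 =====
section

/-- multiplication by a variable not in `s` is injective modulo the ideal generated by the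
variables in `s`. -/
lemma X_mul_mem_span_X_image {σ R : Type*} [CommRing R] (s : Set σ) (a : σ) (ha : a ∉ s)
    (p : MvPolynomial σ R)
    (h : MvPolynomial.X a * p ∈ Ideal.span (MvPolynomial.X '' s : Set (MvPolynomial σ R))) :
    p ∈ Ideal.span (MvPolynomial.X '' s : Set (MvPolynomial σ R)) := by
  classical
  rw [MvPolynomial.mem_ideal_span_X_image] at h ⊢
  intro m hm
  have hm' : Finsupp.single a 1 + m ∈ (MvPolynomial.X a * p).support := by
    rw [MvPolynomial.support_X_mul]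
    exact Finset.mem_map_of_mem _ hm
  obtain ⟨i, his, hi⟩ := h _ hm'
  refine ⟨i, his, ?_⟩
  have hia : i ≠ a := fun h => ha (h ▸ his)
  rwa [Finsupp.add_apply, Finsupp.single_apply, if_neg (Ne.symm hia), zero_add] at hi

/-- distinct variables form a weakly regular sequence in a polynomial ring. -/
theorem isWeaklyRegular_X {σ R : Type*} [CommRing R] (l : List σ) (hl : l.Nodup) :
    IsWeaklyRegular (MvPolynomial σ R)
      (l.map (MvPolynomial.X : σ → MvPolynomial σ R)) := by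
  induction l using List.reverseRecOn with
  | nil => exact IsWeaklyRegular.nil _ _
  | append_singleton l a ih =>
    rw [List.nodup_append] at hl
    obtain ⟨hl1, -, hl3⟩ := hl
    rw [List.map_append, isWeaklyRegular_append_iff]
    refine ⟨ih hl1, ?_⟩
    rw [List.map_singleton, isWeaklyRegular_singleton_iff,
      isSMulRegular_quotient_iff_mem_of_smul_mem]
    intro p hp
    have hI : (Ideal.ofList (l.map (MvPolynomial.X : σ → MvPolynomial σ R)) • ⊤ :
        Submodule (MvPolynomial σ R)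
        (MvPolynomial σ R)) = Ideal.span (MvPolynomial.X '' {b | b ∈ l}) := by
      rw [smul_eq_mul, Ideal.mul_top]
      simp only [Ideal.ofList]
      congr 1
      ext x
      simp [List.mem_map]
    rw [hI] at hp ⊢
    have ha : a ∉ {b | b ∈ l} := fun h => hl3 a h a (List.mem_singleton_self a) rfl
    exact X_mul_mem_span_X_image _ a ha p hp

end

-- ===== part F2.0 =====
section

open Groth.Agent.Lib.H9SecChart Groth.Agent.Lib.H9ClChart

theorem weaklyRegular_of_etale_coords (A D : Type u) [CommRing A] [CommRing D] (τ : Type u)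
    (F₀ : A →+* D) (c : τ → D) (hE : (MvPolynomial.eval₂Hom F₀ c).Etale) (l : List τ)
    (hl : l.Nodup) : IsWeaklyRegular D (l.map c) := by
  letI := (MvPolynomial.eval₂Hom F₀ c).toAlgebra
  haveI : Algebra.Etale (MvPolynomial τ A) D := hE
  have h1 := (isWeaklyRegular_X (R := A) l hl).of_flat (S := D)
  rw [List.map_map] at h1
  have h2 : (algebraMap (MvPolynomial τ A) D) ∘ MvPolynomial.X = c := by
    funext j
    change MvPolynomial.eval₂Hom F₀ c (MvPolynomial.X j) = c j
    exact MvPolynomial.eval₂Hom_X' _ _ _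
  rwa [h2] at h1

/-- a closed immersion of smooth `S`-schemes is locally cut out by a regular sequence. -/
theorem exists_regular_of_smooth {S X Y : Scheme.{u}} (pX : X ⟶ S) (pY : Y ⟶ S) [Smooth pX]
    [Smooth pY] (i : Y ⟶ X) [IsClosedImmersion i] (w : i ≫ pX = pY) (y : Y) :
    ∃ (U : X.Opens) (hU : IsAffineOpen U), i y ∈ U ∧
      ∃ rs : List Γ(X, U), IsRegular Γ(X, U) rs ∧ i.ker.ideal ⟨U, hU⟩ = Ideal.ofList rs := by
  -- affine opens
  obtain ⟨_, ⟨S₀, hS₀, rfl⟩, hsS₀, -⟩ :=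
    S.isBasis_affineOpens.exists_subset_of_mem_open (Set.mem_univ (pX (i y))) isOpen_univ
  obtain ⟨_, ⟨X₀, hX₀, rfl⟩, hxX₀, hXS₀'⟩ :=
    X.isBasis_affineOpens.exists_subset_of_mem_open (show i y ∈ pX ⁻¹ᵁ S₀ from hsS₀)
      (pX ⁻¹ᵁ S₀).2
  have hXS₀ : X₀ ≤ pX ⁻¹ᵁ S₀ := hXS₀'
  have hY₀ : IsAffineOpen (i ⁻¹ᵁ X₀) := hX₀.preimage i
  have hYS₀ : i ⁻¹ᵁ X₀ ≤ pY ⁻¹ᵁ S₀ := by
    rw [← w]
    intro t ht
    exact hXS₀ ht
  have hyY₀ : y ∈ i ⁻¹ᵁ X₀ := hxX₀
  -- ring data
  have hθ := i.app_surjective X₀ hX₀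
  have hfpB := pX.finitePresentation_appLE hS₀ hX₀ hXS₀
  have hfpC := pY.finitePresentation_appLE hS₀ hY₀ hYS₀
  have hsmB := pX.smooth_appLE hS₀ hX₀ hXS₀
  have hsmC := pY.smooth_appLE hS₀ hY₀ hYS₀
  have hcomp : pY.appLE S₀ (i ⁻¹ᵁ X₀) hYS₀ = pX.appLE S₀ X₀ hXS₀ ≫ i.app X₀ := by
    subst w
    rw [← Scheme.Hom.appLE_eq_app, Scheme.Hom.appLE_comp_appLE]
  rw [hcomp] at hfpC hsmC
  obtain ⟨f, hf, n, m, g, wv, hg, H⟩ := ring_main2 Γ(S, S₀) Γ(X, X₀) Γ(Y, i ⁻¹ᵁ X₀)
    (pX.appLE S₀ X₀ hXS₀).hom (i.app X₀).hom hθ hfpB hfpC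
    (hY₀.primeIdealOf ⟨y, hyY₀⟩).asIdeal
    (by
      algebraize [(pX.appLE S₀ X₀ hXS₀).hom]
      infer_instance)
    (by
      have := hsmC
      rw [CommRingCat.hom_comp] at this
      algebraize [(i.app X₀).hom.comp (pX.appLE S₀ X₀ hXS₀).hom]
      infer_instance)
  -- the open neighbourhood
  set U : X.Opens := X.basicOpen f with hUdef
  have hUX₀ : U ≤ X₀ := X.basicOpen_le f
  have hyU : i y ∈ U := by
    have h1 : y ∈ Y.basicOpen ((i.app X₀).hom f) :=
      mem_basicOpen_of_notMem_primeIdealOf hY₀ y hyY₀ _ hf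
    have h2 : i ⁻¹ᵁ X.basicOpen f = Y.basicOpen ((i.app X₀).hom f) := Scheme.preimage_basicOpen i f
    rw [← h2] at h1
    exact h1
  set ψ : Γ(X, X₀) →+* Γ(X, U) := (X.presheaf.map (homOfLE hUX₀).op).hom with hψ
  have hloc : (letI := ψ.toAlgebra; IsLocalization.Away f Γ(X, U)) :=
    hX₀.isLocalization_of_eq_basicOpen f (homOfLE hUX₀) rfl
  obtain ⟨hEt, hker⟩ := H Γ(X, U) ψ hloc
  have hU : IsAffineOpen U := hX₀.basicOpen f
  refine ⟨U, hU, hyU, List.ofFn (fun j : Fin n => ψ (g j)), ⟨?_, ?_⟩, ?_⟩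
  · -- weakly regular
    have h1 := weaklyRegular_of_etale_coords Γ(S, S₀) Γ(X, U) (ULift.{u} (Fin m ⊕ Fin n))
      (ψ.comp (pX.appLE S₀ X₀ hXS₀).hom) (fun j => ψ (Sum.elim wv g j.down)) hEt
      (List.ofFn (fun j : Fin n => ULift.up (Sum.inr j)))
      (List.nodup_ofFn.mpr (fun a b hab => by simpa using hab))
    rw [List.map_ofFn] at h1
    exact h1
  · -- properness
    intro htop
    have hkerU : RingHom.ker (i.app U).hom = Ideal.ofList (List.ofFn (fun j : Fin n => ψ (g j))) := by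
      rw [ker_app_basicOpen i X₀ hX₀ f, hker]
      simp only [Ideal.ofList]
      congr 1
      ext x
      simp [List.mem_ofFn]
    rw [smul_eq_mul, Ideal.mul_top, ← hkerU] at htop
    have h1 : (1 : Γ(X, U)) ∈ RingHom.ker (i.app U).hom := htop ▸ Submodule.mem_top
    rw [RingHom.mem_ker, map_one] at h1
    have h2 := congrArg (Y.presheaf.germ (i ⁻¹ᵁ U) y hyU).hom h1
    rw [map_one, map_zero] at h2
    exact one_ne_zero h2
  · -- the ideal
    rw [Scheme.Hom.ker_apply]
    change RingHom.ker (i.app U).hom = _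
    rw [ker_app_basicOpen i X₀ hX₀ f, hker]
    simp only [Ideal.ofList]
    congr 1
    ext x
    simp [List.mem_ofFn]

end

end Groth.Agent.Lib.H9RegSm
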