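import Mathlib

set_option autoImplicit false
set_option linter.style.haveILetI false
set_option linter.unusedVariables false
set_option linter.unusedSectionVars false
universe u

namespace Groth.Agent.Lib.R2H3.KzEtQuot

open TensorProduct

/-- `A → A[x]/(x)` is bijective. -/
theorem bijective_C_mk (A : Type u) [CommRing A] (τ : Type u) :
    Function.Bijective ((Ideal.Quotient.mk (Ideal.span (Set.range
      (MvPolynomial.X : τ → MvPolynomial τ A)))).comp MvPolynomial.C) := by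
  set 𝔵 : Ideal (MvPolynomial τ A) := Ideal.span (Set.range MvPolynomial.X) with h𝔵
  let ev₀ : MvPolynomial τ A →+* A := MvPolynomial.eval₂Hom (RingHom.id A) (fun _ => 0)
  have hker : ∀ a ∈ 𝔵, ev₀ a = 0 := by
    intro a ha
    have : 𝔵 ≤ RingHom.ker ev₀ := by
      rw [h𝔵, Ideal.span_le]
      rintro _ ⟨j, rfl⟩
      change ev₀ (MvPolynomial.X j) = 0
      exact MvPolynomial.eval₂Hom_X' _ _ _
    exact this ha
  constructor
  · intro a b hab
    have := congrArg (Ideal.Quotient.lift 𝔵 ev₀ hker) hab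
    simpa [ev₀] using this
  · intro z
    obtain ⟨p, rfl⟩ := Ideal.Quotient.mk_surjective z
    induction p using MvPolynomial.induction_on with
    | C a => exact ⟨a, rfl⟩
    | add p q hp hq =>
      obtain ⟨a, ha⟩ := hp
      obtain ⟨b, hb⟩ := hq
      exact ⟨a + b, by rw [map_add, ha, hb, map_add]⟩
    | mul_X p j _ =>
      refine ⟨0, ?_⟩
      rw [map_zero, map_mul]
      have : Ideal.Quotient.mk 𝔵 (MvPolynomial.X j) = 0 :=
        Ideal.Quotient.eq_zero_iff_mem.mpr (Ideal.subset_span ⟨j, rfl⟩)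
      rw [this, mul_zero]

/-- if `A[x] → D`, `x_j ↦ c_j`, is etale, then `A → D ⧸ (c)` is etale. -/
theorem etale_quot (A D : Type u) [CommRing A] [CommRing D] (τ : Type u)
    (F₀ : A →+* D) (c : τ → D) (hE : (MvPolynomial.eval₂Hom F₀ c).Etale) :
    ((Ideal.Quotient.mk (Ideal.span (Set.range c))).comp F₀).Etale := by
  letI algPD : Algebra (MvPolynomial τ A) D := (MvPolynomial.eval₂Hom F₀ c).toAlgebra
  haveI : Algebra.Etale (MvPolynomial τ A) D := hE
  set 𝔵 : Ideal (MvPolynomial τ A) := Ideal.span (Set.range MvPolynomial.X) with h𝔵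
  have hX : ∀ j, algebraMap (MvPolynomial τ A) D (MvPolynomial.X j) = c j :=
    fun j => MvPolynomial.eval₂Hom_X' _ _ _
  have hC : ∀ a, algebraMap (MvPolynomial τ A) D (MvPolynomial.C a) = F₀ a :=
    fun a => MvPolynomial.eval₂Hom_C _ _ _
  have hmap : 𝔵.map (algebraMap (MvPolynomial τ A) D) = Ideal.span (Set.range c) := by
    rw [h𝔵, Ideal.map_span]
    congr 1
    ext y
    constructor
    · rintro ⟨_, ⟨j, rfl⟩, rfl⟩
      exact ⟨j, (hX j).symm⟩
    · rintro ⟨j, rfl⟩
      exact ⟨_, ⟨j, rfl⟩, hX j⟩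
  rw [← hmap]
  let e := Algebra.TensorProduct.quotIdealMapEquivQuotTensor D 𝔵
  haveI : Algebra.Etale (MvPolynomial τ A ⧸ 𝔵)
      (D ⧸ 𝔵.map (algebraMap (MvPolynomial τ A) D)) :=
    Algebra.Etale.of_equiv (A := (MvPolynomial τ A ⧸ 𝔵) ⊗[MvPolynomial τ A] D) e.symm
  have h1 : (algebraMap (MvPolynomial τ A ⧸ 𝔵)
      (D ⧸ 𝔵.map (algebraMap (MvPolynomial τ A) D))).Etale :=
    RingHom.etale_algebraMap.mpr inferInstance
  let κ : A ≃+* (MvPolynomial τ A ⧸ 𝔵) := RingEquiv.ofBijective _ (bijective_C_mk A τ)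
  have h2 := RingHom.Etale.respectsIso.2 _ κ h1
  have h3 : (algebraMap (MvPolynomial τ A ⧸ 𝔵)
      (D ⧸ 𝔵.map (algebraMap (MvPolynomial τ A) D))).comp κ.toRingHom =
      (Ideal.Quotient.mk (𝔵.map (algebraMap (MvPolynomial τ A) D))).comp F₀ := by
    ext a
    change algebraMap (MvPolynomial τ A ⧸ 𝔵) _ (Ideal.Quotient.mk 𝔵 (MvPolynomial.C a)) = _
    rw [Ideal.Quotient.algebraMap_quotient_map_quotient, hC]
    rfl
  rw [← h3]
  exact h2

end Groth.Agent.Lib.R2H3.KzEtQuot
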