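import Mathlib
import Groth.Prelude.Def_RegImm
import Groth.Agent.Lib.H9RegSm
import Groth.Agent.S15821
import Groth.Agent.Lib.R2H3KzEtQuot

set_option autoImplicit false
set_option linter.style.haveILetI false
set_option linter.unusedVariables false
set_option linter.unusedSectionVars false
universe u

namespace Groth.Agent.Lib.R2H3.KzTransport

open TensorProduct

/-- (R3) cancellation of a localization on the base. -/
theorem etale_of_comp_localization {B B₂ E : Type u} [CommRing B] [CommRing B₂] [CommRing E]
    (β : B →+* B₂) (b₀ : B) (hβ : letI := β.toAlgebra; IsLocalization.Away b₀ B₂)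
    (f : B₂ →+* E) (h : (f.comp β).Etale) : f.Etale := by
  letI := β.toAlgebra
  letI := f.toAlgebra
  letI : Algebra B E := (f.comp β).toAlgebra
  haveI : IsScalarTower B B₂ E := IsScalarTower.of_algebraMap_eq (fun _ => rfl)
  haveI : IsLocalization.Away b₀ B₂ := hβ
  haveI hEt : Algebra.Etale B E := h
  haveI : Algebra.FormallyEtale B₂ E :=
    Algebra.FormallyEtale.localization_base (Submonoid.powers b₀)
  haveI : Algebra.FinitePresentation B B₂ := IsLocalization.Away.finitePresentation b₀
  haveI : Algebra.FinitePresentation B₂ E :=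
    Algebra.FinitePresentation.of_restrict_scalars_finitePresentation B B₂ E
  change Algebra.Etale B₂ E
  exact ⟨inferInstance, inferInstance⟩


lemma isLocalization_toAlgebra {C R : Type u} [CommRing C] [CommRing R] [Algebra C R]
    (M : Submonoid C) [IsLocalization M R] :
    letI := (algebraMap C R).toAlgebra; IsLocalization M R := by
  have : (algebraMap C R).toAlgebra = ‹Algebra C R› := Algebra.algebra_ext _ _ (fun _ => rfl)
  rw [this]
  infer_instance

/-- (R4) + transport. -/
theorem transport (B C : Type u) [CommRing B] [CommRing C] (φ : B →+* C) (g : C) (n : ℕ)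
    (t : Fin n → C)
    (hE : ∀ (R : Type u) [CommRing R] (ψ : C →+* R),
      (letI := ψ.toAlgebra; IsLocalization.Away g R) →
      (MvPolynomial.eval₂Hom (ψ.comp φ) (fun j : ULift.{u} (Fin n) => ψ (t j.down))).Etale)
    (B₂ C₂ : Type u) [CommRing B₂] [CommRing C₂] (β : B →+* B₂) (γ : C →+* C₂) (φ₂ : B₂ →+* C₂)
    (hcomm : φ₂.comp β = γ.comp φ) (b₀ : B)
    (hβ : letI := β.toAlgebra; IsLocalization.Away b₀ B₂)
    (y : C) (hγ : letI := γ.toAlgebra; IsLocalization.Away (g * y) C₂) :
    ((Ideal.Quotient.mk (Ideal.ofList (List.ofFn (fun j => γ (t j))))).comp φ₂).Etale ∧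
      LCI.IsKoszulRegularSeq C₂ (List.ofFn (fun j => γ (t j))) := by
  -- T1: `B[x] → C₂` is etale
  have T1 : (MvPolynomial.eval₂Hom (γ.comp φ)
      (fun j : ULift.{u} (Fin n) => γ (t j.down))).Etale := by
    have h0 := hE (Localization.Away g) (algebraMap C (Localization.Away g))
      (isLocalization_toAlgebra (Submonoid.powers g))
    letI := γ.toAlgebra
    haveI : IsLocalization.Away (g * y) C₂ := hγ
    let R' := Localization.Away (algebraMap C (Localization.Away g) y)
    let e : R' ≃ₐ[C] C₂ := IsLocalization.algEquiv (.powers (g * y)) _ _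
    have h1 : (algebraMap (Localization.Away g) R').Etale :=
      RingHom.etale_algebraMap.mpr
        (Algebra.Etale.of_isLocalizationAway (algebraMap C (Localization.Away g) y))
    have h2 := RingHom.Etale.stableUnderComposition _ _ h0 h1
    have h3 := RingHom.Etale.respectsIso.1 _ e.toRingEquiv h2
    have key : MvPolynomial.eval₂Hom (γ.comp φ) (fun j : ULift.{u} (Fin n) => γ (t j.down)) =
        e.toRingEquiv.toRingHom.comp ((algebraMap (Localization.Away g) R').comp
          (MvPolynomial.eval₂Hom ((algebraMap C (Localization.Away g)).comp φ)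
            (fun j : ULift.{u} (Fin n) => algebraMap C (Localization.Away g) (t j.down)))) := by
      apply MvPolynomial.ringHom_ext
      · intro r
        rw [MvPolynomial.eval₂Hom_C, RingHom.comp_apply, RingHom.comp_apply, RingHom.comp_apply,
          MvPolynomial.eval₂Hom_C, RingHom.comp_apply,
          ← IsScalarTower.algebraMap_apply C (Localization.Away g) R']
        change γ (φ r) = e (algebraMap C R' (φ r))
        rw [e.commutes]
        rfl
      · intro j
        rw [MvPolynomial.eval₂Hom_X', RingHom.comp_apply, RingHom.comp_apply,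
          MvPolynomial.eval₂Hom_X', ← IsScalarTower.algebraMap_apply C (Localization.Away g) R']
        change γ (t j.down) = e (algebraMap C R' (t j.down))
        rw [e.commutes]
        rfl
    rw [key]
    exact h3
  constructor
  · have h4 := KzEtQuot.etale_quot B C₂ (ULift.{u} (Fin n)) (γ.comp φ)
      (fun j : ULift.{u} (Fin n) => γ (t j.down)) T1
    have hI : Ideal.span (Set.range (fun j : ULift.{u} (Fin n) => γ (t j.down))) =
        Ideal.ofList (List.ofFn (fun j => γ (t j))) := by
      rw [Ideal.ofList]
      congr 1
      ext z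
      simp only [Set.mem_range, ULift.exists, Set.mem_ofPred_eq, List.mem_ofFn]
    rw [hI, ← hcomm, ← RingHom.comp_assoc] at h4
    exact etale_of_comp_localization β b₀ hβ _ h4
  · have hw := Groth.Agent.Lib.H9RegSm.weaklyRegular_of_etale_coords B C₂ (ULift.{u} (Fin n))
      (γ.comp φ) (fun j : ULift.{u} (Fin n) => γ (t j.down)) T1
      ((List.finRange n).map ULift.up)
      ((List.nodup_finRange n).map ULift.up_injective)
    have hl : ((List.finRange n).map ULift.up).map
        (fun j : ULift.{u} (Fin n) => γ (t j.down)) = List.ofFn (fun j => γ (t j)) := by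
      rw [List.map_map, List.ofFn_eq_map]
      rfl
    rw [hl] at hw
    exact (Groth.Agent.S15821.result _ _ hw).1

end Groth.Agent.Lib.R2H3.KzTransport
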