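import Mathlib
import Groth.Prelude.Def_RegImm
import Groth.Agent.Lib.R2H3KzTransport
import Groth.Agent.Lib.R2H3KzQuot
import Groth.Agent.Lib.R2H3KzEtDesc
import Groth.Agent.Lib.R2H3KzCoords
import Groth.Agent.Lib.R2H3KzExchange
import Groth.Agent.Lib.R2H3KzGen
import Groth.Agent.Lib.H9RegImmFlatBC

set_option autoImplicit false
set_option linter.style.haveILetI false
set_option linter.unusedVariables false
set_option linter.unusedSectionVars false
universe u

namespace Groth.Agent.Lib.R2H3.KzRingMain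

open TensorProduct

/-- Lemma 2: descent given global etale coordinates in the kernel. -/
theorem descend_of_coords (B C D : Type u) [CommRing B] [CommRing C] [CommRing D]
    (φ : B →+* C) (θ' : C →+* D) (hθ' : Function.Surjective θ')
    (hπ : Function.Surjective (θ'.comp φ)) (n : ℕ) (t : Fin n → C)
    (htJ : ∀ j, t j ∈ RingHom.ker θ')
    (hEt : ((Ideal.Quotient.mk (Ideal.ofList (List.ofFn t))).comp φ).Etale)
    (ht : LCI.IsKoszulRegularSeq C (List.ofFn t))
    (wl : List C) (hgen : RingHom.ker θ' = Ideal.ofList (wl ++ List.ofFn t))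
    (hKR : LCI.IsKoszulRegularSeq C (wl ++ List.ofFn t)) :
    ∃ (b : B) (l : List B), θ' (φ b) = 1 ∧ l.length = wl.length ∧
      (∀ x ∈ l, x ∈ RingHom.ker (θ'.comp φ)) ∧
      (∀ a ∈ RingHom.ker (θ'.comp φ), b * a ∈ Ideal.ofList l) ∧
      LCI.IsKoszulRegularSeq (Localization.Away b)
        (l.map (algebraMap B (Localization.Away b))) := by
  set T : Ideal C := Ideal.ofList (List.ofFn t) with hT
  have hTle : T ≤ RingHom.ker θ' := by
    rw [hT, Ideal.ofList, Ideal.span_le]
    intro x hx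
    obtain ⟨j, rfl⟩ := (List.mem_ofFn' t x).mp hx
    exact htJ j
  letI algBE : Algebra B (C ⧸ T) := ((Ideal.Quotient.mk T).comp φ).toAlgebra
  obtain ⟨hflat, hunr, hfp⟩ := RingHom.Etale.iff_flat_and_formallyUnramified.mp hEt
  haveI : Module.Flat B (C ⧸ T) := hflat
  haveI : Algebra.FormallyUnramified B (C ⧸ T) := hunr
  haveI : Algebra.FinitePresentation B (C ⧸ T) := hfp
  let θ : C ⧸ T →+* D := Ideal.Quotient.lift T θ' (fun a ha => hTle ha)
  have hθmk : ∀ c, θ (Ideal.Quotient.mk T c) = θ' c := fun c => Ideal.Quotient.lift_mk _ _ _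
  have hθ : Function.Surjective θ := by
    intro d
    obtain ⟨c, rfl⟩ := hθ' d
    exact ⟨Ideal.Quotient.mk T c, hθmk c⟩
  have hcomp : θ.comp (algebraMap B (C ⧸ T)) = θ'.comp φ := by
    ext b
    exact hθmk (φ b)
  have hπ' : Function.Surjective (θ.comp (algebraMap B (C ⧸ T))) := by rw [hcomp]; exact hπ
  set W : List (C ⧸ T) := wl.map (Ideal.Quotient.mk T) with hW
  have hWKR : LCI.IsKoszulRegularSeq (C ⧸ T) W :=
    KzQuot.isKoszulRegularSeq_quot_of_append (List.ofFn t) wl ht hKR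
  have hker : RingHom.ker θ = Ideal.ofList W := by
    apply le_antisymm
    · intro x hx
      obtain ⟨c, rfl⟩ := Ideal.Quotient.mk_surjective x
      rw [RingHom.mem_ker, hθmk] at hx
      have hc : c ∈ Ideal.ofList (wl ++ List.ofFn t) := hgen ▸ ((RingHom.mem_ker).mpr hx)
      have h1 := Ideal.mem_map_of_mem (Ideal.Quotient.mk T) hc
      rw [Ideal.map_ofList, List.map_append, Ideal.ofList_append] at h1
      have h2 : Ideal.ofList ((List.ofFn t).map (Ideal.Quotient.mk T)) = ⊥ := by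
        rw [← Ideal.map_ofList]
        exact Ideal.map_quotient_self T
      rw [h2, sup_bot_eq] at h1
      exact h1
    · rw [Ideal.ofList, Ideal.span_le]
      intro x hx
      obtain ⟨c, hc, rfl⟩ := List.mem_map.mp hx
      change Ideal.Quotient.mk T c ∈ RingHom.ker θ
      rw [RingHom.mem_ker, hθmk, ← RingHom.mem_ker, hgen]
      exact Ideal.subset_span (List.mem_append_left _ hc)
  obtain ⟨b, l, h1, h2, h3, h4, h5⟩ := KzEtDesc.etale_descend θ hθ hπ' W hWKR hker
  rw [hcomp] at h3 h4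
  refine ⟨b, l, ?_, by rw [h2, hW, List.length_map], h3, h4, h5⟩
  have := hθmk (φ b)
  rw [← this]
  exact h1


/-- Lemma 12: the ring-level main theorem. -/
theorem ring_main (B C D : Type u) [CommRing B] [CommRing C] [CommRing D]
    (φ : B →+* C) (θ' : C →+* D) (hθ' : Function.Surjective θ')
    (hπ : Function.Surjective (θ'.comp φ))
    (hfp : φ.FinitePresentation) (q' : Ideal D) [q'.IsPrime]
    (hsm : letI := φ.toAlgebra; Algebra.IsSmoothAt B (q'.comap θ'))
    (rs : List C) (hrs : LCI.IsKoszulRegularSeq C rs) (hker : RingHom.ker θ' = Ideal.ofList rs) :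
    ∃ (g₁ : C) (_ : g₁ ∉ q'.comap θ'),
      ∀ (B₂ C₂ D₂ : Type u) [CommRing B₂] [CommRing C₂] [CommRing D₂] (β : B →+* B₂)
        (γ : C →+* C₂) (φ₂ : B₂ →+* C₂) (θ₂ : C₂ →+* D₂) (b₀ : B),
        φ₂.comp β = γ.comp φ →
        (letI := β.toAlgebra; IsLocalization.Away b₀ B₂) →
        (letI := γ.toAlgebra; IsLocalization.Away (g₁ * φ b₀) C₂) →
        Function.Surjective θ₂ → Function.Surjective (θ₂.comp φ₂) →
        RingHom.ker θ₂ = (RingHom.ker θ').map γ →
        ∃ (b : B₂) (l : List B₂), θ₂ (φ₂ b) = 1 ∧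
          (∀ x ∈ l, x ∈ RingHom.ker (θ₂.comp φ₂)) ∧
          (∀ a ∈ RingHom.ker (θ₂.comp φ₂), b * a ∈ Ideal.ofList l) ∧
          LCI.IsKoszulRegularSeq (Localization.Away b)
            (l.map (algebraMap B₂ (Localization.Away b))) := by
  classical
  set q : Ideal C := q'.comap θ' with hq
  haveI hqp : q.IsPrime := Ideal.comap_isPrime θ' q'
  set J : Ideal C := RingHom.ker θ' with hJ
  have hJq : J ≤ q := by
    intro x hx
    rw [hq, Ideal.mem_comap, (RingHom.mem_ker).mp hx]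
    exact Ideal.zero_mem _
  -- the set-theoretic lift
  let ρ : C → B := fun c => (hπ (θ' c)).choose
  have hρ : ∀ c, θ' (φ (ρ c)) = θ' c := fun c => (hπ (θ' c)).choose_spec
  obtain ⟨g, hg, n, w, d, hd1, hd2, hd3, hE⟩ := KzCoords.coords_in_ker B C φ ρ hfp q hsm
  set t : Fin n → C := fun j => w j - φ (ρ (w j)) with ht
  have htJ : ∀ j, t j ∈ J := by
    intro j
    rw [hJ, RingHom.mem_ker, ht, map_sub, hρ, sub_self]
  obtain ⟨c, hc, wl, hlen, hwlJ, hgen⟩ :=
    KzExchange.exchange q J hJq n t htJ d hd1 hd2 hd3 rs hker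
  refine ⟨g * c, fun h => (hqp.mem_or_mem h).elim hg hc, ?_⟩
  intro B₂ C₂ D₂ _ _ _ β γ φ₂ θ₂ b₀ hcomm hβ hγ hθ₂ hπ₂ hker₂
  have hγ' : (letI := γ.toAlgebra; IsLocalization.Away (g * (c * φ b₀)) C₂) := by
    rw [← mul_assoc]; exact hγ
  obtain ⟨hEt₂, ht₂⟩ := KzTransport.transport B C φ g n t hE B₂ C₂ β γ φ₂ hcomm b₀ hβ
    (c * φ b₀) hγ'
  have hcu : IsUnit (γ c) := by
    letI := γ.toAlgebra
    haveI : IsLocalization.Away (g * c * φ b₀) C₂ := hγ
    exact IsLocalization.Away.isUnit_of_dvd (g * c * φ b₀) (r := c) ⟨g * φ b₀, by ring⟩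
  have hflat : γ.Flat := by
    letI := γ.toAlgebra
    haveI : IsLocalization.Away (g * c * φ b₀) C₂ := hγ
    exact IsLocalization.flat C₂ (Submonoid.powers (g * c * φ b₀))
  have hlist : (wl ++ List.ofFn t).map γ = wl.map γ ++ List.ofFn (fun j => γ (t j)) := by
    rw [List.map_append, List.map_ofFn]
    rfl
  have hgen₂ : RingHom.ker θ₂ = Ideal.ofList (wl.map γ ++ List.ofFn (fun j => γ (t j))) := by
    rw [hker₂, ← hlist, ← Ideal.map_ofList]
    apply le_antisymm
    · rw [Ideal.map_le_iff_le_comap]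
      intro x hx
      rw [Ideal.mem_comap]
      have h1 := Ideal.mem_map_of_mem γ (hgen x hx)
      rw [map_mul] at h1
      have h2 : γ x = ↑hcu.unit⁻¹ * (γ c * γ x) := by
        rw [← mul_assoc]
        have : ↑hcu.unit⁻¹ * γ c = 1 := by
          rw [Units.inv_mul_eq_one]; rfl
        rw [this, one_mul]
      rw [h2]
      exact Ideal.mul_mem_left _ _ h1
    · apply Ideal.map_mono
      rw [Ideal.ofList, Ideal.span_le]
      intro x hx
      rcases List.mem_append.mp hx with hx | hx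
      · exact hwlJ x hx
      · obtain ⟨j, rfl⟩ := (List.mem_ofFn' t x).mp hx
        exact htJ j
  have hKR₂ : LCI.IsKoszulRegularSeq C₂ (wl.map γ ++ List.ofFn (fun j => γ (t j))) := by
    refine KzGen.isKoszulRegularSeq_of_same_length _ (rs.map γ)
      (Groth.Agent.Lib.H9RegImmFlatBC.isKoszulRegularSeq_map γ hflat rs hrs) ?_ ?_
    · simp only [List.length_append, List.length_map, List.length_ofFn]
      exact hlen
    · rw [← hgen₂, hker₂, ← Ideal.map_ofList]
      congr 1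
  have htJ₂ : ∀ j, γ (t j) ∈ RingHom.ker θ₂ := by
    intro j
    rw [hker₂]
    exact Ideal.mem_map_of_mem γ (htJ j)
  obtain ⟨b, l, h1, h2, h3, h4, h5⟩ := descend_of_coords B₂ C₂ D₂ φ₂ θ₂ hθ₂ hπ₂ n
    (fun j => γ (t j)) htJ₂ hEt₂ ht₂ (wl.map γ) hgen₂ hKR₂
  exact ⟨b, l, h1, h3, h4, h5⟩

end Groth.Agent.Lib.R2H3.KzRingMain
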