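import Groth.Agent.Lib.H9RegSm
import Groth.Prelude.Def_Mor2

/-! Cancellation of regular closed immersions along a smooth morphism (helper9): if `X ⟶ S` is smooth and `Y ⟶ S`, `Y ⟶ X` are closed immersions with the first regular, so is the second (ring_quot / ring_cancel: lift etale coordinates of the section of the base change `B/(as)B` over `A/(as)`). -/

set_option autoImplicit false
set_option linter.style.haveILetI false
set_option linter.unusedSimpArgs false
set_option linter.unusedVariables false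
universe u

namespace Groth.Agent.Lib.H9RegCancel

-- ===== part RC1 =====
section

open RingTheory.Sequence


/-- a weakly regular sequence followed by a sequence weakly regular on the quotient ring -/
lemma isWeaklyRegular_append_of_quot {D : Type*} [CommRing D] (rs₁ rs₂ : List D)
    (h1 : IsWeaklyRegular D rs₁)
    (h2 : IsWeaklyRegular (D ⧸ Ideal.ofList rs₁)
      (rs₂.map (Ideal.Quotient.mk (Ideal.ofList rs₁)))) :
    IsWeaklyRegular D (rs₁ ++ rs₂) := by
  rw [isWeaklyRegular_append_iff']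
  refine ⟨h1, ?_⟩
  have hI : (Ideal.ofList rs₁ • ⊤ : Submodule D D) = Ideal.ofList rs₁ := by
    rw [smul_eq_mul, Ideal.mul_top]
  let e : (D ⧸ (Ideal.ofList rs₁ • ⊤ : Submodule D D)) ≃+ (D ⧸ Ideal.ofList rs₁) :=
    (Submodule.quotEquivOfEq _ _ hI).toAddEquiv
  refine (e.isWeaklyRegular_congr (R := D ⧸ Ideal.ofList rs₁) (S := D ⧸ Ideal.ofList rs₁)
    (as := rs₂.map (Ideal.Quotient.mk (Ideal.ofList rs₁)))
    (bs := rs₂.map (Ideal.Quotient.mk (Ideal.ofList rs₁))) ?_).mpr h2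
  refine List.forall₂_same.mpr fun r _ x => ?_
  obtain ⟨r, rfl⟩ := Ideal.Quotient.mk_surjective r
  obtain ⟨x, rfl⟩ := Submodule.Quotient.mk_surjective _ x
  rfl

lemma isWeaklyRegular_append_of_quot' {D : Type*} [CommRing D] (rs₁ rs₂ : List D)
    (J : Ideal D) (hJ : J = Ideal.ofList rs₁)
    (h1 : IsWeaklyRegular D rs₁)
    (h2 : IsWeaklyRegular (D ⧸ J) (rs₂.map (Ideal.Quotient.mk J))) :
    IsWeaklyRegular D (rs₁ ++ rs₂) := by
  subst hJ
  exact isWeaklyRegular_append_of_quot rs₁ rs₂ h1 h2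

end

-- ===== part RC2 =====
section

open RingTheory.Sequence
open Groth.Agent.Lib.H9ClChart Groth.Agent.Lib.H9RegSm


theorem ring_quot (A B : Type u) [CommRing A] [CommRing B] (φ : A →+* B) (K : Ideal A)
    (θ : B →+* A ⧸ K) (hθ : Function.Surjective θ) (hcomp : θ.comp φ = Ideal.Quotient.mk K)
    (hsm : φ.Smooth) (Q' : Ideal (A ⧸ K)) [Q'.IsPrime]
    (as : List A) (has : IsWeaklyRegular A as) (hK : K = Ideal.ofList as) :
    ∃ (f : B) (_ : f ∉ Q'.comap θ) (rs : List B),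
      ∀ (D : Type u) [CommRing D] (ψ : B →+* D),
        (letI := ψ.toAlgebra; IsLocalization.Away f D) →
        IsWeaklyRegular D (rs.map ψ) ∧ (RingHom.ker θ).map ψ = Ideal.ofList (rs.map ψ) := by
  letI := φ.toAlgebra
  haveI : Algebra.Smooth A B := hsm
  obtain ⟨I, hI⟩ : ∃ I : Ideal B, I = K.map (algebraMap A B) := ⟨_, rfl⟩
  have hIφ : I = K.map φ := hI
  -- the base change to `A ⧸ K`
  haveI : Algebra.Smooth (A ⧸ K) (B ⧸ K.map (algebraMap A B)) :=
    Algebra.Smooth.of_equiv (Algebra.TensorProduct.quotIdealMapEquivQuotTensor B K).symm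
  have hsmb0 : (algebraMap (A ⧸ K) (B ⧸ K.map (algebraMap A B))).Smooth :=
    RingHom.smooth_algebraMap.mpr inferInstance
  have hφb0 : ∀ a, algebraMap (A ⧸ K) (B ⧸ K.map (algebraMap A B)) (Ideal.Quotient.mk K a) =
      Ideal.Quotient.mk _ (φ a) := fun a => rfl
  obtain ⟨φb, hφb, hsmb⟩ : ∃ φb : A ⧸ K →+* B ⧸ I,
      (∀ a, φb (Ideal.Quotient.mk K a) = Ideal.Quotient.mk I (φ a)) ∧ φb.Smooth := by
    subst hI
    exact ⟨_, hφb0, hsmb0⟩
  -- `θ` kills `I`
  have hIker : I ≤ RingHom.ker θ := by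
    rw [hIφ, Ideal.map_le_iff_le_comap]
    intro a ha
    rw [Ideal.mem_comap, RingHom.mem_ker, ← RingHom.comp_apply, hcomp]
    exact Ideal.Quotient.eq_zero_iff_mem.mpr ha
  let θb : B ⧸ I →+* A ⧸ K := Ideal.Quotient.lift I θ (fun b hb => hIker hb)
  have hθb : ∀ b, θb (Ideal.Quotient.mk I b) = θ b := fun b => rfl
  have hθbs : Function.Surjective θb := fun c => by
    obtain ⟨b, rfl⟩ := hθ c
    exact ⟨Ideal.Quotient.mk I b, rfl⟩
  have hid : θb.comp φb = RingHom.id _ := by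
    apply Ideal.Quotient.ringHom_ext
    ext a
    rw [RingHom.comp_apply, RingHom.comp_apply, hφb, hθb, ← RingHom.comp_apply, hcomp]
    rfl
  have hfpB := hsmb.finitePresentation
  have hfpC : (θb.comp φb).FinitePresentation := by
    rw [hid]; exact RingHom.FinitePresentation.id _
  obtain ⟨fb, hfb, n, m, gb, wb, hgb, H⟩ := ring_main2 (A ⧸ K) (B ⧸ I) (A ⧸ K) φb θb hθbs
    hfpB hfpC Q'
    (by
      algebraize [φb]
      infer_instance)
    (by
      rw [hid]
      exact Algebra.FormallySmooth.of_isLocalization Q'.primeCompl)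
  obtain ⟨f, rfl⟩ := Ideal.Quotient.mk_surjective fb
  choose g hg using fun j => Ideal.Quotient.mk_surjective (gb j)
  have hfQ : f ∉ Q'.comap θ := by
    intro hf
    apply hfb
    rw [Ideal.mem_comap] at hf ⊢
    rwa [hθb]
  have hgker : ∀ j, g j ∈ RingHom.ker θ := fun j => by
    rw [RingHom.mem_ker, ← hθb, hg, hgb]
  refine ⟨f, hfQ, as.map φ ++ List.ofFn g, ?_⟩
  intro D _ ψ hloc
  letI := ψ.toAlgebra
  haveI : IsLocalization.Away f D := hloc
  obtain ⟨ID, hID⟩ : ∃ ID : Ideal D, ID = I.map ψ := ⟨_, rfl⟩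
  have hIDlist : ID = Ideal.ofList ((as.map φ).map ψ) := by
    rw [hID, hIφ, hK, Ideal.map_ofList, Ideal.map_ofList]
  let ψb : B ⧸ I →+* D ⧸ ID := Ideal.quotientMap ID ψ (hID ▸ Ideal.le_comap_map)
  have hψb : ∀ b, ψb (Ideal.Quotient.mk I b) = Ideal.Quotient.mk ID (ψ b) := fun b => rfl
  have hlocb : letI := ψb.toAlgebra; IsLocalization.Away (Ideal.Quotient.mk I f) (D ⧸ ID) := by
    letI := ψb.toAlgebra
    have := IsLocalization.of_surjective (Submonoid.powers f) D (Ideal.Quotient.mk I)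
      Ideal.Quotient.mk_surjective (Ideal.Quotient.mk ID) Ideal.Quotient.mk_surjective
      (by rfl) (by rw [Ideal.mk_ker, Ideal.mk_ker, hID]; rfl)
    rwa [Submonoid.map_powers] at this
  obtain ⟨hEt, hker⟩ := H (D ⧸ ID) ψb hlocb
  have hwr2 : IsWeaklyRegular (D ⧸ ID) (List.ofFn fun j : Fin n => ψb (gb j)) := by
    have h1 := weaklyRegular_of_etale_coords (A ⧸ K) (D ⧸ ID) (ULift.{u} (Fin m ⊕ Fin n))
      (ψb.comp φb) (fun j => ψb (Sum.elim wb gb j.down)) hEt
      (List.ofFn (fun j : Fin n => ULift.up (Sum.inr j)))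
      (List.nodup_ofFn.mpr (fun a b hab => by simpa using hab))
    rw [List.map_ofFn] at h1
    exact h1
  -- flatness
  letI : Algebra A D := (ψ.comp φ).toAlgebra
  haveI : IsScalarTower A B D := IsScalarTower.of_algebraMap_eq (fun _ => rfl)
  haveI : Module.Flat B D := IsLocalization.flat D (Submonoid.powers f)
  haveI : Module.Flat A D := Module.Flat.trans A B D
  have hwr1 : IsWeaklyRegular D ((as.map φ).map ψ) := by
    have := has.of_flat (S := D)
    rwa [show (algebraMap A D : A → D) = ψ ∘ φ from rfl, ← List.map_map] at this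
  refine ⟨?_, ?_⟩
  · rw [List.map_append]
    refine isWeaklyRegular_append_of_quot' _ _ ID hIDlist hwr1 ?_
    rw [List.map_ofFn, List.map_ofFn]
    have : (fun j : Fin n => ψb (gb j)) = (⇑(Ideal.Quotient.mk ID) ∘ ⇑ψ ∘ g) := by
      funext j
      rw [← hg j, hψb]
      rfl
    rw [← this]
    exact hwr2
  · rw [List.map_append, Ideal.ofList_append, ← hIDlist]
    have hspan : Ideal.ofList ((List.ofFn g).map ψ) = Ideal.span (Set.range fun j => ψ (g j)) := by
      simp only [Ideal.ofList]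
      congr 1
      ext x
      simp [List.mem_ofFn]
    rw [hspan]
    apply le_antisymm
    · rw [Ideal.map_le_iff_le_comap]
      intro b hb
      rw [Ideal.mem_comap]
      have h1 : Ideal.Quotient.mk I b ∈ RingHom.ker θb := by
        rw [RingHom.mem_ker, hθb]
        exact hb
      have h2 : ψb (Ideal.Quotient.mk I b) ∈ (RingHom.ker θb).map ψb := Ideal.mem_map_of_mem _ h1
      rw [hker, hψb] at h2
      have h3 : Ideal.span (Set.range fun j => ψb (gb j)) =
          (Ideal.span (Set.range fun j => ψ (g j))).map (Ideal.Quotient.mk ID) := by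
        rw [Ideal.map_span, ← Set.range_comp]
        congr 2
        funext j
        rw [← hg j, hψb]
        rfl
      rw [h3] at h2
      have h4 := Ideal.mem_comap.mpr h2
      rw [Ideal.comap_map_of_surjective _ Ideal.Quotient.mk_surjective,
        ← RingHom.ker_eq_comap_bot, Ideal.mk_ker] at h4
      rw [sup_comm]
      exact h4
    · refine sup_le ?_ ?_
      · rw [hID]
        exact Ideal.map_mono hIker
      · rw [Ideal.span_le]
        rintro _ ⟨j, rfl⟩
        exact Ideal.mem_map_of_mem _ (hgker j)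

end

-- ===== part RC3 =====
section

open RingTheory.Sequence


theorem ring_cancel (A B C : Type u) [CommRing A] [CommRing B] [CommRing C] (φ : A →+* B)
    (π : A →+* C) (θ : B →+* C) (hπ : Function.Surjective π) (hθ : Function.Surjective θ)
    (hcomp : θ.comp φ = π) (hsm : φ.Smooth) (Q' : Ideal C) [Q'.IsPrime]
    (as : List A) (has : IsWeaklyRegular A as) (hK : RingHom.ker π = Ideal.ofList as) :
    ∃ (f : B) (_ : f ∉ Q'.comap θ) (rs : List B),
      ∀ (D : Type u) [CommRing D] (ψ : B →+* D),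
        (letI := ψ.toAlgebra; IsLocalization.Away f D) →
        IsWeaklyRegular D (rs.map ψ) ∧ (RingHom.ker θ).map ψ = Ideal.ofList (rs.map ψ) := by
  let e : A ⧸ RingHom.ker π ≃+* C := RingHom.quotientKerEquivOfSurjective hπ
  have he : ∀ a, e (Ideal.Quotient.mk _ a) = π a := fun a => rfl
  let θ' : B →+* A ⧸ RingHom.ker π := e.symm.toRingHom.comp θ
  have hθ' : Function.Surjective θ' := e.symm.surjective.comp hθ
  have hcomp' : θ'.comp φ = Ideal.Quotient.mk (RingHom.ker π) := by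
    ext a
    change e.symm (θ (φ a)) = _
    rw [RingEquiv.symm_apply_eq, he, ← hcomp]
    rfl
  haveI : (Q'.comap e.toRingHom).IsPrime := Ideal.comap_isPrime _ _
  obtain ⟨f, hf, rs, H⟩ := ring_quot A B φ (RingHom.ker π) θ' hθ' hcomp' hsm
    (Q'.comap e.toRingHom) as has hK
  have hker : RingHom.ker θ' = RingHom.ker θ := by
    ext b
    simp only [RingHom.mem_ker]
    change e.symm (θ b) = 0 ↔ _
    exact EmbeddingLike.map_eq_zero_iff
  refine ⟨f, ?_, rs, ?_⟩
  · intro hf'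
    apply hf
    rw [Ideal.mem_comap] at hf' ⊢
    rw [Ideal.mem_comap]
    change e (e.symm (θ f)) ∈ Q'
    rwa [RingEquiv.apply_symm_apply]
  · intro D _ ψ hloc
    have := H D ψ hloc
    rwa [hker] at this

end

-- ===== part RC4 =====
section

open RingTheory.Sequence
open AlgebraicGeometry CategoryTheory CategoryTheory.Limits
open Groth.Agent.Lib.H9SecChart Groth.Agent.Lib.H9ClChart

variable {X Y S : Scheme.{u}}

/-- restriction between equal opens is bijective -/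
lemma bijective_map_of_eq (F : Y.Opens) (G : Y.Opens) (e : F = G) (le : F ≤ G) :
    Function.Bijective (Y.presheaf.map (homOfLE le).op).hom := by
  subst e
  have : Y.presheaf.map (homOfLE le).op = 𝟙 _ := by
    rw [show homOfLE le = 𝟙 F from Subsingleton.elim _ _, op_id, Y.presheaf.map_id]
  rw [this]
  exact Function.bijective_id

theorem main (p : X ⟶ S) [Smooth p] (i : Y ⟶ X) (j : Y ⟶ S)
    [IsClosedImmersion i] [IsClosedImmersion j] (h : i ≫ p = j)
    (hj : Mor2.IsRegularClosedImmersion j) :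
    Mor2.IsRegularClosedImmersion i := by
  refine ⟨inferInstance, fun y => ?_⟩
  obtain ⟨S₁, hS₁, hyS₁, as₁, has₁, hker₁⟩ := hj.2 y
  have hpiy : p (i y) = j y := by rw [← Scheme.Hom.comp_apply, h]
  obtain ⟨_, ⟨X₁, hX₁, rfl⟩, hxX₁, hX₁'⟩ :=
    X.isBasis_affineOpens.exists_subset_of_mem_open
      (show i y ∈ p ⁻¹ᵁ S₁ from (by
        change p (i y) ∈ S₁
        rw [hpiy]; exact hyS₁)) (p ⁻¹ᵁ S₁).2
  have hXS₁ : X₁ ≤ p ⁻¹ᵁ S₁ := hX₁'
  -- an open of `S` cutting out `i ⁻¹ X₁`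
  have hemb : Topology.IsClosedEmbedding j := j.isClosedEmbedding
  obtain ⟨O, hO, hOj⟩ : ∃ O : Set S, IsOpen O ∧ j ⁻¹' O = i ⁻¹' X₁ :=
    hemb.isInducing.isOpen_iff.mp ((i ⁻¹ᵁ X₁).2)
  have hyO : j y ∈ O := by
    have : y ∈ j ⁻¹' O := by rw [hOj]; exact hxX₁
    exact this
  obtain ⟨α, hαO, hyα⟩ := hS₁.exists_basicOpen_le (V := ⟨O, hO⟩) ⟨j y, hyO⟩ hyS₁
  replace hyα : j y ∈ S.basicOpen α := hyα
  obtain ⟨S₀, hS₀def⟩ : ∃ S₀ : S.Opens, S₀ = S.basicOpen α := ⟨_, rfl⟩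
  have hS₀ : IsAffineOpen S₀ := hS₀def ▸ hS₁.basicOpen α
  have hS₀₁ : S₀ ≤ S₁ := hS₀def ▸ S.basicOpen_le α
  obtain ⟨X₀, hX₀def⟩ : ∃ X₀ : X.Opens, X₀ = X.basicOpen ((p.appLE S₁ X₁ hXS₁).hom α) := ⟨_, rfl⟩
  have hX₀ : IsAffineOpen X₀ := hX₀def ▸ hX₁.basicOpen _
  have hX₀₁ : X₀ ≤ X₁ := hX₀def ▸ X.basicOpen_le _
  have hX₀eq : X₀ = X₁ ⊓ p ⁻¹ᵁ S₀ := by
    rw [hX₀def, hS₀def, Scheme.Hom.appLE, CommRingCat.hom_comp, RingHom.comp_apply]
    erw [Scheme.basicOpen_res]
    rw [Scheme.preimage_basicOpen]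
  have hXS₀ : X₀ ≤ p ⁻¹ᵁ S₀ := hX₀eq ▸ inf_le_right
  have hjS₀ : j ⁻¹ᵁ S₀ ≤ i ⁻¹ᵁ X₁ := by
    intro t ht
    have h1 : j t ∈ O := hαO (hS₀def ▸ ht)
    have h2 : t ∈ j ⁻¹' O := h1
    rw [hOj] at h2
    exact h2
  have hYeq : j ⁻¹ᵁ S₀ = i ⁻¹ᵁ X₀ := by
    rw [hX₀eq]
    ext t
    constructor
    · intro ht
      refine ⟨hjS₀ ht, ?_⟩
      change p (i t) ∈ S₀
      rw [← Scheme.Hom.comp_apply, h]
      exact ht
    · rintro ⟨-, ht⟩
      change p (i t) ∈ S₀ at ht
      rw [← Scheme.Hom.comp_apply, h] at ht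
      exact ht
  have hyY₀ : y ∈ j ⁻¹ᵁ S₀ := hS₀def ▸ hyα
  have hY₀ : IsAffineOpen (j ⁻¹ᵁ S₀) := hS₀.preimage j
  -- ring data
  have hYle : j ⁻¹ᵁ S₀ ≤ i ⁻¹ᵁ X₀ := hYeq.le
  have hπ : Function.Surjective (j.app S₀).hom := j.app_surjective S₀ hS₀
  have hθ₀ : Function.Surjective (i.app X₀).hom := i.app_surjective X₀ hX₀
  have hres := bijective_map_of_eq (j ⁻¹ᵁ S₀) (i ⁻¹ᵁ X₀) hYeq hYle
  have hθ : Function.Surjective (i.appLE X₀ (j ⁻¹ᵁ S₀) hYle).hom := by
    rw [Scheme.Hom.appLE, CommRingCat.hom_comp]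
    exact hres.surjective.comp hθ₀
  have hcomp : (i.appLE X₀ (j ⁻¹ᵁ S₀) hYle).hom.comp (p.appLE S₀ X₀ hXS₀).hom =
      (j.app S₀).hom := by
    rw [← CommRingCat.hom_comp, Scheme.Hom.appLE_comp_appLE]
    subst h
    rw [Scheme.Hom.appLE_eq_app]
  have hsm := p.smooth_appLE hS₀ hX₀ hXS₀
  -- the regular sequence on `S₀`
  haveI hlocS : IsLocalization.Away α Γ(S, S.basicOpen α) := hS₁.isLocalization_basicOpen α
  subst hS₀def
  haveI : Module.Flat Γ(S, S₁) Γ(S, S.basicOpen α) := IsLocalization.flat _ (Submonoid.powers α)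
  have has : IsWeaklyRegular Γ(S, S.basicOpen α)
      (as₁.map (algebraMap Γ(S, S₁) Γ(S, S.basicOpen α))) := has₁.1.of_flat
  have hK : RingHom.ker (j.app (S.basicOpen α)).hom =
      Ideal.ofList (as₁.map (algebraMap Γ(S, S₁) Γ(S, S.basicOpen α))) := by
    have h1 := j.ker.map_ideal_basicOpen ⟨S₁, hS₁⟩ α
    rw [hker₁, Ideal.map_ofList] at h1
    rw [show (algebraMap Γ(S, S₁) Γ(S, S.basicOpen α) : Γ(S, S₁) → Γ(S, S.basicOpen α)) =
      (S.presheaf.map (homOfLE (S.basicOpen_le α)).op).hom from rfl, h1]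
    rw [Scheme.Hom.ker_apply]
    rfl
  obtain ⟨f, hf, rs, H⟩ := ring_cancel Γ(S, S.basicOpen α) Γ(X, X₀) Γ(Y, j ⁻¹ᵁ S.basicOpen α)
    (p.appLE (S.basicOpen α) X₀ hXS₀).hom (j.app (S.basicOpen α)).hom
    (i.appLE X₀ (j ⁻¹ᵁ S.basicOpen α) hYle).hom hπ hθ hcomp hsm
    (hY₀.primeIdealOf ⟨y, hyY₀⟩).asIdeal _ has hK
  -- the open neighbourhood
  set U : X.Opens := X.basicOpen f with hUdef
  have hUX₀ : U ≤ X₀ := X.basicOpen_le f
  have hU : IsAffineOpen U := hX₀.basicOpen f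
  have hyU : i y ∈ U := by
    have h1 : y ∈ Y.basicOpen ((i.appLE X₀ (j ⁻¹ᵁ S.basicOpen α) hYle).hom f) :=
      mem_basicOpen_of_notMem_primeIdealOf hY₀ y hyY₀ _ hf
    rw [Scheme.Hom.appLE, CommRingCat.hom_comp, RingHom.comp_apply] at h1
    erw [Scheme.basicOpen_res] at h1
    have h2 : i ⁻¹ᵁ X.basicOpen f = Y.basicOpen ((i.app X₀).hom f) := Scheme.preimage_basicOpen i f
    have h3 := h1.2
    rw [← h2] at h3
    exact h3
  set ψ : Γ(X, X₀) →+* Γ(X, U) := (X.presheaf.map (homOfLE hUX₀).op).hom with hψ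
  have hloc : (letI := ψ.toAlgebra; IsLocalization.Away f Γ(X, U)) :=
    hX₀.isLocalization_of_eq_basicOpen f (homOfLE hUX₀) rfl
  obtain ⟨hwr, hkerθ⟩ := H Γ(X, U) ψ hloc
  have hkerθ₀ : RingHom.ker (i.appLE X₀ (j ⁻¹ᵁ S.basicOpen α) hYle).hom =
      RingHom.ker (i.app X₀).hom := by
    ext b
    simp only [RingHom.mem_ker]
    rw [Scheme.Hom.appLE, CommRingCat.hom_comp, RingHom.comp_apply]
    exact (injective_iff_map_eq_zero' _).mp hres.injective _
  have hkerU : RingHom.ker (i.app U).hom = Ideal.ofList (rs.map ψ) := by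
    rw [ker_app_basicOpen i X₀ hX₀ f, ← hkerθ₀, hkerθ]
  refine ⟨U, hU, hyU, rs.map ψ, ⟨hwr, ?_⟩, ?_⟩
  · intro htop
    rw [smul_eq_mul, Ideal.mul_top, ← hkerU] at htop
    have h1 : (1 : Γ(X, U)) ∈ RingHom.ker (i.app U).hom := htop ▸ Submodule.mem_top
    rw [RingHom.mem_ker, map_one] at h1
    have h2 := congrArg (Y.presheaf.germ (i ⁻¹ᵁ U) y hyU).hom h1
    rw [map_one, map_zero] at h2
    exact one_ne_zero h2
  · rw [Scheme.Hom.ker_apply]
    exact hkerU

end

end Groth.Agent.Lib.H9RegCancel
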