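import Mathlib
import Groth.Prelude.Def_RegImm
import Groth.Agent.Lib.H9RegCancel
import Groth.Agent.Lib.H9RegImmFlatBC
import Groth.Agent.Lib.H9KoszulComp
import Groth.Agent.S15821

/-!
# A section of a smooth morphism is a regular (and Koszul-regular) immersion (helper3)

* `section_at`: around every point, a section `i` of a smooth morphism `f` is, on a suitable affine
  open `W` of the source of `f`, a closed immersion cut out by a weakly regular sequence.
* `isRegularImmersion_section`: kinds `regular` and `koszul`.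
* `isRegularImmersion_graph`-type corollaries live in the statement files.
-/

set_option autoImplicit false
set_option linter.style.haveILetI false
set_option linter.unusedVariables false
set_option linter.unusedSectionVars false
universe u

namespace Groth.Agent.Lib.R2H3.KzSection

open AlgebraicGeometry CategoryTheory CategoryTheory.Limits RingTheory.Sequence
open Groth.Agent.Lib.H9SecChart Groth.Agent.Lib.H9ClChart

variable {X Y : Scheme.{u}}

lemma id_appLE_eq (V W : X.Opens) (e : W ≤ (𝟙 X : X ⟶ X) ⁻¹ᵁ V) :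
    ((𝟙 X : X ⟶ X).appLE V W e) = X.presheaf.map (homOfLE (show W ≤ V from e)).op := by
  simp only [Scheme.Hom.appLE, Scheme.Hom.id_app]
  rfl

/-- local structure of a section of a smooth morphism. -/
theorem section_at (f : X ⟶ Y) [Smooth f] (i : Y ⟶ X) (hi : i ≫ f = 𝟙 Y) (y : Y) :
    ∃ W : X.affineOpens, i y ∈ W.1 ∧ IsClosedImmersion (i ∣_ W.1) ∧
      ∃ rs : List Γ(X, W.1), IsWeaklyRegular Γ(X, W.1) rs ∧
        RingHom.ker (i.app W.1).hom = Ideal.ofList rs := by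
  obtain ⟨U₁, V₁, hU₁, hV₁, hyU₁, hUV₁, hVU₁⟩ := exists_affine_pair f i hi y
  -- `i ⁻¹ V₁ = U₁`
  have hpre : i ⁻¹ᵁ V₁ = U₁ := by
    apply le_antisymm
    · intro t ht
      have h1 : i t ∈ f ⁻¹ᵁ U₁ := hVU₁ ht
      have h2 : f (i t) = t := by rw [← Scheme.Hom.comp_apply, hi]; rfl
      change f (i t) ∈ U₁ at h1
      rwa [h2] at h1
    · exact hUV₁
  have hsm := f.smooth_appLE hU₁ hV₁ hVU₁
  have hsec : ∀ r, (i.appLE V₁ U₁ hUV₁).hom ((f.appLE U₁ V₁ hVU₁).hom r) = r :=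
    section_appLE f i hi U₁ V₁ hUV₁ hVU₁
  have hθ : Function.Surjective (i.appLE V₁ U₁ hUV₁).hom := fun r => ⟨_, hsec r⟩
  obtain ⟨g, hg, rs, H⟩ := Groth.Agent.Lib.H9RegCancel.ring_cancel Γ(Y, U₁) Γ(X, V₁) Γ(Y, U₁)
    (f.appLE U₁ V₁ hVU₁).hom (RingHom.id _) (i.appLE V₁ U₁ hUV₁).hom
    Function.surjective_id hθ (by ext r; exact hsec r) hsm
    (hU₁.primeIdealOf ⟨y, hyU₁⟩).asIdeal [] (IsWeaklyRegular.nil _ _)
    (by
      rw [Ideal.ofList_nil]
      exact (RingHom.injective_iff_ker_eq_bot _).mp Function.injective_id)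
  -- closed immersion over `V₁`
  haveI : IsAffine V₁.toScheme := hV₁
  have hU₁' : IsAffineOpen (i ⁻¹ᵁ V₁) := hpre ▸ hU₁
  haveI : IsAffine (i ⁻¹ᵁ V₁).toScheme := hU₁'
  have hres := Groth.Agent.Lib.H9RegCancel.bijective_map_of_eq U₁ (i ⁻¹ᵁ V₁) hpre.symm hUV₁
  have happ : Function.Surjective (i.app V₁).hom := by
    intro z
    obtain ⟨w, hw⟩ := hθ ((Y.presheaf.map (homOfLE hUV₁).op).hom z)
    refine ⟨w, hres.1 ?_⟩
    rw [← hw]
    rfl
  have hclV : IsClosedImmersion (i ∣_ V₁) := by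
    apply IsClosedImmersion.of_surjective_of_isAffine
    rw [← Scheme.Hom.resLE_eq_morphismRestrict]
    show Function.Surjective ((i.resLE V₁ (i ⁻¹ᵁ V₁) le_rfl).app ⊤)
    rw [Scheme.Hom.resLE_app_top]
    have e1 := ConcreteCategory.bijective_of_isIso (i ⁻¹ᵁ V₁).topIso.inv
    have e2 := ConcreteCategory.bijective_of_isIso V₁.topIso.hom
    have h3 : Function.Surjective (i.appLE V₁ (i ⁻¹ᵁ V₁) le_rfl).hom := by
      rw [Scheme.Hom.appLE_eq_app]
      exact happ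
    exact e1.2.comp (h3.comp e2.2)
  have hker : RingHom.ker (i.app V₁).hom = RingHom.ker (i.appLE V₁ U₁ hUV₁).hom := by
    ext z
    rw [RingHom.mem_ker, RingHom.mem_ker]
    change _ ↔ (Y.presheaf.map (homOfLE hUV₁).op).hom ((i.app V₁).hom z) = 0
    rw [map_eq_zero_iff _ hres.1]
  -- the basic open
  have hWV : X.basicOpen g ≤ V₁ := X.basicOpen_le g
  have hW : IsAffineOpen (X.basicOpen g) := hV₁.basicOpen g
  have hsq : IsPullback (𝟙 Y) i i (𝟙 X) := IsPullback.of_horiz_isIso ⟨by simp⟩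
  have hWV' : X.basicOpen g ≤ (𝟙 X : X ⟶ X) ⁻¹ᵁ V₁ := hWV
  obtain ⟨h1, h2⟩ := Groth.Agent.Lib.H9RegImmFlatBC.isClosedImmersion_and_ker i (𝟙 X) i (𝟙 Y) hsq
    V₁ hV₁ hclV (X.basicOpen g) hW hWV'
  set ψ : Γ(X, V₁) →+* Γ(X, X.basicOpen g) := (X.presheaf.map (homOfLE hWV).op).hom with hψ
  have hloc : (letI := ψ.toAlgebra; IsLocalization.Away g Γ(X, X.basicOpen g)) :=
    hV₁.isLocalization_of_eq_basicOpen g (homOfLE hWV) rfl
  obtain ⟨hreg, hkerψ⟩ := H Γ(X, X.basicOpen g) ψ hloc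
  refine ⟨⟨X.basicOpen g, hW⟩, ?_, h1, rs.map ψ, hreg, ?_⟩
  · -- `i y ∈ D(g)`
    have h3 : y ∈ Y.basicOpen ((i.appLE V₁ U₁ hUV₁).hom g) :=
      mem_basicOpen_of_notMem_primeIdealOf hU₁ y hyU₁ _ hg
    have h4 : Y.basicOpen ((i.appLE V₁ U₁ hUV₁).hom g) = U₁ ⊓ Y.basicOpen ((i.app V₁).hom g) := by
      rw [Scheme.Hom.appLE]
      exact Y.basicOpen_res _ _
    rw [h4] at h3
    have h5 : i ⁻¹ᵁ X.basicOpen g = Y.basicOpen ((i.app V₁).hom g) := Scheme.preimage_basicOpen i g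
    have h6 : y ∈ i ⁻¹ᵁ X.basicOpen g := h5 ▸ h3.2
    exact h6
  · rw [h2, hker, ← hkerψ, id_appLE_eq]

theorem isImmersion_section (f : X ⟶ Y) (i : Y ⟶ X) (hi : i ≫ f = 𝟙 Y) : IsImmersion i := by
  haveI : IsImmersion (i ≫ f) := hi ▸ inferInstance
  exact IsImmersion.of_comp i f

/-- A section of a smooth morphism is a regular immersion. -/
theorem isRegularImmersion_section_regular (f : X ⟶ Y) [Smooth f] (i : Y ⟶ X) (hi : i ≫ f = 𝟙 Y) :
    RegImm.IsRegularImmersion .regular i := by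
  refine ⟨isImmersion_section f i hi, fun y => ?_⟩
  obtain ⟨W, hyW, hcl, rs, hreg, hker⟩ := section_at f i hi y
  refine ⟨W, hyW, hcl, rs, ⟨hreg, ?_⟩, hker⟩
  intro htop
  rw [smul_eq_mul, Ideal.mul_top, ← hker] at htop
  have h1 : (1 : Γ(X, W.1)) ∈ RingHom.ker (i.app W.1).hom := htop ▸ Submodule.mem_top
  rw [RingHom.mem_ker, map_one] at h1
  have h2 := congrArg (Y.presheaf.germ (i ⁻¹ᵁ W.1) y hyW).hom h1
  rw [map_one, map_zero] at h2
  exact one_ne_zero h2

/-- A section of a smooth morphism is a Koszul-regular immersion. -/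
theorem isRegularImmersion_section_koszul (f : X ⟶ Y) [Smooth f] (i : Y ⟶ X) (hi : i ≫ f = 𝟙 Y) :
    RegImm.IsRegularImmersion .koszul i := by
  refine ⟨isImmersion_section f i hi, fun y => ?_⟩
  obtain ⟨W, hyW, hcl, rs, hreg, hker⟩ := section_at f i hi y
  exact ⟨W, hyW, hcl, rs, (Groth.Agent.S15821.result _ rs hreg).1, hker⟩

end Groth.Agent.Lib.R2H3.KzSection
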