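import Mathlib
import Groth.Prelude.Def_RegImm
import Groth.Agent.Lib.R2H3KzRingMain
import Groth.Agent.Lib.R2H3KzSection
import Groth.Agent.Lib.H9KoszulComp
import Groth.Agent.Lib.H9RegImmStalk
import Groth.Agent.Lib.Helper13RLf
import Groth.Agent.S8654

/-!
# Smooth cancellation for Koszul-regular immersions (helper3)

* `cancel_at`, `cancel`: if `j : X ⟶ V'` is a Koszul-regular immersion, `p : V' ⟶ V` is smooth and
  `j ≫ p` is an immersion, then `j ≫ p` is a Koszul-regular immersion.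
* `lift_koszul`: if `j ≫ p = i` with `p` smooth and `i` a Koszul-regular immersion then `j` is a
  Koszul-regular immersion (graph + flat base change + composition).
-/

set_option autoImplicit false
set_option linter.style.haveILetI false
set_option linter.unusedVariables false
set_option linter.unusedSectionVars false
universe u

namespace Groth.Agent.Lib.R2H3.KzCancel

open AlgebraicGeometry CategoryTheory CategoryTheory.Limits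

variable {X V V' : Scheme.{u}}

/-- `D(φ b) = U' ⊓ p⁻¹ D(b)`. -/
lemma basicOpen_appLE (p : V' ⟶ V) (V₀ : V.Opens) (U' : V'.Opens) (e : U' ≤ p ⁻¹ᵁ V₀)
    (b : Γ(V, V₀)) :
    V'.basicOpen ((p.appLE V₀ U' e).hom b) = U' ⊓ p ⁻¹ᵁ (V.basicOpen b) := by
  rw [Scheme.preimage_basicOpen p b]
  have : (p.appLE V₀ U' e).hom b = (V'.presheaf.map (homOfLE e).op).hom ((p.app V₀).hom b) := by
    rw [Scheme.Hom.appLE]
    rfl
  rw [this]
  exact V'.basicOpen_res _ _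

/-- the shrinking lemma. -/
theorem shrink (i : X ⟶ V) (j : X ⟶ V') (p : V' ⟶ V) (h : j ≫ p = i)
    (V₀ : V.Opens) (hV₀ : IsAffineOpen V₀) (hclV₀ : IsClosedImmersion (i ∣_ V₀))
    (U' : V'.Opens) (hU' : IsAffineOpen U') (hU'V₀ : U' ≤ p ⁻¹ᵁ V₀) (x : X)
    (g₁ : Γ(V', U')) (hxg : j x ∈ V'.basicOpen g₁) :
    ∃ b₀ : Γ(V, V₀), j x ∈ V'.basicOpen (g₁ * (p.appLE V₀ U' hU'V₀).hom b₀) ∧
      j ⁻¹ᵁ (V'.basicOpen (g₁ * (p.appLE V₀ U' hU'V₀).hom b₀)) = i ⁻¹ᵁ (V.basicOpen b₀) := by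
  haveI : IsAffine V₀.toScheme := hV₀
  haveI := hclV₀
  have hX₀ : IsAffineOpen (i ⁻¹ᵁ V₀) := isAffine_of_isAffineHom (i ∣_ V₀)
  have hsurj := Groth.Agent.Lib.H9RegImmStalk.app_surjective_of_restrict i V₀
  have hpj : ∀ y : X, p (j y) = i y := fun y => by rw [← Scheme.Hom.comp_apply, h]
  have hjU' : j ⁻¹ᵁ U' ≤ i ⁻¹ᵁ V₀ := by
    intro y hy
    have h1 : p (j y) ∈ V₀ := hU'V₀ hy
    rw [hpj] at h1
    exact h1
  have hxU' : j x ∈ U' := V'.basicOpen_le g₁ hxg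
  have hxX₀ : x ∈ i ⁻¹ᵁ V₀ := hjU' hxU'
  obtain ⟨d, hdle, hxd⟩ := hX₀.exists_basicOpen_le (V := j ⁻¹ᵁ (V'.basicOpen g₁)) ⟨x, hxg⟩ hxX₀
  obtain ⟨b₀, rfl⟩ := hsurj d
  have hF1 : i ⁻¹ᵁ V.basicOpen b₀ = X.basicOpen ((i.app V₀).hom b₀) :=
    Scheme.preimage_basicOpen i b₀
  have heq : j ⁻¹ᵁ (V'.basicOpen (g₁ * (p.appLE V₀ U' hU'V₀).hom b₀)) =
      i ⁻¹ᵁ (V.basicOpen b₀) := by
    apply le_antisymm
    · intro y hy
      have h1 : j y ∈ V'.basicOpen (g₁ * (p.appLE V₀ U' hU'V₀).hom b₀) := hy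
      rw [Scheme.basicOpen_mul, basicOpen_appLE] at h1
      have h2 : p (j y) ∈ V.basicOpen b₀ := h1.2.2
      rw [hpj] at h2
      exact h2
    · intro y hy
      have h1 : y ∈ X.basicOpen ((i.app V₀).hom b₀) := hF1 ▸ hy
      have h2 : j y ∈ V'.basicOpen g₁ := hdle h1
      have h3 : j y ∈ U' := V'.basicOpen_le g₁ h2
      have h4 : i y ∈ V.basicOpen b₀ := hy
      change j y ∈ V'.basicOpen (g₁ * (p.appLE V₀ U' hU'V₀).hom b₀)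
      rw [Scheme.basicOpen_mul, basicOpen_appLE]
      refine ⟨h2, h3, ?_⟩
      change p (j y) ∈ V.basicOpen b₀
      rw [hpj]
      exact h4
  refine ⟨b₀, ?_, heq⟩
  have : x ∈ j ⁻¹ᵁ (V'.basicOpen (g₁ * (p.appLE V₀ U' hU'V₀).hom b₀)) := by
    rw [heq, hF1]
    exact hxd
  exact this


/-- compatibility of the two surjections after shrinking. -/
lemma comp_eq (j : X ⟶ V') (p : V' ⟶ V) (V₂ : V.Opens) (U₂ : V'.Opens) (e : U₂ ≤ p ⁻¹ᵁ V₂)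
    (hle : j ⁻¹ᵁ U₂ ≤ (j ≫ p) ⁻¹ᵁ V₂) :
    (j.app U₂).hom.comp (p.appLE V₂ U₂ e).hom =
      (X.presheaf.map (homOfLE hle).op).hom.comp ((j ≫ p).app V₂).hom := by
  have h1 := Scheme.Hom.appLE_comp_appLE j p V₂ U₂ (j ⁻¹ᵁ U₂) e le_rfl
  rw [Scheme.Hom.appLE_eq_app] at h1
  have h2 : (j ≫ p).appLE V₂ (j ⁻¹ᵁ U₂) hle =
      (j ≫ p).app V₂ ≫ X.presheaf.map (homOfLE hle).op := rfl
  ext r
  have := congr($h1 r)
  rw [h2] at this
  simp only [CommRingCat.hom_comp, RingHom.comp_apply] at this ⊢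
  exact this

/-- Koszul-regular sequences transfer along ring isomorphisms. -/
lemma koszul_of_equiv {R S : Type u} [CommRing R] [CommRing S] (e : R ≃+* S) (l : List R)
    (h : LCI.IsKoszulRegularSeq R l) : LCI.IsKoszulRegularSeq S (l.map e) := by
  have hflat : (e : R →+* S).Flat := RingHom.Flat.of_bijective e.bijective
  exact Groth.Agent.Lib.H9RegImmFlatBC.isKoszulRegularSeq_map (e : R →+* S) hflat l h


lemma surj_pair (j : X ⟶ V') (p : V' ⟶ V) (V₂ : V.Opens) (hV₂ : IsAffineOpen V₂)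
    (hclV₂ : IsClosedImmersion ((j ≫ p) ∣_ V₂)) (U₂ : V'.Opens) (hU₂ : IsAffineOpen U₂)
    (hclU₂ : IsClosedImmersion (j ∣_ U₂)) (e : U₂ ≤ p ⁻¹ᵁ V₂)
    (hpre : j ⁻¹ᵁ U₂ = (j ≫ p) ⁻¹ᵁ V₂) :
    Function.Surjective (j.app U₂).hom ∧
      Function.Surjective ((j.app U₂).hom.comp (p.appLE V₂ U₂ e).hom) ∧
      RingHom.ker ((j.app U₂).hom.comp (p.appLE V₂ U₂ e).hom) =
        RingHom.ker ((j ≫ p).app V₂).hom ∧
      ∀ b, (j.app U₂).hom ((p.appLE V₂ U₂ e).hom b) = 1 → ((j ≫ p).app V₂).hom b = 1 := by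
  haveI : IsAffine V₂.toScheme := hV₂
  haveI : IsAffine U₂.toScheme := hU₂
  haveI := hclV₂
  haveI := hclU₂
  have h1 := Groth.Agent.Lib.H9RegImmStalk.app_surjective_of_restrict j U₂
  have h2 := Groth.Agent.Lib.H9RegImmStalk.app_surjective_of_restrict (j ≫ p) V₂
  have hres := Groth.Agent.Lib.H9RegCancel.bijective_map_of_eq (j ⁻¹ᵁ U₂) ((j ≫ p) ⁻¹ᵁ V₂)
    hpre hpre.le
  have hc := comp_eq j p V₂ U₂ e hpre.le
  refine ⟨h1, ?_, ?_, ?_⟩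
  · rw [hc]
    exact hres.2.comp h2
  · rw [hc]
    ext z
    rw [RingHom.mem_ker, RingHom.mem_ker, RingHom.comp_apply, map_eq_zero_iff _ hres.1]
  · intro b hb
    have := congrArg (fun f => f b) hc
    simp only [RingHom.comp_apply] at this
    rw [hb] at this
    apply hres.1
    rw [← this, map_one]

theorem cancel_at (j : X ⟶ V') (p : V' ⟶ V) [Smooth p] [IsImmersion (j ≫ p)] (x : X)
    (hj : RegImm.IsRegularImmersionAt .koszul j x) :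
    RegImm.IsRegularImmersionAt .koszul (j ≫ p) x := by
  obtain ⟨⟨U', hU'⟩, hxU', hclU', rs, hrs, hkerU'⟩ := hj
  change j x ∈ U' at hxU'
  change IsClosedImmersion (j ∣_ U') at hclU'
  change LCI.IsKoszulRegularSeq Γ(V', U') rs at hrs
  change RingHom.ker (j.app U').hom = Ideal.ofList rs at hkerU'
  -- `V₀`
  have hix : (j ≫ p) x ∈ (j ≫ p).coborderRange := subset_coborder ⟨x, rfl⟩
  obtain ⟨_, ⟨V₀, hV₀, rfl⟩, hxV₀, hV₀le⟩ :=
    V.isBasis_affineOpens.exists_subset_of_mem_open hix (j ≫ p).coborderRange.2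
  have hclV₀ : IsClosedImmersion ((j ≫ p) ∣_ V₀) :=
    Groth.Agent.Helper13RL.isClosedImmersion_restrict_of_le_coborder (j ≫ p) V₀ hV₀le
  have hsqi : IsPullback (𝟙 X) (j ≫ p) (j ≫ p) (𝟙 V) := IsPullback.of_horiz_isIso ⟨by simp⟩
  have hsqj : IsPullback (𝟙 X) j j (𝟙 V') := IsPullback.of_horiz_isIso ⟨by simp⟩
  have hxV₀' : j x ∈ p ⁻¹ᵁ V₀ := by
    change p (j x) ∈ V₀
    rw [← Scheme.Hom.comp_apply]
    exact hxV₀
  -- `U₁`: a basic open of `U'` inside `p⁻¹ V₀`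
  obtain ⟨h₁, hh₁le, hxh₁⟩ := hU'.exists_basicOpen_le (V := U' ⊓ p ⁻¹ᵁ V₀)
    ⟨j x, ⟨hxU', hxV₀'⟩⟩ hxU'
  have hU₁ : IsAffineOpen (V'.basicOpen h₁) := hU'.basicOpen h₁
  have hU₁U' : V'.basicOpen h₁ ≤ U' := V'.basicOpen_le h₁
  have hU₁V₀ : V'.basicOpen h₁ ≤ p ⁻¹ᵁ V₀ := hh₁le.trans inf_le_right
  obtain ⟨hclU₁, rs₁, hlen₁, hrs₁, hkerU₁⟩ :=
    Groth.Agent.Lib.H9KoszulComp.restrict_data j U' hU' hclU' rs hrs hkerU' _ hU₁ hU₁U'
  -- first shrink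
  obtain ⟨b₀, hxb₀, hpre₀⟩ := shrink (j ≫ p) j p rfl V₀ hV₀ hclV₀ _ hU₁ hU₁V₀ x 1
    (by rw [Scheme.basicOpen_of_isUnit _ isUnit_one]; exact hxh₁)
  set φ₀ := (p.appLE V₀ (V'.basicOpen h₁) hU₁V₀).hom with hφ₀
  obtain ⟨V₂, hV₂def⟩ : ∃ V₂ : V.Opens, V₂ = V.basicOpen b₀ := ⟨_, rfl⟩
  obtain ⟨U₂, hU₂def⟩ : ∃ U₂ : V'.Opens, U₂ = V'.basicOpen (1 * φ₀ b₀) := ⟨_, rfl⟩
  rw [← hU₂def, ← hV₂def] at hpre₀
  rw [← hU₂def] at hxb₀
  have hV₂ : IsAffineOpen V₂ := hV₂def ▸ hV₀.basicOpen b₀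
  have hU₂ : IsAffineOpen U₂ := hU₂def ▸ hU₁.basicOpen _
  have hV₂V₀ : V₂ ≤ V₀ := hV₂def ▸ V.basicOpen_le b₀
  have hU₂U₁ : U₂ ≤ V'.basicOpen h₁ := hU₂def ▸ V'.basicOpen_le _
  have hU₂V₂ : U₂ ≤ p ⁻¹ᵁ V₂ := by
    rw [hU₂def, hV₂def, Scheme.basicOpen_mul, hφ₀, basicOpen_appLE]
    exact inf_le_right.trans inf_le_right
  obtain ⟨hclV₂, -⟩ := Groth.Agent.Lib.H9RegImmFlatBC.isClosedImmersion_and_ker (j ≫ p) (𝟙 V)
    (j ≫ p) (𝟙 X) hsqi V₀ hV₀ hclV₀ V₂ hV₂ hV₂V₀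
  obtain ⟨hclU₂, rs₂, hlen₂, hrs₂, hkerU₂⟩ :=
    Groth.Agent.Lib.H9KoszulComp.restrict_data j _ hU₁ hclU₁ rs₁ hrs₁ hkerU₁ U₂ hU₂ hU₂U₁
  have hpj : ∀ y : X, p (j y) = (j ≫ p) y := fun y => (Scheme.Hom.comp_apply j p y).symm
  have hxU₂ : x ∈ j ⁻¹ᵁ U₂ := hxb₀
  haveI : IsAffine U₂.toScheme := hU₂
  have hX₂ : IsAffineOpen (j ⁻¹ᵁ U₂) := by
    haveI := hclU₂
    exact isAffine_of_isAffineHom (j ∣_ U₂)
  obtain ⟨hθ', hπ, -, -⟩ := surj_pair j p V₂ hV₂ hclV₂ U₂ hU₂ hclU₂ hU₂V₂ hpre₀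
  have hsmooth := p.smooth_appLE hV₂ hU₂ hU₂V₂
  have hfp : (p.appLE V₂ U₂ hU₂V₂).hom.FinitePresentation := hsmooth.finitePresentation
  have hsm : (letI := (p.appLE V₂ U₂ hU₂V₂).hom.toAlgebra
      Algebra.IsSmoothAt Γ(V, V₂) (((hX₂.primeIdealOf ⟨x, hxU₂⟩).asIdeal).comap (j.app U₂).hom)) := by
    letI := (p.appLE V₂ U₂ hU₂V₂).hom.toAlgebra
    haveI : Algebra.Smooth Γ(V, V₂) Γ(V', U₂) := hsmooth
    infer_instance
  obtain ⟨g₁, hg₁, H⟩ := KzRingMain.ring_main Γ(V, V₂) Γ(V', U₂) Γ(X, j ⁻¹ᵁ U₂)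
    (p.appLE V₂ U₂ hU₂V₂).hom (j.app U₂).hom hθ' hπ hfp (hX₂.primeIdealOf ⟨x, hxU₂⟩).asIdeal hsm
    rs₂ hrs₂ hkerU₂
  have hxg₁ : j x ∈ V'.basicOpen g₁ := by
    have h1 : (j.app U₂).hom g₁ ∉ (hX₂.primeIdealOf ⟨x, hxU₂⟩).asIdeal := hg₁
    have h2 := Groth.Agent.Lib.H9SecChart.mem_basicOpen_of_notMem_primeIdealOf hX₂ x hxU₂ _ h1
    rw [← Scheme.preimage_basicOpen j g₁] at h2
    exact h2
  -- second shrink
  obtain ⟨b₁, hxb₁, hpre₁⟩ := shrink (j ≫ p) j p rfl V₂ hV₂ hclV₂ U₂ hU₂ hU₂V₂ x g₁ hxg₁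
  set φ := (p.appLE V₂ U₂ hU₂V₂).hom with hφ
  obtain ⟨V₃, hV₃def⟩ : ∃ V₃ : V.Opens, V₃ = V.basicOpen b₁ := ⟨_, rfl⟩
  obtain ⟨U₃, hU₃def⟩ : ∃ U₃ : V'.Opens, U₃ = V'.basicOpen (g₁ * φ b₁) := ⟨_, rfl⟩
  rw [← hU₃def, ← hV₃def] at hpre₁
  rw [← hU₃def] at hxb₁
  have hV₃ : IsAffineOpen V₃ := hV₃def ▸ hV₂.basicOpen b₁
  have hU₃ : IsAffineOpen U₃ := hU₃def ▸ hU₂.basicOpen _
  have hV₃V₂ : V₃ ≤ V₂ := hV₃def ▸ V.basicOpen_le b₁
  have hU₃U₂ : U₃ ≤ U₂ := hU₃def ▸ V'.basicOpen_le _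
  have hU₃V₃ : U₃ ≤ p ⁻¹ᵁ V₃ := by
    rw [hU₃def, hV₃def, Scheme.basicOpen_mul, hφ, basicOpen_appLE]
    exact inf_le_right.trans inf_le_right
  obtain ⟨hclV₃, -⟩ := Groth.Agent.Lib.H9RegImmFlatBC.isClosedImmersion_and_ker (j ≫ p) (𝟙 V)
    (j ≫ p) (𝟙 X) hsqi V₂ hV₂ hclV₂ V₃ hV₃ hV₃V₂
  obtain ⟨hclU₃, hkerU₃⟩ := Groth.Agent.Lib.H9RegImmFlatBC.isClosedImmersion_and_ker j (𝟙 V')
    j (𝟙 X) hsqj U₂ hU₂ hclU₂ U₃ hU₃ hU₃U₂
  rw [KzSection.id_appLE_eq] at hkerU₃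
  obtain ⟨hθ₂, hπ₂, hkerπ₂, hone₂⟩ := surj_pair j p V₃ hV₃ hclV₃ U₃ hU₃ hclU₃ hU₃V₃ hpre₁
  -- the localized triple
  set β := (V.presheaf.map (homOfLE hV₃V₂).op).hom with hβdef
  set γ := (V'.presheaf.map (homOfLE hU₃U₂).op).hom with hγdef
  have hcomm : (p.appLE V₃ U₃ hU₃V₃).hom.comp β = γ.comp φ := by
    have e1 : V.presheaf.map (homOfLE hV₃V₂).op ≫ p.appLE V₃ U₃ hU₃V₃ =
        p.appLE V₂ U₃ (hU₃U₂.trans hU₂V₂) := Scheme.Hom.map_appLE p hU₃V₃ (homOfLE hV₃V₂).op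
    have e2 : p.appLE V₂ U₂ hU₂V₂ ≫ V'.presheaf.map (homOfLE hU₃U₂).op =
        p.appLE V₂ U₃ (hU₃U₂.trans hU₂V₂) := Scheme.Hom.appLE_map p hU₂V₂ (homOfLE hU₃U₂).op
    ext r
    have := congr($(e1.trans e2.symm) r)
    simp only [CommRingCat.hom_comp, RingHom.comp_apply] at this
    exact this
  have hβloc : (letI := β.toAlgebra; IsLocalization.Away b₁ Γ(V, V₃)) :=
    hV₂.isLocalization_of_eq_basicOpen b₁ (homOfLE hV₃V₂) hV₃def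
  have hγloc : (letI := γ.toAlgebra; IsLocalization.Away (g₁ * φ b₁) Γ(V', U₃)) :=
    hU₂.isLocalization_of_eq_basicOpen (g₁ * φ b₁) (homOfLE hU₃U₂) hU₃def
  obtain ⟨b, l, hb1, hlker, hbker, hlKR⟩ := H Γ(V, V₃) Γ(V', U₃) Γ(X, j ⁻¹ᵁ U₃) β γ
    (p.appLE V₃ U₃ hU₃V₃).hom (j.app U₃).hom b₁ hcomm hβloc hγloc hθ₂ hπ₂ hkerU₃
  rw [hkerπ₂] at hlker hbker
  have hπb : ((j ≫ p).app V₃).hom b = 1 := hone₂ b hb1
  -- the final open
  have hV₄ : IsAffineOpen (V.basicOpen b) := hV₃.basicOpen b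
  have hV₄V₃ : V.basicOpen b ≤ V₃ := V.basicOpen_le b
  obtain ⟨hclV₄, hkerV₄⟩ := Groth.Agent.Lib.H9RegImmFlatBC.isClosedImmersion_and_ker (j ≫ p)
    (𝟙 V) (j ≫ p) (𝟙 X) hsqi V₃ hV₃ hclV₃ (V.basicOpen b) hV₄ hV₄V₃
  rw [KzSection.id_appLE_eq] at hkerV₄
  set χ := (V.presheaf.map (homOfLE hV₄V₃).op).hom with hχdef
  have hχloc : (letI := χ.toAlgebra; IsLocalization.Away b Γ(V, V.basicOpen b)) :=
    hV₃.isLocalization_of_eq_basicOpen b (homOfLE hV₄V₃) rfl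
  have hχu : IsUnit (χ b) := by
    letI := χ.toAlgebra
    haveI : IsLocalization.Away b Γ(V, V.basicOpen b) := hχloc
    exact IsLocalization.Away.algebraMap_isUnit b
  refine ⟨⟨V.basicOpen b, hV₄⟩, ?_, hclV₄, l.map χ, ?_, ?_⟩
  · -- the point
    have hx3 : x ∈ (j ≫ p) ⁻¹ᵁ V₃ := hpre₁ ▸ (show x ∈ j ⁻¹ᵁ U₃ from hxb₁)
    have h5 : (j ≫ p) ⁻¹ᵁ V.basicOpen b = X.basicOpen (((j ≫ p).app V₃).hom b) :=
      Scheme.preimage_basicOpen (j ≫ p) b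
    have h6 : x ∈ (j ≫ p) ⁻¹ᵁ V.basicOpen b := by
      rw [h5, hπb, Scheme.basicOpen_of_isUnit _ isUnit_one]
      exact hx3
    exact h6
  · -- Koszul-regularity
    letI := χ.toAlgebra
    haveI : IsLocalization.Away b Γ(V, V.basicOpen b) := hχloc
    let e : Localization.Away b ≃ₐ[Γ(V, V₃)] Γ(V, V.basicOpen b) :=
      IsLocalization.algEquiv (.powers b) _ _
    have h7 := koszul_of_equiv e.toRingEquiv _ hlKR
    have h8 : (l.map (algebraMap Γ(V, V₃) (Localization.Away b))).map e.toRingEquiv =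
        l.map χ := by
      rw [List.map_map]
      apply List.map_congr_left
      intro a _
      change e (algebraMap Γ(V, V₃) (Localization.Away b) a) = χ a
      rw [e.commutes]
      rfl
    rw [h8] at h7
    exact h7
  · -- the kernel
    change RingHom.ker ((j ≫ p).app (V.basicOpen b)).hom = Ideal.ofList (l.map χ)
    rw [hkerV₄, ← Ideal.map_ofList]
    apply le_antisymm
    · rw [Ideal.map_le_iff_le_comap]
      intro a ha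
      rw [Ideal.mem_comap]
      have h9 := Ideal.mem_map_of_mem χ (hbker a ha)
      rw [map_mul] at h9
      have h10 : χ a = ↑hχu.unit⁻¹ * (χ b * χ a) := by
        rw [← mul_assoc]
        have : ↑hχu.unit⁻¹ * χ b = 1 := by
          rw [Units.inv_mul_eq_one]; rfl
        rw [this, one_mul]
      rw [h10]
      exact Ideal.mul_mem_left _ _ h9
    · apply Ideal.map_mono
      rw [Ideal.ofList, Ideal.span_le]
      intro a ha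
      exact hlker a ha


theorem cancel (j : X ⟶ V') (p : V' ⟶ V) [Smooth p] [IsImmersion (j ≫ p)]
    (hj : RegImm.IsRegularImmersion .koszul j) : RegImm.IsRegularImmersion .koszul (j ≫ p) :=
  ⟨inferInstance, fun x => cancel_at j p x (hj.2 x)⟩

theorem lift_koszul (i : X ⟶ V) (j : X ⟶ V') (p : V' ⟶ V) [Smooth p] (h : j ≫ p = i)
    (hi : RegImm.IsRegularImmersion .koszul i) : RegImm.IsRegularImmersion .koszul j := by
  have hsq : IsPullback (pullback.fst i p) (pullback.snd i p) i p := IsPullback.of_hasPullback _ _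
  haveI : Flat p := inferInstance
  have h2 : RegImm.IsRegularImmersion .koszul (pullback.snd i p) :=
    Groth.Agent.Lib.H9RegImmFlatBC.isRegularImmersion_of_isPullback i p _ _ hsq
      RegImm.Kind.koszul hi
  let Γ' : X ⟶ pullback i p := pullback.lift (𝟙 _) j (by rw [Category.id_comp, h])
  have hΓ1 : Γ' ≫ pullback.fst i p = 𝟙 _ := pullback.lift_fst _ _ _
  have hΓ2 : Γ' ≫ pullback.snd i p = j := pullback.lift_snd _ _ _
  haveI : Smooth (pullback.fst i p) := MorphismProperty.pullback_fst _ _ inferInstance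
  have h1 : RegImm.IsRegularImmersion .koszul Γ' :=
    Groth.Agent.Lib.R2H3.KzSection.isRegularImmersion_section_koszul _ Γ' hΓ1
  rw [← hΓ2]
  exact Groth.Agent.S8654.result _ _ h2 h1

end Groth.Agent.Lib.R2H3.KzCancel
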