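import Mathlib
import Groth.Prelude.Def_RegImm
import Groth.Agent.Lib.H9KoszulComp
import Groth.Agent.Lib.H9RegImmFlatBC
import Groth.Agent.Lib.R2H3KzSection
import Groth.Agent.Lib.R2H3KzCancel

set_option autoImplicit false
set_option linter.style.haveILetI false
set_option linter.unusedVariables false
set_option linter.unusedSectionVars false
universe u

namespace Groth.Agent.Lib.R2H3.KzSpecDict

open AlgebraicGeometry CategoryTheory CategoryTheory.Limits

variable {R B : Type u} [CommRing R] [CommRing B]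

/-- the ring iso `R ≃+* Γ(Spec R, ⊤)`. -/
noncomputable def ιR (R : Type u) [CommRing R] : R ≃+* Γ(Spec (CommRingCat.of R), ⊤) :=
  (Scheme.ΓSpecIso (CommRingCat.of R)).symm.commRingCatIsoToRingEquiv

lemma ιR_apply (r : R) : ιR R r = (Scheme.ΓSpecIso (CommRingCat.of R)).inv.hom r := rfl

/-- the basic open `D(g)` of `Spec R`. -/
noncomputable def W (g : R) : (Spec (CommRingCat.of R)).Opens :=
  (Spec (CommRingCat.of R)).basicOpen (ιR R g)

lemma isAffineOpen_W (g : R) : IsAffineOpen (W g) :=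
  (isAffineOpen_top (Spec (CommRingCat.of R))).basicOpen _

/-- the localization map `R → Γ(Spec R, D(g))`. -/
noncomputable def ψ (g : R) : R →+* Γ(Spec (CommRingCat.of R), W g) :=
  ((Spec (CommRingCat.of R)).presheaf.map (homOfLE (le_top : W g ≤ ⊤)).op).hom.comp
    (ιR R : R →+* Γ(Spec (CommRingCat.of R), ⊤))

lemma mem_W_iff (g : R) (x : Spec (CommRingCat.of R)) : x ∈ W g ↔ g ∉ x.asIdeal := by
  have h := basicOpen_eq_of_affine (R := CommRingCat.of R) g
  change x ∈ (Spec (CommRingCat.of R)).basicOpen ((Scheme.ΓSpecIso (CommRingCat.of R)).inv.hom g) ↔ _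
  rw [h]
  exact PrimeSpectrum.mem_basicOpen g x

/-- (D2) -/
lemma isLocalization_ψ (g : R) :
    letI := (ψ g).toAlgebra; IsLocalization.Away g Γ(Spec (CommRingCat.of R), W g) := by
  have h1 := (isAffineOpen_top (Spec (CommRingCat.of R))).isLocalization_of_eq_basicOpen
    (ιR R g) (homOfLE (le_top : W g ≤ ⊤)) rfl
  letI alg1 : Algebra Γ(Spec (CommRingCat.of R), ⊤) Γ(Spec (CommRingCat.of R), W g) :=
    ((Spec (CommRingCat.of R)).presheaf.map (homOfLE (le_top : W g ≤ ⊤)).op).hom.toAlgebra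
  haveI : IsLocalization.Away (ιR R g) Γ(Spec (CommRingCat.of R), W g) := h1
  have h2 := IsLocalization.isLocalization_of_base_ringEquiv (Submonoid.powers (ιR R g))
    Γ(Spec (CommRingCat.of R), W g) (ιR R).symm
  have h3 : (Submonoid.powers (ιR R g)).map ((ιR R).symm : _ →* R) = Submonoid.powers g := by
    rw [Submonoid.map_powers]
    congr 1
    exact (ιR R).symm_apply_apply g
  letI := (ψ g).toAlgebra
  change IsLocalization (Submonoid.powers g) _
  rw [← h3]
  convert h2 using 1
  · rfl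
  · rfl


section
variable (φ : R →+* B)

lemma appTop_ι (r : R) :
    ((Spec.map (CommRingCat.ofHom φ)).app ⊤).hom (ιR R r) = ιR B (φ r) := by
  have h := Scheme.ΓSpecIso_inv_naturality (CommRingCat.ofHom φ)
  have := congr($h r)
  simp only [CommRingCat.hom_comp, RingHom.comp_apply] at this
  exact this.symm

lemma ker_appTop :
    RingHom.ker ((Spec.map (CommRingCat.ofHom φ)).app ⊤).hom =
      (RingHom.ker φ).map (ιR R : R →+* Γ(Spec (CommRingCat.of R), ⊤)) := by
  apply le_antisymm
  · intro t ht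
    obtain ⟨r, rfl⟩ := (ιR R).surjective t
    rw [RingHom.mem_ker, appTop_ι] at ht
    have hr : φ r = 0 := by
      have := (ιR B).injective (ht.trans (map_zero (ιR B)).symm)
      exact this
    exact Ideal.mem_map_of_mem _ ((RingHom.mem_ker).mpr hr)
  · rw [Ideal.map_le_iff_le_comap]
    intro r hr
    rw [Ideal.mem_comap, RingHom.mem_ker]
    change ((Spec.map (CommRingCat.ofHom φ)).app ⊤).hom (ιR R r) = 0
    rw [appTop_ι, (RingHom.mem_ker).mp hr]
    exact map_zero _

theorem isClosedImmersion_and_ker_W (hφ : Function.Surjective φ) (g : R) :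
    IsClosedImmersion ((Spec.map (CommRingCat.ofHom φ)) ∣_ W g) ∧
      RingHom.ker ((Spec.map (CommRingCat.ofHom φ)).app (W g)).hom = (RingHom.ker φ).map (ψ g) := by
  set i := Spec.map (CommRingCat.ofHom φ) with hi
  haveI : IsClosedImmersion i := IsClosedImmersion.spec_of_surjective _ hφ
  have hsq : IsPullback (𝟙 _) i i (𝟙 _) := IsPullback.of_horiz_isIso ⟨by simp⟩
  have hclTop : IsClosedImmersion (i ∣_ ⊤) := inferInstance
  obtain ⟨h1, h2⟩ := Groth.Agent.Lib.H9RegImmFlatBC.isClosedImmersion_and_ker i (𝟙 _) i (𝟙 _) hsq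
    ⊤ (isAffineOpen_top _) hclTop (W g) (isAffineOpen_W g) le_top
  refine ⟨h1, ?_⟩
  rw [h2, KzSection.id_appLE_eq, ker_appTop, Ideal.map_map]
  rfl

end


section Bridge
variable (φ : R →+* B)

/-- (Br1) a Koszul-regular kernel gives a Koszul-regular immersion of spectra. -/
theorem isRegularImmersion_of_ideal (hφ : Function.Surjective φ)
    (hI : LCI.IsKoszulRegularIdeal (RingHom.ker φ)) :
    RegImm.IsRegularImmersion .koszul (Spec.map (CommRingCat.ofHom φ)) := by
  set i := Spec.map (CommRingCat.ofHom φ) with hi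
  haveI : IsClosedImmersion i := IsClosedImmersion.spec_of_surjective _ hφ
  refine ⟨inferInstance, fun z => ?_⟩
  have hle : RingHom.ker φ ≤ (i z).asIdeal := by
    intro r hr
    change φ r ∈ z.asIdeal
    rw [(RingHom.mem_ker).mp hr]
    exact Ideal.zero_mem _
  obtain ⟨g, hg, l, hl, hspan⟩ := hI (i z) hle
  obtain ⟨hcl, hker⟩ := isClosedImmersion_and_ker_W φ hφ g
  letI := (ψ g).toAlgebra
  haveI := isLocalization_ψ g
  let e : Localization.Away g ≃ₐ[R] Γ(Spec (CommRingCat.of R), W g) :=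
    IsLocalization.algEquiv (.powers g) _ _
  refine ⟨⟨W g, isAffineOpen_W g⟩, (mem_W_iff g _).mpr hg, hcl, l.map e.toRingEquiv,
    KzCancel.koszul_of_equiv e.toRingEquiv l hl, ?_⟩
  change RingHom.ker (i.app (W g)).hom = Ideal.ofList (l.map e.toRingEquiv)
  rw [hker]
  have h1 : ψ g = (e.toRingEquiv : Localization.Away g →+* _).comp
      (algebraMap R (Localization.Away g)) := by
    ext r
    exact (e.commutes r).symm
  rw [h1, ← Ideal.map_map, hspan]
  exact Ideal.map_ofList _ l

/-- (Br2) a Koszul-regular immersion of spectra gives a Koszul-regular kernel. -/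
theorem ideal_of_isRegularImmersion (hφ : Function.Surjective φ)
    (h : RegImm.IsRegularImmersion .koszul (Spec.map (CommRingCat.ofHom φ))) :
    LCI.IsKoszulRegularIdeal (RingHom.ker φ) := by
  set i := Spec.map (CommRingCat.ofHom φ) with hi
  intro 𝔭 h𝔭
  have hz : ∃ z : Spec (CommRingCat.of B), i z = 𝔭 := by
    have h1 : 𝔭 ∈ Set.range (PrimeSpectrum.comap φ) := by
      rw [_root_.range_comap_of_surjective _ _ hφ]
      exact h𝔭
    obtain ⟨z, hz⟩ := h1
    exact ⟨z, hz⟩
  obtain ⟨z, rfl⟩ := hz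
  obtain ⟨⟨U₀, hU₀⟩, hzU₀, hcl, rs, hrs, hker⟩ := h.2 z
  change i z ∈ U₀ at hzU₀
  change IsClosedImmersion (i ∣_ U₀) at hcl
  change LCI.IsKoszulRegularSeq Γ(Spec (CommRingCat.of R), U₀) rs at hrs
  change RingHom.ker (i.app U₀).hom = Ideal.ofList rs at hker
  obtain ⟨s, hsle, hzs⟩ := (isAffineOpen_top (Spec (CommRingCat.of R))).exists_basicOpen_le
    (V := U₀) ⟨i z, hzU₀⟩ (by trivial)
  obtain ⟨g, rfl⟩ := (ιR R).surjective s
  change W g ≤ U₀ at hsle
  change i z ∈ W g at hzs
  obtain ⟨hclW, fs', hlen, hfs', hkerW⟩ :=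
    Groth.Agent.Lib.H9KoszulComp.restrict_data i U₀ hU₀ hcl rs hrs hker (W g) (isAffineOpen_W g) hsle
  letI := (ψ g).toAlgebra
  haveI := isLocalization_ψ g
  let e : Localization.Away g ≃ₐ[R] Γ(Spec (CommRingCat.of R), W g) :=
    IsLocalization.algEquiv (.powers g) _ _
  refine ⟨g, (mem_W_iff g _).mp hzs, fs'.map e.symm.toRingEquiv,
    KzCancel.koszul_of_equiv e.symm.toRingEquiv fs' hfs', ?_⟩
  have hk := (isClosedImmersion_and_ker_W φ hφ g).2
  have h1 : algebraMap R (Localization.Away g) =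
      (e.symm.toRingEquiv : Γ(Spec (CommRingCat.of R), W g) →+* _).comp (ψ g) := by
    ext r
    exact (e.symm.commutes r).symm
  rw [h1, ← Ideal.map_map, ← hk, hkerW]
  exact Ideal.map_ofList _ fs'

end Bridge

end Groth.Agent.Lib.R2H3.KzSpecDict
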