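import Mathlib
import Groth.Prelude.Def_RegImm
import Groth.Agent.Lib.H9KoszulComp
import Groth.Agent.Lib.Helper13RLf

set_option autoImplicit false
set_option linter.style.haveILetI false
set_option linter.unusedVariables false
set_option linter.unusedSectionVars false
universe u

namespace Groth.Agent.Lib.R2H3.KzSrcLocal

open AlgebraicGeometry CategoryTheory CategoryTheory.Limits

variable {X Z : Scheme.{u}}

/-- being a Koszul-regular immersion at a point is local on the source. -/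
theorem isRegularImmersionAt_of_ι (i : X ⟶ Z) [IsImmersion i] (U : X.Opens) (x : X) (hx : x ∈ U)
    (h : RegImm.IsRegularImmersionAt .koszul (U.ι ≫ i) ⟨x, hx⟩) :
    RegImm.IsRegularImmersionAt .koszul i x := by
  obtain ⟨⟨U₀, hU₀⟩, hxU₀, hcl, rs, hrs, hker⟩ := h
  change i x ∈ U₀ at hxU₀
  change IsClosedImmersion ((U.ι ≫ i) ∣_ U₀) at hcl
  change LCI.IsKoszulRegularSeq Γ(Z, U₀) rs at hrs
  change RingHom.ker ((U.ι ≫ i).app U₀).hom = Ideal.ofList rs at hker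
  -- an open `O` of `Z` with `i⁻¹ O = U`
  obtain ⟨t, ht, htU⟩ := i.isEmbedding.isInducing.isOpen_iff.mp U.2
  let O : Z.Opens := ⟨t, ht⟩
  have hxO : i x ∈ O := by
    change x ∈ i ⁻¹' t
    rw [htU]
    exact hx
  obtain ⟨f₀, hf₀le, hxf₀⟩ := hU₀.exists_basicOpen_le (V := U₀ ⊓ O) ⟨i x, ⟨hxU₀, hxO⟩⟩ hxU₀
  have hW : IsAffineOpen (Z.basicOpen f₀) := hU₀.basicOpen f₀
  have hWU₀ : Z.basicOpen f₀ ≤ U₀ := Z.basicOpen_le f₀
  have hpreU : i ⁻¹ᵁ Z.basicOpen f₀ ≤ U := by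
    intro y hy
    have h1 : i y ∈ O := (hf₀le hy).2
    have h2 : y ∈ i ⁻¹' t := h1
    rw [htU] at h2
    exact h2
  obtain ⟨hclW, fs', hlen, hfs', hkerW⟩ :=
    Groth.Agent.Lib.H9KoszulComp.restrict_data (U.ι ≫ i) U₀ hU₀ hcl rs hrs hker _ hW hWU₀
  have hiso : IsIso (U.ι ∣_ (i ⁻¹ᵁ Z.basicOpen f₀)) :=
    Groth.Agent.Helper13RL.isIso_restrict_of_le_opensRange U.ι _
      (by rw [Scheme.Opens.opensRange_ι]; exact hpreU)
  have hcomp : (U.ι ≫ i) ∣_ Z.basicOpen f₀ =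
      (U.ι ∣_ (i ⁻¹ᵁ Z.basicOpen f₀)) ≫ (i ∣_ Z.basicOpen f₀) := morphismRestrict_comp _ _ _
  have hcl' : IsClosedImmersion (i ∣_ Z.basicOpen f₀) := by
    have h3 : i ∣_ Z.basicOpen f₀ =
        inv (U.ι ∣_ (i ⁻¹ᵁ Z.basicOpen f₀)) ≫ ((U.ι ≫ i) ∣_ Z.basicOpen f₀) := by
      rw [hcomp, IsIso.inv_hom_id_assoc]
    rw [h3]
    haveI := hclW
    exact @IsClosedImmersion.comp _ _ _ _ _ inferInstance hclW
  refine ⟨⟨Z.basicOpen f₀, hW⟩, hxf₀, hcl', fs', hfs', ?_⟩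
  change RingHom.ker (i.app (Z.basicOpen f₀)).hom = Ideal.ofList fs'
  rw [← hkerW]
  have happ : (U.ι ≫ i).app (Z.basicOpen f₀) =
      i.app (Z.basicOpen f₀) ≫ U.ι.app (i ⁻¹ᵁ Z.basicOpen f₀) := Scheme.Hom.comp_app _ _ _
  haveI : IsIso (U.ι.app (i ⁻¹ᵁ Z.basicOpen f₀)) :=
    Scheme.Hom.isIso_app U.ι _ (by rw [Scheme.Opens.opensRange_ι]; exact hpreU)
  have hinj : Function.Injective (U.ι.app (i ⁻¹ᵁ Z.basicOpen f₀)).hom :=
    (ConcreteCategory.bijective_of_isIso _).1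
  ext z
  rw [RingHom.mem_ker, RingHom.mem_ker, happ]
  change _ ↔ (U.ι.app (i ⁻¹ᵁ Z.basicOpen f₀)).hom ((i.app (Z.basicOpen f₀)).hom z) = 0
  rw [map_eq_zero_iff _ hinj]

end Groth.Agent.Lib.R2H3.KzSrcLocal
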