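import Mathlib
import Groth.Prelude.Def_RegImm
import Groth.Agent.Lib.R2H3KzCancel
import Groth.Agent.Lib.R2H3KzSpecDict
import Groth.Agent.Lib.R2H3KzSrcLocal

set_option autoImplicit false
set_option linter.style.haveILetI false
set_option linter.unusedVariables false
set_option linter.unusedSectionVars false
universe u

namespace Groth.Agent.Lib.R2H3.KzLCI

open AlgebraicGeometry CategoryTheory CategoryTheory.Limits

section SrcLocal
variable {X' X Z : Scheme.{u}}

/-- being a Koszul-regular immersion at a point can be checked after precomposing with an open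
immersion. -/
theorem isRegularImmersionAt_of_openImmersion_comp (ι : X' ⟶ X) [IsOpenImmersion ι] (i : X ⟶ Z)
    [IsImmersion i] (x' : X') (h : RegImm.IsRegularImmersionAt .koszul (ι ≫ i) x') :
    RegImm.IsRegularImmersionAt .koszul i (ι x') := by
  obtain ⟨⟨U₀, hU₀⟩, hxU₀, hcl, rs, hrs, hker⟩ := h
  change i (ι x') ∈ U₀ at hxU₀
  change IsClosedImmersion ((ι ≫ i) ∣_ U₀) at hcl
  change LCI.IsKoszulRegularSeq Γ(Z, U₀) rs at hrs
  change RingHom.ker ((ι ≫ i).app U₀).hom = Ideal.ofList rs at hker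
  obtain ⟨t, ht, htU⟩ := i.isEmbedding.isInducing.isOpen_iff.mp ι.opensRange.2
  let O : Z.Opens := ⟨t, ht⟩
  have hxO : i (ι x') ∈ O := by
    change ι x' ∈ i ⁻¹' t
    rw [htU]
    exact ⟨x', rfl⟩
  obtain ⟨f₀, hf₀le, hxf₀⟩ := hU₀.exists_basicOpen_le (V := U₀ ⊓ O) ⟨i (ι x'), ⟨hxU₀, hxO⟩⟩ hxU₀
  have hW : IsAffineOpen (Z.basicOpen f₀) := hU₀.basicOpen f₀
  have hWU₀ : Z.basicOpen f₀ ≤ U₀ := Z.basicOpen_le f₀
  have hpreU : i ⁻¹ᵁ Z.basicOpen f₀ ≤ ι.opensRange := by
    intro y hy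
    have h1 : i y ∈ O := (hf₀le hy).2
    have h2 : y ∈ i ⁻¹' t := h1
    rw [htU] at h2
    exact h2
  obtain ⟨hclW, fs', hlen, hfs', hkerW⟩ :=
    Groth.Agent.Lib.H9KoszulComp.restrict_data (ι ≫ i) U₀ hU₀ hcl rs hrs hker _ hW hWU₀
  have hiso : IsIso (ι ∣_ (i ⁻¹ᵁ Z.basicOpen f₀)) :=
    Groth.Agent.Helper13RL.isIso_restrict_of_le_opensRange ι _ hpreU
  have hcomp : (ι ≫ i) ∣_ Z.basicOpen f₀ =
      (ι ∣_ (i ⁻¹ᵁ Z.basicOpen f₀)) ≫ (i ∣_ Z.basicOpen f₀) := morphismRestrict_comp _ _ _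
  have hcl' : IsClosedImmersion (i ∣_ Z.basicOpen f₀) := by
    have h3 : i ∣_ Z.basicOpen f₀ =
        inv (ι ∣_ (i ⁻¹ᵁ Z.basicOpen f₀)) ≫ ((ι ≫ i) ∣_ Z.basicOpen f₀) := by
      rw [hcomp, IsIso.inv_hom_id_assoc]
    rw [h3]
    exact @IsClosedImmersion.comp _ _ _ _ _ inferInstance hclW
  refine ⟨⟨Z.basicOpen f₀, hW⟩, hxf₀, hcl', fs', hfs', ?_⟩
  change RingHom.ker (i.app (Z.basicOpen f₀)).hom = Ideal.ofList fs'
  rw [← hkerW]
  have happ : (ι ≫ i).app (Z.basicOpen f₀) =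
      i.app (Z.basicOpen f₀) ≫ ι.app (i ⁻¹ᵁ Z.basicOpen f₀) := Scheme.Hom.comp_app _ _ _
  haveI : IsIso (ι.app (i ⁻¹ᵁ Z.basicOpen f₀)) := Scheme.Hom.isIso_app ι _ hpreU
  have hinj : Function.Injective (ι.app (i ⁻¹ᵁ Z.basicOpen f₀)).hom :=
    (ConcreteCategory.bijective_of_isIso _).1
  ext z
  rw [RingHom.mem_ker, RingHom.mem_ker, happ]
  change _ ↔ (ι.app (i ⁻¹ᵁ Z.basicOpen f₀)).hom ((i.app (Z.basicOpen f₀)).hom z) = 0
  rw [map_eq_zero_iff _ hinj]

end SrcLocal

section Fact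
variable {X Y P Z : Scheme.{u}}

/-- an immersion into a smooth `Y`-scheme of an `X` that factors as a Koszul-regular immersion
followed by a smooth morphism is Koszul-regular. -/
theorem koszul_of_factorization (i₀ : X ⟶ P) (π : P ⟶ Y) [Smooth π]
    (hi₀ : RegImm.IsRegularImmersion .koszul i₀) (p : Z ⟶ Y) [Smooth p] (i : X ⟶ Z)
    [IsImmersion i] (h : i₀ ≫ π = i ≫ p) : RegImm.IsRegularImmersion .koszul i := by
  let k : X ⟶ pullback π p := pullback.lift i₀ i h
  have hk1 : k ≫ pullback.fst π p = i₀ := pullback.lift_fst _ _ _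
  have hk2 : k ≫ pullback.snd π p = i := pullback.lift_snd _ _ _
  haveI : Smooth (pullback.fst π p) := MorphismProperty.pullback_fst _ _ inferInstance
  haveI : Smooth (pullback.snd π p) := MorphismProperty.pullback_snd _ _ inferInstance
  have hk : RegImm.IsRegularImmersion RegImm.Kind.koszul k :=
    KzCancel.lift_koszul i₀ k (pullback.fst π p) hk1 hi₀
  haveI : IsImmersion (k ≫ pullback.snd π p) := by rw [hk2]; infer_instance
  have h1 := KzCancel.cancel k (pullback.snd π p) hk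
  rw [hk2] at h1
  exact h1

end Fact

section Pointwise
variable {R B : Type u} [CommRing R] [CommRing B]
open KzSpecDict

/-- pointwise form of `KzSpecDict.ideal_of_isRegularImmersion`. -/
theorem exists_away_of_isRegularImmersionAt (φ : R →+* B) (hφ : Function.Surjective φ)
    (z : Spec (CommRingCat.of B))
    (h : RegImm.IsRegularImmersionAt .koszul (Spec.map (CommRingCat.ofHom φ)) z) :
    ∃ g : R, g ∉ ((Spec.map (CommRingCat.ofHom φ)) z).asIdeal ∧
      ∃ l : List (Localization.Away g), LCI.IsKoszulRegularSeq (Localization.Away g) l ∧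
        (RingHom.ker φ).map (algebraMap R (Localization.Away g)) = Ideal.span {x | x ∈ l} := by
  set i := Spec.map (CommRingCat.ofHom φ) with hi
  obtain ⟨⟨U₀, hU₀⟩, hzU₀, hcl, rs, hrs, hker⟩ := h
  change i z ∈ U₀ at hzU₀
  change IsClosedImmersion (i ∣_ U₀) at hcl
  change LCI.IsKoszulRegularSeq Γ(Spec (CommRingCat.of R), U₀) rs at hrs
  change RingHom.ker (i.app U₀).hom = Ideal.ofList rs at hker
  obtain ⟨s, hsle, hzs⟩ := (isAffineOpen_top (Spec (CommRingCat.of R))).exists_basicOpen_le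
    (V := U₀) ⟨i z, hzU₀⟩ (by trivial)
  obtain ⟨g, rfl⟩ := (ιR R).surjective s
  change W g ≤ U₀ at hsle
  change i z ∈ W g at hzs
  obtain ⟨hclW, fs', hlen, hfs', hkerW⟩ :=
    Groth.Agent.Lib.H9KoszulComp.restrict_data i U₀ hU₀ hcl rs hrs hker (W g) (isAffineOpen_W g) hsle
  letI := (ψ g).toAlgebra
  haveI := isLocalization_ψ g
  let e : Localization.Away g ≃ₐ[R] Γ(Spec (CommRingCat.of R), W g) :=
    IsLocalization.algEquiv (.powers g) _ _
  refine ⟨g, (mem_W_iff g _).mp hzs, fs'.map e.symm.toRingEquiv,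
    KzCancel.koszul_of_equiv e.symm.toRingEquiv fs' hfs', ?_⟩
  have hk := (isClosedImmersion_and_ker_W φ hφ g).2
  have h1 : algebraMap R (Localization.Away g) =
      (e.symm.toRingEquiv : Γ(Spec (CommRingCat.of R), W g) →+* _).comp (ψ g) := by
    ext r
    exact (e.symm.commutes r).symm
  rw [h1, ← Ideal.map_map, ← hk, hkerW]
  exact Ideal.map_ofList _ fs'

end Pointwise

end Groth.Agent.Lib.R2H3.KzLCI
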