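import Mathlib
import Groth.Prelude.Def_RegImm
import Groth.Agent.Lib.R2H3KzLCI
import Groth.Agent.S8654

set_option autoImplicit false
set_option linter.style.haveILetI false
set_option linter.unusedVariables false
set_option linter.unusedSectionVars false
universe u

namespace Groth.Agent.Lib.R2H3.KzLCIComp

open AlgebraicGeometry CategoryTheory CategoryTheory.Limits

/-- flat base change of Koszul-regular ideals. -/
theorem isKoszulRegularIdeal_map_of_flat {P P' : Type u} [CommRing P] [CommRing P']
    (f : P →+* P') (hf : f.Flat) (I : Ideal P) (hI : LCI.IsKoszulRegularIdeal I) :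
    LCI.IsKoszulRegularIdeal (I.map f) := by
  intro 𝔮' h𝔮'
  have hle : I ≤ (𝔮'.asIdeal.comap f) := Ideal.map_le_iff_le_comap.mp h𝔮'
  obtain ⟨g, hg, l, hl, hspan⟩ := hI ⟨𝔮'.asIdeal.comap f, inferInstance⟩ hle
  refine ⟨f g, hg, ?_⟩
  let F : Localization.Away g →+* Localization.Away (f g) :=
    IsLocalization.Away.map (Localization.Away g) (Localization.Away (f g)) f g
  have hF : F.Flat := RingHom.Flat.propertyIsLocal.localizationAwayPreserves f g
    (Localization.Away g) (Localization.Away (f g)) hf
  have hFc : F.comp (algebraMap P (Localization.Away g)) =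
      (algebraMap P' (Localization.Away (f g))).comp f := IsLocalization.map_comp _
  refine ⟨l.map F, Groth.Agent.Lib.H9RegImmFlatBC.isKoszulRegularSeq_map F hF l hl, ?_⟩
  rw [Ideal.map_map, ← hFc, ← Ideal.map_map, hspan]
  exact Ideal.map_ofList F l


/-- transport of `IsLCI` along an algebra isomorphism. -/
theorem isLCI_of_algEquiv {A C C' : Type u} [CommRing A] [CommRing C] [CommRing C'] [Algebra A C]
    [Algebra A C'] (e : C ≃ₐ[A] C') (h : LCI.IsLCI A C) : LCI.IsLCI A C' := by
  obtain ⟨hft, n, α, hα, hK⟩ := h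
  refine ⟨Algebra.FiniteType.equiv hft e, n, (e : C →ₐ[A] C').comp α, ?_, ?_⟩
  · exact e.surjective.comp hα
  · have : RingHom.ker ((e : C →ₐ[A] C').comp α).toRingHom = RingHom.ker α.toRingHom := by
      ext x
      rw [RingHom.mem_ker, RingHom.mem_ker]
      change e (α x) = 0 ↔ α x = 0
      exact map_eq_zero_iff e e.injective
    rw [this]
    exact hK

/-- composition of local complete intersection ring maps. -/
theorem isLCI_comp {A B C : Type u} [CommRing A] [CommRing B] [CommRing C] [Algebra A B]
    [Algebra B C] [Algebra A C] [IsScalarTower A B C] (h1 : LCI.IsLCI A B) (h2 : LCI.IsLCI B C) :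
    LCI.IsLCI A C := by
  obtain ⟨hft1, n, α, hα, hKα⟩ := h1
  obtain ⟨hft2, m, β, hβ, hKβ⟩ := h2
  have hft : Algebra.FiniteType A C := Algebra.FiniteType.trans hft1 hft2
  obtain ⟨k, γ, hγ⟩ := Algebra.FiniteType.iff_quotient_mvPolynomial''.mp hft
  refine ⟨hft, k, γ, hγ, ?_⟩
  -- the ring `Q = A[x][y]`
  let Q := MvPolynomial (Fin m) (MvPolynomial (Fin n) A)
  let μ : Q →+* MvPolynomial (Fin m) B := MvPolynomial.map α.toRingHom
  have hμ : Function.Surjective μ := MvPolynomial.map_surjective α.toRingHom hα
  have hkerμ : RingHom.ker μ = (RingHom.ker α.toRingHom).map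
      (MvPolynomial.C : MvPolynomial (Fin n) A →+* Q) := MvPolynomial.ker_map α.toRingHom
  have hCflat : (MvPolynomial.C : MvPolynomial (Fin n) A →+* Q).Flat := by
    have : (MvPolynomial.C : MvPolynomial (Fin n) A →+* Q) =
        algebraMap (MvPolynomial (Fin n) A) Q := rfl
    rw [this, RingHom.flat_algebraMap_iff]
    infer_instance
  have hKμ : LCI.IsKoszulRegularIdeal (RingHom.ker μ) := by
    rw [hkerμ]
    exact isKoszulRegularIdeal_map_of_flat _ hCflat _ hKα
  have h1 : RegImm.IsRegularImmersion .koszul (Spec.map (CommRingCat.ofHom μ)) :=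
    KzSpecDict.isRegularImmersion_of_ideal μ hμ hKμ
  have h2 : RegImm.IsRegularImmersion .koszul (Spec.map (CommRingCat.ofHom β.toRingHom)) :=
    KzSpecDict.isRegularImmersion_of_ideal β.toRingHom hβ hKβ
  have h3 := Groth.Agent.S8654.result _ _ h1 h2
  -- smoothness
  have hsmQ : Smooth (Spec.map (CommRingCat.ofHom (algebraMap A Q))) := by
    rw [HasRingHomProperty.Spec_iff (P := @Smooth)]
    haveI : Algebra.Smooth A (MvPolynomial (Fin n) A) := ⟨inferInstance, inferInstance⟩
    haveI : Algebra.Smooth (MvPolynomial (Fin n) A) Q := ⟨inferInstance, inferInstance⟩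
    have : Algebra.Smooth A Q := Algebra.Smooth.comp A (MvPolynomial (Fin n) A) Q
    exact RingHom.smooth_algebraMap.mpr this
  have hsmk : Smooth (Spec.map (CommRingCat.ofHom (algebraMap A (MvPolynomial (Fin k) A)))) := by
    rw [HasRingHomProperty.Spec_iff (P := @Smooth)]
    have : Algebra.Smooth A (MvPolynomial (Fin k) A) := ⟨inferInstance, inferInstance⟩
    exact RingHom.smooth_algebraMap.mpr this
  haveI : IsClosedImmersion (Spec.map (CommRingCat.ofHom γ.toRingHom)) :=
    IsClosedImmersion.spec_of_surjective _ hγ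
  have hcomm : (Spec.map (CommRingCat.ofHom β.toRingHom) ≫ Spec.map (CommRingCat.ofHom μ)) ≫
      Spec.map (CommRingCat.ofHom (algebraMap A Q)) =
      Spec.map (CommRingCat.ofHom γ.toRingHom) ≫
        Spec.map (CommRingCat.ofHom (algebraMap A (MvPolynomial (Fin k) A))) := by
    rw [← Spec.map_comp, ← Spec.map_comp, ← Spec.map_comp]
    congr 1
    ext a
    change β (μ (algebraMap A Q a)) = γ (algebraMap A _ a)
    rw [γ.commutes]
    have e1 : algebraMap A Q a = MvPolynomial.C (algebraMap A (MvPolynomial (Fin n) A) a) := rfl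
    have e2 : μ (MvPolynomial.C (algebraMap A (MvPolynomial (Fin n) A) a)) =
        MvPolynomial.C (α (algebraMap A (MvPolynomial (Fin n) A) a)) := MvPolynomial.map_C _ _
    rw [e1, e2, α.commutes, ← MvPolynomial.algebraMap_eq, β.commutes,
      ← IsScalarTower.algebraMap_apply]
  have hK := KzLCI.koszul_of_factorization _ _ h3 _ _ hcomm
  exact KzSpecDict.ideal_of_isRegularImmersion γ.toRingHom hγ hK

end Groth.Agent.Lib.R2H3.KzLCIComp
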