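import Mathlib
import Groth.Prelude.Def_RegImm
import Groth.Agent.Lib.R2H3KzLCIComp
import Groth.Agent.S9253

set_option autoImplicit false
set_option linter.style.haveILetI false
set_option linter.unusedVariables false
set_option linter.unusedSectionVars false
universe u

namespace Groth.Agent.Lib.R2H3.KzLCIEquiv

open AlgebraicGeometry CategoryTheory CategoryTheory.Limits

section N1
variable {X' X Z : Scheme.{u}}

/-- (N1) an open immersion followed by a Koszul-regular immersion is a Koszul-regular immersion. -/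
theorem koszul_openImmersion_comp (ι : X' ⟶ X) [IsOpenImmersion ι] (i : X ⟶ Z)
    (hi : RegImm.IsRegularImmersion .koszul i) : RegImm.IsRegularImmersion .koszul (ι ≫ i) := by
  haveI : IsImmersion i := hi.1
  refine ⟨inferInstance, fun x' => ?_⟩
  obtain ⟨⟨U₀, hU₀⟩, hxU₀, hcl, rs, hrs, hker⟩ := hi.2 (ι x')
  change i (ι x') ∈ U₀ at hxU₀
  change IsClosedImmersion (i ∣_ U₀) at hcl
  change LCI.IsKoszulRegularSeq Γ(Z, U₀) rs at hrs
  change RingHom.ker (i.app U₀).hom = Ideal.ofList rs at hker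
  obtain ⟨t, ht, htU⟩ := i.isEmbedding.isInducing.isOpen_iff.mp ι.opensRange.2
  let O : Z.Opens := ⟨t, ht⟩
  have hxO : i (ι x') ∈ O := by
    change ι x' ∈ i ⁻¹' t
    rw [htU]
    exact ⟨x', rfl⟩
  obtain ⟨f₀, hf₀le, hxf₀⟩ := hU₀.exists_basicOpen_le (V := U₀ ⊓ O) ⟨i (ι x'), ⟨hxU₀, hxO⟩⟩ hxU₀
  have hW : IsAffineOpen (Z.basicOpen f₀) := hU₀.basicOpen f₀
  have hWU₀ : Z.basicOpen f₀ ≤ U₀ := Z.basicOpen_le f₀
  have hpreU : i ⁻¹ᵁ Z.basicOpen f₀ ≤ ι.opensRange := by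
    intro y hy
    have h1 : i y ∈ O := (hf₀le hy).2
    have h2 : y ∈ i ⁻¹' t := h1
    rw [htU] at h2
    exact h2
  obtain ⟨hclW, fs', hlen, hfs', hkerW⟩ :=
    Groth.Agent.Lib.H9KoszulComp.restrict_data i U₀ hU₀ hcl rs hrs hker _ hW hWU₀
  have hiso : IsIso (ι ∣_ (i ⁻¹ᵁ Z.basicOpen f₀)) :=
    Groth.Agent.Helper13RL.isIso_restrict_of_le_opensRange ι _ hpreU
  have hcomp : (ι ≫ i) ∣_ Z.basicOpen f₀ =
      (ι ∣_ (i ⁻¹ᵁ Z.basicOpen f₀)) ≫ (i ∣_ Z.basicOpen f₀) := morphismRestrict_comp _ _ _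
  have hcl' : IsClosedImmersion ((ι ≫ i) ∣_ Z.basicOpen f₀) := by
    rw [hcomp]
    have hc1 : IsClosedImmersion (ι ∣_ (i ⁻¹ᵁ Z.basicOpen f₀)) :=
      @IsClosedImmersion.instOfIsIsoScheme _ _ _ hiso
    exact @IsClosedImmersion.comp _ _ _ _ _ hc1 hclW
  refine ⟨⟨Z.basicOpen f₀, hW⟩, hxf₀, hcl', fs', hfs', ?_⟩
  change RingHom.ker ((ι ≫ i).app (Z.basicOpen f₀)).hom = Ideal.ofList fs'
  rw [← hkerW]
  have happ : (ι ≫ i).app (Z.basicOpen f₀) =
      i.app (Z.basicOpen f₀) ≫ ι.app (i ⁻¹ᵁ Z.basicOpen f₀) := Scheme.Hom.comp_app _ _ _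
  haveI : IsIso (ι.app (i ⁻¹ᵁ Z.basicOpen f₀)) := Scheme.Hom.isIso_app ι _ hpreU
  have hinj : Function.Injective (ι.app (i ⁻¹ᵁ Z.basicOpen f₀)).hom :=
    (ConcreteCategory.bijective_of_isIso _).1
  ext z
  rw [RingHom.mem_ker, RingHom.mem_ker, happ]
  change (ι.app (i ⁻¹ᵁ Z.basicOpen f₀)).hom ((i.app (Z.basicOpen f₀)).hom z) = 0 ↔ _
  rw [map_eq_zero_iff _ hinj]

end N1

section N2
variable {X S : Scheme.{u}}

/-- (N2) finite type of the ring map of an affine chart inside an open where `f` is locally of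
finite type. -/
lemma finiteType_appLE_of_le (f : X ⟶ S) (W : X.Opens) (hW : LocallyOfFiniteType (W.ι ≫ f))
    (S₀ : S.Opens) (hS₀ : IsAffineOpen S₀) (X₀ : X.Opens) (hX₀ : IsAffineOpen X₀) (hXW : X₀ ≤ W)
    (hXS : X₀ ≤ f ⁻¹ᵁ S₀) : (f.appLE S₀ X₀ hXS).hom.FiniteType := by
  haveI : LocallyOfFiniteType (X₀.ι ≫ f) := by
    rw [← X.homOfLE_ι hXW, Category.assoc]
    infer_instance
  haveI : IsAffine (X₀ : Scheme.{u}) := hX₀
  have e : (⊤ : (X₀ : Scheme.{u}).Opens) ≤ (X₀.ι ≫ f) ⁻¹ᵁ S₀ := by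
    rintro ⟨t, ht⟩ -
    exact hXS ht
  have h1 := (X₀.ι ≫ f).finiteType_appLE hS₀ (isAffineOpen_top _) e
  have h2 : (X₀.ι ≫ f).appLE S₀ ⊤ e = f.appLE S₀ X₀ hXS ≫ X₀.ι.appLE X₀ ⊤ (by simp) :=
    (Scheme.Hom.appLE_comp_appLE _ _ _ _ _ _ _).symm
  rw [h2] at h1
  haveI : IsIso (X₀.ι.appLE X₀ ⊤ (by simp)) := by
    have h3 : X₀.ι.appLE X₀ ⊤ (by simp) = X₀.topIso.inv := by
      rw [Scheme.Opens.ι_appLE]
      exact congrArg X.presheaf.map (Subsingleton.elim _ _)
    rw [h3]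
    infer_instance
  exact (RingHom.finiteType_respectsIso.cancel_right_isIso _ _).mp h1

end N2


section Equiv
variable {X Y : Scheme.{u}}

lemma smooth_Spec_mvPolynomial (A : Type u) [CommRing A] (k : ℕ) :
    Smooth (Spec.map (CommRingCat.ofHom (algebraMap A (MvPolynomial (Fin k) A)))) := by
  rw [HasRingHomProperty.Spec_iff (P := @Smooth)]
  have : Algebra.Smooth A (MvPolynomial (Fin k) A) := ⟨inferInstance, inferInstance⟩
  exact RingHom.smooth_algebraMap.mpr this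

/-- (E'⇐) an affine chart on which `f` is given by a local complete intersection ring map makes `f`
Koszul at the points of the chart. -/
theorem isKoszulAt_of_isLCI (f : X ⟶ Y) (U : X.Opens) (hU : IsAffineOpen U) (V : Y.Opens)
    (hV : IsAffineOpen V) (e : U ≤ f ⁻¹ᵁ V) (x : X) (hx : x ∈ U)
    (h : letI := (f.appLE V U e).hom.toAlgebra; LCI.IsLCI Γ(Y, V) Γ(X, U)) :
    Synt.IsKoszulAt f x := by
  letI := (f.appLE V U e).hom.toAlgebra
  obtain ⟨hft, n, α, hα, hK⟩ := h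
  haveI : IsAffine (U : Scheme.{u}) := hU
  have hKα : RegImm.IsRegularImmersion .koszul (Spec.map (CommRingCat.ofHom α.toRingHom)) :=
    KzSpecDict.isRegularImmersion_of_ideal α.toRingHom hα hK
  have hi : RegImm.IsRegularImmersion .koszul
      (hU.isoSpec.hom ≫ Spec.map (CommRingCat.ofHom α.toRingHom)) :=
    koszul_openImmersion_comp _ _ hKα
  haveI : Smooth (Spec.map (CommRingCat.ofHom (algebraMap Γ(Y, V) (MvPolynomial (Fin n) Γ(Y, V))))) :=
    smooth_Spec_mvPolynomial _ n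
  have hcomm : (hU.isoSpec.hom ≫ Spec.map (CommRingCat.ofHom α.toRingHom)) ≫
      (Spec.map (CommRingCat.ofHom (algebraMap Γ(Y, V) (MvPolynomial (Fin n) Γ(Y, V)))) ≫
        hV.fromSpec) = U.ι ≫ f := by
    have h1 : Spec.map (CommRingCat.ofHom α.toRingHom) ≫
        Spec.map (CommRingCat.ofHom (algebraMap Γ(Y, V) (MvPolynomial (Fin n) Γ(Y, V)))) =
        Spec.map (f.appLE V U e) := by
      rw [← Spec.map_comp]
      congr 1
      ext a
      exact α.commutes a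
    rw [Category.assoc, ← Category.assoc (Spec.map (CommRingCat.ofHom α.toRingHom)), h1,
      IsAffineOpen.SpecMap_appLE_fromSpec f hV hU e, ← Category.assoc,
      IsAffineOpen.isoSpec_hom_fromSpec]
  refine ⟨U, _, _, _, hx, ?_, hi, inferInstance, hcomm⟩
  rw [← hcomm]
  haveI : IsImmersion (hU.isoSpec.hom ≫ Spec.map (CommRingCat.ofHom α.toRingHom)) := hi.1
  infer_instance

end Equiv


section Equiv2
variable {X Y : Scheme.{u}}
open TopologicalSpace

/-- (E'⇒) if `f` is Koszul at every point, then the ring map of every affine chart is a local complete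
intersection ring map. -/
theorem isLCI_of_isKoszulAt (f : X ⟶ Y) (hf : ∀ x : X, Synt.IsKoszulAt f x) (U : X.Opens)
    (hU : IsAffineOpen U) (V : Y.Opens) (hV : IsAffineOpen V) (e : U ≤ f ⁻¹ᵁ V) :
    letI := (f.appLE V U e).hom.toAlgebra; LCI.IsLCI Γ(Y, V) Γ(X, U) := by
  classical
  have key : ∀ x : U, ∃ c : Γ(X, U), (x : X) ∈ X.basicOpen c ∧
      (letI := (f.appLE V U e).hom.toAlgebra
       LCI.IsLCI Γ(Y, V) (Localization.Away c)) := by
    rintro ⟨x, hx⟩
    obtain ⟨Ux, P, i₀, π, hxUx, hlft, hi₀, hπ, hcomm⟩ := hf x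
    haveI := hπ
    obtain ⟨c, hcle, hxc⟩ := hU.exists_basicOpen_le (V := U ⊓ Ux) ⟨x, ⟨hx, hxUx⟩⟩ hx
    refine ⟨c, hxc, ?_⟩
    have hD : IsAffineOpen (X.basicOpen c) := hU.basicOpen c
    have hDU : X.basicOpen c ≤ U := X.basicOpen_le c
    have hDUx : X.basicOpen c ≤ Ux := hcle.trans inf_le_right
    have hDV : X.basicOpen c ≤ f ⁻¹ᵁ V := hDU.trans e
    letI algBD : Algebra Γ(Y, V) Γ(X, X.basicOpen c) := (f.appLE V (X.basicOpen c) hDV).hom.toAlgebra
    have hft : Algebra.FiniteType Γ(Y, V) Γ(X, X.basicOpen c) :=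
      finiteType_appLE_of_le f Ux hlft V hV _ hD hDUx hDV
    obtain ⟨k, γ, hγ⟩ := Algebra.FiniteType.iff_quotient_mvPolynomial''.mp hft
    haveI : IsAffine ((X.basicOpen c : X.Opens) : Scheme.{u}) := hD
    haveI : Smooth (Spec.map (CommRingCat.ofHom
        (algebraMap Γ(Y, V) (MvPolynomial (Fin k) Γ(Y, V))))) := smooth_Spec_mvPolynomial _ k
    haveI : IsClosedImmersion (Spec.map (CommRingCat.ofHom γ.toRingHom)) :=
      IsClosedImmersion.spec_of_surjective _ hγ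
    have hi₀' : RegImm.IsRegularImmersion .koszul (X.homOfLE hDUx ≫ i₀) :=
      koszul_openImmersion_comp _ _ hi₀
    have hcomm' : (X.homOfLE hDUx ≫ i₀) ≫ π =
        (hD.isoSpec.hom ≫ Spec.map (CommRingCat.ofHom γ.toRingHom)) ≫
          (Spec.map (CommRingCat.ofHom (algebraMap Γ(Y, V) (MvPolynomial (Fin k) Γ(Y, V)))) ≫
            hV.fromSpec) := by
      have h1 : Spec.map (CommRingCat.ofHom γ.toRingHom) ≫
          Spec.map (CommRingCat.ofHom (algebraMap Γ(Y, V) (MvPolynomial (Fin k) Γ(Y, V)))) =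
          Spec.map (f.appLE V (X.basicOpen c) hDV) := by
        rw [← Spec.map_comp]
        congr 1
        ext a
        exact γ.commutes a
      rw [Category.assoc, hcomm, ← Category.assoc, X.homOfLE_ι, Category.assoc,
        ← Category.assoc (Spec.map (CommRingCat.ofHom γ.toRingHom)), h1,
        IsAffineOpen.SpecMap_appLE_fromSpec f hV hD hDV, ← Category.assoc,
        IsAffineOpen.isoSpec_hom_fromSpec]
    have hKi := KzLCI.koszul_of_factorization (X.homOfLE hDUx ≫ i₀) π hi₀'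
      (Spec.map (CommRingCat.ofHom (algebraMap Γ(Y, V) (MvPolynomial (Fin k) Γ(Y, V)))) ≫
        hV.fromSpec) (hD.isoSpec.hom ≫ Spec.map (CommRingCat.ofHom γ.toRingHom)) hcomm'
    have hKγ : RegImm.IsRegularImmersion .koszul (Spec.map (CommRingCat.ofHom γ.toRingHom)) := by
      have := koszul_openImmersion_comp hD.isoSpec.inv _ hKi
      rwa [Iso.inv_hom_id_assoc] at this
    have h3 : LCI.IsLCI Γ(Y, V) Γ(X, X.basicOpen c) :=
      ⟨hft, k, γ, hγ, KzSpecDict.ideal_of_isRegularImmersion γ.toRingHom hγ hKγ⟩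
    letI algAS : Algebra Γ(Y, V) Γ(X, U) := (f.appLE V U e).hom.toAlgebra
    letI algSD : Algebra Γ(X, U) Γ(X, X.basicOpen c) :=
      (X.presheaf.map (homOfLE hDU).op).hom.toAlgebra
    haveI : IsLocalization.Away c Γ(X, X.basicOpen c) :=
      hU.isLocalization_of_eq_basicOpen c (homOfLE hDU) rfl
    haveI : IsScalarTower Γ(Y, V) Γ(X, U) Γ(X, X.basicOpen c) :=
      IsScalarTower.of_algebraMap_eq (fun a => by
        have h5 := Scheme.Hom.appLE_map f e (homOfLE hDU).op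
        exact (congr($h5 a)).symm)
    let ee : Γ(X, X.basicOpen c) ≃ₐ[Γ(X, U)] Localization.Away c :=
      IsLocalization.algEquiv (.powers c) _ _
    exact KzLCIComp.isLCI_of_algEquiv (ee.restrictScalars Γ(Y, V)) h3
  choose c hc₁ hc₂ using key
  have hspan : Ideal.span (Set.range c) = ⊤ := by
    rw [← hU.self_le_iSup_basicOpen_iff]
    intro x hx
    rw [iSup_range', Opens.mem_iSup]
    exact ⟨⟨x, hx⟩, hc₁ ⟨x, hx⟩⟩
  obtain ⟨t, ht₁, ht₂⟩ := (Ideal.span_eq_top_iff_finite _).mp hspan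
  letI := (f.appLE V U e).hom.toAlgebra
  let gg : Fin t.card → Γ(X, U) := fun j => (t.equivFin.symm j).1
  have hrange : Set.range gg = (t : Set Γ(X, U)) := by
    ext y
    constructor
    · rintro ⟨j, rfl⟩
      exact (t.equivFin.symm j).2
    · intro hy
      exact ⟨t.equivFin ⟨y, hy⟩, by simp [gg]⟩
  have hgg : Ideal.span (Set.range gg) = ⊤ := by rw [hrange]; exact ht₂
  refine Groth.Agent.S9253.result Γ(Y, V) Γ(X, U) t.card gg hgg (fun j => ?_)
  obtain ⟨x, hx⟩ := ht₁ (t.equivFin.symm j).2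
  have h6 := hc₂ x
  rw [hx] at h6
  exact h6

end Equiv2

end Groth.Agent.Lib.R2H3.KzLCIEquiv
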