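import Mathlib
import Groth.Prelude.Def_LCI2
import Groth.Agent.Lib.R2H3KzGen
import Groth.Agent.Lib.R2H3KzFBC
import Groth.Agent.Lib.R2H3KzEtDesc
import Groth.Agent.Lib.H9KoszulH1
import Groth.Agent.Lib.H9RegImmFlatBC
import Groth.Agent.Lib.R2LeadKzDescMain
import Groth.Agent.Lib.R2LeadKzDescFG

/-!
# Faithfully flat descent of Koszul-regular ideals: the main theorem (lead)
-/

set_option autoImplicit false
open TensorProduct CategoryTheory CategoryTheory.Limits CohIII

namespace Groth.Agent.Lib.R2LeadKzDescFin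

open Groth.Agent.Lib.R2LeadKzDescGen Groth.Agent.Lib.R2LeadKzDescMain Groth.Agent.Lib.R2LeadKzDescFG
open Groth.Agent.Helper13Kz

universe u

variable {A B : Type u} [CommRing A] [CommRing B] [Algebra A B]

lemma map_eq_of_unit {A R : Type u} [CommRing A] [CommRing R] (φ : A →+* R) (I I' : Ideal A)
    (hle : I' ≤ I) (g : A) (hg : IsUnit (φ g)) (h : ∀ x ∈ I, g * x ∈ I') :
    I'.map φ = I.map φ := by
  refine le_antisymm (Ideal.map_mono hle) (Ideal.map_le_iff_le_comap.mpr fun x hx => ?_)
  have h1 : φ (g * x) ∈ I'.map φ := Ideal.mem_map_of_mem φ (h x hx)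
  rw [map_mul] at h1
  exact (Ideal.unit_mul_mem_iff_mem _ hg).mp h1

lemma ofList_ofFn {d : ℕ} (f : Fin d → A) : Ideal.ofList (List.ofFn f) = Ideal.span (Set.range f) := by
  unfold Ideal.ofList
  congr 1
  ext x
  simp [List.mem_ofFn]

/-- the locus where the fibre rank of `I` is not `d` is closed in `V(I)`. -/
theorem isClosed_T [Module.FaithfullyFlat A B] (I : Ideal A)
    (hJ : LCI.IsKoszulRegularIdeal (I.map (algebraMap A B))) (d : ℕ) :
    IsClosed {p : PrimeSpectrum A | I ≤ p.asIdeal ∧ rho I p ≠ d} := by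
  have hflat : (algebraMap A B).Flat := RingHom.flat_algebraMap_iff.mpr inferInstance
  have hquot : Topology.IsQuotientMap (PrimeSpectrum.comap (algebraMap A B)) :=
    PrimeSpectrum.isQuotientMap_of_generalizingMap
      PrimeSpectrum.comap_surjective_of_faithfullyFlat hflat.generalizingMap_comap
  rw [← hquot.isClosed_preimage, ← isOpen_compl_iff, isOpen_iff_forall_mem_open]
  intro q hq
  have hle_iff : ∀ q' : PrimeSpectrum B,
      I ≤ (PrimeSpectrum.comap (algebraMap A B) q').asIdeal ↔
        I.map (algebraMap A B) ≤ q'.asIdeal := by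
    intro q'
    rw [Ideal.map_le_iff_le_comap]
    rfl
  by_cases hJq : I.map (algebraMap A B) ≤ q.asIdeal
  · obtain ⟨h, hh, l, hl, hspan⟩ := hJ q hJq
    have hd : l.length = d := by
      have h1 := rho_eq_length I q hJq h hh l hl hspan
      by_contra hne
      apply hq
      refine ⟨(hle_iff q).mpr hJq, ?_⟩
      rw [h1]
      exact hne
    refine ⟨(PrimeSpectrum.basicOpen h : Set _), ?_, (PrimeSpectrum.basicOpen h).isOpen, hh⟩
    intro q' hq' hmem
    obtain ⟨h1, h2⟩ := hmem
    apply h2
    rw [← hd]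
    exact rho_eq_length I q' ((hle_iff q').mp h1) h hq' l hl hspan
  · obtain ⟨y, hyJ, hyq⟩ := SetLike.not_le_iff_exists.mp hJq
    refine ⟨(PrimeSpectrum.basicOpen y : Set _), ?_, (PrimeSpectrum.basicOpen y).isOpen, hyq⟩
    intro q' hq' hmem
    exact hq' ((hle_iff q').mp hmem.1 hyJ)

/-- the local step: the Koszul cohomology of the chosen generators vanishes at the image of `q`. -/
theorem notMem_support_local [Module.Flat A B] (I : Ideal A) {d : ℕ} (f : Fin d → A) (g : A)
    (hfI : ∀ i, f i ∈ I) (hg : ∀ x ∈ I, g * x ∈ Ideal.span (Set.range f))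
    (q : PrimeSpectrum B) (hgq : algebraMap A B g ∉ q.asIdeal)
    (h : B) (hh : h ∉ q.asIdeal) (l : List (Localization.Away h))
    (hl : LCI.IsKoszulRegularSeq (Localization.Away h) l)
    (hspan : (I.map (algebraMap A B)).map (algebraMap B (Localization.Away h)) =
      Ideal.span {x | x ∈ l})
    (hlen : l.length = d) (i : ℤ) (hi : i ≠ 0) :
    PrimeSpectrum.comap (algebraMap A B) q ∉
      Module.support A ((koszulCx (ModuleCat.of A A) (List.ofFn f)).homology i) := by
  set R := Localization.AtPrime q.asIdeal with hR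
  haveI : Module.Flat B R := IsLocalization.flat R q.asIdeal.primeCompl
  haveI : Module.Flat A R := Module.Flat.trans A B R
  have hunit : IsUnit (algebraMap B R h) :=
    IsLocalization.map_units R (⟨h, hh⟩ : q.asIdeal.primeCompl)
  let ψ : Localization.Away h →+* R := IsLocalization.Away.lift h hunit
  letI : Algebra (Localization.Away h) R := ψ.toAlgebra
  haveI : IsScalarTower B (Localization.Away h) R :=
    IsScalarTower.of_algebraMap_eq (fun b => (IsLocalization.Away.lift_eq h hunit b).symm)
  have hle : Submonoid.powers h ≤ q.asIdeal.primeCompl := by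
    rw [Submonoid.powers_le]
    exact hh
  haveI : IsLocalization (q.asIdeal.primeCompl.map (algebraMap B (Localization.Away h))) R :=
    IsLocalization.isLocalization_of_submonoid_le (Localization.Away h) R _ _ hle
  haveI : Module.Flat (Localization.Away h) R :=
    IsLocalization.flat R (q.asIdeal.primeCompl.map (algebraMap B (Localization.Away h)))
  have hL1 : LCI.IsKoszulRegularSeq R (l.map (algebraMap (Localization.Away h) R)) :=
    Groth.Agent.Lib.H9RegImmFlatBC.isKoszulRegularSeq_map (algebraMap (Localization.Away h) R)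
      (RingHom.flat_algebraMap_iff.mpr inferInstance) l hl
  have hI1 : Ideal.ofList (l.map (algebraMap (Localization.Away h) R)) =
      I.map (algebraMap A R) := by
    rw [← Ideal.map_ofList]
    unfold Ideal.ofList
    rw [← hspan, Ideal.map_map, Ideal.map_map, ← IsScalarTower.algebraMap_eq B,
      ← IsScalarTower.algebraMap_eq A B R]
  have hgunit : IsUnit (algebraMap A R g) := by
    rw [IsScalarTower.algebraMap_apply A B R]
    exact IsLocalization.map_units R (⟨algebraMap A B g, hgq⟩ : q.asIdeal.primeCompl)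
  have hI2 : Ideal.ofList ((List.ofFn f).map (algebraMap A R)) = I.map (algebraMap A R) := by
    rw [← Ideal.map_ofList, ofList_ofFn]
    refine map_eq_of_unit _ I _ ?_ g hgunit hg
    rw [Ideal.span_le]
    rintro _ ⟨j, rfl⟩
    exact hfI j
  have hL2 : LCI.IsKoszulRegularSeq R ((List.ofFn f).map (algebraMap A R)) :=
    Groth.Agent.Lib.R2H3.KzGen.isKoszulRegularSeq_of_same_length _ _ hL1 (by simp [hlen])
      (hI2.trans hI1.symm)
  have hsub := (Groth.Agent.Lib.R2H3.KzEtDesc.koszulRegular_iff_tensor (S := A) (T := R)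
    (List.ofFn f)).mp hL2 i hi
  refine R2LeadKzDescSupp.notMem_support_of_subsingleton_tensor _ R hsub (IsLocalRing.maximalIdeal R)
    Ideal.IsPrime.ne_top' _ ?_
  rw [PrimeSpectrum.comap_asIdeal, IsScalarTower.algebraMap_eq A B R, ← Ideal.comap_comap]
  congr 1
  exact (Localization.AtPrime.comap_maximalIdeal (I := q.asIdeal)).symm

/-- **Faithfully flat descent of Koszul-regular ideals.** -/
theorem main [Module.FaithfullyFlat A B] (I : Ideal A)
    (hJ : LCI.IsKoszulRegularIdeal (I.map (algebraMap A B))) : LCI.IsKoszulRegularIdeal I := by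
  intro p hIp
  have hIfg : I.FG := fg_of_map_fg I (fg_of_isKoszulRegularIdeal _ hJ)
  obtain ⟨f, g, hfI, hgp, hg⟩ := exists_generators I hIfg p
  have hT := isClosed_T I hJ (rho I p)
  have hpT : p ∈ {p' : PrimeSpectrum A | I ≤ p'.asIdeal ∧ rho I p' ≠ rho I p}ᶜ := fun h => h.2 rfl
  obtain ⟨_, ⟨g'', rfl⟩, hpg'', hsub⟩ :=
    PrimeSpectrum.isTopologicalBasis_basic_opens.exists_subset_of_mem_open hpT hT.isOpen_compl
  have hfle : Ideal.span (Set.range f) ≤ I := by
    rw [Ideal.span_le]
    rintro _ ⟨j, rfl⟩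
    exact hfI j
  refine ⟨g * g'', ?_, (List.ofFn f).map (algebraMap A (Localization.Away (g * g''))), ?_, ?_⟩
  · exact p.2.mul_notMem hgp hpg''
  · rw [Groth.Agent.Lib.R2H3.KzEtDesc.koszulRegular_iff_tensor]
    intro i hi
    apply R2LeadKzDescSupp.subsingleton_tensor_away
    intro p' hp'
    have hgp' : g ∉ p'.asIdeal := fun h => hp' (Ideal.mul_mem_right _ _ h)
    have hg''p' : g'' ∉ p'.asIdeal := fun h => hp' (Ideal.mul_mem_left _ _ h)
    by_cases hIp' : I ≤ p'.asIdeal
    · have hrho : rho I p' = rho I p := by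
        by_contra hne
        exact hsub hg''p' ⟨hIp', hne⟩
      obtain ⟨q, rfl⟩ := PrimeSpectrum.comap_surjective_of_faithfullyFlat (B := B) p'
      have hJq : I.map (algebraMap A B) ≤ q.asIdeal := Ideal.map_le_iff_le_comap.mpr hIp'
      obtain ⟨h, hh, l, hl, hspan⟩ := hJ q hJq
      have hlen : l.length = rho I p :=
        (rho_eq_length I q hJq h hh l hl hspan).symm.trans hrho
      exact notMem_support_local I f g hfI hg q hgp' h hh l hl hspan hlen i hi
    · obtain ⟨x, hxI, hxp'⟩ := SetLike.not_le_iff_exists.mp hIp'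
      rw [Module.notMem_support_iff']
      intro m
      refine ⟨g * x, p'.2.mul_notMem hgp' hxp', ?_⟩
      refine Groth.Agent.Lib.R2H3.KzGen.smul_eq_zero_of_mem (List.ofFn f) (g * x) ?_ i m
      have := hg x hxI
      rw [← ofList_ofFn] at this
      exact this
  · have hgunit : IsUnit (algebraMap A (Localization.Away (g * g'')) g) := by
      have h1 := IsLocalization.Away.algebraMap_isUnit (S := Localization.Away (g * g'')) (g * g'')
      rw [map_mul] at h1
      exact isUnit_of_mul_isUnit_left h1
    have h2 := map_eq_of_unit (algebraMap A (Localization.Away (g * g''))) I _ hfle g hgunit hg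
    rw [← h2, ← ofList_ofFn, Ideal.map_ofList]

end Groth.Agent.Lib.R2LeadKzDescFin
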