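import Mathlib
import Groth.Prelude.Def_RegImm
import Groth.Agent.Lib.H9RegImmFlatBC
import Groth.Agent.Lib.R2H3KzSpecDict
import Groth.Agent.Lib.R2LeadKzDescFin

/-!
# fpqc descent of Koszul-regular immersions: affine case (lead)
-/

set_option autoImplicit false
universe u

open CategoryTheory CategoryTheory.Limits AlgebraicGeometry

namespace Groth.Agent.Lib.R2LeadKzFpqcA

/-- regular immersions between affine schemes can be tested on the map of spectra. -/
theorem isRegularImmersion_spec_iff {Z X : Scheme.{u}} [IsAffine Z] [IsAffine X] (j : Z ⟶ X)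
    (k : RegImm.Kind) :
    RegImm.IsRegularImmersion k j ↔ RegImm.IsRegularImmersion k (Spec.map j.appTop) := by
  constructor
  · intro h
    have hsq : IsPullback Z.isoSpec.inv (Spec.map j.appTop) j X.isoSpec.inv :=
      IsPullback.of_horiz_isIso ⟨(Scheme.isoSpec_inv_naturality j).symm⟩
    exact Groth.Agent.Lib.H9RegImmFlatBC.isRegularImmersion_of_isPullback j X.isoSpec.inv
      (Spec.map j.appTop) Z.isoSpec.inv hsq k h
  · intro h
    have hsq : IsPullback Z.isoSpec.hom j (Spec.map j.appTop) X.isoSpec.hom :=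
      IsPullback.of_horiz_isIso ⟨Scheme.isoSpec_hom_naturality j⟩
    exact Groth.Agent.Lib.H9RegImmFlatBC.isRegularImmersion_of_isPullback (Spec.map j.appTop)
      X.isoSpec.hom j Z.isoSpec.hom hsq k h

/-- the kernel of a composite with an injective map. -/
lemma ker_comp_of_injective {R S T : Type u} [CommRing R] [CommRing S] [CommRing T]
    (f : R →+* S) (g : S →+* T) (hg : Function.Injective g) :
    RingHom.ker (g.comp f) = RingHom.ker f := by
  ext x
  rw [RingHom.mem_ker, RingHom.mem_ker, RingHom.comp_apply]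
  exact ⟨fun h => hg (h.trans (map_zero g).symm), fun h => by rw [h, map_zero]⟩

/-- being a regular immersion at a point is local on the target. -/
theorem isRegularImmersionAt_of_restrict {Z X : Scheme.{u}} (i : Z ⟶ X) (U : X.Opens)
    (k : RegImm.Kind) (z : (i ⁻¹ᵁ U).toScheme) (h : RegImm.IsRegularImmersionAt k (i ∣_ U) z) :
    RegImm.IsRegularImmersionAt k i z.1 := by
  obtain ⟨⟨W, hW⟩, hzW, hcl, rs, hrs, hker⟩ := h
  change (i ∣_ U) z ∈ W at hzW
  change IsClosedImmersion ((i ∣_ U) ∣_ W) at hcl
  change RingHom.ker ((i ∣_ U).app W).hom = Ideal.ofList rs at hker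
  have hU₁ : IsAffineOpen (U.ι ''ᵁ W) := hW.image_of_isOpenImmersion U.ι
  refine ⟨⟨U.ι ''ᵁ W, hU₁⟩, ?_, ?_, rs, hrs, ?_⟩
  · refine ⟨(i ∣_ U) z, hzW, ?_⟩
    exact morphismRestrict_base_coe i U z
  · exact (MorphismProperty.arrow_mk_iso_iff @IsClosedImmersion
      (morphismRestrictRestrict i U W)).mp hcl
  · change RingHom.ker (i.app (U.ι ''ᵁ W)).hom = Ideal.ofList rs
    rw [← hker, morphismRestrict_app i U W]
    have hinj : Function.Injective
        (Z.presheaf.map (eqToHom (image_morphismRestrict_preimage i U W)).op).hom :=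
      (ConcreteCategory.bijective_of_isIso
        (Z.presheaf.map (eqToHom (image_morphismRestrict_preimage i U W)).op)).1
    exact (ker_comp_of_injective _ _ hinj).symm

/-- **Affine case**: descent of Koszul-regular closed immersions along a faithfully flat map of
affine schemes. -/
theorem affine_descent {Z X W ZW : Scheme.{u}} [IsAffine X] [IsAffine W] (j : Z ⟶ X)
    [IsClosedImmersion j] (r : W ⟶ X) [Flat r] [Surjective r] (jW : ZW ⟶ W) (r' : ZW ⟶ Z)
    (hsq : IsPullback r' jW j r) (h : RegImm.IsRegularImmersion .koszul jW) :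
    RegImm.IsRegularImmersion .koszul j := by
  haveI : IsAffine Z := (IsClosedImmersion.isAffine_surjective_of_isAffine j).1
  haveI : IsClosedImmersion jW :=
    MorphismProperty.of_isPullback (P := @IsClosedImmersion) hsq inferInstance
  haveI : IsAffine ZW := (IsClosedImmersion.isAffine_surjective_of_isAffine jW).1
  rw [isRegularImmersion_spec_iff] at h ⊢
  have hsurj : Function.Surjective j.appTop.hom :=
    (IsClosedImmersion.isAffine_surjective_of_isAffine j).2
  have hsurjW : Function.Surjective jW.appTop.hom :=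
    (IsClosedImmersion.isAffine_surjective_of_isAffine jW).2
  have hIW := Groth.Agent.Lib.R2H3.KzSpecDict.ideal_of_isRegularImmersion jW.appTop.hom hsurjW h
  have hcl : IsClosedImmersion (j ∣_ ⊤) :=
    IsZariskiLocalAtTarget.restrict (P := @IsClosedImmersion) inferInstance ⊤
  obtain ⟨-, hker⟩ := Groth.Agent.Lib.H9RegImmFlatBC.isClosedImmersion_and_ker j r jW r' hsq ⊤
    (isAffineOpen_top X) hcl ⊤ (isAffineOpen_top W) le_top
  have hff : r.appTop.hom.FaithfullyFlat :=
    (Flat.flat_and_surjective_iff_faithfullyFlat_of_isAffine r).mp ⟨inferInstance, inferInstance⟩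
  have happ : (r.appLE ⊤ ⊤ le_top).hom = r.appTop.hom := by
    rw [Scheme.Hom.appTop, ← Scheme.Hom.appLE_eq_app]
    rfl
  rw [happ] at hker
  algebraize [r.appTop.hom]
  refine Groth.Agent.Lib.R2H3.KzSpecDict.isRegularImmersion_of_ideal j.appTop.hom hsurj ?_
  refine Groth.Agent.Lib.R2LeadKzDescFin.main (A := Γ(X, ⊤)) (B := Γ(W, ⊤)) _ ?_
  have : Ideal.map (algebraMap Γ(X, ⊤) Γ(W, ⊤)) (RingHom.ker j.appTop.hom) =
      RingHom.ker jW.appTop.hom := hker.symm
  rw [this]
  exact hIW

end Groth.Agent.Lib.R2LeadKzFpqcA
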