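import Mathlib
import Groth.Prelude.Def_RegImm
import Groth.Agent.Lib.Helper5RegImm2
import Groth.Agent.Lib.R2LeadKzFpqcA

/-!
# fpqc descent of Koszul-regular immersions (lead)
-/

set_option autoImplicit false
set_option linter.style.haveILetI false
universe u

open CategoryTheory CategoryTheory.Limits AlgebraicGeometry

namespace Groth.Agent.Lib.R2LeadKzFpqcB

open Groth.Agent.Lib.R2LeadKzFpqcA

/-- **fpqc descent of Koszul-regular immersions.** -/
theorem main {X Y X' Y' : Scheme.{u}} (i : Y ⟶ X) [IsImmersion i]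
    (g : X' ⟶ X) [Flat g] [Surjective g] [QuasiCompact g]
    (i' : Y' ⟶ X') (g' : Y' ⟶ Y) (hsq : IsPullback g' i' i g)
    (hi' : RegImm.IsRegularImmersion .koszul i') : RegImm.IsRegularImmersion .koszul i := by
  refine ⟨inferInstance, fun y => ?_⟩
  have hy : i y ∈ i.coborderRange := subset_coborder ⟨y, rfl⟩
  obtain ⟨_, ⟨(U : X.Opens), hU, rfl⟩, hyU, hUle⟩ :=
    X.isBasis_affineOpens.exists_subset_of_mem_open hy i.coborderRange.isOpen
  haveI hcl : IsClosedImmersion (i ∣_ U) :=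
    Groth.Agent.Lib.Helper5.RegImm.isClosedImmersion_morphismRestrict_of_le_coborderRange i U hUle
  haveI : IsAffine U.toScheme := hU
  haveI : Flat (g ∣_ U) := IsZariskiLocalAtTarget.restrict (P := @Flat) inferInstance U
  haveI : Surjective (g ∣_ U) := IsZariskiLocalAtTarget.restrict (P := @Surjective) inferInstance U
  haveI : CompactSpace (g ⁻¹ᵁ U).toScheme := QuasiCompact.compactSpace_of_compactSpace (g ∣_ U)
  let 𝒰 : (g ⁻¹ᵁ U).toScheme.OpenCover := (g ⁻¹ᵁ U).toScheme.affineCover.finiteSubcover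
  let p : (∐ 𝒰.X) ⟶ (g ⁻¹ᵁ U).toScheme := Sigma.desc 𝒰.f
  haveI : IsAffine (∐ 𝒰.X) := inferInstance
  haveI : Flat p := inferInstance
  haveI : Surjective p := inferInstance
  obtain ⟨r, hr⟩ : ∃ r : (∐ 𝒰.X) ⟶ U.toScheme, r = p ≫ (g ∣_ U) := ⟨_, rfl⟩
  obtain ⟨h, hh⟩ : ∃ h : (∐ 𝒰.X) ⟶ X', h = p ≫ (g ⁻¹ᵁ U).ι := ⟨_, rfl⟩
  have hrh : r ≫ U.ι = h ≫ g := by
    rw [hr, hh, Category.assoc, Category.assoc, morphismRestrict_ι]
  haveI : Flat r := hr ▸ inferInstance
  haveI : Surjective r := hr ▸ inferInstance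
  haveI : Flat h := hh ▸ inferInstance
  let jW : pullback (i ∣_ U) r ⟶ (∐ 𝒰.X) := pullback.snd (i ∣_ U) r
  have hw : (pullback.fst (i ∣_ U) r ≫ (i ⁻¹ᵁ U).ι) ≫ i = (jW ≫ h) ≫ g := by
    rw [Category.assoc, ← morphismRestrict_ι, ← Category.assoc, pullback.condition,
      Category.assoc, Category.assoc, hrh]
  let t : pullback (i ∣_ U) r ⟶ Y' :=
    hsq.lift (pullback.fst (i ∣_ U) r ≫ (i ⁻¹ᵁ U).ι) (jW ≫ h) hw
  have hleft : IsPullback t jW i' h := by
    refine IsPullback.of_right ?_ (hsq.lift_snd _ _ _) hsq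
    rw [hsq.lift_fst, ← hrh]
    exact (IsPullback.of_hasPullback (i ∣_ U) r).paste_horiz (isPullback_morphismRestrict i U).flip
  have hjW : RegImm.IsRegularImmersion .koszul jW :=
    Groth.Agent.Lib.H9RegImmFlatBC.isRegularImmersion_of_isPullback i' h jW t hleft .koszul hi'
  have hj : RegImm.IsRegularImmersion .koszul (i ∣_ U) :=
    affine_descent (i ∣_ U) r jW (pullback.fst (i ∣_ U) r) (IsPullback.of_hasPullback (i ∣_ U) r) hjW
  exact isRegularImmersionAt_of_restrict i U .koszul ⟨y, hyU⟩ (hj.2 ⟨y, hyU⟩)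

end Groth.Agent.Lib.R2LeadKzFpqcB
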