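import Mathlib
import Groth.Prelude.Def_RegImm
import Groth.Agent.S8656
import Groth.Agent.Lib.R2LeadKzFpqcB
import Groth.Agent.Lib.R2LeadKzFpqcC

/-!
# fpqc descent of "Koszul at every point" (lead)
-/

set_option autoImplicit false
set_option linter.style.haveILetI false
universe u

open CategoryTheory CategoryTheory.Limits AlgebraicGeometry

namespace Groth.Agent.Lib.R2LeadKzFpqcD

open Groth.Agent.Lib.R2LeadKzFpqcC

theorem smooth_spec_C (R : Type u) [CommRing R] (k : ℕ) :
    Smooth (Spec.map (CommRingCat.ofHom (algebraMap R (MvPolynomial (Fin k) R)))) := by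
  rw [HasRingHomProperty.Spec_iff (P := @Smooth)]
  have : Algebra.Smooth R (MvPolynomial (Fin k) R) := ⟨inferInstance, inferInstance⟩
  exact RingHom.smooth_algebraMap.mpr this

/-- the chart of a finite-type morphism given by a polynomial presentation. -/
theorem exists_chart {X S : Scheme.{u}} (f : X ⟶ S) (U : X.Opens) (V : S.Opens)
    (hU : IsAffineOpen U) (hV : IsAffineOpen V) (e : U ≤ f ⁻¹ᵁ V) (n : ℕ)
    (α : MvPolynomial (Fin n) Γ(S, V) →+* Γ(X, U))
    (hαC : α.comp (algebraMap Γ(S, V) (MvPolynomial (Fin n) Γ(S, V))) = (f.appLE V U e).hom) :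
    ∃ (π : Spec (CommRingCat.of (MvPolynomial (Fin n) Γ(S, V))) ⟶ S), Smooth π ∧
      (Spec.map (CommRingCat.ofHom α)) ≫ π = hU.fromSpec ≫ f := by
  haveI := smooth_spec_C Γ(S, V) n
  refine ⟨Spec.map (CommRingCat.ofHom (algebraMap Γ(S, V) (MvPolynomial (Fin n) Γ(S, V)))) ≫
    hV.fromSpec, inferInstance, ?_⟩
  rw [← IsAffineOpen.SpecMap_appLE_fromSpec f hV hU e, ← Category.assoc, ← Spec.map_comp]
  congr 2
  ext a
  exact congrArg (fun φ => φ a) hαC

/-- **fpqc descent of local complete intersection morphisms (factorisation form).** -/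
theorem main {X Y X' Y' : Scheme.{u}} (f : X ⟶ Y) (g : Y' ⟶ Y) [Flat g] [Surjective g]
    [QuasiCompact g] (f' : X' ⟶ Y') (g' : X' ⟶ X) (hsq : IsPullback g' f' f g)
    (hf' : ∀ x' : X', Synt.IsKoszulAt f' x') : ∀ x : X, Synt.IsKoszulAt f x := by
  -- `f'` is locally of finite type
  have hlft' : LocallyOfFiniteType f' := by
    choose U' P' i' π' hx' hl' _ _ _ using hf'
    refine IsZariskiLocalAtSource.of_iSup_eq_top (P := @LocallyOfFiniteType) U' ?_ hl'
    rw [eq_top_iff]
    intro x' _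
    exact TopologicalSpace.Opens.mem_iSup.mpr ⟨x', hx' x'⟩
  -- hence so is `f`
  have hlft : LocallyOfFiniteType f :=
    MorphismProperty.of_isPullback_of_descendsAlong (P := @LocallyOfFiniteType)
      (Q := @Surjective ⊓ @Flat ⊓ @QuasiCompact) hsq.flip ⟨⟨inferInstance, inferInstance⟩, inferInstance⟩ hlft'
  intro x
  -- an affine chart
  obtain ⟨_, ⟨(V : Y.Opens), hV, rfl⟩, hxV, -⟩ :=
    Y.isBasis_affineOpens.exists_subset_of_mem_open (Set.mem_univ (f x)) isOpen_univ
  obtain ⟨_, ⟨(U : X.Opens), hU, rfl⟩, hxU, hUV⟩ :=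
    X.isBasis_affineOpens.exists_subset_of_mem_open (show x ∈ f ⁻¹ᵁ V from hxV) (f ⁻¹ᵁ V).isOpen
  have e : U ≤ f ⁻¹ᵁ V := hUV
  have hft : (f.appLE V U e).hom.FiniteType :=
    HasRingHomProperty.appLE (P := @LocallyOfFiniteType) f hlft ⟨V, hV⟩ ⟨U, hU⟩ e
  letI := (f.appLE V U e).hom.toAlgebra
  have hft' : Algebra.FiniteType Γ(Y, V) Γ(X, U) := hft
  obtain ⟨n, α, hα⟩ := Algebra.FiniteType.iff_quotient_mvPolynomial''.mp hft'
  have hαC : α.toRingHom.comp (algebraMap Γ(Y, V) (MvPolynomial (Fin n) Γ(Y, V))) =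
      (f.appLE V U e).hom := by
    ext a
    exact α.commutes a
  obtain ⟨π, hπ, hcomm⟩ := exists_chart f U V hU hV e n α.toRingHom hαC
  haveI := hπ
  haveI : IsAffine U.toScheme := hU
  haveI hclα : IsClosedImmersion (Spec.map (CommRingCat.ofHom α.toRingHom)) :=
    IsClosedImmersion.spec_of_surjective _ hα
  -- the immersion of the chart
  obtain ⟨i, hi⟩ : ∃ i : (U : Scheme.{u}) ⟶ Spec (CommRingCat.of (MvPolynomial (Fin n) Γ(Y, V))),
    i = hU.isoSpec.hom ≫ Spec.map (CommRingCat.ofHom α.toRingHom) := ⟨_, rfl⟩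
  haveI : IsClosedImmersion i := hi ▸ inferInstance
  have hiπ : i ≫ π = U.ι ≫ f := by
    rw [hi, Category.assoc, hcomm, IsAffineOpen.isoSpec_hom_fromSpec_assoc]
  refine ⟨U, _, i, π, hxU, inferInstance, ?_, hπ, hiπ⟩
  -- descent along the base change of `g` to the chart
  refine Groth.Agent.Lib.R2LeadKzFpqcB.main i (pullback.fst π g) (pullback.snd i (pullback.fst π g))
    (pullback.fst i (pullback.fst π g)) (IsPullback.of_hasPullback _ _) ?_
  -- the big square
  have hbig : IsPullback (pullback.fst i (pullback.fst π g))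
      (pullback.snd i (pullback.fst π g) ≫ pullback.snd π g) (U.ι ≫ f) g := by
    rw [← hiπ]
    exact (IsPullback.of_hasPullback i (pullback.fst π g)).paste_vert
      (IsPullback.of_hasPullback π g)
  have htop := IsPullback.of_bot' hbig hsq
  set ιW := hsq.lift (pullback.fst i (pullback.fst π g) ≫ U.ι)
    (pullback.snd i (pullback.fst π g) ≫ pullback.snd π g) (by rw [Category.assoc, hbig.w])
    with hιW
  haveI : IsOpenImmersion ιW :=
    MorphismProperty.of_isPullback (P := @IsOpenImmersion) htop inferInstance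
  have hιWf : ιW ≫ f' = pullback.snd i (pullback.fst π g) ≫ pullback.snd π g :=
    hsq.lift_snd _ _ _
  refine Groth.Agent.S8656.result (pullback.snd i (pullback.fst π g) ≫ pullback.snd π g) ?_
    (pullback.snd π g) (pullback.snd i (pullback.fst π g)) rfl
  intro w
  rw [← hιWf]
  exact isKoszulAt_of_openImmersion_comp ιW f' w (hf' (ιW w))

end Groth.Agent.Lib.R2LeadKzFpqcD
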