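import Mathlib
import Groth.Prelude.Def_RegImm
import Groth.Prelude.Def_LCI2
import Groth.Agent.S8656
import Groth.Agent.Lib.Helper13RegImm
import Groth.Agent.Lib.R2H3KzSpecDict
import Groth.Agent.Lib.R2LeadKzFpqcD

/-!
# Dictionary: affine-local lci ring maps vs. Koszul at every point (lead)
-/

set_option autoImplicit false
set_option linter.style.haveILetI false
universe u

open CategoryTheory CategoryTheory.Limits AlgebraicGeometry

namespace Groth.Agent.Lib.R2LeadKzFpqcE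

open Groth.Agent.Lib.R2LeadKzFpqcC Groth.Agent.Lib.R2LeadKzFpqcD

/-- affine-locally lci ring maps ⟹ Koszul at every point. -/
theorem isKoszulAt_of_isLCI {X S : Scheme.{u}} (f : X ⟶ S)
    (hf : ∀ (U : X.Opens) (V : S.Opens) (hU : IsAffineOpen U) (hV : IsAffineOpen V)
      (hUV : U ≤ f ⁻¹ᵁ V),
        letI := (f.appLE V U hUV).hom.toAlgebra
        LCI.IsLCI Γ(S, V) Γ(X, U)) (x : X) : Synt.IsKoszulAt f x := by
  obtain ⟨_, ⟨(V : S.Opens), hV, rfl⟩, hxV, -⟩ :=
    S.isBasis_affineOpens.exists_subset_of_mem_open (Set.mem_univ (f x)) isOpen_univ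
  obtain ⟨_, ⟨(U : X.Opens), hU, rfl⟩, hxU, hUV⟩ :=
    X.isBasis_affineOpens.exists_subset_of_mem_open (show x ∈ f ⁻¹ᵁ V from hxV) (f ⁻¹ᵁ V).isOpen
  have e : U ≤ f ⁻¹ᵁ V := hUV
  have h := hf U V hU hV e
  letI := (f.appLE V U e).hom.toAlgebra
  obtain ⟨-, n, α, hα, hK⟩ := h
  have hαC : α.toRingHom.comp (algebraMap Γ(S, V) (MvPolynomial (Fin n) Γ(S, V))) =
      (f.appLE V U e).hom := by
    ext a
    exact α.commutes a
  obtain ⟨π, hπ, hcomm⟩ := exists_chart f U V hU hV e n α.toRingHom hαC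
  haveI := hπ
  haveI : IsAffine U.toScheme := hU
  haveI hclα : IsClosedImmersion (Spec.map (CommRingCat.ofHom α.toRingHom)) :=
    IsClosedImmersion.spec_of_surjective _ hα
  obtain ⟨i, hi⟩ : ∃ i : (U : Scheme.{u}) ⟶ Spec (CommRingCat.of (MvPolynomial (Fin n) Γ(S, V))),
    i = hU.isoSpec.hom ≫ Spec.map (CommRingCat.ofHom α.toRingHom) := ⟨_, rfl⟩
  haveI : IsClosedImmersion i := hi ▸ inferInstance
  have hiπ : i ≫ π = U.ι ≫ f := by
    rw [hi, Category.assoc, hcomm, IsAffineOpen.isoSpec_hom_fromSpec_assoc]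
  have hreg : RegImm.IsRegularImmersion .koszul i := by
    rw [hi]
    exact Groth.Agent.Helper13RegImm.isRegularImmersion_iso_comp _ _ .koszul
      (Groth.Agent.Lib.R2H3.KzSpecDict.isRegularImmersion_of_ideal α.toRingHom hα hK)
  refine ⟨U, _, i, π, hxU, ?_, hreg, hπ, hiπ⟩
  rw [← hiπ]
  infer_instance

/-- Koszul at every point ⟹ affine-locally lci ring maps. -/
theorem isLCI_of_isKoszulAt {X S : Scheme.{u}} (f : X ⟶ S) (hf : ∀ x : X, Synt.IsKoszulAt f x)
    (U : X.Opens) (V : S.Opens) (hU : IsAffineOpen U) (hV : IsAffineOpen V)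
    (hUV : U ≤ f ⁻¹ᵁ V) :
    letI := (f.appLE V U hUV).hom.toAlgebra
    LCI.IsLCI Γ(S, V) Γ(X, U) := by
  have hlft : LocallyOfFiniteType f := by
    choose U' P' i' π' hx' hl' _ _ _ using hf
    refine IsZariskiLocalAtSource.of_iSup_eq_top (P := @LocallyOfFiniteType) U' ?_ hl'
    rw [eq_top_iff]
    intro x' _
    exact TopologicalSpace.Opens.mem_iSup.mpr ⟨x', hx' x'⟩
  have hft : (f.appLE V U hUV).hom.FiniteType :=
    HasRingHomProperty.appLE (P := @LocallyOfFiniteType) f hlft ⟨V, hV⟩ ⟨U, hU⟩ hUV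
  letI := (f.appLE V U hUV).hom.toAlgebra
  have hft' : Algebra.FiniteType Γ(S, V) Γ(X, U) := hft
  obtain ⟨n, α, hα⟩ := Algebra.FiniteType.iff_quotient_mvPolynomial''.mp hft'
  refine ⟨hft', n, α, hα, ?_⟩
  have hαC : α.toRingHom.comp (algebraMap Γ(S, V) (MvPolynomial (Fin n) Γ(S, V))) =
      (f.appLE V U hUV).hom := by
    ext a
    exact α.commutes a
  obtain ⟨π, hπ, hcomm⟩ := exists_chart f U V hU hV hUV n α.toRingHom hαC
  haveI := hπ
  haveI hclα : IsClosedImmersion (Spec.map (CommRingCat.ofHom α.toRingHom)) :=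
    IsClosedImmersion.spec_of_surjective _ hα
  have hreg : RegImm.IsRegularImmersion .koszul (Spec.map (CommRingCat.ofHom α.toRingHom)) :=
    Groth.Agent.S8656.result (hU.fromSpec ≫ f)
      (fun z => isKoszulAt_of_openImmersion_comp hU.fromSpec f z (hf _)) π _ hcomm
  exact Groth.Agent.Lib.R2H3.KzSpecDict.ideal_of_isRegularImmersion α.toRingHom hα hreg

end Groth.Agent.Lib.R2LeadKzFpqcE
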