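import Mathlib
import Groth.Prelude.Def_Koszul

/-!
# Koszul complex of a scaled sequence (helper8)

`K(x f_1, …, x f_n)` has the same terms as `K(f_1, …, f_n)` and `x` times its differential
(`ScaledIso`); consequence for the homology when `x` is a non-zero-divisor.
-/

set_option autoImplicit false
set_option backward.isDefEq.respectTransparency false
set_option backward.isDefEq.respectTransparency.types false

namespace Groth.Agent.Lib.Helper8KoszulScale
open CategoryTheory CochainComplex HomologicalComplex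

universe u
variable {A : Type u} [CommRing A]

/-- degreewise isomorphisms intertwining `K.d` with `x • L.d`. -/
structure ScaledIso (K L : CochainComplex (ModuleCat.{u} A) ℤ) (x : A) where
  e : ∀ q : ℤ, K.X q ≅ L.X q
  comm : ∀ q : ℤ, K.d q (q + 1) ≫ (e (q + 1)).hom = x • ((e q).hom ≫ L.d q (q + 1))

section Cone

variable {K L : CochainComplex (ModuleCat.{u} A) ℤ} (x f : A)

/-- the degreewise map between the cones induced by degreewise maps. -/
noncomputable def coneMap {K L : CochainComplex (ModuleCat.{u} A) ℤ} (a b : A)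
    (ψ : ∀ q : ℤ, K.X q ⟶ L.X q) (q : ℤ) :
    (mappingCone (a • 𝟙 K)).X q ⟶ (mappingCone (b • 𝟙 L)).X q :=
  (mappingCone.fst (a • 𝟙 K)).1.v q (q + 1) rfl ≫ ψ (q + 1) ≫
      (mappingCone.inl (b • 𝟙 L)).v (q + 1) q (by omega) +
    (mappingCone.snd (a • 𝟙 K)).v q q (add_zero q) ≫ ψ q ≫ (mappingCone.inr (b • 𝟙 L)).f q

@[reassoc]
lemma coneMap_fst {K L : CochainComplex (ModuleCat.{u} A) ℤ} (a b : A)
    (ψ : ∀ q : ℤ, K.X q ⟶ L.X q) (q : ℤ) :
    coneMap a b ψ q ≫ (mappingCone.fst (b • 𝟙 L)).1.v q (q + 1) rfl =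
      (mappingCone.fst (a • 𝟙 K)).1.v q (q + 1) rfl ≫ ψ (q + 1) := by
  simp [coneMap]

@[reassoc]
lemma coneMap_snd {K L : CochainComplex (ModuleCat.{u} A) ℤ} (a b : A)
    (ψ : ∀ q : ℤ, K.X q ⟶ L.X q) (q : ℤ) :
    coneMap a b ψ q ≫ (mappingCone.snd (b • 𝟙 L)).v q q (add_zero q) =
      (mappingCone.snd (a • 𝟙 K)).v q q (add_zero q) ≫ ψ q := by
  simp [coneMap]

lemma coneMap_comp {K L M : CochainComplex (ModuleCat.{u} A) ℤ} (a b c : A)
    (ψ : ∀ q : ℤ, K.X q ⟶ L.X q) (χ : ∀ q : ℤ, L.X q ⟶ M.X q) (q : ℤ) :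
    coneMap a b ψ q ≫ coneMap b c χ q = coneMap a c (fun q => ψ q ≫ χ q) q := by
  apply mappingCone.ext_to _ q (q + 1) rfl
  · rw [Category.assoc, coneMap_fst, coneMap_fst, ← Category.assoc, coneMap_fst, Category.assoc]
  · rw [Category.assoc, coneMap_snd, coneMap_snd, ← Category.assoc, coneMap_snd, Category.assoc]

lemma coneMap_id {K : CochainComplex (ModuleCat.{u} A) ℤ} (a : A) (q : ℤ) :
    coneMap a a (fun q => 𝟙 (K.X q)) q = 𝟙 _ := by
  apply mappingCone.ext_to _ q (q + 1) rfl
  · rw [coneMap_fst]; simp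
  · rw [coneMap_snd]; simp

/-- the induction step: a scaled iso of complexes induces a scaled iso of the cones. -/
noncomputable def ScaledIso.cone (s : ScaledIso K L x) :
    ScaledIso (mappingCone ((x * f) • 𝟙 K)) (mappingCone (f • 𝟙 L)) x where
  e q :=
    { hom := coneMap (x * f) f (fun q => (s.e q).hom) q
      inv := coneMap f (x * f) (fun q => (s.e q).inv) q
      hom_inv_id := by
        rw [coneMap_comp]
        simp only [Iso.hom_inv_id]
        exact coneMap_id _ q
      inv_hom_id := by
        rw [coneMap_comp]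
        simp only [Iso.inv_hom_id]
        exact coneMap_id _ q }
  comm q := by
    dsimp only
    apply mappingCone.ext_to _ (q + 1) (q + 1 + 1) rfl
    · rw [Category.assoc, coneMap_fst, mappingCone.d_fst_v_assoc _ q (q + 1) (q + 1 + 1) rfl rfl,
        Linear.smul_comp, Category.assoc, mappingCone.d_fst_v _ q (q + 1) (q + 1 + 1) rfl rfl]
      simp only [Preadditive.neg_comp, Preadditive.comp_neg, Category.assoc, smul_neg]
      rw [s.comm (q + 1), coneMap_fst_assoc]
      simp only [Linear.comp_smul, Category.assoc]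
    · rw [Category.assoc, coneMap_snd, mappingCone.d_snd_v_assoc _ q (q + 1) rfl,
        Linear.smul_comp, Category.assoc, mappingCone.d_snd_v _ q (q + 1) rfl]
      simp only [Preadditive.add_comp, Preadditive.comp_add, Category.assoc, smul_add]
      congr 1
      · rw [coneMap_fst_assoc]
        simp only [HomologicalComplex.smul_f_apply, HomologicalComplex.id_f, Linear.smul_comp,
          Linear.comp_smul, Category.id_comp, Category.comp_id, Category.assoc, mul_smul]
      · rw [s.comm q, coneMap_snd_assoc]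
        simp only [Linear.comp_smul, Category.assoc]

end Cone

/-- the base case. -/
noncomputable def ScaledIso.nil (x : A) :
    ScaledIso (Koszul.koszul A ([] : List A)) (Koszul.koszul A ([] : List A)) x where
  e q := Iso.refl _
  comm q := by
    have h : (Koszul.koszul A ([] : List A)).d q (q + 1) = 0 := by
      change ((CochainComplex.singleFunctor (ModuleCat.{u} A) 0).obj (ModuleCat.of A A)).d q (q + 1) = 0
      simp
    rw [h]
    simp

/-- `K(x f)` versus `K(f)`. -/
noncomputable def scaledIso (x : A) : ∀ l : List A,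
    ScaledIso (Koszul.koszul A (l.map fun f => x * f)) (Koszul.koszul A l) x
  | [] => ScaledIso.nil x
  | f :: l => (scaledIso x l).cone x f


lemma ScaledIso.comm' {K L : CochainComplex (ModuleCat.{u} A) ℤ} {x : A} (s : ScaledIso K L x)
    (i j : ℤ) (h : i + 1 = j) :
    K.d i j ≫ (s.e j).hom = x • ((s.e i).hom ≫ L.d i j) := by
  subst h
  exact s.comm i

lemma ScaledIso.comm_apply {K L : CochainComplex (ModuleCat.{u} A) ℤ} {x : A} (s : ScaledIso K L x)
    (i j : ℤ) (h : i + 1 = j) (z : K.X i) :
    (s.e j).hom.hom ((K.d i j).hom z) = x • (L.d i j).hom ((s.e i).hom.hom z) := by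
  have := congrArg (fun m => m.hom z) (s.comm' i j h)
  simpa using this

/-- homology of `K` from a scaled iso with `L`, when `x` is regular on `L.X (q+1)`. -/
theorem ScaledIso.nonempty_homology_iso {K L : CochainComplex (ModuleCat.{u} A) ℤ} {x : A}
    (s : ScaledIso K L x) (q : ℤ) (hreg : IsSMulRegular (L.X (q + 1)) x) :
    Nonempty (K.homology q ≅
      ModuleCat.of A (↥(LinearMap.ker (L.d q (q + 1)).hom) ⧸
        Submodule.comap (LinearMap.ker (L.d q (q + 1)).hom).subtype
          (Ideal.span {x} • LinearMap.range (L.d (q - 1) q).hom))) := by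
  have i1 : K.homology q ≅ (K.sc' (q - 1) q (q + 1)).homology :=
    K.homologyIsoSc' (q - 1) q (q + 1) (by simp) (by simp)
  have i2 := (K.sc' (q - 1) q (q + 1)).moduleCatHomologyIso
  refine ⟨i1 ≪≫ i2 ≪≫ LinearEquiv.toModuleIso ?_⟩
  let E : K.X q ≃ₗ[A] L.X q := (s.e q).toLinearEquiv
  have hE : ∀ z, E z = (s.e q).hom.hom z := fun z => rfl
  have hker : (LinearMap.ker (K.d q (q + 1)).hom).map (E : K.X q →ₗ[A] L.X q) =
      LinearMap.ker (L.d q (q + 1)).hom := by
    ext w
    simp only [Submodule.mem_map, LinearMap.mem_ker, LinearEquiv.coe_coe]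
    constructor
    · rintro ⟨z, hz, rfl⟩
      have h1 := s.comm_apply q (q + 1) rfl z
      rw [hz, map_zero] at h1
      rw [hE]
      apply hreg
      change x • _ = x • (0 : L.X (q + 1))
      rw [smul_zero]
      exact h1.symm
    · intro hw
      refine ⟨E.symm w, ?_, E.apply_symm_apply w⟩
      have h1 := s.comm_apply q (q + 1) rfl (E.symm w)
      rw [← hE, E.apply_symm_apply, hw, smul_zero] at h1
      have hinj : Function.Injective (s.e (q + 1)).hom.hom :=
        (s.e (q + 1)).toLinearEquiv.injective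
      exact hinj (by rw [h1, map_zero])
  let Φ : ↥(LinearMap.ker (K.d q (q + 1)).hom) ≃ₗ[A] ↥(LinearMap.ker (L.d q (q + 1)).hom) :=
    E.ofSubmodules _ _ hker
  have hΦ : ∀ z, ((((Φ : ↥(LinearMap.ker (K.d q (q + 1)).hom) →ₗ[A]
      ↥(LinearMap.ker (L.d q (q + 1)).hom)) z) : ↥(LinearMap.ker (L.d q (q + 1)).hom)) : L.X q) =
      E z.1 := fun z => rfl
  refine Submodule.Quotient.equiv _ _ Φ ?_
  ext w
  simp only [Submodule.mem_map, LinearMap.mem_range, Submodule.mem_comap, Submodule.subtype_apply,
    Submodule.ideal_span_singleton_smul, Submodule.mem_smul_pointwise_iff_exists]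
  constructor
  · rintro ⟨_, ⟨(u : K.X (q - 1)), rfl⟩, rfl⟩
    refine ⟨(L.d (q - 1) q).hom ((s.e (q - 1)).hom.hom u), ⟨_, rfl⟩, ?_⟩
    change _ = (s.e q).hom.hom ((K.d (q - 1) q).hom u)
    exact (s.comm_apply (q - 1) q (by omega) u).symm
  · rintro ⟨_, ⟨v, rfl⟩, hv⟩
    refine ⟨(K.sc' (q - 1) q (q + 1)).moduleCatToCycles ((s.e (q - 1)).inv.hom v), ⟨_, rfl⟩, ?_⟩
    apply Subtype.ext
    rw [← hv]
    change (s.e q).hom.hom ((K.d (q - 1) q).hom ((s.e (q - 1)).inv.hom v)) = _
    have h1 := s.comm_apply (q - 1) q (by omega) ((s.e (q - 1)).inv.hom v)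
    have h2 : (s.e (q - 1)).hom.hom ((s.e (q - 1)).inv.hom v) = v := by
      have := congrArg (fun m => m.hom v) (s.e (q - 1)).inv_hom_id
      simpa using this
    rw [h2] at h1
    exact h1


lemma isSMulRegular_of_iso {M N : ModuleCat.{u} A} (e : M ≅ N) {x : A} (h : IsSMulRegular N x) :
    IsSMulRegular M x := by
  intro a b hab
  have hinj : Function.Injective e.hom.hom := e.toLinearEquiv.injective
  apply hinj
  apply h
  change x • e.hom.hom a = x • e.hom.hom b
  rw [← map_smul, ← map_smul]
  exact congrArg _ hab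

lemma isSMulRegular_cone_X (K : CochainComplex (ModuleCat.{u} A) ℤ) (f x : A)
    (h : ∀ q, IsSMulRegular (K.X q) x) (q : ℤ) :
    IsSMulRegular ((mappingCone (f • 𝟙 K)).X q) x := by
  intro a b hab
  change x • a = x • b at hab
  have hid := mappingCone.id_X (f • 𝟙 K) q (q + 1) rfl
  have h1 : ((mappingCone.fst (f • 𝟙 K)).1.v q (q + 1) rfl).hom a =
      ((mappingCone.fst (f • 𝟙 K)).1.v q (q + 1) rfl).hom b := by
    apply h (q + 1)
    change x • _ = x • _
    rw [← map_smul, ← map_smul, hab]
  have h2 : ((mappingCone.snd (f • 𝟙 K)).v q q (add_zero q)).hom a =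
      ((mappingCone.snd (f • 𝟙 K)).v q q (add_zero q)).hom b := by
    apply h q
    change x • _ = x • _
    rw [← map_smul, ← map_smul, hab]
  have ha := congrArg (fun m => m.hom a) hid
  have hb := congrArg (fun m => m.hom b) hid
  simp only [ModuleCat.hom_add, ModuleCat.hom_comp, LinearMap.add_apply, LinearMap.comp_apply,
    ModuleCat.hom_id, LinearMap.id_apply] at ha hb
  rw [← ha, ← hb, h1, h2]

theorem isSMulRegular_koszul_X (x : A) (hx : x ∈ nonZeroDivisors A) :
    ∀ (l : List A) (q : ℤ), IsSMulRegular ((Koszul.koszul A l).X q) x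
  | [], q => by
      change IsSMulRegular (((HomologicalComplex.single (ModuleCat.{u} A) (ComplexShape.up ℤ) 0).obj
        (ModuleCat.of A A)).X q) x
      by_cases hq : q = 0
      · subst hq
        refine isSMulRegular_of_iso
          (HomologicalComplex.singleObjXSelf (ComplexShape.up ℤ) 0 (ModuleCat.of A A)) ?_
        intro a b hab
        change x * a = x * b at hab
        exact (mem_nonZeroDivisors_iff.mp hx).1 |> fun h => by
          have := sub_eq_zero.mpr hab
          rw [← mul_sub] at this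
          exact sub_eq_zero.mp (h _ this)
      · have hz := HomologicalComplex.isZero_single_obj_X (ComplexShape.up ℤ) 0 (ModuleCat.of A A) q hq
        haveI : Subsingleton (((HomologicalComplex.single (ModuleCat.{u} A) (ComplexShape.up ℤ) 0).obj
          (ModuleCat.of A A)).X q) := ModuleCat.subsingleton_of_isZero hz
        intro a b _
        exact Subsingleton.elim _ _
  | f :: l, q => isSMulRegular_cone_X (Koszul.koszul A l) f x (isSMulRegular_koszul_X x hx l) q

/-- **S15815**. -/
theorem nonempty_homology_koszul_mul_iso (l : List A) (x : A) (hx : x ∈ nonZeroDivisors A) (q : ℤ) :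
    Nonempty ((Koszul.koszul A (l.map (fun f => x * f))).homology q ≅
      ModuleCat.of A (↥(LinearMap.ker ((Koszul.koszul A l).d q (q + 1)).hom) ⧸
        Submodule.comap (LinearMap.ker ((Koszul.koszul A l).d q (q + 1)).hom).subtype
          (Ideal.span {x} • LinearMap.range ((Koszul.koszul A l).d (q - 1) q).hom))) :=
  (scaledIso x l).nonempty_homology_iso q (isSMulRegular_koszul_X x hx l (q + 1))

end Groth.Agent.Lib.Helper8KoszulScale
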