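import Mathlib
import Groth.Agent.Lib.Helper8KoszulScale
import Groth.Agent.Lib.Helper13KzTor

/-!
# Koszul homology of `x·f` for `f` weakly regular (helper8): `H^q ≅ Z^q ⊗ A/(x)` for `q < 0`.
-/

set_option autoImplicit false
set_option backward.isDefEq.respectTransparency false
set_option backward.isDefEq.respectTransparency.types false

namespace Groth.Agent.Lib.Helper8KoszulScale
open CategoryTheory CochainComplex HomologicalComplex
open scoped TensorProduct

universe u
variable {A : Type u} [CommRing A]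

theorem koszul_eq' : ∀ l : List A,
    Koszul.koszul A l = CohIII.koszulCx (ModuleCat.of A A) l
  | [] => rfl
  | f :: l => by
    show CochainComplex.mappingCone (f • 𝟙 (Koszul.koszul A l)) =
      CochainComplex.mappingCone (f • 𝟙 (CohIII.koszulCx (ModuleCat.of A A) l))
    rw [koszul_eq' l]

theorem isZero_homology_koszul_of_weaklyRegular (l : List A)
    (hl : RingTheory.Sequence.IsWeaklyRegular A l) (q : ℤ) (hq : q ≠ 0) :
    Limits.IsZero ((Koszul.koszul A l).homology q) := by
  rw [koszul_eq' l]
  exact Groth.Agent.Helper13Kz.isZero_KH_of_weaklyRegular l (ModuleCat.of A A) hl q hq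

theorem range_eq_ker_of_isZero_homology (K : CochainComplex (ModuleCat.{u} A) ℤ) (q : ℤ)
    (h : Limits.IsZero (K.homology q)) :
    LinearMap.range (K.d (q - 1) q).hom = LinearMap.ker (K.d q (q + 1)).hom := by
  have h1 : K.ExactAt q := by
    rw [HomologicalComplex.exactAt_iff_isZero_homology]
    exact h
  rw [HomologicalComplex.exactAt_iff' K (q - 1) q (q + 1) (by simp) (by simp)] at h1
  exact (ShortComplex.moduleCat_exact_iff_range_eq_ker _).mp h1

/-- for a submodule `Z` with `B = Z`: `Z ⧸ comap (I • B) ≃ Z ⊗ A/I`. -/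
noncomputable def quotEquivTensor {M : Type u} [AddCommGroup M] [Module A M] (Z B : Submodule A M)
    (hB : B = Z) (x : A) :
    (↥Z ⧸ Submodule.comap Z.subtype (Ideal.span {x} • B)) ≃ₗ[A] (↥Z ⊗[A] (A ⧸ Ideal.span {x})) := by
  refine (Submodule.quotEquivOfEq _ _ ?_).trans
    (TensorProduct.tensorQuotEquivQuotSMul (↥Z) (Ideal.span {x})).symm
  subst hB
  ext w
  simp only [Submodule.mem_comap, Submodule.subtype_apply, Submodule.ideal_span_singleton_smul,
    Submodule.mem_smul_pointwise_iff_exists]
  constructor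
  · rintro ⟨z, hz, hzw⟩
    exact ⟨⟨z, hz⟩, trivial, Subtype.ext hzw⟩
  · rintro ⟨z, -, rfl⟩
    exact ⟨z.1, z.2, rfl⟩

/-- **S15816**. -/
theorem nonempty_homology_koszul_mul_iso_tensor (l : List A)
    (hl : RingTheory.Sequence.IsWeaklyRegular A l) (x : A) (hx : x ∈ nonZeroDivisors A) (q : ℤ)
    (hq : q < 0) :
    Nonempty ((Koszul.koszul A (l.map (fun f => x * f))).homology q ≅
      ModuleCat.of A (↥(LinearMap.ker ((Koszul.koszul A l).d q (q + 1)).hom) ⊗[A]
        (A ⧸ Ideal.span {x}))) := by
  obtain ⟨i⟩ := nonempty_homology_koszul_mul_iso l x hx q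
  have hr := range_eq_ker_of_isZero_homology (Koszul.koszul A l) q
    (isZero_homology_koszul_of_weaklyRegular l hl q hq.ne)
  exact ⟨i ≪≫ (quotEquivTensor _ _ hr x).toModuleIso⟩

end Groth.Agent.Lib.Helper8KoszulScale
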