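import Mathlib
import Groth.Prelude.Def_LCI2
import Groth.Agent.Lib.R2H4RelGCIReg
import Groth.Agent.Lib.Helper13KzLiftH
import Groth.Agent.Lib.Helper13KzTor
import Groth.Agent.Lib.Helper8KoszulScale2

/-!
# Koszul-regularity of relative global complete intersections (helper4, round 2)
-/

set_option autoImplicit false
universe u
open scoped TensorProduct

namespace Groth.Agent.Lib.R2H4.RelGCIKoszul

open CategoryTheory CochainComplex MonoidalCategory CohIII
open Groth.Agent.Helper13Kz Groth.Agent.Helper13KzLift

section LocalGlobal

variable {A : Type u} [CommRing A]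

/-- Koszul-regularity can be checked at the maximal ideals containing the sequence, where weak
regularity suffices. -/
theorem isKoszulRegularSeq_of_local (l : List A)
    (h : ∀ (Q : Ideal A) [Q.IsMaximal], Ideal.ofList l ≤ Q →
      RingTheory.Sequence.IsWeaklyRegular (Localization.AtPrime Q)
        (l.map (algebraMap A (Localization.AtPrime Q)))) :
    LCI.IsKoszulRegularSeq A l := by
  intro i hi
  suffices aux : ∀ (K : CochainComplex (ModuleCat.{u} A) ℤ), K = koszulCx (ModuleCat.of A A) l →
      Limits.IsZero (K.homology i) from aux _ (Groth.Agent.Lib.Helper8KoszulScale.koszul_eq' l)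
  rintro K hK
  subst hK
  set K := koszulCx (ModuleCat.of A A) l with hK
  suffices hsub : Subsingleton (K.homology i) from ModuleCat.isZero_of_subsingleton _
  apply Module.subsingleton_of_localization_maximal (R := A)
    (Mₚ := fun Q _ => LocalizedModule Q.primeCompl (K.homology i))
    (f := fun Q _ => LocalizedModule.mkLinearMap Q.primeCompl (K.homology i))
  intro Q hQ
  by_cases hIQ : Ideal.ofList l ≤ Q
  · let F : ModuleCat.{u} A := ModuleCat.of A (Localization.AtPrime Q)
    haveI : Module.Flat A F := inferInstanceAs (Module.Flat A (Localization.AtPrime Q))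
    have hw : RingTheory.Sequence.IsWeaklyRegular (Localization.AtPrime Q) l :=
      (RingTheory.Sequence.isWeaklyRegular_map_algebraMap_iff (Localization.AtPrime Q)
        (Localization.AtPrime Q) l).mp (h Q hIQ)
    have hw' : RingTheory.Sequence.IsWeaklyRegular (A ⊗[A] Localization.AtPrime Q) l :=
      ((TensorProduct.lid A (Localization.AtPrime Q)).isWeaklyRegular_congr l).mpr hw
    have h1 : Limits.IsZero ((koszulCx (ModuleCat.of A A ⊗ F) l).homology i) :=
      isZero_KH_of_weaklyRegular l (ModuleCat.of A A ⊗ F) hw' i hi
    have h2 : Limits.IsZero ((((tensorRight F).mapHomologicalComplex (ComplexShape.up ℤ)).obj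
        K).homology i) :=
      Limits.IsZero.of_iso h1
        ((HomologicalComplex.homologyFunctor _ _ i).mapIso (tensIso F (ModuleCat.of A A) l))
    haveI hPH : (tensorRight F).PreservesHomology :=
      Functor.preservesHomology_of_map_exact _
        (fun S hS => Module.Flat.rTensor_shortComplex_exact (M := F) S hS)
    have h3 : Limits.IsZero ((tensorRight F).obj (K.homology i)) :=
      Limits.IsZero.of_iso h2 ((K.sc i).mapHomologyIso (tensorRight F)).symm
    have h4 : Subsingleton ((K.homology i) ⊗[A] Localization.AtPrime Q) :=
      ModuleCat.subsingleton_of_isZero h3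
    exact (((LocalizedModule.equivTensorProduct Q.primeCompl (K.homology i)).restrictScalars A).trans
      (TensorProduct.comm A _ _)).toEquiv.subsingleton
  · obtain ⟨a, haI, haQ⟩ := Set.not_subset.mp hIQ
    refine ⟨fun x y => ?_⟩
    have hz : ∀ z : LocalizedModule Q.primeCompl (K.homology i), z = 0 := by
      intro z
      induction z using LocalizedModule.induction_on with
      | h m s =>
        rw [← LocalizedModule.zero_mk s, LocalizedModule.mk_eq]
        refine ⟨⟨a, haQ⟩, ?_⟩
        have := smul_KH_eq_zero_of_mem (M := A) l a haI i m
        simp only [smul_zero]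
        rw [Submonoid.smul_def, smul_comm]
        change (s : A) • a • m = 0
        rw [this, smul_zero]
    rw [hz x, hz y]

end LocalGlobal

section Main

/-- **The relations of a relative global complete intersection form a Koszul-regular
sequence.** -/
theorem isKoszulRegularSeq_relGCI (R : Type u) [CommRing R] (n c : ℕ)
    (F : Fin c → MvPolynomial (Fin n) R) (h : Synt.IsRelGCI R n c F) :
    LCI.IsKoszulRegularSeq (MvPolynomial (Fin n) R) (List.ofFn F) := by
  apply isKoszulRegularSeq_of_local
  intro Q hQ hle
  haveI := hQ.isPrime
  rw [Groth.Agent.Lib.R2H4.RelGCIFlat.ofList_ofFn] at hle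
  exact (Groth.Agent.Lib.R2H4.RelGCIReg.isRegular_localization R n c F h Q hle).toIsWeaklyRegular

end Main

end Groth.Agent.Lib.R2H4.RelGCIKoszul
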