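import Mathlib
import Groth.Prelude.Def_LCI2
import Groth.Prelude.Def_RegImm
import Groth.Agent.Lib.Helper28FGDim
import Groth.Agent.Lib.R2H4RelGCIKoszul
import Groth.Agent.Lib.H9RegImmFlatBC
import Groth.Agent.S9253

set_option autoImplicit false
set_option linter.style.haveILetI false
universe u

namespace Groth.Agent.Lib.R2LeadSyntF

open RingTheory.Sequence TensorProduct Groth.Agent.Lib.Helper28

/-- The ideal generated by a Koszul-regular sequence is a Koszul-regular ideal. -/
theorem isKoszulRegularIdeal_ofList {A : Type u} [CommRing A] (l : List A)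
    (hl : LCI.IsKoszulRegularSeq A l) : LCI.IsKoszulRegularIdeal (Ideal.ofList l) := by
  intro 𝔭 _
  refine ⟨1, fun h => 𝔭.isPrime.ne_top ((Ideal.eq_top_iff_one _).mpr h),
    l.map (algebraMap A (Localization.Away (1 : A))), ?_, ?_⟩
  · exact Groth.Agent.Lib.H9RegImmFlatBC.isKoszulRegularSeq_map _
      (RingHom.flat_algebraMap_iff.mpr (IsLocalization.flat _ (Submonoid.powers (1 : A)))) l hl
  · rw [Ideal.map_ofList]

/-- A global complete intersection over a field is a local complete intersection algebra in the
Koszul sense. -/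
theorem isLCI_of_isGlobalCI (k T : Type u) [Field k] [CommRing T] [Algebra k T]
    (h : Synt.IsGlobalCI k T) : LCI.IsLCI k T := by
  rcases h with hs | ⟨n, c, hcn, φ, r, hφ, hker, hdim⟩
  · let f : MvPolynomial (Fin 0) k →ₐ[k] T := MvPolynomial.aeval (fun i => i.elim0)
    have hf : Function.Surjective f := fun t => ⟨0, Subsingleton.elim _ _⟩
    refine ⟨Algebra.FiniteType.of_surjective f hf, 0, f, hf, ?_⟩
    intro 𝔭 hle
    exfalso
    apply 𝔭.isPrime.ne_top
    rw [Ideal.eq_top_iff_one]
    apply hle
    rw [RingHom.mem_ker]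
    exact Subsingleton.elim _ _
  · have hk : LocCoh.IsCohenMacaulayRing k := isCohenMacaulayRing_of_field k
    have hS : LocCoh.IsCohenMacaulayRing (MvPolynomial (Fin n) k) :=
      isCohenMacaulayRing_mvPolynomial_fin n
    set xs : List (MvPolynomial (Fin n) k) := List.ofFn r with hxs
    have hof : RingHom.ker φ.toRingHom = Ideal.ofList xs := by
      rw [hker]
      unfold Ideal.ofList
      congr 1
      ext x
      simp [hxs, List.mem_ofFn]
    have hlen : xs.length = c := by simp [hxs]
    have hnt : Nontrivial T := by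
      by_contra hnot
      rw [not_nontrivial_iff_subsingleton] at hnot
      rw [ringKrullDim_eq_bot_of_subsingleton] at hdim
      exact absurd hdim (by simp)
    have hKtop : RingHom.ker φ.toRingHom ≠ ⊤ := RingHom.ker_ne_top _
    let e : (MvPolynomial (Fin n) k ⧸ RingHom.ker φ.toRingHom) ≃+* T :=
      RingHom.quotientKerEquivOfSurjective (f := φ.toRingHom) hφ
    have h1 := height_add_ringKrullDim_quotient_eq_of_forall_isMaximal_height_eq' n
      (height_eq_of_isMaximal_mvPolynomial_fin k n) _ hKtop
    rw [ringKrullDim_eq_of_ringEquiv e, hdim] at h1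
    have h2 : (RingHom.ker φ.toRingHom).height + ((n - c : ℕ) : ℕ∞) = (n : ℕ∞) := by
      have : (((RingHom.ker φ.toRingHom).height + ((n - c : ℕ) : ℕ∞) : ℕ∞) : WithBot ℕ∞) =
          ((n : ℕ∞) : WithBot ℕ∞) := by
        rw [WithBot.coe_add]; exact h1
      exact WithBot.coe_injective this
    have h3 : (xs.length : ℕ∞) ≤ (Ideal.ofList xs).height := by
      rw [hlen, ← hof]
      have h4 : ((c : ℕ∞) + ((n - c : ℕ) : ℕ∞)) = (n : ℕ∞) := by
        have : c + (n - c) = n := by omega
        exact_mod_cast this
      rw [← h4] at h2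
      exact le_of_eq ((ENat.add_left_injective_of_ne_top (ENat.natCast_ne_top (n - c))) h2).symm
    have hK : LCI.IsKoszulRegularSeq (MvPolynomial (Fin n) k) xs := by
      apply Groth.Agent.Lib.R2H4.RelGCIKoszul.isKoszulRegularSeq_of_local
      intro Q hQ hle
      haveI := hQ.isPrime
      exact (isRegular_map_localization_of_length_le_height xs h3 Q hle).toIsWeaklyRegular
    refine ⟨Algebra.FiniteType.of_surjective φ hφ, n, φ, hφ, ?_⟩
    rw [hof]
    exact isKoszulRegularIdeal_ofList xs hK

/-- `IsLCI` can be checked on a cover by basic opens (arbitrary covering sets). -/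
theorem isLCI_of_span (R S : Type u) [CommRing R] [CommRing S] [Algebra R S] (s : Set S)
    (hs : Ideal.span s = ⊤) (h : ∀ g ∈ s, LCI.IsLCI R (Localization.Away g)) : LCI.IsLCI R S := by
  classical
  obtain ⟨s', hs's, hs'⟩ := (Ideal.span_eq_top_iff_finite s).mp hs
  refine Groth.Agent.S9253.result R S s'.card (fun j => (s'.equivFin.symm j : S)) ?_ (fun j => ?_)
  · have : Set.range (fun j => (s'.equivFin.symm j : S)) = (s' : Set S) := by
      ext x
      constructor
      · rintro ⟨j, rfl⟩
        exact (s'.equivFin.symm j).2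
      · intro hx
        exact ⟨s'.equivFin ⟨x, hx⟩, by simp⟩
    rw [this, hs']
  · exact h _ (hs's (s'.equivFin.symm j).2)

/-- A local complete intersection over a field (dimension form) is a local complete intersection
algebra in the Koszul sense. -/
theorem isLCI_of_isLCIOver (k T : Type u) [Field k] [CommRing T] [Algebra k T]
    (h : Synt.IsLCIOver k T) : LCI.IsLCI k T := by
  obtain ⟨-, hloc⟩ := h
  apply isLCI_of_span k T {g : T | LCI.IsLCI k (Localization.Away g)} _ (fun g hg => hg)
  by_contra hne
  obtain ⟨m, hm, hle⟩ := Ideal.exists_le_maximal _ hne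
  obtain ⟨g, hg, hG⟩ := hloc ⟨m, hm.isPrime⟩
  exact hg (hle (Ideal.subset_span (isLCI_of_isGlobalCI k _ hG)))

end Groth.Agent.Lib.R2LeadSyntF
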