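import Mathlib
import Groth.Prelude.Def_LCI2
import Groth.Prelude.Def_RegImm
import Groth.Agent.Lib.R2LeadSyntA
import Groth.Agent.Lib.R2LeadSyntD
import Groth.Agent.Lib.R2LeadSyntF
import Groth.Agent.S9269
import Groth.Agent.S15821
import Groth.Agent.Lib.R2H3KzLCIComp
import Groth.Agent.Lib.Helper19LciH1B

set_option autoImplicit false
set_option linter.style.haveILetI false
universe u

namespace Groth.Agent.Lib.R2LeadSyntG

open RingTheory.Sequence TensorProduct

section B1

variable {P : Type u} [CommRing P] (q : Ideal P) [hq : q.IsPrime]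

/-- clearing denominators at a prime -/
theorem exists_mul_mem_atPrime (I J : Ideal P) (hfg : I.FG)
    (hIJ : I.map (algebraMap P (Localization.AtPrime q)) ≤
      J.map (algebraMap P (Localization.AtPrime q))) :
    ∃ g : P, g ∉ q ∧ ∀ a ∈ I, g * a ∈ J := by
  classical
  have hpt : ∀ a ∈ I, ∃ g : P, g ∉ q ∧ g * a ∈ J := by
    intro a ha
    have h1 : algebraMap P (Localization.AtPrime q) a ∈
        J.map (algebraMap P (Localization.AtPrime q)) := hIJ (Ideal.mem_map_of_mem _ ha)
    rw [IsLocalization.mem_map_algebraMap_iff q.primeCompl] at h1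
    obtain ⟨⟨⟨b, hb⟩, ⟨s, hs⟩⟩, h⟩ := h1
    rw [← map_mul, IsLocalization.eq_iff_exists q.primeCompl] at h
    obtain ⟨⟨t, ht⟩, h⟩ := h
    refine ⟨t * s, fun hmem => ?_, ?_⟩
    · rcases hq.mem_or_mem hmem with h' | h'
      · exact ht h'
      · exact hs h'
    · have h2 : t * s * a = t * b := by
        simp only at h
        rw [mul_assoc, mul_comm s a]
        exact h
      rw [h2]
      exact Ideal.mul_mem_left _ _ hb
  obtain ⟨s, hs⟩ := hfg
  choose! G hGq hG using hpt
  refine ⟨∏ x ∈ s, G x, ?_, ?_⟩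
  · rw [Ideal.IsPrime.prod_mem_iff]
    rintro ⟨x, hx, hmem⟩
    exact hGq x (hs ▸ Ideal.subset_span hx) hmem
  · intro a ha
    rw [← hs] at ha
    induction ha using Submodule.span_induction with
    | mem x hx =>
      have hxI : x ∈ I := hs ▸ Ideal.subset_span hx
      rw [← Finset.prod_erase_mul s G hx, mul_assoc]
      exact Ideal.mul_mem_left _ _ (hG x hxI)
    | zero => simp
    | add x y _ _ hx hy => rw [mul_add]; exact Ideal.add_mem _ hx hy
    | smul r x _ hx =>
      rw [smul_eq_mul, mul_left_comm]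
      exact Ideal.mul_mem_left _ _ hx

end B1

section B2

variable {R P : Type u} [CommRing R] [CommRing P] [Algebra R P] [Algebra.FiniteType R P]
  (q : Ideal P) [hq : q.IsPrime]

theorem algebraMap_mem_jacobson (x : P) (hx : x ∈ q) :
    algebraMap P (EGA4.FibLocRing R P q) x ∈ Ring.jacobson (EGA4.FibLocRing R P q) := by
  apply Groth.Agent.Lib.R2LeadSyntD.mk_mem_jacobson q (algebraMap P (Localization.AtPrime q) x)
  rw [← Localization.AtPrime.map_eq_maximalIdeal]
  exact Ideal.mem_map_of_mem _ hx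

/-- Koszul-regular sequences of images of elements of `q` in the fibre local ring are regular. -/
theorem isRegular_of_koszul_fib (l : List P) (hlq : ∀ x ∈ l, x ∈ q)
    (hK : LCI.IsKoszulRegularSeq (EGA4.FibLocRing R P q)
      (l.map (algebraMap P (EGA4.FibLocRing R P q)))) :
    IsRegular (EGA4.FibLocRing R P q) (l.map (algebraMap P (EGA4.FibLocRing R P q))) := by
  haveI := Groth.Agent.Lib.R2LeadSyntD.isNoetherianRing_fib (R := R) q
  haveI := Groth.Agent.Lib.R2LeadSyntD.nontrivial_fib (R := R) q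
  have hj : ∀ y ∈ l.map (algebraMap P (EGA4.FibLocRing R P q)),
      y ∈ Ring.jacobson (EGA4.FibLocRing R P q) := by
    intro y hy
    obtain ⟨x, hx, rfl⟩ := List.mem_map.mp hy
    exact algebraMap_mem_jacobson q x (hlq x hx)
  refine ⟨Groth.Agent.Lib.R2LeadSyntA.isWeaklyRegular_of_isKoszulRegularSeq _ hK hj, ?_⟩
  intro htop
  have h6 : (Ideal.ofList (l.map (algebraMap P (EGA4.FibLocRing R P q))) :
      Ideal (EGA4.FibLocRing R P q)) = ⊤ := by
    have := htop.symm
    rwa [smul_eq_mul, Ideal.mul_top] at this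
  have h7 : Ideal.ofList (l.map (algebraMap P (EGA4.FibLocRing R P q))) ≤
      Ring.jacobson (EGA4.FibLocRing R P q) := by
    rw [Ideal.ofList, Ideal.span_le]
    exact hj
  rw [h6, top_le_iff, ← Ideal.jacobson_bot, Ideal.jacobson_eq_top_iff] at h7
  exact bot_ne_top h7

/-- **Nakayama step.** If `P/I` is flat over `R` and `I`, `J ≤ I` have the same image in the
fibre local ring, then they agree in `P_q`. -/
theorem map_le_of_map_fib_le (I J : Ideal P) (hJI : J ≤ I) (hfg : I.FG)
    [Module.Flat R (P ⧸ I)]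
    (h : I.map (algebraMap P (EGA4.FibLocRing R P q)) ≤
      J.map (algebraMap P (EGA4.FibLocRing R P q))) :
    I.map (algebraMap P (Localization.AtPrime q)) ≤
      J.map (algebraMap P (Localization.AtPrime q)) := by
  set IB := I.map (algebraMap P (Localization.AtPrime q)) with hIB
  set JB := J.map (algebraMap P (Localization.AtPrime q)) with hJB
  set pB := (q.comap (algebraMap R P)).map (algebraMap R (Localization.AtPrime q)) with hpB
  have hJBIB : JB ≤ IB := Ideal.map_mono hJI
  have hpBjac : pB ≤ Ideal.jacobson (⊥ : Ideal (Localization.AtPrime q)) := by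
    rw [IsLocalRing.jacobson_eq_maximalIdeal ⊥ bot_ne_top, hpB, Ideal.map_le_iff_le_comap]
    intro r hr
    rw [Ideal.mem_comap, IsScalarTower.algebraMap_apply R P (Localization.AtPrime q),
      ← Localization.AtPrime.map_eq_maximalIdeal]
    exact Ideal.mem_map_of_mem _ hr
  haveI : Module.Flat R (Localization.AtPrime q ⧸ IB) :=
    Groth.Agent.Lib.R2LeadSyntD.flat_quotient_map q I
  refine Submodule.le_of_le_smul_of_le_jacobson_bot (Ideal.FG.map hfg _) hpBjac ?_
  intro x hx
  have hmap : ∀ K : Ideal P, K.map (algebraMap P (EGA4.FibLocRing R P q)) =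
      (K.map (algebraMap P (Localization.AtPrime q))).map (Ideal.Quotient.mk pB) := by
    intro K
    rw [Ideal.map_map]
    rfl
  rw [hmap I, hmap J] at h
  have h1 : Ideal.Quotient.mk pB x ∈ JB.map (Ideal.Quotient.mk pB) :=
    h (Ideal.mem_map_of_mem _ hx)
  rw [Ideal.mem_map_iff_of_surjective _ Ideal.Quotient.mk_surjective] at h1
  obtain ⟨y, hy, hyx⟩ := h1
  have h2 : x - y ∈ pB := by
    rw [← Ideal.Quotient.eq_zero_iff_mem, map_sub, hyx, sub_self]
  have h3 : x - y ∈ IB := Ideal.sub_mem _ hx (hJBIB hy)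
  -- flatness
  let f : Localization.AtPrime q →ₗ[R] Localization.AtPrime q ⧸ IB :=
    (Ideal.Quotient.mkₐ R IB).toLinearMap
  have hf : Function.Surjective f := Ideal.Quotient.mk_surjective
  have hker : LinearMap.ker f = IB.restrictScalars R := by
    ext z
    change Ideal.Quotient.mk IB z = 0 ↔ z ∈ IB
    exact Ideal.Quotient.eq_zero_iff_mem
  have h4 := LinearMap.ker_inf_smul_top_eq_smul_of_flat (q.comap (algebraMap R P)) f hf
  have h5 : x - y ∈ LinearMap.ker f ⊓ (q.comap (algebraMap R P)) •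
      (⊤ : Submodule R (Localization.AtPrime q)) := by
    refine ⟨?_, ?_⟩
    · rw [hker]
      exact h3
    · rw [Ideal.smul_top_eq_map]
      exact h2
  rw [h4, hker] at h5
  have h6 : (q.comap (algebraMap R P)) • (IB.restrictScalars R) ≤
      (pB • IB).restrictScalars R := by
    rw [Submodule.smul_le]
    intro r hr n hn
    change r • n ∈ pB • IB
    rw [Algebra.smul_def]
    exact Submodule.smul_mem_smul (Ideal.mem_map_of_mem _ hr) hn
  have h7 : x - y ∈ pB • IB := h6 h5
  have : x = y + (x - y) := by ring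
  rw [this]
  exact Submodule.add_mem_sup hy h7

/-- lifting elements of the image of `I` in the fibre local ring, up to units -/
theorem exists_lift_fib (I : Ideal P) (y : EGA4.FibLocRing R P q)
    (hy : y ∈ I.map (algebraMap P (EGA4.FibLocRing R P q))) :
    ∃ a s : P, a ∈ I ∧ s ∉ q ∧
      algebraMap P (EGA4.FibLocRing R P q) a = y * algebraMap P (EGA4.FibLocRing R P q) s := by
  have hmap : I.map (algebraMap P (EGA4.FibLocRing R P q)) =
      (I.map (algebraMap P (Localization.AtPrime q))).map (Ideal.Quotient.mk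
        ((q.comap (algebraMap R P)).map (algebraMap R (Localization.AtPrime q)))) := by
    rw [Ideal.map_map]
    rfl
  rw [hmap, Ideal.mem_map_iff_of_surjective _ Ideal.Quotient.mk_surjective] at hy
  obtain ⟨z, hz, rfl⟩ := hy
  rw [IsLocalization.mem_map_algebraMap_iff q.primeCompl] at hz
  obtain ⟨⟨⟨a, ha⟩, ⟨s, hs⟩⟩, h⟩ := hz
  refine ⟨a, s, ha, hs, ?_⟩
  change Ideal.Quotient.mk _ (algebraMap P (Localization.AtPrime q) a) =
    Ideal.Quotient.mk _ z * Ideal.Quotient.mk _ (algebraMap P (Localization.AtPrime q) s)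
  rw [← map_mul]
  exact congrArg _ h.symm

/-- images of elements outside `q` are units in the fibre local ring -/
theorem isUnit_algebraMap_fib (s : P) (hs : s ∉ q) :
    IsUnit (algebraMap P (EGA4.FibLocRing R P q) s) := by
  have h1 : IsUnit (algebraMap P (Localization.AtPrime q) s) :=
    IsLocalization.map_units (Localization.AtPrime q) (⟨s, hs⟩ : q.primeCompl)
  exact h1.map (Ideal.Quotient.mk
    ((q.comap (algebraMap R P)).map (algebraMap R (Localization.AtPrime q))))

end B2

section B3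

variable {R : Type u} [CommRing R] (n : ℕ) {S : Type u} [CommRing S] [Algebra R S]

/-- **Data (B).** For a presentation of a syntomic algebra, the kernel is, near a prime `q`
containing it, generated by elements forming a regular sequence in the local ring of the fibre at
`q`. -/
theorem dataB (f : MvPolynomial (Fin n) R →ₐ[R] S) (hf : Function.Surjective f)
    (hS : Synt.IsSyntomic R S) (q : Ideal (MvPolynomial (Fin n) R)) [hq : q.IsPrime]
    (hIq : RingHom.ker f.toRingHom ≤ q) :
    ∃ (c : ℕ) (F : Fin c → MvPolynomial (Fin n) R) (g : MvPolynomial (Fin n) R),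
      (∀ i, F i ∈ RingHom.ker f.toRingHom) ∧ g ∉ q ∧
      (∀ a ∈ RingHom.ker f.toRingHom, g * a ∈ Ideal.span (Set.range F)) ∧
      IsRegular (EGA4.FibLocRing R (MvPolynomial (Fin n) R) q)
        ((List.ofFn F).map (algebraMap (MvPolynomial (Fin n) R)
          (EGA4.FibLocRing R (MvPolynomial (Fin n) R) q))) := by
  set I := RingHom.ker f.toRingHom with hI
  obtain ⟨hflat, hfp, hfib⟩ := hS
  have hfg : I.FG := Algebra.FinitePresentation.ker_fG_of_surjective f hf
  let e : (MvPolynomial (Fin n) R ⧸ I) ≃ₐ[R] S := Ideal.quotientKerAlgEquivOfSurjective hf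
  haveI : Module.Flat R (MvPolynomial (Fin n) R ⧸ I) := Module.Flat.of_linearEquiv e.toLinearEquiv
  -- the fibre
  set p : PrimeSpectrum R := PrimeSpectrum.comap (algebraMap R (MvPolynomial (Fin n) R)) ⟨q, hq⟩
    with hp
  let Q : PrimeSpectrum (p.asIdeal.Fiber (MvPolynomial (Fin n) R)) :=
    PrimeSpectrum.preimageHomeomorphFiber R (MvPolynomial (Fin n) R) p ⟨⟨q, hq⟩, rfl⟩
  have hQq : Q.asIdeal.comap (Algebra.TensorProduct.includeRight :
      MvPolynomial (Fin n) R →ₐ[R] p.asIdeal.Fiber (MvPolynomial (Fin n) R)) = q :=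
    congrArg PrimeSpectrum.asIdeal
      (Groth.Agent.Lib.Helper4.FibDim.comap_includeRight_preimageHomeomorphFiber p.asIdeal
        ⟨⟨q, hq⟩, rfl⟩)
  obtain ⟨ε, hε⟩ := Groth.Agent.Lib.R2H4.RegSeqOpen.exists_equiv p.asIdeal Q.asIdeal q hQq
  have hT : LCI.IsLCI p.asIdeal.ResidueField (p.asIdeal.Fiber S) :=
    Groth.Agent.Lib.R2LeadSyntF.isLCI_of_isLCIOver _ _ (hfib p)
  let E := Groth.Agent.Lib.R2H4.RelGCIFlat.fiberPolyEquiv R n p
  let fT : p.asIdeal.Fiber (MvPolynomial (Fin n) R) →ₐ[p.asIdeal.ResidueField] p.asIdeal.Fiber S :=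
    Algebra.TensorProduct.map (AlgHom.id _ _) f
  have hfT : Function.Surjective fT :=
    Algebra.TensorProduct.map_surjective _ _ Function.surjective_id hf
  let fκ : MvPolynomial (Fin n) p.asIdeal.ResidueField →ₐ[p.asIdeal.ResidueField]
      p.asIdeal.Fiber S := fT.comp E.symm
  have hfκ : Function.Surjective fκ := hfT.comp E.symm.surjective
  obtain ⟨-, m, α, hα, hKα⟩ := hT
  have hK1 : LCI.IsKoszulRegularIdeal (RingHom.ker fκ.toRingHom) :=
    Groth.Agent.S9269.result _ _ m n α hα fκ hfκ hKα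
  have hK2 : LCI.IsKoszulRegularIdeal (RingHom.ker fT.toRingHom) := by
    obtain ⟨φE, hφE⟩ : ∃ φE : MvPolynomial (Fin n) p.asIdeal.ResidueField →+*
        p.asIdeal.Fiber (MvPolynomial (Fin n) R), ∀ y, φE y = E.symm y :=
      ⟨(E.symm : MvPolynomial (Fin n) p.asIdeal.ResidueField →+*
        p.asIdeal.Fiber (MvPolynomial (Fin n) R)), fun _ => rfl⟩
    have hφEbij : Function.Bijective φE := by
      have : (φE : _ → _) = E.symm := funext hφE
      rw [this]
      exact E.symm.bijective
    have h1 := Groth.Agent.Lib.R2H3.KzLCIComp.isKoszulRegularIdeal_map_of_flat φE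
      (RingHom.Flat.of_bijective hφEbij) _ hK1
    convert h1 using 1
    ext x
    rw [Ideal.mem_map_iff_of_surjective φE hφEbij.2]
    constructor
    · intro hx
      refine ⟨E x, ?_, by rw [hφE, E.symm_apply_apply]⟩
      rw [RingHom.mem_ker] at hx ⊢
      change fT (E.symm (E x)) = 0
      rw [E.symm_apply_apply]
      exact hx
    · rintro ⟨y, hy, rfl⟩
      rw [hφE]
      exact hy
  have hkerT : RingHom.ker fT.toRingHom = I.map (Algebra.TensorProduct.includeRight :
      MvPolynomial (Fin n) R →ₐ[R] p.asIdeal.Fiber (MvPolynomial (Fin n) R)) :=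
    Algebra.TensorProduct.lTensor_ker f hf
  have hIQ : RingHom.ker fT.toRingHom ≤ Q.asIdeal := by
    rw [hkerT, Ideal.map_le_iff_le_comap]
    change I ≤ Q.asIdeal.comap (Algebra.TensorProduct.includeRight :
      MvPolynomial (Fin n) R →ₐ[R] p.asIdeal.Fiber (MvPolynomial (Fin n) R))
    rw [hQq]
    exact hIq
  haveI : IsNoetherianRing (p.asIdeal.Fiber (MvPolynomial (Fin n) R)) :=
    Algebra.FiniteType.isNoetherianRing p.asIdeal.ResidueField _
  obtain ⟨c, gl, hgl, hspan⟩ :=
    Groth.Agent.Lib.Helper19.LciH1.exists_local_regular _ hK2 Q.asIdeal hIQ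
  have hKQ := (Groth.Agent.S15821.result _ (List.ofFn gl) hgl).1
  obtain ⟨εr, hεr⟩ : ∃ εr : Localization.AtPrime Q.asIdeal →+*
      EGA4.FibLocRing R (MvPolynomial (Fin n) R) q, ∀ y, εr y = ε y :=
    ⟨(ε : Localization.AtPrime Q.asIdeal →+* EGA4.FibLocRing R (MvPolynomial (Fin n) R) q),
      fun _ => rfl⟩
  have hεrbij : Function.Bijective εr := by
    have : (εr : _ → _) = ε := funext hεr
    rw [this]
    exact ε.bijective
  have hKF : LCI.IsKoszulRegularSeq (EGA4.FibLocRing R (MvPolynomial (Fin n) R) q)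
      ((List.ofFn gl).map εr) :=
    Groth.Agent.Lib.H9RegImmFlatBC.isKoszulRegularSeq_map εr
      (RingHom.Flat.of_bijective hεrbij) _ hKQ
  have hcomp : (εr.comp (algebraMap (p.asIdeal.Fiber (MvPolynomial (Fin n) R))
      (Localization.AtPrime Q.asIdeal))).comp
      (Algebra.TensorProduct.includeRight :
        MvPolynomial (Fin n) R →ₐ[R] p.asIdeal.Fiber (MvPolynomial (Fin n) R)).toRingHom =
      algebraMap (MvPolynomial (Fin n) R) (EGA4.FibLocRing R (MvPolynomial (Fin n) R) q) := by
    refine RingHom.ext fun s => ?_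
    change εr (algebraMap _ _ (1 ⊗ₜ s)) = _
    rw [hεr]
    exact hε s
  have hofF : Ideal.ofList ((List.ofFn gl).map εr) =
      I.map (algebraMap (MvPolynomial (Fin n) R)
        (EGA4.FibLocRing R (MvPolynomial (Fin n) R) q)) := by
    have h0 : Ideal.ofList (List.ofFn gl) = Ideal.span (Set.range gl) := by
      have h : {r | r ∈ List.ofFn gl} = Set.range gl := by
        ext r
        exact List.mem_ofFn
      show Ideal.span {r | r ∈ List.ofFn gl} = Ideal.span (Set.range gl)
      rw [h]
    have hmm : I.map (Algebra.TensorProduct.includeRight :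
        MvPolynomial (Fin n) R →ₐ[R] p.asIdeal.Fiber (MvPolynomial (Fin n) R)) =
        I.map (Algebra.TensorProduct.includeRight :
        MvPolynomial (Fin n) R →ₐ[R] p.asIdeal.Fiber (MvPolynomial (Fin n) R)).toRingHom := rfl
    rw [← Ideal.map_ofList, h0, hspan, hkerT, hmm, Ideal.map_map, Ideal.map_map, hcomp]
  have hlift : ∀ i : Fin c, ∃ a s : MvPolynomial (Fin n) R, a ∈ I ∧ s ∉ q ∧
      algebraMap (MvPolynomial (Fin n) R) (EGA4.FibLocRing R (MvPolynomial (Fin n) R) q) a =
        εr (gl i) *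
          algebraMap (MvPolynomial (Fin n) R) (EGA4.FibLocRing R (MvPolynomial (Fin n) R) q) s := by
    intro i
    apply exists_lift_fib q I
    rw [← hofF]
    apply Ideal.subset_span
    exact List.mem_map.mpr ⟨gl i, List.mem_ofFn.mpr ⟨i, rfl⟩, rfl⟩
  choose F sF hFI hsq hFs using hlift
  have hunit : ∀ i, IsUnit (algebraMap (MvPolynomial (Fin n) R)
      (EGA4.FibLocRing R (MvPolynomial (Fin n) R) q) (sF i)) :=
    fun i => isUnit_algebraMap_fib q (sF i) (hsq i)
  have hideal : Ideal.ofList ((List.ofFn F).map (algebraMap (MvPolynomial (Fin n) R)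
      (EGA4.FibLocRing R (MvPolynomial (Fin n) R) q))) =
      Ideal.ofList ((List.ofFn gl).map εr) := by
    apply le_antisymm
    · rw [Ideal.ofList, Ideal.span_le]
      intro x hx
      obtain ⟨y, hy, rfl⟩ := List.mem_map.mp hx
      obtain ⟨i, rfl⟩ := List.mem_ofFn.mp hy
      rw [hFs i]
      apply Ideal.mul_mem_right
      apply Ideal.subset_span
      exact List.mem_map.mpr ⟨gl i, List.mem_ofFn.mpr ⟨i, rfl⟩, rfl⟩
    · rw [Ideal.ofList, Ideal.span_le]
      intro x hx
      obtain ⟨y, hy, rfl⟩ := List.mem_map.mp hx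
      obtain ⟨i, rfl⟩ := List.mem_ofFn.mp hy
      obtain ⟨u, hu⟩ := hunit i
      have h1 : εr (gl i) = algebraMap (MvPolynomial (Fin n) R)
          (EGA4.FibLocRing R (MvPolynomial (Fin n) R) q) (F i) * ((u⁻¹ : _ˣ) : _) := by
        rw [hFs i, ← hu, mul_assoc, Units.mul_inv, mul_one]
      change εr (gl i) ∈ _
      rw [h1]
      apply Ideal.mul_mem_right
      apply Ideal.subset_span
      exact List.mem_map.mpr ⟨F i, List.mem_ofFn.mpr ⟨i, rfl⟩, rfl⟩
  have hK : LCI.IsKoszulRegularSeq (EGA4.FibLocRing R (MvPolynomial (Fin n) R) q)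
      ((List.ofFn F).map (algebraMap (MvPolynomial (Fin n) R)
        (EGA4.FibLocRing R (MvPolynomial (Fin n) R) q))) :=
    Groth.Agent.Lib.R2H3.KzGen.isKoszulRegularSeq_of_same_length _ _ hKF (by simp) hideal
  have hreg := isRegular_of_koszul_fib (R := R) q (List.ofFn F) (fun x hx => by
    obtain ⟨i, rfl⟩ := List.mem_ofFn.mp hx
    exact hIq (hFI i)) hK
  have hJI : Ideal.span (Set.range F) ≤ I := by
    rw [Ideal.span_le]
    rintro _ ⟨i, rfl⟩
    exact hFI i
  have h0F : Ideal.ofList (List.ofFn F) = Ideal.span (Set.range F) := by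
    have h : {r | r ∈ List.ofFn F} = Set.range F := by
      ext r
      exact List.mem_ofFn
    show Ideal.span {r | r ∈ List.ofFn F} = Ideal.span (Set.range F)
    rw [h]
  have hle : I.map (algebraMap (MvPolynomial (Fin n) R)
      (EGA4.FibLocRing R (MvPolynomial (Fin n) R) q)) ≤
      (Ideal.span (Set.range F)).map (algebraMap (MvPolynomial (Fin n) R)
      (EGA4.FibLocRing R (MvPolynomial (Fin n) R) q)) := by
    rw [← hofF, ← hideal, ← h0F, Ideal.map_ofList]
  have h1 := map_le_of_map_fib_le (R := R) q I _ hJI hfg hle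
  obtain ⟨g, hg, hgI⟩ := exists_mul_mem_atPrime q I _ hfg h1
  exact ⟨c, F, g, hFI, hg, hgI, hreg⟩

end B3

end Groth.Agent.Lib.R2LeadSyntG
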