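import Mathlib
import Groth.Prelude.Def_LCI2
import Groth.Prelude.Def_RegImm
import Groth.Agent.Lib.R2LeadSyntC
import Groth.Agent.Lib.R2LeadSyntE
import Groth.Agent.Lib.R2LeadSyntF
import Groth.Agent.Lib.R2LeadSyntG
import Groth.Agent.Lib.R2H4RelGCIKoszul
import Groth.Agent.Lib.R2H3KzLCIComp

set_option autoImplicit false
set_option linter.style.haveILetI false
universe u

namespace Groth.Agent.Lib.R2LeadSyntH

open RingTheory.Sequence TensorProduct

/-- A relative global complete intersection is a local complete intersection ring map in the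
Koszul sense. -/
theorem isLCI_relGCI (R : Type u) [CommRing R] (n c : ℕ) (F : Fin c → MvPolynomial (Fin n) R)
    (h : Synt.IsRelGCI R n c F) : LCI.IsLCI R (Synt.RelGCIRing R n c F) := by
  let f : MvPolynomial (Fin n) R →ₐ[R] Synt.RelGCIRing R n c F :=
    Ideal.Quotient.mkₐ R (Ideal.span (Set.range F))
  have hf : Function.Surjective f := Ideal.Quotient.mkₐ_surjective R _
  refine ⟨Algebra.FiniteType.of_surjective f hf, n, f, hf, ?_⟩
  have hker : RingHom.ker f.toRingHom = Ideal.ofList (List.ofFn F) := by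
    rw [Groth.Agent.Lib.R2H4.RelGCIFlat.ofList_ofFn]
    exact Ideal.mk_ker
  rw [hker]
  exact Groth.Agent.Lib.R2LeadSyntF.isKoszulRegularIdeal_ofList _
    (Groth.Agent.Lib.R2H4.RelGCIKoszul.isKoszulRegularSeq_relGCI R n c F h)

/-- **Syntomic ring maps are local complete intersection ring maps (Koszul sense).** -/
theorem isLCI_of_isSyntomic (R S : Type u) [CommRing R] [CommRing S] [Algebra R S]
    (h : Synt.IsSyntomic R S) : LCI.IsLCI R S := by
  have hfp : Algebra.FinitePresentation R S := h.2.1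
  obtain ⟨n, f, hf⟩ := Algebra.FiniteType.iff_quotient_mvPolynomial''.mp
    (inferInstance : Algebra.FiniteType R S)
  set I := RingHom.ker f.toRingHom with hI
  let e : (MvPolynomial (Fin n) R ⧸ I) ≃ₐ[R] S := Ideal.quotientKerAlgEquivOfSurjective hf
  apply Groth.Agent.Lib.R2LeadSyntF.isLCI_of_span R S
    {g : S | LCI.IsLCI R (Localization.Away g)} _ (fun g hg => hg)
  by_contra hne
  obtain ⟨m, hm, hle⟩ := Ideal.exists_le_maximal _ hne
  haveI := hm.isPrime
  let q : Ideal (MvPolynomial (Fin n) R) := m.comap f.toRingHom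
  haveI hq : q.IsPrime := Ideal.IsPrime.comap _
  have hIq : I ≤ q := by
    intro x hx
    change f.toRingHom x ∈ m
    rw [RingHom.mem_ker.mp hx]
    exact m.zero_mem
  obtain ⟨c, F, g, hF, hg, hgI, hreg⟩ := Groth.Agent.Lib.R2LeadSyntG.dataB n f hf h q hIq
  obtain ⟨h', hhq, hrel, ⟨e1⟩⟩ := Groth.Agent.Lib.R2LeadSyntC.common R n c F I hF q hIq g hg hgI hreg
  have h1 : LCI.IsLCI R (Synt.RelGCIRing R (n + 1) (c + 1)
      (Groth.Agent.Lib.R2H4.RelGCIAway.F' R n c F h')) := isLCI_relGCI R _ _ _ hrel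
  have h2 : LCI.IsLCI R (Localization.Away (Ideal.Quotient.mk I h')) :=
    Groth.Agent.Lib.R2H3.KzLCIComp.isLCI_of_algEquiv e1.symm h1
  have he : e (Ideal.Quotient.mk I h') = f h' := rfl
  let e2 : Localization.Away (Ideal.Quotient.mk I h') ≃ₐ[R] Localization.Away (f h') :=
    IsLocalization.algEquivOfAlgEquiv (M := Submonoid.powers (Ideal.Quotient.mk I h'))
      (T := Submonoid.powers (f h')) _ _ e (by rw [Submonoid.map_powers]; rfl)
  have h3 : LCI.IsLCI R (Localization.Away (f h')) :=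
    Groth.Agent.Lib.R2H3.KzLCIComp.isLCI_of_algEquiv e2 h2
  exact hhq (hle (Ideal.subset_span h3))

/-- **Syntomic = flat + local complete intersection.** -/
theorem isSyntomic_iff_flat_and_isLCI (R S : Type u) [CommRing R] [CommRing S] [Algebra R S] :
    Synt.IsSyntomic R S ↔ Module.Flat R S ∧ LCI.IsLCI R S :=
  ⟨fun h => ⟨h.1, isLCI_of_isSyntomic R S h⟩, fun ⟨hfl, hl⟩ =>
    haveI := hfl
    Groth.Agent.Lib.R2LeadSyntE.isSyntomic_of_flat_of_isLCI R S hl⟩

end Groth.Agent.Lib.R2LeadSyntH
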