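import Mathlib
import Groth.Prelude.Def_LCI2
import Groth.Prelude.Def_RegImm
import Groth.Agent.Lib.R2LeadSyntH
import Groth.Agent.Lib.R2LeadKzFpqcE
import Groth.Agent.Lib.R2H4SyntLocal
import Groth.Agent.Lib.H5bSynt

set_option autoImplicit false
set_option linter.style.haveILetI false
universe u

open CategoryTheory CategoryTheory.Limits AlgebraicGeometry

namespace Groth.Agent.Lib.R2LeadSyntI

/-- flat + Koszul at every point ⟹ syntomic -/
theorem isSyntomicMor_of_flat_of_isKoszulAt {X S : Scheme.{u}} (f : X ⟶ S) [hfl : Flat f]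
    (hK : ∀ x : X, Synt.IsKoszulAt f x) : Synt.IsSyntomicMor f := by
  rw [Groth.Agent.Lib.R2H4.SyntLocal.isSyntomicMor_iff]
  intro U V e
  have h1 := Groth.Agent.Lib.R2LeadKzFpqcE.isLCI_of_isKoszulAt f hK U.1 V.1 U.2 V.2 e
  have h2 : (f.appLE V.1 U.1 e).hom.Flat :=
    HasRingHomProperty.appLE (P := @Flat) f hfl V U e
  letI := (f.appLE V.1 U.1 e).hom.toAlgebra
  haveI : Module.Flat Γ(S, V.1) Γ(X, U.1) := h2
  exact Groth.Agent.Lib.R2LeadSyntE.isSyntomic_of_flat_of_isLCI _ _ h1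

/-- syntomic ⟹ Koszul at every point -/
theorem isKoszulAt_of_isSyntomicMor {X S : Scheme.{u}} (f : X ⟶ S)
    (h : Synt.IsSyntomicMor f) (x : X) : Synt.IsKoszulAt f x := by
  apply Groth.Agent.Lib.R2LeadKzFpqcE.isKoszulAt_of_isLCI f
  intro U V hU hV e
  have h1 := (Groth.Agent.Lib.R2H4.SyntLocal.isSyntomicMor_iff f).mp h ⟨U, hU⟩ ⟨V, hV⟩ e
  letI := (f.appLE V U e).hom.toAlgebra
  exact Groth.Agent.Lib.R2LeadSyntH.isLCI_of_isSyntomic _ _ h1

/-- **Flat + local complete intersection = syntomic**, for morphisms of schemes. -/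
theorem flat_and_lci_iff_syntomic {X S : Scheme.{u}} (f : X ⟶ S) :
    (Flat f ∧ ∀ x : X, Synt.IsKoszulAt f x) ↔ Synt.IsSyntomicMor f :=
  ⟨fun ⟨hfl, hK⟩ => isSyntomicMor_of_flat_of_isKoszulAt f hK,
    fun h => ⟨Groth.Agent.Lib.H5b.Synt.flat_of_isSyntomicMor f h, isKoszulAt_of_isSyntomicMor f h⟩⟩

end Groth.Agent.Lib.R2LeadSyntI
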