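import Mathlib
import Groth.Prelude.Def_RegImm
import Groth.Agent.Lib.Helper13KzLiftB
import Groth.Agent.Lib.Helper13Kz
import Groth.Agent.Lib.Helper21KoszulDepth
import Groth.Agent.Lib.Helper21KoszulFun
import Groth.Agent.Lib.H9RegImmFlatBC
import Groth.Agent.Lib.Helper5RegSeq
import Groth.Agent.Lib.H9KoszulComp

set_option autoImplicit false
set_option linter.style.haveILetI false
universe u

namespace Groth.Agent.Lib.H9KoszulSmoothReg

open CategoryTheory CategoryTheory.Limits CochainComplex CohIII
open Groth.Agent.Lib.Helper21 Groth.Agent.Helper13Kz Groth.Agent.Helper13KzLift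

variable {A : Type u} [CommRing A]

/-- swapping the scalar in a mapping cone: acyclicity only depends on the action on homology -/
theorem isZero_cone_swap (K : CochainComplex (ModuleCat.{u} A) ℤ) (x y : A)
    (hxy : ∀ (i : ℤ) (z : K.homology i), x • z = y • z) (i : ℤ)
    (h : IsZero ((mappingCone (x • 𝟙 K)).homology i)) :
    IsZero ((mappingCone (y • 𝟙 K)).homology i) := by
  obtain ⟨g, δ, h1, h2, h3⟩ := cone_les K x i
  obtain ⟨g', δ', h1', h2', h3'⟩ := cone_les K y i
  have hsub : Subsingleton ((mappingCone (x • 𝟙 K)).homology i) :=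
    ModuleCat.subsingleton_of_isZero h
  have hsurj : ∀ z : K.homology i, ∃ w : K.homology i, x • w = z := by
    intro z
    have hz : g z = 0 := Subsingleton.elim _ _
    obtain ⟨w, hw⟩ := (h1 z).mp hz
    exact ⟨w, hw⟩
  have hinj : ∀ z : K.homology (i + 1), x • z = 0 → z = 0 := by
    intro z hz
    obtain ⟨c, hc⟩ := (h3 z).mp hz
    rw [← hc, Subsingleton.elim c 0, map_zero]
  have hsub' : Subsingleton ((mappingCone (y • 𝟙 K)).homology i) := by
    refine ⟨fun a b => ?_⟩
    have key : ∀ c : (mappingCone (y • 𝟙 K)).homology i, c = 0 := by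
      intro c
      have h4 : (y • (LinearMap.id : K.homology (i + 1) →ₗ[A] K.homology (i + 1))) (δ' c) = 0 :=
        (h3' (δ' c)).mpr ⟨c, rfl⟩
      have h5 : δ' c = 0 := by
        apply hinj
        rw [hxy]
        exact h4
      obtain ⟨z, hz⟩ := (h2' c).mp h5
      obtain ⟨w, hw⟩ := hsurj z
      rw [← hz, ← hw, hxy]
      exact (h1' (y • w)).mpr ⟨w, rfl⟩
    rw [key a, key b]
  exact ModuleCat.isZero_of_subsingleton _

/-- a Koszul-regular nonempty sequence has zero annihilator -/
theorem eq_zero_of_forall_mul_eq_zero (l : List A) (hl : LCI.IsKoszulRegularSeq A l) (hne : l ≠ [])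
    (r : A) (hr : ∀ x ∈ l, x * r = 0) : r = 0 := by
  obtain ⟨e⟩ := bottom_equiv A l (-(l.length : ℤ)) rfl
  have hlen : (-(l.length : ℤ)) ≠ 0 := by
    have : 0 < l.length := List.length_pos_iff.mpr hne
    omega
  have hz := (isKoszulRegularSeq_iff A l).mp hl _ hlen
  have hmem : r ∈ Submodule.torsionBySet A A {x | x ∈ l} := by
    rw [Submodule.mem_torsionBySet_iff]
    rintro ⟨a, ha⟩
    exact hr a ha
  have h0 : e.symm ⟨r, hmem⟩ = e.symm 0 := Subsingleton.elim _ _
  have h1 := e.symm.injective h0
  exact congrArg Subtype.val h1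

open Polynomial in
/-- the polynomial with coefficient list `l` -/
noncomputable def poly : List A → Polynomial A
  | [] => 0
  | c :: l => Polynomial.C c + Polynomial.X * poly l

open Polynomial in
theorem forall_mul_eq_zero_of_smul_poly (r : A) : ∀ l : List A, r • poly l = 0 → ∀ x ∈ l, x * r = 0
  | [], _ => by simp
  | c :: l, h => by
    rw [poly, smul_add] at h
    have h0 : r * c = 0 := by
      have := congrArg (fun p => Polynomial.coeff p 0) h
      simpa using this
    have h1 : r • poly l = 0 := by
      rw [smul_C, smul_eq_mul, h0, map_zero, zero_add] at h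
      ext n
      have := congrArg (fun p => Polynomial.coeff p (n + 1)) h
      simpa using this
    intro x hx
    rcases List.mem_cons.mp hx with rfl | hx'
    · rw [mul_comm]; exact h0
    · exact forall_mul_eq_zero_of_smul_poly r l h1 x hx'

section restrict
variable {S T : Type u} [CommRing S] [CommRing T] (φ : S →+* T)

/-- converse of `isZero_homology_restrict` -/
theorem isZero_homology_of_restrict (M : ModuleCat.{u} T) (l : List S) (i : ℤ)
    (h : IsZero ((koszulCx ((ModuleCat.restrictScalars φ).obj M) l).homology i)) :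
    IsZero ((koszulCx M (l.map φ)).homology i) := by
  have h1 : IsZero ((((ModuleCat.restrictScalars φ).mapHomologicalComplex (ComplexShape.up ℤ)).obj
      (koszulCx M (l.map φ))).homology i) :=
    IsZero.of_iso h ((HomologicalComplex.homologyFunctor _ _ i).mapIso (restrictIso φ M l))
  rw [← HomologicalComplex.exactAt_iff_isZero_homology] at h1 ⊢
  have h2 : (((koszulCx M (l.map φ)).sc i).map (ModuleCat.restrictScalars φ)).Exact := h1
  exact (ShortComplex.exact_map_iff_of_faithful _ (ModuleCat.restrictScalars φ)).mp h2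

end restrict

section quot
open Pointwise
variable {B : Type u} [CommRing B]

theorem span_singleton_eq_smul_top (b : B) :
    (b • (⊤ : Submodule B B)) = (Ideal.span {b} : Ideal B) := by
  ext x
  rw [Submodule.mem_smul_pointwise_iff_exists, Ideal.mem_span_singleton']
  constructor
  · rintro ⟨y, -, rfl⟩
    exact ⟨y, by rw [smul_eq_mul, mul_comm]⟩
  · rintro ⟨y, rfl⟩
    exact ⟨y, trivial, by rw [smul_eq_mul, mul_comm]⟩

/-- passing to the quotient by a regular first element -/
theorem isKoszulRegularSeq_quot (b : B) (hb : IsSMulRegular B b) (l : List B)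
    (h : ∀ i : ℤ, i ≠ 0 → IsZero ((koszulCx (ModuleCat.of B B) (b :: l)).homology i)) :
    LCI.IsKoszulRegularSeq (B ⧸ Ideal.span {b}) (l.map (Ideal.Quotient.mk (Ideal.span {b}))) := by
  rw [isKoszulRegularSeq_iff]
  intro i hi
  have h1 : IsZero ((koszulCx (quotObj (ModuleCat.of B B) b) l).homology i) :=
    (isZero_homology_cons_iff (ModuleCat.of B B) b hb l i).mp (h i hi)
  have h2 : Subsingleton (KH l (QuotSMulTop b B) i) := ModuleCat.subsingleton_of_isZero h1
  let e : QuotSMulTop b B ≃ₗ[B] ((ModuleCat.restrictScalars (Ideal.Quotient.mk (Ideal.span {b}))).obj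
      (ModuleCat.of (B ⧸ Ideal.span {b}) (B ⧸ Ideal.span {b}))) :=
    (Submodule.quotEquivOfEq _ _ (span_singleton_eq_smul_top b)).trans
      (Groth.Agent.Lib.H9KoszulComp.quotEquiv (Ideal.span {b}))
  have h3 := subsingleton_KH_of_equiv l e i h2
  have h4 : IsZero ((koszulCx ((ModuleCat.restrictScalars (Ideal.Quotient.mk (Ideal.span {b}))).obj
      (ModuleCat.of (B ⧸ Ideal.span {b}) (B ⧸ Ideal.span {b}))) l).homology i) :=
    ModuleCat.isZero_of_subsingleton _
  exact ModuleCat.subsingleton_of_isZero (isZero_homology_of_restrict _ _ l i h4)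

end quot

section step
open Polynomial

theorem poly_mem : ∀ l : List A, poly l ∈ Ideal.ofList (l.map (algebraMap A A[X]))
  | [] => by simp [poly]
  | c :: l => by
    rw [poly, List.map_cons, Ideal.ofList_cons]
    refine Ideal.add_mem _ (Ideal.mem_sup_left (Ideal.mem_span_singleton_self _)) ?_
    exact Ideal.mul_mem_left _ _ (Ideal.mem_sup_right (poly_mem l))

theorem isSMulRegular_poly (l : List A) (hl : LCI.IsKoszulRegularSeq A l) (hne : l ≠ []) :
    IsSMulRegular A[X] (poly l) := by
  have h : poly l ∈ nonZeroDivisors A[X] := by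
    rw [Polynomial.mem_nonZeroDivisors_iff]
    intro r hr
    exact eq_zero_of_forall_mul_eq_zero l hl hne r (forall_mul_eq_zero_of_smul_poly r l hr)
  rw [isSMulRegular_iff_right_eq_zero_of_smul]
  intro x hx
  exact h.2 x (by rwa [smul_eq_mul, mul_comm] at hx)

theorem isKoszulRegularSeq_step (a : A) (l : List A) (hl : LCI.IsKoszulRegularSeq A (a :: l)) :
    LCI.IsKoszulRegularSeq (A[X] ⧸ Ideal.span {poly (a :: l)})
      ((l.map (algebraMap A A[X])).map (Ideal.Quotient.mk (Ideal.span {poly (a :: l)}))) := by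
  apply isKoszulRegularSeq_quot _ (isSMulRegular_poly (a :: l) hl (by simp))
  intro i hi
  have hflat : (algebraMap A A[X]).Flat := RingHom.flat_algebraMap_iff.mpr inferInstance
  have h1 := Groth.Agent.Lib.H9RegImmFlatBC.isKoszulRegularSeq_map (algebraMap A A[X]) hflat
    (a :: l) hl
  have h2 : IsZero ((koszulCx (ModuleCat.of A[X] A[X])
      (algebraMap A A[X] a :: l.map (algebraMap A A[X]))).homology i) :=
    (isZero_congr (koszul_eq A[X] _) i).mp (h1 i hi)
  refine isZero_cone_swap (koszulCx (ModuleCat.of A[X] A[X]) (l.map (algebraMap A A[X])))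
    (algebraMap A A[X] a) (poly (a :: l)) ?_ i h2
  intro j z
  have hz : (X * poly l) • z = 0 :=
    smul_KH_eq_zero_of_mem (M := A[X]) (l.map (algebraMap A A[X])) (X * poly l)
      (Ideal.mul_mem_left _ _ (poly_mem l)) j z
  rw [poly, add_smul, hz, add_zero]
  rfl

end step

end Groth.Agent.Lib.H9KoszulSmoothReg
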