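import Mathlib
import Groth.Prelude.Def_LCI2
import Groth.Prelude.Def_RegImm
import Groth.Agent.Lib.R2LeadSyntP
import Groth.Agent.Lib.R2LeadSyntK
import Groth.Agent.Lib.R2LeadSyntI
import Groth.Agent.Lib.R2H3KzLCIEquiv
import Groth.Agent.Lib.R2H3KzLCIComp
import Groth.Agent.Lib.R2H4SyntLocal
import Groth.Agent.Lib.H5bSynt
import Groth.Agent.S5938
import Groth.Agent.S8661

set_option autoImplicit false
set_option linter.style.haveILetI false
universe u

open TensorProduct

namespace Groth.Agent.Lib.R2LeadSyntQ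

section Ring

/-- transfer of lci along two models of the same localization -/
theorem isLCI_of_isLocalization (A C₀ C₁ C₂ : Type u) [CommRing A] [CommRing C₀] [CommRing C₁]
    [CommRing C₂] [Algebra A C₀] [Algebra C₀ C₁] [Algebra A C₁] [IsScalarTower A C₀ C₁]
    [Algebra C₀ C₂] [Algebra A C₂] [IsScalarTower A C₀ C₂] (h : C₀)
    [IsLocalization.Away h C₁] [IsLocalization.Away h C₂] (hl : LCI.IsLCI A C₁) :
    LCI.IsLCI A C₂ :=
  Groth.Agent.Lib.R2H3.KzLCIComp.isLCI_of_algEquiv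
    ((IsLocalization.algEquiv (Submonoid.powers h) C₁ C₂).restrictScalars A) hl

/-- lci-ness of a principal localization from Koszul-regularity of the localized kernel -/
theorem isLCI_away (A : Type u) [CommRing A] (n : ℕ) (B₀ : Type u) [CommRing B₀] [Algebra A B₀]
    (α : MvPolynomial (Fin n) A →ₐ[A] B₀) (hα : Function.Surjective α)
    (b : MvPolynomial (Fin n) A)
    (hK : LCI.IsKoszulRegularIdeal
      ((RingHom.ker α.toRingHom).map (algebraMap (MvPolynomial (Fin n) A) (Localization.Away b)))) :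
    LCI.IsLCI A (Localization.Away (α b)) := by
  haveI : Algebra.Smooth A (MvPolynomial (Fin n) A) := ⟨inferInstance, inferInstance⟩
  haveI : Algebra.Smooth (MvPolynomial (Fin n) A) (Localization.Away b) :=
    ⟨inferInstance, inferInstance⟩
  haveI : Algebra.Smooth A (Localization.Away b) :=
    Algebra.Smooth.comp A (MvPolynomial (Fin n) A) (Localization.Away b)
  haveI : Algebra.FiniteType A (Localization.Away b) :=
    Algebra.FiniteType.trans (S := MvPolynomial (Fin n) A) inferInstance inferInstance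
  let ψ : Localization.Away b →ₐ[A] Localization.Away (α b) :=
    IsLocalization.Away.mapₐ (Localization.Away b) (Localization.Away (α b)) α b
  have hψ : Function.Surjective ψ :=
    IsLocalization.Away.mapₐ_surjective_of_surjective (Aₚ := Localization.Away b)
      (Bₚ := Localization.Away (α b)) b hα
  have hT : Submonoid.map α.toRingHom (Submonoid.powers b) = Submonoid.powers (α b) := by
    rw [Submonoid.map_powers]; rfl
  have hker : RingHom.ker ψ.toRingHom =
      (RingHom.ker α.toRingHom).map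
        (algebraMap (MvPolynomial (Fin n) A) (Localization.Away b)) := by
    have := IsLocalization.ker_map (S := Localization.Away b) (Localization.Away (α b))
      α.toRingHom hT
    rw [← this]
    rfl
  apply Groth.Agent.Lib.R2LeadSyntK.isLCI_of_isKoszulRegularIdeal_ker ψ hψ
  rw [hker]
  exact hK

/-- **Affine chart statement.** -/
theorem chart (A B₀ C₀ : Type u) [CommRing A] [CommRing B₀] [CommRing C₀] [Algebra A B₀]
    [Algebra B₀ C₀] [Algebra A C₀] [IsScalarTower A B₀ C₀] [Algebra.FiniteType A B₀]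
    (hs : Synt.IsSyntomic B₀ C₀) (hloc : ∀ h : C₀, LCI.IsLCI A (Localization.Away h))
    (q' : PrimeSpectrum C₀) :
    ∃ b' : B₀, algebraMap B₀ C₀ b' ∉ q'.asIdeal ∧ LCI.IsLCI A (Localization.Away b') := by
  obtain ⟨n, α, hα⟩ := Algebra.FiniteType.iff_quotient_mvPolynomial''.mp
    (inferInstance : Algebra.FiniteType A B₀)
  set I := RingHom.ker α.toRingHom with hI
  let eB : (MvPolynomial (Fin n) A ⧸ I) ≃ₐ[A] B₀ := Ideal.quotientKerAlgEquivOfSurjective hα
  letI algBC : Algebra (MvPolynomial (Fin n) A ⧸ I) C₀ :=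
    ((algebraMap B₀ C₀).comp (eB : (MvPolynomial (Fin n) A ⧸ I) →+* B₀)).toAlgebra
  haveI : IsScalarTower A (MvPolynomial (Fin n) A ⧸ I) C₀ := by
    refine IsScalarTower.of_algebraMap_eq (R := A) (S := MvPolynomial (Fin n) A ⧸ I) (A := C₀)
      (fun a => ?_)
    change algebraMap A C₀ a =
      algebraMap B₀ C₀ (eB (algebraMap A (MvPolynomial (Fin n) A ⧸ I) a))
    rw [eB.commutes, ← IsScalarTower.algebraMap_apply]
  have hs' : Synt.IsSyntomic (MvPolynomial (Fin n) A ⧸ I) C₀ := by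
    have h1 : Groth.Agent.Lib.R2H4.SyntLocal.Q (algebraMap B₀ C₀) := by
      unfold Groth.Agent.Lib.R2H4.SyntLocal.Q
      convert hs
      exact Algebra.algebra_ext _ _ (fun _ => rfl)
    exact Groth.Agent.Lib.R2H4.SyntLocal.Q_propertyIsLocal.respectsIso.2 _ eB.toRingEquiv h1
  obtain ⟨b, hb, hK⟩ := Groth.Agent.Lib.R2LeadSyntP.core₂ A n I C₀ hs' hloc q'
  refine ⟨α b, ?_, isLCI_away A n B₀ α hα b hK⟩
  intro hmem
  apply hb
  change algebraMap B₀ C₀ (eB (Ideal.Quotient.mk I b)) ∈ q'.asIdeal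
  exact hmem

end Ring

section Scheme

open CategoryTheory CategoryTheory.Limits AlgebraicGeometry

/-- descent of Koszul-lci along a syntomic morphism, pointwise on the image -/
theorem isKoszulAt_of_comp {X' X Y : Scheme.{u}} (g : X' ⟶ X) (hg : Synt.IsSyntomicMor g)
    (f : X ⟶ Y) (hgf : ∀ x' : X', Synt.IsKoszulAt (g ≫ f) x') (hlft : LocallyOfFiniteType f)
    (x' : X') : Synt.IsKoszulAt f (g x') := by
  obtain ⟨_, ⟨(V : Y.Opens), hV, rfl⟩, hxV, -⟩ :=
    Y.isBasis_affineOpens.exists_subset_of_mem_open (Set.mem_univ (f (g x'))) isOpen_univ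
  obtain ⟨_, ⟨(U : X.Opens), hU, rfl⟩, hxU, hUV⟩ :=
    X.isBasis_affineOpens.exists_subset_of_mem_open (show g x' ∈ f ⁻¹ᵁ V from hxV)
      (f ⁻¹ᵁ V).isOpen
  obtain ⟨_, ⟨(U' : X'.Opens), hU', rfl⟩, hxU', hU'U⟩ :=
    X'.isBasis_affineOpens.exists_subset_of_mem_open (show x' ∈ g ⁻¹ᵁ U from hxU)
      (g ⁻¹ᵁ U).isOpen
  have e : U ≤ f ⁻¹ᵁ V := hUV
  have e' : U' ≤ g ⁻¹ᵁ U := hU'U
  have e'' : U' ≤ (g ≫ f) ⁻¹ᵁ V := e'.trans ((TopologicalSpace.Opens.map g.base).map (homOfLE e)).le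
  letI algAB : Algebra Γ(Y, V) Γ(X, U) := (f.appLE V U e).hom.toAlgebra
  letI algBC : Algebra Γ(X, U) Γ(X', U') := (g.appLE U U' e').hom.toAlgebra
  letI algAC : Algebra Γ(Y, V) Γ(X', U') := ((g ≫ f).appLE V U' e'').hom.toAlgebra
  haveI tower : IsScalarTower Γ(Y, V) Γ(X, U) Γ(X', U') := by
    refine IsScalarTower.of_algebraMap_eq' ?_
    rw [RingHom.algebraMap_toAlgebra, RingHom.algebraMap_toAlgebra, RingHom.algebraMap_toAlgebra,
      ← CommRingCat.hom_comp, Scheme.Hom.appLE_comp_appLE]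
  haveI hft : Algebra.FiniteType Γ(Y, V) Γ(X, U) :=
    HasRingHomProperty.appLE (P := @LocallyOfFiniteType) f hlft ⟨V, hV⟩ ⟨U, hU⟩ e
  have hs : Synt.IsSyntomic Γ(X, U) Γ(X', U') :=
    (Groth.Agent.Lib.R2H4.SyntLocal.isSyntomicMor_iff g).mp hg ⟨U', hU'⟩ ⟨U, hU⟩ e'
  -- the lci hypothesis on all principal opens of `U'`
  have hloc : ∀ h : Γ(X', U'), LCI.IsLCI Γ(Y, V) (Localization.Away h) := by
    intro h
    have hW : IsAffineOpen (X'.basicOpen h) := hU'.basicOpen h
    have eW : X'.basicOpen h ≤ (g ≫ f) ⁻¹ᵁ V := (X'.basicOpen_le h).trans e''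
    have h1 := Groth.Agent.Lib.R2LeadKzFpqcE.isLCI_of_isKoszulAt (g ≫ f) hgf
      (X'.basicOpen h) V hW hV eW
    letI algAW : Algebra Γ(Y, V) Γ(X', X'.basicOpen h) :=
      ((g ≫ f).appLE V (X'.basicOpen h) eW).hom.toAlgebra
    haveI : IsScalarTower Γ(Y, V) Γ(X', U') Γ(X', X'.basicOpen h) := by
      refine IsScalarTower.of_algebraMap_eq' ?_
      rw [RingHom.algebraMap_toAlgebra, RingHom.algebraMap_toAlgebra,
        RingHom.algebraMap_toAlgebra, ← CommRingCat.hom_comp, Scheme.Hom.appLE_map]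
    haveI : IsLocalization.Away h Γ(X', X'.basicOpen h) := hU'.isLocalization_basicOpen h
    exact isLCI_of_isLocalization Γ(Y, V) Γ(X', U') Γ(X', X'.basicOpen h) (Localization.Away h) h h1
  -- the prime of `x'`
  let q' : PrimeSpectrum Γ(X', U') :=
    ⟨(IsLocalRing.maximalIdeal (X'.presheaf.stalk x')).comap (X'.presheaf.germ U' x' hxU').hom,
      Ideal.IsPrime.comap _⟩
  obtain ⟨b, hb, hlci⟩ := chart Γ(Y, V) Γ(X, U) Γ(X', U') hs hloc q'
  have hx'b : x' ∈ X'.basicOpen ((g.appLE U U' e').hom b) := by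
    rw [Scheme.mem_basicOpen _ _ x' hxU']
    by_contra hnu
    exact hb hnu
  have hgx : g x' ∈ X.basicOpen b := by
    have h2 := Scheme.basicOpen_appLE g U' U e' b
    have h3 : x' ∈ U' ⊓ g ⁻¹ᵁ (X.basicOpen b) := h2 ▸ hx'b
    exact h3.2
  have hU₁ : IsAffineOpen (X.basicOpen b) := hU.basicOpen b
  have e₁ : X.basicOpen b ≤ f ⁻¹ᵁ V := (X.basicOpen_le b).trans e
  refine Groth.Agent.Lib.R2H3.KzLCIEquiv.isKoszulAt_of_isLCI f (X.basicOpen b) hU₁ V hV e₁ (g x')
    hgx ?_
  letI algAU₁ : Algebra Γ(Y, V) Γ(X, X.basicOpen b) := (f.appLE V (X.basicOpen b) e₁).hom.toAlgebra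
  haveI : IsScalarTower Γ(Y, V) Γ(X, U) Γ(X, X.basicOpen b) := by
    refine IsScalarTower.of_algebraMap_eq' ?_
    rw [RingHom.algebraMap_toAlgebra, RingHom.algebraMap_toAlgebra,
      RingHom.algebraMap_toAlgebra, ← CommRingCat.hom_comp, Scheme.Hom.appLE_map]
  haveI : IsLocalization.Away b Γ(X, X.basicOpen b) := hU.isLocalization_basicOpen b
  exact isLCI_of_isLocalization Γ(Y, V) Γ(X, U) (Localization.Away b) Γ(X, X.basicOpen b) b hlci

/-- Koszul at every point implies locally of finite type -/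
theorem locallyOfFiniteType_of_isKoszulAt {X S : Scheme.{u}} (f : X ⟶ S)
    (hf : ∀ x : X, Synt.IsKoszulAt f x) : LocallyOfFiniteType f := by
  choose U' P' i' π' hx' hl' _ _ _ using hf
  refine IsZariskiLocalAtSource.of_iSup_eq_top (P := @LocallyOfFiniteType) U' ?_ hl'
  rw [eq_top_iff]
  intro x' _
  exact TopologicalSpace.Opens.mem_iSup.mpr ⟨x', hx' x'⟩

/-- **Syntomic descent of the lci property.** -/
theorem main {X' X Y : Scheme.{u}} (g : X' ⟶ X) (hg : Synt.IsSyntomicMor g) [Surjective g]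
    (f : X ⟶ Y) : (∀ x' : X', Synt.IsKoszulAt (g ≫ f) x') ↔ (∀ x : X, Synt.IsKoszulAt f x) := by
  constructor
  · intro h x
    haveI : Flat g := Groth.Agent.Lib.H5b.Synt.flat_of_isSyntomicMor g hg
    haveI : LocallyOfFinitePresentation g := Groth.Agent.Lib.H5b.Synt.lfp_of_isSyntomicMor g hg
    haveI : LocallyOfFiniteType (g ≫ f) := locallyOfFiniteType_of_isKoszulAt _ h
    have hlft : LocallyOfFiniteType f := Groth.Agent.S5938.result g f
    obtain ⟨x', rfl⟩ := g.surjective x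
    exact isKoszulAt_of_comp g hg f h hlft x'
  · intro hf
    exact Groth.Agent.S8661.result g f
      (Groth.Agent.Lib.R2LeadSyntI.isKoszulAt_of_isSyntomicMor g hg) hf

end Scheme

end Groth.Agent.Lib.R2LeadSyntQ
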