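import Mathlib
import Groth.Prelude.Def_AlgSpMor6
import Groth.Agent.S8658
import Groth.Agent.S8661
import Groth.Agent.S8662
import Groth.Agent.S9699
import Groth.Agent.S9729
import Groth.Agent.S9730
import Groth.Agent.S9758
import Groth.Agent.Lib.R2LeadSyntQ
import Groth.Agent.Lib.R2LeadKzFpqcC

/-!
# The morphism property `AlgSp.lci` of schemes (helper5)

Permanence properties of "Koszul at every point" packaged as instances on `AlgSp.lci`:
stable under composition, contains smooth morphisms, Zariski-local at source and target,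
stable under flat base change, descends along fpqc (quasi-compact) and fppf morphisms,
cancellation of a smooth second factor, syntomic-local on the source.
-/

set_option autoImplicit false
set_option linter.style.haveILetI false
set_option linter.unusedVariables false
universe u

open CategoryTheory CategoryTheory.Limits AlgebraicGeometry MorphismProperty

namespace Groth.Agent.Lib.H5bLci

/-- smooth morphisms are lci. -/
theorem lci_of_smooth {X Y : Scheme.{u}} (f : X ⟶ Y) [Smooth f] : AlgSp.lci f :=
  ((Groth.Agent.S9758.result f).2 (Groth.Agent.S9699.result f)).2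

theorem lci_of_etale {X Y : Scheme.{u}} (f : X ⟶ Y) (hf : Etale f) : AlgSp.lci f := by
  haveI := hf
  exact lci_of_smooth f

theorem lci_of_isOpenImmersion {X Y : Scheme.{u}} (f : X ⟶ Y) [IsOpenImmersion f] :
    AlgSp.lci f :=
  lci_of_smooth f

theorem lci_lft {X Y : Scheme.{u}} {f : X ⟶ Y} (hf : AlgSp.lci f) : LocallyOfFiniteType f :=
  Groth.Agent.Lib.R2LeadSyntQ.locallyOfFiniteType_of_isKoszulAt f hf

instance : (AlgSp.lci.{u}).IsStableUnderComposition where
  comp_mem f g hf hg := Groth.Agent.S8661.result f g hf hg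

instance : (AlgSp.lci.{u}).ContainsIdentities where
  id_mem X := lci_of_smooth (𝟙 X)

instance : (AlgSp.lci.{u}).IsMultiplicative where

instance : (AlgSp.lci.{u}).RespectsIso :=
  MorphismProperty.respectsIso_of_isStableUnderComposition (fun _ _ f hf => by
    haveI : IsIso f := hf
    exact lci_of_smooth f)

/-- lci is stable under flat base change. -/
theorem lci_flat_baseChange {X Y X' Y' : Scheme.{u}} {f : X ⟶ Y} {g : Y' ⟶ Y} {f' : X' ⟶ Y'}
    {g' : X' ⟶ X} (hsq : IsPullback g' f' f g) (hg : Flat g) (hf : AlgSp.lci f) : AlgSp.lci f' :=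
  Groth.Agent.S8658.result f g f' g' hsq hf

/-- cancellation of a smooth second factor. -/
theorem lci_cancel_smooth {X Y Z : Scheme.{u}} (f : X ⟶ Y) (g : Y ⟶ Z) (hg : Smooth g)
    (h : AlgSp.lci (f ≫ g)) : AlgSp.lci f :=
  fun x => Groth.Agent.S9729.result f g h x

/-- lci is syntomic local on the source (here: étale surjective). -/
theorem lci_of_etale_surjective_comp {A B C : Scheme.{u}} (e : A ⟶ B) (k : B ⟶ C) [Etale e]
    [Surjective e] (h : AlgSp.lci (e ≫ k)) : AlgSp.lci k :=
  (Groth.Agent.S9730.result e (Groth.Agent.S9699.result e) k).1 h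

instance : IsZariskiLocalAtSource (AlgSp.lci.{u}) := by
  apply IsZariskiLocalAtSource.mk'
  · intro X Y f U hf
    exact (AlgSp.lci.{u}).comp_mem _ _ (lci_of_isOpenImmersion U.ι) hf
  · intro X Y f ι U hU h
    have hlft : LocallyOfFiniteType f :=
      IsZariskiLocalAtSource.of_iSup_eq_top (P := @LocallyOfFiniteType) U hU
        (fun i => lci_lft (h i))
    intro x
    have hx : x ∈ (⨆ i, U i : X.Opens) := by rw [hU]; trivial
    obtain ⟨i, hi⟩ := TopologicalSpace.Opens.mem_iSup.mp hx
    exact Groth.Agent.Lib.R2LeadSyntQ.isKoszulAt_of_comp (U i).ι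
      (Groth.Agent.S9699.result (U i).ι) f (h i) hlft ⟨x, hi⟩

instance : IsZariskiLocalAtTarget (AlgSp.lci.{u}) :=
  IsZariskiLocalAtSource.isZariskiLocalAtTarget (P := AlgSp.lci.{u})
    (fun f g _ h => lci_cancel_smooth f g inferInstance h)

instance : (AlgSp.lci.{u}).DescendsAlong (@Surjective ⊓ @Flat ⊓ @QuasiCompact) where
  of_isPullback {A X Y Z fst snd f g} h hf hfst := by
    haveI : Surjective f := hf.1.1
    haveI : Flat f := hf.1.2
    haveI : QuasiCompact f := hf.2
    exact Groth.Agent.S8662.result g f fst snd h.flip hfst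

instance : (AlgSp.lci.{u}).DescendsAlong (@Surjective ⊓ @Flat ⊓ @LocallyOfFinitePresentation) :=
  inferInstance

end Groth.Agent.Lib.H5bLci
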