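import Mathlib
import Groth.Agent.Lib.H5bLciA
import Groth.Agent.Lib.R2LeadKzFpqcB
import Groth.Agent.Lib.H9RegImmFlatBC
import Groth.Agent.Lib.R2H3KzCancel

/-!
# Descent of lci morphisms along flat morphisms with (local) sections; fppf descent of
Koszul-regular immersions (helper5)
-/

set_option autoImplicit false
set_option linter.style.haveILetI false
set_option linter.unusedVariables false
universe u

open CategoryTheory CategoryTheory.Limits AlgebraicGeometry MorphismProperty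

namespace Groth.Agent.Lib.H5bLci

/-- descent of lci along a flat morphism admitting a section. -/
theorem lci_of_section {N W T NT : Scheme.{u}} (n : N ⟶ W) (γ : T ⟶ W) [Flat γ] (σ : W ⟶ T)
    (hσ : σ ≫ γ = 𝟙 W) (pr : NT ⟶ N) (nT : NT ⟶ T) (sq : IsPullback pr nT n γ)
    (h : AlgSp.lci nT) : AlgSp.lci n := by
  refine IsZariskiLocalAtTarget.of_forall_exists_morphismRestrict (P := AlgSp.lci) (fun w => ?_)
  obtain ⟨_, ⟨(W₀ : W.Opens), hW₀, rfl⟩, hwW₀, -⟩ :=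
    W.isBasis_affineOpens.exists_subset_of_mem_open (Set.mem_univ w) isOpen_univ
  have hγσ : ∀ y : W, γ (σ y) = y := fun y => by
    rw [← Scheme.Hom.comp_apply, hσ]; rfl
  have hσw : σ w ∈ γ ⁻¹ᵁ W₀ := by
    show γ (σ w) ∈ W₀
    rw [hγσ]; exact hwW₀
  obtain ⟨_, ⟨(T₁ : T.Opens), hT₁, rfl⟩, hσwT₁, hT₁le⟩ :=
    T.isBasis_affineOpens.exists_subset_of_mem_open hσw (γ ⁻¹ᵁ W₀).isOpen
  have hT₁le' : T₁ ≤ γ ⁻¹ᵁ W₀ := hT₁le
  obtain ⟨a, hale, hwa⟩ := hW₀.exists_basicOpen_le (V := σ ⁻¹ᵁ T₁ ⊓ W₀)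
    ⟨w, ⟨hσwT₁, hwW₀⟩⟩ hwW₀
  obtain ⟨W₂, hW₂⟩ : ∃ W₂ : W.Opens, W₂ = W.basicOpen a := ⟨_, rfl⟩
  obtain ⟨T₂, hT₂⟩ : ∃ T₂ : T.Opens, T₂ = T.basicOpen ((γ.appLE W₀ T₁ hT₁le').hom a) := ⟨_, rfl⟩
  have hT₂eq : T₂ = T₁ ⊓ γ ⁻¹ᵁ W₂ := by
    rw [hT₂, hW₂]
    exact Groth.Agent.Lib.R2H3.KzCancel.basicOpen_appLE γ W₀ T₁ hT₁le' a
  have hW₂a : IsAffineOpen W₂ := hW₂ ▸ hW₀.basicOpen a
  have hT₂a : IsAffineOpen T₂ := hT₂ ▸ hT₁.basicOpen _
  have hT₂le : T₂ ≤ γ ⁻¹ᵁ W₂ := hT₂eq ▸ inf_le_right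
  refine ⟨W₂, hW₂ ▸ hwa, ?_⟩
  haveI : IsAffine (W₂ : Scheme.{u}) := hW₂a
  haveI : IsAffine (T₂ : Scheme.{u}) := hT₂a
  obtain ⟨g₂, hg₂⟩ : ∃ g₂ : (T₂ : Scheme.{u}) ⟶ W₂, g₂ = γ.resLE W₂ T₂ hT₂le := ⟨_, rfl⟩
  have hg₂ι : g₂ ≫ W₂.ι = T₂.ι ≫ γ := by rw [hg₂]; exact Scheme.Hom.resLE_comp_ι _ _
  haveI : Flat g₂ := by
    rw [hg₂]
    exact IsZariskiLocalAtSource.resLE (P := @Flat) hT₂le inferInstance
  haveI : Surjective g₂ := by
    refine ⟨fun y => ?_⟩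
    have hy : y.1 ∈ σ ⁻¹ᵁ T₁ ⊓ W₀ := hale (hW₂ ▸ y.2)
    have hy2 : σ y.1 ∈ T₂ := by
      rw [hT₂eq]
      refine ⟨hy.1, ?_⟩
      show γ (σ y.1) ∈ W₂
      rw [hγσ]; exact y.2
    refine ⟨⟨σ y.1, hy2⟩, ?_⟩
    apply W₂.ι.injective
    rw [← Scheme.Hom.comp_apply, hg₂ι, Scheme.Hom.comp_apply]
    exact hγσ y.1
  haveI : QuasiCompact g₂ := inferInstance
  -- the base change of `n ∣_ W₂` along `g₂` is a base change of `nT` along an open immersion
  have big := (IsPullback.of_hasPullback (n ∣_ W₂) g₂).paste_horiz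
    (isPullback_morphismRestrict n W₂).flip
  rw [hg₂ι] at big
  have hw : (pullback.fst (n ∣_ W₂) g₂ ≫ (n ⁻¹ᵁ W₂).ι) ≫ n =
      (pullback.snd (n ∣_ W₂) g₂ ≫ T₂.ι) ≫ γ := by
    rw [Category.assoc _ _ γ]; exact big.w
  have hleft : IsPullback (sq.lift _ _ hw) (pullback.snd (n ∣_ W₂) g₂) nT T₂.ι := by
    refine IsPullback.of_right ?_ (sq.lift_snd _ _ _) sq
    rw [sq.lift_fst]
    exact big
  have hsnd : AlgSp.lci (pullback.snd (n ∣_ W₂) g₂) :=
    lci_flat_baseChange hleft inferInstance h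
  exact Groth.Agent.S8662.result (n ∣_ W₂) g₂ _ _ (IsPullback.of_hasPullback _ _) hsnd

/-- descent of lci along a flat morphism admitting a section étale locally on the base. -/
theorem lci_of_local_section {N W T W₁ NT : Scheme.{u}} (n : N ⟶ W) (γ : T ⟶ W) [Flat γ]
    (e : W₁ ⟶ W) [Etale e] [Surjective e] (s₁ : W₁ ⟶ T) (hs : s₁ ≫ γ = e)
    (pr : NT ⟶ N) (nT : NT ⟶ T) (sq : IsPullback pr nT n γ) (h : AlgSp.lci nT) :
    AlgSp.lci n := by
  have hσ : pullback.lift s₁ (𝟙 W₁) (by rw [hs, Category.id_comp]) ≫ pullback.snd γ e = 𝟙 W₁ :=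
    pullback.lift_snd _ _ _
  have big := (IsPullback.of_hasPullback (pullback.snd n e) (pullback.snd γ e)).paste_horiz
    (IsPullback.of_hasPullback n e)
  rw [← pullback.condition] at big
  have hw : (pullback.fst (pullback.snd n e) (pullback.snd γ e) ≫ pullback.fst n e) ≫ n =
      (pullback.snd (pullback.snd n e) (pullback.snd γ e) ≫ pullback.fst γ e) ≫ γ := by
    rw [Category.assoc _ _ γ]; exact big.w
  have hleft : IsPullback (sq.lift _ _ hw) (pullback.snd (pullback.snd n e) (pullback.snd γ e))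
      nT (pullback.fst γ e) := by
    refine IsPullback.of_right ?_ (sq.lift_snd _ _ _) sq
    rw [sq.lift_fst]
    exact big
  have hsnd : AlgSp.lci (pullback.snd (pullback.snd n e) (pullback.snd γ e)) :=
    lci_flat_baseChange hleft inferInstance h
  have h1 : AlgSp.lci (pullback.snd n e) :=
    lci_of_section (pullback.snd n e) (pullback.snd γ e) _ hσ _ _
      (IsPullback.of_hasPullback _ _) hsnd
  have hQ : (@Surjective ⊓ @Flat ⊓ @LocallyOfFinitePresentation : MorphismProperty Scheme.{u}) e :=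
    ⟨⟨inferInstance, inferInstance⟩, inferInstance⟩
  exact MorphismProperty.of_isPullback_of_descendsAlong (P := AlgSp.lci)
    (Q := @Surjective ⊓ @Flat ⊓ @LocallyOfFinitePresentation)
    (IsPullback.of_hasPullback n e).flip hQ h1

/-- fppf descent of Koszul-regular immersions. -/
theorem koszul_of_fppf_baseChange {X Y X' Y' : Scheme.{u}} (i : Y ⟶ X) [IsImmersion i]
    (g : X' ⟶ X) [Flat g] [Surjective g] [LocallyOfFinitePresentation g]
    (i' : Y' ⟶ X') (g' : Y' ⟶ Y) (hsq : IsPullback g' i' i g)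
    (hi' : RegImm.IsRegularImmersion .koszul i') : RegImm.IsRegularImmersion .koszul i := by
  refine ⟨inferInstance, fun y => ?_⟩
  obtain ⟨_, ⟨(U : X.Opens), hU, rfl⟩, hyU, -⟩ :=
    X.isBasis_affineOpens.exists_subset_of_mem_open (Set.mem_univ (i y)) isOpen_univ
  haveI : IsAffine U.toScheme := hU
  haveI : IsImmersion (i ∣_ U) := IsZariskiLocalAtTarget.restrict (P := @IsImmersion) inferInstance U
  haveI : Flat (g ∣_ U) := IsZariskiLocalAtTarget.restrict (P := @Flat) inferInstance U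
  haveI : Surjective (g ∣_ U) := IsZariskiLocalAtTarget.restrict (P := @Surjective) inferInstance U
  haveI : LocallyOfFinitePresentation (g ∣_ U) :=
    IsZariskiLocalAtTarget.restrict (P := @LocallyOfFinitePresentation) inferInstance U
  obtain ⟨V : (g ⁻¹ᵁ U).toScheme.Opens, hV, e⟩ := (g ∣_ U).isOpenMap.exists_opens_image_eq_of_prespectralSpace
    (g ∣_ U).continuous (U := Set.univ) (by
      intro x _; exact (g ∣_ U).surjective x) isOpen_univ isCompact_univ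
  obtain ⟨g₂, hg₂⟩ : ∃ g₂ : (V : Scheme.{u}) ⟶ U, g₂ = V.ι ≫ (g ∣_ U) := ⟨_, rfl⟩
  obtain ⟨h, hh⟩ : ∃ h : (V : Scheme.{u}) ⟶ X', h = V.ι ≫ (g ⁻¹ᵁ U).ι := ⟨_, rfl⟩
  have hrh : g₂ ≫ U.ι = h ≫ g := by
    rw [hg₂, hh, Category.assoc, Category.assoc, morphismRestrict_ι]
  haveI : Flat g₂ := hg₂ ▸ inferInstance
  haveI : Flat h := hh ▸ inferInstance
  haveI : Surjective g₂ := by
    refine ⟨fun x => ?_⟩
    obtain ⟨v, hv, hvx⟩ := e.ge (Set.mem_univ x)
    refine ⟨⟨v, hv⟩, ?_⟩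
    rw [hg₂, Scheme.Hom.comp_apply]
    exact hvx
  haveI : CompactSpace (V : Scheme.{u}) := isCompact_iff_compactSpace.mp hV
  haveI : QuasiCompact g₂ := (quasiCompact_iff_compactSpace _).mpr inferInstance
  have big := (IsPullback.of_hasPullback (i ∣_ U) g₂).paste_horiz
    (isPullback_morphismRestrict i U).flip
  rw [hrh] at big
  have hw : (pullback.fst (i ∣_ U) g₂ ≫ (i ⁻¹ᵁ U).ι) ≫ i =
      (pullback.snd (i ∣_ U) g₂ ≫ h) ≫ g := by
    rw [Category.assoc _ _ g]; exact big.w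
  have hleft : IsPullback (hsq.lift _ _ hw) (pullback.snd (i ∣_ U) g₂) i' h := by
    refine IsPullback.of_right ?_ (hsq.lift_snd _ _ _) hsq
    rw [hsq.lift_fst]
    exact big
  have hjW : RegImm.IsRegularImmersion .koszul (pullback.snd (i ∣_ U) g₂) :=
    Groth.Agent.Lib.H9RegImmFlatBC.isRegularImmersion_of_isPullback i' h _ _ hleft .koszul hi'
  have hj : RegImm.IsRegularImmersion .koszul (i ∣_ U) :=
    Groth.Agent.Lib.R2LeadKzFpqcB.main (i ∣_ U) g₂ _ _ (IsPullback.of_hasPullback _ _) hjW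
  exact Groth.Agent.Lib.R2LeadKzFpqcA.isRegularImmersionAt_of_restrict i U .koszul ⟨y, hyU⟩
    (hj.2 ⟨y, hyU⟩)

end Groth.Agent.Lib.H5bLci
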