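import Mathlib
import Groth.Agent.Lib.H5bLciB
import Groth.Agent.Lib.Helper12BaseLocal
import Groth.Agent.Lib.Helper12LocPCases
import Groth.Agent.S9947
import Groth.Agent.S9950

/-!
# `AlgSp.IsLCIMor` is stable under flat base change and fpqc local on the base (helper5)
-/

set_option autoImplicit false
set_option linter.style.haveILetI false
set_option linter.unusedVariables false
universe u

open CategoryTheory CategoryTheory.Limits AlgebraicGeometry MorphismProperty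
open AlgSp

namespace Groth.Agent.Lib.H5bLci

variable {S : Scheme.{u}}

open Groth.Agent.Lib.Helper12.LocPGen Groth.Agent.Lib.Helper12.LocPCases

/-- `LocP lci` is stable under flat base change. -/
lemma locP_lci_flatBaseChange
    {X Y X' Y' : AlgSp.Sp S} (hX : AlgSp.IsAlgSpace X) (hY : AlgSp.IsAlgSpace Y)
    (hY' : AlgSp.IsAlgSpace Y') {f : X ⟶ Y} {g : Y' ⟶ Y} {fst : X' ⟶ X} {f' : X' ⟶ Y'}
    (sq : IsPullback fst f' f g) (hf : AlgSp.LocP AlgSp.lci f) (hg : AlgSp.LocP @Flat g) :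
    AlgSp.LocP AlgSp.lci f' := by
  have hEt : ∀ {A B : Scheme.{u}} (g : A ⟶ B), Etale g → AlgSp.lci g := fun g hg => lci_of_etale g hg
  have hsrc : ∀ {A B C : Scheme.{u}} (e : A ⟶ B) (k : B ⟶ C) [Etale e] [Surjective e],
      AlgSp.lci (e ≫ k) → AlgSp.lci k := fun e k _ _ h => lci_of_etale_surjective_comp e k h
  have hcancel : ∀ {A B C : Scheme.{u}} (u : A ⟶ B) (k : B ⟶ C), Etale k →
      AlgSp.lci (u ≫ k) → AlgSp.lci u := fun u k hk h => by
    haveI := hk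
    exact lci_cancel_smooth u k inferInstance h
  obtain ⟨V, q, hqe, hqs⟩ := hY.atlas
  obtain ⟨V0, b0, hb0e, hb0s⟩ := hY'.atlas
  obtain ⟨V'', π, κ', sqV⟩ := hqe.1 (b0 ≫ g)
  obtain ⟨κ, rfl⟩ := (AlgSp.yon S).map_surjective κ'
  haveI : Etale π.left := hqe.2 _ _ π sqV
  haveI : Surjective π.left := hqs.2 _ _ π sqV
  have hpe : AlgSp.RepWith @Etale ((AlgSp.yon S).map π ≫ b0) :=
    (AlgSp.RepWith @Etale).comp_mem _ _ ((AlgSp.repWith_yon_map_iff _ _).2 inferInstance) hb0e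
  have hps : AlgSp.RepWith @Surjective ((AlgSp.yon S).map π ≫ b0) :=
    (AlgSp.RepWith @Surjective).comp_mem _ _ ((AlgSp.repWith_yon_map_iff _ _).2 inferInstance) hb0s
  have hκ : Flat κ.left := hg ((AlgSp.yon S).map π ≫ b0) q κ hpe hqe (by
    rw [Category.assoc]; exact sqV.w.symm)
  refine locP_of_target_cover' AlgSp.lci hcancel f' V'' ((AlgSp.yon S).map π ≫ b0) hpe hps
    (pullback.fst f' ((AlgSp.yon S).map π ≫ b0)) (pullback.snd f' ((AlgSp.yon S).map π ≫ b0))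
    (IsPullback.of_hasPullback _ _) ?_
  have hXV : AlgSp.IsAlgSpace (pullback f q) :=
    Groth.Agent.S9874.isAlgSpace_of_isPullback hY.diag hX (AlgSp.IsAlgSpace.yon_obj V)
      (IsPullback.of_hasPullback f q)
  obtain ⟨U, u, hue, hus⟩ := hXV.atlas
  obtain ⟨h, hh⟩ := (AlgSp.yon S).map_surjective (u ≫ pullback.snd f q)
  have hpr1 : AlgSp.RepWith @Etale (pullback.fst f q) :=
    MorphismProperty.of_isPullback (P := AlgSp.RepWith @Etale)
      (IsPullback.of_hasPullback f q).flip hqe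
  have hPh : AlgSp.lci h.left := hf (u ≫ pullback.fst f q) q h
    ((AlgSp.RepWith @Etale).comp_mem _ _ hue hpr1) hqe
    (by rw [Category.assoc, pullback.condition, ← Category.assoc, ← hh])
  have hw : (pullback.fst f' ((AlgSp.yon S).map π ≫ b0) ≫ fst) ≫ f =
      (pullback.snd f' ((AlgSp.yon S).map π ≫ b0) ≫ (AlgSp.yon S).map κ) ≫ q := by
    rw [Category.assoc, sq.w, ← Category.assoc, pullback.condition, Category.assoc, Category.assoc,
      Category.assoc, sqV.w]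
  obtain ⟨ρ, hρ⟩ : ∃ ρ : pullback f' ((AlgSp.yon S).map π ≫ b0) ⟶ pullback f q,
      ρ = pullback.lift (pullback.fst f' ((AlgSp.yon S).map π ≫ b0) ≫ fst)
        (pullback.snd f' ((AlgSp.yon S).map π ≫ b0) ≫ (AlgSp.yon S).map κ) hw := ⟨_, rfl⟩
  have hρ1 : ρ ≫ pullback.fst f q = pullback.fst f' ((AlgSp.yon S).map π ≫ b0) ≫ fst := by
    rw [hρ, pullback.lift_fst]
  have hρ2 : ρ ≫ pullback.snd f q =
      pullback.snd f' ((AlgSp.yon S).map π ≫ b0) ≫ (AlgSp.yon S).map κ := by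
    rw [hρ, pullback.lift_snd]
  have big : IsPullback (pullback.fst f' ((AlgSp.yon S).map π ≫ b0) ≫ fst)
      (pullback.snd f' ((AlgSp.yon S).map π ≫ b0)) f (((AlgSp.yon S).map π ≫ b0) ≫ g) :=
    (IsPullback.of_hasPullback f' ((AlgSp.yon S).map π ≫ b0)).paste_horiz sq
  have sqρ : IsPullback ρ (pullback.snd f' ((AlgSp.yon S).map π ≫ b0)) (pullback.snd f q)
      ((AlgSp.yon S).map κ) := by
    refine IsPullback.of_right ?_ hρ2 (IsPullback.of_hasPullback f q)
    rw [hρ1, sqV.w, ← Category.assoc]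
    exact big
  have sqκ : IsPullback ((AlgSp.yon S).map (pullback.fst h κ))
      ((AlgSp.yon S).map (pullback.snd h κ)) ((AlgSp.yon S).map h) ((AlgSp.yon S).map κ) :=
    (IsPullback.of_hasPullback h κ).map (AlgSp.yon S)
  have hw' : ((AlgSp.yon S).map (pullback.fst h κ) ≫ u) ≫ pullback.snd f q =
      (AlgSp.yon S).map (pullback.snd h κ) ≫ (AlgSp.yon S).map κ := by
    rw [Category.assoc, ← hh, sqκ.w]
  obtain ⟨φ, hφ⟩ : ∃ φ : (AlgSp.yon S).obj (pullback h κ) ⟶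
      pullback f' ((AlgSp.yon S).map π ≫ b0),
      φ = sqρ.lift ((AlgSp.yon S).map (pullback.fst h κ) ≫ u)
        ((AlgSp.yon S).map (pullback.snd h κ)) hw' := ⟨_, rfl⟩
  have hφ1 : φ ≫ ρ = (AlgSp.yon S).map (pullback.fst h κ) ≫ u := by rw [hφ, sqρ.lift_fst]
  have hφ2 : φ ≫ pullback.snd f' ((AlgSp.yon S).map π ≫ b0) =
      (AlgSp.yon S).map (pullback.snd h κ) := by rw [hφ, sqρ.lift_snd]
  have left : IsPullback φ ((AlgSp.yon S).map (pullback.fst h κ)) ρ u := by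
    refine IsPullback.of_right ?_ hφ1 sqρ.flip
    rw [hφ2, ← hh]
    exact sqκ.flip
  have hφe : AlgSp.RepWith @Etale φ :=
    MorphismProperty.of_isPullback (P := AlgSp.RepWith @Etale) left.flip hue
  have hφs : AlgSp.RepWith @Surjective φ :=
    MorphismProperty.of_isPullback (P := AlgSp.RepWith @Surjective) left.flip hus
  refine Groth.Agent.S9950.locP_of_source_cover AlgSp.lci hsrc _ φ hφe hφs ?_
  rw [hφ2]
  refine locP_yon_map_of AlgSp.lci hEt hcancel _ ?_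
  exact lci_flat_baseChange ((IsPullback.of_hasPullback h κ).map (Over.forget S)) hκ hPh

/-- a chart of the base change along a flat lift. -/
lemma lci_of_flatLift {X Y X' Y' : AlgSp.Sp S} (hX : AlgSp.IsAlgSpace X) (hY : AlgSp.IsAlgSpace Y)
    (hX' : AlgSp.IsAlgSpace X') (hY' : AlgSp.IsAlgSpace Y') {f : X ⟶ Y} {g : Y' ⟶ Y} {q : X' ⟶ X}
    {p : X' ⟶ Y'} (sq : IsPullback q p f g) (H : AlgSp.LocP AlgSp.lci p)
    {U V : Over S} (a : (AlgSp.yon S).obj U ⟶ X) (b : (AlgSp.yon S).obj V ⟶ Y) (hh : U ⟶ V)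
    (ha : AlgSp.RepWith @Etale a) (hb : AlgSp.RepWith @Etale b)
    (hcomm : a ≫ f = (AlgSp.yon S).map hh ≫ b)
    {W N : Over S} (w : W ⟶ V) (fstN : N ⟶ U) (sndN : N ⟶ W) (sqN : IsPullback fstN sndN hh w)
    (l : (AlgSp.yon S).obj W ⟶ Y') (hl : AlgSp.LocP @Flat l)
    (hlg : l ≫ g = (AlgSp.yon S).map w ≫ b) : AlgSp.lci sndN.left := by
  have hφ := Groth.Agent.Lib.Helper12.BaseLocal.repWith_etale_lift hX hY f a b hh ha hb hcomm
  obtain ⟨φ, hφdef⟩ : ∃ φ : (AlgSp.yon S).obj U ⟶ pullback f b,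
      φ = pullback.lift a ((AlgSp.yon S).map hh) hcomm := ⟨_, rfl⟩
  rw [← hφdef] at hφ
  have hφ2 : φ ≫ pullback.snd f b = (AlgSp.yon S).map hh := by rw [hφdef, pullback.lift_snd]
  have hLoc : AlgSp.LocP AlgSp.lci (pullback.snd p l) :=
    locP_lci_flatBaseChange hX' hY' (AlgSp.IsAlgSpace.yon_obj W)
      (IsPullback.of_hasPullback p l) H hl
  have big1 : IsPullback (pullback.fst p l ≫ q) (pullback.snd p l) f (l ≫ g) :=
    (IsPullback.of_hasPullback p l).paste_horiz sq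
  rw [hlg] at big1
  have hwμ : (pullback.fst p l ≫ q) ≫ f =
      (pullback.snd p l ≫ (AlgSp.yon S).map w) ≫ b := by
    rw [Category.assoc _ _ b]; exact big1.w
  obtain ⟨μ, hμ⟩ : ∃ μ : pullback p l ⟶ pullback f b,
      μ = pullback.lift _ _ hwμ := ⟨_, rfl⟩
  have hμ1 : μ ≫ pullback.fst f b = pullback.fst p l ≫ q := by rw [hμ, pullback.lift_fst]
  have hμ2 : μ ≫ pullback.snd f b = pullback.snd p l ≫ (AlgSp.yon S).map w := by
    rw [hμ, pullback.lift_snd]
  have sqM : IsPullback μ (pullback.snd p l) (pullback.snd f b) ((AlgSp.yon S).map w) := by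
    refine IsPullback.of_right ?_ hμ2 (IsPullback.of_hasPullback f b)
    rw [hμ1]
    exact big1
  have hwα : ((AlgSp.yon S).map fstN ≫ φ) ≫ pullback.snd f b =
      (AlgSp.yon S).map sndN ≫ (AlgSp.yon S).map w := by
    rw [Category.assoc, hφ2, ← Functor.map_comp, ← Functor.map_comp, sqN.w]
  obtain ⟨α, hα⟩ : ∃ α : (AlgSp.yon S).obj N ⟶ pullback p l,
      α = sqM.lift _ _ hwα := ⟨_, rfl⟩
  have hα1 : α ≫ μ = (AlgSp.yon S).map fstN ≫ φ := by rw [hα, sqM.lift_fst]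
  have hα2 : α ≫ pullback.snd p l = (AlgSp.yon S).map sndN := by rw [hα, sqM.lift_snd]
  have sqα : IsPullback α ((AlgSp.yon S).map fstN) μ φ := by
    refine IsPullback.of_right ?_ hα1 sqM.flip
    rw [hα2, hφ2]
    exact (sqN.map (AlgSp.yon S)).flip
  have hαe : AlgSp.RepWith @Etale α :=
    MorphismProperty.of_isPullback (P := AlgSp.RepWith @Etale) sqα.flip hφ
  exact hLoc α (𝟙 _) sndN hαe (AlgSp.repWith_id _ _) (by rw [hα2, Category.comp_id])

/-- `LocP lci` is fpqc local on the base (the descent direction). -/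
lemma locP_lci_of_fpqcCover_base
    {ι : Type u} {Y : AlgSp.Sp S} (Yi : ι → AlgSp.Sp S) (g : ∀ i, Yi i ⟶ Y)
    (hY : AlgSp.IsAlgSpace Y) (hYi : ∀ i, AlgSp.IsAlgSpace (Yi i))
    (hcov : AlgSp.IsFpqcCover Yi g) {X : AlgSp.Sp S} (f : X ⟶ Y) (hX : AlgSp.IsAlgSpace X)
    (Xi : ι → AlgSp.Sp S) (p : ∀ i, Xi i ⟶ Yi i) (q : ∀ i, Xi i ⟶ X)
    (hXi : ∀ i, AlgSp.IsAlgSpace (Xi i)) (sq : ∀ i, IsPullback (q i) (p i) f (g i))
    (H : ∀ i, AlgSp.LocP AlgSp.lci (p i)) : AlgSp.LocP AlgSp.lci f := by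
  intro U V a b hh ha hb hcomm
  rw [IsZariskiLocalAtTarget.iff_of_openCover (P := AlgSp.lci) V.left.affineCover]
  intro k
  obtain ⟨ζ, hζ⟩ : ∃ ζ : V.left.affineCover.X k ⟶ V.left, ζ = V.left.affineCover.f k := ⟨_, rfl⟩
  show AlgSp.lci (pullback.snd hh.left (V.left.affineCover.f k))
  rw [← hζ]
  haveI : IsOpenImmersion ζ := hζ ▸ inferInstance
  let Zo : Over S := Over.mk (ζ ≫ V.hom)
  let ζ' : Zo ⟶ V := Over.homMk ζ rfl
  have hZa : IsAffine Zo.left := by
    show IsAffine (V.left.affineCover.X k)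
    infer_instance
  obtain ⟨m, W', c, hW'a, hcfl, hcs, hl⟩ := hcov.2 Zo hZa ((AlgSp.yon S).map ζ' ≫ b)
  haveI : IsAffine (V.left.affineCover.X k) := hZa
  refine Groth.Agent.Lib.Helper12.BaseLocal.of_standard_fpqc AlgSp.lci (pullback.snd hh.left ζ)
    (fun j => (W' j).left) (fun j => (c j).left) hW'a hcfl hcs (fun j => ?_)
  obtain ⟨i, l, hl⟩ := hl j
  have hsqN : IsPullback (pullback.fst hh (c j ≫ ζ')).left (pullback.snd hh (c j ≫ ζ')).left
      hh.left ((c j).left ≫ ζ) :=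
    (IsPullback.of_hasPullback hh (c j ≫ ζ')).map (Over.forget S)
  have hwN : (pullback.fst hh (c j ≫ ζ')).left ≫ hh.left =
      ((pullback.snd hh (c j ≫ ζ')).left ≫ (c j).left) ≫ ζ := by
    rw [Category.assoc]; exact hsqN.w
  refine ⟨(pullback hh (c j ≫ ζ')).left,
    pullback.lift (pullback.fst hh (c j ≫ ζ')).left
      ((pullback.snd hh (c j ≫ ζ')).left ≫ (c j).left) hwN,
    (pullback.snd hh (c j ≫ ζ')).left, ?_, ?_⟩
  · refine IsPullback.of_right ?_ (pullback.lift_snd _ _ _) (IsPullback.of_hasPullback hh.left ζ)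
    rw [pullback.lift_fst]
    exact hsqN
  -- the flat morphism `w : W' j ⟶ V` and its lift `l`
  have hlg0 : l ≫ g i = (AlgSp.yon S).map (c j ≫ ζ') ≫ b := by
    rw [hl, Functor.map_comp, Category.assoc]
  have hwfl0 : Flat (c j ≫ ζ').left := by
    rw [Over.comp_left]
    haveI := hcfl j
    show Flat ((c j).left ≫ ζ)
    infer_instance
  suffices key : ∀ (w : W' j ⟶ V), l ≫ g i = (AlgSp.yon S).map w ≫ b → Flat w.left →
      AlgSp.lci (pullback.snd hh w).left from key _ hlg0 hwfl0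
  intro w hlg hwfl
  -- the algebraic space `T = Yi i ×_Y W' j`, flat over `W' j` with a section
  have hT : AlgSp.IsAlgSpace (pullback (g i) ((AlgSp.yon S).map w ≫ b)) :=
    Groth.Agent.S9874.isAlgSpace_of_isPullback hY.diag (hYi i) (AlgSp.IsAlgSpace.yon_obj (W' j))
      (IsPullback.of_hasPullback (g i) ((AlgSp.yon S).map w ≫ b))
  have hwb : AlgSp.LocP @Flat ((AlgSp.yon S).map w ≫ b) :=
    good_flat.locP_comp (AlgSp.IsAlgSpace.yon_obj V) hY _ _
      (haveI := good_flat.comp; locP_yon_map_of @Flat good_flat.hEt good_flat.hcancel w hwfl)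
      (Groth.Agent.S9947.locP_of_repWith_etale @Flat good_flat.hEt b hb)
  have hpr₂ : AlgSp.LocP @Flat (pullback.snd (g i) ((AlgSp.yon S).map w ≫ b)) :=
    good_flat.locP_baseChange (hYi i) hY (AlgSp.IsAlgSpace.yon_obj (W' j))
      (IsPullback.of_hasPullback (g i) ((AlgSp.yon S).map w ≫ b)) (hcov.1 i)
  have hpr₁ : AlgSp.LocP @Flat (pullback.fst (g i) ((AlgSp.yon S).map w ≫ b)) :=
    good_flat.locP_baseChange (AlgSp.IsAlgSpace.yon_obj (W' j)) hY (hYi i)
      (IsPullback.of_hasPullback (g i) ((AlgSp.yon S).map w ≫ b)).flip hwb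
  obtain ⟨s, hs⟩ : ∃ s : (AlgSp.yon S).obj (W' j) ⟶ pullback (g i) ((AlgSp.yon S).map w ≫ b),
      s = pullback.lift l (𝟙 _) (by rw [hlg, Category.id_comp]) := ⟨_, rfl⟩
  have hs2 : s ≫ pullback.snd (g i) ((AlgSp.yon S).map w ≫ b) = 𝟙 _ := by
    rw [hs, pullback.lift_snd]
  obtain ⟨T', t, hte, hts⟩ := hT.atlas
  obtain ⟨W₁, e, s₁', sqs⟩ := hte.1 s
  obtain ⟨s₁, rfl⟩ := (AlgSp.yon S).map_surjective s₁'
  haveI : Etale e.left := hte.2 _ _ e sqs
  haveI : Surjective e.left := hts.2 _ _ e sqs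
  obtain ⟨γ, hγ⟩ := (AlgSp.yon S).map_surjective
    (t ≫ pullback.snd (g i) ((AlgSp.yon S).map w ≫ b))
  haveI hγfl : Flat γ.left := hpr₂ t (𝟙 _) γ hte (AlgSp.repWith_id _ _) (by
    rw [Category.comp_id, hγ])
  have hsγ : s₁ ≫ γ = e := by
    apply (AlgSp.yon S).map_injective
    rw [Functor.map_comp, hγ, ← Category.assoc, sqs.w, Category.assoc, hs2, Category.comp_id]
  -- the flat lift of `γ ≫ w`
  have hl' : AlgSp.LocP @Flat (t ≫ pullback.fst (g i) ((AlgSp.yon S).map w ≫ b)) :=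
    good_flat.locP_comp hT (hYi i) _ _
      (Groth.Agent.S9947.locP_of_repWith_etale @Flat good_flat.hEt t hte) hpr₁
  have hl'g : (t ≫ pullback.fst (g i) ((AlgSp.yon S).map w ≫ b)) ≫ g i =
      (AlgSp.yon S).map (γ ≫ w) ≫ b := by
    rw [Category.assoc, pullback.condition, ← Category.assoc, ← hγ, Functor.map_comp,
      Category.assoc]
  have hNT : AlgSp.lci (pullback.snd (pullback.snd hh w) γ).left :=
    lci_of_flatLift hX hY (hXi i) (hYi i) (sq i) (H i) a b hh ha hb hcomm (γ ≫ w)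
      (pullback.fst (pullback.snd hh w) γ ≫ pullback.fst hh w) (pullback.snd (pullback.snd hh w) γ)
      ((IsPullback.of_hasPullback (pullback.snd hh w) γ).paste_horiz
        (IsPullback.of_hasPullback hh w)) _ hl' hl'g
  exact lci_of_local_section (pullback.snd hh w).left γ.left e.left s₁.left
    (by rw [← Over.comp_left, hsγ]) _ _
    ((IsPullback.of_hasPullback (pullback.snd hh w) γ).map (Over.forget S)) hNT

end Groth.Agent.Lib.H5bLci
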