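import Mathlib
import Groth.Prelude.Def_AlgSp3

/-!
# Locally of finite presentation from surjectivity of the colimit comparison: chart lifting

Part A: given the surjectivity hypothesis for `f : X ⟶ Y`, a chart diagram `(a, b, hh)` and a
cofiltered system of affine schemes over `S` with limit `T`, a morphism `T ⟶ U` compatible with a
family of morphisms to `V` factors through a finite stage.
-/

set_option autoImplicit false
universe u

namespace Groth.Agent.Lib.H5bLfpSurj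

open CategoryTheory Limits AlgebraicGeometry AlgSp

variable {S : Scheme.{u}}

/-- the surjectivity hypothesis. -/
def SurjHyp {X Y : AlgSp.Sp S} (f : X ⟶ Y) : Prop :=
  ∀ ⦃I : Type u⦄ [SmallCategory I] [IsCofiltered I] (D : I ⥤ Over S) (c : Cone D),
    IsLimit ((Over.forget S).mapCone c) → (∀ i, IsAffine (D.obj i).left) → IsAffine c.pt.left →
    ∀ (x : (AlgSp.yon S).obj c.pt ⟶ X) (i : I) (y : (AlgSp.yon S).obj (D.obj i) ⟶ Y),
      x ≫ f = (AlgSp.yon S).map (c.π.app i) ≫ y →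
      ∃ (i' : I) (φ : i' ⟶ i) (x' : (AlgSp.yon S).obj (D.obj i') ⟶ X),
        (AlgSp.yon S).map (c.π.app i') ≫ x' = x ∧ x' ≫ f = (AlgSp.yon S).map (D.map φ) ≫ y

theorem exists_factor {X Y : AlgSp.Sp S} (f : X ⟶ Y) (hf : SurjHyp f)
    {U V : Over S} (a : (AlgSp.yon S).obj U ⟶ X) (b : (AlgSp.yon S).obj V ⟶ Y) (hh : U ⟶ V)
    (ha : AlgSp.RepWith @Etale a) (hb : AlgSp.RepWith @Etale b)
    (hcomm : a ≫ f = (AlgSp.yon S).map hh ≫ b)
    {I : Type u} [SmallCategory I] [IsCofiltered I] (D : I ⥤ Over S) (c : Cone D)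
    (hc : IsLimit ((Over.forget S).mapCone c)) (hD : ∀ i, IsAffine (D.obj i).left)
    (hpt : IsAffine c.pt.left)
    (j : c.pt ⟶ U) (t : D ⟶ (Functor.const I).obj V)
    (hjt : ∀ i, c.π.app i ≫ t.app i = j ≫ hh)
    (U₀ : U.left.Opens) (hU₀ : Set.range j.left ⊆ U₀) :
    ∃ (i : I) (g : D.obj i ⟶ U), c.π.app i ≫ g = j ∧ g ≫ hh = t.app i ∧
      Set.range g.left ⊆ U₀ := by
  have htnat : ∀ {i i' : I} (ψ : i ⟶ i'), D.map ψ ≫ t.app i' = t.app i := fun ψ => by
    have := t.naturality ψ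
    simp only [Functor.const_obj_obj, Functor.const_obj_map, Category.comp_id] at this
    exact this
  -- the plain system
  let D' : I ⥤ Scheme.{u} := D ⋙ Over.forget S
  let c' : Cone D' := (Over.forget S).mapCone c
  have hA : ∀ {i i' : I} (ψ : i ⟶ i'), IsAffineHom (D'.map ψ) := fun {i i'} ψ => by
    haveI := hD i
    haveI := hD i'
    exact inferInstanceAs (IsAffineHom (D.map ψ).left)
  have hC : ∀ i, CompactSpace (D'.obj i) := fun i => by
    haveI := hD i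
    exact inferInstanceAs (CompactSpace (D.obj i).left)
  have hQ : ∀ i, QuasiSeparatedSpace (D'.obj i) := fun i => by
    haveI := hD i
    exact inferInstanceAs (QuasiSeparatedSpace (D.obj i).left)
  -- Step 1
  obtain ⟨i₀⟩ := IsCofiltered.nonempty (C := I)
  have hx : ((AlgSp.yon S).map j ≫ a) ≫ f =
      (AlgSp.yon S).map (c.π.app i₀) ≫ ((AlgSp.yon S).map (t.app i₀) ≫ b) := by
    rw [Category.assoc, hcomm, ← Category.assoc, ← Functor.map_comp, ← hjt i₀, Functor.map_comp,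
      Category.assoc]
  obtain ⟨i₁, φ, x', hx'1, hx'2⟩ := hf D c hc hD hpt _ i₀ _ hx
  -- Step 2
  obtain ⟨P, w, pr', sq⟩ := ha.1 x'
  obtain ⟨pr, rfl⟩ := (AlgSp.yon S).map_surjective pr'
  haveI : Etale w.left := ha.2 _ _ w sq
  obtain ⟨σ', hσ'⟩ : ∃ σ' : (AlgSp.yon S).obj c.pt ⟶ (AlgSp.yon S).obj P,
      σ' = sq.lift ((AlgSp.yon S).map j) ((AlgSp.yon S).map (c.π.app i₁)) (by rw [hx'1]) :=
    ⟨_, rfl⟩
  obtain ⟨σ, rfl⟩ := (AlgSp.yon S).map_surjective σ'
  have hσ1 : σ ≫ pr = j := by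
    apply (AlgSp.yon S).map_injective
    rw [Functor.map_comp, hσ', sq.lift_fst]
  have hσ2 : σ ≫ w = c.π.app i₁ := by
    apply (AlgSp.yon S).map_injective
    rw [Functor.map_comp, hσ', sq.lift_snd]
  -- Step 3
  let D₁ : Over i₁ ⥤ Scheme.{u} := Over.forget i₁ ⋙ D'
  let c₁ : Cone D₁ := c'.whisker (Over.forget i₁)
  have hc₁ : IsLimit c₁ := (Functor.Initial.isLimitWhiskerEquiv (Over.forget i₁) c').symm hc
  let t₁ : D₁ ⟶ (Functor.const (Over i₁)).obj (D.obj i₁).left :=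
    { app := fun k => (D.map k.hom).left
      naturality := fun k l ψ => by
        show (D.map ψ.left).left ≫ (D.map l.hom).left = (D.map k.hom).left ≫ 𝟙 _
        rw [Category.comp_id, ← Over.comp_left, ← D.map_comp, Over.w] }
  have hA₁ : ∀ {k l : Over i₁} (ψ : k ⟶ l), IsAffineHom (D₁.map ψ) := fun ψ => hA ψ.left
  have hC₁ : ∀ k, CompactSpace (D₁.obj k) := fun k => hC k.left
  have hQ₁ : ∀ k, QuasiSeparatedSpace (D₁.obj k) := fun k => hQ k.left
  obtain ⟨k, g₁, hg₁1, hg₁2⟩ := Scheme.exists_π_app_comp_eq_of_locallyOfFinitePresentation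
    D₁ t₁ w.left c₁ hc₁ σ.left (by
      ext k
      show (c.π.app k.left).left ≫ (D.map k.hom).left = σ.left ≫ w.left
      rw [← Over.comp_left, ← Over.comp_left, hσ2, c.w])
  -- Step 4
  have hg₁w : g₁ ≫ P.hom = (D.obj k.left).hom := by
    rw [← Over.w w, ← Category.assoc, hg₁2]
    exact Over.w (D.map k.hom)
  let g₁' : D.obj k.left ⟶ P := Over.homMk g₁ hg₁w
  have hg₁'w : g₁' ≫ w = D.map k.hom := by
    ext1
    rw [Over.comp_left]
    exact hg₁2
  have hg₁'σ : c.π.app k.left ≫ g₁' = σ := by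
    ext1
    rw [Over.comp_left]
    exact hg₁1
  let g₂ : D.obj k.left ⟶ U := g₁' ≫ pr
  have hg₂j : c.π.app k.left ≫ g₂ = j := by
    rw [← Category.assoc, hg₁'σ, hσ1]
  have hg₂b : (AlgSp.yon S).map (g₂ ≫ hh) ≫ b = (AlgSp.yon S).map (t.app k.left) ≫ b := by
    have e1 : (AlgSp.yon S).map (g₂ ≫ hh) ≫ b =
        (AlgSp.yon S).map g₁' ≫ (AlgSp.yon S).map pr ≫ a ≫ f := by
      rw [hcomm]
      show (AlgSp.yon S).map ((g₁' ≫ pr) ≫ hh) ≫ b = _
      simp only [Functor.map_comp, Category.assoc]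
    have e2 : (AlgSp.yon S).map g₁' ≫ (AlgSp.yon S).map pr ≫ a ≫ f =
        (AlgSp.yon S).map (g₁' ≫ w ≫ D.map φ ≫ t.app i₀) ≫ b := by
      rw [← Category.assoc ((AlgSp.yon S).map pr), sq.w, Category.assoc, hx'2]
      simp only [Functor.map_comp, Category.assoc]
    have e3 : g₁' ≫ w ≫ D.map φ ≫ t.app i₀ = t.app k.left := by
      rw [← Category.assoc, hg₁'w, htnat, htnat]
    rw [e1, e2, e3]
  -- Step 5
  obtain ⟨R, p2, p1', sqR⟩ := hb.1 b
  obtain ⟨p1, rfl⟩ := (AlgSp.yon S).map_surjective p1'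
  haveI : Etale p2.left := hb.2 _ _ p2 sqR
  obtain ⟨A', hA'⟩ : ∃ A' : (AlgSp.yon S).obj (D.obj k.left) ⟶ (AlgSp.yon S).obj R,
      A' = sqR.lift ((AlgSp.yon S).map (g₂ ≫ hh)) ((AlgSp.yon S).map (t.app k.left)) hg₂b :=
    ⟨_, rfl⟩
  obtain ⟨A, rfl⟩ := (AlgSp.yon S).map_surjective A'
  obtain ⟨B', hB'⟩ : ∃ B' : (AlgSp.yon S).obj (D.obj k.left) ⟶ (AlgSp.yon S).obj R,
      B' = sqR.lift ((AlgSp.yon S).map (t.app k.left)) ((AlgSp.yon S).map (t.app k.left)) rfl :=
    ⟨_, rfl⟩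
  obtain ⟨B, rfl⟩ := (AlgSp.yon S).map_surjective B'
  have hA1 : A ≫ p1 = g₂ ≫ hh := by
    apply (AlgSp.yon S).map_injective
    rw [Functor.map_comp, hA', sqR.lift_fst]
  have hA2 : A ≫ p2 = t.app k.left := by
    apply (AlgSp.yon S).map_injective
    rw [Functor.map_comp, hA', sqR.lift_snd]
  have hB1 : B ≫ p1 = t.app k.left := by
    apply (AlgSp.yon S).map_injective
    rw [Functor.map_comp, hB', sqR.lift_fst]
  have hB2 : B ≫ p2 = t.app k.left := by
    apply (AlgSp.yon S).map_injective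
    rw [Functor.map_comp, hB', sqR.lift_snd]
  have hAB : c.π.app k.left ≫ A = c.π.app k.left ≫ B := by
    apply (AlgSp.yon S).map_injective
    apply sqR.hom_ext
    · rw [← Functor.map_comp, ← Functor.map_comp, Category.assoc, Category.assoc, hA1, hB1,
        ← Category.assoc, hg₂j, hjt]
    · rw [← Functor.map_comp, ← Functor.map_comp, Category.assoc, Category.assoc, hA2, hB2]
  let t' : D' ⟶ (Functor.const I).obj V.left :=
    { app := fun i => (t.app i).left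
      naturality := fun i i' ψ => by
        show (D.map ψ).left ≫ (t.app i').left = (t.app i).left ≫ 𝟙 _
        rw [Category.comp_id, ← Over.comp_left, htnat] }
  obtain ⟨k₃, hik, hk₃⟩ := Scheme.exists_hom_comp_eq_comp_of_locallyOfFiniteType D' t' p2.left
    c' hc A.left B.left
    (by show (t.app k.left).left = A.left ≫ p2.left; rw [← Over.comp_left, hA2])
    (by show (t.app k.left).left = B.left ≫ p2.left; rw [← Over.comp_left, hB2])
    (by
      show (c.π.app k.left).left ≫ A.left = (c.π.app k.left).left ≫ B.left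
      rw [← Over.comp_left, ← Over.comp_left, hAB])
  have hk₃' : D.map hik ≫ A = D.map hik ≫ B := by
    ext1
    rw [Over.comp_left, Over.comp_left]
    exact hk₃
  let g₃ : D.obj k₃ ⟶ U := D.map hik ≫ g₂
  have hg₃j : c.π.app k₃ ≫ g₃ = j := by
    rw [← Category.assoc, c.w, hg₂j]
  have hg₃t : g₃ ≫ hh = t.app k₃ := by
    rw [Category.assoc, ← hA1, ← Category.assoc, hk₃', Category.assoc, hB1, htnat]
  -- Step 6
  let W : (D'.obj k₃).Opens := g₃.left ⁻¹ᵁ U₀
  have hW : c'.π.app k₃ ⁻¹ᵁ ⊤ ≤ c'.π.app k₃ ⁻¹ᵁ W := by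
    intro z _
    show g₃.left ((c.π.app k₃).left z) ∈ U₀
    rw [← Scheme.Hom.comp_apply, ← Over.comp_left, hg₃j]
    exact hU₀ ⟨z, rfl⟩
  obtain ⟨k₄, fk, hk₄⟩ := exists_map_preimage_le_map_preimage D' c' hc
    (U := ⊤) (V := W) isCompact_univ hW
  refine ⟨k₄, D.map fk ≫ g₃, ?_, ?_, ?_⟩
  · rw [← Category.assoc, c.w, hg₃j]
  · rw [Category.assoc, hg₃t, htnat]
  · rintro _ ⟨z, rfl⟩
    have := hk₄ (show z ∈ D'.map fk ⁻¹ᵁ ⊤ from trivial)
    rw [Over.comp_left, Scheme.Hom.comp_apply]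
    exact this

end Groth.Agent.Lib.H5bLfpSurj
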