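import Mathlib
import Groth.Agent.Lib.H5bLfpSurjA

/-!
# Locally of finite presentation from surjectivity of the colimit comparison: ring systems

Part B: for a chart diagram and affine opens `U₀ ⊆ U`, `V₀ ⊆ V` with `B = Γ(V, V₀) ⟶ A = Γ(U, U₀)`,
any directed system of `B`-algebras with colimit `A` admits a `B`-algebra section `A ⟶ F i` of
some structure map `F i ⟶ A`.
-/

set_option autoImplicit false
universe u

namespace Groth.Agent.Lib.H5bLfpSurj

open CategoryTheory Limits AlgebraicGeometry AlgSp Opposite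

variable {S : Scheme.{u}}

section

variable {V : Over S} {V₀ : V.left.Opens} (hV₀ : IsAffineOpen V₀)
  {ι : Type u} [Preorder ι] (F : ι ⥤ CommRingCat.{u})
  (β : ∀ i, Γ(V.left, V₀) ⟶ F.obj i) (hβ : ∀ {i i' : ι} (l : i ⟶ i'), β i ≫ F.map l = β i')

/-- the system of affine schemes over `S` attached to a directed system of `B`-algebras. -/
noncomputable def sysD : ιᵒᵖ ⥤ Over S where
  obj i := Over.mk (Spec.map (β i.unop) ≫ hV₀.fromSpec ≫ V.hom)
  map {i i'} l := Over.homMk (Spec.map (F.map l.unop)) (by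
    show Spec.map (F.map l.unop) ≫ Spec.map (β i'.unop) ≫ hV₀.fromSpec ≫ V.hom =
      Spec.map (β i.unop) ≫ hV₀.fromSpec ≫ V.hom
    rw [← Category.assoc, ← Spec.map_comp, hβ])
  map_id i := by
    apply Over.OverMorphism.ext
    show Spec.map (F.map (𝟙 i.unop)) = 𝟙 _
    rw [F.map_id, Spec.map_id]
  map_comp {i i' i''} l l' := by
    apply Over.OverMorphism.ext
    show Spec.map (F.map (l'.unop ≫ l.unop)) = Spec.map (F.map l.unop) ≫ Spec.map (F.map l'.unop)
    rw [F.map_comp, Spec.map_comp]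

end

theorem exists_retraction {X Y : AlgSp.Sp S} (f : X ⟶ Y) (hf : SurjHyp f)
    {U V : Over S} (a : (AlgSp.yon S).obj U ⟶ X) (b : (AlgSp.yon S).obj V ⟶ Y) (hh : U ⟶ V)
    (ha : AlgSp.RepWith @Etale a) (hb : AlgSp.RepWith @Etale b)
    (hcomm : a ≫ f = (AlgSp.yon S).map hh ≫ b)
    {U₀ : U.left.Opens} {V₀ : V.left.Opens} (hU₀ : IsAffineOpen U₀) (hV₀ : IsAffineOpen V₀)
    (e : U₀ ≤ hh.left ⁻¹ᵁ V₀)
    {ι : Type u} [Preorder ι] [IsDirected ι (· ≤ ·)] [Nonempty ι] (F : ι ⥤ CommRingCat.{u})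
    (ν : ∀ i, F.obj i ⟶ Γ(U.left, U₀)) (hν : ∀ {i i' : ι} (l : i ⟶ i'), F.map l ≫ ν i' = ν i)
    (hcc : IsColimit (Cocone.mk Γ(U.left, U₀)
      { app := ν, naturality := fun i i' l => by
          simp only [Functor.const_obj_obj, Functor.const_obj_map, Category.comp_id]
          exact hν l } : Cocone F))
    (β : ∀ i, Γ(V.left, V₀) ⟶ F.obj i) (hβ : ∀ {i i' : ι} (l : i ⟶ i'), β i ≫ F.map l = β i')
    (hβφ : ∀ i, β i ≫ ν i = hh.left.appLE V₀ U₀ e) :
    ∃ (i : ι) (s : Γ(U.left, U₀) ⟶ F.obj i), s ≫ ν i = 𝟙 _ ∧ hh.left.appLE V₀ U₀ e ≫ s = β i := by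
  haveI : IsFiltered ι := isFiltered_of_directed_le_nonempty ι
  let cc : Cocone F := Cocone.mk Γ(U.left, U₀)
      { app := ν, naturality := fun i i' l => by
          simp only [Functor.const_obj_obj, Functor.const_obj_map, Category.comp_id]
          exact hν l }
  have hfs : Spec.map (hh.left.appLE V₀ U₀ e) ≫ hV₀.fromSpec = hU₀.fromSpec ≫ hh.left :=
    IsAffineOpen.SpecMap_appLE_fromSpec hh.left hV₀ hU₀ e
  have hπw : ∀ i : ι, Spec.map (ν i) ≫ Spec.map (β i) ≫ hV₀.fromSpec ≫ V.hom =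
      hU₀.fromSpec ≫ U.hom := fun i => by
    rw [← Category.assoc, ← Spec.map_comp, hβφ, ← Category.assoc, hfs, Category.assoc, Over.w]
  let D := sysD hV₀ F β hβ
  let c : Cone D :=
    { pt := Over.mk (hU₀.fromSpec ≫ U.hom)
      π :=
        { app := fun i => Over.homMk (Spec.map (ν i.unop)) (hπw i.unop)
          naturality := fun i i' l => by
            apply Over.OverMorphism.ext
            show 𝟙 _ ≫ Spec.map (ν i'.unop) = Spec.map (ν i.unop) ≫ Spec.map (F.map l.unop)
            rw [Category.id_comp, ← Spec.map_comp, hν] } }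
  have hc : IsLimit ((Over.forget S).mapCone c) := by
    have h1 : IsLimit (Scheme.Spec.mapCone cc.op) := isLimitOfPreserves Scheme.Spec hcc.op
    let e : F.op ⋙ Scheme.Spec ≅ D ⋙ Over.forget S :=
      NatIso.ofComponents (fun _ => Iso.refl _) (by
        intro i i' l
        simp only [Iso.refl_hom, Category.comp_id, Category.id_comp]
        rfl)
    refine IsLimit.ofIsoLimit ((IsLimit.postcomposeHomEquiv e _).symm h1) ?_
    refine Cones.ext (Iso.refl _) ?_
    intro i
    show Spec.map (ν i.unop) ≫ 𝟙 _ = 𝟙 _ ≫ Spec.map (ν i.unop)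
    rw [Category.comp_id, Category.id_comp]
  have hD : ∀ i, IsAffine (D.obj i).left := fun i =>
    inferInstanceAs (IsAffine (Spec (F.obj i.unop)))
  have hpt : IsAffine c.pt.left := inferInstanceAs (IsAffine (Spec Γ(U.left, U₀)))
  let j : c.pt ⟶ U := Over.homMk hU₀.fromSpec rfl
  let t : D ⟶ (Functor.const ιᵒᵖ).obj V :=
    { app := fun i => Over.homMk (Spec.map (β i.unop) ≫ hV₀.fromSpec) (by
        rw [Category.assoc]; rfl)
      naturality := fun i i' l => by
        apply Over.OverMorphism.ext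
        show Spec.map (F.map l.unop) ≫ Spec.map (β i'.unop) ≫ hV₀.fromSpec =
          (Spec.map (β i.unop) ≫ hV₀.fromSpec) ≫ 𝟙 _
        rw [Category.comp_id, ← Category.assoc, ← Spec.map_comp, hβ] }
  have hjt : ∀ i, c.π.app i ≫ t.app i = j ≫ hh := fun i => by
    apply Over.OverMorphism.ext
    show Spec.map (ν i.unop) ≫ Spec.map (β i.unop) ≫ hV₀.fromSpec = hU₀.fromSpec ≫ hh.left
    rw [← Category.assoc, ← Spec.map_comp, hβφ, hfs]
  have hjr : Set.range j.left ⊆ U₀ := by
    show Set.range hU₀.fromSpec ⊆ U₀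
    rw [hU₀.range_fromSpec]
  obtain ⟨i, g, hg1, hg2, hg3⟩ := exists_factor f hf a b hh ha hb hcomm D c hc hD hpt j t hjt
    U₀ hjr
  have hg3' : Set.range g.left ⊆ Set.range hU₀.fromSpec := by
    rw [hU₀.range_fromSpec]; exact hg3
  let g' : Spec (F.obj i.unop) ⟶ Spec Γ(U.left, U₀) :=
    IsOpenImmersion.lift hU₀.fromSpec g.left hg3'
  have hg' : g' ≫ hU₀.fromSpec = g.left := IsOpenImmersion.lift_fac _ _ _
  refine ⟨i.unop, Spec.preimage g', ?_, ?_⟩
  · apply Spec.map_injective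
    rw [Spec.map_comp, Spec.map_preimage, Spec.map_id, ← cancel_mono hU₀.fromSpec,
      Category.assoc, hg', Category.id_comp]
    exact congrArg (fun m => m.left) hg1
  · apply Spec.map_injective
    rw [Spec.map_comp, Spec.map_preimage, ← cancel_mono hV₀.fromSpec, Category.assoc, hfs,
      ← Category.assoc, hg']
    exact congrArg (fun m => m.left) hg2

end Groth.Agent.Lib.H5bLfpSurj
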