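import Mathlib

/-!
# Finite presentation from the retraction property (helper5)

A ring map `φ : B ⟶ A` such that for every directed system of `B`-algebras with colimit `A` the
identity of `A` lifts (as a `B`-algebra map) to a finite stage is of finite presentation.
-/

set_option autoImplicit false
universe u

namespace Groth.Agent.Lib.H5bLfpSurj

open CategoryTheory Limits

/-- recognising filtered colimits of commutative rings. -/
theorem nonempty_isColimit_of_surj_inj {ι : Type u} [SmallCategory ι] [IsFiltered ι]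
    (F : ι ⥤ CommRingCat.{u}) (cc : Cocone F)
    (hsurj : ∀ x : cc.pt, ∃ (i : ι) (xi : F.obj i), cc.ι.app i xi = x)
    (hinj : ∀ (i j : ι) (xi : F.obj i) (xj : F.obj j), cc.ι.app i xi = cc.ι.app j xj →
      ∃ (k : ι) (f : i ⟶ k) (g : j ⟶ k), F.map f xi = F.map g xj) :
    Nonempty (IsColimit cc) := by
  have : PreservesColimit F (forget CommRingCat.{u}) := inferInstance
  have : ReflectsColimit F (forget CommRingCat.{u}) :=
    reflectsColimit_of_reflectsIsomorphisms F (forget CommRingCat)
  refine ⟨isColimitOfReflects (forget CommRingCat) ?_⟩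
  apply Types.FilteredColimit.isColimitOf
  · intro x
    obtain ⟨i, xi, h⟩ := hsurj x
    exact ⟨i, xi, h.symm⟩
  · intro i j xi xj h
    exact hinj i j xi xj h

/-- the retraction property. -/
def HasRetr {A B : CommRingCat.{u}} (φ : B ⟶ A) : Prop :=
  ∀ ⦃ι : Type u⦄ [Preorder ι] [IsDirected ι (· ≤ ·)] [Nonempty ι] (F : ι ⥤ CommRingCat.{u})
    (N : F ⟶ (Functor.const ι).obj A) (_ : IsColimit (Cocone.mk A N))
    (β : (Functor.const ι).obj B ⟶ F), (∀ i, β.app i ≫ N.app i = φ) →
    ∃ (i : ι) (s : A ⟶ F.obj i), s ≫ N.app i = 𝟙 _ ∧ φ ≫ s = β.app i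

theorem finiteType_of_hasRetr {A B : CommRingCat.{u}} (φ : B ⟶ A) (h : HasRetr φ) :
    φ.hom.FiniteType := by
  classical
  algebraize [φ.hom]
  have hle : ∀ {s s' : Finset A}, s ≤ s' →
      Algebra.adjoin B (s : Set A) ≤ Algebra.adjoin B (s' : Set A) := fun h =>
    Algebra.adjoin_mono (Finset.coe_subset.2 h)
  let F : Finset A ⥤ CommRingCat.{u} :=
    { obj := fun s => CommRingCat.of (Algebra.adjoin B (s : Set A))
      map := fun {s s'} l =>
        CommRingCat.ofHom (Subalgebra.inclusion (hle (leOfHom l))).toRingHom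
      map_id := fun s => by ext x; rfl
      map_comp := fun l l' => by ext x; rfl }
  let N : F ⟶ (Functor.const (Finset A)).obj A :=
    { app := fun s => CommRingCat.ofHom (Algebra.adjoin B (s : Set A)).val.toRingHom
      naturality := fun s s' l => by ext x; rfl }
  have hcc : Nonempty (IsColimit (Cocone.mk A N)) := by
    apply nonempty_isColimit_of_surj_inj
    · intro x
      exact ⟨{x}, ⟨x, Algebra.subset_adjoin (by simp)⟩, rfl⟩
    · intro s s' xs xs' hx
      refine ⟨s ∪ s', homOfLE Finset.subset_union_left, homOfLE Finset.subset_union_right, ?_⟩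
      apply Subtype.ext
      exact hx
  let β : (Functor.const (Finset A)).obj B ⟶ F :=
    { app := fun s => CommRingCat.ofHom (algebraMap B (Algebra.adjoin B (s : Set A)))
      naturality := fun s s' l => by ext x; rfl }
  obtain ⟨s, σ, hσ1, -⟩ := h F N hcc.some β (fun s => by ext x; rfl)
  refine ⟨⟨s, ?_⟩⟩
  rw [eq_top_iff]
  intro x _
  have hx : (N.app s) (σ x) = x := by
    rw [← CommRingCat.comp_apply, hσ1]
    rfl
  rw [← hx]
  exact (σ x).2

theorem finitePresentation_of_hasRetr {A B : CommRingCat.{u}} (φ : B ⟶ A) (h : HasRetr φ) :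
    φ.hom.FinitePresentation := by
  have hft := finiteType_of_hasRetr φ h
  algebraize [φ.hom]
  have : Algebra.FiniteType B A := hft
  obtain ⟨n, π, hπ⟩ := Algebra.FiniteType.iff_quotient_mvPolynomial''.1 this
  let J : Ideal (MvPolynomial (Fin n) B) := RingHom.ker π.toRingHom
  let Is : Finset J → Ideal (MvPolynomial (Fin n) B) := fun s =>
    Ideal.span (Subtype.val '' (s : Set J))
  have hIs : ∀ s, Is s ≤ J := fun s => Ideal.span_le.2 (by
    rintro _ ⟨x, _, rfl⟩
    exact x.2)
  have hmono : ∀ {s s' : Finset J}, s ≤ s' → Is s ≤ Is s' := fun h =>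
    Ideal.span_mono (Set.image_mono (Finset.coe_subset.2 h))
  have hker : ∀ (s : Finset J) (a : MvPolynomial (Fin n) B), a ∈ Is s → π.toRingHom a = 0 :=
    fun s a ha => hIs s ha
  let F : Finset J ⥤ CommRingCat.{u} :=
    { obj := fun s => CommRingCat.of (MvPolynomial (Fin n) B ⧸ Is s)
      map := fun {s s'} l => CommRingCat.ofHom (Ideal.Quotient.factor (hmono (leOfHom l)))
      map_id := fun s => CommRingCat.hom_ext (RingHom.ext fun x => by
        obtain ⟨p, rfl⟩ := Ideal.Quotient.mk_surjective x
        rfl)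
      map_comp := fun l l' => CommRingCat.hom_ext (RingHom.ext fun x => by
        obtain ⟨p, rfl⟩ := Ideal.Quotient.mk_surjective x
        rfl) }
  let N : F ⟶ (Functor.const (Finset J)).obj A :=
    { app := fun s => CommRingCat.ofHom (Ideal.Quotient.lift (Is s) π.toRingHom (hker s))
      naturality := fun s s' l => CommRingCat.hom_ext (RingHom.ext fun x => by
        obtain ⟨p, rfl⟩ := Ideal.Quotient.mk_surjective x
        rfl) }
  have hcc : Nonempty (IsColimit (Cocone.mk A N)) := by
    apply nonempty_isColimit_of_surj_inj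
    · intro x
      obtain ⟨p, rfl⟩ := hπ x
      exact ⟨∅, Ideal.Quotient.mk _ p, rfl⟩
    · intro s s' xs xs' hx
      obtain ⟨p, rfl⟩ := Ideal.Quotient.mk_surjective xs
      obtain ⟨q, rfl⟩ := Ideal.Quotient.mk_surjective xs'
      have hpq : p - q ∈ J := by
        show π.toRingHom (p - q) = 0
        rw [map_sub, sub_eq_zero]
        exact hx
      classical
      refine ⟨s ∪ s' ∪ {⟨p - q, hpq⟩}, homOfLE (Finset.subset_union_left.trans
        Finset.subset_union_left), homOfLE (Finset.subset_union_right.trans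
        Finset.subset_union_left), ?_⟩
      show Ideal.Quotient.mk (Is _) p = Ideal.Quotient.mk (Is _) q
      rw [Ideal.Quotient.eq]
      apply Ideal.subset_span
      exact ⟨⟨p - q, hpq⟩, by simp, rfl⟩
  let β : (Functor.const (Finset J)).obj B ⟶ F :=
    { app := fun s => CommRingCat.ofHom
        ((Ideal.Quotient.mk (Is s)).comp (algebraMap B (MvPolynomial (Fin n) B)))
      naturality := fun s s' l => by ext x; rfl }
  obtain ⟨s, σ, hσ1, hσ2⟩ := h F N hcc.some β (fun s => by
    ext x
    show π (algebraMap B (MvPolynomial (Fin n) B) x) = φ.hom x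
    rw [π.commutes]
    rfl)
  -- the ring maps
  let Q := MvPolynomial (Fin n) B ⧸ Is s
  let ρ : Q →+* A := Ideal.Quotient.lift (Is s) π.toRingHom (hker s)
  let σ' : A →+* Q := σ.hom
  have hρσ : ∀ x : A, ρ (σ' x) = x := fun x => by
    have : (N.app s) (σ x) = x := by
      rw [← CommRingCat.comp_apply, hσ1]
      rfl
    exact this
  have hσB : ∀ b : B, σ' (φ.hom b) =
      Ideal.Quotient.mk (Is s) (algebraMap B (MvPolynomial (Fin n) B) b) := fun b => by
    have := congrArg (fun m => m.hom b) hσ2
    exact this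
  have hρsurj : Function.Surjective ρ := fun x => ⟨σ' x, hρσ x⟩
  -- generators of the kernel
  let gen : Fin n → Q := fun k =>
    σ' (ρ (Ideal.Quotient.mk (Is s) (MvPolynomial.X k))) - Ideal.Quotient.mk (Is s) (MvPolynomial.X k)
  let K : Ideal Q := Ideal.span (Set.range gen)
  have hKfg : K.FG := ⟨(Set.finite_range gen).toFinset, by simp [K]⟩
  have hK1 : K ≤ RingHom.ker ρ := by
    rw [Ideal.span_le]
    rintro _ ⟨k, rfl⟩
    show ρ (gen k) = 0
    show ρ (σ' (ρ _) - _) = 0
    rw [map_sub, hρσ, sub_self]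
  have hK2 : RingHom.ker ρ ≤ K := by
    intro z hz
    obtain ⟨p, rfl⟩ := Ideal.Quotient.mk_surjective z
    -- two ring maps from the polynomial ring to `Q ⧸ K`
    let ψ₁ : MvPolynomial (Fin n) B →+* Q ⧸ K :=
      (Ideal.Quotient.mk K).comp (Ideal.Quotient.mk (Is s))
    let ψ₂ : MvPolynomial (Fin n) B →+* Q ⧸ K :=
      (Ideal.Quotient.mk K).comp (σ'.comp (ρ.comp (Ideal.Quotient.mk (Is s))))
    have hψ : ψ₁ = ψ₂ := by
      apply MvPolynomial.ringHom_ext
      · intro b
        show Ideal.Quotient.mk K (Ideal.Quotient.mk (Is s) (MvPolynomial.C b)) =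
          Ideal.Quotient.mk K (σ' (ρ (Ideal.Quotient.mk (Is s) (MvPolynomial.C b))))
        congr 1
        have h1 : ρ (Ideal.Quotient.mk (Is s) (MvPolynomial.C b)) = φ.hom b := by
          show π (MvPolynomial.C b) = φ.hom b
          rw [← MvPolynomial.algebraMap_eq, π.commutes]
          rfl
        rw [h1, hσB]
        rfl
      · intro k
        show Ideal.Quotient.mk K (Ideal.Quotient.mk (Is s) (MvPolynomial.X k)) =
          Ideal.Quotient.mk K (σ' (ρ (Ideal.Quotient.mk (Is s) (MvPolynomial.X k))))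
        symm
        rw [Ideal.Quotient.eq]
        exact Ideal.subset_span ⟨k, rfl⟩
    have h1 : ψ₁ p = ψ₂ p := by rw [hψ]
    have h2 : ψ₂ p = 0 := by
      show Ideal.Quotient.mk K (σ' (ρ (Ideal.Quotient.mk (Is s) p))) = 0
      rw [show ρ (Ideal.Quotient.mk (Is s) p) = 0 from hz, map_zero, map_zero]
    rw [h2] at h1
    exact Ideal.Quotient.eq_zero_iff_mem.1 h1
  have hkerfg : (RingHom.ker ρ).FG := by
    rw [le_antisymm hK2 hK1]
    exact hKfg
  -- conclusion
  have hβfp : ((Ideal.Quotient.mk (Is s)).comp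
      (algebraMap B (MvPolynomial (Fin n) B))).FinitePresentation := by
    apply RingHom.FinitePresentation.comp_surjective
    · exact RingHom.finitePresentation_algebraMap.2 inferInstance
    · exact Ideal.Quotient.mk_surjective
    · rw [Ideal.mk_ker]
      classical
      exact ⟨s.image Subtype.val, by simp [Is]⟩
  have hcomp : φ.hom = ρ.comp ((Ideal.Quotient.mk (Is s)).comp
      (algebraMap B (MvPolynomial (Fin n) B))) := by
    ext b
    show φ.hom b = π (algebraMap B (MvPolynomial (Fin n) B) b)
    rw [π.commutes]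
    rfl
  rw [hcomp]
  exact RingHom.FinitePresentation.comp_surjective hβfp hρsurj hkerfg

end Groth.Agent.Lib.H5bLfpSurj
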