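import Mathlib
import Groth.Agent.Lib.H5bLfpSurjB
import Groth.Agent.Lib.H5bLfpSurjC

/-!
# Locally of finite presentation from surjectivity of the colimit comparison: conclusion
-/

set_option autoImplicit false
universe u

namespace Groth.Agent.Lib.H5bLfpSurj

open CategoryTheory Limits AlgebraicGeometry AlgSp Opposite

variable {S : Scheme.{u}}

theorem hasRetr_appLE {X Y : AlgSp.Sp S} (f : X ⟶ Y) (hf : SurjHyp f)
    {U V : Over S} (a : (AlgSp.yon S).obj U ⟶ X) (b : (AlgSp.yon S).obj V ⟶ Y) (hh : U ⟶ V)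
    (ha : AlgSp.RepWith @Etale a) (hb : AlgSp.RepWith @Etale b)
    (hcomm : a ≫ f = (AlgSp.yon S).map hh ≫ b)
    {U₀ : U.left.Opens} {V₀ : V.left.Opens} (hU₀ : IsAffineOpen U₀) (hV₀ : IsAffineOpen V₀)
    (e : U₀ ≤ hh.left ⁻¹ᵁ V₀) : HasRetr (hh.left.appLE V₀ U₀ e) := by
  intro ι _ _ _ F N hcc β hβφ
  exact exists_retraction f hf a b hh ha hb hcomm hU₀ hV₀ e F (fun i => N.app i)
    (fun {i i'} l => by
      have := N.naturality l
      simp only [Functor.const_obj_obj, Functor.const_obj_map, Category.comp_id] at this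
      exact this)
    hcc (fun i => β.app i)
    (fun {i i'} l => by
      have := β.naturality l
      simp only [Functor.const_obj_obj, Functor.const_obj_map, Category.id_comp] at this
      exact this.symm)
    hβφ

theorem locP_lfp_of_surjHyp {X Y : AlgSp.Sp S} (f : X ⟶ Y) (hf : SurjHyp f) :
    AlgSp.LocP @LocallyOfFinitePresentation f := by
  intro U V a b hh ha hb hcomm
  rw [HasRingHomProperty.iff_appLE (P := @LocallyOfFinitePresentation)]
  intro V₀ U₀ e
  exact finitePresentation_of_hasRetr _ (hasRetr_appLE f hf a b hh ha hb hcomm U₀.2 V₀.2 e)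

end Groth.Agent.Lib.H5bLfpSurj
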