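import Mathlib

/-!
# Base change of a cofiltered system along a morphism to one of its stages (helper5)

For `D : I ⥤ C`, a stage `k : I` and `m : Z ⟶ D.obj k`, the objects `D.obj o.left ×_{D.obj k} Z`
(`o : Over k`) form a system `bcFunctor D k m : Over k ⥤ C`, and the base change of a limit cone
of `D` is a limit cone of that system.
-/

set_option autoImplicit false
universe v u w

open CategoryTheory CategoryTheory.Limits

namespace Groth.Agent.Lib.H5bLimBC

variable {C : Type u} [Category.{v} C] [HasPullbacks C] {I : Type w} [SmallCategory I]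
  (D : I ⥤ C) (k : I)

/-- the system over the stage `k`, in `Over (D.obj k)`. -/
def liftK : Over k ⥤ Over (D.obj k) where
  obj o := Over.mk (D.map o.hom)
  map {o o'} ψ := Over.homMk (D.map ψ.left) (by
    show D.map ψ.left ≫ D.map o'.hom = D.map o.hom
    rw [← D.map_comp, Over.w])
  map_id o := by
    apply Over.OverMorphism.ext
    show D.map (𝟙 o.left) = 𝟙 _
    rw [D.map_id]
  map_comp {o o' o''} ψ ψ' := by
    apply Over.OverMorphism.ext
    show D.map (ψ.left ≫ ψ'.left) = D.map ψ.left ≫ D.map ψ'.left
    rw [D.map_comp]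

variable (c : Cone D)

/-- the cone over the lifted system. -/
def liftKCone : Cone (liftK D k) where
  pt := Over.mk (c.π.app k)
  π :=
    { app := fun o => Over.homMk (c.π.app o.left) (c.w o.hom)
      naturality := by
        intro o o' ψ
        apply Over.OverMorphism.ext
        show 𝟙 _ ≫ c.π.app o'.left = c.π.app o.left ≫ D.map ψ.left
        rw [Category.id_comp, c.w] }

variable {D k c}

/-- the lifted cone of a limit cone is a limit cone. -/
theorem nonempty_isLimit_liftKCone [IsCofiltered I] (hc : IsLimit c) :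
    Nonempty (IsLimit (liftKCone D k c)) := by
  have hc' : IsLimit (c.whisker (Over.forget k)) :=
    (Functor.Initial.isLimitWhiskerEquiv (Over.forget k) c).symm hc
  let s' : Cone (liftK D k) → Cone (Over.forget k ⋙ D) := fun s =>
    { pt := s.pt.left
      π :=
        { app := fun o => (s.π.app o).left
          naturality := by
            intro o o' ψ
            show 𝟙 _ ≫ (s.π.app o').left = (s.π.app o).left ≫ D.map ψ.left
            rw [Category.id_comp]
            exact congrArg (fun m => m.left) (s.w ψ).symm } }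
  have hfac : ∀ (s : Cone (liftK D k)) (o : Over k),
      hc'.lift (s' s) ≫ c.π.app o.left = (s.π.app o).left := fun s o => hc'.fac (s' s) o
  have hlift : ∀ s : Cone (liftK D k), hc'.lift (s' s) ≫ c.π.app k = s.pt.hom := by
    intro s
    have h1 := hfac s (Over.mk (𝟙 k))
    have h2 : (s.π.app (Over.mk (𝟙 k))).left ≫ ((liftK D k).obj (Over.mk (𝟙 k))).hom = s.pt.hom :=
      Over.w (s.π.app (Over.mk (𝟙 k)))
    have h3 : ((liftK D k).obj (Over.mk (𝟙 k))).hom = 𝟙 (D.obj k) := D.map_id k
    rw [h3] at h2
    rw [← h2, ← h1]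
    exact (Category.comp_id _).symm
  refine ⟨{ lift := fun s => Over.homMk (hc'.lift (s' s)) (hlift s), fac := ?_, uniq := ?_ }⟩
  · intro s o
    apply Over.OverMorphism.ext
    exact hfac s o
  · intro s m hm
    apply Over.OverMorphism.ext
    show m.left = hc'.lift (s' s)
    apply hc'.uniq (s' s) m.left
    intro o
    exact congrArg (fun t => t.left) (hm o)

variable (D k) {Z : C} (m : Z ⟶ D.obj k)

/-- the base-changed system. -/
noncomputable def bcFunctor : Over k ⥤ C :=
  liftK D k ⋙ Over.pullback m ⋙ Over.forget Z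

variable (c)

/-- the base-changed cone. -/
noncomputable def bcCone : Cone (bcFunctor D k m) :=
  (Over.pullback m ⋙ Over.forget Z).mapCone (liftKCone D k c)

variable {D k c}

theorem nonempty_isLimit_bcCone [IsCofiltered I] (hc : IsLimit c) :
    Nonempty (IsLimit (bcCone D k c m)) := by
  obtain ⟨h⟩ := nonempty_isLimit_liftKCone (k := k) hc
  haveI : IsConnected (Over k) := IsCofiltered.isConnected (Over k)
  exact ⟨isLimitOfPreserves (Over.pullback m ⋙ Over.forget Z) h⟩

variable (D k c)

lemma bcFunctor_obj (o : Over k) : (bcFunctor D k m).obj o = pullback (D.map o.hom) m := rfl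

lemma bcCone_pt : (bcCone D k c m).pt = pullback (c.π.app k) m := rfl

lemma bcFunctor_map_fst {o o' : Over k} (ψ : o ⟶ o') :
    (bcFunctor D k m).map ψ ≫ pullback.fst (D.map o'.hom) m =
      pullback.fst (D.map o.hom) m ≫ D.map ψ.left := by
  show pullback.lift (pullback.fst _ _ ≫ D.map ψ.left) (pullback.snd _ _) _ ≫
    pullback.fst (D.map o'.hom) m = _
  rw [pullback.lift_fst]
  rfl

lemma bcFunctor_map_snd {o o' : Over k} (ψ : o ⟶ o') :
    (bcFunctor D k m).map ψ ≫ pullback.snd (D.map o'.hom) m = pullback.snd (D.map o.hom) m := by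
  show pullback.lift (pullback.fst _ _ ≫ D.map ψ.left) (pullback.snd _ _) _ ≫
    pullback.snd (D.map o'.hom) m = _
  rw [pullback.lift_snd]
  rfl

lemma bcCone_π_fst (o : Over k) :
    (bcCone D k c m).π.app o ≫ pullback.fst (D.map o.hom) m =
      pullback.fst (c.π.app k) m ≫ c.π.app o.left := by
  show pullback.lift (pullback.fst _ _ ≫ c.π.app o.left) (pullback.snd _ _) _ ≫
    pullback.fst (D.map o.hom) m = _
  rw [pullback.lift_fst]
  rfl

lemma bcCone_π_snd (o : Over k) :
    (bcCone D k c m).π.app o ≫ pullback.snd (D.map o.hom) m = pullback.snd (c.π.app k) m := by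
  show pullback.lift (pullback.fst _ _ ≫ c.π.app o.left) (pullback.snd _ _) _ ≫
    pullback.snd (D.map o.hom) m = _
  rw [pullback.lift_snd]
  rfl

/-- the transition maps of the base-changed system are base changes of the original ones. -/
lemma isPullback_bcFunctor_map {o o' : Over k} (ψ : o ⟶ o') :
    IsPullback ((bcFunctor D k m).map ψ) (pullback.fst (D.map o.hom) m)
      (pullback.fst (D.map o'.hom) m) (D.map ψ.left) := by
  have e : D.map ψ.left ≫ D.map o'.hom = D.map o.hom := by rw [← D.map_comp, Over.w]
  have s : IsPullback ((bcFunctor D k m).map ψ ≫ pullback.snd (D.map o'.hom) m)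
      (pullback.fst (D.map o.hom) m) m (D.map ψ.left ≫ D.map o'.hom) := by
    rw [bcFunctor_map_snd, e]
    exact (IsPullback.of_hasPullback _ _).flip
  exact IsPullback.of_right s (bcFunctor_map_fst D k m ψ) (IsPullback.of_hasPullback _ _).flip

/-- the projections of the base-changed cone are base changes of the original ones. -/
lemma isPullback_bcCone_π (o : Over k) :
    IsPullback ((bcCone D k c m).π.app o) (pullback.fst (c.π.app k) m)
      (pullback.fst (D.map o.hom) m) (c.π.app o.left) := by
  have e : c.π.app o.left ≫ D.map o.hom = c.π.app k := c.w o.hom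
  have s : IsPullback ((bcCone D k c m).π.app o ≫ pullback.snd (D.map o.hom) m)
      (pullback.fst (c.π.app k) m) m (c.π.app o.left ≫ D.map o.hom) := by
    rw [bcCone_π_snd, e]
    exact (IsPullback.of_hasPullback _ _).flip
  exact IsPullback.of_right s (bcCone_π_fst D k c m o) (IsPullback.of_hasPullback _ _).flip

variable {B : C} (t : D ⟶ (Functor.const I).obj B)

/-- the structure maps of the base-changed system to a common target. -/
noncomputable def bcTrans : bcFunctor D k m ⟶ (Functor.const (Over k)).obj B where
  app o := pullback.fst (D.map o.hom) m ≫ t.app o.left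
  naturality := by
    intro o o' ψ
    have h2 : D.map ψ.left ≫ t.app o'.left = t.app o.left := by
      have := t.naturality ψ.left
      simpa using this
    have h1 := bcFunctor_map_fst D k m ψ
    calc (bcFunctor D k m).map ψ ≫ (pullback.fst (D.map o'.hom) m ≫ t.app o'.left)
        = ((bcFunctor D k m).map ψ ≫ pullback.fst (D.map o'.hom) m) ≫ t.app o'.left :=
          (Category.assoc _ _ _).symm
      _ = (pullback.fst (D.map o.hom) m ≫ D.map ψ.left) ≫ t.app o'.left :=
          congrArg (fun f => f ≫ t.app o'.left) h1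
      _ = pullback.fst (D.map o.hom) m ≫ (D.map ψ.left ≫ t.app o'.left) := Category.assoc _ _ _
      _ = pullback.fst (D.map o.hom) m ≫ t.app o.left :=
          congrArg (fun f => pullback.fst (D.map o.hom) m ≫ f) h2
      _ = (pullback.fst (D.map o.hom) m ≫ t.app o.left) ≫ 𝟙 B := (Category.comp_id _).symm

lemma bcTrans_app (o : Over k) :
    (bcTrans D k m t).app o = pullback.fst (D.map o.hom) m ≫ t.app o.left := rfl

lemma bcCone_comp_fst {Y : C} (y' : Y ⟶ pullback (c.π.app k) m) (o : Over k) :
    (y' ≫ (bcCone D k c m).π.app o) ≫ pullback.fst (D.map o.hom) m =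
      (y' ≫ pullback.fst (c.π.app k) m) ≫ c.π.app o.left := by
  have h1 := bcCone_π_fst D k c m o
  calc (y' ≫ (bcCone D k c m).π.app o) ≫ pullback.fst (D.map o.hom) m
      = y' ≫ ((bcCone D k c m).π.app o ≫ pullback.fst (D.map o.hom) m) := Category.assoc _ _ _
    _ = y' ≫ (pullback.fst (c.π.app k) m ≫ c.π.app o.left) :=
        congrArg (fun f => y' ≫ f) h1
    _ = (y' ≫ pullback.fst (c.π.app k) m) ≫ c.π.app o.left := (Category.assoc _ _ _).symm

lemma bcCone_comp_trans {Y : C} (y' : Y ⟶ pullback (c.π.app k) m) (o : Over k) :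
    y' ≫ (bcCone D k c m).π.app o ≫ (bcTrans D k m t).app o =
      (y' ≫ pullback.fst (c.π.app k) m) ≫ c.π.app o.left ≫ t.app o.left := by
  have h1 := bcCone_comp_fst D k c m y' o
  calc y' ≫ (bcCone D k c m).π.app o ≫ (bcTrans D k m t).app o
      = ((y' ≫ (bcCone D k c m).π.app o) ≫ pullback.fst (D.map o.hom) m) ≫ t.app o.left := by
        show y' ≫ (bcCone D k c m).π.app o ≫ (pullback.fst (D.map o.hom) m ≫ t.app o.left) = _
        simp only [Category.assoc]
    _ = ((y' ≫ pullback.fst (c.π.app k) m) ≫ c.π.app o.left) ≫ t.app o.left :=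
        congrArg (fun f => f ≫ t.app o.left) h1
    _ = (y' ≫ pullback.fst (c.π.app k) m) ≫ c.π.app o.left ≫ t.app o.left := Category.assoc _ _ _

end Groth.Agent.Lib.H5bLimBC
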