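import Mathlib

/-!
# Lifting a diagram in `Over S` with compatible maps to `V₀` to a diagram in `Over V₀.left` (helper5)
-/

set_option autoImplicit false
universe u

open CategoryTheory CategoryTheory.Limits AlgebraicGeometry

namespace Groth.Agent.Lib.H5bLimCI

lemma aux1 {S : Scheme.{u}} {A : Scheme.{u}} {X Y : Over S} (a : A ⟶ X.left) (w : X ⟶ Y)
    (h : A ⟶ Y.left) (ha : a ≫ w.left = h) : a ≫ X.hom = h ≫ Y.hom := by
  rw [← ha, Category.assoc, Over.w]

lemma aux2 {S : Scheme.{u}} {A : Scheme.{u}} {Lp X V₀ : Over S} (l : A ⟶ Lp.left) (πk : Lp ⟶ X)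
    (w : X ⟶ V₀) (iW : Lp ⟶ V₀) (hiW : πk ≫ w = iW) (a : A ⟶ X.left) (hfac : l ≫ πk.left = a)
    (h : A ⟶ V₀.left) (ha : a ≫ w.left = h) : l ≫ iW.left = h := by
  rw [← hiW, Over.comp_left, ← Category.assoc, hfac, ha]

variable {K : Type u} [SmallCategory K] {S : Scheme.{u}} (F : K ⥤ Over S) (V₀ : Over S)
  (w : ∀ k, F.obj k ⟶ V₀) (hw : ∀ {k k' : K} (ψ : k ⟶ k'), F.map ψ ≫ w k' = w k)

/-- the lifted functor. -/
def liftOver : K ⥤ Over V₀.left where
  obj k := Over.mk (w k).left
  map {k k'} ψ := Over.homMk (F.map ψ).left (by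
    show (F.map ψ).left ≫ (w k').left = (w k).left
    rw [← Over.comp_left, hw])
  map_id k := by
    apply Over.OverMorphism.ext
    show (F.map (𝟙 k)).left = 𝟙 _
    rw [F.map_id]; rfl
  map_comp {k k' k''} ψ ψ' := by
    apply Over.OverMorphism.ext
    show (F.map (ψ ≫ ψ')).left = (F.map ψ).left ≫ (F.map ψ').left
    rw [F.map_comp]; rfl

variable (L : Cone F) (iW : L.pt ⟶ V₀) (hiW : ∀ k, L.π.app k ≫ w k = iW)

/-- the lifted cone. -/
def liftCone : Cone (liftOver F V₀ w hw) where
  pt := Over.mk iW.left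
  π :=
    { app := fun k => Over.homMk (L.π.app k).left (by
        show (L.π.app k).left ≫ (w k).left = iW.left
        rw [← Over.comp_left, hiW])
      naturality := by
        intro k k' ψ
        apply Over.OverMorphism.ext
        show 𝟙 _ ≫ (L.π.app k').left = (L.π.app k).left ≫ (F.map ψ).left
        rw [Category.id_comp, ← Over.comp_left, L.w] }

/-- the lifted cone of a limit cone is a limit cone. -/
theorem nonempty_isLimit_liftCone [Nonempty K] (hL : IsLimit L) :
    Nonempty (IsLimit (liftCone F V₀ w hw L iW hiW)) := by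
  -- the cone over `F` attached to a cone over the lifted functor
  have hπ : ∀ (s : Cone (liftOver F V₀ w hw)) (k : K),
      (s.π.app k).left ≫ (w k).left = s.pt.hom := fun s k => Over.w (s.π.app k)
  let s' : Cone (liftOver F V₀ w hw) → Cone F := fun s =>
    { pt := Over.mk (s.pt.hom ≫ V₀.hom)
      π :=
        { app := fun k => Over.homMk (s.π.app k).left
            (aux1 (A := s.pt.left) (X := F.obj k) (Y := V₀) (s.π.app k).left (w k) s.pt.hom (hπ s k))
          naturality := by
            intro k k' ψ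
            apply Over.OverMorphism.ext
            show 𝟙 _ ≫ (s.π.app k').left = (s.π.app k).left ≫ (F.map ψ).left
            rw [Category.id_comp]
            exact congrArg (fun m => m.left) (s.w ψ).symm } }
  have hfac : ∀ (s : Cone (liftOver F V₀ w hw)) (k : K),
      (hL.lift (s' s)).left ≫ (L.π.app k).left = (s.π.app k).left := by
    intro s k
    rw [← Over.comp_left, hL.fac (s' s) k]
    rfl
  have hlift : ∀ s : Cone (liftOver F V₀ w hw), (hL.lift (s' s)).left ≫ iW.left = s.pt.hom := by
    intro s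
    obtain ⟨k⟩ := ‹Nonempty K›
    exact aux2 (A := s.pt.left) (Lp := L.pt) (X := F.obj k) (V₀ := V₀) (hL.lift (s' s)).left
      (L.π.app k) (w k) iW (hiW k) (s.π.app k).left (hfac s k) s.pt.hom (hπ s k)
  refine ⟨{ lift := fun s => Over.homMk (hL.lift (s' s)).left (hlift s), fac := ?_, uniq := ?_ }⟩
  · intro s k
    apply Over.OverMorphism.ext
    exact hfac s k
  · intro s m hm
    apply Over.OverMorphism.ext
    show m.left = (hL.lift (s' s)).left
    have hm1 : m.left ≫ iW.left = s.pt.hom := Over.w m
    let m' : (s' s).pt ⟶ L.pt := Over.homMk m.left (aux1 (A := s.pt.left) (X := L.pt) (Y := V₀) m.left iW s.pt.hom hm1)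
    have : m' = hL.lift (s' s) := by
      apply hL.uniq (s' s) m'
      intro k
      apply Over.OverMorphism.ext
      show m.left ≫ (L.π.app k).left = (s.π.app k).left
      exact congrArg (fun t => t.left) (hm k)
    exact congrArg (fun t => t.left) this

end Groth.Agent.Lib.H5bLimCI
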