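import Mathlib
import Groth.Prelude.Def_AlgSp3
import Groth.Agent.S9874

/-!
# Charts of a double base change (helper5)

`chart_of_pb`: for `f₀ : X₀ ⟶ Y₀` over `B₀`, a base change `B ⟶ B₀`, `Y = Y₀ ×_{B₀} B`,
`X = X₀ ×_{Y₀} Y`, an étale chart `v₀ : h_{V₀} ⟶ Y₀`, an étale chart `u₀ : h_{U₀} ⟶ X₀ ×_{Y₀} V₀`
with `h₀ : U₀ ⟶ V₀`, and a scheme `W ⟶ V₀` representing `V₀ ×_{B₀} B`: the base change
`U₀ ×_{V₀} W ⟶ W` of `h₀` is the top arrow of a chart diagram of `f`.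
-/

set_option autoImplicit false
set_option linter.style.haveILetI false
set_option linter.unusedVariables false
universe u

open CategoryTheory CategoryTheory.Limits AlgebraicGeometry MorphismProperty
open AlgSp

namespace Groth.Agent.Lib.H5bLimDesc

variable {S : Scheme.{u}}

theorem chart_of_pb {X₀ Y₀ B₀ B X Y : AlgSp.Sp S} (f₀ : X₀ ⟶ Y₀) (b₀ : Y₀ ⟶ B₀) (π : B ⟶ B₀)
    (pY : Y ⟶ Y₀) (qY : Y ⟶ B) (hY : IsPullback pY qY b₀ π) (pX : X ⟶ X₀) (f : X ⟶ Y)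
    (hX : IsPullback pX f f₀ pY)
    {V₀ U₀ W : Over S} (v₀ : (AlgSp.yon S).obj V₀ ⟶ Y₀) (hv₀ : AlgSp.RepWith @Etale v₀)
    (u₀ : (AlgSp.yon S).obj U₀ ⟶ pullback f₀ v₀) (hu₀ : AlgSp.RepWith @Etale u₀) (h₀ : U₀ ⟶ V₀)
    (hh₀ : (AlgSp.yon S).map h₀ = u₀ ≫ pullback.snd f₀ v₀)
    (w : W ⟶ V₀) (fstW : (AlgSp.yon S).obj W ⟶ B)
    (sqW : IsPullback fstW ((AlgSp.yon S).map w) π (v₀ ≫ b₀))
    {N : Over S} (fstN : N ⟶ U₀) (sndN : N ⟶ W) (sqN : IsPullback fstN sndN h₀ w) :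
    ∃ (a : (AlgSp.yon S).obj N ⟶ X) (b : (AlgSp.yon S).obj W ⟶ Y),
      AlgSp.RepWith @Etale a ∧ AlgSp.RepWith @Etale b ∧
      a ≫ f = (AlgSp.yon S).map sndN ≫ b ∧
      (AlgSp.RepWith @Surjective v₀ → AlgSp.RepWith @Surjective b) ∧
      (AlgSp.RepWith @Surjective v₀ → AlgSp.RepWith @Surjective u₀ →
        AlgSp.RepWith @Surjective a) := by
  -- the chart of `Y`
  have hwb : ((AlgSp.yon S).map w ≫ v₀) ≫ b₀ = fstW ≫ π := by
    rw [Category.assoc]; exact sqW.w.symm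
  obtain ⟨b, hb⟩ : ∃ b : (AlgSp.yon S).obj W ⟶ Y, b = hY.lift _ _ hwb := ⟨_, rfl⟩
  have hb1 : b ≫ pY = (AlgSp.yon S).map w ≫ v₀ := by rw [hb, hY.lift_fst]
  have hb2 : b ≫ qY = fstW := by rw [hb, hY.lift_snd]
  have sqb : IsPullback b ((AlgSp.yon S).map w) pY v₀ := by
    refine IsPullback.of_right ?_ hb1 hY.flip
    rw [hb2]
    exact sqW
  -- `X ×_Y W`
  have hρw : (pullback.fst f b ≫ pX) ≫ f₀ = (pullback.snd f b ≫ (AlgSp.yon S).map w) ≫ v₀ := by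
    rw [Category.assoc, hX.w, ← Category.assoc, pullback.condition, Category.assoc, hb1,
      Category.assoc]
  obtain ⟨ρ, hρ⟩ : ∃ ρ : pullback f b ⟶ pullback f₀ v₀, ρ = pullback.lift _ _ hρw := ⟨_, rfl⟩
  have hρ1 : ρ ≫ pullback.fst f₀ v₀ = pullback.fst f b ≫ pX := by rw [hρ, pullback.lift_fst]
  have hρ2 : ρ ≫ pullback.snd f₀ v₀ = pullback.snd f b ≫ (AlgSp.yon S).map w := by
    rw [hρ, pullback.lift_snd]
  have big : IsPullback (pullback.fst f b ≫ pX) (pullback.snd f b) f₀ (b ≫ pY) :=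
    (IsPullback.of_hasPullback f b).paste_horiz hX
  rw [hb1] at big
  have sqρ : IsPullback ρ (pullback.snd f b) (pullback.snd f₀ v₀) ((AlgSp.yon S).map w) := by
    refine IsPullback.of_right ?_ hρ2 (IsPullback.of_hasPullback f₀ v₀)
    rw [hρ1]
    exact big
  -- the chart of `X ×_Y W`
  have hwa : ((AlgSp.yon S).map fstN ≫ u₀) ≫ pullback.snd f₀ v₀ =
      (AlgSp.yon S).map sndN ≫ (AlgSp.yon S).map w := by
    rw [Category.assoc, ← hh₀, ← Functor.map_comp, ← Functor.map_comp, sqN.w]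
  obtain ⟨a', ha'⟩ : ∃ a' : (AlgSp.yon S).obj N ⟶ pullback f b, a' = sqρ.lift _ _ hwa := ⟨_, rfl⟩
  have ha'1 : a' ≫ ρ = (AlgSp.yon S).map fstN ≫ u₀ := by rw [ha', sqρ.lift_fst]
  have ha'2 : a' ≫ pullback.snd f b = (AlgSp.yon S).map sndN := by rw [ha', sqρ.lift_snd]
  have sqa' : IsPullback a' ((AlgSp.yon S).map fstN) ρ u₀ := by
    refine IsPullback.of_right ?_ ha'1 sqρ.flip
    rw [ha'2, ← hh₀]
    exact (sqN.map (AlgSp.yon S)).flip
  have hbe : AlgSp.RepWith @Etale b :=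
    MorphismProperty.of_isPullback (P := AlgSp.RepWith @Etale) sqb.flip hv₀
  have hp1e : AlgSp.RepWith @Etale (pullback.fst f b) :=
    MorphismProperty.of_isPullback (P := AlgSp.RepWith @Etale)
      (IsPullback.of_hasPullback f b).flip hbe
  have ha'e : AlgSp.RepWith @Etale a' :=
    MorphismProperty.of_isPullback (P := AlgSp.RepWith @Etale) sqa'.flip hu₀
  refine ⟨a' ≫ pullback.fst f b, b, (AlgSp.RepWith @Etale).comp_mem _ _ ha'e hp1e, hbe, ?_, ?_, ?_⟩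
  · rw [Category.assoc, pullback.condition, ← Category.assoc, ha'2]
  · intro hv₀s
    exact MorphismProperty.of_isPullback (P := AlgSp.RepWith @Surjective) sqb.flip hv₀s
  · intro hv₀s hu₀s
    have hbs : AlgSp.RepWith @Surjective b :=
      MorphismProperty.of_isPullback (P := AlgSp.RepWith @Surjective) sqb.flip hv₀s
    have hp1s : AlgSp.RepWith @Surjective (pullback.fst f b) :=
      MorphismProperty.of_isPullback (P := AlgSp.RepWith @Surjective)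
        (IsPullback.of_hasPullback f b).flip hbs
    have ha's : AlgSp.RepWith @Surjective a' :=
      MorphismProperty.of_isPullback (P := AlgSp.RepWith @Surjective) sqa'.flip hu₀s
    exact (AlgSp.RepWith @Surjective).comp_mem _ _ ha's hp1s

end Groth.Agent.Lib.H5bLimDesc
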