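import Mathlib
import Groth.Prelude.Def_AlgSp3
import Groth.Agent.S13210

/-!
# Cofiltered limits of fppf sheaves with representable base changes (helper5)

Let `D : I ⥤ AlgSp.Sp S` be a cofiltered system of sheaves, `c` a limit cone, `i : I` and
`g : h_Z ⟶ D.obj i`.  A `PbSystem D i g` is a choice, for every `k : Over i` (an index `k.left`
with a map `k.hom : k.left ⟶ i`), of a scheme `W k ⟶ Z` representing the base change of the
transition map `D.map k.hom` along `g`.

* `PbSystem.functor`: these schemes form a functor `Over i ⥤ Over S`;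
* `PbSystem.isPullback_of_isLimit`: a limit `L` of that functor represents the base change of the
  projection `c.π.app i` along `g`;
* `exists_limit_affine`: a cofiltered diagram of affine schemes over `S` has a limit, with affine
  vertex.
-/

set_option autoImplicit false
set_option linter.unusedSectionVars false
set_option linter.style.haveILetI false
universe u

namespace Groth.Agent.Lib.H5bLimSp

open CategoryTheory CategoryTheory.Limits AlgebraicGeometry AlgSp Opposite
open Groth.Agent.S13210

variable {S : Scheme.{u}} {I : Type u} [SmallCategory I] [IsCofiltered I]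

/-- compatible representing objects for the base changes of the transition maps to `D.obj i`
along `g : h_Z ⟶ D.obj i`. -/
structure PbSystem (D : I ⥤ AlgSp.Sp S) (i : I) {Z : Over S} (g : (yon S).obj Z ⟶ D.obj i) where
  /-- the representing schemes -/
  W : Over i → Over S
  /-- their structure maps to `Z` -/
  w : ∀ k, W k ⟶ Z
  /-- the projections to `D.obj k.left` -/
  fst : ∀ k : Over i, (yon S).obj (W k) ⟶ D.obj k.left
  sq : ∀ k : Over i, IsPullback (fst k) ((yon S).map (w k)) (D.map k.hom) g

namespace PbSystem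

variable {D : I ⥤ AlgSp.Sp S} {i : I} {Z : Over S} {g : (yon S).obj Z ⟶ D.obj i}
  (P : PbSystem D i g)

lemma exists_trans {k k' : Over i} (ψ : k ⟶ k') :
    ∃! t : P.W k ⟶ P.W k', t ≫ P.w k' = P.w k ∧
      (yon S).map t ≫ P.fst k' = P.fst k ≫ D.map ψ.left := by
  have hcomm : (P.fst k ≫ D.map ψ.left) ≫ D.map k'.hom = (yon S).map (P.w k) ≫ g := by
    rw [Category.assoc, ← D.map_comp, Over.w ψ, (P.sq k).w]
  obtain ⟨t, ht⟩ := (yon S).map_surjective ((P.sq k').lift _ _ hcomm)
  refine ⟨t, ⟨?_, ?_⟩, ?_⟩
  · apply (yon S).map_injective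
    rw [CategoryTheory.Functor.map_comp, ht, IsPullback.lift_snd]
  · rw [ht, IsPullback.lift_fst]
  · rintro t' ⟨h1, h2⟩
    apply (yon S).map_injective
    apply (P.sq k').hom_ext
    · rw [h2, ht, IsPullback.lift_fst]
    · rw [← CategoryTheory.Functor.map_comp, h1, ht, IsPullback.lift_snd]

/-- the transition morphism `W k ⟶ W k'`. -/
noncomputable def trans {k k' : Over i} (ψ : k ⟶ k') : P.W k ⟶ P.W k' :=
  (P.exists_trans ψ).choose

lemma trans_w {k k' : Over i} (ψ : k ⟶ k') : P.trans ψ ≫ P.w k' = P.w k :=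
  (P.exists_trans ψ).choose_spec.1.1

lemma trans_fst {k k' : Over i} (ψ : k ⟶ k') :
    (yon S).map (P.trans ψ) ≫ P.fst k' = P.fst k ≫ D.map ψ.left :=
  (P.exists_trans ψ).choose_spec.1.2

lemma trans_unique {k k' : Over i} (ψ : k ⟶ k') (t : P.W k ⟶ P.W k')
    (h1 : t ≫ P.w k' = P.w k) (h2 : (yon S).map t ≫ P.fst k' = P.fst k ≫ D.map ψ.left) :
    t = P.trans ψ :=
  (P.exists_trans ψ).choose_spec.2 t ⟨h1, h2⟩

/-- the representing schemes as a functor. -/
noncomputable abbrev functor : Over i ⥤ Over S where
  obj := P.W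
  map ψ := P.trans ψ
  map_id k := by
    symm
    apply P.trans_unique
    · rw [Category.id_comp]
    · rw [CategoryTheory.Functor.map_id, Category.id_comp]
      change P.fst k = P.fst k ≫ D.map (𝟙 k.left)
      rw [D.map_id, Category.comp_id]
  map_comp {k k' k''} ψ ψ' := by
    symm
    apply P.trans_unique
    · rw [Category.assoc, P.trans_w, P.trans_w]
    · rw [CategoryTheory.Functor.map_comp, Category.assoc, P.trans_fst, ← Category.assoc,
        P.trans_fst, Category.assoc]
      change P.fst k ≫ D.map ψ.left ≫ D.map ψ'.left = P.fst k ≫ D.map (ψ.left ≫ ψ'.left)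
      rw [D.map_comp]

@[simp] lemma functor_obj (k : Over i) : P.functor.obj k = P.W k := rfl
@[simp] lemma functor_map {k k' : Over i} (ψ : k ⟶ k') : P.functor.map ψ = P.trans ψ := rfl

/-- a limit of the representing schemes represents the base change of the projection from the
limit sheaf. -/
theorem isPullback_of_isLimit {c : Cone D} (hc : IsLimit c) (L : Cone P.functor)
    (hL : IsLimit L) :
    ∃ (fst : (yon S).obj L.pt ⟶ c.pt) (iW : L.pt ⟶ Z),
      IsPullback fst ((yon S).map iW) (c.π.app i) g ∧
      (∀ k, L.π.app k ≫ P.w k = iW) ∧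
      (∀ k : Over i, fst ≫ c.π.app k.left = (yon S).map (L.π.app k) ≫ P.fst k) := by
  have hc' : IsLimit (c.whisker (Over.forget i)) :=
    (Functor.Initial.isLimitWhiskerEquiv (Over.forget i) c).symm hc
  let k₀ : Over i := Over.mk (𝟙 i)
  let iW : L.pt ⟶ Z := L.π.app k₀ ≫ P.w k₀
  have hiW : ∀ k, L.π.app k ≫ P.w k = iW := by
    intro k
    let ψ : k ⟶ k₀ := Over.homMk k.hom (by simp [k₀])
    have h1 : L.π.app k ≫ P.trans ψ = L.π.app k₀ := L.w ψ
    rw [← P.trans_w ψ, ← Category.assoc, h1]
  let cL : Cone (Over.forget i ⋙ D) :=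
    { pt := (yon S).obj L.pt
      π :=
        { app := fun k => (yon S).map (L.π.app k) ≫ P.fst k
          naturality := by
            intro k k' ψ
            have h1 : L.π.app k ≫ P.trans ψ = L.π.app k' := L.w ψ
            change 𝟙 _ ≫ (yon S).map (L.π.app k') ≫ P.fst k' =
              ((yon S).map (L.π.app k) ≫ P.fst k) ≫ D.map ψ.left
            rw [Category.id_comp, Category.assoc, ← P.trans_fst ψ, ← Category.assoc,
              ← CategoryTheory.Functor.map_comp, h1] } }
  let fst : (yon S).obj L.pt ⟶ c.pt := hc'.lift cL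
  have hfst : ∀ k : Over i, fst ≫ c.π.app k.left = (yon S).map (L.π.app k) ≫ P.fst k :=
    fun k => hc'.fac cL k
  have hk₀ : P.fst k₀ = (yon S).map (P.w k₀) ≫ g := by
    have h := (P.sq k₀).w
    have h2 : D.map k₀.hom = 𝟙 _ := D.map_id i
    rw [h2, Category.comp_id] at h
    exact h
  have hw : fst ≫ c.π.app i = (yon S).map iW ≫ g := by
    have := hfst k₀
    change fst ≫ c.π.app i = _ at this
    rw [this, hk₀, ← Category.assoc, ← CategoryTheory.Functor.map_comp]
  refine ⟨fst, iW, ?_, hiW, hfst⟩
  apply isPullback_of_yon hw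
  intro T b c2 hbc
  obtain ⟨γ, rfl⟩ := (yon S).map_surjective c2
  have hcomm : ∀ k : Over i, (b ≫ c.π.app k.left) ≫ D.map k.hom = (yon S).map γ ≫ g := by
    intro k
    rw [Category.assoc, c.w, hbc]
  have hδ : ∀ k : Over i, ∃ δ : T ⟶ P.W k, (yon S).map δ ≫ P.fst k = b ≫ c.π.app k.left ∧
      δ ≫ P.w k = γ := by
    intro k
    obtain ⟨δ, hδ⟩ := (yon S).map_surjective ((P.sq k).lift _ _ (hcomm k))
    refine ⟨δ, ?_, ?_⟩
    · rw [hδ, IsPullback.lift_fst]
    · apply (yon S).map_injective
      rw [CategoryTheory.Functor.map_comp, hδ, IsPullback.lift_snd]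
  choose δ hδ1 hδ2 using hδ
  have hδuniq : ∀ (k : Over i) (δ' : T ⟶ P.W k),
      (yon S).map δ' ≫ P.fst k = b ≫ c.π.app k.left → δ' ≫ P.w k = γ → δ' = δ k := by
    intro k δ' h1 h2
    apply (yon S).map_injective
    apply (P.sq k).hom_ext
    · rw [h1, hδ1]
    · rw [← CategoryTheory.Functor.map_comp, ← CategoryTheory.Functor.map_comp, h2, hδ2]
  let cT : Cone P.functor :=
    { pt := T
      π :=
        { app := δ
          naturality := by
            intro k k' ψ
            change 𝟙 _ ≫ δ k' = δ k ≫ P.trans ψ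
            rw [Category.id_comp]
            symm
            apply hδuniq
            · rw [CategoryTheory.Functor.map_comp, Category.assoc, P.trans_fst, ← Category.assoc, hδ1,
                Category.assoc]
              congr 1
              exact c.w ψ.left
            · rw [Category.assoc, P.trans_w, hδ2] } }
  let a : T ⟶ L.pt := hL.lift cT
  have ha : ∀ k, a ≫ L.π.app k = δ k := fun k => hL.fac cT k
  refine ⟨(yon S).map a, ⟨?_, ?_⟩, ?_⟩
  · apply hc'.hom_ext
    intro k
    change ((yon S).map a ≫ fst) ≫ c.π.app k.left = b ≫ c.π.app k.left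
    rw [Category.assoc, hfst, ← Category.assoc, ← CategoryTheory.Functor.map_comp, ha, hδ1]
  · rw [← CategoryTheory.Functor.map_comp]
    congr 1
    rw [← hiW k₀, ← Category.assoc, ha, hδ2]
  · rintro a₂ ⟨e1, e2⟩
    obtain ⟨α, rfl⟩ := (yon S).map_surjective a₂
    congr 1
    apply hL.hom_ext
    intro k
    rw [ha]
    apply hδuniq
    · rw [CategoryTheory.Functor.map_comp, Category.assoc, ← hfst, ← Category.assoc, e1]
    · rw [Category.assoc, hiW]
      apply (yon S).map_injective
      rw [CategoryTheory.Functor.map_comp]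
      exact e2

end PbSystem

/-- a cofiltered diagram of affine schemes over `S` has a limit, whose vertex is affine. -/
theorem exists_limit_affine {K : Type u} [SmallCategory K] [IsCofiltered K] (F : K ⥤ Over S)
    (hF : ∀ k, IsAffine (F.obj k).left) :
    ∃ L : Cone F, Nonempty (IsLimit L) ∧ IsAffine L.pt.left := by
  haveI : IsConnected K := IsCofiltered.isConnected K
  let Fa : K ⥤ AffineScheme.{u} :=
    Scheme.Spec.essImage.lift (F ⋙ Over.forget S) (fun k => essImage_Spec.2 (hF k))
  have hLs : IsLimit (AffineScheme.forgetToScheme.mapCone (limit.cone Fa)) :=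
    isLimitOfPreserves _ (limit.isLimit Fa)
  let cS : Cone (F ⋙ Over.forget S) := AffineScheme.forgetToScheme.mapCone (limit.cone Fa)
  have hcS : IsLimit cS := hLs
  haveI : HasLimit (F ⋙ Over.forget S) := ⟨⟨⟨cS, hcS⟩⟩⟩
  haveI : HasLimit F := hasLimit_of_created F (Over.forget S)
  refine ⟨limit.cone F, ⟨limit.isLimit F⟩, ?_⟩
  have hpres : IsLimit ((Over.forget S).mapCone (limit.cone F)) :=
    isLimitOfPreserves _ (limit.isLimit F)
  let e := hpres.conePointUniqueUpToIso hcS
  haveI : IsAffine cS.pt := by
    change IsAffine (limit Fa).obj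
    infer_instance
  exact IsAffine.of_isIso e.hom

end Groth.Agent.Lib.H5bLimSp
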