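import Mathlib
import Groth.Agent.Lib.H5bLimDescA
import Groth.Agent.Lib.H5bLimSp
import Groth.Agent.Lib.Helper12LocPCases
import Groth.Agent.S9947
import Groth.Agent.S9920
import Groth.Agent.S10180

/-!
# Descending a property of morphisms of algebraic spaces through a cofiltered limit (helper5)

`descend_locP`: for a property `P` of morphisms of schemes which is étale local on source and target
(`Good P`) and descends through cofiltered limits of schemes with affine transition maps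
(`SchemeDescends P`), `AlgSp.LocP P` descends through cofiltered limits of algebraic spaces with
affine transition maps.
-/

set_option autoImplicit false
set_option linter.style.haveILetI false
set_option linter.unusedVariables false
set_option linter.unusedSectionVars false
universe u

open CategoryTheory CategoryTheory.Limits AlgebraicGeometry MorphismProperty
open AlgSp

namespace Groth.Agent.Lib.H5bLimDesc

open Groth.Agent.Lib.H5bLimSp Groth.Agent.Lib.Helper12.LocPCases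

/-- the scheme-level descent statement for a property `P`. -/
def SchemeDescends (P : MorphismProperty Scheme.{u}) : Prop :=
  ∀ {J : Type u} [SmallCategory J] [IsCofiltered J]
    (D : J ⥤ Scheme.{u}) (c : Limits.Cone D) (hc : Limits.IsLimit c)
    [∀ (i j : J) (f : i ⟶ j), IsAffineHom (D.map f)] (i₀ : J) [CompactSpace (D.obj i₀)]
    [QuasiSeparatedSpace (D.obj i₀)] {X₀ Y₀ : Scheme.{u}} (f₀ : X₀ ⟶ Y₀) (g₀ : Y₀ ⟶ D.obj i₀)
    [CompactSpace X₀] [QuasiSeparatedSpace X₀] [CompactSpace Y₀] [QuasiSeparatedSpace Y₀]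
    [LocallyOfFinitePresentation f₀]
    {X Y : Scheme.{u}} (f : X ⟶ Y) (g : Y ⟶ c.pt) (qY : Y ⟶ Y₀) (qX : X ⟶ X₀)
    (hY : IsPullback qY g g₀ (c.π.app i₀)) (hX : IsPullback qX f f₀ qY), P f →
    ∃ (i : J) (φ : i ⟶ i₀) (Xi Yi : Scheme.{u}) (fi : Xi ⟶ Yi) (gi : Yi ⟶ D.obj i) (pY : Yi ⟶ Y₀)
      (pX : Xi ⟶ X₀), IsPullback pY gi g₀ (D.map φ) ∧ IsPullback pX fi f₀ pY ∧ P fi

lemma isQuasiCompactSp_yon {S : Scheme.{u}} (V : Over S) [CompactSpace V.left] :
    AlgSp.IsQuasiCompactSp ((AlgSp.yon S).obj V) :=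
  ⟨V, 𝟙 _, AlgSp.repWith_id _ V, AlgSp.repWith_id _ V, inferInstance⟩

/-- the scheme-level step: descend `P` of a base change of `h₀` through a limit of affine
schemes over an affine scheme `V₀` whose `k₀`-th term is `V₀` itself. -/
theorem scheme_step (P : MorphismProperty Scheme.{u}) [P.IsStableUnderBaseChange]
    (hlim : SchemeDescends P)
    {J : Type u} [SmallCategory J] [IsCofiltered J] (Dsch : J ⥤ Scheme.{u})
    (haff : ∀ k, IsAffine (Dsch.obj k)) (cL : Cone Dsch) (hcL : IsLimit cL) (k₀ : J)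
    {U₀ V₀ : Scheme.{u}} [IsAffine U₀] [IsAffine V₀] (h₀ : U₀ ⟶ V₀)
    [LocallyOfFinitePresentation h₀]
    (wk : ∀ k, Dsch.obj k ⟶ V₀) (hwk : ∀ {k k' : J} (φ : k ⟶ k'), Dsch.map φ ≫ wk k' = wk k)
    (hiso : IsIso (wk k₀)) (iW : cL.pt ⟶ V₀) (hiW : ∀ k, cL.π.app k ≫ wk k = iW)
    {ZL : Scheme.{u}} (fstL : ZL ⟶ U₀) (sndL : ZL ⟶ cL.pt) (hZL : IsPullback fstL sndL h₀ iW)
    (hPL : P sndL) :
    ∃ (k : J) (φ : k ⟶ k₀), ∀ {Z : Scheme.{u}} (a : Z ⟶ U₀) (b : Z ⟶ Dsch.obj k),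
      IsPullback a b h₀ (wk k) → P b := by
  haveI := haff
  haveI := hiso
  haveI : ∀ (k k' : J) (ψ : k ⟶ k'), IsAffineHom (Dsch.map ψ) := fun k k' ψ => inferInstance
  have hYs : IsPullback iW (𝟙 cL.pt) (inv (wk k₀)) (cL.π.app k₀) := by
    refine IsPullback.of_vert_isIso ⟨?_⟩
    rw [Category.id_comp, ← hiW k₀, Category.assoc, IsIso.hom_inv_id, Category.comp_id]
  obtain ⟨k, φ', Xj, Yj, fj, gj, pYj, pXj, sq1, sq2, hPfj⟩ :=
    hlim Dsch cL hcL k₀ h₀ (inv (wk k₀)) sndL (𝟙 cL.pt) iW fstL hYs hZL hPL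
  haveI : IsIso gj := sq1.isIso_snd_of_isIso
  have hpYj : pYj = gj ≫ wk k := by
    have h1 : pYj ≫ inv (wk k₀) = gj ≫ Dsch.map φ' := sq1.w
    calc pYj = pYj ≫ inv (wk k₀) ≫ wk k₀ := by
          rw [IsIso.inv_hom_id, Category.comp_id]
      _ = (pYj ≫ inv (wk k₀)) ≫ wk k₀ := (Category.assoc _ _ _).symm
      _ = (gj ≫ Dsch.map φ') ≫ wk k₀ := by rw [h1]
      _ = gj ≫ Dsch.map φ' ≫ wk k₀ := Category.assoc _ _ _
      _ = gj ≫ wk k := by rw [hwk φ']
  have he : wk k = inv gj ≫ pYj := by rw [hpYj, IsIso.inv_hom_id_assoc]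
  refine ⟨k, φ', ?_⟩
  intro Z a b hsqk
  have hψw : a ≫ h₀ = (b ≫ inv gj) ≫ pYj := by
    rw [Category.assoc, ← he, hsqk.w]
  have hleft : IsPullback (sq2.lift _ _ hψw) b fj (inv gj) := by
    refine IsPullback.of_right ?_ (sq2.lift_snd _ _ _) sq2
    rw [sq2.lift_fst, ← he]
    exact hsqk
  exact MorphismProperty.of_isPullback (P := P) hleft hPfj

theorem descend_locP (P : MorphismProperty Scheme.{u}) (hP : Good P) (hlim : SchemeDescends P)
    (S : Scheme.{u}) [QuasiSeparatedSpace S] {I : Type u} [SmallCategory I] [IsCofiltered I]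
    (D : I ⥤ AlgSp.Sp S) (hD : ∀ i, AlgSp.IsAlgSpace (D.obj i))
    (hDa : ∀ (i j : I) (φ : i ⟶ j), AlgSp.IsAffineMor (D.map φ))
    (c : Cone D) (hc : IsLimit c) (i₀ : I)
    (X₀ Y₀ : AlgSp.Space S) (f₀ : X₀.obj ⟶ Y₀.obj) (b₀ : Y₀.obj ⟶ D.obj i₀)
    (hXqc : AlgSp.IsQuasiCompactSp X₀.obj)
    (hYqc : AlgSp.IsQuasiCompactSp Y₀.obj) (hYqs : AlgSp.IsQuasiSeparatedSp Y₀.obj)
    (X Y : AlgSp.Sp S) (f : X ⟶ Y) (pY : Y ⟶ Y₀.obj) (qY : Y ⟶ c.pt)
    (hY : IsPullback pY qY b₀ (c.π.app i₀)) (pX : X ⟶ X₀.obj) (hX : IsPullback pX f f₀ pY)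
    (hf : AlgSp.LocP P f) (hf₀ : AlgSp.LocP @LocallyOfFinitePresentation f₀) :
    ∃ (i : I) (φ : i ⟶ i₀), ∀ (Xi Yi : AlgSp.Sp S) (fi : Xi ⟶ Yi) (pYi : Yi ⟶ Y₀.obj)
      (qYi : Yi ⟶ D.obj i) (_ : IsPullback pYi qYi b₀ (D.map φ)) (pXi : Xi ⟶ X₀.obj)
      (_ : IsPullback pXi fi f₀ pYi), AlgSp.LocP P fi := by
  haveI := hP.bc
  haveI := hP.comp
  -- affine charts
  obtain ⟨V₀, v₀, hV₀, hv₀e, hv₀s⟩ := Groth.Agent.S10180.exists_affine_chart hYqc
  haveI : IsAffine V₀.left := hV₀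
  have hX₀' : AlgSp.IsAlgSpace (pullback f₀ v₀) :=
    Groth.Agent.S9874.isAlgSpace_of_isPullback Y₀.property.diag X₀.property
      (AlgSp.IsAlgSpace.yon_obj V₀) (IsPullback.of_hasPullback f₀ v₀)
  have hv₀qc : AlgSp.IsQuasiCompactMor v₀ :=
    Groth.Agent.S9920.isQuasiCompactMor_of_qc_qs (AlgSp.IsAlgSpace.yon_obj V₀) Y₀.property v₀
      (isQuasiCompactSp_yon V₀) hYqs
  have hX₀'qc : AlgSp.IsQuasiCompactSp (pullback f₀ v₀) :=
    hv₀qc X₀.property hXqc f₀ _ _ (IsPullback.of_hasPullback f₀ v₀).flip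
  obtain ⟨U₀, u₀, hU₀, hu₀e, hu₀s⟩ := Groth.Agent.S10180.exists_affine_chart hX₀'qc
  haveI : IsAffine U₀.left := hU₀
  obtain ⟨h₀, hh₀⟩ := (AlgSp.yon S).map_surjective (u₀ ≫ pullback.snd f₀ v₀)
  have hpr1 : AlgSp.RepWith @Etale (pullback.fst f₀ v₀) :=
    MorphismProperty.of_isPullback (P := AlgSp.RepWith @Etale)
      (IsPullback.of_hasPullback f₀ v₀).flip hv₀e
  haveI hh₀lfp : LocallyOfFinitePresentation h₀.left :=
    hf₀ (u₀ ≫ pullback.fst f₀ v₀) v₀ h₀ ((AlgSp.RepWith @Etale).comp_mem _ _ hu₀e hpr1) hv₀e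
      (by rw [Category.assoc, pullback.condition, ← Category.assoc, ← hh₀])
  -- the system of base changes of `V₀`
  have hex : ∀ k : Over i₀, ∃ (W : Over S) (w : W ⟶ V₀)
      (fst : (AlgSp.yon S).obj W ⟶ D.obj k.left),
      IsPullback fst ((AlgSp.yon S).map w) (D.map k.hom) (v₀ ≫ b₀) ∧ IsAffine W.left :=
    fun k => hDa _ _ k.hom hV₀ (v₀ ≫ b₀)
  choose W w fst sqk hW using hex
  let Pb : PbSystem D i₀ (v₀ ≫ b₀) := ⟨W, w, fst, sqk⟩
  obtain ⟨L, ⟨hL⟩, hLaff⟩ := exists_limit_affine Pb.functor hW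
  obtain ⟨fstL, iW, hpb, hiW, hfstL⟩ := Pb.isPullback_of_isLimit hc L hL
  haveI : IsConnected (Over i₀) := IsCofiltered.isConnected (Over i₀)
  have hLs : IsLimit ((Over.forget S).mapCone L) := isLimitOfPreserves _ hL
  haveI hDaff : ∀ k, IsAffine ((Pb.functor ⋙ Over.forget S).obj k) := hW
  haveI : ∀ (k k' : Over i₀) (ψ : k ⟶ k'), IsAffineHom ((Pb.functor ⋙ Over.forget S).map ψ) :=
    fun k k' ψ => inferInstance
  let k₀ : Over i₀ := Over.mk (𝟙 i₀)
  -- `w k₀` is an isomorphism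
  haveI : IsIso (D.map k₀.hom) := by
    show IsIso (D.map (𝟙 i₀))
    rw [D.map_id]; infer_instance
  haveI : IsIso ((AlgSp.yon S).map (w k₀)) := (sqk k₀).isIso_snd_of_isIso
  haveI : IsIso (w k₀) := isIso_of_reflects_iso (w k₀) (AlgSp.yon S)
  haveI hwl : IsIso (w k₀).left := by
    have : IsIso ((Over.forget S).map (w k₀)) := inferInstance
    exact this
  -- the chart of `f` over the limit
  obtain ⟨a, b, hae, hbe, hab, -, -⟩ := chart_of_pb f₀ b₀ (c.π.app i₀) pY qY hY pX f hX v₀ hv₀e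
    u₀ hu₀e h₀ hh₀ iW fstL hpb (pullback.fst h₀ iW) (pullback.snd h₀ iW)
    (IsPullback.of_hasPullback h₀ iW)
  have hPL : P (pullback.snd h₀ iW).left := hf a b (pullback.snd h₀ iW) hae hbe hab
  -- scheme-level descent
  have hXs : IsPullback (pullback.fst h₀ iW).left (pullback.snd h₀ iW).left h₀.left iW.left :=
    (IsPullback.of_hasPullback h₀ iW).map (Over.forget S)
  have htr : ∀ {k k' : Over i₀} (φ : k ⟶ k'),
      (Pb.functor ⋙ Over.forget S).map φ ≫ (w k').left = (w k).left := by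
    intro k k' φ
    show (Pb.trans φ).left ≫ (w k').left = (w k).left
    rw [← Over.comp_left]; exact congrArg (fun m => m.left) (Pb.trans_w φ)
  obtain ⟨k, φ', hk⟩ := scheme_step P hlim (Pb.functor ⋙ Over.forget S) hW
    ((Over.forget S).mapCone L) hLs k₀ h₀.left (fun k => (w k).left) htr hwl iW.left
    (fun k => by
      show (L.π.app k).left ≫ (w k).left = iW.left
      rw [← Over.comp_left, hiW k])
    (pullback.fst h₀ iW).left (pullback.snd h₀ iW).left hXs hPL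
  have hsqk : IsPullback (pullback.fst h₀ (w k)).left (pullback.snd h₀ (w k)).left h₀.left
      (w k).left := (IsPullback.of_hasPullback h₀ (w k)).map (Over.forget S)
  have hPk : P (pullback.snd h₀ (w k)).left := hk _ _ hsqk
  -- conclusion
  refine ⟨k.left, k.hom, ?_⟩
  intro Xi Yi fi pYi qYi sqYi pXi sqXi
  obtain ⟨a', b', ha'e, hb'e, ha'b', -, ha's⟩ := chart_of_pb f₀ b₀ (D.map k.hom) pYi qYi sqYi pXi fi
    sqXi v₀ hv₀e u₀ hu₀e h₀ hh₀ (w k) (fst k) (sqk k) (pullback.fst h₀ (w k))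
    (pullback.snd h₀ (w k)) (IsPullback.of_hasPullback h₀ (w k))
  have hYi : AlgSp.IsAlgSpace Yi :=
    Groth.Agent.S9874.isAlgSpace_of_isPullback (hD i₀).diag Y₀.property (hD k.left) sqYi
  exact Groth.Agent.S9947.locP_of_chart P hP.hEt hP.hsrc hP.hcancel hYi fi a' b'
    (pullback.snd h₀ (w k)) ha'e (ha's hv₀s hu₀s) hb'e ha'b' hPk

end Groth.Agent.Lib.H5bLimDesc
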