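import Mathlib
import Groth.Agent.Lib.H5bLimDescB
import Groth.Agent.Lib.Helper15SmLoc
import Groth.Agent.Lib.Helper15SrcCancel
import Groth.Agent.S9907
import Groth.Agent.S10004

/-!
# Descending surjectivity of morphisms of algebraic spaces through a cofiltered limit (helper5)
-/

set_option autoImplicit false
set_option linter.style.haveILetI false
set_option linter.unusedVariables false
set_option linter.unusedSectionVars false
universe u

open CategoryTheory CategoryTheory.Limits AlgebraicGeometry MorphismProperty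
open AlgSp

namespace Groth.Agent.Lib.H5bLimDesc

open Groth.Agent.Lib.H5bLimSp Groth.Agent.Lib.Helper12.LocPCases

variable {S : Scheme.{u}}

/-- `h_g` is surjective on points for a surjective morphism of schemes `g`. -/
theorem isSurjectiveMor_yon_map {U V : Over S} (h : V ⟶ U) (hs : Function.Surjective h.left) :
    AlgSp.IsSurjectiveMor ((AlgSp.yon S).map h) := by
  intro x
  obtain ⟨v, hv⟩ := hs (AlgSp.Points.toScheme U x)
  refine ⟨AlgSp.Points.ofScheme V v, ?_⟩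
  rw [Groth.Agent.Lib.Helper15LocEss.points_map_yon_ofScheme, hv, AlgSp.Points.ofScheme_toScheme]

/-- a representable surjective morphism is surjective on points. -/
theorem isSurjectiveMor_of_repWith {F G : AlgSp.Sp S} (a : F ⟶ G)
    (ha : AlgSp.RepWith @Surjective a) : AlgSp.IsSurjectiveMor a := by
  refine Groth.Agent.Lib.Helper15SrcCancel.isSurjectiveMor_of_baseChange_to_schemes a ?_
  intro T ξ
  obtain ⟨W', p, q, sq⟩ := ha.1 ξ
  have hp : Surjective p.left := ha.2 ξ q p sq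
  exact ⟨_, q, (AlgSp.yon S).map p, sq, isSurjectiveMor_yon_map p hp.surj⟩

theorem isSurjectiveMor_comp {F G H : AlgSp.Sp S} (a : F ⟶ G) (b : G ⟶ H)
    (ha : AlgSp.IsSurjectiveMor a) (hb : AlgSp.IsSurjectiveMor b) :
    AlgSp.IsSurjectiveMor (a ≫ b) := by
  intro y
  obtain ⟨z, hz⟩ := hb y
  obtain ⟨t, ht⟩ := ha z
  exact ⟨t, by rw [AlgSp.Points.map_comp, ht, hz]⟩

theorem isSurjectiveMor_of_comp {F G H : AlgSp.Sp S} (a : F ⟶ G) (b : G ⟶ H)
    (hab : AlgSp.IsSurjectiveMor (a ≫ b)) : AlgSp.IsSurjectiveMor b := by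
  intro y
  obtain ⟨t, ht⟩ := hab y
  exact ⟨AlgSp.Points.map a t, by rw [← AlgSp.Points.map_comp, ht]⟩

/-- the chart of a double base change, factored through `X ×_Y W`. -/
theorem chart_factor {X₀ Y₀ B₀ B X Y : AlgSp.Sp S} (f₀ : X₀ ⟶ Y₀) (b₀ : Y₀ ⟶ B₀) (π : B ⟶ B₀)
    (pY : Y ⟶ Y₀) (qY : Y ⟶ B) (hY : IsPullback pY qY b₀ π) (pX : X ⟶ X₀) (f : X ⟶ Y)
    (hX : IsPullback pX f f₀ pY)
    {V₀ U₀ W : Over S} (v₀ : (AlgSp.yon S).obj V₀ ⟶ Y₀) (hv₀ : AlgSp.RepWith @Etale v₀)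
    (u₀ : (AlgSp.yon S).obj U₀ ⟶ pullback f₀ v₀) (hu₀ : AlgSp.RepWith @Etale u₀) (h₀ : U₀ ⟶ V₀)
    (hh₀ : (AlgSp.yon S).map h₀ = u₀ ≫ pullback.snd f₀ v₀)
    (w : W ⟶ V₀) (fstW : (AlgSp.yon S).obj W ⟶ B)
    (sqW : IsPullback fstW ((AlgSp.yon S).map w) π (v₀ ≫ b₀))
    {N : Over S} (fstN : N ⟶ U₀) (sndN : N ⟶ W) (sqN : IsPullback fstN sndN h₀ w) :
    ∃ (b : (AlgSp.yon S).obj W ⟶ Y) (a' : (AlgSp.yon S).obj N ⟶ pullback f b),
      AlgSp.RepWith @Etale b ∧ AlgSp.RepWith @Etale a' ∧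
      a' ≫ pullback.snd f b = (AlgSp.yon S).map sndN ∧
      (AlgSp.RepWith @Surjective u₀ → AlgSp.RepWith @Surjective a') := by
  -- the chart of `Y`
  have hwb : ((AlgSp.yon S).map w ≫ v₀) ≫ b₀ = fstW ≫ π := by
    rw [Category.assoc]; exact sqW.w.symm
  obtain ⟨b, hb⟩ : ∃ b : (AlgSp.yon S).obj W ⟶ Y, b = hY.lift _ _ hwb := ⟨_, rfl⟩
  have hb1 : b ≫ pY = (AlgSp.yon S).map w ≫ v₀ := by rw [hb, hY.lift_fst]
  have hb2 : b ≫ qY = fstW := by rw [hb, hY.lift_snd]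
  have sqb : IsPullback b ((AlgSp.yon S).map w) pY v₀ := by
    refine IsPullback.of_right ?_ hb1 hY.flip
    rw [hb2]
    exact sqW
  -- `X ×_Y W`
  have hρw : (pullback.fst f b ≫ pX) ≫ f₀ = (pullback.snd f b ≫ (AlgSp.yon S).map w) ≫ v₀ := by
    rw [Category.assoc, hX.w, ← Category.assoc, pullback.condition, Category.assoc, hb1,
      Category.assoc]
  obtain ⟨ρ, hρ⟩ : ∃ ρ : pullback f b ⟶ pullback f₀ v₀, ρ = pullback.lift _ _ hρw := ⟨_, rfl⟩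
  have hρ1 : ρ ≫ pullback.fst f₀ v₀ = pullback.fst f b ≫ pX := by rw [hρ, pullback.lift_fst]
  have hρ2 : ρ ≫ pullback.snd f₀ v₀ = pullback.snd f b ≫ (AlgSp.yon S).map w := by
    rw [hρ, pullback.lift_snd]
  have big : IsPullback (pullback.fst f b ≫ pX) (pullback.snd f b) f₀ (b ≫ pY) :=
    (IsPullback.of_hasPullback f b).paste_horiz hX
  rw [hb1] at big
  have sqρ : IsPullback ρ (pullback.snd f b) (pullback.snd f₀ v₀) ((AlgSp.yon S).map w) := by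
    refine IsPullback.of_right ?_ hρ2 (IsPullback.of_hasPullback f₀ v₀)
    rw [hρ1]
    exact big
  -- the chart of `X ×_Y W`
  have hwa : ((AlgSp.yon S).map fstN ≫ u₀) ≫ pullback.snd f₀ v₀ =
      (AlgSp.yon S).map sndN ≫ (AlgSp.yon S).map w := by
    rw [Category.assoc, ← hh₀, ← Functor.map_comp, ← Functor.map_comp, sqN.w]
  obtain ⟨a', ha'⟩ : ∃ a' : (AlgSp.yon S).obj N ⟶ pullback f b, a' = sqρ.lift _ _ hwa := ⟨_, rfl⟩
  have ha'1 : a' ≫ ρ = (AlgSp.yon S).map fstN ≫ u₀ := by rw [ha', sqρ.lift_fst]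
  have ha'2 : a' ≫ pullback.snd f b = (AlgSp.yon S).map sndN := by rw [ha', sqρ.lift_snd]
  have sqa' : IsPullback a' ((AlgSp.yon S).map fstN) ρ u₀ := by
    refine IsPullback.of_right ?_ ha'1 sqρ.flip
    rw [ha'2, ← hh₀]
    exact (sqN.map (AlgSp.yon S)).flip
  have hbe : AlgSp.RepWith @Etale b :=
    MorphismProperty.of_isPullback (P := AlgSp.RepWith @Etale) sqb.flip hv₀
  have ha'e : AlgSp.RepWith @Etale a' :=
    MorphismProperty.of_isPullback (P := AlgSp.RepWith @Etale) sqa'.flip hu₀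
  exact ⟨b, a', hbe, ha'e, ha'2, fun hu₀s =>
    MorphismProperty.of_isPullback (P := AlgSp.RepWith @Surjective) sqa'.flip hu₀s⟩

/-- the scheme-level descent statement for a property `P`, affine case. -/
def SchemeDescendsAff (P : MorphismProperty Scheme.{u}) : Prop :=
  ∀ {J : Type u} [SmallCategory J] [IsCofiltered J]
    (D : J ⥤ Scheme.{u}) (c : Limits.Cone D) (hc : Limits.IsLimit c)
    [∀ (i j : J) (f : i ⟶ j), IsAffineHom (D.map f)] (i₀ : J) [IsAffine (D.obj i₀)]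
    {X₀ Y₀ : Scheme.{u}} (f₀ : X₀ ⟶ Y₀) (g₀ : Y₀ ⟶ D.obj i₀)
    [IsAffine X₀] [IsAffine Y₀] [IsIso g₀]
    [LocallyOfFinitePresentation f₀]
    {X Y : Scheme.{u}} (f : X ⟶ Y) (g : Y ⟶ c.pt) (qY : Y ⟶ Y₀) (qX : X ⟶ X₀)
    (hY : IsPullback qY g g₀ (c.π.app i₀)) (hX : IsPullback qX f f₀ qY), P f →
    ∃ (i : J) (φ : i ⟶ i₀) (Xi Yi : Scheme.{u}) (fi : Xi ⟶ Yi) (gi : Yi ⟶ D.obj i) (pY : Yi ⟶ Y₀)
      (pX : Xi ⟶ X₀), IsPullback pY gi g₀ (D.map φ) ∧ IsPullback pX fi f₀ pY ∧ P fi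

/-- the scheme-level step, affine variant. -/
theorem scheme_step_aff (P : MorphismProperty Scheme.{u}) [P.IsStableUnderBaseChange]
    (hlim : SchemeDescendsAff P)
    {J : Type u} [SmallCategory J] [IsCofiltered J] (Dsch : J ⥤ Scheme.{u})
    (haff : ∀ k, IsAffine (Dsch.obj k)) (cL : Cone Dsch) (hcL : IsLimit cL) (k₀ : J)
    {U₀ V₀ : Scheme.{u}} [IsAffine U₀] [IsAffine V₀] (h₀ : U₀ ⟶ V₀)
    [LocallyOfFinitePresentation h₀]
    (wk : ∀ k, Dsch.obj k ⟶ V₀) (hwk : ∀ {k k' : J} (φ : k ⟶ k'), Dsch.map φ ≫ wk k' = wk k)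
    (hiso : IsIso (wk k₀)) (iW : cL.pt ⟶ V₀) (hiW : ∀ k, cL.π.app k ≫ wk k = iW)
    {ZL : Scheme.{u}} (fstL : ZL ⟶ U₀) (sndL : ZL ⟶ cL.pt) (hZL : IsPullback fstL sndL h₀ iW)
    (hPL : P sndL) :
    ∃ (k : J) (φ : k ⟶ k₀), ∀ {Z : Scheme.{u}} (a : Z ⟶ U₀) (b : Z ⟶ Dsch.obj k),
      IsPullback a b h₀ (wk k) → P b := by
  haveI := haff
  haveI := hiso
  haveI : ∀ (k k' : J) (ψ : k ⟶ k'), IsAffineHom (Dsch.map ψ) := fun k k' ψ => inferInstance
  have hYs : IsPullback iW (𝟙 cL.pt) (inv (wk k₀)) (cL.π.app k₀) := by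
    refine IsPullback.of_vert_isIso ⟨?_⟩
    rw [Category.id_comp, ← hiW k₀, Category.assoc, IsIso.hom_inv_id, Category.comp_id]
  obtain ⟨k, φ', Xj, Yj, fj, gj, pYj, pXj, sq1, sq2, hPfj⟩ :=
    hlim Dsch cL hcL k₀ h₀ (inv (wk k₀)) sndL (𝟙 cL.pt) iW fstL hYs hZL hPL
  haveI : IsIso gj := sq1.isIso_snd_of_isIso
  have hpYj : pYj = gj ≫ wk k := by
    have h1 : pYj ≫ inv (wk k₀) = gj ≫ Dsch.map φ' := sq1.w
    calc pYj = pYj ≫ inv (wk k₀) ≫ wk k₀ := by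
          rw [IsIso.inv_hom_id, Category.comp_id]
      _ = (pYj ≫ inv (wk k₀)) ≫ wk k₀ := (Category.assoc _ _ _).symm
      _ = (gj ≫ Dsch.map φ') ≫ wk k₀ := by rw [h1]
      _ = gj ≫ Dsch.map φ' ≫ wk k₀ := Category.assoc _ _ _
      _ = gj ≫ wk k := by rw [hwk φ']
  have he : wk k = inv gj ≫ pYj := by rw [hpYj, IsIso.inv_hom_id_assoc]
  refine ⟨k, φ', ?_⟩
  intro Z a b hsqk
  have hψw : a ≫ h₀ = (b ≫ inv gj) ≫ pYj := by
    rw [Category.assoc, ← he, hsqk.w]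
  have hleft : IsPullback (sq2.lift _ _ hψw) b fj (inv gj) := by
    refine IsPullback.of_right ?_ (sq2.lift_snd _ _ _) sq2
    rw [sq2.lift_fst, ← he]
    exact hsqk
  exact MorphismProperty.of_isPullback (P := P) hleft hPfj

/-- A general engine: a predicate `Q` on morphisms of sheaves which can be read off on the charts
`U₀ ×_{V₀} W ⟶ W` through a property `P` of morphisms of schemes descends through limits. -/
theorem descend_gen (P : MorphismProperty Scheme.{u}) [P.IsStableUnderBaseChange]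
    (hlim : SchemeDescendsAff P)
    (S : Scheme.{u}) [QuasiSeparatedSpace S] (Q : MorphismProperty (AlgSp.Sp S))
    (hin : ∀ {X Y : AlgSp.Sp S} (f : X ⟶ Y), AlgSp.IsAlgSpace X → AlgSp.IsAlgSpace Y → Q f →
      ∀ {N W : Over S} (sndN : N ⟶ W) (b : (AlgSp.yon S).obj W ⟶ Y)
        (a' : (AlgSp.yon S).obj N ⟶ pullback f b), AlgSp.RepWith @Etale b →
        a' ≫ pullback.snd f b = (AlgSp.yon S).map sndN → AlgSp.RepWith @Surjective a' →
        AlgSp.RepWith @Etale a' → P sndN.left)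
    (hout : ∀ {X Y : AlgSp.Sp S} (f : X ⟶ Y), AlgSp.IsAlgSpace Y →
      ∀ {N W : Over S} (sndN : N ⟶ W) (a : (AlgSp.yon S).obj N ⟶ X)
        (b : (AlgSp.yon S).obj W ⟶ Y), AlgSp.RepWith @Etale a → AlgSp.RepWith @Surjective a →
        AlgSp.RepWith @Etale b → AlgSp.RepWith @Surjective b →
        a ≫ f = (AlgSp.yon S).map sndN ≫ b → P sndN.left → Q f)
    {I : Type u} [SmallCategory I] [IsCofiltered I]
    (D : I ⥤ AlgSp.Sp S) (hD : ∀ i, AlgSp.IsAlgSpace (D.obj i))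
    (hDa : ∀ (i j : I) (φ : i ⟶ j), AlgSp.IsAffineMor (D.map φ))
    (c : Cone D) (hc : IsLimit c) (i₀ : I)
    (X₀ Y₀ : AlgSp.Space S) (f₀ : X₀.obj ⟶ Y₀.obj) (b₀ : Y₀.obj ⟶ D.obj i₀)
    (hXqc : AlgSp.IsQuasiCompactSp X₀.obj)
    (hYqc : AlgSp.IsQuasiCompactSp Y₀.obj) (hYqs : AlgSp.IsQuasiSeparatedSp Y₀.obj)
    (X Y : AlgSp.Sp S) (f : X ⟶ Y) (pY : Y ⟶ Y₀.obj) (qY : Y ⟶ c.pt)
    (hY : IsPullback pY qY b₀ (c.π.app i₀)) (pX : X ⟶ X₀.obj) (hX : IsPullback pX f f₀ pY)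
    (hf : Q f) (hf₀ : AlgSp.LocP @LocallyOfFinitePresentation f₀) :
    ∃ (i : I) (φ : i ⟶ i₀), ∀ (Xi Yi : AlgSp.Sp S) (fi : Xi ⟶ Yi) (pYi : Yi ⟶ Y₀.obj)
      (qYi : Yi ⟶ D.obj i) (_ : IsPullback pYi qYi b₀ (D.map φ)) (pXi : Xi ⟶ X₀.obj)
      (_ : IsPullback pXi fi f₀ pYi), Q fi := by
  -- affine charts
  obtain ⟨V₀, v₀, hV₀, hv₀e, hv₀s⟩ := Groth.Agent.S10180.exists_affine_chart hYqc
  haveI : IsAffine V₀.left := hV₀
  have hX₀' : AlgSp.IsAlgSpace (pullback f₀ v₀) :=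
    Groth.Agent.S9874.isAlgSpace_of_isPullback Y₀.property.diag X₀.property
      (AlgSp.IsAlgSpace.yon_obj V₀) (IsPullback.of_hasPullback f₀ v₀)
  have hv₀qc : AlgSp.IsQuasiCompactMor v₀ :=
    Groth.Agent.S9920.isQuasiCompactMor_of_qc_qs (AlgSp.IsAlgSpace.yon_obj V₀) Y₀.property v₀
      (isQuasiCompactSp_yon V₀) hYqs
  have hX₀'qc : AlgSp.IsQuasiCompactSp (pullback f₀ v₀) :=
    hv₀qc X₀.property hXqc f₀ _ _ (IsPullback.of_hasPullback f₀ v₀).flip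
  obtain ⟨U₀, u₀, hU₀, hu₀e, hu₀s⟩ := Groth.Agent.S10180.exists_affine_chart hX₀'qc
  haveI : IsAffine U₀.left := hU₀
  obtain ⟨h₀, hh₀⟩ := (AlgSp.yon S).map_surjective (u₀ ≫ pullback.snd f₀ v₀)
  have hpr1 : AlgSp.RepWith @Etale (pullback.fst f₀ v₀) :=
    MorphismProperty.of_isPullback (P := AlgSp.RepWith @Etale)
      (IsPullback.of_hasPullback f₀ v₀).flip hv₀e
  haveI hh₀lfp : LocallyOfFinitePresentation h₀.left :=
    hf₀ (u₀ ≫ pullback.fst f₀ v₀) v₀ h₀ ((AlgSp.RepWith @Etale).comp_mem _ _ hu₀e hpr1) hv₀e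
      (by rw [Category.assoc, pullback.condition, ← Category.assoc, ← hh₀])
  -- the system of base changes of `V₀`
  have hex : ∀ k : Over i₀, ∃ (W : Over S) (w : W ⟶ V₀)
      (fst : (AlgSp.yon S).obj W ⟶ D.obj k.left),
      IsPullback fst ((AlgSp.yon S).map w) (D.map k.hom) (v₀ ≫ b₀) ∧ IsAffine W.left :=
    fun k => hDa _ _ k.hom hV₀ (v₀ ≫ b₀)
  choose W w fst sqk hW using hex
  let Pb : PbSystem D i₀ (v₀ ≫ b₀) := ⟨W, w, fst, sqk⟩
  obtain ⟨L, ⟨hL⟩, hLaff⟩ := exists_limit_affine Pb.functor hW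
  obtain ⟨fstL, iW, hpb, hiW, hfstL⟩ := Pb.isPullback_of_isLimit hc L hL
  haveI : IsConnected (Over i₀) := IsCofiltered.isConnected (Over i₀)
  have hLs : IsLimit ((Over.forget S).mapCone L) := isLimitOfPreserves _ hL
  let k₀ : Over i₀ := Over.mk (𝟙 i₀)
  -- `w k₀` is an isomorphism
  haveI : IsIso (D.map k₀.hom) := by
    show IsIso (D.map (𝟙 i₀))
    rw [D.map_id]; infer_instance
  haveI : IsIso ((AlgSp.yon S).map (w k₀)) := (sqk k₀).isIso_snd_of_isIso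
  haveI : IsIso (w k₀) := isIso_of_reflects_iso (w k₀) (AlgSp.yon S)
  haveI hwl : IsIso (w k₀).left := by
    have : IsIso ((Over.forget S).map (w k₀)) := inferInstance
    exact this
  -- the spaces `X`, `Y` are algebraic
  have hB : AlgSp.IsAlgSpace c.pt := (Groth.Agent.S10004.result S D hD hDa c hc).1
  have hYalg : AlgSp.IsAlgSpace Y :=
    Groth.Agent.S9874.isAlgSpace_of_isPullback (hD i₀).diag Y₀.property hB hY
  have hXalg : AlgSp.IsAlgSpace X :=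
    Groth.Agent.S9874.isAlgSpace_of_isPullback Y₀.property.diag X₀.property hYalg hX
  -- the chart of `f` over the limit
  obtain ⟨b, a', hbe, ha'e, ha'2, ha's⟩ := chart_factor f₀ b₀ (c.π.app i₀) pY qY hY pX f hX v₀
    hv₀e u₀ hu₀e h₀ hh₀ iW fstL hpb (pullback.fst h₀ iW) (pullback.snd h₀ iW)
    (IsPullback.of_hasPullback h₀ iW)
  have hPL : P (pullback.snd h₀ iW).left :=
    hin f hXalg hYalg hf (pullback.snd h₀ iW) b a' hbe ha'2 (ha's hu₀s) ha'e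
  -- scheme-level descent
  have hXs : IsPullback (pullback.fst h₀ iW).left (pullback.snd h₀ iW).left h₀.left iW.left :=
    (IsPullback.of_hasPullback h₀ iW).map (Over.forget S)
  have htr : ∀ {k k' : Over i₀} (φ : k ⟶ k'),
      (Pb.functor ⋙ Over.forget S).map φ ≫ (w k').left = (w k).left := by
    intro k k' φ
    show (Pb.trans φ).left ≫ (w k').left = (w k).left
    rw [← Over.comp_left]; exact congrArg (fun m => m.left) (Pb.trans_w φ)
  obtain ⟨k, φ', hk⟩ := scheme_step_aff P hlim (Pb.functor ⋙ Over.forget S) hW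
    ((Over.forget S).mapCone L) hLs k₀ h₀.left (fun k => (w k).left) htr hwl iW.left
    (fun k => by
      show (L.π.app k).left ≫ (w k).left = iW.left
      rw [← Over.comp_left, hiW k])
    (pullback.fst h₀ iW).left (pullback.snd h₀ iW).left hXs hPL
  have hsqk : IsPullback (pullback.fst h₀ (w k)).left (pullback.snd h₀ (w k)).left h₀.left
      (w k).left := (IsPullback.of_hasPullback h₀ (w k)).map (Over.forget S)
  have hPk : P (pullback.snd h₀ (w k)).left := hk _ _ hsqk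
  -- conclusion
  refine ⟨k.left, k.hom, ?_⟩
  intro Xi Yi fi pYi qYi sqYi pXi sqXi
  obtain ⟨a'', b', ha'e', hb'e, ha'b', hb's, ha's'⟩ := chart_of_pb f₀ b₀ (D.map k.hom) pYi qYi sqYi
    pXi fi sqXi v₀ hv₀e u₀ hu₀e h₀ hh₀ (w k) (fst k) (sqk k) (pullback.fst h₀ (w k))
    (pullback.snd h₀ (w k)) (IsPullback.of_hasPullback h₀ (w k))
  have hYi : AlgSp.IsAlgSpace Yi :=
    Groth.Agent.S9874.isAlgSpace_of_isPullback (hD i₀).diag Y₀.property (hD k.left) sqYi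
  exact hout fi hYi (pullback.snd h₀ (w k)) a'' b' ha'e' (ha's' hv₀s hu₀s) hb'e (hb's hv₀s) ha'b' hPk

/-- surjectivity descends through limits. -/
theorem descend_surj
    (hlim : SchemeDescendsAff (@Surjective : MorphismProperty Scheme.{u}))
    (S : Scheme.{u}) [QuasiSeparatedSpace S]
    {I : Type u} [SmallCategory I] [IsCofiltered I]
    (D : I ⥤ AlgSp.Sp S) (hD : ∀ i, AlgSp.IsAlgSpace (D.obj i))
    (hDa : ∀ (i j : I) (φ : i ⟶ j), AlgSp.IsAffineMor (D.map φ))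
    (c : Cone D) (hc : IsLimit c) (i₀ : I)
    (X₀ Y₀ : AlgSp.Space S) (f₀ : X₀.obj ⟶ Y₀.obj) (b₀ : Y₀.obj ⟶ D.obj i₀)
    (hXqc : AlgSp.IsQuasiCompactSp X₀.obj)
    (hYqc : AlgSp.IsQuasiCompactSp Y₀.obj) (hYqs : AlgSp.IsQuasiSeparatedSp Y₀.obj)
    (X Y : AlgSp.Sp S) (f : X ⟶ Y) (pY : Y ⟶ Y₀.obj) (qY : Y ⟶ c.pt)
    (hY : IsPullback pY qY b₀ (c.π.app i₀)) (pX : X ⟶ X₀.obj) (hX : IsPullback pX f f₀ pY)
    (hf : AlgSp.IsSurjectiveMor f) (hf₀ : AlgSp.LocP @LocallyOfFinitePresentation f₀) :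
    ∃ (i : I) (φ : i ⟶ i₀), ∀ (Xi Yi : AlgSp.Sp S) (fi : Xi ⟶ Yi) (pYi : Yi ⟶ Y₀.obj)
      (qYi : Yi ⟶ D.obj i) (_ : IsPullback pYi qYi b₀ (D.map φ)) (pXi : Xi ⟶ X₀.obj)
      (_ : IsPullback pXi fi f₀ pYi), AlgSp.IsSurjectiveMor fi := by
  refine descend_gen (@Surjective) hlim S AlgSp.IsSurjectiveMor ?_ ?_ D hD hDa c hc i₀ X₀ Y₀ f₀ b₀
    hXqc hYqc hYqs X Y f pY qY hY pX hX hf hf₀
  · intro X Y f hXa hYa hf N W sndN b a' hbe ha'2 ha's ha'e
    have h1 : AlgSp.IsSurjectiveMor (pullback.snd f b) :=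
      Groth.Agent.S9907.result (X := ⟨X, hXa⟩) (Y := ⟨Y, hYa⟩)
        (Y' := ⟨(AlgSp.yon S).obj W, AlgSp.IsAlgSpace.yon_obj W⟩)
        (ObjectProperty.homMk f) (ObjectProperty.homMk b) (pullback.fst f b) (pullback.snd f b)
        (IsPullback.of_hasPullback f b) hf
    have h2 : AlgSp.IsSurjectiveMor (a' ≫ pullback.snd f b) :=
      isSurjectiveMor_comp _ _ (isSurjectiveMor_of_repWith a' ha's) h1
    rw [ha'2] at h2
    exact ⟨Groth.Agent.Lib.Helper15SmLoc.surjective_of_isSurjectiveMor_yon_map sndN h2⟩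
  · intro X Y f hYa N W sndN a b hae has hbe hbs hab hP
    have h1 : AlgSp.IsSurjectiveMor ((AlgSp.yon S).map sndN ≫ b) :=
      isSurjectiveMor_comp _ _ (isSurjectiveMor_yon_map sndN hP.surj)
        (isSurjectiveMor_of_repWith b hbs)
    rw [← hab] at h1
    exact isSurjectiveMor_of_comp a f h1

end Groth.Agent.Lib.H5bLimDesc
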