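import Mathlib

/-!
# The diagonal of a double base change (helper5)
-/

set_option autoImplicit false
universe v u

open CategoryTheory CategoryTheory.Limits

namespace Groth.Agent.Lib.H5bLimDesc

/-- if `f` is the base change of `f₀` along `pY`, and `Y = Y₀ ×_{B₀} B`, then `X ×_Y X` is
`(X₀ ×_{Y₀} X₀) ×_{B₀} B` and the diagonal of `f` is the base change of the diagonal of `f₀`. -/
theorem diag_squares {C : Type u} [Category.{v} C] [HasPullbacks C]
    {X₀ Y₀ B₀ B X Y : C} (f₀ : X₀ ⟶ Y₀) (b₀ : Y₀ ⟶ B₀) (π : B ⟶ B₀)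
    (pY : Y ⟶ Y₀) (qY : Y ⟶ B) (hY : IsPullback pY qY b₀ π) (pX : X ⟶ X₀) (f : X ⟶ Y)
    (hX : IsPullback pX f f₀ pY) :
    ∃ pZ : pullback f f ⟶ pullback f₀ f₀,
      IsPullback pZ ((pullback.snd f f ≫ f) ≫ qY) ((pullback.snd f₀ f₀ ≫ f₀) ≫ b₀) π ∧
      IsPullback pX (pullback.diagonal f) (pullback.diagonal f₀) pZ := by
  have hw : (pullback.fst f f ≫ pX) ≫ f₀ = (pullback.snd f f ≫ pX) ≫ f₀ := by
    rw [Category.assoc, Category.assoc, hX.w, ← Category.assoc, ← Category.assoc,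
      pullback.condition]
  obtain ⟨pZ, hpZ⟩ : ∃ pZ : pullback f f ⟶ pullback f₀ f₀, pZ = pullback.lift _ _ hw := ⟨_, rfl⟩
  have hpZ1 : pZ ≫ pullback.fst f₀ f₀ = pullback.fst f f ≫ pX := by rw [hpZ, pullback.lift_fst]
  have hpZ2 : pZ ≫ pullback.snd f₀ f₀ = pullback.snd f f ≫ pX := by rw [hpZ, pullback.lift_snd]
  have big : IsPullback (pullback.fst f f ≫ pX) (pullback.snd f f) f₀ (f ≫ pY) :=
    (IsPullback.of_hasPullback f f).paste_horiz hX
  rw [← hX.w] at big
  have sq1 : IsPullback pZ (pullback.snd f f) (pullback.snd f₀ f₀) pX := by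
    refine IsPullback.of_right ?_ hpZ2 (IsPullback.of_hasPullback f₀ f₀)
    rw [hpZ1]
    exact big
  have sq2 : IsPullback pZ (pullback.snd f f ≫ f) (pullback.snd f₀ f₀ ≫ f₀) pY :=
    sq1.paste_vert hX
  refine ⟨pZ, sq2.paste_vert hY, ?_⟩
  have hcomm : pX ≫ pullback.diagonal f₀ = pullback.diagonal f ≫ pZ := by
    apply pullback.hom_ext
    · rw [Category.assoc, pullback.diagonal_fst, Category.comp_id, Category.assoc, hpZ1,
        ← Category.assoc, pullback.diagonal_fst, Category.id_comp]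
    · rw [Category.assoc, pullback.diagonal_snd, Category.comp_id, Category.assoc, hpZ2,
        ← Category.assoc, pullback.diagonal_snd, Category.id_comp]
  refine IsPullback.of_bot ?_ hcomm sq2
  have e1 : pullback.diagonal f ≫ pullback.snd f f ≫ f = f := by
    rw [← Category.assoc, pullback.diagonal_snd, Category.id_comp]
  have e2 : pullback.diagonal f₀ ≫ pullback.snd f₀ f₀ ≫ f₀ = f₀ := by
    rw [← Category.assoc, pullback.diagonal_snd, Category.id_comp]
  rw [e1, e2]
  exact hX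

end Groth.Agent.Lib.H5bLimDesc
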