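import Mathlib
import Groth.Agent.Lib.H5bLimDescC
import Groth.Agent.Lib.H5bLimDescD
import Groth.Agent.Lib.H5bAtlasDesc
import Groth.Agent.Lib.Helper12SrcLocal
import Groth.Agent.S10209
import Groth.Agent.S10554
import Groth.Agent.S9960
import Groth.Agent.S9921

/-!
# Descending monomorphisms and isomorphisms of algebraic spaces through a cofiltered limit (helper5)
-/

set_option autoImplicit false
set_option linter.style.haveILetI false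
set_option linter.unusedVariables false
set_option linter.unusedSectionVars false
universe u

open CategoryTheory CategoryTheory.Limits AlgebraicGeometry MorphismProperty
open AlgSp

namespace Groth.Agent.Lib.H5bLimDesc

variable {S : Scheme.{u}}

/-- "for some `i ⟶ i₀`, all base changes of `f₀` to `D.obj i` have `Q`". -/
def Eventually {I : Type u} [SmallCategory I] (D : I ⥤ AlgSp.Sp S) {i₀ : I} {X₀ Y₀ : AlgSp.Sp S}
    (f₀ : X₀ ⟶ Y₀) (b₀ : Y₀ ⟶ D.obj i₀) (Q : MorphismProperty (AlgSp.Sp S)) : Prop :=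
  ∃ (i : I) (φ : i ⟶ i₀), ∀ (Xi Yi : AlgSp.Sp S) (fi : Xi ⟶ Yi) (pYi : Yi ⟶ Y₀)
    (qYi : Yi ⟶ D.obj i) (_ : IsPullback pYi qYi b₀ (D.map φ)) (pXi : Xi ⟶ X₀)
    (_ : IsPullback pXi fi f₀ pYi), Q fi

/-- base change stability among algebraic spaces. -/
def BCS (Q : MorphismProperty (AlgSp.Sp S)) : Prop :=
  ∀ ⦃X₁ Y₁ X₂ Y₂ : AlgSp.Sp S⦄, AlgSp.IsAlgSpace X₁ → AlgSp.IsAlgSpace Y₁ → AlgSp.IsAlgSpace X₂ →
    AlgSp.IsAlgSpace Y₂ → ∀ (a : X₁ ⟶ Y₁) (b : Y₂ ⟶ Y₁) (a' : X₂ ⟶ Y₂) (b' : X₂ ⟶ X₁),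
    IsPullback b' a' a b → Q a → Q a'

section

variable {I : Type u} [SmallCategory I] [IsCofiltered I] (D : I ⥤ AlgSp.Sp S)
  (hD : ∀ i, AlgSp.IsAlgSpace (D.obj i)) {i₀ : I} {X₀ Y₀ : AlgSp.Space S}
  (f₀ : X₀.obj ⟶ Y₀.obj) (b₀ : Y₀.obj ⟶ D.obj i₀)

include hD in
/-- passing to a further index. -/
theorem further {Q : MorphismProperty (AlgSp.Sp S)} (hQ : BCS Q) {i j : I} (φ : i ⟶ i₀)
    (ψ : j ⟶ i)
    (h : ∀ (Xi Yi : AlgSp.Sp S) (fi : Xi ⟶ Yi) (pYi : Yi ⟶ Y₀.obj)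
      (qYi : Yi ⟶ D.obj i) (_ : IsPullback pYi qYi b₀ (D.map φ)) (pXi : Xi ⟶ X₀.obj)
      (_ : IsPullback pXi fi f₀ pYi), Q fi)
    (φ' : j ⟶ i₀) (hφ' : φ' = ψ ≫ φ) :
    ∀ (Xj Yj : AlgSp.Sp S) (fj : Xj ⟶ Yj) (pYj : Yj ⟶ Y₀.obj)
      (qYj : Yj ⟶ D.obj j) (_ : IsPullback pYj qYj b₀ (D.map φ')) (pXj : Xj ⟶ X₀.obj)
      (_ : IsPullback pXj fj f₀ pYj), Q fj := by
  subst hφ'
  intro Xj Yj fj pYj qYj sqYj pXj sqXj
  have sqYi := IsPullback.of_hasPullback b₀ (D.map φ)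
  have sqXi := IsPullback.of_hasPullback f₀ (pullback.fst b₀ (D.map φ))
  have hQi : Q (pullback.snd f₀ (pullback.fst b₀ (D.map φ))) := h _ _ _ _ _ sqYi _ sqXi
  have hYi : AlgSp.IsAlgSpace (pullback b₀ (D.map φ)) :=
    Groth.Agent.S9874.isAlgSpace_of_isPullback (hD i₀).diag Y₀.property (hD i) sqYi
  have hXi : AlgSp.IsAlgSpace (pullback f₀ (pullback.fst b₀ (D.map φ))) :=
    Groth.Agent.S9874.isAlgSpace_of_isPullback Y₀.property.diag X₀.property hYi sqXi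
  have hYj : AlgSp.IsAlgSpace Yj :=
    Groth.Agent.S9874.isAlgSpace_of_isPullback (hD i₀).diag Y₀.property (hD j) sqYj
  have hXj : AlgSp.IsAlgSpace Xj :=
    Groth.Agent.S9874.isAlgSpace_of_isPullback Y₀.property.diag X₀.property hYj sqXj
  have hw : pYj ≫ b₀ = (qYj ≫ D.map ψ) ≫ D.map φ := by
    rw [Category.assoc, ← D.map_comp]; exact sqYj.w
  obtain ⟨t, ht⟩ : ∃ t : Yj ⟶ pullback b₀ (D.map φ), t = pullback.lift _ _ hw := ⟨_, rfl⟩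
  have ht1 : t ≫ pullback.fst b₀ (D.map φ) = pYj := by rw [ht, pullback.lift_fst]
  have hw2 : pXj ≫ f₀ = (fj ≫ t) ≫ pullback.fst b₀ (D.map φ) := by
    rw [Category.assoc, ht1]; exact sqXj.w
  obtain ⟨s, hs⟩ : ∃ s : Xj ⟶ pullback f₀ (pullback.fst b₀ (D.map φ)),
      s = pullback.lift _ _ hw2 := ⟨_, rfl⟩
  have hs1 : s ≫ pullback.fst f₀ (pullback.fst b₀ (D.map φ)) = pXj := by
    rw [hs, pullback.lift_fst]
  have hs2 : s ≫ pullback.snd f₀ (pullback.fst b₀ (D.map φ)) = fj ≫ t := by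
    rw [hs, pullback.lift_snd]
  have sq : IsPullback s fj (pullback.snd f₀ (pullback.fst b₀ (D.map φ))) t := by
    refine IsPullback.of_right ?_ hs2 sqXi
    rw [hs1, ht1]
    exact sqXj
  exact hQ hXi hYi hXj hYj _ t fj s sq hQi

include hD in
theorem Eventually.and {Q₁ Q₂ : MorphismProperty (AlgSp.Sp S)} (hQ₁ : BCS Q₁) (hQ₂ : BCS Q₂)
    (h₁ : Eventually D f₀ b₀ Q₁) (h₂ : Eventually D f₀ b₀ Q₂) :
    Eventually D f₀ b₀ (fun _ _ g => Q₁ g ∧ Q₂ g) := by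
  obtain ⟨i₁, φ₁, h₁⟩ := h₁
  obtain ⟨i₂, φ₂, h₂⟩ := h₂
  let k : Over i₀ := IsCofiltered.min (Over.mk φ₁) (Over.mk φ₂)
  let ψ₁ : k ⟶ Over.mk φ₁ := IsCofiltered.minToLeft _ _
  let ψ₂ : k ⟶ Over.mk φ₂ := IsCofiltered.minToRight _ _
  refine ⟨k.left, k.hom, ?_⟩
  intro Xj Yj fj pYj qYj sqYj pXj sqXj
  exact ⟨further D hD f₀ b₀ hQ₁ φ₁ ψ₁.left h₁ k.hom (Over.w ψ₁).symm Xj Yj fj pYj qYj sqYj pXj sqXj,
    further D hD f₀ b₀ hQ₂ φ₂ ψ₂.left h₂ k.hom (Over.w ψ₂).symm Xj Yj fj pYj qYj sqYj pXj sqXj⟩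

end

/-- an étale, surjective monomorphism of algebraic spaces is an isomorphism. -/
theorem isIso_of_etale_surjective_mono {F G : AlgSp.Sp S} (hF : AlgSp.IsAlgSpace F)
    (hG : AlgSp.IsAlgSpace G) (g : F ⟶ G) (he : AlgSp.IsEtaleMor g)
    (hs : AlgSp.IsSurjectiveMor g) [Mono g] : IsIso g := by
  obtain ⟨U, u, hue, hus⟩ := hF.atlas
  have hge : AlgSp.RepWith @Etale (u ≫ g) := he u hue
  have hgsm : AlgSp.IsSurjectiveMor (u ≫ g) :=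
    isSurjectiveMor_comp _ _ (isSurjectiveMor_of_repWith u hus) hs
  have hgs : AlgSp.RepWith @Surjective (u ≫ g) := by
    refine ⟨hge.1, ?_⟩
    intro T V ξ fst snd sq
    have h1 : AlgSp.IsSurjectiveMor ((AlgSp.yon S).map snd) :=
      Groth.Agent.S9907.result (X := ⟨(AlgSp.yon S).obj U, AlgSp.IsAlgSpace.yon_obj U⟩)
        (Y := ⟨G, hG⟩) (Y' := ⟨(AlgSp.yon S).obj T, AlgSp.IsAlgSpace.yon_obj T⟩)
        (ObjectProperty.homMk (u ≫ g)) (ObjectProperty.homMk ξ) fst ((AlgSp.yon S).map snd) sq hgsm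
    exact ⟨Groth.Agent.Lib.Helper15SmLoc.surjective_of_isSurjectiveMor_yon_map snd h1⟩
  haveI : Epi (u ≫ g) := Groth.Agent.Lib.H5bAtlasDesc.epi_of_atlas (u ≫ g) hge hgs
  haveI : Epi g := epi_of_epi u g
  exact isIso_of_mono_of_epi g

end Groth.Agent.Lib.H5bLimDesc
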