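import Mathlib
import Groth.Agent.Lib.H5bLimDescE

/-!
# Descending monomorphisms and isomorphisms of algebraic spaces through a cofiltered limit, II
(helper5)
-/

set_option autoImplicit false
set_option linter.style.haveILetI false
set_option linter.unusedVariables false
set_option linter.unusedSectionVars false
universe u

open CategoryTheory CategoryTheory.Limits AlgebraicGeometry MorphismProperty
open AlgSp

namespace Groth.Agent.Lib.H5bLimDesc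

open Groth.Agent.Lib.Helper12.LocPCases

variable {S : Scheme.{u}}

theorem bcs_isEtaleMor : BCS (AlgSp.IsEtaleMor (S := S)) := by
  intro X₁ Y₁ X₂ Y₂ hX₁ hY₁ hX₂ hY₂ a b a' b' sq ha
  exact Groth.Agent.S10209.isEtaleMor_of_isPullback hX₁ hY₂ sq.flip ha

theorem bcs_isSurjectiveMor : BCS (AlgSp.IsSurjectiveMor (S := S)) := by
  intro X₁ Y₁ X₂ Y₂ hX₁ hY₁ hX₂ hY₂ a b a' b' sq ha
  exact Groth.Agent.S9907.result (X := ⟨X₁, hX₁⟩) (Y := ⟨Y₁, hY₁⟩) (Y' := ⟨Y₂, hY₂⟩)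
    (ObjectProperty.homMk a) (ObjectProperty.homMk b) b' a' sq ha

theorem bcs_mono : BCS (fun (_ _ : AlgSp.Sp S) g => Mono g) := by
  intro X₁ Y₁ X₂ Y₂ hX₁ hY₁ hX₂ hY₂ a b a' b' sq ha
  haveI : Mono a := ha
  exact sq.mono_snd_of_mono

theorem isEtaleMor_of_isIso {X Y : AlgSp.Sp S} (f : X ⟶ Y) [IsIso f] : AlgSp.IsEtaleMor f := by
  intro U φ hφ
  exact ((AlgSp.RepWith @Etale).cancel_right_of_respectsIso φ f).2 hφ

theorem isSurjectiveMor_of_isIso {X Y : AlgSp.Sp S} (f : X ⟶ Y) [IsIso f] :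
    AlgSp.IsSurjectiveMor f := by
  intro y
  refine ⟨AlgSp.Points.map (inv f) y, ?_⟩
  rw [← AlgSp.Points.map_comp, IsIso.inv_hom_id, AlgSp.Points.map_id]

section

variable (hlimS : SchemeDescendsAff (@Surjective : MorphismProperty Scheme.{u}))
  (hlimE : SchemeDescends (@Etale : MorphismProperty Scheme.{u}))
  (S : Scheme.{u}) [QuasiSeparatedSpace S] {I : Type u} [SmallCategory I] [IsCofiltered I]
  (D : I ⥤ AlgSp.Sp S) (hD : ∀ i, AlgSp.IsAlgSpace (D.obj i))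
  (hDa : ∀ (i j : I) (φ : i ⟶ j), AlgSp.IsAffineMor (D.map φ))
  (c : Cone D) (hc : IsLimit c) (i₀ : I)
  (X₀ Y₀ : AlgSp.Space S) (f₀ : X₀.obj ⟶ Y₀.obj) (b₀ : Y₀.obj ⟶ D.obj i₀)
  (hXqc : AlgSp.IsQuasiCompactSp X₀.obj)
  (hYqc : AlgSp.IsQuasiCompactSp Y₀.obj) (hYqs : AlgSp.IsQuasiSeparatedSp Y₀.obj)
  (X Y : AlgSp.Sp S) (f : X ⟶ Y) (pY : Y ⟶ Y₀.obj) (qY : Y ⟶ c.pt)
  (hY : IsPullback pY qY b₀ (c.π.app i₀)) (pX : X ⟶ X₀.obj) (hX : IsPullback pX f f₀ pY)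

include hlimS hlimE hD hDa hc hXqc hYqc hYqs hY hX in
/-- étale surjective morphisms descend. -/
theorem descend_etale_surj (hfe : AlgSp.IsEtaleMor f) (hfs : AlgSp.IsSurjectiveMor f)
    (hf₀ : AlgSp.LocP @LocallyOfFinitePresentation f₀) :
    Eventually D f₀ b₀ (fun _ _ g => AlgSp.IsEtaleMor g ∧ AlgSp.IsSurjectiveMor g) := by
  have E1 : Eventually D f₀ b₀ AlgSp.IsEtaleMor := by
    obtain ⟨i, φ, h⟩ := descend_locP @Etale good_etale hlimE S D hD hDa c hc i₀ X₀ Y₀ f₀ b₀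
      hXqc hYqc hYqs X Y f pY qY hY pX hX
      (Groth.Agent.Lib.Helper12.SrcLocal.locP_etale_of_isEtaleMor f hfe) hf₀
    refine ⟨i, φ, ?_⟩
    intro Xi Yi fi pYi qYi sqYi pXi sqXi
    have hYi : AlgSp.IsAlgSpace Yi :=
      Groth.Agent.S9874.isAlgSpace_of_isPullback (hD i₀).diag Y₀.property (hD i) sqYi
    exact Groth.Agent.S10554.isEtaleMor_of_locP hYi fi (h Xi Yi fi pYi qYi sqYi pXi sqXi)
  have E2 : Eventually D f₀ b₀ AlgSp.IsSurjectiveMor :=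
    descend_surj hlimS S D hD hDa c hc i₀ X₀ Y₀ f₀ b₀ hXqc hYqc hYqs X Y f pY qY hY pX hX hfs hf₀
  exact Eventually.and D hD f₀ b₀ bcs_isEtaleMor bcs_isSurjectiveMor E1 E2

include hlimS hlimE hD hDa hc hXqc hYqc hYqs hY hX in
/-- monomorphisms descend. -/
theorem descend_mono (hXqs : AlgSp.IsQuasiSeparatedSp X₀.obj) [Mono f]
    (hf₀ : AlgSp.LocP @LocallyOfFiniteType f₀) :
    Eventually D f₀ b₀ (fun _ _ g => Mono g) := by
  -- the fibre square of `f₀`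
  have hZ₀ : AlgSp.IsAlgSpace (pullback f₀ f₀) :=
    Groth.Agent.S9874.isAlgSpace_of_isPullback Y₀.property.diag X₀.property X₀.property
      (IsPullback.of_hasPullback f₀ f₀)
  let Z₀ : AlgSp.Space S := ⟨pullback f₀ f₀, hZ₀⟩
  have hZ₀qcqs : AlgSp.IsQuasiCompactSp Z₀.obj ∧ AlgSp.IsQuasiSeparatedSp Z₀.obj :=
    Groth.Agent.S9921.result (X := X₀) (Y := Y₀) (Z := X₀) (P := Z₀)
      (ObjectProperty.homMk f₀) (ObjectProperty.homMk f₀)
      (ObjectProperty.homMk (pullback.fst f₀ f₀)) (ObjectProperty.homMk (pullback.snd f₀ f₀))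
      (IsPullback.of_hasPullback f₀ f₀) ⟨hXqc, hXqs⟩ ⟨hYqc, hYqs⟩ ⟨hXqc, hXqs⟩
  have hΔ₀ : AlgSp.LocP @LocallyOfFinitePresentation (pullback.diagonal f₀) :=
    (Groth.Agent.S9960.result (X := X₀) (Y := Y₀) (ObjectProperty.homMk f₀) hf₀).1
  obtain ⟨pZ, sqZ, sqΔ⟩ := diag_squares f₀ b₀ (c.π.app i₀) pY qY hY pX f hX
  obtain ⟨i, φ, h⟩ := descend_etale_surj hlimS hlimE S D hD hDa c hc i₀ X₀ Z₀
    (pullback.diagonal f₀) ((pullback.snd f₀ f₀ ≫ f₀) ≫ b₀) hXqc hZ₀qcqs.1 hZ₀qcqs.2 X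
    (pullback f f) (pullback.diagonal f) pZ ((pullback.snd f f ≫ f) ≫ qY) sqZ pX sqΔ
    (isEtaleMor_of_isIso _) (isSurjectiveMor_of_isIso _) hΔ₀
  refine ⟨i, φ, ?_⟩
  intro Xi Yi fi pYi qYi sqYi pXi sqXi
  obtain ⟨pZi, sqZi, sqΔi⟩ := diag_squares f₀ b₀ (D.map φ) pYi qYi sqYi pXi fi sqXi
  obtain ⟨he, hs⟩ :=
    h Xi (pullback fi fi) (pullback.diagonal fi) pZi ((pullback.snd fi fi ≫ fi) ≫ qYi) sqZi pXi sqΔi
  have hYi : AlgSp.IsAlgSpace Yi :=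
    Groth.Agent.S9874.isAlgSpace_of_isPullback (hD i₀).diag Y₀.property (hD i) sqYi
  have hXi : AlgSp.IsAlgSpace Xi :=
    Groth.Agent.S9874.isAlgSpace_of_isPullback Y₀.property.diag X₀.property hYi sqXi
  have hZi : AlgSp.IsAlgSpace (pullback fi fi) :=
    Groth.Agent.S9874.isAlgSpace_of_isPullback hYi.diag hXi hXi (IsPullback.of_hasPullback fi fi)
  haveI : IsIso (pullback.diagonal fi) :=
    isIso_of_etale_surjective_mono hXi hZi (pullback.diagonal fi) he hs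
  exact (pullback.isIso_diagonal_iff fi).1 inferInstance

include hlimS hlimE hD hDa hc hXqc hYqc hYqs hY hX in
/-- isomorphisms descend. -/
theorem descend_iso (hXqs : AlgSp.IsQuasiSeparatedSp X₀.obj) [IsIso f]
    (hf₀ : AlgSp.LocP @LocallyOfFinitePresentation f₀) :
    Eventually D f₀ b₀ (fun _ _ g => IsIso g) := by
  have hf₀' : AlgSp.LocP @LocallyOfFiniteType f₀ := by
    intro U V a b h ha hb hc
    haveI : LocallyOfFinitePresentation h.left := hf₀ a b h ha hb hc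
    show LocallyOfFiniteType h.left
    infer_instance
  have E1 := descend_etale_surj hlimS hlimE S D hD hDa c hc i₀ X₀ Y₀ f₀ b₀ hXqc hYqc hYqs X Y f
    pY qY hY pX hX (isEtaleMor_of_isIso f) (isSurjectiveMor_of_isIso f) hf₀
  have E2 := descend_mono hlimS hlimE S D hD hDa c hc i₀ X₀ Y₀ f₀ b₀ hXqc hYqc hYqs X Y f
    pY qY hY pX hX hXqs hf₀'
  have hbcs : BCS (fun (_ _ : AlgSp.Sp S) g => AlgSp.IsEtaleMor g ∧ AlgSp.IsSurjectiveMor g) := by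
    intro X₁ Y₁ X₂ Y₂ hX₁ hY₁ hX₂ hY₂ a b a' b' sq ha
    exact ⟨bcs_isEtaleMor hX₁ hY₁ hX₂ hY₂ a b a' b' sq ha.1,
      bcs_isSurjectiveMor hX₁ hY₁ hX₂ hY₂ a b a' b' sq ha.2⟩
  obtain ⟨i, φ, h⟩ := Eventually.and D hD f₀ b₀ hbcs bcs_mono E1 E2
  refine ⟨i, φ, ?_⟩
  intro Xi Yi fi pYi qYi sqYi pXi sqXi
  obtain ⟨⟨he, hs⟩, hm⟩ := h Xi Yi fi pYi qYi sqYi pXi sqXi
  have hYi : AlgSp.IsAlgSpace Yi :=
    Groth.Agent.S9874.isAlgSpace_of_isPullback (hD i₀).diag Y₀.property (hD i) sqYi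
  have hXi : AlgSp.IsAlgSpace Xi :=
    Groth.Agent.S9874.isAlgSpace_of_isPullback Y₀.property.diag X₀.property hYi sqXi
  haveI : Mono fi := hm
  exact isIso_of_etale_surjective_mono hXi hYi fi he hs

end

end Groth.Agent.Lib.H5bLimDesc
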