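import Mathlib
import Groth.Agent.Lib.H5bLimDescE

/-!
# The limit-descent engine for algebraic spaces, with weaker hypotheses (helper5)

`descend_gen'` is `descend_gen` with the hypotheses "`X₀` quasi-compact, `Y₀` quasi-separated"
replaced by "`X₀ ×_{Y₀} V₀` is quasi-compact for every affine étale chart `V₀` of `Y₀`"; the base
scheme need not be quasi-separated.
-/

set_option autoImplicit false
set_option linter.style.haveILetI false
set_option linter.unusedVariables false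
set_option linter.unusedSectionVars false
universe u

open CategoryTheory CategoryTheory.Limits AlgebraicGeometry MorphismProperty
open AlgSp

namespace Groth.Agent.Lib.H5bLimDesc

open Groth.Agent.Lib.H5bLimSp Groth.Agent.Lib.Helper12.LocPCases

variable {S : Scheme.{u}}

theorem bcs_isEtaleMor' : BCS (AlgSp.IsEtaleMor (S := S)) := by
  intro X₁ Y₁ X₂ Y₂ hX₁ hY₁ hX₂ hY₂ a b a' b' sq ha
  exact Groth.Agent.S10209.isEtaleMor_of_isPullback hX₁ hY₂ sq.flip ha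

theorem bcs_isSurjectiveMor' : BCS (AlgSp.IsSurjectiveMor (S := S)) := by
  intro X₁ Y₁ X₂ Y₂ hX₁ hY₁ hX₂ hY₂ a b a' b' sq ha
  exact Groth.Agent.S9907.result (X := ⟨X₁, hX₁⟩) (Y := ⟨Y₁, hY₁⟩) (Y' := ⟨Y₂, hY₂⟩)
    (ObjectProperty.homMk a) (ObjectProperty.homMk b) b' a' sq ha

/-- A general engine: a predicate `Q` on morphisms of sheaves which can be read off on the charts
`U₀ ×_{V₀} W ⟶ W` through a property `P` of morphisms of schemes descends through limits. -/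
theorem descend_gen' (P : MorphismProperty Scheme.{u}) [P.IsStableUnderBaseChange]
    (hlim : SchemeDescendsAff P)
    (S : Scheme.{u}) (Q : MorphismProperty (AlgSp.Sp S))
    (hin : ∀ {X Y : AlgSp.Sp S} (f : X ⟶ Y), AlgSp.IsAlgSpace X → AlgSp.IsAlgSpace Y → Q f →
      ∀ {N W : Over S} (sndN : N ⟶ W) (b : (AlgSp.yon S).obj W ⟶ Y)
        (a' : (AlgSp.yon S).obj N ⟶ pullback f b), AlgSp.RepWith @Etale b →
        a' ≫ pullback.snd f b = (AlgSp.yon S).map sndN → AlgSp.RepWith @Surjective a' →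
        AlgSp.RepWith @Etale a' → P sndN.left)
    (hout : ∀ {X Y : AlgSp.Sp S} (f : X ⟶ Y), AlgSp.IsAlgSpace Y →
      ∀ {N W : Over S} (sndN : N ⟶ W) (a : (AlgSp.yon S).obj N ⟶ X)
        (b : (AlgSp.yon S).obj W ⟶ Y), AlgSp.RepWith @Etale a → AlgSp.RepWith @Surjective a →
        AlgSp.RepWith @Etale b → AlgSp.RepWith @Surjective b →
        a ≫ f = (AlgSp.yon S).map sndN ≫ b → P sndN.left → Q f)
    {I : Type u} [SmallCategory I] [IsCofiltered I]
    (D : I ⥤ AlgSp.Sp S) (hD : ∀ i, AlgSp.IsAlgSpace (D.obj i))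
    (hDa : ∀ (i j : I) (φ : i ⟶ j), AlgSp.IsAffineMor (D.map φ))
    (c : Cone D) (hc : IsLimit c) (i₀ : I)
    (X₀ Y₀ : AlgSp.Space S) (f₀ : X₀.obj ⟶ Y₀.obj) (b₀ : Y₀.obj ⟶ D.obj i₀)
    (hYqc : AlgSp.IsQuasiCompactSp Y₀.obj)
    (hqcV : ∀ (V₀ : Over S) (v₀ : (AlgSp.yon S).obj V₀ ⟶ Y₀.obj), IsAffine V₀.left →
      AlgSp.RepWith @Etale v₀ → AlgSp.IsQuasiCompactSp (pullback f₀ v₀))
    (X Y : AlgSp.Sp S) (f : X ⟶ Y) (pY : Y ⟶ Y₀.obj) (qY : Y ⟶ c.pt)
    (hY : IsPullback pY qY b₀ (c.π.app i₀)) (pX : X ⟶ X₀.obj) (hX : IsPullback pX f f₀ pY)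
    (hf : Q f) (hf₀ : AlgSp.LocP @LocallyOfFinitePresentation f₀) :
    ∃ (i : I) (φ : i ⟶ i₀), ∀ (Xi Yi : AlgSp.Sp S) (fi : Xi ⟶ Yi) (pYi : Yi ⟶ Y₀.obj)
      (qYi : Yi ⟶ D.obj i) (_ : IsPullback pYi qYi b₀ (D.map φ)) (pXi : Xi ⟶ X₀.obj)
      (_ : IsPullback pXi fi f₀ pYi), Q fi := by
  -- affine charts
  obtain ⟨V₀, v₀, hV₀, hv₀e, hv₀s⟩ := Groth.Agent.S10180.exists_affine_chart hYqc
  haveI : IsAffine V₀.left := hV₀
  have hX₀' : AlgSp.IsAlgSpace (pullback f₀ v₀) :=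
    Groth.Agent.S9874.isAlgSpace_of_isPullback Y₀.property.diag X₀.property
      (AlgSp.IsAlgSpace.yon_obj V₀) (IsPullback.of_hasPullback f₀ v₀)
  have hX₀'qc : AlgSp.IsQuasiCompactSp (pullback f₀ v₀) := hqcV V₀ v₀ hV₀ hv₀e
  obtain ⟨U₀, u₀, hU₀, hu₀e, hu₀s⟩ := Groth.Agent.S10180.exists_affine_chart hX₀'qc
  haveI : IsAffine U₀.left := hU₀
  obtain ⟨h₀, hh₀⟩ := (AlgSp.yon S).map_surjective (u₀ ≫ pullback.snd f₀ v₀)
  have hpr1 : AlgSp.RepWith @Etale (pullback.fst f₀ v₀) :=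
    MorphismProperty.of_isPullback (P := AlgSp.RepWith @Etale)
      (IsPullback.of_hasPullback f₀ v₀).flip hv₀e
  haveI hh₀lfp : LocallyOfFinitePresentation h₀.left :=
    hf₀ (u₀ ≫ pullback.fst f₀ v₀) v₀ h₀ ((AlgSp.RepWith @Etale).comp_mem _ _ hu₀e hpr1) hv₀e
      (by rw [Category.assoc, pullback.condition, ← Category.assoc, ← hh₀])
  -- the system of base changes of `V₀`
  have hex : ∀ k : Over i₀, ∃ (W : Over S) (w : W ⟶ V₀)
      (fst : (AlgSp.yon S).obj W ⟶ D.obj k.left),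
      IsPullback fst ((AlgSp.yon S).map w) (D.map k.hom) (v₀ ≫ b₀) ∧ IsAffine W.left :=
    fun k => hDa _ _ k.hom hV₀ (v₀ ≫ b₀)
  choose W w fst sqk hW using hex
  let Pb : PbSystem D i₀ (v₀ ≫ b₀) := ⟨W, w, fst, sqk⟩
  obtain ⟨L, ⟨hL⟩, hLaff⟩ := exists_limit_affine Pb.functor hW
  obtain ⟨fstL, iW, hpb, hiW, hfstL⟩ := Pb.isPullback_of_isLimit hc L hL
  haveI : IsConnected (Over i₀) := IsCofiltered.isConnected (Over i₀)
  have hLs : IsLimit ((Over.forget S).mapCone L) := isLimitOfPreserves _ hL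
  let k₀ : Over i₀ := Over.mk (𝟙 i₀)
  -- `w k₀` is an isomorphism
  haveI : IsIso (D.map k₀.hom) := by
    show IsIso (D.map (𝟙 i₀))
    rw [D.map_id]; infer_instance
  haveI : IsIso ((AlgSp.yon S).map (w k₀)) := (sqk k₀).isIso_snd_of_isIso
  haveI : IsIso (w k₀) := isIso_of_reflects_iso (w k₀) (AlgSp.yon S)
  haveI hwl : IsIso (w k₀).left := by
    have : IsIso ((Over.forget S).map (w k₀)) := inferInstance
    exact this
  -- the spaces `X`, `Y` are algebraic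
  have hB : AlgSp.IsAlgSpace c.pt := (Groth.Agent.S10004.result S D hD hDa c hc).1
  have hYalg : AlgSp.IsAlgSpace Y :=
    Groth.Agent.S9874.isAlgSpace_of_isPullback (hD i₀).diag Y₀.property hB hY
  have hXalg : AlgSp.IsAlgSpace X :=
    Groth.Agent.S9874.isAlgSpace_of_isPullback Y₀.property.diag X₀.property hYalg hX
  -- the chart of `f` over the limit
  obtain ⟨b, a', hbe, ha'e, ha'2, ha's⟩ := chart_factor f₀ b₀ (c.π.app i₀) pY qY hY pX f hX v₀
    hv₀e u₀ hu₀e h₀ hh₀ iW fstL hpb (pullback.fst h₀ iW) (pullback.snd h₀ iW)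
    (IsPullback.of_hasPullback h₀ iW)
  have hPL : P (pullback.snd h₀ iW).left :=
    hin f hXalg hYalg hf (pullback.snd h₀ iW) b a' hbe ha'2 (ha's hu₀s) ha'e
  -- scheme-level descent
  have hXs : IsPullback (pullback.fst h₀ iW).left (pullback.snd h₀ iW).left h₀.left iW.left :=
    (IsPullback.of_hasPullback h₀ iW).map (Over.forget S)
  have htr : ∀ {k k' : Over i₀} (φ : k ⟶ k'),
      (Pb.functor ⋙ Over.forget S).map φ ≫ (w k').left = (w k).left := by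
    intro k k' φ
    show (Pb.trans φ).left ≫ (w k').left = (w k).left
    rw [← Over.comp_left]; exact congrArg (fun m => m.left) (Pb.trans_w φ)
  obtain ⟨k, φ', hk⟩ := scheme_step_aff P hlim (Pb.functor ⋙ Over.forget S) hW
    ((Over.forget S).mapCone L) hLs k₀ h₀.left (fun k => (w k).left) htr hwl iW.left
    (fun k => by
      show (L.π.app k).left ≫ (w k).left = iW.left
      rw [← Over.comp_left, hiW k])
    (pullback.fst h₀ iW).left (pullback.snd h₀ iW).left hXs hPL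
  have hsqk : IsPullback (pullback.fst h₀ (w k)).left (pullback.snd h₀ (w k)).left h₀.left
      (w k).left := (IsPullback.of_hasPullback h₀ (w k)).map (Over.forget S)
  have hPk : P (pullback.snd h₀ (w k)).left := hk _ _ hsqk
  -- conclusion
  refine ⟨k.left, k.hom, ?_⟩
  intro Xi Yi fi pYi qYi sqYi pXi sqXi
  obtain ⟨a'', b', ha'e', hb'e, ha'b', hb's, ha's'⟩ := chart_of_pb f₀ b₀ (D.map k.hom) pYi qYi sqYi
    pXi fi sqXi v₀ hv₀e u₀ hu₀e h₀ hh₀ (w k) (fst k) (sqk k) (pullback.fst h₀ (w k))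
    (pullback.snd h₀ (w k)) (IsPullback.of_hasPullback h₀ (w k))
  have hYi : AlgSp.IsAlgSpace Yi :=
    Groth.Agent.S9874.isAlgSpace_of_isPullback (hD i₀).diag Y₀.property (hD k.left) sqYi
  exact hout fi hYi (pullback.snd h₀ (w k)) a'' b' ha'e' (ha's' hv₀s hu₀s) hb'e (hb's hv₀s) ha'b' hPk


theorem schemeDescendsAff_of_schemeDescends {P : MorphismProperty Scheme.{u}}
    (h : SchemeDescends P) : SchemeDescendsAff P := by
  intro J _ _ D' c' hc' _ j₀ _ X₀' Y₀' f₀' g₀' _ _ _ _ X' Y' f' g' qY' qX' hY' hX' hPf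
  exact h D' c' hc' j₀ f₀' g₀' f' g' qY' qX' hY' hX' hPf

section

variable (hlimS : SchemeDescendsAff (@Surjective : MorphismProperty Scheme.{u}))
  (hlimE : SchemeDescends (@Etale : MorphismProperty Scheme.{u}))
  (S : Scheme.{u}) {I : Type u} [SmallCategory I] [IsCofiltered I]
  (D : I ⥤ AlgSp.Sp S) (hD : ∀ i, AlgSp.IsAlgSpace (D.obj i))
  (hDa : ∀ (i j : I) (φ : i ⟶ j), AlgSp.IsAffineMor (D.map φ))
  (c : Cone D) (hc : IsLimit c) (i₀ : I)
  (X₀ Y₀ : AlgSp.Space S) (f₀ : X₀.obj ⟶ Y₀.obj) (b₀ : Y₀.obj ⟶ D.obj i₀)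
  (hYqc : AlgSp.IsQuasiCompactSp Y₀.obj)
  (hqcV : ∀ (V₀ : Over S) (v₀ : (AlgSp.yon S).obj V₀ ⟶ Y₀.obj), IsAffine V₀.left →
    AlgSp.RepWith @Etale v₀ → AlgSp.IsQuasiCompactSp (pullback f₀ v₀))
  (X Y : AlgSp.Sp S) (f : X ⟶ Y) (pY : Y ⟶ Y₀.obj) (qY : Y ⟶ c.pt)
  (hY : IsPullback pY qY b₀ (c.π.app i₀)) (pX : X ⟶ X₀.obj) (hX : IsPullback pX f f₀ pY)

include hlimS hD hDa hc hYqc hqcV hY hX in
theorem descend_surj' (hf : AlgSp.IsSurjectiveMor f)
    (hf₀ : AlgSp.LocP @LocallyOfFinitePresentation f₀) :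
    Eventually D f₀ b₀ AlgSp.IsSurjectiveMor := by
  refine descend_gen' (@Surjective) hlimS S AlgSp.IsSurjectiveMor ?_ ?_ D hD hDa c hc i₀ X₀ Y₀ f₀ b₀
    hYqc hqcV X Y f pY qY hY pX hX hf hf₀
  · intro X Y f hXa hYa hf N W sndN b a' hbe ha'2 ha's ha'e
    have h1 : AlgSp.IsSurjectiveMor (pullback.snd f b) :=
      Groth.Agent.S9907.result (X := ⟨X, hXa⟩) (Y := ⟨Y, hYa⟩)
        (Y' := ⟨(AlgSp.yon S).obj W, AlgSp.IsAlgSpace.yon_obj W⟩)
        (ObjectProperty.homMk f) (ObjectProperty.homMk b) (pullback.fst f b) (pullback.snd f b)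
        (IsPullback.of_hasPullback f b) hf
    have h2 : AlgSp.IsSurjectiveMor (a' ≫ pullback.snd f b) :=
      isSurjectiveMor_comp _ _ (isSurjectiveMor_of_repWith a' ha's) h1
    rw [ha'2] at h2
    exact ⟨Groth.Agent.Lib.Helper15SmLoc.surjective_of_isSurjectiveMor_yon_map sndN h2⟩
  · intro X Y f hYa N W sndN a b hae has hbe hbs hab hP
    have h1 : AlgSp.IsSurjectiveMor ((AlgSp.yon S).map sndN ≫ b) :=
      isSurjectiveMor_comp _ _ (isSurjectiveMor_yon_map sndN hP.surj)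
        (isSurjectiveMor_of_repWith b hbs)
    rw [← hab] at h1
    exact isSurjectiveMor_of_comp a f h1

include hlimE hD hDa hc hYqc hqcV hY hX in
theorem descend_etale' (hf : AlgSp.IsEtaleMor f)
    (hf₀ : AlgSp.LocP @LocallyOfFinitePresentation f₀) :
    Eventually D f₀ b₀ AlgSp.IsEtaleMor := by
  refine descend_gen' (@Etale) (schemeDescendsAff_of_schemeDescends hlimE) S AlgSp.IsEtaleMor ?_ ?_
    D hD hDa c hc i₀ X₀ Y₀ f₀ b₀ hYqc hqcV X Y f pY qY hY pX hX hf hf₀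
  · intro X Y f hXa hYa hf N W sndN b a' hbe ha'2 ha's ha'e
    have h1 : AlgSp.IsEtaleMor (pullback.snd f b) :=
      Groth.Agent.S10209.isEtaleMor_of_isPullback hXa (AlgSp.IsAlgSpace.yon_obj W)
        (IsPullback.of_hasPullback f b).flip hf
    have h2 : AlgSp.RepWith @Etale (a' ≫ pullback.snd f b) := h1 a' ha'e
    rw [ha'2] at h2
    exact (AlgSp.repWith_yon_map_iff @Etale sndN).1 h2
  · intro X Y f hYa N W sndN a b hae has hbe hbs hab hP
    refine Groth.Agent.S10554.isEtaleMor_of_locP hYa f ?_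
    exact Groth.Agent.S9947.locP_of_chart @Etale good_etale.hEt good_etale.hsrc good_etale.hcancel
      hYa f a b sndN hae has hbe hab hP

include hlimS hlimE hD hDa hc hYqc hqcV hY hX in
theorem descend_etale_surj' (hfe : AlgSp.IsEtaleMor f) (hfs : AlgSp.IsSurjectiveMor f)
    (hf₀ : AlgSp.LocP @LocallyOfFinitePresentation f₀) :
    Eventually D f₀ b₀ (fun _ _ g => AlgSp.IsEtaleMor g ∧ AlgSp.IsSurjectiveMor g) :=
  Eventually.and D hD f₀ b₀ bcs_isEtaleMor' bcs_isSurjectiveMor'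
    (descend_etale' hlimE S D hD hDa c hc i₀ X₀ Y₀ f₀ b₀ hYqc hqcV X Y f pY qY hY pX hX hfe hf₀)
    (descend_surj' hlimS S D hD hDa c hc i₀ X₀ Y₀ f₀ b₀ hYqc hqcV X Y f pY qY hY pX hX hfs hf₀)

end

end Groth.Agent.Lib.H5bLimDesc
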