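import Mathlib
import Groth.Agent.Lib.H5bLimDescG
import Groth.Agent.Lib.H5bBootC
import Groth.Agent.S10505
import Groth.Agent.S10177

/-!
# Descending representable properties of representable morphisms of algebraic spaces through a
cofiltered limit (helper5)
-/

set_option autoImplicit false
set_option linter.style.haveILetI false
set_option linter.unusedVariables false
set_option linter.unusedSectionVars false
universe u

open CategoryTheory CategoryTheory.Limits AlgebraicGeometry MorphismProperty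
open AlgSp

namespace Groth.Agent.Lib.H5bLimDesc

open Groth.Agent.Lib.H5bLimSp Groth.Agent.Lib.Helper12.LocPCases

variable {S : Scheme.{u}}

/-- a single étale surjective chart is an fpqc covering. -/
lemma isFpqcCover_chart {X : AlgSp.Sp S} (hX : AlgSp.IsAlgSpace X) {W : Over S}
    (g : (AlgSp.yon S).obj W ⟶ X) (hge : AlgSp.RepWith @Etale g)
    (hgs : AlgSp.RepWith @Surjective g) :
    AlgSp.IsFpqcCover (fun _ : PUnit.{u + 1} => (AlgSp.yon S).obj W) (fun _ => g) := by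
  refine Groth.Agent.S10505.result (X := ⟨X, hX⟩)
    (fun _ : PUnit.{u + 1} => ⟨(AlgSp.yon S).obj W, AlgSp.IsAlgSpace.yon_obj W⟩)
    (fun _ => ObjectProperty.homMk g) ⟨fun _ => ⟨?_, ?_⟩, fun x => ?_⟩
  · exact Groth.Agent.Lib.H5bBoot.locP_of_repWith good_flat _
      (⟨hge.1, fun _ _ ξ fst snd sq => by
        haveI : Etale snd.left := hge.2 ξ fst snd sq
        exact (inferInstance : Flat snd.left)⟩)
  · exact Groth.Agent.Lib.H5bBoot.locP_of_repWith good_lfp _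
      (⟨hge.1, fun _ _ ξ fst snd sq => by
        haveI : Etale snd.left := hge.2 ξ fst snd sq
        exact (inferInstance : LocallyOfFinitePresentation snd.left)⟩)
  · obtain ⟨v, hv⟩ := Groth.Agent.S10177.surjective_ofPt g hgs x
    refine ⟨PUnit.unit, AlgSp.Points.ofScheme W v, ?_⟩
    rw [← hv]
    exact (AlgSp.Points.ofPt_eq_map_ofScheme g v).symm

/-- the cartesian chart of a double base change of a representable morphism. -/
theorem chart_cart {X₀ Y₀ B₀ B X Y : AlgSp.Sp S} (f₀ : X₀ ⟶ Y₀) (b₀ : Y₀ ⟶ B₀) (π : B ⟶ B₀)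
    (pY : Y ⟶ Y₀) (qY : Y ⟶ B) (hY : IsPullback pY qY b₀ π) (pX : X ⟶ X₀) (f : X ⟶ Y)
    (hX : IsPullback pX f f₀ pY)
    {V₀ T₀ W : Over S} (v₀ : (AlgSp.yon S).obj V₀ ⟶ Y₀) (hv₀ : AlgSp.RepWith @Etale v₀)
    (h₀ : T₀ ⟶ V₀) (fstT : (AlgSp.yon S).obj T₀ ⟶ X₀)
    (sqT : IsPullback fstT ((AlgSp.yon S).map h₀) f₀ v₀)
    (w : W ⟶ V₀) (fstW : (AlgSp.yon S).obj W ⟶ B)
    (sqW : IsPullback fstW ((AlgSp.yon S).map w) π (v₀ ≫ b₀))
    {N : Over S} (fstN : N ⟶ T₀) (sndN : N ⟶ W) (sqN : IsPullback fstN sndN h₀ w) :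
    ∃ (a : (AlgSp.yon S).obj N ⟶ X) (b : (AlgSp.yon S).obj W ⟶ Y),
      AlgSp.RepWith @Etale b ∧ (AlgSp.RepWith @Surjective v₀ → AlgSp.RepWith @Surjective b) ∧
      IsPullback a ((AlgSp.yon S).map sndN) f b := by
  have hwb : ((AlgSp.yon S).map w ≫ v₀) ≫ b₀ = fstW ≫ π := by
    rw [Category.assoc]; exact sqW.w.symm
  obtain ⟨b, hb⟩ : ∃ b : (AlgSp.yon S).obj W ⟶ Y, b = hY.lift _ _ hwb := ⟨_, rfl⟩
  have hb1 : b ≫ pY = (AlgSp.yon S).map w ≫ v₀ := by rw [hb, hY.lift_fst]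
  have hb2 : b ≫ qY = fstW := by rw [hb, hY.lift_snd]
  have sqb : IsPullback b ((AlgSp.yon S).map w) pY v₀ := by
    refine IsPullback.of_right ?_ hb1 hY.flip
    rw [hb2]
    exact sqW
  have big : IsPullback ((AlgSp.yon S).map fstN ≫ fstT) ((AlgSp.yon S).map sndN) f₀
      ((AlgSp.yon S).map w ≫ v₀) := (sqN.map (AlgSp.yon S)).paste_horiz sqT
  have hcomm : ((AlgSp.yon S).map fstN ≫ fstT) ≫ f₀ = ((AlgSp.yon S).map sndN ≫ b) ≫ pY := by
    rw [Category.assoc ((AlgSp.yon S).map sndN), hb1]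
    exact big.w
  obtain ⟨a, ha⟩ : ∃ a : (AlgSp.yon S).obj N ⟶ X, a = hX.lift _ _ hcomm := ⟨_, rfl⟩
  have ha1 : a ≫ pX = (AlgSp.yon S).map fstN ≫ fstT := by rw [ha, hX.lift_fst]
  have ha2 : a ≫ f = (AlgSp.yon S).map sndN ≫ b := by rw [ha, hX.lift_snd]
  refine ⟨a, b, MorphismProperty.of_isPullback (P := AlgSp.RepWith @Etale) sqb.flip hv₀,
    fun hv₀s => MorphismProperty.of_isPullback (P := AlgSp.RepWith @Surjective) sqb.flip hv₀s, ?_⟩
  refine IsPullback.of_right ?_ ha2 hX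
  rw [ha1, hb1]
  exact big

/-- the scheme-level descent statement for a property `P`, with a finiteness condition `F` on the
morphism and quasi-compact quasi-separated source. -/
def SchemeDescendsF (P F : MorphismProperty Scheme.{u}) : Prop :=
  ∀ {J : Type u} [SmallCategory J] [IsCofiltered J]
    (D : J ⥤ Scheme.{u}) (c : Limits.Cone D) (hc : Limits.IsLimit c)
    [∀ (i j : J) (f : i ⟶ j), IsAffineHom (D.map f)] (i₀ : J) [IsAffine (D.obj i₀)]
    {X₀ Y₀ : Scheme.{u}} (f₀ : X₀ ⟶ Y₀) (g₀ : Y₀ ⟶ D.obj i₀)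
    [CompactSpace X₀] [QuasiSeparatedSpace X₀] [IsAffine Y₀] [IsIso g₀], F f₀ →
    ∀ {X Y : Scheme.{u}} (f : X ⟶ Y) (g : Y ⟶ c.pt) (qY : Y ⟶ Y₀) (qX : X ⟶ X₀)
    (hY : IsPullback qY g g₀ (c.π.app i₀)) (hX : IsPullback qX f f₀ qY), P f →
    ∃ (i : J) (φ : i ⟶ i₀) (Xi Yi : Scheme.{u}) (fi : Xi ⟶ Yi) (gi : Yi ⟶ D.obj i) (pY : Yi ⟶ Y₀)
      (pX : Xi ⟶ X₀), IsPullback pY gi g₀ (D.map φ) ∧ IsPullback pX fi f₀ pY ∧ P fi

/-- the scheme-level step, quasi-compact quasi-separated source. -/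
theorem scheme_step_F (P F : MorphismProperty Scheme.{u}) [P.IsStableUnderBaseChange]
    (hlim : SchemeDescendsF P F)
    {J : Type u} [SmallCategory J] [IsCofiltered J] (Dsch : J ⥤ Scheme.{u})
    (haff : ∀ k, IsAffine (Dsch.obj k)) (cL : Cone Dsch) (hcL : IsLimit cL) (k₀ : J)
    {U₀ V₀ : Scheme.{u}} [CompactSpace U₀] [QuasiSeparatedSpace U₀] [IsAffine V₀] (h₀ : U₀ ⟶ V₀)
    (hF : F h₀)
    (wk : ∀ k, Dsch.obj k ⟶ V₀) (hwk : ∀ {k k' : J} (φ : k ⟶ k'), Dsch.map φ ≫ wk k' = wk k)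
    (hiso : IsIso (wk k₀)) (iW : cL.pt ⟶ V₀) (hiW : ∀ k, cL.π.app k ≫ wk k = iW)
    {ZL : Scheme.{u}} (fstL : ZL ⟶ U₀) (sndL : ZL ⟶ cL.pt) (hZL : IsPullback fstL sndL h₀ iW)
    (hPL : P sndL) :
    ∃ (k : J) (φ : k ⟶ k₀), ∀ {Z : Scheme.{u}} (a : Z ⟶ U₀) (b : Z ⟶ Dsch.obj k),
      IsPullback a b h₀ (wk k) → P b := by
  haveI := haff
  haveI := hiso
  haveI : ∀ (k k' : J) (ψ : k ⟶ k'), IsAffineHom (Dsch.map ψ) := fun k k' ψ => inferInstance
  have hYs : IsPullback iW (𝟙 cL.pt) (inv (wk k₀)) (cL.π.app k₀) := by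
    refine IsPullback.of_vert_isIso ⟨?_⟩
    rw [Category.id_comp, ← hiW k₀, Category.assoc, IsIso.hom_inv_id, Category.comp_id]
  obtain ⟨k, φ', Xj, Yj, fj, gj, pYj, pXj, sq1, sq2, hPfj⟩ :=
    hlim Dsch cL hcL k₀ h₀ (inv (wk k₀)) hF sndL (𝟙 cL.pt) iW fstL hYs hZL hPL
  haveI : IsIso gj := sq1.isIso_snd_of_isIso
  have hpYj : pYj = gj ≫ wk k := by
    have h1 : pYj ≫ inv (wk k₀) = gj ≫ Dsch.map φ' := sq1.w
    calc pYj = pYj ≫ inv (wk k₀) ≫ wk k₀ := by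
          rw [IsIso.inv_hom_id, Category.comp_id]
      _ = (pYj ≫ inv (wk k₀)) ≫ wk k₀ := (Category.assoc _ _ _).symm
      _ = (gj ≫ Dsch.map φ') ≫ wk k₀ := by rw [h1]
      _ = gj ≫ Dsch.map φ' ≫ wk k₀ := Category.assoc _ _ _
      _ = gj ≫ wk k := by rw [hwk φ']
  have he : wk k = inv gj ≫ pYj := by rw [hpYj, IsIso.inv_hom_id_assoc]
  refine ⟨k, φ', ?_⟩
  intro Z a b hsqk
  have hψw : a ≫ h₀ = (b ≫ inv gj) ≫ pYj := by
    rw [Category.assoc, ← he, hsqk.w]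
  have hleft : IsPullback (sq2.lift _ _ hψw) b fj (inv gj) := by
    refine IsPullback.of_right ?_ (sq2.lift_snd _ _ _) sq2
    rw [sq2.lift_fst, ← he]
    exact hsqk
  exact MorphismProperty.of_isPullback (P := P) hleft hPfj


/-- Descending `RepWith P` for a representable morphism `f₀`. -/
theorem descend_repWith (P F : MorphismProperty Scheme.{u}) [P.IsStableUnderBaseChange]
    (hlim : SchemeDescendsF P F)
    (S : Scheme.{u})
    (hloc : AlgSp.IsLocalOnBase (AlgSp.IsFpqcCover (S := S)) (AlgSp.RepWith P))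
    {I : Type u} [SmallCategory I] [IsCofiltered I]
    (D : I ⥤ AlgSp.Sp S) (hD : ∀ i, AlgSp.IsAlgSpace (D.obj i))
    (hDa : ∀ (i j : I) (φ : i ⟶ j), AlgSp.IsAffineMor (D.map φ))
    (c : Cone D) (hc : IsLimit c) (i₀ : I)
    (X₀ Y₀ : AlgSp.Space S) (f₀ : X₀.obj ⟶ Y₀.obj) (b₀ : Y₀.obj ⟶ D.obj i₀)
    (hYqc : AlgSp.IsQuasiCompactSp Y₀.obj)
    (hF : AlgSp.RepWith F f₀) (hqc : AlgSp.RepWith @QuasiCompact f₀)
    (hqs : AlgSp.RepWith @QuasiSeparated f₀)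
    (X Y : AlgSp.Sp S) (f : X ⟶ Y) (pY : Y ⟶ Y₀.obj) (qY : Y ⟶ c.pt)
    (hY : IsPullback pY qY b₀ (c.π.app i₀)) (pX : X ⟶ X₀.obj) (hX : IsPullback pX f f₀ pY)
    (hf : AlgSp.RepWith P f) :
    Eventually D f₀ b₀ (AlgSp.RepWith P) := by
  -- charts
  obtain ⟨V₀, v₀, hV₀, hv₀e, hv₀s⟩ := Groth.Agent.S10180.exists_affine_chart hYqc
  haveI : IsAffine V₀.left := hV₀
  obtain ⟨T₀, h₀, fstT, sqT⟩ := hF.1 v₀
  have hFh₀ : F h₀.left := hF.2 v₀ fstT h₀ sqT
  haveI : QuasiCompact h₀.left := hqc.2 v₀ fstT h₀ sqT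
  haveI : QuasiSeparated h₀.left := hqs.2 v₀ fstT h₀ sqT
  haveI : CompactSpace T₀.left := QuasiCompact.compactSpace_of_compactSpace h₀.left
  haveI : QuasiSeparatedSpace T₀.left := quasiSeparatedSpace_of_quasiSeparated h₀.left
  -- the system of base changes of `V₀`
  have hex : ∀ k : Over i₀, ∃ (W : Over S) (w : W ⟶ V₀)
      (fst : (AlgSp.yon S).obj W ⟶ D.obj k.left),
      IsPullback fst ((AlgSp.yon S).map w) (D.map k.hom) (v₀ ≫ b₀) ∧ IsAffine W.left :=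
    fun k => hDa _ _ k.hom hV₀ (v₀ ≫ b₀)
  choose W w fst sqk hW using hex
  let Pb : PbSystem D i₀ (v₀ ≫ b₀) := ⟨W, w, fst, sqk⟩
  obtain ⟨L, ⟨hL⟩, hLaff⟩ := exists_limit_affine Pb.functor hW
  obtain ⟨fstL, iW, hpb, hiW, hfstL⟩ := Pb.isPullback_of_isLimit hc L hL
  haveI : IsConnected (Over i₀) := IsCofiltered.isConnected (Over i₀)
  have hLs : IsLimit ((Over.forget S).mapCone L) := isLimitOfPreserves _ hL
  let k₀ : Over i₀ := Over.mk (𝟙 i₀)
  haveI : IsIso (D.map k₀.hom) := by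
    show IsIso (D.map (𝟙 i₀))
    rw [D.map_id]; infer_instance
  haveI : IsIso ((AlgSp.yon S).map (w k₀)) := (sqk k₀).isIso_snd_of_isIso
  haveI : IsIso (w k₀) := isIso_of_reflects_iso (w k₀) (AlgSp.yon S)
  haveI hwl : IsIso (w k₀).left := by
    have : IsIso ((Over.forget S).map (w k₀)) := inferInstance
    exact this
  -- the chart of `f` over the limit
  obtain ⟨a, b, hbe, -, sqa⟩ := chart_cart f₀ b₀ (c.π.app i₀) pY qY hY pX f hX v₀ hv₀e h₀ fstT sqT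
    iW fstL hpb (pullback.fst h₀ iW) (pullback.snd h₀ iW) (IsPullback.of_hasPullback h₀ iW)
  have hPL : P (pullback.snd h₀ iW).left := hf.2 b a (pullback.snd h₀ iW) sqa
  -- scheme-level descent
  have hXs : IsPullback (pullback.fst h₀ iW).left (pullback.snd h₀ iW).left h₀.left iW.left :=
    (IsPullback.of_hasPullback h₀ iW).map (Over.forget S)
  have htr : ∀ {k k' : Over i₀} (φ : k ⟶ k'),
      (Pb.functor ⋙ Over.forget S).map φ ≫ (w k').left = (w k).left := by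
    intro k k' φ
    show (Pb.trans φ).left ≫ (w k').left = (w k).left
    rw [← Over.comp_left]; exact congrArg (fun m => m.left) (Pb.trans_w φ)
  obtain ⟨k, φ', hk⟩ := scheme_step_F P F hlim (Pb.functor ⋙ Over.forget S) hW
    ((Over.forget S).mapCone L) hLs k₀ h₀.left hFh₀ (fun k => (w k).left) htr hwl iW.left
    (fun k => by
      show (L.π.app k).left ≫ (w k).left = iW.left
      rw [← Over.comp_left, hiW k])
    (pullback.fst h₀ iW).left (pullback.snd h₀ iW).left hXs hPL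
  have hsqk : IsPullback (pullback.fst h₀ (w k)).left (pullback.snd h₀ (w k)).left h₀.left
      (w k).left := (IsPullback.of_hasPullback h₀ (w k)).map (Over.forget S)
  have hPk : P (pullback.snd h₀ (w k)).left := hk _ _ hsqk
  -- conclusion
  refine ⟨k.left, k.hom, ?_⟩
  intro Xi Yi fi pYi qYi sqYi pXi sqXi
  obtain ⟨a', b', hb'e, hb's, sqa'⟩ := chart_cart f₀ b₀ (D.map k.hom) pYi qYi sqYi pXi fi sqXi v₀
    hv₀e h₀ fstT sqT (w k) (fst k) (sqk k) (pullback.fst h₀ (w k)) (pullback.snd h₀ (w k))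
    (IsPullback.of_hasPullback h₀ (w k))
  have hYi : AlgSp.IsAlgSpace Yi :=
    Groth.Agent.S9874.isAlgSpace_of_isPullback (hD i₀).diag Y₀.property (hD k.left) sqYi
  have hXi : AlgSp.IsAlgSpace Xi :=
    Groth.Agent.S9874.isAlgSpace_of_isPullback Y₀.property.diag X₀.property hYi sqXi
  have hcov := isFpqcCover_chart hYi b' hb'e (hb's hv₀s)
  refine (hloc (fun _ : PUnit.{u + 1} => (AlgSp.yon S).obj (W k)) (fun _ => b') hYi
    (fun _ => AlgSp.IsAlgSpace.yon_obj _) hcov fi hXi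
    (fun _ => (AlgSp.yon S).obj (pullback h₀ (w k)))
    (fun _ => (AlgSp.yon S).map (pullback.snd h₀ (w k))) (fun _ => a')
    (fun _ => AlgSp.IsAlgSpace.yon_obj _) (fun _ => sqa')).2 ?_
  intro _
  exact (AlgSp.repWith_yon_map_iff P (pullback.snd h₀ (w k))).2 hPk

end Groth.Agent.Lib.H5bLimDesc
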