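import Mathlib
import Groth.Agent.Lib.H5bLimDescH

/-!
# Descending representable properties through a cofiltered limit, with a given chart (helper5)
-/

set_option autoImplicit false
set_option linter.style.haveILetI false
set_option linter.unusedVariables false
set_option linter.unusedSectionVars false
universe v u

open CategoryTheory CategoryTheory.Limits AlgebraicGeometry MorphismProperty
open AlgSp

namespace Groth.Agent.Lib.H5bLimDesc

open Groth.Agent.Lib.H5bLimSp Groth.Agent.Lib.Helper12.LocPCases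

/-- a double base change along `π = π₁ ≫ m` is a double base change along `π₁` of the double base
change along `m`. -/
theorem refactor {C : Type u} [Category.{v} C] [HasPullbacks C]
    {X₀ Y₀ B₀ B₁ B X Y : C} (f₀ : X₀ ⟶ Y₀) (b₀ : Y₀ ⟶ B₀) (m : B₁ ⟶ B₀) (π₁ : B ⟶ B₁) (π : B ⟶ B₀)
    (hπ : π₁ ≫ m = π) (pY : Y ⟶ Y₀) (qY : Y ⟶ B) (hY : IsPullback pY qY b₀ π) (pX : X ⟶ X₀)
    (f : X ⟶ Y) (hX : IsPullback pX f f₀ pY) :
    ∃ (pY' : Y ⟶ pullback b₀ m) (pX' : X ⟶ pullback f₀ (pullback.fst b₀ m)),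
      IsPullback pY' qY (pullback.snd b₀ m) π₁ ∧
      IsPullback pX' f (pullback.snd f₀ (pullback.fst b₀ m)) pY' := by
  have hw : pY ≫ b₀ = (qY ≫ π₁) ≫ m := by rw [Category.assoc, hπ]; exact hY.w
  obtain ⟨pY', hpY'⟩ : ∃ pY' : Y ⟶ pullback b₀ m, pY' = pullback.lift _ _ hw := ⟨_, rfl⟩
  have h1 : pY' ≫ pullback.fst b₀ m = pY := by rw [hpY', pullback.lift_fst]
  have h2 : pY' ≫ pullback.snd b₀ m = qY ≫ π₁ := by rw [hpY', pullback.lift_snd]
  have sq1 : IsPullback pY' qY (pullback.snd b₀ m) π₁ := by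
    refine IsPullback.of_right ?_ h2 (IsPullback.of_hasPullback b₀ m)
    rw [h1, hπ]
    exact hY
  have hw2 : pX ≫ f₀ = (f ≫ pY') ≫ pullback.fst b₀ m := by
    rw [Category.assoc, h1]; exact hX.w
  obtain ⟨pX', hpX'⟩ : ∃ pX' : X ⟶ pullback f₀ (pullback.fst b₀ m),
      pX' = pullback.lift _ _ hw2 := ⟨_, rfl⟩
  have h3 : pX' ≫ pullback.fst f₀ (pullback.fst b₀ m) = pX := by rw [hpX', pullback.lift_fst]
  have h4 : pX' ≫ pullback.snd f₀ (pullback.fst b₀ m) = f ≫ pY' := by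
    rw [hpX', pullback.lift_snd]
  refine ⟨pY', pX', sq1, ?_⟩
  refine IsPullback.of_right ?_ h4 (IsPullback.of_hasPullback f₀ (pullback.fst b₀ m))
  rw [h3, h1]
  exact hX

variable {S : Scheme.{u}}

/-- Descending `RepWith P`, given a scheme chart of `f₀`. -/
theorem descend_repWith_chart (P F : MorphismProperty Scheme.{u}) [P.IsStableUnderBaseChange]
    (hlim : SchemeDescendsF P F)
    (S : Scheme.{u})
    (hloc : AlgSp.IsLocalOnBase (AlgSp.IsFpqcCover (S := S)) (AlgSp.RepWith P))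
    {I : Type u} [SmallCategory I] [IsCofiltered I]
    (D : I ⥤ AlgSp.Sp S) (hD : ∀ i, AlgSp.IsAlgSpace (D.obj i))
    (hDa : ∀ (i j : I) (φ : i ⟶ j), AlgSp.IsAffineMor (D.map φ))
    (c : Cone D) (hc : IsLimit c) (i₀ : I)
    (X₀ Y₀ : AlgSp.Space S) (f₀ : X₀.obj ⟶ Y₀.obj) (b₀ : Y₀.obj ⟶ D.obj i₀)
    {V₀ T₀ : Over S} (hV₀ : IsAffine V₀.left) (v₀ : (AlgSp.yon S).obj V₀ ⟶ Y₀.obj)
    (hv₀e : AlgSp.RepWith @Etale v₀) (hv₀s : AlgSp.RepWith @Surjective v₀)
    (h₀ : T₀ ⟶ V₀) (fstT : (AlgSp.yon S).obj T₀ ⟶ X₀.obj)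
    (sqT : IsPullback fstT ((AlgSp.yon S).map h₀) f₀ v₀) (hFh₀ : F h₀.left)
    (hTc : CompactSpace T₀.left) (hTqs : QuasiSeparatedSpace T₀.left)
    (X Y : AlgSp.Sp S) (f : X ⟶ Y) (pY : Y ⟶ Y₀.obj) (qY : Y ⟶ c.pt)
    (hY : IsPullback pY qY b₀ (c.π.app i₀)) (pX : X ⟶ X₀.obj) (hX : IsPullback pX f f₀ pY)
    (hf : AlgSp.RepWith P f) :
    Eventually D f₀ b₀ (AlgSp.RepWith P) := by
  haveI : IsAffine V₀.left := hV₀
  haveI := hTc
  haveI := hTqs
  -- the system of base changes of `V₀`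
  have hex : ∀ k : Over i₀, ∃ (W : Over S) (w : W ⟶ V₀)
      (fst : (AlgSp.yon S).obj W ⟶ D.obj k.left),
      IsPullback fst ((AlgSp.yon S).map w) (D.map k.hom) (v₀ ≫ b₀) ∧ IsAffine W.left :=
    fun k => hDa _ _ k.hom hV₀ (v₀ ≫ b₀)
  choose W w fst sqk hW using hex
  let Pb : PbSystem D i₀ (v₀ ≫ b₀) := ⟨W, w, fst, sqk⟩
  obtain ⟨L, ⟨hL⟩, hLaff⟩ := exists_limit_affine Pb.functor hW
  obtain ⟨fstL, iW, hpb, hiW, hfstL⟩ := Pb.isPullback_of_isLimit hc L hL
  haveI : IsConnected (Over i₀) := IsCofiltered.isConnected (Over i₀)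
  have hLs : IsLimit ((Over.forget S).mapCone L) := isLimitOfPreserves _ hL
  let k₀ : Over i₀ := Over.mk (𝟙 i₀)
  haveI : IsIso (D.map k₀.hom) := by
    show IsIso (D.map (𝟙 i₀))
    rw [D.map_id]; infer_instance
  haveI : IsIso ((AlgSp.yon S).map (w k₀)) := (sqk k₀).isIso_snd_of_isIso
  haveI : IsIso (w k₀) := isIso_of_reflects_iso (w k₀) (AlgSp.yon S)
  haveI hwl : IsIso (w k₀).left := by
    have : IsIso ((Over.forget S).map (w k₀)) := inferInstance
    exact this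
  -- the chart of `f` over the limit
  obtain ⟨a, b, hbe, -, sqa⟩ := chart_cart f₀ b₀ (c.π.app i₀) pY qY hY pX f hX v₀ hv₀e h₀ fstT sqT
    iW fstL hpb (pullback.fst h₀ iW) (pullback.snd h₀ iW) (IsPullback.of_hasPullback h₀ iW)
  have hPL : P (pullback.snd h₀ iW).left := hf.2 b a (pullback.snd h₀ iW) sqa
  -- scheme-level descent
  have hXs : IsPullback (pullback.fst h₀ iW).left (pullback.snd h₀ iW).left h₀.left iW.left :=
    (IsPullback.of_hasPullback h₀ iW).map (Over.forget S)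
  have htr : ∀ {k k' : Over i₀} (φ : k ⟶ k'),
      (Pb.functor ⋙ Over.forget S).map φ ≫ (w k').left = (w k).left := by
    intro k k' φ
    show (Pb.trans φ).left ≫ (w k').left = (w k).left
    rw [← Over.comp_left]; exact congrArg (fun m => m.left) (Pb.trans_w φ)
  obtain ⟨k, φ', hk⟩ := scheme_step_F P F hlim (Pb.functor ⋙ Over.forget S) hW
    ((Over.forget S).mapCone L) hLs k₀ h₀.left hFh₀ (fun k => (w k).left) htr hwl iW.left
    (fun k => by
      show (L.π.app k).left ≫ (w k).left = iW.left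
      rw [← Over.comp_left, hiW k])
    (pullback.fst h₀ iW).left (pullback.snd h₀ iW).left hXs hPL
  have hsqk : IsPullback (pullback.fst h₀ (w k)).left (pullback.snd h₀ (w k)).left h₀.left
      (w k).left := (IsPullback.of_hasPullback h₀ (w k)).map (Over.forget S)
  have hPk : P (pullback.snd h₀ (w k)).left := hk _ _ hsqk
  -- conclusion
  refine ⟨k.left, k.hom, ?_⟩
  intro Xi Yi fi pYi qYi sqYi pXi sqXi
  obtain ⟨a', b', hb'e, hb's, sqa'⟩ := chart_cart f₀ b₀ (D.map k.hom) pYi qYi sqYi pXi fi sqXi v₀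
    hv₀e h₀ fstT sqT (w k) (fst k) (sqk k) (pullback.fst h₀ (w k)) (pullback.snd h₀ (w k))
    (IsPullback.of_hasPullback h₀ (w k))
  have hYi : AlgSp.IsAlgSpace Yi :=
    Groth.Agent.S9874.isAlgSpace_of_isPullback (hD i₀).diag Y₀.property (hD k.left) sqYi
  have hXi : AlgSp.IsAlgSpace Xi :=
    Groth.Agent.S9874.isAlgSpace_of_isPullback Y₀.property.diag X₀.property hYi sqXi
  have hcov := isFpqcCover_chart hYi b' hb'e (hb's hv₀s)
  refine (hloc (fun _ : PUnit.{u + 1} => (AlgSp.yon S).obj (W k)) (fun _ => b') hYi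
    (fun _ => AlgSp.IsAlgSpace.yon_obj _) hcov fi hXi
    (fun _ => (AlgSp.yon S).obj (pullback h₀ (w k)))
    (fun _ => (AlgSp.yon S).map (pullback.snd h₀ (w k))) (fun _ => a')
    (fun _ => AlgSp.IsAlgSpace.yon_obj _) (fun _ => sqa')).2 ?_
  intro _
  exact (AlgSp.repWith_yon_map_iff P (pullback.snd h₀ (w k))).2 hPk

end Groth.Agent.Lib.H5bLimDesc
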