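import Mathlib
import Groth.Agent.Lib.Helper12LargestOpen
import Groth.Agent.Lib.Helper12OpenSub
import Groth.Agent.S10086

/-!
# Topological lemmas on algebraic spaces used for immersions into limits (helper5)
-/

set_option autoImplicit false
universe u
open CategoryTheory CategoryTheory.Limits AlgebraicGeometry Opposite
open AlgSp

namespace Groth.Agent.Lib.H5bLimImmA

open Groth.Agent.Lib.Helper12.LargestOpen

variable {S : Scheme.{u}}

/-- affine morphisms are stable under base change. -/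
lemma isAffineMor_of_isPullback {F G F' G' : AlgSp.Sp S} {f : F ⟶ G} {f' : F' ⟶ G'}
    {fst' : F' ⟶ F} {h : G' ⟶ G} (sq : IsPullback fst' f' f h) (hf : AlgSp.IsAffineMor f) :
    AlgSp.IsAffineMor f' := by
  intro Z hZ g
  obtain ⟨W, i, fst, sqW, hW⟩ := hf hZ (g ≫ h)
  have hw : fst ≫ f = ((AlgSp.yon S).map i ≫ g) ≫ h := by
    rw [Category.assoc]
    exact sqW.w
  refine ⟨W, i, sq.lift fst ((AlgSp.yon S).map i ≫ g) hw, ?_, hW⟩
  refine IsPullback.of_right ?_ (sq.lift_snd _ _ hw) sq
  rw [sq.lift_fst]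
  exact sqW

/-- the source of an affine morphism to a quasi-compact sheaf is quasi-compact. -/
lemma isQuasiCompactSp_of_isAffineMor {F G : AlgSp.Sp S} (f : F ⟶ G) (hf : AlgSp.IsAffineMor f)
    (hG : AlgSp.IsQuasiCompactSp G) : AlgSp.IsQuasiCompactSp F := by
  obtain ⟨V0, g, hV0, hge, hgs⟩ := Groth.Agent.S10180.exists_affine_chart hG
  obtain ⟨W, i, fst, sq, hW⟩ := hf hV0 g
  haveI : IsAffine W.left := hW
  exact ⟨W, fst, MorphismProperty.of_isPullback (P := AlgSp.RepWith @Etale) sq.flip hge,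
    MorphismProperty.of_isPullback (P := AlgSp.RepWith @Surjective) sq.flip hgs, inferInstance⟩

/-- the inverse image in a test scheme of the image of a morphism of sheaves is the image of the
projection of the fibre product. -/
lemma preimage_ofPt_range {X Y : AlgSp.Sp S} (y : Y ⟶ X) {T Z : Over S}
    (b : (AlgSp.yon S).obj T ⟶ X) (fst : (AlgSp.yon S).obj Z ⟶ Y) (snd : Z ⟶ T)
    (sq : IsPullback fst ((AlgSp.yon S).map snd) y b) :
    AlgSp.Points.ofPt b ⁻¹' (Set.range (AlgSp.Points.map y)) = Set.range snd.left := by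
  ext v
  constructor
  · rintro ⟨w, hw⟩
    have e : AlgSp.Points.map y w = AlgSp.Points.map b (AlgSp.Points.schemeHomeo T v) := by
      rw [hw, AlgSp.Points.ofPt_eq_map_ofScheme]
      rfl
    obtain ⟨p, -, hp2⟩ := Groth.Agent.S10175.exists_point_of_isPullback sq w _ e
    obtain ⟨z0, rfl⟩ := (AlgSp.Points.schemeHomeo Z).surjective p
    rw [AlgSp.Points.map_yon_map_apply] at hp2
    exact ⟨z0, (AlgSp.Points.schemeHomeo T).injective hp2⟩
  · rintro ⟨z, rfl⟩
    refine ⟨AlgSp.Points.ofPt fst z, ?_⟩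
    rw [AlgSp.Points.map_ofPt, sq.w, Groth.Agent.S10176.ofPt_map_comp]

/-- the coborder of the image of an immersion into an algebraic space is open. -/
lemma isOpen_coborder_range {X Y : AlgSp.Sp S} (hX : AlgSp.IsAlgSpace X) (y : Y ⟶ X)
    (hy : AlgSp.RepWith @IsImmersion y) :
    IsOpen (coborder (Set.range (AlgSp.Points.map y))) := by
  obtain ⟨V, p, hpe, hps⟩ := hX.atlas
  rw [← (Groth.Agent.S10177.isQuotientMap_ofPt p hpe hps).isOpen_preimage,
    ← coborder_preimage (Groth.Agent.S10176.isOpenMap_ofPt p hpe) (AlgSp.Points.continuous_ofPt p)]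
  obtain ⟨Z, snd, fst, sq⟩ := hy.1 p
  haveI : IsImmersion snd.left := hy.2 p fst snd sq
  rw [preimage_ofPt_range y p fst snd sq]
  exact snd.left.isLocallyClosed_range.isOpen_coborder

/-- an immersion whose image lies in an open subspace contained in the coborder of the image
factors through a closed immersion into that open subspace. -/
lemma exists_closedImmersion_factor {X U Y : AlgSp.Sp S} (y : Y ⟶ X)
    (hy : AlgSp.RepWith @IsImmersion y) (j : U ⟶ X) (hj : AlgSp.RepWith @IsOpenImmersion j)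
    (h1 : Set.range (AlgSp.Points.map y) ⊆ Set.range (AlgSp.Points.map j))
    (h2 : Set.range (AlgSp.Points.map j) ⊆ coborder (Set.range (AlgSp.Points.map y))) :
    ∃ y' : Y ⟶ U, y' ≫ j = y ∧ AlgSp.RepWith @IsClosedImmersion y' := by
  obtain ⟨y', rfl⟩ := (Groth.Agent.S10194.exists_factor_iff j hj y).2 h1
  haveI := mono_of_open j hj
  have hy' : AlgSp.RepWith @IsImmersion y' :=
    MorphismProperty.of_isPullback (P := AlgSp.RepWith @IsImmersion)
      (isPullback_id_of_mono y' j) hy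
  have hcl : IsClosed (Set.range (AlgSp.Points.map y')) := by
    have e : Set.range (AlgSp.Points.map y') =
        AlgSp.Points.map j ⁻¹' closure (Set.range (AlgSp.Points.map (y' ≫ j))) := by
      ext u
      constructor
      · rintro ⟨w, rfl⟩
        exact subset_closure ⟨w, AlgSp.Points.map_comp y' j w⟩
      · intro hu
        have h3 : AlgSp.Points.map j u ∈ closure (Set.range (AlgSp.Points.map (y' ≫ j))) ∩
            coborder (Set.range (AlgSp.Points.map (y' ≫ j))) := ⟨hu, h2 ⟨u, rfl⟩⟩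
        rw [closure_inter_coborder] at h3
        obtain ⟨w, hw⟩ := h3
        rw [AlgSp.Points.map_comp] at hw
        exact ⟨w, injective_map_of_open j hj hw⟩
    rw [e]
    exact isClosed_closure.preimage (AlgSp.Points.continuous_map j)
  refine ⟨y', rfl, hy'.1, ?_⟩
  intro T Z b fst snd sq
  haveI : IsImmersion snd.left := hy'.2 b fst snd sq
  show IsClosedImmersion snd.left
  refine IsClosedImmersion.of_isPreimmersion snd.left ?_
  rw [← preimage_ofPt_range y' b fst snd sq]
  exact hcl.preimage (AlgSp.Points.continuous_ofPt b)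

/-- a compact subset of an open subset of `|X|` lies in a quasi-compact open subspace contained in
the open subset. -/
lemma exists_qc_open (X : AlgSp.Space S) (K O : Set (AlgSp.Points X.obj)) (hK : IsCompact K)
    (hO : IsOpen O) (hKO : K ⊆ O) :
    ∃ (U : AlgSp.Space S) (j : U ⟶ X), AlgSp.RepWith @IsOpenImmersion j.hom ∧
      AlgSp.IsQuasiCompactSp U.obj ∧ K ⊆ Set.range (AlgSp.Points.map j.hom) ∧
      Set.range (AlgSp.Points.map j.hom) ⊆ O := by
  obtain ⟨V, p, hpe, hps⟩ := X.property.atlas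
  let ι := {A : V.left.affineOpens // (A.1 : Set ↥V.left) ⊆ AlgSp.Points.ofPt p ⁻¹' O}
  have hcover : K ⊆ ⋃ A : ι, AlgSp.Points.ofPt p '' (A.1.1 : Set ↥V.left) := by
    intro x hx
    obtain ⟨v, rfl⟩ := Groth.Agent.S10177.surjective_ofPt p hps x
    obtain ⟨A, hA, hvA, hAO⟩ := (V.left.isBasis_affineOpens).exists_subset_of_mem_open
      (show v ∈ AlgSp.Points.ofPt p ⁻¹' O from hKO hx)
      (hO.preimage (AlgSp.Points.continuous_ofPt p))
    obtain ⟨A', hA', rfl⟩ := hA
    exact Set.mem_iUnion.2 ⟨⟨⟨A', hA'⟩, hAO⟩, v, hvA, rfl⟩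
  obtain ⟨t, ht⟩ := hK.elim_finite_subcover
    (fun A : ι => AlgSp.Points.ofPt p '' (A.1.1 : Set ↥V.left))
    (fun A => Groth.Agent.S10176.isOpenMap_ofPt p hpe _ A.1.1.2) hcover
  have hWo : IsOpen (⋃ A ∈ t, AlgSp.Points.ofPt p '' ((A : ι).1.1 : Set ↥V.left)) :=
    isOpen_biUnion (fun A _ => Groth.Agent.S10176.isOpenMap_ofPt p hpe _ A.1.1.2)
  have hWc : IsCompact (⋃ A ∈ t, AlgSp.Points.ofPt p '' ((A : ι).1.1 : Set ↥V.left)) :=
    t.isCompact_biUnion (fun A _ => A.1.2.isCompact.image (AlgSp.Points.continuous_ofPt p))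
  obtain ⟨U, j, hj, hjr⟩ := Groth.Agent.S10195.result X _ hWo
  refine ⟨U, j, hj, ?_, ?_, ?_⟩
  · refine Groth.Agent.S10086.isQuasiCompactSp_of_open U.property X.property j.hom hj ?_
    rw [hjr]
    exact hWc
  · rw [hjr]
    exact ht
  · rw [hjr]
    intro x hx
    obtain ⟨A, -, v, hv, rfl⟩ : ∃ A ∈ t, x ∈ AlgSp.Points.ofPt p '' ((A : ι).1.1 : Set ↥V.left) := by
      simpa using hx
    exact A.2 hv

/-- a compact subset of `|X|` lies in the image of an étale chart from an affine scheme. -/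
lemma exists_affine_etale_chart (X : AlgSp.Space S) (K : Set (AlgSp.Points X.obj))
    (hK : IsCompact K) :
    ∃ (V0 : Over S) (g : (AlgSp.yon S).obj V0 ⟶ X.obj), IsAffine V0.left ∧
      AlgSp.RepWith @Etale g ∧ K ⊆ Set.range (AlgSp.Points.ofPt g) := by
  obtain ⟨U, j, hj, hU, hKU, -⟩ := exists_qc_open X K Set.univ hK isOpen_univ (Set.subset_univ _)
  obtain ⟨V0, g0, hV0, hge, hgs⟩ := Groth.Agent.S10180.exists_affine_chart hU
  have hje : AlgSp.RepWith @Etale j.hom :=
    Groth.Agent.Lib.Helper12.OpenSub.repWith_mono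
      (fun _ _ g hg => by haveI : IsOpenImmersion g := hg; infer_instance) hj
  refine ⟨V0, g0 ≫ j.hom, hV0, MorphismProperty.comp_mem _ _ _ hge hje, ?_⟩
  intro x hx
  obtain ⟨u, rfl⟩ := hKU hx
  obtain ⟨v, rfl⟩ := Groth.Agent.S10177.surjective_ofPt g0 hgs u
  exact ⟨v, (AlgSp.Points.map_ofPt g0 j.hom v).symm⟩

end Groth.Agent.Lib.H5bLimImmA
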