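import Mathlib
import Groth.Agent.Lib.H5bLimImmA

/-!
# Descending a quasi-compact open subspace of a limit, without quasi-compactness of the stages
(helper5)
-/

set_option autoImplicit false
universe u
open CategoryTheory CategoryTheory.Limits AlgebraicGeometry Opposite
open AlgSp

namespace Groth.Agent.Lib.H5bLimImmB

open Groth.Agent.Lib.H5bLimSp Groth.Agent.Lib.Helper12.LargestOpen

/-- a quasi-compact open subspace of the limit is, on points, the inverse image of a quasi-compact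
open subspace of some stage. -/
theorem descend_open (S : Scheme.{u}) [QuasiSeparatedSpace ↥S] {I : Type u} [SmallCategory I]
    [IsCofiltered I] (D : I ⥤ AlgSp.Sp S) (hD : ∀ i, AlgSp.IsAlgSpace (D.obj i))
    (hDa : ∀ (i j : I) (φ : i ⟶ j), AlgSp.IsAffineMor (D.map φ))
    (hqs : ∀ i, AlgSp.IsQuasiSeparatedSp (D.obj i))
    (c : Cone D) (hc : IsLimit c)
    (U : AlgSp.Sp S) (j : U ⟶ c.pt) (hj : AlgSp.RepWith @IsOpenImmersion j)
    (hU : AlgSp.IsQuasiCompactSp U) (i₀ : I) :
    ∃ (k : Over i₀) (Uk : AlgSp.Space S) (jk : Uk.obj ⟶ D.obj k.left),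
      AlgSp.RepWith @IsOpenImmersion jk ∧ AlgSp.IsQuasiCompactSp Uk.obj ∧
        ∀ x : AlgSp.Points c.pt, x ∈ Set.range (AlgSp.Points.map j) ↔
          AlgSp.Points.map (c.π.app k.left) x ∈ Set.range (AlgSp.Points.map jk) := by
  obtain ⟨hXa, -⟩ := Groth.Agent.S10004.result S D hD hDa c hc
  have hUa : AlgSp.IsAlgSpace U := Groth.Agent.S10129.isAlgSpace_of_representable hXa j hj.1
  have hKc : IsCompact (Set.range (AlgSp.Points.map (j ≫ c.π.app i₀))) := by
    haveI : CompactSpace (AlgSp.Points U) := (Groth.Agent.S10174.isQuasiCompactSp_iff hUa).1 hU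
    exact isCompact_range (AlgSp.Points.continuous_map _)
  obtain ⟨V0, g, hV0, hge, hgK⟩ :=
    Groth.Agent.Lib.H5bLimImmA.exists_affine_etale_chart ⟨D.obj i₀, hD i₀⟩ _ hKc
  haveI : IsAffine V0.left := hV0
  have hex : ∀ k : Over i₀, ∃ (W : Over S) (w : W ⟶ V0)
      (fst : (AlgSp.yon S).obj W ⟶ D.obj k.left),
      IsPullback fst ((AlgSp.yon S).map w) (D.map k.hom) g ∧ IsAffine W.left :=
    fun k => hDa _ _ k.hom hV0 g
  choose W w fst sqk hW using hex
  let Pb : PbSystem D i₀ g := ⟨W, w, fst, sqk⟩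
  obtain ⟨L, ⟨hL⟩, hLaff⟩ := exists_limit_affine Pb.functor hW
  obtain ⟨fstL, iW, hpb, hiW, hfstL⟩ := Pb.isPullback_of_isLimit hc L hL
  -- the scheme representing `U ×_X h_L`
  obtain ⟨V2, p, qU, sq⟩ := hj.1 fstL
  haveI hp : IsOpenImmersion p.left := hj.2 fstL qU p sq
  have hgqc : AlgSp.IsQuasiCompactMor g :=
    Groth.Agent.S9920.isQuasiCompactMor_of_qc_qs (AlgSp.IsAlgSpace.yon_obj V0) (hD i₀) g
      (Groth.Agent.Lib.H5bLimDesc.isQuasiCompactSp_yon V0) (hqs i₀)
  have big : IsPullback qU ((AlgSp.yon S).map p ≫ (AlgSp.yon S).map iW) (j ≫ c.π.app i₀) g :=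
    sq.paste_vert hpb
  haveI : CompactSpace ↥V2.left :=
    Groth.Agent.S10653.compactSpace_of_isQuasiCompactSp V2
      (hgqc hUa hU (j ≫ c.π.app i₀) _ qU big.flip)
  -- descend the open subset of `L`
  haveI : IsConnected (Over i₀) := IsCofiltered.isConnected (Over i₀)
  have hLs : IsLimit ((Over.forget S).mapCone L) := isLimitOfPreserves _ hL
  haveI : ∀ {k k' : Over i₀} (ψ : k ⟶ k'), IsAffineHom ((Pb.functor ⋙ Over.forget S).map ψ) := by
    intro k k' ψ
    haveI : IsAffine ((Pb.functor ⋙ Over.forget S).obj k) := hW k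
    haveI : IsAffine ((Pb.functor ⋙ Over.forget S).obj k') := hW k'
    infer_instance
  obtain ⟨k, Wk, hWk, hmemV⟩ : ∃ (k : Over i₀) (Wk : (W k).left.Opens),
      IsCompact (Wk : Set ↥(W k).left) ∧
      ∀ v0 : ↥L.pt.left, v0 ∈ Set.range p.left ↔ (L.π.app k).left v0 ∈ Wk := by
    have hcpt : IsCompact ((show ((Over.forget S).mapCone L).pt.Opens from
        p.left.opensRange) : Set ((Over.forget S).mapCone L).pt) := by
      show IsCompact (Set.range p.left)
      exact isCompact_range p.left.continuous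
    obtain ⟨k, Wk, hWk, hWkV⟩ := exists_preimage_eq (Pb.functor ⋙ Over.forget S)
      ((Over.forget S).mapCone L) hLs
      (show ((Over.forget S).mapCone L).pt.Opens from p.left.opensRange) hcpt
    refine ⟨k, Wk, hWk, fun v0 => ?_⟩
    have h1 : v0 ∈ ((Over.forget S).mapCone L).π.app k ⁻¹ᵁ Wk ↔
        v0 ∈ (show ((Over.forget S).mapCone L).pt.Opens from p.left.opensRange) := by
      rw [hWkV]
    exact h1.symm
  -- the open subset of `|X_k|`
  have hfke : AlgSp.RepWith @Etale (fst k) :=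
    MorphismProperty.of_isPullback (P := AlgSp.RepWith @Etale) (sqk k).flip hge
  have hAo : IsOpen (AlgSp.Points.ofPt (fst k) '' (Wk : Set ↥(W k).left)) :=
    Groth.Agent.S10176.isOpenMap_ofPt (fst k) hfke _ Wk.isOpen
  have hAc : IsCompact (AlgSp.Points.ofPt (fst k) '' (Wk : Set ↥(W k).left)) :=
    hWk.image (AlgSp.Points.continuous_ofPt (fst k))
  obtain ⟨Uk, jk, hjk, hjkr⟩ := Groth.Agent.S10195.result ⟨D.obj k.left, hD k.left⟩ _ hAo
  -- the projection square at level `k`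
  have sqLk : IsPullback fstL ((AlgSp.yon S).map (L.π.app k)) (c.π.app k.left) (fst k) := by
    refine (IsPullback.of_right ?_ (hfstL k).symm (sqk k).flip).flip
    have e1 : (AlgSp.yon S).map (L.π.app k) ≫ (AlgSp.yon S).map (w k) = (AlgSp.yon S).map iW := by
      rw [← Functor.map_comp, hiW k]
    have e2 : c.π.app k.left ≫ D.map k.hom = c.π.app i₀ := c.w k.hom
    rw [e1, e2]
    exact hpb.flip
  refine ⟨k, Uk, jk.hom, hjk, ?_, ?_⟩
  · refine Groth.Agent.S10086.isQuasiCompactSp_of_open Uk.property (hD k.left) jk.hom hjk ?_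
    rw [hjkr]
    exact hAc
  -- the points of `U`
  intro x
  rw [hjkr]
  constructor
  · rintro ⟨u, rfl⟩
    obtain ⟨v0', hv0'⟩ := hgK ⟨u, rfl⟩
    have e0 : AlgSp.Points.map (c.π.app i₀) (AlgSp.Points.map j u) =
        AlgSp.Points.map g (AlgSp.Points.schemeHomeo V0 v0') := by
      rw [← AlgSp.Points.map_comp, ← hv0', AlgSp.Points.ofPt_eq_map_ofScheme]
      rfl
    obtain ⟨pL, hpL1, -⟩ := Groth.Agent.S10175.exists_point_of_isPullback hpb _ _ e0
    obtain ⟨v0, rfl⟩ := (AlgSp.Points.schemeHomeo L.pt).surjective pL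
    have hv0 : AlgSp.Points.ofPt fstL v0 = AlgSp.Points.map j u := by
      rw [← hpL1, AlgSp.Points.ofPt_eq_map_ofScheme]
      rfl
    have e : AlgSp.Points.map j u =
        AlgSp.Points.map fstL (AlgSp.Points.schemeHomeo L.pt v0) := hpL1.symm
    obtain ⟨z, -, hz2⟩ := Groth.Agent.S10175.exists_point_of_isPullback sq u _ e
    obtain ⟨z0, rfl⟩ := (AlgSp.Points.schemeHomeo V2).surjective z
    rw [AlgSp.Points.map_yon_map_apply] at hz2
    have hv : p.left z0 = v0 := (AlgSp.Points.schemeHomeo L.pt).injective hz2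
    refine ⟨(L.π.app k).left v0, (hmemV v0).1 ⟨z0, hv⟩, ?_⟩
    rw [← Groth.Agent.S10176.ofPt_map_comp (L.π.app k) (fst k) v0, ← hfstL k,
      ← AlgSp.Points.map_ofPt, hv0]
  · rintro ⟨wk, hwk, hx⟩
    have e : AlgSp.Points.map (c.π.app k.left) x =
        AlgSp.Points.map (fst k) (AlgSp.Points.schemeHomeo (W k) wk) := by
      rw [← hx, AlgSp.Points.ofPt_eq_map_ofScheme]
      rfl
    obtain ⟨v, hv1, hv2⟩ := Groth.Agent.S10175.exists_point_of_isPullback sqLk x _ e
    obtain ⟨v0, rfl⟩ := (AlgSp.Points.schemeHomeo L.pt).surjective v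
    rw [AlgSp.Points.map_yon_map_apply] at hv2
    have hvw : (L.π.app k).left v0 = wk := (AlgSp.Points.schemeHomeo (W k)).injective hv2
    obtain ⟨z0, hz0⟩ := (hmemV v0).2 (by rw [hvw]; exact hwk)
    refine ⟨AlgSp.Points.map qU (AlgSp.Points.schemeHomeo V2 z0), ?_⟩
    rw [← AlgSp.Points.map_comp, sq.w, AlgSp.Points.map_comp, AlgSp.Points.map_yon_map_apply,
      hz0, hv1]

end Groth.Agent.Lib.H5bLimImmB
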