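import Mathlib

/-!
# The system of kernel pairs `Y ×_{X_i} Y` of a morphism to a limit (helper5)
-/

set_option autoImplicit false
universe v u w

open CategoryTheory CategoryTheory.Limits

namespace Groth.Agent.Lib.H5bLimMono

variable {C : Type u} [Category.{v} C] [HasPullbacks C]

/-- the transition map of kernel pairs is a base change of a diagonal. -/
theorem diag_bc {Y T T' : C} (f : Y ⟶ T) (m : T ⟶ T') (f' : Y ⟶ T') (hf : f ≫ m = f') :
    IsPullback (pullback.fst f f ≫ f)
      (pullback.map f f f' f' (𝟙 _) (𝟙 _) m (by rw [hf, Category.id_comp])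
        (by rw [hf, Category.id_comp]))
      (pullback.diagonal m)
      (pullback.map f' f' m m f f (𝟙 _) (by rw [hf, Category.comp_id])
        (by rw [hf, Category.comp_id])) := by
  subst hf
  exact pullback_map_diagonal_isPullback f f m

variable {I : Type w} [Category.{w} I] (D : I ⥤ C) (c : Cone D) {Y : C} (y : Y ⟶ c.pt)

/-- `Y ×_{X_i} Y`. -/
noncomputable def kpObj (i : I) : C := pullback (y ≫ c.π.app i) (y ≫ c.π.app i)

noncomputable def kpFst (i : I) : kpObj D c y i ⟶ Y := pullback.fst _ _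

noncomputable def kpSnd (i : I) : kpObj D c y i ⟶ Y := pullback.snd _ _

lemma kp_condition (i : I) :
    kpFst D c y i ≫ y ≫ c.π.app i = kpSnd D c y i ≫ y ≫ c.π.app i := pullback.condition

variable {D c y} in
lemma kp_hom_ext {i : I} {T : C} {a b : T ⟶ kpObj D c y i}
    (h1 : a ≫ kpFst D c y i = b ≫ kpFst D c y i) (h2 : a ≫ kpSnd D c y i = b ≫ kpSnd D c y i) :
    a = b := pullback.hom_ext h1 h2

noncomputable def kpLift (i : I) {T : C} (a b : T ⟶ Y)
    (h : a ≫ y ≫ c.π.app i = b ≫ y ≫ c.π.app i) : T ⟶ kpObj D c y i := pullback.lift a b h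

@[simp] lemma kpLift_fst (i : I) {T : C} (a b : T ⟶ Y)
    (h : a ≫ y ≫ c.π.app i = b ≫ y ≫ c.π.app i) :
    kpLift D c y i a b h ≫ kpFst D c y i = a := pullback.lift_fst _ _ _

@[simp] lemma kpLift_snd (i : I) {T : C} (a b : T ⟶ Y)
    (h : a ≫ y ≫ c.π.app i = b ≫ y ≫ c.π.app i) :
    kpLift D c y i a b h ≫ kpSnd D c y i = b := pullback.lift_snd _ _ _

lemma kp_condition' {i j : I} (φ : i ⟶ j) :
    kpFst D c y i ≫ y ≫ c.π.app j = kpSnd D c y i ≫ y ≫ c.π.app j := by
  calc kpFst D c y i ≫ y ≫ c.π.app j = (kpFst D c y i ≫ y ≫ c.π.app i) ≫ D.map φ := by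
        rw [Category.assoc, Category.assoc, c.w]
    _ = (kpSnd D c y i ≫ y ≫ c.π.app i) ≫ D.map φ := by rw [kp_condition]
    _ = kpSnd D c y i ≫ y ≫ c.π.app j := by rw [Category.assoc, Category.assoc, c.w]

noncomputable def kpMap {i j : I} (φ : i ⟶ j) : kpObj D c y i ⟶ kpObj D c y j :=
  kpLift D c y j (kpFst D c y i) (kpSnd D c y i) (kp_condition' D c y φ)

@[simp] lemma kpMap_fst {i j : I} (φ : i ⟶ j) :
    kpMap D c y φ ≫ kpFst D c y j = kpFst D c y i := kpLift_fst _ _ _ _ _ _ _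

@[simp] lemma kpMap_snd {i j : I} (φ : i ⟶ j) :
    kpMap D c y φ ≫ kpSnd D c y j = kpSnd D c y i := kpLift_snd _ _ _ _ _ _ _

/-- the system `i ↦ Y ×_{X_i} Y`. -/
noncomputable def kpFunctor : I ⥤ C where
  obj i := kpObj D c y i
  map {i j} φ := kpMap D c y φ
  map_id i := by
    apply kp_hom_ext
    · rw [kpMap_fst, Category.id_comp]
    · rw [kpMap_snd, Category.id_comp]
  map_comp {i j k} φ ψ := by
    apply kp_hom_ext
    · rw [kpMap_fst, Category.assoc, kpMap_fst, kpMap_fst]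
    · rw [kpMap_snd, Category.assoc, kpMap_snd, kpMap_snd]

/-- the projections, at the level of the functor. -/
noncomputable def pFst (i : I) : (kpFunctor D c y).obj i ⟶ Y := kpFst D c y i

noncomputable def pSnd (i : I) : (kpFunctor D c y).obj i ⟶ Y := kpSnd D c y i

noncomputable def pDiag (i : I) : Y ⟶ (kpFunctor D c y).obj i :=
  kpLift D c y i (𝟙 Y) (𝟙 Y) rfl

lemma p_condition (i : I) :
    pFst D c y i ≫ y ≫ c.π.app i = pSnd D c y i ≫ y ≫ c.π.app i := kp_condition D c y i

variable {D c y} in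
lemma p_hom_ext {i : I} {T : C} {a b : T ⟶ (kpFunctor D c y).obj i}
    (h1 : a ≫ pFst D c y i = b ≫ pFst D c y i) (h2 : a ≫ pSnd D c y i = b ≫ pSnd D c y i) :
    a = b := kp_hom_ext h1 h2

@[simp] lemma map_pFst {i j : I} (φ : i ⟶ j) :
    (kpFunctor D c y).map φ ≫ pFst D c y j = pFst D c y i := kpMap_fst D c y φ

@[simp] lemma map_pSnd {i j : I} (φ : i ⟶ j) :
    (kpFunctor D c y).map φ ≫ pSnd D c y j = pSnd D c y i := kpMap_snd D c y φ

@[simp] lemma pDiag_pFst (i : I) : pDiag D c y i ≫ pFst D c y i = 𝟙 Y :=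
  kpLift_fst _ _ _ _ _ _ _

@[simp] lemma pDiag_pSnd (i : I) : pDiag D c y i ≫ pSnd D c y i = 𝟙 Y :=
  kpLift_snd _ _ _ _ _ _ _

lemma pDiag_eq (i : I) : pDiag D c y i = pullback.diagonal (y ≫ c.π.app i) := rfl

lemma pFst_eq (i : I) : pFst D c y i = pullback.fst (y ≫ c.π.app i) (y ≫ c.π.app i) := rfl

lemma kpFunctor_map_eq {i j : I} (φ : i ⟶ j) :
    (kpFunctor D c y).map φ =
      pullback.map (y ≫ c.π.app i) (y ≫ c.π.app i) (y ≫ c.π.app j) (y ≫ c.π.app j)
      (𝟙 _) (𝟙 _) (D.map φ) (by rw [Category.assoc, c.w, Category.id_comp])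
      (by rw [Category.assoc, c.w, Category.id_comp]) := by
  refine pullback.hom_ext (f := y ≫ c.π.app j) (g := y ≫ c.π.app j) ?_ ?_
  · have h1 : (kpFunctor D c y).map φ ≫ pullback.fst (y ≫ c.π.app j) (y ≫ c.π.app j) =
        pullback.fst (y ≫ c.π.app i) (y ≫ c.π.app i) := kpMap_fst D c y φ
    have h2 : pullback.map (y ≫ c.π.app i) (y ≫ c.π.app i) (y ≫ c.π.app j) (y ≫ c.π.app j)
        (𝟙 _) (𝟙 _) (D.map φ) (by rw [Category.assoc, c.w, Category.id_comp])
        (by rw [Category.assoc, c.w, Category.id_comp]) ≫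
        pullback.fst (y ≫ c.π.app j) (y ≫ c.π.app j) =
        pullback.fst (y ≫ c.π.app i) (y ≫ c.π.app i) := by
      rw [pullback.lift_fst, Category.comp_id]
    exact h1.trans h2.symm
  · have h1 : (kpFunctor D c y).map φ ≫ pullback.snd (y ≫ c.π.app j) (y ≫ c.π.app j) =
        pullback.snd (y ≫ c.π.app i) (y ≫ c.π.app i) := kpMap_snd D c y φ
    have h2 : pullback.map (y ≫ c.π.app i) (y ≫ c.π.app i) (y ≫ c.π.app j) (y ≫ c.π.app j)
        (𝟙 _) (𝟙 _) (D.map φ) (by rw [Category.assoc, c.w, Category.id_comp])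
        (by rw [Category.assoc, c.w, Category.id_comp]) ≫
        pullback.snd (y ≫ c.π.app j) (y ≫ c.π.app j) =
        pullback.snd (y ≫ c.π.app i) (y ≫ c.π.app i) := by
      rw [pullback.lift_snd, Category.comp_id]
    exact h1.trans h2.symm

/-- the first projections to `Y`. -/
noncomputable def kpToY : kpFunctor D c y ⟶ (Functor.const I).obj Y where
  app i := pFst D c y i
  naturality {i j} φ := by
    show (kpFunctor D c y).map φ ≫ pFst D c y j = pFst D c y i ≫ 𝟙 Y
    rw [map_pFst, Category.comp_id]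

/-- the cone of diagonals. -/
noncomputable def kpCone : Cone (kpFunctor D c y) where
  pt := Y
  π :=
    { app := fun i => pDiag D c y i
      naturality := by
        intro i j φ
        show 𝟙 Y ≫ pDiag D c y j = pDiag D c y i ≫ (kpFunctor D c y).map φ
        apply p_hom_ext
        · rw [Category.id_comp, pDiag_pFst, Category.assoc, map_pFst, pDiag_pFst]
        · rw [Category.id_comp, pDiag_pSnd, Category.assoc, map_pSnd, pDiag_pSnd] }

/-- if `y` is a monomorphism, the cone of diagonals is a limit cone. -/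
theorem nonempty_isLimit_kpCone [IsCofiltered I] [Mono y] (hc : IsLimit c) :
    Nonempty (IsLimit (kpCone D c y)) := by
  have key : ∀ (s : Cone (kpFunctor D c y)) (i j : I),
      s.π.app i ≫ pFst D c y i = s.π.app j ≫ pFst D c y j ∧
      s.π.app i ≫ pSnd D c y i = s.π.app j ≫ pSnd D c y j := by
    intro s i j
    have h1 : ∀ {i j : I} (φ : i ⟶ j),
        s.π.app i ≫ pFst D c y i = s.π.app j ≫ pFst D c y j ∧
        s.π.app i ≫ pSnd D c y i = s.π.app j ≫ pSnd D c y j := by
      intro i j φ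
      have hw : s.π.app i ≫ (kpFunctor D c y).map φ = s.π.app j := s.w φ
      rw [← hw, Category.assoc, Category.assoc, map_pFst, map_pSnd]
      exact ⟨rfl, rfl⟩
    obtain ⟨ha, hb⟩ := h1 (IsCofiltered.minToLeft i j)
    obtain ⟨ha', hb'⟩ := h1 (IsCofiltered.minToRight i j)
    exact ⟨ha.symm.trans ha', hb.symm.trans hb'⟩
  have hab : ∀ (s : Cone (kpFunctor D c y)) (i : I),
      s.π.app i ≫ pFst D c y i = s.π.app i ≫ pSnd D c y i := by
    intro s i
    rw [← cancel_mono y]
    apply hc.hom_ext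
    intro j
    rw [(key s i j).1, (key s i j).2, Category.assoc, Category.assoc, Category.assoc,
      Category.assoc, p_condition]
  haveI : Nonempty I := IsCofiltered.nonempty
  let i₀ : I := Classical.arbitrary I
  refine ⟨{ lift := fun s => s.π.app i₀ ≫ pFst D c y i₀, fac := ?_, uniq := ?_ }⟩
  · intro s i
    show (s.π.app i₀ ≫ pFst D c y i₀) ≫ pDiag D c y i = s.π.app i
    apply p_hom_ext
    · rw [Category.assoc, pDiag_pFst, Category.comp_id, (key s i₀ i).1]
    · rw [Category.assoc, pDiag_pSnd, Category.comp_id, (key s i₀ i).1, hab s i]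
  · intro s m hm
    obtain ⟨m', hm'⟩ : ∃ m' : s.pt ⟶ Y, m' = m := ⟨m, rfl⟩
    have h1 : m' ≫ pDiag D c y i₀ = s.π.app i₀ := by rw [hm']; exact hm i₀
    have h2 : m' = s.π.app i₀ ≫ pFst D c y i₀ := by
      rw [← h1, Category.assoc, pDiag_pFst, Category.comp_id]
    rw [← hm']
    exact h2

end Groth.Agent.Lib.H5bLimMono
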