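import Mathlib
import Groth.Agent.Lib.H5bLimDescH
import Groth.Agent.S0594
import Groth.Agent.S10534
import Groth.Agent.S10180

/-!
# Closed immersions in a cofiltered system of representable morphisms with closed immersion
transitions (helper5)

`PbSysT Q q g`: compatible representing schemes for the base changes of the components of a natural
transformation `q : Q ⟶ const Z` of a system of sheaves along a chart `g : h_V ⟶ Z`.

`closedImmersion_of_limit`: if `Q` has closed immersion transitions, the `q.app k` are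
representable, locally of finite type, quasi-compact and quasi-separated, and the limit maps to `Z`
by a closed immersion, then some `q.app k` is a closed immersion.
-/

set_option autoImplicit false
set_option linter.style.haveILetI false
set_option linter.unusedVariables false
set_option linter.unusedSectionVars false
universe u

open CategoryTheory CategoryTheory.Limits AlgebraicGeometry MorphismProperty
open AlgSp

namespace Groth.Agent.Lib.H5bLimSep

variable {S : Scheme.{u}} {J : Type u} [SmallCategory J]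

/-- compatible representing objects for the base changes of `q.app k` along `g : h_V ⟶ Z`. -/
structure PbSysT (Q : J ⥤ AlgSp.Sp S) {Zs : AlgSp.Sp S} (q : Q ⟶ (Functor.const J).obj Zs)
    {V : Over S} (g : (AlgSp.yon S).obj V ⟶ Zs) where
  /-- the representing schemes -/
  W : J → Over S
  /-- their structure maps to `V` -/
  w : ∀ k, W k ⟶ V
  /-- the projections to `Q.obj k` -/
  fst : ∀ k : J, (AlgSp.yon S).obj (W k) ⟶ Q.obj k
  sq : ∀ k : J, IsPullback (fst k) ((AlgSp.yon S).map (w k)) (q.app k) g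

lemma nat_const {Q : J ⥤ AlgSp.Sp S} {Zs : AlgSp.Sp S} (q : Q ⟶ (Functor.const J).obj Zs)
    {k k' : J} (ψ : k ⟶ k') : Q.map ψ ≫ q.app k' = q.app k :=
  (q.naturality ψ).trans (Category.comp_id (q.app k))

namespace PbSysT

variable {Q : J ⥤ AlgSp.Sp S} {Zs : AlgSp.Sp S} {q : Q ⟶ (Functor.const J).obj Zs}
  {V : Over S} {g : (AlgSp.yon S).obj V ⟶ Zs} (P : PbSysT Q q g)

lemma exists_trans {k k' : J} (ψ : k ⟶ k') :
    ∃! t : P.W k ⟶ P.W k', t ≫ P.w k' = P.w k ∧
      (AlgSp.yon S).map t ≫ P.fst k' = P.fst k ≫ Q.map ψ := by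
  have hcomm : (P.fst k ≫ Q.map ψ) ≫ q.app k' = (AlgSp.yon S).map (P.w k) ≫ g := by
    rw [Category.assoc, nat_const q ψ, (P.sq k).w]
  obtain ⟨t, ht⟩ := (AlgSp.yon S).map_surjective ((P.sq k').lift _ _ hcomm)
  refine ⟨t, ⟨?_, ?_⟩, ?_⟩
  · apply (AlgSp.yon S).map_injective
    rw [CategoryTheory.Functor.map_comp, ht, IsPullback.lift_snd]
  · rw [ht, IsPullback.lift_fst]
  · rintro t' ⟨h1, h2⟩
    apply (AlgSp.yon S).map_injective
    apply (P.sq k').hom_ext
    · rw [h2, ht, IsPullback.lift_fst]
    · rw [← CategoryTheory.Functor.map_comp, h1, ht, IsPullback.lift_snd]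

/-- the transition morphism `W k ⟶ W k'`. -/
noncomputable def trans {k k' : J} (ψ : k ⟶ k') : P.W k ⟶ P.W k' :=
  (P.exists_trans ψ).choose

lemma trans_w {k k' : J} (ψ : k ⟶ k') : P.trans ψ ≫ P.w k' = P.w k :=
  (P.exists_trans ψ).choose_spec.1.1

lemma trans_fst {k k' : J} (ψ : k ⟶ k') :
    (AlgSp.yon S).map (P.trans ψ) ≫ P.fst k' = P.fst k ≫ Q.map ψ :=
  (P.exists_trans ψ).choose_spec.1.2

lemma trans_unique {k k' : J} (ψ : k ⟶ k') (t : P.W k ⟶ P.W k')
    (h1 : t ≫ P.w k' = P.w k) (h2 : (AlgSp.yon S).map t ≫ P.fst k' = P.fst k ≫ Q.map ψ) :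
    t = P.trans ψ :=
  (P.exists_trans ψ).choose_spec.2 t ⟨h1, h2⟩

/-- the representing schemes as a functor. -/
noncomputable abbrev functor : J ⥤ Over S where
  obj := P.W
  map ψ := P.trans ψ
  map_id k := by
    symm
    apply P.trans_unique
    · rw [Category.id_comp]
    · rw [CategoryTheory.Functor.map_id, Category.id_comp, Q.map_id, Category.comp_id]
  map_comp {k k' k''} ψ ψ' := by
    symm
    apply P.trans_unique
    · rw [Category.assoc, P.trans_w, P.trans_w]
    · rw [CategoryTheory.Functor.map_comp, Category.assoc, P.trans_fst, ← Category.assoc,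
        P.trans_fst, Category.assoc, Q.map_comp]

/-- the transition maps are base changes of the transition maps of `Q`. -/
theorem trans_isPullback {k k' : J} (ψ : k ⟶ k') :
    IsPullback ((AlgSp.yon S).map (P.trans ψ)) (P.fst k) (P.fst k') (Q.map ψ) := by
  refine IsPullback.of_right ?_ (P.trans_fst ψ) (P.sq k').flip
  rw [← CategoryTheory.Functor.map_comp, P.trans_w, nat_const q ψ]
  exact (P.sq k).flip

section Limit

variable [IsCofiltered J] (cQ : Cone Q) (hcQ : IsLimit cQ) (gQ : cQ.pt ⟶ Zs)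
  (hgQ : ∀ k, cQ.π.app k ≫ q.app k = gQ) {Wl : Over S} (wl : Wl ⟶ V)
  (fstl : (AlgSp.yon S).obj Wl ⟶ cQ.pt) (sql : IsPullback fstl ((AlgSp.yon S).map wl) gQ g)

include hgQ sql in
lemma exists_leg (k : J) : ∃! t : Wl ⟶ P.W k, t ≫ P.w k = wl ∧
    (AlgSp.yon S).map t ≫ P.fst k = fstl ≫ cQ.π.app k := by
  have hcomm : (fstl ≫ cQ.π.app k) ≫ q.app k = (AlgSp.yon S).map wl ≫ g := by
    rw [Category.assoc, hgQ, sql.w]
  obtain ⟨t, ht⟩ := (AlgSp.yon S).map_surjective ((P.sq k).lift _ _ hcomm)
  refine ⟨t, ⟨?_, ?_⟩, ?_⟩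
  · apply (AlgSp.yon S).map_injective
    rw [CategoryTheory.Functor.map_comp, ht, IsPullback.lift_snd]
  · rw [ht, IsPullback.lift_fst]
  · rintro t' ⟨h1, h2⟩
    apply (AlgSp.yon S).map_injective
    apply (P.sq k).hom_ext
    · rw [h2, ht, IsPullback.lift_fst]
    · rw [← CategoryTheory.Functor.map_comp, h1, ht, IsPullback.lift_snd]

include hcQ hgQ sql in
/-- a scheme representing the base change of the limit is a limit of the representing schemes. -/
theorem exists_limCone : ∃ L : Cone P.functor, Nonempty (IsLimit L) ∧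
    ∃ e : L.pt ≅ Wl, ∀ k, L.π.app k ≫ P.w k = e.hom ≫ wl := by
  choose leg hleg huniq using fun k => P.exists_leg cQ gQ hgQ wl fstl sql k
  have hnat : ∀ {k k' : J} (ψ : k ⟶ k'), leg k ≫ P.trans ψ = leg k' := by
    intro k k' ψ
    apply huniq k'
    refine ⟨?_, ?_⟩
    · rw [Category.assoc, P.trans_w, (hleg k).1]
    · rw [CategoryTheory.Functor.map_comp, Category.assoc, P.trans_fst, ← Category.assoc,
        (hleg k).2, Category.assoc, cQ.w]
  let L : Cone P.functor :=
    { pt := Wl
      π :=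
        { app := leg
          naturality := by
            intro k k' ψ
            change 𝟙 _ ≫ leg k' = leg k ≫ P.trans ψ
            rw [Category.id_comp, hnat] } }
  refine ⟨L, ⟨IsLimit.ofExistsUnique fun s => ?_⟩, Iso.refl _, fun k => ?_⟩
  swap
  · change leg k ≫ P.w k = 𝟙 _ ≫ wl
    rw [Category.id_comp, (hleg k).1]
  -- independence of the index
  have hw1 : ∀ {k k' : J} (ψ : k ⟶ k'), s.π.app k ≫ P.w k = s.π.app k' ≫ P.w k' := by
    intro k k' ψ
    have h1 : s.π.app k ≫ P.trans ψ = s.π.app k' := s.w ψ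
    rw [← h1, Category.assoc, P.trans_w]
  have hw : ∀ k k' : J, s.π.app k ≫ P.w k = s.π.app k' ≫ P.w k' := fun k k' =>
    (hw1 (IsCofiltered.minToLeft k k')).symm.trans (hw1 (IsCofiltered.minToRight k k'))
  let k₀ : J := (IsCofiltered.nonempty (C := J)).some
  let b : s.pt ⟶ V := s.π.app k₀ ≫ P.w k₀
  have hb : ∀ k, s.π.app k ≫ P.w k = b := fun k => hw k k₀
  let cs : Cone Q :=
    { pt := (AlgSp.yon S).obj s.pt
      π :=
        { app := fun k => (AlgSp.yon S).map (s.π.app k) ≫ P.fst k
          naturality := by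
            intro k k' ψ
            have h1 : s.π.app k ≫ P.trans ψ = s.π.app k' := s.w ψ
            change 𝟙 _ ≫ (AlgSp.yon S).map (s.π.app k') ≫ P.fst k' =
              ((AlgSp.yon S).map (s.π.app k) ≫ P.fst k) ≫ Q.map ψ
            rw [Category.id_comp, Category.assoc, ← P.trans_fst ψ, ← Category.assoc,
              ← CategoryTheory.Functor.map_comp, h1] } }
  let a : (AlgSp.yon S).obj s.pt ⟶ cQ.pt := hcQ.lift cs
  have ha : ∀ k, a ≫ cQ.π.app k = (AlgSp.yon S).map (s.π.app k) ≫ P.fst k := fun k =>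
    hcQ.fac cs k
  have hab : a ≫ gQ = (AlgSp.yon S).map b ≫ g := by
    rw [← hgQ k₀, ← Category.assoc, ha, Category.assoc, (P.sq k₀).w, ← Category.assoc,
      ← CategoryTheory.Functor.map_comp]
  obtain ⟨l, hl⟩ := (AlgSp.yon S).map_surjective (sql.lift a ((AlgSp.yon S).map b) hab)
  have hl1 : (AlgSp.yon S).map l ≫ fstl = a := by rw [hl, IsPullback.lift_fst]
  have hl2 : l ≫ wl = b := by
    apply (AlgSp.yon S).map_injective
    rw [CategoryTheory.Functor.map_comp, hl, IsPullback.lift_snd]
  refine ⟨l, ?_, ?_⟩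
  · intro k
    change l ≫ leg k = s.π.app k
    apply (AlgSp.yon S).map_injective
    apply (P.sq k).hom_ext
    · rw [CategoryTheory.Functor.map_comp, Category.assoc, (hleg k).2, ← Category.assoc, hl1, ha]
    · rw [← CategoryTheory.Functor.map_comp, ← CategoryTheory.Functor.map_comp, Category.assoc,
        (hleg k).1, hl2, hb]
  · intro m hm
    have hm' : ∀ k, m ≫ leg k = s.π.app k := hm
    apply (AlgSp.yon S).map_injective
    apply sql.hom_ext
    · rw [hl1]
      apply hcQ.hom_ext
      intro k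
      rw [Category.assoc, ← (hleg k).2, ← Category.assoc, ← CategoryTheory.Functor.map_comp, hm',
        ha]
    · rw [← CategoryTheory.Functor.map_comp, ← CategoryTheory.Functor.map_comp, hl2,
        ← (hleg k₀).1, ← Category.assoc, hm']

end Limit

end PbSysT

/-- In a cofiltered system `Q` of algebraic spaces over a quasi-compact algebraic space `Z`, with
closed immersion transitions, whose structure maps are representable, locally of finite type,
quasi-compact and quasi-separated: if the limit maps to `Z` by a closed immersion, then some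
`Q.obj k ⟶ Z` is a closed immersion. -/
theorem closedImmersion_of_limit (S : Scheme.{u}) {J : Type u} [SmallCategory J] [IsCofiltered J]
    (Zs : AlgSp.Sp S) (hZ : AlgSp.IsAlgSpace Zs) (hZqc : AlgSp.IsQuasiCompactSp Zs)
    (Q : J ⥤ AlgSp.Sp S) (hQ : ∀ k, AlgSp.IsAlgSpace (Q.obj k))
    (q : Q ⟶ (Functor.const J).obj Zs)
    (hQc : ∀ (k k' : J) (φ : k ⟶ k'), AlgSp.RepWith @IsClosedImmersion (Q.map φ))
    (cQ : Cone Q) (hcQ : IsLimit cQ) (gQ : cQ.pt ⟶ Zs) (hgQ : ∀ k, cQ.π.app k ≫ q.app k = gQ)
    (hlft : ∀ k, AlgSp.RepWith @LocallyOfFiniteType (q.app k))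
    (hqc : ∀ k, AlgSp.RepWith @QuasiCompact (q.app k))
    (hqs : ∀ k, AlgSp.RepWith @QuasiSeparated (q.app k))
    (hg : AlgSp.RepWith @IsClosedImmersion gQ) :
    ∃ k, AlgSp.RepWith @IsClosedImmersion (q.app k) := by
  obtain ⟨V, v, hV, hve, hvs⟩ := Groth.Agent.S10180.exists_affine_chart hZqc
  haveI : IsAffine V.left := hV
  choose W w fst sq using fun k => (hlft k).1 v
  let P : PbSysT Q q v := ⟨W, w, fst, sq⟩
  obtain ⟨Wl, wl, fstl, sql⟩ := hg.1 v
  obtain ⟨L, ⟨hL⟩, e, he⟩ := P.exists_limCone cQ hcQ gQ hgQ wl fstl sql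
  haveI : IsConnected J := IsCofiltered.isConnected J
  have hLs : IsLimit ((Over.forget S).mapCone L) := isLimitOfPreserves _ hL
  -- the system of schemes over `V`
  let t' : (P.functor ⋙ Over.forget S) ⟶ (Functor.const J).obj V.left :=
    { app := fun k => (w k).left
      naturality := by
        intro k k' ψ
        change (P.trans ψ).left ≫ (w k').left = (w k).left ≫ 𝟙 _
        rw [Category.comp_id, ← Over.comp_left]
        exact congrArg (fun m => m.left) (P.trans_w ψ) }
  haveI : ∀ (k k' : J) (ψ : k ⟶ k'), IsClosedImmersion ((P.functor ⋙ Over.forget S).map ψ) := by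
    intro k k' ψ
    exact (hQc k k' ψ).2 (fst k') (fst k) (P.trans ψ) (P.trans_isPullback ψ).flip
  have hwqc : ∀ k, QuasiCompact (w k).left := fun k => (hqc k).2 v (fst k) (w k) (sq k)
  have hwqs : ∀ k, QuasiSeparated (w k).left := fun k => (hqs k).2 v (fst k) (w k) (sq k)
  haveI : ∀ k, CompactSpace ((P.functor ⋙ Over.forget S).obj k) := fun k => by
    haveI := hwqc k
    show CompactSpace (W k).left
    exact QuasiCompact.compactSpace_of_compactSpace (w k).left
  haveI : ∀ k, QuasiSeparatedSpace ((P.functor ⋙ Over.forget S).obj k) := fun k => by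
    haveI := hwqs k
    show QuasiSeparatedSpace (W k).left
    exact quasiSeparatedSpace_of_quasiSeparated (w k).left
  haveI : ∀ k, LocallyOfFiniteType (t'.app k) := fun k => (hlft k).2 v (fst k) (w k) (sq k)
  let k₀ : J := (IsCofiltered.nonempty (C := J)).some
  haveI : IsClosedImmersion wl.left := hg.2 v fstl wl sql
  haveI : IsIso e.hom.left := by
    have : IsIso ((Over.forget S).map e.hom) := inferInstance
    exact this
  haveI : IsClosedImmersion (((Over.forget S).mapCone L).π.app k₀ ≫ t'.app k₀) := by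
    have h1 : ((Over.forget S).mapCone L).π.app k₀ ≫ t'.app k₀ = e.hom.left ≫ wl.left := by
      change (L.π.app k₀).left ≫ (w k₀).left = e.hom.left ≫ wl.left
      rw [← Over.comp_left, ← Over.comp_left]
      exact congrArg (fun m => m.left) (he k₀)
    rw [h1]
    exact IsClosedImmersion.comp e.hom.left wl.left
  obtain ⟨k, hk⟩ := Groth.Agent.S0594.result V.left (P.functor ⋙ Over.forget S) t'
    ((Over.forget S).mapCone L) hLs k₀
  refine ⟨k, ?_⟩
  have hcov := Groth.Agent.Lib.H5bLimDesc.isFpqcCover_chart hZ v hve hvs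
  refine ((Groth.Agent.S10534.result S) (fun _ : PUnit.{u + 1} => (AlgSp.yon S).obj V)
    (fun _ => v) hZ (fun _ => AlgSp.IsAlgSpace.yon_obj _) hcov (q.app k) (hQ k)
    (fun _ => (AlgSp.yon S).obj (W k)) (fun _ => (AlgSp.yon S).map (w k)) (fun _ => fst k)
    (fun _ => AlgSp.IsAlgSpace.yon_obj _) (fun _ => sq k)).2 ?_
  intro _
  exact (AlgSp.repWith_yon_map_iff @IsClosedImmersion (w k)).2 hk

end Groth.Agent.Lib.H5bLimSep
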