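import Mathlib
import Groth.Agent.Lib.H5bLimMonoA

/-!
# The system of fibre squares `X_i ×_Y X_i` of a system over `Y` (helper5)
-/

set_option autoImplicit false
set_option linter.unusedVariables false
set_option linter.unusedSectionVars false
universe v w u

open CategoryTheory CategoryTheory.Limits

namespace Groth.Agent.Lib.H5bLimSep

variable {C : Type u} [Category.{v} C] [HasPullbacks C]

/-- the kernel pair of `p : X ⟶ X'` maps to the kernel pair of `g = p ≫ t'` by a base change of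
the diagonal of `t'`. -/
theorem kp_sq {X X' Y : C} (p p' : X ⟶ X') (hp : p = p') (t' : X' ⟶ Y) (g : X ⟶ Y)
    (h : p ≫ t' = g) :
    IsPullback (pullback.fst p p ≫ p)
      (pullback.lift (pullback.fst p p) (pullback.snd p p)
        (by rw [← h, ← Category.assoc, ← Category.assoc, pullback.condition]) :
        pullback p p ⟶ pullback g g)
      (pullback.diagonal t')
      (pullback.map g g t' t' p' p' (𝟙 Y) (by rw [Category.comp_id, ← hp, h])
        (by rw [Category.comp_id, ← hp, h])) := by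
  subst hp
  subst h
  have := pullback_map_diagonal_isPullback p p t'
  have e : (pullback.lift (pullback.fst p p) (pullback.snd p p)
      (by rw [← Category.assoc, ← Category.assoc, pullback.condition]) :
      pullback p p ⟶ pullback (p ≫ t') (p ≫ t')) =
      pullback.map p p (p ≫ t') (p ≫ t') (𝟙 _) (𝟙 _) t' (Category.id_comp _).symm
        (Category.id_comp _).symm := by
    apply pullback.hom_ext
    · rw [pullback.lift_fst, pullback.lift_fst, Category.comp_id]
    · rw [pullback.lift_snd, pullback.lift_snd, Category.comp_id]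
  rw [e]
  exact this

lemma diagonal_comp_lift {X X' Y : C} (p : X ⟶ X') (t' : X' ⟶ Y) (g : X ⟶ Y) (h : p ≫ t' = g) :
    pullback.diagonal p ≫ (pullback.lift (pullback.fst p p) (pullback.snd p p)
        (by rw [← h, ← Category.assoc, ← Category.assoc, pullback.condition]) :
        pullback p p ⟶ pullback g g) = pullback.diagonal g := by
  apply pullback.hom_ext
  · rw [Category.assoc, pullback.lift_fst, pullback.diagonal_fst, pullback.diagonal_fst]
  · rw [Category.assoc, pullback.lift_snd, pullback.diagonal_snd, pullback.diagonal_snd]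

variable {I : Type w} [Category.{w} I] (D : I ⥤ C) {Y : C} (τ : ∀ i, D.obj i ⟶ Y)
  (hτ : ∀ {i j : I} (φ : i ⟶ j), D.map φ ≫ τ j = τ i)

/-- `X_i ×_Y X_i`. -/
noncomputable def dzObj (i : I) : C := pullback (τ i) (τ i)

noncomputable def dzFst (i : I) : dzObj D τ i ⟶ D.obj i := pullback.fst _ _

noncomputable def dzSnd (i : I) : dzObj D τ i ⟶ D.obj i := pullback.snd _ _

lemma dz_condition (i : I) : dzFst D τ i ≫ τ i = dzSnd D τ i ≫ τ i := pullback.condition

variable {D τ} in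
lemma dz_hom_ext {i : I} {T : C} {a b : T ⟶ dzObj D τ i}
    (h1 : a ≫ dzFst D τ i = b ≫ dzFst D τ i) (h2 : a ≫ dzSnd D τ i = b ≫ dzSnd D τ i) :
    a = b := pullback.hom_ext h1 h2

noncomputable def dzLift (i : I) {T : C} (a b : T ⟶ D.obj i) (h : a ≫ τ i = b ≫ τ i) :
    T ⟶ dzObj D τ i := pullback.lift a b h

@[simp] lemma dzLift_fst (i : I) {T : C} (a b : T ⟶ D.obj i) (h : a ≫ τ i = b ≫ τ i) :
    dzLift D τ i a b h ≫ dzFst D τ i = a := pullback.lift_fst _ _ _

@[simp] lemma dzLift_snd (i : I) {T : C} (a b : T ⟶ D.obj i) (h : a ≫ τ i = b ≫ τ i) :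
    dzLift D τ i a b h ≫ dzSnd D τ i = b := pullback.lift_snd _ _ _

include hτ in
lemma dz_condition' {i j : I} (φ : i ⟶ j) :
    (dzFst D τ i ≫ D.map φ) ≫ τ j = (dzSnd D τ i ≫ D.map φ) ≫ τ j := by
  rw [Category.assoc, Category.assoc, hτ φ, dz_condition]

noncomputable def dzMap {i j : I} (φ : i ⟶ j) : dzObj D τ i ⟶ dzObj D τ j :=
  dzLift D τ j (dzFst D τ i ≫ D.map φ) (dzSnd D τ i ≫ D.map φ) (dz_condition' D τ hτ φ)

@[simp] lemma dzMap_fst {i j : I} (φ : i ⟶ j) :
    dzMap D τ hτ φ ≫ dzFst D τ j = dzFst D τ i ≫ D.map φ := dzLift_fst _ _ _ _ _ _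

@[simp] lemma dzMap_snd {i j : I} (φ : i ⟶ j) :
    dzMap D τ hτ φ ≫ dzSnd D τ j = dzSnd D τ i ≫ D.map φ := dzLift_snd _ _ _ _ _ _

/-- the system `X_i ×_Y X_i`. -/
noncomputable def dz : I ⥤ C where
  obj i := dzObj D τ i
  map {i j} φ := dzMap D τ hτ φ
  map_id i := by
    apply dz_hom_ext
    · rw [dzMap_fst, D.map_id, Category.comp_id, Category.id_comp]
    · rw [dzMap_snd, D.map_id, Category.comp_id, Category.id_comp]
  map_comp φ ψ := by
    apply dz_hom_ext
    · rw [dzMap_fst, Category.assoc, dzMap_fst, ← Category.assoc, dzMap_fst, Category.assoc,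
        D.map_comp]
    · rw [dzMap_snd, Category.assoc, dzMap_snd, ← Category.assoc, dzMap_snd, Category.assoc,
        D.map_comp]

lemma dz_obj (i : I) : (dz D τ hτ).obj i = pullback (τ i) (τ i) := rfl

lemma dz_map {i j : I} (φ : i ⟶ j) : (dz D τ hτ).map φ =
    pullback.map (τ i) (τ i) (τ j) (τ j) (D.map φ) (D.map φ) (𝟙 Y)
    ((Category.comp_id _).trans (hτ φ).symm) ((Category.comp_id _).trans (hτ φ).symm) :=
  rfl

noncomputable def zFst (i : I) : (dz D τ hτ).obj i ⟶ D.obj i := dzFst D τ i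

noncomputable def zSnd (i : I) : (dz D τ hτ).obj i ⟶ D.obj i := dzSnd D τ i

lemma zFst_eq (i : I) : zFst D τ hτ i = pullback.fst (τ i) (τ i) := rfl

lemma zSnd_eq (i : I) : zSnd D τ hτ i = pullback.snd (τ i) (τ i) := rfl

lemma z_condition (i : I) : zFst D τ hτ i ≫ τ i = zSnd D τ hτ i ≫ τ i := dz_condition D τ i

variable {D τ hτ} in
lemma z_hom_ext {i : I} {T : C} {a b : T ⟶ (dz D τ hτ).obj i}
    (h1 : a ≫ zFst D τ hτ i = b ≫ zFst D τ hτ i) (h2 : a ≫ zSnd D τ hτ i = b ≫ zSnd D τ hτ i) :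
    a = b := dz_hom_ext h1 h2

@[simp] lemma map_zFst {i j : I} (φ : i ⟶ j) :
    (dz D τ hτ).map φ ≫ zFst D τ hτ j = zFst D τ hτ i ≫ D.map φ := dzMap_fst D τ hτ φ

@[simp] lemma map_zSnd {i j : I} (φ : i ⟶ j) :
    (dz D τ hτ).map φ ≫ zSnd D τ hτ j = zSnd D τ hτ i ≫ D.map φ := dzMap_snd D τ hτ φ

/-- the diagonal `X_i ⟶ X_i ×_Y X_i`. -/
noncomputable def zDiag (i : I) : D.obj i ⟶ (dz D τ hτ).obj i := pullback.diagonal (τ i)

lemma zDiag_eq (i : I) : zDiag D τ hτ i = pullback.diagonal (τ i) := rfl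

@[simp] lemma zDiag_fst (i : I) : zDiag D τ hτ i ≫ zFst D τ hτ i = 𝟙 _ :=
  pullback.diagonal_fst _

@[simp] lemma zDiag_snd (i : I) : zDiag D τ hτ i ≫ zSnd D τ hτ i = 𝟙 _ :=
  pullback.diagonal_snd _

/-- the diagonals form a natural transformation. -/
lemma zDiag_map {i j : I} (φ : i ⟶ j) :
    D.map φ ≫ zDiag D τ hτ j = zDiag D τ hτ i ≫ (dz D τ hτ).map φ := by
  apply z_hom_ext
  · rw [Category.assoc, zDiag_fst, Category.comp_id, Category.assoc, map_zFst, ← Category.assoc,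
      zDiag_fst, Category.id_comp]
  · rw [Category.assoc, zDiag_snd, Category.comp_id, Category.assoc, map_zSnd, ← Category.assoc,
      zDiag_snd, Category.id_comp]

variable (c : Cone D) (g : c.pt ⟶ Y) (hg : ∀ i, c.π.app i ≫ τ i = g)

/-- the leg `X ×_Y X ⟶ X_i ×_Y X_i`. -/
noncomputable def dzLeg (i : I) : pullback g g ⟶ dzObj D τ i :=
  dzLift D τ i (pullback.fst g g ≫ c.π.app i) (pullback.snd g g ≫ c.π.app i)
    (by rw [Category.assoc, Category.assoc, hg, pullback.condition])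

@[simp] lemma dzLeg_fst (i : I) :
    dzLeg D τ c g hg i ≫ dzFst D τ i = pullback.fst g g ≫ c.π.app i := dzLift_fst _ _ _ _ _ _

@[simp] lemma dzLeg_snd (i : I) :
    dzLeg D τ c g hg i ≫ dzSnd D τ i = pullback.snd g g ≫ c.π.app i := dzLift_snd _ _ _ _ _ _

/-- the cone `X ×_Y X ⟶ X_i ×_Y X_i`. -/
noncomputable def dzCone : Cone (dz D τ hτ) where
  pt := pullback g g
  π :=
    { app := fun i => dzLeg D τ c g hg i
      naturality := by
        intro i j φ
        change 𝟙 _ ≫ dzLeg D τ c g hg j = dzLeg D τ c g hg i ≫ dzMap D τ hτ φ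
        rw [Category.id_comp]
        apply dz_hom_ext
        · rw [dzLeg_fst, Category.assoc, dzMap_fst, ← Category.assoc, dzLeg_fst, Category.assoc,
            c.w]
        · rw [dzLeg_snd, Category.assoc, dzMap_snd, ← Category.assoc, dzLeg_snd, Category.assoc,
            c.w] }

lemma dzCone_pt : (dzCone D τ hτ c g hg).pt = pullback g g := rfl

lemma dzCone_π (i : I) : (dzCone D τ hτ c g hg).π.app i =
    pullback.map g g (τ i) (τ i) (c.π.app i) (c.π.app i) (𝟙 Y)
      ((Category.comp_id _).trans (hg i).symm) ((Category.comp_id _).trans (hg i).symm) := rfl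

noncomputable def cFst : (dzCone D τ hτ c g hg).pt ⟶ c.pt := pullback.fst g g

noncomputable def cSnd : (dzCone D τ hτ c g hg).pt ⟶ c.pt := pullback.snd g g

lemma c_condition : cFst D τ hτ c g hg ≫ g = cSnd D τ hτ c g hg ≫ g := pullback.condition

@[simp] lemma cone_zFst (i : I) : (dzCone D τ hτ c g hg).π.app i ≫ zFst D τ hτ i =
    cFst D τ hτ c g hg ≫ c.π.app i := dzLeg_fst D τ c g hg i

@[simp] lemma cone_zSnd (i : I) : (dzCone D τ hτ c g hg).π.app i ≫ zSnd D τ hτ i =
    cSnd D τ hτ c g hg ≫ c.π.app i := dzLeg_snd D τ c g hg i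

variable {D τ hτ c g hg} in
lemma c_hom_ext {T : C} {a b : T ⟶ (dzCone D τ hτ c g hg).pt}
    (h1 : a ≫ cFst D τ hτ c g hg = b ≫ cFst D τ hτ c g hg)
    (h2 : a ≫ cSnd D τ hτ c g hg = b ≫ cSnd D τ hτ c g hg) : a = b := pullback.hom_ext h1 h2

noncomputable def cLift {T : C} (a b : T ⟶ c.pt) (h : a ≫ g = b ≫ g) :
    T ⟶ (dzCone D τ hτ c g hg).pt := pullback.lift a b h

@[simp] lemma cLift_fst {T : C} (a b : T ⟶ c.pt) (h : a ≫ g = b ≫ g) :
    cLift D τ hτ c g hg a b h ≫ cFst D τ hτ c g hg = a := pullback.lift_fst _ _ _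

@[simp] lemma cLift_snd {T : C} (a b : T ⟶ c.pt) (h : a ≫ g = b ≫ g) :
    cLift D τ hτ c g hg a b h ≫ cSnd D τ hτ c g hg = b := pullback.lift_snd _ _ _

theorem nonempty_isLimit_dzCone [IsCofiltered I] (hc : IsLimit c) :
    Nonempty (IsLimit (dzCone D τ hτ c g hg)) := by
  refine ⟨IsLimit.ofExistsUnique fun s => ?_⟩
  have hs : ∀ {i j : I} (φ : i ⟶ j), s.π.app i ≫ (dz D τ hτ).map φ = s.π.app j := fun φ => s.w φ
  let s1 : Cone D :=
    { pt := s.pt
      π :=
        { app := fun i => s.π.app i ≫ zFst D τ hτ i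
          naturality := by
            intro i j φ
            change 𝟙 _ ≫ s.π.app j ≫ zFst D τ hτ j = (s.π.app i ≫ zFst D τ hτ i) ≫ D.map φ
            rw [Category.id_comp, ← hs φ, Category.assoc, map_zFst, Category.assoc] } }
  let s2 : Cone D :=
    { pt := s.pt
      π :=
        { app := fun i => s.π.app i ≫ zSnd D τ hτ i
          naturality := by
            intro i j φ
            change 𝟙 _ ≫ s.π.app j ≫ zSnd D τ hτ j = (s.π.app i ≫ zSnd D τ hτ i) ≫ D.map φ
            rw [Category.id_comp, ← hs φ, Category.assoc, map_zSnd, Category.assoc] } }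
  let a : s.pt ⟶ c.pt := hc.lift s1
  let b : s.pt ⟶ c.pt := hc.lift s2
  have ha : ∀ i, a ≫ c.π.app i = s.π.app i ≫ zFst D τ hτ i := fun i => hc.fac s1 i
  have hb : ∀ i, b ≫ c.π.app i = s.π.app i ≫ zSnd D τ hτ i := fun i => hc.fac s2 i
  let i₀ : I := (IsCofiltered.nonempty (C := I)).some
  have hab : a ≫ g = b ≫ g := by
    rw [← hg i₀, ← Category.assoc, ha, ← Category.assoc, hb, Category.assoc, Category.assoc,
      z_condition]
  refine ⟨cLift D τ hτ c g hg a b hab, ?_, ?_⟩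
  · intro i
    apply z_hom_ext
    · rw [Category.assoc, cone_zFst, ← Category.assoc, cLift_fst, ha]
    · rw [Category.assoc, cone_zSnd, ← Category.assoc, cLift_snd, hb]
  · intro m hm
    apply c_hom_ext
    · rw [cLift_fst]
      apply hc.hom_ext
      intro i
      rw [ha, ← hm i, Category.assoc, Category.assoc, cone_zFst]
    · rw [cLift_snd]
      apply hc.hom_ext
      intro i
      rw [hb, ← hm i, Category.assoc, Category.assoc, cone_zSnd]

section kq

open Groth.Agent.Lib.H5bLimMono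

include hg in
lemma kq_condition (i : I) : pFst D c (𝟙 c.pt) i ≫ g = pSnd D c (𝟙 c.pt) i ≫ g := by
  have h := p_condition D c (𝟙 c.pt) i
  rw [Category.id_comp] at h
  rw [← hg i, ← Category.assoc, h, Category.assoc]

/-- the comparison `X ×_{X_i} X ⟶ X ×_Y X`. -/
noncomputable def kq (i : I) :
    (kpFunctor D c (𝟙 c.pt)).obj i ⟶ (dzCone D τ hτ c g hg).pt :=
  cLift D τ hτ c g hg (pFst D c (𝟙 c.pt) i) (pSnd D c (𝟙 c.pt) i) (kq_condition D τ c g hg i)

@[simp] lemma kq_fst (i : I) :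
    kq D τ hτ c g hg i ≫ cFst D τ hτ c g hg = pFst D c (𝟙 c.pt) i := cLift_fst _ _ _ _ _ _ _ _ _

@[simp] lemma kq_snd (i : I) :
    kq D τ hτ c g hg i ≫ cSnd D τ hτ c g hg = pSnd D c (𝟙 c.pt) i := cLift_snd _ _ _ _ _ _ _ _ _

lemma kq_nat {i j : I} (φ : i ⟶ j) :
    (kpFunctor D c (𝟙 c.pt)).map φ ≫ kq D τ hτ c g hg j = kq D τ hτ c g hg i := by
  apply c_hom_ext
  · rw [Category.assoc, kq_fst, kq_fst, map_pFst]
  · rw [Category.assoc, kq_snd, kq_snd, map_pSnd]

lemma kq_cone (i : I) :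
    (kpCone D c (𝟙 c.pt)).π.app i ≫ kq D τ hτ c g hg i = pullback.diagonal g := by
  apply c_hom_ext
  · rw [Category.assoc, kq_fst]
    exact (pDiag_pFst D c (𝟙 c.pt) i).trans (pullback.diagonal_fst g).symm
  · rw [Category.assoc, kq_snd]
    exact (pDiag_pSnd D c (𝟙 c.pt) i).trans (pullback.diagonal_snd g).symm

/-- `kq i` is a base change of the diagonal of `τ i`. -/
theorem kq_sq (i : I) :
    IsPullback (pFst D c (𝟙 c.pt) i ≫ 𝟙 c.pt ≫ c.π.app i) (kq D τ hτ c g hg i)
      (zDiag D τ hτ i) ((dzCone D τ hτ c g hg).π.app i) :=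
  kp_sq (𝟙 c.pt ≫ c.π.app i) (c.π.app i) (Category.id_comp _) (τ i) g
    (by rw [Category.id_comp]; exact hg i)

end kq

/-- the comparison `X_i ×_{X_k} X_i ⟶ X_i ×_Y X_i`. -/
noncomputable def relLift {i k : I} (φ : i ⟶ k) :
    pullback (D.map φ) (D.map φ) ⟶ (dz D τ hτ).obj i :=
  pullback.lift (pullback.fst _ _) (pullback.snd _ _)
    (by rw [← hτ φ, ← Category.assoc, ← Category.assoc, pullback.condition])

theorem relLift_sq {i k : I} (φ : i ⟶ k) :
    IsPullback (pullback.fst (D.map φ) (D.map φ) ≫ D.map φ) (relLift D τ hτ φ)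
      (zDiag D τ hτ k) ((dz D τ hτ).map φ) :=
  kp_sq (D.map φ) (D.map φ) rfl (τ k) (τ i) (hτ φ)

lemma diagonal_relLift {i k : I} (φ : i ⟶ k) :
    pullback.diagonal (D.map φ) ≫ relLift D τ hτ φ = zDiag D τ hτ i :=
  diagonal_comp_lift (D.map φ) (τ k) (τ i) (hτ φ)

end Groth.Agent.Lib.H5bLimSep
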