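import Mathlib
import Groth.Agent.Lib.H5bLimSepA
import Groth.Agent.Lib.H5bLimSepB
import Groth.Agent.Lib.H5bLimDescE
import Groth.Agent.Lib.Helper12OpenSub2
import Groth.Agent.S9189
import Groth.Agent.S9900
import Groth.Agent.S9905
import Groth.Agent.S9920
import Groth.Agent.S9941
import Groth.Agent.S10004
import Groth.Agent.S10132

/-!
# Separatedness of the stages of a cofiltered limit of algebraic spaces over `Y` (helper5)
-/

set_option autoImplicit false
set_option linter.style.haveILetI false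
set_option linter.unusedVariables false
set_option linter.unusedSectionVars false
universe u

open CategoryTheory CategoryTheory.Limits AlgebraicGeometry MorphismProperty
open AlgSp

namespace Groth.Agent.Lib.H5bLimSep

open Groth.Agent.Lib.H5bLimSp Groth.Agent.Lib.H5bLimMono

variable {S : Scheme.{u}}

/-- the relative diagonal of a morphism from a quasi-separated space is quasi-compact. -/
lemma repWith_qc_diagonal {X₀ Y₀ : AlgSp.Sp S} (f₀ : X₀ ⟶ Y₀)
    (hX : AlgSp.IsQuasiSeparatedSp X₀) : AlgSp.RepWith @QuasiCompact (pullback.diagonal f₀) := by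
  let j : pullback f₀ f₀ ⟶ X₀ ⨯ X₀ := prod.lift (pullback.fst f₀ f₀) (pullback.snd f₀ f₀)
  haveI : Mono j := by
    constructor
    intro T a b hab
    apply pullback.hom_ext
    · have h1 : (a ≫ j) ≫ prod.fst = (b ≫ j) ≫ prod.fst := by rw [hab]
      rw [Category.assoc, Category.assoc, prod.lift_fst] at h1
      exact h1
    · have h1 : (a ≫ j) ≫ prod.snd = (b ≫ j) ≫ prod.snd := by rw [hab]
      rw [Category.assoc, Category.assoc, prod.lift_snd] at h1
      exact h1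
  have e : pullback.diagonal f₀ ≫ j = Limits.diag X₀ := by
    apply Limits.prod.hom_ext <;> simp [j]
  have h1 : IsPullback (𝟙 X₀) (pullback.diagonal f₀) (pullback.diagonal f₀)
      (𝟙 (pullback f₀ f₀)) := IsPullback.of_horiz_isIso ⟨by simp⟩
  have h2 : IsPullback (𝟙 (pullback f₀ f₀)) (𝟙 (pullback f₀ f₀)) j j := IsKernelPair.id_of_mono j
  have sq := h1.paste_vert h2
  rw [Category.comp_id, e] at sq
  exact MorphismProperty.of_isPullback (P := AlgSp.RepWith @QuasiCompact) sq hX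

/-- an affine morphism of algebraic spaces is separated. -/
lemma isSeparatedMor_of_isAffineMor {X Y : AlgSp.Sp S} (hX : AlgSp.IsAlgSpace X)
    (hY : AlgSp.IsAlgSpace Y) (f : X ⟶ Y) (hf : AlgSp.IsAffineMor f) :
    AlgSp.IsSeparatedMor f := by
  have h1 : AlgSp.RepWith @IsAffineHom f :=
    Groth.Agent.S9941.result (X := ⟨X, hX⟩) (Y := ⟨Y, hY⟩) (ObjectProperty.homMk f) hf
  have h2 : AlgSp.RepWith @IsSeparated f :=
    Groth.Agent.Lib.Helper12.OpenSub.repWith_mono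
      (fun _ _ g hg => by haveI : IsAffineHom g := hg; infer_instance) h1
  exact ((Groth.Agent.S9905.result (X := ⟨X, hX⟩) (Y := ⟨Y, hY⟩) (ObjectProperty.homMk f)
    h1.1).1).2 h2

/-- the limit of a system of quasi-compact algebraic spaces with affine transitions is
quasi-compact. -/
lemma isQuasiCompactSp_limit {I : Type u} [SmallCategory I] [IsCofiltered I]
    (D : I ⥤ AlgSp.Sp S) (hDa : ∀ (i j : I) (φ : i ⟶ j), AlgSp.IsAffineMor (D.map φ))
    (c : Cone D) (hc : IsLimit c) (i₀ : I) (hqc : AlgSp.IsQuasiCompactSp (D.obj i₀)) :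
    AlgSp.IsQuasiCompactSp c.pt := by
  obtain ⟨U₀, u₀, hU₀, hu₀e, hu₀s⟩ := Groth.Agent.S10180.exists_affine_chart hqc
  have hex : ∀ k : Over i₀, ∃ (W : Over S) (w : W ⟶ U₀)
      (fst : (AlgSp.yon S).obj W ⟶ D.obj k.left),
      IsPullback fst ((AlgSp.yon S).map w) (D.map k.hom) u₀ ∧ IsAffine W.left :=
    fun k => hDa _ _ k.hom hU₀ u₀
  choose W w fst sqk hW using hex
  let Pb : PbSystem D i₀ u₀ := ⟨W, w, fst, sqk⟩
  obtain ⟨L, ⟨hL⟩, hLaff⟩ := exists_limit_affine Pb.functor hW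
  obtain ⟨fstL, iW, hpb, -, -⟩ := Pb.isPullback_of_isLimit hc L hL
  haveI : IsAffine L.pt.left := hLaff
  exact ⟨L.pt, fstL, MorphismProperty.of_isPullback (P := AlgSp.RepWith @Etale) hpb.flip hu₀e,
    MorphismProperty.of_isPullback (P := AlgSp.RepWith @Surjective) hpb.flip hu₀s, inferInstance⟩

/-- Let `X = lim X_i` be a cofiltered limit of quasi-compact quasi-separated algebraic spaces over
a quasi-separated algebraic space `Y`, with affine transitions. If `X ⟶ Y` is separated, so are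
the `X_i ⟶ Y` for `i` large. -/
theorem eventually_isSeparatedMor (S : Scheme.{u}) [QuasiSeparatedSpace S] {I : Type u}
    [SmallCategory I] [IsCofiltered I]
    (Y : AlgSp.Space S) (D : I ⥤ AlgSp.Sp S) (hD : ∀ i, AlgSp.IsAlgSpace (D.obj i))
    (τ : ∀ i, D.obj i ⟶ Y.obj) (hτ : ∀ {i j : I} (φ : i ⟶ j), D.map φ ≫ τ j = τ i)
    (hDa : ∀ (i j : I) (φ : i ⟶ j), AlgSp.IsAffineMor (D.map φ))
    (c : Cone D) (hc : IsLimit c) (g : c.pt ⟶ Y.obj) (hg : ∀ i, c.π.app i ≫ τ i = g)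
    (hqc : ∀ i, AlgSp.IsQuasiCompactSp (D.obj i)) (hqs : ∀ i, AlgSp.IsQuasiSeparatedSp (D.obj i))
    (hYqs : AlgSp.IsQuasiSeparatedSp Y.obj) (hX : AlgSp.IsSeparatedMor g) :
    ∃ i₀ : I, ∀ (i : I) (_ : i ⟶ i₀), AlgSp.IsSeparatedMor (τ i) := by
  have hXalg : AlgSp.IsAlgSpace c.pt := (Groth.Agent.S10004.result S D hD hDa c hc).1
  have hXqc : AlgSp.IsQuasiCompactSp c.pt :=
    isQuasiCompactSp_limit D hDa c hc (IsCofiltered.nonempty (C := I)).some (hqc _)
  -- the system `Z_i = X_i ×_Y X_i` and its limit `Z = X ×_Y X`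
  have hD' : ∀ i, AlgSp.IsAlgSpace ((dz D τ hτ).obj i) := fun i =>
    Groth.Agent.S9874.isAlgSpace_of_isPullback Y.property.diag (hD i) (hD i)
      (IsPullback.of_hasPullback (τ i) (τ i))
  have hD'a : ∀ (i j : I) (φ : i ⟶ j), AlgSp.IsAffineMor ((dz D τ hτ).map φ) := by
    intro i j φ
    have h1 : AlgSp.RepWith @IsAffineHom (D.map φ) :=
      Groth.Agent.S9941.result (X := ⟨D.obj i, hD i⟩) (Y := ⟨D.obj j, hD j⟩)
        (ObjectProperty.homMk (D.map φ)) (hDa i j φ)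
    rw [dz_map]
    exact Groth.Agent.S10132.isAffineMor_of_repWith _
      ((AlgSp.RepWith @IsAffineHom).pullbackMap h1 h1 (hτ φ).symm (hτ φ).symm)
  obtain ⟨hc'⟩ := nonempty_isLimit_dzCone D τ hτ c g hg hc
  have hZalg : AlgSp.IsAlgSpace (dzCone D τ hτ c g hg).pt :=
    Groth.Agent.S9874.isAlgSpace_of_isPullback Y.property.diag hXalg hXalg
      (IsPullback.of_hasPullback g g)
  have hZqc : AlgSp.IsQuasiCompactSp (dzCone D τ hτ c g hg).pt :=
    (Groth.Agent.S9920.isQuasiCompactMor_of_qc_qs hXalg Y.property g hXqc hYqs) hXalg hXqc g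
      (pullback.fst g g) (pullback.snd g g) (IsPullback.of_hasPullback g g)
  have hD'qc : ∀ i, AlgSp.IsQuasiCompactSp ((dz D τ hτ).obj i) := fun i =>
    (Groth.Agent.S9920.isQuasiCompactMor_of_qc_qs (hD i) Y.property (τ i) (hqc i) hYqs) (hD i)
      (hqc i) (τ i) (pullback.fst (τ i) (τ i)) (pullback.snd (τ i) (τ i))
      (IsPullback.of_hasPullback (τ i) (τ i))
  -- the diagonals
  have hΔ : ∀ i, AlgSp.RepWith @LocallyOfFiniteType (zDiag D τ hτ i) ∧
      AlgSp.RepWith @QuasiCompact (zDiag D τ hτ i) ∧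
      AlgSp.RepWith @QuasiSeparated (zDiag D τ hτ i) := by
    intro i
    have h9900 := Groth.Agent.S9900.result (X := ⟨D.obj i, hD i⟩) (Y := Y)
      (ObjectProperty.homMk (τ i))
    exact ⟨h9900.2.1, repWith_qc_diagonal (τ i) (hqs i),
      Groth.Agent.Lib.Helper12.OpenSub.repWith_mono
        (fun _ _ g hg => by haveI : Mono g := hg; infer_instance) h9900.2.2.1⟩
  -- the system of kernel pairs of the projections
  have hQ : ∀ i, AlgSp.IsAlgSpace ((kpFunctor D c (𝟙 c.pt)).obj i) := fun i =>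
    Groth.Agent.S9874.isAlgSpace_of_isPullback (hD i).diag hXalg hXalg
      (IsPullback.of_hasPullback (𝟙 c.pt ≫ c.π.app i) (𝟙 c.pt ≫ c.π.app i))
  have hsep : ∀ (i j : I) (φ : i ⟶ j), AlgSp.IsSeparatedMor (D.map φ) := fun i j φ =>
    isSeparatedMor_of_isAffineMor (hD i) (hD j) (D.map φ) (hDa i j φ)
  have hQc : ∀ (i j : I) (φ : i ⟶ j),
      AlgSp.RepWith @IsClosedImmersion ((kpFunctor D c (𝟙 c.pt)).map φ) := by
    intro i j φ
    rw [kpFunctor_map_eq]
    exact MorphismProperty.of_isPullback (P := AlgSp.RepWith @IsClosedImmersion)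
      (diag_bc (𝟙 c.pt ≫ c.π.app i) (D.map φ) (𝟙 c.pt ≫ c.π.app j)
        (by rw [Category.assoc, c.w])) (hsep i j φ)
  obtain ⟨hQlim⟩ := nonempty_isLimit_kpCone D c (𝟙 c.pt) hc
  let q : kpFunctor D c (𝟙 c.pt) ⟶ (Functor.const I).obj (dzCone D τ hτ c g hg).pt :=
    { app := fun i => kq D τ hτ c g hg i
      naturality := fun i j φ => (kq_nat D τ hτ c g hg φ).trans (Category.comp_id _).symm }
  have hqP : ∀ (P : MorphismProperty Scheme.{u}) (i : I), AlgSp.RepWith P (zDiag D τ hτ i) →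
      AlgSp.RepWith P (q.app i) := fun P i h =>
    MorphismProperty.of_isPullback (P := AlgSp.RepWith P) (kq_sq D τ hτ c g hg i) h
  obtain ⟨k, hk⟩ := closedImmersion_of_limit S (dzCone D τ hτ c g hg).pt hZalg hZqc
    (kpFunctor D c (𝟙 c.pt)) hQ q hQc (kpCone D c (𝟙 c.pt)) hQlim (pullback.diagonal g)
    (fun i => kq_cone D τ hτ c g hg i) (fun i => hqP _ i (hΔ i).1) (fun i => hqP _ i (hΔ i).2.1)
    (fun i => hqP _ i (hΔ i).2.2) hX
  -- descent to a stage
  have hlim : Groth.Agent.Lib.H5bLimDesc.SchemeDescendsF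
      (@IsClosedImmersion : MorphismProperty Scheme.{u}) @LocallyOfFiniteType := by
    intro J _ _ D' c' hc' _ j₀ _ X₀' Y₀' f₀' g₀' _ _ _ _ hF' X' Y' f' g' qY' qX' hY' hX' hPf
    haveI : LocallyOfFiniteType f₀' := hF'
    haveI : IsClosedImmersion f' := hPf
    exact Groth.Agent.S9189.result D' c' hc' j₀ f₀' g₀' f' g' qY' qX' hY' hX'
  let X₀ : AlgSp.Space S := ⟨D.obj k, hD k⟩
  let Y₀ : AlgSp.Space S := ⟨(dz D τ hτ).obj k, hD' k⟩
  obtain ⟨j, ψ, h⟩ := Groth.Agent.Lib.H5bLimDesc.descend_repWith @IsClosedImmersion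
    @LocallyOfFiniteType hlim S (Groth.Agent.S10534.result S) (dz D τ hτ) hD' hD'a
    (dzCone D τ hτ c g hg) hc' k X₀ Y₀ (zDiag D τ hτ k) (𝟙 _) (hD'qc k) (hΔ k).1 (hΔ k).2.1
    (hΔ k).2.2 ((kpFunctor D c (𝟙 c.pt)).obj k) (dzCone D τ hτ c g hg).pt (q.app k)
    ((dzCone D τ hτ c g hg).π.app k) (𝟙 _) (IsPullback.id_vert _)
    (pFst D c (𝟙 c.pt) k ≫ 𝟙 c.pt ≫ c.π.app k) (kq_sq D τ hτ c g hg k) hk
  refine ⟨j, fun i χ => ?_⟩
  have hbcs : Groth.Agent.Lib.H5bLimDesc.BCS (AlgSp.RepWith (S := S) @IsClosedImmersion) := by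
    intro X₁ Y₁ X₂ Y₂ hX₁ hY₁ hX₂ hY₂ a b a' b' sq ha
    exact MorphismProperty.of_isPullback (P := AlgSp.RepWith @IsClosedImmersion) sq ha
  have hi := Groth.Agent.Lib.H5bLimDesc.further (dz D τ hτ) hD' (X₀ := X₀) (Y₀ := Y₀)
    (zDiag D τ hτ k) (𝟙 _) hbcs ψ χ h (χ ≫ ψ) rfl
  have h1 : AlgSp.RepWith @IsClosedImmersion (relLift D τ hτ (χ ≫ ψ)) :=
    hi (pullback (D.map (χ ≫ ψ)) (D.map (χ ≫ ψ))) ((dz D τ hτ).obj i) (relLift D τ hτ (χ ≫ ψ))
      ((dz D τ hτ).map (χ ≫ ψ)) (𝟙 _) (IsPullback.id_vert _)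
      (pullback.fst (D.map (χ ≫ ψ)) (D.map (χ ≫ ψ)) ≫ D.map (χ ≫ ψ))
      (relLift_sq D τ hτ (χ ≫ ψ))
  have h2 : AlgSp.RepWith @IsClosedImmersion (pullback.diagonal (D.map (χ ≫ ψ))) :=
    hsep i k (χ ≫ ψ)
  have h3 := (AlgSp.RepWith (S := S) @IsClosedImmersion).comp_mem _ _ h2 h1
  rw [diagonal_relLift] at h3
  exact h3

end Groth.Agent.Lib.H5bLimSep
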