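import Mathlib
import Groth.Agent.Lib.H5bLimSepC
import Groth.Agent.Lib.H5bBootC
import Groth.Agent.S10011
import Groth.Agent.S10021
import Groth.Agent.S9912
import Groth.Agent.S9921
import Groth.Agent.S9928
import Groth.Agent.S9948
import Groth.Agent.S9960

/-!
# Closed immersions to the base in a cofiltered system with closed immersion transitions (helper5)
-/

set_option autoImplicit false
set_option linter.style.haveILetI false
set_option linter.unusedVariables false
set_option linter.unusedSectionVars false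
universe u

open CategoryTheory CategoryTheory.Limits AlgebraicGeometry MorphismProperty
open AlgSp

namespace Groth.Agent.Lib.H5bLimSep

open Groth.Agent.Lib.H5bLimSp Groth.Agent.Lib.H5bLimMono

variable {S : Scheme.{u}}

lemma isIso_of_eq' {C : Type*} [Category C] {A B : C} (f f' : A ⟶ B) (h : f = f')
    (hf' : IsIso f') : IsIso f := h ▸ hf'

/-- a representable monomorphism is representable by monomorphisms, hence quasi-separated. -/
lemma repWith_qs_of_mono {X Y : AlgSp.Sp S} (f : X ⟶ Y) [Mono f] (hf : AlgSp.Representable f) :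
    AlgSp.RepWith @QuasiSeparated f := by
  refine ⟨hf, fun U V g fst snd sq => ?_⟩
  haveI : Mono ((AlgSp.yon S).map snd) := sq.mono_snd_of_mono
  haveI : Mono snd := (AlgSp.yon S).mono_of_mono_map inferInstance
  haveI : Mono snd.left := inferInstance
  exact (inferInstance : QuasiSeparated snd.left)

/-- Let `X = lim X_i` be a cofiltered limit of quasi-compact quasi-separated algebraic spaces,
locally of finite type over a quasi-compact quasi-separated algebraic space `Y`, with closed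
immersion transitions. If `X ⟶ Y` is a closed immersion, so are the `X_i ⟶ Y` for `i` large. -/
theorem eventually_closedImmersion (S : Scheme.{u}) [QuasiSeparatedSpace S] {I : Type u}
    [SmallCategory I] [IsCofiltered I]
    (Y : AlgSp.Space S) (D : I ⥤ AlgSp.Sp S) (hD : ∀ i, AlgSp.IsAlgSpace (D.obj i))
    (τ : ∀ i, D.obj i ⟶ Y.obj) (hτ : ∀ {i j : I} (φ : i ⟶ j), D.map φ ≫ τ j = τ i)
    (hDc : ∀ (i j : I) (φ : i ⟶ j), AlgSp.RepWith @IsClosedImmersion (D.map φ))
    (c : Cone D) (hc : IsLimit c) (g : c.pt ⟶ Y.obj) (hg : ∀ i, c.π.app i ≫ τ i = g)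
    (hqc : ∀ i, AlgSp.IsQuasiCompactSp (D.obj i)) (hqs : ∀ i, AlgSp.IsQuasiSeparatedSp (D.obj i))
    (hYqc : AlgSp.IsQuasiCompactSp Y.obj) (hYqs : AlgSp.IsQuasiSeparatedSp Y.obj)
    (hft : ∀ i, AlgSp.LocP @LocallyOfFiniteType (τ i))
    (hX : AlgSp.RepWith @IsClosedImmersion g) :
    ∃ i₀ : I, ∀ (i : I) (_ : i ⟶ i₀), AlgSp.RepWith @IsClosedImmersion (τ i) := by
  have hDa : ∀ (i j : I) (φ : i ⟶ j), AlgSp.IsAffineMor (D.map φ) := fun i j φ =>
    Groth.Agent.S10132.isAffineMor_of_repWith _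
      (Groth.Agent.Lib.Helper12.OpenSub.repWith_mono
        (fun _ _ g hg => by haveI : IsClosedImmersion g := hg; infer_instance) (hDc i j φ))
  have hm : ∀ (i j : I) (φ : i ⟶ j), Mono (D.map φ) := fun i j φ =>
    Groth.Agent.S9928.mono_of_repWith @IsClosedImmersion
      (fun X Y g hg => by haveI : IsClosedImmersion g := hg; infer_instance) _ (hDc i j φ)
  have hπm : ∀ j, Mono (c.π.app j) := fun j => Groth.Agent.S10011.mono_π D hm c hc j
  haveI : Mono g := Groth.Agent.S9928.mono_of_repWith @IsClosedImmersion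
    (fun X Y g hg => by haveI : IsClosedImmersion g := hg; infer_instance) g hX
  have hXalg : AlgSp.IsAlgSpace c.pt := (Groth.Agent.S10004.result S D hD hDa c hc).1
  -- the system `Z_i = X_i ×_Y X_i` and its limit `Z = X ×_Y X`
  have hD' : ∀ i, AlgSp.IsAlgSpace ((dz D τ hτ).obj i) := fun i =>
    Groth.Agent.S9874.isAlgSpace_of_isPullback Y.property.diag (hD i) (hD i)
      (IsPullback.of_hasPullback (τ i) (τ i))
  have hD'a : ∀ (i j : I) (φ : i ⟶ j), AlgSp.IsAffineMor ((dz D τ hτ).map φ) := by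
    intro i j φ
    have h1 : AlgSp.RepWith @IsAffineHom (D.map φ) :=
      Groth.Agent.S9941.result (X := ⟨D.obj i, hD i⟩) (Y := ⟨D.obj j, hD j⟩)
        (ObjectProperty.homMk (D.map φ)) (hDa i j φ)
    rw [dz_map]
    exact Groth.Agent.S10132.isAffineMor_of_repWith _
      ((AlgSp.RepWith @IsAffineHom).pullbackMap h1 h1 (hτ φ).symm (hτ φ).symm)
  obtain ⟨hc'⟩ := nonempty_isLimit_dzCone D τ hτ c g hg hc
  have hD'qcqs : ∀ i, AlgSp.IsQuasiCompactSp ((dz D τ hτ).obj i) ∧
      AlgSp.IsQuasiSeparatedSp ((dz D τ hτ).obj i) := fun i =>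
    Groth.Agent.S9921.result (X := ⟨D.obj i, hD i⟩) (Y := Y) (Z := ⟨D.obj i, hD i⟩)
      (P := ⟨(dz D τ hτ).obj i, hD' i⟩) (ObjectProperty.homMk (τ i)) (ObjectProperty.homMk (τ i))
      (ObjectProperty.homMk (zFst D τ hτ i)) (ObjectProperty.homMk (zSnd D τ hτ i))
      (IsPullback.of_hasPullback (τ i) (τ i)) ⟨hqc i, hqs i⟩ ⟨hYqc, hYqs⟩ ⟨hqc i, hqs i⟩
  -- Step A: some `τ j` is a monomorphism
  let k : I := (IsCofiltered.nonempty (C := I)).some
  have hlfp : AlgSp.LocP @LocallyOfFinitePresentation (zDiag D τ hτ k) :=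
    (Groth.Agent.S9960.result (X := ⟨D.obj k, hD k⟩) (Y := Y) (ObjectProperty.homMk (τ k))
      (hft k)).1
  have hiso : IsIso (pullback.diagonal g) := (pullback.isIso_diagonal_iff g).2 inferInstance
  haveI : Mono (𝟙 c.pt ≫ c.π.app k) := by rw [Category.id_comp]; exact hπm k
  haveI : IsIso (pDiag D c (𝟙 c.pt) k) :=
    (pullback.isIso_diagonal_iff (𝟙 c.pt ≫ c.π.app k)).2 inferInstance
  have sqTop : IsPullback (c.π.app k) (pDiag D c (𝟙 c.pt) k) (𝟙 (D.obj k))
      (pFst D c (𝟙 c.pt) k ≫ 𝟙 c.pt ≫ c.π.app k) :=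
    IsPullback.of_vert_isIso ⟨by
      rw [Category.comp_id, ← Category.assoc, pDiag_pFst, Category.id_comp, Category.id_comp]⟩
  have sqX := sqTop.paste_vert (kq_sq D τ hτ c g hg k)
  rw [Category.id_comp] at sqX
  have e : pDiag D c (𝟙 c.pt) k ≫ kq D τ hτ c g hg k = pullback.diagonal g :=
    kq_cone D τ hτ c g hg k
  obtain ⟨fΔ, hfΔ⟩ : ∃ fΔ : c.pt ⟶ (dzCone D τ hτ c g hg).pt, fΔ = pullback.diagonal g :=
    ⟨_, rfl⟩
  rw [e, ← hfΔ] at sqX
  haveI : IsIso fΔ := isIso_of_eq' fΔ (pullback.diagonal g) hfΔ hiso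
  let X₀ : AlgSp.Space S := ⟨D.obj k, hD k⟩
  let Y₀ : AlgSp.Space S := ⟨(dz D τ hτ).obj k, hD' k⟩
  obtain ⟨j, ψ, h⟩ := Groth.Agent.S10021.result S (dz D τ hτ) hD' hD'a (dzCone D τ hτ c g hg) hc' k
    (hD'qcqs k).1 (hD'qcqs k).2 X₀ Y₀ (zDiag D τ hτ k) (𝟙 _) (hqc k) (hqs k) (hD'qcqs k).1
    (hD'qcqs k).2 c.pt (dzCone D τ hτ c g hg).pt fΔ
    ((dzCone D τ hτ c g hg).π.app k) (𝟙 _) (IsPullback.id_vert _) (c.π.app k) sqX hlfp
  haveI hrl : IsIso (relLift D τ hτ ψ) :=
    h (pullback (D.map ψ) (D.map ψ)) ((dz D τ hτ).obj j) (relLift D τ hτ ψ)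
      ((dz D τ hτ).map ψ) (𝟙 _) (IsPullback.id_vert _)
      (pullback.fst (D.map ψ) (D.map ψ) ≫ D.map ψ) (relLift_sq D τ hτ ψ)
  haveI := hm j k ψ
  haveI : IsIso (pullback.diagonal (D.map ψ)) :=
    (pullback.isIso_diagonal_iff (D.map ψ)).2 inferInstance
  have hzj : IsIso (zDiag D τ hτ j) := by
    rw [← diagonal_relLift D τ hτ ψ]; infer_instance
  haveI hmj : Mono (τ j) := (pullback.isIso_diagonal_iff (τ j)).1 hzj
  -- Step B: the system over `j`
  have hmono : ∀ o : Over j, Mono (τ o.left) := fun o => by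
    haveI := hm o.left j o.hom
    rw [← hτ o.hom]; exact mono_comp _ _
  have hrep : ∀ o : Over j, AlgSp.Representable (τ o.left) := fun o => by
    haveI : Mono (ObjectProperty.homMk (P := AlgSp.IsAlgSpace) (X := ⟨D.obj o.left, hD o.left⟩)
      (Y := Y) (τ o.left)).hom := hmono o
    exact (Groth.Agent.Lib.H5bBoot.mono_lft_consequences (X := ⟨D.obj o.left, hD o.left⟩) (Y := Y)
      (ObjectProperty.homMk (τ o.left)) (hft o.left)).1
  have hlft' : ∀ o : Over j, AlgSp.RepWith @LocallyOfFiniteType (τ o.left) := fun o =>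
    (Groth.Agent.S9948.locP_iff_repWith @LocallyOfFiniteType
      (fun g hg => by haveI := hg; exact (inferInstance : LocallyOfFiniteType g)) Y.property
      (τ o.left) (hrep o)).1 (hft o.left)
  have hqc' : ∀ o : Over j, AlgSp.RepWith @QuasiCompact (τ o.left) := fun o =>
    (Groth.Agent.S9912.result (X := ⟨D.obj o.left, hD o.left⟩) (Y := Y)
      (ObjectProperty.homMk (τ o.left)) (hrep o)).2
      (Groth.Agent.S9920.isQuasiCompactMor_of_qc_qs (hD o.left) Y.property (τ o.left)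
        (hqc o.left) hYqs)
  have hqs' : ∀ o : Over j, AlgSp.RepWith @QuasiSeparated (τ o.left) := fun o => by
    haveI := hmono o
    exact repWith_qs_of_mono (τ o.left) (hrep o)
  let q : (Over.forget j ⋙ D) ⟶ (Functor.const (Over j)).obj Y.obj :=
    { app := fun o => τ o.left
      naturality := fun o o' φ => (hτ φ.left).trans (Category.comp_id _).symm }
  have hcQ : IsLimit (c.whisker (Over.forget j)) :=
    (Functor.Initial.isLimitWhiskerEquiv (Over.forget j) c).symm hc
  obtain ⟨o, ho⟩ := closedImmersion_of_limit S Y.obj Y.property hYqc (Over.forget j ⋙ D)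
    (fun o => hD o.left) q (fun o o' φ => hDc _ _ φ.left) (c.whisker (Over.forget j)) hcQ g
    (fun o => hg o.left) hlft' hqc' hqs' hX
  refine ⟨o.left, fun i χ => ?_⟩
  rw [← hτ χ]
  exact (AlgSp.RepWith (S := S) @IsClosedImmersion).comp_mem _ _ (hDc i o.left χ) ho

end Groth.Agent.Lib.H5bLimSep
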