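import Mathlib
import Groth.Prelude.Def_AlgSp3
import Groth.Agent.Lib.H5bLimSp

/-!
# Cofiltered limits of affine schemes: reducedness, non-emptiness (helper5)

* `isReduced_of_isLimit`: a cofiltered limit of reduced affine schemes is reduced;
* `PbSystem.isReduced_of_isPullback`: if the schemes `W k` of a `PbSystem` are affine and reduced,
  then any scheme representing the base change of the projection from the limit is reduced;
* `PbSystem.nonempty_of_isPullback`: the same for non-emptiness.
-/

set_option autoImplicit false
set_option linter.unusedSectionVars false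
set_option linter.style.haveILetI false
universe u

namespace Groth.Agent.Lib.H5bLimSp

open CategoryTheory CategoryTheory.Limits AlgebraicGeometry AlgSp Opposite

/-- a cofiltered limit of reduced affine schemes is reduced. -/
theorem isReduced_of_isLimit {K : Type u} [SmallCategory K] [IsCofiltered K]
    (F : K ⥤ Scheme.{u}) (c : Cone F) (hc : IsLimit c) [∀ k, IsAffine (F.obj k)]
    [∀ k, IsReduced (F.obj k)] [IsAffine c.pt] : IsReduced c.pt := by
  haveI : _root_.IsReduced Γ(c.pt, ⊤) := by
    constructor
    intro s hs
    obtain ⟨n, hn⟩ := hs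
    obtain ⟨i, t, rfl⟩ := exists_appTop_π_eq_of_isAffine_of_isLimit F c hc s
    have h0 : (c.π.app i).appTop (t ^ n) = 0 := by rw [map_pow, hn]
    obtain ⟨j, f, hj⟩ := exists_appTop_map_eq_zero_of_isAffine_of_isLimit F c hc i (t ^ n) h0
    have h1 : (F.map f).appTop t = 0 := by
      rw [map_pow] at hj
      exact IsReduced.eq_zero _ ⟨n, hj⟩
    have h2 : c.π.app i = c.π.app j ≫ F.map f := (c.w f).symm
    rw [h2, Scheme.Hom.comp_appTop, CommRingCat.comp_apply, h1, map_zero]
  exact isReduced_of_isAffine_isReduced c.pt

variable {S : Scheme.{u}} {I : Type u} [SmallCategory I] [IsCofiltered I]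

namespace PbSystem

variable {D : I ⥤ AlgSp.Sp S} {i : I} {Z : Over S} {g : (yon S).obj Z ⟶ D.obj i}
  (P : PbSystem D i g)

/-- any scheme representing the base change of the projection from the limit is isomorphic to
the limit of the schemes of a `PbSystem`. -/
theorem exists_iso_of_isPullback {c : Cone D} (hc : IsLimit c) (L : Cone P.functor)
    (hL : IsLimit L) {W : Over S} (w : W ⟶ Z) (fst : (yon S).obj W ⟶ c.pt)
    (sq : IsPullback fst ((yon S).map w) (c.π.app i) g) : Nonempty (W ≅ L.pt) := by
  obtain ⟨fstL, iW, hpb, -, -⟩ := P.isPullback_of_isLimit hc L hL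
  exact ⟨(yon S).preimageIso (sq.isoIsPullback _ _ hpb)⟩

/-- if the schemes `W k` are affine and reduced, every scheme representing the base change of
the projection from the limit is reduced. -/
theorem isReduced_of_isPullback {c : Cone D} (hc : IsLimit c)
    (hPa : ∀ k, IsAffine (P.W k).left) (hPr : ∀ k, IsReduced (P.W k).left)
    {W : Over S} (w : W ⟶ Z) (fst : (yon S).obj W ⟶ c.pt)
    (sq : IsPullback fst ((yon S).map w) (c.π.app i) g) : IsReduced W.left := by
  obtain ⟨L, ⟨hL⟩, hLaff⟩ := exists_limit_affine P.functor hPa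
  obtain ⟨e⟩ := P.exists_iso_of_isPullback hc L hL w fst sq
  haveI : IsConnected (Over i) := IsCofiltered.isConnected (Over i)
  have hLs : IsLimit ((Over.forget S).mapCone L) := isLimitOfPreserves _ hL
  haveI : ∀ k, IsAffine ((P.functor ⋙ Over.forget S).obj k) := hPa
  haveI : ∀ k, IsReduced ((P.functor ⋙ Over.forget S).obj k) := hPr
  haveI : IsAffine ((Over.forget S).mapCone L).pt := hLaff
  haveI : IsReduced L.pt.left :=
    isReduced_of_isLimit (P.functor ⋙ Over.forget S) ((Over.forget S).mapCone L) hLs
  haveI : IsReduced ((Over.forget S).obj L.pt) := this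
  exact isReduced_of_isOpenImmersion ((Over.forget S).mapIso e).hom

/-- if the schemes `W k` are affine and non-empty, every scheme representing the base change of
the projection from the limit is non-empty. -/
theorem nonempty_of_isPullback {c : Cone D} (hc : IsLimit c)
    (hPa : ∀ k, IsAffine (P.W k).left) (hPn : ∀ k, Nonempty (P.W k).left)
    {W : Over S} (w : W ⟶ Z) (fst : (yon S).obj W ⟶ c.pt)
    (sq : IsPullback fst ((yon S).map w) (c.π.app i) g) : Nonempty W.left := by
  obtain ⟨L, ⟨hL⟩, hLaff⟩ := exists_limit_affine P.functor hPa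
  obtain ⟨e⟩ := P.exists_iso_of_isPullback hc L hL w fst sq
  haveI : IsConnected (Over i) := IsCofiltered.isConnected (Over i)
  have hLs : IsLimit ((Over.forget S).mapCone L) := isLimitOfPreserves _ hL
  haveI : ∀ k, CompactSpace ((P.functor ⋙ Over.forget S).obj k) := fun k => by
    haveI : IsAffine ((P.functor ⋙ Over.forget S).obj k) := hPa k
    infer_instance
  haveI : ∀ k, Nonempty ((P.functor ⋙ Over.forget S).obj k) := hPn
  haveI : ∀ {k k' : Over i} (ψ : k ⟶ k'), IsAffineHom ((P.functor ⋙ Over.forget S).map ψ) := by
    intro k k' ψ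
    haveI : IsAffine ((P.functor ⋙ Over.forget S).obj k) := hPa k
    haveI : IsAffine ((P.functor ⋙ Over.forget S).obj k') := hPa k'
    infer_instance
  have hne : Nonempty ((Over.forget S).mapCone L).pt :=
    Scheme.nonempty_of_isLimit (P.functor ⋙ Over.forget S) ((Over.forget S).mapCone L) hLs
  obtain ⟨x⟩ := hne
  exact ⟨((Over.forget S).mapIso e).inv.base x⟩

end PbSystem

end Groth.Agent.Lib.H5bLimSp
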