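import Mathlib
import Groth.Agent.Lib.H5bEtField
import Groth.Agent.Lib.Helper10MonoField
import Groth.Agent.Lib.Helper12EtSrc

/-!
# A monomorphism into a scheme étale over a field is étale over the field (helper5)
-/

set_option autoImplicit false
set_option linter.style.haveILetI false
universe u
open CategoryTheory CategoryTheory.Limits AlgebraicGeometry

namespace Groth.Agent.Lib.H5bMonoEt

/-- Let `F` be étale over a field `k` and `m : R ⟶ F` a monomorphism of schemes.  Then `R` is étale over `k`. -/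
theorem etale_comp_of_mono_field {R F : Scheme.{u}} {k : Type u} [Field k]
    (p : F ⟶ Spec (CommRingCat.of k)) [Etale p] (m : R ⟶ F) [Mono m] : Etale (m ≫ p) := by
  have key : ∀ r : R, ∃ (W : Scheme.{u}) (q : W ⟶ R), r ∈ Set.range q ∧ Etale q ∧
      Etale (q ≫ m ≫ p) := by
    intro r
    obtain ⟨K, _, ι, hr, het, -⟩ := Groth.Agent.Lib.H5bEtField.exists_field_chart p (m r)
    haveI := het
    haveI : Etale ι := Etale.of_comp ι p
    obtain ⟨s, hs⟩ := hr
    obtain ⟨z, hz1, hz2⟩ := Scheme.Pullback.exists_preimage_pullback r s hs.symm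
    haveI : Nonempty ↥(pullback m ι) := ⟨z⟩
    haveI : IsIso (pullback.snd m ι) :=
      Groth.Agent.Lib.Helper10.MonoField.isIso_of_mono_of_nonempty K (pullback.snd m ι)
    refine ⟨pullback m ι, pullback.fst m ι, ⟨z, hz1⟩, inferInstance, ?_⟩
    have e : pullback.fst m ι ≫ m ≫ p = pullback.snd m ι ≫ ι ≫ p := by
      rw [← Category.assoc, pullback.condition, Category.assoc]
    rw [e]
    infer_instance
  choose W q hq1 hq2 hq3 using key
  haveI : ∀ r, Etale (q r) := hq2
  have he : Etale (Sigma.desc q) :=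
    IsZariskiLocalAtSource.sigmaDesc (P := @Etale) (fun r => inferInstance)
  have hs : Surjective (Sigma.desc q) := by
    refine ⟨fun r => ?_⟩
    obtain ⟨w, hw⟩ := hq1 r
    refine ⟨(Sigma.ι W r) w, ?_⟩
    rw [← Scheme.Hom.comp_apply, Sigma.ι_desc]
    exact hw
  have e1 : Sigma.desc q ≫ m ≫ p = Sigma.desc (fun r => q r ≫ m ≫ p) := by
    apply Sigma.hom_ext
    intro r
    rw [Sigma.ι_desc_assoc, Sigma.ι_desc]
  have h3 : Etale (Sigma.desc q ≫ m ≫ p) := by
    rw [e1]
    exact IsZariskiLocalAtSource.sigmaDesc (P := @Etale) (fun r => hq3 r)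
  exact Groth.Agent.Lib.Helper12.EtSrc.etale_of_etale_cover_source (Sigma.desc q) (m ≫ p)

end Groth.Agent.Lib.H5bMonoEt
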