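import Mathlib
import Groth.Prelude.Def_AlgSpDec
import Groth.Agent.S9874
import Groth.Agent.Lib.Helper2NoethDesc
import Groth.Agent.Lib.Helper12FibreSpec

/-!
# Locally Noetherian fibres: descent along extensions of the field of the point (helper5)
-/

set_option autoImplicit false
set_option linter.style.haveILetI false
universe u
open CategoryTheory CategoryTheory.Limits AlgebraicGeometry

namespace Groth.Agent.Lib.H5bNoethFib

open AlgSp

variable {S : Scheme.{u}}

lemma flat_of_field {T : Scheme.{u}} (K : Type u) [Field K] (g : T ⟶ Spec (CommRingCat.of K)) :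
    Flat g := inferInstance

lemma quasiCompact_spec (A B : CommRingCat.{u}) (g : Spec A ⟶ Spec B) : QuasiCompact g :=
  inferInstance

/-- **descent of locally Noetherian fibres**: if the field point `p₁` factors through the field point `p₂` and the
fibre of `f` over `p₁` is locally Noetherian, so is the fibre over `p₂`. -/
theorem isLocNoethSp_fibre_descent {X Y : AlgSp.Sp S} (hX : IsAlgSpace X) (hY : IsAlgSpace Y) (f : X ⟶ Y)
    (p₁ p₂ : AlgSp.FieldPt Y) (e : p₁.pt ⟶ p₂.pt) (he : (yon S).map e ≫ p₂.toHom = p₁.toHom)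
    (hNoeth : ∀ ⦃P : AlgSp.Sp S⦄ (fst : P ⟶ X) (snd : P ⟶ (yon S).obj p₁.pt),
      IsPullback fst snd f p₁.toHom → IsLocNoethSp P)
    {Q : AlgSp.Sp S} (qfst : Q ⟶ X) (qsnd : Q ⟶ (yon S).obj p₂.pt)
    (hQ : IsPullback qfst qsnd f p₂.toHom) : IsLocNoethSp Q := by
  have hQa : IsAlgSpace Q :=
    Groth.Agent.S9874.isAlgSpace_of_isPullback hY.diag hX (IsAlgSpace.yon_obj _) hQ
  obtain ⟨W₀, c₀, hc₀e, hc₀s⟩ := hQa.atlas
  obtain ⟨w₀, hw₀⟩ := (yon S).map_surjective (c₀ ≫ qsnd)
  have sqP := IsPullback.of_hasPullback qsnd ((yon S).map e)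
  have hP : IsLocNoethSp (pullback qsnd ((yon S).map e)) := by
    refine hNoeth (pullback.fst qsnd ((yon S).map e) ≫ qfst) (pullback.snd qsnd ((yon S).map e)) ?_
    have := sqP.paste_horiz hQ
    rwa [he] at this
  obtain ⟨W, prW₀, fst', sqW⟩ := representable_of_yon ((yon S).map e) ((yon S).map w₀)
  have hw : ((yon S).map prW₀ ≫ c₀) ≫ qsnd = fst' ≫ (yon S).map e := by
    rw [Category.assoc, ← hw₀]; exact sqW.w.symm
  have sqA : IsPullback (sqP.lift ((yon S).map prW₀ ≫ c₀) fst' hw) ((yon S).map prW₀)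
      (pullback.fst qsnd ((yon S).map e)) c₀ := by
    refine IsPullback.of_right ?_ (sqP.lift_fst _ _ _) sqP.flip
    rw [sqP.lift_snd, ← hw₀]
    exact sqW
  have haW : RepWith @Etale (sqP.lift ((yon S).map prW₀ ≫ c₀) fst' hw) :=
    MorphismProperty.of_isPullback sqA.flip hc₀e
  haveI : IsLocallyNoetherian W.left :=
    Groth.Agent.Lib.Helper12.FibreSpec.isLocallyNoetherian_of_chart hP _ haW
  have hflat : Flat e.left := by
    exact flat_of_field p₂.K e.left
  have hsurj : Surjective e.left := by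
    refine ⟨fun y => ⟨IsLocalRing.closedPoint p₁.K, ?_⟩⟩
    exact @Subsingleton.elim (PrimeSpectrum p₂.K) inferInstance _ _
  have hqc : QuasiCompact e.left := by
    exact quasiCompact_spec (CommRingCat.of p₁.K) (CommRingCat.of p₂.K) e.left
  haveI : Flat prW₀.left :=
    ((repWith_iff _ _).1 ((repWith_yon_map_iff @Flat e).2 hflat)).2 _ _ _ sqW
  haveI : Surjective prW₀.left :=
    ((repWith_iff _ _).1 ((repWith_yon_map_iff @Surjective e).2 hsurj)).2 _ _ _ sqW
  haveI : QuasiCompact prW₀.left :=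
    ((repWith_iff _ _).1 ((repWith_yon_map_iff @QuasiCompact e).2 hqc)).2 _ _ _ sqW
  exact ⟨W₀, c₀, hc₀e, hc₀s, Groth.Agent.Lib.Helper2.NoethDesc.r2492 prW₀.left⟩

end Groth.Agent.Lib.H5bNoethFib
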