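import Mathlib
import Groth.Agent.Lib.H5bNoethFib

/-!
# Locally Noetherian fibres: ascent along finite type extensions of the field of the point (helper5)
-/

set_option autoImplicit false
set_option linter.style.haveILetI false
universe u
open CategoryTheory CategoryTheory.Limits AlgebraicGeometry

namespace Groth.Agent.Lib.H5bNoethFib

open AlgSp

variable {S : Scheme.{u}}

/-- **ascent of locally Noetherian fibres**: if the field point `p₁` factors through the field point `p₂` by a morphism
locally of finite type and the fibre of `f` over `p₂` is locally Noetherian, so is the fibre over `p₁`. -/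
theorem isLocNoethSp_fibre_ascent {X Y : AlgSp.Sp S} (f : X ⟶ Y)
    (p₁ p₂ : AlgSp.FieldPt Y) (e : p₁.pt ⟶ p₂.pt) (he : (yon S).map e ≫ p₂.toHom = p₁.toHom)
    (hlft : LocallyOfFiniteType e.left)
    (hNoeth : ∀ ⦃P : AlgSp.Sp S⦄ (fst : P ⟶ X) (snd : P ⟶ (yon S).obj p₂.pt),
      IsPullback fst snd f p₂.toHom → IsLocNoethSp P)
    {Q : AlgSp.Sp S} (qfst : Q ⟶ X) (qsnd : Q ⟶ (yon S).obj p₁.pt)
    (hQ : IsPullback qfst qsnd f p₁.toHom) : IsLocNoethSp Q := by
  have sqP := IsPullback.of_hasPullback f p₂.toHom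
  obtain ⟨U₂, c₂, hc₂e, hc₂s, hU₂⟩ := hNoeth _ _ sqP
  have hw : qfst ≫ f = (qsnd ≫ (yon S).map e) ≫ p₂.toHom := by
    rw [Category.assoc, he]; exact hQ.w
  -- the square `Q → P₂` over `yon e`
  have sqB : IsPullback (sqP.lift qfst (qsnd ≫ (yon S).map e) hw) qsnd
      (pullback.snd f p₂.toHom) ((yon S).map e) := by
    refine IsPullback.of_right ?_ (sqP.lift_snd _ _ _) sqP
    rw [sqP.lift_fst, he]
    exact hQ
  have hrep : RepWith @LocallyOfFiniteType (sqP.lift qfst (qsnd ≫ (yon S).map e) hw) :=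
    MorphismProperty.of_isPullback sqB.flip
      ((repWith_yon_map_iff @LocallyOfFiniteType e).2 hlft)
  obtain ⟨U, u, a', sqU⟩ := ((repWith_iff _ _).1 hrep).1 c₂
  haveI : LocallyOfFiniteType u.left := ((repWith_iff _ _).1 hrep).2 _ _ _ sqU
  haveI : IsLocallyNoetherian U₂.left := hU₂
  have hU : IsLocallyNoetherian U.left := LocallyOfFiniteType.isLocallyNoetherian u.left
  exact ⟨U, a', MorphismProperty.of_isPullback sqU.flip hc₂e,
    MorphismProperty.of_isPullback sqU.flip hc₂s, hU⟩

end Groth.Agent.Lib.H5bNoethFib
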