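import Mathlib
import Groth.Prelude.Def_EtBaseX

/-!
# The étale local ring at a geometric point is strictly henselian (helper8)
-/

set_option autoImplicit false
set_option linter.style.haveILetI false
universe u
open CategoryTheory CategoryTheory.Limits AlgebraicGeometry Opposite

namespace Groth.Agent.Lib.Helper8EtLocalRing

variable {X : Scheme.{u}} {Ω : Type u} [Field Ω] [IsSepClosed Ω]
  (ξ : Spec (CommRingCat.of Ω) ⟶ X)

/-- the ring of functions on an étale neighbourhood -/
abbrev Fn (U : X.Etale) : Type u := (EtBase.OO X).obj (op U)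

/-- the germ map from functions on an étale neighbourhood to the étale local ring -/
noncomputable def germ (U : X.Etale) (u : (Scheme.pointSmallEtale ξ).fiber.obj U) :
    Fn U →+* EtBase.etaleLocalRing ξ :=
  ((Scheme.pointSmallEtale ξ).toPresheafFiber U u (EtBase.OO X)).hom

theorem germ_surjective (a : EtBase.etaleLocalRing ξ) :
    ∃ (U : X.Etale) (u : (Scheme.pointSmallEtale ξ).fiber.obj U) (s : Fn U), germ ξ U u s = a :=
  (Scheme.pointSmallEtale ξ).toPresheafFiber_jointly_surjective a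

theorem germ_map {U V : X.Etale} (f : V ⟶ U) (v : (Scheme.pointSmallEtale ξ).fiber.obj V)
    (s : Fn U) :
    germ ξ V v ((EtBase.OO X).map f.op s) =
      germ ξ U ((Scheme.pointSmallEtale ξ).fiber.map f v) s :=
  (Scheme.pointSmallEtale ξ).toPresheafFiber_w_apply f v (EtBase.OO X) s

theorem germ_eq_iff (U : X.Etale) (u : (Scheme.pointSmallEtale ξ).fiber.obj U) (s t : Fn U) :
    germ ξ U u s = germ ξ U u t ↔
      ∃ (V : X.Etale) (f : V ⟶ U) (v : (Scheme.pointSmallEtale ξ).fiber.obj V),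
        (Scheme.pointSmallEtale ξ).fiber.map f v = u ∧
          (EtBase.OO X).map f.op s = (EtBase.OO X).map f.op t :=
  (Scheme.pointSmallEtale ξ).toPresheafFiber_eq_iff' U u s t

/-- the value of a function on an étale neighbourhood at the geometric point -/
noncomputable def evAt (U : X.Etale) (u : (Scheme.pointSmallEtale ξ).fiber.obj U) :
    (EtBase.OO X).obj (op U) ⟶ CommRingCat.of Ω :=
  Scheme.Γ.map (u.left : Spec (CommRingCat.of Ω) ⟶ U.left).op ≫
    (Scheme.ΓSpecIso (CommRingCat.of Ω)).hom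

theorem evAt_map {U V : X.Etale} (f : V ⟶ U) (v : (Scheme.pointSmallEtale ξ).fiber.obj V) :
    (EtBase.OO X).map f.op ≫ evAt ξ V v = evAt ξ U ((Scheme.pointSmallEtale ξ).fiber.map f v) := by
  unfold evAt
  rw [← Category.assoc]
  congr 1

/-- evaluation at the geometric point, on the étale local ring -/
noncomputable def ev : EtBase.etaleLocalRing ξ ⟶ CommRingCat.of Ω :=
  (Scheme.pointSmallEtale ξ).presheafFiberDesc (fun U u => evAt ξ U u)
    (fun _ _ f v => evAt_map ξ f v)

theorem ev_germ (U : X.Etale) (u : (Scheme.pointSmallEtale ξ).fiber.obj U) (s : Fn U) :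
    (ev ξ).hom (germ ξ U u s) = (evAt ξ U u).hom s := by
  have h := (Scheme.pointSmallEtale ξ).toPresheafFiber_presheafFiberDesc
    (fun U u => evAt ξ U u) (fun _ _ f v => evAt_map ξ f v) U u
  exact ConcreteCategory.congr_hom h s

theorem isUnit_appTop_basicOpen (Y : Scheme.{u}) (s : Γ(Y, ⊤)) :
    IsUnit ((Y.basicOpen s).ι.appTop s) := by
  have h := Y.toRingedSpace.isUnit_res_basicOpen s
  have e : (Y.basicOpen s).ι ''ᵁ ⊤ ≤ Y.basicOpen s := (Scheme.Opens.ι_image_top _).le
  have h2 : Y.presheaf.map (homOfLE (le_top : (Y.basicOpen s).ι ''ᵁ ⊤ ≤ ⊤)).op s =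
      Y.presheaf.map (homOfLE e).op (Y.presheaf.map (homOfLE (Y.basicOpen_le s)).op s) := by
    rw [← CommRingCat.comp_apply, ← Functor.map_comp]
    rfl
  have h3 : IsUnit (Y.presheaf.map
      (homOfLE (le_top : (Y.basicOpen s).ι ''ᵁ ⊤ ≤ ⊤)).op s) := by
    rw [h2]
    exact h.map _
  exact h3

section Shrink

set_option backward.isDefEq.respectTransparency.types false in
/-- restriction of an étale `X`-scheme to an open subscheme -/
noncomputable def shrink (U : X.Etale) (W : U.left.Opens) : X.Etale :=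
  haveI : Etale U.hom := U.prop
  Scheme.Etale.mk (W.ι ≫ U.hom)

set_option backward.isDefEq.respectTransparency.types false in
/-- the inclusion of the restriction -/
noncomputable def shrinkHom (U : X.Etale) (W : U.left.Opens) : shrink U W ⟶ U :=
  MorphismProperty.Over.homMk W.ι rfl

set_option backward.isDefEq.respectTransparency.types false in
theorem exists_shrinkPt (U : X.Etale) (u : (Scheme.pointSmallEtale ξ).fiber.obj U)
    (W : U.left.Opens)
    (h : (u.left : Spec (CommRingCat.of Ω) ⟶ U.left) (default : Spec (CommRingCat.of Ω)) ∈ W) :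
    ∃ w : (Scheme.pointSmallEtale ξ).fiber.obj (shrink U W),
      (Scheme.pointSmallEtale ξ).fiber.map (shrinkHom U W) w = u := by
  haveI hW : IsOpenImmersion W.ι := Scheme.Opens.instIsOpenImmersionι W
  obtain ⟨ul, hul, hu⟩ : ∃ ul : Spec (CommRingCat.of Ω) ⟶ U.left,
      ul = u.left ∧ ul ≫ U.hom = ξ := ⟨u.left, rfl, Over.w u⟩
  have h' : ul (default : Spec (CommRingCat.of Ω)) ∈ W := hul ▸ h
  have hr : Set.range ul.base ⊆ Set.range W.ι.base := by
    rintro _ ⟨a, rfl⟩
    rw [Subsingleton.elim a (default : Spec (CommRingCat.of Ω)), Scheme.Opens.range_ι]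
    exact h'
  obtain ⟨l, hl⟩ : ∃ l : Spec (CommRingCat.of Ω) ⟶ (W : Scheme.{u}), l ≫ W.ι = ul :=
    ⟨IsOpenImmersion.lift W.ι ul hr, IsOpenImmersion.lift_fac _ _ _⟩
  refine ⟨Over.homMk l ?_, ?_⟩
  · change l ≫ W.ι ≫ U.hom = ξ
    rw [← Category.assoc, hl, hu]
  · apply Over.OverMorphism.ext
    change l ≫ W.ι = u.left
    rw [hl, hul]

end Shrink

set_option backward.isDefEq.respectTransparency.types false in
/-- an element of the étale local ring with nonzero value at the geometric point is a unit -/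
theorem isUnit_of_ev_ne_zero (a : EtBase.etaleLocalRing ξ) (h : (ev ξ).hom a ≠ 0) : IsUnit a := by
  obtain ⟨U, u, s, rfl⟩ := germ_surjective ξ a
  rw [ev_germ] at h
  obtain ⟨ul, hul⟩ : ∃ ul : Spec (CommRingCat.of Ω) ⟶ U.left, ul = u.left := ⟨_, rfl⟩
  have hmem : ul (default : Spec (CommRingCat.of Ω)) ∈ U.left.basicOpen (s : Γ(U.left, ⊤)) := by
    have h1 : (Scheme.ΓSpecIso (CommRingCat.of Ω)).hom.hom (ul.appTop s) ≠ 0 := by
      subst hul
      exact h
    have h2 : IsUnit ((Scheme.ΓSpecIso (CommRingCat.of Ω)).hom.hom (ul.appTop s)) :=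
      IsUnit.mk0 _ h1
    have hunit : IsUnit (ul.appTop s) := by
      have h3 := h2.map (Scheme.ΓSpecIso (CommRingCat.of Ω)).inv.hom
      rwa [← CommRingCat.comp_apply, Iso.hom_inv_id] at h3
    have h3 : ul ⁻¹ᵁ U.left.basicOpen (s : Γ(U.left, ⊤)) = ⊤ :=
      (Scheme.preimage_basicOpen_top ul (s : Γ(U.left, ⊤))).trans
        (Scheme.basicOpen_of_isUnit _ hunit)
    have h4 : (default : Spec (CommRingCat.of Ω)) ∈ ul ⁻¹ᵁ U.left.basicOpen (s : Γ(U.left, ⊤)) := by
      rw [h3]
      trivial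
    exact h4
  obtain ⟨w, hw⟩ := exists_shrinkPt ξ U u (U.left.basicOpen (s : Γ(U.left, ⊤))) (hul ▸ hmem)
  rw [← hw, ← germ_map]
  apply IsUnit.map
  exact isUnit_appTop_basicOpen U.left s

section Lift

open Polynomial

set_option backward.isDefEq.respectTransparency.types false in
theorem exists_common (U₁ : X.Etale) (u₁ : (Scheme.pointSmallEtale ξ).fiber.obj U₁)
    (U₂ : X.Etale) (u₂ : (Scheme.pointSmallEtale ξ).fiber.obj U₂) :
    ∃ (V : X.Etale) (v : (Scheme.pointSmallEtale ξ).fiber.obj V) (f₁ : V ⟶ U₁) (f₂ : V ⟶ U₂),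
      (Scheme.pointSmallEtale ξ).fiber.map f₁ v = u₁ ∧
        (Scheme.pointSmallEtale ξ).fiber.map f₂ v = u₂ := by
  let e₁ : (Scheme.pointSmallEtale ξ).fiber.Elements := ⟨U₁, u₁⟩
  let e₂ : (Scheme.pointSmallEtale ξ).fiber.Elements := ⟨U₂, u₂⟩
  exact ⟨(IsCofiltered.min e₁ e₂).1, (IsCofiltered.min e₁ e₂).2,
    (IsCofiltered.minToLeft e₁ e₂).1, (IsCofiltered.minToRight e₁ e₂).1,
    (IsCofiltered.minToLeft e₁ e₂).2, (IsCofiltered.minToRight e₁ e₂).2⟩

set_option backward.isDefEq.respectTransparency.types false in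
theorem exists_lift_family (a : ℕ → EtBase.etaleLocalRing ξ) (d : ℕ) :
    ∃ (U : X.Etale) (u : (Scheme.pointSmallEtale ξ).fiber.obj U) (b : ℕ → Fn U),
      ∀ k < d, germ ξ U u (b k) = a k := by
  induction d with
  | zero =>
    obtain ⟨U, u, s, -⟩ := germ_surjective ξ 0
    exact ⟨U, u, fun _ => 0, fun k hk => absurd hk (Nat.not_lt_zero k)⟩
  | succ d ih =>
    obtain ⟨U, u, b, hb⟩ := ih
    obtain ⟨U', u', s', hs'⟩ := germ_surjective ξ (a d)
    obtain ⟨V, v, f, f', hf, hf'⟩ := exists_common ξ U u U' u'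
    refine ⟨V, v, fun k => if k = d then (EtBase.OO X).map f'.op s'
      else (EtBase.OO X).map f.op (b k), ?_⟩
    intro k hk
    by_cases hkd : k = d
    · simp only [hkd, if_true]
      rw [germ_map, hf', hs']
    · simp only [hkd, if_false]
      rw [germ_map, hf]
      exact hb k (lt_of_le_of_ne (Nat.lt_succ_iff.mp hk) hkd)

set_option backward.isDefEq.respectTransparency.types false in
/-- a monic polynomial over the étale local ring comes from a monic polynomial over the ring of
functions of some étale neighbourhood -/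
theorem exists_lift_monic (P : Polynomial (EtBase.etaleLocalRing ξ)) (hP : P.Monic) :
    ∃ (U : X.Etale) (u : (Scheme.pointSmallEtale ξ).fiber.obj U) (Q : Polynomial (Fn U)),
      Q.Monic ∧ Q.map (germ ξ U u) = P := by
  obtain ⟨U, u, b, hb⟩ := exists_lift_family ξ (fun k => P.coeff k) P.natDegree
  refine ⟨U, u, (Polynomial.X : Polynomial (Fn U)) ^ P.natDegree +
    ∑ k ∈ Finset.range P.natDegree, C (b k) * (Polynomial.X : Polynomial (Fn U)) ^ k, ?_, ?_⟩
  · apply monic_X_pow_add
    refine lt_of_le_of_lt (degree_sum_le _ _) ?_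
    rw [Finset.sup_lt_iff (WithBot.bot_lt_coe _)]
    intro k hk
    exact lt_of_le_of_lt (degree_C_mul_X_pow_le k (b k))
      (WithBot.coe_lt_coe.mpr (Finset.mem_range.mp hk))
  · rw [Polynomial.map_add, Polynomial.map_pow, Polynomial.map_X, Polynomial.map_sum]
    conv_rhs => rw [hP.as_sum]
    congr 1
    apply Finset.sum_congr rfl
    intro k hk
    rw [Polynomial.map_mul, Polynomial.map_pow, Polynomial.map_X, Polynomial.map_C,
      hb k (Finset.mem_range.mp hk)]

end Lift

section StdEtale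

open Polynomial

/-- standard étale neighbourhood adjoining a simple root -/
theorem stdEtaleNbhd (Y : Scheme.{u}) (Q : Polynomial Γ(Y, ⊤)) (hQ : Q.Monic)
    (y : Spec (CommRingCat.of Ω) ⟶ Y) (α : Ω)
    (h0 : (Q.map (y.appTop ≫ (Scheme.ΓSpecIso (CommRingCat.of Ω)).hom).hom).eval α = 0)
    (h1 : (Q.derivative.map (y.appTop ≫ (Scheme.ΓSpecIso (CommRingCat.of Ω)).hom).hom).eval α ≠ 0) :
    ∃ (V : Scheme.{u}) (g : V ⟶ Y) (_ : Etale g) (v : Spec (CommRingCat.of Ω) ⟶ V) (t : Γ(V, ⊤)),
      v ≫ g = y ∧ (Q.map g.appTop.hom).eval t = 0 ∧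
        (Scheme.ΓSpecIso (CommRingCat.of Ω)).hom.hom (v.appTop.hom t) = α := by
  let A : CommRingCat.{u} := Γ(Y, ⊤)
  let e : A →+* Ω := (y.appTop ≫ (Scheme.ΓSpecIso (CommRingCat.of Ω)).hom).hom
  let P : StandardEtalePair A := ⟨Q, hQ, Q.derivative, ⟨1, 0, 1, by simp⟩⟩
  letI : Algebra A Ω := e.toAlgebra
  have hmap : P.HasMap α := by
    constructor
    · change aeval α Q = 0
      rw [aeval_def, ← Polynomial.eval_map]
      exact h0
    · change IsUnit (aeval α Q.derivative)
      rw [aeval_def, ← Polynomial.eval_map]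
      exact IsUnit.mk0 _ h1
  let β : P.Ring →ₐ[A] Ω := P.lift α hmap
  let φ : A ⟶ CommRingCat.of P.Ring := CommRingCat.ofHom (algebraMap A P.Ring)
  haveI : Etale (Spec.map φ) := by
    rw [HasRingHomProperty.Spec_iff (P := @Etale)]
    exact RingHom.etale_algebraMap.mpr inferInstance
  let βc : CommRingCat.of P.Ring ⟶ CommRingCat.of Ω := CommRingCat.ofHom β.toRingHom
  have hφβ : φ ≫ βc = y.appTop ≫ (Scheme.ΓSpecIso (CommRingCat.of Ω)).hom := by
    ext a
    exact β.commutes a
  have hcomp : y ≫ Y.toSpecΓ = Spec.map βc ≫ Spec.map φ := by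
    rw [← Spec.map_comp, hφβ, Spec.map_comp, Scheme.toSpecΓ_naturality, SpecMap_ΓSpecIso_hom]
  refine ⟨pullback Y.toSpecΓ (Spec.map φ), pullback.fst _ _, inferInstance,
    pullback.lift y (Spec.map βc) hcomp,
    ((Scheme.ΓSpecIso (CommRingCat.of P.Ring)).inv ≫ (pullback.snd Y.toSpecΓ (Spec.map φ)).appTop).hom P.X,
    pullback.lift_fst _ _ _, ?_, ?_⟩
  · have hc := congrArg Scheme.Hom.appTop (pullback.condition (f := Y.toSpecΓ) (g := Spec.map φ))
    rw [Scheme.Hom.comp_appTop, Scheme.Hom.comp_appTop, Scheme.toSpecΓ_appTop] at hc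
    have hnat : (Spec.map φ).appTop = (Scheme.ΓSpecIso A).hom ≫ φ ≫
        (Scheme.ΓSpecIso (CommRingCat.of P.Ring)).inv := by
      rw [← Category.assoc, ← Scheme.ΓSpecIso_naturality, Category.assoc, Iso.hom_inv_id,
        Category.comp_id]
    rw [hnat, Category.assoc, Category.assoc] at hc
    have hfst : (pullback.fst Y.toSpecΓ (Spec.map φ)).appTop = φ ≫
        ((Scheme.ΓSpecIso (CommRingCat.of P.Ring)).inv ≫
          (pullback.snd Y.toSpecΓ (Spec.map φ)).appTop) :=
      (cancel_epi (Scheme.ΓSpecIso A).hom).mp hc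
    rw [hfst]
    have key : ∀ ψ : P.Ring →+* Γ(pullback Y.toSpecΓ (Spec.map φ), ⊤),
        Polynomial.eval (ψ P.X) (Polynomial.map (ψ.comp (algebraMap A P.Ring)) Q) = 0 := by
      intro ψ
      have hX : Polynomial.eval P.X (Polynomial.map (algebraMap A P.Ring) Q) = 0 := by
        rw [Polynomial.eval_map, ← aeval_def]
        exact P.hasMap_X.1
      rw [← Polynomial.map_map, Polynomial.eval_map, Polynomial.eval₂_at_apply, hX, map_zero]
    exact key _
  · have hl := congrArg Scheme.Hom.appTop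
      (pullback.lift_snd (f := Y.toSpecΓ) (g := Spec.map φ) y (Spec.map βc) hcomp)
    rw [Scheme.Hom.comp_appTop] at hl
    have h2 := Scheme.ΓSpecIso_naturality βc
    have h3 : (Scheme.ΓSpecIso (CommRingCat.of Ω)).hom.hom
        ((pullback.lift y (Spec.map βc) hcomp).appTop.hom
          ((pullback.snd Y.toSpecΓ (Spec.map φ)).appTop.hom
            ((Scheme.ΓSpecIso (CommRingCat.of P.Ring)).inv.hom P.X))) =
        βc.hom ((Scheme.ΓSpecIso (CommRingCat.of P.Ring)).hom.hom
          ((Scheme.ΓSpecIso (CommRingCat.of P.Ring)).inv.hom P.X)) := by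
      have h4 := ConcreteCategory.congr_hom hl ((Scheme.ΓSpecIso (CommRingCat.of P.Ring)).inv.hom P.X)
      have h5 := ConcreteCategory.congr_hom h2 ((Scheme.ΓSpecIso (CommRingCat.of P.Ring)).inv.hom P.X)
      rw [CommRingCat.comp_apply] at h4 h5
      rw [CommRingCat.comp_apply] at h5
      exact (congrArg _ h4).trans h5
    refine h3.trans ?_
    have h6 : (Scheme.ΓSpecIso (CommRingCat.of P.Ring)).hom.hom
          ((Scheme.ΓSpecIso (CommRingCat.of P.Ring)).inv.hom P.X) = P.X := by
      rw [← CommRingCat.comp_apply, Iso.inv_hom_id]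
      rfl
    rw [h6]
    exact P.lift_X α hmap

end StdEtale

section Key

open Polynomial

set_option backward.isDefEq.respectTransparency.types false in
/-- an étale scheme over an étale `X`-scheme, as an étale `X`-scheme -/
noncomputable def nbhd (U : X.Etale) {V₀ : Scheme.{u}} (g : V₀ ⟶ U.left) [Etale g] : X.Etale :=
  haveI : Etale U.hom := U.prop
  Scheme.Etale.mk (g ≫ U.hom)

set_option backward.isDefEq.respectTransparency.types false in
noncomputable def nbhdHom (U : X.Etale) {V₀ : Scheme.{u}} (g : V₀ ⟶ U.left) [Etale g] :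
    nbhd U g ⟶ U :=
  MorphismProperty.Over.homMk g rfl

set_option backward.isDefEq.respectTransparency.types false in
noncomputable def nbhdPt (U : X.Etale) {V₀ : Scheme.{u}} (g : V₀ ⟶ U.left) [Etale g]
    (u : (Scheme.pointSmallEtale ξ).fiber.obj U) (v₀ : Spec (CommRingCat.of Ω) ⟶ V₀)
    (h : v₀ ≫ g = u.left) : (Scheme.pointSmallEtale ξ).fiber.obj (nbhd U g) :=
  Over.homMk v₀ (by
    change v₀ ≫ g ≫ U.hom = ξ
    rw [← Category.assoc, h]
    exact Over.w u)

set_option backward.isDefEq.respectTransparency.types false in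
theorem nbhdPt_map (U : X.Etale) {V₀ : Scheme.{u}} (g : V₀ ⟶ U.left) [Etale g]
    (u : (Scheme.pointSmallEtale ξ).fiber.obj U) (v₀ : Spec (CommRingCat.of Ω) ⟶ V₀)
    (h : v₀ ≫ g = u.left) :
    (Scheme.pointSmallEtale ξ).fiber.map (nbhdHom U g) (nbhdPt ξ U g u v₀ h) = u := by
  apply Over.OverMorphism.ext
  exact h

set_option backward.isDefEq.respectTransparency.types false in
/-- **Key lemma**: a simple root in `Ω` of a monic polynomial over the étale local ring lifts to a
root in the étale local ring. -/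
theorem exists_root (P : Polynomial (EtBase.etaleLocalRing ξ)) (hP : P.Monic) (α : Ω)
    (h0 : (P.map (ev ξ).hom).eval α = 0) (h1 : (P.derivative.map (ev ξ).hom).eval α ≠ 0) :
    ∃ t : EtBase.etaleLocalRing ξ, P.eval t = 0 ∧ (ev ξ).hom t = α := by
  obtain ⟨U, u, Q, hQ, rfl⟩ := exists_lift_monic ξ P hP
  obtain ⟨ul, hul, huw⟩ : ∃ ul : Spec (CommRingCat.of Ω) ⟶ U.left,
      ul = u.left ∧ ul ≫ U.hom = ξ := ⟨u.left, rfl, Over.w u⟩
  have hcomp : (ev ξ).hom.comp (germ ξ U u) =
      (ul.appTop ≫ (Scheme.ΓSpecIso (CommRingCat.of Ω)).hom).hom := by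
    ext s
    subst hul
    exact ev_germ ξ U u s
  rw [Polynomial.map_map, hcomp] at h0
  rw [← Polynomial.derivative_map, Polynomial.map_map, hcomp, Polynomial.derivative_map] at h1
  obtain ⟨V₀, g, hg, v₀, t₀, hvg, hroot, hval⟩ := stdEtaleNbhd U.left Q hQ ul α h0 h1
  have hvg' : v₀ ≫ g = u.left := hvg.trans hul
  refine ⟨germ ξ (nbhd U g) (nbhdPt ξ U g u v₀ hvg') t₀, ?_, ?_⟩
  · have hg' : germ ξ U u = (germ ξ (nbhd U g) (nbhdPt ξ U g u v₀ hvg')).comp
        ((EtBase.OO X).map (nbhdHom U g).op).hom := by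
      ext s
      rw [RingHom.comp_apply]
      refine Eq.trans ?_ (germ_map ξ (nbhdHom U g) (nbhdPt ξ U g u v₀ hvg') s).symm
      rw [nbhdPt_map]
    rw [hg', ← Polynomial.map_map, Polynomial.eval_map, Polynomial.eval₂_at_apply]
    have hroot' : Polynomial.eval t₀ (Polynomial.map ((EtBase.OO X).map (nbhdHom U g).op).hom Q) = 0 :=
      hroot
    exact (congrArg _ hroot').trans (map_zero _)
  · rw [ev_germ]
    exact hval

end Key

section Main

open Polynomial

theorem isLocalHom_ev : IsLocalHom (ev ξ).hom :=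
  ⟨fun a h => isUnit_of_ev_ne_zero ξ a h.ne_zero⟩

/-- **The étale local ring at a geometric point is strictly henselian.** -/
theorem isStrictlyHenselian :
    EtCoh.IsStrictlyHenselianLocalRing (EtBase.etaleLocalRing ξ) := by
  haveI := isLocalHom_ev ξ
  haveI hloc : IsLocalRing (EtBase.etaleLocalRing ξ) := RingHom.domain_isLocalRing (ev ξ).hom
  have hker : ∀ a : EtBase.etaleLocalRing ξ,
      a ∈ IsLocalRing.maximalIdeal (EtBase.etaleLocalRing ξ) ↔ (ev ξ).hom a = 0 := by
    intro a
    rw [IsLocalRing.mem_maximalIdeal, mem_nonunits_iff]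
    constructor
    · intro h
      by_contra h'
      exact h (isUnit_of_ev_ne_zero ξ a h')
    · intro h hu
      have h2 := hu.map (ev ξ).hom
      rw [h] at h2
      exact not_isUnit_zero h2
  have hH : HenselianLocalRing (EtBase.etaleLocalRing ξ) := by
    refine { toIsLocalRing := hloc, is_henselian := ?_ }
    intro f hf a₀ h0 h1
    obtain ⟨t, ht, hev⟩ := exists_root ξ f hf ((ev ξ).hom a₀)
      (by rw [Polynomial.eval_map, Polynomial.eval₂_at_apply, (hker _).mp h0])
      (by
        rw [Polynomial.eval_map, Polynomial.eval₂_at_apply]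
        exact (h1.map (ev ξ).hom).ne_zero)
    refine ⟨t, ht, ?_⟩
    rw [hker, map_sub, hev, sub_self]
  refine ⟨hH, ?_⟩
  apply IsSepClosed.of_exists_root
  intro p hp hirr hsep
  have hcomp : (IsLocalRing.ResidueField.lift (ev ξ).hom).comp
      (IsLocalRing.residue (EtBase.etaleLocalRing ξ)) = (ev ξ).hom :=
    IsLocalRing.ResidueField.lift_comp_residue (ev ξ).hom
  have hl : p ∈ Polynomial.lifts (IsLocalRing.residue (EtBase.etaleLocalRing ξ)) := by
    obtain ⟨q, hq⟩ := Polynomial.map_surjective _ (IsLocalRing.residue_surjective) p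
    exact ⟨q, hq⟩
  obtain ⟨P, hPp, -, hPm⟩ := Polynomial.lifts_and_natDegree_eq_and_monic hl hp
  have hdeg : (p.map (IsLocalRing.ResidueField.lift (ev ξ).hom)).degree ≠ 0 := by
    rw [Polynomial.degree_map]
    exact (Polynomial.degree_pos_of_irreducible hirr).ne'
  obtain ⟨α, hα⟩ := IsSepClosed.exists_root _ hdeg (hsep.map)
  have hα0 : (p.map (IsLocalRing.ResidueField.lift (ev ξ).hom)).eval α = 0 := hα
  have hα1 : (p.derivative.map (IsLocalRing.ResidueField.lift (ev ξ).hom)).eval α ≠ 0 := by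
    rw [Polynomial.eval_map]
    apply hsep.eval₂_derivative_ne_zero
    rw [← Polynomial.eval_map]
    exact hα0
  have hPev : P.map (ev ξ).hom = p.map (IsLocalRing.ResidueField.lift (ev ξ).hom) := by
    rw [← hPp, Polynomial.map_map, hcomp]
  obtain ⟨t, ht, -⟩ := exists_root ξ P hPm α (by rw [hPev]; exact hα0)
    (by rw [← Polynomial.derivative_map, hPev, Polynomial.derivative_map]; exact hα1)
  refine ⟨IsLocalRing.residue _ t, ?_⟩
  rw [← hPp, Polynomial.eval_map, Polynomial.eval₂_at_apply, ht, map_zero]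

end Main

end Groth.Agent.Lib.Helper8EtLocalRing
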