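import Mathlib
import Groth.Prelude.Def_AlgSpOX3
import Groth.Prelude.Def_EtBase
import Groth.Agent.Lib.Helper9SpPoint
import Groth.Agent.Lib.Helper8EtLocalRing

/-!
# The étale local ring of an algebraic space at a geometric point is strictly henselian (helper8)
-/

set_option autoImplicit false
set_option linter.style.haveILetI false
set_option backward.isDefEq.respectTransparency false
universe u v w
open CategoryTheory CategoryTheory.Limits AlgebraicGeometry Opposite

namespace Groth.Agent.Lib.Helper8SpLocalRing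

section Abstract

open Polynomial

/-- abstract criterion: a ring with an "evaluation" to a separably closed field detecting units
and lifting simple roots of monic polynomials is a strictly henselian local ring -/
theorem strictlyHenselian_of_ev {R : Type v} [CommRing R] {Ω : Type w} [Field Ω] [IsSepClosed Ω]
    (ev : R →+* Ω)
    (h1 : ∀ a : R, ev a ≠ 0 → IsUnit a)
    (h2 : ∀ P : Polynomial R, P.Monic → ∀ α : Ω, (P.map ev).eval α = 0 →
      (P.derivative.map ev).eval α ≠ 0 → ∃ t : R, P.eval t = 0 ∧ ev t = α) :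
    IsLocalRing R ∧ EtCoh.IsStrictlyHenselianLocalRing R := by
  haveI : IsLocalHom ev := ⟨fun a h => h1 a h.ne_zero⟩
  haveI hloc : IsLocalRing R := RingHom.domain_isLocalRing ev
  have hker : ∀ a : R, a ∈ IsLocalRing.maximalIdeal R ↔ ev a = 0 := by
    intro a
    rw [IsLocalRing.mem_maximalIdeal, mem_nonunits_iff]
    constructor
    · intro h
      by_contra h'
      exact h (h1 a h')
    · intro h hu
      have h3 := hu.map ev
      rw [h] at h3
      exact not_isUnit_zero h3
  have hH : HenselianLocalRing R := by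
    refine { toIsLocalRing := hloc, is_henselian := ?_ }
    intro f hf a₀ h0 h1'
    obtain ⟨t, ht, hev⟩ := h2 f hf (ev a₀)
      (by rw [Polynomial.eval_map, Polynomial.eval₂_at_apply, (hker _).mp h0])
      (by
        rw [Polynomial.eval_map, Polynomial.eval₂_at_apply]
        exact (h1'.map ev).ne_zero)
    refine ⟨t, ht, ?_⟩
    rw [hker, map_sub, hev, sub_self]
  refine ⟨hloc, hH, ?_⟩
  apply IsSepClosed.of_exists_root
  intro p hp hirr hsep
  have hcomp : (IsLocalRing.ResidueField.lift ev).comp (IsLocalRing.residue R) = ev :=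
    IsLocalRing.ResidueField.lift_comp_residue ev
  have hl : p ∈ Polynomial.lifts (IsLocalRing.residue R) := by
    obtain ⟨q, hq⟩ := Polynomial.map_surjective _ (IsLocalRing.residue_surjective) p
    exact ⟨q, hq⟩
  obtain ⟨P, hPp, -, hPm⟩ := Polynomial.lifts_and_natDegree_eq_and_monic hl hp
  have hdeg : (p.map (IsLocalRing.ResidueField.lift ev)).degree ≠ 0 := by
    rw [Polynomial.degree_map]
    exact (Polynomial.degree_pos_of_irreducible hirr).ne'
  obtain ⟨α, hα⟩ := IsSepClosed.exists_root _ hdeg (hsep.map)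
  have hα0 : (p.map (IsLocalRing.ResidueField.lift ev)).eval α = 0 := hα
  have hα1 : (p.derivative.map (IsLocalRing.ResidueField.lift ev)).eval α ≠ 0 := by
    rw [Polynomial.eval_map]
    apply hsep.eval₂_derivative_ne_zero
    rw [← Polynomial.eval_map]
    exact hα0
  have hPev : P.map ev = p.map (IsLocalRing.ResidueField.lift ev) := by
    rw [← hPp, Polynomial.map_map, hcomp]
  obtain ⟨t, ht, -⟩ := h2 P hPm α (by rw [hPev]; exact hα0)
    (by rw [← Polynomial.derivative_map, hPev, Polynomial.derivative_map]; exact hα1)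
  refine ⟨IsLocalRing.residue _ t, ?_⟩
  rw [← hPp, Polynomial.eval_map, Polynomial.eval₂_at_apply, ht, map_zero]

end Abstract


section Sp

open AlgSp Groth.Agent.Lib.Helper9.SpPoint

instance hasColimitsOfSize_commRingCat : HasColimitsOfSize.{u, u} CommRingCat.{u + 1} :=
  hasColimitsOfSizeShrink.{u, u, u + 1, u + 1} _

instance preservesFilteredColimits_forget_commRingCat :
    PreservesFilteredColimitsOfSize.{u, u} (forget CommRingCat.{u + 1}) :=
  preservesFilteredColimitsOfSize_shrink.{u, u + 1, u, u + 1} _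

variable {S : Scheme.{u}} (X : AlgSp.Space S) (p : FieldPt X.obj) (hp : p.IsGeometric)

/-- the point of the small étale site of `X` defined by a geometric point -/
noncomputable def pnt : GrothendieckTopology.Point.{u} (etTop X.obj) where
  fiber := FieldPt.liftsTo p
  isCofiltered := by
    obtain ⟨⟨fib, cof, ism, js⟩, hP⟩ := main X p hp
    dsimp only at hP
    subst hP
    exact cof
  initiallySmall := by
    obtain ⟨⟨fib, cof, ism, js⟩, hP⟩ := main X p hp
    dsimp only at hP
    subst hP
    exact ism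
  jointly_surjective := by
    obtain ⟨⟨fib, cof, ism, js⟩, hP⟩ := main X p hp
    dsimp only at hP
    subst hP
    exact js

/-- the étale local ring, as the fibre of the structure sheaf at the point -/
noncomputable abbrev Rg : CommRingCat.{u + 1} := (pnt X p hp).presheafFiber.obj (OEt X.obj).obj

/-- the ring of functions on an étale neighbourhood -/
abbrev Fn (E : EtOver X.obj) : Type (u + 1) := (OEt X.obj).obj.obj (op E)

/-- the germ map -/
noncomputable def germ (E : EtOver X.obj) (l : (FieldPt.liftsTo p).obj E) :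
    Fn X E →+* Rg X p hp :=
  ((pnt X p hp).toPresheafFiber E l (OEt X.obj).obj).hom

theorem germ_surjective (a : Rg X p hp) :
    ∃ (E : EtOver X.obj) (l : (FieldPt.liftsTo p).obj E) (s : Fn X E), germ X p hp E l s = a :=
  (pnt X p hp).toPresheafFiber_jointly_surjective a

theorem germ_map {E E' : EtOver X.obj} (f : E' ⟶ E) (l' : (FieldPt.liftsTo p).obj E')
    (s : Fn X E) :
    germ X p hp E' l' ((OEt X.obj).obj.map f.op s) =
      germ X p hp E ((FieldPt.liftsTo p).map f l') s :=
  (pnt X p hp).toPresheafFiber_w_apply f l' (OEt X.obj).obj s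


/-- the value of a function on an étale neighbourhood at the geometric point -/
noncomputable def evAt (E : EtOver X.obj) (l : (FieldPt.liftsTo p).obj E) :
    (OEt X.obj).obj.obj (op E) ⟶ CommRingCat.of (ULift.{u + 1} p.K) :=
  CommRingCat.ofHom ((ULift.ringEquiv.symm : p.K ≃+* ULift.{u + 1} p.K).toRingHom.comp
    ((l.1.left.appTop ≫ (Scheme.ΓSpecIso (CommRingCat.of p.K)).hom).hom.comp
      (ULift.ringEquiv : ULift.{u + 1} Γ(E.obj.left.left, ⊤) ≃+* Γ(E.obj.left.left, ⊤)).toRingHom))

theorem evAt_apply (E : EtOver X.obj) (l : (FieldPt.liftsTo p).obj E) (s : Fn X E) :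
    ((evAt X p E l).hom s).down =
      (Scheme.ΓSpecIso (CommRingCat.of p.K)).hom.hom (l.1.left.appTop.hom s.down) := rfl

theorem evAt_map {E E' : EtOver X.obj} (f : E' ⟶ E) (l' : (FieldPt.liftsTo p).obj E') :
    (OEt X.obj).obj.map f.op ≫ evAt X p E' l' = evAt X p E ((FieldPt.liftsTo p).map f l') := by
  ext s
  rw [CommRingCat.comp_apply, evAt_apply, evAt_apply, OEt_map]
  have h1 : ((FieldPt.liftsTo p).map f l').1.left = l'.1.left ≫ f.hom.left.left := rfl
  rw [h1, Scheme.Hom.comp_appTop]
  rfl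

/-- evaluation at the geometric point, on the étale local ring -/
noncomputable def ev : Rg X p hp ⟶ CommRingCat.of (ULift.{u + 1} p.K) :=
  (pnt X p hp).presheafFiberDesc (fun E l => evAt X p E l)
    (fun _ _ f l' => evAt_map X p f l')

theorem ev_germ (E : EtOver X.obj) (l : (FieldPt.liftsTo p).obj E) (s : Fn X E) :
    (ev X p hp).hom (germ X p hp E l s) = (evAt X p E l).hom s := by
  have h := (pnt X p hp).toPresheafFiber_presheafFiberDesc
    (fun E l => evAt X p E l) (fun _ _ f l' => evAt_map X p f l') E l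
  exact ConcreteCategory.congr_hom h s

/-- evaluation with values in the field itself -/
noncomputable def evK : Rg X p hp →+* p.K :=
  (ULift.ringEquiv : ULift.{u + 1} p.K ≃+* p.K).toRingHom.comp (ev X p hp).hom

theorem evK_germ (E : EtOver X.obj) (l : (FieldPt.liftsTo p).obj E) (s : Fn X E) :
    evK X p hp (germ X p hp E l s) =
      (Scheme.ΓSpecIso (CommRingCat.of p.K)).hom.hom (l.1.left.appTop.hom s.down) := by
  change ((ev X p hp).hom (germ X p hp E l s)).down = _
  rw [ev_germ, evAt_apply]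


section Nbhd

/-- an étale scheme over an étale neighbourhood, as an object of the small étale site of `X` -/
noncomputable def nbhd (E : EtOver X.obj) {V₀ : Scheme.{u}} (g : V₀ ⟶ E.obj.left.left) [Etale g] :
    EtOver X.obj :=
  (EtOver.ofChart E.obj.hom E.property).obj (Scheme.Etale.mk g)

noncomputable def nbhdHom (E : EtOver X.obj) {V₀ : Scheme.{u}} (g : V₀ ⟶ E.obj.left.left)
    [Etale g] : nbhd X E g ⟶ E :=
  EtOver.homMk (EtOver.homOfEtale (Scheme.Etale.mk g)) rfl

theorem nbhdHom_left (E : EtOver X.obj) {V₀ : Scheme.{u}} (g : V₀ ⟶ E.obj.left.left) [Etale g] :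
    (nbhdHom X E g).hom.left.left = g := rfl

theorem exists_nbhdPt (E : EtOver X.obj) {V₀ : Scheme.{u}} (g : V₀ ⟶ E.obj.left.left) [Etale g]
    (l : (FieldPt.liftsTo p).obj E) (v₀ : Spec (CommRingCat.of p.K) ⟶ V₀)
    (h : v₀ ≫ g = l.1.left) :
    ∃ l' : (FieldPt.liftsTo p).obj (nbhd X E g),
      (FieldPt.liftsTo p).map (nbhdHom X E g) l' = l ∧ l'.1.left = v₀ := by
  have h1 : l.1.left ≫ E.obj.left.hom = p.str := Over.w l.1
  have h2 : v₀ ≫ (EtOver.overOfEtale (Scheme.Etale.mk g)).hom = p.str := by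
    change v₀ ≫ g ≫ E.obj.left.hom = p.str
    rw [← Category.assoc, h, h1]
  let k : p.pt ⟶ EtOver.overOfEtale (Scheme.Etale.mk g) := Over.homMk v₀ h2
  have hk : k ≫ EtOver.homOfEtale (Scheme.Etale.mk g) = l.1 := by
    apply Over.OverMorphism.ext
    exact h
  refine ⟨⟨k, ?_⟩, ?_, rfl⟩
  · change (yon S).map k ≫ (yon S).map (EtOver.homOfEtale (Scheme.Etale.mk g)) ≫ E.obj.hom =
      p.toHom
    rw [← Category.assoc, ← Functor.map_comp, hk]
    exact l.2
  · apply Subtype.ext
    exact hk

theorem map_nbhdHom (E : EtOver X.obj) {V₀ : Scheme.{u}} (g : V₀ ⟶ E.obj.left.left) [Etale g]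
    (s : Fn X E) :
    (OEt X.obj).obj.map (nbhdHom X E g).op s = ULift.up (g.appTop.hom s.down) := rfl

end Nbhd


/-- an element of the étale local ring with nonzero value at the geometric point is a unit -/
theorem isUnit_of_evK_ne_zero (a : Rg X p hp) (h : evK X p hp a ≠ 0) : IsUnit a := by
  obtain ⟨E, l, s, rfl⟩ := germ_surjective X p hp a
  rw [evK_germ] at h
  obtain ⟨ul, hul⟩ : ∃ ul : Spec (CommRingCat.of p.K) ⟶ E.obj.left.left, ul = l.1.left := ⟨_, rfl⟩
  have hmem : ul (default : Spec (CommRingCat.of p.K)) ∈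
      E.obj.left.left.basicOpen (s.down : Γ(E.obj.left.left, ⊤)) := by
    have h1 : (Scheme.ΓSpecIso (CommRingCat.of p.K)).hom.hom (ul.appTop s.down) ≠ 0 := by
      subst hul
      exact h
    have h2 : IsUnit ((Scheme.ΓSpecIso (CommRingCat.of p.K)).hom.hom (ul.appTop s.down)) :=
      IsUnit.mk0 _ h1
    have hunit : IsUnit (ul.appTop s.down) := by
      have h3 := h2.map (Scheme.ΓSpecIso (CommRingCat.of p.K)).inv.hom
      rwa [← CommRingCat.comp_apply, Iso.hom_inv_id] at h3
    have h3 : ul ⁻¹ᵁ E.obj.left.left.basicOpen (s.down : Γ(E.obj.left.left, ⊤)) = ⊤ :=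
      (Scheme.preimage_basicOpen_top ul (s.down : Γ(E.obj.left.left, ⊤))).trans
        (Scheme.basicOpen_of_isUnit _ hunit)
    have h4 : (default : Spec (CommRingCat.of p.K)) ∈
        ul ⁻¹ᵁ E.obj.left.left.basicOpen (s.down : Γ(E.obj.left.left, ⊤)) := by
      rw [h3]
      trivial
    exact h4
  let W : E.obj.left.left.Opens := E.obj.left.left.basicOpen (s.down : Γ(E.obj.left.left, ⊤))
  haveI hW : IsOpenImmersion W.ι := Scheme.Opens.instIsOpenImmersionι W
  have hr : Set.range ul.base ⊆ Set.range W.ι.base := by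
    rintro _ ⟨a, rfl⟩
    rw [Subsingleton.elim a (default : Spec (CommRingCat.of p.K)), Scheme.Opens.range_ι]
    exact hmem
  obtain ⟨v₀, hv₀⟩ : ∃ v₀ : Spec (CommRingCat.of p.K) ⟶ (W : Scheme.{u}), v₀ ≫ W.ι = ul :=
    ⟨IsOpenImmersion.lift W.ι ul hr, IsOpenImmersion.lift_fac _ _ _⟩
  obtain ⟨l', hl', -⟩ := exists_nbhdPt X p E W.ι l v₀ (hv₀.trans hul)
  rw [← hl', ← germ_map, map_nbhdHom]
  apply IsUnit.map
  have h5 := Groth.Agent.Lib.Helper8EtLocalRing.isUnit_appTop_basicOpen E.obj.left.left s.down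
  exact h5.map (ULift.ringEquiv.symm :
    Γ((W : Scheme.{u}), ⊤) ≃+* ULift.{u + 1} Γ((W : Scheme.{u}), ⊤)).toRingHom


section Lift

open Polynomial

include hp in
theorem exists_common (E₁ : EtOver X.obj) (l₁ : (FieldPt.liftsTo p).obj E₁)
    (E₂ : EtOver X.obj) (l₂ : (FieldPt.liftsTo p).obj E₂) :
    ∃ (V : EtOver X.obj) (v : (FieldPt.liftsTo p).obj V) (f₁ : V ⟶ E₁) (f₂ : V ⟶ E₂),
      (FieldPt.liftsTo p).map f₁ v = l₁ ∧ (FieldPt.liftsTo p).map f₂ v = l₂ := by
  haveI : IsCofiltered (FieldPt.liftsTo p).Elements := (pnt X p hp).isCofiltered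
  let e₁ : (FieldPt.liftsTo p).Elements := ⟨E₁, l₁⟩
  let e₂ : (FieldPt.liftsTo p).Elements := ⟨E₂, l₂⟩
  exact ⟨(IsCofiltered.min e₁ e₂).1, (IsCofiltered.min e₁ e₂).2,
    (IsCofiltered.minToLeft e₁ e₂).1, (IsCofiltered.minToRight e₁ e₂).1,
    (IsCofiltered.minToLeft e₁ e₂).2, (IsCofiltered.minToRight e₁ e₂).2⟩

theorem exists_lift_family (a : ℕ → Rg X p hp) (d : ℕ) :
    ∃ (E : EtOver X.obj) (l : (FieldPt.liftsTo p).obj E) (b : ℕ → Fn X E),
      ∀ k < d, germ X p hp E l (b k) = a k := by
  induction d with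
  | zero =>
    obtain ⟨E, l, s, -⟩ := germ_surjective X p hp 0
    exact ⟨E, l, fun _ => 0, fun k hk => absurd hk (Nat.not_lt_zero k)⟩
  | succ d ih =>
    obtain ⟨E, l, b, hb⟩ := ih
    obtain ⟨E', l', s', hs'⟩ := germ_surjective X p hp (a d)
    obtain ⟨V, v, f, f', hf, hf'⟩ := exists_common X p hp E l E' l'
    refine ⟨V, v, fun k => if k = d then (OEt X.obj).obj.map f'.op s'
      else (OEt X.obj).obj.map f.op (b k), ?_⟩
    intro k hk
    by_cases hkd : k = d
    · simp only [hkd, if_true]
      rw [germ_map, hf', hs']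
    · simp only [hkd, if_false]
      rw [germ_map, hf]
      exact hb k (lt_of_le_of_ne (Nat.lt_succ_iff.mp hk) hkd)

/-- a monic polynomial over the étale local ring comes from a monic polynomial over the ring of
functions of some étale neighbourhood -/
theorem exists_lift_monic (P : Polynomial (Rg X p hp)) (hP : P.Monic) :
    ∃ (E : EtOver X.obj) (l : (FieldPt.liftsTo p).obj E) (Q : Polynomial (Fn X E)),
      Q.Monic ∧ Q.map (germ X p hp E l) = P := by
  obtain ⟨E, l, b, hb⟩ := exists_lift_family X p hp (fun k => P.coeff k) P.natDegree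
  refine ⟨E, l, (Polynomial.X : Polynomial (Fn X E)) ^ P.natDegree +
    ∑ k ∈ Finset.range P.natDegree, C (b k) * (Polynomial.X : Polynomial (Fn X E)) ^ k, ?_, ?_⟩
  · apply monic_X_pow_add
    refine lt_of_le_of_lt (degree_sum_le _ _) ?_
    rw [Finset.sup_lt_iff (WithBot.bot_lt_coe _)]
    intro k hk
    exact lt_of_le_of_lt (degree_C_mul_X_pow_le k (b k))
      (WithBot.coe_lt_coe.mpr (Finset.mem_range.mp hk))
  · rw [Polynomial.map_add, Polynomial.map_pow, Polynomial.map_X, Polynomial.map_sum]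
    conv_rhs => rw [hP.as_sum]
    congr 1
    apply Finset.sum_congr rfl
    intro k hk
    rw [Polynomial.map_mul, Polynomial.map_pow, Polynomial.map_X, Polynomial.map_C,
      hb k (Finset.mem_range.mp hk)]

end Lift


section Key

open Polynomial

/-- **Key lemma**: a simple root in `K` of a monic polynomial over the étale local ring lifts to a
root in the étale local ring. -/
theorem exists_root [IsSepClosed p.K] (P : Polynomial (Rg X p hp)) (hP : P.Monic) (α : p.K)
    (h0 : (P.map (evK X p hp)).eval α = 0) (h1 : (P.derivative.map (evK X p hp)).eval α ≠ 0) :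
    ∃ t : Rg X p hp, P.eval t = 0 ∧ evK X p hp t = α := by
  obtain ⟨E, l, Q, hQ, rfl⟩ := exists_lift_monic X p hp P hP
  let dn : Fn X E →+* Γ(E.obj.left.left, ⊤) :=
    (ULift.ringEquiv : ULift.{u + 1} Γ(E.obj.left.left, ⊤) ≃+* Γ(E.obj.left.left, ⊤)).toRingHom
  obtain ⟨ul, hul⟩ : ∃ ul : Spec (CommRingCat.of p.K) ⟶ E.obj.left.left, ul = l.1.left := ⟨_, rfl⟩
  have hcomp : (evK X p hp).comp (germ X p hp E l) =
      ((ul.appTop ≫ (Scheme.ΓSpecIso (CommRingCat.of p.K)).hom).hom).comp dn := by
    ext s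
    subst hul
    exact evK_germ X p hp E l s
  have hQ' : (Q.map dn).Monic := hQ.map dn
  rw [Polynomial.map_map, hcomp, ← Polynomial.map_map] at h0
  rw [← Polynomial.derivative_map, Polynomial.map_map, hcomp, ← Polynomial.map_map,
    Polynomial.derivative_map] at h1
  obtain ⟨V₀, g, hg, v₀, t₀, hvg, hroot, hval⟩ :=
    Groth.Agent.Lib.Helper8EtLocalRing.stdEtaleNbhd E.obj.left.left (Q.map dn) hQ' ul α h0 h1
  have hvg' : v₀ ≫ g = l.1.left := hvg.trans hul
  obtain ⟨l', hl', hl'v⟩ := exists_nbhdPt X p E g l v₀ hvg'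
  let up : Γ(V₀, ⊤) →+* Fn X (nbhd X E g) :=
    (ULift.ringEquiv.symm : Γ(V₀, ⊤) ≃+* ULift.{u + 1} Γ(V₀, ⊤)).toRingHom
  refine ⟨germ X p hp (nbhd X E g) l' (up t₀), ?_, ?_⟩
  · have hg' : germ X p hp E l = ((germ X p hp (nbhd X E g) l').comp up).comp
        (g.appTop.hom.comp dn) := by
      ext s
      rw [RingHom.comp_apply, RingHom.comp_apply]
      refine Eq.trans ?_ (germ_map X p hp (nbhdHom X E g) l' s).symm
      rw [hl']
    rw [hg', ← Polynomial.map_map, ← Polynomial.map_map, ← Polynomial.map_map,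
      Polynomial.eval_map, Polynomial.eval₂_at_apply, Polynomial.eval_map,
      Polynomial.eval₂_at_apply]
    have hroot' : Polynomial.eval t₀ (Polynomial.map g.appTop.hom (Q.map dn)) = 0 := hroot
    rw [hroot', map_zero, map_zero]
  · rw [evK_germ]
    rw [hl'v]
    exact hval

end Key

/-- **The étale local ring of an algebraic space at a geometric point is a strictly henselian
local ring** (for the fibre of the structure sheaf at the point `pnt`). -/
theorem isStrictlyHenselian_Rg :
    IsLocalRing (Rg X p hp) ∧ EtCoh.IsStrictlyHenselianLocalRing (Rg X p hp) := by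
  haveI : IsAlgClosed p.K := hp
  haveI : IsSepClosed p.K := inferInstance
  exact strictlyHenselian_of_ev (evK X p hp) (isUnit_of_evK_ne_zero X p hp)
    (fun P hP α h0 h1 => exists_root X p hp P hP α h0 h1)

end Sp

end Groth.Agent.Lib.Helper8SpLocalRing
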