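import Mathlib
import Groth.Prelude.Def_AlgSpOX3
import Groth.Agent.Lib.Helper8SpLocalRing

/-!
# The étale local ring of an algebraic space at a geometric point versus local rings of charts
(helper5)

For an étale neighbourhood `(E, l)` of a geometric point `p` whose scheme is affine we construct the
ring map `φ : O_{E,e} → O_{X,p}` (`stalkToRg`), show that it is injective, and that finite families
of elements of `O_{X,p}` come from a common affine neighbourhood.
-/

set_option autoImplicit false
set_option linter.style.haveILetI false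
set_option backward.isDefEq.respectTransparency false
universe u

open CategoryTheory CategoryTheory.Limits AlgebraicGeometry Opposite

namespace Groth.Agent.Lib.H5bOEtStalk

open AlgSp Groth.Agent.Lib.Helper8SpLocalRing

variable {S : Scheme.{u}} (X : AlgSp.Space S) (p : FieldPt X.obj) (hp : p.IsGeometric)

/-- the point of an étale neighbourhood hit by the lift of the geometric point -/
noncomputable def ptOf (E : EtOver X.obj) (l : (FieldPt.liftsTo p).obj E) : ↥E.obj.left.left :=
  l.1.left (default : Spec (CommRingCat.of p.K))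

theorem ptOf_map {E E' : EtOver X.obj} (f : E' ⟶ E) (l' : (FieldPt.liftsTo p).obj E') :
    ptOf X p E ((FieldPt.liftsTo p).map f l') = f.hom.left.left (ptOf X p E' l') := by
  change (l'.1.left ≫ f.hom.left.left) _ = _
  rw [Scheme.Hom.comp_apply]
  rfl

/-- global functions on an étale neighbourhood map to the étale local ring -/
noncomputable def gammaToRg (E : EtOver X.obj) (l : (FieldPt.liftsTo p).obj E) :
    Γ(E.obj.left.left, ⊤) →+* Rg X p hp :=
  (germ X p hp E l).comp
    (ULift.ringEquiv.symm : Γ(E.obj.left.left, ⊤) ≃+* ULift.{u + 1} Γ(E.obj.left.left, ⊤)).toRingHom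

theorem gammaToRg_apply (E : EtOver X.obj) (l : (FieldPt.liftsTo p).obj E)
    (s : Γ(E.obj.left.left, ⊤)) :
    gammaToRg X p hp E l s = germ X p hp E l (ULift.up s) := rfl

theorem gammaToRg_map {E E' : EtOver X.obj} (f : E' ⟶ E) (l' : (FieldPt.liftsTo p).obj E')
    (s : Γ(E.obj.left.left, ⊤)) :
    gammaToRg X p hp E' l' (f.hom.left.left.appTop.hom s) =
      gammaToRg X p hp E ((FieldPt.liftsTo p).map f l') s := by
  rw [gammaToRg_apply, gammaToRg_apply, ← germ_map]
  rfl

theorem isUnit_gammaToRg (E : EtOver X.obj) (l : (FieldPt.liftsTo p).obj E)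
    (s : Γ(E.obj.left.left, ⊤)) (hs : ptOf X p E l ∈ E.obj.left.left.basicOpen s) :
    IsUnit (gammaToRg X p hp E l s) := by
  apply isUnit_of_evK_ne_zero
  rw [gammaToRg_apply, evK_germ]
  intro h0
  have h1 : l.1.left.appTop.hom s = 0 := by
    have := congrArg (Scheme.ΓSpecIso (CommRingCat.of p.K)).inv.hom h0
    rwa [← CommRingCat.comp_apply, Iso.hom_inv_id, map_zero] at this
  have h2 : (default : Spec (CommRingCat.of p.K)) ∈
      l.1.left ⁻¹ᵁ E.obj.left.left.basicOpen s := hs
  rw [Scheme.preimage_basicOpen_top] at h2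
  have h3 : (default : Spec (CommRingCat.of p.K)) ∈
      (⊥ : (Spec (CommRingCat.of p.K)).Opens) := by
    have h4 : (Spec (CommRingCat.of p.K)).basicOpen
        (l.1.left.appTop.hom s : Γ(Spec (CommRingCat.of p.K), ⊤)) = ⊥ := by
      rw [h1]
      exact Scheme.basicOpen_zero _ _
    rw [← h4]
    exact h2
  exact h3

section Affine

variable (E : EtOver X.obj) (l : (FieldPt.liftsTo p).obj E)

/-- the prime of the ring of global functions corresponding to the point of the neighbourhood -/
noncomputable def primeOf [IsAffine E.obj.left.left] : PrimeSpectrum Γ(E.obj.left.left, ⊤) :=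
  (isAffineOpen_top E.obj.left.left).primeIdealOf ⟨ptOf X p E l, trivial⟩

/-- the algebra structure of the stalk over global functions (given by the germ map) -/
noncomputable abbrev stalkAlg :
    Algebra Γ(E.obj.left.left, ⊤) (E.obj.left.left.presheaf.stalk (ptOf X p E l)) :=
  TopCat.Presheaf.algebra_section_stalk E.obj.left.left.presheaf (U := ⊤)
    ⟨ptOf X p E l, trivial⟩

theorem isLocalization_stalk [IsAffine E.obj.left.left] :
    letI := stalkAlg X p E l
    IsLocalization.AtPrime (E.obj.left.left.presheaf.stalk (ptOf X p E l))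
      (primeOf X p E l).asIdeal :=
  (isAffineOpen_top E.obj.left.left).isLocalization_stalk ⟨ptOf X p E l, trivial⟩

theorem isUnit_gammaToRg_of_primeCompl [IsAffine E.obj.left.left]
    (y : (primeOf X p E l).asIdeal.primeCompl) :
    IsUnit (gammaToRg X p hp E l (y : Γ(E.obj.left.left, ⊤))) := by
  apply isUnit_gammaToRg
  letI := stalkAlg X p E l
  haveI := isLocalization_stalk X p E l
  have h1 : IsUnit (algebraMap Γ(E.obj.left.left, ⊤)
      (E.obj.left.left.presheaf.stalk (ptOf X p E l)) (y : Γ(E.obj.left.left, ⊤))) :=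
    IsLocalization.map_units (M := (primeOf X p E l).asIdeal.primeCompl) _ y
  exact (E.obj.left.left.mem_basicOpen (y : Γ(E.obj.left.left, ⊤)) (ptOf X p E l) trivial).2 h1

/-- the map from the local ring of an affine étale neighbourhood to the étale local ring -/
noncomputable def stalkToRg [IsAffine E.obj.left.left] :
    E.obj.left.left.presheaf.stalk (ptOf X p E l) →+* Rg X p hp :=
  letI := stalkAlg X p E l
  haveI := isLocalization_stalk X p E l
  IsLocalization.lift (M := (primeOf X p E l).asIdeal.primeCompl)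
    (g := gammaToRg X p hp E l) (isUnit_gammaToRg_of_primeCompl X p hp E l)

theorem stalkToRg_germ [IsAffine E.obj.left.left] (s : Γ(E.obj.left.left, ⊤)) :
    stalkToRg X p hp E l (E.obj.left.left.presheaf.germ ⊤ (ptOf X p E l) trivial s) =
      gammaToRg X p hp E l s := by
  letI := stalkAlg X p E l
  haveI := isLocalization_stalk X p E l
  exact IsLocalization.lift_eq (M := (primeOf X p E l).asIdeal.primeCompl)
    (isUnit_gammaToRg_of_primeCompl X p hp E l) s

end Affine

theorem germ_eq_zero_of_flat {Y Z : Scheme.{u}} (g : Y ⟶ Z) [Flat g] (y : Y) (z : Z)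
    (hz : g y = z) (s : Γ(Z, ⊤)) (hs : g.appTop.hom s = 0) :
    Z.presheaf.germ ⊤ z trivial s = 0 := by
  subst hz
  have hflat : (g.stalkMap y).hom.Flat := Flat.stalkMap g y
  have hinj : Function.Injective (g.stalkMap y).hom := by
    algebraize [(g.stalkMap y).hom]
    haveI : IsLocalHom (algebraMap (Z.presheaf.stalk (g y)) (Y.presheaf.stalk y)) := by
      rw [RingHom.algebraMap_toAlgebra]; infer_instance
    haveI : Module.FaithfullyFlat (Z.presheaf.stalk (g y)) (Y.presheaf.stalk y) :=
      Module.FaithfullyFlat.of_flat_of_isLocalHom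
    exact FaithfulSMul.algebraMap_injective _ _
  apply hinj
  rw [map_zero]
  have h1 := Scheme.Hom.germ_stalkMap_apply g ⊤ y trivial s
  refine h1.trans ?_
  have h2 : g.app ⊤ s = 0 := hs
  rw [h2, map_zero]

theorem stalkToRg_injective (E : EtOver X.obj) (l : (FieldPt.liftsTo p).obj E)
    [IsAffine E.obj.left.left] : Function.Injective (stalkToRg X p hp E l) := by
  letI := stalkAlg X p E l
  haveI := isLocalization_stalk X p E l
  apply IsLocalization.injective_of_map_algebraMap_zero
    (M := (primeOf X p E l).asIdeal.primeCompl)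
  intro s hs
  change stalkToRg X p hp E l (E.obj.left.left.presheaf.germ ⊤ (ptOf X p E l) trivial s) = 0 at hs
  change E.obj.left.left.presheaf.germ ⊤ (ptOf X p E l) trivial s = 0
  rw [stalkToRg_germ, gammaToRg_apply] at hs
  have h0 : germ X p hp E l (ULift.up s) = germ X p hp E l 0 := by rw [hs, map_zero]
  obtain ⟨E', f, l', hl', hmap⟩ :=
    ((pnt X p hp).toPresheafFiber_eq_iff' (P := (OEt X.obj).obj) E l (ULift.up s) 0).1 h0
  have h1 : f.hom.left.left.appTop.hom s = 0 := by
    have h2 : (OEt X.obj).obj.map f.op (ULift.up s) = 0 := by rw [hmap, map_zero]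
    rw [OEt_map] at h2
    exact congrArg ULift.down h2
  haveI : Etale f.hom.left.left := EtOver.etale_left f
  have hpt : f.hom.left.left (ptOf X p E' l') = ptOf X p E l := by
    have hl'' : (FieldPt.liftsTo p).map f l' = l := hl'
    rw [← hl'', ptOf_map]
  exact germ_eq_zero_of_flat f.hom.left.left (ptOf X p E' l') (ptOf X p E l) hpt s h1

section Ring

/-- an element of a minimal prime is killed, up to nilpotents, by an element outside it -/
theorem exists_notMem_isNilpotent_mul {R : Type*} [CommRing R] {P : Ideal R}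
    (hP : P ∈ minimalPrimes R) {x : R} (hx : x ∈ P) : ∃ y ∉ P, IsNilpotent (x * y) := by
  haveI := hP.1.1
  have h1 := IsLocalization.AtPrime.radical_map_of_mem_minimalPrimes
    (A := Localization.AtPrime P) P ⊥ hP
  have h2 : algebraMap R (Localization.AtPrime P) x ∈
      ((⊥ : Ideal R).map (algebraMap R (Localization.AtPrime P))).radical := by
    rw [h1]; exact Ideal.mem_map_of_mem _ hx
  rw [Ideal.map_bot] at h2
  obtain ⟨n, hn⟩ := h2
  rw [Ideal.mem_bot, ← map_pow, IsLocalization.map_eq_zero_iff P.primeCompl] at hn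
  obtain ⟨t, ht⟩ := hn
  refine ⟨t, t.2, n + 1, ?_⟩
  have : (x * (t : R)) ^ (n + 1) = x * (t : R) ^ n * ((t : R) * x ^ n) := by ring
  rw [this, ht, mul_zero]

/-- minimal primes are detected on an injective ring map whose range contains finitely many
well chosen elements. -/
theorem exists_finset_forall_le_encard {R : Type*} [CommRing R] (m : ℕ)
    (hm : (m : ℕ∞) ≤ (minimalPrimes R).encard) :
    ∃ F : Finset R, ∀ (A : Type u) [CommRing A] (φ : A →+* R), Function.Injective φ →
      (∀ r ∈ F, r ∈ φ.range) → (m : ℕ∞) ≤ (minimalPrimes A).encard := by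
  classical
  obtain ⟨T, hT, hTm⟩ := Set.exists_subset_encard_eq hm
  have hTfin : T.Finite := Set.finite_of_encard_eq_coe hTm
  -- choice of elements
  have hx : ∀ P ∈ T, ∀ Q ∈ T, P ≠ Q → ∃ x y : R, x ∈ P ∧ x ∉ Q ∧ y ∉ P ∧ IsNilpotent (x * y) := by
    intro P hP Q hQ hPQ
    have hnle : ¬ P ≤ Q := by
      intro hle
      haveI := (hT hP).1.1
      exact hPQ (le_antisymm hle ((hT hQ).2 ⟨(hT hP).1.1, bot_le⟩ hle))
    obtain ⟨x, hxP, hxQ⟩ := SetLike.not_le_iff_exists.1 hnle
    obtain ⟨y, hy, hxy⟩ := exists_notMem_isNilpotent_mul (hT hP) hxP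
    exact ⟨x, y, hxP, hxQ, hy, hxy⟩
  choose! x y hx1 hx2 hx3 hx4 using hx
  let F : Finset R := (hTfin.toFinset ×ˢ hTfin.toFinset).image (fun PQ => x PQ.1 PQ.2) ∪
    (hTfin.toFinset ×ˢ hTfin.toFinset).image (fun PQ => y PQ.1 PQ.2)
  refine ⟨F, ?_⟩
  intro A _ φ hφ hF
  have hxF : ∀ P ∈ T, ∀ Q ∈ T, x P Q ∈ φ.range := by
    intro P hP Q hQ
    apply hF
    apply Finset.mem_union_left
    exact Finset.mem_image.2 ⟨(P, Q), Finset.mem_product.2
      ⟨hTfin.mem_toFinset.2 hP, hTfin.mem_toFinset.2 hQ⟩, rfl⟩
  have hyF : ∀ P ∈ T, ∀ Q ∈ T, y P Q ∈ φ.range := by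
    intro P hP Q hQ
    apply hF
    apply Finset.mem_union_right
    exact Finset.mem_image.2 ⟨(P, Q), Finset.mem_product.2
      ⟨hTfin.mem_toFinset.2 hP, hTfin.mem_toFinset.2 hQ⟩, rfl⟩
  -- minimal primes below the contractions
  have hq : ∀ P ∈ T, ∃ q ∈ minimalPrimes A, q ≤ P.comap φ := by
    intro P hP
    haveI := (hT hP).1.1
    obtain ⟨q, hq, hle⟩ := Ideal.exists_minimalPrimes_le (I := (⊥ : Ideal A))
      (J := P.comap φ) bot_le
    exact ⟨q, hq, hle⟩
  choose! q hq1 hq2 using hq
  rw [← hTm]
  refine Set.encard_le_encard_of_injOn (f := q) (fun P hP => hq1 P hP) ?_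
  intro P hP Q hQ hPQ
  by_contra hne
  obtain ⟨α, hα⟩ := hxF P hP Q hQ
  obtain ⟨β, hβ⟩ := hyF P hP Q hQ
  have hnil : IsNilpotent (α * β) := by
    obtain ⟨n, hn⟩ := hx4 P hP Q hQ hne
    refine ⟨n, hφ ?_⟩
    rw [map_pow, map_mul, hα, hβ, hn, map_zero]
  haveI := (hq1 P hP).1.1
  have hmem : α * β ∈ q P := by
    obtain ⟨n, hn⟩ := hnil
    exact Ideal.IsPrime.mem_of_pow_mem inferInstance n (hn ▸ (q P).zero_mem)
  rcases Ideal.IsPrime.mem_or_mem inferInstance hmem with h | h
  · have h1 : α ∈ Q.comap φ := hq2 Q hQ (hPQ ▸ h)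
    rw [Ideal.mem_comap, hα] at h1
    exact hx2 P hP Q hQ hne h1
  · have h1 : β ∈ P.comap φ := hq2 P hP h
    rw [Ideal.mem_comap, hβ] at h1
    exact hx3 P hP Q hQ hne h1

/-- an injective ring map does not decrease the number of minimal primes -/
theorem encard_minimalPrimes_le_of_injective {A R : Type*} [CommRing A] [CommRing R]
    (φ : A →+* R) (hφ : Function.Injective φ) :
    (minimalPrimes A).encard ≤ (minimalPrimes R).encard := by
  classical
  have h : ∀ q ∈ minimalPrimes A, ∃ P ∈ minimalPrimes R, P.comap φ = q := by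
    intro q hq
    refine Ideal.exists_minimalPrimes_comap_eq (I := (⊥ : Ideal R)) φ q ?_
    rwa [Ideal.comap_bot_of_injective φ hφ]
  choose! P hP1 hP2 using h
  refine Set.encard_le_encard_of_injOn (f := P) (fun q hq => hP1 q hq) ?_
  intro q hq q' hq' h
  rw [← hP2 q hq, ← hP2 q' hq', h]

theorem encard_minimalPrimes_eq_of_ringEquiv {A B : Type*} [CommRing A] [CommRing B]
    (e : A ≃+* B) : (minimalPrimes A).encard = (minimalPrimes B).encard :=
  le_antisymm (encard_minimalPrimes_le_of_injective e.toRingHom e.injective)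
    (encard_minimalPrimes_le_of_injective e.symm.toRingHom e.symm.injective)

end Ring

section Refine

variable (E : EtOver X.obj) (l : (FieldPt.liftsTo p).obj E)

theorem exists_open_nbhd (W : E.obj.left.left.Opens) (hW : ptOf X p E l ∈ W) :
    ∃ l' : (FieldPt.liftsTo p).obj (nbhd X E W.ι),
      (FieldPt.liftsTo p).map (nbhdHom X E W.ι) l' = l := by
  have hr : Set.range l.1.left.base ⊆ Set.range W.ι.base := by
    rintro _ ⟨a, rfl⟩
    have ha : a = (default : Spec (CommRingCat.of p.K)) :=
      Subsingleton.elim (α := Spec (CommRingCat.of p.K)) a default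
    rw [ha, Scheme.Opens.range_ι]
    exact hW
  obtain ⟨l', hl', -⟩ := exists_nbhdPt X p E W.ι l (IsOpenImmersion.lift W.ι l.1.left hr)
    (IsOpenImmersion.lift_fac _ _ _)
  exact ⟨l', hl'⟩

theorem exists_affine_refinement :
    ∃ (E' : EtOver X.obj) (f : E' ⟶ E) (l' : (FieldPt.liftsTo p).obj E'),
      IsAffine E'.obj.left.left ∧ IsOpenImmersion f.hom.left.left ∧
        (FieldPt.liftsTo p).map f l' = l := by
  obtain ⟨W, hW, hmem, -⟩ := exists_isAffineOpen_mem_and_subset (x := ptOf X p E l)
    (U := ⊤) trivial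
  obtain ⟨l', hl'⟩ := exists_open_nbhd X p E l W hmem
  refine ⟨nbhd X E W.ι, nbhdHom X E W.ι, l', ?_, ?_, hl'⟩
  · exact hW
  · rw [nbhdHom_left]; infer_instance

end Refine

theorem exists_affine_finset (F : Finset (Rg X p hp)) :
    ∃ (E : EtOver X.obj) (l : (FieldPt.liftsTo p).obj E) (_ : IsAffine E.obj.left.left),
      ∀ r ∈ F, r ∈ (stalkToRg X p hp E l).range := by
  classical
  obtain ⟨E, l, b, hb⟩ := exists_lift_family X p hp (fun k => F.toList.getD k 0) F.toList.length
  obtain ⟨E', f, l', hE', -, hl'⟩ := exists_affine_refinement X p E l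
  refine ⟨E', l', hE', ?_⟩
  intro r hr
  have hr' : r ∈ F.toList := Finset.mem_toList.2 hr
  obtain ⟨k, hk, hkr⟩ := List.getElem_of_mem hr'
  have h1 : germ X p hp E l (b k) = r := by
    rw [hb k hk, List.getD_eq_getElem _ _ hk, hkr]
  refine ⟨E'.obj.left.left.presheaf.germ ⊤ (ptOf X p E' l') trivial
    (f.hom.left.left.appTop.hom (b k).down), ?_⟩
  rw [stalkToRg_germ, gammaToRg_map, hl', gammaToRg_apply]
  exact h1

theorem encard_minimalPrimes_stalk_eq_of_isOpenImmersion {Y Z : Scheme.{u}} (g : Y ⟶ Z)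
    [IsOpenImmersion g] (y : Y) (z : Z) (hz : g y = z) :
    (minimalPrimes (Z.presheaf.stalk z)).encard = (minimalPrimes (Y.presheaf.stalk y)).encard := by
  subst hz
  exact encard_minimalPrimes_eq_of_ringEquiv (asIso (g.stalkMap y)).commRingCatIsoToRingEquiv

/-- the number of minimal primes of the local ring of an étale neighbourhood is at most the
number of minimal primes of the étale local ring -/
theorem encard_minimalPrimes_stalk_le (E : EtOver X.obj) (l : (FieldPt.liftsTo p).obj E) :
    (minimalPrimes (E.obj.left.left.presheaf.stalk (ptOf X p E l))).encard ≤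
      (minimalPrimes (Rg X p hp)).encard := by
  obtain ⟨E', f, l', hE', hf, hl'⟩ := exists_affine_refinement X p E l
  have hpt : f.hom.left.left (ptOf X p E' l') = ptOf X p E l := by rw [← hl', ptOf_map]
  rw [encard_minimalPrimes_stalk_eq_of_isOpenImmersion f.hom.left.left _ _ hpt]
  exact encard_minimalPrimes_le_of_injective _ (stalkToRg_injective X p hp E' l')

/-- if the étale local ring has at least `m` minimal primes, so has the local ring of some affine
étale neighbourhood -/
theorem exists_nbhd_of_le_encard (m : ℕ)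
    (hm : (m : ℕ∞) ≤ (minimalPrimes (Rg X p hp)).encard) :
    ∃ (E : EtOver X.obj) (l : (FieldPt.liftsTo p).obj E),
      (m : ℕ∞) ≤ (minimalPrimes (E.obj.left.left.presheaf.stalk (ptOf X p E l))).encard := by
  obtain ⟨F, hF⟩ := exists_finset_forall_le_encard.{u} m hm
  obtain ⟨E, l, hE, hr⟩ := exists_affine_finset X p hp F
  exact ⟨E, l, hF _ (stalkToRg X p hp E l) (stalkToRg_injective X p hp E l) hr⟩

end Groth.Agent.Lib.H5bOEtStalk
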