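import Mathlib
import Groth.Prelude.Def_AlgSpOX3
import Groth.Prelude.Def_AlgSpDec
import Groth.Agent.Lib.H5bOEtStalk
import Groth.Agent.S10176
import Groth.Agent.Lib.H5bElemHz

/-!
# Geometric points of an algebraic space and étale charts (helper5)
-/

set_option autoImplicit false
set_option linter.style.haveILetI false
set_option backward.isDefEq.respectTransparency false
universe u

open CategoryTheory CategoryTheory.Limits AlgebraicGeometry Opposite

namespace Groth.Agent.Lib.H5bOEtStalkPt

open AlgSp Groth.Agent.Lib.Helper8SpLocalRing Groth.Agent.Lib.H5bOEtStalk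

variable {S : Scheme.{u}} (X : AlgSp.Space S) (p : FieldPt X.obj)

/-- an étale neighbourhood of `p` is an étale chart through the point defined by `p` -/
theorem ofPt_ptOf (E : EtOver X.obj) (l : (FieldPt.liftsTo p).obj E) :
    Points.ofPt E.obj.hom (ptOf X p E l) = Points.mk p := by
  have h1 := Groth.Agent.S10176.ofPt_map_comp l.1 E.obj.hom
    (default : Spec (CommRingCat.of p.K))
  have h2 : Points.ofPt ((yon S).map l.1 ≫ E.obj.hom) (default : Spec (CommRingCat.of p.K)) =
      Points.mk p := by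
    rw [l.2]
    exact Points.ofPt_toHom p _
  exact h1.symm.trans h2

/-- a geometric point lifts to any étale chart through a given point over its image -/
theorem exists_lift_at (hp : p.IsGeometric) {U : Over S} (a : (yon S).obj U ⟶ X.obj)
    (ha : RepWith @Etale a) (u : ↥U.left) (hu : Points.ofPt a u = Points.mk p) :
    ∃ l : (FieldPt.liftsTo p).obj (EtOver.mk a ha), ptOf X p (EtOver.mk a ha) l = u := by
  haveI : IsAlgClosed p.K := hp
  haveI : IsSepClosed p.K := inferInstance
  obtain ⟨W, w, pr', sq⟩ := ha.1 p.toHom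
  obtain ⟨pr, rfl⟩ := (yon S).map_surjective pr'
  haveI : Etale w.left := ha.2 p.toHom _ w sq
  have e : Points.ofPt a u = Points.ofPt p.toHom (default : Spec (CommRingCat.of p.K)) := by
    rw [hu]; exact (Points.ofPt_toHom p _).symm
  obtain ⟨y, hy1, hy2⟩ := Groth.Agent.S10176.exists_point_of_isPullback_yon sq u _ e
  obtain ⟨σ, hσ1, hσ2⟩ := Scheme.exists_fac_of_etale_of_isSepClosed w.left
    (𝟙 (Spec (CommRingCat.of p.K))) y hy2
  have hW : w.left ≫ p.pt.hom = W.hom := Over.w w
  have hσS : σ ≫ W.hom = p.str := by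
    rw [← hW, ← Category.assoc, hσ1, Category.id_comp]; rfl
  let σ' : p.pt ⟶ W := Over.homMk σ hσS
  have hσ' : σ' ≫ w = 𝟙 p.pt := by
    apply Over.OverMorphism.ext
    exact hσ1
  refine ⟨⟨σ' ≫ pr, ?_⟩, ?_⟩
  · change (yon S).map (σ' ≫ pr) ≫ a = p.toHom
    rw [Functor.map_comp, Category.assoc, sq.w, ← Category.assoc, ← Functor.map_comp, hσ',
      CategoryTheory.Functor.map_id, Category.id_comp]
  · change (σ ≫ pr.left) _ = u
    rw [Scheme.Hom.comp_apply, hσ2, hy1]

/-- over every point of an étale chart there is a geometric point -/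
theorem exists_geometric_over {U : Over S} (a : (yon S).obj U ⟶ X.obj) (u : ↥U.left) :
    ∃ q : FieldPt X.obj, q.IsGeometric ∧ Points.mk q = Points.ofPt a u := by
  let K := AlgebraicClosure (U.left.residueField u)
  let m : Spec (CommRingCat.of K) ⟶ U.left :=
    Spec.map (CommRingCat.ofHom (algebraMap (U.left.residueField u) K)) ≫
      U.left.fromSpecResidueField u
  let q₀ : FieldPt ((yon S).obj U) := ⟨K, m ≫ U.hom, ULift.up (Over.homMk m rfl)⟩
  refine ⟨q₀.map a, ?_, ?_⟩
  · change IsAlgClosed K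
    infer_instance
  · have h1 : Points.ofScheme U (m (IsLocalRing.closedPoint K)) = Points.mk q₀ :=
      Points.ofScheme_apply_eq_mk U m rfl
    have h2 : m (IsLocalRing.closedPoint K) = u := by
      change (Spec.map (CommRingCat.ofHom (algebraMap (U.left.residueField u) K)) ≫
        U.left.fromSpecResidueField u) _ = u
      rw [Scheme.Hom.comp_apply]
      exact Scheme.fromSpecResidueField_apply _ _
    rw [Points.ofPt_eq_map_ofScheme, ← h2, h1]
    rfl

section Charts

variable {X}

/-- an étale neighbourhood (of schemes) of a point of an étale chart is an étale chart through the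
same point -/
theorem chart_of_etale {F : Sp S} {U : Over S} (a : (yon S).obj U ⟶ F) (ha : RepWith @Etale a)
    (u : ↥U.left) {V : Scheme.{u}} (g : V ⟶ U.left) [Etale g] (v : V) (hv : g v = u) :
    RepWith @Etale ((yon S).map (Over.homMk g rfl : Over.mk (g ≫ U.hom) ⟶ U) ≫ a) ∧
      Points.ofPt (T := Over.mk (g ≫ U.hom))
        ((yon S).map (Over.homMk g rfl : Over.mk (g ≫ U.hom) ⟶ U) ≫ a) v = Points.ofPt a u := by
  have hge : RepWith @Etale ((yon S).map (Over.homMk g rfl : Over.mk (g ≫ U.hom) ⟶ U)) :=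
    (repWith_yon_map_iff @Etale _).2 (show Etale g from inferInstance)
  refine ⟨(repWith_isMultiplicative (S := S) @Etale).comp_mem _ _ hge ha, ?_⟩
  rw [Groth.Agent.S10176.ofPt_map_comp]
  change Points.ofPt a (g v) = _
  rw [hv]

/-- two étale charts through the same point are dominated by a third -/
theorem exists_common_chart {F : Sp S} {U U₀ : Over S} (a : (yon S).obj U ⟶ F)
    (ha : RepWith @Etale a) (a₀ : (yon S).obj U₀ ⟶ F) (ha₀ : RepWith @Etale a₀)
    (u : ↥U.left) (u₀ : ↥U₀.left) (h : Points.ofPt a u = Points.ofPt a₀ u₀) :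
    ∃ (W : Over S) (pr : W ⟶ U) (w : W ⟶ U₀) (y : ↥W.left), Etale pr.left ∧ Etale w.left ∧
      pr.left y = u ∧ w.left y = u₀ := by
  obtain ⟨W, w, pr', sq⟩ := ha.1 a₀
  obtain ⟨pr, rfl⟩ := (yon S).map_surjective pr'
  have h1 : Etale w.left := ha.2 a₀ _ w sq
  have h2 : Etale pr.left := ha₀.2 a _ pr sq.flip
  obtain ⟨y, hy1, hy2⟩ := Groth.Agent.S10176.exists_point_of_isPullback_yon sq u u₀ h
  exact ⟨W, pr, w, y, h2, h1, hy1, hy2⟩

end Charts

section Schemes

open Groth.Agent.Lib.H5bElemHz

theorem encard_minimalPrimes_stalk_le_of_flat {Y Z : Scheme.{u}} (g : Y ⟶ Z) [Flat g] (y : Y)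
    (z : Z) (hz : g y = z) :
    (minimalPrimes (Z.presheaf.stalk z)).encard ≤ (minimalPrimes (Y.presheaf.stalk y)).encard := by
  subst hz
  have hflat : (g.stalkMap y).hom.Flat := Flat.stalkMap g y
  have hinj : Function.Injective (g.stalkMap y).hom := by
    algebraize [(g.stalkMap y).hom]
    haveI : IsLocalHom (algebraMap (Z.presheaf.stalk (g y)) (Y.presheaf.stalk y)) := by
      rw [RingHom.algebraMap_toAlgebra]; infer_instance
    haveI : Module.FaithfullyFlat (Z.presheaf.stalk (g y)) (Y.presheaf.stalk y) :=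
      Module.FaithfullyFlat.of_flat_of_isLocalHom
    exact FaithfulSMul.algebraMap_injective _ _
  exact encard_minimalPrimes_le_of_injective _ hinj

/-- the number of minimal primes of the local ring of an étale neighbourhood is at most the number
of geometric branches -/
theorem encard_minimalPrimes_le_numGeomBranchesAt {U V : Scheme.{u}} (g : V ⟶ U) [Etale g] (v : V)
    (u : U) (hv : g v = u) :
    (minimalPrimes (V.presheaf.stalk v)).encard ≤ Brnch.numGeomBranchesAt U u := by
  rw [Groth.Agent.Lib.H5bBranchMain.numGeomBranchesAt_eq_iSup, ← encard_components_eq_minimalPrimes]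
  exact le_iSup_of_le V (le_iSup_of_le g (le_iSup_of_le v
    (le_iSup_of_le ⟨inferInstance, hv⟩ le_rfl)))

theorem encard_minimalPrimes_le_numGeomBranchesAt_self (U : Scheme.{u}) (u : U) :
    (minimalPrimes (U.presheaf.stalk u)).encard ≤ Brnch.numGeomBranchesAt U u :=
  encard_minimalPrimes_le_numGeomBranchesAt (𝟙 U) u u rfl

/-- a finite number of geometric branches is attained on an étale neighbourhood -/
theorem exists_etale_nbhd_of_le_numGeomBranchesAt (U : Scheme.{u}) (u : U) (n : ℕ) (hn : 1 ≤ n)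
    (h : (n : ℕ∞) ≤ Brnch.numGeomBranchesAt U u) :
    ∃ (V : Scheme.{u}) (g : V ⟶ U) (v : V), Etale g ∧ g v = u ∧
      (n : ℕ∞) ≤ (minimalPrimes (V.presheaf.stalk v)).encard := by
  rw [Groth.Agent.Lib.H5bBranchMain.numGeomBranchesAt_eq_iSup] at h
  obtain ⟨k, rfl⟩ : ∃ k, n = k + 1 := ⟨n - 1, by omega⟩
  have hlt : ((k : ℕ) : ℕ∞) < ⨆ (V : Scheme.{u}) (g : V ⟶ U) (v : V) (_ : Etale g ∧ g v = u),
      {Z : Set ↑V | Z ∈ irreducibleComponents ↑V ∧ v ∈ Z}.encard := by
    refine lt_of_lt_of_le ?_ h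
    exact_mod_cast Nat.lt_succ_self k
  obtain ⟨V, hV⟩ := lt_iSup_iff.1 hlt
  obtain ⟨g, hg⟩ := lt_iSup_iff.1 hV
  obtain ⟨v, hv⟩ := lt_iSup_iff.1 hg
  obtain ⟨⟨h1, h2⟩, h3⟩ := lt_iSup_iff.1 hv
  refine ⟨V, g, v, h1, h2, ?_⟩
  rw [← encard_components_eq_minimalPrimes]
  have := Order.add_one_le_of_lt h3
  exact_mod_cast this

end Schemes

end Groth.Agent.Lib.H5bOEtStalkPt
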