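import Mathlib
import Groth.Agent.Lib.H5bOEtStalkPt
import Groth.Agent.Lib.Helper10WEtaleSch
import Groth.Agent.S1412
import Groth.Agent.S10177

/-!
# Reducedness of the étale local ring of an algebraic space (helper5)
-/

set_option autoImplicit false
set_option linter.style.haveILetI false
set_option backward.isDefEq.respectTransparency false
universe u

open CategoryTheory CategoryTheory.Limits AlgebraicGeometry Opposite

namespace Groth.Agent.Lib.H5bOEtStalkRed

open AlgSp Groth.Agent.Lib.Helper8SpLocalRing Groth.Agent.Lib.H5bOEtStalk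
  Groth.Agent.Lib.H5bOEtStalkPt

theorem stalkMap_injective_of_flat {Y Z : Scheme.{u}} (g : Y ⟶ Z) [Flat g] (y : Y) :
    Function.Injective (g.stalkMap y).hom := by
  have hflat : (g.stalkMap y).hom.Flat := Flat.stalkMap g y
  algebraize [(g.stalkMap y).hom]
  haveI : IsLocalHom (algebraMap (Z.presheaf.stalk (g y)) (Y.presheaf.stalk y)) := by
    rw [RingHom.algebraMap_toAlgebra]; infer_instance
  haveI : Module.FaithfullyFlat (Z.presheaf.stalk (g y)) (Y.presheaf.stalk y) :=
    Module.FaithfullyFlat.of_flat_of_isLocalHom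
  exact FaithfulSMul.algebraMap_injective _ _

theorem isReduced_stalk_of_flat {Y Z : Scheme.{u}} (g : Y ⟶ Z) [Flat g] (y : Y) (z : Z)
    (hz : g y = z) (h : _root_.IsReduced (Y.presheaf.stalk y)) :
    _root_.IsReduced (Z.presheaf.stalk z) := by
  subst hz
  exact isReduced_of_injective (g.stalkMap y).hom (stalkMap_injective_of_flat g y)

theorem isReduced_stalk_of_etale {W U : Scheme.{u}} (g : W ⟶ U) [Etale g] (y : W) (u : U)
    (hu : g y = u) (h : _root_.IsReduced (U.presheaf.stalk u)) :
    _root_.IsReduced (W.presheaf.stalk y) := by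
  subst hu
  obtain ⟨hflat, hdiag⟩ := (Groth.Agent.S1412.result g).mp inferInstance y
  letI := (g.stalkMap y).hom.toAlgebra
  haveI : Algebra.WeaklyEtale (U.presheaf.stalk (g y)) (W.presheaf.stalk y) := ⟨hflat, hdiag⟩
  exact Groth.Agent.Lib.Helper10.WEtaleSch.isReduced_of_weaklyEtale_ring
    (U.presheaf.stalk (g y)) (W.presheaf.stalk y)

variable {S : Scheme.{u}} (X : AlgSp.Space S) (p : FieldPt X.obj) (hp : p.IsGeometric)

/-- if the étale local ring is reduced, so is the local ring of every étale neighbourhood -/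
theorem isReduced_stalk_of_isReduced_Rg (E : EtOver X.obj) (l : (FieldPt.liftsTo p).obj E)
    (h : _root_.IsReduced (Rg X p hp)) :
    _root_.IsReduced (E.obj.left.left.presheaf.stalk (ptOf X p E l)) := by
  obtain ⟨E', f, l', hE', hf, hl'⟩ := exists_affine_refinement X p E l
  have hpt : f.hom.left.left (ptOf X p E' l') = ptOf X p E l := by rw [← hl', ptOf_map]
  have h1 : _root_.IsReduced (E'.obj.left.left.presheaf.stalk (ptOf X p E' l')) :=
    isReduced_of_injective (stalkToRg X p hp E' l') (stalkToRg_injective X p hp E' l')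
  exact isReduced_stalk_of_flat f.hom.left.left _ _ hpt h1

/-- if the local ring of some étale chart through the image point is reduced, so is the étale
local ring -/
theorem isReduced_Rg_of_chart {U : Over S} (a : (yon S).obj U ⟶ X.obj) (ha : RepWith @Etale a)
    (u : ↥U.left) (hu : Points.ofPt a u = Points.mk p)
    (hred : _root_.IsReduced (U.left.presheaf.stalk u)) : _root_.IsReduced (Rg X p hp) := by
  refine ⟨fun r hr => ?_⟩
  obtain ⟨E, l, hE, hF⟩ := exists_affine_finset X p hp {r}
  obtain ⟨α, rfl⟩ := hF r (Finset.mem_singleton_self r)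
  obtain ⟨W, pr, w, y, hpr, hw, hy1, hy2⟩ :=
    exists_common_chart a ha E.obj.hom E.property u (ptOf X p E l)
      (hu.trans (ofPt_ptOf X p E l).symm)
  haveI := hpr
  haveI := hw
  have h1 : _root_.IsReduced (W.left.presheaf.stalk y) :=
    isReduced_stalk_of_etale pr.left y u hy1 hred
  have h2 : _root_.IsReduced (E.obj.left.left.presheaf.stalk (ptOf X p E l)) :=
    isReduced_stalk_of_flat w.left y _ hy2 h1
  have h3 : IsNilpotent α := by
    obtain ⟨n, hn⟩ := hr
    refine ⟨n, stalkToRg_injective X p hp E l ?_⟩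
    rw [map_pow, hn, map_zero]
  rw [h3.eq_zero, map_zero]

end Groth.Agent.Lib.H5bOEtStalkRed
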