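import Mathlib
import Groth.Agent.Lib.Helper12Proper
import Groth.Agent.S10175
import Groth.Agent.S10174
import Groth.Agent.S10280
import Groth.Agent.S9874

/-!
# Images of proper algebraic spaces under jointly surjective finite families are proper (helper5)
-/

set_option autoImplicit false
set_option linter.style.haveILetI false

universe u
open CategoryTheory CategoryTheory.Limits AlgebraicGeometry Opposite

namespace Groth.Agent.Lib.H5bProperImage

section Cat

variable {C : Type*} [Category C] [HasPullbacks C]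

/-- `g × id`. -/
noncomputable def mapL {A A' D B : C} (g : A ⟶ A') (p' : A' ⟶ B) (r : D ⟶ B) :
    pullback (g ≫ p') r ⟶ pullback p' r :=
  pullback.lift (pullback.fst _ _ ≫ g) (pullback.snd _ _)
    (by rw [Category.assoc, pullback.condition])

/-- `id × g`. -/
noncomputable def mapR {A A' D B : C} (g : A ⟶ A') (p' : A' ⟶ B) (r : D ⟶ B) :
    pullback r (g ≫ p') ⟶ pullback r p' :=
  pullback.lift (pullback.fst _ _) (pullback.snd _ _ ≫ g)
    (by rw [Category.assoc, ← pullback.condition])

/-- `g × id` is a base change of `g`. -/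
lemma isPullback_mapL {A A' D B : C} (g : A ⟶ A') (p' : A' ⟶ B) (r : D ⟶ B) :
    IsPullback (pullback.fst (g ≫ p') r) (mapL g p' r) g (pullback.fst p' r) := by
  refine (IsPullback.of_right ?_ ?_ (IsPullback.of_hasPullback p' r).flip).flip
  · have h : mapL g p' r ≫ pullback.snd p' r = pullback.snd (g ≫ p') r :=
      pullback.lift_snd _ _ _
    rw [h]
    exact (IsPullback.of_hasPullback (g ≫ p') r).flip
  · exact pullback.lift_fst _ _ _

/-- `id × g` is a base change of `g`. -/
lemma isPullback_mapR {A A' D B : C} (g : A ⟶ A') (p' : A' ⟶ B) (r : D ⟶ B) :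
    IsPullback (pullback.snd r (g ≫ p')) (mapR g p' r) g (pullback.snd r p') := by
  refine IsPullback.of_bot ?_ ?_ (IsPullback.of_hasPullback r p').flip
  · have h : mapR g p' r ≫ pullback.fst r p' = pullback.fst r (g ≫ p') :=
      pullback.lift_fst _ _ _
    rw [h]
    exact (IsPullback.of_hasPullback r (g ≫ p')).flip
  · exact (pullback.lift_snd _ _ _ :
      mapR g p' r ≫ pullback.snd r p' = pullback.snd r (g ≫ p') ≫ g).symm

/-- the diagonal of a composite through `g × g`. -/
lemma comp_diagonal {A A' B : C} (g : A ⟶ A') (q : A' ⟶ B) :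
    g ≫ pullback.diagonal q = pullback.diagonal (g ≫ q) ≫ mapL g q (g ≫ q) ≫ mapR g q q := by
  apply pullback.hom_ext
  · simp only [Category.assoc, pullback.diagonal_fst, Category.comp_id, mapL, mapR,
      pullback.lift_fst, pullback.diagonal_fst_assoc]
  · simp only [Category.assoc, pullback.diagonal_snd, Category.comp_id, mapL, mapR,
      pullback.lift_snd, pullback.lift_snd_assoc, pullback.diagonal_snd_assoc]

omit [HasPullbacks C] in
lemma isPullback_id_of_mono {A B D : C} (s : A ⟶ D) (σ : A ⟶ B)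
    (m : B ⟶ D) [Mono m] (h : σ ≫ m = s) : IsPullback (𝟙 A) σ s m :=
  ⟨⟨by rw [Category.id_comp, h]⟩, ⟨PullbackCone.IsLimit.mk _ (fun t => t.fst)
    (fun t => Category.comp_id _)
    (fun t => by rw [← cancel_mono m, Category.assoc, h, t.condition])
    (fun t r hr _ => by rw [← hr, Category.comp_id])⟩⟩

end Cat

open Groth.Agent.Lib.Helper12.Proper

variable {S : Scheme.{u}}

section Family

variable {ι : Type*} [Finite ι] {X : ι → AlgSp.Sp S} {Y B : AlgSp.Sp S}

omit [Finite ι] in
/-- base changes of a jointly surjective family are jointly surjective. -/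
lemma jointly_surjective_baseChange (f : ∀ k, X k ⟶ Y)
    (hf : ∀ y : AlgSp.Points Y, ∃ (k : ι) (x : AlgSp.Points (X k)), AlgSp.Points.map (f k) x = y)
    {Z' : AlgSp.Sp S} (fst : Z' ⟶ Y) (w' : AlgSp.Points Z') :
    ∃ (k : ι) (p : AlgSp.Points (pullback (f k) fst)),
      AlgSp.Points.map (pullback.snd (f k) fst) p = w' := by
  obtain ⟨k, x, hx⟩ := hf (AlgSp.Points.map fst w')
  obtain ⟨p, hp1, -⟩ := Groth.Agent.S10175.exists_point_of_isPullback
    (IsPullback.of_hasPullback (f k) fst).flip w' x hx.symm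
  exact ⟨k, p, hp1⟩

/-- the target of a jointly surjective finite family of universally closed spaces is universally
closed. -/
theorem isUnivClosedMor_of_jointly_surjective (f : ∀ k, X k ⟶ Y) (q : Y ⟶ B)
    (hp : ∀ k, AlgSp.IsUnivClosedMor (f k ≫ q))
    (hf : ∀ y : AlgSp.Points Y, ∃ (k : ι) (x : AlgSp.Points (X k)), AlgSp.Points.map (f k) x = y) :
    AlgSp.IsUnivClosedMor q := by
  intro Z Z' hZ c fst snd sq
  have hcl : ∀ k, IsClosedMap (AlgSp.Points.map (pullback.snd (f k) fst ≫ snd)) := fun k =>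
    hp k hZ c _ _ ((IsPullback.of_hasPullback (f k) fst).paste_vert sq)
  intro A hA
  have : AlgSp.Points.map snd '' A = ⋃ k, AlgSp.Points.map (pullback.snd (f k) fst ≫ snd) ''
      (AlgSp.Points.map (pullback.snd (f k) fst) ⁻¹' A) := by
    ext z
    simp only [Set.mem_image, Set.mem_iUnion, Set.mem_preimage]
    constructor
    · rintro ⟨a, ha, rfl⟩
      obtain ⟨k, p, hp⟩ := jointly_surjective_baseChange f hf fst a
      exact ⟨k, p, by rw [hp]; exact ha, by rw [AlgSp.Points.map_comp, hp]⟩
    · rintro ⟨k, p, hpA, rfl⟩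
      exact ⟨_, hpA, (AlgSp.Points.map_comp _ _ p).symm⟩
  rw [this]
  exact isClosed_iUnion_of_finite fun k =>
    hcl k _ (hA.preimage (AlgSp.Points.continuous_map _))

/-- the target of a jointly surjective finite family of spaces quasi-compact over the base is
quasi-compact over the base. -/
theorem isQuasiCompactMor_of_jointly_surjective (hX : ∀ k, AlgSp.IsAlgSpace (X k))
    (hY : AlgSp.IsAlgSpace Y) (hB : AlgSp.IsAlgSpace B) (f : ∀ k, X k ⟶ Y) (q : Y ⟶ B)
    (hp : ∀ k, AlgSp.IsQuasiCompactMor (f k ≫ q))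
    (hf : ∀ y : AlgSp.Points Y, ∃ (k : ι) (x : AlgSp.Points (X k)), AlgSp.Points.map (f k) x = y) :
    AlgSp.IsQuasiCompactMor q := by
  intro T P hT hqc t fst snd sq
  have hP : AlgSp.IsAlgSpace P := Groth.Agent.S9874.isAlgSpace_of_isPullback hB.diag hY hT sq
  have hPk : ∀ k, AlgSp.IsAlgSpace (pullback (f k) fst) := fun k =>
    Groth.Agent.S9874.isAlgSpace_of_isPullback hY.diag (hX k) hP (IsPullback.of_hasPullback _ _)
  have hqk : ∀ k, AlgSp.IsQuasiCompactSp (pullback (f k) fst) := fun k =>
    hp k hT hqc t _ _ ((IsPullback.of_hasPullback (f k) fst).paste_vert sq)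
  have hck : ∀ k, CompactSpace (AlgSp.Points (pullback (f k) fst)) := fun k =>
    (Groth.Agent.S10174.result ⟨_, hPk k⟩).1 (hqk k)
  refine (Groth.Agent.S10174.result ⟨P, hP⟩).2 ⟨?_⟩
  have : (Set.univ : Set (AlgSp.Points P)) =
      ⋃ k, Set.range (AlgSp.Points.map (pullback.snd (f k) fst)) := by
    apply Set.eq_of_subset_of_subset _ (Set.subset_univ _)
    intro w' _
    obtain ⟨k, p, hp⟩ := jointly_surjective_baseChange f hf fst w'
    exact Set.mem_iUnion.2 ⟨k, p, hp⟩
  rw [this]
  exact isCompact_iUnion fun k => by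
    haveI := hck k
    exact isCompact_range (AlgSp.Points.continuous_map _)

end Family

section Sep

/-- `g × g` is universally closed when `g` is. -/
theorem isUnivClosedMor_prod_map {A A' B : AlgSp.Sp S} (hA : AlgSp.IsAlgSpace A)
    (hA' : AlgSp.IsAlgSpace A') (hB : AlgSp.IsAlgSpace B) (g : A ⟶ A') (q : A' ⟶ B)
    (hg : AlgSp.IsUnivClosedMor g) :
    AlgSp.IsUnivClosedMor (mapL g q (g ≫ q) ≫ mapR g q q) := by
  have h1 : AlgSp.IsUnivClosedMor (mapL g q (g ≫ q)) :=
    isUnivClosedMor_baseChange (isPullback_mapL g q (g ≫ q)) hg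
  have h2 : AlgSp.IsUnivClosedMor (mapR g q q) :=
    isUnivClosedMor_baseChange (isPullback_mapR g q q) hg
  exact isUnivClosedMor_comp
    (Groth.Agent.S9874.isAlgSpace_of_isPullback hB.diag hA' hA (IsPullback.of_hasPullback _ _))
    (Groth.Agent.S9874.isAlgSpace_of_isPullback hB.diag hA' hA' (IsPullback.of_hasPullback _ _))
    _ _ h1 h2

variable {ι : Type*} [Finite ι] {X : ι → AlgSp.Sp S} {Y B : AlgSp.Sp S}

/-- the target of a jointly surjective finite family of universally closed morphisms from spaces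
separated over the base is separated over the base. -/
theorem isSeparatedMor_of_jointly_surjective (hX : ∀ k, AlgSp.IsAlgSpace (X k))
    (hY : AlgSp.IsAlgSpace Y) (hB : AlgSp.IsAlgSpace B) (f : ∀ k, X k ⟶ Y) (q : Y ⟶ B)
    (hfc : ∀ k, AlgSp.IsUnivClosedMor (f k))
    (hp : ∀ k, AlgSp.IsSeparatedMor (f k ≫ q))
    (hf : ∀ y : AlgSp.Points Y, ∃ (k : ι) (x : AlgSp.Points (X k)), AlgSp.Points.map (f k) x = y) :
    AlgSp.IsSeparatedMor q := by
  let Y' : AlgSp.Space S := ⟨Y, hY⟩
  let B' : AlgSp.Space S := ⟨B, hB⟩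
  let q' : Y' ⟶ B' := ObjectProperty.homMk q
  refine Groth.Agent.S10280.isSeparatedMor_of_isUnivClosedMor_diagonal q' ?_
  change AlgSp.IsUnivClosedMor (pullback.diagonal q)
  refine isUnivClosedMor_of_jointly_surjective f (pullback.diagonal q) (fun k => ?_) hf
  rw [comp_diagonal (f k) q]
  exact isUnivClosedMor_comp
    (Groth.Agent.S9874.isAlgSpace_of_isPullback hB.diag (hX k) (hX k) (IsPullback.of_hasPullback _ _))
    (Groth.Agent.S9874.isAlgSpace_of_isPullback hB.diag hY hY (IsPullback.of_hasPullback _ _))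
    _ _ (isUnivClosedMor_of_isClosedImmersion _ (hp k))
    (isUnivClosedMor_prod_map (hX k) hY hB (f k) q (hfc k))

/-- the target of a jointly surjective finite family of universally closed morphisms from spaces
proper over the base is proper over the base, as soon as it is locally of finite type. -/
theorem isProperMor_of_jointly_surjective (hX : ∀ k, AlgSp.IsAlgSpace (X k))
    (hY : AlgSp.IsAlgSpace Y) (hB : AlgSp.IsAlgSpace B) (f : ∀ k, X k ⟶ Y) (q : Y ⟶ B)
    (hq : AlgSp.LocP @LocallyOfFiniteType q) (hfc : ∀ k, AlgSp.IsUnivClosedMor (f k))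
    (hp : ∀ k, AlgSp.IsProperMor (f k ≫ q))
    (hf : ∀ y : AlgSp.Points Y, ∃ (k : ι) (x : AlgSp.Points (X k)), AlgSp.Points.map (f k) x = y) :
    AlgSp.IsProperMor q :=
  ⟨isSeparatedMor_of_jointly_surjective hX hY hB f q hfc (fun k => (hp k).1) hf,
    ⟨hq, isQuasiCompactMor_of_jointly_surjective hX hY hB f q (fun k => (hp k).2.1.2) hf⟩,
    isUnivClosedMor_of_jointly_surjective f q (fun k => (hp k).2.2) hf⟩

/-- a morphism whose composite with a monomorphism is universally closed is universally closed. -/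
theorem isUnivClosedMor_of_comp_mono {A Z' Y₀ : AlgSp.Sp S} (g : A ⟶ Z') (m : Z' ⟶ Y₀) [Mono m]
    (h : AlgSp.IsUnivClosedMor (g ≫ m)) : AlgSp.IsUnivClosedMor g :=
  isUnivClosedMor_baseChange (isPullback_id_of_mono (g ≫ m) g m rfl) h

end Sep

end Groth.Agent.Lib.H5bProperImage
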