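import Mathlib
import Groth.Prelude.Def_Hensel
import Groth.Prelude.Def_CAlg2
import Groth.Agent.Lib.H5bBranchMain
import Groth.Agent.S0538
import Groth.Agent.S0540
import Groth.Agent.Lib.Helper3HzP
import Groth.Agent.Lib.Helper14IrrComp
import Groth.Agent.Lib.Helper4GenFinite2

/-!
# Punctured spectra of strict henselizations and geometric unibranchness (helper5)
-/

set_option autoImplicit false
set_option linter.style.haveILetI false
universe u

namespace Groth.Agent.Lib.H5bPunct

open AlgebraicGeometry CategoryTheory IsLocalRing TopologicalSpace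

section Ring

variable (T : Type u) [CommRing T] [IsLocalRing T]

theorem mem_punctured_iff (Q : PrimeSpectrum T) :
    Q ∈ ({IsLocalRing.closedPoint T}ᶜ : Set (PrimeSpectrum T)) ↔ Q.asIdeal ≠ maximalIdeal T := by
  rw [Set.mem_compl_iff, Set.mem_singleton_iff, not_iff_not]
  constructor
  · intro h; rw [h]; rfl
  · intro h; exact PrimeSpectrum.ext h

/-- a minimal prime which is the maximal ideal is the only prime. -/
theorem eq_maximalIdeal_of_minimal {P : Ideal T} (hP : P ∈ minimalPrimes T)
    (hm : P = maximalIdeal T) (Q : Ideal T) [hQ : Q.IsPrime] : Q = maximalIdeal T := by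
  have h1 : Q ≤ maximalIdeal T := IsLocalRing.le_maximalIdeal hQ.ne_top
  have h2 : P ≤ Q := hP.2 ⟨hQ, bot_le⟩ (hm ▸ h1)
  exact le_antisymm h1 (hm ▸ h2)

/-- in a Noetherian local ring with preconnected punctured spectrum, two distinct minimal primes
give two distinct minimal primes contained in a common non-maximal prime. -/
theorem exists_prime_above_two_minimalPrimes [IsNoetherianRing T]
    (hconn : _root_.IsPreconnected ({IsLocalRing.closedPoint T}ᶜ : Set (PrimeSpectrum T)))
    {P₁ P₂ : Ideal T} (h₁ : P₁ ∈ minimalPrimes T) (h₂ : P₂ ∈ minimalPrimes T) (hne : P₁ ≠ P₂) :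
    ∃ (P' : Ideal T) (Q : Ideal T), P' ∈ minimalPrimes T ∧ P₁ ≠ P' ∧ Q.IsPrime ∧
      Q ≠ maximalIdeal T ∧ P₁ ≤ Q ∧ P' ≤ Q := by
  classical
  have hfin : (minimalPrimes T).Finite := minimalPrimes.finite_of_isNoetherianRing T
  let t : Set (PrimeSpectrum T) := PrimeSpectrum.zeroLocus (P₁ : Set T)
  let t' : Set (PrimeSpectrum T) :=
    ⋃ P ∈ (minimalPrimes T \ {P₁}), PrimeSpectrum.zeroLocus (P : Set T)
  have ht : IsClosed t := PrimeSpectrum.isClosed_zeroLocus _
  have ht' : IsClosed t' := (hfin.subset Set.sdiff_subset).isClosed_biUnion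
    (fun P _ => PrimeSpectrum.isClosed_zeroLocus _)
  have hcov : ({IsLocalRing.closedPoint T}ᶜ : Set (PrimeSpectrum T)) ⊆ t ∪ t' := by
    intro Q _
    obtain ⟨P, hP, hPQ⟩ := Ideal.exists_minimalPrimes_le (bot_le : (⊥ : Ideal T) ≤ Q.asIdeal)
    by_cases h : P = P₁
    · left
      subst h
      exact (PrimeSpectrum.mem_zeroLocus _ _).2 hPQ
    · right
      exact Set.mem_biUnion (show P ∈ minimalPrimes T \ {P₁} from ⟨hP, h⟩)
        ((PrimeSpectrum.mem_zeroLocus _ _).2 hPQ)
  have hP₁m : P₁ ≠ maximalIdeal T := by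
    intro hm
    haveI := h₂.1.1
    have := eq_maximalIdeal_of_minimal T h₁ hm P₂
    exact hne (hm.trans this.symm)
  have hP₂m : P₂ ≠ maximalIdeal T := by
    intro hm
    haveI := h₁.1.1
    have := eq_maximalIdeal_of_minimal T h₂ hm P₁
    exact hne (this.trans hm.symm)
  have hn1 : (({IsLocalRing.closedPoint T}ᶜ : Set (PrimeSpectrum T)) ∩ t).Nonempty :=
    ⟨⟨P₁, h₁.1.1⟩, (mem_punctured_iff T _).2 hP₁m, (PrimeSpectrum.mem_zeroLocus _ _).2 le_rfl⟩
  have hn2 : (({IsLocalRing.closedPoint T}ᶜ : Set (PrimeSpectrum T)) ∩ t').Nonempty :=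
    ⟨⟨P₂, h₂.1.1⟩, (mem_punctured_iff T _).2 hP₂m,
      Set.mem_biUnion (show P₂ ∈ minimalPrimes T \ {P₁} from ⟨h₂, fun h => hne h.symm⟩)
        ((PrimeSpectrum.mem_zeroLocus _ _).2 le_rfl)⟩
  obtain ⟨Q, hQs, hQt, hQt'⟩ := (isPreconnected_closed_iff.1 hconn) t t' ht ht' hcov hn1 hn2
  obtain ⟨P', hP'mem, hP'Q⟩ := Set.mem_iUnion₂.1 hQt'
  exact ⟨P', Q.asIdeal, hP'mem.1, fun h => hP'mem.2 h.symm, Q.2, (mem_punctured_iff T Q).1 hQs,
    (PrimeSpectrum.mem_zeroLocus _ _).1 hQt, (PrimeSpectrum.mem_zeroLocus _ _).1 hP'Q⟩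

/-- a local ring with a unique minimal prime, not the maximal ideal, has connected punctured
spectrum. -/
theorem connectedSpace_punctured_of_unique_minimalPrime (P₀ : Ideal T)
    (hP₀ : minimalPrimes T = {P₀}) (hne : P₀ ≠ maximalIdeal T) :
    ConnectedSpace ↥({IsLocalRing.closedPoint T}ᶜ : Set (PrimeSpectrum T)) := by
  have hP₀min : P₀ ∈ minimalPrimes T := by rw [hP₀]; rfl
  haveI hP₀prime : P₀.IsPrime := hP₀min.1.1
  have hall : ∀ Q : PrimeSpectrum T, P₀ ≤ Q.asIdeal := by
    intro Q
    obtain ⟨P, hP, hPQ⟩ := Ideal.exists_minimalPrimes_le (bot_le : (⊥ : Ideal T) ≤ Q.asIdeal)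
    have hP' : P ∈ minimalPrimes T := hP
    rw [hP₀, Set.mem_singleton_iff] at hP'
    exact hP' ▸ hPQ
  have hirr : IsIrreducible (PrimeSpectrum.zeroLocus (P₀ : Set T)) :=
    (PrimeSpectrum.isIrreducible_zeroLocus_iff_of_radical P₀ hP₀prime.isRadical).2 hP₀prime
  have hopen : IsOpen ({IsLocalRing.closedPoint T}ᶜ : Set (PrimeSpectrum T)) := by
    rw [isOpen_compl_iff]
    exact (PrimeSpectrum.isClosed_singleton_iff_isMaximal _).2
      (inferInstanceAs (maximalIdeal T).IsMaximal)
  have hsub : ({IsLocalRing.closedPoint T}ᶜ : Set (PrimeSpectrum T)) ⊆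
      PrimeSpectrum.zeroLocus (P₀ : Set T) := fun Q _ =>
    (PrimeSpectrum.mem_zeroLocus _ _).2 (hall Q)
  have hpre : IsPreirreducible ({IsLocalRing.closedPoint T}ᶜ : Set (PrimeSpectrum T)) :=
    hirr.isPreirreducible.open_subset hopen hsub
  rw [← isConnected_iff_connectedSpace]
  exact ⟨⟨⟨P₀, hP₀prime⟩, (mem_punctured_iff T _).2 hne⟩, hpre.isPreconnected⟩

end Ring

section Sch

open Groth.Agent.Lib.H5bBranchSch

/-- étale neighbourhood from an étale chart algebra mapping to a flat algebra with a marked prime: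
minimal primes below the marked prime which are separated by the chart give distinct irreducible
components through the marked point. -/
theorem exists_etale_nbhd_core2 {X : Scheme.{u}} {W : X.Opens} (hW : IsAffineOpen W)
    (T : Type u) [CommRing T] [Algebra Γ(X, W) T] [Module.Flat Γ(X, W) T]
    (E : Type u) [CommRing E] [Algebra Γ(X, W) E] [Algebra.Etale Γ(X, W) E]
    (θ : E →ₐ[Γ(X, W)] T) (Q : Ideal T) [Q.IsPrime]
    (t : Set (Ideal T)) (ht : t ⊆ minimalPrimes T) (htQ : ∀ P ∈ t, P ≤ Q)
    (hinj : Set.InjOn (fun P : Ideal T => P.comap θ.toRingHom) t) :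
    ∃ (U : Scheme.{u}) (g : U ⟶ X) (u : U), Etale g ∧
      g u = hW.fromSpec ⟨Q.comap (algebraMap Γ(X, W) T), inferInstance⟩ ∧
      t.encard ≤ {Z : Set U | Z ∈ irreducibleComponents U ∧ u ∈ Z}.encard := by
  have hfl := Groth.Agent.Lib.H5bBranchRing.flat_of_etale θ
  letI algET : Algebra E T := θ.toRingHom.toAlgebra
  haveI : Module.Flat E T := hfl
  let q : PrimeSpectrum E := ⟨Q.comap θ.toRingHom, inferInstance⟩
  let g : Spec (CommRingCat.of E) ⟶ X :=
    Spec.map (CommRingCat.ofHom (algebraMap Γ(X, W) E)) ≫ hW.fromSpec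
  haveI : Etale (Spec.map (CommRingCat.ofHom (algebraMap Γ(X, W) E))) := by
    rw [HasRingHomProperty.Spec_iff (P := @Etale)]
    exact RingHom.etale_algebraMap.2 inferInstance
  refine ⟨Spec (CommRingCat.of E), g, q, inferInstance, ?_, ?_⟩
  · show hW.fromSpec ((Spec.map (CommRingCat.ofHom (algebraMap Γ(X, W) E))) q) = _
    congr 1
    apply PrimeSpectrum.ext
    change Ideal.comap (algebraMap Γ(X, W) E) (Ideal.comap θ.toRingHom Q) =
      Q.comap (algebraMap Γ(X, W) T)
    rw [Ideal.comap_comap]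
    congr 1
    ext r
    exact θ.commutes r
  · refine Set.encard_le_encard_of_injOn
      (f := fun P : Ideal T => (PrimeSpectrum.zeroLocus (P.comap θ.toRingHom : Set E) :
        Set (PrimeSpectrum E))) ?_ ?_
    · intro P hP
      have hPmin := ht hP
      haveI : P.IsPrime := hPmin.1.1
      have hmin : P.comap (algebraMap E T) ∈ minimalPrimes E :=
        Groth.Agent.Lib.H5bBranchRing.comap_mem_minimalPrimes hPmin
      refine ⟨?_, ?_⟩
      · have := (PrimeSpectrum.zeroLocus_ideal_mem_irreducibleComponents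
          (I := P.comap (algebraMap E T))).2 (by rwa [Ideal.IsPrime.radical inferInstance])
        exact this
      · show q ∈ PrimeSpectrum.zeroLocus (P.comap θ.toRingHom : Set E)
        rw [PrimeSpectrum.mem_zeroLocus]
        exact Ideal.comap_mono (htQ P hP)
    · intro P hP P' hP' heq
      haveI : P.IsPrime := (ht hP).1.1
      haveI : P'.IsPrime := (ht hP').1.1
      apply hinj hP hP'
      have h1 : (P.comap θ.toRingHom).radical = (P'.comap θ.toRingHom).radical :=
        (PrimeSpectrum.zeroLocus_eq_iff).1 heq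
      rwa [Ideal.IsPrime.radical inferInstance, Ideal.IsPrime.radical inferInstance] at h1

/-- a point of an affine open whose prime is minimal is the generic point of an irreducible
component. -/
theorem closure_mem_irreducibleComponents_of_minimal {X : Scheme.{u}} {W : X.Opens}
    (hW : IsAffineOpen W) (x : X) (hxW : x ∈ W)
    (hmin : (hW.primeIdealOf ⟨x, hxW⟩).asIdeal ∈ minimalPrimes Γ(X, W)) :
    closure ({x} : Set X) ∈ irreducibleComponents X := by
  rw [Groth.Agent.Lib.Helper14.closure_mem_irreducibleComponents_iff]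
  intro y hy
  have hyW : y ∈ W := hy.mem_open W.2 hxW
  have h1 : hW.fromSpec (hW.primeIdealOf ⟨y, hyW⟩) ⤳ hW.fromSpec (hW.primeIdealOf ⟨x, hxW⟩) := by
    rw [hW.fromSpec_primeIdealOf, hW.fromSpec_primeIdealOf]; exact hy
  have h2 := (hW.fromSpec.isOpenEmbedding.isInducing.specializes_iff).1 h1
  have h3 : (hW.primeIdealOf ⟨y, hyW⟩).asIdeal ≤ (hW.primeIdealOf ⟨x, hxW⟩).asIdeal :=
    (PrimeSpectrum.le_iff_specializes _ _).2 h2
  have h4 : (hW.primeIdealOf ⟨x, hxW⟩).asIdeal ≤ (hW.primeIdealOf ⟨y, hyW⟩).asIdeal :=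
    hmin.2 ⟨(hW.primeIdealOf ⟨y, hyW⟩).2, bot_le⟩ h3
  have h5 : hW.primeIdealOf ⟨y, hyW⟩ = hW.primeIdealOf ⟨x, hxW⟩ :=
    PrimeSpectrum.ext (le_antisymm h3 h4)
  have h6 := congrArg (fun p => hW.fromSpec p) h5
  simpa only [hW.fromSpec_primeIdealOf] using h6

/-- **key step**: two distinct minimal primes of a strict henselization of the local ring at `x`
contained in a common non-maximal prime produce a point `y` with non geometrically unibranch
local ring of strictly smaller dimension. -/
theorem exists_bad_generization {X : Scheme.{u}} [IsNoetherian X] (x : X)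
    (T : Type u) [CommRing T] [IsLocalRing T] [Algebra (X.presheaf.stalk x) T]
    [IsLocalHom (algebraMap (X.presheaf.stalk x) T)]
    [Hensel.IsStrictHenselization (X.presheaf.stalk x) T]
    (P P' Q : Ideal T) (hP : P ∈ minimalPrimes T) (hP' : P' ∈ minimalPrimes T) (hne : P ≠ P')
    [hQp : Q.IsPrime] (hQ : Q ≠ maximalIdeal T) (hPQ : P ≤ Q) (hP'Q : P' ≤ Q) :
    ∃ y : X, ¬ CAlg2.IsGeomUnibranch (X.presheaf.stalk y) ∧
      ringKrullDim (X.presheaf.stalk y) < ringKrullDim (X.presheaf.stalk x) := by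
  classical
  obtain ⟨W, hW, hxW, -⟩ :=
    exists_isAffineOpen_mem_and_subset (X := X) (x := x) (U := ⊤) trivial
  letI algRA : Algebra Γ(X, W) (X.presheaf.stalk x) := (X.presheaf.germ W x hxW).hom.toAlgebra
  haveI hloc : IsLocalization.AtPrime (X.presheaf.stalk x)
      (hW.primeIdealOf ⟨x, hxW⟩).asIdeal := hW.isLocalization_stalk ⟨x, hxW⟩
  letI algRT : Algebra Γ(X, W) T := ((algebraMap (X.presheaf.stalk x) T).comp
    (algebraMap Γ(X, W) (X.presheaf.stalk x))).toAlgebra
  haveI : IsScalarTower Γ(X, W) (X.presheaf.stalk x) T :=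
    IsScalarTower.of_algebraMap_eq (fun _ => rfl)
  haveI : Module.Flat Γ(X, W) (X.presheaf.stalk x) :=
    IsLocalization.flat _ (hW.primeIdealOf ⟨x, hxW⟩).asIdeal.primeCompl
  haveI : Module.FaithfullyFlat (X.presheaf.stalk x) T := Groth.Agent.S0539.result _ T
  haveI : Module.Flat Γ(X, W) T := Module.Flat.trans Γ(X, W) (X.presheaf.stalk x) T
  have hind : EtPBC.IsIndEtale Γ(X, W) T :=
    Groth.Agent.Lib.Helper3.IndEt.isIndEtale_comp Γ(X, W) (X.presheaf.stalk x) T
      (Groth.Agent.Lib.H5bBranchRing.isIndEtale_of_isLocalization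
        (hW.primeIdealOf ⟨x, hxW⟩).asIdeal.primeCompl)
      (Groth.Agent.Lib.Helper3.IndEt.isIndEtale_of_isStrictHenselization _ T)
  obtain ⟨E, _, _, _, θ, hinj⟩ := Groth.Agent.Lib.H5bBranchRing.exists_etale_separating
    Γ(X, W) T hind {P, P'} (by
      intro R hR
      rw [Finset.mem_insert, Finset.mem_singleton] at hR
      rcases hR with rfl | rfl
      · exact hP
      · exact hP')
  rw [Finset.coe_insert, Finset.coe_singleton] at hinj
  obtain ⟨U, g, u, hg, hgu, hle⟩ := exists_etale_nbhd_core2 hW T E θ Q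
    ({P, P'} : Set (Ideal T)) (by
      rintro R (rfl | rfl)
      · exact hP
      · exact hP') (by
      rintro R (rfl | rfl)
      · exact hPQ
      · exact hP'Q) hinj
  refine ⟨hW.fromSpec ⟨Q.comap (algebraMap Γ(X, W) T), inferInstance⟩, ?_, ?_⟩
  · intro hgu'
    have h1 := (Groth.Agent.Lib.H5bBranchMain.isGeomUnibranch_iff X _).1 hgu' U g u hg hgu
    rw [h1, Set.encard_pair hne] at hle
    exact absurd hle (by norm_num)
  · set py : PrimeSpectrum Γ(X, W) := ⟨Q.comap (algebraMap Γ(X, W) T), inferInstance⟩ with hpy_def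
    have hyW : hW.fromSpec py ∈ W := by
      have : hW.fromSpec py ∈ Set.range hW.fromSpec := ⟨py, rfl⟩
      rw [hW.range_fromSpec] at this
      exact this
    have hpy : hW.primeIdealOf ⟨hW.fromSpec py, hyW⟩ = py := by
      apply hW.fromSpec.isOpenEmbedding.injective
      rw [hW.fromSpec_primeIdealOf]
    letI algRy : Algebra Γ(X, W) (X.presheaf.stalk (hW.fromSpec py)) :=
      (X.presheaf.germ W (hW.fromSpec py) hyW).hom.toAlgebra
    haveI hlocy : IsLocalization.AtPrime (X.presheaf.stalk (hW.fromSpec py))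
        (hW.primeIdealOf ⟨hW.fromSpec py, hyW⟩).asIdeal := hW.isLocalization_stalk ⟨_, hyW⟩
    haveI : IsNoetherianRing Γ(X, W) := IsLocallyNoetherian.component_noetherian ⟨W, hW⟩
    rw [IsLocalization.AtPrime.ringKrullDim_eq_height
        (hW.primeIdealOf ⟨hW.fromSpec py, hyW⟩).asIdeal (X.presheaf.stalk (hW.fromSpec py)),
      IsLocalization.AtPrime.ringKrullDim_eq_height
        (hW.primeIdealOf ⟨x, hxW⟩).asIdeal (X.presheaf.stalk x)]
    have hlt : (hW.primeIdealOf ⟨hW.fromSpec py, hyW⟩).asIdeal <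
        (hW.primeIdealOf ⟨x, hxW⟩).asIdeal := by
      rw [hpy]
      have hx' := comap_maximalIdeal_stalk hW hxW T
      refine lt_of_le_of_ne ?_ ?_
      · rw [← hx']
        exact Ideal.comap_mono (IsLocalRing.le_maximalIdeal hQp.ne_top)
      · intro heq
        apply hQ
        have h1 : (maximalIdeal (X.presheaf.stalk x)).map (algebraMap _ T) = maximalIdeal T :=
          Groth.Agent.S0538.result _ T
        have h2 : (hW.primeIdealOf ⟨x, hxW⟩).asIdeal.map
            (algebraMap Γ(X, W) (X.presheaf.stalk x)) = maximalIdeal (X.presheaf.stalk x) :=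
          IsLocalization.AtPrime.map_eq_maximalIdeal _ _
        have h3 : maximalIdeal T ≤ Q := by
          rw [← h1, ← h2, Ideal.map_map, Ideal.map_le_iff_le_comap, ← heq]
          exact le_rfl
        exact le_antisymm (IsLocalRing.le_maximalIdeal hQp.ne_top) h3
    exact WithBot.coe_lt_coe.2 (Ideal.height_strict_mono_of_isPrime hlt)

/-- at a generic point of an irreducible component, every minimal prime of a strict henselization
of the local ring is the maximal ideal. -/
theorem minimal_eq_maximalIdeal_of_generic {X : Scheme.{u}} (x : X)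
    (hgen : closure ({x} : Set X) ∈ irreducibleComponents X)
    (T : Type u) [CommRing T] [IsLocalRing T] [Algebra (X.presheaf.stalk x) T]
    [IsLocalHom (algebraMap (X.presheaf.stalk x) T)]
    [Hensel.IsStrictHenselization (X.presheaf.stalk x) T]
    {P : Ideal T} (hP : P ∈ minimalPrimes T) : P = maximalIdeal T := by
  obtain ⟨W, hW, hxW, -⟩ :=
    exists_isAffineOpen_mem_and_subset (X := X) (x := x) (U := ⊤) trivial
  letI algRA : Algebra Γ(X, W) (X.presheaf.stalk x) := (X.presheaf.germ W x hxW).hom.toAlgebra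
  haveI hloc : IsLocalization.AtPrime (X.presheaf.stalk x)
      (hW.primeIdealOf ⟨x, hxW⟩).asIdeal := hW.isLocalization_stalk ⟨x, hxW⟩
  haveI hPp : P.IsPrime := hP.1.1
  have hmin := Groth.Agent.Lib.Helper4.GenFinite.primeIdealOf_mem_minimalPrimes hW x hxW hgen
  have hx' := comap_maximalIdeal_stalk hW hxW T
  have hle : P.comap ((algebraMap (X.presheaf.stalk x) T).comp
      (X.presheaf.germ W x hxW).hom) ≤ (hW.primeIdealOf ⟨x, hxW⟩).asIdeal := by
    rw [← hx']
    exact Ideal.comap_mono (IsLocalRing.le_maximalIdeal hPp.ne_top)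
  have hge : (hW.primeIdealOf ⟨x, hxW⟩).asIdeal ≤ P.comap
      ((algebraMap (X.presheaf.stalk x) T).comp (X.presheaf.germ W x hxW).hom) :=
    hmin.2 ⟨inferInstance, bot_le⟩ hle
  have h1 : (maximalIdeal (X.presheaf.stalk x)).map (algebraMap _ T) = maximalIdeal T :=
    Groth.Agent.S0538.result _ T
  have h2 : (hW.primeIdealOf ⟨x, hxW⟩).asIdeal.map
      (algebraMap Γ(X, W) (X.presheaf.stalk x)) = maximalIdeal (X.presheaf.stalk x) :=
    IsLocalization.AtPrime.map_eq_maximalIdeal _ _
  have h3 : maximalIdeal T ≤ P := by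
    rw [← h1, ← h2, Ideal.map_map, Ideal.map_le_iff_le_comap]
    exact hge
  exact le_antisymm (IsLocalRing.le_maximalIdeal hPp.ne_top) h3

/-- if the maximal ideal of a strict henselization of the local ring at `x` is a minimal prime,
then `x` is the generic point of an irreducible component. -/
theorem closure_mem_irreducibleComponents_of_maximalIdeal_minimal {X : Scheme.{u}} (x : X)
    (T : Type u) [CommRing T] [IsLocalRing T] [Algebra (X.presheaf.stalk x) T]
    [IsLocalHom (algebraMap (X.presheaf.stalk x) T)]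
    [Hensel.IsStrictHenselization (X.presheaf.stalk x) T]
    (hm : maximalIdeal T ∈ minimalPrimes T) :
    closure ({x} : Set X) ∈ irreducibleComponents X := by
  obtain ⟨W, hW, hxW, -⟩ :=
    exists_isAffineOpen_mem_and_subset (X := X) (x := x) (U := ⊤) trivial
  letI algRA : Algebra Γ(X, W) (X.presheaf.stalk x) := (X.presheaf.germ W x hxW).hom.toAlgebra
  haveI hloc : IsLocalization.AtPrime (X.presheaf.stalk x)
      (hW.primeIdealOf ⟨x, hxW⟩).asIdeal := hW.isLocalization_stalk ⟨x, hxW⟩
  letI algRT : Algebra Γ(X, W) T := ((algebraMap (X.presheaf.stalk x) T).comp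
    (algebraMap Γ(X, W) (X.presheaf.stalk x))).toAlgebra
  haveI : IsScalarTower Γ(X, W) (X.presheaf.stalk x) T :=
    IsScalarTower.of_algebraMap_eq (fun _ => rfl)
  haveI : Module.Flat Γ(X, W) (X.presheaf.stalk x) :=
    IsLocalization.flat _ (hW.primeIdealOf ⟨x, hxW⟩).asIdeal.primeCompl
  haveI : Module.FaithfullyFlat (X.presheaf.stalk x) T := Groth.Agent.S0539.result _ T
  haveI : Module.Flat Γ(X, W) T := Module.Flat.trans Γ(X, W) (X.presheaf.stalk x) T
  have h1 := Groth.Agent.Lib.H5bBranchRing.comap_mem_minimalPrimes (S := Γ(X, W)) hm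
  have hx' := comap_maximalIdeal_stalk hW hxW T
  apply closure_mem_irreducibleComponents_of_minimal hW x hxW
  rw [← hx']
  exact h1

/-- **geometric unibranchness via punctured spectra of strict henselizations**. -/
theorem main (X : Scheme.{u}) [IsNoetherian X] :
    (∀ x : X, CAlg2.IsGeomUnibranch (X.presheaf.stalk x)) ↔
      ∀ (x : X), closure ({x} : Set X) ∉ irreducibleComponents X →
        ∀ (Ash : Type u) [CommRing Ash] [IsLocalRing Ash] [Algebra (X.presheaf.stalk x) Ash]
          [IsLocalHom (algebraMap (X.presheaf.stalk x) Ash)]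
          [Hensel.IsStrictHenselization (X.presheaf.stalk x) Ash],
          ConnectedSpace ↥({IsLocalRing.closedPoint Ash}ᶜ : Set (PrimeSpectrum Ash)) := by
  constructor
  · intro h x hx Ash _ _ _ _ _
    have hcard : (minimalPrimes Ash).encard = 1 := by
      have h1 := Groth.Agent.S9238.result (X.presheaf.stalk x) Ash
      rw [(Groth.Agent.S9236.result _).2 (h x)] at h1
      exact h1
    obtain ⟨P₀, hP₀⟩ := Set.encard_eq_one.1 hcard
    apply connectedSpace_punctured_of_unique_minimalPrime Ash P₀ hP₀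
    intro hm
    apply hx
    apply closure_mem_irreducibleComponents_of_maximalIdeal_minimal x Ash
    rw [← hm, hP₀]
    rfl
  · intro H
    by_contra hcon
    push Not at hcon
    let d : X → WithBot ℕ∞ := fun x => ringKrullDim (X.presheaf.stalk x)
    let B : Set X := {x | ¬ CAlg2.IsGeomUnibranch (X.presheaf.stalk x)}
    obtain ⟨x, hxB, hmin⟩ := WellFounded.has_min (InvImage.wf d wellFounded_lt) B hcon
    obtain ⟨T, _, _, _, _, hT⟩ :=
      Groth.Agent.Lib.Helper3.Branch.exists_isStrictHenselization (X.presheaf.stalk x)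
    have hcard : (minimalPrimes T).encard = Brnch.numGeomBranches (X.presheaf.stalk x) :=
      Groth.Agent.S9238.result (X.presheaf.stalk x) T
    have hne1 : (minimalPrimes T).encard ≠ 1 := by
      intro h1
      apply hxB
      rw [← Groth.Agent.S9236.result, ← hcard]
      exact h1
    obtain ⟨P₁, hP₁, -⟩ := Ideal.exists_minimalPrimes_le
      (bot_le : (⊥ : Ideal T) ≤ maximalIdeal T)
    have hex : ∃ P₂ ∈ minimalPrimes T, P₂ ≠ P₁ := by
      by_contra hno
      push Not at hno
      apply hne1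
      rw [Set.encard_eq_one]
      exact ⟨P₁, Set.eq_singleton_iff_unique_mem.2 ⟨hP₁, hno⟩⟩
    obtain ⟨P₂, hP₂, hne⟩ := hex
    by_cases hgen : closure ({x} : Set X) ∈ irreducibleComponents X
    · exact hne ((minimal_eq_maximalIdeal_of_generic x hgen T hP₂).trans
        (minimal_eq_maximalIdeal_of_generic x hgen T hP₁).symm)
    · haveI hc := H x hgen T
      haveI : IsNoetherianRing T :=
        Groth.Agent.Lib.Helper3.HzP.sh_isNoetherianRing (X.presheaf.stalk x) T
      have hconn : _root_.IsPreconnected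
          ({IsLocalRing.closedPoint T}ᶜ : Set (PrimeSpectrum T)) :=
        (isConnected_iff_connectedSpace.2 hc).isPreconnected
      obtain ⟨P', Q, hP', hne', hQp, hQ, h1, h2⟩ :=
        exists_prime_above_two_minimalPrimes T hconn hP₁ hP₂ (fun h => hne h.symm)
      haveI := hQp
      obtain ⟨y, hyB, hlt⟩ := exists_bad_generization x T P₁ P' Q hP₁ hP' hne' hQ h1 h2
      exact hmin y hyB hlt

end Sch

end Groth.Agent.Lib.H5bPunct
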