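import Mathlib
import Groth.Prelude.Def_Mor2
import Groth.Agent.Lib.Helper12QuasiAffineLocal
import Groth.Agent.Lib.Helper12QuasiAffineDescent
import Groth.Agent.Lib.Helper12Descent
import Groth.Agent.Lib.H5bFppfLocal

/-!
# Quasi-affine morphisms as a morphism property (helper5)

`QA : MorphismProperty Scheme` is `Mor2.IsQuasiAffine`.  It has the affine target property
"the source is quasi-affine" (`HasAffineProperty QA qaTarget`), hence is Zariski-local on the target
and stable under base change; it descends along fpqc coverings and is fppf-local on the target.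
-/

set_option autoImplicit false
set_option linter.style.haveILetI false
universe u

namespace Groth.Agent.Lib.H5bQAffProp

open CategoryTheory CategoryTheory.Limits AlgebraicGeometry MorphismProperty

/-- the affine target property "the source is quasi-affine". -/
def qaTarget : AffineTargetMorphismProperty.{u} := fun X _ _ _ => X.IsQuasiAffine

/-- quasi-affine morphisms. -/
def QA : MorphismProperty Scheme.{u} := fun _ _ f => Mor2.IsQuasiAffine f

lemma qa_iff {X Y : Scheme.{u}} (f : X ⟶ Y) : QA f ↔ Mor2.IsQuasiAffine f := Iff.rfl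

instance qaTarget_isLocal : qaTarget.{u}.IsLocal := by
  constructor
  · apply AffineTargetMorphismProperty.respectsIso_mk
    · rintro X Y Z e f _ H
      haveI : Y.IsQuasiAffine := H
      exact Scheme.IsQuasiAffine.of_isAffineHom e.hom
    · rintro X Y Z e f _ H
      exact H
  · intro X Y _ f r H
    haveI : X.IsQuasiAffine := H
    haveI : CompactSpace X := inferInstance
    haveI : QuasiCompact f := HasAffineProperty.iff_of_isAffine.mpr (by infer_instance)
    have hc : IsCompact (f ⁻¹ᵁ Y.basicOpen r : Set X) :=
      f.isCompact_preimage ((isAffineOpen_top Y).basicOpen r).isCompact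
    haveI : CompactSpace ↥(f ⁻¹ᵁ Y.basicOpen r : Scheme.{u}) := isCompact_iff_compactSpace.mp hc
    exact Scheme.IsQuasiAffine.of_isImmersion (f ⁻¹ᵁ Y.basicOpen r).ι
  · intro X Y _ f s hs H
    haveI : CompactSpace X :=
      (HasAffineProperty.isLocal_affineProperty @QuasiCompact).of_basicOpenCover f s hs
        (fun r => by
          haveI : (f ⁻¹ᵁ Y.basicOpen r.1 : Scheme.{u}).IsQuasiAffine := H r
          infer_instance)
    refine Groth.Agent.Lib.Helper12.isQuasiAffine_of_cover X (fun x => ?_)
    have hcov := (isAffineOpen_top Y).iSup_basicOpen_eq_self_iff.mpr hs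
    have hx : f x ∈ (⨆ r : (s : Set Γ(Y, ⊤)), Y.basicOpen r.1 : Y.Opens) := by
      rw [hcov]
      trivial
    obtain ⟨r, hr⟩ := TopologicalSpace.Opens.mem_iSup.mp hx
    refine ⟨f.appTop r.1, ?_, ?_⟩
    · rw [← Scheme.preimage_basicOpen_top]
      exact hr
    · rw [← Scheme.preimage_basicOpen_top]
      exact H ⟨r.1, r.2⟩

lemma QA_eq : QA.{u} = targetAffineLocally qaTarget := by
  ext X Y f
  constructor
  · rintro ⟨_, h⟩ ⟨U, hU⟩
    exact h U hU
  · intro h
    refine ⟨?_, fun V hV => h ⟨V, hV⟩⟩
    rw [quasiCompact_iff_forall_isAffineOpen]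
    intro U hU
    haveI : (f ⁻¹ᵁ U : Scheme.{u}).IsQuasiAffine := h ⟨U, hU⟩
    have hc : CompactSpace ↥(f ⁻¹ᵁ U : Scheme.{u}) := inferInstance
    exact isCompact_iff_compactSpace.mpr hc

instance : HasAffineProperty QA.{u} qaTarget := ⟨inferInstance, QA_eq⟩

lemma qaTarget_stable : qaTarget.{u}.IsStableUnderBaseChange := by
  apply AffineTargetMorphismProperty.IsStableUnderBaseChange.mk
  intro X Y S _ _ f g hg
  haveI : Y.IsQuasiAffine := hg
  haveI : IsAffineHom f := inferInstance
  haveI : IsAffineHom (pullback.snd f g) :=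
    MorphismProperty.pullback_snd (P := @IsAffineHom) f g inferInstance
  exact Scheme.IsQuasiAffine.of_isAffineHom (pullback.snd f g)

instance : QA.{u}.IsStableUnderBaseChange :=
  HasAffineProperty.isStableUnderBaseChange qaTarget_stable

/-- over an affine base, a morphism is quasi-affine iff its source is. -/
lemma qa_iff_of_isAffine {X Y : Scheme.{u}} [IsAffine Y] (f : X ⟶ Y) :
    QA f ↔ X.IsQuasiAffine :=
  HasAffineProperty.iff_of_isAffine (P := QA)

set_option backward.isDefEq.respectTransparency.types false in
/-- quasi-affine morphisms descend along fpqc coverings. -/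
instance descendsAlong_QA :
    DescendsAlong QA.{u} (@Surjective ⊓ @Flat ⊓ @QuasiCompact : MorphismProperty Scheme.{u}) := by
  apply IsZariskiLocalAtTarget.descendsAlong_inf_quasiCompact
  · rw [inf_comm]
    exact inf_le_inf le_rfl (IsLocalIso.le_of_isZariskiLocalAtSource _)
  intro R S Y φ g h hfst
  haveI : Surjective (Spec.map φ) := h.1
  haveI : Flat (Spec.map φ) := h.2
  have hqaP : (pullback (Spec.map φ) g).IsQuasiAffine :=
    (qa_iff_of_isAffine (pullback.fst (Spec.map φ) g)).1 hfst
  haveI : CompactSpace ↥(pullback (Spec.map φ) g) := inferInstance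
  haveI : Surjective (pullback.snd (Spec.map φ) g) := inferInstance
  haveI : CompactSpace Y :=
    (pullback.snd (Spec.map φ) g).surjective.compactSpace (pullback.snd (Spec.map φ) g).continuous
  have hsepP : QuasiSeparated (pullback.fst (Spec.map φ) g) := inferInstance
  haveI := Groth.Agent.Lib.Helper12.descendsAlong_quasiSeparated.{u}
  have hq : (@Surjective ⊓ @Flat ⊓ @QuasiCompact : MorphismProperty Scheme.{u}) (Spec.map φ) :=
    ⟨⟨inferInstance, inferInstance⟩, inferInstance⟩
  haveI : QuasiSeparated g :=
    MorphismProperty.of_isPullback_of_descendsAlong (P := @QuasiSeparated)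
      (Q := @Surjective ⊓ @Flat ⊓ @QuasiCompact)
      (IsPullback.of_hasPullback (Spec.map φ) g) hq hsepP
  haveI : QuasiSeparatedSpace Y := quasiSeparatedSpace_of_quasiSeparated g
  rw [qa_iff_of_isAffine]
  exact Groth.Agent.Lib.Helper12.isQuasiAffine_of_isPullback
    (IsPullback.of_hasPullback (Spec.map φ) g) (fun W hW => hfst.2 W hW)

instance : IsLocalAtTarget QA.{u} Scheme.fppfPrecoverage :=
  Groth.Agent.Lib.H5bFppfLocal.isLocalAtTarget_fppf _

end Groth.Agent.Lib.H5bQAffProp
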