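import Mathlib
import Groth.Prelude.Def_W4bk4grassmannianPl
import Groth.Agent.Lib.H5bCoord

/-!
# Signed Plücker coordinates of a vector `q`, as an alternating function of row tuples (helper5)

`sgnCoord q a = eval q (coord a)`, its expression through the coordinate matrices `idxMat θ`,
alternation, and the alternating extension of the Plücker quadrics to unsorted tuples.
-/

set_option autoImplicit false

universe u

noncomputable section

open MvPolynomial W4bk4grassmannian

namespace Groth.Agent.Lib.H5b

variable {K : Type u} [CommRing K] {d n : ℕ}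

/-- The `n × d` matrix whose columns are the standard basis vectors `e_{θ_0}, …, e_{θ_{d-1}}`. -/
def idxMat (K : Type u) [CommRing K] {d n : ℕ} (θ : Idx d n) : Matrix (Fin n) (Fin d) K :=
  Matrix.of fun i t => if i = θ.1 t then 1 else 0

theorem det_idxMat_submatrix (θ φ : Idx d n) :
    ((idxMat K θ).submatrix φ.1 id).det = if θ = φ then 1 else 0 := by
  classical
  split_ifs with h
  · subst h
    have h1 : (idxMat K θ).submatrix θ.1 id = 1 := by
      refine Matrix.ext fun s t => ?_
      simp only [idxMat, Matrix.submatrix_apply, Matrix.of_apply, id_eq, Matrix.one_apply]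
      simp only [θ.2.injective.eq_iff]
    rw [h1, Matrix.det_one]
  · by_contra hne
    apply h
    have hsub : ∀ s, ∃ t, φ.1 s = θ.1 t := by
      intro s
      by_contra hs
      push Not at hs
      apply hne
      apply Matrix.det_eq_zero_of_row_eq_zero s
      intro t
      simp [idxMat, hs t]
    have himg : Finset.univ.image φ.1 = Finset.univ.image θ.1 := by
      apply Finset.eq_of_subset_of_card_le
      · intro x hx
        obtain ⟨s, _, rfl⟩ := Finset.mem_image.mp hx
        obtain ⟨t, ht⟩ := hsub s
        rw [ht]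
        exact Finset.mem_image_of_mem _ (Finset.mem_univ t)
      · rw [Finset.card_image_of_injective _ θ.2.injective,
          Finset.card_image_of_injective _ φ.2.injective]
    have hrange : Set.range θ.1 = Set.range φ.1 := by
      have := congrArg (fun s : Finset (Fin n) => (s : Set (Fin n))) himg
      simp only [Finset.coe_image, Finset.coe_univ, Set.image_univ] at this
      exact this.symm
    exact Subtype.ext ((StrictMono.range_inj θ.2 φ.2).mp hrange)

/-- The signed coordinate of the vector `q` on an arbitrary tuple of rows. -/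
def sgnCoord (q : Idx d n → K) (a : Fin d → Fin n) : K := eval q (coord K d n a)

theorem sgnCoord_eq (q : Idx d n → K) (a : Fin d → Fin n) :
    sgnCoord q a = ∑ θ : Idx d n, q θ * ((idxMat K θ).submatrix a id).det := by
  classical
  have h : ∀ θ : Idx d n, ((idxMat K θ).submatrix a id).det =
      evalMinors K d n (idxMat K θ) (coord K d n a) := fun θ => (evalMinors_coord _ a).symm
  simp_rw [h]
  unfold sgnCoord coord
  split_ifs with hc
  · simp only [map_mul, map_pow, map_neg, map_one, eval_X, evalMinors_X, det_idxMat_submatrix]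
    simp [Finset.sum_ite_eq', mul_comm]
  · simp

theorem sgnCoord_perm (q : Idx d n → K) (a : Fin d → Fin n) (σ : Equiv.Perm (Fin d)) :
    sgnCoord q (a ∘ σ) = ((Equiv.Perm.sign σ : ℤ) : K) * sgnCoord q a := by
  rw [sgnCoord_eq, sgnCoord_eq, Finset.mul_sum]
  refine Finset.sum_congr rfl fun θ _ => ?_
  have h1 : (idxMat K θ).submatrix (a ∘ σ) id = ((idxMat K θ).submatrix a id).submatrix σ id := rfl
  rw [h1, Matrix.det_permute]
  ring

theorem sgnCoord_eq_zero (q : Idx d n → K) (a : Fin d → Fin n) {s t : Fin d} (hst : s ≠ t)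
    (h : a s = a t) : sgnCoord q a = 0 := by
  rw [sgnCoord_eq]
  refine Finset.sum_eq_zero fun θ _ => ?_
  rw [Matrix.det_zero_of_row_eq hst, mul_zero]
  ext k
  simp only [Matrix.submatrix_apply, id_eq]
  rw [h]

theorem sgnCoord_idx (q : Idx d n → K) (θ : Idx d n) : sgnCoord q θ.1 = q θ := by
  classical
  rw [sgnCoord_eq]
  simp_rw [det_idxMat_submatrix]
  simp

/-- The `n × (e + 2)` matrix with first column `f` followed by the columns of `idxMat θ`. -/
def consMat {e : ℕ} (f : Fin n → K) (θ : Idx (e + 1) n) : Matrix (Fin n) (Fin (e + 2)) K :=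
  Matrix.of fun i => (Fin.cons (f i) (fun c => idxMat K θ i c) : Fin (e + 2) → K)

theorem det_consMat_submatrix {e : ℕ} (f : Fin n → K) (θ : Idx (e + 1) n)
    (b : Fin (e + 2) → Fin n) :
    ((consMat f θ).submatrix b id).det =
      ∑ h : Fin (e + 2), (-1 : K) ^ h.val * f (b h) *
        ((idxMat K θ).submatrix (b ∘ h.succAbove) id).det := by
  rw [Matrix.det_succ_column_zero]
  refine Finset.sum_congr rfl fun h _ => ?_
  have h1 : ((consMat f θ).submatrix b id) h 0 = f (b h) := by
    simp [consMat]
  have h2 : ((consMat f θ).submatrix b id).submatrix h.succAbove Fin.succ =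
      (idxMat K θ).submatrix (b ∘ h.succAbove) id := by
    refine Matrix.ext fun s t => ?_
    simp [consMat]
  rw [h1, h2]

theorem quadSum_eq {e : ℕ} (q : Idx (e + 1) n → K) (f : Fin n → K) (b : Fin (e + 2) → Fin n) :
    ∑ h : Fin (e + 2), (-1 : K) ^ h.val * f (b h) * sgnCoord q (b ∘ h.succAbove) =
      ∑ θ : Idx (e + 1) n, q θ * ((consMat f θ).submatrix b id).det := by
  simp_rw [det_consMat_submatrix, sgnCoord_eq, Finset.mul_sum]
  rw [Finset.sum_comm]
  refine Finset.sum_congr rfl fun θ _ => ?_
  refine Finset.sum_congr rfl fun h _ => ?_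
  ring

/-- The alternating extension of the quadrics: if the quadric sums vanish on increasing tuples,
they vanish on all tuples. -/
theorem quadSum_zero {e : ℕ} (q : Idx (e + 1) n → K) (f : Fin n → K)
    (hsorted : ∀ j' : Idx (e + 2) n,
      ∑ h : Fin (e + 2), (-1 : K) ^ h.val * f (j'.1 h) * sgnCoord q (j'.1 ∘ h.succAbove) = 0)
    (b : Fin (e + 2) → Fin n) :
    ∑ h : Fin (e + 2), (-1 : K) ^ h.val * f (b h) * sgnCoord q (b ∘ h.succAbove) = 0 := by
  classical
  rw [quadSum_eq]
  by_cases hinj : Function.Injective b
  · have hc : (Finset.univ.image b).card = e + 2 := by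
      rw [Finset.card_image_of_injective _ hinj, Finset.card_univ, Fintype.card_fin]
    have hb : b = (sortIdx (e + 2) n b hc).1 ∘ (sortPerm b hc) :=
      funext fun k => (sortIdx_sortPerm b hc k).symm
    have h1 : ∀ θ : Idx (e + 1) n, ((consMat f θ).submatrix b id).det =
        ((Equiv.Perm.sign (sortPerm b hc) : ℤ) : K) *
          ((consMat f θ).submatrix (sortIdx (e + 2) n b hc).1 id).det := by
      intro θ
      have h2 : (consMat f θ).submatrix b id =
          ((consMat f θ).submatrix (sortIdx (e + 2) n b hc).1 id).submatrix (sortPerm b hc) id := by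
        conv_lhs => rw [hb]
        rfl
      rw [h2, Matrix.det_permute]
    simp_rw [h1]
    have h3 := hsorted (sortIdx (e + 2) n b hc)
    rw [quadSum_eq] at h3
    calc ∑ θ : Idx (e + 1) n, q θ * (((Equiv.Perm.sign (sortPerm b hc) : ℤ) : K) *
          ((consMat f θ).submatrix (sortIdx (e + 2) n b hc).1 id).det)
        = ((Equiv.Perm.sign (sortPerm b hc) : ℤ) : K) * ∑ θ : Idx (e + 1) n, q θ *
          ((consMat f θ).submatrix (sortIdx (e + 2) n b hc).1 id).det := by
          rw [Finset.mul_sum]
          refine Finset.sum_congr rfl fun θ _ => ?_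
          ring
      _ = 0 := by rw [h3, mul_zero]
  · rw [Function.Injective] at hinj
    push Not at hinj
    obtain ⟨s, t, hst, hne⟩ := hinj
    refine Finset.sum_eq_zero fun θ _ => ?_
    rw [Matrix.det_zero_of_row_eq hne, mul_zero]
    ext k
    simp only [Matrix.submatrix_apply, id_eq]
    rw [hst]

end Groth.Agent.Lib.H5b
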