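import Mathlib
import Groth.Prelude.Def_W4bk4grassmannianPl
import Groth.Agent.Lib.H5bQuadA

/-!
# The Plücker quadrics cut out the Grassmannian set-theoretically (helper5)
-/

set_option autoImplicit false

universe u

noncomputable section

open MvPolynomial W4bk4grassmannian

namespace Groth.Agent.Lib.H5b

variable {K : Type u} [CommRing K] {n e : ℕ}

theorem eval_quadric (q : Idx (e + 1) n → K) (i' : Idx e n) (j' : Idx (e + 2) n) :
    eval q (quadric K i' j') =
      - ∑ h : Fin (e + 2), (-1 : K) ^ h.val * sgnCoord q (Fin.snoc i'.1 (j'.1 h)) *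
        sgnCoord q (j'.1 ∘ h.succAbove) := by
  unfold quadric sgnCoord
  rw [map_sum, ← Finset.sum_neg_distrib]
  refine Finset.sum_congr rfl fun h _ => ?_
  rw [map_mul, map_mul, map_pow, map_neg, map_one, pow_succ]
  ring

theorem snoc_eq_cons_comp (a : Fin e → Fin n) (y : Fin n) :
    (Fin.snoc a y : Fin (e + 1) → Fin n) =
      (Fin.cons y a : Fin (e + 1) → Fin n) ∘ (finRotate (e + 1)) := by
  funext k
  refine Fin.lastCases ?_ (fun j => ?_) k
  · simp
  · simp only [Fin.snoc_castSucc, Function.comp_apply]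
    have : finRotate (e + 1) j.castSucc = j.succ := by
      rw [finRotate_apply]
      exact Fin.coeSucc_eq_succ
    rw [this, Fin.cons_succ]

theorem update_eq_cons_comp (a : Fin (e + 1) → Fin n) (t : Fin (e + 1)) (x : Fin n) :
    Function.update a t x =
      (Fin.cons x (a ∘ t.succAbove) : Fin (e + 1) → Fin n) ∘ (Fin.cycleRange t) := by
  funext k
  rcases Fin.eq_self_or_eq_succAbove t k with rfl | ⟨j, rfl⟩
  · simp
  · rw [Function.update_of_ne (Fin.succAbove_ne t j)]
    simp

theorem sgnCoord_snoc (q : Idx (e + 1) n → K) (a : Fin e → Fin n) (y : Fin n) :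
    sgnCoord q (Fin.snoc a y : Fin (e + 1) → Fin n) =
      (-1 : K) ^ e * sgnCoord q (Fin.cons y a : Fin (e + 1) → Fin n) := by
  rw [snoc_eq_cons_comp, sgnCoord_perm, sign_finRotate]
  simp

theorem sgnCoord_update (q : Idx (e + 1) n → K) (a : Fin (e + 1) → Fin n) (t : Fin (e + 1))
    (x : Fin n) :
    sgnCoord q (Function.update a t x) =
      (-1 : K) ^ t.val * sgnCoord q (Fin.cons x (a ∘ t.succAbove) : Fin (e + 1) → Fin n) := by
  rw [update_eq_cons_comp, sgnCoord_perm, Fin.sign_cycleRange]
  simp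

theorem neg_one_pow_mul_self (k : ℕ) : ((-1 : K) ^ k) * ((-1 : K) ^ k) = 1 := by
  rw [← pow_add, ← two_mul, pow_mul]
  simp

/-- The exchange relation for sorted `i'`. -/
theorem exchange_sorted (q : Idx (e + 1) n → K)
    (hq : ∀ (i' : Idx e n) (j' : Idx (e + 2) n), eval q (quadric K i' j') = 0)
    (θ₀ : Idx (e + 1) n) (i' : Idx e n) (x : Fin n) :
    q θ₀ * sgnCoord q (Fin.snoc i'.1 x : Fin (e + 1) → Fin n) =
      ∑ t : Fin (e + 1), sgnCoord q (Function.update θ₀.1 t x) *
        sgnCoord q (Fin.snoc i'.1 (θ₀.1 t) : Fin (e + 1) → Fin n) := by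
  have hsorted : ∀ j' : Idx (e + 2) n,
      ∑ h : Fin (e + 2), (-1 : K) ^ h.val *
        (fun y => sgnCoord q (Fin.snoc i'.1 y : Fin (e + 1) → Fin n)) (j'.1 h) *
          sgnCoord q (j'.1 ∘ h.succAbove) = 0 := by
    intro j'
    have := hq i' j'
    rw [eval_quadric, neg_eq_zero] at this
    exact this
  have h := quadSum_zero q (fun y => sgnCoord q (Fin.snoc i'.1 y : Fin (e + 1) → Fin n)) hsorted
    (Fin.snoc θ₀.1 x : Fin (e + 2) → Fin n)
  rw [Fin.sum_univ_castSucc] at h
  simp only [Fin.snoc_last, Fin.snoc_castSucc, Fin.val_last, Fin.val_castSucc] at h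
  have h1 : (Fin.snoc θ₀.1 x : Fin (e + 2) → Fin n) ∘ (Fin.last (e + 1)).succAbove = θ₀.1 := by
    funext k
    simp [Fin.succAbove_last]
  have h2 : ∀ t : Fin (e + 1), (Fin.snoc θ₀.1 x : Fin (e + 2) → Fin n) ∘ t.castSucc.succAbove =
      (Fin.snoc (θ₀.1 ∘ t.succAbove) x : Fin (e + 1) → Fin n) := by
    intro t
    funext k
    refine Fin.lastCases ?_ (fun j => ?_) k
    · have : t.castSucc.succAbove (Fin.last e) = Fin.last (e + 1) := by
        rw [Fin.succAbove_of_lt_succ]
        · simp
        · rw [Fin.succ_last]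
          exact Fin.castSucc_lt_last t
      simp [this]
    · simp [Fin.castSucc_succAbove_castSucc]
  rw [h1, sgnCoord_idx] at h
  simp_rw [h2] at h
  have hterm : ∀ t : Fin (e + 1),
      (-1 : K) ^ t.val * sgnCoord q (Fin.snoc i'.1 (θ₀.1 t) : Fin (e + 1) → Fin n) *
        sgnCoord q (Fin.snoc (θ₀.1 ∘ t.succAbove) x : Fin (e + 1) → Fin n) =
      (-1 : K) ^ e * (sgnCoord q (Function.update θ₀.1 t x) *
        sgnCoord q (Fin.snoc i'.1 (θ₀.1 t) : Fin (e + 1) → Fin n)) := by
    intro t
    rw [sgnCoord_snoc q (θ₀.1 ∘ t.succAbove) x, sgnCoord_update q θ₀.1 t x]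
    ring
  simp_rw [hterm] at h
  rw [← Finset.mul_sum] at h
  have hee := neg_one_pow_mul_self (K := K) e
  linear_combination (-(-1 : K) ^ e) * h -
    (q θ₀ * sgnCoord q (Fin.snoc i'.1 x : Fin (e + 1) → Fin n) -
      ∑ t : Fin (e + 1), sgnCoord q (Function.update θ₀.1 t x) *
        sgnCoord q (Fin.snoc i'.1 (θ₀.1 t) : Fin (e + 1) → Fin n)) * hee

/-- The exchange relation for an arbitrary tuple and an arbitrary slot. -/
theorem exchange (q : Idx (e + 1) n → K)
    (hq : ∀ (i' : Idx e n) (j' : Idx (e + 2) n), eval q (quadric K i' j') = 0)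
    (θ₀ : Idx (e + 1) n) (c : Fin (e + 1) → Fin n) (s : Fin (e + 1)) :
    q θ₀ * sgnCoord q c =
      ∑ t : Fin (e + 1), sgnCoord q (Function.update θ₀.1 t (c s)) *
        sgnCoord q (Function.update c s (θ₀.1 t)) := by
  classical
  have hcs : sgnCoord q c = sgnCoord q (Function.update c s (c s)) := by
    rw [Function.update_eq_self]
  by_cases hinj : Function.Injective (c ∘ s.succAbove)
  · have hc : (Finset.univ.image (c ∘ s.succAbove)).card = e := by
      rw [Finset.card_image_of_injective _ hinj, Finset.card_univ, Fintype.card_fin]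
    obtain ⟨π, hπ⟩ : ∃ π : Equiv.Perm (Fin (e + 1)), ∀ y : Fin n, Function.update c s y =
        (Fin.snoc (sortIdx e n (c ∘ s.succAbove) hc).1 y : Fin (e + 1) → Fin n) ∘ π := by
      refine ⟨(finSuccEquiv' s).trans ((Equiv.optionCongr (sortPerm (c ∘ s.succAbove) hc)).trans
        finSuccEquivLast.symm), fun y => ?_⟩
      funext k
      rcases Fin.eq_self_or_eq_succAbove s k with rfl | ⟨j, rfl⟩
      · simp
      · rw [Function.update_of_ne (Fin.succAbove_ne s j)]
        simp only [Function.comp_apply, Equiv.trans_apply, finSuccEquiv'_succAbove,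
          Equiv.optionCongr_apply, Option.map_some, finSuccEquivLast_symm_some, Fin.snoc_castSucc]
        rw [sortIdx_sortPerm]
        rfl
    have hP : ∀ y : Fin n, sgnCoord q (Function.update c s y) =
        ((Equiv.Perm.sign π : ℤ) : K) *
          sgnCoord q (Fin.snoc (sortIdx e n (c ∘ s.succAbove) hc).1 y : Fin (e + 1) → Fin n) := by
      intro y
      rw [hπ y, sgnCoord_perm]
    rw [hcs, hP]
    simp_rw [hP]
    rw [mul_left_comm, exchange_sorted q hq θ₀, Finset.mul_sum]
    refine Finset.sum_congr rfl fun t _ => ?_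
    ring
  · rw [Function.Injective] at hinj
    push Not at hinj
    obtain ⟨j₁, j₂, hj, hne⟩ := hinj
    have hz : ∀ y : Fin n, sgnCoord q (Function.update c s y) = 0 := by
      intro y
      apply sgnCoord_eq_zero q _ (s := s.succAbove j₁) (t := s.succAbove j₂)
      · exact fun h => hne (Fin.succAbove_right_injective h)
      · rw [Function.update_of_ne (Fin.succAbove_ne s j₁), Function.update_of_ne (Fin.succAbove_ne s j₂)]
        exact hj
    rw [hcs, hz, mul_zero]
    symm
    refine Finset.sum_eq_zero fun t _ => ?_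
    rw [hz, mul_zero]

/-- The candidate matrix. -/
def quadMat (q : Idx (e + 1) n → K) (θ₀ : Idx (e + 1) n) : Matrix (Fin n) (Fin (e + 1)) K :=
  Matrix.of fun i t => sgnCoord q (Function.update θ₀.1 t i)

theorem quadMat_base (q : Idx (e + 1) n → K) (θ₀ : Idx (e + 1) n) (u t : Fin (e + 1)) :
    quadMat q θ₀ (θ₀.1 u) t = if u = t then q θ₀ else 0 := by
  unfold quadMat
  rw [Matrix.of_apply]
  split_ifs with h
  · subst h
    rw [Function.update_eq_self, sgnCoord_idx]
  · apply sgnCoord_eq_zero q _ (s := u) (t := t) h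
    rw [Function.update_self, Function.update_of_ne h]

theorem det_quadMat_base (q : Idx (e + 1) n → K) (θ₀ : Idx (e + 1) n)
    (τ : Fin (e + 1) → Fin (e + 1)) :
    ((quadMat q θ₀).submatrix (θ₀.1 ∘ τ) id).det = q θ₀ ^ e * sgnCoord q (θ₀.1 ∘ τ) := by
  classical
  have hM : (quadMat q θ₀).submatrix (θ₀.1 ∘ τ) id =
      (q θ₀ • (1 : Matrix (Fin (e + 1)) (Fin (e + 1)) K)).submatrix τ id := by
    refine Matrix.ext fun s t => ?_
    simp only [Matrix.submatrix_apply, Function.comp_apply, id_eq, quadMat_base, Matrix.smul_apply,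
      Matrix.one_apply, smul_eq_mul, mul_ite, mul_one, mul_zero]
  by_cases hinj : Function.Injective τ
  · obtain ⟨σ, hσ⟩ : ∃ σ : Equiv.Perm (Fin (e + 1)), (σ : Fin (e + 1) → Fin (e + 1)) = τ :=
      ⟨Equiv.ofBijective τ (Finite.injective_iff_bijective.mp hinj), rfl⟩
    rw [hM, ← hσ, Matrix.det_permute, sgnCoord_perm, sgnCoord_idx, Matrix.det_smul, Matrix.det_one,
      Fintype.card_fin, pow_succ]
    ring
  · rw [Function.Injective] at hinj
    push Not at hinj
    obtain ⟨s, t, hst, hne⟩ := hinj
    rw [sgnCoord_eq_zero q _ hne (by simp [hst]), mul_zero]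
    apply Matrix.det_zero_of_row_eq hne
    ext k
    simp only [Matrix.submatrix_apply, Function.comp_apply, id_eq]
    rw [hst]

theorem det_quadMat_aux {K : Type u} [Field K] (q : Idx (e + 1) n → K)
    (hq : ∀ (i' : Idx e n) (j' : Idx (e + 2) n), eval q (quadric K i' j') = 0)
    (θ₀ : Idx (e + 1) n) (h0 : q θ₀ ≠ 0) (k : ℕ) :
    ∀ c : Fin (e + 1) → Fin n, (∀ s : Fin (e + 1), k ≤ s.val → c s ∈ Set.range θ₀.1) →
      ((quadMat q θ₀).submatrix c id).det = q θ₀ ^ e * sgnCoord q c := by
  classical
  induction k with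
  | zero =>
    intro c hc
    have : ∃ τ : Fin (e + 1) → Fin (e + 1), c = θ₀.1 ∘ τ := by
      choose τ hτ using fun s => hc s (Nat.zero_le _)
      exact ⟨τ, funext fun s => (hτ s).symm⟩
    obtain ⟨τ, rfl⟩ := this
    exact det_quadMat_base q θ₀ τ
  | succ k ih =>
    intro c hc
    by_cases hk : k < e + 1
    · set s : Fin (e + 1) := ⟨k, hk⟩ with hs
      have hstep : ∀ t : Fin (e + 1),
          ((quadMat q θ₀).submatrix (Function.update c s (θ₀.1 t)) id).det =
            q θ₀ ^ e * sgnCoord q (Function.update c s (θ₀.1 t)) := by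
        intro t
        apply ih
        intro s' hs'
        by_cases hss : s' = s
        · rw [hss, Function.update_self]
          exact ⟨t, rfl⟩
        · rw [Function.update_of_ne hss]
          apply hc
          have : s'.val ≠ k := fun h => hss (Fin.ext h)
          omega
      have hupd : ∀ y : Fin n, (quadMat q θ₀).submatrix (Function.update c s y) id =
          Matrix.updateRow ((quadMat q θ₀).submatrix c id) s (quadMat q θ₀ y) := by
        intro y
        refine Matrix.ext fun a b => ?_
        by_cases has : a = s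
        · rw [has]
          simp
        · simp [Matrix.updateRow_ne has, Function.update_of_ne has]
      have hrow : q θ₀ • (quadMat q θ₀ (c s)) =
          ∑ t : Fin (e + 1), quadMat q θ₀ (c s) t • quadMat q θ₀ (θ₀.1 t) := by
        funext u
        simp only [Pi.smul_apply, Finset.sum_apply, smul_eq_mul, quadMat_base, mul_ite, mul_zero,
          Finset.sum_ite_eq', Finset.mem_univ, if_true]
        ring
      have h1 : q θ₀ * ((quadMat q θ₀).submatrix c id).det =
          ∑ t : Fin (e + 1), quadMat q θ₀ (c s) t *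
            ((quadMat q θ₀).submatrix (Function.update c s (θ₀.1 t)) id).det := by
        have h2 : (quadMat q θ₀).submatrix c id =
            Matrix.updateRow ((quadMat q θ₀).submatrix c id) s (quadMat q θ₀ (c s)) := by
          rw [← hupd, Function.update_eq_self]
        conv_lhs => rw [h2]
        rw [← Matrix.det_updateRow_smul, hrow]
        simp_rw [hupd]
        have := (Matrix.detRowAlternating (n := Fin (e + 1)) (R := K)).map_update_sum
          Finset.univ s (fun t => quadMat q θ₀ (c s) t • quadMat q θ₀ (θ₀.1 t))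
          ((quadMat q θ₀).submatrix c id)
        rw [show Matrix.updateRow ((quadMat q θ₀).submatrix c id) s
            (∑ t : Fin (e + 1), quadMat q θ₀ (c s) t • quadMat q θ₀ (θ₀.1 t)) =
            Function.update ((quadMat q θ₀).submatrix c id) s
              (∑ t : Fin (e + 1), quadMat q θ₀ (c s) t • quadMat q θ₀ (θ₀.1 t)) from rfl]
        refine this.trans ?_
        refine Finset.sum_congr rfl fun t _ => ?_
        exact Matrix.det_updateRow_smul _ _ _ _
      have h3 := exchange q hq θ₀ c s
      apply mul_left_cancel₀ h0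
      rw [h1]
      simp_rw [hstep]
      rw [mul_left_comm, h3, Finset.mul_sum]
      refine Finset.sum_congr rfl fun t _ => ?_
      unfold quadMat
      rw [Matrix.of_apply]
      ring
    · apply ih
      intro s _
      exact absurd s.isLt (by omega)

theorem det_quadMat {K : Type u} [Field K] (q : Idx (e + 1) n → K)
    (hq : ∀ (i' : Idx e n) (j' : Idx (e + 2) n), eval q (quadric K i' j') = 0)
    (θ₀ : Idx (e + 1) n) (h0 : q θ₀ ≠ 0) (θ : Idx (e + 1) n) :
    ((quadMat q θ₀).submatrix θ.1 id).det = q θ₀ ^ e * q θ := by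
  rw [det_quadMat_aux q hq θ₀ h0 (e + 1) θ.1 (fun s hs => absurd s.isLt (by omega)), sgnCoord_idx]

/-- A nonzero vector satisfying the Plücker quadrics is the vector of minors of a matrix. -/
theorem exists_matrix_of_quadrics {K : Type u} [Field K] (q : Idx (e + 1) n → K) (hq0 : q ≠ 0)
    (hq : ∀ (i' : Idx e n) (j' : Idx (e + 2) n), eval q (quadric K i' j') = 0) :
    ∃ A : Matrix (Fin n) (Fin (e + 1)) K, ∀ θ : Idx (e + 1) n, q θ = (A.submatrix θ.1 id).det := by
  classical
  obtain ⟨θ₀, h0⟩ := Function.ne_iff.mp hq0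
  have h0' : q θ₀ ≠ 0 := h0
  let v : Fin (e + 1) → K := Fin.cons ((q θ₀ ^ e)⁻¹) (fun _ => 1)
  refine ⟨Matrix.of fun i t => quadMat q θ₀ i t * v t, fun θ => ?_⟩
  have h1 : (Matrix.of fun i t => quadMat q θ₀ i t * v t).submatrix θ.1 id =
      (quadMat q θ₀).submatrix θ.1 id * Matrix.diagonal v := by
    refine Matrix.ext fun a b => ?_
    simp [Matrix.mul_diagonal]
  rw [h1, Matrix.det_mul, Matrix.det_diagonal, det_quadMat q hq θ₀ h0', Fin.prod_univ_succ]
  show q θ = q θ₀ ^ e * q θ * ((Fin.cons ((q θ₀ ^ e)⁻¹) (fun _ => 1) : Fin (e + 1) → K) 0 *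
    ∏ i : Fin e, (Fin.cons ((q θ₀ ^ e)⁻¹) (fun _ => 1) : Fin (e + 1) → K) i.succ)
  simp only [Fin.cons_zero, Fin.cons_succ, Finset.prod_const_one, mul_one]
  field_simp

/-- The minors of a matrix satisfy the Plücker quadrics. -/
theorem evalMinors_quadric (A : Matrix (Fin n) (Fin (e + 1)) K) (i' : Idx e n) (j' : Idx (e + 2) n) :
    evalMinors K (e + 1) n A (quadric K i' j') = 0 := by
  classical
  unfold quadric
  rw [map_sum]
  simp_rw [map_mul, map_pow, map_neg, map_one, evalMinors_coord]
  -- expand the first determinant along its last row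
  have hexp : ∀ y : Fin n, (A.submatrix (Fin.snoc i'.1 y : Fin (e + 1) → Fin n) id).det =
      ∑ c : Fin (e + 1), (-1 : K) ^ (e + c.val) * A y c *
        (A.submatrix i'.1 c.succAbove).det := by
    intro y
    rw [Matrix.det_succ_row _ (Fin.last e)]
    refine Finset.sum_congr rfl fun c _ => ?_
    have h1 : (A.submatrix (Fin.snoc i'.1 y : Fin (e + 1) → Fin n) id) (Fin.last e) c = A y c := by
      simp
    have h2 : (A.submatrix (Fin.snoc i'.1 y : Fin (e + 1) → Fin n) id).submatrix
        (Fin.last e).succAbove c.succAbove = A.submatrix i'.1 c.succAbove := by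
      refine Matrix.ext fun a b => ?_
      simp [Fin.succAbove_last]
    rw [h1, h2, Fin.val_last]
  -- the bordered matrix with a repeated column
  have hbord : ∀ c : Fin (e + 1), ∑ h : Fin (e + 2), (-1 : K) ^ h.val * A (j'.1 h) c *
      (A.submatrix (j'.1 ∘ h.succAbove) id).det = 0 := by
    intro c
    have hdet : (Matrix.of fun (h : Fin (e + 2)) =>
        (Fin.cons (A (j'.1 h) c) (fun c' => A (j'.1 h) c') : Fin (e + 2) → K)).det = 0 := by
      apply Matrix.det_zero_of_column_eq (i := 0) (j := c.succ) (Fin.succ_ne_zero c).symm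
      intro h
      simp
    rw [Matrix.det_succ_column_zero] at hdet
    rw [← hdet]
    refine Finset.sum_congr rfl fun h _ => ?_
    have e1 : (Matrix.of fun (h : Fin (e + 2)) =>
        (Fin.cons (A (j'.1 h) c) (fun c' => A (j'.1 h) c') : Fin (e + 2) → K)) h 0 =
        A (j'.1 h) c := by
      simp
    have e2 : (Matrix.of fun (h : Fin (e + 2)) =>
        (Fin.cons (A (j'.1 h) c) (fun c' => A (j'.1 h) c') : Fin (e + 2) → K)).submatrix
          h.succAbove Fin.succ = A.submatrix (j'.1 ∘ h.succAbove) id := by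
      refine Matrix.ext fun a b => ?_
      simp
    rw [e1, e2]
  simp_rw [hexp]
  calc ∑ h : Fin (e + 2), (-1 : K) ^ (h.val + 1) *
        (∑ c : Fin (e + 1), (-1 : K) ^ (e + c.val) * A (j'.1 h) c *
          (A.submatrix i'.1 c.succAbove).det) * (A.submatrix (j'.1 ∘ h.succAbove) id).det
      = ∑ c : Fin (e + 1), (-(-1 : K) ^ (e + c.val) * (A.submatrix i'.1 c.succAbove).det) *
          ∑ h : Fin (e + 2), (-1 : K) ^ h.val * A (j'.1 h) c *
            (A.submatrix (j'.1 ∘ h.succAbove) id).det := by
        simp only [Finset.mul_sum, Finset.sum_mul]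
        rw [Finset.sum_comm]
        refine Finset.sum_congr rfl fun c _ => ?_
        refine Finset.sum_congr rfl fun h _ => ?_
        rw [pow_succ]
        ring
    _ = 0 := by
        refine Finset.sum_eq_zero fun c _ => ?_
        rw [hbord c, mul_zero]

end Groth.Agent.Lib.H5b
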