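import Mathlib
import Groth.Agent.Lib.H5bRG
import Groth.Agent.Lib.H5bRGChar
import Groth.Agent.Lib.H5bRGFlat
import Groth.Agent.Lib.H5bRGGlobal
import Groth.Agent.Lib.H5bRGLam
import Groth.Agent.Lib.H5bRGGen
import Groth.Agent.Lib.H5bRGPts

/-!
# Invariants of a ring groupoid under arbitrary base change (helper5)

For an exact ring groupoid `h` over `C` and any `C`-algebra `C'`: every invariant `f` of `C' ⊗ A`
satisfies `(X - f)^n ∈ C'[X]` for some `n > 0`; the kernel of `C' → C' ⊗ A` is nil; and for flat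
`C'` the base change is exact (`RG.invariants_baseChange`).
-/

set_option autoImplicit false
set_option linter.style.haveILetI false
set_option linter.unusedSectionVars false
set_option linter.unusedSimpArgs false
universe u

open CategoryTheory CategoryTheory.Limits TensorProduct Polynomial
open Groth.Agent.Lib.Helper2.RetCharpoly

namespace Groth.Agent.Lib.H5bRG

section Idem

/-- the coefficients of the rank polynomial are orthogonal idempotents. -/
theorem lam_coeff_mul {R S : Type*} [CommRing R] [AddCommGroup S] [Module R S] {n : ℕ}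
    (r : Ret R S n) (i j : ℕ) :
    (lam r).coeff i * (lam r).coeff j = if i = j then (lam r).coeff i else 0 := by
  set L := lam r with hL
  have key := lam_eval₂_mul r ((C : R[X] →+* R[X][X]).comp (C : R →+* R[X])) (C X) X
  rw [← hL] at key
  have e1 : L.eval₂ ((C : R[X] →+* R[X][X]).comp (C : R →+* R[X])) (C X) = C L := by
    rw [← Polynomial.hom_eval₂, Polynomial.eval₂_C_X]
  have e2 : L.eval₂ ((C : R[X] →+* R[X][X]).comp (C : R →+* R[X])) X = L.map C := rfl
  have e3 : L.eval₂ ((C : R[X] →+* R[X][X]).comp (C : R →+* R[X])) (C X * X) =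
      ∑ k ∈ Finset.range (L.natDegree + 1), C (C (L.coeff k) * X ^ k) * X ^ k := by
    rw [Polynomial.eval₂_eq_sum_range]
    refine Finset.sum_congr rfl fun k _ => ?_
    rw [mul_pow, ← C_pow, RingHom.comp_apply, ← mul_assoc, ← C_mul]
  rw [e1, e2, e3] at key
  have k2 : (C L * L.map C).coeff j =
      (∑ k ∈ Finset.range (L.natDegree + 1), C (C (L.coeff k) * X ^ k) * X ^ k).coeff j :=
    congrArg (fun p => p.coeff j) key
  rw [coeff_C_mul, coeff_map, finsetSum_coeff] at k2
  simp_rw [coeff_C_mul_X_pow] at k2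
  rw [Finset.sum_ite_eq] at k2
  have k3 := congrArg (fun p => p.coeff i) k2
  simp only [coeff_mul_C] at k3
  rw [k3]
  by_cases hj : j ∈ Finset.range (L.natDegree + 1)
  · rw [if_pos hj, coeff_C_mul_X_pow]
    by_cases hij : i = j
    · subst hij; simp
    · simp [hij]
  · rw [if_neg hj]
    have h0 : L.coeff j = 0 := by
      apply Polynomial.coeff_eq_zero_of_natDegree_lt
      simpa using hj
    by_cases hij : i = j
    · subst hij; simp [h0]
    · simp [hij]

theorem lam_sum_coeff {R S : Type*} [CommRing R] [AddCommGroup S] [Module R S] {n : ℕ}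
    (r : Ret R S n) : ∑ k ∈ Finset.range ((lam r).natDegree + 1), (lam r).coeff k = 1 := by
  have h1 := lam_eval₂_one r (RingHom.id R)
  rw [Polynomial.eval₂_eq_sum_range] at h1
  simpa using h1

theorem sum_idem_pow {R : Type*} [CommRing R] (e : ℕ → R) (d : ℕ)
    (horth : ∀ i j, e i * e j = if i = j then e i else 0)
    (hsum : ∑ i ∈ Finset.range (d + 1), e i = 1) (h0 : e 0 = 0) (u : R) :
    ∑ r ∈ Finset.range (d + 1),
      e r * (∑ s ∈ Finset.range (d + 1), e s * u ^ s) ^ (d.factorial / r) = u ^ d.factorial := by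
  set W := ∑ s ∈ Finset.range (d + 1), e s * u ^ s with hW
  have h1 : ∀ r ∈ Finset.range (d + 1), e r * W = e r * u ^ r := by
    intro r hr
    rw [hW, Finset.mul_sum]
    have : ∀ s ∈ Finset.range (d + 1), e r * (e s * u ^ s) = if r = s then e r * u ^ s else 0 := by
      intro s _
      rw [← mul_assoc, horth]
      split_ifs <;> simp
    rw [Finset.sum_congr rfl this, Finset.sum_ite_eq, if_pos hr]
  have h2 : ∀ r ∈ Finset.range (d + 1), ∀ k : ℕ, e r * W ^ k = e r * u ^ (r * k) := by
    intro r hr k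
    induction k with
    | zero => simp
    | succ k ih =>
      rw [pow_succ, ← mul_assoc, ih, mul_assoc, mul_comm (u ^ (r * k)), ← mul_assoc, h1 r hr,
        mul_assoc, ← pow_add, Nat.mul_succ, add_comm]
  have h3 : ∀ r ∈ Finset.range (d + 1), e r * W ^ (d.factorial / r) = e r * u ^ d.factorial := by
    intro r hr
    rcases Nat.eq_zero_or_pos r with rfl | hpos
    · rw [h0, zero_mul, zero_mul]
    · rw [h2 r hr, Nat.mul_div_cancel' (Nat.dvd_factorial hpos
        (Nat.lt_succ_iff.mp (Finset.mem_range.mp hr)))]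
  rw [Finset.sum_congr rfl h3, ← Finset.sum_mul, hsum, one_mul]

end Idem

namespace RG

variable {C A B D : Type u} [CommRing C] [CommRing A] [CommRing B] [CommRing D]
  [Algebra C A] [Algebra C B] [Algebra C D] (h : RG C A B D)

section Psi
variable (C A) (C' : Type u) [CommRing C'] [Algebra C C']

/-- the comparison `C'[X] ⊗ A → (C' ⊗ A)[X]`. -/
noncomputable def Psi : C'[X] ⊗[C] A →ₐ[C] (C' ⊗[C] A)[X] :=
  Algebra.TensorProduct.productMap
    (Polynomial.mapAlgHom ((Algebra.ofId C' (C' ⊗[C] A)).restrictScalars C))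
    ((Polynomial.CAlgHom (R := C) (A := C' ⊗[C] A)).comp
      (Algebra.TensorProduct.includeRight : A →ₐ[C] C' ⊗[C] A))

theorem Psi_tmul (p : C'[X]) (a : A) :
    Psi C A C' (p ⊗ₜ a) = p.map (algebraMap C' (C' ⊗[C] A)) * Polynomial.C ((1 : C') ⊗ₜ[C] a) := by
  simp [Psi]

theorem Psi_algebraMap (p : C'[X]) :
    Psi C A C' (algebraMap C'[X] (C'[X] ⊗[C] A) p) = p.map (algebraMap C' (C' ⊗[C] A)) := by
  rw [Algebra.TensorProduct.algebraMap_apply, Algebra.algebraMap_self, RingHom.id_apply, Psi_tmul,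
    ← Algebra.TensorProduct.one_def, Polynomial.C_1, mul_one]

theorem Psi_comp_incl :
    (Psi C A C' : C'[X] ⊗[C] A →+* (C' ⊗[C] A)[X]).comp (incl C'[X] A) =
      (Polynomial.C : C' ⊗[C] A →+* (C' ⊗[C] A)[X]).comp (incl C' A) := by
  apply RingHom.ext
  intro a
  show Psi C A C' ((1 : C'[X]) ⊗ₜ a) = Polynomial.C ((1 : C') ⊗ₜ[C] a)
  rw [Psi_tmul]
  simp

theorem Psi_cb (f : C' ⊗[C] A) :
    Psi C A C' (cb (Polynomial.CAlgHom (R := C) (A := C')) A f) = Polynomial.C f := by
  induction f using TensorProduct.induction_on with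
  | zero => simp
  | tmul c a =>
    show Psi C A C' ((Polynomial.C c : C'[X]) ⊗ₜ a) = Polynomial.C (c ⊗ₜ[C] a)
    rw [Psi_tmul, Polynomial.map_C, ← Polynomial.C_mul, Algebra.TensorProduct.algebraMap_apply,
      Algebra.algebraMap_self, RingHom.id_apply, Algebra.TensorProduct.tmul_mul_tmul, mul_one,
      one_mul]
  | add y z hy hz => simp only [map_add, hy, hz]

end Psi

/-- the norm of `X - f` for an invariant `f` comes from `C'[X]`. -/
theorem exists_norm_poly (he : h.IsExact) (n : ℕ)
    (r : letI := (h.σ : A →+* B).toAlgebra; Ret A B n)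
    (C' : Type u) [CommRing C'] [Algebra C C'] (f : C' ⊗[C] A)
    (hf : (h.baseChange C').σ f = (h.baseChange C').τ f) :
    ∃ M : C'[X], M.map (algebraMap C' (C' ⊗[C] A)) =
      (letI := (h.σ : A →+* B).toAlgebra; lam r).eval₂
        ((Polynomial.C : C' ⊗[C] A →+* (C' ⊗[C] A)[X]).comp (incl C' A)) (X - Polynomial.C f) := by
  let jj : C' →ₐ[C] C'[X] := Polynomial.CAlgHom (R := C) (A := C')
  let a'' : C'[X] ⊗[C] A := (X : C'[X]) ⊗ₜ[C] (1 : A) - cb jj A f
  have hinv : (h.baseChange C'[X]).σ a'' = (h.baseChange C'[X]).τ a'' := by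
    show bc C'[X] h.σ a'' = bc C'[X] h.τ a''
    simp only [a'', map_sub]
    rw [← cb_bc jj h.σ f, ← cb_bc jj h.τ f]
    have : bc C' h.σ f = bc C' h.τ f := hf
    rw [this]
    simp [bc]
  obtain ⟨M, hM⟩ := h.exists_norm_mem he n r C'[X] a'' hinv
  refine ⟨M, ?_⟩
  have h1 := congrArg (Psi C A C' : C'[X] ⊗[C] A →+* (C' ⊗[C] A)[X]) hM
  rw [Polynomial.hom_eval₂, Psi_comp_incl] at h1
  have h2 : (Psi C A C' : C'[X] ⊗[C] A →+* (C' ⊗[C] A)[X]) a'' = X - Polynomial.C f := by
    show Psi C A C' a'' = X - Polynomial.C f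
    simp only [a'', map_sub]
    rw [Psi_cb, Psi_tmul, Polynomial.map_X, ← Algebra.TensorProduct.one_def, Polynomial.C_1,
      mul_one]
  rw [h2] at h1
  rw [← h1]
  exact (Psi_algebraMap C A C' M).symm

/-- **invariants under base change**. -/
theorem invariants_baseChange (he : h.IsExact) (C' : Type u) [CommRing C'] [Algebra C C'] :
    (∀ f : C' ⊗[C] A, (h.baseChange C').σ f = (h.baseChange C').τ f →
      ∃ (n : ℕ) (P : C'[X]), 0 < n ∧
        P.map (algebraMap C' (C' ⊗[C] A)) = (X - Polynomial.C f) ^ n) ∧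
    (∀ c : C', algebraMap C' (C' ⊗[C] A) c = 0 → IsNilpotent c) ∧
    (Module.Flat C C' → (h.baseChange C').IsExact) := by
  refine ⟨?_, ?_, fun _ => he.baseChange C'⟩
  · intro f hf
    obtain ⟨n, r, hr0⟩ := h.exists_ret_lam
    letI algσ : Algebra A B := (h.σ : A →+* B).toAlgebra
    set L := lam r with hL
    let g : A →+* (C' ⊗[C] A)[X] := (Polynomial.C : C' ⊗[C] A →+* (C' ⊗[C] A)[X]).comp (incl C' A)
    obtain ⟨M, hM⟩ := h.exists_norm_poly he n r C' f hf
    obtain ⟨M₀, hM₀⟩ := h.exists_norm_poly he n r C' 0 (by rw [map_zero, map_zero])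
    have hM₀' : ∀ k, algebraMap C' (C' ⊗[C] A) (M₀.coeff k) = incl C' A (L.coeff k) := by
      intro k
      have h1 : L.eval₂ g (X - Polynomial.C 0) = L.map (incl C' A) := by
        rw [Polynomial.C_0, sub_zero]
        rfl
      rw [h1] at hM₀
      have := congrArg (fun p => p.coeff k) hM₀
      simpa using this
    let d := L.natDegree
    let e : ℕ → (C' ⊗[C] A)[X] := fun k => g (L.coeff k)
    have horth : ∀ i j, e i * e j = if i = j then e i else 0 := by
      intro i j
      show g (L.coeff i) * g (L.coeff j) = _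
      rw [← map_mul, lam_coeff_mul r i j]
      split_ifs
      · rfl
      · exact map_zero g
    have hsum : ∑ i ∈ Finset.range (d + 1), e i = 1 := by
      show ∑ i ∈ Finset.range (d + 1), g (L.coeff i) = 1
      rw [← map_sum, lam_sum_coeff r, map_one]
    have h0 : e 0 = 0 := by
      show g (L.coeff 0) = 0
      rw [hr0, map_zero]
    have hfin := sum_idem_pow e d horth hsum h0 (X - Polynomial.C f)
    refine ⟨d.factorial, ∑ k ∈ Finset.range (d + 1), Polynomial.C (M₀.coeff k) * M ^ (d.factorial / k),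
      Nat.factorial_pos d, ?_⟩
    rw [← hfin, Polynomial.map_sum]
    refine Finset.sum_congr rfl fun k _ => ?_
    rw [Polynomial.map_mul, Polynomial.map_pow, Polynomial.map_C, hM₀' k, hM,
      Polynomial.eval₂_eq_sum_range]
    rfl
  · intro c hc
    rw [nilpotent_iff_mem_prime]
    intro J hJ
    have hs := comap_surjective_bc C' (h.comap_surjective_of_isExact he)
    obtain ⟨q, hq⟩ := hs ⟨J, hJ⟩
    have h1 : c ∈ (PrimeSpectrum.comap (algebraMap C' (C' ⊗[C] A)) q).asIdeal := by
      show algebraMap C' (C' ⊗[C] A) c ∈ q.asIdeal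
      rw [hc]
      exact zero_mem _
    rw [hq] at h1
    exact h1

end RG

end Groth.Agent.Lib.H5bRG
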