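import Mathlib
import Groth.Agent.Lib.H5bRGInvBC

/-!
# Invariants under base change, right-tensor form (helper5)
-/

set_option autoImplicit false
set_option linter.style.haveILetI false
set_option linter.unusedSectionVars false
set_option linter.unusedSimpArgs false
universe u

open CategoryTheory CategoryTheory.Limits TensorProduct Polynomial

namespace Groth.Agent.Lib.H5bRG

namespace RG

variable {C A B D : Type u} [CommRing C] [CommRing A] [CommRing B] [CommRing D]
  [Algebra C A] [Algebra C B] [Algebra C D] (h : RG C A B D)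

theorem invariants_baseChange_right (he : h.IsExact) (C' : Type u) [CommRing C'] [Algebra C C']
    (sT tT : A ⊗[C] C' →ₐ[C] B ⊗[C] C')
    (hs : ∀ (a : A) (c : C'), sT (a ⊗ₜ c) = h.σ a ⊗ₜ c)
    (ht : ∀ (a : A) (c : C'), tT (a ⊗ₜ c) = h.τ a ⊗ₜ c) :
    (∀ f : A ⊗[C] C', sT f = tT f → ∃ (n : ℕ) (P : C'[X]), 0 < n ∧
      P.map (Algebra.TensorProduct.includeRight : C' →ₐ[C] A ⊗[C] C').toRingHom =
        (X - Polynomial.C f) ^ n) ∧
    (∀ c : C', (Algebra.TensorProduct.includeRight : C' →ₐ[C] A ⊗[C] C') c = 0 →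
      IsNilpotent c) ∧
    (Module.Flat C C' →
      Function.Injective (Algebra.TensorProduct.includeRight : C' →ₐ[C] A ⊗[C] C') ∧
      ∀ f : A ⊗[C] C', sT f = tT f →
        f ∈ Set.range (Algebra.TensorProduct.includeRight : C' →ₐ[C] A ⊗[C] C')) := by
  let κA : A ⊗[C] C' ≃ₐ[C] C' ⊗[C] A := Algebra.TensorProduct.comm C A C'
  let κB : B ⊗[C] C' ≃ₐ[C] C' ⊗[C] B := Algebra.TensorProduct.comm C B C'
  have hσ : ∀ f, bc C' h.σ (κA f) = κB (sT f) := by
    intro f
    induction f using TensorProduct.induction_on with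
    | zero => simp
    | tmul a c => simp [κA, κB, hs, bc]
    | add y z hy hz => simp only [map_add, hy, hz]
  have hτ : ∀ f, bc C' h.τ (κA f) = κB (tT f) := by
    intro f
    induction f using TensorProduct.induction_on with
    | zero => simp
    | tmul a c => simp [κA, κB, ht, bc]
    | add y z hy hz => simp only [map_add, hy, hz]
  have hκ : ∀ c : C', κA ((Algebra.TensorProduct.includeRight : C' →ₐ[C] A ⊗[C] C') c) =
      algebraMap C' (C' ⊗[C] A) c := by
    intro c
    simp [κA, Algebra.TensorProduct.algebraMap_apply]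
  have hinv : ∀ f, sT f = tT f → (h.baseChange C').σ (κA f) = (h.baseChange C').τ (κA f) := by
    intro f hf
    show bc C' h.σ (κA f) = bc C' h.τ (κA f)
    rw [hσ, hτ, hf]
  obtain ⟨ha, hb, hc⟩ := h.invariants_baseChange he C'
  refine ⟨?_, ?_, ?_⟩
  · intro f hf
    obtain ⟨n, P, hn, hP⟩ := ha (κA f) (hinv f hf)
    refine ⟨n, P, hn, ?_⟩
    have h1 := congrArg (Polynomial.map (κA.symm : C' ⊗[C] A →+* A ⊗[C] C')) hP
    rw [Polynomial.map_map, Polynomial.map_pow, Polynomial.map_sub, Polynomial.map_X,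
      Polynomial.map_C] at h1
    have h2 : (κA.symm : C' ⊗[C] A →+* A ⊗[C] C') (κA f) = f := κA.symm_apply_apply f
    rw [h2] at h1
    rw [← h1]
    congr 1
  · intro c hc'
    apply hb
    rw [← hκ, hc', map_zero]
  · intro hflat
    have hex := hc hflat
    refine ⟨?_, ?_⟩
    · intro c c' hcc
      apply hex.inj
      rw [← hκ, ← hκ, hcc]
    · intro f hf
      obtain ⟨c, hc⟩ := hex.inv (κA f) (hinv f hf)
      refine ⟨c, ?_⟩
      apply κA.injective
      rw [hκ, hc]

end RG

end Groth.Agent.Lib.H5bRG
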