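import Mathlib

/-!
# Rees algebra of a filtration given by a weighted basis (helper5)

`A` is a commutative `K`-algebra with a `K`-basis `e : ι → A` and a weight `ω : ι → ℕ` such that
`F m = span {e c | ω c ≤ m}` is a multiplicative filtration.  The Rees algebra
`R = {p ∈ A[T] | ∀ m, coeff p m ∈ F m}` is a free `K[T]`-module on the `e c T^(ω c)`, its fibre at
`c ≠ 0` is `A`, and its fibre at `0` is identified with a quotient of a polynomial ring as soon as
the obvious map is defined and the standard monomials span the quotient.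
-/

set_option autoImplicit false

universe u v

open Polynomial

noncomputable section

namespace Groth.Agent.Lib.H5b

attribute [local instance] Polynomial.algebra

section Rees

variable {K : Type u} [Field K] {A : Type u} [CommRing A] [Algebra K A] {ι : Type v}
  (e : Module.Basis ι K A) (ω : ι → ℕ)

/-- the filtration: span of the basis vectors of weight at most `m` -/
def filt (m : ℕ) : Submodule K A := Submodule.span K (e '' {c | ω c ≤ m})

/-- the strict filtration: span of the basis vectors of weight less than `m` -/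
def filtLt (m : ℕ) : Submodule K A := Submodule.span K (e '' {c | ω c < m})

theorem filt_mono {a b : ℕ} (hab : a ≤ b) : filt e ω a ≤ filt e ω b :=
  Submodule.span_mono (Set.image_mono (fun c (hc : ω c ≤ a) => show ω c ≤ b from le_trans hc hab))

theorem filtLt_le_filt (m : ℕ) : filtLt e ω m ≤ filt e ω m :=
  Submodule.span_mono (Set.image_mono (fun c (hc : ω c < m) => show ω c ≤ m from le_of_lt hc))

theorem filtLt_succ (m : ℕ) : filtLt e ω (m + 1) = filt e ω m := by
  unfold filtLt filt
  congr 2
  ext c
  exact Nat.lt_succ_iff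

theorem filtLt_zero : filtLt e ω 0 = ⊥ := by
  unfold filtLt
  have : {c | ω c < 0} = (∅ : Set ι) := by
    ext c; simp
  rw [this, Set.image_empty, Submodule.span_empty]

theorem basis_mem_filt (c : ι) : e c ∈ filt e ω (ω c) :=
  Submodule.subset_span ⟨c, show ω c ≤ ω c from le_refl _, rfl⟩

theorem mem_filt_iff (x : A) (m : ℕ) : x ∈ filt e ω m ↔ ∀ c, e.repr x c ≠ 0 → ω c ≤ m := by
  unfold filt
  rw [Module.Basis.mem_span_image]
  constructor
  · intro h c hc
    exact h (Finsupp.mem_support_iff.mpr hc)
  · intro h c hc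
    exact h c (Finsupp.mem_support_iff.mp hc)

theorem mem_filtLt_iff (x : A) (m : ℕ) : x ∈ filtLt e ω m ↔ ∀ c, e.repr x c ≠ 0 → ω c < m := by
  unfold filtLt
  rw [Module.Basis.mem_span_image]
  constructor
  · intro h c hc
    exact h (Finsupp.mem_support_iff.mpr hc)
  · intro h c hc
    exact h c (Finsupp.mem_support_iff.mp hc)

/-- the hypotheses making `filt` a multiplicative filtration -/
structure FiltHyp : Prop where
  one_mem : (1 : A) ∈ filt e ω 0
  mul_mem : ∀ a b, e a * e b ∈ filt e ω (ω a + ω b)

variable {e ω}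

theorem FiltHyp.mul_mem_filt (h : FiltHyp e ω) {a b : ℕ} {x y : A} (hx : x ∈ filt e ω a)
    (hy : y ∈ filt e ω b) : x * y ∈ filt e ω (a + b) := by
  have hle : filt e ω a * filt e ω b ≤ filt e ω (a + b) := by
    unfold filt
    rw [Submodule.span_mul_span]
    apply Submodule.span_le.2
    rintro _ ⟨_, ⟨c, hc, rfl⟩, _, ⟨c', hc', rfl⟩, rfl⟩
    exact filt_mono e ω (add_le_add hc hc') (h.mul_mem c c')
  exact hle (Submodule.mul_mem_mul hx hy)

/-- the Rees algebra of the filtration -/
def rees (h : FiltHyp e ω) : Subalgebra K[X] A[X] where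
  carrier := {p | ∀ m, p.coeff m ∈ filt e ω m}
  mul_mem' := by
    intro p q hp hq m
    rw [coeff_mul]
    refine Submodule.sum_mem _ ?_
    rintro ⟨i, j⟩ hij
    rw [← Finset.HasAntidiagonal.mem_antidiagonal.mp hij]
    exact h.mul_mem_filt (hp i) (hq j)
  add_mem' := by
    intro p q hp hq m
    rw [coeff_add]
    exact Submodule.add_mem _ (hp m) (hq m)
  algebraMap_mem' := by
    intro r m
    rw [Polynomial.algebraMap_def, coe_mapRingHom, coeff_map, Algebra.algebraMap_eq_smul_one]
    exact Submodule.smul_mem _ _ (filt_mono e ω (Nat.zero_le m) h.one_mem)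

theorem mem_rees_iff (h : FiltHyp e ω) (p : A[X]) : p ∈ rees h ↔ ∀ m, p.coeff m ∈ filt e ω m :=
  Iff.rfl

theorem monomial_mem_rees (h : FiltHyp e ω) {m : ℕ} {x : A} (hx : x ∈ filt e ω m) :
    monomial m x ∈ rees h := by
  intro k
  rw [coeff_monomial]
  split_ifs with hk
  · rw [← hk]; exact hx
  · exact Submodule.zero_mem _

/-- the element `x T^m` of the Rees algebra -/
def reesMon (h : FiltHyp e ω) (m : ℕ) (x : A) (hx : x ∈ filt e ω m) : rees h :=
  ⟨monomial m x, monomial_mem_rees h hx⟩

/-- the basis vectors `e c T^(ω c)` -/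
def reesVec (h : FiltHyp e ω) (c : ι) : rees h := reesMon h (ω c) (e c) (basis_mem_filt e ω c)

theorem coeff_smul_monomial (p : K[X]) (k : ℕ) (x : A) (m : ℕ) :
    (p • (monomial k x : A[X])).coeff m = if k ≤ m then p.coeff (m - k) • x else 0 := by
  rw [Algebra.smul_def, Polynomial.algebraMap_def, coe_mapRingHom, ← C_mul_X_pow_eq_monomial,
    ← mul_assoc, coeff_mul_X_pow', mul_comm, coeff_C_mul, coeff_map]
  split_ifs
  · rw [Algebra.smul_def, mul_comm]
  · rfl

theorem linearIndependent_reesVec (h : FiltHyp e ω) : LinearIndependent K[X] (reesVec h) := by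
  classical
  rw [linearIndependent_iff']
  intro s g hg c₀ hc₀
  ext j
  rw [coeff_zero]
  have h1 := congrArg (fun r : rees h => (r : A[X]).coeff (j + ω c₀)) hg
  simp only [AddSubmonoidClass.coe_finsetSum, Subalgebra.coe_smul, ZeroMemClass.coe_zero,
    coeff_zero, finsetSum_coeff] at h1
  have h2 : ∀ c ∈ s, ((g c) • ((reesVec h c : rees h) : A[X])).coeff (j + ω c₀) =
      (if ω c ≤ j + ω c₀ then (g c).coeff (j + ω c₀ - ω c) else 0) • e c := by
    intro c _
    show ((g c) • (monomial (ω c) (e c) : A[X])).coeff (j + ω c₀) = _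
    rw [coeff_smul_monomial]
    split_ifs
    · rfl
    · rw [zero_smul]
  rw [Finset.sum_congr rfl h2] at h1
  have h3 := (linearIndependent_iff'.mp e.linearIndependent) s _ h1 c₀ hc₀
  rw [if_pos (Nat.le_add_left _ _), Nat.add_sub_cancel] at h3
  exact h3

theorem span_reesVec (h : FiltHyp e ω) : ⊤ ≤ Submodule.span K[X] (Set.range (reesVec h)) := by
  classical
  rintro ⟨p, hp⟩ -
  -- work in `A[X]`
  set S' : Submodule K[X] A[X] :=
    Submodule.span K[X] (Set.range fun c : ι => (monomial (ω c) (e c) : A[X])) with hS'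
  have hmap : (Submodule.span K[X] (Set.range (reesVec h))).map (rees h).val.toLinearMap = S' := by
    rw [Submodule.map_span, ← Set.range_comp]
    rfl
  have key : ∀ (m : ℕ) (x : A), x ∈ filt e ω m → (monomial m x : A[X]) ∈ S' := by
    intro m x hx
    unfold filt at hx
    induction hx using Submodule.span_induction with
    | mem x hx =>
      obtain ⟨c, hc, rfl⟩ := hx
      have : (monomial m (e c) : A[X]) = (X ^ (m - ω c) : K[X]) • (monomial (ω c) (e c) : A[X]) := by
        ext k
        rw [coeff_smul_monomial, coeff_monomial, coeff_X_pow]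
        have hc' : ω c ≤ m := hc
        by_cases hk : m = k
        · subst hk
          rw [if_pos rfl, if_pos hc', if_pos rfl, one_smul]
        · rw [if_neg hk]
          split_ifs with h1 h2
          · exfalso; omega
          · rw [zero_smul]
          · rfl
      rw [this]
      exact Submodule.smul_mem _ _ (Submodule.subset_span ⟨c, rfl⟩)
    | zero => rw [map_zero]; exact Submodule.zero_mem _
    | add x y _ _ hx hy => rw [map_add]; exact Submodule.add_mem _ hx hy
    | smul a x _ hx =>
      have : (monomial m (a • x) : A[X]) = (C a : K[X]) • (monomial m x : A[X]) := by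
        ext k
        rw [coeff_smul_monomial, coeff_monomial, coeff_C]
        by_cases hk : m = k
        · subst hk
          rw [if_pos rfl, if_pos (le_refl _), Nat.sub_self, if_pos rfl]
        · rw [if_neg hk]
          split_ifs with h1 h2
          · exfalso; omega
          · rw [zero_smul]
          · rfl
      rw [this]
      exact Submodule.smul_mem _ _ hx
  have hpS : p ∈ S' := by
    rw [p.as_sum_support]
    refine Submodule.sum_mem _ (fun m _ => key m _ (hp m))
  rw [← hmap] at hpS
  obtain ⟨r, hr, hrp⟩ := hpS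
  have : r = ⟨p, hp⟩ := Subtype.ext hrp
  rw [← this]
  exact hr

/-- the basis of the Rees algebra over `K[T]` -/
def reesBasis (h : FiltHyp e ω) : Module.Basis ι K[X] (rees h) :=
  Module.Basis.mk (linearIndependent_reesVec h) (span_reesVec h)

theorem reesBasis_apply (h : FiltHyp e ω) (c : ι) : reesBasis h c = reesVec h c := by
  unfold reesBasis
  rw [Module.Basis.mk_apply]

theorem free_rees (h : FiltHyp e ω) : Module.Free K[X] (rees h) :=
  Module.Free.of_basis (reesBasis h)


/-! ### The fibre at `c ≠ 0` -/

/-- evaluation at `T = c` -/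
def reesEval (h : FiltHyp e ω) (c : K) : rees h →ₐ[K] A where
  toFun r := (r : A[X]).eval (algebraMap K A c)
  map_one' := by simp
  map_mul' := by intro x y; simp
  map_zero' := by simp
  map_add' := by intro x y; simp
  commutes' := by
    intro a
    show ((algebraMap K A[X] a) : A[X]).eval (algebraMap K A c) = _
    rw [Polynomial.algebraMap_apply, eval_C]

theorem reesEval_apply (h : FiltHyp e ω) (c : K) (r : rees h) :
    reesEval h c r = (r : A[X]).eval (algebraMap K A c) := rfl

theorem reesEval_smul (h : FiltHyp e ω) (c : K) (p : K[X]) (r : rees h) :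
    reesEval h c (p • r) = p.eval c • reesEval h c r := by
  rw [reesEval_apply, reesEval_apply, Subalgebra.coe_smul, Algebra.smul_def,
    Polynomial.algebraMap_def, coe_mapRingHom, eval_mul, eval_map_algebraMap,
    aeval_algebraMap_apply_eq_algebraMap_eval, Algebra.smul_def]

theorem reesEval_reesVec (h : FiltHyp e ω) (c : K) (c' : ι) :
    reesEval h c (reesVec h c') = c ^ ω c' • e c' := by
  rw [reesEval_apply]
  show (monomial (ω c') (e c') : A[X]).eval (algebraMap K A c) = _
  rw [eval_monomial, Algebra.smul_def, map_pow, mul_comm]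

theorem reesEval_surjective (h : FiltHyp e ω) (c : K) (hc : c ≠ 0) :
    Function.Surjective (reesEval h c) := by
  rw [← AlgHom.range_eq_top, eq_top_iff]
  intro x _
  have hx : x ∈ Submodule.span K (Set.range e) := by rw [e.span_eq]; trivial
  have hle : Submodule.span K (Set.range e) ≤ Subalgebra.toSubmodule (reesEval h c).range := by
    apply Submodule.span_le.2
    rintro _ ⟨c', rfl⟩
    refine ⟨(C ((c ^ ω c')⁻¹) : K[X]) • reesVec h c', ?_⟩
    show reesEval h c _ = _
    rw [reesEval_smul, reesEval_reesVec, eval_C, smul_smul, inv_mul_cancel₀ (pow_ne_zero _ hc),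
      one_smul]
  exact hle hx

theorem ker_reesEval (h : FiltHyp e ω) (c : K) (hc : c ≠ 0) :
    RingHom.ker (reesEval h c).toRingHom =
      Ideal.span {algebraMap K[X] (rees h) (X - C c)} := by
  classical
  apply le_antisymm
  · intro r hr
    rw [RingHom.mem_ker] at hr
    have hr' : reesEval h c r = 0 := hr
    set B := reesBasis h with hB
    have hsum : r = ∑ c' ∈ (B.repr r).support, (B.repr r c') • reesVec h c' := by
      conv_lhs => rw [← B.linearCombination_repr r, Finsupp.linearCombination_apply, Finsupp.sum]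
      refine Finset.sum_congr rfl (fun c' _ => ?_)
      rw [hB, reesBasis_apply]
    have hroot : ∀ c', (B.repr r c').IsRoot c := by
      intro c'
      by_cases hc' : c' ∈ (B.repr r).support
      · rw [hsum, map_sum] at hr'
        simp_rw [reesEval_smul, reesEval_reesVec, smul_smul] at hr'
        have := (linearIndependent_iff'.mp e.linearIndependent) _ _ hr' c' hc'
        rcases mul_eq_zero.mp this with h0 | h0
        · exact h0
        · exact absurd h0 (pow_ne_zero _ hc)
      · rw [Finsupp.notMem_support_iff.mp hc']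
        exact IsRoot.def.mpr eval_zero
    have hfac : ∀ c', B.repr r c' = (X - C c) * (B.repr r c' /ₘ (X - C c)) := by
      intro c'
      exact (mul_divByMonic_eq_iff_isRoot.mpr (hroot c')).symm
    rw [Ideal.mem_span_singleton']
    refine ⟨∑ c' ∈ (B.repr r).support, (B.repr r c' /ₘ (X - C c)) • reesVec h c', ?_⟩
    rw [mul_comm, ← Algebra.smul_def, Finset.smul_sum]
    conv_rhs => rw [hsum]
    refine Finset.sum_congr rfl (fun c' _ => ?_)
    rw [smul_smul, ← hfac c']
  · rw [Ideal.span_le]
    intro r hr
    rw [Set.mem_singleton_iff] at hr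
    subst hr
    show reesEval h c _ = 0
    have : algebraMap K[X] (rees h) (X - C c) = (X - C c : K[X]) • (1 : rees h) := by
      rw [Algebra.smul_def, mul_one]
    rw [this, reesEval_smul, eval_sub, eval_X, eval_C, sub_self, zero_smul]

/-- the fibre of the Rees algebra at `c ≠ 0` is `A` -/
def reesFibre (h : FiltHyp e ω) (c : K) (hc : c ≠ 0) :
    (rees h ⧸ Ideal.span {algebraMap K[X] (rees h) (X - C c)}) ≃ₐ[K] A :=
  (Ideal.quotientEquivAlgOfEq K (ker_reesEval h c hc).symm).trans
    (Ideal.quotientKerAlgEquivOfSurjective (reesEval_surjective h c hc))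


/-! ### The fibre at `0` -/

instance (h : FiltHyp e ω) : IsScalarTower K K[X] (rees h) := inferInstance

/-- the ideal `(T)` of the Rees algebra -/
def reesT (h : FiltHyp e ω) : Ideal (rees h) := Ideal.span {algebraMap K[X] (rees h) X}

theorem reesMon_mem_reesT (h : FiltHyp e ω) (N : ℕ) (x : A) (hx : x ∈ filtLt e ω N) :
    reesMon h N x (filtLt_le_filt e ω N hx) ∈ reesT h := by
  cases N with
  | zero =>
    have hx0 : x = 0 := by
      rw [filtLt_zero] at hx
      exact (Submodule.mem_bot K).mp hx
    subst hx0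
    have : reesMon h 0 0 (Submodule.zero_mem _) = 0 := by
      apply Subtype.ext
      show (monomial 0 (0 : A) : A[X]) = 0
      rw [map_zero]
    rw [this]
    exact Ideal.zero_mem _
  | succ k =>
    have hx' : x ∈ filt e ω k := by rwa [filtLt_succ] at hx
    unfold reesT
    rw [Ideal.mem_span_singleton']
    refine ⟨reesMon h k x hx', ?_⟩
    apply Subtype.ext
    show (monomial k x : A[X]) * (algebraMap K[X] A[X] X) = monomial (k + 1) x
    rw [Polynomial.algebraMap_def, coe_mapRingHom, map_X, monomial_mul_X]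

theorem linearIndependent_mk_reesVec (h : FiltHyp e ω) :
    LinearIndependent K (fun c : ι => Ideal.Quotient.mk (reesT h) (reesVec h c)) := by
  classical
  rw [linearIndependent_iff']
  intro s g hg c₀ hc₀
  have h1 : Ideal.Quotient.mk (reesT h) (∑ c ∈ s, (C (g c) : K[X]) • reesVec h c) = 0 := by
    rw [map_sum]
    rw [← hg]
    refine Finset.sum_congr rfl (fun c _ => ?_)
    have : (C (g c) : K[X]) • reesVec h c = g c • reesVec h c := by
      rw [← algebraMap_eq, algebraMap_smul]
    rw [this]
    exact map_smul (Ideal.Quotient.mkₐ K (reesT h)) (g c) (reesVec h c)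
  rw [Ideal.Quotient.eq_zero_iff_mem] at h1
  unfold reesT at h1
  rw [Ideal.mem_span_singleton'] at h1
  obtain ⟨r, hr⟩ := h1
  set B := reesBasis h with hB
  have h2 := congrArg (fun y => B.repr y c₀) hr
  rw [mul_comm, ← Algebra.smul_def, map_smul, Finsupp.smul_apply, map_sum,
    Finset.sum_apply'] at h2
  have h3 : ∀ c ∈ s, (B.repr ((C (g c) : K[X]) • reesVec h c)) c₀ =
      if c = c₀ then C (g c) else 0 := by
    intro c _
    rw [map_smul, ← reesBasis_apply, ← hB, B.repr_self, Finsupp.smul_apply,
      Finsupp.single_apply, smul_eq_mul]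
    split_ifs
    · rw [mul_one]
    · rw [mul_zero]
  rw [Finset.sum_congr rfl h3, Finset.sum_ite_eq' s c₀, if_pos hc₀] at h2
  have h4 := congrArg (fun p : K[X] => p.coeff 0) h2
  simp only [smul_eq_mul, coeff_X_mul_zero, coeff_C_zero] at h4
  exact h4.symm

theorem span_mk_reesVec (h : FiltHyp e ω) :
    Submodule.span K (Set.range fun c : ι => Ideal.Quotient.mk (reesT h) (reesVec h c)) = ⊤ := by
  classical
  rw [eq_top_iff]
  rintro q -
  obtain ⟨r, rfl⟩ := Ideal.Quotient.mk_surjective q
  set B := reesBasis h with hB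
  have hsum : r = ∑ c' ∈ (B.repr r).support, (B.repr r c') • reesVec h c' := by
    conv_lhs => rw [← B.linearCombination_repr r, Finsupp.linearCombination_apply, Finsupp.sum]
    refine Finset.sum_congr rfl (fun c' _ => ?_)
    rw [hB, reesBasis_apply]
  rw [hsum, map_sum]
  refine Submodule.sum_mem _ (fun c' _ => ?_)
  set p := B.repr r c' with hp
  have h1 : p • reesVec h c' = (p.coeff 0) • reesVec h c' +
      algebraMap K[X] (rees h) X * (p.divX • reesVec h c') := by
    conv_lhs => rw [← divX_mul_X_add p]
    rw [add_smul, add_comm, ← algebraMap_eq, algebraMap_smul, mul_comm p.divX X, mul_smul,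
      Algebra.smul_def (X : K[X])]
  rw [h1, map_add]
  have h2 : Ideal.Quotient.mk (reesT h) (algebraMap K[X] (rees h) X * (p.divX • reesVec h c')) = 0 := by
    rw [Ideal.Quotient.eq_zero_iff_mem]
    exact Ideal.mul_mem_right _ _ (Ideal.subset_span rfl)
  rw [h2, add_zero]
  have h3 : Ideal.Quotient.mk (reesT h) ((p.coeff 0) • reesVec h c') =
      (p.coeff 0) • Ideal.Quotient.mk (reesT h) (reesVec h c') :=
    map_smul (Ideal.Quotient.mkₐ K (reesT h)) _ _
  rw [h3]
  exact Submodule.smul_mem _ _ (Submodule.subset_span ⟨c', rfl⟩)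

end Rees

section LinAlg

variable {K : Type*} [Field K] {V V' : Type*} [AddCommGroup V] [Module K V] [AddCommGroup V']
  [Module K V'] {ι : Type*}

theorem bijective_of_span_of_linearIndependent (f : V →ₗ[K] V') (s : ι → V)
    (hs : Submodule.span K (Set.range s) = ⊤) (hli : LinearIndependent K (fun c => f (s c)))
    (hsp : Submodule.span K (Set.range fun c => f (s c)) = ⊤) : Function.Bijective f := by
  constructor
  · rw [← LinearMap.ker_eq_bot, eq_bot_iff]
    intro x hx
    rw [LinearMap.mem_ker] at hx
    have hx' : x ∈ Submodule.span K (Set.range s) := by rw [hs]; trivial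
    rw [Finsupp.mem_span_range_iff_exists_finsupp] at hx'
    obtain ⟨l, rfl⟩ := hx'
    rw [Finsupp.sum, map_sum] at hx
    simp_rw [map_smul] at hx
    have h0 : ∀ c ∈ l.support, l c = 0 := fun c hc =>
      (linearIndependent_iff'.mp hli) l.support l hx c hc
    rw [Submodule.mem_bot, Finsupp.sum]
    refine Finset.sum_eq_zero (fun c hc => ?_)
    rw [h0 c hc, zero_smul]
  · rw [← LinearMap.range_eq_top, eq_top_iff, ← hsp]
    apply Submodule.span_le.2
    rintro _ ⟨c, rfl⟩
    exact ⟨s c, rfl⟩

end LinAlg


section Zero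

variable {K : Type u} [Field K] {A : Type u} [CommRing A] [Algebra K A] {ι : Type v}
  {e : Module.Basis ι K A} {ω : ι → ℕ} (h : FiltHyp e ω) {σ : Type*} (W : σ → ℕ) (g : σ → A)
  (hg : ∀ s, g s ∈ filt e ω (W s))

theorem prod_monomial' {α : Type*} (s : Finset α) (a : α → ℕ) (b : α → A) :
    ∏ i ∈ s, (monomial (a i) (b i) : A[X]) = monomial (∑ i ∈ s, a i) (∏ i ∈ s, b i) := by
  classical
  induction s using Finset.induction_on with
  | empty => simp
  | insert x s hx ih =>
    rw [Finset.prod_insert hx, Finset.sum_insert hx, Finset.prod_insert hx, ih,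
      monomial_mul_monomial]

/-- the generators `g s T^(W s)` of the Rees algebra -/
def reesGen (s : σ) : rees h := reesMon h (W s) (g s) (hg s)

/-- the map from the polynomial ring to the Rees algebra -/
def reesPhi : MvPolynomial σ K →ₐ[K] rees h := MvPolynomial.aeval (reesGen h W g hg)

theorem reesPhi_X (s : σ) : reesPhi h W g hg (MvPolynomial.X s) = reesGen h W g hg s := by
  unfold reesPhi
  rw [MvPolynomial.aeval_X]

theorem coe_reesPhi_monomial (t : σ →₀ ℕ) :
    ((reesPhi h W g hg (MvPolynomial.monomial t 1) : rees h) : A[X]) =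
      monomial (Finsupp.weight W t) (t.prod fun s k => g s ^ k) := by
  unfold reesPhi
  rw [MvPolynomial.aeval_monomial, map_one, one_mul, Finsupp.prod, SubmonoidClass.coe_finsetProd,
    Finsupp.weight_apply, Finsupp.sum, Finsupp.prod, ← prod_monomial']
  refine Finset.prod_congr rfl (fun s _ => ?_)
  rw [SubmonoidClass.coe_pow]
  show (monomial (W s) (g s) : A[X]) ^ t s = _
  rw [monomial_pow, smul_eq_mul, mul_comm]

theorem coe_reesPhi_X_mul_X (a b : σ) :
    ((reesPhi h W g hg (MvPolynomial.X a * MvPolynomial.X b) : rees h) : A[X]) =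
      monomial (W a + W b) (g a * g b) := by
  rw [map_mul, reesPhi_X, reesPhi_X]
  show (monomial (W a) (g a) : A[X]) * monomial (W b) (g b) = _
  rw [monomial_mul_monomial]

theorem mem_reesT_of_coe_eq (r : rees h) (N : ℕ) (x : A) (hx : x ∈ filtLt e ω N)
    (hr : (r : A[X]) = monomial N x) : r ∈ reesT h := by
  have : r = reesMon h N x (filtLt_le_filt e ω N hx) := Subtype.ext hr
  rw [this]
  exact reesMon_mem_reesT h N x hx

theorem reesZeroFibre (Q : Ideal (MvPolynomial σ K)) (gens : Set (MvPolynomial σ K))
    (hQ : Q = Ideal.span gens)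
    (hkill : ∀ q ∈ gens, reesPhi h W g hg q ∈ reesT h)
    (mon : ι → σ →₀ ℕ) (hmon : ∀ c, (mon c).prod (fun s k => g s ^ k) = e c)
    (hω : ∀ c, Finsupp.weight W (mon c) = ω c)
    (hspan : Submodule.span K (Set.range fun c =>
      Ideal.Quotient.mk Q (MvPolynomial.monomial (mon c) (1 : K))) = ⊤) :
    Nonempty ((rees h ⧸ Ideal.span {algebraMap K[X] (rees h) X}) ≃ₐ[K] (MvPolynomial σ K ⧸ Q)) := by
  set Ψ₀ : MvPolynomial σ K →ₐ[K] (rees h ⧸ reesT h) :=
    (Ideal.Quotient.mkₐ K (reesT h)).comp (reesPhi h W g hg) with hΨ₀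
  have hker : ∀ a ∈ Q, Ψ₀ a = 0 := by
    intro a ha
    have hle : Q ≤ RingHom.ker Ψ₀.toRingHom := by
      rw [hQ, Ideal.span_le]
      intro q hq
      rw [SetLike.mem_coe, RingHom.mem_ker]
      show Ideal.Quotient.mk (reesT h) (reesPhi h W g hg q) = 0
      rw [Ideal.Quotient.eq_zero_iff_mem]
      exact hkill q hq
    exact (RingHom.mem_ker).mp (hle ha)
  set Ψ : (MvPolynomial σ K ⧸ Q) →ₐ[K] (rees h ⧸ reesT h) := Ideal.Quotient.liftₐ Q Ψ₀ hker with hΨ
  have hΨs : ∀ c, Ψ (Ideal.Quotient.mk Q (MvPolynomial.monomial (mon c) (1 : K))) =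
      Ideal.Quotient.mk (reesT h) (reesVec h c) := by
    intro c
    rw [hΨ]
    show Ideal.Quotient.liftₐ Q Ψ₀ hker (Ideal.Quotient.mkₐ K Q _) = _
    rw [Ideal.Quotient.liftₐ_apply, Ideal.Quotient.mkₐ_eq_mk]
    show Ideal.Quotient.mk (reesT h) (reesPhi h W g hg _) = _
    congr 1
    apply Subtype.ext
    rw [coe_reesPhi_monomial, hmon, hω]
    rfl
  have hbij : Function.Bijective Ψ := by
    have := bijective_of_span_of_linearIndependent Ψ.toLinearMap
      (fun c => Ideal.Quotient.mk Q (MvPolynomial.monomial (mon c) (1 : K))) hspan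
      (by
        have : (fun c => Ψ.toLinearMap (Ideal.Quotient.mk Q (MvPolynomial.monomial (mon c) (1 : K)))) =
            fun c => Ideal.Quotient.mk (reesT h) (reesVec h c) := funext hΨs
        rw [this]
        exact linearIndependent_mk_reesVec h)
      (by
        have : (fun c => Ψ.toLinearMap (Ideal.Quotient.mk Q (MvPolynomial.monomial (mon c) (1 : K)))) =
            fun c => Ideal.Quotient.mk (reesT h) (reesVec h c) := funext hΨs
        rw [this]
        exact span_mk_reesVec h)
    exact this
  exact ⟨(AlgEquiv.ofBijective Ψ hbij).symm⟩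

end Zero

end Groth.Agent.Lib.H5b

end
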