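import Groth.Agent.Lib.H5bStdBasis

/-!
# The degeneration of `S/J(w)` to the Stanley–Reisner ring (helper5)

Straightening with control of the potential `Σ 2^wt`, the weight `2^(dn) - 2^wt` on the indices,
and the resulting flat family.
-/

set_option autoImplicit false

universe u

noncomputable section

open MvPolynomial W4bk4grassmannian

namespace Groth.Agent.Lib.H5b

open Helper24Grass

variable (K : Type u) [Field K] {d n : ℕ}

/-- the class of a polynomial modulo the shuffle relations -/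
abbrev mkTop : PlRing K d n →+* (PlRing K d n ⧸ plIdealTop (d := d) (n := n) K) :=
  Ideal.Quotient.mk (plIdealTop (d := d) (n := n) K)

/-- span of the standard monomials of degree `m` and potential at least `p` -/
def StdP (m p : ℕ) : Submodule K (PlRing K d n ⧸ plIdealTop (d := d) (n := n) K) :=
  Submodule.span K {x | ∃ c : Fin m → Idx d n, Antitone c ∧ p ≤ pot c ∧ x = mkTop K (chainMon K c)}

theorem StdP_anti {m p p' : ℕ} (h : p ≤ p') : StdP K (d := d) (n := n) m p' ≤ StdP K m p := by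
  apply Submodule.span_mono
  rintro x ⟨c, hc, hp, rfl⟩
  exact ⟨c, hc, le_trans h hp, rfl⟩

/-- the rewriting step, for an arbitrary submodule -/
theorem step' {m : ℕ} (M : Submodule K (PlRing K d n ⧸ plIdealTop (d := d) (n := n) K))
    (c : Fin m → Idx d n) (k₁ k₂ : Fin m) (hk : k₁ ≠ k₂)
    (r : Fin d) (hp : IsPivot (c k₁) (c k₂) r) (hw : wt (c k₂).1 ≤ wt (c k₁).1)
    (ih : ∀ c' : Fin m → Idx d n, pot c < pot c' → mkTop K (chainMon K c') ∈ M) :
    mkTop K (chainMon K c) ∈ M := by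
  set I := plIdealTop (d := d) (n := n) K with hI
  set rest : PlRing K d n := ∏ k ∈ (Finset.univ.erase k₁).erase k₂, (X (c k) : PlRing K d n) with hrest
  have hrel : shuffleRel K (c k₁) (c k₂) r ∈ I :=
    Ideal.subset_span ⟨c k₁, c k₂, r, hp, rfl⟩
  obtain ⟨k0, h0⟩ := shuffleTerm_A0 K (c k₁) (c k₂) r
  have hsum : shuffleRel K (c k₁) (c k₂) r =
      shuffleTerm K (c k₁) (c k₂) r (A0 r) +
        ∑ A ∈ Finset.univ.erase (A0 r), shuffleTerm K (c k₁) (c k₂) r A := by
    unfold shuffleRel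
    rw [Finset.add_sum_erase _ _ (Finset.mem_univ _)]
  have e1 : chainMon K c = ((-1 : K) ^ k0) • (shuffleRel K (c k₁) (c k₂) r * rest) -
      ((-1 : K) ^ k0) • ∑ A ∈ Finset.univ.erase (A0 r), shuffleTerm K (c k₁) (c k₂) r A * rest := by
    rw [chainMon_split K c k₁ k₂ hk, hsum, h0, add_mul, smul_add, ← Finset.sum_mul,
      add_sub_cancel_right, smul_mul_assoc, neg_one_pow_smul_smul]
  rw [e1, map_sub]
  refine Submodule.sub_mem _ ?_ ?_
  · have : Ideal.Quotient.mk I (((-1 : K) ^ k0) • (shuffleRel K (c k₁) (c k₂) r * rest)) = 0 := by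
      rw [Ideal.Quotient.eq_zero_iff_mem]
      exact Submodule.smul_of_tower_mem _ _ (I.mul_mem_right _ hrel)
    rw [this]; exact Submodule.zero_mem _
  · have hsm : ∀ (a : K) (p : PlRing K d n), Ideal.Quotient.mk I (a • p) = a • Ideal.Quotient.mk I p := by
      intro a p
      exact map_smul (Ideal.Quotient.mkₐ K I) a p
    rw [hsm]
    refine Submodule.smul_mem _ _ ?_
    rw [map_sum]
    refine Submodule.sum_mem _ (fun A hA => ?_)
    have hne : A ≠ A0 r := Finset.ne_of_mem_erase hA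
    rcases shuffleTerm_cases K (c k₁) (c k₂) r hp.2 A hne with h | ⟨i', j', k, hwt, h⟩
    · rw [h, zero_mul, map_zero]; exact Submodule.zero_mem _
    · rw [h, smul_mul_assoc, hsm, ← chainMon_repl K c k₁ k₂ hk i' j']
      refine Submodule.smul_mem _ _ (ih _ ?_)
      exact pot_repl_gt c k₁ k₂ hk i' j' hwt hw

/-- straightening with control of the potential -/
theorem mk_chainMon_mem_stdP {m : ℕ} (c : Fin m → Idx d n) :
    mkTop K (chainMon K c) ∈ StdP K m (pot c) ∧
      ((¬ ∀ k₁ k₂, c k₁ ≤ c k₂ ∨ c k₂ ≤ c k₁) → mkTop K (chainMon K c) ∈ StdP K m (pot c + 1)) := by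
  induction' hN : m * 2 ^ (d * n) - pot c using Nat.strong_induction_on with N ih generalizing c
  by_cases hc : ∀ k₁ k₂, c k₁ ≤ c k₂ ∨ c k₂ ≤ c k₁
  · refine ⟨?_, fun h => absurd hc h⟩
    obtain ⟨σ, hσ⟩ := sortable c hc
    have h1 : chainMon K c = chainMon K (c ∘ σ) := by
      unfold chainMon
      exact (Equiv.prod_comp σ (fun k => (X (c k) : PlRing K d n))).symm
    have h2 : pot (c ∘ σ) = pot c := by
      unfold pot
      exact Equiv.sum_comp σ (fun k => 2 ^ wt (c k).1)
    rw [h1]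
    exact Submodule.subset_span ⟨c ∘ σ, hσ, h2.ge, rfl⟩
  · have key : mkTop K (chainMon K c) ∈ StdP K m (pot c + 1) := by
      push Not at hc
      obtain ⟨k₁, k₂, h1, h2⟩ := hc
      have hk : k₁ ≠ k₂ := by
        rintro rfl; exact h1 (le_refl _)
      have ih' : ∀ c' : Fin m → Idx d n, pot c < pot c' →
          mkTop K (chainMon K c') ∈ StdP K m (pot c + 1) := by
        intro c' hc'
        have := pot_le c'
        exact StdP_anti K (by omega) (ih (m * 2 ^ (d * n) - pot c') (by omega) c' rfl).1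
      rcases le_total (wt (c k₂).1) (wt (c k₁).1) with hw | hw
      · obtain ⟨r, hr⟩ := exists_pivot (c k₁) (c k₂) h2
        exact step' K _ c k₁ k₂ hk r hr hw ih'
      · obtain ⟨r, hr⟩ := exists_pivot (c k₂) (c k₁) h1
        exact step' K _ c k₂ k₁ hk.symm r hr hw ih'
    exact ⟨StdP_anti K (Nat.le_succ _) key, fun _ => key⟩

/-! ### The Stanley–Reisner weight -/

/-- the weight `2^(dn) - 2^wt` -/
def srV : Idx d n → ℕ := fun θ => 2 ^ (d * n) - 2 ^ wt θ.1

theorem tupWt_srV {m : ℕ} (c : Fin m → Idx d n) : tupWt srV c = m * 2 ^ (d * n) - pot c := by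
  unfold tupWt srV pot
  rw [Finset.sum_tsub_distrib _ (fun j _ => Nat.pow_le_pow_right (by norm_num) (wt_le _))]
  simp

section

variable [Infinite K] (hd : 0 < d) (w : Idx d n)

/-- passing from `S/(shuffle relations)` to `S/J(w)` -/
def toW : (PlRing K d n ⧸ plIdealTop (d := d) (n := n) K) →ₐ[K] SchubertRing K w :=
  Ideal.Quotient.factorₐ K (plIdealTop_le_schubertVanishing K w)

omit [Infinite K] in
theorem toW_mkTop (f : PlRing K d n) : toW K w (mkTop K f) = mkW K w f := rfl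

theorem mkW_chainMon_cases {m : ℕ} (c : Fin m → Idx d n) (hc : Antitone c) :
    mkW K w (chainMon K c) = 0 ∨
      ∃ c' : WChain w, mkW K w (chainMon K c) = stdBasis K hd w c' ∧
        chWt srV c' = m * 2 ^ (d * n) - pot c := by
  by_cases hle : ∀ j, c j ≤ w
  · right
    refine ⟨⟨⟨m, ⟨c, hc⟩⟩, hle⟩, ?_, ?_⟩
    · rw [stdBasis_apply]
    · unfold chWt
      exact tupWt_srV c
  · left
    push Not at hle
    obtain ⟨j, hj⟩ := hle
    rw [Ideal.Quotient.eq_zero_iff_mem]
    exact chainMon_mem_schubertVanishing K w c j hj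

theorem map_stdP_le (m p : ℕ) :
    (StdP K (d := d) (n := n) m p).map (toW K w).toLinearMap ≤
      filt (stdBasis K hd w) (chWt srV) (m * 2 ^ (d * n) - p) := by
  unfold StdP
  rw [Submodule.map_span]
  apply Submodule.span_le.2
  rintro _ ⟨_, ⟨c, hc, hp, rfl⟩, rfl⟩
  show toW K w (mkTop K (chainMon K c)) ∈ _
  rw [toW_mkTop]
  rcases mkW_chainMon_cases K hd w c hc with h0 | ⟨c', h1, h2⟩
  · rw [h0]; exact Submodule.zero_mem _
  · rw [h1]
    apply Submodule.subset_span
    refine ⟨c', ?_, rfl⟩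
    show chWt srV c' ≤ _
    rw [h2]
    omega

theorem map_stdP_succ_le (m p : ℕ) :
    (StdP K (d := d) (n := n) m (p + 1)).map (toW K w).toLinearMap ≤
      filtLt (stdBasis K hd w) (chWt srV) (m * 2 ^ (d * n) - p) := by
  unfold StdP
  rw [Submodule.map_span]
  apply Submodule.span_le.2
  rintro _ ⟨_, ⟨c, hc, hp, rfl⟩, rfl⟩
  show toW K w (mkTop K (chainMon K c)) ∈ _
  rw [toW_mkTop]
  rcases mkW_chainMon_cases K hd w c hc with h0 | ⟨c', h1, h2⟩
  · rw [h0]; exact Submodule.zero_mem _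
  · rw [h1]
    apply Submodule.subset_span
    refine ⟨c', ?_, rfl⟩
    show chWt srV c' < _
    rw [h2]
    have := pot_le c
    omega

theorem sr_tup {m : ℕ} (c : Fin m → Idx d n) :
    mkW K w (chainMon K c) ∈ filt (stdBasis K hd w) (chWt srV) (tupWt srV c) := by
  rw [tupWt_srV]
  apply map_stdP_le K hd w m (pot c)
  exact ⟨mkTop K (chainMon K c), (mk_chainMon_mem_stdP K c).1, rfl⟩

theorem sr_filtHyp : FiltHyp (stdBasis K hd w) (chWt srV) :=
  filtHyp_of_tup K hd w srV (fun _ c _ => sr_tup K hd w c)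

theorem sr_rel_mem (a b : Idx d n) (h1 : ¬ a ≤ b) (h2 : ¬ b ≤ a) :
    mkW K w (X a * X b) ∈ filtLt (stdBasis K hd w) (chWt srV) (srV a + srV b) := by
  have hc : chainMon K ![a, b] = X a * X b := by
    unfold chainMon
    rw [Fin.prod_univ_two]
    rfl
  have hwt : tupWt srV ![a, b] = srV a + srV b := by
    unfold tupWt
    rw [Fin.sum_univ_two]
    rfl
  have hnc : ¬ ∀ k₁ k₂ : Fin 2, ![a, b] k₁ ≤ ![a, b] k₂ ∨ ![a, b] k₂ ≤ ![a, b] k₁ := by
    intro hh
    rcases hh 0 1 with h | h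
    · exact h1 h
    · exact h2 h
  rw [← hc, ← hwt, tupWt_srV]
  apply map_stdP_succ_le K hd w 2 (pot ![a, b])
  exact ⟨mkTop K (chainMon K ![a, b]), (mk_chainMon_mem_stdP K ![a, b]).2 hnc, rfl⟩

end

/-! ### Chain monomials span the Stanley–Reisner ring -/

theorem sr_bmon_mem (w : Idx d n) {m : ℕ} (c : Fin m → Idx d n) (hc : ∀ j, c j ≤ w) :
    Ideal.Quotient.mk (srIdeal K w) (bmon K c hc) ∈ spanStd K (srIdeal K w) := by
  by_cases hcomp : ∀ k₁ k₂, c k₁ ≤ c k₂ ∨ c k₂ ≤ c k₁
  · exact mk_bmon_mem_of_chain K _ c hc hcomp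
  · push Not at hcomp
    obtain ⟨k₁, k₂, h1, h2⟩ := hcomp
    have hk : k₁ ≠ k₂ := by
      rintro rfl; exact h1 (le_refl _)
    have hmem : bmon K c hc ∈ srIdeal K w := by
      unfold bmon
      rw [prod_split _ k₁ k₂ hk]
      apply Ideal.mul_mem_right
      exact Ideal.subset_span ⟨⟨c k₁, hc k₁⟩, ⟨c k₂, hc k₂⟩, h1, h2, rfl⟩
    rw [Ideal.Quotient.eq_zero_iff_mem.mpr hmem]
    exact Submodule.zero_mem _

theorem sr_spanStd (w : Idx d n) : spanStd K (srIdeal K w) = ⊤ :=
  spanStd_eq_top K _ (fun _ c hc => sr_bmon_mem K w c hc)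

/-! ### The degeneration -/

section Main

attribute [local instance] Polynomial.algebra

variable [Infinite K] (w : Idx d n)

theorem sr_kill (hd : 0 < d) (q : MvPolynomial (Below w) K)
    (hq : q ∈ {f | ∃ a b : Below w, ¬ a ≤ b ∧ ¬ b ≤ a ∧ f = X a * X b}) :
    reesPhi (sr_filtHyp K hd w) (fun θ : Below w => srV θ.1) (gB K w)
      (gB_mem_filt K hd w srV) q ∈ reesT (sr_filtHyp K hd w) := by
  obtain ⟨a, b, h1, h2, rfl⟩ := hq
  apply mem_reesT_of_coe_eq _ _ (srV a.1 + srV b.1) _ (sr_rel_mem K hd w a.1 b.1 h1 h2)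
  rw [coe_reesPhi_X_mul_X]
  congr 1

theorem sr_main (hd : 0 < d) :
    ∃ (R : Type u) (_ : CommRing R) (_ : Algebra K R) (_ : Algebra (Polynomial K) R)
      (_ : IsScalarTower K (Polynomial K) R),
      Module.Free (Polynomial K) R ∧
      Nonempty ((R ⧸ Ideal.span {algebraMap (Polynomial K) R Polynomial.X}) ≃ₐ[K]
        (MvPolynomial (Below w) K ⧸ srIdeal K w)) ∧
      ∀ c : K, c ≠ 0 →
        Nonempty ((R ⧸ Ideal.span {algebraMap (Polynomial K) R (Polynomial.X - Polynomial.C c)}) ≃ₐ[K]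
          (PlRing K d n ⧸ schubertVanishing K d n w)) := by
  refine ⟨rees (sr_filtHyp K hd w), inferInstance, inferInstance, inferInstance, inferInstance,
    free_rees _, ?_, fun c hc => ⟨reesFibre (sr_filtHyp K hd w) c hc⟩⟩
  exact reesZeroFibre (sr_filtHyp K hd w) (fun θ : Below w => srV θ.1) (gB K w)
    (gB_mem_filt K hd w srV) (srIdeal K w) _ rfl (sr_kill K w hd) chMon
    (prod_chMon K hd w) (weight_chMon w srV) (sr_spanStd K w)

end Main

end Groth.Agent.Lib.H5b

end
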