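import Mathlib
import Groth.Agent.Lib.H5bSchIm
import Groth.Agent.S10176
import Groth.Agent.S10177

/-!
# Scheme theoretic image of a quasi-compact morphism: density of the image (helper5)
-/

set_option autoImplicit false
set_option linter.style.haveILetI false

universe u
open CategoryTheory CategoryTheory.Limits AlgebraicGeometry Opposite

namespace Groth.Agent.Lib.H5bSchIm

open Groth.Agent.S13210 Groth.Agent.Lib.H5bKerId Groth.Agent.Lib.H5bClosedSub
  Groth.Agent.Lib.H5bIdealDesc

variable {S : Scheme.{u}}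

/-- the image of a quasi-compact morphism is dense in its scheme theoretic image. -/
theorem range_subset_closure {F Y Z : AlgSp.Sp S} (hY : AlgSp.IsAlgSpace Y)
    (hZ : AlgSp.IsAlgSpace Z) {f : F ⟶ Y} (hf : AlgSp.IsQuasiCompactMor f) {i : Z ⟶ Y}
    (hi : AlgSp.IsSchImage f i) :
    Set.range (AlgSp.Points.map i) ⊆ closure (Set.range (AlgSp.Points.map f)) := by
  rintro _ ⟨z, rfl⟩
  obtain ⟨U, q, hqe, hqs⟩ := hY.atlas
  obtain ⟨UZ, pZ, hpZe, hpZs⟩ := hZ.atlas
  obtain ⟨uZ, rfl⟩ := Groth.Agent.S10177.surjective_ofPt pZ hpZs z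
  rw [AlgSp.Points.map_ofPt, mem_closure_iff]
  intro O hO hyO
  by_contra hne
  have hdisj : ∀ y, y ∈ O → y ∉ Set.range (AlgSp.Points.map f) := by
    intro y hy hyr
    exact hne ⟨y, hy, hyr⟩
  obtain ⟨u, hu⟩ := Groth.Agent.S10177.surjective_ofPt q hqs (AlgSp.Points.ofPt (pZ ≫ i) uZ)
  obtain ⟨W, w, b', sq⟩ := hqe.1 (pZ ≫ i)
  obtain ⟨b, rfl⟩ := (AlgSp.yon S).map_surjective b'
  obtain ⟨y', hy'1, hy'2⟩ := Groth.Agent.S10176.exists_point_of_isPullback_yon sq u uZ hu
  -- `u` lies in the support of the kernel ideal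
  have hmem : Zmem q (Kc f q) (((AlgSp.yon S).map w ≫ pZ) ≫ i) :=
    (factor_iff_of_isSchImage hY hqe hqs hf hZ hi _).1 ⟨_, rfl⟩
  have hKb : Kc f q ≤ b.left.ker := hmem W (𝟙 W) b (by
    rw [CategoryTheory.Functor.map_id, Category.id_comp, Category.assoc, sq.w])
  have husupp : u ∈ ((Kc f q).support : Set U.left) := by
    have h1 : u ∈ (b.left.ker.support : Set U.left) :=
      Scheme.Hom.range_subset_ker_support b.left ⟨y', hy'1⟩
    exact Scheme.IdealSheafData.support_antitone hKb h1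
  -- but the open preimage of `O` misses the support
  let OU : U.left.Opens := ⟨AlgSp.Points.ofPt q ⁻¹' O, hO.preimage (AlgSp.Points.continuous_ofPt q)⟩
  have hd := disjoint_support_of_forall_isEmpty (qcOver_of_isQuasiCompactMor hf (q := q)) OU (by
    intro W' x a hx w' hw'
    have h1 : AlgSp.Points.ofPt q (a.left w') ∈ O := hw'
    rw [← Groth.Agent.S10176.ofPt_map_comp, ← hx, Category.assoc, ← pullback.condition,
      ← Category.assoc, ← AlgSp.Points.map_ofPt] at h1
    exact hdisj _ h1 ⟨_, rfl⟩)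
  exact Set.disjoint_left.1 hd husupp (show AlgSp.Points.ofPt q u ∈ O by rw [hu]; exact hyO)

end Groth.Agent.Lib.H5bSchIm
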