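import Mathlib
import Groth.Agent.Lib.H5bSchIm2
import Groth.Agent.Lib.Helper12OpenSub
import Groth.Agent.S9912

/-!
# A quasi-compact immersion of algebraic spaces is an open immersion into its scheme theoretic image
(helper5)
-/

set_option autoImplicit false
set_option linter.style.haveILetI false

universe u
open CategoryTheory CategoryTheory.Limits AlgebraicGeometry Opposite

namespace Groth.Agent.Lib.H5bSchIm

open Groth.Agent.S13210 Groth.Agent.Lib.H5bKerId Groth.Agent.Lib.H5bClosedSub
  Groth.Agent.Lib.H5bIdealDesc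

variable {S : Scheme.{u}}

section Imm

variable {Z X : AlgSp.Sp S} (h : Z ⟶ X) {U : Over S} (q : (AlgSp.yon S).obj U ⟶ X)

/-- the kernel ideal of a representable morphism on a chart is the kernel of the represented
base change. -/
theorem Kc_eq_ker_of_isPullback {ZU : Over S} {jU : ZU ⟶ U} {prZ : (AlgSp.yon S).obj ZU ⟶ Z}
    (sqZ : IsPullback prZ ((AlgSp.yon S).map jU) h q) : Kc h q = jU.left.ker := by
  apply le_antisymm
  · exact Kc_le h q prZ jU sqZ.w
  · rw [le_Kc_iff]
    intro W x b hx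
    obtain ⟨c, hc⟩ := (AlgSp.yon S).map_surjective (sqZ.lift x ((AlgSp.yon S).map b) hx)
    have hc2 : c ≫ jU = b := (AlgSp.yon S).map_injective (by
      rw [CategoryTheory.Functor.map_comp, hc, sqZ.lift_snd])
    have hc2' : c.left ≫ jU.left = b.left := congrArg (fun m => m.left) hc2
    rw [← hc2']
    exact Scheme.Hom.le_ker_comp _ _

end Imm

section Main

variable {Z X : AlgSp.Sp S} {h : Z ⟶ X} {U : Over S} {q : (AlgSp.yon S).obj U ⟶ X} {ZU : Over S}
  {jU : ZU ⟶ U} {prZ : (AlgSp.yon S).obj ZU ⟶ Z}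

/-- `toImage` of the chart of the immersion, as a morphism over `S`. -/
noncomputable def tI (jU : ZU ⟶ U) : ZU ⟶ VI jU.left.ker :=
  Over.homMk jU.left.toImage (by
    change jU.left.toImage ≫ jU.left.ker.subschemeι ≫ U.hom = ZU.hom
    rw [← Category.assoc, Scheme.Hom.toImage_imageι, Over.w jU])

lemma tI_ιo (jU : ZU ⟶ U) : tI jU ≫ ιo jU.left.ker = jU :=
  Over.OverMorphism.ext (Scheme.Hom.toImage_imageι _)

/-- the chart of the immersion is the base change of the map to the closed subspace of the kernel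
ideal along the chart of that subspace. -/
theorem isPullback_toImage (sqZ : IsPullback prZ ((AlgSp.yon S).map jU) h q)
    {h'' : Z ⟶ Zsh q jU.left.ker} (hh'' : h'' ≫ incl q jU.left.ker = h)
    {fstK : (AlgSp.yon S).obj (VI jU.left.ker) ⟶ Zsh q jU.left.ker}
    (sqK : IsPullback fstK ((AlgSp.yon S).map (ιo jU.left.ker)) (incl q jU.left.ker) q) :
    IsPullback prZ ((AlgSp.yon S).map (tI jU)) h'' fstK := by
  have comm : prZ ≫ h'' = (AlgSp.yon S).map (tI jU) ≫ fstK := by
    rw [← cancel_mono (incl q jU.left.ker), Category.assoc, hh'', sqZ.w, Category.assoc, sqK.w,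
      ← Category.assoc, ← CategoryTheory.Functor.map_comp, tI_ιo]
  refine IsPullback.of_bot ?_ comm sqK
  rw [← CategoryTheory.Functor.map_comp, tI_ιo, hh'']
  exact sqZ

/-- a quasi-compact immersion is an open immersion into the closed subspace of its kernel ideal. -/
theorem repWith_isOpenImmersion_of_chart [Mono h] (hqe : AlgSp.RepWith @Etale q)
    (hqs : AlgSp.RepWith @Surjective q) [IsImmersion jU.left] [QuasiCompact jU.left]
    (sqZ : IsPullback prZ ((AlgSp.yon S).map jU) h q) (hinv : Invariant q jU.left.ker)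
    {h'' : Z ⟶ Zsh q jU.left.ker} (hh'' : h'' ≫ incl q jU.left.ker = h) :
    AlgSp.RepWith @IsOpenImmersion h'' := by
  obtain ⟨fstK, sqK⟩ := exists_chart_isPullback hqe hqs hinv
  have PB := isPullback_toImage sqZ hh'' sqK
  have hfe : AlgSp.RepWith @Etale fstK :=
    MorphismProperty.of_isPullback (P := AlgSp.RepWith @Etale) sqK.flip hqe
  have hfs : AlgSp.RepWith @Surjective fstK :=
    MorphismProperty.of_isPullback (P := AlgSp.RepWith @Surjective) sqK.flip hqs
  haveI : Mono (h'' ≫ incl q jU.left.ker) := by rw [hh'']; infer_instance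
  haveI : Mono h'' := mono_of_mono h'' (incl q jU.left.ker)
  haveI : IsOpenImmersion (tI jU).left := inferInstanceAs (IsOpenImmersion jU.left.toImage)
  let W : Set (AlgSp.Points (Zsh q jU.left.ker)) := Set.range (AlgSp.Points.map h'')
  -- points of the chart over the image lie in the open subscheme
  have key : ∀ k : (VI jU.left.ker).left, AlgSp.Points.ofPt fstK k ∈ W →
      k ∈ Set.range (tI jU).left := by
    rintro k ⟨z, hz⟩
    rw [AlgSp.Points.ofPt_eq_map_ofScheme] at hz
    obtain ⟨p, -, hp2⟩ := Groth.Agent.S10175.exists_point_of_isPullback PB z _ hz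
    obtain ⟨y, rfl⟩ := (AlgSp.Points.schemeHomeo ZU).surjective p
    refine ⟨y, ?_⟩
    apply (AlgSp.Points.schemeHomeo (VI jU.left.ker)).injective
    rw [← AlgSp.Points.map_yon_map_apply]
    exact hp2
  have hWeq : W = AlgSp.Points.ofPt fstK '' Set.range (tI jU).left := by
    apply Set.Subset.antisymm
    · rintro _ ⟨z, rfl⟩
      obtain ⟨k, hk⟩ := Groth.Agent.S10177.surjective_ofPt fstK hfs (AlgSp.Points.map h'' z)
      exact ⟨k, key k ⟨z, hk.symm⟩, hk⟩
    · rintro _ ⟨_, ⟨y, rfl⟩, rfl⟩
      refine ⟨AlgSp.Points.ofPt prZ y, ?_⟩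
      rw [AlgSp.Points.map_ofPt, PB.w, Groth.Agent.S10176.ofPt_map_comp]
  have hW : IsOpen W := by
    rw [hWeq]
    exact Groth.Agent.S10176.isOpenMap_ofPt fstK hfe _ (tI jU).left.isOpenEmbedding.isOpen_range
  obtain ⟨e, he⟩ := exists_iso_of_points h''
    (Groth.Agent.Lib.Helper12.OpenSub.incl (Zsh q jU.left.ker) W) (by
      intro T ξ
      rw [Groth.Agent.Lib.Helper12.OpenSub.factor_iff]
      constructor
      · rintro ⟨y, rfl⟩ t
        exact ⟨AlgSp.Points.ofPt y t, rfl⟩
      · intro hξ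
        obtain ⟨T', t, v', sqT⟩ := hfe.1 ξ
        obtain ⟨v, rfl⟩ := (AlgSp.yon S).map_surjective v'
        haveI : Etale t.left := hfe.2 ξ _ t sqT
        haveI : Surjective t.left := hfs.2 ξ _ t sqT
        have hrange : Set.range v.left ⊆ Set.range (tI jU).left := by
          rintro _ ⟨t', rfl⟩
          apply key
          rw [← Groth.Agent.S10176.ofPt_map_comp, sqT.w, Groth.Agent.S10176.ofPt_map_comp]
          exact hξ _
        let v₁₀ : T'.left ⟶ ZU.left := IsOpenImmersion.lift (tI jU).left v.left hrange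
        have hv₁₀ : v₁₀ ≫ (tI jU).left = v.left := IsOpenImmersion.lift_fac _ _ _
        let v₁ : T' ⟶ ZU := Over.homMk v₁₀ (by
          rw [← Over.w (tI jU), ← Category.assoc, hv₁₀, Over.w v])
        have hv₁ : v₁ ≫ tI jU = v := Over.OverMorphism.ext hv₁₀
        refine exists_lift_of_cover h'' t ξ ((AlgSp.yon S).map v₁ ≫ prZ) ?_
        rw [Category.assoc, PB.w, ← Category.assoc, ← CategoryTheory.Functor.map_comp, hv₁, sqT.w])
  rw [← he]
  exact (MorphismProperty.cancel_left_of_respectsIso (AlgSp.RepWith @IsOpenImmersion) e.hom _).2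
    (Groth.Agent.Lib.Helper12.OpenSub.repWith_incl hW)

end Main

section Abstract

/-- a quasi-compact immersion of algebraic spaces is an open immersion into its scheme theoretic
image. -/
theorem repWith_isOpenImmersion_toSchImage {Z X Zbar : AlgSp.Sp S} (hX : AlgSp.IsAlgSpace X)
    (hZ : AlgSp.IsAlgSpace Z) (hZbar : AlgSp.IsAlgSpace Zbar) (h : Z ⟶ X)
    (hh : AlgSp.RepWith @IsImmersion h) (hq : AlgSp.IsQuasiCompactMor h) (c : Zbar ⟶ X)
    (hc : AlgSp.IsSchImage h c) (h' : Z ⟶ Zbar) (fac : h' ≫ c = h) :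
    AlgSp.RepWith @IsOpenImmersion h' := by
  obtain ⟨U, q, hqe, hqs⟩ := hX.atlas
  obtain ⟨ZU, jU, prZ, sqZ⟩ := hh.1 q
  haveI : IsImmersion jU.left := hh.2 q _ jU sqZ
  haveI : QuasiCompact jU.left := by
    let Z' : AlgSp.Space S := ⟨Z, hZ⟩
    let X' : AlgSp.Space S := ⟨X, hX⟩
    let g : Z' ⟶ X' := ObjectProperty.homMk h
    have h1 : AlgSp.RepWith @QuasiCompact h := (Groth.Agent.S9912.result g hh.rep).2 hq
    exact h1.2 q _ jU sqZ
  haveI : Mono h := Groth.Agent.S9928.mono_of_repWith @IsImmersion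
    (fun X Y g hg => by haveI : IsImmersion g := hg; infer_instance) _ hh
  have hKeq := Kc_eq_ker_of_isPullback h q sqZ
  have hinv : Invariant q jU.left.ker := by
    rw [← hKeq]
    exact invariant_Kc hqe (qcOver_of_isQuasiCompactMor hq)
  have hsch : AlgSp.IsSchImage h (incl q jU.left.ker) := by
    rw [← hKeq]
    exact isSchImage_incl hqe hqs hq
  have hZsh : AlgSp.IsAlgSpace (Zsh q jU.left.ker) :=
    Groth.Agent.S10129.isAlgSpace_of_representable hX (incl q jU.left.ker) hsch.1.rep
  obtain ⟨e, he⟩ := exists_iso_of_isSchImage hZbar hZsh hc hsch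
  have h1 : AlgSp.RepWith @IsOpenImmersion (h' ≫ e.hom) :=
    repWith_isOpenImmersion_of_chart hqe hqs sqZ hinv (by rw [Category.assoc, he, fac])
  exact (MorphismProperty.cancel_right_of_respectsIso (AlgSp.RepWith @IsOpenImmersion) h' e.hom).1 h1

end Abstract

end Groth.Agent.Lib.H5bSchIm
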