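import Mathlib
import Groth.Prelude.Def_CInt
import Groth.Agent.Lib.Helper11RedCl
import Groth.Agent.Lib.H5bSchImImm
import Groth.Agent.Lib.Helper12Reduced
import Groth.Agent.S10192
import Groth.Agent.S9908

/-!
# Immersions of algebraic spaces are scheme theoretically dense open immersions into their scheme
theoretic image (helper5)
-/

set_option autoImplicit false
set_option linter.style.haveILetI false

universe u
open CategoryTheory CategoryTheory.Limits AlgebraicGeometry Opposite TopologicalSpace

namespace Groth.Agent.Lib.H5bSchDense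

/-- a dominant immersion into a reduced scheme is an open immersion. -/
theorem isOpenImmersion_of_isDominant {A V : Scheme.{u}} (g : A ⟶ V) [IsImmersion g]
    [IsDominant g] [IsReduced V] : IsOpenImmersion g := by
  haveI : Surjective g.liftCoborder := by
    constructor
    rw [← Set.range_eq_univ, ← g.liftCoborder.isClosedEmbedding.isClosed_range.closure_eq,
      g.coborderRange.ι.isEmbedding.closure_eq_preimage_closure_image, ← Set.range_comp]
    have h1 : (g.coborderRange.ι : _ → _) ∘ (g.liftCoborder : _ → _) = g := by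
      funext a
      rw [Function.comp_apply, ← Scheme.Hom.comp_apply, g.liftCoborder_ι]
    rw [h1, g.denseRange.closure_eq, Set.preimage_univ]
  haveI : IsIso g.liftCoborder := isIso_of_isClosedImmersion_of_surjective g.liftCoborder
  rw [← g.liftCoborder_ι]
  infer_instance

lemma isReduced_subscheme_of_eq {X : Scheme.{u}} (I : X.IdealSheafData) (C : Closeds X)
    (h : I = Scheme.IdealSheafData.vanishingIdeal C) : IsReduced I.subscheme := by
  subst h
  exact Groth.Agent.Lib.Helper11RedCl.isReduced_subscheme_vanishingIdeal C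

/-- the image of a morphism from a reduced scheme is reduced. -/
instance isReduced_image {A B : Scheme.{u}} (f : A ⟶ B) [IsReduced A] : IsReduced f.image :=
  isReduced_subscheme_of_eq f.ker _ (Groth.Agent.Lib.Helper11RedCl.ker_eq_of_isReduced f)

lemma support_ker_of_isReduced {A B : Scheme.{u}} (f : A ⟶ B) [IsReduced A] :
    (f.ker.support : Set B) = closure (Set.range f) := by
  rw [Groth.Agent.Lib.Helper11RedCl.ker_eq_of_isReduced f,
    Scheme.IdealSheafData.coe_support_vanishingIdeal]
  rfl

/-- `toImage` of a morphism from a reduced scheme is dominant. -/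
theorem isDominant_toImage_of_isReduced {A B : Scheme.{u}} (f : A ⟶ B) [IsReduced A] :
    IsDominant f.toImage where
  denseRange := by
    rw [denseRange_iff_closure_range, f.imageι.isEmbedding.closure_eq_preimage_closure_image,
      ← Set.univ_subset_iff, ← Set.image_subset_iff, Set.image_univ,
      Scheme.IdealSheafData.range_subschemeι, support_ker_of_isReduced, ← Set.range_comp,
      ← TopCat.coe_comp, ← Scheme.Hom.comp_base, f.toImage_imageι]

/-- an immersion from a reduced scheme is an open immersion into its image. -/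
theorem isOpenImmersion_toImage_of_isReduced {A B : Scheme.{u}} (f : A ⟶ B) [IsImmersion f]
    [IsReduced A] : IsOpenImmersion f.toImage := by
  haveI := isDominant_toImage_of_isReduced f
  exact isOpenImmersion_of_isDominant f.toImage

/-- a dense open of a reduced scheme is scheme theoretically dense. -/
theorem isSchematicallyDense_of_isReduced {V : Scheme.{u}} [IsReduced V] (W : V.Opens)
    (hW : Dense (W : Set V)) : CInt.IsSchematicallyDense W := by
  intro O
  rw [injective_iff_map_eq_zero]
  intro s hs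
  rw [← basicOpen_eq_bot_iff]
  by_contra hne
  obtain ⟨x, hx⟩ : (V.basicOpen s : Set V).Nonempty := by
    rw [Set.nonempty_iff_ne_empty]
    intro h
    exact hne (SetLike.coe_injective h)
  obtain ⟨y, hy1, hy2⟩ := hW.inter_open_nonempty _ (V.basicOpen s).2 ⟨x, hx⟩
  have hyO : y ∈ O := V.basicOpen_le s hy1
  have h1 : V.basicOpen ((V.presheaf.map (homOfLE (inf_le_left : O ⊓ W ≤ O)).op).hom s) =
      (O ⊓ W) ⊓ V.basicOpen s := Scheme.basicOpen_res V s _
  rw [hs, Scheme.basicOpen_zero] at h1
  have : y ∈ ((O ⊓ W) ⊓ V.basicOpen s : V.Opens) := ⟨⟨hyO, hy2⟩, hy1⟩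
  rw [← h1] at this
  exact this

lemma app_eq_zero_of_res {A V : Scheme.{u}} (j : A ⟶ V) [IsOpenImmersion j] (P : V.Opens)
    (t : Γ(V, P))
    (ht : (V.presheaf.map (homOfLE (inf_le_left : P ⊓ j.opensRange ≤ P)).op).hom t = 0) :
    (j.app P).hom t = 0 := by
  have hle : j ⁻¹ᵁ P ≤ j ⁻¹ᵁ (P ⊓ j.opensRange) := fun a ha => ⟨ha, ⟨a, rfl⟩⟩
  have hle' : j ⁻¹ᵁ (P ⊓ j.opensRange) ≤ j ⁻¹ᵁ P := fun a ha => ha.1
  have hnat := j.naturality (homOfLE (inf_le_left : P ⊓ j.opensRange ≤ P)).op
  have h1 : (A.presheaf.map (homOfLE hle').op).hom ((j.app P).hom t) = 0 := by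
    have h2 := congrArg (fun m => m.hom t) hnat
    simp only [CommRingCat.hom_comp, RingHom.comp_apply] at h2
    rw [ht, map_zero] at h2
    exact h2.symm
  have h3 : A.presheaf.map (homOfLE hle').op ≫ A.presheaf.map (homOfLE hle).op = 𝟙 _ := by
    rw [← CategoryTheory.Functor.map_comp]
    exact A.presheaf.map_id _
  have h4 : (A.presheaf.map (homOfLE hle').op ≫ A.presheaf.map (homOfLE hle).op).hom
      ((j.app P).hom t) = 0 := by
    rw [CommRingCat.hom_comp, RingHom.comp_apply, h1, map_zero]
  rw [h3] at h4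
  exact h4

/-- the image of a quasi-compact immersion is scheme theoretically dense in the scheme theoretic
image. -/
theorem isSchematicallyDense_opensRange_toImage {A B : Scheme.{u}} (f : A ⟶ B) [QuasiCompact f]
    [IsOpenImmersion f.toImage] : CInt.IsSchematicallyDense f.toImage.opensRange := by
  intro O
  rw [injective_iff_map_eq_zero]
  intro s hs
  -- check vanishing on the basis of preimages of affine opens
  apply TopCat.Presheaf.section_ext f.image.sheaf O
  intro x hx
  obtain ⟨_, ⟨_, ⟨U, hU, rfl⟩, rfl⟩, hxU, hUO⟩ :=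
    (B.isBasis_affineOpens.of_isInducing f.imageι.isEmbedding.isInducing).exists_subset_of_mem_open
      hx O.2
  let P : f.image.Opens := f.imageι ⁻¹ᵁ U
  have hPO : P ≤ O := hUO
  have hxP : x ∈ P := hxU
  have hzero : (f.image.presheaf.map (homOfLE hPO).op).hom s = 0 := by
    apply f.toImage_app_injective ⟨U, hU⟩
    rw [map_zero]
    apply app_eq_zero_of_res
    have h1 : (f.image.presheaf.map (homOfLE (inf_le_left : P ⊓ f.toImage.opensRange ≤ P)).op).hom
        ((f.image.presheaf.map (homOfLE hPO).op).hom s) =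
        (f.image.presheaf.map (homOfLE (inf_le_inf_right _ hPO :
          P ⊓ f.toImage.opensRange ≤ O ⊓ f.toImage.opensRange)).op).hom
        ((f.image.presheaf.map (homOfLE (inf_le_left : O ⊓ f.toImage.opensRange ≤ O)).op).hom s) := by
      rw [← RingHom.comp_apply, ← RingHom.comp_apply, ← CommRingCat.hom_comp,
        ← CommRingCat.hom_comp, ← CategoryTheory.Functor.map_comp,
        ← CategoryTheory.Functor.map_comp]
      rfl
    rw [h1]
    have hs' : (f.image.presheaf.map (homOfLE (inf_le_left : O ⊓ f.toImage.opensRange ≤ O)).op).hom s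
        = 0 := hs
    rw [hs', map_zero]
  have hg := TopCat.Presheaf.germ_res_apply f.image.presheaf (homOfLE hPO) x hxP s
  change (f.image.presheaf.germ O x hx).hom s = (f.image.presheaf.germ O x hx).hom 0
  rw [map_zero, ← hg]
  have : (f.image.presheaf.map (homOfLE hPO).op) s = 0 := hzero
  rw [this, map_zero]

section Sp

open Groth.Agent.S13210 Groth.Agent.Lib.H5bKerId Groth.Agent.Lib.H5bClosedSub
  Groth.Agent.Lib.H5bIdealDesc Groth.Agent.Lib.H5bSchIm

variable {S : Scheme.{u}}

/-- a scheme étale over a reduced algebraic space is reduced. -/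
theorem isReduced_of_etale {Z : AlgSp.Sp S} (hZ : AlgSp.IsReducedSp Z) {W : Over S}
    (p : (AlgSp.yon S).obj W ⟶ Z) (hp : AlgSp.RepWith @Etale p) : IsReduced W.left := by
  obtain ⟨V, a, hae, has, hV⟩ := hZ
  obtain ⟨T, t, pr', sq⟩ := hae.1 p
  obtain ⟨pr, rfl⟩ := (AlgSp.yon S).map_surjective pr'
  haveI : Etale t.left := hae.2 p _ t sq
  haveI : Surjective t.left := has.2 p _ t sq
  haveI : Etale pr.left := hp.2 a _ pr sq.flip
  haveI : IsReduced V.left := hV
  haveI : IsReduced T.left := Groth.Agent.Lib.Helper12.Reduced.isReduced_of_smooth pr.left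
  exact Groth.Agent.Lib.Helper12.Reduced.isReduced_of_flat_of_surjective t.left

variable {Z X : AlgSp.Sp S} {h : Z ⟶ X} {U : Over S} {q : (AlgSp.yon S).obj U ⟶ X} {ZU : Over S}
  {jU : ZU ⟶ U} {prZ : (AlgSp.yon S).obj ZU ⟶ Z}

/-- an immersion whose chart is an open immersion into its image is an open immersion into the
closed subspace of its kernel ideal. -/
theorem repWith_isOpenImmersion_of_chart' [Mono h] (hqe : AlgSp.RepWith @Etale q)
    (hqs : AlgSp.RepWith @Surjective q) [IsOpenImmersion jU.left.toImage]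
    (sqZ : IsPullback prZ ((AlgSp.yon S).map jU) h q) (hinv : Invariant q jU.left.ker)
    {h'' : Z ⟶ Zsh q jU.left.ker} (hh'' : h'' ≫ incl q jU.left.ker = h) :
    AlgSp.RepWith @IsOpenImmersion h'' := by
  obtain ⟨fstK, sqK⟩ := exists_chart_isPullback hqe hqs hinv
  have PB := isPullback_toImage sqZ hh'' sqK
  have hfe : AlgSp.RepWith @Etale fstK :=
    MorphismProperty.of_isPullback (P := AlgSp.RepWith @Etale) sqK.flip hqe
  have hfs : AlgSp.RepWith @Surjective fstK :=
    MorphismProperty.of_isPullback (P := AlgSp.RepWith @Surjective) sqK.flip hqs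
  haveI : Mono (h'' ≫ incl q jU.left.ker) := by rw [hh'']; infer_instance
  haveI : Mono h'' := mono_of_mono h'' (incl q jU.left.ker)
  haveI : IsOpenImmersion (tI jU).left := inferInstanceAs (IsOpenImmersion jU.left.toImage)
  let W : Set (AlgSp.Points (Zsh q jU.left.ker)) := Set.range (AlgSp.Points.map h'')
  -- points of the chart over the image lie in the open subscheme
  have key : ∀ k : (VI jU.left.ker).left, AlgSp.Points.ofPt fstK k ∈ W →
      k ∈ Set.range (tI jU).left := by
    rintro k ⟨z, hz⟩
    rw [AlgSp.Points.ofPt_eq_map_ofScheme] at hz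
    obtain ⟨p, -, hp2⟩ := Groth.Agent.S10175.exists_point_of_isPullback PB z _ hz
    obtain ⟨y, rfl⟩ := (AlgSp.Points.schemeHomeo ZU).surjective p
    refine ⟨y, ?_⟩
    apply (AlgSp.Points.schemeHomeo (VI jU.left.ker)).injective
    rw [← AlgSp.Points.map_yon_map_apply]
    exact hp2
  have hWeq : W = AlgSp.Points.ofPt fstK '' Set.range (tI jU).left := by
    apply Set.Subset.antisymm
    · rintro _ ⟨z, rfl⟩
      obtain ⟨k, hk⟩ := Groth.Agent.S10177.surjective_ofPt fstK hfs (AlgSp.Points.map h'' z)
      exact ⟨k, key k ⟨z, hk.symm⟩, hk⟩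
    · rintro _ ⟨_, ⟨y, rfl⟩, rfl⟩
      refine ⟨AlgSp.Points.ofPt prZ y, ?_⟩
      rw [AlgSp.Points.map_ofPt, PB.w, Groth.Agent.S10176.ofPt_map_comp]
  have hW : IsOpen W := by
    rw [hWeq]
    exact Groth.Agent.S10176.isOpenMap_ofPt fstK hfe _ (tI jU).left.isOpenEmbedding.isOpen_range
  obtain ⟨e, he⟩ := exists_iso_of_points h''
    (Groth.Agent.Lib.Helper12.OpenSub.incl (Zsh q jU.left.ker) W) (by
      intro T ξ
      rw [Groth.Agent.Lib.Helper12.OpenSub.factor_iff]
      constructor
      · rintro ⟨y, rfl⟩ t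
        exact ⟨AlgSp.Points.ofPt y t, rfl⟩
      · intro hξ
        obtain ⟨T', t, v', sqT⟩ := hfe.1 ξ
        obtain ⟨v, rfl⟩ := (AlgSp.yon S).map_surjective v'
        haveI : Etale t.left := hfe.2 ξ _ t sqT
        haveI : Surjective t.left := hfs.2 ξ _ t sqT
        have hrange : Set.range v.left ⊆ Set.range (tI jU).left := by
          rintro _ ⟨t', rfl⟩
          apply key
          rw [← Groth.Agent.S10176.ofPt_map_comp, sqT.w, Groth.Agent.S10176.ofPt_map_comp]
          exact hξ _
        let v₁₀ : T'.left ⟶ ZU.left := IsOpenImmersion.lift (tI jU).left v.left hrange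
        have hv₁₀ : v₁₀ ≫ (tI jU).left = v.left := IsOpenImmersion.lift_fac _ _ _
        let v₁ : T' ⟶ ZU := Over.homMk v₁₀ (by
          rw [← Over.w (tI jU), ← Category.assoc, hv₁₀, Over.w v])
        have hv₁ : v₁ ≫ tI jU = v := Over.OverMorphism.ext hv₁₀
        refine exists_lift_of_cover h'' t ξ ((AlgSp.yon S).map v₁ ≫ prZ) ?_
        rw [Category.assoc, PB.w, ← Category.assoc, ← CategoryTheory.Functor.map_comp, hv₁, sqT.w])
  rw [← he]
  exact (MorphismProperty.cancel_left_of_respectsIso (AlgSp.RepWith @IsOpenImmersion) e.hom _).2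
    (Groth.Agent.Lib.Helper12.OpenSub.repWith_incl hW)

/-- the chart form of scheme theoretic density of an immersion in the closed subspace of its kernel
ideal. -/
theorem isSchDense_of_chart [Mono h] (hqe : AlgSp.RepWith @Etale q)
    (hqs : AlgSp.RepWith @Surjective q) [IsOpenImmersion jU.left.toImage]
    (sqZ : IsPullback prZ ((AlgSp.yon S).map jU) h q) (hinv : Invariant q jU.left.ker)
    (hd : CInt.IsSchematicallyDense jU.left.toImage.opensRange)
    {h'' : Z ⟶ Zsh q jU.left.ker} (hh'' : h'' ≫ incl q jU.left.ker = h) :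
    AlgSp.IsSchDense h'' := by
  refine ⟨repWith_isOpenImmersion_of_chart' hqe hqs sqZ hinv hh'', ?_⟩
  obtain ⟨fstK, sqK⟩ := exists_chart_isPullback hqe hqs hinv
  have PB := isPullback_toImage sqZ hh'' sqK
  have hfe : AlgSp.RepWith @Etale fstK :=
    MorphismProperty.of_isPullback (P := AlgSp.RepWith @Etale) sqK.flip hqe
  have hfs : AlgSp.RepWith @Surjective fstK :=
    MorphismProperty.of_isPullback (P := AlgSp.RepWith @Surjective) sqK.flip hqs
  let W : (VI jU.left.ker).left.Opens := jU.left.toImage.opensRange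
  have hw : jU.left.toImage.isoOpensRange.hom ≫ W.ι ≫ (VI jU.left.ker).hom = ZU.hom := by
    rw [← Category.assoc, Scheme.Hom.isoOpensRange_hom_ι]
    exact Over.w (tI jU)
  let ε : ZU ≅ Over.mk (W.ι ≫ (VI jU.left.ker).hom) :=
    Over.isoMk jU.left.toImage.isoOpensRange hw
  have hε : ε.hom ≫ (Over.homMk W.ι rfl : Over.mk (W.ι ≫ (VI jU.left.ker).hom) ⟶ VI jU.left.ker) =
      tI jU := Over.OverMorphism.ext (Scheme.Hom.isoOpensRange_hom_ι _)
  refine ⟨VI jU.left.ker, fstK, W, (AlgSp.yon S).map ε.inv ≫ prZ, hfe, hfs, ?_, hd⟩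
  refine IsPullback.of_iso PB ((AlgSp.yon S).mapIso ε) (Iso.refl _) (Iso.refl _) (Iso.refl _)
    ?_ ?_ ?_ ?_
  · rw [Iso.refl_hom, Category.comp_id, CategoryTheory.Functor.mapIso_hom, ← Category.assoc,
      ← CategoryTheory.Functor.map_comp, Iso.hom_inv_id, CategoryTheory.Functor.map_id,
      Category.id_comp]
  · rw [Iso.refl_hom, Category.comp_id, CategoryTheory.Functor.mapIso_hom,
      ← CategoryTheory.Functor.map_comp, hε]
  · simp
  · simp

end Sp

end Groth.Agent.Lib.H5bSchDense
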