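import Mathlib
import Groth.Agent.Lib.Helper2GenFree
import Groth.Agent.Lib.Helper3FlatModel

/-!
# Separating families under flat finitely presented base change (EGA IV 11.9, ring level)

helper3 (round 2).  Let `A → B` be flat of finite presentation, `M` an `A`-module and
`f i : M → N i` a family of linear maps which is *locally separating*: for every `g : A`, an element
of `M` killed in every `(N i)_g` is killed in `M_g`.  Then the family `B ⊗ f i` is jointly injective.

The proof reduces to `A` Noetherian (Noetherian approximation of flat f.p. algebras), and then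
runs a Noetherian induction on ideals `I` of `A` (for modules killed by `I`), the prime case
being handled by generic freeness.
-/

set_option autoImplicit false
set_option linter.style.haveILetI false
universe u

open TensorProduct

namespace Groth.Agent.Lib.R2H3.SepFlat

section defs
variable {A : Type*} [CommRing A] {M : Type*} [AddCommGroup M] [Module A M] {ι : Type*}

/-- the family of submodules `K i` is locally separating: an element all of whose `g`-multiples
eventually fall in every `K i` is `g`-power torsion. -/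
def LocSep (K : ι → Submodule A M) : Prop :=
  ∀ (g : A) (m : M), (∀ i, ∃ n : ℕ, g ^ n • m ∈ K i) → ∃ n : ℕ, g ^ n • m = 0

/-- joint injectivity of `B ⊗ M → B ⊗ M/K i`. -/
def TSep (B : Type*) [CommRing B] [Algebra A B] (K : ι → Submodule A M) : Prop :=
  ∀ t : B ⊗[A] M, (∀ i, (K i).mkQ.lTensor B t = 0) → t = 0

theorem LocSep.comap {K : ι → Submodule A M} (hK : LocSep K) (T : Submodule A M) :
    LocSep (fun i => (K i).comap T.subtype) := by
  intro g m hm
  obtain ⟨n, hn⟩ := hK g m.1 (fun i => by
    obtain ⟨n, hn⟩ := hm i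
    exact ⟨n, by simpa using hn⟩)
  exact ⟨n, Subtype.ext (by simpa using hn)⟩

end defs

section torsion
variable {A : Type*} [CommRing A] {B : Type*} [CommRing B] [Algebra A B]
  {M : Type*} [AddCommGroup M] [Module A M] {ι : Type*}

theorem smul_eq_zero_of_forall (a : A) (h : ∀ m : M, a • m = 0) (t : B ⊗[A] M) : a • t = 0 := by
  induction t using TensorProduct.induction_on with
  | zero => simp
  | tmul b m => rw [← TensorProduct.tmul_smul, h, TensorProduct.tmul_zero]
  | add x y hx hy => rw [smul_add, hx, hy, add_zero]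

variable [Module.Flat A B]

/-- torsion step. -/
theorem eq_zero_of_smul_eq_zero (K : ι → Submodule A M) (a : A)
    (hsep : TSep B (fun i => (K i).comap (Submodule.torsionBy A M a).subtype))
    (t : B ⊗[A] M) (hat : a • t = 0) (ht : ∀ i, (K i).mkQ.lTensor B t = 0) : t = 0 := by
  set T := Submodule.torsionBy A M a with hT
  have hex : Function.Exact T.subtype (LinearMap.lsmul A M a) := by
    intro m
    constructor
    · intro h
      exact ⟨⟨m, by rw [hT, Submodule.mem_torsionBy_iff]; simpa using h⟩, rfl⟩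
    · rintro ⟨x, rfl⟩
      have := (Submodule.mem_torsionBy_iff a _).mp x.2
      exact this
  have hex' := Module.Flat.lTensor_exact B hex
  have h1 : (LinearMap.lsmul A M a).lTensor B t = 0 := by
    have h2 : (LinearMap.lsmul A M a).lTensor B = a • LinearMap.id := by
      ext b m
      simp [TensorProduct.tmul_smul]
    rw [h2]
    simpa using hat
  obtain ⟨t', rfl⟩ := (hex' t).mp h1
  have ht' : t' = 0 := by
    apply hsep
    intro i
    let j : (T ⧸ (K i).comap T.subtype) →ₗ[A] M ⧸ K i :=
      Submodule.mapQ _ _ T.subtype le_rfl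
    have hj : Function.Injective j := by
      rw [injective_iff_map_eq_zero]
      intro y hy
      induction y using Submodule.Quotient.induction_on with
      | H x =>
        rw [Submodule.mapQ_apply, Submodule.Quotient.mk_eq_zero] at hy
        rw [Submodule.Quotient.mk_eq_zero]
        exact hy
    have hjB := Module.Flat.lTensor_preserves_injective_linearMap (M := B) j hj
    apply hjB
    rw [map_zero, ← ht i]
    rw [← LinearMap.comp_apply, ← LinearMap.comp_apply, ← LinearMap.lTensor_comp,
      ← LinearMap.lTensor_comp]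
    congr 2
  rw [ht', map_zero]

end torsion

section free

/-- joint injectivity is preserved by tensoring with a free module over an intermediate ring. -/
theorem eq_zero_of_free {A A' B' : Type*} [CommRing A] [CommRing A'] [Algebra A A']
    [AddCommGroup B'] [Module A B'] [Module A' B'] [IsScalarTower A A' B'] [Module.Free A' B']
    {X : Type*} [AddCommGroup X] [Module A X] {ι : Type*} {Y : ι → Type*}
    [∀ i, AddCommGroup (Y i)] [∀ i, Module A (Y i)] (φ : ∀ i, X →ₗ[A] Y i)
    (h : ∀ x : A' ⊗[A] X, (∀ i, (φ i).lTensor A' x = 0) → x = 0)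
    (z : B' ⊗[A] X) (hz : ∀ i, (φ i).lTensor B' z = 0) : z = 0 := by
  classical
  let b := Module.Free.chooseBasis A' B'
  let J := Module.Free.ChooseBasisIndex A' B'
  let c : J → B' →ₗ[A] A' := fun j =>
    ((Finsupp.lapply j : (J →₀ A') →ₗ[A'] A').restrictScalars A).comp
      (b.repr.toLinearMap.restrictScalars A)
  have hc : ∀ j, (c j).rTensor X z = 0 := by
    intro j
    apply h
    intro i
    have h1 : (φ i).lTensor A' ((c j).rTensor X z) = (c j).rTensor (Y i) ((φ i).lTensor B' z) := by
      rw [← LinearMap.comp_apply, ← LinearMap.comp_apply, LinearMap.lTensor_comp_rTensor,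
        LinearMap.rTensor_comp_lTensor]
    rw [h1, hz i, map_zero]
  let e : B' ⊗[A] X ≃ₗ[A] (J →₀ A') ⊗[A] X :=
    TensorProduct.congr (b.repr.restrictScalars A) (LinearEquiv.refl A X)
  have h2 : TensorProduct.finsuppLeft A A A' X J (e z) = 0 := by
    ext j
    rw [TensorProduct.finsuppLeft_apply, Finsupp.zero_apply, ← hc j]
    have he : e.toLinearMap = (b.repr.toLinearMap.restrictScalars A).rTensor X :=
      TensorProduct.ext' fun x y => rfl
    have : e z = (b.repr.toLinearMap.restrictScalars A).rTensor X z := LinearMap.congr_fun he z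
    rw [this, ← LinearMap.comp_apply, ← LinearMap.rTensor_comp]
    rfl
  have h3 : e z = 0 := (TensorProduct.finsuppLeft A A A' X J).injective (by rw [h2, map_zero])
  exact e.injective (by rw [h3, map_zero])

end free

section away
variable {A : Type*} [CommRing A] (I : Ideal A) (g : A)

theorem exists_pow_smul_eq_zero {X : Type*} [AddCommGroup X] [Module A X]
    (hIX : ∀ a ∈ I, ∀ x : X, a • x = 0) (x : X)
    (hx : (1 : Localization.Away (Ideal.Quotient.mk I g)) ⊗ₜ[A] x = 0) :
    ∃ n : ℕ, g ^ n • x = 0 := by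
  let R := A ⧸ I
  let g' : R := Ideal.Quotient.mk I g
  let A' := Localization.Away g'
  have h1 : (1 : A') ⊗ₜ[R] ((1 : R) ⊗ₜ[A] x) = 0 := by
    apply (TensorProduct.AlgebraTensorModule.cancelBaseChange A R A' A' X).injective
    rw [map_zero, TensorProduct.AlgebraTensorModule.cancelBaseChange_tmul, one_smul]
    exact hx
  have hloc : IsLocalizedModule (Submonoid.powers g') (TensorProduct.mk R A' (R ⊗[A] X) 1) :=
    (isLocalizedModule_iff_isBaseChange (Submonoid.powers g') A' _).mpr
      (TensorProduct.isBaseChange R (R ⊗[A] X) A')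
  obtain ⟨⟨s, n, rfl⟩, hs⟩ := (IsLocalizedModule.eq_zero_iff (Submonoid.powers g')
    (TensorProduct.mk R A' (R ⊗[A] X) 1)).mp h1
  refine ⟨n, ?_⟩
  have h2 : (1 : R) ⊗ₜ[A] (g ^ n • x) = 0 := by
    rw [← hs]
    change _ = (g' ^ n) • ((1 : R) ⊗ₜ[A] x)
    rw [TensorProduct.smul_tmul', TensorProduct.tmul_smul, TensorProduct.smul_tmul', smul_eq_mul,
      mul_one, Algebra.smul_def, mul_one, map_pow]
    rfl
  have h3 := congrArg (TensorProduct.quotTensorEquivQuotSMul X I) h2
  rw [map_zero, show (1 : R) = Ideal.Quotient.mk I 1 from rfl,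
    TensorProduct.quotTensorEquivQuotSMul_mk_tmul, one_smul, Submodule.Quotient.mk_eq_zero] at h3
  have h4 : I • (⊤ : Submodule A X) = ⊥ := by
    rw [eq_bot_iff, Submodule.smul_le]
    intro a ha x _
    rw [hIX a ha x]
    exact Submodule.zero_mem _
  rw [h4] at h3
  exact (Submodule.mem_bot A).mp h3

theorem exists_smul_eq_one_tmul {M : Type*} [AddCommGroup M] [Module A M]
    (x : Localization.Away (Ideal.Quotient.mk I g) ⊗[A] M) :
    ∃ (k : ℕ) (m : M), g ^ k • x = (1 : Localization.Away (Ideal.Quotient.mk I g)) ⊗ₜ[A] m := by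
  induction x using TensorProduct.induction_on with
  | zero => exact ⟨0, 0, by simp⟩
  | tmul a' m =>
    obtain ⟨r', ⟨_, k, rfl⟩, rfl⟩ := IsLocalization.exists_mk'_eq
      (Submonoid.powers (Ideal.Quotient.mk I g)) a'
    obtain ⟨r, rfl⟩ := Ideal.Quotient.mk_surjective r'
    refine ⟨k, r • m, ?_⟩
    rw [TensorProduct.smul_tmul', TensorProduct.tmul_smul, TensorProduct.smul_tmul']
    congr 1
    rw [Algebra.smul_def, Algebra.smul_def, mul_one,
      IsScalarTower.algebraMap_apply A (A ⧸ I) (Localization.Away (Ideal.Quotient.mk I g)),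
      IsScalarTower.algebraMap_apply A (A ⧸ I) (Localization.Away (Ideal.Quotient.mk I g))]
    have := IsLocalization.mk'_spec' (Localization.Away (Ideal.Quotient.mk I g))
      (Ideal.Quotient.mk I r) (⟨_, k, rfl⟩ : Submonoid.powers (Ideal.Quotient.mk I g))
    simpa using this
  | add x y hx hy =>
    obtain ⟨k₁, m₁, h₁⟩ := hx
    obtain ⟨k₂, m₂, h₂⟩ := hy
    refine ⟨k₁ + k₂, g ^ k₂ • m₁ + g ^ k₁ • m₂, ?_⟩
    rw [smul_add, TensorProduct.tmul_add, TensorProduct.tmul_smul, TensorProduct.tmul_smul, ← h₁,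
      ← h₂, smul_smul, smul_smul, ← pow_add, ← pow_add, add_comm k₂ k₁]

theorem eq_zero_of_locSep {M : Type*} [AddCommGroup M] [Module A M]
    (hIM : ∀ a ∈ I, ∀ m : M, a • m = 0) {ι : Type*} (K : ι → Submodule A M) (hK : LocSep K)
    (x : Localization.Away (Ideal.Quotient.mk I g) ⊗[A] M)
    (hx : ∀ i, (K i).mkQ.lTensor (Localization.Away (Ideal.Quotient.mk I g)) x = 0) : x = 0 := by
  obtain ⟨k, m, hkm⟩ := exists_smul_eq_one_tmul I g x
  have h1 : ∀ i, ∃ n : ℕ, g ^ n • m ∈ K i := by
    intro i
    have h0 : (1 : Localization.Away (Ideal.Quotient.mk I g)) ⊗ₜ[A] ((K i).mkQ m) = 0 := by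
      have := congrArg ((K i).mkQ.lTensor (Localization.Away (Ideal.Quotient.mk I g))) hkm
      rw [map_smul, hx i, smul_zero, LinearMap.lTensor_tmul] at this
      exact this.symm
    obtain ⟨n, hn⟩ := exists_pow_smul_eq_zero I g (X := M ⧸ K i) (fun a ha y => by
      induction y using Submodule.Quotient.induction_on with
      | H y => rw [← Submodule.Quotient.mk_smul, hIM a ha y, Submodule.Quotient.mk_zero]) _ h0
    refine ⟨n, ?_⟩
    rw [← Submodule.Quotient.mk_eq_zero, Submodule.Quotient.mk_smul]
    exact hn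
  obtain ⟨n, hn⟩ := hK g m h1
  have h2 : g ^ (n + k) • x = 0 := by
    rw [pow_add, mul_smul, hkm, ← TensorProduct.tmul_smul, hn, TensorProduct.tmul_zero]
  have hu : IsUnit (algebraMap A (Localization.Away (Ideal.Quotient.mk I g)) (g ^ (n + k))) := by
    rw [IsScalarTower.algebraMap_apply A (A ⧸ I) (Localization.Away (Ideal.Quotient.mk I g)),
      map_pow, map_pow]
    exact (IsLocalization.Away.algebraMap_isUnit _).pow _
  obtain ⟨u, hu⟩ := hu
  have h3 : x = (↑u⁻¹ : Localization.Away (Ideal.Quotient.mk I g)) •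
      ((algebraMap A (Localization.Away (Ideal.Quotient.mk I g)) (g ^ (n + k))) • x) := by
    rw [smul_smul, ← hu, Units.inv_mul, one_smul]
  rw [h3, algebraMap_smul, h2, smul_zero]

end away

section prime

theorem exists_smul_eq_zero_of_prime {A B : Type*} [CommRing A] [CommRing B] [Algebra A B]
    [Algebra.FiniteType A B] (I : Ideal A) [I.IsPrime] {M : Type*} [AddCommGroup M] [Module A M]
    (hIM : ∀ a ∈ I, ∀ m : M, a • m = 0) {ι : Type*} (K : ι → Submodule A M) (hK : LocSep K)
    (t : B ⊗[A] M) (ht : ∀ i, (K i).mkQ.lTensor B t = 0) : ∃ g : A, g ∉ I ∧ g • t = 0 := by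
  obtain ⟨f, hf, hS, -⟩ := Groth.Agent.Lib.Helper2.GenFree.exists_freeAway (A ⧸ I)
    ((A ⧸ I) ⊗[A] B) ((A ⧸ I) ⊗[A] B)
  obtain ⟨g, rfl⟩ := Ideal.Quotient.mk_surjective f
  have hgI : g ∉ I := fun h => hf (Ideal.Quotient.eq_zero_iff_mem.mpr h)
  have hfree1 : Module.Free (Localization.Away (Ideal.Quotient.mk I g))
      (Localization.Away (Ideal.Quotient.mk I g) ⊗[A ⧸ I] ((A ⧸ I) ⊗[A] B)) :=
    hS.free (Localization.Away (Ideal.Quotient.mk I g))
      (TensorProduct.mk (A ⧸ I) (Localization.Away (Ideal.Quotient.mk I g)) ((A ⧸ I) ⊗[A] B) 1)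
  have hfree : Module.Free (Localization.Away (Ideal.Quotient.mk I g))
      (Localization.Away (Ideal.Quotient.mk I g) ⊗[A] B) :=
    Module.Free.of_equiv (TensorProduct.AlgebraTensorModule.cancelBaseChange A (A ⧸ I)
      (Localization.Away (Ideal.Quotient.mk I g)) (Localization.Away (Ideal.Quotient.mk I g)) B)
  have ht' : ((TensorProduct.mk A (Localization.Away (Ideal.Quotient.mk I g)) B 1).rTensor M) t
      = 0 := by
    refine eq_zero_of_free (A' := Localization.Away (Ideal.Quotient.mk I g))
      (fun i => (K i).mkQ) (eq_zero_of_locSep I g hIM K hK) _ (fun i => ?_)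
    rw [← LinearMap.comp_apply, LinearMap.lTensor_comp_rTensor, ← LinearMap.rTensor_comp_lTensor,
      LinearMap.comp_apply, ht i, map_zero]
  have h1 : (1 : Localization.Away (Ideal.Quotient.mk I g)) ⊗ₜ[A] t = 0 := by
    have h2 : ∀ t : B ⊗[A] M, TensorProduct.assoc A (Localization.Away (Ideal.Quotient.mk I g)) B M
        (((TensorProduct.mk A (Localization.Away (Ideal.Quotient.mk I g)) B 1).rTensor M) t) =
        (1 : Localization.Away (Ideal.Quotient.mk I g)) ⊗ₜ[A] t := by
      intro t
      induction t using TensorProduct.induction_on with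
      | zero => simp
      | tmul b m => rfl
      | add x y hx hy => rw [map_add, map_add, hx, hy, TensorProduct.tmul_add]
    rw [← h2, ht', map_zero]
  obtain ⟨n, hn⟩ := exists_pow_smul_eq_zero I g (X := B ⊗[A] M)
    (fun a ha y => smul_eq_zero_of_forall a (hIM a ha) y) t h1
  exact ⟨g ^ n, fun h => hgI (Ideal.IsPrime.mem_of_pow_mem inferInstance n h), hn⟩

end prime

section noeth

theorem tsep_of_isNoetherianRing {A B : Type u} [CommRing A] [IsNoetherianRing A] [CommRing B]
    [Algebra A B] [Algebra.FiniteType A B] [Module.Flat A B] {ι : Type*} (I : Ideal A) :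
    ∀ (M : Type u) [AddCommGroup M] [Module A M] (K : ι → Submodule A M),
      (∀ a ∈ I, ∀ m : M, a • m = 0) → LocSep K → TSep B K := by
  refine IsNoetherian.induction (P := fun I : Ideal A => ∀ (M : Type u) [AddCommGroup M]
    [Module A M] (K : ι → Submodule A M), (∀ a ∈ I, ∀ m : M, a • m = 0) → LocSep K → TSep B K)
    (fun I IH => ?_) I
  intro M _ _ K hIM hK t ht
  have key : ∀ (c : A), c ∉ I → ∀ t' : B ⊗[A] M, c • t' = 0 →
      (∀ i, (K i).mkQ.lTensor B t' = 0) → t' = 0 := by
    intro c hc t' hct' ht'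
    refine eq_zero_of_smul_eq_zero K c ?_ t' hct' ht'
    refine IH (I ⊔ Ideal.span {c}) ?_ _ _ ?_ (hK.comap _)
    · refine lt_of_le_of_ne le_sup_left (fun h => hc ?_)
      rw [h]
      exact Ideal.mem_sup_right (Ideal.mem_span_singleton_self c)
    · intro a ha m
      obtain ⟨b, hb, c', hc', rfl⟩ := Submodule.mem_sup.mp ha
      obtain ⟨d, rfl⟩ := Ideal.mem_span_singleton'.mp hc'
      have h1 := (Submodule.mem_torsionBy_iff c _).mp m.2
      apply Subtype.ext
      simp only [Submodule.coe_smul, Submodule.coe_zero]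
      rw [add_smul, hIM b hb, mul_smul, h1, smul_zero, add_zero]
  by_cases hI : Ideal.IsPrime I
  · haveI := hI
    obtain ⟨g, hgI, hgt⟩ := exists_smul_eq_zero_of_prime I hIM K hK t ht
    exact key g hgI t hgt ht
  · by_cases htop : I = ⊤
    · have : (1 : A) • t = 0 := smul_eq_zero_of_forall 1 (hIM 1 (htop ▸ Submodule.mem_top)) t
      simpa using this
    · obtain ⟨a, ha, b, hb, hab⟩ := (Ideal.not_isPrime_iff.mp hI).resolve_left htop
      have hbt : b • t = 0 := by
        apply key a ha
        · rw [smul_smul]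
          exact smul_eq_zero_of_forall _ (hIM _ hab) t
        · intro i
          rw [map_smul, ht i, smul_zero]
      exact key b hb t hbt ht

/-- Noetherian case, for general families of maps. -/
theorem eq_zero_of_isNoetherianRing {A B : Type u} [CommRing A] [IsNoetherianRing A] [CommRing B]
    [Algebra A B] [Algebra.FiniteType A B] [Module.Flat A B] {ι : Type*} {M : Type u}
    [AddCommGroup M] [Module A M] {N : ι → Type*} [∀ i, AddCommGroup (N i)] [∀ i, Module A (N i)]
    (f : ∀ i, M →ₗ[A] N i)
    (hf : ∀ (g : A) (m : M), (∀ i, ∃ n : ℕ, g ^ n • f i m = 0) → ∃ n : ℕ, g ^ n • m = 0)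
    (t : B ⊗[A] M) (ht : ∀ i, (f i).lTensor B t = 0) : t = 0 := by
  have hK : LocSep (fun i => LinearMap.ker (f i)) := by
    intro g m hm
    refine hf g m fun i => ?_
    obtain ⟨n, hn⟩ := hm i
    exact ⟨n, by rw [← map_smul]; exact hn⟩
  refine tsep_of_isNoetherianRing (B := B) (⊥ : Ideal A) M (fun i => LinearMap.ker (f i))
    (fun a ha m => by rw [(Submodule.mem_bot A).mp ha, zero_smul]) hK t fun i => ?_
  have hinj : Function.Injective ((LinearMap.ker (f i)).liftQ (f i) le_rfl) := by
    rw [← LinearMap.ker_eq_bot]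
    exact Submodule.ker_liftQ_eq_bot _ _ _ le_rfl
  apply Module.Flat.lTensor_preserves_injective_linearMap (M := B) _ hinj
  rw [map_zero, ← ht i, ← LinearMap.comp_apply, ← LinearMap.lTensor_comp, Submodule.liftQ_mkQ]

end noeth

section transfer
variable {R₀ A B₀ B : Type*} [CommRing R₀] [CommRing A] [CommRing B₀] [CommRing B]
  [Algebra R₀ A] [Algebra R₀ B₀] [Algebra A B] (e : A ⊗[R₀] B₀ ≃ₐ[A] B)

/-- the comparison map `B₀ ⊗[R₀] M → B ⊗[A] M` for `B = A ⊗[R₀] B₀`. -/
noncomputable def psi (M : Type*) [AddCommGroup M] [Module R₀ M] [Module A M]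
    [IsScalarTower R₀ A M] : B₀ ⊗[R₀] M →+ B ⊗[A] M :=
  TensorProduct.liftAddHom
    { toFun := fun b₀ =>
        { toFun := fun m => e (1 ⊗ₜ[R₀] b₀) ⊗ₜ[A] m
          map_zero' := TensorProduct.tmul_zero _ _
          map_add' := fun m m' => TensorProduct.tmul_add _ _ _ }
      map_zero' := by
        ext m
        simp
      map_add' := fun b b' => by
        ext m
        simp [TensorProduct.tmul_add, TensorProduct.add_tmul] }
    (fun r b₀ m => by
      change e (1 ⊗ₜ[R₀] (r • b₀)) ⊗ₜ[A] m = e (1 ⊗ₜ[R₀] b₀) ⊗ₜ[A] (r • m)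
      have h1 : (1 : A) ⊗ₜ[R₀] (r • b₀) = (algebraMap R₀ A r) • ((1 : A) ⊗ₜ[R₀] b₀) := by
        rw [TensorProduct.smul_tmul', ← TensorProduct.smul_tmul, Algebra.smul_def, smul_eq_mul]
      rw [h1, map_smul, TensorProduct.smul_tmul, algebraMap_smul])

theorem psi_tmul (M : Type*) [AddCommGroup M] [Module R₀ M] [Module A M]
    [IsScalarTower R₀ A M] (b₀ : B₀) (m : M) :
    psi e M (b₀ ⊗ₜ[R₀] m) = e (1 ⊗ₜ[R₀] b₀) ⊗ₜ[A] m := rfl

/-- the inverse comparison. -/
noncomputable def phi (M : Type*) [AddCommGroup M] [Module R₀ M] [Module A M]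
    [IsScalarTower R₀ A M] : B ⊗[A] M ≃+ B₀ ⊗[R₀] M :=
  (TensorProduct.congr e.symm.toLinearEquiv (LinearEquiv.refl A M)).toAddEquiv.trans
    ((TensorProduct.comm A _ _).toAddEquiv.trans
      ((TensorProduct.AlgebraTensorModule.cancelBaseChange R₀ A A M B₀).toAddEquiv.trans
        (TensorProduct.comm R₀ M B₀).toAddEquiv))

theorem phi_psi (M : Type*) [AddCommGroup M] [Module R₀ M] [Module A M]
    [IsScalarTower R₀ A M] (x : B₀ ⊗[R₀] M) : phi e M (psi e M x) = x := by
  induction x using TensorProduct.induction_on with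
  | zero => simp
  | tmul b₀ m =>
    rw [psi_tmul]
    simp [phi]
  | add x y hx hy => rw [map_add, map_add, hx, hy]

theorem psi_bijective (M : Type*) [AddCommGroup M] [Module R₀ M] [Module A M]
    [IsScalarTower R₀ A M] : Function.Bijective (psi e M) := by
  have h : ⇑(psi e M) = (phi e M).symm := by
    funext x
    rw [AddEquiv.eq_symm_apply]
    exact phi_psi e M x
  rw [h]
  exact (phi e M).symm.bijective

theorem psi_naturality {M M' : Type*} [AddCommGroup M] [Module R₀ M] [Module A M]
    [IsScalarTower R₀ A M] [AddCommGroup M'] [Module R₀ M'] [Module A M']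
    [IsScalarTower R₀ A M'] (φ : M →ₗ[A] M') (x : B₀ ⊗[R₀] M) :
    psi e M' ((φ.restrictScalars R₀).lTensor B₀ x) = φ.lTensor B (psi e M x) := by
  induction x using TensorProduct.induction_on with
  | zero => simp
  | tmul b₀ m => rfl
  | add x y hx hy => simp only [map_add, hx, hy]

end transfer

section main

/-- **EGA IV 11.9 (ring level).** Let `A → B` be flat of finite presentation and `f i : M → N i` a
locally separating family of `A`-linear maps.  Then the `B ⊗ f i` are jointly injective. -/
theorem eq_zero_of_flat_finitePresentation {A B : Type u} [CommRing A] [CommRing B] [Algebra A B]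
    [Algebra.FinitePresentation A B] [Module.Flat A B] {ι : Type*} {M : Type u}
    [AddCommGroup M] [Module A M] {N : ι → Type u} [∀ i, AddCommGroup (N i)] [∀ i, Module A (N i)]
    (f : ∀ i, M →ₗ[A] N i)
    (hf : ∀ (g : A) (m : M), (∀ i, ∃ n : ℕ, g ^ n • f i m = 0) → ∃ n : ℕ, g ^ n • m = 0)
    (t : B ⊗[A] M) (ht : ∀ i, (f i).lTensor B t = 0) : t = 0 := by
  obtain ⟨R₀, B₀, _, _, _, _, hft, hfp, hflat, ⟨e⟩⟩ :=
    Groth.Agent.Lib.Helper3.FlatOpen.exists_flat_model A B
  haveI : IsNoetherianRing R₀ := Algebra.FiniteType.isNoetherianRing ℤ R₀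
  letI : Module R₀ M := Module.compHom M (algebraMap R₀ A)
  haveI : IsScalarTower R₀ A M := IsScalarTower.of_algebraMap_smul fun r m => rfl
  letI : ∀ i, Module R₀ (N i) := fun i => Module.compHom (N i) (algebraMap R₀ A)
  haveI : ∀ i, IsScalarTower R₀ A (N i) := fun i => IsScalarTower.of_algebraMap_smul fun r m => rfl
  obtain ⟨x, rfl⟩ := (psi_bijective e M).2 t
  have hx : x = 0 := by
    refine eq_zero_of_isNoetherianRing (A := R₀) (B := B₀) (fun i => (f i).restrictScalars R₀)
      ?_ x fun i => ?_
    · intro g m hm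
      obtain ⟨n, hn⟩ := hf (algebraMap R₀ A g) m fun i => by
        obtain ⟨n, hn⟩ := hm i
        refine ⟨n, ?_⟩
        rw [← map_pow, algebraMap_smul]
        exact hn
      refine ⟨n, ?_⟩
      rw [← map_pow, algebraMap_smul] at hn
      exact hn
    · apply (psi_bijective e (N i)).1
      rw [psi_naturality, ht i, map_zero]
  rw [hx, map_zero]

end main

end Groth.Agent.Lib.R2H3.SepFlat
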