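import Mathlib
import Groth.Prelude.Def_AlgSpSub
import Groth.Agent.Lib.H5bIntDimSp
import Groth.Agent.S3843
import Groth.Agent.S10176

/-!
# Schematic density on charts (helper5)

* `app_injective_of_flat_surjective`: a flat surjective morphism is injective on sections over
  every open.
* `isSchematicallyDense_of_preimage`: schematic density descends along flat surjective morphisms.
* `mem_iff_of_isPullback`: the open `W` of a chart cut out by an open subspace `j` consists of the
  points mapping into the image of `j`.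
* `isSchematicallyDense_chart`: S9968.
-/

set_option autoImplicit false
set_option linter.style.haveILetI false
universe u

namespace Groth.Agent.Lib.H5bSchDenseChart

open CategoryTheory CategoryTheory.Limits AlgebraicGeometry Opposite AlgSp

lemma app_injective_of_flat_surjective {A B : Scheme.{u}} (g : A ⟶ B) [Flat g] [Surjective g]
    (V : B.Opens) : Function.Injective (g.app V).hom := by
  rw [injective_iff_map_eq_zero]
  intro s hs
  apply TopCat.Presheaf.section_ext B.sheaf V
  intro b hb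
  obtain ⟨a, rfl⟩ := g.surjective b
  have hinj : Function.Injective (g.stalkMap a).hom := by
    have hfl : (g.stalkMap a).hom.Flat := Flat.stalkMap g a
    have hloc : IsLocalHom (g.stalkMap a).hom := inferInstance
    algebraize [(g.stalkMap a).hom]
    have : IsLocalHom (algebraMap (B.presheaf.stalk (g a)) (A.presheaf.stalk a)) := hloc
    have : Module.FaithfullyFlat (B.presheaf.stalk (g a)) (A.presheaf.stalk a) :=
      Module.FaithfullyFlat.of_flat_of_isLocalHom
    exact FaithfulSMul.algebraMap_injective _ _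
  apply hinj
  have h1 := Scheme.Hom.germ_stalkMap_apply g V a hb s
  have h2 : (g.stalkMap a).hom ((B.presheaf.germ V (g a) hb).hom s) = 0 := by
    refine h1.trans ?_
    change (A.presheaf.germ (g ⁻¹ᵁ V) a hb).hom ((g.app V).hom s) = 0
    rw [hs, map_zero]
  have h3 : (g.stalkMap a).hom ((B.presheaf.germ V (g a) hb).hom 0) = 0 := by
    rw [map_zero, map_zero]
  exact h2.trans h3.symm

/-- schematic density descends along flat surjective morphisms. -/
theorem isSchematicallyDense_of_preimage {R V : Scheme.{u}} (p : R ⟶ V) [Flat p] [Surjective p]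
    (W : V.Opens) (h : CInt.IsSchematicallyDense (p ⁻¹ᵁ W)) : CInt.IsSchematicallyDense W := by
  intro V'
  show Function.Injective (V.presheaf.map (homOfLE (inf_le_left : V' ⊓ W ≤ V')).op).hom
  rw [injective_iff_map_eq_zero]
  intro s hs
  apply app_injective_of_flat_surjective p V'
  rw [map_zero]
  have hR : Function.Injective
      (R.presheaf.map (homOfLE (inf_le_left : p ⁻¹ᵁ V' ⊓ p ⁻¹ᵁ W ≤ p ⁻¹ᵁ V')).op).hom :=
    h (p ⁻¹ᵁ V')
  apply hR
  rw [map_zero]
  have nat := p.naturality (homOfLE (inf_le_left : V' ⊓ W ≤ V')).op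
  have e : (R.presheaf.map (homOfLE (inf_le_left : p ⁻¹ᵁ V' ⊓ p ⁻¹ᵁ W ≤ p ⁻¹ᵁ V')).op).hom
      ((p.app V').hom s) =
      (p.app (V' ⊓ W)).hom ((V.presheaf.map (homOfLE (inf_le_left : V' ⊓ W ≤ V')).op).hom s) :=
    (congrArg (fun m => m.hom s) nat).symm
  rw [e, hs]
  exact map_zero _

variable {S : Scheme.{u}}

/-- the points of the open of a chart cut out by an open subspace. -/
theorem mem_iff_of_isPullback {U X : AlgSp.Sp S} (j : U ⟶ X) {V : Over S}
    (φ : (yon S).obj V ⟶ X) (W : V.left.Opens)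
    (fst : (yon S).obj (Over.mk (W.ι ≫ V.hom)) ⟶ U)
    (sq : IsPullback fst ((yon S).map (Over.homMk W.ι rfl : Over.mk (W.ι ≫ V.hom) ⟶ V)) j φ)
    (v : ↥V.left) : v ∈ W ↔ Points.ofPt φ v ∈ Set.range (Points.map j) := by
  constructor
  · intro hv
    refine ⟨Points.ofPt fst (⟨v, hv⟩ : ↥W), ?_⟩
    rw [Points.map_ofPt, sq.w, Groth.Agent.S10176.ofPt_map_comp]
    rfl
  · rintro ⟨u, hu⟩
    obtain ⟨w, -, hw⟩ := Groth.Agent.Lib.H5bIntDimSp.exists_point_of_isPullback_chart sq u v
      hu.symm
    rw [← hw]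
    exact (w : ↥W).2

/-- S9968: if an open subspace is scheme theoretically dense on one surjective étale chart then
it is so on every étale chart. -/
theorem isSchematicallyDense_chart {U X : AlgSp.Sp S} (j : U ⟶ X) (hj : AlgSp.IsSchDense j)
    (V : Over S) (φ : (yon S).obj V ⟶ X) (hφ : RepWith @Etale φ) (W : V.left.Opens)
    (fst : (yon S).obj (Over.mk (W.ι ≫ V.hom)) ⟶ U)
    (sq : IsPullback fst ((yon S).map (Over.homMk W.ι rfl : Over.mk (W.ι ≫ V.hom) ⟶ V)) j φ) :
    CInt.IsSchematicallyDense W := by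
  obtain ⟨hop, V₀, φ₀, W₀, fstV₀, hφ₀e, hφ₀s, sqV₀, hW₀⟩ := hj
  obtain ⟨R, sndW, fst', sq₁⟩ := hφ₀e.1 φ
  obtain ⟨h, rfl⟩ := (yon S).map_surjective fst'
  haveI hsndE : Etale sndW.left := hφ₀e.2 _ _ sndW sq₁
  haveI hsndS : Surjective sndW.left := hφ₀s.2 _ _ sndW sq₁
  haveI hhE : Etale h.left := hφ.2 φ₀ _ h sq₁.flip
  have hA : CInt.IsSchematicallyDense (h.left ⁻¹ᵁ W₀) :=
    Groth.Agent.S3843.result h.left W₀ hW₀
  have hB : sndW.left ⁻¹ᵁ W = h.left ⁻¹ᵁ W₀ := by
    ext r
    show sndW.left r ∈ W ↔ h.left r ∈ W₀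
    rw [mem_iff_of_isPullback j φ W fst sq, mem_iff_of_isPullback j φ₀ W₀ fstV₀ sqV₀,
      ← Groth.Agent.S10176.ofPt_map_comp, ← Groth.Agent.S10176.ofPt_map_comp, sq₁.w]
  exact isSchematicallyDense_of_preimage sndW.left W (hB ▸ hA)

end Groth.Agent.Lib.H5bSchDenseChart
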