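import Mathlib
import Groth.Prelude.Def_AlgSpOX2
import Groth.Prelude.Def_AlgSpSub
import Groth.Agent.Lib.H5bSchDenseChart
import Groth.Agent.Lib.Helper12SchDense

/-!
# Schematic density and the comparison `O_X ⟶ j_* O_U` (helper5)

* `mono_bcRingHom_iff`: `bcRingHom` is a monomorphism iff all its components are injective.
* `exists_isPullback_opensRange`: an open immersion pulled back to a chart in canonical form.
* `injective_of_isSchDense`, `isSchDense_of_injective`: S9986.
-/

set_option autoImplicit false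
set_option linter.style.haveILetI false
universe u

namespace Groth.Agent.Lib.H5bSchDenseRing

open CategoryTheory CategoryTheory.Limits AlgebraicGeometry Opposite AlgSp
open Groth.Agent.Lib.H5bSchDenseChart

variable {S : Scheme.{u}}

theorem mono_bcRingHom_iff {U X : AlgSp.Sp S} {j : U ⟶ X} (hj1 : AlgSp.Representable j) :
    Mono (bcRingHom hj1) ↔
      ∀ E : EtOver X, Function.Injective ((hj1.snd E.obj.hom).left.appTop.hom) := by
  constructor
  · intro hm E
    have h1 : Mono (bcRingHom hj1).hom :=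
      (sheafToPresheaf (etTop X) RingCat.{u+1}).map_mono (bcRingHom hj1)
    have h2 : Mono ((bcRingHom hj1).hom.app (op E)) := inferInstance
    have h3 : Function.Injective ((bcRingHom hj1).hom.app (op E)) :=
      (ConcreteCategory.mono_iff_injective_of_preservesPullback _).1 h2
    intro a b hab
    have := @h3 (ULift.up a) (ULift.up b) (by
      show ULift.up _ = ULift.up _
      exact congrArg ULift.up hab)
    exact congrArg ULift.down this
  · intro H
    have : ∀ E : (EtOver X)ᵒᵖ, Mono ((bcRingHom hj1).hom.app E) := by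
      intro E
      apply ConcreteCategory.mono_of_injective
      intro a b hab
      have h1 : ULift.up ((hj1.snd E.unop.obj.hom).left.appTop.hom a.down) =
          ULift.up ((hj1.snd E.unop.obj.hom).left.appTop.hom b.down) := hab
      have h2 := H E.unop (congrArg ULift.down h1)
      exact ULift.ext _ _ h2
    have : Mono (bcRingHom hj1).hom := NatTrans.mono_of_mono_app _
    exact Sheaf.Hom.mono_of_presheaf_mono _ _ _

/-- an open immersion of sheaves pulled back to a chart, in canonical form. -/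
theorem exists_isPullback_opensRange {U X : AlgSp.Sp S} (j : U ⟶ X) {V T : Over S}
    (φ : (yon S).obj V ⟶ X) (snd : T ⟶ V) (fst' : (yon S).obj T ⟶ U)
    (sqT : IsPullback fst' ((yon S).map snd) j φ) [IsOpenImmersion snd.left] :
    ∃ fst : (yon S).obj (Over.mk (snd.left.opensRange.ι ≫ V.hom)) ⟶ U,
      IsPullback fst ((yon S).map (Over.homMk snd.left.opensRange.ι rfl :
        Over.mk (snd.left.opensRange.ι ≫ V.hom) ⟶ V)) j φ := by
  have he : snd.left.isoOpensRange.hom ≫ snd.left.opensRange.ι = snd.left :=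
    Scheme.Hom.isoOpensRange_hom_ι snd.left
  let T' : Over S := Over.mk (snd.left.opensRange.ι ≫ V.hom)
  let eo : T ≅ T' := Over.isoMk snd.left.isoOpensRange (by
    show snd.left.isoOpensRange.hom ≫ snd.left.opensRange.ι ≫ V.hom = T.hom
    rw [← Category.assoc, he, Over.w snd])
  have hcomp : eo.hom ≫ (Over.homMk snd.left.opensRange.ι rfl : T' ⟶ V) = snd := by
    ext
    exact he
  refine ⟨(yon S).map eo.inv ≫ fst', ?_⟩
  refine IsPullback.of_iso sqT ((yon S).mapIso eo) (Iso.refl _) (Iso.refl _) (Iso.refl _)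
    ?_ ?_ ?_ ?_
  · simp
  · simp only [Iso.refl_hom, Category.comp_id, Functor.mapIso_hom]
    rw [← Functor.map_comp, hcomp]
  · simp
  · simp

/-- points of a representing pullback of an open subspace. -/
theorem mem_range_iff_of_isPullback {U X : AlgSp.Sp S} (j : U ⟶ X) {V T : Over S}
    (φ : (yon S).obj V ⟶ X) (snd : T ⟶ V) (fst : (yon S).obj T ⟶ U)
    (sq : IsPullback fst ((yon S).map snd) j φ) (v : ↥V.left) :
    v ∈ Set.range snd.left ↔ Points.ofPt φ v ∈ Set.range (Points.map j) := by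
  constructor
  · rintro ⟨t, rfl⟩
    refine ⟨Points.ofPt fst t, ?_⟩
    rw [Points.map_ofPt, sq.w, Groth.Agent.S10176.ofPt_map_comp]
  · rintro ⟨u, hu⟩
    obtain ⟨w, -, hw⟩ := Groth.Agent.Lib.H5bIntDimSp.exists_point_of_isPullback_chart sq u v
      hu.symm
    exact ⟨w, hw⟩

lemma injective_app_of_eq_top {T Z : Scheme.{u}} (p : T ⟶ Z)
    (h : Function.Injective p.appTop.hom) (O : Z.Opens) (hO : O = ⊤) :
    Function.Injective (p.app O).hom := by
  subst hO
  exact h

lemma injective_map_of_eq {T : Scheme.{u}} {A B : T.Opens} (m : A ⟶ B) (hAB : A = B) :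
    Function.Injective (T.presheaf.map m.op).hom := by
  subst hAB
  have : m = 𝟙 A := Subsingleton.elim _ _
  rw [this, op_id, T.presheaf.map_id]
  exact Function.injective_id

/-- (⟹) of S9986. -/
theorem injective_of_isSchDense {U X : AlgSp.Sp S} (j : U ⟶ X) (hjd : AlgSp.IsSchDense j)
    (hj : RepWith @IsOpenImmersion j) (E : EtOver X) :
    Function.Injective ((hj.1.snd E.obj.hom).left.appTop.hom) := by
  haveI : IsOpenImmersion (hj.1.snd E.obj.hom).left := hj.2 _ _ _ (hj.1.isPullback _)
  obtain ⟨fst, sqW⟩ := exists_isPullback_opensRange j E.obj.hom (hj.1.snd E.obj.hom) _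
    (hj.1.isPullback E.obj.hom)
  have hW : CInt.IsSchematicallyDense (hj.1.snd E.obj.hom).left.opensRange :=
    isSchematicallyDense_chart j hjd E.obj.left E.obj.hom E.property _ fst sqW
  have h1 := hW ⊤
  have h2 : Function.Injective ((hj.1.snd E.obj.hom).left.opensRange.ι.app ⊤) :=
    (Groth.Agent.Lib.Helper12.SchDense.injective_restrict_iff
      (hj.1.snd E.obj.hom).left.opensRange ⊤).1 h1
  have h3 : (hj.1.snd E.obj.hom).left.appTop =
      (hj.1.snd E.obj.hom).left.opensRange.ι.appTop ≫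
        (hj.1.snd E.obj.hom).left.isoOpensRange.hom.appTop := by
    rw [← Scheme.Hom.comp_appTop, Scheme.Hom.isoOpensRange_hom_ι]
  have h4iso : IsIso (hj.1.snd E.obj.hom).left.isoOpensRange.hom.appTop := by
    have : IsIso (Scheme.Γ.map (hj.1.snd E.obj.hom).left.isoOpensRange.hom.op) := inferInstance
    exact this
  have h4 : Function.Injective (hj.1.snd E.obj.hom).left.isoOpensRange.hom.appTop :=
    ((ConcreteCategory.isIso_iff_bijective _).mp h4iso).1
  rw [h3]
  exact h4.comp h2

/-- (⟸) of S9986. -/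
theorem isSchDense_of_injective {U X : AlgSp.Sp S} (hX : IsAlgSpace X) (j : U ⟶ X)
    (hj : RepWith @IsOpenImmersion j)
    (H : ∀ E : EtOver X, Function.Injective ((hj.1.snd E.obj.hom).left.appTop.hom)) :
    AlgSp.IsSchDense j := by
  obtain ⟨V, φ, hφe, hφs⟩ := hX.atlas
  haveI : IsOpenImmersion (hj.1.snd φ).left := hj.2 _ _ _ (hj.1.isPullback φ)
  obtain ⟨fst, sqW⟩ := exists_isPullback_opensRange j φ (hj.1.snd φ) _ (hj.1.isPullback φ)
  refine ⟨hj, V, φ, (hj.1.snd φ).left.opensRange, fst, hφe, hφs, sqW, ?_⟩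
  intro V'
  let ιV' : Over.mk (V'.ι ≫ V.hom) ⟶ V := Over.homMk V'.ι rfl
  have hφ'e : RepWith @Etale ((yon S).map ιV' ≫ φ) :=
    (repWith_isMultiplicative (S := S) @Etale).comp_mem _ _
      ((repWith_yon_map_iff @Etale ιV').2 (inferInstanceAs (Etale V'.ι))) hφe
  have hinj := H (EtOver.mk ((yon S).map ιV' ≫ φ) hφ'e)
  have sq' := hj.1.isPullback ((yon S).map ιV' ≫ φ)
  have hrange : ∀ t, ((hj.1.snd ((yon S).map ιV' ≫ φ)).left ≫ V'.ι) t ∈
      (hj.1.snd φ).left.opensRange := by
    intro t
    rw [mem_iff_of_isPullback j φ _ fst sqW]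
    refine ⟨Points.ofPt (hj.1.fst ((yon S).map ιV' ≫ φ)) t, ?_⟩
    rw [Points.map_ofPt, sq'.w, Groth.Agent.S10176.ofPt_map_comp,
      Groth.Agent.S10176.ofPt_map_comp]
    rfl
  show Function.Injective (V.left.presheaf.map (homOfLE
    (inf_le_left : V' ⊓ (hj.1.snd φ).left.opensRange ≤ V')).op).hom
  rw [injective_iff_map_eq_zero]
  intro s hs
  have hιinj : Function.Injective (V'.ι.app V').hom := by
    rw [Scheme.Opens.ι_app]
    refine injective_map_of_eq _ ?_
    rw [Groth.Agent.Lib.Helper12.SchDense.image_preimage_ι, inf_idem]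
  apply hιinj
  rw [map_zero]
  have hpinj := injective_app_of_eq_top _ hinj (V'.ι ⁻¹ᵁ V') (Scheme.Opens.ι_preimage_self V')
  apply hpinj
  rw [map_zero]
  show (((hj.1.snd ((yon S).map ιV' ≫ φ)).left ≫ V'.ι).app V').hom s = 0
  have hopen : ((hj.1.snd ((yon S).map ιV' ≫ φ)).left ≫ V'.ι) ⁻¹ᵁ
      (V' ⊓ (hj.1.snd φ).left.opensRange) =
      ((hj.1.snd ((yon S).map ιV' ≫ φ)).left ≫ V'.ι) ⁻¹ᵁ V' := by
    ext t
    constructor
    · intro h; exact h.1
    · intro h; exact ⟨h, hrange t⟩
  have hres := injective_map_of_eq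
    ((TopologicalSpace.Opens.map ((hj.1.snd ((yon S).map ιV' ≫ φ)).left ≫ V'.ι).base).map
      (homOfLE (inf_le_left : V' ⊓ (hj.1.snd φ).left.opensRange ≤ V'))) hopen
  apply hres
  rw [map_zero]
  have nat := ((hj.1.snd ((yon S).map ιV' ≫ φ)).left ≫ V'.ι).naturality
    (homOfLE (inf_le_left : V' ⊓ (hj.1.snd φ).left.opensRange ≤ V')).op
  have e := (congrArg (fun m => m.hom s) nat).symm
  refine e.trans ?_
  show (((hj.1.snd ((yon S).map ιV' ≫ φ)).left ≫ V'.ι).app
    (V' ⊓ (hj.1.snd φ).left.opensRange)).hom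
      ((V.left.presheaf.map (homOfLE
        (inf_le_left : V' ⊓ (hj.1.snd φ).left.opensRange ≤ V')).op).hom s) = 0
  rw [hs]
  exact map_zero _

end Groth.Agent.Lib.H5bSchDenseRing
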