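import Mathlib
import Groth.Prelude
import Groth.Agent.S10357
import Groth.Agent.S10359
import Groth.Agent.S9928
import Groth.Agent.Lib.Helper12ResidualFactor

/-!
# Sections of decent algebraic spaces over a field are closed immersions (helper5)

`closedImmersion_of_section_of_decent`: for a decent algebraic space `X` over `S`, a field `k` with
`Spec k ⟶ S`, a morphism `p : Spec k ⟶ X` and a retraction `r : X ⟶ Spec k` (`p ≫ r = 𝟙`), the
morphism `p` is a closed immersion.
-/

set_option autoImplicit false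
set_option linter.style.haveILetI false
universe u
open CategoryTheory CategoryTheory.Limits AlgebraicGeometry Topology TopologicalSpace

namespace Groth.Agent.Lib.H5bSecClosed

open AlgSp

variable {S : Scheme.{u}}

theorem isClosed_point_of_section_of_decent (X : AlgSp.Space S) (hX : IsDecent X.obj)
    (k : Type u) [Field k] (σ : Spec (CommRingCat.of k) ⟶ S)
    (p : (yon S).obj (Over.mk σ) ⟶ X.obj) (r : X.obj ⟶ (yon S).obj (Over.mk σ))
    (hpr : p ≫ r = 𝟙 _) (t : ↥(Spec (CommRingCat.of k))) :
    IsClosed ({Points.ofPt p t} : Set (Points X.obj)) := by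
  classical
  set x := Points.ofPt p t with hxdef
  apply isClosed_of_closure_subset
  intro x' hx'
  have hsp : x ⤳ x' := specializes_iff_mem_closure.2 hx'
  obtain ⟨U, a, u', -, ha, hu'⟩ := Groth.Agent.Lib.H5bDvrExt.exists_affine_chart_at X.property x'
  obtain ⟨q, hq, hqm, hqq⟩ := hX x
  obtain ⟨u, huu', hu⟩ := Groth.Agent.S10343.result X x' x hsp ⟨q, hq, hqm, hqq⟩ a ha u' hu'
  have hrep := X.property.representable_from_yon a
  obtain ⟨F, pr, w, sq⟩ : ∃ (F : Over S) (pr : F ⟶ U) (w : F ⟶ Over.mk σ),
      IsPullback ((yon S).map pr) ((yon S).map w) a p := ⟨_, _, _, hrep.isPullback' p⟩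
  obtain ⟨ξ, hξ1, hξ2⟩ := Groth.Agent.S10176.exists_point_of_isPullback_yon sq u t hu
  haveI : Etale w.left := ha.2 _ _ _ sq
  obtain ⟨g, hg⟩ := (yon S).map_surjective (a ≫ r)
  have hprg : pr ≫ g = w := by
    apply (yon S).map_injective
    rw [Functor.map_comp, hg, ← Category.assoc, sq.w, Category.assoc, hpr, Category.comp_id]
  have hprg' : pr.left ≫ g.left = w.left := by
    rw [← Over.comp_left, hprg]
  have h5a : (w.left.residueFieldMap ξ).hom.IsIntegral :=
    (Q4.finite_residueFieldMap w.left ξ).to_isIntegral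
  have h5e : ((pr.left ≫ g.left).residueFieldMap ξ).hom.IsIntegral := hprg' ▸ h5a
  have h5f : (g.left.residueFieldMap (pr.left ξ)).hom.IsIntegral :=
    Groth.Agent.S10357.isIntegral_residueFieldMap_of_comp _ _ _ h5e
  have h5g : (g.left.residueFieldMap u).hom.IsIntegral := hξ1 ▸ h5f
  have halg : @Algebra.IsAlgebraic ((Over.mk σ).left.residueField (g.left u))
      (U.left.residueField u) _ _ (g.left.residueFieldMap u).hom.toAlgebra := by
    letI := (g.left.residueFieldMap u).hom.toAlgebra
    haveI : Algebra.IsIntegral ((Over.mk σ).left.residueField (g.left u))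
      (U.left.residueField u) := ⟨h5g⟩
    exact Algebra.IsIntegral.isAlgebraic
  have hcl1 := Groth.Agent.Lib.Helper10.FibClosed.isClosed_asFiber_of_isAlgebraic g.left u halg
  have hsub : Subsingleton ↥(Over.mk σ).left := (inferInstance : Subsingleton (PrimeSpectrum k))
  have hs : IsClosed ({g.left u} : Set ↥(Over.mk σ).left) := by
    have : ({g.left u} : Set ↥(Over.mk σ).left) = Set.univ := by
      ext y
      simp [Subsingleton.elim y (g.left u)]
    rw [this]
    exact isClosed_univ
  have hcl : IsClosed ({u} : Set ↥U.left) :=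
    Groth.Agent.Lib.Helper10.FibClosed.isClosed_singleton_of_isClosed_asFiber g.left u hcl1 hs
  have : u' = u := by
    have := huu'.mem_closure
    rw [hcl.closure_eq] at this
    exact this
  show x' = x
  rw [← hu', ← hu, this]

theorem closedImmersion_of_section_of_decent (X : AlgSp.Space S) (hX : IsDecent X.obj)
    (k : Type u) [Field k] (σ : Spec (CommRingCat.of k) ⟶ S)
    (p : (yon S).obj (Over.mk σ) ⟶ X.obj) (r : X.obj ⟶ (yon S).obj (Over.mk σ))
    (hpr : p ≫ r = 𝟙 _) : RepWith @IsClosedImmersion p := by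
  classical
  have hcl := isClosed_point_of_section_of_decent X hX k σ p r hpr (IsLocalRing.closedPoint k)
  obtain ⟨q, hq, hqc⟩ := Groth.Agent.S10359.result X hX _ hcl
  haveI hqm : Mono q.toHom := Groth.Agent.S9928.mono_of_repWith @IsClosedImmersion
    (fun _ _ f hf => by haveI := hf; infer_instance) q.toHom hqc
  let Zq : AlgSp.Space S := ⟨(yon S).obj q.pt, IsAlgSpace.yon_obj _⟩
  let iq : Zq ⟶ X := ObjectProperty.homMk q.toHom
  haveI : Mono iq.hom := hqm
  have hx1 : Points.ofPt p ((⊥ : PrimeSpectrum k) : ↥(Over.mk σ).left) ∈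
      Set.range (Points.map iq.hom) := by
    refine ⟨Points.ofScheme q.pt (IsLocalRing.closedPoint q.K), ?_⟩
    rw [← Points.ofPt_eq_map_ofScheme]
    show Points.ofPt q.toHom _ = _
    rw [Points.ofPt_toHom, hq]
    congr 1
    exact (inferInstance : Subsingleton (PrimeSpectrum k)).elim _ _
  obtain ⟨d0, hd0⟩ := Groth.Agent.Lib.Helper12.ResidualFactor.exists_factor_fieldPoint iq k
    σ p hx1
  obtain ⟨d, hd⟩ := (yon S).map_surjective d0
  have hdq : (yon S).map d ≫ q.toHom = p := by rw [hd]; exact hd0
  obtain ⟨ρ, hρ⟩ := (yon S).map_surjective (q.toHom ≫ r)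
  have hdρ : d ≫ ρ = 𝟙 _ := by
    apply (yon S).map_injective
    rw [Functor.map_comp, hρ, ← Category.assoc, hdq, hpr]
    exact ((yon S).map_id _).symm
  have hdρ' : d.left ≫ ρ.left = 𝟙 _ := by
    rw [← Over.comp_left, hdρ]
    rfl
  let ψ : CommRingCat.of q.K ⟶ CommRingCat.of k := Spec.preimage d.left
  have hψ : Spec.map ψ = d.left := Spec.map_preimage _
  let ρ' : CommRingCat.of k ⟶ CommRingCat.of q.K := Spec.preimage ρ.left
  have hρ' : Spec.map ρ' = ρ.left := Spec.map_preimage _
  have h2 : ρ' ≫ ψ = 𝟙 _ := by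
    apply Spec.map_injective
    rw [Spec.map_comp, hψ, hρ', Spec.map_id]
    exact hdρ'
  have hsurj : Function.Surjective ψ.hom := by
    intro y
    refine ⟨ρ'.hom y, ?_⟩
    have h3 := congrArg (fun m => m.hom y) h2
    exact h3
  haveI : IsClosedImmersion d.left := by
    rw [← hψ]; exact IsClosedImmersion.spec_of_surjective ψ hsurj
  rw [← hdq]
  exact (RepWith @IsClosedImmersion).comp_mem _ _
    ((repWith_yon_map_iff _ d).2 inferInstance) hqc

end Groth.Agent.Lib.H5bSecClosed
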