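import Mathlib
import Groth.Prelude
import Groth.Agent.S9921
import Groth.Agent.S9900

/-!
# From properties of the relative diagonal to properties of the diagonal over the base (helper5)

* `repWith_diag_of_mor`: if the relative diagonal of `f : X ⟶ Y` has `P` and the diagonal of `Y`
  over `S` has `P`, then so does the diagonal of `X` over `S`.
* `exists_section_residueField`: for a field `k`, the identity of `Spec k` written through the
  residue field of its point.
-/

set_option autoImplicit false
set_option linter.style.haveILetI false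
universe u
open CategoryTheory CategoryTheory.Limits AlgebraicGeometry

namespace Groth.Agent.Lib.H5bSepMor

open AlgSp Groth.Agent.S9900

variable {S : Scheme.{u}}

lemma repWith_diag_of_mor (P : MorphismProperty Scheme.{u}) [P.IsStableUnderBaseChange]
    [P.IsStableUnderComposition] {X Y : AlgSp.Sp S}
    (f : X ⟶ Y) (hf : AlgSp.RepWith P (pullback.diagonal f))
    (hYs : AlgSp.RepWith P (Limits.diag Y)) : AlgSp.RepWith P (Limits.diag X) := by
  refine Groth.Agent.S9921.repWith_diag_of_isEqLocus P (fun {T} a b => ?_)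
  obtain ⟨EY, eY, heY⟩ := exists_isEqLocus hYs.1 (a ≫ f) (b ≫ f)
  have hPY : P eY.left := Groth.Agent.S9921.property_of_isEqLocus hYs heY
  haveI : Mono eY := heY.1
  have hab : ((AlgSp.yon S).map eY ≫ a) ≫ f = ((AlgSp.yon S).map eY ≫ b) ≫ f := by
    rw [Category.assoc, Category.assoc]
    exact heY.eq
  obtain ⟨E, e, pr, sq⟩ := hf.1 (pullback.lift _ _ hab)
  have hPe : P e.left := hf.2 _ _ e sq
  have h1 : pr = (AlgSp.yon S).map e ≫ (AlgSp.yon S).map eY ≫ a := by
    have := congrArg (· ≫ pullback.fst f f) sq.w
    simp only [Category.assoc, pullback.diagonal_fst, Category.comp_id] at this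
    rw [this, pullback.lift_fst]
  have h2 : pr = (AlgSp.yon S).map e ≫ (AlgSp.yon S).map eY ≫ b := by
    have := congrArg (· ≫ pullback.snd f f) sq.w
    simp only [Category.assoc, pullback.diagonal_snd, Category.comp_id] at this
    rw [this, pullback.lift_snd]
  haveI : Mono (pullback.diagonal f) := inferInstance
  haveI : Mono ((AlgSp.yon S).map e) := sq.mono_snd_of_mono
  haveI : Mono e := (AlgSp.yon S).mono_of_mono_map inferInstance
  refine ⟨E, e ≫ eY, ⟨mono_comp _ _, fun T' t => ⟨fun ht => ?_, ?_⟩⟩, ?_⟩
  · obtain ⟨t1, rfl⟩ := (heY.2 T' t).1 (by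
      rw [← Category.assoc, ht, Category.assoc])
    have hc : (AlgSp.yon S).map t1 ≫ pullback.lift _ _ hab =
        ((AlgSp.yon S).map t1 ≫ (AlgSp.yon S).map eY ≫ a) ≫ pullback.diagonal f := by
      apply pullback.hom_ext
      · rw [Category.assoc, pullback.lift_fst, Category.assoc, pullback.diagonal_fst, Category.comp_id]
      · rw [Category.assoc, pullback.lift_snd, Category.assoc, pullback.diagonal_snd, Category.comp_id,
          ← Functor.map_comp_assoc, ← ht, Functor.map_comp_assoc]
    obtain ⟨l, -, hl2⟩ := sq.exists_lift _ _ hc.symm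
    obtain ⟨t', rfl⟩ := (AlgSp.yon S).map_surjective l
    refine ⟨t', ?_⟩
    rw [← Category.assoc]
    congr 1
    apply (AlgSp.yon S).map_injective
    rw [Functor.map_comp]
    exact hl2
  · rintro ⟨t', rfl⟩
    rw [Functor.map_comp, Functor.map_comp, Category.assoc, Category.assoc, ← h1, h2,
      Category.assoc, Category.assoc]
  · rw [Over.comp_left]
    exact P.comp_mem _ _ hPe hPY

/-- the identity of `Spec k` through the residue field of its point. -/
lemma exists_section_residueField (k : Type u) [Field k] :
    ∃ (s : ↥(Spec (CommRingCat.of k))) (φ : (Spec (CommRingCat.of k)).residueField s ⟶ CommRingCat.of k),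
      Spec.map φ ≫ (Spec (CommRingCat.of k)).fromSpecResidueField s = 𝟙 _ ∧
        Function.Bijective φ.hom := by
  refine ⟨_, _, Scheme.descResidueField_stalkClosedPointTo_fromSpecResidueField k
    (Spec (CommRingCat.of k)) (𝟙 _), ?_⟩
  set φ := Scheme.descResidueField (Scheme.stalkClosedPointTo (𝟙 (Spec (CommRingCat.of k)))) with hφ
  have heq := Scheme.descResidueField_stalkClosedPointTo_fromSpecResidueField k
    (Spec (CommRingCat.of k)) (𝟙 _)
  refine ⟨φ.hom.injective, ?_⟩
  obtain ⟨ι, hι⟩ := Spec.map_surjective ((Spec (CommRingCat.of k)).fromSpecResidueField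
    ((𝟙 (Spec (CommRingCat.of k)) : _ ⟶ _) (IsLocalRing.closedPoint k)))
  have heq' : Spec.map (ι ≫ φ) = Spec.map (𝟙 (CommRingCat.of k)) := by
    rw [Spec.map_comp, hι, Spec.map_id]
    exact heq
  have h2 : ι ≫ φ = 𝟙 _ := Spec.map_injective heq'
  intro x
  refine ⟨ι.hom x, ?_⟩
  have h3 := congrArg (fun m => m.hom x) h2
  exact h3

end Groth.Agent.Lib.H5bSepMor
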