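import Mathlib
import Groth.Prelude
import Groth.Agent.S9921
import Groth.Agent.S9900

/-!
# Diagonals and jointly monomorphic pairs (helper5)

* `repWith_diag_of_jointly_mono`: if `f₁ : X ⟶ Y₁`, `f₂ : X ⟶ Y₂` are jointly monomorphic and the
  diagonals of `Y₁`, `Y₂` over `S` have `P`, then so does the diagonal of `X`.
* `repWith_of_comp_mono`: if `f ≫ g` has `RepWith P` and `g` is a monomorphism, `f` has `RepWith P`.
-/

set_option autoImplicit false
set_option linter.style.haveILetI false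
universe u
open CategoryTheory CategoryTheory.Limits AlgebraicGeometry

namespace Groth.Agent.Lib.H5bSepMor

open AlgSp Groth.Agent.S9900

variable {S : Scheme.{u}}

lemma repWith_diag_of_jointly_mono (P : MorphismProperty Scheme.{u}) [P.IsStableUnderBaseChange]
    [P.IsStableUnderComposition] {X Y₁ Y₂ : AlgSp.Sp S} (f₁ : X ⟶ Y₁) (f₂ : X ⟶ Y₂)
    (hmono : ∀ {T : AlgSp.Sp S} (a b : T ⟶ X), a ≫ f₁ = b ≫ f₁ → a ≫ f₂ = b ≫ f₂ → a = b)
    (h₁ : AlgSp.RepWith P (Limits.diag Y₁)) (h₂ : AlgSp.RepWith P (Limits.diag Y₂)) :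
    AlgSp.RepWith P (Limits.diag X) := by
  refine Groth.Agent.S9921.repWith_diag_of_isEqLocus P (fun {T} a b => ?_)
  obtain ⟨E₁, e₁, he₁⟩ := exists_isEqLocus h₁.1 (a ≫ f₁) (b ≫ f₁)
  have hP₁ : P e₁.left := Groth.Agent.S9921.property_of_isEqLocus h₁ he₁
  haveI : Mono e₁ := he₁.1
  obtain ⟨E₂, e₂, he₂⟩ := exists_isEqLocus h₂.1 (((AlgSp.yon S).map e₁ ≫ a) ≫ f₂)
    (((AlgSp.yon S).map e₁ ≫ b) ≫ f₂)
  have hP₂ : P e₂.left := Groth.Agent.S9921.property_of_isEqLocus h₂ he₂
  haveI : Mono e₂ := he₂.1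
  refine ⟨E₂, e₂ ≫ e₁, ⟨mono_comp _ _, fun T' t => ⟨fun ht => ?_, ?_⟩⟩, ?_⟩
  · obtain ⟨t1, rfl⟩ := (he₁.2 T' t).1 (by
      rw [← Category.assoc, ht, Category.assoc])
    have ht' : (AlgSp.yon S).map t1 ≫ (AlgSp.yon S).map e₁ ≫ a =
        (AlgSp.yon S).map t1 ≫ (AlgSp.yon S).map e₁ ≫ b := by
      simpa only [Functor.map_comp, Category.assoc] using ht
    obtain ⟨t2, rfl⟩ := (he₂.2 T' t1).1 (by
      have := congrArg (· ≫ f₂) ht'
      simpa only [Category.assoc] using this)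
    exact ⟨t2, (Category.assoc _ _ _).symm⟩
  · rintro ⟨t', rfl⟩
    apply hmono
    · have h3 := he₁.eq
      simp only [Functor.map_comp, Category.assoc]
      rw [h3]
    · have h3 := he₂.eq
      simp only [Category.assoc] at h3
      simp only [Functor.map_comp, Category.assoc]
      rw [h3]
  · rw [Over.comp_left]
    exact P.comp_mem _ _ hP₂ hP₁

/-- cancellation of a monomorphism on the right. -/
lemma repWith_of_comp_mono (P : MorphismProperty Scheme.{u}) [P.IsStableUnderBaseChange]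
    {X Y Z : AlgSp.Sp S} (f : X ⟶ Y) (g : Y ⟶ Z) [Mono g] (h : AlgSp.RepWith P (f ≫ g)) :
    AlgSp.RepWith P f := by
  have sq : IsPullback (𝟙 X) f (f ≫ g) g := by
    refine ⟨⟨by rw [Category.id_comp]⟩, ⟨PullbackCone.IsLimit.mk _ (fun s => s.fst) ?_ ?_ ?_⟩⟩
    · intro s
      exact Category.comp_id _
    · intro s
      rw [← cancel_mono g, Category.assoc]
      exact s.condition
    · intro s m hm1 _
      rw [← hm1]
      exact (Category.comp_id _).symm
  exact MorphismProperty.of_isPullback (P := AlgSp.RepWith P) sq h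

end Groth.Agent.Lib.H5bSepMor
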