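import Mathlib
import Groth.Prelude.Def_AlgSp
import Groth.Agent.Lib.H5bShriek

/-!
# Extension by the empty set for fppf sheaves, part 2 (helper5)

* `Shriek g F H`: the data exhibiting a sheaf `H` over `S'` as "the sheaf `F` over `S` viewed over
  `S'`" (maps from schemes over `S'` to `H` are maps from schemes over `S` to `F`);
* `Shriek.repWith_lam`, `Shriek.repWith_of_lam`, `Shriek.isAlgSpace`, `Shriek.isAlgSpace_of`;
* `shriekJ`: the structure for the concrete extension by the empty set `JSh g F`.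
-/

set_option autoImplicit false
set_option linter.style.haveILetI false
universe u

namespace Groth.Agent.Lib.H5bShriek

open CategoryTheory CategoryTheory.Limits AlgebraicGeometry Opposite MorphismProperty
open Groth.Agent.S13210 Groth.Agent.S9897 Groth.Agent.S9893
open Groth.Agent.Lib.Helper12.OpenSub Groth.Agent.Lib.Helper12.ZarGlue

variable {S S' : Scheme.{u}} (g : S ⟶ S')

/-- `H` over `S'` is `F` over `S` viewed over `S'`. -/
structure Shriek (F : AlgSp.Sp S) (H : AlgSp.Sp S') where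
  /-- the structure map -/
  π : H ⟶ hS g
  /-- transport of points -/
  lam : ∀ {U : Over S}, ((AlgSp.yon S).obj U ⟶ F) → ((AlgSp.yon S').obj ((Over.map g).obj U) ⟶ H)
  lam_π : ∀ {U : Over S} (p : (AlgSp.yon S).obj U ⟶ F), lam p ≫ π = (AlgSp.yon S').map (tau g U)
  lam_inj : ∀ {U : Over S} (p₁ p₂ : (AlgSp.yon S).obj U ⟶ F), lam p₁ = lam p₂ → p₁ = p₂
  map_lam : ∀ {U U' : Over S} (u : U' ⟶ U) (p : (AlgSp.yon S).obj U ⟶ F),
    (AlgSp.yon S').map ((Over.map g).map u) ≫ lam p = lam ((AlgSp.yon S).map u ≫ p)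
  exists_lam : ∀ {T' : Over S'} (ξ' : (AlgSp.yon S').obj T' ⟶ H),
    ∃ (T : Over S) (ι : (Over.map g).obj T ≅ T') (ξ : (AlgSp.yon S).obj T ⟶ F),
      (AlgSp.yon S').map ι.hom ≫ ξ' = lam ξ

namespace Shriek

variable {g} {F : AlgSp.Sp S} {H : AlgSp.Sp S'} (σ : Shriek g F H)

/-- transfer of relative representability from `S` to `S'`. -/
theorem repWith_lam (P : MorphismProperty Scheme.{u}) [P.RespectsIso]
    {U : Over S} (p : (AlgSp.yon S).obj U ⟶ F) (hp : AlgSp.RepWith P p) :
    AlgSp.RepWith P (σ.lam p) := by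
  have : (P.inverseImage (Over.forget S')).RespectsIso := RespectsIso.inverseImage P _
  apply MorphismProperty.relative.of_exists
  intro T' ξ'
  obtain ⟨T, ι, ξ, hξ⟩ := σ.exists_lam ξ'
  have hξ' : ξ' = (AlgSp.yon S').map ι.inv ≫ σ.lam ξ := by
    rw [← hξ, ← Category.assoc, ← CategoryTheory.Functor.map_comp, Iso.inv_hom_id,
      CategoryTheory.Functor.map_id, Category.id_comp]
  let V : Over S := hp.rep.pullback ξ
  obtain ⟨u, hu⟩ := (AlgSp.yon S).map_surjective (hp.rep.fst ξ)
  let snd₀ : V ⟶ T := hp.rep.snd ξ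
  have sq : IsPullback ((AlgSp.yon S).map u) ((AlgSp.yon S).map snd₀) p ξ := by
    rw [hu]; exact hp.rep.isPullback ξ
  have hP : P snd₀.left := hp.property_snd ξ
  refine ⟨(Over.map g).obj V, (AlgSp.yon S').map ((Over.map g).map u),
    (Over.map g).map snd₀ ≫ ι.hom, ?_, ?_⟩
  swap
  · show P (snd₀.left ≫ ι.hom.left)
    haveI : IsIso ι.hom.left := (Over.forget S').map_isIso ι.hom
    exact MorphismProperty.RespectsIso.postcomp P ι.hom.left snd₀.left hP
  have w : (AlgSp.yon S').map ((Over.map g).map u) ≫ σ.lam p =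
      (AlgSp.yon S').map ((Over.map g).map snd₀ ≫ ι.hom) ≫ ξ' := by
    rw [σ.map_lam, sq.w, ← σ.map_lam, CategoryTheory.Functor.map_comp, Category.assoc, hξ]
  apply isPullback_of_yon w
  intro W' b c hbc
  obtain ⟨β, rfl⟩ := (AlgSp.yon S').map_surjective b
  obtain ⟨γ, rfl⟩ := (AlgSp.yon S').map_surjective c
  -- `γ' : W' ⟶ T/S'`
  let γ' : W' ⟶ (Over.map g).obj T := γ ≫ ι.inv
  have hbc' : (AlgSp.yon S').map β ≫ σ.lam p = (AlgSp.yon S').map γ' ≫ σ.lam ξ := by
    rw [hbc, hξ', CategoryTheory.Functor.map_comp, Category.assoc]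
  have h1 : β ≫ tau g U = γ' ≫ tau g T := by
    apply (AlgSp.yon S').map_injective
    rw [CategoryTheory.Functor.map_comp, CategoryTheory.Functor.map_comp, ← σ.lam_π p,
      ← σ.lam_π ξ, ← Category.assoc, ← Category.assoc, hbc']
  have h1l : β.left ≫ U.hom = γ'.left ≫ T.hom := congrArg (fun m => m.left) h1
  let W : Over S := Over.mk (β.left ≫ U.hom)
  let κ : (Over.map g).obj W ≅ W' := Over.isoMk (Iso.refl _) (by
    show 𝟙 _ ≫ W'.hom = (β.left ≫ U.hom) ≫ g
    rw [Category.id_comp, Category.assoc]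
    exact (Over.w β).symm)
  let β₀ : W ⟶ U := Over.homMk β.left rfl
  let γ₀ : W ⟶ T := Over.homMk γ'.left h1l.symm
  have hβ : (Over.map g).map β₀ = κ.hom ≫ β := by
    apply Over.OverMorphism.ext
    show β.left = 𝟙 _ ≫ β.left
    exact (Category.id_comp _).symm
  have hγ : (Over.map g).map γ₀ = κ.hom ≫ γ' := by
    apply Over.OverMorphism.ext
    show γ'.left = 𝟙 _ ≫ γ'.left
    exact (Category.id_comp _).symm
  have h3 : (AlgSp.yon S).map β₀ ≫ p = (AlgSp.yon S).map γ₀ ≫ ξ := by
    apply σ.lam_inj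
    rw [← σ.map_lam, ← σ.map_lam, hβ, hγ, CategoryTheory.Functor.map_comp,
      CategoryTheory.Functor.map_comp, Category.assoc, Category.assoc, hbc']
  obtain ⟨a', ha'1, ha'2⟩ := sq.exists_lift _ _ h3
  obtain ⟨a₀, rfl⟩ := (AlgSp.yon S).map_surjective a'
  have ha1 : a₀ ≫ u = β₀ := (AlgSp.yon S).map_injective (by
    rw [CategoryTheory.Functor.map_comp]; exact ha'1)
  have ha2 : a₀ ≫ snd₀ = γ₀ := (AlgSp.yon S).map_injective (by
    rw [CategoryTheory.Functor.map_comp]; exact ha'2)
  have hγι : γ' ≫ ι.hom = γ := by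
    show (γ ≫ ι.inv) ≫ ι.hom = γ
    rw [Category.assoc, Iso.inv_hom_id, Category.comp_id]
  refine ⟨(AlgSp.yon S').map (κ.inv ≫ (Over.map g).map a₀), ⟨?_, ?_⟩, ?_⟩
  · rw [← CategoryTheory.Functor.map_comp, Category.assoc, ← CategoryTheory.Functor.map_comp, ha1,
      hβ, Iso.inv_hom_id_assoc]
  · rw [← CategoryTheory.Functor.map_comp, Category.assoc, ← Category.assoc ((Over.map g).map a₀),
      ← CategoryTheory.Functor.map_comp, ha2, hγ, Category.assoc, hγι, Iso.inv_hom_id_assoc]
  · intro a₂ ⟨e1, e2⟩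
    obtain ⟨α, rfl⟩ := (AlgSp.yon S').map_surjective a₂
    have e1' : α ≫ (Over.map g).map u = β := (AlgSp.yon S').map_injective (by
      rw [CategoryTheory.Functor.map_comp]; exact e1)
    have e2' : α ≫ (Over.map g).map snd₀ ≫ ι.hom = γ := (AlgSp.yon S').map_injective (by
      rw [CategoryTheory.Functor.map_comp]; exact e2)
    have e2'' : α ≫ (Over.map g).map snd₀ = γ' := by
      show _ = γ ≫ ι.inv
      rw [← e2', Category.assoc, Category.assoc, Iso.hom_inv_id, Category.comp_id]
    have e1l : α.left ≫ u.left = β.left := congrArg (fun m => m.left) e1'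
    have e2l : α.left ≫ snd₀.left = γ'.left := congrArg (fun m => m.left) e2''
    let α₀ : W ⟶ V := Over.homMk α.left (by
      show α.left ≫ V.hom = β.left ≫ U.hom
      rw [← e1l, Category.assoc, Over.w u])
    have k1 : α₀ ≫ u = β₀ := by
      apply Over.OverMorphism.ext; exact e1l
    have k2 : α₀ ≫ snd₀ = γ₀ := by
      apply Over.OverMorphism.ext; exact e2l
    have key : (AlgSp.yon S).map α₀ = (AlgSp.yon S).map a₀ := by
      apply sq.hom_ext
      · rw [← CategoryTheory.Functor.map_comp, ← CategoryTheory.Functor.map_comp, k1, ha1]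
      · rw [← CategoryTheory.Functor.map_comp, ← CategoryTheory.Functor.map_comp, k2, ha2]
    have key' := (AlgSp.yon S).map_injective key
    congr 1
    apply Over.OverMorphism.ext
    show α.left = 𝟙 _ ≫ a₀.left
    rw [Category.id_comp]
    exact congrArg (fun m => m.left) key'

/-- transfer of relative representability from `S'` to `S`. -/
theorem repWith_of_lam (P : MorphismProperty Scheme.{u}) [P.RespectsIso]
    {U : Over S} (p : (AlgSp.yon S).obj U ⟶ F) (hp : AlgSp.RepWith P (σ.lam p)) :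
    AlgSp.RepWith P p := by
  have : (P.inverseImage (Over.forget S)).RespectsIso := RespectsIso.inverseImage P _
  apply MorphismProperty.relative.of_exists
  intro T ξ
  let V' : Over S' := hp.rep.pullback (σ.lam ξ)
  obtain ⟨v, hv⟩ := (AlgSp.yon S').map_surjective (hp.rep.fst (σ.lam ξ))
  let snd' : V' ⟶ (Over.map g).obj T := hp.rep.snd (σ.lam ξ)
  have sq' : IsPullback ((AlgSp.yon S').map v) ((AlgSp.yon S').map snd') (σ.lam p) (σ.lam ξ) := by
    rw [hv]; exact hp.rep.isPullback (σ.lam ξ)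
  have hP : P snd'.left := hp.property_snd (σ.lam ξ)
  have h1 : v ≫ tau g U = snd' ≫ tau g T := by
    apply (AlgSp.yon S').map_injective
    rw [CategoryTheory.Functor.map_comp, CategoryTheory.Functor.map_comp, ← σ.lam_π p,
      ← σ.lam_π ξ, ← Category.assoc, ← Category.assoc, sq'.w]
  have h1l : v.left ≫ U.hom = snd'.left ≫ T.hom := congrArg (fun m => m.left) h1
  let V : Over S := Over.mk (snd'.left ≫ T.hom)
  let e : (Over.map g).obj V ≅ V' := Over.isoMk (Iso.refl _) (by
    show 𝟙 _ ≫ V'.hom = (snd'.left ≫ T.hom) ≫ g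
    rw [Category.id_comp, Category.assoc]
    exact (Over.w snd').symm)
  let s₀ : V ⟶ T := Over.homMk snd'.left rfl
  let v₀ : V ⟶ U := Over.homMk v.left h1l
  have hs₀ : (Over.map g).map s₀ = e.hom ≫ snd' := by
    apply Over.OverMorphism.ext
    show snd'.left = 𝟙 _ ≫ snd'.left
    exact (Category.id_comp _).symm
  have hv₀ : (Over.map g).map v₀ = e.hom ≫ v := by
    apply Over.OverMorphism.ext
    show v.left = 𝟙 _ ≫ v.left
    exact (Category.id_comp _).symm
  refine ⟨V, (AlgSp.yon S).map v₀, s₀, ?_, hP⟩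
  have w : (AlgSp.yon S).map v₀ ≫ p = (AlgSp.yon S).map s₀ ≫ ξ := by
    apply σ.lam_inj
    rw [← σ.map_lam, ← σ.map_lam, hv₀, hs₀, CategoryTheory.Functor.map_comp,
      CategoryTheory.Functor.map_comp, Category.assoc, Category.assoc, sq'.w]
  apply isPullback_of_yon w
  intro W b c hbc
  obtain ⟨β, rfl⟩ := (AlgSp.yon S).map_surjective b
  obtain ⟨γ, rfl⟩ := (AlgSp.yon S).map_surjective c
  have hbc' : (AlgSp.yon S').map ((Over.map g).map β) ≫ σ.lam p =
      (AlgSp.yon S').map ((Over.map g).map γ) ≫ σ.lam ξ := by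
    rw [σ.map_lam, σ.map_lam, hbc]
  obtain ⟨a', ha'1, ha'2⟩ := sq'.exists_lift _ _ hbc'
  obtain ⟨α, rfl⟩ := (AlgSp.yon S').map_surjective a'
  have hα1 : α ≫ v = (Over.map g).map β := (AlgSp.yon S').map_injective (by
    rw [CategoryTheory.Functor.map_comp]; exact ha'1)
  have hα2 : α ≫ snd' = (Over.map g).map γ := (AlgSp.yon S').map_injective (by
    rw [CategoryTheory.Functor.map_comp]; exact ha'2)
  have hα1l : α.left ≫ v.left = β.left := congrArg (fun m => m.left) hα1
  have hα2l : α.left ≫ snd'.left = γ.left := congrArg (fun m => m.left) hα2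
  let a : W ⟶ V := Over.homMk α.left (by
    show α.left ≫ snd'.left ≫ T.hom = W.hom
    rw [← Category.assoc, hα2l]
    exact Over.w γ)
  refine ⟨(AlgSp.yon S).map a, ⟨?_, ?_⟩, ?_⟩
  · rw [← CategoryTheory.Functor.map_comp]
    congr 1
    apply Over.OverMorphism.ext
    exact hα1l
  · rw [← CategoryTheory.Functor.map_comp]
    congr 1
    apply Over.OverMorphism.ext
    exact hα2l
  · intro a₂ ⟨e1, e2⟩
    obtain ⟨a₂, rfl⟩ := (AlgSp.yon S).map_surjective a₂
    have e1' : a₂ ≫ v₀ = β := (AlgSp.yon S).map_injective (by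
      rw [CategoryTheory.Functor.map_comp]; exact e1)
    have e2' : a₂ ≫ s₀ = γ := (AlgSp.yon S).map_injective (by
      rw [CategoryTheory.Functor.map_comp]; exact e2)
    have key : (AlgSp.yon S').map ((Over.map g).map a₂ ≫ e.hom) = (AlgSp.yon S').map α := by
      apply sq'.hom_ext
      · rw [← CategoryTheory.Functor.map_comp, ← CategoryTheory.Functor.map_comp, Category.assoc,
          ← hv₀, ← CategoryTheory.Functor.map_comp, e1', hα1]
      · rw [← CategoryTheory.Functor.map_comp, ← CategoryTheory.Functor.map_comp, Category.assoc,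
          ← hs₀, ← CategoryTheory.Functor.map_comp, e2', hα2]
    have key' := (AlgSp.yon S').map_injective key
    congr 1
    apply Over.OverMorphism.ext
    have h3 : ((Over.map g).map a₂ ≫ e.hom).left = α.left := congrArg (fun m => m.left) key'
    have h4 : a₂.left ≫ 𝟙 _ = α.left := h3
    rw [Category.comp_id] at h4
    exact h4

include σ in
/-- if `F` is an algebraic space over `S`, then `H` is an algebraic space over `S'`. -/
theorem isAlgSpace (hF : AlgSp.IsAlgSpace F) : AlgSp.IsAlgSpace H where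
  diag := by
    apply Functor.relativelyRepresentable.diag_of_map_from_obj
    intro T' ξ'
    obtain ⟨T, ι, ξ, hξ⟩ := σ.exists_lam ξ'
    have hξ' : ξ' = (AlgSp.yon S').map ι.inv ≫ σ.lam ξ := by
      rw [← hξ, ← Category.assoc, ← CategoryTheory.Functor.map_comp, Iso.inv_hom_id,
        CategoryTheory.Functor.map_id, Category.id_comp]
    rw [hξ']
    exact MorphismProperty.RespectsIso.precomp _ _ _
      (σ.repWith_lam ⊤ ξ ⟨hF.representable_from_yon ξ, fun _ _ _ _ _ _ => trivial⟩).rep
  atlas := by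
    obtain ⟨U, p, h1, h2⟩ := hF.atlas
    exact ⟨(Over.map g).obj U, σ.lam p, σ.repWith_lam _ p h1, σ.repWith_lam _ p h2⟩

include σ in
/-- if `H` is an algebraic space over `S'`, then `F` is an algebraic space over `S`. -/
theorem isAlgSpace_of (hH : AlgSp.IsAlgSpace H) : AlgSp.IsAlgSpace F where
  diag := by
    apply Functor.relativelyRepresentable.diag_of_map_from_obj
    intro T ξ
    exact (σ.repWith_of_lam ⊤ ξ
      ⟨hH.representable_from_yon (σ.lam ξ), fun _ _ _ _ _ _ => trivial⟩).rep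
  atlas := by
    obtain ⟨U', p', h1, h2⟩ := hH.atlas
    obtain ⟨U, ι, p, hp⟩ := σ.exists_lam p'
    refine ⟨U, p, σ.repWith_of_lam _ p ?_, σ.repWith_of_lam _ p ?_⟩
    · rw [← hp]; exact MorphismProperty.RespectsIso.precomp _ _ _ h1
    · rw [← hp]; exact MorphismProperty.RespectsIso.precomp _ _ _ h2

end Shriek

section J

variable (F : AlgSp.Sp S)

lemma yEquiv_theta {T : Over S} {G : AlgSp.Sp S'} (q : (AlgSp.yon S).obj T ⟶ (Φ g).obj G) :
    yEquiv ((Over.map g).obj T) G (theta g T G q) = yEquiv T ((Φ g).obj G) q :=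
  Equiv.apply_symm_apply _ _

lemma yEquiv_yon_map {A B : Over S'} (f : A ⟶ B) :
    yEquiv A ((AlgSp.yon S').obj B) ((AlgSp.yon S').map f) = ULift.up f := by
  show ((AlgSp.yon S').map f).hom.app (op A) (ULift.up (𝟙 A)) = ULift.up f
  show ULift.up (𝟙 A ≫ f) = ULift.up f
  rw [Category.id_comp]

/-- the transport of points for the concrete extension by the empty set. -/
noncomputable def lamJ {U : Over S} (p : (AlgSp.yon S).obj U ⟶ F) :
    (AlgSp.yon S').obj ((Over.map g).obj U) ⟶ JSh g F :=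
  theta g U (JSh g F) (p ≫ unitJ g F)

lemma yEquiv_lamJ {U : Over S} (p : (AlgSp.yon S).obj U ⟶ F) :
    yEquiv _ _ (lamJ g F p) = (⟨tau g U, yEquiv U F p⟩ : JSec g F ((Over.map g).obj U)) := by
  rw [lamJ, yEquiv_theta, yEquiv_comp]
  rfl

/-- the concrete extension by the empty set is an extension by the empty set. -/
noncomputable def shriekJ : Shriek g F (JSh g F) where
  π := piSh g F
  lam p := lamJ g F p
  lam_π p := by
    apply (yEquiv _ _).injective
    rw [yEquiv_comp, yEquiv_lamJ, yEquiv_yon_map]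
    rfl
  lam_inj p₁ p₂ h := by
    apply (yEquiv _ _).injective
    have h1 := congrArg (yEquiv _ _) h
    rw [yEquiv_lamJ, yEquiv_lamJ] at h1
    exact eq_of_heq (JSec.mk.inj h1).2
  map_lam u p := by
    rw [lamJ, lamJ, ← theta_map_comp, Category.assoc]
  exists_lam {T'} ξ' := by
    let a : JSec g F T' := yEquiv T' (JSh g F) ξ'
    refine ⟨Over.mk a.t.left, isoOfHom g a.t, (yEquiv _ F).symm a.x, ?_⟩
    apply (yEquiv _ _).injective
    rw [yEquiv_lamJ, Equiv.apply_symm_apply, ← map_yEquiv]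
    exact JSec.res_iso g F a

end J

section Universal

/-- a morphism `u : A ⟶ R B` which is universal is the adjunct of an isomorphism `L A ≅ B`. -/
lemma isIso_of_universal {C D : Type*} [Category C] [Category D] {L : C ⥤ D} {R : D ⥤ C}
    (adj : L ⊣ R) {A : C} {B : D} (u : A ⟶ R.obj B)
    (hu : ∀ G : D, Function.Bijective (fun β : B ⟶ G => u ≫ R.map β)) :
    IsIso ((adj.homEquiv A B).symm u) := by
  set ψ := (adj.homEquiv A B).symm u with hψdef
  have hψ : adj.unit.app A ≫ R.map ψ = u := (adj.unit_comp_map_eq_iff ψ u).2 rfl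
  obtain ⟨v, hv⟩ := (hu (L.obj A)).2 (adj.unit.app A)
  have hv' : u ≫ R.map v = adj.unit.app A := hv
  refine ⟨v, ?_, ?_⟩
  · have e1 : adj.unit.app A ≫ R.map (ψ ≫ v) = adj.unit.app A := by
      rw [CategoryTheory.Functor.map_comp, ← Category.assoc, hψ, hv']
    have e2 : adj.unit.app A ≫ R.map (𝟙 (L.obj A)) = adj.unit.app A := by
      rw [CategoryTheory.Functor.map_id]
      exact Category.comp_id _
    exact ((adj.unit_comp_map_eq_iff _ _).1 e1).trans ((adj.unit_comp_map_eq_iff _ _).1 e2).symm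
  · apply (hu B).1
    show u ≫ R.map (v ≫ ψ) = u ≫ R.map (𝟙 B)
    rw [CategoryTheory.Functor.map_comp, ← Category.assoc, hv', hψ, CategoryTheory.Functor.map_id,
      Category.comp_id]

lemma hom_ext_yon {A B : AlgSp.Sp S'} (f₁ f₂ : A ⟶ B)
    (h : ∀ (T' : Over S') (ξ' : (AlgSp.yon S').obj T' ⟶ A), ξ' ≫ f₁ = ξ' ≫ f₂) : f₁ = f₂ := by
  apply ObjectProperty.hom_ext
  ext T' x
  have h2 := congrArg (yEquiv _ B) (h T'.unop ((yEquiv _ A).symm x))
  rw [yEquiv_comp, yEquiv_comp, Equiv.apply_symm_apply] at h2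
  exact h2

variable (F : AlgSp.Sp S)

/-- the morphism out of the extension by the empty set attached to `F ⟶ j⁻¹G`. -/
noncomputable def descJ {G : AlgSp.Sp S'} (α : F ⟶ (Φ g).obj G) : JSh g F ⟶ G :=
  ObjectProperty.homMk
    { app := fun T' => ↾fun (a : JSec g F T'.unop) =>
        G.obj.map (isoOfHom g a.t).inv.op (α.hom.app (op (Over.mk a.t.left)) a.x)
      naturality := by
        intro T' T'' f
        ext (a : JSec g F T'.unop) : 3
        show G.obj.map _ (α.hom.app _ (F.obj.map _ a.x)) = G.obj.map _ (G.obj.map _ _)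
        rw [NatTrans.naturality_apply]
        show G.obj.map _ (G.obj.map ((Over.map g).map _).op _) = _
        refine (map_map_eq G _ _ (f.unop ≫ (isoOfHom g a.t).inv) ?_ _).trans
          (map_map_eq G _ _ (f.unop ≫ (isoOfHom g a.t).inv) ?_ _).symm
        · show 𝟙 _ ≫ f.unop.left = f.unop.left ≫ 𝟙 _
          rw [Category.id_comp, Category.comp_id]
        · rfl }

lemma unitJ_descJ {G : AlgSp.Sp S'} (α : F ⟶ (Φ g).obj G) :
    unitJ g F ≫ (Φ g).map (descJ g F α) = α := by
  apply ObjectProperty.hom_ext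
  ext T x
  show G.obj.map (isoOfHom g (tau g T.unop)).inv.op (α.hom.app (op T.unop) x) = α.hom.app T x
  exact map_eq_self G _ rfl _

theorem bijective_unitJ (G : AlgSp.Sp S') :
    Function.Bijective (fun β : JSh g F ⟶ G => unitJ g F ≫ (Φ g).map β) := by
  constructor
  · intro β₁ β₂ h
    have h' : unitJ g F ≫ (Φ g).map β₁ = unitJ g F ≫ (Φ g).map β₂ := h
    apply hom_ext_yon
    intro T' ξ'
    obtain ⟨T, ι, ξ, hξ⟩ := (shriekJ g F).exists_lam ξ'
    have key : ∀ β : JSh g F ⟶ G, (AlgSp.yon S').map ι.hom ≫ ξ' ≫ β =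
        theta g T G (ξ ≫ unitJ g F ≫ (Φ g).map β) := by
      intro β
      rw [← Category.assoc, hξ, ← Category.assoc ξ, theta_comp]
      rfl
    have h3 : (AlgSp.yon S').map ι.hom ≫ ξ' ≫ β₁ = (AlgSp.yon S').map ι.hom ≫ ξ' ≫ β₂ := by
      rw [key, key, h']
    haveI : IsIso ((AlgSp.yon S').map ι.hom) := Functor.map_isIso _ _
    exact (cancel_epi _).1 h3
  · intro α
    exact ⟨descJ g F α, unitJ_descJ g F α⟩

/-- the left adjoint of restriction. -/
noncomputable abbrev jShriek : AlgSp.Sp S ⥤ AlgSp.Sp S' :=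
  (Over.map g).sheafPullback (Type (u + 1)) (AlgSp.J S) (AlgSp.J S')

/-- the adjunction. -/
noncomputable abbrev jAdj : jShriek g ⊣ Φ g :=
  (Over.map g).sheafAdjunctionContinuous (Type (u + 1)) (AlgSp.J S) (AlgSp.J S')

instance : IsIso (((jAdj g).homEquiv F (JSh g F)).symm (unitJ g F)) :=
  isIso_of_universal (jAdj g) (unitJ g F) (bijective_unitJ g F)

/-- the abstract extension by the empty set is the concrete one. -/
noncomputable def psi : (jShriek g).obj F ≅ JSh g F :=
  asIso (((jAdj g).homEquiv F (JSh g F)).symm (unitJ g F))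

/-- the unit of a representable. -/
noncomputable def unitRep (X : Over S) :
    (AlgSp.yon S).obj X ⟶ (Φ g).obj ((AlgSp.yon S').obj ((Over.map g).obj X)) :=
  (theta g X _).symm (𝟙 _)

lemma unitRep_comp (X : Over S) {G : AlgSp.Sp S'} (β : (AlgSp.yon S').obj ((Over.map g).obj X) ⟶ G) :
    unitRep g X ≫ (Φ g).map β = (theta g X G).symm β := by
  apply (theta g X G).injective
  rw [theta_comp, unitRep, Equiv.apply_symm_apply, Equiv.apply_symm_apply, Category.id_comp]

instance (X : Over S) : IsIso (((jAdj g).homEquiv _ _).symm (unitRep g X)) :=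
  isIso_of_universal (jAdj g) (unitRep g X) (fun G => by
    have : (fun β : (AlgSp.yon S').obj ((Over.map g).obj X) ⟶ G => unitRep g X ≫ (Φ g).map β) =
        (theta g X G).symm := funext (fun β => unitRep_comp g X β)
    rw [this]
    exact (theta g X G).symm.bijective)

/-- `j_! h_X ≅ h_{X/S'}`. -/
noncomputable def phi (X : Over S) :
    (jShriek g).obj ((AlgSp.yon S).obj X) ≅ (AlgSp.yon S').obj ((Over.map g).obj X) :=
  asIso (((jAdj g).homEquiv _ _).symm (unitRep g X))

end Universal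

end Groth.Agent.Lib.H5bShriek
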