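import Mathlib
import Groth.Prelude.Def_AlgSp
import Groth.Agent.Lib.H5bShriek2

/-!
# Extension by the empty set for fppf sheaves, part 3 (helper5)

* `JMap`: functoriality of the concrete extension by the empty set `JSh g F` in `F`, and its
  compatibility `psi_natural` with the abstract left adjoint `jShriek g`;
* `JMap_injective`, `exists_JMap`: it is fully faithful as a functor to sheaves over `h_S`;
* `XiSh g H π`: the sheaf over `S` attached to a sheaf `H` over `S'` with a map `π` to `h_S`;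
* `counitJ`: the isomorphism `JSh g (XiSh g H π) ≅ H` over `h_S`;
* `XiSh_isAlgSpace`.
-/

set_option autoImplicit false
set_option linter.style.haveILetI false
universe u

namespace Groth.Agent.Lib.H5bShriek

open CategoryTheory CategoryTheory.Limits AlgebraicGeometry Opposite MorphismProperty
open Groth.Agent.S13210 Groth.Agent.S9897 Groth.Agent.S9893
open Groth.Agent.Lib.Helper12.OpenSub Groth.Agent.Lib.Helper12.ZarGlue

variable {S S' : Scheme.{u}} (g : S ⟶ S')

noncomputable section

section Functoriality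

variable {F G K : AlgSp.Sp S}

/-- functoriality of the concrete extension by the empty set. -/
def JMap (m : F ⟶ G) : JSh g F ⟶ JSh g G :=
  ObjectProperty.homMk
    { app := fun T' => ↾fun (a : JSec g F T'.unop) =>
        (⟨a.t, m.hom.app (op (Over.mk a.t.left)) a.x⟩ : JSec g G T'.unop)
      naturality := by
        intro T' T'' f
        ext (a : JSec g F T'.unop) : 3
        show (⟨f.unop ≫ a.t, m.hom.app _ (F.obj.map _ a.x)⟩ : JSec g G T''.unop) =
          ⟨f.unop ≫ a.t, G.obj.map _ (m.hom.app _ a.x)⟩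
        rw [NatTrans.naturality_apply] }

lemma JMap_app (m : F ⟶ G) {T' : Over S'} (a : JSec g F T') :
    (JMap g m).hom.app (op T') a = (⟨a.t, m.hom.app (op (Over.mk a.t.left)) a.x⟩ : JSec g G T') :=
  rfl

lemma JMap_id : JMap g (𝟙 F) = 𝟙 (JSh g F) := by
  apply ObjectProperty.hom_ext
  ext T' a
  rfl

lemma JMap_comp (m : F ⟶ G) (n : G ⟶ K) : JMap g (m ≫ n) = JMap g m ≫ JMap g n := by
  apply ObjectProperty.hom_ext
  ext T' a
  rfl

lemma JMap_pi (m : F ⟶ G) : JMap g m ≫ piSh g G = piSh g F := by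
  apply ObjectProperty.hom_ext
  ext T' a
  rfl

lemma unitJ_JMap (m : F ⟶ G) : unitJ g F ≫ (Φ g).map (JMap g m) = m ≫ unitJ g G := by
  apply ObjectProperty.hom_ext
  ext T x
  rfl

lemma psi_natural (m : F ⟶ G) :
    (jShriek g).map m ≫ (psi g G).hom = (psi g F).hom ≫ JMap g m := by
  apply ((jAdj g).homEquiv _ _).injective
  rw [Adjunction.homEquiv_naturality_left, Adjunction.homEquiv_naturality_right]
  show m ≫ (jAdj g).homEquiv _ _ (((jAdj g).homEquiv _ _).symm (unitJ g G)) =
    (jAdj g).homEquiv _ _ (((jAdj g).homEquiv _ _).symm (unitJ g F)) ≫ (Φ g).map (JMap g m)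
  rw [Equiv.apply_symm_apply, Equiv.apply_symm_apply, unitJ_JMap]

lemma JMap_injective {m₁ m₂ : F ⟶ G} (h : JMap g m₁ = JMap g m₂) : m₁ = m₂ := by
  apply ObjectProperty.hom_ext
  ext T x
  have h1 := congrArg (fun β : JSh g F ⟶ JSh g G =>
    β.hom.app (op ((Over.map g).obj T.unop)) (⟨tau g T.unop, x⟩ : JSec g F _)) h
  exact eq_of_heq (JSec.mk.inj h1).2

/-- morphisms of extensions by the empty set over `h_S` come from morphisms over `S`. -/
theorem exists_JMap (β : JSh g F ⟶ JSh g G) (hβ : β ≫ piSh g G = piSh g F) :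
    ∃ m : F ⟶ G, JMap g m = β := by
  let α : F ⟶ (Φ g).obj (JSh g G) := unitJ g F ≫ (Φ g).map β
  have hmem : ∀ (T : (Over S)ᵒᵖ) (x : F.obj.obj T),
      α.hom.app T x ∈ (xiSub g (JPre g G) (piJ g G)).obj T := by
    intro T x
    have h1 := congrArg (fun γ : JSh g F ⟶ hS g =>
      γ.hom.app (op ((Over.map g).obj T.unop)) (⟨tau g T.unop, x⟩ : JSec g F _)) hβ
    exact h1
  let m : F ⟶ G := ObjectProperty.homMk
    (Subfunctor.lift α.hom (by rintro T _ ⟨x, rfl⟩; exact hmem T x) ≫ (xiIso g G).hom)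
  refine ⟨m, ?_⟩
  apply (bijective_unitJ g F (JSh g G)).1
  show unitJ g F ≫ (Φ g).map (JMap g m) = α
  rw [unitJ_JMap]
  apply ObjectProperty.hom_ext
  ext T x
  exact congrArg Subtype.val
    ((xiEquiv g G T.unop).symm_apply_apply ⟨α.hom.app T x, hmem T x⟩)

end Functoriality

section Xi

variable (H : AlgSp.Sp S') (π : H ⟶ hS g)

lemma xiSub_isSheaf : Presheaf.IsSheaf (AlgSp.J S) (xiSub g H.obj π.hom).toFunctor := by
  have hsh : Presieve.IsSheaf (AlgSp.J S) ((Over.map g).op ⋙ H.obj) :=
    (isSheaf_iff_isSheaf_of_type _ _).1 ((Φ g).obj H).property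
  have hsep : Presieve.IsSheaf (AlgSp.J S) ((Over.map g).op ⋙ (hS g).obj) :=
    (isSheaf_iff_isSheaf_of_type _ _).1 ((Φ g).obj (hS g)).property
  rw [isSheaf_iff_isSheaf_of_type, Subfunctor.isSheaf_iff _ hsh]
  rintro ⟨T⟩ s hmem
  show π.hom.app (op ((Over.map g).obj T)) s = ULift.up (tau g T)
  refine (hsep.isSeparated _ hmem).ext ?_
  intro V f hf
  have h1 : π.hom.app (op ((Over.map g).obj V)) (H.obj.map ((Over.map g).map f).op s) =
      ULift.up (tau g V) := hf
  show (hS g).obj.map ((Over.map g).map f).op (π.hom.app _ s) =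
    ULift.up ((Over.map g).map f ≫ tau g T)
  rw [map_tau, ← h1, NatTrans.naturality_apply]

/-- the sheaf over `S` of sections of `H` lying over the structure maps. -/
def XiSh : AlgSp.Sp S := ⟨(xiSub g H.obj π.hom).toFunctor, xiSub_isSheaf g H π⟩

/-- the inclusion of `XiSh` into the restriction of `H`. -/
def xiIncl : XiSh g H π ⟶ (Φ g).obj H := ObjectProperty.homMk (xiSub g H.obj π.hom).ι

/-- the comparison map. -/
def counitJ : JSh g (XiSh g H π) ⟶ H := descJ g (XiSh g H π) (xiIncl g H π)

lemma counitJ_app {T' : Over S'} (a : JSec g (XiSh g H π) T') :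
    (counitJ g H π).hom.app (op T') a = H.obj.map (isoOfHom g a.t).inv.op a.x.1 := rfl

lemma pi_counitJ_app {T' : Over S'} (a : JSec g (XiSh g H π) T') :
    π.hom.app (op T') ((counitJ g H π).hom.app (op T') a) = ULift.up a.t := by
  rw [counitJ_app, NatTrans.naturality_apply]
  have h1 : π.hom.app (op ((Over.map g).obj (Over.mk a.t.left))) a.x.1 =
      ULift.up (tau g (Over.mk a.t.left)) := a.x.2
  refine (congrArg ((hS g).obj.map (isoOfHom g a.t).inv.op) h1).trans ?_
  show ULift.up ((isoOfHom g a.t).inv ≫ tau g (Over.mk a.t.left)) = _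
  rw [isoOfHom_inv_comp]

lemma counitJ_pi : counitJ g H π ≫ π = piSh g (XiSh g H π) := by
  apply ObjectProperty.hom_ext
  ext T' a
  exact pi_counitJ_app g H π a

lemma isIso_of_bijective {A B : AlgSp.Sp S'} (f : A ⟶ B)
    (h : ∀ T', Function.Bijective (f.hom.app T')) : IsIso f := by
  haveI : ∀ T', IsIso (f.hom.app T') := fun T' => (isIso_iff_bijective _).2 (h T')
  haveI : IsIso f.hom := NatIso.isIso_of_isIso_app _
  haveI : IsIso ((ObjectProperty.ι _).map f) := ‹IsIso f.hom›
  exact isIso_of_reflects_iso f (ObjectProperty.ι _)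

instance : IsIso (counitJ g H π) := by
  apply isIso_of_bijective
  rintro ⟨T'⟩
  constructor
  · intro a b hab
    have hab' : (counitJ g H π).hom.app (op T') a = (counitJ g H π).hom.app (op T') b := hab
    have ht : a.t = b.t := by
      have h1 := congrArg (π.hom.app (op T')) hab'
      rw [pi_counitJ_app, pi_counitJ_app] at h1
      exact congrArg ULift.down h1
    obtain ⟨t, x⟩ := a
    obtain ⟨t', x'⟩ := b
    dsimp only at ht
    subst ht
    rw [counitJ_app, counitJ_app] at hab'
    have h2 : x.1 = x'.1 := map_iso_injective H.obj (isoOfHom g t).symm hab'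
    have h3 : x = x' := Subtype.ext h2
    rw [h3]
  · intro y
    let t : T' ⟶ Over.mk g := (π.hom.app (op T') y).down
    have hmem : H.obj.map (isoOfHom g t).hom.op y ∈
        (xiSub g H.obj π.hom).obj (op (Over.mk t.left)) := by
      show π.hom.app _ (H.obj.map (isoOfHom g t).hom.op y) = ULift.up (tau g (Over.mk t.left))
      rw [NatTrans.naturality_apply]
      show ULift.up ((isoOfHom g t).hom ≫ t) = _
      rw [isoOfHom_hom_comp]
    refine ⟨(⟨t, ⟨_, hmem⟩⟩ : JSec g (XiSh g H π) T'), ?_⟩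
    show H.obj.map (isoOfHom g t).inv.op (H.obj.map (isoOfHom g t).hom.op y) = y
    rw [mc, Iso.inv_hom_id, mid]

/-- `j_!` of the restriction of `H` is `H`. -/
def counitIso : JSh g (XiSh g H π) ≅ H := asIso (counitJ g H π)

theorem XiSh_isAlgSpace (hH : AlgSp.IsAlgSpace H) : AlgSp.IsAlgSpace (XiSh g H π) :=
  (shriekJ g (XiSh g H π)).isAlgSpace_of (hH.of_iso (counitIso g H π).symm)

end Xi

end

end Groth.Agent.Lib.H5bShriek
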