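import Mathlib
import Groth.Prelude

/-!
# Local lifting of sections of smooth morphisms along arbitrary thickenings (helper5)

* `exists_ringHom_lift`: smooth ring maps lift along surjections with nil kernel;
* `exists_lift_affine`: all-affine scheme version;
* `exists_local_lift`: Zariski-local lifting for a smooth morphism of schemes along a
  surjective closed immersion.
-/

set_option autoImplicit false
universe u
open CategoryTheory CategoryTheory.Limits AlgebraicGeometry Opposite TopologicalSpace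

namespace Groth.Agent.Lib.H5bSmoothLift

/-- smooth ring maps lift along surjections with nil kernel. -/
theorem exists_ringHom_lift {A B C C₀ : Type u} [CommRing A] [CommRing B] [CommRing C]
    [CommRing C₀] (φ : A →+* B) (hφ : φ.Smooth) (π : C →+* C₀) (hπ : Function.Surjective π)
    (hnil : RingHom.ker π ≤ nilradical C) (α : A →+* C) (β : B →+* C₀)
    (h : β.comp φ = π.comp α) :
    ∃ γ : B →+* C, γ.comp φ = α ∧ π.comp γ = β := by
  let _ : Algebra A B := φ.toAlgebra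
  let _ : Algebra A C := α.toAlgebra
  have hsm : Algebra.Smooth A B := hφ
  obtain ⟨n, f, hf, s, hs⟩ := Algebra.FinitePresentation.out (R := A) (A := B)
  choose c hc using fun i : Fin n => hπ (β (f (MvPolynomial.X i)))
  let θ : MvPolynomial (Fin n) A →ₐ[A] C := MvPolynomial.aeval c
  have hθ : ∀ p, π (θ p) = β (f p) := by
    intro p
    have : (π.comp θ.toRingHom) = (β.comp f.toRingHom) := by
      apply MvPolynomial.ringHom_ext
      · intro a
        have e1 : θ (MvPolynomial.C a) = α a := by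
          rw [← MvPolynomial.algebraMap_eq, AlgHom.commutes]; rfl
        have e2 : f (MvPolynomial.C a) = φ a := by
          rw [← MvPolynomial.algebraMap_eq, AlgHom.commutes]; rfl
        change π (θ (MvPolynomial.C a)) = β (f (MvPolynomial.C a))
        rw [e1, e2]
        exact (RingHom.congr_fun h a).symm
      · intro i
        change π (θ (MvPolynomial.X i)) = β (f (MvPolynomial.X i))
        rw [MvPolynomial.aeval_X, hc]
    exact RingHom.congr_fun this p
  let J₀ : Ideal C := Ideal.span (θ '' (s : Set (MvPolynomial (Fin n) A)))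
  have hJ₀ : J₀ ≤ RingHom.ker π := by
    rw [Ideal.span_le]
    rintro _ ⟨p, hp, rfl⟩
    rw [SetLike.mem_coe, RingHom.mem_ker, hθ]
    have hpk : p ∈ RingHom.ker f.toRingHom := hs ▸ Ideal.subset_span hp
    rw [RingHom.mem_ker] at hpk
    have : f p = 0 := hpk
    rw [this, map_zero]
  have hnilp : IsNilpotent J₀ := by
    rw [Ideal.FG.isNilpotent_iff_le_nilradical]
    · exact hJ₀.trans hnil
    · exact Submodule.fg_span (s.finite_toSet.image _)
  have hker : ∀ p ∈ RingHom.ker f.toRingHom, θ p ∈ J₀ := by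
    intro p hp
    rw [← hs] at hp
    have := Ideal.mem_map_of_mem θ.toRingHom hp
    rwa [Ideal.map_span] at this
  let g₀ : MvPolynomial (Fin n) A →+* C ⧸ J₀ := (Ideal.Quotient.mk J₀).comp θ.toRingHom
  have hg₀ : RingHom.ker f.toRingHom ≤ RingHom.ker g₀ := by
    intro p hp
    rw [RingHom.mem_ker]
    exact Ideal.Quotient.eq_zero_iff_mem.2 (hker p hp)
  let θr : B →+* C ⧸ J₀ := f.toRingHom.liftOfSurjective hf ⟨g₀, hg₀⟩
  have hθr : ∀ p, θr (f p) = Ideal.Quotient.mk J₀ (θ p) := fun p =>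
    RingHom.liftOfRightInverse_comp_apply _ _ _ _ p
  let θb : B →ₐ[A] C ⧸ J₀ :=
    { θr with
      commutes' := fun a => by
        have e1 : algebraMap A B a = f (MvPolynomial.C a) := by
          rw [← MvPolynomial.algebraMap_eq, AlgHom.commutes]
        change θr (algebraMap A B a) = _
        rw [e1, hθr, ← MvPolynomial.algebraMap_eq, AlgHom.commutes]
        rfl }
  obtain ⟨ψ, hψ⟩ := Algebra.FormallySmooth.exists_lift J₀ hnilp θb
  refine ⟨ψ.toRingHom, ?_, ?_⟩
  · ext a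
    exact ψ.commutes a
  · ext b
    obtain ⟨p, rfl⟩ := hf b
    have e1 : Ideal.Quotient.mk J₀ (ψ (f p)) = Ideal.Quotient.mk J₀ (θ p) := by
      have := AlgHom.congr_fun hψ (f p)
      exact this.trans (hθr p)
    have e2 : ψ (f p) - θ p ∈ RingHom.ker π := hJ₀ (Ideal.Quotient.eq.1 e1)
    rw [RingHom.mem_ker, map_sub, sub_eq_zero] at e2
    change π (ψ (f p)) = β (f p)
    rw [e2, hθ]

/-- global sections killed by a surjective morphism are nilpotent. -/
theorem isNilpotent_of_appTop_eq_zero {W₀ W : Scheme.{u}} [CompactSpace W] (k : W₀ ⟶ W)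
    [Surjective k] (c : Γ(W, ⊤)) (hc : k.appTop c = 0) : IsNilpotent c := by
  rw [Scheme.isNilpotent_iff_basicOpen_eq_bot]
  have h1 : k ⁻¹ᵁ W.basicOpen c = ⊥ := by
    rw [Scheme.preimage_basicOpen_top, hc, Scheme.basicOpen_zero]
  refine le_antisymm (fun x hx => ?_) bot_le
  obtain ⟨y, rfl⟩ := k.surjective x
  have : y ∈ k ⁻¹ᵁ W.basicOpen c := hx
  rw [h1] at this
  exact this

/-- lifting for a smooth morphism of affine schemes along a surjective closed immersion of
affine schemes. -/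
theorem exists_lift_affine {W₀ W P Z : Scheme.{u}} [IsAffine W₀] [IsAffine W] [IsAffine P]
    [IsAffine Z] (g : P ⟶ Z) [Smooth g] (k : W₀ ⟶ W) [IsClosedImmersion k] [Surjective k]
    (z : W ⟶ Z) (s : W₀ ⟶ P) (h : s ≫ g = k ≫ z) :
    ∃ ℓ : W ⟶ P, ℓ ≫ g = z ∧ k ≫ ℓ = s := by
  have hφ : g.appTop.hom.Smooth := HasRingHomProperty.appTop (P := @Smooth) g inferInstance
  have hπ : Function.Surjective k.appTop.hom :=
    (IsClosedImmersion.isAffine_surjective_of_isAffine k).2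
  have hnil : RingHom.ker k.appTop.hom ≤ nilradical Γ(W, ⊤) := fun c hc =>
    mem_nilradical.2 (isNilpotent_of_appTop_eq_zero k c hc)
  have hcomp : s.appTop.hom.comp g.appTop.hom = k.appTop.hom.comp z.appTop.hom := by
    have := congrArg (fun m => m.appTop) h
    simp only [Scheme.Hom.comp_appTop] at this
    ext x
    exact congrArg (fun m => m.hom x) this
  obtain ⟨γ, h1, h2⟩ := exists_ringHom_lift g.appTop.hom hφ k.appTop.hom hπ hnil z.appTop.hom
    s.appTop.hom hcomp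
  have e1 : g.appTop ≫ CommRingCat.ofHom γ = z.appTop := by
    ext x; exact RingHom.congr_fun h1 x
  have e2 : CommRingCat.ofHom γ ≫ k.appTop = s.appTop := by
    ext x; exact RingHom.congr_fun h2 x
  refine ⟨W.isoSpec.hom ≫ Spec.map (CommRingCat.ofHom γ) ≫ P.isoSpec.inv, ?_, ?_⟩
  · rw [Category.assoc, Category.assoc, ← Scheme.isoSpec_inv_naturality g, ← Spec.map_comp_assoc,
      e1, Scheme.isoSpec_inv_naturality, Iso.hom_inv_id_assoc]
  · rw [← Scheme.isoSpec_hom_naturality_assoc k, ← Spec.map_comp_assoc, e2,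
      Scheme.isoSpec_inv_naturality, Iso.hom_inv_id_assoc]

/-- Zariski-local lifting for a smooth morphism along a surjective closed immersion. -/
theorem exists_local_lift {P Z W W₀ : Scheme.{u}} (g : P ⟶ Z) [Smooth g]
    (k : W₀ ⟶ W) [IsClosedImmersion k] [Surjective k]
    (z : W ⟶ Z) (s : W₀ ⟶ P) (hs : s ≫ g = k ≫ z) (w₀ : W₀) :
    ∃ (W' : W.Opens) (ℓ : W'.toScheme ⟶ P), k w₀ ∈ W' ∧ IsAffineOpen W' ∧
      ℓ ≫ g = W'.ι ≫ z ∧ (k ∣_ W') ≫ ℓ = (k ⁻¹ᵁ W').ι ≫ s := by
  obtain ⟨Uz, hUz, hyU, -⟩ :=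
    exists_isAffineOpen_mem_and_subset (X := Z) (x := g (s w₀)) (U := ⊤) trivial
  obtain ⟨Vp, hVp, hxV, hVle⟩ :=
    exists_isAffineOpen_mem_and_subset (X := P) (x := s w₀) (U := g ⁻¹ᵁ Uz) hyU
  let O₀ : W₀.Opens := s ⁻¹ᵁ Vp
  have hemb : Topology.IsClosedEmbedding k := k.isClosedEmbedding
  have hcl : IsClosedMap k := hemb.isClosedMap
  let O : W.Opens := ⟨(k '' (O₀ : Set W₀)ᶜ)ᶜ, (hcl _ O₀.isOpen.isClosed_compl).isOpen_compl⟩
  have hinj : Function.Injective k := hemb.injective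
  have hwO : k w₀ ∈ O := by
    rintro ⟨w', hw', e⟩
    exact hw' (hinj e ▸ hxV)
  have hO : ∀ w : W₀, k w ∈ O → w ∈ O₀ := by
    intro w hw
    by_contra hn
    exact hw ⟨w, hn, rfl⟩
  have hwz : k w₀ ∈ z ⁻¹ᵁ Uz := by
    change z (k w₀) ∈ Uz
    have : z (k w₀) = g (s w₀) := by
      rw [← Scheme.Hom.comp_apply, ← hs, Scheme.Hom.comp_apply]
    rw [this]
    exact hyU
  obtain ⟨W', hW', hw', hW'le⟩ :=
    exists_isAffineOpen_mem_and_subset (X := W) (x := k w₀) (U := O ⊓ z ⁻¹ᵁ Uz) ⟨hwO, hwz⟩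
  have hW'₀ : IsAffineOpen (k ⁻¹ᵁ W') := hW'.preimage k
  have hle₀ : k ⁻¹ᵁ W' ≤ s ⁻¹ᵁ Vp := fun w hw => hO w (hW'le hw).1
  have hlez : W' ≤ z ⁻¹ᵁ Uz := fun w hw => (hW'le hw).2
  haveI : IsAffine W'.toScheme := hW'
  haveI : IsAffine (k ⁻¹ᵁ W').toScheme := hW'₀
  haveI : IsAffine Vp.toScheme := hVp
  haveI : IsAffine Uz.toScheme := hUz
  let g' : Vp.toScheme ⟶ Uz.toScheme := g.resLE Uz Vp hVle
  let z' : W'.toScheme ⟶ Uz.toScheme := z.resLE Uz W' hlez
  let s' : (k ⁻¹ᵁ W').toScheme ⟶ Vp.toScheme := s.resLE Vp (k ⁻¹ᵁ W') hle₀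
  have hz' : z' ≫ Uz.ι = W'.ι ≫ z := Scheme.Hom.resLE_comp_ι _ _
  have hs' : s' ≫ Vp.ι = (k ⁻¹ᵁ W').ι ≫ s := Scheme.Hom.resLE_comp_ι _ _
  have hg' : g' ≫ Uz.ι = Vp.ι ≫ g := Scheme.Hom.resLE_comp_ι _ _
  have hk' : (k ∣_ W') ≫ W'.ι = (k ⁻¹ᵁ W').ι ≫ k := morphismRestrict_ι _ _
  have hcomm : s' ≫ g' = (k ∣_ W') ≫ z' := by
    rw [← cancel_mono Uz.ι, Category.assoc, hg', reassoc_of% hs', hs, Category.assoc, hz',
      reassoc_of% hk']
  haveI : Surjective (k ∣_ W') := IsZariskiLocalAtTarget.restrict ‹Surjective k› W'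
  obtain ⟨ℓ', h1, h2⟩ := exists_lift_affine g' (k ∣_ W') z' s' hcomm
  refine ⟨W', ℓ' ≫ Vp.ι, hw', hW', ?_, ?_⟩
  · rw [Category.assoc, ← hg', reassoc_of% h1, hz']
  · rw [reassoc_of% h2, hs']

end Groth.Agent.Lib.H5bSmoothLift
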