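import Mathlib
import Groth.Prelude.Def_Desc
import Groth.Prelude.Def_AlgSp
import Groth.Agent.Lib.H5bSpDescC

/-!
# Representability from an étale chart and effective descent (helper5)

`representable_of_chart_of_effective`: if the base change of `f : G ⟶ F` along a representable
étale surjective chart `q : h_U ⟶ F` is a scheme `V` with `g : V ⟶ U` in `P`, and descent data with
structure morphism in `P` are effective along étale (more generally fppf) covering morphisms, then
`f` is representable.
-/

set_option autoImplicit false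
set_option linter.unusedSectionVars false
set_option linter.style.haveILetI false
universe u

namespace Groth.Agent.Lib.H5bSpDesc

open CategoryTheory CategoryTheory.Limits AlgebraicGeometry Desc AlgSp Opposite

theorem representable_of_chart_of_effective {S : Scheme.{u}} (P : MorphismProperty Scheme.{u})
    [P.IsStableUnderBaseChange]
    (hdesc : ∀ ⦃X' S' : Scheme.{u}⦄ (p : X' ⟶ S'), Surjective p → Etale p →
      ∀ D : Desc.SchDD p, P D.obj.hom → (Desc.toDD p).essImage D)
    {F G : AlgSp.Sp S} (f : G ⟶ F) {U V : Over S} (q : (AlgSp.yon S).obj U ⟶ F)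
    (hqe : AlgSp.RepWith @Etale q) (hqs : AlgSp.RepWith @Surjective q)
    (fst : (AlgSp.yon S).obj V ⟶ G) (g : V ⟶ U)
    (sq : IsPullback fst ((AlgSp.yon S).map g) f q) (hP : P g.left) :
    AlgSp.Representable f := by
  intro T a
  obtain ⟨T', pT, u', sqT⟩ := hqe.1 a
  obtain ⟨u, rfl⟩ := (yon S).map_surjective u'
  haveI : Etale pT.left := hqe.2 _ _ pT sqT
  haveI : Surjective pT.left := hqs.2 _ _ pT sqT
  have h2 : IsPullback ((yon S).map (pullback.fst g u)) ((yon S).map (pullback.snd g u))
      ((yon S).map g) ((yon S).map u) := (IsPullback.of_hasPullback g u).map (yon S)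
  have h2' := h2.paste_horiz sq
  rw [sqT.w] at h2'
  have hw : ((yon S).map (pullback.fst g u) ≫ fst) ≫ f =
      ((yon S).map (pullback.snd g u) ≫ (yon S).map pT) ≫ a := by
    rw [Category.assoc ((yon S).map (pullback.snd g u)), h2'.w]
  let σ : (yon S).obj (pullback g u) ⟶ pullback f a := pullback.lift _ _ hw
  have hσ1 : σ ≫ pullback.fst f a = (yon S).map (pullback.fst g u) ≫ fst :=
    pullback.lift_fst _ _ _
  have hσ2 : σ ≫ pullback.snd f a = (yon S).map (pullback.snd g u) ≫ (yon S).map pT :=
    pullback.lift_snd _ _ _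
  have sq' : IsPullback σ ((yon S).map (pullback.snd g u)) (pullback.snd f a) ((yon S).map pT) := by
    refine IsPullback.of_right ?_ hσ2 (IsPullback.of_hasPullback f a)
    rw [hσ1]
    exact h2'
  have hPg' : P (pullback.snd g u).left :=
    P.of_isPullback ((IsPullback.of_hasPullback g u).map (Over.forget S)) hP
  obtain ⟨W₀, ⟨e⟩⟩ := hdesc pT.left inferInstance inferInstance (sheafDD sq') hPg'
  obtain ⟨W, w, τ, hτ⟩ := exists_rep_of_iso sq' W₀ e
  refine ⟨W, w, τ.hom ≫ pullback.fst f a, ?_⟩
  exact IsPullback.of_iso (IsPullback.of_hasPullback f a) τ.symm (Iso.refl _) (Iso.refl _)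
    (Iso.refl _) (by simp) (by simp [← hτ]) (by simp) (by simp)

end Groth.Agent.Lib.H5bSpDesc
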