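import Mathlib
import Groth.Prelude
import Groth.Agent.S10199
import Groth.Agent.Lib.H5bEtLocal
import Groth.Agent.Lib.H5bFieldSp

/-!
# Generization lifting for open maps with finite fibres; maximal points of quasi-separated
algebraic spaces
-/

set_option autoImplicit false
set_option linter.style.haveILetI false
universe u v

namespace Groth.Agent.Lib.H5bSpecQuot

open Topology Set TopologicalSpace

/-- generizations lift along an open map with finite fibres. -/
theorem exists_specializes_lift {U : Type u} {V : Type v} [TopologicalSpace U] [TopologicalSpace V]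
    (p : U → V) (ho : IsOpenMap p) (hfin : ∀ v : V, (p ⁻¹' {v}).Finite) (w : U) (z : V)
    (hz : z ⤳ p w) : ∃ w' : U, w' ⤳ w ∧ p w' = z := by
  classical
  by_contra hcon
  push Not at hcon
  have : ∀ w' ∈ p ⁻¹' {z}, ∃ O : Set U, IsOpen O ∧ w ∈ O ∧ w' ∉ O := by
    intro w' hw'
    have h1 : ¬ w' ⤳ w := fun h => hcon w' h hw'
    rw [specializes_iff_forall_open] at h1
    push Not at h1
    obtain ⟨O, hO, hwO, hw'O⟩ := h1
    exact ⟨O, hO, hwO, hw'O⟩
  choose! O hO hwO hw'O using this
  have hOpen : IsOpen (⋂ w' ∈ p ⁻¹' {z}, O w') :=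
    (hfin z).isOpen_biInter fun w' hw' => hO w' hw'
  have hwmem : w ∈ ⋂ w' ∈ p ⁻¹' {z}, O w' := by
    simp only [mem_iInter]
    exact fun w' hw' => hwO w' hw'
  have hz' : z ∈ p '' (⋂ w' ∈ p ⁻¹' {z}, O w') :=
    hz.mem_open (ho _ hOpen) ⟨w, hwmem, rfl⟩
  obtain ⟨w₀, hw₀, hw₀z⟩ := hz'
  simp only [mem_iInter] at hw₀
  exact hw'O w₀ hw₀z (hw₀ w₀ hw₀z)

/-- in a quasi-sober space, a point without proper generizations is the generic point of an
irreducible component. -/
theorem closure_mem_irreducibleComponents {V : Type v} [TopologicalSpace V] [QuasiSober V]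
    (x : V) (hx : ∀ y : V, y ⤳ x → y = x) : closure {x} ∈ irreducibleComponents V := by
  refine ⟨isIrreducible_singleton.closure, fun T hT hZT => ?_⟩
  have hTc : IsIrreducible (closure T) := hT.closure
  obtain ⟨z, hz⟩ := QuasiSober.sober hTc isClosed_closure
  have hxT : x ∈ closure T := subset_closure (hZT (subset_closure rfl))
  have hzx : z ⤳ x := by
    rw [specializes_iff_mem_closure, hz.def]
    exact hxT
  have := hx z hzx
  subst this
  rw [hz.def]
  exact subset_closure

end Groth.Agent.Lib.H5bSpecQuot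

namespace Groth.Agent.Lib.H5bSoberSp

open CategoryTheory CategoryTheory.Limits AlgebraicGeometry AlgSp Groth.Agent.Lib.H5bSpecQuot

variable {S : Scheme.{u}}

/-- the space of points of a quasi-separated algebraic space is sober. -/
theorem quasiSober_t0_of_qs {X : AlgSp.Sp S} (hX : IsAlgSpace X) (hqs : IsQuasiSeparatedSp X) :
    QuasiSober (Points X) ∧ T0Space (Points X) := by
  have key : ∀ x : Points X,
      ∃ V : Set (Points X), x ∈ V ∧ IsOpen V ∧ QuasiSober V ∧ T0Space V := by
    intro x
    obtain ⟨W, q, w, R, s, t, hW, hq, hw, sq, hR⟩ := Groth.Agent.S10199.exists_good_chart hX hqs x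
    haveI := hW
    haveI := hR
    exact ⟨Set.range (Points.ofPt q), ⟨w, hw⟩,
      (Groth.Agent.S10176.isOpenMap_ofPt _ hq).isOpen_range,
      quasiSober_range _ hq s t sq, t0Space_range _ hq s t sq⟩
  constructor
  · let 𝒮 : Set (Set (Points X)) := {V | IsOpen V ∧ QuasiSober V}
    haveI : ∀ s : 𝒮, QuasiSober s := fun s => s.2.2
    refine quasiSober_of_open_cover 𝒮 (fun s => s.2.1) ?_
    rw [Set.top_eq_univ, Set.eq_univ_iff_forall]
    intro x
    obtain ⟨V, hxV, hVo, hVs, -⟩ := key x
    exact ⟨V, ⟨hVo, hVs⟩, hxV⟩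
  · refine T0Space.of_open_cover fun x => ?_
    obtain ⟨V, hxV, hVo, -, hVt⟩ := key x
    exact ⟨V, hxV, hVo, hVt⟩

/-- in a good chart, the codimension zero points are exactly the lifts of maximal points. -/
theorem forall_specializes_eq_iff {X : AlgSp.Sp S} {W R : Over S} [CompactSpace ↥W.left]
    [QuasiSeparatedSpace ↥W.left] [CompactSpace ↥R.left] (q : (yon S).obj W ⟶ X)
    (hq : RepWith @Etale q) (s t : R ⟶ W)
    (sq : IsPullback ((yon S).map s) ((yon S).map t) q q) (w : ↥W.left) :
    (∀ w' : ↥W.left, w' ⤳ w → w' = w) ↔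
      ∀ y : Points X, y ⤳ Points.ofPt q w → y = Points.ofPt q w := by
  constructor
  · intro h y hy
    have hVo : IsOpen (Set.range (Points.ofPt q)) :=
      (Groth.Agent.S10176.isOpenMap_ofPt _ hq).isOpen_range
    have hyV : y ∈ Set.range (Points.ofPt q) := hy.mem_open hVo ⟨w, rfl⟩
    have hz : (⟨y, hyV⟩ : ↥(Set.range (Points.ofPt q))) ⤳ pr q w := by
      rw [subtype_specializes_iff]
      exact hy
    obtain ⟨w', hw'w, hw'⟩ := exists_specializes_lift (pr q) (pr_isOpenMap q hq)
      (finite_fibre q hq s t sq) w _ hz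
    rw [h w' hw'w] at hw'
    exact (congrArg Subtype.val hw').symm
  · intro h w' hw'
    have h1 : Points.ofPt q w' ⤳ Points.ofPt q w := hw'.map (Points.continuous_ofPt q)
    have h2 := h _ h1
    exact eq_of_specializes_of_fibre (pr q) (finite_fibre q hq s t sq)
      (gen_transport q hq s t sq) hw' ((pr_eq_iff q w' w).2 h2)

end Groth.Agent.Lib.H5bSoberSp
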