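import Groth.Agent.Lib.H5bSchubertB
import Groth.Agent.Lib.H5bRees

/-!
# The standard monomial basis of `S/J(w)` and additive weights on it (helper5)
-/

set_option autoImplicit false

universe u

noncomputable section

open MvPolynomial W4bk4grassmannian

namespace Groth.Agent.Lib.H5b

variable (K : Type u) [Field K] {d n : ℕ}

/-- chains below `w` -/
abbrev WChain (w : Idx d n) : Type := {c : Chain d n // ∀ j, c.2.1 j ≤ w}

/-- the cone over the Schubert variety -/
abbrev SchubertRing (w : Idx d n) : Type u := PlRing K d n ⧸ schubertVanishing K d n w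

/-- the class of a polynomial -/
abbrev mkW (w : Idx d n) : PlRing K d n →+* SchubertRing K w :=
  Ideal.Quotient.mk (schubertVanishing K d n w)

/-- the standard monomials on `X(w)` -/
def stdVec (w : Idx d n) (c : WChain w) : SchubertRing K w := mkW K w (chainMon K c.1.2.1)

theorem mkW_smul (w : Idx d n) (a : K) (f : PlRing K d n) : mkW K w (a • f) = a • mkW K w f :=
  map_smul (Ideal.Quotient.mkₐ K (schubertVanishing K d n w)) a f

theorem linearIndependent_stdVec [Infinite K] (hd : 0 < d) (w : Idx d n) :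
    LinearIndependent K (stdVec K w) := by
  classical
  rw [linearIndependent_iff]
  intro l hl
  have hv : stdVec K w = (Ideal.Quotient.mkₐ K (schubertVanishing K d n w)).toLinearMap ∘
      ((fun c : Chain d n => chainMon K c.2.1) ∘ Subtype.val) := rfl
  rw [hv, ← Finsupp.apply_linearCombination, ← Finsupp.linearCombination_mapDomain] at hl
  have hmem : stdComb K (l.mapDomain Subtype.val) ∈ schubertVanishing K d n w := by
    rw [← Ideal.Quotient.eq_zero_iff_mem]
    exact hl
  ext c
  rw [Finsupp.coe_zero, Pi.zero_apply]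
  have h0 := coeff_eq_zero_of_mem_schubertVanishing K hd w _ hmem c.1 c.2
  rw [Finsupp.mapDomain_apply Subtype.val_injective] at h0
  exact h0

theorem span_stdVec (w : Idx d n) : ⊤ ≤ Submodule.span K (Set.range (stdVec K w)) := by
  classical
  rintro q -
  obtain ⟨f, rfl⟩ := Ideal.Quotient.mk_surjective q
  obtain ⟨l, hl⟩ := exists_stdComb K f
  have hJ : plIdealTop (d := d) (n := n) K ≤ schubertVanishing K d n w :=
    plIdealTop_le_schubertVanishing K w
  have hsplit : stdComb K l =
      stdComb K (l.filter (fun c : Chain d n => ∀ k, c.2.1 k ≤ w)) +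
      stdComb K (l.filter (fun c : Chain d n => ¬ ∀ k, c.2.1 k ≤ w)) := by
    rw [← stdComb_add, Finsupp.filter_add_filter_not]
  have h2 : stdComb K (l.filter (fun c : Chain d n => ¬ ∀ k, c.2.1 k ≤ w)) ∈
      schubertVanishing K d n w := by
    apply stdComb_filter_mem
    intro c hc
    push Not at hc
    obtain ⟨k, hk⟩ := hc
    exact chainMon_mem_schubertVanishing K w c.2.1 k hk
  have e : Ideal.Quotient.mk (schubertVanishing K d n w) f =
      Ideal.Quotient.mk (schubertVanishing K d n w)
        (stdComb K (l.filter (fun c : Chain d n => ∀ k, c.2.1 k ≤ w))) := by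
    rw [Ideal.Quotient.eq]
    have e' : f - stdComb K (l.filter (fun c : Chain d n => ∀ k, c.2.1 k ≤ w)) =
        (f - stdComb K l) +
          stdComb K (l.filter (fun c : Chain d n => ¬ ∀ k, c.2.1 k ≤ w)) := by
      rw [hsplit]
      ring
    rw [e']
    exact Ideal.add_mem _ (hJ hl) h2
  rw [e]
  unfold stdComb
  rw [Finsupp.linearCombination_apply, Finsupp.sum, map_sum]
  apply Submodule.sum_mem
  intro c hc
  rw [Finsupp.support_filter, Finset.mem_filter] at hc
  rw [mkW_smul]
  apply Submodule.smul_mem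
  apply Submodule.subset_span
  exact ⟨⟨c, hc.2⟩, rfl⟩

/-- the standard monomial basis of `S/J(w)` -/
def stdBasis [Infinite K] (hd : 0 < d) (w : Idx d n) : Module.Basis (WChain w) K (SchubertRing K w) :=
  Module.Basis.mk (linearIndependent_stdVec K hd w) (span_stdVec K w)

theorem stdBasis_apply [Infinite K] (hd : 0 < d) (w : Idx d n) (c : WChain w) :
    stdBasis K hd w c = mkW K w (chainMon K c.1.2.1) := by
  unfold stdBasis
  rw [Module.Basis.mk_apply]
  rfl

/-! ### Additive weights -/

/-- the weight of a tuple -/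
def tupWt (V : Idx d n → ℕ) {m : ℕ} (c : Fin m → Idx d n) : ℕ := ∑ j, V (c j)

/-- the weight of a standard monomial -/
def chWt (V : Idx d n → ℕ) {w : Idx d n} (c : WChain w) : ℕ := tupWt V c.1.2.1

/-- the exponent vector of a tuple below `w` -/
def tupMon {w : Idx d n} {m : ℕ} (c : Fin m → Idx d n) (hc : ∀ j, c j ≤ w) : Below w →₀ ℕ :=
  ∑ j, Finsupp.single (⟨c j, hc j⟩ : Below w) 1

/-- the exponent vector of a standard monomial -/
def chMon {w : Idx d n} (c : WChain w) : Below w →₀ ℕ := tupMon c.1.2.1 c.2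

/-- the class of a variable -/
def gB (w : Idx d n) (θ : Below w) : SchubertRing K w := mkW K w (X θ.1)

theorem weight_tupMon (V : Idx d n → ℕ) {w : Idx d n} {m : ℕ} (c : Fin m → Idx d n)
    (hc : ∀ j, c j ≤ w) :
    Finsupp.weight (fun θ : Below w => V θ.1) (tupMon c hc) = tupWt V c := by
  unfold tupMon tupWt
  rw [map_sum]
  refine Finset.sum_congr rfl (fun j _ => ?_)
  rw [Finsupp.weight_single, one_smul]

theorem prod_tupMon {M : Type*} [CommMonoid M] {w : Idx d n} {m : ℕ} (c : Fin m → Idx d n)
    (hc : ∀ j, c j ≤ w) (f : Below w → M) :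
    (tupMon c hc).prod (fun s k => f s ^ k) = ∏ j, f ⟨c j, hc j⟩ := by
  unfold tupMon
  rw [← Finsupp.prod_finsetSum_index (h_zero := fun a => pow_zero _)
    (h_add := fun a b₁ b₂ => pow_add _ _ _)]
  refine Finset.prod_congr rfl (fun j _ => ?_)
  rw [Finsupp.prod_single_index (h := fun s k => f s ^ k) (pow_zero _), pow_one]

theorem prod_gB (w : Idx d n) {m : ℕ} (c : Fin m → Idx d n) (hc : ∀ j, c j ≤ w) :
    ∏ j, gB K w ⟨c j, hc j⟩ = mkW K w (chainMon K c) := by
  unfold gB chainMon
  rw [map_prod]

theorem monomial_tupMon {w : Idx d n} {m : ℕ} (c : Fin m → Idx d n) (hc : ∀ j, c j ≤ w) :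
    (monomial (tupMon c hc) (1 : K) : MvPolynomial (Below w) K) =
      ∏ j, X (⟨c j, hc j⟩ : Below w) := by
  unfold tupMon
  rw [monomial_sum_one]
  rfl

/-- the empty chain -/
def emptyChain (w : Idx d n) : WChain w :=
  ⟨⟨0, ⟨Fin.elim0, fun a => a.elim0⟩⟩, fun j => j.elim0⟩

/-- the chain with one member -/
def singleChain {w : Idx d n} (θ : Below w) : WChain w :=
  ⟨⟨1, ⟨fun _ => θ.1, fun _ _ _ => le_refl _⟩⟩, fun _ => θ.2⟩

theorem chWt_emptyChain (V : Idx d n → ℕ) (w : Idx d n) : chWt V (emptyChain w) = 0 := by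
  unfold chWt tupWt emptyChain
  simp

theorem chWt_singleChain (V : Idx d n → ℕ) {w : Idx d n} (θ : Below w) :
    chWt V (singleChain θ) = V θ.1 := by
  unfold chWt tupWt singleChain
  simp

section FiltHyp

variable [Infinite K] (hd : 0 < d) (w : Idx d n) (V : Idx d n → ℕ)

theorem stdBasis_emptyChain : stdBasis K hd w (emptyChain w) = 1 := by
  rw [stdBasis_apply]
  unfold emptyChain chainMon
  simp

theorem stdBasis_singleChain (θ : Below w) : stdBasis K hd w (singleChain θ) = gB K w θ := by
  rw [stdBasis_apply]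
  unfold singleChain chainMon gB
  simp

theorem gB_mem_filt (θ : Below w) :
    gB K w θ ∈ filt (stdBasis K hd w) (chWt V) (V θ.1) := by
  rw [← stdBasis_singleChain K hd w θ, ← chWt_singleChain V θ]
  exact basis_mem_filt _ _ _

theorem prod_chMon (c : WChain w) :
    (chMon c).prod (fun s k => gB K w s ^ k) = stdBasis K hd w c := by
  unfold chMon
  rw [prod_tupMon, prod_gB, stdBasis_apply]

theorem weight_chMon (c : WChain w) :
    Finsupp.weight (fun θ : Below w => V θ.1) (chMon c) = chWt V c :=
  weight_tupMon V _ _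

/-- the filtration hypotheses follow once all monomials lie in the piece of their weight -/
theorem filtHyp_of_tup
    (H : ∀ (m : ℕ) (c : Fin m → Idx d n), (∀ j, c j ≤ w) →
      mkW K w (chainMon K c) ∈ filt (stdBasis K hd w) (chWt V) (tupWt V c)) :
    FiltHyp (stdBasis K hd w) (chWt V) := by
  constructor
  · rw [← stdBasis_emptyChain K hd w, ← chWt_emptyChain V w]
    exact basis_mem_filt _ _ _
  · intro a b
    have h1 := H (a.1.1 + b.1.1) (Fin.append a.1.2.1 b.1.2.1) (by
      intro j
      refine Fin.addCases (fun i => ?_) (fun i => ?_) j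
      · rw [Fin.append_left]; exact a.2 i
      · rw [Fin.append_right]; exact b.2 i)
    have h2 : chainMon K (Fin.append a.1.2.1 b.1.2.1) =
        chainMon K a.1.2.1 * chainMon K b.1.2.1 := by
      unfold chainMon
      rw [Fin.prod_univ_add]
      simp only [Fin.append_left, Fin.append_right]
    have h3 : tupWt V (Fin.append a.1.2.1 b.1.2.1) = chWt V a + chWt V b := by
      unfold chWt tupWt
      rw [Fin.sum_univ_add]
      simp only [Fin.append_left, Fin.append_right]
    rw [h2, h3, map_mul] at h1
    rw [stdBasis_apply, stdBasis_apply]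
    exact h1

end FiltHyp

/-! ### Spanning a quotient of `K[x_θ : θ ≤ w]` by chain monomials -/

section Span

variable {w : Idx d n} (Q : Ideal (MvPolynomial (Below w) K))

/-- the product of variables along a tuple below `w` -/
def bmon {m : ℕ} (c : Fin m → Idx d n) (hc : ∀ j, c j ≤ w) : MvPolynomial (Below w) K :=
  ∏ j, X (⟨c j, hc j⟩ : Below w)

/-- the span of the classes of the chain monomials -/
def spanStd : Submodule K (MvPolynomial (Below w) K ⧸ Q) :=
  Submodule.span K (Set.range fun c : WChain w =>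
    Ideal.Quotient.mk Q (monomial (chMon c) (1 : K)))

theorem mk_bmon_mem_of_chain {m : ℕ} (c : Fin m → Idx d n) (hc : ∀ j, c j ≤ w)
    (hcomp : ∀ k₁ k₂, c k₁ ≤ c k₂ ∨ c k₂ ≤ c k₁) :
    Ideal.Quotient.mk Q (bmon K c hc) ∈ spanStd K Q := by
  obtain ⟨σ, hσ⟩ := Helper24Grass.sortable c hcomp
  have h1 : bmon K c hc = monomial (chMon (⟨⟨m, ⟨c ∘ σ, hσ⟩⟩, fun j => hc (σ j)⟩ : WChain w)) (1 : K) := by
    unfold chMon
    rw [monomial_tupMon]
    unfold bmon
    exact (Equiv.prod_comp σ (fun k => (X (⟨c k, hc k⟩ : Below w) : MvPolynomial (Below w) K))).symm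
  rw [h1]
  exact Submodule.subset_span ⟨_, rfl⟩

theorem spanStd_eq_top
    (H : ∀ (m : ℕ) (c : Fin m → Idx d n) (hc : ∀ j, c j ≤ w),
      Ideal.Quotient.mk Q (bmon K c hc) ∈ spanStd K Q) : spanStd K Q = ⊤ := by
  rw [eq_top_iff]
  rintro q -
  obtain ⟨p, rfl⟩ := Ideal.Quotient.mk_surjective q
  have hsm : ∀ (a : K) (p : MvPolynomial (Below w) K),
      Ideal.Quotient.mk Q (a • p) = a • Ideal.Quotient.mk Q p := fun a p =>
    map_smul (Ideal.Quotient.mkₐ K Q) a p
  have hp : p ∈ Submodule.span K {p : MvPolynomial (Below w) K |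
      ∃ (m : ℕ) (c : Fin m → Idx d n) (hc : ∀ j, c j ≤ w), p = bmon K c hc} := by
    induction p using MvPolynomial.induction_on with
    | C a =>
      have : (C a : MvPolynomial (Below w) K) =
          a • bmon K (Fin.elim0 : Fin 0 → Idx d n) (fun j => j.elim0) := by
        unfold bmon
        simp [Algebra.smul_def]
      rw [this]
      exact Submodule.smul_mem _ _ (Submodule.subset_span ⟨0, _, _, rfl⟩)
    | add p q hp hq => exact Submodule.add_mem _ hp hq
    | mul_X p θ hp =>
      induction hp using Submodule.span_induction with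
      | mem x hx =>
        obtain ⟨m, c, hc, rfl⟩ := hx
        refine Submodule.subset_span ⟨m + 1, Fin.snoc c θ.1, ?_, ?_⟩
        · intro j
          refine Fin.lastCases ?_ (fun i => ?_) j
          · rw [Fin.snoc_last]; exact θ.2
          · rw [Fin.snoc_castSucc]; exact hc i
        · unfold bmon
          rw [Fin.prod_univ_castSucc]
          simp
      | zero => rw [zero_mul]; exact Submodule.zero_mem _
      | add x y _ _ hx hy => rw [add_mul]; exact Submodule.add_mem _ hx hy
      | smul a x _ hx => rw [smul_mul_assoc]; exact Submodule.smul_mem _ _ hx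
  induction hp using Submodule.span_induction with
  | mem x hx =>
    obtain ⟨m, c, hc, rfl⟩ := hx
    exact H m c hc
  | zero => rw [map_zero]; exact Submodule.zero_mem _
  | add x y _ _ hx hy => rw [map_add]; exact Submodule.add_mem _ hx hy
  | smul a x _ hx => rw [hsm]; exact Submodule.smul_mem _ _ hx

end Span

end Groth.Agent.Lib.H5b

end
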