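import Mathlib
import Groth.Agent.Lib.H5bSmoothLift

/-!
# Nilpotent kernels of finitely presented thickenings and their base changes (helper5)

* `exists_ker_pow_eq_bot`: a surjective closed immersion of finite presentation into an affine
  scheme has nilpotent kernel.
* `ker_pow_eq_bot_of_isPullback`: the order of nilpotency is preserved by base change to an affine
  scheme.
-/

set_option autoImplicit false
universe u

namespace Groth.Agent.Lib.H5bThickCI

open CategoryTheory CategoryTheory.Limits AlgebraicGeometry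

theorem exists_ker_pow_eq_bot {V E : Scheme.{u}} [IsAffine V] (w : E ⟶ V) [IsClosedImmersion w]
    [Surjective w] [LocallyOfFinitePresentation w] : ∃ n : ℕ, w.ker ^ (n + 1) = ⊥ := by
  have : IsAffine E := isAffine_of_isAffineHom w
  have hsurj : Function.Surjective w.appTop.hom :=
    (IsClosedImmersion.isAffine_surjective_of_isAffine w).2
  have hfp : w.appTop.hom.FinitePresentation :=
    HasRingHomProperty.appTop (P := @LocallyOfFinitePresentation) w inferInstance
  have hfg : (RingHom.ker w.appTop.hom).FG := by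
    algebraize [w.appTop.hom]
    exact Algebra.FinitePresentation.ker_fG_of_surjective (Algebra.ofId Γ(V, ⊤) Γ(E, ⊤)) hsurj
  have hnil : RingHom.ker w.appTop.hom ≤ nilradical Γ(V, ⊤) := fun c hc =>
    mem_nilradical.2 (Groth.Agent.Lib.H5bSmoothLift.isNilpotent_of_appTop_eq_zero w c hc)
  obtain ⟨m, hm⟩ := (Ideal.FG.isNilpotent_iff_le_nilradical hfg).2 hnil
  refine ⟨m, ?_⟩
  have h1 : w.ker = Scheme.IdealSheafData.equivOfIsAffine.symm (RingHom.ker w.appTop.hom) :=
    Scheme.ker_of_isAffine w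
  rw [h1, ← map_pow, pow_succ, hm, zero_mul, map_zero]
  rfl

theorem ker_pow_eq_bot_of_isPullback {W W' V E : Scheme.{u}} [IsAffine W] [IsAffine V]
    (t : W' ⟶ W) (e : W' ⟶ E) (c : W ⟶ V) (w : E ⟶ V) [IsClosedImmersion w]
    (sq : IsPullback t e c w) (n : ℕ) (hn : w.ker ^ (n + 1) = ⊥) : t.ker ^ (n + 1) = ⊥ := by
  obtain ⟨I₀, hI₀d⟩ : ∃ I₀ : Ideal Γ(V, ⊤), I₀ = w.ker.ideal ⟨⊤, isAffineOpen_top V⟩ := ⟨_, rfl⟩
  obtain ⟨J₀, hJ₀d⟩ : ∃ J₀ : Ideal Γ(W, ⊤), J₀ = I₀.map c.appTop.hom := ⟨_, rfl⟩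
  obtain ⟨J, hJd⟩ : ∃ J : W.IdealSheafData, J = Scheme.IdealSheafData.equivOfIsAffine.symm J₀ :=
    ⟨_, rfl⟩
  have hI₀ : I₀ ^ (n + 1) = ⊥ := by
    have := congrArg (fun K : V.IdealSheafData => K.ideal ⟨⊤, isAffineOpen_top V⟩) hn
    rw [hI₀d]
    exact this
  have hJ : J ^ (n + 1) = ⊥ := by
    rw [hJd, ← map_pow, hJ₀d, ← Ideal.map_pow, hI₀, Ideal.map_bot, ← Ideal.zero_eq_bot, map_zero]
    rfl
  have hle : w.ker ≤ (J.subschemeι ≫ c).ker := by
    rw [Scheme.Hom.ker_comp, Scheme.IdealSheafData.ker_subschemeι]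
    apply Scheme.IdealSheafData.le_of_isAffine
    rw [Scheme.IdealSheafData.ideal_map_of_isAffineHom J c ⟨⊤, isAffineOpen_top V⟩]
    intro a ha
    rw [Ideal.mem_comap, hJd, Scheme.IdealSheafData.equivOfIsAffine_symm_apply,
      Scheme.IdealSheafData.ofIdealTop_ideal]
    have h2 : c.appTop.hom a ∈ J₀ := by
      rw [hJ₀d]
      exact Ideal.mem_map_of_mem _ (by rw [hI₀d]; exact ha)
    have h3 := Ideal.mem_map_of_mem (W.presheaf.map
      (homOfLE (le_top : c ⁻¹ᵁ (⊤ : V.Opens) ≤ ⊤)).op).hom h2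
    convert h3 using 1
    have h4 : (homOfLE (le_top : c ⁻¹ᵁ (⊤ : V.Opens) ≤ ⊤)) = 𝟙 _ := Subsingleton.elim _ _
    rw [h4]
    simp
    rfl
  have he' : IsClosedImmersion.lift w (J.subschemeι ≫ c) hle ≫ w = J.subschemeι ≫ c :=
    IsClosedImmersion.lift_fac _ _ _
  have hl : sq.lift J.subschemeι (IsClosedImmersion.lift w (J.subschemeι ≫ c) hle) he'.symm ≫ t =
      J.subschemeι := sq.lift_fst _ _ _
  have htJ : t.ker ≤ J := by
    have := Scheme.Hom.le_ker_comp
      (sq.lift J.subschemeι (IsClosedImmersion.lift w (J.subschemeι ≫ c) hle) he'.symm) t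
    rwa [hl, Scheme.IdealSheafData.ker_subschemeι] at this
  rw [eq_bot_iff, ← hJ]
  apply Scheme.IdealSheafData.le_of_isAffine
  rw [Scheme.IdealSheafData.ideal_pow, Scheme.IdealSheafData.ideal_pow, Pi.pow_apply, Pi.pow_apply]
  exact Ideal.pow_right_mono (htJ _) _

end Groth.Agent.Lib.H5bThickCI
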