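import Mathlib
import Groth.Prelude.Def_MoreMor
import Groth.Agent.Lib.Helper2Thick

/-!
# Base change along a thickening whose pullback is a finite order thickening (helper5)

Variants of `Helper2Thick.lft_of_fthick`/`fu_of_fthick`: for a cartesian square `X = Y ×_{Y'} X'`
with `Y ⟶ Y'` an arbitrary thickening but `X ⟶ X'` of finite order, finite type and formal
unramifiedness lift from `X ⟶ Y` to `X' ⟶ Y'`.
-/

set_option autoImplicit false
universe u

namespace Groth.Agent.Lib.H5bThickFin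

open Groth.Agent.Lib.Helper2.Thick

section F
open TensorProduct

/-- nilpotent Nakayama for subalgebras, with nilpotency of the extended ideal. -/
theorem N1'' {A' B' : Type*} [CommRing A'] [CommRing B'] [Algebra A' B'] (C : Subalgebra A' B')
    (I : Ideal A') (n : ℕ) (hJn : (I.map (algebraMap A' B')) ^ n = ⊥)
    (h : ∀ b : B', ∃ c ∈ C, b - c ∈ I.map (algebraMap A' B')) : C = ⊤ := by
  let J : Ideal B' := I.map (algebraMap A' B')
  have hstep : ∀ k : ℕ, ∀ b : B', ∃ c ∈ C, b - c ∈ J ^ k := by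
    intro k
    induction k with
    | zero => intro b; exact ⟨0, C.zero_mem, by simp⟩
    | succ k ih =>
      intro b
      obtain ⟨c1, hc1, hb1⟩ := ih b
      have hx : b - c1 ∈ (I ^ k).map (algebraMap A' B') := by rw [Ideal.map_pow]; exact hb1
      have : ∀ x ∈ (I ^ k).map (algebraMap A' B'), ∃ c ∈ C, x - c ∈ J ^ (k + 1) := by
        intro x hx
        refine Submodule.span_induction ?_ ?_ ?_ ?_ hx
        · rintro _ ⟨e, he, rfl⟩
          exact ⟨algebraMap A' B' e, C.algebraMap_mem e, by rw [sub_self]; exact Ideal.zero_mem _⟩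
        · exact ⟨0, C.zero_mem, by simp⟩
        · rintro x y _ _ ⟨cx, hcx, hx⟩ ⟨cy, hcy, hy⟩
          refine ⟨cx + cy, C.add_mem hcx hcy, ?_⟩
          have : x + y - (cx + cy) = (x - cx) + (y - cy) := by ring
          rw [this]; exact Ideal.add_mem _ hx hy
        · rintro β x hxmem ⟨cx, hcx, hx⟩
          obtain ⟨c, hc, hβ⟩ := h β
          refine ⟨c * cx, C.mul_mem hc hcx, ?_⟩
          have hxk : x ∈ J ^ k := by rw [← Ideal.map_pow]; exact hxmem
          have e1 : β • x - c * cx = (β - c) * x + c * (x - cx) := by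
            rw [smul_eq_mul]; ring
          rw [e1]
          refine Ideal.add_mem _ ?_ (Ideal.mul_mem_left _ _ hx)
          rw [pow_succ']
          exact Ideal.mul_mem_mul hβ hxk
      obtain ⟨c2, hc2, hb2⟩ := this _ hx
      refine ⟨c1 + c2, C.add_mem hc1 hc2, ?_⟩
      have : b - (c1 + c2) = (b - c1) - c2 := by ring
      rw [this]; exact hb2
  rw [eq_top_iff]
  intro b _
  obtain ⟨c, hc, hb⟩ := hstep n b
  rw [hJn, Ideal.mem_bot, sub_eq_zero] at hb
  rw [hb]; exact hc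

open CategoryTheory in
/-- the extended ideal is contained in the kernel of the pushout leg. -/
theorem map_le_ker {A' B' A B : CommRingCat.{u}} {φ' : A' ⟶ B'} {π : A' ⟶ A} {ι : B' ⟶ B}
    {ψ : A ⟶ B} (hpo : IsPushout φ' π ι ψ) :
    (RingHom.ker π.hom).map φ'.hom ≤ RingHom.ker ι.hom := by
  rw [Ideal.map_le_iff_le_comap]
  intro x hx
  rw [Ideal.mem_comap, RingHom.mem_ker]
  have h1 : ι.hom (φ'.hom x) = ψ.hom (π.hom x) := congr($(hpo.w).hom x)
  rw [h1, (RingHom.mem_ker).1 hx, map_zero]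

open CategoryTheory in
/-- finite type lifts along thickenings whose pushout has nilpotent kernel (pushout form) -/
theorem N6' {A' B' A B : CommRingCat.{u}} {φ' : A' ⟶ B'} {π : A' ⟶ A} {ι : B' ⟶ B} {ψ : A ⟶ B}
    (hpo : IsPushout φ' π ι ψ) (hπ : Function.Surjective π.hom)
    (n : ℕ) (hn : RingHom.ker ι.hom ^ n = ⊥) (hψ : ψ.hom.FiniteType) :
    φ'.hom.FiniteType := by
  classical
  have hker := ker_le_map hpo hπ
  have hJn : ((RingHom.ker π.hom).map φ'.hom) ^ n = ⊥ :=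
    le_bot_iff.mp (hn ▸ Ideal.pow_right_mono (map_le_ker hpo) n)
  algebraize [φ'.hom, π.hom, ι.hom, ψ.hom, ι.hom.comp φ'.hom]
  have : IsScalarTower A' A B := .of_algebraMap_eq' <| congr($(hpo.1.1).hom)
  have hpo' : Algebra.IsPushout A' B' A B := CommRingCat.isPushout_iff_isPushout.mp hpo
  have hft : Algebra.FiniteType A B := hψ
  -- surjectivity of ι
  have hsurj : Function.Surjective (algebraMap B' B) := by
    intro b
    refine hpo'.out.inductionOn b (fun b => ∃ b', algebraMap B' B b' = b) ⟨0, map_zero _⟩ ?_ ?_ ?_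
    · intro a
      obtain ⟨a', rfl⟩ := hπ a
      refine ⟨algebraMap A' B' a', ?_⟩
      show algebraMap B' B (algebraMap A' B' a') = algebraMap A B (algebraMap A' A a')
      rw [← IsScalarTower.algebraMap_apply, ← IsScalarTower.algebraMap_apply]
    · rintro s _ ⟨b', rfl⟩
      exact ⟨s * b', by rw [map_mul, Algebra.smul_def]⟩
    · rintro _ _ ⟨b1, rfl⟩ ⟨b2, rfl⟩
      exact ⟨b1 + b2, map_add _ _ _⟩
  obtain ⟨s, hs⟩ := (Algebra.FiniteType.out : (⊤ : Subalgebra A B).FG)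
  choose lift hlift using hsurj
  let s' : Finset B' := s.image lift
  let C : Subalgebra A' B' := Algebra.adjoin A' (s' : Set B')
  -- image of C under ι contains everything
  have hC : ∀ b : B, ∃ c ∈ C, algebraMap B' B c = b := by
    intro b
    have hb : b ∈ Algebra.adjoin A (s : Set B) := by rw [hs]; trivial
    refine Algebra.adjoin_induction ?_ ?_ ?_ ?_ hb
    · intro x hx
      exact ⟨lift x, Algebra.subset_adjoin (Finset.mem_image_of_mem lift hx), hlift x⟩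
    · intro a
      obtain ⟨a', rfl⟩ := hπ a
      refine ⟨algebraMap A' B' a', C.algebraMap_mem a', ?_⟩
      show algebraMap B' B (algebraMap A' B' a') = algebraMap A B (algebraMap A' A a')
      rw [← IsScalarTower.algebraMap_apply, ← IsScalarTower.algebraMap_apply]
    · rintro x y _ _ ⟨cx, hcx, rfl⟩ ⟨cy, hcy, rfl⟩
      exact ⟨cx + cy, C.add_mem hcx hcy, map_add _ _ _⟩
    · rintro x y _ _ ⟨cx, hcx, rfl⟩ ⟨cy, hcy, rfl⟩
      exact ⟨cx * cy, C.mul_mem hcx hcy, map_mul _ _ _⟩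
  have hCtop : C = ⊤ := by
    refine N1'' C (RingHom.ker π.hom) n hJn ?_
    intro b
    obtain ⟨c, hc, hcb⟩ := hC (algebraMap B' B b)
    refine ⟨c, hc, ?_⟩
    apply hker
    rw [RingHom.mem_ker, map_sub]
    exact sub_eq_zero.mpr hcb.symm
  exact ⟨⟨s', hCtop⟩⟩

open CategoryTheory in
theorem N7' {A' B' A B : CommRingCat.{u}} {φ' : A' ⟶ B'} {π : A' ⟶ A} {ι : B' ⟶ B} {ψ : A ⟶ B}
    (hpo : IsPushout φ' π ι ψ) (hπ : Function.Surjective π.hom)
    (n : ℕ) (hn : RingHom.ker ι.hom ^ n = ⊥) (hψ : ψ.hom.FormallyUnramified) :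
    φ'.hom.FormallyUnramified := by
  algebraize [φ'.hom, π.hom, ι.hom, ψ.hom, ι.hom.comp φ'.hom]
  have : IsScalarTower A' A B := .of_algebraMap_eq' <| congr($(hpo.1.1).hom)
  have hpo' : Algebra.IsPushout A' B' A B := CommRingCat.isPushout_iff_isPushout.mp hpo
  have hpo'' : Algebra.IsPushout A' A B' B := hpo'.symm
  have hfu : Algebra.FormallyUnramified A B := hψ
  let e := KaehlerDifferential.tensorKaehlerEquiv A' A B' B
  have hsub : Subsingleton (B ⊗[B'] Ω[B'⁄A']) := e.toEquiv.subsingleton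
  have hsurj : Function.Surjective (algebraMap B' B) := by
    intro b
    refine hpo'.out.inductionOn b (fun b => ∃ b', algebraMap B' B b' = b) ⟨0, map_zero _⟩ ?_ ?_ ?_
    · intro a
      obtain ⟨a', rfl⟩ := hπ a
      refine ⟨algebraMap A' B' a', ?_⟩
      show algebraMap B' B (algebraMap A' B' a') = algebraMap A B (algebraMap A' A a')
      rw [← IsScalarTower.algebraMap_apply, ← IsScalarTower.algebraMap_apply]
    · rintro s _ ⟨b', rfl⟩
      exact ⟨s * b', by rw [map_mul, Algebra.smul_def]⟩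
    · rintro _ _ ⟨b1, rfl⟩ ⟨b2, rfl⟩
      exact ⟨b1 + b2, map_add _ _ _⟩
  have hn' : RingHom.ker (algebraMap B' B) ^ n = ⊥ := hn
  have : Subsingleton (Ω[B'⁄A']) := N5' hsurj n hn' hsub
  exact ⟨this⟩

end F

section G
open AlgebraicGeometry CategoryTheory Limits TopologicalSpace

/-- common affine-local data for a base-changed thickening whose pullback has finite order -/
theorem fthick_data' {X X' Y Y' : Scheme.{u}} (iX : X ⟶ X') (iY : Y ⟶ Y') (f : X ⟶ Y) (f' : X' ⟶ Y')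
    (hY : MoreMor.IsThickening iY) (hXn : IsNilpotent iX.ker) (hc : IsPullback iX f f' iY)
    (U' : Y'.Opens) (hU' : IsAffineOpen U') (V' : X'.Opens) (hV' : IsAffineOpen V')
    (e : V' ≤ f' ⁻¹ᵁ U') :
    IsAffineOpen (iY ⁻¹ᵁ U') ∧ IsAffineOpen (iX ⁻¹ᵁ V' ⊓ f ⁻¹ᵁ (iY ⁻¹ᵁ U')) ∧
    Function.Surjective (iY.appLE U' (iY ⁻¹ᵁ U') le_rfl).hom ∧
    (∃ n : ℕ, RingHom.ker (iX.appLE V' (iX ⁻¹ᵁ V' ⊓ f ⁻¹ᵁ (iY ⁻¹ᵁ U')) (by simp)).hom ^ n = ⊥) ∧
    IsPushout (f'.appLE U' V' e) (iY.appLE U' (iY ⁻¹ᵁ U') le_rfl)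
      (iX.appLE V' (iX ⁻¹ᵁ V' ⊓ f ⁻¹ᵁ (iY ⁻¹ᵁ U')) (by simp))
      (f.appLE (iY ⁻¹ᵁ U') (iX ⁻¹ᵁ V' ⊓ f ⁻¹ᵁ (iY ⁻¹ᵁ U')) (by simp)) := by
  have : IsClosedImmersion iY := hY.1
  have : Surjective iY := hY.2
  have : IsClosedImmersion iX := MorphismProperty.of_isPullback (P := @IsClosedImmersion) hc.flip hY.1
  let UT : Y.Opens := iY ⁻¹ᵁ U'
  have hUT : IsAffineOpen UT := hU'.preimage iY
  have hUST : UT ≤ iY ⁻¹ᵁ U' := le_rfl
  have hiso := isIso_pushoutSection_of_isAffineOpen hc hUST e rfl hU' hUT hV'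
  have hpo := (isIso_pushoutSection_iff hc hUST e rfl).mp hiso
  have hπ : Function.Surjective (iY.appLE U' UT hUST).hom := by
    have := iY.app_surjective U' hU'
    rwa [Scheme.Hom.app_eq_appLE] at this
  have heq : iX ⁻¹ᵁ V' ⊓ f ⁻¹ᵁ UT = iX ⁻¹ᵁ V' := by
    apply inf_eq_left.mpr
    intro x hx
    show iY (f x) ∈ U'
    have : iY (f x) = f' (iX x) := (congr($(hc.w) x)).symm
    rw [this]; exact e hx
  have hUY : IsAffineOpen (iX ⁻¹ᵁ V' ⊓ f ⁻¹ᵁ UT) := by
    rw [heq]; exact hV'.preimage iX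
  have hnil : ∃ n : ℕ,
      RingHom.ker (iX.appLE V' (iX ⁻¹ᵁ V' ⊓ f ⁻¹ᵁ UT) (by simp)).hom ^ n = ⊥ := by
    obtain ⟨n, hn⟩ := hXn
    refine ⟨n, ?_⟩
    have h0 : RingHom.ker (iX.app V').hom ^ n = ⊥ := by
      have := congr(($hn).ideal ⟨V', hV'⟩)
      simpa using this
    have key : ∀ (W : X.Opens) (hW : W = iX ⁻¹ᵁ V') (le : W ≤ iX ⁻¹ᵁ V'),
        RingHom.ker (iX.appLE V' W le).hom = RingHom.ker (iX.app V').hom := by
      rintro W rfl le
      rw [← Scheme.Hom.app_eq_appLE]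
    rw [key _ heq, h0]
  exact ⟨hUT, hUY, hπ, hnil, hpo⟩

theorem lft_of_fthick' {X X' Y Y' : Scheme.{u}} (iX : X ⟶ X') (iY : Y ⟶ Y') (f : X ⟶ Y) (f' : X' ⟶ Y')
    (hY : MoreMor.IsThickening iY) (hXn : IsNilpotent iX.ker) (hc : IsPullback iX f f' iY)
    [LocallyOfFiniteType f] : LocallyOfFiniteType f' := by
  rw [HasRingHomProperty.iff_appLE (P := @LocallyOfFiniteType)]
  rintro ⟨U', hU'⟩ ⟨V', hV'⟩ e
  obtain ⟨hUT, hUY, hπ, ⟨n, hn⟩, hpo⟩ := fthick_data' iX iY f f' hY hXn hc U' hU' V' hV' e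
  exact N6' hpo hπ n hn (f.finiteType_appLE hUT hUY _)

theorem fu_of_fthick' {X X' Y Y' : Scheme.{u}} (iX : X ⟶ X') (iY : Y ⟶ Y') (f : X ⟶ Y) (f' : X' ⟶ Y')
    (hY : MoreMor.IsThickening iY) (hXn : IsNilpotent iX.ker) (hc : IsPullback iX f f' iY)
    [FormallyUnramified f] : FormallyUnramified f' := by
  rw [HasRingHomProperty.iff_appLE (P := @FormallyUnramified)]
  rintro ⟨U', hU'⟩ ⟨V', hV'⟩ e
  obtain ⟨hUT, hUY, hπ, ⟨n, hn⟩, hpo⟩ := fthick_data' iX iY f f' hY hXn hc U' hU' V' hV' e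
  exact N7' hpo hπ n hn
    (HasRingHomProperty.appLE (P := @FormallyUnramified) f inferInstance ⟨_, hUT⟩ ⟨_, hUY⟩ _)

end G

end Groth.Agent.Lib.H5bThickFin
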