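import Mathlib
import Groth.Prelude.Def_AlgSpInf
import Groth.Agent.Lib.H5bThickCIA
import Groth.Agent.Lib.Helper15SmLoc
import Groth.Agent.Lib.H5bBootC
import Groth.Agent.Lib.Helper12OpenSub2
import Groth.Agent.S9907
import Groth.Agent.S9874
import Groth.Agent.S10592
import Groth.Agent.S10594
import Groth.Agent.S10534
import Groth.Agent.S10505
import Groth.Agent.S10177
import Groth.Agent.S10176

/-!
# Closed immersions and base change along a thickening of the base (helper5)

`closedImm_of_thick_baseChange`: if `g : B' ⟶ B` is a closed immersion, bijective on points, and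
the base change of `f : X ⟶ B` to `B'` is a closed immersion, then `f` is a closed immersion, as
soon as `f` is of finite type or `g` is of finite presentation.
-/

set_option autoImplicit false
set_option linter.style.haveILetI false
universe u

namespace Groth.Agent.Lib.H5bThickCI

open CategoryTheory CategoryTheory.Limits AlgebraicGeometry AlgSp
open Groth.Agent.Lib.Helper12.LocPCases Groth.Agent.Lib.H5bBoot Groth.Agent.Lib.Helper12.OpenSub

variable {S : Scheme.{u}}

/-- a closed immersion surjective on points is a thickening. -/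
theorem isThickMor_of_closedImm_surj {B B' : AlgSp.Space S} (g : B' ⟶ B)
    (hg : RepWith @IsClosedImmersion g.hom) (hs : IsSurjectiveMor g.hom) : IsThickMor g.hom := by
  refine (repWith_iff thick g.hom).2 ⟨hg.1, fun U V b fst snd sq => ⟨hg.2 b fst snd sq, ⟨?_⟩⟩⟩
  apply Groth.Agent.Lib.Helper15SmLoc.surjective_of_isSurjectiveMor_yon_map snd
  exact Groth.Agent.S9907.result (Y' := (AlgSp.ofScheme S).obj U) g (ObjectProperty.homMk b) fst
    ((yon S).map snd) sq hs

/-- the base change of a finitely presented thickening of an affine scheme is a finite order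
thickening. -/
theorem isFinThickMor_of_isPullback_affine {V E : Over S} [IsAffine V.left] (w : E ⟶ V)
    [IsClosedImmersion w.left] [Surjective w.left] [LocallyOfFinitePresentation w.left]
    {Xk X'k : AlgSp.Sp S} (fk : Xk ⟶ (yon S).obj V) (ik : X'k ⟶ Xk) (sk : X'k ⟶ (yon S).obj E)
    (sq : IsPullback ik sk fk ((yon S).map w)) : IsFinThickMor ik := by
  obtain ⟨n, hn⟩ := exists_ker_pow_eq_bot w.left
  have hthw : IsThickMor ((yon S).map w) :=
    (isThickMor_yon_map_iff w).2 ⟨inferInstance, inferInstance⟩
  have hthi : IsThickMor ik :=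
    (repWith_isStableUnderBaseChange (S := S) thick).of_isPullback sq.flip hthw
  refine ⟨n, hthi, ?_⟩
  intro W W' b fst' t hW hb sqW
  have big := sqW.flip.paste_vert sq
  obtain ⟨c, hc⟩ := (yon S).map_surjective (b ≫ fk)
  obtain ⟨e, he⟩ := (yon S).map_surjective (fst' ≫ sk)
  rw [← hc, ← he] at big
  have hcomm : t ≫ c = e ≫ w := (yon S).map_injective (by
    rw [Functor.map_comp, Functor.map_comp]; exact big.w)
  have sqO : IsPullback t e c w := IsPullback.of_map (yon S) hcomm big
  have sqL : IsPullback t.left e.left c.left w.left := sqO.map (Over.forget S)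
  haveI := hW
  exact ker_pow_eq_bot_of_isPullback t.left e.left c.left w.left sqL n hn

/-- the case of an affine base. -/
theorem closedImm_of_affine_base {V E : Over S} [IsAffine V.left] (w : E ⟶ V)
    [IsClosedImmersion w.left] [Surjective w.left] [LocallyOfFinitePresentation w.left]
    {Xk X'k : AlgSp.Sp S} (hXk : IsAlgSpace Xk) (fk : Xk ⟶ (yon S).obj V) (ik : X'k ⟶ Xk)
    (sk : X'k ⟶ (yon S).obj E) (sq : IsPullback ik sk fk ((yon S).map w))
    (hsk : RepWith @IsClosedImmersion sk) : RepWith @IsClosedImmersion fk := by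
  have hX'k : IsAlgSpace X'k :=
    Groth.Agent.S9874.isAlgSpace_of_isPullback (IsAlgSpace.yon_obj V).diag hXk
      (IsAlgSpace.yon_obj E) sq
  have hthw : IsThickMor ((yon S).map w) :=
    (isThickMor_yon_map_iff w).2 ⟨inferInstance, inferInstance⟩
  have hfin := isFinThickMor_of_isPullback_affine w fk ik sk sq
  obtain ⟨n, hthi, -⟩ := id hfin
  have h := Groth.Agent.S10592.result (X := ⟨X'k, hX'k⟩) (X' := ⟨Xk, hXk⟩)
    (Y := (AlgSp.ofScheme S).obj E) (Y' := (AlgSp.ofScheme S).obj V)
    (ObjectProperty.homMk ik) ((AlgSp.ofScheme S).map w) (ObjectProperty.homMk sk)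
    (ObjectProperty.homMk fk) hthi hthw (ObjectProperty.hom_ext _ sq.w) sq hfin
  exact h.1.1 hsk

theorem closedImm_of_thick_baseChange {X B B' : AlgSp.Space S}
    (f : X ⟶ B) (g : B' ⟶ B) (hg : RepWith @IsClosedImmersion g.hom)
    (hbij : Function.Bijective (Points.map g.hom))
    (X' : AlgSp.Sp S) (fst : X' ⟶ X.obj) (snd : X' ⟶ B'.obj)
    (hX' : IsPullback fst snd f.hom g.hom) (hsnd : RepWith @IsClosedImmersion snd)
    (hor : IsFiniteTypeMor f.hom ∨ IsFinitePresentationMor g.hom) :
    RepWith @IsClosedImmersion f.hom := by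
  have hX'sp : IsAlgSpace X' :=
    Groth.Agent.S9874.isAlgSpace_of_isPullback B.property.diag X.property B'.property hX'
  have hthg : IsThickMor g.hom := isThickMor_of_closedImm_surj g hg hbij.2
  rcases hor with hft | hfp
  · have hthi : IsThickMor fst :=
      (repWith_isStableUnderBaseChange (S := S) thick).of_isPullback hX'.flip hthg
    have hlsnd : LocP @LocallyOfFiniteType snd := locP_of_repWith good_lft snd
      (repWith_mono (fun _ _ k hk => by
        haveI : IsClosedImmersion k := hk
        exact (inferInstance : LocallyOfFiniteType k)) hsnd)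
    have h := Groth.Agent.S10594.result (X := ⟨X', hX'sp⟩) (X' := X) (Y := B') (Y' := B)
      (ObjectProperty.homMk fst) g (ObjectProperty.homMk snd) f hthi hthg
      (ObjectProperty.hom_ext _ hX'.w) hX' hlsnd hft.1
    exact h.2.1.1 hsnd
  · obtain ⟨V, bb, hbbe, hbbs⟩ := B.property.atlas
    let Vk : V.left.affineOpens → Over S := fun k => Over.mk (k.1.ι ≫ V.hom)
    let jk : ∀ k, Vk k ⟶ V := fun k => Over.homMk k.1.ι rfl
    let bk : ∀ k, (yon S).obj (Vk k) ⟶ B.obj := fun k => (yon S).map (jk k) ≫ bb
    have hbke : ∀ k, RepWith @Etale (bk k) := fun k =>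
      (repWith_isMultiplicative (S := S) @Etale).comp_mem _ _
        ((repWith_yon_map_iff @Etale (jk k)).2 (inferInstanceAs (Etale k.1.ι))) hbbe
    have hcov : IsFpqcCover (fun k => (yon S).obj (Vk k)) bk := by
      refine Groth.Agent.S10505.result B (fun k => (AlgSp.ofScheme S).obj (Vk k))
        (fun k => ObjectProperty.homMk (bk k)) ⟨fun k => ⟨?_, ?_⟩, fun x => ?_⟩
      · exact locP_of_repWith good_flat _ (repWith_mono (fun _ _ m hm => by
          haveI : Etale m := hm
          exact (inferInstance : Flat m)) (hbke k))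
      · exact locP_of_repWith good_lfp _ (repWith_mono (fun _ _ m hm => by
          haveI : Etale m := hm
          exact (inferInstance : LocallyOfFinitePresentation m)) (hbke k))
      · obtain ⟨v, hv⟩ := Groth.Agent.S10177.surjective_ofPt bb hbbs x
        obtain ⟨_, ⟨U₀, hU₀, rfl⟩, hvU, -⟩ :=
          (V.left.isBasis_affineOpens).exists_subset_of_mem_open (Set.mem_univ v) isOpen_univ
        refine ⟨⟨U₀, hU₀⟩, Points.ofScheme (Vk ⟨U₀, hU₀⟩) ⟨v, hvU⟩, ?_⟩
        show Points.map (bk ⟨U₀, hU₀⟩) _ = x
        rw [← Points.ofPt_eq_map_ofScheme, Groth.Agent.S10176.ofPt_map_comp]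
        exact hv
    refine ((Groth.Agent.S10534.result S) (fun k => (yon S).obj (Vk k)) bk B.property
      (fun k => IsAlgSpace.yon_obj _) hcov f.hom X.property (fun k => pullback f.hom (bk k))
      (fun k => pullback.snd _ _) (fun k => pullback.fst _ _)
      (fun k => Groth.Agent.S9874.isAlgSpace_of_isPullback B.property.diag X.property
        (IsAlgSpace.yon_obj _) (IsPullback.of_hasPullback _ _))
      (fun k => IsPullback.of_hasPullback _ _)).2 (fun k => ?_)
    have hXk : IsAlgSpace (pullback f.hom (bk k)) :=
      Groth.Agent.S9874.isAlgSpace_of_isPullback B.property.diag X.property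
        (IsAlgSpace.yon_obj _) (IsPullback.of_hasPullback _ _)
    have sqPk := IsPullback.of_hasPullback f.hom (bk k)
    obtain ⟨Ek, wk, prk, psqk⟩ := hg.1 (bk k)
    haveI : IsClosedImmersion wk.left := hg.2 _ _ _ psqk
    haveI : Surjective wk.left := (hthg.2 _ _ _ psqk).2
    have hprk : RepWith @Etale prk :=
      (repWith_isStableUnderBaseChange (S := S) @Etale).of_isPullback psqk.flip (hbke k)
    haveI : LocallyOfFinitePresentation wk.left := hfp.1 prk (bk k) wk hprk (hbke k) psqk.w
    haveI : IsAffine (Vk k).left := k.2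
    have sqk := IsPullback.of_hasPullback (pullback.snd f.hom (bk k)) ((yon S).map wk)
    have outer := sqk.paste_horiz sqPk
    rw [← psqk.w] at outer
    have hsk : RepWith @IsClosedImmersion
        (pullback.snd (pullback.snd f.hom (bk k)) ((yon S).map wk)) := by
      have sqm : IsPullback (hX'.lift _ _ outer.w) (pullback.snd (pullback.snd f.hom (bk k))
          ((yon S).map wk)) snd prk :=
        IsPullback.of_right (by rw [hX'.lift_fst]; exact outer) (hX'.lift_snd _ _ _) hX'
      exact (repWith_isStableUnderBaseChange (S := S) @IsClosedImmersion).of_isPullback sqm hsnd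
    exact closedImm_of_affine_base wk hXk _ _ _ sqk hsk

end Groth.Agent.Lib.H5bThickCI
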