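import Mathlib
import Groth.Prelude.Def_W4decUnivBdd
import Groth.Agent.Lib.Helper2BddFib
import Groth.Agent.Lib.H5bFQ
import Groth.Agent.Lib.H5bFQ3
import Groth.Agent.Lib.Helper9SpPoint6

/-!
# Universally bounded fibres for morphisms from schemes to algebraic spaces (helper5)

Bridge between `W4dec.DegFibresLE` (Mathlib's `Scheme.Hom.finrank`) and helper2's `FiniteOfDegLE`
toolkit for schemes.
-/

set_option autoImplicit false
set_option linter.style.haveILetI false
universe u
open CategoryTheory CategoryTheory.Limits AlgebraicGeometry Topology TopologicalSpace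
open AlgSp BddFib Groth.Agent.Lib.Helper2.BddFib

namespace Groth.Agent.Lib.H5bUBF

variable {S : Scheme.{u}}

/-- a scheme finite over a field: affine, finite global sections, and Mathlib's rank is the
dimension. -/
theorem finrank_eq_of_isFinite {T : Scheme.{u}} {K : Type u} [Field K]
    (c : T ⟶ Spec (CommRingCat.of K)) [IsFinite c] :
    letI : Algebra K Γ(T, ⊤) := (sm K c).toAlgebra
    IsAffine T ∧ Module.Finite K Γ(T, ⊤) ∧ ∀ s, c.finrank s = Module.finrank K Γ(T, ⊤) := by
  haveI : IsAffine T := isAffine_of_isAffineHom c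
  have hσ : c = T.isoSpec.hom ≫ Spec.map (CommRingCat.ofHom (sm K c)) :=
    Groth.Agent.Lib.H5bFQ.eq_isoSpec_comp c
  letI : Algebra K Γ(T, ⊤) := (sm K c).toAlgebra
  have h2 : IsFinite (Spec.map (CommRingCat.ofHom (sm K c))) := by
    have h1 : IsFinite (T.isoSpec.hom ≫ Spec.map (CommRingCat.ofHom (sm K c))) := by
      rw [← hσ]; infer_instance
    exact (MorphismProperty.cancel_left_of_respectsIso @IsFinite _ _).1 h1
  haveI hfin : Module.Finite K Γ(T, ⊤) := (IsFinite.SpecMap_iff _).1 h2
  refine ⟨inferInstance, hfin, fun s => ?_⟩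
  have h3 := Scheme.Hom.finrank_SpecMap_algebraMap K Γ(T, ⊤) s
  rw [Module.rankAtStalk_eq_finrank_of_free] at h3
  have h4 : c.finrank = (Spec.map (CommRingCat.ofHom (sm K c))).finrank := by
    haveI : Flat (Spec.map (CommRingCat.ofHom (sm K c))) := by
      rw [Flat.SpecMap_iff]
      exact (RingHom.flat_algebraMap_iff (R := K) (S := Γ(T, ⊤))).2 inferInstance
    have h5 := Scheme.Hom.finrank_comp_left_of_isIso T.isoSpec.hom
      (Spec.map (CommRingCat.ofHom (sm K c)))
    rw [← hσ] at h5
    exact h5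
  rw [h4]
  exact h3

/-- `FiniteOfDegLE` in terms of Mathlib's finite morphisms and rank. -/
theorem fdl_iff_isFinite {T : Scheme.{u}} {K : Type u} [Field K]
    (c : T ⟶ Spec (CommRingCat.of K)) (n : ℕ) :
    FiniteOfDegLE (CommRingCat.of K) c n ↔ IsFinite c ∧ ∀ s, c.finrank s ≤ n := by
  constructor
  · intro h
    rw [fdl_iff] at h
    letI : Algebra K Γ(T, ⊤) := (sm K c).toAlgebra
    obtain ⟨haff, hfin, hrk⟩ := h
    have hσ : c = T.isoSpec.hom ≫ Spec.map (CommRingCat.ofHom (sm K c)) :=
      Groth.Agent.Lib.H5bFQ.eq_isoSpec_comp c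
    haveI : IsFinite c := by
      rw [hσ]
      haveI : IsFinite (Spec.map (CommRingCat.ofHom (sm K c))) :=
        (IsFinite.SpecMap_iff _).2 hfin
      infer_instance
    refine ⟨inferInstance, fun s => ?_⟩
    rw [(finrank_eq_of_isFinite c).2.2 s]
    exact hrk
  · rintro ⟨hf, hrk⟩
    haveI := hf
    obtain ⟨h1, h2, h3⟩ := finrank_eq_of_isFinite c
    rw [fdl_iff]
    refine ⟨h1, h2, ?_⟩
    rw [← h3 (IsLocalRing.closedPoint K)]
    exact hrk _

/-- `DegFibresLE` through `FiniteOfDegLE`. -/
theorem degFibresLE_iff {F : Sp S} {U : Over S} (a : (yon S).obj U ⟶ F) (n : ℕ) :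
    W4dec.DegFibresLE n a ↔ ∀ (q : FieldPt F) (T : Over S) (c : T ⟶ q.pt) (d : T ⟶ U),
      IsPullback ((yon S).map c) ((yon S).map d) q.toHom a →
        FiniteOfDegLE (CommRingCat.of q.K) c.left n := by
  constructor
  · intro h q T c d sq
    exact (fdl_iff_isFinite (K := q.K) c.left n).2 (h q T c _ sq)
  · intro h q T c snd sq
    obtain ⟨d, rfl⟩ := (yon S).map_surjective snd
    exact (fdl_iff_isFinite (K := q.K) c.left n).1 (h q T c d sq)

/-- two pullback squares over the same cospan have isomorphic corners. -/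
theorem fdl_of_two_squares {F : Sp S} {U : Over S} (a : (yon S).obj U ⟶ F) (q : FieldPt F)
    {T T' : Over S} (c : T ⟶ q.pt) (d : T ⟶ U) (c' : T' ⟶ q.pt) (d' : T' ⟶ U)
    (sq : IsPullback ((yon S).map c) ((yon S).map d) q.toHom a)
    (sq' : IsPullback ((yon S).map c') ((yon S).map d') q.toHom a) (n : ℕ)
    (h : FiniteOfDegLE (CommRingCat.of q.K) c.left n) :
    FiniteOfDegLE (CommRingCat.of q.K) c'.left n := by
  let e0 := sq'.isoIsPullback _ _ sq
  let e : T' ≅ T := (yon S).preimageIso e0
  have he : e.hom ≫ c = c' := by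
    apply (yon S).map_injective
    rw [Functor.map_comp, Functor.preimageIso_hom, Functor.map_preimage]
    exact sq'.isoIsPullback_hom_fst _ _ sq
  have he' : ((Over.forget S).mapIso e).hom ≫ c.left = c'.left := by
    rw [Functor.mapIso_hom, ← he]; rfl
  exact fdl_iso q.K ((Over.forget S).mapIso e) c.left c'.left he' n h

/-- it suffices to bound one representing fibre over every field point. -/
theorem degFibresLE_of_exists {F : Sp S} {U : Over S} (a : (yon S).obj U ⟶ F) (n : ℕ)
    (h : ∀ q : FieldPt F, ∃ (T : Over S) (c : T ⟶ q.pt) (d : T ⟶ U),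
      IsPullback ((yon S).map c) ((yon S).map d) q.toHom a ∧
        FiniteOfDegLE (CommRingCat.of q.K) c.left n) :
    W4dec.DegFibresLE n a := by
  rw [degFibresLE_iff]
  intro q T' c' d' sq'
  obtain ⟨T, c, d, sq, hfdl⟩ := h q
  exact fdl_of_two_squares a q c d c' d' sq sq' n hfdl

/-- the field point defined by a morphism from the spectrum of a field. -/
noncomputable def fpOf {F : Sp S} {K : Type u} [Field K] (str : Spec (CommRingCat.of K) ⟶ S)
    (h : (yon S).obj (Over.mk str) ⟶ F) : FieldPt F :=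
  ⟨K, str, (J S).uliftYonedaEquiv h⟩

lemma fpOf_toHom {F : Sp S} {K : Type u} [Field K] (str : Spec (CommRingCat.of K) ⟶ S)
    (h : (yon S).obj (Over.mk str) ⟶ F) : (fpOf str h).toHom = h :=
  Equiv.symm_apply_apply _ _

/-- the fibre over an extension of a field point is the base change of the fibre. -/
theorem isPullback_of_factor {F : Sp S} {U : Over S} (a : (yon S).obj U ⟶ F) (q q' : FieldPt F)
    (b : q'.pt ⟶ q.pt) (hb : (yon S).map b ≫ q.toHom = q'.toHom)
    {T : Over S} (c : T ⟶ q.pt) (d : T ⟶ U)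
    (sq : IsPullback ((yon S).map c) ((yon S).map d) q.toHom a) :
    IsPullback ((yon S).map (pullback.snd c b)) ((yon S).map (pullback.fst c b ≫ d)) q'.toHom a := by
  have h1 : IsPullback ((yon S).map (pullback.fst c b)) ((yon S).map (pullback.snd c b))
      ((yon S).map c) ((yon S).map b) := (IsPullback.of_hasPullback c b).map (yon S)
  have h2 := h1.paste_horiz sq.flip
  rw [hb, ← Functor.map_comp] at h2
  exact h2.flip

/-- the degree bound of a fibre is insensitive to extending the field point. -/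
theorem fdl_iff_of_factor {F : Sp S} {U : Over S} (a : (yon S).obj U ⟶ F) (q q' : FieldPt F)
    (b : q'.pt ⟶ q.pt) (hb : (yon S).map b ≫ q.toHom = q'.toHom)
    {T T' : Over S} (c : T ⟶ q.pt) (d : T ⟶ U) (c' : T' ⟶ q'.pt) (d' : T' ⟶ U)
    (sq : IsPullback ((yon S).map c) ((yon S).map d) q.toHom a)
    (sq' : IsPullback ((yon S).map c') ((yon S).map d') q'.toHom a) (n : ℕ) :
    FiniteOfDegLE (CommRingCat.of q.K) c.left n ↔ FiniteOfDegLE (CommRingCat.of q'.K) c'.left n := by
  have sq2 := isPullback_of_factor a q q' b hb c d sq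
  have hsq : IsPullback (pullback.fst c b).left (pullback.snd c b).left c.left b.left :=
    (IsPullback.of_hasPullback c b).map (Over.forget S)
  let φ : CommRingCat.of q.K ⟶ CommRingCat.of q'.K := Spec.preimage b.left
  have hφ : Spec.map φ = b.left := Spec.map_preimage _
  have hsq' : IsPullback (pullback.fst c b).left (pullback.snd c b).left c.left (Spec.map φ) := by
    rw [hφ]; exact hsq
  have key : FiniteOfDegLE (CommRingCat.of q.K) c.left n ↔
      FiniteOfDegLE (CommRingCat.of q'.K) (pullback.snd c b).left n := by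
    constructor
    · intro h
      exact fdl_iso q'.K hsq'.isoPullback _ _ hsq'.isoPullback_hom_snd n
        (fdl_baseChange q.K q'.K φ c.left n h)
    · intro h
      exact fdl_descent q.K q'.K φ c.left n
        (fdl_iso q'.K hsq'.isoPullback.symm _ _ hsq'.isoPullback_inv_snd n h)
  rw [key]
  exact ⟨fdl_of_two_squares a q' _ _ c' d' sq2 sq' n, fdl_of_two_squares a q' c' d' _ _ sq' sq2 n⟩

/-- the degree bound of the fibre of a representable map only depends on the point of `|F|`. -/
theorem fdl_iff_of_mk_eq {F : Sp S} {U : Over S} (a : (yon S).obj U ⟶ F) (hrep : Representable a)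
    (p q : FieldPt F) (h : Points.mk p = Points.mk q)
    {T T' : Over S} (c : T ⟶ p.pt) (d : T ⟶ U) (c' : T' ⟶ q.pt) (d' : T' ⟶ U)
    (sq : IsPullback ((yon S).map c) ((yon S).map d) p.toHom a)
    (sq' : IsPullback ((yon S).map c') ((yon S).map d') q.toHom a) (n : ℕ) :
    FiniteOfDegLE (CommRingCat.of p.K) c.left n ↔ FiniteOfDegLE (CommRingCat.of q.K) c'.left n := by
  obtain ⟨Ω, hΩ, w, α, β, hαβ⟩ :=
    Groth.Agent.Lib.Helper9.SpPoint.rel_toHom (Points.mk_eq_mk_iff.1 h)
  let r : FieldPt F := fpOf w ((yon S).map α ≫ p.toHom)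
  have hr : r.toHom = (yon S).map α ≫ p.toHom := fpOf_toHom _ _
  have sqr := (hrep.isPullback' r.toHom).flip
  have h1 := fdl_iff_of_factor a p r α hr.symm c d _ _ sq sqr n
  have h2 := fdl_iff_of_factor a q r β (by rw [hr, hαβ]; rfl) c' d' _ _ sq' sqr n
  rw [h1, h2]

end Groth.Agent.Lib.H5bUBF
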