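import Mathlib
import Groth.Agent.Lib.H5bUBF

/-!
# Universally bounded fibres for algebraic spaces, part 2 (helper5)

Scheme morphisms: `W4dec.DegFibresLE n (h_f)` agrees with helper2's `DegLE f.left n`; composition.
-/

set_option autoImplicit false
set_option linter.style.haveILetI false
universe u
open CategoryTheory CategoryTheory.Limits AlgebraicGeometry Topology TopologicalSpace
open AlgSp BddFib Groth.Agent.Lib.Helper2.BddFib Groth.Agent.Lib.H5bUBF

namespace Groth.Agent.Lib.H5bUBF

variable {S : Scheme.{u}}

/-- for a morphism of schemes, the algebraic-space notion gives helper2's `DegLE`. -/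
theorem degLE_of_degFibresLE {U V : Over S} (f : V ⟶ U) (n : ℕ)
    (h : W4dec.DegFibresLE n ((yon S).map f)) : DegLE f.left n := by
  rw [degFibresLE_iff] at h
  intro K _ g0
  let g0' : Over.mk (g0 ≫ U.hom) ⟶ U := Over.homMk g0 rfl
  let q0 : FieldPt ((yon S).obj U) := fpOf (g0 ≫ U.hom) ((yon S).map g0')
  have hq0 : q0.toHom = (yon S).map g0' := fpOf_toHom _ _
  have sq : IsPullback ((yon S).map (pullback.snd f g0')) ((yon S).map (pullback.fst f g0'))
      q0.toHom ((yon S).map f) := by
    rw [hq0]
    exact ((IsPullback.of_hasPullback f g0').map (yon S)).flip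
  have h1 : FiniteOfDegLE (CommRingCat.of K) (pullback.snd f g0').left n := h q0 _ _ _ sq
  have hsq : IsPullback (pullback.fst f g0').left (pullback.snd f g0').left f.left g0 :=
    (IsPullback.of_hasPullback f g0').map (Over.forget S)
  exact fdl_iso K hsq.isoPullback.symm _ _ hsq.isoPullback_inv_snd n h1

/-- for a morphism of schemes, helper2's `DegLE` gives the algebraic-space notion. -/
theorem degFibresLE_of_degLE {U V : Over S} (f : V ⟶ U) (n : ℕ) (h : DegLE f.left n) :
    W4dec.DegFibresLE n ((yon S).map f) := by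
  apply degFibresLE_of_exists
  intro q
  obtain ⟨b, hb⟩ := (yon S).map_surjective q.toHom
  refine ⟨pullback f b, pullback.snd f b, pullback.fst f b, ?_, ?_⟩
  · rw [← hb]
    exact ((IsPullback.of_hasPullback f b).map (yon S)).flip
  · have hsq : IsPullback (pullback.fst f b).left (pullback.snd f b).left f.left b.left :=
      (IsPullback.of_hasPullback f b).map (Over.forget S)
    exact fdl_iso q.K hsq.isoPullback _ _ hsq.isoPullback_hom_snd n (h q.K b.left)

theorem degFibresLE_yon_map_iff {U V : Over S} (f : V ⟶ U) (n : ℕ) :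
    W4dec.DegFibresLE n ((yon S).map f) ↔ DegLE f.left n :=
  ⟨degLE_of_degFibresLE f n, degFibresLE_of_degLE f n⟩

/-- composition: a scheme morphism with fibres of degree `≤ n` followed by a representable map
to a sheaf with fibres of degree `≤ m`. -/
theorem degFibresLE_comp {F : Sp S} {U V : Over S} (f : V ⟶ U) (g : (yon S).obj U ⟶ F)
    (hrep : Representable g) (n m : ℕ) (hf : DegLE f.left n) (hg : W4dec.DegFibresLE m g) :
    W4dec.DegFibresLE (n * m) ((yon S).map f ≫ g) := by
  rw [degFibresLE_iff] at hg ⊢
  intro q T c d sq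
  have sqU := (hrep.isPullback' q.toHom).flip
  obtain ⟨TU, cU, dU, sqU⟩ : ∃ (TU : Over S) (cU : TU ⟶ q.pt) (dU : TU ⟶ U),
      IsPullback ((yon S).map cU) ((yon S).map dU) q.toHom g := ⟨_, _, _, sqU⟩
  have hw : (yon S).map c ≫ q.toHom = (yon S).map (d ≫ f) ≫ g := by
    rw [Functor.map_comp, Category.assoc]; exact sq.w
  obtain ⟨l, hl⟩ := (yon S).map_surjective (sqU.lift _ _ hw)
  have hl1 : (yon S).map l ≫ (yon S).map cU = (yon S).map c := by rw [hl, sqU.lift_fst]
  have hl2 : (yon S).map l ≫ (yon S).map dU = (yon S).map (d ≫ f) := by rw [hl, sqU.lift_snd]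
  have big : IsPullback ((yon S).map d) ((yon S).map l ≫ (yon S).map cU) ((yon S).map f ≫ g)
      q.toHom := by rw [hl1]; exact sq.flip
  have top : IsPullback ((yon S).map d) ((yon S).map l) ((yon S).map f) ((yon S).map dU) :=
    IsPullback.of_bot big (by rw [hl2, Functor.map_comp]) sqU.flip
  have top' : IsPullback d l f dU := IsPullback.of_map (yon S) (by
    apply (yon S).map_injective
    rw [Functor.map_comp, Functor.map_comp]; exact top.w) top
  have top'' : IsPullback d.left l.left f.left dU.left := top'.map (Over.forget S)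
  have hq : DegLE l.left n := DegLE_of_isPullback f.left dU.left l.left d.left top'' n hf
  have h1 := fdl_comp q.K l.left n hq cU.left m (hg q TU cU dU sqU)
  have hc : l.left ≫ cU.left = c.left := by
    have : l ≫ cU = c := (yon S).map_injective (by rw [Functor.map_comp]; exact hl1)
    rw [← this]; rfl
  rw [hc] at h1
  exact h1

end Groth.Agent.Lib.H5bUBF
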