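import Mathlib
import Groth.Agent.Lib.H5bUBF2

/-!
# Universally bounded fibres for algebraic spaces, part 3 (helper5)

A scheme over a field covered by the open images of finitely many flat maps from schemes finite
of bounded degree is finite of bounded degree.
-/

set_option autoImplicit false
set_option linter.style.haveILetI false
universe u
open CategoryTheory CategoryTheory.Limits AlgebraicGeometry Topology TopologicalSpace
open AlgSp BddFib Groth.Agent.Lib.Helper2.BddFib Groth.Agent.Lib.H5bUBF

namespace Groth.Agent.Lib.H5bUBF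

variable {S : Scheme.{u}}

/-- a scheme over a field, covered by the (open) images of finitely many flat maps from schemes
finite of degree `≤ d j`, is finite of degree `≤ ∑ d j`. -/
theorem fdl_of_open_flat_family (K : Type u) [Field K] {T : Scheme.{u}}
    (p : T ⟶ Spec (CommRingCat.of K)) {ι : Type u} [Fintype ι] (Tj : ι → Scheme.{u})
    (m : ∀ j, Tj j ⟶ T) [∀ j, Flat (m j)] (hopen : ∀ j, IsOpen (Set.range (m j)))
    (hcov : ∀ x : T, ∃ j, x ∈ Set.range (m j)) (d : ι → ℕ)
    (h : ∀ j, FiniteOfDegLE (CommRingCat.of K) (m j ≫ p) (d j)) :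
    FiniteOfDegLE (CommRingCat.of K) p (∑ j, d j) := by
  let O : ι → T.Opens := fun j => ⟨Set.range (m j), hopen j⟩
  have hr : ∀ j, Set.range (m j) ⊆ Set.range (O j).ι := by
    intro j
    rw [Scheme.Opens.range_ι]
    exact subset_rfl
  let l : ∀ j, Tj j ⟶ (O j).toScheme := fun j => IsOpenImmersion.lift (O j).ι (m j) (hr j)
  have hl : ∀ j, l j ≫ (O j).ι = m j := fun j => IsOpenImmersion.lift_fac _ _ _
  haveI : ∀ j, Flat (l j) := fun j => by
    have : Flat (l j ≫ (O j).ι) := by rw [hl j]; infer_instance
    exact MorphismProperty.of_postcomp (W := @Flat) (W' := @IsOpenImmersion) (l j) (O j).ι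
      inferInstance this
  haveI : ∀ j, Surjective (l j) := fun j => by
    constructor
    intro ⟨x, hx⟩
    obtain ⟨y, hy⟩ := hx
    refine ⟨y, ?_⟩
    apply (O j).ι.isOpenEmbedding.injective
    rw [← Scheme.Hom.comp_apply, hl j]
    exact hy
  refine fdl_of_cover K p (fun j => (O j).toScheme) (fun j => (O j).ι) ?_ d ?_
  · intro x
    obtain ⟨j, hj⟩ := hcov x
    refine ⟨j, ?_⟩
    rw [Scheme.Opens.range_ι]
    exact hj
  · intro j
    refine fdl_of_flat_surjective K (l j) ((O j).ι ≫ p) (d j) ?_
    rw [← Category.assoc, hl j]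
    exact h j

end Groth.Agent.Lib.H5bUBF
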