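import Mathlib
import Groth.Agent.Lib.H5bUBF3

/-!
# Universally bounded fibres for algebraic spaces, part 4 (helper5)

Post-composition with a monomorphism of sheaves.
-/

set_option autoImplicit false
set_option linter.style.haveILetI false
universe u
open CategoryTheory CategoryTheory.Limits AlgebraicGeometry Topology TopologicalSpace
open AlgSp BddFib Groth.Agent.Lib.Helper2.BddFib Groth.Agent.Lib.H5bUBF

namespace Groth.Agent.Lib.H5bUBF

/-- a pullback square stays a pullback square after composing the cospan with a monomorphism. -/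
theorem isPullback_comp_mono {C : Type*} [Category C] {P X Y W Z : C} {fst : P ⟶ X} {snd : P ⟶ Y}
    {f : X ⟶ W} {g : Y ⟶ W} (i : W ⟶ Z) [Mono i] (h : IsPullback fst snd f g) :
    IsPullback fst snd (f ≫ i) (g ≫ i) := by
  have w : fst ≫ f ≫ i = snd ≫ g ≫ i := by rw [← Category.assoc, h.w, Category.assoc]
  have hs : ∀ s : PullbackCone (f ≫ i) (g ≫ i), s.fst ≫ f = s.snd ≫ g := fun s => by
    rw [← cancel_mono i, Category.assoc, Category.assoc]; exact s.condition
  exact ⟨⟨w⟩, ⟨PullbackCone.IsLimit.mk _ (fun s => h.lift s.fst s.snd (hs s))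
    (fun s => h.lift_fst _ _ _) (fun s => h.lift_snd _ _ _)
    (fun s m h1 h2 => h.hom_ext (by rw [h1, h.lift_fst]) (by rw [h2, h.lift_snd]))⟩⟩

/-- and conversely. -/
theorem isPullback_of_comp_mono {C : Type*} [Category C] {P X Y W Z : C} {fst : P ⟶ X}
    {snd : P ⟶ Y} {f : X ⟶ W} {g : Y ⟶ W} (i : W ⟶ Z) [Mono i]
    (h : IsPullback fst snd (f ≫ i) (g ≫ i)) : IsPullback fst snd f g := by
  have w : fst ≫ f = snd ≫ g := by
    rw [← cancel_mono i, Category.assoc, Category.assoc, h.w]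
  have hs : ∀ s : PullbackCone f g, s.fst ≫ f ≫ i = s.snd ≫ g ≫ i := fun s => by
    rw [← Category.assoc, s.condition, Category.assoc]
  exact ⟨⟨w⟩, ⟨PullbackCone.IsLimit.mk _ (fun s => h.lift s.fst s.snd (hs s))
    (fun s => h.lift_fst _ _ _) (fun s => h.lift_snd _ _ _)
    (fun s m h1 h2 => h.hom_ext (by rw [h1, h.lift_fst]) (by rw [h2, h.lift_snd]))⟩⟩

variable {S : Scheme.{u}}

/-- post-composing with a monomorphism of sheaves keeps the bound on the fibres. -/
theorem degFibresLE_comp_mono {F G : Sp S} {U : Over S} (ψ : (yon S).obj U ⟶ F) (j : F ⟶ G)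
    [Mono j] (hψ : Representable ψ) (hrep : Representable (ψ ≫ j)) (n : ℕ)
    (hn : W4dec.DegFibresLE n ψ) : W4dec.DegFibresLE n (ψ ≫ j) := by
  rw [degFibresLE_iff] at hn ⊢
  intro q T c d sq
  by_cases hT : IsEmpty ↥T.left
  · exact fdl_of_isEmpty q.K c.left n
  rw [not_isEmpty_iff] at hT
  obtain ⟨τ⟩ := hT
  have hτ := Groth.Agent.Lib.H5bFQ3.ofPt_eq_mk_of_sq q (ψ ≫ j) c d sq.w τ
  rw [← Points.map_ofPt] at hτ
  obtain ⟨p, hp⟩ := Points.mk_surjective (Points.ofPt ψ (d.left τ))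
  rw [← hp] at hτ
  have hp' : (p.map j).toHom = p.toHom ≫ j := FieldPt.toHom_map j p
  have sq1 := (hψ.isPullback' p.toHom).flip
  obtain ⟨T1, c1, d1, sq1⟩ : ∃ (T1 : Over S) (c1 : T1 ⟶ p.pt) (d1 : T1 ⟶ U),
      IsPullback ((yon S).map c1) ((yon S).map d1) p.toHom ψ := ⟨_, _, _, sq1⟩
  have h1 : FiniteOfDegLE (CommRingCat.of p.K) c1.left n := hn p T1 c1 d1 sq1
  have sq1' : IsPullback ((yon S).map c1) ((yon S).map d1) (p.map j).toHom (ψ ≫ j) := by
    rw [hp']; exact isPullback_comp_mono j sq1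
  exact (fdl_iff_of_mk_eq (ψ ≫ j) hrep (p.map j) q hτ c1 d1 c d sq1' sq n).1 h1

end Groth.Agent.Lib.H5bUBF
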