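import Mathlib
import Groth.Prelude
import Groth.Agent.Lib.Helper8FOThick
import Groth.Agent.S9927
import Groth.Agent.Lib.Helper9ShfGrp

/-!
Gluing of lifts along thickenings of algebraic spaces: existence and uniqueness of a lift on every
affine etale chart of the target gives a unique global lift.
-/

set_option autoImplicit false
universe u
open CategoryTheory CategoryTheory.Limits AlgebraicGeometry Opposite

namespace Groth.Agent.Lib.Helper8FOGlue

open Groth.Agent.S13210 Groth.Agent.Lib.Helper12.ZarGlue Groth.Agent.Lib.Helper8FOThick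
open Groth.Agent.Lib.Helper12.MonoFactor

variable {S : Scheme.{u}}

/-! ### open subschemes as objects over `S` -/

/-- an open subscheme of `W`, over `S`. -/
noncomputable abbrev opOb (W : Over S) (U : W.left.Opens) : Over S := Over.mk (U.ι ≫ W.hom)

/-- the inclusion of an open subscheme, over `S`. -/
noncomputable abbrev opι (W : Over S) (U : W.left.Opens) : opOb W U ⟶ W := Over.homMk U.ι rfl

/-- the inclusion between open subschemes, over `S`. -/
noncomputable def opLE (W : Over S) {U U' : W.left.Opens} (h : U ≤ U') : opOb W U ⟶ opOb W U' :=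
  Over.homMk (W.left.homOfLE h) (W.left.homOfLE_ι_assoc h W.hom)

lemma opLE_ι (W : Over S) {U U' : W.left.Opens} (h : U ≤ U') : opLE W h ≫ opι W U' = opι W U :=
  Over.OverMorphism.ext (W.left.homOfLE_ι h)

lemma exists_lift_inf (W : Over S) (U U' : W.left.Opens) {Z : Over S} (gi : Z ⟶ opOb W U)
    (gj : Z ⟶ opOb W U') (hg : gi ≫ opι W U = gj ≫ opι W U') :
    ∃ Q : Z ⟶ opOb W (U ⊓ U'),
      Q ≫ opLE W (inf_le_left : U ⊓ U' ≤ U) = gi ∧ Q ≫ opLE W (inf_le_right : U ⊓ U' ≤ U') = gj := by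
  have hg' : gi.left ≫ U.ι = gj.left ≫ U'.ι := congrArg (fun t => t.left) hg
  have pb := isPullback_opens_inf U U'
  refine ⟨Over.homMk (pb.lift gi.left gj.left hg') ?_, ?_, ?_⟩
  · show pb.lift gi.left gj.left hg' ≫ (U ⊓ U').ι ≫ W.hom = Z.hom
    rw [← W.left.homOfLE_ι_assoc (inf_le_left : U ⊓ U' ≤ U) W.hom, pb.lift_fst_assoc]
    exact Over.w gi
  · apply Over.OverMorphism.ext
    exact pb.lift_fst _ _ _
  · apply Over.OverMorphism.ext
    exact pb.lift_snd _ _ _

lemma affine_cover (V : Over S) :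
    ∀ w : V.left, ∃ k : V.left.affineOpens, w ∈ (k.1 : V.left.Opens) := by
  intro w
  obtain ⟨U, hU, hwU, -⟩ :=
    exists_isAffineOpen_mem_and_subset (X := V.left) (x := w) (U := ⊤) trivial
  exact ⟨⟨U, hU⟩, hwU⟩

lemma etale_opι_comp {T' : AlgSp.Sp S} (V : Over S) (U : V.left.Opens)
    (c : (AlgSp.yon S).obj V ⟶ T') (hc : AlgSp.RepWith @Etale c) :
    AlgSp.RepWith @Etale ((AlgSp.yon S).map (opι V U) ≫ c) :=
  (AlgSp.repWith_isMultiplicative (S := S) @Etale).comp_mem _ _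
    ((AlgSp.repWith_yon_map_iff _ _).2 (inferInstanceAs (Etale U.ι))) hc

/-- Zariski gluing of maps from a representable sheaf. -/
theorem exists_glue_opens {F : AlgSp.Sp S} {W : Over S} {κ : Type u} (O : κ → W.left.Opens)
    (hO : ∀ w : W.left, ∃ k, w ∈ O k)
    (m : ∀ k, (AlgSp.yon S).obj (opOb W (O k)) ⟶ F)
    (compat : ∀ k k', (AlgSp.yon S).map (opLE W (inf_le_left : O k ⊓ O k' ≤ O k)) ≫ m k =
        (AlgSp.yon S).map (opLE W (inf_le_right : O k ⊓ O k' ≤ O k')) ≫ m k') :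
    ∃ M : (AlgSp.yon S).obj W ⟶ F, ∀ k, (AlgSp.yon S).map (opι W (O k)) ≫ M = m k := by
  have hmem := ofArrows_opens_mem O hO
  have hsh : Presieve.IsSheaf (AlgSp.J S) F.obj := (isSheaf_iff_isSheaf_of_type _ _).1 F.property
  have h1 := hsh.isSheafFor _ hmem
  rw [Presieve.isSheafFor_arrows_iff] at h1
  obtain ⟨t, ht, -⟩ := h1 (fun k => yEquiv _ F (m k)) (by
    intro k k' Z gi gj hg
    rw [map_yEquiv, map_yEquiv]
    congr 1
    obtain ⟨Q, hQ1, hQ2⟩ := exists_lift_inf W (O k) (O k') gi gj hg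
    rw [← hQ1, ← hQ2, Functor.map_comp, Functor.map_comp, Category.assoc, Category.assoc,
      compat k k'])
  refine ⟨(yEquiv _ F).symm t, fun k => ?_⟩
  apply (yEquiv _ F).injective
  rw [← map_yEquiv, Equiv.apply_symm_apply]
  exact ht k

/-! ### affine models of square zero closed immersions -/

/-- a presentation of a square zero closed immersion into an affine scheme as
`Spec (A ⧸ I) ⟶ Spec A`. -/
structure Model {V V₀ : Over S} (i : V₀ ⟶ V) where
  A : Type u
  [cr : CommRing A]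
  I : Ideal A
  sq_zero : I ^ 2 = ⊥
  str : Spec (.of A) ⟶ S
  eO : Over.mk str ≅ V
  eK : Over.mk (Spec.map (CommRingCat.ofHom (Ideal.Quotient.mk I)) ≫ str) ≅ V₀
  comm : (Over.homMk (Spec.map (CommRingCat.ofHom (Ideal.Quotient.mk I))) rfl :
      Over.mk (Spec.map (CommRingCat.ofHom (Ideal.Quotient.mk I)) ≫ str) ⟶ Over.mk str) ≫ eO.hom =
    eK.hom ≫ i

theorem nonempty_model {V V₀ : Over S} [IsAffine V.left] (i : V₀ ⟶ V) [IsClosedImmersion i.left]
    (hi : i.left.ker * i.left.ker = ⊥) : Nonempty (Model i) := by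
  obtain ⟨hV₀, hsurj⟩ := IsClosedImmersion.isAffine_surjective_of_isAffine i.left
  haveI := hV₀
  let φ : Γ(V.left, ⊤) →+* Γ(V₀.left, ⊤) := i.left.appTop.hom
  have hsurj' : Function.Surjective φ := hsurj
  let I : Ideal Γ(V.left, ⊤) := RingHom.ker φ
  have hI : I ^ 2 = ⊥ := by
    have h0 : (i.left.ker * i.left.ker).ideal ⟨⊤, isAffineOpen_top V.left⟩ =
        (⊥ : V.left.IdealSheafData).ideal ⟨⊤, isAffineOpen_top V.left⟩ := by rw [hi]
    rw [Scheme.IdealSheafData.ideal_mul, Scheme.IdealSheafData.ideal_bot, Pi.mul_apply,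
      Pi.bot_apply, Scheme.Hom.ker_apply] at h0
    rw [pow_two]
    exact h0
  let Ψ : CommRingCat.of Γ(V₀.left, ⊤) ≅ CommRingCat.of (Γ(V.left, ⊤) ⧸ I) :=
    (RingHom.quotientKerEquivOfSurjective hsurj').symm.toCommRingCatIso
  let str : Spec (CommRingCat.of Γ(V.left, ⊤)) ⟶ S := V.left.isoSpec.inv ≫ V.hom
  let eO : Over.mk str ≅ V := Over.isoMk V.left.isoSpec.symm rfl
  let k : Spec (CommRingCat.of (Γ(V.left, ⊤) ⧸ I)) ⟶ V₀.left :=
    Spec.map Ψ.hom ≫ V₀.left.isoSpec.inv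
  haveI : IsIso k := by dsimp only [k]; infer_instance
  have hcomp : i.left.appTop ≫ Ψ.hom = CommRingCat.ofHom (Ideal.Quotient.mk I) := by
    ext x
    exact RingHom.quotientKerEquivOfSurjective_symm_apply hsurj' x
  have hk : k ≫ i.left =
      Spec.map (CommRingCat.ofHom (Ideal.Quotient.mk I)) ≫ V.left.isoSpec.inv := by
    calc k ≫ i.left = Spec.map Ψ.hom ≫ (V₀.left.isoSpec.inv ≫ i.left) :=
          Category.assoc _ _ _
      _ = Spec.map Ψ.hom ≫ (Spec.map i.left.appTop ≫ V.left.isoSpec.inv) := by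
          rw [Scheme.isoSpec_inv_naturality]
      _ = Spec.map (i.left.appTop ≫ Ψ.hom) ≫ V.left.isoSpec.inv := by
          rw [Spec.map_comp, Category.assoc]
      _ = _ := by rw [hcomp]
  have hk' : k ≫ V₀.hom = Spec.map (CommRingCat.ofHom (Ideal.Quotient.mk I)) ≫ str := by
    rw [← Over.w i, ← Category.assoc, hk, Category.assoc]
  let eK : Over.mk (Spec.map (CommRingCat.ofHom (Ideal.Quotient.mk I)) ≫ str) ≅ V₀ :=
    Over.isoMk (asIso k) hk'
  refine ⟨{ A := Γ(V.left, ⊤), I := I, sq_zero := hI, str := str, eO := eO, eK := eK, comm := ?_ }⟩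
  apply Over.OverMorphism.ext
  exact hk.symm

/-- existence of lifts along a closed immersion into an affine scheme with square zero ideal. -/
theorem exists_lift_of_sqZero_affine {F G : AlgSp.Sp S} (f : F ⟶ G)
    (hf : AlgSp.IsFormallySmoothMor f)
    {V V₀ : Over S} [IsAffine V.left] (i : V₀ ⟶ V) [IsClosedImmersion i.left]
    (hi : i.left.ker * i.left.ker = ⊥)
    (top : (AlgSp.yon S).obj V₀ ⟶ F) (bot : (AlgSp.yon S).obj V ⟶ G)
    (comm : top ≫ f = (AlgSp.yon S).map i ≫ bot) :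
    ∃ l : (AlgSp.yon S).obj V ⟶ F, (AlgSp.yon S).map i ≫ l = top ∧ l ≫ f = bot := by
  obtain ⟨M⟩ := nonempty_model i hi
  letI := M.cr
  have e1 : (AlgSp.yon S).map M.eK.hom ≫ (AlgSp.yon S).map i =
      (AlgSp.yon S).map (Over.homMk (Spec.map (CommRingCat.ofHom (Ideal.Quotient.mk M.I))) rfl :
        Over.mk (Spec.map (CommRingCat.ofHom (Ideal.Quotient.mk M.I)) ≫ M.str) ⟶ Over.mk M.str) ≫
        (AlgSp.yon S).map M.eO.hom := by
    rw [← Functor.map_comp, ← Functor.map_comp, M.comm]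
  let sq : AlgSp.InfSq f :=
    { A := M.A, I := M.I, sq_zero := M.sq_zero, str := M.str
      top := (AlgSp.yon S).map M.eK.hom ≫ top
      bot := (AlgSp.yon S).map M.eO.hom ≫ bot
      comm := by rw [Category.assoc, comm, reassoc_of% e1] }
  obtain ⟨L, hL1, hL2⟩ := hf sq
  have hL1' : (AlgSp.yon S).map sq.j ≫ L = (AlgSp.yon S).map M.eK.hom ≫ top := hL1
  have hL2' : L ≫ f = (AlgSp.yon S).map M.eO.hom ≫ bot := hL2
  refine ⟨(AlgSp.yon S).map M.eO.inv ≫ L, ?_, ?_⟩
  · have h3 : i ≫ M.eO.inv = M.eK.inv ≫ sq.j := by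
      rw [Iso.eq_inv_comp, ← Category.assoc, ← M.comm, Category.assoc, Iso.hom_inv_id,
        Category.comp_id]
    calc (AlgSp.yon S).map i ≫ (AlgSp.yon S).map M.eO.inv ≫ L
        = (AlgSp.yon S).map (i ≫ M.eO.inv) ≫ L := ((AlgSp.yon S).map_comp_assoc _ _ _).symm
      _ = (AlgSp.yon S).map M.eK.inv ≫ (AlgSp.yon S).map sq.j ≫ L := by
          rw [h3, Functor.map_comp_assoc]
      _ = (AlgSp.yon S).map M.eK.inv ≫ (AlgSp.yon S).map M.eK.hom ≫ top := by rw [hL1']
      _ = (AlgSp.yon S).map (M.eK.inv ≫ M.eK.hom) ≫ top :=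
          ((AlgSp.yon S).map_comp_assoc _ _ _).symm
      _ = top := by rw [Iso.inv_hom_id, CategoryTheory.Functor.map_id, Category.id_comp]
  · calc ((AlgSp.yon S).map M.eO.inv ≫ L) ≫ f
        = (AlgSp.yon S).map M.eO.inv ≫ (AlgSp.yon S).map M.eO.hom ≫ bot := by
          rw [Category.assoc, hL2']
      _ = (AlgSp.yon S).map (M.eO.inv ≫ M.eO.hom) ≫ bot :=
          ((AlgSp.yon S).map_comp_assoc _ _ _).symm
      _ = bot := by rw [Iso.inv_hom_id, CategoryTheory.Functor.map_id, Category.id_comp]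

/-! ### lifts over charts -/

section Glue

variable {X Y T T' : AlgSp.Sp S} (f : X ⟶ Y) (j : T ⟶ T') (a : T ⟶ X) (b : T' ⟶ Y)

/-- `l : Q ⟶ X` is a solution of the lifting problem `(f, j, a, b)` over the chart `c : Q ⟶ T'`:
it lies over `c ≫ b` and restricts to `a` on `Q ×_{T'} T`. -/
def IsLiftFor {Q : AlgSp.Sp S} (c : Q ⟶ T') (l : Q ⟶ X) : Prop :=
  l ≫ f = c ≫ b ∧
    ∀ (Z : AlgSp.Sp S) (z : Z ⟶ T) (z' : Z ⟶ Q), z ≫ j = z' ≫ c → z' ≫ l = z ≫ a

variable {f j a b}

lemma IsLiftFor.comp {Q Q' : AlgSp.Sp S} {c : Q ⟶ T'} {l : Q ⟶ X} (h : IsLiftFor f j a b c l)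
    (g : Q' ⟶ Q) : IsLiftFor f j a b (g ≫ c) (g ≫ l) := by
  refine ⟨by rw [Category.assoc, h.1, Category.assoc], fun Z z z' hz => ?_⟩
  rw [← Category.assoc]
  exact h.2 Z z (z' ≫ g) (by rw [hz, Category.assoc])

lemma isLiftFor_iff_of_isPullback {Q Q₀ : AlgSp.Sp S} {c : Q ⟶ T'} {fst : Q₀ ⟶ T} {snd : Q₀ ⟶ Q}
    (sq : IsPullback fst snd j c) (l : Q ⟶ X) :
    IsLiftFor f j a b c l ↔ (snd ≫ l = fst ≫ a ∧ l ≫ f = c ≫ b) := by
  constructor
  · intro h
    exact ⟨h.2 Q₀ fst snd sq.w, h.1⟩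
  · rintro ⟨h1, h2⟩
    refine ⟨h2, fun Z z z' hz => ?_⟩
    calc z' ≫ l = (sq.lift z z' hz ≫ snd) ≫ l := by rw [sq.lift_snd]
      _ = sq.lift z z' hz ≫ fst ≫ a := by rw [Category.assoc, h1]
      _ = z ≫ a := by rw [← Category.assoc, sq.lift_fst]

lemma isLiftFor_id_iff (l : T' ⟶ X) :
    IsLiftFor f j a b (𝟙 T') l ↔ (j ≫ l = a ∧ l ≫ f = b) := by
  constructor
  · intro h
    refine ⟨?_, ?_⟩
    · have := h.2 T (𝟙 T) j (by rw [Category.id_comp, Category.comp_id])
      rwa [Category.id_comp] at this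
    · have := h.1
      rwa [Category.id_comp] at this
  · rintro ⟨h1, h2⟩
    refine ⟨by rw [h2, Category.id_comp], fun Z z z' hz => ?_⟩
    rw [Category.comp_id] at hz
    rw [← hz, Category.assoc, h1]

/-- uniqueness of lifts over affine etale charts gives uniqueness over all etale scheme charts. -/
theorem isLiftFor_unique
    (Hu : ∀ (V : Over S) (c : (AlgSp.yon S).obj V ⟶ T'), IsAffine V.left → AlgSp.RepWith @Etale c →
      ∀ l l', IsLiftFor f j a b c l → IsLiftFor f j a b c l' → l = l')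
    (V : Over S) (c : (AlgSp.yon S).obj V ⟶ T') (hc : AlgSp.RepWith @Etale c)
    (l l' : (AlgSp.yon S).obj V ⟶ X) (hl : IsLiftFor f j a b c l) (hl' : IsLiftFor f j a b c l') :
    l = l' := by
  apply hom_ext_of_ofArrows_mem _ _
    (ofArrows_opens_mem (fun k : V.left.affineOpens => (k.1 : V.left.Opens)) (affine_cover V))
  intro k
  exact Hu _ _ (show IsAffine (opOb V k.1).left from k.2) (etale_opι_comp V k.1 c hc) _ _
    (hl.comp _) (hl'.comp _)

/-- existence and uniqueness of lifts over affine etale charts gives existence over all etale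
scheme charts. -/
theorem exists_isLiftFor
    (Hu : ∀ (V : Over S) (c : (AlgSp.yon S).obj V ⟶ T'), IsAffine V.left → AlgSp.RepWith @Etale c →
      ∀ l l', IsLiftFor f j a b c l → IsLiftFor f j a b c l' → l = l')
    (He : ∀ (V : Over S) (c : (AlgSp.yon S).obj V ⟶ T'), IsAffine V.left → AlgSp.RepWith @Etale c →
      ∃ l, IsLiftFor f j a b c l)
    (V : Over S) (c : (AlgSp.yon S).obj V ⟶ T') (hc : AlgSp.RepWith @Etale c) :
    ∃ l, IsLiftFor f j a b c l := by
  have hcov := affine_cover V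
  choose m hm using fun k : V.left.affineOpens =>
    He (opOb V k.1) ((AlgSp.yon S).map (opι V k.1) ≫ c) k.2 (etale_opι_comp V k.1 c hc)
  obtain ⟨M, hM⟩ := exists_glue_opens (fun k : V.left.affineOpens => (k.1 : V.left.Opens)) hcov m
    (by
      intro k k'
      apply isLiftFor_unique Hu (opOb V (k.1 ⊓ k'.1))
        ((AlgSp.yon S).map (opι V (k.1 ⊓ k'.1)) ≫ c) (etale_opι_comp V _ c hc)
      · have := (hm k).comp ((AlgSp.yon S).map (opLE V (inf_le_left : k.1 ⊓ k'.1 ≤ k.1)))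
        rwa [← Functor.map_comp_assoc, opLE_ι] at this
      · have := (hm k').comp ((AlgSp.yon S).map (opLE V (inf_le_right : k.1 ⊓ k'.1 ≤ k'.1)))
        rwa [← Functor.map_comp_assoc, opLE_ι] at this)
  refine ⟨M, ?_, ?_⟩
  · apply hom_ext_of_ofArrows_mem _ _
      (ofArrows_opens_mem (fun k : V.left.affineOpens => (k.1 : V.left.Opens)) hcov)
    intro k
    rw [← Category.assoc, hM k, (hm k).1, Category.assoc]
  · intro Z z z' hz
    apply Groth.Agent.S9928.sp_hom_ext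
    intro T₀ x
    obtain ⟨u, hu⟩ := (AlgSp.yon S).map_surjective (x ≫ z')
    apply hom_ext_of_mem_J (Sieve.pullback u (Sieve.ofArrows _ _))
      ((AlgSp.J S).pullback_stable u
        (ofArrows_opens_mem (fun k : V.left.affineOpens => (k.1 : V.left.Opens)) hcov))
    intro Z' g hg
    rw [Sieve.pullback_apply, Sieve.mem_ofArrows_iff] at hg
    obtain ⟨k, e, he⟩ := hg
    have h1 : (AlgSp.yon S).map g ≫ x ≫ z' =
        (AlgSp.yon S).map e ≫ (AlgSp.yon S).map (opι V k.1) := by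
      rw [← hu, ← Functor.map_comp, he, Functor.map_comp]
    have h1' := reassoc_of% h1
    have h2 := (hm k).2 _ ((AlgSp.yon S).map g ≫ x ≫ z) ((AlgSp.yon S).map e) (by
      simp only [Category.assoc]
      rw [hz]
      exact h1' c)
    calc (AlgSp.yon S).map g ≫ x ≫ z' ≫ M
        = (AlgSp.yon S).map e ≫ (AlgSp.yon S).map (opι V k.1) ≫ M := h1' M
      _ = (AlgSp.yon S).map e ≫ m k := by rw [hM k]
      _ = ((AlgSp.yon S).map g ≫ x ≫ z) ≫ a := h2
      _ = _ := by simp only [Category.assoc]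

/-- **Gluing of lifts**: if the lifting problem `(f, j, a, b)` has a unique solution over every
affine etale chart of the algebraic space `T'`, then it has a unique solution. -/
theorem existsUnique_lift (hT' : AlgSp.IsAlgSpace T')
    (Hu : ∀ (V : Over S) (c : (AlgSp.yon S).obj V ⟶ T'), IsAffine V.left → AlgSp.RepWith @Etale c →
      ∀ l l', IsLiftFor f j a b c l → IsLiftFor f j a b c l' → l = l')
    (He : ∀ (V : Over S) (c : (AlgSp.yon S).obj V ⟶ T'), IsAffine V.left → AlgSp.RepWith @Etale c →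
      ∃ l, IsLiftFor f j a b c l) :
    ∃! l : T' ⟶ X, j ≫ l = a ∧ l ≫ f = b := by
  obtain ⟨W, p, hpe, hps⟩ := hT'.atlas
  haveI : Epi p := Groth.Agent.S9927.epi_of_repWith p hpe hps
  obtain ⟨M, hM⟩ := exists_isLiftFor Hu He W p hpe
  obtain ⟨R, snd, fst, sq⟩ := hpe.1 p
  obtain ⟨pr, rfl⟩ := (AlgSp.yon S).map_surjective fst
  have hsnd : AlgSp.RepWith @Etale ((AlgSp.yon S).map snd) :=
    (AlgSp.repWith_isStableUnderBaseChange (S := S) @Etale).of_isPullback sq hpe
  have hchart : AlgSp.RepWith @Etale ((AlgSp.yon S).map snd ≫ p) :=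
    (AlgSp.repWith_isMultiplicative (S := S) @Etale).comp_mem _ _ hsnd hpe
  have hRM : (AlgSp.yon S).map pr ≫ M = (AlgSp.yon S).map snd ≫ M := by
    apply isLiftFor_unique Hu R _ hchart
    · have := hM.comp ((AlgSp.yon S).map pr)
      rwa [sq.w] at this
    · exact hM.comp _
  obtain ⟨l, hl⟩ := Groth.Agent.Lib.Helper9.exists_desc_of_epi (AlgSp.J S) p M (by
    intro Z g₁ g₂ hg
    calc g₁ ≫ M = (sq.lift g₁ g₂ hg ≫ (AlgSp.yon S).map pr) ≫ M := by rw [sq.lift_fst]
      _ = sq.lift g₁ g₂ hg ≫ (AlgSp.yon S).map snd ≫ M := by rw [Category.assoc, hRM]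
      _ = g₂ ≫ M := by rw [← Category.assoc, sq.lift_snd])
  have hlf : l ≫ f = b := by
    rw [← cancel_epi p, ← Category.assoc, hl, hM.1]
  have hjl : j ≫ l = a := by
    apply Groth.Agent.S9928.sp_hom_ext
    intro T₀ x
    obtain ⟨W₀, snd', fst', sq'⟩ := hpe.1 (x ≫ j)
    haveI : Etale snd'.left := hpe.2 _ fst' snd' sq'
    haveI : Surjective snd'.left := hps.2 _ fst' snd' sq'
    apply hom_ext_of_mem_J _ (Groth.Agent.Lib.Helper9.generate_singleton_mem_J_fppf snd')
    rintro Z g ⟨Z', a', b', ⟨⟩, rfl⟩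
    rw [Functor.map_comp, Category.assoc, Category.assoc]
    congr 1
    have h2 := hM.2 _ ((AlgSp.yon S).map snd' ≫ x) fst' (by
      rw [Category.assoc]
      exact sq'.w.symm)
    calc (AlgSp.yon S).map snd' ≫ x ≫ j ≫ l = (fst' ≫ p) ≫ l := by
          rw [sq'.w]
          simp only [Category.assoc]
      _ = fst' ≫ M := by rw [Category.assoc, hl]
      _ = (AlgSp.yon S).map snd' ≫ x ≫ a := by rw [h2, Category.assoc]
  refine ⟨l, ⟨hjl, hlf⟩, ?_⟩
  rintro l' ⟨h1, h2⟩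
  rw [← cancel_epi p, hl]
  apply isLiftFor_unique Hu W p hpe _ _ ?_ hM
  have := ((isLiftFor_id_iff l').2 ⟨h1, h2⟩).comp p
  rwa [Category.comp_id] at this

/-- formally unramified: uniqueness of lifts on affine etale charts of a first order thickening. -/
theorem affine_unique_of_unramified (hf : AlgSp.IsFormallyUnramifiedMor f)
    (hj : AlgSp.IsFOThickMor j) :
    ∀ (V : Over S) (c : (AlgSp.yon S).obj V ⟶ T'), IsAffine V.left → AlgSp.RepWith @Etale c →
      ∀ l l', IsLiftFor f j a b c l → IsLiftFor f j a b c l' → l = l' := by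
  intro V c hV hc l l' hl hl'
  haveI := hV
  obtain ⟨V₀, snd₀, fst₀, sq₀⟩ := hj.1.1 c
  have hthick : AlgSp.thick snd₀.left := hj.1.2 c fst₀ snd₀ sq₀
  have hsq : AlgSp.sqZero snd₀.left := hj.2 c fst₀ snd₀ hV hc sq₀
  haveI : IsClosedImmersion snd₀.left := hthick.1
  rw [isLiftFor_iff_of_isPullback sq₀] at hl hl'
  exact eq_of_sqZero_affine f hf snd₀ hsq l l' (hl.1.trans hl'.1.symm) (hl.2.trans hl'.2.symm)

/-- formally smooth: existence of lifts on affine etale charts of a first order thickening. -/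
theorem affine_exists_of_smooth (hf : AlgSp.IsFormallySmoothMor f)
    (hj : AlgSp.IsFOThickMor j) (w : a ≫ f = j ≫ b) :
    ∀ (V : Over S) (c : (AlgSp.yon S).obj V ⟶ T'), IsAffine V.left → AlgSp.RepWith @Etale c →
      ∃ l, IsLiftFor f j a b c l := by
  intro V c hV hc
  haveI := hV
  obtain ⟨V₀, snd₀, fst₀, sq₀⟩ := hj.1.1 c
  have hthick : AlgSp.thick snd₀.left := hj.1.2 c fst₀ snd₀ sq₀
  have hsq : AlgSp.sqZero snd₀.left := hj.2 c fst₀ snd₀ hV hc sq₀
  haveI : IsClosedImmersion snd₀.left := hthick.1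
  obtain ⟨l, h1, h2⟩ := exists_lift_of_sqZero_affine f hf snd₀ hsq (fst₀ ≫ a) (c ≫ b) (by
    rw [Category.assoc, w, ← Category.assoc, sq₀.w, Category.assoc])
  exact ⟨l, (isLiftFor_iff_of_isPullback sq₀ l).2 ⟨h1, h2⟩⟩

/-- the pullback of a first order thickening to an affine etale chart is a first order
thickening. -/
theorem isFOThickMor_of_chart (hj : AlgSp.IsFOThickMor j) {V V₀ : Over S}
    (c : (AlgSp.yon S).obj V ⟶ T') (hc : AlgSp.RepWith @Etale c)
    (fst₀ : (AlgSp.yon S).obj V₀ ⟶ T) (snd₀ : V₀ ⟶ V)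
    (sq₀ : IsPullback fst₀ ((AlgSp.yon S).map snd₀) j c) :
    AlgSp.IsFOThickMor ((AlgSp.yon S).map snd₀) := by
  refine ⟨(AlgSp.isThickMor_yon_map_iff snd₀).2 (hj.1.2 c fst₀ snd₀ sq₀), ?_⟩
  intro V' W' b' fst' snd' hV' hb' sq'
  exact hj.2 (b' ≫ c) (fst' ≫ fst₀) snd' hV'
    ((AlgSp.repWith_isMultiplicative (S := S) @Etale).comp_mem _ _ hb' hc) (sq'.paste_horiz sq₀)

end Glue

end Groth.Agent.Lib.Helper8FOGlue
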