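import Mathlib
import Groth.Prelude.Def_AlgSpInf
import Groth.Prelude.Def_Omega3
import Groth.Agent.S10630
import Groth.Agent.S10631
import Groth.Agent.Lib.H5bFormalBase

/-!
# Universal first order thickenings: from schemes to sheaves (helper5)

* `isFOThickMor_yon_map`: a first order thickening of schemes over `S` (arbitrary target) is a
  first order thickening of fppf sheaves;
* `isUnivFOThick_of_scheme`: a universal first order thickening of schemes `V ⊂ V'` over `U` is a
  universal first order thickening of sheaves `h_V ⊂ h_{V'}` over `h_U`;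
* `isUnivFOThick_over`: and over any algebraic space `X` with `h_U ⟶ X` formally étale.
-/

set_option autoImplicit false
set_option linter.style.haveILetI false
universe u

namespace Groth.Agent.Lib.H5bUFT

open CategoryTheory CategoryTheory.Limits AlgebraicGeometry Opposite MorphismProperty
open AlgSp

variable {S : Scheme.{u}}

/-- a pullback square of representable sheaves comes from a pullback square of schemes. -/
lemma isPullback_left_of_yon {A B C D : Over S} {f : A ⟶ B} {g : A ⟶ C} {h : B ⟶ D} {k : C ⟶ D}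
    (sq : IsPullback ((AlgSp.yon S).map f) ((AlgSp.yon S).map g) ((AlgSp.yon S).map h)
      ((AlgSp.yon S).map k)) : IsPullback f.left g.left h.left k.left := by
  have sq' : IsPullback f g h k := IsPullback.of_map (AlgSp.yon S) (by
    apply (AlgSp.yon S).map_injective
    rw [Functor.map_comp, Functor.map_comp]
    exact sq.w) sq
  exact sq'.map (Over.forget S)

/-- a first order thickening of schemes is a first order thickening of sheaves. -/
theorem isFOThickMor_yon_map {V₀ V : Over S} (g : V₀ ⟶ V)
    (hg : MoreMor.IsFirstOrderThickening g.left) : AlgSp.IsFOThickMor ((AlgSp.yon S).map g) := by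
  refine ⟨(AlgSp.isThickMor_yon_map_iff g).2 hg.1, ?_⟩
  intro W' W b fst snd hW' hb sq
  obtain ⟨β, rfl⟩ := (AlgSp.yon S).map_surjective b
  obtain ⟨φ, rfl⟩ := (AlgSp.yon S).map_surjective fst
  have sq' := isPullback_left_of_yon sq
  exact Groth.Agent.Lib.H5bFormal.sqZero_baseChange snd.left g.left φ.left β.left hg.1 hg.2 sq'.flip

/-- a universal first order thickening of schemes is one of sheaves. -/
theorem isUnivFOThick_of_scheme {V U V' : Over S} (ψ : V ⟶ U) (i : V ⟶ V') (h' : V' ⟶ U)
    (H : OmegaSh.IsUnivThickening ψ.left i.left h'.left) :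
    AlgSp.IsUnivFOThick ((AlgSp.yon S).map ψ) ((AlgSp.yon S).map i) ((AlgSp.yon S).map h') := by
  obtain ⟨hFO, hw, huniv⟩ := H
  have hw' : i ≫ h' = ψ := Over.OverMorphism.ext hw
  have key := (Groth.Agent.S10630.result (Z := (AlgSp.ofScheme S).obj V)
    (Z' := (AlgSp.ofScheme S).obj V') (X := (AlgSp.ofScheme S).obj U)
    ((AlgSp.ofScheme S).map ψ) ((AlgSp.ofScheme S).map i) ((AlgSp.ofScheme S).map h')
    (isFOThickMor_yon_map i hFO) (by rw [← Functor.map_comp, hw'])).2
  refine key ?_
  intro T T' j hT' hj a b hjb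
  obtain ⟨a₀, rfl⟩ := (AlgSp.yon S).map_surjective a
  obtain ⟨b₀, rfl⟩ := (AlgSp.yon S).map_surjective b
  have hjb' : j ≫ b₀ = a₀ ≫ ψ := by
    apply (AlgSp.yon S).map_injective
    rw [Functor.map_comp, Functor.map_comp]
    exact hjb
  have hFOj := AlgSp.isFirstOrderThickening_of_isFOThickMor_yon_map hT' hj
  obtain ⟨a', ⟨ha1, ha2⟩, hau⟩ := huniv T.left T'.left j.left b₀.left a₀.left hFOj
    (congrArg (fun m => m.left) hjb')
  have hover : a' ≫ V'.hom = T'.hom := by
    rw [← Over.w h', ← Category.assoc, ha2, Over.w b₀]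
  refine ⟨(AlgSp.yon S).map (Over.homMk a' hover), ⟨?_, ?_⟩, ?_⟩
  · show (AlgSp.yon S).map j ≫ (AlgSp.yon S).map (Over.homMk a' hover) =
      (AlgSp.yon S).map a₀ ≫ (AlgSp.yon S).map i
    rw [← Functor.map_comp, ← Functor.map_comp]
    congr 1
    exact Over.OverMorphism.ext ha1
  · show (AlgSp.yon S).map (Over.homMk a' hover) ≫ (AlgSp.yon S).map h' = (AlgSp.yon S).map b₀
    rw [← Functor.map_comp]
    congr 1
    exact Over.OverMorphism.ext ha2
  · rintro l ⟨hl1, hl2⟩
    obtain ⟨l₀, rfl⟩ := (AlgSp.yon S).map_surjective l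
    have hl1' : j ≫ l₀ = a₀ ≫ i := by
      apply (AlgSp.yon S).map_injective
      rw [Functor.map_comp, Functor.map_comp]
      exact hl1
    have hl2' : l₀ ≫ h' = b₀ := by
      apply (AlgSp.yon S).map_injective
      rw [Functor.map_comp]
      exact hl2
    have := hau l₀.left ⟨congrArg (fun m => m.left) hl1', congrArg (fun m => m.left) hl2'⟩
    congr 1
    exact Over.OverMorphism.ext this

/-- ... and over any sheaf to which `h_U` maps by a formally étale morphism. -/
theorem isUnivFOThick_over {V U V' : Over S} (ψ : V ⟶ U) (i : V ⟶ V') (h' : V' ⟶ U)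
    (H : OmegaSh.IsUnivThickening ψ.left i.left h'.left) {X : AlgSp.Space S}
    (u : (AlgSp.yon S).obj U ⟶ X.obj) (hu : AlgSp.IsFormallyEtaleMor u) :
    AlgSp.IsUnivFOThick ((AlgSp.yon S).map ψ ≫ u) ((AlgSp.yon S).map i)
      ((AlgSp.yon S).map h' ≫ u) :=
  Groth.Agent.S10631.result (Z := (AlgSp.ofScheme S).obj V) (Z' := (AlgSp.ofScheme S).obj V')
    (Y := (AlgSp.ofScheme S).obj U) (X := X) ((AlgSp.ofScheme S).map ψ)
    (ObjectProperty.homMk u) ((AlgSp.ofScheme S).map i) ((AlgSp.ofScheme S).map h')
    (isUnivFOThick_of_scheme ψ i h' H) hu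

end Groth.Agent.Lib.H5bUFT
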