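import Mathlib
import Groth.Prelude
import Groth.Agent.S9436

/-!
# Local lifting of étale morphisms along closed immersions (helper8)

* `exists_etale_lift_spec`: an étale scheme over `Spec (A/I)` lifts, Zariski locally, to an étale
  affine scheme over `Spec A` (the comparison map to the source is an open immersion);
* `exists_etale_lift_affine`: the same for a closed immersion into an affine scheme;
* `exists_etale_lift_closed`: the same for an arbitrary closed immersion of schemes.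
-/

set_option autoImplicit false
universe u
open CategoryTheory CategoryTheory.Limits AlgebraicGeometry Opposite TopologicalSpace

namespace Groth.Agent.Lib.Helper8EtLift

open TensorProduct in
/-- an étale scheme over `Spec (A/I)` lifts, locally, to an étale affine scheme over `Spec A`. -/
theorem exists_etale_lift_spec (A : Type u) [CommRing A] (I : Ideal A) {E : Scheme.{u}}
    (e : E ⟶ Spec (CommRingCat.of (A ⧸ I))) [Etale e] (x : E) :
    ∃ (W W₀ : Scheme.{u}) (c : W ⟶ Spec (CommRingCat.of A)) (k : W₀ ⟶ W) (r : W₀ ⟶ E),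
      IsAffine W ∧ Etale c ∧ IsOpenImmersion r ∧
      IsPullback k (r ≫ e) c (Spec.map (CommRingCat.ofHom (Ideal.Quotient.mk I))) ∧
      x ∈ Set.range r := by
  obtain ⟨U, hU, hxU, -⟩ :=
    exists_isAffineOpen_mem_and_subset (X := E) (x := x) (U := ⊤) trivial
  let θ : CommRingCat.of (A ⧸ I) ⟶ Γ(E, U) :=
    (Scheme.ΓSpecIso (CommRingCat.of (A ⧸ I))).inv ≫ e.appLE ⊤ U le_top
  have hfac : Spec.map θ = hU.fromSpec ≫ e := by
    have h1 := IsAffineOpen.SpecMap_appLE_fromSpec e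
      (isAffineOpen_top (Spec (CommRingCat.of (A ⧸ I)))) hU le_top
    rw [← h1, IsAffineOpen.fromSpec_top, Scheme.isoSpec_Spec_inv, ← Spec.map_comp]
  have hθe : Etale (Spec.map θ) := by
    rw [hfac]
    infer_instance
  have hθ : θ.hom.Etale := (HasRingHomProperty.Spec_iff (P := @Etale)).1 hθe
  algebraize [θ.hom]
  obtain ⟨C, _, _, hC, ⟨ε⟩⟩ := Groth.Agent.S9436.result A I Γ(E, U)
  let c : Spec (CommRingCat.of C) ⟶ Spec (CommRingCat.of A) :=
    Spec.map (CommRingCat.ofHom (algebraMap A C))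
  have hc : Etale c :=
    (HasRingHomProperty.Spec_iff (P := @Etale)).2 (RingHom.etale_algebraMap.2 hC)
  haveI : IsIso (CommRingCat.ofHom ε.symm.toRingHom) :=
    (RingEquiv.toCommRingCatIso ε.symm.toRingEquiv).isIso_hom
  let r : pullback (Spec.map (CommRingCat.ofHom (algebraMap A (A ⧸ I))))
      (Spec.map (CommRingCat.ofHom (algebraMap A C))) ⟶ E :=
    (pullbackSpecIso A (A ⧸ I) C).hom ≫ Spec.map (CommRingCat.ofHom ε.symm.toRingHom) ≫
      hU.fromSpec
  have hropen : IsOpenImmersion r := by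
    dsimp only [r]
    infer_instance
  have hre : r ≫ e = pullback.fst _ _ := by
    have h2 : θ ≫ CommRingCat.ofHom ε.symm.toRingHom =
        CommRingCat.ofHom (algebraMap (A ⧸ I) ((A ⧸ I) ⊗[A] C)) := by
      apply CommRingCat.hom_ext
      ext y
      exact ε.symm.commutes y
    calc r ≫ e = (pullbackSpecIso A (A ⧸ I) C).hom ≫
          Spec.map (CommRingCat.ofHom ε.symm.toRingHom) ≫ hU.fromSpec ≫ e := by
          simp only [r, Category.assoc]
      _ = (pullbackSpecIso A (A ⧸ I) C).hom ≫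
          Spec.map (θ ≫ CommRingCat.ofHom ε.symm.toRingHom) := by
          rw [← hfac, ← Spec.map_comp]
      _ = _ := by rw [h2, pullbackSpecIso_hom_fst']
  refine ⟨Spec (CommRingCat.of C), _, c, pullback.snd _ _, r, inferInstance, hc, hropen, ?_, ?_⟩
  · rw [hre]
    exact (IsPullback.of_hasPullback _ _).flip
  · have h3 : Set.range r = Set.range hU.fromSpec := by
      have e1 : r = ((pullbackSpecIso A (A ⧸ I) C).hom ≫
          Spec.map (CommRingCat.ofHom ε.symm.toRingHom)) ≫ hU.fromSpec := by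
        simp only [r, Category.assoc]
      rw [e1, Scheme.Hom.comp_base, TopCat.coe_comp, Set.range_comp]
      have hs : Function.Surjective ((pullbackSpecIso A (A ⧸ I) C).hom ≫
          Spec.map (CommRingCat.ofHom ε.symm.toRingHom)) :=
        (Scheme.Hom.surjective _)
      rw [hs.range_eq, Set.image_univ]
    rw [h3, hU.range_fromSpec]
    exact hxU

/-- an étale scheme over a closed subscheme `V₀` of an affine scheme `V` lifts, locally, to an
étale affine scheme over `V`. -/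
theorem exists_etale_lift_affine {V V₀ E : Scheme.{u}} [IsAffine V] (i : V₀ ⟶ V)
    [IsClosedImmersion i] (e : E ⟶ V₀) [Etale e] (x : E) :
    ∃ (B B₀ : Scheme.{u}) (c : B ⟶ V) (k : B₀ ⟶ B) (r : B₀ ⟶ E),
      IsAffine B ∧ Etale c ∧ IsOpenImmersion r ∧ IsPullback k (r ≫ e) c i ∧ x ∈ Set.range r := by
  obtain ⟨I, ε, hε⟩ := IsClosedImmersion.Spec_iff.1
    (inferInstance : IsClosedImmersion (i ≫ V.isoSpec.hom))
  obtain ⟨W, W₀, c, k, r, hW, hc, hr, sq, hx⟩ :=
    exists_etale_lift_spec Γ(V, ⊤) I (e ≫ ε.hom) x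
  haveI := hc
  refine ⟨W, W₀, c ≫ V.isoSpec.inv, k, r, hW, inferInstance, hr, ?_, hx⟩
  refine IsPullback.of_iso sq (Iso.refl _) (Iso.refl _) ε.symm V.isoSpec.symm ?_ ?_ ?_ ?_
  · simp
  · simp
  · simp
  · rw [Iso.symm_hom, Iso.symm_hom, ← cancel_mono V.isoSpec.hom, Category.assoc, Category.assoc,
      Iso.inv_hom_id, Category.comp_id, hε, Iso.inv_hom_id_assoc]

/-- an étale scheme over a closed subscheme `W₀` of a scheme `W` lifts, locally, to an étale
affine scheme over `W`. -/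
theorem exists_etale_lift_closed {W W₀ E : Scheme.{u}} (s : W₀ ⟶ W) [IsClosedImmersion s]
    (e : E ⟶ W₀) [Etale e] (x : E) :
    ∃ (B B₀ : Scheme.{u}) (c : B ⟶ W) (k : B₀ ⟶ B) (r : B₀ ⟶ E),
      IsAffine B ∧ Etale c ∧ IsOpenImmersion r ∧ IsPullback k (r ≫ e) c s ∧ x ∈ Set.range r := by
  obtain ⟨W₁, hW₁, hxW₁, -⟩ :=
    exists_isAffineOpen_mem_and_subset (X := W) (x := s (e x)) (U := ⊤) trivial
  haveI : IsAffine (W₁ : Scheme.{u}) := hW₁
  have sqs := isPullback_morphismRestrict s W₁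
  have sqe := isPullback_morphismRestrict e (s ⁻¹ᵁ W₁)
  haveI : IsClosedImmersion (s ∣_ W₁) :=
    MorphismProperty.of_isPullback (P := @IsClosedImmersion) sqs.flip inferInstance
  haveI : Etale (e ∣_ (s ⁻¹ᵁ W₁)) :=
    MorphismProperty.of_isPullback (P := @Etale) sqe.flip inferInstance
  have hx₁ : x ∈ e ⁻¹ᵁ (s ⁻¹ᵁ W₁) := hxW₁
  obtain ⟨B, B₀, c, k, r, hB, hc, hr, sq, hx⟩ :=
    exists_etale_lift_affine (s ∣_ W₁) (e ∣_ (s ⁻¹ᵁ W₁)) ⟨x, hx₁⟩
  haveI := hc
  haveI := hr
  refine ⟨B, B₀, c ≫ W₁.ι, k, r ≫ (e ⁻¹ᵁ (s ⁻¹ᵁ W₁)).ι, hB, inferInstance, inferInstance, ?_, ?_⟩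
  · have h := sq.paste_vert sqs
    have e1 : (r ≫ (e ⁻¹ᵁ (s ⁻¹ᵁ W₁)).ι) ≫ e = (r ≫ e ∣_ (s ⁻¹ᵁ W₁)) ≫ (s ⁻¹ᵁ W₁).ι := by
      rw [Category.assoc, Category.assoc, morphismRestrict_ι]
    rw [e1]
    exact h
  · obtain ⟨b, hb⟩ := hx
    refine ⟨b, ?_⟩
    rw [Scheme.Hom.comp_apply, hb]
    rfl

end Groth.Agent.Lib.Helper8EtLift
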