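import Mathlib
import Groth.Prelude
import Groth.Agent.Lib.Helper8EtLift
import Groth.Agent.Lib.Helper12EtSrc

/-!
# Local étale lifting along closed immersions of algebraic spaces, and auxiliary lemmas (helper8)

* `repWith_etale_of_local`: a map from a scheme to an algebraic space is representable étale as
  soon as it is so étale locally on the scheme;
* `univFOThick_unique`: universal first order thickenings are unique up to unique isomorphism;
* `exists_open_restrict`: an open subscheme of the thin part of a thickening of schemes extends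
  to an open subscheme of the thick part;
* `exists_etale_chart_lift`: étale charts of a closed subspace lift, locally, to étale charts of
  the ambient algebraic space.
-/

set_option autoImplicit false
universe u
open CategoryTheory CategoryTheory.Limits AlgebraicGeometry Opposite TopologicalSpace

namespace Groth.Agent.Lib.Helper8EtLiftSp

open Groth.Agent.Lib.Helper8EtLift

variable {S : Scheme.{u}}

/-- a map `ℓ : h_W ⟶ G` which is representable étale after precomposing with a jointly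
surjective family of étale maps to `W` is representable étale. -/
theorem repWith_etale_of_local {G : AlgSp.Sp S} {W : Over S} (ℓ : (AlgSp.yon S).obj W ⟶ G)
    (hrep : AlgSp.Representable ℓ)
    (H : ∀ x : W.left, ∃ (B : Over S) (β : B ⟶ W), Etale β.left ∧ x ∈ Set.range β.left ∧
      AlgSp.RepWith @Etale ((AlgSp.yon S).map β ≫ ℓ)) :
    AlgSp.RepWith @Etale ℓ := by
  refine ⟨hrep, fun T P g fst snd sq => ?_⟩
  obtain ⟨fst₀, rfl⟩ := (AlgSp.yon S).map_surjective fst
  show Etale snd.left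
  choose B β hβe hβx hβ using H
  have key : ∀ p : P.left, ∃ (Q : Scheme.{u}) (q : Q ⟶ P.left), Etale q ∧ p ∈ Set.range q ∧
      Etale (q ≫ snd.left) := by
    intro p
    have sq1 : IsPullback ((AlgSp.yon S).map (pullback.fst (β (fst₀.left p)) fst₀))
        ((AlgSp.yon S).map (pullback.snd (β (fst₀.left p)) fst₀))
        ((AlgSp.yon S).map (β (fst₀.left p))) ((AlgSp.yon S).map fst₀) :=
      (IsPullback.of_hasPullback (β (fst₀.left p)) fst₀).map (AlgSp.yon S)
    have big := sq1.paste_vert sq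
    rw [← Functor.map_comp] at big
    have h1 : Etale (pullback.snd (β (fst₀.left p)) fst₀ ≫ snd).left := (hβ (fst₀.left p)).2 _ _ _ big
    have hsq : IsPullback (pullback.fst (β (fst₀.left p)) fst₀).left
        (pullback.snd (β (fst₀.left p)) fst₀).left (β (fst₀.left p)).left fst₀.left :=
      (IsPullback.of_hasPullback (β (fst₀.left p)) fst₀).map (Over.forget S)
    haveI := hβe (fst₀.left p)
    have h2 : Etale (pullback.snd (β (fst₀.left p)) fst₀).left :=
      MorphismProperty.of_isPullback (P := @Etale) hsq inferInstance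
    obtain ⟨b, hb⟩ := hβx (fst₀.left p)
    obtain ⟨z', hz1, hz2⟩ := Scheme.Pullback.exists_preimage_pullback b p hb
    refine ⟨_, (pullback.snd (β (fst₀.left p)) fst₀).left, h2, ⟨hsq.isoPullback.inv z', ?_⟩, ?_⟩
    · rw [← Scheme.Hom.comp_apply, IsPullback.isoPullback_inv_snd]
      exact hz2
    · rw [← Over.comp_left]
      exact h1
  choose Q q hqe hqx hqs using key
  haveI : Etale (Sigma.desc q) := IsZariskiLocalAtSource.sigmaDesc (P := @Etale) hqe
  haveI : Surjective (Sigma.desc q) := by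
    refine ⟨fun p => ?_⟩
    obtain ⟨w, hw⟩ := hqx p
    refine ⟨(Sigma.ι Q p) w, ?_⟩
    rw [← Scheme.Hom.comp_apply, Sigma.ι_desc]
    exact hw
  have e1 : Sigma.desc q ≫ snd.left = Sigma.desc (fun p => q p ≫ snd.left) := by
    apply Sigma.hom_ext
    intro p
    rw [Sigma.ι_desc_assoc, Sigma.ι_desc]
  haveI : Etale (Sigma.desc q ≫ snd.left) := by
    rw [e1]
    exact IsZariskiLocalAtSource.sigmaDesc (P := @Etale) hqs
  exact Groth.Agent.Lib.Helper12.EtSrc.etale_of_etale_cover_source (Sigma.desc q) snd.left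

/-- universal first order thickenings are unique up to (unique) isomorphism. -/
theorem univFOThick_unique {T T₁ T₂ X : AlgSp.Sp S} (hT : AlgSp.IsAlgSpace T)
    (hT₁ : AlgSp.IsAlgSpace T₁) (hT₂ : AlgSp.IsAlgSpace T₂)
    (g : T ⟶ X) (i₁ : T ⟶ T₁) (h₁ : T₁ ⟶ X) (i₂ : T ⟶ T₂) (h₂ : T₂ ⟶ X)
    (H₁ : AlgSp.IsUnivFOThick g i₁ h₁) (H₂ : AlgSp.IsUnivFOThick g i₂ h₂) :
    ∃ θ : T₁ ≅ T₂, i₁ ≫ θ.hom = i₂ ∧ θ.hom ≫ h₂ = h₁ := by
  obtain ⟨hi₁, hw₁, U₁⟩ := H₁
  obtain ⟨hi₂, hw₂, U₂⟩ := H₂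
  obtain ⟨a, ⟨ha1, ha2⟩, -⟩ := U₂ hT hT₁ i₁ (𝟙 T) h₁ hi₁ (by rw [hw₁, Category.id_comp])
  obtain ⟨b, ⟨hb1, hb2⟩, -⟩ := U₁ hT hT₂ i₂ (𝟙 T) h₂ hi₂ (by rw [hw₂, Category.id_comp])
  rw [Category.id_comp] at ha1 hb1
  obtain ⟨c, -, hc⟩ := U₁ hT hT₁ i₁ (𝟙 T) h₁ hi₁ (by rw [hw₁, Category.id_comp])
  obtain ⟨d, -, hd⟩ := U₂ hT hT₂ i₂ (𝟙 T) h₂ hi₂ (by rw [hw₂, Category.id_comp])
  have hab : a ≫ b = 𝟙 T₁ := by
    rw [hc (a ≫ b) ⟨by rw [← Category.assoc, ha1, hb1, Category.id_comp],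
        by rw [Category.assoc, hb2, ha2]⟩,
      hc (𝟙 T₁) ⟨by rw [Category.comp_id, Category.id_comp], Category.id_comp _⟩]
  have hba : b ≫ a = 𝟙 T₂ := by
    rw [hd (b ≫ a) ⟨by rw [← Category.assoc, hb1, ha1, Category.id_comp],
        by rw [Category.assoc, ha2, hb2]⟩,
      hd (𝟙 T₂) ⟨by rw [Category.comp_id, Category.id_comp], Category.id_comp _⟩]
  exact ⟨⟨a, b, hab, hba⟩, ha1, ha2⟩

/-- an open subscheme of the thin part of a thickening of schemes is the trace of an open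
subscheme of the thick part. -/
theorem exists_open_restrict {B' B₀ B₁ : Over S} (k : B₀ ⟶ B') (hk : IsClosedImmersion k.left)
    (hks : Surjective k.left) (r : B₁ ⟶ B₀) (hr : IsOpenImmersion r.left) :
    ∃ (O : Over S) (o : O ⟶ B') (k' : B₁ ⟶ O), IsOpenImmersion o.left ∧ IsPullback k' r o k := by
  have hhomeo : IsHomeomorph k.left :=
    isHomeomorph_iff_isEmbedding_surjective.2 ⟨k.left.isClosedEmbedding.isEmbedding, hks.surj⟩
  let U : B'.left.Opens := ⟨k.left '' Set.range r.left,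
    hhomeo.isOpenMap _ r.left.isOpenEmbedding.isOpen_range⟩
  have hpre : k.left ⁻¹ᵁ U = r.left.opensRange := by
    ext y
    constructor
    · rintro ⟨z, hz, hzy⟩
      rw [← hhomeo.injective hzy]
      exact hz
    · intro hy
      exact ⟨y, hy, rfl⟩
  have hsub : Set.range (r.left ≫ k.left) ⊆ Set.range U.ι := by
    rw [Scheme.Opens.range_ι]
    rintro _ ⟨w, rfl⟩
    exact ⟨r.left w, ⟨w, rfl⟩, rfl⟩
  let k₀ : B₁.left ⟶ (U : Scheme.{u}) := IsOpenImmersion.lift U.ι (r.left ≫ k.left) hsub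
  have hk₀ : k₀ ≫ U.ι = r.left ≫ k.left := IsOpenImmersion.lift_fac _ _ _
  have sq : IsPullback k₀ r.left U.ι k.left :=
    IsOpenImmersion.isPullback k₀ r.left U.ι k.left hk₀.symm
      (by rw [Scheme.Opens.opensRange_ι]; exact hpre)
  let O : Over S := Over.mk (U.ι ≫ B'.hom)
  let o : O ⟶ B' := Over.homMk U.ι rfl
  let k' : B₁ ⟶ O := Over.homMk k₀ (by
    show k₀ ≫ U.ι ≫ B'.hom = B₁.hom
    rw [← Category.assoc, hk₀, Category.assoc, Over.w k, Over.w r])
  have hcomm : k' ≫ o = r ≫ k := Over.OverMorphism.ext hk₀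
  exact ⟨O, o, k', inferInstanceAs (IsOpenImmersion U.ι),
    IsPullback.of_map (Over.forget S) hcomm sq⟩

/-- étale charts of a closed subspace `Y` of an algebraic space `Y'` lift, locally, to étale charts
of `Y'`. -/
theorem exists_etale_chart_lift {Y Y' : AlgSp.Sp S} (hY' : AlgSp.IsAlgSpace Y') (i : Y ⟶ Y')
    (hi : AlgSp.RepWith @IsClosedImmersion i)
    {E : Over S} (ε : (AlgSp.yon S).obj E ⟶ Y) (hε : AlgSp.RepWith @Etale ε) (x : E.left) :
    ∃ (B B₀ : Over S) (c : (AlgSp.yon S).obj B ⟶ Y') (k : B₀ ⟶ B) (r : B₀ ⟶ E),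
      AlgSp.RepWith @Etale c ∧ Etale r.left ∧
      IsPullback ((AlgSp.yon S).map r ≫ ε) ((AlgSp.yon S).map k) i c ∧ x ∈ Set.range r.left := by
  obtain ⟨A', p, hpe, hps⟩ := hY'.atlas
  obtain ⟨A, sA, aA, sqA⟩ := hi.1 p
  haveI : IsClosedImmersion sA.left := hi.2 p aA sA sqA
  have haAe : AlgSp.RepWith @Etale aA :=
    MorphismProperty.of_isPullback (P := AlgSp.RepWith @Etale) sqA.flip hpe
  have haAs : AlgSp.RepWith @Surjective aA :=
    MorphismProperty.of_isPullback (P := AlgSp.RepWith @Surjective) sqA.flip hps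
  obtain ⟨P₀, q₀, t', sqP⟩ := hε.1 aA
  obtain ⟨t, rfl⟩ := (AlgSp.yon S).map_surjective t'
  haveI : Etale q₀.left := hε.2 aA _ q₀ sqP
  haveI : Etale t.left := haAe.2 ε _ t sqP.flip
  haveI : Surjective t.left := haAs.2 ε _ t sqP.flip
  obtain ⟨y, hy⟩ := t.left.surjective x
  obtain ⟨B, B₀, c₁, k, r₁, hB, hc₁, hr₁, sq, hyr⟩ :=
    exists_etale_lift_closed sA.left q₀.left y
  haveI := hc₁
  haveI := hr₁
  let BS : Over S := Over.mk (c₁ ≫ A'.hom)
  let B₀S : Over S := Over.mk (k ≫ c₁ ≫ A'.hom)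
  let c₁' : BS ⟶ A' := Over.homMk c₁ rfl
  let k' : B₀S ⟶ BS := Over.homMk k rfl
  let r₁' : B₀S ⟶ P₀ := Over.homMk r₁ (by
    show r₁ ≫ P₀.hom = k ≫ c₁ ≫ A'.hom
    rw [← Over.w q₀, ← Over.w sA, ← Category.assoc k, sq.w]
    simp only [Category.assoc])
  have hcomm : k' ≫ c₁' = (r₁' ≫ q₀) ≫ sA := Over.OverMorphism.ext sq.w
  have sqO : IsPullback k' (r₁' ≫ q₀) c₁' sA := IsPullback.of_map (Over.forget S) hcomm sq
  have sqY := (sqO.map (AlgSp.yon S)).flip.paste_horiz sqA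
  refine ⟨BS, B₀S, (AlgSp.yon S).map c₁' ≫ p, k', r₁' ≫ t, ?_, ?_, ?_, ?_⟩
  · exact (AlgSp.repWith_isMultiplicative (S := S) @Etale).comp_mem _ _
      ((AlgSp.repWith_yon_map_iff _ _).2 hc₁) hpe
  · rw [Over.comp_left]
    exact (inferInstance : Etale (r₁ ≫ t.left))
  · have e1 : (AlgSp.yon S).map (r₁' ≫ t) ≫ ε = (AlgSp.yon S).map (r₁' ≫ q₀) ≫ aA := by
      rw [Functor.map_comp, Functor.map_comp, Category.assoc, Category.assoc, sqP.w]
    rw [e1]
    exact sqY
  · obtain ⟨b, hb⟩ := hyr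
    refine ⟨b, ?_⟩
    show (r₁ ≫ t.left) b = x
    rw [Scheme.Hom.comp_apply, hb, hy]

end Groth.Agent.Lib.Helper8EtLiftSp
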