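import Mathlib
import Groth.Prelude
import Groth.Agent.Lib.Helper8FOGlue

/-!
Arbitrary base change of first order thickenings of algebraic spaces.
-/

set_option autoImplicit false
universe u
open CategoryTheory CategoryTheory.Limits AlgebraicGeometry Opposite

namespace Groth.Agent.Lib.Helper8FOBaseChange

open Groth.Agent.Lib.Helper8FOGlue

/-- the stalk maps of a flat morphism are injective. -/
theorem stalkMap_injective_of_flat {E V : Scheme.{u}} (g : E ⟶ V) [Flat g] (x : E) :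
    Function.Injective (g.stalkMap x).hom := by
  have hflat : (g.stalkMap x).hom.Flat := Flat.stalkMap g x
  algebraize [(g.stalkMap x).hom]
  haveI : IsLocalHom (algebraMap (V.presheaf.stalk (g x)) (E.presheaf.stalk x)) :=
    inferInstanceAs (IsLocalHom (g.stalkMap x).hom)
  haveI := Module.FaithfullyFlat.of_flat_of_isLocalHom (A := V.presheaf.stalk (g x))
    (B := E.presheaf.stalk x)
  exact FaithfulSMul.algebraMap_injective _ _

/-- a global function vanishing on a jointly surjective flat family vanishes. -/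
theorem eq_zero_of_flat_cover {V : Scheme.{u}} (a : Γ(V, ⊤))
    (h : ∀ v : V, ∃ (E : Scheme.{u}) (g : E ⟶ V) (_ : Flat g) (x : E), g x = v ∧ g.appTop a = 0) :
    a = 0 := by
  refine TopCat.Presheaf.section_ext V.sheaf _ _ _ fun v hv => ?_
  change V.presheaf.germ ⊤ v hv a = V.presheaf.germ ⊤ v hv 0
  rw [map_zero]
  obtain ⟨E, g, hg, x, rfl, hga⟩ := h v
  apply stalkMap_injective_of_flat g x
  rw [map_zero, Scheme.Hom.germ_stalkMap_apply]
  have : g.app ⊤ a = 0 := hga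
  rw [this, map_zero]

/-- square zero kernel ideal sheaf gives square zero kernel on global sections. -/
theorem ker_appTop_mul_self {Z X : Scheme.{u}} [IsAffine X] (i : Z ⟶ X) [QuasiCompact i]
    (hi : i.ker * i.ker = ⊥) : RingHom.ker i.appTop.hom * RingHom.ker i.appTop.hom = ⊥ := by
  have h0 : (i.ker * i.ker).ideal ⟨⊤, isAffineOpen_top X⟩ =
      (⊥ : X.IdealSheafData).ideal ⟨⊤, isAffineOpen_top X⟩ := by rw [hi]
  rw [Scheme.IdealSheafData.ideal_mul, Scheme.IdealSheafData.ideal_bot, Pi.mul_apply,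
    Pi.bot_apply, Scheme.Hom.ker_apply] at h0
  exact h0

/-- converse on an affine scheme. -/
theorem sqZero_of_ker_appTop {Z X : Scheme.{u}} [IsAffine X] (i : Z ⟶ X) [QuasiCompact i]
    (h : RingHom.ker i.appTop.hom * RingHom.ker i.appTop.hom = ⊥) : i.ker * i.ker = ⊥ := by
  apply Scheme.IdealSheafData.ext_of_isAffine
  rw [Scheme.IdealSheafData.ideal_mul, Scheme.IdealSheafData.ideal_bot, Pi.mul_apply,
    Pi.bot_apply, Scheme.Hom.ker_apply]
  exact h

/-- base change of a square zero closed immersion between affine schemes. -/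
theorem sqZero_of_isPullback {Z Y Z' X : Scheme.{u}} [IsAffine X] [IsAffine Y] (i : Z ⟶ Y)
    [IsClosedImmersion i] (hi : i.ker * i.ker = ⊥) (f : X ⟶ Y) (g' : Z' ⟶ Z) (i' : Z' ⟶ X)
    (sq : IsPullback g' i' i f) : i'.ker * i'.ker = ⊥ := by
  haveI : IsClosedImmersion i' := MorphismProperty.of_isPullback sq inferInstance
  have hI := ker_appTop_mul_self i hi
  set I : Ideal Γ(Y, ⊤) := RingHom.ker i.appTop.hom with hIdef
  let φ : Γ(Y, ⊤) →+* Γ(X, ⊤) := f.appTop.hom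
  let J : X.IdealSheafData := (Scheme.IdealSheafData.equivOfIsAffine (X := X)).symm (I.map φ)
  have hJtop : J.ideal ⟨⊤, isAffineOpen_top X⟩ = I.map φ :=
    (Scheme.IdealSheafData.equivOfIsAffine (X := X)).apply_symm_apply (I.map φ)
  -- `i.ker ≤ (J.subschemeι ≫ f).ker`
  have H : i.ker ≤ (J.subschemeι ≫ f).ker := by
    apply Scheme.IdealSheafData.le_of_isAffine
    rw [Scheme.Hom.ker_apply, Scheme.Hom.ker_apply]
    intro a ha
    rw [RingHom.mem_ker] at ha ⊢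
    have h1 : φ a ∈ J.ideal ⟨⊤, isAffineOpen_top X⟩ := by
      rw [hJtop]
      exact Ideal.mem_map_of_mem φ (RingHom.mem_ker.mpr ha)
    rw [← J.ker_subschemeι, Scheme.Hom.ker_apply, RingHom.mem_ker] at h1
    rw [Scheme.Hom.comp_app]
    exact h1
  let g₀ := IsClosedImmersion.lift i (J.subschemeι ≫ f) H
  have hg₀ : g₀ ≫ i = J.subschemeι ≫ f := IsClosedImmersion.lift_fac _ _ _
  have hle : i'.ker ≤ J := by
    have h2 := Scheme.Hom.le_ker_comp (sq.lift g₀ J.subschemeι hg₀) i'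
    rwa [sq.lift_snd, J.ker_subschemeι] at h2
  apply sqZero_of_ker_appTop
  rw [eq_bot_iff]
  have h3 : RingHom.ker i'.appTop.hom ≤ I.map φ := by
    have := hle ⟨⊤, isAffineOpen_top X⟩
    rwa [Scheme.Hom.ker_apply, hJtop] at this
  calc RingHom.ker i'.appTop.hom * RingHom.ker i'.appTop.hom ≤ I.map φ * I.map φ :=
        Ideal.mul_mono h3 h3
    _ = (I * I).map φ := (Ideal.map_mul φ I I).symm
    _ = ⊥ := by rw [hI, Ideal.map_bot]

variable {S : Scheme.{u}}

/-- restriction of a morphism over `S` to opens. -/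
lemma exists_restrict {E W : Over S} (ε : E ⟶ W) (E₁ : E.left.Opens) (W₁ : W.left.Opens)
    (h : E₁ ≤ ε.left ⁻¹ᵁ W₁) :
    ∃ ε₁ : opOb E E₁ ⟶ opOb W W₁, ε₁ ≫ opι W W₁ = opι E E₁ ≫ ε := by
  have hr : Set.range (E₁.ι ≫ ε.left) ⊆ Set.range W₁.ι := by
    rw [Scheme.Opens.range_ι]
    rintro _ ⟨z, rfl⟩
    exact h z.2
  refine ⟨Over.homMk (IsOpenImmersion.lift W₁.ι (E₁.ι ≫ ε.left) hr) ?_, ?_⟩
  · show IsOpenImmersion.lift W₁.ι (E₁.ι ≫ ε.left) hr ≫ W₁.ι ≫ W.hom = E₁.ι ≫ E.hom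
    rw [IsOpenImmersion.lift_fac_assoc, Category.assoc, Over.w ε]
  · apply Over.OverMorphism.ext
    exact IsOpenImmersion.lift_fac _ _ _

/-- the pullback of a first order thickening of algebraic spaces along an arbitrary map from an
affine scheme has square zero kernel. -/
theorem sqZero_of_isPullback_foThick {T T' : AlgSp.Sp S} (j : T ⟶ T') (hT' : AlgSp.IsAlgSpace T')
    (hj : AlgSp.IsFOThickMor j) {V V₀ : Over S} (hV : IsAffine V.left)
    (c : (AlgSp.yon S).obj V ⟶ T') (fst : (AlgSp.yon S).obj V₀ ⟶ T) (snd : V₀ ⟶ V)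
    (sq : IsPullback fst ((AlgSp.yon S).map snd) j c) : AlgSp.sqZero snd.left := by
  haveI := hV
  haveI : IsClosedImmersion snd.left := (hj.1.2 c fst snd sq).1
  show snd.left.ker * snd.left.ker = ⊥
  apply sqZero_of_ker_appTop
  rw [eq_bot_iff, Ideal.mul_le]
  intro a ha b hb
  rw [Ideal.mem_bot]
  rw [RingHom.mem_ker] at ha hb
  apply eq_zero_of_flat_cover
  intro v
  obtain ⟨W, p, hpe, hps⟩ := hT'.atlas
  obtain ⟨E, e, e', sqE⟩ := hpe.1 c
  haveI : Etale e.left := hpe.2 c e' e sqE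
  haveI : Surjective e.left := hps.2 c e' e sqE
  obtain ⟨ε, rfl⟩ := (AlgSp.yon S).map_surjective e'
  obtain ⟨x₀, rfl⟩ := e.left.surjective v
  obtain ⟨W₁, hW₁aff, hxW₁, -⟩ :=
    exists_isAffineOpen_mem_and_subset (X := W.left) (x := ε.left x₀) (U := ⊤) trivial
  obtain ⟨E₁, hE₁aff, hxE₁, hE₁le⟩ :=
    exists_isAffineOpen_mem_and_subset (X := E.left) (x := x₀) (U := ε.left ⁻¹ᵁ W₁) hxW₁
  obtain ⟨ε₁, hε₁⟩ := exists_restrict ε E₁ W₁ hE₁le
  -- the chart `W₁`
  have hc₁ := etale_opι_comp W W₁ p hpe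
  obtain ⟨W₁₀, s₁, f₁, sq₁⟩ := hj.1.1 ((AlgSp.yon S).map (opι W W₁) ≫ p)
  have hs₁thick := hj.1.2 _ f₁ s₁ sq₁
  have hs₁sq : AlgSp.sqZero s₁.left := hj.2 _ f₁ s₁ hW₁aff hc₁ sq₁
  haveI : IsClosedImmersion s₁.left := hs₁thick.1
  -- the chart `E₁`
  obtain ⟨E₁₀, t, g, sqP⟩ :=
    hj.1.1 ((AlgSp.yon S).map ε₁ ≫ (AlgSp.yon S).map (opι W W₁) ≫ p)
  -- the square over `W₁`
  have hw₁ : g ≫ j = ((AlgSp.yon S).map t ≫ (AlgSp.yon S).map ε₁) ≫
      (AlgSp.yon S).map (opι W W₁) ≫ p := by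
    rw [sqP.w, Category.assoc]
  have hlift₁ := sq₁.lift_fst g ((AlgSp.yon S).map t ≫ (AlgSp.yon S).map ε₁) hw₁
  have hlift₂ := sq₁.lift_snd g ((AlgSp.yon S).map t ≫ (AlgSp.yon S).map ε₁) hw₁
  obtain ⟨m, hm⟩ := (AlgSp.yon S).map_surjective
    (sq₁.lift g ((AlgSp.yon S).map t ≫ (AlgSp.yon S).map ε₁) hw₁)
  rw [← hm] at hlift₁ hlift₂
  have sqL : IsPullback ((AlgSp.yon S).map m) ((AlgSp.yon S).map t) ((AlgSp.yon S).map s₁)
      ((AlgSp.yon S).map ε₁) := by
    refine IsPullback.of_right ?_ hlift₂ sq₁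
    rw [hlift₁]
    exact sqP
  have hcomm : m ≫ s₁ = t ≫ ε₁ := (AlgSp.yon S).map_injective (by
    rw [Functor.map_comp, Functor.map_comp]
    exact hlift₂)
  have sqL' : IsPullback m t s₁ ε₁ := IsPullback.of_map (AlgSp.yon S) hcomm sqL
  have sqL'' : IsPullback m.left t.left s₁.left ε₁.left := sqL'.map (Over.forget S)
  haveI : IsAffine (opOb E E₁).left := hE₁aff
  haveI : IsAffine (opOb W W₁).left := hW₁aff
  have htsq : t.left.ker * t.left.ker = ⊥ :=
    sqZero_of_isPullback s₁.left hs₁sq ε₁.left m.left t.left sqL''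
  haveI : IsClosedImmersion t.left := MorphismProperty.of_isPullback sqL'' inferInstance
  have htK := ker_appTop_mul_self t.left htsq
  -- the square over `V`
  have hw₂ : g ≫ j = ((AlgSp.yon S).map t ≫ (AlgSp.yon S).map (opι E E₁ ≫ e)) ≫ c := by
    have h5 : (AlgSp.yon S).map ε₁ ≫ (AlgSp.yon S).map (opι W W₁) ≫ p =
        (AlgSp.yon S).map (opι E E₁ ≫ e) ≫ c := by
      calc (AlgSp.yon S).map ε₁ ≫ (AlgSp.yon S).map (opι W W₁) ≫ p
          = (AlgSp.yon S).map (ε₁ ≫ opι W W₁) ≫ p := ((AlgSp.yon S).map_comp_assoc _ _ _).symm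
        _ = (AlgSp.yon S).map (opι E E₁ ≫ ε) ≫ p := by rw [hε₁]
        _ = (AlgSp.yon S).map (opι E E₁) ≫ (AlgSp.yon S).map ε ≫ p :=
            (AlgSp.yon S).map_comp_assoc _ _ _
        _ = (AlgSp.yon S).map (opι E E₁) ≫ (AlgSp.yon S).map e ≫ c := by rw [sqE.w]
        _ = (AlgSp.yon S).map (opι E E₁ ≫ e) ≫ c := ((AlgSp.yon S).map_comp_assoc _ _ _).symm
    rw [sqP.w, h5, Category.assoc]
  obtain ⟨m', hm'⟩ := (AlgSp.yon S).map_surjective
    (sq.lift g ((AlgSp.yon S).map t ≫ (AlgSp.yon S).map (opι E E₁ ≫ e)) hw₂)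
  have hcomm' : m' ≫ snd = t ≫ opι E E₁ ≫ e := (AlgSp.yon S).map_injective (by
    rw [Functor.map_comp, hm', sq.lift_snd, ← Functor.map_comp])
  have hcommL : m'.left ≫ snd.left = t.left ≫ E₁.ι ≫ e.left :=
    congrArg (fun q => q.left) hcomm'
  -- conclusion
  refine ⟨(opOb E E₁).left, E₁.ι ≫ e.left, inferInstance, ⟨x₀, hxE₁⟩, rfl, ?_⟩
  have hka : ∀ a' : Γ(V.left, ⊤), snd.left.appTop.hom a' = 0 →
      (E₁.ι ≫ e.left).appTop.hom a' ∈ RingHom.ker t.left.appTop.hom := by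
    intro a' ha'
    rw [RingHom.mem_ker]
    have h6 : (t.left ≫ E₁.ι ≫ e.left).appTop.hom a' = 0 := by
      rw [← hcommL, Scheme.Hom.comp_appTop, CommRingCat.hom_comp, RingHom.comp_apply, ha',
        map_zero]
    rwa [Scheme.Hom.comp_appTop, CommRingCat.hom_comp, RingHom.comp_apply] at h6
  have h7 := Ideal.mul_mem_mul (hka a ha) (hka b hb)
  rw [htK, Ideal.mem_bot] at h7
  rw [map_mul]
  exact h7

/-- first order thickenings of algebraic spaces are stable under arbitrary base change. -/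
theorem isFOThickMor_of_isPullback {T T' Q Q' : AlgSp.Sp S} (j : T ⟶ T')
    (hT' : AlgSp.IsAlgSpace T') (hj : AlgSp.IsFOThickMor j) (q : Q' ⟶ T') (jQ : Q ⟶ Q')
    (r : Q ⟶ T) (sq : IsPullback r jQ j q) : AlgSp.IsFOThickMor jQ := by
  refine ⟨(AlgSp.repWith_isStableUnderBaseChange (S := S) AlgSp.thick).of_isPullback sq hj.1, ?_⟩
  intro V V₀ b fst snd hV hb sqb
  exact sqZero_of_isPullback_foThick j hT' hj hV (b ≫ q) (fst ≫ r) snd (sqb.paste_horiz sq)

end Groth.Agent.Lib.Helper8FOBaseChange
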