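import Mathlib
import Groth.Prelude
import Groth.Agent.Lib.Helper8FOBaseChange
import Groth.Agent.Lib.Helper12LargestOpen
import Groth.Agent.S9928

/-!
First order infinitesimal neighbourhoods of closed subspaces of algebraic spaces are universal
first order thickenings; representable open immersions are formally etale.
-/

set_option autoImplicit false
universe u
open CategoryTheory CategoryTheory.Limits AlgebraicGeometry Opposite

namespace Groth.Agent.Lib.Helper8InfNbhd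

open Groth.Agent.Lib.Helper8FOGlue Groth.Agent.Lib.Helper8FOBaseChange

/-! ### general lemmas -/

lemma isPullback_comp_mono_iff {C : Type*} [Category C] {P X Y Z W : C} (fst : P ⟶ X)
    (snd : P ⟶ Y) (f : X ⟶ Z) (g : Y ⟶ Z) (k : Z ⟶ W) [Mono k] :
    IsPullback fst snd (f ≫ k) (g ≫ k) ↔ IsPullback fst snd f g := by
  constructor
  · intro h
    have w : fst ≫ f = snd ≫ g := by
      rw [← cancel_mono k, Category.assoc, Category.assoc]
      exact h.w
    exact IsPullback.of_isLimit' ⟨w⟩ (PullbackCone.IsLimit.mk _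
      (fun s => h.lift s.fst s.snd (by rw [← Category.assoc, s.condition, Category.assoc]))
      (fun s => h.lift_fst _ _ _) (fun s => h.lift_snd _ _ _)
      (fun s m h1 h2 => h.hom_ext (by rw [h1, h.lift_fst]) (by rw [h2, h.lift_snd])))
  · intro h
    have w : fst ≫ f ≫ k = snd ≫ g ≫ k := by rw [← Category.assoc, h.w, Category.assoc]
    exact IsPullback.of_isLimit' ⟨w⟩ (PullbackCone.IsLimit.mk _
      (fun s => h.lift s.fst s.snd (by
        rw [← cancel_mono k, Category.assoc, Category.assoc]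
        exact s.condition))
      (fun s => h.lift_fst _ _ _) (fun s => h.lift_snd _ _ _)
      (fun s m h1 h2 => h.hom_ext (by rw [h1, h.lift_fst]) (by rw [h2, h.lift_snd])))

/-- a closed immersion with square zero kernel is surjective. -/
theorem surjective_of_sqZero {X Y : Scheme.{u}} (i : X ⟶ Y) [IsClosedImmersion i]
    (h : i.ker * i.ker = ⊥) : Surjective i := by
  refine ⟨fun y => ?_⟩
  have hy : y ∈ (i.ker.support : Set Y) := by
    show y ∈ i.ker.support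
    rw [Scheme.IdealSheafData.mem_support_iff]
    intro U
    rw [Scheme.mem_zeroLocus_iff]
    intro f hf hyf
    have hff : f * f = 0 := by
      have h1 : f * f ∈ (i.ker * i.ker).ideal U := by
        rw [Scheme.IdealSheafData.ideal_mul, Pi.mul_apply]
        exact Ideal.mul_mem_mul hf hf
      rw [h, Scheme.IdealSheafData.ideal_bot, Pi.bot_apply, Ideal.mem_bot] at h1
      exact h1
    have h2 : y ∈ Y.basicOpen (f * f) := by
      rw [Scheme.basicOpen_mul]
      exact ⟨hyf, hyf⟩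
    rw [hff, Scheme.basicOpen_zero] at h2
    exact h2
  rw [Scheme.Hom.support_ker, i.isClosedEmbedding.isClosed_range.closure_eq] at hy
  exact hy

/-- base change of kernels of closed immersions between affine schemes: the nontrivial
inclusion. -/
theorem ker_appTop_le_map {Z Y Z' X : Scheme.{u}} [IsAffine X] [IsAffine Y] (i : Z ⟶ Y)
    [IsClosedImmersion i] (f : X ⟶ Y) (g' : Z' ⟶ Z) (i' : Z' ⟶ X)
    (sq : IsPullback g' i' i f) :
    RingHom.ker i'.appTop.hom ≤ (RingHom.ker i.appTop.hom).map f.appTop.hom := by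
  haveI : IsClosedImmersion i' := MorphismProperty.of_isPullback sq inferInstance
  set I : Ideal Γ(Y, ⊤) := RingHom.ker i.appTop.hom with hIdef
  let φ : Γ(Y, ⊤) →+* Γ(X, ⊤) := f.appTop.hom
  let J : X.IdealSheafData := (Scheme.IdealSheafData.equivOfIsAffine (X := X)).symm (I.map φ)
  have hJtop : J.ideal ⟨⊤, isAffineOpen_top X⟩ = I.map φ :=
    (Scheme.IdealSheafData.equivOfIsAffine (X := X)).apply_symm_apply (I.map φ)
  have H : i.ker ≤ (J.subschemeι ≫ f).ker := by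
    apply Scheme.IdealSheafData.le_of_isAffine
    rw [Scheme.Hom.ker_apply, Scheme.Hom.ker_apply]
    intro a ha
    rw [RingHom.mem_ker] at ha ⊢
    have h1 : φ a ∈ J.ideal ⟨⊤, isAffineOpen_top X⟩ := by
      rw [hJtop]
      exact Ideal.mem_map_of_mem φ (RingHom.mem_ker.mpr ha)
    rw [← J.ker_subschemeι, Scheme.Hom.ker_apply, RingHom.mem_ker] at h1
    rw [Scheme.Hom.comp_app]
    exact h1
  let g₀ := IsClosedImmersion.lift i (J.subschemeι ≫ f) H
  have hg₀ : g₀ ≫ i = J.subschemeι ≫ f := IsClosedImmersion.lift_fac _ _ _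
  have hle : i'.ker ≤ J := by
    have h2 := Scheme.Hom.le_ker_comp (sq.lift g₀ J.subschemeι hg₀) i'
    rwa [sq.lift_snd, J.ker_subschemeι] at h2
  have := hle ⟨⊤, isAffineOpen_top X⟩
  rwa [Scheme.Hom.ker_apply, hJtop] at this

/-- base change of kernels: the trivial inclusion. -/
theorem map_le_ker_appTop {Z Y Z' X : Scheme.{u}} (i : Z ⟶ Y) (f : X ⟶ Y) (g' : Z' ⟶ Z)
    (i' : Z' ⟶ X) (w : g' ≫ i = i' ≫ f) :
    (RingHom.ker i.appTop.hom).map f.appTop.hom ≤ RingHom.ker i'.appTop.hom := by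
  rw [Ideal.map_le_iff_le_comap]
  intro a ha
  rw [Ideal.mem_comap, RingHom.mem_ker]
  rw [RingHom.mem_ker] at ha
  have h1 : (i' ≫ f).appTop.hom a = (g' ≫ i).appTop.hom a := by rw [w]
  rw [Scheme.Hom.comp_appTop, Scheme.Hom.comp_appTop, CommRingCat.hom_comp, CommRingCat.hom_comp,
    RingHom.comp_apply, RingHom.comp_apply, ha, map_zero] at h1
  exact h1

/-- the spectrum of a quotient by a square zero ideal is everything. -/
lemma surjective_specMap_quotient {A : Type u} [CommRing A] (I : Ideal A) (hI : I ^ 2 = ⊥) :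
    Function.Surjective (Spec.map (CommRingCat.ofHom (Ideal.Quotient.mk I))) := by
  intro y
  let y' : PrimeSpectrum A := y
  have hy : y' ∈ Set.range (PrimeSpectrum.comap (Ideal.Quotient.mk I)) := by
    rw [range_comap_of_surjective _ _ Ideal.Quotient.mk_surjective, Ideal.mk_ker,
      PrimeSpectrum.mem_zeroLocus]
    intro x hx
    have h1 : x ^ 2 ∈ I ^ 2 := Ideal.pow_mem_pow hx 2
    rw [hI, Ideal.mem_bot] at h1
    have h2 : x ^ 2 ∈ y'.asIdeal := by
      rw [h1]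
      exact zero_mem _
    exact y'.isPrime.mem_of_pow_mem 2 h2
  obtain ⟨x, hx⟩ := hy
  exact ⟨x, hx⟩

variable {S : Scheme.{u}}

/-! ### representable open immersions are formally etale -/

theorem isFormallyEtaleMor_of_open {F G : AlgSp.Sp S} (u : F ⟶ G)
    (hu : AlgSp.RepWith @IsOpenImmersion u) : AlgSp.IsFormallyEtaleMor u := by
  intro sq
  obtain ⟨W, snd, fst, pb⟩ := hu.1 sq.bot
  haveI : IsOpenImmersion snd.left := hu.2 _ fst snd pb
  obtain ⟨m, hm⟩ := (AlgSp.yon S).map_surjective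
    (pb.lift sq.top ((AlgSp.yon S).map sq.j) sq.comm)
  have hm1 : (AlgSp.yon S).map m ≫ fst = sq.top := by rw [hm, pb.lift_fst]
  have hm2 : m ≫ snd = sq.j := (AlgSp.yon S).map_injective (by
    rw [Functor.map_comp, hm, pb.lift_snd])
  have hm2L : m.left ≫ snd.left = sq.j.left := congrArg (fun q => q.left) hm2
  have hjs : Function.Surjective sq.j.left := surjective_specMap_quotient sq.I sq.sq_zero
  have hss : Function.Surjective snd.left := by
    intro y
    obtain ⟨x, hx⟩ := hjs y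
    refine ⟨m.left x, ?_⟩
    rw [← hx, ← hm2L]
    rfl
  haveI : Epi snd.left.base := (TopCat.epi_iff_surjective _).2 hss
  haveI : IsIso snd.left := IsOpenImmersion.isIso snd.left
  haveI : IsIso ((Over.forget S).map snd) := ‹IsIso snd.left›
  haveI : IsIso snd := isIso_of_reflects_iso snd (Over.forget S)
  refine ⟨(AlgSp.yon S).map (inv snd) ≫ fst, ⟨?_, ?_⟩, ?_⟩
  · calc (AlgSp.yon S).map sq.j ≫ (AlgSp.yon S).map (inv snd) ≫ fst
        = (AlgSp.yon S).map (sq.j ≫ inv snd) ≫ fst := ((AlgSp.yon S).map_comp_assoc _ _ _).symm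
      _ = (AlgSp.yon S).map m ≫ fst := by
          rw [← hm2, Category.assoc, IsIso.hom_inv_id, Category.comp_id]
      _ = sq.top := hm1
  · calc ((AlgSp.yon S).map (inv snd) ≫ fst) ≫ u
        = (AlgSp.yon S).map (inv snd) ≫ (AlgSp.yon S).map snd ≫ sq.bot := by
          rw [Category.assoc, pb.w]
      _ = (AlgSp.yon S).map (inv snd ≫ snd) ≫ sq.bot :=
          ((AlgSp.yon S).map_comp_assoc _ _ _).symm
      _ = sq.bot := by
          rw [IsIso.inv_hom_id, CategoryTheory.Functor.map_id, Category.id_comp]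
  · rintro l' ⟨-, h2⟩
    have hw : l' ≫ u = (AlgSp.yon S).map (𝟙 _) ≫ sq.bot := by
      rw [CategoryTheory.Functor.map_id, Category.id_comp, h2]
    obtain ⟨n, hn⟩ := (AlgSp.yon S).map_surjective (pb.lift l' ((AlgSp.yon S).map (𝟙 _)) hw)
    have hn1 : (AlgSp.yon S).map n ≫ fst = l' := by rw [hn, pb.lift_fst]
    have hn2 : n ≫ snd = 𝟙 _ := (AlgSp.yon S).map_injective (by
      rw [Functor.map_comp, hn, pb.lift_snd])
    have hn3 : n = inv snd := by
      rw [← cancel_mono snd, hn2, IsIso.inv_hom_id]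
    rw [← hn1, hn3]

/-! ### charts -/

/-- the kernel condition of `AlgSp.IsInfNbhd 1`. -/
def KerCond {Z Z₁ U : AlgSp.Sp S} (c : Z ⟶ U) (k : Z₁ ⟶ U) : Prop :=
  ∀ ⦃V W Wn : Over S⦄ (b : (AlgSp.yon S).obj V ⟶ U) (fst : (AlgSp.yon S).obj W ⟶ Z)
    (snd : W ⟶ V) (fstn : (AlgSp.yon S).obj Wn ⟶ Z₁) (sndn : Wn ⟶ V),
    IsAffine V.left → AlgSp.RepWith @Etale b → IsPullback fst ((AlgSp.yon S).map snd) c b →
      IsPullback fstn ((AlgSp.yon S).map sndn) k b → sndn.left.ker = snd.left.ker ^ (1 + 1)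

/-- a represented pullback over `E₁ ⟶ P₁ ⟶ U` is a pullback of schemes of the represented
pullback over `P₁ ⟶ U`. -/
lemma exists_isPullback_left {Z U : AlgSp.Sp S} (c : Z ⟶ U) {P₁ E₁ W Y' : Over S}
    (b₁ : (AlgSp.yon S).obj P₁ ⟶ U) (ε₁ : E₁ ⟶ P₁)
    (fW : (AlgSp.yon S).obj W ⟶ Z) (sW : W ⟶ P₁)
    (sqW : IsPullback fW ((AlgSp.yon S).map sW) c b₁)
    (fY : (AlgSp.yon S).obj Y' ⟶ Z) (sY : Y' ⟶ E₁)
    (sqY : IsPullback fY ((AlgSp.yon S).map sY) c ((AlgSp.yon S).map ε₁ ≫ b₁)) :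
    ∃ m : Y' ⟶ W, IsPullback m.left sY.left sW.left ε₁.left := by
  have hw : fY ≫ c = ((AlgSp.yon S).map sY ≫ (AlgSp.yon S).map ε₁) ≫ b₁ := by
    rw [sqY.w, Category.assoc]
  obtain ⟨m, hm⟩ := (AlgSp.yon S).map_surjective
    (sqW.lift fY ((AlgSp.yon S).map sY ≫ (AlgSp.yon S).map ε₁) hw)
  have h1 : (AlgSp.yon S).map m ≫ fW = fY := by rw [hm, sqW.lift_fst]
  have h2 : (AlgSp.yon S).map m ≫ (AlgSp.yon S).map sW =
      (AlgSp.yon S).map sY ≫ (AlgSp.yon S).map ε₁ := by rw [hm, sqW.lift_snd]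
  have sqL : IsPullback ((AlgSp.yon S).map m) ((AlgSp.yon S).map sY) ((AlgSp.yon S).map sW)
      ((AlgSp.yon S).map ε₁) := by
    refine IsPullback.of_right ?_ h2 sqW
    rw [h1]
    exact sqY
  have hcomm : m ≫ sW = sY ≫ ε₁ := (AlgSp.yon S).map_injective (by
    rw [Functor.map_comp, Functor.map_comp]
    exact h2)
  exact ⟨m, (IsPullback.of_map (AlgSp.yon S) hcomm sqL).map (Over.forget S)⟩

/-- etale locally on an arbitrary affine scheme `V` over `U`, the kernel condition of the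
first order infinitesimal neighbourhood holds. -/
theorem exists_chart_ker_eq {Z Z₁ U : AlgSp.Sp S} (hU : AlgSp.IsAlgSpace U) (c : Z ⟶ U)
    (k : Z₁ ⟶ U) (hc : AlgSp.RepWith @IsClosedImmersion c)
    (hk : AlgSp.RepWith @IsClosedImmersion k) (hK : KerCond c k) {V : Over S}
    (g : (AlgSp.yon S).obj V ⟶ U) (v : V.left) :
    ∃ (E₁ : Over S) (ε : E₁ ⟶ V), IsAffine E₁.left ∧ Etale ε.left ∧ v ∈ Set.range ε.left ∧
      ∀ (Y Y₁ : Over S) (fY : (AlgSp.yon S).obj Y ⟶ Z) (sY : Y ⟶ E₁)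
        (fY₁ : (AlgSp.yon S).obj Y₁ ⟶ Z₁) (sY₁ : Y₁ ⟶ E₁),
        IsPullback fY ((AlgSp.yon S).map sY) c ((AlgSp.yon S).map ε ≫ g) →
        IsPullback fY₁ ((AlgSp.yon S).map sY₁) k ((AlgSp.yon S).map ε ≫ g) →
        RingHom.ker sY₁.left.appTop.hom = RingHom.ker sY.left.appTop.hom ^ 2 := by
  obtain ⟨P, p, hpe, hps⟩ := hU.atlas
  obtain ⟨E, e, e', sqE⟩ := hpe.1 g
  haveI : Etale e.left := hpe.2 g e' e sqE
  haveI : Surjective e.left := hps.2 g e' e sqE
  obtain ⟨ε₀, rfl⟩ := (AlgSp.yon S).map_surjective e'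
  obtain ⟨x₀, rfl⟩ := e.left.surjective v
  obtain ⟨P₁, hP₁aff, hxP₁, -⟩ :=
    exists_isAffineOpen_mem_and_subset (X := P.left) (x := ε₀.left x₀) (U := ⊤) trivial
  obtain ⟨E₁, hE₁aff, hxE₁, hE₁le⟩ :=
    exists_isAffineOpen_mem_and_subset (X := E.left) (x := x₀) (U := ε₀.left ⁻¹ᵁ P₁) hxP₁
  obtain ⟨ε₁, hε₁⟩ := exists_restrict ε₀ E₁ P₁ hE₁le
  have hb₁ := etale_opι_comp P P₁ p hpe
  have h5 : (AlgSp.yon S).map (opι E E₁ ≫ e) ≫ g =
      (AlgSp.yon S).map ε₁ ≫ (AlgSp.yon S).map (opι P P₁) ≫ p := by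
    calc (AlgSp.yon S).map (opι E E₁ ≫ e) ≫ g
        = (AlgSp.yon S).map (opι E E₁) ≫ (AlgSp.yon S).map e ≫ g :=
          (AlgSp.yon S).map_comp_assoc _ _ _
      _ = (AlgSp.yon S).map (opι E E₁) ≫ (AlgSp.yon S).map ε₀ ≫ p := by rw [sqE.w]
      _ = (AlgSp.yon S).map (opι E E₁ ≫ ε₀) ≫ p := ((AlgSp.yon S).map_comp_assoc _ _ _).symm
      _ = (AlgSp.yon S).map (ε₁ ≫ opι P P₁) ≫ p := by rw [hε₁]
      _ = (AlgSp.yon S).map ε₁ ≫ (AlgSp.yon S).map (opι P P₁) ≫ p :=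
          (AlgSp.yon S).map_comp_assoc _ _ _
  refine ⟨opOb E E₁, opι E E₁ ≫ e, hE₁aff, ?_, ⟨⟨x₀, hxE₁⟩, rfl⟩, ?_⟩
  · show Etale (E₁.ι ≫ e.left)
    infer_instance
  intro Y Y₁ fY sY fY₁ sY₁ sqY sqY₁
  rw [h5] at sqY sqY₁
  obtain ⟨W, sW, fW, sqW⟩ := hc.1 ((AlgSp.yon S).map (opι P P₁) ≫ p)
  obtain ⟨W₁, sW₁, fW₁, sqW₁⟩ := hk.1 ((AlgSp.yon S).map (opι P P₁) ≫ p)
  haveI : IsClosedImmersion sW.left := hc.2 _ fW sW sqW
  haveI : IsClosedImmersion sW₁.left := hk.2 _ fW₁ sW₁ sqW₁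
  have hker : sW₁.left.ker = sW.left.ker ^ (1 + 1) :=
    hK _ fW sW fW₁ sW₁ hP₁aff hb₁ sqW sqW₁
  obtain ⟨m, pbm⟩ := exists_isPullback_left c _ ε₁ fW sW sqW fY sY sqY
  obtain ⟨m₁, pbm₁⟩ := exists_isPullback_left k _ ε₁ fW₁ sW₁ sqW₁ fY₁ sY₁ sqY₁
  haveI : IsAffine (opOb E E₁).left := hE₁aff
  haveI : IsAffine (opOb P P₁).left := hP₁aff
  have e1 : RingHom.ker sY.left.appTop.hom =
      (RingHom.ker sW.left.appTop.hom).map ε₁.left.appTop.hom :=
    le_antisymm (ker_appTop_le_map sW.left ε₁.left m.left sY.left pbm)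
      (map_le_ker_appTop sW.left ε₁.left m.left sY.left pbm.w)
  have e2 : RingHom.ker sY₁.left.appTop.hom =
      (RingHom.ker sW₁.left.appTop.hom).map ε₁.left.appTop.hom :=
    le_antisymm (ker_appTop_le_map sW₁.left ε₁.left m₁.left sY₁.left pbm₁)
      (map_le_ker_appTop sW₁.left ε₁.left m₁.left sY₁.left pbm₁.w)
  have e3 : RingHom.ker sW₁.left.appTop.hom = RingHom.ker sW.left.appTop.hom ^ 2 := by
    have h0 : sW₁.left.ker.ideal ⟨⊤, isAffineOpen_top _⟩ =
        (sW.left.ker ^ (1 + 1)).ideal ⟨⊤, isAffineOpen_top _⟩ := by rw [hker]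
    rw [Scheme.IdealSheafData.ideal_pow, Pi.pow_apply, Scheme.Hom.ker_apply,
      Scheme.Hom.ker_apply] at h0
    exact h0
  rw [e2, e3, e1, Ideal.map_pow]

lemma mono_of_closed {F G : AlgSp.Sp S} (k : F ⟶ G) (hk : AlgSp.RepWith @IsClosedImmersion k) :
    Mono k :=
  Groth.Agent.S9928.mono_of_repWith @IsClosedImmersion
    (fun X Y g hg => by haveI : IsClosedImmersion g := hg; infer_instance) k hk

section InfNbhd

variable {Z Z₁ U : AlgSp.Sp S} (hU : AlgSp.IsAlgSpace U) (c : Z ⟶ U) (j : Z ⟶ Z₁) (k : Z₁ ⟶ U)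
  (hjk : j ≫ k = c) (hc : AlgSp.RepWith @IsClosedImmersion c)
  (hk : AlgSp.RepWith @IsClosedImmersion k) (hK : KerCond c k)

include hU hjk hc hk hK

/-- the pullback of `Z ⟶ Z₁` to an affine scheme has square zero kernel. -/
theorem ker_sq_eq_bot_of_infNbhd {V Y : Over S} (hV : IsAffine V.left)
    (c' : (AlgSp.yon S).obj V ⟶ Z₁) (fY : (AlgSp.yon S).obj Y ⟶ Z) (sY : Y ⟶ V)
    (sq : IsPullback fY ((AlgSp.yon S).map sY) j c') :
    RingHom.ker sY.left.appTop.hom * RingHom.ker sY.left.appTop.hom = ⊥ := by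
  haveI := hV
  haveI : Mono k := mono_of_closed k hk
  rw [eq_bot_iff, Ideal.mul_le]
  intro a ha b hb
  rw [Ideal.mem_bot]
  rw [RingHom.mem_ker] at ha hb
  apply eq_zero_of_flat_cover
  intro v
  obtain ⟨E₁, ε, hE₁, hεet, hv, H⟩ := exists_chart_ker_eq hU c k hc hk hK (c' ≫ k) v
  haveI := hE₁
  haveI := hεet
  obtain ⟨Y', sY', fY', sqY'⟩ := hc.1 ((AlgSp.yon S).map ε ≫ c' ≫ k)
  have sqK : IsPullback ((AlgSp.yon S).map ε ≫ c') ((AlgSp.yon S).map (𝟙 E₁)) k
      ((AlgSp.yon S).map ε ≫ c' ≫ k) := by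
    rw [CategoryTheory.Functor.map_id, ← Category.assoc]
    exact (Groth.Agent.Lib.Helper12.LargestOpen.isPullback_id_of_mono
      ((AlgSp.yon S).map ε ≫ c') k).flip
  have hH := H Y' E₁ fY' sY' _ (𝟙 E₁) sqY' sqK
  have hbot : RingHom.ker (𝟙 E₁ : E₁ ⟶ E₁).left.appTop.hom = ⊥ := by
    rw [← RingHom.injective_iff_ker_eq_bot]
    have h0 : (𝟙 E₁ : E₁ ⟶ E₁).left = 𝟙 E₁.left := rfl
    rw [h0]
    intro x y hxy
    simpa using hxy
  have hw : fY' ≫ j = ((AlgSp.yon S).map sY' ≫ (AlgSp.yon S).map ε) ≫ c' := by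
    rw [← cancel_mono k]
    calc (fY' ≫ j) ≫ k = fY' ≫ c := by rw [Category.assoc, hjk]
      _ = (AlgSp.yon S).map sY' ≫ (AlgSp.yon S).map ε ≫ c' ≫ k := sqY'.w
      _ = (((AlgSp.yon S).map sY' ≫ (AlgSp.yon S).map ε) ≫ c') ≫ k := by
          simp only [Category.assoc]
  obtain ⟨n, hn⟩ := (AlgSp.yon S).map_surjective
    (sq.lift fY' ((AlgSp.yon S).map sY' ≫ (AlgSp.yon S).map ε) hw)
  have hcomm : n ≫ sY = sY' ≫ ε := (AlgSp.yon S).map_injective (by
    rw [Functor.map_comp, hn, sq.lift_snd, ← Functor.map_comp])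
  have hcommL : n.left ≫ sY.left = sY'.left ≫ ε.left := congrArg (fun q => q.left) hcomm
  have hka : ∀ a' : Γ(V.left, ⊤), sY.left.appTop.hom a' = 0 →
      ε.left.appTop.hom a' ∈ RingHom.ker sY'.left.appTop.hom := by
    intro a' ha'
    rw [RingHom.mem_ker]
    have h6 : (sY'.left ≫ ε.left).appTop.hom a' = 0 := by
      rw [← hcommL, Scheme.Hom.comp_appTop, CommRingCat.hom_comp, RingHom.comp_apply, ha',
        map_zero]
    rwa [Scheme.Hom.comp_appTop, CommRingCat.hom_comp, RingHom.comp_apply] at h6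
  obtain ⟨x, hx⟩ := hv
  refine ⟨E₁.left, ε.left, inferInstance, x, hx, ?_⟩
  have h7 := Ideal.mul_mem_mul (hka a ha) (hka b hb)
  rw [← pow_two, ← hH, hbot, Ideal.mem_bot] at h7
  rw [map_mul]
  exact h7

/-- `Z ⟶ Z₁` is a first order thickening. -/
theorem isFOThickMor_of_infNbhd : AlgSp.IsFOThickMor j := by
  haveI : Mono k := mono_of_closed k hk
  have hrep : ∀ {V : Over S} (a : (AlgSp.yon S).obj V ⟶ Z₁) {W : Over S}
      (fst : (AlgSp.yon S).obj W ⟶ Z) (snd : W ⟶ V),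
      IsPullback fst ((AlgSp.yon S).map snd) j a ↔
        IsPullback fst ((AlgSp.yon S).map snd) c (a ≫ k) := by
    intro V a W fst snd
    rw [← hjk]
    exact (isPullback_comp_mono_iff fst _ j a k).symm
  have hsq : ∀ {V W : Over S} (a : (AlgSp.yon S).obj V ⟶ Z₁) (fst : (AlgSp.yon S).obj W ⟶ Z)
      (snd : W ⟶ V), IsAffine V.left → IsPullback fst ((AlgSp.yon S).map snd) j a →
      snd.left.ker * snd.left.ker = ⊥ := by
    intro V W a fst snd hV sq
    haveI := hV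
    haveI : IsClosedImmersion snd.left := hc.2 _ fst snd ((hrep a fst snd).1 sq)
    exact sqZero_of_ker_appTop snd.left
      (ker_sq_eq_bot_of_infNbhd hU c j k hjk hc hk hK hV a fst snd sq)
  refine ⟨⟨fun V a => ?_, fun V W a fst snd sq => ?_⟩,
    fun V W b fst snd hV hb sq => hsq b fst snd hV sq⟩
  · obtain ⟨W, snd, fst, sq⟩ := hc.1 (a ≫ k)
    exact ⟨W, snd, fst, (hrep a fst snd).2 sq⟩
  · have hcl : IsClosedImmersion snd.left := hc.2 _ fst snd ((hrep a fst snd).1 sq)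
    refine ⟨hcl, ⟨fun v => ?_⟩⟩
    obtain ⟨Va, hVa, hvVa, -⟩ :=
      exists_isAffineOpen_mem_and_subset (X := V.left) (x := v) (U := ⊤) trivial
    obtain ⟨Wa, snda, fsta, sqa⟩ := hc.1 (((AlgSp.yon S).map (opι V Va) ≫ a) ≫ k)
    have sqa' := (hrep _ fsta snda).2 sqa
    haveI : IsClosedImmersion snda.left := hc.2 _ fsta snda sqa
    haveI := surjective_of_sqZero snda.left (hsq _ fsta snda hVa sqa')
    obtain ⟨y, hy⟩ := snda.left.surjective ⟨v, hvVa⟩
    have hw : fsta ≫ j = ((AlgSp.yon S).map snda ≫ (AlgSp.yon S).map (opι V Va)) ≫ a := by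
      rw [sqa'.w, Category.assoc]
    obtain ⟨n, hn⟩ := (AlgSp.yon S).map_surjective
      (sq.lift fsta ((AlgSp.yon S).map snda ≫ (AlgSp.yon S).map (opι V Va)) hw)
    have hcomm : n ≫ snd = snda ≫ opι V Va := (AlgSp.yon S).map_injective (by
      rw [Functor.map_comp, hn, sq.lift_snd, ← Functor.map_comp])
    have hcommL : n.left ≫ snd.left = snda.left ≫ Va.ι := congrArg (fun q => q.left) hcomm
    refine ⟨n.left y, ?_⟩
    have h8 : (n.left ≫ snd.left) y = (snda.left ≫ Va.ι) y := by rw [hcommL]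
    have h9 : (snda.left ≫ Va.ι) y = Va.ι (snda.left y) := rfl
    have h10 : Va.ι (snda.left y) = v := by
      rw [hy]
      rfl
    exact h8.trans (h9.trans h10)

/-- the universal property of the first order infinitesimal neighbourhood. -/
theorem existsUnique_of_infNbhd {T T' : AlgSp.Sp S} (hT' : AlgSp.IsAlgSpace T') (j' : T ⟶ T')
    (a : T ⟶ Z) (b : T' ⟶ U) (hj' : AlgSp.IsFOThickMor j') (w : j' ≫ b = a ≫ c) :
    ∃! a' : T' ⟶ Z₁, j' ≫ a' = a ≫ j ∧ a' ≫ k = b := by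
  haveI : Mono k := mono_of_closed k hk
  apply existsUnique_lift (f := k) (j := j') (a := a ≫ j) (b := b) hT'
  · intro V ch hV hch l l' hl hl'
    rw [← cancel_mono k, hl.1, hl'.1]
  · intro V ch hV hch
    haveI := hV
    obtain ⟨Y₁, s₁, f₁, sq₁⟩ := hk.1 (ch ≫ b)
    haveI : IsClosedImmersion s₁.left := hk.2 _ f₁ s₁ sq₁
    have hiso : IsIso s₁.left := by
      rw [IsClosedImmersion.isIso_iff_ker_eq_bot]
      apply Scheme.IdealSheafData.ext_of_isAffine
      rw [Scheme.Hom.ker_apply, Scheme.IdealSheafData.ideal_bot, Pi.bot_apply, eq_bot_iff]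
      intro a' ha'
      rw [Ideal.mem_bot]
      rw [RingHom.mem_ker] at ha'
      replace ha' : s₁.left.appTop.hom a' = 0 := ha'
      apply eq_zero_of_flat_cover
      intro v
      obtain ⟨E₁, ε, hE₁, hεet, hv, H⟩ := exists_chart_ker_eq hU c k hc hk hK (ch ≫ b) v
      haveI := hE₁
      haveI := hεet
      obtain ⟨Y', sY', fY', sqY'⟩ := hc.1 ((AlgSp.yon S).map ε ≫ ch ≫ b)
      obtain ⟨Y₁', sY₁', fY₁', sqY₁'⟩ := hk.1 ((AlgSp.yon S).map ε ≫ ch ≫ b)
      have hH := H Y' Y₁' fY' sY' fY₁' sY₁' sqY' sqY₁'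
      obtain ⟨V₀', s₀', f₀', sq₀'⟩ := hj'.1.1 ((AlgSp.yon S).map ε ≫ ch)
      have hs₀' : s₀'.left.ker * s₀'.left.ker = ⊥ :=
        sqZero_of_isPullback_foThick j' hT' hj' hE₁ ((AlgSp.yon S).map ε ≫ ch) f₀' s₀' sq₀'
      haveI : IsClosedImmersion s₀'.left := (hj'.1.2 _ f₀' s₀' sq₀').1
      have hN := ker_appTop_mul_self s₀'.left hs₀'
      have hw0 : (f₀' ≫ a) ≫ c = (AlgSp.yon S).map s₀' ≫ (AlgSp.yon S).map ε ≫ ch ≫ b := by
        calc (f₀' ≫ a) ≫ c = f₀' ≫ j' ≫ b := by rw [Category.assoc, w]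
          _ = (f₀' ≫ j') ≫ b := (Category.assoc _ _ _).symm
          _ = ((AlgSp.yon S).map s₀' ≫ (AlgSp.yon S).map ε ≫ ch) ≫ b := by rw [sq₀'.w]
          _ = (AlgSp.yon S).map s₀' ≫ (AlgSp.yon S).map ε ≫ ch ≫ b := by
              simp only [Category.assoc]
      obtain ⟨n, hn⟩ := (AlgSp.yon S).map_surjective
        (sqY'.lift (f₀' ≫ a) ((AlgSp.yon S).map s₀') hw0)
      have hcomm : n ≫ sY' = s₀' := (AlgSp.yon S).map_injective (by
        rw [Functor.map_comp, hn, sqY'.lift_snd])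
      have hcommL : n.left ≫ sY'.left = s₀'.left := congrArg (fun q => q.left) hcomm
      have hle : RingHom.ker sY'.left.appTop.hom ≤ RingHom.ker s₀'.left.appTop.hom := by
        intro x hx
        rw [RingHom.mem_ker] at hx ⊢
        rw [← hcommL, Scheme.Hom.comp_appTop, CommRingCat.hom_comp, RingHom.comp_apply, hx,
          map_zero]
      have hw1 : fY₁' ≫ k = ((AlgSp.yon S).map sY₁' ≫ (AlgSp.yon S).map ε) ≫ ch ≫ b := by
        rw [sqY₁'.w, Category.assoc]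
      obtain ⟨n₁, hn₁⟩ := (AlgSp.yon S).map_surjective
        (sq₁.lift fY₁' ((AlgSp.yon S).map sY₁' ≫ (AlgSp.yon S).map ε) hw1)
      have hcomm1 : n₁ ≫ s₁ = sY₁' ≫ ε := (AlgSp.yon S).map_injective (by
        rw [Functor.map_comp, hn₁, sq₁.lift_snd, ← Functor.map_comp])
      have hcomm1L : n₁.left ≫ s₁.left = sY₁'.left ≫ ε.left :=
        congrArg (fun q => q.left) hcomm1
      have h1 : ε.left.appTop.hom a' ∈ RingHom.ker sY₁'.left.appTop.hom := by
        rw [RingHom.mem_ker]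
        have h6 : (sY₁'.left ≫ ε.left).appTop.hom a' = 0 := by
          rw [← hcomm1L, Scheme.Hom.comp_appTop, CommRingCat.hom_comp, RingHom.comp_apply, ha',
            map_zero]
        rwa [Scheme.Hom.comp_appTop, CommRingCat.hom_comp, RingHom.comp_apply] at h6
      rw [hH, pow_two] at h1
      have h2 := Ideal.mul_mono hle hle h1
      rw [hN, Ideal.mem_bot] at h2
      obtain ⟨x, hx⟩ := hv
      exact ⟨E₁.left, ε.left, inferInstance, x, hx, h2⟩
    haveI := hiso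
    haveI : IsIso ((Over.forget S).map s₁) := ‹IsIso s₁.left›
    haveI : IsIso s₁ := isIso_of_reflects_iso s₁ (Over.forget S)
    have hl1 : ((AlgSp.yon S).map (inv s₁) ≫ f₁) ≫ k = ch ≫ b := by
      calc ((AlgSp.yon S).map (inv s₁) ≫ f₁) ≫ k
          = (AlgSp.yon S).map (inv s₁) ≫ (AlgSp.yon S).map s₁ ≫ ch ≫ b := by
            rw [Category.assoc, sq₁.w]
        _ = (AlgSp.yon S).map (inv s₁ ≫ s₁) ≫ ch ≫ b :=
            ((AlgSp.yon S).map_comp_assoc _ _ _).symm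
        _ = ch ≫ b := by
            rw [IsIso.inv_hom_id, CategoryTheory.Functor.map_id, Category.id_comp]
    refine ⟨(AlgSp.yon S).map (inv s₁) ≫ f₁, hl1, ?_⟩
    intro Z' z z' hz
    rw [← cancel_mono k]
    calc (z' ≫ (AlgSp.yon S).map (inv s₁) ≫ f₁) ≫ k = z' ≫ ch ≫ b := by
          rw [Category.assoc, hl1]
      _ = (z ≫ j') ≫ b := by rw [hz, Category.assoc]
      _ = z ≫ a ≫ c := by rw [Category.assoc, w]
      _ = (z ≫ a ≫ j) ≫ k := by
          rw [← hjk]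
          simp only [Category.assoc]

end InfNbhd

end Groth.Agent.Lib.Helper8InfNbhd
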