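import Mathlib
import Groth.Prelude
import Groth.Agent.Lib.Helper8InfNbhd

/-!
Square zero closed immersions into affine schemes are first order thickenings of sheaves;
in particular the closed immersion of an infinitesimal lifting square is one.
-/

set_option autoImplicit false
universe u
open CategoryTheory CategoryTheory.Limits AlgebraicGeometry Opposite

namespace Groth.Agent.Lib.Helper8UnivThick

open Groth.Agent.Lib.Helper8FOGlue Groth.Agent.Lib.Helper8FOBaseChange
open Groth.Agent.Lib.Helper8InfNbhd

/-- the kernel of `Spec (A ⧸ I) ⟶ Spec A` has square zero when `I ^ 2 = ⊥`. -/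
lemma ker_specMap_quotient_sq {A : Type u} [CommRing A] (I : Ideal A) (hI : I ^ 2 = ⊥) :
    (Spec.map (CommRingCat.ofHom (Ideal.Quotient.mk I))).ker *
      (Spec.map (CommRingCat.ofHom (Ideal.Quotient.mk I))).ker = ⊥ := by
  haveI : IsClosedImmersion (Spec.map (CommRingCat.ofHom (Ideal.Quotient.mk I))) :=
    IsClosedImmersion.spec_of_surjective _ Ideal.Quotient.mk_surjective
  apply sqZero_of_ker_appTop
  rw [eq_bot_iff, Ideal.mul_le]
  intro x hx y hy
  rw [Ideal.mem_bot]
  rw [RingHom.mem_ker] at hx hy
  have key : ∀ z : Γ(Spec (CommRingCat.of A), ⊤),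
      (Spec.map (CommRingCat.ofHom (Ideal.Quotient.mk I))).appTop.hom z = 0 →
      (Scheme.ΓSpecIso (CommRingCat.of A)).hom.hom z ∈ I := by
    intro z hz
    have h1 := congrArg (fun f => f.hom z)
      (Scheme.ΓSpecIso_naturality (CommRingCat.ofHom (Ideal.Quotient.mk I)))
    simp only [CommRingCat.hom_comp, RingHom.comp_apply] at h1
    rw [hz, map_zero] at h1
    exact Ideal.Quotient.eq_zero_iff_mem.1 h1.symm
  have h2 : (Scheme.ΓSpecIso (CommRingCat.of A)).hom.hom (x * y) ∈ I ^ 2 := by
    rw [map_mul, pow_two]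
    exact Ideal.mul_mem_mul (key x hx) (key y hy)
  rw [hI, Ideal.mem_bot] at h2
  have hinj : Function.Injective (Scheme.ΓSpecIso (CommRingCat.of A)).hom.hom :=
    (ConcreteCategory.bijective_of_isIso (Scheme.ΓSpecIso (CommRingCat.of A)).hom).1
  exact hinj (by rw [h2, map_zero])

variable {S : Scheme.{u}}

/-- a square zero closed immersion into an affine scheme is a first order thickening. -/
theorem isFOThickMor_yon_map_of_sqZero {V₀ V : Over S} [IsAffine V.left] (g : V₀ ⟶ V)
    [IsClosedImmersion g.left] (hg : g.left.ker * g.left.ker = ⊥) :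
    AlgSp.IsFOThickMor ((AlgSp.yon S).map g) := by
  refine ⟨(AlgSp.isThickMor_yon_map_iff g).2 ⟨inferInstance, surjective_of_sqZero g.left hg⟩, ?_⟩
  intro W W₀ b fst snd hW hb sqb
  haveI := hW
  obtain ⟨β, rfl⟩ := (AlgSp.yon S).map_surjective b
  obtain ⟨φ, rfl⟩ := (AlgSp.yon S).map_surjective fst
  have comm : φ ≫ g = snd ≫ β := (AlgSp.yon S).map_injective (by
    rw [Functor.map_comp, Functor.map_comp]
    exact sqb.w)
  have sqL : IsPullback φ.left snd.left g.left β.left :=
    (IsPullback.of_map (AlgSp.yon S) comm sqb).map (Over.forget S)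
  exact sqZero_of_isPullback g.left hg β.left φ.left snd.left sqL

/-- the closed immersion of an infinitesimal lifting square is a first order thickening. -/
theorem isFOThickMor_infSq_j {F G : AlgSp.Sp S} {f : F ⟶ G} (sq : AlgSp.InfSq f) :
    AlgSp.IsFOThickMor ((AlgSp.yon S).map sq.j) := by
  haveI : IsAffine sq.ptT'.left := inferInstanceAs (IsAffine (Spec (CommRingCat.of sq.A)))
  haveI : IsClosedImmersion sq.j.left := by
    show IsClosedImmersion (Spec.map (CommRingCat.ofHom (Ideal.Quotient.mk sq.I)))
    exact IsClosedImmersion.spec_of_surjective _ Ideal.Quotient.mk_surjective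
  exact isFOThickMor_yon_map_of_sqZero sq.j (ker_specMap_quotient_sq sq.I sq.sq_zero)

end Groth.Agent.Lib.Helper8UnivThick
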