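import Mathlib
import Groth.Prelude.Def_AlgSpInf
import Groth.Prelude.Def_Omega3
import Groth.Agent.S10638
import Groth.Agent.S10695
import Groth.Agent.Lib.H5bUFTA
import Groth.Agent.Lib.H5bFormalBase
import Groth.Agent.Lib.H5bFormalChart
import Groth.Agent.Lib.Helper15AlgSpInf
import Groth.Agent.Lib.Helper12EtSmST

/-!
# Universal first order thickenings of algebraic spaces: the chart data (helper5)

`Setup S`: a formally unramified morphism `h : Z ⟶ X` of algebraic spaces with étale charts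
`p : h_V ⟶ Z` (surjective), `u : h_U ⟶ X`, `ψ : V ⟶ U`, the relation `R = V ×_Z V` and universal
first order thickenings `V ⊂ V'`, `R ⊂ R'` of schemes over `U`.

* `Setup.s'`, `Setup.t'`: the liftings `R' ⟶ V'` of the two projections; they are étale.
-/

set_option autoImplicit false
set_option linter.style.haveILetI false
universe u

namespace Groth.Agent.Lib.H5bUFT

open CategoryTheory CategoryTheory.Limits AlgebraicGeometry Opposite MorphismProperty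
open AlgSp

/-- chart data for the construction of the universal first order thickening. -/
structure Setup (S : Scheme.{u}) where
  Z : AlgSp.Space S
  X : AlgSp.Space S
  h : Z ⟶ X
  U : Over S
  V : Over S
  R : Over S
  u : (AlgSp.yon S).obj U ⟶ X.obj
  p : (AlgSp.yon S).obj V ⟶ Z.obj
  ψ : V ⟶ U
  s : R ⟶ V
  t : R ⟶ V
  V' : Over S
  iV : V ⟶ V'
  hV' : V' ⟶ U
  R' : Over S
  iR : R ⟶ R'
  hR' : R' ⟶ U
  hh : AlgSp.IsFormallyUnramifiedMor h.hom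
  hu : AlgSp.RepWith @Etale u
  hp : AlgSp.RepWith @Etale p
  hps : AlgSp.RepWith @Surjective p
  hψ : (AlgSp.yon S).map ψ ≫ u = p ≫ h.hom
  hk : IsPullback ((AlgSp.yon S).map t) ((AlgSp.yon S).map s) p p
  HV : OmegaSh.IsUnivThickening ψ.left iV.left hV'.left
  HR : OmegaSh.IsUnivThickening (s ≫ ψ).left iR.left hR'.left

namespace Setup

variable {S : Scheme.{u}} (D : Setup S)

lemma etale_s : Etale D.s.left := D.hp.2 _ _ D.s D.hk
lemma etale_t : Etale D.t.left := D.hp.2 _ _ D.t D.hk.flip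

lemma iV_hV' : D.iV ≫ D.hV' = D.ψ := Over.OverMorphism.ext D.HV.2.1
lemma iR_hR' : D.iR ≫ D.hR' = D.s ≫ D.ψ := Over.OverMorphism.ext D.HR.2.1

lemma isFOThick_iV : AlgSp.IsFOThickMor ((AlgSp.yon S).map D.iV) := isFOThickMor_yon_map _ D.HV.1
lemma isFOThick_iR : AlgSp.IsFOThickMor ((AlgSp.yon S).map D.iR) := isFOThickMor_yon_map _ D.HR.1

lemma formallyEtale_u : AlgSp.IsFormallyEtaleMor D.u :=
  Groth.Agent.Lib.H5bFormal.formallyEtale_of_repEtale D.u D.hu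

/-- the structure map `h_{V'} ⟶ X`. -/
noncomputable def bV : (AlgSp.yon S).obj D.V' ⟶ D.X.obj := (AlgSp.yon S).map D.hV' ≫ D.u
/-- the structure map `h_{R'} ⟶ X`. -/
noncomputable def bR : (AlgSp.yon S).obj D.R' ⟶ D.X.obj := (AlgSp.yon S).map D.hR' ≫ D.u
/-- the structure map `h_V ⟶ X`. -/
noncomputable def aV : (AlgSp.yon S).obj D.V ⟶ D.X.obj := (AlgSp.yon S).map D.ψ ≫ D.u

lemma aV_eq : D.aV = D.p ≫ D.h.hom := D.hψ

lemma iV_bV : (AlgSp.yon S).map D.iV ≫ D.bV = D.aV := by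
  unfold bV aV
  rw [← Category.assoc, ← Functor.map_comp, D.iV_hV']

lemma s_aV : (AlgSp.yon S).map D.s ≫ D.aV = (AlgSp.yon S).map D.t ≫ D.aV := by
  rw [D.aV_eq, ← Category.assoc, ← Category.assoc, D.hk.w]

lemma iR_bR : (AlgSp.yon S).map D.iR ≫ D.bR = (AlgSp.yon S).map D.s ≫ D.aV := by
  unfold bR aV
  rw [← Category.assoc, ← Functor.map_comp, D.iR_hR', Functor.map_comp, Category.assoc]

/-- `V'` is the universal first order thickening of `V` over `X`. -/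
lemma univV : AlgSp.IsUnivFOThick D.aV ((AlgSp.yon S).map D.iV) D.bV :=
  isUnivFOThick_over D.ψ D.iV D.hV' D.HV D.u D.formallyEtale_u

/-- `R'` is the universal first order thickening of `R` over `X`. -/
lemma univR : AlgSp.IsUnivFOThick ((AlgSp.yon S).map D.s ≫ D.aV) ((AlgSp.yon S).map D.iR) D.bR := by
  have := isUnivFOThick_over (D.s ≫ D.ψ) D.iR D.hR' D.HR D.u D.formallyEtale_u
  rw [Functor.map_comp, Category.assoc] at this
  exact this

/-- uniqueness of maps into `V'`. -/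
lemma hom_ext_V' {T T' : AlgSp.Sp S} (hT : AlgSp.IsAlgSpace T) (hT' : AlgSp.IsAlgSpace T')
    (j : T ⟶ T') (hj : AlgSp.IsFOThickMor j) (a : T ⟶ (AlgSp.yon S).obj D.V)
    (x y : T' ⟶ (AlgSp.yon S).obj D.V')
    (hx : j ≫ x = a ≫ (AlgSp.yon S).map D.iV) (hy : j ≫ y = a ≫ (AlgSp.yon S).map D.iV)
    (hxy : x ≫ D.bV = y ≫ D.bV) : x = y := by
  have hc : j ≫ (x ≫ D.bV) = a ≫ D.aV := by
    rw [← Category.assoc, hx, Category.assoc, D.iV_bV]
  obtain ⟨a', -, hu⟩ := D.univV.2.2 hT hT' j a (x ≫ D.bV) hj hc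
  exact (hu x ⟨hx, rfl⟩).trans (hu y ⟨hy, hxy.symm⟩).symm

/-- uniqueness of maps into `R'`. -/
lemma hom_ext_R' {T T' : AlgSp.Sp S} (hT : AlgSp.IsAlgSpace T) (hT' : AlgSp.IsAlgSpace T')
    (j : T ⟶ T') (hj : AlgSp.IsFOThickMor j) (a : T ⟶ (AlgSp.yon S).obj D.R)
    (x y : T' ⟶ (AlgSp.yon S).obj D.R')
    (hx : j ≫ x = a ≫ (AlgSp.yon S).map D.iR) (hy : j ≫ y = a ≫ (AlgSp.yon S).map D.iR)
    (hxy : x ≫ D.bR = y ≫ D.bR) : x = y := by
  have hc : j ≫ (x ≫ D.bR) = a ≫ (AlgSp.yon S).map D.s ≫ D.aV := by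
    rw [← Category.assoc, hx, Category.assoc, D.iR_bR]
  obtain ⟨a', -, hu⟩ := D.univR.2.2 hT hT' j a (x ≫ D.bR) hj hc
  exact (hu x ⟨hx, rfl⟩).trans (hu y ⟨hy, hxy.symm⟩).symm

lemma exists_s' : ∃ s' : D.R' ⟶ D.V', D.iR ≫ s' = D.s ≫ D.iV ∧
    (AlgSp.yon S).map s' ≫ D.bV = D.bR := by
  obtain ⟨a', ⟨h1, h2⟩, -⟩ := D.univV.2.2 (AlgSp.IsAlgSpace.yon_obj D.R)
    (AlgSp.IsAlgSpace.yon_obj D.R') ((AlgSp.yon S).map D.iR) ((AlgSp.yon S).map D.s) D.bR
    D.isFOThick_iR D.iR_bR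
  obtain ⟨s', rfl⟩ := (AlgSp.yon S).map_surjective a'
  refine ⟨s', ?_, h2⟩
  apply (AlgSp.yon S).map_injective
  rw [Functor.map_comp, Functor.map_comp]
  exact h1

lemma exists_t' : ∃ t' : D.R' ⟶ D.V', D.iR ≫ t' = D.t ≫ D.iV ∧
    (AlgSp.yon S).map t' ≫ D.bV = D.bR := by
  obtain ⟨a', ⟨h1, h2⟩, -⟩ := D.univV.2.2 (AlgSp.IsAlgSpace.yon_obj D.R)
    (AlgSp.IsAlgSpace.yon_obj D.R') ((AlgSp.yon S).map D.iR) ((AlgSp.yon S).map D.t) D.bR
    D.isFOThick_iR (D.iR_bR.trans D.s_aV)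
  obtain ⟨t', rfl⟩ := (AlgSp.yon S).map_surjective a'
  refine ⟨t', ?_, h2⟩
  apply (AlgSp.yon S).map_injective
  rw [Functor.map_comp, Functor.map_comp]
  exact h1

/-- the lifting of `s`. -/
noncomputable def s' : D.R' ⟶ D.V' := D.exists_s'.choose
/-- the lifting of `t`. -/
noncomputable def t' : D.R' ⟶ D.V' := D.exists_t'.choose

lemma iR_s' : D.iR ≫ D.s' = D.s ≫ D.iV := D.exists_s'.choose_spec.1
lemma s'_bV : (AlgSp.yon S).map D.s' ≫ D.bV = D.bR := D.exists_s'.choose_spec.2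
lemma iR_t' : D.iR ≫ D.t' = D.t ≫ D.iV := D.exists_t'.choose_spec.1
lemma t'_bV : (AlgSp.yon S).map D.t' ≫ D.bV = D.bR := D.exists_t'.choose_spec.2

lemma formallyUnramified_aV : AlgSp.IsFormallyUnramifiedMor D.aV := by
  rw [D.aV_eq]
  exact Groth.Agent.Lib.Helper15.isFormallyUnramifiedMor_comp D.p D.h.hom
    (Groth.Agent.Lib.H5bFormal.formallyUnramified_of_repEtale D.p D.hp) D.hh

/-- a lifting `R' ⟶ V'` of an étale map `R ⟶ V` compatible with the maps to `X` is étale. -/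
lemma etale_lift (v : D.R ⟶ D.V) (hv : Etale v.left)
    (hva : (AlgSp.yon S).map v ≫ D.aV = (AlgSp.yon S).map D.s ≫ D.aV)
    (e' : D.R' ⟶ D.V') (h1 : D.iR ≫ e' = v ≫ D.iV)
    (h2 : (AlgSp.yon S).map e' ≫ D.bV = D.bR) : Etale e'.left := by
  have key := Groth.Agent.S10638.result (Z := (AlgSp.ofScheme S).obj D.V) (X := D.X)
    (Z' := (AlgSp.ofScheme S).obj D.V') (V := (AlgSp.ofScheme S).obj D.R) (U := D.X)
    (V' := (AlgSp.ofScheme S).obj D.R')
    (ObjectProperty.homMk D.aV) D.formallyUnramified_aV ((AlgSp.ofScheme S).map D.iV)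
    (ObjectProperty.homMk D.bV) D.univV ((AlgSp.ofScheme S).map v) (𝟙 D.X)
    ((AlgSp.isEtaleMor_yon_map_iff v).2 hv)
    (Groth.Agent.Lib.Helper12.EtSmST.isEtaleMor_id _)
    (ObjectProperty.homMk ((AlgSp.yon S).map D.s ≫ D.aV))
    (ObjectProperty.hom_ext _ (by
      show ((AlgSp.yon S).map D.s ≫ D.aV) ≫ 𝟙 _ = (AlgSp.yon S).map v ≫ D.aV
      rw [Category.comp_id, hva]))
  refine (AlgSp.isEtaleMor_yon_map_iff e').1 (key.2 ((AlgSp.ofScheme S).map D.iR)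
    (ObjectProperty.homMk D.bR) D.univR ((AlgSp.ofScheme S).map e') ?_ ?_)
  · apply ObjectProperty.hom_ext
    show (AlgSp.yon S).map D.iR ≫ (AlgSp.yon S).map e' = (AlgSp.yon S).map v ≫ (AlgSp.yon S).map D.iV
    rw [← Functor.map_comp, ← Functor.map_comp, h1]
  · apply ObjectProperty.hom_ext
    show (AlgSp.yon S).map e' ≫ D.bV = D.bR ≫ 𝟙 _
    rw [Category.comp_id, h2]

lemma etale_s' : Etale D.s'.left := D.etale_lift D.s D.etale_s rfl D.s' D.iR_s' D.s'_bV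
lemma etale_t' : Etale D.t'.left := D.etale_lift D.t D.etale_t D.s_aV.symm D.t' D.iR_t' D.t'_bV

end Setup

end Groth.Agent.Lib.H5bUFT
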