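import Mathlib
import Groth.Agent.Lib.H5bUFTB

/-!
# Universal first order thickenings of algebraic spaces: the lifted relation (helper5)

* `isPullback_of_etale_thickening`: an étale morphism of thickenings of schemes is cartesian;
* `Setup.isPullback_s'`, `Setup.isPullback_t'`: `R = V ×_{V'} R'` for both liftings;
* `Setup.isEqvRel`: `s', t' : R' ⟶ V'` is an equivalence relation.
-/

set_option autoImplicit false
set_option linter.style.haveILetI false
universe u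

namespace Groth.Agent.Lib.H5bUFT

open CategoryTheory CategoryTheory.Limits AlgebraicGeometry Opposite MorphismProperty
open AlgSp

/-- an étale morphism of thickenings of schemes is cartesian. -/
theorem isPullback_of_etale_thickening {R R' V V' : Scheme.{u}} (j : R ⟶ R') (i : V ⟶ V')
    (s : R ⟶ V) (s' : R' ⟶ V') (hj : MoreMor.IsThickening j) (hi : MoreMor.IsThickening i)
    [Etale s] [Etale s'] (w : j ≫ s' = s ≫ i) : IsPullback j s s' i := by
  haveI : IsClosedImmersion i := hi.1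
  haveI : IsClosedImmersion j := hj.1
  haveI : Surjective j := hj.2
  have hk1 : pullback.lift j s w ≫ pullback.fst s' i = j := pullback.lift_fst _ _ _
  have hk2 : pullback.lift j s w ≫ pullback.snd s' i = s := pullback.lift_snd _ _ _
  haveI : IsClosedImmersion (pullback.lift j s w ≫ pullback.fst s' i) := by
    rw [hk1]; infer_instance
  haveI : IsClosedImmersion (pullback.lift j s w) :=
    IsClosedImmersion.of_comp (pullback.lift j s w) (pullback.fst s' i)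
  haveI : Etale (pullback.lift j s w ≫ pullback.snd s' i) := by
    rw [hk2]; infer_instance
  haveI : Etale (pullback.lift j s w) := Etale.of_comp (pullback.lift j s w) (pullback.snd s' i)
  haveI : IsOpenImmersion (pullback.lift j s w) := IsOpenImmersion.of_flat_of_mono _
  haveI : Surjective (pullback.lift j s w) := ⟨fun q => by
    obtain ⟨r, hr⟩ := j.surjective (pullback.fst s' i q)
    refine ⟨r, (pullback.fst s' i).injective ?_⟩
    rw [← Scheme.Hom.comp_apply, hk1, hr]⟩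
  haveI : IsIso (pullback.lift j s w) :=
    (isIso_iff_isOpenImmersion_and_surjective _).2 ⟨inferInstance, inferInstance⟩
  exact IsPullback.of_iso_pullback ⟨w⟩ (asIso (pullback.lift j s w)) hk1 hk2

namespace Setup

variable {S : Scheme.{u}} (D : Setup S)

lemma isPullback_over_s' : IsPullback D.iR D.s D.s' D.iV := by
  haveI := D.etale_s
  haveI := D.etale_s'
  refine IsPullback.of_map (Over.forget S) D.iR_s' ?_
  exact isPullback_of_etale_thickening D.iR.left D.iV.left D.s.left D.s'.left D.HR.1.1 D.HV.1.1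
    (congrArg (fun m => m.left) D.iR_s')

lemma isPullback_over_t' : IsPullback D.iR D.t D.t' D.iV := by
  haveI := D.etale_t
  haveI := D.etale_t'
  refine IsPullback.of_map (Over.forget S) D.iR_t' ?_
  exact isPullback_of_etale_thickening D.iR.left D.iV.left D.t.left D.t'.left D.HR.1.1 D.HV.1.1
    (congrArg (fun m => m.left) D.iR_t')

instance mono_iV : Mono D.iV := by
  haveI : IsClosedImmersion D.iV.left := D.HV.1.1.1
  haveI : Mono ((Over.forget S).map D.iV) := inferInstanceAs (Mono D.iV.left)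
  exact (Over.forget S).mono_of_mono_map inferInstance

/-- the fibre of `V ⊂ V'` over a point of `V'` is a first order thickening. -/
lemma isFOThick_fst {T : Over S} (x : T ⟶ D.V') :
    AlgSp.IsFOThickMor ((AlgSp.yon S).map (pullback.fst x D.iV)) := by
  apply isFOThickMor_yon_map
  have sq : IsPullback (pullback.fst x D.iV).left (pullback.snd x D.iV).left x.left D.iV.left :=
    (IsPullback.of_hasPullback x D.iV).map (Over.forget S)
  exact ⟨MorphismProperty.of_isPullback (P := AlgSp.thick) sq.flip D.HV.1.1,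
    Groth.Agent.Lib.H5bFormal.sqZero_baseChange _ _ _ _ D.HV.1.1 D.HV.1.2 sq⟩

lemma hom_ext_R {T : Over S} (ρ₁ ρ₂ : T ⟶ D.R) (h1 : ρ₁ ≫ D.t = ρ₂ ≫ D.t)
    (h2 : ρ₁ ≫ D.s = ρ₂ ≫ D.s) : ρ₁ = ρ₂ := by
  apply (AlgSp.yon S).map_injective
  apply D.hk.hom_ext
  · rw [← Functor.map_comp, ← Functor.map_comp, h1]
  · rw [← Functor.map_comp, ← Functor.map_comp, h2]

lemma s_p : (AlgSp.yon S).map D.s ≫ D.p = (AlgSp.yon S).map D.t ≫ D.p := D.hk.w.symm

/-- `T`-points of `V` with the same image in `Z` are related. -/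
lemma exists_R {T : Over S} (a b : T ⟶ D.V)
    (hab : (AlgSp.yon S).map a ≫ D.p = (AlgSp.yon S).map b ≫ D.p) :
    ∃ ρ : T ⟶ D.R, ρ ≫ D.t = a ∧ ρ ≫ D.s = b := by
  obtain ⟨ρ, hρ⟩ := (AlgSp.yon S).map_surjective (D.hk.lift _ _ hab)
  refine ⟨ρ, ?_, ?_⟩
  · apply (AlgSp.yon S).map_injective
    rw [Functor.map_comp, hρ, D.hk.lift_fst]
  · apply (AlgSp.yon S).map_injective
    rw [Functor.map_comp, hρ, D.hk.lift_snd]

lemma bR_eq_s' : D.bR = (AlgSp.yon S).map D.s' ≫ D.bV := D.s'_bV.symm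
lemma bR_eq_t' : D.bR = (AlgSp.yon S).map D.t' ≫ D.bV := D.t'_bV.symm

/-- injectivity of `(t', s')` on `T`-points. -/
lemma injective' {T : Over S} (r₁ r₂ : T ⟶ D.R') (ht : r₁ ≫ D.t' = r₂ ≫ D.t')
    (hs : r₁ ≫ D.s' = r₂ ≫ D.s') : r₁ = r₂ := by
  have hcond : pullback.fst (r₁ ≫ D.s') D.iV ≫ (r₁ ≫ D.s') =
      pullback.snd (r₁ ≫ D.s') D.iV ≫ D.iV := pullback.condition
  have c1 : (pullback.fst (r₁ ≫ D.s') D.iV ≫ r₁) ≫ D.s' =
      pullback.snd (r₁ ≫ D.s') D.iV ≫ D.iV := by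
    rw [Category.assoc]; exact hcond
  have c2 : (pullback.fst (r₁ ≫ D.s') D.iV ≫ r₂) ≫ D.s' =
      pullback.snd (r₁ ≫ D.s') D.iV ≫ D.iV := by
    rw [Category.assoc, ← hs]; exact hcond
  obtain ⟨ρ₁, hρ₁a, hρ₁b⟩ := D.isPullback_over_s'.exists_lift _ _ c1
  obtain ⟨ρ₂, hρ₂a, hρ₂b⟩ := D.isPullback_over_s'.exists_lift _ _ c2
  have hρ : ρ₁ = ρ₂ := by
    apply D.hom_ext_R
    · rw [← cancel_mono D.iV, Category.assoc, Category.assoc, ← D.iR_t', ← Category.assoc,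
        ← Category.assoc, hρ₁a, hρ₂a, Category.assoc, Category.assoc, ht]
    · rw [hρ₁b, hρ₂b]
  apply (AlgSp.yon S).map_injective
  refine D.hom_ext_R' (AlgSp.IsAlgSpace.yon_obj _) (AlgSp.IsAlgSpace.yon_obj _)
    ((AlgSp.yon S).map (pullback.fst (r₁ ≫ D.s') D.iV)) (D.isFOThick_fst _)
    ((AlgSp.yon S).map ρ₁) _ _ ?_ ?_ ?_
  · rw [← Functor.map_comp, ← Functor.map_comp, hρ₁a]
  · rw [← Functor.map_comp, ← Functor.map_comp, hρ, hρ₂a]
  · rw [D.bR_eq_s', ← Category.assoc, ← Category.assoc, ← Functor.map_comp, ← Functor.map_comp, hs]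

/-- the lifted identity. -/
lemma exists_e' : ∃ e' : D.V' ⟶ D.R', e' ≫ D.t' = 𝟙 _ ∧ e' ≫ D.s' = 𝟙 _ := by
  obtain ⟨e, he1, he2⟩ := D.exists_R (𝟙 D.V) (𝟙 D.V) rfl
  have hc : (AlgSp.yon S).map D.iV ≫ D.bV = (AlgSp.yon S).map e ≫ (AlgSp.yon S).map D.s ≫ D.aV := by
    rw [D.iV_bV, ← Category.assoc, ← Functor.map_comp, he2, CategoryTheory.Functor.map_id, Category.id_comp]
  obtain ⟨e'', ⟨h1, h2⟩, -⟩ := D.univR.2.2 (AlgSp.IsAlgSpace.yon_obj D.V)
    (AlgSp.IsAlgSpace.yon_obj D.V') ((AlgSp.yon S).map D.iV) ((AlgSp.yon S).map e) D.bV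
    D.isFOThick_iV hc
  obtain ⟨e', rfl⟩ := (AlgSp.yon S).map_surjective e''
  refine ⟨e', ?_, ?_⟩
  · apply (AlgSp.yon S).map_injective
    refine D.hom_ext_V' (AlgSp.IsAlgSpace.yon_obj _) (AlgSp.IsAlgSpace.yon_obj _)
      ((AlgSp.yon S).map D.iV) D.isFOThick_iV (𝟙 _) _ _ ?_ ?_ ?_
    · rw [Functor.map_comp, ← Category.assoc, h1, Category.assoc, ← Functor.map_comp,
        ← Functor.map_comp, D.iR_t', ← Category.assoc, he1, Category.id_comp, Category.id_comp]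
    · rw [CategoryTheory.Functor.map_id, Category.comp_id, Category.id_comp]
    · rw [Functor.map_comp, Category.assoc, D.t'_bV, h2, CategoryTheory.Functor.map_id, Category.id_comp]
  · apply (AlgSp.yon S).map_injective
    refine D.hom_ext_V' (AlgSp.IsAlgSpace.yon_obj _) (AlgSp.IsAlgSpace.yon_obj _)
      ((AlgSp.yon S).map D.iV) D.isFOThick_iV (𝟙 _) _ _ ?_ ?_ ?_
    · rw [Functor.map_comp, ← Category.assoc, h1, Category.assoc, ← Functor.map_comp,
        ← Functor.map_comp, D.iR_s', ← Category.assoc, he2, Category.id_comp, Category.id_comp]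
    · rw [CategoryTheory.Functor.map_id, Category.comp_id, Category.id_comp]
    · rw [Functor.map_comp, Category.assoc, D.s'_bV, h2, CategoryTheory.Functor.map_id, Category.id_comp]

/-- the lifted inverse. -/
lemma exists_i' : ∃ i' : D.R' ⟶ D.R', i' ≫ D.t' = D.s' ∧ i' ≫ D.s' = D.t' := by
  obtain ⟨inv, hi1, hi2⟩ := D.exists_R D.s D.t D.s_p
  have hc : (AlgSp.yon S).map D.iR ≫ D.bR =
      (AlgSp.yon S).map inv ≫ (AlgSp.yon S).map D.s ≫ D.aV := by
    rw [D.iR_bR, ← Category.assoc, ← Functor.map_comp, hi2, D.s_aV]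
  obtain ⟨i'', ⟨h1, h2⟩, -⟩ := D.univR.2.2 (AlgSp.IsAlgSpace.yon_obj D.R)
    (AlgSp.IsAlgSpace.yon_obj D.R') ((AlgSp.yon S).map D.iR) ((AlgSp.yon S).map inv) D.bR
    D.isFOThick_iR hc
  obtain ⟨i', rfl⟩ := (AlgSp.yon S).map_surjective i''
  refine ⟨i', ?_, ?_⟩
  · apply (AlgSp.yon S).map_injective
    refine D.hom_ext_V' (AlgSp.IsAlgSpace.yon_obj _) (AlgSp.IsAlgSpace.yon_obj _)
      ((AlgSp.yon S).map D.iR) D.isFOThick_iR ((AlgSp.yon S).map D.s) _ _ ?_ ?_ ?_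
    · rw [Functor.map_comp, ← Category.assoc, h1, Category.assoc]
      simp only [← Functor.map_comp]
      rw [D.iR_t', ← Category.assoc, hi1]
    · rw [← Functor.map_comp, ← Functor.map_comp, D.iR_s']
    · rw [Functor.map_comp, Category.assoc, D.t'_bV, h2, D.s'_bV]
  · apply (AlgSp.yon S).map_injective
    refine D.hom_ext_V' (AlgSp.IsAlgSpace.yon_obj _) (AlgSp.IsAlgSpace.yon_obj _)
      ((AlgSp.yon S).map D.iR) D.isFOThick_iR ((AlgSp.yon S).map D.t) _ _ ?_ ?_ ?_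
    · rw [Functor.map_comp, ← Category.assoc, h1, Category.assoc]
      simp only [← Functor.map_comp]
      rw [D.iR_s', ← Category.assoc, hi2]
    · rw [← Functor.map_comp, ← Functor.map_comp, D.iR_t']
    · rw [Functor.map_comp, Category.assoc, D.s'_bV, h2, D.t'_bV]

/-- transitivity of the lifted relation. -/
lemma trans' {T : Over S} (r₁ r₂ : T ⟶ D.R') (h12 : r₁ ≫ D.s' = r₂ ≫ D.t') :
    ∃ r₃ : T ⟶ D.R', r₃ ≫ D.t' = r₁ ≫ D.t' ∧ r₃ ≫ D.s' = r₂ ≫ D.s' := by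
  have hcond : pullback.fst (r₁ ≫ D.s') D.iV ≫ (r₁ ≫ D.s') =
      pullback.snd (r₁ ≫ D.s') D.iV ≫ D.iV := pullback.condition
  have c1 : (pullback.fst (r₁ ≫ D.s') D.iV ≫ r₁) ≫ D.s' =
      pullback.snd (r₁ ≫ D.s') D.iV ≫ D.iV := by
    rw [Category.assoc]; exact hcond
  have c2 : (pullback.fst (r₁ ≫ D.s') D.iV ≫ r₂) ≫ D.t' =
      pullback.snd (r₁ ≫ D.s') D.iV ≫ D.iV := by
    rw [Category.assoc, ← h12]; exact hcond
  obtain ⟨ρ₁, hρ₁a, hρ₁b⟩ := D.isPullback_over_s'.exists_lift _ _ c1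
  obtain ⟨ρ₂, hρ₂a, hρ₂b⟩ := D.isPullback_over_t'.exists_lift _ _ c2
  have hp : (AlgSp.yon S).map (ρ₁ ≫ D.t) ≫ D.p = (AlgSp.yon S).map (ρ₂ ≫ D.s) ≫ D.p := by
    calc (AlgSp.yon S).map (ρ₁ ≫ D.t) ≫ D.p
        = (AlgSp.yon S).map (ρ₁ ≫ D.s) ≫ D.p := by
          rw [Functor.map_comp, Functor.map_comp, Category.assoc, Category.assoc, D.s_p]
      _ = (AlgSp.yon S).map (ρ₂ ≫ D.t) ≫ D.p := by rw [hρ₁b, hρ₂b]
      _ = (AlgSp.yon S).map (ρ₂ ≫ D.s) ≫ D.p := by
          rw [Functor.map_comp, Functor.map_comp, Category.assoc, Category.assoc, D.s_p]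
  obtain ⟨ρ₃, hρ₃t, hρ₃s⟩ := D.exists_R (ρ₁ ≫ D.t) (ρ₂ ≫ D.s) hp
  have hc : (AlgSp.yon S).map (pullback.fst (r₁ ≫ D.s') D.iV) ≫ ((AlgSp.yon S).map r₁ ≫ D.bR) =
      (AlgSp.yon S).map ρ₃ ≫ (AlgSp.yon S).map D.s ≫ D.aV := by
    calc (AlgSp.yon S).map (pullback.fst (r₁ ≫ D.s') D.iV) ≫ ((AlgSp.yon S).map r₁ ≫ D.bR)
        = (AlgSp.yon S).map (ρ₁ ≫ D.iR) ≫ D.bR := by
          rw [hρ₁a, Functor.map_comp, Category.assoc]
      _ = (AlgSp.yon S).map (ρ₁ ≫ D.s) ≫ D.aV := by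
          rw [Functor.map_comp, Category.assoc, D.iR_bR, Functor.map_comp, Category.assoc]
      _ = (AlgSp.yon S).map (ρ₂ ≫ D.t) ≫ D.aV := by rw [hρ₁b, hρ₂b]
      _ = (AlgSp.yon S).map (ρ₂ ≫ D.s) ≫ D.aV := by
          rw [Functor.map_comp, Functor.map_comp, Category.assoc, Category.assoc, D.s_aV]
      _ = (AlgSp.yon S).map ρ₃ ≫ (AlgSp.yon S).map D.s ≫ D.aV := by
          rw [← hρ₃s, Functor.map_comp, Category.assoc]
  obtain ⟨r₃'', ⟨h1, h2⟩, -⟩ := D.univR.2.2 (AlgSp.IsAlgSpace.yon_obj _)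
    (AlgSp.IsAlgSpace.yon_obj T) ((AlgSp.yon S).map (pullback.fst (r₁ ≫ D.s') D.iV))
    ((AlgSp.yon S).map ρ₃) ((AlgSp.yon S).map r₁ ≫ D.bR) (D.isFOThick_fst _) hc
  obtain ⟨r₃, rfl⟩ := (AlgSp.yon S).map_surjective r₃''
  have hbR : (AlgSp.yon S).map r₁ ≫ D.bR = (AlgSp.yon S).map r₂ ≫ D.bR := by
    calc (AlgSp.yon S).map r₁ ≫ D.bR = (AlgSp.yon S).map (r₁ ≫ D.s') ≫ D.bV := by
          rw [Functor.map_comp, Category.assoc, D.s'_bV]
      _ = (AlgSp.yon S).map r₂ ≫ D.bR := by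
          rw [h12, Functor.map_comp, Category.assoc, D.t'_bV]
  refine ⟨r₃, ?_, ?_⟩
  · apply (AlgSp.yon S).map_injective
    refine D.hom_ext_V' (AlgSp.IsAlgSpace.yon_obj _) (AlgSp.IsAlgSpace.yon_obj _)
      ((AlgSp.yon S).map (pullback.fst (r₁ ≫ D.s') D.iV)) (D.isFOThick_fst _)
      ((AlgSp.yon S).map (ρ₃ ≫ D.t)) _ _ ?_ ?_ ?_
    · rw [Functor.map_comp, ← Category.assoc, h1, Category.assoc]
      simp only [← Functor.map_comp]
      rw [D.iR_t', Category.assoc]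
    · simp only [← Functor.map_comp]
      congr 1
      rw [← Category.assoc, ← hρ₁a, Category.assoc, D.iR_t', hρ₃t, Category.assoc]
    · rw [Functor.map_comp, Functor.map_comp, Category.assoc, Category.assoc, D.t'_bV, h2]
  · apply (AlgSp.yon S).map_injective
    refine D.hom_ext_V' (AlgSp.IsAlgSpace.yon_obj _) (AlgSp.IsAlgSpace.yon_obj _)
      ((AlgSp.yon S).map (pullback.fst (r₁ ≫ D.s') D.iV)) (D.isFOThick_fst _)
      ((AlgSp.yon S).map (ρ₃ ≫ D.s)) _ _ ?_ ?_ ?_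
    · rw [Functor.map_comp, ← Category.assoc, h1, Category.assoc]
      simp only [← Functor.map_comp]
      rw [D.iR_s', Category.assoc]
    · simp only [← Functor.map_comp]
      congr 1
      rw [← Category.assoc, ← hρ₂a, Category.assoc, D.iR_s', hρ₃s, Category.assoc]
    · rw [Functor.map_comp, Functor.map_comp, Category.assoc, Category.assoc, D.s'_bV, h2, hbR]

/-- the lifted relation is an equivalence relation. -/
theorem isEqvRel : AlgSp.IsEqvRel D.s' D.t' where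
  injective T r r' ht hs := D.injective' r r' ht hs
  equivalence T := by
    obtain ⟨e', he1, he2⟩ := D.exists_e'
    obtain ⟨i', hi1, hi2⟩ := D.exists_i'
    refine ⟨fun a => ⟨a ≫ e', by rw [Category.assoc, he1, Category.comp_id],
      by rw [Category.assoc, he2, Category.comp_id]⟩, ?_, ?_⟩
    · rintro a b ⟨r, rfl, rfl⟩
      exact ⟨r ≫ i', by rw [Category.assoc, hi1], by rw [Category.assoc, hi2]⟩
    · rintro a b c ⟨r₁, rfl, hb⟩ ⟨r₂, hb', rfl⟩
      obtain ⟨r₃, h1, h2⟩ := D.trans' r₁ r₂ (hb.trans hb'.symm)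
      exact ⟨r₃, h1, h2⟩

theorem isEtaleEqvRel : AlgSp.IsEtaleEqvRel D.s' D.t' :=
  { D.isEqvRel with
    etale_left := D.etale_s'
    etale_right := D.etale_t' }

end Setup

end Groth.Agent.Lib.H5bUFT
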