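import Mathlib
import Groth.Prelude
import Groth.Agent.Lib.Helper8UnivThick
import Groth.Agent.Lib.H5bFormalDesc
import Groth.Agent.Lib.H5bFormalChart
import Groth.Agent.S9906

/-!
Descent of universal first order thickenings along surjective etale morphisms of thickenings.
-/

set_option autoImplicit false
universe u
open CategoryTheory CategoryTheory.Limits AlgebraicGeometry Opposite

namespace Groth.Agent.Lib.Helper8UnivDescent

open Groth.Agent.Lib.Helper8FOGlue Groth.Agent.Lib.Helper8FOBaseChange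
open Groth.Agent.Lib.Helper8InfNbhd Groth.Agent.Lib.Helper8UnivThick
open Groth.Agent.Lib.H5bFormal Groth.Agent.Lib.Helper15

variable {S : Scheme.{u}}

/-- the structure map of a universal first order thickening is formally unramified. -/
theorem formallyUnramified_of_isUnivFOThick {Z Z' X : AlgSp.Sp S} (hZ' : AlgSp.IsAlgSpace Z')
    (h : Z ⟶ X) (i : Z ⟶ Z') (h' : Z' ⟶ X) (HU : AlgSp.IsUnivFOThick h i h') :
    AlgSp.IsFormallyUnramifiedMor h' := by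
  intro sq l l' h1 h2 h1' h2'
  obtain ⟨hi, hw, HUu⟩ := HU
  have hjT : AlgSp.IsFOThickMor ((AlgSp.yon S).map sq.j) := isFOThickMor_infSq_j sq
  obtain ⟨V₀, s₀, a₀, sq₀⟩ := hi.1.1 l
  have hs₀ : AlgSp.IsFOThickMor ((AlgSp.yon S).map s₀) :=
    isFOThickMor_of_isPullback i hZ' hi l _ a₀ sq₀
  obtain ⟨V₀₀, m, t', sq₀₀⟩ := hjT.1.1 ((AlgSp.yon S).map s₀)
  have hm : AlgSp.IsFOThickMor ((AlgSp.yon S).map m) :=
    isFOThickMor_of_isPullback ((AlgSp.yon S).map sq.j)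
      (AlgSp.IsAlgSpace.yon_obj _) hjT ((AlgSp.yon S).map s₀) _ t' sq₀₀
  have H1 : (AlgSp.yon S).map s₀ ≫ l = (AlgSp.yon S).map s₀ ≫ l' := by
    have hcond : (AlgSp.yon S).map m ≫ ((AlgSp.yon S).map s₀ ≫ sq.bot) =
        ((AlgSp.yon S).map m ≫ a₀) ≫ h := by
      calc (AlgSp.yon S).map m ≫ ((AlgSp.yon S).map s₀ ≫ sq.bot)
          = (AlgSp.yon S).map m ≫ (AlgSp.yon S).map s₀ ≫ l ≫ h' := by rw [h2]
        _ = (AlgSp.yon S).map m ≫ ((AlgSp.yon S).map s₀ ≫ l) ≫ h' := by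
            simp only [Category.assoc]
        _ = (AlgSp.yon S).map m ≫ (a₀ ≫ i) ≫ h' := by rw [sq₀.w]
        _ = ((AlgSp.yon S).map m ≫ a₀) ≫ i ≫ h' := by simp only [Category.assoc]
        _ = ((AlgSp.yon S).map m ≫ a₀) ≫ h := by rw [hw]
    obtain ⟨a', -, hu⟩ := HUu (AlgSp.IsAlgSpace.yon_obj V₀₀) (AlgSp.IsAlgSpace.yon_obj V₀)
      ((AlgSp.yon S).map m) ((AlgSp.yon S).map m ≫ a₀) ((AlgSp.yon S).map s₀ ≫ sq.bot) hm hcond
    have e1 : (AlgSp.yon S).map s₀ ≫ l = a' := by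
      apply hu
      refine ⟨?_, ?_⟩
      · rw [← sq₀.w, Category.assoc]
      · rw [Category.assoc, h2]
    have e2 : (AlgSp.yon S).map s₀ ≫ l' = a' := by
      apply hu
      refine ⟨?_, ?_⟩
      · calc (AlgSp.yon S).map m ≫ (AlgSp.yon S).map s₀ ≫ l'
            = ((AlgSp.yon S).map m ≫ (AlgSp.yon S).map s₀) ≫ l' := (Category.assoc _ _ _).symm
          _ = (t' ≫ (AlgSp.yon S).map sq.j) ≫ l' := by rw [sq₀₀.w]
          _ = t' ≫ sq.top := by rw [Category.assoc, h1']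
          _ = (t' ≫ (AlgSp.yon S).map sq.j) ≫ l := by rw [Category.assoc, h1]
          _ = ((AlgSp.yon S).map m ≫ (AlgSp.yon S).map s₀) ≫ l := by rw [sq₀₀.w]
          _ = (AlgSp.yon S).map m ≫ a₀ ≫ i := by rw [Category.assoc, sq₀.w]
          _ = ((AlgSp.yon S).map m ≫ a₀) ≫ i := (Category.assoc _ _ _).symm
      · rw [Category.assoc, h2']
    rw [e1, e2]
  have hcond2 : (AlgSp.yon S).map s₀ ≫ sq.bot = a₀ ≫ h := by
    calc (AlgSp.yon S).map s₀ ≫ sq.bot = (AlgSp.yon S).map s₀ ≫ l ≫ h' := by rw [h2]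
      _ = ((AlgSp.yon S).map s₀ ≫ l) ≫ h' := (Category.assoc _ _ _).symm
      _ = (a₀ ≫ i) ≫ h' := by rw [sq₀.w]
      _ = a₀ ≫ h := by rw [Category.assoc, hw]
  obtain ⟨a', -, hu⟩ := HUu (AlgSp.IsAlgSpace.yon_obj V₀) (AlgSp.IsAlgSpace.yon_obj sq.ptT')
    ((AlgSp.yon S).map s₀) a₀ sq.bot hs₀ hcond2
  have e1 : l = a' := hu _ ⟨sq₀.w.symm, h2⟩
  have e2 : l' = a' := hu _ ⟨by rw [← H1]; exact sq₀.w.symm, h2'⟩
  rw [e1, e2]

/-- existence of lifts along a closed immersion into an affine scheme with square zero ideal,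
from the existence of lifts in the infinitesimal lifting squares whose top arrow factors through
the given one. -/
theorem exists_lift_of_sqZero_affine' {F G : AlgSp.Sp S} (f : F ⟶ G)
    {V V₀ : Over S} [IsAffine V.left] (i : V₀ ⟶ V) [IsClosedImmersion i.left]
    (hi : i.left.ker * i.left.ker = ⊥)
    (top : (AlgSp.yon S).obj V₀ ⟶ F) (bot : (AlgSp.yon S).obj V ⟶ G)
    (comm : top ≫ f = (AlgSp.yon S).map i ≫ bot)
    (H : ∀ sq : AlgSp.InfSq f,
      (∃ e : (AlgSp.yon S).obj sq.ptT ⟶ (AlgSp.yon S).obj V₀, sq.top = e ≫ top) → sq.HasLift) :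
    ∃ l : (AlgSp.yon S).obj V ⟶ F, (AlgSp.yon S).map i ≫ l = top ∧ l ≫ f = bot := by
  obtain ⟨M⟩ := nonempty_model i hi
  letI := M.cr
  have e1 : (AlgSp.yon S).map M.eK.hom ≫ (AlgSp.yon S).map i =
      (AlgSp.yon S).map (Over.homMk (Spec.map (CommRingCat.ofHom (Ideal.Quotient.mk M.I))) rfl :
        Over.mk (Spec.map (CommRingCat.ofHom (Ideal.Quotient.mk M.I)) ≫ M.str) ⟶ Over.mk M.str) ≫
        (AlgSp.yon S).map M.eO.hom := by
    rw [← Functor.map_comp, ← Functor.map_comp, M.comm]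
  let sq : AlgSp.InfSq f :=
    { A := M.A, I := M.I, sq_zero := M.sq_zero, str := M.str
      top := (AlgSp.yon S).map M.eK.hom ≫ top
      bot := (AlgSp.yon S).map M.eO.hom ≫ bot
      comm := by rw [Category.assoc, comm, reassoc_of% e1] }
  obtain ⟨L, hL1, hL2⟩ := H sq ⟨(AlgSp.yon S).map M.eK.hom, rfl⟩
  have hL1' : (AlgSp.yon S).map sq.j ≫ L = (AlgSp.yon S).map M.eK.hom ≫ top := hL1
  have hL2' : L ≫ f = (AlgSp.yon S).map M.eO.hom ≫ bot := hL2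
  refine ⟨(AlgSp.yon S).map M.eO.inv ≫ L, ?_, ?_⟩
  · have h3 : i ≫ M.eO.inv = M.eK.inv ≫ sq.j := by
      rw [Iso.eq_inv_comp, ← Category.assoc, ← M.comm, Category.assoc, Iso.hom_inv_id,
        Category.comp_id]
    calc (AlgSp.yon S).map i ≫ (AlgSp.yon S).map M.eO.inv ≫ L
        = (AlgSp.yon S).map (i ≫ M.eO.inv) ≫ L := ((AlgSp.yon S).map_comp_assoc _ _ _).symm
      _ = (AlgSp.yon S).map M.eK.inv ≫ (AlgSp.yon S).map sq.j ≫ L := by
          rw [h3, Functor.map_comp_assoc]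
      _ = (AlgSp.yon S).map M.eK.inv ≫ (AlgSp.yon S).map M.eK.hom ≫ top := by rw [hL1']
      _ = (AlgSp.yon S).map (M.eK.inv ≫ M.eK.hom) ≫ top :=
          ((AlgSp.yon S).map_comp_assoc _ _ _).symm
      _ = top := by rw [Iso.inv_hom_id, CategoryTheory.Functor.map_id, Category.id_comp]
  · calc ((AlgSp.yon S).map M.eO.inv ≫ L) ≫ f
        = (AlgSp.yon S).map M.eO.inv ≫ (AlgSp.yon S).map M.eO.hom ≫ bot := by
          rw [Category.assoc, hL2']
      _ = (AlgSp.yon S).map (M.eO.inv ≫ M.eO.hom) ≫ bot :=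
          ((AlgSp.yon S).map_comp_assoc _ _ _).symm
      _ = bot := by rw [Iso.inv_hom_id, CategoryTheory.Functor.map_id, Category.id_comp]

section Descent

variable {Z Y Z' Y' X : AlgSp.Sp S} (hZsp : AlgSp.IsAlgSpace Z) (hZ'sp : AlgSp.IsAlgSpace Z')
  (e : Z ⟶ Y) (he : AlgSp.IsEtaleMor e) (hes : AlgSp.IsSurjectiveMor e) (hYX : Y ⟶ X)
  (iZ : Z ⟶ Z') (iY : Y ⟶ Y') (hiY : AlgSp.IsFOThickMor iY)
  (f' : Z' ⟶ Y') (hf' : AlgSp.IsEtaleMor f') (w : iZ ≫ f' = e ≫ iY) (hY' : Y' ⟶ X)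
  (w' : iY ≫ hY' = hYX) (HU : AlgSp.IsUnivFOThick (e ≫ hYX) iZ (f' ≫ hY'))

include hZ'sp hes hiY hf' w HU in
/-- `Y' ⟶ X` is formally unramified. -/
theorem formallyUnramified_base : AlgSp.IsFormallyUnramifiedMor hY' := by
  obtain ⟨P, pZ', hpe, hps⟩ := hZ'sp.atlas
  have hiYs : Function.Surjective (AlgSp.Points.map iY) :=
    Groth.Agent.S9906.surjective_map_of_repWith iY
      ⟨hiY.1.1, fun _ _ g fst snd sq => (hiY.1.2 g fst snd sq).2⟩
  have hfs : Function.Surjective (AlgSp.Points.map f') := by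
    intro y
    obtain ⟨y₀, rfl⟩ := hiYs y
    obtain ⟨z₀, rfl⟩ := hes y₀
    refine ⟨AlgSp.Points.map iZ z₀, ?_⟩
    rw [← AlgSp.Points.map_comp, w, AlgSp.Points.map_comp]
  have ha : AlgSp.RepWith @Etale (pZ' ≫ f') := hf' pZ' hpe
  have ha' : AlgSp.RepWith @Surjective (pZ' ≫ f') :=
    (Groth.Agent.S9906.repWith_surjective_iff _ ha.1).2 (by
      intro y
      obtain ⟨z, rfl⟩ := hfs y
      obtain ⟨p, rfl⟩ := Groth.Agent.S9906.surjective_map_of_repWith pZ' hps z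
      exact ⟨p, AlgSp.Points.map_comp _ _ _⟩)
  have hunrZ' : AlgSp.IsFormallyUnramifiedMor (f' ≫ hY') :=
    formallyUnramified_of_isUnivFOThick hZ'sp _ iZ _ HU
  have hunrP : AlgSp.IsFormallyUnramifiedMor (pZ' ≫ f' ≫ hY') :=
    isFormallyUnramifiedMor_comp pZ' _ (formallyUnramified_of_repEtale pZ' hpe) hunrZ'
  apply formallyUnramified_of_cover (pZ' ≫ f') hY' ha ha'
  intro W W₀ k hth hsq u₁ u₂ h1 h2
  apply eq_of_sqZero (pZ' ≫ f' ≫ hY') hunrP k hth hsq u₁ u₂ h1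
  simpa only [Category.assoc] using h2

include hZsp hZ'sp he hes hiY hf' w w' HU in
/-- infinitesimal lifting squares for `Y' ⟶ X` whose top arrow factors through `Y` have lifts. -/
theorem hasLift_base (sq : AlgSp.InfSq hY') (a₁ : (AlgSp.yon S).obj sq.ptT ⟶ Y)
    (htop : sq.top = a₁ ≫ iY) : sq.HasLift := by
  have hunr := formallyUnramified_base hZ'sp e hes hYX iZ iY hiY f' hf' w hY' HU
  obtain ⟨P, pZ, hpe, hps⟩ := hZsp.atlas
  have hq : AlgSp.RepWith @Etale (pZ ≫ e) := he pZ hpe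
  have hq' : AlgSp.RepWith @Surjective (pZ ≫ e) :=
    (Groth.Agent.S9906.repWith_surjective_iff _ hq.1).2 (by
      intro y
      obtain ⟨z, rfl⟩ := hes y
      obtain ⟨p, rfl⟩ := Groth.Agent.S9906.surjective_map_of_repWith pZ hps z
      exact ⟨p, AlgSp.Points.map_comp _ _ _⟩)
  obtain ⟨E, eE, fstE, sE⟩ := hq.1 a₁
  have heE : Etale eE.left := hq.2 a₁ fstE eE sE
  have heEs : Surjective eE.left := hq'.2 a₁ fstE eE sE
  obtain ⟨W, W₀, c, k, r, hWaff, hcet, hpb, hcov⟩ := exists_cover_lift sq E eE heE heEs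
  obtain ⟨hthj, hsqj⟩ := isFirstOrderThickening_j sq
  obtain ⟨hiZ, hwZ, HUu⟩ := HU
  -- the local lifts
  have hloc : ∀ m, ∃ l : (AlgSp.yon S).obj (W m) ⟶ Y',
      (AlgSp.yon S).map (k m) ≫ l = (AlgSp.yon S).map (r m ≫ eE) ≫ sq.top ∧
      l ≫ hY' = (AlgSp.yon S).map (c m) ≫ sq.bot := by
    intro m
    haveI := hWaff m
    haveI hkcl : IsClosedImmersion (k m).left :=
      MorphismProperty.of_isPullback (P := @IsClosedImmersion) (hpb m).flip hthj.1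
    have hksq : (k m).left.ker * (k m).left.ker = ⊥ :=
      sqZero_baseChange (k m).left sq.j.left (r m ≫ eE).left (c m).left hthj hsqj (hpb m)
    have hkFO : AlgSp.IsFOThickMor ((AlgSp.yon S).map (k m)) :=
      isFOThickMor_yon_map_of_sqZero (k m) hksq
    have hw : (r m ≫ eE) ≫ sq.j = k m ≫ c m := Over.OverMorphism.ext (hpb m).w.symm
    have hfq : ((AlgSp.yon S).map (r m) ≫ fstE ≫ pZ) ≫ e =
        (AlgSp.yon S).map (r m ≫ eE) ≫ a₁ := by
      calc ((AlgSp.yon S).map (r m) ≫ fstE ≫ pZ) ≫ e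
          = (AlgSp.yon S).map (r m) ≫ fstE ≫ pZ ≫ e := by simp only [Category.assoc]
        _ = (AlgSp.yon S).map (r m) ≫ (AlgSp.yon S).map eE ≫ a₁ := by rw [sE.w]
        _ = (AlgSp.yon S).map (r m ≫ eE) ≫ a₁ := ((AlgSp.yon S).map_comp_assoc _ _ _).symm
    have hcompat : (AlgSp.yon S).map (k m) ≫ ((AlgSp.yon S).map (c m) ≫ sq.bot) =
        ((AlgSp.yon S).map (r m) ≫ fstE ≫ pZ) ≫ e ≫ hYX := by
      calc (AlgSp.yon S).map (k m) ≫ ((AlgSp.yon S).map (c m) ≫ sq.bot)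
          = (AlgSp.yon S).map (k m ≫ c m) ≫ sq.bot := ((AlgSp.yon S).map_comp_assoc _ _ _).symm
        _ = (AlgSp.yon S).map ((r m ≫ eE) ≫ sq.j) ≫ sq.bot := by rw [hw]
        _ = (AlgSp.yon S).map (r m ≫ eE) ≫ (AlgSp.yon S).map sq.j ≫ sq.bot :=
            (AlgSp.yon S).map_comp_assoc _ _ _
        _ = (AlgSp.yon S).map (r m ≫ eE) ≫ sq.top ≫ hY' := by rw [sq.comm]
        _ = (AlgSp.yon S).map (r m ≫ eE) ≫ a₁ ≫ hYX := by
            rw [htop, Category.assoc, w']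
        _ = (((AlgSp.yon S).map (r m) ≫ fstE ≫ pZ) ≫ e) ≫ hYX := by
            rw [hfq, Category.assoc]
        _ = ((AlgSp.yon S).map (r m) ≫ fstE ≫ pZ) ≫ e ≫ hYX := Category.assoc _ _ _
    obtain ⟨m', ⟨hm1, hm2⟩, -⟩ := HUu (AlgSp.IsAlgSpace.yon_obj (W₀ m))
      (AlgSp.IsAlgSpace.yon_obj (W m)) ((AlgSp.yon S).map (k m))
      ((AlgSp.yon S).map (r m) ≫ fstE ≫ pZ) ((AlgSp.yon S).map (c m) ≫ sq.bot) hkFO hcompat
    refine ⟨m' ≫ f', ?_, ?_⟩
    · calc (AlgSp.yon S).map (k m) ≫ m' ≫ f'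
          = ((AlgSp.yon S).map (k m) ≫ m') ≫ f' := (Category.assoc _ _ _).symm
        _ = (((AlgSp.yon S).map (r m) ≫ fstE ≫ pZ) ≫ iZ) ≫ f' := by rw [hm1]
        _ = ((AlgSp.yon S).map (r m) ≫ fstE ≫ pZ) ≫ e ≫ iY := by
            rw [Category.assoc, w]
        _ = (((AlgSp.yon S).map (r m) ≫ fstE ≫ pZ) ≫ e) ≫ iY := (Category.assoc _ _ _).symm
        _ = (AlgSp.yon S).map (r m ≫ eE) ≫ sq.top := by
            rw [hfq, htop, Category.assoc]
    · rw [Category.assoc]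
      exact hm2
  choose l hl1 hl2 using hloc
  exact exists_lift_of_cover hY' hunr sq.j hthj hsqj sq.top sq.bot W W₀ c k
    (fun m => r m ≫ eE) hpb
    (fun m => by
      haveI := hcet m
      exact ⟨inferInstance, inferInstance⟩)
    hcov l hl1 hl2

include hZsp hZ'sp he hes hiY hf' w w' HU in
/-- descent of the universal property. -/
theorem existsUnique_base {T T' : AlgSp.Sp S} (hT' : AlgSp.IsAlgSpace T') (j : T ⟶ T')
    (a : T ⟶ Y) (b : T' ⟶ X) (hj : AlgSp.IsFOThickMor j) (hjb : j ≫ b = a ≫ hYX) :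
    ∃! a' : T' ⟶ Y', j ≫ a' = a ≫ iY ∧ a' ≫ hY' = b := by
  have hunr := formallyUnramified_base hZ'sp e hes hYX iZ iY hiY f' hf' w hY' HU
  apply existsUnique_lift (f := hY') (j := j) (a := a ≫ iY) (b := b) hT'
    (affine_unique_of_unramified hunr hj)
  intro V ch hV hch
  haveI := hV
  obtain ⟨V₀, s₀, f₀, sq₀⟩ := hj.1.1 ch
  have hthick : AlgSp.thick s₀.left := hj.1.2 ch f₀ s₀ sq₀
  have hsq : s₀.left.ker * s₀.left.ker = ⊥ := hj.2 ch f₀ s₀ hV hch sq₀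
  haveI : IsClosedImmersion s₀.left := hthick.1
  have hcomm : (f₀ ≫ a ≫ iY) ≫ hY' = (AlgSp.yon S).map s₀ ≫ ch ≫ b := by
    calc (f₀ ≫ a ≫ iY) ≫ hY' = f₀ ≫ a ≫ iY ≫ hY' := by simp only [Category.assoc]
      _ = f₀ ≫ a ≫ hYX := by rw [w']
      _ = f₀ ≫ j ≫ b := by rw [hjb]
      _ = (f₀ ≫ j) ≫ b := (Category.assoc _ _ _).symm
      _ = ((AlgSp.yon S).map s₀ ≫ ch) ≫ b := by rw [sq₀.w]
      _ = (AlgSp.yon S).map s₀ ≫ ch ≫ b := Category.assoc _ _ _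
  obtain ⟨l, h1, h2⟩ := exists_lift_of_sqZero_affine' hY' s₀ hsq (f₀ ≫ a ≫ iY) (ch ≫ b) hcomm
    (by
      rintro sq ⟨e₀, he₀⟩
      refine hasLift_base hZsp hZ'sp e he hes hYX iZ iY hiY f' hf' w hY' w' HU sq
        (e₀ ≫ f₀ ≫ a) ?_
      rw [he₀]
      simp only [Category.assoc])
  exact ⟨l, (isLiftFor_iff_of_isPullback sq₀ l).2 ⟨h1, h2⟩⟩

end Descent

end Groth.Agent.Lib.Helper8UnivDescent
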