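import Mathlib
import Groth.Agent.Lib.H5bUFTC
import Groth.Agent.Lib.H5bGpdOpen
import Groth.Agent.Lib.H5bAtlasDesc
import Groth.Agent.Lib.Helper8FOBaseChange
import Groth.Agent.Lib.Helper12LocPCases
import Groth.Agent.S9868
import Groth.Agent.S9869
import Groth.Agent.S9906
import Groth.Agent.S9947
import Groth.Agent.S10505
import Groth.Agent.S10605
import Groth.Agent.S10633
import Groth.Agent.S13210

/-!
# Universal first order thickenings of algebraic spaces: the quotient (helper5)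

For chart data `D : Setup S`: the quotient `Z' = V'/R'`, the thickening `Z ⟶ Z'`, the map
`Z' ⟶ X`, and the universal property (`Setup.exists_univ`).
-/

set_option autoImplicit false
set_option linter.style.haveILetI false
universe u

namespace Groth.Agent.Lib.H5bUFT

open CategoryTheory CategoryTheory.Limits AlgebraicGeometry Opposite MorphismProperty
open AlgSp Groth.Agent.S13210 Groth.Agent.Lib.Helper9

namespace Setup

variable {S : Scheme.{u}} (D : Setup S)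

/-- the quotient `V'/R'`. -/
noncomputable def Z' : AlgSp.Sp S := QuotSh.quot Scheme.fppfPrecoverage D.s' D.t'

/-- the quotient map. -/
noncomputable def π' : (AlgSp.yon S).obj D.V' ⟶ D.Z' := Groth.Agent.Lib.H5bGpdOpen.qπ D.s' D.t'

lemma isAlgSpace_Z' : AlgSp.IsAlgSpace D.Z' := Groth.Agent.S9868.result S D.s' D.t' D.isEtaleEqvRel

lemma pres : AlgSp.IsPresentation D.s' D.t' D.π' :=
  Groth.Agent.S9869.result S D.s' D.t' D.isEtaleEqvRel D.isAlgSpace_Z'

lemma π'_condition : (AlgSp.yon S).map D.s' ≫ D.π' = (AlgSp.yon S).map D.t' ≫ D.π' :=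
  Groth.Agent.Lib.H5bGpdOpen.qπ_condition _ _

instance epi_p : Epi D.p := Groth.Agent.Lib.H5bAtlasDesc.epi_of_atlas D.p D.hp D.hps

lemma exists_iZ : ∃ iZ : D.Z.obj ⟶ D.Z', D.p ≫ iZ = (AlgSp.yon S).map D.iV ≫ D.π' := by
  refine Groth.Agent.Lib.H5bAtlasDesc.exists_desc_of_atlas D.p D.hp D.hps _
    (fun {Q} g₁ g₂ hg => ?_)
  obtain ⟨l, hl1, hl2⟩ := D.hk.exists_lift g₁ g₂ hg
  rw [← hl1, ← hl2]
  simp only [Category.assoc]
  rw [← Functor.map_comp_assoc, ← Functor.map_comp_assoc, ← D.iR_t', ← D.iR_s',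
    Functor.map_comp_assoc, Functor.map_comp_assoc, D.π'_condition]

/-- the thickening `Z ⟶ Z'`. -/
noncomputable def iZ : D.Z.obj ⟶ D.Z' := D.exists_iZ.choose

lemma p_iZ : D.p ≫ D.iZ = (AlgSp.yon S).map D.iV ≫ D.π' := D.exists_iZ.choose_spec

lemma exists_hZ' : ∃ hZ' : D.Z' ⟶ D.X.obj, D.π' ≫ hZ' = D.bV := by
  have hc : (AlgSp.yon S).map D.s' ≫ D.bV = (AlgSp.yon S).map D.t' ≫ D.bV := by
    rw [D.s'_bV, D.t'_bV]
  obtain ⟨l, hl⟩ := Cofork.IsColimit.desc' (Groth.Agent.Lib.H5bGpdOpen.isColimit_qπ D.s' D.t')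
    D.bV hc
  exact ⟨l, hl⟩

/-- the structure map `Z' ⟶ X`. -/
noncomputable def hZ' : D.Z' ⟶ D.X.obj := D.exists_hZ'.choose

lemma π'_hZ' : D.π' ≫ D.hZ' = D.bV := D.exists_hZ'.choose_spec

lemma iZ_hZ' : D.iZ ≫ D.hZ' = D.h.hom := by
  rw [← cancel_epi D.p, ← Category.assoc, D.p_iZ, Category.assoc, D.π'_hZ', D.iV_bV, D.aV_eq]

instance mono_yon_iV : Mono ((AlgSp.yon S).map D.iV) := inferInstance

/-- `h_V = Z ×_{Z'} h_{V'}`. -/
lemma isPullback_iZ : IsPullback D.p ((AlgSp.yon S).map D.iV) D.iZ D.π' := by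
  refine isPullback_of_yon D.p_iZ (fun T z x hzx => ?_)
  obtain ⟨x₀, rfl⟩ := (AlgSp.yon S).map_surjective x
  obtain ⟨E, e, v₁', sqE⟩ := D.hp.1 z
  haveI : Etale e.left := D.hp.2 _ _ e sqE
  haveI : Surjective e.left := D.hps.2 _ _ e sqE
  obtain ⟨v₁, rfl⟩ := (AlgSp.yon S).map_surjective v₁'
  have h1 : (AlgSp.yon S).map (v₁ ≫ D.iV) ≫ D.π' = (AlgSp.yon S).map (e ≫ x₀) ≫ D.π' := by
    rw [Functor.map_comp, Category.assoc, ← D.p_iZ, ← Category.assoc, sqE.w, Category.assoc, hzx,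
      Functor.map_comp, Category.assoc]
  obtain ⟨r'', hr1, hr2⟩ := D.pres.isPullback.exists_lift _ _ h1
  obtain ⟨r', rfl⟩ := (AlgSp.yon S).map_surjective r''
  have hr1' : r' ≫ D.t' = v₁ ≫ D.iV := by
    apply (AlgSp.yon S).map_injective
    rw [Functor.map_comp]
    exact hr1
  have hr2' : r' ≫ D.s' = e ≫ x₀ := by
    apply (AlgSp.yon S).map_injective
    rw [Functor.map_comp]
    exact hr2
  obtain ⟨r, hra, hrb⟩ := D.isPullback_over_t'.exists_lift r' v₁ hr1'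
  have hw : (r ≫ D.s) ≫ D.iV = e ≫ x₀ := by
    rw [Category.assoc, ← D.iR_s', ← Category.assoc, hra, hr2']
  haveI : Epi ((AlgSp.yon S).map e) := Groth.Agent.Lib.H5bQuotOpen.epi_yon_map e
  have hfac : pullback.lift ((AlgSp.yon S).map e) ((AlgSp.yon S).map (r ≫ D.s)) (by
      rw [← Functor.map_comp, ← Functor.map_comp, hw]) ≫
      pullback.fst ((AlgSp.yon S).map x₀) ((AlgSp.yon S).map D.iV) = (AlgSp.yon S).map e :=
    pullback.lift_fst _ _ _
  haveI : Epi (pullback.fst ((AlgSp.yon S).map x₀) ((AlgSp.yon S).map D.iV)) :=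
    epi_of_epi_fac hfac
  haveI : IsIso (pullback.fst ((AlgSp.yon S).map x₀) ((AlgSp.yon S).map D.iV)) :=
    ToposLike.isIso_of_mono_of_epi _ inferInstance inferInstance
  have ha2 : (inv (pullback.fst ((AlgSp.yon S).map x₀) ((AlgSp.yon S).map D.iV)) ≫
      pullback.snd _ _) ≫ (AlgSp.yon S).map D.iV = (AlgSp.yon S).map x₀ := by
    rw [Category.assoc, ← pullback.condition, IsIso.inv_hom_id_assoc]
  have hea : (AlgSp.yon S).map e ≫ (inv (pullback.fst ((AlgSp.yon S).map x₀)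
      ((AlgSp.yon S).map D.iV)) ≫ pullback.snd _ _) = (AlgSp.yon S).map (r ≫ D.s) := by
    rw [← cancel_mono ((AlgSp.yon S).map D.iV), Category.assoc, ha2, ← Functor.map_comp,
      ← Functor.map_comp, hw]
  have ha1 : (inv (pullback.fst ((AlgSp.yon S).map x₀) ((AlgSp.yon S).map D.iV)) ≫
      pullback.snd _ _) ≫ D.p = z := by
    rw [← cancel_epi ((AlgSp.yon S).map e), ← Category.assoc, hea, Functor.map_comp,
      Category.assoc, D.s_p, ← Category.assoc, ← Functor.map_comp, hrb, sqE.w]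
  refine ⟨_, ⟨ha1, ha2⟩, fun a' ha' => ?_⟩
  rw [← cancel_mono ((AlgSp.yon S).map D.iV), ha'.2, ha2]

lemma isFpqcCover_π' : AlgSp.IsFpqcCover (fun _ : PUnit.{u + 1} => (AlgSp.yon S).obj D.V')
    (fun _ => D.π') := by
  have hgood := Groth.Agent.Lib.Helper12.LocPCases.good_flat.{u}
  have hgood' := Groth.Agent.Lib.Helper12.LocPCases.good_lfp.{u}
  refine Groth.Agent.S10505.result (⟨D.Z', D.isAlgSpace_Z'⟩ : AlgSp.Space S)
    (fun _ : PUnit.{u + 1} => (AlgSp.ofScheme S).obj D.V')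
    (fun _ => ObjectProperty.homMk D.π') ⟨fun _ => ⟨?_, ?_⟩, ?_⟩
  · exact Groth.Agent.S9947.locP_of_repWith_etale _ hgood.hEt D.π' D.pres.etale
  · exact Groth.Agent.S9947.locP_of_repWith_etale _ hgood'.hEt D.π' D.pres.etale
  · intro x
    exact ⟨PUnit.unit, Groth.Agent.S9906.surjective_map_of_repWith D.π' D.pres.surjective x⟩

lemma isThick_iZ : AlgSp.IsThickMor D.iZ :=
  ((Groth.Agent.S10605.result (S := S)) (fun _ : PUnit.{u + 1} => (AlgSp.yon S).obj D.V')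
    (fun _ => D.π') D.isAlgSpace_Z' (fun _ => AlgSp.IsAlgSpace.yon_obj D.V') D.isFpqcCover_π'
    D.iZ D.Z.property (fun _ => (AlgSp.yon S).obj D.V) (fun _ => (AlgSp.yon S).map D.iV)
    (fun _ => D.p) (fun _ => AlgSp.IsAlgSpace.yon_obj D.V) (fun _ => D.isPullback_iZ)).2
    (fun _ => D.isFOThick_iV.1)

open Groth.Agent.Lib.Helper8FOGlue Groth.Agent.Lib.Helper8FOBaseChange in
lemma affLocT_iZ : AlgSp.AffLocT AlgSp.sqZero D.iZ := by
  intro W W₀ b fst snd hW hb sq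
  haveI := hW
  haveI : IsClosedImmersion snd.left := (D.isThick_iZ.2 b fst snd sq).1
  show snd.left.ker * snd.left.ker = ⊥
  apply sqZero_of_ker_appTop
  rw [eq_bot_iff, Ideal.mul_le]
  intro a ha c hc
  rw [Ideal.mem_bot]
  rw [RingHom.mem_ker] at ha hc
  apply eq_zero_of_flat_cover
  intro w
  obtain ⟨E, e, x', sqE⟩ := D.pres.etale.1 b
  haveI : Etale e.left := D.pres.etale.2 _ _ e sqE
  haveI : Surjective e.left := D.pres.surjective.2 _ _ e sqE
  obtain ⟨x₀, rfl⟩ := (AlgSp.yon S).map_surjective x'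
  obtain ⟨y₀, rfl⟩ := e.left.surjective w
  obtain ⟨E₁, hE₁aff, hyE₁, -⟩ :=
    exists_isAffineOpen_mem_and_subset (X := E.left) (x := y₀) (U := ⊤) trivial
  haveI : IsAffine (opOb E E₁).left := hE₁aff
  -- the pullback of `iV` along `E₁ ⟶ V'`
  have sqt : IsPullback (pullback.fst (opι E E₁ ≫ x₀) D.iV).left
      (pullback.snd (opι E E₁ ≫ x₀) D.iV).left (opι E E₁ ≫ x₀).left D.iV.left :=
    (IsPullback.of_hasPullback (opι E E₁ ≫ x₀) D.iV).map (Over.forget S)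
  have htsq : (pullback.fst (opι E E₁ ≫ x₀) D.iV).left.ker *
      (pullback.fst (opι E E₁ ≫ x₀) D.iV).left.ker = ⊥ :=
    Groth.Agent.Lib.H5bFormal.sqZero_baseChange _ _ _ _ D.HV.1.1 D.HV.1.2 sqt
  haveI : IsClosedImmersion D.iV.left := D.HV.1.1.1
  haveI : IsClosedImmersion (pullback.fst (opι E E₁ ≫ x₀) D.iV).left :=
    MorphismProperty.of_isPullback sqt.flip inferInstance
  have htK := ker_appTop_mul_self (pullback.fst (opι E E₁ ≫ x₀) D.iV).left htsq
  -- the map to `W₀`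
  have hw₂ : ((AlgSp.yon S).map (pullback.snd (opι E E₁ ≫ x₀) D.iV) ≫ D.p) ≫ D.iZ =
      (AlgSp.yon S).map (pullback.fst (opι E E₁ ≫ x₀) D.iV ≫ opι E E₁ ≫ e) ≫ b := by
    calc ((AlgSp.yon S).map (pullback.snd (opι E E₁ ≫ x₀) D.iV) ≫ D.p) ≫ D.iZ
        = (AlgSp.yon S).map (pullback.snd (opι E E₁ ≫ x₀) D.iV ≫ D.iV) ≫ D.π' := by
          rw [Category.assoc, D.p_iZ, Functor.map_comp, Category.assoc]
      _ = (AlgSp.yon S).map (pullback.fst (opι E E₁ ≫ x₀) D.iV ≫ opι E E₁) ≫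
            (AlgSp.yon S).map x₀ ≫ D.π' := by
          rw [← pullback.condition, ← Category.assoc, Functor.map_comp, Category.assoc]
      _ = (AlgSp.yon S).map (pullback.fst (opι E E₁ ≫ x₀) D.iV ≫ opι E E₁ ≫ e) ≫ b := by
          rw [sqE.w, ← Category.assoc, ← Functor.map_comp, Category.assoc]
  obtain ⟨m', hm'⟩ := (AlgSp.yon S).map_surjective (sq.lift _ _ hw₂)
  have hcomm' : m' ≫ snd = pullback.fst (opι E E₁ ≫ x₀) D.iV ≫ opι E E₁ ≫ e :=
    (AlgSp.yon S).map_injective (by rw [Functor.map_comp, hm', sq.lift_snd])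
  have hcommL : m'.left ≫ snd.left =
      (pullback.fst (opι E E₁ ≫ x₀) D.iV).left ≫ E₁.ι ≫ e.left :=
    congrArg (fun q => q.left) hcomm'
  refine ⟨(opOb E E₁).left, E₁.ι ≫ e.left, inferInstance, ⟨y₀, hyE₁⟩, rfl, ?_⟩
  have hka : ∀ a' : Γ(W.left, ⊤), snd.left.appTop.hom a' = 0 →
      (E₁.ι ≫ e.left).appTop.hom a' ∈
        RingHom.ker (pullback.fst (opι E E₁ ≫ x₀) D.iV).left.appTop.hom := by
    intro a' ha'
    rw [RingHom.mem_ker]
    have h6 : ((pullback.fst (opι E E₁ ≫ x₀) D.iV).left ≫ E₁.ι ≫ e.left).appTop.hom a' = 0 := by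
      rw [← hcommL, Scheme.Hom.comp_appTop, CommRingCat.hom_comp, RingHom.comp_apply, ha',
        map_zero]
    rwa [Scheme.Hom.comp_appTop, CommRingCat.hom_comp, RingHom.comp_apply] at h6
  have h7 := Ideal.mul_mem_mul (hka a ha) (hka c hc)
  rw [htK, Ideal.mem_bot] at h7
  rw [map_mul]
  exact h7

lemma isFOThick_iZ : AlgSp.IsFOThickMor D.iZ := ⟨D.isThick_iZ, D.affLocT_iZ⟩

/-- **Existence of the universal first order thickening**, from chart data. -/
theorem exists_univ : ∃ (Z' : AlgSp.Space S) (i : D.Z ⟶ Z') (h' : Z' ⟶ D.X),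
    AlgSp.IsUnivFOThick D.h.hom i.hom h'.hom := by
  refine ⟨⟨D.Z', D.isAlgSpace_Z'⟩, ObjectProperty.homMk D.iZ, ObjectProperty.homMk D.hZ', ?_⟩
  have HU : AlgSp.IsUnivFOThick (D.p ≫ D.h.hom) ((AlgSp.yon S).map D.iV) (D.π' ≫ D.hZ') := by
    rw [← D.aV_eq, D.π'_hZ']
    exact D.univV
  exact Groth.Agent.S10633.result (Z := (AlgSp.ofScheme S).obj D.V) (Y := D.Z)
    (Z' := (AlgSp.ofScheme S).obj D.V') (Y' := ⟨D.Z', D.isAlgSpace_Z'⟩) (X := D.X)
    (ObjectProperty.homMk D.p) (Groth.Agent.S10695.isEtaleMor_of_repWith' D.p D.hp)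
    (Groth.Agent.S9906.surjective_map_of_repWith D.p D.hps) D.h
    ((AlgSp.ofScheme S).map D.iV) (ObjectProperty.homMk D.iZ) D.isFOThick_iV D.isFOThick_iZ
    (ObjectProperty.homMk D.π') (Groth.Agent.S10695.isEtaleMor_of_repWith' D.π' D.pres.etale)
    (ObjectProperty.hom_ext _ D.p_iZ.symm) (ObjectProperty.homMk D.hZ')
    (ObjectProperty.hom_ext _ D.iZ_hZ') HU

end Setup

end Groth.Agent.Lib.H5bUFT
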