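import Mathlib
import Groth.Prelude.Def_W4bk4grassmannianPl
import Groth.Agent.Lib.H5bEchelon
import Groth.Agent.S11268

/-!
# Factoriality of Schubert cones (helper5, second run)

* combinatorics of Schubert divisors: `lower`, `lower_mem_divisors`, `divisors_subsingleton_iff`;
* the class of `X_τ` in `S/J(τ)` is prime iff `τ` has at most one Schubert divisor;
* `S/J(τ)` is factorial iff the class of `X_τ` is prime (Nagata's criterion and the echelon chart).
-/

set_option autoImplicit false

universe u

noncomputable section

open MvPolynomial W4bk4grassmannian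

namespace Groth.Agent.Lib.H5b

section Comb

variable {d n : ℕ}

theorem Idx.val_le (a : Idx d n) (t : Fin d) : t.val ≤ (a.1 t).val :=
  Groth.Agent.S11268.le_val d n a t.val t.isLt

/-- Lowering the `k`-th entry of `τ` by one. -/
def lower (τ : Idx d n) (k : Fin d) (h1 : 1 ≤ (τ.1 k).val)
    (h2 : ∀ k' : Fin d, k' < k → (τ.1 k').val + 1 < (τ.1 k).val) : Idx d n :=
  ⟨Function.update τ.1 k ⟨(τ.1 k).val - 1, by have := (τ.1 k).isLt; omega⟩, by
    intro a b hab
    by_cases ha : a = k
    · have hb : b ≠ k := by
        rintro rfl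
        rw [ha] at hab
        exact lt_irrefl _ hab
      rw [ha, Function.update_self, Function.update_of_ne hb, Fin.lt_def]
      have := Fin.lt_def.mp (τ.2 (ha ▸ hab))
      simp only
      omega
    · by_cases hb : b = k
      · rw [hb, Function.update_self, Function.update_of_ne ha, Fin.lt_def]
        have := h2 a (hb ▸ hab)
        simp only
        omega
      · rw [Function.update_of_ne ha, Function.update_of_ne hb]
        exact τ.2 hab⟩

theorem lower_apply_self (τ : Idx d n) (k : Fin d) (h1 : 1 ≤ (τ.1 k).val)
    (h2 : ∀ k' : Fin d, k' < k → (τ.1 k').val + 1 < (τ.1 k).val) :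
    ((lower τ k h1 h2).1 k).val = (τ.1 k).val - 1 := by
  simp [lower]

theorem lower_apply_ne (τ : Idx d n) (k : Fin d) (h1 : 1 ≤ (τ.1 k).val)
    (h2 : ∀ k' : Fin d, k' < k → (τ.1 k').val + 1 < (τ.1 k).val) (t : Fin d) (ht : t ≠ k) :
    (lower τ k h1 h2).1 t = τ.1 t := by
  simp [lower, Function.update_of_ne ht]

theorem lower_mem_divisors (τ : Idx d n) (k : Fin d) (h1 : 1 ≤ (τ.1 k).val)
    (h2 : ∀ k' : Fin d, k' < k → (τ.1 k').val + 1 < (τ.1 k).val) :
    lower τ k h1 h2 ∈ divisors τ := by
  refine ⟨?_, ?_⟩
  · rw [lt_iff_le_not_ge]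
    constructor
    · intro t
      by_cases ht : t = k
      · rw [ht, Fin.le_def, lower_apply_self]
        omega
      · rw [lower_apply_ne τ k h1 h2 t ht]
    · intro hcon
      have := hcon k
      rw [Fin.le_def, lower_apply_self] at this
      omega
  · have hge := Idx.val_le (lower τ k h1 h2) k
    rw [lower_apply_self] at hge
    unfold codeg
    rw [← Finset.add_sum_erase Finset.univ _ (Finset.mem_univ k),
      ← Finset.add_sum_erase Finset.univ (fun t => (τ.1 t).val - t.val) (Finset.mem_univ k)]
    have herase : ∑ x ∈ Finset.univ.erase k, (((lower τ k h1 h2).1 x).val - x.val) =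
        ∑ x ∈ Finset.univ.erase k, ((τ.1 x).val - x.val) := by
      refine Finset.sum_congr rfl (fun x hx => ?_)
      rw [lower_apply_ne τ k h1 h2 x (Finset.ne_of_mem_erase hx)]
    rw [herase, lower_apply_self]
    omega

/-- A Schubert divisor of `τ` is obtained by lowering exactly one entry by one. -/
theorem exists_of_mem_divisors (τ φ : Idx d n) (hφ : φ ∈ divisors τ) :
    ∃ k : Fin d, (φ.1 k).val + 1 = (τ.1 k).val ∧ ∀ t, t ≠ k → φ.1 t = τ.1 t := by
  obtain ⟨hlt, hcodeg⟩ := hφ
  have hle : ∀ t, (φ.1 t).val ≤ (τ.1 t).val := fun t => Fin.le_def.mp (hlt.le t)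
  unfold codeg at hcodeg
  have hsum : ∑ t : Fin d, ((τ.1 t).val - (φ.1 t).val) = 1 := by
    have h1 : ∑ t : Fin d, ((τ.1 t).val - t.val) =
        ∑ t : Fin d, ((τ.1 t).val - (φ.1 t).val) + ∑ t : Fin d, ((φ.1 t).val - t.val) := by
      rw [← Finset.sum_add_distrib]
      refine Finset.sum_congr rfl (fun t _ => ?_)
      have := Idx.val_le φ t
      have := hle t
      omega
    omega
  have hex : ∃ k : Fin d, (τ.1 k).val - (φ.1 k).val ≠ 0 := by
    by_contra hcon
    push Not at hcon
    rw [Finset.sum_eq_zero (fun t _ => hcon t)] at hsum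
    exact zero_ne_one hsum
  obtain ⟨k, hk⟩ := hex
  rw [← Finset.add_sum_erase Finset.univ _ (Finset.mem_univ k)] at hsum
  have hk1 : (τ.1 k).val - (φ.1 k).val = 1 := by omega
  have hrest : ∑ x ∈ Finset.univ.erase k, ((τ.1 x).val - (φ.1 x).val) = 0 := by omega
  refine ⟨k, ?_, ?_⟩
  · have := hle k
    omega
  · intro t ht
    have h0 := (Finset.sum_eq_zero_iff.mp hrest) t (Finset.mem_erase.mpr ⟨ht, Finset.mem_univ t⟩)
    have := hle t
    apply Fin.ext
    omega

/-- `τ` has at most one Schubert divisor iff it is an initial segment followed by a single run. -/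
theorem divisors_subsingleton_iff (τ : Idx d n) :
    (divisors τ).Subsingleton ↔
      ∃ s : ℕ, (∀ t : Fin d, t.val < s → (τ.1 t).val = t.val) ∧
        ∀ t t' : Fin d, s ≤ t.val → t.val + 1 = t'.val → (τ.1 t).val + 1 = (τ.1 t').val := by
  classical
  constructor
  · intro hsub
    by_cases hall : ∀ t : Fin d, (τ.1 t).val = t.val
    · refine ⟨d, fun t _ => hall t, fun t _ ht _ => ?_⟩
      have := t.isLt
      omega
    · push Not at hall
      have hex : ∃ m : ℕ, ∃ h : m < d, (τ.1 ⟨m, h⟩).val ≠ m := by
        obtain ⟨t, ht⟩ := hall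
        exact ⟨t.val, t.isLt, ht⟩
      set s := Nat.find hex with hs
      obtain ⟨hsd, hsne⟩ := Nat.find_spec hex
      have hmin : ∀ t : Fin d, t.val < s → (τ.1 t).val = t.val := by
        intro t ht
        by_contra hne
        exact Nat.find_min hex ht ⟨t.isLt, hne⟩
      let k0 : Fin d := ⟨s, hsd⟩
      have hk0 : s < (τ.1 k0).val := by
        have := Idx.val_le τ k0
        have h2 : (τ.1 k0).val ≠ s := hsne
        change s ≤ (τ.1 k0).val at this
        omega
      have h1 : 1 ≤ (τ.1 k0).val := by omega
      have h2 : ∀ k' : Fin d, k' < k0 → (τ.1 k').val + 1 < (τ.1 k0).val := by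
        intro k' hk'
        have hk'' : k'.val < s := hk'
        rw [hmin k' hk'']
        omega
      have hφ0 := lower_mem_divisors τ k0 h1 h2
      refine ⟨s, hmin, ?_⟩
      intro t t' hst htt'
      by_contra hne
      have hlt : t < t' := by
        rw [Fin.lt_def]
        omega
      have hmono := Fin.lt_def.mp (τ.2 hlt)
      have h1' : 1 ≤ (τ.1 t').val := by omega
      have h2' : ∀ k' : Fin d, k' < t' → (τ.1 k').val + 1 < (τ.1 t').val := by
        intro k' hk'
        have hk't : k' ≤ t := by
          rw [Fin.le_def]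
          have := Fin.lt_def.mp hk'
          omega
        have := Fin.le_def.mp (τ.2.monotone hk't)
        omega
      have hφ' := lower_mem_divisors τ t' h1' h2'
      have heq := hsub hφ0 hφ'
      have hne' : t' ≠ k0 := by
        intro h
        have : t'.val = s := congrArg Fin.val h
        omega
      have e1 := lower_apply_ne τ k0 h1 h2 t' hne'
      have e2 := lower_apply_self τ t' h1' h2'
      rw [← heq, e1] at e2
      omega
  · rintro ⟨s, hs1, hs2⟩
    have key : ∀ φ ∈ divisors τ, ∀ t : Fin d,
        (φ.1 t).val = if t.val = s then (τ.1 t).val - 1 else (τ.1 t).val := by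
      intro φ hφ t
      obtain ⟨k, hk1, hk2⟩ := exists_of_mem_divisors τ φ hφ
      have hks : k.val = s := by
        rcases lt_trichotomy k.val s with h | h | h
        · exfalso
          have := hs1 k h
          have := Idx.val_le φ k
          omega
        · exact h
        · exfalso
          have hk0 : 0 < k.val := by omega
          let t0 : Fin d := ⟨k.val - 1, by have := k.isLt; omega⟩
          have ht0k : t0 ≠ k := by
            intro h'
            have : t0.val = k.val := congrArg Fin.val h'
            simp only [t0] at this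
            omega
          have e1 := hk2 t0 ht0k
          have e2 := hs2 t0 k (by simp only [t0]; omega) (by simp only [t0]; omega)
          have hlt : t0 < k := by
            rw [Fin.lt_def]
            simp only [t0]
            omega
          have := Fin.lt_def.mp (φ.2 hlt)
          rw [e1] at this
          omega
      by_cases hts : t.val = s
      · have htk : t = k := Fin.ext (hts.trans hks.symm)
        rw [if_pos hts, htk]
        omega
      · have htk : t ≠ k := fun h => hts (by rw [h, hks])
        rw [if_neg hts, hk2 t htk]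
    intro φ1 h1 φ2 h2
    apply Subtype.ext
    funext t
    apply Fin.ext
    rw [key φ1 h1 t, key φ2 h2 t]

end Comb

section Alg

variable (K : Type u) [Field K] [Infinite K] {d n : ℕ}

/-- The echelon chart on the coordinate ring of the Schubert cone. -/
def echQuot (w : Idx d n) : (PlRing K d n ⧸ schubertVanishing K d n w) →ₐ[K] EchRing K w :=
  Ideal.Quotient.liftₐ (schubertVanishing K d n w) (echMap K w)
    (fun a ha => echMap_eq_zero_of_mem K w a ha)

theorem echQuot_mk (w : Idx d n) (f : PlRing K d n) :
    echQuot K w (Ideal.Quotient.mk (schubertVanishing K d n w) f) = echMap K w f := rfl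

theorem echQuot_injective (hd : 0 < d) (hdn : d < n) (w : Idx d n) :
    Function.Injective (echQuot K w) := by
  have h : Function.Injective (Ideal.Quotient.lift (schubertVanishing K d n w)
      (echMap K w).toRingHom (fun a ha => echMap_eq_zero_of_mem K w a ha)) :=
    (Ideal.injective_lift_iff _).mpr (ker_echMap K hd hdn w)
  exact h

theorem echQuot_mk_X (hd : 0 < d) (w : Idx d n) :
    echQuot K w (Ideal.Quotient.mk (schubertVanishing K d n w) (X w)) = X none := by
  rw [echQuot_mk, echMap_X_self K hd]

theorem mk_X_ne_zero (hd : 0 < d) (w : Idx d n) :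
    Ideal.Quotient.mk (schubertVanishing K d n w) (X w : PlRing K d n) ≠ 0 := by
  rw [Ne, Ideal.Quotient.eq_zero_iff_mem]
  exact X_not_mem_schubertVanishing K hd w w le_rfl

omit [Infinite K] in
theorem comap_span_mk_X (w : Idx d n) :
    Ideal.comap (Ideal.Quotient.mk (schubertVanishing K d n w))
      (Ideal.span {Ideal.Quotient.mk (schubertVanishing K d n w) (X w : PlRing K d n)}) =
      schubertVanishing K d n w ⊔ Ideal.span {(X w : PlRing K d n)} := by
  rw [← Set.image_singleton, ← Ideal.map_span,
    Ideal.comap_map_of_surjective _ Ideal.Quotient.mk_surjective,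
    ← RingHom.ker_eq_comap_bot, Ideal.mk_ker, sup_comm]

omit [Infinite K] in
theorem map_sup_span_X (w : Idx d n) :
    Ideal.map (Ideal.Quotient.mk (schubertVanishing K d n w))
      (schubertVanishing K d n w ⊔ Ideal.span {(X w : PlRing K d n)}) =
      Ideal.span {Ideal.Quotient.mk (schubertVanishing K d n w) (X w : PlRing K d n)} := by
  rw [Ideal.map_sup, Ideal.map_quotient_self, bot_sup_eq, Ideal.map_span, Set.image_singleton]

theorem le_of_schubertVanishing_le (hd : 0 < d) (φ φ' : Idx d n)
    (h : schubertVanishing K d n φ' ≤ schubertVanishing K d n φ) : φ ≤ φ' := by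
  by_contra hn
  exact X_not_mem_schubertVanishing K hd φ φ le_rfl (h (X_mem_schubertVanishing K φ' φ hn))

theorem eq_of_le_of_codeg_eq (φ φ' : Idx d n) (h : φ ≤ φ') (hc : codeg φ = codeg φ') : φ = φ' := by
  apply Helper24Grass.eq_of_le_of_wt_eq h
  have key : ∀ a : Idx d n, Helper24Grass.wt a.1 = codeg a + ∑ t : Fin d, t.val := by
    intro a
    unfold Helper24Grass.wt codeg
    rw [← Finset.sum_add_distrib]
    refine Finset.sum_congr rfl (fun t _ => ?_)
    have := Idx.val_le a t
    omega
  rw [key, key, hc]

/-- `J(τ) + (X_τ)` is prime iff `τ` has at most one Schubert divisor. -/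
theorem isPrime_sup_span_X_iff (hd : 0 < d) (hdn : d < n) (τ : Idx d n) :
    (schubertVanishing K d n τ ⊔ Ideal.span {(X τ : PlRing K d n)}).IsPrime ↔
      (divisors τ).Subsingleton := by
  classical
  by_cases h : ∃ φ : Idx d n, φ < τ
  · rw [schubertVanishing_sup_span K hd τ h]
    obtain ⟨φ, hφ⟩ := h
    obtain ⟨φ0, hφ0, -⟩ := Groth.Agent.S11268.result d n φ τ hφ
    constructor
    · intro hprime φ1 h1 φ2 h2
      have hfin : (⨅ φ ∈ divisors τ, schubertVanishing K d n φ) =
          (Finset.univ.filter (fun φ : Idx d n => φ ∈ divisors τ)).inf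
            (fun φ => schubertVanishing K d n φ) := by
        rw [Finset.inf_eq_iInf]
        simp
      obtain ⟨φ', hmem, hle⟩ := (Ideal.IsPrime.inf_le' hprime).mp (le_of_eq hfin.symm)
      have hφ'mem : φ' ∈ divisors τ := (Finset.mem_filter.mp hmem).2
      have hall : ∀ ψ ∈ divisors τ, ψ = φ' := by
        intro ψ hψ
        have h3 : schubertVanishing K d n φ' ≤ schubertVanishing K d n ψ :=
          hle.trans (iInf_le_of_le ψ (iInf_le _ hψ))
        have h4 := le_of_schubertVanishing_le K hd ψ φ' h3
        apply eq_of_le_of_codeg_eq ψ φ' h4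
        have e1 := hψ.2
        have e2 := hφ'mem.2
        omega
      rw [hall φ1 h1, hall φ2 h2]
    · intro hsub
      have hset : divisors τ = {φ0} := by
        ext ψ
        constructor
        · intro hψ
          exact hsub hψ hφ0
        · rintro rfl
          exact hφ0
      rw [hset]
      simp only [Set.mem_singleton_iff, iInf_iInf_eq_left]
      exact isPrime_schubertVanishing K hd hdn φ0
  · constructor
    · intro _ φ1 h1
      exact absurd ⟨φ1, h1.1⟩ h
    · intro _
      rw [eq_botIdx_of_not_exists_lt hdn τ h, sup_span_X_botIdx K hd hdn]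
      exact (ker_zero_isMaximal K).isPrime

/-- The class of `X_τ` in `S/J(τ)` is prime iff `τ` has at most one Schubert divisor. -/
theorem prime_mk_X_iff (hd : 0 < d) (hdn : d < n) (τ : Idx d n) :
    Prime (Ideal.Quotient.mk (schubertVanishing K d n τ) (X τ : PlRing K d n)) ↔
      (divisors τ).Subsingleton := by
  rw [← isPrime_sup_span_X_iff K hd hdn τ, ← Ideal.span_singleton_prime (mk_X_ne_zero K hd τ)]
  constructor
  · intro hprime
    rw [← comap_span_mk_X]
    exact Ideal.comap_isPrime _ _
  · intro hprime
    rw [← map_sup_span_X]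
    refine Ideal.map_isPrime_of_surjective Ideal.Quotient.mk_surjective ?_
    rw [Ideal.mk_ker]
    exact le_sup_left

/-- If the chart image of `a` is a unit then `a` is a unit. -/
theorem isUnit_of_isUnit_echQuot (hd : 0 < d) (hdn : d < n) (w : Idx d n)
    (a : PlRing K d n ⧸ schubertVanishing K d n w) (h : IsUnit (echQuot K w a)) : IsUnit a := by
  obtain ⟨c, hc, hP⟩ := MvPolynomial.isUnit_iff_eq_C_of_isReduced.mp h
  have h1 : echQuot K w (algebraMap K _ c) = echQuot K w a := by
    rw [AlgHom.commutes, hP]
    rfl
  rw [← echQuot_injective K hd hdn w h1]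
  exact hc.map _

theorem irreducible_mk_X (hd : 0 < d) (hdn : d < n) (w : Idx d n) :
    Irreducible (Ideal.Quotient.mk (schubertVanishing K d n w) (X w : PlRing K d n)) := by
  have hX : Irreducible (X none : EchRing K w) := (MvPolynomial.X_prime).irreducible
  constructor
  · intro hu
    have := hu.map (echQuot K w)
    rw [echQuot_mk_X K hd] at this
    exact hX.not_isUnit this
  · intro a b hab
    have h1 : (X none : EchRing K w) = echQuot K w a * echQuot K w b := by
      rw [← map_mul, ← hab, echQuot_mk_X K hd]
    rcases hX.isUnit_or_isUnit h1 with h | h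
    · exact Or.inl (isUnit_of_isUnit_echQuot K hd hdn w a h)
    · exact Or.inr (isUnit_of_isUnit_echQuot K hd hdn w b h)

/-- `S/J(w)` is factorial iff the class of `X_w` is a prime element. -/
theorem ufm_iff_prime_mk_X (hd : 0 < d) (hdn : d < n) (w : Idx d n) :
    UniqueFactorizationMonoid (PlRing K d n ⧸ schubertVanishing K d n w) ↔
      Prime (Ideal.Quotient.mk (schubertVanishing K d n w) (X w : PlRing K d n)) := by
  classical
  have hdom : IsDomain (PlRing K d n ⧸ schubertVanishing K d n w) :=
    (isDomain_and_isIntegrallyClosed_schubert K hd hdn w).1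
  constructor
  · intro hufm
    exact UniqueFactorizationMonoid.irreducible_iff_prime.mp (irreducible_mk_X K hd hdn w)
  · intro hprime
    have hfin : Finite (Idx d n) := inferInstance
    have hnoeth : IsNoetherianRing (PlRing K d n ⧸ schubertVanishing K d n w) := inferInstance
    let Qt := Localization.Away (X none : EchRing K w)
    let ψ : (PlRing K d n ⧸ schubertVanishing K d n w) →+* Qt :=
      (algebraMap (EchRing K w) Qt).comp (echQuot K w).toRingHom
    let _ : Algebra (PlRing K d n ⧸ schubertVanishing K d n w) Qt := ψ.toAlgebra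
    have halg : ∀ a, algebraMap (PlRing K d n ⧸ schubertVanishing K d n w) Qt a =
        algebraMap (EchRing K w) Qt (echQuot K w a) := fun _ => rfl
    have ht0 : (X none : EchRing K w) ≠ 0 := MvPolynomial.X_ne_zero _
    have hinjQ : Function.Injective (algebraMap (EchRing K w) Qt) :=
      IsLocalization.injective Qt (powers_le_nonZeroDivisors_of_noZeroDivisors ht0)
    have hloc : IsLocalization
        (Submonoid.powers (Ideal.Quotient.mk (schubertVanishing K d n w) (X w : PlRing K d n)))
        Qt := by
      rw [isLocalization_iff]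
      refine ⟨?_, ?_, ?_⟩
      · rintro ⟨_, k, rfl⟩
        rw [halg, map_pow, echQuot_mk_X K hd, map_pow]
        exact (IsLocalization.Away.algebraMap_isUnit (X none : EchRing K w)).pow k
      · intro z
        obtain ⟨q, ⟨_, k, rfl⟩, rfl⟩ :=
          IsLocalization.exists_mk'_eq (Submonoid.powers (X none : EchRing K w)) z
        obtain ⟨k', a, ha⟩ := exists_pow_mul_eq_echMap K hd w q
        refine ⟨⟨Ideal.Quotient.mk _ a, ⟨_, k + k', rfl⟩⟩, ?_⟩
        rw [halg, halg, echQuot_mk, ha, map_pow, echQuot_mk_X K hd, map_mul, map_pow, map_pow,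
          pow_add, ← mul_assoc]
        have e : ∀ (y : Submonoid.powers (X none : EchRing K w)) (j : ℕ), (y : EchRing K w) = X none ^ j →
            IsLocalization.mk' Qt q y * (algebraMap (EchRing K w) Qt) (X none) ^ j =
              algebraMap (EchRing K w) Qt q := by
          intro y j hy
          rw [← map_pow, ← hy]
          exact IsLocalization.mk'_spec Qt q y
        rw [e _ k rfl, mul_comm]
      · intro x y hxy
        rw [halg, halg] at hxy
        exact ⟨1, by rw [echQuot_injective K hd hdn w (hinjQ hxy)]⟩
    exact (UniqueFactorizationMonoid.iff_of_isLocalizationAway_of_prime hprime Qt).mpr inferInstance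

end Alg

end Groth.Agent.Lib.H5b
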