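import Mathlib
import Groth.Agent.Lib.H5bDvrExt
import Groth.Agent.S10288

/-!
# The core of the existence part of the valuative criterion (helper5)

From a generisation, in an étale chart of the base change `X ×_Y Spec A`, of a chart point over the
closed point of `Spec A` to a chart point over the given `K`-point, we get a dominating extension
`(A', K')` of the valuation ring with `K'/K` finite separable and a lift over `A'`.
-/

set_option autoImplicit false
set_option linter.style.haveILetI false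

universe u
open CategoryTheory CategoryTheory.Limits AlgebraicGeometry Opposite

namespace Groth.Agent.Lib.H5bVCCore

open Groth.Agent.Lib.H5bUCAff Groth.Agent.Lib.H5bDvrLift Groth.Agent.Lib.H5bDvrExt IsLocalRing

variable {S : Scheme.{u}}

theorem exists_domExt_of_generization {X Y : AlgSp.Space S} (f : X ⟶ Y) (sq : AlgSp.ValSq f.hom)
    {W₀ : Over S} (q₀ : (AlgSp.yon S).obj W₀ ⟶ pullback f.hom sq.bot)
    (hq₀e : AlgSp.RepWith @Etale q₀)
    (s : (AlgSp.yon S).obj sq.ptK ⟶ pullback f.hom sq.bot)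
    (hs1 : s ≫ pullback.fst f.hom sq.bot = sq.top)
    (hs2 : s ≫ pullback.snd f.hom sq.bot = (AlgSp.yon S).map sq.j)
    (w w'₀ : ↥W₀.left) (hww' : w ⤳ w'₀)
    (hw : AlgSp.Points.ofPt q₀ w = AlgSp.Points.ofPt s (closedPoint sq.K))
    (hx'c : AlgSp.Points.map (pullback.snd f.hom sq.bot) (AlgSp.Points.ofPt q₀ w'₀) =
      AlgSp.Points.schemeHomeo (Over.mk sq.str) (closedPoint sq.A)) :
    ∃ e : sq.DomExt,
      (letI := e.ψ.toAlgebra; Module.Finite sq.K e.K' ∧ Algebra.IsSeparable sq.K e.K') ∧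
      e.HasLift := by
  have sqP := IsPullback.of_hasPullback f.hom sq.bot
  obtain ⟨pr, hprdef⟩ : ∃ pr, pr = pullback.snd f.hom sq.bot := ⟨_, rfl⟩
  obtain ⟨fst, hfstdef⟩ : ∃ fst, fst = pullback.fst f.hom sq.bot := ⟨_, rfl⟩
  rw [← hprdef, ← hfstdef] at sqP
  rw [← hprdef] at hs2 hx'c
  rw [← hfstdef] at hs1
  obtain ⟨c₀, hc₀⟩ := (AlgSp.yon S).map_surjective (q₀ ≫ pr)
  have hc₀w' : c₀.left w'₀ = closedPoint sq.A := by
    apply (AlgSp.Points.schemeHomeo (Over.mk sq.str)).injective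
    rw [← hx'c, AlgSp.Points.map_ofPt, ← hc₀, ofPt_yon_map]
  -- the fibre
  obtain ⟨Wx, v, u', sqx⟩ := hq₀e.1 s
  obtain ⟨u, rfl⟩ := (AlgSp.yon S).map_surjective u'
  haveI : Etale v.left := hq₀e.2 _ _ v sqx
  obtain ⟨y, rfl, -⟩ := Groth.Agent.S10176.exists_point_of_isPullback_yon sqx w
    (closedPoint sq.K) hw
  have huc0 : u ≫ c₀ = v ≫ sq.j := by
    apply (AlgSp.yon S).map_injective
    rw [Functor.map_comp, Functor.map_comp, hc₀, ← Category.assoc, sqx.w, Category.assoc, hs2]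
  have huc0l : u.left ≫ c₀.left = v.left ≫ sq.j.left := by
    rw [← Over.comp_left, huc0, Over.comp_left]
  -- the valuation ring
  obtain ⟨V, g, hg1, hg2⟩ := Groth.Agent.S10288.exists_valuation_square u.left y w'₀ hww'
  obtain ⟨ψ, hψ, hfin, hsep⟩ := exists_residueField_finite_separable (K := sq.K) v.left y
  let φc : CommRingCat.of sq.A ⟶ CommRingCat.of V := Spec.preimage (g ≫ c₀.left)
  have hφc : Spec.map φc = g ≫ c₀.left := Spec.map_preimage _
  have hcomm : (algebraMap V (Wx.left.residueField y)).comp φc.hom =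
      ψ.comp (algebraMap sq.A sq.K) := by
    have h1 : Spec.map (CommRingCat.ofHom ((algebraMap V (Wx.left.residueField y)).comp φc.hom)) =
        Spec.map (CommRingCat.ofHom (ψ.comp (algebraMap sq.A sq.K))) := by
      have hL : CommRingCat.ofHom ((algebraMap V (Wx.left.residueField y)).comp φc.hom) =
          φc ≫ CommRingCat.ofHom (algebraMap V (Wx.left.residueField y)) := rfl
      have hR : CommRingCat.ofHom (ψ.comp (algebraMap sq.A sq.K)) =
          CommRingCat.ofHom (algebraMap sq.A sq.K) ≫ CommRingCat.ofHom ψ := rfl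
      rw [hL, hR, Spec.map_comp, Spec.map_comp, hψ, hφc, ← Category.assoc, ← hg1, Category.assoc,
        Category.assoc, huc0l]
      rfl
    exact congrArg CommRingCat.Hom.hom (Spec.map_injective h1)
  have hloc : IsLocalHom φc.hom := by
    have h1 : Spec.map φc (closedPoint V) = closedPoint sq.A := by
      rw [hφc, Scheme.Hom.comp_apply, hg2, hc₀w']
    have h2 := congrArg PrimeSpectrum.asIdeal h1
    exact ((IsLocalRing.local_hom_TFAE φc.hom).out 0 4).2 h2
  let e : sq.DomExt :=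
    { A' := V, K' := Wx.left.residueField y, φ := φc.hom, ψ := ψ, comm := hcomm,
      isLocalHom := hloc }
  refine ⟨e, ⟨hfin, hsep⟩, ?_⟩
  -- the lift
  have hgw : g ≫ W₀.hom = e.ptA'.hom := by
    show g ≫ W₀.hom = Spec.map (CommRingCat.ofHom φc.hom) ≫ sq.str
    rw [← Over.w c₀, ← Category.assoc, ← hφc]
    rfl
  let gO : e.ptA' ⟶ W₀ := Over.homMk g hgw
  let φ' : e.ptA' ⟶ sq.ptA := Over.homMk (Spec.map (CommRingCat.ofHom e.φ)) rfl
  let kk : e.ptK' ⟶ e.ptA' := Over.homMk (Spec.map (CommRingCat.ofHom (algebraMap e.A' e.K'))) rfl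
  have hΨw : Spec.map (CommRingCat.ofHom e.ψ) ≫ sq.ptK.hom = e.ptK'.hom := by
    change Spec.map _ ≫ Spec.map _ ≫ _ = Spec.map _ ≫ Spec.map _ ≫ _
    rw [← Spec.map_comp_assoc, ← Spec.map_comp_assoc, ← CommRingCat.ofHom_comp,
      ← CommRingCat.ofHom_comp, e.comm]
  let Ψ : e.ptK' ⟶ sq.ptK := Over.homMk (Spec.map (CommRingCat.ofHom e.ψ)) hΨw
  have hψ' : Spec.map (CommRingCat.ofHom e.ψ) = Wx.left.fromSpecResidueField y ≫ v.left := hψ
  have hιw : Wx.left.fromSpecResidueField y ≫ Wx.hom = e.ptK'.hom := by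
    rw [← hΨw, ← Over.w v, ← Category.assoc, ← hψ']
  let ιO : e.ptK' ⟶ Wx := Over.homMk (Wx.left.fromSpecResidueField y) hιw
  have hgc : gO ≫ c₀ = φ' := Over.OverMorphism.ext hφc.symm
  have hkg : kk ≫ gO = ιO ≫ u := Over.OverMorphism.ext hg1.symm
  have hιv : ιO ≫ v = Ψ := Over.OverMorphism.ext hψ'.symm
  refine ⟨(AlgSp.yon S).map gO ≫ q₀ ≫ fst, ?_, ?_⟩
  · show (AlgSp.yon S).map kk ≫ (AlgSp.yon S).map gO ≫ q₀ ≫ fst = (AlgSp.yon S).map Ψ ≫ sq.top
    rw [← Category.assoc, ← Functor.map_comp, hkg, Functor.map_comp, Category.assoc,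
      ← Category.assoc ((AlgSp.yon S).map u), sqx.w, Category.assoc, hs1, ← Category.assoc,
      ← Functor.map_comp, hιv]
  · show ((AlgSp.yon S).map gO ≫ q₀ ≫ fst) ≫ f.hom = (AlgSp.yon S).map φ' ≫ sq.bot
    rw [Category.assoc, Category.assoc, sqP.w, ← Category.assoc q₀, ← hc₀, ← Category.assoc,
      ← Functor.map_comp, hgc]

end Groth.Agent.Lib.H5bVCCore
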