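import Mathlib
import Groth.Agent.Lib.H5bDvrExt
import Groth.Agent.S10288

/-!
# Existence part of the valuative criterion for universally closed morphisms (helper5)
-/

set_option autoImplicit false
set_option linter.style.haveILetI false

universe u
open CategoryTheory CategoryTheory.Limits AlgebraicGeometry Opposite

namespace Groth.Agent.Lib.H5bVCExist

open Groth.Agent.Lib.H5bUCAff Groth.Agent.Lib.H5bDvrLift Groth.Agent.Lib.H5bDvrExt IsLocalRing
open Groth.Agent.Lib.Helper12.Proper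

variable {S : Scheme.{u}}

/-- a `K`-point over the generic point specialises to a point over the closed point, along a
universally closed morphism (local base ring). -/
theorem exists_specializes_closedPoint' {A : Type u} [CommRing A] [IsLocalRing A] {K : Type u}
    [Field K] [Algebra A K] (a : Spec (CommRingCat.of A) ⟶ S)
    {P : AlgSp.Sp S} (pr : P ⟶ (AlgSp.yon S).obj (Over.mk a))
    (s : (AlgSp.yon S).obj (SpO a K) ⟶ P) (huc : AlgSp.IsUnivClosedMor pr)
    (hs : s ≫ pr = (AlgSp.yon S).map (strO a K)) :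
    ∃ x', AlgSp.Points.ofPt s (closedPoint K) ⤳ x' ∧
      AlgSp.Points.map pr x' = AlgSp.Points.schemeHomeo (Over.mk a) (closedPoint A) := by
  have hcl : IsClosedMap (AlgSp.Points.map pr) :=
    huc (AlgSp.IsAlgSpace.yon_obj _) (𝟙 _) (𝟙 P) pr (IsPullback.id_horiz pr)
  obtain ⟨x, hx⟩ : ∃ x, x = AlgSp.Points.ofPt s (closedPoint K) := ⟨_, rfl⟩
  have hprx : AlgSp.Points.map pr x =
      AlgSp.Points.schemeHomeo (Over.mk a) ((strO a K).left (closedPoint K)) := by
    rw [hx, AlgSp.Points.map_ofPt, hs, ofPt_yon_map]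
  have hsp : AlgSp.Points.map pr x ⤳ AlgSp.Points.schemeHomeo (Over.mk a) (closedPoint A) := by
    rw [hprx]
    exact (specializes_closedPoint (R := A) ((strO a K).left (closedPoint K))).map
      (AlgSp.Points.schemeHomeo (Over.mk a)).continuous
  have h1 : IsClosed (AlgSp.Points.map pr '' closure {x}) := hcl _ isClosed_closure
  have h2 : AlgSp.Points.schemeHomeo (Over.mk a) (closedPoint A) ∈
      AlgSp.Points.map pr '' closure {x} := by
    have h3 : closure {AlgSp.Points.map pr x} ⊆ AlgSp.Points.map pr '' closure {x} :=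
      closure_minimal (by
        rintro _ rfl
        exact ⟨x, subset_closure rfl, rfl⟩) h1
    exact h3 (specializes_iff_mem_closure.1 hsp)
  obtain ⟨x', hx'1, hx'2⟩ := h2
  exact ⟨x', hx ▸ specializes_iff_mem_closure.2 hx'1, hx'2⟩

/-- a universally closed morphism has lifts of valuative squares after a dominating extension, as
soon as the `K`-point of the base change to `Spec A` is represented by a quasi-compact
monomorphism. -/
theorem hasLiftExt_of_univClosed {X Y : AlgSp.Space S} (f : X ⟶ Y)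
    (huc : AlgSp.IsUnivClosedMor f.hom) (sq : AlgSp.ValSq f.hom)
    (hpt : ∀ x : AlgSp.Points (pullback f.hom sq.bot),
      ∃ p : AlgSp.FieldPt (pullback f.hom sq.bot), AlgSp.Points.mk p = x ∧ Mono p.toHom ∧
        AlgSp.RepWith @QuasiCompact p.toHom) : sq.HasLiftExt := by
  have sqP := IsPullback.of_hasPullback f.hom sq.bot
  have hP : AlgSp.IsAlgSpace (pullback f.hom sq.bot) :=
    Groth.Agent.S9874.isAlgSpace_of_isPullback Y.property.diag X.property
      (AlgSp.IsAlgSpace.yon_obj _) sqP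
  obtain ⟨pr, hprdef⟩ : ∃ pr, pr = pullback.snd f.hom sq.bot := ⟨_, rfl⟩
  obtain ⟨fst, hfstdef⟩ : ∃ fst, fst = pullback.fst f.hom sq.bot := ⟨_, rfl⟩
  rw [← hprdef, ← hfstdef] at sqP
  obtain ⟨s, hs1, hs2⟩ : ∃ s : (AlgSp.yon S).obj sq.ptK ⟶ pullback f.hom sq.bot,
      s ≫ fst = sq.top ∧ s ≫ pr = (AlgSp.yon S).map sq.j :=
    ⟨sqP.lift sq.top ((AlgSp.yon S).map sq.j) sq.comm, sqP.lift_fst _ _ _, sqP.lift_snd _ _ _⟩
  have hucP : AlgSp.IsUnivClosedMor pr := isUnivClosedMor_baseChange sqP huc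
  haveI : Mono sq.j := mono_strO_fractionRing (K := sq.K) sq.str
  haveI : Mono ((AlgSp.yon S).map sq.j) := (AlgSp.yon S).map_mono _
  haveI : Mono s := mono_of_mono_fac hs2
  -- specialisation and chart
  obtain ⟨x', hxx', hx'c⟩ := exists_specializes_closedPoint' (K := sq.K) sq.str pr s hucP hs2
  obtain ⟨W₀, q₀, w'₀, hW₀, hq₀e, hw'₀⟩ := exists_affine_chart_at hP x'
  obtain ⟨c₀, hc₀⟩ := (AlgSp.yon S).map_surjective (q₀ ≫ pr)
  have hc₀w' : c₀.left w'₀ = closedPoint sq.A := by
    apply (AlgSp.Points.schemeHomeo (Over.mk sq.str)).injective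
    rw [← hx'c, ← hw'₀, AlgSp.Points.map_ofPt, ← hc₀, ofPt_yon_map]
  -- generisation
  obtain ⟨w, hww', hw⟩ := Groth.Agent.S10343.result ⟨_, hP⟩ x'
    (AlgSp.Points.ofPt s (closedPoint sq.K)) hxx' (hpt _) q₀ hq₀e w'₀ hw'₀
  -- the fibre
  obtain ⟨Wx, v, u', sqx⟩ := hq₀e.1 s
  obtain ⟨u, rfl⟩ := (AlgSp.yon S).map_surjective u'
  obtain ⟨y, rfl, -⟩ := Groth.Agent.S10176.exists_point_of_isPullback_yon sqx w
    (closedPoint sq.K) hw
  have huc0 : u ≫ c₀ = v ≫ sq.j := by
    apply (AlgSp.yon S).map_injective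
    rw [Functor.map_comp, Functor.map_comp, hc₀, ← Category.assoc, sqx.w, Category.assoc, hs2]
  have huc0l : u.left ≫ c₀.left = v.left ≫ sq.j.left := by
    rw [← Over.comp_left, huc0, Over.comp_left]
  -- the valuation ring
  obtain ⟨V, g, hg1, hg2⟩ := Groth.Agent.S10288.exists_valuation_square u.left y w'₀ hww'
  let ψc : CommRingCat.of sq.K ⟶ Wx.left.residueField y :=
    Spec.preimage (Wx.left.fromSpecResidueField y ≫ v.left)
  have hψ : Spec.map ψc = Wx.left.fromSpecResidueField y ≫ v.left := Spec.map_preimage _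
  let φc : CommRingCat.of sq.A ⟶ CommRingCat.of V := Spec.preimage (g ≫ c₀.left)
  have hφc : Spec.map φc = g ≫ c₀.left := Spec.map_preimage _
  have hcomm : (algebraMap V (Wx.left.residueField y)).comp φc.hom =
      ψc.hom.comp (algebraMap sq.A sq.K) := by
    have h1 : Spec.map (CommRingCat.ofHom ((algebraMap V (Wx.left.residueField y)).comp φc.hom)) =
        Spec.map (CommRingCat.ofHom (ψc.hom.comp (algebraMap sq.A sq.K))) := by
      have hL : CommRingCat.ofHom ((algebraMap V (Wx.left.residueField y)).comp φc.hom) =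
          φc ≫ CommRingCat.ofHom (algebraMap V (Wx.left.residueField y)) := rfl
      have hR : CommRingCat.ofHom (ψc.hom.comp (algebraMap sq.A sq.K)) =
          CommRingCat.ofHom (algebraMap sq.A sq.K) ≫ ψc := rfl
      rw [hL, hR, Spec.map_comp, Spec.map_comp, hψ, hφc, ← Category.assoc, ← hg1, Category.assoc,
        Category.assoc, huc0l]
      rfl
    exact congrArg CommRingCat.Hom.hom (Spec.map_injective h1)
  have hloc : IsLocalHom φc.hom := by
    have h1 : Spec.map φc (closedPoint V) = closedPoint sq.A := by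
      rw [hφc, Scheme.Hom.comp_apply, hg2, hc₀w']
    have h2 := congrArg PrimeSpectrum.asIdeal h1
    exact ((IsLocalRing.local_hom_TFAE φc.hom).out 0 4).2 h2
  let e : sq.DomExt :=
    { A' := V, K' := Wx.left.residueField y, φ := φc.hom, ψ := ψc.hom, comm := hcomm,
      isLocalHom := hloc }
  refine ⟨e, ?_⟩
  -- the lift
  have hgw : g ≫ W₀.hom = e.ptA'.hom := by
    show g ≫ W₀.hom = Spec.map (CommRingCat.ofHom φc.hom) ≫ sq.str
    rw [← Over.w c₀, ← Category.assoc, ← hφc]
    rfl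
  let gO : e.ptA' ⟶ W₀ := Over.homMk g hgw
  let φ' : e.ptA' ⟶ sq.ptA := Over.homMk (Spec.map (CommRingCat.ofHom e.φ)) rfl
  let kk : e.ptK' ⟶ e.ptA' := Over.homMk (Spec.map (CommRingCat.ofHom (algebraMap e.A' e.K'))) rfl
  have hΨw : Spec.map (CommRingCat.ofHom e.ψ) ≫ sq.ptK.hom = e.ptK'.hom := by
    change Spec.map _ ≫ Spec.map _ ≫ _ = Spec.map _ ≫ Spec.map _ ≫ _
    rw [← Spec.map_comp_assoc, ← Spec.map_comp_assoc, ← CommRingCat.ofHom_comp,
      ← CommRingCat.ofHom_comp, e.comm]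
  let Ψ : e.ptK' ⟶ sq.ptK := Over.homMk (Spec.map (CommRingCat.ofHom e.ψ)) hΨw
  have hψ' : Spec.map (CommRingCat.ofHom e.ψ) = Wx.left.fromSpecResidueField y ≫ v.left := hψ
  have hιw : Wx.left.fromSpecResidueField y ≫ Wx.hom = e.ptK'.hom := by
    rw [← hΨw, ← Over.w v, ← Category.assoc, ← hψ']
  let ιO : e.ptK' ⟶ Wx := Over.homMk (Wx.left.fromSpecResidueField y) hιw
  have hgc : gO ≫ c₀ = φ' := Over.OverMorphism.ext hφc.symm
  have hkg : kk ≫ gO = ιO ≫ u := Over.OverMorphism.ext hg1.symm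
  have hιv : ιO ≫ v = Ψ := Over.OverMorphism.ext hψ'.symm
  refine ⟨(AlgSp.yon S).map gO ≫ q₀ ≫ fst, ?_, ?_⟩
  · show (AlgSp.yon S).map kk ≫ (AlgSp.yon S).map gO ≫ q₀ ≫ fst = (AlgSp.yon S).map Ψ ≫ sq.top
    rw [← Category.assoc, ← Functor.map_comp, hkg, Functor.map_comp, Category.assoc,
      ← Category.assoc ((AlgSp.yon S).map u), sqx.w, Category.assoc, hs1, ← Category.assoc,
      ← Functor.map_comp, hιv]
  · show ((AlgSp.yon S).map gO ≫ q₀ ≫ fst) ≫ f.hom = (AlgSp.yon S).map φ' ≫ sq.bot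
    rw [Category.assoc, Category.assoc, sqP.w, ← Category.assoc q₀, ← hc₀, ← Category.assoc,
      ← Functor.map_comp, hgc]

end Groth.Agent.Lib.H5bVCExist
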