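import Mathlib

/-!
# Dominating extensions of valuation rings are faithfully flat (helper5)

Algebra for descending points along `Spec A' ⟶ Spec A` for a local injective homomorphism
`A ⟶ A'` from a valuation ring to a local domain: `A'` is faithfully flat over `A`, and
`A' ⊗_A A' ⟶ K' ⊗_A K'` is injective for an injective `A`-algebra map `A' ⟶ K'` to a domain.
-/

set_option autoImplicit false
set_option linter.style.haveILetI false
universe u

namespace Groth.Agent.Lib.H5bValDesc

open TensorProduct

section

variable {A B : Type u} [CommRing A] [IsDomain A] [ValuationRing A] [CommRing B] [IsDomain B]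
  [Algebra A B]

/-- a domain containing a valuation ring is flat over it. -/
lemma flat_of_injective (h : Function.Injective (algebraMap A B)) : Module.Flat A B := by
  rw [Module.Flat.flat_iff_torsion_eq_bot_of_isBezout, Submodule.eq_bot_iff]
  intro x hx
  rw [Submodule.mem_torsion_iff] at hx
  obtain ⟨a, ha⟩ := hx
  rw [Submonoid.smul_def, Algebra.smul_def] at ha
  rcases mul_eq_zero.1 ha with h0 | h0
  · exfalso
    have : (a : A) = 0 := h (by rw [h0, map_zero])
    exact nonZeroDivisors.coe_ne_zero a this
  · exact h0

/-- a local domain dominating a valuation ring is faithfully flat over it. -/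
lemma faithfullyFlat_of_injective_of_isLocalHom [IsLocalRing B]
    (h : Function.Injective (algebraMap A B)) [IsLocalHom (algebraMap A B)] :
    Module.FaithfullyFlat A B := by
  haveI := flat_of_injective h
  exact Module.FaithfullyFlat.of_flat_of_isLocalHom

variable {C : Type u} [CommRing C] [IsDomain C] [Algebra A C] [Algebra B C] [IsScalarTower A B C]

/-- `B ⊗_A B ⟶ C ⊗_A C` is injective. -/
lemma tensor_map_injective (hB : Function.Injective (algebraMap A B))
    (hC : Function.Injective (algebraMap B C)) :
    Function.Injective (Algebra.TensorProduct.map (IsScalarTower.toAlgHom A B C)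
      (IsScalarTower.toAlgHom A B C)) := by
  haveI : Module.Flat A B := flat_of_injective hB
  haveI : Module.Flat A C := flat_of_injective (by
    rw [IsScalarTower.algebraMap_eq A B C]
    exact hC.comp hB)
  have hinj : Function.Injective (IsScalarTower.toAlgHom A B C).toLinearMap := hC
  have h1 : Function.Injective ((IsScalarTower.toAlgHom A B C).toLinearMap.lTensor B) :=
    Module.Flat.lTensor_preserves_injective_linearMap _ hinj
  have h2 : Function.Injective ((IsScalarTower.toAlgHom A B C).toLinearMap.rTensor C) :=
    Module.Flat.rTensor_preserves_injective_linearMap _ hinj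
  have e : ⇑(Algebra.TensorProduct.map (IsScalarTower.toAlgHom A B C)
      (IsScalarTower.toAlgHom A B C)) =
      ⇑((IsScalarTower.toAlgHom A B C).toLinearMap.rTensor C) ∘
        ⇑((IsScalarTower.toAlgHom A B C).toLinearMap.lTensor B) := by
    funext x
    induction x using TensorProduct.induction_on with
    | zero => simp
    | tmul a b => simp
    | add a b ha hb => simp only [map_add, ha, hb, Function.comp_apply]
  rw [e]
  exact h2.comp h1

end

end Groth.Agent.Lib.H5bValDesc
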