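import Mathlib
import Groth.Prelude.Def_AlgSpMor5
import Groth.Agent.Lib.H5bValDescA
import Groth.Agent.Lib.H5bFpqcSecA

/-!
# A point over a dominating extension of a valuation ring has a descent datum (helper5)

For `f` separated, a valuative square `sq` for `f` and a dominating extension `e`, a lift `l` of the
extended square has equal pullbacks along any two points of `Spec A'` with the same image in
`Spec A` (`eq_of_domExt`).
-/

set_option autoImplicit false
set_option linter.style.haveILetI false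
universe u

namespace Groth.Agent.Lib.H5bValDesc

open CategoryTheory CategoryTheory.Limits AlgebraicGeometry AlgSp TensorProduct

variable {S : Scheme.{u}} {X Y : AlgSp.Sp S} {f : X ⟶ Y} {sq : AlgSp.ValSq f} (e : sq.DomExt)

lemma φ_injective : Function.Injective e.φ := by
  intro a b hab
  have h1 : (algebraMap e.A' e.K').comp e.φ a = (algebraMap e.A' e.K').comp e.φ b := by
    simp only [RingHom.comp_apply, hab]
  rw [e.comm] at h1
  exact IsFractionRing.injective sq.A sq.K (e.ψ.injective h1)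

lemma hΨw : Spec.map (CommRingCat.ofHom e.ψ) ≫ sq.ptK.hom = e.ptK'.hom := by
  change Spec.map _ ≫ Spec.map _ ≫ _ = Spec.map _ ≫ Spec.map _ ≫ _
  rw [← Spec.map_comp_assoc, ← Spec.map_comp_assoc, ← CommRingCat.ofHom_comp,
    ← CommRingCat.ofHom_comp, e.comm]

/-- `Spec K' ⟶ Spec K` over `S`. -/
noncomputable def domΨ : e.ptK' ⟶ sq.ptK := Over.homMk (Spec.map (CommRingCat.ofHom e.ψ)) (hΨw e)

/-- `Spec A' ⟶ Spec A` over `S`. -/
noncomputable def domφ : e.ptA' ⟶ sq.ptA := Over.homMk (Spec.map (CommRingCat.ofHom e.φ)) rfl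

/-- `Spec K' ⟶ Spec A'` over `S`. -/
noncomputable def domk : e.ptK' ⟶ e.ptA' :=
  Over.homMk (Spec.map (CommRingCat.ofHom (algebraMap e.A' e.K'))) rfl

lemma domk_domφ : domk e ≫ domφ e = domΨ e ≫ sq.j := by
  apply Over.OverMorphism.ext
  show Spec.map (CommRingCat.ofHom (algebraMap e.A' e.K')) ≫
      Spec.map (CommRingCat.ofHom e.φ) =
    Spec.map (CommRingCat.ofHom e.ψ) ≫ Spec.map (CommRingCat.ofHom (algebraMap sq.A sq.K))
  rw [← Spec.map_comp, ← Spec.map_comp, ← CommRingCat.ofHom_comp, ← CommRingCat.ofHom_comp]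
  exact congrArg (fun r => Spec.map (CommRingCat.ofHom r)) e.comm

lemma hasLift_iff : e.HasLift ↔ ∃ l : (yon S).obj e.ptA' ⟶ X,
    (yon S).map (domk e) ≫ l = (yon S).map (domΨ e) ≫ sq.top ∧
      l ≫ f = (yon S).map (domφ e) ≫ sq.bot := Iff.rfl

lemma injective_appTop_SpecMap {R R' : Type u} [CommRing R] [CommRing R'] (g : R →+* R')
    (hg : Function.Injective g) :
    Function.Injective (Spec.map (CommRingCat.ofHom g)).appTop := by
  have h1 : (Spec.map (CommRingCat.ofHom g)).appTop =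
      (Scheme.ΓSpecIso _).hom ≫ CommRingCat.ofHom g ≫ (Scheme.ΓSpecIso _).inv := by
    rw [← Scheme.ΓSpecIso_naturality_assoc, Iso.hom_inv_id, Category.comp_id]
  rw [h1]
  have a1 := (ConcreteCategory.bijective_of_isIso (Scheme.ΓSpecIso (CommRingCat.of R)).hom).1
  have a2 := (ConcreteCategory.bijective_of_isIso (Scheme.ΓSpecIso (CommRingCat.of R')).inv).1
  intro a b hab
  apply a1
  apply hg
  apply a2
  exact hab

theorem eq_of_domExt (hf : AlgSp.IsSeparatedMor f) (l : (yon S).obj e.ptA' ⟶ X)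
    (hl1 : (yon S).map (domk e) ≫ l = (yon S).map (domΨ e) ≫ sq.top)
    (hl2 : l ≫ f = (yon S).map (domφ e) ≫ sq.bot)
    ⦃Z : Over S⦄ (x₀ x₁ : Z ⟶ e.ptA') (h : x₀ ≫ domφ e = x₁ ≫ domφ e) :
    (yon S).map x₀ ≫ l = (yon S).map x₁ ≫ l := by
  letI : Algebra sq.A e.A' := e.φ.toAlgebra
  letI : Algebra sq.A e.K' := ((algebraMap e.A' e.K').comp e.φ).toAlgebra
  haveI : IsScalarTower sq.A e.A' e.K' := IsScalarTower.of_algebraMap_eq (fun x => rfl)
  have hφinj : Function.Injective (algebraMap sq.A e.A') := φ_injective e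
  have hKinj : Function.Injective (algebraMap e.A' e.K') := IsFractionRing.injective _ _
  have hι0 := tensor_map_injective (A := sq.A) (B := e.A') (C := e.K') hφinj hKinj
  obtain ⟨iL, hiL⟩ : ∃ iL : e.A' →+* e.A' ⊗[sq.A] e.A',
      iL = Algebra.TensorProduct.includeLeftRingHom := ⟨_, rfl⟩
  obtain ⟨iR, hiR⟩ : ∃ iR : e.A' →+* e.A' ⊗[sq.A] e.A',
      iR = (Algebra.TensorProduct.includeRight (R := sq.A) (A := e.A') (B := e.A')).toRingHom :=
    ⟨_, rfl⟩
  obtain ⟨jL, hjL⟩ : ∃ jL : e.K' →+* e.K' ⊗[sq.A] e.K',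
      jL = Algebra.TensorProduct.includeLeftRingHom := ⟨_, rfl⟩
  obtain ⟨jR, hjR⟩ : ∃ jR : e.K' →+* e.K' ⊗[sq.A] e.K',
      jR = (Algebra.TensorProduct.includeRight (R := sq.A) (A := e.K') (B := e.K')).toRingHom :=
    ⟨_, rfl⟩
  obtain ⟨ι, hι⟩ : ∃ ι : e.A' ⊗[sq.A] e.A' →+* e.K' ⊗[sq.A] e.K',
      ι = (Algebra.TensorProduct.map (IsScalarTower.toAlgHom sq.A e.A' e.K')
        (IsScalarTower.toAlgHom sq.A e.A' e.K')).toRingHom := ⟨_, rfl⟩
  have hιinj : Function.Injective ι := by rw [hι]; exact hι0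
  -- ring identities
  have r1 : iL.comp e.φ = iR.comp e.φ := by
    ext a
    rw [hiL, hiR]
    show (e.φ a) ⊗ₜ[sq.A] (1 : e.A') = (1 : e.A') ⊗ₜ[sq.A] (e.φ a)
    have h1 : e.φ a = a • (1 : e.A') := by rw [Algebra.smul_def, mul_one]; rfl
    rw [h1, TensorProduct.smul_tmul]
  have r2 : ι.comp iL = jL.comp (algebraMap e.A' e.K') := by
    ext a
    rw [hι, hiL, hjL]
    simp
  have r3 : ι.comp iR = jR.comp (algebraMap e.A' e.K') := by
    ext a
    rw [hι, hiR, hjR]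
    simp
  have r4 : jL.comp e.ψ = jR.comp e.ψ := by
    apply IsLocalization.ringHom_ext (nonZeroDivisors sq.A)
    rw [RingHom.comp_assoc, RingHom.comp_assoc, ← e.comm, ← RingHom.comp_assoc,
      ← RingHom.comp_assoc, ← r2, ← r3, RingHom.comp_assoc, RingHom.comp_assoc, r1]
  -- the schemes
  obtain ⟨TT, hTT⟩ : ∃ TT : Over S,
      TT = Over.mk (Spec.map (CommRingCat.ofHom iL) ≫ e.ptA'.hom) := ⟨_, rfl⟩
  subst hTT
  let p₁ : Over.mk (Spec.map (CommRingCat.ofHom iL) ≫ e.ptA'.hom) ⟶ e.ptA' :=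
    Over.homMk (Spec.map (CommRingCat.ofHom iL)) rfl
  have hp₂ : Spec.map (CommRingCat.ofHom iR) ≫ e.ptA'.hom =
      Spec.map (CommRingCat.ofHom iL) ≫ e.ptA'.hom := by
    change Spec.map _ ≫ Spec.map _ ≫ _ = Spec.map _ ≫ Spec.map _ ≫ _
    rw [← Spec.map_comp_assoc, ← Spec.map_comp_assoc, ← CommRingCat.ofHom_comp,
      ← CommRingCat.ofHom_comp, r1]
  let p₂ : Over.mk (Spec.map (CommRingCat.ofHom iL) ≫ e.ptA'.hom) ⟶ e.ptA' :=
    Over.homMk (Spec.map (CommRingCat.ofHom iR)) hp₂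
  have hw : p₁ ≫ domφ e = p₂ ≫ domφ e := by
    apply Over.OverMorphism.ext
    show Spec.map (CommRingCat.ofHom iL) ≫ Spec.map (CommRingCat.ofHom e.φ) =
      Spec.map (CommRingCat.ofHom iR) ≫ Spec.map (CommRingCat.ofHom e.φ)
    rw [← Spec.map_comp, ← Spec.map_comp, ← CommRingCat.ofHom_comp, ← CommRingCat.ofHom_comp, r1]
  have hpb : IsPullback p₁ p₂ (domφ e) (domφ e) := by
    refine IsPullback.of_map (Over.forget S) hw ?_
    have := isPullback_SpecMap_of_isPushout _ _ _ _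
      (CommRingCat.isPushout_tensorProduct sq.A e.A' e.A')
    subst hiL hiR
    exact this
  -- the dense part
  let d : Over.mk (Spec.map (CommRingCat.ofHom ι) ≫ Spec.map (CommRingCat.ofHom iL) ≫ e.ptA'.hom) ⟶
      Over.mk (Spec.map (CommRingCat.ofHom iL) ≫ e.ptA'.hom) :=
    Over.homMk (Spec.map (CommRingCat.ofHom ι)) rfl
  have q2 : Spec.map (CommRingCat.ofHom jL) ≫
      Spec.map (CommRingCat.ofHom (algebraMap e.A' e.K')) =
      Spec.map (CommRingCat.ofHom ι) ≫ Spec.map (CommRingCat.ofHom iL) := by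
    rw [← Spec.map_comp, ← Spec.map_comp, ← CommRingCat.ofHom_comp, ← CommRingCat.ofHom_comp, r2]
  have q3 : Spec.map (CommRingCat.ofHom jR) ≫
      Spec.map (CommRingCat.ofHom (algebraMap e.A' e.K')) =
      Spec.map (CommRingCat.ofHom ι) ≫ Spec.map (CommRingCat.ofHom iR) := by
    rw [← Spec.map_comp, ← Spec.map_comp, ← CommRingCat.ofHom_comp, ← CommRingCat.ofHom_comp, r3]
  have hρ₁ : Spec.map (CommRingCat.ofHom jL) ≫ e.ptK'.hom =
      Spec.map (CommRingCat.ofHom ι) ≫ Spec.map (CommRingCat.ofHom iL) ≫ e.ptA'.hom := by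
    change Spec.map _ ≫ Spec.map _ ≫ e.ptA'.hom = _
    rw [← Category.assoc, q2, Category.assoc]
  have hρ₂ : Spec.map (CommRingCat.ofHom jR) ≫ e.ptK'.hom =
      Spec.map (CommRingCat.ofHom ι) ≫ Spec.map (CommRingCat.ofHom iL) ≫ e.ptA'.hom := by
    change Spec.map _ ≫ Spec.map _ ≫ e.ptA'.hom = _
    rw [← Category.assoc, q3, Category.assoc, hp₂]
  let ρ₁ : Over.mk (Spec.map (CommRingCat.ofHom ι) ≫ Spec.map (CommRingCat.ofHom iL) ≫
      e.ptA'.hom) ⟶ e.ptK' := Over.homMk (Spec.map (CommRingCat.ofHom jL)) hρ₁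
  let ρ₂ : Over.mk (Spec.map (CommRingCat.ofHom ι) ≫ Spec.map (CommRingCat.ofHom iL) ≫
      e.ptA'.hom) ⟶ e.ptK' := Over.homMk (Spec.map (CommRingCat.ofHom jR)) hρ₂
  have hd1 : d ≫ p₁ = ρ₁ ≫ domk e := by
    apply Over.OverMorphism.ext
    show Spec.map (CommRingCat.ofHom ι) ≫ Spec.map (CommRingCat.ofHom iL) =
      Spec.map (CommRingCat.ofHom jL) ≫ Spec.map (CommRingCat.ofHom (algebraMap e.A' e.K'))
    rw [← Spec.map_comp, ← Spec.map_comp, ← CommRingCat.ofHom_comp, ← CommRingCat.ofHom_comp, r2]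
  have hd2 : d ≫ p₂ = ρ₂ ≫ domk e := by
    apply Over.OverMorphism.ext
    show Spec.map (CommRingCat.ofHom ι) ≫ Spec.map (CommRingCat.ofHom iR) =
      Spec.map (CommRingCat.ofHom jR) ≫ Spec.map (CommRingCat.ofHom (algebraMap e.A' e.K'))
    rw [← Spec.map_comp, ← Spec.map_comp, ← CommRingCat.ofHom_comp, ← CommRingCat.ofHom_comp, r3]
  have hρΨ : ρ₁ ≫ domΨ e = ρ₂ ≫ domΨ e := by
    apply Over.OverMorphism.ext
    show Spec.map (CommRingCat.ofHom jL) ≫ Spec.map (CommRingCat.ofHom e.ψ) =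
      Spec.map (CommRingCat.ofHom jR) ≫ Spec.map (CommRingCat.ofHom e.ψ)
    rw [← Spec.map_comp, ← Spec.map_comp, ← CommRingCat.ofHom_comp, ← CommRingCat.ofHom_comp, r4]
  have hkey : (yon S).map p₁ ≫ l = (yon S).map p₂ ≫ l := by
    haveI : IsAffine (Over.mk (Spec.map (CommRingCat.ofHom iL) ≫ e.ptA'.hom)).left :=
      inferInstanceAs (IsAffine (Spec _))
    refine Groth.Agent.Lib.H5bFpqcSec.eq_of_comp_dense_eq f hf d
      (injective_appTop_SpecMap ι hιinj) _ _ ?_ ?_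
    · rw [Category.assoc, Category.assoc, hl2, ← Category.assoc, ← Category.assoc,
        ← Functor.map_comp, ← Functor.map_comp, hw]
    · have a1 : (yon S).map d ≫ (yon S).map p₁ = (yon S).map ρ₁ ≫ (yon S).map (domk e) := by
        rw [← Functor.map_comp, ← Functor.map_comp, hd1]
      have a2 : (yon S).map d ≫ (yon S).map p₂ = (yon S).map ρ₂ ≫ (yon S).map (domk e) := by
        rw [← Functor.map_comp, ← Functor.map_comp, hd2]
      have a3 : (yon S).map ρ₁ ≫ (yon S).map (domΨ e) =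
          (yon S).map ρ₂ ≫ (yon S).map (domΨ e) := by
        rw [← Functor.map_comp, ← Functor.map_comp, hρΨ]
      calc (yon S).map d ≫ (yon S).map p₁ ≫ l
          = ((yon S).map d ≫ (yon S).map p₁) ≫ l := (Category.assoc _ _ _).symm
        _ = ((yon S).map ρ₁ ≫ (yon S).map (domk e)) ≫ l := congrArg (· ≫ l) a1
        _ = (yon S).map ρ₁ ≫ (yon S).map (domk e) ≫ l := Category.assoc _ _ _
        _ = (yon S).map ρ₁ ≫ (yon S).map (domΨ e) ≫ sq.top := congrArg (_ ≫ ·) hl1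
        _ = ((yon S).map ρ₁ ≫ (yon S).map (domΨ e)) ≫ sq.top := (Category.assoc _ _ _).symm
        _ = ((yon S).map ρ₂ ≫ (yon S).map (domΨ e)) ≫ sq.top := congrArg (· ≫ sq.top) a3
        _ = (yon S).map ρ₂ ≫ (yon S).map (domΨ e) ≫ sq.top := Category.assoc _ _ _
        _ = (yon S).map ρ₂ ≫ (yon S).map (domk e) ≫ l := congrArg (_ ≫ ·) hl1.symm
        _ = ((yon S).map ρ₂ ≫ (yon S).map (domk e)) ≫ l := (Category.assoc _ _ _).symm
        _ = ((yon S).map d ≫ (yon S).map p₂) ≫ l := congrArg (· ≫ l) a2.symm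
        _ = (yon S).map d ≫ (yon S).map p₂ ≫ l := Category.assoc _ _ _
  calc (yon S).map x₀ ≫ l = (yon S).map (hpb.lift x₀ x₁ h ≫ p₁) ≫ l := by rw [hpb.lift_fst]
    _ = (yon S).map (hpb.lift x₀ x₁ h) ≫ (yon S).map p₁ ≫ l := by
      rw [Functor.map_comp, Category.assoc]
    _ = (yon S).map (hpb.lift x₀ x₁ h) ≫ (yon S).map p₂ ≫ l := by rw [hkey]
    _ = (yon S).map (hpb.lift x₀ x₁ h ≫ p₂) ≫ l := by rw [Functor.map_comp, Category.assoc]
    _ = (yon S).map x₁ ≫ l := by rw [hpb.lift_snd]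

end Groth.Agent.Lib.H5bValDesc
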