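import Mathlib
import Groth.Prelude.Def_AlgSpMor5
import Groth.Agent.Lib.H5bValDescB
import Groth.Agent.Lib.H5bFpqcSecD
import Groth.Agent.Lib.H5bDvrExt
import Groth.Agent.Lib.Helper12Proper
import Groth.Agent.S9874
import Groth.Agent.S10176

/-!
# Descending a lift along a dominating extension of valuation rings (helper5)

`hasLift_of_domExt`: for a separated morphism of algebraic spaces, a valuative square that has a
dotted arrow after a dominating extension of the valuation ring has a dotted arrow.  The lift over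
`Spec A'` has a descent datum relative to the fpqc covering `Spec A' ⟶ Spec A` (`eq_of_domExt`),
and it descends by `exists_section_of_fpqc`.
-/

set_option autoImplicit false
set_option linter.style.haveILetI false
universe u

namespace Groth.Agent.Lib.H5bValDesc

open CategoryTheory CategoryTheory.Limits AlgebraicGeometry AlgSp IsLocalRing
open Groth.Agent.Lib.H5bFpqcSec

variable {S : Scheme.{u}}

/-- For `pr : W ⟶ h_T` separated, the fibre product of two points `h_U ⟶ W`, `h_{T'} ⟶ W` is
represented by a closed subscheme of `T' ×_T U`. -/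
theorem exists_chart_pullback {T T' U : Over S} (pT : T' ⟶ T) {W : AlgSp.Sp S}
    (pr : W ⟶ (yon S).obj T) (hsep : AlgSp.IsSeparatedMor pr)
    (lP : (yon S).obj T' ⟶ W) (hlP : lP ≫ pr = (yon S).map pT)
    (q₀ : (yon S).obj U ⟶ W) (c₀ : U ⟶ T) (hc₀ : (yon S).map c₀ = q₀ ≫ pr) :
    ∃ (V : Over S) (w : V ⟶ pullback pT c₀), IsClosedImmersion w.left ∧
      IsPullback ((yon S).map (w ≫ pullback.snd pT c₀)) ((yon S).map (w ≫ pullback.fst pT c₀))
        q₀ lP := by
  have hβ : ((yon S).map (pullback.fst pT c₀) ≫ lP) ≫ pr =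
      ((yon S).map (pullback.snd pT c₀) ≫ q₀) ≫ pr := by
    rw [Category.assoc, Category.assoc, hlP, ← hc₀, ← Functor.map_comp, ← Functor.map_comp,
      pullback.condition]
  obtain ⟨E, w, pr', psq⟩ := hsep.1 (pullback.lift _ _ hβ)
  have hw : IsClosedImmersion w.left := hsep.2 _ _ w psq
  have e1 : pr' = (yon S).map w ≫ (yon S).map (pullback.fst pT c₀) ≫ lP := by
    have := psq.w =≫ pullback.fst pr pr
    rwa [Category.assoc, pullback.diagonal_fst, Category.comp_id, Category.assoc,
      pullback.lift_fst] at this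
  have e2 : pr' = (yon S).map w ≫ (yon S).map (pullback.snd pT c₀) ≫ q₀ := by
    have := psq.w =≫ pullback.snd pr pr
    rwa [Category.assoc, pullback.diagonal_snd, Category.comp_id, Category.assoc,
      pullback.lift_snd] at this
  have hQ : IsPullback ((yon S).map (pullback.fst pT c₀)) ((yon S).map (pullback.snd pT c₀))
      ((yon S).map pT) ((yon S).map c₀) := (IsPullback.of_hasPullback pT c₀).map (yon S)
  refine ⟨E, w, hw, ?_⟩
  have hcomm : (yon S).map (w ≫ pullback.snd pT c₀) ≫ q₀ =
      (yon S).map (w ≫ pullback.fst pT c₀) ≫ lP := by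
    rw [Functor.map_comp, Functor.map_comp, Category.assoc, Category.assoc, ← e1, ← e2]
  have hcone : ∀ c : PullbackCone q₀ lP, c.snd ≫ (yon S).map pT = c.fst ≫ (yon S).map c₀ := by
    intro c
    rw [← hlP, hc₀, ← Category.assoc, ← Category.assoc, c.condition]
  have hcond : ∀ c : PullbackCone q₀ lP, (c.fst ≫ q₀) ≫ pullback.diagonal pr =
      hQ.lift c.snd c.fst (hcone c) ≫ pullback.lift _ _ hβ := by
    intro c
    apply pullback.hom_ext
    · rw [Category.assoc, pullback.diagonal_fst, Category.comp_id, Category.assoc,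
        pullback.lift_fst, ← Category.assoc, hQ.lift_fst, c.condition]
    · rw [Category.assoc, pullback.diagonal_snd, Category.comp_id, Category.assoc,
        pullback.lift_snd, ← Category.assoc, hQ.lift_snd]
  refine ⟨⟨hcomm⟩, ⟨PullbackCone.IsLimit.mk _
    (fun c => psq.lift (c.fst ≫ q₀) (hQ.lift c.snd c.fst (hcone c)) (hcond c)) ?_ ?_ ?_⟩⟩
  · intro c
    rw [Functor.map_comp, ← Category.assoc, psq.lift_snd, hQ.lift_snd]
  · intro c
    rw [Functor.map_comp, ← Category.assoc, psq.lift_snd, hQ.lift_fst]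
  · intro c m hm1 hm2
    have hmw : m ≫ (yon S).map w = hQ.lift c.snd c.fst (hcone c) := by
      apply hQ.hom_ext
      · rw [hQ.lift_fst, Category.assoc, ← Functor.map_comp, hm2]
      · rw [hQ.lift_snd, Category.assoc, ← Functor.map_comp, hm1]
    apply psq.hom_ext
    · rw [psq.lift_fst, e2, ← Category.assoc, hmw, ← Category.assoc, hQ.lift_snd]
    · rw [psq.lift_snd, hmw]

/-- **Descent of lifts along dominating extensions**: for a separated morphism of algebraic
spaces, a valuative square with a dotted arrow after a dominating extension of the valuation ring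
has a dotted arrow. -/
theorem hasLift_of_domExt {X Y : AlgSp.Space S} (f : X ⟶ Y)
    (hf : AlgSp.IsSeparatedMor f.hom) (sq : AlgSp.ValSq f.hom) (e : sq.DomExt) (he : e.HasLift) :
    sq.HasLift := by
  obtain ⟨l', hl1, hl2⟩ := (hasLift_iff e).1 he
  haveI : IsLocalHom e.φ := e.isLocalHom
  have sqP := IsPullback.of_hasPullback f.hom sq.bot
  have hP : AlgSp.IsAlgSpace (pullback f.hom sq.bot) :=
    Groth.Agent.S9874.isAlgSpace_of_isPullback Y.property.diag X.property
      (AlgSp.IsAlgSpace.yon_obj _) sqP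
  have hsepW : AlgSp.IsSeparatedMor (pullback.snd f.hom sq.bot) :=
    Groth.Agent.Lib.Helper12.Proper.isSeparatedMor_baseChange sqP hf
  obtain ⟨s, hs1, hs2⟩ : ∃ s : (AlgSp.yon S).obj sq.ptK ⟶ pullback f.hom sq.bot,
      s ≫ pullback.fst f.hom sq.bot = sq.top ∧
        s ≫ pullback.snd f.hom sq.bot = (AlgSp.yon S).map sq.j :=
    ⟨pullback.lift sq.top ((AlgSp.yon S).map sq.j) sq.comm, pullback.lift_fst _ _ _,
      pullback.lift_snd _ _ _⟩
  obtain ⟨lP, hlP1, hlP2⟩ : ∃ lP : (AlgSp.yon S).obj e.ptA' ⟶ pullback f.hom sq.bot,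
      lP ≫ pullback.fst f.hom sq.bot = l' ∧
        lP ≫ pullback.snd f.hom sq.bot = (AlgSp.yon S).map (domφ e) :=
    ⟨pullback.lift l' ((AlgSp.yon S).map (domφ e)) hl2, pullback.lift_fst _ _ _,
      pullback.lift_snd _ _ _⟩
  have hm : (AlgSp.yon S).map (domk e) ≫ lP = (AlgSp.yon S).map (domΨ e) ≫ s := by
    apply pullback.hom_ext
    · rw [Category.assoc, hlP1, hl1, Category.assoc, hs1]
    · rw [Category.assoc, hlP2, Category.assoc, hs2, ← Functor.map_comp, ← Functor.map_comp,
        domk_domφ]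
  have H1 : ∀ ⦃Z : Over S⦄ (x₀ x₁ : Z ⟶ e.ptA'), x₀ ≫ domφ e = x₁ ≫ domφ e →
      (yon S).map x₀ ≫ lP = (yon S).map x₁ ≫ lP := by
    intro Z x₀ x₁ h
    apply pullback.hom_ext
    · rw [Category.assoc, Category.assoc, hlP1]
      exact eq_of_domExt e hf l' hl1 hl2 x₀ x₁ h
    · rw [Category.assoc, Category.assoc, hlP2, ← Functor.map_comp, ← Functor.map_comp, h]
  -- `Spec A' ⟶ Spec A` is an fpqc covering
  letI : Algebra sq.A e.A' := e.φ.toAlgebra
  haveI : IsLocalHom (algebraMap sq.A e.A') := e.isLocalHom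
  have hff : Module.FaithfullyFlat sq.A e.A' :=
    faithfullyFlat_of_injective_of_isLocalHom (φ_injective e)
  have hfs : Flat (Spec.map (CommRingCat.ofHom e.φ)) ∧
      Surjective (Spec.map (CommRingCat.ofHom e.φ)) :=
    (flat_and_surjective_SpecMap_iff _).2 hff
  haveI : Flat (domφ e).left := hfs.1
  haveI : Surjective (domφ e).left := hfs.2
  haveI : QuasiCompact (domφ e).left :=
    inferInstanceAs (QuasiCompact (Spec.map (CommRingCat.ofHom e.φ)))
  -- an affine étale chart at the image of the closed point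
  obtain ⟨W₀, q₀, w'₀, hW₀, hq₀e, hw'₀⟩ :=
    Groth.Agent.Lib.H5bDvrExt.exists_affine_chart_at hP
      (AlgSp.Points.ofPt lP (closedPoint e.A'))
  obtain ⟨c₀, hc₀⟩ := (yon S).map_surjective (q₀ ≫ pullback.snd f.hom sq.bot)
  obtain ⟨V, w, hw, sqV⟩ := exists_chart_pullback (domφ e) _ hsepW lP hlP2 q₀ c₀ hc₀
  haveI := hW₀
  haveI := hw
  haveI : IsAffine e.ptA'.left := inferInstanceAs (IsAffine (Spec _))
  haveI : IsAffine sq.ptA.left := inferInstanceAs (IsAffine (Spec _))
  have hQ := (IsPullback.of_hasPullback (domφ e) c₀).map (Over.forget S)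
  haveI : IsAffine (pullback (domφ e) c₀).left :=
    IsAffine.of_isIso (Y := pullback (domφ e).left c₀.left) hQ.isoPullback.hom
  haveI : IsAffine V.left := isAffine_of_isAffineHom w.left
  haveI : IsAffineHom (w ≫ pullback.fst (domφ e) c₀).left := isAffineHom_of_isAffine _
  haveI : Etale (w ≫ pullback.fst (domφ e) c₀).left := hq₀e.2 _ _ _ sqV
  haveI : Surjective (w ≫ pullback.fst (domφ e) c₀).left := by
    constructor
    intro x
    obtain ⟨y, -, hy2⟩ := Groth.Agent.S10176.exists_point_of_isPullback_yon sqV w'₀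
      (closedPoint e.A') hw'₀
    have hopen : IsOpen (Set.range (w ≫ pullback.fst (domφ e) c₀).left) :=
      (w ≫ pullback.fst (domφ e) c₀).left.isOpenMap.isOpen_range
    have hx : x ⤳ closedPoint e.A' := specializes_closedPoint _
    exact hx.mem_open hopen ⟨y, hy2⟩
  obtain ⟨σ, hσ1, hσ2⟩ := exists_section_of_fpqc (domφ e) _ hsepW lP hlP2 q₀ _ _ sqV H1
  have hσs : (yon S).map sq.j ≫ σ = s := by
    letI : Algebra sq.K e.K' := e.ψ.toAlgebra
    have hffK : Module.FaithfullyFlat sq.K e.K' := inferInstance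
    have hfsK : Flat (Spec.map (CommRingCat.ofHom e.ψ)) ∧
        Surjective (Spec.map (CommRingCat.ofHom e.ψ)) :=
      (flat_and_surjective_SpecMap_iff _).2 hffK
    haveI : Flat (domΨ e).left := hfsK.1
    haveI : Surjective (domΨ e).left := hfsK.2
    haveI : QuasiCompact (domΨ e).left :=
      inferInstanceAs (QuasiCompact (Spec.map (CommRingCat.ofHom e.ψ)))
    refine eq_of_comp_fpqc_eq _ hsepW (domΨ e) _ _ ?_ ?_
    · rw [Category.assoc, hσ1, Category.comp_id, hs2]
    · rw [← Category.assoc, ← Functor.map_comp, ← domk_domφ, Functor.map_comp, Category.assoc,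
        hσ2, hm]
  refine ⟨σ ≫ pullback.fst f.hom sq.bot, ?_, ?_⟩
  · rw [← Category.assoc, hσs, hs1]
  · rw [Category.assoc, pullback.condition, ← Category.assoc, hσ1, Category.id_comp]

end Groth.Agent.Lib.H5bValDesc
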