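import Mathlib

/-!
# Sections over a valuation ring from sections over a dominating valuation ring (helper5)
-/

set_option autoImplicit false
set_option linter.style.haveILetI false
universe u
open CategoryTheory CategoryTheory.Limits AlgebraicGeometry

namespace Groth.Agent.Lib.H5bValSec

/-- the algebra: a ring map `B → K` whose composite to `K'` lands in a local domain `A'` dominating the valuation ring `A`
of `K` factors through `A`. -/
theorem exists_factor {A K A' K' B : Type u} [CommRing A] [IsDomain A] [ValuationRing A] [Field K]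
    [Algebra A K] [IsFractionRing A K] [CommRing A'] [Field K'] [Algebra A' K']
    [IsFractionRing A' K'] (φ : A →+* A') (ψ : K →+* K')
    (comm : (algebraMap A' K').comp φ = ψ.comp (algebraMap A K)) [IsLocalHom φ]
    [CommRing B] (βK : B →+* K) (β' : B →+* A')
    (h : (algebraMap A' K').comp β' = ψ.comp βK) :
    ∃ β : B →+* A, (algebraMap A K).comp β = βK := by
  have hinj : Function.Injective (algebraMap A K) := IsFractionRing.injective A K
  have hinj' : Function.Injective (algebraMap A' K') := IsFractionRing.injective A' K'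
  have key : ∀ b : B, ∃ a : A, algebraMap A K a = βK b := by
    intro b
    rcases ValuationRing.isInteger_or_isInteger A (βK b) with ⟨a, ha⟩ | ⟨a, ha⟩
    · exact ⟨a, ha⟩
    · -- `a = (βK b)⁻¹`
      by_cases hb : βK b = 0
      · exact ⟨0, by rw [hb, map_zero]⟩
      have h1 : algebraMap A K a * βK b = 1 := by rw [ha]; exact inv_mul_cancel₀ hb
      have h2 : algebraMap A' K' (φ a * β' b) = 1 := by
        rw [map_mul]
        have e1 : algebraMap A' K' (φ a) = ψ (algebraMap A K a) := congrFun (congrArg DFunLike.coe comm) a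
        have e2 : algebraMap A' K' (β' b) = ψ (βK b) := congrFun (congrArg DFunLike.coe h) b
        rw [e1, e2, ← map_mul, h1, map_one]
      have h3 : φ a * β' b = 1 := hinj' (by rw [h2, map_one])
      have h4 : IsUnit (φ a) := IsUnit.of_mul_eq_one _ h3
      have h5 : IsUnit a := IsLocalHom.map_nonunit a h4
      obtain ⟨c, hc⟩ := h5.exists_left_inv
      refine ⟨c, ?_⟩
      have : algebraMap A K c * algebraMap A K a = 1 := by rw [← map_mul, hc, map_one]
      calc algebraMap A K c = algebraMap A K c * (algebraMap A K a * βK b) := by rw [h1, mul_one]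
        _ = (algebraMap A K c * algebraMap A K a) * βK b := by ring
        _ = βK b := by rw [this, one_mul]
  choose g hg using key
  refine ⟨{ toFun := g, map_one' := ?_, map_mul' := ?_, map_zero' := ?_, map_add' := ?_ }, ?_⟩
  · apply hinj; rw [hg, map_one, map_one]
  · intro x y; apply hinj; rw [hg, map_mul, map_mul, hg, hg]
  · apply hinj; rw [hg, map_zero, map_zero]
  · intro x y; apply hinj; rw [hg, map_add, map_add, hg, hg]
  · ext b; exact hg b

/-- **sections descend along dominating extensions of valuation rings** (for schemes): if a scheme `T` over `Spec A`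
has a `K`-point and an `A'`-point compatible over `K'`, then it has an `A`-point restricting to the `K`-point. -/
theorem exists_section {A K A' K' : Type u} [CommRing A] [IsDomain A] [ValuationRing A] [Field K]
    [Algebra A K] [IsFractionRing A K] [CommRing A'] [IsDomain A'] [ValuationRing A'] [Field K']
    [Algebra A' K'] [IsFractionRing A' K'] (φ : A →+* A') (ψ : K →+* K')
    (comm : (algebraMap A' K').comp φ = ψ.comp (algebraMap A K)) [IsLocalHom φ]
    {T : Scheme.{u}} (t : T ⟶ Spec (CommRingCat.of A)) (aK : Spec (CommRingCat.of K) ⟶ T)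
    (a' : Spec (CommRingCat.of A') ⟶ T)
    (h1 : aK ≫ t = Spec.map (CommRingCat.ofHom (algebraMap A K)))
    (h3 : Spec.map (CommRingCat.ofHom (algebraMap A' K')) ≫ a' =
      Spec.map (CommRingCat.ofHom ψ) ≫ aK) :
    ∃ σ : Spec (CommRingCat.of A) ⟶ T, σ ≫ t = 𝟙 _ ∧
      Spec.map (CommRingCat.ofHom (algebraMap A K)) ≫ σ = aK := by
  obtain ⟨W, hyW⟩ : ∃ W : T.affineOpens, a' (IsLocalRing.closedPoint A') ∈ W.1 := by
    obtain ⟨_, ⟨W, hW, rfl⟩, hy, -⟩ := T.isBasis_affineOpens.exists_subset_of_mem_open
      (Set.mem_univ (a' (IsLocalRing.closedPoint A'))) isOpen_univ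
    exact ⟨⟨W, hW⟩, hy⟩
  have hW := W.2
  have hra : Set.range a' ⊆ Set.range hW.fromSpec := by
    rw [hW.range_fromSpec]
    rintro _ ⟨z, rfl⟩
    have hz : z ⤳ IsLocalRing.closedPoint A' := IsLocalRing.specializes_closedPoint (R := A') z
    exact (hz.map a'.continuous).mem_open W.1.2 hyW
  have hrK : Set.range aK ⊆ Set.range hW.fromSpec := by
    rintro _ ⟨z, rfl⟩
    have hz : z = Spec.map (CommRingCat.ofHom ψ) (IsLocalRing.closedPoint K') :=
      @Subsingleton.elim (PrimeSpectrum K) inferInstance _ _
    rw [hz, ← Scheme.Hom.comp_apply, ← h3, Scheme.Hom.comp_apply]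
    exact hra ⟨_, rfl⟩
  have ebA' : IsOpenImmersion.lift hW.fromSpec a' hra ≫ hW.fromSpec = a' :=
    IsOpenImmersion.lift_fac _ _ _
  have ebK : IsOpenImmersion.lift hW.fromSpec aK hrK ≫ hW.fromSpec = aK :=
    IsOpenImmersion.lift_fac _ _ _
  have hα : Spec.map (Spec.preimage (hW.fromSpec ≫ t)) = hW.fromSpec ≫ t := Spec.map_preimage _
  have hβ' : Spec.map (Spec.preimage (IsOpenImmersion.lift hW.fromSpec a' hra)) =
      IsOpenImmersion.lift hW.fromSpec a' hra := Spec.map_preimage _
  have hβK : Spec.map (Spec.preimage (IsOpenImmersion.lift hW.fromSpec aK hrK)) =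
      IsOpenImmersion.lift hW.fromSpec aK hrK := Spec.map_preimage _
  generalize Spec.preimage (hW.fromSpec ≫ t) = α at hα
  generalize Spec.preimage (IsOpenImmersion.lift hW.fromSpec a' hra) = β' at hβ'
  generalize Spec.preimage (IsOpenImmersion.lift hW.fromSpec aK hrK) = βK at hβK
  have e1 : (algebraMap A' K').comp β'.hom = ψ.comp βK.hom := by
    have h : Spec.map (CommRingCat.ofHom (algebraMap A' K')) ≫ Spec.map β' =
        Spec.map (CommRingCat.ofHom ψ) ≫ Spec.map βK := by
      rw [← cancel_mono hW.fromSpec, Category.assoc, Category.assoc, hβ', hβK, ebA', ebK, h3]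
    rw [← Spec.map_comp, ← Spec.map_comp] at h
    have h' := Spec.map_injective h
    exact congrArg CommRingCat.Hom.hom h'
  have e2 : βK.hom.comp α.hom = algebraMap A K := by
    have h : Spec.map βK ≫ Spec.map α = Spec.map (CommRingCat.ofHom (algebraMap A K)) := by
      rw [hα, hβK, ← Category.assoc, ebK, h1]
    rw [← Spec.map_comp] at h
    exact congrArg CommRingCat.Hom.hom (Spec.map_injective h)
  obtain ⟨β, hβ⟩ := exists_factor φ ψ comm βK.hom β'.hom e1
  have e3 : α ≫ CommRingCat.ofHom β = 𝟙 _ := by
    ext a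
    apply IsFractionRing.injective A K
    show algebraMap A K (β (α.hom a)) = algebraMap A K a
    have := congrFun (congrArg DFunLike.coe hβ) (α.hom a)
    have h2 := congrFun (congrArg DFunLike.coe e2) a
    simp only [RingHom.coe_comp, Function.comp_apply] at this h2
    rw [this, h2]
  refine ⟨Spec.map (CommRingCat.ofHom β) ≫ hW.fromSpec, ?_, ?_⟩
  · rw [Category.assoc, ← hα, ← Spec.map_comp, e3, Spec.map_id]
  · rw [← Category.assoc, ← Spec.map_comp, ← ebK, ← hβK]
    congr 2
    ext b
    exact congrFun (congrArg DFunLike.coe hβ) b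

end Groth.Agent.Lib.H5bValSec
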