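import Mathlib

/-!
# Fibre products of finite families over a base: elementary universal property (helper5)

`IsWPF K' f P b π`: `P` with `b : P ⟶ K` and `π k : P ⟶ K' k` is a fibre product over `K` of the
family `f k : K' k ⟶ K`, `k : Fin n`.  Family version of `Helper16.WidePB.IsWP`.
-/

set_option autoImplicit false
set_option linter.unusedVariables false
universe v u

open CategoryTheory Limits Opposite

namespace Groth.Agent.Lib.H5bWPF

variable {E : Type u} [Category.{v} E]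

/-- elementary universal property of the fibre product over `K` of a finite family. -/
structure IsWPF {K : E} {n : ℕ} (K' : Fin n → E) (f : ∀ k, K' k ⟶ K) (P : E) (b : P ⟶ K)
    (π : ∀ k, P ⟶ K' k) : Prop where
  w : ∀ k, π k ≫ f k = b
  ex : ∀ (T : E) (t : T ⟶ K) (s : ∀ k, T ⟶ K' k), (∀ k, s k ≫ f k = t) →
    ∃ l : T ⟶ P, l ≫ b = t ∧ ∀ k, l ≫ π k = s k
  uniq : ∀ (T : E) (l l' : T ⟶ P), l ≫ b = l' ≫ b → (∀ k, l ≫ π k = l' ≫ π k) → l = l'

variable {K : E}

theorem IsWPF.unique {n : ℕ} {K' : Fin n → E} {f : ∀ k, K' k ⟶ K} {P : E} {b : P ⟶ K}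
    {π : ∀ k, P ⟶ K' k} (h : IsWPF K' f P b π)
    {P' : E} {b' : P' ⟶ K} {π' : ∀ k, P' ⟶ K' k} (h' : IsWPF K' f P' b' π') :
    ∃ e : P' ≅ P, e.hom ≫ b = b' ∧ ∀ k, e.hom ≫ π k = π' k := by
  obtain ⟨l, hl, hl'⟩ := h.ex P' b' π' h'.w
  obtain ⟨m, hm, hm'⟩ := h'.ex P b π h.w
  refine ⟨⟨l, m, ?_, ?_⟩, hl, hl'⟩
  · apply h'.uniq
    · rw [Category.assoc, hm, hl, Category.id_comp]
    · intro i
      rw [Category.assoc, hm', hl', Category.id_comp]
  · apply h.uniq
    · rw [Category.assoc, hl, hm, Category.id_comp]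
    · intro i
      rw [Category.assoc, hl', hm', Category.id_comp]

/-- the fibre product of a one-member family is its member. -/
theorem isWPF_one (K' : Fin 1 → E) (f : ∀ k, K' k ⟶ K) :
    IsWPF K' f (K' 0) (f 0) (fun k => eqToHom (by rw [Subsingleton.elim k 0])) where
  w k := by
    obtain rfl : k = 0 := Subsingleton.elim k 0
    simp
  ex T t s hs := ⟨s 0, hs 0, fun k => by
    obtain rfl : k = 0 := Subsingleton.elim k 0
    simp⟩
  uniq T l l' _ h2 := by simpa using h2 0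

theorem IsWPF.succ {n : ℕ} {K' : Fin (n + 1) → E} {f : ∀ k, K' k ⟶ K} {P : E} {b : P ⟶ K}
    {π : ∀ k : Fin n, P ⟶ K' k.castSucc}
    (h : IsWPF (fun k : Fin n => K' k.castSucc) (fun k => f k.castSucc) P b π)
    {Q : E} {q1 : Q ⟶ P} {q2 : Q ⟶ K' (Fin.last n)} (hQ : IsPullback q1 q2 b (f (Fin.last n))) :
    IsWPF K' f Q (q1 ≫ b)
      (Fin.snoc (α := fun k => Q ⟶ K' k) (fun i => q1 ≫ π i) q2) where
  w i := by
    refine Fin.lastCases ?_ (fun j => ?_) i
    · rw [Fin.snoc_last]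
      exact hQ.w.symm
    · rw [Fin.snoc_castSucc, Category.assoc, h.w]
  ex T t s hs := by
    obtain ⟨l₀, hl₀, hl₀'⟩ := h.ex T t (fun i => s i.castSucc) (fun i => hs _)
    obtain ⟨l, hl1, hl2⟩ : ∃ l : T ⟶ Q, l ≫ q1 = l₀ ∧ l ≫ q2 = s (Fin.last n) :=
      ⟨hQ.lift l₀ (s (Fin.last n)) (by rw [hl₀, hs]), hQ.lift_fst _ _ _, hQ.lift_snd _ _ _⟩
    refine ⟨l, by rw [← Category.assoc, hl1, hl₀], fun i => ?_⟩
    refine Fin.lastCases ?_ (fun j => ?_) i
    · rw [Fin.snoc_last, hl2]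
    · rw [Fin.snoc_castSucc, ← Category.assoc, hl1, hl₀']
  uniq T l l' h1 h2 := by
    apply hQ.hom_ext
    · apply h.uniq
      · simpa using h1
      · intro i
        have := h2 i.castSucc
        rw [Fin.snoc_castSucc] at this
        simpa using this
    · have := h2 (Fin.last n)
      rw [Fin.snoc_last] at this
      exact this

theorem isWPF_widePullback {n : ℕ} (K' : Fin n → E) (f : ∀ k, K' k ⟶ K)
    [HasWidePullback K K' f] :
    IsWPF K' f (widePullback K K' f) (WidePullback.base f) (fun k => WidePullback.π f k) where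
  w k := WidePullback.π_arrow _ k
  ex T t s hs := ⟨WidePullback.lift t s hs, WidePullback.lift_base _ _ _ _,
    fun k => WidePullback.lift_π _ _ _ _ _⟩
  uniq T l l' h1 h2 := WidePullback.hom_ext _ _ _ h2 h1

end Groth.Agent.Lib.H5bWPF
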