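import Mathlib
import Groth.Prelude
import Groth.Agent.Lib.H5bWPFA
import Groth.Agent.Lib.H5bBootC
import Groth.Agent.Lib.Helper12LocPCases
import Groth.Agent.Lib.Helper15MonoSep
import Groth.Agent.S10176
import Groth.Agent.S10177

/-!
# Čech descent of properties along covers by schemes (helper5)

`step`: the inductive step for `S10511`.  If a property `P` of sheaves over an algebraic space `X`
descends along fppf coverings (in the Čech sense: from all iterated fibre products) and holds for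
all flat lfp `V ⟶ X` with `V ≅ h_T`, `𝒬 T`, then it holds for `a : U ⟶ X` flat lfp as soon as `U`
has a covering by schemes `h_{T i} ⟶ U` with `𝒬 (T i)`, whose members are representable flat lfp
with a property `ℛ` such that `𝒬` passes to sources of morphisms with `ℛ`.
-/

set_option autoImplicit false
set_option linter.style.haveILetI false
set_option linter.unusedVariables false
universe u

open CategoryTheory CategoryTheory.Limits AlgebraicGeometry Opposite AlgSp

namespace Groth.Agent.Lib.H5bWPF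

open Groth.Agent.Lib.Helper12.LocPCases

variable {S : Scheme.{u}}

/-- `LocP` is insensitive to precomposition with an isomorphism. -/
lemma locP_iso_comp (P : MorphismProperty Scheme.{u}) {F F' G : AlgSp.Sp S} (e : F' ≅ F)
    (f : F ⟶ G) (hf : AlgSp.LocP P f) : AlgSp.LocP P (e.hom ≫ f) := by
  intro U V a b h ha hb hcomm
  refine hf (a ≫ e.hom) b h ?_ hb (by rw [Category.assoc, hcomm])
  exact MorphismProperty.RespectsIso.postcomp _ e.hom a ha

/-- iterated fibre products over an algebraic space of schemes are schemes, with control. -/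
theorem exists_isWPF_yon {U : AlgSp.Sp S} (hU : AlgSp.IsAlgSpace U)
    (𝒬 : Over S → Prop) (ℛ : MorphismProperty Scheme.{u})
    (hstep : ∀ (W W' : Over S) (p : W' ⟶ W), ℛ p.left → 𝒬 W → 𝒬 W') :
    ∀ (n : ℕ) (T : Fin (n + 1) → Over S) (g : ∀ k, (AlgSp.yon S).obj (T k) ⟶ U),
      (∀ k, 𝒬 (T k)) → (∀ k, AlgSp.RepWith @Flat (g k)) →
      (∀ k, AlgSp.RepWith @LocallyOfFinitePresentation (g k)) → (∀ k, AlgSp.RepWith ℛ (g k)) →
      ∃ (W : Over S) (b : (AlgSp.yon S).obj W ⟶ U) (π : ∀ k, (AlgSp.yon S).obj W ⟶ (AlgSp.yon S).obj (T k)),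
        IsWPF (fun k => (AlgSp.yon S).obj (T k)) g ((AlgSp.yon S).obj W) b π ∧ 𝒬 W ∧
          AlgSp.RepWith @Flat b ∧ AlgSp.RepWith @LocallyOfFinitePresentation b := by
  intro n
  induction n with
  | zero =>
    intro T g h0 hF hP hR
    exact ⟨T 0, g 0, _, isWPF_one (fun k => (AlgSp.yon S).obj (T k)) g, h0 0, hF 0, hP 0⟩
  | succ n ih =>
    intro T g h0 hF hP hR
    obtain ⟨W, b, π, hW, hQ, hbF, hbP⟩ := ih (fun k => T k.castSucc) (fun k => g k.castSucc)
      (fun k => h0 _) (fun k => hF _) (fun k => hP _) (fun k => hR _)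
    have hrep : AlgSp.Representable (g (Fin.last (n + 1))) := hU.representable_from_yon _
    obtain ⟨W', p, q, sq⟩ := hrep b
    -- sq : IsPullback q (yon.map p) (g last) b
    have hℛ : ℛ p.left := ((AlgSp.repWith_iff ℛ _).1 (hR (Fin.last (n + 1)))).2 b q p sq
    have h1F : AlgSp.RepWith @Flat ((AlgSp.yon S).map p) :=
      MorphismProperty.of_isPullback (P := AlgSp.RepWith @Flat) sq (hF _)
    have h1P : AlgSp.RepWith @LocallyOfFinitePresentation ((AlgSp.yon S).map p) :=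
      MorphismProperty.of_isPullback (P := AlgSp.RepWith @LocallyOfFinitePresentation) sq (hP _)
    refine ⟨W', (AlgSp.yon S).map p ≫ b, _, IsWPF.succ hW sq.flip, hstep W W' p hℛ hQ, ?_, ?_⟩
    · exact MorphismProperty.comp_mem _ _ _ h1F hbF
    · exact MorphismProperty.comp_mem _ _ _ h1P hbP

/-- the inductive step of Čech descent. -/
theorem step (X : AlgSp.Space S)
    (P : ∀ ⦃U : AlgSp.Sp S⦄, (U ⟶ X.obj) → Prop)
    (hP : ∀ ⦃U : AlgSp.Sp S⦄ (a : U ⟶ X.obj), AlgSp.IsAlgSpace U →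
      ∀ ⦃ι : Type u⦄ (Ui : ι → AlgSp.Sp S) (g : ∀ i, Ui i ⟶ U), (∀ i, AlgSp.IsAlgSpace (Ui i)) →
      AlgSp.IsFppfCover Ui g →
      (∀ (n : ℕ) (c : Fin (n + 1) → ι),
        P (WidePullback.base (fun k : Fin (n + 1) => g (c k)) ≫ a)) → P a)
    (𝒬 : Over S → Prop) (ℛ : MorphismProperty Scheme.{u})
    (hstep : ∀ (W W' : Over S) (p : W' ⟶ W), ℛ p.left → 𝒬 W → 𝒬 W')
    (h𝒬 : ∀ ⦃V : AlgSp.Sp S⦄ (a' : V ⟶ X.obj) (T : Over S) (e : V ≅ (AlgSp.yon S).obj T), 𝒬 T →
      AlgSp.LocP @Flat a' → AlgSp.LocP @LocallyOfFinitePresentation a' → P a')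
    {U : AlgSp.Sp S} (a : U ⟶ X.obj) (hU : AlgSp.IsAlgSpace U)
    (haF : AlgSp.LocP @Flat a) (haP : AlgSp.LocP @LocallyOfFinitePresentation a)
    {ι : Type u} (T : ι → Over S) (g : ∀ i, (AlgSp.yon S).obj (T i) ⟶ U)
    (hcov : ∀ x : AlgSp.Points U, ∃ i, x ∈ Set.range (AlgSp.Points.ofPt (g i)))
    (h0 : ∀ i, 𝒬 (T i)) (hF : ∀ i, AlgSp.RepWith @Flat (g i))
    (hfp : ∀ i, AlgSp.RepWith @LocallyOfFinitePresentation (g i)) (hR : ∀ i, AlgSp.RepWith ℛ (g i)) :
    P a := by
  refine hP a hU (fun i => (AlgSp.yon S).obj (T i)) g (fun i => AlgSp.IsAlgSpace.yon_obj _) ?_ ?_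
  · refine ⟨fun i => ⟨Groth.Agent.Lib.H5bBoot.locP_of_repWith good_flat _ (hF i),
      Groth.Agent.Lib.H5bBoot.locP_of_repWith good_lfp _ (hfp i)⟩, fun x => ?_⟩
    obtain ⟨i, t, rfl⟩ := hcov x
    exact ⟨i, AlgSp.Points.ofPt (𝟙 _) t, by rw [AlgSp.Points.map_ofPt, Category.id_comp]⟩
  · intro n c
    obtain ⟨W, b, π, hW, hQ, hbF, hbP⟩ := exists_isWPF_yon hU 𝒬 ℛ hstep n (fun k => T (c k))
      (fun k => g (c k)) (fun k => h0 _) (fun k => hF _) (fun k => hfp _) (fun k => hR _)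
    obtain ⟨e, he, -⟩ := hW.unique (isWPF_widePullback (fun k => (AlgSp.yon S).obj (T (c k)))
      (fun k => g (c k)))
    -- e : widePullback ≅ yon W, e.hom ≫ b = base
    rw [← he, Category.assoc]
    refine h𝒬 _ W e hQ ?_ ?_
    · refine locP_iso_comp _ e _ ?_
      exact good_flat.locP_comp hU X.property _ _
        (Groth.Agent.Lib.H5bBoot.locP_of_repWith good_flat _ hbF) haF
    · refine locP_iso_comp _ e _ ?_
      exact good_lfp.locP_comp hU X.property _ _
        (Groth.Agent.Lib.H5bBoot.locP_of_repWith good_lfp _ hbP) haP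

end Groth.Agent.Lib.H5bWPF
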