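import Mathlib
import Groth.Prelude.Def_AlgSp
import Groth.Prelude.Def_AlgSpRep
import Groth.Agent.Lib.Helper9QuotSh
import Groth.Agent.S14276

/-!
# Zariski sheaves covered by fppf subsheaves (helper5)

* `zariski_mem_of_fppf`: an fppf covering sieve is refined, Zariski locally, by single fppf coverings
  of open subschemes;
* `mem_of_locally_mem`: membership in a subfunctor whose inclusion is representable by algebraic
  spaces is an fppf local condition;
* `isSheaf_of_zariski_of_subsheaves`: a Zariski sheaf which is fppf locally covered by fppf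
  subsheaves with inclusions representable by algebraic spaces is an fppf sheaf.
-/

set_option autoImplicit false
set_option linter.style.haveILetI false
set_option linter.unusedSectionVars false
set_option linter.unusedVariables false
universe u v

open CategoryTheory CategoryTheory.Limits AlgebraicGeometry AlgSp Opposite

namespace Groth.Agent.Lib.H5bZarFppf

variable {S : Scheme.{u}}

/-- the big Zariski topology of `S`. -/
abbrev Jz (S : Scheme.{u}) : GrothendieckTopology (Over S) :=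
  QuotSh.J Scheme.zariskiPrecoverage S

/-- an fppf covering sieve is refined, Zariski locally, by single fppf coverings of opens. -/
theorem zariski_mem_of_fppf {T : Over S} (R : Sieve T) (hR : R ∈ AlgSp.J S T) (Q : Sieve T)
    (h : ∀ (W : T.left.Opens) (P : Scheme.{u}) (c : P ⟶ (W : Scheme.{u})) (k : P ⟶ T.left),
      Flat c → LocallyOfFinitePresentation c → Surjective c → c ≫ W.ι = k →
      R.arrows (Over.homMk k : Over.mk (k ≫ T.hom) ⟶ T) →
      Q.arrows (Over.homMk W.ι : Over.mk (W.ι ≫ T.hom) ⟶ T)) :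
    Q ∈ Jz S T := by
  rw [GrothendieckTopology.mem_over_iff,
    Precoverage.mem_toGrothendieck_iff_of_isStableUnderComposition] at hR
  obtain ⟨R₀, hR₀, hle⟩ := hR
  obtain ⟨hsurj, hprop⟩ := (Groth.Agent.S14276.mem_precoverage_iff').1 hR₀
  let I := {p : Σ U : Scheme.{u}, (U ⟶ T.left) // R₀ p.2}
  have hfl : ∀ p : I, Flat p.1.2 := fun p => (hprop p.1.2 p.2).1
  have hfp : ∀ p : I, LocallyOfFinitePresentation p.1.2 := fun p => (hprop p.1.2 p.2).2
  have hopen : ∀ p : I, IsOpen (Set.range p.1.2.base) := fun p => by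
    haveI := hfl p
    haveI := hfp p
    exact p.1.2.isOpenMap.isOpen_range
  let W : I → T.left.Opens := fun p => ⟨Set.range p.1.2.base, hopen p⟩
  have hmem : Presieve.ofArrows (fun p : I => ((W p : T.left.Opens) : Scheme.{u}))
      (fun p => (W p).ι) ∈ Scheme.zariskiPrecoverage T.left := by
    refine Groth.Agent.S14276.mem_precoverage_iff'.2 ⟨fun x => ?_, ?_⟩
    · obtain ⟨U, g, hg, y, hy⟩ := hsurj x
      refine ⟨_, (W ⟨⟨U, g⟩, hg⟩).ι, Presieve.ofArrows.mk (⟨⟨U, g⟩, hg⟩ : I), ?_⟩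
      rw [Scheme.Opens.range_ι]
      exact ⟨y, hy⟩
    · rintro Y g ⟨p⟩
      exact (inferInstance : IsOpenImmersion (W p).ι)
  rw [GrothendieckTopology.mem_over_iff]
  refine GrothendieckTopology.superset_covering _ ?_ (Precoverage.generate_mem_toGrothendieck hmem)
  rintro Y a ⟨Y', b, _, ⟨p⟩, rfl⟩
  rw [Sieve.overEquiv_iff]
  haveI := hfl p
  haveI := hfp p
  -- the single covering of `W p`
  have hk : R.arrows (Over.homMk (pullback.fst p.1.2 (W p).ι ≫ p.1.2) :
      Over.mk ((pullback.fst p.1.2 (W p).ι ≫ p.1.2) ≫ T.hom) ⟶ T) := by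
    have h0 := hle _ _ p.2
    rw [Sieve.overEquiv_iff] at h0
    have h1 := R.downward_closed h0 (Over.homMk (pullback.fst p.1.2 (W p).ι) (by simp) :
      Over.mk ((pullback.fst p.1.2 (W p).ι ≫ p.1.2) ≫ T.hom) ⟶ Over.mk (p.1.2 ≫ T.hom))
    convert h1 using 1
    apply Over.OverMorphism.ext
    simp
  haveI : Surjective (pullback.snd p.1.2 (W p).ι) := ⟨by
    intro w
    obtain ⟨y, hy⟩ : (W p).ι w ∈ Set.range p.1.2.base := w.2
    obtain ⟨z, hz1, hz2⟩ := Scheme.Pullback.exists_preimage_pullback y w hy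
    exact ⟨z, hz2⟩⟩
  have hQ := h (W p) _ (pullback.snd p.1.2 (W p).ι) (pullback.fst p.1.2 (W p).ι ≫ p.1.2)
    inferInstance inferInstance inferInstance pullback.condition.symm hk
  have h2 := Q.downward_closed hQ (Over.homMk b (by simp) :
    Over.mk ((b ≫ (W p).ι) ≫ T.hom) ⟶ Over.mk ((W p).ι ≫ T.hom))
  convert h2 using 1
  apply Over.OverMorphism.ext
  simp

section Main

variable (F : AlgSp.PSp S) {ι : Type v} (Fi : ι → AlgSp.PSp S) (m : ∀ i, Fi i ⟶ F)
  [∀ i, Mono (m i)]

/-- the image of a subsheaf is a sheaf. -/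
lemma isSheaf_range (ha : ∀ i, Presheaf.IsSheaf (AlgSp.J S) (Fi i)) (i : ι) :
    Presheaf.IsSheaf (AlgSp.J S) (Subfunctor.range (m i)).toFunctor :=
  (Presheaf.isSheaf_of_iso_iff (asIso (Subfunctor.toRange (m i)))).1 (ha i)

/-- membership in a subfunctor whose inclusion is representable by algebraic spaces is an fppf
local condition. -/
lemma mem_of_locally_mem (hb : ∀ i, AlgSp.RepBySp (m i)) (i : ι) {T : Over S}
    (x : F.obj (op T)) {T' : Over S} (f : T' ⟶ T) (R' : Sieve T') (hR' : R' ∈ AlgSp.J S T')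
    (h : ∀ ⦃T'' : Over S⦄ (g : T'' ⟶ T'), R'.arrows g →
      F.map (g ≫ f).op x ∈ (Subfunctor.range (m i)).obj (op T'')) :
    F.map f.op x ∈ (Subfunctor.range (m i)).obj (op T') := by
  obtain ⟨ξ, hξ⟩ : ∃ ξ : (AlgSp.pyon S).obj T ⟶ F, ξ = uliftYonedaEquiv.symm x := ⟨_, rfl⟩
  have hξapp : ∀ {T'' : Over S} (y : T'' ⟶ T), ξ.app (op T'') (ULift.up y) = F.map y.op x := by
    intro T'' y
    rw [hξ]
    rfl
  obtain ⟨Z, hZ⟩ : ∃ Z : Subfunctor ((AlgSp.pyon S).obj T),
      Z = (Subfunctor.range (m i)).preimage ξ := ⟨_, rfl⟩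
  have sq0 : IsPullback ((Subfunctor.range (m i)).fromPreimage ξ)
      ((Subfunctor.range (m i)).preimage ξ).ι (Subfunctor.range (m i)).ι ξ := by
    apply IsPullback.of_forall_isPullback_app
    intro U
    rw [CategoryTheory.Limits.Types.isPullback_iff]
    refine ⟨?_, ?_, ?_⟩
    · exact congrArg (fun k => k.app U) ((Subfunctor.range (m i)).fromPreimage_ι ξ)
    · rintro ⟨a, ha⟩ ⟨b, hb'⟩ ⟨-, h2⟩
      exact Subtype.ext h2
    · rintro ⟨a, ha⟩ b hab
      have hb' : ξ.app U b ∈ (Subfunctor.range (m i)).obj U := by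
        have : a = ξ.app U b := hab
        rw [← this]
        exact ha
      exact ⟨⟨b, hb'⟩, Subtype.ext hab.symm, rfl⟩
  have sq : IsPullback ((Subfunctor.range (m i)).fromPreimage ξ ≫ inv (Subfunctor.toRange (m i)))
      ((Subfunctor.range (m i)).preimage ξ).ι (m i) ξ := by
    refine IsPullback.of_iso sq0 (Iso.refl _) (asIso (Subfunctor.toRange (m i))).symm (Iso.refl _)
      (Iso.refl _) (by simp) (by simp) ?_ (by simp)
    simp only [Iso.refl_hom, Category.comp_id, Iso.symm_hom, asIso_inv]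
    rw [IsIso.eq_inv_comp, Subfunctor.toRange_ι]
  obtain ⟨hZsh, -⟩ := hb i ξ _ _ sq
  have hshT : Presieve.IsSheaf (AlgSp.J S) ((AlgSp.pyon S).obj T) :=
    (isSheaf_iff_isSheaf_of_type _ _).1 ((AlgSp.yon S).obj T).property
  have key := (Subfunctor.isSheaf_iff ((Subfunctor.range (m i)).preimage ξ) hshT).1
    ((isSheaf_iff_isSheaf_of_type _ _).1 hZsh) (op T') (ULift.up f) ?_
  · have h3 : ξ.app (op T') (ULift.up f) ∈ (Subfunctor.range (m i)).obj (op T') := key
    rw [hξapp] at h3
    exact h3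
  · refine (AlgSp.J S).superset_covering ?_ hR'
    intro T'' g hg
    show ξ.app (op T'') (((AlgSp.pyon S).obj T).map g.op (ULift.up f)) ∈
      (Subfunctor.range (m i)).obj (op T'')
    have h4 : ((AlgSp.pyon S).obj T).map g.op (ULift.up f) = ULift.up (g ≫ f) := rfl
    rw [h4, hξapp]
    exact h g hg

/-- `F` is separated for the fppf topology. -/
lemma isSeparated (h1 : Presheaf.IsSheaf (Jz S) F)
    (ha : ∀ i, Presheaf.IsSheaf (AlgSp.J S) (Fi i)) (hb : ∀ i, AlgSp.RepBySp (m i))
    (hc : ∀ (T : Over S) (x : F.obj (op T)), ∃ R ∈ (AlgSp.J S) T,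
      ∀ ⦃T' : Over S⦄ (f : T' ⟶ T), R.arrows f →
        ∃ i, F.map f.op x ∈ Set.range ((m i).app (op T'))) :
    Presieve.IsSeparated (AlgSp.J S) F := by
  intro T R hR fam t t' ht ht'
  have hagree : ∀ ⦃T' : Over S⦄ (g : T' ⟶ T), R.arrows g → F.map g.op t = F.map g.op t' :=
    fun T' g hg => (ht g hg).trans (ht' g hg).symm
  obtain ⟨Rx, hRx, hix⟩ := hc T t
  have hR₂ : R ⊓ Rx ∈ AlgSp.J S T := (AlgSp.J S).intersection_covering hR hRx
  let Q : Sieve T :=
    { arrows := fun T' a => F.map a.op t = F.map a.op t'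
      downward_closed := by
        intro Y Z f hf g
        show F.map (g ≫ f).op t = F.map (g ≫ f).op t'
        rw [op_comp, Functor.map_comp_apply, Functor.map_comp_apply, hf] }
  have hQ : Q ∈ Jz S T := by
    refine zariski_mem_of_fppf (R ⊓ Rx) hR₂ Q (fun W P c k hcf hcp hcs hck hkR => ?_)
    obtain ⟨i, hi⟩ := hix _ hkR.2
    obtain ⟨ιW, hιW⟩ : ∃ ιW : Over.mk (W.ι ≫ T.hom) ⟶ T, ιW = Over.homMk W.ι := ⟨_, rfl⟩
    obtain ⟨cO, hcO⟩ : ∃ cO : Over.mk (k ≫ T.hom) ⟶ Over.mk (W.ι ≫ T.hom), cO.left = c :=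
      ⟨Over.homMk c (by rw [← hck, Category.assoc]; rfl), rfl⟩
    have hcomp : cO ≫ ιW = Over.homMk k := by
      apply Over.OverMorphism.ext
      rw [Over.comp_left, hcO, hιW]
      exact hck
    haveI : Flat cO.left := by rw [hcO]; exact hcf
    haveI : LocallyOfFinitePresentation cO.left := by rw [hcO]; exact hcp
    haveI : Surjective cO.left := by rw [hcO]; exact hcs
    have hcov : Sieve.generate (Presieve.singleton cO) ∈ AlgSp.J S _ :=
      Groth.Agent.Lib.Helper9.generate_singleton_mem_J_fppf cO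
    have hres : ∀ (y : F.obj (op T)) ⦃T'' : Over S⦄ (g : T'' ⟶ Over.mk (W.ι ≫ T.hom)),
        (Sieve.generate (Presieve.singleton cO)).arrows g →
        ∃ a : T'' ⟶ Over.mk (k ≫ T.hom),
          F.map (g ≫ ιW).op y = F.map a.op (F.map (Over.homMk k : Over.mk (k ≫ T.hom) ⟶ T).op y) := by
      rintro y T'' g ⟨_, a, _, ⟨⟩, rfl⟩
      refine ⟨a, ?_⟩
      rw [Category.assoc, hcomp, op_comp, Functor.map_comp_apply]
    have hmem : ∀ (y : F.obj (op T)),
        F.map (Over.homMk k : Over.mk (k ≫ T.hom) ⟶ T).op y ∈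
          (Subfunctor.range (m i)).obj (op (Over.mk (k ≫ T.hom))) →
        F.map ιW.op y ∈ (Subfunctor.range (m i)).obj (op (Over.mk (W.ι ≫ T.hom))) :=
      fun y hy => mem_of_locally_mem F Fi m hb i y ιW _ hcov (fun T'' g hg => by
        obtain ⟨a, ha'⟩ := hres y g hg
        rw [ha']
        exact (Subfunctor.range (m i)).map a.op hy)
    have hkeq : F.map (Over.homMk k : Over.mk (k ≫ T.hom) ⟶ T).op t =
        F.map (Over.homMk k : Over.mk (k ≫ T.hom) ⟶ T).op t' := hagree _ hkR.1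
    have h1' := hmem t hi
    have h2' := hmem t' (by rw [← hkeq]; exact hi)
    have hsep := ((isSheaf_iff_isSheaf_of_type _ _).1 (isSheaf_range F Fi m ha i)).isSeparated
    have heq : (⟨F.map ιW.op t, h1'⟩ : (Subfunctor.range (m i)).toFunctor.obj
        (op (Over.mk (W.ι ≫ T.hom)))) = ⟨F.map ιW.op t', h2'⟩ := by
      refine (hsep _ hcov).ext (fun T'' g hg => ?_)
      apply Subtype.ext
      show F.map g.op (F.map ιW.op t) = F.map g.op (F.map ιW.op t')
      obtain ⟨a, ha1⟩ := hres t g hg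
      obtain ⟨_, a', _, ⟨⟩, rfl⟩ := hg
      have e1 : F.map (a' ≫ cO).op (F.map ιW.op t) =
          F.map a'.op (F.map (Over.homMk k : Over.mk (k ≫ T.hom) ⟶ T).op t) := by
        rw [← Functor.map_comp_apply, ← Functor.map_comp_apply, ← op_comp, ← op_comp,
          Category.assoc, hcomp]
      have e2 : F.map (a' ≫ cO).op (F.map ιW.op t') =
          F.map a'.op (F.map (Over.homMk k : Over.mk (k ≫ T.hom) ⟶ T).op t') := by
        rw [← Functor.map_comp_apply, ← Functor.map_comp_apply, ← op_comp, ← op_comp,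
          Category.assoc, hcomp]
      rw [e1, e2, hkeq]
    have := congrArg Subtype.val heq
    subst hιW
    exact this
  exact (((isSheaf_iff_isSheaf_of_type _ _).1 h1).isSeparated _ hQ).ext (fun Y g hg => hg)

/-- a single fppf covering of an open subscheme, as a covering in `Over S`. -/
lemma exists_single_cover {T : Over S} (W : T.left.Opens) (P : Scheme.{u})
    (c : P ⟶ (W : Scheme.{u})) (k : P ⟶ T.left) (hcf : Flat c)
    (hcp : LocallyOfFinitePresentation c) (hcs : Surjective c) (hck : c ≫ W.ι = k) :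
    ∃ cO : Over.mk (k ≫ T.hom) ⟶ Over.mk (W.ι ≫ T.hom),
      cO ≫ (Over.homMk W.ι : Over.mk (W.ι ≫ T.hom) ⟶ T) = Over.homMk k ∧
        Sieve.generate (Presieve.singleton cO) ∈ AlgSp.J S (Over.mk (W.ι ≫ T.hom)) := by
  obtain ⟨cO, hcO⟩ : ∃ cO : Over.mk (k ≫ T.hom) ⟶ Over.mk (W.ι ≫ T.hom), cO.left = c :=
    ⟨Over.homMk c (by rw [← hck, Category.assoc]; rfl), rfl⟩
  refine ⟨cO, ?_, ?_⟩
  · apply Over.OverMorphism.ext
    rw [Over.comp_left, hcO]
    exact hck
  · haveI : Flat cO.left := by rw [hcO]; exact hcf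
    haveI : LocallyOfFinitePresentation cO.left := by rw [hcO]; exact hcp
    haveI : Surjective cO.left := by rw [hcO]; exact hcs
    exact Groth.Agent.Lib.Helper9.generate_singleton_mem_J_fppf cO

lemma Jz_le : Jz S ≤ AlgSp.J S := by
  intro Y R hR
  rw [GrothendieckTopology.mem_over_iff] at hR ⊢
  exact Precoverage.toGrothendieck_mono Scheme.zariskiPrecoverage_le_fppfPrecoverage _ hR

/-- **a Zariski sheaf which is fppf locally covered by fppf subsheaves whose inclusions are
representable by algebraic spaces is an fppf sheaf**. -/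
theorem isSheaf_of_zariski_of_subsheaves (h1 : Presheaf.IsSheaf (Jz S) F)
    (ha : ∀ i, Presheaf.IsSheaf (AlgSp.J S) (Fi i)) (hb : ∀ i, AlgSp.RepBySp (m i))
    (hc : ∀ (T : Over S) (x : F.obj (op T)), ∃ R ∈ (AlgSp.J S) T,
      ∀ ⦃T' : Over S⦄ (f : T' ⟶ T), R.arrows f →
        ∃ i, F.map f.op x ∈ Set.range ((m i).app (op T'))) :
    Presheaf.IsSheaf (AlgSp.J S) F := by
  have hsep := isSeparated F Fi m h1 ha hb hc
  obtain ⟨H, η, hH, hinjL, hsurjL⟩ : ∃ (H : AlgSp.PSp S) (η : F ⟶ H),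
      Presheaf.IsSheaf (AlgSp.J S) H ∧ Presheaf.IsLocallyInjective (AlgSp.J S) η ∧
        Presheaf.IsLocallySurjective (AlgSp.J S) η :=
    ⟨(AlgSp.J S).sheafify F, (AlgSp.J S).toSheafify F, (AlgSp.J S).sheafify_isSheaf F,
      inferInstance, inferInstance⟩
  have hinj : ∀ U, Function.Injective (η.app U) := by
    intro U a b hab
    have := Presheaf.equalizerSieve_mem (AlgSp.J S) η a b hab
    exact (hsep _ this).ext (fun Y g hg => hg)
  haveI : ∀ U, Mono (η.app U) := fun U => (mono_iff_injective _).2 (hinj U)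
  haveI : Mono η := NatTrans.mono_of_mono_app η
  have hH' : Presieve.IsSheaf (AlgSp.J S) H := (isSheaf_iff_isSheaf_of_type _ _).1 hH
  have hHz : Presieve.IsSheaf (Jz S) H := Presieve.isSheaf_of_le _ Jz_le hH'
  have hF'z : Presieve.IsSheaf (Jz S) (Subfunctor.range η).toFunctor :=
    (isSheaf_iff_isSheaf_of_type _ _).1
      ((Presheaf.isSheaf_of_iso_iff (asIso (Subfunctor.toRange η))).1 h1)
  have hHi : ∀ i, Presieve.IsSheaf (AlgSp.J S) (Subfunctor.range (m i ≫ η)).toFunctor := fun i =>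
    (isSheaf_iff_isSheaf_of_type _ _).1 (isSheaf_range H Fi (fun i => m i ≫ η) ha i)
  have hsurj : ∀ U, Function.Surjective (η.app U) := by
    rintro ⟨T⟩ h
    have hR₁ : Presheaf.imageSieve η h ∈ AlgSp.J S T := Presheaf.imageSieve_mem (AlgSp.J S) η h
    let R₂ : Sieve T :=
      { arrows := fun T' g => ∃ i, H.map g.op h ∈ (Subfunctor.range (m i ≫ η)).obj (op T')
        downward_closed := by
          rintro Y Z f ⟨i, hi⟩ g
          refine ⟨i, ?_⟩
          rw [op_comp, Functor.map_comp_apply]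
          exact (Subfunctor.range (m i ≫ η)).map g.op hi }
    have hR₂ : R₂ ∈ AlgSp.J S T := by
      refine (AlgSp.J S).transitive hR₁ R₂ (fun Y g hg => ?_)
      obtain ⟨t, ht⟩ := hg
      obtain ⟨Rt, hRt, hit⟩ := hc Y t
      refine (AlgSp.J S).superset_covering ?_ hRt
      intro Y' f hf
      obtain ⟨i, y, hy⟩ := hit f hf
      refine ⟨i, y, ?_⟩
      show η.app _ ((m i).app _ y) = H.map (f ≫ g).op h
      rw [hy, op_comp, Functor.map_comp_apply, ← ht]
      exact NatTrans.naturality_apply η f.op t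
    have hQ : (Subfunctor.range η).sieveOfSection h ∈ Jz S T := by
      refine zariski_mem_of_fppf R₂ hR₂ _ (fun W P c k hcf hcp hcs hck hkR => ?_)
      obtain ⟨i, hi⟩ := hkR
      obtain ⟨cO, hcomp, hcov⟩ := exists_single_cover W P c k hcf hcp hcs hck
      have hmem : H.map (Over.homMk W.ι : Over.mk (W.ι ≫ T.hom) ⟶ T).op h ∈
          (Subfunctor.range (m i ≫ η)).obj (op (Over.mk (W.ι ≫ T.hom))) := by
        refine (Subfunctor.isSheaf_iff (Subfunctor.range (m i ≫ η)) hH').1 (hHi i) _ _ ?_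
        refine (AlgSp.J S).superset_covering ?_ hcov
        rintro T'' g ⟨_, a, _, ⟨⟩, rfl⟩
        show H.map (a ≫ cO).op (H.map (Over.homMk W.ι : Over.mk (W.ι ≫ T.hom) ⟶ T).op h) ∈ _
        rw [← Functor.map_comp_apply, ← op_comp, Category.assoc, hcomp, op_comp,
          Functor.map_comp_apply]
        exact (Subfunctor.range (m i ≫ η)).map a.op hi
      exact Subfunctor.range_comp_le (m i) η _ hmem
    exact (Subfunctor.isSheaf_iff (Subfunctor.range η) hHz).1 hF'z (op T) h hQ
  haveI : IsIso η := by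
    rw [NatTrans.isIso_iff_isIso_app]
    intro U
    rw [isIso_iff_bijective]
    exact ⟨hinj U, hsurj U⟩
  exact (Presheaf.isSheaf_of_iso_iff (asIso η)).2 hH

end Main

end Groth.Agent.Lib.H5bZarFppf
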