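import Mathlib

/-!
# Partial fractions with roots of unity (helper6)

The algebraic core of the Adams–Riemann–Roch formula for an elementary projection.
-/

set_option autoImplicit false
set_option linter.unusedSectionVars false
open Polynomial Function

namespace Groth.Agent.Lib.H6xARR

variable {A : Type*} [CommRing A]

/-- scaling of the variable, `p(X) ↦ p(zX)` -/
noncomputable def scal (z : A) : A[X] →+* A[X] := Polynomial.compRingHom (C z * X)

lemma scal_apply (z : A) (p : A[X]) : scal z p = p.comp (C z * X) := rfl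

@[simp] lemma coeff_scal (z : A) (p : A[X]) (n : ℕ) : (scal z p).coeff n = p.coeff n * z ^ n := by
  rw [scal_apply, comp_C_mul_X_coeff]

lemma scal_scal (z z' : A) (p : A[X]) : scal z (scal z' p) = scal (z' * z) p := by
  ext n
  simp only [coeff_scal, mul_pow]
  ring

lemma scal_one (p : A[X]) : scal (1 : A) p = p := by
  ext n
  simp

lemma natDegree_scal_le (z : A) (p : A[X]) : (scal z p).natDegree ≤ p.natDegree := by
  rw [natDegree_le_iff_coeff_eq_zero]
  intro n hn
  rw [coeff_scal, coeff_eq_zero_of_natDegree_lt hn, zero_mul]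

lemma scal_X_pow (z : A) (n : ℕ) : scal z (X ^ n : A[X]) = C (z ^ n) * X ^ n := by
  ext k
  rw [coeff_scal, coeff_C_mul, coeff_X_pow]
  split_ifs with h
  · subst h; ring
  · simp

section Core

variable (j : ℕ) [NeZero j] (ζ : A)

/-- `ζ^c` for `c : ZMod j` -/
def zp (c : ZMod j) : A := ζ ^ c.val

variable {j ζ}

lemma pow_mod_of (hζ : ζ ^ j = 1) (n : ℕ) : ζ ^ (n % j) = ζ ^ n := by
  conv_rhs => rw [← Nat.div_add_mod n j, pow_add, pow_mul, hζ, one_pow, one_mul]

lemma zp_add (hζ : ζ ^ j = 1) (a b : ZMod j) : zp j ζ (a + b) = zp j ζ a * zp j ζ b := by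
  rw [zp, zp, zp, ZMod.val_add, pow_mod_of hζ, pow_add]

lemma zp_zero : zp j ζ 0 = 1 := by rw [zp, ZMod.val_zero, pow_zero]

lemma zp_pow (hζ : ζ ^ j = 1) (c : ZMod j) : zp j ζ c ^ j = 1 := by
  rw [zp, ← pow_mul, mul_comm, pow_mul, hζ, one_pow]

lemma isUnit_zp (hζ : ζ ^ j = 1) (c : ZMod j) : IsUnit (zp j ζ c) := by
  have hu : IsUnit ζ := by
    apply IsUnit.of_pow_eq_one hζ (NeZero.ne j)
  exact hu.pow _

variable (j ζ) (d : A[X])

/-- the conjugates `d(ζ^c X)` -/
noncomputable def dc (c : ZMod j) : A[X] := scal (zp j ζ c) d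

/-- the product of the conjugates other than `d` itself -/
noncomputable def Theta : A[X] := ∏ c ∈ (Finset.univ.erase (0 : ZMod j)), dc j ζ d c

variable {j ζ d}

lemma dc_zero : dc j ζ d 0 = d := by rw [dc, zp_zero, scal_one]

lemma scal_dc (hζ : ζ ^ j = 1) (a c : ZMod j) : scal (zp j ζ a) (dc j ζ d c) = dc j ζ d (c + a) := by
  rw [dc, dc, scal_scal, zp_add hζ]

lemma coeff_zero_dc (c : ZMod j) : (dc j ζ d c).coeff 0 = d.coeff 0 := by
  rw [dc, coeff_scal, pow_zero, mul_one]

lemma natDegree_dc_le (c : ZMod j) : (dc j ζ d c).natDegree ≤ d.natDegree := natDegree_scal_le _ _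

lemma scal_Theta (hζ : ζ ^ j = 1) (a : ZMod j) :
    scal (zp j ζ a) (Theta j ζ d) = ∏ c ∈ (Finset.univ.erase a), dc j ζ d c := by
  rw [Theta, map_prod]
  refine Finset.prod_bij (fun c _ => c + a) ?_ ?_ ?_ ?_
  · intro c hc
    simp only [Finset.mem_erase, Finset.mem_univ, and_true] at hc ⊢
    intro h
    exact hc (by simpa using h)
  · intro c _ c' _ h
    exact add_right_cancel h
  · intro b hb
    simp only [Finset.mem_erase, Finset.mem_univ, and_true] at hb
    refine ⟨b - a, ?_, by ring⟩
    simp only [Finset.mem_erase, Finset.mem_univ, and_true]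
    intro h
    exact hb (sub_eq_zero.mp h)
  · intro c _
    exact scal_dc hζ a c

/-- **Core**: the constant term of the reduced representative of `X^{ij} Θ⁻¹` modulo `d`. -/
theorem core (hζ : ζ ^ j = 1) (m : ℕ) (hdeg : d.natDegree ≤ m) (hlc : IsUnit (d.coeff m))
    (hd0 : d.coeff 0 = 1) (W V : A[X]) (hB : W * Theta j ζ d + V * d = 1) (i : ℕ) (hi : i < m)
    (G : A[X]) (hG : G.natDegree < m) (hGd : d ∣ G - X ^ (i * j) * W) :
    (j : A) * G.coeff 0 = if i = 0 then 1 else 0 := by
  classical
  have hj : 0 < j := Nat.pos_of_ne_zero (NeZero.ne j)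
  -- coprimality
  have hcop0 : IsCoprime d (Theta j ζ d) := ⟨V, W, by linear_combination hB⟩
  have hcop : Pairwise (IsCoprime on (dc j ζ d)) := by
    intro a b hab
    have h1 : IsCoprime d (dc j ζ d (b - a)) :=
      IsCoprime.of_prod_right hcop0 (b - a) (by
        simp only [Finset.mem_erase, Finset.mem_univ, and_true]
        intro h; exact hab (sub_eq_zero.mp h).symm)
    have h2 := IsCoprime.map h1 (scal (zp j ζ a))
    rw [scal_dc hζ, sub_add_cancel] at h2
    exact h2
  -- the key divisibility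
  have h1 : d ∣ G * Theta j ζ d - X ^ (i * j) := by
    have : G * Theta j ζ d - X ^ (i * j) =
        (G - X ^ (i * j) * W) * Theta j ζ d - X ^ (i * j) * V * d := by
      linear_combination (X ^ (i * j)) * hB
    rw [this]
    exact dvd_sub (Dvd.dvd.mul_right hGd _) (Dvd.intro_left _ rfl)
  have h2 : ∀ a : ZMod j, dc j ζ d a ∣
      scal (zp j ζ a) G * (∏ c ∈ (Finset.univ.erase a), dc j ζ d c) - X ^ (i * j) := by
    intro a
    have := map_dvd (scal (zp j ζ a)) h1
    rw [map_sub, map_mul, scal_Theta hζ, scal_X_pow, mul_comm i j, pow_mul, zp_pow hζ, one_pow,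
      map_one, one_mul] at this
    rw [mul_comm i j]
    exact this
  set E : A[X] := ∑ a : ZMod j, scal (zp j ζ a) G * (∏ c ∈ (Finset.univ.erase a), dc j ζ d c) -
    X ^ (i * j) with hE
  have h3 : ∀ a : ZMod j, dc j ζ d a ∣ E := by
    intro a
    have : E = (scal (zp j ζ a) G * (∏ c ∈ (Finset.univ.erase a), dc j ζ d c) - X ^ (i * j)) +
        ∑ a' ∈ Finset.univ.erase a,
          scal (zp j ζ a') G * (∏ c ∈ (Finset.univ.erase a'), dc j ζ d c) := by
      rw [hE, ← Finset.add_sum_erase _ _ (Finset.mem_univ a)]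
      ring
    rw [this]
    refine dvd_add (h2 a) (Finset.dvd_sum fun a' ha' => ?_)
    apply Dvd.dvd.mul_left
    apply Finset.dvd_prod_of_mem
    simp only [Finset.mem_erase, Finset.mem_univ, and_true] at ha' ⊢
    exact fun h => ha' h.symm
  have h4 : (∏ a : ZMod j, dc j ζ d a) ∣ E := Fintype.prod_dvd_of_coprime hcop h3
  -- degrees
  have hdc : ∀ a : ZMod j, (dc j ζ d a).natDegree ≤ m := fun a => (natDegree_dc_le a).trans hdeg
  have hcard : (Finset.univ : Finset (ZMod j)).card = j := by
    rw [Finset.card_univ, ZMod.card]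
  have hEdeg : E.natDegree < j * m := by
    rw [hE]
    refine lt_of_le_of_lt (natDegree_sub_le _ _) (max_lt ?_ ?_)
    · refine lt_of_le_of_lt (natDegree_sum_le _ _) ?_
      rw [Finset.fold_max_lt]
      refine ⟨Nat.mul_pos hj (by omega), fun a _ => ?_⟩
      refine lt_of_le_of_lt natDegree_mul_le ?_
      have h5 : (scal (zp j ζ a) G).natDegree < m := lt_of_le_of_lt (natDegree_scal_le _ _) hG
      have h6 : (∏ c ∈ (Finset.univ.erase a), dc j ζ d c).natDegree ≤ (j - 1) * m := by
        refine (natDegree_prod_le _ _).trans ?_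
        refine (Finset.sum_le_card_nsmul _ _ m fun c _ => hdc c).trans ?_
        rw [Finset.card_erase_of_mem (Finset.mem_univ a), hcard, smul_eq_mul]
      have : j * m = m + (j - 1) * m := by
        obtain ⟨j', rfl⟩ : ∃ j', j = j' + 1 := ⟨j - 1, by omega⟩
        simp only [Nat.add_sub_cancel]; ring
      rw [this]
      exact add_lt_add_of_lt_of_le h5 h6
    · refine lt_of_le_of_lt (natDegree_X_pow_le _) ?_
      rw [mul_comm]
      exact Nat.mul_lt_mul_of_pos_left hi hj
  have hDdeg : (∏ a : ZMod j, dc j ζ d a).natDegree ≤ j * m := by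
    refine (natDegree_prod_le _ _).trans ?_
    refine (Finset.sum_le_card_nsmul _ _ m fun c _ => hdc c).trans ?_
    rw [hcard, smul_eq_mul]
  have hDlc : IsUnit ((∏ a : ZMod j, dc j ζ d a).coeff (j * m)) := by
    have := coeff_prod_of_natDegree_le (s := (Finset.univ : Finset (ZMod j))) (dc j ζ d) m
      (fun a _ => hdc a)
    rw [hcard] at this
    rw [this]
    rw [IsUnit.prod_iff]
    intro a _
    rw [dc, coeff_scal]
    exact hlc.mul ((isUnit_zp hζ a).pow _)
  -- hence `E = 0`
  have hE0 : E = 0 := by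
    obtain ⟨q, hq⟩ := h4
    by_contra hne
    have hq0 : q ≠ 0 := by
      rintro rfl
      rw [mul_zero] at hq
      exact hne hq
    have h5 := coeff_mul_add_eq_of_natDegree_le hDdeg (le_refl q.natDegree)
    rw [← hq] at h5
    have h6 : E.coeff (j * m + q.natDegree) = 0 :=
      coeff_eq_zero_of_natDegree_lt (by omega)
    rw [h6] at h5
    have := (hDlc.mul_right_eq_zero).mp h5.symm
    exact hq0 (leadingCoeff_eq_zero.mp this)
  -- constant terms
  have h7 := congrArg (fun p : A[X] => p.coeff 0) hE0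
  simp only [hE, coeff_sub, finsetSum_coeff, mul_coeff_zero, coeff_scal, pow_zero, mul_one,
    coeff_zero_prod, coeff_zero_dc, hd0, Finset.prod_const_one, coeff_zero, Finset.sum_const,
    hcard, nsmul_eq_mul, coeff_X_pow] at h7
  rw [sub_eq_zero] at h7
  rw [h7]
  by_cases hi0 : i = 0
  · subst hi0; simp
  · rw [if_neg hi0, if_neg]
    have : i * j ≠ 0 := Nat.mul_ne_zero hi0 (NeZero.ne j)
    omega

end Core

end Groth.Agent.Lib.H6xARR
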