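import Mathlib
import Groth.Prelude.Def_KRR
import Groth.Agent.Lib.H6xARRa
import Groth.Agent.Lib.Helper4LambdaBott

/-!
# Factorisation of Bott's polynomial over the cyclotomic integers (helper6)
-/

set_option autoImplicit false
set_option linter.unusedSectionVars false
open Polynomial

namespace Groth.Agent.Lib.H6xARR

section Cyc

variable (j : ℕ) [NeZero j]

/-- the ring of cyclotomic integers `ℤ[ζ_j]` -/
abbrev Gj : Type := AdjoinRoot (cyclotomic j ℤ)

instance : IsDomain (Gj j) :=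
  AdjoinRoot.isDomain_of_prime (cyclotomic.irreducible (Nat.pos_of_ne_zero (NeZero.ne j))).prime

lemma of_injective : Function.Injective (AdjoinRoot.of (cyclotomic j ℤ)) := by
  apply AdjoinRoot.of.injective_of_degree_ne_zero
  rw [degree_eq_natDegree (cyclotomic_ne_zero j ℤ), natDegree_cyclotomic]
  have := Nat.totient_pos.mpr (Nat.pos_of_ne_zero (NeZero.ne j))
  exact_mod_cast this.ne'

instance : CharZero (Gj j) := by
  refine ⟨fun a b h => ?_⟩
  have h1 : AdjoinRoot.of (cyclotomic j ℤ) (a : ℤ) = AdjoinRoot.of (cyclotomic j ℤ) (b : ℤ) := by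
    simpa using h
  exact_mod_cast of_injective j h1

/-- the primitive root of unity -/
noncomputable def zetaj : Gj j := AdjoinRoot.root (cyclotomic j ℤ)

lemma zetaj_spec : IsPrimitiveRoot (zetaj j) j := by
  haveI : NeZero ((j : ℕ) : Gj j) := ⟨by exact_mod_cast NeZero.ne j⟩
  rw [← isRoot_cyclotomic_iff]
  have := AdjoinRoot.isRoot_root (cyclotomic j ℤ)
  rwa [map_cyclotomic] at this

lemma zetaj_pow : zetaj j ^ j = 1 := (zetaj_spec j).pow_eq_one

end Cyc

section Roots

variable {R : Type*} [CommRing R] [IsDomain R] {j : ℕ} [NeZero j] {ζ : R}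

/-- products over the roots of unity, indexed by `ZMod j` -/
lemma prod_nthRoots_eq (hζ : IsPrimitiveRoot ζ j) {M : Type*} [CommMonoid M] (g : R → M) :
    ∏ ξ ∈ nthRootsFinset j (1 : R), g ξ = ∏ c : ZMod j, g (ζ ^ c.val) := by
  symm
  refine Finset.prod_bij (fun c _ => ζ ^ c.val) ?_ ?_ ?_ ?_
  · intro c _
    rw [mem_nthRootsFinset (Nat.pos_of_ne_zero (NeZero.ne j)), ← pow_mul, mul_comm, pow_mul,
      hζ.pow_eq_one, one_pow]
  · intro c _ c' _ h
    have := hζ.pow_inj (ZMod.val_lt c) (ZMod.val_lt c') h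
    exact ZMod.val_injective j this
  · intro ξ hξ
    rw [mem_nthRootsFinset (Nat.pos_of_ne_zero (NeZero.ne j))] at hξ
    obtain ⟨i, hi, rfl⟩ := hζ.eq_pow_of_pow_eq_one hξ
    refine ⟨(i : ZMod j), Finset.mem_univ _, ?_⟩
    rw [ZMod.val_natCast, Nat.mod_eq_of_lt hi]
  · intro c _; rfl

/-- `∏_{c ≠ 0} (1 - ζ^c X) = 1 + X + ⋯ + X^{j-1}` -/
theorem prod_one_sub_eq_geom (hζ : IsPrimitiveRoot ζ j) :
    ∏ c ∈ (Finset.univ.erase (0 : ZMod j)), (1 - C (ζ ^ c.val) * X : R[X]) =
      ∑ k ∈ Finset.range j, X ^ k := by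
  have hC : IsPrimitiveRoot (C ζ : R[X]) j := hζ.map_of_injective C_injective
  have h1 := hC.pow_sub_pow_eq_prod_sub_mul (1 : R[X]) X (Nat.pos_of_ne_zero (NeZero.ne j))
  rw [prod_nthRoots_eq hC (fun ξ => (1 : R[X]) - ξ * X),
    ← Finset.mul_prod_erase _ _ (Finset.mem_univ (0 : ZMod j)), ZMod.val_zero, pow_zero, one_mul,
    one_pow, ← mul_neg_geom_sum] at h1
  have h2 : (1 - X : R[X]) ≠ 0 := by
    intro h
    have := congrArg (fun p : R[X] => p.coeff 1) h
    simp [coeff_one] at this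
  have h3 := mul_left_cancel₀ h2 h1
  rw [h3]
  apply Finset.prod_congr rfl
  intro c _
  rw [C_pow]

end Roots

section BottFactor

/-- `∏ (1 + t X_l) = 1 + Σ t^k e_k` -/
lemma prod_one_add_mul_X {R : Type*} [CommRing R] (m : ℕ) (t : R) :
    ∏ l : Fin m, (1 + MvPolynomial.C t * MvPolynomial.X l : MvPolynomial (Fin m) R) =
      1 + ∑ i : Fin m, MvPolynomial.C (t ^ (i.1 + 1)) * MvPolynomial.esymm (Fin m) R (i.1 + 1) := by
  classical
  rw [Finset.prod_one_add, Finset.sum_powerset, Finset.card_univ, Fintype.card_fin,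
    Finset.sum_range_succ', Finset.powersetCard_zero, Finset.sum_singleton, Finset.prod_empty,
    add_comm, Fin.sum_univ_eq_sum_range
      (fun i => MvPolynomial.C (t ^ (i + 1)) * MvPolynomial.esymm (Fin m) R (i + 1)) m]
  congr 1
  apply Finset.sum_congr rfl
  intro k _
  rw [MvPolynomial.esymm, Finset.mul_sum]
  apply Finset.sum_congr rfl
  intro T hT
  rw [Finset.mem_powersetCard] at hT
  rw [Finset.prod_mul_distrib, Finset.prod_const, hT.2, map_pow]

variable (j m : ℕ) [NeZero j]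

/-- **Bott's polynomial splits over the cyclotomic integers.** -/
theorem bottPoly_factor :
    MvPolynomial.map (algebraMap ℤ (Gj j)) (KRR.bottPoly j m) =
      ∏ c ∈ (Finset.univ.erase (0 : ZMod j)),
        (1 + ∑ i : Fin m, MvPolynomial.C ((-(zetaj j) ^ c.val) ^ (i.1 + 1)) * MvPolynomial.X i) := by
  apply MvPolynomial.esymmAlgHom_injective (Gj j) (le_of_eq (Fintype.card_fin m).symm)
  apply Subtype.ext
  rw [MvPolynomial.esymmAlgHom_apply, MvPolynomial.esymmAlgHom_apply]
  -- left side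
  have hL : MvPolynomial.aeval (fun i : Fin m => MvPolynomial.esymm (Fin m) (Gj j) (↑i + 1))
      (MvPolynomial.map (algebraMap ℤ (Gj j)) (KRR.bottPoly j m)) =
      ∏ l : Fin m, ∑ k ∈ Finset.range j, (MvPolynomial.X l : MvPolynomial (Fin m) (Gj j)) ^ k := by
    rw [MvPolynomial.aeval_map_algebraMap]
    have h1 := congrArg (MvPolynomial.map (algebraMap ℤ (Gj j)))
      (Groth.Agent.Lib.Helper4.aeval_esymm_bottPoly j m)
    rw [KRR.bottSym] at h1
    simp only [map_prod, map_sum, map_pow, MvPolynomial.map_X] at h1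
    rw [← h1]
    have h2 := MvPolynomial.comp_aeval_apply (R := ℤ)
      (f := fun i : Fin m => MvPolynomial.esymm (Fin m) ℤ (↑i + 1))
      (φ := (MvPolynomial.mapAlgHom (Algebra.ofId ℤ (Gj j)) :
        MvPolynomial (Fin m) ℤ →ₐ[ℤ] MvPolynomial (Fin m) (Gj j))) (KRR.bottPoly j m)
    simp only [MvPolynomial.mapAlgHom_apply] at h2
    have h3 : ∀ p : MvPolynomial (Fin m) ℤ, MvPolynomial.map (↑(Algebra.ofId ℤ (Gj j))) p =
        MvPolynomial.map (algebraMap ℤ (Gj j)) p := fun p => rfl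
    rw [h3] at h2
    rw [h2]
    congr 2
    funext i
    rw [h3, MvPolynomial.map_esymm]
  rw [hL]
  -- right side
  simp only [map_prod, map_add, map_one, map_sum, map_mul, MvPolynomial.aeval_C,
    MvPolynomial.aeval_X, MvPolynomial.algebraMap_eq]
  have hR : ∀ c : ZMod j, (1 + ∑ i : Fin m, MvPolynomial.C ((-(zetaj j) ^ c.val) ^ (i.1 + 1)) *
      MvPolynomial.esymm (Fin m) (Gj j) (i.1 + 1)) =
      ∏ l : Fin m, (1 - MvPolynomial.C ((zetaj j) ^ c.val) * MvPolynomial.X l) := by
    intro c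
    rw [← prod_one_add_mul_X]
    apply Finset.prod_congr rfl
    intro l _
    rw [map_neg]; ring
  rw [Finset.prod_congr rfl (fun c _ => hR c), Finset.prod_comm]
  apply Finset.prod_congr rfl
  intro l _
  have h4 := congrArg (Polynomial.aeval (MvPolynomial.X l : MvPolynomial (Fin m) (Gj j)))
    (prod_one_sub_eq_geom (zetaj_spec j))
  simp only [map_prod, map_sub, map_one, map_mul, Polynomial.aeval_C, Polynomial.aeval_X, map_sum,
    map_pow, MvPolynomial.algebraMap_eq] at h4
  rw [← h4]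
  apply Finset.prod_congr rfl
  intro c _
  rw [map_pow]

end BottFactor

section Descent

open scoped TensorProduct

variable (A : Type*) [CommRing A] (j : ℕ) [NeZero j]

/-- the inclusion `A → A ⊗ ℤ[ζ_j]` -/
noncomputable def incl : A →+* A ⊗[ℤ] Gj j :=
  (Algebra.TensorProduct.includeLeft : A →ₐ[ℤ] A ⊗[ℤ] Gj j).toRingHom

lemma incl_apply (a : A) : incl A j a = a ⊗ₜ[ℤ] (1 : Gj j) := rfl

lemma incl_injective : Function.Injective (incl A j) := by
  have hmon : (cyclotomic j ℤ).Monic := cyclotomic.monic j ℤ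
  have hpos : 0 < (cyclotomic j ℤ).natDegree := by
    rw [natDegree_cyclotomic]
    exact Nat.totient_pos.mpr (Nat.pos_of_ne_zero (NeZero.ne j))
  let b := (AdjoinRoot.powerBasis' hmon).basis
  let i₀ : Fin (AdjoinRoot.powerBasis' hmon).dim := ⟨0, hpos⟩
  have hb : b i₀ = 1 := by
    have := (AdjoinRoot.powerBasis' hmon).basis_eq_pow i₀
    rw [this]
    exact pow_zero _
  have key : ∀ a : A, ((Algebra.TensorProduct.basis A b).repr (incl A j a)) i₀ = a := by
    intro a
    rw [incl_apply, Algebra.TensorProduct.basis_repr_tmul, ← hb, Module.Basis.repr_self]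
    simp
  intro a a' h
  rw [← key a, ← key a', h]

/-- the image of the root of unity -/
noncomputable def zetaA : A ⊗[ℤ] Gj j := (1 : A) ⊗ₜ[ℤ] zetaj j

lemma zetaA_pow : zetaA A j ^ j = 1 := by
  rw [zetaA, Algebra.TensorProduct.tmul_pow, one_pow, zetaj_pow]
  rfl

end Descent

section Polys

variable {A : Type*} [CommRing A]

/-- ring maps commute with `aeval` of integer polynomials, for arbitrary `ℤ`-algebra structures -/
theorem ringHom_aeval_gen' {A B : Type*} [CommRing A] [CommRing B] [iA : Algebra ℤ A]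
    [iB : Algebra ℤ B] (φ : A →+* B) {σ : Type*} (f : σ → A) (Q : MvPolynomial σ ℤ) :
    φ (MvPolynomial.aeval f Q) = MvPolynomial.aeval (fun i => φ (f i)) Q := by
  obtain rfl : iA = Ring.toIntAlgebra A := Subsingleton.elim _ _
  obtain rfl : iB = Ring.toIntAlgebra B := Subsingleton.elim _ _
  exact MvPolynomial.comp_aeval_apply (f := f) φ.toIntAlgHom Q

/-- the polynomial `d = 1 + Σ (-1)^{i+1} ε_{i+1} X^{i+1}` -/
noncomputable def dPoly (m : ℕ) (ε : ℕ → A) : A[X] :=
  1 + ∑ i : Fin m, C ((-1) ^ (i.1 + 1) * ε (i.1 + 1)) * X ^ (i.1 + 1)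

/-- Bott's class as a polynomial in the inverse of the line element -/
noncomputable def thetaPoly (j m : ℕ) (ε : ℕ → A) : A[X] :=
  MvPolynomial.aeval (fun i : Fin m => C (ε (i.1 + 1)) * X ^ (i.1 + 1)) (KRR.bottPoly j m)

lemma dPoly_eq_range (m : ℕ) (ε : ℕ → A) :
    dPoly m ε = 1 + ∑ i ∈ Finset.range m, C ((-1) ^ (i + 1) * ε (i + 1)) * X ^ (i + 1) := by
  rw [dPoly, Fin.sum_univ_eq_sum_range (fun i => C ((-1) ^ (i + 1) * ε (i + 1)) * X ^ (i + 1)) m]

lemma coeff_dPoly (m : ℕ) (ε : ℕ → A) (n : ℕ) :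
    (dPoly m ε).coeff n = if n = 0 then 1 else if n ≤ m then (-1) ^ n * ε n else 0 := by
  rw [dPoly_eq_range, coeff_add, coeff_one, finsetSum_coeff]
  simp only [coeff_C_mul, coeff_X_pow]
  by_cases hn : n = 0
  · subst hn
    simp
  · simp only [hn, if_false, zero_add]
    by_cases hnm : n ≤ m
    · rw [if_pos hnm, Finset.sum_eq_single (n - 1)]
      · rw [if_pos (by omega), mul_one, Nat.sub_add_cancel (by omega)]
      · intro b _ hb
        rw [if_neg (by omega), mul_zero]
      · intro h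
        exact absurd (Finset.mem_range.mpr (by omega)) h
    · rw [if_neg hnm]
      apply Finset.sum_eq_zero
      intro b hb
      rw [Finset.mem_range] at hb
      rw [if_neg (by omega), mul_zero]

lemma natDegree_dPoly_le (m : ℕ) (ε : ℕ → A) : (dPoly m ε).natDegree ≤ m := by
  rw [natDegree_le_iff_coeff_eq_zero]
  intro n hn
  rw [coeff_dPoly, if_neg (by omega), if_neg (by omega)]

lemma map_dPoly {B : Type*} [CommRing B] (φ : A →+* B) (m : ℕ) (ε : ℕ → A) :
    Polynomial.map φ (dPoly m ε) = dPoly m (fun n => φ (ε n)) := by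
  simp [dPoly, Polynomial.map_sum]

lemma map_thetaPoly {B : Type*} [CommRing B] (φ : A →+* B) (j m : ℕ) (ε : ℕ → A) :
    Polynomial.map φ (thetaPoly j m ε) = thetaPoly j m (fun n => φ (ε n)) := by
  rw [thetaPoly, thetaPoly]
  have := ringHom_aeval_gen' (Polynomial.mapRingHom φ)
    (fun i : Fin m => C (ε (i.1 + 1)) * X ^ (i.1 + 1)) (KRR.bottPoly j m)
  rw [coe_mapRingHom] at this
  rw [this]
  congr 2
  funext i
  simp

lemma scal_dPoly (z : A) (m : ℕ) (ε : ℕ → A) :
    scal z (dPoly m ε) = 1 + ∑ i : Fin m, C ((-z) ^ (i.1 + 1) * ε (i.1 + 1)) * X ^ (i.1 + 1) := by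
  rw [dPoly, map_add, map_one, map_sum]
  congr 1
  apply Finset.sum_congr rfl
  intro i _
  rw [map_mul, scal_X_pow, scal_apply, C_comp, ← mul_assoc, ← C_mul]
  congr 2
  rw [neg_pow z]; ring

/-- over a ring containing the `j`-th roots of unity, Bott's polynomial is the product of the
conjugates of `d` -/
theorem thetaPoly_eq_Theta (j : ℕ) [NeZero j] {B : Type*} [CommRing B] [Algebra (Gj j) B]
    (m : ℕ) (ε : ℕ → B) :
    thetaPoly j m ε = Theta j (algebraMap (Gj j) B (zetaj j)) (dPoly m ε) := by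
  set g : Fin m → B[X] := fun i => C (ε (i.1 + 1)) * X ^ (i.1 + 1) with hg
  have h1 : thetaPoly j m ε = MvPolynomial.aeval (R := Gj j) g
      (MvPolynomial.map (algebraMap ℤ (Gj j)) (KRR.bottPoly j m)) := by
    rw [thetaPoly, MvPolynomial.aeval_def, MvPolynomial.aeval_def, MvPolynomial.eval₂_map]
    congr 1
    exact Subsingleton.elim _ _
  rw [h1, bottPoly_factor, map_prod, Theta]
  apply Finset.prod_congr rfl
  intro c _
  rw [dc, scal_dPoly, zp]
  simp only [map_add, map_one, map_sum, map_mul, MvPolynomial.aeval_C, MvPolynomial.aeval_X, hg]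
  congr 1
  apply Finset.sum_congr rfl
  intro i _
  rw [Polynomial.algebraMap_apply, ← mul_assoc, ← C_mul]
  congr 2
  simp only [map_pow, map_neg, map_mul]

/-- **The algebraic Adams–Riemann–Roch identity** over an arbitrary commutative ring. -/
theorem arr_alg (j m : ℕ) [NeZero j] (ε : ℕ → A) (hε : IsUnit (ε m))
    (W V : A[X]) (hB : W * thetaPoly j m ε + V * dPoly m ε = 1) (i : ℕ) (hi : i < m) (G : A[X])
    (hG : G.natDegree < m) (hGd : dPoly m ε ∣ G - X ^ (i * j) * W) :
    (j : A) * G.coeff 0 = if i = 0 then 1 else 0 := by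
  open scoped TensorProduct in
  let B := A ⊗[ℤ] Gj j
  let ι : A →+* B := incl A j
  letI : Algebra (Gj j) B := Algebra.TensorProduct.rightAlgebra
  have hm : m ≠ 0 := by omega
  set ε' : ℕ → B := fun n => ι (ε n) with hε'
  have hζ : (algebraMap (Gj j) B (zetaj j)) ^ j = 1 := by
    rw [← map_pow, zetaj_pow, map_one]
  have hB' := congrArg (Polynomial.map ι) hB
  rw [Polynomial.map_add, Polynomial.map_mul, Polynomial.map_mul, Polynomial.map_one, map_thetaPoly,
    map_dPoly, thetaPoly_eq_Theta j m ε'] at hB'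
  have hGd' := map_dvd (Polynomial.mapRingHom ι) hGd
  simp only [coe_mapRingHom, Polynomial.map_sub, Polynomial.map_mul, Polynomial.map_pow,
    Polynomial.map_X, map_dPoly] at hGd'
  have hcore := core (A := B) hζ m (natDegree_dPoly_le m ε') (by
      rw [coeff_dPoly, if_neg hm, if_pos le_rfl]
      exact ((isUnit_one.neg).pow m).mul (hε.map ι))
    (by rw [coeff_dPoly, if_pos rfl]) (Polynomial.map ι W) (Polynomial.map ι V) hB' i hi
    (Polynomial.map ι G) (lt_of_le_of_lt natDegree_map_le hG) hGd'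
  apply incl_injective A j
  rw [map_mul, map_natCast]
  change (j : B) * ι (G.coeff 0) = _
  rw [← Polynomial.coeff_map, hcore]
  split_ifs <;> simp

end Polys

end Groth.Agent.Lib.H6xARR
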