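import Mathlib
import Groth.Prelude.Def_LambdaSp
import Groth.Agent.Lib.Helper4LambdaUniv3
import Groth.Agent.Lib.Helper4Lambda

/-!
# The λ-ring `ℤ[T_i]` in which monomials are line elements (helper6)
-/

set_option autoImplicit false
universe u
open MvPolynomial LambdaRing

namespace Groth.Agent.Lib.H6xLamW

variable (σ : Type u)

/-- the unit power series `1 + T^α · X` -/
noncomputable def lineUnit (α : σ →₀ ℕ) : (PowerSeries (MvPolynomial σ ℤ))ˣ :=
  (PowerSeries.isUnit_iff_constantCoeff.mpr
    (show IsUnit (PowerSeries.constantCoeff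
      (1 + PowerSeries.C (monomial α (1 : ℤ)) * PowerSeries.X : PowerSeries (MvPolynomial σ ℤ))) by
      simp)).unit

@[simp] lemma coe_lineUnit (α : σ →₀ ℕ) :
    ((lineUnit σ α : (PowerSeries (MvPolynomial σ ℤ))ˣ) : PowerSeries (MvPolynomial σ ℤ)) =
      1 + PowerSeries.C (monomial α (1 : ℤ)) * PowerSeries.X :=
  IsUnit.unit_spec _

/-- the λ-series as an additive map into the units of the power series ring -/
noncomputable def LL : MvPolynomial σ ℤ →ₗ[ℤ] Additive (PowerSeries (MvPolynomial σ ℤ))ˣ :=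
  (basisMonomials σ ℤ).constr ℤ fun α => Additive.ofMul (lineUnit σ α)

/-- the λ-series of an element -/
noncomputable def lser (f : MvPolynomial σ ℤ) : PowerSeries (MvPolynomial σ ℤ) :=
  ((Additive.toMul (LL σ f) : (PowerSeries (MvPolynomial σ ℤ))ˣ) : PowerSeries (MvPolynomial σ ℤ))

lemma lser_add (f g : MvPolynomial σ ℤ) : lser σ (f + g) = lser σ f * lser σ g := by
  simp [lser, map_add]

lemma lser_monomial (α : σ →₀ ℕ) :
    lser σ (monomial α 1) = 1 + PowerSeries.C (monomial α (1 : ℤ)) * PowerSeries.X := by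
  have : LL σ (monomial α 1) = Additive.ofMul (lineUnit σ α) := by
    have h := (basisMonomials σ ℤ).constr_basis ℤ (fun α => Additive.ofMul (lineUnit σ α)) α
    rwa [coe_basisMonomials] at h
  rw [lser, this]
  simp

lemma constantCoeff_lser (f : MvPolynomial σ ℤ) : PowerSeries.constantCoeff (lser σ f) = 1 := by
  -- the composite with the constant coefficient is the trivial map
  let c : (PowerSeries (MvPolynomial σ ℤ))ˣ →* (MvPolynomial σ ℤ)ˣ :=
    Units.map (PowerSeries.constantCoeff (R := MvPolynomial σ ℤ)).toMonoidHom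
  let cl : MvPolynomial σ ℤ →ₗ[ℤ] Additive (MvPolynomial σ ℤ)ˣ :=
    (MonoidHom.toAdditive c).toIntLinearMap.comp (LL σ)
  have h0 : cl = 0 := by
    apply (basisMonomials σ ℤ).ext
    intro α
    have hb : LL σ (basisMonomials σ ℤ α) = Additive.ofMul (lineUnit σ α) :=
      (basisMonomials σ ℤ).constr_basis ℤ (fun α => Additive.ofMul (lineUnit σ α)) α
    simp only [cl, LinearMap.comp_apply, hb, LinearMap.zero_apply]
    change Additive.ofMul (c (lineUnit σ α)) = 0
    rw [← ofMul_one]
    congr 1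
    ext
    simp [c]
  have h1 : cl f = 0 := by rw [h0]; rfl
  have h2 : c (Additive.toMul (LL σ f)) = 1 := by
    have : Additive.ofMul (c (Additive.toMul (LL σ f))) = 0 := h1
    exact this
  have h3 := congrArg (fun u : (MvPolynomial σ ℤ)ˣ => (u : MvPolynomial σ ℤ)) h2
  simpa [c, lser] using h3

lemma coeff_one_lser (f : MvPolynomial σ ℤ) : PowerSeries.coeff 1 (lser σ f) = f := by
  let d : MvPolynomial σ ℤ →+ MvPolynomial σ ℤ :=
    { toFun := fun f => PowerSeries.coeff 1 (lser σ f)
      map_zero' := by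
        have : lser σ 0 = 1 := by simp [lser]
        rw [this]
        simp
      map_add' := fun f g => by
        rw [lser_add, PowerSeries.coeff_mul, Finset.Nat.sum_antidiagonal_eq_sum_range_succ_mk]
        simp [Finset.sum_range_succ, PowerSeries.coeff_zero_eq_constantCoeff_apply,
          constantCoeff_lser, add_comm] }
  have h : d.toIntLinearMap = LinearMap.id := by
    apply (basisMonomials σ ℤ).ext
    intro α
    rw [coe_basisMonomials]
    change PowerSeries.coeff 1 (lser σ (monomial α 1)) = monomial α 1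
    rw [lser_monomial]
    simp
  exact LinearMap.congr_fun h f

/-- the λ-operations for which all monomials are line elements -/
@[reducible] noncomputable def lamW : LambdaOps (MvPolynomial σ ℤ) where
  lam n f := PowerSeries.coeff n (lser σ f)
  lam_zero f := by
    rw [PowerSeries.coeff_zero_eq_constantCoeff_apply, constantCoeff_lser]
  lam_one f := coeff_one_lser σ f
  lam_add k f g := by
    rw [lser_add, PowerSeries.coeff_mul, Finset.Nat.sum_antidiagonal_eq_sum_range_succ_mk]

section Ops

attribute [local instance] lamW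

lemma lamSeries_eq (f : MvPolynomial σ ℤ) : lamSeries f = lser σ f := by
  apply PowerSeries.ext
  intro n
  rw [lamSeries, PowerSeries.coeff_mk]
  rfl

lemma lamSeries_monomial (α : σ →₀ ℕ) :
    lamSeries (monomial α (1 : ℤ)) = 1 + PowerSeries.C (monomial α (1 : ℤ)) * PowerSeries.X := by
  rw [lamSeries_eq, lser_monomial]

lemma lam_monomial_eq_zero (α : σ →₀ ℕ) (j : ℕ) (hj : 2 ≤ j) :
    LambdaOps.lam j (monomial α (1 : ℤ)) = 0 := by
  have h := congrArg (PowerSeries.coeff j) (lamSeries_monomial σ α)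
  rw [lamSeries, PowerSeries.coeff_mk] at h
  rw [h]
  obtain ⟨m, rfl⟩ : ∃ m, j = m + 2 := ⟨j - 2, by omega⟩
  simp [PowerSeries.coeff_one, PowerSeries.coeff_succ_mul_X]

end Ops

/-- in any pre-λ-ring, the Adams operations of a line element are its powers. -/
theorem adamsOp_of_line {K : Type*} [CommRing K] [LambdaOps K] (u : K)
    (hu : ∀ j : ℕ, 2 ≤ j → LambdaOps.lam j u = 0) (k : ℕ) : adamsOp (k + 1) u = u ^ (k + 1) := by
  have hNR := Groth.Agent.Lib.Helper4.LUniv.NR_lam_adamsOp u
  induction k with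
  | zero =>
    have h := hNR 0
    beta_reduce at h
    simp only [Finset.sum_range_one, LambdaOps.lam_zero, LambdaOps.lam_one, pow_zero, one_mul,
      mul_one, Nat.cast_zero, zero_add, Nat.sub_self] at h
    rw [← h, pow_one]
  | succ k ih =>
    have h := hNR (k + 1)
    beta_reduce at h
    rw [hu (k + 1 + 1) (by omega), zero_mul, Finset.sum_range_succ, Finset.sum_range_succ] at h
    have hz : ∑ x ∈ Finset.range k, (-1 : K) ^ x * adamsOp (x + 1) u * LambdaOps.lam (k + 1 - x) u
        = 0 := by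
      apply Finset.sum_eq_zero
      intro x hx
      rw [Finset.mem_range] at hx
      rw [hu (k + 1 - x) (by omega), mul_zero]
    rw [hz, zero_add, Nat.sub_self, LambdaOps.lam_zero, mul_one,
      show k + 1 - k = 1 by omega, LambdaOps.lam_one, ih] at h
    have h2 : (-1 : K) ^ (k + 1) * adamsOp (k + 1 + 1) u = (-1 : K) ^ (k + 1) * u ^ (k + 1 + 1) := by
      have : (-1 : K) ^ (k + 1) * adamsOp (k + 1 + 1) u = -((-1 : K) ^ k * u ^ (k + 1) * u) := by
        rw [eq_neg_iff_add_eq_zero, add_comm]
        exact h.symm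
      rw [this]
      ring
    have h5 : ((-1 : K) ^ (k + 1)) * ((-1 : K) ^ (k + 1)) = 1 := by
      rw [← pow_add, ← two_mul, pow_mul, neg_one_sq, one_pow]
    calc adamsOp (k + 1 + 1) u = ((-1 : K) ^ (k + 1) * (-1 : K) ^ (k + 1)) * adamsOp (k + 1 + 1) u := by
          rw [h5, one_mul]
      _ = (-1 : K) ^ (k + 1) * ((-1 : K) ^ (k + 1) * adamsOp (k + 1 + 1) u) := by ring
      _ = (-1 : K) ^ (k + 1) * ((-1 : K) ^ (k + 1) * u ^ (k + 1 + 1)) := by rw [h2]
      _ = _ := by rw [← mul_assoc, h5, one_mul]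

/-- additive maps out of `ℤ[T]` are determined by their values on monomials. -/
theorem addHom_ext {M : Type*} [AddCommGroup M] (f g : MvPolynomial σ ℤ →+ M)
    (h : ∀ α : σ →₀ ℕ, f (monomial α 1) = g (monomial α 1)) : f = g := by
  have : f.toIntLinearMap = g.toIntLinearMap := by
    apply (basisMonomials σ ℤ).ext
    intro α
    rw [coe_basisMonomials]
    exact h α
  exact DFunLike.ext _ _ fun x => LinearMap.congr_fun this x

section Adams

attribute [local instance] lamW

open Groth.Agent.Lib.Helper4.LUniv in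
theorem adamsOp_eq_expand (k : ℕ) (f : MvPolynomial σ ℤ) :
    adamsOp (k + 1) f = expand (k + 1) f := by
  let a : MvPolynomial σ ℤ →+ MvPolynomial σ ℤ :=
    { toFun := adamsOp (k + 1)
      map_zero' := adamsOp_zero_arg _
      map_add' := adamsOp_add _ }
  have h : a = (expand (k + 1) : MvPolynomial σ ℤ →ₐ[ℤ] MvPolynomial σ ℤ).toRingHom.toAddMonoidHom := by
    apply addHom_ext
    intro α
    change adamsOp (k + 1) (monomial α (1 : ℤ)) = expand (k + 1) (monomial α (1 : ℤ))
    rw [adamsOp_of_line _ (lam_monomial_eq_zero σ α), expand_monomial, monomial_pow, one_pow]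
  exact DFunLike.congr_fun h f

open Groth.Agent.Lib.Helper4.LUniv in
theorem isSpecial_W : IsSpecial (MvPolynomial σ ℤ) := by
  apply isSpecial_of_adamsOp' natCancel_of_isAddTorsionFree
  · intro k hk
    obtain ⟨k, rfl⟩ : ∃ j, k = j + 1 := ⟨k - 1, by omega⟩
    rw [adamsOp_eq_expand, map_one]
  · intro k hk x y
    obtain ⟨k, rfl⟩ : ∃ j, k = j + 1 := ⟨k - 1, by omega⟩
    rw [adamsOp_eq_expand, adamsOp_eq_expand, adamsOp_eq_expand, map_mul]
  · intro k k' hk hk' x
    obtain ⟨k, rfl⟩ : ∃ j, k = j + 1 := ⟨k - 1, by omega⟩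
    obtain ⟨k', rfl⟩ : ∃ j, k' = j + 1 := ⟨k' - 1, by omega⟩
    obtain ⟨c, hc⟩ : ∃ c, (k + 1) * (k' + 1) = c + 1 := ⟨(k + 1) * (k' + 1) - 1, by
      have : 0 < (k + 1) * (k' + 1) := Nat.mul_pos (Nat.succ_pos _) (Nat.succ_pos _)
      omega⟩
    rw [hc, adamsOp_eq_expand, adamsOp_eq_expand, adamsOp_eq_expand, ← hc, expand_mul]

end Adams

end Groth.Agent.Lib.H6xLamW
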