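import Mathlib
import Groth.Prelude.Def_LambdaSp
import Groth.Agent.Lib.H6xLamW
import Groth.Agent.Lib.Helper4GammaFil

/-!
# The γ-operations as a pre-λ-structure; the augmentation ideal of `ℤ[T_i]` (helper6)
-/

set_option autoImplicit false
universe u
open MvPolynomial LambdaRing

namespace Groth.Agent.Lib.H6xLamW

open Groth.Agent.Lib.Helper4 Groth.Agent.Lib.Helper4.LUniv

section Gam

variable (K : Type*) [CommRing K] [LambdaOps K]

/-- the γ-operations form a pre-λ-structure -/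
@[reducible] def gammaOps : LambdaOps K where
  lam := gamma
  lam_zero x := by simp [gamma]
  lam_one x := GFil.gamma_one x
  lam_add k x y := gamma_add k x y

variable {K}

/-- Adams operations of the γ-structure -/
noncomputable def psiG (k : ℕ) (x : K) : K := @adamsOp K _ (gammaOps K) k x

theorem newtonG (x : K) : NR (fun j => gamma j x) (fun k => psiG k x) :=
  @NR_lam_adamsOp K _ (gammaOps K) x

theorem psiG_add (k : ℕ) (x y : K) : psiG k (x + y) = psiG k x + psiG k y :=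
  @adamsOp_add K _ (gammaOps K) k x y

theorem psiG_zero_arg (k : ℕ) : psiG k (0 : K) = 0 :=
  @adamsOp_zero_arg K _ (gammaOps K) k

theorem psiG_of_gline (u : K) (hu : ∀ j : ℕ, 2 ≤ j → gamma j u = 0) (k : ℕ) :
    psiG (k + 1) u = u ^ (k + 1) :=
  @adamsOp_of_line K _ (gammaOps K) u hu k

theorem gamma_of_gammaSeries (u : K) (h : gammaSeries u = 1 + PowerSeries.C u * PowerSeries.X)
    (j : ℕ) (hj : 2 ≤ j) : gamma j u = 0 := by
  rw [← coeff_gammaSeries, h]
  obtain ⟨m, rfl⟩ : ∃ m, j = m + 2 := ⟨j - 2, by omega⟩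
  simp [PowerSeries.coeff_one, PowerSeries.coeff_succ_mul_X]

/-- `ψ_γ^k(y - 1) = (y - 1)^k` for a line element `y` -/
theorem psiG_sub_one (h1 : ∀ k : ℕ, 2 ≤ k → LambdaOps.lam k (1 : K) = 0)
    (y : K) (hy : ∀ j : ℕ, 2 ≤ j → LambdaOps.lam j y = 0) (k : ℕ) :
    psiG (k + 1) (y - 1) = (y - 1) ^ (k + 1) :=
  psiG_of_gline _ (gamma_of_gammaSeries _ (gammaSeries_sub_one h1 y hy)) k

end Gam

section Aug

variable (σ : Type u)

/-- augmentation `T_i ↦ 1` -/
noncomputable def augW : MvPolynomial σ ℤ →ₐ[ℤ] ℤ := aeval (fun _ => (1 : ℤ))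

/-- the shift `T_i ↦ T_i + 1` -/
noncomputable def betaW : MvPolynomial σ ℤ →ₐ[ℤ] MvPolynomial σ ℤ := aeval (fun i => X i + 1)

/-- the shift `T_i ↦ T_i - 1` -/
noncomputable def betaInvW : MvPolynomial σ ℤ →ₐ[ℤ] MvPolynomial σ ℤ := aeval (fun i => X i - 1)

lemma betaW_betaInvW (z : MvPolynomial σ ℤ) : betaW σ (betaInvW σ z) = z := by
  have : (betaW σ).comp (betaInvW σ) = AlgHom.id ℤ _ := by
    ext i
    simp [betaW, betaInvW]
  exact DFunLike.congr_fun this z

lemma betaInvW_betaW (z : MvPolynomial σ ℤ) : betaInvW σ (betaW σ z) = z := by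
  have : (betaInvW σ).comp (betaW σ) = AlgHom.id ℤ _ := by
    ext i
    simp [betaW, betaInvW]
  exact DFunLike.congr_fun this z

lemma augW_eq (z : MvPolynomial σ ℤ) : augW σ z = constantCoeff (betaW σ z) := by
  have : (augW σ) = (aeval (fun _ => (0:ℤ)) : MvPolynomial σ ℤ →ₐ[ℤ] ℤ).comp (betaW σ) := by
    ext i
    simp [betaW, augW]
  rw [this]
  simp only [AlgHom.comp_apply]
  generalize betaW σ z = w
  simp

/-- the `n`-th power of the augmentation ideal -/
noncomputable def IWn (n : ℕ) : Ideal (MvPolynomial σ ℤ) :=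
  Ideal.comap (betaW σ) (idealOfVars σ ℤ ^ n)

lemma mem_IWn (n : ℕ) (z : MvPolynomial σ ℤ) :
    z ∈ IWn σ n ↔ ∀ x, Finsupp.degree x < n → (betaW σ z).coeff x = 0 := by
  rw [IWn, Ideal.mem_comap, mem_pow_idealOfVars_iff']

lemma IWn_zero : IWn σ 0 = ⊤ := by
  rw [IWn, pow_zero, Ideal.one_eq_top, Ideal.comap_top]

lemma IWn_anti {m n : ℕ} (h : m ≤ n) : IWn σ n ≤ IWn σ m :=
  Ideal.comap_mono (Ideal.pow_le_pow_right h)

lemma IWn_mul {a b : ℕ} {x y : MvPolynomial σ ℤ} (hx : x ∈ IWn σ a) (hy : y ∈ IWn σ b) :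
    x * y ∈ IWn σ (a + b) := by
  rw [IWn, Ideal.mem_comap, map_mul, pow_add]
  exact Ideal.mul_mem_mul hx hy

lemma mem_IWn_one (z : MvPolynomial σ ℤ) : z ∈ IWn σ 1 ↔ augW σ z = 0 := by
  rw [mem_IWn, augW_eq]
  constructor
  · intro h
    have := h 0 (by simp)
    simpa [constantCoeff_eq] using this
  · intro h x hx
    have hx0 : x = 0 := by
      have : Finsupp.degree x = 0 := by omega
      exact (Finsupp.degree_eq_zero_iff x).mp this
    rw [hx0]
    simpa [constantCoeff_eq] using h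

lemma IWn_torsionFree (n : ℕ) (c : ℤ) (hc : c ≠ 0) (z : MvPolynomial σ ℤ)
    (h : c • z ∈ IWn σ n) : z ∈ IWn σ n := by
  rw [mem_IWn] at h ⊢
  intro x hx
  have := h x hx
  rw [map_smul, coeff_smul, smul_eq_mul] at this
  rcases mul_eq_zero.mp this with h0 | h0
  · exact absurd h0 hc
  · exact h0

lemma IWn_torsionFree' (n : ℕ) (c : ℕ) (hc : c ≠ 0) (z : MvPolynomial σ ℤ)
    (h : z * (c : MvPolynomial σ ℤ) ∈ IWn σ n) : z ∈ IWn σ n := by
  apply IWn_torsionFree σ n (c : ℤ) (by exact_mod_cast hc)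
  have : (c : ℤ) • z = z * (c : MvPolynomial σ ℤ) := by
    rw [mul_comm, zsmul_eq_mul]
    push_cast
    rfl
  rw [this]
  exact h

lemma IWn_succ (n : ℕ) : IWn σ (n + 1) = IWn σ n * IWn σ 1 := by
  have hc : ∀ J : Ideal (MvPolynomial σ ℤ), Ideal.comap (betaW σ) J = Ideal.map (betaInvW σ) J := by
    intro J
    apply le_antisymm
    · intro z hz
      rw [Ideal.mem_comap] at hz
      have := Ideal.mem_map_of_mem (betaInvW σ) hz
      rwa [betaInvW_betaW] at this
    · rw [Ideal.map_le_iff_le_comap]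
      intro z hz
      rw [Ideal.mem_comap, Ideal.mem_comap, betaW_betaInvW]
      exact hz
  rw [IWn, IWn, IWn, hc, hc, hc, pow_one, pow_succ, Ideal.map_mul]

end Aug

section Facts

variable (σ : Type u)

lemma augW_monomial (α : σ →₀ ℕ) : augW σ (monomial α 1) = 1 := by
  simp [augW, aeval_monomial]

lemma monomial_sub_one_mem (α : σ →₀ ℕ) : monomial α (1 : ℤ) - 1 ∈ IWn σ 1 := by
  rw [mem_IWn_one, map_sub, augW_monomial, map_one, sub_self]

lemma augW_expand (l : ℕ) (z : MvPolynomial σ ℤ) : augW σ (expand l z) = augW σ z := by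
  have : (augW σ).comp (expand l) = augW σ := by
    ext i
    simp [augW]
  exact DFunLike.congr_fun this z

lemma expand_mem (l n : ℕ) {z : MvPolynomial σ ℤ} (hz : z ∈ IWn σ n) : expand l z ∈ IWn σ n := by
  induction n generalizing z with
  | zero => rw [IWn_zero]; trivial
  | succ n ih =>
    rw [IWn_succ] at hz
    refine Submodule.mul_induction_on hz ?_ ?_
    · intro a ha b hb
      rw [map_mul]
      refine IWn_mul σ (ih ha) ?_
      rw [mem_IWn_one] at hb ⊢
      rw [augW_expand, hb]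
    · intro x y hx hy
      rw [map_add]
      exact Ideal.add_mem _ hx hy

/-- `E_l b ≡ l b` mod `I²` for `b ∈ I` -/
lemma expand_sub_smul_mem (l : ℕ) {z : MvPolynomial σ ℤ} (hz : z ∈ IWn σ 1) :
    expand l z - (l : ℤ) • z ∈ IWn σ 2 := by
  let a : MvPolynomial σ ℤ →+ MvPolynomial σ ℤ ⧸ IWn σ 2 :=
    (Ideal.Quotient.mk (IWn σ 2)).toAddMonoidHom.comp
      (((expand l : MvPolynomial σ ℤ →ₐ[ℤ] MvPolynomial σ ℤ).toRingHom.toAddMonoidHom -
        (l : ℤ) • AddMonoidHom.id _) +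
        ((l : ℤ) - 1) • ((C : ℤ →+* MvPolynomial σ ℤ).toAddMonoidHom.comp
          (augW σ).toRingHom.toAddMonoidHom))
  have ha : a = 0 := by
    apply addHom_ext
    intro α
    change Ideal.Quotient.mk (IWn σ 2) ((expand l (monomial α (1 : ℤ)) - (l : ℤ) • monomial α (1 : ℤ)) +
      ((l : ℤ) - 1) • C (augW σ (monomial α (1 : ℤ)))) = 0
    rw [Ideal.Quotient.eq_zero_iff_mem, augW_monomial, expand_monomial]
    have hm : monomial (l • α) (1 : ℤ) = (monomial α (1 : ℤ)) ^ l := by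
      rw [monomial_pow, one_pow]
    rw [hm]
    set m := monomial α (1 : ℤ) with hmdef
    have h1 : m ^ l - (l : ℤ) • m + ((l : ℤ) - 1) • C (1 : ℤ) =
        ((∑ i ∈ Finset.range l, m ^ i) - (l : MvPolynomial σ ℤ)) * (m - 1) := by
      rw [sub_mul, geom_sum_mul]
      simp only [zsmul_eq_mul, map_one, mul_one]
      push_cast
      ring
    rw [h1]
    refine IWn_mul σ (a := 1) (b := 1) ?_ (monomial_sub_one_mem σ α)
    rw [mem_IWn_one, map_sub, map_sum, map_natCast]
    simp only [map_pow, hmdef, augW_monomial, one_pow, Finset.sum_const, Finset.card_range,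
      nsmul_eq_mul, mul_one]
    simp
  have h2 : a z = 0 := by rw [ha]; rfl
  change Ideal.Quotient.mk (IWn σ 2) ((expand l z - (l : ℤ) • z) +
      ((l : ℤ) - 1) • C (augW σ z)) = 0 at h2
  rw [(mem_IWn_one σ z).mp hz, map_zero, smul_zero, add_zero, Ideal.Quotient.eq_zero_iff_mem] at h2
  exact h2

/-- `E_l` acts as `l^n` on `I^n / I^{n+1}` -/
lemma expand_sub_pow_smul_mem (l n : ℕ) {z : MvPolynomial σ ℤ} (hz : z ∈ IWn σ n) :
    expand l z - ((l : ℤ) ^ n) • z ∈ IWn σ (n + 1) := by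
  induction n generalizing z with
  | zero =>
    rw [pow_zero, one_smul, zero_add, mem_IWn_one, map_sub, augW_expand, sub_self]
  | succ n ih =>
    rw [IWn_succ] at hz
    refine Submodule.mul_induction_on hz ?_ ?_
    · intro a ha b hb
      have h1 : expand l (a * b) - ((l : ℤ) ^ (n + 1)) • (a * b) =
          expand l a * (expand l b - (l : ℤ) • b) +
            ((l : ℤ) • b) * (expand l a - ((l : ℤ) ^ n) • a) := by
        rw [map_mul]
        simp only [zsmul_eq_mul]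
        push_cast
        ring
      rw [h1]
      refine Ideal.add_mem _ ?_ ?_
      · have := IWn_mul σ (expand_mem σ l n ha) (expand_sub_smul_mem σ l hb)
        exact this
      · have := IWn_mul σ (Submodule.smul_of_tower_mem _ (l : ℤ) hb) (ih ha)
        rw [show 1 + (n + 1) = n + 1 + 1 by ring] at this
        exact this
    · intro x y hx hy
      have : expand l (x + y) - ((l : ℤ) ^ (n + 1)) • (x + y) =
          (expand l x - ((l : ℤ) ^ (n + 1)) • x) + (expand l y - ((l : ℤ) ^ (n + 1)) • y) := by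
        rw [map_add, smul_add]; ring
      rw [this]
      exact Ideal.add_mem _ hx hy

end Facts

section PsiW

variable (σ : Type u)

attribute [local instance] lamW

lemma lam_zero_arg {K : Type*} [CommRing K] [LambdaOps K] (j : ℕ) (hj : 1 ≤ j) :
    LambdaOps.lam j (0 : K) = 0 := by
  have h := congrArg (PowerSeries.coeff j) (lamSeries_zero (K := K))
  rw [lamSeries, PowerSeries.coeff_mk] at h
  rw [h, PowerSeries.coeff_one, if_neg (by omega)]

lemma psiG_one {K : Type*} [CommRing K] [LambdaOps K]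
    (h1 : ∀ k : ℕ, 2 ≤ k → LambdaOps.lam k (1 : K) = 0) (j : ℕ) :
    psiG (j + 1) (1 : K) = -(-1) ^ (j + 1) := by
  have h := psiG_sub_one h1 (0 : K) (fun j hj => lam_zero_arg j (by omega)) j
  have h2 := psiG_add (j + 1) (1 : K) (0 - 1)
  rw [show (1 : K) + (0 - 1) = 0 by ring, psiG_zero_arg, h] at h2
  rw [zero_sub] at h2
  exact eq_neg_of_add_eq_zero_left h2.symm

lemma psiG_monomial (j : ℕ) (α : σ →₀ ℕ) :
    psiG (j + 1) (monomial α (1 : ℤ)) = (monomial α (1 : ℤ) - 1) ^ (j + 1) - (-1) ^ (j + 1) := by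
  have h1 := (isSpecial_W σ).lam_one_eq_zero
  have h := psiG_sub_one h1 (monomial α (1 : ℤ)) (lam_monomial_eq_zero σ α) j
  have h2 := psiG_add (j + 1) (monomial α (1 : ℤ) - 1) 1
  rw [sub_add_cancel] at h2
  rw [h2, h, psiG_one h1]
  ring

/-- the Adams operations of the γ-structure on `ℤ[T]` -/
theorem psiG_eq (j : ℕ) (z : MvPolynomial σ ℤ) :
    psiG (j + 1) z = ∑ l ∈ Finset.range (j + 1),
      ((-1 : ℤ) ^ (j - l) * ((j + 1).choose (l + 1) : ℤ)) • expand (l + 1) z := by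
  let a : MvPolynomial σ ℤ →+ MvPolynomial σ ℤ :=
    { toFun := psiG (j + 1)
      map_zero' := psiG_zero_arg _
      map_add' := psiG_add _ }
  let b : MvPolynomial σ ℤ →+ MvPolynomial σ ℤ :=
    ∑ l ∈ Finset.range (j + 1), ((-1 : ℤ) ^ (j - l) * ((j + 1).choose (l + 1) : ℤ)) •
      (expand (l + 1) : MvPolynomial σ ℤ →ₐ[ℤ] MvPolynomial σ ℤ).toRingHom.toAddMonoidHom
  have hab : a = b := by
    apply addHom_ext
    intro α
    change psiG (j + 1) (monomial α (1 : ℤ)) = b (monomial α 1)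
    rw [psiG_monomial]
    simp only [b, AddMonoidHom.finsetSum_apply, AddMonoidHom.smul_apply]
    change _ = ∑ l ∈ Finset.range (j + 1), ((-1 : ℤ) ^ (j - l) * ((j + 1).choose (l + 1) : ℤ)) •
      expand (l + 1) (monomial α (1 : ℤ))
    set m := monomial α (1 : ℤ) with hm
    have he : ∀ l : ℕ, expand (l + 1) m = m ^ (l + 1) := fun l => by
      rw [hm, expand_monomial, monomial_pow, one_pow]
    simp_rw [he]
    rw [sub_eq_add_neg m 1, add_pow, Finset.sum_range_succ']
    simp only [pow_zero, Nat.sub_zero, Nat.choose_zero_right, Nat.cast_one, mul_one, one_mul]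
    rw [add_sub_cancel_right]
    apply Finset.sum_congr rfl
    intro l hl
    rw [Finset.mem_range] at hl
    rw [show j + 1 - (l + 1) = j - l by omega]
    simp only [zsmul_eq_mul]
    push_cast
    ring
  have := DFunLike.congr_fun hab z
  change psiG (j + 1) z = b z at this
  rw [this]
  simp only [b, AddMonoidHom.finsetSum_apply, AddMonoidHom.smul_apply]
  rfl

end PsiW

section WFacts

variable (σ : Type u)

attribute [local instance] lamW

theorem psiG_mem_IWn {n : ℕ} {z : MvPolynomial σ ℤ} (hz : z ∈ IWn σ n) (j : ℕ) :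
    psiG (j + 1) z ∈ IWn σ n := by
  rw [psiG_eq]
  refine Ideal.sum_mem _ fun l _ => ?_
  exact Submodule.smul_of_tower_mem _ _ (expand_mem σ (l + 1) n hz)

theorem psiG_mem_pow {z : MvPolynomial σ ℤ} (hz : z ∈ IWn σ 1) (j : ℕ) :
    psiG (j + 1) z ∈ IWn σ (j + 1) := by
  let a0 : MvPolynomial σ ℤ →+ MvPolynomial σ ℤ :=
    { toFun := psiG (j + 1)
      map_zero' := psiG_zero_arg _
      map_add' := psiG_add _ }
  let a : MvPolynomial σ ℤ →+ MvPolynomial σ ℤ ⧸ IWn σ (j + 1) :=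
    (Ideal.Quotient.mk (IWn σ (j + 1))).toAddMonoidHom.comp
      (a0 + ((-1 : ℤ) ^ (j + 1)) • ((C : ℤ →+* MvPolynomial σ ℤ).toAddMonoidHom.comp
          (augW σ).toRingHom.toAddMonoidHom))
  have ha : a = 0 := by
    apply addHom_ext
    intro α
    change Ideal.Quotient.mk (IWn σ (j + 1)) (psiG (j + 1) (monomial α (1 : ℤ)) +
      ((-1 : ℤ) ^ (j + 1)) • C (augW σ (monomial α (1 : ℤ)))) = 0
    rw [Ideal.Quotient.eq_zero_iff_mem, augW_monomial, psiG_monomial]
    have h1 : (monomial α (1 : ℤ) - 1) ^ (j + 1) - (-1) ^ (j + 1) + ((-1 : ℤ) ^ (j + 1)) • C (1 : ℤ) =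
        (monomial α (1 : ℤ) - 1) ^ (j + 1) := by
      simp only [zsmul_eq_mul, map_one, mul_one]
      push_cast
      ring
    rw [h1]
    have hpow : ∀ k : ℕ, (monomial α (1 : ℤ) - 1) ^ k ∈ IWn σ k := by
      intro k
      induction k with
      | zero => rw [IWn_zero]; trivial
      | succ k ih =>
        rw [pow_succ]
        exact IWn_mul σ ih (monomial_sub_one_mem σ α)
    exact hpow (j + 1)
  have h2 : a z = 0 := by rw [ha]; rfl
  change Ideal.Quotient.mk (IWn σ (j + 1)) (psiG (j + 1) z +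
      ((-1 : ℤ) ^ (j + 1)) • C (augW σ z)) = 0 at h2
  rw [(mem_IWn_one σ z).mp hz, map_zero, smul_zero, add_zero, Ideal.Quotient.eq_zero_iff_mem] at h2
  exact h2

/-- (W-i) `γ^i(z) ∈ I^i` for `z ∈ I`. -/
theorem gamma_mem_pow {z : MvPolynomial σ ℤ} (hz : z ∈ IWn σ 1) (i : ℕ) :
    gamma i z ∈ IWn σ i := by
  induction i using Nat.strong_induction_on with
  | _ i ih =>
    rcases i with _ | i
    · rw [IWn_zero]; trivial
    · have h := newtonG z i
      beta_reduce at h
      have hN : gamma (i + 1) z * ((i + 1 : ℕ) : MvPolynomial σ ℤ) ∈ IWn σ (i + 1) := by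
        push_cast
        rw [h]
        refine Ideal.sum_mem _ fun k hk => ?_
        rw [Finset.mem_range] at hk
        have h1 : psiG (k + 1) z ∈ IWn σ (k + 1) := psiG_mem_pow σ hz k
        have h2 : gamma (i - k) z ∈ IWn σ (i - k) := ih (i - k) (by omega)
        have h3 := IWn_mul σ (Ideal.mul_mem_left _ ((-1) ^ k) h1) h2
        rw [show k + 1 + (i - k) = i + 1 by omega] at h3
        exact h3
      exact IWn_torsionFree' σ (i + 1) (i + 1) (by omega) _ hN

/-- (W-iv) `γ^i(z) ∈ I^n` for `z ∈ I^n`, `i ≥ 1`. -/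
theorem gamma_mem_IWn {n : ℕ} {z : MvPolynomial σ ℤ} (hz : z ∈ IWn σ n) (i : ℕ) (hi : 1 ≤ i) :
    gamma i z ∈ IWn σ n := by
  obtain ⟨i, rfl⟩ : ∃ j, i = j + 1 := ⟨i - 1, by omega⟩
  have h := newtonG z i
  beta_reduce at h
  have hN : gamma (i + 1) z * ((i + 1 : ℕ) : MvPolynomial σ ℤ) ∈ IWn σ n := by
    push_cast
    rw [h]
    refine Ideal.sum_mem _ fun k hk => ?_
    exact Ideal.mul_mem_right _ _ (Ideal.mul_mem_left _ _ (psiG_mem_IWn σ hz k))
  exact IWn_torsionFree' σ n (i + 1) (by omega) _ hN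

lemma sum_choose_pow (j : ℕ) :
    ∑ l ∈ Finset.range (j + 1), ((-1 : ℤ) ^ (j - l) * ((j + 1).choose (l + 1) : ℤ)) *
      ((l + 1 : ℕ) : ℤ) ^ (j + 1) = ((j + 1).factorial : ℤ) := by
  have h := fwdDiff_iter_eq_sum_shift (M := ℤ) (G := ℤ) (h := 1) (fun r : ℤ => r ^ (j + 1)) (j + 1) 0
  rw [fwdDiff_iter_eq_factorial] at h
  rw [Finset.sum_range_succ'] at h
  simp only [zero_add, smul_eq_mul, nsmul_eq_mul, mul_one, Nat.cast_zero,
    ne_eq, Nat.add_eq_zero_iff, one_ne_zero, and_false, not_false_eq_true, zero_pow, mul_zero,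
    add_zero] at h
  have h0 : ((j + 1).factorial : ℤ → ℤ) 0 = ((j + 1).factorial : ℤ) := by
    simp
  rw [h0] at h
  rw [h]
  apply Finset.sum_congr rfl
  intro l hl
  rw [show j + 1 - (l + 1) = j - l by omega]

/-- (W-v) `γ^m(z) ≡ (-1)^(m-1) (m-1)! z` mod `I^(m+1)` for `z ∈ I^m`. -/
theorem gamma_congr (j : ℕ) {z : MvPolynomial σ ℤ} (hz : z ∈ IWn σ (j + 1)) :
    gamma (j + 1) z - ((-1 : ℤ) ^ j * (j.factorial : ℤ)) • z ∈ IWn σ (j + 1 + 1) := by
  have h := newtonG z j
  beta_reduce at h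
  -- the Adams operation
  have hpsi : psiG (j + 1) z - ((j + 1).factorial : ℤ) • z ∈ IWn σ (j + 1 + 1) := by
    rw [psiG_eq, ← sum_choose_pow, Finset.sum_smul, ← Finset.sum_sub_distrib]
    refine Ideal.sum_mem _ fun l _ => ?_
    have e : ((-1 : ℤ) ^ (j - l) * ((j + 1).choose (l + 1) : ℤ)) • expand (l + 1) z -
        ((-1 : ℤ) ^ (j - l) * ((j + 1).choose (l + 1) : ℤ) * ((l + 1 : ℕ) : ℤ) ^ (j + 1)) • z =
        ((-1 : ℤ) ^ (j - l) * ((j + 1).choose (l + 1) : ℤ)) •
          (expand (l + 1) z - (((l + 1 : ℕ) : ℤ) ^ (j + 1)) • z) := by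
      rw [smul_sub, mul_smul ((-1 : ℤ) ^ (j - l) * ((j + 1).choose (l + 1) : ℤ))]
    rw [e]
    refine Submodule.smul_of_tower_mem _ _ ?_
    exact expand_sub_pow_smul_mem σ (l + 1) (j + 1) hz
  have hN : (gamma (j + 1) z - ((-1 : ℤ) ^ j * (j.factorial : ℤ)) • z) *
      ((j + 1 : ℕ) : MvPolynomial σ ℤ) ∈ IWn σ (j + 1 + 1) := by
    rw [sub_mul]
    push_cast
    rw [h, Finset.sum_range_succ, Nat.sub_self]
    have hg0 : gamma 0 z = 1 := by simp [gamma]
    rw [hg0, mul_one]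
    have e1 : ∑ x ∈ Finset.range j, (-1) ^ x * psiG (x + 1) z * gamma (j - x) z +
        (-1) ^ j * psiG (j + 1) z - ((-1 : ℤ) ^ j * (j.factorial : ℤ)) • z * ((j : MvPolynomial σ ℤ) + 1) =
        ∑ x ∈ Finset.range j, (-1) ^ x * psiG (x + 1) z * gamma (j - x) z +
        (-1) ^ j * (psiG (j + 1) z - ((j + 1).factorial : ℤ) • z) := by
      rw [Nat.factorial_succ]
      simp only [zsmul_eq_mul]
      push_cast
      ring
    rw [e1]
    refine Ideal.add_mem _ (Ideal.sum_mem _ fun k hk => ?_) (Ideal.mul_mem_left _ _ hpsi)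
    rw [Finset.mem_range] at hk
    have h1 : psiG (k + 1) z ∈ IWn σ (j + 1) := psiG_mem_IWn σ hz k
    have h2 : gamma (j - k) z ∈ IWn σ (j + 1) := gamma_mem_IWn σ hz (j - k) (by omega)
    have h3 := IWn_mul σ (Ideal.mul_mem_left _ ((-1) ^ k) h1) h2
    exact IWn_anti σ (by omega) h3
  exact IWn_torsionFree' σ _ (j + 1) (by omega) _ hN

end WFacts

end Groth.Agent.Lib.H6xLamW
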