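import Mathlib
import Groth.Prelude.Def_LambdaSp
import Groth.Agent.Lib.H6xLamW2
import Groth.Agent.Lib.Helper4MulPoly

/-!
# Algebraic independence of blockwise elementary symmetric polynomials, and the
verification principle for several families (helper6)
-/

set_option autoImplicit false
universe u
open MvPolynomial LambdaRing

namespace Groth.Agent.Lib.H6xLamU

/-- the family of blockwise elementary symmetric polynomials -/
noncomputable def fam (S : Type u) (N : ℕ) : S × Fin N → MvPolynomial (S × Fin N) ℤ :=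
  fun p => rename (Prod.mk p.1) (esymm (Fin N) ℤ ((p.2 : ℕ) + 1))

theorem algInd_equiv {α β : Type u} (e : α ≃ β) (N : ℕ)
    (h : AlgebraicIndependent ℤ (fam α N)) : AlgebraicIndependent ℤ (fam β N) := by
  have h1 := h.map' (f := (rename (Prod.map e id) :
      MvPolynomial (α × Fin N) ℤ →ₐ[ℤ] MvPolynomial (β × Fin N) ℤ))
    (rename_injective _ (Function.Injective.prodMap e.injective Function.injective_id))
  have h2 := h1.comp (Prod.map e.symm id : β × Fin N → α × Fin N)
    (Function.Injective.prodMap e.symm.injective Function.injective_id)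
  convert h2 using 1
  funext p
  simp only [fam, Function.comp_apply, Prod.map_fst, Prod.map_snd, id_eq, rename_rename]
  have : (Prod.map (⇑e) id ∘ Prod.mk (e.symm p.1) : Fin N → β × Fin N) = Prod.mk p.1 := by
    funext a
    simp
  rw [this]

theorem algInd_option {α : Type u} (N : ℕ)
    (h : AlgebraicIndependent ℤ (fam α N)) : AlgebraicIndependent ℤ (fam (Option α) N) := by
  classical
  set R' := MvPolynomial (α × Fin N) ℤ
  set B := MvPolynomial (Fin N) R'
  let y : Fin N → B := fun k => esymm (Fin N) R' ((k : ℕ) + 1)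
  have hy : AlgebraicIndependent R' y := by
    change Function.Injective (aeval y)
    exact Groth.Agent.Lib.Helper4.MulPoly.EE_injective N N R' le_rfl
  have h1 : AlgebraicIndependent ℤ (Sum.elim y (algebraMap R' B ∘ fam α N)) :=
    AlgebraicIndependent.sumElim_comp h hy
  let e' : Option α × Fin N → Fin N ⊕ α × Fin N := fun p =>
    match p.1 with
    | none => Sum.inl p.2
    | some s => Sum.inr (s, p.2)
  have he' : Function.Injective e' := by
    rintro ⟨_ | s, a⟩ ⟨_ | s', a'⟩ hh <;> simp [e'] at hh ⊢
    · exact hh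
    · exact hh
  have h2 := h1.comp e' he'
  let Φ : MvPolynomial (Option α × Fin N) ℤ →ₐ[ℤ] B :=
    (sumAlgEquiv ℤ (Fin N) (α × Fin N)).toAlgHom.comp (rename e')
  apply AlgebraicIndependent.of_comp Φ
  convert h2 using 1
  funext p
  obtain ⟨_ | s, k⟩ := p
  · simp only [Function.comp_apply, fam, Φ, AlgHom.comp_apply, rename_rename, e', Sum.elim_inl, y]
    have : (fun a : Fin N => e' (none, a)) = Sum.inl := by
      funext a; rfl
    have h3 : ((fun p : Option α × Fin N => match p.1 with
        | none => (Sum.inl p.2 : Fin N ⊕ α × Fin N)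
        | some s => Sum.inr (s, p.2)) ∘ Prod.mk none) = Sum.inl := by
      funext a; rfl
    rw [h3]
    have h4 := DFunLike.congr_fun (sumAlgEquiv_comp_rename_inl (R := ℤ) (S₁ := Fin N)
      (S₂ := α × Fin N)) (esymm (Fin N) ℤ ((k : ℕ) + 1))
    simp only [AlgHom.comp_apply] at h4
    rw [h4]
    change map _ _ = _
    rw [map_esymm]
  · simp only [Function.comp_apply, fam, Φ, AlgHom.comp_apply, rename_rename, e', Sum.elim_inr]
    have h3 : ((fun p : Option α × Fin N => match p.1 with
        | none => (Sum.inl p.2 : Fin N ⊕ α × Fin N)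
        | some s => Sum.inr (s, p.2)) ∘ Prod.mk (some s)) = Sum.inr ∘ Prod.mk s := by
      funext a; rfl
    rw [h3, ← rename_rename]
    have h4 := DFunLike.congr_fun (sumAlgEquiv_comp_rename_inr (R := ℤ) (S₁ := Fin N)
      (S₂ := α × Fin N)) (rename (Prod.mk s) (esymm (Fin N) ℤ ((k : ℕ) + 1)))
    simp only [AlgHom.comp_apply] at h4
    rw [h4]
    rfl

theorem algInd (S : Type u) [Finite S] (N : ℕ) : AlgebraicIndependent ℤ (fam S N) := by
  revert N
  refine Finite.induction_empty_option (P := fun S => ∀ N, AlgebraicIndependent ℤ (fam S N))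
    ?_ ?_ ?_ S
  · intro α β e h N
    exact algInd_equiv e N (h N)
  · intro N
    rw [algebraicIndependent_empty_type_iff]
    exact (algebraMap ℤ (MvPolynomial (PEmpty × Fin N) ℤ)).injective_int
  · intro α _ h N
    exact algInd_option N (h N)

section VPsec

variable (S : Type u)

/-- the universal model in `N` variables per family: `X (s, i) ↦ e_{i+1}(T_{s,·})` -/
noncomputable def PsiN (N : ℕ) : MvPolynomial (S × ℕ) ℤ →ₐ[ℤ] MvPolynomial (S × Fin N) ℤ :=
  aeval (fun p : S × ℕ => rename (Prod.mk p.1) (esymm (Fin N) ℤ (p.2 + 1)))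

@[simp] lemma PsiN_X (N : ℕ) (p : S × ℕ) :
    PsiN S N (X p) = rename (Prod.mk p.1) (esymm (Fin N) ℤ (p.2 + 1)) := by
  simp [PsiN]

/-- **Verification principle** for several families. -/
theorem VP [Finite S] (F G : MvPolynomial (S × ℕ) ℤ) (N₀ : ℕ)
    (hFG : ∀ N, N₀ ≤ N → PsiN S N F = PsiN S N G) : F = G := by
  classical
  rw [← sub_eq_zero]
  set D := F - G with hD
  have hD0 : ∀ N, N₀ ≤ N → PsiN S N D = 0 := fun N hN => by rw [hD, map_sub, hFG N hN, sub_self]
  set n := D.vars.sup Prod.snd + 1 with hn
  have hvars : (D.vars : Set (S × ℕ)) ⊆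
      Set.range (Prod.map id Fin.val : S × Fin n → S × ℕ) := by
    intro i hi
    have hle : Prod.snd i ≤ D.vars.sup Prod.snd := Finset.le_sup (f := Prod.snd) hi
    exact ⟨(i.1, ⟨i.2, by omega⟩), rfl⟩
  obtain ⟨D₀, hD₀⟩ := exists_rename_eq_of_vars_subset_range D _
    (Function.Injective.prodMap Function.injective_id Fin.val_injective) hvars
  set M := max n N₀ with hM
  have hnM : n ≤ M := le_max_left _ _
  have h1 := hD0 M (le_max_right _ _)
  have h2 : PsiN S M D = aeval (fam S M ∘ (Prod.map id (Fin.castLE hnM) : S × Fin n → S × Fin M)) D₀ := by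
    rw [← hD₀, PsiN, aeval_rename]
    rfl
  rw [h2] at h1
  have hind := (algInd S M).comp (Prod.map id (Fin.castLE hnM) : S × Fin n → S × Fin M)
    (Function.Injective.prodMap Function.injective_id (Fin.castLE_injective hnM))
  have h3 : D₀ = 0 := hind (by rw [h1, map_zero])
  rw [← hD₀, h3, map_zero]

end VPsec

end Groth.Agent.Lib.H6xLamU
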