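import Mathlib
import Groth.Prelude.Def_LambdaSp
import Groth.Agent.Lib.H6xLamU1
import Groth.Agent.Lib.Helper4LambdaUniv3
import Groth.Agent.Lib.Helper4SymPoly

/-!
# The free special λ-ring on a finite set of generators: construction of the operations (helper6)
-/

set_option autoImplicit false
universe u v
open MvPolynomial LambdaRing

namespace Groth.Agent.Lib.H6xLamU

open Groth.Agent.Lib.H6xLamW Groth.Agent.Lib.Helper4 Groth.Agent.Lib.Helper4.LUniv
open Groth.Agent.Lib.Helper4.Newton

theorem hP0 : ∀ n : ℕ, ∃ P : MvPolynomial (Fin n ⊕ Fin n) ℤ, IsMulPoly n P :=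
  fun n => MulPoly.exists_isMulPoly n

theorem hQ0 : ∀ i j : ℕ, ∃ Q : MvPolynomial (Fin (i * j)) ℤ, IsCompPoly i j Q :=
  fun i j => SymPoly.exists_isCompPoly i j

/-- algebra maps commute with `aeval` (stated for the canonical `ℤ`-algebra structures) -/
theorem algHom_aeval_int {A B : Type*} [CommRing A] [CommRing B] [Algebra ℤ A] [Algebra ℤ B]
    (φ : A →ₐ[ℤ] B) {σ : Type*} (f : σ → A) (P : MvPolynomial σ ℤ) :
    φ (@aeval ℤ A σ _ _ (Ring.toIntAlgebra A) f P) =
      @aeval ℤ B σ _ _ (Ring.toIntAlgebra B) (fun i => φ (f i)) P := by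
  have hA : (Ring.toIntAlgebra A) = ‹Algebra ℤ A› := Subsingleton.elim _ _
  have hB : (Ring.toIntAlgebra B) = ‹Algebra ℤ B› := Subsingleton.elim _ _
  rw [hA, hB]
  exact comp_aeval_apply (f := f) φ P

section LamSumX

attribute [local instance] lamW

variable {τ : Type u}

lemma lamSeries_X (i : τ) :
    lamSeries (X i : MvPolynomial τ ℤ) = 1 + PowerSeries.C (X i) * PowerSeries.X :=
  lamSeries_monomial τ (Finsupp.single i 1)

lemma lam_sum_X {ι : Type*} [DecidableEq ι] (t : Finset ι) (f : ι → τ) (k : ℕ) :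
    LambdaOps.lam k (∑ i ∈ t, X (f i) : MvPolynomial τ ℤ) =
      ∑ u ∈ t.powersetCard k, ∏ i ∈ u, X (f i) := by
  rw [← coeff_lamSeries', Groth.Agent.Lib.Helper4.lamSeries_sum]
  simp_rw [lamSeries_X]
  exact coeff_prod_one_add_C_mul_X t (fun i => X (f i)) k

end LamSumX

section Closure

attribute [local instance] lamW

variable (S : Type u)

/-- the sum of the `N` variables of the family `s` -/
noncomputable def xN (N : ℕ) (s : S) : MvPolynomial (S × Fin N) ℤ := ∑ a : Fin N, X (s, a)

lemma lam_xN (N k : ℕ) (s : S) :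
    LambdaOps.lam k (xN S N s) = rename (Prod.mk s) (esymm (Fin N) ℤ k) := by
  classical
  rw [xN, lam_sum_X Finset.univ (fun a : Fin N => (s, a)) k, esymm, map_sum]
  apply Finset.sum_congr rfl
  intro u _
  rw [map_prod]
  apply Finset.prod_congr rfl
  intro a _
  rw [rename_X]

lemma PsiN_X' (N : ℕ) (p : S × ℕ) : PsiN S N (X p) = LambdaOps.lam (p.2 + 1) (xN S N p.1) := by
  rw [PsiN_X, lam_xN]

/-- closure predicate: the λ-series of `F` in all the models comes from one series over `U` -/
def Cl (F : MvPolynomial (S × ℕ) ℤ) : Prop :=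
  ∃ Hs : PowerSeries (MvPolynomial (S × ℕ) ℤ), ∀ N,
    PowerSeries.map (PsiN S N : MvPolynomial (S × ℕ) ℤ →+* MvPolynomial (S × Fin N) ℤ) Hs =
      lamSeries (PsiN S N F)

theorem cl_zero : Cl S 0 :=
  ⟨1, fun N => by rw [map_one, map_zero, lamSeries_zero]⟩

theorem cl_one : Cl S 1 :=
  ⟨1 + PowerSeries.X, fun N => by
    rw [map_one, lamSeries_one (isSpecial_W _).lam_one_eq_zero, map_add, map_one,
      PowerSeries.map_X]⟩

theorem cl_add {F G : MvPolynomial (S × ℕ) ℤ} (hF : Cl S F) (hG : Cl S G) : Cl S (F + G) := by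
  obtain ⟨HF, hHF⟩ := hF
  obtain ⟨HG, hHG⟩ := hG
  exact ⟨HF * HG, fun N => by
    rw [map_mul, hHF, hHG, map_add, Groth.Agent.Lib.Helper4.lamSeries_add]⟩

theorem cl_neg [Finite S] {F : MvPolynomial (S × ℕ) ℤ} (hF : Cl S F) : Cl S (-F) := by
  obtain ⟨HF, hHF⟩ := hF
  have hc : PowerSeries.constantCoeff HF = 1 := by
    apply VP S _ _ 0
    intro N _
    have := congrArg PowerSeries.constantCoeff (hHF N)
    rw [constantCoeff_lamSeries', ← PowerSeries.coeff_zero_eq_constantCoeff_apply,
      PowerSeries.coeff_map, PowerSeries.coeff_zero_eq_constantCoeff_apply] at this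
    rw [map_one]
    exact this
  have hinv : HF * HF.invOfUnit 1 = 1 := PowerSeries.mul_invOfUnit HF 1 (by rw [hc]; rfl)
  refine ⟨HF.invOfUnit 1, fun N => ?_⟩
  set f := (PsiN S N : MvPolynomial (S × ℕ) ℤ →+* MvPolynomial (S × Fin N) ℤ)
  have h1 : PowerSeries.map f (HF.invOfUnit 1) * lamSeries (PsiN S N F) = 1 := by
    rw [← hHF, ← map_mul, mul_comm, hinv, map_one]
  have h2 : lamSeries (PsiN S N (-F)) * lamSeries (PsiN S N F) = 1 := by
    rw [map_neg]
    exact lamSeries_neg_mul _
  calc PowerSeries.map f (HF.invOfUnit 1)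
      = PowerSeries.map f (HF.invOfUnit 1) * (lamSeries (PsiN S N F) * lamSeries (PsiN S N (-F))) := by
        rw [mul_comm (lamSeries (PsiN S N F)), h2, mul_one]
    _ = (PowerSeries.map f (HF.invOfUnit 1) * lamSeries (PsiN S N F)) * lamSeries (PsiN S N (-F)) := by
        ring
    _ = _ := by rw [h1, one_mul]

theorem cl_mul {F G : MvPolynomial (S × ℕ) ℤ} (hF : Cl S F) (hG : Cl S G) : Cl S (F * G) := by
  obtain ⟨HF, hHF⟩ := hF
  obtain ⟨HG, hHG⟩ := hG
  refine ⟨PowerSeries.mk fun n => aeval (Sum.elim (fun i => PowerSeries.coeff (i + 1) HF)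
    (fun i => PowerSeries.coeff (i + 1) HG)) (Pt hP0 n), fun N => ?_⟩
  apply PowerSeries.ext
  intro n
  rw [PowerSeries.coeff_map, PowerSeries.coeff_mk, coeff_lamSeries', map_mul,
    lam_mul_eq_ev2 (isSpecial_W _) hP0, ev2]
  change (PsiN S N) (aeval _ (Pt hP0 n)) = _
  rw [comp_aeval_apply]
  congr 2
  funext i
  rcases i with i | i
  · simp only [Sum.elim_inl]
    have := congrArg (PowerSeries.coeff (i + 1)) (hHF N)
    rw [PowerSeries.coeff_map, coeff_lamSeries'] at this
    exact this
  · simp only [Sum.elim_inr]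
    have := congrArg (PowerSeries.coeff (i + 1)) (hHG N)
    rw [PowerSeries.coeff_map, coeff_lamSeries'] at this
    exact this

theorem cl_X (p : S × ℕ) : Cl S (X p) := by
  refine ⟨PowerSeries.mk fun n => aeval (fun k : ℕ => (X (p.1, k) : MvPolynomial (S × ℕ) ℤ))
    (Qt hQ0 (p.2 + 1) n), fun N => ?_⟩
  apply PowerSeries.ext
  intro n
  rw [PowerSeries.coeff_map, PowerSeries.coeff_mk, coeff_lamSeries', PsiN_X',
    lam_lam_eq_ev1 (isSpecial_W _) hQ0, ev1]
  change (PsiN S N) (aeval _ (Qt hQ0 (p.2 + 1) n)) = _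
  rw [comp_aeval_apply]
  congr 2
  funext k
  exact PsiN_X' S N (p.1, k)

theorem cl_C [Finite S] (a : ℤ) : Cl S (C a) := by
  induction a using Int.induction_on with
  | zero => rw [map_zero]; exact cl_zero S
  | succ i ih =>
    rw [map_add, map_one]
    exact cl_add S ih (cl_one S)
  | pred i ih =>
    rw [map_sub, map_one, sub_eq_add_neg]
    exact cl_add S ih (cl_neg S (cl_one S))

theorem cl_all [Finite S] (F : MvPolynomial (S × ℕ) ℤ) : Cl S F := by
  induction F using MvPolynomial.induction_on with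
  | C a => exact cl_C S a
  | add p q hp hq => exact cl_add S hp hq
  | mul_X p i hp => exact cl_mul S hp (cl_X S i)

end Closure

section Ops

attribute [local instance] lamW

variable (S : Type u) [Finite S]

/-- the λ-series in the free special λ-ring -/
noncomputable def lserU (F : MvPolynomial (S × ℕ) ℤ) : PowerSeries (MvPolynomial (S × ℕ) ℤ) :=
  (cl_all S F).choose

lemma map_lserU (F : MvPolynomial (S × ℕ) ℤ) (N : ℕ) :
    PowerSeries.map (PsiN S N : MvPolynomial (S × ℕ) ℤ →+* MvPolynomial (S × Fin N) ℤ) (lserU S F) =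
      lamSeries (PsiN S N F) :=
  (cl_all S F).choose_spec N

/-- the λ-operations of the free special λ-ring, as plain functions -/
noncomputable def lamUfun (n : ℕ) (F : MvPolynomial (S × ℕ) ℤ) : MvPolynomial (S × ℕ) ℤ :=
  PowerSeries.coeff n (lserU S F)

lemma PsiN_lamUfun (N n : ℕ) (F : MvPolynomial (S × ℕ) ℤ) :
    PsiN S N (lamUfun S n F) = LambdaOps.lam n (PsiN S N F) := by
  have := congrArg (PowerSeries.coeff n) (map_lserU S F N)
  rw [PowerSeries.coeff_map, coeff_lamSeries'] at this
  exact this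

/-- the λ-structure of the free special λ-ring on the generators `X (s, 0)` -/
@[reducible] noncomputable def lamU : LambdaOps (MvPolynomial (S × ℕ) ℤ) where
  lam := lamUfun S
  lam_zero F := by
    apply VP S _ _ 0
    intro N _
    rw [PsiN_lamUfun, LambdaOps.lam_zero, map_one]
  lam_one F := by
    apply VP S _ _ 0
    intro N _
    rw [PsiN_lamUfun, LambdaOps.lam_one]
  lam_add k F G := by
    apply VP S _ _ 0
    intro N _
    rw [PsiN_lamUfun, map_add, LambdaOps.lam_add, map_sum]
    apply Finset.sum_congr rfl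
    intro i _
    rw [map_mul, PsiN_lamUfun, PsiN_lamUfun]

end Ops

section Special

attribute [local instance 100] lamW
attribute [local instance 2000] lamU

variable (S : Type u) [Finite S]

theorem PsiN_lam (N n : ℕ) (F : MvPolynomial (S × ℕ) ℤ) :
    PsiN S N (LambdaOps.lam n F) = LambdaOps.lam n (PsiN S N F) :=
  PsiN_lamUfun S N n F

theorem isLambdaHom_PsiN (N : ℕ) :
    IsLambdaHom (PsiN S N : MvPolynomial (S × ℕ) ℤ →+* MvPolynomial (S × Fin N) ℤ) :=
  fun n F => PsiN_lam S N n F

theorem isSpecial_U : IsSpecial (MvPolynomial (S × ℕ) ℤ) where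
  lam_one_eq_zero n hn := by
    apply VP S _ _ 0
    intro N _
    rw [PsiN_lam, map_one, (isSpecial_W _).lam_one_eq_zero n hn, map_zero]
  lam_mul n P hP x y := by
    apply VP S _ _ 0
    intro N _
    rw [PsiN_lam, map_mul, (isSpecial_W _).lam_mul n P hP, algHom_aeval_int]
    congr 2
    funext i
    rcases i with i | i
    · simp only [Sum.elim_inl, PsiN_lam]
    · simp only [Sum.elim_inr, PsiN_lam]
  lam_lam i j Q hQ x := by
    apply VP S _ _ 0
    intro N _
    rw [PsiN_lam, PsiN_lam, (isSpecial_W _).lam_lam i j Q hQ, algHom_aeval_int]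
    congr 2
    funext k
    rw [PsiN_lam]

theorem lam_X0 (s : S) (i : ℕ) :
    LambdaOps.lam (i + 1) (X (s, 0) : MvPolynomial (S × ℕ) ℤ) = X (s, i) := by
  apply VP S _ _ 0
  intro N _
  rw [PsiN_lam, PsiN_X', PsiN_X']
  simp only [zero_add, LambdaOps.lam_one]

theorem lam_X (p : S × ℕ) (n : ℕ) :
    LambdaOps.lam n (X p : MvPolynomial (S × ℕ) ℤ) =
      aeval (fun k : ℕ => (X (p.1, k) : MvPolynomial (S × ℕ) ℤ)) (Qt hQ0 (p.2 + 1) n) := by
  obtain ⟨s, i⟩ := p
  rw [← lam_X0 S s i, lam_lam_eq_ev1 (isSpecial_U S) hQ0, ev1]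
  congr 2
  funext k
  exact lam_X0 S s k

end Special

section Univ

attribute [local instance 2000] lamU

variable (S : Type u) [Finite S] {A : Type v} [CommRing A] [LambdaOps A]

/-- the universal homomorphism: `X (s, i) ↦ λ^{i+1}(x s)` -/
noncomputable def phi (x : S → A) : MvPolynomial (S × ℕ) ℤ →ₐ[ℤ] A :=
  aeval (fun p : S × ℕ => LambdaOps.lam (p.2 + 1) (x p.1))

omit [Finite S] in
@[simp] lemma phi_X (x : S → A) (p : S × ℕ) : phi S x (X p) = LambdaOps.lam (p.2 + 1) (x p.1) := by
  simp [phi]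

omit [Finite S] in
lemma phi_X0 (x : S → A) (s : S) : phi S x (X (s, 0)) = x s := by
  rw [phi_X]
  simp [LambdaOps.lam_one]

/-- the predicate "φ commutes with the λ-series of `F`" -/
def Comm (x : S → A) (F : MvPolynomial (S × ℕ) ℤ) : Prop :=
  PowerSeries.map (phi S x : MvPolynomial (S × ℕ) ℤ →+* A) (lamSeries F) = lamSeries (phi S x F)

lemma comm_coeff {x : S → A} {F : MvPolynomial (S × ℕ) ℤ} (h : Comm S x F) (n : ℕ) :
    phi S x (LambdaOps.lam n F) = LambdaOps.lam n (phi S x F) := by
  have := congrArg (PowerSeries.coeff n) h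
  rw [PowerSeries.coeff_map, coeff_lamSeries', coeff_lamSeries'] at this
  exact this

lemma comm_of_coeff {x : S → A} {F : MvPolynomial (S × ℕ) ℤ}
    (h : ∀ n, phi S x (LambdaOps.lam n F) = LambdaOps.lam n (phi S x F)) : Comm S x F := by
  apply PowerSeries.ext
  intro n
  rw [PowerSeries.coeff_map, coeff_lamSeries', coeff_lamSeries']
  exact h n

variable (hA : IsSpecial A)
include hA

omit hA in
theorem comm_zero (x : S → A) : Comm S x 0 := by
  rw [Comm, lamSeries_zero, map_zero, lamSeries_zero, map_one]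

theorem comm_one (x : S → A) : Comm S x 1 := by
  rw [Comm, lamSeries_one (isSpecial_U S).lam_one_eq_zero, map_one,
    lamSeries_one hA.lam_one_eq_zero, map_add, map_one, PowerSeries.map_X]

omit hA in
theorem comm_add (x : S → A) {F G : MvPolynomial (S × ℕ) ℤ} (hF : Comm S x F) (hG : Comm S x G) :
    Comm S x (F + G) := by
  rw [Comm] at hF hG ⊢
  rw [Groth.Agent.Lib.Helper4.lamSeries_add, map_mul, hF, hG, map_add,
    Groth.Agent.Lib.Helper4.lamSeries_add]

omit hA in
theorem comm_neg (x : S → A) {F : MvPolynomial (S × ℕ) ℤ} (hF : Comm S x F) : Comm S x (-F) := by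
  rw [Comm] at hF ⊢
  set f := (phi S x : MvPolynomial (S × ℕ) ℤ →+* A)
  have h1 : PowerSeries.map f (lamSeries (-F)) * lamSeries (phi S x F) = 1 := by
    rw [← hF, ← map_mul, lamSeries_neg_mul, map_one]
  have h2 : lamSeries (phi S x (-F)) * lamSeries (phi S x F) = 1 := by
    rw [map_neg]
    exact lamSeries_neg_mul _
  calc PowerSeries.map f (lamSeries (-F))
      = PowerSeries.map f (lamSeries (-F)) * (lamSeries (phi S x F) * lamSeries (phi S x (-F))) := by
        rw [mul_comm (lamSeries (phi S x F)), h2, mul_one]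
    _ = (PowerSeries.map f (lamSeries (-F)) * lamSeries (phi S x F)) * lamSeries (phi S x (-F)) := by
        ring
    _ = _ := by rw [h1, one_mul]

theorem comm_C (x : S → A) (a : ℤ) : Comm S x (C a) := by
  induction a using Int.induction_on with
  | zero => rw [map_zero]; exact comm_zero S x
  | succ i ih =>
    rw [map_add, map_one]
    exact comm_add S x ih (comm_one S hA x)
  | pred i ih =>
    rw [map_sub, map_one, sub_eq_add_neg]
    exact comm_add S x ih (comm_neg S x (comm_one S hA x))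

theorem comm_mul (x : S → A) {F G : MvPolynomial (S × ℕ) ℤ} (hF : Comm S x F) (hG : Comm S x G) :
    Comm S x (F * G) := by
  apply comm_of_coeff
  intro n
  rw [lam_mul_eq_ev2 (isSpecial_U S) hP0, map_mul, lam_mul_eq_ev2 hA hP0, ev2, ev2,
    algHom_aeval_int]
  congr 2
  funext i
  rcases i with i | i
  · simp only [Sum.elim_inl]
    exact comm_coeff S hF (i + 1)
  · simp only [Sum.elim_inr]
    exact comm_coeff S hG (i + 1)

theorem comm_X (x : S → A) (p : S × ℕ) : Comm S x (X p) := by
  apply comm_of_coeff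
  intro n
  rw [lam_X, phi_X, lam_lam_eq_ev1 hA hQ0, ev1, comp_aeval_apply]
  congr 2
  funext k
  rw [phi_X]

theorem comm_all (x : S → A) (F : MvPolynomial (S × ℕ) ℤ) : Comm S x F := by
  induction F using MvPolynomial.induction_on with
  | C a => exact comm_C S hA x a
  | add p q hp hq => exact comm_add S x hp hq
  | mul_X p i hp => exact comm_mul S hA x hp (comm_X S hA x i)

/-- **Universal property**: `φ_x` commutes with the λ-operations. -/
theorem phi_lam (x : S → A) (n : ℕ) (F : MvPolynomial (S × ℕ) ℤ) :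
    phi S x (LambdaOps.lam n F) = LambdaOps.lam n (phi S x F) :=
  comm_coeff S (comm_all S hA x F) n

theorem phi_gamma (x : S → A) (n : ℕ) (F : MvPolynomial (S × ℕ) ℤ) :
    phi S x (gamma n F) = gamma n (phi S x F) := by
  unfold gamma
  split_ifs with h
  · rw [map_one]
  · rw [map_sum]
    apply Finset.sum_congr rfl
    intro j _
    rw [map_mul, map_natCast]
    split_ifs with hj
    · rw [map_zero]
    · rw [phi_lam S hA]

end Univ

end Groth.Agent.Lib.H6xLamU
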