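import Mathlib
import Groth.Prelude.Def_LambdaSp
import Groth.Agent.Lib.H6xLamU2

/-!
# Scalar multiplication by elements of a binomial ring in a λ-algebra (helper6)

`λ_t(κ y) = Σ_l C(κ, l) (λ_t(y) - 1)^l`, coefficientwise, and the same for `γ_t`.
-/

set_option autoImplicit false
universe u v
open MvPolynomial LambdaRing

namespace Groth.Agent.Lib.H6xLamE

open Groth.Agent.Lib.H6xLamW Groth.Agent.Lib.H6xLamU Groth.Agent.Lib.Helper4
open Groth.Agent.Lib.Helper4.LUniv Groth.Agent.Lib.Helper4.Newton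

section IP

attribute [local instance] BinomialRing.toIsAddTorsionFree

variable {K : Type u} [CommRing K] [BinomialRing K]

/-- clearing denominators: an integer polynomial in the binomial coefficients `C(κ, i+1)` is,
up to a nonzero integer factor, an integer polynomial in `κ`. -/
theorem exists_clear (E : MvPolynomial ℕ ℤ) :
    ∃ (c : ℕ) (G : Polynomial ℤ), c ≠ 0 ∧
      (∀ κ : K, Polynomial.aeval κ G = c • aeval (fun i => Ring.choose κ (i + 1)) E) ∧
      (∀ k : ℤ, Polynomial.aeval k G = c • aeval (fun i => Ring.choose k (i + 1)) E) := by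
  induction E using MvPolynomial.induction_on with
  | C a =>
    refine ⟨1, Polynomial.C a, one_ne_zero, fun κ => ?_, fun k => ?_⟩
    · simp
    · simp
  | add p q hp hq =>
    obtain ⟨c₁, G₁, hc₁, h₁, h₁'⟩ := hp
    obtain ⟨c₂, G₂, hc₂, h₂, h₂'⟩ := hq
    refine ⟨c₁ * c₂, (c₂ : Polynomial ℤ) * G₁ + (c₁ : Polynomial ℤ) * G₂, Nat.mul_ne_zero hc₁ hc₂,
      fun κ => ?_, fun k => ?_⟩
    · rw [map_add, map_mul, map_mul, h₁, h₂, map_natCast, map_natCast, map_add]
      simp only [nsmul_eq_mul]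
      push_cast
      ring
    · rw [map_add, map_mul, map_mul, h₁', h₂', map_natCast, map_natCast, map_add]
      simp only [nsmul_eq_mul]
      push_cast
      ring
  | mul_X p i hp =>
    obtain ⟨c, G, hc, h, h'⟩ := hp
    refine ⟨c * (i + 1).factorial, G * descPochhammer ℤ (i + 1),
      Nat.mul_ne_zero hc (Nat.factorial_ne_zero _), fun κ => ?_, fun k => ?_⟩
    · rw [map_mul, h, map_mul, aeval_X, Polynomial.aeval_eq_smeval,
        Ring.descPochhammer_eq_factorial_smul_choose]
      simp only [nsmul_eq_mul]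
      push_cast
      ring
    · rw [map_mul, h', map_mul, aeval_X, Polynomial.aeval_eq_smeval,
        Ring.descPochhammer_eq_factorial_smul_choose]
      simp only [nsmul_eq_mul]
      push_cast
      ring

/-- **Identity principle** for integer polynomials in binomial coefficients. -/
theorem IP (E : MvPolynomial ℕ ℤ)
    (h : ∀ k : ℕ, aeval (fun i => ((k.choose (i + 1) : ℕ) : ℤ)) E = 0) (κ : K) :
    aeval (fun i => Ring.choose κ (i + 1)) E = 0 := by
  obtain ⟨c, G, hc, hK, hZ⟩ := exists_clear (K := K) E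
  have hG : G = 0 := by
    apply Polynomial.eq_zero_of_infinite_isRoot
    apply Set.Infinite.mono (s := Set.range (fun k : ℕ => (k : ℤ)))
    · rintro _ ⟨k, rfl⟩
      change Polynomial.IsRoot G (k : ℤ)
      rw [Polynomial.IsRoot.def, ← Polynomial.coe_aeval_eq_eval, hZ]
      have : (fun i => Ring.choose ((k : ℕ) : ℤ) (i + 1)) = fun i => ((k.choose (i + 1) : ℕ) : ℤ) := by
        funext i
        exact Ring.choose_natCast k (i + 1)
      rw [this, h k, smul_zero]
    · exact Set.infinite_range_of_injective Nat.cast_injective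
  have h2 := hK κ
  rw [hG, map_zero] at h2
  exact (nsmul_right_injective hc) (by beta_reduce; rw [← h2, smul_zero])

end IP

section IP2

variable {K : Type u} [CommRing K] [BinomialRing K]

/-- partial evaluation as a coefficientwise map -/
theorem partial_eval_eq {σ : Type*} {R : Type*} [CommRing R] (f : ℕ → R)
    (D : MvPolynomial (σ ⊕ ℕ) ℤ) :
    aeval (Sum.elim X (C ∘ f) : σ ⊕ ℕ → MvPolynomial σ R) D =
      map ((aeval f : MvPolynomial ℕ ℤ →ₐ[ℤ] R) : MvPolynomial ℕ ℤ →+* R) (sumAlgEquiv ℤ σ ℕ D) := by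
  have : ((aeval (Sum.elim X (C ∘ f) : σ ⊕ ℕ → MvPolynomial σ R) :
      MvPolynomial (σ ⊕ ℕ) ℤ →ₐ[ℤ] MvPolynomial σ R) : MvPolynomial (σ ⊕ ℕ) ℤ →+* MvPolynomial σ R) =
      (map ((aeval f : MvPolynomial ℕ ℤ →ₐ[ℤ] R) : MvPolynomial ℕ ℤ →+* R)).comp
        ((sumAlgEquiv ℤ σ ℕ : MvPolynomial (σ ⊕ ℕ) ℤ ≃ₐ[ℤ] _) : MvPolynomial (σ ⊕ ℕ) ℤ →+* _) := by
    apply MvPolynomial.ringHom_ext
    · intro r
      simp
    · intro i
      rcases i with s | i
      · simp
      · simp
  exact DFunLike.congr_fun this D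

/-- **Identity principle**, polynomial-valued form. -/
theorem IP' {σ : Type*} (D : MvPolynomial (σ ⊕ ℕ) ℤ)
    (h : ∀ k : ℕ, aeval (Sum.elim X (C ∘ fun i => ((k.choose (i + 1) : ℕ) : ℤ)) :
      σ ⊕ ℕ → MvPolynomial σ ℤ) D = 0) (κ : K) :
    aeval (Sum.elim X (C ∘ fun i => Ring.choose κ (i + 1)) : σ ⊕ ℕ → MvPolynomial σ K) D = 0 := by
  rw [partial_eval_eq]
  ext β
  rw [coeff_map, coeff_zero]
  apply IP
  intro k
  have := congrArg (coeff β) (h k)
  rw [partial_eval_eq, coeff_map, coeff_zero] at this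
  exact this

end IP2

section BinSeries

open PowerSeries in
/-- the coefficient of `t^n` in `Σ_l z_l u^l` (for `u` without constant term) -/
noncomputable def bs {R : Type*} [CommRing R] (z : ℕ → R) (u : PowerSeries R) (n : ℕ) : R :=
  ∑ l ∈ Finset.range (n + 1), z l * PowerSeries.coeff n (u ^ l)

lemma coeff_pow_eq_zero {R : Type*} [CommRing R] (u : PowerSeries R)
    (hu : PowerSeries.constantCoeff u = 0) {n l : ℕ} (h : n < l) :
    PowerSeries.coeff n (u ^ l) = 0 := by
  have h1 : (PowerSeries.X : PowerSeries R) ∣ u := by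
    rw [PowerSeries.X_dvd_iff]; exact hu
  have h2 : (PowerSeries.X : PowerSeries R) ^ l ∣ u ^ l := pow_dvd_pow_of_dvd h1 l
  exact (PowerSeries.X_pow_dvd_iff.mp h2) n h

lemma bs_eq_of_le {R : Type*} [CommRing R] (z : ℕ → R) (u : PowerSeries R)
    (hu : PowerSeries.constantCoeff u = 0) (n M : ℕ) (h : n ≤ M) :
    ∑ l ∈ Finset.range (M + 1), z l * PowerSeries.coeff n (u ^ l) = bs z u n := by
  rw [bs]
  symm
  apply Finset.sum_subset
  · intro l hl
    rw [Finset.mem_range] at hl ⊢
    omega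
  · intro l _ hl
    rw [Finset.mem_range, not_lt] at hl
    rw [coeff_pow_eq_zero u hu (by omega), mul_zero]

variable {T : Type*} [CommRing T] [LambdaOps T]

lemma lamSeries_nsmul (k : ℕ) (y : T) : lamSeries (k • y) = lamSeries y ^ k := by
  induction k with
  | zero => simp
  | succ k ih => rw [succ_nsmul, Groth.Agent.Lib.Helper4.lamSeries_add, ih, pow_succ]

lemma constantCoeff_lamSeries_sub_one (y : T) :
    PowerSeries.constantCoeff (lamSeries y - 1) = 0 := by
  rw [map_sub, constantCoeff_lamSeries', map_one, sub_self]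

/-- the case of a natural number multiple, valid in any pre-λ-ring -/
theorem lam_nsmul (k n : ℕ) (y : T) :
    LambdaOps.lam n (k • y) = bs (fun l => ((k.choose l : ℕ) : T)) (lamSeries y - 1) n := by
  rw [← coeff_lamSeries', lamSeries_nsmul]
  have h1 : lamSeries y ^ k = ∑ l ∈ Finset.range (k + 1),
      (lamSeries y - 1) ^ l * ((k.choose l : ℕ) : PowerSeries T) := by
    conv_lhs => rw [show lamSeries y = (lamSeries y - 1) + 1 by ring]
    rw [add_pow]
    apply Finset.sum_congr rfl
    intro l _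
    rw [one_pow, mul_one]
  set u := lamSeries y - 1 with hu
  have hu0 := constantCoeff_lamSeries_sub_one y
  rw [h1, map_sum]
  have h2 : ∀ l, PowerSeries.coeff n (u ^ l * ((k.choose l : ℕ) : PowerSeries T)) =
      ((k.choose l : ℕ) : T) * PowerSeries.coeff n (u ^ l) := by
    intro l
    rw [mul_comm, ← map_natCast (PowerSeries.C (R := T)), PowerSeries.coeff_C_mul]
  simp_rw [h2]
  rw [← bs_eq_of_le _ u hu0 n (max n k) (le_max_left _ _)]
  apply Finset.sum_subset
  · intro l hl
    rw [Finset.mem_range] at hl ⊢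
    have := le_max_right n k
    omega
  · intro l _ hl
    rw [Finset.mem_range, not_lt] at hl
    rw [Nat.choose_eq_zero_of_lt (by omega), Nat.cast_zero, zero_mul]

end BinSeries

section UnivPoly

/-- the universal series `λ_t(y) - 1` -/
noncomputable def ysr : PowerSeries (MvPolynomial (ℕ ⊕ ℕ) ℤ) :=
  PowerSeries.mk fun j => if j = 0 then 0 else X (Sum.inl (j - 1))

/-- the universal binomial coefficient `C(κ, l)` -/
noncomputable def zco (l : ℕ) : MvPolynomial (ℕ ⊕ ℕ) ℤ := if l = 0 then 1 else X (Sum.inr (l - 1))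

/-- the universal polynomial for `Σ_l C(κ, l) [t^n] (λ_t(y) - 1)^l` -/
noncomputable def Rn (n : ℕ) : MvPolynomial (ℕ ⊕ ℕ) ℤ :=
  ∑ l ∈ Finset.range (n + 1), zco l * PowerSeries.coeff n (ysr ^ l)

theorem aeval_Rn {T : Type*} [CommRing T] (w z : ℕ → T) (n : ℕ) :
    aeval (Sum.elim w z) (Rn n) =
      bs (fun l => if l = 0 then 1 else z (l - 1))
        (PowerSeries.mk fun j => if j = 0 then 0 else w (j - 1)) n := by
  rw [Rn, bs, map_sum]
  apply Finset.sum_congr rfl
  intro l _
  rw [map_mul]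
  congr 1
  · rw [zco]
    split_ifs with h
    · rw [map_one]
    · rw [aeval_X, Sum.elim_inr]
  · have h1 : PowerSeries.map ((aeval (Sum.elim w z) : MvPolynomial (ℕ ⊕ ℕ) ℤ →ₐ[ℤ] T) :
        MvPolynomial (ℕ ⊕ ℕ) ℤ →+* T) ysr =
        PowerSeries.mk fun j => if j = 0 then 0 else w (j - 1) := by
      apply PowerSeries.ext
      intro j
      rw [PowerSeries.coeff_map, ysr, PowerSeries.coeff_mk, PowerSeries.coeff_mk]
      split_ifs with h
      · rw [map_zero]
      · simp
    rw [← h1, ← map_pow, PowerSeries.coeff_map]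
    rfl

lemma mk_lam_eq {T : Type*} [CommRing T] [LambdaOps T] (y : T) :
    (PowerSeries.mk fun j => if j = 0 then 0 else LambdaOps.lam (j - 1 + 1) y) = lamSeries y - 1 := by
  apply PowerSeries.ext
  intro j
  rw [PowerSeries.coeff_mk, map_sub, coeff_lamSeries', PowerSeries.coeff_one]
  split_ifs with h
  · rw [h, LambdaOps.lam_zero, sub_self]
  · rw [sub_zero, Nat.sub_add_cancel (by omega)]

end UnivPoly

section NatCase

attribute [local instance] lamW

/-- algebra maps commute with `aeval`, for arbitrary `ℤ`-algebra structures -/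
theorem algHom_aeval_gen {A B : Type*} [CommRing A] [CommRing B] {jA : Algebra ℤ A}
    {jB : Algebra ℤ B} (iA : Algebra ℤ A) (iB : Algebra ℤ B)
    (φ : @AlgHom ℤ A B _ _ _ jA jB) {σ : Type*} (f : σ → A) (P : MvPolynomial σ ℤ) :
    φ (@aeval ℤ A σ _ _ iA f P) = @aeval ℤ B σ _ _ iB (fun i => φ (f i)) P := by
  obtain rfl : iA = jA := Subsingleton.elim _ _
  obtain rfl : iB = jB := Subsingleton.elim _ _
  exact comp_aeval_apply (f := f) φ P

lemma lam_natCast_W {τ : Type*} (k i : ℕ) :
    LambdaOps.lam i ((k : ℕ) : MvPolynomial τ ℤ) = ((k.choose i : ℕ) : MvPolynomial τ ℤ) := by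
  rw [← coeff_lamSeries', lamSeries_natCast (isSpecial_W τ).lam_one_eq_zero, coeff_one_add_X_pow]

/-- the universal identity for natural number multiples -/
theorem Dn_nat (k n : ℕ) :
    aeval (Sum.elim X (C ∘ fun i => ((k.choose (i + 1) : ℕ) : ℤ)) : ℕ ⊕ ℕ → MvPolynomial ℕ ℤ)
      (Pt hP0 n - Rn n) = 0 := by
  classical
  apply VP1 _ _ 0
  intro N _
  rw [map_zero, algHom_aeval_gen _ (Ring.toIntAlgebra _)]
  set y₀ : MvPolynomial (Fin N) ℤ := ∑ a : Fin N, X a with hy₀
  have hy : ∀ i, LambdaOps.lam i y₀ = esymm (Fin N) ℤ i := by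
    intro i
    rw [hy₀, lam_sum_X Finset.univ (fun a : Fin N => a) i, esymm]
  have hf : (fun i : ℕ ⊕ ℕ => PsiInf N ((Sum.elim X (C ∘ fun i => ((k.choose (i + 1) : ℕ) : ℤ)) :
      ℕ ⊕ ℕ → MvPolynomial ℕ ℤ) i)) =
      Sum.elim (fun i => LambdaOps.lam (i + 1) y₀)
        (fun i => LambdaOps.lam (i + 1) ((k : ℕ) : MvPolynomial (Fin N) ℤ)) := by
    funext i
    rcases i with i | i
    · simp only [Sum.elim_inl, hy]
      simp [PsiInf]
    · simp only [Sum.elim_inr, Function.comp_apply, lam_natCast_W]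
      simp [PsiInf]
  rw [hf, map_sub]
  have h1 := lam_mul_eq_ev2 (isSpecial_W (Fin N)) hP0 n y₀ ((k : ℕ) : MvPolynomial (Fin N) ℤ)
  rw [ev2] at h1
  rw [← h1, aeval_Rn, mk_lam_eq, mul_comm, ← nsmul_eq_mul, lam_nsmul, sub_eq_zero]
  congr 1
  funext l
  split_ifs with h
  · rw [h, Nat.choose_zero_right, Nat.cast_one]
  · rw [Nat.sub_add_cancel (by omega), lam_natCast_W]

end NatCase

section MainE

variable {K : Type u} [CommRing K] [LambdaOps K] [BinomialRing K] (hKb : IsBinomial K)
  {A : Type v} [CommRing A] [LambdaOps A] [Algebra K A] (hA : IsSpecial A) (hKA : IsLambdaAlg K A)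

include hKb hA hKA

/-- **λ-operations of a scalar multiple**: `λ^n(κ y) = Σ_l C(κ, l) [t^n] (λ_t(y) - 1)^l`. -/
theorem lam_smul (κ : K) (y : A) (n : ℕ) :
    LambdaOps.lam n (y * algebraMap K A κ) =
      bs (fun l => algebraMap K A (Ring.choose κ l)) (lamSeries y - 1) n := by
  rw [lam_mul_eq_ev2 hA hP0 n y (algebraMap K A κ), ev2]
  have hz : (fun i => LambdaOps.lam (i + 1) (algebraMap K A κ)) =
      algebraMap K A ∘ (fun i => Ring.choose κ (i + 1)) := by
    funext i
    rw [Function.comp_apply, ← hKA (i + 1) κ, hKb]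
  have key := IP' (K := K) (Pt hP0 n - Rn n) (fun k => Dn_nat k n) κ
  have h1 := aeval_sumElim (R := ℤ) (S := K) (T := A) (Pt hP0 n - Rn n)
    (fun i => Ring.choose κ (i + 1)) (fun i => LambdaOps.lam (i + 1) y)
  rw [key, map_zero, map_sub, sub_eq_zero] at h1
  rw [hz, h1, aeval_Rn, mk_lam_eq]
  congr 1
  funext l
  split_ifs with h
  · rw [h, Ring.choose_zero_right, map_one]
  · rw [Function.comp_apply, Nat.sub_add_cancel (by omega)]

end MainE

section GammaE

variable {K : Type u} [CommRing K] [LambdaOps K] [BinomialRing K] (hKb : IsBinomial K)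
  {A : Type v} [CommRing A] [LambdaOps A] [Algebra K A] (hA : IsSpecial A) (hKA : IsLambdaAlg K A)

/-- transfer of a truncated polynomial identity from `λ_t` to `γ_t` -/
theorem gamma_of_lam_trunc {A : Type*} [CommRing A] [LambdaOps A] (c : ℕ → A) (y z : A) (n : ℕ)
    (h : ∀ m ≤ n, LambdaOps.lam m z = bs c (lamSeries y - 1) m) :
    gamma n z = bs c (gammaSeries y - 1) n := by
  set u := lamSeries y - 1 with hu
  have hu0 : PowerSeries.constantCoeff u = 0 := constantCoeff_lamSeries_sub_one y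
  set P : PowerSeries A := ∑ l ∈ Finset.range (n + 1), PowerSeries.C (c l) * u ^ l with hP
  have hdiv : (PowerSeries.X : PowerSeries A) ^ (n + 1) ∣ lamSeries z - P := by
    rw [PowerSeries.X_pow_dvd_iff]
    intro m hm
    rw [map_sub, coeff_lamSeries', h m (by omega), hP, map_sum, sub_eq_zero]
    simp_rw [PowerSeries.coeff_C_mul]
    exact (bs_eq_of_le c u hu0 m n (by omega)).symm
  obtain ⟨q, hq⟩ := hdiv
  set f := PowerSeries.substAlgHom (R := A) (hasSubst_tau (K := A)) with hf
  have hfs : ∀ g : PowerSeries A, f g = g.subst (tau A) := fun g => by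
    rw [hf, PowerSeries.coe_substAlgHom]
  have hfz : f (lamSeries z) = gammaSeries z := by rw [hfs, ← gammaSeries_eq_subst]
  have hfy : f u = gammaSeries y - 1 := by
    rw [hu, map_sub, map_one, hfs, ← gammaSeries_eq_subst]
  have hfP : f P = ∑ l ∈ Finset.range (n + 1), PowerSeries.C (c l) * (gammaSeries y - 1) ^ l := by
    rw [hP, map_sum]
    apply Finset.sum_congr rfl
    intro l _
    rw [map_mul, map_pow, hfy]
    congr 1
    rw [hfs]
    exact PowerSeries.subst_C (c l)
  have h1 := congrArg f hq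
  rw [map_sub, hfz, hfP, map_mul, map_pow, hf, PowerSeries.substAlgHom_X, ← hf] at h1
  have h2 : PowerSeries.coeff n (tau A ^ (n + 1) * f q) = 0 := by
    have : (PowerSeries.X : PowerSeries A) ^ (n + 1) ∣ tau A ^ (n + 1) * f q := by
      rw [tau, mul_pow, mul_assoc]
      exact Dvd.intro _ rfl
    exact (PowerSeries.X_pow_dvd_iff.mp this) n (by omega)
  have h3 := congrArg (PowerSeries.coeff n) h1
  rw [h2, map_sub, coeff_gammaSeries, sub_eq_zero, map_sum] at h3
  rw [h3, bs]
  simp_rw [PowerSeries.coeff_C_mul]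

include hKb hA hKA

/-- **γ-operations of a scalar multiple**: `γ^n(κ y) = Σ_l C(κ, l) [t^n] (γ_t(y) - 1)^l`. -/
theorem gamma_smul (κ : K) (y : A) (n : ℕ) :
    gamma n (y * algebraMap K A κ) =
      bs (fun l => algebraMap K A (Ring.choose κ l)) (gammaSeries y - 1) n :=
  gamma_of_lam_trunc _ y _ n fun m _ => lam_smul hKb hA hKA κ y m

end GammaE

end Groth.Agent.Lib.H6xLamE
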