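import Mathlib
import Groth.Prelude.Def_LambdaSp
import Groth.Agent.Lib.H6xLamU2

/-!
# γ-coordinates on the free special λ-ring and the weight filtration (helper6)
-/

set_option autoImplicit false
universe u v
open MvPolynomial LambdaRing

namespace Groth.Agent.Lib.H6xLamU

open Groth.Agent.Lib.H6xLamW Groth.Agent.Lib.Helper4 Groth.Agent.Lib.Helper4.LUniv
open Groth.Agent.Lib.Helper4.Newton

/-- `γ^{j+1} = Σ_l C(j,l) λ^{l+1}` -/
theorem gamma_succ_eq {K : Type*} [CommRing K] [LambdaOps K] (j : ℕ) (x : K) :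
    gamma (j + 1) x = ∑ l ∈ Finset.range (j + 1), (j.choose l : K) * LambdaOps.lam (l + 1) x := by
  rw [gamma, if_neg (by omega), Finset.sum_range_succ']
  simp only [if_true, mul_zero, add_zero, Nat.add_sub_cancel, Nat.add_eq_zero_iff, one_ne_zero, and_false, if_false]

section GamSumX

attribute [local instance] lamW

variable {τ : Type u}

lemma gamma_sum_X_sub_one {ι : Type*} [DecidableEq ι] (t : Finset ι) (f : ι → τ) (k : ℕ) :
    gamma k (∑ i ∈ t, (X (f i) - 1) : MvPolynomial τ ℤ) =
      ∑ u ∈ t.powersetCard k, ∏ i ∈ u, (X (f i) - 1) := by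
  rw [← coeff_gammaSeries, gammaSeries_sum]
  have h : ∀ i, gammaSeries (X (f i) - 1 : MvPolynomial τ ℤ) =
      1 + PowerSeries.C (X (f i) - 1) * PowerSeries.X := fun i =>
    gammaSeries_sub_one (isSpecial_W τ).lam_one_eq_zero _
      (lam_monomial_eq_zero τ (Finsupp.single (f i) 1))
  simp_rw [h]
  exact coeff_prod_one_add_C_mul_X t (fun i => X (f i) - 1) k

end GamSumX

section Coords

attribute [local instance 100] lamW
attribute [local instance 2000] lamU

variable (S : Type u) [Finite S]

/-- the centred sum of the `N` variables of the family `s` -/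
noncomputable def xN' (N : ℕ) (s : S) : MvPolynomial (S × Fin N) ℤ := ∑ a : Fin N, (X (s, a) - 1)

/-- the universal λ-homomorphism to the model with centred generators -/
noncomputable def PsiN' (N : ℕ) : MvPolynomial (S × ℕ) ℤ →+* MvPolynomial (S × Fin N) ℤ :=
  (phi S (xN' S N) : MvPolynomial (S × ℕ) ℤ →+* MvPolynomial (S × Fin N) ℤ)

omit [Finite S] in
lemma PsiN'_apply (N : ℕ) (F : MvPolynomial (S × ℕ) ℤ) : PsiN' S N F = phi S (xN' S N) F := rfl

theorem PsiN'_lam (N n : ℕ) (F : MvPolynomial (S × ℕ) ℤ) :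
    PsiN' S N (LambdaOps.lam n F) = LambdaOps.lam n (PsiN' S N F) := by
  rw [PsiN'_apply, PsiN'_apply]
  exact phi_lam S (isSpecial_W _) _ n F

theorem PsiN'_gamma (N n : ℕ) (F : MvPolynomial (S × ℕ) ℤ) :
    PsiN' S N (gamma n F) = gamma n (PsiN' S N F) := by
  rw [PsiN'_apply, PsiN'_apply]
  exact phi_gamma S (isSpecial_W _) _ n F

/-- γ-coordinates: `Y (s, j) ↦ γ^{j+1}(x_s)` -/
noncomputable def Theta : MvPolynomial (S × ℕ) ℤ →ₐ[ℤ] MvPolynomial (S × ℕ) ℤ :=
  aeval (fun p : S × ℕ => gamma (p.2 + 1) (X (p.1, 0) : MvPolynomial (S × ℕ) ℤ))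

@[simp] lemma Theta_X (p : S × ℕ) :
    Theta S (X p) = gamma (p.2 + 1) (X (p.1, 0) : MvPolynomial (S × ℕ) ℤ) := by
  simp [Theta]

theorem PsiN'_Theta (N : ℕ) (F : MvPolynomial (S × ℕ) ℤ) :
    PsiN' S N (Theta S F) = betaInvW _ (PsiN S N F) := by
  classical
  have : (PsiN' S N).comp (Theta S : MvPolynomial (S × ℕ) ℤ →+* MvPolynomial (S × ℕ) ℤ) =
      ((betaInvW (S × Fin N)).toRingHom).comp
        (PsiN S N : MvPolynomial (S × ℕ) ℤ →+* MvPolynomial (S × Fin N) ℤ) := by
    apply MvPolynomial.ringHom_ext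
    · intro r
      simp
    intro p
    simp only [RingHom.comp_apply, RingHom.coe_coe, Theta_X, PsiN_X]
    rw [PsiN'_gamma, PsiN'_apply, phi_X0, xN',
      gamma_sum_X_sub_one Finset.univ (fun a : Fin N => (p.1, a)), esymm, map_sum, map_sum]
    apply Finset.sum_congr rfl
    intro u _
    rw [map_prod, map_prod]
    apply Finset.prod_congr rfl
    intro a _
    rw [rename_X]
    simp [betaInvW]
  exact DFunLike.congr_fun this F

theorem Theta_surjective : Function.Surjective (Theta S) := by
  have hX : ∀ (s : S) (j : ℕ), (X (s, j) : MvPolynomial (S × ℕ) ℤ) ∈ (Theta S).range := by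
    intro s j
    induction j using Nat.strong_induction_on with
    | _ j ih =>
      have h1 : Theta S (X (s, j)) = ∑ l ∈ Finset.range (j + 1),
          ((j.choose l : ℕ) : MvPolynomial (S × ℕ) ℤ) * X (s, l) := by
        rw [Theta_X, gamma_succ_eq]
        apply Finset.sum_congr rfl
        intro l _
        rw [lam_X0]
      rw [Finset.sum_range_succ, Nat.choose_self, Nat.cast_one, one_mul] at h1
      have h2 : (X (s, j) : MvPolynomial (S × ℕ) ℤ) = Theta S (X (s, j)) -
          ∑ l ∈ Finset.range j, ((j.choose l : ℕ) : MvPolynomial (S × ℕ) ℤ) * X (s, l) := by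
        rw [h1]; ring
      rw [h2]
      refine Subalgebra.sub_mem _ ⟨_, rfl⟩ (Subalgebra.sum_mem _ fun l hl => ?_)
      rw [Finset.mem_range] at hl
      exact Subalgebra.mul_mem _ (Subalgebra.natCast_mem _ _) (ih l hl)
  have htop : (Theta S).range = ⊤ := by
    rw [eq_top_iff, ← MvPolynomial.adjoin_range_X, Algebra.adjoin_le_iff]
    rintro _ ⟨p, rfl⟩
    exact hX p.1 p.2
  intro F
  have : F ∈ (Theta S).range := by rw [htop]; trivial
  exact this

end Coords

section Weights

variable (S : Type u)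

/-- the weight of the variable `(s, j)` is `j + 1` -/
def wt : S × ℕ → ℕ := fun p => p.2 + 1

lemma PsiN_monomial_isHomogeneous (N : ℕ) (d : S × ℕ →₀ ℕ) (c : ℤ) :
    (PsiN S N (monomial d c)).IsHomogeneous (Finsupp.weight (wt S) d) := by
  have := MulPoly.isWeightedHomogeneous_aeval (R := ℤ) (wt S) (1 : S × Fin N → ℕ)
    (fun p : S × ℕ => rename (Prod.mk p.1) (esymm (Fin N) ℤ (p.2 + 1)))
    (fun k => (SymPoly.esymm_isHomogeneous (Fin N) ℤ (k.2 + 1)).rename_isHomogeneous)
    (isWeightedHomogeneous_monomial (wt S) d c rfl)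
  exact this

lemma mem_pow_of_isHomogeneous {σ : Type*} {φ : MvPolynomial σ ℤ} {n i : ℕ}
    (h : φ.IsHomogeneous n) (hi : i ≤ n) : φ ∈ idealOfVars σ ℤ ^ i := by
  rw [mem_pow_idealOfVars_iff']
  intro x hx
  by_contra hne
  have := h hne
  have e : Finsupp.degree x = Finsupp.weight (1 : σ → ℕ) x := by
    rw [Finsupp.degree_eq_weight_one]; rfl
  omega

theorem support_weight_ge [Finite S] (F : MvPolynomial (S × ℕ) ℤ) (i : ℕ)
    (h : ∀ N, PsiN S N F ∈ idealOfVars (S × Fin N) ℤ ^ i) :
    ∀ d ∈ F.support, i ≤ Finsupp.weight (wt S) d := by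
  classical
  set lo := ∑ d ∈ F.support.filter (fun d => Finsupp.weight (wt S) d < i), monomial d (coeff d F)
    with hlo
  set hi := ∑ d ∈ F.support.filter (fun d => ¬ Finsupp.weight (wt S) d < i), monomial d (coeff d F)
    with hhi
  have hsum : lo + hi = F := by
    rw [hlo, hhi, Finset.sum_filter_add_sum_filter_not, support_sum_monomial_coeff]
  have hhiN : ∀ N, PsiN S N hi ∈ idealOfVars (S × Fin N) ℤ ^ i := by
    intro N
    rw [hhi, map_sum]
    refine Ideal.sum_mem _ fun d hd => ?_
    rw [Finset.mem_filter] at hd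
    exact mem_pow_of_isHomogeneous (PsiN_monomial_isHomogeneous S N d _) (by omega)
  have hloN : ∀ N, PsiN S N lo = 0 := by
    intro N
    have h1 : PsiN S N lo ∈ idealOfVars (S × Fin N) ℤ ^ i := by
      have : PsiN S N lo = PsiN S N F - PsiN S N hi := by
        rw [← hsum, map_add]; ring
      rw [this]
      exact Ideal.sub_mem _ (h N) (hhiN N)
    rw [mem_pow_idealOfVars_iff'] at h1
    ext x
    rw [coeff_zero]
    by_contra hne
    have hdeg : ¬ Finsupp.degree x < i := fun hx => hne (h1 x hx)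
    rw [hlo, map_sum, coeff_sum] at hne
    obtain ⟨d, hd, hd2⟩ := Finset.exists_ne_zero_of_sum_ne_zero hne
    rw [Finset.mem_filter] at hd
    have := PsiN_monomial_isHomogeneous S N d (coeff d F) hd2
    have e : Finsupp.degree x = Finsupp.weight (1 : S × Fin N → ℕ) x := by
      rw [Finsupp.degree_eq_weight_one]; rfl
    omega
  have hlo0 : lo = 0 := by
    apply VP S _ _ 0
    intro N _
    rw [hloN N, map_zero]
  intro d hd
  by_contra hlt
  rw [not_le] at hlt
  have hc : coeff d lo = coeff d F := by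
    rw [hlo, coeff_sum, Finset.sum_eq_single d]
    · rw [coeff_monomial, if_pos rfl]
    · intro b _ hb
      rw [coeff_monomial, if_neg hb]
    · intro hnd
      exfalso
      apply hnd
      rw [Finset.mem_filter]
      exact ⟨hd, hlt⟩
  rw [hlo0, coeff_zero] at hc
  rw [mem_support_iff] at hd
  exact hd hc.symm

end Weights

section MT

attribute [local instance 100] lamW
attribute [local instance 2000] lamU

variable (S : Type u) [Finite S]

/-- **Main theorem**: an element of the free special λ-ring all of whose images in the centred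
models lie in the `i`-th power of the augmentation ideal is a polynomial in the `γ^j(x_s)` all of
whose monomials have weight `≥ i`. -/
theorem exists_weight_ge (F : MvPolynomial (S × ℕ) ℤ) (i : ℕ)
    (hF : ∀ N, PsiN' S N F ∈ IWn (S × Fin N) i) :
    ∃ G : MvPolynomial (S × ℕ) ℤ, Theta S G = F ∧
      ∀ d ∈ G.support, i ≤ Finsupp.weight (wt S) d := by
  obtain ⟨G, hG⟩ := Theta_surjective S F
  refine ⟨G, hG, support_weight_ge S G i fun N => ?_⟩
  have h1 := hF N
  rw [← hG, PsiN'_Theta, IWn, Ideal.mem_comap, betaW_betaInvW] at h1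
  exact h1

/-- a γ-monomial of weight `w` lands in the `w`-th power of the augmentation ideal -/
theorem PsiN'_Theta_monomial_mem (N : ℕ) (d : S × ℕ →₀ ℕ) (c : ℤ) :
    PsiN' S N (Theta S (monomial d c)) ∈ IWn (S × Fin N) (Finsupp.weight (wt S) d) := by
  rw [PsiN'_Theta, IWn, Ideal.mem_comap, betaW_betaInvW]
  exact mem_pow_of_isHomogeneous (PsiN_monomial_isHomogeneous S N d c) le_rfl

variable {A : Type v} [CommRing A] [LambdaOps A]

/-- the composite of the universal map with the γ-coordinates -/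
theorem phi_Theta (hA : IsSpecial A) (x : S → A) (G : MvPolynomial (S × ℕ) ℤ) :
    phi S x (Theta S G) = aeval (fun p : S × ℕ => gamma (p.2 + 1) (x p.1)) G := by
  have : (phi S x).comp (Theta S) = aeval (fun p : S × ℕ => gamma (p.2 + 1) (x p.1)) := by
    apply MvPolynomial.algHom_ext
    intro p
    rw [AlgHom.comp_apply, Theta_X, phi_gamma S hA, phi_X0, aeval_X]
  exact DFunLike.congr_fun this G

end MT

end Groth.Agent.Lib.H6xLamU
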