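import Mathlib
import Groth.Prelude.Def_LambdaSp
import Groth.Agent.Lib.H6xLamU3
import Groth.Agent.Lib.H6xLamE

/-!
# Transfer from the free special λ-ring, and series with coefficients in a filtration (helper6)
-/

set_option autoImplicit false
universe u v w
open MvPolynomial LambdaRing

namespace Groth.Agent.Lib.H6xLamT

open Groth.Agent.Lib.H6xLamW Groth.Agent.Lib.H6xLamU Groth.Agent.Lib.H6xLamE
open Groth.Agent.Lib.Helper4 Groth.Agent.Lib.Helper4.LUniv Groth.Agent.Lib.Helper4.Newton

section Transfer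

attribute [local instance 100] lamW
attribute [local instance 2000] lamU

variable (S : Type u) [Finite S] {A : Type v} [CommRing A] [LambdaOps A]

/-- the γ-monomial `∏ γ^{j+1}(x_s)^{d(s,j)}` -/
noncomputable def gmon (x : S → A) (d : S × ℕ →₀ ℕ) : A :=
  d.prod fun p n => gamma (p.2 + 1) (x p.1) ^ n

/-- the additive span of the γ-monomials of weight `≥ i` -/
def Wspan (x : S → A) (i : ℕ) : AddSubgroup A :=
  AddSubgroup.closure {a | ∃ d : S × ℕ →₀ ℕ, i ≤ Finsupp.weight (wt S) d ∧ a = gmon S x d}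

omit [Finite S] in
lemma aeval_monomial_eq (x : S → A) (d : S × ℕ →₀ ℕ) (c : ℤ) :
    aeval (fun p : S × ℕ => gamma (p.2 + 1) (x p.1)) (monomial d c) = c • gmon S x d := by
  rw [aeval_monomial, gmon, zsmul_eq_mul]
  simp

variable (hA : IsSpecial A)
include hA

/-- **Transfer**: a universal element of γ-order `≥ i` maps into the span of γ-monomials of
weight `≥ i`. -/
theorem transfer (x : S → A) (T : MvPolynomial (S × ℕ) ℤ) (i : ℕ)
    (hT : ∀ N, PsiN' S N T ∈ IWn (S × Fin N) i) : phi S x T ∈ Wspan S x i := by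
  obtain ⟨G, hG, hsupp⟩ := exists_weight_ge S T i hT
  rw [← hG, phi_Theta S hA, ← support_sum_monomial_coeff G, map_sum]
  refine AddSubgroup.sum_mem _ fun d hd => ?_
  rw [aeval_monomial_eq]
  have hmem : gmon S x d ∈ Wspan S x i := AddSubgroup.subset_closure ⟨d, hsupp d hd, rfl⟩
  exact AddSubgroup.zsmul_mem _ hmem _

/-- the universal γ-monomial maps to the γ-monomial -/
theorem phi_Theta_monomial (x : S → A) (d : S × ℕ →₀ ℕ) :
    phi S x (Theta S (monomial d 1)) = gmon S x d := by
  rw [phi_Theta S hA, aeval_monomial_eq, one_smul]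

/-- (T-i) `γ^i` of a γ-monomial of positive weight lies in the span of γ-monomials of weight `≥ i`. -/
theorem gamma_gmon_mem (x : S → A) (d : S × ℕ →₀ ℕ) (hd : 1 ≤ Finsupp.weight (wt S) d) (i : ℕ) :
    gamma i (gmon S x d) ∈ Wspan S x i := by
  rw [← phi_Theta_monomial S hA, ← phi_gamma S hA]
  apply transfer S hA
  intro N
  rw [PsiN'_gamma]
  exact gamma_mem_pow _ (IWn_anti _ hd (PsiN'_Theta_monomial_mem S N d 1)) i

/-- (T-iv) `γ^i`, `i ≥ 1`, of a γ-monomial of weight `≥ n` lies in the span of γ-monomials of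
weight `≥ n`. -/
theorem gamma_gmon_mem' (x : S → A) (d : S × ℕ →₀ ℕ) (n : ℕ) (hd : n ≤ Finsupp.weight (wt S) d)
    (i : ℕ) (hi : 1 ≤ i) : gamma i (gmon S x d) ∈ Wspan S x n := by
  rw [← phi_Theta_monomial S hA, ← phi_gamma S hA]
  apply transfer S hA
  intro N
  rw [PsiN'_gamma]
  exact gamma_mem_IWn _ (IWn_anti _ hd (PsiN'_Theta_monomial_mem S N d 1)) i hi

/-- (T-v) `γ^m(μ) ≡ (-1)^(m-1) (m-1)! μ` modulo γ-monomials of weight `≥ m+1`, for a γ-monomial `μ`
of weight `≥ m`. -/
theorem gamma_gmon_congr (x : S → A) (d : S × ℕ →₀ ℕ) (j : ℕ)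
    (hd : j + 1 ≤ Finsupp.weight (wt S) d) :
    gamma (j + 1) (gmon S x d) - ((-1 : ℤ) ^ j * (j.factorial : ℤ)) • gmon S x d ∈
      Wspan S x (j + 1 + 1) := by
  have h1 : gamma (j + 1) (gmon S x d) - ((-1 : ℤ) ^ j * (j.factorial : ℤ)) • gmon S x d =
      phi S x (gamma (j + 1) (Theta S (monomial d 1)) -
        ((-1 : ℤ) ^ j * (j.factorial : ℤ)) • Theta S (monomial d 1)) := by
    rw [map_sub, phi_gamma S hA, map_zsmul, phi_Theta_monomial S hA]
  rw [h1]
  apply transfer S hA
  intro N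
  rw [map_sub, PsiN'_gamma, map_zsmul]
  exact gamma_congr _ j (IWn_anti _ hd (PsiN'_Theta_monomial_mem S N d 1))

end Transfer

section GoodS

variable {B : Type*} [CommRing B]

/-- a multiplicative decreasing filtration by ideals, starting with the unit ideal -/
structure IsMulFil (J : ℕ → Ideal B) : Prop where
  zero : J 0 = ⊤
  mul : ∀ (a b : ℕ) (x y : B), x ∈ J a → y ∈ J b → x * y ∈ J (a + b)
  anti : ∀ {a b : ℕ}, a ≤ b → J b ≤ J a

variable (J : ℕ → Ideal B)

/-- series whose `i`-th coefficient lies in `J i` -/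
def GoodJ (f : PowerSeries B) : Prop := ∀ i, PowerSeries.coeff i f ∈ J i

variable {J} (hJ : IsMulFil J)
include hJ

theorem goodJ_one : GoodJ J (1 : PowerSeries B) := by
  intro i
  rw [PowerSeries.coeff_one]
  split_ifs with h
  · rw [h, hJ.zero]; trivial
  · exact Ideal.zero_mem _

theorem goodJ_mul {f g : PowerSeries B} (hf : GoodJ J f) (hg : GoodJ J g) : GoodJ J (f * g) := by
  intro i
  rw [PowerSeries.coeff_mul]
  refine Ideal.sum_mem _ fun p hp => ?_
  have := hJ.mul p.1 p.2 _ _ (hf p.1) (hg p.2)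
  have e : p.1 + p.2 = i := Finset.HasAntidiagonal.mem_antidiagonal.mp hp
  rwa [e] at this

theorem goodJ_pow {f : PowerSeries B} (hf : GoodJ J f) (l : ℕ) : GoodJ J (f ^ l) := by
  induction l with
  | zero => rw [pow_zero]; exact goodJ_one hJ
  | succ l ih => rw [pow_succ]; exact goodJ_mul hJ ih hf

theorem goodJ_prod {ι : Type*} (s : Finset ι) (f : ι → PowerSeries B)
    (hf : ∀ i ∈ s, GoodJ J (f i)) : GoodJ J (∏ i ∈ s, f i) := by
  classical
  induction s using Finset.induction_on with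
  | empty => rw [Finset.prod_empty]; exact goodJ_one hJ
  | insert a s ha ih =>
    rw [Finset.prod_insert ha]
    exact goodJ_mul hJ (hf a (Finset.mem_insert_self a s))
      (ih fun i hi => hf i (Finset.mem_insert_of_mem hi))

theorem goodJ_sub_one {f : PowerSeries B} (hf : GoodJ J f) : GoodJ J (f - 1) := by
  intro i
  rw [map_sub]
  exact Ideal.sub_mem _ (hf i) (goodJ_one hJ i)

theorem bs_mem {f : PowerSeries B} (hf : GoodJ J f) (c : ℕ → B) (n : ℕ) :
    bs c (f - 1) n ∈ J n := by
  rw [bs]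
  refine Ideal.sum_mem _ fun l _ => ?_
  exact Ideal.mul_mem_left _ _ (goodJ_pow hJ (goodJ_sub_one hJ hf) l n)

end GoodS

section GoodGamma

variable {K : Type u} [CommRing K] [LambdaOps K] [BinomialRing K] (hKb : IsBinomial K)
  {B : Type v} [CommRing B] [LambdaOps B] [Algebra K B] (hB : IsSpecial B) (hKB : IsLambdaAlg K B)
  {J : ℕ → Ideal B} (hJ : IsMulFil J)

include hKb hB hKB hJ in
theorem goodJ_gammaSeries_smul {y : B} (hy : GoodJ J (gammaSeries y)) (κ : K) :
    GoodJ J (gammaSeries (y * algebraMap K B κ)) := by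
  intro n
  rw [coeff_gammaSeries, gamma_smul hKb hB hKB]
  exact bs_mem hJ hy _ n

include hJ in
theorem goodJ_gammaSeries_sum {ι : Type*} (s : Finset ι) (y : ι → B)
    (hy : ∀ i ∈ s, GoodJ J (gammaSeries (y i))) : GoodJ J (gammaSeries (∑ i ∈ s, y i)) := by
  rw [gammaSeries_sum]
  exact goodJ_prod hJ s _ hy

include hJ in
theorem goodJ_gammaSeries_add {y z : B} (hy : GoodJ J (gammaSeries y)) (hz : GoodJ J (gammaSeries z)) :
    GoodJ J (gammaSeries (y + z)) := by
  rw [gammaSeries_add]
  exact goodJ_mul hJ hy hz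

omit [LambdaOps K] [BinomialRing K] [Algebra K B] in
include hJ in
/-- if the γ-series of every element of augmentation zero is good, the γ-filtration is contained
in the filtration `J`. -/
theorem gammaFil_le (ε : B →+* K) (h : ∀ y : B, ε y = 0 → GoodJ J (gammaSeries y)) (k : ℕ) :
    gammaFil ε k ≤ J k := by
  rw [gammaFil, Ideal.span_le]
  rintro _ ⟨l, hl, hk, rfl⟩
  have key : ∀ l : List (ℕ × B), (∀ p ∈ l, ε p.2 = 0) →
      (l.map fun p => gamma p.1 p.2).prod ∈ J (l.map Prod.fst).sum := by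
    intro l
    induction l with
    | nil =>
      intro _
      simp only [List.map_nil, List.prod_nil, List.sum_nil]
      rw [hJ.zero]; trivial
    | cons p l ih =>
      intro hl
      simp only [List.map_cons, List.prod_cons, List.sum_cons]
      refine hJ.mul _ _ _ _ ?_ (ih fun q hq => hl q (List.mem_cons_of_mem _ hq))
      have := h p.2 (hl p List.mem_cons_self) p.1
      rwa [coeff_gammaSeries] at this
  exact hJ.anti hk (key l hl)

end GoodGamma

section FilLemmas

variable {B : Type*} [CommRing B] {J : ℕ → Ideal B} (hJ : IsMulFil J)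
include hJ

theorem IsMulFil.one_mem : (1 : B) ∈ J 0 := by rw [hJ.zero]; trivial

theorem IsMulFil.pow_mem {a : ℕ} {x : B} (hx : x ∈ J a) (e : ℕ) : x ^ e ∈ J (e * a) := by
  induction e with
  | zero => rw [pow_zero, zero_mul]; exact hJ.one_mem
  | succ e ih =>
    rw [pow_succ, Nat.succ_mul]
    exact hJ.mul _ _ _ _ ih hx

theorem IsMulFil.prod_mem {ι : Type*} (s : Finset ι) (f : ι → B) (w : ι → ℕ)
    (hf : ∀ i ∈ s, f i ∈ J (w i)) : ∏ i ∈ s, f i ∈ J (∑ i ∈ s, w i) := by
  classical
  induction s using Finset.induction_on with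
  | empty => rw [Finset.prod_empty, Finset.sum_empty]; exact hJ.one_mem
  | insert a s ha ih =>
    rw [Finset.prod_insert ha, Finset.sum_insert ha]
    exact hJ.mul _ _ _ _ (hf a (Finset.mem_insert_self a s))
      (ih fun i hi => hf i (Finset.mem_insert_of_mem hi))

variable [LambdaOps B] (S : Type u)

/-- γ-monomials lie in the filtration step given by their weight, once the `γ^j` of the generators
do. -/
theorem gmon_mem (x : S → B) (hx : ∀ s j, gamma (j + 1) (x s) ∈ J (j + 1)) (d : S × ℕ →₀ ℕ) :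
    gmon S x d ∈ J (Finsupp.weight (wt S) d) := by
  rw [gmon, Finsupp.prod, Finsupp.weight_apply, Finsupp.sum]
  apply hJ.prod_mem
  intro p _
  have := hJ.pow_mem (hx p.1 p.2) (d p)
  exact this

theorem Wspan_le (x : S → B) (hx : ∀ s j, gamma (j + 1) (x s) ∈ J (j + 1)) (i : ℕ) {a : B}
    (ha : a ∈ Wspan S x i) : a ∈ J i := by
  have : Wspan S x i ≤ (J i).toAddSubgroup := by
    rw [Wspan, AddSubgroup.closure_le]
    rintro _ ⟨d, hd, rfl⟩
    exact hJ.anti hd (gmon_mem hJ S x hx d)
  exact this ha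

end FilLemmas

section GammaFilMul

variable {K : Type u} [CommRing K] {A : Type v} [CommRing A] [LambdaOps A]

theorem isMulFil_gammaFil (ε : A →+* K) : IsMulFil (gammaFil ε) where
  zero := by
    rw [eq_top_iff, ← Ideal.span_singleton_one, gammaFil, Ideal.span_le]
    rintro _ rfl
    exact Ideal.subset_span ⟨[], by simp, by simp, by simp⟩
  mul a b x y hx hy := by
    have h1 : x * y ∈ gammaFil ε a * gammaFil ε b := Ideal.mul_mem_mul hx hy
    rw [gammaFil, gammaFil, Ideal.span_mul_span'] at h1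
    refine (Ideal.span_le.mpr ?_) h1
    rintro _ ⟨u, ⟨l₁, h₁, hn₁, rfl⟩, v, ⟨l₂, h₂, hn₂, rfl⟩, rfl⟩
    refine Ideal.subset_span ⟨l₁ ++ l₂, ?_, ?_, ?_⟩
    · intro p hp
      rcases List.mem_append.mp hp with h | h
      · exact h₁ p h
      · exact h₂ p h
    · rw [List.map_append, List.sum_append]; omega
    · rw [List.map_append, List.prod_append]
  anti {a b} hab := by
    apply Ideal.span_mono
    rintro y ⟨l, hl, hn, rfl⟩
    exact ⟨l, hl, hab.trans hn, rfl⟩

theorem gamma_mem_gammaFil (ε : A →+* K) {y : A} (hy : ε y = 0) (i : ℕ) :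
    gamma i y ∈ gammaFil ε i :=
  Ideal.subset_span ⟨[(i, y)], by simpa using hy, by simp, by simp⟩

theorem map_gamma_of_map_lam {A' : Type*} [CommRing A'] [LambdaOps A'] (f : A →+* A')
    (hf : ∀ n a, f (LambdaOps.lam n a) = LambdaOps.lam n (f a)) (n : ℕ) (a : A) :
    f (gamma n a) = gamma n (f a) := by
  unfold gamma
  split_ifs with h
  · rw [map_one]
  · rw [map_sum]
    apply Finset.sum_congr rfl
    intro j _
    rw [map_mul, map_natCast]
    split_ifs with hj
    · rw [map_zero]
    · rw [hf]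

theorem gamma_zero_arg {A' : Type*} [CommRing A'] [LambdaOps A'] (i : ℕ) (hi : 1 ≤ i) :
    gamma i (0 : A') = 0 := by
  rw [← coeff_gammaSeries, gammaSeries_zero, PowerSeries.coeff_one, if_neg (by omega)]

end GammaFilMul

end Groth.Agent.Lib.H6xLamT
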