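import Mathlib
import Groth.Prelude.Def_LambdaSp
import Groth.Agent.Lib.H6xLamT
import Groth.Agent.Lib.Helper4GammaFil

/-!
# The γ-filtration of an augmented λ-algebra over a binomial ring is a filtration by γ-ideals,
and the Chern class congruence (helper6)
-/

set_option autoImplicit false
universe u v w
open MvPolynomial LambdaRing

namespace Groth.Agent.Lib.H6xLamF

open Groth.Agent.Lib.H6xLamW Groth.Agent.Lib.H6xLamU Groth.Agent.Lib.H6xLamE Groth.Agent.Lib.H6xLamT
open Groth.Agent.Lib.Helper4 Groth.Agent.Lib.Helper4.LUniv Groth.Agent.Lib.Helper4.Newton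

section ListGmon

variable {A : Type v} [CommRing A] [LambdaOps A]

/-- a product of γ's over a list is a γ-monomial in the entries of the list -/
theorem exists_gmon_of_list (l : List (ℕ × A)) :
    ∃ d : Fin l.length × ℕ →₀ ℕ,
      gmon (Fin l.length) (fun r => (l[r.1]).2) d = (l.map fun p => gamma p.1 p.2).prod ∧
      Finsupp.weight (wt (Fin l.length)) d = (l.map Prod.fst).sum := by
  classical
  set f : Fin l.length → (Fin l.length × ℕ →₀ ℕ) := fun r =>
    if (l[r.1]).1 = 0 then 0 else Finsupp.single (r, (l[r.1]).1 - 1) 1 with hf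
  refine ⟨∑ r, f r, ?_, ?_⟩
  · rw [gmon, ← Finsupp.prod_finsetSum_index (fun a => by simp) (fun a b₁ b₂ => pow_add _ _ _),
      ← Fin.prod_univ_fun_getElem l (fun p => gamma p.1 p.2)]
    apply Finset.prod_congr rfl
    intro r _
    simp only [hf]
    split_ifs with h
    · rw [Finsupp.prod_zero_index, h]
      simp [gamma]
    · rw [Finsupp.prod_single_index (by simp), pow_one]
      simp only
      rw [Nat.sub_add_cancel (by omega)]
  · rw [map_sum, ← Fin.sum_univ_fun_getElem l Prod.fst]
    apply Finset.sum_congr rfl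
    intro r _
    simp only [hf]
    split_ifs with h
    · rw [map_zero, h]
    · rw [Finsupp.weight_single, wt]
      simp only [smul_eq_mul, one_mul]
      omega

end ListGmon

section CS

variable {K : Type u} [CommRing K] [LambdaOps K] [BinomialRing K] (hKb : IsBinomial K)
  {A : Type v} [CommRing A] [LambdaOps A] [Algebra K A] (hA : IsSpecial A)
  (ε : A →ₐ[K] K) (hε : IsAugLambdaAlg K A ε)

/-- the generators of the `n`-th step of the γ-filtration -/
def Gen (n : ℕ) : Set A := {y | ∃ l : List (ℕ × A), (∀ p ∈ l, ((ε : A →ₐ[K] K) : A →+* K) p.2 = 0) ∧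
  n ≤ (l.map Prod.fst).sum ∧ y = (l.map fun p => gamma p.1 p.2).prod}

omit [LambdaOps K] [BinomialRing K] in
theorem gen_subset (n : ℕ) : Gen ε n ⊆ gammaFil ((ε : A →ₐ[K] K) : A →+* K) n :=
  fun _ hy => Ideal.subset_span hy

omit [LambdaOps K] [BinomialRing K] in
/-- the γ-filtration is the `K`-span of its generators -/
theorem mem_span_gen (n : ℕ) {z : A} (hz : z ∈ gammaFil ((ε : A →ₐ[K] K) : A →+* K) n) :
    z ∈ Submodule.span K (Gen ε n) := by
  have h1 : z ∈ (gammaFil ((ε : A →ₐ[K] K) : A →+* K) n).restrictScalars K := hz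
  rw [GFil.gammaFil_eq ε Set.univ (by simp) n] at h1
  refine (Submodule.span_mono ?_) h1
  rintro y ⟨l, _, hn, rfl⟩
  refine ⟨l.map (fun p => (p.1, p.2 - algebraMap K A (ε p.2))), ?_, ?_, ?_⟩
  · intro p hp
    obtain ⟨q, _, rfl⟩ := List.mem_map.mp hp
    simp
  · rw [List.map_map]
    exact hn
  · rw [List.map_map]
    rfl

include hA in
omit [LambdaOps K] [BinomialRing K] in
/-- (G-iv) for generators -/
theorem gamma_gen_mem (n : ℕ) {μ : A} (hμ : μ ∈ Gen ε n) (i : ℕ) (hi : 1 ≤ i) :
    gamma i μ ∈ gammaFil ((ε : A →ₐ[K] K) : A →+* K) n := by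
  obtain ⟨l, hl, hn, rfl⟩ := hμ
  obtain ⟨d, hd1, hd2⟩ := exists_gmon_of_list l
  have hF := isMulFil_gammaFil ((ε : A →ₐ[K] K) : A →+* K)
  rw [← hd1]
  refine Wspan_le hF (Fin l.length) _ (fun s j => ?_) n
    (gamma_gmon_mem' (Fin l.length) hA _ d n (by rw [hd2]; exact hn) i hi)
  exact gamma_mem_gammaFil _ (hl _ (List.getElem_mem _)) (j + 1)

include hA in
omit [LambdaOps K] [BinomialRing K] in
/-- (G-v) for generators -/
theorem gamma_gen_congr (j : ℕ) {μ : A} (hμ : μ ∈ Gen ε (j + 1)) :
    gamma (j + 1) μ - ((-1 : ℤ) ^ j * (j.factorial : ℤ)) • μ ∈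
      gammaFil ((ε : A →ₐ[K] K) : A →+* K) (j + 1 + 1) := by
  obtain ⟨l, hl, hn, rfl⟩ := hμ
  obtain ⟨d, hd1, hd2⟩ := exists_gmon_of_list l
  have hF := isMulFil_gammaFil ((ε : A →ₐ[K] K) : A →+* K)
  rw [← hd1]
  refine Wspan_le hF (Fin l.length) _ (fun s j => ?_) (j + 1 + 1)
    (gamma_gmon_congr (Fin l.length) hA _ d j (by rw [hd2]; exact hn))
  exact gamma_mem_gammaFil _ (hl _ (List.getElem_mem _)) (j + 1)

include hKb hA hε in
/-- **The γ-filtration consists of γ-ideals.** -/
theorem gamma_mem_fil (n : ℕ) {z : A} (hz : z ∈ gammaFil ((ε : A →ₐ[K] K) : A →+* K) n)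
    (i : ℕ) (hi : 1 ≤ i) : gamma i z ∈ gammaFil ((ε : A →ₐ[K] K) : A →+* K) n := by
  set F := gammaFil ((ε : A →ₐ[K] K) : A →+* K) n with hFdef
  let J' : ℕ → Ideal A := fun i => if i = 0 then ⊤ else F
  have hJ' : IsMulFil J' := by
    refine ⟨by simp [J'], ?_, ?_⟩
    · intro a b x y hx hy
      simp only [J'] at hx hy ⊢
      by_cases ha : a = 0
      · subst ha
        rw [zero_add]
        split_ifs with hb
        · trivial
        · rw [if_neg hb] at hy
          exact Ideal.mul_mem_left _ _ hy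
      · rw [if_neg ha] at hx
        rw [if_neg (by omega)]
        exact Ideal.mul_mem_right _ _ hx
    · intro a b hab
      simp only [J']
      by_cases ha : a = 0
      · rw [if_pos ha]; exact le_top
      · rw [if_neg ha, if_neg (by omega)]
  have key : ∀ z' ∈ Submodule.span K (Gen ε n), GoodJ J' (gammaSeries z') := by
    intro z' hz'
    induction hz' using Submodule.span_induction with
    | mem μ hμ =>
      intro i
      rw [coeff_gammaSeries]
      simp only [J']
      split_ifs with h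
      · trivial
      · exact gamma_gen_mem hA ε n hμ i (by omega)
    | zero => rw [gammaSeries_zero]; exact goodJ_one hJ'
    | add x y _ _ hx hy => exact goodJ_gammaSeries_add hJ' hx hy
    | smul κ x _ hx =>
      rw [Algebra.smul_def, mul_comm]
      exact goodJ_gammaSeries_smul hKb hA hε.isLambdaAlg hJ' hx κ
  have := key z (mem_span_gen ε n hz) i
  rw [coeff_gammaSeries] at this
  simp only [J'] at this
  rwa [if_neg (by omega)] at this

include hKb hA hε in
/-- **Chern class congruence**: `γ^m(z) ≡ (-1)^(m-1) (m-1)! z` modulo `Fil^(m+1)` for `z ∈ Fil^m`. -/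
theorem gamma_congr_fil (j : ℕ) {z : A} (hz : z ∈ gammaFil ((ε : A →ₐ[K] K) : A →+* K) (j + 1)) :
    gamma (j + 1) z - ((-1 : ℤ) ^ j * (j.factorial : ℤ)) • z ∈
      gammaFil ((ε : A →ₐ[K] K) : A →+* K) (j + 1 + 1) := by
  set e : A →+* K := ((ε : A →ₐ[K] K) : A →+* K) with he
  have hF := isMulFil_gammaFil e
  set c : ℤ := (-1 : ℤ) ^ j * (j.factorial : ℤ) with hc
  -- additivity modulo the next step
  have hadd : ∀ x y : A, x ∈ gammaFil e (j + 1) → y ∈ gammaFil e (j + 1) →
      gamma (j + 1) x - c • x ∈ gammaFil e (j + 1 + 1) →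
      gamma (j + 1) y - c • y ∈ gammaFil e (j + 1 + 1) →
      gamma (j + 1) (x + y) - c • (x + y) ∈ gammaFil e (j + 1 + 1) := by
    intro x y hx hy hDx hDy
    have h1 : gamma (j + 1) (x + y) = gamma (j + 1) x + gamma (j + 1) y +
        ∑ a ∈ Finset.range j, gamma (a + 1) x * gamma (j + 1 - (a + 1)) y := by
      rw [gamma_add, Finset.sum_range_succ, Finset.sum_range_succ']
      have g0 : ∀ w : A, gamma 0 w = 1 := fun w => by simp [gamma]
      rw [Nat.sub_self, g0, g0, Nat.sub_zero, one_mul, mul_one]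
      ring
    have h2 : gamma (j + 1) (x + y) - c • (x + y) = (gamma (j + 1) x - c • x) +
        (gamma (j + 1) y - c • y) +
        ∑ a ∈ Finset.range j, gamma (a + 1) x * gamma (j + 1 - (a + 1)) y := by
      rw [h1, smul_add]; ring
    rw [h2]
    refine Ideal.add_mem _ (Ideal.add_mem _ hDx hDy) (Ideal.sum_mem _ fun a ha => ?_)
    rw [Finset.mem_range] at ha
    have hx' := gamma_mem_fil hKb hA ε hε (j + 1) hx (a + 1) (by omega)
    have hy' := gamma_mem_fil hKb hA ε hε (j + 1) hy (j + 1 - (a + 1)) (by omega)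
    exact hF.anti (by omega) (hF.mul _ _ _ _ hx' hy')
  -- the case of a scalar multiple of a generator
  have hbase : ∀ (κ : K) (μ : A), μ ∈ Gen ε (j + 1) →
      gamma (j + 1) (κ • μ) - c • (κ • μ) ∈ gammaFil e (j + 1 + 1) := by
    intro κ μ hμ
    rw [Algebra.smul_def, mul_comm, gamma_smul hKb hA hε.isLambdaAlg, bs]
    set v := gammaSeries μ - 1 with hv
    have hvF : ∀ i, PowerSeries.coeff i v ∈ gammaFil e (j + 1) := by
      intro i
      rw [hv, map_sub, coeff_gammaSeries, PowerSeries.coeff_one]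
      split_ifs with h
      · subst h
        have : gamma 0 μ = 1 := by simp [gamma]
        rw [this, sub_self]
        exact Ideal.zero_mem _
      · rw [sub_zero]
        exact gamma_gen_mem hA ε (j + 1) hμ i (by omega)
    have hv2 : ∀ i, PowerSeries.coeff i (v ^ 2) ∈ gammaFil e (j + 1 + 1) := by
      intro i
      rw [pow_two, PowerSeries.coeff_mul]
      refine Ideal.sum_mem _ fun p _ => ?_
      exact hF.anti (by omega) (hF.mul _ _ _ _ (hvF p.1) (hvF p.2))
    have hvl : ∀ (l i : ℕ), PowerSeries.coeff i (v ^ (l + 2)) ∈ gammaFil e (j + 1 + 1) := by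
      intro l i
      rw [pow_add, mul_comm, PowerSeries.coeff_mul]
      refine Ideal.sum_mem _ fun p _ => ?_
      exact Ideal.mul_mem_right _ _ (hv2 p.1)
    rw [Finset.sum_range_succ', Finset.sum_range_succ']
    have h0 : PowerSeries.coeff (j + 1) (v ^ 0) = 0 := by
      rw [pow_zero, PowerSeries.coeff_one, if_neg (by omega)]
    have h1 : PowerSeries.coeff (j + 1) (v ^ (0 + 1)) = gamma (j + 1) μ := by
      rw [zero_add, pow_one, hv, map_sub, coeff_gammaSeries, PowerSeries.coeff_one,
        if_neg (by omega), sub_zero]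
    rw [h0, h1, mul_zero, add_zero, zero_add, Ring.choose_one_right]
    have h3 : ∑ k ∈ Finset.range j, algebraMap K A (Ring.choose κ (k + 1 + 1)) *
        PowerSeries.coeff (j + 1) (v ^ (k + 1 + 1)) + algebraMap K A κ * gamma (j + 1) μ -
        c • (μ * algebraMap K A κ) =
        ∑ k ∈ Finset.range j, algebraMap K A (Ring.choose κ (k + 1 + 1)) *
        PowerSeries.coeff (j + 1) (v ^ (k + 1 + 1)) +
        algebraMap K A κ * (gamma (j + 1) μ - c • μ) := by
      simp only [zsmul_eq_mul]
      ring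
    rw [h3]
    refine Ideal.add_mem _ (Ideal.sum_mem _ fun k _ => ?_)
      (Ideal.mul_mem_left _ _ (gamma_gen_congr hA ε j hμ))
    exact Ideal.mul_mem_left _ _ (hvl k (j + 1))
  -- induction on the span
  have key : ∀ z' ∈ Submodule.span K (Gen ε (j + 1)), z' ∈ gammaFil e (j + 1) ∧
      gamma (j + 1) z' - c • z' ∈ gammaFil e (j + 1 + 1) := by
    intro z' hz'
    induction hz' using Submodule.closure_induction with
    | zero =>
      refine ⟨Ideal.zero_mem _, ?_⟩
      rw [gamma_zero_arg _ (by omega), smul_zero, sub_zero]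
      exact Ideal.zero_mem _
    | add x y _ _ hx hy =>
      exact ⟨Ideal.add_mem _ hx.1 hy.1, hadd x y hx.1 hy.1 hx.2 hy.2⟩
    | smul_mem κ μ hμ =>
      refine ⟨?_, hbase κ μ hμ⟩
      rw [Algebra.smul_def]
      exact Ideal.mul_mem_left _ _ (gen_subset ε (j + 1) hμ)
  exact (key z (mem_span_gen ε (j + 1) hz)).2

end CS

end Groth.Agent.Lib.H6xLamF
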