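import Mathlib
import Groth.Prelude.Def_LambdaSp
import Groth.Agent.Lib.H6xLamW2
import Groth.Agent.Lib.H6xLamU2
import Groth.Agent.Lib.Helper4LambdaSplit
import Groth.Agent.Lib.Helper4LambdaFil
import Groth.Agent.Lib.H6xLamF

/-!
# λ-rings with positive structure and the splitting property are special λ-rings (helper6)
-/

set_option autoImplicit false
universe u v
open MvPolynomial LambdaRing

namespace Groth.Agent.Lib.H6xLamS

open Groth.Agent.Lib.H6xLamW Groth.Agent.Lib.H6xLamU Groth.Agent.Lib.Helper4

section Theta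

attribute [local instance] lamW

variable {σ : Type u} {K : Type v} [CommRing K] [LambdaOps K]

/-- induction on `ℤ[T_σ]` as the additive group generated by the monomials -/
theorem ind_Z {p : MvPolynomial σ ℤ → Prop} (h0 : p 0) (hadd : ∀ f g, p f → p g → p (f + g))
    (hneg : ∀ f, p f → p (-f)) (hmon : ∀ α : σ →₀ ℕ, p (monomial α 1)) (f : MvPolynomial σ ℤ) :
    p f := by
  let S : AddSubgroup (MvPolynomial σ ℤ) :=
    { carrier := {f | p f}
      zero_mem' := h0
      add_mem' := fun {a b} ha hb => hadd a b ha hb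
      neg_mem' := fun {a} ha => hneg a ha }
  have : f ∈ S := by
    rw [← support_sum_monomial_coeff f]
    refine S.sum_mem fun α _ => ?_
    have : monomial α (coeff α f) = (coeff α f) • (monomial α (1 : ℤ)) := by
      rw [smul_monomial, smul_eq_mul, mul_one]
    rw [this]
    exact S.zsmul_mem (hmon α) _
  exact this

/-- the evaluation at a family of elements all of whose monomials are line-like commutes with
the λ-series -/
theorem map_lser (u : σ → K)
    (hu : ∀ α : σ →₀ ℕ, ∀ j : ℕ, 2 ≤ j → LambdaOps.lam j (aeval u (monomial α (1 : ℤ))) = 0)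
    (F : MvPolynomial σ ℤ) :
    PowerSeries.map ((aeval u : MvPolynomial σ ℤ →ₐ[ℤ] K) : MvPolynomial σ ℤ →+* K) (lser σ F) =
      lamSeries (aeval u F) := by
  induction F using ind_Z with
  | h0 =>
    have : lser σ 0 = 1 := by simp [lser]
    rw [this, map_zero, map_one, lamSeries_zero]
  | hadd f g hf hg => rw [lser_add, map_mul, hf, hg, map_add, lamSeries_add]
  | hneg f hf =>
    have h1 : lser σ (-f) * lser σ f = 1 := by
      rw [← lser_add, neg_add_cancel]; simp [lser]
    have h2 := congrArg (PowerSeries.map ((aeval u : MvPolynomial σ ℤ →ₐ[ℤ] K) :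
      MvPolynomial σ ℤ →+* K)) h1
    rw [map_mul, map_one, hf] at h2
    have h3 := lamSeries_neg_mul (aeval u f)
    rw [map_neg]
    exact (isUnit_lamSeries (aeval u f)).mul_left_injective (h2.trans h3.symm)
  | hmon α =>
    rw [lser_monomial, map_add, map_one, map_mul, PowerSeries.map_C, PowerSeries.map_X,
      lamSeries_of_lam_eq_zero _ (hu α)]
    rfl

theorem aeval_lam (u : σ → K)
    (hu : ∀ α : σ →₀ ℕ, ∀ j : ℕ, 2 ≤ j → LambdaOps.lam j (aeval u (monomial α (1 : ℤ))) = 0)
    (n : ℕ) (F : MvPolynomial σ ℤ) :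
    aeval u (LambdaOps.lam n F) = LambdaOps.lam n (aeval u F) := by
  have h := congrArg (PowerSeries.coeff n) (map_lser u hu F)
  rw [PowerSeries.coeff_map, lamSeries, PowerSeries.coeff_mk] at h
  exact h

end Theta

section Special

attribute [local instance] lamW

/-- ring maps commute with `aeval` of integer polynomials -/
theorem ringHom_aeval_int {A B : Type*} [CommRing A] [CommRing B] (φ : A →+* B) {σ : Type*}
    (f : σ → A) (Q : MvPolynomial σ ℤ) :
    φ (@aeval ℤ A σ _ _ (Ring.toIntAlgebra A) f Q) =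
      @aeval ℤ B σ _ _ (Ring.toIntAlgebra B) (fun i => φ (f i)) Q := by
  have := algHom_aeval_int (φ.toIntAlgHom) f Q
  exact this

variable {K : Type u} [CommRing K] [LambdaOps K]

/-- the variables: all line elements -/
abbrev LineVar (P : PosStructure K) : Type u := {u : K // P.IsLine u}

/-- evaluation of polynomials in the line elements -/
noncomputable def theta (P : PosStructure K) : MvPolynomial (LineVar P) ℤ →ₐ[ℤ] K :=
  aeval Subtype.val

lemma theta_monomial_isLine (P : PosStructure K) (α : LineVar P →₀ ℕ) :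
    P.IsLine (theta P (monomial α (1 : ℤ))) := by
  rw [theta, aeval_monomial, map_one, one_mul, Finsupp.prod]
  apply Finset.prod_induction _ P.IsLine (fun a b ha hb => isLine_mul P ha hb) (isLine_one P)
  intro s _
  exact isLine_pow P s.2 _

theorem theta_lam (P : PosStructure K) (n : ℕ) (F : MvPolynomial (LineVar P) ℤ) :
    theta P (LambdaOps.lam n F) = LambdaOps.lam n (theta P F) :=
  aeval_lam _ (fun α j hj => lam_eq_zero_of_isLine P _ (theta_monomial_isLine P α) j hj) n F

theorem exists_theta_eq (P : PosStructure K) {x : K} (hx : x ∈ lineSpan P) :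
    ∃ F : MvPolynomial (LineVar P) ℤ, theta P F = x := by
  induction hx using AddSubgroup.closure_induction with
  | mem u hu => exact ⟨X ⟨u, hu⟩, by simp [theta]⟩
  | zero => exact ⟨0, map_zero _⟩
  | add a b _ _ ha hb =>
    obtain ⟨F, rfl⟩ := ha
    obtain ⟨G, rfl⟩ := hb
    exact ⟨F + G, map_add _ _ _⟩
  | neg a _ ha =>
    obtain ⟨F, rfl⟩ := ha
    exact ⟨-F, map_neg _ _⟩

/-- **A λ-ring with positive structure having the splitting property is a special λ-ring.** -/
theorem isSpecial_of_hasSplitting {P : PosStructure K} (hK : HasSplitting K P) : IsSpecial K where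
  lam_one_eq_zero n hn := lam_one_eq_zero P n hn
  lam_mul n Q hQ x y := by
    obtain ⟨L, f, hf, -, hxy⟩ := exists_extension_lineSpan hK [x, y]
    obtain ⟨F, hF⟩ := exists_theta_eq L.posStr (hxy x (by simp))
    obtain ⟨G, hG⟩ := exists_theta_eq L.posStr (hxy y (by simp))
    apply hf.injective
    rw [hf.isLambdaHom, map_mul, ← hF, ← hG, ← map_mul, ← theta_lam,
      (isSpecial_W _).lam_mul n Q hQ, ringHom_aeval_int f]
    have := algHom_aeval_int (theta L.posStr) (Sum.elim (fun k : Fin n => LambdaOps.lam ((k : ℕ) + 1) F)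
      (fun k : Fin n => LambdaOps.lam ((k : ℕ) + 1) G)) Q
    rw [this]
    congr 2
    funext i
    rcases i with i | i
    · simp only [Sum.elim_inl]
      rw [theta_lam, hf.isLambdaHom, hF]
    · simp only [Sum.elim_inr]
      rw [theta_lam, hf.isLambdaHom, hG]
  lam_lam i j Q hQ x := by
    obtain ⟨L, f, hf, -, hxy⟩ := exists_extension_lineSpan hK [x]
    obtain ⟨F, hF⟩ := exists_theta_eq L.posStr (hxy x (by simp))
    apply hf.injective
    rw [hf.isLambdaHom, hf.isLambdaHom, ← hF, ← theta_lam, ← theta_lam,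
      (isSpecial_W _).lam_lam i j Q hQ, ringHom_aeval_int f]
    have := algHom_aeval_int (theta L.posStr)
      (fun k : Fin (i * j) => LambdaOps.lam ((k : ℕ) + 1) F) Q
    rw [this]
    congr 2
    funext k
    rw [theta_lam, hf.isLambdaHom, hF]

end Special

section Aug

attribute [local instance] lamW

variable {σ : Type u}

/-- the augmentation of `ℤ[T]` commutes with the λ-operations, for the binomial structure on `ℤ` -/
theorem augW_lam (n : ℕ) (F : MvPolynomial σ ℤ) :
    augW σ (LambdaOps.lam n F) = Ring.choose (augW σ F) n := by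
  letI : LambdaOps ℤ := binomialLambdaOps ℤ
  have h := aeval_lam (K := ℤ) (fun _ : σ => (1 : ℤ)) (fun α j hj => by
    have h1 : aeval (fun _ : σ => (1 : ℤ)) (monomial α (1 : ℤ)) = ((1 : ℕ) : ℤ) := by
      simp [aeval_monomial]
    rw [h1]
    change Ring.choose (((1 : ℕ) : ℤ)) j = 0
    rw [Ring.choose_natCast, Nat.choose_eq_zero_of_lt (by omega), Nat.cast_zero]) n F
  exact h

variable {K : Type u} [CommRing K] [LambdaOps K] (P : PosStructure K)

/-- the augmentation as a `ℤ`-algebra map -/
noncomputable def augAlg : K →ₐ[ℤ] ℤ := P.aug.toIntAlgHom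

lemma augAlg_apply (x : K) : augAlg P x = P.aug x := rfl

lemma coe_augAlg : ((augAlg P : K →ₐ[ℤ] ℤ) : K →+* ℤ) = P.aug := rfl

lemma aug_theta (F : MvPolynomial (LineVar P) ℤ) : P.aug (theta P F) = augW _ F := by
  have : (augAlg P).comp (theta P) = augW _ := by
    apply MvPolynomial.algHom_ext
    intro s
    simp only [AlgHom.comp_apply, theta, aeval_X, augW, augAlg_apply]
    exact s.2.2
  exact DFunLike.congr_fun this F

variable {P}

/-- **the augmentation commutes with the λ-operations** (binomial structure on `ℤ`) -/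
theorem aug_lam (hK : HasSplitting K P) (n : ℕ) (x : K) :
    P.aug (LambdaOps.lam n x) = Ring.choose (P.aug x) n := by
  obtain ⟨L, f, hf, -, hxy⟩ := exists_extension_lineSpan hK [x]
  obtain ⟨F, hF⟩ := exists_theta_eq L.posStr (hxy x (by simp))
  rw [← hf.aug_comp, hf.isLambdaHom, ← hF, ← theta_lam, aug_theta, augW_lam, ← aug_theta, hF,
    hf.aug_comp]

/-- integers in `K` have binomial λ-operations -/
theorem lam_intCast (P : PosStructure K) (n : ℕ) (k : ℤ) :
    LambdaOps.lam n (algebraMap ℤ K k) = algebraMap ℤ K (Ring.choose k n) := by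
  have hu : ∀ α : PUnit.{1} →₀ ℕ, ∀ j : ℕ, 2 ≤ j →
      LambdaOps.lam j (aeval (fun _ : PUnit.{1} => (1 : K)) (monomial α (1 : ℤ))) = 0 := by
    intro α j hj
    have h1 : aeval (fun _ : PUnit.{1} => (1 : K)) (monomial α (1 : ℤ)) = 1 := by
      simp [aeval_monomial]
    rw [h1]
    exact lam_one_eq_zero P j hj
  have h := aeval_lam (fun _ : PUnit.{1} => (1 : K)) hu n (C k)
  rw [aeval_C] at h
  rw [← h]
  have h2 : ∀ G : MvPolynomial PUnit.{1} ℤ,
      aeval (fun _ : PUnit.{1} => (1 : K)) G = algebraMap ℤ K (augW _ G) := by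
    intro G
    have := ringHom_aeval_int (algebraMap ℤ K) (fun _ : PUnit.{1} => (1 : ℤ)) G
    rw [augW]
    rw [this]
    simp
  rw [h2, augW_lam]
  congr 2
  simp [augW]

theorem isAugLambdaAlg (hK : HasSplitting K P) :
    @IsAugLambdaAlg ℤ K _ (binomialLambdaOps ℤ) _ _ _ (augAlg P) := by
  letI : LambdaOps ℤ := binomialLambdaOps ℤ
  refine ⟨?_, ?_⟩
  · intro n k
    rw [lam_intCast P]
    rfl
  · intro n a
    rw [augAlg_apply, augAlg_apply, aug_lam hK]
    rfl

theorem isBinomial_int : @IsBinomial ℤ _ (binomialLambdaOps ℤ) _ := fun _ _ => rfl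

/-- the γ-filtration (an additive subgroup) is the γ-filtration ideal -/
theorem mem_gammaFiltration_iff (P : PosStructure K) (n : ℕ) (x : K) :
    x ∈ gammaFiltration P n ↔ x ∈ gammaFil (P.aug : K →+* ℤ) n := by
  by_cases hn : n = 0
  · subst hn
    rw [gammaFiltration_zero, (Groth.Agent.Lib.H6xLamT.isMulFil_gammaFil (P.aug : K →+* ℤ)).zero]
    exact ⟨fun _ => trivial, fun _ => trivial⟩
  rw [gammaFiltration_of_ne_zero P hn]
  constructor
  · intro hx
    induction hx using AddSubgroup.closure_induction with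
    | mem y hy => exact Ideal.subset_span hy
    | zero => exact Ideal.zero_mem _
    | add a b _ _ ha hb => exact Ideal.add_mem _ ha hb
    | neg a _ ha => exact (Submodule.neg_mem_iff _).mpr ha
  · intro hx
    rw [gammaFil] at hx
    induction hx using Submodule.span_induction with
    | mem y hy => exact AddSubgroup.subset_closure hy
    | zero => exact AddSubgroup.zero_mem _
    | add a b _ _ ha hb => exact AddSubgroup.add_mem _ ha hb
    | smul a y _ hy =>
      have := mul_mem_gammaFiltration_left P n a y (by rw [gammaFiltration_of_ne_zero P hn]; exact hy)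
      rw [gammaFiltration_of_ne_zero P hn] at this
      exact this

end Aug

section Cor

variable {K : Type u} [CommRing K] [LambdaOps K] {P : PosStructure K}

/-- the γ-filtration consists of γ-ideals -/
theorem gamma_mem_gammaFiltration' (hK : HasSplitting K P) (n : ℕ) {z : K}
    (hz : z ∈ gammaFiltration P n) (i : ℕ) (hi : 1 ≤ i) : gamma i z ∈ gammaFiltration P n := by
  letI : LambdaOps ℤ := binomialLambdaOps ℤ
  rw [mem_gammaFiltration_iff] at hz ⊢
  exact Groth.Agent.Lib.H6xLamF.gamma_mem_fil isBinomial_int (isSpecial_of_hasSplitting hK)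
    (augAlg P) (isAugLambdaAlg hK) n hz i hi

/-- the Chern class congruence in the γ-filtration -/
theorem gamma_congr_gammaFiltration (hK : HasSplitting K P) (j : ℕ) {z : K}
    (hz : z ∈ gammaFiltration P (j + 1)) :
    gamma (j + 1) z - ((-1 : ℤ) ^ j * (j.factorial : ℤ)) • z ∈ gammaFiltration P (j + 1 + 1) := by
  letI : LambdaOps ℤ := binomialLambdaOps ℤ
  rw [mem_gammaFiltration_iff] at hz ⊢
  exact Groth.Agent.Lib.H6xLamF.gamma_congr_fil isBinomial_int (isSpecial_of_hasSplitting hK)
    (augAlg P) (isAugLambdaAlg hK) j hz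

end Cor

end Groth.Agent.Lib.H6xLamS
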