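import Mathlib
import Groth.Prelude.Def_KRR
import Groth.Agent.Lib.H6xARRb
import Groth.Agent.Lib.H6xLamS
import Groth.Agent.Lib.Helper4LambdaSigma
import Groth.Agent.Lib.Helper4LambdaBott

/-!
# Adams–Riemann–Roch for an elementary projection: λ-ring input (helper6)
-/

set_option autoImplicit false
universe u
open LambdaRing

namespace Groth.Agent.Lib.H6xARR

open Groth.Agent.Lib.Helper4 Groth.Agent.Lib.H6xLamS

section Lam

variable {K : Type u} [CommRing K] [LambdaOps K] {P : PosStructure K}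

/-- `λ_t(w v) = λ_{vt}(w)` for `w` an integral combination of line elements and `v` a line
element -/
theorem lamSeries_mul_line_of_mem_lineSpan {w : K} (hw : w ∈ lineSpan P) (v : K)
    (hv : P.IsLine v) : lamSeries (w * v) = PowerSeries.rescale v (lamSeries w) := by
  rw [lineSpan] at hw
  induction hw using AddSubgroup.closure_induction with
  | mem u hu =>
    rw [lamSeries_of_isLine P _ (isLine_mul P hu hv), lamSeries_of_isLine P u hu, map_add, map_one]
    congr 1
    ext n
    rw [PowerSeries.coeff_rescale]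
    rcases n with _ | n
    · simp
    · rw [PowerSeries.coeff_succ_mul_X, PowerSeries.coeff_succ_mul_X, PowerSeries.coeff_C,
        PowerSeries.coeff_C]
      split_ifs with h
      · subst h; simp [mul_comm]
      · simp
  | zero => rw [zero_mul, lamSeries_zero, map_one]
  | add a b _ _ ha hb => rw [add_mul, lamSeries_add, ha, hb, lamSeries_add, map_mul]
  | neg a _ ha =>
    have h1 := lamSeries_neg_mul (a * v)
    have h2 := congrArg (PowerSeries.rescale v) (lamSeries_neg_mul a)
    rw [map_mul, map_one, ← ha] at h2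
    rw [neg_mul]
    calc lamSeries (-(a * v)) = lamSeries (-(a * v)) * (PowerSeries.rescale v (lamSeries (-a)) *
          lamSeries (a * v)) := by rw [h2, mul_one]
      _ = (lamSeries (-(a * v)) * lamSeries (a * v)) * PowerSeries.rescale v (lamSeries (-a)) := by
          ring
      _ = _ := by rw [h1, one_mul]

/-- `λ^n(z v) = λ^n(z) v^n` for a line element `v` (splitting principle) -/
theorem lam_mul_isLine (hK : HasSplitting K P) (z v : K) (hv : P.IsLine v) (n : ℕ) :
    LambdaOps.lam n (z * v) = LambdaOps.lam n z * v ^ n := by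
  obtain ⟨L, f, hf, -, hxy⟩ := exists_extension_lineSpan hK [z]
  apply hf.injective
  rw [hf.isLambdaHom, map_mul, map_mul, map_pow, hf.isLambdaHom]
  have hfv : L.posStr.IsLine (f v) := isExtension_isLine hf hv
  have h1 := lamSeries_mul_line_of_mem_lineSpan (hxy z (by simp)) (f v) hfv
  have h2 := congrArg (PowerSeries.coeff n) h1
  rw [coeff_lamSeries, PowerSeries.coeff_rescale, coeff_lamSeries] at h2
  rw [h2, mul_comm]

/-- `λ^n(x ℓ⁻¹) = λ^n(x) ℓ^{-n}` for a line element `ℓ` -/
theorem lam_mul_inv_line (hK : HasSplitting K P) (x ℓ linv : K) (hℓ : P.IsLine ℓ)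
    (hinv : linv * ℓ = 1) (n : ℕ) :
    LambdaOps.lam n (x * linv) = LambdaOps.lam n x * linv ^ n := by
  have h := lam_mul_isLine hK (x * linv) ℓ hℓ n
  rw [mul_assoc, hinv, mul_one] at h
  rw [h, mul_assoc, ← mul_pow, mul_comm ℓ, hinv, one_pow, mul_one]

theorem bott_eq (P : PosStructure K) (j : ℕ) (y : K) (m : ℕ) (hm : (P.aug y).toNat = m) :
    KRR.bott P j y =
      MvPolynomial.aeval (fun i : Fin m => LambdaOps.lam (i.1 + 1) y) (KRR.bottPoly j m) := by
  subst hm; rfl

/-- the value of Bott's polynomial at the binomial coefficients -/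
theorem aeval_choose_bottPoly (j m : ℕ) :
    MvPolynomial.aeval (fun i : Fin m => ((m.choose (i.1 + 1) : ℕ) : ℤ)) (KRR.bottPoly j m) =
      (j : ℤ) ^ m := by
  have h1 : (fun i : Fin m => ((m.choose (i.1 + 1) : ℕ) : ℤ)) =
      fun i : Fin m => MvPolynomial.aeval (fun _ : Fin m => (1 : ℤ))
        (MvPolynomial.esymm (Fin m) ℤ (i.1 + 1)) := by
    funext i
    rw [aeval_esymm_eq]
    simp
  rw [h1, ← MvPolynomial.comp_aeval_apply (φ := MvPolynomial.aeval (fun _ : Fin m => (1 : ℤ))),
    aeval_esymm_bottPoly, KRR.bottSym, map_prod]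
  simp

/-- the augmentation of Bott's class -/
theorem aug_bott (hK : HasSplitting K P) (j : ℕ) (y : K) (m : ℕ) (hm : P.aug y = m) :
    P.aug (KRR.bott P j y) = (j : ℤ) ^ m := by
  rw [bott_eq P j y m (by rw [hm]; rfl), ringHom_aeval_gen' P.aug, ← aeval_choose_bottPoly j m]
  congr 2
  funext i
  rw [aug_lam hK, hm, Ring.choose_natCast]

end Lam

section Tensor

open scoped TensorProduct
open Polynomial

variable (R : Type) [CommRing R] {K : Type u} [CommRing K] {B : Type u} [CommRing B] [Algebra K B]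

/-- `R ⊗ K → R ⊗ B` -/
noncomputable def ofR : R ⊗[ℤ] K →+* R ⊗[ℤ] B :=
  (Algebra.TensorProduct.map (AlgHom.id ℤ R) ((algebraMap K B).toIntAlgHom)).toRingHom

lemma ofR_tmul (ρ : R) (a : K) : ofR R (B := B) (ρ ⊗ₜ[ℤ] a) = ρ ⊗ₜ[ℤ] algebraMap K B a := rfl

/-- the base change of a `K`-linear functional -/
noncomputable def gR (g : B →ₗ[K] K) : R ⊗[ℤ] B →ₗ[ℤ] R ⊗[ℤ] K :=
  LinearMap.lTensor R g.toAddMonoidHom.toIntLinearMap

lemma gR_tmul (g : B →ₗ[K] K) (ρ : R) (b : B) : gR R g (ρ ⊗ₜ[ℤ] b) = ρ ⊗ₜ[ℤ] g b := rfl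

/-- semilinearity of the base-changed functional -/
lemma gR_ofR_mul (g : B →ₗ[K] K) (z : R ⊗[ℤ] K) (y : R ⊗[ℤ] B) :
    gR R g (ofR R z * y) = z * gR R g y := by
  induction z using TensorProduct.induction_on with
  | zero => simp
  | add a b ha hb => rw [map_add, add_mul, map_add, ha, hb, add_mul]
  | tmul ρ a =>
    induction y using TensorProduct.induction_on with
    | zero => simp
    | add x y hx hy => rw [mul_add, map_add, hx, hy, map_add, mul_add]
    | tmul ρ' b =>
      rw [ofR_tmul, Algebra.TensorProduct.tmul_mul_tmul, gR_tmul, gR_tmul,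
        Algebra.TensorProduct.tmul_mul_tmul, ← Algebra.smul_def, map_smul, smul_eq_mul]

variable (linv : B)

/-- evaluation of polynomials over `R ⊗ K` at `1 ⊗ ℓ⁻¹` -/
noncomputable def evB : (R ⊗[ℤ] K)[X] →+* R ⊗[ℤ] B :=
  Polynomial.eval₂RingHom (ofR R) ((1 : R) ⊗ₜ[ℤ] linv)

lemma evB_apply (p : (R ⊗[ℤ] K)[X]) :
    evB R linv p = ∑ n ∈ Finset.range (p.natDegree + 1), ofR R (p.coeff n) * ((1 : R) ⊗ₜ[ℤ] (linv ^ n)) := by
  rw [evB, coe_eval₂RingHom, eval₂_eq_sum_range]
  apply Finset.sum_congr rfl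
  intro n _
  rw [Algebra.TensorProduct.tmul_pow, one_pow]

lemma gR_evB (g : B →ₗ[K] K) (p : (R ⊗[ℤ] K)[X]) :
    gR R g (evB R linv p) =
      ∑ n ∈ Finset.range (p.natDegree + 1), p.coeff n * ((1 : R) ⊗ₜ[ℤ] (g (linv ^ n))) := by
  rw [evB_apply, map_sum]
  apply Finset.sum_congr rfl
  intro n _
  rw [gR_ofR_mul, gR_tmul]

end Tensor

end Groth.Agent.Lib.H6xARR
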