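import Mathlib
import Groth.Agent.Lib.H6xARRc

/-!
# Adams–Riemann–Roch for an elementary projection: the algebra `K[T]/(p)` and its base change
(helper6)
-/

set_option autoImplicit false
universe u

namespace Groth.Agent.Lib.H6xARR

open Polynomial

section Quot

variable {K : Type u} [CommRing K] {p : K[X]}

/-- coordinate functionals with respect to the basis `ℓ^{-n}`, `n ≤ r` -/
noncomputable def gk (hp : p.Monic) (r k : ℕ) : AdjoinRoot p →ₗ[K] K :=
  (Polynomial.lcoeff K (r - k)) ∘ₗ (AdjoinRoot.modByMonicHom hp) ∘ₗ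
    (LinearMap.mulRight K (AdjoinRoot.root p ^ r))

lemma gk_apply (hp : p.Monic) (r k : ℕ) (b : AdjoinRoot p) :
    gk hp r k b = (AdjoinRoot.modByMonicHom hp (b * AdjoinRoot.root p ^ r)).coeff (r - k) := rfl

lemma gk_linv_pow (hp : p.Monic) (r : ℕ) (hdeg : p.natDegree = r + 1) (linv : AdjoinRoot p)
    (hlinv : linv * AdjoinRoot.root p = 1) (k n : ℕ) (hk : k ≤ r) (hn : n ≤ r) :
    gk hp r k (linv ^ n) = if k = n then 1 else 0 := by
  have : Nontrivial K := by
    by_contra h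
    rw [not_nontrivial_iff_subsingleton] at h
    have : p.natDegree = 0 := by rw [Subsingleton.elim p 0]; simp
    omega
  rw [gk_apply, mul_comm, Groth.Agent.Lib.Helper4.mul_inv_pow _ _ hlinv, if_pos hn,
    ← AdjoinRoot.mk_X, ← map_pow, AdjoinRoot.modByMonicHom_mk,
    (Polynomial.modByMonic_eq_self_iff hp).2, coeff_X_pow]
  · by_cases h : k = n
    · subst h; simp
    · rw [if_neg h, if_neg]; omega
  · rw [degree_X_pow, degree_eq_natDegree hp.ne_zero, hdeg]
    exact_mod_cast (by omega : r - n < r + 1)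

lemma sum_gk (hp : p.Monic) (r : ℕ) (hdeg : p.natDegree = r + 1) (linv : AdjoinRoot p)
    (hlinv : linv * AdjoinRoot.root p = 1) (b : AdjoinRoot p) :
    b = ∑ n ∈ Finset.range (r + 1), AdjoinRoot.of p (gk hp r n b) * linv ^ n := by
  have : Nontrivial K := by
    by_contra h
    rw [not_nontrivial_iff_subsingleton] at h
    have : p.natDegree = 0 := by rw [Subsingleton.elim p 0]; simp
    omega
  set q := AdjoinRoot.modByMonicHom hp (b * AdjoinRoot.root p ^ r) with hq
  have hq1 : AdjoinRoot.mk p q = b * AdjoinRoot.root p ^ r := AdjoinRoot.mk_leftInverse hp _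
  have hqdeg : q.natDegree < r + 1 := by
    have h1 : p ≠ 1 := by
      intro h; rw [h, natDegree_one] at hdeg; omega
    have := Polynomial.natDegree_modByMonic_lt (AdjoinRoot.modByMonicHom hp
      (b * AdjoinRoot.root p ^ r)) hp h1
    rw [hq]
    obtain ⟨q0, hq0⟩ := AdjoinRoot.mk_surjective (b * AdjoinRoot.root p ^ r)
    rw [← hq0, AdjoinRoot.modByMonicHom_mk]
    have := Polynomial.natDegree_modByMonic_lt q0 hp h1
    omega
  have hb : b = AdjoinRoot.mk p q * linv ^ r := by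
    rw [hq1, mul_assoc, ← mul_pow, mul_comm _ linv, hlinv, one_pow, mul_one]
  rw [← Finset.sum_flip]
  conv_lhs => rw [hb, Polynomial.as_sum_range' q (r + 1) hqdeg]
  rw [map_sum, Finset.sum_mul]
  apply Finset.sum_congr rfl
  intro i hi
  rw [Finset.mem_range] at hi
  have h1 : r - (r - i) = i := by omega
  rw [gk_apply, ← hq, h1, ← C_mul_X_pow_eq_monomial, map_mul, map_pow, AdjoinRoot.mk_X,
    AdjoinRoot.mk_C, mul_assoc, Groth.Agent.Lib.Helper4.mul_inv_pow _ _ hlinv]
  split_ifs with h2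
  · have : i = r := by omega
    subst this; simp
  · rfl

end Quot

section PolyRed

/-- reduction modulo a polynomial with invertible leading coefficient -/
lemma exists_red {A : Type*} [CommRing A] (d : A[X]) (r : ℕ) (hd : d.natDegree ≤ r + 1)
    (hu : IsUnit (d.coeff (r + 1))) (P : A[X]) : ∃ G : A[X], G.natDegree ≤ r ∧ d ∣ G - P := by
  rcases subsingleton_or_nontrivial A with h | h
  · exact ⟨0, by simp, ⟨0, Subsingleton.elim _ _⟩⟩
  obtain ⟨u, hu⟩ := hu
  set d₁ : A[X] := C (↑u⁻¹ : A) * d with hd₁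
  have hmon : d₁.Monic := by
    apply Polynomial.monic_of_natDegree_le_of_coeff_eq_one (r + 1)
    · exact (natDegree_C_mul_le _ _).trans hd
    · rw [hd₁, coeff_C_mul, ← hu, Units.inv_mul]
  have hdeg : d₁.natDegree = r + 1 := by
    apply le_antisymm ((natDegree_C_mul_le _ _).trans hd)
    apply le_natDegree_of_ne_zero
    rw [coeff_C_mul, ← hu, Units.inv_mul]
    exact one_ne_zero
  have hne1 : d₁ ≠ 1 := by
    intro h1; rw [h1, natDegree_one] at hdeg; omega
  refine ⟨P %ₘ d₁, ?_, ?_⟩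
  · have := natDegree_modByMonic_lt P hmon hne1
    omega
  · refine ⟨-(C (↑u⁻¹ : A) * (P /ₘ d₁)), ?_⟩
    have h2 := modByMonic_add_div P d₁
    rw [hd₁] at h2 ⊢
    linear_combination h2

end PolyRed

section Base

open scoped TensorProduct

variable (R : Type) [CommRing R] {K : Type u} [CommRing K]

/-- a functional dual to `ℓ^{-k}` picks out the `k`-th coefficient -/
lemma gR_evB_dual {B : Type u} [CommRing B] [Algebra K B] (linv : B) (g : B →ₗ[K] K) (r k : ℕ)
    (hg : ∀ n, n ≤ r → g (linv ^ n) = if k = n then 1 else 0)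
    (q : (R ⊗[ℤ] K)[X]) (hq : q.natDegree ≤ r) :
    gR R g (evB R linv q) = q.coeff k := by
  rw [gR_evB]
  have h1 : ∀ n ∈ Finset.range (q.natDegree + 1),
      q.coeff n * ((1 : R) ⊗ₜ[ℤ] (g (linv ^ n))) = if k = n then q.coeff n else 0 := by
    intro n hn
    rw [Finset.mem_range] at hn
    rw [hg n (by omega)]
    split_ifs
    · rw [← Algebra.TensorProduct.one_def, mul_one]
    · rw [TensorProduct.tmul_zero, mul_zero]
  rw [Finset.sum_congr rfl h1, Finset.sum_ite_eq]
  split_ifs with h2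
  · rfl
  · rw [Finset.mem_range] at h2
    rw [coeff_eq_zero_of_natDegree_lt (by omega)]

variable {p : K[X]} (hp : p.Monic) (r : ℕ) (hdeg : p.natDegree = r + 1) (linv : AdjoinRoot p)
  (hlinv : linv * AdjoinRoot.root p = 1)

include hdeg hlinv in
lemma gR_gk_evB (q : (R ⊗[ℤ] K)[X]) (hq : q.natDegree ≤ r) (k : ℕ) (hk : k ≤ r) :
    gR R (gk hp r k) (evB R linv q) = q.coeff k :=
  gR_evB_dual R linv (gk hp r k) r k (fun n hn => gk_linv_pow hp r hdeg linv hlinv k n hk hn) q hq

include hp hdeg hlinv in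
/-- a polynomial of degree `≤ r` vanishing at `1 ⊗ ℓ⁻¹` is zero -/
lemma eq_zero_of_evB_eq_zero (q : (R ⊗[ℤ] K)[X]) (hq : q.natDegree ≤ r)
    (h0 : evB R linv q = 0) : q = 0 := by
  ext k
  rw [coeff_zero]
  by_cases hk : k ≤ r
  · rw [← gR_gk_evB R hp r hdeg linv hlinv q hq k hk, h0, map_zero]
  · rw [coeff_eq_zero_of_natDegree_lt (by omega)]

include hp hdeg hlinv in
/-- every element of `R ⊗ B` is a polynomial of degree `≤ r` in `1 ⊗ ℓ⁻¹` -/
lemma exists_evB_eq (y : R ⊗[ℤ] AdjoinRoot p) :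
    ∃ q : (R ⊗[ℤ] K)[X], q.natDegree ≤ r ∧ evB R linv q = y := by
  induction y using TensorProduct.induction_on with
  | zero => exact ⟨0, by simp, map_zero _⟩
  | add a b ha hb =>
    obtain ⟨qa, hqa, rfl⟩ := ha
    obtain ⟨qb, hqb, rfl⟩ := hb
    exact ⟨qa + qb, (natDegree_add_le _ _).trans (max_le hqa hqb), map_add _ _ _⟩
  | tmul ρ b =>
    refine ⟨∑ n ∈ Finset.range (r + 1), C (ρ ⊗ₜ[ℤ] gk hp r n b) * X ^ n, ?_, ?_⟩
    · apply natDegree_sum_le_of_forall_le
      intro n hn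
      rw [Finset.mem_range] at hn
      exact (natDegree_C_mul_X_pow_le _ _).trans (by omega)
    · rw [map_sum]
      conv_rhs => rw [sum_gk hp r hdeg linv hlinv b, TensorProduct.tmul_sum]
      apply Finset.sum_congr rfl
      intro n _
      rw [map_mul, map_pow, evB, coe_eval₂RingHom, eval₂_C, eval₂_X, ofR_tmul,
        Algebra.TensorProduct.tmul_pow, one_pow, Algebra.TensorProduct.tmul_mul_tmul, mul_one,
        AdjoinRoot.algebraMap_eq]

variable (d : (R ⊗[ℤ] K)[X]) (hdd : d.natDegree ≤ r + 1) (hdu : IsUnit (d.coeff (r + 1)))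
  (hd0 : evB R linv d = 0)

include hp hdeg hlinv hdd hdu hd0 in
/-- the kernel of evaluation at `1 ⊗ ℓ⁻¹` is generated by `d` -/
lemma dvd_of_evB_eq_zero (P : (R ⊗[ℤ] K)[X]) (hP : evB R linv P = 0) : d ∣ P := by
  obtain ⟨G, hG, hGd⟩ := exists_red d r hdd hdu P
  have h1 : evB R linv (G - P) = 0 := by
    obtain ⟨c, hc⟩ := hGd
    rw [hc, map_mul, hd0, zero_mul]
  have h2 : evB R linv G = 0 := by
    have : evB R linv G = evB R linv (G - P) + evB R linv P := by
      rw [← map_add]; congr 1; ring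
    rw [this, h1, hP, add_zero]
  have h3 := eq_zero_of_evB_eq_zero R hp r hdeg linv hlinv G hG h2
  rw [h3, zero_sub] at hGd
  exact (dvd_neg.1 hGd)

include hp hdeg hlinv in
/-- the algebraic heart of the Adams–Riemann–Roch formula for an elementary projection -/
theorem arr_generic (j : ℕ) [NeZero j] (ε : ℕ → R ⊗[ℤ] K) (hε : IsUnit (ε (r + 1)))
    (hd0 : evB R linv (dPoly (r + 1) ε) = 0)
    (f : AdjoinRoot p →ₗ[K] K) (hf0 : f 1 = 1) (hfn : ∀ n, 1 ≤ n → n ≤ r → f (linv ^ n) = 0)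
    (w : R ⊗[ℤ] AdjoinRoot p) (hw : w * evB R linv (thetaPoly j (r + 1) ε) = 1)
    (i : ℕ) (hi : i ≤ r) :
    gR R f ((j : R ⊗[ℤ] AdjoinRoot p) * w * ((1 : R) ⊗ₜ[ℤ] (linv ^ (i * j)))) =
      if i = 0 then 1 else 0 := by
  have hdd := natDegree_dPoly_le (r + 1) ε
  have hdu : IsUnit ((dPoly (r + 1) ε).coeff (r + 1)) := by
    rw [coeff_dPoly, if_neg (by omega), if_pos le_rfl]
    exact ((isUnit_one.neg).pow _).mul hε
  obtain ⟨W, -, hW⟩ := exists_evB_eq R hp r hdeg linv hlinv w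
  have h1 : evB R linv (W * thetaPoly j (r + 1) ε - 1) = 0 := by
    rw [show evB R linv (W * thetaPoly j (r + 1) ε - 1) =
      evB R linv (W * thetaPoly j (r + 1) ε) - evB R linv 1 from
        map_sub (evB R linv) (W * thetaPoly j (r + 1) ε) 1,
      map_mul, hW, hw, map_one, sub_self]
  obtain ⟨c, hc⟩ := dvd_of_evB_eq_zero R hp r hdeg linv hlinv _ hdd hdu hd0 _ h1
  have hB : W * thetaPoly j (r + 1) ε + (-c) * dPoly (r + 1) ε = 1 := by
    have h : W * thetaPoly j (r + 1) ε = dPoly (r + 1) ε * c + 1 :=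
      (sub_eq_iff_eq_add (a := W * thetaPoly j (r + 1) ε) (b := 1)
        (c := dPoly (r + 1) ε * c)).1 hc
    rw [h]; ring
  obtain ⟨G, hGdeg, hGd⟩ := exists_red _ r hdd hdu (X ^ (i * j) * W)
  have harr := arr_alg j (r + 1) ε hε W (-c) hB i (by omega) G (by omega) hGd
  have hG1 : evB R linv G = ((1 : R) ⊗ₜ[ℤ] (linv ^ (i * j))) * w := by
    obtain ⟨c', hc'⟩ := hGd
    have : G = X ^ (i * j) * W + dPoly (r + 1) ε * c' := by rw [← hc']; ring
    rw [this, map_add, map_mul, map_mul, hd0, zero_mul, add_zero, hW, map_pow]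
    congr 1
    rw [evB, coe_eval₂RingHom, eval₂_X, Algebra.TensorProduct.tmul_pow, one_pow]
  have hG2 : gR R f (evB R linv G) = G.coeff 0 := by
    apply gR_evB_dual R linv f r 0 _ G hGdeg
    intro n hn
    rcases Nat.eq_zero_or_pos n with h | h
    · subst h; rw [pow_zero, hf0, if_pos rfl]
    · rw [hfn n h hn, if_neg (by omega)]
  have h3 : (j : R ⊗[ℤ] AdjoinRoot p) * w * ((1 : R) ⊗ₜ[ℤ] (linv ^ (i * j))) =
      j • evB R linv G := by
    rw [hG1, nsmul_eq_mul]; ring
  rw [h3, map_nsmul, hG2, nsmul_eq_mul, harr]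

end Base

end Groth.Agent.Lib.H6xARR
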