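import Mathlib
import Groth.Agent.Lib.H6xARRd
import Groth.Agent.Lib.Helper4LambdaExt
import Groth.Agent.Lib.Helper4LambdaAdamsFil
import Groth.Agent.Lib.Helper4LambdaInv

/-!
# Adams–Riemann–Roch for an elementary projection: assembly (helper6)
-/

set_option autoImplicit false
universe u
open LambdaRing

namespace Groth.Agent.Lib.H6xARR

open Groth.Agent.Lib.Helper4 Groth.Agent.Lib.H6xLamS Polynomial
open scoped TensorProduct

section TensorAux

variable (R : Type) [CommRing R] {K : Type u} [CommRing K]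

lemma neg_one_pow_mul_tmul (n : ℕ) (a : K) :
    (-1 : R ⊗[ℤ] K) ^ n * ((1 : R) ⊗ₜ[ℤ] a) = (1 : R) ⊗ₜ[ℤ] ((-1) ^ n * a) := by
  have h : (-1 : R ⊗[ℤ] K) = (1 : R) ⊗ₜ[ℤ] (-1 : K) := by
    rw [TensorProduct.tmul_neg]; rfl
  rw [h, Algebra.TensorProduct.tmul_pow, one_pow, Algebra.TensorProduct.tmul_mul_tmul, one_mul]

/-- `b ↦ 1 ⊗ b` as a ring homomorphism -/
noncomputable def incR (B : Type u) [CommRing B] : B →+* R ⊗[ℤ] B :=
  (Algebra.TensorProduct.includeRight (R := ℤ) (A := R) (B := B)).toRingHom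

lemma incR_apply (B : Type u) [CommRing B] (b : B) : incR R B b = (1 : R) ⊗ₜ[ℤ] b := rfl

end TensorAux

section Ext

variable {K : Type u} [CommRing K] [LambdaOps K] (P : PosStructure K) (e : K)

lemma extPoly_monic : (KRR.extPoly P e).Monic := by
  rw [extPoly_eq_revPoly]
  exact revPoly_monic _ _ (by simp [extCoeff, LambdaOps.lam_zero])

include P in
lemma nontrivial_of_pos : Nontrivial K := ⟨⟨0, 1, fun h => by
  have := congrArg P.aug h
  rw [map_zero, map_one] at this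
  exact zero_ne_one this⟩⟩

lemma natDegree_extPoly (r : ℕ) (hr : P.aug e = r + 1) : (KRR.extPoly P e).natDegree = r + 1 := by
  have := nontrivial_of_pos P
  have hm : (P.aug e).toNat = r + 1 := by rw [hr]; rfl
  rw [extPoly_eq_revPoly, natDegree_revPoly _ _ (by simp [extCoeff, LambdaOps.lam_zero]), hm]

/-- the relation satisfied by `ℓ⁻¹` -/
lemma linv_rel (r : ℕ) (hr : P.aug e = r + 1) (linv : AdjoinRoot (KRR.extPoly P e))
    (hlinv : linv * AdjoinRoot.root (KRR.extPoly P e) = 1) :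
    ∑ i ∈ Finset.range (r + 2),
      AdjoinRoot.of (KRR.extPoly P e) ((-1 : K) ^ i * LambdaOps.lam i e) * linv ^ i = 0 := by
  have hm : (P.aug e).toNat = r + 1 := by rw [hr]; rfl
  have h := extPoly_root_rel P e
  rw [hm] at h
  have h2 := congrArg (fun z => z * linv ^ (r + 1)) h
  simp only [zero_mul, Finset.sum_mul] at h2
  rw [← h2]
  apply Finset.sum_congr rfl
  intro i hi
  rw [Finset.mem_range] at hi
  rw [mul_assoc, mul_inv_pow _ _ hlinv, AdjoinRoot.algebraMap_eq]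
  split_ifs with h3
  · have : i = 0 := by omega
    subst this; simp
  · congr 2
    omega

variable (R : Type) [CommRing R]

/-- `ε n = 1 ⊗ λ^n(e)` -/
noncomputable def epsR (n : ℕ) : R ⊗[ℤ] K := (1 : R) ⊗ₜ[ℤ] LambdaOps.lam n e

lemma evB_C_mul_X_pow (linv : AdjoinRoot (KRR.extPoly P e)) (a : K) (n : ℕ) :
    evB R linv (C ((1 : R) ⊗ₜ[ℤ] a) * X ^ n) =
      (1 : R) ⊗ₜ[ℤ] (AdjoinRoot.of (KRR.extPoly P e) a * linv ^ n) := by
  rw [map_mul, map_pow, evB, coe_eval₂RingHom, eval₂_C, eval₂_X, ofR_tmul,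
    Algebra.TensorProduct.tmul_pow, one_pow, Algebra.TensorProduct.tmul_mul_tmul, mul_one,
    AdjoinRoot.algebraMap_eq]

lemma evB_dPoly (r : ℕ) (hr : P.aug e = r + 1) (linv : AdjoinRoot (KRR.extPoly P e))
    (hlinv : linv * AdjoinRoot.root (KRR.extPoly P e) = 1) :
    evB R linv (dPoly (r + 1) (epsR e R)) = 0 := by
  rw [dPoly_eq_range, map_add, map_one, map_sum]
  have h1 : ∀ i ∈ Finset.range (r + 1),
      evB R linv (C ((-1) ^ (i + 1) * epsR e R (i + 1)) * X ^ (i + 1)) =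
        (1 : R) ⊗ₜ[ℤ] (AdjoinRoot.of (KRR.extPoly P e) ((-1 : K) ^ (i + 1) *
          LambdaOps.lam (i + 1) e) * linv ^ (i + 1)) := by
    intro i _
    rw [epsR, neg_one_pow_mul_tmul, evB_C_mul_X_pow]
  rw [Finset.sum_congr rfl h1, ← TensorProduct.tmul_sum, Algebra.TensorProduct.one_def,
    ← TensorProduct.tmul_add]
  have h2 := linv_rel P e r hr linv hlinv
  rw [Finset.sum_range_succ'] at h2
  simp only [pow_zero, LambdaOps.lam_zero, mul_one, map_one] at h2
  rw [add_comm, h2, TensorProduct.tmul_zero]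

variable [LambdaOps (AdjoinRoot (KRR.extPoly P e))]
  (Pe : PosStructure (AdjoinRoot (KRR.extPoly P e)))

lemma aug_linv (hline : Pe.IsLine (AdjoinRoot.root (KRR.extPoly P e)))
    (linv : AdjoinRoot (KRR.extPoly P e))
    (hlinv : linv * AdjoinRoot.root (KRR.extPoly P e) = 1) : Pe.aug linv = 1 := by
  have h := congrArg Pe.aug hlinv
  rw [map_mul, hline.2, mul_one, map_one] at h
  exact h

lemma evB_thetaPoly (hext : IsExtension P Pe (AdjoinRoot.of (KRR.extPoly P e)))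
    (hline : Pe.IsLine (AdjoinRoot.root (KRR.extPoly P e)))
    (hsplit : HasSplitting (AdjoinRoot (KRR.extPoly P e)) Pe)
    (r : ℕ) (hr : P.aug e = r + 1) (linv : AdjoinRoot (KRR.extPoly P e))
    (hlinv : linv * AdjoinRoot.root (KRR.extPoly P e) = 1) (j : ℕ) :
    evB R linv (thetaPoly j (r + 1) (epsR e R)) =
      (1 : R) ⊗ₜ[ℤ] KRR.bott Pe j (AdjoinRoot.of (KRR.extPoly P e) e * linv) := by
  have haug : Pe.aug (AdjoinRoot.of (KRR.extPoly P e) e * linv) = ((r + 1 : ℕ) : ℤ) := by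
    rw [map_mul, aug_linv P e Pe hline linv hlinv, mul_one, hext.aug_comp, hr]
    push_cast; rfl
  rw [bott_eq Pe j _ (r + 1) (by rw [haug]; rfl), thetaPoly]
  have h0 := ringHom_aeval_gen' (evB R linv)
    (fun i : Fin (r + 1) => C (epsR e R (i.1 + 1)) * X ^ (i.1 + 1)) (KRR.bottPoly j (r + 1))
  have h1 := ringHom_aeval_gen' (incR R (AdjoinRoot (KRR.extPoly P e)))
    (fun i : Fin (r + 1) => LambdaOps.lam (i.1 + 1) (AdjoinRoot.of (KRR.extPoly P e) e * linv))
    (KRR.bottPoly j (r + 1))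
  rw [incR_apply] at h1
  refine h0.trans (Eq.trans ?_ h1.symm)
  congr 2
  funext i
  rw [incR_apply, epsR, evB_C_mul_X_pow,
    lam_mul_inv_line hsplit _ _ linv hline hlinv, hext.isLambdaHom]

lemma adams_linv (hline : Pe.IsLine (AdjoinRoot.root (KRR.extPoly P e)))
    (hsplit : HasSplitting (AdjoinRoot (KRR.extPoly P e)) Pe)
    (linv : AdjoinRoot (KRR.extPoly P e))
    (hlinv : linv * AdjoinRoot.root (KRR.extPoly P e) = 1) (j : ℕ) :
    adams Pe j linv = linv ^ j := by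
  have h1 : adams Pe j linv * adams Pe j (AdjoinRoot.root (KRR.extPoly P e)) = 1 := by
    rw [← adams_mul hsplit, hlinv, adams_one]
  rw [adams_of_isLine Pe _ hline] at h1
  calc adams Pe j linv
      = adams Pe j linv * (AdjoinRoot.root (KRR.extPoly P e) ^ j * linv ^ j) := by
        rw [← mul_pow, mul_comm (AdjoinRoot.root _), hlinv, one_pow, mul_one]
    _ = (adams Pe j linv * AdjoinRoot.root (KRR.extPoly P e) ^ j) * linv ^ j := by ring
    _ = linv ^ j := by rw [h1, one_mul]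

/-- the Adams–Riemann–Roch formula for an elementary projection -/
theorem arr_part2 (he : e ∈ P.pos) (r : ℕ) (hr : P.aug e = r + 1)
    (hext : IsExtension P Pe (AdjoinRoot.of (KRR.extPoly P e)))
    (hline : Pe.IsLine (AdjoinRoot.root (KRR.extPoly P e)))
    (hsplit : HasSplitting (AdjoinRoot (KRR.extPoly P e)) Pe)
    (f : AdjoinRoot (KRR.extPoly P e) →ₗ[K] K)
    (hf : ∀ i : ℕ, i ≤ r → f (AdjoinRoot.root (KRR.extPoly P e) ^ i) = KRR.sigma i e)
    (linv : AdjoinRoot (KRR.extPoly P e))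
    (hlinv : linv * AdjoinRoot.root (KRR.extPoly P e) = 1) (j : ℕ) (hj : 1 ≤ j)
    (w : R ⊗[ℤ] AdjoinRoot (KRR.extPoly P e))
    (hw : w * ((1 : R) ⊗ₜ[ℤ] KRR.bott Pe j (AdjoinRoot.of (KRR.extPoly P e) e * linv)) = 1)
    (x : AdjoinRoot (KRR.extPoly P e)) :
    (1 : R) ⊗ₜ[ℤ] adams P j (f x) =
      gR R f ((j : R ⊗[ℤ] AdjoinRoot (KRR.extPoly P e)) * w * ((1 : R) ⊗ₜ[ℤ] adams Pe j x)) := by
  haveI : NeZero j := ⟨by omega⟩
  have hmonic := extPoly_monic P e
  have hdeg := natDegree_extPoly P e r hr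
  have hm : (P.aug e).toNat = r + 1 := by rw [hr]; rfl
  have hf0 : f 1 = 1 := by
    have := hf 0 (Nat.zero_le _)
    rw [pow_zero, sigma_zero] at this
    exact this
  have hfn := functional_root_inv_pow e he r hr f hf linv hlinv
  have hε : IsUnit (epsR e R (r + 1)) := by
    have h1 := P.isUnit_lam e he
    rw [hm] at h1
    exact h1.map (incR R K)
  have harr := fun i hi => arr_generic R hmonic r hdeg linv hlinv j (epsR e R) hε
    (evB_dPoly P e R r hr linv hlinv) f hf0 hfn w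
    (by rw [evB_thetaPoly P e R Pe hext hline hsplit r hr linv hlinv j]; exact hw) i hi
  set c : ℕ → K := fun n => gk hmonic r n x with hc
  have hx := sum_gk hmonic r hdeg linv hlinv x
  have hfx : f x = c 0 := by
    conv_lhs => rw [hx]
    rw [map_sum, Finset.sum_eq_single 0]
    · rw [pow_zero, mul_one, ← AdjoinRoot.algebraMap_eq, ← mul_one (algebraMap _ _ _),
        ← Algebra.smul_def, map_smul, hf0, smul_eq_mul, mul_one]
    · intro n hn hn0
      rw [Finset.mem_range] at hn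
      rw [← AdjoinRoot.algebraMap_eq, ← Algebra.smul_def, map_smul,
        hfn n (by omega) (by omega), smul_zero]
    · intro h; exact absurd (Finset.mem_range.2 (by omega)) h
  have hψ : adams Pe j x = ∑ n ∈ Finset.range (r + 1),
      AdjoinRoot.of (KRR.extPoly P e) (adams P j (c n)) * linv ^ (n * j) := by
    conv_lhs => rw [hx]
    rw [← adamsRingHom_apply hsplit, map_sum]
    apply Finset.sum_congr rfl
    intro n _
    rw [map_mul, map_pow, adamsRingHom_apply, adamsRingHom_apply,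
      ← isExtension_map_adams hext, adams_linv P e Pe hline hsplit linv hlinv, ← pow_mul,
      mul_comm j n]
  have h3 : (j : R ⊗[ℤ] AdjoinRoot (KRR.extPoly P e)) * w * ((1 : R) ⊗ₜ[ℤ] adams Pe j x) =
      ∑ n ∈ Finset.range (r + 1), ofR R ((1 : R) ⊗ₜ[ℤ] adams P j (c n)) *
        ((j : R ⊗[ℤ] AdjoinRoot (KRR.extPoly P e)) * w * ((1 : R) ⊗ₜ[ℤ] (linv ^ (n * j)))) := by
    rw [hψ, TensorProduct.tmul_sum, Finset.mul_sum]
    apply Finset.sum_congr rfl
    intro n _
    rw [ofR_tmul, AdjoinRoot.algebraMap_eq]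
    have : (1 : R) ⊗ₜ[ℤ] (AdjoinRoot.of (KRR.extPoly P e) (adams P j (c n)) * linv ^ (n * j)) =
        ((1 : R) ⊗ₜ[ℤ] AdjoinRoot.of (KRR.extPoly P e) (adams P j (c n))) *
          ((1 : R) ⊗ₜ[ℤ] (linv ^ (n * j))) := by
      rw [Algebra.TensorProduct.tmul_mul_tmul, one_mul]
    rw [this]; ring
  rw [h3, map_sum, hfx, Finset.sum_eq_single 0]
  · rw [gR_ofR_mul, harr 0 (Nat.zero_le _), if_pos rfl, mul_one]
  · intro n hn hn0
    rw [Finset.mem_range] at hn
    rw [gR_ofR_mul, harr n (by omega), if_neg hn0, mul_zero]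
  · intro h; exact absurd (Finset.mem_range.2 (by omega)) h

/-- Bott's class of `e ℓ⁻¹` becomes invertible once `j` is -/
theorem arr_part1 (r : ℕ) (hr : P.aug e = r + 1)
    (hext : IsExtension P Pe (AdjoinRoot.of (KRR.extPoly P e)))
    (hline : Pe.IsLine (AdjoinRoot.root (KRR.extPoly P e)))
    (hsplit : HasSplitting (AdjoinRoot (KRR.extPoly P e)) Pe)
    (N : ℕ) (hN : gammaFiltration Pe N = ⊥)
    (linv : AdjoinRoot (KRR.extPoly P e))
    (hlinv : linv * AdjoinRoot.root (KRR.extPoly P e) = 1) (j : ℕ) (hjR : IsUnit (j : R)) :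
    ∃ w : R ⊗[ℤ] AdjoinRoot (KRR.extPoly P e),
      w * ((1 : R) ⊗ₜ[ℤ] KRR.bott Pe j (AdjoinRoot.of (KRR.extPoly P e) e * linv)) = 1 := by
  have haug : Pe.aug (AdjoinRoot.of (KRR.extPoly P e) e * linv) = ((r + 1 : ℕ) : ℤ) := by
    rw [map_mul, aug_linv P e Pe hline linv hlinv, mul_one, hext.aug_comp, hr]
    push_cast; rfl
  have h1 := aug_bott hsplit j _ (r + 1) haug
  set θ := KRR.bott Pe j (AdjoinRoot.of (KRR.extPoly P e) e * linv) with hθ
  set y := θ - (j : AdjoinRoot (KRR.extPoly P e)) ^ (r + 1) with hy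
  have hy0 : Pe.aug y = 0 := by
    rw [hy, map_sub, h1, map_pow, map_natCast, sub_self]
  have hy1 := mem_gammaFiltration_one Pe y hy0
  have hy2 := pow_mem_gammaFiltration Pe hy1 N
  rw [one_mul, hN, AddSubgroup.mem_bot] at hy2
  have hnil : IsNilpotent ((1 : R) ⊗ₜ[ℤ] y : R ⊗[ℤ] AdjoinRoot (KRR.extPoly P e)) :=
    ⟨N, by rw [Algebra.TensorProduct.tmul_pow, one_pow, hy2, TensorProduct.tmul_zero]⟩
  have hu : IsUnit ((1 : R) ⊗ₜ[ℤ] ((j : AdjoinRoot (KRR.extPoly P e)) ^ (r + 1)) :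
      R ⊗[ℤ] AdjoinRoot (KRR.extPoly P e)) := by
    have h2 : ((1 : R) ⊗ₜ[ℤ] ((j : AdjoinRoot (KRR.extPoly P e)) ^ (r + 1)) :
        R ⊗[ℤ] AdjoinRoot (KRR.extPoly P e)) =
        (Algebra.TensorProduct.includeLeft (R := ℤ) (S := ℤ) (A := R)
          (B := AdjoinRoot (KRR.extPoly P e))) ((j : R) ^ (r + 1)) := by
      rw [Algebra.TensorProduct.includeLeft_apply, ← Nat.cast_pow, ← Nat.cast_pow,
        ← Algebra.TensorProduct.natCast_def', Algebra.TensorProduct.natCast_def]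
    rw [h2]
    exact (hjR.pow _).map _
  have hθ2 : (1 : R) ⊗ₜ[ℤ] θ = ((1 : R) ⊗ₜ[ℤ] ((j : AdjoinRoot (KRR.extPoly P e)) ^ (r + 1)) :
      R ⊗[ℤ] AdjoinRoot (KRR.extPoly P e)) + (1 : R) ⊗ₜ[ℤ] y := by
    rw [← TensorProduct.tmul_add, hy, add_sub_cancel]
  have hunit := hnil.isUnit_add_left_of_commute hu (Commute.all _ _)
  rw [← hθ2] at hunit
  obtain ⟨w, hw⟩ := hunit.exists_left_inv
  exact ⟨w, hw⟩

end Ext

end Groth.Agent.Lib.H6xARR
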