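import Mathlib

set_option autoImplicit false

/-! Topological bases of `k⟦X⟧` and continuous operators: an abstract computation of
`ker D^(p-1) / im D` for an operator acting as a weighted shift on a topological basis. -/

namespace Groth.Agent.Lib.H6xASCover

open PowerSeries

variable {k : Type*} [Field k]

section basis

variable (b : ℕ → k⟦X⟧)

/-- the infinite linear combination `∑ c_v b_v` -/
noncomputable def Phi : (ℕ → k) →ₗ[k] k⟦X⟧ where
  toFun c := PowerSeries.mk fun i => ∑ v ∈ Finset.range (i + 1), c v * coeff i (b v)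
  map_add' c c' := by
    ext i
    simp [add_mul, Finset.sum_add_distrib]
  map_smul' a c := by
    ext i
    simp [Finset.mul_sum, mul_assoc]

theorem coeff_Phi (c : ℕ → k) (i : ℕ) :
    coeff i (Phi b c) = ∑ v ∈ Finset.range (i + 1), c v * coeff i (b v) := by
  simp [Phi]

theorem Phi_low (c : ℕ → k) (M : ℕ) (hc : ∀ v < M, c v = 0) :
    ∀ i < M, coeff i (Phi b c) = 0 := by
  intro i hi
  rw [coeff_Phi]
  refine Finset.sum_eq_zero fun v hv => ?_
  rw [hc v (by rw [Finset.mem_range] at hv; omega), zero_mul]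

variable (hlow : ∀ v i, i < v → coeff i (b v) = 0)

include hlow in
theorem Phi_single (v : ℕ) : Phi b (Pi.single v 1) = b v := by
  ext i
  rw [coeff_Phi]
  by_cases hvi : v ≤ i
  · rw [Finset.sum_eq_single v]
    · simp
    · intro v' _ hne
      simp [hne]
    · intro hv
      exfalso
      apply hv
      rw [Finset.mem_range]; omega
  · rw [hlow v i (by omega)]
    refine Finset.sum_eq_zero fun v' hv' => ?_
    have : v' ≠ v := by
      rw [Finset.mem_range] at hv'; omega
    simp [this]

variable (hdiag : ∀ v, coeff v (b v) ≠ 0)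

include hdiag in
theorem Phi_injective : Function.Injective (Phi b) := by
  rw [← LinearMap.ker_eq_bot, LinearMap.ker_eq_bot']
  intro c hc
  funext i
  induction i using Nat.strong_induction_on with
  | _ i ih =>
    have h1 : coeff i (Phi b c) = 0 := by rw [hc]; simp
    rw [coeff_Phi, Finset.sum_range_succ] at h1
    have h2 : ∑ v ∈ Finset.range i, c v * coeff i (b v) = 0 :=
      Finset.sum_eq_zero fun v hv => by
        rw [ih v (Finset.mem_range.mp hv)]; simp
    rw [h2, zero_add] at h1
    exact (mul_eq_zero.mp h1).resolve_right (hdiag i)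

/-- coordinates with respect to the topological basis -/
noncomputable def coords (h : k⟦X⟧) : ℕ → k
  | i => (coeff i h - ∑ v : Fin i, coords h v.1 * coeff i (b v.1)) / coeff i (b i)
termination_by i => i
decreasing_by exact v.2

include hdiag in
theorem Phi_coords (h : k⟦X⟧) : Phi b (coords b h) = h := by
  ext i
  rw [coeff_Phi, Finset.sum_range_succ, Finset.sum_range]
  conv_lhs => rw [coords]
  field_simp [hdiag i]
  ring

include hdiag in
theorem Phi_surjective : Function.Surjective (Phi b) := fun h => ⟨coords b h, Phi_coords b hdiag h⟩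

/-- the linear equivalence `(ℕ → k) ≃ k⟦X⟧` attached to a topological basis -/
noncomputable def PhiEquiv : (ℕ → k) ≃ₗ[k] k⟦X⟧ :=
  LinearEquiv.ofBijective (Phi b) ⟨Phi_injective b hdiag, Phi_surjective b hdiag⟩

theorem PhiEquiv_apply (c : ℕ → k) : PhiEquiv b hdiag c = Phi b c := rfl

end basis

/-- two continuous linear maps on `ℕ → k` which agree on the unit vectors agree. -/
theorem eq_of_continuous (F G : (ℕ → k) →ₗ[k] k⟦X⟧)
    (hF : ∀ (M : ℕ) (c : ℕ → k), (∀ v < M, c v = 0) → ∀ i < M, coeff i (F c) = 0)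
    (hG : ∀ (M : ℕ) (c : ℕ → k), (∀ v < M, c v = 0) → ∀ i < M, coeff i (G c) = 0)
    (h : ∀ v, F (Pi.single v 1) = G (Pi.single v 1)) : F = G := by
  refine LinearMap.ext fun c => ?_
  ext i
  obtain ⟨c₁, hc₁⟩ : ∃ c₁ : ℕ → k, c₁ = fun v => if v < i + 1 then c v else 0 := ⟨_, rfl⟩
  obtain ⟨c₂, hc₂⟩ : ∃ c₂ : ℕ → k, c₂ = fun v => if v < i + 1 then 0 else c v := ⟨_, rfl⟩
  have hsum : c = c₁ + c₂ := by
    funext v
    rw [hc₁, hc₂]
    simp only [Pi.add_apply]
    split_ifs <;> simp
  have hc₁' : c₁ = ∑ v ∈ Finset.range (i + 1), c v • (Pi.single v 1 : ℕ → k) := by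
    funext w
    rw [hc₁, Finset.sum_apply]
    simp only [Pi.smul_apply, Pi.single_apply, smul_eq_mul, mul_ite, mul_one, mul_zero]
    rw [Finset.sum_ite_eq]
    simp [Finset.mem_range]
  have e1 : F c₁ = G c₁ := by
    rw [hc₁', map_sum, map_sum]
    refine Finset.sum_congr rfl fun v _ => ?_
    rw [map_smul, map_smul, h v]
  have e2 : coeff i (F c₂) = 0 := hF (i + 1) c₂ (by intro v hv; rw [hc₂]; simp [hv]) i (by omega)
  have e3 : coeff i (G c₂) = 0 := hG (i + 1) c₂ (by intro v hv; rw [hc₂]; simp [hv]) i (by omega)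
  rw [hsum, map_add, map_add, map_add, map_add, e1, e2, e3]

section shift

variable (n p : ℕ) (L : ℕ → ℕ)

/-- the weighted shift operator on coordinate sequences -/
def S : (ℕ → k) →ₗ[k] (ℕ → k) where
  toFun c v := if n ≤ v ∧ L v ≠ p - 1 then c (v - n) else 0
  map_add' c c' := by
    funext v
    simp only [Pi.add_apply]
    split_ifs <;> simp
  map_smul' a c := by
    funext v
    simp only [Pi.smul_apply, RingHom.id_apply, smul_eq_mul]
    split_ifs <;> simp

theorem S_apply (c : ℕ → k) (v : ℕ) :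
    S n p L c v = if n ≤ v ∧ L v ≠ p - 1 then c (v - n) else 0 := rfl

variable (hL : ∀ v, L (v + n) = if L v = 0 then p - 1 else L v - 1) (hLp : ∀ v, L v < p)

include hL hLp in
theorem S_pow_apply (j : ℕ) (c : ℕ → k) (v : ℕ) :
    (S n p L ^ j) c v = if n * j ≤ v ∧ L v + j ≤ p - 1 then c (v - n * j) else 0 := by
  induction j generalizing v with
  | zero =>
    have := hLp v
    rw [if_pos ⟨by omega, by omega⟩]
    simp
  | succ j ih =>
    rw [pow_succ', Module.End.mul_apply, S_apply]
    by_cases hnv : n ≤ v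
    · have h1 := hL (v - n)
      rw [Nat.sub_add_cancel hnv] at h1
      have h2 := hLp (v - n)
      have h3 := hLp v
      rw [ih (v - n), Nat.mul_succ]
      by_cases h0 : L (v - n) = 0
      · rw [if_pos h0] at h1
        rw [if_neg (by omega), if_neg (by omega)]
      · rw [if_neg h0] at h1
        by_cases h4 : n * j ≤ v - n ∧ L (v - n) + j ≤ p - 1
        · rw [if_pos ⟨hnv, by omega⟩, if_pos h4, if_pos ⟨by omega, by omega⟩]
          congr 1
          omega
        · rw [if_neg h4, ite_self, if_neg (by omega)]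
    · rw [if_neg (by omega), Nat.mul_succ, if_neg (by omega)]

include hL hLp in
theorem L_shift (v j : ℕ) : ∃ q, L (v + n * j) + j = L v + p * q := by
  induction j with
  | zero => exact ⟨0, by simp⟩
  | succ j ih =>
    obtain ⟨q, hq⟩ := ih
    have h1 := hL (v + n * j)
    have h2 := hLp (v + n * j)
    rw [Nat.mul_succ, ← add_assoc v]
    by_cases h0 : L (v + n * j) = 0
    · rw [if_pos h0] at h1
      exact ⟨q + 1, by rw [h1, Nat.mul_succ]; omega⟩
    · rw [if_neg h0] at h1
      exact ⟨q, by rw [h1]; omega⟩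

include hL hLp in
theorem L_shift_top (v : ℕ) : L (v + n * (p - 1)) = 0 ↔ L v = p - 1 := by
  obtain ⟨q, hq⟩ := L_shift n p L hL hLp v (p - 1)
  have h1 := hLp v
  have h2 := hLp (v + n * (p - 1))
  constructor
  · intro h
    rw [h, zero_add] at hq
    rcases q with _ | q
    · omega
    · exfalso
      rw [Nat.mul_succ] at hq
      have : 0 ≤ p * q := Nat.zero_le _
      omega
  · intro h
    rw [h] at hq
    rcases q with _ | q
    · omega
    · exfalso
      rw [Nat.mul_succ] at hq
      have : 0 ≤ p * q := Nat.zero_le _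
      omega

include hL hLp in
theorem S_pow_top_eq_zero_iff (c : ℕ → k) :
    (S n p L ^ (p - 1)) c = 0 ↔ ∀ v, L v = p - 1 → c v = 0 := by
  constructor
  · intro h v hv
    have h1 := congrFun h (v + n * (p - 1))
    rw [S_pow_apply n p L hL hLp] at h1
    have h2 := (L_shift_top n p L hL hLp v).mpr hv
    rw [if_pos ⟨by omega, by omega⟩, Nat.add_sub_cancel] at h1
    exact h1
  · intro h
    funext v
    rw [S_pow_apply n p L hL hLp]
    by_cases h1 : n * (p - 1) ≤ v ∧ L v + (p - 1) ≤ p - 1
    · rw [if_pos h1]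
      apply h
      rw [← L_shift_top n p L hL hLp, Nat.sub_add_cancel h1.1]
      omega
    · rw [if_neg h1]
      rfl

theorem mem_range_S_iff (c : ℕ → k) :
    c ∈ LinearMap.range (S (k := k) n p L) ↔ ∀ v, (v < n ∨ L v = p - 1) → c v = 0 := by
  constructor
  · rintro ⟨c', rfl⟩ v hv
    rw [S_apply, if_neg]
    rintro ⟨h1, h2⟩
    omega
  · intro h
    refine ⟨fun v => c (v + n), ?_⟩
    funext v
    rw [S_apply]
    by_cases h1 : n ≤ v ∧ L v ≠ p - 1
    · rw [if_pos h1, Nat.sub_add_cancel h1.1]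
    · rw [if_neg h1, h v (by omega)]

theorem S_single (v : ℕ) :
    S (k := k) n p L (Pi.single v 1) =
      if L (v + n) ≠ p - 1 then Pi.single (v + n) 1 else 0 := by
  funext v'
  rw [S_apply]
  by_cases hv' : v' = v + n
  · subst hv'
    by_cases h1 : L (v + n) ≠ p - 1
    · rw [if_pos ⟨by omega, h1⟩, if_pos h1]
      simp
    · rw [if_neg (by tauto), if_neg h1]
      rfl
  · have e1 : (Pi.single (v + n) 1 : ℕ → k) v' = 0 := by simp [hv']
    have e2 : n ≤ v' → (Pi.single v 1 : ℕ → k) (v' - n) = 0 := by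
      intro h
      have : v' - n ≠ v := by omega
      simp [this]
    by_cases h1 : n ≤ v' ∧ L v' ≠ p - 1
    · rw [if_pos h1, e2 h1.1]
      split_ifs
      · exact e1.symm
      · rfl
    · rw [if_neg h1]
      split_ifs
      · exact e1.symm
      · rfl

end shift

section operator

variable (b : ℕ → k⟦X⟧) (hlow : ∀ v i, i < v → coeff i (b v) = 0)
  (hdiag : ∀ v, coeff v (b v) ≠ 0)
  (n p : ℕ) (L : ℕ → ℕ)
  (hL : ∀ v, L (v + n) = if L v = 0 then p - 1 else L v - 1) (hLp : ∀ v, L v < p)
  (T : k⟦X⟧ →ₗ[k] k⟦X⟧)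
  (hT : ∀ (M : ℕ) (h : k⟦X⟧), (∀ i < M, coeff i h = 0) → ∀ i < M, coeff i (T h) = 0)
  (hTb : ∀ v, T (b v) = b v + if 1 ≤ L v then b (v + n) else 0)

include hlow hL hLp hT hTb in
theorem D_comp_Phi : (T - 1) ∘ₗ Phi b = Phi b ∘ₗ S n p L := by
  apply eq_of_continuous
  · intro M c hc i hi
    simp only [LinearMap.comp_apply, LinearMap.sub_apply, Module.End.one_apply, map_sub]
    rw [hT M _ (Phi_low b c M hc) i hi, Phi_low b c M hc i hi, sub_zero]
  · intro M c hc i hi
    simp only [LinearMap.comp_apply]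
    apply Phi_low b _ M _ i hi
    intro v hv
    rw [S_apply]
    split_ifs with h
    · exact hc _ (by omega)
    · rfl
  · intro v
    simp only [LinearMap.comp_apply, LinearMap.sub_apply, Module.End.one_apply]
    rw [Phi_single b hlow, hTb, S_single, add_sub_cancel_left]
    have h1 := hL v
    have h2 := hLp v
    by_cases h0 : L v = 0
    · rw [if_pos h0] at h1
      rw [if_neg (by omega), if_neg (by omega), map_zero]
    · rw [if_neg h0] at h1
      rw [if_pos (by omega), if_pos (by omega), Phi_single b hlow]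

include hlow hL hLp hT hTb in
theorem D_pow_Phi (j : ℕ) (c : ℕ → k) :
    ((T - 1) ^ j) (Phi b c) = Phi b ((S n p L ^ j) c) := by
  induction j generalizing c with
  | zero => simp
  | succ j ih =>
    rw [pow_succ, pow_succ, Module.End.mul_apply, Module.End.mul_apply]
    have := LinearMap.congr_fun (D_comp_Phi b hlow n p L hL hLp T hT hTb) c
    simp only [LinearMap.comp_apply] at this
    rw [this, ih]

include hlow hdiag hL hLp hT hTb in
theorem exists_proj :
    ∃ f : LinearMap.ker ((T - 1) ^ (p - 1)) →ₗ[k] ({v : ℕ // v < n ∧ L v ≠ p - 1} → k),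
      Function.Surjective f ∧
      LinearMap.ker f = Submodule.comap (LinearMap.ker ((T - 1) ^ (p - 1))).subtype
        (LinearMap.range (T - 1)) := by
  have hker : ∀ c : ℕ → k, Phi b c ∈ LinearMap.ker ((T - 1) ^ (p - 1)) ↔
      ∀ v, L v = p - 1 → c v = 0 := by
    intro c
    rw [LinearMap.mem_ker, D_pow_Phi b hlow n p L hL hLp T hT hTb,
      ← S_pow_top_eq_zero_iff n p L hL hLp]
    constructor
    · intro h
      apply Phi_injective b hdiag
      rw [h, map_zero]
    · intro h
      rw [h, map_zero]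
  have hrange : ∀ c : ℕ → k, Phi b c ∈ LinearMap.range (T - 1) ↔
      ∀ v, (v < n ∨ L v = p - 1) → c v = 0 := by
    intro c
    rw [← mem_range_S_iff]
    have hcomp := D_comp_Phi b hlow n p L hL hLp T hT hTb
    constructor
    · rintro ⟨y, hy⟩
      obtain ⟨c', rfl⟩ := Phi_surjective b hdiag y
      refine ⟨c', ?_⟩
      apply Phi_injective b hdiag
      rw [← hy]
      exact (LinearMap.congr_fun hcomp c').symm
    · rintro ⟨c', rfl⟩
      exact ⟨Phi b c', LinearMap.congr_fun hcomp c'⟩
  refine ⟨(LinearMap.funLeft k k (Subtype.val : {v : ℕ // v < n ∧ L v ≠ p - 1} → ℕ)) ∘ₗ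
    (PhiEquiv b hdiag).symm.toLinearMap ∘ₗ (LinearMap.ker ((T - 1) ^ (p - 1))).subtype, ?_, ?_⟩
  · intro d
    obtain ⟨c, hc⟩ : ∃ c : ℕ → k, c = fun v => if h : v < n ∧ L v ≠ p - 1 then d ⟨v, h⟩ else 0 :=
      ⟨_, rfl⟩
    have hmem : Phi b c ∈ LinearMap.ker ((T - 1) ^ (p - 1)) := by
      rw [hker]
      intro v hv
      rw [hc]
      simp only
      rw [dif_neg (by tauto)]
    refine ⟨⟨Phi b c, hmem⟩, ?_⟩
    funext v
    simp only [LinearMap.comp_apply, Submodule.subtype_apply, LinearEquiv.coe_coe,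
      LinearMap.funLeft_apply]
    rw [← PhiEquiv_apply b hdiag, LinearEquiv.symm_apply_apply, hc]
    simp only
    rw [dif_pos v.2]
  · ext x
    obtain ⟨x, hx⟩ := x
    obtain ⟨c, rfl⟩ := Phi_surjective b hdiag x
    rw [LinearMap.mem_ker, Submodule.mem_comap, Submodule.subtype_apply, hrange]
    have hx' := (hker c).mp hx
    simp only [LinearMap.comp_apply, Submodule.subtype_apply, LinearEquiv.coe_coe]
    rw [← PhiEquiv_apply b hdiag, LinearEquiv.symm_apply_apply]
    constructor
    · intro h v hv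
      by_cases h1 : L v = p - 1
      · exact hx' v h1
      · have := congrFun h ⟨v, by tauto, h1⟩
        simpa [LinearMap.funLeft_apply] using this
    · intro h
      funext v
      simp only [LinearMap.funLeft_apply, Pi.zero_apply]
      exact h v.1 (Or.inl v.2.1)

include hlow hdiag hL hLp hT hTb in
theorem Phi_mem_ker_iff (c : ℕ → k) : Phi b c ∈ LinearMap.ker ((T - 1) ^ (p - 1)) ↔
    ∀ v, L v = p - 1 → c v = 0 := by
  rw [LinearMap.mem_ker, D_pow_Phi b hlow n p L hL hLp T hT hTb,
    ← S_pow_top_eq_zero_iff n p L hL hLp]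
  constructor
  · intro h
    apply Phi_injective b hdiag
    rw [h, map_zero]
  · intro h
    rw [h, map_zero]

include hlow hdiag hL hLp hT hTb in
theorem Phi_mem_range_iff (c : ℕ → k) : Phi b c ∈ LinearMap.range (T - 1) ↔
    ∀ v, (v < n ∨ L v = p - 1) → c v = 0 := by
  rw [← mem_range_S_iff]
  have hcomp := D_comp_Phi b hlow n p L hL hLp T hT hTb
  constructor
  · rintro ⟨y, hy⟩
    obtain ⟨c', rfl⟩ := Phi_surjective b hdiag y
    refine ⟨c', ?_⟩
    apply Phi_injective b hdiag
    rw [← hy]
    exact (LinearMap.congr_fun hcomp c').symm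
  · rintro ⟨c', rfl⟩
    exact ⟨Phi b c', LinearMap.congr_fun hcomp c'⟩

end operator

/-- if the basis is monomial modulo `X ^ M`, coefficients below `M` are read off directly -/
theorem coeff_Phi_of_low (b : ℕ → k⟦X⟧) (M : ℕ) (β : ℕ → k)
    (hb : ∀ v i, i < M → coeff i (b v) = if i = v then β v else 0) (c : ℕ → k) (i : ℕ)
    (hi : i < M) : coeff i (Phi b c) = c i * β i := by
  rw [coeff_Phi, Finset.sum_eq_single i]
  · rw [hb i i hi, if_pos rfl]
  · intro v _ hv
    rw [hb v i hi, if_neg (Ne.symm hv), mul_zero]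
  · intro h
    exfalso
    apply h
    rw [Finset.mem_range]
    omega

end Groth.Agent.Lib.H6xASCover
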