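import Mathlib
import Groth.Agent.Lib.H6xASCoverA

set_option autoImplicit false

/-! The automorphism `X ↦ X * u` of `k⟦X⟧` with `u ^ n * (1 + X ^ n) = 1`, and a topological
basis on which the twisted action `h ↦ u ^ a * h(X * u)` is a weighted shift. -/

namespace Groth.Agent.Lib.H6xASCover

open PowerSeries

variable {k : Type*} [Field k]

section sigma

variable (u : k⟦X⟧)

theorem hasSubst_X_mul : HasSubst (X * u) :=
  HasSubst.of_constantCoeff_zero' (by simp)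

/-- the substitution `X ↦ X * u` -/
noncomputable def sigma : k⟦X⟧ →ₐ[k] k⟦X⟧ := substAlgHom (hasSubst_X_mul u)

theorem sigma_apply (h : k⟦X⟧) : sigma u h = subst (X * u) h := by
  rw [sigma, coe_substAlgHom]

theorem sigma_X : sigma u X = X * u := by
  rw [sigma_apply, subst_X (hasSubst_X_mul u)]

theorem sigma_C (c : k) : sigma u (C c) = C c := by
  rw [C_eq_algebraMap]
  exact (sigma u).commutes c

theorem constantCoeff_sigma (h : k⟦X⟧) : constantCoeff (sigma u h) = constantCoeff h := by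
  conv_lhs => rw [eq_X_mul_shift_add_const h]
  rw [map_add, map_mul, sigma_X, sigma_C]
  simp

theorem sigma_low (c : k⟦X⟧) (M : ℕ) (h : k⟦X⟧) (hh : ∀ i < M, coeff i h = 0) :
    ∀ i < M, coeff i (c * sigma u h) = 0 := by
  rw [← X_pow_dvd_iff] at hh ⊢
  obtain ⟨g, rfl⟩ := hh
  rw [map_mul, map_pow, sigma_X, mul_pow]
  exact ⟨c * (u ^ M * sigma u g), by ring⟩

/-- the iterates `uI i = u * σ(u) * ... * σ^(i-1)(u)` -/
noncomputable def uI : ℕ → k⟦X⟧
  | 0 => 1
  | i + 1 => u * sigma u (uI i)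

theorem uI_zero : uI u 0 = 1 := rfl

theorem uI_succ (i : ℕ) : uI u (i + 1) = u * sigma u (uI u i) := rfl

variable (hu1 : constantCoeff u = 1)

include hu1 in
theorem constantCoeff_uI (i : ℕ) : constantCoeff (uI u i) = 1 := by
  induction i with
  | zero => simp [uI_zero]
  | succ i ih => rw [uI_succ, map_mul, constantCoeff_sigma, ih, hu1, one_mul]

variable (n : ℕ) (hun : u ^ n * (1 + X ^ n) = 1)

include hun in
theorem uI_pow (i : ℕ) : uI u i ^ n * (1 + (i : k⟦X⟧) * X ^ n) = 1 := by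
  induction i with
  | zero => simp [uI_zero]
  | succ i ih =>
    have h1 := congrArg (sigma u) ih
    rw [map_mul, map_pow, map_add, map_mul, map_pow, sigma_X, map_one, map_natCast, mul_pow] at h1
    rw [uI_succ, mul_pow]
    push_cast
    linear_combination h1 + (sigma u (uI u i)) ^ n * hun

end sigma

section roots

variable (p : ℕ) [Fact p.Prime] [CharP k p]

theorem eq_one_of_pow_eq_one (n : ℕ) (hpn : ¬ p ∣ n) (y : k⟦X⟧) (hy1 : constantCoeff y = 1)
    (hyn : y ^ n = 1) : y = 1 := by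
  have h1 : (∑ i ∈ Finset.range n, y ^ i) * (y - 1) = 0 := by
    rw [geom_sum_mul, hyn, sub_self]
  have h2 : (∑ i ∈ Finset.range n, y ^ i) ≠ 0 := by
    intro h
    have := congrArg constantCoeff h
    rw [map_sum] at this
    simp only [map_pow, hy1, one_pow, Finset.sum_const, Finset.card_range, nsmul_eq_mul, mul_one,
      map_zero] at this
    exact hpn ((CharP.cast_eq_zero_iff k p n).mp this)
  rcases mul_eq_zero.mp h1 with h | h
  · exact absurd h h2
  · exact sub_eq_zero.mp h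

variable (u : k⟦X⟧) (hu1 : constantCoeff u = 1) (n : ℕ) (hun : u ^ n * (1 + X ^ n) = 1)
  (hpn : ¬ p ∣ n)

include hu1 hun hpn in
theorem uI_p : uI u p = 1 := by
  apply eq_one_of_pow_eq_one p n hpn _ (constantCoeff_uI u hu1 p)
  have h := uI_pow u n hun p
  have h0 : ((p : ℕ) : k⟦X⟧) = 0 := by
    rw [← map_natCast (C (R := k)), CharP.cast_eq_zero, map_zero]
  rwa [h0, zero_mul, add_zero, mul_one] at h

/-- the product `w = ∏_{i<p} uI i`, a "norm-like" unit with `σ w * u ^ p = w` -/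
noncomputable def w : k⟦X⟧ := ∏ i ∈ Finset.range p, uI u i

include hu1 in
theorem constantCoeff_w : constantCoeff (w p u) = 1 := by
  rw [w, map_prod]
  exact Finset.prod_eq_one fun i _ => constantCoeff_uI u hu1 i

include hu1 hun hpn in
theorem sigma_w : sigma u (w p u) * u ^ p = w p u := by
  have h1 : sigma u (w p u) * u ^ p = ∏ i ∈ Finset.range p, uI u (i + 1) := by
    rw [w, map_prod, ← Finset.card_range p, ← Finset.prod_const, Finset.card_range,
      ← Finset.prod_mul_distrib]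
    refine Finset.prod_congr rfl fun i _ => ?_
    rw [uI_succ, mul_comm]
  rw [h1]
  have h2 := Finset.prod_range_succ (fun i => uI u i) p
  have h3 := Finset.prod_range_succ' (fun i => uI u i) p
  rw [h2, uI_p p u hu1 n hun hpn, uI_zero, mul_one, mul_one] at h3
  rw [w]
  exact h3.symm

end roots

section residue

variable (p : ℕ) [Fact p.Prime] (n : ℕ) (a : ℤ)

/-- the residue `l(v) ∈ [0, p)` with `p ∣ v + a + n * l(v)` -/
noncomputable def Lfun (v : ℕ) : ℕ :=
  ZMod.val (-((v : ZMod p) + (a : ZMod p)) * (n : ZMod p)⁻¹)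

theorem Lfun_lt (v : ℕ) : Lfun p n a v < p := ZMod.val_lt _

variable (hpn : ¬ p ∣ n)

include hpn in
theorem dvd_Lfun (v : ℕ) : (p : ℤ) ∣ v + a + n * Lfun p n a v := by
  rw [← ZMod.intCast_zmod_eq_zero_iff_dvd]
  push_cast
  rw [Lfun, ZMod.natCast_zmod_val]
  have hn : (n : ZMod p) ≠ 0 := by rwa [Ne, ZMod.natCast_eq_zero_iff]
  field_simp
  ring

include hpn in
theorem Lfun_unique (v l' : ℕ) (hl' : l' < p) (hdvd : (p : ℤ) ∣ v + a + n * l') :
    Lfun p n a v = l' := by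
  rw [← ZMod.intCast_zmod_eq_zero_iff_dvd] at hdvd
  push_cast at hdvd
  have hn : (n : ZMod p) ≠ 0 := by rwa [Ne, ZMod.natCast_eq_zero_iff]
  have : (l' : ZMod p) = -((v : ZMod p) + a) * (n : ZMod p)⁻¹ := by
    field_simp
    linear_combination hdvd
  rw [Lfun, ← this, ZMod.val_natCast_of_lt hl']

include hpn in
theorem Lfun_shift (v : ℕ) :
    Lfun p n a (v + n) = if Lfun p n a v = 0 then p - 1 else Lfun p n a v - 1 := by
  have hp1 : 1 ≤ p := (Fact.out : p.Prime).one_lt.le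
  have h1 := dvd_Lfun p n a hpn v
  by_cases h0 : Lfun p n a v = 0
  · rw [if_pos h0]
    apply Lfun_unique p n a hpn _ _ (by omega)
    have : (((v + n : ℕ) : ℤ) + a + n * ((p - 1 : ℕ) : ℤ)) =
        (v + a + n * (Lfun p n a v : ℤ)) + n * p := by
      rw [h0]
      push_cast [Nat.cast_sub hp1]
      ring
    rw [this]
    exact dvd_add h1 (dvd_mul_left _ _)
  · rw [if_neg h0]
    have h2 := Lfun_lt p n a v
    apply Lfun_unique p n a hpn _ _ (by omega)
    have : (((v + n : ℕ) : ℤ) + a + n * ((Lfun p n a v - 1 : ℕ) : ℤ)) =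
        (v + a + n * (Lfun p n a v : ℤ)) := by
      push_cast [Nat.cast_sub (Nat.one_le_iff_ne_zero.mpr h0)]
      ring
    rw [this]
    exact h1

/-- the quotient `m(v) = (v + a + n * l(v)) / p` -/
noncomputable def mfun (v : ℕ) : ℤ := (v + a + n * Lfun p n a v) / p

include hpn in
theorem mfun_spec (v : ℕ) : (p : ℤ) * mfun p n a v = v + a + n * Lfun p n a v :=
  Int.mul_ediv_cancel' (dvd_Lfun p n a hpn v)

include hpn in
theorem mfun_shift (v : ℕ) (h : 1 ≤ Lfun p n a v) : mfun p n a (v + n) = mfun p n a v := by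
  rw [mfun, mfun, Lfun_shift p n a hpn, if_neg (by omega)]
  congr 1
  push_cast [Nat.cast_sub h]
  ring

include hpn in
theorem Lfun_eq_top_iff (v : ℕ) : Lfun p n a v = p - 1 ↔ (p : ℤ) ∣ v + a - n := by
  have hp1 : 1 ≤ p := (Fact.out : p.Prime).one_lt.le
  have e : ((v : ℤ) + a + n * ((p - 1 : ℕ) : ℤ)) = (v + a - n) + n * p := by
    push_cast [Nat.cast_sub hp1]
    ring
  constructor
  · intro h
    have h1 := dvd_Lfun p n a hpn v
    rw [h, e] at h1
    exact (dvd_add_left (dvd_mul_left _ _)).mp h1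
  · intro h
    apply Lfun_unique p n a hpn _ _ (by omega)
    rw [e]
    exact dvd_add h (dvd_mul_left _ _)

end residue

section basis

variable (p : ℕ) [Fact p.Prime] [CharP k p] (n : ℕ) (a : ℤ) (U W : k⟦X⟧ˣ)

/-- the polynomial `∏_{i<l} (1 - i X^n)` -/
noncomputable def Ppoly (l : ℕ) : k⟦X⟧ := ∏ i ∈ Finset.range l, (1 - C (i : k) * X ^ n)

theorem Ppoly_succ (l : ℕ) : Ppoly (k := k) n (l + 1) = Ppoly n l * (1 - C (l : k) * X ^ n) := by
  rw [Ppoly, Finset.prod_range_succ, ← Ppoly]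

theorem constantCoeff_Ppoly (hn : 0 < n) (l : ℕ) : constantCoeff (Ppoly (k := k) n l) = 1 := by
  rw [Ppoly, map_prod]
  refine Finset.prod_eq_one fun i _ => ?_
  simp [hn.ne']

theorem Ppoly_shift (l : ℕ) :
    ∏ i ∈ Finset.range (l + 1), (1 + X ^ n - C (i : k) * X ^ n) =
      Ppoly (k := k) n (l + 1) + C ((l + 1 : ℕ) : k) * X ^ n * Ppoly n l := by
  rw [Finset.prod_range_succ', Ppoly_succ]
  have : ∏ i ∈ Finset.range l, (1 + X ^ n - C ((i + 1 : ℕ) : k) * X ^ n) = Ppoly (k := k) n l := by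
    rw [Ppoly]
    refine Finset.prod_congr rfl fun i _ => ?_
    push_cast
    rw [map_add, map_one]
    ring
  rw [this]
  push_cast
  rw [map_add, map_one, map_zero]
  ring

/-- the topological basis adapted to the twisted action -/
noncomputable def bfun (v : ℕ) : k⟦X⟧ :=
  C (((Lfun p n a v).factorial : k)⁻¹) * Ppoly n (Lfun p n a v) *
    ((W ^ mfun p n a v : k⟦X⟧ˣ) : k⟦X⟧) * X ^ v

theorem bfun_low (v i : ℕ) (hi : i < v) : coeff i (bfun p n a W v) = 0 := by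
  rw [bfun, coeff_mul_X_pow', if_neg (by omega)]

theorem factorial_ne_zero (l : ℕ) (hl : l < p) : ((l.factorial : ℕ) : k) ≠ 0 := by
  rw [Ne, CharP.cast_eq_zero_iff k p, (Fact.out : p.Prime).dvd_factorial]
  omega

theorem bfun_diag (hn : 0 < n) (v : ℕ) : coeff v (bfun p n a W v) ≠ 0 := by
  have h1 : coeff v (bfun p n a W v) = coeff (0 + v) (bfun p n a W v) := by rw [zero_add]
  rw [h1, bfun, coeff_mul_X_pow, coeff_zero_eq_constantCoeff_apply, map_mul, map_mul,
    constantCoeff_C, constantCoeff_Ppoly n hn, mul_one]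
  refine mul_ne_zero (inv_ne_zero (factorial_ne_zero p _ (Lfun_lt p n a v))) ?_
  exact ((W ^ mfun p n a v).isUnit.map (constantCoeff (R := k))).ne_zero

variable (hpn : ¬ p ∣ n) (hun : (U : k⟦X⟧) ^ n * (1 + X ^ n) = 1)
  (hW : sigma (U : k⟦X⟧) (W : k⟦X⟧) * (U : k⟦X⟧) ^ p = W)

include hun in
theorem zpow_neg_n (l : ℕ) : ((((U ^ (-(n : ℤ))) ^ (l : ℤ) : k⟦X⟧ˣ)) : k⟦X⟧) = (1 + X ^ n) ^ l := by
  have hY : U ^ (-(n : ℤ)) = ⟨1 + X ^ n, (U : k⟦X⟧) ^ n, by rw [mul_comm]; exact hun, hun⟩ := by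
    rw [zpow_neg, zpow_natCast]
    apply inv_eq_of_mul_eq_one_right
    apply Units.ext
    simpa using hun
  rw [hY, zpow_natCast, Units.val_pow_eq_pow_val]

include hpn hW in
theorem unit_identity (v : ℕ) :
    U ^ a * (Units.map (sigma (U : k⟦X⟧) : k⟦X⟧ →* k⟦X⟧) W) ^ mfun p n a v * U ^ (v : ℤ) =
      W ^ mfun p n a v * (U ^ (-(n : ℤ))) ^ (Lfun p n a v : ℤ) := by
  obtain ⟨W', hW'⟩ : ∃ W', W' = Units.map (sigma (U : k⟦X⟧) : k⟦X⟧ →* k⟦X⟧) W := ⟨_, rfl⟩
  rw [← hW']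
  have h1 : W' * U ^ p = W := by
    apply Units.ext
    rw [hW']
    simpa using hW
  have h2 : W' = W * U ^ (-(p : ℤ)) := by
    rw [← h1, mul_assoc, zpow_neg, zpow_natCast, mul_inv_cancel, mul_one]
  have h3 : (-(p : ℤ)) * mfun p n a v = -(v + a + n * Lfun p n a v) := by
    rw [neg_mul, mfun_spec p n a hpn]
  rw [h2, mul_zpow, ← zpow_mul, ← zpow_mul, h3]
  calc U ^ a * (W ^ mfun p n a v * U ^ (-((v : ℤ) + a + n * Lfun p n a v))) * U ^ (v : ℤ)
      = W ^ mfun p n a v * (U ^ a * U ^ (-((v : ℤ) + a + n * Lfun p n a v)) * U ^ (v : ℤ)) := by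
        rw [mul_left_comm, mul_assoc, mul_assoc]
    _ = W ^ mfun p n a v * U ^ (a + -((v : ℤ) + a + n * Lfun p n a v) + v) := by
        rw [zpow_add, zpow_add]
    _ = _ := by
        congr 2
        ring

include hpn hun hW in
theorem T_bfun (v : ℕ) :
    ((U ^ a : k⟦X⟧ˣ) : k⟦X⟧) * sigma (U : k⟦X⟧) (bfun p n a W v) =
      bfun p n a W v + if 1 ≤ Lfun p n a v then bfun p n a W (v + n) else 0 := by
  obtain ⟨l, hl⟩ : ∃ l, l = Lfun p n a v := ⟨_, rfl⟩
  obtain ⟨m, hm⟩ : ∃ m, m = mfun p n a v := ⟨_, rfl⟩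
  have hlp : l < p := hl ▸ Lfun_lt p n a v
  -- step 1: apply sigma
  have e1 : sigma (U : k⟦X⟧) (bfun p n a W v) =
      C ((l.factorial : k)⁻¹) * (∏ i ∈ Finset.range l, (1 - C (i : k) * (X ^ n * (U : k⟦X⟧) ^ n))) *
        (((Units.map (sigma (U : k⟦X⟧) : k⟦X⟧ →* k⟦X⟧) W) ^ m : k⟦X⟧ˣ) : k⟦X⟧) *
        (X ^ v * ((U ^ (v : ℤ) : k⟦X⟧ˣ) : k⟦X⟧)) := by
    have hσW : sigma (U : k⟦X⟧) ((W ^ m : k⟦X⟧ˣ) : k⟦X⟧) =
        (((Units.map (sigma (U : k⟦X⟧) : k⟦X⟧ →* k⟦X⟧) W) ^ m : k⟦X⟧ˣ) : k⟦X⟧) := by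
      rw [← map_zpow, Units.coe_map]
      rfl
    have hσP : sigma (U : k⟦X⟧) (Ppoly n l) =
        ∏ i ∈ Finset.range l, (1 - C (i : k) * (X ^ n * (U : k⟦X⟧) ^ n)) := by
      rw [Ppoly, map_prod]
      refine Finset.prod_congr rfl fun i _ => ?_
      rw [map_sub, map_one, map_mul, sigma_C, map_pow, sigma_X, mul_pow]
    rw [bfun, ← hl, ← hm, map_mul, map_mul, map_mul, sigma_C, hσP, hσW, map_pow, sigma_X,
      mul_pow, zpow_natCast, Units.val_pow_eq_pow_val]
  -- step 2: the unit identity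
  have e2 : ((U ^ a : k⟦X⟧ˣ) : k⟦X⟧) *
      (((Units.map (sigma (U : k⟦X⟧) : k⟦X⟧ →* k⟦X⟧) W) ^ m : k⟦X⟧ˣ) : k⟦X⟧) *
      ((U ^ (v : ℤ) : k⟦X⟧ˣ) : k⟦X⟧) =
      ((W ^ m : k⟦X⟧ˣ) : k⟦X⟧) * (1 + X ^ n) ^ l := by
    rw [← zpow_neg_n n U hun, hl, hm, ← Units.val_mul, ← Units.val_mul, ← Units.val_mul,
      unit_identity p n a U W hpn hW]
  -- step 3: the product identity
  have e3 : (∏ i ∈ Finset.range l, (1 - C (i : k) * (X ^ n * (U : k⟦X⟧) ^ n))) * (1 + X ^ n) ^ l =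
      ∏ i ∈ Finset.range l, (1 + X ^ n - C (i : k) * X ^ n) := by
    conv_lhs => rw [← Finset.card_range l, ← Finset.prod_const, Finset.card_range]
    rw [← Finset.prod_mul_distrib]
    refine Finset.prod_congr rfl fun i _ => ?_
    linear_combination (-(C (i : k) * X ^ n)) * hun
  have e4 : ((U ^ a : k⟦X⟧ˣ) : k⟦X⟧) * sigma (U : k⟦X⟧) (bfun p n a W v) =
      C ((l.factorial : k)⁻¹) * (∏ i ∈ Finset.range l, (1 + X ^ n - C (i : k) * X ^ n)) *
        ((W ^ m : k⟦X⟧ˣ) : k⟦X⟧) * X ^ v := by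
    rw [e1, ← e3]
    linear_combination (C ((l.factorial : k)⁻¹) *
      (∏ i ∈ Finset.range l, (1 - C (i : k) * (X ^ n * (U : k⟦X⟧) ^ n))) * X ^ v) * e2
  rw [e4]
  rcases l with _ | l
  · rw [if_neg (by omega), add_zero, bfun, ← hl, ← hm]
    simp [Ppoly]
  · rw [if_pos (by omega), Ppoly_shift, bfun, bfun, mfun_shift p n a hpn v (by omega),
      Lfun_shift p n a hpn, if_neg (by omega), ← hl, ← hm, Nat.add_sub_cancel]
    have hl1 : ((l + 1 : ℕ) : k) ≠ 0 := by
      rw [Ne, CharP.cast_eq_zero_iff k p]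
      intro hdvd
      have := Nat.le_of_dvd (by omega) hdvd
      omega
    have hfac : C (((l + 1).factorial : k)⁻¹) * C ((l + 1 : ℕ) : k) = C ((l.factorial : k)⁻¹) := by
      rw [← map_mul]
      congr 1
      have := factorial_ne_zero (k := k) p l (by omega)
      rw [Nat.factorial_succ]
      push_cast at hl1 ⊢
      field_simp
    rw [← hfac, pow_add]
    ring

end basis

end Groth.Agent.Lib.H6xASCover
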