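import Mathlib
import Groth.Agent.Lib.H6xASCoverB

set_option autoImplicit false
universe u
open CategoryTheory

/-! `H¹` of a cyclic group of order `p` acting on `k⟦X⟧` through `h ↦ u ^ a * h(X * u)`. -/

namespace Groth.Agent.Lib.H6xASCover

open PowerSeries

theorem exists_H1_surj {k G : Type u} [CommRing k] [CommGroup G] [Fintype G] (A : Rep k G) (g : G)
    (hg : ∀ x, x ∈ Subgroup.zpowers g) (N' : A.V →ₗ[k] A.V) (hN : Representation.norm A.ρ = N') :
    ∃ f : LinearMap.ker N' →ₗ[k] groupCohomology.H1 A, Function.Surjective f ∧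
      LinearMap.ker f = Submodule.comap (LinearMap.ker N').subtype
        (LinearMap.range (A.ρ g - 1)) := by
  subst hN
  refine ⟨(Rep.FiniteCyclicGroup.groupCohomologyπOdd A g hg 1 (by simp)).hom, ?_, ?_⟩
  · have hepi : Epi (Rep.FiniteCyclicGroup.groupCohomologyπOdd A g hg 1 (by simp)) := inferInstance
    exact (ModuleCat.epi_iff_surjective _).mp hepi
  · ext x
    rw [LinearMap.mem_ker, Submodule.mem_comap, Submodule.subtype_apply]
    have := Rep.FiniteCyclicGroup.groupCohomologyπOdd_eq_zero_iff A g hg 1 (by simp) x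
    have h2 : (A.ρ g - 1 : A.V →ₗ[k] A.V) = (A.applyAsHom g - 𝟙 A).hom.toLinearMap := by
      ext v
      simp [Rep.sub_hom, Rep.applyAsHom_apply]
    rw [h2]
    exact this

theorem poly_geom_sum (k : Type*) [Field k] (p : ℕ) [Fact p.Prime] [CharP k p] :
    ∑ i ∈ Finset.range p, (Polynomial.X : Polynomial k) ^ i = (Polynomial.X - 1) ^ (p - 1) := by
  have hp1 : 1 ≤ p := (Fact.out : p.Prime).one_lt.le
  have hX : (Polynomial.X - 1 : Polynomial k) ≠ 0 := by
    have := Polynomial.X_sub_C_ne_zero (1 : k)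
    rwa [map_one] at this
  apply mul_right_cancel₀ hX
  rw [geom_sum_mul, ← pow_succ, Nat.sub_add_cancel hp1, sub_pow_char, one_pow]

theorem norm_eq_pow {k G : Type*} [Field k] (p : ℕ) [Fact p.Prime] [CharP k p]
    [Group G] [Fintype G] {V : Type*} [AddCommGroup V] [Module k V] (ρ : Representation k G V)
    (g : G) (hG : Nat.card G = p) (hg : ∀ x : G, x ∈ Subgroup.zpowers g) :
    Representation.norm ρ = (ρ g - 1) ^ (p - 1) := by
  classical
  have h1 : Representation.norm ρ = ∑ i ∈ Finset.range p, (ρ g) ^ i := by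
    rw [Representation.norm, ← IsCyclic.image_range_card hg, hG, Finset.sum_image]
    · refine Finset.sum_congr rfl fun i _ => ?_
      rw [map_pow]
    · have := orderOf_eq_card_of_forall_mem_zpowers hg
      rw [hG] at this
      intro i hi j hj hij
      apply pow_injOn_Iio_orderOf (x := g)
      · rw [this]; simpa using hi
      · rw [this]; simpa using hj
      · exact hij
  rw [h1]
  have h2 := congrArg (Polynomial.aeval (ρ g)) (poly_geom_sum k p)
  simpa using h2

theorem card_J (p : ℕ) [Fact p.Prime] (n : ℕ) (a : ℤ) (hpn : ¬ p ∣ n) :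
    (Nat.card {v : ℕ // v < n ∧ Lfun p n a v ≠ p - 1} : ℤ) =
      n - (a - 1) / (p : ℤ) + (a - 1 - n) / (p : ℤ) := by
  classical
  have hp0 : 0 < p := (Fact.out : p.Prime).pos
  have h1 : Nat.card {v : ℕ // v < n ∧ Lfun p n a v ≠ p - 1} =
      ((Finset.range n).filter (fun v => ¬ Lfun p n a v = p - 1)).card := by
    apply Nat.subtype_card
    intro v
    simp
  have h2 := Finset.card_filter_add_card_filter_not (s := Finset.range n)
    (fun v => Lfun p n a v = p - 1)
  rw [Finset.card_range] at h2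
  have h3 : ((Finset.range n).filter (fun v => Lfun p n a v = p - 1)).card =
      ((Finset.Ioc (a - 1 - n) (a - 1)).filter (fun x => (p : ℤ) ∣ x)).card := by
    apply Finset.card_bij (fun (v : ℕ) _ => (v : ℤ) + a - n)
    · intro v hv
      rw [Finset.mem_filter, Finset.mem_range, Lfun_eq_top_iff p n a hpn] at hv
      rw [Finset.mem_filter, Finset.mem_Ioc]
      refine ⟨⟨by omega, by omega⟩, hv.2⟩
    · intro v _ v' _ h
      omega
    · intro x hx
      rw [Finset.mem_filter, Finset.mem_Ioc] at hx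
      refine ⟨(x - a + n).toNat, ?_, ?_⟩
      · rw [Finset.mem_filter, Finset.mem_range, Lfun_eq_top_iff p n a hpn]
        have : ((x - a + n).toNat : ℤ) = x - a + n := Int.toNat_of_nonneg (by omega)
        refine ⟨by omega, ?_⟩
        rw [this]
        convert hx.2 using 1
        ring
      · have : ((x - a + n).toNat : ℤ) = x - a + n := Int.toNat_of_nonneg (by omega)
        rw [this]
        ring
  have h4 := Int.Ioc_filter_dvd_card (a - 1 - n) (a - 1) (r := (p : ℤ)) (by exact_mod_cast hp0)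
  rw [Int.cast_natCast, Rat.floor_intCast_div_natCast, Rat.floor_intCast_div_natCast] at h4
  have h5 : (a - 1 - n) / (p : ℤ) ≤ (a - 1) / (p : ℤ) :=
    Int.ediv_le_ediv (by exact_mod_cast hp0) (by omega)
  rw [max_eq_left (by omega)] at h4
  rw [h1]
  omega

set_option backward.isDefEq.respectTransparency false in
theorem main {k : Type u} [Field k] (p : ℕ) [Fact p.Prime] [CharP k p] (n : ℕ) (hn : 0 < n)
    (hpn : ¬ p ∣ n) (u : PowerSeries k) (hu1 : PowerSeries.constantCoeff u = 1)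
    (hun : u ^ n * (1 + PowerSeries.X ^ n) = 1) (hu : IsUnit u) (a : ℤ)
    {G : Type u} [Group G] [Finite G] (g : G) (hG : Nat.card G = p)
    (hg : ∀ x : G, x ∈ Subgroup.zpowers g)
    (ρ : Representation k G (PowerSeries k))
    (hρ : ∀ h : PowerSeries k, ρ g h =
      ((hu.unit ^ a : (PowerSeries k)ˣ) : PowerSeries k) * PowerSeries.subst (PowerSeries.X * u) h) :
    Module.Finite k (groupCohomology.H1 (Rep.of ρ)) ∧
      (Module.finrank k (groupCohomology.H1 (Rep.of ρ)) : ℤ) =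
        n - (a - 1) / (p : ℤ) + (a - 1 - n) / (p : ℤ) := by
  classical
  haveI : IsCyclic G := ⟨g, hg⟩
  letI : Fintype G := Fintype.ofFinite G
  letI cg : CommGroup G := IsCyclic.commGroup
  obtain ⟨T, hT⟩ : ∃ T : k⟦X⟧ →ₗ[k] k⟦X⟧, T = ρ g := ⟨_, rfl⟩
  obtain ⟨U, hU⟩ : ∃ U : k⟦X⟧ˣ, U = hu.unit := ⟨_, rfl⟩
  have hUu : (U : k⟦X⟧) = u := by rw [hU]; exact hu.unit_spec
  have hwunit : IsUnit (w p u) := by
    rw [isUnit_iff_constantCoeff, constantCoeff_w p u hu1]
    exact isUnit_one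
  obtain ⟨W, hW⟩ : ∃ W : k⟦X⟧ˣ, W = hwunit.unit := ⟨_, rfl⟩
  have hWw : (W : k⟦X⟧) = w p u := by rw [hW]; exact hwunit.unit_spec
  have hW' : sigma (U : k⟦X⟧) (W : k⟦X⟧) * (U : k⟦X⟧) ^ p = W := by
    rw [hUu, hWw]
    exact sigma_w p u hu1 n hun hpn
  have hTapp : ∀ h, T h = ((U ^ a : k⟦X⟧ˣ) : k⟦X⟧) * sigma (U : k⟦X⟧) h := by
    intro h
    rw [hT, hρ, hUu, sigma_apply, hU]
  obtain ⟨f₁, hf₁s, hf₁k⟩ := exists_proj (bfun p n a W) (bfun_low p n a W) (bfun_diag p n a W hn)
    n p (Lfun p n a) (Lfun_shift p n a hpn) (Lfun_lt p n a) T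
    (by
      intro M h hh i hi
      rw [hTapp]
      exact sigma_low _ _ M h hh i hi)
    (by
      intro v
      rw [hTapp]
      exact T_bfun p n a U W hpn (by rw [hUu]; exact hun) hW' v)
  obtain ⟨f₂, hf₂s, hf₂k⟩ := exists_H1_surj (Rep.of ρ) g hg ((T - 1) ^ (p - 1))
    (by rw [hT]; exact norm_eq_pow p ρ g hG hg)
  have hker : LinearMap.ker f₂ = LinearMap.ker f₁ := by
    rw [hf₂k, hf₁k, hT]
  let e : groupCohomology.H1 (Rep.of ρ) ≃ₗ[k] ({v : ℕ // v < n ∧ Lfun p n a v ≠ p - 1} → k) :=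
    (f₂.quotKerEquivOfSurjective hf₂s).symm ≪≫ₗ (Submodule.quotEquivOfEq _ _ hker) ≪≫ₗ
      f₁.quotKerEquivOfSurjective hf₁s
  haveI : Finite {v : ℕ // v < n ∧ Lfun p n a v ≠ p - 1} :=
    Finite.of_injective (fun v => (⟨v.1, v.2.1⟩ : Fin n)) (by
      intro v v' h
      apply Subtype.ext
      simpa using congrArg Fin.val h)
  letI : Fintype {v : ℕ // v < n ∧ Lfun p n a v ≠ p - 1} := Fintype.ofFinite _
  refine ⟨Module.Finite.equiv e.symm, ?_⟩
  rw [LinearEquiv.finrank_eq e, Module.finrank_fintype_fun_eq_card, ← Nat.card_eq_fintype_card,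
    card_J p n a hpn]

end Groth.Agent.Lib.H6xASCover
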