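import Mathlib
import Groth.Agent.Lib.H6xASCoverB

set_option autoImplicit false

/-! Congruences modulo `X ^ n` for the adapted basis `bfun`. -/

namespace Groth.Agent.Lib.H6xASCover

open PowerSeries

variable {k : Type*} [Field k]

section cong

/-- units congruent to `1` modulo `X ^ M` -/
def cong1 (M : ℕ) : Subgroup k⟦X⟧ˣ where
  carrier := {U | X ^ M ∣ (U : k⟦X⟧) - 1}
  one_mem' := by simp
  mul_mem' := by
    intro U V hU hV
    have : ((U * V : k⟦X⟧ˣ) : k⟦X⟧) - 1 = ((U : k⟦X⟧) - 1) * V + ((V : k⟦X⟧) - 1) := by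
      push_cast
      ring
    rw [Set.mem_ofPred_eq, this]
    exact dvd_add (Dvd.dvd.mul_right hU _) hV
  inv_mem' := by
    intro U hU
    have : ((U⁻¹ : k⟦X⟧ˣ) : k⟦X⟧) - 1 = -((U⁻¹ : k⟦X⟧ˣ) : k⟦X⟧) * ((U : k⟦X⟧) - 1) := by
      have h1 : ((U⁻¹ : k⟦X⟧ˣ) : k⟦X⟧) * (U : k⟦X⟧) = 1 := by
        rw [← Units.val_mul, inv_mul_cancel, Units.val_one]
      linear_combination h1
    rw [Set.mem_ofPred_eq, this]
    exact Dvd.dvd.mul_left hU _

theorem mem_cong1 (M : ℕ) (U : k⟦X⟧ˣ) : U ∈ cong1 M ↔ X ^ M ∣ (U : k⟦X⟧) - 1 := Iff.rfl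

variable (p : ℕ) [Fact p.Prime] [CharP k p]

theorem dvd_sub_one_of_pow (n : ℕ) (hpn : ¬ p ∣ n) (M : ℕ) (y : k⟦X⟧)
    (hy1 : constantCoeff y = 1) (hyn : X ^ M ∣ y ^ n - 1) : X ^ M ∣ y - 1 := by
  have h1 : (∑ i ∈ Finset.range n, y ^ i) * (y - 1) = y ^ n - 1 := geom_sum_mul y n
  have h2 : IsUnit (∑ i ∈ Finset.range n, y ^ i) := by
    rw [isUnit_iff_constantCoeff, map_sum]
    simp only [map_pow, hy1, one_pow, Finset.sum_const, Finset.card_range, nsmul_eq_mul, mul_one]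
    rw [isUnit_iff_ne_zero]
    intro h
    exact hpn ((CharP.cast_eq_zero_iff k p n).mp h)
  rw [← h1] at hyn
  exact (h2.dvd_mul_left).mp hyn

variable (u : k⟦X⟧) (hu1 : constantCoeff u = 1) (n : ℕ) (hun : u ^ n * (1 + X ^ n) = 1)
  (hpn : ¬ p ∣ n)

include hu1 hun hpn in
theorem uI_cong (i : ℕ) : X ^ n ∣ uI u i - 1 := by
  apply dvd_sub_one_of_pow p n hpn n _ (constantCoeff_uI u hu1 i)
  have h := uI_pow u n hun i
  refine ⟨-(uI u i ^ n * (i : k⟦X⟧)), ?_⟩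
  linear_combination h

include hu1 hun hpn in
theorem w_cong : X ^ n ∣ w p u - 1 := by
  rw [w]
  have : ∀ j : ℕ, X ^ n ∣ (∏ i ∈ Finset.range j, uI u i) - 1 := by
    intro j
    induction j with
    | zero => simp
    | succ j ih =>
      rw [Finset.prod_range_succ]
      have e : (∏ i ∈ Finset.range j, uI u i) * uI u j - 1 =
          ((∏ i ∈ Finset.range j, uI u i) - 1) * uI u j + (uI u j - 1) := by ring
      rw [e]
      exact dvd_add (Dvd.dvd.mul_right ih _) (uI_cong p u hu1 n hun hpn j)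
  exact this p

theorem Ppoly_cong (l : ℕ) : X ^ n ∣ Ppoly (k := k) n l - 1 := by
  induction l with
  | zero => simp [Ppoly]
  | succ l ih =>
    rw [Ppoly_succ]
    have e : Ppoly (k := k) n l * (1 - C (l : k) * X ^ n) - 1 =
        (Ppoly (k := k) n l - 1) + X ^ n * (-(Ppoly (k := k) n l * C (l : k))) := by ring
    rw [e]
    exact dvd_add ih (Dvd.intro _ rfl)

variable (a : ℤ) (W : k⟦X⟧ˣ) (hW : X ^ n ∣ (W : k⟦X⟧) - 1)

include hW in
theorem coeff_bfun_low (v i : ℕ) (hi : i < v + n) :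
    coeff i (bfun p n a W v) =
      if i = v then (((Lfun p n a v).factorial : ℕ) : k)⁻¹ else 0 := by
  obtain ⟨β, hβ⟩ : ∃ β : k, β = (((Lfun p n a v).factorial : ℕ) : k)⁻¹ := ⟨_, rfl⟩
  have hWm : X ^ n ∣ ((W ^ mfun p n a v : k⟦X⟧ˣ) : k⟦X⟧) - 1 :=
    (cong1 n).zpow_mem ((mem_cong1 n W).mpr hW) _
  have hq : X ^ n ∣ C β * Ppoly n (Lfun p n a v) * ((W ^ mfun p n a v : k⟦X⟧ˣ) : k⟦X⟧) - C β := by
    obtain ⟨q1, hq1⟩ := Ppoly_cong (k := k) n (Lfun p n a v)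
    obtain ⟨q2, hq2⟩ := hWm
    refine ⟨C β * (q1 * ((W ^ mfun p n a v : k⟦X⟧ˣ) : k⟦X⟧) + q2), ?_⟩
    linear_combination (C β * ((W ^ mfun p n a v : k⟦X⟧ˣ) : k⟦X⟧)) * hq1 + C β * hq2
  rw [bfun, ← hβ, coeff_mul_X_pow']
  by_cases hvi : v ≤ i
  · rw [if_pos hvi]
    rw [X_pow_dvd_iff] at hq
    have := hq (i - v) (by omega)
    rw [map_sub, sub_eq_zero] at this
    rw [this, coeff_C]
    by_cases hiv : i = v
    · rw [if_pos hiv, if_pos (by omega)]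
    · rw [if_neg hiv, if_neg (by omega)]
  · rw [if_neg hvi, if_neg (by omega)]

end cong

section zero

variable (p : ℕ) [Fact p.Prime] [CharP k p] (n : ℕ) (hpn : ¬ p ∣ n) (W : k⟦X⟧ˣ)

include hpn in
theorem bfun_zero_zero : bfun p n 0 W 0 = 1 := by
  have hp0 : 0 < p := (Fact.out : p.Prime).pos
  have h1 : Lfun p n 0 0 = 0 := Lfun_unique p n 0 hpn 0 0 hp0 (by simp)
  have h2 : mfun p n 0 0 = 0 := by
    rw [mfun, h1]
    simp
  rw [bfun, h1, h2]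
  simp [Ppoly]

end zero

end Groth.Agent.Lib.H6xASCover
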