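import Mathlib

set_option autoImplicit false
universe u

/-! 1-cocycles of a finite cyclic group `⟨g⟩`: a cocycle is determined by its value at `g`,
which is killed by `∑_{i<ord g} ρ(g)^i`; it is a coboundary iff that value lies in the range of
`ρ(g) - 1`; every element killed by the norm occurs. -/

namespace Groth.Agent.Lib.H6xCyclicH1

open groupCohomology

section psum

variable {k V : Type*} [CommRing k] [AddCommGroup V] [Module k V] (T : Module.End k V) (x : V)

/-- partial sums `∑_{j<i} T^j x` -/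
def psum (i : ℕ) : V := ∑ j ∈ Finset.range i, (T ^ j) x

theorem psum_zero : psum T x 0 = 0 := by simp [psum]

theorem psum_one : psum T x 1 = x := by simp [psum]

theorem psum_succ (i : ℕ) : psum T x (i + 1) = psum T x i + (T ^ i) x := by
  rw [psum, Finset.sum_range_succ, ← psum]

theorem psum_add (i j : ℕ) : psum T x (i + j) = psum T x i + (T ^ i) (psum T x j) := by
  simp only [psum]
  rw [Finset.sum_range_add, map_sum]
  congr 1
  refine Finset.sum_congr rfl fun l _ => ?_
  rw [pow_add, Module.End.mul_apply]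

theorem psum_mul (p : ℕ) (hp : psum T x p = 0) (q : ℕ) :
    psum T x (p * q) = 0 := by
  induction q with
  | zero => simp [psum_zero]
  | succ q ih =>
    rw [Nat.mul_succ, psum_add, ih, hp, map_zero, add_zero]

theorem psum_mod (p : ℕ) (hp : psum T x p = 0) (i : ℕ) :
    psum T x i = psum T x (i % p) := by
  conv_lhs => rw [← Nat.mod_add_div i p]
  rw [psum_add, psum_mul T x p hp, map_zero, add_zero]

end psum

variable {k G : Type u} [CommRing k] [Group G] (A : Rep k G) (g : G)

theorem cocycle_pow (f : cocycles₁ A) (i : ℕ) : f (g ^ i) = psum (A.ρ g) (f g) i := by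
  induction i with
  | zero => simp [psum_zero]
  | succ i ih =>
    rw [pow_succ, (mem_cocycles₁_iff f).1 f.2, psum_succ, ih, map_pow, add_comm]

theorem psum_orderOf_eq_zero (f : cocycles₁ A) : psum (A.ρ g) (f g) (orderOf g) = 0 := by
  rw [← cocycle_pow, pow_orderOf_eq_one, cocycles₁_map_one]

variable (hg : ∀ x : G, x ∈ Subgroup.zpowers g)

include hg in
theorem exists_pow [Finite G] (y : G) : ∃ i : ℕ, g ^ i = y := by
  have h := hg y
  rw [← mem_powers_iff_mem_zpowers] at h
  exact h

include hg in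
theorem mem_coboundaries_iff [Finite G] (f : cocycles₁ A) :
    (f : G → A) ∈ coboundaries₁ A ↔ f g ∈ LinearMap.range (A.ρ g - 1) := by
  constructor
  · rintro ⟨a, ha⟩
    refine ⟨a, ?_⟩
    have := congrFun ha g
    rw [d₀₁_hom_apply] at this
    rw [← this]
    rfl
  · rintro ⟨a, ha⟩
    refine ⟨a, ?_⟩
    have hmem : (d₀₁ A).hom a ∈ cocycles₁ A := d₀₁_apply_mem_cocycles₁ a
    obtain ⟨f', hf'⟩ : ∃ f' : cocycles₁ A, f' = f - ⟨(d₀₁ A).hom a, hmem⟩ := ⟨_, rfl⟩
    have h0 : f' g = 0 := by
      rw [hf']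
      change f g - (d₀₁ A).hom a g = 0
      rw [d₀₁_hom_apply, ← ha]
      simp
    funext y
    obtain ⟨i, rfl⟩ := exists_pow g hg y
    have h1 := cocycle_pow A g f' i
    rw [h0] at h1
    have h2 : psum (A.ρ g) (0 : A.V) i = 0 := by simp [psum]
    rw [h2, hf'] at h1
    change f (g ^ i) - (d₀₁ A).hom a (g ^ i) = 0 at h1
    exact (sub_eq_zero.mp h1).symm

include hg in
theorem exists_cocycle [Finite G] (x : A.V) (hx : psum (A.ρ g) x (orderOf g) = 0) :
    ∃ f : cocycles₁ A, f g = x := by
  classical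
  choose e he using exists_pow g hg
  have hwd : ∀ i j : ℕ, g ^ i = g ^ j → psum (A.ρ g) x i = psum (A.ρ g) x j := by
    intro i j hij
    rw [pow_eq_pow_iff_modEq] at hij
    rw [psum_mod _ _ _ hx i, psum_mod _ _ _ hx j, hij]
  have hmem : (fun y => psum (A.ρ g) x (e y)) ∈ cocycles₁ A := by
    rw [mem_cocycles₁_iff]
    intro y y'
    have h1 : g ^ (e (y * y')) = g ^ (e y + e y') := by rw [pow_add, he, he, he]
    rw [hwd _ _ h1, psum_add, add_comm]
    congr 1
    rw [← map_pow, he]
  refine ⟨⟨_, hmem⟩, ?_⟩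
  change psum (A.ρ g) x (e g) = x
  have h1 : g ^ (e g) = g ^ 1 := by rw [he, pow_one]
  rw [hwd _ _ h1, psum_one]

end Groth.Agent.Lib.H6xCyclicH1
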