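import Mathlib
import Groth.Agent.Lib.H6xASCoverC
import Groth.Agent.Lib.H6xASCoverD
import Groth.Agent.Lib.H6xCyclicH1

set_option autoImplicit false
universe u
open CategoryTheory

namespace Groth.Agent.Lib.H6xASCover

open PowerSeries groupCohomology

/-- linear algebra: the range of an induced map on quotients -/
theorem range_equiv_of_factor {k : Type*} [Field k] {Z₀ Z₁ H₀ H₁ Y : Type*}
    [AddCommGroup Z₀] [Module k Z₀] [AddCommGroup Z₁] [Module k Z₁] [AddCommGroup H₀] [Module k H₀]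
    [AddCommGroup H₁] [Module k H₁] [AddCommGroup Y] [Module k Y]
    (π₀ : Z₀ →ₗ[k] H₀) (π₁ : Z₁ →ₗ[k] H₁) (ζ : Z₀ →ₗ[k] Z₁) (η : H₀ →ₗ[k] H₁)
    (hπ₀ : Function.Surjective π₀) (hπ₁ : Function.Surjective π₁)
    (hcomm : ∀ z, η (π₀ z) = π₁ (ζ z))
    (P : Z₁ →ₗ[k] Y) (ha : LinearMap.ker π₁ ≤ LinearMap.ker P)
    (hb : ∀ z, P (ζ z) = 0 → π₁ (ζ z) = 0) (hc : ∀ y, ∃ z, P (ζ z) = y) :
    Nonempty (LinearMap.range η ≃ₗ[k] Y) := by
  let Ψ : H₁ →ₗ[k] Y :=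
    (LinearMap.ker π₁).liftQ P ha ∘ₗ (π₁.quotKerEquivOfSurjective hπ₁).symm.toLinearMap
  have hΨ : ∀ z, Ψ (π₁ z) = P z := by
    intro z
    have : (π₁.quotKerEquivOfSurjective hπ₁).symm (π₁ z) = Submodule.Quotient.mk z := by
      rw [LinearEquiv.symm_apply_eq]
      rfl
    simp [Ψ, this]
  refine ⟨LinearEquiv.ofBijective (Ψ.domRestrict (LinearMap.range η)) ⟨?_, ?_⟩⟩
  · rw [← LinearMap.ker_eq_bot, LinearMap.ker_eq_bot']
    rintro ⟨r, h, rfl⟩ hr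
    obtain ⟨z, rfl⟩ := hπ₀ h
    apply Subtype.ext
    simp only [LinearMap.domRestrict_apply] at hr
    rw [hcomm, hΨ] at hr
    simp [hcomm, hb z hr]
  · intro y
    obtain ⟨z, hz⟩ := hc y
    refine ⟨⟨η (π₀ z), ⟨_, rfl⟩⟩, ?_⟩
    simp only [LinearMap.domRestrict_apply]
    rw [hcomm, hΨ, hz]

theorem sum_pow_eq {k V : Type*} [Field k] (p : ℕ) [Fact p.Prime] [CharP k p] [AddCommGroup V]
    [Module k V] (T : Module.End k V) :
    ∑ i ∈ Finset.range p, T ^ i = (T - 1) ^ (p - 1) := by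
  have h2 := congrArg (Polynomial.aeval T) (poly_geom_sum k p)
  simpa using h2

theorem psum_eq {k V : Type*} [Field k] (p : ℕ) [Fact p.Prime] [CharP k p] [AddCommGroup V]
    [Module k V] (T : Module.End k V) (x : V) :
    H6xCyclicH1.psum T x p = ((T - 1) ^ (p - 1)) x := by
  rw [← sum_pow_eq, H6xCyclicH1.psum, LinearMap.sum_apply]


theorem ediv_facts (p n : ℕ) (hp : 0 < p) (hpn : ¬ p ∣ n) :
    (-(n : ℤ)) / (p : ℤ) = -((n : ℤ) / p) - 1 ∧ ((n : ℤ) - 1) / (p : ℤ) = (n : ℤ) / p ∧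
      (((n : ℤ) + 1) * ((p : ℤ) - 1)) / (p : ℤ) = n - (n : ℤ) / p := by
  obtain ⟨q, hq⟩ : ∃ q : ℤ, q = (n : ℤ) / p := ⟨_, rfl⟩
  obtain ⟨r, hr⟩ : ∃ r : ℤ, r = (n : ℤ) % p := ⟨_, rfl⟩
  have hp' : (0 : ℤ) < p := by exact_mod_cast hp
  have h1 : r + p * q = n := by rw [hq, hr]; exact Int.emod_add_mul_ediv _ _
  have h2 : 0 ≤ r := by rw [hr]; exact Int.emod_nonneg _ hp'.ne'
  have h3 : r < p := by rw [hr]; exact Int.emod_lt_of_pos _ hp'
  have h4 : r ≠ 0 := by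
    intro h
    apply hpn
    have : (p : ℤ) ∣ n := by
      rw [← h1, h, zero_add]
      exact dvd_mul_right _ _
    exact_mod_cast this
  rw [← hq]
  refine ⟨?_, ?_, ?_⟩
  · exact ((Int.ediv_emod_unique (r := p - r) hp').mpr
      ⟨by linear_combination -h1, by omega, by omega⟩).1
  · exact ((Int.ediv_emod_unique (r := r - 1) hp').mpr
      ⟨by linear_combination h1, by omega, by omega⟩).1
  · exact ((Int.ediv_emod_unique (r := p - 1 - r) hp').mpr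
      ⟨by linear_combination -h1, by omega, by omega⟩).1

theorem card_J' (p : ℕ) [Fact p.Prime] (n : ℕ) (hn : 0 < n) (hpn : ¬ p ∣ n) :
    (Nat.card {v : ℕ // v < n ∧ Lfun p n ((n : ℤ) + 1) v ≠ p - 1 ∧ Lfun p n 0 (v + 1) ≠ p - 1} : ℤ)
      = (((n : ℤ) + 1) * ((p : ℤ) - 1)) / (p : ℤ) - 1 - ((n : ℤ) - 1) / (p : ℤ) := by
  classical
  have hp0 : 0 < p := (Fact.out : p.Prime).pos
  have hA : ∀ v : ℕ, Lfun p n ((n : ℤ) + 1) v = p - 1 ↔ p ∣ v + 1 := by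
    intro v
    rw [Lfun_eq_top_iff p n _ hpn]
    have : (v : ℤ) + ((n : ℤ) + 1) - n = ((v + 1 : ℕ) : ℤ) := by push_cast; ring
    rw [this, Int.natCast_dvd_natCast]
  have hB : ∀ v : ℕ, Lfun p n 0 (v + 1) = p - 1 ↔ (p : ℤ) ∣ (v : ℤ) + 1 - n := by
    intro v
    rw [Lfun_eq_top_iff p n _ hpn]
    have : ((v + 1 : ℕ) : ℤ) + 0 - n = (v : ℤ) + 1 - n := by push_cast; ring
    rw [this]
  have h1 : Nat.card {v : ℕ // v < n ∧ Lfun p n ((n : ℤ) + 1) v ≠ p - 1 ∧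
      Lfun p n 0 (v + 1) ≠ p - 1} =
      ((Finset.range n).filter (fun (v : ℕ) => ¬ (p ∣ v + 1 ∨ (p : ℤ) ∣ (v : ℤ) + 1 - n))).card := by
    apply Nat.subtype_card
    intro v
    rw [Finset.mem_filter, Finset.mem_range, Ne, Ne, hA, hB, not_or]
  have h2 := Finset.card_filter_add_card_filter_not (s := Finset.range n)
    (fun (v : ℕ) => (p ∣ v + 1 ∨ (p : ℤ) ∣ (v : ℤ) + 1 - n))
  rw [Finset.card_range] at h2
  have h3 : ((Finset.range n).filter (fun (v : ℕ) => (p ∣ v + 1 ∨ (p : ℤ) ∣ (v : ℤ) + 1 - n))).card =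
      ((Finset.range n).filter (fun v => p ∣ v + 1)).card +
      ((Finset.range n).filter (fun (v : ℕ) => (p : ℤ) ∣ (v : ℤ) + 1 - n)).card := by
    rw [Finset.filter_or, Finset.card_union_of_disjoint]
    rw [Finset.disjoint_filter]
    intro v _ ha hb
    apply hpn
    have ha' : (p : ℤ) ∣ (v : ℤ) + 1 := by exact_mod_cast ha
    have : (p : ℤ) ∣ n := by
      have := dvd_sub ha' hb
      rwa [show (v : ℤ) + 1 - ((v : ℤ) + 1 - n) = n by ring] at this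
    exact_mod_cast this
  have h4 : ((Finset.range n).filter (fun v => p ∣ v + 1)).card = n / p := by
    rw [← Nat.Ioc_filter_dvd_card_eq_div]
    apply Finset.card_bij (fun (v : ℕ) _ => v + 1)
    · intro v hv
      rw [Finset.mem_filter, Finset.mem_range] at hv
      rw [Finset.mem_filter, Finset.mem_Ioc]
      exact ⟨⟨by omega, by omega⟩, hv.2⟩
    · intro v _ v' _ h
      omega
    · intro w hw
      rw [Finset.mem_filter, Finset.mem_Ioc] at hw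
      refine ⟨w - 1, ?_, by omega⟩
      rw [Finset.mem_filter, Finset.mem_range]
      refine ⟨by omega, ?_⟩
      rw [Nat.sub_add_cancel (by omega)]
      exact hw.2
  have h5 : (((Finset.range n).filter (fun (v : ℕ) => (p : ℤ) ∣ (v : ℤ) + 1 - n)).card : ℤ) =
      -((-(n : ℤ)) / (p : ℤ)) := by
    have e : ((Finset.range n).filter (fun (v : ℕ) => (p : ℤ) ∣ (v : ℤ) + 1 - n)).card =
        ((Finset.Ioc (-(n : ℤ)) 0).filter (fun x => (p : ℤ) ∣ x)).card := by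
      apply Finset.card_bij (fun (v : ℕ) _ => (v : ℤ) + 1 - n)
      · intro v hv
        rw [Finset.mem_filter, Finset.mem_range] at hv
        rw [Finset.mem_filter, Finset.mem_Ioc]
        exact ⟨⟨by omega, by omega⟩, hv.2⟩
      · intro v _ v' _ h
        omega
      · intro x hx
        rw [Finset.mem_filter, Finset.mem_Ioc] at hx
        have hx' : ((x - 1 + n).toNat : ℤ) = x - 1 + n := Int.toNat_of_nonneg (by omega)
        refine ⟨(x - 1 + n).toNat, ?_, by rw [hx']; ring⟩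
        rw [Finset.mem_filter, Finset.mem_range, hx']
        refine ⟨by omega, ?_⟩
        rw [show x - 1 + n + 1 - n = x by ring]
        exact hx.2
    rw [e]
    have h := Int.Ioc_filter_dvd_card (-(n : ℤ)) 0 (r := (p : ℤ)) (by exact_mod_cast hp0)
    rw [Int.cast_natCast, Rat.floor_intCast_div_natCast, Rat.floor_intCast_div_natCast] at h
    rw [h, Int.zero_ediv, zero_sub]
    apply max_eq_left
    have := (ediv_facts p n hp0 hpn).1
    have hq : 0 ≤ (n : ℤ) / p := Int.ediv_nonneg (by omega) (by omega)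
    omega
  obtain ⟨f1, f2, f3⟩ := ediv_facts p n hp0 hpn
  rw [h1, f3, f2]
  rw [f1] at h5
  have h6 : ((n / p : ℕ) : ℤ) = (n : ℤ) / p := by push_cast; rfl
  omega


set_option backward.isDefEq.respectTransparency false in
theorem main2 {k : Type u} [Field k] (p : ℕ) [Fact p.Prime] [CharP k p] (n : ℕ) (hn : 0 < n)
    (hpn : ¬ p ∣ n) (u : PowerSeries k) (hu1 : PowerSeries.constantCoeff u = 1)
    (hun : u ^ n * (1 + PowerSeries.X ^ n) = 1)
    {G : Type u} [Group G] [Finite G] (g : G) (hG : Nat.card G = p)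
    (hg : ∀ x : G, x ∈ Subgroup.zpowers g)
    (ρ₀ ρ₁ : Representation k G (PowerSeries k))
    (hρ₀ : ∀ h : PowerSeries k, ρ₀ g h = PowerSeries.subst (PowerSeries.X * u) h)
    (hρ₁ : ∀ h : PowerSeries k, ρ₁ g h = u ^ (n + 1) * PowerSeries.subst (PowerSeries.X * u) h)
    (φ : Rep.of ρ₀ ⟶ Rep.of ρ₁) (hφ : ∀ h : PowerSeries k, φ.hom h = PowerSeries.derivative k h) :
    Module.Finite k (LinearMap.range ((groupCohomology.functor k G 1).map φ).hom) ∧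
      (Module.finrank k (LinearMap.range ((groupCohomology.functor k G 1).map φ).hom) : ℤ) =
        ((n + 1) * (p - 1) : ℤ) / p - 1 - (n - 1 : ℤ) / p := by
  classical
  have hp0 : 0 < p := (Fact.out : p.Prime).pos
  have hu : IsUnit u := by
    rw [isUnit_iff_constantCoeff, hu1]
    exact isUnit_one
  obtain ⟨U, hU⟩ : ∃ U : k⟦X⟧ˣ, (U : k⟦X⟧) = u := ⟨hu.unit, hu.unit_spec⟩
  have hwunit : IsUnit (w p u) := by
    rw [isUnit_iff_constantCoeff, constantCoeff_w p u hu1]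
    exact isUnit_one
  obtain ⟨W, hWw⟩ : ∃ W : k⟦X⟧ˣ, (W : k⟦X⟧) = w p u := ⟨hwunit.unit, hwunit.unit_spec⟩
  have hW' : sigma (U : k⟦X⟧) (W : k⟦X⟧) * (U : k⟦X⟧) ^ p = W := by
    rw [hU, hWw]
    exact sigma_w p u hu1 n hun hpn
  have hWc : X ^ n ∣ (W : k⟦X⟧) - 1 := by
    rw [hWw]
    exact w_cong p u hu1 n hun hpn
  have hunU : (U : k⟦X⟧) ^ n * (1 + X ^ n) = 1 := by rw [hU]; exact hun
  obtain ⟨T₀, hT₀⟩ : ∃ T : k⟦X⟧ →ₗ[k] k⟦X⟧, T = ρ₀ g := ⟨_, rfl⟩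
  obtain ⟨T₁, hT₁⟩ : ∃ T : k⟦X⟧ →ₗ[k] k⟦X⟧, T = ρ₁ g := ⟨_, rfl⟩
  have hT₀app : ∀ h, T₀ h = ((U ^ (0 : ℤ) : k⟦X⟧ˣ) : k⟦X⟧) * sigma (U : k⟦X⟧) h := by
    intro h
    rw [hT₀, hρ₀, hU, sigma_apply, zpow_zero, Units.val_one, one_mul]
  have hT₁app : ∀ h, T₁ h = ((U ^ ((n : ℤ) + 1) : k⟦X⟧ˣ) : k⟦X⟧) * sigma (U : k⟦X⟧) h := by
    intro h
    have : ((U ^ ((n : ℤ) + 1) : k⟦X⟧ˣ) : k⟦X⟧) = u ^ (n + 1) := by
      rw [show ((n : ℤ) + 1) = ((n + 1 : ℕ) : ℤ) by push_cast; rfl, zpow_natCast,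
        Units.val_pow_eq_pow_val, hU]
    rw [hT₁, hρ₁, this, hU, sigma_apply]
  obtain ⟨b0, hb0⟩ : ∃ b0 : ℕ → k⟦X⟧, b0 = bfun p n 0 W := ⟨_, rfl⟩
  obtain ⟨b1, hb1⟩ : ∃ b1 : ℕ → k⟦X⟧, b1 = bfun p n ((n : ℤ) + 1) W := ⟨_, rfl⟩
  obtain ⟨L0, hL0⟩ : ∃ L0 : ℕ → ℕ, L0 = Lfun p n 0 := ⟨_, rfl⟩
  obtain ⟨L1, hL1⟩ : ∃ L1 : ℕ → ℕ, L1 = Lfun p n ((n : ℤ) + 1) := ⟨_, rfl⟩
  have hlow0 : ∀ v i, i < v → coeff i (b0 v) = 0 := by rw [hb0]; exact bfun_low p n 0 W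
  have hlow1 : ∀ v i, i < v → coeff i (b1 v) = 0 := by rw [hb1]; exact bfun_low p n _ W
  have hdiag0 : ∀ v, coeff v (b0 v) ≠ 0 := by rw [hb0]; exact bfun_diag p n 0 W hn
  have hdiag1 : ∀ v, coeff v (b1 v) ≠ 0 := by rw [hb1]; exact bfun_diag p n _ W hn
  have cont0 : ∀ (M : ℕ) (h : k⟦X⟧), (∀ i < M, coeff i h = 0) → ∀ i < M, coeff i (T₀ h) = 0 := by
    intro M h hh i hi
    rw [hT₀app]
    exact sigma_low _ _ M h hh i hi
  have cont1 : ∀ (M : ℕ) (h : k⟦X⟧), (∀ i < M, coeff i h = 0) → ∀ i < M, coeff i (T₁ h) = 0 := by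
    intro M h hh i hi
    rw [hT₁app]
    exact sigma_low _ _ M h hh i hi
  have Tb0 : ∀ v, T₀ (b0 v) = b0 v + if 1 ≤ L0 v then b0 (v + n) else 0 := by
    intro v
    rw [hT₀app, hb0, hL0]
    exact T_bfun p n 0 U W hpn hunU hW' v
  have Tb1 : ∀ v, T₁ (b1 v) = b1 v + if 1 ≤ L1 v then b1 (v + n) else 0 := by
    intro v
    rw [hT₁app, hb1, hL1]
    exact T_bfun p n _ U W hpn hunU hW' v
  have hLs0 : ∀ v, L0 (v + n) = if L0 v = 0 then p - 1 else L0 v - 1 := by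
    rw [hL0]; exact Lfun_shift p n 0 hpn
  have hLs1 : ∀ v, L1 (v + n) = if L1 v = 0 then p - 1 else L1 v - 1 := by
    rw [hL1]; exact Lfun_shift p n _ hpn
  have hLp0 : ∀ v, L0 v < p := by rw [hL0]; exact Lfun_lt p n 0
  have hLp1 : ∀ v, L1 v < p := by rw [hL1]; exact Lfun_lt p n _
  have ker0 := Phi_mem_ker_iff b0 hlow0 hdiag0 n p L0 hLs0 hLp0 T₀ cont0 Tb0
  have ker1 := Phi_mem_ker_iff b1 hlow1 hdiag1 n p L1 hLs1 hLp1 T₁ cont1 Tb1
  have rng1 := Phi_mem_range_iff b1 hlow1 hdiag1 n p L1 hLs1 hLp1 T₁ cont1 Tb1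
  -- monomial shape modulo `X ^ n`
  obtain ⟨β0, hβ0⟩ : ∃ β0 : ℕ → k, β0 = fun v => (((L0 v).factorial : ℕ) : k)⁻¹ := ⟨_, rfl⟩
  obtain ⟨β1, hβ1⟩ : ∃ β1 : ℕ → k, β1 = fun v => (((L1 v).factorial : ℕ) : k)⁻¹ := ⟨_, rfl⟩
  have hβ0ne : ∀ v, β0 v ≠ 0 := by
    intro v
    rw [hβ0]
    exact inv_ne_zero (factorial_ne_zero p _ (hLp0 v))
  have hβ1ne : ∀ v, β1 v ≠ 0 := by
    intro v
    rw [hβ1]
    exact inv_ne_zero (factorial_ne_zero p _ (hLp1 v))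
  have low0 : ∀ v i, i < n + 1 → coeff i (b0 v) = if i = v then β0 v else 0 := by
    intro v i hi
    rw [hβ0, hb0, hL0]
    rcases Nat.eq_zero_or_pos v with rfl | hv
    · have h1 : Lfun p n 0 0 = 0 := Lfun_unique p n 0 hpn 0 0 hp0 (by simp)
      rw [bfun_zero_zero p n hpn W, coeff_one]
      simp only [h1]
      simp
    · exact coeff_bfun_low p n 0 W hWc v i (by omega)
  have low1 : ∀ v i, i < n → coeff i (b1 v) = if i = v then β1 v else 0 := by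
    intro v i hi
    rw [hβ1, hb1, hL1]
    exact coeff_bfun_low p n _ W hWc v i (by omega)
  have key : ∀ c c' : ℕ → k, Phi b1 c' = derivative k (Phi b0 c) → ∀ i < n,
      c' i * β1 i = c (i + 1) * β0 (i + 1) * ((i : k) + 1) := by
    intro c c' h i hi
    have h1 := coeff_Phi_of_low b1 n β1 low1 c' i hi
    have h2 := coeff_Phi_of_low b0 (n + 1) β0 low0 c (i + 1) (by omega)
    rw [h, coeff_derivative, h2] at h1
    exact h1.symm
  have hA : ∀ v : ℕ, L1 v = p - 1 ↔ p ∣ v + 1 := by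
    intro v
    rw [hL1, Lfun_eq_top_iff p n _ hpn]
    have : (v : ℤ) + ((n : ℤ) + 1) - n = ((v + 1 : ℕ) : ℤ) := by push_cast; ring
    rw [this, Int.natCast_dvd_natCast]
  have hcast : ∀ v : ℕ, L1 v ≠ p - 1 → ((v : k) + 1) ≠ 0 := by
    intro v hv
    rw [Ne, hA] at hv
    have : ((v + 1 : ℕ) : k) ≠ 0 := by rwa [Ne, CharP.cast_eq_zero_iff k p]
    exact_mod_cast this
  -- the cocycle level
  have ord : orderOf g = p := by rw [orderOf_eq_card_of_forall_mem_zpowers hg, hG]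
  have hZ0 : ∀ f : cocycles₁ (Rep.of ρ₀), (f g : k⟦X⟧) ∈ LinearMap.ker ((T₀ - 1) ^ (p - 1)) := by
    intro f
    have := H6xCyclicH1.psum_orderOf_eq_zero (Rep.of ρ₀) g f
    rw [ord] at this
    rw [LinearMap.mem_ker, hT₀, ← psum_eq]
    exact this
  have hZ1 : ∀ f : cocycles₁ (Rep.of ρ₁), (f g : k⟦X⟧) ∈ LinearMap.ker ((T₁ - 1) ^ (p - 1)) := by
    intro f
    have := H6xCyclicH1.psum_orderOf_eq_zero (Rep.of ρ₁) g f
    rw [ord] at this
    rw [LinearMap.mem_ker, hT₁, ← psum_eq]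
    exact this
  obtain ⟨π₀, hπ₀⟩ : ∃ π₀ : cocycles₁ (Rep.of ρ₀) →ₗ[k] H1 (Rep.of ρ₀),
      π₀ = (H1π (Rep.of ρ₀)).hom := ⟨_, rfl⟩
  obtain ⟨π₁, hπ₁⟩ : ∃ π₁ : cocycles₁ (Rep.of ρ₁) →ₗ[k] H1 (Rep.of ρ₁),
      π₁ = (H1π (Rep.of ρ₁)).hom := ⟨_, rfl⟩
  obtain ⟨ζ, hζdef⟩ : ∃ ζ : cocycles₁ (Rep.of ρ₀) →ₗ[k] cocycles₁ (Rep.of ρ₁),
      ζ = (mapCocycles₁ (MonoidHom.id G) φ).hom := ⟨_, rfl⟩
  obtain ⟨η, hη⟩ : ∃ η : H1 (Rep.of ρ₀) →ₗ[k] H1 (Rep.of ρ₁),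
      η = ((groupCohomology.functor k G 1).map φ).hom := ⟨_, rfl⟩
  have hζ : ∀ (f : cocycles₁ (Rep.of ρ₀)), (ζ f) g = derivative k (f g : k⟦X⟧) := by
    intro f
    rw [← hφ, hζdef]
    rfl
  have hJfin : Finite {v : ℕ // v < n ∧ L1 v ≠ p - 1 ∧ L0 (v + 1) ≠ p - 1} :=
    Finite.of_injective (fun v => (⟨v.1, v.2.1⟩ : Fin n)) (by
      intro v v' h
      apply Subtype.ext
      simpa using congrArg Fin.val h)
  -- the coordinate functional on cocycles of the target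
  let P : cocycles₁ (Rep.of ρ₁) →ₗ[k]
      ({v : ℕ // v < n ∧ L1 v ≠ p - 1 ∧ L0 (v + 1) ≠ p - 1} → k) :=
    { toFun := fun f v => (PhiEquiv b1 hdiag1).symm (f g : k⟦X⟧) v.1
      map_add' := by
        intro f f'
        funext v
        have : ((f + f' : cocycles₁ (Rep.of ρ₁)) g : k⟦X⟧) = (f g : k⟦X⟧) + (f' g : k⟦X⟧) := rfl
        simp only [this, map_add, Pi.add_apply]
      map_smul' := by
        intro a f
        funext v
        have : ((a • f : cocycles₁ (Rep.of ρ₁)) g : k⟦X⟧) = a • (f g : k⟦X⟧) := rfl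
        simp only [this, map_smul, Pi.smul_apply, RingHom.id_apply] }
  have hP : ∀ (f : cocycles₁ (Rep.of ρ₁)) (c' : ℕ → k), Phi b1 c' = (f g : k⟦X⟧) →
      ∀ v, P f v = c' v.1 := by
    intro f c' h v
    change (PhiEquiv b1 hdiag1).symm (f g : k⟦X⟧) v.1 = c' v.1
    rw [← h, ← PhiEquiv_apply b1 hdiag1, LinearEquiv.symm_apply_apply]
  have hcob : ∀ f : cocycles₁ (Rep.of ρ₁), π₁ f = 0 ↔
      (f g : k⟦X⟧) ∈ LinearMap.range (T₁ - 1) := by
    intro f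
    rw [hT₁, hπ₁]
    exact (H1π_eq_zero_iff f).trans (H6xCyclicH1.mem_coboundaries_iff (Rep.of ρ₁) g hg f)
  have s0 : Function.Surjective π₀ := by
    rw [hπ₀]
    have hepi : Epi (H1π (Rep.of ρ₀)) := inferInstance
    exact (ModuleCat.epi_iff_surjective _).mp hepi
  have s1 : Function.Surjective π₁ := by
    rw [hπ₁]
    have hepi : Epi (H1π (Rep.of ρ₁)) := inferInstance
    exact (ModuleCat.epi_iff_surjective _).mp hepi
  have hcomm : ∀ z, η (π₀ z) = π₁ (ζ z) := by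
    intro z
    rw [hη, hπ₀, hπ₁, hζdef]
    have := H1π_comp_map_apply (MonoidHom.id G) φ z
    exact this
  have ha : LinearMap.ker π₁ ≤ LinearMap.ker P := by
    intro f hf
    rw [LinearMap.mem_ker] at hf ⊢
    rw [hcob] at hf
    obtain ⟨c', hc'⟩ := Phi_surjective b1 hdiag1 (f g : k⟦X⟧)
    rw [← hc', rng1] at hf
    funext v
    rw [hP f c' hc']
    exact hf v.1 (Or.inl v.2.1)
  have hb : ∀ f₀ : cocycles₁ (Rep.of ρ₀), P (ζ f₀) = 0 → π₁ (ζ f₀) = 0 := by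
    intro f₀ hPf
    rw [hcob]
    obtain ⟨c, hc⟩ := Phi_surjective b0 hdiag0 (f₀ g : k⟦X⟧)
    obtain ⟨c', hc'⟩ := Phi_surjective b1 hdiag1
      ((ζ f₀) g : k⟦X⟧)
    have hk0 := hZ0 f₀
    rw [← hc, ker0] at hk0
    have hk1 := hZ1 (ζ f₀)
    rw [← hc', ker1] at hk1
    have hrel := key c c' (by rw [hc', hζ, hc])
    rw [← hc', rng1]
    intro v hv
    by_cases h1 : L1 v = p - 1
    · exact hk1 v h1
    · have hvn : v < n := by tauto
      by_cases h2 : L0 (v + 1) = p - 1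
      · have := hrel v hvn
        rw [hk0 (v + 1) h2, zero_mul, zero_mul] at this
        exact (mul_eq_zero.mp this).resolve_right (hβ1ne v)
      · have := congrFun hPf ⟨v, hvn, h1, h2⟩
        rw [hP _ c' hc'] at this
        exact this
  have hc : ∀ z : {v : ℕ // v < n ∧ L1 v ≠ p - 1 ∧ L0 (v + 1) ≠ p - 1} → k,
      ∃ f₀ : cocycles₁ (Rep.of ρ₀), P (ζ f₀) = z := by
    intro z
    obtain ⟨z', hz'⟩ : ∃ z' : ℕ → k, z' = fun v =>
        if h : v < n ∧ L1 v ≠ p - 1 ∧ L0 (v + 1) ≠ p - 1 then z ⟨v, h⟩ else 0 := ⟨_, rfl⟩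
    obtain ⟨c, hc⟩ : ∃ c : ℕ → k, c = fun v =>
        if 1 ≤ v then z' (v - 1) * β1 (v - 1) / (β0 v * (((v - 1 : ℕ) : k) + 1)) else 0 :=
      ⟨_, rfl⟩
    have hx : Phi b0 c ∈ LinearMap.ker ((T₀ - 1) ^ (p - 1)) := by
      rw [ker0]
      intro v hv
      rw [hc]
      simp only
      split_ifs with h1
      · have : z' (v - 1) = 0 := by
          rw [hz']
          simp only
          rw [dif_neg]
          rw [Nat.sub_add_cancel h1]
          tauto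
        rw [this, zero_mul, zero_div]
      · rfl
    obtain ⟨f₀, hf₀⟩ := H6xCyclicH1.exists_cocycle (Rep.of ρ₀) g hg (Phi b0 c) (by
      rw [ord]
      rw [LinearMap.mem_ker, hT₀, ← psum_eq] at hx
      exact hx)
    refine ⟨f₀, ?_⟩
    obtain ⟨c', hc'⟩ := Phi_surjective b1 hdiag1
      ((ζ f₀) g : k⟦X⟧)
    have hrel := key c c' (by rw [hc', hζ]; exact congrArg _ hf₀)
    funext v
    rw [hP _ c' hc']
    have h1 := hrel v.1 v.2.1
    have h2 : c (v.1 + 1) = z v * β1 v.1 / (β0 (v.1 + 1) * ((v.1 : k) + 1)) := by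
      rw [hc]
      simp only
      rw [if_pos (by omega), Nat.add_sub_cancel, hz']
      simp only
      rw [dif_pos v.2]
    rw [h2] at h1
    have h3 := hcast v.1 v.2.2.1
    have h4 := hβ0ne (v.1 + 1)
    have h5 := hβ1ne v.1
    field_simp at h1
    exact h1
  obtain ⟨e⟩ := range_equiv_of_factor π₀ π₁ ζ η s0 s1 hcomm P ha hb hc
  subst hη
  letI : Fintype {v : ℕ // v < n ∧ L1 v ≠ p - 1 ∧ L0 (v + 1) ≠ p - 1} := Fintype.ofFinite _
  have hfr : Module.finrank k (LinearMap.range ((groupCohomology.functor k G 1).map φ).hom) =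
      Nat.card {v : ℕ // v < n ∧ L1 v ≠ p - 1 ∧ L0 (v + 1) ≠ p - 1} := by
    rw [Nat.card_eq_fintype_card, ← Module.finrank_fintype_fun_eq_card (R := k)]
    exact LinearEquiv.finrank_eq e
  refine ⟨Module.Finite.equiv e.symm, ?_⟩
  rw [hfr, hL0, hL1, card_J' p n hn hpn]

end Groth.Agent.Lib.H6xASCover
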