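import Mathlib

/-!
# Chain maps from a single complex: cocycles and null-homotopies (helper6)
-/

set_option autoImplicit false

open CategoryTheory CategoryTheory.Limits CochainComplex CochainComplex.HomComplex

namespace Groth.Agent.Lib.H6xGamAc

variable {C : Type*} [Category C] [Preadditive C] [HasZeroObject C] {X : C}
  {K L : CochainComplex C ℤ}

/-- the chain map `X[-q] ⟶ K` attached to `f : X ⟶ K^q` with `f ≫ d = 0` -/
noncomputable def fromSingle (q : ℤ) (f : X ⟶ K.X q) (hf : f ≫ K.d q (q + 1) = 0) :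
    (CochainComplex.singleFunctor C q).obj X ⟶ K :=
  Cocycle.homOf (Cocycle.fromSingleMk f (add_zero q) (q + 1) rfl hf)

lemma fromSingle_surjective (q : ℤ) (φ : (CochainComplex.singleFunctor C q).obj X ⟶ K) :
    ∃ (f : X ⟶ K.X q) (hf : f ≫ K.d q (q + 1) = 0), fromSingle q f hf = φ := by
  obtain ⟨f, hf, h⟩ := Cocycle.fromSingleMk_surjective (Cocycle.ofHom φ) q (add_zero q)
    (q + 1) rfl
  refine ⟨f, hf, ?_⟩
  unfold fromSingle
  rw [h, Cocycle.homOf_ofHom_eq_self]

lemma fromSingle_comp (q : ℤ) (f : X ⟶ K.X q) (hf : f ≫ K.d q (q + 1) = 0) (p : K ⟶ L) :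
    fromSingle q f hf ≫ p = fromSingle q (f ≫ p.f q)
      (by rw [Category.assoc, p.comm, reassoc_of% hf, zero_comp]) := by
  unfold fromSingle
  rw [Cocycle.fromSingleMk_postcomp f (add_zero q) (q + 1) rfl hf p]
  apply (Cocycle.equivHom _ _).injective
  ext n
  simp [Cocycle.postcomp]

lemma homotopy_fromSingle_iff (q : ℤ) (f f' : X ⟶ K.X q) (hf : f ≫ K.d q (q + 1) = 0)
    (hf' : f' ≫ K.d q (q + 1) = 0) :
    Nonempty (Homotopy (fromSingle q f hf) (fromSingle q f' hf')) ↔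
      ∃ g : X ⟶ K.X (q - 1), g ≫ K.d (q - 1) q = f - f' := by
  have hsub : (f - f') ≫ K.d q (q + 1) = 0 := by rw [Preadditive.sub_comp, hf, hf', sub_zero]
  rw [← Cocycle.fromSingleMk_mem_coboundaries_iff (f - f') (add_zero q) (q + 1) rfl hsub (q - 1)
    (by simp), mem_coboundaries_iff _ (-1) (by simp),
    Cocycle.fromSingleMk_sub f f' (add_zero q) (q + 1) rfl hf hf']
  constructor
  · rintro ⟨H⟩
    obtain ⟨z, hz⟩ := Cochain.equivHomotopy _ _ H
    refine ⟨z, ?_⟩
    unfold fromSingle at hz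
    rw [Cocycle.cochain_ofHom_homOf_eq_coe, Cocycle.cochain_ofHom_homOf_eq_coe] at hz
    rw [Cocycle.coe_sub, hz, add_sub_cancel_right]
  · rintro ⟨z, hz⟩
    refine ⟨(Cochain.equivHomotopy _ _).symm ⟨z, ?_⟩⟩
    unfold fromSingle
    rw [Cocycle.cochain_ofHom_homOf_eq_coe, Cocycle.cochain_ofHom_homOf_eq_coe, hz,
      Cocycle.coe_sub, sub_add_cancel]

lemma fromSingle_zero (q : ℤ) :
    fromSingle (X := X) (K := K) q 0 zero_comp = 0 := by
  unfold fromSingle
  rw [Cocycle.fromSingleMk_zero]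
  rfl

lemma homotopy_fromSingle_zero_iff (q : ℤ) (f : X ⟶ K.X q) (hf : f ≫ K.d q (q + 1) = 0) :
    Nonempty (Homotopy (fromSingle q f hf) 0) ↔
      ∃ g : X ⟶ K.X (q - 1), g ≫ K.d (q - 1) q = f := by
  rw [← fromSingle_zero (X := X) (K := K) q, homotopy_fromSingle_iff, sub_zero]

end Groth.Agent.Lib.H6xGamAc
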