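import Mathlib
import Groth.Agent.Lib.Helper17Hyp9
import Groth.Agent.Lib.H6xGamAcB

/-!
# Classes of morphisms `Q(P[-n]) ⟶ Q(F)` in the derived category (helper6)
-/

set_option autoImplicit false

universe w v

open CategoryTheory CategoryTheory.Limits HomologicalComplex DerivedCategory

namespace Groth.Agent.Lib.H6xAffPush

open Groth.Agent.Lib.Helper17.Hyp Groth.Agent.Lib.H6xGamAc

variable {A : Type (v + 1)} [Category.{v} A] [Abelian A]

/-- the complex `P[-n]`. -/
noncomputable abbrev sglN (P : A) (n : ℤ) : CochainComplex A ℤ :=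
  (CochainComplex.singleFunctor A n).obj P

lemma fromSingle_f {P : A} {K : CochainComplex A ℤ} (n : ℤ) (w : P ⟶ K.X n)
    (hw : w ≫ K.d n (n + 1) = 0) :
    (fromSingle n w hw).f n = (HomologicalComplex.singleObjXSelf (ComplexShape.up ℤ) n P).hom ≫ w := by
  unfold fromSingle
  rw [CochainComplex.HomComplex.Cocycle.homOf_f]
  exact CochainComplex.HomComplex.Cochain.fromSingleMk_v w (add_zero n)

lemma homologyMap_fromSingle_aux {P : A} {K : CochainComplex A ℤ} (n : ℤ) (w : P ⟶ K.X n)
    (hw : w ≫ K.d n (n + 1) = 0)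
    (ψ : (HomologicalComplex.single A (ComplexShape.up ℤ) n).obj P ⟶ K)
    (hf : ψ.f n = (HomologicalComplex.singleObjXSelf (ComplexShape.up ℤ) n P).hom ≫ w) :
    (HomologicalComplex.singleObjHomologySelfIso (ComplexShape.up ℤ) n P).inv ≫
      HomologicalComplex.homologyMap ψ n =
      K.liftCycles w (n + 1) (by simp) hw ≫ K.homologyπ n := by
  rw [← HomologicalComplex.singleObjCyclesSelfIso_inv_homologyπ, Category.assoc,
    HomologicalComplex.homologyπ_naturality, ← Category.assoc]
  congr 1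
  rw [← cancel_mono (K.iCycles n), Category.assoc, HomologicalComplex.cyclesMap_i,
    HomologicalComplex.liftCycles_i, HomologicalComplex.singleObjCyclesSelfIso_inv_iCycles_assoc,
    hf, Iso.inv_hom_id_assoc]

lemma homologyMap_fromSingle {P : A} {K : CochainComplex A ℤ} (n : ℤ) (w : P ⟶ K.X n)
    (hw : w ≫ K.d n (n + 1) = 0) :
    (HomologicalComplex.singleObjHomologySelfIso (ComplexShape.up ℤ) n P).inv ≫
      HomologicalComplex.homologyMap (fromSingle n w hw) n =
      K.liftCycles w (n + 1) (by simp) hw ≫ K.homologyπ n :=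
  homologyMap_fromSingle_aux n w hw (fromSingle n w hw) (fromSingle_f n w hw)

variable [HasDerivedCategory.{w} A]

/-- `P ≅ H^n(Q(P[-n]))`. -/
noncomputable def ιN (P : A) (n : ℤ) : P ≅ (homologyFunctor A n).obj (Q.obj (sglN P n)) :=
  (HomologicalComplex.singleObjHomologySelfIso (ComplexShape.up ℤ) n P).symm ≪≫
    ((homologyFunctorFactors A n).app (sglN P n)).symm

/-- the class in `Hom(P, H^n F)` of a morphism `Q(P[-n]) ⟶ Q(F)`. -/
noncomputable def cls {P : A} {n : ℤ} {F : CochainComplex A ℤ}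
    (φ : (Q : _ ⥤ DerivedCategory A).obj (sglN P n) ⟶ Q.obj F) : P ⟶ F.homology n :=
  (ιN P n).hom ≫ (homologyFunctor A n).map φ ≫ (homologyFunctorFactors A n).hom.app F

lemma cls_Q_map {n : ℤ} {K F : CochainComplex A ℤ} (ψ : K ⟶ F) :
    (homologyFunctorFactors A n).inv.app K ≫ (homologyFunctor A n).map (Q.map ψ) ≫
      (homologyFunctorFactors A n).hom.app F = HomologicalComplex.homologyMap ψ n := by
  have := (homologyFunctorFactors A n).hom.naturality ψ
  dsimp only [Functor.comp_map] at this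
  rw [this, ← Category.assoc, Iso.inv_hom_id_app, Category.id_comp]
  rfl

lemma cls_Q_map_fromSingle {P : A} {F : CochainComplex A ℤ} (n : ℤ) (w : P ⟶ F.X n)
    (hw : w ≫ F.d n (n + 1) = 0) :
    cls (Q.map (fromSingle n w hw)) = F.liftCycles w (n + 1) (by simp) hw ≫ F.homologyπ n := by
  rw [← homologyMap_fromSingle]
  dsimp only [cls, ιN, Iso.trans_hom, Iso.symm_hom, Iso.app_inv]
  rw [Category.assoc]
  congr 1
  exact cls_Q_map (fromSingle n w hw)

lemma cls_zero {P : A} {n : ℤ} {F : CochainComplex A ℤ} :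
    cls (0 : (Q : _ ⥤ DerivedCategory A).obj (sglN P n) ⟶ Q.obj F) = 0 := by
  dsimp only [cls]
  rw [Functor.map_zero, zero_comp, comp_zero]

lemma cls_sub {P : A} {n : ℤ} {F : CochainComplex A ℤ}
    (φ φ' : (Q : _ ⥤ DerivedCategory A).obj (sglN P n) ⟶ Q.obj F) :
    cls (φ - φ') = cls φ - cls φ' := by
  dsimp only [cls]
  rw [Functor.map_sub, Preadditive.sub_comp, Preadditive.comp_sub]

lemma eq_zero_of_cls_eq_zero {P : A} {n : ℤ} {F : CochainComplex A ℤ}
    (hinj : Function.Injective (cm (P := P) (K := (Q : _ ⥤ DerivedCategory A).obj F) (m := n)))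
    (φ : (Q : _ ⥤ DerivedCategory A).obj (sglN P n) ⟶ Q.obj F) (h : cls φ = 0) : φ = 0 := by
  have hH : (homologyFunctor A n).map φ = 0 := by
    dsimp only [cls] at h
    have h1 : (homologyFunctor A n).map φ ≫ (homologyFunctorFactors A n).hom.app F = 0 :=
      (cancel_epi (ιN P n).hom).1 (h.trans comp_zero.symm)
    rw [← cancel_mono ((homologyFunctorFactors A n).hom.app F), h1, zero_comp]
  let σ : ((Q : _ ⥤ DerivedCategory A).obj (sglN P n))⟦n⟧ ≅ dsgl P :=
    ((DerivedCategory.singleFunctors A).shiftIso n 0 n (add_zero n)).app P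
  have hξ : cm (σ.inv ≫ φ⟦n⟧') = 0 := by
    dsimp only [cm]
    rw [c₀_comp, Category.assoc, shIso_hom_naturality, hH, comp_zero, comp_zero]
  have h0 : σ.inv ≫ φ⟦n⟧' = 0 := hinj (hξ.trans cm_zero.symm)
  have h1 : φ⟦n⟧' = 0 := by
    rw [← cancel_epi σ.inv, h0, comp_zero]
  exact (shiftFunctor (DerivedCategory A) n).map_injective (h1.trans (Functor.map_zero _ _ _).symm)

end Groth.Agent.Lib.H6xAffPush
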