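import Groth.Agent.Lib.Helper17Hyp17
import Groth.Agent.Lib.Helper17Hyp8
import Mathlib.Algebra.Homology.DerivedCategory.FullyFaithful

/-!
# Bijectivity of `cm : Hom_{D(A)}(P[0], Z[m]) → Hom_A(P, H^m Z)` (helper6)

* `cm_bijective_transfer`: transfer along a morphism inducing bijections on `Hom(P[0], -[m])`
  and an isomorphism on `H^m`;
* `cm_bijective_of_isGE`: `cm` is bijective when `H^i Z = 0` for `i < m`.
-/

set_option autoImplicit false

universe w v u

open CategoryTheory CategoryTheory.Limits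

namespace Groth.Agent.Lib.H6xBasisCoh

open DerivedCategory Pretriangulated Groth.Agent.S14388 Groth.Agent.Lib.Helper17.Hyp

variable {A : Type u} [Category.{v} A] [Abelian A] [HasDerivedCategory.{w} A]

lemma cm_bijective_transfer_iff (P₀ : A) {Z Z' : DerivedCategory A} (φ : Z ⟶ Z') (m : ℤ)
    (hφ : Function.Bijective (fun y : dsgl P₀ ⟶ Z⟦m⟧ => y ≫ φ⟦m⟧'))
    (hH : IsIso ((homologyFunctor A m).map φ)) :
    Function.Bijective (cm (P := P₀) (K := Z) (m := m)) ↔
      Function.Bijective (cm (P := P₀) (K := Z') (m := m)) := by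
  have hcomp : (fun g : P₀ ⟶ (homologyFunctor A m).obj Z => g ≫ (homologyFunctor A m).map φ) ∘
      (cm (P := P₀) (K := Z) (m := m)) =
      (cm (P := P₀) (K := Z') (m := m)) ∘ (fun y : dsgl P₀ ⟶ Z⟦m⟧ => y ≫ φ⟦m⟧') := by
    funext y
    exact (cm_comp y φ).symm
  have h1 : Function.Bijective
      (fun g : P₀ ⟶ (homologyFunctor A m).obj Z => g ≫ (homologyFunctor A m).map φ) :=
    ((asIso ((homologyFunctor A m).map φ)).homToEquiv (Z := P₀)).bijective
  rw [← Function.Bijective.of_comp_iff' h1 (cm (P := P₀) (K := Z) (m := m)), hcomp,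
    Function.Bijective.of_comp_iff _ hφ]

lemma c₀_bijective_of_iso (P₀ H' : A) (V : DerivedCategory A) (κ : V ≅ dsgl H') :
    Function.Bijective (c₀ (P := P₀) (K := V)) := by
  have hcomp : (c₀ (P := P₀) (K := V)) ∘
      (fun g : P₀ ⟶ H' => (singleFunctor A 0).map g ≫ κ.inv) =
      fun g : P₀ ⟶ H' => g ≫ c₀ κ.inv := by
    funext g
    exact c₀_precomp g κ.inv
  haveI : IsIso (c₀ κ.inv) := by
    dsimp only [c₀]
    infer_instance
  have h1 : Function.Bijective (fun g : P₀ ⟶ H' => g ≫ c₀ κ.inv) :=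
    ((asIso (c₀ κ.inv)).homToEquiv (Z := P₀)).bijective
  have h2 : Function.Bijective (fun g : P₀ ⟶ H' => (singleFunctor A 0).map g ≫ κ.inv) := by
    have : (fun g : P₀ ⟶ H' => (singleFunctor A 0).map g ≫ κ.inv) =
        (κ.symm.homToEquiv (Z := dsgl P₀)) ∘ (fun g : P₀ ⟶ H' => (singleFunctor A 0).map g) := rfl
    rw [this]
    exact (Equiv.bijective _).comp
      ⟨(singleFunctor A 0).map_injective, (singleFunctor A 0).map_surjective⟩
  rw [← hcomp] at h1
  exact (Function.Bijective.of_comp_iff _ h2).1 h1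

theorem cm_bijective_of_isGE (P₀ : A) (Z : DerivedCategory A) (m : ℤ)
    (hZ : ∀ i : ℤ, i < m → IsZero ((homologyFunctor A i).obj Z)) :
    Function.Bijective (cm (P := P₀) (K := Z) (m := m)) := by
  let X := (tt.truncLT (m + 1)).obj Z
  let Y := (tt.truncGE (m + 1)).obj Z
  have hT := tt.triangleLTGE_distinguished (m + 1) Z
  haveI hXle : X.IsLE m :=
    tt.isLE_of_le ((tt.truncLT (m + 1)).obj Z) (m + 1 - 1) m (by omega)
  haveI hXge : X.IsGE m := by
    rw [isGE_iff]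
    intro i hi
    have := isIso_homology_truncLTι (m + 1) i (by omega) Z
    exact IsZero.of_iso (hZ i hi)
      (asIso ((homologyFunctor A i).map ((tt.truncLTι (m + 1)).app Z)))
  obtain ⟨H, ⟨θ⟩⟩ := exists_iso_singleFunctor_obj_of_isGE_of_isLE X m
  have h3 : ∀ j : ℤ, j ≤ m → Subsingleton (dsgl P₀ ⟶ Y⟦j⟧) := by
    intro j hj
    haveI : tt.IsGE (Y⟦j⟧) (m + 1 - j) := tt.isGE_shift Y (m + 1) j (m + 1 - j) (by omega)
    haveI : tt.IsGE (Y⟦j⟧) 1 := tt.isGE_of_ge _ 1 (m + 1 - j) (by omega)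
    haveI : tt.IsLE (dsgl P₀) 0 :=
      (inferInstance : ((singleFunctor A 0).obj P₀).IsLE 0)
    exact ⟨fun y y' => by rw [tt.zero y 0 1 (by omega), tt.zero y' 0 1 (by omega)]⟩
  have hb := bijective_postcomp_mor₁ _ hT (dsgl P₀) (m - 1) m (by omega)
    (h3 (m - 1) (by omega)) (h3 m le_rfl)
  refine (cm_bijective_transfer_iff P₀ ((tt.truncLTι (m + 1)).app Z) m hb
    (isIso_homology_truncLTι (m + 1) m (by omega) Z)).1 ?_
  -- `X[m] ≅ H[0]`
  let κ : X⟦m⟧ ≅ dsgl H :=
    (shiftFunctor (DerivedCategory A) m).mapIso θ ≪≫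
      ((singleFunctors A).shiftIso m 0 m (add_zero m)).app H
  have hc := c₀_bijective_of_iso P₀ H (X⟦m⟧) κ
  have : (cm (P := P₀) (K := X) (m := m)) =
      ((shIso X m).homToEquiv (Z := P₀)) ∘ (c₀ (P := P₀) (K := X⟦m⟧)) := rfl
  rw [this]
  exact (Equiv.bijective _).comp hc

end Groth.Agent.Lib.H6xBasisCoh
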