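import Mathlib
import Groth.Agent.Lib.Helper17PCoh4
set_option backward.isDefEq.respectTransparency.types false

/-!
# Homological algebra for pseudo-coherence in triangles (helper6)

* brutal truncation `sigmaGE K m` (definition copied from helper1's `Helper1BKF15`) and the
  behaviour of `sigmaGEι` on homology;
* the ladder lemma for a morphism of mapping cones induced by a homotopy commutative square.
-/

set_option autoImplicit false
set_option linter.style.haveILetI false
universe v u
open CategoryTheory CategoryTheory.Limits HomologicalComplex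

namespace Groth.Agent.Lib.H6xPC3

section natIso

lemma epi_map_of_natIso' {C D : Type*} [Category C] [Category D] {G H : C ⥤ D} (e : G ≅ H)
    {X Y : C} (f : X ⟶ Y) [Epi (H.map f)] : Epi (G.map f) := by
  have h : G.map f = e.hom.app X ≫ H.map f ≫ e.inv.app Y := by simp
  rw [h]
  haveI : Epi (H.map f ≫ e.inv.app Y) := epi_comp _ _
  exact epi_comp _ _

lemma mono_map_of_natIso' {C D : Type*} [Category C] [Category D] {G H : C ⥤ D} (e : G ≅ H)
    {X Y : C} (f : X ⟶ Y) [Mono (H.map f)] : Mono (G.map f) := by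
  have h : G.map f = e.hom.app X ≫ H.map f ≫ e.inv.app Y := by simp
  rw [h]
  haveI : Mono (H.map f ≫ e.inv.app Y) := mono_comp _ _
  exact mono_comp _ _

end natIso

section trunc

variable {A : Type u} [Category.{v} A] [Abelian A] (K : CochainComplex A ℤ) (m : ℤ)

/-- the endomorphism of `K^q` whose kernel is the `q`-th term of the brutal truncation -/
noncomputable def te (q : ℤ) : K.X q ⟶ K.X q := if m ≤ q then 0 else 𝟙 _

lemma te_of_le {q : ℤ} (h : m ≤ q) : te K m q = 0 := if_pos h

lemma te_of_lt {q : ℤ} (h : q < m) : te K m q = 𝟙 _ := if_neg (by omega)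

lemma kernel_ι_te_of_lt {q : ℤ} (h : q < m) : kernel.ι (te K m q) = 0 := by
  exact (Category.comp_id _).symm.trans
    ((congrArg (fun t => kernel.ι (te K m q) ≫ t) (te_of_lt K m h)).symm.trans
      (kernel.condition _))

lemma ι_d_te (q q' : ℤ) : kernel.ι (te K m q) ≫ K.d q q' ≫ te K m q' = 0 := by
  by_cases hq' : m ≤ q'
  · rw [te_of_le K m hq', comp_zero, comp_zero]
  · by_cases hr : q + 1 = q'
    · rw [kernel_ι_te_of_lt K m (by omega), zero_comp]
    · rw [K.shape _ _ hr, zero_comp, comp_zero]

/-- the brutal truncation `σ_{≥ m} K` -/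
noncomputable def sigmaGE : CochainComplex A ℤ where
  X q := kernel (te K m q)
  d q q' := kernel.lift _ (kernel.ι (te K m q) ≫ K.d q q')
    (by rw [Category.assoc]; exact ι_d_te K m q q')
  shape q q' h := by
    rw [← cancel_mono (kernel.ι _), kernel.lift_ι, K.shape _ _ h, comp_zero, zero_comp]
  d_comp_d' q q' q'' _ _ := by
    rw [← cancel_mono (kernel.ι _), Category.assoc, kernel.lift_ι, kernel.lift_ι_assoc,
      Category.assoc, K.d_comp_d, comp_zero, zero_comp]

/-- the inclusion `σ_{≥ m} K ⟶ K` -/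
noncomputable def sigmaGEι : sigmaGE K m ⟶ K where
  f q := kernel.ι _
  comm' _ _ _ := by
    dsimp [sigmaGE]
    rw [kernel.lift_ι]

lemma isIso_sigmaGEι_f {q : ℤ} (h : m ≤ q) : IsIso ((sigmaGEι K m).f q) :=
  kernel.ι_of_zero (te_of_le K m h)

lemma isZero_sigmaGE_X {q : ℤ} (h : q < m) : IsZero ((sigmaGE K m).X q) := by
  have : Mono (te K m q) := by rw [te_of_lt K m h]; infer_instance
  exact isZero_kernel_of_mono _

end trunc

section homologyOfTrunc

variable {A : Type u} [Category.{v} A] [Abelian A] {K' K : CochainComplex A ℤ} (φ : K' ⟶ K)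
  (m : ℤ) (hφ : ∀ q, m ≤ q → IsIso (φ.f q))

include hφ

lemma isIso_homologyMap_of_isIso_f_ge (q : ℤ) (hq : m < q) : IsIso (homologyMap φ q) := by
  have h₁ : IsIso (φ.f ((ComplexShape.up ℤ).prev q)) := by
    rw [CochainComplex.prev]; exact hφ _ (by omega)
  have h₂ : IsIso (φ.f q) := hφ _ (by omega)
  have h₃ : IsIso (φ.f ((ComplexShape.up ℤ).next q)) := by
    rw [CochainComplex.next]; exact hφ _ (by omega)
  exact ShortComplex.isIso_homologyMap_of_epi_of_isIso_of_mono'
    ((shortComplexFunctor A (ComplexShape.up ℤ) q).map φ)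
    (show Epi (φ.f ((ComplexShape.up ℤ).prev q)) from inferInstance)
    (show IsIso (φ.f q) from h₂)
    (show Mono (φ.f ((ComplexShape.up ℤ).next q)) from inferInstance)

lemma epi_homologyMap_of_isIso_f_ge : Epi (homologyMap φ m) := by
  have h₂ : IsIso (φ.f m) := hφ _ le_rfl
  have h₃ : IsIso (φ.f ((ComplexShape.up ℤ).next m)) := by
    rw [CochainComplex.next]; exact hφ _ (by omega)
  haveI : IsIso (cyclesMap φ m) :=
    ShortComplex.isIso_cyclesMap_of_isIso_of_mono'
      ((shortComplexFunctor A (ComplexShape.up ℤ) m).map φ)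
      (show IsIso (φ.f m) from h₂)
      (show Mono (φ.f ((ComplexShape.up ℤ).next m)) from inferInstance)
  have h := homologyπ_naturality φ m
  haveI : Epi (K'.homologyπ m ≫ homologyMap φ m) := by
    rw [h]; infer_instance
  exact epi_of_epi (K'.homologyπ m) _

end homologyOfTrunc

section sigmaHomology

variable {A : Type u} [Category.{v} A] [Abelian A] (K : CochainComplex A ℤ) (m : ℤ)

lemma isIso_homologyMap_sigmaGEι (q : ℤ) (hq : m < q) : IsIso (homologyMap (sigmaGEι K m) q) :=
  isIso_homologyMap_of_isIso_f_ge _ m (fun _ h => isIso_sigmaGEι_f K m h) q hq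

lemma epi_homologyMap_sigmaGEι : Epi (homologyMap (sigmaGEι K m) m) :=
  epi_homologyMap_of_isIso_f_ge _ m (fun _ h => isIso_sigmaGEι_f K m h)

end sigmaHomology

section cone

open CochainComplex

variable {C : Type u} [Category.{v} C] [Abelian C]
  {K₁ L₁ K₂ L₂ : CochainComplex C ℤ} {φ₁ : K₁ ⟶ L₁} {φ₂ : K₂ ⟶ L₂}
  {a : K₁ ⟶ K₂} {b : L₁ ⟶ L₂} (H : Homotopy (φ₁ ≫ b) (a ≫ φ₂))

theorem triangleRotateShortComplex_shortExact {K L : CochainComplex C ℤ} (φ : K ⟶ L) :
    (mappingCone.triangleRotateShortComplex φ).ShortExact :=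
  HomologicalComplex.shortExact_of_degreewise_shortExact _
    (fun i => (mappingCone.triangleRotateShortComplexSplitting φ i).shortExact)

/-- the morphism of rotated short exact sequences induced by a homotopy commutative square -/
noncomputable def rotateMapOfHomotopy :
    mappingCone.triangleRotateShortComplex φ₁ ⟶ mappingCone.triangleRotateShortComplex φ₂ where
  τ₁ := b
  τ₂ := mappingCone.mapOfHomotopy H
  τ₃ := a⟦(1 : ℤ)⟧'
  comm₁₂ := (mappingCone.triangleMapOfHomotopy_comm₂ H).symm
  comm₂₃ := mappingCone.triangleMapOfHomotopy_comm₃ H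

lemma isIso_homologyMap_shift_one (i j : ℤ) (h : 1 + i = j) [IsIso (homologyMap a j)] :
    IsIso (homologyMap (a⟦(1 : ℤ)⟧') i) := by
  rw [← quasiIsoAt_iff_isIso_homologyMap, quasiIsoAt_shift_iff a 1 i j h,
    quasiIsoAt_iff_isIso_homologyMap]
  infer_instance

lemma epi_homologyMap_shift_one (i j : ℤ) (h : 1 + i = j) [hj : Epi (homologyMap a j)] :
    Epi (homologyMap (a⟦(1 : ℤ)⟧') i) := by
  haveI : Epi (((homologyFunctor C (ComplexShape.up ℤ) 0).shift j).map a) := hj
  exact epi_map_of_natIso' ((homologyFunctor C (ComplexShape.up ℤ) 0).shiftIso 1 i j h) a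

lemma mono_homologyMap_shift_one (i j : ℤ) (h : 1 + i = j) [hj : Mono (homologyMap a j)] :
    Mono (homologyMap (a⟦(1 : ℤ)⟧') i) := by
  haveI : Mono (((homologyFunctor C (ComplexShape.up ℤ) 0).shift j).map a) := hj
  exact mono_map_of_natIso' ((homologyFunctor C (ComplexShape.up ℤ) 0).shiftIso 1 i j h) a

open Groth.Agent.Lib.Helper17.PCoh4 in
/-- the ladder lemma for mapping cones -/
theorem cone_ladder (m : ℤ)
    (ha : ∀ i, m + 1 < i → IsIso (homologyMap a i)) (ha' : Epi (homologyMap a (m + 1)))
    (hb : ∀ i, m < i → IsIso (homologyMap b i)) (hb' : Epi (homologyMap b m)) :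
    (∀ i, m < i → IsIso (homologyMap (mappingCone.mapOfHomotopy H) i)) ∧
      Epi (homologyMap (mappingCone.mapOfHomotopy H) m) := by
  have hS₁ := triangleRotateShortComplex_shortExact φ₁
  have hS₂ := triangleRotateShortComplex_shortExact φ₂
  have epi_a : ∀ i, m + 1 ≤ i → Epi (homologyMap a i) := by
    intro i hi
    rcases hi.eq_or_lt with rfl | h
    · exact ha'
    · haveI := ha i h; infer_instance
  have epi_b : ∀ i, m ≤ i → Epi (homologyMap b i) := by
    intro i hi
    rcases hi.eq_or_lt with rfl | h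
    · exact hb'
    · haveI := hb i h; infer_instance
  have key_epi : ∀ i, m ≤ i → Epi (homologyMap (mappingCone.mapOfHomotopy H) i) := by
    intro i hi
    haveI := epi_a (i + 1) (by omega)
    haveI := hb (i + 1) (by omega)
    exact epi_homologyMap_τ₂ (rotateMapOfHomotopy H) hS₁ hS₂ i (i + 1) rfl (epi_b i hi)
      (epi_homologyMap_shift_one (a := a) i (i + 1) (by omega))
      (show Mono (homologyMap b (i + 1)) from inferInstance)
  refine ⟨fun j hj => ?_, key_epi m le_rfl⟩
  haveI := key_epi j hj.le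
  haveI : Mono (homologyMap (mappingCone.mapOfHomotopy H) j) := by
    haveI := epi_a j (by omega)
    haveI := hb j hj
    haveI := ha (j + 1) (by omega)
    exact mono_homologyMap_τ₂ (rotateMapOfHomotopy H) hS₁ hS₂ (j - 1) j (by simp)
      (epi_homologyMap_shift_one (a := a) (j - 1) j (by omega))
      (show Mono (homologyMap b j) from inferInstance)
      (mono_homologyMap_shift_one (a := a) j (j + 1) (by omega))
  exact isIso_of_mono_of_epi _

end cone

end Groth.Agent.Lib.H6xPC3
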