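import Mathlib
import Groth.Agent.Lib.H6xAffPushB
import Groth.Agent.Lib.H6xBasisCohA
import Groth.Agent.Lib.H6xPC3A
import Groth.Agent.Lib.Helper1Devissage
set_option backward.isDefEq.respectTransparency.types false

/-!
# Morphisms `P[-n] ⟶ F` in the derived category, for `F` a complex of `P`-acyclic objects
(helper6) — part A: brutal truncation triangles, the shift bijection `toSh`, and representability
of morphisms `Q(P[-n]) ⟶ Q(T)` by cocycles when `T` vanishes below degree `n`.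
-/

set_option autoImplicit false
set_option linter.style.haveILetI false

universe w v

open CategoryTheory CategoryTheory.Limits HomologicalComplex DerivedCategory Pretriangulated

namespace Groth.Agent.Lib.H6xAcPush

open Groth.Agent.Lib.Helper17.Hyp Groth.Agent.Lib.H6xGamAc Groth.Agent.Lib.H6xAffPush
  Groth.Agent.Lib.H6xPC3

variable {A : Type (v + 1)} [Category.{v} A] [Abelian A]

lemma mono_sigmaGEι (K : CochainComplex A ℤ) (m : ℤ) : Mono (sigmaGEι K m) := by
  apply HomologicalComplex.mono_of_mono_f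
  intro q
  by_cases h : m ≤ q
  · haveI := isIso_sigmaGEι_f K m h
    infer_instance
  · exact (isZero_sigmaGE_X K m (by omega)).mono _

lemma isZero_homology_of_isZero_X (T : CochainComplex A ℤ) (i : ℤ) (h : IsZero (T.X i)) :
    IsZero (T.homology i) := by
  have h1 : (T.sc i).Exact := ShortComplex.exact_of_isZero_X₂ _ h
  exact (T.exactAt_iff_isZero_homology i).1 ((T.exactAt_iff i).2 h1)

section

variable [HasDerivedCategory.{w} A]

/-- the brutal truncation triangle `σ_{≥ m} K ⟶ K ⟶ σ_{< m} K ⟶`. -/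
lemma exists_trunc_triangle (K : CochainComplex A ℤ) (m : ℤ) :
    ∃ (G : CochainComplex A ℤ) (π : K ⟶ G)
      (δ : (Q : _ ⥤ DerivedCategory A).obj G ⟶ (Q.obj (sigmaGE K m))⟦(1 : ℤ)⟧),
      Triangle.mk (Q.map (sigmaGEι K m)) (Q.map π) δ ∈ distTriang (DerivedCategory A) ∧
      (∀ j : ℤ, m ≤ j → IsZero (G.X j)) ∧ (∀ j : ℤ, j < m → IsIso (π.f j)) := by
  haveI := mono_sigmaGEι K m
  let S : ShortComplex (CochainComplex A ℤ) :=
    ShortComplex.mk (sigmaGEι K m) (cokernel.π (sigmaGEι K m)) (cokernel.condition _)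
  have hS : S.ShortExact :=
    { exact := ShortComplex.exact_cokernel _
      mono_f := inferInstanceAs (Mono (sigmaGEι K m))
      epi_g := inferInstanceAs (Epi (cokernel.π (sigmaGEι K m))) }
  have hSi : ∀ i : ℤ, (S.map (eval _ _ i)).ShortExact :=
    (HomologicalComplex.shortExact_iff_degreewise_shortExact S).1 hS
  refine ⟨cokernel (sigmaGEι K m), cokernel.π _, triangleOfSESδ hS,
    triangleOfSES_distinguished hS, ?_, ?_⟩
  · intro j hj
    exact (hSi j).isIso_f_iff.1 (isIso_sigmaGEι_f K m hj)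
  · intro j hj
    exact (hSi j).isIso_g_iff.2 (isZero_sigmaGE_X K m hj)

/-- `Q(P[-n])[n] ≅ P[0]`. -/
noncomputable def σN (P : A) (n : ℤ) :
    ((Q : _ ⥤ DerivedCategory A).obj (sglN P n))⟦n⟧ ≅ dsgl P :=
  ((DerivedCategory.singleFunctors A).shiftIso n 0 n (add_zero n)).app P

/-- the bijection `Hom(Q(P[-n]), K) ≃ Hom(P[0], K[n])`. -/
noncomputable def toSh {P : A} {n : ℤ} {K : DerivedCategory A}
    (φ : (Q : _ ⥤ DerivedCategory A).obj (sglN P n) ⟶ K) : dsgl P ⟶ K⟦n⟧ :=
  (σN P n).inv ≫ φ⟦n⟧'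

lemma toSh_comp {P : A} {n : ℤ} {K K' : DerivedCategory A}
    (φ : (Q : _ ⥤ DerivedCategory A).obj (sglN P n) ⟶ K) (g : K ⟶ K') :
    toSh (φ ≫ g) = toSh φ ≫ g⟦n⟧' := by
  dsimp only [toSh]
  rw [Functor.map_comp, Category.assoc]

lemma toSh_zero {P : A} {n : ℤ} {K : DerivedCategory A} :
    toSh (0 : (Q : _ ⥤ DerivedCategory A).obj (sglN P n) ⟶ K) = 0 := by
  dsimp only [toSh]
  rw [Functor.map_zero, comp_zero]

lemma toSh_injective {P : A} {n : ℤ} {K : DerivedCategory A} :
    Function.Injective (toSh (P := P) (n := n) (K := K)) := by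
  intro φ φ' h
  dsimp only [toSh] at h
  exact (shiftFunctor (DerivedCategory A) n).map_injective ((cancel_epi _).1 h)

lemma toSh_surjective {P : A} {n : ℤ} {K : DerivedCategory A} :
    Function.Surjective (toSh (P := P) (n := n) (K := K)) := by
  intro ξ
  obtain ⟨φ, hφ⟩ := (shiftFunctor (DerivedCategory A) n).map_surjective ((σN P n).hom ≫ ξ)
  refine ⟨φ, ?_⟩
  dsimp only [toSh]
  rw [hφ, Iso.inv_hom_id_assoc]

lemma eq_zero_of_toSh {P : A} {n : ℤ} {K : DerivedCategory A}
    (h : ∀ ξ : dsgl P ⟶ K⟦n⟧, ξ = 0)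
    (φ : (Q : _ ⥤ DerivedCategory A).obj (sglN P n) ⟶ K) : φ = 0 :=
  toSh_injective ((h _).trans toSh_zero.symm)

/-- every morphism `Q(P[-n]) ⟶ Q(T)` is given by a cocycle when `T` vanishes below degree `n`. -/
theorem exists_fromSingle_of_isZero_lt (P : A) (T : CochainComplex A ℤ) (n : ℤ)
    (hT : ∀ j : ℤ, j < n → IsZero (T.X j))
    (φ : (Q : _ ⥤ DerivedCategory A).obj (sglN P n) ⟶ Q.obj T) :
    ∃ (w : P ⟶ T.X n) (hw : w ≫ T.d n (n + 1) = 0), φ = Q.map (fromSingle n w hw) := by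
  haveI hπ : IsIso (T.homologyπ n) :=
    T.isIso_homologyπ (n - 1) n (by simp) ((hT (n - 1) (by omega)).eq_of_src _ _)
  let c : P ⟶ T.cycles n := cls φ ≫ inv (T.homologyπ n)
  have hw : (c ≫ T.iCycles n) ≫ T.d n (n + 1) = 0 := by
    rw [Category.assoc, HomologicalComplex.iCycles_d, comp_zero]
  have hl : T.liftCycles (c ≫ T.iCycles n) (n + 1) (by simp) hw = c := by
    rw [← cancel_mono (T.iCycles n), HomologicalComplex.liftCycles_i]
  have h1 : cls (Q.map (fromSingle n (c ≫ T.iCycles n) hw) - φ) = 0 := by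
    rw [cls_sub, cls_Q_map_fromSingle, hl]
    dsimp only [c]
    rw [Category.assoc, IsIso.inv_hom_id, Category.comp_id, sub_self]
  have hZ : ∀ i : ℤ, i < n → IsZero ((homologyFunctor A i).obj (Q.obj T)) := fun i hi =>
    IsZero.of_iso (isZero_homology_of_isZero_X T i (hT i hi))
      ((homologyFunctorFactors A i).app T)
  have h2 := sub_eq_zero.1 (eq_zero_of_cls_eq_zero
    (Groth.Agent.Lib.H6xBasisCoh.cm_bijective_of_isGE P (Q.obj T) n hZ).1 _ h1)
  exact ⟨_, hw, h2.symm⟩

end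

end Groth.Agent.Lib.H6xAcPush
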