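import Mathlib
import Groth.Agent.Lib.H6xAcPushA
set_option backward.isDefEq.respectTransparency.types false

/-!
# Morphisms `P[-n] ⟶ F` in the derived category (helper6) — part B: a cocycle `P ⟶ T^n` whose
class in `Hom_D(P[-n], T)` vanishes is a coboundary when `T` vanishes below degree `n - 1`.
-/

set_option autoImplicit false
set_option linter.style.haveILetI false

universe w v

open CategoryTheory CategoryTheory.Limits HomologicalComplex DerivedCategory Pretriangulated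

namespace Groth.Agent.Lib.H6xAcPush

open Groth.Agent.Lib.Helper17.Hyp Groth.Agent.Lib.H6xGamAc Groth.Agent.Lib.H6xAffPush
  Groth.Agent.Lib.H6xPC3

variable {A : Type (v + 1)} [Category.{v} A] [Abelian A]

lemma isIso_f_of_quasiIsoAt {K L : CochainComplex A ℤ} (μ : K ⟶ L) (a : ℤ) [QuasiIsoAt μ a]
    (hK1 : IsZero (K.X (a - 1))) (hK2 : IsZero (K.X (a + 1)))
    (hL1 : IsZero (L.X (a - 1))) (hL2 : IsZero (L.X (a + 1))) : IsIso (μ.f a) := by
  haveI := K.isIso_iCycles a (a + 1) (by simp) (hK2.eq_of_tgt _ _)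
  haveI := L.isIso_iCycles a (a + 1) (by simp) (hL2.eq_of_tgt _ _)
  haveI := K.isIso_homologyπ (a - 1) a (by simp) (hK1.eq_of_src _ _)
  haveI := L.isIso_homologyπ (a - 1) a (by simp) (hL1.eq_of_src _ _)
  haveI : IsIso (homologyMap μ a) := (quasiIsoAt_iff_isIso_homologyMap μ a).1 inferInstance
  have h1 : cyclesMap μ a = K.homologyπ a ≫ homologyMap μ a ≫ inv (L.homologyπ a) := by
    rw [← Category.assoc, IsIso.eq_comp_inv, homologyπ_naturality]
  have h2 : μ.f a = inv (K.iCycles a) ≫ cyclesMap μ a ≫ L.iCycles a := by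
    rw [IsIso.eq_inv_comp, cyclesMap_i]
  rw [h2, h1]
  infer_instance

variable [HasDerivedCategory.{w} A]

open CochainComplex in
theorem exists_boundary_of_Q_map_eq_zero (P : A) (T : CochainComplex A ℤ) (a n : ℤ)
    (han : a + 1 = n) (hT : ∀ j : ℤ, j < a → IsZero (T.X j)) (w : P ⟶ T.X n)
    (hw : w ≫ T.d n (n + 1) = 0)
    (h0 : (Q : _ ⥤ DerivedCategory A).map (fromSingle n w hw) = 0) :
    ∃ x : P ⟶ T.X a, x ≫ T.d a n = w := by
  subst han
  let ψ := fromSingle (a + 1) w hw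
  let E := mappingCone ψ
  let Tr := (Q : _ ⥤ DerivedCategory A).mapTriangle.obj (mappingCone.triangle ψ)
  have hTr : Tr ∈ distTriang (DerivedCategory A) :=
    (mem_distTriang_iff _).2 ⟨_, _, ψ, ⟨Iso.refl _⟩⟩
  let δc : E ⟶ (sglN P (a + 1))⟦(1 : ℤ)⟧ := (mappingCone.triangle ψ).mor₃
  obtain ⟨g, hg⟩ : ∃ g : ((Q : _ ⥤ DerivedCategory A).obj (sglN P (a + 1)))⟦(1 : ℤ)⟧ ⟶ Q.obj E,
      𝟙 _ = g ≫ (Q.map δc ≫ (Q.commShiftIso (1 : ℤ)).hom.app (sglN P (a + 1))) :=
    Triangle.coyoneda_exact₁ Tr hTr (𝟙 (Tr.obj₁⟦(1 : ℤ)⟧)) (by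
      change 𝟙 _ ≫ (Q.map ψ)⟦(1 : ℤ)⟧' = 0
      rw [h0, Functor.map_zero, comp_zero])
  have hg' : g ≫ Q.map δc = (Q.commShiftIso (1 : ℤ)).inv.app (sglN P (a + 1)) := by
    have h2 := (Q.commShiftIso (1 : ℤ)).inv_hom_id_app (sglN P (a + 1))
    apply (cancel_mono ((Q.commShiftIso (1 : ℤ)).hom.app (sglN P (a + 1)))).1
    rw [Category.assoc]
    exact hg.symm.trans h2.symm
  have hE : ∀ j : ℤ, j < a → IsZero (E.X j) := by
    intro j hj
    rw [IsZero.iff_id_eq_zero, ← mappingCone.id_X ψ j (j + 1) rfl]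
    have h1 : IsZero ((sglN P (a + 1)).X (j + 1)) :=
      isZero_single_obj_X (ComplexShape.up ℤ) (a + 1) P (j + 1) (by omega)
    have h2 : IsZero (T.X j) := hT j hj
    rw [h2.eq_of_src ((mappingCone.inr ψ).f j) 0, comp_zero, add_zero,
      h1.eq_of_src ((mappingCone.inl ψ).v (j + 1) j (by omega)) 0, comp_zero]
  let θ : (Q : _ ⥤ DerivedCategory A).obj (sglN P a) ≅ (Q.obj (sglN P (a + 1)))⟦(1 : ℤ)⟧ :=
    (((DerivedCategory.singleFunctors A).shiftIso 1 a (a + 1) (by omega)).app P).symm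
  obtain ⟨c, hc, hs⟩ := exists_fromSingle_of_isZero_lt P E a hE (θ.hom ≫ g)
  let μ : sglN P a ⟶ (sglN P (a + 1))⟦(1 : ℤ)⟧ := fromSingle a c hc ≫ δc
  have hμ : IsIso ((Q : _ ⥤ DerivedCategory A).map μ) := by
    have h1 : (Q : _ ⥤ DerivedCategory A).map μ =
        θ.hom ≫ (Q.commShiftIso (1 : ℤ)).inv.app (sglN P (a + 1)) := by
      dsimp only [μ]
      rw [Functor.map_comp, ← hs, Category.assoc, hg']
    rw [h1]
    infer_instance
  haveI : QuasiIso μ := (DerivedCategory.isIso_Q_map_iff_quasiIso (C := A) μ).1 hμ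
  haveI : IsIso (μ.f a) := by
    refine isIso_f_of_quasiIsoAt μ a ?_ ?_ ?_ ?_
    · exact isZero_single_obj_X (ComplexShape.up ℤ) a P (a - 1) (by omega)
    · exact isZero_single_obj_X (ComplexShape.up ℤ) a P (a + 1) (by omega)
    · change IsZero ((sglN P (a + 1)).X (a - 1 + 1))
      exact isZero_single_obj_X (ComplexShape.up ℤ) (a + 1) P (a - 1 + 1) (by omega)
    · change IsZero ((sglN P (a + 1)).X (a + 1 + 1))
      exact isZero_single_obj_X (ComplexShape.up ℤ) (a + 1) P (a + 1 + 1) (by omega)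
  let c₁ : P ⟶ (sglN P (a + 1)).X (a + 1) := c ≫ (mappingCone.fst ψ).1.v a (a + 1) rfl
  let c₂ : P ⟶ T.X a := c ≫ (mappingCone.snd ψ).v a a (add_zero a)
  let κ : ((sglN P (a + 1))⟦(1 : ℤ)⟧).X a ≅ (sglN P (a + 1)).X (a + 1) :=
    (sglN P (a + 1)).shiftFunctorObjXIso 1 a (a + 1) (by omega)
  let sX : (sglN P (a + 1)).X (a + 1) ≅ P :=
    HomologicalComplex.singleObjXSelf (ComplexShape.up ℤ) (a + 1) P
  let sXa : (sglN P a).X a ≅ P := HomologicalComplex.singleObjXSelf (ComplexShape.up ℤ) a P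
  have k1 : (mappingCone.inl ψ).v (a + 1) a (by omega) ≫ δc.f a = -κ.inv :=
    mappingCone.inl_v_triangle_mor₃_f ψ (a + 1) a (by omega)
  have k2 : (mappingCone.inr ψ).f a ≫ δc.f a = 0 := mappingCone.inr_f_triangle_mor₃_f ψ a
  have key : c ≫ δc.f a = -(c₁ ≫ κ.inv) := by
    calc c ≫ δc.f a = (c ≫ 𝟙 _) ≫ δc.f a := by rw [Category.comp_id]
      _ = (c ≫ ((mappingCone.fst ψ).1.v a (a + 1) rfl ≫ (mappingCone.inl ψ).v (a + 1) a (by omega) +
            (mappingCone.snd ψ).v a a (add_zero a) ≫ (mappingCone.inr ψ).f a)) ≫ δc.f a := by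
          rw [mappingCone.id_X ψ a (a + 1) rfl]
      _ = c₁ ≫ ((mappingCone.inl ψ).v (a + 1) a (by omega) ≫ δc.f a) +
            c₂ ≫ ((mappingCone.inr ψ).f a ≫ δc.f a) := by
          simp only [Preadditive.comp_add, Preadditive.add_comp, Category.assoc, c₁, c₂]
      _ = -(c₁ ≫ κ.inv) := by rw [k1, k2, comp_zero, add_zero, Preadditive.comp_neg]
  have hcoc : c₂ ≫ T.d a (a + 1) = -(c₁ ≫ sX.hom ≫ w) := by
    have h1 := congrArg (fun t => t ≫ (mappingCone.snd ψ).v (a + 1) (a + 1) (add_zero _)) hc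
    simp only [Category.assoc, zero_comp] at h1
    rw [mappingCone.d_snd_v ψ a (a + 1) rfl, Preadditive.comp_add] at h1
    have h2 : ψ.f (a + 1) = sX.hom ≫ w := fromSingle_f (a + 1) w hw
    rw [h2] at h1
    dsimp only [c₁, c₂]
    rw [Category.assoc, Category.assoc]
    exact eq_neg_of_add_eq_zero_right h1
  have hμf : μ.f a = sXa.hom ≫ (-(c₁ ≫ κ.inv)) := by
    have h1 : μ.f a = (fromSingle a c hc).f a ≫ δc.f a := rfl
    have h2 : (fromSingle a c hc).f a = sXa.hom ≫ c := fromSingle_f a c hc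
    rw [h1, h2]
    exact (Category.assoc _ _ _).trans (congrArg (fun t => sXa.hom ≫ t) key)
  let vI : P ≅ P := sXa.symm ≪≫ asIso (μ.f a) ≪≫ κ ≪≫ sX
  have hv : vI.hom = -(c₁ ≫ sX.hom) := by
    dsimp only [vI, Iso.trans_hom, Iso.symm_hom, asIso_hom]
    rw [hμf, Category.assoc, Iso.inv_hom_id_assoc, Preadditive.neg_comp, Category.assoc,
      Iso.inv_hom_id_assoc]
  refine ⟨vI.inv ≫ c₂, ?_⟩
  rw [Category.assoc, hcoc, ← Category.assoc c₁, ← Preadditive.neg_comp, ← hv,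
    Iso.inv_hom_id_assoc]

end Groth.Agent.Lib.H6xAcPush
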