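import Mathlib
import Groth.Agent.Lib.Helper17Hyp9

/-!
# A local criterion for quasi-isomorphisms of complexes in terms of "sections" (helper6)

`LocFr J fr` setting: a chain map `g : M ⟶ N` such that `Hom(fr W, g)` is a
quasi-isomorphism in degree `n` for all `W` in a "basis" is a quasi-isomorphism in degree `n`.
-/

set_option autoImplicit false

universe v v' u'

open CategoryTheory CategoryTheory.Limits

namespace Groth.Agent.Lib.H6xAffPush

open Groth.Agent.Lib.Helper17.Hyp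

variable {A : Type (v + 1)} [Category.{v} A] [Abelian A]

/-- `Hom(P, g)` is surjective on cohomology in degree `n`. -/
def CycSur (P : A) {M N : CochainComplex A ℤ} (g : M ⟶ N) (n : ℤ) : Prop :=
  ∀ z : P ⟶ N.X n, z ≫ N.d n (n + 1) = 0 →
    ∃ (w : P ⟶ M.X n) (y : P ⟶ N.X (n - 1)),
      w ≫ M.d n (n + 1) = 0 ∧ w ≫ g.f n = z + y ≫ N.d (n - 1) n

/-- `Hom(P, g)` is injective on cohomology in degree `n`. -/
def CycInj (P : A) {M N : CochainComplex A ℤ} (g : M ⟶ N) (n : ℤ) : Prop :=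
  ∀ w : P ⟶ M.X n, w ≫ M.d n (n + 1) = 0 →
    ∀ y : P ⟶ N.X (n - 1), w ≫ g.f n = y ≫ N.d (n - 1) n →
      ∃ x : P ⟶ M.X (n - 1), x ≫ M.d (n - 1) n = w

variable {C : Type u'} [Category.{v'} C] {J : GrothendieckTopology C} {fr : C ⥤ A}

lemma local_boundary (h : LocFr J fr) (N : CochainComplex A ℤ) (n : ℤ) (U : C)
    (z : fr.obj U ⟶ N.cycles n) (hz : z ≫ N.homologyπ n = 0) :
    ∃ T ∈ J U, ∀ ⦃V : C⦄ (f : V ⟶ U), T f →
      ∃ y : fr.obj V ⟶ N.X (n - 1), y ≫ N.toCycles (n - 1) n = fr.map f ≫ z := by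
  let S : ShortComplex A := ShortComplex.mk (N.toCycles (n - 1) n) (N.homologyπ n)
    (N.toCycles_comp_homologyπ _ _)
  have hS : S.Exact := S.exact_of_g_is_cokernel (N.homologyIsCokernel (n - 1) n (by simp))
  haveI : Epi (kernel.lift S.g S.f S.zero) := S.exact_iff_epi_kernel_lift.1 hS
  obtain ⟨T, hT, hT'⟩ := h.lift (kernel.lift S.g S.f S.zero) U (kernel.lift S.g z hz)
  refine ⟨T, hT, fun V f hf => ?_⟩
  obtain ⟨y, hy⟩ := hT' f hf
  refine ⟨y, ?_⟩
  have h2 := congrArg (fun t => t ≫ kernel.ι S.g) hy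
  simp only [Category.assoc, kernel.lift_ι] at h2
  exact h2

lemma local_cycle (h : LocFr J fr) (N : CochainComplex A ℤ) (n : ℤ) (U : C)
    (s : fr.obj U ⟶ N.homology n) :
    ∃ T ∈ J U, ∀ ⦃V : C⦄ (f : V ⟶ U), T f →
      ∃ z : fr.obj V ⟶ N.cycles n, z ≫ N.homologyπ n = fr.map f ≫ s :=
  h.lift (N.homologyπ n) U s

/-- a sieve all of whose members are in the basis, covering. -/
lemma exists_basis_refinement (𝓑 : Set C)
    (hB : ∀ U : C, ∃ R : Presieve U, Sieve.generate R ∈ J U ∧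
      ∀ ⦃V : C⦄ (g : V ⟶ U), R g → V ∈ 𝓑) (U : C) (T : Sieve U) (hT : T ∈ J U) :
    ∃ R : Presieve U, Sieve.generate R ∈ J U ∧ ∀ ⦃V : C⦄ (g : V ⟶ U), R g → V ∈ 𝓑 ∧ T g := by
  refine ⟨fun V g => V ∈ 𝓑 ∧ T g, ?_, fun V g hg => hg⟩
  refine J.transitive hT _ ?_
  intro Y f hf
  obtain ⟨R, hR, hR'⟩ := hB Y
  refine J.superset_covering ?_ hR
  rintro Z _ ⟨W, k, g, hg, rfl⟩
  have h1 : (Sieve.generate (fun V (g : V ⟶ U) => V ∈ 𝓑 ∧ T g)).arrows (g ≫ f) :=
    ⟨W, 𝟙 W, g ≫ f, ⟨hR' g hg, T.downward_closed hf g⟩, Category.id_comp _⟩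
  have h2 := Sieve.downward_closed _ h1 k
  rw [← Category.assoc] at h2
  exact h2

theorem mono_homologyMap_of_cycInj (h : LocFr J fr) (𝓑 : Set C)
    (hB : ∀ U : C, ∃ R : Presieve U, Sieve.generate R ∈ J U ∧
      ∀ ⦃V : C⦄ (g : V ⟶ U), R g → V ∈ 𝓑)
    {M N : CochainComplex A ℤ} (g : M ⟶ N) (n : ℤ)
    (hi : ∀ W ∈ 𝓑, CycInj (fr.obj W) g n) :
    Mono (HomologicalComplex.homologyMap g n) := by
  apply Abelian.mono_of_kernel_ι_eq_zero
  apply h.gen
  intro U s₀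
  obtain ⟨s, hs⟩ : ∃ s : fr.obj U ⟶ M.homology n, s = s₀ ≫ kernel.ι _ := ⟨_, rfl⟩
  rw [← hs]
  have hs0 : s ≫ HomologicalComplex.homologyMap g n = 0 := by
    rw [hs, Category.assoc, kernel.condition, comp_zero]
  -- step 1: lift to cycles
  obtain ⟨T₁, hT₁, hT₁'⟩ := local_cycle h M n U s
  refine h.sep U s T₁ hT₁ (fun V f hf => ?_)
  obtain ⟨z, hz⟩ := hT₁' f hf
  -- step 2: the image is locally a boundary
  have hz0 : (z ≫ HomologicalComplex.cyclesMap g n) ≫ N.homologyπ n = 0 := by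
    rw [Category.assoc, ← HomologicalComplex.homologyπ_naturality, ← Category.assoc, hz,
      Category.assoc, hs0, comp_zero]
  obtain ⟨T₂, hT₂, hT₂'⟩ := local_boundary h N n V _ hz0
  obtain ⟨R, hR, hR'⟩ := exists_basis_refinement 𝓑 hB V T₂ hT₂
  refine h.zero_of_generate V _ R hR (fun W k hk => ?_)
  obtain ⟨hW, hk₂⟩ := hR' k hk
  obtain ⟨y, hy⟩ := hT₂' k hk₂
  -- step 3: apply injectivity on `W`
  let w : fr.obj W ⟶ M.X n := fr.map k ≫ z ≫ M.iCycles n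
  have hw : w ≫ M.d n (n + 1) = 0 := by
    simp only [w, Category.assoc, HomologicalComplex.iCycles_d, comp_zero]
  have hwy : w ≫ g.f n = y ≫ N.d (n - 1) n := by
    have h1 := congrArg (fun t => t ≫ N.iCycles n) hy
    simp only [Category.assoc, HomologicalComplex.toCycles_i,
      HomologicalComplex.cyclesMap_i] at h1
    simp only [w, Category.assoc]
    exact h1.symm
  obtain ⟨x, hx⟩ := hi W hW w hw y hwy
  have hzx : fr.map k ≫ z = x ≫ M.toCycles (n - 1) n := by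
    rw [← cancel_mono (M.iCycles n), Category.assoc, Category.assoc,
      HomologicalComplex.toCycles_i, hx]
  rw [← hz, ← Category.assoc, hzx, Category.assoc, HomologicalComplex.toCycles_comp_homologyπ,
    comp_zero]

theorem epi_homologyMap_of_cycSur (h : LocFr J fr) (𝓑 : Set C)
    (hB : ∀ U : C, ∃ R : Presieve U, Sieve.generate R ∈ J U ∧
      ∀ ⦃V : C⦄ (g : V ⟶ U), R g → V ∈ 𝓑)
    {M N : CochainComplex A ℤ} (g : M ⟶ N) (n : ℤ)
    (hs : ∀ W ∈ 𝓑, CycSur (fr.obj W) g n) :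
    Epi (HomologicalComplex.homologyMap g n) := by
  apply epi_of_local_lift h
  intro U s
  obtain ⟨T₁, hT₁, hT₁'⟩ := local_cycle h N n U s
  obtain ⟨R, hR, hR'⟩ := exists_basis_refinement 𝓑 hB U T₁ hT₁
  refine ⟨R, hR, fun W k hk => ?_⟩
  obtain ⟨hW, hk₁⟩ := hR' k hk
  obtain ⟨z, hz⟩ := hT₁' k hk₁
  obtain ⟨w, y, hw, hwy⟩ := hs W hW (z ≫ N.iCycles n)
    (by rw [Category.assoc, HomologicalComplex.iCycles_d, comp_zero])
  refine ⟨M.liftCycles w (n + 1) (by simp) hw ≫ M.homologyπ n, ?_⟩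
  rw [Category.assoc, HomologicalComplex.homologyπ_naturality, ← hz, ← Category.assoc]
  have hc : M.liftCycles w (n + 1) (by simp) hw ≫ HomologicalComplex.cyclesMap g n =
      z + y ≫ N.toCycles (n - 1) n := by
    rw [← cancel_mono (N.iCycles n), Category.assoc, HomologicalComplex.cyclesMap_i,
      HomologicalComplex.liftCycles_i_assoc, hwy, Preadditive.add_comp, Category.assoc,
      HomologicalComplex.toCycles_i]
  rw [hc, Preadditive.add_comp, Category.assoc, HomologicalComplex.toCycles_comp_homologyπ,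
    comp_zero, add_zero]

theorem isIso_homologyMap_of_cyc (h : LocFr J fr) (𝓑 : Set C)
    (hB : ∀ U : C, ∃ R : Presieve U, Sieve.generate R ∈ J U ∧
      ∀ ⦃V : C⦄ (g : V ⟶ U), R g → V ∈ 𝓑)
    {M N : CochainComplex A ℤ} (g : M ⟶ N) (n : ℤ)
    (hs : ∀ W ∈ 𝓑, CycSur (fr.obj W) g n) (hi : ∀ W ∈ 𝓑, CycInj (fr.obj W) g n) :
    IsIso (HomologicalComplex.homologyMap g n) := by
  haveI := mono_homologyMap_of_cycInj h 𝓑 hB g n hi
  haveI := epi_homologyMap_of_cycSur h 𝓑 hB g n hs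
  exact isIso_of_mono_of_epi _

theorem quasiIso_of_cyc (h : LocFr J fr) (𝓑 : Set C)
    (hB : ∀ U : C, ∃ R : Presieve U, Sieve.generate R ∈ J U ∧
      ∀ ⦃V : C⦄ (g : V ⟶ U), R g → V ∈ 𝓑)
    {M N : CochainComplex A ℤ} (g : M ⟶ N)
    (hs : ∀ W ∈ 𝓑, ∀ n : ℤ, CycSur (fr.obj W) g n)
    (hi : ∀ W ∈ 𝓑, ∀ n : ℤ, CycInj (fr.obj W) g n) : QuasiIso g := by
  refine ⟨fun n => ?_⟩
  rw [quasiIsoAt_iff_isIso_homologyMap]
  exact isIso_homologyMap_of_cyc h 𝓑 hB g n (fun W hW => hs W hW n) (fun W hW => hi W hW n)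

end Groth.Agent.Lib.H6xAffPush
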