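import Mathlib
import Groth.Agent.Lib.H6xAcPushB
import Groth.Agent.Lib.H6xAffPushA
import Groth.Agent.Lib.Helper17KInjD1
set_option backward.isDefEq.respectTransparency.types false

/-!
# Morphisms `P[-n] ⟶ F` in the derived category (helper6) — part C: for `F` a complex of
`P`-acyclic objects (and a finite cohomological dimension hypothesis), `Hom_K(P[-n], F) ⟶
Hom_D(P[-n], F)` is bijective; consequences in the form `CycSur`/`CycInj`.
-/

set_option autoImplicit false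
set_option linter.style.haveILetI false

universe w v

open CategoryTheory CategoryTheory.Limits HomologicalComplex DerivedCategory Pretriangulated

namespace Groth.Agent.Lib.H6xAcPush

open Groth.Agent.Lib.Helper17.Hyp Groth.Agent.Lib.H6xGamAc Groth.Agent.Lib.H6xAffPush
  Groth.Agent.Lib.H6xPC3

variable {A : Type (v + 1)} [Category.{v} A] [Abelian A] [HasDerivedCategory.{w} A]

/-- `P`-acyclic objects: `Ext^k(P, M) = 0` for `k > 0`. -/
def PAc (P M : A) : Prop := ∀ k : ℕ, 0 < k → ∀ φ : dsgl P ⟶ (dsgl M)⟦(k : ℤ)⟧, φ = 0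

lemma PAc.of_iso {P M M' : A} (e : M ≅ M') (h : PAc P M) : PAc P M' := by
  intro k hk φ
  let ε : (dsgl M)⟦(k : ℤ)⟧ ≅ (dsgl M')⟦(k : ℤ)⟧ :=
    (shiftFunctor (DerivedCategory A) (k : ℤ)).mapIso ((singleFunctor A 0).mapIso e)
  have h1 := h k hk (φ ≫ ε.inv)
  have h2 : φ = (φ ≫ ε.inv) ≫ ε.hom := by
    rw [Category.assoc, Iso.inv_hom_id, Category.comp_id]
  rw [h2, h1, zero_comp]

lemma PAc.of_isZero {P M : A} (h : IsZero M) : PAc P M := by
  intro k _ φ
  exact ((shiftFunctor _ (k : ℤ)).map_isZero ((singleFunctor A 0).map_isZero h)).eq_of_tgt _ _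

lemma hom_single_shift_eq_zero {P M : A} (h : PAc P M) (j i : ℤ) (hji : j < i)
    (φ : dsgl P ⟶ ((singleFunctor A j).obj M)⟦i⟧) : φ = 0 := by
  obtain ⟨k, hk⟩ : ∃ k : ℕ, i = j + k + 1 := ⟨(i - j - 1).toNat, by omega⟩
  let e1 : ((singleFunctor A j).obj M)⟦i⟧ ≅ (singleFunctor A (j - i)).obj M :=
    ((DerivedCategory.singleFunctors A).shiftIso i (j - i) j (by omega)).app M
  let e2 : (dsgl M)⟦((k + 1 : ℕ) : ℤ)⟧ ≅ (singleFunctor A (j - i)).obj M :=
    ((DerivedCategory.singleFunctors A).shiftIso ((k + 1 : ℕ) : ℤ) (j - i) 0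
      (by push_cast; omega)).app M
  have h1 := h (k + 1) (Nat.succ_pos k) (φ ≫ e1.hom ≫ e2.inv)
  rw [← cancel_mono (e1.hom ≫ e2.inv), zero_comp]
  exact h1

section

variable (P : A) (R : A → Prop)
  (hR_iso : ∀ M M' : A, (M ≅ M') → R M → R M') (hR_zero : ∀ M : A, IsZero M → R M)
  (hR_ac : ∀ M : A, R M → PAc P M) (a₀ : ℤ)
  (hV : ∀ (G : CochainComplex A ℤ) (i : ℤ), (∀ j, R (G.X j)) →
    (∀ j, a₀ + i ≤ j → IsZero (G.X j)) →
    ∀ φ : dsgl P ⟶ ((Q : _ ⥤ DerivedCategory A).obj G)⟦i⟧, φ = 0)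

include hR_iso hR_zero hR_ac hV

theorem hom_shift_eq_zero_of_bounded_above (G : CochainComplex A ℤ) (hG : ∀ j, R (G.X j))
    (b : ℤ) (hb : ∀ j, b < j → IsZero (G.X j)) (i : ℤ) (hi : b < i)
    (φ : dsgl P ⟶ ((Q : _ ⥤ DerivedCategory A).obj G)⟦i⟧) : φ = 0 := by
  obtain ⟨Gu, π, δ, hT, hGu0, hGuiso⟩ := exists_trunc_triangle G (a₀ + i)
  have h3 : Subsingleton (dsgl P ⟶ ((Q : _ ⥤ DerivedCategory A).obj Gu)⟦i⟧) := by
    have key := hV Gu i (fun j => by
      by_cases hj : a₀ + i ≤ j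
      · exact hR_zero _ (hGu0 j hj)
      · haveI := hGuiso j (by omega)
        exact hR_iso _ _ (asIso (π.f j)) (hG j)) hGu0
    exact ⟨fun y y' => (key y).trans (key y').symm⟩
  have h1 : Subsingleton (dsgl P ⟶
      ((Q : _ ⥤ DerivedCategory A).obj (sigmaGE G (a₀ + i)))⟦i⟧) := by
    let PP : ObjectProperty (DerivedCategory A) := fun Z => ∀ y : dsgl P ⟶ Z⟦i⟧, y = 0
    haveI : PP.IsClosedUnderIsomorphisms := ⟨fun {Z Z'} e hZ y => by
      have h := hZ (y ≫ ((shiftFunctor _ i).mapIso e).inv)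
      rw [← cancel_mono ((shiftFunctor _ i).mapIso e).inv, zero_comp]
      exact h⟩
    have hPP : PP (Q.obj (sigmaGE G (a₀ + i))) := by
      apply Groth.Agent.Lib.Helper1.Devissage.induction_terms' PP ?_ ?_ ?_
        (sigmaGE G (a₀ + i)) (a₀ + i) b ?_ ?_
      · intro K hK y
        exact ((shiftFunctor _ i).map_isZero hK).eq_of_tgt _ _
      · intro T hT h1 h3 y
        haveI := subsingleton_obj₂ T hT (dsgl P) i
          ⟨fun a b => (h1 a).trans (h1 b).symm⟩ ⟨fun a b => (h3 a).trans (h3 b).symm⟩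
        exact Subsingleton.elim _ _
      · rintro j X Y ⟨e⟩ hX
        exact ObjectProperty.prop_of_iso PP ((singleFunctor A j).mapIso e) hX
      · rintro j (hj | hj)
        · exact isZero_sigmaGE_X G _ hj
        · by_cases hj' : a₀ + i ≤ j
          · haveI := isIso_sigmaGEι_f G (a₀ + i) hj'
            exact (hb j hj).of_iso (asIso ((sigmaGEι G (a₀ + i)).f j))
          · exact isZero_sigmaGE_X G _ (by omega)
      · intro j hj1 hj2 y
        haveI := isIso_sigmaGEι_f G (a₀ + i) hj1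
        exact hom_single_shift_eq_zero
          ((hR_ac _ (hG j)).of_iso (asIso ((sigmaGEι G (a₀ + i)).f j)).symm) j i (by omega) y
    exact ⟨fun y y' => (hPP y).trans (hPP y').symm⟩
  exact @Subsingleton.elim _ (subsingleton_obj₂ _ hT (dsgl P) i h1 h3) φ 0

variable (F : CochainComplex A ℤ) (hF : ∀ j, R (F.X j))

include hF

/-- surjectivity of `Hom_K(P[-n], F) ⟶ Hom_D(P[-n], F)`. -/
theorem exists_fromSingle (n : ℤ)
    (φ : (Q : _ ⥤ DerivedCategory A).obj (sglN P n) ⟶ Q.obj F) :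
    ∃ (w : P ⟶ F.X n) (hw : w ≫ F.d n (n + 1) = 0), φ = Q.map (fromSingle n w hw) := by
  obtain ⟨G, π, δ, hT, hG0, hGiso⟩ := exists_trunc_triangle F n
  have hGR : ∀ j, R (G.X j) := fun j => by
    by_cases hj : n ≤ j
    · exact hR_zero _ (hG0 j hj)
    · haveI := hGiso j (by omega)
      exact hR_iso _ _ (asIso (π.f j)) (hF j)
  have h3 : ∀ y : dsgl P ⟶ ((Q : _ ⥤ DerivedCategory A).obj G)⟦n⟧, y = 0 :=
    hom_shift_eq_zero_of_bounded_above P R hR_iso hR_zero hR_ac a₀ hV G hGR (n - 1)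
      (fun j hj => hG0 j (by omega)) n (by omega)
  obtain ⟨ξ, hξ⟩ := exists_of_comp_mor₂_eq_zero _ hT (dsgl P) n (toSh φ) (h3 _)
  obtain ⟨φ', hφ'⟩ := toSh_surjective (P := P) (n := n)
    (K := (Q : _ ⥤ DerivedCategory A).obj (sigmaGE F n)) ξ
  have h4 : φ' ≫ Q.map (sigmaGEι F n) = φ := toSh_injective (by
    rw [toSh_comp, hφ']
    exact hξ)
  obtain ⟨w', hw', h5⟩ := exists_fromSingle_of_isZero_lt P (sigmaGE F n) n
    (fun j hj => isZero_sigmaGE_X F n hj) φ'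
  refine ⟨w' ≫ (sigmaGEι F n).f n, ?_, ?_⟩
  · rw [Category.assoc, (sigmaGEι F n).comm, reassoc_of% hw', zero_comp]
  · rw [← h4, h5]
    exact (Q.map_comp _ _).symm.trans (congrArg Q.map (fromSingle_comp n w' hw' (sigmaGEι F n)))

/-- injectivity of `Hom_K(P[-n], F) ⟶ Hom_D(P[-n], F)`. -/
theorem exists_boundary (n : ℤ) (w : P ⟶ F.X n) (hw : w ≫ F.d n (n + 1) = 0)
    (h0 : (Q : _ ⥤ DerivedCategory A).map (fromSingle n w hw) = 0) :
    ∃ x : P ⟶ F.X (n - 1), x ≫ F.d (n - 1) n = w := by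
  obtain ⟨G, π, δ, hT, hG0, hGiso⟩ := exists_trunc_triangle F (n - 1)
  have hGR : ∀ j, R (G.X j) := fun j => by
    by_cases hj : n - 1 ≤ j
    · exact hR_zero _ (hG0 j hj)
    · haveI := hGiso j (by omega)
      exact hR_iso _ _ (asIso (π.f j)) (hF j)
  have h3 : ∀ i, n - 1 ≤ i → ∀ y : dsgl P ⟶ ((Q : _ ⥤ DerivedCategory A).obj G)⟦i⟧, y = 0 :=
    fun i hi => hom_shift_eq_zero_of_bounded_above P R hR_iso hR_zero hR_ac a₀ hV G hGR (n - 2)
      (fun j hj => hG0 j (by omega)) i (by omega)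
  have hb := bijective_postcomp_mor₁ _ hT (dsgl P) (n - 1) n (by omega)
    ⟨fun a b => (h3 (n - 1) le_rfl a).trans (h3 (n - 1) le_rfl b).symm⟩
    ⟨fun a b => (h3 n (by omega) a).trans (h3 n (by omega) b).symm⟩
  haveI : IsIso ((sigmaGEι F (n - 1)).f n) := isIso_sigmaGEι_f F (n - 1) (by omega)
  haveI : IsIso ((sigmaGEι F (n - 1)).f (n + 1)) := isIso_sigmaGEι_f F (n - 1) (by omega)
  let w' : P ⟶ (sigmaGE F (n - 1)).X n := w ≫ inv ((sigmaGEι F (n - 1)).f n)
  have hw'ι : w' ≫ (sigmaGEι F (n - 1)).f n = w := by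
    dsimp only [w']
    rw [Category.assoc, IsIso.inv_hom_id, Category.comp_id]
  have hw' : w' ≫ (sigmaGE F (n - 1)).d n (n + 1) = 0 := by
    rw [← cancel_mono ((sigmaGEι F (n - 1)).f (n + 1)), zero_comp, Category.assoc,
      ← (sigmaGEι F (n - 1)).comm, ← Category.assoc, hw'ι, hw]
  have h1 : fromSingle n w' hw' ≫ sigmaGEι F (n - 1) = fromSingle n w hw := by
    rw [fromSingle_comp]
    congr 1
  have h2 : (Q : _ ⥤ DerivedCategory A).map (fromSingle n w' hw') = 0 := by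
    apply toSh_injective
    apply hb.1
    change toSh (Q.map (fromSingle n w' hw')) ≫ (Q.map (sigmaGEι F (n - 1)))⟦n⟧' =
      toSh 0 ≫ (Q.map (sigmaGEι F (n - 1)))⟦n⟧'
    rw [← toSh_comp, ← Functor.map_comp, h1, h0, toSh_zero, toSh_zero, zero_comp]
  obtain ⟨x', hx'⟩ := exists_boundary_of_Q_map_eq_zero P (sigmaGE F (n - 1)) (n - 1) n
    (by omega) (fun j hj => isZero_sigmaGE_X F (n - 1) hj) w' hw' h2
  refine ⟨x' ≫ (sigmaGEι F (n - 1)).f (n - 1), ?_⟩
  rw [Category.assoc, (sigmaGEι F (n - 1)).comm, ← Category.assoc, hx', hw'ι]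

theorem cycInj_of_acyclic {J : CochainComplex A ℤ} (q : F ⟶ J) [QuasiIso q] (n : ℤ) :
    CycInj P q n := by
  intro w hw y hy
  have h1 : fromSingle n w hw ≫ q = fromSingle n (y ≫ J.d (n - 1) n)
      (by rw [Category.assoc, J.d_comp_d, comp_zero]) := by
    rw [fromSingle_comp]
    congr 1
  obtain ⟨H⟩ := (homotopy_fromSingle_zero_iff n (y ≫ J.d (n - 1) n)
      (by rw [Category.assoc, J.d_comp_d, comp_zero])).2 ⟨y, rfl⟩
  have h2 : (Q : _ ⥤ DerivedCategory A).map (fromSingle n w hw) ≫ Q.map q = 0 := by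
    rw [← Functor.map_comp, h1, DerivedCategory.Q_map_eq_of_homotopy _ H, Functor.map_zero]
  haveI : IsIso ((Q : _ ⥤ DerivedCategory A).map q) :=
    (DerivedCategory.isIso_Q_map_iff_quasiIso (C := A) q).2 inferInstance
  have h3 : (Q : _ ⥤ DerivedCategory A).map (fromSingle n w hw) = 0 := by
    rw [← cancel_mono (Q.map q), h2, zero_comp]
  exact exists_boundary P R hR_iso hR_zero hR_ac a₀ hV F hF n w hw h3

theorem cycSur_of_acyclic {J : CochainComplex A ℤ} [J.IsKInjective] (q : F ⟶ J) [QuasiIso q]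
    (n : ℤ) : CycSur P q n := by
  intro z hz
  haveI : IsIso ((Q : _ ⥤ DerivedCategory A).map q) :=
    (DerivedCategory.isIso_Q_map_iff_quasiIso (C := A) q).2 inferInstance
  obtain ⟨w, hw, h2⟩ := exists_fromSingle P R hR_iso hR_zero hR_ac a₀ hV F hF n
    (Q.map (fromSingle n z hz) ≫ inv (Q.map q))
  have h3 : (Q : _ ⥤ DerivedCategory A).map (fromSingle n w hw ≫ q) =
      Q.map (fromSingle n z hz) := by
    rw [Functor.map_comp, ← h2, Category.assoc, IsIso.inv_hom_id, Category.comp_id]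
  rw [fromSingle_comp] at h3
  obtain ⟨g, hg⟩ := (homotopy_fromSingle_iff n _ _ _ _).1
    (Groth.Agent.Lib.Helper17.KInj.homotopy_of_Q_map_eq (C := A) h3)
  refine ⟨w, g, hw, ?_⟩
  rw [hg]
  abel

end

end Groth.Agent.Lib.H6xAcPush
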