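import Mathlib
import Groth.Prelude.Def_DCoh2
import Groth.Agent.Lib.H6xGamAcB
import Groth.Agent.Lib.H6xGamAcC
set_option backward.isDefEq.respectTransparency.types false

/-!
# Global sections as `Hom(O, -)` and a criterion for `Γ(q)` to be a quasi-isomorphism (helper6)
-/

set_option autoImplicit false
universe u
open CategoryTheory CategoryTheory.Limits AlgebraicGeometry TopologicalSpace Opposite

namespace Groth.Agent.Lib.H6xGamAc

variable {Y : Scheme.{u}}

/-- the structure sheaf as a module -/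
noncomputable abbrev OY (Y : Scheme.{u}) : Y.Modules := SheafOfModules.unit Y.ringCatSheaf

/-- the global section attached to `O ⟶ N` -/
noncomputable def toGam (N : Y.Modules) (φ : OY Y ⟶ N) : (DCoh.gammaAb Y).obj N :=
  φ.val.app (op ⊤) (1 : Y.ringCatSheaf.obj.obj (op ⊤))

/-- the family of sections attached to a global section -/
noncomputable def secOfTop (N : Y.Modules) (x : (DCoh.gammaAb Y).obj N) : N.val.sections :=
  PresheafOfModules.sectionsMk (fun U => N.val.map (homOfLE le_top : U.unop ⟶ ⊤).op x)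
    (fun U V f => by
      rw [← PresheafOfModules.map_comp_apply]
      rfl)

/-- the morphism `O ⟶ N` attached to a global section -/
noncomputable def ofGam (N : Y.Modules) (x : (DCoh.gammaAb Y).obj N) : OY Y ⟶ N :=
  N.unitHomEquiv.symm (secOfTop N x)

lemma toGam_ofGam (N : Y.Modules) (x : (DCoh.gammaAb Y).obj N) : toGam N (ofGam N x) = x := by
  have h := N.unitHomEquiv.apply_symm_apply (secOfTop N x)
  have h2 : (N.unitHomEquiv (N.unitHomEquiv.symm (secOfTop N x))).val (op ⊤) =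
      (secOfTop N x).val (op ⊤) := congrArg (fun s => s.val (op ⊤)) h
  rw [SheafOfModules.unitHomEquiv_apply_coe] at h2
  refine h2.trans ?_
  change N.val.map (𝟙 _) x = x
  rw [PresheafOfModules.map_id]
  rfl

lemma ofGam_toGam (N : Y.Modules) (φ : OY Y ⟶ N) : ofGam N (toGam N φ) = φ := by
  unfold ofGam
  refine (Equiv.symm_apply_eq N.unitHomEquiv).2 ?_
  apply PresheafOfModules.sections_ext
  intro U
  rw [SheafOfModules.unitHomEquiv_apply_coe]
  change N.val.map (homOfLE le_top : U.unop ⟶ ⊤).op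
    (φ.val.app (op ⊤) (1 : Y.ringCatSheaf.obj.obj (op ⊤))) = _
  rw [← PresheafOfModules.naturality_apply]
  congr 1
  exact PresheafOfModules.unit_map_one _ _

lemma toGam_comp {N N' : Y.Modules} (φ : OY Y ⟶ N) (p : N ⟶ N') :
    toGam N' (φ ≫ p) = (DCoh.gammaAb Y).map p (toGam N φ) := rfl

lemma toGam_sub (N : Y.Modules) (φ φ' : OY Y ⟶ N) :
    toGam N (φ - φ') = toGam N φ - toGam N φ' := rfl

lemma toGam_zero (N : Y.Modules) : toGam N 0 = 0 := rfl

lemma toGam_injective (N : Y.Modules) : Function.Injective (toGam N) := by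
  intro φ φ' h
  rw [← ofGam_toGam N φ, ← ofGam_toGam N φ', h]

lemma ofGam_comp {N N' : Y.Modules} (x : (DCoh.gammaAb Y).obj N) (p : N ⟶ N') :
    ofGam N x ≫ p = ofGam N' ((DCoh.gammaAb Y).map p x) := by
  apply toGam_injective
  rw [toGam_comp, toGam_ofGam, toGam_ofGam]

lemma ofGam_zero (N : Y.Modules) : ofGam N 0 = 0 := by
  apply toGam_injective
  rw [toGam_ofGam, toGam_zero]

/-- the single complex `O[-n]` -/
noncomputable abbrev PO (Y : Scheme.{u}) (n : ℤ) : CochainComplex Y.Modules ℤ :=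
  (CochainComplex.singleFunctor Y.Modules n).obj (OY Y)

/-- the complex of global sections -/
noncomputable abbrev gamC (Y : Scheme.{u}) :
    CochainComplex Y.Modules ℤ ⥤ CochainComplex AddCommGrpCat.{u} ℤ :=
  (DCoh.gammaAb Y).mapHomologicalComplex (ComplexShape.up ℤ)

/-- **criterion**: `Γ(Y, q)` is a quasi-isomorphism if `Hom_K(O[-n], q)` is bijective for all `n` -/
theorem quasiIso_gamC_map {M J : CochainComplex Y.Modules ℤ} (q : M ⟶ J)
    (hsur : ∀ (n : ℤ) (ζ : PO Y n ⟶ J), ∃ ψ : PO Y n ⟶ M, Nonempty (Homotopy (ψ ≫ q) ζ))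
    (hinj : ∀ (n : ℤ) (ψ : PO Y n ⟶ M), Nonempty (Homotopy (ψ ≫ q) 0) →
      Nonempty (Homotopy ψ 0)) :
    QuasiIso ((gamC Y).map q) := by
  apply ab_quasiIso_of_elements_cx
  · intro n x₂' hx₂
    obtain ⟨x₂, rfl⟩ : ∃ x₂ : (DCoh.gammaAb Y).obj (J.X n), x₂ = x₂' := ⟨x₂', rfl⟩
    have hx₂' : (DCoh.gammaAb Y).map (J.d n (n + 1)) x₂ = 0 := hx₂
    have hz : ofGam (J.X n) x₂ ≫ J.d n (n + 1) = 0 := by
      rw [ofGam_comp, hx₂', ofGam_zero]
    obtain ⟨ψ, ⟨H⟩⟩ := hsur n (fromSingle n (ofGam (J.X n) x₂) hz)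
    obtain ⟨f₁, hf₁, rfl⟩ := fromSingle_surjective n ψ
    rw [fromSingle_comp] at H
    obtain ⟨g, hg⟩ := (homotopy_fromSingle_iff n _ _ _ _).1 ⟨H⟩
    refine ⟨toGam _ f₁, ?_, toGam _ g, ?_⟩
    · change (DCoh.gammaAb Y).map (M.d n (n + 1)) (toGam _ f₁) = 0
      rw [← toGam_comp, hf₁, toGam_zero]
    · change (DCoh.gammaAb Y).map (q.f n) (toGam _ f₁) =
        x₂ + (DCoh.gammaAb Y).map (J.d (n - 1) n) (toGam _ g)
      rw [← toGam_comp, ← toGam_comp, hg, toGam_sub, toGam_ofGam]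
      abel
  · intro n x₁' hx₁ ⟨y', hy⟩
    obtain ⟨x₁, rfl⟩ : ∃ x₁ : (DCoh.gammaAb Y).obj (M.X n), x₁ = x₁' := ⟨x₁', rfl⟩
    obtain ⟨y, rfl⟩ : ∃ y : (DCoh.gammaAb Y).obj (J.X (n - 1)), y = y' := ⟨y', rfl⟩
    have hx₁' : (DCoh.gammaAb Y).map (M.d n (n + 1)) x₁ = 0 := hx₁
    have hy' : (DCoh.gammaAb Y).map (q.f n) x₁ = (DCoh.gammaAb Y).map (J.d (n - 1) n) y := hy
    have hz : ofGam (M.X n) x₁ ≫ M.d n (n + 1) = 0 := by
      rw [ofGam_comp, hx₁', ofGam_zero]
    have h1 : Nonempty (Homotopy (fromSingle n (ofGam (M.X n) x₁) hz ≫ q) 0) := by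
      rw [fromSingle_comp, homotopy_fromSingle_zero_iff]
      refine ⟨ofGam _ y, ?_⟩
      rw [ofGam_comp, ofGam_comp, hy']
    obtain ⟨g, hg⟩ := (homotopy_fromSingle_zero_iff n _ _).1 (hinj n _ h1)
    refine ⟨toGam _ g, ?_⟩
    change (DCoh.gammaAb Y).map (M.d (n - 1) n) (toGam _ g) = x₁
    rw [← toGam_comp, hg, toGam_ofGam]

end Groth.Agent.Lib.H6xGamAc
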