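import Groth.Agent.Lib.H6xBasisCohA
import Groth.Agent.Lib.Helper17Hyp16

/-!
# `cm` is bijective for objects with acyclic cohomology (helper6)

If `Hom(P[0], H^j(E)[k]) = 0` for all `j` and `k > 0` and `E = R lim τ_{≥ -n} E`, then
`cm : Hom(P[0], E[q]) → Hom(P, H^q E)` is bijective.
-/

set_option autoImplicit false

universe w v

open CategoryTheory CategoryTheory.Limits

namespace Groth.Agent.Lib.H6xBasisCoh

open DerivedCategory Pretriangulated Groth.Agent.S14388 Groth.Agent.Lib.Helper17.Hyp

variable {A : Type (v + 1)} [Category.{v} A] [Abelian A] [HasDerivedCategory.{w} A]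

theorem cm_bijective_truncGE (P₀ : A) (E : DerivedCategory A) (q : ℤ)
    (hvan : ∀ (j : ℤ) (k : ℕ), 0 < k → Subsingleton
      (dsgl P₀ ⟶ ((singleFunctor A 0).obj ((homologyFunctor A j).obj E))⟦(k : ℤ)⟧)) :
    ∀ (k : ℕ) (a : ℤ), a + k = q →
      Function.Bijective (cm (P := P₀) (K := (tt.truncGE a).obj E) (m := q)) := by
  intro k
  induction k with
  | zero =>
    intro a ha
    obtain rfl : a = q := by simpa using ha
    exact cm_bijective_of_isGE P₀ _ a
      (fun i hi => isZero_of_isGE ((tt.truncGE a).obj E) a i hi)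
  | succ k ih =>
    intro a ha
    have hb := bijective_postcomp_natTransTruncGE' (dsgl P₀) E a (a + 1) q
      ((k + 1 : ℕ) : ℤ) ((k + 2 : ℕ) : ℤ) rfl (by push_cast at ha ⊢; omega)
      (by push_cast at ha ⊢; omega) (hvan a (k + 1) (by omega)) (hvan a (k + 2) (by omega))
    have hπ := tt.π_natTransTruncGEOfLE_app a (a + 1) (by omega) E
    haveI h1 := isIso_homology_truncGEπ a q (by push_cast at ha; omega) E
    haveI h2 := isIso_homology_truncGEπ (a + 1) q (by push_cast at ha; omega) E
    have hiso : IsIso ((homologyFunctor A q).map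
        ((tt.natTransTruncGEOfLE a (a + 1) (by omega)).app E)) := by
      have h3 : (homologyFunctor A q).map ((tt.truncGEπ a).app E) ≫
          (homologyFunctor A q).map ((tt.natTransTruncGEOfLE a (a + 1) (by omega)).app E) =
          (homologyFunctor A q).map ((tt.truncGEπ (a + 1)).app E) := by
        rw [← Functor.map_comp, hπ]
      exact IsIso.of_isIso_fac_left h3
    exact (cm_bijective_transfer_iff P₀ _ q hb hiso).2 (ih (a + 1) (by push_cast at ha ⊢; omega))

theorem cm_bijective_of_isRlimVia (P₀ : A) (E : DerivedCategory A)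
    [HasProduct (CohCx.truncTower E)]
    (hL : CohCx.IsRlimVia (CohCx.truncTower E) (CohCx.truncTowerMap E) E (CohCx.toTruncTower E))
    (q : ℤ)
    (hvan : ∀ (j : ℤ) (k : ℕ), 0 < k → Subsingleton
      (dsgl P₀ ⟶ ((singleFunctor A 0).obj ((homologyFunctor A j).obj E))⟦(k : ℤ)⟧)) :
    Function.Bijective (cm (P := P₀) (K := E) (m := q)) := by
  have hP : VanishAbove (dsgl P₀) E (fun _ => 0) := fun m k hk =>
    hvan (m - k) k (by
      have hk' : (0 : ℤ) < (k : ℤ) := hk
      exact_mod_cast hk')
  let N : ℕ := max (max (Nb (fun _ => 0) q) (Nb (fun _ => 0) (q - 1))) (-q).toNat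
  have hN1 : Nb (fun _ => 0) q ≤ N := le_trans (le_max_left _ _) (le_max_left _ _)
  have hN2 : Nb (fun _ => 0) (q - 1) ≤ N := le_trans (le_max_right _ _) (le_max_left _ _)
  have hN3 : -q ≤ N := by
    have : (-q).toNat ≤ N := le_max_right _ _
    omega
  have e1 : EvBij (dsgl P₀) (CohCx.truncTower E) (CohCx.truncTowerMap E) (q - 1) N :=
    fun n hn => bijective_truncTowerMap hP (q - 1) n (le_trans hN2 hn)
  have e2 : EvBij (dsgl P₀) (CohCx.truncTower E) (CohCx.truncTowerMap E) q N :=
    fun n hn => bijective_truncTowerMap hP q n (le_trans hN1 hn)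
  have hgood := good_of_evBij (dsgl P₀) q N e1 e2
  have hb : Function.Bijective
      (fun y : dsgl P₀ ⟶ E⟦q⟧ => y ≫ (CohCx.toTruncTower E N)⟦q⟧') := by
    constructor
    · intro y y' hyy
      have h0 : (y - y') ≫ (CohCx.toTruncTower E N)⟦q⟧' = 0 := by
        rw [Preadditive.sub_comp]
        exact sub_eq_zero.2 hyy
      exact sub_eq_zero.1 (eq_zero_of_good hL _ q N hgood.1 hgood.2 _ h0)
    · intro ξ
      exact exists_lift_of_evBij hL _ q N e2 ξ
  have hiso : IsIso ((homologyFunctor A q).map (CohCx.toTruncTower E N)) :=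
    isIso_homology_truncGEπ (-(N : ℤ)) q (by omega) E
  refine (cm_bijective_transfer_iff P₀ _ q hb hiso).2 ?_
  exact cm_bijective_truncGE P₀ E q hvan (q + N).toNat (-(N : ℤ)) (by
    have : ((q + N).toNat : ℤ) = q + N := Int.toNat_of_nonneg (by omega)
    omega)

end Groth.Agent.Lib.H6xBasisCoh
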