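import Groth.Agent.Lib.H6xDerLimD

/-!
# `lim F_n` is a derived limit: abstract `LocFr` version (helper6)
-/

set_option autoImplicit false
set_option linter.style.haveILetI false

universe w v v' u u' u₁ u₂

open CategoryTheory CategoryTheory.Limits Opposite

namespace Groth.Agent.Lib.H6xDerLim

open DerivedCategory Groth.Agent.Lib.Helper17.Hyp Groth.Agent.S14388

variable {A : Type (v + 1)} [Category.{v} A] [Abelian A] [HasDerivedCategory.{w} A]
  {C : Type u'} [Category.{v'} C] {J : GrothendieckTopology C} {fr : C ⥤ A}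

theorem limOneIsZero_of_equiv₂ {G : ℕ → Type u₁} {G' : ℕ → Type u₂}
    [∀ n, AddCommGroup (G n)]
    [∀ n, AddCommGroup (G' n)] (t : ∀ n, G (n + 1) →+ G n) (t' : ∀ n, G' (n + 1) →+ G' n)
    (e : ∀ n, G n ≃+ G' n) (he : ∀ n x, e n (t n x) = t' n (e (n + 1) x))
    (h : CohCx.LimOneIsZero G' t') : CohCx.LimOneIsZero G t := by
  intro b
  obtain ⟨a', ha'⟩ := h (fun n => e n (b n))
  refine ⟨fun n => (e n).symm (a' n), ?_⟩
  funext n
  apply (e n).injective
  have := congrFun ha' n
  dsimp only at this ⊢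
  rw [map_sub, he, AddEquiv.apply_symm_apply, AddEquiv.apply_symm_apply]
  exact this

theorem limOneIsZero_hom_abs (P : A) (K : ℕ → DerivedCategory A) (t : ∀ n, K (n + 1) ⟶ K n)
    (q : ℤ) (hcm : ∀ n, Function.Bijective (cm (P := P) (K := K n) (m := q)))
    (h2 : CohCx.LimOneIsZero (fun n => P ⟶ (homologyFunctor A q).obj (K n))
      (fun n => Preadditive.rightComp P ((homologyFunctor A q).map (t n)))) :
    CohCx.LimOneIsZero (fun n => dsgl P ⟶ (K n)⟦q⟧)
      (fun n => Preadditive.rightComp _ ((t n)⟦q⟧')) := by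
  exact limOneIsZero_of_equiv₂ (G := fun n => dsgl P ⟶ (K n)⟦q⟧)
    (G' := fun n => P ⟶ (homologyFunctor A q).obj (K n))
    (fun n => Preadditive.rightComp _ ((t n)⟦q⟧'))
    (fun n => Preadditive.rightComp P ((homologyFunctor A q).map (t n)))
    (fun n => AddEquiv.ofBijective (cmAdd P (K n) q) (hcm n))
    (fun n x => cm_comp x (t n)) h2

theorem limOneIsZero_postcomp_iso (P : A) {G G' : ℕ → A} (τ : ∀ n, G (n + 1) ⟶ G n)
    (τ' : ∀ n, G' (n + 1) ⟶ G' n) (e : ∀ n, G n ≅ G' n)
    (he : ∀ n, τ n ≫ (e n).hom = (e (n + 1)).hom ≫ τ' n)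
    (h : CohCx.LimOneIsZero (fun n => P ⟶ G' n) (fun n => Preadditive.rightComp P (τ' n))) :
    CohCx.LimOneIsZero (fun n => P ⟶ G n) (fun n => Preadditive.rightComp P (τ n)) :=
  limOneIsZero_of_equiv _ _
    (fun n => { toFun := fun x => x ≫ (e n).hom
                invFun := fun y => y ≫ (e n).inv
                left_inv := fun x => by simp
                right_inv := fun y => by simp
                map_add' := fun x y => Preadditive.add_comp _ _ _ x y (e n).hom })
    (fun n x => by
      change (x ≫ τ n) ≫ (e n).hom = (x ≫ (e (n + 1)).hom) ≫ τ' n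
      rw [Category.assoc, Category.assoc, he]) h

section Main

variable [HasLimitsOfShape ℕᵒᵖ A]

theorem isRlim_single_limit_abs (hfr : LocFr J fr) (F : ℕ → A) (t : ∀ n, F (n + 1) ⟶ F n)
    [HasProduct fun n => (singleFunctor A 0).obj (F n)]
    (B : Set C)
    (hB : ∀ U : C, ∃ R : Presieve U, Sieve.generate R ∈ J U ∧
      ∀ ⦃V : C⦄ (g : V ⟶ U), R g → V ∈ B)
    (hcm : ∀ U ∈ B, ∀ (m : ℤ) (n : ℕ), Function.Bijective
      (cm (P := fr.obj U) (K := (singleFunctor A 0).obj (F n)) (m := m)))
    (h2 : ∀ U ∈ B, CohCx.LimOneIsZero (fun n => fr.obj U ⟶ F n)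
      (fun n => Preadditive.rightComp _ (t n))) :
    ∃ (L : DerivedCategory A) (a : ∀ n, L ⟶ (singleFunctor A 0).obj (F n))
      (_ : L ≅ (singleFunctor A 0).obj (limit (CohCx.opSequence F t))),
      CohCx.IsRlimVia (fun n => (singleFunctor A 0).obj (F n))
        (fun n => (singleFunctor A 0).map (t n)) L a := by
  obtain ⟨L, a, hL⟩ := exists_isRlimVia
    (fun n => (singleFunctor A 0).obj (F n))
    (fun n => (singleFunctor A 0).map (t n))
  have hKz : ∀ (n : ℕ) (q : ℤ), q ≠ 0 → IsZero ((homologyFunctor A q).obj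
      ((singleFunctor A 0).obj (F n))) := fun n q hq =>
    isZero_homology_of_amp _ 0 q hq
  have hnat : ∀ n, (homologyFunctor A 0).map
      ((singleFunctor A 0).map (t n)) ≫ (e₀ (F n)).hom =
      (e₀ (F (n + 1))).hom ≫ t n := fun n => (e₀NatIso (A := A)).hom.naturality (t n)
  have h2' : ∀ U ∈ B, ∀ q : ℤ, CohCx.LimOneIsZero
      (fun n => fr.obj U ⟶ (homologyFunctor A q).obj ((singleFunctor A 0).obj (F n)))
      (fun n => Preadditive.rightComp _ ((homologyFunctor A q).map
        ((singleFunctor A 0).map (t n)))) := by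
    intro U hU q
    by_cases hq : q = 0
    · subst hq
      exact limOneIsZero_postcomp_iso (fr.obj U) _ t (fun n => e₀ (F n)) hnat (h2 U hU)
    · haveI : ∀ n, Subsingleton (fr.obj U ⟶ (homologyFunctor A q).obj
          ((singleFunctor A 0).obj (F n))) :=
        fun n => ⟨fun y y' => (hKz n q hq).eq_of_tgt _ _⟩
      exact limOneIsZero_of_subsingleton _
  have hiso : ∀ q : ℤ, IsIso (towerLift
      (fun n => (homologyFunctor A q).map ((singleFunctor A 0).map (t n)))
      (fun n => (homologyFunctor A q).map (a n))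
      (fun n => by rw [← Functor.map_comp, isRlimVia_comp_t hL])) := fun q =>
    isIso_towerLift_homology (fr := fr) hfr hL q B hB (fun U hU n => hcm U hU q n)
      (fun U hU => limOneIsZero_hom_abs _ _ _ (q - 1) (fun n => hcm U hU (q - 1) n)
        (h2' U hU (q - 1)))
  have hLz : ∀ q : ℤ, q ≠ 0 → IsZero ((homologyFunctor A q).obj L) := by
    intro q hq
    haveI := hiso q
    exact IsZero.of_iso (isZero_limit_tower _ (fun n => hKz n q hq)) (asIso (towerLift
      (fun n => (homologyFunctor A q).map ((singleFunctor A 0).map (t n)))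
      (fun n => (homologyFunctor A q).map (a n))
      (fun n => by rw [← Functor.map_comp, isRlimVia_comp_t hL])))
  haveI : L.IsGE 0 := (isGE_iff L 0).2 (fun i hi => hLz i (by omega))
  haveI : L.IsLE 0 := (isLE_iff L 0).2 (fun i hi => hLz i (by omega))
  obtain ⟨Y, ⟨θ⟩⟩ := exists_iso_singleFunctor_obj_of_isGE_of_isLE L 0
  haveI := hiso 0
  let e1 : Y ≅ (homologyFunctor A 0).obj L :=
    (e₀ Y).symm ≪≫ (homologyFunctor A 0).mapIso θ.symm
  let e2 := asIso (towerLift
      (fun n => (homologyFunctor A 0).map ((singleFunctor A 0).map (t n)))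
      (fun n => (homologyFunctor A 0).map (a n))
      (fun n => by rw [← Functor.map_comp, isRlimVia_comp_t hL]))
  let α : CohCx.opSequence (fun n => (homologyFunctor A 0).obj ((singleFunctor A 0).obj (F n)))
      (fun n => (homologyFunctor A 0).map ((singleFunctor A 0).map (t n))) ⟶
      CohCx.opSequence F t :=
    NatTrans.ofOpSequence (fun n => (e₀ (F n)).hom) (fun n => by
      rw [Functor.ofOpSequence_map_homOfLE_succ, Functor.ofOpSequence_map_homOfLE_succ]
      exact hnat n)
  haveI : ∀ j, IsIso (α.app j) := fun j => by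
    change IsIso (e₀ (F j.unop)).hom
    infer_instance
  haveI : IsIso α := NatIso.isIso_of_isIso_app α
  let e3 := HasLimit.isoOfNatIso (asIso α)
  let ε : L ≅ (singleFunctor A 0).obj (limit (CohCx.opSequence F t)) :=
    θ ≪≫ (singleFunctor A 0).mapIso (e1 ≪≫ e2 ≪≫ e3)
  exact ⟨L, a, ε, hL⟩

end Main

end Groth.Agent.Lib.H6xDerLim
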