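import Groth.Agent.Lib.H6xQcTruncA
import Groth.Agent.Lib.H6xDerLimE
import Groth.Agent.Lib.H6xBasisCohB
import Groth.Agent.Lib.Helper23QCohAbelian
import Groth.Agent.S0943

/-!
# The limit of a surjective system of quasi-coherent modules is a derived limit (helper6)
-/

set_option autoImplicit false
set_option linter.style.haveILetI false

universe w u

open CategoryTheory CategoryTheory.Limits Opposite AlgebraicGeometry TopologicalSpace

namespace Groth.Agent.Lib.H6xQcTrunc

open Groth.Agent.Lib.Helper17.Hyp Groth.Agent.Lib.Helper21 Groth.Agent.Lib.Helper21.FreeAb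
  Groth.Agent.Lib.Helper21.TorsFree Groth.Agent.S14388 DerivedCategory

variable {X : Scheme.{u}}

theorem isQCoh_of_isZero (Z : X.Modules) (hZ : IsZero Z) : Coh.IsQCoh Z := by
  have h := Groth.Agent.Lib.Helper23.QCohLocal.isQuasicoherent_colimit
    (Functor.empty.{u} X.Modules) (fun j => j.as.elim)
  have hz : IsZero (colimit (Functor.empty.{u} X.Modules)) := by
    rw [IsZero.iff_id_eq_zero]
    exact colimit.hom_ext (fun j => j.as.elim)
  exact (SheafOfModules.isQuasicoherent.{u} X.ringCatSheaf).prop_of_iso (hz.iso hZ) h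

theorem isQCoh_of_iso {M N : X.Modules} (e : M ≅ N) (h : Coh.IsQCoh M) : Coh.IsQCoh N :=
  (SheafOfModules.isQuasicoherent.{u} X.ringCatSheaf).prop_of_iso e h

theorem surjective_postcomp_frX_of_epi (U : X.Opens) (hU : IsAffineOpen U) {M N : X.Modules}
    (hM : Coh.IsQCoh M) (hN : Coh.IsQCoh N) (π : M ⟶ N) [Epi π] :
    Function.Surjective (fun x : (frX X).obj U ⟶ M => x ≫ π) := by
  haveI := hasExt_modules (X := X)
  haveI : M.IsQuasicoherent := hM
  haveI : N.IsQuasicoherent := hN
  haveI : (kernel π).IsQuasicoherent :=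
    Groth.Agent.Lib.Helper23.QCohLocal.isQuasicoherent_kernel π
  let S : ShortComplex X.Modules := ShortComplex.mk (kernel.ι π) π (kernel.condition π)
  have hS : S.ShortExact :=
    { exact := ShortComplex.exact_kernel π
      mono_f := inferInstanceAs (Mono (kernel.ι π))
      epi_g := inferInstanceAs (Epi π) }
  intro φ
  haveI h1 := subsingleton_ext_frX_of_affine U hU (kernel π) 1 Nat.one_pos
  obtain ⟨x₂, hx₂⟩ := Abelian.Ext.covariant_sequence_exact₃ ((frX X).obj U) hS
    (Abelian.Ext.mk₀ φ) (rfl : 0 + 1 = 1) (Subsingleton.elim _ _)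
  obtain ⟨ψ, rfl⟩ := (Abelian.Ext.mk₀_bijective _ _).2 x₂
  refine ⟨ψ, ?_⟩
  rw [Abelian.Ext.mk₀_comp_mk₀] at hx₂
  exact (Abelian.Ext.mk₀_bijective _ _).1 hx₂

theorem limOneIsZero_hom_frX (U : X.Opens) (hU : IsAffineOpen U) (F : ℕ → X.Modules)
    (hF : ∀ n, Coh.IsQCoh (F n)) (t : ∀ n, F (n + 1) ⟶ F n) (ht : ∀ n, 1 ≤ n → Epi (t n)) :
    CohCx.LimOneIsZero (fun n => (frX X).obj U ⟶ F n)
      (fun n => Preadditive.rightComp _ (t n)) := by
  refine limOneIsZero_of_surjective 1 _ _ (fun n hn => ?_)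
  haveI := ht n hn
  exact surjective_postcomp_frX_of_epi U hU (hF (n + 1)) (hF n) (t n)

section

variable [HasDerivedCategory.{w} X.Modules]

theorem hasProduct_nat_derived (K : ℕ → DerivedCategory X.Modules) : HasProduct K := by
  haveI : HasProducts.{u} (DerivedCategory X.Modules) :=
    Groth.Agent.Lib.Helper17.KInj.hasProducts_derivedCategory
  haveI : HasLimitsOfShape (Discrete (ULift.{u} ℕ)) (DerivedCategory X.Modules) := inferInstance
  haveI : HasLimitsOfShape (Discrete ℕ) (DerivedCategory X.Modules) :=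
    hasLimitsOfShape_of_equivalence (Discrete.equivalence Equiv.ulift.{u, 0})
  infer_instance

theorem isQCohD_single (F : X.Modules) (hF : Coh.IsQCoh F) (i : ℤ) :
    Coh.IsQCoh ((homologyFunctor X.Modules i).obj ((singleFunctor X.Modules 0).obj F)) := by
  by_cases hi : i = 0
  · subst hi
    exact isQCoh_of_iso (e₀ F).symm hF
  · exact isQCoh_of_isZero _ (isZero_homology_of_amp _ 0 i hi)

theorem cm_bijective_frX_single (U : X.Opens) (hU : IsAffineOpen U) (F : X.Modules)
    (hF : Coh.IsQCoh F) (m : ℤ) :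
    Function.Bijective (cm (P := (frX X).obj U) (K := (singleFunctor X.Modules 0).obj F)
      (m := m)) := by
  haveI := hasProduct_nat_derived (CohCx.truncTower ((singleFunctor X.Modules 0).obj F))
  have hL := isRlimVia_truncTower_of_isQCohD ((singleFunctor X.Modules 0).obj F)
    (isQCohD_single F hF)
  refine Groth.Agent.Lib.H6xBasisCoh.cm_bijective_of_isRlimVia ((frX X).obj U) _ hL m
    (fun j k hk => ?_)
  haveI : ((homologyFunctor X.Modules j).obj
      ((singleFunctor X.Modules 0).obj F)).IsQuasicoherent := isQCohD_single F hF j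
  exact subsingleton_hom_frX_of_affine U hU _ k hk

theorem subsingleton_HHon_of_hom (U : X.Opens) (M : X.Modules) (p : ℕ)
    (h : Subsingleton (dsgl ((frX X).obj U) ⟶
      ((singleFunctor X.Modules 0).obj M)⟦(p : ℤ)⟧)) :
    Subsingleton (Coh.HHon X M U p) := by
  haveI := hasExt_modules (X := X)
  haveI : HasExt.{u} (SheafOfModules.{u} X.ringCatSheaf) := hasExt_modules (X := X)
  have h1 : Subsingleton (Abelian.Ext.{u} ((frX X).obj U) M p) :=
    @Equiv.subsingleton _ _ (Abelian.Ext.homEquiv (X := (frX X).obj U) (Y := M) (n := p)) h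
  obtain ⟨e⟩ := nonempty_ext_freeShR_iso X.ringCatSheaf
    (CohCx.freeSheaf (Opens.grothendieckTopology X) U) (TF_freeSheaf U) M p
  have h2 : Subsingleton (Abelian.Ext.{u} (CohCx.freeSheaf (Opens.grothendieckTopology X) U)
      ((SheafOfModules.toSheaf X.ringCatSheaf).obj M) p) :=
    @Equiv.subsingleton _ _ e.addCommGroupIsoToAddEquiv.symm.toEquiv h1
  have h3 : Subsingleton (CohTop.HU (Coh.toAb M) p U) := h2
  obtain ⟨e'⟩ := Groth.Agent.Lib.Helper16.Restr.nonempty_HU_equiv (X := X.carrier) U (Coh.toAb M) p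
  have h4 : Subsingleton (CohTop.H (CohTop.restr (Coh.toAb M) U) p) :=
    @Equiv.subsingleton _ _ e'.symm.toEquiv h3
  exact h4

theorem main (F : ℕ → X.Modules) (hF : ∀ n, Coh.IsQCoh (F n)) (t : ∀ n, F (n + 1) ⟶ F n)
    (ht : ∀ n, 1 ≤ n → Epi (t n))
    [HasProduct fun n => (singleFunctor X.Modules 0).obj (F n)] :
    DCoh.IsRlim (fun n => (singleFunctor X.Modules 0).obj (F n))
        (fun n => (singleFunctor X.Modules 0).map (t n))
        ((singleFunctor X.Modules 0).obj (limit (Functor.ofOpSequence t))) ∧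
      ∀ (U : X.Opens), IsAffineOpen U → ∀ p : ℕ, 0 < p →
        Subsingleton (Coh.HHon X (limit (Functor.ofOpSequence t)) U p) := by
  have hB : ∀ U : X.Opens, ∃ R : Presieve U,
      Sieve.generate R ∈ Opens.grothendieckTopology X U ∧
      ∀ ⦃V : X.Opens⦄ (g : V ⟶ U), R g → V ∈ {V : X.Opens | IsAffineOpen V} := by
    intro U
    refine ⟨fun V _ => IsAffineOpen V, ?_, fun V g hV => hV⟩
    intro x hx
    obtain ⟨V, hV, hxV, hVU⟩ :=
      (Opens.isBasis_iff_nbhd.1 X.isBasis_affineOpens) hx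
    exact ⟨V, homOfLE hVU, ⟨V, 𝟙 V, homOfLE hVU, hV, Category.id_comp _⟩, hxV⟩
  have hcm : ∀ U ∈ {V : X.Opens | IsAffineOpen V}, ∀ (m : ℤ) (n : ℕ), Function.Bijective
      (cm (P := (frX X).obj U) (K := (singleFunctor X.Modules 0).obj (F n)) (m := m)) :=
    fun U hU m n => cm_bijective_frX_single U hU (F n) (hF n) m
  have h2 : ∀ U ∈ {V : X.Opens | IsAffineOpen V},
      CohCx.LimOneIsZero (fun n => (frX X).obj U ⟶ F n)
        (fun n => Preadditive.rightComp _ (t n)) :=
    fun U hU => limOneIsZero_hom_frX U hU F hF t ht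
  obtain ⟨L, a, ε, hL⟩ := Groth.Agent.Lib.H6xDerLim.isRlim_single_limit_abs
    (locFr_frX X) F t {V : X.Opens | IsAffineOpen V} hB hcm h2
  refine ⟨?_, ?_⟩
  · obtain ⟨c, hc⟩ := isRlimVia_of_iso hL ε.inv (fun n => ε.inv ≫ a n) (fun n => rfl)
    exact ⟨_, c, hc⟩
  · intro U hU p hp
    apply subsingleton_HHon_of_hom
    refine subsingleton_hom_of_iso ((shiftFunctor _ (p : ℤ)).mapIso ε) ⟨fun y y' => ?_⟩
    have key : ∀ y : dsgl ((frX X).obj U) ⟶ L⟦(p : ℤ)⟧, y = 0 := by
      intro y
      refine (Groth.Agent.S0943.milnor_general hL (dsgl ((frX X).obj U)) (p : ℤ)).2 ?_ y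
        (fun n => ?_)
      · refine Groth.Agent.Lib.H6xDerLim.limOneIsZero_hom_abs _ _ _ ((p : ℤ) - 1)
          (fun n => hcm U hU _ n) ?_
        by_cases hq : (p : ℤ) - 1 = 0
        · rw [hq]
          exact Groth.Agent.Lib.H6xDerLim.limOneIsZero_postcomp_iso ((frX X).obj U) _ t
            (fun n => e₀ (F n)) (fun n => (e₀NatIso (A := X.Modules)).hom.naturality (t n))
            (h2 U hU)
        · haveI : ∀ n, Subsingleton ((frX X).obj U ⟶ (homologyFunctor X.Modules ((p : ℤ) - 1)).obj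
              ((singleFunctor X.Modules 0).obj (F n))) :=
            fun n => ⟨fun y y' => (isZero_homology_of_amp _ 0 _ hq).eq_of_tgt _ _⟩
          exact Groth.Agent.Lib.H6xDerLim.limOneIsZero_of_subsingleton _
      · haveI : (F n).IsQuasicoherent := hF n
        haveI := subsingleton_hom_frX_of_affine U hU (F n) p hp
        exact Subsingleton.elim _ _
    rw [key y, key y']

end

end Groth.Agent.Lib.H6xQcTrunc
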