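import Mathlib
import Groth.Agent.Lib.Helper17Hyp16
import Groth.Agent.Lib.H6xBasisCohB

/-!
# Projective separators and the derived category (helper6)

For a projective separator `P` of a Grothendieck abelian category `A`:
`Hom_{D(A)}(P, K[m]) = Hom_A(P, H^m K)`, every `K` is the derived limit of its truncations,
and a morphism of `D(A)` inducing bijections on `Hom(P, -[m])` is an isomorphism.
-/

set_option autoImplicit false
set_option linter.style.haveILetI false

universe w w' v

open CategoryTheory CategoryTheory.Limits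

namespace Groth.Agent.Lib.H6xTilde

open DerivedCategory Groth.Agent.Lib.Helper17.Hyp

variable {A : Type (v + 1)} [Category.{v} A] [Abelian A]

/-- the constant functor at `P` from the one-point category. -/
noncomputable def frP (P : A) : Discrete PUnit.{1} ⥤ A := (Functor.const _).obj P

theorem locFr_frP (P : A) [Projective P] (hP : IsSeparator P) :
    LocFr (GrothendieckTopology.trivial (Discrete PUnit.{1})) (frP P) where
  lift := by
    intro F G π _ U s
    have s₀ : P ⟶ G := s
    obtain ⟨s₀, hs₀⟩ : ∃ s₀ : P ⟶ G, s₀ = s := ⟨s, rfl⟩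
    refine ⟨⊤, GrothendieckTopology.top_mem _ _, fun V f _ =>
      ⟨(Projective.factorThru s₀ π : P ⟶ F), ?_⟩⟩
    refine (Projective.factorThru_comp s₀ π).trans ?_
    rw [hs₀]
    exact (Category.id_comp s).symm
  sep := by
    intro G U s T hT h
    rw [GrothendieckTopology.trivial_covering] at hT
    subst hT
    have h1 := h (𝟙 U) trivial
    exact (Category.id_comp s).symm.trans h1
  gen := by
    intro G G' π h
    apply hP.def
    intro s
    rw [comp_zero]
    exact h ⟨⟨⟩⟩ s

variable [HasDerivedCategory.{w} A]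

theorem subsingleton_hom_of_projective (P : A) [Projective P] (N : A) (k : ℕ) (hk : 0 < k) :
    Subsingleton (dsgl P ⟶ ((singleFunctor A 0).obj N)⟦(k : ℤ)⟧) := by
  haveI : HasExt.{w} A := hasExt_of_hasDerivedCategory _
  obtain ⟨k', rfl⟩ := Nat.exists_eq_succ_of_ne_zero (Nat.pos_iff_ne_zero.1 hk)
  refine @Equiv.subsingleton _ _ (Abelian.Ext.homEquiv (X := P) (Y := N) (n := k' + 1)).symm
    ⟨fun a b => ?_⟩
  rw [Abelian.Ext.eq_zero_of_projective a, Abelian.Ext.eq_zero_of_projective b]

theorem isRlimVia_truncTower_of_projsep [IsGrothendieckAbelian.{w'} A] (P : A) [Projective P]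
    (hP : IsSeparator P) (E : DerivedCategory A) [HasProduct (CohCx.truncTower E)] :
    CohCx.IsRlimVia (CohCx.truncTower E) (CohCx.truncTowerMap E) E (CohCx.toTruncTower E) := by
  apply isRlimVia_truncTower_of_cofinal.{w, w'} (fr := frP P) (locFr_frP P hP) E
  intro U
  refine ⟨fun V _ => True, ?_, fun V g _ => ⟨fun _ => 0, fun T hT => ?_⟩⟩
  · rw [GrothendieckTopology.trivial_covering]
    ext V f
    exact ⟨fun _ => trivial, fun _ => ⟨V, 𝟙 V, f, trivial, Category.id_comp _⟩⟩
  · rw [GrothendieckTopology.trivial_covering] at hT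
    subst hT
    refine ⟨fun W _ => True, fun W g' _ => trivial, ?_, fun W g' _ m k hk => ?_⟩
    · rw [GrothendieckTopology.trivial_covering]
      ext V' f
      exact ⟨fun _ => trivial, fun _ => ⟨V', 𝟙 V', f, trivial, Category.id_comp _⟩⟩
    · have hk' : (0 : ℤ) < k := hk
      exact subsingleton_hom_of_projective P _ k (by exact_mod_cast hk')

theorem cm_bijective_of_projsep [IsGrothendieckAbelian.{w'} A] (P : A) [Projective P]
    (hP : IsSeparator P) (E : DerivedCategory A) [HasProduct (CohCx.truncTower E)] (q : ℤ) :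
    Function.Bijective (cm (P := P) (K := E) (m := q)) :=
  Groth.Agent.Lib.H6xBasisCoh.cm_bijective_of_isRlimVia P E
    (isRlimVia_truncTower_of_projsep.{w, w'} P hP E) q
    (fun _ k hk => subsingleton_hom_of_projective P _ k hk)

omit [HasDerivedCategory.{w} A] in
/-- a morphism inducing a bijection on `Hom(P, -)` for a projective separator `P` is an iso. -/
theorem isIso_of_bijective_postcomp_projsep (P : A) [Projective P] (hP : IsSeparator P)
    {M N : A} (f : M ⟶ N) (hf : Function.Bijective (fun x : P ⟶ M => x ≫ f)) : IsIso f := by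
  haveI : Mono f := by
    apply Abelian.mono_of_kernel_ι_eq_zero
    apply hP.def
    intro s
    rw [comp_zero]
    apply hf.1
    change (s ≫ kernel.ι f) ≫ f = 0 ≫ f
    rw [Category.assoc, kernel.condition, comp_zero, zero_comp]
  haveI : Epi f := by
    apply Abelian.epi_of_cokernel_π_eq_zero
    apply hP.def
    intro s
    rw [comp_zero]
    obtain ⟨x, hx⟩ := hf.2 s
    dsimp only at hx
    rw [← hx, Category.assoc, cokernel.condition, comp_zero]
  exact isIso_of_mono_of_epi f

theorem isIso_of_bijective_postcomp_dsgl [IsGrothendieckAbelian.{w'} A] (P : A) [Projective P]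
    (hP : IsSeparator P) [HasLimitsOfShape (Discrete ℕ) (DerivedCategory A)]
    {Z Z' : DerivedCategory A} (φ : Z ⟶ Z')
    (h : ∀ q : ℤ, Function.Bijective (fun x : dsgl P ⟶ Z⟦q⟧ => x ≫ φ⟦q⟧')) : IsIso φ := by
  rw [DerivedCategory.isIso_iff]
  intro q
  apply isIso_of_bijective_postcomp_projsep P hP
  have h1 := cm_bijective_of_projsep.{w, w'} P hP Z q
  have h2 := cm_bijective_of_projsep.{w, w'} P hP Z' q
  have hfun : (fun x : P ⟶ (homologyFunctor A q).obj Z => x ≫ (homologyFunctor A q).map φ) =
      cm ∘ (fun x : dsgl P ⟶ Z⟦q⟧ => x ≫ φ⟦q⟧') ∘ (Equiv.ofBijective _ h1).symm := by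
    funext x
    obtain ⟨y, rfl⟩ := h1.2 x
    dsimp only [Function.comp]
    rw [show (Equiv.ofBijective _ h1).symm (cm y) = y from
      (Equiv.ofBijective _ h1).symm_apply_apply y, cm_comp]
  rw [hfun]
  exact h2.comp ((h q).comp (Equiv.bijective _))

end Groth.Agent.Lib.H6xTilde
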