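import Mathlib
import Groth.Agent.Lib.H6xTildeA
import Groth.Agent.Lib.Helper17Hyp22
import Groth.Agent.Lib.Helper17Hyp24
import Groth.Agent.Lib.Helper17Hyp25
import Groth.Agent.Lib.Helper17Hyp17

/-!
# An exact fully faithful functor out of a category with a projective separator (helper6)

Abstract form of `D(A) ≃ D_QCoh(O_{Spec A})`.
-/

set_option autoImplicit false
set_option linter.style.haveILetI false

universe w w' w'' v v' u'

open CategoryTheory CategoryTheory.Limits

namespace Groth.Agent.Lib.H6xTilde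

open DerivedCategory Groth.Agent.Lib.Helper17.Hyp

section Shift

variable {C : Type*} [Category C] [HasShift C ℤ]

/-- moving a shift across a hom set -/
noncomputable def shiftHomEquiv (X Y : C) (n : ℤ) : (X⟦-n⟧ ⟶ Y) ≃ (X ⟶ Y⟦n⟧) :=
  (shiftEquiv' C (-n) n (neg_add_cancel n)).toAdjunction.homEquiv X Y

lemma shiftHomEquiv_comp {X Y Y' : C} (n : ℤ) (x : X⟦-n⟧ ⟶ Y) (φ : Y ⟶ Y') :
    shiftHomEquiv X Y' n (x ≫ φ) = shiftHomEquiv X Y n x ≫ φ⟦n⟧' :=
  Adjunction.homEquiv_naturality_right _ _ _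

lemma bijective_postcomp_shift_iff (P : C) {Z Z' : C} (φ : Z ⟶ Z') (q : ℤ) :
    Function.Bijective (fun x : P ⟶ Z⟦q⟧ => x ≫ φ⟦q⟧') ↔
      Function.Bijective (fun y : P⟦-q⟧ ⟶ Z => y ≫ φ) := by
  have hfun : (fun x : P ⟶ Z⟦q⟧ => x ≫ φ⟦q⟧') =
      (shiftHomEquiv P Z' q) ∘ (fun y : P⟦-q⟧ ⟶ Z => y ≫ φ) ∘ (shiftHomEquiv P Z q).symm := by
    funext x
    dsimp only [Function.comp]
    rw [shiftHomEquiv_comp, Equiv.apply_symm_apply]
  rw [hfun, Equiv.comp_bijective, Equiv.bijective_comp]

end Shift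

section Neg

variable {A : Type (v + 1)} [Category.{v} A] [Abelian A] [HasDerivedCategory.{w} A]

theorem subsingleton_hom_dsgl_neg (P M : A) (q : ℤ) (hq : q < 0) :
    Subsingleton (dsgl P ⟶ ((singleFunctor A 0).obj M)⟦q⟧) := by
  haveI : (dsgl P).IsLE 0 := inferInstanceAs (((singleFunctor A 0).obj P).IsLE 0)
  haveI : (((singleFunctor A 0).obj M)⟦q⟧).IsGE (-q) :=
    DerivedCategory.TStructure.t.isGE_shift _ 0 q (-q) (by omega)
  refine ⟨fun a b => ?_⟩
  rw [DerivedCategory.TStructure.t.zero_of_isLE_of_isGE a 0 (-q) (by omega) inferInstance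
    inferInstance,
    DerivedCategory.TStructure.t.zero_of_isLE_of_isGE b 0 (-q) (by omega) inferInstance
    inferInstance]

theorem subsingleton_hom_dsgl_shift_of_projective (P : A) [Projective P] (M : A) (q : ℤ)
    (hq : q ≠ 0) : Subsingleton (dsgl P ⟶ ((singleFunctor A 0).obj M)⟦q⟧) := by
  rcases lt_or_gt_of_ne hq with h | h
  · exact subsingleton_hom_dsgl_neg P M q h
  · obtain ⟨k, rfl⟩ := Int.eq_ofNat_of_zero_le h.le
    exact subsingleton_hom_of_projective P M k (by exact_mod_cast h)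

end Neg

variable {A : Type (v + 1)} [Category.{v} A] [Abelian A] [HasDerivedCategory.{w} A]
  {B : Type (v' + 1)} [Category.{v'} B] [Abelian B] [HasDerivedCategory.{w''} B]
  (F : A ⥤ B) [F.Additive] [PreservesFiniteLimits F] [PreservesFiniteColimits F]
  (RG : DerivedCategory B ⥤ DerivedCategory A) (adj : F.mapDerivedCategory ⊣ RG)

include adj in
theorem isIso_unit_app_of_map_bijective [IsGrothendieckAbelian.{w'} A]
    [HasLimitsOfShape (Discrete ℕ) (DerivedCategory A)]
    (P : A) [Projective P] (hP : IsSeparator P) (Y : DerivedCategory A)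
    (h : ∀ q : ℤ, Function.Bijective
      (fun y : (dsgl P)⟦-q⟧ ⟶ Y => F.mapDerivedCategory.map y)) :
    IsIso (adj.unit.app Y) := by
  apply isIso_of_bijective_postcomp_dsgl.{w, w'} P hP
  intro q
  rw [bijective_postcomp_shift_iff]
  change Function.Bijective (fun y : (dsgl P)⟦-q⟧ ⟶ Y => y ≫ adj.unit.app Y)
  have hfun : (fun y : (dsgl P)⟦-q⟧ ⟶ Y => y ≫ adj.unit.app Y) =
      (adj.homEquiv _ _) ∘ (fun y : (dsgl P)⟦-q⟧ ⟶ Y => F.mapDerivedCategory.map y) := by
    funext y
    dsimp only [Function.comp]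
    rw [Adjunction.homEquiv_unit]
    exact adj.unit.naturality y
  rw [hfun]
  exact (Equiv.bijective _).comp (h q)

omit [HasDerivedCategory.{w} A] [HasDerivedCategory.{w''} B] [F.Additive]
  [PreservesFiniteLimits F] [PreservesFiniteColimits F] [Abelian A] [Abelian B] in
lemma map_bijective_of_iso {C D : Type*} [Category C] [Category D] (T : C ⥤ D) {X X' Y : C}
    (e : X ≅ X') (h : Function.Bijective (fun y : X' ⟶ Y => T.map y)) :
    Function.Bijective (fun y : X ⟶ Y => T.map y) := by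
  have hfun : (fun y : X ⟶ Y => T.map y) =
      (fun z : T.obj X' ⟶ T.obj Y => T.map e.hom ≫ z) ∘ (fun y : X' ⟶ Y => T.map y) ∘
        (fun y : X ⟶ Y => e.inv ≫ y) := by
    funext y
    dsimp only [Function.comp]
    rw [← Functor.map_comp, Iso.hom_inv_id_assoc]
  rw [hfun]
  refine Function.Bijective.comp ?_ (h.comp ?_)
  · exact ((T.mapIso e).homFromEquiv (Z := T.obj Y)).symm.bijective
  · exact (e.homFromEquiv (Z := Y)).bijective

theorem map_bijective_single [F.Full] [F.Faithful] (P M : A) :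
    Function.Bijective (fun y : dsgl P ⟶ (singleFunctor A 0).obj M =>
      F.mapDerivedCategory.map y) := by
  let e := F.mapDerivedCategorySingleFunctor 0
  haveI : (singleFunctor A 0 ⋙ F.mapDerivedCategory).Full := Functor.Full.of_iso e.symm
  haveI : (singleFunctor A 0 ⋙ F.mapDerivedCategory).Faithful := Functor.Faithful.of_iso e.symm
  have h1 := (Functor.FullyFaithful.ofFullyFaithful
    (singleFunctor A 0 ⋙ F.mapDerivedCategory)).map_bijective P M
  have h2 := (Functor.FullyFaithful.ofFullyFaithful (singleFunctor A 0)).map_bijective P M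
  have hfun : ((singleFunctor A 0 ⋙ F.mapDerivedCategory).map : (P ⟶ M) → _) =
      (fun y : dsgl P ⟶ (singleFunctor A 0).obj M => F.mapDerivedCategory.map y) ∘
        ((singleFunctor A 0).map : (P ⟶ M) → _) := rfl
  rw [hfun] at h1
  exact (Function.Bijective.of_comp_iff _ h2).1 h1

theorem map_bijective_shift [F.Full] [F.Faithful] (P M : A)
    (hA : ∀ q : ℤ, q ≠ 0 → Subsingleton (dsgl P ⟶ ((singleFunctor A 0).obj M)⟦q⟧))
    (hB : ∀ q : ℤ, q ≠ 0 →
      Subsingleton (dsgl (F.obj P) ⟶ ((singleFunctor B 0).obj (F.obj M))⟦q⟧))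
    (q : ℤ) : Function.Bijective (fun y : (dsgl P)⟦-q⟧ ⟶ (singleFunctor A 0).obj M =>
      F.mapDerivedCategory.map y) := by
  by_cases hq : q = 0
  · subst hq
    exact map_bijective_of_iso _ ((shiftFunctorZero' (DerivedCategory A) (-(0 : ℤ)) neg_zero).app _)
      (map_bijective_single F P M)
  · haveI h1 : Subsingleton ((dsgl P)⟦-q⟧ ⟶ (singleFunctor A 0).obj M) :=
      (shiftHomEquiv _ _ q).subsingleton_congr.2 (hA q hq)
    let e₁ : F.mapDerivedCategory.obj ((dsgl P)⟦-q⟧) ≅ (dsgl (F.obj P))⟦-q⟧ :=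
      (F.mapDerivedCategory.commShiftIso (-q)).app _ ≪≫
        (shiftFunctor _ (-q)).mapIso ((F.mapDerivedCategorySingleFunctor 0).app P)
    let e₂ : F.mapDerivedCategory.obj ((singleFunctor A 0).obj M) ≅
        (singleFunctor B 0).obj (F.obj M) := (F.mapDerivedCategorySingleFunctor 0).app M
    haveI h2 : Subsingleton (F.mapDerivedCategory.obj ((dsgl P)⟦-q⟧) ⟶
        F.mapDerivedCategory.obj ((singleFunctor A 0).obj M)) :=
      ((e₁.homCongr e₂).trans (shiftHomEquiv _ _ q)).subsingleton_congr.2 (hB q hq)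
    exact ⟨fun a b _ => Subsingleton.elim a b, fun z => ⟨0, Subsingleton.elim _ _⟩⟩

include adj in
/-- `h3`: the unit is an isomorphism on modules placed in degree `0`. -/
theorem isIso_unit_app_single [IsGrothendieckAbelian.{w'} A]
    [HasLimitsOfShape (Discrete ℕ) (DerivedCategory A)] [F.Full] [F.Faithful]
    (P : A) [Projective P] (hP : IsSeparator P) (M : A)
    (hB : ∀ q : ℤ, q ≠ 0 →
      Subsingleton (dsgl (F.obj P) ⟶ ((singleFunctor B 0).obj (F.obj M))⟦q⟧)) :
    IsIso (adj.unit.app ((singleFunctor A 0).obj M)) :=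
  isIso_unit_app_of_map_bijective.{w, w'} F RG adj P hP _
    (map_bijective_shift F P M (subsingleton_hom_dsgl_shift_of_projective P M) hB)

end Groth.Agent.Lib.H6xTilde
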