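import Mathlib
import Groth.Agent.Lib.H6xTildeB

/-!
# Abstract form of `D(A) ≃ D_QCoh(O_{Spec A})`, continued (helper6)
-/

set_option autoImplicit false
set_option linter.style.haveILetI false

universe w w' w'' v v' u'

open CategoryTheory CategoryTheory.Limits ZeroObject

namespace Groth.Agent.Lib.H6xTilde

open DerivedCategory Groth.Agent.Lib.Helper17.Hyp

variable {A : Type (v + 1)} [Category.{v} A] [Abelian A] [HasDerivedCategory.{w} A]
  {B : Type (v' + 1)} [Category.{v'} B] [Abelian B] [HasDerivedCategory.{w''} B]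
  (F : A ⥤ B) [F.Additive] [PreservesFiniteLimits F] [PreservesFiniteColimits F]
  (RG : DerivedCategory B ⥤ DerivedCategory A) (adj : F.mapDerivedCategory ⊣ RG)
  (PA : ObjectProperty A) [WSerre.IsWeakSerre PA] (PB : ObjectProperty B) [WSerre.IsWeakSerre PB]

include adj in
theorem isIso_homology_rlim_of_projsep [IsGrothendieckAbelian.{w'} A]
    (h2a : ∀ M : A, PA M → PB (F.obj M))
    (h2b : ∀ M N : A, PA M → PA N → Function.Bijective (fun φ : M ⟶ N => F.map φ))
    (h2c : ∀ N : B, PB N → ∃ M : A, PA M ∧ Nonempty (F.obj M ≅ N))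
    (h3 : ∀ M : A, PA M → IsIso (adj.unit.app ((singleFunctor A 0).obj M)))
    (P : A) [Projective P] (hP : IsSeparator P) (d : ℕ)
    (hvan : ∀ N : B, PB N → ∀ k : ℕ, d < k →
      Subsingleton (dsgl (F.obj P) ⟶ ((singleFunctor B 0).obj N)⟦(k : ℤ)⟧))
    (X : ℕ → DerivedCategory B) (t : ∀ n, X (n + 1) ⟶ X n)
    (hXn : ∀ n, WSerre.cohInPlus PB (X n))
    (hconst : ∀ j : ℤ, ∃ n₀ : ℕ, ∀ n, n₀ ≤ n → IsIso ((homologyFunctor B j).map (t n)))
    [HasProduct (fun n => RG.obj (X n))]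
    (L : DerivedCategory A) (a : ∀ n, L ⟶ RG.obj (X n))
    (hL : CohCx.IsRlimVia (fun n => RG.obj (X n)) (fun n => RG.map (t n)) L a) (j : ℤ) :
    ∃ n₀ : ℕ, ∀ n, n₀ ≤ n → IsIso ((homologyFunctor A j).map (a n)) := by
  have hfr := locFr_frP P hP
  letI : RG.CommShift ℤ := adj.rightAdjointCommShift ℤ
  choose n₀ hn₀ using hconst
  let N₀ := (Finset.Icc (j - d - 2) (j + 1)).sup n₀
  have hN₀ : ∀ q : ℤ, j - d - 2 ≤ q → q ≤ j + 1 → n₀ q ≤ N₀ := fun q h1 h2 =>
    Finset.le_sup (f := n₀) (Finset.mem_Icc.2 ⟨h1, h2⟩)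
  refine ⟨N₀, fun n hn => ?_⟩
  apply isIso_homology_of_evBij.{w, w'} hfr hL j n (fun n' hn' =>
    isIso_homology_right_map F RG adj PA PB h2a h2b h2c h3 (hXn (n' + 1)) (hXn n') (t n') j
      (hn₀ j n' (le_trans (le_trans (hN₀ j (by omega) (by omega)) hn) hn')))
  intro U
  have htop : ∀ V : Discrete PUnit.{1}, Sieve.generate (fun W (_ : W ⟶ V) => True) ∈
      GrothendieckTopology.trivial (Discrete PUnit.{1}) V := by
    intro V
    rw [GrothendieckTopology.trivial_covering]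
    ext V' f
    exact ⟨fun _ => trivial, fun _ => ⟨V', 𝟙 V', f, trivial, Category.id_comp _⟩⟩
  refine ⟨fun V _ => True, htop U, fun V g _ => ⟨n, le_refl n, fun T hT => ?_⟩⟩
  rw [GrothendieckTopology.trivial_covering] at hT
  subst hT
  refine ⟨fun W _ => True, fun W g' _ => trivial, htop V, fun W g' _ => ?_⟩
  haveI : (dsgl (F.obj P)).IsLE 0 :=
    inferInstanceAs (((singleFunctor B 0).obj (F.obj P)).IsLE 0)
  have hC : ∀ m : ℤ, (∀ q : ℤ, m - d - 1 ≤ q → q ≤ m + 1 → n₀ q ≤ n) →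
      EvBij (dsgl (F.obj P)) X t m n :=
    fun m hm n' hn' => bijective_postcomp_of_homology PB _ d hvan (t n') (hXn _) (hXn _) m
      (fun q h1 h2 => hn₀ q n' (le_trans (hm q h1 h2) hn'))
  let eP : F.mapDerivedCategory.obj (dsgl P) ≅ dsgl (F.obj P) :=
    (F.mapDerivedCategorySingleFunctor 0).app P
  change EvBij (dsgl P) _ _ (j - 1) n ∧ EvBij (dsgl P) _ _ j n
  constructor
  · exact EvBij.of_adjunction adj _
      ((hC (j - 1) (fun q h1 h2 => le_trans (hN₀ q (by omega) (by omega)) hn)).of_iso eP.symm)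
  · exact EvBij.of_adjunction adj _
      ((hC j (fun q h1 h2 => le_trans (hN₀ q (by omega) (by omega)) hn)).of_iso eP.symm)

instance isWeakSerre_top : WSerre.IsWeakSerre (⊤ : ObjectProperty A) where
  exists_zero := ⟨0, isZero_zero A, trivial⟩
  kernels_le := fun _ _ => trivial
  cokernels_le := fun _ _ => trivial

include adj in
/-- abstract form of `D(A) ≃ D_QCoh(O_{Spec A})`. -/
theorem main_abs [IsGrothendieckAbelian.{w'} A]
    [HasLimitsOfShape (Discrete ℕ) (DerivedCategory A)]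
    [HasLimitsOfShape (Discrete ℕ) (DerivedCategory B)]
    [F.Full] [F.Faithful]
    (P : A) [Projective P] (hP : IsSeparator P)
    (h2a : ∀ M : A, PB (F.obj M))
    (h2c : ∀ N : B, PB N → ∃ M : A, Nonempty (F.obj M ≅ N))
    (hvan : ∀ N : B, PB N → ∀ k : ℕ, 0 < k →
      Subsingleton (dsgl (F.obj P) ⟶ ((singleFunctor B 0).obj N)⟦(k : ℤ)⟧))
    (HB : ∀ X : DerivedCategory B, WSerre.cohIn PB X →
      CohCx.IsRlimVia (CohCx.truncTower X) (CohCx.truncTowerMap X) X (CohCx.toTruncTower X)) :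
    F.mapDerivedCategory.Full ∧ F.mapDerivedCategory.Faithful ∧
      ∀ K : DerivedCategory B, WSerre.cohIn PB K ↔
        ∃ M, Nonempty (F.mapDerivedCategory.obj M ≅ K) := by
  have h2a' : ∀ M : A, (⊤ : ObjectProperty A) M → PB (F.obj M) := fun M _ => h2a M
  have h2b' : ∀ M N : A, (⊤ : ObjectProperty A) M → (⊤ : ObjectProperty A) N →
      Function.Bijective (fun φ : M ⟶ N => F.map φ) := fun M N _ _ =>
    (Functor.FullyFaithful.ofFullyFaithful F).map_bijective M N
  have h2c' : ∀ N : B, PB N → ∃ M : A, (⊤ : ObjectProperty A) M ∧ Nonempty (F.obj M ≅ N) :=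
    fun N hN => by
      obtain ⟨M, hM⟩ := h2c N hN
      exact ⟨M, trivial, hM⟩
  have h3' : ∀ M : A, (⊤ : ObjectProperty A) M →
      IsIso (adj.unit.app ((singleFunctor A 0).obj M)) := fun M _ => by
    refine isIso_unit_app_single.{w, w'} F RG adj P hP M (fun q hq => ?_)
    rcases lt_or_gt_of_ne hq with h | h
    · exact subsingleton_hom_dsgl_neg _ _ q h
    · obtain ⟨k, rfl⟩ := Int.eq_ofNat_of_zero_le h.le
      exact hvan _ (h2a M) k (by exact_mod_cast h)
  obtain ⟨H1, H2⟩ := unbounded_equivalence F RG adj (⊤ : ObjectProperty A) PB h2a' h2c' h3' HB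
    (fun X t hXn hconst L a hL j =>
      isIso_homology_rlim_of_projsep.{w, w'} F RG adj ⊤ PB h2a' h2b' h2c' h3' P hP 0 hvan
        X t hXn hconst L a hL j)
  have hη : ∀ Y : DerivedCategory A, IsIso (adj.unit.app Y) := fun Y =>
    (H1 Y (fun _ => trivial)).2
  haveI : IsIso adj.unit := NatIso.isIso_of_isIso_app _
  refine ⟨adj.fullyFaithfulLOfIsIsoUnit.full, adj.fullyFaithfulLOfIsIsoUnit.faithful,
    fun K => ⟨fun hK => ?_, ?_⟩⟩
  · haveI := (H2 K hK).2
    exact ⟨RG.obj K, ⟨asIso (adj.counit.app K)⟩⟩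
  · rintro ⟨M, ⟨e⟩⟩ i
    exact PB.prop_of_iso ((homologyFunctor B i).mapIso e) ((H1 M (fun _ => trivial)).1 i)

end Groth.Agent.Lib.H6xTilde
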