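import Mathlib
import Groth.Prelude.Def_DCoh2
import Groth.Agent.Lib.H6xTildeC
import Groth.Agent.Lib.H6xQcTruncB
import Groth.Agent.Lib.H6xGamAcD
import Groth.Agent.Lib.Helper17Hyp26
import Groth.Agent.Lib.Helper23QCohExt
import Groth.Agent.Lib.Helper23QCohAbelian
import Groth.Agent.Lib.Helper17KInjD4

/-!
# `D(A) ≃ D_QCoh(O_{Spec A})`: the concrete ingredients (helper6)
-/

set_option autoImplicit false
set_option linter.style.haveILetI false

universe w u

open CategoryTheory CategoryTheory.Limits Opposite AlgebraicGeometry TopologicalSpace ZeroObject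

namespace Groth.Agent.Lib.H6xTilde

open DerivedCategory Groth.Agent.Lib.Helper17.Hyp Groth.Agent.Lib.H6xQcTrunc
  Groth.Agent.Lib.H6xGamAc

section Scheme

variable (X : Scheme.{u})

/-- quasi-coherence as an object property. -/
def qc : ObjectProperty X.Modules := fun M => Coh.IsQCoh M

instance isWeakSerre_qc : WSerre.IsWeakSerre (qc X) where
  exists_zero := ⟨0, isZero_zero _, isQCoh_of_isZero _ (isZero_zero _)⟩
  kernels_le := by
    rintro _ ⟨f, k, hk, ⟨h1, h2⟩⟩
    exact isQCoh_of_iso (IsLimit.conePointUniqueUpToIso (kernelIsKernel f) hk)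
      (@Groth.Agent.Lib.Helper23.QCohLocal.isQuasicoherent_kernel X _ _ h1 h2 f)
  cokernels_le := by
    rintro _ ⟨f, k, hk, ⟨h1, h2⟩⟩
    exact isQCoh_of_iso (IsColimit.coconePointUniqueUpToIso (cokernelIsCokernel f) hk)
      (@Groth.Agent.Lib.Helper23.QCohLocal.isQuasicoherent_cokernel X _ _ h1 h2 f)
  prop_X₂_of_shortExact := fun {S} hS h1 h3 =>
    Groth.Agent.Lib.Helper23.QCohLocal.isQuasicoherent_of_shortExact S hS h1 h3

variable {X}

/-- `Hom(O_X, N) ≃ Γ(X, N)`. -/
noncomputable def gamEquiv (N : X.Modules) : (OY X ⟶ N) ≃ N.val.obj (op ⊤) where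
  toFun φ := toGam N φ
  invFun x := ofGam N x
  left_inv φ := ofGam_toGam N φ
  right_inv x := toGam_ofGam N x

/-- the structure sheaf, as a sheaf on the site of opens. -/
abbrev OX (X : Scheme.{u}) : Sheaf (Opens.grothendieckTopology X) CommRingCat.{u} := X.sheaf

theorem nonempty_frX_top_iso : Nonempty ((frX X).obj ⊤ ≅ OY X) :=
  Groth.Agent.S6153.iso_of_natural_equiv
    (fun M => (secEquiv (OX X) M ⊤).trans (gamEquiv M).symm)
    (fun {M M'} h p =>
      (congrArg (ofGam M') (secEquiv_comp (OX X) h p)).trans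
        (ofGam_comp (secEquiv (OX X) M ⊤ h) p).symm)

theorem subsingleton_hom_OY_of_affine [HasDerivedCategory.{w} X.Modules] [IsAffine X]
    (N : X.Modules) (hN : Coh.IsQCoh N) (k : ℕ) (hk : 0 < k) :
    Subsingleton (dsgl (OY X) ⟶ ((singleFunctor X.Modules 0).obj N)⟦(k : ℤ)⟧) := by
  obtain ⟨e⟩ := nonempty_frX_top_iso (X := X)
  haveI : N.IsQuasicoherent := hN
  have h := subsingleton_hom_frX_of_affine (⊤ : X.Opens) (isAffineOpen_top X) N k hk
  exact (((singleFunctor X.Modules 0).mapIso e).homFromEquiv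
    (Z := ((singleFunctor X.Modules 0).obj N)⟦(k : ℤ)⟧)).subsingleton_congr.1 h

end Scheme

section General

universe v

variable {A : Type (v + 1)} [Category.{v} A] [Abelian A] [IsGrothendieckAbelian.{v} A]
  [HasDerivedCategory.{w} A]

theorem hasLimitsOfShape_nat_derived : HasLimitsOfShape (Discrete ℕ) (DerivedCategory A) := by
  haveI : HasProducts.{v} (DerivedCategory A) :=
    Groth.Agent.Lib.Helper17.KInj.hasProducts_derivedCategory
  haveI : HasLimitsOfShape (Discrete (ULift.{v} ℕ)) (DerivedCategory A) := inferInstance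
  exact hasLimitsOfShape_of_equivalence (Discrete.equivalence Equiv.ulift.{v, 0})

end General

section Ring

variable (R : CommRingCat.{u})

instance projective_self : Projective (ModuleCat.of R R) :=
  ModuleCat.projective_of_categoryTheory_projective _

theorem isSeparator_self : IsSeparator (ModuleCat.of R R) := by
  rw [isSeparator_def]
  intro M N f g h
  apply ModuleCat.hom_ext
  apply LinearMap.ext
  intro x
  have h1 := h (ModuleCat.ofHom (LinearMap.toSpanSingleton R M x))
  have h2 := congrArg (fun t => t.hom (1 : R)) h1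
  simpa using h2

end Ring

end Groth.Agent.Lib.H6xTilde
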