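import Mathlib
import Groth.Agent.Lib.H6xAffPushA
import Groth.Agent.Lib.H6xAffPushB
import Groth.Agent.Lib.H6xTildeD
import Groth.Agent.Lib.Helper17KInjD1

/-!
# Sections over affine opens of a K-injective resolution of a complex of quasi-coherent modules
(helper6)

For `U` an affine open of a scheme `X`, `F` a complex of quasi-coherent modules and
`q : F ⟶ J` a quasi-isomorphism to a K-injective complex, `Hom(fr U, q)` is a quasi-isomorphism
(in cycle form `CycSur`/`CycInj`).
-/

set_option autoImplicit false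
set_option linter.style.haveILetI false

universe w u

open CategoryTheory CategoryTheory.Limits Opposite AlgebraicGeometry TopologicalSpace ZeroObject

namespace Groth.Agent.Lib.H6xAffPush

open DerivedCategory Groth.Agent.Lib.Helper17.Hyp Groth.Agent.Lib.H6xQcTrunc
  Groth.Agent.Lib.H6xGamAc Groth.Agent.Lib.H6xTilde

variable {X : Scheme.{u}}

lemma qc_cycles (F : CochainComplex X.Modules ℤ) (hF : ∀ n, Coh.IsQCoh (F.X n)) (n : ℤ) :
    Coh.IsQCoh (F.cycles n) :=
  (qc X).prop_of_isLimit_kernelFork (F.cyclesIsKernel n (n + 1) (by simp)) (hF n) (hF (n + 1))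

lemma qc_homology (F : CochainComplex X.Modules ℤ) (hF : ∀ n, Coh.IsQCoh (F.X n)) (n : ℤ) :
    Coh.IsQCoh (F.homology n) :=
  (qc X).prop_of_isColimit_cokernelCofork (F.homologyIsCokernel (n - 1) n (by simp))
    (hF (n - 1)) (qc_cycles F hF n)

/-- a cycle `P ⟶ Z^n F` which dies in `H^n F` is a boundary when `P = fr U`, `U` affine. -/
lemma exists_boundary_of_affine (U : X.Opens) (hU : IsAffineOpen U)
    (F : CochainComplex X.Modules ℤ) (hF : ∀ n, Coh.IsQCoh (F.X n)) (n : ℤ)
    (c : (frX X).obj U ⟶ F.cycles n) (hc : c ≫ F.homologyπ n = 0) :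
    ∃ x : (frX X).obj U ⟶ F.X (n - 1), x ≫ F.toCycles (n - 1) n = c := by
  let S : ShortComplex X.Modules := ShortComplex.mk (F.toCycles (n - 1) n) (F.homologyπ n)
    (F.toCycles_comp_homologyπ _ _)
  have hS : S.Exact := S.exact_of_g_is_cokernel (F.homologyIsCokernel (n - 1) n (by simp))
  haveI : Epi (kernel.lift S.g S.f S.zero) := S.exact_iff_epi_kernel_lift.1 hS
  have hk : Coh.IsQCoh (kernel S.g) :=
    (qc X).prop_kernel S.g (qc_cycles F hF n) (qc_homology F hF n)
  obtain ⟨x, hx⟩ := surjective_postcomp_frX_of_epi U hU (hF (n - 1)) hk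
    (kernel.lift S.g S.f S.zero) (kernel.lift S.g c hc)
  refine ⟨x, ?_⟩
  have h2 := congrArg (fun t => t ≫ kernel.ι S.g) hx
  simp only [Category.assoc, kernel.lift_ι] at h2
  exact h2

section

variable [HasDerivedCategory.{w} X.Modules]

lemma isQCohD_Q (F : CochainComplex X.Modules ℤ) (hF : ∀ n, Coh.IsQCoh (F.X n)) (i : ℤ) :
    Coh.IsQCoh ((homologyFunctor X.Modules i).obj (Q.obj F)) :=
  isQCoh_of_iso ((homologyFunctorFactors X.Modules i).app F).symm (qc_homology F hF i)

theorem cm_bijective_frX_of_isQCohD (U : X.Opens) (hU : IsAffineOpen U)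
    (K : DerivedCategory X.Modules)
    (hK : ∀ i : ℤ, Coh.IsQCoh ((homologyFunctor X.Modules i).obj K)) (m : ℤ) :
    Function.Bijective (cm (P := (frX X).obj U) (K := K) (m := m)) := by
  haveI := hasProduct_nat_derived (CohCx.truncTower K)
  have hL := isRlimVia_truncTower_of_isQCohD K hK
  refine Groth.Agent.Lib.H6xBasisCoh.cm_bijective_of_isRlimVia ((frX X).obj U) _ hL m
    (fun j k hk => ?_)
  haveI : ((homologyFunctor X.Modules j).obj K).IsQuasicoherent := hK j
  exact subsingleton_hom_frX_of_affine U hU _ k hk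

theorem cycInj_of_affine (U : X.Opens) (hU : IsAffineOpen U)
    {F J : CochainComplex X.Modules ℤ} (hF : ∀ n, Coh.IsQCoh (F.X n))
    (q : F ⟶ J) [QuasiIso q] (n : ℤ) : CycInj ((frX X).obj U) q n := by
  intro w hw y hy
  have h1 : fromSingle n w hw ≫ q = fromSingle n (y ≫ J.d (n - 1) n)
      (by rw [Category.assoc, J.d_comp_d, comp_zero]) := by
    rw [fromSingle_comp]
    congr 1
  obtain ⟨H⟩ := (homotopy_fromSingle_zero_iff n (y ≫ J.d (n - 1) n)
      (by rw [Category.assoc, J.d_comp_d, comp_zero])).2 ⟨y, rfl⟩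
  have h2 : (Q : _ ⥤ DerivedCategory X.Modules).map (fromSingle n w hw) ≫ Q.map q = 0 := by
    rw [← Functor.map_comp, h1, DerivedCategory.Q_map_eq_of_homotopy _ H, Functor.map_zero]
  haveI : IsIso ((Q : _ ⥤ DerivedCategory X.Modules).map q) :=
    (DerivedCategory.isIso_Q_map_iff_quasiIso (C := X.Modules) q).2 inferInstance
  have h3 : (Q : _ ⥤ DerivedCategory X.Modules).map (fromSingle n w hw) = 0 := by
    rw [← cancel_mono (Q.map q), h2, zero_comp]
  have h4 := cls_Q_map_fromSingle n w hw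
  rw [h3, cls_zero] at h4
  obtain ⟨x, hx⟩ := exists_boundary_of_affine U hU F hF n _ h4.symm
  refine ⟨x, ?_⟩
  have h5 := congrArg (fun t => t ≫ F.iCycles n) hx
  simp only [Category.assoc, HomologicalComplex.toCycles_i, HomologicalComplex.liftCycles_i] at h5
  exact h5

theorem cycSur_of_affine (U : X.Opens) (hU : IsAffineOpen U)
    {F J : CochainComplex X.Modules ℤ} (hF : ∀ n, Coh.IsQCoh (F.X n)) [J.IsKInjective]
    (q : F ⟶ J) [QuasiIso q] (n : ℤ) : CycSur ((frX X).obj U) q n := by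
  intro z hz
  haveI : IsIso ((Q : _ ⥤ DerivedCategory X.Modules).map q) :=
    (DerivedCategory.isIso_Q_map_iff_quasiIso (C := X.Modules) q).2 inferInstance
  let φ : (Q : _ ⥤ DerivedCategory X.Modules).obj (sglN ((frX X).obj U) n) ⟶ Q.obj F :=
    Q.map (fromSingle n z hz) ≫ inv (Q.map q)
  haveI : Epi (F.homologyπ n) := inferInstance
  obtain ⟨c, hc⟩ := surjective_postcomp_frX_of_epi U hU (qc_cycles F hF n) (qc_homology F hF n)
    (F.homologyπ n) (cls φ)
  have hw : (c ≫ F.iCycles n) ≫ F.d n (n + 1) = 0 := by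
    rw [Category.assoc, HomologicalComplex.iCycles_d, comp_zero]
  have hl : F.liftCycles (c ≫ F.iCycles n) (n + 1) (by simp) hw = c := by
    rw [← cancel_mono (F.iCycles n), HomologicalComplex.liftCycles_i]
  have h1 : cls (Q.map (fromSingle n (c ≫ F.iCycles n) hw) - φ) = 0 := by
    rw [cls_sub, cls_Q_map_fromSingle, hl]
    exact sub_eq_zero.2 hc
  have h2 : Q.map (fromSingle n (c ≫ F.iCycles n) hw) = φ :=
    sub_eq_zero.1 (eq_zero_of_cls_eq_zero
      (cm_bijective_frX_of_isQCohD U hU (Q.obj F) (isQCohD_Q F hF) n).1 _ h1)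
  have h3 : (Q : _ ⥤ DerivedCategory X.Modules).map (fromSingle n (c ≫ F.iCycles n) hw ≫ q) =
      Q.map (fromSingle n z hz) := by
    rw [Functor.map_comp, h2]
    dsimp only [φ]
    rw [Category.assoc, IsIso.inv_hom_id, Category.comp_id]
  rw [fromSingle_comp] at h3
  obtain ⟨g, hg⟩ := (homotopy_fromSingle_iff n _ _ _ _).1
    (Groth.Agent.Lib.Helper17.KInj.homotopy_of_Q_map_eq (C := X.Modules) h3)
  refine ⟨c ≫ F.iCycles n, g, hw, ?_⟩
  rw [hg]
  abel

end

end Groth.Agent.Lib.H6xAffPush
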