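import Mathlib

/-!
# A criterion for left derived functors via functorial resolutions (helper6)

If `π : ρ ⟶ 𝟭 C` is pointwise in `W` and `ε : L ⋙ LF ⟶ F` is an isomorphism on the objects
`ρ.obj X`, then `(LF, ε)` is a left derived functor of `F`.  Since the hypothesis is stable under
post-composition with any functor, such left derived functors are *absolute*.
-/

set_option autoImplicit false
open CategoryTheory

namespace Groth.Agent.Lib.H6xDerAdj

universe v₁ v₂ v₃ v₄ u₁ u₂ u₃ u₄

variable {C : Type u₁} {D : Type u₂} {H : Type u₃} [Category.{v₁} C] [Category.{v₂} D]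
  [Category.{v₃} H]
  (W : MorphismProperty C)
  (L : C ⥤ D) [L.IsLocalization W] (F : C ⥤ H) (LF : D ⥤ H) (ε : L ⋙ LF ⟶ F)
  (ρ : C ⥤ C) (π : ρ ⟶ 𝟭 C)
  (hπ : ∀ X, W (π.app X)) (hε : ∀ X, IsIso (ε.app (ρ.obj X)))

section

variable (G : D ⥤ H) (γ : L ⋙ G ⟶ F)

include hπ hε in
/-- the lift on the level of `C` -/
lemma exists_lift : ∃ φ : G ⟶ LF, Functor.whiskerLeft L φ ≫ ε = γ := by
  have hLπ : ∀ Y : C, IsIso (L.map (π.app Y)) := fun Y =>
    Localization.inverts L W _ (hπ Y)
  let φ₀ : L ⋙ G ⟶ L ⋙ LF :=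
    { app := fun Y => inv (G.map (L.map (π.app Y))) ≫ γ.app (ρ.obj Y) ≫
        inv (ε.app (ρ.obj Y)) ≫ LF.map (L.map (π.app Y))
      naturality := fun Y Z f => by
        dsimp
        have h0 := π.naturality f
        dsimp at h0
        have h1 : G.map (L.map f) ≫ inv (G.map (L.map (π.app Z))) =
            inv (G.map (L.map (π.app Y))) ≫ G.map (L.map (ρ.map f)) := by
          rw [IsIso.comp_inv_eq, Category.assoc, IsIso.eq_inv_comp, ← G.map_comp, ← G.map_comp,
            ← L.map_comp, ← L.map_comp, h0]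
        have h2 := γ.naturality (ρ.map f)
        have h3 : F.map (ρ.map f) ≫ inv (ε.app (ρ.obj Z)) =
            inv (ε.app (ρ.obj Y)) ≫ LF.map (L.map (ρ.map f)) := by
          rw [IsIso.comp_inv_eq, Category.assoc, IsIso.eq_inv_comp]
          exact (ε.naturality (ρ.map f)).symm
        have h4 : LF.map (L.map (ρ.map f)) ≫ LF.map (L.map (π.app Z)) =
            LF.map (L.map (π.app Y)) ≫ LF.map (L.map f) := by
          rw [← LF.map_comp, ← LF.map_comp, ← L.map_comp, ← L.map_comp, h0]
        dsimp at h2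
        rw [reassoc_of% h1, reassoc_of% h2, reassoc_of% h3, h4]
        simp only [Category.assoc] }
  refine ⟨Localization.liftNatTrans L W _ _ _ _ φ₀, ?_⟩
  ext Y
  have h5 := ε.naturality (π.app Y)
  have h6 := γ.naturality (π.app Y)
  dsimp at h5 h6
  simp only [NatTrans.comp_app, Functor.whiskerLeft_app, Localization.liftNatTrans_app, φ₀]
  erw [Category.id_comp, Category.comp_id]
  rw [Category.assoc, Category.assoc, Category.assoc, h5, IsIso.inv_hom_id_assoc, ← h6,
    IsIso.inv_hom_id_assoc]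

include hπ hε in
lemma lift_unique (φ φ' : G ⟶ LF) (h : Functor.whiskerLeft L φ ≫ ε = γ)
    (h' : Functor.whiskerLeft L φ' ≫ ε = γ) : φ = φ' := by
  have hLπ : ∀ Y : C, IsIso (L.map (π.app Y)) := fun Y =>
    Localization.inverts L W _ (hπ Y)
  have key : ∀ (ψ : G ⟶ LF), Functor.whiskerLeft L ψ ≫ ε = γ → ∀ Y,
      ψ.app (L.obj Y) = inv (G.map (L.map (π.app Y))) ≫ γ.app (ρ.obj Y) ≫
        inv (ε.app (ρ.obj Y)) ≫ LF.map (L.map (π.app Y)) := by
    intro ψ hψ Y
    have h1 : ψ.app (L.obj (ρ.obj Y)) = γ.app (ρ.obj Y) ≫ inv (ε.app (ρ.obj Y)) := by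
      rw [IsIso.eq_comp_inv, ← hψ]
      rfl
    have h2 := ψ.naturality (L.map (π.app Y))
    dsimp at h2
    rw [IsIso.eq_inv_comp, h2, h1, Category.assoc]
  apply Localization.natTrans_ext L W
  intro Y
  rw [key φ h Y, key φ' h' Y]

end

include hπ hε in
/-- `(LF, ε)` is a left derived functor as soon as `ε` is invertible on a functorial resolution -/
theorem isLeftDerivedFunctor_of_resolution : LF.IsLeftDerivedFunctor ε W := by
  rw [Functor.isLeftDerivedFunctor_iff_isRightKanExtension]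
  refine ⟨⟨Limits.IsTerminal.ofUniqueHom (fun E => ?_) (fun E m => ?_)⟩⟩
  · exact CostructuredArrow.homMk
      (exists_lift W L F LF ε ρ π hπ hε E.left E.hom).choose
      (exists_lift W L F LF ε ρ π hπ hε E.left E.hom).choose_spec
  · apply CostructuredArrow.hom_ext
    exact lift_unique W L F LF ε ρ π hπ hε E.left E.hom _ _ (CostructuredArrow.w m)
      (exists_lift W L F LF ε ρ π hπ hε E.left E.hom).choose_spec

end Groth.Agent.Lib.H6xDerAdj
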