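import Mathlib
import Groth.Prelude.Def_CxOX
import Groth.Agent.Lib.Helper1KBC2
import Groth.Agent.Lib.Helper26FpqcMod
set_option backward.isDefEq.respectTransparency.types false

/-!
# Mayer–Vietoris for extension by zero, sheaf level (helper6)

Stalks of `j_!`: zero off the open, and the counit `j_! j^* F ⟶ F` is a stalkwise isomorphism on it.
-/

set_option autoImplicit false
set_option linter.style.haveILetI false
universe u
open CategoryTheory CategoryTheory.Limits AlgebraicGeometry TopologicalSpace Opposite

namespace Groth.Agent.Lib.H6xMV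

open Groth.Agent.Lib.Helper1.Sky Groth.Agent.Lib.Helper1.KBC Groth.Agent.Lib.Helper26.FpqcMod
  Groth.Agent.Lib.Helper1.StalkTensor

section stalks

variable {U X : Scheme.{u}} (j : U ⟶ X) [IsOpenImmersion j]

/-- the restriction to an open of a skyscraper at a point outside it vanishes -/
lemma isZero_restrict_sky (x : X) (hx : x ∉ Set.range j.base) (N : ModuleCat.{u} (Ox x)) :
    IsZero ((Scheme.Modules.restrictFunctor j).obj ((skyFun x).obj N)) := by
  rw [IsZero.iff_id_eq_zero]
  apply SheafOfModules.hom_ext
  apply PresheafOfModules.hom_ext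
  intro W
  ext m
  apply SkyT.ext (R := X.presheaf) (U := j ''ᵁ W.unop)
  intro hx'
  exfalso
  obtain ⟨y, -, rfl⟩ := hx'
  exact hx ⟨y, rfl⟩

/-- stalks of `j_! G` vanish outside the open -/
lemma isZero_stalk_extZero (x : X) (hx : x ∉ Set.range j.base) (G : U.Modules) :
    IsZero ((stalkFun x).obj ((CxOX.extZero j).obj G)) := by
  rw [IsZero.iff_id_eq_zero]
  apply ((stalkSkyAdj x).homEquiv _ _).injective
  apply ((CxOX.extZeroAdj j).homEquiv _ _).injective
  exact (isZero_restrict_sky j x hx _).eq_of_tgt _ _

instance isIso_extZeroAdj_unit : IsIso (CxOX.extZeroAdj j).unit :=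
  (Adjunction.Triple.mk (CxOX.extZeroAdj j)
    (Scheme.Modules.restrictAdjunction j)).isIso_unit_iff_isIso_counit.2 inferInstance

instance isIso_restrict_map_counit (F : X.Modules) :
    IsIso ((Scheme.Modules.restrictFunctor j).map ((CxOX.extZeroAdj j).counit.app F)) := by
  have h := (CxOX.extZeroAdj j).right_triangle_components F
  exact IsIso.of_isIso_fac_left h

/-- a morphism which becomes an isomorphism on an open is an isomorphism on stalks at its points -/
lemma isIso_stalk_of_isIso_restrict {M N : X.Modules} (φ : M ⟶ N)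
    [IsIso ((Scheme.Modules.restrictFunctor j).map φ)] (y : U) :
    IsIso ((stalkFun (j y)).map φ) := by
  haveI : IsIso ((Scheme.Modules.pullback j).map φ) :=
    (NatIso.isIso_map_iff (Scheme.Modules.restrictFunctorIsoPullback j) φ).1 inferInstance
  have hb := (isIso_iff_stalk ((Scheme.Modules.pullback j).map φ)).1 inferInstance y
  have hb' : Function.Bijective ((stalkFun (j y)).map φ).hom :=
    ⟨(injective_iff j y φ).1 hb.1, (surjective_iff j y φ).1 hb.2⟩
  exact (ConcreteCategory.isIso_iff_bijective _).2 hb'

lemma isIso_stalk_counit (F : X.Modules) (x : X) (hx : x ∈ Set.range j.base) :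
    IsIso ((stalkFun x).map ((CxOX.extZeroAdj j).counit.app F)) := by
  obtain ⟨y, rfl⟩ := hx
  exact isIso_stalk_of_isIso_restrict j _ y

end stalks

end Groth.Agent.Lib.H6xMV
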