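import Mathlib
import Groth.Agent.Lib.H6xMVA
set_option backward.isDefEq.respectTransparency.types false

/-!
# Mayer–Vietoris for extension by zero, sheaf level II (helper6)

Abstract lemmas on squares with parallel isomorphisms, stalkwise criterion, the functors
`A j = j_! j^*`, the transition `A k ⟶ A j` and the short exact sequence.
-/

set_option autoImplicit false
set_option linter.style.haveILetI false
universe u
open CategoryTheory CategoryTheory.Limits AlgebraicGeometry TopologicalSpace Opposite

namespace Groth.Agent.Lib.H6xMV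

open Groth.Agent.Lib.Helper1.Sky Groth.Agent.Lib.Helper1.KBC Groth.Agent.Lib.Helper26.FpqcMod
  Groth.Agent.Lib.Helper1.StalkTensor

section abstract

variable {C : Type*} [Category C] [Abelian C] {P A B M : C}
  {fst : P ⟶ A} {snd : P ⟶ B} {f : A ⟶ M} {g : B ⟶ M}

lemma shortExact_of_horiz (sq : CommSq fst snd f g) [IsIso fst] [IsIso g] :
    sq.shortComplex'.ShortExact := by
  have hp : IsPullback fst snd f g := IsPullback.of_horiz_isIso sq
  have hex : sq.shortComplex'.Exact :=
    ShortComplex.exact_of_f_is_kernel _ hp.isLimitKernelFork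
  haveI : Mono sq.shortComplex'.f := hp.mono_shortComplex'_f
  have hepi : Epi (biprod.desc f (-g)) := by
    rw [Preadditive.epi_iff_cancel_zero]
    intro Z b hb
    have h1 : (biprod.inr : B ⟶ A ⊞ B) ≫ biprod.desc f (-g) ≫ b = 0 := by rw [hb, comp_zero]
    rw [biprod.inr_desc_assoc, Preadditive.neg_comp, neg_eq_zero] at h1
    exact (cancel_epi g).1 (h1.trans comp_zero.symm)
  haveI : Epi sq.shortComplex'.g := hepi
  exact ShortComplex.ShortExact.mk hex

lemma shortExact_of_vert (sq : CommSq fst snd f g) [IsIso snd] [IsIso f] :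
    sq.shortComplex'.ShortExact := by
  have hp : IsPullback fst snd f g := IsPullback.of_vert_isIso sq
  have hex : sq.shortComplex'.Exact :=
    ShortComplex.exact_of_f_is_kernel _ hp.isLimitKernelFork
  haveI : Mono sq.shortComplex'.f := hp.mono_shortComplex'_f
  have hepi : Epi (biprod.desc f (-g)) := by
    rw [Preadditive.epi_iff_cancel_zero]
    intro Z b hb
    have h1 : (biprod.inl : A ⟶ A ⊞ B) ≫ biprod.desc f (-g) ≫ b = 0 := by rw [hb, comp_zero]
    rw [biprod.inl_desc_assoc] at h1
    exact (cancel_epi f).1 (h1.trans comp_zero.symm)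
  haveI : Epi sq.shortComplex'.g := hepi
  exact ShortComplex.ShortExact.mk hex

variable {D : Type*} [Category D] [Abelian D] (F : C ⥤ D) [F.Additive]

attribute [local instance] preservesBinaryBiproducts_of_preservesBiproducts in
/-- the image of the short complex of a square is the short complex of the image square -/
noncomputable def mapShortComplex'Iso (sq : CommSq fst snd f g) :
    sq.shortComplex'.map F ≅ (F.map_commSq sq).shortComplex' :=
  ShortComplex.isoMk (Iso.refl _) (F.mapBiprod A B) (Iso.refl _)
    (by
      change 𝟙 (F.obj P) ≫ biprod.lift (F.map fst) (F.map snd) =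
        F.map (biprod.lift fst snd) ≫ (F.mapBiprod A B).hom
      rw [Category.id_comp]
      apply biprod.hom_ext
      · simp only [Category.assoc, biprod.lift_fst, Functor.mapBiprod_hom]
        rw [← F.map_comp, biprod.lift_fst]
      · simp only [Category.assoc, biprod.lift_snd, Functor.mapBiprod_hom]
        rw [← F.map_comp, biprod.lift_snd])
    (by
      change (F.mapBiprod A B).hom ≫ biprod.desc (F.map f) (-F.map g) =
        F.map (biprod.desc f (-g)) ≫ 𝟙 (F.obj M)
      rw [Category.comp_id, ← cancel_epi (F.mapBiprod A B).inv, Iso.inv_hom_id_assoc]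
      apply biprod.hom_ext'
      · simp only [biprod.inl_desc, Functor.mapBiprod_inv, biprod.inl_desc_assoc]
        rw [← F.map_comp, biprod.inl_desc]
      · simp only [biprod.inr_desc, Functor.mapBiprod_inv, biprod.inr_desc_assoc]
        rw [← F.map_comp, biprod.inr_desc, Functor.map_neg])

lemma isIso_of_isZero {X Y : C} (φ : X ⟶ Y) (hX : IsZero X) (hY : IsZero Y) : IsIso φ := by
  rw [hX.eq_of_src φ (hX.iso hY).hom]
  infer_instance

end abstract

section stalkCriteria

variable {X : Scheme.{u}}

lemma isIso_of_stalk {M N : X.Modules} (φ : M ⟶ N)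
    (h : ∀ x : X, IsIso ((stalkFun x).map φ)) : IsIso φ :=
  (isIso_iff_stalk φ).2 (fun x =>
    haveI := h x
    ConcreteCategory.bijective_of_isIso ((stalkFun x).map φ))

lemma shortExact_of_stalk (S : ShortComplex X.Modules)
    (h : ∀ x : X, (S.map (stalkFun x)).ShortExact) : S.ShortExact := by
  have hex : S.Exact := by
    rw [S.exact_iff_isZero_homology]
    apply isZero_of_forall_isZero_stalk
    intro x
    exact IsZero.of_iso ((S.map (stalkFun x)).exact_iff_isZero_homology.1 (h x).exact)
      (S.mapHomologyIso (stalkFun x)).symm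
  haveI : Mono S.f := (mono_iff_stalk S.f).2 (fun x =>
    (ModuleCat.mono_iff_injective _).1 (h x).mono_f)
  haveI : Epi S.g := (epi_iff_stalk S.g).2 (fun x =>
    (ModuleCat.epi_iff_surjective _).1 (h x).epi_g)
  exact ShortComplex.ShortExact.mk hex

/-- a square of modules whose stalks all have two parallel isomorphisms gives a short exact
sequence -/
lemma shortExact_of_stalk_sq {P A B M : X.Modules}
    {fst : P ⟶ A} {snd : P ⟶ B} {f : A ⟶ M} {g : B ⟶ M} (sq : CommSq fst snd f g)
    (h : ∀ x : X, (IsIso ((stalkFun x).map fst) ∧ IsIso ((stalkFun x).map g)) ∨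
      (IsIso ((stalkFun x).map snd) ∧ IsIso ((stalkFun x).map f))) :
    sq.shortComplex'.ShortExact := by
  apply shortExact_of_stalk
  intro x
  refine ShortComplex.shortExact_of_iso (mapShortComplex'Iso (stalkFun x) sq).symm ?_
  rcases h x with ⟨h1, h2⟩ | ⟨h1, h2⟩
  · exact shortExact_of_horiz _
  · exact shortExact_of_vert _

end stalkCriteria

end Groth.Agent.Lib.H6xMV
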