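import Mathlib
import Groth.Agent.Lib.H6xMVB
set_option backward.isDefEq.respectTransparency.types false

/-!
# Mayer–Vietoris for extension by zero, sheaf level III (helper6)

The functors `A j = j_! j^*`, the transition `A k ⟶ A j` for `k = i ≫ j` and the short exact
sequence `0 ⟶ A k F ⟶ A j₁ F ⊞ A j₂ F ⟶ F ⟶ 0`.
-/

set_option autoImplicit false
set_option linter.style.haveILetI false
universe u
open CategoryTheory CategoryTheory.Limits AlgebraicGeometry TopologicalSpace Opposite

namespace Groth.Agent.Lib.H6xMV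

open Groth.Agent.Lib.Helper1.Sky Groth.Agent.Lib.Helper1.KBC Groth.Agent.Lib.Helper26.FpqcMod
  Groth.Agent.Lib.Helper1.StalkTensor

section functors

variable {U W X : Scheme.{u}} (j : U ⟶ X) [IsOpenImmersion j]

/-- `j_! j^*` -/
noncomputable abbrev A : X.Modules ⥤ X.Modules :=
  Scheme.Modules.restrictFunctor j ⋙ CxOX.extZero j

/-- the counit `j_! j^* ⟶ 𝟭` -/
noncomputable abbrev ε : A j ⟶ 𝟭 X.Modules := (CxOX.extZeroAdj j).counit

variable (k : W ⟶ X) [IsOpenImmersion k] (i : W ⟶ U) [IsOpenImmersion i] (h : i ≫ j = k)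

/-- restriction along a composite -/
noncomputable def resIso : Scheme.Modules.restrictFunctor k ≅
    Scheme.Modules.restrictFunctor j ⋙ Scheme.Modules.restrictFunctor i :=
  Scheme.Modules.restrictFunctorCongr h.symm ≪≫ Scheme.Modules.restrictFunctorComp i j

/-- `F|_W ⟶ (j_! j^* F)|_W` -/
noncomputable def β : Scheme.Modules.restrictFunctor k ⟶ A j ⋙ Scheme.Modules.restrictFunctor k where
  app F := (resIso j k i h).hom.app F ≫
    (Scheme.Modules.restrictFunctor i).map
      ((CxOX.extZeroAdj j).unit.app ((Scheme.Modules.restrictFunctor j).obj F)) ≫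
    (resIso j k i h).inv.app ((A j).obj F)
  naturality F G f := by
    have h1 := (resIso j k i h).hom.naturality f
    have h2 := (resIso j k i h).inv.naturality ((A j).map f)
    have h3 := (CxOX.extZeroAdj j).unit.naturality ((Scheme.Modules.restrictFunctor j).map f)
    simp only [Functor.comp_map, Functor.id_map, Functor.comp_obj, Functor.id_obj] at h1 h2 h3 ⊢
    rw [reassoc_of% h1, Category.assoc, Category.assoc, ← h2, ← Functor.map_comp_assoc, h3,
      Functor.map_comp_assoc]

lemma β_comp (F : X.Modules) :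
    (β j k i h).app F ≫ (Scheme.Modules.restrictFunctor k).map ((ε j).app F) = 𝟙 _ := by
  have h2 := (resIso j k i h).inv.naturality ((ε j).app F)
  have h3 := (CxOX.extZeroAdj j).right_triangle_components F
  simp only [Functor.comp_map, Functor.id_map, Functor.comp_obj, Functor.id_obj] at h2 h3
  simp only [β, A, Functor.comp_obj, Category.assoc]
  rw [← h2, ← Functor.map_comp_assoc, h3, CategoryTheory.Functor.map_id, Category.id_comp, Iso.hom_inv_id_app]

/-- the transition `k_! k^* ⟶ j_! j^*` -/
noncomputable def α : A k ⟶ A j where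
  app F := (CxOX.extZero k).map ((β j k i h).app F) ≫
    (CxOX.extZeroAdj k).counit.app ((A j).obj F)
  naturality F G f := by
    have h1 := (β j k i h).naturality f
    have h2 := (CxOX.extZeroAdj k).counit.naturality ((A j).map f)
    simp only [Functor.comp_map, Functor.id_map, Functor.comp_obj, Functor.id_obj] at h1 h2 ⊢
    rw [← Functor.map_comp_assoc, h1, Functor.map_comp_assoc, Category.assoc, h2]

lemma α_ε : α j k i h ≫ ε j = ε k := by
  refine NatTrans.ext (funext fun F => ?_)
  have h2 := (CxOX.extZeroAdj k).counit.naturality ((ε j).app F)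
  simp only [Functor.comp_map, Functor.id_map, Functor.comp_obj, Functor.id_obj] at h2
  simp only [NatTrans.comp_app, α, A, Functor.comp_obj, Category.assoc]
  rw [← h2, ← Functor.map_comp_assoc, β_comp, CategoryTheory.Functor.map_id, Category.id_comp]

lemma α_ε_app (F : X.Modules) : (α j k i h).app F ≫ (ε j).app F = (ε k).app F := by
  rw [← NatTrans.comp_app, α_ε]

include h in
lemma range_subset : Set.range k.base ⊆ Set.range j.base := by
  rintro x ⟨w, rfl⟩
  exact ⟨i.base w, by rw [← h]; rfl⟩

lemma isIso_stalk_α (F : X.Modules) (x : X)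
    (hx : x ∈ Set.range k.base ∨ x ∉ Set.range j.base) :
    IsIso ((stalkFun x).map ((α j k i h).app F)) := by
  rcases hx with hx | hx
  · haveI := isIso_stalk_counit k F x hx
    haveI := isIso_stalk_counit j F x (range_subset j k i h hx)
    have h1 : (stalkFun x).map ((α j k i h).app F) ≫ (stalkFun x).map ((ε j).app F) =
        (stalkFun x).map ((ε k).app F) := by
      rw [← Functor.map_comp, α_ε_app]
    exact IsIso.of_isIso_fac_right h1
  · exact isIso_of_isZero _
      (isZero_stalk_extZero k x (fun hk => hx (range_subset j k i h hk)) _)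
      (isZero_stalk_extZero j x hx _)

end functors

section ses

variable {U₁ U₂ W X : Scheme.{u}} (j₁ : U₁ ⟶ X) (j₂ : U₂ ⟶ X) (k : W ⟶ X) (i₁ : W ⟶ U₁) (i₂ : W ⟶ U₂)
  [IsOpenImmersion j₁] [IsOpenImmersion j₂] [IsOpenImmersion k] [IsOpenImmersion i₁]
  [IsOpenImmersion i₂] (h₁ : i₁ ≫ j₁ = k) (h₂ : i₂ ≫ j₂ = k)

lemma sqA (F : X.Modules) : CommSq ((α j₁ k i₁ h₁).app F) ((α j₂ k i₂ h₂).app F)
    ((ε j₁).app F) ((ε j₂).app F) :=
  ⟨by rw [α_ε_app, α_ε_app]⟩

include h₁ h₂ in
lemma sesA_shortExact (hcov : Set.range j₁.base ∪ Set.range j₂.base = Set.univ)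
    (hint : Set.range k.base = Set.range j₁.base ∩ Set.range j₂.base) (F : X.Modules) :
    (sqA j₁ j₂ k i₁ i₂ h₁ h₂ F).shortComplex'.ShortExact := by
  apply shortExact_of_stalk_sq
  intro x
  by_cases hx2 : x ∈ Set.range j₂.base
  · left
    refine ⟨isIso_stalk_α j₁ k i₁ h₁ F x ?_, isIso_stalk_counit j₂ F x hx2⟩
    by_cases hx1 : x ∈ Set.range j₁.base
    · left
      rw [hint]
      exact ⟨hx1, hx2⟩
    · exact Or.inr hx1
  · right
    refine ⟨isIso_stalk_α j₂ k i₂ h₂ F x (Or.inr hx2), isIso_stalk_counit j₁ F x ?_⟩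
    have hx : x ∈ Set.range j₁.base ∪ Set.range j₂.base := by rw [hcov]; trivial
    exact hx.resolve_right hx2

end ses

end Groth.Agent.Lib.H6xMV
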