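import Mathlib
import Groth.Agent.Lib.H6xMVC
set_option backward.isDefEq.respectTransparency.types false

/-!
# Mayer–Vietoris for extension by zero: complexes and the derived category (helper6)
-/

set_option autoImplicit false
set_option linter.style.haveILetI false
universe u
open CategoryTheory CategoryTheory.Limits AlgebraicGeometry TopologicalSpace Opposite

attribute [local instance] HasDerivedCategory.standard

namespace Groth.Agent.Lib.H6xMV

section general

open Pretriangulated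

/-- transport a distinguished triangle along isomorphisms of its three vertices -/
lemma exists_triangle_of_isos {C : Type*} [Category C] [HasZeroObject C] [HasShift C ℤ]
    [Preadditive C] [∀ n : ℤ, (shiftFunctor C n).Additive] [Pretriangulated C]
    (T : Triangle C) (hT : T ∈ distTriang C) {A B D : C}
    (e₁ : T.obj₁ ≅ A) (e₂ : T.obj₂ ≅ B) (e₃ : T.obj₃ ≅ D) :
    ∃ (a : A ⟶ B) (b : B ⟶ D) (c : D ⟶ A⟦(1 : ℤ)⟧), Triangle.mk a b c ∈ distTriang C :=
  ⟨e₁.inv ≫ T.mor₁ ≫ e₂.hom, e₂.inv ≫ T.mor₂ ≫ e₃.hom, e₃.inv ≫ T.mor₃ ≫ e₁.hom⟦(1 : ℤ)⟧',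
    isomorphic_distinguished _ hT _
      (Triangle.isoMk _ _ e₁.symm e₂.symm e₃.symm
        (by
          change (e₁.inv ≫ T.mor₁ ≫ e₂.hom) ≫ e₂.inv = e₁.inv ≫ T.mor₁
          simp only [Category.assoc, Iso.hom_inv_id, Category.comp_id])
        (by
          change (e₂.inv ≫ T.mor₂ ≫ e₃.hom) ≫ e₃.inv = e₂.inv ≫ T.mor₂
          simp only [Category.assoc, Iso.hom_inv_id, Category.comp_id])
        (by
          change (e₃.inv ≫ T.mor₃ ≫ e₁.hom⟦(1 : ℤ)⟧') ≫ e₁.inv⟦(1 : ℤ)⟧' = e₃.inv ≫ T.mor₃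
          simp only [Category.assoc, ← Functor.map_comp, Iso.hom_inv_id,
            CategoryTheory.Functor.map_id, Category.comp_id]))⟩

variable {C₁ C₂ C₃ : Type*} [Category C₁] [Category C₂] [Category C₃] [Abelian C₁] [Abelian C₂]
  [Abelian C₃] [HasDerivedCategory C₁] [HasDerivedCategory C₂] [HasDerivedCategory C₃]

/-- `Q (G F K) ≅ G (F (Q K))` for exact functors `F`, `G` -/
noncomputable def compFactorsIso (F : C₁ ⥤ C₂) (G : C₂ ⥤ C₃) [F.Additive] [G.Additive]
    [PreservesFiniteLimits F] [PreservesFiniteColimits F]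
    [PreservesFiniteLimits G] [PreservesFiniteColimits G] (K : CochainComplex C₁ ℤ) :
    DerivedCategory.Q.obj (((F ⋙ G).mapHomologicalComplex (ComplexShape.up ℤ)).obj K) ≅
      G.mapDerivedCategory.obj (F.mapDerivedCategory.obj (DerivedCategory.Q.obj K)) :=
  (G.mapDerivedCategoryFactors.app ((F.mapHomologicalComplex (ComplexShape.up ℤ)).obj K)).symm ≪≫
    G.mapDerivedCategory.mapIso (F.mapDerivedCategoryFactors.app K).symm

end general

section complexes

variable {U W X : Scheme.{u}} (j : U ⟶ X) [IsOpenImmersion j]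
  (K : CochainComplex X.Modules ℤ)

/-- the counit on complexes -/
noncomputable def εC : ((A j).mapHomologicalComplex (ComplexShape.up ℤ)).obj K ⟶ K where
  f n := (ε j).app (K.X n)
  comm' a b _ := ((ε j).naturality (K.d a b)).symm

variable (k : W ⟶ X) [IsOpenImmersion k] (i : W ⟶ U) [IsOpenImmersion i] (h : i ≫ j = k)

/-- the transition on complexes -/
noncomputable def αC : ((A k).mapHomologicalComplex (ComplexShape.up ℤ)).obj K ⟶
    ((A j).mapHomologicalComplex (ComplexShape.up ℤ)).obj K :=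
  (NatTrans.mapHomologicalComplex (α j k i h) (ComplexShape.up ℤ)).app K

end complexes

section ses

variable {U₁ U₂ W X : Scheme.{u}} (j₁ : U₁ ⟶ X) (j₂ : U₂ ⟶ X) (k : W ⟶ X) (i₁ : W ⟶ U₁) (i₂ : W ⟶ U₂)
  [IsOpenImmersion j₁] [IsOpenImmersion j₂] [IsOpenImmersion k] [IsOpenImmersion i₁]
  [IsOpenImmersion i₂] (h₁ : i₁ ≫ j₁ = k) (h₂ : i₂ ≫ j₂ = k)
  (K : CochainComplex X.Modules ℤ)

lemma sqAC : CommSq (αC j₁ K k i₁ h₁) (αC j₂ K k i₂ h₂) (εC j₁ K) (εC j₂ K) :=
  ⟨HomologicalComplex.hom_ext _ _ (fun n => (sqA j₁ j₂ k i₁ i₂ h₁ h₂ (K.X n)).w)⟩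

include h₁ h₂ in
lemma sesAC_shortExact (hcov : Set.range j₁.base ∪ Set.range j₂.base = Set.univ)
    (hint : Set.range k.base = Set.range j₁.base ∩ Set.range j₂.base) :
    (sqAC j₁ j₂ k i₁ i₂ h₁ h₂ K).shortComplex'.ShortExact := by
  apply HomologicalComplex.shortExact_of_degreewise_shortExact
  intro n
  refine ShortComplex.shortExact_of_iso
    (mapShortComplex'Iso (HomologicalComplex.eval _ _ n) (sqAC j₁ j₂ k i₁ i₂ h₁ h₂ K)).symm ?_
  exact sesA_shortExact j₁ j₂ k i₁ i₂ h₁ h₂ hcov hint (K.X n)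

end ses

section derived

open Pretriangulated

variable {U₁ U₂ W X : Scheme.{u}} (j₁ : U₁ ⟶ X) (j₂ : U₂ ⟶ X) (k : W ⟶ X) (i₁ : W ⟶ U₁) (i₂ : W ⟶ U₂)
  [IsOpenImmersion j₁] [IsOpenImmersion j₂] [IsOpenImmersion k] [IsOpenImmersion i₁]
  [IsOpenImmersion i₂] (h₁ : i₁ ≫ j₁ = k) (h₂ : i₂ ≫ j₂ = k)
  [PreservesFiniteLimits (CxOX.extZero j₁)] [PreservesFiniteLimits (CxOX.extZero j₂)]
  [PreservesFiniteLimits (CxOX.extZero k)]
  [PreservesFiniteLimits (Scheme.Modules.restrictFunctor j₁)]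
  [PreservesFiniteLimits (Scheme.Modules.restrictFunctor j₂)]
  [PreservesFiniteLimits (Scheme.Modules.restrictFunctor k)]

/-- `Q (j_! j^* K) ≅ j_! (E|_U)` for `Q K ≅ E` -/
noncomputable def extResIso {U X : Scheme.{u}} (j : U ⟶ X) [IsOpenImmersion j]
    [PreservesFiniteLimits (CxOX.extZero j)]
    [PreservesFiniteLimits (Scheme.Modules.restrictFunctor j)]
    (K : CochainComplex X.Modules ℤ) {E : DCoh.D X} (eK : DerivedCategory.Q.obj K ≅ E) :
    DerivedCategory.Q.obj (((A j).mapHomologicalComplex (ComplexShape.up ℤ)).obj K) ≅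
      (CxOX.extZeroD j).obj ((DCoh.restrictD j).obj E) :=
  compFactorsIso (Scheme.Modules.restrictFunctor j) (CxOX.extZero j) K ≪≫
    (CxOX.extZeroD j).mapIso ((DCoh.restrictD j).mapIso eK)

attribute [local instance] preservesBinaryBiproducts_of_preservesBiproducts in
include h₁ h₂ in
theorem exists_triangle_extZero (hcov : Set.range j₁.base ∪ Set.range j₂.base = Set.univ)
    (hint : Set.range k.base = Set.range j₁.base ∩ Set.range j₂.base) (E : DCoh.D X) :
    ∃ (a : (CxOX.extZeroD k).obj ((DCoh.restrictD k).obj E) ⟶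
        ((CxOX.extZeroD j₁).obj ((DCoh.restrictD j₁).obj E) ⊞
          (CxOX.extZeroD j₂).obj ((DCoh.restrictD j₂).obj E)))
      (b : ((CxOX.extZeroD j₁).obj ((DCoh.restrictD j₁).obj E) ⊞
          (CxOX.extZeroD j₂).obj ((DCoh.restrictD j₂).obj E)) ⟶ E)
      (c : E ⟶ ((CxOX.extZeroD k).obj ((DCoh.restrictD k).obj E))⟦(1 : ℤ)⟧),
      Triangle.mk a b c ∈ distTriang (DCoh.D X) := by
  obtain ⟨K, ⟨eK⟩⟩ : ∃ K : CochainComplex X.Modules ℤ, Nonempty (DerivedCategory.Q.obj K ≅ E) :=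
    ⟨_, ⟨DerivedCategory.Q.objObjPreimageIso E⟩⟩
  have hS := sesAC_shortExact j₁ j₂ k i₁ i₂ h₁ h₂ K hcov hint
  have hT := DerivedCategory.triangleOfSES_distinguished hS
  refine exists_triangle_of_isos _ hT ?_ ?_ ?_
  · exact extResIso k K eK
  · exact (DerivedCategory.Q.mapBiprod _ _) ≪≫
      biprod.mapIso (extResIso j₁ K eK) (extResIso j₂ K eK)
  · exact eK

end derived

end Groth.Agent.Lib.H6xMV
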