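import Mathlib
import Groth.Agent.Lib.H6xMVD
import Groth.Agent.Lib.Helper21FlatCalc
set_option backward.isDefEq.respectTransparency.types false

/-!
# Mayer–Vietoris for `j_* j^*`, sheaf level (helper6)

`P j = j_* j^*` is right adjoint to `A j = j_! j^*`; the maps `η : 𝟭 ⟶ P j`, `ρ : P j ⟶ P k` are the
conjugates of `ε`, `α`, and `0 ⟶ G ⟶ P j₁ G ⊞ P j₂ G ⟶ P k G ⟶ 0` is short exact for every `G`.
Also: `j_!` is exact.
-/

set_option autoImplicit false
set_option linter.style.haveILetI false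
universe u
open CategoryTheory CategoryTheory.Limits AlgebraicGeometry TopologicalSpace Opposite

namespace Groth.Agent.Lib.H6xMV

open Groth.Agent.Lib.Helper1.Sky Groth.Agent.Lib.Helper1.KBC Groth.Agent.Lib.Helper26.FpqcMod
  Groth.Agent.Lib.Helper1.StalkTensor

section exact

variable {U X : Scheme.{u}} (j : U ⟶ X) [IsOpenImmersion j]

lemma mono_extZero_map {G G' : U.Modules} (m : G ⟶ G') [Mono m] :
    Mono ((CxOX.extZero j).map m) := by
  rw [mono_iff_stalk]
  intro x
  by_cases hx : x ∈ Set.range j.base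
  · obtain ⟨y, rfl⟩ := hx
    have hn := (CxOX.extZeroAdj j).unit.naturality m
    simp only [Functor.id_map, Functor.comp_map, Functor.id_obj, Functor.comp_obj] at hn
    haveI : Mono ((Scheme.Modules.restrictFunctor j).map ((CxOX.extZero j).map m)) := by
      have h1 : Mono ((CxOX.extZeroAdj j).unit.app G ≫
          (Scheme.Modules.restrictFunctor j).map ((CxOX.extZero j).map m)) := by
        rw [← hn]; infer_instance
      have h2 : (Scheme.Modules.restrictFunctor j).map ((CxOX.extZero j).map m) =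
          inv ((CxOX.extZeroAdj j).unit.app G) ≫ ((CxOX.extZeroAdj j).unit.app G ≫
          (Scheme.Modules.restrictFunctor j).map ((CxOX.extZero j).map m)) := by
        rw [IsIso.inv_hom_id_assoc]
      rw [h2]
      infer_instance
    haveI : Mono ((Scheme.Modules.pullback j).map ((CxOX.extZero j).map m)) := by
      rw [← NatIso.naturality_1 (Scheme.Modules.restrictFunctorIsoPullback j)
        ((CxOX.extZero j).map m)]
      infer_instance
    exact (injective_iff j y _).1 ((mono_iff_stalk _).1 inferInstance y)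
  · intro a b _
    haveI : Subsingleton ((stalkFun x).obj ((CxOX.extZero j).obj G)) :=
      ModuleCat.subsingleton_of_isZero (isZero_stalk_extZero j x hx G)
    exact Subsingleton.elim a b

/-- extension by zero along an open immersion of schemes is exact -/
theorem preservesFiniteLimits_extZero : PreservesFiniteLimits (CxOX.extZero j) :=
  Groth.Agent.Lib.Helper21.FlatCalc.preservesFiniteLimits_of_mono _
    (fun m _ => mono_extZero_map j m)

end exact

section P

variable {U W X : Scheme.{u}} (j : U ⟶ X) [IsOpenImmersion j]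

/-- `j_* j^*` -/
noncomputable abbrev P : X.Modules ⥤ X.Modules :=
  Scheme.Modules.restrictFunctor j ⋙ Scheme.Modules.pushforward j

/-- `j_! j^* ⊣ j_* j^*` -/
noncomputable def adjAP : A j ⊣ P j :=
  (Scheme.Modules.restrictAdjunction j).comp (CxOX.extZeroAdj j)

/-- `𝟭 ⟶ j_* j^*`, the conjugate of the counit `j_! j^* ⟶ 𝟭` -/
noncomputable def η : 𝟭 X.Modules ⟶ P j := conjugateEquiv Adjunction.id (adjAP j) (ε j)

variable (k : W ⟶ X) [IsOpenImmersion k] (i : W ⟶ U) [IsOpenImmersion i] (h : i ≫ j = k)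

/-- `j_* j^* ⟶ k_* k^*`, the conjugate of `k_! k^* ⟶ j_! j^*` -/
noncomputable def ρ : P j ⟶ P k := conjugateEquiv (adjAP j) (adjAP k) (α j k i h)

lemma η_ρ : η j ≫ ρ j k i h = η k := by
  rw [η, ρ, conjugateEquiv_comp, α_ε]
  rfl

lemma η_ρ_app (G : X.Modules) : (η j).app G ≫ (ρ j k i h).app G = (η k).app G := by
  rw [← NatTrans.comp_app, η_ρ]

end P

section KL

variable {U X : Scheme.{u}} (j : U ⟶ X) [IsOpenImmersion j]

/-- if `τ` is an isomorphism on the essential image of `j_!`, then its conjugate is an isomorphism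
after restriction to the open -/
lemma isIso_restrict_conj {L₁ L₂ R₁ R₂ : X.Modules ⥤ X.Modules} (adj₁ : L₁ ⊣ R₁) (adj₂ : L₂ ⊣ R₂)
    (τ : L₂ ⟶ L₁) (hτ : ∀ T : U.Modules, IsIso (τ.app ((CxOX.extZero j).obj T))) (G : X.Modules) :
    IsIso ((Scheme.Modules.restrictFunctor j).map ((conjugateEquiv adj₁ adj₂ τ).app G)) := by
  haveI : IsIso (Functor.whiskerLeft (CxOX.extZero j) τ) := by
    haveI : ∀ T, IsIso ((Functor.whiskerLeft (CxOX.extZero j) τ).app T) := fun T => hτ T
    exact NatIso.isIso_of_isIso_app _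
  have h := conjugateEquiv_whiskerLeft adj₁ adj₂ (CxOX.extZeroAdj j) τ
  haveI : IsIso (Functor.whiskerRight (conjugateEquiv adj₁ adj₂ τ)
      (Scheme.Modules.restrictFunctor j)) := by
    rw [← h]; infer_instance
  exact inferInstanceAs (IsIso ((Functor.whiskerRight (conjugateEquiv adj₁ adj₂ τ)
      (Scheme.Modules.restrictFunctor j)).app G))

lemma isIso_stalk_conj {L₁ L₂ R₁ R₂ : X.Modules ⥤ X.Modules} (adj₁ : L₁ ⊣ R₁) (adj₂ : L₂ ⊣ R₂)
    (τ : L₂ ⟶ L₁) (hτ : ∀ T : U.Modules, IsIso (τ.app ((CxOX.extZero j).obj T))) (G : X.Modules)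
    (x : X) (hx : x ∈ Set.range j.base) :
    IsIso ((stalkFun x).map ((conjugateEquiv adj₁ adj₂ τ).app G)) := by
  obtain ⟨y, rfl⟩ := hx
  haveI := isIso_restrict_conj j adj₁ adj₂ τ hτ G
  exact isIso_stalk_of_isIso_restrict j _ y

/-- the counit `j_! j^* N ⟶ N` is an isomorphism for `N = j_! T` -/
lemma isIso_ε_extZero (T : U.Modules) : IsIso ((ε j).app ((CxOX.extZero j).obj T)) := by
  apply isIso_of_stalk
  intro x
  by_cases hx : x ∈ Set.range j.base
  · exact isIso_stalk_counit j _ x hx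
  · exact isIso_of_isZero _ (isZero_stalk_extZero j x hx _) (isZero_stalk_extZero j x hx _)

lemma isIso_stalk_η (G : X.Modules) (x : X) (hx : x ∈ Set.range j.base) :
    IsIso ((stalkFun x).map ((η j).app G)) :=
  isIso_stalk_conj j Adjunction.id (adjAP j) (ε j) (isIso_ε_extZero j) G x hx

end KL

section sesP

variable {U₁ U₂ W X : Scheme.{u}} (j₁ : U₁ ⟶ X) (j₂ : U₂ ⟶ X) (k : W ⟶ X) (i₁ : W ⟶ U₁) (i₂ : W ⟶ U₂)
  [IsOpenImmersion j₁] [IsOpenImmersion j₂] [IsOpenImmersion k] [IsOpenImmersion i₁]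
  [IsOpenImmersion i₂] (h₁ : i₁ ≫ j₁ = k) (h₂ : i₂ ≫ j₂ = k)

/-- `α : A k ⟶ A j₂` is an isomorphism on `j₁_! T` when `k` is the intersection -/
lemma isIso_α_extZero (hint : Set.range k.base = Set.range j₁.base ∩ Set.range j₂.base)
    (T : U₁.Modules) : IsIso ((α j₂ k i₂ h₂).app ((CxOX.extZero j₁).obj T)) := by
  apply isIso_of_stalk
  intro x
  by_cases hk : x ∈ Set.range k.base
  · exact isIso_stalk_α j₂ k i₂ h₂ _ x (Or.inl hk)
  · by_cases h2 : x ∈ Set.range j₂.base
    · have h1 : x ∉ Set.range j₁.base := fun h1 => hk (by rw [hint]; exact ⟨h1, h2⟩)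
      haveI := isIso_stalk_counit j₂ ((CxOX.extZero j₁).obj T) x h2
      exact isIso_of_isZero _ (isZero_stalk_extZero k x hk _)
        (IsZero.of_iso (isZero_stalk_extZero j₁ x h1 T)
          (asIso ((stalkFun x).map ((ε j₂).app ((CxOX.extZero j₁).obj T)))))
    · exact isIso_stalk_α j₂ k i₂ h₂ _ x (Or.inr h2)

lemma sqP (G : X.Modules) : CommSq ((η j₁).app G) ((η j₂).app G)
    ((ρ j₁ k i₁ h₁).app G) ((ρ j₂ k i₂ h₂).app G) :=
  ⟨by rw [η_ρ_app, η_ρ_app]⟩

include h₁ h₂ in
lemma sesP_shortExact (hcov : Set.range j₁.base ∪ Set.range j₂.base = Set.univ)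
    (hint : Set.range k.base = Set.range j₁.base ∩ Set.range j₂.base) (G : X.Modules) :
    (sqP j₁ j₂ k i₁ i₂ h₁ h₂ G).shortComplex'.ShortExact := by
  apply shortExact_of_stalk_sq
  intro x
  by_cases hx1 : x ∈ Set.range j₁.base
  · left
    exact ⟨isIso_stalk_η j₁ G x hx1,
      isIso_stalk_conj j₁ (adjAP j₂) (adjAP k) (α j₂ k i₂ h₂)
        (isIso_α_extZero j₁ j₂ k i₂ h₂ hint) G x hx1⟩
  · right
    have hx : x ∈ Set.range j₁.base ∪ Set.range j₂.base := by rw [hcov]; trivial
    have hx2 : x ∈ Set.range j₂.base := hx.resolve_left hx1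
    exact ⟨isIso_stalk_η j₂ G x hx2,
      isIso_stalk_conj j₂ (adjAP j₁) (adjAP k) (α j₁ k i₁ h₁)
        (isIso_α_extZero j₂ j₁ k i₁ h₁ (by rw [hint, Set.inter_comm])) G x hx2⟩

end sesP

end Groth.Agent.Lib.H6xMV
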