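import Mathlib
import Groth.Agent.Lib.H6xMVE
import Groth.Agent.Lib.Helper17KInjD5
import Groth.Agent.Lib.Helper17KInj12
import Groth.Agent.Lib.Helper16RestrInj
import Groth.Agent.S0484
set_option backward.isDefEq.respectTransparency.types false

/-!
# Mayer–Vietoris for `Rj_*`: complexes and the derived category (helper6)
-/

set_option autoImplicit false
set_option linter.style.haveILetI false
universe u
open CategoryTheory CategoryTheory.Limits AlgebraicGeometry TopologicalSpace Opposite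

attribute [local instance] HasDerivedCategory.standard

namespace Groth.Agent.Lib.H6xMV

open Groth.Agent.Lib.Helper17.KInj

section complexes

variable {U W X : Scheme.{u}} (j : U ⟶ X) [IsOpenImmersion j]
  (K : CochainComplex X.Modules ℤ)

/-- the unit on complexes -/
noncomputable def ηC : K ⟶ ((P j).mapHomologicalComplex (ComplexShape.up ℤ)).obj K where
  f n := (η j).app (K.X n)
  comm' a b _ := ((η j).naturality (K.d a b)).symm

variable (k : W ⟶ X) [IsOpenImmersion k] (i : W ⟶ U) [IsOpenImmersion i] (h : i ≫ j = k)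

/-- the transition on complexes -/
noncomputable def ρC : ((P j).mapHomologicalComplex (ComplexShape.up ℤ)).obj K ⟶
    ((P k).mapHomologicalComplex (ComplexShape.up ℤ)).obj K :=
  (NatTrans.mapHomologicalComplex (ρ j k i h) (ComplexShape.up ℤ)).app K

end complexes

section ses

variable {U₁ U₂ W X : Scheme.{u}} (j₁ : U₁ ⟶ X) (j₂ : U₂ ⟶ X) (k : W ⟶ X) (i₁ : W ⟶ U₁) (i₂ : W ⟶ U₂)
  [IsOpenImmersion j₁] [IsOpenImmersion j₂] [IsOpenImmersion k] [IsOpenImmersion i₁]
  [IsOpenImmersion i₂] (h₁ : i₁ ≫ j₁ = k) (h₂ : i₂ ≫ j₂ = k)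
  (K : CochainComplex X.Modules ℤ)

lemma sqPC : CommSq (ηC j₁ K) (ηC j₂ K) (ρC j₁ K k i₁ h₁) (ρC j₂ K k i₂ h₂) :=
  ⟨HomologicalComplex.hom_ext _ _ (fun n => (sqP j₁ j₂ k i₁ i₂ h₁ h₂ (K.X n)).w)⟩

include h₁ h₂ in
lemma sesPC_shortExact (hcov : Set.range j₁.base ∪ Set.range j₂.base = Set.univ)
    (hint : Set.range k.base = Set.range j₁.base ∩ Set.range j₂.base) :
    (sqPC j₁ j₂ k i₁ i₂ h₁ h₂ K).shortComplex'.ShortExact := by
  apply HomologicalComplex.shortExact_of_degreewise_shortExact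
  intro n
  refine ShortComplex.shortExact_of_iso
    (mapShortComplex'Iso (HomologicalComplex.eval _ _ n) (sqPC j₁ j₂ k i₁ i₂ h₁ h₂ K)).symm ?_
  exact sesP_shortExact j₁ j₂ k i₁ i₂ h₁ h₂ hcov hint (K.X n)

end ses

section RD

variable {X : Scheme.{u}} {A' : Type*} [Category A'] [Abelian A'] [HasDerivedCategory A']
  (G : X.Modules ⥤ A') [G.Additive]
  [(G.mapHomotopyCategory (ComplexShape.up ℤ) ⋙ DerivedCategory.Qh).HasRightDerivedFunctor
    (HomotopyCategory.quasiIso X.Modules (ComplexShape.up ℤ))]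

instance isGrothendieckAbelian_modules : IsGrothendieckAbelian.{u} X.Modules :=
  Groth.Agent.S0484.result (Opens.grothendieckTopology X) X.ringCatSheaf

/-- a total right derived functor is computed termwise on K-injective complexes -/
noncomputable def rdIso (I : CochainComplex X.Modules ℤ) [I.IsKInjective] :
    DerivedCategory.Q.obj ((G.mapHomologicalComplex (ComplexShape.up ℤ)).obj I) ≅
      ((G.mapHomotopyCategory (ComplexShape.up ℤ) ⋙ DerivedCategory.Qh).totalRightDerived
        DerivedCategory.Qh (HomotopyCategory.quasiIso X.Modules (ComplexShape.up ℤ))).obj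
        (DerivedCategory.Q.obj I) :=
  haveI := isIso_app_of_isKInjective.{u} G _ (unitOfK G _
    ((G.mapHomotopyCategory (ComplexShape.up ℤ) ⋙ DerivedCategory.Qh).totalRightDerivedUnit
      DerivedCategory.Qh (HomotopyCategory.quasiIso X.Modules (ComplexShape.up ℤ)))) I
  asIso ((unitOfK G _
    ((G.mapHomotopyCategory (ComplexShape.up ℤ) ⋙ DerivedCategory.Qh).totalRightDerivedUnit
      DerivedCategory.Qh (HomotopyCategory.quasiIso X.Modules (ComplexShape.up ℤ)))).app I)

end RD

section derivedP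

open Pretriangulated

/-- restriction to an open preserves K-injective complexes -/
lemma isKInjective_restrict {U X : Scheme.{u}} (j : U ⟶ X) [IsOpenImmersion j]
    (I : CochainComplex X.Modules ℤ) [I.IsKInjective] :
    CochainComplex.IsKInjective
      (((Scheme.Modules.restrictFunctor j).mapHomologicalComplex (ComplexShape.up ℤ)).obj I) :=
  haveI := preservesFiniteLimits_extZero j
  Groth.Agent.Lib.Helper16.RestrInj.isKInjective_map_of_adjunction (CxOX.extZeroAdj j) I

/-- `Q (j_* j^* I) ≅ Rj_* (E|_U)` for `I` K-injective with `Q I ≅ E` -/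
noncomputable def pushResIso {U X : Scheme.{u}} (j : U ⟶ X) [IsOpenImmersion j]
    [DCoh.HasRpush j] [PreservesFiniteLimits (Scheme.Modules.restrictFunctor j)]
    (I : CochainComplex X.Modules ℤ) [I.IsKInjective] {E : DCoh.D X}
    (eI : DerivedCategory.Q.obj I ≅ E) :
    DerivedCategory.Q.obj (((P j).mapHomologicalComplex (ComplexShape.up ℤ)).obj I) ≅
      (DCoh.Rpush j).obj ((DCoh.restrictD j).obj E) :=
  haveI := isKInjective_restrict j I
  rdIso (Scheme.Modules.pushforward j)
      (((Scheme.Modules.restrictFunctor j).mapHomologicalComplex (ComplexShape.up ℤ)).obj I) ≪≫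
    (DCoh.Rpush j).mapIso
      (((Scheme.Modules.restrictFunctor j).mapDerivedCategoryFactors.app I).symm ≪≫
        (DCoh.restrictD j).mapIso eI)

lemma exists_kInjective_iso' {X : Scheme.{u}} (E : DCoh.D X) :
    ∃ (I : CochainComplex X.Modules ℤ), I.IsKInjective ∧ (∀ n, Injective (I.X n)) ∧
      Nonempty (DerivedCategory.Q.obj I ≅ E) := by
  obtain ⟨I, f, hI, hf, -, hinj⟩ := exists_kInjective_resolution.{u} X.Modules
    ((DerivedCategory.Q : _ ⥤ DCoh.D X).objPreimage E)
  exact ⟨I, hI, hinj, ⟨(asIso (DerivedCategory.Q.map f)).symm ≪≫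
    DerivedCategory.Q.objObjPreimageIso E⟩⟩

variable {U₁ U₂ W X : Scheme.{u}} (j₁ : U₁ ⟶ X) (j₂ : U₂ ⟶ X) (k : W ⟶ X) (i₁ : W ⟶ U₁) (i₂ : W ⟶ U₂)
  [IsOpenImmersion j₁] [IsOpenImmersion j₂] [IsOpenImmersion k] [IsOpenImmersion i₁]
  [IsOpenImmersion i₂] (h₁ : i₁ ≫ j₁ = k) (h₂ : i₂ ≫ j₂ = k)
  [DCoh.HasRpush j₁] [DCoh.HasRpush j₂] [DCoh.HasRpush k]
  [PreservesFiniteLimits (Scheme.Modules.restrictFunctor j₁)]
  [PreservesFiniteLimits (Scheme.Modules.restrictFunctor j₂)]
  [PreservesFiniteLimits (Scheme.Modules.restrictFunctor k)]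

attribute [local instance] preservesBinaryBiproducts_of_preservesBiproducts in
include h₁ h₂ in
theorem exists_triangle_Rpush (hcov : Set.range j₁.base ∪ Set.range j₂.base = Set.univ)
    (hint : Set.range k.base = Set.range j₁.base ∩ Set.range j₂.base) (E : DCoh.D X) :
    ∃ (a : E ⟶ ((DCoh.Rpush j₁).obj ((DCoh.restrictD j₁).obj E) ⊞
          (DCoh.Rpush j₂).obj ((DCoh.restrictD j₂).obj E)))
      (b : ((DCoh.Rpush j₁).obj ((DCoh.restrictD j₁).obj E) ⊞
          (DCoh.Rpush j₂).obj ((DCoh.restrictD j₂).obj E)) ⟶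
          (DCoh.Rpush k).obj ((DCoh.restrictD k).obj E))
      (c : (DCoh.Rpush k).obj ((DCoh.restrictD k).obj E) ⟶ E⟦(1 : ℤ)⟧),
      Triangle.mk a b c ∈ distTriang (DCoh.D X) := by
  obtain ⟨I, hI, -, ⟨eI⟩⟩ := exists_kInjective_iso' E
  have hS := sesPC_shortExact j₁ j₂ k i₁ i₂ h₁ h₂ I hcov hint
  have hT := DerivedCategory.triangleOfSES_distinguished hS
  refine exists_triangle_of_isos _ hT ?_ ?_ ?_
  · exact eI
  · exact (DerivedCategory.Q.mapBiprod _ _) ≪≫
      biprod.mapIso (pushResIso j₁ I eI) (pushResIso j₂ I eI)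
  · exact pushResIso k I eI

end derivedP

end Groth.Agent.Lib.H6xMV
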