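import Mathlib
import Groth.Prelude.Def_LocCohZ
import Groth.Agent.Lib.Helper16LocCohShift

/-!
# Global sections of the first non-vanishing local cohomology sheaf (helper3, round 2)

If `ℋ^i_Z(F) = 0` for all `i < d` then `Γ(X, ℋ^d_Z(F)) ≃+ H^d_Z(X, F)` (the edge map of the
local-to-global spectral sequence, obtained here by dimension shifting along the chosen injective
resolution).
-/

set_option autoImplicit false
set_option linter.style.haveILetI false
set_option linter.unusedSectionVars false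
set_option linter.unusedVariables false
universe u
open CategoryTheory CategoryTheory.Limits TopologicalSpace
open LocCohZ

namespace Groth.Agent.Lib.R2H3.LocSectEdge
open Opposite Abelian
open Groth.Agent.Lib.Helper16.SectSupp Groth.Agent.Lib.Helper16.ClosedEmb
  Groth.Agent.Lib.Helper16.DimShift Groth.Agent.Lib.Helper16.Flasque Groth.Agent.Lib.Helper23LocSS
  Groth.Agent.Lib.Helper16.LocCohShift

variable {X : TopCat.{u}} (U : Opens X)

lemma map_eq_zero_congr (G : CohTop.Ab X) {W W' V : Opens X} (e : W = W') (h : W ≤ V)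
    (h' : W' ≤ V) (s : G.obj.obj (op V)) :
    G.obj.map (homOfLE h).op s = 0 ↔ G.obj.map (homOfLE h').op s = 0 := by
  subst e
  rfl

/-- global sections of `Γ_Z G` are the global sections of `G` vanishing on `U`. -/
noncomputable def gammaHom (G : CohTop.Ab X) :
    ((LocCohZ.sectSuppF U).obj G).obj.obj (op ⊤) →+ LocCohZ.sectZ G (le_top : U ≤ ⊤) :=
  AddMonoidHom.codRestrict ((ιΓ U G).hom.app (op ⊤)).hom _ (fun t => by
    have h1 := (exists_sectSupp_iff U G ⊤ ((ιΓ U G).hom.app (op ⊤) t)).1 ⟨t, rfl⟩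
    exact (map_eq_zero_congr G (top_inf_eq U) inf_le_left le_top _).1 h1)

lemma gammaHom_coe (G : CohTop.Ab X) (t : ((LocCohZ.sectSuppF U).obj G).obj.obj (op ⊤)) :
    ((gammaHom U G t : LocCohZ.sectZ G (le_top : U ≤ ⊤)) : G.obj.obj (op ⊤)) =
      (ιΓ U G).hom.app (op ⊤) t := rfl

lemma gammaHom_bijective (G : CohTop.Ab X) : Function.Bijective (gammaHom U G) := by
  constructor
  · intro a b hab
    apply ιΓ_injective U G ⊤
    exact congrArg Subtype.val hab
  · intro s
    have h1 : G.obj.map (homOfLE (inf_le_left : ⊤ ⊓ U ≤ ⊤)).op s.1 = 0 :=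
      (map_eq_zero_congr G (top_inf_eq U) inf_le_left le_top _).2 s.2
    obtain ⟨t, ht⟩ := (exists_sectSupp_iff U G ⊤ s.1).2 h1
    exact ⟨t, Subtype.ext ht⟩

/-- `Hom(ℤ_X/ℤ_U, G) ≃ Γ(X, Γ_Z G)`. -/
noncomputable def eH (G : CohTop.Ab X) :
    (zq (le_top : U ≤ ⊤) ⟶ G) ≃+ ((LocCohZ.sectSuppF U).obj G).obj.obj (op ⊤) :=
  (homZqEquiv G (le_top : U ≤ ⊤)).trans
    (AddEquiv.ofBijective (gammaHom U G) (gammaHom_bijective U G)).symm

lemma ιΓ_eH (G : CohTop.Ab X) (φ : zq (le_top : U ≤ ⊤) ⟶ G) :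
    (ιΓ U G).hom.app (op ⊤) (eH U G φ) =
      ((homZqEquiv G (le_top : U ≤ ⊤) φ : LocCohZ.sectZ G (le_top : U ≤ ⊤)) : G.obj.obj (op ⊤)) := by
  have h := (AddEquiv.ofBijective (gammaHom U G) (gammaHom_bijective U G)).apply_symm_apply
    (homZqEquiv G (le_top : U ≤ ⊤) φ)
  exact congrArg Subtype.val h

lemma eH_comp {G G' : CohTop.Ab X} (α : G ⟶ G') (φ : zq (le_top : U ≤ ⊤) ⟶ G) :
    eH U G' (φ ≫ α) = ((LocCohZ.sectSuppF U).map α).hom.app (op ⊤) (eH U G φ) := by
  apply ιΓ_injective U G' ⊤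
  rw [ιΓ_eH, homZqEquiv_comp, ← ιΓ_eH]
  exact (congrArg (fun m => m.hom.app (op ⊤) (eH U G φ)) (ιΓ_nat U α)).symm

section Main

variable (F : CohTop.Ab X)

/-- an isomorphism of sheaves induces an isomorphism of global sections. -/
noncomputable def sectionsEquivOfIso {G G' : CohTop.Ab X} (e : G ≅ G') (V : Opens X) :
    G.obj.obj (op V) ≃+ G'.obj.obj (op V) where
  toFun := e.hom.hom.app (op V)
  invFun := e.inv.hom.app (op V)
  left_inv t := by
    have := congrArg (fun m : G ⟶ G => m.hom.app (op V) t) e.hom_inv_id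
    exact this
  right_inv t := by
    have := congrArg (fun m : G' ⟶ G' => m.hom.app (op V) t) e.inv_hom_id
    exact this
  map_add' a b := map_add _ a b

theorem nonempty_sections_equiv_zero :
    Nonempty (((LocCohZ.HZsh U 0).obj F).obj.obj (op ⊤) ≃+ LocCohZ.HZc F 0 U) := by
  haveI := sectSuppF_preservesFiniteLimits U
  let e0 := sectionsEquivOfIso ((LocCohZ.sectSuppF U).rightDerivedZeroIsoSelf.app F) ⊤
  let e1 := AddEquiv.ofBijective (gammaHom U F) (gammaHom_bijective U F)
  exact ⟨(e0.trans e1).trans (LocCohZ.sect0Equiv F (le_top : U ≤ ⊤)).symm⟩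

attribute [local instance] Ext.subsingleton_of_injective in
theorem nonempty_sections_equiv_succ (k : ℕ)
    (h : ∀ i : ℕ, i < k + 1 → IsZero ((LocCohZ.HZsh U i).obj F)) :
    Nonempty (((LocCohZ.HZsh U (k + 1)).obj F).obj.obj (op ⊤) ≃+ LocCohZ.HZc F (k + 1) U) := by
  haveI := sectSuppF_preservesFiniteLimits U
  let G := LocCohZ.sectSuppF U
  let A := zq (le_top : U ≤ ⊤)
  let g' : G.obj ((DD F).J k) ⟶ G.obj ((DD F).Z (k + 1)) := G.map ((DD F).g k)
  -- dimension shifting on the Ext side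
  obtain ⟨e1⟩ := ds.{u} A k (DD F) (fun j q => by
    haveI : Injective ((DD F).J j) := (injectiveResolution F).injective j
    infer_instance)
  have e1' : LocCohZ.HZc F (k + 1) U ≃+ (DD F).Q A k := e1
  -- the sheaf side
  let eR : (LocCohZ.HZsh U (k + 1)).obj F ≅ cokernel g' :=
    rightDerivedSuccIso G (injectiveResolution F) k
  have hfl : TopCat.Sheaf.IsFlasque (G.obj ((DD F).Z k)) := flasque_Z U F (k + 1) h k (by omega)
  -- first short exact sequence
  have w1 : G.map ((DD F).f k) ≫ Abelian.factorThruImage g' = 0 := by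
    apply (cancel_mono (Abelian.image.ι g')).1
    rw [Category.assoc, Abelian.image.fac, zero_comp, ← G.map_comp, (DD F).w k, G.map_zero]
  let S1 : ShortComplex (CohTop.Ab X) :=
    ShortComplex.mk (G.map ((DD F).f k)) (Abelian.factorThruImage g') w1
  haveI := ((DD F).hS k).mono_f
  have hex : (SΓ U F k).Exact :=
    ((DD F).hS k).exact.map_of_mono_of_preservesKernel G ((DD F).hS k).mono_f inferInstance
  let φ : S1 ⟶ SΓ U F k :=
    { τ₁ := 𝟙 _
      τ₂ := 𝟙 _
      τ₃ := Abelian.image.ι g'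
      comm₁₂ := by
        change 𝟙 _ ≫ G.map ((DD F).f k) = G.map ((DD F).f k) ≫ 𝟙 _
        rw [Category.id_comp, Category.comp_id]
      comm₂₃ := by
        change 𝟙 _ ≫ G.map ((DD F).g k) = Abelian.factorThruImage g' ≫ Abelian.image.ι g'
        rw [Category.id_comp, Abelian.image.fac] }
  haveI : Epi φ.τ₁ := inferInstanceAs (Epi (𝟙 _))
  haveI : IsIso φ.τ₂ := inferInstanceAs (IsIso (𝟙 _))
  haveI : Mono φ.τ₃ := inferInstanceAs (Mono (Abelian.image.ι g'))
  have hS1 : S1.ShortExact :=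
    { exact := (ShortComplex.exact_iff_of_epi_of_isIso_of_mono φ).2 hex
      mono_f := inferInstanceAs (Mono (G.map ((DD F).f k)))
      epi_g := inferInstanceAs (Epi (Abelian.factorThruImage g')) }
  haveI : TopCat.Sheaf.IsFlasque S1.X₁ := hfl
  haveI : TopCat.Sheaf.IsFlasque S1.X₂ := isFlasque_sectSupp_J U F k
  have hflim : TopCat.Sheaf.IsFlasque (Abelian.image g') :=
    TopCat.Sheaf.IsFlasque.of_shortExact_of_isFlasque₁₂ hS1
  have hsurj1 : Function.Surjective ((Abelian.factorThruImage g').hom.app (op ⊤)) := by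
    have h1 : Epi (S1.g.1.app (op (⊤ : Opens X))) := TopCat.Sheaf.IsFlasque.epi_of_shortExact hS1
    rw [AddCommGrpCat.epi_iff_surjective] at h1
    exact h1
  -- second short exact sequence
  let S2 : ShortComplex (CohTop.Ab X) :=
    ShortComplex.mk (Abelian.image.ι g') (cokernel.π g') (kernel.condition (cokernel.π g'))
  have hS2 : S2.ShortExact :=
    { exact := ShortComplex.exact_of_f_is_kernel _ (kernelIsKernel (cokernel.π g'))
      mono_f := inferInstanceAs (Mono (Abelian.image.ι g'))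
      epi_g := inferInstanceAs (Epi (cokernel.π g')) }
  haveI : TopCat.Sheaf.IsFlasque S2.X₁ := hflim
  have hsurj2 : Function.Surjective ((cokernel.π g').hom.app (op ⊤)) := by
    have h1 : Epi (S2.g.1.app (op (⊤ : Opens X))) := TopCat.Sheaf.IsFlasque.epi_of_shortExact hS2
    rw [AddCommGrpCat.epi_iff_surjective] at h1
    exact h1
  -- the map `Hom(A, Z^{k+1}) → Γ(X, coker g')`
  let Ψ : (A ⟶ (DD F).Z (k + 1)) →+ (cokernel g').obj.obj (op ⊤) :=
    (((cokernel.π g').hom.app (op ⊤)).hom).comp (eH U ((DD F).Z (k + 1))).toAddMonoidHom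
  have hΨs : Function.Surjective Ψ := by
    intro c
    obtain ⟨s, hs⟩ := hsurj2 c
    obtain ⟨φ', hφ'⟩ := (eH U ((DD F).Z (k + 1))).surjective s
    exact ⟨φ', by change (cokernel.π g').hom.app (op ⊤) (eH U _ φ') = c; rw [hφ', hs]⟩
  have hΨk : Ψ.ker = (Preadditive.rightComp A ((DD F).g k)).range := by
    ext φ'
    rw [AddMonoidHom.mem_ker, AddMonoidHom.mem_range]
    constructor
    · intro h0
      have h0' : (cokernel.π g').hom.app (op ⊤) (eH U _ φ') = 0 := h0
      obtain ⟨b, hb⟩ := exists_of_isKernel S2 hS2 ⊤ (eH U _ φ') h0'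
      obtain ⟨j, hj⟩ := hsurj1 b
      obtain ⟨ψ, hψ⟩ := (eH U ((DD F).J k)).surjective j
      refine ⟨ψ, ?_⟩
      apply (eH U ((DD F).Z (k + 1))).injective
      change eH U _ (ψ ≫ (DD F).g k) = _
      rw [eH_comp, hψ, ← hb, ← hj]
      have := congrArg (fun m => m.hom.app (op (⊤ : Opens X)) j) (Abelian.image.fac g')
      exact this.symm
    · rintro ⟨ψ, rfl⟩
      change (cokernel.π g').hom.app (op ⊤) (eH U _ (ψ ≫ (DD F).g k)) = 0
      rw [eH_comp]
      have := congrArg (fun m => m.hom.app (op (⊤ : Opens X)) (eH U _ ψ)) (cokernel.condition g')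
      exact this
  let e2 : (DD F).Q A k ≃+ (cokernel g').obj.obj (op ⊤) :=
    (QuotientAddGroup.quotientAddEquivOfEq hΨk).symm.trans
      (QuotientAddGroup.quotientKerEquivOfSurjective Ψ hΨs)
  exact ⟨(sectionsEquivOfIso eR ⊤).trans (e2.symm.trans e1'.symm)⟩

/-- **Edge isomorphism**: if `ℋ^i_Z(F) = 0` for `i < d` then `Γ(X, ℋ^d_Z(F)) ≃+ H^d_Z(X, F)`. -/
theorem nonempty_sections_equiv (d : ℕ)
    (h : ∀ i : ℕ, i < d → IsZero ((LocCohZ.HZsh U i).obj F)) :
    Nonempty (((LocCohZ.HZsh U d).obj F).obj.obj (op ⊤) ≃+ LocCohZ.HZc F d U) := by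
  cases d with
  | zero => exact nonempty_sections_equiv_zero U F
  | succ k => exact nonempty_sections_equiv_succ U F k h

end Main

end Groth.Agent.Lib.R2H3.LocSectEdge
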