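import Mathlib
import Groth.Prelude.Def_LocCohZ
import Groth.Prelude.Def_DCoh2
import Groth.Agent.Lib.Helper23ModAbBridge
import Groth.Agent.Lib.Helper21RelExtSS
import Groth.Agent.Lib.Helper16LocCohShift
import Groth.Agent.Lib.R2H3LocSectEdge

/-!
# Local cohomology sheaves of `O`-modules versus those of the underlying abelian sheaves (helper3, round 2)

* `isFlasque_toAb_of_injective`: the underlying abelian sheaf of an injective `O_X`-module is flasque.
* `gammaZIso`: `toAb (Γ_Z F) ≅ Γ_Z (toAb F)` naturally (`DCoh.gammaZ j` versus `LocCohZ.sectSuppF j.opensRange`).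
* `nonempty_toAb_HZshM_iso`: `toAb (R^n Γ_Z (M)) ≅ ℋ^n_Z(toAb M)`.
-/

set_option autoImplicit false
set_option linter.style.haveILetI false
set_option linter.unusedSectionVars false
set_option linter.unusedVariables false
universe u
open CategoryTheory CategoryTheory.Limits TopologicalSpace AlgebraicGeometry Opposite

namespace Groth.Agent.Lib.R2H3.ModLocBridge

open Groth.Agent.Lib.Helper16.SectSupp Groth.Agent.Lib.Helper16.ClosedEmb
  Groth.Agent.Lib.Helper16.LocCohShift Groth.Agent.Lib.Helper21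
  Groth.Agent.Lib.Helper21.FreeAb Groth.Agent.Lib.Helper21.TorsFree

section Top

variable {X : TopCat.{u}}

/-- sections killed by a map lift to the kernel. -/
lemma exists_kernel_lift {A B : CohTop.Ab X} (g : A ⟶ B) (V : Opens X) (a : A.obj.obj (op V))
    (ha : g.hom.app (op V) a = 0) :
    ∃ b : (kernel g).obj.obj (op V), (kernel.ι g).hom.app (op V) b = a := by
  have h0 : CohFree.ofSect (J X) V A a ≫ g = 0 := by
    rw [ofSect_comp, ha]
    apply (CohFree.homEquivSect (J X) V B).injective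
    rw [CohFree.homEquivSect_apply, CohFree.evalGen_ofSect, map_zero]
  let b' : CohCx.freeSheaf (J X) V ⟶ kernel g := kernel.lift g _ h0
  have hb' : b' ≫ kernel.ι g = CohFree.ofSect (J X) V A a := kernel.lift_ι _ _ _
  refine ⟨CohFree.evalGen (J X) V (kernel g) b', ?_⟩
  rw [← evalGen_comp, hb', CohFree.evalGen_ofSect]

lemma kernel_ι_comp_eq_zero_of_sections {G P₁ P₂ : CohTop.Ab X} (η₁ : G ⟶ P₁) (η₂ : G ⟶ P₂)
    (h : ∀ (V : Opens X) (s : G.obj.obj (op V)), η₁.hom.app (op V) s = 0 → η₂.hom.app (op V) s = 0) :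
    kernel.ι η₁ ≫ η₂ = 0 := by
  apply Sheaf.hom_ext
  apply NatTrans.ext
  funext V
  ext t
  have h1 : η₁.hom.app V ((kernel.ι η₁).hom.app V t) = 0 :=
    congrArg (fun m => m.hom.app V t) (kernel.condition η₁)
  exact h V.unop _ h1

/-- two maps with the same sectionwise kernels have isomorphic kernels. -/
noncomputable def kernelIsoOfSections {G P₁ P₂ : CohTop.Ab X} (η₁ : G ⟶ P₁) (η₂ : G ⟶ P₂)
    (h : ∀ (V : Opens X) (s : G.obj.obj (op V)), η₁.hom.app (op V) s = 0 ↔ η₂.hom.app (op V) s = 0) :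
    kernel η₁ ≅ kernel η₂ where
  hom := kernel.lift η₂ (kernel.ι η₁)
    (kernel_ι_comp_eq_zero_of_sections η₁ η₂ (fun V s => (h V s).1))
  inv := kernel.lift η₁ (kernel.ι η₂)
    (kernel_ι_comp_eq_zero_of_sections η₂ η₁ (fun V s => (h V s).2))
  hom_inv_id := by
    apply (cancel_mono (kernel.ι η₁)).1
    rw [Category.assoc, kernel.lift_ι, kernel.lift_ι, Category.id_comp]
  inv_hom_id := by
    apply (cancel_mono (kernel.ι η₂)).1
    rw [Category.assoc, kernel.lift_ι, kernel.lift_ι, Category.id_comp]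

lemma kernelIsoOfSections_hom_ι {G P₁ P₂ : CohTop.Ab X} (η₁ : G ⟶ P₁) (η₂ : G ⟶ P₂)
    (h : ∀ (V : Opens X) (s : G.obj.obj (op V)), η₁.hom.app (op V) s = 0 ↔ η₂.hom.app (op V) s = 0) :
    (kernelIsoOfSections η₁ η₂ h).hom ≫ kernel.ι η₂ = kernel.ι η₁ :=
  kernel.lift_ι _ _ _

end Top

section Sch

variable {X : Scheme.{u}}

/-- the underlying abelian sheaf of an injective module is flasque. -/
theorem isFlasque_toAb_of_injective (I : X.Modules) [Injective I] :
    TopCat.Sheaf.IsFlasque (Coh.toAb I) := by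
  refine Groth.Agent.Lib.Helper21.RelExtSS.isFlasque_of_isTotallyAcyclic (X := X.carrier) _ ?_
  intro K p
  have key : ∀ x : CohCx.HK K (Coh.toAb I) (p + 1), x = 0 := fun x =>
    @ext_toSheaf_eq_zero _ _ _ X.ringCatSheaf I ‹_› p _ (TF_freeAb K) x
  exact ⟨fun x y => (key x).trans (key y).symm⟩

/-- higher local cohomology sheaves vanish on the underlying sheaf of an injective module. -/
theorem isZero_HZsh_of_injective (W : X.Opens) (I : X.Modules) [Injective I] (q : ℕ) :
    IsZero ((LocCohZ.HZsh (X := X.carrier) W (q + 1)).obj (Coh.toAb I)) := by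
  haveI := isFlasque_toAb_of_injective I
  exact HZsh_isZero (X := X.carrier) W (Coh.toAb I) q

end Sch

section Bridge

open Groth.Agent.Lib.R2H3.LocSectEdge

variable {U X : Scheme.{u}} (j : U ⟶ X) [IsOpenImmersion j]


/-- the unit `F ⟶ j_* j^* F` on underlying sheaves. -/
noncomputable abbrev unitAb (F : X.Modules) :=
  (SheafOfModules.toSheaf.{u} X.ringCatSheaf).map ((Scheme.Modules.restrictAdjunction j).unit.app F)

lemma unitAb_eq_zero_iff (F : X.Modules) (V : Opens X.carrier) (s : (Coh.toAb F).obj.obj (op V)) :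
    (unitAb j F).hom.app (op V) s = 0 ↔
      (ηJ (X := X.carrier) j.opensRange (Coh.toAb F)).hom.app (op V) s = 0 := by
  rw [unit_eq_zero_iff]
  have h1 : (unitAb j F).hom.app (op V) s =
      (Coh.toAb F).obj.map (homOfLE (j.image_preimage_le V)).op s := rfl
  rw [h1]
  exact map_eq_zero_congr (X := X.carrier) (Coh.toAb F)
    (by rw [Scheme.Hom.image_preimage_eq_opensRange_inf, inf_comm]) _ _ s

/-- `toAb (Γ_Z F) ≅ Γ_Z (toAb F)`. -/
noncomputable def gammaZIsoApp (F : X.Modules) :
    Coh.toAb ((DCoh.gammaZ j).obj F) ≅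
      (LocCohZ.sectSuppF (X := X.carrier) j.opensRange).obj (Coh.toAb F) :=
  PreservesKernel.iso (SheafOfModules.toSheaf.{u} X.ringCatSheaf) ((Scheme.Modules.restrictAdjunction j).unit.app F) ≪≫
    kernelIsoOfSections (unitAb j F) (ηJ (X := X.carrier) j.opensRange (Coh.toAb F))
      (unitAb_eq_zero_iff j F)

lemma gammaZIsoApp_hom_ι (F : X.Modules) :
    (gammaZIsoApp j F).hom ≫ ιΓ (X := X.carrier) j.opensRange (Coh.toAb F) =
      (SheafOfModules.toSheaf.{u} X.ringCatSheaf).map (kernel.ι ((Scheme.Modules.restrictAdjunction j).unit.app F)) := by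
  have h1 : (kernelIsoOfSections (unitAb j F) (ηJ (X := X.carrier) j.opensRange (Coh.toAb F))
      (unitAb_eq_zero_iff j F)).hom ≫ ιΓ (X := X.carrier) j.opensRange (Coh.toAb F) =
      kernel.ι (unitAb j F) := kernelIsoOfSections_hom_ι _ _ _
  have h2 : (PreservesKernel.iso (SheafOfModules.toSheaf.{u} X.ringCatSheaf)
      ((Scheme.Modules.restrictAdjunction j).unit.app F)).hom ≫ kernel.ι (unitAb j F) =
      (SheafOfModules.toSheaf.{u} X.ringCatSheaf).map
        (kernel.ι ((Scheme.Modules.restrictAdjunction j).unit.app F)) := by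
    rw [PreservesKernel.iso_hom]
    exact kernelComparison_comp_ι _ _
  exact (Category.assoc _ _ _).trans ((congrArg (_ ≫ ·) h1).trans h2)

/-- `toAb ∘ Γ_Z ≅ Γ_Z ∘ toAb`, naturally. -/
noncomputable def gammaZIso :
    DCoh.gammaZ j ⋙ SheafOfModules.toSheaf.{u} X.ringCatSheaf ≅ SheafOfModules.toSheaf.{u} X.ringCatSheaf ⋙ LocCohZ.sectSuppF (X := X.carrier) j.opensRange :=
  NatIso.ofComponents (gammaZIsoApp j) (fun {F F'} φ => by
    apply (cancel_mono (ιΓ (X := X.carrier) j.opensRange (Coh.toAb F'))).1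
    have hF' := gammaZIsoApp_hom_ι j F'
    have hF := gammaZIsoApp_hom_ι j F
    have hnat := ιΓ_nat (X := X.carrier) j.opensRange
      ((SheafOfModules.toSheaf.{u} X.ringCatSheaf).map φ)
    have hk : (DCoh.gammaZ j).map φ ≫ kernel.ι ((Scheme.Modules.restrictAdjunction j).unit.app F') =
        kernel.ι ((Scheme.Modules.restrictAdjunction j).unit.app F) ≫ φ := kernel.lift_ι _ _ _
    have hk' := (Functor.map_comp (SheafOfModules.toSheaf.{u} X.ringCatSheaf) _ _).symm.trans
      ((congrArg (SheafOfModules.toSheaf.{u} X.ringCatSheaf).map hk).trans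
        (Functor.map_comp (SheafOfModules.toSheaf.{u} X.ringCatSheaf) _ _))
    have s1 : ((DCoh.gammaZ j ⋙ SheafOfModules.toSheaf.{u} X.ringCatSheaf).map φ ≫
          (gammaZIsoApp j F').hom) ≫ ιΓ (X := X.carrier) j.opensRange (Coh.toAb F')
        = (SheafOfModules.toSheaf.{u} X.ringCatSheaf).map ((DCoh.gammaZ j).map φ) ≫
            (SheafOfModules.toSheaf.{u} X.ringCatSheaf).map
              (kernel.ι ((Scheme.Modules.restrictAdjunction j).unit.app F')) :=
      (Category.assoc _ _ _).trans (congrArg (_ ≫ ·) hF')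
    have s2 : ((gammaZIsoApp j F).hom ≫
          (SheafOfModules.toSheaf.{u} X.ringCatSheaf ⋙
            LocCohZ.sectSuppF (X := X.carrier) j.opensRange).map φ) ≫
          ιΓ (X := X.carrier) j.opensRange (Coh.toAb F')
        = (SheafOfModules.toSheaf.{u} X.ringCatSheaf).map
              (kernel.ι ((Scheme.Modules.restrictAdjunction j).unit.app F)) ≫
            (SheafOfModules.toSheaf.{u} X.ringCatSheaf).map φ :=
      (Category.assoc _ _ _).trans ((congrArg (_ ≫ ·) hnat).trans
        ((Category.assoc _ _ _).symm.trans (congrArg (· ≫ _) hF)))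
    exact s1.trans (hk'.trans s2.symm))

/-- the underlying abelian sheaf of `R^n Γ_Z (M)` (derived on `O_X`-modules) is `ℋ^n_Z` of the
underlying abelian sheaf of `M`. -/
theorem nonempty_toAb_HZshM_iso [HasInjectiveResolutions X.Modules] (M : X.Modules) (n : ℕ) :
    Nonempty (Coh.toAb (((DCoh.gammaZ j).rightDerived n).obj M) ≅
      (LocCohZ.HZsh (X := X.carrier) j.opensRange n).obj (Coh.toAb M)) := by
  have := Groth.Agent.S0484.result (Opens.grothendieckTopology X) X.ringCatSheaf
  have : EnoughInjectives X.Modules :=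
    inferInstanceAs (EnoughInjectives (SheafOfModules.{u} X.ringCatSheaf))
  have : HasInjectiveResolutions (SheafOfModules.{u} X.ringCatSheaf) :=
    ‹HasInjectiveResolutions X.Modules›
  haveI := sectSuppF_preservesFiniteLimits (X := X.carrier) j.opensRange
  have hE : ∀ I : SheafOfModules.{u} X.ringCatSheaf, Injective I → ∀ q : ℕ, 0 < q →
      IsZero (((LocCohZ.sectSuppF (X := X.carrier) j.opensRange).rightDerived q).obj
        ((SheafOfModules.toSheaf.{u} X.ringCatSheaf).obj I)) := by
    intro I hI q hq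
    obtain ⟨q, rfl⟩ : ∃ k, q = k + 1 := ⟨q - 1, by omega⟩
    exact @isZero_HZsh_of_injective X j.opensRange I hI q
  let Ef : SheafOfModules.{u} X.ringCatSheaf ⥤ Sheaf (Opens.grothendieckTopology X) AddCommGrpCat.{u} :=
    SheafOfModules.toSheaf X.ringCatSheaf
  let P : SheafOfModules.{u} X.ringCatSheaf ⥤ SheafOfModules.{u} X.ringCatSheaf := DCoh.gammaZ j
  have : P.Additive := inferInstanceAs (DCoh.gammaZ j).Additive
  let G : Sheaf (Opens.grothendieckTopology X) AddCommGrpCat.{u} ⥤
      Sheaf (Opens.grothendieckTopology X) AddCommGrpCat.{u} :=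
    LocCohZ.sectSuppF (X := X.carrier) j.opensRange
  have : PreservesFiniteLimits G := sectSuppF_preservesFiniteLimits (X := X.carrier) j.opensRange
  let e0 : P ⋙ Ef ≅ Ef ⋙ G := gammaZIso j
  obtain ⟨e3⟩ := DerAcyc.nonempty_rightDerived_comp_iso Ef G hE M n
  let e1 := (DerPost.postIso P Ef n).app M
  let e2 := (DerPost.natIsoRightDerived e0 n).app M
  exact ⟨e1.symm ≪≫ e2 ≪≫ e3⟩

end Bridge

end Groth.Agent.Lib.R2H3.ModLocBridge
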