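import Mathlib
import Groth.Prelude.Def_Coh
import Groth.Agent.Lib.Helper21RelExtSS
import Groth.Agent.Lib.Helper21DerAcyc
import Groth.Agent.Lib.Helper21DerPost
import Groth.Agent.Lib.Helper23QCohAbelian
import Groth.Agent.Lib.R2H3ModLocBridge

/-!
# Higher direct images commute with restriction to opens of the base (helper3, round 2)

* `restrictPushIso f V : f_* ⋙ (-)|_V ≅ (-)|_{f⁻¹V} ⋙ (f|_V)_*` (natural isomorphism of functors on
  `O`-modules).
* `isFlasque_toAb_restrict`: restriction to an open subscheme preserves flasqueness.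
* `hasInjectiveResolutions_modules`: `Y.Modules` has injective resolutions (every scheme `Y`).
* `nonempty_Rpush_restrict_iso`: `(R^p f_* M)|_V ≅ R^p (f|_V)_* (M|_{f⁻¹V})`.
-/

set_option autoImplicit false
set_option linter.style.haveILetI false
set_option linter.unusedSectionVars false
set_option linter.unusedVariables false
universe u
open CategoryTheory CategoryTheory.Limits TopologicalSpace AlgebraicGeometry Opposite

namespace Groth.Agent.Lib.R2H3.RpushRestrict

theorem hasInjectiveResolutions_modules (Y : Scheme.{u}) : HasInjectiveResolutions Y.Modules := by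
  have := Groth.Agent.S0484.result (Opens.grothendieckTopology Y) Y.ringCatSheaf
  have : EnoughInjectives Y.Modules :=
    inferInstanceAs (EnoughInjectives (SheafOfModules.{u} Y.ringCatSheaf))
  infer_instance

variable {X S : Scheme.{u}} (f : X ⟶ S) (V : S.Opens)

/-- the two composite functors on opens agree. -/
noncomputable def opensIso :
    Opens.map (f ∣_ V).base ⋙ (f ⁻¹ᵁ V).ι.opensFunctor ≅ V.ι.opensFunctor ⋙ Opens.map f.base :=
  NatIso.ofComponents (fun U => eqToIso (image_morphismRestrict_preimage f V U)) (fun _ => rfl)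

set_option backward.isDefEq.respectTransparency false in
/-- `f_* ⋙ (-)|_V ≅ (-)|_{f⁻¹V} ⋙ (f|_V)_*`. -/
noncomputable def restrictPushIso :
    Scheme.Modules.pushforward f ⋙ Scheme.Modules.restrictFunctor V.ι ≅
      Scheme.Modules.restrictFunctor (f ⁻¹ᵁ V).ι ⋙ Scheme.Modules.pushforward (f ∣_ V) := by
  letI i1 := CategoryTheory.Functor.isContinuous_comp.{u} V.ι.opensFunctor (Opens.map f.base)
    (Opens.grothendieckTopology V.toScheme) (Opens.grothendieckTopology S) (Opens.grothendieckTopology X)
  letI i2 := CategoryTheory.Functor.isContinuous_comp.{u} (Opens.map (f ∣_ V).base)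
    (f ⁻¹ᵁ V).ι.opensFunctor (Opens.grothendieckTopology V.toScheme)
    (Opens.grothendieckTopology (f ⁻¹ᵁ V).toScheme) (Opens.grothendieckTopology X)
  refine (SheafOfModules.pushforwardComp _ _) ≪≫ ?_ ≪≫ (SheafOfModules.pushforwardComp _ _).symm
  refine SheafOfModules.pushforwardCongr₂ _ (opensIso f V) ?_
  ext U x
  have key : (V.ι.appIso U.unop).inv ≫ f.app (V.ι ''ᵁ U.unop) ≫
      X.presheaf.map (eqToHom (image_morphismRestrict_preimage f V U.unop)).op =
      (f ∣_ V).app U.unop ≫ ((f ⁻¹ᵁ V).ι.appIso ((f ∣_ V) ⁻¹ᵁ U.unop)).inv := by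
    rw [morphismRestrict_app]
    simp only [Scheme.Opens.ι_appIso, Iso.refl_inv]
    erw [Category.id_comp]
  exact congr($key x)

/-- restriction to an open subscheme preserves flasqueness. -/
theorem isFlasque_toAb_restrict {Y U : Scheme.{u}} (j : U ⟶ Y) [IsOpenImmersion j] (M : Y.Modules)
    (hM : TopCat.Sheaf.IsFlasque (Coh.toAb M)) :
    TopCat.Sheaf.IsFlasque (Coh.toAb (M.restrict j)) := by
  constructor
  intro A B i
  exact hM.epi (j.opensFunctor.map i.unop).op

section Main

variable [HasInjectiveResolutions X.Modules] [HasInjectiveResolutions (f ⁻¹ᵁ V).toScheme.Modules]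

/-- `(R^p f_* M)|_V ≅ R^p (f|_V)_* (M|_{f⁻¹V})`. -/
theorem nonempty_Rpush_restrict_iso (M : X.Modules) (p : ℕ) :
    Nonempty (((Coh.Rpush f p).obj M).restrict V.ι ≅
      (Coh.Rpush (f ∣_ V) p).obj (M.restrict (f ⁻¹ᵁ V).ι)) := by
  have := Groth.Agent.S0484.result (Opens.grothendieckTopology X) X.ringCatSheaf
  have := Groth.Agent.S0484.result (Opens.grothendieckTopology (f ⁻¹ᵁ V).toScheme)
    (f ⁻¹ᵁ V).toScheme.ringCatSheaf
  have : EnoughInjectives X.Modules :=
    inferInstanceAs (EnoughInjectives (SheafOfModules.{u} X.ringCatSheaf))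
  have : EnoughInjectives (f ⁻¹ᵁ V).toScheme.Modules :=
    inferInstanceAs (EnoughInjectives (SheafOfModules.{u} (f ⁻¹ᵁ V).toScheme.ringCatSheaf))
  haveI := Groth.Agent.Lib.Helper23.QCohLocal.restrictFunctor_isRightAdjoint V.ι
  haveI := Groth.Agent.Lib.Helper23.QCohLocal.restrictFunctor_isRightAdjoint (f ⁻¹ᵁ V).ι
  let E := Scheme.Modules.restrictFunctor (f ⁻¹ᵁ V).ι
  let G := Scheme.Modules.pushforward (f ∣_ V)
  let P := Scheme.Modules.pushforward f
  let R := Scheme.Modules.restrictFunctor V.ι
  haveI : PreservesFiniteLimits E := by infer_instance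
  haveI : PreservesFiniteColimits E := by infer_instance
  haveI : E.PreservesHomology := by infer_instance
  haveI : PreservesFiniteLimits R := by infer_instance
  haveI : PreservesFiniteColimits R := by infer_instance
  haveI : R.PreservesHomology := by infer_instance
  haveI : PreservesFiniteLimits G := by infer_instance
  have hE : ∀ I : X.Modules, Injective I → ∀ q : ℕ, 0 < q →
      IsZero ((G.rightDerived q).obj (E.obj I)) := by
    intro I hI q hq
    obtain ⟨q, rfl⟩ : ∃ k, q = k + 1 := ⟨q - 1, by omega⟩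
    exact Groth.Agent.Lib.Helper21.RelExtSS.isZero_Rpush_of_isFlasque (f ∣_ V) _
      (isFlasque_toAb_restrict (f ⁻¹ᵁ V).ι I
        (Groth.Agent.Lib.R2H3.ModLocBridge.isFlasque_toAb_of_injective I)) q
  obtain ⟨e3⟩ := Groth.Agent.Lib.Helper21.DerAcyc.nonempty_rightDerived_comp_iso E G hE M p
  let e1 := (Groth.Agent.Lib.Helper21.DerPost.postIso P R p).app M
  let e2 := (Groth.Agent.Lib.Helper21.DerPost.natIsoRightDerived (restrictPushIso f V) p).app M
  exact ⟨e1.symm ≪≫ e2 ≪≫ e3⟩

end Main

end Groth.Agent.Lib.R2H3.RpushRestrict
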