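import Mathlib
import Groth.Agent.Lib.H6xMVF
import Groth.Agent.Lib.R2H3RpushRestrict
set_option backward.isDefEq.respectTransparency.types false

/-!
# `(Rf_* E)|_V ≅ R(f|_V)_* (E|_{f⁻¹V})` as an isomorphism of functors (helper6)
-/

set_option autoImplicit false
set_option linter.style.haveILetI false
universe u
open CategoryTheory CategoryTheory.Limits AlgebraicGeometry TopologicalSpace Opposite

attribute [local instance] HasDerivedCategory.standard

namespace Groth.Agent.Lib.H6xRpushRes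

open Groth.Agent.Lib.Helper17.KInj Groth.Agent.Lib.H6xMV

section unit

variable {X Y : Scheme.{u}} (f : X ⟶ Y) [DCoh.HasRpush f]

/-- the unit of `Rf_*` at the level of complexes -/
noncomputable def βf : (Scheme.Modules.pushforward f).mapHomologicalComplex (ComplexShape.up ℤ) ⋙
    DerivedCategory.Q ⟶ DerivedCategory.Q ⋙ DCoh.Rpush f :=
  unitOfK (Scheme.Modules.pushforward f) (DCoh.Rpush f)
    ((DCoh.pushKh f).totalRightDerivedUnit DerivedCategory.Qh
      (HomotopyCategory.quasiIso X.Modules (ComplexShape.up ℤ)))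

instance : (DCoh.Rpush f).IsRightDerivedFunctor (βf f)
    (HomologicalComplex.quasiIso X.Modules (ComplexShape.up ℤ)) := by
  unfold βf
  infer_instance

end unit

section main

variable {X Y : Scheme.{u}} (f : X ⟶ Y) (V : Y.Opens)
  [DCoh.HasRpush f] [DCoh.HasRpush (f ∣_ V)]
  [PreservesFiniteLimits (Scheme.Modules.restrictFunctor V.ι)]
  [PreservesFiniteLimits (Scheme.Modules.restrictFunctor (f ⁻¹ᵁ V).ι)]

lemma rdf₁ : (DCoh.Rpush f ⋙ DCoh.restrictD V.ι).IsRightDerivedFunctor
    (Functor.whiskerRight (βf f) (DCoh.restrictD V.ι) ≫ (Functor.associator _ _ _).hom)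
    (HomologicalComplex.quasiIso X.Modules (ComplexShape.up ℤ)) := by
  refine (fibLocalizerMorphism_derives _ (isInvertedBy_comp
    (isInvertedBy_mapHomologicalComplex_comp_Q (Scheme.Modules.pushforward f))
    (DCoh.restrictD V.ι))).isRightDerivedFunctor_of_isIso _ (fun I => ?_)
  haveI := isIso_app_of_fibrant'.{u} (Scheme.Modules.pushforward f) (DCoh.Rpush f) (βf f)
    I.obj I.property
  dsimp
  rw [Category.comp_id]
  change IsIso ((DCoh.restrictD V.ι).map ((βf f).app I.obj))
  infer_instance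

/-- the functor whose right derived functor is `restrictD ⋙ R(f|_V)_*` -/
noncomputable abbrev F₂ : CochainComplex X.Modules ℤ ⥤ DCoh.D (V : Scheme.{u}) :=
  (Scheme.Modules.restrictFunctor (f ⁻¹ᵁ V).ι).mapHomologicalComplex (ComplexShape.up ℤ) ⋙
    ((Scheme.Modules.pushforward (f ∣_ V)).mapHomologicalComplex (ComplexShape.up ℤ) ⋙
      DerivedCategory.Q)

/-- the unit for `restrictD ⋙ R(f|_V)_*` -/
noncomputable def α₂ : F₂ f V ⟶
    DerivedCategory.Q ⋙ (DCoh.restrictD (f ⁻¹ᵁ V).ι ⋙ DCoh.Rpush (f ∣_ V)) :=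
  Functor.whiskerLeft _ (βf (f ∣_ V)) ≫ (Functor.associator _ _ _).inv ≫
    Functor.whiskerRight
      (Scheme.Modules.restrictFunctor (f ⁻¹ᵁ V).ι).mapDerivedCategoryFactors.inv
      (DCoh.Rpush (f ∣_ V)) ≫ (Functor.associator _ _ _).hom

lemma isInvertedBy_F₂ :
    (HomologicalComplex.homotopyEquivalences X.Modules (ComplexShape.up ℤ)).IsInvertedBy
      (F₂ f V) := by
  rintro K L g ⟨e, rfl⟩
  have h1 : HomologicalComplex.homotopyEquivalences _ (ComplexShape.up ℤ)
      (((Scheme.Modules.restrictFunctor (f ⁻¹ᵁ V).ι).mapHomologicalComplex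
        (ComplexShape.up ℤ)).map e.hom) :=
    ⟨(Scheme.Modules.restrictFunctor (f ⁻¹ᵁ V).ι).mapHomotopyEquiv e, rfl⟩
  exact isInvertedBy_mapHomologicalComplex_comp_Q.{u}
    (Scheme.Modules.pushforward (f ∣_ V)) _ h1

lemma rdf₂ : (DCoh.restrictD (f ⁻¹ᵁ V).ι ⋙ DCoh.Rpush (f ∣_ V)).IsRightDerivedFunctor
    (α₂ f V) (HomologicalComplex.quasiIso X.Modules (ComplexShape.up ℤ)) := by
  refine (fibLocalizerMorphism_derives _
    (isInvertedBy_F₂ f V)).isRightDerivedFunctor_of_isIso _ (fun I => ?_)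
  haveI := I.property.isKInjective
  haveI := isKInjective_restrict (f ⁻¹ᵁ V).ι I.obj
  haveI := isIso_app_of_isKInjective.{u} (Scheme.Modules.pushforward (f ∣_ V))
    (DCoh.Rpush (f ∣_ V)) (βf (f ∣_ V))
    (((Scheme.Modules.restrictFunctor (f ⁻¹ᵁ V).ι).mapHomologicalComplex
      (ComplexShape.up ℤ)).obj I.obj)
  dsimp [α₂]
  simp only [Category.comp_id, Category.id_comp]
  refine @IsIso.comp_isIso _ _ _ _ _ _ _ ?_ ?_
  · exact this
  · infer_instance

/-- base change for complexes -/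
noncomputable def θ :
    (Scheme.Modules.pushforward f).mapHomologicalComplex (ComplexShape.up ℤ) ⋙
      (Scheme.Modules.restrictFunctor V.ι).mapHomologicalComplex (ComplexShape.up ℤ) ≅
    (Scheme.Modules.restrictFunctor (f ⁻¹ᵁ V).ι).mapHomologicalComplex (ComplexShape.up ℤ) ⋙
      (Scheme.Modules.pushforward (f ∣_ V)).mapHomologicalComplex (ComplexShape.up ℤ) :=
  NatIso.ofComponents (fun K =>
    (NatIso.mapHomologicalComplex (Groth.Agent.Lib.R2H3.RpushRestrict.restrictPushIso f V)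
      (ComplexShape.up ℤ)).app K)
    (fun {K L} g => (NatIso.mapHomologicalComplex
      (Groth.Agent.Lib.R2H3.RpushRestrict.restrictPushIso f V)
      (ComplexShape.up ℤ)).hom.naturality g)

/-- the comparison of the two underived functors -/
noncomputable def τ : ((Scheme.Modules.pushforward f).mapHomologicalComplex (ComplexShape.up ℤ) ⋙
      DerivedCategory.Q) ⋙ DCoh.restrictD V.ι ≅ F₂ f V :=
  Functor.associator _ _ _ ≪≫
    Functor.isoWhiskerLeft _ (Scheme.Modules.restrictFunctor V.ι).mapDerivedCategoryFactors ≪≫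
    (Functor.associator _ _ _).symm ≪≫
    Functor.isoWhiskerRight (θ f V) DerivedCategory.Q ≪≫
    Functor.associator _ _ _

theorem nonempty_iso :
    Nonempty (DCoh.Rpush f ⋙ DCoh.restrictD V.ι ≅
      DCoh.restrictD (f ⁻¹ᵁ V).ι ⋙ DCoh.Rpush (f ∣_ V)) := by
  haveI := rdf₁ f V
  haveI := rdf₂ f V
  exact ⟨Functor.rightDerivedNatIso _ _
    (Functor.whiskerRight (βf f) (DCoh.restrictD V.ι) ≫ (Functor.associator _ _ _).hom)
    (α₂ f V) (HomologicalComplex.quasiIso X.Modules (ComplexShape.up ℤ)) (τ f V)⟩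

end main

end Groth.Agent.Lib.H6xRpushRes
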