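import Mathlib
import Groth.Agent.Lib.H6xDerAdjA
import Groth.Agent.Lib.H6xRpushRes
import Groth.Agent.Lib.Helper1Sky11
import Groth.Agent.Lib.Helper17SerreLoc1
set_option backward.isDefEq.respectTransparency.types false

/-!
# The derived adjunction `Lf^* ⊣ Rf_*` on `D(O_X)` (helper6)
-/

set_option autoImplicit false
set_option linter.style.haveILetI false
universe u
open CategoryTheory CategoryTheory.Limits AlgebraicGeometry

attribute [local instance] HasDerivedCategory.standard

namespace Groth.Agent.Lib.H6xDerAdj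

open Groth.Agent.Lib.Helper17.KInj Groth.Agent.Lib.H6xMV Groth.Agent.Lib.H6xRpushRes
  Groth.Agent.Lib.Helper1.Sky Groth.Agent.Lib.Helper1.BKF

variable {X Y : Scheme.{u}} (f : X ⟶ Y)

/-- termwise pushforward -/
noncomputable abbrev pushC : CochainComplex X.Modules ℤ ⥤ CochainComplex Y.Modules ℤ :=
  (Scheme.Modules.pushforward f).mapHomologicalComplex (ComplexShape.up ℤ)

/-- the adjunction on complexes -/
noncomputable def adjC : pullC f ⊣ pushC f :=
  Groth.Agent.Lib.Helper17.SerreLoc.adjHC (Scheme.Modules.pullbackPushforwardAdjunction f) _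

section left

variable [DCoh.HasLpull f] {E : Type*} [Category E] (H' : DCoh.D X ⥤ E)

/-- `Lf^*` is an absolute left derived functor -/
lemma isLeftDerivedFunctor_lpull_comp :
    (DCoh.Lpull f ⋙ H').IsLeftDerivedFunctor
      ((Functor.associator _ _ _).inv ≫ Functor.whiskerRight (lpullNat f) H')
      (HomologicalComplex.quasiIso Y.Modules (ComplexShape.up ℤ)) := by
  obtain ⟨R, ψ, hR⟩ : ∃ (R : CochainComplex Y.Modules ℤ ⥤ CochainComplex Y.Modules ℤ)
      (ψ : R ⟶ 𝟭 (CochainComplex Y.Modules ℤ)),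
      ∀ G : CochainComplex Y.Modules ℤ, ModSite.IsKFlat (O := Y.sheaf) (R.obj G) ∧
        (∀ n : ℤ, ModSite.IsFlat (O := Y.sheaf) ((R.obj G).X n)) ∧ QuasiIso (ψ.app G) ∧
        ∀ n : ℤ, Epi ((ψ.app G).f n) := exists_functorial_kflat_flat_resolution Y.sheaf
  refine isLeftDerivedFunctor_of_resolution _ _ _ _ _ R ψ (fun G => (hR G).2.2.1) (fun G => ?_)
  haveI := isIso_lpullNat_app f (R.obj G) ⟨(hR G).1, (hR G).2.1⟩
  dsimp
  rw [Category.id_comp]
  infer_instance

instance isLeftDerivedFunctor_lpullNat :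
    (DCoh.Lpull f).IsLeftDerivedFunctor (lpullNat f)
      (HomologicalComplex.quasiIso Y.Modules (ComplexShape.up ℤ)) := by
  obtain ⟨R, ψ, hR⟩ : ∃ (R : CochainComplex Y.Modules ℤ ⥤ CochainComplex Y.Modules ℤ)
      (ψ : R ⟶ 𝟭 (CochainComplex Y.Modules ℤ)),
      ∀ G : CochainComplex Y.Modules ℤ, ModSite.IsKFlat (O := Y.sheaf) (R.obj G) ∧
        (∀ n : ℤ, ModSite.IsFlat (O := Y.sheaf) ((R.obj G).X n)) ∧ QuasiIso (ψ.app G) ∧
        ∀ n : ℤ, Epi ((ψ.app G).f n) := exists_functorial_kflat_flat_resolution Y.sheaf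
  exact isLeftDerivedFunctor_of_resolution _ _ _ _ _ R ψ (fun G => (hR G).2.2.1)
    (fun G => isIso_lpullNat_app f (R.obj G) ⟨(hR G).1, (hR G).2.1⟩)

end left

section right

variable [DCoh.HasRpush f] {E : Type*} [Category E] (H' : DCoh.D Y ⥤ E)

/-- `Rf_*` is an absolute right derived functor -/
lemma isRightDerivedFunctor_rpush_comp :
    (DCoh.Rpush f ⋙ H').IsRightDerivedFunctor
      (Functor.whiskerRight (βf f) H' ≫ (Functor.associator _ _ _).hom)
      (HomologicalComplex.quasiIso X.Modules (ComplexShape.up ℤ)) := by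
  refine (fibLocalizerMorphism_derives _ (isInvertedBy_comp
    (isInvertedBy_mapHomologicalComplex_comp_Q (Scheme.Modules.pushforward f))
    H')).isRightDerivedFunctor_of_isIso _ (fun I => ?_)
  haveI := isIso_app_of_fibrant'.{u} (Scheme.Modules.pushforward f) (DCoh.Rpush f) (βf f)
    I.obj I.property
  dsimp
  rw [Category.comp_id]
  change IsIso (H'.map ((βf f).app I.obj))
  infer_instance

end right

variable [DCoh.HasLpull f] [DCoh.HasRpush f]

/-- **the derived adjunction `Lf^* ⊣ Rf_*`** -/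
noncomputable def derAdjLR : DCoh.Lpull f ⊣ DCoh.Rpush f :=
  haveI := isLeftDerivedFunctor_lpull_comp f (DCoh.Rpush f)
  haveI := isRightDerivedFunctor_rpush_comp f (DCoh.Lpull f)
  (adjC f).derived (HomologicalComplex.quasiIso Y.Modules (ComplexShape.up ℤ))
    (HomologicalComplex.quasiIso X.Modules (ComplexShape.up ℤ)) (lpullNat f) (βf f)

end Groth.Agent.Lib.H6xDerAdj
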