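import Mathlib
import Groth.Agent.Lib.Helper17KInjD5
set_option backward.isDefEq.respectTransparency.types false

/-!
# Existence of unbounded total right derived functors (helper6)

For an additive functor `G : B ⥤ A` out of a Grothendieck abelian category, the functor
`K(B) ⥤ D(A)` induced by `G` has a right derived functor with respect to quasi-isomorphisms
(K-injective resolutions exist).  This discharges binders such as `DCoh.HasRpush f`, `DCoh.HasRΓ X`.
-/

set_option autoImplicit false
set_option linter.style.haveILetI false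
universe w w₁ w₂ v v' u u'
open CategoryTheory CategoryTheory.Limits

namespace Groth.Agent.Lib.H6xHasRD

open Groth.Agent.Lib.Helper17.KInj

variable {A : Type u} [Category.{v} A] [Abelian A] {B : Type u'} [Category.{v'} B] [Abelian B]
  [IsGrothendieckAbelian.{w} B] [HasDerivedCategory.{w₁} A] [HasDerivedCategory.{w₂} B]
  (G : B ⥤ A) [G.Additive]

theorem hasRightDerivedFunctor :
    (G.mapHomotopyCategory (ComplexShape.up ℤ) ⋙ DerivedCategory.Qh).HasRightDerivedFunctor
      (HomotopyCategory.quasiIso B (ComplexShape.up ℤ)) := by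
  have hder : (fibLocalizerMorphism B).Derives
      (G.mapHomologicalComplex (ComplexShape.up ℤ) ⋙
        (DerivedCategory.Q : _ ⥤ DerivedCategory A)) :=
    fibLocalizerMorphism_derives _ (isInvertedBy_mapHomologicalComplex_comp_Q G)
  haveI := hder.hasPointwiseRightDerivedFunctor
  obtain ⟨RG, β, hβ⟩ : ∃ (RG : DerivedCategory B ⥤ DerivedCategory A)
      (β : G.mapHomologicalComplex (ComplexShape.up ℤ) ⋙ DerivedCategory.Q ⟶
        DerivedCategory.Q ⋙ RG),
      RG.IsRightDerivedFunctor β (HomologicalComplex.quasiIso B (ComplexShape.up ℤ)) :=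
    ⟨_, (G.mapHomologicalComplex (ComplexShape.up ℤ) ⋙
      (DerivedCategory.Q : _ ⥤ DerivedCategory A)).totalRightDerivedUnit
        DerivedCategory.Q (HomologicalComplex.quasiIso B (ComplexShape.up ℤ)), inferInstance⟩
  -- the Kan extension along `Q` with source `quotient ⋙ (G_K ⋙ Qh)`
  have h3 : RG.IsLeftKanExtension ((isoF₀ G).hom ≫ β) :=
    (Functor.isLeftKanExtension_iff_of_iso₂ ((isoF₀ G).hom ≫ β) β (isoF₀ G)
      (Iso.refl RG) (by simp)).2
      (Functor.IsRightDerivedFunctor.isLeftKanExtension RG β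
        (HomologicalComplex.quasiIso B (ComplexShape.up ℤ)))
  haveI h1 : (G.mapHomotopyCategory (ComplexShape.up ℤ) ⋙
      DerivedCategory.Qh (C := A)).IsLeftKanExtension
      (𝟙 (HomotopyCategory.quotient B (ComplexShape.up ℤ) ⋙
        (G.mapHomotopyCategory (ComplexShape.up ℤ) ⋙ DerivedCategory.Qh))) :=
    (Functor.isRightDerivedFunctor_of_inverts
      (HomologicalComplex.homotopyEquivalences B (ComplexShape.up ℤ))
      (G.mapHomotopyCategory (ComplexShape.up ℤ) ⋙ DerivedCategory.Qh (C := A))
      (Iso.refl _)).isLeftKanExtension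
  -- descend the unit along the quotient functor
  let γ' : HomotopyCategory.quotient B (ComplexShape.up ℤ) ⋙
      (G.mapHomotopyCategory (ComplexShape.up ℤ) ⋙ DerivedCategory.Qh) ⟶
      HomotopyCategory.quotient B (ComplexShape.up ℤ) ⋙ (DerivedCategory.Qh ⋙ RG) :=
    ((isoF₀ G).hom ≫ β) ≫ Functor.whiskerRight (DerivedCategory.quotientCompQhIso B).inv RG ≫
      (Functor.associator _ _ _).hom
  let βK : G.mapHomotopyCategory (ComplexShape.up ℤ) ⋙ DerivedCategory.Qh ⟶
      DerivedCategory.Qh ⋙ RG :=
    (G.mapHomotopyCategory (ComplexShape.up ℤ) ⋙ DerivedCategory.Qh).descOfIsLeftKanExtension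
      (𝟙 _) (DerivedCategory.Qh ⋙ RG) γ'
  have hfac : 𝟙 _ ≫ Functor.whiskerLeft (HomotopyCategory.quotient B (ComplexShape.up ℤ)) βK = γ' :=
    Functor.descOfIsLeftKanExtension_fac _ _ _ _
  have h2 : RG.IsLeftKanExtension βK :=
    (Functor.isLeftKanExtension_iff_postcompose
      (𝟙 (HomotopyCategory.quotient B (ComplexShape.up ℤ) ⋙
        (G.mapHomotopyCategory (ComplexShape.up ℤ) ⋙ DerivedCategory.Qh)))
      (L' := DerivedCategory.Qh) (L'' := DerivedCategory.Q)
      (DerivedCategory.quotientCompQhIso B) βK ((isoF₀ G).hom ≫ β) (by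
        rw [← Category.assoc, hfac]
        ext K
        simp [γ'])).2 h3
  haveI := h2
  rw [Functor.hasRightDerivedFunctor_iff _ DerivedCategory.Qh]
  exact Functor.HasLeftKanExtension.mk RG βK

end Groth.Agent.Lib.H6xHasRD
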