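import Mathlib
import Groth.Agent.Lib.H6xMVF
import Groth.Agent.Lib.H6xHasRD
set_option backward.isDefEq.respectTransparency.types false

/-!
# Complexes supported on a closed subset of an open: `E ≅ Rj_*(E|_U)` and `j_! F ≅ Rj_* F` (helper6)
-/

set_option autoImplicit false
set_option linter.style.haveILetI false
universe u
open CategoryTheory CategoryTheory.Limits AlgebraicGeometry TopologicalSpace Opposite ZeroObject

attribute [local instance] HasDerivedCategory.standard

namespace Groth.Agent.Lib.H6xSuppPush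

open Groth.Agent.Lib.H6xMV Groth.Agent.Lib.Helper1.Sky Groth.Agent.Lib.Helper1.KBC
  Groth.Agent.Lib.Helper1.StalkTensor

section general

variable {C : Type*} [Category C] [Abelian C] [HasDerivedCategory C]

lemma isZero_Q_obj_of_acyc (K : CochainComplex C ℤ) (h : ∀ n, IsZero (K.homology n)) :
    IsZero (DerivedCategory.Q.obj K) := by
  have hq : QuasiIso (0 : K ⟶ 0) := by
    rw [quasiIso_iff]
    intro i
    rw [quasiIsoAt_iff_exactAt _ _ ((HomologicalComplex.exactAt_iff_isZero_homology _ _).2 (h i)),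
      HomologicalComplex.exactAt_iff_isZero_homology]
    exact (HomologicalComplex.homologyFunctor C (ComplexShape.up ℤ) i).map_isZero (isZero_zero _)
  haveI : IsIso (DerivedCategory.Q.map (0 : K ⟶ 0)) := by
    rw [DerivedCategory.isIso_Q_map_iff_quasiIso]; exact hq
  exact IsZero.of_iso (DerivedCategory.Q.map_isZero (isZero_zero _))
    (asIso (DerivedCategory.Q.map (0 : K ⟶ 0)))

instance isKInjective_zero : (0 : CochainComplex C ℤ).IsKInjective where
  nonempty_homotopy_zero f _ := ⟨Homotopy.ofEq ((isZero_zero _).eq_of_tgt _ _)⟩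

lemma isIso_biprod_fst {D : Type*} [Category D] [Preadditive D] [HasBinaryBiproducts D]
    (A Z : D) (hZ : IsZero Z) : IsIso (biprod.fst : A ⊞ Z ⟶ A) := by
  refine ⟨biprod.inl, ?_, biprod.inl_fst⟩
  apply biprod.hom_ext
  · simp
  · exact hZ.eq_of_tgt _ _

end general

section support

variable {X : Scheme.{u}}

lemma support_eq_of_iso {M N : X.Modules} (e : M ≅ N) : CohB1.support M = CohB1.support N := by
  ext x
  have e' := (Scheme.Modules.toPresheaf X ⋙ TopCat.Presheaf.stalkFunctor _ x).mapIso e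
  have eq : (M.presheaf.stalk x) ≃ (N.presheaf.stalk x) :=
    e'.addCommGroupIsoToAddEquiv.toEquiv
  change ¬ Subsingleton _ ↔ ¬ Subsingleton _
  rw [not_iff_not]
  exact ⟨fun _ => eq.symm.subsingleton, fun _ => eq.subsingleton⟩

variable {W : Scheme.{u}} (j : W ⟶ X) [IsOpenImmersion j]

lemma isZero_restrict_of_support (M : X.Modules) (h : ∀ y : W, j.base y ∉ CohB1.support M) :
    IsZero ((Scheme.Modules.restrictFunctor j).obj M) := by
  apply isZero_of_forall_isZero_stalk
  intro y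
  have e' := (Scheme.Modules.restrictStalkNatIso j y).app M
  have eq : (((Scheme.Modules.restrictFunctor j).obj M).presheaf.stalk y) ≃
      (M.presheaf.stalk (j.base y)) := e'.addCommGroupIsoToAddEquiv.toEquiv
  have hs : Subsingleton (M.presheaf.stalk (j.base y)) := not_not.1 (h y)
  haveI : Subsingleton ((stalkFun y).obj ((Scheme.Modules.restrictFunctor j).obj M)) :=
    eq.subsingleton
  exact ModuleCat.isZero_of_subsingleton _

end support

section zero

variable {W X : Scheme.{u}} (j : W ⟶ X) [IsOpenImmersion j]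

lemma isZero_restrictD [PreservesFiniteLimits (Scheme.Modules.restrictFunctor j)]
    (T : Set X) (hj : ∀ y : W, j.base y ∉ T) (E : DCoh.D X)
    (hE : ∀ i : ℤ, CohB1.support (DCoh.HD E i) ⊆ T) : IsZero ((DCoh.restrictD j).obj E) := by
  obtain ⟨K, ⟨eK⟩⟩ : ∃ K : CochainComplex X.Modules ℤ, Nonempty (DerivedCategory.Q.obj K ≅ E) :=
    ⟨_, ⟨DerivedCategory.Q.objObjPreimageIso E⟩⟩
  have e1 : (DCoh.restrictD j).obj E ≅ DerivedCategory.Q.obj
      (((Scheme.Modules.restrictFunctor j).mapHomologicalComplex (ComplexShape.up ℤ)).obj K) :=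
    (DCoh.restrictD j).mapIso eK.symm ≪≫
      (Scheme.Modules.restrictFunctor j).mapDerivedCategoryFactors.app K
  refine IsZero.of_iso (isZero_Q_obj_of_acyc _ (fun n => ?_)) e1
  have e2 := (K.sc n).mapHomologyIso (Scheme.Modules.restrictFunctor j)
  refine IsZero.of_iso ?_ e2
  apply isZero_restrict_of_support
  intro y hy
  have e3 : K.homology n ≅ DCoh.HD E n :=
    ((DerivedCategory.homologyFunctorFactors X.Modules n).app K).symm ≪≫
      (DerivedCategory.homologyFunctor _ n).mapIso eK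
  have hy' : j.base y ∈ CohB1.support (K.homology n) := hy
  rw [support_eq_of_iso e3] at hy'
  exact hj y (hE n hy')

lemma isZero_Rpush {Y : Scheme.{u}} (f : W ⟶ Y) [DCoh.HasRpush f] (Z : DCoh.D W) (hZ : IsZero Z) :
    IsZero ((DCoh.Rpush f).obj Z) := by
  have e0 : Z ≅ DerivedCategory.Q.obj (0 : CochainComplex W.Modules ℤ) :=
    hZ.iso (DerivedCategory.Q.map_isZero (isZero_zero _))
  have e1 := rdIso (Scheme.Modules.pushforward f) (0 : CochainComplex W.Modules ℤ)
  refine IsZero.of_iso ?_ ((DCoh.Rpush f).mapIso e0 ≪≫ e1.symm)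
  exact DerivedCategory.Q.map_isZero
    (((Scheme.Modules.pushforward f).mapHomologicalComplex (ComplexShape.up ℤ)).map_isZero
      (isZero_zero _))

end zero

section part1

open Pretriangulated

instance hasRpush {X Y : Scheme.{u}} (f : X ⟶ Y) : DCoh.HasRpush f :=
  Groth.Agent.Lib.H6xHasRD.hasRightDerivedFunctor.{u} (Scheme.Modules.pushforward f)

variable {X : Scheme.{u}} (U : X.Opens) [hU : DCoh.HasRpush U.ι]

theorem part1 (T : Set X) (hT : IsClosed T) (hTU : T ⊆ (U : Set X)) (E : DCoh.D X)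
    (hE : ∀ i : ℤ, CohB1.support (DCoh.HD E i) ⊆ T) :
    Nonempty (E ≅ (DCoh.Rpush U.ι).obj ((DCoh.restrictD U.ι).obj E)) := by
  let V : X.Opens := ⟨Tᶜ, hT.isOpen_compl⟩
  have hcov : Set.range U.ι.base ∪ Set.range V.ι.base = Set.univ := by
    rw [Scheme.Opens.range_ι, Scheme.Opens.range_ι]
    ext x
    simp only [Set.mem_union, Set.mem_univ, iff_true]
    by_cases hx : x ∈ T
    · exact Or.inl (hTU hx)
    · exact Or.inr hx
  have hint : Set.range (U ⊓ V).ι.base = Set.range U.ι.base ∩ Set.range V.ι.base := by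
    rw [Scheme.Opens.range_ι, Scheme.Opens.range_ι, Scheme.Opens.range_ι,
      TopologicalSpace.Opens.coe_inf]
  obtain ⟨a, b, c, hT'⟩ := exists_triangle_Rpush U.ι V.ι (U ⊓ V).ι
    (X.homOfLE inf_le_left) (X.homOfLE inf_le_right) (X.homOfLE_ι _) (X.homOfLE_ι _) hcov hint E
  have hV : ∀ y : (V : Scheme.{u}), V.ι.base y ∉ T := fun y hy => by
    have : V.ι.base y ∈ (V : Set X) := by
      rw [← Scheme.Opens.range_ι]; exact ⟨y, rfl⟩
    exact this hy
  have hUV : ∀ y : ((U ⊓ V : X.Opens) : Scheme.{u}), (U ⊓ V).ι.base y ∉ T := fun y hy => by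
    have : (U ⊓ V).ι.base y ∈ ((U ⊓ V : X.Opens) : Set X) := by
      rw [← Scheme.Opens.range_ι]; exact ⟨y, rfl⟩
    exact this.2 hy
  have h2 : IsZero ((DCoh.Rpush V.ι).obj ((DCoh.restrictD V.ι).obj E)) :=
    isZero_Rpush _ _ (isZero_restrictD V.ι T hV E hE)
  have h3 : IsZero ((DCoh.Rpush (U ⊓ V).ι).obj ((DCoh.restrictD (U ⊓ V).ι).obj E)) :=
    isZero_Rpush _ _ (isZero_restrictD (U ⊓ V).ι T hUV E hE)
  haveI : IsIso a := (Triangle.isZero₃_iff_isIso₁ _ hT').1 h3
  haveI := isIso_biprod_fst ((DCoh.Rpush U.ι).obj ((DCoh.restrictD U.ι).obj E)) _ h2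
  exact ⟨asIso a ≪≫ asIso biprod.fst⟩

end part1

section part2

variable {W X : Scheme.{u}} (j : W ⟶ X) [IsOpenImmersion j]

lemma support_extZero (M : W.Modules) :
    CohB1.support ((CxOX.extZero j).obj M) ⊆ (fun y : W => j.base y) '' CohB1.support M := by
  intro x hx
  by_cases hxr : x ∈ Set.range j.base
  · obtain ⟨y, rfl⟩ := hxr
    refine ⟨y, ?_, rfl⟩
    intro hs
    apply hx
    have e1 := (Scheme.Modules.toPresheaf W ⋙ TopCat.Presheaf.stalkFunctor _ y).mapIso
      (asIso ((CxOX.extZeroAdj j).unit.app M))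
    have eq1 : (M.presheaf.stalk y) ≃
        (((Scheme.Modules.restrictFunctor j).obj ((CxOX.extZero j).obj M)).presheaf.stalk y) :=
      e1.addCommGroupIsoToAddEquiv.toEquiv
    have e2 := (Scheme.Modules.restrictStalkNatIso j y).app ((CxOX.extZero j).obj M)
    have eq2 : (((Scheme.Modules.restrictFunctor j).obj ((CxOX.extZero j).obj M)).presheaf.stalk y) ≃
        (((CxOX.extZero j).obj M).presheaf.stalk (j.base y)) :=
      e2.addCommGroupIsoToAddEquiv.toEquiv
    exact (eq1.trans eq2).symm.subsingleton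
  · exfalso
    apply hx
    exact ModuleCat.subsingleton_of_isZero (isZero_stalk_extZero j x hxr M)

variable [PreservesFiniteLimits (CxOX.extZero j)]
  [PreservesFiniteLimits (Scheme.Modules.restrictFunctor j)]

/-- `(j_! F)|_U ≅ F` in the derived category -/
lemma nonempty_restrictD_extZeroD_iso (F : DCoh.D W) :
    Nonempty ((DCoh.restrictD j).obj ((CxOX.extZeroD j).obj F) ≅ F) := by
  obtain ⟨K, ⟨eK⟩⟩ : ∃ K : CochainComplex W.Modules ℤ, Nonempty (DerivedCategory.Q.obj K ≅ F) :=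
    ⟨_, ⟨DerivedCategory.Q.objObjPreimageIso F⟩⟩
  have e1 := (compFactorsIso (CxOX.extZero j) (Scheme.Modules.restrictFunctor j) K).symm
  have e2 : ((CxOX.extZero j ⋙ Scheme.Modules.restrictFunctor j).mapHomologicalComplex
      (ComplexShape.up ℤ)).obj K ≅ K :=
    (HomologicalComplex.Hom.isoOfComponents (C₁ := K)
      (C₂ := ((CxOX.extZero j ⋙ Scheme.Modules.restrictFunctor j).mapHomologicalComplex
      (ComplexShape.up ℤ)).obj K)
      (fun n => @asIso _ _ _ _ ((CxOX.extZeroAdj j).unit.app (K.X n))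
        (NatIso.isIso_app_of_isIso (CxOX.extZeroAdj j).unit (K.X n)))
      (fun a b _ => ((CxOX.extZeroAdj j).unit.naturality (K.d a b)).symm)).symm
  exact ⟨(DCoh.restrictD j).mapIso ((CxOX.extZeroD j).mapIso eK.symm) ≪≫ e1 ≪≫
    DerivedCategory.Q.mapIso e2 ≪≫ eK⟩

/-- cohomology sheaves of `j_! F` -/
lemma nonempty_HD_extZeroD_iso (F : DCoh.D W) (i : ℤ) :
    Nonempty (DCoh.HD ((CxOX.extZeroD j).obj F) i ≅ (CxOX.extZero j).obj (DCoh.HD F i)) := by
  obtain ⟨K, ⟨eK⟩⟩ : ∃ K : CochainComplex W.Modules ℤ, Nonempty (DerivedCategory.Q.obj K ≅ F) :=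
    ⟨_, ⟨DerivedCategory.Q.objObjPreimageIso F⟩⟩
  have e1 : (CxOX.extZeroD j).obj F ≅ DerivedCategory.Q.obj
      (((CxOX.extZero j).mapHomologicalComplex (ComplexShape.up ℤ)).obj K) :=
    (CxOX.extZeroD j).mapIso eK.symm ≪≫ (CxOX.extZero j).mapDerivedCategoryFactors.app K
  have e2 := (K.sc i).mapHomologyIso (CxOX.extZero j)
  have e3 : K.homology i ≅ DCoh.HD F i :=
    ((DerivedCategory.homologyFunctorFactors W.Modules i).app K).symm ≪≫
      (DerivedCategory.homologyFunctor _ i).mapIso eK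
  exact ⟨(DerivedCategory.homologyFunctor _ i).mapIso e1 ≪≫
    (DerivedCategory.homologyFunctorFactors X.Modules i).app _ ≪≫ e2 ≪≫
    (CxOX.extZero j).mapIso e3⟩

end part2

section part2'

variable {X : Scheme.{u}} (U : X.Opens) [hU : DCoh.HasRpush U.ι]
  [PreservesFiniteLimits (CxOX.extZero U.ι)]

theorem part2 (T : Set X) (hT : IsClosed T) (hTU : T ⊆ (U : Set X)) (F : DCoh.D (U : Scheme.{u}))
    (hF : ∀ i : ℤ, (fun x : (U : Scheme.{u}) => U.ι.base x) '' CohB1.support (DCoh.HD F i) ⊆ T) :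
    Nonempty ((CxOX.extZeroD U.ι).obj F ≅ (DCoh.Rpush U.ι).obj F) := by
  have hE : ∀ i : ℤ, CohB1.support (DCoh.HD ((CxOX.extZeroD U.ι).obj F) i) ⊆ T := by
    intro i
    obtain ⟨e⟩ := nonempty_HD_extZeroD_iso U.ι F i
    rw [support_eq_of_iso e]
    exact (support_extZero U.ι _).trans (hF i)
  obtain ⟨e1⟩ := part1 U T hT hTU _ hE
  obtain ⟨e2⟩ := nonempty_restrictD_extZeroD_iso U.ι F
  exact ⟨e1 ≪≫ (DCoh.Rpush U.ι).mapIso e2⟩

end part2'

end Groth.Agent.Lib.H6xSuppPush
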