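import Mathlib
import Groth.Agent.Lib.H6xDerAdjB
import Groth.Agent.Lib.H6xSuppPush
import Groth.Agent.Lib.H6xGamAcA
import Groth.Agent.Lib.H6xGamAcD
import Groth.Agent.Lib.Helper1BKF15
import Groth.Agent.Lib.Helper21ExtZero5
set_option backward.isDefEq.respectTransparency.types false

/-!
# `f_*` of a K-injective complex is acyclic for global sections (helper6)
-/

set_option autoImplicit false
set_option linter.style.haveILetI false
universe u
open CategoryTheory CategoryTheory.Limits AlgebraicGeometry TopologicalSpace Opposite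

attribute [local instance] HasDerivedCategory.standard

namespace Groth.Agent.Lib.H6xGamAc

open Groth.Agent.Lib.Helper17.KInj Groth.Agent.Lib.H6xMV Groth.Agent.Lib.H6xRpushRes
  Groth.Agent.Lib.Helper1.Sky Groth.Agent.Lib.Helper1.BKF Groth.Agent.Lib.H6xDerAdj

variable {X Y : Scheme.{u}} (f : X ⟶ Y)

lemma kffs_PO (n : ℤ) : KFFs (PO Y n) := by
  have hflat : ∀ k : ℤ, ModSite.IsFlat (O := Y.sheaf) ((PO Y n).X k) := by
    intro k
    by_cases hk : k = n
    · subst hk
      exact Groth.Agent.Lib.Helper21.ModTensor5.isFlat_of_iso (O := Y.sheaf)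
        (HomologicalComplex.singleObjXSelf (ComplexShape.up ℤ) k (OY Y)).symm
        (Groth.Agent.Lib.Helper21.ExtZeroS.isFlat_unit Y.sheaf)
    · exact isFlat_of_isZero (HomologicalComplex.isZero_single_obj_X _ _ _ _ hk)
  have hle : (PO Y n).IsStrictlyLE n := inferInstance
  exact ⟨isKFlat_of_bounded_above_flat (PO Y n) hflat n hle, hflat⟩

section

variable (B : CochainComplex X.Modules ℤ) [B.IsKInjective]

lemma isIso_βf_app : IsIso ((βf f).app B) :=
  isIso_app_of_isKInjective.{u} (Scheme.Modules.pushforward f) (DCoh.Rpush f) (βf f) B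

lemma Q_map_surjective_PO (n : ℤ)
    (φ : DerivedCategory.Q.obj (PO Y n) ⟶ DerivedCategory.Q.obj ((pushC f).obj B)) :
    ∃ ψ : PO Y n ⟶ (pushC f).obj B, DerivedCategory.Q.map ψ = φ := by
  haveI : DCoh.HasLpull f := hasLpull f
  haveI := isLeftDerivedFunctor_lpull_comp f (DCoh.Rpush f)
  haveI := isRightDerivedFunctor_rpush_comp f (DCoh.Lpull f)
  haveI := isIso_lpullNat_app f (PO Y n) (kffs_PO n)
  haveI := isIso_βf_app f B
  exact map_surjective (adjC f) (HomologicalComplex.quasiIso Y.Modules (ComplexShape.up ℤ))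
    (HomologicalComplex.quasiIso X.Modules (ComplexShape.up ℤ)) (lpullNat f) (βf f)
    (PO Y n) B (fun φ' => exists_Q_map_eq φ') φ

lemma homotopy_zero_of_Q_map_eq_zero (n : ℤ) (ψ : PO Y n ⟶ (pushC f).obj B)
    (h : DerivedCategory.Q.map ψ = 0) : Nonempty (Homotopy ψ 0) := by
  haveI : DCoh.HasLpull f := hasLpull f
  haveI := isLeftDerivedFunctor_lpull_comp f (DCoh.Rpush f)
  haveI := isRightDerivedFunctor_rpush_comp f (DCoh.Lpull f)
  haveI := isIso_lpullNat_app f (PO Y n) (kffs_PO n)
  have h1 := map_eq_of_map_eq (adjC f)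
    (HomologicalComplex.quasiIso Y.Modules (ComplexShape.up ℤ))
    (HomologicalComplex.quasiIso X.Modules (ComplexShape.up ℤ)) (lpullNat f) (βf f)
    (PO Y n) B ψ 0 (by rw [h, Functor.map_zero])
  obtain ⟨H⟩ := homotopy_of_Q_map_eq h1
  have e1 : ψ = (adjC f).unit.app (PO Y n) ≫
      (pushC f).map (((adjC f).homEquiv (PO Y n) B).symm ψ) := by
    have := (adjC f).homEquiv_unit (PO Y n) B (((adjC f).homEquiv (PO Y n) B).symm ψ)
    rw [Equiv.apply_symm_apply] at this
    exact this
  have e2 : (0 : PO Y n ⟶ (pushC f).obj B) = (adjC f).unit.app (PO Y n) ≫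
      (pushC f).map (((adjC f).homEquiv (PO Y n) B).symm 0) := by
    have := (adjC f).homEquiv_unit (PO Y n) B (((adjC f).homEquiv (PO Y n) B).symm 0)
    rw [Equiv.apply_symm_apply] at this
    exact this
  exact ⟨(Homotopy.ofEq e1).trans ((((Scheme.Modules.pushforward f).mapHomotopy H).compLeft
    ((adjC f).unit.app (PO Y n))).trans (Homotopy.ofEq e2.symm))⟩

/-- **`Γ(Y, -)` of a K-injective resolution of `f_* B` is a quasi-isomorphism** -/
theorem quasiIso_gamC_map_of_resolution {J : CochainComplex Y.Modules ℤ} [J.IsKInjective]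
    (q : (pushC f).obj B ⟶ J) [QuasiIso q] : QuasiIso ((gamC Y).map q) := by
  haveI : IsIso (DerivedCategory.Q.map q) := by
    rw [DerivedCategory.isIso_Q_map_iff_quasiIso]
    infer_instance
  apply quasiIso_gamC_map
  · intro n ζ
    obtain ⟨ψ, hψ⟩ := Q_map_surjective_PO f B n
      (DerivedCategory.Q.map ζ ≫ inv (DerivedCategory.Q.map q))
    refine ⟨ψ, homotopy_of_Q_map_eq ?_⟩
    rw [Functor.map_comp, hψ, Category.assoc, IsIso.inv_hom_id, Category.comp_id]
  · rintro n ψ ⟨H⟩
    apply homotopy_zero_of_Q_map_eq_zero f B n ψ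
    have h1 := DerivedCategory.Q_map_eq_of_homotopy _ H
    rw [Functor.map_comp, Functor.map_zero] at h1
    rw [← cancel_mono (DerivedCategory.Q.map q), h1, zero_comp]

end

end Groth.Agent.Lib.H6xGamAc
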