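import Mathlib
import Groth.Agent.Lib.H6xMVF
set_option backward.isDefEq.respectTransparency.types false

/-!
# Mayer–Vietoris for a right derived functor `RΦ` composed with `Rj_*` (helper6)

For an additive `Φ` on `O_X`-modules with `Φ ∘ j_* ≅ Ψ_j` : triangle
`RΦ E ⟶ RΨ₁ (E|U₁) ⊞ RΨ₂ (E|U₂) ⟶ RΨ_k (E|W) ⟶`.  Applies to `Φ = Γ(X, -)` and `Φ = f_*`.
-/

set_option autoImplicit false
set_option linter.style.haveILetI false
universe u
open CategoryTheory CategoryTheory.Limits AlgebraicGeometry TopologicalSpace Opposite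

attribute [local instance] HasDerivedCategory.standard

namespace Groth.Agent.Lib.H6xMV

open Groth.Agent.Lib.Helper17.KInj

section split

variable {𝒜 𝒟 : Type*} [Category 𝒜] [Category 𝒟] [Abelian 𝒜] [Abelian 𝒟]

/-- an additive functor preserves short exact sequences of complexes with termwise injective
kernel -/
lemma shortExact_map_of_injective (Φ : 𝒜 ⥤ 𝒟) [Φ.Additive]
    (S : ShortComplex (CochainComplex 𝒜 ℤ)) (hS : S.ShortExact)
    (hinj : ∀ n, Injective (S.X₁.X n)) :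
    (S.map (Φ.mapHomologicalComplex (ComplexShape.up ℤ))).ShortExact := by
  apply HomologicalComplex.shortExact_of_degreewise_shortExact
  intro n
  have h1 : (S.map (HomologicalComplex.eval 𝒜 (ComplexShape.up ℤ) n)).ShortExact :=
    hS.map_of_exact _
  haveI : Injective (S.map (HomologicalComplex.eval 𝒜 (ComplexShape.up ℤ) n)).X₁ := hinj n
  exact (h1.splittingOfInjective.map Φ).shortExact

end split

section RD

variable {X : Scheme.{u}} {𝒟 : Type*} [Category 𝒟] [Abelian 𝒟] [HasDerivedCategory 𝒟]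

/-- the total right derived functor of an additive functor on `O_X`-modules -/
noncomputable abbrev RD (G : X.Modules ⥤ 𝒟) [G.Additive]
    [(G.mapHomotopyCategory (ComplexShape.up ℤ) ⋙ DerivedCategory.Qh).HasRightDerivedFunctor
      (HomotopyCategory.quasiIso X.Modules (ComplexShape.up ℤ))] :
    DCoh.D X ⥤ DerivedCategory 𝒟 :=
  (G.mapHomotopyCategory (ComplexShape.up ℤ) ⋙ DerivedCategory.Qh).totalRightDerived
    DerivedCategory.Qh (HomotopyCategory.quasiIso X.Modules (ComplexShape.up ℤ))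

variable {U : Scheme.{u}} (j : U ⟶ X) [IsOpenImmersion j]
  [PreservesFiniteLimits (Scheme.Modules.restrictFunctor j)]
  (Φ : X.Modules ⥤ 𝒟) [Φ.Additive] (Ψ : U.Modules ⥤ 𝒟) [Ψ.Additive]
  (e : Scheme.Modules.pushforward j ⋙ Φ ≅ Ψ)
  [(Ψ.mapHomotopyCategory (ComplexShape.up ℤ) ⋙ DerivedCategory.Qh).HasRightDerivedFunctor
      (HomotopyCategory.quasiIso U.Modules (ComplexShape.up ℤ))]

/-- `Q (Φ (j_* j^* I)) ≅ RΨ (E|_U)` for `I` K-injective with `Q I ≅ E` -/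
noncomputable def phiPushResIso (I : CochainComplex X.Modules ℤ) [I.IsKInjective] {E : DCoh.D X}
    (eI : DerivedCategory.Q.obj I ≅ E) :
    DerivedCategory.Q.obj ((Φ.mapHomologicalComplex (ComplexShape.up ℤ)).obj
      (((P j).mapHomologicalComplex (ComplexShape.up ℤ)).obj I)) ≅
      (RD Ψ).obj ((DCoh.restrictD j).obj E) :=
  haveI := isKInjective_restrict j I
  DerivedCategory.Q.mapIso ((NatIso.mapHomologicalComplex e (ComplexShape.up ℤ)).app
      (((Scheme.Modules.restrictFunctor j).mapHomologicalComplex (ComplexShape.up ℤ)).obj I)) ≪≫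
    rdIso Ψ
      (((Scheme.Modules.restrictFunctor j).mapHomologicalComplex (ComplexShape.up ℤ)).obj I) ≪≫
    (RD Ψ).mapIso
      (((Scheme.Modules.restrictFunctor j).mapDerivedCategoryFactors.app I).symm ≪≫
        (DCoh.restrictD j).mapIso eI)

end RD

section main

open Pretriangulated

variable {U₁ U₂ W X : Scheme.{u}} (j₁ : U₁ ⟶ X) (j₂ : U₂ ⟶ X) (k : W ⟶ X) (i₁ : W ⟶ U₁) (i₂ : W ⟶ U₂)
  [IsOpenImmersion j₁] [IsOpenImmersion j₂] [IsOpenImmersion k] [IsOpenImmersion i₁]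
  [IsOpenImmersion i₂] (h₁ : i₁ ≫ j₁ = k) (h₂ : i₂ ≫ j₂ = k)
  [PreservesFiniteLimits (Scheme.Modules.restrictFunctor j₁)]
  [PreservesFiniteLimits (Scheme.Modules.restrictFunctor j₂)]
  [PreservesFiniteLimits (Scheme.Modules.restrictFunctor k)]
  {𝒟 : Type*} [Category 𝒟] [Abelian 𝒟] [HasDerivedCategory 𝒟]
  (Φ : X.Modules ⥤ 𝒟) [Φ.Additive] (Ψ₁ : U₁.Modules ⥤ 𝒟) [Ψ₁.Additive]
  (Ψ₂ : U₂.Modules ⥤ 𝒟) [Ψ₂.Additive] (Ψk : W.Modules ⥤ 𝒟) [Ψk.Additive]
  (e₁ : Scheme.Modules.pushforward j₁ ⋙ Φ ≅ Ψ₁) (e₂ : Scheme.Modules.pushforward j₂ ⋙ Φ ≅ Ψ₂)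
  (ek : Scheme.Modules.pushforward k ⋙ Φ ≅ Ψk)
  [(Φ.mapHomotopyCategory (ComplexShape.up ℤ) ⋙ DerivedCategory.Qh).HasRightDerivedFunctor
      (HomotopyCategory.quasiIso X.Modules (ComplexShape.up ℤ))]
  [(Ψ₁.mapHomotopyCategory (ComplexShape.up ℤ) ⋙ DerivedCategory.Qh).HasRightDerivedFunctor
      (HomotopyCategory.quasiIso U₁.Modules (ComplexShape.up ℤ))]
  [(Ψ₂.mapHomotopyCategory (ComplexShape.up ℤ) ⋙ DerivedCategory.Qh).HasRightDerivedFunctor
      (HomotopyCategory.quasiIso U₂.Modules (ComplexShape.up ℤ))]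
  [(Ψk.mapHomotopyCategory (ComplexShape.up ℤ) ⋙ DerivedCategory.Qh).HasRightDerivedFunctor
      (HomotopyCategory.quasiIso W.Modules (ComplexShape.up ℤ))]

attribute [local instance] preservesBinaryBiproducts_of_preservesBiproducts in
include h₁ h₂ e₁ e₂ ek in
theorem exists_triangle_RD (hcov : Set.range j₁.base ∪ Set.range j₂.base = Set.univ)
    (hint : Set.range k.base = Set.range j₁.base ∩ Set.range j₂.base) (E : DCoh.D X) :
    ∃ (a : (RD Φ).obj E ⟶ ((RD Ψ₁).obj ((DCoh.restrictD j₁).obj E) ⊞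
          (RD Ψ₂).obj ((DCoh.restrictD j₂).obj E)))
      (b : ((RD Ψ₁).obj ((DCoh.restrictD j₁).obj E) ⊞
          (RD Ψ₂).obj ((DCoh.restrictD j₂).obj E)) ⟶
          (RD Ψk).obj ((DCoh.restrictD k).obj E))
      (c : (RD Ψk).obj ((DCoh.restrictD k).obj E) ⟶ ((RD Φ).obj E)⟦(1 : ℤ)⟧),
      Triangle.mk a b c ∈ distTriang (DerivedCategory 𝒟) := by
  obtain ⟨I, hI, hinj, ⟨eI⟩⟩ := exists_kInjective_iso' E
  have hS := sesPC_shortExact j₁ j₂ k i₁ i₂ h₁ h₂ I hcov hint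
  have hS' := shortExact_map_of_injective Φ _ hS hinj
  have hT := DerivedCategory.triangleOfSES_distinguished hS'
  refine exists_triangle_of_isos _ hT ?_ ?_ ?_
  · exact rdIso Φ I ≪≫ (RD Φ).mapIso eI
  · exact ((Φ.mapHomologicalComplex (ComplexShape.up ℤ) ⋙ DerivedCategory.Q).mapBiprod _ _) ≪≫
      biprod.mapIso (phiPushResIso j₁ Φ Ψ₁ e₁ I eI) (phiPushResIso j₂ Φ Ψ₂ e₂ I eI)
  · exact phiPushResIso k Φ Ψk ek I eI

end main

/-- `Γ(X, f_* M) = Γ(U, M)` -/
noncomputable def pushGammaIso {U X : Scheme.{u}} (f : U ⟶ X) :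
    Scheme.Modules.pushforward f ⋙ DCoh.gammaAb X ≅ DCoh.gammaAb U :=
  NatIso.ofComponents (fun M => Iso.refl _) (by intros; rfl)

end Groth.Agent.Lib.H6xMV
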