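import Mathlib
import Groth.Agent.Lib.H6xGamAcE
import Groth.Agent.Lib.H6xMVG
set_option backward.isDefEq.respectTransparency.types false

/-!
# `RΓ(Y, Rf_* -) ≅ RΓ(X, -)` and acyclicity of `f_* B` for `B` K-injective (helper6)
-/

set_option autoImplicit false
set_option linter.style.haveILetI false
universe u
open CategoryTheory CategoryTheory.Limits AlgebraicGeometry TopologicalSpace Opposite

attribute [local instance] HasDerivedCategory.standard

namespace Groth.Agent.Lib.H6xGamAc

open Groth.Agent.Lib.Helper17.KInj Groth.Agent.Lib.H6xMV Groth.Agent.Lib.H6xRpushRes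
  Groth.Agent.Lib.H6xDerAdj

section unit

variable (Y : Scheme.{u}) [DCoh.HasRΓ Y]

/-- the unit of `RΓ(Y, -)` on complexes -/
noncomputable def γΓ : gamC Y ⋙ DerivedCategory.Q ⟶ DerivedCategory.Q ⋙ DCoh.RΓ Y :=
  unitOfK (DCoh.gammaAb Y) (DCoh.RΓ Y)
    ((DCoh.gammaKh Y).totalRightDerivedUnit DerivedCategory.Qh
      (HomotopyCategory.quasiIso Y.Modules (ComplexShape.up ℤ)))

instance : (DCoh.RΓ Y).IsRightDerivedFunctor (γΓ Y)
    (HomologicalComplex.quasiIso Y.Modules (ComplexShape.up ℤ)) := by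
  unfold γΓ
  infer_instance

lemma γΓ_app (K : CochainComplex Y.Modules ℤ) :
    (γΓ Y).app K = (isoF₀ (DCoh.gammaAb Y)).inv.app K ≫
      ((DCoh.gammaKh Y).totalRightDerivedUnit DerivedCategory.Qh
        (HomotopyCategory.quasiIso Y.Modules (ComplexShape.up ℤ))).app
        ((HomotopyCategory.quotient _ _).obj K) ≫
      (DCoh.RΓ Y).map ((DerivedCategory.quotientCompQhIso Y.Modules).hom.app K) := by
  simp [γΓ, unitOfK, γOfK]

lemma isIso_totalRightDerivedUnit_app_of_isIso_γΓ_app (K : CochainComplex Y.Modules ℤ)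
    [IsIso ((γΓ Y).app K)] :
    IsIso (((DCoh.gammaKh Y).totalRightDerivedUnit DerivedCategory.Qh
      (HomotopyCategory.quasiIso Y.Modules (ComplexShape.up ℤ))).app
      ((HomotopyCategory.quotient _ _).obj K)) := by
  have h := γΓ_app Y K
  have h1 : IsIso ((isoF₀ (DCoh.gammaAb Y)).inv.app K ≫
      ((DCoh.gammaKh Y).totalRightDerivedUnit DerivedCategory.Qh
        (HomotopyCategory.quasiIso Y.Modules (ComplexShape.up ℤ))).app
        ((HomotopyCategory.quotient _ _).obj K) ≫
      (DCoh.RΓ Y).map ((DerivedCategory.quotientCompQhIso Y.Modules).hom.app K)) := by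
    rw [← h]
    infer_instance
  haveI := h1
  haveI h2 : IsIso (((DCoh.gammaKh Y).totalRightDerivedUnit DerivedCategory.Qh
        (HomotopyCategory.quasiIso Y.Modules (ComplexShape.up ℤ))).app
        ((HomotopyCategory.quotient _ _).obj K) ≫
      (DCoh.RΓ Y).map ((DerivedCategory.quotientCompQhIso Y.Modules).hom.app K)) :=
    IsIso.of_isIso_comp_left ((isoF₀ (DCoh.gammaAb Y)).inv.app K) _
  exact IsIso.of_isIso_comp_right _
    ((DCoh.RΓ Y).map ((DerivedCategory.quotientCompQhIso Y.Modules).hom.app K))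

variable {Y}

/-- **`f_* B` is acyclic for `Γ(Y, -)` when `B` is K-injective** -/
theorem isIso_γΓ_app_push {X : Scheme.{u}} (f : X ⟶ Y) (B : CochainComplex X.Modules ℤ)
    [B.IsKInjective] : IsIso ((γΓ Y).app ((pushC f).obj B)) := by
  haveI : IsGrothendieckAbelian.{u} Y.Modules := isGrothendieckAbelian_modules
  obtain ⟨J, q, hJ, hq, -, -⟩ := exists_kInjective_resolution.{u} Y.Modules ((pushC f).obj B)
  haveI := quasiIso_gamC_map_of_resolution f B q
  haveI : IsIso ((γΓ Y).app J) :=
    isIso_app_of_isKInjective.{u} (DCoh.gammaAb Y) (DCoh.RΓ Y) (γΓ Y) J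
  haveI : IsIso ((gamC Y ⋙ DerivedCategory.Q).map q) := by
    dsimp
    rw [DerivedCategory.isIso_Q_map_iff_quasiIso]
    infer_instance
  haveI : IsIso (DerivedCategory.Q.map q) := by
    rw [DerivedCategory.isIso_Q_map_iff_quasiIso]
    infer_instance
  haveI : IsIso ((DerivedCategory.Q ⋙ DCoh.RΓ Y).map q) := by
    dsimp
    infer_instance
  have nat := (γΓ Y).naturality q
  have h2 : (γΓ Y).app ((pushC f).obj B) = (gamC Y ⋙ DerivedCategory.Q).map q ≫
      (γΓ Y).app J ≫ inv ((DerivedCategory.Q ⋙ DCoh.RΓ Y).map q) := by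
    rw [← Category.assoc, IsIso.eq_comp_inv]
    exact nat.symm
  rw [h2]
  infer_instance

end unit

end Groth.Agent.Lib.H6xGamAc
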