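import Mathlib
import Groth.Agent.Lib.H6xAffPushC
import Groth.Agent.Lib.H6xGamAcF
set_option backward.isDefEq.respectTransparency.types false

/-!
# `f_* F ⟶ Rf_* F` is an isomorphism for `f` affine and `F` a complex of quasi-coherent modules
(helper6)
-/

set_option autoImplicit false
set_option linter.style.haveILetI false

universe v v' u

open CategoryTheory CategoryTheory.Limits Opposite AlgebraicGeometry TopologicalSpace

namespace Groth.Agent.Lib.H6xAffPush

open Groth.Agent.Lib.Helper17.Hyp Groth.Agent.Lib.H6xQcTrunc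
  Groth.Agent.Lib.H6xGamAc Groth.Agent.Lib.H6xTilde

section Abstract

variable {A : Type (v + 1)} [Category.{v} A] [Abelian A]
  {B : Type (v' + 1)} [Category.{v'} B] [Abelian B]
  (G : A ⥤ B) [G.Additive] (P : B) (P' : A)
  (e : ∀ N : A, (P ⟶ G.obj N) ≃ (P' ⟶ N))
  (he : ∀ {N N' : A} (a : P ⟶ G.obj N) (g : N ⟶ N'), e N' (a ≫ G.map g) = e N a ≫ g)

include he in
lemma equiv_zero (N : A) : e N 0 = 0 := by
  have h := he (0 : P ⟶ G.obj N) (0 : N ⟶ N)
  rw [comp_zero] at h
  rw [zero_comp] at h
  exact h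

include he in
lemma equiv_add {N : A} (a b : P ⟶ G.obj N) : e N (a + b) = e N a + e N b := by
  let c : P ⟶ G.obj (N ⊞ N) := a ≫ G.map biprod.inl + b ≫ G.map biprod.inr
  have hc1 : c ≫ G.map biprod.fst = a := by
    dsimp only [c]
    rw [Preadditive.add_comp, Category.assoc, Category.assoc, ← G.map_comp, ← G.map_comp,
      biprod.inl_fst, biprod.inr_fst, G.map_id, G.map_zero, Category.comp_id, comp_zero, add_zero]
  have hc2 : c ≫ G.map biprod.snd = b := by
    dsimp only [c]
    rw [Preadditive.add_comp, Category.assoc, Category.assoc, ← G.map_comp, ← G.map_comp,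
      biprod.inl_snd, biprod.inr_snd, G.map_id, G.map_zero, Category.comp_id, comp_zero, zero_add]
  have hc3 : c ≫ G.map (biprod.desc (𝟙 N) (𝟙 N)) = a + b := by
    dsimp only [c]
    rw [Preadditive.add_comp, Category.assoc, Category.assoc, ← G.map_comp, ← G.map_comp,
      biprod.inl_desc, biprod.inr_desc, G.map_id, Category.comp_id, Category.comp_id]
  have hec : e _ c = e N a ≫ biprod.inl + e N b ≫ biprod.inr := by
    apply biprod.hom_ext
    · rw [← he, hc1, Preadditive.add_comp, Category.assoc, Category.assoc, biprod.inl_fst,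
        biprod.inr_fst, Category.comp_id, comp_zero, add_zero]
    · rw [← he, hc2, Preadditive.add_comp, Category.assoc, Category.assoc, biprod.inl_snd,
        biprod.inr_snd, Category.comp_id, comp_zero, zero_add]
  rw [← hc3, he, hec, Preadditive.add_comp, Category.assoc, Category.assoc, biprod.inl_desc,
    biprod.inr_desc, Category.comp_id, Category.comp_id]

include he in
lemma cycSur_of_equiv {M N : CochainComplex A ℤ} (g : M ⟶ N) (n : ℤ) (h : CycSur P' g n) :
    CycSur P ((G.mapHomologicalComplex (ComplexShape.up ℤ)).map g) n := by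
  intro z hz
  have hz' : e _ z ≫ N.d n (n + 1) = 0 := by
    rw [← he]
    exact (congrArg (e _) hz).trans (equiv_zero G P P' e he _)
  obtain ⟨w, y, hw, hwy⟩ := h (e _ z) hz'
  refine ⟨(e _).symm w, (e _).symm y, ?_, ?_⟩
  · apply (e _).injective
    have h1 : e _ ((e _).symm w ≫ G.map (M.d n (n + 1))) = 0 := by
      rw [he, Equiv.apply_symm_apply, hw]
    exact h1.trans (equiv_zero G P P' e he _).symm
  · apply (e _).injective
    have h1 : e _ ((e _).symm w ≫ G.map (g.f n)) =
        e _ ((show P ⟶ G.obj (N.X n) from z) + (e _).symm y ≫ G.map (N.d (n - 1) n)) := by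
      rw [he, Equiv.apply_symm_apply, equiv_add G P P' e he, he, Equiv.apply_symm_apply, hwy]
    exact h1

include he in
lemma cycInj_of_equiv {M N : CochainComplex A ℤ} (g : M ⟶ N) (n : ℤ) (h : CycInj P' g n) :
    CycInj P ((G.mapHomologicalComplex (ComplexShape.up ℤ)).map g) n := by
  intro w hw y hy
  have hw' : e _ w ≫ M.d n (n + 1) = 0 := by
    rw [← he]
    exact (congrArg (e _) hw).trans (equiv_zero G P P' e he _)
  have hy' : e _ w ≫ g.f n = e _ y ≫ N.d (n - 1) n := by
    rw [← he, ← he]
    exact congrArg (e _) hy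
  obtain ⟨x, hx⟩ := h (e _ w) hw' (e _ y) hy'
  refine ⟨(e _).symm x, ?_⟩
  apply (e _).injective
  have h1 : e _ ((e _).symm x ≫ G.map (M.d (n - 1) n)) = e _ w := by
    rw [he, Equiv.apply_symm_apply, hx]
  exact h1

end Abstract

section Scheme

variable {X S : Scheme.{u}} (f : X ⟶ S)

/-- `Hom(fr_S V, f_* N) ≃ Hom(fr_X (f⁻¹ V), N)`. -/
noncomputable def pushEquiv (V : S.Opens) (N : X.Modules) :
    ((frX S).obj V ⟶ (Scheme.Modules.pushforward f).obj N) ≃ ((frX X).obj (f ⁻¹ᵁ V) ⟶ N) :=
  (secEquiv (OX S) ((Scheme.Modules.pushforward f).obj N) V).trans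
    (secEquiv (OX X) N (f ⁻¹ᵁ V)).symm

lemma pushEquiv_comp (V : S.Opens) {N N' : X.Modules}
    (a : (frX S).obj V ⟶ (Scheme.Modules.pushforward f).obj N) (g : N ⟶ N') :
    pushEquiv f V N' (a ≫ (Scheme.Modules.pushforward f).map g) = pushEquiv f V N a ≫ g := by
  apply (secEquiv (OX X) N' (f ⁻¹ᵁ V)).injective
  have h1 := secEquiv_comp (OX X) (pushEquiv f V N a) g
  have h2 := secEquiv_comp (OX S) a ((Scheme.Modules.pushforward f).map g)
  have h3 : secEquiv (OX X) N (f ⁻¹ᵁ V) (pushEquiv f V N a) =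
      secEquiv (OX S) ((Scheme.Modules.pushforward f).obj N) V a :=
    Equiv.apply_symm_apply _ _
  have h4 : secEquiv (OX X) N' (f ⁻¹ᵁ V)
      (pushEquiv f V N' (a ≫ (Scheme.Modules.pushforward f).map g)) =
      secEquiv (OX S) ((Scheme.Modules.pushforward f).obj N') V
        (a ≫ (Scheme.Modules.pushforward f).map g) :=
    Equiv.apply_symm_apply _ _
  refine h4.trans (h2.trans (Eq.trans ?_ h1.symm))
  rw [h3]
  rfl

end Scheme

section Main

attribute [local instance] HasDerivedCategory.standard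

open Groth.Agent.Lib.Helper17.KInj Groth.Agent.Lib.H6xRpushRes

variable {X S : Scheme.{u}} (f : X ⟶ S) [IsAffineHom f]

theorem quasiIso_push_of_affine {F J : CochainComplex X.Modules ℤ}
    (hF : ∀ n, Coh.IsQCoh (F.X n)) [J.IsKInjective] (q : F ⟶ J) [QuasiIso q] :
    QuasiIso (((Scheme.Modules.pushforward f).mapHomologicalComplex (ComplexShape.up ℤ)).map q) := by
  refine quasiIso_of_cyc (locFr_frX S) {V | IsAffineOpen V} (fun U => ?_) _
    (fun V hV n => ?_) (fun V hV n => ?_)
  · refine ⟨fun V _ => IsAffineOpen V, ?_, fun V g hV => hV⟩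
    intro x hx
    obtain ⟨V, hV, hxV, hVU⟩ := (Opens.isBasis_iff_nbhd.1 S.isBasis_affineOpens) hx
    exact ⟨V, homOfLE hVU, ⟨V, 𝟙 V, homOfLE hVU, hV, Category.id_comp _⟩, hxV⟩
  · exact cycSur_of_equiv (Scheme.Modules.pushforward f) _ _ (pushEquiv f V)
      (fun a g => pushEquiv_comp f V a g) q n
      (cycSur_of_affine (f ⁻¹ᵁ V) (IsAffineOpen.preimage hV f) hF q n)
  · exact cycInj_of_equiv (Scheme.Modules.pushforward f) _ _ (pushEquiv f V)
      (fun a g => pushEquiv_comp f V a g) q n
      (cycInj_of_affine (f ⁻¹ᵁ V) (IsAffineOpen.preimage hV f) hF q n)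

variable [DCoh.HasRpush f]

theorem isIso_βf_app_of_affine (F : CochainComplex X.Modules ℤ)
    (hF : ∀ n, Coh.IsQCoh (F.X n)) : IsIso ((βf f).app F) := by
  obtain ⟨J, q, hJ, hq, -, -⟩ := exists_kInjective_resolution.{u} X.Modules F
  haveI := quasiIso_push_of_affine f hF q
  haveI : IsIso ((βf f).app J) :=
    isIso_app_of_isKInjective.{u} (Scheme.Modules.pushforward f) (DCoh.Rpush f) (βf f) J
  haveI : IsIso (((Scheme.Modules.pushforward f).mapHomologicalComplex (ComplexShape.up ℤ) ⋙
      DerivedCategory.Q).map q) := by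
    dsimp
    rw [DerivedCategory.isIso_Q_map_iff_quasiIso]
    infer_instance
  haveI : IsIso (DerivedCategory.Q.map q) := by
    rw [DerivedCategory.isIso_Q_map_iff_quasiIso]
    infer_instance
  haveI : IsIso ((DerivedCategory.Q ⋙ DCoh.Rpush f).map q) := by
    dsimp
    infer_instance
  have nat := (βf f).naturality q
  have h2 : (βf f).app F =
      ((Scheme.Modules.pushforward f).mapHomologicalComplex (ComplexShape.up ℤ) ⋙
        DerivedCategory.Q).map q ≫
      (βf f).app J ≫ inv ((DerivedCategory.Q ⋙ DCoh.Rpush f).map q) := by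
    rw [← Category.assoc, IsIso.eq_comp_inv]
    exact nat.symm
  rw [h2]
  infer_instance

omit [IsAffineHom f] in
lemma βf_app (K : CochainComplex X.Modules ℤ) :
    (βf f).app K = (isoF₀ (Scheme.Modules.pushforward f)).inv.app K ≫
      ((DCoh.pushKh f).totalRightDerivedUnit DerivedCategory.Qh
        (HomotopyCategory.quasiIso X.Modules (ComplexShape.up ℤ))).app
        ((HomotopyCategory.quotient _ _).obj K) ≫
      (DCoh.Rpush f).map ((DerivedCategory.quotientCompQhIso X.Modules).hom.app K) := by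
  simp [βf, unitOfK, γOfK]

omit [IsAffineHom f] in
lemma isIso_totalRightDerivedUnit_app_of_isIso_βf_app (K : CochainComplex X.Modules ℤ)
    [IsIso ((βf f).app K)] :
    IsIso (((DCoh.pushKh f).totalRightDerivedUnit DerivedCategory.Qh
      (HomotopyCategory.quasiIso X.Modules (ComplexShape.up ℤ))).app
      ((HomotopyCategory.quotient _ _).obj K)) := by
  have h := βf_app f K
  have h1 : IsIso ((isoF₀ (Scheme.Modules.pushforward f)).inv.app K ≫
      ((DCoh.pushKh f).totalRightDerivedUnit DerivedCategory.Qh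
        (HomotopyCategory.quasiIso X.Modules (ComplexShape.up ℤ))).app
        ((HomotopyCategory.quotient _ _).obj K) ≫
      (DCoh.Rpush f).map ((DerivedCategory.quotientCompQhIso X.Modules).hom.app K)) := by
    rw [← h]
    infer_instance
  haveI := h1
  haveI h2 : IsIso (((DCoh.pushKh f).totalRightDerivedUnit DerivedCategory.Qh
        (HomotopyCategory.quasiIso X.Modules (ComplexShape.up ℤ))).app
        ((HomotopyCategory.quotient _ _).obj K) ≫
      (DCoh.Rpush f).map ((DerivedCategory.quotientCompQhIso X.Modules).hom.app K)) :=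
    IsIso.of_isIso_comp_left ((isoF₀ (Scheme.Modules.pushforward f)).inv.app K) _
  exact IsIso.of_isIso_comp_right _
    ((DCoh.Rpush f).map ((DerivedCategory.quotientCompQhIso X.Modules).hom.app K))

end Main

end Groth.Agent.Lib.H6xAffPush
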