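import Mathlib
import Groth.Agent.Lib.Helper16RestrInj
import Groth.Agent.Lib.Helper26FpqcMod

/-!
# helper6: the direct image along a flat morphism of schemes preserves K-injective complexes
-/

set_option autoImplicit false
universe u
open CategoryTheory CategoryTheory.Limits AlgebraicGeometry

namespace Groth.Agent.Lib.H6xFlatPush

variable {X Y : Scheme.{u}} (f : X ⟶ Y)

noncomputable abbrev adjPP : Scheme.Modules.pullback f ⊣ Scheme.Modules.pushforward f :=
  Scheme.Modules.pullbackPushforwardAdjunction f

instance : (Scheme.Modules.pullback f).Additive := (adjPP f).left_adjoint_additive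

instance : (Scheme.Modules.pushforward f).Additive := (adjPP f).right_adjoint_additive

instance : PreservesFiniteColimits (Scheme.Modules.pullback f) := by
  haveI : PreservesColimitsOfSize.{0, 0} (Scheme.Modules.pullback f) :=
    (adjPP f).leftAdjoint_preservesColimits
  exact PreservesColimitsOfSize.preservesFiniteColimits _

section Flat

variable [Flat f]

instance : (Scheme.Modules.pullback f).PreservesMonomorphisms where
  preserves a _ := Groth.Agent.Lib.Helper26.FpqcMod.mono_pullback_of_flat f a

instance : PreservesFiniteLimits (Scheme.Modules.pullback f) := by
  haveI : (Scheme.Modules.pullback f).PreservesHomology :=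
    Functor.preservesHomology_of_preservesMonos_and_cokernels _
  exact Functor.preservesFiniteLimits_of_preservesHomology _

theorem isKInjective_pushforward (I : CochainComplex X.Modules ℤ) [I.IsKInjective] :
    CochainComplex.IsKInjective
      (((Scheme.Modules.pushforward f).mapHomologicalComplex (ComplexShape.up ℤ)).obj I) :=
  Groth.Agent.Lib.Helper16.RestrInj.isKInjective_map_of_adjunction (adjPP f) I

end Flat

end Groth.Agent.Lib.H6xFlatPush
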