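import Mathlib
import Groth.Agent.Lib.H6xSuppPush
import Groth.Agent.Lib.H6xRpushRes
set_option backward.isDefEq.respectTransparency.types false

/-!
# Supports of the cohomology sheaves of `Rf_* E` (helper6)
-/

set_option autoImplicit false
set_option linter.style.haveILetI false
universe u
open CategoryTheory CategoryTheory.Limits AlgebraicGeometry TopologicalSpace Opposite ZeroObject

attribute [local instance] HasDerivedCategory.standard

namespace Groth.Agent.Lib.H6xSuppPush

open Groth.Agent.Lib.H6xMV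

section general

variable {C₁ C₂ : Type*} [Category C₁] [Category C₂] [Abelian C₁] [Abelian C₂]
  [HasDerivedCategory C₁] [HasDerivedCategory C₂] (F : C₁ ⥤ C₂) [F.Additive]
  [PreservesFiniteLimits F] [PreservesFiniteColimits F]

/-- homology commutes with an exact functor, in the derived category -/
lemma nonempty_homology_mapDerivedCategory_iso (G : DerivedCategory C₁) (i : ℤ) :
    Nonempty ((DerivedCategory.homologyFunctor C₂ i).obj (F.mapDerivedCategory.obj G) ≅
      F.obj ((DerivedCategory.homologyFunctor C₁ i).obj G)) := by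
  obtain ⟨K, ⟨eK⟩⟩ : ∃ K : CochainComplex C₁ ℤ, Nonempty (DerivedCategory.Q.obj K ≅ G) :=
    ⟨_, ⟨DerivedCategory.Q.objObjPreimageIso G⟩⟩
  have e1 : F.mapDerivedCategory.obj G ≅ DerivedCategory.Q.obj
      ((F.mapHomologicalComplex (ComplexShape.up ℤ)).obj K) :=
    F.mapDerivedCategory.mapIso eK.symm ≪≫ F.mapDerivedCategoryFactors.app K
  have e2 := (K.sc i).mapHomologyIso F
  have e3 : K.homology i ≅ (DerivedCategory.homologyFunctor C₁ i).obj G :=
    ((DerivedCategory.homologyFunctorFactors C₁ i).app K).symm ≪≫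
      (DerivedCategory.homologyFunctor _ i).mapIso eK
  exact ⟨(DerivedCategory.homologyFunctor _ i).mapIso e1 ≪≫
    (DerivedCategory.homologyFunctorFactors C₂ i).app _ ≪≫ e2 ≪≫ F.mapIso e3⟩

end general

section support

variable {W X : Scheme.{u}} (j : W ⟶ X) [IsOpenImmersion j]

/-- if `M|_W = 0` then the support of `M` misses `W` -/
lemma not_mem_support_of_isZero_restrict (M : X.Modules)
    (h : IsZero ((Scheme.Modules.restrictFunctor j).obj M)) (y : W) :
    j.base y ∉ CohB1.support M := by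
  intro hy
  apply hy
  have e' := (Scheme.Modules.restrictStalkNatIso j y).app M
  have eq : (((Scheme.Modules.restrictFunctor j).obj M).presheaf.stalk y) ≃
      (M.presheaf.stalk (j.base y)) := e'.addCommGroupIsoToAddEquiv.toEquiv
  have e0 : ((Scheme.Modules.restrictFunctor j).obj M).presheaf.stalk y ≅ 0 :=
    ((Scheme.Modules.toPresheaf W ⋙ TopCat.Presheaf.stalkFunctor _ y).mapIso
      (h.isoZero)) ≪≫ (Functor.map_isZero _ (isZero_zero _)).isoZero
  haveI : Subsingleton (((Scheme.Modules.restrictFunctor j).obj M).presheaf.stalk y) :=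
    AddCommGrpCat.subsingleton_of_isZero ((isZero_zero _).of_iso e0)
  exact eq.symm.subsingleton

end support

section main

variable {X Y : Scheme.{u}} (f : X ⟶ Y) [DCoh.HasRpush f]

theorem support_HD_Rpush (hf : IsClosedMap f.base) (Z : Set X) (hZ : IsClosed Z) (E : DCoh.D X)
    (hE : ∀ i : ℤ, CohB1.support (DCoh.HD E i) ⊆ Z) (i : ℤ) :
    CohB1.support (DCoh.HD ((DCoh.Rpush f).obj E) i) ⊆ f.base '' Z := by
  intro y hy
  by_contra hne
  let V : Y.Opens := ⟨(f.base '' Z)ᶜ, (hf Z hZ).isOpen_compl⟩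
  have hyV : y ∈ Set.range V.ι.base := by
    rw [Scheme.Opens.range_ι]; exact hne
  obtain ⟨y', rfl⟩ := hyV
  obtain ⟨e⟩ := Groth.Agent.Lib.H6xRpushRes.nonempty_iso f V
  have hW : ∀ w : ((f ⁻¹ᵁ V : X.Opens) : Scheme.{u}), (f ⁻¹ᵁ V).ι.base w ∉ Z := fun w hw => by
    have h1 : (f ⁻¹ᵁ V).ι.base w ∈ ((f ⁻¹ᵁ V : X.Opens) : Set X) := by
      rw [← Scheme.Opens.range_ι]; exact ⟨w, rfl⟩
    exact h1 ⟨_, hw, rfl⟩
  have hz : IsZero ((DCoh.restrictD V.ι).obj ((DCoh.Rpush f).obj E)) :=
    IsZero.of_iso (isZero_Rpush _ _ (isZero_restrictD (f ⁻¹ᵁ V).ι Z hW E hE)) (e.app E)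
  obtain ⟨e2⟩ := nonempty_homology_mapDerivedCategory_iso
    (Scheme.Modules.restrictFunctor V.ι) ((DCoh.Rpush f).obj E) i
  have hz2 : IsZero ((Scheme.Modules.restrictFunctor V.ι).obj
      (DCoh.HD ((DCoh.Rpush f).obj E) i)) :=
    IsZero.of_iso (Functor.map_isZero _ hz) e2.symm
  exact not_mem_support_of_isZero_restrict V.ι _ hz2 y' hy

end main

end Groth.Agent.Lib.H6xSuppPush
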