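import Mathlib
import Groth.Agent.Lib.H6xSuppPushB
import Groth.Agent.Lib.Helper17KInjD4
set_option backward.isDefEq.respectTransparency.types false

/-!
# `Rj_*` for an open immersion: fully faithful; essential image contains complexes supported on
closed subsets of the open; `RΓ_Z` restricted to the open complement vanishes (helper6)
-/

set_option autoImplicit false
set_option linter.style.haveILetI false
universe u
open CategoryTheory CategoryTheory.Limits AlgebraicGeometry TopologicalSpace Opposite ZeroObject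

attribute [local instance] HasDerivedCategory.standard

namespace Groth.Agent.Lib.H6xSuppPush

open Groth.Agent.Lib.H6xMV Groth.Agent.Lib.Helper17.KInj Groth.Agent.Lib.H6xRpushRes

section ff

variable {X Xbar : Scheme.{u}} (j : X ⟶ Xbar) [IsOpenImmersion j] [DCoh.HasRpush j]
  [PreservesFiniteLimits (Scheme.Modules.restrictFunctor j)]

/-- the derived adjunction `j^* ⊣ Rj_*` -/
noncomputable def derAdj : DCoh.restrictD j ⊣ DCoh.Rpush j :=
  derivedAdjunction.{u} (Scheme.Modules.restrictFunctor j) (Scheme.Modules.pushforward j)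
    (Scheme.Modules.restrictAdjunction j) (DCoh.Rpush j) (βf j)

instance : IsIso (derAdj j).counit :=
  isIso_counit_derivedAdjunction.{u} (Scheme.Modules.restrictFunctor j)
    (Scheme.Modules.pushforward j) (Scheme.Modules.restrictAdjunction j) (DCoh.Rpush j) (βf j)

lemma full_Rpush : (DCoh.Rpush j).Full := (derAdj j).fullyFaithfulROfIsIsoCounit.full

lemma faithful_Rpush : (DCoh.Rpush j).Faithful := (derAdj j).fullyFaithfulROfIsIsoCounit.faithful

/-- for any adjunction `j^* ⊣ Rj_*` the counit is an isomorphism -/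
lemma isIso_counit (adj : DCoh.restrictD j ⊣ DCoh.Rpush j) : IsIso adj.counit := by
  haveI := full_Rpush j
  haveI := faithful_Rpush j
  infer_instance

/-- for any adjunction `j^* ⊣ Rj_*` the unit is an isomorphism on the essential image of `Rj_*` -/
lemma isIso_unit_app_of_iso (adj : DCoh.restrictD j ⊣ DCoh.Rpush j) {E : DCoh.D Xbar}
    {F : DCoh.D X} (e : E ≅ (DCoh.Rpush j).obj F) : IsIso (adj.unit.app E) := by
  haveI := full_Rpush j
  haveI := faithful_Rpush j
  exact adj.isIso_unit_app_of_iso e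

end ff

section part1'

open Pretriangulated

variable {X Xbar : Scheme.{u}} (j : X ⟶ Xbar) [IsOpenImmersion j] [hj : DCoh.HasRpush j]
  [PreservesFiniteLimits (Scheme.Modules.restrictFunctor j)]

theorem part1' (T : Set Xbar) (hT : IsClosed T) (hTj : T ⊆ Set.range j.base) (E : DCoh.D Xbar)
    (hE : ∀ i : ℤ, CohB1.support (DCoh.HD E i) ⊆ T) :
    Nonempty (E ≅ (DCoh.Rpush j).obj ((DCoh.restrictD j).obj E)) := by
  let V : Xbar.Opens := ⟨Tᶜ, hT.isOpen_compl⟩
  have hcov : Set.range j.base ∪ Set.range V.ι.base = Set.univ := by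
    rw [Scheme.Opens.range_ι]
    ext x
    simp only [Set.mem_union, Set.mem_univ, iff_true]
    by_cases hx : x ∈ T
    · exact Or.inl (hTj hx)
    · exact Or.inr hx
  have hint : Set.range ((j ⁻¹ᵁ V).ι ≫ j).base = Set.range j.base ∩ Set.range V.ι.base := by
    rw [Scheme.Opens.range_ι]
    ext x
    constructor
    · rintro ⟨w, rfl⟩
      have hw : (j ⁻¹ᵁ V).ι.base w ∈ ((j ⁻¹ᵁ V : X.Opens) : Set X) := by
        rw [← Scheme.Opens.range_ι]; exact ⟨w, rfl⟩
      exact ⟨⟨_, rfl⟩, hw⟩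
    · rintro ⟨⟨x', rfl⟩, hx⟩
      have hx' : x' ∈ Set.range (j ⁻¹ᵁ V).ι.base := by
        rw [Scheme.Opens.range_ι]; exact hx
      obtain ⟨w, rfl⟩ := hx'
      exact ⟨w, rfl⟩
  obtain ⟨a, b, c, hT'⟩ := exists_triangle_Rpush j V.ι ((j ⁻¹ᵁ V).ι ≫ j)
    (j ⁻¹ᵁ V).ι (j ∣_ V) rfl (morphismRestrict_ι j V) hcov hint E
  have hV : ∀ y : (V : Scheme.{u}), V.ι.base y ∉ T := fun y hy => by
    have : V.ι.base y ∈ (V : Set Xbar) := by
      rw [← Scheme.Opens.range_ι]; exact ⟨y, rfl⟩
    exact this hy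
  have hk : ∀ y : ((j ⁻¹ᵁ V : X.Opens) : Scheme.{u}), ((j ⁻¹ᵁ V).ι ≫ j).base y ∉ T := fun y hy => by
    have h1 : ((j ⁻¹ᵁ V).ι ≫ j).base y ∈ Set.range j.base ∩ Set.range V.ι.base := by
      rw [← hint]; exact ⟨y, rfl⟩
    rw [Scheme.Opens.range_ι] at h1
    exact h1.2 hy
  have h2 : IsZero ((DCoh.Rpush V.ι).obj ((DCoh.restrictD V.ι).obj E)) :=
    isZero_Rpush _ _ (isZero_restrictD V.ι T hV E hE)
  have h3 : IsZero ((DCoh.Rpush ((j ⁻¹ᵁ V).ι ≫ j)).obj
      ((DCoh.restrictD ((j ⁻¹ᵁ V).ι ≫ j)).obj E)) :=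
    isZero_Rpush _ _ (isZero_restrictD ((j ⁻¹ᵁ V).ι ≫ j) T hk E hE)
  haveI : IsIso a := (Triangle.isZero₃_iff_isIso₁ _ hT').1 h3
  haveI := isIso_biprod_fst ((DCoh.Rpush j).obj ((DCoh.restrictD j).obj E)) _ h2
  exact ⟨asIso a ≪≫ asIso biprod.fst⟩

end part1'

section gammaZ

variable {W X : Scheme.{u}} (j : W ⟶ X) [IsOpenImmersion j]

instance isIso_restrict_map_unit (M : X.Modules) :
    IsIso ((Scheme.Modules.restrictFunctor j).map
      ((Scheme.Modules.restrictAdjunction j).unit.app M)) := by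
  have h := (Scheme.Modules.restrictAdjunction j).left_triangle_components M
  exact IsIso.of_isIso_fac_right h

/-- `Γ_Z(M)|_U = 0` -/
lemma isZero_restrict_gammaZ (M : X.Modules) :
    IsZero ((Scheme.Modules.restrictFunctor j).obj ((DCoh.gammaZ j).obj M)) := by
  have e := PreservesKernel.iso (Scheme.Modules.restrictFunctor j)
    ((Scheme.Modules.restrictAdjunction j).unit.app M)
  exact IsZero.of_iso (isZero_kernel_of_mono _) e

variable [CxOX.HasRgammaZ j] [PreservesFiniteLimits (Scheme.Modules.restrictFunctor j)]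

/-- `RΓ_Z(G)|_U = 0` -/
lemma isZero_restrictD_RgammaZ (G : DCoh.D X) :
    IsZero ((DCoh.restrictD j).obj ((CxOX.RgammaZ j).obj G)) := by
  obtain ⟨I, hI, -, ⟨eI⟩⟩ := exists_kInjective_iso' G
  have e1 : (CxOX.RgammaZ j).obj G ≅ DerivedCategory.Q.obj
      (((DCoh.gammaZ j).mapHomologicalComplex (ComplexShape.up ℤ)).obj I) :=
    (CxOX.RgammaZ j).mapIso eI.symm ≪≫ (rdIso (DCoh.gammaZ j) I).symm
  have e2 : (DCoh.restrictD j).obj ((CxOX.RgammaZ j).obj G) ≅ DerivedCategory.Q.obj
      (((Scheme.Modules.restrictFunctor j).mapHomologicalComplex (ComplexShape.up ℤ)).obj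
        (((DCoh.gammaZ j).mapHomologicalComplex (ComplexShape.up ℤ)).obj I)) :=
    (DCoh.restrictD j).mapIso e1 ≪≫
      (Scheme.Modules.restrictFunctor j).mapDerivedCategoryFactors.app _
  refine IsZero.of_iso (DerivedCategory.Q.map_isZero ?_) e2
  rw [IsZero.iff_id_eq_zero]
  apply HomologicalComplex.hom_ext
  intro n
  exact (isZero_restrict_gammaZ j (I.X n)).eq_of_src _ _

/-- the cohomology sheaves of `RΓ_Z(G)` are supported on `Z` -/
lemma support_HD_RgammaZ (G : DCoh.D X) (i : ℤ) :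
    CohB1.support (DCoh.HD ((CxOX.RgammaZ j).obj G) i) ⊆ (Set.range j.base)ᶜ := by
  rintro x hx ⟨y, rfl⟩
  obtain ⟨e2⟩ := nonempty_homology_mapDerivedCategory_iso
    (Scheme.Modules.restrictFunctor j) ((CxOX.RgammaZ j).obj G) i
  have hz2 : IsZero ((Scheme.Modules.restrictFunctor j).obj
      (DCoh.HD ((CxOX.RgammaZ j).obj G) i)) :=
    IsZero.of_iso (Functor.map_isZero _ (isZero_restrictD_RgammaZ j G)) e2.symm
  exact not_mem_support_of_isZero_restrict j _ hz2 y hx

end gammaZ

end Groth.Agent.Lib.H6xSuppPush
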