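import Groth.Agent.Lib.R2H3RpushQCohSep
import Groth.Agent.Lib.Helper23DerLES
import Groth.Prelude.Def_LocCohZ

/-!
# Quasi-coherence of the local cohomology sheaves of a quasi-coherent module (helper3, round 2)

For a quasi-compact open immersion `j : U ⟶ Y` with closed complement `Z` and a quasi-coherent
`O_Y`-module `M`, the sheaves `ℋ^q_Z(M) = R^q Γ_Z (M)` are quasi-coherent
(`isQuasicoherent_HZshM`): `ℋ^0_Z(M) = ker (M → j_* j^* M)`, `ℋ^1_Z(M) = coker (M → j_* j^* M)` and
`ℋ^{q+2}_Z(M) ≅ R^{q+1} j_* (j^* M)`.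
-/

set_option autoImplicit false
set_option linter.style.haveILetI false
set_option linter.unusedSectionVars false
set_option linter.unusedVariables false
universe u
open CategoryTheory CategoryTheory.Limits TopologicalSpace AlgebraicGeometry Opposite

namespace Groth.Agent.Lib.R2H3.LocCohQCoh

open Groth.Agent.Lib.R2H3.RpushRestrict Groth.Agent.Lib.R2H3.RpushQCohSep
  Groth.Agent.Lib.Helper23.QCohLocal

variable {U Y : Scheme.{u}} (j : U ⟶ Y) [IsOpenImmersion j]

/-- `Γ_Z ⟶ 𝟭`. -/
noncomputable def gι : DCoh.gammaZ j ⟶ 𝟭 Y.Modules where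
  app F := kernel.ι ((Scheme.Modules.restrictAdjunction j).unit.app F)
  naturality F G φ := by
    simp [DCoh.gammaZ]

/-- `j^* ⋙ j_*`. -/
noncomputable abbrev TT : Y.Modules ⥤ Y.Modules :=
  Scheme.Modules.restrictFunctor j ⋙ Scheme.Modules.pushforward j

/-- `𝟭 ⟶ j^* ⋙ j_*`. -/
noncomputable def gβ : 𝟭 Y.Modules ⟶ TT j := (Scheme.Modules.restrictAdjunction j).unit

theorem gw : gι j ≫ gβ j = 0 := by
  ext F : 2
  exact kernel.condition _

theorem epi_of_surjective_app {M N : Y.Modules} (φ : M ⟶ N)
    (h : ∀ V : Y.Opens, Function.Surjective (φ.app V)) : Epi φ := by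
  let f : (show SheafOfModules.{u} Y.ringCatSheaf from M) ⟶ N := φ
  haveI : Sheaf.IsLocallySurjective ((SheafOfModules.toSheaf Y.ringCatSheaf).map f) := by
    change Presheaf.IsLocallySurjective _ ((PresheafOfModules.toPresheaf _).map f.val)
    apply Presheaf.isLocallySurjective_of_surjective
    intro V s
    exact h V.unop s
  haveI : Epi ((SheafOfModules.toSheaf Y.ringCatSheaf).map f) :=
    (Sheaf.isLocallySurjective_iff_epi' AddCommGrpCat.{u} _).1 inferInstance
  exact (SheafOfModules.toSheaf Y.ringCatSheaf).epi_of_epi_map inferInstance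

/-- the unit `Q ⟶ j_* j^* Q` is an epimorphism for a flasque module `Q`. -/
theorem epi_unit_of_isFlasque (Q : Y.Modules) (hQ : TopCat.Sheaf.IsFlasque (Coh.toAb Q)) :
    Epi ((Scheme.Modules.restrictAdjunction j).unit.app Q) := by
  apply epi_of_surjective_app
  intro V
  rw [Scheme.Modules.restrictAdjunction_unit_app_app]
  have h := hQ.epi (homOfLE (j.image_preimage_le V)).op
  exact (AddCommGrpCat.epi_iff_surjective _).1 h

theorem hex (Q : Y.Modules) (hQ : Injective Q) :
    (ShortComplex.mk ((gι j).app Q) ((gβ j).app Q) (by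
      rw [← NatTrans.comp_app, gw]; rfl)).ShortExact := by
  haveI : Epi ((gβ j).app Q) := epi_unit_of_isFlasque j Q
    (Groth.Agent.Lib.R2H3.ModLocBridge.isFlasque_toAb_of_injective Q)
  haveI : Mono ((gι j).app Q) := by
    change Mono (kernel.ι _)
    infer_instance
  refine ShortComplex.ShortExact.mk ?_
  exact ShortComplex.exact_of_f_is_kernel _ (kernelIsKernel _)

/-- `Γ_Z` is left exact. -/
theorem preservesFiniteLimits_gammaZ : PreservesFiniteLimits (DCoh.gammaZ j) := by
  let Ef : SheafOfModules.{u} Y.ringCatSheaf ⥤ Sheaf (Opens.grothendieckTopology Y) AddCommGrpCat.{u} :=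
    SheafOfModules.toSheaf Y.ringCatSheaf
  let P : SheafOfModules.{u} Y.ringCatSheaf ⥤ SheafOfModules.{u} Y.ringCatSheaf := DCoh.gammaZ j
  let G : Sheaf (Opens.grothendieckTopology Y) AddCommGrpCat.{u} ⥤
      Sheaf (Opens.grothendieckTopology Y) AddCommGrpCat.{u} :=
    LocCohZ.sectSuppF (X := Y.carrier) j.opensRange
  have hG : PreservesFiniteLimits G :=
    Groth.Agent.Lib.Helper16.SectSupp.sectSuppF_preservesFiniteLimits (X := Y.carrier) j.opensRange
  haveI : PreservesFiniteLimits Ef := inferInstance
  haveI : Ef.ReflectsIsomorphisms := inferInstance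
  haveI : PreservesFiniteLimits (Ef ⋙ G) := comp_preservesFiniteLimits Ef G
  have e0 : P ⋙ Ef ≅ Ef ⋙ G := Groth.Agent.Lib.R2H3.ModLocBridge.gammaZIso j
  haveI : PreservesFiniteLimits (P ⋙ Ef) := preservesFiniteLimits_of_natIso e0.symm
  constructor
  intro J _ _
  haveI : ReflectsLimitsOfShape J Ef := reflectsLimitsOfShape_of_reflectsIsomorphisms
  exact preservesLimitsOfShape_of_reflects_of_preserves P Ef

theorem isZero_rightDerived_id (X : Y.Modules) [HasInjectiveResolutions Y.Modules] (n : ℕ) :
    IsZero (((𝟭 Y.Modules).rightDerived (n + 1)).obj X) := by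
  let I : InjectiveResolution X := injectiveResolution X
  refine IsZero.of_iso ?_ (I.isoRightDerivedObj (𝟭 Y.Modules) (n + 1))
  change IsZero ((((𝟭 Y.Modules).mapHomologicalComplex _).obj I.cocomplex).homology (n + 1))
  rw [← HomologicalComplex.exactAt_iff_isZero_homology,
    HomologicalComplex.exactAt_iff' _ n (n + 1) (n + 2) (by simp)
      (by simp only [CochainComplex.next]; rfl)]
  exact I.exact_succ n

section Main

variable [QuasiCompact j] [HasInjectiveResolutions Y.Modules]

open Groth.Agent.Lib.Helper23DerLES in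
/-- **Quasi-coherence of local cohomology sheaves.** -/
theorem isQuasicoherent_HZshM (M : Y.Modules) [M.IsQuasicoherent] (q : ℕ) :
    ((LocCohZ.HZshM j q).obj M).IsQuasicoherent := by
  haveI := hasInjectiveResolutions_modules U
  have := Groth.Agent.S0484.result (Opens.grothendieckTopology Y) Y.ringCatSheaf
  have := Groth.Agent.S0484.result (Opens.grothendieckTopology U) U.ringCatSheaf
  have : EnoughInjectives Y.Modules :=
    inferInstanceAs (EnoughInjectives (SheafOfModules.{u} Y.ringCatSheaf))
  have : EnoughInjectives U.Modules :=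
    inferInstanceAs (EnoughInjectives (SheafOfModules.{u} U.ringCatSheaf))
  haveI := restrictFunctor_isRightAdjoint j
  let E := Scheme.Modules.restrictFunctor j
  let G := Scheme.Modules.pushforward j
  haveI : PreservesFiniteLimits E := by infer_instance
  haveI : PreservesFiniteColimits E := by infer_instance
  haveI : E.PreservesHomology := by infer_instance
  haveI : PreservesFiniteLimits G := by infer_instance
  haveI : PreservesFiniteLimits (TT j) := comp_preservesFiniteLimits E G
  haveI : (M.restrict j).IsQuasicoherent := Scheme.Modules.isQuasicoherent_restrictFunctor j M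
  haveI hpush : ((Scheme.Modules.pushforward j).obj (M.restrict j)).IsQuasicoherent :=
    isQuasicoherent_pushforward j _
  haveI h1q : ((𝟭 Y.Modules).obj M).IsQuasicoherent := ‹M.IsQuasicoherent›
  haveI h2q : ((Scheme.Modules.restrictFunctor j ⋙ Scheme.Modules.pushforward j).obj
      M).IsQuasicoherent := hpush
  rcases q with _ | _ | n
  · -- degree 0 : the kernel of the unit
    haveI := preservesFiniteLimits_gammaZ j
    have e : ((DCoh.gammaZ j).rightDerived 0).obj M ≅ (DCoh.gammaZ j).obj M :=
      (Functor.rightDerivedZeroIsoSelf (DCoh.gammaZ j)).app M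
    exact (SheafOfModules.isQuasicoherent Y.ringCatSheaf).prop_of_iso e.symm
      (isQuasicoherent_kernel ((Scheme.Modules.restrictAdjunction j).unit.app M))
  · -- degree 1 : the cokernel of the unit
    have hz : IsZero (((𝟭 Y.Modules).rightDerived 1).obj M) := isZero_rightDerived_id M 0
    haveI := epi_γ_app (gι j) (gβ j) (gw j) (hex j) M hz
    have hc := (exact_β_γ_app (gι j) (gβ j) (gw j) (hex j) M).gIsCokernel
    let e : cokernel ((gβ j).app M) ≅ ((DCoh.gammaZ j).rightDerived 1).obj M :=
      IsColimit.coconePointUniqueUpToIso (cokernelIsCokernel ((gβ j).app M)) hc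
    exact (SheafOfModules.isQuasicoherent Y.ringCatSheaf).prop_of_iso e
      (isQuasicoherent_cokernel ((Scheme.Modules.restrictAdjunction j).unit.app M))
  · -- degree `n + 2` : `R^{n+1} j_* (j^* M)`
    haveI := isIso_δ (gι j) (gβ j) (gw j) (hex j) (n + 1)
      (fun X => isZero_rightDerived_id X n) (fun X => isZero_rightDerived_id X (n + 1))
    let e1 : ((TT j).rightDerived (n + 1)).obj M ≅ ((DCoh.gammaZ j).rightDerived (n + 2)).obj M :=
      asIso ((δ (gι j) (gβ j) (gw j) (hex j) (n + 1)).app M)
    have hE : ∀ I : Y.Modules, Injective I → ∀ q : ℕ, 0 < q →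
        IsZero ((G.rightDerived q).obj (E.obj I)) := by
      intro I hI q hq
      obtain ⟨q, rfl⟩ : ∃ k, q = k + 1 := ⟨q - 1, by omega⟩
      exact Groth.Agent.Lib.Helper21.RelExtSS.isZero_Rpush_of_isFlasque j _
        (isFlasque_toAb_restrict j I
          (Groth.Agent.Lib.R2H3.ModLocBridge.isFlasque_toAb_of_injective I)) q
    obtain ⟨e3⟩ := Groth.Agent.Lib.Helper21.DerAcyc.nonempty_rightDerived_comp_iso E G hE M (n + 1)
    have h := isQuasicoherent_Rpush_of_affineDiagonal j (M.restrict j) (n + 1)
    exact (SheafOfModules.isQuasicoherent Y.ringCatSheaf).prop_of_iso (e3.symm ≪≫ e1) h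

end Main

end Groth.Agent.Lib.R2H3.LocCohQCoh
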