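import Mathlib
import Groth.Agent.Lib.H6xSuppPushC
import Groth.Agent.Lib.H6xFlatPushKInj
import Groth.Agent.Lib.R2H3LocCohQCoh
set_option backward.isDefEq.respectTransparency.types false

/-!
# More on `Rj_*` and `RΓ_Z` for open immersions (helper6)

* `support_HD_Rpush'`, `support_HD_restrictD`
* `isZero_RgammaZ_Rpush` : `RΓ_Z (Rj_* H) = 0`
* `nonempty_Rpush_comp_iso_of_flat` : `R(f ≫ g)_* F ≅ Rg_* Rf_* F` for flat `f`
* `nonempty_iso_Rpush_of_isZero_RgammaZ` : `RΓ_Z G = 0 ⇒ G ≅ Rj_* (G|_U)`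
-/

set_option autoImplicit false
set_option linter.style.haveILetI false
universe u
open CategoryTheory CategoryTheory.Limits AlgebraicGeometry TopologicalSpace Opposite ZeroObject

attribute [local instance] HasDerivedCategory.standard

namespace Groth.Agent.Lib.H6xSuppPush

open Groth.Agent.Lib.H6xMV Groth.Agent.Lib.Helper17.KInj Groth.Agent.Lib.H6xRpushRes

section supp

variable {X Y : Scheme.{u}} (f : X ⟶ Y) [DCoh.HasRpush f]

theorem support_HD_Rpush' (V : Y.Opens) (Z : Set X)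
    (hW : ∀ w : ((f ⁻¹ᵁ V : X.Opens) : Scheme.{u}), (f ⁻¹ᵁ V).ι.base w ∉ Z) (E : DCoh.D X)
    (hE : ∀ i : ℤ, CohB1.support (DCoh.HD E i) ⊆ Z) (i : ℤ) :
    CohB1.support (DCoh.HD ((DCoh.Rpush f).obj E) i) ⊆ (V : Set Y)ᶜ := by
  intro y hy hyV
  have hyV' : y ∈ Set.range V.ι.base := by
    rw [Scheme.Opens.range_ι]; exact hyV
  obtain ⟨y', rfl⟩ := hyV'
  obtain ⟨e⟩ := Groth.Agent.Lib.H6xRpushRes.nonempty_iso f V
  have hz : IsZero ((DCoh.restrictD V.ι).obj ((DCoh.Rpush f).obj E)) :=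
    IsZero.of_iso (isZero_Rpush _ _ (isZero_restrictD (f ⁻¹ᵁ V).ι Z hW E hE)) (e.app E)
  obtain ⟨e2⟩ := nonempty_homology_mapDerivedCategory_iso
    (Scheme.Modules.restrictFunctor V.ι) ((DCoh.Rpush f).obj E) i
  have hz2 : IsZero ((Scheme.Modules.restrictFunctor V.ι).obj
      (DCoh.HD ((DCoh.Rpush f).obj E) i)) :=
    IsZero.of_iso (Functor.map_isZero _ hz) e2.symm
  exact not_mem_support_of_isZero_restrict V.ι _ hz2 y' hy

variable {W : Scheme.{u}} (ι : W ⟶ Y) [IsOpenImmersion ι]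

lemma mem_support_restrict_iff (M : Y.Modules) (t : W) :
    t ∈ CohB1.support ((Scheme.Modules.restrictFunctor ι).obj M) ↔ ι.base t ∈ CohB1.support M := by
  have e' := (Scheme.Modules.restrictStalkNatIso ι t).app M
  have eq : (((Scheme.Modules.restrictFunctor ι).obj M).presheaf.stalk t) ≃
      (M.presheaf.stalk (ι.base t)) := e'.addCommGroupIsoToAddEquiv.toEquiv
  change ¬ Subsingleton _ ↔ ¬ Subsingleton _
  rw [not_iff_not]
  exact ⟨fun _ => eq.symm.subsingleton, fun _ => eq.subsingleton⟩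

lemma mem_support_HD_restrictD_iff [PreservesFiniteLimits (Scheme.Modules.restrictFunctor ι)]
    (G : DCoh.D Y) (i : ℤ) (t : W) :
    t ∈ CohB1.support (DCoh.HD ((DCoh.restrictD ι).obj G) i) ↔
      ι.base t ∈ CohB1.support (DCoh.HD G i) := by
  obtain ⟨e2⟩ := nonempty_homology_mapDerivedCategory_iso
    (Scheme.Modules.restrictFunctor ι) G i
  have h := support_eq_of_iso e2
  change t ∈ CohB1.support ((DerivedCategory.homologyFunctor _ i).obj
    ((Scheme.Modules.restrictFunctor ι).mapDerivedCategory.obj G)) ↔ _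
  rw [h]
  exact mem_support_restrict_iff ι _ t

end supp

section claimA

variable {W Y : Scheme.{u}} (ι : W ⟶ Y) [IsOpenImmersion ι]

instance isIso_unit_app_pushforward (M : W.Modules) :
    IsIso ((Scheme.Modules.restrictAdjunction ι).unit.app
      ((Scheme.Modules.pushforward ι).obj M)) := by
  have h := (Scheme.Modules.restrictAdjunction ι).right_triangle_components M
  exact IsIso.of_isIso_fac_right h

lemma isZero_gammaZ_pushforward (M : W.Modules) :
    IsZero ((DCoh.gammaZ ι).obj ((Scheme.Modules.pushforward ι).obj M)) :=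
  isZero_kernel_of_mono _

variable [CxOX.HasRgammaZ ι] [DCoh.HasRpush ι]

/-- `RΓ_Z (Rj_* H) = 0` -/
lemma isZero_RgammaZ_Rpush (H : DCoh.D W) :
    IsZero ((CxOX.RgammaZ ι).obj ((DCoh.Rpush ι).obj H)) := by
  obtain ⟨I, hI, -, ⟨eI⟩⟩ := exists_kInjective_iso' H
  have e1 : (DCoh.Rpush ι).obj H ≅ DerivedCategory.Q.obj
      (((Scheme.Modules.pushforward ι).mapHomologicalComplex (ComplexShape.up ℤ)).obj I) :=
    (DCoh.Rpush ι).mapIso eI.symm ≪≫ (rdIso (Scheme.Modules.pushforward ι) I).symm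
  haveI := Groth.Agent.Lib.H6xFlatPush.isKInjective_pushforward ι I
  have e2 := (rdIso (DCoh.gammaZ ι)
    (((Scheme.Modules.pushforward ι).mapHomologicalComplex (ComplexShape.up ℤ)).obj I)).symm
  refine IsZero.of_iso (DerivedCategory.Q.map_isZero ?_) ((CxOX.RgammaZ ι).mapIso e1 ≪≫ e2)
  rw [IsZero.iff_id_eq_zero]
  apply HomologicalComplex.hom_ext
  intro n
  exact (isZero_gammaZ_pushforward ι (I.X n)).eq_of_src _ _

end claimA

section comp

variable {X Y Z : Scheme.{u}} (f : X ⟶ Y) [Flat f] (g : Y ⟶ Z) (h : X ⟶ Z) (hfg : f ≫ g = h)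
  [DCoh.HasRpush f] [DCoh.HasRpush g] [DCoh.HasRpush h]

include hfg in
/-- `R(f ≫ g)_* F ≅ Rg_* Rf_* F` for flat `f` -/
lemma nonempty_Rpush_comp_iso_of_flat (F : DCoh.D X) :
    Nonempty ((DCoh.Rpush h).obj F ≅ (DCoh.Rpush g).obj ((DCoh.Rpush f).obj F)) := by
  subst hfg
  obtain ⟨I, hI, -, ⟨eI⟩⟩ := exists_kInjective_iso' F
  haveI := Groth.Agent.Lib.H6xFlatPush.isKInjective_pushforward f I
  have e1 : (DCoh.Rpush (f ≫ g)).obj F ≅ DerivedCategory.Q.obj
      (((Scheme.Modules.pushforward (f ≫ g)).mapHomologicalComplex (ComplexShape.up ℤ)).obj I) :=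
    (DCoh.Rpush (f ≫ g)).mapIso eI.symm ≪≫ (rdIso (Scheme.Modules.pushforward (f ≫ g)) I).symm
  have e2 : ((Scheme.Modules.pushforward (f ≫ g)).mapHomologicalComplex (ComplexShape.up ℤ)).obj I ≅
      ((Scheme.Modules.pushforward g).mapHomologicalComplex (ComplexShape.up ℤ)).obj
        (((Scheme.Modules.pushforward f).mapHomologicalComplex (ComplexShape.up ℤ)).obj I) :=
    (NatIso.mapHomologicalComplex (Scheme.Modules.pushforwardComp f g).symm
      (ComplexShape.up ℤ)).app I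
  have e3 := rdIso (Scheme.Modules.pushforward g)
    (((Scheme.Modules.pushforward f).mapHomologicalComplex (ComplexShape.up ℤ)).obj I)
  have e4 : DerivedCategory.Q.obj
      (((Scheme.Modules.pushforward f).mapHomologicalComplex (ComplexShape.up ℤ)).obj I) ≅
      (DCoh.Rpush f).obj F :=
    rdIso (Scheme.Modules.pushforward f) I ≪≫ (DCoh.Rpush f).mapIso eI
  exact ⟨e1 ≪≫ DerivedCategory.Q.mapIso e2 ≪≫ e3 ≪≫ (DCoh.Rpush g).mapIso e4⟩

end comp

section claimC

open Pretriangulated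

variable {W Y : Scheme.{u}} (ι : W ⟶ Y) [IsOpenImmersion ι]
  [CxOX.HasRgammaZ ι] [DCoh.HasRpush ι]
  [PreservesFiniteLimits (Scheme.Modules.restrictFunctor ι)]

/-- `RΓ_Z G = 0 ⇒ G ≅ Rj_* (G|_U)` -/
lemma nonempty_iso_Rpush_of_isZero_RgammaZ (G : DCoh.D Y)
    (hG : IsZero ((CxOX.RgammaZ ι).obj G)) :
    Nonempty (G ≅ (DCoh.Rpush ι).obj ((DCoh.restrictD ι).obj G)) := by
  obtain ⟨I, hI, hinj, ⟨eI⟩⟩ := exists_kInjective_iso' G
  let S : ShortComplex (CochainComplex Y.Modules ℤ) :=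
    { X₁ := ((DCoh.gammaZ ι).mapHomologicalComplex (ComplexShape.up ℤ)).obj I
      X₂ := I
      X₃ := ((P ι).mapHomologicalComplex (ComplexShape.up ℤ)).obj I
      f := { f := fun n => (Groth.Agent.Lib.R2H3.LocCohQCoh.gι ι).app (I.X n)
             comm' := fun a b _ =>
               ((Groth.Agent.Lib.R2H3.LocCohQCoh.gι ι).naturality (I.d a b)).symm }
      g := { f := fun n => (Scheme.Modules.restrictAdjunction ι).unit.app (I.X n)
             comm' := fun a b _ =>
               ((Scheme.Modules.restrictAdjunction ι).unit.naturality (I.d a b)).symm }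
      zero := by
        apply HomologicalComplex.hom_ext
        intro n
        exact kernel.condition _ }
  have hS : S.ShortExact := by
    apply HomologicalComplex.shortExact_of_degreewise_shortExact
    intro n
    exact Groth.Agent.Lib.R2H3.LocCohQCoh.hex ι (I.X n) (hinj n)
  have hT := DerivedCategory.triangleOfSES_distinguished hS
  have hz : IsZero (DerivedCategory.triangleOfSES hS).obj₁ :=
    IsZero.of_iso hG (rdIso (DCoh.gammaZ ι) I ≪≫ (CxOX.RgammaZ ι).mapIso eI)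
  have hiso : IsIso (DerivedCategory.triangleOfSES hS).mor₂ :=
    (Triangle.isZero₁_iff_isIso₂ _ hT).1 hz
  exact ⟨eI.symm ≪≫ @asIso _ _ _ _ (DerivedCategory.triangleOfSES hS).mor₂ hiso ≪≫
    pushResIso ι I eI⟩

end claimC

end Groth.Agent.Lib.H6xSuppPush
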