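import Mathlib
import Groth.Prelude.Def_KZero

/-!
# Generalities on `K0sub` (helper2, round 2)

* `clSub_of_prop`, `clSub_shortExact`, `clSub_of_isZero`, `clSub_of_iso`
* `K0sub_induction`, `liftAdd`, `liftAdd_clSub`
* `clSub_coprod_const`: `[L^b] = b • [L]`
* `alternating_sum_eq_zero`: the alternating sum of the classes of a bounded exact complex is zero
* `les_euler_finrank`: additivity of the Euler characteristic along a long exact sequence
-/

set_option autoImplicit false
set_option linter.style.haveILetI false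
universe v u w

namespace Groth.Agent.Lib.R2H2.K0Gen

open CategoryTheory CategoryTheory.Limits KZero ZeroObject

section Basic

variable {A : Type u} [Category.{v} A] [Abelian A] (P : ObjectProperty A)

theorem clSub_of_prop {X : A} (h : P X) :
    clSub P X = QuotientAddGroup.mk (FreeAbelianGroup.of ⟨X, h⟩) := by
  classical
  unfold clSub
  rw [dif_pos h]

theorem clSub_shortExact (S : ShortComplex A) (hS : S.ShortExact) (h₁ : P S.X₁) (h₂ : P S.X₂)
    (h₃ : P S.X₃) : clSub P S.X₂ = clSub P S.X₁ + clSub P S.X₃ := by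
  rw [clSub_of_prop P h₁, clSub_of_prop P h₂, clSub_of_prop P h₃]
  have hmem : (FreeAbelianGroup.of (⟨S.X₂, h₂⟩ : Subtype P) - FreeAbelianGroup.of ⟨S.X₁, h₁⟩ -
      FreeAbelianGroup.of ⟨S.X₃, h₃⟩) ∈ relSub P :=
    AddSubgroup.subset_closure ⟨S, h₁, h₂, h₃, hS, rfl⟩
  have h0 := (QuotientAddGroup.eq_zero_iff _).2 hmem
  rw [QuotientAddGroup.mk_sub, QuotientAddGroup.mk_sub, sub_sub, sub_eq_zero] at h0
  exact h0

theorem clSub_of_isZero {X : A} (hX : IsZero X) (hP : P X) : clSub P X = 0 := by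
  let S : ShortComplex A := ShortComplex.mk (0 : X ⟶ X) (0 : X ⟶ X) (by simp)
  have hS : S.ShortExact :=
    { exact := ShortComplex.exact_of_isZero_X₂ _ hX
      mono_f := ⟨fun _ _ _ => hX.eq_of_tgt _ _⟩
      epi_g := ⟨fun _ _ _ => hX.eq_of_src _ _⟩ }
  have h' : clSub P X = clSub P X + clSub P X := clSub_shortExact P S hS hP hP hP
  have := congrArg (fun t => t - clSub P X) h'
  simpa using this.symm

theorem clSub_of_iso (hz : ∀ Z : A, IsZero Z → P Z) {X Y : A} (e : X ≅ Y) (hX : P X) (hY : P Y) :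
    clSub P X = clSub P Y := by
  let S : ShortComplex A := ShortComplex.mk e.hom (0 : Y ⟶ 0) (by simp)
  have hS : S.ShortExact :=
    { exact := by
        have : Epi S.f := by dsimp [S]; infer_instance
        exact (ShortComplex.exact_iff_epi _ rfl).2 this
      mono_f := by dsimp [S]; infer_instance
      epi_g := ⟨fun _ _ _ => (isZero_zero A).eq_of_src _ _⟩ }
  have h := clSub_shortExact P S hS hX hY (hz _ (isZero_zero A))
  rw [clSub_of_isZero P (isZero_zero A) (hz _ (isZero_zero A)), add_zero] at h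
  exact h.symm

theorem K0sub_induction (H : AddSubgroup (K0sub P)) (h : ∀ (X : A), P X → clSub P X ∈ H)
    (x : K0sub P) : x ∈ H := by
  induction x using QuotientAddGroup.induction_on with
  | H z =>
    induction z using FreeAbelianGroup.induction_on with
    | zero => exact H.zero_mem
    | of X =>
      obtain ⟨X, hX⟩ := X
      have h1 := h X hX
      rw [clSub_of_prop P hX] at h1
      exact h1
    | neg X hX =>
      rw [QuotientAddGroup.mk_neg]
      exact H.neg_mem hX
    | add x y hx hy =>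
      rw [QuotientAddGroup.mk_add]
      exact H.add_mem hx hy

variable {G : Type w} [AddCommGroup G]

/-- the homomorphism out of `K0sub P` attached to an additive function -/
noncomputable def liftAdd (f : A → G)
    (hf : ∀ S : ShortComplex A, S.ShortExact → P S.X₁ → P S.X₂ → P S.X₃ →
      f S.X₂ = f S.X₁ + f S.X₃) : K0sub P →+ G :=
  QuotientAddGroup.lift (relSub P)
    (FreeAbelianGroup.lift (fun X : Subtype P => f X.1)) (by
    rw [relSub, AddSubgroup.closure_le]
    rintro x ⟨S, h₁, h₂, h₃, hS, rfl⟩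
    rw [SetLike.mem_coe, AddMonoidHom.mem_ker, map_sub, map_sub, FreeAbelianGroup.lift_apply_of,
      FreeAbelianGroup.lift_apply_of, FreeAbelianGroup.lift_apply_of]
    change f S.X₂ - f S.X₁ - f S.X₃ = 0
    rw [hf S hS h₁ h₂ h₃]
    abel)

theorem liftAdd_clSub (f : A → G)
    (hf : ∀ S : ShortComplex A, S.ShortExact → P S.X₁ → P S.X₂ → P S.X₃ →
      f S.X₂ = f S.X₁ + f S.X₃) {X : A} (hX : P X) :
    liftAdd P f hf (clSub P X) = f X := by
  rw [clSub_of_prop P hX]
  unfold liftAdd
  rw [QuotientAddGroup.lift_mk, FreeAbelianGroup.lift_apply_of]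

end Basic

section Coprod

variable {A : Type u} [Category.{v} A] [Abelian A] (P : ObjectProperty A)

/-- the split short exact sequence `0 → L^b → L^(b+1) → L → 0` -/
theorem shortExact_coprod_succ (L : A) (b : ℕ) :
    ∃ (f : (∐ fun _ : Fin b => L) ⟶ ∐ fun _ : Fin (b + 1) => L)
      (g : (∐ fun _ : Fin (b + 1) => L) ⟶ L) (w : f ≫ g = 0),
      (ShortComplex.mk f g w).ShortExact := by
  let f : (∐ fun _ : Fin b => L) ⟶ ∐ fun _ : Fin (b + 1) => L :=
    Limits.Sigma.desc (fun j => Limits.Sigma.ι (fun _ : Fin (b + 1) => L) j.castSucc)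
  let g : (∐ fun _ : Fin (b + 1) => L) ⟶ L :=
    Limits.Sigma.desc (Fin.lastCases (motive := fun _ => L ⟶ L) (𝟙 L) (fun _ => 0))
  let r : (∐ fun _ : Fin (b + 1) => L) ⟶ ∐ fun _ : Fin b => L :=
    Limits.Sigma.desc (Fin.lastCases (motive := fun _ => L ⟶ ∐ fun _ : Fin b => L) 0
      (fun j => Limits.Sigma.ι (fun _ : Fin b => L) j))
  let s : L ⟶ ∐ fun _ : Fin (b + 1) => L := Limits.Sigma.ι (fun _ : Fin (b + 1) => L) (Fin.last b)
  have hιf : ∀ j : Fin b, Limits.Sigma.ι (fun _ : Fin b => L) j ≫ f =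
      Limits.Sigma.ι (fun _ : Fin (b + 1) => L) j.castSucc := fun j => by
    simp [f]
  have hιg_last : Limits.Sigma.ι (fun _ : Fin (b + 1) => L) (Fin.last b) ≫ g = 𝟙 L := by
    simp [g]
  have hιg_cast : ∀ j : Fin b, Limits.Sigma.ι (fun _ : Fin (b + 1) => L) j.castSucc ≫ g = 0 :=
    fun j => by simp [g]
  have hιr_last : Limits.Sigma.ι (fun _ : Fin (b + 1) => L) (Fin.last b) ≫ r = 0 := by
    simp [r]
  have hιr_cast : ∀ j : Fin b, Limits.Sigma.ι (fun _ : Fin (b + 1) => L) j.castSucc ≫ r =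
      Limits.Sigma.ι (fun _ : Fin b => L) j := fun j => by simp [r]
  have w : f ≫ g = 0 := by
    apply Limits.Sigma.hom_ext
    intro j
    rw [← Category.assoc, hιf, hιg_cast, comp_zero]
  refine ⟨f, g, w, ?_⟩
  let σ : (ShortComplex.mk f g w).Splitting :=
    { r := r
      s := s
      f_r := by
        apply Limits.Sigma.hom_ext
        intro j
        change Limits.Sigma.ι (fun _ : Fin b => L) j ≫ f ≫ r = _ ≫ 𝟙 _
        rw [← Category.assoc, hιf, hιr_cast, Category.comp_id]
      s_g := hιg_last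
      id := by
        apply Limits.Sigma.hom_ext
        intro j
        change Limits.Sigma.ι (fun _ : Fin (b + 1) => L) j ≫ (r ≫ f + g ≫ s) = _ ≫ 𝟙 _
        rw [Category.comp_id, Preadditive.comp_add, ← Category.assoc, ← Category.assoc]
        induction j using Fin.lastCases with
        | last => rw [hιr_last, hιg_last, zero_comp, zero_add, Category.id_comp]
        | cast j => rw [hιr_cast, hιg_cast, zero_comp, add_zero, hιf] }
  exact σ.shortExact

theorem clSub_coprod_const (hz : ∀ Z : A, IsZero Z → P Z) (L : A) (hL : P L)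
    (hP : ∀ b : ℕ, P (∐ fun _ : Fin b => L)) (b : ℕ) :
    clSub P (∐ fun _ : Fin b => L) = b • clSub P L := by
  induction b with
  | zero =>
    rw [zero_smul]
    apply clSub_of_isZero P _ (hP 0)
    rw [IsZero.iff_id_eq_zero]
    exact Limits.Sigma.hom_ext _ _ (fun j => Fin.elim0 j)
  | succ b ih =>
    obtain ⟨f, g, w, hS⟩ := shortExact_coprod_succ L b
    have h := clSub_shortExact P _ hS (hP b) (hP (b + 1)) hL
    change clSub P (∐ fun _ : Fin (b + 1) => L) = _ at h
    rw [h]
    change clSub P (∐ fun _ : Fin b => L) + clSub P L = _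
    rw [ih, succ_nsmul]

end Coprod

section Complex

variable {A : Type u} [Category.{v} A] [Abelian A] (P : ObjectProperty A)

/-- the short complex `ker f ⟶ X₁ ⟶ ker g` attached to `X₁ -f→ X₂ -g→ X₃`. -/
noncomputable def kerS (S : ShortComplex A) : ShortComplex A :=
  ShortComplex.mk (kernel.ι S.f) (kernel.lift S.g S.f S.zero) (by
    rw [← cancel_mono (kernel.ι S.g), Category.assoc, kernel.lift_ι, kernel.condition, zero_comp])

theorem kerS_shortExact (S : ShortComplex A) (hS : S.Exact) : (kerS S).ShortExact := by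
  have : Mono (kerS S).f := by dsimp [kerS]; infer_instance
  have : Epi (kerS S).g := (ShortComplex.exact_iff_epi_kernel_lift _).1 hS
  refine ShortComplex.ShortExact.mk (ShortComplex.exact_of_f_is_kernel _ ?_)
  refine KernelFork.IsLimit.ofι _ _ (fun {W} (g : W ⟶ S.X₁) hg => kernel.lift S.f g ?_)
    (fun g hg => ?_) (fun g hg m hm => ?_)
  · have h : g ≫ kernel.lift S.g S.f S.zero = 0 := hg
    calc g ≫ S.f = g ≫ kernel.lift S.g S.f S.zero ≫ kernel.ι S.g := by rw [kernel.lift_ι]
      _ = 0 := by rw [← Category.assoc, h, zero_comp]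
  · exact kernel.lift_ι _ _ _
  · change _ ⟶ kernel S.f at m
    change _ ⟶ S.X₁ at g
    change m = kernel.lift S.f g _
    have h1 : m ≫ kernel.ι S.f = g := hm
    rw [← cancel_mono (kernel.ι S.f), h1, kernel.lift_ι]

theorem telescope {G : Type w} [AddCommGroup G] (z : ℤ → G) (N : ℕ) :
    ∑ i ∈ Finset.range (N + 1), (-1 : ℤ) ^ i • (z (i : ℤ) + z ((i : ℤ) + 1)) =
      z 0 + (-1 : ℤ) ^ N • z ((N : ℤ) + 1) := by
  induction N with
  | zero => simp
  | succ N ih =>
    rw [Finset.sum_range_succ, ih, pow_succ]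
    push_cast
    simp only [smul_add, neg_smul, mul_neg, mul_one]
    abel

/-- the alternating sum of the classes of the terms of a bounded exact complex vanishes -/
theorem alternating_sum_eq_zero (hz : ∀ Z : A, IsZero Z → P Z)
    (hker : ∀ {X Y : A} (f : X ⟶ Y), P X → P Y → P (kernel f))
    (C : CochainComplex A ℤ) (hex : ∀ i : ℤ, C.ExactAt i) (hP : ∀ i : ℤ, P (C.X i)) (N : ℕ)
    (hb : ∀ i : ℤ, i < 0 ∨ (N : ℤ) < i → IsZero (C.X i)) :
    ∑ i ∈ Finset.range (N + 1), (-1 : ℤ) ^ i • clSub P (C.X (i : ℤ)) = 0 := by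
  let z : ℤ → K0sub P := fun i => clSub P (kernel (C.d i (i + 1)))
  have hPk : ∀ i : ℤ, P (kernel (C.d i (i + 1))) := fun i => hker _ (hP i) (hP (i + 1))
  have hrel : ∀ i : ℤ, clSub P (C.X i) = z i + z (i + 1) := fun i => by
    have hS : (C.sc' i (i + 1) (i + 1 + 1)).Exact :=
      (C.exactAt_iff' i (i + 1) (i + 1 + 1) (by simp) (by simp)).1 (hex (i + 1))
    exact clSub_shortExact P _ (kerS_shortExact _ hS) (hPk i) (hP i) (hPk (i + 1))
  have hz0 : ∀ i : ℤ, IsZero (C.X (i - 1)) → z i = 0 := fun i hi => by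
    have hS : (C.sc' (i - 1) i (i + 1)).Exact :=
      (C.exactAt_iff' (i - 1) i (i + 1) (by simp) (by simp)).1 (hex i)
    have hf : (C.sc' (i - 1) i (i + 1)).f = 0 := hi.eq_of_src _ _
    have hm : Mono (C.d i (i + 1)) := (ShortComplex.exact_iff_mono _ hf).1 hS
    exact clSub_of_isZero P (isZero_kernel_of_mono _) (hPk i)
  have hz1 : ∀ i : ℤ, IsZero (C.X i) → z i = 0 := fun i hi =>
    clSub_of_isZero P (IsZero.of_mono (kernel.ι (C.d i (i + 1))) hi) (hPk i)
  rw [Finset.sum_congr rfl (fun i _ => by rw [hrel (i : ℤ)]), telescope z N,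
    hz0 0 (hb _ (Or.inl (by norm_num))), hz1 _ (hb _ (Or.inr (by omega))), smul_zero, add_zero]

end Complex

section Euler

variable {k : Type u} [Field k]

theorem telescopeZ (κ : ℕ → ℤ) (d : ℕ) :
    ∑ i ∈ Finset.range (d + 1), (-1 : ℤ) ^ i * (κ i + κ (i + 1)) =
      κ 0 + (-1 : ℤ) ^ d * κ (d + 1) := by
  induction d with
  | zero => simp
  | succ d ih =>
    rw [Finset.sum_range_succ, ih, pow_succ]
    ring

/-- additivity of the Euler characteristic along a long exact sequence of finite-dimensional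
vector spaces -/
theorem les_euler_finrank (A B C : ℕ → Type w) [∀ i, AddCommGroup (A i)] [∀ i, Module k (A i)]
    [∀ i, AddCommGroup (B i)] [∀ i, Module k (B i)] [∀ i, AddCommGroup (C i)]
    [∀ i, Module k (C i)] [∀ i, Module.Finite k (A i)] [∀ i, Module.Finite k (B i)]
    [∀ i, Module.Finite k (C i)]
    (α : ∀ i, A i →ₗ[k] B i) (β : ∀ i, B i →ₗ[k] C i) (δ : ∀ i, C i →ₗ[k] A (i + 1))
    (h0 : Function.Injective (α 0))
    (h1 : ∀ i, Function.Exact (α i) (β i)) (h2 : ∀ i, Function.Exact (β i) (δ i))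
    (h3 : ∀ i, Function.Exact (δ i) (α (i + 1))) (d : ℕ) (hd : Subsingleton (A (d + 1))) :
    ∑ i ∈ Finset.range (d + 1), (-1 : ℤ) ^ i * (Module.finrank k (B i) : ℤ) =
      ∑ i ∈ Finset.range (d + 1), (-1 : ℤ) ^ i * (Module.finrank k (A i) : ℤ) +
        ∑ i ∈ Finset.range (d + 1), (-1 : ℤ) ^ i * (Module.finrank k (C i) : ℤ) := by
  let κ : ℕ → ℤ := fun i => (Module.finrank k (LinearMap.ker (α i)) : ℤ)
  have key : ∀ i, (Module.finrank k (A i) : ℤ) + Module.finrank k (C i) -
      Module.finrank k (B i) = κ i + κ (i + 1) := by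
    intro i
    have e1 := LinearMap.finrank_range_add_finrank_ker (α i)
    have e2 := LinearMap.finrank_range_add_finrank_ker (β i)
    have e3 := LinearMap.finrank_range_add_finrank_ker (δ i)
    rw [(LinearMap.exact_iff.1 (h1 i))] at e2
    rw [(LinearMap.exact_iff.1 (h2 i)), ← (LinearMap.exact_iff.1 (h3 i))] at e3
    dsimp only [κ]
    omega
  have hκ0 : κ 0 = 0 := by
    dsimp only [κ]
    rw [LinearMap.ker_eq_bot.2 h0, finrank_bot]
    rfl
  have hκd : κ (d + 1) = 0 := by
    dsimp only [κ]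
    have : Subsingleton (LinearMap.ker (α (d + 1))) :=
      ⟨fun x y => Subtype.ext (Subsingleton.elim _ _)⟩
    rw [Module.finrank_zero_of_subsingleton]
    rfl
  have h4 := telescopeZ κ d
  rw [hκ0, hκd, mul_zero, add_zero] at h4
  have h5 : ∑ i ∈ Finset.range (d + 1), (-1 : ℤ) ^ i * (Module.finrank k (A i) : ℤ) +
      ∑ i ∈ Finset.range (d + 1), (-1 : ℤ) ^ i * (Module.finrank k (C i) : ℤ) -
      ∑ i ∈ Finset.range (d + 1), (-1 : ℤ) ^ i * (Module.finrank k (B i) : ℤ) = 0 := by
    rw [← h4, ← Finset.sum_add_distrib, ← Finset.sum_sub_distrib]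
    apply Finset.sum_congr rfl
    intro i _
    rw [← key i]
    ring
  linarith

end Euler

end Groth.Agent.Lib.R2H2.K0Gen
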