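import Groth.Agent.Lib.Helper23PB
import Groth.Agent.Lib.Helper2LocFree
import Groth.Agent.Lib.Helper1Sky4
import Groth.Agent.Lib.R2H2K0Gen
import Groth.Prelude.Def_KRR

/-!
# Pull-back on `K₀` of finite locally free modules (helper2, round 2)

* `isFinLocFree_pullback` : the pullback of a finite locally free module is finite locally free
  (light proof: restriction to `f⁻¹ U`, `f^*` commutes with finite coproducts and preserves the unit)
* `isFlat_of_isFinLocFree`
* `pullK f : Kvb Y →+ Kvb X`, `pullK_cl`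
-/

set_option autoImplicit false
universe u

namespace Groth.Agent.Lib.R2H2.PullLF

open CategoryTheory CategoryTheory.Limits AlgebraicGeometry TopologicalSpace Opposite

variable {X Y : Scheme.{u}} (f : X ⟶ Y)

/-- `f^*` of a free module of finite rank is free of the same rank -/
noncomputable def pullbackFreeIso (n : ℕ) :
    (Scheme.Modules.pullback f).obj (FlatMod.freeMod Y n) ≅ FlatMod.freeMod X n :=
  PreservesCoproduct.iso (Scheme.Modules.pullback f) (fun _ : Fin n => Coh.structureModule Y) ≪≫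
    Sigma.mapIso (fun _ : Fin n => Groth.Agent.Lib.Helper23.PB.pullbackUnitIso f)

theorem isFinLocFree_pullback (F : Y.Modules) (hF : FlatMod.IsFinLocFree F) :
    FlatMod.IsFinLocFree ((Scheme.Modules.pullback f).obj F) := by
  intro x'
  obtain ⟨U, n, hxU, ⟨e⟩⟩ := hF (f x')
  refine ⟨f ⁻¹ᵁ U, n, hxU, ⟨?_⟩⟩
  have hsq : (f ⁻¹ᵁ U).ι ≫ f = (f ∣_ U) ≫ U.ι := (morphismRestrict_ι f U).symm
  exact (Scheme.Modules.restrictFunctorIsoPullback (f ⁻¹ᵁ U).ι).app _ ≪≫
    (Scheme.Modules.pullbackComp (f ⁻¹ᵁ U).ι f).app F ≪≫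
    (Scheme.Modules.pullbackCongr hsq).app F ≪≫
    ((Scheme.Modules.pullbackComp (f ∣_ U) U.ι).app F).symm ≪≫
    (Scheme.Modules.pullback (f ∣_ U)).mapIso
      (((Scheme.Modules.restrictFunctorIsoPullback U.ι).app F).symm ≪≫ e) ≪≫
    pullbackFreeIso (f ∣_ U) n

theorem isQuasicoherent_of_isFinLocFree (F : Y.Modules) (hF : FlatMod.IsFinLocFree F) :
    F.IsQuasicoherent := by
  have hFfp : CohB1.IsFP F := Groth.Agent.Lib.Helper2.LocFree.isFP_of_isFinLocFree F hF
  haveI : SheafOfModules.IsFinitePresentation (R := Y.ringCatSheaf) F := hFfp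
  exact { nonempty_quasicoherentData :=
      ⟨(SheafOfModules.IsFinitePresentation.exists_quasicoherentData (R := Y.ringCatSheaf) F).choose⟩ }

theorem isFlat_of_isFinLocFree (F : Y.Modules) (hF : FlatMod.IsFinLocFree F) : FlatMod.IsFlat F := by
  haveI := isQuasicoherent_of_isFinLocFree F hF
  exact Groth.Agent.Lib.Helper2.LocFree.isFlat_of_isFinLocFree F hF

theorem cl_pullback_shortExact (S : ShortComplex Y.Modules) (hS : S.ShortExact)
    (h₁ : KRR.vbP Y S.X₁) (h₂ : KRR.vbP Y S.X₂) (h₃ : KRR.vbP Y S.X₃) :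
    KRR.cl X ((Scheme.Modules.pullback f).obj S.X₂) =
      KRR.cl X ((Scheme.Modules.pullback f).obj S.X₁) +
        KRR.cl X ((Scheme.Modules.pullback f).obj S.X₃) := by
  have hfl := isFlat_of_isFinLocFree S.X₃ h₃
  have hS' := Groth.Agent.Lib.Helper1.Sky.shortExact_map_pullback f S hS hfl
  exact Groth.Agent.Lib.R2H2.K0Gen.clSub_shortExact (KRR.vbP X) _ hS'
    (isFinLocFree_pullback f _ h₁) (isFinLocFree_pullback f _ h₂) (isFinLocFree_pullback f _ h₃)

/-- the pull-back `f^K : K(Y) → K(X)` on `K₀` of finite locally free modules -/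
noncomputable def pullK : SGA6.Kvb Y →+ SGA6.Kvb X :=
  Groth.Agent.Lib.R2H2.K0Gen.liftAdd (KRR.vbP Y)
    (fun E => KRR.cl X ((Scheme.Modules.pullback f).obj E)) (cl_pullback_shortExact f)

theorem pullK_cl (E : Y.Modules) (hE : FlatMod.IsFinLocFree E) :
    pullK f (KRR.cl Y E) = KRR.cl X ((Scheme.Modules.pullback f).obj E) :=
  Groth.Agent.Lib.R2H2.K0Gen.liftAdd_clSub (KRR.vbP Y) _ (cl_pullback_shortExact f) hE

/-- two additive maps out of `Kvb Y` agreeing on classes of bundles are equal -/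
theorem hom_ext_cl {G : Type*} [AddCommGroup G] (a b : SGA6.Kvb Y →+ G)
    (h : ∀ E : Y.Modules, FlatMod.IsFinLocFree E → a (KRR.cl Y E) = b (KRR.cl Y E)) : a = b := by
  refine AddMonoidHom.ext fun x => ?_
  have hmem : x ∈ AddMonoidHom.eqLocus a b :=
    Groth.Agent.Lib.R2H2.K0Gen.K0sub_induction (KRR.vbP Y) _ (fun E hE => h E hE) x
  exact hmem

end Groth.Agent.Lib.R2H2.PullLF
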