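import Groth.Agent.Lib.Helper26ModLim2
import Groth.Agent.Lib.Helper26ModLocFree
import Groth.Agent.Lib.Helper20LocFree
import Groth.Agent.Lib.R2H2PullLF
import Groth.Agent.Lib.Helper23QCohExt
import Groth.Agent.Lib.Helper23FinType2
import Groth.Agent.Lib.Helper23FinType
import Groth.Agent.Lib.Helper23FinTypeLocal
import Groth.Agent.Lib.Helper23QCohAbelian
import Groth.Agent.Lib.Helper23TensorQCoh
import Groth.Agent.Lib.Helper17Res5
import Groth.Prelude.Def_KRR
set_option backward.isDefEq.respectTransparency.types false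

/-!
# Projective dimension of coherent modules relative to a finite affine cover, and the
resolution theorem `K₀(vb) ≃ K₀(coherent of finite pd)` (helper2, round 2)

* `shortExact_ΓUF` : sections over an affine open are exact on quasi-coherent modules.
* `PdLT s M n` : `pd Γ(V, M) < n` for every affine open `V` of the finite family `s`.
* `isFinLocFree_of_pdLT_one`, `pdLT_one_of_isFinLocFree`.
* chain complex lemmas `shortExact_cycles`, `shortExact_cycles_one`, `shortExact_aug`.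
* `P1 s` : coherent of finite pd; `hyp`, `h3` and `bijective_mapSub_P1`.
-/

set_option autoImplicit false
universe v u

open CategoryTheory CategoryTheory.Limits AlgebraicGeometry TopologicalSpace Opposite
open Groth.Agent.Lib.Helper20.Thickening Groth.Agent.Lib.Helper26.ModSec

namespace Groth.Agent.Lib.R2H2.PdSheaf

/-! ### general abelian lemmas -/
section Abel

variable {C : Type u} [Category.{v} C] [Abelian C]

/-- a short exact sequence from a kernel and an epi-mono factorization. -/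
theorem shortExact_of_factor {K E F B : C} (k : K ⟶ E) (f : E ⟶ F) (w : k ≫ f = 0)
    (hk : IsLimit (KernelFork.ofι k w)) (l : E ⟶ B) (m : B ⟶ F) [Epi l] [Mono m]
    (hf : l ≫ m = f) (w' : k ≫ l = 0) : (ShortComplex.mk k l w').ShortExact := by
  haveI : Mono k := mono_of_isLimit_fork hk
  haveI : Mono (ShortComplex.mk k l w').f := by change Mono k; infer_instance
  haveI : Epi (ShortComplex.mk k l w').g := by change Epi l; infer_instance
  exact ⟨ShortComplex.exact_of_f_is_kernel _ (isKernelOfComp m f hk w' hf)⟩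

variable (L : ChainComplex C ℕ)

theorem epi_toCycles_of_exactAt (i : ℕ) (h : L.ExactAt (i + 1)) :
    Epi (L.toCycles (i + 2) (i + 1)) :=
  Preadditive.epi_of_isZero_cokernel' _ (L.homologyIsCokernel (i + 2) (i + 1) (by simp))
    h.isZero_homology

theorem iCycles_toCycles (i : ℕ) : L.iCycles (i + 2) ≫ L.toCycles (i + 2) (i + 1) = 0 := by
  rw [← cancel_mono (L.iCycles (i + 1)), Category.assoc, HomologicalComplex.toCycles_i,
    HomologicalComplex.iCycles_d, zero_comp]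

/-- `0 → Z_{i+2} → L_{i+2} → Z_{i+1} → 0` when `L` is exact in degree `i + 1`. -/
theorem shortExact_cycles (i : ℕ) (h : L.ExactAt (i + 1)) :
    (ShortComplex.mk (L.iCycles (i + 2)) (L.toCycles (i + 2) (i + 1))
      (iCycles_toCycles L i)).ShortExact := by
  haveI := epi_toCycles_of_exactAt L i h
  exact shortExact_of_factor (L.iCycles (i + 2)) (L.d (i + 2) (i + 1))
    (L.iCycles_d (i + 2) (i + 1)) (L.cyclesIsKernel (i + 2) (i + 1) (by simp))
    (L.toCycles (i + 2) (i + 1)) (L.iCycles (i + 1)) (L.toCycles_i (i + 2) (i + 1)) _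

variable {L} {A : C} (e : L.homology 0 ≅ A)

/-- the augmentation `L₀ → A` induced by `H₀(L) ≅ A`. -/
noncomputable def aug : L.X 0 ⟶ A := L.pOpcycles 0 ≫ L.isoHomologyι₀.inv ≫ e.hom

instance epi_aug : Epi (aug e) := by unfold aug; infer_instance

theorem d_aug : L.d 1 0 ≫ aug e = 0 := by
  unfold aug
  rw [← Category.assoc, L.d_pOpcycles 1 0, zero_comp]

theorem exact_d_aug : (ShortComplex.mk (L.d 1 0) (aug e) (d_aug e)).Exact := by
  have h1 : (ShortComplex.mk (L.d 1 0) (L.pOpcycles 0) (L.d_pOpcycles 1 0)).Exact :=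
    ShortComplex.exact_of_g_is_cokernel _ (L.opcyclesIsCokernel 1 0 (by simp))
  refine ShortComplex.exact_of_iso ?_ h1
  exact ShortComplex.isoMk (Iso.refl _) (Iso.refl _) (L.isoHomologyι₀.symm ≪≫ e)
    (by simp) (by simp [aug])

/-- `0 → ker(L₀ → A) → L₀ → A → 0`. -/
theorem shortExact_aug :
    (ShortComplex.mk (kernel.ι (aug e)) (aug e) (kernel.condition _)).ShortExact :=
  Groth.Agent.Lib.Helper17.Res.kernel_shortExact (aug e)

/-- the lift `L₁ → ker(L₀ → A)`. -/
noncomputable def augLift : L.X 1 ⟶ kernel (aug e) := kernel.lift (aug e) (L.d 1 0) (d_aug e)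

instance epi_augLift : Epi (augLift e) :=
  (ShortComplex.exact_iff_epi_kernel_lift (S := ShortComplex.mk (L.d 1 0) (aug e) (d_aug e))).1
    (exact_d_aug e)

theorem iCycles_augLift : L.iCycles 1 ≫ augLift e = 0 := by
  rw [← cancel_mono (kernel.ι (aug e)), Category.assoc]
  unfold augLift
  rw [kernel.lift_ι, L.iCycles_d, zero_comp]

/-- `0 → Z₁ → L₁ → ker(L₀ → A) → 0`. -/
theorem shortExact_cycles_one :
    (ShortComplex.mk (L.iCycles 1) (augLift e) (iCycles_augLift e)).ShortExact :=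
  shortExact_of_factor (L.iCycles 1) (L.d 1 0) (L.iCycles_d 1 0)
    (L.cyclesIsKernel 1 0 (by simp)) (augLift e) (kernel.ι (aug e))
    (kernel.lift_ι _ _ _) _

/-- cycles are kernels. -/
noncomputable def cyclesIsoKernel (L : ChainComplex C ℕ) (i : ℕ) :
    L.cycles (i + 1) ≅ kernel (L.d (i + 1) i) := by
  have h1 := L.cyclesIsKernel (i + 1) i (by simp)
  have h2 := kernelIsKernel (L.d (i + 1) i)
  have e := h1.conePointUniqueUpToIso h2
  exact e

end Abel

variable {X : Scheme.{u}}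

/-! ### sections over affine opens -/

theorem shortExact_ΓUF {U : X.Opens} (hU : IsAffineOpen U) (S : ShortComplex X.Modules)
    (hS : S.ShortExact) [S.X₁.IsQuasicoherent] [S.X₂.IsQuasicoherent] [S.X₃.IsQuasicoherent] :
    (S.map (ΓUF hU)).ShortExact := by
  haveI := hS.mono_f
  haveI := hS.epi_g
  haveI : Mono (S.map (ΓUF hU)).f := mono_ΓUF_map S.f hU
  haveI : Epi (S.map (ΓUF hU)).g := epi_ΓUF_map S.g hU
  exact ⟨hS.exact.map_of_mono_of_preservesKernel (ΓUF hU) inferInstance inferInstance⟩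

/-! ### coherent modules -/

theorem isCoh_of_iso {M N : X.Modules} (e : M ≅ N) (hM : Coh.IsCoh M) : Coh.IsCoh N := by
  have i1 : M.IsQuasicoherent := hM.1
  have i2 : SheafOfModules.IsFiniteType (R := X.ringCatSheaf) M := hM.2
  exact ⟨Groth.Agent.Lib.Helper23.TensorQCoh.isQuasicoherent_of_iso e,
    Groth.Agent.Lib.Helper23.FinType.isFiniteType_of_iso e⟩

theorem isCoh_kernel [IsLocallyNoetherian X] {A B : X.Modules} (hA : Coh.IsCoh A)
    (hB : Coh.IsCoh B) (φ : A ⟶ B) : Coh.IsCoh (kernel φ) := by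
  have hAq : A.IsQuasicoherent := hA.1
  have hAf : SheafOfModules.IsFiniteType (R := X.ringCatSheaf) A := hA.2
  have hBq : B.IsQuasicoherent := hB.1
  have hKq : (kernel φ).IsQuasicoherent :=
    Groth.Agent.Lib.Helper23.QCohLocal.isQuasicoherent_kernel φ
  have hmono : Mono (kernel.ι φ) := inferInstance
  exact ⟨hKq, @Groth.Agent.Lib.Helper23.FinType.isFiniteType_of_mono X _ _ _ (kernel.ι φ) hmono
    hAq hAf hKq⟩

theorem isCoh_X₁ [IsLocallyNoetherian X] (S : ShortComplex X.Modules) (hS : S.ShortExact)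
    (h₂ : Coh.IsCoh S.X₂) (h₃ : Coh.IsCoh S.X₃) : Coh.IsCoh S.X₁ := by
  haveI := hS.mono_f
  have h1 := hS.exact.fIsKernel
  have h2 := kernelIsKernel S.g
  have e' := h1.conePointUniqueUpToIso h2
  have e : S.X₁ ≅ kernel S.g := e'
  exact isCoh_of_iso e.symm (isCoh_kernel h₂ h₃ S.g)

theorem isCoh_X₂ (S : ShortComplex X.Modules) (hS : S.ShortExact)
    (h₁ : Coh.IsCoh S.X₁) (h₃ : Coh.IsCoh S.X₃) : Coh.IsCoh S.X₂ := by
  haveI i1 : S.X₁.IsQuasicoherent := h₁.1
  haveI i3 : S.X₃.IsQuasicoherent := h₃.1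
  haveI i2 : S.X₂.IsQuasicoherent :=
    Groth.Agent.Lib.Helper23.QCohLocal.isQuasicoherent_of_shortExact S hS i1 i3
  refine ⟨i2, ?_⟩
  rw [Groth.Agent.Lib.Helper23.FinType.isFiniteType_iff_forall_affine]
  intro U hU
  haveI f1 : Module.Finite Γ(X, U) ((ΓUF hU).obj S.X₁) :=
    Groth.Agent.Lib.Helper26.ModLim.finite_ΓUF S.X₁ h₁.2 hU
  haveI f3 : Module.Finite Γ(X, U) ((ΓUF hU).obj S.X₃) :=
    Groth.Agent.Lib.Helper26.ModLim.finite_ΓUF S.X₃ h₃.2 hU
  have hS' := shortExact_ΓUF hU S hS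
  have hex : Function.Exact ((ΓUF hU).map S.f).hom ((ΓUF hU).map S.g).hom :=
    (ShortComplex.ShortExact.moduleCat_exact_iff_function_exact _).1 hS'.exact
  have hsurj : Function.Surjective ((ΓUF hU).map S.g).hom :=
    (ModuleCat.epi_iff_surjective _).1 hS'.epi_g
  haveI f2 : Module.Finite Γ(X, U) ((ΓUF hU).obj S.X₂) := Module.Finite.of_exact hex hsurj
  exact Module.Finite.equiv (Groth.Agent.Lib.Helper20.PullbackAff.ΓUEquiv hU S.X₂).symm

theorem isCoh_biprod (A D : X.Modules) (hA : Coh.IsCoh A) (hD : Coh.IsCoh D) :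
    Coh.IsCoh (A ⊞ D) :=
  isCoh_X₂ _ (ShortComplex.Splitting.ofHasBinaryBiproduct A D).shortExact hA hD

theorem isCoh_cycles [IsLocallyNoetherian X] (L : ChainComplex X.Modules ℕ)
    (hL : ∀ i, Coh.IsCoh (L.X i)) (i : ℕ) : Coh.IsCoh (L.cycles (i + 1)) :=
  isCoh_of_iso (cyclesIsoKernel L i).symm (isCoh_kernel (hL _) (hL _) _)

theorem isFinLocFree_of_isZero (Z : X.Modules) (hZ : IsZero Z) :
    FlatMod.IsFinLocFree Z := by
  intro x
  refine ⟨⊤, 0, trivial, ⟨?_⟩⟩
  have h1 : IsZero (Z.restrict (⊤ : X.Opens).ι) :=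
    (Scheme.Modules.restrictFunctor (⊤ : X.Opens).ι).map_isZero hZ
  have h2 : IsZero (FlatMod.freeMod (↑(⊤ : X.Opens)) 0) := by
    rw [IsZero.iff_id_eq_zero]
    exact Sigma.hom_ext _ _ (fun i => i.elim0)
  exact h1.iso h2

/-! ### projective dimension relative to a finite family of affine opens -/

/-- `pd Γ(V, M) < n` for all `V ∈ s`. -/
def PdLT (s : Finset X.affineOpens) (M : X.Modules) (n : ℕ) : Prop :=
  ∀ V ∈ s, HasProjectiveDimensionLT ((ΓUF (V : X.affineOpens).2).obj M) n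

section pd

variable {s : Finset X.affineOpens}

theorem PdLT.mono {M : X.Modules} {m n : ℕ} (h : m ≤ n) (hM : PdLT s M m) : PdLT s M n :=
  fun V hV => by
    haveI := hM V hV
    exact hasProjectiveDimensionLT_of_ge _ m n h

theorem PdLT.of_iso {M N : X.Modules} (e : M ≅ N) {n : ℕ} (hM : PdLT s M n) : PdLT s N n :=
  fun V hV => by
    haveI := hM V hV
    exact hasProjectiveDimensionLT_of_iso ((ΓUF V.2).mapIso e) n

theorem pdLT_zero_of_isZero {M : X.Modules} (hM : IsZero M) : PdLT s M 0 :=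
  fun V _ => ((ΓUF V.2).map_isZero hM).hasProjectiveDimensionLT_zero

section ses

variable (S : ShortComplex X.Modules) (hS : S.ShortExact)
  [S.X₁.IsQuasicoherent] [S.X₂.IsQuasicoherent] [S.X₃.IsQuasicoherent]

include hS

theorem PdLT.X₂ {n : ℕ} (h₁ : PdLT s S.X₁ n) (h₃ : PdLT s S.X₃ n) : PdLT s S.X₂ n :=
  fun V hV => (shortExact_ΓUF V.2 S hS).hasProjectiveDimensionLT_X₂ n (h₁ V hV) (h₃ V hV)

theorem PdLT.X₃ {n : ℕ} (h₁ : PdLT s S.X₁ n) (h₂ : PdLT s S.X₂ (n + 1)) :
    PdLT s S.X₃ (n + 1) :=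
  fun V hV => (shortExact_ΓUF V.2 S hS).hasProjectiveDimensionLT_X₃ n (h₁ V hV) (h₂ V hV)

theorem PdLT.X₁ {n : ℕ} (h₂ : PdLT s S.X₂ n) (h₃ : PdLT s S.X₃ (n + 1)) : PdLT s S.X₁ n :=
  fun V hV => (shortExact_ΓUF V.2 S hS).hasProjectiveDimensionLT_X₁ n (h₂ V hV) (h₃ V hV)

/-- the syzygy step: `pd M < k`, `E` a bundle (pd < 1) gives `pd K < (k - 2) + 1`. -/
theorem PdLT.syz {k : ℕ} (h₂ : PdLT s S.X₂ 1) (h₃ : PdLT s S.X₃ k) :
    PdLT s S.X₁ (k - 2 + 1) :=
  PdLT.X₁ S hS (h₂.mono (by omega)) (h₃.mono (by omega))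

/-- the cosyzygy step. -/
theorem PdLT.cosyz {k : ℕ} (h₁ : PdLT s S.X₁ k) (h₂ : PdLT s S.X₂ 1) :
    PdLT s S.X₃ (k + 1) :=
  PdLT.X₃ S hS h₁ (h₂.mono (by omega))

end ses

theorem pdLT_one_of_isFinLocFree (s : Finset X.affineOpens) (M : X.Modules)
    (hM : FlatMod.IsFinLocFree M) : PdLT s M 1 := by
  haveI := Groth.Agent.Lib.R2H2.PullLF.isQuasicoherent_of_isFinLocFree M hM
  intro V _
  obtain ⟨h1, h2⟩ :=
    Groth.Agent.Lib.Helper26.ModLocFree.fp_flat_sections_of_isFinLocFree M hM V.2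
  haveI := h1
  haveI := h2
  haveI : Module.Projective Γ(X, V.1) ((ΓUF V.2).obj M) :=
    Module.Flat.projective_of_finitePresentation
  haveI : Projective ((ΓUF V.2).obj M) :=
    (IsProjective.iff_projective (R := Γ(X, V.1)) (P := ((ΓUF V.2).obj M))).mp inferInstance
  infer_instance

theorem isFinLocFree_of_pdLT_one (hs : IsOpenCover (fun k : s => (k.1 : X.Opens)))
    (M : X.Modules) (hM : Coh.IsCoh M) (h : PdLT s M 1) : FlatMod.IsFinLocFree M := by
  haveI : M.IsQuasicoherent := hM.1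
  intro x
  obtain ⟨⟨V, hVs⟩, hxV⟩ : ∃ k : s, x ∈ (k.1 : X.Opens) := by
    have hx : x ∈ (⨆ k : s, (k.1 : X.Opens)) := by
      rw [hs.iSup_eq_top]; trivial
    exact Opens.mem_iSup.1 hx
  haveI := h V hVs
  haveI hP : Projective ((ΓUF V.2).obj M) := inferInstance
  haveI : Module.Projective Γ(X, V.1) ((ΓUF V.2).obj M) :=
    (IsProjective.iff_projective (R := Γ(X, V.1)) (P := ((ΓUF V.2).obj M))).mpr hP
  haveI : Module.Finite Γ(X, V.1) ((ΓUF V.2).obj M) :=
    Groth.Agent.Lib.Helper26.ModLim.finite_ΓUF M hM.2 V.2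
  haveI : Module.FinitePresentation Γ(X, V.1) ((ΓUF V.2).obj M) :=
    Module.finitePresentation_of_projective _ _
  obtain ⟨D, m, hxD, -, hiso⟩ :=
    Groth.Agent.Lib.Helper20.LocFree.exists_restrict_iso_freeMod M V.2 x hxV
  exact ⟨D, m, hxD, hiso⟩

end pd

/-! ### the resolution theorem -/

/-- coherent modules of finite projective dimension (relative to `s`). -/
def P1 (s : Finset X.affineOpens) : ObjectProperty X.Modules :=
  fun M => Coh.IsCoh M ∧ ∃ n, PdLT s M n

section main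

variable [AlgebraicGeometry.IsNoetherian X] {s : Finset X.affineOpens}
  (hs : IsOpenCover (fun k : s => (k.1 : X.Opens)))
  (hX : KRR.HasEnoughLocFree X)
  (hcoh : ∀ M : X.Modules, FlatMod.IsFinLocFree M → Coh.IsCoh M)

omit [AlgebraicGeometry.IsNoetherian X] in
include hcoh in
theorem vb_le_P1 (M : X.Modules) (hM : FlatMod.IsFinLocFree M) : P1 s M :=
  ⟨hcoh M hM, 1, pdLT_one_of_isFinLocFree s M hM⟩

include hs hX hcoh in
theorem hyp : Groth.Agent.Lib.Helper17.Res.Hyp (KRR.vbP X) (P1 s) where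
  iso₀ e h := Groth.Agent.Lib.Helper26.ModLocFree.isFinLocFree_of_iso e h
  iso₁ e h := ⟨isCoh_of_iso e h.1, h.2.imp fun _ hn => hn.of_iso e⟩
  le M hM := vb_le_P1 hcoh M hM
  ext₀ S hS h₁ h₃ := by
    have c₁ := hcoh _ h₁
    have c₃ := hcoh _ h₃
    have c₂ := isCoh_X₂ S hS c₁ c₃
    haveI : S.X₁.IsQuasicoherent := c₁.1
    haveI : S.X₂.IsQuasicoherent := c₂.1
    haveI : S.X₃.IsQuasicoherent := c₃.1
    exact isFinLocFree_of_pdLT_one hs _ c₂
      (PdLT.X₂ S hS (pdLT_one_of_isFinLocFree s _ h₁) (pdLT_one_of_isFinLocFree s _ h₃))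
  ext₁ S hS h₁ h₃ := by
    obtain ⟨c₁, n₁, p₁⟩ := h₁
    obtain ⟨c₃, n₃, p₃⟩ := h₃
    have c₂ := isCoh_X₂ S hS c₁ c₃
    haveI : S.X₁.IsQuasicoherent := c₁.1
    haveI : S.X₂.IsQuasicoherent := c₂.1
    haveI : S.X₃.IsQuasicoherent := c₃.1
    exact ⟨c₂, max n₁ n₃, PdLT.X₂ S hS (p₁.mono (le_max_left _ _)) (p₃.mono (le_max_right _ _))⟩
  ker₀ S hS h₂ h₃ := by
    have c₂ := hcoh _ h₂
    have c₃ := hcoh _ h₃
    have c₁ := isCoh_X₁ S hS c₂ c₃
    haveI : S.X₁.IsQuasicoherent := c₁.1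
    haveI : S.X₂.IsQuasicoherent := c₂.1
    haveI : S.X₃.IsQuasicoherent := c₃.1
    exact isFinLocFree_of_pdLT_one hs _ c₁
      (PdLT.X₁ S hS (pdLT_one_of_isFinLocFree s _ h₂)
        ((pdLT_one_of_isFinLocFree s _ h₃).mono (by omega)))
  ker₁ S hS h₂ h₃ := by
    obtain ⟨c₂, n₂, p₂⟩ := h₂
    obtain ⟨c₃, n₃, p₃⟩ := h₃
    have c₁ := isCoh_X₁ S hS c₂ c₃
    haveI : S.X₁.IsQuasicoherent := c₁.1
    haveI : S.X₂.IsQuasicoherent := c₂.1
    haveI : S.X₃.IsQuasicoherent := c₃.1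
    exact ⟨c₁, max n₂ n₃, PdLT.X₁ S hS (p₂.mono (le_max_left _ _))
      (p₃.mono (le_trans (le_max_right n₂ n₃) (Nat.le_succ _)))⟩
  lift A B D u v hu hA hB hD := by
    haveI := hu
    have cAD : Coh.IsCoh (A ⊞ D) := isCoh_biprod A D hA.1 hD.1
    have cK : Coh.IsCoh (kernel (biprod.desc u (-v))) := isCoh_kernel cAD hB.1 _
    have h1 := Abelian.PullbackToBiproductIsKernel.isLimitPullbackToBiproduct u v
    have h2 := kernelIsKernel (biprod.desc u (-v))
    have e' := h1.conePointUniqueUpToIso h2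
    have e : pullback u v ≅ kernel (biprod.desc u (-v)) := e'
    have cW : Coh.IsCoh (pullback u v) := isCoh_of_iso e.symm cK
    obtain ⟨L, p, hL, hp⟩ := hX _ cW
    haveI := hp
    haveI : Epi (pullback.snd u v) := Abelian.epi_pullback_of_epi_f u v
    refine ⟨L, p ≫ pullback.snd u v, p ≫ pullback.fst u v, hL, epi_comp _ _, ?_⟩
    rw [Category.assoc, Category.assoc, pullback.condition]

include hs hcoh in
/-- hypothesis (iii) of the resolution theorem. -/
theorem h3 (A : X.Modules) (hA : P1 s A) :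
    ∃ d : ℕ, ∀ L : ChainComplex X.Modules ℕ, (∀ i, KRR.vbP X (L.X i)) →
      (∀ i, 1 ≤ i → L.ExactAt i) → Nonempty (L.homology 0 ≅ A) →
      KRR.vbP X (L.cycles (d + 1)) := by
  obtain ⟨cA, n, pA⟩ := hA
  refine ⟨n, fun L hL hex ⟨e⟩ => ?_⟩
  have cL : ∀ i, Coh.IsCoh (L.X i) := fun i => hcoh _ (hL i)
  have pL : ∀ i, PdLT s (L.X i) 1 := fun i => pdLT_one_of_isFinLocFree s _ (hL i)
  haveI qL : ∀ i, (L.X i).IsQuasicoherent := fun i => (cL i).1
  haveI : A.IsQuasicoherent := cA.1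
  have cB : Coh.IsCoh (kernel (aug e)) := isCoh_kernel (cL 0) cA _
  haveI : (kernel (aug e)).IsQuasicoherent := cB.1
  have cZ : ∀ i, Coh.IsCoh (L.cycles (i + 1)) := isCoh_cycles L cL
  haveI qZ : ∀ i, (L.cycles (i + 1)).IsQuasicoherent := fun i => (cZ i).1
  have pB : PdLT s (kernel (aug e)) (n - 2 + 1) :=
    PdLT.syz (ShortComplex.mk (kernel.ι (aug e)) (aug e) (kernel.condition _))
      (shortExact_aug e) (pL 0) pA
  have pZ : ∀ i, PdLT s (L.cycles (i + 1)) (n - (i + 3) + 1) := by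
    intro i
    induction i with
    | zero =>
      have := PdLT.syz (ShortComplex.mk (L.iCycles 1) (augLift e) (iCycles_augLift e))
        (shortExact_cycles_one e) (pL 1) pB
      exact this.mono (by omega)
    | succ i ih =>
      have := PdLT.syz (ShortComplex.mk (L.iCycles (i + 2)) (L.toCycles (i + 2) (i + 1))
        (iCycles_toCycles L i)) (shortExact_cycles L i (hex (i + 1) (by omega))) (pL (i + 2)) ih
      exact this.mono (by omega)
  exact isFinLocFree_of_pdLT_one hs _ (cZ n) ((pZ n).mono (by omega))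

include hs hX hcoh in
/-- **the resolution theorem for sheaves**: `K₀(vb) → K₀(coherent of finite pd)` is bijective. -/
theorem bijective_mapSub_P1 :
    Function.Bijective (SGA6.mapSub (𝟭 X.Modules) (KRR.vbP X) (P1 s)
      (fun M hM => vb_le_P1 hcoh M hM)) :=
  Groth.Agent.Lib.Helper17.Res.bijective_mapSub (hyp hs hX hcoh) (h3 hs hcoh)

end main

end Groth.Agent.Lib.R2H2.PdSheaf
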