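import Mathlib
import Groth.Agent.Lib.H6xSuppPushD
import Groth.Agent.Lib.H3FLF
import Groth.Agent.Lib.Helper2LocFree
import Groth.Agent.Lib.R2H2PdSheaf
set_option backward.isDefEq.respectTransparency.types false

/-!
# Local transport of (strictly) perfect complexes along open immersions (helper6)
-/

set_option autoImplicit false
set_option linter.style.haveILetI false
universe u
open CategoryTheory CategoryTheory.Limits AlgebraicGeometry TopologicalSpace Opposite ZeroObject

attribute [local instance] HasDerivedCategory.standard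

namespace Groth.Agent.Lib.H6xPerfLoc

section comp

variable {Z Y X : Scheme.{u}} (g : Z ⟶ Y) (j : Y ⟶ X) (k : Z ⟶ X)
  [IsOpenImmersion g] [IsOpenImmersion j] [IsOpenImmersion k] (h : g ≫ j = k)

/-- restriction of complexes along a composite of open immersions -/
noncomputable def restrictCxComp (F : CochainComplex X.Modules ℤ) :
    ((Scheme.Modules.restrictFunctor k).mapHomologicalComplex (ComplexShape.up ℤ)).obj F ≅
      ((Scheme.Modules.restrictFunctor g).mapHomologicalComplex (ComplexShape.up ℤ)).obj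
        (((Scheme.Modules.restrictFunctor j).mapHomologicalComplex (ComplexShape.up ℤ)).obj F) :=
  (NatIso.mapHomologicalComplex ((Scheme.Modules.restrictFunctorCongr h).symm ≪≫
    Scheme.Modules.restrictFunctorComp g j) (ComplexShape.up ℤ)).app F

include h in
lemma nonempty_Q_restrict_iso (F : CochainComplex X.Modules ℤ) (E' : CochainComplex Y.Modules ℤ)
    (e : DerivedCategory.Q.obj
      (((Scheme.Modules.restrictFunctor j).mapHomologicalComplex (ComplexShape.up ℤ)).obj F) ≅
      DerivedCategory.Q.obj E') :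
    Nonempty (DerivedCategory.Q.obj
      (((Scheme.Modules.restrictFunctor k).mapHomologicalComplex (ComplexShape.up ℤ)).obj F) ≅
      DerivedCategory.Q.obj
        (((Scheme.Modules.restrictFunctor g).mapHomologicalComplex (ComplexShape.up ℤ)).obj E')) :=
  ⟨DerivedCategory.Q.mapIso (restrictCxComp g j k h F) ≪≫
    ((Scheme.Modules.restrictFunctor g).mapDerivedCategoryFactors.app _).symm ≪≫
    (DCoh.restrictD g).mapIso e ≪≫
    (Scheme.Modules.restrictFunctor g).mapDerivedCategoryFactors.app E'⟩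

end comp

section flf

variable {Z Y : Scheme.{u}} (g : Z ⟶ Y) [IsOpenImmersion g]

lemma isFinLocFree_restrict (M : Y.Modules) (hM : FlatMod.IsFinLocFree M) :
    FlatMod.IsFinLocFree (M.restrict g) := by
  intro z
  obtain ⟨U, n, hzU, ⟨e⟩⟩ := hM (g z)
  refine ⟨g ⁻¹ᵁ U, n, hzU, ⟨?_⟩⟩
  have hsq : (g ∣_ U) ≫ U.ι = (g ⁻¹ᵁ U).ι ≫ g := morphismRestrict_ι g U
  exact ((Scheme.Modules.restrictFunctorComp (g ⁻¹ᵁ U).ι g).app M).symm ≪≫
    (Scheme.Modules.restrictFunctorCongr hsq.symm).app M ≪≫
    (Scheme.Modules.restrictFunctorComp (g ∣_ U) U.ι).app M ≪≫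
    (Scheme.Modules.restrictFunctor (g ∣_ U)).mapIso e ≪≫
    Groth.Agent.H3.FLF.restrictFreeMod (g ∣_ U) n

lemma isStrictlyPerfect_restrict (E' : CochainComplex Y.Modules ℤ)
    (hE' : DCoh.IsStrictlyPerfect E') :
    DCoh.IsStrictlyPerfect
      (((Scheme.Modules.restrictFunctor g).mapHomologicalComplex (ComplexShape.up ℤ)).obj E') := by
  obtain ⟨⟨a, b, hab⟩, hflf⟩ := hE'
  refine ⟨⟨a, b, fun i hi => ?_⟩, fun i => isFinLocFree_restrict g _ (hflf i)⟩
  exact (Scheme.Modules.restrictFunctor g).map_isZero (hab i hi)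

/-- a module free over an open `U` is free along any open immersion landing in `U` -/
lemma nonempty_restrict_iso_freeMod_of_range_le (M : Y.Modules) (U : Y.Opens) {n : ℕ}
    (e : M.restrict U.ι ≅ FlatMod.freeMod (↑U) n) (hg : Set.range g.base ⊆ (U : Set Y)) :
    Nonempty (M.restrict g ≅ FlatMod.freeMod Z n) := by
  have hr : Set.range g.base ⊆ Set.range U.ι.base := by rwa [Scheme.Opens.range_ι]
  let g' : Z ⟶ U := IsOpenImmersion.lift U.ι g hr
  have hg' : g' ≫ U.ι = g := IsOpenImmersion.lift_fac U.ι g hr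
  haveI : IsOpenImmersion g' := by
    haveI : IsOpenImmersion (g' ≫ U.ι) := by rw [hg']; infer_instance
    exact IsOpenImmersion.of_comp g' U.ι
  exact ⟨(Scheme.Modules.restrictFunctorCongr hg'.symm).app M ≪≫
    (Scheme.Modules.restrictFunctorComp g' U.ι).app M ≪≫
    (Scheme.Modules.restrictFunctor g').mapIso e ≪≫ Groth.Agent.H3.FLF.restrictFreeMod g' n⟩

end flf

lemma isStrictlyPerfect_zero (X : Scheme.{u}) :
    DCoh.IsStrictlyPerfect (0 : CochainComplex X.Modules ℤ) := by
  refine ⟨⟨0, 0, fun i _ => ?_⟩, fun i => ?_⟩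
  · exact (HomologicalComplex.eval _ _ i).map_isZero (isZero_zero _)
  · exact Groth.Agent.Lib.R2H2.PdSheaf.isFinLocFree_of_isZero _
      ((HomologicalComplex.eval _ _ i).map_isZero (isZero_zero _))

lemma exists_strictlyPerfect_isZero (X : Scheme.{u}) :
    ∃ E' : CochainComplex X.Modules ℤ, DCoh.IsStrictlyPerfect E' ∧ IsZero E' :=
  ⟨0, isStrictlyPerfect_zero X, isZero_zero _⟩

end Groth.Agent.Lib.H6xPerfLoc
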