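import Mathlib
import Groth.Agent.Lib.H6xAffPushC

/-!
# Sections of the cohomology of a K-injective complex with quasi-coherent cohomology over an
affine open (helper6)
-/

set_option autoImplicit false
set_option linter.style.haveILetI false

universe w v u

open CategoryTheory CategoryTheory.Limits Opposite AlgebraicGeometry TopologicalSpace ZeroObject
  HomologicalComplex

namespace Groth.Agent.Lib.H6xAffPush

open DerivedCategory Groth.Agent.Lib.Helper17.Hyp Groth.Agent.Lib.H6xQcTrunc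
  Groth.Agent.Lib.H6xGamAc Groth.Agent.Lib.H6xTilde

section Abstract

variable {A : Type (v + 1)} [Category.{v} A] [Abelian A] [HasDerivedCategory.{w} A]

lemma exists_cls_eq {P : A} {n : ℤ} {F : CochainComplex A ℤ}
    (hsurj : Function.Surjective (cm (P := P) (K := (Q : _ ⥤ DerivedCategory A).obj F) (m := n)))
    (s : P ⟶ F.homology n) :
    ∃ φ : (Q : _ ⥤ DerivedCategory A).obj (sglN P n) ⟶ Q.obj F, cls φ = s := by
  let σ : ((Q : _ ⥤ DerivedCategory A).obj (sglN P n))⟦n⟧ ≅ dsgl P :=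
    ((DerivedCategory.singleFunctors A).shiftIso n 0 n (add_zero n)).app P
  let u : P ⟶ (homologyFunctor A n).obj (Q.obj (sglN P n)) :=
    ((e₀ P).inv ≫ (homologyFunctor A 0).map σ.inv) ≫ (shIso (Q.obj (sglN P n)) n).hom
  haveI : IsIso u := by dsimp only [u]; infer_instance
  have hu : ∀ φ : (Q : _ ⥤ DerivedCategory A).obj (sglN P n) ⟶ Q.obj F,
      cm (σ.inv ≫ φ⟦n⟧') = u ≫ (homologyFunctor A n).map φ := fun φ => by
    dsimp only [cm, u]
    rw [c₀_comp, Category.assoc, shIso_hom_naturality]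
    dsimp only [c₀]
    simp only [Category.assoc]
  obtain ⟨ξ, hξ⟩ := hsurj (u ≫ (ιN P n).inv ≫ s ≫ (homologyFunctorFactors A n).inv.app F)
  obtain ⟨φ, hφ⟩ := (shiftFunctor (DerivedCategory A) n).map_surjective (σ.hom ≫ ξ)
  refine ⟨φ, ?_⟩
  have h1 : cm (σ.inv ≫ φ⟦n⟧') = cm ξ := by
    rw [hφ, Iso.inv_hom_id_assoc]
  rw [hu, hξ] at h1
  have h2 := (cancel_epi u).1 h1
  dsimp only [cls]
  rw [h2]
  simp only [Category.assoc, Iso.hom_inv_id_assoc]
  have h3 : (homologyFunctorFactors A n).inv.app F ≫ (homologyFunctorFactors A n).hom.app F =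
      𝟙 _ := Iso.inv_hom_id_app _ _
  exact (congrArg (fun t => s ≫ t) h3).trans (Category.comp_id s)

end Abstract

section Scheme

variable {X : Scheme.{u}} [HasDerivedCategory.{w} X.Modules]

lemma isQCohD_Q_of_homology (I : CochainComplex X.Modules ℤ)
    (hI : ∀ n, Coh.IsQCoh (I.homology n)) (i : ℤ) :
    Coh.IsQCoh ((homologyFunctor X.Modules i).obj (Q.obj I)) :=
  isQCoh_of_iso ((homologyFunctorFactors X.Modules i).app I).symm (hI i)

/-- sections of `H^n I` over an affine open lift to cycles -/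
theorem exists_cycle_of_affine (U : X.Opens) (hU : IsAffineOpen U)
    (I : CochainComplex X.Modules ℤ) [I.IsKInjective] (hI : ∀ n, Coh.IsQCoh (I.homology n))
    (n : ℤ) (s : (frX X).obj U ⟶ I.homology n) :
    ∃ (z : (frX X).obj U ⟶ I.X n) (hz : z ≫ I.d n (n + 1) = 0),
      I.liftCycles z (n + 1) (by simp) hz ≫ I.homologyπ n = s := by
  obtain ⟨φ, hφ⟩ := exists_cls_eq
    (cm_bijective_frX_of_isQCohD U hU (Q.obj I) (isQCohD_Q_of_homology I hI) n).2 s
  obtain ⟨ψ, hψ⟩ := Groth.Agent.Lib.Helper17.KInj.exists_Q_map_eq (C := X.Modules) φ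
  obtain ⟨z, hz, hzψ⟩ := fromSingle_surjective n ψ
  refine ⟨z, hz, ?_⟩
  rw [← cls_Q_map_fromSingle, hzψ, hψ, hφ]

/-- a cycle over an affine open whose class vanishes is a boundary -/
theorem exists_boundary_of_affine_kInj (U : X.Opens) (hU : IsAffineOpen U)
    (I : CochainComplex X.Modules ℤ) [I.IsKInjective] (hI : ∀ n, Coh.IsQCoh (I.homology n))
    (n : ℤ) (z : (frX X).obj U ⟶ I.X n) (hz : z ≫ I.d n (n + 1) = 0)
    (h : I.liftCycles z (n + 1) (by simp) hz ≫ I.homologyπ n = 0) :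
    ∃ y : (frX X).obj U ⟶ I.X (n - 1), y ≫ I.d (n - 1) n = z := by
  have h1 : cls ((Q : _ ⥤ DerivedCategory X.Modules).map (fromSingle n z hz)) = 0 := by
    rw [cls_Q_map_fromSingle, h]
  have h2 := eq_zero_of_cls_eq_zero
    (cm_bijective_frX_of_isQCohD U hU (Q.obj I) (isQCohD_Q_of_homology I hI) n).1 _ h1
  have h3 : (Q : _ ⥤ DerivedCategory X.Modules).map (fromSingle n z hz) = Q.map 0 := by
    rw [h2, Functor.map_zero]
  exact (homotopy_fromSingle_zero_iff n z hz).1
    (Groth.Agent.Lib.Helper17.KInj.homotopy_of_Q_map_eq (C := X.Modules) h3)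

end Scheme

end Groth.Agent.Lib.H6xAffPush
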