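import Mathlib
import Groth.Agent.Lib.H6xAffReflA
import Groth.Agent.Lib.H6xAffPushD

/-!
# `Rf_*` reflects isomorphisms on `D_QCoh` for `f` affine: the local lifting arguments (helper6)
-/

set_option autoImplicit false
set_option linter.style.haveILetI false

universe u

open CategoryTheory CategoryTheory.Limits Opposite AlgebraicGeometry TopologicalSpace
  HomologicalComplex

namespace Groth.Agent.Lib.H6xAffPush

open Groth.Agent.Lib.Helper17.Hyp Groth.Agent.Lib.H6xQcTrunc Groth.Agent.Lib.Helper21 Groth.Agent.Lib.Helper21.FreeAb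
  Groth.Agent.Lib.H6xGamAc Groth.Agent.Lib.H6xTilde

section SecMap

variable {C : Type u} [SmallCategory C] {J : GrothendieckTopology C} (O : Sheaf J CommRingCat.{u})

lemma secEquiv_map (M : ModSite.Mod O) {V' V : C} (i : V' ⟶ V)
    (h : (frModR (ModSite.ringSh O)).obj V ⟶ M) :
    secEquiv O M V' ((frModR (ModSite.ringSh O)).map i ≫ h) =
      ((ModSite.toAb M).obj.map i.op).hom (secEquiv O M V h) := by
  change CohFree.evalGen J V' (ModSite.toAb M)
      ((freeShRAdj (ModSite.ringSh O)).homEquiv ((frSh J).obj V') M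
        ((freeShR (ModSite.ringSh O)).map ((frSh J).map i) ≫ h)) = _
  rw [Adjunction.homEquiv_naturality_left]
  exact CohFree.evalGen_freeSheafMap_comp J i (ModSite.toAb M) _

end SecMap

section Scheme

variable {X S : Scheme.{u}} (f : X ⟶ S)

lemma pushEquiv_map {V' V : S.Opens} (i : V' ⟶ V) (N : X.Modules)
    (t : (frX S).obj V ⟶ (Scheme.Modules.pushforward f).obj N) :
    pushEquiv f V' N ((frX S).map i ≫ t) =
      (frX X).map ((Opens.map f.base).map i) ≫ pushEquiv f V N t := by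
  apply (secEquiv (OX X) N (f ⁻¹ᵁ V')).injective
  have h1 := secEquiv_map (OX X) N ((Opens.map f.base).map i) (pushEquiv f V N t)
  have h2 := secEquiv_map (OX S) ((Scheme.Modules.pushforward f).obj N) i t
  have h3 : secEquiv (OX X) N (f ⁻¹ᵁ V) (pushEquiv f V N t) =
      secEquiv (OX S) ((Scheme.Modules.pushforward f).obj N) V t :=
    Equiv.apply_symm_apply _ _
  have h4 : secEquiv (OX X) N (f ⁻¹ᵁ V') (pushEquiv f V' N ((frX S).map i ≫ t)) =
      secEquiv (OX S) ((Scheme.Modules.pushforward f).obj N) V' ((frX S).map i ≫ t) :=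
    Equiv.apply_symm_apply _ _
  refine h4.trans (h2.trans (Eq.trans ?_ h1.symm))
  rw [h3]
  rfl

end Scheme

section Claims

variable {X S : Scheme.{u}} (f : X ⟶ S)

/-- the presieve on `f⁻¹ V` of preimages of members of a sieve on `V` -/
def preimagePresieve {V : S.Opens} (T : Sieve V) : Presieve (f ⁻¹ᵁ V) :=
  fun W _ => ∃ (V' : S.Opens) (i : V' ⟶ V), T i ∧ W = f ⁻¹ᵁ V'

lemma generate_preimagePresieve_mem {V : S.Opens} (T : Sieve V)
    (hT : T ∈ Opens.grothendieckTopology S V) :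
    Sieve.generate (preimagePresieve f T) ∈ Opens.grothendieckTopology X (f ⁻¹ᵁ V) := by
  intro x hx
  obtain ⟨V', i, hi, hxV'⟩ := hT (f.base x) hx
  exact ⟨f ⁻¹ᵁ V', (Opens.map f.base).map i,
    ⟨f ⁻¹ᵁ V', 𝟙 _, (Opens.map f.base).map i, ⟨V', i, hi, rfl⟩, Category.id_comp _⟩, hxV'⟩

attribute [local instance] HasDerivedCategory.standard

variable [IsAffineHom f] {I I' : CochainComplex X.Modules ℤ} [I.IsKInjective] [I'.IsKInjective]
  (hI : ∀ n, Coh.IsQCoh (I.homology n)) (hI' : ∀ n, Coh.IsQCoh (I'.homology n))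
  (a : I ⟶ I')

/-- transfer of a cycle from `X` to `S` -/
lemma pushEquiv_symm_comp_d (V : S.Opens) (K : CochainComplex X.Modules ℤ) (n m : ℤ)
    (z : (frX X).obj (f ⁻¹ᵁ V) ⟶ K.X n) :
    (pushEquiv f V (K.X n)).symm z ≫ (Scheme.Modules.pushforward f).map (K.d n m) =
      (pushEquiv f V (K.X m)).symm (z ≫ K.d n m) := by
  apply (pushEquiv f V (K.X m)).injective
  rw [pushEquiv_comp, Equiv.apply_symm_apply, Equiv.apply_symm_apply]

lemma pushEquiv_symm_comp_f (V : S.Opens) {K K' : CochainComplex X.Modules ℤ} (g : K ⟶ K')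
    (n : ℤ) (z : (frX X).obj (f ⁻¹ᵁ V) ⟶ K.X n) :
    (pushEquiv f V (K.X n)).symm z ≫ (Scheme.Modules.pushforward f).map (g.f n) =
      (pushEquiv f V (K'.X n)).symm (z ≫ g.f n) := by
  apply (pushEquiv f V (K'.X n)).injective
  rw [pushEquiv_comp, Equiv.apply_symm_apply, Equiv.apply_symm_apply]

lemma pushEquiv_symm_zero (V : S.Opens) (N : X.Modules) :
    (pushEquiv f V N).symm 0 = 0 := by
  apply (pushEquiv f V N).injective
  rw [Equiv.apply_symm_apply]
  exact (equiv_zero (Scheme.Modules.pushforward f) _ _ (pushEquiv f V)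
    (fun a g => pushEquiv_comp f V a g) N).symm

include hI hI' in
/-- injectivity of `H^n(a)` on sections over `f⁻¹ V`, `V` affine -/
theorem eq_zero_of_comp_homologyMap_eq_zero
    [QuasiIso (((Scheme.Modules.pushforward f).mapHomologicalComplex (ComplexShape.up ℤ)).map a)]
    (V : S.Opens) (hV : IsAffineOpen V) (n : ℤ)
    (s : (frX X).obj (f ⁻¹ᵁ V) ⟶ I.homology n)
    (hs : s ≫ HomologicalComplex.homologyMap a n = 0) : s = 0 := by
  have hU : IsAffineOpen (f ⁻¹ᵁ V) := hV.preimage f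
  obtain ⟨z, hz, hzs⟩ := exists_cycle_of_affine (f ⁻¹ᵁ V) hU I hI n s
  have hza : (z ≫ a.f n) ≫ I'.d n (n + 1) = 0 := by
    rw [Category.assoc, a.comm, reassoc_of% hz, zero_comp]
  have h0 : I'.liftCycles (z ≫ a.f n) (n + 1) (by simp) hza ≫ I'.homologyπ n = 0 := by
    have h1 : I'.liftCycles (z ≫ a.f n) (n + 1) (by simp) hza =
        I.liftCycles z (n + 1) (by simp) hz ≫ HomologicalComplex.cyclesMap a n := by
      rw [← cancel_mono (I'.iCycles n), HomologicalComplex.liftCycles_i, Category.assoc,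
        HomologicalComplex.cyclesMap_i, HomologicalComplex.liftCycles_i_assoc]
    rw [h1, Category.assoc, ← HomologicalComplex.homologyπ_naturality, reassoc_of% hzs, hs]
  obtain ⟨y', hy'⟩ := exists_boundary_of_affine_kInj (f ⁻¹ᵁ V) hU I' hI' n _ hza h0
  -- transfer to `S`
  let G := (Scheme.Modules.pushforward f).mapHomologicalComplex (ComplexShape.up ℤ)
  have hmono : Mono (HomologicalComplex.homologyMap (G.map a) n) := inferInstance
  rw [HomologicalComplex.mono_homologyMap_iff_up_to_refinements (G.map a) (n - 1) n (n + 1)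
    (by simp) (by simp)] at hmono
  obtain ⟨A', π, hπ, x₁, hx₁⟩ := hmono ((pushEquiv f V (I.X n)).symm z)
    (by
      change _ ≫ (Scheme.Modules.pushforward f).map (I.d n (n + 1)) = 0
      rw [pushEquiv_symm_comp_d, hz, pushEquiv_symm_zero])
    ((pushEquiv f V (I'.X (n - 1))).symm y')
    (by
      change _ ≫ (Scheme.Modules.pushforward f).map (a.f n) =
        _ ≫ (Scheme.Modules.pushforward f).map (I'.d (n - 1) n)
      rw [pushEquiv_symm_comp_f, pushEquiv_symm_comp_d, hy'])
  obtain ⟨T, hT, hT'⟩ := (locFr_frX S).lift π V (𝟙 _)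
  refine (locFr_frX X).zero_of_generate (f ⁻¹ᵁ V) s (preimagePresieve f T)
    (generate_preimagePresieve_mem f T hT) ?_
  rintro W k ⟨V', i, hi, rfl⟩
  obtain ⟨σ, hσ⟩ := hT' i hi
  rw [Category.comp_id] at hσ
  obtain rfl : k = (Opens.map f.base).map i := Subsingleton.elim _ _
  -- the boundary on `f⁻¹ V'`
  obtain ⟨x₁', hx₁'⟩ : ∃ x₁' : A' ⟶ (Scheme.Modules.pushforward f).obj (I.X (n - 1)),
    x₁' = x₁ := ⟨_, rfl⟩
  have h2 : x₁' ≫ (Scheme.Modules.pushforward f).map (I.d (n - 1) n) =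
      π ≫ (pushEquiv f V (I.X n)).symm z := by
    rw [hx₁']
    exact hx₁.symm
  obtain ⟨y, hy⟩ : ∃ y : (frX S).obj V' ⟶ (Scheme.Modules.pushforward f).obj (I.X (n - 1)),
    y = σ ≫ x₁' := ⟨_, rfl⟩
  have h1 : y ≫ (Scheme.Modules.pushforward f).map (I.d (n - 1) n) =
      (frX S).map i ≫ (pushEquiv f V (I.X n)).symm z := by
    rw [hy, Category.assoc, h2, ← Category.assoc, hσ]
  have hb : pushEquiv f V' (I.X (n - 1)) y ≫ I.d (n - 1) n =
      (frX X).map ((Opens.map f.base).map i) ≫ z := by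
    rw [← pushEquiv_comp, h1, pushEquiv_map, Equiv.apply_symm_apply]
  rw [← hzs, ← Category.assoc]
  have h3 : (frX X).map ((Opens.map f.base).map i) ≫ I.liftCycles z (n + 1) (by simp) hz =
      pushEquiv f V' (I.X (n - 1)) y ≫ I.toCycles (n - 1) n := by
    rw [← cancel_mono (I.iCycles n), Category.assoc, Category.assoc,
      HomologicalComplex.liftCycles_i, HomologicalComplex.toCycles_i, hb]
  rw [h3, Category.assoc, HomologicalComplex.toCycles_comp_homologyπ, comp_zero]

include hI' in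
/-- local surjectivity of `H^n(a)` on sections over `f⁻¹ V`, `V` affine -/
theorem exists_local_lift_homologyMap
    [QuasiIso (((Scheme.Modules.pushforward f).mapHomologicalComplex (ComplexShape.up ℤ)).map a)]
    (V : S.Opens) (hV : IsAffineOpen V) (n : ℤ)
    (s' : (frX X).obj (f ⁻¹ᵁ V) ⟶ I'.homology n) :
    ∃ R : Presieve (f ⁻¹ᵁ V), Sieve.generate R ∈ Opens.grothendieckTopology X (f ⁻¹ᵁ V) ∧
      ∀ ⦃W : X.Opens⦄ (k : W ⟶ f ⁻¹ᵁ V), R k →
        ∃ t : (frX X).obj W ⟶ I.homology n,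
          t ≫ HomologicalComplex.homologyMap a n = (frX X).map k ≫ s' := by
  have hU : IsAffineOpen (f ⁻¹ᵁ V) := hV.preimage f
  obtain ⟨z', hz', hzs'⟩ := exists_cycle_of_affine (f ⁻¹ᵁ V) hU I' hI' n s'
  let G := (Scheme.Modules.pushforward f).mapHomologicalComplex (ComplexShape.up ℤ)
  have hepi : Epi (HomologicalComplex.homologyMap (G.map a) n) := inferInstance
  rw [HomologicalComplex.epi_homologyMap_iff_up_to_refinements (G.map a) (n - 1) n (n + 1)
    (by simp) (by simp)] at hepi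
  obtain ⟨A', π, hπ, x₂, hx₂, y₁, hxy⟩ := hepi ((pushEquiv f V (I'.X n)).symm z')
    (by
      change _ ≫ (Scheme.Modules.pushforward f).map (I'.d n (n + 1)) = 0
      rw [pushEquiv_symm_comp_d, hz', pushEquiv_symm_zero])
  obtain ⟨T, hT, hT'⟩ := (locFr_frX S).lift π V (𝟙 _)
  refine ⟨preimagePresieve f T, generate_preimagePresieve_mem f T hT, ?_⟩
  rintro W k ⟨V', i, hi, rfl⟩
  obtain ⟨σ, hσ⟩ := hT' i hi
  rw [Category.comp_id] at hσ
  obtain rfl : k = (Opens.map f.base).map i := Subsingleton.elim _ _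
  obtain ⟨x₂', hx₂'⟩ : ∃ x₂' : A' ⟶ (Scheme.Modules.pushforward f).obj (I.X n),
    x₂' = x₂ := ⟨_, rfl⟩
  obtain ⟨y₁', hy₁'⟩ : ∃ y₁' : A' ⟶ (Scheme.Modules.pushforward f).obj (I'.X (n - 1)),
    y₁' = y₁ := ⟨_, rfl⟩
  have hx₂0 : x₂' ≫ (Scheme.Modules.pushforward f).map (I.d n (n + 1)) = 0 := by
    rw [hx₂']
    exact hx₂
  have hxy' : π ≫ (pushEquiv f V (I'.X n)).symm z' =
      x₂' ≫ (Scheme.Modules.pushforward f).map (a.f n) +
        y₁' ≫ (Scheme.Modules.pushforward f).map (I'.d (n - 1) n) := by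
    rw [hx₂', hy₁']
    exact hxy
  -- transfer to `X`
  let w : (frX X).obj (f ⁻¹ᵁ V') ⟶ I.X n := pushEquiv f V' (I.X n) (σ ≫ x₂')
  let y : (frX X).obj (f ⁻¹ᵁ V') ⟶ I'.X (n - 1) := pushEquiv f V' (I'.X (n - 1)) (σ ≫ y₁')
  have hw : w ≫ I.d n (n + 1) = 0 := by
    dsimp only [w]
    rw [← pushEquiv_comp, Category.assoc, hx₂0, comp_zero]
    exact equiv_zero (Scheme.Modules.pushforward f) _ _ (pushEquiv f V')
      (fun a g => pushEquiv_comp f V' a g) _
  have hwa : w ≫ a.f n + y ≫ I'.d (n - 1) n = (frX X).map ((Opens.map f.base).map i) ≫ z' := by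
    dsimp only [w, y]
    rw [← pushEquiv_comp, ← pushEquiv_comp,
      ← equiv_add (Scheme.Modules.pushforward f) _ _ (pushEquiv f V')
        (fun a g => pushEquiv_comp f V' a g),
      Category.assoc, Category.assoc, ← Preadditive.comp_add, ← hxy', ← Category.assoc, hσ,
      pushEquiv_map, Equiv.apply_symm_apply]
  refine ⟨I.liftCycles w (n + 1) (by simp) hw ≫ I.homologyπ n, ?_⟩
  rw [Category.assoc, HomologicalComplex.homologyπ_naturality, ← hzs', ← Category.assoc,
    ← Category.assoc]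
  have hc : I.liftCycles w (n + 1) (by simp) hw ≫ HomologicalComplex.cyclesMap a n =
      (frX X).map ((Opens.map f.base).map i) ≫ I'.liftCycles z' (n + 1) (by simp) hz' -
        y ≫ I'.toCycles (n - 1) n := by
    rw [← cancel_mono (I'.iCycles n), Category.assoc, HomologicalComplex.cyclesMap_i,
      HomologicalComplex.liftCycles_i_assoc, Preadditive.sub_comp, Category.assoc,
      Category.assoc, HomologicalComplex.liftCycles_i, HomologicalComplex.toCycles_i, ← hwa,
      add_sub_cancel_right]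
  rw [hc, Preadditive.sub_comp, Category.assoc, Category.assoc,
    HomologicalComplex.toCycles_comp_homologyπ, comp_zero, sub_zero]

end Claims

end Groth.Agent.Lib.H6xAffPush
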