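import Mathlib
import Groth.Agent.Lib.H6xAffReflB
import Groth.Agent.Lib.Helper2QCoh

/-!
# `Rf_*` reflects isomorphisms on `D_QCoh` for `f` affine (helper6)
-/

set_option autoImplicit false
set_option linter.style.haveILetI false

universe u

open CategoryTheory CategoryTheory.Limits Opposite AlgebraicGeometry TopologicalSpace
  HomologicalComplex

namespace Groth.Agent.Lib.H6xAffPush

open Groth.Agent.Lib.Helper17.Hyp Groth.Agent.Lib.H6xQcTrunc
  Groth.Agent.Lib.H6xGamAc Groth.Agent.Lib.H6xTilde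

section FactZ

variable {X : Scheme.{u}}

theorem subsingleton_sections_basicOpen (M : X.Modules) [M.IsQuasicoherent] {U : X.Opens}
    (hU : IsAffineOpen U) (h : Subsingleton Γ(M, U)) (σ : Γ(X, U)) :
    Subsingleton Γ(M, X.basicOpen σ) := by
  suffices ∀ t : Γ(M, X.basicOpen σ), t = 0 from ⟨fun t₁ t₂ => by rw [this t₁, this t₂]⟩
  intro t
  obtain ⟨m, t', ht'⟩ := Groth.Agent.Lib.Helper2.QCoh.exists_extension hU M σ t
  have h0 : t' = 0 := Subsingleton.elim _ _
  rw [h0, map_zero] at ht'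
  have hu : IsUnit ((X.presheaf.map (homOfLE (X.basicOpen_le σ)).op σ) ^ m) :=
    (X.toRingedSpace.isUnit_res_basicOpen σ).pow m
  exact (hu.smul_eq_zero).mp ht'.symm

theorem subsingleton_hom_basicOpen (M : X.Modules) (hM : Coh.IsQCoh M) {U : X.Opens}
    (hU : IsAffineOpen U) (h : Subsingleton ((frX X).obj U ⟶ M)) (σ : Γ(X, U)) :
    Subsingleton ((frX X).obj (X.basicOpen σ) ⟶ M) := by
  haveI : M.IsQuasicoherent := hM
  have h1 : Subsingleton Γ(M, U) := @Equiv.subsingleton _ _ (secEquiv (OX X) M U).symm h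
  have h2 : Subsingleton Γ(M, X.basicOpen σ) := subsingleton_sections_basicOpen M hU h1 σ
  exact @Equiv.subsingleton _ _ (secEquiv (OX X) M (X.basicOpen σ)) h2

theorem isZero_of_subsingleton_hom (M : X.Modules) (hM : Coh.IsQCoh M) (𝒰 : Set X.Opens)
    (h𝒰 : ∀ U ∈ 𝒰, IsAffineOpen U) (hcov : ∀ x : X, ∃ U ∈ 𝒰, x ∈ U)
    (h : ∀ U ∈ 𝒰, Subsingleton ((frX X).obj U ⟶ M)) : IsZero M := by
  rw [IsZero.iff_id_eq_zero]
  apply (locFr_frX X).gen
  intro W s
  rw [Category.comp_id]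
  refine (locFr_frX X).zero_of_generate W s
    (fun W' _ => ∃ U ∈ 𝒰, ∃ σ : Γ(X, U), W' = X.basicOpen σ) ?_ ?_
  · intro x hx
    obtain ⟨U, hU𝒰, hxU⟩ := hcov x
    obtain ⟨σ, hσW, hxσ⟩ := (h𝒰 U hU𝒰).exists_basicOpen_le ⟨x, hx⟩ hxU
    exact ⟨X.basicOpen σ, homOfLE hσW,
      ⟨_, 𝟙 _, homOfLE hσW, ⟨U, hU𝒰, σ, rfl⟩, Category.id_comp _⟩, hxσ⟩
  · rintro W' k ⟨U, hU𝒰, σ, rfl⟩
    haveI := subsingleton_hom_basicOpen M hM (h𝒰 U hU𝒰) (h U hU𝒰) σ
    exact Subsingleton.elim _ _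

end FactZ

section Main

attribute [local instance] HasDerivedCategory.standard

variable {X S : Scheme.{u}} (f : X ⟶ S) [IsAffineHom f]
  {I I' : CochainComplex X.Modules ℤ} [I.IsKInjective] [I'.IsKInjective]
  (hI : ∀ n, Coh.IsQCoh (I.homology n)) (hI' : ∀ n, Coh.IsQCoh (I'.homology n))
  (a : I ⟶ I')

/-- the affine opens `f⁻¹ V` -/
def preimAff : Set X.Opens := {U | ∃ V : S.Opens, IsAffineOpen V ∧ U = f ⁻¹ᵁ V}

omit [IsAffineHom f] in
lemma preimAff_cover (x : X) : ∃ U ∈ preimAff f, x ∈ U := by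
  obtain ⟨V, hV, hxV, -⟩ := (Opens.isBasis_iff_nbhd.1 S.isBasis_affineOpens)
    (show f.base x ∈ (⊤ : S.Opens) from trivial)
  exact ⟨f ⁻¹ᵁ V, ⟨V, hV, rfl⟩, hxV⟩

lemma preimAff_affine (U : X.Opens) (hU : U ∈ preimAff f) : IsAffineOpen U := by
  obtain ⟨V, hV, rfl⟩ := hU
  exact hV.preimage f

include hI hI' in
theorem isIso_homologyMap_of_quasiIso_push
    [QuasiIso (((Scheme.Modules.pushforward f).mapHomologicalComplex (ComplexShape.up ℤ)).map a)]
    (n : ℤ) : IsIso (HomologicalComplex.homologyMap a n) := by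
  have hK : Coh.IsQCoh (kernel (HomologicalComplex.homologyMap a n)) :=
    (qc X).prop_kernel _ (hI n) (hI' n)
  have hC : Coh.IsQCoh (cokernel (HomologicalComplex.homologyMap a n)) :=
    (qc X).prop_cokernel _ (hI n) (hI' n)
  have hK0 : IsZero (kernel (HomologicalComplex.homologyMap a n)) := by
    refine isZero_of_subsingleton_hom _ hK (preimAff f) (preimAff_affine f) (preimAff_cover f) ?_
    rintro _ ⟨V, hV, rfl⟩
    suffices ∀ t : (frX X).obj (f ⁻¹ᵁ V) ⟶ kernel (HomologicalComplex.homologyMap a n), t = 0 from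
      ⟨fun t₁ t₂ => by rw [this t₁, this t₂]⟩
    intro t
    have h1 := eq_zero_of_comp_homologyMap_eq_zero f hI hI' a V hV n (t ≫ kernel.ι _)
      (by rw [Category.assoc, kernel.condition, comp_zero])
    rw [← cancel_mono (kernel.ι (HomologicalComplex.homologyMap a n)), h1, zero_comp]
  have hC0 : IsZero (cokernel (HomologicalComplex.homologyMap a n)) := by
    refine isZero_of_subsingleton_hom _ hC (preimAff f) (preimAff_affine f) (preimAff_cover f) ?_
    rintro _ ⟨V, hV, rfl⟩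
    suffices ∀ c : (frX X).obj (f ⁻¹ᵁ V) ⟶ cokernel (HomologicalComplex.homologyMap a n),
        c = 0 from ⟨fun t₁ t₂ => by rw [this t₁, this t₂]⟩
    intro c
    obtain ⟨s', hs'⟩ := surjective_postcomp_frX_of_epi (f ⁻¹ᵁ V) (hV.preimage f) (hI' n) hC
      (cokernel.π (HomologicalComplex.homologyMap a n)) c
    dsimp only at hs'
    obtain ⟨R, hR, hR'⟩ := exists_local_lift_homologyMap f hI' a V hV n s'
    refine (locFr_frX X).zero_of_generate _ c R hR (fun W k hk => ?_)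
    obtain ⟨t, ht⟩ := hR' k hk
    rw [← hs', ← Category.assoc, ← ht, Category.assoc, cokernel.condition, comp_zero]
  haveI := Preadditive.mono_of_isZero_kernel _ hK0
  haveI := Preadditive.epi_of_isZero_cokernel _ hC0
  exact isIso_of_mono_of_epi _

end Main

end Groth.Agent.Lib.H6xAffPush
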