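import Mathlib
import Groth.Agent.Lib.H6xAffReflC
import Groth.Agent.Lib.H6xMVF

/-!
# `Rf_*` reflects isomorphisms on `D_QCoh` for `f` affine: the statement (helper6)
-/

set_option autoImplicit false
set_option linter.style.haveILetI false

universe u

open CategoryTheory CategoryTheory.Limits Opposite AlgebraicGeometry TopologicalSpace
  HomologicalComplex

attribute [local instance] HasDerivedCategory.standard

namespace Groth.Agent.Lib.H6xAffPush

open Groth.Agent.Lib.Helper17.KInj Groth.Agent.Lib.H6xRpushRes Groth.Agent.Lib.H6xMV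
  Groth.Agent.Lib.H6xQcTrunc

theorem isIso_of_isIso_Rpush {X S : Scheme.{u}} (f : X ⟶ S) [IsAffineHom f] [DCoh.HasRpush f]
    {E F : DCoh.D X} (hE : DCoh.IsQCohD E) (hF : DCoh.IsQCohD F) (α : E ⟶ F)
    (hα : IsIso ((DCoh.Rpush f).map α)) : IsIso α := by
  obtain ⟨I, hI, -, ⟨eI⟩⟩ := exists_kInjective_iso' E
  obtain ⟨I', hI', -, ⟨eI'⟩⟩ := exists_kInjective_iso' F
  obtain ⟨a, ha⟩ := exists_Q_map_eq (C := X.Modules) (eI.hom ≫ α ≫ eI'.inv)
  -- `Rf_*(Q a)` is an isomorphism
  haveI : IsIso ((DCoh.Rpush f).map (DerivedCategory.Q.map a)) := by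
    rw [ha, Functor.map_comp, Functor.map_comp]
    infer_instance
  -- hence `f_* a` is a quasi-isomorphism
  haveI : IsIso ((βf f).app I) :=
    isIso_app_of_isKInjective.{u} (Scheme.Modules.pushforward f) (DCoh.Rpush f) (βf f) I
  haveI : IsIso ((βf f).app I') :=
    isIso_app_of_isKInjective.{u} (Scheme.Modules.pushforward f) (DCoh.Rpush f) (βf f) I'
  have nat := (βf f).naturality a
  haveI : IsIso ((DerivedCategory.Q ⋙ DCoh.Rpush f).map a) := by
    dsimp
    infer_instance
  have h2 : ((Scheme.Modules.pushforward f).mapHomologicalComplex (ComplexShape.up ℤ) ⋙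
        DerivedCategory.Q).map a =
      (βf f).app I ≫ (DerivedCategory.Q ⋙ DCoh.Rpush f).map a ≫ inv ((βf f).app I') := by
    rw [← Category.assoc, IsIso.eq_comp_inv]
    exact nat
  haveI : IsIso (((Scheme.Modules.pushforward f).mapHomologicalComplex (ComplexShape.up ℤ) ⋙
        DerivedCategory.Q).map a) := by
    rw [h2]
    infer_instance
  haveI : QuasiIso (((Scheme.Modules.pushforward f).mapHomologicalComplex
      (ComplexShape.up ℤ)).map a) := by
    rw [← DerivedCategory.isIso_Q_map_iff_quasiIso]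
    assumption
  -- quasi-coherent cohomology
  have hqI : ∀ n, Coh.IsQCoh (I.homology n) := fun n =>
    isQCoh_of_iso ((DerivedCategory.homologyFunctor X.Modules n).mapIso eI.symm ≪≫
      (DerivedCategory.homologyFunctorFactors X.Modules n).app I) (hE n)
  have hqI' : ∀ n, Coh.IsQCoh (I'.homology n) := fun n =>
    isQCoh_of_iso ((DerivedCategory.homologyFunctor X.Modules n).mapIso eI'.symm ≪≫
      (DerivedCategory.homologyFunctorFactors X.Modules n).app I') (hF n)
  haveI : QuasiIso a := by
    refine ⟨fun n => ?_⟩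
    rw [quasiIsoAt_iff_isIso_homologyMap]
    exact isIso_homologyMap_of_quasiIso_push f hqI hqI' a n
  haveI : IsIso (DerivedCategory.Q.map a) := by
    rw [DerivedCategory.isIso_Q_map_iff_quasiIso]
    infer_instance
  have h3 : α = eI.inv ≫ DerivedCategory.Q.map a ≫ eI'.hom := by
    rw [ha]
    simp
  rw [h3]
  infer_instance

end Groth.Agent.Lib.H6xAffPush
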