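import Mathlib
import Groth.Agent.Lib.H6xAffReflD
set_option backward.isDefEq.respectTransparency.types false

/-!
# Cohomology of `f_* I` for `f` affine, `I` K-injective with quasi-coherent cohomology:
vanishing is detected degreewise (helper6)
-/

set_option autoImplicit false
set_option linter.style.haveILetI false

universe u

open CategoryTheory CategoryTheory.Limits Opposite AlgebraicGeometry TopologicalSpace
  HomologicalComplex

attribute [local instance] HasDerivedCategory.standard

namespace Groth.Agent.Lib.H6xFinPush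

open Groth.Agent.Lib.Helper17.Hyp Groth.Agent.Lib.Helper17.KInj Groth.Agent.Lib.H6xRpushRes
  Groth.Agent.Lib.H6xMV Groth.Agent.Lib.H6xQcTrunc Groth.Agent.Lib.H6xAffPush

section KInj

variable {X S : Scheme.{u}} (f : X ⟶ S) [IsAffineHom f]
  {I : CochainComplex X.Modules ℤ} [I.IsKInjective] (hI : ∀ n, Coh.IsQCoh (I.homology n))

lemma affine_basis (U : S.Opens) :
    ∃ R : Presieve U, Sieve.generate R ∈ Opens.grothendieckTopology S U ∧
      ∀ ⦃V : S.Opens⦄ (g : V ⟶ U), R g → V ∈ {V : S.Opens | IsAffineOpen V} := by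
  refine ⟨fun V _ => IsAffineOpen V, ?_, fun V g hV => hV⟩
  intro x hx
  obtain ⟨V, hV, hxV, hVU⟩ := (Opens.isBasis_iff_nbhd.1 S.isBasis_affineOpens) hx
  exact ⟨V, homOfLE hVU, ⟨V, 𝟙 V, homOfLE hVU, hV, Category.id_comp _⟩, hxV⟩

include hI in
theorem isZero_homology_push_of_isZero (n : ℤ) (h : IsZero (I.homology n)) :
    IsZero ((((Scheme.Modules.pushforward f).mapHomologicalComplex
      (ComplexShape.up ℤ)).obj I).homology n) := by
  let G := (Scheme.Modules.pushforward f).mapHomologicalComplex (ComplexShape.up ℤ)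
  have hm : Mono (HomologicalComplex.homologyMap (0 : G.obj I ⟶ G.obj I) n) := by
    refine mono_homologyMap_of_cycInj (locFr_frX S) {V | IsAffineOpen V} (affine_basis) _ n
      (fun V hV => ?_)
    intro w hw y _
    obtain ⟨w₀, hw₀⟩ : ∃ w₀ : (frX S).obj V ⟶ (Scheme.Modules.pushforward f).obj (I.X n),
      w₀ = w := ⟨_, rfl⟩
    have hw₀' : w₀ ≫ (Scheme.Modules.pushforward f).map (I.d n (n + 1)) = 0 := by
      rw [hw₀]
      exact hw
    let w' : (frX X).obj (f ⁻¹ᵁ V) ⟶ I.X n := pushEquiv f V (I.X n) w₀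
    have hw' : w' ≫ I.d n (n + 1) = 0 := by
      dsimp only [w']
      rw [← pushEquiv_comp, hw₀']
      exact equiv_zero (Scheme.Modules.pushforward f) _ _ (pushEquiv f V)
        (fun a g => pushEquiv_comp f V a g) _
    obtain ⟨y', hy'⟩ := exists_boundary_of_affine_kInj (f ⁻¹ᵁ V) (hV.preimage f) I hI n w' hw'
      (h.eq_of_tgt _ _)
    refine ⟨(pushEquiv f V (I.X (n - 1))).symm y', ?_⟩
    rw [← hw₀]
    change _ ≫ (Scheme.Modules.pushforward f).map (I.d (n - 1) n) = w₀
    rw [pushEquiv_symm_comp_d, hy']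
    exact Equiv.symm_apply_apply _ _
  rw [HomologicalComplex.homologyMap_zero] at hm
  rw [IsZero.iff_id_eq_zero, ← cancel_mono (0 : (G.obj I).homology n ⟶ (G.obj I).homology n)]
  simp

include hI in
theorem isZero_homology_of_isZero_push (n : ℤ)
    (h : IsZero ((((Scheme.Modules.pushforward f).mapHomologicalComplex
      (ComplexShape.up ℤ)).obj I).homology n)) : IsZero (I.homology n) := by
  let G := (Scheme.Modules.pushforward f).mapHomologicalComplex (ComplexShape.up ℤ)
  refine isZero_of_subsingleton_hom _ (hI n) (preimAff f) (preimAff_affine f) (preimAff_cover f) ?_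
  rintro _ ⟨V, hV, rfl⟩
  suffices ∀ s : (frX X).obj (f ⁻¹ᵁ V) ⟶ I.homology n, s = 0 from
    ⟨fun t₁ t₂ => by rw [this t₁, this t₂]⟩
  intro s
  have hU : IsAffineOpen (f ⁻¹ᵁ V) := hV.preimage f
  obtain ⟨z, hz, hzs⟩ := exists_cycle_of_affine (f ⁻¹ᵁ V) hU I hI n s
  -- transfer to `S`
  let z' : (frX S).obj V ⟶ (G.obj I).X n := (pushEquiv f V (I.X n)).symm z
  have hz' : z' ≫ (G.obj I).d n (n + 1) = 0 := by
    change _ ≫ (Scheme.Modules.pushforward f).map (I.d n (n + 1)) = 0
    rw [pushEquiv_symm_comp_d, hz, pushEquiv_symm_zero]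
  obtain ⟨T, hT, hT'⟩ := local_boundary (locFr_frX S) (G.obj I) n V
    ((G.obj I).liftCycles z' (n + 1) (by simp) hz') (h.eq_of_tgt _ _)
  refine (locFr_frX X).zero_of_generate (f ⁻¹ᵁ V) s (preimagePresieve f T)
    (generate_preimagePresieve_mem f T hT) ?_
  rintro W k ⟨V', i, hi, rfl⟩
  obtain ⟨y₀, hy₀⟩ := hT' i hi
  obtain rfl : k = (Opens.map f.base).map i := Subsingleton.elim _ _
  obtain ⟨y, hy⟩ : ∃ y : (frX S).obj V' ⟶ (Scheme.Modules.pushforward f).obj (I.X (n - 1)),
    y = y₀ := ⟨_, rfl⟩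
  have h1 : y ≫ (Scheme.Modules.pushforward f).map (I.d (n - 1) n) =
      (frX S).map i ≫ (pushEquiv f V (I.X n)).symm z := by
    have h2 := congrArg (fun t => t ≫ (G.obj I).iCycles n) hy₀
    simp only [Category.assoc, HomologicalComplex.toCycles_i,
      HomologicalComplex.liftCycles_i] at h2
    rw [hy]
    exact h2
  have hb : pushEquiv f V' (I.X (n - 1)) y ≫ I.d (n - 1) n =
      (frX X).map ((Opens.map f.base).map i) ≫ z := by
    rw [← pushEquiv_comp, h1, pushEquiv_map, Equiv.apply_symm_apply]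
  rw [← hzs, ← Category.assoc]
  have h3 : (frX X).map ((Opens.map f.base).map i) ≫ I.liftCycles z (n + 1) (by simp) hz =
      pushEquiv f V' (I.X (n - 1)) y ≫ I.toCycles (n - 1) n := by
    rw [← cancel_mono (I.iCycles n), Category.assoc, Category.assoc,
      HomologicalComplex.liftCycles_i, HomologicalComplex.toCycles_i, hb]
  rw [h3, Category.assoc, HomologicalComplex.toCycles_comp_homologyπ, comp_zero]

end KInj

end Groth.Agent.Lib.H6xFinPush

namespace Groth.Agent.Lib.H6xFinPush

open Groth.Agent.Lib.Helper17.Hyp Groth.Agent.Lib.Helper17.KInj Groth.Agent.Lib.H6xRpushRes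
  Groth.Agent.Lib.H6xMV Groth.Agent.Lib.H6xQcTrunc Groth.Agent.Lib.H6xAffPush

section Derived

variable {X S : Scheme.{u}} (f : X ⟶ S) [IsAffineHom f] [DCoh.HasRpush f]

theorem isZero_HD_Rpush_iff (E : DCoh.D X) (hE : DCoh.IsQCohD E) (n : ℤ) :
    IsZero ((DerivedCategory.homologyFunctor S.Modules n).obj ((DCoh.Rpush f).obj E)) ↔
      IsZero ((DerivedCategory.homologyFunctor X.Modules n).obj E) := by
  obtain ⟨I, hI, -, ⟨eI⟩⟩ := exists_kInjective_iso' E
  let G := (Scheme.Modules.pushforward f).mapHomologicalComplex (ComplexShape.up ℤ)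
  haveI : IsIso ((βf f).app I) :=
    isIso_app_of_isKInjective.{u} (Scheme.Modules.pushforward f) (DCoh.Rpush f) (βf f) I
  have hqI : ∀ n, Coh.IsQCoh (I.homology n) := fun n =>
    isQCoh_of_iso ((DerivedCategory.homologyFunctor X.Modules n).mapIso eI.symm ≪≫
      (DerivedCategory.homologyFunctorFactors X.Modules n).app I) (hE n)
  let e1 : (DerivedCategory.homologyFunctor X.Modules n).obj E ≅ I.homology n :=
    (DerivedCategory.homologyFunctor X.Modules n).mapIso eI.symm ≪≫
      (DerivedCategory.homologyFunctorFactors X.Modules n).app I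
  let e2 : (DerivedCategory.homologyFunctor S.Modules n).obj ((DCoh.Rpush f).obj E) ≅
      (G.obj I).homology n :=
    (DerivedCategory.homologyFunctor S.Modules n).mapIso
      ((DCoh.Rpush f).mapIso eI.symm ≪≫ (asIso ((βf f).app I)).symm) ≪≫
      (DerivedCategory.homologyFunctorFactors S.Modules n).app (G.obj I)
  constructor
  · intro h
    exact IsZero.of_iso (isZero_homology_of_isZero_push f hqI n (IsZero.of_iso h e2.symm)) e1
  · intro h
    exact IsZero.of_iso (isZero_homology_push_of_isZero f hqI n (IsZero.of_iso h e1.symm)) e2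

theorem isLE_Rpush_iff (E : DCoh.D X) (hE : DCoh.IsQCohD E) (n : ℤ) :
    ((DCoh.Rpush f).obj E).IsLE n ↔ E.IsLE n := by
  rw [DerivedCategory.isLE_iff, DerivedCategory.isLE_iff]
  exact forall_congr' fun i => forall_congr' fun _ => isZero_HD_Rpush_iff f E hE i

end Derived

end Groth.Agent.Lib.H6xFinPush
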