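import Mathlib
import Groth.Prelude.Def_DCoh3
import Groth.Agent.Lib.H6xSuppPushB
import Groth.Agent.Lib.Helper23QCohAbelian
import Groth.Agent.Lib.Helper23FinTypeLocal
import Groth.Agent.Lib.Helper23TensorQCoh
import Groth.Agent.Lib.R2H2PullLF
set_option backward.isDefEq.respectTransparency.types false

/-!
# Pseudo-coherent objects of `D(O_X)`: local characterisation and quasi-coherence of cohomology
(helper6)
-/

set_option autoImplicit false
set_option linter.style.haveILetI false
universe u
open CategoryTheory CategoryTheory.Limits AlgebraicGeometry TopologicalSpace Opposite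
  CategoryTheory.Pretriangulated

attribute [local instance] HasDerivedCategory.standard

namespace Groth.Agent.Lib.H6xPCoh

open Groth.Agent.Lib.H6xSuppPush

variable {X : Scheme.{u}}

/-- pseudo-coherent objects, locally on opens of `X` -/
theorem isPseudoCoherentD_iff_opens (m : ℤ) (K : DCoh.D X) :
    DCoh.IsPseudoCoherentD m K ↔ ∀ x : X, ∃ V : X.Opens, x ∈ V ∧
      ∃ (E : CochainComplex (V : Scheme.{u}).Modules ℤ)
        (α : DerivedCategory.Q.obj E ⟶ (DCoh.restrictD V.ι).obj K), DCoh.IsStrictlyPerfect E ∧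
        (∀ i : ℤ, m < i → IsIso ((DerivedCategory.homologyFunctor _ i).map α)) ∧
        Epi ((DerivedCategory.homologyFunctor _ m).map α) := by
  constructor
  · intro hK x
    obtain ⟨V, hxV, hV⟩ := hK x
    obtain ⟨E, α, hE, h1, h2⟩ := hV ((DerivedCategory.Q : _ ⥤ DCoh.D X).objPreimage K)
      ⟨DerivedCategory.Q.objObjPreimageIso K⟩
    let ι := ((Scheme.Modules.restrictFunctor V.ι).mapDerivedCategoryFactors.app _).symm ≪≫
      (DCoh.restrictD V.ι).mapIso (DerivedCategory.Q.objObjPreimageIso K)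
    refine ⟨V, hxV, E, α ≫ ι.hom, hE, fun i hi => ?_, ?_⟩
    · haveI := h1 i hi
      rw [Functor.map_comp]
      infer_instance
    · rw [Functor.map_comp]
      exact epi_comp _ _
  · intro h x
    obtain ⟨V, hxV, E, α, hE, h1, h2⟩ := h x
    refine ⟨V, hxV, fun F ⟨eF⟩ => ?_⟩
    let ι := (DCoh.restrictD V.ι).mapIso eF.symm ≪≫
      (Scheme.Modules.restrictFunctor V.ι).mapDerivedCategoryFactors.app F
    refine ⟨E, α ≫ ι.hom, hE, fun i hi => ?_, ?_⟩
    · haveI := h1 i hi
      rw [Functor.map_comp]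
      infer_instance
    · rw [Functor.map_comp]
      exact epi_comp _ _

/-- local data of an `m`-pseudo-coherent object: cohomology in degrees `> m` is locally the
cohomology of a strictly perfect complex, and in degree `m` a quotient of it -/
theorem exists_local_data (m : ℤ) (K : DCoh.D X) (hK : DCoh.IsPseudoCoherentD m K) (x : X) :
    ∃ V : X.Opens, x ∈ V ∧ ∃ E : CochainComplex (V : Scheme.{u}).Modules ℤ,
      DCoh.IsStrictlyPerfect E ∧
      (∀ i : ℤ, m < i → Nonempty (E.homology i ≅ (DCoh.HD K i).restrict V.ι)) ∧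
      ∃ π : E.homology m ⟶ (DCoh.HD K m).restrict V.ι, Epi π := by
  obtain ⟨V, hxV, E, α, hE, h1, h2⟩ := (isPseudoCoherentD_iff_opens m K).1 hK x
  have e1 : ∀ i : ℤ, Nonempty ((DerivedCategory.homologyFunctor _ i).obj
      ((DCoh.restrictD V.ι).obj K) ≅ (DCoh.HD K i).restrict V.ι) := fun i =>
    nonempty_homology_mapDerivedCategory_iso (Scheme.Modules.restrictFunctor V.ι) K i
  refine ⟨V, hxV, E, hE, fun i hi => ?_, ?_⟩
  · haveI := h1 i hi
    obtain ⟨e⟩ := e1 i
    exact ⟨((DerivedCategory.homologyFunctorFactors _ i).app E).symm ≪≫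
      asIso ((DerivedCategory.homologyFunctor _ i).map α) ≪≫ e⟩
  · obtain ⟨e⟩ := e1 m
    refine ⟨((DerivedCategory.homologyFunctorFactors _ m).app E).inv ≫
      (DerivedCategory.homologyFunctor _ m).map α ≫ e.hom, ?_⟩
    haveI : Epi ((DerivedCategory.homologyFunctor _ m).map α ≫ e.hom) := epi_comp _ _
    exact epi_comp _ _

/-- cohomology of a complex of quasi-coherent modules is quasi-coherent -/
lemma isQuasicoherent_homology (K : CochainComplex X.Modules ℤ)
    (hK : ∀ i, (K.X i).IsQuasicoherent) (i : ℤ) : (K.homology i).IsQuasicoherent := by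
  haveI := hK i
  haveI := hK (i + 1)
  haveI := hK (i - 1)
  have e1 : K.cycles i ≅ kernel (K.d i (i + 1)) :=
    (K.cyclesIsKernel i (i + 1) (by simp)).conePointUniqueUpToIso (limit.isLimit _)
  haveI : (kernel (K.d i (i + 1))).IsQuasicoherent :=
    Groth.Agent.Lib.Helper23.QCohLocal.isQuasicoherent_kernel _
  haveI hZ : (K.cycles i).IsQuasicoherent :=
    Groth.Agent.Lib.Helper23.TensorQCoh.isQuasicoherent_of_iso e1.symm
  have e2 : K.homology i ≅ cokernel (K.toCycles (i - 1) i) :=
    (K.homologyIsCokernel (i - 1) i (by simp)).coconePointUniqueUpToIso (colimit.isColimit _)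
  haveI : (cokernel (K.toCycles (i - 1) i)).IsQuasicoherent :=
    Groth.Agent.Lib.Helper23.QCohLocal.isQuasicoherent_cokernel _
  exact Groth.Agent.Lib.Helper23.TensorQCoh.isQuasicoherent_of_iso e2.symm

lemma isQuasicoherent_homology_of_strictlyPerfect (E : CochainComplex X.Modules ℤ)
    (hE : DCoh.IsStrictlyPerfect E) (i : ℤ) : (E.homology i).IsQuasicoherent :=
  isQuasicoherent_homology E
    (fun j => Groth.Agent.Lib.R2H2.PullLF.isQuasicoherent_of_isFinLocFree _ (hE.2 j)) i

/-- **S7240** -/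
theorem qcoh_cohomology_of_pseudoCoherent (m : ℤ) (E : DCoh.D X)
    (hE : DCoh.IsPseudoCoherentD m E) :
    (∀ i : ℤ, m < i → Coh.IsQCoh (DCoh.HD E i)) ∧
      ∀ x : X, ∃ (V : X.Opens) (Q : (V : Scheme.{u}).Modules)
        (π : Q ⟶ (Scheme.Modules.restrictFunctor V.ι).obj (DCoh.HD E m)),
          x ∈ V ∧ Coh.IsQCoh Q ∧ Epi π := by
  choose V hxV E' hE' hiso hepi using exists_local_data m E hE
  have hcov : IsOpenCover V := by
    rw [IsOpenCover, eq_top_iff]
    intro x _
    exact Opens.mem_iSup.2 ⟨x, hxV x⟩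
  constructor
  · intro i hi
    refine Groth.Agent.Lib.Helper23.FinType.isQuasicoherent_of_open_cover _ V hcov (fun x => ?_)
    obtain ⟨e⟩ := hiso x i hi
    haveI := isQuasicoherent_homology_of_strictlyPerfect (E' x) (hE' x) i
    exact Groth.Agent.Lib.Helper23.TensorQCoh.isQuasicoherent_of_iso e
  · intro x
    obtain ⟨π, hπ⟩ := hepi x
    exact ⟨V x, (E' x).homology m, π, hxV x,
      isQuasicoherent_homology_of_strictlyPerfect (E' x) (hE' x) m, hπ⟩

end Groth.Agent.Lib.H6xPCoh
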