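import Mathlib
import Groth.Prelude.Def_DCoh2
import Groth.Prelude.Def_FlatMod2
import Groth.Agent.Lib.H6xGamAcD
import Groth.Agent.Lib.Helper4ModEpi
import Groth.Agent.Lib.H6xPerfLoc
set_option backward.isDefEq.respectTransparency.types false

/-!
# Local lifting of maps out of finite locally free modules along epimorphisms (helper6)
-/

set_option autoImplicit false
set_option linter.style.haveILetI false
universe u
open CategoryTheory CategoryTheory.Limits AlgebraicGeometry TopologicalSpace Opposite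

namespace Groth.Agent.Lib.H6xLocLift

open Groth.Agent.Lib.H6xGamAc

variable {X : Scheme.{u}}

/-- a section of `M` over `V`, seen as a global section of `M|_V` -/
noncomputable def secTop (M : X.Modules) (V : X.Opens) (t : Γ(M, V)) :
    (DCoh.gammaAb (V : Scheme.{u})).obj (M.restrict V.ι) :=
  M.presheaf.map (eqToHom V.ι_image_top).op t

/-- the morphism `O_X|_V ⟶ M|_V` attached to a section of `M` over `V` -/
noncomputable def liftV (M : X.Modules) (V : X.Opens) (t : Γ(M, V)) :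
    (OY X).restrict V.ι ⟶ M.restrict V.ι :=
  (Scheme.Modules.restrictUnitIso V.ι).hom ≫ ofGam _ (secTop M V t)

lemma secTop_app {M N : X.Modules} (π : M ⟶ N) (V : X.Opens) (t : Γ(M, V)) :
    (DCoh.gammaAb (V : Scheme.{u})).map ((Scheme.Modules.restrictFunctor V.ι).map π)
      (secTop M V t) = secTop N V (π.app V t) := by
  have h := π.mapPresheaf.naturality (eqToHom V.ι_image_top).op
  exact congrArg (fun f => f t) h

lemma liftV_comp {M N : X.Modules} (π : M ⟶ N) (V : X.Opens) (t : Γ(M, V)) :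
    liftV M V t ≫ (Scheme.Modules.restrictFunctor V.ι).map π = liftV N V (π.app V t) := by
  unfold liftV
  rw [Category.assoc, ofGam_comp, secTop_app]

lemma toGam_restrictUnitIso_inv (V : X.Opens) :
    toGam _ (Scheme.Modules.restrictUnitIso V.ι).inv = (1 : Γ(X, V.ι ''ᵁ ⊤)) := by
  unfold toGam
  have h1 : (Scheme.Modules.restrictUnitIso V.ι).hom.val.app (op ⊤)
      (1 : Γ(X, V.ι ''ᵁ ⊤)) = (1 : Γ((V : Scheme.{u}), (⊤ : (V : Scheme.{u}).Opens))) := by
    change (V.ι.appIso ⊤).hom 1 = 1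
    exact map_one _
  calc (Scheme.Modules.restrictUnitIso V.ι).inv.val.app (op ⊤)
        (1 : Γ((V : Scheme.{u}), (⊤ : (V : Scheme.{u}).Opens)))
      = (Scheme.Modules.restrictUnitIso V.ι).inv.val.app (op ⊤)
          ((Scheme.Modules.restrictUnitIso V.ι).hom.val.app (op ⊤)
            (1 : Γ(X, V.ι ''ᵁ ⊤))) := by rw [h1]
    _ = (((Scheme.Modules.restrictUnitIso V.ι).hom ≫
          (Scheme.Modules.restrictUnitIso V.ι).inv).val.app (op ⊤)) (1 : Γ(X, V.ι ''ᵁ ⊤)) := rfl
    _ = (1 : Γ(X, V.ι ''ᵁ ⊤)) := by rw [Iso.hom_inv_id]; rfl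

lemma liftV_toGam {N : X.Modules} (φ : OY X ⟶ N) (V : X.Opens) :
    liftV N V (N.presheaf.map (homOfLE le_top).op (toGam N φ)) =
      (Scheme.Modules.restrictFunctor V.ι).map φ := by
  unfold liftV
  rw [← Iso.eq_inv_comp]
  apply toGam_injective
  rw [toGam_ofGam, toGam_comp, toGam_restrictUnitIso_inv]
  unfold secTop toGam
  rw [← ConcreteCategory.comp_apply, ← Functor.map_comp]
  change N.val.map (homOfLE le_top : V.ι ''ᵁ ⊤ ⟶ ⊤).op
    (φ.val.app (op ⊤) (1 : X.ringCatSheaf.obj.obj (op ⊤))) =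
      φ.val.app (op (V.ι ''ᵁ ⊤)) (1 : X.ringCatSheaf.obj.obj (op (V.ι ''ᵁ ⊤)))
  rw [← PresheafOfModules.naturality_apply]
  congr 1
  exact PresheafOfModules.unit_map_one _ _

/-- local lifting of maps out of a finite free module along an epimorphism -/
theorem exists_lift_free (n : ℕ) {M N : X.Modules} (π : M ⟶ N) [Epi π]
    (φ : FlatMod.freeMod X n ⟶ N) (x : X) :
    ∃ (V : X.Opens), x ∈ V ∧ ∃ ψ : (FlatMod.freeMod X n).restrict V.ι ⟶ M.restrict V.ι,
      ψ ≫ (Scheme.Modules.restrictFunctor V.ι).map π =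
        (Scheme.Modules.restrictFunctor V.ι).map φ := by
  have h : ∀ i : Fin n, ∃ (V : X.Opens) (_ : x ∈ V) (t : Γ(M, V)),
      π.app V t = N.presheaf.map (homOfLE le_top : V ⟶ ⊤).op
        (toGam N (Sigma.ι (fun _ : Fin n => Coh.structureModule X) i ≫ φ)) := by
    intro i
    obtain ⟨V, hV, hx, t, ht⟩ := Groth.Agent.Lib.Helper4.ModEpi.exists_app_eq_of_epi π ⊤
      (toGam N (Sigma.ι (fun _ : Fin n => Coh.structureModule X) i ≫ φ)) x trivial
    exact ⟨V, hx, t, ht⟩
  choose V hxV t ht using h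
  let W : X.Opens := ⨅ i, V i
  have hxW : x ∈ W := by
    rw [← SetLike.mem_coe, Opens.coe_iInf]
    simp [hxV]
  have hW : ∀ i, W ≤ V i := fun i => iInf_le _ i
  let G := Scheme.Modules.restrictFunctor W.ι
  let f : Fin n → X.Modules := fun _ => Coh.structureModule X
  let c := sigmaComparison G f
  haveI : IsIso c := inferInstance
  refine ⟨W, hxW, inv c ≫ Sigma.desc
    (fun i => liftV M W (M.presheaf.map (homOfLE (hW i)).op (t i))), ?_⟩
  rw [← cancel_epi c]
  apply Sigma.hom_ext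
  intro i
  rw [Category.assoc, IsIso.hom_inv_id_assoc, Sigma.ι_desc_assoc, liftV_comp]
  rw [ι_comp_sigmaComparison_assoc, ← Functor.map_comp, ← liftV_toGam]
  congr 1
  have hn := π.mapPresheaf.naturality (homOfLE (hW i)).op
  have hn' := congrArg (fun f => f (t i)) hn
  refine hn'.trans ?_
  change N.presheaf.map (homOfLE (hW i)).op (π.app (V i) (t i)) = _
  rw [ht i, ← ConcreteCategory.comp_apply, ← Functor.map_comp]
  rfl

/-- **local lifting lemma**: a map from a finite locally free module lifts, locally, along any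
epimorphism -/
theorem exists_lift {P M N : X.Modules} (hP : FlatMod.IsFinLocFree P) (π : M ⟶ N) [Epi π]
    (φ : P ⟶ N) (x : X) :
    ∃ (Z : Scheme.{u}) (g : Z ⟶ X) (_ : IsOpenImmersion g), x ∈ Set.range g.base ∧
      ∃ ψ : P.restrict g ⟶ M.restrict g,
        ψ ≫ (Scheme.Modules.restrictFunctor g).map π =
          (Scheme.Modules.restrictFunctor g).map φ := by
  obtain ⟨U, n, hxU, ⟨e⟩⟩ := hP x
  haveI : Epi ((Scheme.Modules.restrictFunctor U.ι).map π) := inferInstance
  obtain ⟨x', hx'⟩ : ∃ x' : (U : Scheme.{u}), U.ι.base x' = x := ⟨⟨x, hxU⟩, rfl⟩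
  obtain ⟨V, hxV, ψ, hψ⟩ := exists_lift_free n ((Scheme.Modules.restrictFunctor U.ι).map π)
    (e.inv ≫ (Scheme.Modules.restrictFunctor U.ι).map φ) x'
  let comp := Scheme.Modules.restrictFunctorComp V.ι U.ι
  refine ⟨V, V.ι ≫ U.ι, inferInstance, ⟨⟨x', hxV⟩, ?_⟩, comp.hom.app P ≫
    (Scheme.Modules.restrictFunctor V.ι).map e.hom ≫ ψ ≫ comp.inv.app M, ?_⟩
  · rw [← hx']; rfl
  · have h1 := comp.inv.naturality π
    have h2 := comp.hom.naturality φ
    dsimp only [Functor.comp_map] at h1 h2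
    rw [Category.assoc, Category.assoc, Category.assoc, ← h1, reassoc_of% hψ,
      ← Functor.map_comp_assoc, Iso.hom_inv_id_assoc, ← reassoc_of% h2, Iso.hom_inv_id_app,
      Category.comp_id]

/-- local lifting along the first map of an exact sequence -/
theorem exists_lift_exact {P : X.Modules} (hP : FlatMod.IsFinLocFree P)
    (S : ShortComplex X.Modules) (hS : S.Exact) (φ : P ⟶ S.X₂) (hφ : φ ≫ S.g = 0) (x : X) :
    ∃ (Z : Scheme.{u}) (g : Z ⟶ X) (_ : IsOpenImmersion g), x ∈ Set.range g.base ∧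
      ∃ ψ : P.restrict g ⟶ S.X₁.restrict g,
        ψ ≫ (Scheme.Modules.restrictFunctor g).map S.f =
          (Scheme.Modules.restrictFunctor g).map φ := by
  haveI := hS.epi_toCycles
  obtain ⟨Z, g, hg, hx, ψ, hψ⟩ := exists_lift hP S.toCycles (S.liftCycles φ hφ) x
  refine ⟨Z, g, hg, hx, ψ, ?_⟩
  rw [← S.toCycles_i, Functor.map_comp, reassoc_of% hψ, ← Functor.map_comp, S.liftCycles_i]

end Groth.Agent.Lib.H6xLocLift
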