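import Mathlib
import Groth.Agent.Lib.H6xLocLiftA
set_option backward.isDefEq.respectTransparency.types false

/-!
# Maps from strictly perfect complexes to complexes acyclic in high degrees are locally
null-homotopic (helper6)
-/

set_option autoImplicit false
set_option linter.style.haveILetI false
universe u
open CategoryTheory CategoryTheory.Limits AlgebraicGeometry TopologicalSpace Opposite

namespace Groth.Agent.Lib.H6xLocLift

/-- restriction of complexes along an open immersion -/
noncomputable abbrev resC {Z X : Scheme.{u}} (g : Z ⟶ X) [IsOpenImmersion g] :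
    CochainComplex X.Modules ℤ ⥤ CochainComplex Z.Modules ℤ :=
  (Scheme.Modules.restrictFunctor g).mapHomologicalComplex (ComplexShape.up ℤ)

/-- the natural isomorphism `resC k ≅ resC j ⋙ resC g` for `g ≫ j = k` (componentwise) -/
noncomputable def resCComp {Z Y X : Scheme.{u}} (g : Z ⟶ Y) (j : Y ⟶ X) (k : Z ⟶ X)
    [IsOpenImmersion g] [IsOpenImmersion j] [IsOpenImmersion k] (h : g ≫ j = k) :
    resC k ≅ (Scheme.Modules.restrictFunctor j ⋙
      Scheme.Modules.restrictFunctor g).mapHomologicalComplex (ComplexShape.up ℤ) :=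
  NatIso.mapHomologicalComplex ((Scheme.Modules.restrictFunctorCongr h).symm ≪≫
    Scheme.Modules.restrictFunctorComp g j) (ComplexShape.up ℤ)

lemma resC_map_eq {Z Y X : Scheme.{u}} (g : Z ⟶ Y) (j : Y ⟶ X) (k : Z ⟶ X)
    [IsOpenImmersion g] [IsOpenImmersion j] [IsOpenImmersion k] (h : g ≫ j = k)
    {E F : CochainComplex X.Modules ℤ} (α : E ⟶ F) :
    (resC k).map α = (resCComp g j k h).hom.app E ≫ (resC g).map ((resC j).map α) ≫
      (resCComp g j k h).inv.app F := by
  have h1 : (resC k).map α ≫ (resCComp g j k h).hom.app F =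
      (resCComp g j k h).hom.app E ≫ (resC g).map ((resC j).map α) :=
    (resCComp g j k h).hom.naturality α
  have h2 := congrArg (· ≫ (resCComp g j k h).inv.app F) h1
  simp only [Category.assoc, Iso.hom_inv_id_app, Category.comp_id] at h2
  exact h2

/-- **transport of homotopies** along a factorisation of open immersions -/
noncomputable def homotopyOfComp {Z Y X : Scheme.{u}} (g : Z ⟶ Y) (j : Y ⟶ X) (k : Z ⟶ X)
    [IsOpenImmersion g] [IsOpenImmersion j] [IsOpenImmersion k] (h : g ≫ j = k)
    {E F : CochainComplex X.Modules ℤ} (α β : E ⟶ F)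
    (H : Homotopy ((resC g).map ((resC j).map α)) ((resC g).map ((resC j).map β))) :
    Homotopy ((resC k).map α) ((resC k).map β) :=
  (Homotopy.ofEq (resC_map_eq g j k h α)).trans
    ((((H.compRight _).compLeft _)).trans (Homotopy.ofEq (resC_map_eq g j k h β).symm))

lemma isZero_homology_resC {Z X : Scheme.{u}} (g : Z ⟶ X) [IsOpenImmersion g]
    (F : CochainComplex X.Modules ℤ) (i : ℤ) (h : IsZero (F.homology i)) :
    IsZero (((resC g).obj F).homology i) := by
  rw [← HomologicalComplex.exactAt_iff_isZero_homology] at h ⊢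
  exact ShortComplex.Exact.map h (Scheme.Modules.restrictFunctor g)

theorem locNull_aux (n : ℕ) : ∀ {X : Scheme.{u}} {E F : CochainComplex X.Modules ℤ} (α : E ⟶ F)
    (_ : ∀ i, FlatMod.IsFinLocFree (E.X i)) (a : ℤ) (_ : ∀ i, i < a → IsZero (E.X i))
    (_ : ∀ i, a ≤ i → IsZero (F.homology i)) (_ : ∀ i, a + n ≤ i → α.f i = 0) (x : X),
    ∃ (Z : Scheme.{u}) (g : Z ⟶ X) (_ : IsOpenImmersion g), x ∈ Set.range g.base ∧
      Nonempty (Homotopy ((resC g).map α) 0) := by
  induction n with
  | zero =>
    intro X E F α hE a hEa hF hα x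
    have h0 : α = 0 := by
      refine HomologicalComplex.hom_ext _ _ (fun i => ?_)
      by_cases hi : i < a
      · exact (hEa i hi).eq_of_src _ _
      · exact hα i (by simpa using (not_lt.1 hi))
    subst h0
    exact ⟨X, 𝟙 X, inferInstance, ⟨x, rfl⟩, ⟨Homotopy.ofEq (Functor.map_zero _ _ _)⟩⟩
  | succ n ih =>
    intro X E F α hE a hEa hF hα x
    obtain ⟨b, hb⟩ : ∃ b : ℤ, b = a + n := ⟨_, rfl⟩
    have hex : (F.sc' (b - 1) b (b + 1)).Exact :=
      (F.exactAt_iff' (b - 1) b (b + 1) (by simp) (by simp)).1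
        ((F.exactAt_iff_isZero_homology b).2 (hF b (by omega)))
    have hφ : α.f b ≫ F.d b (b + 1) = 0 := by
      rw [α.comm, hα (b + 1) (by push_cast; omega), comp_zero]
    obtain ⟨Z, g, hg, hx, ψ, hψ⟩ := exists_lift_exact (hE b) _ hex (α.f b) hφ x
    let hom : ∀ i j, ((resC g).obj E).X i ⟶ ((resC g).obj F).X j := fun i j =>
      if h : i = b ∧ j = b - 1 then eqToHom (by rw [h.1]; rfl) ≫ ψ ≫ eqToHom (by rw [h.2]; rfl)
      else 0
    have hom_b : hom b (b - 1) = ψ := by
      dsimp only [hom]
      rw [dif_pos ⟨rfl, rfl⟩]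
      change 𝟙 _ ≫ ψ ≫ 𝟙 _ = ψ
      rw [Category.id_comp, Category.comp_id]
    have hom_ne : ∀ i j, i ≠ b → hom i j = 0 := by
      intro i j hi
      simp [hom, hi]
    have hzero : ∀ i j, ¬ (ComplexShape.up ℤ).Rel j i → hom i j = 0 := by
      intro i j hij
      dsimp only [hom]
      rw [dif_neg]
      rintro ⟨rfl, rfl⟩
      exact hij (by simp)
    let ν := Homotopy.nullHomotopicMap hom
    let β := (resC g).map α - ν
    have hβ : ∀ i, a + n ≤ i → β.f i = 0 := by
      intro i hi
      have hν : ν.f i = ((resC g).obj E).d i (i + 1) ≫ hom (i + 1) i +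
          hom i (i - 1) ≫ ((resC g).obj F).d (i - 1) i :=
        Homotopy.nullHomotopicMap_f (k₂ := i - 1) (k₁ := i) (k₀ := i + 1) (by simp) (by simp) hom
      change ((resC g).map α).f i - ν.f i = 0
      rw [hν]
      by_cases hib : i = b
      · subst hib
        rw [hom_ne (i + 1) i (by omega), hom_b, comp_zero, zero_add]
        have : ((resC g).map α).f i = ψ ≫ ((resC g).obj F).d (i - 1) i := hψ.symm
        rw [this]
        exact sub_self _
      · rw [hom_ne i (i - 1) hib, hom_ne (i + 1) i (by omega), comp_zero, zero_comp, zero_add,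
          sub_zero]
        change (Scheme.Modules.restrictFunctor g).map (α.f i) = 0
        rw [hα i (by push_cast; omega), Functor.map_zero]
    obtain ⟨z, rfl⟩ := hx
    obtain ⟨Z', g', hg', hz, ⟨H⟩⟩ := ih β
      (fun i => Groth.Agent.Lib.H6xPerfLoc.isFinLocFree_restrict g _ (hE i)) a
      (fun i hi => (Scheme.Modules.restrictFunctor g).map_isZero (hEa i hi))
      (fun i hi => isZero_homology_resC g F i (hF i hi)) hβ z
    obtain ⟨z', rfl⟩ := hz
    refine ⟨Z', g' ≫ g, inferInstance, ⟨z', rfl⟩, ⟨?_⟩⟩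
    have H2 : Homotopy ((resC g').map ν) 0 :=
      ((Scheme.Modules.restrictFunctor g').mapHomotopy (Homotopy.nullHomotopy hom hzero)).trans
        (Homotopy.ofEq (Functor.map_zero _ _ _))
    have e1 : (resC g').map ((resC g).map α) = (resC g').map β + (resC g').map ν := by
      rw [← Functor.map_add]
      congr 1
      simp [β]
    have H3 : Homotopy ((resC g').map ((resC g).map α)) ((resC g').map ((resC g).map 0)) :=
      (Homotopy.ofEq e1).trans ((H.add H2).trans (Homotopy.ofEq (by simp)))
    exact (homotopyOfComp g' g _ rfl α 0 H3).trans (Homotopy.ofEq (Functor.map_zero _ _ _))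

/-- from a general open immersion to its range -/
noncomputable def homotopyOpensRange {Z X : Scheme.{u}} (g : Z ⟶ X) [IsOpenImmersion g]
    {E F : CochainComplex X.Modules ℤ} (α β : E ⟶ F)
    (H : Homotopy ((resC g).map α) ((resC g).map β)) :
    Homotopy ((DCoh.restrictCx g.opensRange).map α) ((DCoh.restrictCx g.opensRange).map β) :=
  homotopyOfComp g.isoOpensRange.inv g g.opensRange.ι g.isoOpensRange_inv_comp α β
    ((Scheme.Modules.restrictFunctor g.isoOpensRange.inv).mapHomotopy H)

/-- **S0932**: a map from a strictly perfect complex vanishing in degrees `< a` to a complex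
acyclic in degrees `≥ a` is locally null-homotopic -/
theorem locNull {X : Scheme.{u}} {E F : CochainComplex X.Modules ℤ} (α : E ⟶ F)
    (hE : DCoh.IsStrictlyPerfect E) (a : ℤ) (hEa : ∀ i, i < a → IsZero (E.X i))
    (hF : ∀ i, a ≤ i → IsZero (F.homology i)) (x : X) :
    ∃ V : X.Opens, x ∈ V ∧ Nonempty (Homotopy ((DCoh.restrictCx V).map α) 0) := by
  obtain ⟨⟨a', b', hab⟩, hflf⟩ := hE
  have hα : ∀ i, a + ((b' + 1 - a).toNat : ℤ) ≤ i → α.f i = 0 := by
    intro i hi
    refine (hab i (Or.inr ?_)).eq_of_src _ _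
    have := Int.self_le_toNat (b' + 1 - a)
    omega
  obtain ⟨Z, g, hg, hx, ⟨H⟩⟩ := locNull_aux _ α hflf a hEa hF hα x
  refine ⟨g.opensRange, hx, ⟨?_⟩⟩
  exact (homotopyOpensRange g α 0 (H.trans (Homotopy.ofEq (Functor.map_zero _ _ _).symm))).trans
    (Homotopy.ofEq (Functor.map_zero _ _ _))

end Groth.Agent.Lib.H6xLocLift
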