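import Mathlib
import Groth.Agent.Lib.H6xLocLiftB
set_option backward.isDefEq.respectTransparency.types false

/-!
# Local lifting up to homotopy through maps which are isomorphisms on high cohomology (helper6)
-/

set_option autoImplicit false
set_option linter.style.haveILetI false
universe u
open CategoryTheory CategoryTheory.Limits AlgebraicGeometry TopologicalSpace Opposite
  CategoryTheory.Pretriangulated

attribute [local instance] HasDerivedCategory.standard

namespace Groth.Agent.Lib.H6xLocLift

section cone

universe v w
variable {A : Type w} [Category.{v} A] [Abelian A] [HasDerivedCategory A]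

lemma isZero_homology_mappingCone {G F : CochainComplex A ℤ} (f : G ⟶ F) (j : ℤ)
    [Epi (HomologicalComplex.homologyMap f j)]
    [Mono (HomologicalComplex.homologyMap f (j + 1))] :
    IsZero ((CochainComplex.mappingCone f).homology j) := by
  let T := CochainComplex.mappingCone.triangle f
  have hT : DerivedCategory.Q.mapTriangle.obj T ∈ distTriang _ :=
    DerivedCategory.mappingCone_triangle_distinguished f
  haveI : Epi (HomologicalComplex.homologyMap T.mor₁ j) := ‹_›
  haveI : Mono (HomologicalComplex.homologyMap T.mor₁ (j + 1)) := ‹_›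
  have z1 : HomologicalComplex.homologyMap T.mor₂ j = 0 := by
    rw [← cancel_epi (HomologicalComplex.homologyMap T.mor₁ j),
      CochainComplex.homologyMap_comp_eq_zero_of_distTriang T hT j, comp_zero]
  have z2 : CochainComplex.homologyδOfTriangle T j (j + 1) rfl = 0 := by
    rw [← cancel_mono (HomologicalComplex.homologyMap T.mor₁ (j + 1)),
      CochainComplex.homologyδOfTriangle_homologyMap T hT j (j + 1) rfl, zero_comp]
  exact (CochainComplex.homologyMap_exact₃_of_distTriang T hT j (j + 1) rfl).isZero_of_both_zeros
    z1 z2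

end cone

/-- **S0933** -/
theorem locLift {X : Scheme.{u}} {E F G : CochainComplex X.Modules ℤ}
    (α : E ⟶ F) (f : G ⟶ F) (hE : DCoh.IsStrictlyPerfect E) (a : ℤ)
    (hEa : ∀ j : ℤ, j < a → IsZero (E.X j))
    (hf : ∀ j : ℤ, a < j → IsIso (HomologicalComplex.homologyMap f j))
    (hfa : Epi (HomologicalComplex.homologyMap f a)) (x : X) :
    ∃ (V : X.Opens) (β : (DCoh.restrictCx V).obj E ⟶ (DCoh.restrictCx V).obj G), x ∈ V ∧
      Nonempty (Homotopy (β ≫ (DCoh.restrictCx V).map f) ((DCoh.restrictCx V).map α)) := by
  have hC : ∀ j, a ≤ j → IsZero ((CochainComplex.mappingCone f).homology j) := by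
    intro j hj
    haveI : Epi (HomologicalComplex.homologyMap f j) := by
      rcases hj.eq_or_lt with rfl | h
      · exact hfa
      · haveI := hf j h
        infer_instance
    haveI : Mono (HomologicalComplex.homologyMap f (j + 1)) := by
      haveI := hf (j + 1) (by omega)
      infer_instance
    exact isZero_homology_mappingCone f j
  obtain ⟨V, hxV, ⟨H⟩⟩ := locNull (α ≫ CochainComplex.mappingCone.inr f) hE a hEa hC x
  let R := Scheme.Modules.restrictFunctor V.ι
  let Rk := R.mapHomotopyCategory (ComplexShape.up ℤ)
  let T := CochainComplex.mappingCone.triangleh f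
  have hT : T ∈ distTriang (HomotopyCategory X.Modules (ComplexShape.up ℤ)) :=
    HomotopyCategory.mappingCone_triangleh_distinguished f
  have hT' := Rk.map_distinguished T hT
  let q := HomotopyCategory.quotient (V : Scheme.{u}).Modules (ComplexShape.up ℤ)
  have h0 : q.map ((DCoh.restrictCx V).map α) ≫ (Rk.mapTriangle.obj T).mor₂ = 0 := by
    change q.map ((DCoh.restrictCx V).map α) ≫
      q.map ((DCoh.restrictCx V).map (CochainComplex.mappingCone.inr f)) = 0
    rw [← Functor.map_comp, ← Functor.map_comp]
    exact (HomotopyCategory.eq_of_homotopy _ _ H).trans (Functor.map_zero _ _ _)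
  obtain ⟨v, hv⟩ := Pretriangulated.Triangle.coyoneda_exact₂ _ hT' (q.map ((DCoh.restrictCx V).map α)) h0
  obtain ⟨β, rfl⟩ := q.map_surjective v
  refine ⟨V, β, hxV, ⟨HomotopyCategory.homotopyOfEq _ _ ?_⟩⟩
  rw [Functor.map_comp]
  exact hv.symm

end Groth.Agent.Lib.H6xLocLift
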