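import Mathlib
import Groth.Prelude.Def_DCoh3
import Groth.Agent.Lib.H6xLocLiftC
set_option backward.isDefEq.respectTransparency.types false

/-!
# Morphisms in the derived category out of a strictly perfect complex are locally chain maps
(helper6)
-/

set_option autoImplicit false
set_option linter.style.haveILetI false
universe u
open CategoryTheory CategoryTheory.Limits AlgebraicGeometry TopologicalSpace Opposite
  CategoryTheory.Pretriangulated

attribute [local instance] HasDerivedCategory.standard

namespace Groth.Agent.Lib.H6xLocLift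

/-- **S0944** -/
theorem locChainMap {X : Scheme.{u}} {E F : CochainComplex X.Modules ℤ}
    (hE : DCoh.IsStrictlyPerfect E) (α : DCoh.toD X E ⟶ DCoh.toD X F) (x : X) :
    ∃ V : X.Opens, x ∈ V ∧ ∀ [PreservesFiniteLimits (Scheme.Modules.restrictFunctor V.ι)],
      ∃ β : (DCoh.restrictCx V).obj E ⟶ (DCoh.restrictCx V).obj F,
        (DCoh.restrictD V.ι).map α =
          (Scheme.Modules.restrictFunctor V.ι).mapDerivedCategoryFactors.hom.app E ≫
            DerivedCategory.Q.map β ≫
            (Scheme.Modules.restrictFunctor V.ι).mapDerivedCategoryFactors.inv.app F := by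
  obtain ⟨F', g, s, hs, rfl⟩ := DerivedCategory.left_fac α
  have hsq : ∀ j, IsIso (HomologicalComplex.homologyMap s j) := by
    intro j
    rw [DerivedCategory.isIso_Q_map_iff_quasiIso] at hs
    rw [← quasiIsoAt_iff_isIso_homologyMap]
    infer_instance
  obtain ⟨a, b, hab⟩ := hE.1
  haveI := hsq a
  obtain ⟨V, β, hxV, ⟨H⟩⟩ := locLift g s hE a (fun j hj => hab j (Or.inl hj))
    (fun j _ => hsq j) inferInstance x
  refine ⟨V, hxV, ?_⟩
  intro inst
  refine ⟨β, ?_⟩
  have e1 : DerivedCategory.Q.map β ≫ DerivedCategory.Q.map ((DCoh.restrictCx V).map s) =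
      DerivedCategory.Q.map ((DCoh.restrictCx V).map g) := by
    rw [← Functor.map_comp]
    exact DerivedCategory.Q_map_eq_of_homotopy _ H
  have nat_g := (Scheme.Modules.restrictFunctor V.ι).mapDerivedCategoryFactors.hom.naturality g
  have nat_s := (Scheme.Modules.restrictFunctor V.ι).mapDerivedCategoryFactors.inv.naturality s
  dsimp only [Functor.comp_map] at nat_g nat_s
  haveI : IsIso ((DCoh.restrictD V.ι).map (DerivedCategory.Q.map s)) := Functor.map_isIso _ _
  have nat_g' : (DCoh.restrictD V.ι).map (DerivedCategory.Q.map g) =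
      (Scheme.Modules.restrictFunctor V.ι).mapDerivedCategoryFactors.hom.app E ≫
        DerivedCategory.Q.map ((DCoh.restrictCx V).map g) ≫
        (Scheme.Modules.restrictFunctor V.ι).mapDerivedCategoryFactors.inv.app F' := by
    have h2 := congrArg
      (· ≫ (Scheme.Modules.restrictFunctor V.ι).mapDerivedCategoryFactors.inv.app F') nat_g
    simp only [Category.assoc, Iso.hom_inv_id_app] at h2
    exact (Category.comp_id _).symm.trans h2
  rw [← cancel_mono ((DCoh.restrictD V.ι).map (DerivedCategory.Q.map s)), ← Functor.map_comp,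
    Category.assoc, IsIso.inv_hom_id, Category.comp_id, Category.assoc, Category.assoc]
  erw [← nat_s]
  rw [reassoc_of% e1]
  exact nat_g'

end Groth.Agent.Lib.H6xLocLift
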