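import Mathlib
import Groth.Prelude.Def_DCoh3
import Groth.Agent.Lib.H6xLocLiftD
import Groth.Agent.Lib.H3FLF
set_option backward.isDefEq.respectTransparency.types false

/-!
# Two out of three for perfect objects of `D(O_X)` (helper6)
-/

set_option autoImplicit false
set_option linter.style.haveILetI false
universe u
open CategoryTheory CategoryTheory.Limits AlgebraicGeometry TopologicalSpace Opposite
  CategoryTheory.Pretriangulated

attribute [local instance] HasDerivedCategory.standard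

namespace Groth.Agent.Lib.H6xPerf23

open Groth.Agent.Lib.H6xLocLift Groth.Agent.Lib.H6xPerfLoc

section comp

variable {Z Y X : Scheme.{u}} (g : Z ⟶ Y) (j : Y ⟶ X) (k : Z ⟶ X)
  [IsOpenImmersion g] [IsOpenImmersion j] [IsOpenImmersion k] (h : g ≫ j = k)

include h in
lemma nonempty_restrictD_comp (K : DCoh.D X) :
    Nonempty ((DCoh.restrictD k).obj K ≅ (DCoh.restrictD g).obj ((DCoh.restrictD j).obj K)) := by
  obtain ⟨F, ⟨e⟩⟩ : ∃ F : CochainComplex X.Modules ℤ, Nonempty (DerivedCategory.Q.obj F ≅ K) :=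
    ⟨_, ⟨DerivedCategory.Q.objObjPreimageIso K⟩⟩
  exact ⟨(DCoh.restrictD k).mapIso e.symm ≪≫
    (Scheme.Modules.restrictFunctor k).mapDerivedCategoryFactors.app F ≪≫
    DerivedCategory.Q.mapIso (restrictCxComp g j k h F) ≪≫
    ((Scheme.Modules.restrictFunctor g).mapDerivedCategoryFactors.app _).symm ≪≫
    (DCoh.restrictD g).mapIso
      (((Scheme.Modules.restrictFunctor j).mapDerivedCategoryFactors.app F).symm ≪≫
        (DCoh.restrictD j).mapIso e)⟩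

end comp

variable {X : Scheme.{u}}

/-- local characterisation of perfect objects, with arbitrary open immersions -/
theorem isPerfect_iff_local (K : DCoh.D X) :
    DCoh.IsPerfect K ↔ ∀ x : X, ∃ (Z : Scheme.{u}) (g : Z ⟶ X) (_ : IsOpenImmersion g),
      x ∈ Set.range g.base ∧ ∃ E : CochainComplex Z.Modules ℤ, DCoh.IsStrictlyPerfect E ∧
        Nonempty ((DCoh.restrictD g).obj K ≅ DerivedCategory.Q.obj E) := by
  constructor
  · intro hK x
    obtain ⟨V, hxV, hV⟩ := hK x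
    obtain ⟨E, hE, ⟨e⟩⟩ := hV ((DerivedCategory.Q : _ ⥤ DCoh.D X).objPreimage K)
      ⟨DerivedCategory.Q.objObjPreimageIso K⟩
    refine ⟨V, V.ι, inferInstance, by rw [Scheme.Opens.range_ι]; exact hxV, E, hE, ⟨?_⟩⟩
    exact (DCoh.restrictD V.ι).mapIso (DerivedCategory.Q.objObjPreimageIso K).symm ≪≫
      (Scheme.Modules.restrictFunctor V.ι).mapDerivedCategoryFactors.app _ ≪≫ e
  · intro h x
    obtain ⟨Z, g, hg, hx, E, hE, ⟨e⟩⟩ := h x
    refine ⟨g.opensRange, hx, fun F ⟨eF⟩ => ?_⟩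
    obtain ⟨e2⟩ := nonempty_Q_restrict_iso g.isoOpensRange.inv g g.opensRange.ι
      g.isoOpensRange_inv_comp F E
      (((Scheme.Modules.restrictFunctor g).mapDerivedCategoryFactors.app F).symm ≪≫
        (DCoh.restrictD g).mapIso eF ≪≫ e)
    exact ⟨_, isStrictlyPerfect_restrict g.isoOpensRange.inv E hE, ⟨e2⟩⟩

lemma isPerfect_of_iso {K K' : DCoh.D X} (e : K ≅ K') (hK : DCoh.IsPerfect K) :
    DCoh.IsPerfect K' := by
  rw [isPerfect_iff_local] at hK ⊢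
  intro x
  obtain ⟨Z, g, hg, hx, E, hE, ⟨e'⟩⟩ := hK x
  exact ⟨Z, g, hg, hx, E, hE, ⟨(DCoh.restrictD g).mapIso e.symm ≪≫ e'⟩⟩

lemma isStrictlyPerfect_shift (E : CochainComplex X.Modules ℤ) (hE : DCoh.IsStrictlyPerfect E)
    (n : ℤ) : DCoh.IsStrictlyPerfect (E⟦n⟧) := by
  obtain ⟨⟨a, b, hab⟩, hflf⟩ := hE
  refine ⟨⟨a - n, b - n, fun i hi => ?_⟩, fun i => hflf (i + n)⟩
  exact hab (i + n) (by omega)

lemma isPerfect_shift (K : DCoh.D X) (hK : DCoh.IsPerfect K) (n : ℤ) :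
    DCoh.IsPerfect (K⟦n⟧) := by
  rw [isPerfect_iff_local] at hK ⊢
  intro x
  obtain ⟨Z, g, hg, hx, E, hE, ⟨e'⟩⟩ := hK x
  refine ⟨Z, g, hg, hx, E⟦n⟧, isStrictlyPerfect_shift E hE n, ⟨?_⟩⟩
  exact ((DCoh.restrictD g).commShiftIso n).app K ≪≫ (shiftFunctor _ n).mapIso e' ≪≫
    ((DerivedCategory.Q.commShiftIso n).app E).symm

lemma isStrictlyPerfect_mappingCone {E₁ E₂ : CochainComplex X.Modules ℤ} (β : E₁ ⟶ E₂)
    (h₁ : DCoh.IsStrictlyPerfect E₁) (h₂ : DCoh.IsStrictlyPerfect E₂) :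
    DCoh.IsStrictlyPerfect (CochainComplex.mappingCone β) := by
  obtain ⟨⟨a₁, b₁, hab₁⟩, hflf₁⟩ := h₁
  obtain ⟨⟨a₂, b₂, hab₂⟩, hflf₂⟩ := h₂
  have hiso : ∀ i : ℤ, Nonempty ((CochainComplex.mappingCone β).X i ≅ E₁.X (i + 1) ⊞ E₂.X i) :=
    fun i => ⟨HomologicalComplex.homotopyCofiber.XIsoBiprod β i (i + 1) rfl⟩
  refine ⟨⟨min (a₁ - 1) a₂, max (b₁ - 1) b₂, fun i hi => ?_⟩, fun i => ?_⟩
  · obtain ⟨e⟩ := hiso i
    refine IsZero.of_iso ?_ e
    have z1 : IsZero (E₁.X (i + 1)) := hab₁ _ (by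
      rcases hi with hi | hi
      · left; have := min_le_left (a₁ - 1) a₂; omega
      · right; have := le_max_left (b₁ - 1) b₂; omega)
    have z2 : IsZero (E₂.X i) := hab₂ _ (by
      rcases hi with hi | hi
      · left; have := min_le_right (a₁ - 1) a₂; omega
      · right; have := le_max_right (b₁ - 1) b₂; omega)
    rw [IsZero.iff_id_eq_zero]
    apply biprod.hom_ext
    · exact z1.eq_of_tgt _ _
    · exact z2.eq_of_tgt _ _
  · obtain ⟨e⟩ := hiso i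
    exact Groth.Agent.H3.FLF.isFinLocFree_of_iso e.symm
      (Groth.Agent.H3.FLF.isFinLocFree_biprod _ _ (hflf₁ _) (hflf₂ _))

/-- key local statement: if the first two vertices of a distinguished triangle are represented by
strictly perfect complexes, then locally so is the third -/
theorem exists_strictlyPerfect_obj₃ (T : Triangle (DCoh.D X)) (hT : T ∈ distTriang (DCoh.D X))
    (E₁ E₂ : CochainComplex X.Modules ℤ) (h₁ : DCoh.IsStrictlyPerfect E₁)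
    (h₂ : DCoh.IsStrictlyPerfect E₂) (e₁ : T.obj₁ ≅ DerivedCategory.Q.obj E₁)
    (e₂ : T.obj₂ ≅ DerivedCategory.Q.obj E₂) (x : X) :
    ∃ V : X.Opens, x ∈ V ∧ ∃ E₃ : CochainComplex (V : Scheme.{u}).Modules ℤ,
      DCoh.IsStrictlyPerfect E₃ ∧
        Nonempty ((DCoh.restrictD V.ι).obj T.obj₃ ≅ DerivedCategory.Q.obj E₃) := by
  obtain ⟨V, hxV, hV⟩ := locChainMap h₁ (e₁.inv ≫ T.mor₁ ≫ e₂.hom) x
  obtain ⟨β, hβ⟩ := hV
  have hT₁ := (DCoh.restrictD V.ι).map_distinguished T hT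
  have hT₂ := DerivedCategory.mappingCone_triangle_distinguished β
  let i₁ : ((DCoh.restrictD V.ι).mapTriangle.obj T).obj₁ ≅
      (DerivedCategory.Q.mapTriangle.obj (CochainComplex.mappingCone.triangle β)).obj₁ :=
    (DCoh.restrictD V.ι).mapIso e₁ ≪≫
      (Scheme.Modules.restrictFunctor V.ι).mapDerivedCategoryFactors.app E₁
  let i₂ : ((DCoh.restrictD V.ι).mapTriangle.obj T).obj₂ ≅
      (DerivedCategory.Q.mapTriangle.obj (CochainComplex.mappingCone.triangle β)).obj₂ :=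
    (DCoh.restrictD V.ι).mapIso e₂ ≪≫
      (Scheme.Modules.restrictFunctor V.ι).mapDerivedCategoryFactors.app E₂
  have comm : ((DCoh.restrictD V.ι).mapTriangle.obj T).mor₁ ≫ i₂.hom = i₁.hom ≫
      (DerivedCategory.Q.mapTriangle.obj (CochainComplex.mappingCone.triangle β)).mor₁ := by
    change (DCoh.restrictD V.ι).map T.mor₁ ≫ (DCoh.restrictD V.ι).map e₂.hom ≫
      (Scheme.Modules.restrictFunctor V.ι).mapDerivedCategoryFactors.hom.app E₂ =
      ((DCoh.restrictD V.ι).map e₁.hom ≫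
        (Scheme.Modules.restrictFunctor V.ι).mapDerivedCategoryFactors.hom.app E₁) ≫
      DerivedCategory.Q.map β
    rw [Functor.map_comp, Functor.map_comp] at hβ
    have h3 := congrArg (fun t => (DCoh.restrictD V.ι).map e₁.hom ≫ t ≫
      (Scheme.Modules.restrictFunctor V.ι).mapDerivedCategoryFactors.hom.app E₂) hβ
    simp only [Category.assoc, Iso.inv_hom_id_app] at h3
    rw [← Functor.map_comp_assoc, e₁.hom_inv_id, CategoryTheory.Functor.map_id,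
      Category.id_comp] at h3
    rw [Category.assoc]
    refine h3.trans ?_
    congr 2
  let iT := isoTriangleOfIso₁₂ _ _ hT₁ hT₂ i₁ i₂ comm
  exact ⟨V, hxV, CochainComplex.mappingCone β,
    isStrictlyPerfect_mappingCone β (isStrictlyPerfect_restrict V.ι E₁ h₁)
      (isStrictlyPerfect_restrict V.ι E₂ h₂), ⟨Triangle.π₃.mapIso iT⟩⟩

/-- in a distinguished triangle, if the first two vertices are perfect then so is the third -/
theorem isPerfect_obj₃ (T : Triangle (DCoh.D X)) (hT : T ∈ distTriang (DCoh.D X))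
    (h₁ : DCoh.IsPerfect T.obj₁) (h₂ : DCoh.IsPerfect T.obj₂) : DCoh.IsPerfect T.obj₃ := by
  rw [isPerfect_iff_local] at h₁ h₂ ⊢
  intro x
  obtain ⟨Z₁, g₁, hg₁, hx₁, E₁, hE₁, ⟨e₁⟩⟩ := h₁ x
  obtain ⟨Z₂, g₂, hg₂, hx₂, E₂, hE₂, ⟨e₂⟩⟩ := h₂ x
  obtain ⟨W, hW⟩ : ∃ W : X.Opens, W = g₁.opensRange ⊓ g₂.opensRange := ⟨_, rfl⟩
  have hxW : x ∈ W := hW ▸ ⟨hx₁, hx₂⟩
  have hr₁ : Set.range W.ι.base ⊆ Set.range g₁.base := by
    rw [Scheme.Opens.range_ι, hW]; exact Set.inter_subset_left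
  have hr₂ : Set.range W.ι.base ⊆ Set.range g₂.base := by
    rw [Scheme.Opens.range_ι, hW]; exact Set.inter_subset_right
  let k₁ : (W : Scheme.{u}) ⟶ Z₁ := IsOpenImmersion.lift g₁ W.ι hr₁
  have hk₁ : k₁ ≫ g₁ = W.ι := IsOpenImmersion.lift_fac g₁ W.ι hr₁
  haveI : IsOpenImmersion k₁ := by
    haveI : IsOpenImmersion (k₁ ≫ g₁) := by rw [hk₁]; infer_instance
    exact IsOpenImmersion.of_comp k₁ g₁
  let k₂ : (W : Scheme.{u}) ⟶ Z₂ := IsOpenImmersion.lift g₂ W.ι hr₂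
  have hk₂ : k₂ ≫ g₂ = W.ι := IsOpenImmersion.lift_fac g₂ W.ι hr₂
  haveI : IsOpenImmersion k₂ := by
    haveI : IsOpenImmersion (k₂ ≫ g₂) := by rw [hk₂]; infer_instance
    exact IsOpenImmersion.of_comp k₂ g₂
  obtain ⟨c₁⟩ := nonempty_restrictD_comp k₁ g₁ W.ι hk₁ T.obj₁
  obtain ⟨c₂⟩ := nonempty_restrictD_comp k₂ g₂ W.ι hk₂ T.obj₂
  have hT' := (DCoh.restrictD W.ι).map_distinguished T hT
  obtain ⟨x', hx'⟩ : ∃ x' : (W : Scheme.{u}), W.ι.base x' = x := ⟨⟨x, hxW⟩, rfl⟩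
  obtain ⟨V, hV, E₃, hE₃, ⟨e₃⟩⟩ := exists_strictlyPerfect_obj₃ _ hT'
    (((Scheme.Modules.restrictFunctor k₁).mapHomologicalComplex (ComplexShape.up ℤ)).obj E₁)
    (((Scheme.Modules.restrictFunctor k₂).mapHomologicalComplex (ComplexShape.up ℤ)).obj E₂)
    (isStrictlyPerfect_restrict k₁ E₁ hE₁) (isStrictlyPerfect_restrict k₂ E₂ hE₂)
    (c₁ ≪≫ (DCoh.restrictD k₁).mapIso e₁ ≪≫
      (Scheme.Modules.restrictFunctor k₁).mapDerivedCategoryFactors.app E₁)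
    (c₂ ≪≫ (DCoh.restrictD k₂).mapIso e₂ ≪≫
      (Scheme.Modules.restrictFunctor k₂).mapDerivedCategoryFactors.app E₂) x'
  obtain ⟨c₃⟩ := nonempty_restrictD_comp V.ι W.ι (V.ι ≫ W.ι) rfl T.obj₃
  refine ⟨V, V.ι ≫ W.ι, inferInstance, ⟨⟨x', hV⟩, ?_⟩, E₃, hE₃, ⟨c₃ ≪≫ e₃⟩⟩
  rw [← hx']; rfl

/-- **S0887**: two out of three for perfect objects -/
theorem two_out_of_three (T : Triangle (DCoh.D X)) (hT : T ∈ distTriang (DCoh.D X)) :
    (DCoh.IsPerfect T.obj₁ → DCoh.IsPerfect T.obj₂ → DCoh.IsPerfect T.obj₃) ∧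
    (DCoh.IsPerfect T.obj₁ → DCoh.IsPerfect T.obj₃ → DCoh.IsPerfect T.obj₂) ∧
    (DCoh.IsPerfect T.obj₂ → DCoh.IsPerfect T.obj₃ → DCoh.IsPerfect T.obj₁) := by
  refine ⟨isPerfect_obj₃ T hT, fun h₁ h₃ => ?_, fun h₂ h₃ => ?_⟩
  · exact isPerfect_obj₃ T.invRotate (inv_rot_of_distTriang T hT)
      (isPerfect_shift _ h₃ (-1)) h₁
  · exact isPerfect_obj₃ T.invRotate.invRotate
      (inv_rot_of_distTriang _ (inv_rot_of_distTriang T hT))
      (isPerfect_shift _ h₂ (-1)) (isPerfect_shift _ h₃ (-1))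

end Groth.Agent.Lib.H6xPerf23
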