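import Mathlib
import Groth.Prelude.Def_DCoh3
import Groth.Agent.Lib.H6xPC3A
import Groth.Agent.Lib.H6xPerf23A
import Groth.Agent.Lib.H6xPCohA
set_option backward.isDefEq.respectTransparency.types false

/-!
# Pseudo-coherence at a point: derived-level infrastructure (helper6)
-/

set_option autoImplicit false
set_option linter.style.haveILetI false
universe u
open CategoryTheory CategoryTheory.Limits AlgebraicGeometry TopologicalSpace Opposite
  CategoryTheory.Pretriangulated

attribute [local instance] HasDerivedCategory.standard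

namespace Groth.Agent.Lib.H6xPC3

section general

variable {C₁ C₂ : Type*} [Category C₁] [Category C₂] [Abelian C₁] [Abelian C₂]
  [HasDerivedCategory C₁] [HasDerivedCategory C₂] (F : C₁ ⥤ C₂) [F.Additive]
  [PreservesFiniteLimits F] [PreservesFiniteColimits F]

/-- chain-level: homology commutes with an exact functor -/
noncomputable def mapHomologicalComplexHomologyIso (i : ℤ) :
    F.mapHomologicalComplex (ComplexShape.up ℤ) ⋙
        HomologicalComplex.homologyFunctor C₂ (ComplexShape.up ℤ) i ≅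
      HomologicalComplex.homologyFunctor C₁ (ComplexShape.up ℤ) i ⋙ F :=
  NatIso.ofComponents (fun K => (K.sc i).mapHomologyIso F)
    (fun {K L} φ => ShortComplex.mapHomologyIso_hom_naturality
      ((HomologicalComplex.shortComplexFunctor C₁ (ComplexShape.up ℤ) i).map φ) F)

/-- derived-level: homology commutes with an exact functor -/
noncomputable def mapDerivedCategoryHomologyIso (i : ℤ) :
    F.mapDerivedCategory ⋙ DerivedCategory.homologyFunctor C₂ i ≅
      DerivedCategory.homologyFunctor C₁ i ⋙ F :=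
  letI : Localization.Lifting DerivedCategory.Q
      (HomologicalComplex.quasiIso C₁ (ComplexShape.up ℤ))
      (F.mapHomologicalComplex (ComplexShape.up ℤ) ⋙
        HomologicalComplex.homologyFunctor C₂ (ComplexShape.up ℤ) i)
      (F.mapDerivedCategory ⋙ DerivedCategory.homologyFunctor C₂ i) :=
    ⟨(Functor.associator _ _ _).symm ≪≫
      Functor.isoWhiskerRight F.mapDerivedCategoryFactors _ ≪≫
      Functor.associator _ _ _ ≪≫
      Functor.isoWhiskerLeft _ (DerivedCategory.homologyFunctorFactors C₂ i)⟩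
  letI : Localization.Lifting DerivedCategory.Q
      (HomologicalComplex.quasiIso C₁ (ComplexShape.up ℤ))
      (HomologicalComplex.homologyFunctor C₁ (ComplexShape.up ℤ) i ⋙ F)
      (DerivedCategory.homologyFunctor C₁ i ⋙ F) :=
    ⟨(Functor.associator _ _ _).symm ≪≫
      Functor.isoWhiskerRight (DerivedCategory.homologyFunctorFactors C₁ i) F⟩
  Localization.liftNatIso DerivedCategory.Q
    (HomologicalComplex.quasiIso C₁ (ComplexShape.up ℤ)) _ _ _ _
    (mapHomologicalComplexHomologyIso F i)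

lemma isIso_homology_mapDerivedCategory_map {G G' : DerivedCategory C₁} (α : G ⟶ G') (i : ℤ)
    [IsIso ((DerivedCategory.homologyFunctor C₁ i).map α)] :
    IsIso ((DerivedCategory.homologyFunctor C₂ i).map (F.mapDerivedCategory.map α)) := by
  have h : IsIso ((DerivedCategory.homologyFunctor C₁ i ⋙ F).map α) := by
    rw [Functor.comp_map]; infer_instance
  exact (NatIso.isIso_map_iff (mapDerivedCategoryHomologyIso F i) α).2 h

lemma epi_homology_mapDerivedCategory_map {G G' : DerivedCategory C₁} (α : G ⟶ G') (i : ℤ)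
    [Epi ((DerivedCategory.homologyFunctor C₁ i).map α)] :
    Epi ((DerivedCategory.homologyFunctor C₂ i).map (F.mapDerivedCategory.map α)) := by
  haveI : Epi ((DerivedCategory.homologyFunctor C₁ i ⋙ F).map α) := by
    rw [Functor.comp_map]; infer_instance
  exact epi_map_of_natIso' (mapDerivedCategoryHomologyIso F i) α

lemma isIso_homologyMap_mapHomologicalComplex {K L : CochainComplex C₁ ℤ} (φ : K ⟶ L) (i : ℤ)
    [IsIso (HomologicalComplex.homologyMap φ i)] :
    IsIso (HomologicalComplex.homologyMap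
      ((F.mapHomologicalComplex (ComplexShape.up ℤ)).map φ) i) := by
  have h : IsIso ((HomologicalComplex.homologyFunctor C₁ (ComplexShape.up ℤ) i ⋙ F).map φ) := by
    rw [Functor.comp_map]
    exact Functor.map_isIso F (HomologicalComplex.homologyMap φ i)
  exact (NatIso.isIso_map_iff (mapHomologicalComplexHomologyIso F i) φ).2 h

lemma epi_homologyMap_mapHomologicalComplex {K L : CochainComplex C₁ ℤ} (φ : K ⟶ L) (i : ℤ)
    [Epi (HomologicalComplex.homologyMap φ i)] :
    Epi (HomologicalComplex.homologyMap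
      ((F.mapHomologicalComplex (ComplexShape.up ℤ)).map φ) i) := by
  haveI : Epi ((HomologicalComplex.homologyFunctor C₁ (ComplexShape.up ℤ) i ⋙ F).map φ) := by
    rw [Functor.comp_map]
    exact F.map_epi (HomologicalComplex.homologyMap φ i)
  exact epi_map_of_natIso' (mapHomologicalComplexHomologyIso F i) φ

end general

section abstractQ

variable {A : Type*} [Category A] [Abelian A] [HasDerivedCategory A]

lemma isIso_homologyFunctor_Q_map_iff' {K L : CochainComplex A ℤ} (a : K ⟶ L) (i : ℤ) :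
    IsIso ((DerivedCategory.homologyFunctor A i).map (DerivedCategory.Q.map a)) ↔
      IsIso (HomologicalComplex.homologyMap a i) :=
  NatIso.isIso_map_iff (DerivedCategory.homologyFunctorFactors A i) a

lemma epi_homologyFunctor_Q_map' {K L : CochainComplex A ℤ} (a : K ⟶ L) (i : ℤ)
    [h : Epi (HomologicalComplex.homologyMap a i)] :
    Epi ((DerivedCategory.homologyFunctor A i).map (DerivedCategory.Q.map a)) := by
  haveI : Epi ((HomologicalComplex.homologyFunctor A (ComplexShape.up ℤ) i).map a) := h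
  exact epi_map_of_natIso' (DerivedCategory.homologyFunctorFactors A i) a

lemma epi_homologyMap_of_epi_homologyFunctor_Q_map {K L : CochainComplex A ℤ} (a : K ⟶ L) (i : ℤ)
    [h : Epi ((DerivedCategory.homologyFunctor A i).map (DerivedCategory.Q.map a))] :
    Epi (HomologicalComplex.homologyMap a i) := by
  haveI : Epi ((DerivedCategory.Q ⋙ DerivedCategory.homologyFunctor A i).map a) := h
  exact epi_map_of_natIso' (DerivedCategory.homologyFunctorFactors A i).symm a

end abstractQ

variable {X : Scheme.{u}}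

/-- global pseudo-coherence datum -/
def PCGlobal (m : ℤ) (K : DCoh.D X) : Prop :=
  ∃ (E : CochainComplex X.Modules ℤ) (α : DerivedCategory.Q.obj E ⟶ K),
    DCoh.IsStrictlyPerfect E ∧
    (∀ i : ℤ, m < i → IsIso ((DerivedCategory.homologyFunctor _ i).map α)) ∧
    Epi ((DerivedCategory.homologyFunctor _ m).map α)

lemma PCGlobal.of_iso {m : ℤ} {K K' : DCoh.D X} (e : K ≅ K') (h : PCGlobal m K) :
    PCGlobal m K' := by
  obtain ⟨E, α, hE, h1, h2⟩ := h
  refine ⟨E, α ≫ e.hom, hE, fun i hi => ?_, ?_⟩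
  · haveI := h1 i hi
    rw [Functor.map_comp]
    infer_instance
  · rw [Functor.map_comp]
    exact epi_comp _ _

lemma PCGlobal.restrict {m : ℤ} {K : DCoh.D X} {Z : Scheme.{u}} (g : Z ⟶ X) [IsOpenImmersion g]
    (h : PCGlobal m K) : PCGlobal m ((DCoh.restrictD g).obj K) := by
  obtain ⟨E, α, hE, h1, h2⟩ := h
  refine ⟨_, (Scheme.Modules.restrictFunctor g).mapDerivedCategoryFactors.inv.app E ≫
    (DCoh.restrictD g).map α, Groth.Agent.Lib.H6xPerfLoc.isStrictlyPerfect_restrict g E hE,
    fun i hi => ?_, ?_⟩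
  · haveI := h1 i hi
    haveI := isIso_homology_mapDerivedCategory_map (Scheme.Modules.restrictFunctor g) α i
    rw [Functor.map_comp]
    infer_instance
  · haveI := epi_homology_mapDerivedCategory_map (Scheme.Modules.restrictFunctor g) α m
    rw [Functor.map_comp]
    exact epi_comp _ _

/-- pseudo-coherence at a point -/
def PCAt (m : ℤ) (K : DCoh.D X) (x : X) : Prop :=
  ∃ (Z : Scheme.{u}) (g : Z ⟶ X) (_ : IsOpenImmersion g), x ∈ Set.range g.base ∧
    PCGlobal m ((DCoh.restrictD g).obj K)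

open Groth.Agent.Lib.H6xPerf23 in
theorem isPseudoCoherentD_iff_pcAt (m : ℤ) (K : DCoh.D X) :
    DCoh.IsPseudoCoherentD m K ↔ ∀ x : X, PCAt m K x := by
  rw [Groth.Agent.Lib.H6xPCoh.isPseudoCoherentD_iff_opens]
  constructor
  · intro h x
    obtain ⟨V, hxV, E, α, hE, h1, h2⟩ := h x
    exact ⟨V, V.ι, inferInstance, by rw [Scheme.Opens.range_ι]; exact hxV, E, α, hE, h1, h2⟩
  · intro h x
    obtain ⟨Z, g, hg, hx, hG⟩ := h x
    obtain ⟨c⟩ := nonempty_restrictD_comp g.isoOpensRange.inv g g.opensRange.ι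
      g.isoOpensRange_inv_comp K
    obtain ⟨E, α, hE, h1, h2⟩ := (hG.restrict g.isoOpensRange.inv).of_iso c.symm
    exact ⟨g.opensRange, hx, E, α, hE, h1, h2⟩

lemma PCAt.of_iso {m : ℤ} {K K' : DCoh.D X} (e : K ≅ K') {x : X} (h : PCAt m K x) :
    PCAt m K' x := by
  obtain ⟨Z, g, hg, hx, hG⟩ := h
  exact ⟨Z, g, hg, hx, hG.of_iso ((DCoh.restrictD g).mapIso e)⟩

open Groth.Agent.Lib.H6xPerf23 in
lemma PCAt.of_restrict {m : ℤ} {K : DCoh.D X} {Z : Scheme.{u}} (g : Z ⟶ X) [IsOpenImmersion g]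
    (z : Z) (h : PCAt m ((DCoh.restrictD g).obj K) z) : PCAt m K (g.base z) := by
  obtain ⟨Z', g', hg', hz, hG⟩ := h
  obtain ⟨c⟩ := nonempty_restrictD_comp g' g (g' ≫ g) rfl K
  obtain ⟨z', rfl⟩ := hz
  exact ⟨Z', g' ≫ g, inferInstance, ⟨z', rfl⟩, hG.of_iso c.symm⟩

open Groth.Agent.Lib.H6xPerf23 in
lemma PCAt.restrict {m : ℤ} {K : DCoh.D X} {Z : Scheme.{u}} (g : Z ⟶ X) [IsOpenImmersion g]
    (z : Z) (h : PCAt m K (g.base z)) : PCAt m ((DCoh.restrictD g).obj K) z := by
  obtain ⟨Z₀, g₀, hg₀, hz, hG⟩ := h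
  obtain ⟨W, hW⟩ : ∃ W : Z.Opens, W = g ⁻¹ᵁ g₀.opensRange := ⟨_, rfl⟩
  have hzW : z ∈ W := by rw [hW]; exact hz
  have hr : Set.range (W.ι ≫ g).base ⊆ Set.range g₀.base := by
    rintro _ ⟨w, rfl⟩
    have : (W.ι.base w) ∈ g ⁻¹ᵁ g₀.opensRange := by
      rw [← hW]; exact w.2
    exact this
  let k₀ : (W : Scheme.{u}) ⟶ Z₀ := IsOpenImmersion.lift g₀ (W.ι ≫ g) hr
  have hk₀ : k₀ ≫ g₀ = W.ι ≫ g := IsOpenImmersion.lift_fac g₀ (W.ι ≫ g) hr
  haveI : IsOpenImmersion k₀ := by
    haveI : IsOpenImmersion (k₀ ≫ g₀) := by rw [hk₀]; infer_instance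
    exact IsOpenImmersion.of_comp k₀ g₀
  obtain ⟨c₀⟩ := nonempty_restrictD_comp k₀ g₀ (W.ι ≫ g) hk₀ K
  obtain ⟨c⟩ := nonempty_restrictD_comp W.ι g (W.ι ≫ g) rfl K
  exact ⟨W, W.ι, inferInstance, by rw [Scheme.Opens.range_ι]; exact hzW,
    (hG.restrict k₀).of_iso (c₀.symm ≪≫ c)⟩

end Groth.Agent.Lib.H6xPC3
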