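import Mathlib
import Groth.Prelude.Def_DCoh3
import Groth.Agent.Lib.H6xPC3B
set_option backward.isDefEq.respectTransparency.types false

/-!
# Pseudo-coherence in distinguished triangles (helper6)
-/

set_option autoImplicit false
set_option linter.style.haveILetI false
universe u
open CategoryTheory CategoryTheory.Limits AlgebraicGeometry TopologicalSpace Opposite
  CategoryTheory.Pretriangulated

attribute [local instance] HasDerivedCategory.standard

namespace Groth.Agent.Lib.H6xPC3

open Groth.Agent.Lib.H6xLocLift Groth.Agent.Lib.H6xPerfLoc Groth.Agent.Lib.H6xPerf23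

variable {X : Scheme.{u}}

/-- brutal truncations of strictly perfect complexes are strictly perfect -/
lemma isStrictlyPerfect_sigmaGE (E : CochainComplex X.Modules ℤ) (hE : DCoh.IsStrictlyPerfect E)
    (m : ℤ) : DCoh.IsStrictlyPerfect (sigmaGE E m) := by
  obtain ⟨⟨a, b, hab⟩, hflf⟩ := hE
  refine ⟨⟨a, b, fun q hq => ?_⟩, fun q => ?_⟩
  · by_cases hqm : q < m
    · exact isZero_sigmaGE_X E m hqm
    · haveI := isIso_sigmaGEι_f E m (show m ≤ q by omega)
      exact (hab q hq).of_iso (asIso ((sigmaGEι E m).f q))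
  · by_cases hqm : q < m
    · exact Groth.Agent.Lib.R2H2.PdSheaf.isFinLocFree_of_isZero _ (isZero_sigmaGE_X E m hqm)
    · haveI := isIso_sigmaGEι_f E m (show m ≤ q by omega)
      exact Groth.Agent.H3.FLF.isFinLocFree_of_iso (asIso ((sigmaGEι E m).f q)).symm (hflf q)

/-- the global datum may be chosen with a complex vanishing below `m` -/
lemma PCGlobal.exists_truncated {m : ℤ} {K : DCoh.D X} (h : PCGlobal m K) :
    ∃ (E : CochainComplex X.Modules ℤ) (α : DerivedCategory.Q.obj E ⟶ K),
      DCoh.IsStrictlyPerfect E ∧ (∀ j : ℤ, j < m → IsZero (E.X j)) ∧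
      (∀ i : ℤ, m < i → IsIso ((DerivedCategory.homologyFunctor _ i).map α)) ∧
      Epi ((DerivedCategory.homologyFunctor _ m).map α) := by
  obtain ⟨E, α, hE, h1, h2⟩ := h
  refine ⟨sigmaGE E m, DerivedCategory.Q.map (sigmaGEι E m) ≫ α, isStrictlyPerfect_sigmaGE E hE m,
    fun j hj => isZero_sigmaGE_X E m hj, fun i hi => ?_, ?_⟩
  · haveI := h1 i hi
    haveI : IsIso ((DerivedCategory.homologyFunctor _ i).map
        (DerivedCategory.Q.map (sigmaGEι E m))) :=
      (isIso_homologyFunctor_Q_map_iff' _ i).2 (isIso_homologyMap_sigmaGEι E m i hi)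
    rw [Functor.map_comp]
    infer_instance
  · haveI := epi_homologyMap_sigmaGEι E m
    haveI := epi_homologyFunctor_Q_map' (sigmaGEι E m) m
    rw [Functor.map_comp]
    exact epi_comp _ _

section shift

lemma PCGlobal.shift {m : ℤ} {K : DCoh.D X} (h : PCGlobal m K) (n : ℤ) :
    PCGlobal (m - n) (K⟦n⟧) := by
  obtain ⟨E, α, hE, h1, h2⟩ := h
  refine ⟨E⟦n⟧, (DerivedCategory.Q.commShiftIso n).hom.app E ≫ α⟦n⟧',
    isStrictlyPerfect_shift E hE n, fun i hi => ?_, ?_⟩
  · haveI := h1 (n + i) (by omega)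
    haveI : IsIso ((DerivedCategory.homologyFunctor _ i).map (α⟦n⟧')) :=
      (NatIso.isIso_map_iff
        ((DerivedCategory.homologyFunctor X.Modules 0).shiftIso n i (n + i) rfl) α).2
        (inferInstanceAs (IsIso ((DerivedCategory.homologyFunctor _ (n + i)).map α)))
    rw [Functor.map_comp]
    infer_instance
  · have e : n + (m - n) = m := by omega
    haveI : Epi (((DerivedCategory.homologyFunctor X.Modules 0).shift m).map α) := h2
    haveI : Epi ((DerivedCategory.homologyFunctor _ (m - n)).map (α⟦n⟧')) :=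
      epi_map_of_natIso'
        ((DerivedCategory.homologyFunctor X.Modules 0).shiftIso n (m - n) m e) α
    rw [Functor.map_comp]
    exact epi_comp _ _

lemma PCAt.shift {m : ℤ} {K : DCoh.D X} {x : X} (h : PCAt m K x) (n : ℤ) :
    PCAt (m - n) (K⟦n⟧) x := by
  obtain ⟨Z, g, hg, hx, hG⟩ := h
  exact ⟨Z, g, hg, hx, (hG.shift n).of_iso (((DCoh.restrictD g).commShiftIso n).app K).symm⟩

lemma isPseudoCoherentD_shift {m : ℤ} {K : DCoh.D X} (h : DCoh.IsPseudoCoherentD m K) (n : ℤ) :
    DCoh.IsPseudoCoherentD (m - n) (K⟦n⟧) := by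
  rw [isPseudoCoherentD_iff_pcAt] at h ⊢
  exact fun x => (h x).shift n

end shift

section chain

/-- comparison of the restriction of a mapping cone -/
noncomputable def restrictDConeIso {F₁ F₂ : CochainComplex X.Modules ℤ} (u : F₁ ⟶ F₂)
    (V : X.Opens) :
    DerivedCategory.Q.obj (CochainComplex.mappingCone ((DCoh.restrictCx V).map u)) ≅
      (DCoh.restrictD V.ι).obj (DerivedCategory.Q.obj (CochainComplex.mappingCone u)) :=
  DerivedCategory.Q.mapIso (CochainComplex.mappingCone.mapHomologicalComplexIso u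
    (Scheme.Modules.restrictFunctor V.ι)).symm ≪≫
    ((Scheme.Modules.restrictFunctor V.ι).mapDerivedCategoryFactors.app _).symm

/-- chain level: both comparison maps are chain maps -/
theorem pcAt_cone_of_chain (m : ℤ) {E₁ E₂ F₁ F₂ : CochainComplex X.Modules ℤ}
    (hE₁ : DCoh.IsStrictlyPerfect E₁) (hE₂ : DCoh.IsStrictlyPerfect E₂)
    (hz : ∀ j : ℤ, j < m + 1 → IsZero (E₁.X j))
    (u : F₁ ⟶ F₂) (a₁ : E₁ ⟶ F₁) (a₂ : E₂ ⟶ F₂)
    (h₁ : ∀ i : ℤ, m + 1 < i → IsIso (HomologicalComplex.homologyMap a₁ i))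
    (h₁' : Epi (HomologicalComplex.homologyMap a₁ (m + 1)))
    (h₂ : ∀ i : ℤ, m < i → IsIso (HomologicalComplex.homologyMap a₂ i))
    (h₂' : Epi (HomologicalComplex.homologyMap a₂ m)) (x : X) :
    PCAt m (DerivedCategory.Q.obj (CochainComplex.mappingCone u)) x := by
  obtain ⟨V, β, hxV, ⟨H⟩⟩ := locLift (a₁ ≫ u) a₂ hE₁ m (fun j hj => hz j (by omega)) h₂ h₂' x
  let R := DCoh.restrictCx V
  have H' : Homotopy (β ≫ R.map a₂) (R.map a₁ ≫ R.map u) :=
    H.trans (Homotopy.ofEq (R.map_comp a₁ u))
  have hc := cone_ladder H' m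
    (fun i hi => by
      haveI := h₁ i hi
      exact isIso_homologyMap_mapHomologicalComplex (Scheme.Modules.restrictFunctor V.ι) a₁ i)
    (by
      haveI := h₁'
      exact epi_homologyMap_mapHomologicalComplex (Scheme.Modules.restrictFunctor V.ι) a₁ (m + 1))
    (fun i hi => by
      haveI := h₂ i hi
      exact isIso_homologyMap_mapHomologicalComplex (Scheme.Modules.restrictFunctor V.ι) a₂ i)
    (by
      haveI := h₂'
      exact epi_homologyMap_mapHomologicalComplex (Scheme.Modules.restrictFunctor V.ι) a₂ m)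
  refine ⟨V, V.ι, inferInstance, by rw [Scheme.Opens.range_ι]; exact hxV, ?_⟩
  refine PCGlobal.of_iso (restrictDConeIso u V) ?_
  refine ⟨CochainComplex.mappingCone β,
    DerivedCategory.Q.map (CochainComplex.mappingCone.mapOfHomotopy H'),
    isStrictlyPerfect_mappingCone β (isStrictlyPerfect_restrict V.ι E₁ hE₁)
      (isStrictlyPerfect_restrict V.ι E₂ hE₂), fun i hi => ?_, ?_⟩
  · exact (isIso_homologyFunctor_Q_map_iff' _ i).2 (hc.1 i hi)
  · haveI := hc.2
    exact epi_homologyFunctor_Q_map' _ m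

/-- a derived map between restricted complexes, conjugated to `Q` of restricted complexes -/
lemma exists_chain_of_derived (m : ℤ) {E F : CochainComplex X.Modules ℤ}
    (hE : DCoh.IsStrictlyPerfect E) (α : DerivedCategory.Q.obj E ⟶ DerivedCategory.Q.obj F)
    (h : ∀ i : ℤ, m < i → IsIso ((DerivedCategory.homologyFunctor _ i).map α))
    (h' : Epi ((DerivedCategory.homologyFunctor _ m).map α)) (x : X) :
    ∃ (V : X.Opens) (_ : x ∈ V) (a : (DCoh.restrictCx V).obj E ⟶ (DCoh.restrictCx V).obj F),
      (∀ i : ℤ, m < i → IsIso (HomologicalComplex.homologyMap a i)) ∧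
      Epi (HomologicalComplex.homologyMap a m) := by
  obtain ⟨V, hxV, hV⟩ := locChainMap hE α x
  obtain ⟨a, ha⟩ := hV
  have ha' : DerivedCategory.Q.map a =
      (Scheme.Modules.restrictFunctor V.ι).mapDerivedCategoryFactors.inv.app E ≫
        (DCoh.restrictD V.ι).map α ≫
        (Scheme.Modules.restrictFunctor V.ι).mapDerivedCategoryFactors.hom.app F := by
    rw [ha]
    simp
  refine ⟨V, hxV, a, fun i hi => ?_, ?_⟩
  · rw [← isIso_homologyFunctor_Q_map_iff', ha']
    haveI := h i hi
    haveI := isIso_homology_mapDerivedCategory_map (Scheme.Modules.restrictFunctor V.ι) α i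
    rw [Functor.map_comp, Functor.map_comp]
    infer_instance
  · haveI : Epi ((DerivedCategory.homologyFunctor _ m).map (DerivedCategory.Q.map a)) := by
      rw [ha']
      haveI := epi_homology_mapDerivedCategory_map (Scheme.Modules.restrictFunctor V.ι) α m
      rw [Functor.map_comp, Functor.map_comp]
      haveI : Epi ((DerivedCategory.homologyFunctor _ m).map ((DCoh.restrictD V.ι).map α) ≫
          (DerivedCategory.homologyFunctor _ m).map
            ((Scheme.Modules.restrictFunctor V.ι).mapDerivedCategoryFactors.hom.app F)) :=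
        epi_comp _ _
      exact epi_comp _ _
    exact epi_homologyMap_of_epi_homologyFunctor_Q_map a m

end chain

end Groth.Agent.Lib.H6xPC3
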