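import Mathlib
import Groth.Prelude.Def_DCoh3
import Groth.Agent.Lib.H6xPC3C
set_option backward.isDefEq.respectTransparency.types false

/-!
# Pseudo-coherence in distinguished triangles, main theorem (helper6)
-/

set_option autoImplicit false
set_option linter.style.haveILetI false
universe u
open CategoryTheory CategoryTheory.Limits AlgebraicGeometry TopologicalSpace Opposite
  CategoryTheory.Pretriangulated

attribute [local instance] HasDerivedCategory.standard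

namespace Groth.Agent.Lib.H6xPC3

open Groth.Agent.Lib.H6xLocLift Groth.Agent.Lib.H6xPerfLoc Groth.Agent.Lib.H6xPerf23

variable {X : Scheme.{u}}

/-- the second comparison map is only a map in the derived category -/
theorem pcAt_cone_of_chain_derived (m : ℤ) {E₁ E₂ F₁ F₂ : CochainComplex X.Modules ℤ}
    (hE₁ : DCoh.IsStrictlyPerfect E₁) (hE₂ : DCoh.IsStrictlyPerfect E₂)
    (hz : ∀ j : ℤ, j < m + 1 → IsZero (E₁.X j))
    (u : F₁ ⟶ F₂) (a₁ : E₁ ⟶ F₁)
    (α₂ : DerivedCategory.Q.obj E₂ ⟶ DerivedCategory.Q.obj F₂)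
    (h₁ : ∀ i : ℤ, m + 1 < i → IsIso (HomologicalComplex.homologyMap a₁ i))
    (h₁' : Epi (HomologicalComplex.homologyMap a₁ (m + 1)))
    (h₂ : ∀ i : ℤ, m < i → IsIso ((DerivedCategory.homologyFunctor _ i).map α₂))
    (h₂' : Epi ((DerivedCategory.homologyFunctor _ m).map α₂)) (x : X) :
    PCAt m (DerivedCategory.Q.obj (CochainComplex.mappingCone u)) x := by
  obtain ⟨V, hxV, a₂, k₂, k₂'⟩ := exists_chain_of_derived m hE₂ α₂ h₂ h₂' x
  obtain ⟨x', hx'⟩ : ∃ x' : (V : Scheme.{u}), V.ι.base x' = x := ⟨⟨x, hxV⟩, rfl⟩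
  have key := pcAt_cone_of_chain m (isStrictlyPerfect_restrict V.ι E₁ hE₁)
    (isStrictlyPerfect_restrict V.ι E₂ hE₂)
    (fun j hj => (Scheme.Modules.restrictFunctor V.ι).map_isZero (hz j hj))
    ((DCoh.restrictCx V).map u) ((DCoh.restrictCx V).map a₁) a₂
    (fun i hi => by
      haveI := h₁ i hi
      exact isIso_homologyMap_mapHomologicalComplex (Scheme.Modules.restrictFunctor V.ι) a₁ i)
    (by
      haveI := h₁'
      exact epi_homologyMap_mapHomologicalComplex (Scheme.Modules.restrictFunctor V.ι) a₁ (m + 1))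
    k₂ k₂' x'
  have key2 := PCAt.of_restrict V.ι x' (key.of_iso (restrictDConeIso u V))
  rwa [hx'] at key2

/-- both comparison maps are maps in the derived category, target a mapping cone -/
theorem pcAt_cone_of_derived (m : ℤ) {E₁ E₂ F₁ F₂ : CochainComplex X.Modules ℤ}
    (hE₁ : DCoh.IsStrictlyPerfect E₁) (hE₂ : DCoh.IsStrictlyPerfect E₂)
    (hz : ∀ j : ℤ, j < m + 1 → IsZero (E₁.X j))
    (u : F₁ ⟶ F₂) (α₁ : DerivedCategory.Q.obj E₁ ⟶ DerivedCategory.Q.obj F₁)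
    (α₂ : DerivedCategory.Q.obj E₂ ⟶ DerivedCategory.Q.obj F₂)
    (h₁ : ∀ i : ℤ, m + 1 < i → IsIso ((DerivedCategory.homologyFunctor _ i).map α₁))
    (h₁' : Epi ((DerivedCategory.homologyFunctor _ (m + 1)).map α₁))
    (h₂ : ∀ i : ℤ, m < i → IsIso ((DerivedCategory.homologyFunctor _ i).map α₂))
    (h₂' : Epi ((DerivedCategory.homologyFunctor _ m).map α₂)) (x : X) :
    PCAt m (DerivedCategory.Q.obj (CochainComplex.mappingCone u)) x := by
  obtain ⟨V, hxV, a₁, k₁, k₁'⟩ := exists_chain_of_derived (m + 1) hE₁ α₁ h₁ h₁' x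
  obtain ⟨x', hx'⟩ : ∃ x' : (V : Scheme.{u}), V.ι.base x' = x := ⟨⟨x, hxV⟩, rfl⟩
  let α₂' : DerivedCategory.Q.obj ((DCoh.restrictCx V).obj E₂) ⟶
      DerivedCategory.Q.obj ((DCoh.restrictCx V).obj F₂) :=
    (Scheme.Modules.restrictFunctor V.ι).mapDerivedCategoryFactors.inv.app E₂ ≫
      (DCoh.restrictD V.ι).map α₂ ≫
      (Scheme.Modules.restrictFunctor V.ι).mapDerivedCategoryFactors.hom.app F₂
  have key := pcAt_cone_of_chain_derived m (isStrictlyPerfect_restrict V.ι E₁ hE₁)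
    (isStrictlyPerfect_restrict V.ι E₂ hE₂)
    (fun j hj => (Scheme.Modules.restrictFunctor V.ι).map_isZero (hz j hj))
    ((DCoh.restrictCx V).map u) a₁ α₂' k₁ k₁'
    (fun i hi => by
      haveI := h₂ i hi
      haveI := isIso_homology_mapDerivedCategory_map (Scheme.Modules.restrictFunctor V.ι) α₂ i
      dsimp only [α₂']
      rw [Functor.map_comp, Functor.map_comp]
      infer_instance)
    (by
      haveI := epi_homology_mapDerivedCategory_map (Scheme.Modules.restrictFunctor V.ι) α₂ m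
      dsimp only [α₂']
      rw [Functor.map_comp, Functor.map_comp]
      haveI : Epi ((DerivedCategory.homologyFunctor _ m).map ((DCoh.restrictD V.ι).map α₂) ≫
          (DerivedCategory.homologyFunctor _ m).map
            ((Scheme.Modules.restrictFunctor V.ι).mapDerivedCategoryFactors.hom.app F₂)) :=
        epi_comp _ _
      exact epi_comp _ _) x'
  have key2 := PCAt.of_restrict V.ι x' (key.of_iso (restrictDConeIso u V))
  rwa [hx'] at key2

/-- a distinguished triangle is isomorphic to the triangle of a mapping cone -/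
lemma exists_cone_model (T : Triangle (DCoh.D X)) (hT : T ∈ distTriang (DCoh.D X)) :
    ∃ (F₁ F₂ : CochainComplex X.Modules ℤ) (u : F₁ ⟶ F₂)
      (_ : T.obj₁ ≅ DerivedCategory.Q.obj F₁) (_ : T.obj₂ ≅ DerivedCategory.Q.obj F₂),
      Nonempty (T.obj₃ ≅ DerivedCategory.Q.obj (CochainComplex.mappingCone u)) := by
  let e₁ := (DerivedCategory.Q : _ ⥤ DCoh.D X).objObjPreimageIso T.obj₁
  let e₂' := (DerivedCategory.Q : _ ⥤ DCoh.D X).objObjPreimageIso T.obj₂
  obtain ⟨F₂, g, s, hs, hφ⟩ := DerivedCategory.left_fac (e₁.hom ≫ T.mor₁ ≫ e₂'.inv)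
  haveI := hs
  let e₂ : T.obj₂ ≅ DerivedCategory.Q.obj F₂ := e₂'.symm ≪≫ asIso (DerivedCategory.Q.map s)
  have hT₂ := DerivedCategory.mappingCone_triangle_distinguished g
  have comm : T.mor₁ ≫ e₂.hom = e₁.symm.hom ≫
      (DerivedCategory.Q.mapTriangle.obj (CochainComplex.mappingCone.triangle g)).mor₁ := by
    change T.mor₁ ≫ e₂'.inv ≫ DerivedCategory.Q.map s = e₁.inv ≫ DerivedCategory.Q.map g
    have h2 : DerivedCategory.Q.map g = (e₁.hom ≫ T.mor₁ ≫ e₂'.inv) ≫ DerivedCategory.Q.map s := by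
      rw [hφ, Category.assoc, IsIso.inv_hom_id, Category.comp_id]
    rw [h2]
    simp
  let iT := isoTriangleOfIso₁₂ _ _ hT hT₂ e₁.symm e₂ comm
  exact ⟨_, F₂, g, e₁.symm, e₂, ⟨Triangle.π₃.mapIso iT⟩⟩

/-- the third vertex, with global data on the first two vertices -/
theorem pcAt_obj₃_of_global (m : ℤ) (T : Triangle (DCoh.D X)) (hT : T ∈ distTriang (DCoh.D X))
    (h₁ : PCGlobal (m + 1) T.obj₁) (h₂ : PCGlobal m T.obj₂) (x : X) : PCAt m T.obj₃ x := by
  obtain ⟨E₁, α₁, hE₁, hz, k₁, k₁'⟩ := h₁.exists_truncated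
  obtain ⟨E₂, α₂, hE₂, k₂, k₂'⟩ := h₂
  obtain ⟨F₁, F₂, u, e₁, e₂, ⟨e₃⟩⟩ := exists_cone_model T hT
  refine PCAt.of_iso e₃.symm ?_
  refine pcAt_cone_of_derived m hE₁ hE₂ hz u (α₁ ≫ e₁.hom) (α₂ ≫ e₂.hom)
    (fun i hi => ?_) ?_ (fun i hi => ?_) ?_ x
  · haveI := k₁ i hi
    rw [Functor.map_comp]
    infer_instance
  · rw [Functor.map_comp]
    exact epi_comp _ _
  · haveI := k₂ i hi
    rw [Functor.map_comp]
    infer_instance
  · rw [Functor.map_comp]
    exact epi_comp _ _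

/-- the third vertex, pointwise -/
theorem pcAt_obj₃ (m : ℤ) (T : Triangle (DCoh.D X)) (hT : T ∈ distTriang (DCoh.D X)) (x : X)
    (h₁ : PCAt (m + 1) T.obj₁ x) (h₂ : PCAt m T.obj₂ x) : PCAt m T.obj₃ x := by
  obtain ⟨Z₁, g₁, hg₁, ⟨z₁, rfl⟩, G₁⟩ := h₁
  obtain ⟨Z₂, g₂, hg₂, ⟨z₂, rfl⟩, G₂⟩ := h₂.restrict g₁ z₁
  have hT₁ := (DCoh.restrictD g₁).map_distinguished T hT
  have hT₂ := (DCoh.restrictD g₂).map_distinguished _ hT₁
  have key := pcAt_obj₃_of_global m _ hT₂ (G₁.restrict g₂) G₂ z₂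
  exact PCAt.of_restrict g₁ _ (PCAt.of_restrict g₂ z₂ key)

theorem isPseudoCoherentD_obj₃ (m : ℤ) (T : Triangle (DCoh.D X))
    (hT : T ∈ distTriang (DCoh.D X)) (h₁ : DCoh.IsPseudoCoherentD (m + 1) T.obj₁)
    (h₂ : DCoh.IsPseudoCoherentD m T.obj₂) : DCoh.IsPseudoCoherentD m T.obj₃ := by
  rw [isPseudoCoherentD_iff_pcAt] at h₁ h₂ ⊢
  exact fun x => pcAt_obj₃ m T hT x (h₁ x) (h₂ x)

/-- **S0889** -/
theorem triangle (m : ℤ) (T : Triangle (DCoh.D X)) (hT : T ∈ distTriang (DCoh.D X)) :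
    (DCoh.IsPseudoCoherentD (m + 1) T.obj₁ → DCoh.IsPseudoCoherentD m T.obj₂ →
      DCoh.IsPseudoCoherentD m T.obj₃) ∧
    (DCoh.IsPseudoCoherentD m T.obj₁ → DCoh.IsPseudoCoherentD m T.obj₃ →
      DCoh.IsPseudoCoherentD m T.obj₂) ∧
    (DCoh.IsPseudoCoherentD (m + 1) T.obj₂ → DCoh.IsPseudoCoherentD m T.obj₃ →
      DCoh.IsPseudoCoherentD (m + 1) T.obj₁) := by
  refine ⟨isPseudoCoherentD_obj₃ m T hT, fun h₁ h₃ => ?_, fun h₂ h₃ => ?_⟩
  · have h₃' := isPseudoCoherentD_shift h₃ (-1)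
    rw [show m - -1 = m + 1 by omega] at h₃'
    exact isPseudoCoherentD_obj₃ m T.invRotate (inv_rot_of_distTriang T hT) h₃' h₁
  · have h₂' := isPseudoCoherentD_shift h₂ (-1)
    rw [show m + 1 - -1 = m + 1 + 1 by omega] at h₂'
    have h₃' := isPseudoCoherentD_shift h₃ (-1)
    rw [show m - -1 = m + 1 by omega] at h₃'
    exact isPseudoCoherentD_obj₃ (m + 1) T.invRotate.invRotate
      (inv_rot_of_distTriang _ (inv_rot_of_distTriang T hT)) h₂' h₃'

end Groth.Agent.Lib.H6xPC3
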