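import Mathlib
import Groth.Prelude.Def_DCoh3
import Groth.Agent.Lib.H6xPC3D
set_option backward.isDefEq.respectTransparency.types false

/-!
# Pseudo-coherence of direct summands (helper6)
-/

set_option autoImplicit false
set_option linter.style.haveILetI false
universe u
open CategoryTheory CategoryTheory.Limits AlgebraicGeometry TopologicalSpace Opposite
  CategoryTheory.Pretriangulated ZeroObject

attribute [local instance] HasDerivedCategory.standard

namespace Groth.Agent.Lib.H6xPC3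

open Groth.Agent.Lib.H6xLocLift Groth.Agent.Lib.H6xPerfLoc Groth.Agent.Lib.H6xPerf23

variable {X : Scheme.{u}}

lemma PCGlobal.mono {m n : ℤ} (hmn : m ≤ n) {K : DCoh.D X} (h : PCGlobal m K) : PCGlobal n K := by
  obtain ⟨E, α, hE, h1, h2⟩ := h
  refine ⟨E, α, hE, fun i hi => h1 i (by omega), ?_⟩
  rcases hmn.eq_or_lt with rfl | hlt
  · exact h2
  · haveI := h1 n hlt
    infer_instance

lemma PCAt.mono {m n : ℤ} (hmn : m ≤ n) {K : DCoh.D X} {x : X} (h : PCAt m K x) : PCAt n K x := by
  obtain ⟨Z, g, hg, hx, hG⟩ := h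
  exact ⟨Z, g, hg, hx, hG.mono hmn⟩

/-- a retract of an object with a global datum is `b`-pseudo-coherent for `b` large -/
lemma PCGlobal.exists_of_retract {m : ℤ} {K M : DCoh.D X} (i : K ⟶ M) (p : M ⟶ K)
    (hip : i ≫ p = 𝟙 K) (h : PCGlobal m M) : ∃ b : ℤ, m ≤ b ∧ PCGlobal b K := by
  obtain ⟨E, α, ⟨⟨a, b, hab⟩, -⟩, h1, -⟩ := h
  have hz : ∀ j : ℤ, max b m < j → IsZero ((DerivedCategory.homologyFunctor _ j).obj K) := by
    intro j hj
    haveI := h1 j (by have := le_max_right b m; omega)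
    have z1 : IsZero ((DerivedCategory.homologyFunctor _ j).obj (DerivedCategory.Q.obj E)) := by
      refine IsZero.of_iso ?_ ((DerivedCategory.homologyFunctorFactors _ j).app E)
      exact ShortComplex.isZero_homology_of_isZero_X₂ _
        (hab j (Or.inr (by have := le_max_left b m; omega)))
    have z2 : IsZero ((DerivedCategory.homologyFunctor _ j).obj M) :=
      IsZero.of_iso z1 (asIso ((DerivedCategory.homologyFunctor _ j).map α)).symm
    rw [IsZero.iff_id_eq_zero, ← CategoryTheory.Functor.map_id, ← hip, Functor.map_comp]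
    rw [z2.eq_of_tgt ((DerivedCategory.homologyFunctor _ j).map i) 0, zero_comp]
  refine ⟨max b m + 1, by have := le_max_right b m; omega, 0, 0, isStrictlyPerfect_zero X,
    fun j hj => ?_, ?_⟩
  · refine IsZero.isIso ?_ (hz j (by omega)) _
    exact (DerivedCategory.homologyFunctor _ j).map_isZero
      (DerivedCategory.Q.map_isZero (isZero_zero _))
  · exact IsZero.epi (hz _ (by omega)) _

/-- the inductive step -/
lemma pcAt_biprod_step (n : ℤ) (K L : DCoh.D X) [HasBinaryBiproduct K L] (x : X)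
    (hKL : PCAt n (K ⊞ L) x) (hK : PCAt (n + 1) K x) (hL : PCAt (n + 1) L x) :
    PCAt n K x ∧ PCAt n L x := by
  constructor
  · have hLK : PCAt n (L ⊞ K) x := hKL.of_iso (biprod.braiding K L)
    exact pcAt_obj₃ n (binaryBiproductTriangle L K) (binaryBiproductTriangle_distinguished L K) x
      hL hLK
  · exact pcAt_obj₃ n (binaryBiproductTriangle K L) (binaryBiproductTriangle_distinguished K L) x
      hK hKL

lemma pcAt_biprod (m : ℤ) (K L : DCoh.D X) [HasBinaryBiproduct K L] (x : X)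
    (h : PCAt m (K ⊞ L) x) : PCAt m K x ∧ PCAt m L x := by
  have key : ∀ k : ℕ, PCAt (m + k) K x ∧ PCAt (m + k) L x → PCAt m K x ∧ PCAt m L x := by
    intro k
    induction k with
    | zero => intro h0; simpa using h0
    | succ k ih =>
      intro hk
      apply ih
      have e : m + ((k + 1 : ℕ) : ℤ) = m + k + 1 := by push_cast; ring
      rw [e] at hk
      exact pcAt_biprod_step (m + k) K L x (h.mono (by omega)) hk.1 hk.2
  obtain ⟨Z, g, hg, hx, hG⟩ := h
  obtain ⟨b₁, hb₁, G₁⟩ := PCGlobal.exists_of_retract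
    ((DCoh.restrictD g).map (biprod.inl : K ⟶ K ⊞ L)) ((DCoh.restrictD g).map biprod.fst)
    (by rw [← Functor.map_comp, biprod.inl_fst, CategoryTheory.Functor.map_id]) hG
  obtain ⟨b₂, hb₂, G₂⟩ := PCGlobal.exists_of_retract
    ((DCoh.restrictD g).map (biprod.inr : L ⟶ K ⊞ L)) ((DCoh.restrictD g).map biprod.snd)
    (by rw [← Functor.map_comp, biprod.inr_snd, CategoryTheory.Functor.map_id]) hG
  obtain ⟨k, hk⟩ : ∃ k : ℕ, m + k = max b₁ b₂ :=
    ⟨(max b₁ b₂ - m).toNat, by have := le_max_left b₁ b₂; omega⟩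
  apply key k
  rw [hk]
  exact ⟨⟨Z, g, hg, hx, G₁.mono (le_max_left _ _)⟩, ⟨Z, g, hg, hx, G₂.mono (le_max_right _ _)⟩⟩

/-- **S0888** -/
theorem biprod (m : ℤ) (K L : DCoh.D X) [HasBinaryBiproduct K L]
    (h : DCoh.IsPseudoCoherentD m (K ⊞ L)) :
    DCoh.IsPseudoCoherentD m K ∧ DCoh.IsPseudoCoherentD m L := by
  rw [isPseudoCoherentD_iff_pcAt] at h
  rw [isPseudoCoherentD_iff_pcAt, isPseudoCoherentD_iff_pcAt]
  exact ⟨fun x => (pcAt_biprod m K L x (h x)).1, fun x => (pcAt_biprod m K L x (h x)).2⟩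

end Groth.Agent.Lib.H6xPC3
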