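import Groth.Agent.Lib.Helper26ModLim2
import Groth.Agent.Lib.Helper26ModLocFree
import Groth.Agent.Lib.Helper20LocFree
import Groth.Agent.Lib.R2H2PullLF
set_option backward.isDefEq.respectTransparency.types false

/-!
# The kernel of an epimorphism of finite locally free modules is finite locally free
(helper2, round 2)
-/

set_option autoImplicit false
universe u

open CategoryTheory CategoryTheory.Limits AlgebraicGeometry TopologicalSpace Opposite
open Groth.Agent.Lib.Helper20.Thickening Groth.Agent.Lib.Helper26.ModSec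

namespace Groth.Agent.Lib.R2H2.FLFKernel

section Alg

variable {R : Type*} [CommRing R] {M N : Type*} [AddCommGroup M] [Module R M] [AddCommGroup N]
  [Module R N]

theorem ker_fp_flat [Module.FinitePresentation R M] [Module.Flat R M]
    [Module.FinitePresentation R N] [Module.Flat R N]
    (f : M →ₗ[R] N) (hf : Function.Surjective f) :
    Module.FinitePresentation R (LinearMap.ker f) ∧ Module.Flat R (LinearMap.ker f) := by
  haveI : Module.Projective R M := Module.Flat.projective_of_finitePresentation
  haveI : Module.Projective R N := Module.Flat.projective_of_finitePresentation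
  obtain ⟨s, hs⟩ := Module.projective_lifting_property f LinearMap.id hf
  have hs' : ∀ y, f (s y) = y := fun y => LinearMap.congr_fun hs y
  let r : M →ₗ[R] LinearMap.ker f :=
    LinearMap.codRestrict (LinearMap.ker f) (LinearMap.id - s ∘ₗ f) (fun m => by
      rw [LinearMap.mem_ker, LinearMap.sub_apply, map_sub, LinearMap.id_apply,
        LinearMap.comp_apply, hs', sub_self])
  have hr : ∀ k : LinearMap.ker f, r k.1 = k := by
    intro k
    apply Subtype.ext
    change k.1 - s (f k.1) = k.1
    rw [LinearMap.mem_ker.mp k.2, map_zero, sub_zero]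
  have hr' : r ∘ₗ (LinearMap.ker f).subtype = LinearMap.id := by
    ext k
    exact congrArg Subtype.val (hr k)
  haveI : Module.Projective R (LinearMap.ker f) := Module.Projective.of_split _ r hr'
  haveI : Module.Finite R (LinearMap.ker f) :=
    Module.Finite.of_surjective r (fun k => ⟨k.1, hr k⟩)
  exact ⟨Module.finitePresentation_of_projective R _, inferInstance⟩

end Alg

theorem isFinLocFree_kernel_of_epi {X : Scheme.{u}} {E F : X.Modules} (π : E ⟶ F) [Epi π]
    (hE : FlatMod.IsFinLocFree E) (hF : FlatMod.IsFinLocFree F) :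
    FlatMod.IsFinLocFree (kernel π) := by
  haveI := Groth.Agent.Lib.R2H2.PullLF.isQuasicoherent_of_isFinLocFree E hE
  haveI := Groth.Agent.Lib.R2H2.PullLF.isQuasicoherent_of_isFinLocFree F hF
  haveI : (kernel π).IsQuasicoherent :=
    Groth.Agent.Lib.Helper23.QCohLocal.isQuasicoherent_kernel π
  intro x
  obtain ⟨U, hU, hxU, -⟩ := exists_isAffineOpen_mem_and_subset (x := x) (U := ⊤) trivial
  obtain ⟨h1, h2⟩ := Groth.Agent.Lib.Helper26.ModLocFree.fp_flat_sections_of_isFinLocFree E hE hU
  obtain ⟨h3, h4⟩ := Groth.Agent.Lib.Helper26.ModLocFree.fp_flat_sections_of_isFinLocFree F hF hU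
  haveI := h1
  haveI := h2
  haveI := h3
  haveI := h4
  haveI : Epi ((ΓUF hU).map π) := epi_ΓUF_map π hU
  have hsurj : Function.Surjective ((ΓUF hU).map π).hom :=
    (ModuleCat.epi_iff_surjective _).1 inferInstance
  obtain ⟨k1, k2⟩ := ker_fp_flat ((ΓUF hU).map π).hom hsurj
  haveI := k1
  haveI := k2
  let e : (ΓUF hU).obj (kernel π) ≅ kernel ((ΓUF hU).map π) := PreservesKernel.iso (ΓUF hU) π
  let e2 := e ≪≫ ModuleCat.kernelIsoKer ((ΓUF hU).map π)
  haveI : Module.FinitePresentation Γ(X, U) ((ΓUF hU).obj (kernel π)) :=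
    Module.FinitePresentation.of_equiv e2.toLinearEquiv.symm
  haveI : Module.Flat Γ(X, U) ((ΓUF hU).obj (kernel π)) :=
    Module.Flat.of_linearEquiv e2.toLinearEquiv
  obtain ⟨D, m, hxD, -, hiso⟩ :=
    Groth.Agent.Lib.Helper20.LocFree.exists_restrict_iso_freeMod (kernel π) hU x hxU
  exact ⟨D, m, hxD, hiso⟩

end Groth.Agent.Lib.R2H2.FLFKernel
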