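import Mathlib
import Groth.Prelude.Def_DCoh3
import Groth.Agent.Lib.H6xPCohA
import Groth.Agent.Lib.H3FLF
import Groth.Agent.Lib.R2H2FLFKernel
import Groth.Agent.Lib.R2H2PdSheaf
import Groth.Agent.Lib.Helper23FinType
import Groth.Agent.Lib.Helper23FinPres
set_option backward.isDefEq.respectTransparency.types false

/-!
# Finite type / finite presentation of the top cohomology of pseudo-coherent objects (helper6)
-/

set_option autoImplicit false
set_option linter.style.haveILetI false
universe u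
open CategoryTheory CategoryTheory.Limits AlgebraicGeometry TopologicalSpace Opposite

attribute [local instance] HasDerivedCategory.standard

namespace Groth.Agent.Lib.H6xPCoh

variable {X : Scheme.{u}}

/-- Mathlib's free module on `ULift (Fin n)` is the prelude's `freeMod` -/
noncomputable def freeIso (n : ℕ) :
    SheafOfModules.free (R := X.ringCatSheaf) (ULift.{u} (Fin n)) ≅ FlatMod.freeMod X n :=
  Sigma.whiskerEquiv (f := fun _ : ULift.{u} (Fin n) => SheafOfModules.unit X.ringCatSheaf)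
    (g := fun _ : Fin n => Coh.structureModule X) Equiv.ulift (fun _ => Iso.refl _)

/-- cycles of a strictly perfect complex, above the top nonzero cohomology, are finite locally
free -/
lemma isFinLocFree_cycles (E : CochainComplex X.Modules ℤ) (hE : DCoh.IsStrictlyPerfect E) (n : ℤ)
    (hH : ∀ i, n < i → IsZero (E.homology i)) :
    ∀ i, n ≤ i → FlatMod.IsFinLocFree (E.cycles i) := by
  obtain ⟨⟨a, b, hab⟩, hflf⟩ := hE
  have key : ∀ k : ℕ, ∀ i : ℤ, n ≤ i → b + 1 - k ≤ i → FlatMod.IsFinLocFree (E.cycles i) := by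
    intro k
    induction k with
    | zero =>
      intro i _ hi
      have hz : IsZero (E.X i) := hab i (Or.inr (by push_cast at hi; omega))
      have hz' : IsZero (E.cycles i) := by
        rw [IsZero.iff_id_eq_zero, ← cancel_mono (E.iCycles i)]
        exact hz.eq_of_tgt _ _
      exact Groth.Agent.Lib.R2H2.PdSheaf.isFinLocFree_of_isZero _ hz'
    | succ k ih =>
      intro i hn hi
      have h1 : FlatMod.IsFinLocFree (E.cycles (i + 1)) :=
        ih (i + 1) (by omega) (by push_cast at hi ⊢; omega)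
      have hex : IsZero (E.homology (i + 1)) := hH (i + 1) (by omega)
      haveI : Epi (E.toCycles i (i + 1)) :=
        Preadditive.epi_of_isZero_cokernel' _ (E.homologyIsCokernel i (i + 1) (by simp)) hex
      have e1 : E.cycles i ≅ kernel (E.d i (i + 1)) :=
        (E.cyclesIsKernel i (i + 1) (by simp)).conePointUniqueUpToIso (limit.isLimit _)
      have e2 : kernel (E.d i (i + 1)) ≅ kernel (E.toCycles i (i + 1)) :=
        kernelIsoOfEq (E.toCycles_i i (i + 1)).symm ≪≫
          kernelCompMono (E.toCycles i (i + 1)) (E.iCycles (i + 1))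
      exact Groth.Agent.H3.FLF.isFinLocFree_of_iso (e1 ≪≫ e2).symm
        (Groth.Agent.Lib.R2H2.FLFKernel.isFinLocFree_kernel_of_epi _ (hflf i) h1)
  intro i hi
  exact key (b + 1 - i).toNat i hi (by have := Int.self_le_toNat (b + 1 - i); omega)

/-- a quotient of a finite locally free module is locally generated by finitely many sections -/
lemma exists_generatingSections {Z M : X.Modules} (hZ : FlatMod.IsFinLocFree Z) (p : Z ⟶ M)
    [Epi p] (x : X) :
    ∃ U : X.Opens, x ∈ U ∧ ∃ G : (M.restrict U.ι).GeneratingSections, G.IsFiniteType := by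
  obtain ⟨U, n, hxU, ⟨e⟩⟩ := hZ x
  refine ⟨U, hxU, ?_⟩
  let g : SheafOfModules.free (R := (U : Scheme.{u}).ringCatSheaf) (ULift.{u} (Fin n)) ⟶
      M.restrict U.ι := (freeIso n).hom ≫ e.inv ≫ (Scheme.Modules.restrictFunctor U.ι).map p
  have h1 : Epi ((Scheme.Modules.restrictFunctor U.ι).map p) := inferInstance
  have h2 : Epi (e.inv ≫ (Scheme.Modules.restrictFunctor U.ι).map p) :=
    epi_comp' inferInstance h1
  haveI : Epi g := epi_comp' inferInstance h2
  refine ⟨{ I := ULift.{u} (Fin n)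
            s := (M.restrict U.ι).freeHomEquiv g
            epi := by rw [Equiv.symm_apply_apply]; infer_instance }, ⟨inferInstance⟩⟩

/-- the cokernel of a map of finite locally free modules is locally finitely presented -/
lemma exists_presentation {A B M : X.Modules} (hA : FlatMod.IsFinLocFree A)
    (hB : FlatMod.IsFinLocFree B) (f : A ⟶ B) (g : B ⟶ M) (w : f ≫ g = 0)
    (hc : IsColimit (CokernelCofork.ofπ g w)) (x : X) :
    ∃ U : X.Opens, x ∈ U ∧ ∃ P : (M.restrict U.ι).Presentation, P.IsFinite := by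
  obtain ⟨U₁, a, hx₁, ⟨eA⟩⟩ := hA x
  obtain ⟨U₂, b, hx₂, ⟨eB⟩⟩ := hB x
  obtain ⟨U, hU⟩ : ∃ U : X.Opens, U = U₁ ⊓ U₂ := ⟨_, rfl⟩
  have hxU : x ∈ U := hU ▸ ⟨hx₁, hx₂⟩
  obtain ⟨eA'⟩ := Groth.Agent.H3.FLF.nonempty_restrict_iso_freeMod_of_le A
    (hU ▸ inf_le_left : U ≤ U₁) eA
  obtain ⟨eB'⟩ := Groth.Agent.H3.FLF.nonempty_restrict_iso_freeMod_of_le B
    (hU ▸ inf_le_right : U ≤ U₂) eB
  let R := Scheme.Modules.restrictFunctor U.ι
  let S : ShortComplex X.Modules := ShortComplex.mk f g w
  have hS : S.Exact := S.exact_of_g_is_cokernel hc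
  haveI : Epi S.g := epi_of_isColimit_cofork hc
  have hS' : (S.map R).Exact := hS.map R
  haveI hRg : Epi (R.map g) := inferInstance
  let iA := (freeIso (X := (U : Scheme.{u})) a) ≪≫ eA'.symm
  let iB := (freeIso (X := (U : Scheme.{u})) b) ≪≫ eB'.symm
  let f' : SheafOfModules.free (R := (U : Scheme.{u}).ringCatSheaf) (ULift.{u} (Fin a)) ⟶
      SheafOfModules.free (R := (U : Scheme.{u}).ringCatSheaf) (ULift.{u} (Fin b)) :=
    iA.hom ≫ R.map f ≫ iB.inv
  let g' : SheafOfModules.free (R := (U : Scheme.{u}).ringCatSheaf) (ULift.{u} (Fin b)) ⟶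
      M.restrict U.ι := iB.hom ≫ R.map g
  have w0 : R.map f ≫ R.map g = 0 := by rw [← R.map_comp, w, R.map_zero]
  have w' : f' ≫ g' = 0 := by
    simp only [f', g', Category.assoc, Iso.inv_hom_id_assoc]
    exact (congrArg (fun t => iA.hom ≫ t) w0).trans comp_zero
  let S' : ShortComplex (U : Scheme.{u}).Modules := ShortComplex.mk f' g' w'
  let e : S' ≅ S.map R := ShortComplex.isoMk iA iB (Iso.refl _)
    (by
      change iA.hom ≫ R.map f = (iA.hom ≫ R.map f ≫ iB.inv) ≫ iB.hom
      rw [Category.assoc, Category.assoc, Iso.inv_hom_id, Category.comp_id])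
    (by
      change iB.hom ≫ R.map g = (iB.hom ≫ R.map g) ≫ 𝟙 _
      rw [Category.comp_id])
  have hS'' : S'.Exact := ShortComplex.exact_of_iso e.symm hS'
  haveI : Epi S'.g := by
    change Epi (iB.hom ≫ R.map g)
    exact epi_comp' inferInstance hRg
  exact ⟨U, hxU, SheafOfModules.presentationOfIsCokernelFree f' g' w' hS''.gIsCokernel,
    ⟨⟨show Finite (ULift.{u} (Fin b)) from inferInstance⟩,
      ⟨show Finite (ULift.{u} (Fin a)) from inferInstance⟩⟩⟩

open Groth.Agent.Lib.Helper23.FinType Groth.Agent.Lib.Helper23.QCohLocal in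
/-- transport of finite generating sections from `(M|_V)|_U` to `M|_{V.ι ''ᵁ U}` -/
lemma exists_generatingSections_image (M : X.Modules) (V : X.Opens)
    (U : (V : Scheme.{u}).Opens) (G : ((M.restrict V.ι).restrict U.ι).GeneratingSections)
    [hG : G.IsFiniteType] :
    ∃ G' : (M.restrict (V.ι ''ᵁ U).ι).GeneratingSections, G'.IsFiniteType := by
  let G₁ : (M.restrict (U.ι ≫ V.ι)).GeneratingSections :=
    G.ofEpi ((Scheme.Modules.restrictFunctorComp U.ι V.ι).app M).inv
  haveI : G₁.IsFiniteType := ⟨hG.finite⟩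
  exact ⟨generatingSectionsOfComp M (V.ι.isoImage U).inv (U.ι ≫ V.ι) (V.ι ''ᵁ U).ι
    (V.ι.isoImage_inv_ι U) G₁, inferInstance⟩

open Groth.Agent.Lib.Helper23.FinType Groth.Agent.Lib.Helper23.QCohLocal in
/-- transport of finite presentations from `(M|_V)|_U` to `M|_{V.ι ''ᵁ U}` -/
lemma exists_presentation_image (M : X.Modules) (V : X.Opens)
    (U : (V : Scheme.{u}).Opens) (P : ((M.restrict V.ι).restrict U.ι).Presentation)
    [hP : P.IsFinite] :
    ∃ P' : (M.restrict (V.ι ''ᵁ U).ι).Presentation, P'.IsFinite := by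
  let P₁ : (M.restrict (U.ι ≫ V.ι)).Presentation :=
    SheafOfModules.Presentation.ofIsIso.{u, u, u}
      ((Scheme.Modules.restrictFunctorComp U.ι V.ι).app M).inv P
  haveI : P₁.IsFinite :=
    ⟨⟨hP.isFiniteType_generators.finite⟩, ⟨hP.isFiniteType_relations.finite⟩⟩
  exact ⟨presentationOfComp M (V.ι.isoImage U).inv (U.ι ≫ V.ι) (V.ι ''ᵁ U).ι
    (V.ι.isoImage_inv_ι U) P₁, presentationOfComp_isFinite M _ _ _ _ P₁⟩

/-- **S0890** -/
theorem top_cohomology (m : ℤ) (K : DCoh.D X) (hK : DCoh.IsPseudoCoherentD m K) :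
    ((∀ i : ℤ, m < i → IsZero (DCoh.HD K i)) → CohB1.IsFT (DCoh.HD K m)) ∧
    ((∀ i : ℤ, m + 1 < i → IsZero (DCoh.HD K i)) → CohB1.IsFP (DCoh.HD K (m + 1))) := by
  constructor
  · intro hvan
    have key : ∀ x : X, ∃ W : X.Opens, x ∈ W ∧
        ∃ G : ((DCoh.HD K m).restrict W.ι).GeneratingSections, G.IsFiniteType := by
      intro x
      obtain ⟨V, hxV, E, hE, hiso, π, hπ⟩ := exists_local_data m K hK x
      have hH : ∀ i, m < i → IsZero (E.homology i) := fun i hi =>
        IsZero.of_iso ((Scheme.Modules.restrictFunctor V.ι).map_isZero (hvan i hi))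
          (hiso i hi).some
      have hZ := isFinLocFree_cycles E hE m hH m le_rfl
      haveI : Epi (E.homologyπ m ≫ π) := epi_comp _ _
      obtain ⟨x', hx'⟩ : ∃ x' : (V : Scheme.{u}), V.ι.base x' = x := ⟨⟨x, hxV⟩, rfl⟩
      obtain ⟨U, hxU, G, hG⟩ := exists_generatingSections hZ (E.homologyπ m ≫ π) x'
      obtain ⟨G', hG'⟩ := exists_generatingSections_image (DCoh.HD K m) V U G
      exact ⟨V.ι ''ᵁ U, ⟨x', hxU, hx'⟩, G', hG'⟩
    choose W hxW G using key
    refine Groth.Agent.Lib.Helper23.FinType.isFiniteType_of_generatingSections _ W ?_ G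
    rw [IsOpenCover, eq_top_iff]
    intro x _
    exact Opens.mem_iSup.2 ⟨x, hxW x⟩
  · intro hvan
    have key : ∀ x : X, ∃ W : X.Opens, x ∈ W ∧
        ∃ P : ((DCoh.HD K (m + 1)).restrict W.ι).Presentation, P.IsFinite := by
      intro x
      obtain ⟨V, hxV, E, hE, hiso, -, -⟩ := exists_local_data m K hK x
      have hH : ∀ i, m + 1 < i → IsZero (E.homology i) := fun i hi =>
        IsZero.of_iso ((Scheme.Modules.restrictFunctor V.ι).map_isZero (hvan i hi))
          (hiso i (by omega)).some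
      have hZ := isFinLocFree_cycles E hE (m + 1) hH (m + 1) le_rfl
      obtain ⟨e⟩ := hiso (m + 1) (by omega)
      obtain ⟨x', hx'⟩ : ∃ x' : (V : Scheme.{u}), V.ι.base x' = x := ⟨⟨x, hxV⟩, rfl⟩
      have w : E.toCycles m (m + 1) ≫ E.homologyπ (m + 1) ≫ e.hom = 0 := by
        rw [← Category.assoc, E.toCycles_comp_homologyπ, zero_comp]
      have hc : IsColimit (CokernelCofork.ofπ (E.homologyπ (m + 1) ≫ e.hom) w) := by
        let S₀ : ShortComplex (V : Scheme.{u}).Modules :=
          ShortComplex.mk (E.toCycles m (m + 1)) (E.homologyπ (m + 1))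
            (E.toCycles_comp_homologyπ m (m + 1))
        have hS₀ : S₀.Exact :=
          S₀.exact_of_g_is_cokernel (E.homologyIsCokernel m (m + 1) (by simp))
        let S : ShortComplex (V : Scheme.{u}).Modules :=
          ShortComplex.mk (E.toCycles m (m + 1)) (E.homologyπ (m + 1) ≫ e.hom) w
        let eS : S₀ ≅ S := ShortComplex.isoMk (Iso.refl _) (Iso.refl _) e
          (by simp [S₀, S]) (by simp [S₀, S])
        have hS : S.Exact := ShortComplex.exact_of_iso eS hS₀
        haveI : Epi S.g := by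
          change Epi (E.homologyπ (m + 1) ≫ e.hom)
          exact epi_comp _ _
        exact hS.gIsCokernel
      obtain ⟨U, hxU, P, hP⟩ := exists_presentation (hE.2 m) hZ _ _ w hc x'
      obtain ⟨P', hP'⟩ := exists_presentation_image (DCoh.HD K (m + 1)) V U P
      exact ⟨V.ι ''ᵁ U, ⟨x', hxU, hx'⟩, P', hP'⟩
    choose W hxW P using key
    refine Groth.Agent.Lib.Helper23.FinType.isFinitePresentation_of_presentation _ W ?_ P
    rw [IsOpenCover, eq_top_iff]
    intro x _
    exact Opens.mem_iSup.2 ⟨x, hxW x⟩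

end Groth.Agent.Lib.H6xPCoh
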