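import Mathlib
import Groth.Prelude.Def_DCoh3
import Groth.Agent.Lib.H6xPCohB
import Groth.Agent.Lib.H6xPerf23A
import Groth.Agent.Lib.Helper2FinPres
import Groth.Agent.Lib.Helper2LocFree
set_option backward.isDefEq.respectTransparency.types false

/-!
# Pseudo-coherence of a module placed in degree `0` (helper6)
-/

set_option autoImplicit false
set_option linter.style.haveILetI false
universe u
open CategoryTheory CategoryTheory.Limits AlgebraicGeometry TopologicalSpace Opposite
  CategoryTheory.Pretriangulated

attribute [local instance] HasDerivedCategory.standard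

namespace Groth.Agent.Lib.H6xPCoh

section twoTerm

universe v w
variable {A : Type w} [Category.{v} A] [Abelian A] [HasDerivedCategory A]
variable {P₁ P₀ M : A} (r : P₁ ⟶ P₀) (π : P₀ ⟶ M) (w : r ≫ π = 0)

/-- the two term complex `P₁ ⟶ P₀` in degrees `-1, 0` -/
noncomputable abbrev twoTerm : CochainComplex A ℤ :=
  CochainComplex.mappingCone ((HomologicalComplex.single A (ComplexShape.up ℤ) 0).map r)

/-- the augmentation of the two term complex to the cokernel -/
noncomputable def twoTermAug :
    twoTerm r ⟶ (HomologicalComplex.single A (ComplexShape.up ℤ) 0).obj M :=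
  CochainComplex.mappingCone.desc _ 0
    ((HomologicalComplex.single A (ComplexShape.up ℤ) 0).map π)
    (by rw [← Functor.map_comp, w]; simp)

lemma inr_twoTermAug :
    CochainComplex.mappingCone.inr _ ≫ twoTermAug r π w =
      (HomologicalComplex.single A (ComplexShape.up ℤ) 0).map π :=
  CochainComplex.mappingCone.inr_desc _ _ _ _

lemma isZero_homology_twoTerm (i : ℤ) (hi : i ≠ 0) (hi' : i ≠ -1) :
    IsZero ((twoTerm r).homology i) := by
  let φ := (HomologicalComplex.single A (ComplexShape.up ℤ) 0).map r
  let T := CochainComplex.mappingCone.triangle φ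
  have hT : DerivedCategory.Q.mapTriangle.obj T ∈ distTriang _ :=
    DerivedCategory.mappingCone_triangle_distinguished φ
  have ex := CochainComplex.homologyMap_exact₃_of_distTriang T hT i (i + 1) rfl
  have z1 : IsZero (T.obj₂.homology i) :=
    HomologicalComplex.isZero_single_obj_homology (ComplexShape.up ℤ) 0 P₀ i hi
  have z2 : IsZero (T.obj₁.homology (i + 1)) :=
    HomologicalComplex.isZero_single_obj_homology (ComplexShape.up ℤ) 0 P₁ (i + 1) (by omega)
  exact ex.isZero_of_both_zeros (z1.eq_of_src _ _) (z2.eq_of_tgt _ _)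

lemma isIso_homologyMap_twoTermAug (hc : IsColimit (CokernelCofork.ofπ π w)) :
    IsIso (HomologicalComplex.homologyMap (twoTermAug r π w) 0) := by
  let φ := (HomologicalComplex.single A (ComplexShape.up ℤ) 0).map r
  let β := (HomologicalComplex.single A (ComplexShape.up ℤ) 0).map π
  let T := CochainComplex.mappingCone.triangle φ
  have hT : DerivedCategory.Q.mapTriangle.obj T ∈ distTriang _ :=
    DerivedCategory.mappingCone_triangle_distinguished φ
  have ex₃ := CochainComplex.homologyMap_exact₃_of_distTriang T hT 0 1 rfl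
  have ex₂ := CochainComplex.homologyMap_exact₂_of_distTriang T hT 0
  have z2 : IsZero (T.obj₁.homology 1) :=
    HomologicalComplex.isZero_single_obj_homology (ComplexShape.up ℤ) 0 P₁ 1 (by omega)
  haveI hce : Epi (HomologicalComplex.homologyMap T.mor₂ 0) := ex₃.epi_f (z2.eq_of_tgt _ _)
  have hc_c := ex₂.gIsCokernel
  -- the other cokernel
  have wφβ : φ ≫ β = 0 := by
    dsimp only [φ, β]
    rw [← Functor.map_comp, w, Functor.map_zero]
  let Sp : ShortComplex A := ShortComplex.mk (HomologicalComplex.homologyMap φ 0)
    (HomologicalComplex.homologyMap β 0) (by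
      rw [← HomologicalComplex.homologyMap_comp, wφβ, HomologicalComplex.homologyMap_zero])
  let S0 : ShortComplex A := ShortComplex.mk r π w
  let eS : Sp ≅ S0 := ShortComplex.isoMk
    (HomologicalComplex.singleObjHomologySelfIso _ 0 P₁)
    (HomologicalComplex.singleObjHomologySelfIso _ 0 P₀)
    (HomologicalComplex.singleObjHomologySelfIso _ 0 M)
    (HomologicalComplex.singleObjHomologySelfIso_hom_naturality _ _ r).symm
    (HomologicalComplex.singleObjHomologySelfIso_hom_naturality _ _ π).symm
  have hS0 : S0.Exact := S0.exact_of_g_is_cokernel hc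
  haveI : Epi S0.g := epi_of_isColimit_cofork hc
  have hboth := (ShortComplex.exact_and_epi_g_iff_of_iso eS).2 ⟨hS0, inferInstance⟩
  have hSp : Sp.Exact := hboth.1
  haveI : Epi Sp.g := hboth.2
  have hc_p := hSp.gIsCokernel
  let u := hc_c.coconePointUniqueUpToIso hc_p
  have hu : HomologicalComplex.homologyMap T.mor₂ 0 ≫ u.hom =
      HomologicalComplex.homologyMap β 0 :=
    hc_c.comp_coconePointUniqueUpToIso_hom hc_p WalkingParallelPair.one
  have h2 : HomologicalComplex.homologyMap T.mor₂ 0 ≫
      HomologicalComplex.homologyMap (twoTermAug r π w) 0 =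
      HomologicalComplex.homologyMap β 0 := by
    have := HomologicalComplex.homologyMap_comp T.mor₂ (twoTermAug r π w) 0
    refine this.symm.trans ?_
    congr 1
    exact inr_twoTermAug r π w
  have h3 : HomologicalComplex.homologyMap (twoTermAug r π w) 0 = u.hom :=
    (cancel_epi (HomologicalComplex.homologyMap T.mor₂ 0)).1 (h2.trans hu.symm)
  exact h3 ▸ (inferInstance : IsIso u.hom)

end twoTerm

section general

universe v w
variable {A : Type w} [Category.{v} A] [Abelian A] [HasDerivedCategory A]

lemma isIso_homologyFunctor_Q_map_iff {K L : CochainComplex A ℤ} (a : K ⟶ L) (i : ℤ) :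
    IsIso ((DerivedCategory.homologyFunctor A i).map (DerivedCategory.Q.map a)) ↔
      IsIso (HomologicalComplex.homologyMap a i) :=
  NatIso.isIso_map_iff (DerivedCategory.homologyFunctorFactors A i) a

lemma epi_map_of_natIso {C D : Type*} [Category C] [Category D] {G H : C ⥤ D} (e : G ≅ H)
    {X Y : C} (f : X ⟶ Y) [Epi (H.map f)] : Epi (G.map f) := by
  have h : G.map f = e.hom.app X ≫ H.map f ≫ e.inv.app Y := by simp
  rw [h]
  haveI : Epi (H.map f ≫ e.inv.app Y) := epi_comp _ _
  exact epi_comp _ _

lemma epi_homologyFunctor_Q_map {K L : CochainComplex A ℤ} (a : K ⟶ L) (i : ℤ)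
    [h : Epi (HomologicalComplex.homologyMap a i)] :
    Epi ((DerivedCategory.homologyFunctor A i).map (DerivedCategory.Q.map a)) := by
  haveI : Epi ((HomologicalComplex.homologyFunctor A (ComplexShape.up ℤ) i).map a) := h
  exact epi_map_of_natIso (DerivedCategory.homologyFunctorFactors A i) a

end general

section scheme

variable {X : Scheme.{u}}

/-- finite free modules are finite locally free -/
lemma isFinLocFree_free (I : Type u) [Finite I] :
    FlatMod.IsFinLocFree (SheafOfModules.free (R := X.ringCatSheaf) I) := by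
  obtain ⟨n, ⟨e⟩⟩ := Finite.exists_equiv_fin I
  exact Groth.Agent.Lib.Helper2.LocFree.isFinLocFree_of_iso_freeMod _
    ((SheafOfModules.freeFunctor (R := X.ringCatSheaf)).mapIso
      (Equiv.toIso (e.trans Equiv.ulift.{u}.symm)) ≪≫ freeIso n)

/-- a finite locally free module placed in degree `0` is strictly perfect -/
lemma isStrictlyPerfect_single (P : X.Modules) (hP : FlatMod.IsFinLocFree P) :
    DCoh.IsStrictlyPerfect
      ((HomologicalComplex.single X.Modules (ComplexShape.up ℤ) 0).obj P) := by
  refine ⟨⟨0, 0, fun i hi => ?_⟩, fun i => ?_⟩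
  · exact HomologicalComplex.isZero_single_obj_X (ComplexShape.up ℤ) 0 P i (by omega)
  · by_cases hi : i = 0
    · subst hi
      exact Groth.Agent.H3.FLF.isFinLocFree_of_iso
        (HomologicalComplex.singleObjXSelf (ComplexShape.up ℤ) 0 P).symm hP
    · exact Groth.Agent.Lib.R2H2.PdSheaf.isFinLocFree_of_isZero _
        (HomologicalComplex.isZero_single_obj_X (ComplexShape.up ℤ) 0 P i hi)

/-- restriction of a module placed in degree `0` -/
noncomputable def restrictDInD (F : X.Modules) (V : X.Opens) :
    (DCoh.restrictD V.ι).obj (DCoh.inD X F) ≅ DCoh.inD V (F.restrict V.ι) :=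
  ((Scheme.Modules.restrictFunctor V.ι).mapDerivedCategorySingleFunctor 0).app F

/-- local criterion: a chain map from a strictly perfect complex to `F` in degree `0` -/
lemma isPseudoCoherentD_inD_of_local (m : ℤ) (F : X.Modules)
    (h : ∀ x : X, ∃ V : X.Opens, x ∈ V ∧
      ∃ (E : CochainComplex (V : Scheme.{u}).Modules ℤ)
        (a : E ⟶ (HomologicalComplex.single (V : Scheme.{u}).Modules (ComplexShape.up ℤ) 0).obj
          (F.restrict V.ι)), DCoh.IsStrictlyPerfect E ∧
        (∀ i : ℤ, m < i → IsIso (HomologicalComplex.homologyMap a i)) ∧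
        Epi (HomologicalComplex.homologyMap a m)) :
    DCoh.IsPseudoCoherentD m (DCoh.inD X F) := by
  rw [isPseudoCoherentD_iff_opens]
  intro x
  obtain ⟨V, hxV, E, a, hE, h1, h2⟩ := h x
  refine ⟨V, hxV, E, DerivedCategory.Q.map a ≫ (restrictDInD F V).inv, hE, fun i hi => ?_, ?_⟩
  · haveI : IsIso ((DerivedCategory.homologyFunctor _ i).map (DerivedCategory.Q.map a)) :=
      (isIso_homologyFunctor_Q_map_iff a i).2 (h1 i hi)
    rw [Functor.map_comp]
    infer_instance
  · haveI := h2
    haveI := epi_homologyFunctor_Q_map a m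
    rw [Functor.map_comp]
    exact epi_comp _ _

end scheme

section general2

universe v w
variable {A : Type w} [Category.{v} A] [Abelian A]

lemma epi_homologyMap_single_map {P M : A} (f : P ⟶ M) [Epi f] :
    Epi (HomologicalComplex.homologyMap
      ((HomologicalComplex.single A (ComplexShape.up ℤ) 0).map f) 0) := by
  have h := HomologicalComplex.singleObjHomologySelfIso_hom_naturality (ComplexShape.up ℤ) 0 f
  have h2 : HomologicalComplex.homologyMap
      ((HomologicalComplex.single A (ComplexShape.up ℤ) 0).map f) 0 =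
      (HomologicalComplex.singleObjHomologySelfIso (ComplexShape.up ℤ) 0 P).hom ≫ f ≫
        (HomologicalComplex.singleObjHomologySelfIso (ComplexShape.up ℤ) 0 M).inv := by
    rw [← Category.assoc, ← h, Category.assoc, Iso.hom_inv_id, Category.comp_id]
  rw [h2]
  haveI : Epi (f ≫ (HomologicalComplex.singleObjHomologySelfIso (ComplexShape.up ℤ) 0 M).inv) :=
    epi_comp _ _
  exact epi_comp _ _

end general2

section main

variable {X : Scheme.{u}}

open Groth.Agent.Lib.Helper23.FinType in
/-- finite presentation is invariant under isomorphisms -/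
theorem isFinitePresentation_of_iso {M N : X.Modules} (e : M ≅ N)
    [hM : SheafOfModules.IsFinitePresentation (R := X.ringCatSheaf) M] :
    SheafOfModules.IsFinitePresentation (R := X.ringCatSheaf) N := by
  obtain ⟨ι, U, P, hP, hU, -⟩ :=
    Groth.Agent.Lib.Helper2.FinPres.exists_isOpenCover_presentation_isFinite M
  refine isFinitePresentation_of_presentation N U hU (fun i => ?_)
  let P' : (N.restrict (U i).ι).Presentation :=
    SheafOfModules.Presentation.ofIsIso.{u, u, u}
      ((Scheme.Modules.restrictFunctor (U i).ι).map e.hom) (P i)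
  exact ⟨P', ⟨⟨(hP i).isFiniteType_generators.finite⟩, ⟨(hP i).isFiniteType_relations.finite⟩⟩⟩

/-- cohomology of a module placed in degree `0` -/
noncomputable def hdInDIso (F : X.Modules) (i : ℤ) :
    DCoh.HD (DCoh.inD X F) i ≅
      ((HomologicalComplex.single X.Modules (ComplexShape.up ℤ) 0).obj F).homology i :=
  (DerivedCategory.homologyFunctorFactors X.Modules i).app
    ((HomologicalComplex.single X.Modules (ComplexShape.up ℤ) 0).obj F)

lemma isZero_hd_inD (F : X.Modules) (i : ℤ) (hi : i ≠ 0) : IsZero (DCoh.HD (DCoh.inD X F) i) :=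
  IsZero.of_iso (HomologicalComplex.isZero_single_obj_homology (ComplexShape.up ℤ) 0 F i hi)
    (hdInDIso F i)

/-- `H⁰` of a module placed in degree `0` -/
noncomputable def hdInDZeroIso (F : X.Modules) : DCoh.HD (DCoh.inD X F) 0 ≅ F :=
  hdInDIso F 0 ≪≫ HomologicalComplex.singleObjHomologySelfIso (ComplexShape.up ℤ) 0 F

theorem isPseudoCoherentD_zero_of_isFT (F : X.Modules) [hF : CohB1.IsFT F] :
    DCoh.IsPseudoCoherentD 0 (DCoh.inD X F) := by
  obtain ⟨ι, U, G, hG, hU, -⟩ :=
    Groth.Agent.Lib.Helper23.FinType.exists_isOpenCover_generatingSections F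
  refine isPseudoCoherentD_inD_of_local 0 F (fun x => ?_)
  obtain ⟨i, hxi⟩ : ∃ i, x ∈ U i := by
    have : x ∈ (⨆ i, U i : X.Opens) := by rw [hU.iSup_eq_top]; trivial
    exact Opens.mem_iSup.1 this
  haveI : Finite (G i).I := (hG i).finite
  refine ⟨U i, hxi, _, (HomologicalComplex.single _ (ComplexShape.up ℤ) 0).map (G i).π,
    isStrictlyPerfect_single _ (isFinLocFree_free _), fun k hk => ?_, ?_⟩
  · exact IsZero.isIso
      (HomologicalComplex.isZero_single_obj_homology (ComplexShape.up ℤ) 0 _ k (by omega))
      (HomologicalComplex.isZero_single_obj_homology (ComplexShape.up ℤ) 0 _ k (by omega)) _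
  · exact @epi_homologyMap_single_map _ _ _ _ _ (G i).π (G i).epi


end main

end Groth.Agent.Lib.H6xPCoh
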