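import Mathlib
import Groth.Prelude.Def_DCoh3
import Groth.Agent.Lib.H6xPCohC
set_option backward.isDefEq.respectTransparency.types false

/-!
# Pseudo-coherence of a module placed in degree `0`, part 2 (helper6)
-/

set_option autoImplicit false
set_option linter.style.haveILetI false
universe u
open CategoryTheory CategoryTheory.Limits AlgebraicGeometry TopologicalSpace Opposite
  CategoryTheory.Pretriangulated

attribute [local instance] HasDerivedCategory.standard

namespace Groth.Agent.Lib.H6xPCoh

section main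

variable {X : Scheme.{u}}

lemma exists_local_of_cokernel {I₁ I₀ : Type u} [Finite I₁] [Finite I₀] {M : X.Modules}
    (r : SheafOfModules.free (R := X.ringCatSheaf) I₁ ⟶ SheafOfModules.free (R := X.ringCatSheaf) I₀)
    (π : SheafOfModules.free (R := X.ringCatSheaf) I₀ ⟶ M) (w : r ≫ π = 0)
    (hc : IsColimit (CokernelCofork.ofπ π w)) :
    ∃ (E : CochainComplex X.Modules ℤ)
      (a : E ⟶ (HomologicalComplex.single X.Modules (ComplexShape.up ℤ) 0).obj M),
      DCoh.IsStrictlyPerfect E ∧
      (∀ i : ℤ, -1 < i → IsIso (HomologicalComplex.homologyMap a i)) ∧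
      Epi (HomologicalComplex.homologyMap a (-1)) := by
  let P₁ : X.Modules := SheafOfModules.free (R := X.ringCatSheaf) I₁
  let P₀ : X.Modules := SheafOfModules.free (R := X.ringCatSheaf) I₀
  let r' : P₁ ⟶ P₀ := r
  let π' : P₀ ⟶ M := π
  have w' : r' ≫ π' = 0 := w
  have hc' : IsColimit (CokernelCofork.ofπ π' w') := hc
  refine ⟨twoTerm r', twoTermAug r' π' w', ?_, fun k hk => ?_, ?_⟩
  · exact Groth.Agent.Lib.H6xPerf23.isStrictlyPerfect_mappingCone _
      (isStrictlyPerfect_single _ (isFinLocFree_free _))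
      (isStrictlyPerfect_single _ (isFinLocFree_free _))
  · by_cases hk0 : k = 0
    · subst hk0
      exact isIso_homologyMap_twoTermAug r' π' w' hc'
    · exact IsZero.isIso (isZero_homology_twoTerm r' k hk0 (by omega))
        (HomologicalComplex.isZero_single_obj_homology (ComplexShape.up ℤ) 0 _ k hk0) _
  · exact IsZero.epi
      (HomologicalComplex.isZero_single_obj_homology (ComplexShape.up ℤ) 0 _ (-1) (by omega)) _

theorem isPseudoCoherentD_neg_one_of_isFP (F : X.Modules) [hF : CohB1.IsFP F] :
    DCoh.IsPseudoCoherentD (-1) (DCoh.inD X F) := by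
  obtain ⟨ι, U, P, hP, hU, -⟩ :=
    Groth.Agent.Lib.Helper2.FinPres.exists_isOpenCover_presentation_isFinite F
  refine isPseudoCoherentD_inD_of_local (-1) F (fun x => ?_)
  obtain ⟨i, hxi⟩ : ∃ i, x ∈ U i := by
    have : x ∈ (⨆ i, U i : X.Opens) := by rw [hU.iSup_eq_top]; trivial
    exact Opens.mem_iSup.1 this
  haveI : Finite (P i).generators.I := (hP i).isFiniteType_generators.finite
  haveI : Finite (P i).relations.I := (hP i).isFiniteType_relations.finite
  obtain ⟨E, a, h1, h2, h3⟩ := exists_local_of_cokernel (X := (U i : Scheme.{u})) _ _ _ (P i).isColimit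
  exact ⟨U i, hxi, E, a, h1, h2, h3⟩

/-- **S6518** -/
theorem single_iff (F : X.Modules) :
    (DCoh.IsPseudoCoherentD 0 (DCoh.inD X F) ↔ CohB1.IsFT F) ∧
    (DCoh.IsPseudoCoherentD (-1) (DCoh.inD X F) ↔ CohB1.IsFP F) := by
  refine ⟨⟨fun h => ?_, fun h => ?_⟩, ⟨fun h => ?_, fun h => ?_⟩⟩
  · haveI : SheafOfModules.IsFiniteType (R := X.ringCatSheaf) (DCoh.HD (DCoh.inD X F) 0) :=
      (top_cohomology 0 _ h).1 (fun i hi => isZero_hd_inD F i (by omega))
    exact Groth.Agent.Lib.Helper23.FinType.isFiniteType_of_iso (hdInDZeroIso F)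
  · haveI := h
    exact isPseudoCoherentD_zero_of_isFT F
  · have h0 : SheafOfModules.IsFinitePresentation (R := X.ringCatSheaf)
        (DCoh.HD (DCoh.inD X F) (-1 + 1)) :=
      (top_cohomology (-1) _ h).2 (fun i hi => isZero_hd_inD F i (by omega))
    haveI : SheafOfModules.IsFinitePresentation (R := X.ringCatSheaf)
        (DCoh.HD (DCoh.inD X F) 0) := h0
    exact isFinitePresentation_of_iso (hdInDZeroIso F)
  · haveI := h
    exact isPseudoCoherentD_neg_one_of_isFP F

end main

end Groth.Agent.Lib.H6xPCoh
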