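import Mathlib
import Groth.Agent.Lib.H6xTildeD

/-!
# `D(A) ≃ D_QCoh(O_{Spec A})` (helper6)
-/

set_option autoImplicit false
set_option linter.style.haveILetI false

universe u

open CategoryTheory CategoryTheory.Limits Opposite AlgebraicGeometry TopologicalSpace ZeroObject

attribute [local instance] HasDerivedCategory.standard

namespace Groth.Agent.Lib.H6xTilde

open DerivedCategory Groth.Agent.Lib.Helper17.Hyp Groth.Agent.Lib.H6xQcTrunc
  Groth.Agent.Lib.H6xGamAc Groth.Agent.Lib.Helper17

variable (R : CommRingCat.{u})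

instance additive_moduleSpecΓFunctor : (moduleSpecΓFunctor (R := R)).Additive :=
  (tilde.adjunction (R := R)).right_adjoint_additive

lemma exists_RG [PreservesFiniteLimits (tilde.functor R)] :
    ∃ (RG : DerivedCategory (Spec (CommRingCat.of R)).Modules ⥤
      DerivedCategory (ModuleCat.{u} R)),
      Nonempty ((tilde.functor R).mapDerivedCategory ⊣ RG) := by
  have hder : (KInj.fibLocalizerMorphism ((Spec (CommRingCat.of R)).Modules)).Derives
      ((moduleSpecΓFunctor (R := R)).mapHomologicalComplex (ComplexShape.up ℤ) ⋙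
        (DerivedCategory.Q : _ ⥤ DerivedCategory (ModuleCat.{u} R))) :=
    KInj.fibLocalizerMorphism_derives _ (KInj.isInvertedBy_mapHomologicalComplex_comp_Q _)
  haveI := hder.hasPointwiseRightDerivedFunctor
  exact ⟨_, ⟨KInj.derivedAdjunction.{u} (tilde.functor R) (moduleSpecΓFunctor (R := R))
    (tilde.adjunction (R := R)) _
    (((moduleSpecΓFunctor (R := R)).mapHomologicalComplex (ComplexShape.up ℤ) ⋙
      (DerivedCategory.Q : _ ⥤ DerivedCategory (ModuleCat.{u} R))).totalRightDerivedUnit
        DerivedCategory.Q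
        (HomologicalComplex.quasiIso ((Spec (CommRingCat.of R)).Modules)
          (ComplexShape.up ℤ)))⟩⟩

theorem main [PreservesFiniteLimits (tilde.functor R)] :
    (DCoh.tildeD R).Full ∧ (DCoh.tildeD R).Faithful ∧
    ∀ K : DCoh.D (Spec (CommRingCat.of R)), DCoh.IsQCohD K ↔
      ∃ M, Nonempty ((DCoh.tildeD R).obj M ≅ K) := by
  obtain ⟨RG, ⟨adj⟩⟩ := exists_RG R
  haveI := hasLimitsOfShape_nat_derived (A := ModuleCat.{u} R)
  haveI := hasLimitsOfShape_nat_derived (A := (Spec (CommRingCat.of R)).Modules)
  refine main_abs.{u + 1, u, u + 1} (tilde.functor R) RG adj (qc (Spec (CommRingCat.of R)))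
    (ModuleCat.of R R) (isSeparator_self R) ?_ ?_ ?_ ?_
  · intro M
    change SheafOfModules.IsQuasicoherent ((tilde.functor R).obj M)
    infer_instance
  · intro N hN
    have h : (tilde.functor R).essImage N := by
      rw [essImage_tilde]
      exact hN
    exact h
  · intro N hN k hk
    exact subsingleton_hom_OY_of_affine N hN k hk
  · intro K hK
    exact isRlimVia_truncTower_of_isQCohD K hK

end Groth.Agent.Lib.H6xTilde
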