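import Mathlib
import Groth.Agent.Lib.H6xMVG
import Groth.Agent.Lib.H6xAffPushD
import Groth.Agent.Lib.H6xTildeE
import Groth.Agent.Lib.H6xSuppPushB
import Groth.Agent.Lib.Helper23QCohLocal
import Groth.Agent.Lib.Helper17AdjWay2
set_option backward.isDefEq.respectTransparency.types false

/-!
# `Rf_*` preserves `D_QCoh` : Mayer–Vietoris step and the affine base case (helper6)
-/

set_option autoImplicit false
set_option linter.style.haveILetI false
universe u
open CategoryTheory CategoryTheory.Limits AlgebraicGeometry TopologicalSpace Opposite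

attribute [local instance] HasDerivedCategory.standard

namespace Groth.Agent.Lib.H6xRpushQc

open Groth.Agent.Lib.H6xMV Groth.Agent.Lib.H6xSuppPush Groth.Agent.Lib.H6xRpushRes
  Groth.Agent.Lib.H6xQcTrunc Groth.Agent.Lib.H6xTilde Pretriangulated

section general

variable {X : Scheme.{u}}

lemma isQCohD_of_iso {K L : DCoh.D X} (e : K ≅ L) (h : DCoh.IsQCohD K) : DCoh.IsQCohD L :=
  fun i => isQCoh_of_iso ((DerivedCategory.homologyFunctor _ i).mapIso e) (h i)

lemma isQCohD_obj₁ (T : Triangle (DCoh.D X)) (hT : T ∈ distTriang _)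
    (h₂ : DCoh.IsQCohD T.obj₂) (h₃ : DCoh.IsQCohD T.obj₃) : DCoh.IsQCohD T.obj₁ := by
  intro i
  exact Groth.Agent.Lib.Helper17.AdjWay.prop_of_exact₅ (qc X)
    ((DerivedCategory.homologyFunctor _ (i - 1)).map T.mor₂)
    (DerivedCategory.HomologySequence.δ T (i - 1) i (by omega))
    ((DerivedCategory.homologyFunctor _ i).map T.mor₁)
    ((DerivedCategory.homologyFunctor _ i).map T.mor₂) _ _ _
    (DerivedCategory.HomologySequence.exact₃ T hT (i - 1) i (by omega))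
    (DerivedCategory.HomologySequence.exact₁ T hT (i - 1) i (by omega))
    (DerivedCategory.HomologySequence.exact₂ T hT i) (h₂ _) (h₃ _) (h₂ _) (h₃ _)

lemma isQCohD_obj₂ (T : Triangle (DCoh.D X)) (hT : T ∈ distTriang _)
    (h₁ : DCoh.IsQCohD T.obj₁) (h₃ : DCoh.IsQCohD T.obj₃) : DCoh.IsQCohD T.obj₂ :=
  Groth.Agent.Lib.Helper17.AdjWay.cohIn_obj₂ (qc X) T hT h₁ h₃

lemma isQCohD_biprod (A B : DCoh.D X) (hA : DCoh.IsQCohD A) (hB : DCoh.IsQCohD B) :
    DCoh.IsQCohD (A ⊞ B) :=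
  isQCohD_obj₂ _ (binaryBiproductTriangle_distinguished A B) hA hB

lemma isQCohD_restrictD {U : Scheme.{u}} (j : U ⟶ X) [IsOpenImmersion j]
    (G : DCoh.D X) (hG : DCoh.IsQCohD G) : DCoh.IsQCohD ((DCoh.restrictD j).obj G) := by
  intro i
  obtain ⟨e2⟩ := nonempty_homology_mapDerivedCategory_iso
    (Scheme.Modules.restrictFunctor j) G i
  haveI : (DCoh.HD G i).IsQuasicoherent := hG i
  exact (SheafOfModules.isQuasicoherent.{u} U.ringCatSheaf).prop_of_iso e2.symm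
    (inferInstanceAs (((Scheme.Modules.restrictFunctor j).obj (DCoh.HD G i)).IsQuasicoherent))

end general

/-- `Rf_*` preserves `D_QCoh` -/
def Good {X S : Scheme.{u}} (f : X ⟶ S) : Prop :=
  ∀ K : DCoh.D X, DCoh.IsQCohD K → DCoh.IsQCohD ((DCoh.Rpush f).obj K)

section MV

variable {U₁ U₂ W X S : Scheme.{u}} (f : X ⟶ S) (j₁ : U₁ ⟶ X) (j₂ : U₂ ⟶ X) (k : W ⟶ X)
  (i₁ : W ⟶ U₁) (i₂ : W ⟶ U₂)
  [IsOpenImmersion j₁] [IsOpenImmersion j₂] [IsOpenImmersion k] [IsOpenImmersion i₁]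
  [IsOpenImmersion i₂] (h₁ : i₁ ≫ j₁ = k) (h₂ : i₂ ≫ j₂ = k)

include h₁ h₂ in
theorem good_of_mv (hcov : Set.range j₁.base ∪ Set.range j₂.base = Set.univ)
    (hint : Set.range k.base = Set.range j₁.base ∩ Set.range j₂.base)
    (g₁ : Good (j₁ ≫ f)) (g₂ : Good (j₂ ≫ f)) (gk : Good (k ≫ f)) : Good f := by
  intro K hK
  obtain ⟨a, b, c, hT⟩ := exists_triangle_RD j₁ j₂ k i₁ i₂ h₁ h₂
    (Scheme.Modules.pushforward f) (Scheme.Modules.pushforward (j₁ ≫ f))
    (Scheme.Modules.pushforward (j₂ ≫ f)) (Scheme.Modules.pushforward (k ≫ f))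
    (Scheme.Modules.pushforwardComp j₁ f) (Scheme.Modules.pushforwardComp j₂ f)
    (Scheme.Modules.pushforwardComp k f) hcov hint K
  refine isQCohD_obj₁ _ hT ?_ ?_
  · exact isQCohD_biprod _ _ (g₁ _ (isQCohD_restrictD j₁ K hK)) (g₂ _ (isQCohD_restrictD j₂ K hK))
  · exact gk _ (isQCohD_restrictD k K hK)

end MV

end Groth.Agent.Lib.H6xRpushQc
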