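import Mathlib
import Groth.Agent.Lib.H6xRpushQcA
import Groth.Agent.S9498
set_option backward.isDefEq.respectTransparency.types false

/-!
# `Rf_*` preserves `D_QCoh` for quasi-compact quasi-separated `f` (helper6)

Base case (`Spec R ⟶ S` affine), two-stage Mayer–Vietoris induction over affine covers, locality on
the base.  `main : Good f`.
-/

set_option autoImplicit false
set_option linter.style.haveILetI false
universe u
open CategoryTheory CategoryTheory.Limits AlgebraicGeometry TopologicalSpace Opposite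

attribute [local instance] HasDerivedCategory.standard

namespace Groth.Agent.Lib.H6xRpushQc

open Groth.Agent.Lib.H6xMV Groth.Agent.Lib.H6xSuppPush Groth.Agent.Lib.H6xRpushRes
  Groth.Agent.Lib.H6xQcTrunc Groth.Agent.Lib.H6xTilde Pretriangulated

section base

variable (R : CommRingCat.{u}) {S : Scheme.{u}}

/-- an object of `D_QCoh(Spec R)` is represented by a complex of quasi-coherent modules -/
lemma exists_qcoh_cx (K : DCoh.D (Spec (CommRingCat.of R))) (hK : DCoh.IsQCohD K) :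
    ∃ F : CochainComplex (Spec (CommRingCat.of R)).Modules ℤ,
      (∀ n, Coh.IsQCoh (F.X n)) ∧ Nonempty (DerivedCategory.Q.obj F ≅ K) := by
  haveI := (Groth.Agent.S9498.aux R).1
  obtain ⟨M, ⟨e⟩⟩ := ((main R).2.2 K).1 hK
  let M' : CochainComplex (ModuleCat.{u} R) ℤ := (DerivedCategory.Q : _ ⥤ _).objPreimage M
  have eM : DerivedCategory.Q.obj M' ≅ M := DerivedCategory.Q.objObjPreimageIso M
  refine ⟨((tilde.functor R).mapHomologicalComplex (ComplexShape.up ℤ)).obj M', fun n => ?_, ⟨?_⟩⟩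
  · change SheafOfModules.IsQuasicoherent ((tilde.functor R).obj (M'.X n))
    infer_instance
  · exact ((tilde.functor R).mapDerivedCategoryFactors.app M').symm ≪≫
      (tilde.functor R).mapDerivedCategory.mapIso eM ≪≫ e

theorem good_spec (g : Spec (CommRingCat.of R) ⟶ S) [IsAffineHom g] : Good g := by
  intro K hK
  obtain ⟨F, hF, ⟨e⟩⟩ := exists_qcoh_cx R K hK
  haveI := Groth.Agent.Lib.H6xAffPush.isIso_βf_app_of_affine g F hF
  have e1 : DerivedCategory.Q.obj
      (((Scheme.Modules.pushforward g).mapHomologicalComplex (ComplexShape.up ℤ)).obj F) ≅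
      (DCoh.Rpush g).obj K := asIso ((βf g).app F) ≪≫ (DCoh.Rpush g).mapIso e
  refine isQCohD_of_iso e1 ?_
  refine Groth.Agent.Lib.H6xAffPush.isQCohD_Q _ (fun n => ?_)
  haveI : (F.X n).IsQuasicoherent := hF n
  exact Groth.Agent.Lib.Helper23.QCohLocal.isQuasicoherent_pushforward g (F.X n)

end base

section geom

/-- intersections of affine opens are affine -/
def AffInt (X : Scheme.{u}) : Prop :=
  ∀ U V : X.Opens, IsAffineOpen U → IsAffineOpen V → IsAffineOpen (U ⊓ V)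

/-- `X` is covered by at most `n` affine opens -/
def FinAffCov (X : Scheme.{u}) (n : ℕ) : Prop :=
  ∃ s : Finset X.Opens, s.card ≤ n ∧ (∀ U ∈ s, IsAffineOpen U) ∧ ∀ x : X, ∃ U ∈ s, x ∈ U

lemma affInt_of_isOpenImmersion {Y X : Scheme.{u}} (j : Y ⟶ X) [IsOpenImmersion j]
    (h : AffInt X) : AffInt Y := by
  intro A B hA hB
  have hab := h _ _ (hA.image_of_isOpenImmersion j) (hB.image_of_isOpenImmersion j)
  have h2 := hab.preimage_of_isOpenImmersion j
    (inf_le_left.trans (Scheme.Hom.image_le_opensRange j A))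
  have e : j ⁻¹ᵁ (j ''ᵁ A ⊓ j ''ᵁ B) = A ⊓ B := by
    rw [Scheme.Hom.preimage_inf, Scheme.Hom.preimage_image_eq, Scheme.Hom.preimage_image_eq]
  rwa [e] at h2

lemma affInt_of_isAffine (X : Scheme.{u}) [IsAffine X] : AffInt X :=
  fun _ _ hU hV => hU.inf hV

lemma affInt_of_le {X : Scheme.{u}} {U₀ : X.Opens} (hU₀ : IsAffineOpen U₀) (W : X.Opens)
    (hW : W ≤ U₀) : AffInt W := by
  haveI : IsAffine U₀ := hU₀
  exact affInt_of_isOpenImmersion (X.homOfLE hW) (affInt_of_isAffine _)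

lemma finAffCov_of_compactSpace (X : Scheme.{u}) [CompactSpace X] : ∃ n, FinAffCov X n := by
  obtain ⟨s, hs, hU⟩ := (isCompact_iff_finite_and_eq_biUnion_affineOpens
    (U := (⊤ : X.Opens))).1 isCompact_univ
  classical
  refine ⟨_, hs.toFinset.image (fun V : X.affineOpens => (V : X.Opens)), le_rfl, ?_, ?_⟩
  · intro U hU'
    obtain ⟨V, -, rfl⟩ := Finset.mem_image.1 hU'
    exact V.2
  · intro x
    have hx : x ∈ (⊤ : X.Opens) := trivial
    rw [hU] at hx
    simp only [Opens.mem_iSup] at hx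
    obtain ⟨V, hV, hxV⟩ := hx
    exact ⟨V, Finset.mem_image.2 ⟨V, hs.mem_toFinset.2 hV, rfl⟩, hxV⟩

end geom

section stages

variable {X S : Scheme.{u}} [IsAffine S] (f : X ⟶ S)

theorem good_of_affine (hX : IsAffineOpen (⊤ : X.Opens)) : Good f := by
  have g : Good (hX.fromSpec ≫ f) := good_spec Γ(X, ⊤) (hX.fromSpec ≫ f)
  refine good_of_mv f hX.fromSpec hX.fromSpec hX.fromSpec (𝟙 _) (𝟙 _) (Category.id_comp _)
    (Category.id_comp _) ?_ ?_ g g g
  · rw [Set.union_self]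
    exact hX.range_fromSpec
  · rw [Set.inter_self]

theorem good_of_isEmpty (h : IsEmpty X) : Good f := by
  refine good_of_affine f ?_
  have : (⊤ : X.Opens) = ⊥ := by
    ext x
    exact h.elim x
  rw [this]
  exact isAffineOpen_bot X

theorem good_step (U₁ U₂ : X.Opens) (hU₁ : IsAffineOpen U₁) (hcov : ∀ x : X, x ∈ U₁ ∨ x ∈ U₂)
    (g₂ : Good (U₂.ι ≫ f)) (gW : Good ((U₁ ⊓ U₂).ι ≫ f)) : Good f := by
  have g₁ : Good (hU₁.fromSpec ≫ f) := good_spec Γ(X, U₁) (hU₁.fromSpec ≫ f)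
  refine good_of_mv f hU₁.fromSpec U₂.ι (U₁ ⊓ U₂).ι
    (X.homOfLE inf_le_left ≫ hU₁.isoSpec.hom) (X.homOfLE inf_le_right) ?_ ?_ ?_ ?_ g₁ g₂ gW
  · rw [Category.assoc, hU₁.isoSpec_hom_fromSpec, Scheme.homOfLE_ι]
  · rw [Scheme.homOfLE_ι]
  · rw [hU₁.range_fromSpec, Scheme.Opens.range_ι]
    ext x
    simpa using hcov x
  · rw [hU₁.range_fromSpec, Scheme.Opens.range_ι, Scheme.Opens.range_ι]
    rfl

end stages

/-- common part of the two inductions -/
lemma exists_split {X : Scheme.{u}} (n : ℕ) (s : Finset X.Opens) (hs : s.card ≤ n + 1)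
    (haff : ∀ U ∈ s, IsAffineOpen U) (hcov : ∀ x : X, ∃ U ∈ s, x ∈ U) (hne : s.Nonempty) :
    ∃ (U₁ U₂ : X.Opens) (s' : Finset X.Opens), IsAffineOpen U₁ ∧ s'.card ≤ n ∧
      (∀ V ∈ s', IsAffineOpen V) ∧ (∀ V ∈ s', V ≤ U₂) ∧ (∀ x : X, x ∈ U₂ → ∃ V ∈ s', x ∈ V) ∧
      ∀ x : X, x ∈ U₁ ∨ x ∈ U₂ := by
  classical
  obtain ⟨U₁, hU₁⟩ := hne
  have hs' : (s.erase U₁).card ≤ n := by
    rw [Finset.card_erase_of_mem hU₁]; omega
  have hmem : ∀ x : X, x ∈ (⨆ V ∈ s.erase U₁, V : X.Opens) ↔ ∃ V ∈ s.erase U₁, x ∈ V := by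
    intro x; simp
  refine ⟨U₁, ⨆ V ∈ s.erase U₁, V, s.erase U₁, haff U₁ hU₁, hs',
    fun V hV => haff V (Finset.mem_of_mem_erase hV), fun V hV => le_biSup (fun V => V) hV,
    fun x hx => (hmem x).1 hx, fun x => ?_⟩
  obtain ⟨U, hU, hx⟩ := hcov x
  by_cases h : U = U₁
  · left; rwa [← h]
  · right; exact (hmem x).2 ⟨U, Finset.mem_erase.2 ⟨h, hU⟩, hx⟩

/-- affine cover of an open subscheme from affine opens contained in it -/
lemma finAffCov_opens {X : Scheme.{u}} (U : X.Opens) (n : ℕ) (s' : Finset X.Opens)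
    (hs' : s'.card ≤ n) (haff : ∀ V ∈ s', IsAffineOpen V) (hle : ∀ V ∈ s', V ≤ U)
    (hcov : ∀ x : X, x ∈ U → ∃ V ∈ s', x ∈ V) : FinAffCov U n := by
  classical
  refine ⟨s'.image (fun V => U.ι ⁻¹ᵁ V), Finset.card_image_le.trans hs', ?_, ?_⟩
  · intro A hA
    obtain ⟨V, hV, rfl⟩ := Finset.mem_image.1 hA
    refine (haff V hV).preimage_of_isOpenImmersion U.ι ?_
    rw [Scheme.Opens.opensRange_ι]
    exact hle V hV
  · intro x
    obtain ⟨V, hV, hx⟩ := hcov x.1 x.2
    exact ⟨_, Finset.mem_image.2 ⟨V, hV, rfl⟩, hx⟩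

theorem stage1 (S : Scheme.{u}) [IsAffine S] : ∀ (n : ℕ) (X : Scheme.{u}) (f : X ⟶ S),
    AffInt X → FinAffCov X n → Good f := by
  intro n
  induction n with
  | zero =>
    rintro X f - ⟨s, hs, -, hcov⟩
    refine good_of_isEmpty f ⟨fun x => ?_⟩
    obtain ⟨U, hU, -⟩ := hcov x
    have : s = ∅ := Finset.card_eq_zero.1 (Nat.le_zero.1 hs)
    simp [this] at hU
  | succ n ih =>
    rintro X f hX ⟨s, hs, haff, hcov⟩
    by_cases hemp : s = ∅
    · refine good_of_isEmpty f ⟨fun x => ?_⟩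
      obtain ⟨U, hU, -⟩ := hcov x
      simp [hemp] at hU
    obtain ⟨U₁, U₂, s', hU₁, hs', haff', hle, hcov', hcov''⟩ :=
      exists_split n s hs haff hcov (Finset.nonempty_iff_ne_empty.2 hemp)
    refine good_step f U₁ U₂ hU₁ hcov'' ?_ ?_
    · exact ih U₂ (U₂.ι ≫ f) (affInt_of_isOpenImmersion U₂.ι hX)
        (finAffCov_opens U₂ n s' hs' haff' hle hcov')
    · classical
      refine ih (U₁ ⊓ U₂ : X.Opens) ((U₁ ⊓ U₂).ι ≫ f) (affInt_of_isOpenImmersion (U₁ ⊓ U₂).ι hX)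
        (finAffCov_opens (U₁ ⊓ U₂) n (s'.image (fun V => U₁ ⊓ V)) (Finset.card_image_le.trans hs')
          ?_ ?_ ?_)
      · intro A hA
        obtain ⟨V, hV, rfl⟩ := Finset.mem_image.1 hA
        exact hX _ _ hU₁ (haff' V hV)
      · intro A hA
        obtain ⟨V, hV, rfl⟩ := Finset.mem_image.1 hA
        exact inf_le_inf_left _ (hle V hV)
      · intro x hx
        obtain ⟨V, hV, hxV⟩ := hcov' x hx.2
        exact ⟨_, Finset.mem_image.2 ⟨V, hV, rfl⟩, ⟨hx.1, hxV⟩⟩

theorem stage2 (S : Scheme.{u}) [IsAffine S] : ∀ (n : ℕ) (X : Scheme.{u}) (f : X ⟶ S),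
    QuasiSeparatedSpace X → FinAffCov X n → Good f := by
  intro n
  induction n with
  | zero =>
    rintro X f - ⟨s, hs, -, hcov⟩
    refine good_of_isEmpty f ⟨fun x => ?_⟩
    obtain ⟨U, hU, -⟩ := hcov x
    have : s = ∅ := Finset.card_eq_zero.1 (Nat.le_zero.1 hs)
    simp [this] at hU
  | succ n ih =>
    rintro X f hX ⟨s, hs, haff, hcov⟩
    by_cases hemp : s = ∅
    · refine good_of_isEmpty f ⟨fun x => ?_⟩
      obtain ⟨U, hU, -⟩ := hcov x
      simp [hemp] at hU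
    obtain ⟨U₁, U₂, s', hU₁, hs', haff', hle, hcov', hcov''⟩ :=
      exists_split n s hs haff hcov (Finset.nonempty_iff_ne_empty.2 hemp)
    refine good_step f U₁ U₂ hU₁ hcov'' ?_ ?_
    · haveI : QuasiSeparatedSpace U₂ := U₂.ι.isOpenEmbedding.quasiSeparatedSpace
      exact ih U₂ (U₂.ι ≫ f) inferInstance (finAffCov_opens U₂ n s' hs' haff' hle hcov')
    · have hc : IsCompact ((U₁ ⊓ U₂ : X.Opens) : Set X) := by
        have h2 : IsCompact (U₂ : Set X) := by
          have : (U₂ : Set X) = ⋃ V ∈ s', (V : Set X) := by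
            ext x
            simp only [SetLike.mem_coe, Set.mem_iUnion, exists_prop]
            exact ⟨fun hx => hcov' x hx, fun ⟨V, hV, hx⟩ => hle V hV hx⟩
          rw [this]
          exact s'.finite_toSet.isCompact_biUnion (fun V hV => (haff' V hV).isCompact)
        exact QuasiSeparatedSpace.inter_isCompact _ _ U₁.isOpen hU₁.isCompact U₂.isOpen h2
      haveI : CompactSpace (U₁ ⊓ U₂ : X.Opens) := isCompact_iff_compactSpace.1 hc
      obtain ⟨m, hm⟩ := finAffCov_of_compactSpace (U₁ ⊓ U₂ : X.Opens)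
      exact stage1 S m _ _ (affInt_of_le hU₁ _ inf_le_left) hm

section main

lemma isQCohD_of_affine_cover {S : Scheme.{u}} (E : DCoh.D S)
    (h : ∀ V : S.Opens, IsAffineOpen V → DCoh.IsQCohD ((DCoh.restrictD V.ι).obj E)) :
    DCoh.IsQCohD E := by
  intro i
  refine Groth.Agent.Lib.Helper23.QCohLocal.isQuasicoherent_of_affine_cover (DCoh.HD E i)
    (fun V : S.affineOpens => (V : S.Opens)) ?_ (fun V => V.2) (fun V => ?_)
  · exact iSup_affineOpens_eq_top S
  · obtain ⟨e2⟩ := nonempty_homology_mapDerivedCategory_iso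
      (Scheme.Modules.restrictFunctor (V : S.Opens).ι) E i
    haveI : ((Scheme.Modules.restrictFunctor (V : S.Opens).ι).obj (DCoh.HD E i)).IsQuasicoherent :=
      (SheafOfModules.isQuasicoherent.{u} _).prop_of_iso e2 (h V V.2 i)
    let e : ((DCoh.HD E i).restrict (V : S.Opens).ι).restrict V.2.isoSpec.inv ≅
        (DCoh.HD E i).restrict V.2.fromSpec :=
      ((Scheme.Modules.restrictFunctorComp V.2.isoSpec.inv (V : S.Opens).ι).app _).symm ≪≫
        (Scheme.Modules.restrictFunctorCongr V.2.isoSpec_inv_ι).app _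
    exact (SheafOfModules.isQuasicoherent.{u} _).prop_of_iso e
      (inferInstanceAs ((Scheme.Modules.restrictFunctor V.2.isoSpec.inv).obj
        ((Scheme.Modules.restrictFunctor (V : S.Opens).ι).obj (DCoh.HD E i))).IsQuasicoherent)

theorem main {X S : Scheme.{u}} (f : X ⟶ S) [QuasiCompact f] [QuasiSeparated f] : Good f := by
  intro K hK
  refine isQCohD_of_affine_cover _ (fun V hV => ?_)
  obtain ⟨e⟩ := Groth.Agent.Lib.H6xRpushRes.nonempty_iso f V
  refine isQCohD_of_iso (e.app K).symm ?_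
  haveI : IsAffine V := hV
  haveI : CompactSpace (f ⁻¹ᵁ V) :=
    isCompact_iff_compactSpace.1 (QuasiCompact.isCompact_preimage (f := f) _ V.isOpen hV.isCompact)
  haveI : QuasiSeparatedSpace (f ⁻¹ᵁ V) :=
    (isQuasiSeparated_iff_quasiSeparatedSpace _ (f ⁻¹ᵁ V).isOpen).1
      (f.isQuasiSeparated_preimage hV.isQuasiSeparated)
  obtain ⟨m, hm⟩ := finAffCov_of_compactSpace (f ⁻¹ᵁ V)
  exact stage2 V m _ (f ∣_ V) inferInstance hm _ (isQCohD_restrictD _ K hK)

end main

end Groth.Agent.Lib.H6xRpushQc
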