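import Mathlib
import Groth.Agent.Lib.H6xRpushQcB
set_option backward.isDefEq.respectTransparency.types false

/-!
# Uniform vanishing bound for `Rf_*` on `D_QCoh^{≤ 0}` (`f` qcqs, base quasi-compact) (helper6)
-/

set_option autoImplicit false
set_option linter.style.haveILetI false
universe u
open CategoryTheory CategoryTheory.Limits AlgebraicGeometry TopologicalSpace Opposite

attribute [local instance] HasDerivedCategory.standard

namespace Groth.Agent.Lib.H6xRpushQc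

open Groth.Agent.Lib.H6xMV Groth.Agent.Lib.H6xSuppPush Groth.Agent.Lib.H6xRpushRes
  Groth.Agent.Lib.H6xQcTrunc Groth.Agent.Lib.H6xTilde Pretriangulated
  Groth.Agent.Lib.Helper1.Sky Groth.Agent.Lib.Helper1.KBC

/-- `H^m (Rf_* E) = 0` for `m ≥ N` and `E ∈ D_QCoh^{≤ 0}` -/
def Bd {X S : Scheme.{u}} (f : X ⟶ S) (N : ℤ) : Prop :=
  ∀ E : DCoh.D X, DCoh.IsQCohD E → E.IsLE 0 → ∀ m : ℤ, N ≤ m →
    IsZero (DCoh.HD ((DCoh.Rpush f).obj E) m)

lemma Bd.mono {X S : Scheme.{u}} {f : X ⟶ S} {N N' : ℤ} (h : Bd f N) (hN : N ≤ N') : Bd f N' :=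
  fun E hE hE' m hm => h E hE hE' m (hN.trans hm)

lemma isLE_restrictD {U X : Scheme.{u}} (j : U ⟶ X) [IsOpenImmersion j] (E : DCoh.D X)
    (hE : E.IsLE 0) : ((DCoh.restrictD j).obj E).IsLE 0 := by
  rw [DerivedCategory.isLE_iff]
  intro i hi
  obtain ⟨e2⟩ := nonempty_homology_mapDerivedCategory_iso
    (Scheme.Modules.restrictFunctor j) E i
  exact IsZero.of_iso (Functor.map_isZero _ (DerivedCategory.isZero_of_isLE E 0 i hi)) e2

section MV

variable {U₁ U₂ W X S : Scheme.{u}} (f : X ⟶ S) (j₁ : U₁ ⟶ X) (j₂ : U₂ ⟶ X) (k : W ⟶ X)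
  (i₁ : W ⟶ U₁) (i₂ : W ⟶ U₂)
  [IsOpenImmersion j₁] [IsOpenImmersion j₂] [IsOpenImmersion k] [IsOpenImmersion i₁]
  [IsOpenImmersion i₂] (h₁ : i₁ ≫ j₁ = k) (h₂ : i₂ ≫ j₂ = k)

include h₁ h₂ in
theorem bd_of_mv (hcov : Set.range j₁.base ∪ Set.range j₂.base = Set.univ)
    (hint : Set.range k.base = Set.range j₁.base ∩ Set.range j₂.base) {N₁ N₂ Nk : ℤ}
    (b₁ : Bd (j₁ ≫ f) N₁) (b₂ : Bd (j₂ ≫ f) N₂) (bk : Bd (k ≫ f) Nk) :
    Bd f (max (max N₁ N₂) (Nk + 1)) := by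
  intro K hK hK' m hm
  obtain ⟨a, b, c, hT⟩ := exists_triangle_RD j₁ j₂ k i₁ i₂ h₁ h₂
    (Scheme.Modules.pushforward f) (Scheme.Modules.pushforward (j₁ ≫ f))
    (Scheme.Modules.pushforward (j₂ ≫ f)) (Scheme.Modules.pushforward (k ≫ f))
    (Scheme.Modules.pushforwardComp j₁ f) (Scheme.Modules.pushforwardComp j₂ f)
    (Scheme.Modules.pushforwardComp k f) hcov hint K
  have z₁ := b₁ _ (isQCohD_restrictD j₁ K hK) (isLE_restrictD j₁ K hK') m (by omega)
  have z₂ := b₂ _ (isQCohD_restrictD j₂ K hK) (isLE_restrictD j₂ K hK') m (by omega)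
  have zk := bk _ (isQCohD_restrictD k K hK) (isLE_restrictD k K hK') (m - 1) (by omega)
  have z₁₂ : IsZero ((DerivedCategory.homologyFunctor S.Modules m).obj
      ((DCoh.Rpush (j₁ ≫ f)).obj ((DCoh.restrictD j₁).obj K) ⊞
        (DCoh.Rpush (j₂ ≫ f)).obj ((DCoh.restrictD j₂).obj K))) :=
    (DerivedCategory.HomologySequence.exact₂ _ (binaryBiproductTriangle_distinguished _ _)
      m).isZero_of_both_zeros (z₁.eq_of_src _ _) (z₂.eq_of_tgt _ _)
  exact (DerivedCategory.HomologySequence.exact₁ _ hT (m - 1) m (by omega)).isZero_of_both_zeros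
    (zk.eq_of_src _ _) (z₁₂.eq_of_tgt _ _)

end MV

section base

variable (R : CommRingCat.{u}) {S : Scheme.{u}}

lemma isZero_of_isZero_tilde (M : ModuleCat.{u} R) (h : IsZero ((tilde.functor R).obj M)) :
    IsZero M := by
  rw [IsZero.iff_id_eq_zero]
  apply (tilde.functor R).map_injective
  rw [CategoryTheory.Functor.map_id, Functor.map_zero]
  exact h.eq_of_src _ _

theorem bd_spec (g : Spec (CommRingCat.of R) ⟶ S) [IsAffineHom g] : Bd g 1 := by
  intro K hK hK' m hm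
  haveI := (Groth.Agent.S9498.aux R).1
  obtain ⟨M, ⟨e⟩⟩ := ((Groth.Agent.Lib.H6xTilde.main R).2.2 K).1 hK
  haveI : M.IsLE 0 := by
    rw [DerivedCategory.isLE_iff]
    intro i hi
    obtain ⟨e2⟩ := nonempty_homology_mapDerivedCategory_iso (tilde.functor R) M i
    refine isZero_of_isZero_tilde R _ (IsZero.of_iso ?_ e2.symm)
    exact IsZero.of_iso (DerivedCategory.isZero_of_isLE K 0 i hi)
      ((DerivedCategory.homologyFunctor _ i).mapIso e)
  obtain ⟨M', hM', ⟨eM⟩⟩ := M.exists_iso_Q_obj_of_isLE 0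
  let F := ((tilde.functor R).mapHomologicalComplex (ComplexShape.up ℤ)).obj M'
  have hF : ∀ n, Coh.IsQCoh (F.X n) := fun n => by
    change SheafOfModules.IsQuasicoherent ((tilde.functor R).obj (M'.X n))
    infer_instance
  have eF : DerivedCategory.Q.obj F ≅ K :=
    ((tilde.functor R).mapDerivedCategoryFactors.app M').symm ≪≫
      (tilde.functor R).mapDerivedCategory.mapIso eM.symm ≪≫ e
  haveI := Groth.Agent.Lib.H6xAffPush.isIso_βf_app_of_affine g F hF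
  have e1 : DerivedCategory.Q.obj
      (((Scheme.Modules.pushforward g).mapHomologicalComplex (ComplexShape.up ℤ)).obj F) ≅
      (DCoh.Rpush g).obj K := asIso ((βf g).app F) ≪≫ (DCoh.Rpush g).mapIso eF
  haveI : CochainComplex.IsStrictlyLE F 0 := by dsimp only [F]; infer_instance
  haveI : CochainComplex.IsStrictlyLE (((Scheme.Modules.pushforward g).mapHomologicalComplex
      (ComplexShape.up ℤ)).obj F) 0 := inferInstance
  exact IsZero.of_iso (DerivedCategory.isZero_of_isLE _ 0 m (by omega))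
    ((DerivedCategory.homologyFunctor _ m).mapIso e1.symm)

end base

section stages

variable {X S : Scheme.{u}} [IsAffine S] (f : X ⟶ S)

theorem bd_of_affine (hX : IsAffineOpen (⊤ : X.Opens)) : Bd f 2 := by
  have g : Bd (hX.fromSpec ≫ f) 1 := bd_spec Γ(X, ⊤) (hX.fromSpec ≫ f)
  refine (bd_of_mv f hX.fromSpec hX.fromSpec hX.fromSpec (𝟙 _) (𝟙 _) (Category.id_comp _)
    (Category.id_comp _) ?_ ?_ g g g).mono (by simp)
  · rw [Set.union_self]
    exact hX.range_fromSpec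
  · rw [Set.inter_self]

theorem bd_of_isEmpty (h : IsEmpty X) : Bd f 2 := by
  refine bd_of_affine f ?_
  have : (⊤ : X.Opens) = ⊥ := by
    ext x
    exact h.elim x
  rw [this]
  exact isAffineOpen_bot X

theorem bd_step (U₁ U₂ : X.Opens) (hU₁ : IsAffineOpen U₁) (hcov : ∀ x : X, x ∈ U₁ ∨ x ∈ U₂)
    {N₂ NW : ℤ} (g₂ : Bd (U₂.ι ≫ f) N₂) (gW : Bd ((U₁ ⊓ U₂).ι ≫ f) NW) :
    Bd f (max (max 1 N₂) (NW + 1)) := by
  have g₁ : Bd (hU₁.fromSpec ≫ f) 1 := bd_spec Γ(X, U₁) (hU₁.fromSpec ≫ f)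
  refine bd_of_mv f hU₁.fromSpec U₂.ι (U₁ ⊓ U₂).ι
    (X.homOfLE inf_le_left ≫ hU₁.isoSpec.hom) (X.homOfLE inf_le_right) ?_ ?_ ?_ ?_ g₁ g₂ gW
  · rw [Category.assoc, hU₁.isoSpec_hom_fromSpec, Scheme.homOfLE_ι]
  · rw [Scheme.homOfLE_ι]
  · rw [hU₁.range_fromSpec, Scheme.Opens.range_ι]
    ext x
    simpa using hcov x
  · rw [hU₁.range_fromSpec, Scheme.Opens.range_ι, Scheme.Opens.range_ι]
    rfl

end stages

theorem stage1_bd (S : Scheme.{u}) [IsAffine S] : ∀ (n : ℕ) (X : Scheme.{u}) (f : X ⟶ S),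
    AffInt X → FinAffCov X n → Bd f ((n : ℤ) + 2) := by
  intro n
  induction n with
  | zero =>
    rintro X f - ⟨s, hs, -, hcov⟩
    refine (bd_of_isEmpty f ⟨fun x => ?_⟩).mono (by simp)
    obtain ⟨U, hU, -⟩ := hcov x
    have : s = ∅ := Finset.card_eq_zero.1 (Nat.le_zero.1 hs)
    simp [this] at hU
  | succ n ih =>
    rintro X f hX ⟨s, hs, haff, hcov⟩
    by_cases hemp : s = ∅
    · refine (bd_of_isEmpty f ⟨fun x => ?_⟩).mono (by push_cast; omega)
      obtain ⟨U, hU, -⟩ := hcov x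
      simp [hemp] at hU
    obtain ⟨U₁, U₂, s', hU₁, hs', haff', hle, hcov', hcov''⟩ :=
      exists_split n s hs haff hcov (Finset.nonempty_iff_ne_empty.2 hemp)
    classical
    refine (bd_step f U₁ U₂ hU₁ hcov''
      (ih U₂ (U₂.ι ≫ f) (affInt_of_isOpenImmersion U₂.ι hX)
        (finAffCov_opens U₂ n s' hs' haff' hle hcov'))
      (ih (U₁ ⊓ U₂ : X.Opens) ((U₁ ⊓ U₂).ι ≫ f) (affInt_of_isOpenImmersion (U₁ ⊓ U₂).ι hX)
        (finAffCov_opens (U₁ ⊓ U₂) n (s'.image (fun V => U₁ ⊓ V))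
          (Finset.card_image_le.trans hs') ?_ ?_ ?_))).mono ?_
    · intro A hA
      obtain ⟨V, hV, rfl⟩ := Finset.mem_image.1 hA
      exact hX _ _ hU₁ (haff' V hV)
    · intro A hA
      obtain ⟨V, hV, rfl⟩ := Finset.mem_image.1 hA
      exact inf_le_inf_left _ (hle V hV)
    · intro x hx
      obtain ⟨V, hV, hxV⟩ := hcov' x hx.2
      exact ⟨_, Finset.mem_image.2 ⟨V, hV, rfl⟩, ⟨hx.1, hxV⟩⟩
    · push_cast
      omega

theorem stage2_bd (S : Scheme.{u}) [IsAffine S] : ∀ (n : ℕ) (X : Scheme.{u}) (f : X ⟶ S),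
    QuasiSeparatedSpace X → FinAffCov X n → ∃ N : ℤ, Bd f N := by
  intro n
  induction n with
  | zero =>
    rintro X f - ⟨s, hs, -, hcov⟩
    refine ⟨2, bd_of_isEmpty f ⟨fun x => ?_⟩⟩
    obtain ⟨U, hU, -⟩ := hcov x
    have : s = ∅ := Finset.card_eq_zero.1 (Nat.le_zero.1 hs)
    simp [this] at hU
  | succ n ih =>
    rintro X f hX ⟨s, hs, haff, hcov⟩
    by_cases hemp : s = ∅
    · refine ⟨2, bd_of_isEmpty f ⟨fun x => ?_⟩⟩
      obtain ⟨U, hU, -⟩ := hcov x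
      simp [hemp] at hU
    obtain ⟨U₁, U₂, s', hU₁, hs', haff', hle, hcov', hcov''⟩ :=
      exists_split n s hs haff hcov (Finset.nonempty_iff_ne_empty.2 hemp)
    haveI : QuasiSeparatedSpace U₂ := U₂.ι.isOpenEmbedding.quasiSeparatedSpace
    obtain ⟨N₂, h₂⟩ := ih U₂ (U₂.ι ≫ f) inferInstance
      (finAffCov_opens U₂ n s' hs' haff' hle hcov')
    have hc : IsCompact ((U₁ ⊓ U₂ : X.Opens) : Set X) := by
      have h2 : IsCompact (U₂ : Set X) := by
        have : (U₂ : Set X) = ⋃ V ∈ s', (V : Set X) := by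
          ext x
          simp only [SetLike.mem_coe, Set.mem_iUnion, exists_prop]
          exact ⟨fun hx => hcov' x hx, fun ⟨V, hV, hx⟩ => hle V hV hx⟩
        rw [this]
        exact s'.finite_toSet.isCompact_biUnion (fun V hV => (haff' V hV).isCompact)
      exact QuasiSeparatedSpace.inter_isCompact _ _ U₁.isOpen hU₁.isCompact U₂.isOpen h2
    haveI : CompactSpace (U₁ ⊓ U₂ : X.Opens) := isCompact_iff_compactSpace.1 hc
    obtain ⟨m, hm⟩ := finAffCov_of_compactSpace (U₁ ⊓ U₂ : X.Opens)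
    exact ⟨_, bd_step f U₁ U₂ hU₁ hcov'' h₂
      (stage1_bd S m _ _ (affInt_of_le hU₁ _ inf_le_left) hm)⟩

lemma isZero_of_cover {S : Scheme.{u}} (M : S.Modules) (s : Finset S.Opens)
    (hcov : ∀ x : S, ∃ V ∈ s, x ∈ V)
    (h : ∀ V ∈ s, IsZero ((Scheme.Modules.restrictFunctor V.ι).obj M)) : IsZero M := by
  apply isZero_of_forall_isZero_stalk
  intro x
  obtain ⟨V, hV, hx⟩ := hcov x
  have h1 := not_mem_support_of_isZero_restrict V.ι M (h V hV) ⟨x, hx⟩
  have hs : Subsingleton (M.presheaf.stalk x) := not_not.1 h1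
  haveI : Subsingleton ((stalkFun x).obj M) := hs
  exact ModuleCat.isZero_of_subsingleton _

theorem main_bd {X S : Scheme.{u}} (f : X ⟶ S) [QuasiCompact f] [QuasiSeparated f]
    [CompactSpace S] : ∃ N : ℤ, Bd f N := by
  obtain ⟨n, s, -, haff, hcov⟩ := finAffCov_of_compactSpace S
  have key : ∀ V : S.Opens, IsAffineOpen V → ∃ N : ℤ, Bd (f ∣_ V) N := by
    intro V hV
    haveI : IsAffine V := hV
    haveI : CompactSpace (f ⁻¹ᵁ V) :=
      isCompact_iff_compactSpace.1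
        (QuasiCompact.isCompact_preimage (f := f) _ V.isOpen hV.isCompact)
    haveI : QuasiSeparatedSpace (f ⁻¹ᵁ V) :=
      (isQuasiSeparated_iff_quasiSeparatedSpace _ (f ⁻¹ᵁ V).isOpen).1
        (f.isQuasiSeparated_preimage hV.isQuasiSeparated)
    obtain ⟨m, hm⟩ := finAffCov_of_compactSpace (f ⁻¹ᵁ V)
    exact stage2_bd V m _ (f ∣_ V) inferInstance hm
  choose! N hN using key
  classical
  obtain ⟨M, hM⟩ := (s.image N).exists_le
  refine ⟨M, fun E hE hE' m hm => ?_⟩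
  refine isZero_of_cover _ s hcov (fun V hV => ?_)
  obtain ⟨e⟩ := nonempty_iso f V
  obtain ⟨e2⟩ := nonempty_homology_mapDerivedCategory_iso
    (Scheme.Modules.restrictFunctor V.ι) ((DCoh.Rpush f).obj E) m
  refine IsZero.of_iso ?_ (e2.symm ≪≫ (DerivedCategory.homologyFunctor _ m).mapIso (e.app E))
  exact hN V (haff V hV) _ (isQCohD_restrictD _ E hE) (isLE_restrictD _ E hE') m
    ((hM _ (Finset.mem_image_of_mem N hV)).trans hm)

end Groth.Agent.Lib.H6xRpushQc
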