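import Groth.Agent.Lib.R2H2TorsFam
import Groth.Agent.Lib.R2H2PdSheaf
import Groth.Agent.Lib.R2H2K0Gen
import Groth.Agent.Lib.Helper23FinTypeLocal
import Groth.Agent.Lib.Helper23QCohAbelian
set_option backward.isDefEq.respectTransparency.types false

/-!
# Dévissage of coherent modules supported on a closed subscheme (helper2, round 2)

`I` a quasi-coherent ideal on a Noetherian scheme `X`.

* `isCoh_cokernel`;
* `killed_of_cover` : being killed by an ideal sheaf is local;
* `killed_cokernel_tors` : if `I^(k+1)` kills `T` then `I^k` kills `T / T[I]`;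
* `clSub_mem_of_killed_pow` : a subgroup of `K₀(Coh X)` containing the classes of the coherent
  modules killed by `I` contains the classes of those killed by a power of `I`;
* `exists_killed_pow` : a coherent module whose sections vanish off the support of `I` is killed by
  a power of `I`;
* `clSub_mem_of_vanishing`.
-/

set_option autoImplicit false
set_option linter.style.haveILetI false
set_option linter.unusedSectionVars false
universe u
open CategoryTheory CategoryTheory.Limits AlgebraicGeometry TopologicalSpace Opposite KZero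

noncomputable section

namespace Groth.Agent.Lib.R2H2.NilFilt

open Groth.Agent.Lib.R2H2.SubFam Groth.Agent.Lib.R2H2.TorsFam Groth.Agent.Lib.Helper2.Push
  Groth.Agent.Lib.R2H2.K0Gen

variable {X : Scheme.{u}}

theorem isCoh_cokernel {A B : X.Modules} (hA : Coh.IsCoh A) (hB : Coh.IsCoh B) (φ : A ⟶ B) :
    Coh.IsCoh (cokernel φ) := by
  haveI : A.IsQuasicoherent := hA.1
  haveI : B.IsQuasicoherent := hB.1
  haveI : SheafOfModules.IsFiniteType (R := X.ringCatSheaf) B := hB.2
  haveI : (cokernel φ).IsQuasicoherent :=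
    Groth.Agent.Lib.Helper23.QCohLocal.isQuasicoherent_cokernel φ
  exact ⟨inferInstance, Groth.Agent.Lib.Helper23.FinType.isFiniteType_of_epi (cokernel.π φ)⟩

/-- `ClSub.KilledByIdeal` with sections written `Γ(T, U)` -/
def KilledΓ (J : X.IdealSheafData) (T : X.Modules) : Prop :=
  ∀ (U : X.affineOpens) (a : Γ(X, U.1)), a ∈ J.ideal U → ∀ m : Γ(T, U.1), a • m = 0

theorem killed_iff (J : X.IdealSheafData) (T : X.Modules) :
    ClSub.KilledByIdeal J T ↔ KilledΓ J T :=
  ⟨fun h U a ha m => h U a ha m, fun h U a ha m => h U a ha m⟩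

/-- being killed by an ideal sheaf is local -/
theorem killedΓ_of_cover (J : X.IdealSheafData) (T : X.Modules) [T.IsQuasicoherent] {ι : Type*}
    (V : ι → X.affineOpens) (hcov : ∀ x : X, ∃ i, x ∈ (V i).1)
    (h : ∀ (i : ι) (a : Γ(X, (V i).1)), a ∈ J.ideal (V i) → ∀ m : Γ(T, (V i).1), a • m = 0) :
    KilledΓ J T := by
  intro U a ha m
  refine eq_of_locally_eq _ _ (fun x hxU => ?_)
  obtain ⟨i, hxV⟩ := hcov x
  obtain ⟨f, g, hfg, hxf⟩ := exists_basicOpen_le_affine_inter U.2 (V i).2 x ⟨hxU, hxV⟩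
  have hxg : x ∈ X.basicOpen g := hfg ▸ hxf
  have hDU : X.basicOpen g ≤ U.1 := hfg ▸ X.basicOpen_le f
  have hDaff : IsAffineOpen (X.basicOpen g) := (V i).2.basicOpen g
  refine ⟨X.basicOpen g, hDU, hxg, ?_⟩
  rw [rs_smul, rs_zero]
  have haD : rO hDU a ∈ J.ideal ⟨X.basicOpen g, hDaff⟩ :=
    J.ideal_le_comap_ideal (U := ⟨X.basicOpen g, hDaff⟩) (V := U) hDU ha
  rw [← J.map_ideal (U := ⟨X.basicOpen g, hDaff⟩) (V := V i) (X.basicOpen_le g)] at haD
  -- the section `m` restricted to `D(g)` comes from `V i` up to a power of `g`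
  have hloc : IsLocOn T (V i).1 := IsLocOn.of_isQuasicoherent (V i).2 T
  obtain ⟨n, m', hm'⟩ := hloc.exists_extension g (rs T hDU m)
  have hm'' : rs T (X.basicOpen_le g) m' = rO (X.basicOpen_le g) g ^ n • rs T hDU m := hm'
  have hunit : IsUnit (rO (X.basicOpen_le g) g) := RingedSpace.isUnit_res_basicOpen _ g
  obtain ⟨u, hu⟩ := hunit.pow n
  have hmu : rs T hDU m = (↑u⁻¹ : Γ(X, X.basicOpen g)) • rs T (X.basicOpen_le g) m' := by
    rw [hm'', ← hu, ← mul_smul, Units.inv_mul, one_smul]
  have haD' : rO hDU a ∈ Submodule.span Γ(X, X.basicOpen g)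
      ((rO (X.basicOpen_le g)) '' (J.ideal (V i) : Set Γ(X, (V i).1))) := haD
  generalize rO hDU a = a' at haD'
  induction haD' using Submodule.span_induction with
  | mem y hy =>
    obtain ⟨b, hb, rfl⟩ := hy
    rw [hmu, smul_comm, ← rs_smul, h i b hb m', rs_zero, smul_zero]
  | zero => rw [zero_smul]
  | add y z _ _ hy hz => rw [add_smul, hy, hz, add_zero]
  | smul c y _ hy => rw [smul_eq_mul, mul_smul, hy, smul_zero]

theorem killed_of_cover (J : X.IdealSheafData) (T : X.Modules) [T.IsQuasicoherent] {ι : Type*}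
    (V : ι → X.affineOpens) (hcov : ∀ x : X, ∃ i, x ∈ (V i).1)
    (h : ∀ (i : ι) (a : Γ(X, (V i).1)), a ∈ J.ideal (V i) → ∀ m : Γ(T, (V i).1), a • m = 0) :
    ClSub.KilledByIdeal J T :=
  (killed_iff J T).2 (killedΓ_of_cover J T V hcov h)

variable [IsNoetherian X] (I : X.IdealSheafData)

/-- if `I^(k+1)` kills `T` then `I^k` kills `T / T[I]` -/
theorem killed_cokernel_tors (T : X.Modules) (hT : Coh.IsCoh T) (k : ℕ)
    (hk : ClSub.KilledByIdeal (I ^ (k + 1)) T) :
    ClSub.KilledByIdeal (I ^ k) (cokernel (torsι I T)) := by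
  haveI : T.IsQuasicoherent := hT.1
  have hc := isCoh_tors I T hT
  haveI : (tors I T).IsQuasicoherent := hc.1
  haveI : (cokernel (torsι I T)).IsQuasicoherent :=
    Groth.Agent.Lib.Helper23.QCohLocal.isQuasicoherent_cokernel (torsι I T)
  rw [killed_iff] at hk ⊢
  intro U a ha q
  obtain ⟨t, rfl⟩ := Groth.Agent.Lib.Helper23.FinType.surjective_app_of_epi
    (cokernel.π (torsι I T)) U.2 q
  rw [← Scheme.Modules.Hom.app_smul]
  have hkill : ∀ b ∈ I.ideal U, b • (a • t) = 0 := by
    intro b hb
    rw [← mul_smul]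
    refine hk U (b * a) ?_ t
    change b * a ∈ (I.ideal U) ^ (k + 1)
    rw [pow_succ']
    exact Ideal.mul_mem_mul hb ha
  obtain ⟨s, hs⟩ := exists_torsι_app_eq I T U.2 (a • t) hkill
  rw [← hs]
  have h0 : torsι I T ≫ cokernel.π (torsι I T) = 0 := cokernel.condition _
  have h1 := congrArg (fun φ : tors I T ⟶ cokernel (torsι I T) => φ.app U.1 s) h0
  exact h1

/-- **dévissage**: a subgroup of `K₀(Coh X)` containing the classes of the coherent modules killed
by `I` contains the classes of those killed by a power of `I` -/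
theorem clSub_mem_of_killed_pow (R : AddSubgroup (SGA6.Kcoh X))
    (hR : ∀ M : X.Modules, Coh.IsCoh M → ClSub.KilledByIdeal I M →
      clSub (fun M : X.Modules => Coh.IsCoh M) M ∈ R) (k : ℕ) :
    ∀ T : X.Modules, Coh.IsCoh T → ClSub.KilledByIdeal (I ^ k) T →
      clSub (fun M : X.Modules => Coh.IsCoh M) T ∈ R := by
  induction k with
  | zero =>
    intro T hT hk
    refine hR T hT (fun U a _ m => hk U a ?_ m)
    change a ∈ (I.ideal U) ^ 0
    rw [pow_zero, Ideal.one_eq_top]
    trivial
  | succ k ih =>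
    intro T hT hk
    have hc := isCoh_tors I T hT
    have hq := isCoh_cokernel hc hT (torsι I T)
    let S : ShortComplex X.Modules :=
      ShortComplex.mk (torsι I T) (cokernel.π (torsι I T)) (cokernel.condition _)
    have hS : S.ShortExact :=
      { exact := ShortComplex.exact_cokernel (torsι I T)
        mono_f := inferInstanceAs (Mono (torsι I T))
        epi_g := inferInstanceAs (Epi (cokernel.π (torsι I T))) }
    have hcl := clSub_shortExact (fun M : X.Modules => Coh.IsCoh M) S hS hc hT hq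
    change clSub _ T = clSub _ (tors I T) + clSub _ (cokernel (torsι I T)) at hcl
    rw [hcl]
    exact R.add_mem (hR _ hc (killed_tors I T)) (ih _ hq (killed_cokernel_tors I T hT k hk))

/-- over an affine open, a coherent module whose sections vanish off the support of `I` is killed
by a power of `I` -/
theorem exists_pow_le_annihilator (T : X.Modules) (hT : Coh.IsCoh T)
    (hvan : ∀ W : X.Opens, Disjoint (W : Set X) (I.support : Set X) → Subsingleton Γ(T, W))
    (U : X.affineOpens) :
    ∃ k : ℕ, ∀ a ∈ (I.ideal U) ^ k, ∀ m : Γ(T, U.1), a • m = 0 := by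
  haveI : T.IsQuasicoherent := hT.1
  haveI : SheafOfModules.IsFiniteType (R := X.ringCatSheaf) T := hT.2
  have hloc : IsLocOn T U.1 := IsLocOn.of_isQuasicoherent U.2 T
  haveI : IsNoetherianRing Γ(X, U.1) := IsLocallyNoetherian.component_noetherian U
  haveI : Module.Finite Γ(X, U.1) Γ(T, U.1) :=
    Groth.Agent.Lib.Helper23.FinType.finite_of_isFiniteType T U.2
  have hrad : I.ideal U ≤ (Module.annihilator Γ(X, U.1) Γ(T, U.1)).radical := by
    intro a ha
    -- `D(a)` misses the support
    have hdis : Disjoint ((X.basicOpen a : X.Opens) : Set X) (I.support : Set X) := by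
      rw [Set.disjoint_left]
      intro x hxa hxs
      have hxU : x ∈ U.1 := X.basicOpen_le a hxa
      have h1 := (Scheme.IdealSheafData.mem_support_iff_of_mem hxU).1 hxs
      exact (X.mem_zeroLocus_iff _ x).1 h1 a ha hxa
    haveI := hvan (X.basicOpen a) hdis
    have hpow : ∀ m : Γ(T, U.1), ∃ n : ℕ, a ^ n • m = 0 := fun m =>
      hloc.exists_pow_smul_eq_zero a m (Subsingleton.elim _ _)
    choose n hn using hpow
    obtain ⟨G, hG⟩ := (Module.Finite.fg_top : (⊤ : Submodule Γ(X, U.1) Γ(T, U.1)).FG)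
    refine ⟨G.sup n, ?_⟩
    rw [Module.mem_annihilator]
    intro m
    have hm : m ∈ Submodule.span Γ(X, U.1) (G : Set Γ(T, U.1)) := by rw [hG]; trivial
    induction hm using Submodule.span_induction with
    | mem x hx =>
      have hK : G.sup n = (G.sup n - n x) + n x := (Nat.sub_add_cancel (Finset.le_sup hx)).symm
      rw [hK, pow_add, mul_smul, hn x, smul_zero]
    | zero => rw [smul_zero]
    | add x y _ _ hx hy => rw [smul_add, hx, hy, add_zero]
    | smul c x _ hx => rw [smul_comm, hx, smul_zero]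
  obtain ⟨k, hk⟩ := Ideal.exists_pow_le_of_le_radical_of_fg hrad (IsNoetherian.noetherian _)
  exact ⟨k, fun a ha m => Module.mem_annihilator.1 (hk ha) m⟩

/-- a coherent module whose sections vanish off the support of `I` is killed by a power of `I` -/
theorem exists_killed_pow (T : X.Modules) (hT : Coh.IsCoh T)
    (hvan : ∀ W : X.Opens, Disjoint (W : Set X) (I.support : Set X) → Subsingleton Γ(T, W)) :
    ∃ k : ℕ, ClSub.KilledByIdeal (I ^ k) T := by
  haveI : T.IsQuasicoherent := hT.1
  choose kU hkU using exists_pow_le_annihilator I T hT hvan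
  obtain ⟨s, hs⟩ : ∃ s : Finset X.affineOpens, (Set.univ : Set X) ⊆ ⋃ U ∈ s, (U.1 : Set X) :=
    isCompact_univ.elim_finite_subcover (fun U : X.affineOpens => (U.1 : Set X))
      (fun U => U.1.2) (fun x _ => by
        obtain ⟨V, hV, hxV, -⟩ := exists_isAffineOpen_mem_and_subset (x := x) (U := ⊤) trivial
        exact Set.mem_iUnion.2 ⟨⟨V, hV⟩, hxV⟩)
  refine ⟨s.sup kU, killed_of_cover (I ^ (s.sup kU)) T (fun U : s => U.1) (fun x => ?_)
    (fun U a ha m => ?_)⟩
  · obtain ⟨U, hU⟩ := Set.mem_iUnion.1 (hs (Set.mem_univ x))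
    obtain ⟨hUs, hxU⟩ := Set.mem_iUnion.1 hU
    exact ⟨⟨U, hUs⟩, hxU⟩
  · refine hkU U.1 a ?_ m
    have ha' : a ∈ (I.ideal U.1) ^ (s.sup kU) := ha
    exact Ideal.pow_le_pow_right (Finset.le_sup U.2) ha'

theorem clSub_mem_of_vanishing (R : AddSubgroup (SGA6.Kcoh X))
    (hR : ∀ M : X.Modules, Coh.IsCoh M → ClSub.KilledByIdeal I M →
      clSub (fun M : X.Modules => Coh.IsCoh M) M ∈ R)
    (T : X.Modules) (hT : Coh.IsCoh T)
    (hvan : ∀ W : X.Opens, Disjoint (W : Set X) (I.support : Set X) → Subsingleton Γ(T, W)) :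
    clSub (fun M : X.Modules => Coh.IsCoh M) T ∈ R := by
  obtain ⟨k, hk⟩ := exists_killed_pow I T hT hvan
  exact clSub_mem_of_killed_pow I R hR k T hT hk

end Groth.Agent.Lib.R2H2.NilFilt
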