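import Mathlib.Algebra.Homology.ShortComplex.Ab
import Mathlib.Algebra.Homology.HomologicalComplex
import Mathlib.Algebra.Homology.ShortComplex.HomologicalComplex
import Mathlib.Algebra.Homology.HomologySequence
import Mathlib.Algebra.Category.Grp.Abelian
import Mathlib.Algebra.Category.Grp.EpiMono

/-!
# Cohomology classes of cocycles in cochain complexes of abelian groups (helper2, round 2)
-/

set_option autoImplicit false
universe u

namespace Groth.Agent.Lib.R2H2.Cls

open CategoryTheory CategoryTheory.Limits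

variable (K : CochainComplex AddCommGrpCat.{u} ℕ) {L : CochainComplex AddCommGrpCat.{u} ℕ}

lemma nextp (p : ℕ) : (ComplexShape.up ℕ).next p = p + 1 := CochainComplex.next ℕ p

/-- cocycles of degree `p` to the categorical cycles -/
noncomputable def toCyc (p : ℕ) : AddMonoidHom.ker (K.d p (p + 1)).hom →+ K.cycles p :=
  (K.liftCycles (AddCommGrpCat.ofHom (AddMonoidHom.ker (K.d p (p + 1)).hom).subtype) (p + 1)
    (nextp p) (by ext x; exact x.2)).hom

lemma iCycles_toCyc (p : ℕ) (z : AddMonoidHom.ker (K.d p (p + 1)).hom) :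
    (K.iCycles p).hom (toCyc K p z) = z.1 := by
  have := K.liftCycles_i (AddCommGrpCat.ofHom (AddMonoidHom.ker (K.d p (p + 1)).hom).subtype)
    (p + 1) (nextp p) (by ext x; exact x.2)
  exact ConcreteCategory.congr_hom this z

lemma iCycles_injective (p : ℕ) : Function.Injective (K.iCycles p).hom :=
  (AddCommGrpCat.mono_iff_injective _).mp inferInstance

lemma toCyc_bijective (p : ℕ) : Function.Bijective (toCyc K p) := by
  constructor
  · intro z z' h
    apply Subtype.ext
    rw [← iCycles_toCyc K p z, ← iCycles_toCyc K p z', h]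
  · intro c
    have hc : (K.d p (p + 1)).hom ((K.iCycles p).hom c) = 0 := by
      have := K.iCycles_d p (p + 1)
      exact ConcreteCategory.congr_hom this c
    refine ⟨⟨(K.iCycles p).hom c, hc⟩, ?_⟩
    apply iCycles_injective K p
    rw [iCycles_toCyc]

/-- the cohomology class of a cocycle -/
noncomputable def cls (p : ℕ) : AddMonoidHom.ker (K.d p (p + 1)).hom →+ K.homology p :=
  (K.homologyπ p).hom.comp (toCyc K p)

lemma cls_surjective (p : ℕ) : Function.Surjective (cls K p) := by
  have h1 : Function.Surjective (K.homologyπ p).hom :=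
    (AddCommGrpCat.epi_iff_surjective _).mp inferInstance
  exact h1.comp (toCyc_bijective K p).2

lemma cls_eq_zero_iff (p : ℕ) (z : AddMonoidHom.ker (K.d (p + 1) (p + 2)).hom) :
    cls K (p + 1) z = 0 ↔ ∃ b : K.X p, (K.d p (p + 1)).hom b = z.1 := by
  have hex : (ShortComplex.mk (K.toCycles p (p + 1)) (K.homologyπ (p + 1))
      (K.toCycles_comp_homologyπ p (p + 1))).Exact :=
    ShortComplex.exact_of_g_is_cokernel _ (K.homologyIsCokernel p (p + 1) (by simp))
  rw [ShortComplex.ab_exact_iff] at hex
  constructor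
  · intro h
    obtain ⟨b, hb⟩ := hex (toCyc K (p + 1) z) h
    refine ⟨b, ?_⟩
    have h1 : (K.iCycles (p + 1)).hom ((K.toCycles p (p + 1)).hom b) = (K.d p (p + 1)).hom b :=
      ConcreteCategory.congr_hom (K.toCycles_i p (p + 1)) b
    rw [← h1]
    change (K.iCycles (p + 1)).hom ((K.toCycles p (p + 1)) b) = _
    rw [hb]
    exact iCycles_toCyc K (p + 1) z
  · rintro ⟨b, hb⟩
    have h1 : toCyc K (p + 1) z = (K.toCycles p (p + 1)).hom b := by
      apply iCycles_injective K (p + 1)
      rw [iCycles_toCyc, ← hb]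
      exact (ConcreteCategory.congr_hom (K.toCycles_i p (p + 1)) b).symm
    change (K.homologyπ (p + 1)).hom (toCyc K (p + 1) z) = 0
    rw [h1]
    exact ConcreteCategory.congr_hom (K.toCycles_comp_homologyπ p (p + 1)) b

lemma cls_zero_injective : Function.Injective (cls K 0) := by
  have h0 : IsIso (K.homologyπ 0) :=
    K.isIso_homologyπ 0 0 (by simp) (K.shape 0 0 (by simp))
  have h1 : Function.Bijective (K.homologyπ 0).hom := ConcreteCategory.bijective_of_isIso _
  exact h1.1.comp (toCyc_bijective K 0).1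

variable {K}

lemma map_mem_ker (φ : K ⟶ L) (p : ℕ) (z : AddMonoidHom.ker (K.d p (p + 1)).hom) :
    (φ.f p).hom z.1 ∈ AddMonoidHom.ker (L.d p (p + 1)).hom := by
  rw [AddMonoidHom.mem_ker]
  have h := φ.comm p (p + 1)
  have h2 : (L.d p (p + 1)).hom ((φ.f p).hom z.1) = (φ.f (p + 1)).hom ((K.d p (p + 1)).hom z.1) :=
    ConcreteCategory.congr_hom h z.1
  rw [h2, z.2, map_zero]

lemma homologyMap_cls (φ : K ⟶ L) (p : ℕ) (z : AddMonoidHom.ker (K.d p (p + 1)).hom) :
    (HomologicalComplex.homologyMap φ p).hom (cls K p z) =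
      cls L p ⟨(φ.f p).hom z.1, map_mem_ker φ p z⟩ := by
  have h1 := HomologicalComplex.homologyπ_naturality φ p
  have h2 : (HomologicalComplex.homologyMap φ p).hom ((K.homologyπ p).hom (toCyc K p z)) =
      (L.homologyπ p).hom ((HomologicalComplex.cyclesMap φ p).hom (toCyc K p z)) :=
    ConcreteCategory.congr_hom h1 (toCyc K p z)
  change (HomologicalComplex.homologyMap φ p).hom ((K.homologyπ p).hom (toCyc K p z)) =
    (L.homologyπ p).hom (toCyc L p ⟨(φ.f p).hom z.1, map_mem_ker φ p z⟩)
  rw [h2]
  congr 1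
  apply iCycles_injective L p
  rw [iCycles_toCyc]
  have h3 := HomologicalComplex.cyclesMap_i φ p
  have h4 : (L.iCycles p).hom ((HomologicalComplex.cyclesMap φ p).hom (toCyc K p z)) =
      (φ.f p).hom ((K.iCycles p).hom (toCyc K p z)) := ConcreteCategory.congr_hom h3 (toCyc K p z)
  rw [h4, iCycles_toCyc]

end Groth.Agent.Lib.R2H2.Cls
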