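import Groth.Agent.Lib.R2H2Laurent
import Groth.Agent.Lib.R2H2Cls

/-!
# Top cohomology of the strands of the Čech complex of the polynomial ring (helper2, round 2)

`H^n` of the degree-`d` strand of the Čech complex of `R[X_0, …, X_n]` (`d < 0`) is the module of
Laurent polynomials supported on exponents with all coordinates negative and total degree `d`.
-/

set_option autoImplicit false
set_option linter.unusedSectionVars false
universe u

namespace Groth.Agent.Lib.R2H2.LaurentTop

open MvPolynomial CategoryTheory Opposite Matrix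
open Groth.Agent.Lib.Helper16.CechLow Groth.Agent.Lib.R2H2.LocPsh Groth.Agent.Lib.R2H2.CechCmp
  Groth.Agent.Lib.R2H2.Strand Groth.Agent.Lib.R2H2.StrandCech Groth.Agent.Lib.R2H2.KoszulPoly
  Groth.Agent.Lib.R2H2.ProjSec Groth.Agent.Lib.R2H2.Laurent Groth.Agent.Lib.R2H2.Cls

section Eps

variable {n : ℕ}

/-- the "sign" of a tuple -/
noncomputable def eps (x : Fin (n + 1) → Fin (n + 1)) : ℤ :=
  Matrix.det (Matrix.of fun (k : Fin (n + 1)) (i : Fin (n + 1)) => if x k = i then (1 : ℤ) else 0)

lemma eps_eq_zero (x : Fin (n + 1) → Fin (n + 1)) (i : Fin (n + 1)) (hi : ∀ k, x k ≠ i) :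
    eps x = 0 := by
  unfold eps
  apply Matrix.det_eq_zero_of_column_eq_zero i
  intro k
  rw [Matrix.of_apply, if_neg (hi k)]

lemma eps_id : eps (fun k : Fin (n + 1) => k) = 1 := by
  unfold eps
  have : (Matrix.of fun (k : Fin (n + 1)) (i : Fin (n + 1)) => if k = i then (1 : ℤ) else 0) = 1 := by
    ext k i
    rw [Matrix.of_apply, Matrix.one_apply]
  rw [this, Matrix.det_one]

lemma eps_cocycle (y : Fin (n + 2) → Fin (n + 1)) :
    ∑ i : Fin (n + 2), (-1 : ℤ) ^ (i : ℕ) * eps (y ∘ Fin.succAbove i) = 0 := by
  let B : Matrix (Fin (n + 2)) (Fin (n + 2)) ℤ :=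
    Matrix.of fun k c => Fin.cases (1 : ℤ) (fun i => if y k = i then (1 : ℤ) else 0) c
  have hdet : B.det = 0 := by
    rw [← Matrix.exists_mulVec_eq_zero_iff]
    refine ⟨Fin.cases (1 : ℤ) (fun _ => -1), ?_, ?_⟩
    · intro h
      have := congrFun h 0
      simp at this
    · funext k
      rw [Matrix.mulVec, dotProduct, Fin.sum_univ_succ]
      simp only [B, Matrix.of_apply, Fin.cases_zero, Fin.cases_succ, mul_one, mul_neg, Pi.zero_apply,
        Finset.sum_neg_distrib, Finset.sum_ite_eq, Finset.mem_univ, if_true]
      ring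
  rw [Matrix.det_succ_column_zero] at hdet
  rw [← hdet]
  refine Finset.sum_congr rfl (fun i _ => ?_)
  have h1 : B i 0 = 1 := rfl
  rw [h1, mul_one]
  congr 1

section Alt

variable {M : Type*} [AddCommGroup M] (b : (Fin (n + 1) → Fin (n + 1)) → M)
  (hb0 : ∀ x, ¬ Function.Surjective x → b x = 0)
  (hcoc : ∀ y : Fin (n + 2) → Fin (n + 1),
    ∑ i : Fin (n + 2), (-1 : ℤ) ^ (i : ℕ) • b (y ∘ Fin.succAbove i) = 0)

include hb0 hcoc in
lemma rel_of_eq (y : Fin (n + 2) → Fin (n + 1)) (p q : Fin (n + 2)) (hpq : p ≠ q)
    (hy : y p = y q) :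
    (-1 : ℤ) ^ (p : ℕ) • b (y ∘ Fin.succAbove p) + (-1 : ℤ) ^ (q : ℕ) • b (y ∘ Fin.succAbove q) = 0 := by
  rw [← hcoc y]
  symm
  apply Finset.sum_eq_add p q hpq
  · intro i _ hi
    obtain ⟨p', hp'⟩ := Fin.exists_succAbove_eq (Ne.symm hi.1).symm.symm
    obtain ⟨q', hq'⟩ := Fin.exists_succAbove_eq (Ne.symm hi.2).symm.symm
    have hne : p' ≠ q' := by
      intro h
      apply hpq
      rw [← hp', ← hq', h]
    have hninj : ¬ Function.Injective (y ∘ Fin.succAbove i) := by
      intro hinj
      apply hne
      apply hinj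
      change y (i.succAbove p') = y (i.succAbove q')
      rw [hp', hq', hy]
    rw [hb0 _ (fun hs => hninj (Finite.injective_iff_surjective.mpr hs)), smul_zero]
  · intro h
    exact absurd (Finset.mem_univ p) h
  · intro h
    exact absurd (Finset.mem_univ q) h

include hb0 hcoc in
theorem eq_zero_of_id (hid : b (fun k => k) = 0) : ∀ x, b x = 0 := by
  have key : ∀ t : ℕ, t ≤ n + 1 → ∀ x : Fin (n + 1) → Fin (n + 1),
      (∀ k : Fin (n + 1), k.val < n + 1 - t → x k = k) → b x = 0 := by
    intro t
    induction t with
    | zero =>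
      intro _ x hx
      have : x = fun k => k := funext fun k => hx k (by have := k.isLt; omega)
      rw [this, hid]
    | succ t ih =>
      intro ht x hx
      by_cases hsurj : Function.Surjective x
      · have htn : n - t < n + 1 := by omega
        let tt : Fin (n + 1) := ⟨n - t, htn⟩
        by_cases hxt : x tt = tt
        · apply ih (by omega) x
          intro k hk
          by_cases hk' : k.val < n + 1 - (t + 1)
          · exact hx k hk'
          · have : k = tt := Fin.ext (by change k.val = n - t; omega)
            rw [this, hxt]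
        · obtain ⟨j, hj⟩ := hsurj tt
          have hjt : n - t < j.val := by
            by_contra h
            have h1 : j.val ≤ n - t := not_lt.mp h
            rcases Nat.lt_or_eq_of_le h1 with h2 | h2
            · have h3 := hx j (by omega)
              rw [hj] at h3
              have : j.val = n - t := by rw [← h3]
              omega
            · have : j = tt := Fin.ext h2
              rw [this] at hj
              exact hxt hj
          let p : Fin (n + 2) := Fin.castSucc tt
          let y : Fin (n + 2) → Fin (n + 1) := Fin.insertNth (α := fun _ => Fin (n + 1)) p tt x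
          let q : Fin (n + 2) := p.succAbove j
          have hpq : p ≠ q := (Fin.succAbove_ne p j).symm
          have hyp : y p = tt := Fin.insertNth_apply_same (α := fun _ => Fin (n + 1)) p tt x
          have hyq : y q = tt := by
            change Fin.insertNth (α := fun _ => Fin (n + 1)) p tt x (p.succAbove j) = tt
            rw [Fin.insertNth_apply_succAbove]
            exact hj
          have hrel := rel_of_eq b hb0 hcoc y p q hpq (hyp.trans hyq.symm)
          have hyx : y ∘ Fin.succAbove p = x := by
            funext k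
            exact Fin.insertNth_apply_succAbove (α := fun _ => Fin (n + 1)) p tt x k
          have hq : q = j.succ := by
            apply Fin.succAbove_of_le_castSucc
            rw [Fin.le_def]
            change n - t ≤ j.val
            omega
          have hx' : b (y ∘ Fin.succAbove q) = 0 := by
            apply ih (by omega)
            intro k hk
            have hkq : Fin.castSucc k < q := by
              rw [hq, Fin.lt_def]
              change k.val < j.val + 1
              omega
            change y (q.succAbove k) = k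
            rw [Fin.succAbove_of_castSucc_lt _ _ hkq]
            by_cases hk' : k.val < n - t
            · have hkp : Fin.castSucc k < p := by
                rw [Fin.lt_def]
                exact hk'
              rw [← Fin.succAbove_of_castSucc_lt _ _ hkp]
              change Fin.insertNth (α := fun _ => Fin (n + 1)) p tt x (p.succAbove k) = k
              rw [Fin.insertNth_apply_succAbove]
              exact hx k (by omega)
            · have hkt : k = tt := Fin.ext (by change k.val = n - t; omega)
              rw [hkt]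
              exact hyp
          rw [hyx, hx', smul_zero, add_zero] at hrel
          have hu : IsUnit ((-1 : ℤ) ^ (p : ℕ)) := (isUnit_one.neg).pow _
          obtain ⟨u, hu'⟩ := hu
          rw [← hu'] at hrel
          have := congrArg (fun m => (↑u⁻¹ : ℤ) • m) hrel
          simpa [smul_smul] using this
      · exact hb0 x hsurj
  intro x
  exact key (n + 1) le_rfl x (fun k hk => by omega)

end Alt

end Eps

section Top

variable (R : Type u) [CommRing R] (n : ℕ) (d : ℤ)

/-- the exponents of degree `d` with all coordinates negative -/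
def AN : Set (GG n) := {e | degG n e = d ∧ ∀ i, e i < 0}

/-- Laurent polynomials supported on `AN` -/
noncomputable def VV : Submodule R (LL R n) := AddMonoidAlgebra.supported R R (AN n d)

lemma mem_VV (f : LL R n) : f ∈ VV R n d ↔ ∀ e ∈ f.coeff.support, e ∈ AN n d := Iff.rfl

/-- all coordinates negative -/
def QN (e : GG n) : Prop := ∀ i, e i < 0

open Classical in
/-- the projection onto the monomials with all exponents negative -/
noncomputable def piAN : LL R n →+ LL R n :=
  (AddMonoidAlgebra.coeffAddEquiv.symm.toAddMonoidHom.comp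
    (Finsupp.filterAddHom (QN n))).comp AddMonoidAlgebra.coeffAddEquiv.toAddMonoidHom

open Classical in
lemma coeff_piAN (f : LL R n) (e : GG n) :
    (piAN R n f).coeff e = if QN n e then f.coeff e else 0 := rfl

lemma piAN_eq_self (f : LL R n) (hf : ∀ e ∈ f.coeff.support, QN n e) : piAN R n f = f := by
  classical
  apply AddMonoidAlgebra.coeff_injective
  ext e
  rw [coeff_piAN]
  split_ifs with h
  · rfl
  · by_contra h0
    exact h (hf e (Finsupp.mem_support_iff.mpr (Ne.symm h0)))

lemma piAN_eq_zero (f : LL R n) (hf : ∀ e ∈ f.coeff.support, ¬ QN n e) : piAN R n f = 0 := by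
  classical
  apply AddMonoidAlgebra.coeff_injective
  ext e
  rw [coeff_piAN]
  split_ifs with h
  · by_contra h0
    exact hf e (Finsupp.mem_support_iff.mpr h0) h
  · rfl

lemma mem_support_piAN (f : LL R n) (e : GG n) (he : e ∈ (piAN R n f).coeff.support) :
    e ∈ f.coeff.support ∧ QN n e := by
  classical
  rw [Finsupp.mem_support_iff, coeff_piAN] at he
  split_ifs at he with h
  · exact ⟨Finsupp.mem_support_iff.mpr he, h⟩
  · exact absurd rfl he

/-- the sign of a tuple of indices -/
noncomputable def epsI (x : Fin (n + 1) → Idx (vars R n)) : ℤ := eps (fun k => ix R n (x k))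

/-- the identity tuple -/
noncomputable def idT : Fin (n + 1) → Idx (vars R n) := fun k => mkIdx R n k

lemma epsI_idT : epsI R n (idT R n) = 1 := eps_id

lemma epsI_eq_zero (x : Fin (n + 1) → Idx (vars R n)) (i : Fin (n + 1)) (hi : i ∉ imx R n x) :
    epsI R n x = 0 :=
  eps_eq_zero _ i (fun k hk => hi ⟨k, hk⟩)

lemma piAN_PsiHom_eq_zero {p : ℕ} (x : Fin (p + 1) → Idx (vars R n)) (c : (KK R n d).X p)
    (i : Fin (n + 1)) (hi : i ∉ imx R n x) : piAN R n (PsiHom R n d x c) = 0 := by
  apply piAN_eq_zero
  intro e he hQ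
  have h1 := (support_PsiHom R n d x c e he).2 i hi
  have h2 := hQ i
  omega

/-- the cocycle attached to a Laurent polynomial supported on `AN` -/
lemma exists_cf (f : LL R n) (hf : f ∈ VV R n d) :
    ∃ c : (KK R n d).X n, ∀ x, PsiHom R n d x c = epsI R n x • f := by
  classical
  apply exists_cochain R n d (fun x => epsI R n x • f)
  intro x e he
  have hne : epsI R n x ≠ 0 := by
    intro h0
    rw [h0, zero_smul] at he
    simp at he
  have he' : e ∈ f.coeff.support := by
    rw [Finsupp.mem_support_iff] at he ⊢
    intro h0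
    apply he
    change (epsI R n x • f.coeff) e = 0
    rw [Finsupp.smul_apply, h0, smul_zero]
  have h1 := hf he'
  refine ⟨h1.1, fun i hi => ?_⟩
  exact absurd (epsI_eq_zero R n x i hi) hne

lemma d_eq_zero_of_eps (f : LL R n) (c : (KK R n d).X n)
    (hc : ∀ x, PsiHom R n d x c = epsI R n x • f) : (KK R n d).d n (n + 1) c = 0 := by
  apply Psi_ext
  intro y
  rw [PsiHom_d, map_zero]
  have h1 : ∀ i : Fin (n + 2), (-1 : ℤ) ^ (i : ℕ) • PsiHom R n d (y ∘ Fin.succAbove i) c =
      ((-1 : ℤ) ^ (i : ℕ) * eps ((fun k => ix R n (y k)) ∘ Fin.succAbove i)) • f := by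
    intro i
    rw [hc, smul_smul]
    rfl
  rw [Finset.sum_congr rfl (fun i _ => h1 i), ← Finset.sum_smul, eps_cocycle, zero_smul]

section Scalar

/-- multiplication by a constant on the polynomial ring -/
noncomputable def gR (r : R) :
    MvPolynomial (Fin (n + 1)) R →ₗ[MvPolynomial (Fin (n + 1)) R] MvPolynomial (Fin (n + 1)) R :=
  (C r : MvPolynomial (Fin (n + 1)) R) • LinearMap.id

lemma gR_apply (r : R) (a : MvPolynomial (Fin (n + 1)) R) : gR R n r a = r • a := by
  change (C r : MvPolynomial (Fin (n + 1)) R) * a = r • a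
  rw [MvPolynomial.C_mul']

lemma isGr_gR (r : R) : IsGr (GP R n) (GP R n) (gR R n r) := by
  intro j a ha
  rw [gR_apply]
  have ha' : a ∈ pcN (CohB1.polyGrading n R) j := ha
  change r • a ∈ pcN (CohB1.polyGrading n R) j
  rw [mem_pcN_iff] at ha' ⊢
  obtain ⟨i, hi, h | h⟩ := ha'
  · exact ⟨i, Submodule.smul_mem _ r hi, Or.inl h⟩
  · exact ⟨i, Submodule.smul_mem _ r hi, Or.inr (by rw [h, smul_zero])⟩

/-- multiplication by a constant on the strand complex -/
noncomputable def muR (r : R) : KK R n d ⟶ KK R n d :=
  (cechComplexFunctor (fam (vars R n))).map (pshdMap (gR R n r) (isGr_gR R n r) d)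

lemma phi_smul (r : R) (a : MvPolynomial (Fin (n + 1)) R) : phi R n (r • a) = r • phi R n a := by
  rw [← MvPolynomial.C_mul', map_mul]
  have h1 : phi R n (C r) = AddMonoidAlgebra.single 0 r := by
    rw [← MvPolynomial.monomial_zero', phi_monomial]
    rfl
  rw [h1]
  apply AddMonoidAlgebra.coeff_injective
  ext e
  simp

lemma psi_nMap {p : ℕ} (x : Fin (p + 1) → Idx (vars R n)) (r : R)
    (z : LocalizedModule (SS (vars R n) x) (MvPolynomial (Fin (n + 1)) R)) :
    psi R n x (nMap (SS (vars R n) x) (gR R n r) z) = r • psi R n x z := by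
  induction z with | _ a s
  rw [nMap_mk, gR_apply]
  apply psi_eq_of_mul
  rw [mul_smul_comm, psi_mk, phi_smul]

lemma PsiHom_muR {p : ℕ} (x : Fin (p + 1) → Idx (vars R n)) (r : R) (c : (KK R n d).X p) :
    PsiHom R n d x ((muR R n d r).f p c) = r • PsiHom R n d x c := by
  rw [PsiHom_apply, PsiHom_apply]
  unfold muR
  rw [map_pr_apply]
  exact psi_nMap R n x r _

end Scalar

section Theta

/-- the cocycle attached to an element of `VV` -/
noncomputable def cf (f : VV R n d) : (KK R n d).X n :=
  Classical.choose (exists_cf R n d f.1 f.2)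

lemma cf_spec (f : VV R n d) (x : Fin (n + 1) → Idx (vars R n)) :
    PsiHom R n d x (cf R n d f) = epsI R n x • (f : LL R n) :=
  Classical.choose_spec (exists_cf R n d f.1 f.2) x

lemma d_cf (f : VV R n d) : (KK R n d).d n (n + 1) (cf R n d f) = 0 :=
  d_eq_zero_of_eps R n d f.1 _ (cf_spec R n d f)

/-- `cf` as an additive map to the cocycles -/
noncomputable def cfHom : VV R n d →+ AddMonoidHom.ker ((KK R n d).d n (n + 1)).hom where
  toFun f := ⟨cf R n d f, d_cf R n d f⟩
  map_zero' := by
    apply Subtype.ext
    apply Psi_ext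
    intro x
    change PsiHom R n d x (cf R n d 0) = PsiHom R n d x 0
    rw [cf_spec, map_zero]
    exact smul_zero _
  map_add' f g := by
    apply Subtype.ext
    apply Psi_ext
    intro x
    change PsiHom R n d x (cf R n d (f + g)) = PsiHom R n d x (cf R n d f + cf R n d g)
    rw [map_add, cf_spec, cf_spec, cf_spec]
    exact smul_add _ _ _

lemma cfHom_val (f : VV R n d) : (cfHom R n d f).1 = cf R n d f := rfl

/-- the comparison map from `VV` to the top cohomology of the strand -/
noncomputable def Theta : VV R n d →+ ((KK R n d).homology n : AddCommGrpCat.{u}) :=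
  (cls (KK R n d) n).comp (cfHom R n d)

lemma QN_of_mem_VV (f : VV R n d) : ∀ e ∈ (f : LL R n).coeff.support, QN n e :=
  fun _ he => (f.2 he).2

lemma eq_piAN_cf (f : VV R n d) : (f : LL R n) = piAN R n (PsiHom R n d (idT R n) (cf R n d f)) := by
  rw [cf_spec, epsI_idT, one_smul, piAN_eq_self R n _ (QN_of_mem_VV R n d f)]

theorem Theta_injective : Function.Injective (Theta R n d) := by
  rw [injective_iff_map_eq_zero]
  intro f hf
  apply Subtype.ext
  change (f : LL R n) = 0
  rcases n with _ | p
  · have h1 : cfHom R 0 d f = 0 := cls_zero_injective (KK R 0 d) (hf.trans (map_zero _).symm)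
    have h2 : cf R 0 d f = 0 := congrArg Subtype.val h1
    rw [eq_piAN_cf R 0 d f, h2, map_zero, map_zero]
  · obtain ⟨b, hb⟩ := (cls_eq_zero_iff (KK R (p + 1) d) p (cfHom R (p + 1) d f)).mp hf
    rw [eq_piAN_cf R (p + 1) d f]
    have hb' : cf R (p + 1) d f = (KK R (p + 1) d).d p (p + 1) b := hb.symm
    rw [hb', PsiHom_d, map_sum]
    apply Finset.sum_eq_zero
    intro i _
    rw [map_zsmul, piAN_PsiHom_eq_zero R (p + 1) d _ b i, smul_zero]
    rintro ⟨k, hk⟩
    change ix R (p + 1) (mkIdx R (p + 1) (Fin.succAbove i k)) = i at hk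
    rw [ix_mkIdx] at hk
    exact Fin.succAbove_ne i k hk

theorem Theta_surjective (hd : d < 0) : Function.Surjective (Theta R n d) := by
  classical
  intro h
  obtain ⟨z, rfl⟩ := cls_surjective (KK R n d) n h
  let f0 : LL R n := piAN R n (PsiHom R n d (idT R n) z.1)
  have hf0 : f0 ∈ VV R n d := by
    intro e he
    obtain ⟨h1, h2⟩ := mem_support_piAN R n _ e he
    exact ⟨(support_PsiHom R n d _ _ e h1).1, h2⟩
  refine ⟨⟨f0, hf0⟩, ?_⟩
  let z' : AddMonoidHom.ker ((KK R n d).d n (n + 1)).hom := z - cfHom R n d ⟨f0, hf0⟩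
  have hz'val : z'.1 = z.1 - cf R n d ⟨f0, hf0⟩ := rfl
  have hz'd : (KK R n d).d n (n + 1) z'.1 = 0 := z'.2
  -- the all-negative part of `z'` vanishes
  have hb : ∀ x, piAN R n (PsiHom R n d x z'.1) = 0 := by
    let b' : (Fin (n + 1) → Fin (n + 1)) → LL R n := fun x' =>
      piAN R n (PsiHom R n d (fun k => mkIdx R n (x' k)) z'.1)
    have hb0 : ∀ x', ¬ Function.Surjective x' → b' x' = 0 := by
      intro x' hx'
      unfold Function.Surjective at hx'
      push Not at hx'
      obtain ⟨i, hi⟩ := hx'
      apply piAN_PsiHom_eq_zero R n d _ _ i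
      rintro ⟨k, hk⟩
      exact hi k hk
    have hcoc : ∀ y' : Fin (n + 2) → Fin (n + 1),
        ∑ i : Fin (n + 2), (-1 : ℤ) ^ (i : ℕ) • b' (y' ∘ Fin.succAbove i) = 0 := by
      intro y'
      have h1 := PsiHom_d R n d (fun k => mkIdx R n (y' k)) z'.1
      rw [hz'd, map_zero] at h1
      have h2 := congrArg (piAN R n) h1
      rw [map_zero, map_sum] at h2
      rw [h2]
      refine Finset.sum_congr rfl (fun i _ => ?_)
      rw [map_zsmul]
      rfl
    have hid : b' (fun k => k) = 0 := by
      change piAN R n (PsiHom R n d (idT R n) z'.1) = 0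
      rw [hz'val, map_sub, map_sub, cf_spec, epsI_idT, one_smul]
      change f0 - piAN R n f0 = 0
      rw [piAN_eq_self R n f0 (fun e he => (hf0 he).2), sub_self]
    have hall := eq_zero_of_id b' hb0 hcoc hid
    intro x
    have hx : x = fun k => mkIdx R n (ix R n (x k)) := rfl
    rw [hx]
    exact hall (fun k => ix R n (x k))
  have hNN : ∀ y, ∀ e ∈ (PsiHom R n d y z'.1).coeff.support, ∃ j, 0 ≤ e j := by
    intro y e he
    by_contra hneg
    push Not at hneg
    have h1 : (piAN R n (PsiHom R n d y z'.1)).coeff e = (PsiHom R n d y z'.1).coeff e := by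
      rw [coeff_piAN, if_pos (show QN n e from hneg)]
    rw [hb y] at h1
    exact (Finsupp.mem_support_iff.mp he) h1.symm
  have hcls : cls (KK R n d) n z' = 0 := by
    rcases n with _ | p
    · have hz0 : z' = 0 := by
        apply Subtype.ext
        apply Psi_ext
        intro x
        change PsiHom R 0 d x z'.1 = PsiHom R 0 d x 0
        rw [map_zero, ← AddMonoidAlgebra.coeff_eq_zero, ← Finsupp.support_eq_empty]
        apply Finset.eq_empty_of_forall_notMem
        intro e he
        obtain ⟨j, hj⟩ := hNN x e he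
        have h1 := (support_PsiHom R 0 d x z'.1 e he).1
        have hj0 : j = 0 := Fin.fin_one_eq_zero j
        rw [hj0] at hj
        have h2 : degG 0 e = e 0 := by
          unfold degG
          simp
        rw [h2] at h1
        omega
      rw [hz0, map_zero]
    · obtain ⟨b, hb⟩ := exists_cobound R (p + 1) d p z'.1 z'.2 hNN
      exact (cls_eq_zero_iff (KK R (p + 1) d) p z').mpr ⟨b, hb⟩
  have hz : z = z' + cfHom R n d ⟨f0, hf0⟩ := (sub_add_cancel z _).symm
  change cls (KK R n d) n (cfHom R n d ⟨f0, hf0⟩) = cls (KK R n d) n z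
  rw [hz, map_add, hcls, zero_add]

theorem Theta_smul (r : R) (f : VV R n d) :
    Theta R n d (r • f) = HomologicalComplex.homologyMap (muR R n d r) n (Theta R n d f) := by
  change cls (KK R n d) n (cfHom R n d (r • f)) =
    (HomologicalComplex.homologyMap (muR R n d r) n).hom (cls (KK R n d) n (cfHom R n d f))
  rw [homologyMap_cls]
  congr 1
  apply Subtype.ext
  apply Psi_ext
  intro x
  change PsiHom R n d x (cf R n d (r • f)) = PsiHom R n d x ((muR R n d r).f n (cf R n d f))
  rw [PsiHom_muR, cf_spec, cf_spec]
  exact smul_comm _ _ _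

/-- **top cohomology of the degree-`d` strand** (`d < 0`) -/
theorem exists_top_equiv (hd : d < 0) :
    ∃ e : VV R n d ≃+ ((KK R n d).homology n : AddCommGrpCat.{u}), ∀ (r : R) (f : VV R n d),
      e (r • f) = HomologicalComplex.homologyMap (muR R n d r) n (e f) :=
  ⟨AddEquiv.ofBijective (Theta R n d) ⟨Theta_injective R n d, Theta_surjective R n d hd⟩,
    fun r f => Theta_smul R n d r f⟩

end Theta

end Top

end Groth.Agent.Lib.R2H2.LaurentTop
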