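import Groth.Agent.Lib.Helper21KoszulFun

/-!
# Low-degree description of the iterated-cone Koszul complex (helper2, round 2)

Element-level API for mapping cones with flexible indices, an element-level description of the
homology of cochain complexes of modules, and an explicit description of the two lowest terms of
`CohIII.koszulCx`.
-/

namespace Groth.Agent.Lib.R2H2.KoszulLow

open CategoryTheory CategoryTheory.Limits CochainComplex HomComplex

universe u

variable {A : Type u} [CommRing A]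

section Cone

variable {K L : CochainComplex (ModuleCat.{u} A) ℤ} (φ : K ⟶ L)

/-- first component -/
noncomputable def cf (p q : ℤ) (h : p + 1 = q) : (mappingCone φ).X p →ₗ[A] K.X q :=
  ((mappingCone.fst φ).1.v p q h).hom

/-- second component -/
noncomputable def cs (p : ℤ) : (mappingCone φ).X p →ₗ[A] L.X p :=
  ((mappingCone.snd φ).v p p (add_zero p)).hom

/-- first inclusion -/
noncomputable def ci (p q : ℤ) (h : p + 1 = q) : K.X q →ₗ[A] (mappingCone φ).X p :=
  ((mappingCone.inl φ).v q p (by omega)).hom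

/-- second inclusion -/
noncomputable def cr (p : ℤ) : L.X p →ₗ[A] (mappingCone φ).X p :=
  ((mappingCone.inr φ).f p).hom

lemma cf_ci (p q : ℤ) (h : p + 1 = q) (u : K.X q) : cf φ p q h (ci φ p q h u) = u := by
  have := mappingCone.inl_v_fst_v φ q p h
  exact congr($(this).hom u)

lemma cf_cr (p q : ℤ) (h : p + 1 = q) (v : L.X p) : cf φ p q h (cr φ p v) = 0 := by
  have := mappingCone.inr_f_fst_v φ p q h
  exact congr($(this).hom v)

lemma cs_ci (p q : ℤ) (h : p + 1 = q) (u : K.X q) : cs φ p (ci φ p q h u) = 0 := by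
  have := mappingCone.inl_v_snd_v φ q p (by omega)
  exact congr($(this).hom u)

lemma cs_cr (p : ℤ) (v : L.X p) : cs φ p (cr φ p v) = v := by
  have := mappingCone.inr_f_snd_v φ p
  exact congr($(this).hom v)

lemma decomp (p q : ℤ) (h : p + 1 = q) (x : (mappingCone φ).X p) :
    x = ci φ p q h (cf φ p q h x) + cr φ p (cs φ p x) := by
  have := mappingCone.id_X φ p q h
  exact congr($(this).hom x).symm

lemma cone_ext (p q : ℤ) (h : p + 1 = q) {x y : (mappingCone φ).X p}
    (h1 : cf φ p q h x = cf φ p q h y) (h2 : cs φ p x = cs φ p y) : x = y := by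
  rw [decomp φ p q h x, decomp φ p q h y, h1, h2]

lemma cf_d (i j k : ℤ) (hij : i + 1 = j) (hjk : j + 1 = k) (x : (mappingCone φ).X i) :
    cf φ j k hjk (((mappingCone φ).d i j).hom x) = -(K.d j k).hom (cf φ i j hij x) := by
  have := mappingCone.d_fst_v φ i j k hij hjk
  exact congr($(this).hom x)

lemma cs_d (i j : ℤ) (hij : i + 1 = j) (x : (mappingCone φ).X i) :
    cs φ j (((mappingCone φ).d i j).hom x) =
      (φ.f j).hom (cf φ i j hij x) + (L.d i j).hom (cs φ i x) := by
  have := mappingCone.d_snd_v φ i j hij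
  exact congr($(this).hom x)

end Cone

section ConeMap

variable {K₁ L₁ K₂ L₂ : CochainComplex (ModuleCat.{u} A) ℤ} (φ₁ : K₁ ⟶ L₁) (φ₂ : K₂ ⟶ L₂)
  (a : K₁ ⟶ K₂) (b : L₁ ⟶ L₂) (comm : φ₁ ≫ b = a ≫ φ₂)

lemma cf_map (p q : ℤ) (h : p + 1 = q) (x : (mappingCone φ₁).X p) :
    cf φ₂ p q h (((mappingCone.map φ₁ φ₂ a b comm).f p).hom x) = (a.f q).hom (cf φ₁ p q h x) := by
  have : (mappingCone.map φ₁ φ₂ a b comm).f p ≫ (mappingCone.fst φ₂).1.v p q h =
      (mappingCone.fst φ₁).1.v p q h ≫ a.f q := by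
    simp [mappingCone.map, mappingCone.ext_from_iff _ q p h]
  exact congr($(this).hom x)

lemma cs_map (p : ℤ) (x : (mappingCone φ₁).X p) :
    cs φ₂ p (((mappingCone.map φ₁ φ₂ a b comm).f p).hom x) = (b.f p).hom (cs φ₁ p x) := by
  have : (mappingCone.map φ₁ φ₂ a b comm).f p ≫ (mappingCone.snd φ₂).v p p (add_zero p) =
      (mappingCone.snd φ₁).v p p (add_zero p) ≫ b.f p := by
    simp [mappingCone.map, mappingCone.ext_from_iff _ (p + 1) p rfl]
  exact congr($(this).hom x)

end ConeMap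

section Homology

variable (K : CochainComplex (ModuleCat.{u} A) ℤ) {L : CochainComplex (ModuleCat.{u} A) ℤ}

/-- cocycles to the categorical cycles -/
noncomputable def toCyc (j k : ℤ) (hjk : j + 1 = k) :
    LinearMap.ker (K.d j k).hom →ₗ[A] K.cycles j :=
  (K.liftCycles (ModuleCat.ofHom (LinearMap.ker (K.d j k).hom).subtype) k
    (by rw [CochainComplex.next]; exact hjk)
    (by ext x; exact x.2)).hom

lemma iCycles_toCyc (j k : ℤ) (hjk : j + 1 = k) (z : LinearMap.ker (K.d j k).hom) :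
    (K.iCycles j).hom (toCyc K j k hjk z) = z.1 := by
  have := K.liftCycles_i (ModuleCat.ofHom (LinearMap.ker (K.d j k).hom).subtype) k
    (by rw [CochainComplex.next]; exact hjk) (by ext x; exact x.2)
  exact congr($(this).hom z)

lemma iCycles_injective (j : ℤ) : Function.Injective (K.iCycles j).hom :=
  (ModuleCat.mono_iff_injective _).mp inferInstance

lemma toCyc_surjective (j k : ℤ) (hjk : j + 1 = k) : Function.Surjective (toCyc K j k hjk) := by
  intro c
  have hc : (K.d j k).hom ((K.iCycles j).hom c) = 0 := by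
    have := K.iCycles_d j k
    exact congr($(this).hom c)
  refine ⟨⟨(K.iCycles j).hom c, hc⟩, ?_⟩
  apply iCycles_injective K j
  rw [iCycles_toCyc]

/-- the homology class of a cocycle -/
noncomputable def cls (j k : ℤ) (hjk : j + 1 = k) :
    LinearMap.ker (K.d j k).hom →ₗ[A] K.homology j :=
  (K.homologyπ j).hom ∘ₗ toCyc K j k hjk

lemma cls_surjective (j k : ℤ) (hjk : j + 1 = k) : Function.Surjective (cls K j k hjk) := by
  have h1 : Function.Surjective (K.homologyπ j).hom :=
    (ModuleCat.epi_iff_surjective _).mp inferInstance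
  exact h1.comp (toCyc_surjective K j k hjk)

lemma cls_eq_zero_iff (i j k : ℤ) (hij : i + 1 = j) (hjk : j + 1 = k)
    (z : LinearMap.ker (K.d j k).hom) :
    cls K j k hjk z = 0 ↔ ∃ y : K.X i, (K.d i j).hom y = z.1 := by
  have hi : (ComplexShape.up ℤ).prev j = i := by
    rw [CochainComplex.prev]; omega
  let S : ShortComplex (ModuleCat.{u} A) :=
    ShortComplex.mk (K.toCycles i j) (K.homologyπ j) (K.toCycles_comp_homologyπ i j)
  have hS : S.Exact := S.exact_of_g_is_cokernel (K.homologyIsCokernel i j hi)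
  rw [ShortComplex.ShortExact.moduleCat_exact_iff_function_exact] at hS
  have h1 := hS (toCyc K j k hjk z)
  change cls K j k hjk z = 0 ↔ _ at h1
  rw [h1]
  constructor
  · rintro ⟨y, hy⟩
    refine ⟨y, ?_⟩
    have h2 := K.toCycles_i i j
    have h3 : (K.iCycles j).hom ((K.toCycles i j).hom y) = (K.d i j).hom y := congr($(h2).hom y)
    rw [← h3, ← iCycles_toCyc K j k hjk z]
    exact congrArg _ hy
  · rintro ⟨y, hy⟩
    refine ⟨y, ?_⟩
    apply iCycles_injective K j
    have h2 := K.toCycles_i i j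
    have h3 : (K.iCycles j).hom ((K.toCycles i j).hom y) = (K.d i j).hom y := congr($(h2).hom y)
    rw [iCycles_toCyc]
    exact h3.trans hy

variable {K}

lemma map_mem_ker (φ : K ⟶ L) (j k : ℤ) (z : LinearMap.ker (K.d j k).hom) :
    (φ.f j).hom z.1 ∈ LinearMap.ker (L.d j k).hom := by
  rw [LinearMap.mem_ker]
  have h := φ.comm j k
  have h2 : (L.d j k).hom ((φ.f j).hom z.1) = (φ.f k).hom ((K.d j k).hom z.1) :=
    congr($(h).hom z.1)
  rw [h2, z.2, map_zero]

lemma homologyMap_cls (φ : K ⟶ L) (j k : ℤ) (hjk : j + 1 = k) (z : LinearMap.ker (K.d j k).hom) :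
    (HomologicalComplex.homologyMap φ j).hom (cls K j k hjk z) =
      cls L j k hjk ⟨(φ.f j).hom z.1, map_mem_ker φ j k z⟩ := by
  have h1 := HomologicalComplex.homologyπ_naturality φ j
  have h2 : (HomologicalComplex.homologyMap φ j).hom ((K.homologyπ j).hom (toCyc K j k hjk z)) =
      (L.homologyπ j).hom ((HomologicalComplex.cyclesMap φ j).hom (toCyc K j k hjk z)) :=
    congr($(h1).hom (toCyc K j k hjk z))
  change (HomologicalComplex.homologyMap φ j).hom ((K.homologyπ j).hom (toCyc K j k hjk z)) =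
    (L.homologyπ j).hom (toCyc L j k hjk ⟨(φ.f j).hom z.1, map_mem_ker φ j k z⟩)
  rw [h2]
  congr 1
  apply iCycles_injective L j
  rw [iCycles_toCyc]
  have h3 := HomologicalComplex.cyclesMap_i φ j
  have h4 : (L.iCycles j).hom ((HomologicalComplex.cyclesMap φ j).hom (toCyc K j k hjk z)) =
      (φ.f j).hom ((K.iCycles j).hom (toCyc K j k hjk z)) := congr($(h3).hom (toCyc K j k hjk z))
  rw [h4, iCycles_toCyc]

end Homology


section LowData

lemma smul_id_f_apply (K : CochainComplex (ModuleCat.{u} A) ℤ) (f : A) (j : ℤ) (x : K.X j) :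
    ((f • 𝟙 K : K ⟶ K).f j).hom x = f • x := by
  simp

/-- explicit description of the two lowest terms of a complex -/
structure LowData (K : CochainComplex (ModuleCat.{u} A) ℤ) (b0 b1 b2 : ℤ)
    (M : Type u) [AddCommGroup M] [Module A M] {r : ℕ} (g : Fin r → A) where
  zero_below : ∀ j : ℤ, j < b0 → Subsingleton (K.X j)
  a0 : K.X b0 ≃ₗ[A] M
  a1 : K.X b1 ≃ₗ[A] (Fin r → M)
  d0 : ∀ x : K.X b0, a1 ((K.d b0 b1).hom x) = fun i => g i • a0 x
  d1 : ∀ y : K.X b1, (K.d b1 b2).hom y = 0 ↔ ∀ i j, g i • a1 y j = g j • a1 y i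

namespace LowData

variable {K : CochainComplex (ModuleCat.{u} A) ℤ} {b0 b1 b2 : ℤ}
  {M : Type u} [AddCommGroup M] [Module A M] {r : ℕ} {g : Fin r → A}
  (D : LowData K b0 b1 b2 M g) (f : A) (c : ℤ) (hc : c + 1 = b0) (h01 : b0 + 1 = b1)
  (h12 : b1 + 1 = b2)

/-- bottom iso for the cone -/
noncomputable def coneA0 : (mappingCone (f • 𝟙 K)).X c ≃ₗ[A] M :=
  (LinearEquiv.ofBijective (cf (f • 𝟙 K) c b0 hc) (by
    haveI := D.zero_below c (by omega)
    constructor
    · intro x y hxy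
      exact cone_ext _ c b0 hc hxy (Subsingleton.elim _ _)
    · intro u
      exact ⟨ci _ c b0 hc u, cf_ci _ c b0 hc u⟩)).trans D.a0

lemma coneA0_apply (x : (mappingCone (f • 𝟙 K)).X c) :
    D.coneA0 f c hc x = D.a0 (cf (f • 𝟙 K) c b0 hc x) := rfl

/-- second iso for the cone, as a linear map -/
noncomputable def coneA1Lin : (mappingCone (f • 𝟙 K)).X b0 →ₗ[A] (Fin (r + 1) → M) :=
  LinearMap.pi (fun i => Fin.cases (motive := fun _ => (mappingCone (f • 𝟙 K)).X b0 →ₗ[A] M)
    (D.a0.toLinearMap ∘ₗ cs (f • 𝟙 K) b0)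
    (fun i => -(LinearMap.proj i ∘ₗ D.a1.toLinearMap ∘ₗ cf (f • 𝟙 K) b0 b1 h01)) i)

lemma coneA1Lin_zero (y : (mappingCone (f • 𝟙 K)).X b0) :
    D.coneA1Lin f h01 y 0 = D.a0 (cs (f • 𝟙 K) b0 y) := rfl

lemma coneA1Lin_succ (y : (mappingCone (f • 𝟙 K)).X b0) (i : Fin r) :
    D.coneA1Lin f h01 y i.succ = -(D.a1 (cf (f • 𝟙 K) b0 b1 h01 y) i) := by
  simp [coneA1Lin]

/-- second iso for the cone -/
noncomputable def coneA1 : (mappingCone (f • 𝟙 K)).X b0 ≃ₗ[A] (Fin (r + 1) → M) :=
  LinearEquiv.ofBijective (D.coneA1Lin f h01) (by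
    constructor
    · rw [injective_iff_map_eq_zero]
      intro y hy
      have h0 : cs (f • 𝟙 K) b0 y = 0 := by
        apply D.a0.injective
        rw [map_zero, ← D.coneA1Lin_zero f h01 y, hy]
        rfl
      have h1 : cf (f • 𝟙 K) b0 b1 h01 y = 0 := by
        apply D.a1.injective
        rw [map_zero]
        funext i
        have := D.coneA1Lin_succ f h01 y i
        rw [hy] at this
        have h2 : -(D.a1 (cf (f • 𝟙 K) b0 b1 h01 y) i) = 0 := this.symm
        rw [neg_eq_zero] at h2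
        exact h2
      apply cone_ext _ b0 b1 h01
      · rw [h1, map_zero]
      · rw [h0, map_zero]
    · intro n
      refine ⟨ci _ b0 b1 h01 (D.a1.symm (fun i => -n i.succ)) + cr _ b0 (D.a0.symm (n 0)), ?_⟩
      funext i
      refine Fin.cases ?_ (fun i => ?_) i
      · rw [coneA1Lin_zero, map_add, cs_ci, cs_cr, zero_add, LinearEquiv.apply_symm_apply]
      · rw [coneA1Lin_succ, map_add, cf_ci, cf_cr, add_zero, LinearEquiv.apply_symm_apply,
          neg_neg])

lemma coneA1_zero (y : (mappingCone (f • 𝟙 K)).X b0) :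
    D.coneA1 f h01 y 0 = D.a0 (cs (f • 𝟙 K) b0 y) := rfl

lemma coneA1_succ (y : (mappingCone (f • 𝟙 K)).X b0) (i : Fin r) :
    D.coneA1 f h01 y i.succ = -(D.a1 (cf (f • 𝟙 K) b0 b1 h01 y) i) :=
  D.coneA1Lin_succ f h01 y i

/-- the low-degree data of a cone of multiplication by `f` -/
noncomputable def cone (g' : Fin (r + 1) → A) (hg0 : g' 0 = f) (hgs : ∀ i, g' i.succ = g i) :
    LowData (mappingCone (f • 𝟙 K)) c b0 b1 M g' where
  zero_below j hj := by
    haveI := D.zero_below j (by omega)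
    haveI := D.zero_below (j + 1) (by omega)
    refine ⟨fun x y => ?_⟩
    exact cone_ext _ j (j + 1) rfl (Subsingleton.elim _ _) (Subsingleton.elim _ _)
  a0 := D.coneA0 f c hc
  a1 := D.coneA1 f h01
  d0 x := by
    haveI := D.zero_below c (by omega)
    funext i
    refine Fin.cases ?_ (fun i => ?_) i
    · rw [coneA1_zero, cs_d _ c b0 hc, smul_id_f_apply, Subsingleton.elim (cs _ c x) 0, map_zero,
        add_zero, map_smul, hg0, coneA0_apply]
    · rw [coneA1_succ, cf_d _ c b0 b1 hc h01, map_neg, Pi.neg_apply, neg_neg, D.d0, hgs,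
        coneA0_apply]
  d1 y := by
    have e1 : ((mappingCone (f • 𝟙 K)).d b0 b1).hom y = 0 ↔
        (K.d b1 b2).hom (cf _ b0 b1 h01 y) = 0 ∧
          f • cf (f • 𝟙 K) b0 b1 h01 y + (K.d b0 b1).hom (cs _ b0 y) = 0 := by
      constructor
      · intro h
        have h1 := cf_d (f • 𝟙 K) b0 b1 b2 h01 h12 y
        have h2 := cs_d (f • 𝟙 K) b0 b1 h01 y
        rw [h, map_zero] at h1 h2
        rw [smul_id_f_apply] at h2
        exact ⟨by rw [← neg_eq_zero]; exact h1.symm, h2.symm⟩
      · rintro ⟨h1, h2⟩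
        apply cone_ext _ b1 b2 h12
        · rw [cf_d (f • 𝟙 K) b0 b1 b2 h01 h12 y, h1, neg_zero, map_zero]
        · rw [cs_d (f • 𝟙 K) b0 b1 h01 y, smul_id_f_apply, h2, map_zero]
    rw [e1, D.d1]
    have e2 : f • cf (f • 𝟙 K) b0 b1 h01 y + (K.d b0 b1).hom (cs _ b0 y) = 0 ↔
        ∀ i, f • D.a1 (cf (f • 𝟙 K) b0 b1 h01 y) i + g i • D.a0 (cs _ b0 y) = 0 := by
      rw [← D.a1.map_eq_zero_iff, map_add, map_smul, D.d0]
      constructor
      · intro h i
        exact congrFun h i
      · intro h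
        funext i
        exact h i
    rw [e2]
    constructor
    · rintro ⟨h1, h2⟩ i j
      refine Fin.cases ?_ (fun i => ?_) i <;> refine Fin.cases ?_ (fun j => ?_) j
      · rfl
      · rw [coneA1_zero, coneA1_succ, hg0, hgs, smul_neg]
        have := h2 j
        rw [add_eq_zero_iff_eq_neg] at this
        rw [this, neg_neg]
      · rw [coneA1_zero, coneA1_succ, hg0, hgs, smul_neg]
        have := h2 i
        rw [add_eq_zero_iff_eq_neg] at this
        rw [this, neg_neg]
      · rw [coneA1_succ, coneA1_succ, hgs, hgs, smul_neg, smul_neg, h1 i j]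
    · intro h
      constructor
      · intro i j
        have := h i.succ j.succ
        rw [coneA1_succ, coneA1_succ, hgs, hgs, smul_neg, smul_neg, neg_inj] at this
        exact this
      · intro i
        have := h 0 i.succ
        rw [coneA1_zero, coneA1_succ, hg0, hgs, smul_neg] at this
        rw [← this, add_neg_cancel]

end LowData

end LowData


section Koszul

open CohIII

/-- base case: the complex `M` in degree `0` -/
noncomputable def lowDataNil (M : ModuleCat.{u} A) (b0 b1 b2 : ℤ) (h0 : b0 = 0) (h01 : b0 + 1 = b1)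
    (h12 : b1 + 1 = b2) (g : Fin 0 → A) :
    LowData ((HomologicalComplex.single (ModuleCat.{u} A) (ComplexShape.up ℤ) 0).obj M)
      b0 b1 b2 M g where
  zero_below j hj := ModuleCat.subsingleton_of_isZero
    (HomologicalComplex.isZero_single_obj_X (ComplexShape.up ℤ) 0 M j (by omega))
  a0 := by
    subst h0
    exact (HomologicalComplex.singleObjXSelf (ComplexShape.up ℤ) 0 M).toLinearEquiv
  a1 :=
    haveI : Subsingleton ↑(((HomologicalComplex.single (ModuleCat.{u} A)
        (ComplexShape.up ℤ) 0).obj M).X b1) := ModuleCat.subsingleton_of_isZero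
      (HomologicalComplex.isZero_single_obj_X (ComplexShape.up ℤ) 0 M b1 (by omega))
    LinearEquiv.ofSubsingleton _ _
  d0 x := funext fun i => i.elim0
  d1 y := by
    haveI : Subsingleton ↑(((HomologicalComplex.single (ModuleCat.{u} A)
        (ComplexShape.up ℤ) 0).obj M).X b2) := ModuleCat.subsingleton_of_isZero
      (HomologicalComplex.isZero_single_obj_X (ComplexShape.up ℤ) 0 M b2 (by omega))
    exact iff_of_true (Subsingleton.elim _ _) (fun i => i.elim0)

/-- low-degree data of the Koszul complex of the `n`-th powers of a list -/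
noncomputable def lowData (M : ModuleCat.{u} A) (n : ℕ) : ∀ (fs : List A) (b0 b1 b2 : ℤ),
    b0 = -(fs.length : ℤ) → b0 + 1 = b1 → b1 + 1 = b2 →
    LowData (koszulCx M (fs.map (· ^ n))) b0 b1 b2 M (fun i : Fin fs.length => fs.get i ^ n)
  | [], b0, b1, b2, h0, h01, h12 => lowDataNil M b0 b1 b2 (by simpa using h0) h01 h12 _
  | f :: fs, b0, b1, b2, h0, h01, h12 =>
    (lowData M n fs b1 b2 (b2 + 1) (by rw [← h01, h0]; simp) h12 rfl).cone (f ^ n) b0 h01 h12 rfl
      _ rfl (fun _ => rfl)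

namespace LowData

lemma smul_f_apply {K K' : CochainComplex (ModuleCat.{u} A) ℤ} (T : K ⟶ K') (e : A) (j : ℤ)
    (x : K.X j) : ((e • T : K ⟶ K').f j).hom x = e • (T.f j).hom x := by
  simp

/-- compatibility of the cone low data with cone maps -/
theorem cone_trans {K K' : CochainComplex (ModuleCat.{u} A) ℤ} {b0 b1 b2 : ℤ}
    {M : Type u} [AddCommGroup M] [Module A M] {r : ℕ} {g g' : Fin r → A}
    (D : LowData K b0 b1 b2 M g) (D' : LowData K' b0 b1 b2 M g') (T : K ⟶ K') (e f f' : A)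
    (comm : (f • 𝟙 K) ≫ (e • T) = T ≫ (f' • 𝟙 K')) (cm : Fin r → A)
    (hT0 : ∀ x, D'.a0 ((T.f b0).hom x) = D.a0 x)
    (hT1 : ∀ y i, D'.a1 ((T.f b1).hom y) i = cm i • D.a1 y i)
    (c : ℤ) (hc : c + 1 = b0) (h01 : b0 + 1 = b1) (h12 : b1 + 1 = b2)
    (γ γ' : Fin (r + 1) → A) (hγ0 : γ 0 = f) (hγs : ∀ i, γ i.succ = g i)
    (hγ'0 : γ' 0 = f') (hγ's : ∀ i, γ' i.succ = g' i) :
    (∀ x, (D'.cone f' c hc h01 h12 γ' hγ'0 hγ's).a0
        (((mappingCone.map (f • 𝟙 K) (f' • 𝟙 K') T (e • T) comm).f c).hom x) =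
        (D.cone f c hc h01 h12 γ hγ0 hγs).a0 x) ∧
    (∀ y i, (D'.cone f' c hc h01 h12 γ' hγ'0 hγ's).a1
        (((mappingCone.map (f • 𝟙 K) (f' • 𝟙 K') T (e • T) comm).f b0).hom y) i =
        (Fin.cases e cm i : A) • (D.cone f c hc h01 h12 γ hγ0 hγs).a1 y i) := by
  constructor
  · intro x
    change D'.a0 (cf _ c b0 hc _) = D.a0 (cf _ c b0 hc x)
    rw [cf_map, hT0]
  · intro y i
    refine Fin.cases ?_ (fun i => ?_) i
    · change D'.a0 (cs _ b0 _) = e • D.a0 (cs _ b0 y)
      rw [cs_map, smul_f_apply, map_smul, hT0]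
    · change D'.coneA1 f' h01 _ i.succ = cm i • D.coneA1 f h01 y i.succ
      rw [coneA1_succ, coneA1_succ, cf_map, hT1, smul_neg]

end LowData

theorem lowData_trans (M : ModuleCat.{u} A) (n m : ℕ) (h : n ≤ m) :
    ∀ (fs : List A) (b0 b1 b2 : ℤ) (h0 : b0 = -(fs.length : ℤ)) (h01 : b0 + 1 = b1)
      (h12 : b1 + 1 = b2),
    (∀ x, (lowData M m fs b0 b1 b2 h0 h01 h12).a0 (((koszulTrans M n m h fs).f b0).hom x) =
      (lowData M n fs b0 b1 b2 h0 h01 h12).a0 x) ∧
    (∀ y i, (lowData M m fs b0 b1 b2 h0 h01 h12).a1 (((koszulTrans M n m h fs).f b1).hom y) i =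
      fs.get i ^ (m - n) • (lowData M n fs b0 b1 b2 h0 h01 h12).a1 y i)
  | [], b0, b1, b2, h0, h01, h12 => by
    refine ⟨fun x => ?_, fun y i => i.elim0⟩
    have : ((koszulTrans M n m h []).f b0).hom x = x := by
      simp [koszulTrans]
    rw [this]
    rfl
  | f :: fs, b0, b1, b2, h0, h01, h12 => by
    obtain ⟨ih0, ih1⟩ := lowData_trans M n m h fs b1 b2 (b2 + 1) (by rw [← h01, h0]; simp) h12 rfl
    have key := LowData.cone_trans
      (lowData M n fs b1 b2 (b2 + 1) (by rw [← h01, h0]; simp) h12 rfl)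
      (lowData M m fs b1 b2 (b2 + 1) (by rw [← h01, h0]; simp) h12 rfl)
      (koszulTrans M n m h fs) (f ^ (m - n)) (f ^ n) (f ^ m)
      (by simp only [Linear.smul_comp, Linear.comp_smul, Category.id_comp, Category.comp_id,
          smul_smul, ← pow_add, Nat.sub_add_cancel h])
      (fun i => fs.get i ^ (m - n)) ih0 ih1 b0 h01 h12 rfl
      (fun i : Fin (fs.length + 1) => (f :: fs).get i ^ n)
      (fun i : Fin (fs.length + 1) => (f :: fs).get i ^ m) rfl (fun _ => rfl) rfl (fun _ => rfl)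
    refine ⟨key.1, fun y i => ?_⟩
    have h2 := key.2 y i
    have h3 : (Fin.cases (f ^ (m - n)) (fun i => fs.get i ^ (m - n)) i : A) =
        (f :: fs).get i ^ (m - n) := by
      refine Fin.cases rfl (fun _ => rfl) i
    rw [h3] at h2
    exact h2

end Koszul


section LevelMaps

/-- cocycles of the explicit model in degree one -/
def Z1 {r : ℕ} (g : Fin r → A) (M : Type u) [AddCommGroup M] [Module A M] :
    Submodule A (Fin r → M) where
  carrier := {u | ∀ i j, g i • u j = g j • u i}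
  add_mem' := by
    intro u v hu hv i j
    simp only [Pi.add_apply, smul_add, hu i j, hv i j]
  zero_mem' := by
    intro i j
    simp
  smul_mem' := by
    intro a u hu i j
    simp only [Pi.smul_apply]
    rw [smul_comm (g i) a, smul_comm (g j) a, hu i j]

/-- boundaries of the explicit model -/
def bd {r : ℕ} (g : Fin r → A) {M : Type u} [AddCommGroup M] [Module A M] (m : M) : Z1 g M :=
  ⟨fun i => g i • m, fun _ _ => smul_comm _ _ _⟩

lemma exists_uniform {κ : Type*} [Finite κ] (p : κ → ℕ → Prop)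
    (hmono : ∀ i n n', n ≤ n' → p i n → p i n') (h : ∀ i, ∃ n, p i n) : ∃ n, ∀ i, p i n := by
  cases nonempty_fintype κ
  choose N hN using h
  exact ⟨Finset.univ.sup N, fun i => hmono i _ _ (Finset.le_sup (Finset.mem_univ i)) (hN i)⟩

lemma pow_smul_eq_zero_of_le {M : Type*} [AddCommGroup M] [Module A M] {a : A} {x : M} {n n' : ℕ}
    (h : n ≤ n') (hx : a ^ n • x = 0) : a ^ n' • x = 0 := by
  obtain ⟨k, rfl⟩ := Nat.exists_eq_add_of_le h
  rw [pow_add, mul_comm, mul_smul, hx, smul_zero]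

namespace LowData

variable {K : CochainComplex (ModuleCat.{u} A) ℤ} {bm b0 b1 b2 : ℤ}
  {M : Type u} [AddCommGroup M] [Module A M] {r : ℕ} {g : Fin r → A}
  (D : LowData K b0 b1 b2 M g) (hm0 : bm + 1 = b0) (h01 : b0 + 1 = b1) (h12 : b1 + 1 = b2)

lemma d0_eq_zero_iff (x : K.X b0) : (K.d b0 b1).hom x = 0 ↔ ∀ i, g i • D.a0 x = 0 := by
  rw [← D.a1.map_eq_zero_iff, D.d0]
  exact ⟨fun h i => congrFun h i, fun h => funext h⟩

include D hm0 in
lemma cls0_injective : Function.Injective (cls K b0 b1 h01) := by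
  have := D.zero_below bm (by omega)
  rw [injective_iff_map_eq_zero]
  intro z hz
  obtain ⟨y, hy⟩ := (cls_eq_zero_iff K bm b0 b1 hm0 h01 z).mp hz
  apply Subtype.ext
  rw [← hy, Subsingleton.elim y 0, map_zero]
  rfl

/-- `H^0 → M` -/
noncomputable def h0 : K.homology b0 →ₗ[A] M :=
  D.a0.toLinearMap ∘ₗ (LinearMap.ker (K.d b0 b1).hom).subtype ∘ₗ
    (LinearEquiv.ofBijective (cls K b0 b1 h01)
      ⟨D.cls0_injective hm0 h01, cls_surjective K b0 b1 h01⟩).symm.toLinearMap

lemma h0_cls (z : LinearMap.ker (K.d b0 b1).hom) :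
    D.h0 hm0 h01 (cls K b0 b1 h01 z) = D.a0 z.1 := by
  unfold h0
  have : (LinearEquiv.ofBijective (cls K b0 b1 h01)
      ⟨D.cls0_injective hm0 h01, cls_surjective K b0 b1 h01⟩).symm (cls K b0 b1 h01 z) = z := by
    rw [LinearEquiv.symm_apply_eq]
    rfl
  simp only [LinearMap.comp_apply, LinearEquiv.coe_coe, this, Submodule.subtype_apply]

lemma h0_injective : Function.Injective (D.h0 hm0 h01) := by
  intro x y hxy
  obtain ⟨z, rfl⟩ := cls_surjective K b0 b1 h01 x
  obtain ⟨z', rfl⟩ := cls_surjective K b0 b1 h01 y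
  rw [h0_cls, h0_cls] at hxy
  have : z = z' := Subtype.ext (D.a0.injective hxy)
  rw [this]

lemma smul_h0 (x : K.homology b0) (i : Fin r) : g i • D.h0 hm0 h01 x = 0 := by
  obtain ⟨z, rfl⟩ := cls_surjective K b0 b1 h01 x
  rw [h0_cls]
  exact (D.d0_eq_zero_iff z.1).mp z.2 i

lemma exists_h0_eq (m : M) (hm : ∀ i, g i • m = 0) : ∃ x, D.h0 hm0 h01 x = m := by
  have hz : D.a0.symm m ∈ LinearMap.ker (K.d b0 b1).hom := by
    rw [LinearMap.mem_ker, D.d0_eq_zero_iff]
    intro i
    rw [LinearEquiv.apply_symm_apply]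
    exact hm i
  exact ⟨cls K b0 b1 h01 ⟨_, hz⟩, by rw [h0_cls, LinearEquiv.apply_symm_apply]⟩

/-- the cocycle of the explicit model attached to a cocycle of `K` -/
noncomputable def toZ1Lin : LinearMap.ker (K.d b1 b2).hom →ₗ[A] Z1 g M :=
  LinearMap.codRestrict (Z1 g M)
    (D.a1.toLinearMap ∘ₗ (LinearMap.ker (K.d b1 b2).hom).subtype) (fun z => (D.d1 z.1).mp z.2)

lemma toZ1Lin_val (z : LinearMap.ker (K.d b1 b2).hom) : (D.toZ1Lin z).1 = D.a1 z.1 := rfl

variable {P : Type*} [AddCommGroup P] [Module A P] (σ : Z1 g M →ₗ[A] P)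
  (hσ : ∀ m : M, σ (bd g m) = 0)

include hσ h01 in
lemma ker_cls_le : LinearMap.ker (cls K b1 b2 h12) ≤ LinearMap.ker (σ ∘ₗ D.toZ1Lin) := by
  intro z hz
  rw [LinearMap.mem_ker] at hz ⊢
  obtain ⟨y, hy⟩ := (cls_eq_zero_iff K b0 b1 b2 h01 h12 z).mp hz
  have : D.toZ1Lin z = bd g (D.a0 y) := by
    apply Subtype.ext
    change D.a1 z.1 = fun i => g i • D.a0 y
    rw [← hy, D.d0]
  rw [LinearMap.comp_apply, this, hσ]

/-- `H^1 → P` -/
noncomputable def h1 : K.homology b1 →ₗ[A] P :=
  (Submodule.liftQ _ (σ ∘ₗ D.toZ1Lin) (D.ker_cls_le h01 h12 σ hσ)) ∘ₗ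
    ((cls K b1 b2 h12).quotKerEquivOfSurjective (cls_surjective K b1 b2 h12)).symm.toLinearMap

lemma h1_cls (z : LinearMap.ker (K.d b1 b2).hom) :
    D.h1 h01 h12 σ hσ (cls K b1 b2 h12 z) = σ (D.toZ1Lin z) := by
  unfold h1
  have : ((cls K b1 b2 h12).quotKerEquivOfSurjective (cls_surjective K b1 b2 h12)).symm
      (cls K b1 b2 h12 z) = Submodule.Quotient.mk z := by
    rw [LinearEquiv.symm_apply_eq]
    rfl
  rw [LinearMap.comp_apply, LinearEquiv.coe_coe, this, Submodule.liftQ_apply]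
  rfl

end LowData

end LevelMaps


section Limit

open CohIII

/-- the direct-limit Koszul cohomology in degree `0` is the kernel of a map `ρ : M → N` whose
kernel consists of the elements killed by powers of all `f_i` -/
theorem koszulHLim_zero (fs : List A) (M : ModuleCat.{u} A) {N : Type*} [AddCommGroup N]
    [Module A N] (ρ : M →ₗ[A] N)
    (hker : ∀ m, ρ m = 0 ↔ ∀ i : Fin fs.length, ∃ n : ℕ, fs.get i ^ n • m = 0) :
    Nonempty (LinearMap.ker ρ ≃ₗ[A] koszulHLim fs M 0) := by
  have hB0 : ((0 : ℕ) : ℤ) - fs.length = -(fs.length : ℤ) := by simp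
  have hB01 : ((0 : ℕ) : ℤ) - fs.length + 1 = ((1 : ℕ) : ℤ) - fs.length := by push_cast; ring
  have hBm : (((0 : ℕ) : ℤ) - fs.length - 1) + 1 = ((0 : ℕ) : ℤ) - fs.length := by ring
  let D := fun n => lowData M n fs _ _ (((1 : ℕ) : ℤ) - fs.length + 1) hB0 hB01 rfl
  let φ : ∀ n, koszulHPow fs M 0 n →ₗ[A] LinearMap.ker ρ := fun n =>
    LinearMap.codRestrict _ ((D n).h0 hBm hB01) (fun x => by
      rw [LinearMap.mem_ker, hker]
      intro i
      exact ⟨n, (D n).smul_h0 hBm hB01 x i⟩)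
  have hφ : ∀ n m (h : n ≤ m) (x : koszulHPow fs M 0 n),
      φ m ((HomologicalComplex.homologyMap (koszulTrans M n m h fs)
        (((0 : ℕ) : ℤ) - fs.length)).hom x) = φ n x := by
    intro n m h x
    obtain ⟨z, rfl⟩ := cls_surjective _ _ _ hB01 x
    apply Subtype.ext
    change (D m).h0 hBm hB01 _ = (D n).h0 hBm hB01 _
    rw [homologyMap_cls, LowData.h0_cls, LowData.h0_cls]
    exact (lowData_trans M n m h fs _ _ _ hB0 hB01 rfl).1 z.1
  let Φ := Module.DirectLimit.lift A ℕ (fun n : ℕ => (koszulHPow fs M 0 n : Type u))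
    (fun n m h => (HomologicalComplex.homologyMap (koszulTrans M n m h fs)
        (((0 : ℕ) : ℤ) - fs.length)).hom) φ hφ
  have hinj : Function.Injective Φ := by
    rw [injective_iff_map_eq_zero]
    intro w hw
    obtain ⟨n, x, rfl⟩ := Module.DirectLimit.exists_of w
    rw [Module.DirectLimit.lift_of] at hw
    have h1 : (D n).h0 hBm hB01 x = 0 := congrArg Subtype.val hw
    have h2 : x = 0 := (D n).h0_injective hBm hB01 (by rw [h1, map_zero])
    rw [h2, map_zero]
  have hsurj : Function.Surjective Φ := by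
    rintro ⟨m, hm⟩
    rw [LinearMap.mem_ker, hker] at hm
    obtain ⟨n, hn⟩ := exists_uniform (fun i n => fs.get i ^ n • m = 0)
      (fun i n n' hnn' h => pow_smul_eq_zero_of_le hnn' h) hm
    obtain ⟨x, hx⟩ := (D n).exists_h0_eq hBm hB01 m hn
    refine ⟨Module.DirectLimit.of A ℕ _ _ n x, ?_⟩
    rw [Module.DirectLimit.lift_of]
    exact Subtype.ext hx
  exact ⟨(LinearEquiv.ofBijective Φ ⟨hinj, hsurj⟩).symm⟩

/-- the direct-limit Koszul cohomology in degree `1` is the cokernel of a map `ρ : M → N` with the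
properties of the restriction map to the union of the basic opens. -/
theorem koszulHLim_one (fs : List A) (M : ModuleCat.{u} A) {N : Type*} [AddCommGroup N]
    [Module A N] (ρ : M →ₗ[A] N)
    (hker : ∀ m, ρ m = 0 ↔ ∀ i : Fin fs.length, ∃ n : ℕ, fs.get i ^ n • m = 0)
    (htf : ∀ s : N, (∀ i : Fin fs.length, ∃ n : ℕ, fs.get i ^ n • s = 0) → s = 0)
    (hext : ∀ (s : N) (i : Fin fs.length), ∃ (n : ℕ) (m : M), fs.get i ^ n • s = ρ m)
    (hglue : ∀ (n : ℕ) (u : Fin fs.length → M),
      (∀ i j, fs.get i ^ n • u j = fs.get j ^ n • u i) →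
      ∃ s : N, ∀ i, fs.get i ^ n • s = ρ (u i)) :
    Nonempty ((N ⧸ LinearMap.range ρ) ≃ₗ[A] koszulHLim fs M 1) := by
  have hB0 : ((0 : ℕ) : ℤ) - fs.length = -(fs.length : ℤ) := by simp
  have hB01 : ((0 : ℕ) : ℤ) - fs.length + 1 = ((1 : ℕ) : ℤ) - fs.length := by push_cast; ring
  let g : ℕ → Fin fs.length → A := fun n i => fs.get i ^ n
  let D := fun n => lowData M n fs _ _ (((1 : ℕ) : ℤ) - fs.length + 1) hB0 hB01 rfl
  have uniq : ∀ (n : ℕ) (s s' : N), (∀ i, g n i • s = g n i • s') → s = s' := by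
    intro n s s' h
    rw [← sub_eq_zero]
    apply htf
    intro i
    exact ⟨n, by rw [smul_sub, h i, sub_self]⟩
  have hgl : ∀ n (u : Z1 (g n) M), ∃ s : N, ∀ i, g n i • s = ρ (u.1 i) :=
    fun n u => hglue n u.1 u.2
  choose glF hglF using hgl
  have glF_eq : ∀ n (u : Z1 (g n) M) (s : N), (∀ i, g n i • s = ρ (u.1 i)) → glF n u = s := by
    intro n u s hs
    apply uniq n
    intro i
    rw [hglF n u i, hs i]
  let gl : ∀ n, Z1 (g n) M →ₗ[A] N := fun n =>
    { toFun := glF n
      map_add' := by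
        intro u v
        apply glF_eq
        intro i
        rw [smul_add, hglF, hglF]
        exact (map_add ρ _ _).symm
      map_smul' := by
        intro a u
        apply glF_eq
        intro i
        rw [RingHom.id_apply, smul_comm, hglF]
        exact (map_smul ρ a _).symm }
  let σ : ∀ n, Z1 (g n) M →ₗ[A] N ⧸ LinearMap.range ρ := fun n =>
    (LinearMap.range ρ).mkQ ∘ₗ gl n
  have hσ : ∀ n (m : M), σ n (bd (g n) m) = 0 := by
    intro n m
    have : glF n (bd (g n) m) = ρ m := glF_eq n _ _ (fun i => (map_smul ρ _ _).symm)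
    change (LinearMap.range ρ).mkQ (glF n (bd (g n) m)) = 0
    rw [this, Submodule.mkQ_apply, Submodule.Quotient.mk_eq_zero]
    exact ⟨m, rfl⟩
  let ψ : ∀ n, koszulHPow fs M 1 n →ₗ[A] N ⧸ LinearMap.range ρ := fun n =>
    (D n).h1 hB01 rfl (σ n) (hσ n)
  have hψ : ∀ n m (h : n ≤ m) (x : koszulHPow fs M 1 n),
      ψ m ((HomologicalComplex.homologyMap (koszulTrans M n m h fs)
        (((1 : ℕ) : ℤ) - fs.length)).hom x) = ψ n x := by
    intro n m h x
    obtain ⟨z, rfl⟩ := cls_surjective _ _ _ rfl x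
    change (D m).h1 hB01 rfl (σ m) (hσ m) _ = (D n).h1 hB01 rfl (σ n) (hσ n) _
    rw [homologyMap_cls, LowData.h1_cls, LowData.h1_cls]
    change (LinearMap.range ρ).mkQ (glF m _) = (LinearMap.range ρ).mkQ (glF n _)
    congr 1
    apply glF_eq
    intro i
    have h1 := (lowData_trans M n m h fs _ _ _ hB0 hB01 rfl).2 z.1 i
    change g m i • glF n ((D n).toZ1Lin z) =
      ρ ((D m).a1 (((koszulTrans M n m h fs).f (((1 : ℕ) : ℤ) - fs.length)).hom z.1) i)
    have h2 : ρ ((lowData M n fs _ _ (((1 : ℕ) : ℤ) - fs.length + 1) hB0 hB01 rfl).a1 z.1 i) =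
        g n i • glF n ((D n).toZ1Lin z) := (hglF n ((D n).toZ1Lin z) i).symm
    rw [h1, map_smul, h2, smul_smul]
    congr 1
    change fs.get i ^ m = fs.get i ^ (m - n) * fs.get i ^ n
    rw [← pow_add, Nat.sub_add_cancel h]
  let Ψ := Module.DirectLimit.lift A ℕ (fun n : ℕ => (koszulHPow fs M 1 n : Type u))
    (fun n m h => (HomologicalComplex.homologyMap (koszulTrans M n m h fs)
        (((1 : ℕ) : ℤ) - fs.length)).hom) ψ hψ
  have hinj : Function.Injective Ψ := by
    rw [injective_iff_map_eq_zero]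
    intro w hw
    obtain ⟨n, x, rfl⟩ := Module.DirectLimit.exists_of w
    rw [Module.DirectLimit.lift_of] at hw
    obtain ⟨z, rfl⟩ := cls_surjective _ _ _ rfl x
    change (D n).h1 hB01 rfl (σ n) (hσ n) _ = 0 at hw
    rw [LowData.h1_cls] at hw
    change (LinearMap.range ρ).mkQ (glF n ((D n).toZ1Lin z)) = 0 at hw
    rw [Submodule.mkQ_apply, Submodule.Quotient.mk_eq_zero] at hw
    obtain ⟨m0, hm0⟩ := hw
    have h1 : ∀ i, ∃ k, fs.get i ^ k • ((D n).a1 z.1 i - fs.get i ^ n • m0) = 0 := by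
      intro i
      have : ρ ((D n).a1 z.1 i - fs.get i ^ n • m0) = 0 := by
        rw [map_sub, map_smul, hm0]
        have := hglF n ((D n).toZ1Lin z) i
        rw [sub_eq_zero]
        exact this.symm
      exact (hker _).mp this i
    obtain ⟨k, hk⟩ := exists_uniform
      (fun i k => fs.get i ^ k • ((D n).a1 z.1 i - fs.get i ^ n • m0) = 0)
      (fun i n n' hn h => pow_smul_eq_zero_of_le hn h) h1
    have hle : n ≤ n + k := Nat.le_add_right n k
    have hzero : (HomologicalComplex.homologyMap (koszulTrans M n (n + k) hle fs)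
        (((1 : ℕ) : ℤ) - fs.length)).hom (cls _ _ _ rfl z) = 0 := by
      rw [homologyMap_cls, cls_eq_zero_iff _ _ _ _ hB01 rfl]
      refine ⟨(D (n + k)).a0.symm m0, ?_⟩
      apply (D (n + k)).a1.injective
      rw [(D (n + k)).d0]
      funext i
      rw [LinearEquiv.apply_symm_apply]
      have h2 := (lowData_trans M n (n + k) hle fs _ _ _ hB0 hB01 rfl).2 z.1 i
      change _ = (D (n + k)).a1 _ i
      rw [h2, Nat.add_sub_cancel_left]
      have h3 := hk i
      rw [smul_sub, sub_eq_zero, smul_smul, ← pow_add] at h3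
      rw [h3, add_comm]
    rw [← Module.DirectLimit.of_f (hij := hle), hzero, map_zero]
  have hsurj : Function.Surjective Ψ := by
    intro q
    obtain ⟨s, rfl⟩ := Submodule.mkQ_surjective _ q
    -- uniform exponent for extensions
    obtain ⟨n, hn⟩ := exists_uniform (fun i n => ∃ m : M, fs.get i ^ n • s = ρ m)
      (fun i n n' hnn' h => by
        obtain ⟨m, hm⟩ := h
        obtain ⟨k, rfl⟩ := Nat.exists_eq_add_of_le hnn'
        exact ⟨fs.get i ^ k • m, by rw [pow_add, mul_comm, mul_smul, hm, map_smul]⟩)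
      (hext s)
    choose m' hm' using hn
    -- uniform exponent killing the cocycle defects
    have h1 : ∀ p : Fin fs.length × Fin fs.length, ∃ k,
        fs.get p.1 ^ k • (fs.get p.1 ^ n • m' p.2 - fs.get p.2 ^ n • m' p.1) = 0 := by
      rintro ⟨i, j⟩
      have : ρ (fs.get i ^ n • m' j - fs.get j ^ n • m' i) = 0 := by
        rw [map_sub, map_smul, map_smul, ← hm' j, ← hm' i, smul_comm, sub_self]
      exact (hker _).mp this i
    obtain ⟨k, hk⟩ := exists_uniform (fun (p : Fin fs.length × Fin fs.length) k =>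
        fs.get p.1 ^ k • (fs.get p.1 ^ n • m' p.2 - fs.get p.2 ^ n • m' p.1) = 0)
      (fun p n n' hn h => pow_smul_eq_zero_of_le hn h) h1
    let u : Fin fs.length → M := fun i => fs.get i ^ k • m' i
    have hu : u ∈ Z1 (g (n + k)) M := by
      intro i j
      have h2 := hk (i, j)
      change fs.get i ^ (n + k) • (fs.get j ^ k • m' j) = fs.get j ^ (n + k) • (fs.get i ^ k • m' i)
      have h3 : fs.get j ^ k • (fs.get i ^ k • (fs.get i ^ n • m' j - fs.get j ^ n • m' i)) = 0 := by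
        rw [h2, smul_zero]
      rw [smul_sub, smul_sub, sub_eq_zero, smul_smul, smul_smul, smul_smul, smul_smul] at h3
      rw [smul_smul, smul_smul]
      convert h3 using 2 <;> ring
    have hcoc : (D (n + k)).a1.symm u ∈ LinearMap.ker
        ((koszulCx M (fs.map (· ^ (n + k)))).d (((1 : ℕ) : ℤ) - fs.length)
          (((1 : ℕ) : ℤ) - fs.length + 1)).hom := by
      rw [LinearMap.mem_ker, (D (n + k)).d1, LinearEquiv.apply_symm_apply]
      exact hu
    refine ⟨Module.DirectLimit.of A ℕ _ _ (n + k) (cls _ _ _ rfl ⟨_, hcoc⟩), ?_⟩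
    rw [Module.DirectLimit.lift_of]
    change (D (n + k)).h1 hB01 rfl (σ (n + k)) (hσ (n + k)) _ = _
    rw [LowData.h1_cls]
    change (LinearMap.range ρ).mkQ (glF (n + k) _) = (LinearMap.range ρ).mkQ s
    congr 1
    apply glF_eq
    intro i
    change fs.get i ^ (n + k) • s = ρ ((D (n + k)).a1 ((D (n + k)).a1.symm u) i)
    rw [LinearEquiv.apply_symm_apply, pow_add, mul_comm, mul_smul, hm' i, map_smul]
  exact ⟨(LinearEquiv.ofBijective Ψ ⟨hinj, hsurj⟩).symm⟩

end Limit

end Groth.Agent.Lib.R2H2.KoszulLow
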