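import Groth.Agent.Lib.R2H2CechCmp
import Groth.Agent.Lib.R2H2KoszulLow

/-!
# The localization presheaf on the lattice of submonoids and its Čech complex (helper2, round 2)

For a commutative ring `A` and an `A`-module `N`, the presheaf `S ↦ S⁻¹ N` on the lattice of
submonoids of `A` (ordered by reverse inclusion), and its Čech complex with respect to the
family of submonoids `powers f_i`.  This is a purely algebraic model of the Čech complex of a
quasi-coherent module with respect to basic opens.
-/

set_option autoImplicit false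
universe u

namespace Groth.Agent.Lib.R2H2.LocPsh

open CategoryTheory CategoryTheory.Limits Opposite
open Groth.Agent.Lib.Helper16.CechLow

variable {A : Type u} [CommRing A]

section LocMap

variable (N : Type u) [AddCommGroup N] [Module A N]

lemma isUnit_of_le {T T' : Submonoid A} (h : T ≤ T') (t : T) :
    IsUnit ((algebraMap A (Module.End A (LocalizedModule T' N))) t) :=
  IsLocalizedModule.map_units (LocalizedModule.mkLinearMap T' N) ⟨t.1, h t.2⟩

/-- localizing further -/
noncomputable def locMap {T T' : Submonoid A} (h : T ≤ T') :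
    LocalizedModule T N →ₗ[A] LocalizedModule T' N :=
  LocalizedModule.lift T (LocalizedModule.mkLinearMap T' N) (isUnit_of_le N h)

lemma locMap_mk {T T' : Submonoid A} (h : T ≤ T') (n : N) (t : T) :
    locMap N h (LocalizedModule.mk n t) = LocalizedModule.mk n ⟨t.1, h t.2⟩ := by
  unfold locMap
  rw [LocalizedModule.lift_mk, Module.End.algebraMap_isUnit_inv_apply_eq_iff,
    LocalizedModule.mkLinearMap_apply]
  change _ = (t.1 : A) • LocalizedModule.mk n (⟨t.1, h t.2⟩ : T')
  rw [LocalizedModule.smul'_mk]
  exact (LocalizedModule.mk_cancel (⟨t.1, h t.2⟩ : T') n).symm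

lemma locMap_comp_mkLinearMap {T T' : Submonoid A} (h : T ≤ T') :
    (locMap N h).comp (LocalizedModule.mkLinearMap T N) = LocalizedModule.mkLinearMap T' N :=
  LocalizedModule.lift_comp T _ _

lemma locMap_refl (T : Submonoid A) : locMap N (le_refl T) = LinearMap.id := by
  ext x
  induction x with | _ n t
  rw [locMap_mk]
  rfl

lemma locMap_trans {T T' T'' : Submonoid A} (h : T ≤ T') (h' : T' ≤ T'') :
    (locMap N h').comp (locMap N h) = locMap N (h.trans h') := by
  ext x
  induction x with | _ n t
  rw [LinearMap.comp_apply, locMap_mk, locMap_mk, locMap_mk]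

end LocMap


/-- the lattice of submonoids of `A`, ordered by reverse inclusion -/
abbrev Sm (A : Type u) [CommRing A] : Type u := (Submonoid A)ᵒᵈ

section Psh

variable (N : Type u) [AddCommGroup N] [Module A N]

lemma le_of_hom_op {S S' : (Sm A)ᵒᵖ} (f : S ⟶ S') :
    OrderDual.ofDual S.unop ≤ OrderDual.ofDual S'.unop :=
  OrderDual.ofDual_le_ofDual.mpr (leOfHom f.unop)

/-- the localization presheaf `S ↦ S⁻¹ N` -/
noncomputable def psh : (Sm A)ᵒᵖ ⥤ AddCommGrpCat.{u} where
  obj S := AddCommGrpCat.of (LocalizedModule (OrderDual.ofDual S.unop) N)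
  map {S S'} f := AddCommGrpCat.ofHom (locMap N (le_of_hom_op f)).toAddMonoidHom
  map_id S := by
    ext x
    change locMap N (le_refl _) x = x
    rw [locMap_refl]
    rfl
  map_comp {S S' S''} f g := by
    ext x
    change locMap N (le_of_hom_op (f ≫ g)) x =
      locMap N (le_of_hom_op g) (locMap N (le_of_hom_op f) x)
    rw [← LinearMap.comp_apply, locMap_trans]

lemma psh_map_apply {S S' : (Sm A)ᵒᵖ} (f : S ⟶ S')
    (x : LocalizedModule (OrderDual.ofDual S.unop) N) :
    (psh N).map f x = locMap N (le_of_hom_op f) x := rfl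

variable {N} {N' : Type u} [AddCommGroup N'] [Module A N']

/-- functoriality of localization in the module -/
noncomputable def nMap (T : Submonoid A) (g : N →ₗ[A] N') :
    LocalizedModule T N →ₗ[A] LocalizedModule T N' :=
  IsLocalizedModule.map T (LocalizedModule.mkLinearMap T N) (LocalizedModule.mkLinearMap T N') g

lemma nMap_mk (T : Submonoid A) (g : N →ₗ[A] N') (n : N) (t : T) :
    nMap T g (LocalizedModule.mk n t) = LocalizedModule.mk (g n) t := by
  unfold nMap
  exact IsLocalizedModule.map_LocalizedModules (R := A) T g n t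

lemma nMap_locMap {T T' : Submonoid A} (h : T ≤ T') (g : N →ₗ[A] N')
    (x : LocalizedModule T N) : nMap T' g (locMap N h x) = locMap N' h (nMap T g x) := by
  induction x with | _ n t
  rw [locMap_mk, nMap_mk, nMap_mk, locMap_mk]

/-- the map of presheaves induced by a linear map -/
noncomputable def pshMap (g : N →ₗ[A] N') : psh (A := A) N ⟶ psh (A := A) N' where
  app S := AddCommGrpCat.ofHom (nMap (OrderDual.ofDual S.unop) g).toAddMonoidHom
  naturality {S S'} f := by
    ext x
    exact nMap_locMap (le_of_hom_op f) g x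

lemma pshMap_app_apply (g : N →ₗ[A] N') (S : (Sm A)ᵒᵖ)
    (x : LocalizedModule (OrderDual.ofDual S.unop) N) :
    (pshMap g).app S x = nMap (OrderDual.ofDual S.unop) g x := rfl

end Psh


section Cech

variable (fs : List A)

/-- the index type of the Čech complex -/
abbrev Idx : Type u := ULift.{u} (Fin fs.length)

/-- the family of submonoids `powers f_i` -/
def fam : Idx fs → Sm A := fun i => OrderDual.toDual (Submonoid.powers (fs.get i.down))

/-- the submonoid attached to a tuple of indices -/
noncomputable def SS {n : ℕ} (x : Fin (n + 1) → Idx fs) : Submonoid A :=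
  OrderDual.ofDual (Ux (fam fs) x)

lemma get_mem_SS {n : ℕ} (x : Fin (n + 1) → Idx fs) (k : Fin (n + 1)) :
    fs.get (x k).down ∈ SS fs x := by
  have h : Ux (fam fs) x ≤ fam fs (x k) := leOfHom (Pi.π (fam fs ∘ x) k)
  have h' : Submonoid.powers (fs.get (x k).down) ≤ SS fs x := OrderDual.ofDual_le_ofDual.mpr h
  exact h' (Submonoid.mem_powers _)

lemma SS_le {n : ℕ} (x : Fin (n + 1) → Idx fs) (T : Submonoid A)
    (hT : ∀ k, fs.get (x k).down ∈ T) : SS fs x ≤ T := by
  have h : ∀ k, OrderDual.toDual T ≤ fam fs (x k) := by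
    intro k
    change Submonoid.powers (fs.get (x k).down) ≤ T
    rw [Submonoid.powers_le]
    exact hT k
  have h2 : OrderDual.toDual T ≤ Ux (fam fs) x :=
    leOfHom (Pi.lift (fun k => homOfLE (h k)))
  exact OrderDual.ofDual_le_ofDual.mpr h2

lemma SS_face_le {n : ℕ} (x : Fin (n + 2) → Idx fs) (i : Fin (n + 2)) :
    SS fs (x ∘ Fin.succAbove i) ≤ SS fs x :=
  OrderDual.ofDual_le_ofDual.mpr (leOfHom (face (fam fs) x i))

variable (N : Type u) [AddCommGroup N] [Module A N]

/-- the Čech complex of the localization presheaf -/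
noncomputable abbrev CN : CochainComplex AddCommGrpCat.{u} ℕ := CK (fam fs) (psh (A := A) N)

lemma psh_face_apply {n : ℕ} (x : Fin (n + 2) → Idx fs) (i : Fin (n + 2))
    (s : LocalizedModule (SS fs (x ∘ Fin.succAbove i)) N) :
    (psh (A := A) N).map (face (fam fs) x i).op s = locMap N (SS_face_le fs x i) s := rfl

end Cech


section MkZero

variable {N : Type u} [AddCommGroup N] [Module A N]

lemma mk_eq_zero_iff (T : Submonoid A) (n : N) (s : T) :
    LocalizedModule.mk n s = 0 ↔ ∃ t : T, t • n = 0 := by
  rw [IsLocalizedModule.mk_eq_mk', IsLocalizedModule.mk'_eq_zero']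

lemma mk_eq_zero_of_smul (T : Submonoid A) (n : N) (s : T) (t : A) (ht : t ∈ T) (h : t • n = 0) :
    LocalizedModule.mk n s = 0 :=
  (mk_eq_zero_iff T n s).mpr ⟨⟨t, ht⟩, h⟩

/-- the submonoid of scalars acting bijectively -/
def bijSub (P : Type*) [AddCommGroup P] [Module A P] : Submonoid A where
  carrier := {a | Function.Bijective (fun y : P => a • y)}
  one_mem' := by
    have : (fun y : P => (1 : A) • y) = id := by funext y; exact one_smul A y
    rw [Set.mem_ofPred_eq, this]
    exact Function.bijective_id
  mul_mem' := by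
    intro a b ha hb
    have : (fun y : P => (a * b) • y) = (fun y => a • y) ∘ (fun y => b • y) := by
      funext y
      exact mul_smul a b y
    rw [Set.mem_ofPred_eq, this]
    exact Function.Bijective.comp ha hb

lemma mem_bijSub {P : Type*} [AddCommGroup P] [Module A P] (a : A) :
    a ∈ bijSub (A := A) P ↔ Function.Bijective (fun y : P => a • y) := Iff.rfl

lemma le_bijSub_localized (T : Submonoid A) : T ≤ bijSub (A := A) (LocalizedModule T N) := by
  intro t ht
  have h := IsLocalizedModule.map_units (LocalizedModule.mkLinearMap T N) ⟨t, ht⟩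
  rw [Module.End.isUnit_iff] at h
  exact h

lemma smul_mk' (T : Submonoid A) (a : A) (n : N) (s : T) :
    a • LocalizedModule.mk n s = LocalizedModule.mk (a • n) s := LocalizedModule.smul'_mk a n s

lemma bijSub_le_localized (T : Submonoid A) :
    bijSub (A := A) N ≤ bijSub (A := A) (LocalizedModule T N) := by
  intro a ha
  rw [mem_bijSub] at ha ⊢
  have h1 : ∀ y : LocalizedModule T N,
      nMap T (a • (LinearMap.id : N →ₗ[A] N)) y = a • y := by
    intro y
    induction y with | _ n s
    rw [nMap_mk, smul_mk']
    rfl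
  have h2 : (fun y : LocalizedModule T N => a • y) =
      nMap T (a • (LinearMap.id : N →ₗ[A] N)) := by
    funext y
    exact (h1 y).symm
  rw [h2]
  constructor
  · exact IsLocalizedModule.map_injective T (LocalizedModule.mkLinearMap T N)
      (LocalizedModule.mkLinearMap T N) _ ha.1
  · exact IsLocalizedModule.map_surjective T (LocalizedModule.mkLinearMap T N)
      (LocalizedModule.mkLinearMap T N) _ ha.2

lemma locMap_eq_zero {T T' : Submonoid A} (h : T ≤ T') (w : LocalizedModule T N)
    (hw : locMap N h w = 0) : ∃ t' ∈ T', t' • w = 0 := by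
  induction w with | _ n s
  rw [locMap_mk, mk_eq_zero_iff] at hw
  obtain ⟨t', ht'⟩ := hw
  refine ⟨t'.1, t'.2, ?_⟩
  rw [smul_mk']
  have h2 : t'.1 • n = 0 := ht'
  rw [h2, LocalizedModule.zero_mk]

lemma locMap_injective_of {T T' : Submonoid A} (h : T ≤ T')
    (hT' : T' ≤ bijSub (A := A) (LocalizedModule T N)) : Function.Injective (locMap N h) := by
  rw [injective_iff_map_eq_zero]
  intro w hw
  obtain ⟨t', ht', h0⟩ := locMap_eq_zero h w hw
  have h1 := (hT' ht').1
  apply h1
  change t' • w = t' • 0
  rw [h0, smul_zero]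

lemma locMap_surjective_of {T T' : Submonoid A} (h : T ≤ T')
    (hT' : T' ≤ bijSub (A := A) (LocalizedModule T N)) : Function.Surjective (locMap N h) := by
  intro x
  induction x with | _ n t'
  obtain ⟨y, hy⟩ := (hT' t'.2).2 (LocalizedModule.mk n 1)
  have hy' : t'.1 • y = LocalizedModule.mk n 1 := hy
  refine ⟨y, ?_⟩
  have h1 : t'.1 • locMap N h y = t'.1 • LocalizedModule.mk n t' := by
    rw [← map_smul, hy', locMap_mk, smul_mk']
    exact (LocalizedModule.mk_cancel t' n).symm
  exact IsLocalizedModule.smul_injective (LocalizedModule.mkLinearMap T' N) t' h1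

lemma locMap_bijective_of {T T' : Submonoid A} (h : T ≤ T')
    (hT' : T' ≤ bijSub (A := A) (LocalizedModule T N)) : Function.Bijective (locMap N h) :=
  ⟨locMap_injective_of h hT', locMap_surjective_of h hT'⟩

lemma mk_bijective_of (T : Submonoid A) (hT : T ≤ bijSub (A := A) N) :
    Function.Bijective (LocalizedModule.mkLinearMap T N) := by
  constructor
  · rw [injective_iff_map_eq_zero]
    intro n hn
    rw [LocalizedModule.mkLinearMap_apply, mk_eq_zero_iff] at hn
    obtain ⟨t, ht⟩ := hn
    have h1 := (hT t.2).1
    apply h1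
    change t.1 • n = t.1 • 0
    rw [smul_zero]
    exact ht
  · intro x
    induction x with | _ n t
    obtain ⟨n', hn'⟩ := (hT t.2).2 n
    have hn'' : t.1 • n' = n := hn'
    refine ⟨n', ?_⟩
    rw [LocalizedModule.mkLinearMap_apply, LocalizedModule.mk_eq]
    refine ⟨1, ?_⟩
    rw [one_smul, one_smul, one_smul]
    exact hn''

end MkZero

section Exactness

variable {N N' N'' : Type u} [AddCommGroup N] [Module A N] [AddCommGroup N'] [Module A N']
  [AddCommGroup N''] [Module A N'']

lemma nMap_injective (T : Submonoid A) (g : N →ₗ[A] N') (hg : Function.Injective g) :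
    Function.Injective (nMap T g) :=
  IsLocalizedModule.map_injective T (LocalizedModule.mkLinearMap T N)
    (LocalizedModule.mkLinearMap T N') g hg

lemma nMap_surjective (T : Submonoid A) (g : N →ₗ[A] N') (hg : Function.Surjective g) :
    Function.Surjective (nMap T g) :=
  IsLocalizedModule.map_surjective T (LocalizedModule.mkLinearMap T N)
    (LocalizedModule.mkLinearMap T N') g hg

lemma nMap_exact (T : Submonoid A) (g : N →ₗ[A] N') (h : N' →ₗ[A] N'')
    (hex : Function.Exact g h) : Function.Exact (nMap T g) (nMap T h) :=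
  IsLocalizedModule.map_exact T (LocalizedModule.mkLinearMap T N)
    (LocalizedModule.mkLinearMap T N') (LocalizedModule.mkLinearMap T N'') g h hex

variable (fs : List A) (a : N' →ₗ[A] N) (b : N →ₗ[A] N'')

/-- the short complex of Čech complexes attached to an exact sequence of modules -/
noncomputable def cechSES (hab : Function.Exact a b) :
    ShortComplex (CochainComplex AddCommGrpCat.{u} ℕ) :=
  Groth.Agent.Lib.R2H2.CechCmp.cechSC (fam fs) (pshMap (A := A) a) (pshMap (A := A) b)
    (fun _ x s => (nMap_exact (SS fs x) a b hab).apply_apply_eq_zero s)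

theorem cechSES_shortExact (ha : Function.Injective a) (hb : Function.Surjective b)
    (hab : Function.Exact a b) : (cechSES fs a b hab).ShortExact :=
  Groth.Agent.Lib.R2H2.CechCmp.cechSC_shortExact (fam fs) (pshMap (A := A) a) (pshMap (A := A) b)
    (fun _ x s => (nMap_exact (SS fs x) a b hab).apply_apply_eq_zero s)
    (fun _ x => nMap_injective (SS fs x) a ha)
    (fun _ x => nMap_surjective (SS fs x) b hb)
    (fun _ x s hs => ((nMap_exact (SS fs x) a b hab) s).mp hs)

end Exactness

section Torsion

variable (fs : List A) (N : Type u) [AddCommGroup N] [Module A N]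

/-- `N` is torsion with respect to the `f_i` -/
def IsTors : Prop := ∀ (n : N) (i : Fin fs.length), ∃ k : ℕ, fs.get i ^ k • n = 0

variable {N}

lemma subsingleton_localized_of_isTors (h : IsTors fs N) {n : ℕ} (x : Fin (n + 1) → Idx fs) :
    Subsingleton (LocalizedModule (SS fs x) N) := by
  refine ⟨fun y y' => ?_⟩
  have h0 : ∀ w : LocalizedModule (SS fs x) N, w = 0 := by
    intro w
    induction w with | _ m s
    obtain ⟨k, hk⟩ := h m (x 0).down
    exact mk_eq_zero_of_smul _ m s _ (pow_mem (get_mem_SS fs x 0) k) hk
  rw [h0 y, h0 y']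

lemma isZero_CN_X_of_isTors (h : IsTors fs N) (n : ℕ) : IsZero ((CN fs N).X n) := by
  have : Subsingleton ((CN fs N).X n) := by
    refine ⟨fun c c' => ?_⟩
    apply elt_ext (fam fs) (psh (A := A) N) n
    intro x
    have := subsingleton_localized_of_isTors fs h x
    exact Subsingleton.elim (α := LocalizedModule (SS fs x) N) _ _
  exact AddCommGrpCat.isZero_of_subsingleton _

lemma isZero_homology_CN_of_isTors (h : IsTors fs N) (n : ℕ) :
    IsZero ((CN fs N).homology n) :=
  ShortComplex.isZero_homology_of_isZero_X₂ _ (isZero_CN_X_of_isTors fs h n)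

end Torsion

end Groth.Agent.Lib.R2H2.LocPsh
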