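import Groth.Agent.Lib.R2H2KoszulLow
import Groth.Agent.Lib.R2H2LocPsh
import Groth.Agent.Lib.Helper13Kz

/-!
# The direct-limit Koszul cohomology as a δ-functor (helper2, round 2)

* functoriality of `CohIII.koszulTrans` (`koszulTrans_refl`, `koszulTrans_trans`) and its
  compatibility with `koszulMap` (`koszulMap_trans`);
* a criterion for a map of direct limits to be bijective;
* for a torsion module the transition maps are essentially zero in positive Koszul degrees
  (`exists_homologyMap_trans_eq_zero`);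
* `limIso_of_torsion_ker`: `koszulHLim` in degrees `≥ 2` does not change modulo torsion;
* `limIso_of_acyclic`: dimension shifting;
* `GoodK`: modules all of whose Koszul cohomology (for all powers) vanishes.
-/

set_option autoImplicit false
universe u

namespace Groth.Agent.Lib.R2H2.KoszulLim

open CategoryTheory CategoryTheory.Limits CochainComplex CohIII
open Groth.Agent.Lib.Helper21 Groth.Agent.Lib.R2H2.KoszulLow

variable {A : Type u} [CommRing A]

section Functoriality

lemma cone_map_congr {K₁ L₁ K₂ L₂ : CochainComplex (ModuleCat.{u} A) ℤ} (φ₁ : K₁ ⟶ L₁)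
    (φ₂ : K₂ ⟶ L₂) {a a' : K₁ ⟶ K₂} {b b' : L₁ ⟶ L₂} (ha : a = a') (hb : b = b')
    (comm : φ₁ ≫ b = a ≫ φ₂) (comm' : φ₁ ≫ b' = a' ≫ φ₂) :
    mappingCone.map φ₁ φ₂ a b comm = mappingCone.map φ₁ φ₂ a' b' comm' := by
  subst ha hb
  rfl

lemma trans_comm (M : ModuleCat.{u} A) (n m : ℕ) (h : n ≤ m) (f : A) (fs : List A) :
    (f ^ n • 𝟙 (koszulCx M (fs.map (· ^ n)))) ≫ (f ^ (m - n) • koszulTrans M n m h fs) =
      koszulTrans M n m h fs ≫ (f ^ m • 𝟙 (koszulCx M (fs.map (· ^ m)))) := by
  simp only [Linear.smul_comp, Linear.comp_smul, Category.id_comp, Category.comp_id, smul_smul,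
    ← pow_add, Nat.sub_add_cancel h]

lemma koszulTrans_cons (M : ModuleCat.{u} A) (n m : ℕ) (h : n ≤ m) (f : A) (fs : List A) :
    koszulTrans M n m h (f :: fs) =
      mappingCone.map (f ^ n • 𝟙 (koszulCx M (fs.map (· ^ n))))
        (f ^ m • 𝟙 (koszulCx M (fs.map (· ^ m)))) (koszulTrans M n m h fs)
        (f ^ (m - n) • koszulTrans M n m h fs) (trans_comm M n m h f fs) := rfl

theorem koszulTrans_refl (M : ModuleCat.{u} A) (n : ℕ) :
    ∀ fs : List A, koszulTrans M n n le_rfl fs = 𝟙 _
  | [] => rfl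
  | f :: fs => by
      have ih := koszulTrans_refl M n fs
      rw [koszulTrans_cons]
      refine (cone_map_congr _ _ ih (by rw [ih, Nat.sub_self, pow_zero, one_smul]) _
        (by rw [Category.id_comp, Category.comp_id])).trans ?_
      exact mappingCone.map_id _

theorem koszulTrans_trans (M : ModuleCat.{u} A) (n m k : ℕ) (h : n ≤ m) (h' : m ≤ k) :
    ∀ fs : List A, koszulTrans M n m h fs ≫ koszulTrans M m k h' fs =
      koszulTrans M n k (h.trans h') fs
  | [] => Category.id_comp _
  | f :: fs => by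
      have ih := koszulTrans_trans M n m k h h' fs
      rw [koszulTrans_cons, koszulTrans_cons, koszulTrans_cons]
      refine (mappingCone.map_comp _ _ _ _ _ _ _ _ _).symm.trans ?_
      apply cone_map_congr
      · exact ih
      · rw [Linear.smul_comp, Linear.comp_smul, smul_smul, ih, ← pow_add]
        congr 2
        omega

lemma koszulMap_cons {M N : ModuleCat.{u} A} (g : M ⟶ N) (f : A) (fs : List A) :
    koszulMap g (f :: fs) = mappingCone.map (f • 𝟙 (koszulCx M fs)) (f • 𝟙 (koszulCx N fs))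
      (koszulMap g fs) (koszulMap g fs) (by
        simp only [Linear.smul_comp, Linear.comp_smul, Category.id_comp, Category.comp_id]) := rfl

theorem koszulMap_trans {M N : ModuleCat.{u} A} (g : M ⟶ N) (n m : ℕ) (h : n ≤ m) :
    ∀ fs : List A, koszulMap g (fs.map (· ^ n)) ≫ koszulTrans N n m h fs =
      koszulTrans M n m h fs ≫ koszulMap g (fs.map (· ^ m))
  | [] => (Category.comp_id _).trans (Category.id_comp _).symm
  | f :: fs => by
      have ih := koszulMap_trans g n m h fs
      rw [koszulTrans_cons, koszulTrans_cons]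
      change koszulMap g (f ^ n :: fs.map (· ^ n)) ≫ _ = _ ≫ koszulMap g (f ^ m :: fs.map (· ^ m))
      rw [koszulMap_cons, koszulMap_cons]
      refine (mappingCone.map_comp _ _ _ _ _ _ _ _ _).symm.trans
        (Eq.trans ?_ (mappingCone.map_comp _ _ _ _ _ _ _ _ _))
      apply cone_map_congr
      · exact ih
      · rw [Linear.comp_smul, Linear.smul_comp, ih]

variable (fs : List A) (M : ModuleCat.{u} A) (j : ℤ)

lemma trH_self (n : ℕ) (x : (koszulCx M (fs.map (· ^ n))).homology j) :
    (HomologicalComplex.homologyMap (koszulTrans M n n le_rfl fs) j).hom x = x := by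
  rw [koszulTrans_refl, HomologicalComplex.homologyMap_id]
  rfl

lemma trH_trH (n m k : ℕ) (h : n ≤ m) (h' : m ≤ k) (x : (koszulCx M (fs.map (· ^ n))).homology j) :
    (HomologicalComplex.homologyMap (koszulTrans M m k h' fs) j).hom
      ((HomologicalComplex.homologyMap (koszulTrans M n m h fs) j).hom x) =
      (HomologicalComplex.homologyMap (koszulTrans M n k (h.trans h') fs) j).hom x := by
  rw [← koszulTrans_trans M n m k h h' fs, HomologicalComplex.homologyMap_comp]
  rfl

lemma trans_f_trans_f (n m k : ℕ) (h : n ≤ m) (h' : m ≤ k) (i : ℤ)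
    (x : (koszulCx M (fs.map (· ^ n))).X i) :
    ((koszulTrans M m k h' fs).f i).hom (((koszulTrans M n m h fs).f i).hom x) =
      ((koszulTrans M n k (h.trans h') fs).f i).hom x := by
  rw [← koszulTrans_trans M n m k h h' fs]
  rfl

variable {M} {M' : ModuleCat.{u} A}

lemma homologyMap_koszulMap_trans (g : M ⟶ M') (n m : ℕ) (h : n ≤ m) :
    (HomologicalComplex.homologyMap (koszulMap g (fs.map (· ^ m))) j).hom ∘ₗ
      (HomologicalComplex.homologyMap (koszulTrans M n m h fs) j).hom =
    (HomologicalComplex.homologyMap (koszulTrans M' n m h fs) j).hom ∘ₗ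
      (HomologicalComplex.homologyMap (koszulMap g (fs.map (· ^ n))) j).hom := by
  rw [← ModuleCat.hom_comp, ← ModuleCat.hom_comp, ← HomologicalComplex.homologyMap_comp,
    ← HomologicalComplex.homologyMap_comp, koszulMap_trans]

end Functoriality

section DL

/-- a criterion for a map of direct limits over `ℕ` to be bijective -/
theorem directLimit_map_bijective {G G' : ℕ → Type u} [∀ n, AddCommGroup (G n)]
    [∀ n, Module A (G n)] [∀ n, AddCommGroup (G' n)] [∀ n, Module A (G' n)]
    (f : ∀ n m, n ≤ m → G n →ₗ[A] G m) (f' : ∀ n m, n ≤ m → G' n →ₗ[A] G' m)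
    (hf'1 : ∀ n x, f' n n le_rfl x = x)
    (hf'2 : ∀ n m k (h : n ≤ m) (h' : m ≤ k) x, f' m k h' (f' n m h x) = f' n k (h.trans h') x)
    (g : ∀ n, G n →ₗ[A] G' n) (hg : ∀ n m h, g m ∘ₗ f n m h = f' n m h ∘ₗ g n)
    (hinj : ∀ n (x : G n), g n x = 0 → ∃ m, ∃ h : n ≤ m, f n m h x = 0)
    (hsurj : ∀ n (y : G' n), ∃ m, ∃ h : n ≤ m, ∃ x : G m, g m x = f' n m h y) :
    Function.Bijective (Module.DirectLimit.map g hg) := by
  have : DirectedSystem G' (fun i j h => f' i j h) :=
    ⟨fun i x => hf'1 i x, fun k j i hij hjk x => hf'2 i j k hij hjk x⟩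
  constructor
  · rw [injective_iff_map_eq_zero]
    intro w hw
    obtain ⟨n, x, rfl⟩ := Module.DirectLimit.exists_of w
    rw [Module.DirectLimit.map_apply_of] at hw
    obtain ⟨m, hnm, h0⟩ := Module.DirectLimit.of.zero_exact hw
    have h1 : g m (f n m hnm x) = 0 := by
      have := LinearMap.congr_fun (hg n m hnm) x
      rw [LinearMap.comp_apply, LinearMap.comp_apply] at this
      rw [this]
      exact h0
    obtain ⟨m', hmm', h2⟩ := hinj m _ h1
    rw [← Module.DirectLimit.of_f (hij := hnm), ← Module.DirectLimit.of_f (hij := hmm'), h2,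
      map_zero]
  · intro w'
    obtain ⟨n, y, rfl⟩ := Module.DirectLimit.exists_of w'
    obtain ⟨m, hnm, x, hx⟩ := hsurj n y
    refine ⟨Module.DirectLimit.of A ℕ G f m x, ?_⟩
    rw [Module.DirectLimit.map_apply_of, hx, Module.DirectLimit.of_f]

end DL

section Torsion

variable (T : ModuleCat.{u} A)

/-- elements of the Koszul complex of an `f`-power torsion module are `f`-power torsion -/
theorem exists_pow_smul_eq_zero (f : A) (hf : ∀ t : T, ∃ k : ℕ, f ^ k • t = 0) :
    ∀ (gs : List A) (j : ℤ) (z : (koszulCx T gs).X j), ∃ k : ℕ, f ^ k • z = 0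
  | [], j, z => by
      by_cases hj : j = 0
      · subst hj
        let e := HomologicalComplex.singleObjXSelf (ComplexShape.up ℤ) (0 : ℤ) T
        let z' : ((HomologicalComplex.single (ModuleCat.{u} A) (ComplexShape.up ℤ) 0).obj T).X 0 := z
        obtain ⟨k, hk⟩ := hf (e.hom.hom z')
        refine ⟨k, ?_⟩
        change f ^ k • z' = 0
        apply (iso_bij e).1
        rw [map_smul, hk, map_zero]
      · have hz : IsZero ((koszulCx T []).X j) :=
          HomologicalComplex.isZero_single_obj_X (ComplexShape.up ℤ) 0 T j hj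
        have := ModuleCat.subsingleton_of_isZero hz
        exact ⟨0, Subsingleton.elim _ _⟩
  | g :: gs, j, z => by
      let ψ := g • 𝟙 (koszulCx T gs)
      let z' : (mappingCone ψ).X j := z
      obtain ⟨k1, hk1⟩ := exists_pow_smul_eq_zero f hf gs (j + 1) (cf ψ j (j + 1) rfl z')
      obtain ⟨k2, hk2⟩ := exists_pow_smul_eq_zero f hf gs j (cs ψ j z')
      refine ⟨k1 + k2, ?_⟩
      change f ^ (k1 + k2) • z' = 0
      apply cone_ext ψ j (j + 1) rfl
      · rw [map_smul, map_zero]
        exact pow_smul_eq_zero_of_le (Nat.le_add_right k1 k2) hk1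
      · rw [map_smul, map_zero]
        exact pow_smul_eq_zero_of_le (Nat.le_add_left k2 k1) hk2

/-- for a torsion module, cocycles of the Koszul complexes of the powers in Koszul degree `≥ 1`
become coboundaries after a transition map -/
theorem exists_trans_eq_d :
    ∀ (fs : List A), (∀ f ∈ fs, ∀ t : T, ∃ k : ℕ, f ^ k • t = 0) →
    ∀ (i j k : ℤ) (_ : i + 1 = j) (_ : j + 1 = k), -(fs.length : ℤ) < j →
    ∀ (n : ℕ) (z : (koszulCx T (fs.map (· ^ n))).X j),
      ((koszulCx T (fs.map (· ^ n))).d j k).hom z = 0 →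
      ∃ (m : ℕ) (h : n ≤ m) (c : (koszulCx T (fs.map (· ^ m))).X i),
        ((koszulCx T (fs.map (· ^ m))).d i j).hom c = ((koszulTrans T n m h fs).f j).hom z
  | [], _, i, j, k, _, _, hj, n, z, hz => by
      have hj0 : j ≠ 0 := by
        simp only [List.length_nil, Nat.cast_zero, neg_zero] at hj
        omega
      have hzero : IsZero ((koszulCx T ([].map (· ^ n))).X j) :=
        HomologicalComplex.isZero_single_obj_X (ComplexShape.up ℤ) 0 T j hj0
      have := ModuleCat.subsingleton_of_isZero hzero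
      exact ⟨n, le_rfl, 0, Subsingleton.elim _ _⟩
  | f :: fs, htor, i, j, k, hij, hjk, hj, n, z, hz => by
      have hf : ∀ t : T, ∃ k : ℕ, f ^ k • t = 0 := htor f List.mem_cons_self
      have htor' : ∀ f' ∈ fs, ∀ t : T, ∃ k : ℕ, f' ^ k • t = 0 :=
        fun f' hf' => htor f' (List.mem_cons_of_mem _ hf')
      let φ : ∀ n : ℕ, koszulCx T (fs.map (· ^ n)) ⟶ koszulCx T (fs.map (· ^ n)) :=
        fun n => f ^ n • 𝟙 (koszulCx T (fs.map (· ^ n)))
      let z' : (mappingCone (φ n)).X j := z
      have hz' : ((mappingCone (φ n)).d j k).hom z' = 0 := hz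
      let a := cf (φ n) j k hjk z'
      let b := cs (φ n) j z'
      have ha : ((koszulCx T (fs.map (· ^ n))).d k (k + 1)).hom a = 0 := by
        have h1 := cf_d (φ n) j k (k + 1) hjk rfl z'
        rw [hz', map_zero] at h1
        exact neg_eq_zero.mp h1.symm
      have hk' : -(fs.length : ℤ) < k := by
        simp only [List.length_cons, Nat.cast_add, Nat.cast_one] at hj
        omega
      obtain ⟨m, hnm, c, hc⟩ := exists_trans_eq_d fs htor' j k (k + 1) hjk rfl hk' n a ha
      obtain ⟨k1, hk1⟩ := exists_pow_smul_eq_zero T f hf (fs.map (· ^ n)) j b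
      obtain ⟨k3, hk3⟩ := exists_pow_smul_eq_zero T f hf (fs.map (· ^ m)) j c
      have hm3 : m ≤ m + k1 + k3 := by omega
      have hn3 : n ≤ m + k1 + k3 := by omega
      let c3 := ((koszulTrans T m (m + k1 + k3) hm3 fs).f j).hom c
      let w : (mappingCone (φ (m + k1 + k3))).X i := ci (φ (m + k1 + k3)) i j hij (-c3)
      refine ⟨m + k1 + k3, hn3, w, ?_⟩
      change ((mappingCone (φ (m + k1 + k3))).d i j).hom w =
        ((mappingCone.map (φ n) (φ (m + k1 + k3)) (koszulTrans T n (m + k1 + k3) hn3 fs)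
          (f ^ (m + k1 + k3 - n) • koszulTrans T n (m + k1 + k3) hn3 fs)
          (trans_comm T n (m + k1 + k3) hn3 f fs)).f j).hom z'
      apply cone_ext (φ (m + k1 + k3)) j k hjk
      · rw [cf_d (φ (m + k1 + k3)) i j k hij hjk w, cf_ci, map_neg, neg_neg, cf_map]
        change ((koszulCx T (fs.map (· ^ (m + k1 + k3)))).d j k).hom c3 =
          ((koszulTrans T n (m + k1 + k3) hn3 fs).f k).hom a
        have h1 := (koszulTrans T m (m + k1 + k3) hm3 fs).comm j k
        have h2 : ((koszulCx T (fs.map (· ^ (m + k1 + k3)))).d j k).hom c3 =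
            ((koszulTrans T m (m + k1 + k3) hm3 fs).f k).hom
              (((koszulCx T (fs.map (· ^ m))).d j k).hom c) := congr($(h1).hom c)
        rw [h2, hc, trans_f_trans_f]
      · rw [cs_d (φ (m + k1 + k3)) i j hij w, cf_ci, cs_ci, map_zero, add_zero, cs_map]
        change ((f ^ (m + k1 + k3) • 𝟙 (koszulCx T (fs.map (· ^ (m + k1 + k3))))).f j).hom (-c3) =
          ((f ^ (m + k1 + k3 - n) • koszulTrans T n (m + k1 + k3) hn3 fs).f j).hom b
        rw [smul_id_f_apply, LowData.smul_f_apply, smul_neg, ← map_smul, ← map_smul,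
          pow_smul_eq_zero_of_le (by omega : k3 ≤ m + k1 + k3) hk3,
          pow_smul_eq_zero_of_le (by omega : k1 ≤ m + k1 + k3 - n) hk1, map_zero, map_zero,
          neg_zero]

/-- homology version -/
theorem exists_homologyMap_trans_eq_zero (fs : List A)
    (htor : ∀ f ∈ fs, ∀ t : T, ∃ k : ℕ, f ^ k • t = 0) (j : ℤ) (hj : -(fs.length : ℤ) < j)
    (n : ℕ) (w : (koszulCx T (fs.map (· ^ n))).homology j) :
    ∃ m, ∃ h : n ≤ m, (HomologicalComplex.homologyMap (koszulTrans T n m h fs) j).hom w = 0 := by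
  obtain ⟨z, rfl⟩ := cls_surjective _ j (j + 1) rfl w
  obtain ⟨m, h, c, hc⟩ := exists_trans_eq_d T fs htor (j - 1) j (j + 1) (by ring) rfl hj n z.1 z.2
  refine ⟨m, h, ?_⟩
  rw [homologyMap_cls, cls_eq_zero_iff _ (j - 1) j (j + 1) (by ring) rfl]
  exact ⟨c, hc⟩

end Torsion


section Shift

variable (fs : List A) {M₁ M₂ M₃ : ModuleCat.{u} A} (a : M₁ ⟶ M₂) (b : M₂ ⟶ M₃)
  (ha : Function.Injective a.hom) (hb : Function.Surjective b.hom)
  (hab : Function.Exact a.hom b.hom)

/-- the short exact sequence of Koszul complexes of the `n`-th powers -/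
noncomputable def sesK (n : ℕ) : ShortComplex (CochainComplex (ModuleCat.{u} A) ℤ) :=
  ShortComplex.mk (koszulMap a (fs.map (· ^ n))) (koszulMap b (fs.map (· ^ n)))
    (koszulMap_comp_eq_zero a b hab _)

include ha hb in
lemma sesK_shortExact (n : ℕ) : (sesK fs a b hab n).ShortExact :=
  koszul_shortExact a b ha hb hab _

/-- the transition maps between these short exact sequences -/
noncomputable def sesKHom (n m : ℕ) (h : n ≤ m) : sesK fs a b hab n ⟶ sesK fs a b hab m where
  τ₁ := koszulTrans M₁ n m h fs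
  τ₂ := koszulTrans M₂ n m h fs
  τ₃ := koszulTrans M₃ n m h fs
  comm₁₂ := (koszulMap_trans a n m h fs).symm
  comm₂₃ := (koszulMap_trans b n m h fs).symm

include ha hb hab in
/-- the direct-limit Koszul cohomology in degrees `≥ 2` does not change when dividing by a
torsion submodule -/
theorem limIso_of_torsion_ker (htor : ∀ f ∈ fs, ∀ t : M₁, ∃ k : ℕ, f ^ k • t = 0) (q : ℕ)
    (hq : 1 ≤ q) : Nonempty (koszulHLim fs M₂ q ≃ₗ[A] koszulHLim fs M₃ q) := by
  let j : ℤ := (q : ℤ) - fs.length
  have hj : -(fs.length : ℤ) < j := by simp only [j]; omega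
  have hj1 : -(fs.length : ℤ) < j + 1 := by omega
  let g : ∀ n : ℕ, (koszulHPow fs M₂ q n) →ₗ[A] (koszulHPow fs M₃ q n) := fun n =>
    (HomologicalComplex.homologyMap (koszulMap b (fs.map (· ^ n))) j).hom
  have hg : ∀ n m h, g m ∘ₗ (HomologicalComplex.homologyMap (koszulTrans M₂ n m h fs) j).hom =
      (HomologicalComplex.homologyMap (koszulTrans M₃ n m h fs) j).hom ∘ₗ g n :=
    fun n m h => homologyMap_koszulMap_trans fs j b n m h
  have hS := sesK_shortExact fs a b ha hb hab
  have hbij := directLimit_map_bijective (A := A) (G := fun n => koszulHPow fs M₂ q n)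
    (G' := fun n => koszulHPow fs M₃ q n)
    (fun n m h => (HomologicalComplex.homologyMap (koszulTrans M₂ n m h fs) j).hom)
    (fun n m h => (HomologicalComplex.homologyMap (koszulTrans M₃ n m h fs) j).hom)
    (fun n x => trH_self fs M₃ j n x) (fun n m k h h' x => trH_trH fs M₃ j n m k h h' x) g hg
    (by
      intro n x hx
      have h2 := (hS n).homology_exact₂ j
      rw [ShortComplex.ShortExact.moduleCat_exact_iff_function_exact] at h2
      obtain ⟨w, hw⟩ := (h2 x).mp hx
      obtain ⟨m, hnm, h0⟩ := exists_homologyMap_trans_eq_zero M₁ fs htor j hj n w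
      refine ⟨m, hnm, ?_⟩
      have e := LinearMap.congr_fun (homologyMap_koszulMap_trans fs j a n m hnm) w
      rw [LinearMap.comp_apply, LinearMap.comp_apply, h0, map_zero] at e
      rw [← hw]
      exact e.symm)
    (by
      intro n y
      obtain ⟨m, hnm, h0⟩ := exists_homologyMap_trans_eq_zero M₁ fs htor (j + 1) hj1 n
        (((hS n).δ j (j + 1) rfl).hom y)
      have hnat := HomologicalComplex.HomologySequence.δ_naturality
        (sesKHom fs a b hab n m hnm) (hS n) (hS m) j (j + 1) rfl
      have h1 : ((hS m).δ j (j + 1) rfl).hom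
          ((HomologicalComplex.homologyMap (koszulTrans M₃ n m hnm fs) j).hom y) = 0 := by
        have h3 : (HomologicalComplex.homologyMap (koszulTrans M₁ n m hnm fs) (j + 1)).hom
            (((hS n).δ j (j + 1) rfl).hom y) = ((hS m).δ j (j + 1) rfl).hom
          ((HomologicalComplex.homologyMap (koszulTrans M₃ n m hnm fs) j).hom y) :=
          congr($(hnat).hom y)
        rw [← h3]
        exact h0
      have h3 := (hS m).homology_exact₃ j (j + 1) rfl
      rw [ShortComplex.ShortExact.moduleCat_exact_iff_function_exact] at h3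
      obtain ⟨x, hx⟩ := (h3 _).mp h1
      exact ⟨m, hnm, x, hx⟩)
  exact ⟨LinearEquiv.ofBijective _ hbij⟩

include ha hb hab in
/-- dimension shifting along a short exact sequence whose middle term is Koszul-acyclic -/
theorem limIso_of_acyclic
    (hacyc : ∀ (n : ℕ) (j : ℤ), IsZero ((koszulCx M₂ (fs.map (· ^ n))).homology j)) (q : ℕ) :
    Nonempty (koszulHLim fs M₃ q ≃ₗ[A] koszulHLim fs M₁ (q + 1)) := by
  let i : ℤ := (q : ℤ) - fs.length
  let j : ℤ := ((q + 1 : ℕ) : ℤ) - fs.length
  have hij : i + 1 = j := by simp only [i, j]; push_cast; ring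
  have hS := sesK_shortExact fs a b ha hb hab
  have hiso : ∀ n, IsIso ((hS n).δ i j hij) :=
    fun n => (hS n).isIso_δ i j hij (hacyc n i) (hacyc n j)
  let e : ∀ n : ℕ, (koszulHPow fs M₃ q n) ≃ₗ[A] (koszulHPow fs M₁ (q + 1) n) := fun n =>
    (@asIso _ _ _ _ ((hS n).δ i j hij) (hiso n)).toLinearEquiv
  refine ⟨Module.DirectLimit.congr e ?_⟩
  intro n m h
  have hnat := HomologicalComplex.HomologySequence.δ_naturality
    (sesKHom fs a b hab n m h) (hS n) (hS m) i j hij
  ext y
  have h3 : (HomologicalComplex.homologyMap (koszulTrans M₁ n m h fs) j).hom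
      (((hS n).δ i j hij).hom y) = ((hS m).δ i j hij).hom
        ((HomologicalComplex.homologyMap (koszulTrans M₃ n m h fs) i).hom y) :=
    congr($(hnat).hom y)
  exact h3.symm

end Shift

section GoodK

open Groth.Agent.Helper13Kz Groth.Agent.Lib.R2H2.LocPsh

variable (fs : List A) (N : Type u) [AddCommGroup N] [Module A N]

/-- modules all of whose Koszul cohomology groups (for all powers of the `f_i`) vanish -/
def GoodK : Prop :=
  ∀ (n : ℕ) (j : ℤ), IsZero ((koszulCx (ModuleCat.of A N) (fs.map (· ^ n))).homology j)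

variable {fs N}

theorem goodK_of_forall_eq_zero
    (h : ∀ (n : ℕ) (j : ℤ) (z : KH (fs.map (· ^ n)) N j), z = 0) : GoodK fs N := by
  intro n j
  have : Subsingleton (KH (fs.map (· ^ n)) N j) := ⟨fun x y => by rw [h n j x, h n j y]⟩
  exact ModuleCat.isZero_of_subsingleton _

variable (fs N)

theorem GoodK.of_subsingleton [Subsingleton N] : GoodK fs N := by
  apply goodK_of_forall_eq_zero
  intro n j z
  have := smul_KH_eq_zero_of_ann N (fs.map (· ^ n)) (1 : A) (fun m => Subsingleton.elim _ _) j z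
  rwa [one_smul] at this

theorem GoodK.of_bij (i0 : Fin fs.length) (hf : fs.get i0 ∈ bijSub (A := A) N) : GoodK fs N := by
  apply goodK_of_forall_eq_zero
  intro n j z
  let c : A := fs.get i0 ^ n
  have hc : c ∈ bijSub (A := A) N := pow_mem hf n
  have hmem : c ∈ Ideal.span {x | x ∈ fs.map (· ^ n)} :=
    Ideal.subset_span (List.mem_map.mpr ⟨fs.get i0, List.get_mem _ _, rfl⟩)
  obtain ⟨δ, h1, -, -⟩ := ses_les (fs.map (· ^ n)) (c • (LinearMap.id : N →ₗ[A] N))
    (0 : N →ₗ[A] PUnit.{u + 1}) (fun x y h => hc.1 (h : c • x = c • y))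
    (fun _ => ⟨0, Subsingleton.elim _ _⟩) (by
      intro y
      constructor
      · intro _
        obtain ⟨x, hx⟩ := hc.2 y
        exact ⟨x, hx⟩
      · intro _
        exact Subsingleton.elim _ _) j
  have h2 : KHmap (fs.map (· ^ n)) (0 : N →ₗ[A] PUnit.{u + 1}) j z = 0 := by
    have := smul_KH_eq_zero_of_ann PUnit.{u + 1} (fs.map (· ^ n)) (1 : A)
      (fun m => Subsingleton.elim _ _) j (KHmap (fs.map (· ^ n)) (0 : N →ₗ[A] PUnit.{u + 1}) j z)
    rwa [one_smul] at this
  obtain ⟨w, hw⟩ := (h1 z).mp h2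
  rw [KHmap_smul_id] at hw
  have hw' : c • w = z := hw
  rw [← hw']
  exact smul_KH_eq_zero_of_mem N (fs.map (· ^ n)) c hmem j w

variable {N} {N' N'' : Type u} [AddCommGroup N'] [Module A N'] [AddCommGroup N''] [Module A N'']

theorem GoodK.of_ses (a : N' →ₗ[A] N) (b : N →ₗ[A] N'') (ha : Function.Injective a)
    (hb : Function.Surjective b) (hab : Function.Exact a b) (h' : GoodK fs N')
    (h'' : GoodK fs N'') : GoodK fs N := by
  apply goodK_of_forall_eq_zero
  intro n j z
  obtain ⟨δ, h1, -, -⟩ := ses_les (fs.map (· ^ n)) a b ha hb hab j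
  have h2 : KHmap (fs.map (· ^ n)) b j z = 0 :=
    (ModuleCat.subsingleton_of_isZero (h'' n j)).elim _ _
  obtain ⟨w, hw⟩ := (h1 z).mp h2
  have hw0 : w = 0 := (ModuleCat.subsingleton_of_isZero (h' n j)).elim _ _
  rw [← hw, hw0, map_zero]

end GoodK

end Groth.Agent.Lib.R2H2.KoszulLim
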