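import Groth.Agent.Lib.R2H2LocCech
import Groth.Agent.Lib.R2H2KoszulLim

/-!
# Čech cohomology of localizations is direct-limit Koszul cohomology (helper2, round 2)

`cech_koszul`: for a commutative ring `A`, elements `f_1, …, f_r` and an `A`-module `M`, the
cohomology in degree `p ≥ 1` of the (full) Čech complex of the localization presheaf `S ↦ S⁻¹ M` with
respect to the family `powers f_i` is isomorphic to `CohIII.koszulHLim fs M (p + 1)`.

The proof is by dimension shifting: `M → M' = M / (torsion) ↪ P = ∏ M'_{f_i} ↠ Q`.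
-/

set_option autoImplicit false
universe u

namespace Groth.Agent.Lib.R2H2.CechKoszul

open CategoryTheory CategoryTheory.Limits Opposite CohIII
open Groth.Agent.Lib.Helper16.CechLow Groth.Agent.Lib.R2H2.LocPsh Groth.Agent.Lib.R2H2.CechCmp
  Groth.Agent.Lib.R2H2.LocCech Groth.Agent.Lib.R2H2.KoszulLim Groth.Agent.Lib.R2H2.KoszulLow

variable {A : Type u} [CommRing A] (fs : List A)

section GoodSec

/-- modules which are acyclic for both theories -/
structure Good (N : Type u) [AddCommGroup N] [Module A N] : Prop where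
  c : GoodC fs N
  k : GoodK fs N

theorem Good.of_subsingleton (N : Type u) [AddCommGroup N] [Module A N] [Subsingleton N] :
    Good fs N := ⟨GoodC.of_subsingleton fs N, GoodK.of_subsingleton fs N⟩

theorem Good.of_bij (N : Type u) [AddCommGroup N] [Module A N] (i0 : Fin fs.length)
    (hf : fs.get i0 ∈ bijSub (A := A) N) : Good fs N :=
  ⟨GoodC.of_bij fs N i0 hf, GoodK.of_bij fs N i0 hf⟩

theorem Good.of_ses {N' N N'' : Type u} [AddCommGroup N'] [Module A N'] [AddCommGroup N]
    [Module A N] [AddCommGroup N''] [Module A N''] (a : N' →ₗ[A] N) (b : N →ₗ[A] N'')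
    (ha : Function.Injective a) (hb : Function.Surjective b) (hab : Function.Exact a b)
    (h' : Good fs N') (h'' : Good fs N'') : Good fs N :=
  ⟨GoodC.of_ses fs a b ha hb hab h'.c h''.c, GoodK.of_ses fs a b ha hb hab h'.k h''.k⟩

theorem Good.pi (k : ℕ) : ∀ (Nf : Fin k → Type u) [∀ i, AddCommGroup (Nf i)]
    [∀ i, Module A (Nf i)], (∀ i, Good fs (Nf i)) → Good fs (∀ i, Nf i) := by
  induction k with
  | zero =>
    intro Nf _ _ _
    exact Good.of_subsingleton fs _
  | succ k ih =>
    intro Nf _ _ h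
    have ih' := ih (fun i => Nf i.succ) (fun i => h i.succ)
    let a : Nf 0 →ₗ[A] (∀ i, Nf i) := LinearMap.single A Nf 0
    let b : (∀ i, Nf i) →ₗ[A] (∀ i : Fin k, Nf i.succ) :=
      LinearMap.pi (fun i => LinearMap.proj i.succ)
    have ha : Function.Injective a := Pi.single_injective 0
    have hb : Function.Surjective b := by
      intro w
      refine ⟨Fin.cons (0 : Nf 0) w, ?_⟩
      funext i
      exact Fin.cons_succ (α := Nf) (0 : Nf 0) w i
    have hab : Function.Exact a b := by
      intro z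
      constructor
      · intro hz
        refine ⟨z 0, ?_⟩
        funext i
        refine Fin.cases ?_ (fun i' => ?_) i
        · exact Pi.single_eq_same 0 (z 0)
        · have h1 : z i'.succ = 0 := congrFun hz i'
          rw [h1]
          exact Pi.single_eq_of_ne (Fin.succ_ne_zero i') (z 0)
      · rintro ⟨v, rfl⟩
        funext i
        exact Pi.single_eq_of_ne (Fin.succ_ne_zero i) v
    exact Good.of_ses fs a b ha hb hab (h 0) ih'

end GoodSec

section Setup

variable (M : Type u) [AddCommGroup M] [Module A M]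

/-- the submodule of elements killed by powers of all the `f_i` -/
def tors : Submodule A M where
  carrier := {m | ∀ i : Fin fs.length, ∃ n : ℕ, fs.get i ^ n • m = 0}
  add_mem' := by
    intro x y hx hy i
    obtain ⟨n, hn⟩ := hx i
    obtain ⟨n', hn'⟩ := hy i
    refine ⟨n + n', ?_⟩
    rw [smul_add, pow_smul_eq_zero_of_le (Nat.le_add_right n n') hn,
      pow_smul_eq_zero_of_le (Nat.le_add_left n' n) hn', add_zero]
  zero_mem' := fun i => ⟨0, smul_zero _⟩
  smul_mem' := by
    intro a x hx i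
    obtain ⟨n, hn⟩ := hx i
    exact ⟨n, by rw [smul_comm, hn, smul_zero]⟩

lemma isTors_tors : IsTors fs (tors fs M) := by
  intro t i
  obtain ⟨k, hk⟩ := t.2 i
  exact ⟨k, Subtype.ext hk⟩

/-- the quotient by the torsion -/
abbrev Mq : Type u := M ⧸ tors fs M

/-- the product of the localizations of the torsion-free quotient -/
abbrev PP : Type u :=
  ∀ i : Fin fs.length, LocalizedModule (Submonoid.powers (fs.get i)) (Mq fs M)

/-- the diagonal map -/
noncomputable def iotaP : Mq fs M →ₗ[A] PP fs M :=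
  LinearMap.pi (fun i => LocalizedModule.mkLinearMap (Submonoid.powers (fs.get i)) (Mq fs M))

lemma iotaP_injective : Function.Injective (iotaP fs M) := by
  rw [injective_iff_map_eq_zero]
  intro m' hm'
  obtain ⟨m, rfl⟩ := Submodule.mkQ_surjective _ m'
  rw [Submodule.mkQ_apply, Submodule.Quotient.mk_eq_zero]
  intro i
  have h1 : LocalizedModule.mk ((tors fs M).mkQ m) (1 : Submonoid.powers (fs.get i)) = 0 :=
    congrFun hm' i
  rw [mk_eq_zero_iff] at h1
  obtain ⟨t, ht⟩ := h1
  obtain ⟨n, hn⟩ := (Submonoid.mem_powers_iff _ _).mp t.2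
  have h2 : (tors fs M).mkQ (fs.get i ^ n • m) = 0 := by
    rw [map_smul, hn]
    exact ht
  rw [Submodule.mkQ_apply, Submodule.Quotient.mk_eq_zero] at h2
  obtain ⟨k, hk⟩ := h2 i
  exact ⟨k + n, by rw [pow_add, mul_smul]; exact hk⟩

/-- the cokernel of the diagonal map -/
abbrev QQ : Type u := PP fs M ⧸ LinearMap.range (iotaP fs M)

theorem good_PP : Good fs (PP fs M) := by
  apply Good.pi fs fs.length
  intro i
  exact Good.of_bij fs _ i
    (le_bijSub_localized (Submonoid.powers (fs.get i)) (Submonoid.mem_powers _))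

end Setup

section Isos

variable {M₁ M₂ M₃ : Type u} [AddCommGroup M₁] [Module A M₁] [AddCommGroup M₂] [Module A M₂]
  [AddCommGroup M₃] [Module A M₃] (a : M₁ →ₗ[A] M₂) (b : M₂ →ₗ[A] M₃)
  (ha : Function.Injective a) (hb : Function.Surjective b) (hab : Function.Exact a b)

include ha hb hab in
/-- Čech cohomology does not change modulo torsion -/
theorem cech_iso_of_torsion_ker (htor : IsTors fs M₁) (p : ℕ) :
    Nonempty (((CN fs M₂).homology p : AddCommGrpCat.{u}) ≃+
      ((CN fs M₃).homology p : AddCommGrpCat.{u})) := by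
  have hS := cechSES_shortExact fs a b ha hb hab
  have hiso : IsIso (HomologicalComplex.homologyMap (cechSES fs a b hab).g p) :=
    isIso_homologyMap_g hS p (p + 1) rfl (isZero_homology_CN_of_isTors fs htor p)
      (isZero_homology_CN_of_isTors fs htor (p + 1))
  exact ⟨(asIso (HomologicalComplex.homologyMap (cechSES fs a b hab).g p)).addCommGroupIsoToAddEquiv⟩

include ha hb hab in
/-- dimension shifting for Čech cohomology -/
theorem cech_iso_of_acyclic (hacyc : GoodC fs M₂) (p : ℕ) (hp : 1 ≤ p) :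
    Nonempty (((CN fs M₃).homology p : AddCommGrpCat.{u}) ≃+
      ((CN fs M₁).homology (p + 1) : AddCommGrpCat.{u})) := by
  have hS := cechSES_shortExact fs a b ha hb hab
  have hiso : IsIso (hS.δ p (p + 1) rfl) :=
    hS.isIso_δ p (p + 1) rfl (hacyc.acyc p hp) (hacyc.acyc (p + 1) (by omega))
  exact ⟨(asIso (hS.δ p (p + 1) rfl)).addCommGroupIsoToAddEquiv⟩

lemma nonempty_addEquiv_quot {Z H N0 : Type*} [AddCommGroup Z] [Module A Z] [AddCommGroup H]
    [AddCommGroup N0] [Module A N0] (ρ : N0 →ₗ[A] Z) (Ψ : Z →+ H) (hs : Function.Surjective Ψ)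
    (hk : ∀ z, Ψ z = 0 ↔ z ∈ LinearMap.range ρ) :
    Nonempty (H ≃+ (Z ⧸ LinearMap.range ρ)) := by
  let π : Z →+ (Z ⧸ LinearMap.range ρ) := (LinearMap.range ρ).mkQ.toAddMonoidHom
  have hπs : Function.Surjective π := Submodule.mkQ_surjective _
  have hker : Ψ.ker = π.ker := by
    ext z
    rw [AddMonoidHom.mem_ker, AddMonoidHom.mem_ker, hk]
    change _ ↔ (LinearMap.range ρ).mkQ z = 0
    rw [Submodule.mkQ_apply, Submodule.Quotient.mk_eq_zero]
  exact ⟨(QuotientAddGroup.quotientKerEquivOfSurjective Ψ hs).symm.trans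
    ((QuotientAddGroup.quotientAddEquivOfEq hker).trans
      (QuotientAddGroup.quotientKerEquivOfSurjective π hπs))⟩

include ha hb hab in
/-- the first Čech cohomology group via the connecting homomorphism -/
theorem cech_one_iso (hacyc : GoodC fs M₂) :
    Nonempty (((CN fs M₁).homology 1 : AddCommGrpCat.{u}) ≃+
      (Zc fs M₃ ⧸ LinearMap.range (rhoZ fs M₃))) := by
  have hS := cechSES_shortExact fs a b ha hb hab
  let δ := hS.δ 0 1 rfl
  have hepi : Epi δ := hS.epi_δ 0 1 rfl (hacyc.acyc 1 le_rfl)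
  have hδs : Function.Surjective δ.hom := (AddCommGrpCat.epi_iff_surjective δ).mp hepi
  let Ψ : Zc fs M₃ →+ ((CN fs M₁).homology 1 : AddCommGrpCat.{u}) := δ.hom.comp (thetaZ fs M₃)
  have hΨs : Function.Surjective Ψ := hδs.comp (thetaZ_bijective fs M₃).2
  have hex := hS.homology_exact₃ 0 1 rfl
  rw [ShortComplex.ab_exact_iff] at hex
  have hcomp := hS.comp_δ 0 1 rfl
  refine nonempty_addEquiv_quot (rhoZ fs M₃) Ψ hΨs (fun z => ?_)
  constructor
  · intro hz
    obtain ⟨y, hy⟩ := hex (thetaZ fs M₃ z) hz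
    obtain ⟨zP, rfl⟩ := (thetaZ_bijective fs M₂).2 y
    obtain ⟨p0, rfl⟩ := hacyc.surj zP
    refine ⟨b p0, ?_⟩
    apply (thetaZ_bijective fs M₃).1
    rw [← hy, ← ZcMap_rhoZ]
    exact (homologyMap_thetaZ fs b (rhoZ fs M₂ p0)).symm
  · rintro ⟨q, rfl⟩
    obtain ⟨p0, rfl⟩ := hb q
    have h1 : thetaZ fs M₃ (rhoZ fs M₃ (b p0)) =
        (HomologicalComplex.homologyMap (cechMap fs b) 0).hom (thetaZ fs M₂ (rhoZ fs M₂ p0)) := by
      rw [homologyMap_thetaZ, ZcMap_rhoZ]
    change δ.hom (thetaZ fs M₃ (rhoZ fs M₃ (b p0))) = 0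
    rw [h1]
    exact ConcreteCategory.congr_hom hcomp (thetaZ fs M₂ (rhoZ fs M₂ p0))

end Isos

section Main

variable (M : Type u) [AddCommGroup M] [Module A M]

lemma htor_of_isTors {T : Type u} [AddCommGroup T] [Module A T] (h : IsTors fs T) :
    ∀ f ∈ fs, ∀ t : (ModuleCat.of A T), ∃ k : ℕ, f ^ k • t = 0 := by
  intro f hf t
  obtain ⟨i, rfl⟩ := List.mem_iff_get.mp hf
  exact h t i

/-- one step of the dimension shifting -/
theorem step :
    Nonempty (((CN fs M).homology 1 : AddCommGrpCat.{u}) ≃+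
      koszulHLim fs (ModuleCat.of A M) 2) ∧
    ∀ p : ℕ, 1 ≤ p →
      Nonempty (((CN fs (QQ fs M)).homology p : AddCommGrpCat.{u}) ≃+
        koszulHLim fs (ModuleCat.of A (QQ fs M)) (p + 1)) →
      Nonempty (((CN fs M).homology (p + 1) : AddCommGrpCat.{u}) ≃+
        koszulHLim fs (ModuleCat.of A M) (p + 1 + 1)) := by
  -- the torsion sequence
  let aT : tors fs M →ₗ[A] M := (tors fs M).subtype
  let bT : M →ₗ[A] Mq fs M := (tors fs M).mkQ
  have haT : Function.Injective aT := Submodule.subtype_injective _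
  have hbT : Function.Surjective bT := Submodule.mkQ_surjective _
  have habT : Function.Exact aT bT := LinearMap.exact_subtype_mkQ _
  have htor := isTors_tors fs M
  -- the product sequence
  let aS : Mq fs M →ₗ[A] PP fs M := iotaP fs M
  let bS : PP fs M →ₗ[A] QQ fs M := (LinearMap.range (iotaP fs M)).mkQ
  have haS : Function.Injective aS := iotaP_injective fs M
  have hbS : Function.Surjective bS := Submodule.mkQ_surjective _
  have habS : Function.Exact aS bS := LinearMap.exact_map_mkQ_range _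
  have hgood := good_PP fs M
  -- Koszul side
  have kT : ∀ q : ℕ, 1 ≤ q → Nonempty (koszulHLim fs (ModuleCat.of A M) q ≃ₗ[A]
      koszulHLim fs (ModuleCat.of A (Mq fs M)) q) := fun q hq =>
    limIso_of_torsion_ker fs (ModuleCat.ofHom aT) (ModuleCat.ofHom bT) haT hbT habT
      (htor_of_isTors fs htor) q hq
  have kS : ∀ q : ℕ, Nonempty (koszulHLim fs (ModuleCat.of A (QQ fs M)) q ≃ₗ[A]
      koszulHLim fs (ModuleCat.of A (Mq fs M)) (q + 1)) := fun q =>
    limIso_of_acyclic fs (ModuleCat.ofHom aS) (ModuleCat.ofHom bS) haS hbS habS hgood.k q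
  -- Čech side
  have cT : ∀ p : ℕ, Nonempty (((CN fs M).homology p : AddCommGrpCat.{u}) ≃+
      ((CN fs (Mq fs M)).homology p : AddCommGrpCat.{u})) := fun p =>
    cech_iso_of_torsion_ker fs aT bT haT hbT habT htor p
  have cS : ∀ p : ℕ, 1 ≤ p → Nonempty (((CN fs (QQ fs M)).homology p : AddCommGrpCat.{u}) ≃+
      ((CN fs (Mq fs M)).homology (p + 1) : AddCommGrpCat.{u})) := fun p hp =>
    cech_iso_of_acyclic fs aS bS haS hbS habS hgood.c p hp
  constructor
  · obtain ⟨e1⟩ := cT 1
    obtain ⟨e2⟩ := cech_one_iso fs aS bS haS hbS habS hgood.c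
    obtain ⟨e3⟩ := koszulHLim_one fs (ModuleCat.of A (QQ fs M)) (rhoZ fs (QQ fs M))
      (rhoZ_eq_zero_iff fs (QQ fs M)) (Zc_eq_zero_of_tors fs (QQ fs M))
      (exists_pow_smul_eq_rhoZ fs (QQ fs M)) (exists_glue_Zc fs (QQ fs M))
    obtain ⟨e4⟩ := kS 1
    obtain ⟨e5⟩ := kT 2 (by omega)
    exact ⟨e1.trans (e2.trans (e3.toAddEquiv.trans (e4.toAddEquiv.trans e5.symm.toAddEquiv)))⟩
  · intro p hp ⟨eQ⟩
    obtain ⟨e1⟩ := cT (p + 1)
    obtain ⟨e2⟩ := cS p hp
    obtain ⟨e4⟩ := kS (p + 1)
    obtain ⟨e5⟩ := kT (p + 1 + 1) (by omega)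
    exact ⟨e1.trans (e2.symm.trans (eQ.trans (e4.toAddEquiv.trans e5.symm.toAddEquiv)))⟩

end Main

/-- **Čech cohomology of the localization presheaf is direct-limit Koszul cohomology.** -/
theorem cech_koszul (p : ℕ) (hp : 1 ≤ p) :
    ∀ (M : Type u) [AddCommGroup M] [Module A M],
      Nonempty (((CN fs M).homology p : AddCommGrpCat.{u}) ≃+
        koszulHLim fs (ModuleCat.of A M) (p + 1)) := by
  induction p, hp using Nat.le_induction with
  | base =>
    intro M _ _
    exact (step fs M).1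
  | succ p hp ih =>
    intro M _ _
    exact (step fs M).2 p hp (ih (QQ fs M))

end Groth.Agent.Lib.R2H2.CechKoszul
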