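import Groth.Agent.Lib.R2H2Laurent
import Groth.Agent.Lib.R2H2CechKoszul
import Groth.Agent.Lib.Helper27GrTildeQCoh
import Groth.Agent.Lib.Helper27PnChart
import Groth.Agent.S0013

/-!
# Vanishing of the cohomology of `O(d)` on projective space (helper2, round 2)
-/

set_option autoImplicit false
set_option linter.unusedSectionVars false
universe u

namespace Groth.Agent.Lib.R2H2.PnCoh

open MvPolynomial CategoryTheory CategoryTheory.Limits Opposite AlgebraicGeometry
open Groth.Agent.Lib.Helper16.CechLow Groth.Agent.Lib.R2H2.LocPsh Groth.Agent.Lib.R2H2.CechCmp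
  Groth.Agent.Lib.R2H2.Strand Groth.Agent.Lib.R2H2.StrandCech Groth.Agent.Lib.R2H2.KoszulPoly
  Groth.Agent.Lib.R2H2.ProjSec Groth.Agent.Lib.R2H2.Laurent

variable (R : Type u) [CommRing R] (n : ℕ)

lemma hfs_vars : ∀ a ∈ vars R n, ∃ e : ℕ, 0 < e ∧ a ∈ CohB1.polyGrading n R e := by
  intro a ha
  obtain ⟨i, rfl⟩ := List.mem_iff_get.mp ha
  refine ⟨1, one_pos, ?_⟩
  rw [get_ix R n ⟨i⟩]
  exact isHomogeneous_X R _

lemma iSup_Wp_vars : ⨆ i, Wp (CohB1.polyGrading n R) (vars R n) i = ⊤ := by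
  rw [eq_top_iff, ← Groth.Agent.Lib.Helper27PnChart.iSup_basicOpen_X n R]
  apply iSup_le
  intro j
  refine le_trans (le_of_eq ?_) (le_iSup (Wp (CohB1.polyGrading n R) (vars R n)) (mkIdx R n j))
  unfold Wp
  rw [get_ix R n (mkIdx R n j), ix_mkIdx]

/-- the strand complex computes the cohomology of `O(d)` -/
theorem nonempty_HH_addEquiv (d : ℤ) (q : ℕ) :
    Nonempty (Coh.HH (Proj (CohB1.polyGrading n R))
        (GrTilde.tilde (CohB1.polyGrading n R) (CohB1.polyGrading n R) d) q ≃+
      ((KK R n d).homology q : AddCommGrpCat.{u})) := by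
  have hqc : (GrTilde.tilde (CohB1.polyGrading n R) (CohB1.polyGrading n R) d).IsQuasicoherent :=
    Groth.Agent.Lib.Helper27GrTildeSect.isQuasicoherent_tilde _ _ d
  obtain ⟨e1⟩ := Groth.Agent.S0013.result (Proj (CohB1.polyGrading n R))
    (Wp (CohB1.polyGrading n R) (vars R n)) (iSup_Wp_vars R n)
    (isAffineOpen_biInf_Wp (CohB1.polyGrading n R) (vars R n) (hfs_vars R n))
    (GrTilde.tilde (CohB1.polyGrading n R) (CohB1.polyGrading n R) d) q
  obtain ⟨e2⟩ := nonempty_cech_strand (CohB1.polyGrading n R) (CohB1.polyGrading n R) (vars R n)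
    (hfs_vars R n) d q
  exact ⟨e1.symm.trans e2.symm⟩

/-- vanishing of the cohomology of the strand complex -/
theorem isZero_homology_KK (d : ℤ) (q : ℕ) (h₀ : ¬ (q = 0 ∧ 0 ≤ d))
    (hn : ¬ (q = n ∧ d ≤ -((n : ℤ) + 1))) : IsZero ((KK R n d).homology q) := by
  rcases Nat.eq_zero_or_pos q with hq | hq
  · subst hq
    have hd : d < 0 := by
      by_contra h
      exact h₀ ⟨rfl, not_lt.mp h⟩
    have hn1 : 1 ≤ n := by
      by_contra h
      have hn0 : n = 0 := by omega
      apply hn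
      refine ⟨hn0.symm, ?_⟩
      rw [hn0]
      push_cast
      omega
    exact isZero_homology_zero R n d hn1 hd
  · obtain ⟨q', rfl⟩ : ∃ q', q = q' + 1 := ⟨q - 1, by omega⟩
    by_cases hqn : q' + 1 = n
    · have hd : -((n : ℤ) + 1) < d := by
        by_contra h
        exact hn ⟨hqn, not_lt.mp h⟩
      exact isZero_homology_pos R n d q' hd
    · obtain ⟨e3⟩ := Groth.Agent.Lib.R2H2.CechKoszul.cech_koszul (vars R n) (q' + 1) (by omega)
        (MvPolynomial (Fin (n + 1)) R)
      have h1 := subsingleton_koszulHLim_X R n (q' + 1 + 1) (by omega)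
      have h2 : Subsingleton ((CN (vars R n) (MvPolynomial (Fin (n + 1)) R)).homology (q' + 1) :
          AddCommGrpCat.{u}) := e3.toEquiv.subsingleton
      exact isZero_homology_CNd (vars R n)
        (hfs_hom (CohB1.polyGrading n R) (vars R n) (hfs_vars R n)) (GP R n) d (q' + 1)
        (AddCommGrpCat.isZero_of_subsingleton _)

/-- **vanishing of the cohomology of `O(d)` on projective space** -/
theorem subsingleton_HH_tilde (d : ℤ) (q : ℕ) (h₀ : ¬ (q = 0 ∧ 0 ≤ d))
    (hn : ¬ (q = n ∧ d ≤ -((n : ℤ) + 1))) :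
    Subsingleton (Coh.HH (Proj (CohB1.polyGrading n R))
        (GrTilde.tilde (CohB1.polyGrading n R) (CohB1.polyGrading n R) d) q) := by
  obtain ⟨e⟩ := nonempty_HH_addEquiv R n d q
  have h := isZero_homology_KK R n d q h₀ hn
  have : Subsingleton ((KK R n d).homology q : AddCommGrpCat.{u}) :=
    AddCommGrpCat.subsingleton_of_isZero h
  exact e.toEquiv.subsingleton

end Groth.Agent.Lib.R2H2.PnCoh
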