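import Groth.Agent.Lib.R2H2PnLin
import Groth.Agent.Lib.R2H2LaurentTop
import Groth.Agent.Lib.R2H2PnCoh

/-!
# Top cohomology of negative twists on projective space (helper2, round 2)
-/

set_option autoImplicit false
set_option linter.unusedSectionVars false
universe u

namespace Groth.Agent.Lib.R2H2.PnTop

open MvPolynomial CategoryTheory CategoryTheory.Limits Opposite AlgebraicGeometry
open Groth.Agent.Lib.Helper16.CechLow Groth.Agent.Lib.R2H2.LocPsh Groth.Agent.Lib.R2H2.CechCmp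
  Groth.Agent.Lib.R2H2.Strand Groth.Agent.Lib.R2H2.StrandCech Groth.Agent.Lib.R2H2.KoszulPoly
  Groth.Agent.Lib.R2H2.ProjSec Groth.Agent.Lib.R2H2.Laurent Groth.Agent.Lib.R2H2.LaurentTop
  Groth.Agent.Lib.R2H2.PnCoh Groth.Agent.Lib.R2H2.PnLin Groth.Agent.Lib.Helper27GrTildeSect

variable (R : Type u) [CommRing R] (n : ℕ)

section Alg

variable (k : ℕ)

/-- exponent vectors with all entries negative and degree `-(n+1+k)` correspond to monomials of
degree `k` -/
noncomputable def anEquiv :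
    (AN n (-((n : ℤ) + 1 + k)) : Set (GG n)) ≃
      ({u : Fin (n + 1) →₀ ℕ | u.degree = k} : Set (Fin (n + 1) →₀ ℕ)) where
  toFun e := ⟨Finsupp.equivFunOnFinite.symm (fun i => (-(e.1 i) - 1).toNat), by
    have h1 := e.2.1
    have h2 := e.2.2
    change Finsupp.degree _ = k
    rw [Finsupp.degree_eq_sum]
    have h3 : ((∑ i, (Finsupp.equivFunOnFinite.symm (fun i => (-(e.1 i) - 1).toNat)) i : ℕ) : ℤ)
        = ∑ i : Fin (n + 1), (-(e.1 i) - 1) := by
      rw [Nat.cast_sum]
      refine Finset.sum_congr rfl (fun i _ => ?_)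
      have := h2 i
      rw [Finsupp.equivFunOnFinite_symm_apply_apply, Int.toNat_of_nonneg (by omega)]
    have h4 : ∑ i : Fin (n + 1), (-(e.1 i) - 1) = (k : ℤ) := by
      rw [Finset.sum_sub_distrib, Finset.sum_neg_distrib]
      unfold degG at h1
      rw [h1]
      simp
    exact_mod_cast h3.trans h4⟩
  invFun u := ⟨fun i => -((u.1 i : ℕ) : ℤ) - 1, by
    have h1 : Finsupp.degree u.1 = k := u.2
    rw [Finsupp.degree_eq_sum] at h1
    refine ⟨?_, fun i => ?_⟩
    · unfold degG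
      rw [Finset.sum_sub_distrib, Finset.sum_neg_distrib, ← Nat.cast_sum, h1]
      simp
      ring
    · change -((u.1 i : ℕ) : ℤ) - 1 < 0
      have : (0 : ℤ) ≤ ((u.1 i : ℕ) : ℤ) := Int.natCast_nonneg _
      omega⟩
  left_inv e := by
    apply Subtype.ext
    funext i
    have h2 := e.2.2 i
    change -(((Finsupp.equivFunOnFinite.symm (fun i => (-(e.1 i) - 1).toNat)) i : ℕ) : ℤ) - 1 = e.1 i
    rw [Finsupp.equivFunOnFinite_symm_apply_apply, Int.toNat_of_nonneg (by omega)]
    ring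
  right_inv u := by
    apply Subtype.ext
    ext i
    change (Finsupp.equivFunOnFinite.symm
      (fun i => (-(-((u.1 i : ℕ) : ℤ) - 1) - 1).toNat)) i = u.1 i
    rw [Finsupp.equivFunOnFinite_symm_apply_apply]
    have : -(-((u.1 i : ℕ) : ℤ) - 1) - 1 = ((u.1 i : ℕ) : ℤ) := by ring
    rw [this, Int.toNat_natCast]

/-- the space of Laurent polynomials computing the top cohomology is the space of homogeneous
polynomials -/
noncomputable def vvEquiv :
    VV R n (-((n : ℤ) + 1 + k)) ≃ₗ[R] ↥(MvPolynomial.homogeneousSubmodule (Fin (n + 1)) R k) :=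
  (AddMonoidAlgebra.supportedEquivFinsupp (R := R) (S := R) (AN n (-((n : ℤ) + 1 + k)))).trans <|
    (Finsupp.domLCongr (anEquiv n k)).trans <|
    (AddMonoidAlgebra.supportedEquivFinsupp (R := R) (S := R)
      ({u : Fin (n + 1) →₀ ℕ | u.degree = k} : Set (Fin (n + 1) →₀ ℕ))).symm.trans <|
    LinearEquiv.ofEq _ _ (MvPolynomial.homogeneousSubmodule_eq_finsupp_supported (Fin (n + 1)) R k).symm

end Alg

section Coh

local notation "𝒫" => CohB1.polyGrading n R

/-- Čech cohomology for the standard cover computes the cohomology of `O(d)`, naturally -/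
theorem exists_cech_HH_natural (d : ℤ) (q : ℕ) :
    ∃ e : ↑(CohB1.cechH (Wp 𝒫 (vars R n)) (GrTilde.tilde 𝒫 𝒫 d) q) ≃+
        Coh.HH (Proj 𝒫) (GrTilde.tilde 𝒫 𝒫 d) q,
      ∀ (ψ : Coh.toAb (GrTilde.tilde 𝒫 𝒫 d) ⟶ Coh.toAb (GrTilde.tilde 𝒫 𝒫 d))
        (x : ↑(CohB1.cechH (Wp 𝒫 (vars R n)) (GrTilde.tilde 𝒫 𝒫 d) q)),
        e (HomologicalComplex.homologyMap
            ((cechComplexFunctor (Wp 𝒫 (vars R n))).map ψ.hom) q x) =
          Sheaf.H.map ψ q (e x) := by
  have hqc : (GrTilde.tilde 𝒫 𝒫 d).IsQuasicoherent :=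
    Groth.Agent.Lib.Helper27GrTildeSect.isQuasicoherent_tilde _ _ d
  exact Groth.Agent.Lib.R2H2.LerayNat.exists_natural (Proj 𝒫)
    (Wp 𝒫 (vars R n)) (iSup_Wp_vars R n)
    (isAffineOpen_biInf_Wp 𝒫 (vars R n) (hfs_vars R n))
    (GrTilde.tilde 𝒫 𝒫 d) q

/-- the strand complex computes Čech cohomology of `O(d)`, compatibly with constants -/
theorem exists_KK_cech_natural (d : ℤ) (q : ℕ) :
    ∃ E : ((KK R n d).homology q : AddCommGrpCat.{u}) ≃+
        ↑(CohB1.cechH (Wp 𝒫 (vars R n)) (GrTilde.tilde 𝒫 𝒫 d) q),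
      ∀ (r : R) (z : ((KK R n d).homology q : AddCommGrpCat.{u})),
        E (HomologicalComplex.homologyMap (muR R n d r) q z) =
          HomologicalComplex.homologyMap ((cechComplexFunctor (Wp 𝒫 (vars R n))).map
            (Coh.smulAb (GrTilde.tilde 𝒫 𝒫 d) (constFun 𝒫 r)).hom) q (E z) := by
  obtain ⟨E, hE⟩ := exists_cech_strand_natural 𝒫 𝒫 (vars R n) (hfs_vars R n) d q
  exact ⟨E, fun r z => hE r (gR R n r) (isGr_gR R n r) (gR_apply R n r) z⟩

/-- the strand complex computes the cohomology of `O(d)`, compatibly with constants -/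
theorem exists_HH_KK_natural (d : ℤ) (q : ℕ) :
    ∃ e : ((KK R n d).homology q : AddCommGrpCat.{u}) ≃+
        Coh.HH (Proj 𝒫) (GrTilde.tilde 𝒫 𝒫 d) q,
      ∀ (r : R) (z : ((KK R n d).homology q : AddCommGrpCat.{u})),
        e (HomologicalComplex.homologyMap (muR R n d r) q z) =
          Sheaf.H.map (Coh.smulAb (GrTilde.tilde 𝒫 𝒫 d) (constFun 𝒫 r)) q (e z) := by
  refine Exists.elim (exists_cech_HH_natural R n d q) (fun e1 he1 => ?_)
  refine Exists.elim (exists_KK_cech_natural R n d q) (fun E hE => ?_)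
  refine ⟨E.trans e1, ?_⟩
  intro r z
  have key : ∀ X, (E.trans e1) X = e1 (E X) := fun X => rfl
  refine (key _).trans ?_
  refine (congrArg e1 (hE r z)).trans ?_
  refine (he1 (Coh.smulAb (GrTilde.tilde 𝒫 𝒫 d) (constFun 𝒫 r)) (E z)).trans ?_
  exact congrArg _ (key z).symm

/-- top cohomology of `O(d)`, `d < 0`, as a space of Laurent polynomials -/
theorem exists_top_addEquiv (d : ℤ) (hd : d < 0) :
    ∃ e : VV R n d ≃+ Coh.HH (Proj 𝒫) (GrTilde.tilde 𝒫 𝒫 d) n,
      ∀ (r : R) (f : VV R n d),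
        e (r • f) = Sheaf.H.map (Coh.smulAb (GrTilde.tilde 𝒫 𝒫 d) (constFun 𝒫 r)) n (e f) := by
  refine Exists.elim (exists_HH_KK_natural R n d n) (fun e he => ?_)
  refine Exists.elim (exists_top_equiv R n d hd) (fun t ht => ?_)
  refine ⟨t.trans e, ?_⟩
  intro r f
  have key : ∀ X, (t.trans e) X = e (t X) := fun X => rfl
  refine (key _).trans ?_
  refine (congrArg e (ht r f)).trans ?_
  refine (he r (t f)).trans ?_
  exact congrArg _ (key f).symm

/-- the `R`-module structure on the cohomology of `O(d)` is given by the constant functions -/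
lemma smul_eq (d : ℤ) (q : ℕ) (r : R)
    (x : Coh.HH (CohB1.ProjSpace n R) (Twist.twistProjSpace n R d) q) :
    r • x = Sheaf.H.map (Coh.smulAb (Twist.twistProjSpace n R d)
      (Coh.toGlobal (CohB1.ProjSpace n R ↘ Spec (CommRingCat.of R)) r)) q x := rfl

/-- top cohomology of `O(d)`, `d < 0`, on `P^n_R` as a space of Laurent polynomials, `R`-linearly -/
theorem exists_top_addEquiv' (d : ℤ) (hd : d < 0) :
    ∃ e : VV R n d ≃+ Coh.HH (CohB1.ProjSpace n R) (Twist.twistProjSpace n R d) n,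
      ∀ (r : R) (f : VV R n d), e (r • f) = r • e f :=
  exists_top_addEquiv R n d hd

/-- **top cohomology of `O(-(n+1+k))` on `P^n_R`** -/
theorem nonempty_top_linearEquiv (k : ℕ) :
    Nonempty (Coh.HH (CohB1.ProjSpace n R) (Twist.twistProjSpace n R (-((n : ℤ) + 1 + k))) n ≃ₗ[R]
      ↥(MvPolynomial.homogeneousSubmodule (Fin (n + 1)) R k)) := by
  have hd : -((n : ℤ) + 1 + k) < 0 := by
    have h1 : (0 : ℤ) ≤ (n : ℤ) := Int.natCast_nonneg _
    have h2 : (0 : ℤ) ≤ (k : ℤ) := Int.natCast_nonneg _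
    omega
  obtain ⟨e, he⟩ := exists_top_addEquiv' R n (-((n : ℤ) + 1 + k)) hd
  let φ : VV R n (-((n : ℤ) + 1 + k)) →ₗ[R]
      Coh.HH (CohB1.ProjSpace n R) (Twist.twistProjSpace n R (-((n : ℤ) + 1 + k))) n :=
    { toFun := fun f => e f
      map_add' := fun f f' => map_add e f f'
      map_smul' := fun r f => he r f }
  have hbij : Function.Bijective φ := e.bijective
  exact ⟨(LinearEquiv.ofBijective φ hbij).symm.trans (vvEquiv R n k)⟩

end Coh

end Groth.Agent.Lib.R2H2.PnTop
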