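import Mathlib
import Groth.Agent.Lib.Helper1KBC3
import Groth.Agent.Lib.Helper20RegMero

set_option autoImplicit false
universe u
open CategoryTheory CategoryTheory.Limits AlgebraicGeometry TopologicalSpace Opposite MonoidalCategory

namespace Groth.Agent.Lib.R2Lead.TensorExact

open Groth.Agent.Lib.Helper1.BKF Groth.Agent.Lib.Helper1.Sky Groth.Agent.Lib.Helper1.StalkTensor
  Groth.Agent.Lib.Helper1.KBC

variable {X : Scheme.{u}}

/-- the stalks of an invertible module are flat (free of rank one). -/
theorem flat_stalk_of_isInvertible (L : X.Modules) (hL : PicF.IsInvertible L) (x : X) :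
    Module.Flat (Ox x) (St (toPM L) x) := by
  obtain ⟨g, hg⟩ := Groth.Agent.Lib.Helper20.RegMero.exists_isGen L hL x
  let e : Ox x ≃ₗ[Ox x] St (toPM L) x :=
    LinearEquiv.ofBijective (LinearMap.toSpanSingleton (Ox x) (St (toPM L) x) g) hg
  exact Module.Flat.of_linearEquiv e.symm

/-- the stalk functors jointly reflect short exactness. -/
theorem shortExact_of_forall_stalk (T : ShortComplex X.Modules)
    (h : ∀ x : X, (T.map (stalkFun x)).ShortExact) : T.ShortExact := by
  have hmono : Mono T.f := by
    apply Preadditive.mono_of_isZero_kernel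
    apply isZero_of_forall_isZero_stalk
    intro x
    haveI : Mono ((stalkFun x).map T.f) := (h x).mono_f
    exact IsZero.of_iso (isZero_kernel_of_mono ((stalkFun x).map T.f))
      (PreservesKernel.iso (stalkFun x) T.f)
  have hepi : Epi T.g := by
    apply Preadditive.epi_of_isZero_cokernel
    apply isZero_of_forall_isZero_stalk
    intro x
    haveI : Epi ((stalkFun x).map T.g) := (h x).epi_g
    exact IsZero.of_iso (isZero_cokernel_of_epi ((stalkFun x).map T.g))
      (PreservesCokernel.iso (stalkFun x) T.g)
  have hex : T.Exact := by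
    rw [ShortComplex.exact_iff_isZero_homology]
    apply isZero_of_forall_isZero_stalk
    intro x
    have h1 : IsZero (T.map (stalkFun x)).homology :=
      (ShortComplex.exact_iff_isZero_homology _).1 (h x).exact
    exact IsZero.of_iso h1 (T.mapHomologyIso (stalkFun x)).symm
  exact ShortComplex.ShortExact.mk' hex hmono hepi

/-- tensoring with a module with flat stalks preserves short exact sequences. -/
theorem shortExact_map_tensorBi (L : X.Modules) (hfl : ∀ x : X, Module.Flat (Ox x) (St (toPM L) x))
    (S : ShortComplex X.Modules) (hS : S.ShortExact) :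
    (S.map (DCoh.tensorBi.obj L)).ShortExact := by
  apply shortExact_of_forall_stalk
  intro x
  haveI := hfl x
  have e : DCoh.tensorBi.obj L ⋙ stalkFun x ≅ stalkFun x ⋙ tensorLeft ((stalkFun x).obj L) :=
    (stalkTensorIso x).app L
  haveI : Module.Flat (Ox x) ((stalkFun x).obj L) := hfl x
  have h1 : (S.map (stalkFun x ⋙ tensorLeft ((stalkFun x).obj L))).ShortExact :=
    (hS.map_of_exact (stalkFun x)).map_of_exact (tensorLeft ((stalkFun x).obj L))
  exact ShortComplex.shortExact_of_iso (S.mapNatIso e.symm) h1

/-- tensoring with an invertible module preserves short exact sequences. -/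
theorem shortExact_map_tensorBi_of_isInvertible (L : X.Modules) (hL : PicF.IsInvertible L)
    (S : ShortComplex X.Modules) (hS : S.ShortExact) :
    (S.map (DCoh.tensorBi.obj L)).ShortExact :=
  shortExact_map_tensorBi L (flat_stalk_of_isInvertible L hL) S hS

end Groth.Agent.Lib.R2Lead.TensorExact
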