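import Mathlib
import Groth.Agent.Lib.R2LeadTensorExact
import Groth.Agent.Lib.Helper21ModTensor7
import Groth.Agent.Lib.Helper23PB
import Groth.Agent.Lib.Helper23QCohExt
import Groth.Agent.Lib.Helper17DS3
import Groth.Agent.Lib.Helper27PnChart
import Groth.Agent.S12453
import Groth.Prelude.Def_KRR

set_option autoImplicit false
universe u
open CategoryTheory CategoryTheory.Limits AlgebraicGeometry TopologicalSpace Opposite MonoidalCategory

namespace Groth.Agent.Lib.R2Lead.KRR

open Groth.Agent.Lib.R2Lead.TensorExact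

section Proj
variable (n : ℕ) (R : Type u) [CommRing R]

theorem hcov_polyGrading :
    (⨆ f : CohB1.polyGrading n R 1, Proj.basicOpen (CohB1.polyGrading n R)
      (f : MvPolynomial (Fin (n + 1)) R)) = ⊤ := by
  rw [eq_top_iff, ← Groth.Agent.Lib.Helper27PnChart.iSup_basicOpen_X n R]
  apply iSup_le
  intro i
  exact le_iSup (fun f : CohB1.polyGrading n R 1 => Proj.basicOpen (CohB1.polyGrading n R)
      (f : MvPolynomial (Fin (n + 1)) R)) ⟨MvPolynomial.X i, Groth.Agent.Lib.Helper27PnChart.X_mem_one n R i⟩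

theorem isInvertible_twistProjSpace (d : ℤ) : PicF.IsInvertible (Twist.twistProjSpace n R d) :=
  (Groth.Agent.S12453.result (CohB1.polyGrading n R) (hcov_polyGrading n R)).1 d

theorem nonempty_twistProjSpace_tensor_iso (a b : ℤ) :
    Nonempty (CohB1.tensorMod (Twist.twistProjSpace n R a) (Twist.twistProjSpace n R b) ≅
      Twist.twistProjSpace n R (a + b)) :=
  (Groth.Agent.S12453.result (CohB1.polyGrading n R) (hcov_polyGrading n R)).2.1 a b

theorem nonempty_twistProjSpace_zero_iso :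
    Nonempty (Twist.twistProjSpace n R 0 ≅ Coh.structureModule (CohB1.ProjSpace n R)) :=
  (Groth.Agent.S12453.result (CohB1.polyGrading n R) (hcov_polyGrading n R)).2.2 0

end Proj

variable (n : ℕ) (Y : Scheme.{u})

theorem isInvertible_twistOver (d : ℤ) : PicF.IsInvertible (Twist.twistOver n Y d) :=
  Groth.Agent.Lib.Helper23.PB.isInvertible_pullback _ _ (isInvertible_twistProjSpace n _ d)

theorem nonempty_twistOver_tensor_iso (a b : ℤ) :
    Nonempty ((DCoh.tensorBi.obj (Twist.twistOver n Y a)).obj (Twist.twistOver n Y b) ≅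
      Twist.twistOver n Y (a + b)) := by
  obtain ⟨e⟩ := nonempty_twistProjSpace_tensor_iso n (ULift.{u} ℤ) a b
  obtain ⟨e'⟩ := Groth.Agent.Lib.Helper23.PB.nonempty_pullback_tensorMod_iso
    (pullback.fst (CohB1.ProjSpace.toSpec n (ULift.{u} ℤ)) (specULiftZIsTerminal.from Y))
    (Twist.twistProjSpace n (ULift.{u} ℤ) a) (Twist.twistProjSpace n (ULift.{u} ℤ) b)
    (isInvertible_twistProjSpace n _ a) (isInvertible_twistProjSpace n _ b)
  exact ⟨e'.symm ≪≫ (Scheme.Modules.pullback _).mapIso e⟩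

theorem nonempty_twistOver_zero_iso :
    Nonempty (Twist.twistOver n Y 0 ≅ Coh.structureModule (KRR.PY n Y)) := by
  obtain ⟨e⟩ := nonempty_twistProjSpace_zero_iso n (ULift.{u} ℤ)
  exact ⟨(Scheme.Modules.pullback _).mapIso e ≪≫ Groth.Agent.Lib.Helper23.PB.pullbackUnitIso _⟩

/-- `F ↦ F(d)` as a functor. -/
noncomputable abbrev twFun (d : ℤ) : (KRR.PY n Y).Modules ⥤ (KRR.PY n Y).Modules :=
  DCoh.tensorBi.obj (Twist.twistOver n Y d)

theorem twF_eq (d : ℤ) (F : (KRR.PY n Y).Modules) : KRR.twF n Y d F = (twFun n Y d).obj F := rfl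

theorem nonempty_twFun_comp_iso (a b : ℤ) :
    Nonempty (twFun n Y b ⋙ twFun n Y a ≅ twFun n Y (a + b)) := by
  obtain ⟨e⟩ := nonempty_twistOver_tensor_iso n Y a b
  exact ⟨(Groth.Agent.Lib.Helper21.ModTensor6.tLTensorIso (KRR.PY n Y).sheaf
    (Twist.twistOver n Y a) (Twist.twistOver n Y b)).symm ≪≫ DCoh.tensorBi.mapIso e⟩

theorem nonempty_twFun_zero_iso : Nonempty (twFun n Y 0 ≅ 𝟭 _) := by
  obtain ⟨e⟩ := nonempty_twistOver_zero_iso n Y
  exact ⟨DCoh.tensorBi.mapIso e ≪≫ Groth.Agent.Lib.Helper21.ModTensor7.tLUnitIso (KRR.PY n Y).sheaf⟩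

/-- twisting preserves short exact sequences, and so does passing to abelian sheaves. -/
theorem shortExact_toAb_twFun (d : ℤ) (S : ShortComplex (KRR.PY n Y).Modules) (hS : S.ShortExact) :
    ((S.map (twFun n Y d)).map (Groth.Agent.Lib.Helper23.QCohLocal.toAbF (KRR.PY n Y))).ShortExact :=
  Groth.Agent.Lib.Helper23.QCohLocal.shortExact_toAbF _
    (shortExact_map_tensorBi_of_isInvertible _ (isInvertible_twistOver n Y d) S hS)

end Groth.Agent.Lib.R2Lead.KRR
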