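import Groth.Agent.Lib.R2H2HHLin
import Groth.Agent.Lib.R2H2PnTop
import Groth.Agent.Lib.R2LeadKRR
import Groth.Agent.Lib.Helper23SecTw3
import Groth.Agent.Lib.Helper23Serre
import Groth.Agent.Lib.Helper23QCohSum
import Groth.Agent.Lib.Helper23FinType2
import Groth.Agent.Lib.Helper23FinTypeLocal
import Groth.Agent.S0846
import Groth.Agent.S0022
import Groth.Agent.S2357

/-!
# Finiteness of the cohomology of coherent modules on projective space (helper2, round 2)
-/

set_option autoImplicit false
set_option linter.unusedSectionVars false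
universe u

namespace Groth.Agent.Lib.R2H2.PnFinite

open CategoryTheory CategoryTheory.Limits AlgebraicGeometry Opposite
open Groth.Agent.Lib.R2H2.HHLin Groth.Agent.Lib.Helper23.QCohLocal Groth.Agent.Lib.Helper23.FinType

attribute [local instance] Abelian.hasFiniteBiproducts

section General

variable {X : Scheme.{u}}

lemma sum_app {M N : X.Modules} {ι : Type*} (s : Finset ι) (φ : ι → (M ⟶ N)) (U : X.Opens)
    (x : Γ(M, U)) : (∑ j ∈ s, φ j).app U x = ∑ j ∈ s, (φ j).app U x := by
  classical
  induction s using Finset.induction_on with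
  | empty =>
    rw [Finset.sum_empty, Finset.sum_empty]
    rfl
  | insert a s ha ih =>
    rw [Finset.sum_insert ha, Finset.sum_insert ha, Scheme.Modules.Hom.add_app, ← ih]
    rfl

/-- a finite direct sum of finite type quasi-coherent modules is of finite type -/
theorem isFiniteType_biproduct {n : ℕ} (A : Fin n → X.Modules)
    (hq : ∀ k, (A k).IsQuasicoherent)
    (hf : ∀ k, SheafOfModules.IsFiniteType (R := X.ringCatSheaf) (A k)) :
    SheafOfModules.IsFiniteType (R := X.ringCatSheaf) (⨁ A : X.Modules) := by
  have : (⨁ A : X.Modules).IsQuasicoherent := isQuasicoherent_biproduct A hq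
  rw [isFiniteType_iff_forall_affine]
  intro U hU
  have hfin : ∀ k, Module.Finite Γ(X, U) Γ(A k, U) := fun k => by
    have := hq k
    have := hf k
    exact finite_of_isFiniteType (A k) hU
  let fk : ∀ k, Γ(A k, U) →ₗ[Γ(X, U)] Γ((⨁ A : X.Modules), U) := fun k =>
    { toFun := fun x => (biproduct.ι A k).app U x
      map_add' := fun x y => map_add _ x y
      map_smul' := fun r x => Scheme.Modules.Hom.app_smul (biproduct.ι A k) r x }
  let F : (∀ k, Γ(A k, U)) →ₗ[Γ(X, U)] Γ((⨁ A : X.Modules), U) :=
    ∑ k, (fk k).comp (LinearMap.proj k)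
  refine Module.Finite.of_surjective F ?_
  intro s
  refine ⟨fun k => (biproduct.π A k).app U s, ?_⟩
  have h1 : (∑ j : Fin n, biproduct.π A j ≫ biproduct.ι A j : (⨁ A : X.Modules) ⟶ ⨁ A) = 𝟙 _ :=
    biproduct.total
  have h2 := congrArg (fun φ : (⨁ A : X.Modules) ⟶ (⨁ A : X.Modules) => φ.app U s) h1
  simp only [sum_app, Scheme.Modules.Hom.comp_app, Scheme.Modules.Hom.id_app] at h2
  rw [LinearMap.sum_apply]
  exact h2

/-- sections of the structure sheaf module are functions (linearly) -/
noncomputable def strEquiv (X : Scheme.{u}) (V : X.Opens) :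
    Γ(Coh.structureModule X, V) ≃ₗ[Γ(X, V)] Γ(X, V) where
  toFun x := x
  invFun x := x
  map_add' _ _ := rfl
  map_smul' _ _ := rfl
  left_inv _ := rfl
  right_inv _ := rfl

/-- the structure module is of finite type -/
theorem isFiniteType_structureModule (X : Scheme.{u}) :
    SheafOfModules.IsFiniteType (R := X.ringCatSheaf) (Coh.structureModule X) := by
  have : (Coh.structureModule X).IsQuasicoherent :=
    Groth.Agent.Lib.Helper23.Serre.isQuasicoherent_structureModule' X
  refine isFiniteType_of_finite _ (fun V : X.affineOpens => V.1)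
    (iSup_affineOpens_eq_top X) (fun V => V.2) (fun V => ?_)
  exact Module.Finite.equiv (strEquiv X V.1).symm

/-- invertible modules are of finite type -/
theorem isFiniteType_of_isInvertible (L : X.Modules) (hL : PicF.IsInvertible L) :
    SheafOfModules.IsFiniteType (R := X.ringCatSheaf) L := by
  have := Groth.Agent.Lib.Helper23.SecTw.isQuasicoherent_of_isInvertible L hL
  choose U hyU hiso using hL
  refine isFiniteType_of_open_cover L U ?_ ?_
  · rw [TopologicalSpace.IsOpenCover, eq_top_iff]
    intro x _
    exact TopologicalSpace.Opens.mem_iSup.2 ⟨x, hyU x⟩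
  · intro y
    obtain ⟨e⟩ := hiso y
    have h2 : SheafOfModules.IsFiniteType (R := (U y : Scheme.{u}).ringCatSheaf)
        (Coh.structureModule (U y : Scheme.{u})) := isFiniteType_structureModule _
    exact isFiniteType_of_iso e.symm

end General

section Pn

variable (n : ℕ) (R : Type u) [CommRing R]

local notation "PX" => CohB1.ProjSpace n R

lemma isQCoh_twist (d : ℤ) : (Twist.twistProjSpace n R d).IsQuasicoherent :=
  Groth.Agent.Lib.Helper23.SecTw.isQuasicoherent_of_isInvertible _
    (Groth.Agent.Lib.R2Lead.KRR.isInvertible_twistProjSpace n R d)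

lemma isFiniteType_twist (d : ℤ) :
    SheafOfModules.IsFiniteType (R := (PX).ringCatSheaf) (Twist.twistProjSpace n R d) :=
  isFiniteType_of_isInvertible _ (Groth.Agent.Lib.R2Lead.KRR.isInvertible_twistProjSpace n R d)

lemma finite_homogeneousSubmodule (k : ℕ) :
    Module.Finite R ↥(MvPolynomial.homogeneousSubmodule (Fin (n + 1)) R k) :=
  Module.Finite.iff_fg.mpr (MvPolynomial.homogeneousSubmodule_fg (Fin (n + 1)) R k)

/-- the cohomology of `O(d)` is a finite module -/
theorem finite_HH_twist (d : ℤ) (i : ℕ) :
    Module.Finite R (Coh.HH PX (Twist.twistProjSpace n R d) i) := by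
  have := finite_homogeneousSubmodule n R
  by_cases h0 : i = 0 ∧ 0 ≤ d
  · obtain ⟨rfl, hd⟩ := h0
    obtain ⟨k, rfl⟩ := Int.eq_ofNat_of_zero_le hd
    obtain ⟨e⟩ := Groth.Agent.Lib.Helper27PnSections.nonempty_linearEquiv n R k
    exact Module.Finite.equiv e.symm
  · by_cases hn : i = n ∧ d ≤ -((n : ℤ) + 1)
    · obtain ⟨rfl, hd⟩ := hn
      obtain ⟨k, hk⟩ := Int.eq_ofNat_of_zero_le (show 0 ≤ -d - ((i : ℤ) + 1) by omega)
      have hd' : d = -((i : ℤ) + 1 + k) := by omega
      subst hd'
      obtain ⟨e⟩ := Groth.Agent.Lib.R2H2.PnTop.nonempty_top_linearEquiv R i k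
      exact Module.Finite.equiv e.symm
    · have : Subsingleton (Coh.HH PX (Twist.twistProjSpace n R d) i) :=
        Groth.Agent.Lib.R2H2.PnCoh.subsingleton_HH_tilde R n d i h0 hn
      have : Finite (Coh.HH PX (Twist.twistProjSpace n R d) i) := Finite.of_subsingleton
      exact Module.Finite.of_finite

/-- the cohomology of a finite direct sum of twists is a finite module -/
theorem finite_HH_biproduct {r : ℕ} (d : Fin r → ℤ) (i : ℕ) :
    Module.Finite R (Coh.HH PX (⨁ fun j : Fin r => Twist.twistProjSpace n R (d j)) i) := by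
  have hfin : ∀ j, Module.Finite R (Coh.HH PX (Twist.twistProjSpace n R (d j)) i) :=
    fun j => finite_HH_twist n R (d j) i
  let f : Fin r → (PX).Modules := fun j => Twist.twistProjSpace n R (d j)
  let F : (∀ j, Coh.HH PX (f j) i) →ₗ[R] Coh.HH PX (⨁ f) i :=
    ∑ j, (HmapA R (biproduct.ι f j) i).comp (LinearMap.proj j)
  refine Module.Finite.of_surjective F ?_
  intro x
  refine ⟨fun j => HmapA R (biproduct.π f j) i x, ?_⟩
  rw [LinearMap.sum_apply]
  have h1 : (∑ j : Fin r, biproduct.π f j ≫ biproduct.ι f j : (⨁ f) ⟶ ⨁ f) = 𝟙 _ :=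
    biproduct.total
  have h2 : HmapL (∑ j : Fin r, biproduct.π f j ≫ biproduct.ι f j) i x = x := by
    rw [h1, HmapL_id]
  rw [HmapL_sum] at h2
  refine Eq.trans (Finset.sum_congr rfl (fun j _ => ?_)) h2
  rw [HmapL_comp]
  rfl

end Pn

section Main

variable (n : ℕ) (R : Type u) [CommRing R] [IsNoetherianRing R]

local notation "PX" => CohB1.ProjSpace n R

instance isLocallyNoetherian_projSpace : IsLocallyNoetherian PX := by
  have : IsNoetherianRing (MvPolynomial (Fin (n + 1)) R) := inferInstance
  have h : IsNoetherian (Proj (CohB1.polyGrading n R)) :=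
    Groth.Agent.S2357.result (CohB1.polyGrading n R)
  exact h.toIsLocallyNoetherian

/-- every coherent module on `P^n_R` is a quotient of a finite direct sum of twists -/
theorem exists_epi_twists (M : (PX).Modules) (hM : Coh.IsCoh M) :
    ∃ (r : ℕ) (d : Fin r → ℤ)
      (φ : (⨁ fun j : Fin r => Twist.twistProjSpace n R (d j)) ⟶ M), Epi φ := by
  have : IsNoetherianRing (MvPolynomial (Fin (n + 1)) R) := inferInstance
  obtain ⟨r, d, φ, hφ⟩ := Groth.Agent.S0846.result (CohB1.polyGrading n R) M hM
  let f : Fin r → (PX).Modules := fun j => Twist.twistProjSpace n R (d j)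
  let φ' : (∐ f) ⟶ M := φ
  have hφ' : Epi φ' := hφ
  exact ⟨r, d, (biproduct.isoCoproduct f).hom ≫ φ', epi_comp _ _⟩

theorem finite_HH_aux (k : ℕ) : ∀ (i : ℕ), n + 1 ≤ i + k → ∀ (M : (PX).Modules), Coh.IsCoh M →
    Module.Finite R (Coh.HH PX M i) := by
  induction k with
  | zero =>
    intro i hi M hM
    have hq : Coh.IsQCoh M := hM.1
    have : Subsingleton (Coh.HH PX M i) := Groth.Agent.S0022.result n R M i (by omega)
    have : Finite (Coh.HH PX M i) := Finite.of_subsingleton
    exact Module.Finite.of_finite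
  | succ k ih =>
    intro i hi M hM
    by_cases hin : n + 1 ≤ i
    · have hq : Coh.IsQCoh M := hM.1
      have : Subsingleton (Coh.HH PX M i) := Groth.Agent.S0022.result n R M i (by omega)
      have : Finite (Coh.HH PX M i) := Finite.of_subsingleton
      exact Module.Finite.of_finite
    · have hP := ih (i + 1) (by omega)
      obtain ⟨r, d, φ, hφ⟩ := exists_epi_twists n R M hM
      let f : Fin r → (PX).Modules := fun j => Twist.twistProjSpace n R (d j)
      have hEq : (⨁ f : (PX).Modules).IsQuasicoherent :=
        isQuasicoherent_biproduct f (fun j => isQCoh_twist n R (d j))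
      have hEf : SheafOfModules.IsFiniteType (R := (PX).ringCatSheaf) (⨁ f : (PX).Modules) :=
        isFiniteType_biproduct f (fun j => isQCoh_twist n R (d j))
          (fun j => isFiniteType_twist n R (d j))
      have hMq : M.IsQuasicoherent := hM.1
      have hKq : (kernel φ).IsQuasicoherent := isQuasicoherent_kernel φ
      have hmono : Mono (kernel.ι φ) := equalizer.ι_mono
      have hKf : SheafOfModules.IsFiniteType (R := (PX).ringCatSheaf) (kernel φ) :=
        @isFiniteType_of_mono PX _ _ _ (kernel.ι φ) hmono hEq hEf hKq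
      have hK : Coh.IsCoh (kernel φ) := ⟨hKq, hKf⟩
      let S : ShortComplex (PX).Modules := ShortComplex.mk (kernel.ι φ) φ (kernel.condition φ)
      have hS : S.ShortExact :=
        { exact := ShortComplex.exact_kernel φ
          mono_f := hmono
          epi_g := hφ }
      have h1 : Module.Finite R (Coh.HH PX S.X₂ i) := finite_HH_biproduct n R d i
      have h3 : Module.Finite R (Coh.HH PX S.X₁ (i + 1)) := hP (kernel φ) hK
      exact finite_of_exact (HmapA R S.g i) (deltaA R S hS i) (exact₃ S hS i)

/-- **finiteness of the cohomology of coherent modules on projective space over a Noetherian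
ring** -/
theorem finite_HH (M : (PX).Modules) (hM : Coh.IsCoh M) (i : ℕ) :
    Module.Finite R (Coh.HH PX M i) :=
  finite_HH_aux n R (n + 1) i (by omega) M hM

end Main

end Groth.Agent.Lib.R2H2.PnFinite
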