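import Groth.Agent.Lib.R2H2PnFinite
import Groth.Agent.Lib.Helper21ModTensor7
import Groth.Agent.Lib.Helper23TensorQCoh

/-!
# Serre vanishing on projective space over a Noetherian ring (helper2, round 2)
-/

set_option autoImplicit false
set_option linter.unusedSectionVars false
universe u

namespace Groth.Agent.Lib.R2H2.PnSerre

open CategoryTheory CategoryTheory.Limits AlgebraicGeometry Opposite
open Groth.Agent.Lib.R2H2.HHLin Groth.Agent.Lib.R2H2.PnFinite
  Groth.Agent.Lib.Helper23.QCohLocal Groth.Agent.Lib.Helper23.FinType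

attribute [local instance] Abelian.hasFiniteBiproducts

section General

variable {X : Scheme.{u}}

/-- `F ↦ F ⊗ L` -/
noncomputable def twR (L : X.Modules) : X.Modules ⥤ X.Modules := DCoh.tensorBi.flip.obj L

lemma twR_obj (L F : X.Modules) : (twR L).obj F = CohB1.tensorMod F L := rfl

/-- the braiding `L ⊗ - ≅ - ⊗ L` -/
noncomputable def twIso (L : X.Modules) : DCoh.tensorBi.obj L ≅ twR L :=
  (Groth.Agent.Lib.Helper21.ModTensor5.brd X.sheaf).app L

instance twR_additive (L : X.Modules) : (twR L).Additive :=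
  Functor.additive_of_iso (twIso L)

/-- tensoring with an invertible module preserves short exact sequences -/
theorem shortExact_map_twR (L : X.Modules) (hL : PicF.IsInvertible L)
    (S : ShortComplex X.Modules) (hS : S.ShortExact) : (S.map (twR L)).ShortExact :=
  ShortComplex.shortExact_of_iso (S.mapNatIso (twIso L))
    (Groth.Agent.Lib.R2Lead.TensorExact.shortExact_map_tensorBi_of_isInvertible L hL S hS)

/-- vanishing of cohomology is invariant under isomorphisms -/
theorem subsingleton_HH_of_iso {M N : X.Modules} (e : M ≅ N) (i : ℕ)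
    (h : Subsingleton (Coh.HH X M i)) : Subsingleton (Coh.HH X N i) := by
  refine ⟨fun a b => ?_⟩
  have h1 : ∀ x : Coh.HH X N i, HmapL e.hom i (HmapL e.inv i x) = x := fun x => by
    rw [← HmapL_comp, e.inv_hom_id, HmapL_id]
  rw [← h1 a, ← h1 b, Subsingleton.elim (HmapL e.inv i a) (HmapL e.inv i b)]

/-- vanishing of the cohomology of a finite direct sum -/
theorem subsingleton_HH_biproduct {r : ℕ} (f : Fin r → X.Modules) (i : ℕ)
    (h : ∀ j, Subsingleton (Coh.HH X (f j) i)) : Subsingleton (Coh.HH X (⨁ f) i) := by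
  have h0 : ∀ x : Coh.HH X (⨁ f) i, x = 0 := fun x => by
    have h1 : (∑ j : Fin r, biproduct.π f j ≫ biproduct.ι f j : (⨁ f) ⟶ ⨁ f) = 𝟙 _ :=
      biproduct.total
    have h2 : HmapL (∑ j : Fin r, biproduct.π f j ≫ biproduct.ι f j) i x = x := by
      rw [h1, HmapL_id]
    rw [HmapL_sum] at h2
    rw [← h2]
    refine Finset.sum_eq_zero (fun j _ => ?_)
    rw [HmapL_comp]
    have := h j
    rw [Subsingleton.elim (HmapL (biproduct.π f j) i x) 0, map_zero]
  exact ⟨fun a b => (h0 a).trans (h0 b).symm⟩

end General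

section Pn

variable (n : ℕ) (R : Type u) [CommRing R]

local notation "PX" => CohB1.ProjSpace n R

lemma isInv (d : ℤ) : PicF.IsInvertible (Twist.twistProjSpace n R d) :=
  Groth.Agent.Lib.R2Lead.KRR.isInvertible_twistProjSpace n R d

/-- the higher cohomology of a twisted sum of twists vanishes for large twists -/
theorem subsingleton_HH_twR_biproduct {r : ℕ} (d : Fin r → ℤ) (e : ℤ) (he : ∀ j, 0 ≤ d j + e)
    (i : ℕ) (hi : 0 < i) :
    Subsingleton (Coh.HH PX ((twR (Twist.twistProjSpace n R e)).obj
      (⨁ fun j : Fin r => Twist.twistProjSpace n R (d j))) i) := by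
  let f : Fin r → (PX).Modules := fun j => Twist.twistProjSpace n R (d j)
  let L : (PX).Modules := Twist.twistProjSpace n R e
  let e1 : (twR L).obj (⨁ f) ≅ ⨁ ((twR L).obj ∘ f) := (twR L).mapBiproduct f
  refine subsingleton_HH_of_iso e1.symm i (subsingleton_HH_biproduct _ i (fun j => ?_))
  obtain ⟨e2⟩ := Groth.Agent.Lib.R2Lead.KRR.nonempty_twistProjSpace_tensor_iso n R (d j) e
  refine subsingleton_HH_of_iso e2.symm i ?_
  apply Groth.Agent.Lib.R2H2.PnCoh.subsingleton_HH_tilde R n (d j + e) i
  · rintro ⟨h0, -⟩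
    omega
  · rintro ⟨-, h1⟩
    have := he j
    have h2 : (0 : ℤ) ≤ (n : ℤ) := Int.natCast_nonneg _
    omega

end Pn

section Main

variable (n : ℕ) (R : Type u) [CommRing R] [IsNoetherianRing R]

local notation "PX" => CohB1.ProjSpace n R

theorem serre_vanishing_aux (k : ℕ) : ∀ (i : ℕ), 0 < i → n + 1 ≤ i + k →
    ∀ (M : (PX).Modules), Coh.IsCoh M →
    ∃ d₀ : ℤ, ∀ d : ℤ, d₀ ≤ d →
      Subsingleton (Coh.HH PX (CohB1.tensorMod M (Twist.twistProjSpace n R d)) i) := by
  induction k with
  | zero =>
    intro i _ hi M hM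
    refine ⟨0, fun d _ => ?_⟩
    have hq : M.IsQuasicoherent := hM.1
    have hq2 : (Twist.twistProjSpace n R d).IsQuasicoherent := isQCoh_twist n R d
    have hq3 : Coh.IsQCoh (CohB1.tensorMod M (Twist.twistProjSpace n R d)) :=
      Groth.Agent.Lib.Helper23.TensorQCoh.isQuasicoherent_tensorMod M (Twist.twistProjSpace n R d)
    exact Groth.Agent.S0022.result n R _ i (by omega)
  | succ k ih =>
    intro i hi0 hi M hM
    by_cases hin : n + 1 ≤ i
    · refine ⟨0, fun d _ => ?_⟩
      have hq : M.IsQuasicoherent := hM.1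
      have hq2 : (Twist.twistProjSpace n R d).IsQuasicoherent := isQCoh_twist n R d
      have hq3 : Coh.IsQCoh (CohB1.tensorMod M (Twist.twistProjSpace n R d)) :=
        Groth.Agent.Lib.Helper23.TensorQCoh.isQuasicoherent_tensorMod M (Twist.twistProjSpace n R d)
      exact Groth.Agent.S0022.result n R _ i (by omega)
    · have hP := ih (i + 1) (by omega) (by omega)
      obtain ⟨r, d, φ, hφ⟩ := exists_epi_twists n R M hM
      let f : Fin r → (PX).Modules := fun j => Twist.twistProjSpace n R (d j)
      have hEq : (⨁ f : (PX).Modules).IsQuasicoherent :=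
        isQuasicoherent_biproduct f (fun j => isQCoh_twist n R (d j))
      have hEf : SheafOfModules.IsFiniteType (R := (PX).ringCatSheaf) (⨁ f : (PX).Modules) :=
        isFiniteType_biproduct f (fun j => isQCoh_twist n R (d j))
          (fun j => isFiniteType_twist n R (d j))
      have hMq : M.IsQuasicoherent := hM.1
      have hKq : (kernel φ).IsQuasicoherent := isQuasicoherent_kernel φ
      have hmono : Mono (kernel.ι φ) := equalizer.ι_mono
      have hKf : SheafOfModules.IsFiniteType (R := (PX).ringCatSheaf) (kernel φ) :=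
        @isFiniteType_of_mono PX _ _ _ (kernel.ι φ) hmono hEq hEf hKq
      have hK : Coh.IsCoh (kernel φ) := ⟨hKq, hKf⟩
      let S : ShortComplex (PX).Modules := ShortComplex.mk (kernel.ι φ) φ (kernel.condition φ)
      have hS : S.ShortExact :=
        { exact := ShortComplex.exact_kernel φ
          mono_f := hmono
          epi_g := hφ }
      obtain ⟨d₁, hd₁⟩ := hP (kernel φ) hK
      -- a bound making all `d j + e` nonnegative
      obtain ⟨d₂, hd₂⟩ : ∃ d₂ : ℤ, ∀ j, 0 ≤ d j + d₂ := by
        refine ⟨∑ j, |d j|, fun j => ?_⟩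
        have h1 : |d j| ≤ ∑ j, |d j| :=
          Finset.single_le_sum (f := fun j => |d j|) (fun j _ => abs_nonneg (d j))
            (Finset.mem_univ j)
        have h2 : -|d j| ≤ d j := neg_abs_le (d j)
        omega
      refine ⟨max d₁ d₂, fun e he => ?_⟩
      have he1 : d₁ ≤ e := le_trans (le_max_left _ _) he
      have he2 : d₂ ≤ e := le_trans (le_max_right _ _) he
      let L : (PX).Modules := Twist.twistProjSpace n R e
      have hSe : (S.map (twR L)).ShortExact := shortExact_map_twR L (isInv n R e) S hS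
      have h2 : Subsingleton (Coh.HH PX (S.map (twR L)).X₂ i) :=
        subsingleton_HH_twR_biproduct n R d e (fun j => by have := hd₂ j; omega) i hi0
      have h1 : Subsingleton (Coh.HH PX (S.map (twR L)).X₁ (i + 1)) := hd₁ e he1
      refine ⟨fun a b => ?_⟩
      have key : ∀ x : Coh.HH PX (S.map (twR L)).X₃ i, x = 0 := fun x => by
        obtain ⟨y, hy⟩ := exact₃ (S.map (twR L)) hSe i x (Subsingleton.elim _ _)
        rw [← hy, Subsingleton.elim y 0, map_zero]
      exact (key a).trans (key b).symm

/-- **Serre vanishing on projective space** -/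
theorem serre_vanishing (M : (PX).Modules) (hM : Coh.IsCoh M) (i : ℕ) (hi : 0 < i) :
    ∃ d₀ : ℤ, ∀ d : ℤ, d₀ ≤ d →
      Subsingleton (Coh.HH PX (CohB1.tensorMod M (Twist.twistProjSpace n R d)) i) :=
  serre_vanishing_aux n R (n + 1) i hi (by omega) M hM

/-- uniform version: all higher cohomology vanishes for large twists -/
theorem serre_vanishing_all (M : (PX).Modules) (hM : Coh.IsCoh M) :
    ∃ d₀ : ℤ, ∀ d : ℤ, d₀ ≤ d → ∀ i : ℕ, 0 < i →
      Subsingleton (Coh.HH PX (CohB1.tensorMod M (Twist.twistProjSpace n R d)) i) := by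
  have h : ∀ i : ℕ, ∃ d₀ : ℤ, ∀ d : ℤ, d₀ ≤ d → 0 < i →
      Subsingleton (Coh.HH PX (CohB1.tensorMod M (Twist.twistProjSpace n R d)) i) := by
    intro i
    by_cases hi : 0 < i
    · obtain ⟨d₀, hd₀⟩ := serre_vanishing n R M hM i hi
      exact ⟨d₀, fun d hd _ => hd₀ d hd⟩
    · exact ⟨0, fun d _ h => absurd h hi⟩
  choose D hD using h
  refine ⟨∑ i ∈ Finset.range (n + 1), |D i|, fun d hd i hi => ?_⟩
  by_cases hin : i ≤ n
  · apply hD i d _ hi
    have h1 : |D i| ≤ ∑ i ∈ Finset.range (n + 1), |D i| :=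
      Finset.single_le_sum (f := fun i => |D i|) (fun j _ => abs_nonneg (D j))
        (Finset.mem_range.mpr (by omega))
    have h2 : D i ≤ |D i| := le_abs_self _
    omega
  · have hq : M.IsQuasicoherent := hM.1
    have hq2 : (Twist.twistProjSpace n R d).IsQuasicoherent := isQCoh_twist n R d
    have hq3 : Coh.IsQCoh (CohB1.tensorMod M (Twist.twistProjSpace n R d)) :=
      Groth.Agent.Lib.Helper23.TensorQCoh.isQuasicoherent_tensorMod M (Twist.twistProjSpace n R d)
    exact Groth.Agent.S0022.result n R _ i (by omega)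

end Main

section Hilb

variable (k : Type u) [Field k] (n : ℕ)

local notation "PX" => CohB1.ProjSpace n k

/-- for large twists the Euler characteristic is the dimension of the space of sections -/
theorem euler_eq_h0 (F : (PX).Modules) (hF : Coh.IsCoh F) :
    ∃ d₀ : ℤ, ∀ d : ℤ, d₀ ≤ d →
      Curv2.euler k PX (CohB1.tensorMod F (Twist.twistProjSpace n k d)) =
        (Module.finrank k (Coh.HH PX (CohB1.tensorMod F (Twist.twistProjSpace n k d)) 0) : ℤ) := by
  obtain ⟨d₀, hd₀⟩ := serre_vanishing_all n k F hF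
  refine ⟨d₀, fun d hd => ?_⟩
  unfold Curv2.euler
  rw [finsum_eq_single _ 0, pow_zero, one_mul]
  intro i hi
  have := hd₀ d hd i (Nat.pos_of_ne_zero hi)
  rw [Module.finrank_zero_of_subsingleton]
  simp

end Hilb

end Groth.Agent.Lib.R2H2.PnSerre
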