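import Groth.Agent.Lib.R2H2PnMul
import Groth.Agent.Lib.R2H2PnCoh
import Groth.Agent.Lib.Helper27PnSections

/-!
# Morphisms between the twisting sheaves on projective space are multiplications by homogeneous
polynomials (helper2, round 2)
-/

set_option autoImplicit false
set_option linter.unusedSectionVars false
universe u

namespace Groth.Agent.Lib.R2H2.PnHom

open MvPolynomial CategoryTheory CategoryTheory.Limits AlgebraicGeometry TopologicalSpace Opposite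
open Groth.Agent.Lib.Helper27GrTildeSect Groth.Agent.Lib.Helper27PnSections
  Groth.Agent.Lib.R2H2.PnMul

variable (n : ℕ) (R : Type u) [CommRing R]

local notation "𝒫" => CohB1.polyGrading n R
local notation "AA" => MvPolynomial (Fin (n + 1)) R

section SV

variable {n R}

/-- the value of a section of `O(a)` at a point, in the local ring -/
noncomputable def sv (a : ℤ) (W : (Proj 𝒫).Opens) (s : Γ(GrTilde.tilde 𝒫 𝒫 a, W)) (y : ProjectiveSpectrum 𝒫)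
    (hy : y ∈ W) : Twist.Loc 𝒫 y := secVal 𝒫 𝒫 a W s y hy

lemma sv_smul (a : ℤ) (W : (Proj 𝒫).Opens) (c : Γ(Proj 𝒫, W)) (s : Γ(GrTilde.tilde 𝒫 𝒫 a, W))
    (y : ProjectiveSpectrum 𝒫) (hy : y ∈ W) :
    sv a W (c • s) y hy = (funVal 𝒫 W c y hy).val * sv a W s y hy := rfl

lemma sv_map (a : ℤ) {V W : (Proj 𝒫).Opens} (h : V ≤ W) (s : Γ(GrTilde.tilde 𝒫 𝒫 a, W))
    (y : ProjectiveSpectrum 𝒫) (hy : y ∈ V) :
    sv a V ((GrTilde.tilde 𝒫 𝒫 a).presheaf.map (homOfLE h).op s) y hy = sv a W s y (h hy) := rfl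

lemma sv_mulSec {p k q : ℤ} (h : p + k = q) (W : (Proj 𝒫).Opens)
    (m : Γ(GrTilde.tilde 𝒫 𝒫 p, W)) (s : Γ(GrTilde.tilde 𝒫 𝒫 k, W))
    (y : ProjectiveSpectrum 𝒫) (hy : y ∈ W) :
    sv q W (mulSec 𝒫 𝒫 h W m s) y hy = sv k W s y hy * sv p W m y hy := rfl

lemma sv_gsec (k : ℕ) (W : (Proj 𝒫).Opens) {P : AA} (hP : P ∈ CohB1.polyGrading n R k)
    (y : ProjectiveSpectrum 𝒫) (hy : y ∈ W) :
    sv (k : ℤ) W (gsec 𝒫 k W hP) y hy =
      Localization.mk P (1 : y.asHomogeneousIdeal.toIdeal.primeCompl) := rfl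

lemma sv_ext (a : ℤ) (W : (Proj 𝒫).Opens) (s s' : Γ(GrTilde.tilde 𝒫 𝒫 a, W))
    (h : ∀ (y : ProjectiveSpectrum 𝒫) (hy : y ∈ W), sv a W s y hy = sv a W s' y hy) : s = s' :=
  sec_ext 𝒫 𝒫 a W s s' h

lemma sv_mem (a : ℤ) (W : (Proj 𝒫).Opens) (s : Γ(GrTilde.tilde 𝒫 𝒫 a, W))
    (y : ProjectiveSpectrum 𝒫) (hy : y ∈ W) :
    (show GrTilde.LocMod 𝒫 (M := AA) y from sv a W s y hy) ∈ GrTilde.tildeAt 𝒫 𝒫 a y :=
  ((toSect 𝒫 𝒫 a W s).1 ⟨y, hy⟩).2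

end SV

section Units

variable (i : Fin (n + 1)) (a : ℤ)

lemma Xpow_mem (k : ℕ) : (X i : AA) ^ k ∈ CohB1.polyGrading n R k := MvPolynomial.isHomogeneous_X_pow i k

lemma toNat_eq : ((a.toNat : ℕ) : ℤ) = ((-a).toNat : ℕ) + a := by omega

/-- the open `D₊(X_i)` -/
noncomputable def Wi : (Proj 𝒫).Opens := Proj.basicOpen 𝒫 (X i : AA)

variable {n R i}

lemma not_mem_of_mem_Wi {y : ProjectiveSpectrum 𝒫} (hy : y ∈ Wi n R i) :
    (X i : AA) ∉ y.asHomogeneousIdeal := (Proj.mem_basicOpen 𝒫 _ y).mp hy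

lemma mem_Wi {y : ProjectiveSpectrum 𝒫} (hy : (X i : AA) ∉ y.asHomogeneousIdeal) :
    y ∈ Wi n R i := (Proj.mem_basicOpen 𝒫 _ y).mpr hy

variable (n R i)

/-- the generator `X_i^a` of `O(a)` over an open contained in `D₊(X_i)` -/
noncomputable def uSec (W : (Proj 𝒫).Opens) (hW : W ≤ Wi n R i) : Γ(GrTilde.tilde 𝒫 𝒫 a, W) :=
  fracSec 𝒫 a W (Xpow_mem n R i a.toNat) (Xpow_mem n R i (-a).toNat) (toNat_eq a)
    (fun y => X_pow_not_mem n R i _ y.1 (not_mem_of_mem_Wi (hW y.2)))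

/-- the value of the generator -/
noncomputable def uVal (y : ProjectiveSpectrum 𝒫) (hy : (X i : AA) ∉ y.asHomogeneousIdeal) :
    Twist.Loc 𝒫 y :=
  Localization.mk ((X i : AA) ^ a.toNat) ⟨(X i : AA) ^ (-a).toNat, X_pow_not_mem n R i _ y hy⟩

/-- the inverse of the value of the generator -/
noncomputable def uInv (y : ProjectiveSpectrum 𝒫) (hy : (X i : AA) ∉ y.asHomogeneousIdeal) :
    Twist.Loc 𝒫 y :=
  Localization.mk ((X i : AA) ^ (-a).toNat) ⟨(X i : AA) ^ a.toNat, X_pow_not_mem n R i _ y hy⟩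

lemma uInv_mul_uVal (y : ProjectiveSpectrum 𝒫) (hy : (X i : AA) ∉ y.asHomogeneousIdeal) :
    uInv n R i a y hy * uVal n R i a y hy = 1 :=
  mk_mul_mk_swap 𝒫 (X_pow_not_mem n R i _ y hy) (X_pow_not_mem n R i _ y hy)

lemma sv_uSec (W : (Proj 𝒫).Opens) (hW : W ≤ Wi n R i) (y : ProjectiveSpectrum 𝒫) (hy : y ∈ W) :
    sv a W (uSec n R i a W hW) y hy = uVal n R i a y (not_mem_of_mem_Wi (hW hy)) := rfl

lemma uSec_map {V W : (Proj 𝒫).Opens} (h : V ≤ W) (hW : W ≤ Wi n R i) :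
    (GrTilde.tilde 𝒫 𝒫 a).presheaf.map (homOfLE h).op (uSec n R i a W hW) =
      uSec n R i a V (h.trans hW) := rfl

lemma uInv_mem (y : ProjectiveSpectrum 𝒫) (hy : (X i : AA) ∉ y.asHomogeneousIdeal) :
    (show GrTilde.LocMod 𝒫 (M := AA) y from uInv n R i a y hy) ∈ GrTilde.tildeAt 𝒫 𝒫 (-a) y :=
  mk_mem_tildeAt 𝒫 𝒫 (-a) y (Xpow_mem n R i (-a).toNat) (Xpow_mem n R i a.toNat)
    (X_pow_not_mem n R i _ y hy) (by omega)

end Units

section Hom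

variable {n R}

lemma app_map {a b : ℤ} (φ : GrTilde.tilde 𝒫 𝒫 a ⟶ GrTilde.tilde 𝒫 𝒫 b) {V W : (Proj 𝒫).Opens} (h : V ≤ W) (s : Γ(GrTilde.tilde 𝒫 𝒫 a, W)) :
    φ.app V ((GrTilde.tilde 𝒫 𝒫 a).presheaf.map (homOfLE h).op s) =
      (GrTilde.tilde 𝒫 𝒫 b).presheaf.map (homOfLE h).op (φ.app W s) :=
  ConcreteCategory.congr_hom (φ.mapPresheaf.naturality (homOfLE h).op) s

/-- the multiplier of `φ` at a point, computed in the chart `i` -/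
noncomputable def rho {a b : ℤ} (φ : GrTilde.tilde 𝒫 𝒫 a ⟶ GrTilde.tilde 𝒫 𝒫 b) (i : Fin (n + 1)) (y : ProjectiveSpectrum 𝒫)
    (hy : (X i : AA) ∉ y.asHomogeneousIdeal) : Twist.Loc 𝒫 y :=
  uInv n R i a y hy *
    sv b (Wi n R i) (φ.app (Wi n R i) (uSec n R i a (Wi n R i) le_rfl)) y (mem_Wi hy)

/-- `φ` multiplies the values of sections by `rho` -/
lemma sv_app {a b : ℤ} (φ : GrTilde.tilde 𝒫 𝒫 a ⟶ GrTilde.tilde 𝒫 𝒫 b) (i : Fin (n + 1)) (W : (Proj 𝒫).Opens) (s : Γ(GrTilde.tilde 𝒫 𝒫 a, W))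
    (y : ProjectiveSpectrum 𝒫) (hyW : y ∈ W) (hy : (X i : AA) ∉ y.asHomogeneousIdeal) :
    sv b W (φ.app W s) y hyW = sv a W s y hyW * rho φ i y hy := by
  have hVW : W ⊓ Wi n R i ≤ W := inf_le_left
  have hVi : W ⊓ Wi n R i ≤ Wi n R i := inf_le_right
  have hyV : y ∈ W ⊓ Wi n R i := ⟨hyW, mem_Wi hy⟩
  obtain ⟨r, hr⟩ := exists_coef 𝒫 a (W ⊓ Wi n R i) (Xpow_mem n R i a.toNat)
    (Xpow_mem n R i (-a).toNat) (toNat_eq a)
    (fun y => X_pow_not_mem n R i _ y.1 (not_mem_of_mem_Wi (hVi y.2)))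
    (fun y => X_pow_not_mem n R i _ y.1 (not_mem_of_mem_Wi (hVi y.2)))
    ((GrTilde.tilde 𝒫 𝒫 a).presheaf.map (homOfLE hVW).op s)
  have hr' : r • uSec n R i a (W ⊓ Wi n R i) hVi =
      (GrTilde.tilde 𝒫 𝒫 a).presheaf.map (homOfLE hVW).op s := hr
  -- the value of `s`
  have h1 : sv a W s y hyW =
      (funVal 𝒫 _ r y hyV).val * uVal n R i a y hy := by
    rw [← sv_map a hVW s y hyV, ← hr', sv_smul, sv_uSec]
  -- the value of `φ s`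
  have h2 : sv b W (φ.app W s) y hyW = (funVal 𝒫 _ r y hyV).val *
      sv b (Wi n R i) (φ.app (Wi n R i) (uSec n R i a (Wi n R i) le_rfl)) y (mem_Wi hy) := by
    rw [← sv_map b hVW (φ.app W s) y hyV, ← app_map φ hVW s, ← hr', Scheme.Modules.Hom.app_smul,
      sv_smul, ← uSec_map n R i a hVi le_rfl, app_map φ hVi, sv_map]
  rw [h1, h2]
  unfold rho
  have h3 := uInv_mul_uVal n R i a y hy
  linear_combination (-(funVal 𝒫 _ r y hyV).val *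
    sv b (Wi n R i) (φ.app (Wi n R i) (uSec n R i a (Wi n R i) le_rfl)) y (mem_Wi hy)) * h3

/-- the multiplier does not depend on the chart -/
lemma rho_eq {a b : ℤ} (φ : GrTilde.tilde 𝒫 𝒫 a ⟶ GrTilde.tilde 𝒫 𝒫 b) (i j : Fin (n + 1)) (y : ProjectiveSpectrum 𝒫)
    (hi : (X i : AA) ∉ y.asHomogeneousIdeal) (hj : (X j : AA) ∉ y.asHomogeneousIdeal) :
    rho φ j y hj = rho φ i y hi := by
  have h1 := sv_app φ i (Wi n R j) (uSec n R j a (Wi n R j) le_rfl) y (mem_Wi hj) hi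
  have h3 := uInv_mul_uVal n R j a y hj
  rw [sv_uSec] at h1
  unfold rho at h1 ⊢
  rw [h1]
  linear_combination (uInv n R i a y hi *
    sv b (Wi n R i) (φ.app (Wi n R i) (uSec n R i a (Wi n R i) le_rfl)) y (mem_Wi hi)) * h3

/-- a chart containing a given point -/
noncomputable def ich (y : ProjectiveSpectrum 𝒫) : Fin (n + 1) :=
  Classical.choose (exists_X_not_mem n R y)

lemma ich_spec (y : ProjectiveSpectrum 𝒫) : (X (ich y) : AA) ∉ y.asHomogeneousIdeal :=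
  Classical.choose_spec (exists_X_not_mem n R y)

/-- the multiplier of `φ` -/
noncomputable def rhoG {a b : ℤ} (φ : GrTilde.tilde 𝒫 𝒫 a ⟶ GrTilde.tilde 𝒫 𝒫 b) (y : ProjectiveSpectrum 𝒫) : Twist.Loc 𝒫 y := rho φ (ich y) y (ich_spec y)

lemma rhoG_eq {a b : ℤ} (φ : GrTilde.tilde 𝒫 𝒫 a ⟶ GrTilde.tilde 𝒫 𝒫 b) (i : Fin (n + 1)) (y : ProjectiveSpectrum 𝒫)
    (hi : (X i : AA) ∉ y.asHomogeneousIdeal) : rhoG φ y = rho φ i y hi :=
  rho_eq φ i (ich y) y hi (ich_spec y)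

lemma rho_mem {a b : ℤ} (φ : GrTilde.tilde 𝒫 𝒫 a ⟶ GrTilde.tilde 𝒫 𝒫 b) {c : ℤ} (hc : b + (-a) = c) (i : Fin (n + 1)) (y : ProjectiveSpectrum 𝒫)
    (hi : (X i : AA) ∉ y.asHomogeneousIdeal) :
    (show GrTilde.LocMod 𝒫 (M := AA) y from rho φ i y hi) ∈ GrTilde.tildeAt 𝒫 𝒫 c y :=
  smul_mem_tildeAt 𝒫 𝒫 hc y _ (uInv_mem n R i a y hi) _
    (sv_mem b (Wi n R i) (φ.app (Wi n R i) (uSec n R i a (Wi n R i) le_rfl)) y (mem_Wi hi))

/-- the multiplier is a global section of `O(b - a)` -/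
noncomputable def rhoSect {a b : ℤ} (φ : GrTilde.tilde 𝒫 𝒫 a ⟶ GrTilde.tilde 𝒫 𝒫 b) {c : ℤ} (hc : b + (-a) = c) : GrTilde.sect 𝒫 𝒫 c (op ⊤) :=
  ⟨fun x => ⟨rhoG φ x.1, rho_mem φ hc (ich x.1) x.1 (ich_spec x.1)⟩, by
    intro x₀
    have hx₀ : (X (ich x₀.1) : AA) ∉ x₀.1.asHomogeneousIdeal := ich_spec x₀.1
    obtain ⟨V, hxV, iV, i', j', μ, t, nin, hcond, hval⟩ :=
      (toSect 𝒫 𝒫 b (Wi n R (ich x₀.1))
        (φ.app (Wi n R (ich x₀.1)) (uSec n R (ich x₀.1) a (Wi n R (ich x₀.1)) le_rfl))).2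
        ⟨x₀.1, mem_Wi hx₀⟩
    have hVi : ∀ z : V, (X (ich x₀.1) : AA) ∉ z.1.asHomogeneousIdeal := fun z =>
      not_mem_of_mem_Wi (iV.le z.2)
    have hval' : ∀ z : V, sv b (Wi n R (ich x₀.1)) (φ.app (Wi n R (ich x₀.1))
        (uSec n R (ich x₀.1) a (Wi n R (ich x₀.1)) le_rfl)) z.1 (iV.le z.2) =
        Localization.mk μ.1 ⟨t.1, nin z⟩ := fun z => hval z
    have nin' : ∀ z : V, (X (ich x₀.1) : AA) ^ a.toNat * t.1 ∉ z.1.asHomogeneousIdeal :=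
      fun z h' => (z.1.isPrime.mem_or_mem h').elim
        (X_pow_not_mem n R _ _ z.1 (hVi z)) (nin z)
    refine ⟨V, hxV, homOfLE le_top, (-a).toNat + i', a.toNat + j',
      ⟨(X (ich x₀.1) : AA) ^ (-a).toNat * μ.1,
        SetLike.mul_mem_graded (Xpow_mem n R _ _) μ.2⟩,
      ⟨(X (ich x₀.1) : AA) ^ a.toNat * t.1,
        SetLike.mul_mem_graded (Xpow_mem n R _ _) t.2⟩, nin', ?_, ?_⟩
    · rcases hcond with h1 | h1
      · left
        push_cast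
        omega
      · right
        change (X (ich x₀.1) : AA) ^ (-a).toNat * μ.1 = 0
        rw [h1, mul_zero]
    · intro z
      change rhoG φ z.1 = Localization.mk ((X (ich x₀.1) : AA) ^ (-a).toNat * μ.1)
        ⟨(X (ich x₀.1) : AA) ^ a.toNat * t.1, nin' z⟩
      rw [rhoG_eq φ (ich x₀.1) z.1 (hVi z)]
      unfold rho
      rw [hval' z]
      unfold uInv
      rw [Localization.mk_mul]
      rfl⟩

/-- the multiplier as a global section of `O(b - a)` -/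
noncomputable def rhoSec {a b : ℤ} (φ : GrTilde.tilde 𝒫 𝒫 a ⟶ GrTilde.tilde 𝒫 𝒫 b) {c : ℤ} (hc : b + (-a) = c) : Γ(GrTilde.tilde 𝒫 𝒫 c, ⊤) :=
  ofSect 𝒫 𝒫 c ⊤ (rhoSect φ hc)

lemma sv_rhoSec {a b : ℤ} (φ : GrTilde.tilde 𝒫 𝒫 a ⟶ GrTilde.tilde 𝒫 𝒫 b) {c : ℤ} (hc : b + (-a) = c) (y : ProjectiveSpectrum 𝒫) :
    sv c ⊤ (rhoSec φ hc) y trivial = rhoG φ y := rfl

/-- **every morphism `O(a) ⟶ O(a + k)` is the multiplication by a homogeneous polynomial of degree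
`k`** -/
theorem exists_eq_mulP {a b : ℤ} (φ : GrTilde.tilde 𝒫 𝒫 a ⟶ GrTilde.tilde 𝒫 𝒫 b) (k : ℕ) (hk : a + k = b) :
    ∃ (P : AA) (hP : P ∈ CohB1.polyGrading n R k), φ = mulP 𝒫 𝒫 hP hk := by
  have hc : b + (-a) = (k : ℤ) := by omega
  obtain ⟨P, hP, hσ⟩ := exists_global_poly n R k (rhoSec φ hc)
  refine ⟨P, hP, ?_⟩
  apply Scheme.Modules.hom_ext
  intro W
  ext s
  apply sv_ext
  intro y hy
  have h1 := sv_app φ (ich y) W s y hy (ich_spec y)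
  have h2 : rhoG φ y = Localization.mk P (1 : y.asHomogeneousIdeal.toIdeal.primeCompl) := by
    rw [← sv_rhoSec φ hc y, hσ]
    rfl
  have h3 : sv b W ((mulP 𝒫 𝒫 hP hk).app W s) y hy =
      sv (k : ℤ) W (gsec 𝒫 k W hP) y hy * sv a W s y hy := rfl
  refine h1.trans ?_
  rw [h3, sv_gsec, ← h2]
  exact mul_comm _ _

/-- a vanishing multiplier forces the morphism to vanish -/
theorem eq_zero_of_rhoG {a b : ℤ} (φ : GrTilde.tilde 𝒫 𝒫 a ⟶ GrTilde.tilde 𝒫 𝒫 b) (h : ∀ y, rhoG φ y = 0) : φ = 0 := by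
  apply Scheme.Modules.hom_ext
  intro W
  ext s
  apply sv_ext
  intro y hy
  have h1 := sv_app φ (ich y) W s y hy (ich_spec y)
  refine h1.trans ?_
  have h2 : rho φ (ich y) y (ich_spec y) = 0 := h y
  rw [h2, mul_zero]
  rfl

/-- **there are no nonzero morphisms `O(a) ⟶ O(b)` for `b < a`** (`n ≥ 1`) -/
theorem eq_zero_of_lt {a b : ℤ} (φ : GrTilde.tilde 𝒫 𝒫 a ⟶ GrTilde.tilde 𝒫 𝒫 b) (hn : 1 ≤ n) (hab : b < a) : φ = 0 := by
  apply eq_zero_of_rhoG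
  intro y
  have hc : b + (-a) = b - a := by ring
  have hss : Subsingleton (Coh.HH (Proj 𝒫) (GrTilde.tilde 𝒫 𝒫 (b - a)) 0) :=
    Groth.Agent.Lib.R2H2.PnCoh.subsingleton_HH_tilde R n (b - a) 0
      (by rintro ⟨-, h⟩; omega) (by rintro ⟨h, -⟩; omega)
  have hss' : Subsingleton ((Coh.toAb (GrTilde.tilde 𝒫 𝒫 (b - a))).obj.obj (op ⊤)) :=
    (hh0Equiv (Proj 𝒫) (GrTilde.tilde 𝒫 𝒫 (b - a))).symm.toEquiv.subsingleton
  have h0 : rhoSec φ hc = 0 := @Subsingleton.elim _ hss' (rhoSec φ hc) 0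
  rw [← sv_rhoSec φ hc y, h0]
  rfl

end Hom

end Groth.Agent.Lib.R2H2.PnHom
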