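import Groth.Agent.Lib.R2H2LaurentMul
import Groth.Agent.Lib.R2H2PnTop
import Groth.Agent.Lib.R2H2PnHom

/-!
# Top cohomology of the twisting sheaves on projective space, compatibly with multiplication by
homogeneous polynomials (helper2, round 2)
-/

set_option autoImplicit false
set_option linter.unusedSectionVars false
universe u

namespace Groth.Agent.Lib.R2H2.PnMulTop

open MvPolynomial CategoryTheory CategoryTheory.Limits Opposite AlgebraicGeometry
open Groth.Agent.Lib.Helper16.CechLow Groth.Agent.Lib.R2H2.LocPsh Groth.Agent.Lib.R2H2.CechCmp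
  Groth.Agent.Lib.R2H2.Strand Groth.Agent.Lib.R2H2.StrandCech Groth.Agent.Lib.R2H2.KoszulPoly
  Groth.Agent.Lib.R2H2.ProjSec Groth.Agent.Lib.R2H2.Laurent Groth.Agent.Lib.R2H2.LaurentTop
  Groth.Agent.Lib.R2H2.PnCoh Groth.Agent.Lib.R2H2.PnLin Groth.Agent.Lib.Helper27GrTildeSect
  Groth.Agent.Lib.R2H2.PnMul Groth.Agent.Lib.R2H2.LaurentMul

variable (R : Type u) [CommRing R] (n : ℕ)

local notation "𝒫" => CohB1.polyGrading n R

/-- the strand complexes compute the cohomology of all `O(d)`, compatibly with constants and with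
multiplication by homogeneous polynomials -/
theorem exists_HH_KK_family (q : ℕ) :
    ∃ e : ∀ d : ℤ, ((KK R n d).homology q : AddCommGrpCat.{u}) ≃+
        Coh.HH (Proj 𝒫) (GrTilde.tilde 𝒫 𝒫 d) q,
      (∀ (d : ℤ) (r : R) (z : ((KK R n d).homology q : AddCommGrpCat.{u})),
        e d (HomologicalComplex.homologyMap (muR R n d r) q z) =
          Sheaf.H.map (Coh.smulAb (GrTilde.tilde 𝒫 𝒫 d) (constFun 𝒫 r)) q (e d z)) ∧
      (∀ (d d' : ℤ) (k : ℕ) (P : MvPolynomial (Fin (n + 1)) R)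
        (hP : P ∈ CohB1.polyGrading n R k) (h : d + k = d')
        (z : ((KK R n d).homology q : AddCommGrpCat.{u})),
        e d' (HomologicalComplex.homologyMap (muP R n hP h) q z) =
          Sheaf.H.map (mulAb 𝒫 𝒫 hP h) q (e d z)) := by
  have hqc : ∀ d : ℤ, Coh.IsQCoh (GrTilde.tilde 𝒫 𝒫 d) := fun d =>
    Groth.Agent.Lib.Helper27GrTildeSect.isQuasicoherent_tilde _ _ d
  refine Exists.elim (Groth.Agent.Lib.R2H2.LerayNat2.exists_natural_family (Proj 𝒫)
    (Wp 𝒫 (vars R n)) (iSup_Wp_vars R n)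
    (isAffineOpen_biInf_Wp 𝒫 (vars R n) (hfs_vars R n)) q) (fun e1 he1 => ?_)
  let E : ∀ d : ℤ, ((KK R n d).homology q : AddCommGrpCat.{u}) ≃+
      ↑(CohB1.cechH (Wp 𝒫 (vars R n)) (GrTilde.tilde 𝒫 𝒫 d) q) := fun d =>
    ES 𝒫 𝒫 (vars R n) (hfs_vars R n) d q
  refine ⟨fun d => (E d).trans (e1 (GrTilde.tilde 𝒫 𝒫 d) (hqc d)), ?_, ?_⟩
  · intro d r z
    have key : ∀ X, ((E d).trans (e1 (GrTilde.tilde 𝒫 𝒫 d) (hqc d))) X =
        e1 (GrTilde.tilde 𝒫 𝒫 d) (hqc d) (E d X) := fun X => rfl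
    refine (key _).trans ?_
    have h1 : E d (HomologicalComplex.homologyMap (muR R n d r) q z) =
        HomologicalComplex.homologyMap ((cechComplexFunctor (Wp 𝒫 (vars R n))).map
          (Coh.smulAb (GrTilde.tilde 𝒫 𝒫 d) (constFun 𝒫 r)).hom) q (E d z) :=
      ES_smul 𝒫 𝒫 (vars R n) (hfs_vars R n) d r (gR R n r) (isGr_gR R n r) (gR_apply R n r) q z
    refine (congrArg _ h1).trans ?_
    refine (he1 _ _ (hqc d) (hqc d) (Coh.smulAb (GrTilde.tilde 𝒫 𝒫 d) (constFun 𝒫 r)) (E d z)).trans ?_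
    exact congrArg _ (key z).symm
  · intro d d' k P hP h z
    have key : ∀ (d : ℤ) X, ((E d).trans (e1 (GrTilde.tilde 𝒫 𝒫 d) (hqc d))) X =
        e1 (GrTilde.tilde 𝒫 𝒫 d) (hqc d) (E d X) := fun d X => rfl
    refine (key d' _).trans ?_
    have h1 : E d' (HomologicalComplex.homologyMap (muP R n hP h) q z) =
        HomologicalComplex.homologyMap ((cechComplexFunctor (Wp 𝒫 (vars R n))).map
          (mulAb 𝒫 𝒫 hP h).hom) q (E d z) :=
      ES_mulP 𝒫 𝒫 (vars R n) (hfs_vars R n) hP h q z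
    refine (congrArg _ h1).trans ?_
    refine (he1 _ _ (hqc d) (hqc d') (mulAb 𝒫 𝒫 hP h) (E d z)).trans ?_
    exact congrArg _ (key d z).symm

/-- top cohomology of the `O(d)`, `d < 0`, as spaces of Laurent polynomials, compatibly with
constants and with multiplication by homogeneous polynomials -/
theorem exists_top_family :
    ∃ e : ∀ d : ℤ, d < 0 → (VV R n d ≃+ Coh.HH (Proj 𝒫) (GrTilde.tilde 𝒫 𝒫 d) n),
      (∀ (d : ℤ) (hd : d < 0) (r : R) (f : VV R n d),
        e d hd (r • f) =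
          Sheaf.H.map (Coh.smulAb (GrTilde.tilde 𝒫 𝒫 d) (constFun 𝒫 r)) n (e d hd f)) ∧
      (∀ (d d' : ℤ) (hd : d < 0) (hd' : d' < 0) (k : ℕ) (P : MvPolynomial (Fin (n + 1)) R)
        (hP : P ∈ CohB1.polyGrading n R k) (h : d + k = d') (f : VV R n d),
        e d' hd' (mulVV R n hP h f) = Sheaf.H.map (mulAb 𝒫 𝒫 hP h) n (e d hd f)) := by
  refine Exists.elim (exists_HH_KK_family R n n) (fun e0 he0 => ?_)
  refine ⟨fun d hd => (ThetaEquiv R n d hd).trans (e0 d), ?_, ?_⟩
  · intro d hd r f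
    have key : ∀ X, ((ThetaEquiv R n d hd).trans (e0 d)) X = e0 d (ThetaEquiv R n d hd X) :=
      fun X => rfl
    refine (key _).trans ?_
    have h1 : ThetaEquiv R n d hd (r • f) =
        HomologicalComplex.homologyMap (muR R n d r) n (ThetaEquiv R n d hd f) :=
      Theta_smul R n d r f
    refine (congrArg _ h1).trans ?_
    refine (he0.1 d r _).trans ?_
    exact congrArg _ (key f).symm
  · intro d d' hd hd' k P hP h f
    have key : ∀ (d : ℤ) (hd : d < 0) X,
        ((ThetaEquiv R n d hd).trans (e0 d)) X = e0 d (ThetaEquiv R n d hd X) :=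
      fun d hd X => rfl
    refine (key d' hd' _).trans ?_
    have h1 : ThetaEquiv R n d' hd' (mulVV R n hP h f) =
        HomologicalComplex.homologyMap (muP R n hP h) n (ThetaEquiv R n d hd f) :=
      (Theta_muP R n hP h hd' f).symm
    refine (congrArg _ h1).trans ?_
    refine (he0.2 d d' k P hP h _).trans ?_
    exact congrArg _ (key d hd f).symm

end Groth.Agent.Lib.R2H2.PnMulTop
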