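import Groth.Agent.Lib.R2H2LaurentPair
import Groth.Agent.Lib.R2H2PnMulTop

/-!
# The dualizing property of `O(-n-1)` on projective space, for the twisting sheaves
(helper2, round 2)
-/

set_option autoImplicit false
set_option linter.unusedSectionVars false
universe u

namespace Groth.Agent.Lib.R2H2.PnDual

open MvPolynomial CategoryTheory CategoryTheory.Limits Opposite AlgebraicGeometry
open Groth.Agent.Lib.R2H2.Laurent Groth.Agent.Lib.R2H2.LaurentTop
  Groth.Agent.Lib.Helper27GrTildeSect
  Groth.Agent.Lib.R2H2.PnMul Groth.Agent.Lib.R2H2.LaurentMul Groth.Agent.Lib.R2H2.LaurentPair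
  Groth.Agent.Lib.R2H2.PnMulTop Groth.Agent.Lib.R2H2.PnHom

variable (R : Type u) [CommRing R] (n : ℕ)

local notation "𝒫" => CohB1.polyGrading n R
local notation "PX" => CohB1.ProjSpace n R

/-- the twisting sheaf `O(d)` on `P^n_R`, in the `GrTilde` form -/
noncomputable abbrev Otw (d : ℤ) : (CohB1.ProjSpace n R).Modules := GrTilde.tilde 𝒫 𝒫 d

/-- the twisting sheaves of the prelude are the `Otw` -/
theorem twist_eq (d : ℤ) : Twist.twistProjSpace n R d = Otw R n d := rfl

/-- multiplication by a homogeneous polynomial of degree `k`, as a morphism `O(d) ⟶ O(d + k)` on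
projective space -/
noncomputable def mulTw {k : ℕ} {P : MvPolynomial (Fin (n + 1)) R}
    (hP : P ∈ CohB1.polyGrading n R k) {d d' : ℤ} (h : d + k = d') :
    Otw R n d ⟶ Otw R n d' :=
  mulP 𝒫 𝒫 hP h

lemma constFun_eq (r : R) :
    constFun 𝒫 r = Coh.toGlobal (PX ↘ Spec (CommRingCat.of R)) r := rfl

lemma smul_eq (M : (CohB1.ProjSpace n R).Modules) (q : ℕ) (r : R) (x : Coh.HH PX M q) :
    r • x = Sheaf.H.map (Coh.smulAb M (Coh.toGlobal (PX ↘ Spec (CommRingCat.of R)) r)) q x := rfl

/-- top cohomology of the `O(d)`, `d < 0`, on `P^n_R`, as spaces of Laurent polynomials, compatibly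
with multiplication by homogeneous polynomials -/
theorem exists_top_family' :
    ∃ e : ∀ d : ℤ, d < 0 → (VV R n d ≃+ Coh.HH PX (Otw R n d) n),
      (∀ (d : ℤ) (hd : d < 0) (r : R) (f : VV R n d), e d hd (r • f) = r • e d hd f) ∧
      (∀ (d d' : ℤ) (hd : d < 0) (hd' : d' < 0) (k : ℕ) (P : MvPolynomial (Fin (n + 1)) R)
        (hP : P ∈ CohB1.polyGrading n R k) (h : d + k = d') (f : VV R n d),
        e d' hd' (mulVV R n hP h f) =
          Sheaf.H.map ((SheafOfModules.toSheaf (CohB1.ProjSpace n R).ringCatSheaf).map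
            (mulTw R n hP h)) n (e d hd f)) := by
  refine Exists.elim (exists_top_family R n) (fun e he => ?_)
  refine ⟨fun d hd => e d hd, ?_, ?_⟩
  · intro d hd r f
    rw [smul_eq, ← constFun_eq]
    exact he.1 d hd r f
  · intro d d' hd hd' k P hP h f
    exact he.2 d d' hd hd' k P hP h f

/-- the linear version -/
theorem exists_top_linear_family :
    ∃ E : ∀ d : ℤ, d < 0 → (VV R n d ≃ₗ[R] Coh.HH PX (Otw R n d) n),
      ∀ (d d' : ℤ) (hd : d < 0) (hd' : d' < 0) (k : ℕ) (P : MvPolynomial (Fin (n + 1)) R)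
        (hP : P ∈ CohB1.polyGrading n R k) (h : d + k = d') (f : VV R n d),
        E d' hd' (mulVV R n hP h f) =
          Sheaf.H.map ((SheafOfModules.toSheaf (CohB1.ProjSpace n R).ringCatSheaf).map
            (mulTw R n hP h)) n (E d hd f) := by
  refine Exists.elim (exists_top_family' R n) (fun e he => ?_)
  refine ⟨fun d hd =>
    { toFun := fun f => e d hd f
      map_add' := fun f g => map_add (e d hd) f g
      map_smul' := fun r f => he.1 d hd r f
      invFun := fun x => (e d hd).symm x
      left_inv := fun f => (e d hd).symm_apply_apply f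
      right_inv := fun x => (e d hd).apply_symm_apply x }, ?_⟩
  intro d d' hd hd' k P hP h f
  exact he.2 d d' hd hd' k P hP h f

end Groth.Agent.Lib.R2H2.PnDual
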