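import Groth.Agent.Lib.R2LeadKRR
import Groth.Agent.Lib.R2H2PnCoh
import Groth.Agent.Lib.R2H2PnDual
import Groth.Agent.S0491
import Groth.Agent.S0485

/-!
# Twisting is an autoequivalence of `O`-modules on `P^n_R`; `Ext^i(O(a), O(b)) = H^i(O(b - a))`
vanishing (helper2, round 2)
-/

set_option autoImplicit false
set_option linter.unusedSectionVars false
universe u

namespace Groth.Agent.Lib.R2H2.PnTwEquiv

open CategoryTheory CategoryTheory.Limits AlgebraicGeometry Opposite Abelian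

section General

variable {X : Scheme.{u}}

/-- if `L ⊗ L' ≅ O_X ≅ L' ⊗ L` then `L ⊗ -` is an equivalence -/
theorem isEquivalence_tensor (L L' : X.Modules)
    (e : (DCoh.tensorBi.obj L).obj L' ≅ Coh.structureModule X)
    (e' : (DCoh.tensorBi.obj L').obj L ≅ Coh.structureModule X) :
    (DCoh.tensorBi.obj L).IsEquivalence := by
  let η : DCoh.tensorBi.obj L ⋙ DCoh.tensorBi.obj L' ≅ 𝟭 X.Modules :=
    (Groth.Agent.Lib.Helper21.ModTensor6.tLTensorIso X.sheaf L' L).symm ≪≫
      DCoh.tensorBi.mapIso e' ≪≫ Groth.Agent.Lib.Helper21.ModTensor7.tLUnitIso X.sheaf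
  let ε : DCoh.tensorBi.obj L' ⋙ DCoh.tensorBi.obj L ≅ 𝟭 X.Modules :=
    (Groth.Agent.Lib.Helper21.ModTensor6.tLTensorIso X.sheaf L L').symm ≪≫
      DCoh.tensorBi.mapIso e ≪≫ Groth.Agent.Lib.Helper21.ModTensor7.tLUnitIso X.sheaf
  exact (CategoryTheory.Equivalence.mk (DCoh.tensorBi.obj L) (DCoh.tensorBi.obj L') η.symm ε).isEquivalence_functor

variable [HasExt.{u} X.Modules]

/-- vanishing of `Ext` is invariant under isomorphisms -/
theorem subsingleton_ext_of_iso {A A' B B' : X.Modules} (α : A ≅ A') (β : B ≅ B') (i : ℕ)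
    (h : Subsingleton (Ext A' B' i)) : Subsingleton (Ext A B i) := by
  refine ⟨fun x y => ?_⟩
  have key : ∀ z : Ext A B i, z = (Ext.mk₀ α.hom).comp
      ((((Ext.mk₀ α.inv).comp z (zero_add i)).comp (Ext.mk₀ β.hom) (add_zero i)).comp
        (Ext.mk₀ β.inv) (add_zero i)) (zero_add i) := by
    intro z
    rw [Ext.comp_assoc_of_second_deg_zero, Ext.mk₀_comp_mk₀, β.hom_inv_id, Ext.comp_mk₀_id,
      Ext.mk₀_comp_mk₀_assoc, α.hom_inv_id, Ext.mk₀_id_comp]
  rw [key x, key y]
  congr 2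
  exact Subsingleton.elim _ _

/-- an autoequivalence does not change the vanishing of `Ext` -/
theorem subsingleton_ext_of_equiv (F : X.Modules ⥤ X.Modules) [F.Additive] [F.IsEquivalence]
    (A B : X.Modules) (i : ℕ) (h : Subsingleton (Ext (F.obj A) (F.obj B) i)) :
    Subsingleton (Ext A B i) := by
  have : EnoughInjectives X.Modules :=
    Groth.Agent.S0485.result (Opens.grothendieckTopology X) X.ringCatSheaf
  have hb := Functor.mapExt_bijective_of_preservesInjectiveObjects F A B i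
  exact hb.injective.subsingleton

/-- `Ext^i(O_X, M) = 0` if `H^i(X, M) = 0` -/
theorem subsingleton_ext_unit (M : X.Modules) (i : ℕ) (h : Subsingleton (Coh.HH X M i)) :
    Subsingleton (Ext (Coh.structureModule X) M i) := by
  have he : Nonempty (Ext (Coh.structureModule X) M i ≃+ Coh.HH X M i) :=
    @Groth.Agent.S0491.result _ _ (Opens.grothendieckTopology X) X.ringCatSheaf
      ‹HasExt.{u} X.Modules› M i
  obtain ⟨e⟩ := he
  exact e.toEquiv.subsingleton

end General

section Pn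

variable (n : ℕ) (R : Type u) [CommRing R]

local notation "PX" => CohB1.ProjSpace n R

theorem isEquivalence_tw (q : ℤ) :
    (DCoh.tensorBi.obj (Twist.twistProjSpace n R q)).IsEquivalence := by
  obtain ⟨e⟩ := Groth.Agent.Lib.R2Lead.KRR.nonempty_twistProjSpace_tensor_iso n R q (-q)
  obtain ⟨e'⟩ := Groth.Agent.Lib.R2Lead.KRR.nonempty_twistProjSpace_tensor_iso n R (-q) q
  obtain ⟨z⟩ := Groth.Agent.Lib.R2Lead.KRR.nonempty_twistProjSpace_zero_iso n R
  refine isEquivalence_tensor _ (Twist.twistProjSpace n R (-q)) (e ≪≫ eqToIso ?_ ≪≫ z)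
    (e' ≪≫ eqToIso ?_ ≪≫ z)
  · rw [add_neg_cancel]
  · rw [neg_add_cancel]

/-- vanishing of the cohomology of the twisting sheaves (prelude form) -/
theorem subsingleton_HH_twist (d : ℤ) (q : ℕ) (h₀ : ¬ (q = 0 ∧ 0 ≤ d))
    (hn : ¬ (q = n ∧ d ≤ -((n : ℤ) + 1))) :
    Subsingleton (Coh.HH PX (Twist.twistProjSpace n R d) q) := by
  have key : ∀ F : ℤ → (PX).Modules, F = (fun d => Groth.Agent.Lib.R2H2.PnDual.Otw R n d) →
      Subsingleton (Coh.HH PX (F d) q) := by
    intro F hF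
    subst hF
    exact Groth.Agent.Lib.R2H2.PnCoh.subsingleton_HH_tilde R n d q h₀ hn
  exact key (fun d => Twist.twistProjSpace n R d)
    (funext fun d => Groth.Agent.Lib.R2H2.PnDual.twist_eq R n d)

variable [HasExt.{u} (CohB1.ProjSpace n R).Modules]

/-- **`Ext^i(O(a), O(b)) = 0` when `H^i(O(b - a)) = 0`** -/
theorem subsingleton_ext_twist (a b : ℤ) (i : ℕ) (h₀ : ¬ (i = 0 ∧ 0 ≤ b - a))
    (hn : ¬ (i = n ∧ b - a ≤ -((n : ℤ) + 1))) :
    Subsingleton (Ext (Twist.twistProjSpace n R a) (Twist.twistProjSpace n R b) i) := by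
  have := isEquivalence_tw n R (-a)
  apply subsingleton_ext_of_equiv (DCoh.tensorBi.obj (Twist.twistProjSpace n R (-a)))
  obtain ⟨e1⟩ := Groth.Agent.Lib.R2Lead.KRR.nonempty_twistProjSpace_tensor_iso n R (-a) a
  obtain ⟨e2⟩ := Groth.Agent.Lib.R2Lead.KRR.nonempty_twistProjSpace_tensor_iso n R (-a) b
  obtain ⟨z⟩ := Groth.Agent.Lib.R2Lead.KRR.nonempty_twistProjSpace_zero_iso n R
  have h1 : -a + a = 0 := neg_add_cancel a
  have h2 : -a + b = b - a := by ring
  refine subsingleton_ext_of_iso (e1 ≪≫ eqToIso (by rw [h1]) ≪≫ z) (e2 ≪≫ eqToIso (by rw [h2])) i ?_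
  exact subsingleton_ext_unit _ i (subsingleton_HH_twist n R (b - a) i h₀ hn)

end Pn

end Groth.Agent.Lib.R2H2.PnTwEquiv
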