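import Mathlib
import Groth.Agent.Lib.Helper1PT4
import Groth.Agent.Lib.Helper23PB
import Groth.Agent.Lib.Helper2FinPushFP
import Groth.Agent.Lib.R2H2PnSerre
import Groth.Agent.Lib.R2H2PnTwEquiv
import Groth.Agent.Lib.R2H2PnFinite
import Groth.Agent.S0012
set_option backward.isDefEq.respectTransparency.types false

/-!
# Transfer along (closed) immersions into a scheme carrying invertible modules (helper2, round 2)

* `tensorAdj` : `L ⊗ - ⊣ L' ⊗ -` when `L ⊗ L' ≅ O ≅ L' ⊗ L`;
* `projIso` : the projection formula `f_*(f^*L ⊗ -) ≅ L ⊗ f_*(-)` for such an `L` (any morphism `f`),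
  obtained from the uniqueness of right adjoints and the monoidality of the pullback;
* `nonempty_push_tensor_iso` : `f_*(F ⊗ f^*L) ≅ f_*F ⊗ L`;
* `subsingleton_HH_push_iff` : vanishing of cohomology along an affine morphism;
* `epi_counit_of_isEmbedding`, `isGloballyGenerated_of_push`;
* `isCoh_push` (finite morphisms);
* for `i : X ⟶ P^n_R`: `subsingleton_HH_twistOn_iff`.
-/

set_option autoImplicit false
set_option linter.unusedSectionVars false
universe u

namespace Groth.Agent.Lib.R2H2.ClosedPn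

open CategoryTheory CategoryTheory.Limits AlgebraicGeometry Opposite
open Groth.Agent.Lib.R2H2.PnSerre

section General

/-- `L ⊗ - ⊣ L' ⊗ -` when `L` and `L'` are inverse to each other -/
noncomputable def tensorAdj {Z : Scheme.{u}} (L L' : Z.Modules)
    (e : (DCoh.tensorBi.obj L).obj L' ≅ Coh.structureModule Z)
    (e' : (DCoh.tensorBi.obj L').obj L ≅ Coh.structureModule Z) :
    DCoh.tensorBi.obj L ⊣ DCoh.tensorBi.obj L' :=
  let η : DCoh.tensorBi.obj L ⋙ DCoh.tensorBi.obj L' ≅ 𝟭 Z.Modules :=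
    (Groth.Agent.Lib.Helper21.ModTensor6.tLTensorIso Z.sheaf L' L).symm ≪≫
      DCoh.tensorBi.mapIso e' ≪≫ Groth.Agent.Lib.Helper21.ModTensor7.tLUnitIso Z.sheaf
  let ε : DCoh.tensorBi.obj L' ⋙ DCoh.tensorBi.obj L ≅ 𝟭 Z.Modules :=
    (Groth.Agent.Lib.Helper21.ModTensor6.tLTensorIso Z.sheaf L L').symm ≪≫
      DCoh.tensorBi.mapIso e ≪≫ Groth.Agent.Lib.Helper21.ModTensor7.tLUnitIso Z.sheaf
  (CategoryTheory.Equivalence.mk (DCoh.tensorBi.obj L) (DCoh.tensorBi.obj L') η.symm ε).toAdjunction

variable {X Y : Scheme.{u}} (f : X ⟶ Y)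

/-- `f^*L ⊗ f^*L' ≅ O_X` when `L ⊗ L' ≅ O_Y` -/
noncomputable def pullTensorUnitIso (L L' : Y.Modules)
    (e : (DCoh.tensorBi.obj L).obj L' ≅ Coh.structureModule Y) :
    (DCoh.tensorBi.obj ((Scheme.Modules.pullback f).obj L)).obj
      ((Scheme.Modules.pullback f).obj L') ≅ Coh.structureModule X :=
  (((Groth.Agent.Lib.Helper1.PT.pullTensorIso f).app L).app L').symm ≪≫
    (Scheme.Modules.pullback f).mapIso e ≪≫ Groth.Agent.Lib.Helper23.PB.pullbackUnitIso f

/-- **the projection formula** `f_*(f^*L ⊗ -) ≅ L ⊗ f_*(-)` for `L` with an inverse `L'` -/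
noncomputable def projIso (L L' : Y.Modules)
    (e : (DCoh.tensorBi.obj L).obj L' ≅ Coh.structureModule Y)
    (e' : (DCoh.tensorBi.obj L').obj L ≅ Coh.structureModule Y) :
    DCoh.tensorBi.obj ((Scheme.Modules.pullback f).obj L) ⋙ Scheme.Modules.pushforward f ≅
      Scheme.Modules.pushforward f ⋙ DCoh.tensorBi.obj L :=
  let adjY : DCoh.tensorBi.obj L' ⊣ DCoh.tensorBi.obj L := tensorAdj L' L e' e
  let adjX : DCoh.tensorBi.obj ((Scheme.Modules.pullback f).obj L') ⊣
      DCoh.tensorBi.obj ((Scheme.Modules.pullback f).obj L) :=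
    tensorAdj _ _ (pullTensorUnitIso f L' L e') (pullTensorUnitIso f L L' e)
  let adjf := Scheme.Modules.pullbackPushforwardAdjunction f
  let iso : DCoh.tensorBi.obj L' ⋙ Scheme.Modules.pullback f ≅
      Scheme.Modules.pullback f ⋙ DCoh.tensorBi.obj ((Scheme.Modules.pullback f).obj L') :=
    (Groth.Agent.Lib.Helper1.PT.pullTensorIso f).app L'
  ((adjf.comp adjX).ofNatIsoLeft iso.symm).rightAdjointUniq (adjY.comp adjf)

/-- `f_*(F ⊗ f^*L) ≅ f_*F ⊗ L` -/
theorem nonempty_push_tensor_iso (L L' : Y.Modules)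
    (e : (DCoh.tensorBi.obj L).obj L' ≅ Coh.structureModule Y)
    (e' : (DCoh.tensorBi.obj L').obj L ≅ Coh.structureModule Y) (F : X.Modules) :
    Nonempty ((Scheme.Modules.pushforward f).obj
        (CohB1.tensorMod F ((Scheme.Modules.pullback f).obj L)) ≅
      CohB1.tensorMod ((Scheme.Modules.pushforward f).obj F) L) :=
  ⟨(Scheme.Modules.pushforward f).mapIso ((twIso ((Scheme.Modules.pullback f).obj L)).app F).symm ≪≫
    (projIso f L L' e e').app F ≪≫ (twIso L).app ((Scheme.Modules.pushforward f).obj F)⟩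

/-- vanishing of cohomology can be tested after an affine pushforward -/
theorem subsingleton_HH_push_iff [IsAffineHom f] (M : X.Modules) (hM : Coh.IsQCoh M) (q : ℕ) :
    Subsingleton (Coh.HH X M q) ↔
      Subsingleton (Coh.HH Y ((Scheme.Modules.pushforward f).obj M) q) := by
  haveI : Coh.IsQCoh M := hM
  obtain ⟨e⟩ := Groth.Agent.S0012.result f M q
  exact ⟨fun _ => e.symm.toEquiv.subsingleton, fun _ => e.toEquiv.subsingleton⟩

theorem epi_counit_app_iff {C D : Type*} [Category C] [Category D] {L : C ⥤ D} {R : D ⥤ C}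
    (adj : L ⊣ R) (F : D) :
    Epi (adj.counit.app F) ↔ ∀ (G : D) (φ ψ : F ⟶ G), R.map φ = R.map ψ → φ = ψ := by
  constructor
  · intro h G φ ψ hRφ
    rw [← cancel_epi (adj.counit.app F)]
    have h1 := adj.counit.naturality φ
    have h2 := adj.counit.naturality ψ
    simp only [Functor.comp_obj, Functor.id_obj, Functor.comp_map, Functor.id_map] at h1 h2
    rw [← h1, ← h2, hRφ]
  · intro h
    refine ⟨fun {G} φ ψ hφψ => h G φ ψ ?_⟩
    have h1 := congrArg (fun m => adj.homEquiv _ _ m) hφψ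
    simp only [Adjunction.homEquiv_unit, Functor.map_comp] at h1
    simpa using h1

/-- the counit `f^* f_* F ⟶ F` is an epimorphism when `f` is a topological embedding -/
theorem epi_counit_of_isEmbedding (hf : Topology.IsEmbedding f.base) (F : X.Modules) :
    Epi ((Scheme.Modules.pullbackPushforwardAdjunction f).counit.app F) := by
  rw [epi_counit_app_iff]
  intro G φ ψ hR
  apply Scheme.Modules.hom_ext
  intro U
  obtain ⟨V, hV, hVU⟩ := hf.isOpen_iff.1 U.2
  have h2 : ∀ W : X.Opens, W = f ⁻¹ᵁ (⟨V, hV⟩ : Y.Opens) → φ.app W = ψ.app W := by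
    rintro W rfl
    exact congrArg (fun m => Scheme.Modules.Hom.app m (⟨V, hV⟩ : Y.Opens)) hR
  apply h2
  exact TopologicalSpace.Opens.ext hVU.symm

theorem isGloballyGenerated_of_iso {Z : Scheme.{u}} {M N : Z.Modules} (e : M ≅ N)
    (h : Curv2.IsGloballyGenerated M) : Curv2.IsGloballyGenerated N := by
  obtain ⟨ι, p, hp⟩ := h
  exact ⟨ι, p ≫ e.hom, epi_comp _ _⟩

/-- global generation descends along a topological embedding -/
theorem isGloballyGenerated_of_push (hf : Topology.IsEmbedding f.base) (M : X.Modules)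
    (h : Curv2.IsGloballyGenerated ((Scheme.Modules.pushforward f).obj M)) :
    Curv2.IsGloballyGenerated M := by
  obtain ⟨ι, p, hp⟩ := h
  let adj := Scheme.Modules.pullbackPushforwardAdjunction f
  have h1 : Epi ((Scheme.Modules.pullback f).map p) := by
    haveI : (Scheme.Modules.pullback f).PreservesEpimorphisms :=
      Functor.preservesEpimorphisms_of_adjunction adj
    have hp' : Epi (C := Y.Modules) p := hp
    exact (Scheme.Modules.pullback f).map_epi p
  have h2 : Epi (adj.counit.app M) := epi_counit_of_isEmbedding f hf M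
  let e : (Scheme.Modules.pullback f).obj (SheafOfModules.free (R := Y.ringCatSheaf) ι) ≅
      SheafOfModules.free (R := X.ringCatSheaf) ι :=
    SheafOfModules.pullbackObjFreeIso.{u} f.toRingCatSheafHom ι
  refine ⟨ι, e.inv ≫ (Scheme.Modules.pullback f).map p ≫ adj.counit.app M, ?_⟩
  have h3 : Epi ((Scheme.Modules.pullback f).map p ≫ adj.counit.app M) := epi_comp' h1 h2
  exact epi_comp' inferInstance h3

/-- pushforward along a finite morphism preserves coherence -/
theorem isCoh_push [IsFinite f] (F : X.Modules) (hF : Coh.IsCoh F) :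
    Coh.IsCoh ((Scheme.Modules.pushforward f).obj F) := by
  haveI : F.IsQuasicoherent := hF.1
  exact ⟨Groth.Agent.Lib.Helper23.QCohLocal.isQuasicoherent_pushforward f F,
    (Groth.Agent.Lib.Helper2.FinPushFP.isFiniteType_pushforward_iff f F).1 hF.2⟩

end General

section Pn

variable (n : ℕ) (R : Type u) [CommRing R] {X : Scheme.{u}} (i : X ⟶ CohB1.ProjSpace n R)

local notation "PX" => CohB1.ProjSpace n R

/-- `i_*(F ⊗ i^*O(d)) ≅ i_*F ⊗ O(d)` -/
theorem nonempty_push_twist_iso (F : X.Modules) (d : ℤ) :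
    Nonempty ((Scheme.Modules.pushforward i).obj
        (CohB1.tensorMod F ((Scheme.Modules.pullback i).obj (Twist.twistProjSpace n R d))) ≅
      CohB1.tensorMod ((Scheme.Modules.pushforward i).obj F) (Twist.twistProjSpace n R d)) := by
  obtain ⟨e⟩ := Groth.Agent.Lib.R2Lead.KRR.nonempty_twistProjSpace_tensor_iso n R d (-d)
  obtain ⟨e'⟩ := Groth.Agent.Lib.R2Lead.KRR.nonempty_twistProjSpace_tensor_iso n R (-d) d
  obtain ⟨z⟩ := Groth.Agent.Lib.R2Lead.KRR.nonempty_twistProjSpace_zero_iso n R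
  have h1 : Twist.twistProjSpace n R (d + -d) = Twist.twistProjSpace n R 0 := by
    rw [add_neg_cancel]
  have h2 : Twist.twistProjSpace n R (-d + d) = Twist.twistProjSpace n R 0 := by
    rw [neg_add_cancel]
  have e1 : (DCoh.tensorBi.obj (Twist.twistProjSpace n R d)).obj (Twist.twistProjSpace n R (-d)) ≅
      Coh.structureModule PX := e ≪≫ eqToIso h1 ≪≫ z
  have e2 : (DCoh.tensorBi.obj (Twist.twistProjSpace n R (-d))).obj (Twist.twistProjSpace n R d) ≅
      Coh.structureModule PX := e' ≪≫ eqToIso h2 ≪≫ z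
  exact nonempty_push_tensor_iso i (Twist.twistProjSpace n R d) (Twist.twistProjSpace n R (-d))
    e1 e2 F

/-- vanishing of `H^q(X, F ⊗ i^*O(d))` is vanishing of `H^q(P^n, i_*F ⊗ O(d))` -/
theorem subsingleton_HH_twistOn_iff [IsAffineHom i] (F : X.Modules) (hF : F.IsQuasicoherent)
    (d : ℤ) (q : ℕ) :
    Subsingleton (Coh.HH X
        (CohB1.tensorMod F ((Scheme.Modules.pullback i).obj (Twist.twistProjSpace n R d))) q) ↔
      Subsingleton (Coh.HH PX
        (CohB1.tensorMod ((Scheme.Modules.pushforward i).obj F) (Twist.twistProjSpace n R d)) q) := by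
  haveI := hF
  haveI : (Twist.twistProjSpace n R d).IsQuasicoherent :=
    Groth.Agent.Lib.R2H2.PnFinite.isQCoh_twist n R d
  haveI : ((Scheme.Modules.pullback i).obj (Twist.twistProjSpace n R d)).IsQuasicoherent :=
    Groth.Agent.Lib.Helper2.PullbackSec.isQuasicoherent_pullback i _
  have hq : Coh.IsQCoh (CohB1.tensorMod F
      ((Scheme.Modules.pullback i).obj (Twist.twistProjSpace n R d))) :=
    Groth.Agent.Lib.Helper23.TensorQCoh.isQuasicoherent_tensorMod F _
  rw [subsingleton_HH_push_iff i _ hq q]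
  obtain ⟨e⟩ := nonempty_push_twist_iso n R i F d
  exact ⟨fun h => subsingleton_HH_of_iso e q h, fun h => subsingleton_HH_of_iso e.symm q h⟩

end Pn

end Groth.Agent.Lib.R2H2.ClosedPn
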