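import Groth.Agent.Lib.Helper16CechLow

/-!
# Comparison of Čech complexes (helper2, round 2)

`cechIso`: two Čech complexes (possibly on different categories) with the same index set are
isomorphic as soon as their terms are compatibly isomorphic.
-/

set_option autoImplicit false
universe u

namespace Groth.Agent.Lib.R2H2.CechCmp

open CategoryTheory CategoryTheory.Limits Opposite
open Groth.Agent.Lib.Helper16.CechLow

universe v u₁ v' u₁'

variable {C : Type u₁} [Category.{v} C] [HasFiniteProducts C]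
  {C' : Type u₁'} [Category.{v'} C'] [HasFiniteProducts C']
  {ι : Type u} (U : ι → C) (U' : ι → C')
  (P : Cᵒᵖ ⥤ AddCommGrpCat.{u}) (P' : C'ᵒᵖ ⥤ AddCommGrpCat.{u})

/-- the map of Čech cochains induced by a family of maps of the terms -/
noncomputable def cmpMap (e : ∀ (n : ℕ) (x : Fin (n + 1) → ι),
    P.obj (op (Ux U x)) ⟶ P'.obj (op (Ux U' x))) (n : ℕ) :
    (CK U P).X n ⟶ (CK U' P').X n :=
  Limits.Pi.map (fun x : Fin (n + 1) → ι => e n x)

lemma cmpMap_pr (e : ∀ (n : ℕ) (x : Fin (n + 1) → ι),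
    P.obj (op (Ux U x)) ⟶ P'.obj (op (Ux U' x))) (n : ℕ) (x : Fin (n + 1) → ι) :
    cmpMap U U' P P' e n ≫ pr U' P' n x = pr U P n x ≫ e n x :=
  Limits.Pi.map_π _ _

lemma cmpMap_comm (e : ∀ (n : ℕ) (x : Fin (n + 1) → ι),
    P.obj (op (Ux U x)) ⟶ P'.obj (op (Ux U' x)))
    (he : ∀ (n : ℕ) (x : Fin (n + 2) → ι) (i : Fin (n + 2)),
      P.map (face U x i).op ≫ e (n + 1) x =
        e n (x ∘ Fin.succAbove i) ≫ P'.map (face U' x i).op) (n : ℕ) :
    cmpMap U U' P P' e n ≫ (CK U' P').d n (n + 1) =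
      (CK U P).d n (n + 1) ≫ cmpMap U U' P P' e (n + 1) := by
  apply Pi.hom_ext
  intro x
  change _ ≫ pr U' P' (n + 1) x = _ ≫ pr U' P' (n + 1) x
  rw [Category.assoc, Category.assoc, d_pr, cmpMap_pr, ← Category.assoc, d_pr,
    Preadditive.comp_sum, Preadditive.sum_comp]
  refine Finset.sum_congr rfl (fun i _ => ?_)
  rw [Preadditive.comp_zsmul, Preadditive.zsmul_comp, Category.assoc, he n x i,
    ← Category.assoc, cmpMap_pr, Category.assoc]

/-- the isomorphism of Čech complexes induced by compatible isomorphisms of the terms -/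
noncomputable def cechIso (e : ∀ (n : ℕ) (x : Fin (n + 1) → ι),
    P.obj (op (Ux U x)) ≅ P'.obj (op (Ux U' x)))
    (he : ∀ (n : ℕ) (x : Fin (n + 2) → ι) (i : Fin (n + 2)),
      P.map (face U x i).op ≫ (e (n + 1) x).hom =
        (e n (x ∘ Fin.succAbove i)).hom ≫ P'.map (face U' x i).op) :
    CK U P ≅ CK U' P' :=
  HomologicalComplex.Hom.isoOfComponents
    (fun n => Limits.Pi.mapIso (fun x : Fin (n + 1) → ι => e n x))
    (by
      rintro n m (rfl : n + 1 = m)
      change cmpMap U U' P P' (fun n x => (e n x).hom) n ≫ _ =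
        _ ≫ cmpMap U U' P P' (fun n x => (e n x).hom) (n + 1)
      exact cmpMap_comm U U' P P' (fun n x => (e n x).hom) he n)

/-- the resulting isomorphism in cohomology -/
theorem nonempty_homology_addEquiv (e : ∀ (n : ℕ) (x : Fin (n + 1) → ι),
    P.obj (op (Ux U x)) ≅ P'.obj (op (Ux U' x)))
    (he : ∀ (n : ℕ) (x : Fin (n + 2) → ι) (i : Fin (n + 2)),
      P.map (face U x i).op ≫ (e (n + 1) x).hom =
        (e n (x ∘ Fin.succAbove i)).hom ≫ P'.map (face U' x i).op) (p : ℕ) :
    Nonempty (((CK U P).homology p : AddCommGrpCat.{u}) ≃+ ((CK U' P').homology p : AddCommGrpCat.{u})) :=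
  ⟨(((HomologicalComplex.homologyFunctor _ _ p).mapIso
    (cechIso U U' P P' e he)).addCommGroupIsoToAddEquiv)⟩


section Les

open HomologicalComplex

variable {D : Type*} [Category D] [Abelian D] {κ : Type*} {c : ComplexShape κ}
  {S : ShortComplex (HomologicalComplex D c)} (hS : S.ShortExact)

include hS in
/-- if the homology of the first term vanishes in degrees `i` and `j = i + 1`, the third map
induces an isomorphism in degree `i` -/
theorem isIso_homologyMap_g (i j : κ) (hij : c.Rel i j) (h1 : IsZero (S.X₁.homology i))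
    (h2 : IsZero (S.X₁.homology j)) : IsIso (homologyMap S.g i) := by
  have hm : Mono (homologyMap S.g i) := (hS.homology_exact₂ i).mono_g (h1.eq_of_src _ _)
  have he : Epi (homologyMap S.g i) := (hS.homology_exact₃ i j hij).epi_f (h2.eq_of_tgt _ _)
  exact isIso_of_mono_of_epi _

end Les

section SES

variable {C : Type u₁} [Category.{v} C] [HasFiniteProducts C] {ι : Type u} (U : ι → C)
  {P₁ P₂ P₃ : Cᵒᵖ ⥤ AddCommGrpCat.{u}} (a : P₁ ⟶ P₂) (b : P₂ ⟶ P₃)

lemma map_pr (n : ℕ) (x : Fin (n + 1) → ι) :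
    ((cechComplexFunctor U).map a).f n ≫ pr U P₂ n x = pr U P₁ n x ≫ a.app (op (Ux U x)) := by
  simp [cechComplexFunctor, pr]
  exact Limits.Pi.map_π _ _

lemma map_pr_apply (n : ℕ) (x : Fin (n + 1) → ι) (c : (CK U P₁).X n) :
    pr U P₂ n x (((cechComplexFunctor U).map a).f n c) = a.app (op (Ux U x)) (pr U P₁ n x c) :=
  ConcreteCategory.congr_hom (map_pr U a n x) c

/-- the short complex of Čech complexes attached to a complex of presheaves -/
noncomputable def cechSC (hab : ∀ (n : ℕ) (x : Fin (n + 1) → ι) (s : P₁.obj (op (Ux U x))),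
    b.app (op (Ux U x)) (a.app (op (Ux U x)) s) = 0) :
    ShortComplex (CochainComplex AddCommGrpCat.{u} ℕ) :=
  ShortComplex.mk ((cechComplexFunctor U).map a) ((cechComplexFunctor U).map b) (by
    ext n c
    apply elt_ext U P₃ n
    intro x
    change pr U P₃ n x (((cechComplexFunctor U).map b).f n (((cechComplexFunctor U).map a).f n c)) =
      pr U P₃ n x 0
    rw [map_pr_apply, map_pr_apply, hab, map_zero])

theorem cechSC_shortExact (hab : ∀ (n : ℕ) (x : Fin (n + 1) → ι) (s : P₁.obj (op (Ux U x))),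
    b.app (op (Ux U x)) (a.app (op (Ux U x)) s) = 0)
    (hinj : ∀ (n : ℕ) (x : Fin (n + 1) → ι), Function.Injective (a.app (op (Ux U x))))
    (hsurj : ∀ (n : ℕ) (x : Fin (n + 1) → ι), Function.Surjective (b.app (op (Ux U x))))
    (hex : ∀ (n : ℕ) (x : Fin (n + 1) → ι) (s : P₂.obj (op (Ux U x))),
      b.app (op (Ux U x)) s = 0 → ∃ t, a.app (op (Ux U x)) t = s) :
    (cechSC U a b hab).ShortExact := by
  apply HomologicalComplex.shortExact_of_degreewise_shortExact
  intro n
  refine ShortComplex.ShortExact.mk' ?_ ?_ ?_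
  · rw [ShortComplex.ab_exact_iff]
    intro (c : (CK U P₂).X n) hc
    have hc' : ((cechComplexFunctor U).map b).f n c = 0 := hc
    have h1 : ∀ x : Fin (n + 1) → ι, ∃ t, a.app (op (Ux U x)) t = pr U P₂ n x c := by
      intro x
      apply hex
      rw [← map_pr_apply, hc', map_zero]
    choose t ht using h1
    refine ⟨mkElt U P₁ n t, ?_⟩
    apply elt_ext U P₂ n
    intro x
    change pr U P₂ n x (((cechComplexFunctor U).map a).f n (mkElt U P₁ n t)) = _
    rw [map_pr_apply, pr_mkElt, ht]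
  · rw [AddCommGrpCat.mono_iff_injective]
    intro (c : (CK U P₁).X n) (c' : (CK U P₁).X n) hcc
    have hcc' : ((cechComplexFunctor U).map a).f n c = ((cechComplexFunctor U).map a).f n c' := hcc
    apply elt_ext U P₁ n
    intro x
    apply hinj n x
    rw [← map_pr_apply, ← map_pr_apply, hcc']
  · rw [AddCommGrpCat.epi_iff_surjective]
    intro (c : (CK U P₃).X n)
    have h1 : ∀ x : Fin (n + 1) → ι, ∃ t, b.app (op (Ux U x)) t = pr U P₃ n x c :=
      fun x => hsurj n x _
    choose t ht using h1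
    refine ⟨mkElt U P₂ n t, ?_⟩
    apply elt_ext U P₃ n
    intro x
    change pr U P₃ n x (((cechComplexFunctor U).map b).f n (mkElt U P₂ n t)) = _
    rw [map_pr_apply, pr_mkElt, ht]

end SES

end Groth.Agent.Lib.R2H2.CechCmp
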