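import Groth.Agent.S0013
import Groth.Agent.Lib.R2H2CechCmp

/-!
# Naturality of the Čech-to-derived comparison (helper2, round 2)

The isomorphism `Ȟ^p(𝒰, M) ≃+ H^p(X, M)` of S0013 can be chosen compatible with all endomorphisms
of the underlying abelian sheaf of `M` (in particular with multiplication by global functions).
-/

set_option autoImplicit false
set_option linter.unusedSectionVars false
universe u

namespace Groth.Agent.Lib.R2H2.LerayNat

open CategoryTheory CategoryTheory.Limits Opposite TopologicalSpace Abelian CechEdge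
open Groth.Agent.Lib.Helper16.CechLow Groth.Agent.Lib.Helper16.CechH1
  Groth.Agent.Lib.Helper16.CechCmp Groth.Agent.Lib.Helper16.CechLES

section Site

variable {C : Type u} [SmallCategory C] [HasPullbacks C] (J : GrothendieckTopology C) {U : C}
  {ι : Type u} (Y : ι → Over U)

lemma HUmap_apply {F G : Sheaf J AddCommGrpCat.{u}} (ψ : F ⟶ G) (p : ℕ) (V : C)
    (x : CohSite.HU F p V) : HUmap ψ p V x = x.comp (Ext.mk₀ ψ) (add_zero p) := rfl

lemma HUmap_comp_apply {F G H : Sheaf J AddCommGrpCat.{u}} (f : F ⟶ G) (g : G ⟶ H) (p : ℕ) (V : C)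
    (x : CohSite.HU F p V) : HUmap (f ≫ g) p V x = HUmap g p V (HUmap f p V x) := by
  rw [HUmap_apply, HUmap_apply, HUmap_apply, Ext.comp_assoc_of_third_deg_zero, Ext.mk₀_comp_mk₀]

variable {J Y}

theorem edgeSh_natural
    (e : ∀ (P : Cᵒᵖ ⥤ AddCommGrpCat.{u}) (p : ℕ), CohCx.cechH P Y p →+ CohSite.HU (shf J P) p U)
    (he : IsEdge J Y e) {F G : Sheaf J AddCommGrpCat.{u}} (ψ : F ⟶ G) (p : ℕ)
    (x : CohCx.cechH F.obj Y p) :
    edgeSh e G p (cechHMap Y ψ.hom p x) = HUmap ψ p U (edgeSh e F p x) := by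
  unfold edgeSh
  rw [AddMonoidHom.comp_apply, AddMonoidHom.comp_apply, he.natural, ← HUmap_comp_apply,
    ← HUmap_comp_apply]
  have h : shfMap J ψ.hom ≫ (sheafificationAdjunction J AddCommGrpCat.{u}).counit.app G =
      (sheafificationAdjunction J AddCommGrpCat.{u}).counit.app F ≫ ψ :=
    (sheafificationAdjunction J AddCommGrpCat.{u}).counit.naturality ψ
  rw [h]

end Site

section Top

variable {X : TopCat.{u}}

section Iso

variable {P Q : (Opens X)ᵒᵖ ⥤ AddCommGrpCat.{u}} (φ : P ⟶ Q) {W : Opens X} {ι : Type u}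
  (Y : ι → Over W)

lemma isoCx_natural : (cechComplexFunctor (UY Y)).map φ ≫ (isoCx Q Y).hom =
    (isoCx P Y).hom ≫ (cxFunctor Y).map φ := by
  apply HomologicalComplex.hom_ext
  intro n
  refine Pi.hom_ext _ _ (fun (x : Fin (n + 1) → ι) => ?_)
  have h : (((cechComplexFunctor (UY Y)).map φ).f n ≫ homX Q Y n) ≫ pr Y (PW Q) n x =
      (homX P Y n ≫ ((cechComplexFunctor Y).map
        (Functor.whiskerLeft (Over.forget W).op φ)).f n) ≫ pr Y (PW Q) n x := by
    have hL : (((cechComplexFunctor (UY Y)).map φ).f n ≫ homX Q Y n) ≫ pr Y (PW Q) n x =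
        pr (UY Y) P n x ≫ (φ.app (op (Ux (UY Y) x)) ≫ toPW Q Y x) := by
      rw [Category.assoc, homX_pr, ← Category.assoc, Groth.Agent.Lib.R2H2.CechCmp.map_pr,
        Category.assoc]
    have hR : (homX P Y n ≫ ((cechComplexFunctor Y).map
        (Functor.whiskerLeft (Over.forget W).op φ)).f n) ≫ pr Y (PW Q) n x =
        pr (UY Y) P n x ≫ (toPW P Y x ≫ φ.app (op (Ux Y x).left)) := by
      rw [Category.assoc, Groth.Agent.Lib.R2H2.CechCmp.map_pr, ← Category.assoc, homX_pr,
        Category.assoc]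
      rfl
    rw [hL, hR]
    congr 1
    exact (φ.naturality _).symm
  exact h

lemma isoH_natural (p : ℕ) (x : CohTop.cechH P (UY Y) p) :
    (isoH Q Y p).hom (HomologicalComplex.homologyMap ((cechComplexFunctor (UY Y)).map φ) p x) =
      cechHMap Y φ p ((isoH P Y p).hom x) := by
  have h := congrArg (fun f => HomologicalComplex.homologyMap f p) (isoCx_natural φ Y)
  simp only [HomologicalComplex.homologyMap_comp] at h
  exact ConcreteCategory.congr_hom h x

end Iso

open Groth.Agent.Lib.Helper23.AffVanish in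
lemma HETopEquivH_natural {F G : CohTop.Ab X} (ψ : F ⟶ G) (p : ℕ) (x : CohTop.HU F p ⊤) :
    HETopEquivH X G p (CohTop.HUmap ψ p ⊤ x) = Sheaf.H.map ψ p (HETopEquivH X F p x) := by
  change (Ext.mk₀ (wTop X)).comp (x.comp (Ext.mk₀ ψ) (add_zero p)) (zero_add p) =
    ((Ext.mk₀ (wTop X)).comp x (zero_add p)).comp (Ext.mk₀ ψ) (add_zero p)
  rw [Ext.comp_assoc_of_third_deg_zero]

open Groth.Agent.Lib.Helper23.AffVanish in
lemma exists_HU_equiv (F : CohTop.Ab X) (p : ℕ) (V : Opens X) (hV : V = ⊤) :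
    ∃ e3 : CohTop.HU F p V ≃+ CohTop.H F p, ∀ (ψ : F ⟶ F) (x : CohTop.HU F p V),
      e3 (CohTop.HUmap ψ p V x) = Sheaf.H.map ψ p (e3 x) := by
  subst hV
  exact ⟨HETopEquivH X F p, fun ψ x => HETopEquivH_natural ψ p x⟩

/-- the Čech-to-derived isomorphism on a space, compatible with endomorphisms -/
theorem exists_natural_top (F : CohTop.Ab X) {ι : Type u} (U : ι → Opens X)
    (h : ∀ (p : ℕ) (a : Fin (p + 1) → ι) (q : ℕ),
      Subsingleton (CohTop.HU F (q + 1) (iInf fun k => U (a k))))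
    (hcov : iSup U = ⊤) (p : ℕ) :
    ∃ e : CohTop.cechH F.obj U p ≃+ CohTop.H F p, ∀ (ψ : F ⟶ F) (x : CohTop.cechH F.obj U p),
      e (HomologicalComplex.homologyMap ((cechComplexFunctor U).map ψ.hom) p x) =
        Sheaf.H.map ψ p (e x) := by
  let Y := fam U (iSup U) (le_iSup U)
  have hY : Sieve.ofArrows (fun i => (Y i).left) (fun i => (Y i).hom) ∈
      Opens.grothendieckTopology X (iSup U) := covering_of_iSup Y le_rfl
  have hh : ∀ (p : ℕ) (a : Fin (p + 1) → ι) (q : ℕ),
      Subsingleton (CohSite.HU F (q + 1) (∏ᶜ fun k => Y (a k)).left) := by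
    intro p a q
    have e : (∏ᶜ fun k => Y (a k)).left = iInf fun k => U (a k) := by
      rw [← Groth.Agent.S0493.prod_eq_iInf]
      exact le_antisymm (left_le Y a) (le_left Y a)
    rw [e]
    exact h p a q
  obtain ⟨ed, hed⟩ := Groth.Agent.S16019.result (Opens.grothendieckTopology X) Y hY
  have bij := Groth.Agent.S16022.result (Opens.grothendieckTopology X) Y ed hed F hh p
  obtain ⟨e3, he3⟩ := exists_HU_equiv F p (iSup U) hcov
  let e1 : CohTop.cechH F.obj U p ≃+ CohCx.cechH F.obj Y p :=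
    (isoH F.obj Y p).addCommGroupIsoToAddEquiv
  let e2 : CohCx.cechH F.obj Y p ≃+ CohSite.HU F p (iSup U) :=
    AddEquiv.ofBijective (edgeSh ed F p) bij
  refine ⟨e1.trans (e2.trans e3), fun ψ x => ?_⟩
  change e3 (edgeSh ed F p ((isoH F.obj Y p).hom
    (HomologicalComplex.homologyMap ((cechComplexFunctor U).map ψ.hom) p x))) =
    Sheaf.H.map ψ p (e3 (edgeSh ed F p ((isoH F.obj Y p).hom x)))
  have h1 : (isoH F.obj Y p).hom
      (HomologicalComplex.homologyMap ((cechComplexFunctor U).map ψ.hom) p x) =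
      cechHMap Y ψ.hom p ((isoH F.obj Y p).hom x) := isoH_natural ψ.hom Y p x
  rw [h1, edgeSh_natural ed hed ψ p, ← he3]

end Top

section Scheme

open AlgebraicGeometry Groth.Agent.Lib.Helper23.AffVanish

/-- **the Čech-to-derived isomorphism of S0013, compatible with all endomorphisms of the underlying
abelian sheaf** -/
theorem exists_natural (X : Scheme.{u}) {ι : Type u} (U : ι → X.Opens) (hcov : ⨆ i, U i = ⊤)
    (hU : ∀ s : Finset ι, s.Nonempty → IsAffineOpen (⨅ i ∈ s, U i))
    (M : X.Modules) [Coh.IsQCoh M] (p : ℕ) :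
    ∃ e : ↑(CohB1.cechH U M p) ≃+ Coh.HH X M p,
      ∀ (ψ : Coh.toAb M ⟶ Coh.toAb M) (x : ↑(CohB1.cechH U M p)),
        e (HomologicalComplex.homologyMap ((cechComplexFunctor U).map ψ.hom) p x) =
          Sheaf.H.map ψ p (e x) := by
  have h : ∀ (p : ℕ) (a : Fin (p + 1) → ι) (q : ℕ),
      Subsingleton (CohTop.HU (ab' M) (q + 1) (iInf fun k => U (a k))) := by
    intro p a q
    have haff : IsAffineOpen (iInf fun k => U (a k)) := by
      classical
      have := hU (Finset.image a Finset.univ) (Finset.image_nonempty.2 Finset.univ_nonempty)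
      have e : (⨅ i ∈ Finset.image a Finset.univ, U i) = iInf fun k => U (a k) := by
        apply le_antisymm
        · refine le_iInf fun k => ?_
          exact iInf₂_le (a k) (Finset.mem_image.2 ⟨k, Finset.mem_univ k, rfl⟩)
        · refine le_iInf₂ fun i hi => ?_
          obtain ⟨k, -, rfl⟩ := Finset.mem_image.1 hi
          exact iInf_le _ k
      rwa [e] at this
    exact subsingleton_HE_of_isAffineOpen haff M q
  exact exists_natural_top (ab' M) U h hcov p

end Scheme

end Groth.Agent.Lib.R2H2.LerayNat
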