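import Groth.Agent.Lib.R2H2ProjSec
import Groth.Agent.Lib.R2H2LerayNat
import Groth.Agent.Lib.Helper27PnSections

/-!
# Linearity of the comparison between strand complexes and cohomology on `Proj` (helper2, round 2)
-/

set_option autoImplicit false
set_option linter.unusedSectionVars false
universe u

namespace Groth.Agent.Lib.R2H2.PnLin

open CategoryTheory CategoryTheory.Limits AlgebraicGeometry TopologicalSpace Opposite
open Groth.Agent.Lib.Helper16.CechLow Groth.Agent.Lib.R2H2.LocPsh Groth.Agent.Lib.R2H2.CechCmp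
  Groth.Agent.Lib.R2H2.Strand Groth.Agent.Lib.R2H2.StrandCech Groth.Agent.Lib.Helper27GrTildeSect
  Groth.Agent.Lib.R2H2.ProjSec

section Abstract

universe v u₁ v' u₁'

variable {C : Type u₁} [Category.{v} C] [HasFiniteProducts C]
  {C' : Type u₁'} [Category.{v'} C'] [HasFiniteProducts C']
  {ι : Type u} (U : ι → C) (U' : ι → C')
  (P : Cᵒᵖ ⥤ AddCommGrpCat.{u}) (P' : C'ᵒᵖ ⥤ AddCommGrpCat.{u})

/-- naturality of `cechIso` with respect to endomorphisms of the coefficients -/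
theorem cechIso_natural (e : ∀ (n : ℕ) (x : Fin (n + 1) → ι),
      P.obj (op (Ux U x)) ≅ P'.obj (op (Ux U' x)))
    (he : ∀ (n : ℕ) (x : Fin (n + 2) → ι) (i : Fin (n + 2)),
      P.map (face U x i).op ≫ (e (n + 1) x).hom =
        (e n (x ∘ Fin.succAbove i)).hom ≫ P'.map (face U' x i).op)
    (a : P ⟶ P) (a' : P' ⟶ P')
    (ha : ∀ (n : ℕ) (x : Fin (n + 1) → ι),
      a.app (op (Ux U x)) ≫ (e n x).hom = (e n x).hom ≫ a'.app (op (Ux U' x))) :
    (cechComplexFunctor U).map a ≫ (cechIso U U' P P' e he).hom =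
      (cechIso U U' P P' e he).hom ≫ (cechComplexFunctor U').map a' := by
  apply HomologicalComplex.hom_ext
  intro n
  change ((cechComplexFunctor U).map a).f n ≫ cmpMap U U' P P' (fun n x => (e n x).hom) n =
    cmpMap U U' P P' (fun n x => (e n x).hom) n ≫ ((cechComplexFunctor U').map a').f n
  refine Pi.hom_ext _ _ (fun (x : Fin (n + 1) → ι) => ?_)
  change _ ≫ pr U' P' n x = _ ≫ pr U' P' n x
  rw [Category.assoc, Category.assoc, cmpMap_pr, map_pr, ← Category.assoc, map_pr,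
    ← Category.assoc, cmpMap_pr, Category.assoc, Category.assoc, ha n x]

/-- the induced isomorphism in homology, with its naturality -/
theorem exists_homology_natural (e : ∀ (n : ℕ) (x : Fin (n + 1) → ι),
      P.obj (op (Ux U x)) ≅ P'.obj (op (Ux U' x)))
    (he : ∀ (n : ℕ) (x : Fin (n + 2) → ι) (i : Fin (n + 2)),
      P.map (face U x i).op ≫ (e (n + 1) x).hom =
        (e n (x ∘ Fin.succAbove i)).hom ≫ P'.map (face U' x i).op) (p : ℕ) :
    ∃ E : ((CK U P).homology p : AddCommGrpCat.{u}) ≃+ ((CK U' P').homology p : AddCommGrpCat.{u}),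
      ∀ (a : P ⟶ P) (a' : P' ⟶ P'),
        (∀ (n : ℕ) (x : Fin (n + 1) → ι),
          a.app (op (Ux U x)) ≫ (e n x).hom = (e n x).hom ≫ a'.app (op (Ux U' x))) →
        ∀ z, E (HomologicalComplex.homologyMap ((cechComplexFunctor U).map a) p z) =
          HomologicalComplex.homologyMap ((cechComplexFunctor U').map a') p (E z) := by
  refine ⟨(((HomologicalComplex.homologyFunctor _ _ p).mapIso
    (cechIso U U' P P' e he)).addCommGroupIsoToAddEquiv), ?_⟩
  intro a a' ha z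
  have h1 := cechIso_natural U U' P P' e he a a' ha
  have h2 := congrArg (fun f => HomologicalComplex.homologyMap f p) h1
  simp only [HomologicalComplex.homologyMap_comp] at h2
  exact ConcreteCategory.congr_hom h2 z

end Abstract

section Geom

variable {R A : Type u} [CommRing R] [CommRing A] [Algebra R A] (𝒜 : ℕ → Submodule R A)
  [GradedAlgebra 𝒜]
variable {M : Type u} [AddCommGroup M] [Module R M] [Module A M] [IsScalarTower R A M]
  (ℳ : ℕ → Submodule R M) [DirectSum.Decomposition ℳ] [SetLike.GradedSMul 𝒜 ℳ]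
variable (fs : List A) (hfs : ∀ a ∈ fs, ∃ d : ℕ, 0 < d ∧ a ∈ 𝒜 d)
variable {n : ℕ} (x : Fin (n + 1) → Idx fs) (d : ℤ)

lemma valAt_nMap (r : R) (g : M →ₗ[A] M) (hgr : ∀ m, g m = r • m)
    (y : Proj 𝒜) (hy : y ∈ Ux (Wp 𝒜 fs) x) (w : LocalizedModule (SS fs x) M) :
    valAt 𝒜 fs x y hy (nMap (SS fs x) g w) =
      (Localization.mk (algebraMap R A r) (1 : y.asHomogeneousIdeal.toIdeal.primeCompl) :
        Twist.Loc 𝒜 y) • valAt 𝒜 fs x y hy w := by
  induction w with | _ m s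
  rw [nMap_mk, valAt_mk, valAt_mk, LocalizedModule.mk_smul_mk, one_mul, hgr, algebraMap_smul]

include hfs in
/-- the comparison maps intertwine multiplication by a constant -/
lemma phiHom_smul (r : R) (g : M →ₗ[A] M) (hg : IsGr (zgr 𝒜 ℳ) (zgr 𝒜 ℳ) g)
    (hgr : ∀ m, g m = r • m)
    (z : (AddCommGrpCat.of (strand (zgr 𝒜 ℳ) (SS fs x) d) : AddCommGrpCat.{u})) :
    phiHom 𝒜 ℳ fs x d ((pshdMap g hg d).app (op (Ux (fam fs) x)) z) =
      ((Proj 𝒜).presheaf.map (homOfLE (le_top : Ux (Wp 𝒜 fs) x ≤ ⊤)).op (constFun 𝒜 r)) •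
        phiHom 𝒜 ℳ fs x d z := by
  apply sec_ext
  intro y hy
  obtain ⟨e, he, hge⟩ := exists_deg_gx 𝒜 fs hfs x
  have hy' : gx fs x ∉ y.asHomogeneousIdeal := by
    have h1 : y ∈ Proj.basicOpen 𝒜 (gx fs x) := by
      rw [← Ux_eq]
      exact hy
    exact (Proj.mem_basicOpen 𝒜 _ y).mp h1
  rw [secVal_smul, secVal_phiHom, secVal_phiHom, funVal_map,
    Groth.Agent.Lib.Helper27PnSections.funVal_constFun_val 𝒜 hge he r y hy']
  exact valAt_nMap 𝒜 fs x r g hgr y hy _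

end Geom

section Main

variable {R A : Type u} [CommRing R] [CommRing A] [Algebra R A] (𝒜 : ℕ → Submodule R A)
  [GradedAlgebra 𝒜]
variable {M : Type u} [AddCommGroup M] [Module R M] [Module A M] [IsScalarTower R A M]
  (ℳ : ℕ → Submodule R M) [DirectSum.Decomposition ℳ] [SetLike.GradedSMul 𝒜 ℳ]
variable (fs : List A) (hfs : ∀ a ∈ fs, ∃ d : ℕ, 0 < d ∧ a ∈ 𝒜 d) (d : ℤ)

include hfs in
lemma phiIso_smulAb (r : R) (g : M →ₗ[A] M) (hg : IsGr (zgr 𝒜 ℳ) (zgr 𝒜 ℳ) g)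
    (hgr : ∀ m, g m = r • m) (n : ℕ) (x : Fin (n + 1) → Idx fs) :
    (pshdMap g hg d).app (op (Ux (fam fs) x)) ≫ (phiIso 𝒜 ℳ fs hfs d n x).hom =
      (phiIso 𝒜 ℳ fs hfs d n x).hom ≫
        (Coh.smulAb (GrTilde.tilde 𝒜 ℳ d) (constFun 𝒜 r)).hom.app (op (Ux (Wp 𝒜 fs) x)) := by
  ext z
  rw [phiIso_hom]
  exact phiHom_smul 𝒜 ℳ fs hfs x d r g hg hgr z

include hfs in
/-- the strand Čech complex computes the Čech complex of `M(d)~`, compatibly with constants -/
theorem exists_cech_strand_natural (q : ℕ) :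
    ∃ E : ((CNd fs (zgr 𝒜 ℳ) d).homology q : AddCommGrpCat.{u}) ≃+
        ((CK (Wp 𝒜 fs) (GrTilde.tilde 𝒜 ℳ d).presheaf).homology q : AddCommGrpCat.{u}),
      ∀ (r : R) (g : M →ₗ[A] M) (hg : IsGr (zgr 𝒜 ℳ) (zgr 𝒜 ℳ) g) (_ : ∀ m, g m = r • m)
        (z : ((CNd fs (zgr 𝒜 ℳ) d).homology q : AddCommGrpCat.{u})),
        E (HomologicalComplex.homologyMap
            ((cechComplexFunctor (fam fs)).map (pshdMap g hg d)) q z) =
          HomologicalComplex.homologyMap ((cechComplexFunctor (Wp 𝒜 fs)).map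
            (Coh.smulAb (GrTilde.tilde 𝒜 ℳ d) (constFun 𝒜 r)).hom) q (E z) := by
  obtain ⟨E, hE⟩ := exists_homology_natural (fam fs) (Wp 𝒜 fs) (pshd (zgr 𝒜 ℳ) d)
    (GrTilde.tilde 𝒜 ℳ d).presheaf (phiIso 𝒜 ℳ fs hfs d)
    (fun _ x i => phiHom_comm 𝒜 ℳ fs d x i) q
  refine ⟨E, ?_⟩
  intro r g hg hgr z
  exact hE (pshdMap g hg d) (Coh.smulAb (GrTilde.tilde 𝒜 ℳ d) (constFun 𝒜 r)).hom
    (fun n x => phiIso_smulAb 𝒜 ℳ fs hfs d r g hg hgr n x) z

end Main

end Groth.Agent.Lib.R2H2.PnLin
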