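import Groth.Agent.Lib.R2H2LerayNat2
import Groth.Agent.Lib.R2H2PnLin
import Groth.Agent.Lib.R2H2HHLin
import Groth.Agent.S0493

/-!
# Cohomology along an affine morphism, naturally (helper2, round 2)

For `f : X ⟶ Y` affine, `Y` with an affine cover `V` with affine finite intersections and `M`
quasi-coherent on `X`: an isomorphism `H^p(X, M) ≃+ H^p(Y, f_* M)` compatible with all
endomorphisms of the abelian sheaf underlying `M`; in particular linear over a base ring.

* `exists_top_natural` (topological spaces), `exists_push_natural` (schemes),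
* `exists_push_linear` : `H^p(X, M) ≃ₗ[A] H^p(Y, f_* M)` for `A`-schemes.
-/

set_option autoImplicit false
set_option linter.unusedSectionVars false
universe u

namespace Groth.Agent.Lib.R2H2.AffPushLin

open CategoryTheory CategoryTheory.Limits Opposite TopologicalSpace Abelian CechEdge
open Groth.Agent.Lib.Helper16.CechLow Groth.Agent.Lib.Helper16.CechH1
  Groth.Agent.Lib.Helper16.CechCmp Groth.Agent.Lib.Helper16.CechLES
  Groth.Agent.Lib.R2H2.LerayNat Groth.Agent.Lib.R2H2.LerayNat2

section Top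

variable {X Y : TopCat.{u}} (f : X ⟶ Y) {ι : Type u} (V : ι → Opens Y)

/-- the preimage cover -/
abbrev preU : ι → Opens X := fun j => (Opens.map f).obj (V j)

lemma Ux_preU_eq {n : ℕ} (x : Fin (n + 1) → ι) :
    Ux (preU f V) x = (Opens.map f).obj (Ux V x) := by
  apply le_antisymm
  · intro y hy
    change f y ∈ Ux V x
    rw [Groth.Agent.S0493.prod_eq_iInf]
    have h1 : f y ∈ ((⨅ k, V (x k) : Opens Y) : Set Y) := by
      rw [Opens.coe_iInf]
      refine Set.mem_iInter.2 (fun k => ?_)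
      exact Ux_le (preU f V) x k hy
    exact h1
  · apply le_Ux
    intro a y hy
    exact Ux_le V x a hy

lemma iSup_preU (hcov : iSup V = ⊤) : iSup (preU f V) = ⊤ := by
  apply top_le_iff.1
  intro y _
  have h1 : f y ∈ iSup V := by rw [hcov]; trivial
  obtain ⟨j, hj⟩ := Opens.mem_iSup.1 h1
  exact Opens.mem_iSup.2 ⟨j, hj⟩

variable (F : CohTop.Ab X)

/-- the terms of the two Čech complexes agree -/
noncomputable def termIso (n : ℕ) (x : Fin (n + 1) → ι) :
    F.obj.obj (op (Ux (preU f V) x)) ≅ ((CohTop.push f).obj F).obj.obj (op (Ux V x)) :=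
  F.obj.mapIso (eqToIso (Ux_preU_eq f V x)).symm.op

lemma termIso_hom (n : ℕ) (x : Fin (n + 1) → ι) :
    (termIso f V F n x).hom =
      F.obj.map (homOfLE (Ux_preU_eq f V x).ge).op := by
  change F.obj.map _ = F.obj.map _
  congr 1

lemma termIso_face (n : ℕ) (x : Fin (n + 2) → ι) (i : Fin (n + 2)) :
    F.obj.map (face (preU f V) x i).op ≫ (termIso f V F (n + 1) x).hom =
      (termIso f V F n (x ∘ Fin.succAbove i)).hom ≫
        ((CohTop.push f).obj F).obj.map (face V x i).op := by
  rw [termIso_hom, termIso_hom]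
  change F.obj.map _ ≫ F.obj.map _ = F.obj.map _ ≫ F.obj.map ((Opens.map f).map (face V x i)).op
  rw [← F.obj.map_comp, ← F.obj.map_comp]
  congr 1

lemma termIso_nat (ψ : F ⟶ F) (n : ℕ) (x : Fin (n + 1) → ι) :
    ψ.hom.app (op (Ux (preU f V) x)) ≫ (termIso f V F n x).hom =
      (termIso f V F n x).hom ≫ ((CohTop.push f).map ψ).hom.app (op (Ux V x)) := by
  rw [termIso_hom]
  exact (ψ.hom.naturality _).symm

/-- **cohomology along a map with acyclic covers, naturally in endomorphisms** -/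
theorem exists_top_natural (hcov : iSup V = ⊤) (hF : Leray F (preU f V))
    (hF' : Leray ((CohTop.push f).obj F) V) (p : ℕ) :
    ∃ E : CohTop.H F p ≃+ CohTop.H ((CohTop.push f).obj F) p,
      ∀ (ψ : F ⟶ F) (z : CohTop.H F p),
        E (Sheaf.H.map ψ p z) = Sheaf.H.map ((CohTop.push f).map ψ) p (E z) := by
  obtain ⟨eX, heX⟩ := exists_natural_top_family (X := X) (preU f V) (iSup_preU f V hcov) p
  obtain ⟨eY, heY⟩ := exists_natural_top_family (X := Y) V hcov p
  obtain ⟨EC, hEC⟩ := Groth.Agent.Lib.R2H2.PnLin.exists_homology_natural (preU f V) V F.obj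
    ((CohTop.push f).obj F).obj (termIso f V F) (termIso_face f V F) p
  refine ⟨(eX F hF).symm.trans (EC.trans (eY _ hF')), fun ψ z => ?_⟩
  obtain ⟨w, rfl⟩ := (eX F hF).surjective z
  have h1 := heX F F hF hF ψ w
  have h2 := hEC ψ.hom ((CohTop.push f).map ψ).hom (termIso_nat f V F ψ) w
  have h3 := heY _ _ hF' hF' ((CohTop.push f).map ψ) (EC w)
  change eY _ hF' (EC ((eX F hF).symm (Sheaf.H.map ψ p (eX F hF w)))) =
    Sheaf.H.map ((CohTop.push f).map ψ) p (eY _ hF' (EC ((eX F hF).symm (eX F hF w))))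
  rw [← h1, AddEquiv.symm_apply_apply, AddEquiv.symm_apply_apply, h2, h3]

end Top

section Scheme

open AlgebraicGeometry Groth.Agent.Lib.Helper23.AffVanish

variable {X Y : Scheme.{u}} (f : X ⟶ Y) [IsAffineHom f] {ι : Type u} (V : ι → Y.Opens)

lemma isAffineOpen_iInf_of_finset
    (hV : ∀ s : Finset ι, s.Nonempty → IsAffineOpen (⨅ i ∈ s, V i)) (p : ℕ)
    (a : Fin (p + 1) → ι) : IsAffineOpen (iInf fun k => V (a k)) := by
  classical
  have := hV (Finset.image a Finset.univ) (Finset.image_nonempty.2 Finset.univ_nonempty)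
  have e : (⨅ i ∈ Finset.image a Finset.univ, V i) = iInf fun k => V (a k) := by
    apply le_antisymm
    · refine le_iInf fun k => ?_
      exact iInf₂_le (a k) (Finset.mem_image.2 ⟨k, Finset.mem_univ k, rfl⟩)
    · refine le_iInf₂ fun i hi => ?_
      obtain ⟨k, -, rfl⟩ := Finset.mem_image.1 hi
      exact iInf_le _ k
  rwa [e] at this

/-- **`H^p(X, M) ≃+ H^p(Y, f_* M)` for `f` affine, compatibly with endomorphisms** -/
theorem exists_push_natural (hcov : ⨆ i, V i = ⊤)
    (hV : ∀ (p : ℕ) (a : Fin (p + 1) → ι), IsAffineOpen (iInf fun k => V (a k)))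
    (M : X.Modules) (hM : Coh.IsQCoh M) (p : ℕ) :
    ∃ E : Coh.HH X M p ≃+ Coh.HH Y ((Scheme.Modules.pushforward f).obj M) p,
      ∀ (ψ : Coh.toAb M ⟶ Coh.toAb M) (z : Coh.HH X M p),
        E (Sheaf.H.map ψ p z) = Sheaf.H.map ((CohTop.push f.base).map ψ) p (E z) := by
  haveI : M.IsQuasicoherent := hM
  haveI : ((Scheme.Modules.pushforward f).obj M).IsQuasicoherent :=
    Groth.Agent.Lib.Helper23.QCohLocal.isQuasicoherent_pushforward f M
  have hF : Leray (ab' M) (preU f.base V) := by
    intro p a q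
    have haff : IsAffineOpen (f ⁻¹ᵁ (iInf fun k => V (a k))) := (hV p a).preimage f
    have e : (iInf fun k => preU f.base V (a k)) = f ⁻¹ᵁ (iInf fun k => V (a k)) := by
      apply Opens.ext
      rw [Opens.coe_iInf]
      change _ = f.base ⁻¹' ((iInf fun k => V (a k) : Y.Opens) : Set Y)
      rw [Opens.coe_iInf, Set.preimage_iInter]
      rfl
    rw [e]
    exact subsingleton_HE_of_isAffineOpen haff M q
  have hF' : Leray ((CohTop.push f.base).obj (ab' M)) V := by
    intro p a q
    exact subsingleton_HE_of_isAffineOpen (hV p a) ((Scheme.Modules.pushforward f).obj M) q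
  exact exists_top_natural f.base V (ab' M) hcov hF hF' p

/-- multiplication by a global function on `f_* M` is the pushforward of multiplication by its
pullback -/
lemma smulAb_push (M : X.Modules) (r : Coh.Γtop Y) :
    Coh.smulAb ((Scheme.Modules.pushforward f).obj M) r =
      (CohTop.push f.base).map (Coh.smulAb M ((f.appTop).hom r)) := by
  apply Sheaf.hom_ext
  ext U m
  change Coh.resTop Y U r • (show ((Scheme.Modules.pushforward f).obj M).val.obj U from m) = _
  have h1 : (Coh.smulAb M ((f.appTop).hom r)).hom.app (op (f ⁻¹ᵁ U.unop)) m =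
      @HSMul.hSMul (X.ringCatSheaf.obj.obj (op (f ⁻¹ᵁ U.unop))) (M.val.obj (op (f ⁻¹ᵁ U.unop)))
        (M.val.obj (op (f ⁻¹ᵁ U.unop))) _
        (Coh.resTop X (op (f ⁻¹ᵁ U.unop)) ((f.appTop).hom r)) m := rfl
  refine Eq.trans ?_ h1.symm
  have h2 : Coh.resTop X (op (f ⁻¹ᵁ U.unop)) ((f.appTop).hom r) =
      (f.app U.unop).hom (Coh.resTop Y U r) := by
    have := f.naturality (homOfLE (le_top (a := U.unop))).op
    exact (ConcreteCategory.congr_hom this r).symm
  rw [h2]
  rfl

variable (A : Type u) [CommRing A] [X.Over (Spec (CommRingCat.of A))]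
  [Y.Over (Spec (CommRingCat.of A))]

/-- **`H^p(X, M) ≃ₗ[A] H^p(Y, f_* M)`** for an affine morphism of `A`-schemes -/
theorem exists_push_linear (hf : f ≫ (Y ↘ Spec (CommRingCat.of A)) = X ↘ Spec (CommRingCat.of A))
    (hcov : ⨆ i, V i = ⊤)
    (hV : ∀ (p : ℕ) (a : Fin (p + 1) → ι), IsAffineOpen (iInf fun k => V (a k)))
    (M : X.Modules) (hM : Coh.IsQCoh M) (p : ℕ) :
    Nonempty (Coh.HH X M p ≃ₗ[A] Coh.HH Y ((Scheme.Modules.pushforward f).obj M) p) := by
  obtain ⟨E, hE⟩ := exists_push_natural f V hcov hV M hM p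
  refine ⟨{ E with map_smul' := fun r z => ?_ }⟩
  change E (Sheaf.H.map (Coh.smulAb M (Coh.toGlobal (X ↘ Spec (CommRingCat.of A)) r)) p z) =
    Sheaf.H.map (Coh.smulAb ((Scheme.Modules.pushforward f).obj M)
      (Coh.toGlobal (Y ↘ Spec (CommRingCat.of A)) r)) p (E z)
  have h1 : (f.appTop).hom (Coh.toGlobal (Y ↘ Spec (CommRingCat.of A)) r) =
      Coh.toGlobal (X ↘ Spec (CommRingCat.of A)) r := by
    rw [← hf]
    simp only [Coh.toGlobal, Scheme.Hom.comp_appTop, CommRingCat.hom_comp]
    rfl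
  rw [hE, smulAb_push, h1]
  rfl

end Scheme

end Groth.Agent.Lib.R2H2.AffPushLin
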