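import Groth.Agent.Lib.R2H2CechCmp
import Groth.Agent.S0013

/-!
# Cohomology of a union of opens with affine finite intersections (helper2, round 2)

For a family `W i` of opens of a scheme `X` all of whose nonempty finite intersections are affine, and a
quasi-coherent module `F`: `H^q(⋃ W i, F) ≃+` the `q`-th Čech cohomology of `F` for the family `W`.
-/

set_option autoImplicit false
set_option linter.unusedSectionVars false
universe u

namespace Groth.Agent.Lib.R2H2.CechOpens

open CategoryTheory CategoryTheory.Limits AlgebraicGeometry TopologicalSpace Opposite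
open Groth.Agent.Lib.Helper16.CechLow Groth.Agent.Lib.R2H2.CechCmp

variable {X : Scheme.{u}} {ι : Type u} (W : ι → X.Opens)

/-- the union -/
abbrev UU : X.Opens := ⨆ i, W i

lemma le_UU (i : ι) : W i ≤ UU W := le_iSup W i

/-- the covering of the scheme `U` -/
noncomputable def VV : ι → (UU W).toScheme.Opens := fun i => (UU W).ι ⁻¹ᵁ W i

theorem iSup_VV : ⨆ i, VV W i = ⊤ := by
  have h1 : ⨆ i, VV W i = (UU W).ι ⁻¹ᵁ (⨆ i, W i) :=
    (Scheme.Hom.preimage_iSup (UU W).ι W).symm
  rw [h1]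
  exact Scheme.Opens.ι_preimage_self (UU W)

lemma Ux_le {n : ℕ} (x : Fin (n + 1) → ι) (k : Fin (n + 1)) : Ux W x ≤ W (x k) :=
  leOfHom (Pi.π (W ∘ x) k)

lemma le_Ux {n : ℕ} (x : Fin (n + 1) → ι) (V : X.Opens) (h : ∀ k, V ≤ W (x k)) : V ≤ Ux W x :=
  leOfHom (Pi.lift (fun k => homOfLE (h k)))

theorem isAffineOpen_biInf_VV
    (haff : ∀ s : Finset ι, s.Nonempty → IsAffineOpen (⨅ i ∈ s, W i))
    (s : Finset ι) (hs : s.Nonempty) : IsAffineOpen (⨅ i ∈ s, VV W i) := by
  classical
  have h1 : ∀ t : Finset ι, (⨅ i ∈ t, VV W i) = (UU W).ι ⁻¹ᵁ (⨅ i ∈ t, W i) := by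
    intro t
    induction t using Finset.induction_on with
    | empty => simp
    | insert a t _ ih =>
      rw [Finset.iInf_insert, Finset.iInf_insert, ih, Scheme.Hom.preimage_inf]
      rfl
  rw [h1]
  refine (haff s hs).preimage_of_isOpenImmersion (UU W).ι ?_
  rw [Scheme.Opens.opensRange_ι]
  obtain ⟨i, hi⟩ := hs
  exact (iInf₂_le i hi).trans (le_UU W i)

lemma UxV_eq_preimage {n : ℕ} (x : Fin (n + 1) → ι) :
    Ux (VV W) x = (UU W).ι ⁻¹ᵁ (Ux W x) := by
  apply le_antisymm
  · have h1 : (UU W).ι ''ᵁ (Ux (VV W) x) ≤ Ux W x := by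
      apply le_Ux
      intro k
      have h2 : Ux (VV W) x ≤ VV W (x k) := Ux_le (VV W) x k
      exact ((UU W).ι.image_mono h2).trans ((UU W).ι.image_preimage_le _)
    have h3 := (UU W).ι.preimage_mono h1
    rw [Scheme.Hom.preimage_image_eq] at h3
    exact h3
  · refine le_Ux (VV W) x _ (fun k => ?_)
    exact (UU W).ι.preimage_mono (Ux_le W x k)

lemma image_UxV {n : ℕ} (x : Fin (n + 1) → ι) :
    (UU W).ι ''ᵁ (Ux (VV W) x) = Ux W x := by
  rw [UxV_eq_preimage, Scheme.Hom.image_preimage_eq_opensRange_inf, Scheme.Opens.opensRange_ι]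
  exact inf_eq_right.mpr ((Ux_le W x 0).trans (le_UU W (x 0)))

variable (F : X.Modules)

/-- the termwise comparison -/
noncomputable def eU (n : ℕ) (x : Fin (n + 1) → ι) :
    (F.restrict (UU W).ι).presheaf.obj (op (Ux (VV W) x)) ≅ F.presheaf.obj (op (Ux W x)) :=
  F.presheaf.mapIso (eqToIso (congrArg op (image_UxV W x)))

lemma eU_comm (n : ℕ) (x : Fin (n + 2) → ι) (i : Fin (n + 2)) :
    (F.restrict (UU W).ι).presheaf.map (face (VV W) x i).op ≫ (eU W F (n + 1) x).hom =
      (eU W F n (x ∘ Fin.succAbove i)).hom ≫ F.presheaf.map (face W x i).op := by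
  change F.presheaf.map ((UU W).ι.opensFunctor.map (face (VV W) x i)).op ≫
      F.presheaf.map (eqToHom (congrArg op (image_UxV W x))) =
    F.presheaf.map (eqToHom (congrArg op (image_UxV W (x ∘ Fin.succAbove i)))) ≫
      F.presheaf.map (face W x i).op
  rw [← Functor.map_comp, ← Functor.map_comp]
  congr 1

/-- **cohomology of the union is Čech cohomology of the family** -/
theorem nonempty_HHon_addEquiv
    (haff : ∀ s : Finset ι, s.Nonempty → IsAffineOpen (⨅ i ∈ s, W i))
    [F.IsQuasicoherent] (q : ℕ) :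
    Nonempty (Coh.HHon X F (⨆ i, W i) q ≃+ ((CK W F.presheaf).homology q : AddCommGrpCat.{u})) := by
  have : (F.restrict (UU W).ι).IsQuasicoherent :=
    Scheme.Modules.isQuasicoherent_restrictFunctor _ F
  obtain ⟨e1⟩ := Groth.Agent.S0013.result (UU W).toScheme (VV W) (iSup_VV W)
    (isAffineOpen_biInf_VV W haff) (F.restrict (UU W).ι) q
  obtain ⟨e2⟩ := nonempty_homology_addEquiv (VV W) W (F.restrict (UU W).ι).presheaf F.presheaf
    (eU W F) (eU_comm W F) q
  exact ⟨e1.symm.trans e2⟩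

end Groth.Agent.Lib.R2H2.CechOpens
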