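import Groth.Agent.Lib.R2H2LocPsh

/-!
# The algebraic Čech complex of localizations: degree zero and acyclic modules (helper2, round 2)

For the Čech complex `CN fs N` of the localization presheaf of an `A`-module `N` with respect to
`f_1, …, f_r`:
* `Zc fs N`, the `A`-module of `0`-cocycles, `rhoZ : N → Zc fs N`, `thetaZ : Zc fs N ≃ H^0`;
* the four properties of `rhoZ` needed for `KoszulLow.koszulHLim_one`;
* `GoodC`: modules with vanishing higher Čech cohomology and `rhoZ` surjective; modules on which some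
  `f_i` is bijective are good, and the class is closed under extensions.
-/

set_option autoImplicit false
universe u

namespace Groth.Agent.Lib.R2H2.LocCech

open CategoryTheory CategoryTheory.Limits Opposite
open Groth.Agent.Lib.Helper16.CechLow Groth.Agent.Lib.R2H2.LocPsh Groth.Agent.Lib.R2H2.CechCmp

section H0

variable (K : CochainComplex AddCommGrpCat.{u} ℕ) {L : CochainComplex AddCommGrpCat.{u} ℕ}

lemma next0 : (ComplexShape.up ℕ).next 0 = 1 := by
  rw [CochainComplex.next]
  exact zero_add 1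

/-- cocycles of degree `0` to the categorical cycles -/
noncomputable def toCyc0 : AddMonoidHom.ker (K.d 0 1).hom →+ K.cycles 0 :=
  (K.liftCycles (AddCommGrpCat.ofHom (AddMonoidHom.ker (K.d 0 1).hom).subtype) 1 next0
    (by ext x; exact x.2)).hom

lemma iCycles_toCyc0 (z : AddMonoidHom.ker (K.d 0 1).hom) :
    (K.iCycles 0).hom (toCyc0 K z) = z.1 := by
  have := K.liftCycles_i (AddCommGrpCat.ofHom (AddMonoidHom.ker (K.d 0 1).hom).subtype) 1 next0
    (by ext x; exact x.2)
  exact ConcreteCategory.congr_hom this z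

lemma iCycles0_injective : Function.Injective (K.iCycles 0).hom :=
  (AddCommGrpCat.mono_iff_injective _).mp inferInstance

lemma toCyc0_bijective : Function.Bijective (toCyc0 K) := by
  constructor
  · intro z z' h
    apply Subtype.ext
    rw [← iCycles_toCyc0 K z, ← iCycles_toCyc0 K z', h]
  · intro c
    have hc : (K.d 0 1).hom ((K.iCycles 0).hom c) = 0 := by
      have := K.iCycles_d 0 1
      exact ConcreteCategory.congr_hom this c
    refine ⟨⟨(K.iCycles 0).hom c, hc⟩, ?_⟩
    apply iCycles0_injective K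
    rw [iCycles_toCyc0]

/-- the cohomology class of a `0`-cocycle -/
noncomputable def cls0 : AddMonoidHom.ker (K.d 0 1).hom →+ K.homology 0 :=
  (K.homologyπ 0).hom.comp (toCyc0 K)

lemma cls0_bijective : Function.Bijective (cls0 K) := by
  have h0 : IsIso (K.homologyπ 0) :=
    K.isIso_homologyπ 0 0 (by simp) (K.shape 0 0 (by simp))
  have h1 : Function.Bijective (K.homologyπ 0).hom := ConcreteCategory.bijective_of_isIso _
  exact h1.comp (toCyc0_bijective K)

variable {K}

lemma map_mem_ker0 (φ : K ⟶ L) (z : AddMonoidHom.ker (K.d 0 1).hom) :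
    (φ.f 0).hom z.1 ∈ AddMonoidHom.ker (L.d 0 1).hom := by
  rw [AddMonoidHom.mem_ker]
  have h := φ.comm 0 1
  have h2 : (L.d 0 1).hom ((φ.f 0).hom z.1) = (φ.f 1).hom ((K.d 0 1).hom z.1) :=
    ConcreteCategory.congr_hom h z.1
  rw [h2, z.2, map_zero]

lemma homologyMap_cls0 (φ : K ⟶ L) (z : AddMonoidHom.ker (K.d 0 1).hom) :
    (HomologicalComplex.homologyMap φ 0).hom (cls0 K z) =
      cls0 L ⟨(φ.f 0).hom z.1, map_mem_ker0 φ z⟩ := by
  have h1 := HomologicalComplex.homologyπ_naturality φ 0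
  have h2 : (HomologicalComplex.homologyMap φ 0).hom ((K.homologyπ 0).hom (toCyc0 K z)) =
      (L.homologyπ 0).hom ((HomologicalComplex.cyclesMap φ 0).hom (toCyc0 K z)) :=
    ConcreteCategory.congr_hom h1 (toCyc0 K z)
  change (HomologicalComplex.homologyMap φ 0).hom ((K.homologyπ 0).hom (toCyc0 K z)) =
    (L.homologyπ 0).hom (toCyc0 L ⟨(φ.f 0).hom z.1, map_mem_ker0 φ z⟩)
  rw [h2]
  congr 1
  apply iCycles0_injective L
  rw [iCycles_toCyc0]
  have h3 := HomologicalComplex.cyclesMap_i φ 0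
  have h4 : (L.iCycles 0).hom ((HomologicalComplex.cyclesMap φ 0).hom (toCyc0 K z)) =
      (φ.f 0).hom ((K.iCycles 0).hom (toCyc0 K z)) := ConcreteCategory.congr_hom h3 (toCyc0 K z)
  rw [h4, iCycles_toCyc0]

end H0

variable {A : Type u} [CommRing A] (fs : List A)

section Zc

variable (N : Type u) [AddCommGroup N] [Module A N]

lemma fam_transport {n : ℕ} (z : ∀ x : Fin (n + 1) → Idx fs, LocalizedModule (SS fs x) N)
    {x x' : Fin (n + 1) → Idx fs} (h : x = x') :
    z x' = locMap N (le_of_eq (congrArg (SS fs) h)) (z x) := by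
  subst h
  rw [locMap_refl]
  rfl

/-- the module of `0`-cocycles -/
def Zc : Submodule A (∀ x : Fin 1 → Idx fs, LocalizedModule (SS fs x) N) where
  carrier := {z | ∀ y : Fin 2 → Idx fs,
    locMap N (SS_face_le fs y 0) (z (y ∘ Fin.succAbove 0)) =
      locMap N (SS_face_le fs y 1) (z (y ∘ Fin.succAbove 1))}
  add_mem' := by
    intro z z' hz hz' y
    simp only [Pi.add_apply, map_add]
    rw [hz y, hz' y]
  zero_mem' := by
    intro y
    simp only [Pi.zero_apply, map_zero]
  smul_mem' := by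
    intro a z hz y
    simp only [Pi.smul_apply, map_smul]
    rw [hz y]

lemma Zc_cond (z : Zc fs N) (y : Fin 2 → Idx fs) :
    locMap N (SS_face_le fs y 0) (z.1 (y ∘ Fin.succAbove 0)) =
      locMap N (SS_face_le fs y 1) (z.1 (y ∘ Fin.succAbove 1)) := z.2 y

/-- the canonical map to the `0`-cocycles -/
noncomputable def rhoZ : N →ₗ[A] Zc fs N :=
  LinearMap.codRestrict (Zc fs N)
    (LinearMap.pi (fun x => LocalizedModule.mkLinearMap (SS fs x) N)) (by
      intro n y
      change locMap N _ (LocalizedModule.mkLinearMap _ N n) =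
        locMap N _ (LocalizedModule.mkLinearMap _ N n)
      rw [LocalizedModule.mkLinearMap_apply, LocalizedModule.mkLinearMap_apply, locMap_mk,
        locMap_mk]
      rfl)

lemma rhoZ_apply (n : N) (x : Fin 1 → Idx fs) :
    (rhoZ fs N n).1 x = LocalizedModule.mk n 1 := rfl

lemma mkElt_add {n : ℕ} (z z' : ∀ x : Fin (n + 1) → Idx fs, LocalizedModule (SS fs x) N) :
    mkElt (fam fs) (psh (A := A) N) n (z + z') =
      mkElt (fam fs) (psh (A := A) N) n z + mkElt (fam fs) (psh (A := A) N) n z' := by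
  apply elt_ext (fam fs) (psh (A := A) N) n
  intro x
  rw [map_add, pr_mkElt, pr_mkElt, pr_mkElt]
  rfl

lemma d_mkElt_eq_zero (z : Zc fs N) :
    ((CN fs N).d 0 1).hom (mkElt (fam fs) (psh (A := A) N) 0 z.1) = 0 := by
  apply elt_ext (fam fs) (psh (A := A) N) 1
  intro y
  have h := d_pr_apply (fam fs) (psh (A := A) N) 0 y (mkElt (fam fs) (psh (A := A) N) 0 z.1)
  rw [Fin.sum_univ_two, pr_mkElt, pr_mkElt, psh_face_apply, psh_face_apply, Zc_cond] at h
  rw [map_zero]
  refine h.trans ?_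
  simp

/-- cocycles as elements of the Čech complex -/
noncomputable def toCoc : Zc fs N →+ AddMonoidHom.ker ((CN fs N).d 0 1).hom where
  toFun z := ⟨mkElt (fam fs) (psh (A := A) N) 0 z.1, d_mkElt_eq_zero fs N z⟩
  map_zero' := by
    apply Subtype.ext
    apply elt_ext (fam fs) (psh (A := A) N) 0
    intro x
    change pr _ _ 0 x (mkElt (fam fs) (psh (A := A) N) 0
      (0 : ∀ x : Fin 1 → Idx fs, LocalizedModule (SS fs x) N)) = pr _ _ 0 x 0
    rw [pr_mkElt, map_zero]
    rfl
  map_add' z z' := by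
    apply Subtype.ext
    exact mkElt_add fs N z.1 z'.1

lemma toCoc_val (z : Zc fs N) : (toCoc fs N z).1 = mkElt (fam fs) (psh (A := A) N) 0 z.1 := rfl

lemma toCoc_bijective : Function.Bijective (toCoc fs N) := by
  constructor
  · intro z z' h
    apply Subtype.ext
    funext x
    have h1 : mkElt (fam fs) (psh (A := A) N) 0 z.1 = mkElt (fam fs) (psh (A := A) N) 0 z'.1 :=
      congrArg Subtype.val h
    have h2 := congrArg (pr (fam fs) (psh (A := A) N) 0 x) h1
    rw [pr_mkElt, pr_mkElt] at h2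
    exact h2
  · rintro ⟨c, hc⟩
    have hc' : ((CN fs N).d 0 1).hom c = 0 := hc
    let z : ∀ x : Fin 1 → Idx fs, LocalizedModule (SS fs x) N :=
      fun x => pr (fam fs) (psh (A := A) N) 0 x c
    have hz : z ∈ Zc fs N := by
      intro y
      have h := d_pr_apply (fam fs) (psh (A := A) N) 0 y c
      rw [hc', map_zero, Fin.sum_univ_two, psh_face_apply, psh_face_apply, Fin.val_zero,
        Fin.val_one, pow_zero, pow_one, one_smul, neg_smul, one_smul] at h
      have h2 : locMap N (SS_face_le fs y 0) (z (y ∘ Fin.succAbove 0)) -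
          locMap N (SS_face_le fs y 1) (z (y ∘ Fin.succAbove 1)) = 0 := by
        rw [sub_eq_add_neg]
        exact h.symm
      exact sub_eq_zero.mp h2
    refine ⟨⟨z, hz⟩, ?_⟩
    apply Subtype.ext
    apply elt_ext (fam fs) (psh (A := A) N) 0
    intro x
    rw [toCoc_val, pr_mkElt]

/-- the identification of the `0`-cocycles with `H^0` -/
noncomputable def thetaZ : Zc fs N →+ (CN fs N).homology 0 :=
  (cls0 (CN fs N)).comp (toCoc fs N)

lemma thetaZ_bijective : Function.Bijective (thetaZ fs N) :=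
  (cls0_bijective (CN fs N)).comp (toCoc_bijective fs N)

end Zc

section ZcMap

variable {N N' : Type u} [AddCommGroup N] [Module A N] [AddCommGroup N'] [Module A N']

/-- functoriality of the cocycles -/
noncomputable def ZcMap (g : N →ₗ[A] N') : Zc fs N →ₗ[A] Zc fs N' :=
  LinearMap.codRestrict (Zc fs N')
    ((LinearMap.pi (fun x => (nMap (SS fs x) g) ∘ₗ LinearMap.proj x)) ∘ₗ (Zc fs N).subtype) (by
      intro z y
      change locMap N' _ (nMap _ g (z.1 _)) = locMap N' _ (nMap _ g (z.1 _))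
      rw [← nMap_locMap, ← nMap_locMap, Zc_cond])

lemma ZcMap_apply (g : N →ₗ[A] N') (z : Zc fs N) (x : Fin 1 → Idx fs) :
    (ZcMap fs g z).1 x = nMap (SS fs x) g (z.1 x) := rfl

lemma ZcMap_rhoZ (g : N →ₗ[A] N') (n : N) : ZcMap fs g (rhoZ fs N n) = rhoZ fs N' (g n) := by
  apply Subtype.ext
  funext x
  rw [ZcMap_apply, rhoZ_apply, rhoZ_apply, nMap_mk]

/-- the map of Čech complexes induced by a linear map -/
noncomputable abbrev cechMap (g : N →ₗ[A] N') : CN fs N ⟶ CN fs N' :=
  (cechComplexFunctor (fam fs)).map (pshMap (A := A) g)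

lemma homologyMap_thetaZ (g : N →ₗ[A] N') (z : Zc fs N) :
    (HomologicalComplex.homologyMap (cechMap fs g) 0).hom (thetaZ fs N z) =
      thetaZ fs N' (ZcMap fs g z) := by
  change (HomologicalComplex.homologyMap (cechMap fs g) 0).hom (cls0 (CN fs N) (toCoc fs N z)) =
    cls0 (CN fs N') (toCoc fs N' (ZcMap fs g z))
  rw [homologyMap_cls0]
  congr 1
  apply Subtype.ext
  change ((cechMap fs g).f 0).hom (mkElt (fam fs) (psh (A := A) N) 0 z.1) =
    mkElt (fam fs) (psh (A := A) N') 0 (ZcMap fs g z).1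
  apply elt_ext (fam fs) (psh (A := A) N') 0
  intro x
  rw [pr_mkElt]
  have h := map_pr_apply (fam fs) (pshMap (A := A) g) 0 x (mkElt (fam fs) (psh (A := A) N) 0 z.1)
  rw [pr_mkElt] at h
  exact h

end ZcMap


section Props

variable (N : Type u) [AddCommGroup N] [Module A N]

lemma SS_one_le (x : Fin 1 → Idx fs) : SS fs x ≤ Submonoid.powers (fs.get (x 0).down) := by
  apply SS_le
  intro k
  obtain ⟨kv, hk⟩ := k
  have : kv = 0 := by omega
  subst this
  exact Submonoid.mem_powers _

theorem rhoZ_eq_zero_iff (m : N) :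
    rhoZ fs N m = 0 ↔ ∀ i : Fin fs.length, ∃ n : ℕ, fs.get i ^ n • m = 0 := by
  constructor
  · intro h i
    let x : Fin 1 → Idx fs := fun _ => ⟨i⟩
    have h1 : (rhoZ fs N m).1 x = 0 := by rw [h]; rfl
    rw [rhoZ_apply, mk_eq_zero_iff] at h1
    obtain ⟨t, ht⟩ := h1
    have h2 : t.1 ∈ Submonoid.powers (fs.get i) := SS_one_le fs x t.2
    obtain ⟨n, hn⟩ := (Submonoid.mem_powers_iff _ _).mp h2
    refine ⟨n, ?_⟩
    rw [hn]
    exact ht
  · intro h
    apply Subtype.ext
    funext x
    obtain ⟨n, hn⟩ := h (x 0).down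
    rw [rhoZ_apply]
    exact mk_eq_zero_of_smul _ m 1 _ (pow_mem (get_mem_SS fs x 0) n) hn

theorem Zc_eq_zero_of_tors (z : Zc fs N)
    (h : ∀ i : Fin fs.length, ∃ n : ℕ, fs.get i ^ n • z = 0) : z = 0 := by
  apply Subtype.ext
  funext x
  obtain ⟨n, hn⟩ := h (x 0).down
  have h1 : fs.get (x 0).down ^ n • z.1 x = 0 := congrFun (congrArg Subtype.val hn) x
  have h2 := (le_bijSub_localized (N := N) (SS fs x) (pow_mem (get_mem_SS fs x 0) n)).1
  apply h2
  change fs.get (x 0).down ^ n • z.1 x = fs.get (x 0).down ^ n • (0 : Zc fs N).1 x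
  rw [h1]
  exact (smul_zero _).symm

lemma exists_mk_eq {T : Submonoid A} (w : LocalizedModule T N) :
    ∃ (m : N) (s : T), w = LocalizedModule.mk m s := by
  induction w with | _ m s
  exact ⟨m, s, rfl⟩

/-- the cocycle condition comparing the component at `x` with the component at the index `i` -/
lemma Zc_pair (z : Zc fs N) (x : Fin 1 → Idx fs) (i : Fin fs.length) :
    ∃ (T : Submonoid A) (h1 : SS fs x ≤ T) (h0 : SS fs (fun _ : Fin 1 => (⟨i⟩ : Idx fs)) ≤ T),
      T ≤ SS fs x ⊔ Submonoid.powers (fs.get i) ∧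
      locMap N h0 (z.1 (fun _ => ⟨i⟩)) = locMap N h1 (z.1 x) := by
  let xi : Fin 1 → Idx fs := fun _ => ⟨i⟩
  let y : Fin 2 → Idx fs := ![x 0, ⟨i⟩]
  have hx1 : x = y ∘ Fin.succAbove 1 := by
    funext k
    have : k = 0 := Subsingleton.elim _ _
    subst this
    rfl
  have hx0 : xi = y ∘ Fin.succAbove 0 := by
    funext k
    have : k = 0 := Subsingleton.elim _ _
    subst this
    rfl
  have hle1 : SS fs x ≤ SS fs y := (le_of_eq (congrArg (SS fs) hx1)).trans (SS_face_le fs y 1)
  have hle0 : SS fs xi ≤ SS fs y := (le_of_eq (congrArg (SS fs) hx0)).trans (SS_face_le fs y 0)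
  refine ⟨SS fs y, hle1, hle0, ?_, ?_⟩
  · apply SS_le
    intro k
    refine Fin.cases ?_ (fun k' => ?_) k
    · exact Submonoid.mem_sup_left (get_mem_SS fs x 0)
    · have : k' = 0 := Subsingleton.elim _ _
      subst this
      exact Submonoid.mem_sup_right (Submonoid.mem_powers _)
  · have e0 : locMap N (SS_face_le fs y 0) (z.1 (y ∘ Fin.succAbove 0)) =
        locMap N hle0 (z.1 xi) := by
      rw [fam_transport fs N z.1 hx0]
      exact LinearMap.congr_fun (locMap_trans N (le_of_eq (congrArg (SS fs) hx0))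
        (SS_face_le fs y 0)) _
    have e1 : locMap N (SS_face_le fs y 1) (z.1 (y ∘ Fin.succAbove 1)) =
        locMap N hle1 (z.1 x) := by
      rw [fam_transport fs N z.1 hx1]
      exact LinearMap.congr_fun (locMap_trans N (le_of_eq (congrArg (SS fs) hx1))
        (SS_face_le fs y 1)) _
    rw [← e0, ← e1]
    exact Zc_cond fs N z y

theorem exists_pow_smul_eq_rhoZ (z : Zc fs N) (i : Fin fs.length) :
    ∃ (n : ℕ) (m : N), fs.get i ^ n • z = rhoZ fs N m := by
  let xi : Fin 1 → Idx fs := fun _ => ⟨i⟩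
  obtain ⟨m, s, hms⟩ := exists_mk_eq N (z.1 xi)
  obtain ⟨a, ha⟩ := (Submonoid.mem_powers_iff _ _).mp (SS_one_le fs xi s.2)
  have ha' : fs.get i ^ a = s.1 := ha
  have h0 : fs.get i ^ a • z.1 xi = LocalizedModule.mk m 1 := by
    rw [hms, smul_mk', ha']
    exact LocalizedModule.mk_cancel s m
  have key : ∀ x : Fin 1 → Idx fs, ∃ c : ℕ,
      fs.get i ^ c • (fs.get i ^ a • z.1 x - LocalizedModule.mk m 1) = 0 := by
    intro x
    obtain ⟨T, hle1, hle0, hT, hc'⟩ := Zc_pair fs N z x i
    have hw : locMap N hle1 (fs.get i ^ a • z.1 x - LocalizedModule.mk m 1) = 0 := by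
      have e1 : locMap N hle1 (fs.get i ^ a • z.1 x) = locMap N hle0 (fs.get i ^ a • z.1 xi) := by
        rw [map_smul, map_smul, hc']
      rw [map_sub, e1, h0, locMap_mk, locMap_mk]
      exact sub_self _
    obtain ⟨t', ht', h1⟩ := locMap_eq_zero hle1 _ hw
    obtain ⟨t, ht, p, hp, htp⟩ := Submonoid.mem_sup.mp (hT ht')
    obtain ⟨c, hc2⟩ := (Submonoid.mem_powers_iff _ _).mp hp
    refine ⟨c, ?_⟩
    have h2 := (le_bijSub_localized (N := N) (SS fs x) ht).1
    apply h2
    change t • (fs.get i ^ c • (fs.get i ^ a • z.1 x - LocalizedModule.mk m 1)) = t • 0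
    rw [smul_zero, smul_smul, hc2, htp]
    exact h1
  obtain ⟨c, hc⟩ := KoszulLow.exists_uniform (fun (x : Fin 1 → Idx fs) c =>
      fs.get i ^ c • (fs.get i ^ a • z.1 x - LocalizedModule.mk m 1) = 0)
    (fun x n n' hn h => KoszulLow.pow_smul_eq_zero_of_le hn h) key
  refine ⟨c + a, fs.get i ^ c • m, ?_⟩
  apply Subtype.ext
  funext x
  have h3 := hc x
  rw [smul_sub, sub_eq_zero, smul_smul, ← pow_add, smul_mk'] at h3
  exact h3

theorem exists_glue_Zc (n : ℕ) (u : Fin fs.length → N)
    (hu : ∀ i j, fs.get i ^ n • u j = fs.get j ^ n • u i) :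
    ∃ z : Zc fs N, ∀ i, fs.get i ^ n • z = rhoZ fs N (u i) := by
  let z : ∀ x : Fin 1 → Idx fs, LocalizedModule (SS fs x) N := fun x =>
    LocalizedModule.mk (u (x 0).down) ⟨fs.get (x 0).down ^ n, pow_mem (get_mem_SS fs x 0) n⟩
  have hz : z ∈ Zc fs N := by
    intro y
    change locMap N (SS_face_le fs y 0) (LocalizedModule.mk (u (y 1).down)
        ⟨fs.get (y 1).down ^ n, pow_mem (get_mem_SS fs (y ∘ Fin.succAbove 0) 0) n⟩) =
      locMap N (SS_face_le fs y 1) (LocalizedModule.mk (u (y 0).down)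
        ⟨fs.get (y 0).down ^ n, pow_mem (get_mem_SS fs (y ∘ Fin.succAbove 1) 0) n⟩)
    rw [locMap_mk, locMap_mk, LocalizedModule.mk_eq]
    refine ⟨1, ?_⟩
    rw [one_smul, one_smul]
    exact hu (y 0).down (y 1).down
  refine ⟨⟨z, hz⟩, fun i => ?_⟩
  apply Subtype.ext
  funext x
  change fs.get i ^ n • LocalizedModule.mk (u (x 0).down)
    (⟨fs.get (x 0).down ^ n, pow_mem (get_mem_SS fs x 0) n⟩ : SS fs x) = LocalizedModule.mk (u i) 1
  rw [smul_mk', LocalizedModule.mk_eq]
  refine ⟨1, ?_⟩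
  rw [one_smul, one_smul, one_smul]
  exact hu i (x 0).down

end Props

section Good

variable (N : Type u) [AddCommGroup N] [Module A N]

/-- Čech-acyclic modules for which every `0`-cocycle comes from an element -/
structure GoodC : Prop where
  acyc : ∀ p : ℕ, 1 ≤ p → IsZero ((CN fs N).homology p)
  surj : Function.Surjective (rhoZ fs N)

theorem rhoZ_surjective_of_bij (i0 : Fin fs.length) (hf : fs.get i0 ∈ bijSub (A := A) N) :
    Function.Surjective (rhoZ fs N) := by
  intro z
  let x0 : Fin 1 → Idx fs := fun _ => ⟨i0⟩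
  have hS0 : SS fs x0 ≤ bijSub (A := A) N := SS_le fs x0 _ (fun k => hf)
  obtain ⟨n, hn⟩ := (mk_bijective_of (SS fs x0) hS0).2 (z.1 x0)
  refine ⟨n, ?_⟩
  apply Subtype.ext
  funext x
  rw [rhoZ_apply]
  obtain ⟨T, hle1, hle0, hT, hc'⟩ := Zc_pair fs N z x i0
  have hinj : Function.Injective (locMap N hle1) := by
    apply locMap_injective_of
    refine hT.trans (sup_le ?_ ?_)
    · exact le_bijSub_localized (SS fs x)
    · rw [Submonoid.powers_le]
      exact bijSub_le_localized (SS fs x) hf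
  apply hinj
  rw [← hc', ← hn, LocalizedModule.mkLinearMap_apply, locMap_mk, locMap_mk]
  rfl

section BlockA

variable (i0 : Fin fs.length)

/-- the family refined by the `i0`-th member -/
def famV : Idx fs → Sm A := fun j => fam fs j ⊓ fam fs ⟨i0⟩

lemma le_SV {n : ℕ} (V : Idx fs → Sm A) (x : Fin (n + 1) → Idx fs) (k : Fin (n + 1)) :
    OrderDual.ofDual (V (x k)) ≤ OrderDual.ofDual (Ux V x) :=
  OrderDual.ofDual_le_ofDual.mpr (leOfHom (Pi.π (V ∘ x) k))

lemma SV_le {n : ℕ} (V : Idx fs → Sm A) (x : Fin (n + 1) → Idx fs) (T : Submonoid A)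
    (hT : ∀ k, OrderDual.ofDual (V (x k)) ≤ T) : OrderDual.ofDual (Ux V x) ≤ T := by
  have h : ∀ k, OrderDual.toDual T ≤ V (x k) := fun k => hT k
  have h2 : OrderDual.toDual T ≤ Ux V x := leOfHom (Pi.lift (fun k => homOfLE (h k)))
  exact OrderDual.ofDual_le_ofDual.mpr h2

lemma SS_le_SV {n : ℕ} (x : Fin (n + 1) → Idx fs) :
    SS fs x ≤ OrderDual.ofDual (Ux (famV fs i0) x) := by
  apply SS_le
  intro k
  have h1 := le_SV fs (famV fs i0) x k
  have h2 : Submonoid.powers (fs.get (x k).down) ≤ OrderDual.ofDual (famV fs i0 (x k)) := by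
    change Submonoid.powers (fs.get (x k).down) ≤
      Submonoid.powers (fs.get (x k).down) ⊔ Submonoid.powers (fs.get i0)
    exact le_sup_left
  exact h1 (h2 (Submonoid.mem_powers _))

lemma SV_le_bij {n : ℕ} (x : Fin (n + 1) → Idx fs) (hf : fs.get i0 ∈ bijSub (A := A) N) :
    OrderDual.ofDual (Ux (famV fs i0) x) ≤ bijSub (A := A) (LocalizedModule (SS fs x) N) := by
  apply SV_le
  intro k
  change Submonoid.powers (fs.get (x k).down) ⊔ Submonoid.powers (fs.get i0) ≤ _
  refine sup_le ?_ ?_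
  · rw [Submonoid.powers_le]
    exact le_bijSub_localized (SS fs x) (get_mem_SS fs x k)
  · rw [Submonoid.powers_le]
    exact bijSub_le_localized (SS fs x) hf

/-- the termwise comparison with the refined family -/
noncomputable def eV (hf : fs.get i0 ∈ bijSub (A := A) N) (n : ℕ) (x : Fin (n + 1) → Idx fs) :
    (psh (A := A) N).obj (op (Ux (fam fs) x)) ≅ (psh (A := A) N).obj (op (Ux (famV fs i0) x)) :=
  (AddEquiv.ofBijective (locMap N (SS_le_SV fs i0 x)).toAddMonoidHom
    (locMap_bijective_of (SS_le_SV fs i0 x) (SV_le_bij fs N i0 x hf))).toAddCommGrpIso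

lemma eV_comm (hf : fs.get i0 ∈ bijSub (A := A) N) (n : ℕ) (x : Fin (n + 2) → Idx fs)
    (i : Fin (n + 2)) :
    (psh (A := A) N).map (face (fam fs) x i).op ≫ (eV fs N i0 hf (n + 1) x).hom =
      (eV fs N i0 hf n (x ∘ Fin.succAbove i)).hom ≫
        (psh (A := A) N).map (face (famV fs i0) x i).op := by
  ext s
  have hV : OrderDual.ofDual (Ux (famV fs i0) (x ∘ Fin.succAbove i)) ≤
      OrderDual.ofDual (Ux (famV fs i0) x) :=
    OrderDual.ofDual_le_ofDual.mpr (leOfHom (face (famV fs i0) x i))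
  change locMap N (SS_le_SV fs i0 x) (locMap N (SS_face_le fs x i) s) =
    locMap N hV (locMap N (SS_le_SV fs i0 (x ∘ Fin.succAbove i)) s)
  rw [← LinearMap.comp_apply, ← LinearMap.comp_apply, locMap_trans, locMap_trans]

theorem isZero_homology_of_bij (hf : fs.get i0 ∈ bijSub (A := A) N) (p : ℕ) (hp : 1 ≤ p) :
    IsZero ((CN fs N).homology p) := by
  have e := Groth.Agent.Lib.Helper16.Cech.cechHomotopyEquiv₀ (famV fs i0) (fam fs ⟨i0⟩)
    (fun j => homOfLE (inf_le_right : famV fs i0 j ≤ fam fs ⟨i0⟩)) ⟨i0⟩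
    (homOfLE (le_inf le_rfl le_rfl : fam fs ⟨i0⟩ ≤ famV fs i0 ⟨i0⟩)) (psh (A := A) N)
  have e' : HomotopyEquiv _ (CK (famV fs i0) (psh (A := A) N)) := e
  have h1 : IsZero ((CK (famV fs i0) (psh (A := A) N)).homology p) := by
    refine IsZero.of_iso ?_ (e'.toHomologyIso p).symm
    exact HomologicalComplex.isZero_single_obj_homology _ _ _ _ (by omega)
  exact IsZero.of_iso h1 ((HomologicalComplex.homologyFunctor _ _ p).mapIso
    (cechIso (fam fs) (famV fs i0) (psh (A := A) N) (psh (A := A) N) (eV fs N i0 hf)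
      (eV_comm fs N i0 hf)))

end BlockA

theorem GoodC.of_bij (i0 : Fin fs.length) (hf : fs.get i0 ∈ bijSub (A := A) N) : GoodC fs N where
  acyc p hp := isZero_homology_of_bij fs N i0 hf p hp
  surj := rhoZ_surjective_of_bij fs N i0 hf

theorem GoodC.of_subsingleton [Subsingleton N] : GoodC fs N where
  acyc p _ := isZero_homology_CN_of_isTors fs (fun _ _ => ⟨0, Subsingleton.elim _ _⟩) p
  surj _ := ⟨0, Subtype.ext (funext fun _ => Subsingleton.elim _ _)⟩

variable {N} {N' N'' : Type u} [AddCommGroup N'] [Module A N'] [AddCommGroup N''] [Module A N'']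

theorem GoodC.of_ses (a : N' →ₗ[A] N) (b : N →ₗ[A] N'') (ha : Function.Injective a)
    (hb : Function.Surjective b) (hab : Function.Exact a b) (h' : GoodC fs N')
    (h'' : GoodC fs N'') : GoodC fs N where
  acyc p hp := by
    have hS := cechSES_shortExact fs a b ha hb hab
    have hex := hS.homology_exact₂ p
    exact hex.isZero_of_both_zeros ((h'.acyc p hp).eq_of_src _ _) ((h''.acyc p hp).eq_of_tgt _ _)
  surj := by
    intro z
    obtain ⟨n'', hn''⟩ := h''.surj (ZcMap fs b z)
    obtain ⟨n, rfl⟩ := hb n''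
    let w : Zc fs N := z - rhoZ fs N n
    have hw : ZcMap fs b w = 0 := by rw [map_sub, ZcMap_rhoZ, hn'', sub_self]
    have hv : ∀ x : Fin 1 → Idx fs, ∃ v : LocalizedModule (SS fs x) N',
        nMap (SS fs x) a v = w.1 x := by
      intro x
      have h1 : nMap (SS fs x) b (w.1 x) = 0 := congrFun (congrArg Subtype.val hw) x
      exact ((nMap_exact (SS fs x) a b hab) (w.1 x)).mp h1
    choose v hv using hv
    have hvZ : v ∈ Zc fs N' := by
      intro y
      apply nMap_injective (SS fs y) a ha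
      rw [nMap_locMap, nMap_locMap, hv, hv]
      exact Zc_cond fs N w y
    obtain ⟨n', hn'⟩ := h'.surj ⟨v, hvZ⟩
    refine ⟨a n' + n, ?_⟩
    have h2 : ZcMap fs a ⟨v, hvZ⟩ = w := by
      apply Subtype.ext
      funext x
      exact hv x
    rw [map_add, ← ZcMap_rhoZ, hn', h2]
    exact sub_add_cancel z _

end Good

end Groth.Agent.Lib.R2H2.LocCech
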