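import Groth.Agent.Lib.R2H2Strand
import Groth.Agent.Lib.R2H2LocCech

/-!
# Strand subcomplexes of the Čech complex of localizations (helper2, round 2)

For a `ℤ`-graded module `N` (`ZGr`) and homogeneous `f_1, …, f_r`, the degree-`d` strands of the
localizations form a sub-presheaf `pshd G d` of `psh N`, whose Čech complex `CNd fs G d` is a retract
of `CN fs N`.  Short exact sequences of graded modules give short exact sequences of strand complexes.
-/

set_option autoImplicit false
set_option linter.unusedSectionVars false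
universe u

namespace Groth.Agent.Lib.R2H2.StrandCech

open CategoryTheory CategoryTheory.Limits Opposite
open Groth.Agent.Lib.Helper16.CechLow Groth.Agent.Lib.R2H2.LocPsh Groth.Agent.Lib.R2H2.CechCmp
  Groth.Agent.Lib.R2H2.Strand

/-- restriction of an additive map to subgroups -/
def resHom {G₁ G₂ : Type*} [AddCommGroup G₁] [AddCommGroup G₂] (φ : G₁ →+ G₂)
    (H₁ : AddSubgroup G₁) (H₂ : AddSubgroup G₂) (h : ∀ x ∈ H₁, φ x ∈ H₂) : H₁ →+ H₂ :=
  (φ.comp H₁.subtype).codRestrict H₂ (fun x => h x x.2)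

lemma resHom_coe {G₁ G₂ : Type*} [AddCommGroup G₁] [AddCommGroup G₂] (φ : G₁ →+ G₂)
    (H₁ : AddSubgroup G₁) (H₂ : AddSubgroup G₂) (h : ∀ x ∈ H₁, φ x ∈ H₂) (x : H₁) :
    ((resHom φ H₁ H₂ h x : H₂) : G₂) = φ x := rfl

variable {R A : Type u} [CommRing R] [CommRing A] [Algebra R A] {𝒜 : ℕ → Submodule R A}
  [GradedAlgebra 𝒜]

section Psh

variable {N : Type u} [AddCommGroup N] [Module A N] (G : ZGr 𝒜 N)

/-- the underlying fraction of an element of a strand -/
def sval {S : Submonoid A} {d : ℤ} (z : (AddCommGrpCat.of (strand G S d) : AddCommGrpCat.{u})) :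
    LocalizedModule S N := Subtype.val (p := fun w => w ∈ strand G S d) z

lemma sval_mem {S : Submonoid A} {d : ℤ}
    (z : (AddCommGrpCat.of (strand G S d) : AddCommGrpCat.{u})) : sval G z ∈ strand G S d :=
  Subtype.property (p := fun w => w ∈ strand G S d) z

lemma sval_ext {S : Submonoid A} {d : ℤ}
    (z z' : (AddCommGrpCat.of (strand G S d) : AddCommGrpCat.{u})) (h : sval G z = sval G z') :
    z = z' := Subtype.ext (p := fun w => w ∈ strand G S d) h

/-- the strand presheaf -/
noncomputable def pshd (d : ℤ) : (Sm A)ᵒᵖ ⥤ AddCommGrpCat.{u} where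
  obj S := AddCommGrpCat.of (strand G (OrderDual.ofDual S.unop) d)
  map {S S'} f := AddCommGrpCat.ofHom (resHom (locMap N (le_of_hom_op f)).toAddMonoidHom _ _
    (fun _ hz => locMap_mem_strand G (le_of_hom_op f) hz))
  map_id S := by
    ext x
    change locMap N (le_refl _) (sval G x) = sval G x
    rw [locMap_refl]
    rfl
  map_comp {S S' S''} f g := by
    ext x
    change locMap N (le_of_hom_op (f ≫ g)) (sval G x) =
      locMap N (le_of_hom_op g) (locMap N (le_of_hom_op f) (sval G x))
    rw [← LinearMap.comp_apply, locMap_trans]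

lemma pshd_map_coe (d : ℤ) {S S' : (Sm A)ᵒᵖ} (f : S ⟶ S') (x : (pshd G d).obj S) :
    sval G ((pshd G d).map f x) = locMap N (le_of_hom_op f) (sval G x) := rfl

/-- the inclusion of the strand presheaf -/
noncomputable def incl (d : ℤ) : pshd G d ⟶ psh (A := A) N where
  app S := AddCommGrpCat.ofHom (strand G (OrderDual.ofDual S.unop) d).subtype
  naturality {S S'} f := by
    ext x
    rfl

lemma incl_app_apply (d : ℤ) (S : (Sm A)ᵒᵖ) (x : (pshd G d).obj S) :
    (incl G d).app S x = sval G x := rfl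

variable {N' : Type u} [AddCommGroup N'] [Module A N'] (G' : ZGr 𝒜 N')

/-- degree-preserving linear maps -/
def IsGr (g : N →ₗ[A] N') : Prop := ∀ (d : ℤ) (n : N), n ∈ G.pc d → g n ∈ G'.pc d

variable {G G'}

/-- the map of strand presheaves induced by a graded linear map -/
noncomputable def pshdMap (g : N →ₗ[A] N') (hg : IsGr G G' g) (d : ℤ) : pshd G d ⟶ pshd G' d where
  app S := AddCommGrpCat.ofHom (resHom (nMap (OrderDual.ofDual S.unop) g).toAddMonoidHom _ _
    (fun _ hz => nMap_mem_strand G G' g hg _ hz))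
  naturality {S S'} f := by
    ext x
    apply sval_ext G'
    exact nMap_locMap (le_of_hom_op f) g (sval G x)

lemma pshdMap_app_coe (g : N →ₗ[A] N') (hg : IsGr G G' g) (d : ℤ) (S : (Sm A)ᵒᵖ)
    (x : (pshd G d).obj S) :
    sval G' ((pshdMap g hg d).app S x) = nMap (OrderDual.ofDual S.unop) g (sval G x) := rfl

end Psh

section Cx

variable (fs : List A) (hfs : ∀ a ∈ fs, a ∈ homSub 𝒜)
variable {N : Type u} [AddCommGroup N] [Module A N] (G : ZGr 𝒜 N)

include hfs in
lemma SS_le_homSub {n : ℕ} (x : Fin (n + 1) → Idx fs) : SS fs x ≤ homSub 𝒜 :=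
  SS_le fs x _ (fun k => hfs _ (List.get_mem fs (x k).down))

/-- the strand Čech complex -/
noncomputable abbrev CNd (d : ℤ) : CochainComplex AddCommGrpCat.{u} ℕ := CK (fam fs) (pshd G d)

/-- the inclusion of the strand complex -/
noncomputable def inclC (d : ℤ) : CNd fs G d ⟶ CN fs N := (cechComplexFunctor (fam fs)).map (incl G d)

/-- the termwise projections -/
noncomputable def projT (d : ℤ) (n : ℕ) (x : Fin (n + 1) → Idx fs) :
    (psh (A := A) N).obj (op (Ux (fam fs) x)) ⟶ (pshd G d).obj (op (Ux (fam fs) x)) :=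
  AddCommGrpCat.ofHom (((G.loc (SS fs x) (SS_le_homSub fs hfs x)).comp d).codRestrict
    (strand G (SS fs x) d) (fun z => (G.loc (SS fs x) (SS_le_homSub fs hfs x)).comp_mem d z))

lemma projT_coe (d : ℤ) (n : ℕ) (x : Fin (n + 1) → Idx fs) (z : LocalizedModule (SS fs x) N) :
    sval G (projT fs hfs G d n x z) =
      (G.loc (SS fs x) (SS_le_homSub fs hfs x)).comp d z := rfl

lemma projT_comm (d : ℤ) (n : ℕ) (x : Fin (n + 2) → Idx fs) (i : Fin (n + 2)) :
    (psh (A := A) N).map (face (fam fs) x i).op ≫ projT fs hfs G d (n + 1) x =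
      projT fs hfs G d n (x ∘ Fin.succAbove i) ≫ (pshd G d).map (face (fam fs) x i).op := by
  ext s
  apply sval_ext G
  change (G.loc (SS fs x) (SS_le_homSub fs hfs x)).comp d (locMap N (SS_face_le fs x i) s) =
    locMap N (SS_face_le fs x i)
      ((G.loc (SS fs (x ∘ Fin.succAbove i)) (SS_le_homSub fs hfs _)).comp d s)
  exact (comp_loc_locMap G _ _ (SS_face_le fs x i) d s).symm

/-- the projection to the strand complex -/
noncomputable def projC (d : ℤ) : CN fs N ⟶ CNd fs G d where
  f n := cmpMap (fam fs) (fam fs) (psh (A := A) N) (pshd G d) (projT fs hfs G d) n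
  comm' := by
    rintro n m (rfl : n + 1 = m)
    exact cmpMap_comm (fam fs) (fam fs) (psh (A := A) N) (pshd G d) (projT fs hfs G d)
      (projT_comm fs hfs G d) n

lemma cmpMap_pr_apply {C : Type*} [Category C] [HasFiniteProducts C] {ι : Type u} (U : ι → C)
    (P P' : Cᵒᵖ ⥤ AddCommGrpCat.{u})
    (e : ∀ (n : ℕ) (x : Fin (n + 1) → ι), P.obj (op (Ux U x)) ⟶ P'.obj (op (Ux U x))) (n : ℕ)
    (x : Fin (n + 1) → ι) (c : (CK U P).X n) :
    pr U P' n x (cmpMap U U P P' e n c) = e n x (pr U P n x c) :=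
  ConcreteCategory.congr_hom (cmpMap_pr U U P P' e n x) c

lemma pr_projC (d : ℤ) (n : ℕ) (x : Fin (n + 1) → Idx fs) (c : (CN fs N).X n) :
    pr (fam fs) (pshd G d) n x ((projC fs hfs G d).f n c) =
      projT fs hfs G d n x (pr (fam fs) (psh (A := A) N) n x c) :=
  cmpMap_pr_apply (fam fs) (psh (A := A) N) (pshd G d) (projT fs hfs G d) n x c

lemma pr_inclC (d : ℤ) (n : ℕ) (x : Fin (n + 1) → Idx fs) (c : (CNd fs G d).X n) :
    pr (fam fs) (psh (A := A) N) n x ((inclC fs G d).f n c) =
      sval G (pr (fam fs) (pshd G d) n x c) :=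
  map_pr_apply (fam fs) (incl G d) n x c

theorem inclC_projC (d : ℤ) : inclC fs G d ≫ projC fs hfs G d = 𝟙 _ := by
  ext n c
  apply elt_ext (fam fs) (pshd G d) n
  intro x
  change pr (fam fs) (pshd G d) n x ((projC fs hfs G d).f n ((inclC fs G d).f n c)) = _
  rw [pr_projC]
  apply sval_ext G
  rw [projT_coe, pr_inclC]
  exact (G.loc (SS fs x) (SS_le_homSub fs hfs x)).comp_of_mem
    (sval_mem G (pr (fam fs) (pshd G d) n x c))

include hfs in
theorem isZero_homology_CNd (d : ℤ) (p : ℕ) (h : IsZero ((CN fs N).homology p)) :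
    IsZero ((CNd fs G d).homology p) := by
  rw [IsZero.iff_id_eq_zero]
  have h1 : HomologicalComplex.homologyMap (inclC fs G d) p ≫
      HomologicalComplex.homologyMap (projC fs hfs G d) p = 𝟙 _ := by
    rw [← HomologicalComplex.homologyMap_comp, inclC_projC, HomologicalComplex.homologyMap_id]
  rw [← h1, h.eq_of_tgt (HomologicalComplex.homologyMap (inclC fs G d) p) 0, zero_comp]

end Cx

section SES

variable (fs : List A) (hfs : ∀ a ∈ fs, a ∈ homSub 𝒜)
variable {N' N N'' : Type u} [AddCommGroup N'] [Module A N'] [AddCommGroup N] [Module A N]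
  [AddCommGroup N''] [Module A N''] {G' : ZGr 𝒜 N'} {G : ZGr 𝒜 N} {G'' : ZGr 𝒜 N''}
  (a : N' →ₗ[A] N) (b : N →ₗ[A] N'') (hga : IsGr G' G a) (hgb : IsGr G G'' b)

/-- the short complex of strand complexes -/
noncomputable def strandSES (hab : Function.Exact a b) (d : ℤ) :
    ShortComplex (CochainComplex AddCommGrpCat.{u} ℕ) :=
  cechSC (fam fs) (pshdMap a hga d) (pshdMap b hgb d) (fun _ x s => by
    apply sval_ext G''
    exact (nMap_exact (SS fs x) a b hab).apply_apply_eq_zero (sval G' s))

include hfs in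
theorem strandSES_shortExact (ha : Function.Injective a) (hb : Function.Surjective b)
    (hab : Function.Exact a b) (d : ℤ) : (strandSES fs a b hga hgb hab d).ShortExact := by
  apply cechSC_shortExact
  · intro n x s t hst
    apply sval_ext G'
    apply nMap_injective (SS fs x) a ha
    exact congrArg (sval G) hst
  · intro n x w
    obtain ⟨v, hv⟩ := nMap_surjective (SS fs x) b hb (sval G'' w)
    refine ⟨⟨(G.loc (SS fs x) (SS_le_homSub fs hfs x)).comp d v,
      (G.loc (SS fs x) (SS_le_homSub fs hfs x)).comp_mem d v⟩, ?_⟩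
    apply sval_ext G''
    change nMap (SS fs x) b ((G.loc (SS fs x) (SS_le_homSub fs hfs x)).comp d v) = _
    rw [comp_loc_nMap G G'' b hgb (SS fs x) (SS_le_homSub fs hfs x) d v, hv]
    exact (G''.loc (SS fs x) (SS_le_homSub fs hfs x)).comp_of_mem (sval_mem G'' w)
  · intro n x s hs
    have hs' : nMap (SS fs x) b (sval G s) = 0 := congrArg (sval G'') hs
    obtain ⟨t, ht⟩ := ((nMap_exact (SS fs x) a b hab) (sval G s)).mp hs'
    refine ⟨⟨(G'.loc (SS fs x) (SS_le_homSub fs hfs x)).comp d t,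
      (G'.loc (SS fs x) (SS_le_homSub fs hfs x)).comp_mem d t⟩, ?_⟩
    apply sval_ext G
    change nMap (SS fs x) a ((G'.loc (SS fs x) (SS_le_homSub fs hfs x)).comp d t) = _
    rw [comp_loc_nMap G' G a hga (SS fs x) (SS_le_homSub fs hfs x) d t, ht]
    exact (G.loc (SS fs x) (SS_le_homSub fs hfs x)).comp_of_mem (sval_mem G s)

end SES

end Groth.Agent.Lib.R2H2.StrandCech
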