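import Groth.Agent.Lib.Helper27GrTildeBridge
import Groth.Agent.Lib.R2H2StrandCech
import Groth.Agent.Lib.R2H2CechOpens

/-!
# Sections of `M(n)~` over `D₊(f_{i₀} ⋯ f_{i_p})` are the degree-`n` strand of the localization
(helper2, round 2)

For homogeneous `f_i` of positive degrees, the Čech complex of `GrTilde.tilde 𝒜 ℳ n` with respect to
the opens `D₊(f_i)` of `Proj 𝒜` is isomorphic to the degree-`n` strand of the Čech complex of
localizations of `M`.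
-/

set_option autoImplicit false
set_option linter.unusedSectionVars false
universe u

namespace Groth.Agent.Lib.R2H2.ProjSec

open CategoryTheory CategoryTheory.Limits AlgebraicGeometry TopologicalSpace Opposite
open Groth.Agent.Lib.Helper16.CechLow Groth.Agent.Lib.R2H2.LocPsh Groth.Agent.Lib.R2H2.CechCmp
  Groth.Agent.Lib.R2H2.Strand Groth.Agent.Lib.R2H2.StrandCech Groth.Agent.Lib.Helper27GrTildeSect

variable {R A : Type u} [CommRing R] [CommRing A] [Algebra R A] (𝒜 : ℕ → Submodule R A)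
  [GradedAlgebra 𝒜]
variable {M : Type u} [AddCommGroup M] [Module R M] [Module A M] [IsScalarTower R A M]
  (ℳ : ℕ → Submodule R M) [DirectSum.Decomposition ℳ] [SetLike.GradedSMul 𝒜 ℳ]

section ZGrOfNat

/-- the pieces of the `ℤ`-grading attached to an `ℕ`-grading -/
def pcN : ℤ → AddSubgroup M
  | Int.ofNat i => (ℳ i).toAddSubgroup
  | Int.negSucc _ => ⊥

lemma mem_pcN_natCast {i : ℕ} {m : M} : m ∈ pcN ℳ (i : ℤ) ↔ m ∈ ℳ i := Iff.rfl

lemma mem_pcN_iff {j : ℤ} {m : M} :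
    m ∈ pcN ℳ j ↔ ∃ i : ℕ, m ∈ ℳ i ∧ ((i : ℤ) = j ∨ m = 0) := by
  cases j with
  | ofNat i =>
    constructor
    · intro h
      exact ⟨i, h, Or.inl rfl⟩
    · rintro ⟨i', h, h' | h'⟩
      · have : i' = i := by
          have h'' : (i' : ℤ) = (i : ℤ) := h'
          exact_mod_cast h''
        subst this
        exact h
      · rw [h']
        exact zero_mem _
  | negSucc k =>
    constructor
    · intro h
      have h0 : m = 0 := h
      exact ⟨0, by rw [h0]; exact zero_mem _, Or.inr h0⟩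
    · rintro ⟨i', h, h' | h'⟩
      · exact absurd h' (by omega)
      · rw [h']
        exact zero_mem _

/-- the `ℤ`-grading attached to an `ℕ`-graded module -/
noncomputable def zgr : ZGr 𝒜 M where
  pc := pcN ℳ
  smul_mem := by
    intro i j a n ha hn
    rw [mem_pcN_iff] at hn ⊢
    obtain ⟨k, hk, h | h⟩ := hn
    · exact ⟨i + k, SetLike.GradedSMul.smul_mem ha hk, Or.inl (by rw [← h]; push_cast; ring)⟩
    · exact ⟨0, by rw [h, smul_zero]; exact zero_mem _, Or.inr (by rw [h, smul_zero])⟩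
  internal := by
    classical
    apply isInternal_of
    · intro m
      refine ⟨(DirectSum.decompose ℳ m).support.image (fun i : ℕ => (i : ℤ)),
        fun j => match j with
          | Int.ofNat i => (DirectSum.decompose ℳ m i : M)
          | Int.negSucc _ => 0, ?_, ?_⟩
      · intro j
        cases j with
        | ofNat i => exact (DirectSum.decompose ℳ m i).2
        | negSucc k => exact zero_mem _
      · rw [Finset.sum_image (fun a _ b _ hab => by exact_mod_cast hab)]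
        exact (DirectSum.sum_support_decompose ℳ m).symm
    · intro s c hc h j hj
      cases j with
      | negSucc k => exact hc (Int.negSucc k)
      | ofNat i =>
        have h1 : ∀ j ∈ s, (DirectSum.decompose ℳ (c j) i : M) =
            if j = Int.ofNat i then c (Int.ofNat i) else 0 := by
          intro j _
          split_ifs with hji
          · subst hji
            exact DirectSum.decompose_of_mem_same ℳ (hc (Int.ofNat i))
          · cases j with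
            | negSucc k =>
              have : c (Int.negSucc k) = 0 := hc (Int.negSucc k)
              rw [this, DirectSum.decompose_zero]
              rfl
            | ofNat i' =>
              have hne : i' ≠ i := fun e => hji (by rw [e])
              exact DirectSum.decompose_of_mem_ne ℳ (hc (Int.ofNat i')) hne
        have h2 : (DirectSum.decompose ℳ (∑ j ∈ s, c j) i : M) = c (Int.ofNat i) := by
          rw [DirectSum.decompose_sum, DFinsupp.finsetSum_apply, AddSubmonoidClass.coe_finsetSum,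
            Finset.sum_congr rfl h1, Finset.sum_ite_eq' s (Int.ofNat i), if_pos hj]
        rw [h, DirectSum.decompose_zero] at h2
        exact h2.symm

lemma exists_nat_rep {S : Submonoid A} {n : ℤ} {z : LocalizedModule S M}
    (hz : z ∈ strand (zgr 𝒜 ℳ) S n) :
    ∃ (i j : ℕ) (m : M) (s : S), m ∈ ℳ i ∧ (s : A) ∈ 𝒜 j ∧ ((i : ℤ) = j + n ∨ m = 0) ∧
      z = LocalizedModule.mk m s := by
  obtain ⟨i, j, m, s, hm, hs, hij, rfl⟩ := hz
  have hm' : m ∈ pcN ℳ i := hm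
  rw [mem_pcN_iff] at hm'
  obtain ⟨k, hk, h | h⟩ := hm'
  · exact ⟨k, j, m, s, hk, hs, Or.inl (by rw [h, hij]), rfl⟩
  · exact ⟨k, j, m, s, hk, hs, Or.inr h, rfl⟩

lemma mk_mem_strand_nat {S : Submonoid A} {n : ℤ} {i j : ℕ} {m : M} {s : S} (hm : m ∈ ℳ i)
    (hs : (s : A) ∈ 𝒜 j) (hij : (i : ℤ) = j + n) :
    LocalizedModule.mk m s ∈ strand (zgr 𝒜 ℳ) S n :=
  mk_mem_strand (zgr 𝒜 ℳ) S (i := (i : ℤ)) hm hs hij

end ZGrOfNat

section Geom

variable (fs : List A) (hfs : ∀ a ∈ fs, ∃ d : ℕ, 0 < d ∧ a ∈ 𝒜 d)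

/-- the family of opens `D₊(f_i)` -/
def Wp : Idx fs → (Proj 𝒜).Opens := fun i => Proj.basicOpen 𝒜 (fs.get i.down)

include hfs in
lemma hfs_hom : ∀ a ∈ fs, a ∈ homSub 𝒜 := fun a ha => by
  obtain ⟨d, -, hd⟩ := hfs a ha
  exact ⟨d, hd⟩

/-- the product of the elements attached to a tuple of indices -/
noncomputable def gx {n : ℕ} (x : Fin (n + 1) → Idx fs) : A := ∏ k, fs.get (x k).down

lemma gx_mem_SS {n : ℕ} (x : Fin (n + 1) → Idx fs) : gx fs x ∈ SS fs x :=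
  prod_mem (fun k _ => get_mem_SS fs x k)

include hfs in
lemma exists_deg_gx {n : ℕ} (x : Fin (n + 1) → Idx fs) : ∃ e : ℕ, 0 < e ∧ gx fs x ∈ 𝒜 e := by
  obtain ⟨d, hd, hd'⟩ := hfs _ (List.get_mem fs (x 0).down)
  have h1 : (∏ k : Fin n, fs.get (x k.succ).down) ∈ homSub 𝒜 :=
    prod_mem (fun k _ => hfs_hom 𝒜 fs hfs _ (List.get_mem fs (x k.succ).down))
  obtain ⟨e', he'⟩ := h1
  refine ⟨d + e', by omega, ?_⟩
  unfold gx
  rw [Fin.prod_univ_succ]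
  exact SetLike.mul_mem_graded hd' he'

lemma mem_Ux_iff {n : ℕ} (x : Fin (n + 1) → Idx fs) (y : Proj 𝒜) :
    y ∈ Ux (Wp 𝒜 fs) x ↔ ∀ k, fs.get (x k).down ∉ y.asHomogeneousIdeal := by
  constructor
  · intro hy k
    exact (Proj.mem_basicOpen 𝒜 _ y).mp (Groth.Agent.Lib.R2H2.CechOpens.Ux_le (Wp 𝒜 fs) x k hy)
  · intro h
    have h1 : Proj.basicOpen 𝒜 (gx fs x) ≤ Ux (Wp 𝒜 fs) x := by
      apply Groth.Agent.Lib.R2H2.CechOpens.le_Ux
      intro k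
      exact Proj.basicOpen_mono 𝒜 _ _ (Finset.dvd_prod_of_mem _ (Finset.mem_univ k))
    apply h1
    rw [Proj.mem_basicOpen]
    intro hmem
    have h2 : ∃ k ∈ Finset.univ, fs.get (x k).down ∈ y.asHomogeneousIdeal.toIdeal :=
      (Ideal.IsPrime.prod_mem_iff (hp := y.isPrime)).mp hmem
    obtain ⟨k, -, hk⟩ := h2
    exact h k hk

lemma Ux_eq {n : ℕ} (x : Fin (n + 1) → Idx fs) :
    Ux (Wp 𝒜 fs) x = Proj.basicOpen 𝒜 (gx fs x) := by
  ext y
  change y ∈ Ux (Wp 𝒜 fs) x ↔ y ∈ Proj.basicOpen 𝒜 (gx fs x)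
  rw [mem_Ux_iff, Proj.mem_basicOpen]
  constructor
  · intro h hmem
    have h2 : ∃ k ∈ Finset.univ, fs.get (x k).down ∈ y.asHomogeneousIdeal.toIdeal :=
      (Ideal.IsPrime.prod_mem_iff (hp := y.isPrime)).mp hmem
    obtain ⟨k, -, hk⟩ := h2
    exact h k hk
  · intro h k hk
    apply h
    obtain ⟨c, hc⟩ := Finset.dvd_prod_of_mem (fun k => fs.get (x k).down) (Finset.mem_univ k)
    change gx fs x ∈ y.asHomogeneousIdeal.toIdeal
    unfold gx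
    rw [hc]
    exact Ideal.mul_mem_right _ _ hk

lemma SS_le_primeCompl {n : ℕ} (x : Fin (n + 1) → Idx fs) (y : Proj 𝒜)
    (hy : y ∈ Ux (Wp 𝒜 fs) x) : SS fs x ≤ y.asHomogeneousIdeal.toIdeal.primeCompl :=
  SS_le fs x _ (fun k => (mem_Ux_iff 𝒜 fs x y).mp hy k)

end Geom

section Phi

variable (fs : List A) (hfs : ∀ a ∈ fs, ∃ d : ℕ, 0 < d ∧ a ∈ 𝒜 d)
variable {n : ℕ} (x : Fin (n + 1) → Idx fs) (d : ℤ)

/-- the value at a point of the section attached to a fraction -/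
noncomputable def valAt (y : Proj 𝒜) (hy : y ∈ Ux (Wp 𝒜 fs) x)
    (z : LocalizedModule (SS fs x) M) : GrTilde.LocMod 𝒜 (M := M) y :=
  locMap M (SS_le_primeCompl 𝒜 fs x y hy) z

lemma valAt_mk (y : Proj 𝒜) (hy : y ∈ Ux (Wp 𝒜 fs) x) (m : M) (s : SS fs x) :
    valAt 𝒜 fs x y hy (LocalizedModule.mk m s) =
      LocalizedModule.mk m ⟨s.1, SS_le_primeCompl 𝒜 fs x y hy s.2⟩ := locMap_mk M _ m s

lemma valAt_add (y : Proj 𝒜) (hy : y ∈ Ux (Wp 𝒜 fs) x) (z z' : LocalizedModule (SS fs x) M) :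
    valAt 𝒜 fs x y hy (z + z') = valAt 𝒜 fs x y hy z + valAt 𝒜 fs x y hy z' :=
  map_add _ _ _

lemma valAt_zero (y : Proj 𝒜) (hy : y ∈ Ux (Wp 𝒜 fs) x) :
    valAt 𝒜 fs x y hy (0 : LocalizedModule (SS fs x) M) = 0 :=
  map_zero _

lemma valAt_mem (y : Proj 𝒜) (hy : y ∈ Ux (Wp 𝒜 fs) x) {z : LocalizedModule (SS fs x) M}
    (hz : z ∈ strand (zgr 𝒜 ℳ) (SS fs x) d) :
    valAt 𝒜 fs x y hy z ∈ GrTilde.tildeAt 𝒜 ℳ d y := by
  obtain ⟨i, j, m, s, hm, hs, h | h, rfl⟩ := exists_nat_rep 𝒜 ℳ hz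
  · rw [valAt_mk]
    exact Submodule.subset_span ⟨i, j, ⟨m, hm⟩, ⟨s.1, hs⟩,
      SS_le_primeCompl 𝒜 fs x y hy s.2, h, rfl⟩
  · rw [h, LocalizedModule.zero_mk, valAt_zero]
    exact zero_mem _

/-- the section attached to a fraction in the strand -/
noncomputable def phiSect {z : LocalizedModule (SS fs x) M}
    (hz : z ∈ strand (zgr 𝒜 ℳ) (SS fs x) d) : GrTilde.sect 𝒜 ℳ d (op (Ux (Wp 𝒜 fs) x)) :=
  ⟨fun y => ⟨valAt 𝒜 fs x y.1 y.2 z, valAt_mem 𝒜 ℳ fs x d y.1 y.2 hz⟩, by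
    obtain ⟨i, j, m, s, hm, hs, h, rfl⟩ := exists_nat_rep 𝒜 ℳ hz
    intro y0
    exact ⟨Ux (Wp 𝒜 fs) x, y0.2, 𝟙 _, i, j, ⟨m, hm⟩, ⟨s.1, hs⟩,
      fun y => SS_le_primeCompl 𝒜 fs x y.1 y.2 s.2, h, fun y => valAt_mk 𝒜 fs x y.1 y.2 m s⟩⟩

lemma secVal_add' (W : (Proj 𝒜).Opens) (s s' : Γ(GrTilde.tilde 𝒜 ℳ d, W))
    (y : ProjectiveSpectrum 𝒜) (hy : y ∈ W) :
    secVal 𝒜 ℳ d W (s + s') y hy = secVal 𝒜 ℳ d W s y hy + secVal 𝒜 ℳ d W s' y hy := rfl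

/-- the comparison map from the strand to the sections -/
noncomputable def phiHom :
    (AddCommGrpCat.of (strand (zgr 𝒜 ℳ) (SS fs x) d) : AddCommGrpCat.{u}) ⟶
      (GrTilde.tilde 𝒜 ℳ d).presheaf.obj (op (Ux (Wp 𝒜 fs) x)) :=
  AddCommGrpCat.ofHom
    { toFun := fun z => ofSect 𝒜 ℳ d _ (phiSect 𝒜 ℳ fs x d (sval_mem (zgr 𝒜 ℳ) z))
      map_zero' := by
        apply sec_ext
        intro y hy
        exact valAt_zero 𝒜 fs x y hy
      map_add' := by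
        intro z z'
        apply sec_ext
        intro y hy
        exact valAt_add 𝒜 fs x y hy _ _ }

lemma secVal_phiHom (z : (AddCommGrpCat.of (strand (zgr 𝒜 ℳ) (SS fs x) d) : AddCommGrpCat.{u}))
    (y : ProjectiveSpectrum 𝒜) (hy : y ∈ Ux (Wp 𝒜 fs) x) :
    secVal 𝒜 ℳ d _ (phiHom 𝒜 ℳ fs x d z) y hy = valAt 𝒜 fs x y hy (sval (zgr 𝒜 ℳ) z) := rfl

include hfs in
lemma phiHom_injective : Function.Injective (phiHom 𝒜 ℳ fs x d) := by
  rw [injective_iff_map_eq_zero]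
  intro z hz0
  apply sval_ext
  obtain ⟨i, j, m, s, hm, hs, -, hzm⟩ := exists_nat_rep 𝒜 ℳ (sval_mem (zgr 𝒜 ℳ) z)
  obtain ⟨e, he, hge⟩ := exists_deg_gx 𝒜 fs hfs x
  have H : ∀ y : ProjectiveSpectrum 𝒜, gx fs x ∉ y.asHomogeneousIdeal →
      ∃ u : A, u ∉ y.asHomogeneousIdeal ∧ u • m = 0 := by
    intro y hy
    have hyU : y ∈ Ux (Wp 𝒜 fs) x := by
      rw [Ux_eq]
      exact (Proj.mem_basicOpen 𝒜 _ y).mpr hy
    have h1 : valAt 𝒜 fs x y hyU (sval (zgr 𝒜 ℳ) z) = 0 := by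
      rw [← secVal_phiHom, hz0]
      rfl
    rw [hzm, valAt_mk, mk_eq_zero_iff] at h1
    obtain ⟨u, hu⟩ := h1
    exact ⟨u.1, u.2, hu⟩
  obtain ⟨N, hN⟩ := exists_pow_smul_eq_zero 𝒜 ℳ he hge hm H
  change sval (zgr 𝒜 ℳ) z = 0
  rw [hzm]
  exact mk_eq_zero_of_smul _ m s (gx fs x ^ N) (pow_mem (gx_mem_SS fs x) N) (hN N le_rfl)

lemma exists_global' (U : (Proj 𝒜).Opens) (g : A) (hU : U = Proj.basicOpen 𝒜 g) {e : ℕ}
    (he : 0 < e) (hg : g ∈ 𝒜 e) (σ : GrTilde.sect 𝒜 ℳ d (op U)) :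
    ∃ (k i : ℕ) (m : M), m ∈ ℳ i ∧ (i : ℤ) = k * e + d ∧
      ∀ (y : ProjectiveSpectrum 𝒜) (hy : y ∈ U)
        (hgy : g ^ k ∈ y.asHomogeneousIdeal.toIdeal.primeCompl),
        ((σ.1 ⟨y, hy⟩).1 : GrTilde.LocMod 𝒜 (M := M) y) = LocalizedModule.mk m ⟨g ^ k, hgy⟩ := by
  subst hU
  obtain ⟨k, i, m, hi, h⟩ := exists_global (f := g) σ he hg
  exact ⟨k, i, m.1, m.2, hi, fun y hy hgy => h ⟨y, hy⟩⟩

include hfs in
lemma phiHom_surjective : Function.Surjective (phiHom 𝒜 ℳ fs x d) := by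
  intro σ
  obtain ⟨e, he, hge⟩ := exists_deg_gx 𝒜 fs hfs x
  obtain ⟨k, i, m, hm, hi, h⟩ := exists_global' 𝒜 ℳ d (Ux (Wp 𝒜 fs) x) (gx fs x)
    (Ux_eq 𝒜 fs x) he hge (toSect 𝒜 ℳ d _ σ)
  have hgk : gx fs x ^ k ∈ SS fs x := pow_mem (gx_mem_SS fs x) k
  have hgk' : gx fs x ^ k ∈ 𝒜 (k * e) := by
    have := SetLike.pow_mem_graded k hge
    simpa [smul_eq_mul] using this
  have hz : LocalizedModule.mk m ⟨gx fs x ^ k, hgk⟩ ∈ strand (zgr 𝒜 ℳ) (SS fs x) d :=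
    mk_mem_strand_nat 𝒜 ℳ hm hgk' (by rw [hi]; push_cast; ring)
  refine ⟨(⟨_, hz⟩ : strand (zgr 𝒜 ℳ) (SS fs x) d), ?_⟩
  apply sec_ext
  intro y hy
  rw [secVal_phiHom]
  change valAt 𝒜 fs x y hy (LocalizedModule.mk m ⟨gx fs x ^ k, hgk⟩) = _
  rw [valAt_mk]
  exact (h y hy _).symm

lemma phiHom_comm (x : Fin (n + 2) → Idx fs) (i : Fin (n + 2)) :
    (pshd (zgr 𝒜 ℳ) d).map (face (fam fs) x i).op ≫ phiHom 𝒜 ℳ fs x d =
      phiHom 𝒜 ℳ fs (x ∘ Fin.succAbove i) d ≫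
        (GrTilde.tilde 𝒜 ℳ d).presheaf.map (face (Wp 𝒜 fs) x i).op := by
  ext z
  apply sec_ext
  intro y hy
  have hface : face (Wp 𝒜 fs) x i = homOfLE (leOfHom (face (Wp 𝒜 fs) x i)) :=
    Subsingleton.elim _ _
  change secVal 𝒜 ℳ d _ (phiHom 𝒜 ℳ fs x d
      ((pshd (zgr 𝒜 ℳ) d).map (face (fam fs) x i).op z)) y hy =
    secVal 𝒜 ℳ d _ ((GrTilde.tilde 𝒜 ℳ d).presheaf.map (face (Wp 𝒜 fs) x i).op
      (phiHom 𝒜 ℳ fs (x ∘ Fin.succAbove i) d z)) y hy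
  rw [hface, secVal_map, secVal_phiHom, secVal_phiHom]
  change locMap M _ (locMap M (SS_face_le fs x i) (sval (zgr 𝒜 ℳ) z)) =
    locMap M _ (sval (zgr 𝒜 ℳ) z)
  rw [← LinearMap.comp_apply, locMap_trans]
  rfl

end Phi

section Main

variable (fs : List A) (hfs : ∀ a ∈ fs, ∃ d : ℕ, 0 < d ∧ a ∈ 𝒜 d) (d : ℤ)

/-- the comparison isomorphisms -/
noncomputable def phiIso (n : ℕ) (x : Fin (n + 1) → Idx fs) :
    (pshd (zgr 𝒜 ℳ) d).obj (op (Ux (fam fs) x)) ≅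
      (GrTilde.tilde 𝒜 ℳ d).presheaf.obj (op (Ux (Wp 𝒜 fs) x)) :=
  (AddEquiv.ofBijective (phiHom 𝒜 ℳ fs x d).hom
    ⟨phiHom_injective 𝒜 ℳ fs hfs x d, phiHom_surjective 𝒜 ℳ fs hfs x d⟩).toAddCommGrpIso

lemma phiIso_hom (n : ℕ) (x : Fin (n + 1) → Idx fs) :
    (phiIso 𝒜 ℳ fs hfs d n x).hom = phiHom 𝒜 ℳ fs x d := rfl

include hfs in
/-- the strand Čech complex computes the Čech complex of `M(d)~` -/
theorem nonempty_cech_strand (q : ℕ) :
    Nonempty (((CNd fs (zgr 𝒜 ℳ) d).homology q : AddCommGrpCat.{u}) ≃+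
      ((CK (Wp 𝒜 fs) (GrTilde.tilde 𝒜 ℳ d).presheaf).homology q : AddCommGrpCat.{u})) :=
  nonempty_homology_addEquiv (fam fs) (Wp 𝒜 fs) (pshd (zgr 𝒜 ℳ) d)
    (GrTilde.tilde 𝒜 ℳ d).presheaf (phiIso 𝒜 ℳ fs hfs d)
    (fun _ x i => phiHom_comm 𝒜 ℳ fs d x i) q

lemma biInf_Wp (s : Finset (Idx fs)) :
    ⨅ i ∈ s, Wp 𝒜 fs i = Proj.basicOpen 𝒜 (∏ i ∈ s, fs.get i.down) := by
  classical
  induction s using Finset.induction_on with
  | empty => simp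
  | insert a s ha ih =>
    rw [Finset.iInf_insert, ih, Finset.prod_insert ha, Proj.basicOpen_mul]
    rfl

include hfs in
lemma exists_deg_prod (s : Finset (Idx fs)) (hs : s.Nonempty) :
    ∃ e : ℕ, 0 < e ∧ (∏ i ∈ s, fs.get i.down) ∈ 𝒜 e := by
  classical
  obtain ⟨a, ha⟩ := hs
  obtain ⟨d, hd, hd'⟩ := hfs _ (List.get_mem fs a.down)
  have h1 : (∏ i ∈ s.erase a, fs.get i.down) ∈ homSub 𝒜 :=
    prod_mem (fun k _ => hfs_hom 𝒜 fs hfs _ (List.get_mem fs k.down))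
  obtain ⟨e', he'⟩ := h1
  refine ⟨d + e', by omega, ?_⟩
  rw [← Finset.mul_prod_erase s _ ha]
  exact SetLike.mul_mem_graded hd' he'

include hfs in
lemma isAffineOpen_biInf_Wp (s : Finset (Idx fs)) (hs : s.Nonempty) :
    IsAffineOpen (⨅ i ∈ s, Wp 𝒜 fs i) := by
  rw [biInf_Wp]
  obtain ⟨e, he, hge⟩ := exists_deg_prod 𝒜 fs hfs s hs
  exact Proj.isAffineOpen_basicOpen 𝒜 _ hge he

lemma iSup_Wp : ⨆ i, Wp 𝒜 fs i = ⨆ i : Fin fs.length, Proj.basicOpen 𝒜 (fs.get i) := by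
  apply le_antisymm
  · apply iSup_le
    intro i
    exact le_iSup (fun i : Fin fs.length => Proj.basicOpen 𝒜 (fs.get i)) i.down
  · apply iSup_le
    intro i
    exact le_iSup (Wp 𝒜 fs) ⟨i⟩

include hfs in
/-- cohomology of `M(d)~` on the union of the `D₊(f_i)` is the cohomology of the strand complex -/
theorem nonempty_HHon_strand [(GrTilde.tilde 𝒜 ℳ d).IsQuasicoherent] (q : ℕ) :
    Nonempty (Coh.HHon (Proj 𝒜) (GrTilde.tilde 𝒜 ℳ d)
        (⨆ i : Fin fs.length, Proj.basicOpen 𝒜 (fs.get i)) q ≃+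
      ((CNd fs (zgr 𝒜 ℳ) d).homology q : AddCommGrpCat.{u})) := by
  rw [← iSup_Wp]
  obtain ⟨e1⟩ := Groth.Agent.Lib.R2H2.CechOpens.nonempty_HHon_addEquiv (Wp 𝒜 fs)
    (GrTilde.tilde 𝒜 ℳ d) (isAffineOpen_biInf_Wp 𝒜 fs hfs) q
  obtain ⟨e2⟩ := nonempty_cech_strand 𝒜 ℳ fs hfs d q
  exact ⟨e1.trans e2.symm⟩

end Main

end Groth.Agent.Lib.R2H2.ProjSec
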