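import Groth.Agent.Lib.R2H2ClosedPn
import Groth.Agent.Lib.R2H2AffPushLin
import Groth.Agent.Lib.R2H2PnCoh
import Groth.Agent.Lib.R2H2ProjSec
import Groth.Agent.Lib.Helper16ClosedEmb
import Groth.Agent.Lib.R2H2HHLin
set_option backward.isDefEq.respectTransparency.types false

/-!
# Closed subschemes of `P^n_R`: linear transfer of cohomology (helper2, round 2)

* `epi_push_map`, `shortExact_map_push` : pushforward along a closed embedding is exact;
* `finrank_HH_of_iso`;
* `nonempty_HH_push_linearEquiv` : `H^q(X, M) ≃ₗ[R] H^q(P^n_R, i_* M)` for `i` affine over `R`;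
* `finrank_HH_twistOn_eq` : `dim H^q(X, F ⊗ i^*O(d)) = dim H^q(P^n, i_*F ⊗ O(d))`.
-/

set_option autoImplicit false
set_option linter.unusedSectionVars false
universe u

namespace Groth.Agent.Lib.R2H2.ClosedPnLin

open CategoryTheory CategoryTheory.Limits AlgebraicGeometry Opposite
open Groth.Agent.Lib.Helper23.QCohLocal Groth.Agent.Lib.R2H2.PnSerre Groth.Agent.Lib.R2H2.HHLin
  Groth.Agent.Lib.R2H2.ClosedPn

section General

variable {X Y : Scheme.{u}} (f : X ⟶ Y)

/-- pushforward along a closed embedding preserves epimorphisms -/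
theorem epi_push_map (hf : Topology.IsClosedEmbedding f.base) {M N : X.Modules} (g : M ⟶ N)
    (hg : Epi g) : Epi ((Scheme.Modules.pushforward f).map g) := by
  haveI : (toAbF Y).Faithful :=
    inferInstanceAs ((SheafOfModules.toSheaf Y.ringCatSheaf).Faithful)
  apply (toAbF Y).epi_of_epi_map
  haveI : PreservesFiniteColimits (toAbF X) :=
    inferInstanceAs (PreservesFiniteColimits (SheafOfModules.toSheaf X.ringCatSheaf))
  haveI : Epi ((toAbF X).map g) := inferInstance
  exact Groth.Agent.Lib.Helper16.ClosedEmb.push_map_epi f.base hf ((toAbF X).map g)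

/-- pushforward along a closed embedding preserves short exact sequences -/
theorem shortExact_map_push (hf : Topology.IsClosedEmbedding f.base) (S : ShortComplex X.Modules)
    (hS : S.ShortExact) : (S.map (Scheme.Modules.pushforward f)).ShortExact := by
  let adj := Scheme.Modules.pullbackPushforwardAdjunction f
  haveI : PreservesLimitsOfSize.{0, 0} (Scheme.Modules.pushforward f) :=
    adj.rightAdjoint_preservesLimits
  haveI : (Scheme.Modules.pushforward f).PreservesMonomorphisms :=
    Functor.preservesMonomorphisms_of_adjunction adj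
  have h1 : Mono S.f := hS.mono_f
  have h2 : Epi S.g := hS.epi_g
  exact
    { exact := hS.exact.map_of_mono_of_preservesKernel _ hS.mono_f inferInstance
      mono_f := by
        change Mono ((Scheme.Modules.pushforward f).map S.f)
        infer_instance
      epi_g := epi_push_map f hf S.g h2 }

variable (A : Type u) [CommRing A]

/-- isomorphic modules have cohomology of the same rank -/
theorem finrank_HH_of_iso {Z : Scheme.{u}} [Z.Over (Spec (CommRingCat.of A))] {M N : Z.Modules}
    (e : M ≅ N) (q : ℕ) :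
    Module.finrank A (Coh.HH Z M q) = Module.finrank A (Coh.HH Z N q) := by
  apply LinearEquiv.finrank_eq
  refine LinearEquiv.ofBijective (HmapA A e.hom q) ?_
  refine Function.bijective_iff_has_inverse.2 ⟨HmapA A e.inv q, fun x => ?_, fun x => ?_⟩
  · rw [HmapA_apply, HmapA_apply, ← HmapL_comp, e.hom_inv_id, HmapL_id]
  · rw [HmapA_apply, HmapA_apply, ← HmapL_comp, e.inv_hom_id, HmapL_id]

end General

section Pn

open Groth.Agent.Lib.R2H2.ProjSec Groth.Agent.Lib.R2H2.PnCoh Groth.Agent.Lib.R2H2.KoszulPoly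

variable (n : ℕ) (R : Type u) [CommRing R] {X : Scheme.{u}} [X.Over (Spec (CommRingCat.of R))]
  (i : X ⟶ CohB1.ProjSpace n R) [IsAffineHom i]
  (hi : i ≫ CohB1.ProjSpace.toSpec n R = X ↘ Spec (CommRingCat.of R))

local notation "PX" => CohB1.ProjSpace n R

include hi in
/-- **`H^q(X, M) ≃ₗ[R] H^q(P^n_R, i_* M)`** for an affine `R`-morphism `i : X ⟶ P^n_R` -/
theorem nonempty_HH_push_linearEquiv (M : X.Modules) (hM : Coh.IsQCoh M) (q : ℕ) :
    Nonempty (Coh.HH X M q ≃ₗ[R] Coh.HH PX ((Scheme.Modules.pushforward i).obj M) q) := by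
  have hV := Groth.Agent.Lib.R2H2.AffPushLin.isAffineOpen_iInf_of_finset
    (Y := Proj (CohB1.polyGrading n R)) (Wp (CohB1.polyGrading n R) (vars R n))
    (isAffineOpen_biInf_Wp (CohB1.polyGrading n R) (vars R n) (hfs_vars R n))
  exact Groth.Agent.Lib.R2H2.AffPushLin.exists_push_linear (Y := PX) i
    (Wp (CohB1.polyGrading n R) (vars R n)) R hi (iSup_Wp_vars R n) hV M hM q

include hi in
/-- `dim H^q(X, F ⊗ i^*O(d)) = dim H^q(P^n, i_*F ⊗ O(d))` -/
theorem finrank_HH_twistOn_eq (F : X.Modules) (hF : F.IsQuasicoherent) (d : ℤ) (q : ℕ) :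
    Module.finrank R (Coh.HH X
        (CohB1.tensorMod F ((Scheme.Modules.pullback i).obj (Twist.twistProjSpace n R d))) q) =
      Module.finrank R (Coh.HH PX
        (CohB1.tensorMod ((Scheme.Modules.pushforward i).obj F) (Twist.twistProjSpace n R d)) q) := by
  haveI := hF
  haveI : (Twist.twistProjSpace n R d).IsQuasicoherent :=
    Groth.Agent.Lib.R2H2.PnFinite.isQCoh_twist n R d
  haveI : ((Scheme.Modules.pullback i).obj (Twist.twistProjSpace n R d)).IsQuasicoherent :=
    Groth.Agent.Lib.Helper2.PullbackSec.isQuasicoherent_pullback i _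
  have hq : Coh.IsQCoh (CohB1.tensorMod F
      ((Scheme.Modules.pullback i).obj (Twist.twistProjSpace n R d))) :=
    Groth.Agent.Lib.Helper23.TensorQCoh.isQuasicoherent_tensorMod F _
  obtain ⟨E⟩ := nonempty_HH_push_linearEquiv n R i hi _ hq q
  obtain ⟨e⟩ := nonempty_push_twist_iso n R i F d
  rw [E.finrank_eq]
  exact finrank_HH_of_iso R e q

end Pn

end Groth.Agent.Lib.R2H2.ClosedPnLin
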