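import Mathlib
import Groth.Agent.Lib.Helper21PdLoc
import Groth.Agent.S0563

/-!
# Finite projective dimension of finite modules over regular rings (helper2, round 2)

* `isOpen_pdLocus` : for a finite module `M` over a Noetherian ring the locus `{p | pd M_p ≤ n}` is open.
* `exists_pdLT_of_isRegularRing` : a finite module over a regular (Noetherian) ring has finite
  projective dimension (no assumption on the Krull dimension).
-/

set_option autoImplicit false
universe u
open CategoryTheory

namespace Groth.Agent.Lib.R2H2.PdRing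

variable {A : Type u} [CommRing A]

/-- the locus where `pd M_p ≤ n`. -/
def pdLocus (M : Type u) [AddCommGroup M] [Module A M] (n : ℕ) : Set (PrimeSpectrum A) :=
  {p | HasProjectiveDimensionLT (ModuleCat.of (Localization.AtPrime p.asIdeal)
    (LocalizedModule p.asIdeal.primeCompl M)) (n + 1)}

theorem isOpen_pdLocus [IsNoetherianRing A] (M : Type u) [AddCommGroup M] [Module A M]
    [Module.Finite A M] (n : ℕ) : IsOpen (pdLocus (A := A) M n) := by
  obtain ⟨K, i1, i2, i3, -, h2⟩ := Groth.Agent.Lib.Helper21.PdLoc.exists_syzygy (A := A) n M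
  have h : pdLocus (A := A) M n = Module.freeLocus A K := by
    ext p
    change HasProjectiveDimensionLT (ModuleCat.of (Localization p.asIdeal.primeCompl)
      (LocalizedModule p.asIdeal.primeCompl M)) (n + 1) ↔ _
    rw [h2 p.asIdeal.primeCompl]
    exact Groth.Agent.Lib.Helper21.PdLoc.projective_atPrime_iff_mem_freeLocus K p
  rw [h]
  haveI : Module.FinitePresentation A K := Module.finitePresentation_of_finite A K
  exact Module.isOpen_freeLocus

theorem pdLocus_mono (M : Type u) [AddCommGroup M] [Module A M] {m n : ℕ} (h : m ≤ n) :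
    pdLocus (A := A) M m ⊆ pdLocus (A := A) M n := by
  intro p hp
  have hp' : HasProjectiveDimensionLT (ModuleCat.of (Localization.AtPrime p.asIdeal)
    (LocalizedModule p.asIdeal.primeCompl M)) (m + 1) := hp
  exact hasProjectiveDimensionLT_of_ge _ (m + 1) (n + 1) (by omega)

theorem exists_natCast_eq_ringKrullDim (R : Type u) [CommRing R] [FiniteRingKrullDim R] :
    ∃ d : ℕ, ringKrullDim R = d := by
  have h1 : ringKrullDim R ≠ ⊥ := ringKrullDim_ne_bot
  have h2 : ringKrullDim R ≠ ⊤ := ringKrullDim_ne_top
  obtain ⟨a, ha⟩ := WithBot.ne_bot_iff_exists.1 h1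
  have h3 : a ≠ ⊤ := by
    rintro rfl
    exact h2 ha.symm
  obtain ⟨d, hd⟩ := ENat.ne_top_iff_exists.1 h3
  exact ⟨d, by rw [← ha, ← hd]; rfl⟩

/-- a finite module over a regular ring has finite projective dimension. -/
theorem exists_pdLT_of_isRegularRing [IsRegularRing A] (M : Type u) [AddCommGroup M] [Module A M]
    [Module.Finite A M] : ∃ n : ℕ, HasProjectiveDimensionLT (ModuleCat.of A M) (n + 1) := by
  have hcov : (Set.univ : Set (PrimeSpectrum A)) ⊆ ⋃ n, pdLocus (A := A) M n := by
    intro p _
    haveI : IsRegularLocalRing (Localization.AtPrime p.asIdeal) :=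
      IsRegularRing.isRegularLocalRing_localization p.asIdeal
    obtain ⟨d, hd⟩ := exists_natCast_eq_ringKrullDim (Localization.AtPrime p.asIdeal)
    exact Set.mem_iUnion.2 ⟨d, Groth.Agent.S0563.result _ d hd _⟩
  obtain ⟨N, hN⟩ := isCompact_univ.elim_directed_cover (fun n => pdLocus (A := A) M n)
    (isOpen_pdLocus M) hcov
    (directed_of_isDirected_le (fun _ _ h => pdLocus_mono M h))
  refine ⟨N, ?_⟩
  change HasProjectiveDimensionLE (ModuleCat.of A M) N
  rw [ModuleCat.hasProjectiveDimensionLE_iff_forall_primeSpectrum]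
  intro p
  have hp : HasProjectiveDimensionLT (ModuleCat.of (Localization.AtPrime p.asIdeal)
    (LocalizedModule p.asIdeal.primeCompl M)) (N + 1) := hN (Set.mem_univ p)
  let e : ModuleCat.of (Localization.AtPrime p.asIdeal) (LocalizedModule p.asIdeal.primeCompl M) ≅
      (ModuleCat.of A M).localizedModule p.asIdeal.primeCompl :=
    (Shrink.linearEquiv (Localization p.asIdeal.primeCompl)
      (LocalizedModule p.asIdeal.primeCompl M)).symm.toModuleIso
  exact hasProjectiveDimensionLT_of_iso e (N + 1)

end Groth.Agent.Lib.R2H2.PdRing
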