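import Groth.Agent.Lib.R2H2PdSheaf
import Groth.Agent.Lib.R2H2PdRing
set_option backward.isDefEq.respectTransparency.types false

/-!
# Finite locally free resolutions and finite projective dimension (helper2, round 2)

* `pdLT_of_isLFRes` : a module with a finite locally free resolution of length `n` has `pd < n + 2`
  on every affine open.
* `hasLFRes_of_pdLT` : on a Noetherian scheme with enough locally free modules, a coherent module of
  finite projective dimension has a finite locally free resolution.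
* `main3745`, `main3746`.
-/

set_option autoImplicit false
universe v u

open CategoryTheory CategoryTheory.Limits AlgebraicGeometry TopologicalSpace Opposite
open Groth.Agent.Lib.Helper20.Thickening Groth.Agent.Lib.Helper26.ModSec
open Groth.Agent.Lib.R2H2.PdSheaf

namespace Groth.Agent.Lib.R2H2.PdRes

variable {X : Scheme.{u}}

section fwd

variable [IsLocallyNoetherian X] {s : Finset X.affineOpens}
  (hcoh : ∀ M : X.Modules, FlatMod.IsFinLocFree M → Coh.IsCoh M)

include hcoh in
theorem pdLT_of_isLFRes (F : X.Modules) (hF : Coh.IsCoh F) (n : ℕ)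
    (L : ChainComplex X.Modules ℕ) (π : L ⟶ (ChainComplex.single₀ X.Modules).obj F)
    (h : KRR.IsLFRes F n L π) : PdLT s F (n + 2) := by
  haveI := h.quasiIso
  have hex : ∀ i, L.ExactAt (i + 1) := fun i =>
    (quasiIsoAt_iff_exactAt' π (i + 1) (ChainComplex.exactAt_succ_single_obj F i)).1 inferInstance
  let e : L.homology 0 ≅ F := asIso (HomologicalComplex.homologyMap π 0) ≪≫
    HomologicalComplex.singleObjHomologySelfIso (ComplexShape.down ℕ) 0 F
  have cL : ∀ i, Coh.IsCoh (L.X i) := fun i => hcoh _ (h.finLocFree i)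
  have pL : ∀ i, PdLT s (L.X i) 1 := fun i => pdLT_one_of_isFinLocFree s _ (h.finLocFree i)
  haveI qL : ∀ i, (L.X i).IsQuasicoherent := fun i => (cL i).1
  haveI : F.IsQuasicoherent := hF.1
  have cB : Coh.IsCoh (kernel (aug e)) := isCoh_kernel (cL 0) hF _
  haveI : (kernel (aug e)).IsQuasicoherent := cB.1
  have cZ : ∀ i, Coh.IsCoh (L.cycles (i + 1)) := isCoh_cycles L cL
  haveI qZ : ∀ i, (L.cycles (i + 1)).IsQuasicoherent := fun i => (cZ i).1
  have pZ : ∀ j i, i + j = n → PdLT s (L.cycles (i + 1)) j := by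
    intro j
    induction j with
    | zero =>
      intro i hi
      obtain rfl : i = n := by omega
      have hz : IsZero (L.cycles (i + 1)) :=
        IsZero.of_mono (L.iCycles (i + 1)) (h.isZero (i + 1) (by omega))
      exact pdLT_zero_of_isZero hz
    | succ j ih =>
      intro i hi
      have h1 := ih (i + 1) (by omega)
      exact PdLT.cosyz (ShortComplex.mk (L.iCycles (i + 2)) (L.toCycles (i + 2) (i + 1))
        (iCycles_toCycles L i)) (shortExact_cycles L i (hex i)) h1 (pL (i + 2))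
  have p1 : PdLT s (L.cycles 1) n := pZ n 0 (by omega)
  have pB : PdLT s (kernel (aug e)) (n + 1) :=
    PdLT.cosyz (ShortComplex.mk (L.iCycles 1) (augLift e) (iCycles_augLift e))
      (shortExact_cycles_one e) p1 (pL 1)
  exact PdLT.cosyz (ShortComplex.mk (kernel.ι (aug e)) (aug e) (kernel.condition _))
    (shortExact_aug e) pB (pL 0)

end fwd

section resolve

variable [AlgebraicGeometry.IsNoetherian X] (hX : KRR.HasEnoughLocFree X)
  (hcoh : ∀ M : X.Modules, FlatMod.IsFinLocFree M → Coh.IsCoh M)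

include hX in
theorem exists_cov (K : X.Modules) (hK : Coh.IsCoh K) :
    ∃ (E : X.Modules) (p : E ⟶ K), FlatMod.IsFinLocFree E ∧ Epi p ∧
      (FlatMod.IsFinLocFree K → IsIso p) := by
  by_cases h : FlatMod.IsFinLocFree K
  · exact ⟨K, 𝟙 K, h, inferInstance, fun _ => inferInstance⟩
  · obtain ⟨E, p, hE, hp⟩ := hX K hK
    exact ⟨E, p, hE, hp, fun h' => absurd h' h⟩

/-- a stage of the canonical resolution. -/
structure Stg (X : Scheme.{u}) where
  K : X.Modules
  hK : Coh.IsCoh K

namespace Stg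

variable (t : Stg X)

noncomputable def E : X.Modules := (exists_cov hX t.K t.hK).choose

noncomputable def p : t.E hX ⟶ t.K := (exists_cov hX t.K t.hK).choose_spec.choose

theorem hE : FlatMod.IsFinLocFree (t.E hX) :=
  (exists_cov hX t.K t.hK).choose_spec.choose_spec.1

instance epi_p : Epi (t.p hX) := (exists_cov hX t.K t.hK).choose_spec.choose_spec.2.1

theorem isIso_p (h : FlatMod.IsFinLocFree t.K) : IsIso (t.p hX) :=
  (exists_cov hX t.K t.hK).choose_spec.choose_spec.2.2 h

noncomputable def next : Stg X :=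
  ⟨kernel (t.p hX), isCoh_kernel (hcoh _ (t.hE hX)) t.hK _⟩

end Stg

/-- the stages of the canonical resolution of `F`. -/
noncomputable def stage (F : X.Modules) (hF : Coh.IsCoh F) : ℕ → Stg X
  | 0 => ⟨F, hF⟩
  | n + 1 => (stage F hF n).next hX hcoh

variable {C : Type*} [Category C] [Abelian C]

omit [AlgebraicGeometry.IsNoetherian X] in
theorem exact_epi_comp {X₀ X₁ X₂ X₃ : C} (e : X₀ ⟶ X₁) (f : X₁ ⟶ X₂) (g : X₂ ⟶ X₃) [Epi e]
    (w : f ≫ g = 0) (h : (ShortComplex.mk f g w).Exact) (w' : (e ≫ f) ≫ g = 0) :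
    (ShortComplex.mk (e ≫ f) g w').Exact := by
  let φ₁ : ShortComplex.mk (e ≫ f) g w' ⟶ ShortComplex.mk f g w :=
    { τ₁ := e
      τ₂ := 𝟙 _
      τ₃ := 𝟙 _
      comm₁₂ := by simp
      comm₂₃ := by simp }
  haveI : Epi φ₁.τ₁ := by dsimp [φ₁]; infer_instance
  haveI : IsIso φ₁.τ₂ := by dsimp [φ₁]; infer_instance
  haveI : Mono φ₁.τ₃ := by dsimp [φ₁]; infer_instance
  exact (ShortComplex.exact_iff_of_epi_of_isIso_of_mono φ₁).2 h

include hX hcoh in
theorem hasLFRes_of_pdLT {s : Finset X.affineOpens}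
    (hs : IsOpenCover (fun k : s => (k.1 : X.Opens))) (F : X.Modules) (hF : Coh.IsCoh F) (n : ℕ)
    (hn : PdLT s F n) : KRR.HasLFRes F := by
  let K : ℕ → X.Modules := fun j => (stage hX hcoh F hF j).K
  let E : ℕ → X.Modules := fun j => (stage hX hcoh F hF j).E hX
  let p : ∀ j, E j ⟶ K j := fun j => (stage hX hcoh F hF j).p hX
  let ι : ∀ j, K (j + 1) ⟶ E j := fun j => kernel.ι ((stage hX hcoh F hF j).p hX)
  have hz : ∀ j, ι j ≫ p j = 0 := fun j => kernel.condition _
  have hS : ∀ j, (ShortComplex.mk (ι j) (p j) (hz j)).ShortExact := fun j =>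
    Groth.Agent.Lib.Helper17.Res.kernel_shortExact ((stage hX hcoh F hF j).p hX)
  have cK : ∀ j, Coh.IsCoh (K j) := fun j => (stage hX hcoh F hF j).hK
  have hE : ∀ j, FlatMod.IsFinLocFree (E j) := fun j => (stage hX hcoh F hF j).hE hX
  have cE : ∀ j, Coh.IsCoh (E j) := fun j => hcoh _ (hE j)
  haveI qK : ∀ j, (K j).IsQuasicoherent := fun j => (cK j).1
  haveI qE : ∀ j, (E j).IsQuasicoherent := fun j => (cE j).1
  have pE : ∀ j, PdLT s (E j) 1 := fun j => pdLT_one_of_isFinLocFree s _ (hE j)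
  -- projective dimensions of the stages
  have pK : ∀ j, PdLT s (K j) (n - (j + 1) + 1) := by
    intro j
    induction j with
    | zero => exact hn.mono (by omega)
    | succ j ih =>
      have := PdLT.syz (ShortComplex.mk (ι j) (p j) (hz j)) (hS j) (pE j) ih
      exact this.mono (by omega)
  -- from stage `n` on everything is a bundle
  have vK : ∀ j, n ≤ j → FlatMod.IsFinLocFree (K j) := by
    intro j hj
    induction j, hj using Nat.le_induction with
    | base => exact isFinLocFree_of_pdLT_one hs _ (cK n) ((pK n).mono (by omega))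
    | succ j _ ih =>
      haveI : IsIso (p j) := (stage hX hcoh F hF j).isIso_p hX ih
      exact isFinLocFree_of_isZero _ (isZero_kernel_of_mono (p j))
  have zK : ∀ j, n < j → IsZero (K j) := by
    intro j hj
    obtain ⟨j, rfl⟩ : ∃ i, j = i + 1 := ⟨j - 1, by omega⟩
    haveI : IsIso (p j) := (stage hX hcoh F hF j).isIso_p hX (vK j (by omega))
    exact isZero_kernel_of_mono (p j)
  have zE : ∀ j, n < j → IsZero (E j) := by
    intro j hj
    haveI : IsIso (p j) := (stage hX hcoh F hF j).isIso_p hX (vK j (by omega))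
    exact (zK j hj).of_iso (asIso (p j))
  -- the spliced complex
  let L : ChainComplex X.Modules ℕ := Groth.Agent.Lib.Helper17.Res.splice K E p ι hz
  have hd : ∀ j, L.d (j + 1) j = p (j + 1) ≫ ι j :=
    Groth.Agent.Lib.Helper17.Res.splice_d K E p ι hz
  have w0 : L.d 1 0 ≫ p 0 = 0 := by
    have key : ∀ (f : E 1 ⟶ E 0) (_ : f = p 1 ≫ ι 0), f ≫ p 0 = 0 := by
      rintro _ rfl
      rw [Category.assoc, hz 0, comp_zero]
    exact key _ (hd 0)
  let π : L ⟶ (ChainComplex.single₀ X.Modules).obj F :=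
    (ChainComplex.toSingle₀Equiv L F).symm ⟨p 0, w0⟩
  have hπ : π.f 0 = p 0 := ChainComplex.toSingle₀Equiv_symm_apply_f_zero _ _
  refine ⟨n, L, π, ⟨fun j => hE j, fun j hj => zE j hj, ⟨fun i => ?_⟩⟩⟩
  cases i with
  | zero =>
    rw [ChainComplex.quasiIsoAt₀_iff, ShortComplex.quasiIso_iff_of_zeros']
    · haveI : Epi (p 1) := (hS 1).epi_g
      haveI : Epi (p 0) := (hS 0).epi_g
      have key : ∀ (f : L.X 1 ⟶ L.X 0)
          (g : L.X 0 ⟶ ((ChainComplex.single₀ X.Modules).obj F).X 0)
          (_ : f = p 1 ≫ ι 0) (_ : g = p 0) (w : f ≫ g = 0),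
          (ShortComplex.mk f g w).Exact ∧ Epi g := by
        rintro _ _ rfl rfl w
        exact ⟨exact_epi_comp (p 1) (ι 0) (p 0) (hz 0) (hS 0).exact w, (hS 0).epi_g⟩
      exact key _ _ (hd 0) hπ _
    all_goals rfl
  | succ k =>
    rw [quasiIsoAt_iff_exactAt']
    · exact Groth.Agent.Lib.Helper17.Res.splice_exactAt K E p ι hz hS k
    · apply ChainComplex.exactAt_succ_single_obj

end resolve

section mains

variable [AlgebraicGeometry.IsNoetherian X]

/-- **S3745** -/
theorem main3745 (hX : KRR.HasEnoughLocFree X)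
    (h : ∀ M : X.Modules, FlatMod.IsFinLocFree M → Coh.IsCoh M ∧ KRR.HasLFRes M) :
    Function.Bijective (SGA6.mapSub (𝟭 X.Modules) (KRR.vbP X)
      (fun M : X.Modules => Coh.IsCoh M ∧ KRR.HasLFRes M) h) := by
  obtain ⟨s, hs⟩ := Groth.Agent.Lib.Helper26.ModLim.exists_finite_affine_cover X
  have hcoh : ∀ M : X.Modules, FlatMod.IsFinLocFree M → Coh.IsCoh M := fun M hM => (h M hM).1
  have heq : (fun M : X.Modules => Coh.IsCoh M ∧ KRR.HasLFRes M) = P1 s := by
    funext M
    apply propext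
    constructor
    · rintro ⟨cM, n, L, π, hL⟩
      exact ⟨cM, n + 2, pdLT_of_isLFRes hcoh M cM n L π hL⟩
    · rintro ⟨cM, n, hn⟩
      exact ⟨cM, hasLFRes_of_pdLT hX hcoh hs M cM n hn⟩
  have key : ∀ (Q : ObjectProperty X.Modules) (_ : Q = P1 s)
      (h' : ∀ M : X.Modules, KRR.vbP X M → Q M),
      Function.Bijective (SGA6.mapSub (𝟭 X.Modules) (KRR.vbP X) Q h') := by
    rintro _ rfl h'
    exact bijective_mapSub_P1 hs hX hcoh
  exact key _ heq h

theorem exists_pdLT_of_regular (hreg : ∀ x : X, IsRegularLocalRing (X.presheaf.stalk x))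
    (s : Finset X.affineOpens) (M : X.Modules) (hM : Coh.IsCoh M) : ∃ n, PdLT s M n := by
  haveI : M.IsQuasicoherent := hM.1
  have hR : ∀ V : X.affineOpens, IsRegularRing Γ(X, V.1) := by
    intro V
    haveI : IsNoetherianRing Γ(X, V.1) := IsLocallyNoetherian.component_noetherian V
    rw [isRegularRing_iff]
    intro p hp
    have hs : V.2.fromSpec ⟨p, hp⟩ ∈ V.1 := by
      have : V.2.fromSpec ⟨p, hp⟩ ∈ Set.range V.2.fromSpec := ⟨⟨p, hp⟩, rfl⟩
      rwa [V.2.range_fromSpec] at this
    letI := X.presheaf.algebra_section_stalk (U := V.1) ⟨V.2.fromSpec ⟨p, hp⟩, hs⟩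
    haveI : IsLocalization.AtPrime (X.presheaf.stalk (V.2.fromSpec ⟨p, hp⟩)) p :=
      V.2.isLocalization_stalk' ⟨p, hp⟩ hs
    let e : Localization.AtPrime p ≃ₐ[Γ(X, V.1)] X.presheaf.stalk (V.2.fromSpec ⟨p, hp⟩) :=
      IsLocalization.algEquiv p.primeCompl _ _
    haveI := hreg (V.2.fromSpec ⟨p, hp⟩)
    exact IsRegularLocalRing.of_ringEquiv e.symm.toRingEquiv
  have hex : ∀ V : X.affineOpens, ∃ n : ℕ,
      HasProjectiveDimensionLT ((ΓUF V.2).obj M) (n + 1) := by
    intro V
    haveI := hR V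
    haveI : Module.Finite Γ(X, V.1) ((ΓUF V.2).obj M) :=
      Groth.Agent.Lib.Helper26.ModLim.finite_ΓUF M hM.2 V.2
    exact Groth.Agent.Lib.R2H2.PdRing.exists_pdLT_of_isRegularRing (A := Γ(X, V.1))
      ((ΓUF V.2).obj M)
  choose f hf using hex
  refine ⟨s.sup f + 1, fun V hV => ?_⟩
  haveI := hf V
  exact hasProjectiveDimensionLT_of_ge _ (f V + 1) (s.sup f + 1)
    (Nat.succ_le_succ (Finset.le_sup hV))

/-- **S3746** -/
theorem main3746 (hreg : ∀ x : X, IsRegularLocalRing (X.presheaf.stalk x))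
    (hX : KRR.HasEnoughLocFree X)
    (h : ∀ M : X.Modules, FlatMod.IsFinLocFree M → Coh.IsCoh M) :
    Function.Bijective (SGA6.mapSub (𝟭 X.Modules) (KRR.vbP X)
      (fun M : X.Modules => Coh.IsCoh M) h) := by
  obtain ⟨s, hs⟩ := Groth.Agent.Lib.Helper26.ModLim.exists_finite_affine_cover X
  have heq : (fun M : X.Modules => Coh.IsCoh M) = P1 s := by
    funext M
    apply propext
    constructor
    · intro cM
      exact ⟨cM, exists_pdLT_of_regular hreg s M cM⟩
    · rintro ⟨cM, -⟩
      exact cM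
  have key : ∀ (Q : ObjectProperty X.Modules) (_ : Q = P1 s)
      (h' : ∀ M : X.Modules, KRR.vbP X M → Q M),
      Function.Bijective (SGA6.mapSub (𝟭 X.Modules) (KRR.vbP X) Q h') := by
    rintro _ rfl h'
    exact bijective_mapSub_P1 hs hX h
  exact key _ heq h

end mains

end Groth.Agent.Lib.R2H2.PdRes
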