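import Groth.Agent.Lib.R2H2RegSeqPd
import Groth.Agent.Lib.R2H2PdRes
import Groth.Agent.Lib.R2H2ClosedPn
import Groth.Agent.Lib.R2H2ClosedPnLin
import Groth.Agent.Lib.Helper2LocFree
import Groth.Prelude.Def_Mor2
set_option backward.isDefEq.respectTransparency.types false

/-!
# Direct images of vector bundles under regular closed immersions have finite locally free
resolutions (helper2, round 2)

* `sectionsPushIso` : `Γ(V, f_*F) ≅ Γ(f⁻¹V, F)` as `Γ(Y, V)`-modules (restriction of scalars).
* `pdLT_sections_push` : if `ker(f)` is generated on the affine open `V` by a weakly regular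
  sequence `rs`, then `pd Γ(V, f_*F) < length rs + 1` for a finite locally free `F`.
* `exists_pdLT_push`, `hasLFRes_push`.
-/

set_option autoImplicit false
universe u

open CategoryTheory CategoryTheory.Limits AlgebraicGeometry TopologicalSpace Opposite
open Groth.Agent.Lib.Helper20.Thickening Groth.Agent.Lib.Helper20.PullbackAff
open Groth.Agent.Lib.R2H2.PdSheaf

namespace Groth.Agent.Lib.R2H2.PushClRes

variable {X Y : Scheme.{u}} (f : X ⟶ Y)

theorem isCoh_of_isFinLocFree {X : Scheme.{u}} (M : X.Modules) (hM : FlatMod.IsFinLocFree M) :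
    Coh.IsCoh M := by
  haveI := Groth.Agent.Lib.Helper2.LocFree.isFP_of_isFinLocFree M hM
  exact ⟨inferInstance, inferInstance⟩

section sections

variable [IsAffineHom f] {V : Y.Opens} (hV : IsAffineOpen V) (F : X.Modules)

/-- sections of `f_*F` over an affine open, as a module over `Γ(Y, V)` -/
noncomputable def sectionsPushEquiv :
    (ΓUF hV).obj ((Scheme.Modules.pushforward f).obj F) ≃ₗ[Γ(Y, V)]
      ((ModuleCat.restrictScalars (f.app V).hom).obj ((ΓUF (hV.preimage f)).obj F)) :=
  (ΓUEquiv hV ((Scheme.Modules.pushforward f).obj F)).symm.trans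
    { toFun := fun x => ΓUEquiv (hV.preimage f) F x
      invFun := fun y => (ΓUEquiv (hV.preimage f) F).symm y
      left_inv := fun x => (ΓUEquiv (hV.preimage f) F).symm_apply_apply x
      right_inv := fun y => (ΓUEquiv (hV.preimage f) F).apply_symm_apply y
      map_add' := fun x y => (ΓUEquiv (hV.preimage f) F).map_add x y
      map_smul' := fun r x => by
        change ΓUEquiv (hV.preimage f) F (((f.app V).hom r) • (show Γ(F, f ⁻¹ᵁ V) from x)) =
          ((f.app V).hom r) • ΓUEquiv (hV.preimage f) F x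
        exact (ΓUEquiv (hV.preimage f) F).map_smul _ _ }

end sections

section pd

variable [IsClosedImmersion f] {V : Y.Opens} (hV : IsAffineOpen V) (F : X.Modules)
  (hF : FlatMod.IsFinLocFree F)

include hF in
theorem pdLT_sections_push (rs : List Γ(Y, V))
    (hreg : RingTheory.Sequence.IsWeaklyRegular Γ(Y, V) rs)
    (hker : f.ker.ideal ⟨V, hV⟩ = Ideal.ofList rs) :
    HasProjectiveDimensionLT ((ΓUF hV).obj ((Scheme.Modules.pushforward f).obj F))
      (rs.length + 1) := by
  have hU : IsAffineOpen (f ⁻¹ᵁ V) := hV.preimage f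
  haveI := Groth.Agent.Lib.R2H2.PullLF.isQuasicoherent_of_isFinLocFree F hF
  obtain ⟨h1, h2⟩ :=
    Groth.Agent.Lib.Helper26.ModLocFree.fp_flat_sections_of_isFinLocFree F hF hU
  haveI := h1
  haveI := h2
  haveI : Module.Projective Γ(X, f ⁻¹ᵁ V) ((ΓUF hU).obj F) :=
    Module.Flat.projective_of_finitePresentation
  haveI : Module.Finite Γ(X, f ⁻¹ᵁ V) ((ΓUF hU).obj F) := inferInstance
  have hker' : RingHom.ker (f.app V).hom = Ideal.ofList rs := by
    rw [← hker, Scheme.Hom.ker_apply]
  haveI := Groth.Agent.Lib.R2H2.RegSeqPd.hasProjectiveDimensionLT_restrictScalars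
    (f.app V).hom (f.app_surjective V hV) rs hreg hker' ((ΓUF hU).obj F)
  exact hasProjectiveDimensionLT_of_iso (sectionsPushEquiv f hV F).symm.toModuleIso _

omit hF [IsClosedImmersion f] in
theorem pdLT_sections_push_of_disjoint [IsAffineHom f] (h0 : f ⁻¹ᵁ V = ⊥) :
    HasProjectiveDimensionLT ((ΓUF hV).obj ((Scheme.Modules.pushforward f).obj F)) 0 := by
  have hU : IsAffineOpen (f ⁻¹ᵁ V) := hV.preimage f
  haveI : Subsingleton Γ(X, f ⁻¹ᵁ V) := by rw [h0]; infer_instance
  haveI : Subsingleton ((ΓUF hU).obj F) := Module.subsingleton Γ(X, f ⁻¹ᵁ V) _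
  haveI : Subsingleton ((ModuleCat.restrictScalars (f.app V).hom).obj ((ΓUF hU).obj F)) :=
    inferInstanceAs (Subsingleton ((ΓUF hU).obj F))
  haveI : Subsingleton ((ΓUF hV).obj ((Scheme.Modules.pushforward f).obj F)) :=
    (sectionsPushEquiv f hV F).toEquiv.subsingleton
  exact (ModuleCat.isZero_of_subsingleton _).hasProjectiveDimensionLT_zero

end pd

section cover

include f in
theorem exists_pdLT_push (hf : Mor2.IsRegularClosedImmersion f) [CompactSpace Y]
    (F : X.Modules) (hF : FlatMod.IsFinLocFree F) :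
    ∃ (s : Finset Y.affineOpens) (n : ℕ), IsOpenCover (fun k : s => (k.1 : Y.Opens)) ∧
      PdLT s ((Scheme.Modules.pushforward f).obj F) n := by
  classical
  haveI : IsClosedImmersion f := hf.1
  let M := (Scheme.Modules.pushforward f).obj F
  let good : Y.affineOpens → Prop := fun V =>
    ∃ n, HasProjectiveDimensionLT ((ΓUF V.2).obj M) n
  have hcov : ∀ y : Y, ∃ V : Y.affineOpens, good V ∧ y ∈ V.1 := by
    intro y
    by_cases hy : y ∈ Set.range f
    · obtain ⟨z, rfl⟩ := hy
      obtain ⟨U, hU, hzU, rs, hreg, hker⟩ := hf.2 z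
      exact ⟨⟨U, hU⟩, ⟨rs.length + 1, pdLT_sections_push f hU F hF rs hreg.1 hker⟩, hzU⟩
    · have hopen : IsOpen (Set.range f)ᶜ := f.isClosedEmbedding.isClosed_range.isOpen_compl
      obtain ⟨V, hV, hyV, hVle⟩ :=
        exists_isAffineOpen_mem_and_subset (x := y) (U := ⟨_, hopen⟩) hy
      have h0 : f ⁻¹ᵁ V = ⊥ := by
        ext x
        constructor
        · intro hx
          exact absurd ⟨x, rfl⟩ (hVle hx)
        · intro hx
          exact absurd hx (by simp)
      exact ⟨⟨V, hV⟩, ⟨0, pdLT_sections_push_of_disjoint f hV F h0⟩, hyV⟩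
  have hc : IsOpenCover (fun V : {V : Y.affineOpens // good V} => (V.1 : Y.Opens)) := by
    rw [IsOpenCover, eq_top_iff]
    intro y _
    obtain ⟨V, hg, hy⟩ := hcov y
    exact Opens.mem_iSup.2 ⟨⟨V, hg⟩, hy⟩
  obtain ⟨t, ht⟩ := IsOpenCover.exists_finite_of_compactSpace hc
  choose n hn using (fun V : {V : Y.affineOpens // good V} => V.2)
  refine ⟨t.image Subtype.val, t.sup n, ?_, ?_⟩
  · rw [IsOpenCover, eq_top_iff]
    intro y _
    have hy : y ∈ (⨆ k : t, ((k.1.1 : Y.affineOpens) : Y.Opens)) := by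
      rw [ht.iSup_eq_top]; trivial
    obtain ⟨k, hk⟩ := Opens.mem_iSup.1 hy
    exact Opens.mem_iSup.2 ⟨⟨k.1.1, Finset.mem_image_of_mem _ k.2⟩, hk⟩
  · intro V hV
    obtain ⟨W, hWt, rfl⟩ := Finset.mem_image.1 hV
    haveI := hn W
    exact hasProjectiveDimensionLT_of_ge _ (n W) _ (Finset.le_sup (f := n) hWt)

include f in
/-- **direct images of bundles under regular closed immersions are resolvable** -/
theorem hasLFRes_push (hf : Mor2.IsRegularClosedImmersion f) [IsNoetherian Y]
    (hYe : KRR.HasEnoughLocFree Y) (F : X.Modules) (hF : FlatMod.IsFinLocFree F) :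
    Coh.IsCoh ((Scheme.Modules.pushforward f).obj F) ∧
      KRR.HasLFRes ((Scheme.Modules.pushforward f).obj F) := by
  haveI : IsClosedImmersion f := hf.1
  have hc : Coh.IsCoh ((Scheme.Modules.pushforward f).obj F) :=
    Groth.Agent.Lib.R2H2.ClosedPn.isCoh_push f F (isCoh_of_isFinLocFree F hF)
  obtain ⟨s, n, hs, hn⟩ := exists_pdLT_push f hf F hF
  exact ⟨hc, Groth.Agent.Lib.R2H2.PdRes.hasLFRes_of_pdLT hYe
    (fun M hM => isCoh_of_isFinLocFree M hM) hs _ hc n hn⟩

end cover

end Groth.Agent.Lib.R2H2.PushClRes
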