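import Mathlib
import Groth.Prelude.Def_DCoh3
import Groth.Agent.Lib.H6xPerf23A
import Groth.Agent.Lib.H6xRpushBd
import Groth.Agent.Lib.R2H2PdSheaf
import Groth.Agent.Lib.R2H2NilFilt
import Groth.Agent.Lib.R2H2PushClRes
import Groth.Agent.Lib.Helper23FinTypeLocal
set_option backward.isDefEq.respectTransparency.types false

/-!
# Perfect objects on Noetherian schemes are bounded with coherent cohomology (helper6)
-/

set_option autoImplicit false
set_option linter.style.haveILetI false
universe u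
open CategoryTheory CategoryTheory.Limits AlgebraicGeometry TopologicalSpace Opposite
  CategoryTheory.Pretriangulated

attribute [local instance] HasDerivedCategory.standard

namespace Groth.Agent.Lib.H6xPerfCoh

open Groth.Agent.Lib.H6xLocLift Groth.Agent.Lib.H6xPerfLoc Groth.Agent.Lib.H6xPerf23
  Groth.Agent.Lib.H6xSuppPush

variable {X : Scheme.{u}}

/-- perfect objects, locally on opens of `X` -/
theorem isPerfect_iff_opens (K : DCoh.D X) :
    DCoh.IsPerfect K ↔ ∀ x : X, ∃ V : X.Opens, x ∈ V ∧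
      ∃ E : CochainComplex (V : Scheme.{u}).Modules ℤ, DCoh.IsStrictlyPerfect E ∧
        Nonempty ((DCoh.restrictD V.ι).obj K ≅ DerivedCategory.Q.obj E) := by
  constructor
  · intro hK x
    obtain ⟨V, hxV, hV⟩ := hK x
    obtain ⟨E, hE, ⟨e⟩⟩ := hV ((DerivedCategory.Q : _ ⥤ DCoh.D X).objPreimage K)
      ⟨DerivedCategory.Q.objObjPreimageIso K⟩
    refine ⟨V, hxV, E, hE, ⟨?_⟩⟩
    exact (DCoh.restrictD V.ι).mapIso (DerivedCategory.Q.objObjPreimageIso K).symm ≪≫
      (Scheme.Modules.restrictFunctor V.ι).mapDerivedCategoryFactors.app _ ≪≫ e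
  · intro h
    rw [isPerfect_iff_local]
    intro x
    obtain ⟨V, hxV, E, hE, he⟩ := h x
    exact ⟨V, V.ι, inferInstance, by rw [Scheme.Opens.range_ι]; exact hxV, E, hE, he⟩

/-- cohomology of a complex of coherent modules on a locally Noetherian scheme is coherent -/
lemma isCoh_homology [IsLocallyNoetherian X] (K : CochainComplex X.Modules ℤ)
    (hK : ∀ i, Coh.IsCoh (K.X i)) (i : ℤ) : Coh.IsCoh (K.homology i) := by
  have e1 : K.cycles i ≅ kernel (K.d i (i + 1)) :=
    (K.cyclesIsKernel i (i + 1) (by simp)).conePointUniqueUpToIso (limit.isLimit _)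
  have hZ : Coh.IsCoh (K.cycles i) :=
    Groth.Agent.Lib.R2H2.PdSheaf.isCoh_of_iso e1.symm
      (Groth.Agent.Lib.R2H2.PdSheaf.isCoh_kernel (hK i) (hK (i + 1)) _)
  have e2 : K.homology i ≅ cokernel (K.toCycles (i - 1) i) :=
    (K.homologyIsCokernel (i - 1) i (by simp)).coconePointUniqueUpToIso (colimit.isColimit _)
  exact Groth.Agent.Lib.R2H2.PdSheaf.isCoh_of_iso e2.symm
    (Groth.Agent.Lib.R2H2.NilFilt.isCoh_cokernel (hK (i - 1)) hZ _)

/-- **S1006** -/
theorem perfect_coh_bounded (X : Scheme.{u}) [IsNoetherian X] (E : DCoh.D X)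
    (hE : DCoh.IsPerfect E) : DCoh.IsCohD E ∧ ∃ a b : ℤ, E.IsGE a ∧ E.IsLE b := by
  classical
  rw [isPerfect_iff_opens] at hE
  choose V hxV E' hE' e using hE
  have hiso : ∀ x i, Nonempty ((DCoh.HD E i).restrict (V x).ι ≅ (E' x).homology i) := by
    intro x i
    obtain ⟨e2⟩ := nonempty_homology_mapDerivedCategory_iso
      (Scheme.Modules.restrictFunctor (V x).ι) E i
    exact ⟨e2.symm ≪≫ (DerivedCategory.homologyFunctor _ i).mapIso (e x).some ≪≫
      (DerivedCategory.homologyFunctorFactors _ i).app (E' x)⟩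
  have hcov : IsOpenCover V := by
    rw [IsOpenCover, eq_top_iff]
    intro x _
    exact Opens.mem_iSup.2 ⟨x, hxV x⟩
  constructor
  · intro i
    have hloc : ∀ x, Coh.IsCoh ((DCoh.HD E i).restrict (V x).ι) := fun x => by
      obtain ⟨e3⟩ := hiso x i
      exact Groth.Agent.Lib.R2H2.PdSheaf.isCoh_of_iso e3.symm (isCoh_homology (E' x)
        (fun j => Groth.Agent.Lib.R2H2.PushClRes.isCoh_of_isFinLocFree _ ((hE' x).2 j)) i)
    haveI : (DCoh.HD E i).IsQuasicoherent :=
      Groth.Agent.Lib.Helper23.FinType.isQuasicoherent_of_open_cover _ V hcov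
        (fun x => (hloc x).1)
    exact ⟨inferInstance, Groth.Agent.Lib.Helper23.FinType.isFiniteType_of_open_cover _ V hcov
      (fun x => (hloc x).2)⟩
  · obtain ⟨t, ht⟩ : ∃ t : Finset X, ∀ x : X, ∃ y ∈ t, x ∈ V y := by
      obtain ⟨t, ht⟩ := isCompact_univ.elim_finite_subcover (fun y : X => ((V y : X.Opens) : Set X))
        (fun y => (V y).isOpen) (fun x _ => Set.mem_iUnion.2 ⟨x, hxV x⟩)
      refine ⟨t, fun x => ?_⟩
      obtain ⟨y, hy⟩ := Set.mem_iUnion.1 (ht (Set.mem_univ x))
      obtain ⟨hyt, hxy⟩ := Set.mem_iUnion.1 hy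
      exact ⟨y, hyt, hxy⟩
    choose a b hab using fun x => (hE' x).1
    obtain ⟨A, hA⟩ := (t.image (fun y => - a y)).exists_le
    obtain ⟨B, hB⟩ := (t.image b).exists_le
    have hcov' : ∀ x : X, ∃ W ∈ t.image V, x ∈ W := fun x => by
      obtain ⟨y, hy, hxy⟩ := ht x
      exact ⟨V y, Finset.mem_image_of_mem V hy, hxy⟩
    have hz : ∀ i : ℤ, (i < -A ∨ B < i) → IsZero (DCoh.HD E i) := by
      intro i hi
      refine Groth.Agent.Lib.H6xRpushQc.isZero_of_cover _ (t.image V) hcov' (fun W hW => ?_)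
      obtain ⟨y, hy, rfl⟩ := Finset.mem_image.1 hW
      obtain ⟨e3⟩ := hiso y i
      refine IsZero.of_iso ?_ e3
      refine ShortComplex.isZero_homology_of_isZero_X₂ _ (hab y i ?_)
      have h1 := hA _ (Finset.mem_image_of_mem (fun y => - a y) hy)
      have h2 := hB _ (Finset.mem_image_of_mem b hy)
      rcases hi with hi | hi
      · left; omega
      · right; omega
    refine ⟨-A, B, ?_, ?_⟩
    · rw [DerivedCategory.isGE_iff]
      exact fun i hi => hz i (Or.inl hi)
    · rw [DerivedCategory.isLE_iff]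
      exact fun i hi => hz i (Or.inr hi)

end Groth.Agent.Lib.H6xPerfCoh
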