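import Mathlib
import Groth.Prelude.Def_DCoh3
import Groth.Agent.Lib.H6xPC3E
import Groth.Agent.Lib.H6xPCohD
import Groth.Agent.Lib.H6xPerfCoh
set_option backward.isDefEq.respectTransparency.types false

/-!
# Pseudo-coherence and coherent cohomology on Noetherian schemes (helper6)
-/

set_option autoImplicit false
set_option linter.style.haveILetI false
universe u
open CategoryTheory CategoryTheory.Limits AlgebraicGeometry TopologicalSpace Opposite
  CategoryTheory.Pretriangulated ZeroObject

attribute [local instance] HasDerivedCategory.standard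

namespace Groth.Agent.Lib.H6xPC3

open Groth.Agent.Lib.H6xPCoh Groth.Agent.Lib.H6xPerfLoc Groth.Agent.Lib.H6xPerfCoh

variable {X : Scheme.{u}}

lemma PCGlobal.isPseudoCoherentD {m : ℤ} {K : DCoh.D X} (h : PCGlobal m K) :
    DCoh.IsPseudoCoherentD m K := by
  rw [isPseudoCoherentD_iff_pcAt]
  intro x
  exact ⟨(⊤ : X.Opens), (⊤ : X.Opens).ι, inferInstance,
    by rw [Scheme.Opens.range_ι]; trivial, h.restrict _⟩

lemma isPseudoCoherentD_of_iso' {m : ℤ} {K K' : DCoh.D X} (e : K ≅ K')
    (h : DCoh.IsPseudoCoherentD m K) : DCoh.IsPseudoCoherentD m K' := by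
  rw [isPseudoCoherentD_iff_pcAt] at h ⊢
  exact fun x => (h x).of_iso e

lemma isPseudoCoherentD_mono {m n : ℤ} (hmn : m ≤ n) {K : DCoh.D X}
    (h : DCoh.IsPseudoCoherentD m K) : DCoh.IsPseudoCoherentD n K := by
  rw [isPseudoCoherentD_iff_pcAt] at h ⊢
  exact fun x => (h x).mono hmn

lemma pcGlobal_of_strictlyPerfect (P : CochainComplex X.Modules ℤ) (hP : DCoh.IsStrictlyPerfect P)
    (m : ℤ) : PCGlobal m (DerivedCategory.Q.obj P) :=
  ⟨P, 𝟙 _, hP, fun i _ => by rw [CategoryTheory.Functor.map_id]; infer_instance,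
    by rw [CategoryTheory.Functor.map_id]; infer_instance⟩

lemma pcGlobal_of_isLE (m : ℤ) (E : DCoh.D X) [E.IsLE (m - 1)] : PCGlobal m E := by
  refine ⟨0, 0, isStrictlyPerfect_zero X, fun j hj => ?_, ?_⟩
  · refine IsZero.isIso ?_ (DerivedCategory.isZero_of_isLE E (m - 1) j (by omega)) _
    exact (DerivedCategory.homologyFunctor _ j).map_isZero
      (DerivedCategory.Q.map_isZero (isZero_zero _))
  · exact IsZero.epi (DerivedCategory.isZero_of_isLE E (m - 1) m (by omega)) _

lemma isCoh_of_isZero (Z : X.Modules) (hZ : IsZero Z) : Coh.IsCoh Z :=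
  Groth.Agent.Lib.R2H2.PushClRes.isCoh_of_isFinLocFree _
    (Groth.Agent.Lib.R2H2.PdSheaf.isFinLocFree_of_isZero _ hZ)

/-- a coherent module on a locally Noetherian scheme, placed in degree `0`, is `(-k)`-pseudo-coherent
for all `k` -/
theorem isPseudoCoherentD_inD_of_isCoh_nat : ∀ (k : ℕ) (Y : Scheme.{u}) [IsLocallyNoetherian Y]
    (A : Y.Modules), Coh.IsCoh A → DCoh.IsPseudoCoherentD (-(k : ℤ)) (DCoh.inD Y A)
  | 0 => fun Y _ A hA => by
      haveI : CohB1.IsFT A := hA.2
      simpa using isPseudoCoherentD_zero_of_isFT A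
  | k + 1 => fun Y _ A hA => by
      rw [isPseudoCoherentD_iff_pcAt]
      intro x
      haveI : A.IsQuasicoherent := hA.1
      haveI : SheafOfModules.IsFiniteType (R := Y.ringCatSheaf) A := hA.2
      obtain ⟨ι, U, G, hG, hU, -⟩ :=
        Groth.Agent.Lib.Helper23.FinType.exists_isOpenCover_generatingSections A
      obtain ⟨i, hxi⟩ : ∃ i, x ∈ U i := by
        have : x ∈ (⨆ i, U i : Y.Opens) := by rw [hU.iSup_eq_top]; trivial
        exact Opens.mem_iSup.1 this
      haveI : Finite (G i).I := (hG i).finite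
      obtain ⟨x', hx'⟩ : ∃ x' : (U i : Scheme.{u}), (U i).ι.base x' = x := ⟨⟨x, hxi⟩, rfl⟩
      let P₀ : (U i : Scheme.{u}).Modules := SheafOfModules.free (R := (U i : Scheme.{u}).ringCatSheaf) (G i).I
      let π : P₀ ⟶ A.restrict (U i).ι := (G i).π
      haveI : Epi π := (G i).epi
      have hAV : Coh.IsCoh (A.restrict (U i).ι) :=
        ⟨Scheme.Modules.isQuasicoherent_restrictFunctor (U i).ι A,
          Groth.Agent.Lib.Helper23.FinType.isFiniteType_restrict (U i).ι A⟩
      have hF : Coh.IsCoh P₀ :=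
        Groth.Agent.Lib.R2H2.PushClRes.isCoh_of_isFinLocFree _ (isFinLocFree_free _)
      have hK : Coh.IsCoh (kernel π) := Groth.Agent.Lib.R2H2.PdSheaf.isCoh_kernel hF hAV π
      let S : ShortComplex (U i : Scheme.{u}).Modules :=
        ShortComplex.mk (kernel.ι π) π (kernel.condition π)
      have hS : S.ShortExact :=
        { exact := ShortComplex.exact_kernel π
          mono_f := inferInstanceAs (Mono (kernel.ι π))
          epi_g := inferInstanceAs (Epi π) }
      have hT := hS.singleTriangle_distinguished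
      have h1 : DCoh.IsPseudoCoherentD (-((k + 1 : ℕ) : ℤ) + 1) hS.singleTriangle.obj₁ := by
        have := isPseudoCoherentD_inD_of_isCoh_nat k (U i : Scheme.{u}) (kernel π) hK
        rw [show -((k + 1 : ℕ) : ℤ) + 1 = -(k : ℤ) by push_cast; ring]
        exact this
      have h2 : DCoh.IsPseudoCoherentD (-((k + 1 : ℕ) : ℤ)) hS.singleTriangle.obj₂ :=
        (pcGlobal_of_strictlyPerfect _ (isStrictlyPerfect_single P₀ (isFinLocFree_free _))
          _).isPseudoCoherentD
      have h3 := isPseudoCoherentD_obj₃ _ hS.singleTriangle hT h1 h2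
      have h4 : PCAt (-((k + 1 : ℕ) : ℤ)) ((DCoh.restrictD (U i).ι).obj (DCoh.inD Y A)) x' :=
        ((isPseudoCoherentD_iff_pcAt _ _).1 h3 x').of_iso (restrictDInD A (U i)).symm
      have h5 := PCAt.of_restrict (U i).ι x' h4
      rwa [hx'] at h5

theorem isPseudoCoherentD_inD_of_isCoh [IsLocallyNoetherian X] (A : X.Modules) (hA : Coh.IsCoh A)
    (m : ℤ) : DCoh.IsPseudoCoherentD m (DCoh.inD X A) := by
  have h := isPseudoCoherentD_inD_of_isCoh_nat (-m).toNat X A hA
  exact isPseudoCoherentD_mono (by omega) h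

/-- a coherent module placed in degree `b` -/
theorem isPseudoCoherentD_single_of_isCoh [IsLocallyNoetherian X] (A : X.Modules)
    (hA : Coh.IsCoh A) (b m : ℤ) :
    DCoh.IsPseudoCoherentD m ((DerivedCategory.singleFunctor X.Modules b).obj A) := by
  have h := isPseudoCoherentD_shift (isPseudoCoherentD_inD_of_isCoh A hA (m - b)) (-b)
  rw [show m - b - -b = m by omega] at h
  exact isPseudoCoherentD_of_iso'
    (((DerivedCategory.singleFunctors X.Modules).shiftIso (-b) b 0 (by omega)).app A) h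

end Groth.Agent.Lib.H6xPC3
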