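import Mathlib
import Groth.Prelude.Def_CohTop
import Groth.Prelude.Def_CohCx
import Groth.Agent.Lib.Helper16ClosedEmb
import Groth.Agent.Lib.H6xMVA

/-!
# `i_*` along a closed embedding / closed immersion is a left adjoint (helper6)
-/

set_option autoImplicit false
universe u
open CategoryTheory CategoryTheory.Limits TopologicalSpace Opposite

namespace Groth.Agent.Lib.H6xClImmAdj

section top

variable {Y Z : TopCat.{u}} (H : Y ≅ Z)

/-- pushforward of abelian sheaves along a homeomorphism is a left adjoint -/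
noncomputable def sheafPushforwardAdj :
    TopCat.Sheaf.pushforward AddCommGrpCat.{u} H.hom ⊣
      TopCat.Sheaf.pushforward AddCommGrpCat.{u} H.inv :=
  Adjunction.restrictFullyFaithful (iC := TopCat.Sheaf.forget AddCommGrpCat.{u} Y)
    (iD := TopCat.Sheaf.forget AddCommGrpCat.{u} Z)
    (TopCat.Presheaf.presheafEquivOfIso AddCommGrpCat.{u} H).toAdjunction
    (fullyFaithfulSheafToPresheaf _ _) (fullyFaithfulSheafToPresheaf _ _)
    (Iso.refl _) (Iso.refl _)

end top

section

variable {Z X : TopCat.{u}}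

/-- pushforward along a composition. -/
noncomputable def pushCompIso {Z' : TopCat.{u}} (h : Z ⟶ Z') (i' : Z' ⟶ X) :
    CohTop.push (h ≫ i') ≅ CohTop.push h ⋙ CohTop.push i' :=
  Iso.refl _

lemma push_isLeftAdjoint_of_iso_comp {Z' : TopCat.{u}} (h : Z ≅ Z') (i' : Z' ⟶ X)
    [(CohTop.push i').IsLeftAdjoint] : (CohTop.push (h.hom ≫ i')).IsLeftAdjoint := by
  haveI : (CohTop.push h.hom).IsLeftAdjoint := ⟨_, ⟨sheafPushforwardAdj h⟩⟩
  exact Functor.isLeftAdjoint_of_iso (pushCompIso h.hom i').symm

variable (i : Z ⟶ X) (hi : Topology.IsClosedEmbedding i)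

/-- the open complement of the image. -/
def complOpen : Opens X := ⟨(Set.range i)ᶜ, hi.isClosed_range.isOpen_compl⟩

/-- the homeomorphism from `Z` onto the complement of the complement of the image. -/
noncomputable def homeoCompl : Z ≃ₜ (((complOpen i hi : Opens X) : Set X)ᶜ : Set X) :=
  hi.isEmbedding.toHomeomorph.trans (Homeomorph.setCongr (compl_compl _).symm)

lemma homeoCompl_fac :
    (TopCat.isoOfHomeo (homeoCompl i hi)).hom ≫ CohCx.inclCompl (complOpen i hi) = i := by
  ext z
  rfl

include hi in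
theorem push_isLeftAdjoint : (CohTop.push i).IsLeftAdjoint := by
  obtain ⟨adj⟩ := Groth.Agent.Lib.Helper16.ClosedEmb.nonempty_push_adj (complOpen i hi)
  haveI : (CohTop.push (CohCx.inclCompl (complOpen i hi))).IsLeftAdjoint := ⟨_, ⟨adj⟩⟩
  have h := push_isLeftAdjoint_of_iso_comp (TopCat.isoOfHomeo (homeoCompl i hi))
    (CohCx.inclCompl (complOpen i hi))
  rw [homeoCompl_fac] at h
  exact h

end

end Groth.Agent.Lib.H6xClImmAdj
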