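import Mathlib
import Groth.Agent.Lib.H6xClImmAdjA
import Groth.Agent.S0484

/-!
# `i_*` on `O`-modules along a closed immersion is a left adjoint (helper6)
-/

set_option autoImplicit false
universe u
open CategoryTheory CategoryTheory.Limits TopologicalSpace Opposite AlgebraicGeometry

namespace Groth.Agent.Lib.H6xClImmAdj

/-- pushforward of modules along a morphism which is topologically a closed embedding preserves
all small colimits. -/
theorem pushforward_preservesColimits_of_isClosedEmbedding {Z X : Scheme.{u}} (i : Z ⟶ X)
    (hi : Topology.IsClosedEmbedding i) :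
    PreservesColimitsOfSize.{u, u} (Scheme.Modules.pushforward i) := by
  refine ⟨fun {K} _ => ?_⟩
  have e : Scheme.Modules.pushforward i ⋙ SheafOfModules.toSheaf X.ringCatSheaf =
      SheafOfModules.toSheaf Z.ringCatSheaf ⋙ TopCat.Sheaf.pushforward Ab i.base := rfl
  have hX : PreservesColimitsOfShape K (SheafOfModules.toSheaf X.ringCatSheaf) :=
    Groth.Agent.S0484.preservesColimitsOfShape_toSheaf _ _ K
  have hZ : PreservesColimitsOfShape K (SheafOfModules.toSheaf Z.ringCatSheaf) :=
    Groth.Agent.S0484.preservesColimitsOfShape_toSheaf _ _ K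
  have hR : ReflectsColimitsOfShape K (SheafOfModules.toSheaf X.ringCatSheaf) :=
    reflectsColimitsOfShape_of_reflectsIsomorphisms
  haveI : (CohTop.push i.base).IsLeftAdjoint := push_isLeftAdjoint i.base hi
  have h3 : PreservesColimitsOfSize.{u, u} (TopCat.Sheaf.pushforward Ab i.base) :=
    (Adjunction.ofIsLeftAdjoint (CohTop.push i.base)).leftAdjoint_preservesColimits
  have h4 : PreservesColimitsOfShape K (TopCat.Sheaf.pushforward Ab i.base) :=
    h3.preservesColimitsOfShape
  have h5 : PreservesColimitsOfShape K (Scheme.Modules.pushforward i ⋙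
      SheafOfModules.toSheaf X.ringCatSheaf) := by
    rw [e]
    exact @comp_preservesColimitsOfShape _ _ _ _ _ _ _ _ _ _ hZ h4
  exact @preservesColimitsOfShape_of_reflects_of_preserves _ _ _ _ _ _ _ _
    (Scheme.Modules.pushforward i) (SheafOfModules.toSheaf X.ringCatSheaf) h5 hR

/-- SAFT: pushforward of modules along a topological closed embedding is a left adjoint. -/
theorem pushforward_isLeftAdjoint_of_isClosedEmbedding {Z X : Scheme.{u}} (i : Z ⟶ X)
    (hi : Topology.IsClosedEmbedding i) : (Scheme.Modules.pushforward i).IsLeftAdjoint := by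
  haveI : IsGrothendieckAbelian.{u} Z.Modules :=
    Groth.Agent.S0484.result (Opens.grothendieckTopology Z) Z.ringCatSheaf
  haveI := pushforward_preservesColimits_of_isClosedEmbedding i hi
  haveI h2 : WellPowered.{u} (Z.Modules)ᵒᵖ := Abelian.wellPowered_opposite
  exact isLeftAdjoint_of_preservesColimits_of_isSeparating
    (isSeparator_separator Z.Modules) _

theorem pushforward_isLeftAdjoint {Z X : Scheme.{u}} (i : Z ⟶ X) [IsClosedImmersion i] :
    (Scheme.Modules.pushforward i).IsLeftAdjoint :=
  pushforward_isLeftAdjoint_of_isClosedEmbedding i i.isClosedEmbedding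

end Groth.Agent.Lib.H6xClImmAdj
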