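import Groth.Agent.Lib.R2H2DevG
set_option backward.isDefEq.respectTransparency.types false

/-!
# Dévissage of coherent modules, part H: subobjects of `i_* O_Z` (helper2, round 2)

* `exists_ideal_of_mono_pushO` : for a closed immersion `i : Z ⟶ X` into a locally Noetherian
  scheme, a quasi-coherent subobject `Q ↪ i_* O_Z` is isomorphic to `i_* I` for a quasi-coherent
  ideal `I ↪ O_Z`.
-/

set_option autoImplicit false
set_option linter.style.haveILetI false
universe u

open CategoryTheory CategoryTheory.Limits AlgebraicGeometry TopologicalSpace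

namespace Groth.Agent.Lib.R2H2.DevH

open Groth.Agent.Lib.R2H2.DevA Groth.Agent.Lib.R2H2.DevE

variable {Z X : Scheme.{u}} (i : Z ⟶ X) [IsClosedImmersion i]

instance faithful_push : (Scheme.Modules.pushforward i).Faithful := by
  haveI : ∀ F : Z.Modules,
      Epi ((Scheme.Modules.pullbackPushforwardAdjunction i).counit.app F) := fun F =>
    Groth.Agent.Lib.R2H2.ClosedPn.epi_counit_of_isEmbedding i i.isClosedEmbedding.isEmbedding F
  exact (Scheme.Modules.pullbackPushforwardAdjunction i).faithful_R_of_epi_counit_app

theorem exists_ideal_of_mono_pushO (Q : X.Modules) [Q.IsQuasicoherent]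
    (q : Q ⟶ (Scheme.Modules.pushforward i).obj (Coh.structureModule Z)) [Mono q] :
    ∃ (I : Z.Modules) (ι : I ⟶ Coh.structureModule Z), Mono ι ∧ Coh.IsQCoh I ∧
      Nonempty (Q ≅ (Scheme.Modules.pushforward i).obj I) := by
  let adj := Scheme.Modules.pullbackPushforwardAdjunction i
  -- `Q` is killed by the kernel of `i`
  have hkill : ∀ (U : X.affineOpens) (r : Γ(X, U.1)), r ∈ i.ker.ideal U →
      ∀ m : Γ(Q, U.1), r • m = 0 := by
    intro U r hr m
    apply Groth.Agent.Lib.Helper20.StalkExact.injective_app_of_mono q U.1
    rw [Scheme.Modules.Hom.app_smul, map_zero]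
    exact killed_push i (Coh.structureModule Z) U r hr _
  haveI hη : IsIso (adj.unit.app Q) := Groth.Agent.S0786.isIso_unit_closedImmersion i Q hkill
  let I : Z.Modules := (Scheme.Modules.pullback i).obj Q
  let ι : I ⟶ Coh.structureModule Z :=
    (Scheme.Modules.pullback i).map q ≫ adj.counit.app (Coh.structureModule Z)
  have hfac : adj.unit.app Q ≫ (Scheme.Modules.pushforward i).map ι = q := by
    change adj.unit.app Q ≫ (Scheme.Modules.pushforward i).map
      ((Scheme.Modules.pullback i).map q ≫ adj.counit.app (Coh.structureModule Z)) = q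
    rw [Functor.map_comp, ← Category.assoc]
    have hnat := adj.unit.naturality q
    simp only [Functor.id_obj, Functor.id_map, Functor.comp_obj, Functor.comp_map] at hnat
    rw [← hnat, Category.assoc, adj.right_triangle_components, Category.comp_id]
  haveI : Mono ((Scheme.Modules.pushforward i).map ι) := by
    have h1 : (Scheme.Modules.pushforward i).map ι = inv (adj.unit.app Q) ≫ q := by
      rw [← hfac, IsIso.inv_hom_id_assoc]
    rw [h1]
    infer_instance
  have hmono : Mono ι := (Scheme.Modules.pushforward i).mono_of_mono_map inferInstance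
  exact ⟨I, ι, hmono, inferInstanceAs (I.IsQuasicoherent), ⟨asIso (adj.unit.app Q)⟩⟩

end Groth.Agent.Lib.R2H2.DevH
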