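import Mathlib
import Groth.Agent.Lib.Helper23QCohLocal
import Groth.Agent.Lib.R2H2DevH
set_option backward.isDefEq.respectTransparency.types false

/-!
# Direct image along a closed immersion into an affine scheme reflects quasi-coherence (helper6)
-/

set_option autoImplicit false
set_option linter.style.haveILetI false
universe u
open CategoryTheory CategoryTheory.Limits AlgebraicGeometry TopologicalSpace Opposite

namespace Groth.Agent.Lib.H6xRelQc

open Groth.Agent.Lib.Helper2.Push Groth.Agent.Lib.Helper23.QCohLocal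

variable {Z T : Scheme.{u}}

lemma exists_extension_aux (c : Z ⟶ T) (N : Z.Modules) {V : T.Opens}
    (hloc : IsLocOn ((Scheme.Modules.pushforward c).obj N) V) (g : Γ(T, V))
    (W : Z.Opens) (hW : W = c ⁻¹ᵁ (T.basicOpen g)) (hle : W ≤ c ⁻¹ᵁ V) (s : Γ(N, W)) :
    ∃ (n : ℕ) (t : Γ(N, c ⁻¹ᵁ V)), N.presheaf.map (homOfLE hle).op t =
      (Z.presheaf.map (homOfLE hle).op (c.app V g)) ^ n • s := by
  subst hW
  obtain ⟨n, t, ht⟩ := hloc.exists_extension g s
  refine ⟨n, t, ?_⟩
  rw [pushforward_smul] at ht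
  refine ht.trans ?_
  congr 1
  rw [map_pow]
  congr 1
  have hnat := Scheme.Hom.naturality c (homOfLE (T.basicOpen_le g)).op
  have := congrArg (fun φ => φ g) hnat
  simp only [ConcreteCategory.comp_apply] at this
  exact this

lemma exists_pow_smul_eq_zero_aux (c : Z ⟶ T) (N : Z.Modules) {V : T.Opens}
    (hloc : IsLocOn ((Scheme.Modules.pushforward c).obj N) V) (g : Γ(T, V))
    (W : Z.Opens) (hW : W = c ⁻¹ᵁ (T.basicOpen g)) (hle : W ≤ c ⁻¹ᵁ V) (t : Γ(N, c ⁻¹ᵁ V))
    (ht : N.presheaf.map (homOfLE hle).op t = 0) : ∃ n : ℕ, (c.app V g) ^ n • t = 0 := by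
  subst hW
  obtain ⟨n, hn⟩ := hloc.exists_pow_smul_eq_zero g t ht
  refine ⟨n, ?_⟩
  rw [pushforward_smul, map_pow] at hn
  exact hn

/-- if `c_* N` is localizing on `V` and `c^♯` is surjective over `V`, then `N` is localizing on
`c⁻¹ V` -/
theorem isLocOn_of_pushforward (c : Z ⟶ T) (N : Z.Modules) {V : T.Opens}
    (hloc : IsLocOn ((Scheme.Modules.pushforward c).obj N) V)
    (hsurj : Function.Surjective (c.app V)) : IsLocOn N (c ⁻¹ᵁ V) := by
  constructor
  · intro f' s
    obtain ⟨g, rfl⟩ := hsurj f'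
    exact exists_extension_aux c N hloc g _ (Scheme.preimage_basicOpen c g).symm
      (Z.basicOpen_le _) s
  · intro f' t ht
    obtain ⟨g, rfl⟩ := hsurj f'
    exact exists_pow_smul_eq_zero_aux c N hloc g _ (Scheme.preimage_basicOpen c g).symm
      (Z.basicOpen_le _) t ht

/-- direct image along a closed immersion into an affine scheme reflects quasi-coherence -/
theorem isQuasicoherent_of_pushforward (c : Z ⟶ T) [IsClosedImmersion c] [IsAffine T]
    (N : Z.Modules) [((Scheme.Modules.pushforward c).obj N).IsQuasicoherent] :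
    N.IsQuasicoherent := by
  obtain ⟨hZ, hsurj⟩ := IsClosedImmersion.isAffine_surjective_of_isAffine c
  have hloc : IsLocOn N (c ⁻¹ᵁ ⊤) :=
    isLocOn_of_pushforward c N
      (IsLocOn.of_isQuasicoherent (isAffineOpen_top T) ((Scheme.Modules.pushforward c).obj N))
      hsurj
  have hloc' : IsLocOn N ⊤ := hloc
  refine isQuasicoherent_of_affine_cover N (fun _ : PUnit.{u + 1} => (⊤ : Z.Opens)) ?_
    (fun _ => isAffineOpen_top Z) (fun _ =>
      isQuasicoherent_restrict_fromSpec_of_isLocOn (isAffineOpen_top Z) N hloc')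
  rw [IsOpenCover, eq_top_iff]
  intro x _
  exact Opens.mem_iSup.2 ⟨PUnit.unit, trivial⟩

/-- direct image along a closed immersion reflects zero objects -/
theorem isZero_of_pushforward (c : Z ⟶ T) [IsClosedImmersion c]
    (N : Z.Modules) (h : IsZero ((Scheme.Modules.pushforward c).obj N)) : IsZero N := by
  rw [IsZero.iff_id_eq_zero]
  apply (Scheme.Modules.pushforward c).map_injective
  rw [CategoryTheory.Functor.map_id, Functor.map_zero]
  exact (IsZero.iff_id_eq_zero _).1 h

end Groth.Agent.Lib.H6xRelQc
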