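import Mathlib
import Groth.Prelude.Def_DerSch2
import Groth.Agent.Lib.H6xRelQcA
import Groth.Agent.Lib.H6xClImmAdjB
import Groth.Agent.Lib.H6xPC3B
import Groth.Agent.Lib.H6xRpushBd
set_option backward.isDefEq.respectTransparency.types false

/-!
# Relative pseudo-coherence (chart form): quasi-coherence and boundedness of cohomology (helper6)
-/

set_option autoImplicit false
set_option linter.style.haveILetI false
universe u
open CategoryTheory CategoryTheory.Limits AlgebraicGeometry TopologicalSpace Opposite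
  CategoryTheory.Pretriangulated

attribute [local instance] HasDerivedCategory.standard

namespace Groth.Agent.Lib.H6xRelQc

open Groth.Agent.Lib.H6xPCoh Groth.Agent.Lib.H6xPC3 DerivedCategory

variable {X Y : Scheme.{u}}

/-- the chart morphism of an affine open along a surjection is a closed immersion -/
theorem isClosedImmersion_chartImm {U : X.Opens} (hU : IsAffineOpen U) {R : Type u} [CommRing R]
    {n : ℕ} (φ : MvPolynomial (Fin n) R →+* Γ(X, U)) (hφ : Function.Surjective φ) :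
    IsClosedImmersion (DerSch.chartImm U φ) := by
  haveI : IsIso U.toSpecΓ := (inferInstance : IsIso hU.isoSpec.hom)
  haveI : IsClosedImmersion (Spec.map (CommRingCat.ofHom φ)) :=
    IsClosedImmersion.spec_of_surjective _ hφ
  unfold DerSch.chartImm
  infer_instance

/-- extracting a chart around a point from relative pseudo-coherence -/
theorem exists_chart (f : X ⟶ Y) (m : ℤ) (E : DCoh.D X) (hE : DerSch.IsPseudoCoherentRel f m E)
    (x : X) : ∃ (U : X.Opens) (V : Y.Opens) (n : ℕ)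
      (φ : MvPolynomial (Fin n) Γ(Y, V) →+* Γ(X, U)), x ∈ U ∧ IsAffineOpen U ∧ IsAffineOpen V ∧
        Function.Surjective φ ∧ DerSch.ChartPC m E U V φ := by
  obtain ⟨-, 𝒱, h𝒱, H⟩ := hE
  have hx : f x ∈ (⨆ V ∈ 𝒱, (V : Y.Opens)) := by rw [h𝒱]; trivial
  obtain ⟨V, hV⟩ := Opens.mem_iSup.1 hx
  obtain ⟨hV𝒱, hxV⟩ := Opens.mem_iSup.1 hV
  obtain ⟨𝒰, h𝒰, H'⟩ := H V hV𝒱
  have hx' : x ∈ (⨆ U ∈ 𝒰, (U : X.Opens)) := by rw [h𝒰]; exact hxV
  obtain ⟨U, hU⟩ := Opens.mem_iSup.1 hx'
  obtain ⟨hU𝒰, hxU⟩ := Opens.mem_iSup.1 hU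
  have hle : (U : X.Opens) ≤ f ⁻¹ᵁ (V : Y.Opens) := by
    rw [← h𝒰]
    exact le_iSup₂ (f := fun (U : X.affineOpens) (_ : U ∈ 𝒰) => (U : X.Opens)) U hU𝒰
  obtain ⟨n, φ, ⟨hsurj, -⟩, hPC⟩ := H' U hU𝒰 hle
  exact ⟨U, V, n, φ, hxU, U.2, V.2, hsurj, hPC⟩

section iso

variable {T : Scheme.{u}} (U : X.Opens) (c : (U : Scheme.{u}) ⟶ T) [IsClosedImmersion c]

instance : PreservesFiniteColimits (Scheme.Modules.pushforward c) := by
  haveI := Groth.Agent.Lib.H6xClImmAdj.pushforward_preservesColimits_of_isClosedEmbedding c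
    c.isClosedEmbedding
  exact PreservesColimitsOfSize.preservesFiniteColimits.{u, u} _

instance : PreservesFiniteLimits (Scheme.Modules.pushforward c) := by
  haveI := (Scheme.Modules.pullbackPushforwardAdjunction c).rightAdjoint_preservesLimits
  exact PreservesLimitsOfSize.preservesFiniteLimits.{u, u} _

/-- the cohomology of the chart complex is the direct image of the restricted cohomology -/
theorem nonempty_chart_homology_iso (E : DCoh.D X) (G : CochainComplex X.Modules ℤ)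
    (e : DCoh.toD X G ≅ E) (i : ℤ) :
    Nonempty ((Scheme.Modules.pushforward c).obj ((DCoh.HD E i).restrict U.ι) ≅
      DCoh.HD (DCoh.toD T ((DerSch.pushCx c).obj ((DCoh.restrictCx U).obj G))) i) := by
  let e1 : DCoh.HD E i ≅ G.homology i :=
    (DerivedCategory.homologyFunctor X.Modules i).mapIso e.symm ≪≫
      (DerivedCategory.homologyFunctorFactors X.Modules i).app G
  let e2 : (Scheme.Modules.restrictFunctor U.ι).obj (G.homology i) ≅
      ((DCoh.restrictCx U).obj G).homology i :=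
    ((mapHomologicalComplexHomologyIso (Scheme.Modules.restrictFunctor U.ι) i).app G).symm
  let e3 : (Scheme.Modules.pushforward c).obj (((DCoh.restrictCx U).obj G).homology i) ≅
      ((DerSch.pushCx c).obj ((DCoh.restrictCx U).obj G)).homology i :=
    ((mapHomologicalComplexHomologyIso (Scheme.Modules.pushforward c) i).app _).symm
  let e4 : ((DerSch.pushCx c).obj ((DCoh.restrictCx U).obj G)).homology i ≅
      DCoh.HD (DCoh.toD T ((DerSch.pushCx c).obj ((DCoh.restrictCx U).obj G))) i :=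
    ((DerivedCategory.homologyFunctorFactors T.Modules i).app _).symm
  exact ⟨(Scheme.Modules.pushforward c).mapIso
    ((Scheme.Modules.restrictFunctor U.ι).mapIso e1 ≪≫ e2) ≪≫ e3 ≪≫ e4⟩

end iso

/-- an `m`-pseudo-coherent object on a quasi-compact scheme is bounded above -/
theorem exists_isLE_of_isPseudoCoherentD [CompactSpace X] (E : DCoh.D X)
    (m : ℤ) (h : DCoh.IsPseudoCoherentD m E) : ∃ b : ℤ, E.IsLE b := by
  classical
  choose V hxV P hP hiso π hπ using exists_local_data m E h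
  obtain ⟨t, ht⟩ : ∃ t : Finset X, ∀ x : X, ∃ y ∈ t, x ∈ V y := by
    obtain ⟨t, ht⟩ := isCompact_univ.elim_finite_subcover (fun y : X => ((V y : X.Opens) : Set X))
      (fun y => (V y).isOpen) (fun x _ => Set.mem_iUnion.2 ⟨x, hxV x⟩)
    refine ⟨t, fun x => ?_⟩
    obtain ⟨y, hy⟩ := Set.mem_iUnion.1 (ht (Set.mem_univ x))
    obtain ⟨hyt, hxy⟩ := Set.mem_iUnion.1 hy
    exact ⟨y, hyt, hxy⟩
  choose a b hab using fun x => (hP x).1
  obtain ⟨B, hB⟩ := (t.image b).exists_le
  have hcov' : ∀ x : X, ∃ W ∈ t.image V, x ∈ W := fun x => by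
    obtain ⟨y, hy, hxy⟩ := ht x
    exact ⟨V y, Finset.mem_image_of_mem V hy, hxy⟩
  refine ⟨max B m, ?_⟩
  rw [isLE_iff]
  intro i hi
  refine Groth.Agent.Lib.H6xRpushQc.isZero_of_cover _ (t.image V) hcov' (fun W hW => ?_)
  obtain ⟨y, hy, rfl⟩ := Finset.mem_image.1 hW
  obtain ⟨e3⟩ := hiso y i (by have := le_max_right B m; omega)
  refine IsZero.of_iso ?_ e3.symm
  refine ShortComplex.isZero_homology_of_isZero_X₂ _ (hab y i (Or.inr ?_))
  have h2 := hB _ (Finset.mem_image_of_mem b hy)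
  have := le_max_left B m
  omega

/-- **S7213** -/
theorem isQCoh_homology_of_isPseudoCoherentRel (f : X ⟶ Y) (m : ℤ) (E : DCoh.D X)
    (hE : DerSch.IsPseudoCoherentRel f m E) (i : ℤ) (hi : m < i) : Coh.IsQCoh (DCoh.HD E i) := by
  choose U V n φ hxU hU hV hφ hPC using exists_chart f m E hE
  have hcov : IsOpenCover U := by
    rw [IsOpenCover, eq_top_iff]
    intro x _
    exact Opens.mem_iSup.2 ⟨x, hxU x⟩
  refine Groth.Agent.Lib.Helper23.FinType.isQuasicoherent_of_open_cover _ U hcov (fun x => ?_)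
  let G := (DerivedCategory.Q : _ ⥤ DCoh.D X).objPreimage E
  have eG : DCoh.toD X G ≅ E := DerivedCategory.Q.objObjPreimageIso E
  haveI := isClosedImmersion_chartImm (hU x) (φ x) (hφ x)
  obtain ⟨e⟩ := nonempty_chart_homology_iso (U x) (DerSch.chartImm (U x) (φ x)) E G eG i
  have hq := (qcoh_cohomology_of_pseudoCoherent m _ (hPC x G ⟨eG⟩)).1 i hi
  haveI : (DCoh.HD (DCoh.toD _ ((DerSch.pushCx (DerSch.chartImm (U x) (φ x))).obj
      ((DCoh.restrictCx (U x)).obj G))) i).IsQuasicoherent := hq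
  haveI : ((Scheme.Modules.pushforward (DerSch.chartImm (U x) (φ x))).obj
      ((DCoh.HD E i).restrict (U x).ι)).IsQuasicoherent :=
    Groth.Agent.Lib.Helper23.TensorQCoh.isQuasicoherent_of_iso e.symm
  exact isQuasicoherent_of_pushforward (DerSch.chartImm (U x) (φ x)) _

/-- **S6236** -/
theorem exists_isLE_of_isPseudoCoherentRel [CompactSpace X] (f : X ⟶ Y) (m : ℤ) (E : DCoh.D X)
    (hE : DerSch.IsPseudoCoherentRel f m E) : ∃ b : ℤ, E.IsLE b := by
  classical
  choose U V n φ hxU hU hV hφ hPC using exists_chart f m E hE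
  let G := (DerivedCategory.Q : _ ⥤ DCoh.D X).objPreimage E
  have eG : DCoh.toD X G ≅ E := DerivedCategory.Q.objObjPreimageIso E
  have hb : ∀ x : X, ∃ b : ℤ, ∀ i : ℤ, b < i → IsZero ((DCoh.HD E i).restrict (U x).ι) := by
    intro x
    haveI := isClosedImmersion_chartImm (hU x) (φ x) (hφ x)
    obtain ⟨b, hb⟩ := exists_isLE_of_isPseudoCoherentD _ m (hPC x G ⟨eG⟩)
    refine ⟨b, fun i hi => ?_⟩
    obtain ⟨e⟩ := nonempty_chart_homology_iso (U x) (DerSch.chartImm (U x) (φ x)) E G eG i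
    refine isZero_of_pushforward (DerSch.chartImm (U x) (φ x)) _ (IsZero.of_iso ?_ e)
    exact (isLE_iff _ b).1 hb i hi
  choose b hb using hb
  obtain ⟨t, ht⟩ : ∃ t : Finset X, ∀ x : X, ∃ y ∈ t, x ∈ U y := by
    obtain ⟨t, ht⟩ := isCompact_univ.elim_finite_subcover (fun y : X => ((U y : X.Opens) : Set X))
      (fun y => (U y).isOpen) (fun x _ => Set.mem_iUnion.2 ⟨x, hxU x⟩)
    refine ⟨t, fun x => ?_⟩
    obtain ⟨y, hy⟩ := Set.mem_iUnion.1 (ht (Set.mem_univ x))
    obtain ⟨hyt, hxy⟩ := Set.mem_iUnion.1 hy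
    exact ⟨y, hyt, hxy⟩
  obtain ⟨B, hB⟩ := (t.image b).exists_le
  have hcov' : ∀ x : X, ∃ W ∈ t.image U, x ∈ W := fun x => by
    obtain ⟨y, hy, hxy⟩ := ht x
    exact ⟨U y, Finset.mem_image_of_mem U hy, hxy⟩
  refine ⟨B, ?_⟩
  rw [isLE_iff]
  intro i hi
  refine Groth.Agent.Lib.H6xRpushQc.isZero_of_cover _ (t.image U) hcov' (fun W hW => ?_)
  obtain ⟨y, hy, rfl⟩ := Finset.mem_image.1 hW
  refine hb y i ?_
  have h2 := hB _ (Finset.mem_image_of_mem b hy)
  omega

end Groth.Agent.Lib.H6xRelQc
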