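import Mathlib
set_option backward.isDefEq.respectTransparency.types false

/-!
# K-injective complexes: lifting maps, mapping cones (helper6)
-/

set_option autoImplicit false
set_option linter.style.haveILetI false
universe u
open CategoryTheory CategoryTheory.Limits CategoryTheory.Pretriangulated

namespace Groth.Agent.Lib.H6xRpushTri

variable {C : Type*} [Category C] [Abelian C]

/-- the mapping cone of a morphism between K-injective complexes is K-injective -/
lemma isKInjective_mappingCone {K L : CochainComplex C ℤ} [hK : K.IsKInjective]
    [hL : L.IsKInjective] (φ : K ⟶ L) : (CochainComplex.mappingCone φ).IsKInjective := by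
  rw [CochainComplex.isKInjective_iff_rightOrthogonal] at hK hL ⊢
  exact (HomotopyCategory.subcategoryAcyclic C).rightOrthogonal.ext_of_isTriangulatedClosed₃
    _ (HomotopyCategory.mappingCone_triangleh_distinguished φ) hK hL

variable [HasDerivedCategory C]

/-- morphisms in the derived category into a K-injective complex lift to chain maps -/
lemma exists_map_eq_of_isKInjective (K L : CochainComplex C ℤ) [L.IsKInjective]
    (a : DerivedCategory.Q.obj K ⟶ DerivedCategory.Q.obj L) :
    ∃ φ : K ⟶ L, DerivedCategory.Q.map φ = a := by
  obtain ⟨g, hg⟩ := (CochainComplex.IsKInjective.Qh_map_bijective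
    ((HomotopyCategory.quotient _ _).obj K) L).surjective
      ((DerivedCategory.quotientCompQhIso C).hom.app K ≫ a ≫
        (DerivedCategory.quotientCompQhIso C).inv.app L)
  obtain ⟨φ, rfl⟩ := (HomotopyCategory.quotient _ _).map_surjective g
  refine ⟨φ, ?_⟩
  have h := (DerivedCategory.quotientCompQhIso C).hom.naturality φ
  simp only [Functor.comp_map] at h
  rw [hg] at h
  simp only [Category.assoc, Iso.inv_hom_id_app, Category.comp_id] at h
  exact ((cancel_epi _).1 h).symm

end Groth.Agent.Lib.H6xRpushTri
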