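import Mathlib
import Groth.Prelude.Def_DCoh3
import Groth.Agent.Lib.H6xRpushTriA
import Groth.Agent.Lib.H6xMVF
set_option backward.isDefEq.respectTransparency.types false

/-!
# Total right derived functors on `D(O_X)`: distinguished triangles and shifts, objectwise
(helper6)
-/

set_option autoImplicit false
set_option linter.style.haveILetI false
universe u
open CategoryTheory CategoryTheory.Limits AlgebraicGeometry TopologicalSpace Opposite
  CategoryTheory.Pretriangulated

attribute [local instance] HasDerivedCategory.standard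

namespace Groth.Agent.Lib.H6xRpushTri

open Groth.Agent.Lib.H6xMV DerivedCategory CochainComplex

section RD

variable {X : Scheme.{u}} {A' : Type*} [Category A'] [Abelian A'] [HasDerivedCategory A']
  (G : X.Modules ⥤ A') [G.Additive]
  [(G.mapHomotopyCategory (ComplexShape.up ℤ) ⋙ DerivedCategory.Qh).HasRightDerivedFunctor
    (HomotopyCategory.quasiIso X.Modules (ComplexShape.up ℤ))]

/-- the total right derived functor of `G` -/
noncomputable abbrev RG : DCoh.D X ⥤ DerivedCategory A' :=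
  (G.mapHomotopyCategory (ComplexShape.up ℤ) ⋙ DerivedCategory.Qh).totalRightDerived
    DerivedCategory.Qh (HomotopyCategory.quasiIso X.Modules (ComplexShape.up ℤ))

/-- a total right derived functor sends distinguished triangles to distinguished triangles
(objectwise form) -/
theorem exists_distTriang (T : Triangle (DCoh.D X)) (hT : T ∈ distTriang (DCoh.D X)) :
    ∃ T' : Triangle (DerivedCategory A'), T' ∈ distTriang (DerivedCategory A') ∧
      Nonempty (T'.obj₁ ≅ (RG G).obj T.obj₁) ∧ Nonempty (T'.obj₂ ≅ (RG G).obj T.obj₂) ∧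
      Nonempty (T'.obj₃ ≅ (RG G).obj T.obj₃) := by
  obtain ⟨I₁, hI₁, -, ⟨e₁⟩⟩ := exists_kInjective_iso' T.obj₁
  obtain ⟨I₂, hI₂, -, ⟨e₂⟩⟩ := exists_kInjective_iso' T.obj₂
  obtain ⟨φ, hφ⟩ := exists_map_eq_of_isKInjective I₁ I₂ (e₁.hom ≫ T.mor₁ ≫ e₂.inv)
  haveI := isKInjective_mappingCone φ
  have hT₀ := DerivedCategory.mappingCone_triangle_distinguished φ
  let eT : DerivedCategory.Q.mapTriangle.obj (mappingCone.triangle φ) ≅ T :=
    isoTriangleOfIso₁₂ _ _ hT₀ hT e₁ e₂ (by
      change DerivedCategory.Q.map φ ≫ e₂.hom = e₁.hom ≫ T.mor₁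
      rw [hφ]
      simp)
  let e₃ : DerivedCategory.Q.obj (mappingCone φ) ≅ T.obj₃ := Triangle.π₃.mapIso eT
  refine ⟨DerivedCategory.Q.mapTriangle.obj
    (mappingCone.triangle ((G.mapHomologicalComplex (ComplexShape.up ℤ)).map φ)),
    DerivedCategory.mappingCone_triangle_distinguished _,
    ⟨rdIso G I₁ ≪≫ (RG G).mapIso e₁⟩, ⟨rdIso G I₂ ≪≫ (RG G).mapIso e₂⟩, ⟨?_⟩⟩
  exact DerivedCategory.Q.mapIso (mappingCone.mapHomologicalComplexIso φ G).symm ≪≫
    rdIso G (mappingCone φ) ≪≫ (RG G).mapIso e₃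

/-- a total right derived functor commutes with shifts (objectwise form) -/
theorem nonempty_shift_iso (E : DCoh.D X) (a : ℤ) :
    Nonempty ((RG G).obj (E⟦a⟧) ≅ ((RG G).obj E)⟦a⟧) := by
  obtain ⟨I, hI, -, ⟨e⟩⟩ := exists_kInjective_iso' E
  let e1 : DerivedCategory.Q.obj (I⟦a⟧) ≅ E⟦a⟧ :=
    (DerivedCategory.Q.commShiftIso a).app I ≪≫ (CategoryTheory.shiftFunctor _ a).mapIso e
  let e2 : (G.mapHomologicalComplex (ComplexShape.up ℤ)).obj (I⟦a⟧) ≅
      ((G.mapHomologicalComplex (ComplexShape.up ℤ)).obj I)⟦a⟧ :=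
    ((G.mapHomologicalComplex (ComplexShape.up ℤ)).commShiftIso a).app I
  exact ⟨(RG G).mapIso e1.symm ≪≫ (rdIso G (I⟦a⟧)).symm ≪≫ DerivedCategory.Q.mapIso e2 ≪≫
    (DerivedCategory.Q.commShiftIso a).app _ ≪≫
    (CategoryTheory.shiftFunctor _ a).mapIso (rdIso G I ≪≫ (RG G).mapIso e)⟩

end RD

end Groth.Agent.Lib.H6xRpushTri
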