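import Mathlib
import Groth.Prelude.Def_DCoh3
import Groth.Agent.Lib.H6xRpushTriB
import Groth.Agent.Lib.H6xRpushBd
import Groth.Agent.Lib.H6xRelQcB
import Groth.Agent.Lib.H6xPC4A
set_option backward.isDefEq.respectTransparency.types false

/-!
# `Rf_*` of unbounded pseudo-coherent objects via truncation (helper6)
-/

set_option autoImplicit false
set_option linter.style.haveILetI false
universe u
open CategoryTheory CategoryTheory.Limits AlgebraicGeometry TopologicalSpace Opposite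
  CategoryTheory.Pretriangulated

attribute [local instance] HasDerivedCategory.standard

namespace Groth.Agent.Lib.H6xRpushTri

open Groth.Agent.Lib.H6xPCoh Groth.Agent.Lib.H6xPC3 Groth.Agent.Lib.H6xRpushQc
  Groth.Agent.Lib.H6xQcTrunc DerivedCategory

variable {X Y : Scheme.{u}} (f : X ⟶ Y) [DCoh.HasRpush f]

/-- `Rf_*` sends distinguished triangles to distinguished triangles (objectwise form) -/
theorem exists_distTriang_Rpush (T : Triangle (DCoh.D X)) (hT : T ∈ distTriang (DCoh.D X)) :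
    ∃ T' : Triangle (DCoh.D Y), T' ∈ distTriang (DCoh.D Y) ∧
      Nonempty (T'.obj₁ ≅ (DCoh.Rpush f).obj T.obj₁) ∧
      Nonempty (T'.obj₂ ≅ (DCoh.Rpush f).obj T.obj₂) ∧
      Nonempty (T'.obj₃ ≅ (DCoh.Rpush f).obj T.obj₃) :=
  exists_distTriang (Scheme.Modules.pushforward f) T hT

/-- `Rf_*` commutes with shifts (objectwise form) -/
theorem nonempty_Rpush_shift_iso (E : DCoh.D X) (a : ℤ) :
    Nonempty ((DCoh.Rpush f).obj (E⟦a⟧) ≅ ((DCoh.Rpush f).obj E)⟦a⟧) :=
  nonempty_shift_iso (Scheme.Modules.pushforward f) E a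

/-- shifted form of the uniform bound for `Rf_*` -/
theorem isLE_Rpush_of_bd {N : ℤ} (hN : Bd f N) (E : DCoh.D X) (hE : DCoh.IsQCohD E) (a : ℤ)
    [E.IsLE a] : ((DCoh.Rpush f).obj E).IsLE (N + a - 1) := by
  rw [isLE_iff]
  intro j hj
  haveI : (E⟦a⟧).IsLE 0 := TStructure.t.isLE_shift E a a 0 (by omega)
  have hq : DCoh.IsQCohD (E⟦a⟧) := fun i =>
    isQCoh_of_iso (((DerivedCategory.homologyFunctor X.Modules 0).shiftIso a i (a + i) rfl).app
      E).symm (hE (a + i))
  have hz := hN (E⟦a⟧) hq inferInstance (j - a) (by omega)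
  obtain ⟨e⟩ := nonempty_Rpush_shift_iso f E a
  have e2 : (DerivedCategory.homologyFunctor Y.Modules (j - a)).obj
      (((DCoh.Rpush f).obj E)⟦a⟧) ≅
      (DerivedCategory.homologyFunctor Y.Modules j).obj ((DCoh.Rpush f).obj E) :=
    ((DerivedCategory.homologyFunctor Y.Modules 0).shiftIso a (j - a) j (by omega)).app _
  exact IsZero.of_iso hz (e2.symm ≪≫ (DerivedCategory.homologyFunctor Y.Modules (j - a)).mapIso
    e.symm)

/-- **S11122** -/
theorem Rpush_pseudoCoherent_of_bounded_shift [QuasiCompact f] [QuasiSeparated f]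
    [CompactSpace Y] (k : ℤ)
    (hK : ∀ (F : DCoh.D X) (n a b : ℤ), F.IsGE a → F.IsLE b → DCoh.IsPseudoCoherentD n F →
      DCoh.IsPseudoCoherentD (n + k) ((DCoh.Rpush f).obj F))
    (F : DCoh.D X) (hF : ∀ m : ℤ, DCoh.IsPseudoCoherentD m F) (m : ℤ) :
    DCoh.IsPseudoCoherentD m ((DCoh.Rpush f).obj F) := by
  haveI : CompactSpace X := by
    have := QuasiCompact.isCompact_preimage (f := f) Set.univ isOpen_univ isCompact_univ
    rw [Set.preimage_univ] at this
    exact isCompact_univ_iff.1 this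
  obtain ⟨N, hN⟩ := main_bd f
  obtain ⟨b, hb⟩ := Groth.Agent.Lib.H6xRelQc.exists_isLE_of_isPseudoCoherentD F 0 (hF 0)
  have hqc : DCoh.IsQCohD F := fun i =>
    (qcoh_cohomology_of_pseudoCoherent (i - 1) F (hF (i - 1))).1 i (by omega)
  obtain ⟨a, ha⟩ : ∃ a : ℤ, a = m + 1 - max N k := ⟨_, rfl⟩
  obtain ⟨X₁, X₂, hX₁, hX₂, u, v, w, hT⟩ := TStructure.t.exists_triangle F (a - 1) a (by omega)
  haveI : X₁.IsLE (a - 1) := ⟨hX₁⟩
  haveI : X₂.IsGE a := ⟨hX₂⟩
  let T := Triangle.mk u v w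
  have hX₁z : ∀ i : ℤ, a - 1 < i → IsZero ((homologyFunctor _ i).obj X₁) := fun i hi =>
    isZero_of_isLE X₁ (a - 1) i hi
  have hX₂z : ∀ i : ℤ, i < a → IsZero ((homologyFunctor _ i).obj X₂) := fun i hi =>
    isZero_of_isGE X₂ a i hi
  have hiso : ∀ i : ℤ, i ≤ a - 1 → IsIso ((homologyFunctor _ i).map u) := by
    intro i hi
    haveI : Mono ((homologyFunctor _ i).map T.mor₁) :=
      (HomologySequence.mono_homologyMap_mor₁_iff T hT (i - 1) i (by omega)).2
        ((hX₂z (i - 1) (by omega)).eq_of_src _ _)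
    haveI : Epi ((homologyFunctor _ i).map T.mor₁) :=
      (HomologySequence.epi_homologyMap_mor₁_iff T hT i).2
        ((hX₂z i (by omega)).eq_of_tgt _ _)
    exact isIso_of_mono_of_epi ((homologyFunctor _ i).map T.mor₁)
  have hqcX₁ : DCoh.IsQCohD X₁ := by
    intro i
    by_cases hib : i ≤ a - 1
    · haveI := hiso i hib
      exact isQCoh_of_iso (asIso ((homologyFunctor _ i).map u)).symm (hqc i)
    · exact isQCoh_of_isZero _ (hX₁z i (by omega))
  -- `X₂` is bounded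
  haveI : X₂.IsLE (max b a) := by
    rw [isLE_iff]
    intro i hi
    have hEz : IsZero ((homologyFunctor _ i).obj F) :=
      isZero_of_isLE F b i (lt_of_le_of_lt (le_max_left b a) hi)
    exact (HomologySequence.exact₃ T hT i (i + 1) rfl).isZero_of_both_zeros
      (hEz.eq_of_src _ _)
      ((hX₁z (i + 1) (by have := le_max_right b a; omega)).eq_of_tgt _ _)
  -- `X₂` is `(a - 1)`-pseudo-coherent
  have hX₁pc : DCoh.IsPseudoCoherentD (a - 1 + 1) X₁ := by
    haveI : X₁.IsLE (a - 1 + 1 - 1) := by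
      rw [show a - 1 + 1 - 1 = a - 1 by omega]; infer_instance
    exact (pcGlobal_of_isLE (a - 1 + 1) X₁).isPseudoCoherentD
  have hX₂pc : DCoh.IsPseudoCoherentD (a - 1) X₂ :=
    (triangle (a - 1) T hT).1 hX₁pc (hF (a - 1))
  have hR₂ := hK X₂ (a - 1) a (max b a) inferInstance inferInstance hX₂pc
  -- `Rf_* X₁` is bounded above
  haveI hR₁ := isLE_Rpush_of_bd f hN X₁ hqcX₁ (a - 1)
  obtain ⟨T', hT', ⟨e₁⟩, ⟨e₂⟩, ⟨e₃⟩⟩ := exists_distTriang_Rpush f T hT
  have hm₁ : N + (a - 1) - 1 ≤ m - 1 := by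
    have := le_max_left N k; omega
  have hm₃ : a - 1 + k ≤ m := by
    have := le_max_right N k; omega
  have h₁ : DCoh.IsPseudoCoherentD m T'.obj₁ := by
    haveI : ((DCoh.Rpush f).obj X₁).IsLE (m - 1) :=
      TStructure.t.isLE_of_le _ _ _ hm₁
    exact isPseudoCoherentD_of_iso' e₁.symm
      (pcGlobal_of_isLE m ((DCoh.Rpush f).obj X₁)).isPseudoCoherentD
  have h₃ : DCoh.IsPseudoCoherentD m T'.obj₃ :=
    isPseudoCoherentD_of_iso' e₃.symm (isPseudoCoherentD_mono hm₃ hR₂)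
  exact isPseudoCoherentD_of_iso' e₂ ((triangle m T' hT').2.1 h₁ h₃)

end Groth.Agent.Lib.H6xRpushTri
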