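import Mathlib
import Groth.Agent.Lib.H6xFinPushA
import Groth.Agent.Lib.H6xRpushTriC
set_option backward.isDefEq.respectTransparency.types false

/-!
# Top cohomology of `Rf_* E` for `f` affine and `E` in `D_QCoh`, bounded above (helper6)
-/

set_option autoImplicit false
set_option linter.style.haveILetI false

universe u

open CategoryTheory CategoryTheory.Limits Opposite AlgebraicGeometry TopologicalSpace
  CategoryTheory.Pretriangulated

attribute [local instance] HasDerivedCategory.standard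

namespace Groth.Agent.Lib.H6xFinPush

open Groth.Agent.Lib.Helper17.Hyp Groth.Agent.Lib.Helper17.KInj Groth.Agent.Lib.H6xRpushRes
  Groth.Agent.Lib.H6xMV Groth.Agent.Lib.H6xQcTrunc Groth.Agent.Lib.H6xAffPush DerivedCategory
  Groth.Agent.Lib.H6xRpushTri

section Trunc

variable {X : Scheme.{u}}

/-- the truncation triangle of an object of `D^{≤ n}` at its top cohomology -/
theorem exists_top_triangle (E : DCoh.D X) (n : ℤ) [E.IsLE n] :
    ∃ (X₁ : DCoh.D X) (A : X.Modules) (u' : X₁ ⟶ E)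
      (v : E ⟶ (DerivedCategory.singleFunctor X.Modules n).obj A)
      (w : (DerivedCategory.singleFunctor X.Modules n).obj A ⟶ X₁⟦(1 : ℤ)⟧),
      Triangle.mk u' v w ∈ distTriang (DCoh.D X) ∧ X₁.IsLE (n - 1) ∧
      Nonempty ((homologyFunctor X.Modules n).obj E ≅ A) ∧
      ∀ j : ℤ, j < n → IsIso ((homologyFunctor X.Modules j).map u') := by
  obtain ⟨X₁, X₂, hX₁, hX₂, u', v, w, hT⟩ := TStructure.t.exists_triangle E (n - 1) n (by omega)
  haveI : X₁.IsLE (n - 1) := ⟨hX₁⟩
  haveI : X₂.IsGE n := ⟨hX₂⟩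
  let T := Triangle.mk u' v w
  have hX₁z : ∀ j : ℤ, n - 1 < j → IsZero ((homologyFunctor _ j).obj X₁) := fun j hj =>
    isZero_of_isLE X₁ (n - 1) j hj
  have hEz : ∀ j : ℤ, n < j → IsZero ((homologyFunctor _ j).obj E) := fun j hj =>
    isZero_of_isLE E n j hj
  have hX₂z : ∀ j : ℤ, j < n → IsZero ((homologyFunctor _ j).obj X₂) := fun j hj =>
    isZero_of_isGE X₂ n j hj
  haveI : X₂.IsLE n := by
    rw [isLE_iff]
    intro j hj
    exact (HomologySequence.exact₃ T hT j (j + 1) rfl).isZero_of_both_zeros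
      ((hEz j hj).eq_of_src _ _) ((hX₁z (j + 1) (by omega)).eq_of_tgt _ _)
  obtain ⟨A, ⟨eA⟩⟩ := exists_iso_singleFunctor_obj_of_isGE_of_isLE X₂ n
  haveI hvb : IsIso ((homologyFunctor _ n).map v) := by
    haveI : Mono ((homologyFunctor _ n).map T.mor₂) :=
      (HomologySequence.mono_homologyMap_mor₂_iff T hT n).2
        ((hX₁z n (by omega)).eq_of_src _ _)
    haveI : Epi ((homologyFunctor _ n).map T.mor₂) :=
      (HomologySequence.epi_homologyMap_mor₂_iff T hT n (n + 1) rfl).2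
        ((hX₁z (n + 1) (by omega)).eq_of_tgt _ _)
    exact isIso_of_mono_of_epi ((homologyFunctor _ n).map T.mor₂)
  let eHA : (homologyFunctor X.Modules n).obj E ≅ A :=
    asIso ((homologyFunctor _ n).map v) ≪≫ (homologyFunctor _ n).mapIso eA ≪≫
      (singleFunctorCompHomologyFunctorIso X.Modules n).app A
  refine ⟨X₁, A, u', v ≫ eA.hom, eA.inv ≫ w, ?_, inferInstance, ⟨eHA⟩, fun j hj => ?_⟩
  · refine isomorphic_distinguished _ hT _ ?_
    refine Triangle.isoMk _ _ (Iso.refl _) (Iso.refl _) eA.symm ?_ ?_ ?_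
    · change u' ≫ 𝟙 E = 𝟙 X₁ ≫ u'
      rw [Category.comp_id, Category.id_comp]
    · change (v ≫ eA.hom) ≫ eA.inv = 𝟙 E ≫ v
      rw [Category.assoc, Iso.hom_inv_id, Category.comp_id, Category.id_comp]
    · change (eA.inv ≫ w) ≫ (𝟙 X₁)⟦(1 : ℤ)⟧' = eA.inv ≫ w
      rw [CategoryTheory.Functor.map_id, Category.comp_id]
  · haveI : Mono ((homologyFunctor _ j).map T.mor₁) :=
      (HomologySequence.mono_homologyMap_mor₁_iff T hT (j - 1) j (by omega)).2
        ((hX₂z (j - 1) (by omega)).eq_of_src _ _)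
    haveI : Epi ((homologyFunctor _ j).map T.mor₁) :=
      (HomologySequence.epi_homologyMap_mor₁_iff T hT j).2
        ((hX₂z j hj).eq_of_tgt _ _)
    exact isIso_of_mono_of_epi ((homologyFunctor _ j).map T.mor₁)

/-- the truncation `τ_{≤ n-1}` of an object of `D_QCoh` is in `D_QCoh` -/
lemma isQCohD_of_isIso_lt {X₁ E : DCoh.D X} (u' : X₁ ⟶ E) (n : ℤ) [X₁.IsLE (n - 1)]
    (hE : DCoh.IsQCohD E)
    (h : ∀ j : ℤ, j < n → IsIso ((homologyFunctor X.Modules j).map u')) : DCoh.IsQCohD X₁ := by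
  intro j
  by_cases hj : j < n
  · haveI := h j hj
    exact isQCoh_of_iso (asIso ((homologyFunctor X.Modules j).map u')).symm (hE j)
  · exact isQCoh_of_isZero _ (isZero_of_isLE X₁ (n - 1) j (by omega))

end Trunc

section Top

variable {X S : Scheme.{u}} (f : X ⟶ S) [IsAffineHom f] [DCoh.HasRpush f]

/-- `Rf_*` of a quasi-coherent module placed in degree `n` -/
theorem nonempty_Rpush_single_iso (A : X.Modules) (hA : Coh.IsQCoh A) (n : ℤ) :
    Nonempty ((DCoh.Rpush f).obj ((DerivedCategory.singleFunctor X.Modules n).obj A) ≅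
      (DerivedCategory.singleFunctor S.Modules n).obj
        ((Scheme.Modules.pushforward f).obj A)) := by
  let SA := (HomologicalComplex.single X.Modules (ComplexShape.up ℤ) n).obj A
  have hF : ∀ k, Coh.IsQCoh (SA.X k) := fun k => by
    by_cases hk : k = n
    · subst hk
      exact isQCoh_of_iso (HomologicalComplex.singleObjXSelf (ComplexShape.up ℤ) k A).symm hA
    · exact isQCoh_of_isZero _
        (HomologicalComplex.isZero_single_obj_X (ComplexShape.up ℤ) n A k hk)
  haveI := isIso_βf_app_of_affine f SA hF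
  exact ⟨(asIso ((βf f).app SA)).symm ≪≫ DerivedCategory.Q.mapIso
    ((HomologicalComplex.singleMapHomologicalComplex (Scheme.Modules.pushforward f)
      (ComplexShape.up ℤ) n).app A)⟩

/-- the top cohomology of `Rf_* E` is `f_*` of the top cohomology of `E` -/
theorem nonempty_top_iso (E : DCoh.D X) (hE : DCoh.IsQCohD E) (n : ℤ) [E.IsLE n] :
    Nonempty ((homologyFunctor S.Modules n).obj ((DCoh.Rpush f).obj E) ≅
      (Scheme.Modules.pushforward f).obj ((homologyFunctor X.Modules n).obj E)) := by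
  obtain ⟨X₁, A, u', v, w, hT, hX₁, ⟨eHA⟩, hiso⟩ := exists_top_triangle E n
  haveI := hX₁
  have hq₁ : DCoh.IsQCohD X₁ := isQCohD_of_isIso_lt u' n hE hiso
  have hA : Coh.IsQCoh A := isQCoh_of_iso eHA (hE n)
  haveI : ((DCoh.Rpush f).obj X₁).IsLE (n - 1) :=
    (isLE_Rpush_iff f X₁ hq₁ (n - 1)).2 inferInstance
  obtain ⟨T', hT', ⟨e₁⟩, ⟨e₂⟩, ⟨e₃⟩⟩ := exists_distTriang_Rpush f _ hT
  have hz : ∀ j : ℤ, n - 1 < j → IsZero ((homologyFunctor S.Modules j).obj T'.obj₁) :=
    fun j hj => IsZero.of_iso (isZero_of_isLE ((DCoh.Rpush f).obj X₁) (n - 1) j hj)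
      ((homologyFunctor S.Modules j).mapIso e₁)
  haveI : IsIso ((homologyFunctor S.Modules n).map T'.mor₂) := by
    haveI : Mono ((homologyFunctor S.Modules n).map T'.mor₂) :=
      (HomologySequence.mono_homologyMap_mor₂_iff T' hT' n).2
        ((hz n (by omega)).eq_of_src _ _)
    haveI : Epi ((homologyFunctor S.Modules n).map T'.mor₂) :=
      (HomologySequence.epi_homologyMap_mor₂_iff T' hT' n (n + 1) rfl).2
        ((hz (n + 1) (by omega)).eq_of_tgt _ _)
    exact isIso_of_mono_of_epi _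
  obtain ⟨e₄⟩ := nonempty_Rpush_single_iso f A hA n
  exact ⟨(homologyFunctor S.Modules n).mapIso e₂.symm ≪≫
    asIso ((homologyFunctor S.Modules n).map T'.mor₂) ≪≫
    (homologyFunctor S.Modules n).mapIso (e₃ ≪≫ e₄) ≪≫
    (singleFunctorCompHomologyFunctorIso S.Modules n).app _ ≪≫
    (Scheme.Modules.pushforward f).mapIso eHA.symm⟩

end Top

end Groth.Agent.Lib.H6xFinPush
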