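import Mathlib
import Groth.Prelude.Def_CohB1
import Groth.Prelude.Def_FlatMod2
import Groth.Agent.Lib.Helper23FinType2
import Groth.Agent.Lib.Helper2FinPushFP
set_option backward.isDefEq.respectTransparency.types false

/-!
# Finite type quasi-coherent modules on affine schemes are quotients of finite free modules
(helper6)
-/

set_option autoImplicit false
set_option linter.style.haveILetI false

universe u

open CategoryTheory CategoryTheory.Limits Opposite AlgebraicGeometry TopologicalSpace

namespace Groth.Agent.Lib.H6xFinPush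

open Groth.Agent.Lib.Helper23.FinType Groth.Agent.Lib.Helper23.QCohLocal

variable {X : Scheme.{u}}

theorem exists_epi_free_of_isFT [IsAffine X] (M : X.Modules) (hq : Coh.IsQCoh M)
    (hft : CohB1.IsFT M) :
    ∃ (I : Type u) (_ : Finite I) (π : SheafOfModules.free (R := X.ringCatSheaf) I ⟶ M),
      Epi π := by
  haveI : M.IsQuasicoherent := hq
  haveI : SheafOfModules.IsFiniteType (R := X.ringCatSheaf) M := hft
  have hU : IsAffineOpen (⊤ : X.Opens) := isAffineOpen_top X
  haveI : Module.Finite Γ(X, ⊤) Γ(M, ⊤) := finite_of_isFiniteType M hU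
  haveI : Module.Finite Γ(X, ⊤) (ΓU M hU) := (finite_ΓU_iff M hU).2 inferInstance
  obtain ⟨G, hG⟩ := exists_generatingSections_of_finite_ΓU M hU
  let G' := generatingSectionsOfComp M X.topIso.inv (⊤ : X.Opens).ι (𝟙 X) X.toIso_inv_ι G
  haveI : G'.IsFiniteType := inferInstance
  let G'' : M.GeneratingSections := G'.ofEpi (Scheme.Modules.restrictFunctorId.hom.app M)
  haveI : Finite G''.I := hG.finite
  exact ⟨G''.I, inferInstance, G''.π, G''.epi⟩

/-- for a finite morphism to an affine scheme: if `f_* M` is of finite type, `M` quasi-coherent,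
then `M` is a quotient of a finite free module -/
theorem exists_epi_free_of_isFT_push {Y : Scheme.{u}} (f : X ⟶ Y) [IsFinite f] [IsAffine Y]
    (M : X.Modules) (hq : Coh.IsQCoh M)
    (hft : CohB1.IsFT ((Scheme.Modules.pushforward f).obj M)) :
    ∃ (I : Type u) (_ : Finite I) (π : SheafOfModules.free (R := X.ringCatSheaf) I ⟶ M),
      Epi π := by
  haveI : M.IsQuasicoherent := hq
  haveI : IsAffine X := isAffine_of_isAffineHom f
  exact exists_epi_free_of_isFT M hq
    ((Groth.Agent.Lib.Helper2.FinPushFP.isFiniteType_pushforward_iff f M).2 hft)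

/-- version with `FlatMod.freeMod` -/
theorem exists_epi_freeMod_of_isFT_push {Y : Scheme.{u}} (f : X ⟶ Y) [IsFinite f] [IsAffine Y]
    (M : X.Modules) (hq : Coh.IsQCoh M)
    (hft : CohB1.IsFT ((Scheme.Modules.pushforward f).obj M)) :
    ∃ (r : ℕ) (π : FlatMod.freeMod X r ⟶ M), Epi π := by
  obtain ⟨I, hI, π, hπ⟩ := exists_epi_free_of_isFT_push f M hq hft
  obtain ⟨r, ⟨e⟩⟩ := Finite.exists_equiv_fin I
  let ε : FlatMod.freeMod X r ≅ SheafOfModules.free (R := X.ringCatSheaf) I :=
    Sigma.whiskerEquiv (f := fun _ : Fin r => Coh.structureModule X)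
      (g := fun _ : I => SheafOfModules.unit X.ringCatSheaf) e.symm (fun _ => Iso.refl _)
  exact ⟨r, ε.hom ≫ π, epi_comp' inferInstance hπ⟩

theorem exists_epi_freeMod_of_isFT [IsAffine X] (M : X.Modules) (hq : Coh.IsQCoh M)
    (hft : CohB1.IsFT M) : ∃ (r : ℕ) (π : FlatMod.freeMod X r ⟶ M), Epi π := by
  obtain ⟨I, hI, π, hπ⟩ := exists_epi_free_of_isFT M hq hft
  obtain ⟨r, ⟨e⟩⟩ := Finite.exists_equiv_fin I
  let ε : FlatMod.freeMod X r ≅ SheafOfModules.free (R := X.ringCatSheaf) I :=
    Sigma.whiskerEquiv (f := fun _ : Fin r => Coh.structureModule X)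
      (g := fun _ : I => SheafOfModules.unit X.ringCatSheaf) e.symm (fun _ => Iso.refl _)
  exact ⟨r, ε.hom ≫ π, epi_comp' inferInstance hπ⟩

end Groth.Agent.Lib.H6xFinPush
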