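import Mathlib
import Groth.Agent.Lib.H6xFinPushB
import Groth.Agent.Lib.H6xFinPushC
import Groth.Agent.Lib.Helper23Serre2
set_option backward.isDefEq.respectTransparency.types false

/-!
# Killing the top cohomology of an object of `D_QCoh` on an affine scheme (helper6)
-/

set_option autoImplicit false
set_option linter.style.haveILetI false

universe u

open CategoryTheory CategoryTheory.Limits Opposite AlgebraicGeometry TopologicalSpace
  CategoryTheory.Pretriangulated

attribute [local instance] HasDerivedCategory.standard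

namespace Groth.Agent.Lib.H6xFinPush

open Groth.Agent.Lib.Helper17.Hyp Groth.Agent.Lib.Helper17.KInj Groth.Agent.Lib.H6xRpushRes
  Groth.Agent.Lib.H6xMV Groth.Agent.Lib.H6xQcTrunc Groth.Agent.Lib.H6xAffPush DerivedCategory
  Groth.Agent.Lib.H6xRpushTri Groth.Agent.Lib.H6xTilde Groth.Agent.Lib.H6xGamAc

section Sigma

attribute [local instance] Abelian.hasFiniteBiproducts

variable {A : Type*} [Category A] [Abelian A] {D : Type*} [Category D] [Preadditive D]
  (F : A ⥤ D) [F.Additive]

lemma subsingleton_hom_sigma_fin (Z : D) (n : ℕ) (f : Fin n → A)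
    (h : ∀ k, Subsingleton (F.obj (f k) ⟶ Z)) : Subsingleton (F.obj (∐ f) ⟶ Z) := by
  suffices ∀ ξ : F.obj (∐ f) ⟶ Z, ξ = 0 from ⟨fun a b => by rw [this a, this b]⟩
  intro ξ
  let e : ⨁ f ≅ ∐ f := biproduct.isoCoproduct f
  have h1 : 𝟙 (∐ f) = ∑ k, (e.inv ≫ biproduct.π f k) ≫ (biproduct.ι f k ≫ e.hom) := by
    have ht := biproduct.total (f := f)
    calc 𝟙 (∐ f) = e.inv ≫ 𝟙 _ ≫ e.hom := by simp
      _ = _ := by
        rw [← ht, Preadditive.sum_comp, Preadditive.comp_sum]
        refine Finset.sum_congr rfl (fun k _ => ?_)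
        simp only [Category.assoc]
  have h2 : ξ = F.map (𝟙 _) ≫ ξ := by simp
  rw [h2, h1, F.map_sum, Preadditive.sum_comp]
  refine Finset.sum_eq_zero (fun k _ => ?_)
  rw [F.map_comp, Category.assoc]
  have h3 : F.map (biproduct.ι f k ≫ e.hom) ≫ ξ = 0 := (h k).elim _ _
  rw [h3, comp_zero]

end Sigma

section Affine

variable {X : Scheme.{u}} [IsAffine X]

lemma subsingleton_hom_freeMod (r : ℕ) (N : X.Modules) (hN : Coh.IsQCoh N) (k : ℕ)
    (hk : 0 < k) :
    Subsingleton (dsgl (FlatMod.freeMod X r) ⟶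
      ((singleFunctor X.Modules 0).obj N)⟦(k : ℤ)⟧) :=
  subsingleton_hom_sigma_fin (singleFunctor X.Modules 0) _ r _
    (fun _ => subsingleton_hom_OY_of_affine N hN k hk)

theorem cm_bijective_freeMod (r : ℕ) (K : DCoh.D X)
    (hK : ∀ i : ℤ, Coh.IsQCoh ((homologyFunctor X.Modules i).obj K)) (m : ℤ) :
    Function.Bijective (cm (P := FlatMod.freeMod X r) (K := K) (m := m)) := by
  haveI := hasProduct_nat_derived (CohCx.truncTower K)
  have hL := isRlimVia_truncTower_of_isQCohD K hK
  exact Groth.Agent.Lib.H6xBasisCoh.cm_bijective_of_isRlimVia _ _ hL m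
    (fun j k hk => subsingleton_hom_freeMod r _ (hK j) k hk)

end Affine

section Single

variable {X : Scheme.{u}}

/-- a quasi-coherent module placed in degree `n` is in `D_QCoh` -/
lemma isQCohD_singleN (P : X.Modules) (hP : Coh.IsQCoh P) (n : ℤ) :
    DCoh.IsQCohD ((singleFunctor X.Modules n).obj P) := by
  intro i
  refine isQCohD_Q ((HomologicalComplex.single X.Modules (ComplexShape.up ℤ) n).obj P)
    (fun k => ?_) i
  by_cases hk : k = n
  · subst hk
    exact isQCoh_of_iso (HomologicalComplex.singleObjXSelf (ComplexShape.up ℤ) k P).symm hP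
  · exact isQCoh_of_isZero _
      (HomologicalComplex.isZero_single_obj_X (ComplexShape.up ℤ) n P k hk)

lemma isQCohD_shift (E : DCoh.D X) (hE : DCoh.IsQCohD E) (a : ℤ) : DCoh.IsQCohD (E⟦a⟧) :=
  fun i => isQCoh_of_iso
    (((DerivedCategory.homologyFunctor X.Modules 0).shiftIso a i (a + i) rfl).app E).symm
    (hE (a + i))

lemma isZero_homology_singleN (P : X.Modules) (n j : ℤ) (hj : j ≠ n) :
    IsZero ((homologyFunctor X.Modules j).obj ((singleFunctor X.Modules n).obj P)) := by
  refine IsZero.of_iso ?_ ((homologyFunctorFactors X.Modules j).app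
    ((HomologicalComplex.single X.Modules (ComplexShape.up ℤ) n).obj P))
  exact HomologicalComplex.isZero_single_obj_homology (ComplexShape.up ℤ) n P j hj

end Single

section Cone

variable {X : Scheme.{u}} [IsAffine X]

/-- on an affine scheme, an epimorphism from a finite free module onto the top cohomology of an
object of `D_QCoh` lifts to the derived category; its cone lies in `D_QCoh` and has smaller
amplitude -/
theorem exists_cone (E : DCoh.D X) (hE : DCoh.IsQCohD E) (n : ℤ) [E.IsLE n] (r : ℕ)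
    (π : FlatMod.freeMod X r ⟶ (homologyFunctor X.Modules n).obj E) (hπ : Epi π) :
    ∃ (C : DCoh.D X) (α : (singleFunctor X.Modules n).obj (FlatMod.freeMod X r) ⟶ E)
      (g : E ⟶ C) (h : C ⟶ ((singleFunctor X.Modules n).obj (FlatMod.freeMod X r))⟦(1 : ℤ)⟧),
      Triangle.mk α g h ∈ distTriang (DCoh.D X) ∧ C.IsLE (n - 1) ∧ DCoh.IsQCohD C := by
  let P := FlatMod.freeMod X r
  have hP : Coh.IsQCoh P := Groth.Agent.Lib.Helper23.Serre.isQuasicoherent_freeMod r
  let F := (DerivedCategory.Q : _ ⥤ DCoh.D X).objPreimage E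
  let eF : DerivedCategory.Q.obj F ≅ E := DerivedCategory.Q.objObjPreimageIso E
  have hKF : ∀ i : ℤ, Coh.IsQCoh ((homologyFunctor X.Modules i).obj (DerivedCategory.Q.obj F)) :=
    fun i => isQCoh_of_iso ((homologyFunctor X.Modules i).mapIso eF.symm) (hE i)
  let ψ : (homologyFunctor X.Modules n).obj E ≅ F.homology n :=
    (homologyFunctor X.Modules n).mapIso eF.symm ≪≫ (homologyFunctorFactors X.Modules n).app F
  let π' : P ⟶ F.homology n := π ≫ ψ.hom
  haveI hπ' : Epi π' := epi_comp' hπ inferInstance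
  obtain ⟨φ, hφ⟩ := exists_cls_eq (cm_bijective_freeMod r (DerivedCategory.Q.obj F) hKF n).2 π'
  let α : (singleFunctor X.Modules n).obj P ⟶ E := φ ≫ eF.hom
  let θ : (homologyFunctor X.Modules n).obj (DerivedCategory.Q.obj F) ≅ F.homology n :=
    (homologyFunctorFactors X.Modules n).app F
  have e1 : Epi ((ιN P n).hom ≫ (homologyFunctor X.Modules n).map φ ≫ θ.hom) := by
    have h0 := hπ'
    rw [← hφ] at h0
    exact h0
  have e2 : Epi ((homologyFunctor X.Modules n).map φ ≫ θ.hom) := epi_of_epi (ιN P n).hom _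
  have e3 : Epi (((homologyFunctor X.Modules n).map φ ≫ θ.hom) ≫ θ.inv) :=
    epi_comp' e2 inferInstance
  have e4 : ((homologyFunctor X.Modules n).map φ ≫ θ.hom) ≫ θ.inv =
      (homologyFunctor X.Modules n).map φ := by
    rw [Category.assoc, Iso.hom_inv_id, Category.comp_id]
  rw [e4] at e3
  haveI hαepi : Epi ((homologyFunctor X.Modules n).map α) := by
    have e : (homologyFunctor X.Modules n).map α =
        (homologyFunctor X.Modules n).map φ ≫ (homologyFunctor X.Modules n).map eF.hom :=
      Functor.map_comp _ _ _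
    rw [e]
    exact epi_comp' e3 inferInstance
  obtain ⟨C, g, h, hT⟩ := distinguished_cocone_triangle α
  let T := Triangle.mk α g h
  have hSz : ∀ j : ℤ, j ≠ n →
      IsZero ((homologyFunctor X.Modules j).obj ((singleFunctor X.Modules n).obj P)) :=
    fun j hj => isZero_homology_singleN P n j hj
  have hEz : ∀ j : ℤ, n < j → IsZero ((homologyFunctor _ j).obj E) := fun j hj =>
    isZero_of_isLE E n j hj
  refine ⟨C, α, g, h, hT, ?_, ?_⟩
  · rw [isLE_iff]
    intro j hj
    have hj' : n ≤ j := by omega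
    rcases hj'.eq_or_lt with rfl | hlt
    · have h0 : (homologyFunctor X.Modules n).map T.mor₂ = 0 :=
        (HomologySequence.epi_homologyMap_mor₁_iff T hT n).1 hαepi
      exact (HomologySequence.exact₃ T hT n (n + 1) rfl).isZero_of_both_zeros h0
        ((hSz (n + 1) (by omega)).eq_of_tgt _ _)
    · exact (HomologySequence.exact₃ T hT j (j + 1) rfl).isZero_of_both_zeros
        ((hEz j hlt).eq_of_src _ _) ((hSz (j + 1) (by omega)).eq_of_tgt _ _)
  · exact Groth.Agent.Lib.H6xRpushQc.isQCohD_obj₂ T.rotate (rot_of_distTriang _ hT) hE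
      (isQCohD_shift _ (isQCohD_singleN P hP n) 1)

end Cone

end Groth.Agent.Lib.H6xFinPush
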