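import Mathlib
import Groth.Prelude.Def_DCoh3
import Groth.Prelude.Def_DRing2
import Groth.Agent.Lib.Helper1PC
import Groth.Agent.Lib.Helper2FPAff
import Groth.Agent.Lib.Helper23FinType2
import Groth.Agent.Lib.H6xPC4A
import Groth.Agent.Lib.H6xPCohB
import Groth.Agent.Lib.H6xRelQcB
import Groth.Agent.Lib.H6xRpushBd
set_option backward.isDefEq.respectTransparency.types false

/-!
# `M~` is `m`-pseudo-coherent on `Spec A` iff `M` is `m`-pseudo-coherent in `D(A)`: S1004
(helper6)
-/

set_option autoImplicit false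
set_option linter.style.haveILetI false

universe u

open CategoryTheory CategoryTheory.Limits Opposite AlgebraicGeometry TopologicalSpace
  CategoryTheory.Pretriangulated

attribute [local instance] HasDerivedCategory.standard

namespace Groth.Agent.Lib.H6xTildePC

open Groth.Agent.Lib.H6xPCoh Groth.Agent.Lib.H6xPC3 DerivedCategory Groth.Agent.Lib.Helper1.PC

variable (R : CommRingCat.{u}) [PreservesFiniteLimits (tilde.functor R)]

/-- `tilde` of a bounded complex of finite projective modules is strictly perfect -/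
lemma isStrictlyPerfect_tilde (E : CochainComplex (ModuleCat.{u} R) ℤ) (a b : ℤ)
    (hE : ∀ i : ℤ, i < a ∨ b < i → IsZero (E.X i))
    (hP : ∀ i : ℤ, Module.Finite R (E.X i) ∧ Module.Projective R (E.X i)) :
    DCoh.IsStrictlyPerfect
      (((tilde.functor R).mapHomologicalComplex (ComplexShape.up ℤ)).obj E) := by
  refine ⟨⟨a, b, fun i hi => ?_⟩, fun i => ?_⟩
  · exact (tilde.functor R).map_isZero (hE i hi)
  · exact (Groth.Agent.Lib.Helper2.FPAff.isFinLocFree_tilde_iff R (E.X i)).2 (hP i)

/-- the easy direction -/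
theorem pc_tildeD_of_isPC (M : DerivedCategory (ModuleCat.{u} R)) (m : ℤ)
    (h : DRing.IsPseudoCoherent R m M) :
    DCoh.IsPseudoCoherentD m ((DCoh.tildeD R).obj M) := by
  obtain ⟨E, a, b, α, hE, hff, h1, h2⟩ := h
  have hP := isStrictlyPerfect_tilde R E a b hE
    (fun i => ⟨(hff i).1, haveI := (hff i).2; inferInstance⟩)
  refine PCGlobal.isPseudoCoherentD ⟨_, ((tilde.functor R).mapDerivedCategoryFactors.app E).inv ≫
    (DCoh.tildeD R).map α, hP, fun j hj => ?_, ?_⟩
  · haveI := h1 j hj
    haveI := isIso_homology_mapDerivedCategory_map (tilde.functor R) α j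
    rw [Functor.map_comp]
    infer_instance
  · haveI := h2
    haveI := epi_homology_mapDerivedCategory_map (tilde.functor R) α m
    rw [Functor.map_comp]
    exact epi_comp _ _

lemma isLE_of_isLE_tildeD (M : DerivedCategory (ModuleCat.{u} R)) (b : ℤ)
    (h : ((DCoh.tildeD R).obj M).IsLE b) : M.IsLE b := by
  rw [isLE_iff]
  intro i hi
  refine Groth.Agent.Lib.H6xRpushQc.isZero_of_isZero_tilde R _ (IsZero.of_iso
    (isZero_of_isLE ((DCoh.tildeD R).obj M) b i hi)
    ((mapDerivedCategoryHomologyIso (tilde.functor R) i).app M).symm)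

lemma isLE_tildeD (M : DerivedCategory (ModuleCat.{u} R)) (b : ℤ) (h : M.IsLE b) :
    ((DCoh.tildeD R).obj M).IsLE b := by
  rw [isLE_iff]
  intro i hi
  exact IsZero.of_iso ((tilde.functor R).map_isZero (isZero_of_isLE M b i hi))
    ((mapDerivedCategoryHomologyIso (tilde.functor R) i).app M)

/-- the hard direction, by descending induction on the amplitude -/
theorem isPC_of_pc_tildeD_aux (m : ℤ) : ∀ (d : ℕ) (n : ℤ) (M : DerivedCategory (ModuleCat.{u} R)),
    n < m + d → M.IsLE n → DCoh.IsPseudoCoherentD m ((DCoh.tildeD R).obj M) →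
      DRing.IsPseudoCoherent R m M
  | 0 => fun n M hn hLE _ => by
      haveI := hLE
      haveI : M.IsLE (m - 1) := TStructure.t.isLE_of_le M n (m - 1) (by omega)
      exact isPC_of_isLE m M
  | d + 1 => fun n M hn hLE hpc => by
      haveI := hLE
      by_cases hnd : n < m + d
      · exact isPC_of_pc_tildeD_aux m d n M hnd hLE hpc
      have hmn : m ≤ n := by omega
      haveI : ((DCoh.tildeD R).obj M).IsLE n := isLE_tildeD R M n hLE
      have hft : CohB1.IsFT (DCoh.HD ((DCoh.tildeD R).obj M) n) :=
        (top_cohomology n _ (isPseudoCoherentD_mono hmn hpc)).1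
          (fun i hi => isZero_of_isLE ((DCoh.tildeD R).obj M) n i hi)
      let e := (mapDerivedCategoryHomologyIso (tilde.functor R) n).app M
      have hft' : SheafOfModules.IsFiniteType (R := (Spec R).ringCatSheaf)
          (tilde ((homologyFunctor (ModuleCat.{u} R) n).obj M)) := by
        exact Groth.Agent.Lib.Helper23.FinType.isFiniteType_of_iso (hM := hft) e
      have hfin : Module.Finite R ((homologyFunctor (ModuleCat.{u} R) n).obj M) :=
        (Groth.Agent.Lib.Helper23.FinType.isFiniteType_tilde_iff R _).1 hft'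
      obtain ⟨F, ψ, hF, hψ⟩ := exists_single_conn M n hfin
      obtain ⟨C, g, h, hT⟩ := distinguished_cocone_triangle ψ
      have hC : C.IsLE (n - 1) := (conn_iff_of_distTriang _ hT n).1 hψ
      have hS : ∀ m' : ℤ, DRing.IsPseudoCoherent R m'
          ((singleFunctor (ModuleCat.{u} R) n).obj F) :=
        fun m' => isPC_of_rep m' (rep_single F hF n)
      have hT' := (DCoh.tildeD R).map_distinguished _ hT
      have hCpc : DCoh.IsPseudoCoherentD m ((DCoh.tildeD R).obj C) :=
        (triangle m _ hT').1 (pc_tildeD_of_isPC R _ (m + 1) (hS (m + 1))) hpc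
      have hCC := isPC_of_pc_tildeD_aux m d (n - 1) C (by push_cast at hn; omega) hC hCpc
      exact isPC_obj₂ _ hT m (hS m) hCC

/-- **S1004** -/
theorem pc_tildeD_iff (M : DerivedCategory (ModuleCat.{u} R)) (m : ℤ) :
    DCoh.IsPseudoCoherentD m ((DCoh.tildeD R).obj M) ↔ DRing.IsPseudoCoherent R m M := by
  constructor
  · intro h
    obtain ⟨b, hb⟩ := Groth.Agent.Lib.H6xRelQc.exists_isLE_of_isPseudoCoherentD _ m h
    have hb' : M.IsLE b := isLE_of_isLE_tildeD R M b hb
    exact isPC_of_pc_tildeD_aux R m (b - m + 1).toNat b M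
      (by have := Int.self_le_toNat (b - m + 1); omega) hb' h
  · exact pc_tildeD_of_isPC R M m

end Groth.Agent.Lib.H6xTildePC
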