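import Mathlib
import Groth.Agent.Lib.H6xTildePCA
import Groth.Agent.Lib.R2H2PullLF
import Groth.Agent.Lib.Helper26ModLocFree
set_option backward.isDefEq.respectTransparency.types false

/-!
# Strictly perfect complexes on `Spec R` come from bounded complexes of finite projective modules
(helper6)
-/

set_option autoImplicit false
set_option linter.style.haveILetI false

universe u

open CategoryTheory CategoryTheory.Limits AlgebraicGeometry TopologicalSpace Opposite

attribute [local instance] HasDerivedCategory.standard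

namespace Groth.Agent.Lib.H6xPerfAff

variable (R : CommRingCat.{u})

instance additive_moduleSpecΓFunctor : (moduleSpecΓFunctor (R := R)).Additive :=
  (tilde.adjunction (R := R)).right_adjoint_additive

theorem exists_tilde_iso_of_isStrictlyPerfect (T' : CochainComplex (Spec R).Modules ℤ)
    (hT' : DCoh.IsStrictlyPerfect T') :
    ∃ (L : CochainComplex (ModuleCat.{u} R) ℤ) (a b : ℤ),
      (∀ i : ℤ, i < a ∨ b < i → IsZero (L.X i)) ∧
      (∀ i : ℤ, Module.Finite R (L.X i) ∧ Module.Projective R (L.X i)) ∧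
      Nonempty (((tilde.functor R).mapHomologicalComplex (ComplexShape.up ℤ)).obj L ≅ T') := by
  obtain ⟨⟨a, b, hab⟩, hflf⟩ := hT'
  haveI : ∀ i, (T'.X i).IsQuasicoherent := fun i =>
    Groth.Agent.Lib.R2H2.PullLF.isQuasicoherent_of_isFinLocFree _ (hflf i)
  have hiso : ∀ i, IsIso (T'.X i).fromTildeΓ := fun i =>
    Scheme.Modules.isIso_fromTildeΓ_of_isQuasicoherent (T'.X i)
  let L : CochainComplex (ModuleCat.{u} R) ℤ :=
    ((moduleSpecΓFunctor (R := R)).mapHomologicalComplex (ComplexShape.up ℤ)).obj T'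
  let e : ((tilde.functor R).mapHomologicalComplex (ComplexShape.up ℤ)).obj L ≅ T' :=
    HomologicalComplex.Hom.isoOfComponents (fun i => @asIso _ _ _ _ (T'.X i).fromTildeΓ (hiso i))
      (fun i j _ => ((Scheme.Modules.fromTildeΓNatTrans (R := R)).naturality (T'.d i j)).symm)
  refine ⟨L, a, b, fun i hi => ?_, fun i => ?_, ⟨e⟩⟩
  · exact (moduleSpecΓFunctor (R := R)).map_isZero (hab i hi)
  · refine (Groth.Agent.Lib.Helper2.FPAff.isFinLocFree_tilde_iff R (L.X i)).1 ?_
    exact Groth.Agent.Lib.Helper26.ModLocFree.isFinLocFree_of_iso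
      (@asIso _ _ _ _ (T'.X i).fromTildeΓ (hiso i)).symm (hflf i)

end Groth.Agent.Lib.H6xPerfAff
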