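import Mathlib
import Groth.Agent.Lib.H6xAffPushA
set_option backward.isDefEq.respectTransparency.types false

/-!
# Bounded above complexes of "relatively projective" objects (helper6)

Let `q : F ⟶ I` be a morphism of cochain complexes in an abelian category and `E` a bounded above
complex such that `Hom(E^p, q)` is a quasi-isomorphism for all `p` (in the cycle form
`CycSur`/`CycInj`).  Then `Hom_K(E, F) → Hom_K(E, I)` is bijective.
-/

set_option autoImplicit false

universe v

open CategoryTheory CategoryTheory.Limits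

namespace Groth.Agent.Lib.H6xKProj

open Groth.Agent.Lib.H6xAffPush

section Descending

/-- a descending recursive construction on `ℤ`. -/
theorem exists_descending {α : ℤ → Type*} (R : ∀ i j : ℤ, α i → α j → Prop) (b : ℤ)
    (s₀ : ∀ j, α j) (h₀ : ∀ i j, i + 1 = j → b < i → R i j (s₀ i) (s₀ j))
    (step : ∀ i j k, i + 1 = j → j + 1 = k → ∀ (y : α j) (z : α k), R j k y z →
      ∃ x : α i, R i j x y) :
    ∃ s : ∀ j, α j, ∀ i j, i + 1 = j → R i j (s i) (s j) := by
  classical
  have next : ∀ (n : ℕ) (t : {s : ∀ j, α j // ∀ i j, i + 1 = j → b - n < i → R i j (s i) (s j)}),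
      ∃ t' : {s : ∀ j, α j // ∀ i j, i + 1 = j → b - (n + 1 : ℕ) < i → R i j (s i) (s j)},
        ∀ j, b - n < j → t'.1 j = t.1 j := by
    intro n t
    obtain ⟨x, hx⟩ := step (b - n) (b - n + 1) (b - n + 1 + 1) rfl rfl (t.1 _) (t.1 _)
      (t.2 _ _ rfl (by omega))
    refine ⟨⟨Function.update t.1 (b - n) x, ?_⟩, ?_⟩
    · intro i j hij hi
      by_cases h : i = b - n
      · subst h
        subst hij
        rw [Function.update_self, Function.update_of_ne (by omega)]
        exact hx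
      · rw [Function.update_of_ne h, Function.update_of_ne (by omega)]
        exact t.2 i j hij (by push_cast at hi; omega)
    · intro j hj
      exact Function.update_of_ne (by omega) _ _
  choose nx hnx using next
  let t : ∀ n : ℕ, {s : ∀ j, α j // ∀ i j, i + 1 = j → b - n < i → R i j (s i) (s j)} :=
    fun n => Nat.rec ⟨s₀, fun i j hij hi => h₀ i j hij (by simpa using hi)⟩ (fun n t => nx n t) n
  have ht : ∀ n, t (n + 1) = nx n (t n) := fun n => rfl
  have stab : ∀ n m : ℕ, n ≤ m → ∀ j, b - n < j → (t m).1 j = (t n).1 j := by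
    intro n m hnm
    induction m, hnm using Nat.le_induction with
    | base => intro j _; rfl
    | succ m hm ih =>
      intro j hj
      rw [ht, hnx m (t m) j (by omega)]
      exact ih j hj
  refine ⟨fun j => (t (b - j + 1).toNat).1 j, fun i j hij => ?_⟩
  have h1 : (t (b - j + 1).toNat).1 j = (t (b - i + 1).toNat).1 j :=
    (stab _ _ (by omega) j (by omega)).symm
  show R i j ((t (b - i + 1).toNat).1 i) ((t (b - j + 1).toNat).1 j)
  rw [h1]
  exact (t (b - i + 1).toNat).2 i j hij (by omega)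

end Descending

variable {A : Type (v + 1)} [Category.{v} A] [Abelian A]

section Flex

variable {P : A} {M N : CochainComplex A ℤ} {g : M ⟶ N} {n : ℤ}

lemma CycSur.exists' (h : CycSur P g n) (n' n'' : ℤ) (h1 : n' + 1 = n) (h2 : n + 1 = n'')
    (z : P ⟶ N.X n) (hz : z ≫ N.d n n'' = 0) :
    ∃ (w : P ⟶ M.X n) (y : P ⟶ N.X n'), w ≫ M.d n n'' = 0 ∧
      w ≫ g.f n = z + y ≫ N.d n' n := by
  obtain rfl : n' = n - 1 := by omega
  subst h2
  exact h z hz

lemma CycInj.exists' (h : CycInj P g n) (n' n'' : ℤ) (h1 : n' + 1 = n) (h2 : n + 1 = n'')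
    (w : P ⟶ M.X n) (hw : w ≫ M.d n n'' = 0) (y : P ⟶ N.X n')
    (hy : w ≫ g.f n = y ≫ N.d n' n) :
    ∃ x : P ⟶ M.X n', x ≫ M.d n' n = w := by
  obtain rfl : n' = n - 1 := by omega
  subst h2
  exact h w hw y hy

/-- a family of maps concentrated in one degree -/
noncomputable def sgl (K : CochainComplex A ℤ) (m₀ : ℤ) (f : P ⟶ K.X m₀) : ∀ m, P ⟶ K.X m :=
  fun m => if h : m = m₀ then f ≫ eqToHom (by rw [h]) else 0

@[simp] lemma sgl_self (K : CochainComplex A ℤ) (m₀ : ℤ) (f : P ⟶ K.X m₀) :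
    sgl K m₀ f m₀ = f := by
  simp [sgl]

end Flex

section Closure

variable {M N : CochainComplex A ℤ} (g : M ⟶ N) (n : ℤ)

lemma cycSur_of_retract {P P' : A} (s : P ⟶ P') (r : P' ⟶ P) (hsr : s ≫ r = 𝟙 P)
    (h : CycSur P' g n) : CycSur P g n := by
  intro z hz
  obtain ⟨w, y, hw, hwy⟩ := h (r ≫ z) (by rw [Category.assoc, hz, comp_zero])
  refine ⟨s ≫ w, s ≫ y, by rw [Category.assoc, hw, comp_zero], ?_⟩
  rw [Category.assoc, hwy, Preadditive.comp_add, ← Category.assoc s r z, hsr, Category.id_comp,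
    Category.assoc]

lemma cycInj_of_retract {P P' : A} (s : P ⟶ P') (r : P' ⟶ P) (hsr : s ≫ r = 𝟙 P)
    (h : CycInj P' g n) : CycInj P g n := by
  intro w hw y hy
  obtain ⟨x, hx⟩ := h (r ≫ w) (by rw [Category.assoc, hw, comp_zero]) (r ≫ y)
    (by rw [Category.assoc, hy, Category.assoc])
  refine ⟨s ≫ x, ?_⟩
  rw [Category.assoc, hx, ← Category.assoc, hsr, Category.id_comp]

lemma cycSur_of_iso {P P' : A} (e : P ≅ P') (h : CycSur P' g n) : CycSur P g n :=
  cycSur_of_retract g n e.hom e.inv e.hom_inv_id h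

lemma cycInj_of_iso {P P' : A} (e : P ≅ P') (h : CycInj P' g n) : CycInj P g n :=
  cycInj_of_retract g n e.hom e.inv e.hom_inv_id h

lemma cycSur_sigma {ι : Type*} (P : ι → A) [HasCoproduct P] (h : ∀ i, CycSur (P i) g n) :
    CycSur (∐ P) g n := by
  intro z hz
  have h' : ∀ i, ∃ (w : P i ⟶ M.X n) (y : P i ⟶ N.X (n - 1)),
      w ≫ M.d n (n + 1) = 0 ∧ w ≫ g.f n = (Sigma.ι P i ≫ z) + y ≫ N.d (n - 1) n :=
    fun i => h i (Sigma.ι P i ≫ z) (by rw [Category.assoc, hz, comp_zero])
  choose w y hw hwy using h'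
  refine ⟨Sigma.desc w, Sigma.desc y, ?_, ?_⟩
  · refine Sigma.hom_ext _ _ (fun i => ?_)
    rw [Sigma.ι_desc_assoc, hw, comp_zero]
  · refine Sigma.hom_ext _ _ (fun i => ?_)
    rw [Sigma.ι_desc_assoc, hwy, Preadditive.comp_add, Sigma.ι_desc_assoc]

lemma cycInj_sigma {ι : Type*} (P : ι → A) [HasCoproduct P] (h : ∀ i, CycInj (P i) g n) :
    CycInj (∐ P) g n := by
  intro w hw y hy
  have h' : ∀ i, ∃ x : P i ⟶ M.X (n - 1), x ≫ M.d (n - 1) n = Sigma.ι P i ≫ w :=
    fun i => h i (Sigma.ι P i ≫ w) (by rw [Category.assoc, hw, comp_zero]) (Sigma.ι P i ≫ y)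
      (by rw [Category.assoc, hy, Category.assoc])
  choose x hx using h'
  refine ⟨Sigma.desc x, Sigma.hom_ext _ _ (fun i => ?_)⟩
  rw [Sigma.ι_desc_assoc, hx]

end Closure

section Main

variable {E F I : CochainComplex A ℤ} (q : F ⟶ I) (b : ℤ)

include b in
/-- surjectivity of `Hom_K(E, F) → Hom_K(E, I)`. -/
theorem exists_lift_up_to_homotopy (hEb : ∀ i, b < i → IsZero (E.X i))
    (hS : ∀ p n, CycSur (E.X p) q n) (hI : ∀ p n, CycInj (E.X p) q n) (ψ : E ⟶ I) :
    ∃ φ : E ⟶ F, Nonempty (Homotopy (φ ≫ q) ψ) := by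
  obtain ⟨s, hs⟩ := exists_descending
    (α := fun j => (E.X j ⟶ F.X j) × (∀ k, E.X j ⟶ I.X k))
    (R := fun i j x y => x.1 ≫ F.d i j = E.d i j ≫ y.1 ∧
      ∀ i', i' + 1 = i → x.1 ≫ q.f i = E.d i j ≫ y.2 i + x.2 i' ≫ I.d i' i + ψ.f i) b
    (fun _ => (0, fun _ => 0))
    (fun i j _ hi => ⟨(hEb i hi).eq_of_src _ _, fun i' _ => (hEb i hi).eq_of_src _ _⟩)
    (by
      rintro i j k hij hjk ⟨φj, hj⟩ ⟨φk, hk⟩ ⟨h1, h2⟩
      dsimp only at h1 h2
      have h2' := h2 i hij
      -- the cycle `u`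
      have hu : (E.d i j ≫ φj) ≫ F.d j k = 0 := by
        rw [Category.assoc, h1, HomologicalComplex.d_comp_d_assoc, zero_comp]
      have hu' : (E.d i j ≫ φj) ≫ q.f j = (ψ.f i + E.d i j ≫ hj i) ≫ I.d i j := by
        rw [Category.assoc, h2', Preadditive.comp_add, Preadditive.comp_add,
          HomologicalComplex.d_comp_d_assoc, zero_comp, zero_add, Preadditive.add_comp,
          ψ.comm i j, Category.assoc, add_comm]
      obtain ⟨x, hx⟩ := CycInj.exists' (hI i j) i k hij hjk _ hu _ hu'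
      have hz : (x ≫ q.f i - ψ.f i - E.d i j ≫ hj i) ≫ I.d i j = 0 := by
        rw [Preadditive.sub_comp, Preadditive.sub_comp, Category.assoc, q.comm i j,
          ← Category.assoc x, hx, hu', Preadditive.add_comp]
        abel
      obtain ⟨w, y, hw, hwy⟩ := CycSur.exists' (hS i i) (i - 1) j (by omega) hij _ hz
      refine ⟨(x - w, sgl I (i - 1) (-y)), ?_, ?_⟩
      · dsimp only
        rw [Preadditive.sub_comp, hw, sub_zero, hx]
      · intro i' hi'
        obtain rfl : i' = i - 1 := by omega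
        dsimp only
        rw [sgl_self, Preadditive.sub_comp, hwy, Preadditive.neg_comp]
        abel)
  refine ⟨{ f := fun j => (s j).1, comm' := fun i j hij => (hs i j hij).1 }, ⟨?_⟩⟩
  exact
    { hom := fun i j => if j + 1 = i then (s i).2 j else 0
      zero := fun i j hij => if_neg hij
      comm := fun i => by
        rw [dNext_eq _ (show (ComplexShape.up ℤ).Rel i (i + 1) from rfl),
          prevD_eq _ (show (ComplexShape.up ℤ).Rel (i - 1) i from by simp)]
        rw [if_pos rfl, if_pos (by omega)]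
        exact (hs i (i + 1) rfl).2 (i - 1) (by omega) }

include b in
/-- injectivity of `Hom_K(E, F) → Hom_K(E, I)`. -/
theorem homotopy_zero_of_comp (hEb : ∀ i, b < i → IsZero (E.X i))
    (hS : ∀ p n, CycSur (E.X p) q n) (hI : ∀ p n, CycInj (E.X p) q n) (φ : E ⟶ F)
    (κ : Homotopy (φ ≫ q) 0) : Nonempty (Homotopy φ 0) := by
  obtain ⟨s, hs⟩ := exists_descending
    (α := fun j => (∀ k, E.X j ⟶ F.X k) × (∀ k, E.X j ⟶ I.X k))
    (R := fun i j x y => ∀ i' i'', i' + 1 = i → i'' + 1 = i' →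
      φ.f i = E.d i j ≫ y.1 i + x.1 i' ≫ F.d i' i ∧
      x.1 i' ≫ q.f i' = κ.hom i i' + E.d i j ≫ y.2 i' - x.2 i'' ≫ I.d i'' i') b
    (fun _ => (fun _ => 0, fun _ => 0))
    (fun i j _ hi i' i'' _ _ => ⟨(hEb i hi).eq_of_src _ _, (hEb i hi).eq_of_src _ _⟩)
    (by
      rintro i j k hij hjk ⟨hj, lj⟩ ⟨hk, lk⟩ h
      dsimp only at h
      obtain ⟨h1, h2⟩ := h i (i - 1) hij (by omega)
      have hκ : φ.f i ≫ q.f i = E.d i j ≫ κ.hom j i + κ.hom i (i - 1) ≫ I.d (i - 1) i := by
        have := κ.comm i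
        rw [dNext_eq _ (show (ComplexShape.up ℤ).Rel i j from hij),
          prevD_eq _ (show (ComplexShape.up ℤ).Rel (i - 1) i from by simp)] at this
        simpa using this
      have hu : (φ.f i - E.d i j ≫ hj i) ≫ F.d i j = 0 := by
        have h3 : hj i ≫ F.d i j = φ.f j - E.d j k ≫ hk j := by rw [h1]; abel
        rw [Preadditive.sub_comp, Category.assoc, h3, Preadditive.comp_sub,
          HomologicalComplex.d_comp_d_assoc, zero_comp, sub_zero, φ.comm i j, sub_self]
      have hu' : (φ.f i - E.d i j ≫ hj i) ≫ q.f i =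
          (κ.hom i (i - 1) + E.d i j ≫ lj (i - 1)) ≫ I.d (i - 1) i := by
        rw [Preadditive.sub_comp, Category.assoc, h2, hκ, Preadditive.comp_sub,
          Preadditive.comp_add, HomologicalComplex.d_comp_d_assoc, zero_comp, add_zero,
          Preadditive.add_comp, Category.assoc]
        abel
      obtain ⟨x, hx⟩ := CycInj.exists' (hI i i) (i - 1) j (by omega) hij _ hu _ hu'
      have hz : (x ≫ q.f (i - 1) - κ.hom i (i - 1) - E.d i j ≫ lj (i - 1)) ≫ I.d (i - 1) i = 0 := by
        rw [Preadditive.sub_comp, Preadditive.sub_comp, Category.assoc, q.comm (i - 1) i,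
          ← Category.assoc x, hx, hu', Preadditive.add_comp]
        abel
      obtain ⟨w, y, hw, hwy⟩ := CycSur.exists' (hS i (i - 1)) (i - 1 - 1) i (by omega) (by omega) _ hz
      refine ⟨(sgl F (i - 1) (x - w), sgl I (i - 1 - 1) y), ?_⟩
      intro i' i'' hi' hi''
      obtain rfl : i' = i - 1 := by omega
      obtain rfl : i'' = i - 1 - 1 := by omega
      dsimp only
      rw [sgl_self, sgl_self]
      refine ⟨?_, ?_⟩
      · rw [Preadditive.sub_comp, hw, sub_zero, hx]
        abel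
      · rw [Preadditive.sub_comp, hwy]
        abel)
  refine ⟨?_⟩
  exact
    { hom := fun i j => if j + 1 = i then (s i).1 j else 0
      zero := fun i j hij => if_neg hij
      comm := fun i => by
        rw [dNext_eq _ (show (ComplexShape.up ℤ).Rel i (i + 1) from rfl),
          prevD_eq _ (show (ComplexShape.up ℤ).Rel (i - 1) i from by simp)]
        rw [if_pos rfl, if_pos (by omega)]
        simpa using (hs i (i + 1) rfl (i - 1) (i - 1 - 1) (by omega) (by omega)).1 }

end Main

end Groth.Agent.Lib.H6xKProj
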