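import Mathlib
import Groth.Agent.Lib.H6xPerfLoc
import Groth.Agent.Lib.Helper2FPAff
import Groth.Agent.Lib.Helper20LocFree
import Groth.Agent.Lib.R2H2PullLF
import Groth.Agent.Lib.Helper26ModLocFree
set_option backward.isDefEq.respectTransparency.types false

/-!
# Finite locally free modules on an affine scheme are retracts of finite free modules (helper6)
-/

set_option autoImplicit false
set_option linter.style.haveILetI false

universe u

open CategoryTheory CategoryTheory.Limits AlgebraicGeometry TopologicalSpace Opposite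

namespace Groth.Agent.Lib.H6xKProj

theorem exists_retract_freeMod_spec (R : CommRingCat.{u}) (P : (Spec R).Modules)
    (hP : FlatMod.IsFinLocFree P) :
    ∃ (n : ℕ) (s : P ⟶ FlatMod.freeMod (Spec R) n) (r : FlatMod.freeMod (Spec R) n ⟶ P),
      s ≫ r = 𝟙 P := by
  haveI : P.IsQuasicoherent := Groth.Agent.Lib.R2H2.PullLF.isQuasicoherent_of_isFinLocFree P hP
  haveI : IsIso P.fromTildeΓ := Scheme.Modules.isIso_fromTildeΓ_of_isQuasicoherent P
  obtain ⟨N, ⟨e⟩⟩ : ∃ N : ModuleCat.{u} R, Nonempty (tilde N ≅ P) := ⟨_, ⟨asIso P.fromTildeΓ⟩⟩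
  have hN : FlatMod.IsFinLocFree (tilde N) :=
    Groth.Agent.Lib.Helper26.ModLocFree.isFinLocFree_of_iso e.symm hP
  obtain ⟨hfin, hproj⟩ := (Groth.Agent.Lib.Helper2.FPAff.isFinLocFree_tilde_iff R N).1 hN
  obtain ⟨n, p, hp⟩ := Module.Finite.exists_fin' R N
  obtain ⟨i, hi⟩ := Module.projective_lifting_property p LinearMap.id hp
  let s₀ : N ⟶ ModuleCat.of R (Fin n → R) := ModuleCat.ofHom i
  let r₀ : ModuleCat.of R (Fin n → R) ⟶ N := ModuleCat.ofHom p
  have h₀ : s₀ ≫ r₀ = 𝟙 N := by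
    ext x
    exact LinearMap.congr_fun hi x
  let ef : tilde (ModuleCat.of R (Fin n → R)) ≅ FlatMod.freeMod (Spec R) n :=
    Groth.Agent.Lib.Helper20.LocFree.tildeFreeMod _ (Pi.basisFun R (Fin n))
  refine ⟨n, e.inv ≫ tilde.map s₀ ≫ ef.hom, ef.inv ≫ tilde.map r₀ ≫ e.hom, ?_⟩
  simp only [Category.assoc, Iso.hom_inv_id_assoc]
  rw [← tilde.map_comp_assoc, h₀, tilde.map_id, Category.id_comp, Iso.inv_hom_id]

theorem exists_retract_freeMod {X : Scheme.{u}} [IsAffine X] (P : X.Modules)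
    (hP : FlatMod.IsFinLocFree P) :
    ∃ (n : ℕ) (s : P ⟶ FlatMod.freeMod X n) (r : FlatMod.freeMod X n ⟶ P), s ≫ r = 𝟙 P := by
  let φ := X.isoSpec
  have hP' := Groth.Agent.Lib.H6xPerfLoc.isFinLocFree_restrict φ.inv P hP
  obtain ⟨n, s', r', h'⟩ := exists_retract_freeMod_spec _ (P.restrict φ.inv) hP'
  let eP : (Scheme.Modules.restrictFunctor φ.hom).obj (P.restrict φ.inv) ≅ P :=
    ((Scheme.Modules.restrictFunctorComp φ.hom φ.inv).app P).symm ≪≫
      (Scheme.Modules.restrictFunctorCongr φ.hom_inv_id).app P ≪≫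
      Scheme.Modules.restrictFunctorId.app P
  let eF : (FlatMod.freeMod (Spec Γ(X, ⊤)) n).restrict φ.hom ≅ FlatMod.freeMod X n :=
    Groth.Agent.Lib.Helper20.LocFree.restrictFreeMod φ.hom n
  refine ⟨n, eP.inv ≫ (Scheme.Modules.restrictFunctor φ.hom).map s' ≫ eF.hom,
    eF.inv ≫ (Scheme.Modules.restrictFunctor φ.hom).map r' ≫ eP.hom, ?_⟩
  simp only [Category.assoc, Iso.hom_inv_id_assoc]
  rw [← CategoryTheory.Functor.map_comp_assoc, h', CategoryTheory.Functor.map_id, Category.id_comp,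
    Iso.inv_hom_id]

end Groth.Agent.Lib.H6xKProj
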