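import Mathlib
import Groth.Agent.Lib.H6xKProjA
import Groth.Agent.Lib.H6xKProjB
import Groth.Agent.Lib.H6xAffPushC
import Groth.Agent.Lib.Helper17KInj12
set_option backward.isDefEq.respectTransparency.types false

/-!
# On an affine scheme, bounded above complexes of finite locally free modules are
"K-projective relative to complexes of quasi-coherent modules" (helper6)
-/

set_option autoImplicit false
set_option linter.style.haveILetI false

universe u

open CategoryTheory CategoryTheory.Limits AlgebraicGeometry TopologicalSpace Opposite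

attribute [local instance] HasDerivedCategory.standard

namespace Groth.Agent.Lib.H6xKProj

open Groth.Agent.Lib.H6xAffPush DerivedCategory

variable {X : Scheme.{u}} [IsAffine X]

section

variable {F J : CochainComplex X.Modules ℤ} (hF : ∀ n, Coh.IsQCoh (F.X n))
  (q : F ⟶ J) [QuasiIso q] (n : ℤ)

include hF

lemma cycSur_unit [J.IsKInjective] : CycSur (Coh.structureModule X) q n := by
  obtain ⟨e⟩ := Groth.Agent.Lib.H6xTilde.nonempty_frX_top_iso (X := X)
  exact cycSur_of_iso q n e.symm (cycSur_of_affine ⊤ (isAffineOpen_top X) hF q n)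

lemma cycInj_unit : CycInj (Coh.structureModule X) q n := by
  obtain ⟨e⟩ := Groth.Agent.Lib.H6xTilde.nonempty_frX_top_iso (X := X)
  exact cycInj_of_iso q n e.symm (cycInj_of_affine ⊤ (isAffineOpen_top X) hF q n)

lemma cycSur_of_isFinLocFree [J.IsKInjective] {P : X.Modules} (hP : FlatMod.IsFinLocFree P) :
    CycSur P q n := by
  obtain ⟨r, s, t, hst⟩ := exists_retract_freeMod P hP
  exact cycSur_of_retract q n s t hst (cycSur_sigma q n _ (fun _ => cycSur_unit hF q n))

lemma cycInj_of_isFinLocFree {P : X.Modules} (hP : FlatMod.IsFinLocFree P) :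
    CycInj P q n := by
  obtain ⟨r, s, t, hst⟩ := exists_retract_freeMod P hP
  exact cycInj_of_retract q n s t hst (cycInj_sigma q n _ (fun _ => cycInj_unit hF q n))

end

theorem bijective_Qh_map (E F : CochainComplex X.Modules ℤ) (b : ℤ)
    (hEb : ∀ i : ℤ, b < i → IsZero (E.X i))
    (hE : ∀ i : ℤ, FlatMod.IsFinLocFree (E.X i)) (hF : ∀ i : ℤ, Coh.IsQCoh (F.X i)) :
    Function.Bijective (fun φ : (HomotopyCategory.quotient X.Modules (ComplexShape.up ℤ)).obj E ⟶
        (HomotopyCategory.quotient X.Modules (ComplexShape.up ℤ)).obj F =>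
      (DerivedCategory.Qh (C := X.Modules)).map φ) := by
  obtain ⟨J, q, hJ, hq, -, -⟩ :=
    Groth.Agent.Lib.Helper17.KInj.exists_kInjective_resolution.{u} X.Modules F
  haveI := hJ
  haveI := hq
  have hS : ∀ p n, CycSur (E.X p) q n := fun p n => cycSur_of_isFinLocFree hF q n (hE p)
  have hI : ∀ p n, CycInj (E.X p) q n := fun p n => cycInj_of_isFinLocFree hF q n (hE p)
  haveI : IsIso (Qh.map ((HomotopyCategory.quotient _ _).map q)) :=
    (NatIso.isIso_map_iff (quotientCompQhIso X.Modules) q).2 inferInstance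
  constructor
  · intro φ₁ φ₂ h
    dsimp only at h
    obtain ⟨f₁, rfl⟩ := (HomotopyCategory.quotient _ _).map_surjective φ₁
    obtain ⟨f₂, rfl⟩ := (HomotopyCategory.quotient _ _).map_surjective φ₂
    have h1 : Qh.map ((HomotopyCategory.quotient _ _).map ((f₁ - f₂) ≫ q)) =
        Qh.map ((HomotopyCategory.quotient _ _).map (0 : E ⟶ J)) := by
      rw [Functor.map_comp, Functor.map_comp, Functor.map_sub, Functor.map_sub, h, sub_self,
        zero_comp, Functor.map_zero, Functor.map_zero]
    have h2 := (CochainComplex.IsKInjective.Qh_map_bijective _ J).injective h1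
    obtain ⟨η⟩ := homotopy_zero_of_comp q b hEb hS hI (f₁ - f₂)
      (HomotopyCategory.homotopyOfEq _ _ h2)
    have h3 := HomotopyCategory.eq_of_homotopy _ _ η
    rw [Functor.map_sub, Functor.map_zero, sub_eq_zero] at h3
    exact h3
  · intro y
    obtain ⟨ψ', hψ'⟩ := (CochainComplex.IsKInjective.Qh_map_bijective _ J).surjective
      (y ≫ Qh.map ((HomotopyCategory.quotient _ _).map q))
    obtain ⟨ψ, rfl⟩ := (HomotopyCategory.quotient _ _).map_surjective ψ'
    obtain ⟨φ, ⟨η⟩⟩ := exists_lift_up_to_homotopy q b hEb hS hI ψ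
    refine ⟨(HomotopyCategory.quotient _ _).map φ, ?_⟩
    dsimp only
    have h3 := HomotopyCategory.eq_of_homotopy _ _ η
    rw [Functor.map_comp] at h3
    rw [← cancel_mono (Qh.map ((HomotopyCategory.quotient _ _).map q)), ← Functor.map_comp, h3,
      hψ']

theorem homotopy_zero_of_comp_quasiIso (E F G : CochainComplex X.Modules ℤ) (b : ℤ)
    (hEb : ∀ i : ℤ, b < i → IsZero (E.X i))
    (hE : ∀ i : ℤ, FlatMod.IsFinLocFree (E.X i)) (hF : ∀ i : ℤ, Coh.IsQCoh (F.X i))
    (f : E ⟶ F) (g : F ⟶ G) [QuasiIso g] (hgf : Nonempty (Homotopy (f ≫ g) 0)) :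
    Nonempty (Homotopy f 0) := by
  obtain ⟨κ⟩ := hgf
  haveI : IsIso (Qh.map ((HomotopyCategory.quotient _ _).map g)) :=
    (NatIso.isIso_map_iff (quotientCompQhIso X.Modules) g).2 inferInstance
  have h1 := HomotopyCategory.eq_of_homotopy _ _ κ
  have h2 : Qh.map ((HomotopyCategory.quotient _ _).map f) =
      Qh.map ((HomotopyCategory.quotient _ _).map (0 : E ⟶ F)) := by
    rw [← cancel_mono (Qh.map ((HomotopyCategory.quotient _ _).map g)), ← Functor.map_comp,
      ← Functor.map_comp, h1, Functor.map_zero, Functor.map_zero, Functor.map_zero,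
      Functor.map_zero, zero_comp]
  exact ⟨HomotopyCategory.homotopyOfEq _ _ ((bijective_Qh_map E F b hEb hE hF).injective h2)⟩

open ZeroObject in
theorem acyclic_iff (E : CochainComplex X.Modules ℤ) (b : ℤ)
    (hEb : ∀ i : ℤ, b < i → IsZero (E.X i))
    (hE : ∀ i : ℤ, FlatMod.IsFinLocFree (E.X i)) :
    E.Acyclic ↔ Nonempty (Homotopy (𝟙 E) 0) := by
  constructor
  · intro hac
    haveI : QuasiIso (0 : E ⟶ (0 : CochainComplex X.Modules ℤ)) := by
      rw [quasiIso_iff]
      intro i
      rw [quasiIsoAt_iff_exactAt _ i (hac i)]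
      exact HomologicalComplex.ExactAt.of_isZero
        ((HomologicalComplex.eval _ _ i).map_isZero (isZero_zero _))
    refine homotopy_zero_of_comp_quasiIso E E 0 b hEb hE
      (fun i => Groth.Agent.Lib.R2H2.PullLF.isQuasicoherent_of_isFinLocFree _ (hE i)) (𝟙 E) 0 ?_
    rw [comp_zero]
    exact ⟨Homotopy.refl _⟩
  · rintro ⟨η⟩ i
    rw [HomologicalComplex.exactAt_iff_isZero_homology, IsZero.iff_id_eq_zero,
      ← HomologicalComplex.homologyMap_id, η.homologyMap_eq, HomologicalComplex.homologyMap_zero]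

end Groth.Agent.Lib.H6xKProj
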