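import Mathlib
set_option backward.isDefEq.respectTransparency.types false

/-!
# A homotopy retraction through a complex vanishing in degree `a - 1` splits `opcycles a` (helper6)

If `𝟙 K` is homotopic to an endomorphism `φ` of a cochain complex `K` with `φ^{a'} = 0`
(`a' + 1 = a`), then `K.pOpcycles a : K^a ⟶ K.opcycles a` is a split epimorphism.
-/

set_option autoImplicit false

universe v u

open CategoryTheory CategoryTheory.Limits

namespace Groth.Agent.Lib.H6xPerfAff

variable {A : Type u} [Category.{v} A] [Abelian A]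

theorem exists_section_pOpcycles (K : CochainComplex A ℤ) (a' a : ℤ) (ha : a' + 1 = a)
    (φ : K ⟶ K) (h : Homotopy (𝟙 K) φ) (hφ : φ.f a' = 0) :
    ∃ σ : K.opcycles a ⟶ K.X a, σ ≫ K.pOpcycles a = 𝟙 _ := by
  have hrel : (ComplexShape.up ℤ).Rel a' a := ha
  have hprev : (ComplexShape.up ℤ).prev a = a' := by
    rw [CochainComplex.prev]
    omega
  -- `d = d ≫ s ≫ d` with `s = h^{a, a'}`
  have hd : K.d a' a = K.d a' a ≫ h.hom a a' ≫ K.d a' a := by
    have h1 := h.comm a'
    rw [dNext_eq _ hrel, hφ, add_zero, HomologicalComplex.id_f] at h1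
    have h2 : prevD a' h.hom ≫ K.d a' a = 0 := by
      by_cases hr : (ComplexShape.up ℤ).Rel (a' - 1) a'
      · rw [prevD_eq _ hr, Category.assoc, K.d_comp_d, comp_zero]
      · have : (ComplexShape.up ℤ).Rel (a' - 1) a' := by simp
        exact absurd this hr
    calc K.d a' a = 𝟙 _ ≫ K.d a' a := (Category.id_comp _).symm
      _ = (K.d a' a ≫ h.hom a a' + prevD a' h.hom) ≫ K.d a' a := by rw [← h1]
      _ = K.d a' a ≫ h.hom a a' ≫ K.d a' a := by
          rw [Preadditive.add_comp, h2, add_zero, Category.assoc]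
  refine ⟨K.descOpcycles (𝟙 _ - h.hom a a' ≫ K.d a' a) a' hprev ?_, ?_⟩
  · rw [Preadditive.comp_sub, Category.comp_id, ← hd, sub_self]
  · rw [← cancel_epi (K.pOpcycles a), HomologicalComplex.p_descOpcycles_assoc,
      Preadditive.sub_comp, Category.id_comp, Category.assoc, K.d_pOpcycles, comp_zero, sub_zero,
      Category.comp_id]

/-- the identity of the homology in degree `j` vanishes when `𝟙 K` is homotopic to a map that is
zero in degree `j`. -/
theorem isZero_homology_of_homotopy (K : CochainComplex A ℤ) (j : ℤ)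
    (φ : K ⟶ K) (h : Homotopy (𝟙 K) φ) (hφ : φ.f j = 0) : IsZero (K.homology j) := by
  rw [IsZero.iff_id_eq_zero, ← HomologicalComplex.homologyMap_id, h.homologyMap_eq]
  have : HomologicalComplex.homologyMap φ j = 0 := by
    rw [← cancel_epi (K.homologyπ j), HomologicalComplex.homologyπ_naturality, comp_zero]
    have : HomologicalComplex.cyclesMap φ j = 0 := by
      rw [← cancel_mono (K.iCycles j), HomologicalComplex.cyclesMap_i, hφ, comp_zero, zero_comp]
    rw [this, zero_comp]
  exact this

end Groth.Agent.Lib.H6xPerfAff
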