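import Mathlib
import Groth.Agent.Lib.H6xKProjC
import Groth.Agent.Lib.H6xPerfAffA
set_option backward.isDefEq.respectTransparency.types false

/-!
# `Q`-forms of the comparison `Hom_K(E, F) ≃ Hom_D(E, F)` on an affine scheme, and homotopy
retractions (helper6)
-/

set_option autoImplicit false
set_option linter.style.haveILetI false

universe u

open CategoryTheory CategoryTheory.Limits AlgebraicGeometry TopologicalSpace Opposite

attribute [local instance] HasDerivedCategory.standard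

namespace Groth.Agent.Lib.H6xKProj

open DerivedCategory

variable {X : Scheme.{u}} [IsAffine X]

section

variable (E F : CochainComplex X.Modules ℤ) (b : ℤ) (hEb : ∀ i : ℤ, b < i → IsZero (E.X i))
  (hE : ∀ i : ℤ, FlatMod.IsFinLocFree (E.X i)) (hF : ∀ i : ℤ, Coh.IsQCoh (F.X i))

include hEb hE hF

theorem exists_Q_map_eq (y : (Q : _ ⥤ DerivedCategory X.Modules).obj E ⟶ Q.obj F) :
    ∃ φ : E ⟶ F, Q.map φ = y := by
  obtain ⟨φ', hφ'⟩ := (bijective_Qh_map E F b hEb hE hF).surjective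
    ((quotientCompQhIso X.Modules).hom.app E ≫ y ≫ (quotientCompQhIso X.Modules).inv.app F)
  obtain ⟨φ, rfl⟩ := (HomotopyCategory.quotient _ _).map_surjective φ'
  refine ⟨φ, ?_⟩
  have h1 := quotientCompQhIso_hom_naturality φ
  dsimp only at hφ'
  rw [hφ'] at h1
  simp only [Category.assoc, Iso.inv_hom_id_app, Category.comp_id] at h1
  exact ((cancel_epi ((quotientCompQhIso X.Modules).hom.app E)).1 h1).symm

theorem homotopy_of_Q_map_eq {f g : E ⟶ F}
    (h : (Q : _ ⥤ DerivedCategory X.Modules).map f = Q.map g) : Nonempty (Homotopy f g) := by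
  have h1 : Qh.map ((HomotopyCategory.quotient _ _).map f) =
      Qh.map ((HomotopyCategory.quotient _ _).map g) := by
    rw [← cancel_mono ((quotientCompQhIso X.Modules).hom.app F), quotientCompQhIso_hom_naturality,
      quotientCompQhIso_hom_naturality, h]
  exact ⟨HomotopyCategory.homotopyOfEq _ _
    ((bijective_Qh_map E F b hEb hE hF).injective h1)⟩

end

lemma isQCoh_of_isFinLocFree {P : X.Modules} (hP : FlatMod.IsFinLocFree P) : Coh.IsQCoh P :=
  Groth.Agent.Lib.R2H2.PullLF.isQuasicoherent_of_isFinLocFree _ hP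

/-- a retraction in the derived category between bounded above complexes of finite locally free
modules on an affine scheme lifts to a homotopy retraction. -/
theorem exists_homotopy_retraction (T E : CochainComplex X.Modules ℤ) (b b' : ℤ)
    (hTb : ∀ i : ℤ, b < i → IsZero (T.X i)) (hT : ∀ i : ℤ, FlatMod.IsFinLocFree (T.X i))
    (hEb : ∀ i : ℤ, b' < i → IsZero (E.X i)) (hE : ∀ i : ℤ, FlatMod.IsFinLocFree (E.X i))
    (i : (Q : _ ⥤ DerivedCategory X.Modules).obj T ⟶ Q.obj E) (p : Q.obj E ⟶ Q.obj T)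
    (hip : i ≫ p = 𝟙 _) :
    ∃ (u : T ⟶ E) (v : E ⟶ T), Nonempty (Homotopy (𝟙 T) (u ≫ v)) := by
  obtain ⟨u, hu⟩ := exists_Q_map_eq T E b hTb hT (fun j => isQCoh_of_isFinLocFree (hE j)) i
  obtain ⟨v, hv⟩ := exists_Q_map_eq E T b' hEb hE (fun j => isQCoh_of_isFinLocFree (hT j)) p
  refine ⟨u, v, ?_⟩
  refine homotopy_of_Q_map_eq T T b hTb hT (fun j => isQCoh_of_isFinLocFree (hT j)) ?_
  rw [CategoryTheory.Functor.map_id, CategoryTheory.Functor.map_comp, hu, hv, hip]

/-- the key consequence: `opcycles a` of `T` is a retract of `T^a` and `T` is exact below `a`. -/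
theorem retract_opcycles (T E : CochainComplex X.Modules ℤ) (b b' : ℤ)
    (hTb : ∀ i : ℤ, b < i → IsZero (T.X i)) (hT : ∀ i : ℤ, FlatMod.IsFinLocFree (T.X i))
    (hEb : ∀ i : ℤ, b' < i → IsZero (E.X i)) (hE : ∀ i : ℤ, FlatMod.IsFinLocFree (E.X i))
    (i : (Q : _ ⥤ DerivedCategory X.Modules).obj T ⟶ Q.obj E) (p : Q.obj E ⟶ Q.obj T)
    (hip : i ≫ p = 𝟙 _) (a : ℤ) (hEa : ∀ j : ℤ, j < a → IsZero (E.X j)) :
    (∃ σ : T.opcycles a ⟶ T.X a, σ ≫ T.pOpcycles a = 𝟙 _) ∧
      ∀ j : ℤ, j < a → IsZero (T.homology j) := by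
  obtain ⟨u, v, ⟨h⟩⟩ := exists_homotopy_retraction T E b b' hTb hT hEb hE i p hip
  have hz : ∀ j : ℤ, j < a → (u ≫ v).f j = 0 := fun j hj => by
    rw [HomologicalComplex.comp_f]
    rw [(hEa j hj).eq_of_tgt (u.f j) 0, zero_comp]
  exact ⟨Groth.Agent.Lib.H6xPerfAff.exists_section_pOpcycles T (a - 1) a (by omega) _ h
    (hz _ (by omega)),
    fun j hj => Groth.Agent.Lib.H6xPerfAff.isZero_homology_of_homotopy T j _ h (hz j hj)⟩

end Groth.Agent.Lib.H6xKProj
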