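import Mathlib
import Groth.Agent.Lib.H6xKProjD
import Groth.Agent.Lib.R2H2PdSheaf
import Groth.Agent.Lib.Helper26ModLocFree
set_option backward.isDefEq.respectTransparency.types false

/-!
# Truncating a bounded above complex of finite locally free modules to a strictly perfect one
(helper6)
-/

set_option autoImplicit false
set_option linter.style.haveILetI false

universe u

open CategoryTheory CategoryTheory.Limits AlgebraicGeometry TopologicalSpace Opposite

attribute [local instance] HasDerivedCategory.standard

namespace Groth.Agent.Lib.H6xPerfAff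

open DerivedCategory Groth.Agent.Lib.Helper26.ModLocFree

variable {X : Scheme.{u}}

/-- (L3) canonical truncation is strictly perfect as soon as `opcycles a` is finite locally free. -/
theorem isStrictlyPerfect_truncGE (T : CochainComplex X.Modules ℤ) (a b : ℤ)
    (hTb : ∀ i : ℤ, b < i → IsZero (T.X i)) (hT : ∀ i : ℤ, FlatMod.IsFinLocFree (T.X i))
    (hop : FlatMod.IsFinLocFree (T.opcycles a)) :
    DCoh.IsStrictlyPerfect (T.truncGE a) := by
  refine ⟨⟨a, b, ?_⟩, fun i => ?_⟩
  · rintro i (hi | hi)
    · exact CochainComplex.isZero_of_isStrictlyGE (T.truncGE a) a i hi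
    · rcases lt_trichotomy i a with hia | hia | hia
      · exact CochainComplex.isZero_of_isStrictlyGE (T.truncGE a) a i hia
      · subst hia
        exact (IsZero.of_epi (T.pOpcycles i) (hTb i hi)).of_iso (T.truncGEXIsoOpcycles i)
      · exact (hTb i hi).of_iso (T.truncGEXIso a i hia)
  · rcases lt_trichotomy i a with hi | hi | hi
    · exact Groth.Agent.Lib.R2H2.PdSheaf.isFinLocFree_of_isZero _
        (CochainComplex.isZero_of_isStrictlyGE (T.truncGE a) a i hi)
    · subst hi
      exact isFinLocFree_of_iso (T.truncGEXIsoOpcycles i).symm hop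
    · exact isFinLocFree_of_iso (T.truncGEXIso a i hi).symm (hT i)

end Groth.Agent.Lib.H6xPerfAff
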