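import Mathlib
import Groth.Agent.Lib.H6xPerfAffB
import Groth.Agent.Lib.H6xPerfCoh
import Groth.Agent.Lib.Helper23ModLocal
set_option backward.isDefEq.respectTransparency.types false

/-!
# A bounded above complex of finite locally free modules which is perfect can be truncated to a
strictly perfect complex (on a quasi-compact scheme) (helper6)
-/

set_option autoImplicit false
set_option linter.style.haveILetI false

universe u

open CategoryTheory CategoryTheory.Limits AlgebraicGeometry TopologicalSpace Opposite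

attribute [local instance] HasDerivedCategory.standard

namespace Groth.Agent.Lib.H6xPerfAff

open DerivedCategory Groth.Agent.Lib.Helper26.ModLocFree Groth.Agent.Lib.H6xPerfLoc
  Groth.Agent.Lib.H6xKProj

variable {X : Scheme.{u}}

/-- finite local freeness can be checked along arbitrary open immersions -/
theorem isFinLocFree_of_exists_openImmersion (M : X.Modules)
    (h : ∀ x : X, ∃ (Z : Scheme.{u}) (g : Z ⟶ X) (_ : IsOpenImmersion g) (n : ℕ),
      x ∈ Set.range g.base ∧ Nonempty (M.restrict g ≅ FlatMod.freeMod Z n)) :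
    FlatMod.IsFinLocFree M := by
  intro x
  obtain ⟨Z, g, hg, n, hx, ⟨e⟩⟩ := h x
  refine ⟨g.opensRange, n, hx, ⟨?_⟩⟩
  exact (Scheme.Modules.restrictFunctorCongr g.isoOpensRange_inv_comp.symm).app M ≪≫
    (Scheme.Modules.restrictFunctorComp g.isoOpensRange.inv g).app M ≪≫
    (Scheme.Modules.restrictFunctor g.isoOpensRange.inv).mapIso e ≪≫
    Groth.Agent.H3.FLF.restrictFreeMod g.isoOpensRange.inv n

theorem isFinLocFree_of_restrict_cover (M : X.Modules)
    (h : ∀ x : X, ∃ W : X.Opens, x ∈ W ∧ FlatMod.IsFinLocFree (M.restrict W.ι)) :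
    FlatMod.IsFinLocFree M := by
  refine isFinLocFree_of_exists_openImmersion M (fun x => ?_)
  obtain ⟨W, hxW, hW⟩ := h x
  obtain ⟨U', n, hxU', ⟨e⟩⟩ := hW ⟨x, hxW⟩
  refine ⟨U', U'.ι ≫ W.ι, inferInstance, n, ⟨⟨⟨x, hxW⟩, hxU'⟩, rfl⟩, ⟨?_⟩⟩
  exact (Scheme.Modules.restrictFunctorComp U'.ι W.ι).app M ≪≫ e

/-- on an affine scheme, a retract of a finite locally free module is finite locally free -/
theorem isFinLocFree_of_retract_of_isFinLocFree [IsAffine X] {M P : X.Modules}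
    (hP : FlatMod.IsFinLocFree P) (s : M ⟶ P) (r : P ⟶ M) (hsr : s ≫ r = 𝟙 M) :
    FlatMod.IsFinLocFree M := by
  obtain ⟨n, s', r', h'⟩ := exists_retract_freeMod P hP
  refine Groth.Agent.Lib.Helper20.LocFree.isFinLocFree_of_retract (s ≫ s') (r' ≫ r) ?_
  rw [Category.assoc, ← Category.assoc s' r' r, h', Category.id_comp, hsr]

/-- the local step -/
theorem local_step (T : CochainComplex X.Modules ℤ) (b : ℤ)
    (hTb : ∀ i : ℤ, b < i → IsZero (T.X i)) (hT : ∀ i : ℤ, FlatMod.IsFinLocFree (T.X i))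
    (hperf : DCoh.IsPerfect ((Q : _ ⥤ DerivedCategory X.Modules).obj T)) (x : X) :
    ∃ (W : X.Opens) (a₀ : ℤ), x ∈ W ∧ ∀ a : ℤ, a ≤ a₀ →
      FlatMod.IsFinLocFree ((T.opcycles a).restrict W.ι) ∧
        ∀ j : ℤ, j < a → IsZero ((T.homology j).restrict W.ι) := by
  obtain ⟨V, hxV, E, hE, ⟨e⟩⟩ := (Groth.Agent.Lib.H6xPerfCoh.isPerfect_iff_opens _).1 hperf x
  obtain ⟨W, hW, hxW, hWV⟩ := exists_isAffineOpen_mem_and_subset (x := x) (U := V) hxV
  haveI : IsAffine (W : Scheme.{u}) := hW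
  obtain ⟨θ⟩ := nonempty_Q_restrict_iso (X.homOfLE hWV) V.ι W.ι (X.homOfLE_ι hWV) T E
    (((Scheme.Modules.restrictFunctor V.ι).mapDerivedCategoryFactors.app T).symm ≪≫ e)
  have hEW := isStrictlyPerfect_restrict (X.homOfLE hWV) E hE
  obtain ⟨⟨a₀, b', hab⟩, hflf⟩ := hEW
  refine ⟨W, a₀, hxW, fun a ha => ?_⟩
  set F := Scheme.Modules.restrictFunctor W.ι with hF
  set TW := (F.mapHomologicalComplex (ComplexShape.up ℤ)).obj T with hTW
  have hTWb : ∀ i : ℤ, b < i → IsZero (TW.X i) := fun i hi => F.map_isZero (hTb i hi)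
  have hTWf : ∀ i : ℤ, FlatMod.IsFinLocFree (TW.X i) := fun i =>
    isFinLocFree_restrict W.ι _ (hT i)
  obtain ⟨⟨σ, hσ⟩, hz⟩ := retract_opcycles TW _ b b' hTWb hTWf
    (fun i hi => hab i (Or.inr hi)) hflf θ.hom θ.inv θ.hom_inv_id a
    (fun j hj => hab j (Or.inl (by omega)))
  refine ⟨?_, fun j hj => ?_⟩
  · have e1 : TW.opcycles a ≅ F.obj (T.opcycles a) := (T.sc a).mapOpcyclesIso F
    exact isFinLocFree_of_iso e1
      (isFinLocFree_of_retract_of_isFinLocFree (hTWf a) σ (TW.pOpcycles a) hσ)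
  · have e2 : TW.homology j ≅ F.obj (T.homology j) := (T.sc j).mapHomologyIso F
    exact (hz j hj).of_iso e2.symm

theorem exists_truncation [CompactSpace X] (T : CochainComplex X.Modules ℤ) (b : ℤ)
    (hTb : ∀ i : ℤ, b < i → IsZero (T.X i)) (hT : ∀ i : ℤ, FlatMod.IsFinLocFree (T.X i))
    (hperf : DCoh.IsPerfect ((Q : _ ⥤ DerivedCategory X.Modules).obj T)) :
    ∃ a : ℤ, FlatMod.IsFinLocFree (T.opcycles a) ∧ ∀ j : ℤ, j < a → IsZero (T.homology j) := by
  choose W a₀ hxW hW using local_step T b hTb hT hperf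
  obtain ⟨s, hs⟩ := isCompact_univ.elim_finite_subcover (fun x => ((W x : X.Opens) : Set X))
    (fun x => (W x).isOpen) (fun x _ => Set.mem_iUnion.2 ⟨x, hxW x⟩)
  obtain ⟨a, ha⟩ : ∃ a : ℤ, ∀ i ∈ s.image a₀, a ≤ i := by
    obtain ⟨M, hM⟩ := Finset.exists_le ((s.image a₀).image (fun t => -t))
    exact ⟨-M, fun i hi => by have := hM (-i) (Finset.mem_image_of_mem _ hi); omega⟩
  have hcov : ∀ y : X, ∃ x ∈ s, y ∈ W x := fun y => by
    have := hs (Set.mem_univ y)
    simpa using this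
  refine ⟨a, ?_, fun j hj => ?_⟩
  · refine isFinLocFree_of_restrict_cover _ (fun y => ?_)
    obtain ⟨x, hxs, hy⟩ := hcov y
    exact ⟨W x, hy, (hW x a (ha _ (Finset.mem_image_of_mem _ hxs))).1⟩
  · refine Groth.Agent.Lib.Helper23.ModLocal.isZero_of_isZero_restrict
      (fun x : s => ((W x.1 : X.Opens) : Scheme.{u})) (fun x => (W x.1).ι) (fun y => ?_)
      (fun x => (hW x.1 a (ha _ (Finset.mem_image_of_mem _ x.2))).2 j hj)
    obtain ⟨x, hxs, hy⟩ := hcov y
    exact ⟨⟨x, hxs⟩, ⟨y, hy⟩, rfl⟩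

end Groth.Agent.Lib.H6xPerfAff
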