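import Mathlib
import Groth.Agent.Lib.H6xPerfAffC
import Groth.Agent.Lib.H6xPerfAffD
import Groth.Agent.Lib.H6xTildeE
import Groth.Agent.Lib.H6xPerf23A
import Groth.Agent.S2066
set_option backward.isDefEq.respectTransparency.types false

/-!
# `M~` is perfect on `Spec A` iff `M` is perfect in `D(A)`: S1105 (helper6)
-/

set_option autoImplicit false
set_option linter.style.haveILetI false

universe u

open CategoryTheory CategoryTheory.Limits AlgebraicGeometry TopologicalSpace Opposite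

attribute [local instance] HasDerivedCategory.standard

namespace Groth.Agent.Lib.H6xPerfAff

open DerivedCategory Groth.Agent.Lib.H6xPerfLoc Groth.Agent.Lib.H6xPerf23

section General

variable {X : Scheme.{u}}

theorem isPseudoCoherentD_of_isPerfect (K : DCoh.D X) (hK : DCoh.IsPerfect K) (m : ℤ) :
    DCoh.IsPseudoCoherentD m K := by
  intro x
  obtain ⟨V, hxV, hV⟩ := hK x
  refine ⟨V, hxV, fun F hF => ?_⟩
  obtain ⟨E, hE, ⟨e⟩⟩ := hV F hF
  exact ⟨E, e.inv, hE, fun i _ => inferInstance, inferInstance⟩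

theorem isPerfect_Q_of_isStrictlyPerfect (T : CochainComplex X.Modules ℤ)
    (hT : DCoh.IsStrictlyPerfect T) :
    DCoh.IsPerfect ((Q : _ ⥤ DerivedCategory X.Modules).obj T) := by
  rw [isPerfect_iff_local]
  intro x
  exact ⟨X, 𝟙 X, inferInstance, ⟨x, rfl⟩, _, isStrictlyPerfect_restrict (𝟙 X) T hT,
    ⟨(Scheme.Modules.restrictFunctor (𝟙 X)).mapDerivedCategoryFactors.app T⟩⟩

end General

variable (R : CommRingCat.{u}) [PreservesFiniteLimits (tilde.functor R)]

theorem isPerfect_tildeD_of_isPerfect (M : DerivedCategory (ModuleCat.{u} R))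
    (h : DRing.IsPerfect R M) : DCoh.IsPerfect ((DCoh.tildeD R).obj M) := by
  obtain ⟨E, a, b, hE, hP, ⟨e⟩⟩ := h
  have hSP := Groth.Agent.Lib.H6xTildePC.isStrictlyPerfect_tilde R E a b hE hP
  exact isPerfect_of_iso
    (((tilde.functor R).mapDerivedCategoryFactors.app E).symm ≪≫ (DCoh.tildeD R).mapIso e)
    (isPerfect_Q_of_isStrictlyPerfect _ hSP)

theorem isPerfect_of_isPerfect_tildeD (M : DerivedCategory (ModuleCat.{u} R))
    (h : DCoh.IsPerfect ((DCoh.tildeD R).obj M)) : DRing.IsPerfect R M := by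
  have hpc : ∀ m : ℤ, DRing.IsPseudoCoherent R m M := fun m =>
    (Groth.Agent.Lib.H6xTildePC.pc_tildeD_iff R M m).1 (isPseudoCoherentD_of_isPerfect _ h m)
  obtain ⟨P, b, hPb, hPf, ⟨eP⟩⟩ := (Groth.Agent.S2066.result (A := R) M).1.1 hpc
  obtain ⟨T, hT⟩ : ∃ T : CochainComplex (Spec R).Modules ℤ,
      T = ((tilde.functor R).mapHomologicalComplex (ComplexShape.up ℤ)).obj P := ⟨_, rfl⟩
  have eT : (DCoh.tildeD R).obj M ≅ Q.obj T :=
    (DCoh.tildeD R).mapIso eP.symm ≪≫ (tilde.functor R).mapDerivedCategoryFactors.app P ≪≫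
      eqToIso (by rw [hT]; rfl)
  have hperf : DCoh.IsPerfect ((Q : _ ⥤ DerivedCategory (Spec R).Modules).obj T) :=
    isPerfect_of_iso eT h
  have hTb : ∀ i : ℤ, b < i → IsZero (T.X i) := fun i hi => by
    rw [hT]
    exact (tilde.functor R).map_isZero (hPb i hi)
  have hTf : ∀ i : ℤ, FlatMod.IsFinLocFree (T.X i) := fun i => by
    rw [hT]
    exact (Groth.Agent.Lib.Helper2.FPAff.isFinLocFree_tilde_iff R (P.X i)).2
      ⟨(hPf i).1, haveI := (hPf i).2; inferInstance⟩
  obtain ⟨a, hop, hz⟩ := exists_truncation T b hTb hTf hperf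
  have hT' := isStrictlyPerfect_truncGE T a b hTb hTf hop
  haveI : T.IsGE a := (T.isGE_iff a).2 (fun i hi =>
    (HomologicalComplex.exactAt_iff_isZero_homology _ _).2 (hz i hi))
  have e' : (Q : _ ⥤ DerivedCategory (Spec R).Modules).obj T ≅ Q.obj (T.truncGE a) :=
    asIso (Q.map (T.πTruncGE a))
  obtain ⟨L, a', b', hL0, hLP, ⟨eL⟩⟩ := exists_tilde_iso_of_isStrictlyPerfect R _ hT'
  have iso : (DCoh.tildeD R).obj M ≅ (DCoh.tildeD R).obj (Q.obj L) :=
    eT ≪≫ e' ≪≫ (Q.mapIso eL).symm ≪≫ ((tilde.functor R).mapDerivedCategoryFactors.app L).symm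
  obtain ⟨hfull, hfaith, -⟩ := Groth.Agent.Lib.H6xTilde.main R
  haveI := hfull
  haveI := hfaith
  exact ⟨L, a', b', hL0, hLP,
    ⟨((Functor.FullyFaithful.ofFullyFaithful (DCoh.tildeD R)).preimageIso iso).symm⟩⟩

theorem isPerfect_tildeD_iff (M : DerivedCategory (ModuleCat.{u} R)) :
    DCoh.IsPerfect ((DCoh.tildeD R).obj M) ↔ DRing.IsPerfect R M :=
  ⟨isPerfect_of_isPerfect_tildeD R M, isPerfect_tildeD_of_isPerfect R M⟩

end Groth.Agent.Lib.H6xPerfAff
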