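import Mathlib
import Groth.Agent.Lib.H6xPerfAffE
import Groth.Agent.Lib.H6xPerfCoh
import Groth.Agent.Lib.H6xRpushBd
import Groth.Agent.Lib.R2H2PullLF
import Groth.Agent.Lib.Helper23FinTypeLocal
import Groth.Agent.S6990
import Groth.Agent.S14388
import Groth.Agent.S9498
set_option backward.isDefEq.respectTransparency.types false

/-!
# Vanishing range for maps out of a perfect object: the affine case (helper6; towards S1011)
-/

set_option autoImplicit false
set_option linter.style.haveILetI false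
set_option linter.unusedVariables false
set_option linter.unusedSectionVars false
universe u
open CategoryTheory CategoryTheory.Limits AlgebraicGeometry TopologicalSpace Opposite

attribute [local instance] HasDerivedCategory.standard

namespace Groth.Agent.Lib.H6xPerfVan

open DerivedCategory Pretriangulated Groth.Agent.S14388

section abstract

variable {C : Type*} [Category C] [Abelian C] [HasDerivedCategory C]

/-- maps from a bounded complex of projectives in degrees `[a, b]` to an object with no cohomology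
in degrees `[a, b]` vanish -/
lemma hom_eq_zero_of_vanishing (P : CochainComplex C ℤ) (a b : ℤ)
    (hP : ∀ i : ℤ, i < a ∨ b < i → IsZero (P.X i)) [∀ i : ℤ, Projective (P.X i)]
    (M : DerivedCategory C)
    (hM : ∀ i : ℤ, a ≤ i → i ≤ b → IsZero ((homologyFunctor C i).obj M))
    (φ : Q.obj P ⟶ M) : φ = 0 := by
  have hT := tt.triangleLTGE_distinguished a M
  have hGE : ((tt.truncGE a).obj M).IsGE (b + 1) := by
    rw [DerivedCategory.isGE_iff]
    intro i hi
    by_cases hia : i < a
    · have : ((tt.truncGE a).obj M).IsGE a := inferInstance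
      exact (DerivedCategory.isGE_iff _ a).1 this i hia
    · have hiso := isIso_homology_truncGEπ a i (by lia) M
      exact (hM i (by lia) (by lia)).of_iso
        (asIso ((homologyFunctor C i).map ((tt.truncGEπ a).app M))).symm
  have hPle : P.IsStrictlyLE b := by
    rw [CochainComplex.isStrictlyLE_iff]
    intro i hi
    exact hP i (Or.inr hi)
  have hLE : (Q.obj P).IsLE b := inferInstance
  haveI : tt.IsLE (Q.obj P) b := hLE
  haveI : tt.IsGE ((tt.triangleLTGE a).obj M).obj₃ (b + 1) := hGE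
  have h0 : φ ≫ ((tt.triangleLTGE a).obj M).mor₂ = 0 :=
    tt.zero _ b (b + 1) (by lia)
  obtain ⟨g, hg⟩ := Triangle.coyoneda_exact₂ _ hT φ h0
  have hLT : ((tt.truncLT a).obj M).IsLE (a - 1) := inferInstance
  have hg0 : g = 0 := Groth.Agent.S6990.hom_eq_zero P a b hP _ g
  rw [hg, hg0]
  exact zero_comp

end abstract

section qc

variable {X : Scheme.{u}}

/-- perfect objects have quasi-coherent cohomology sheaves -/
theorem isQCohD_of_isPerfect (K : DCoh.D X) (hK : DCoh.IsPerfect K) : DCoh.IsQCohD K := by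
  intro i
  rw [Groth.Agent.Lib.H6xPerfCoh.isPerfect_iff_opens] at hK
  choose V hxV E hE he using hK
  refine Groth.Agent.Lib.Helper23.FinType.isQuasicoherent_of_open_cover (DCoh.HD K i) V ?_
    (fun x => ?_)
  · rw [IsOpenCover, eq_top_iff]
    intro x _
    exact Opens.mem_iSup.2 ⟨x, hxV x⟩
  · obtain ⟨e⟩ := he x
    obtain ⟨e2⟩ := Groth.Agent.Lib.H6xSuppPush.nonempty_homology_mapDerivedCategory_iso
      (Scheme.Modules.restrictFunctor (V x).ι) K i
    have h1 : Coh.IsQCoh ((homologyFunctor (V x : Scheme.{u}).Modules i).obj (Q.obj (E x))) :=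
      Groth.Agent.Lib.H6xAffPush.isQCohD_Q (E x)
        (fun n => Groth.Agent.Lib.R2H2.PullLF.isQuasicoherent_of_isFinLocFree _ ((hE x).2 n)) i
    exact (SheafOfModules.isQuasicoherent.{u} _).prop_of_iso
      ((homologyFunctor _ i).mapIso e.symm ≪≫ e2) h1

end qc

section van

/-- all maps from `K` to objects with quasi-coherent cohomology vanishing in `[a, b]` are zero -/
def Van {X : Scheme.{u}} (K : DCoh.D X) (a b : ℤ) : Prop :=
  ∀ L : DCoh.D X, DCoh.IsQCohD L → (∀ i : ℤ, a ≤ i → i ≤ b → IsZero (DCoh.HD L i)) →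
    ∀ φ : K ⟶ L, φ = 0

lemma Van.mono {X : Scheme.{u}} {K : DCoh.D X} {a b a' b' : ℤ} (h : Van K a b) (ha : a' ≤ a)
    (hb : b ≤ b') : Van K a' b' :=
  fun L hL hv φ => h L hL (fun i h1 h2 => hv i (ha.trans h1) (h2.trans hb)) φ

lemma Van.of_iso {X : Scheme.{u}} {K K' : DCoh.D X} {a b : ℤ} (h : Van K a b) (e : K ≅ K') :
    Van K' a b := fun L hL hv φ => by
  have := h L hL hv (e.hom ≫ φ)
  rw [← cancel_epi e.hom, this, comp_zero]

/-- every perfect object has a vanishing range -/
def VanP (X : Scheme.{u}) : Prop :=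
  ∀ K : DCoh.D X, DCoh.IsPerfect K → ∃ a b : ℤ, a ≤ b ∧ Van K a b

theorem vanP_spec (R : CommRingCat.{u}) : VanP (Spec R) := by
  haveI := (Groth.Agent.S9498.aux R).1
  intro K hK
  obtain ⟨hfull, hfaith, hess⟩ := Groth.Agent.Lib.H6xTilde.main R
  haveI := hfull
  haveI := hfaith
  obtain ⟨MK, ⟨eK⟩⟩ := (hess K).1 (isQCohD_of_isPerfect K hK)
  have hMK : DRing.IsPerfect R MK :=
    Groth.Agent.Lib.H6xPerfAff.isPerfect_of_isPerfect_tildeD R MK
      (Groth.Agent.Lib.H6xPerf23.isPerfect_of_iso eK.symm hK)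
  obtain ⟨E, a, b, hE, hP, ⟨e⟩⟩ := hMK
  refine ⟨min a b, max a b, le_trans (min_le_left _ _) (le_max_left _ _), ?_⟩
  intro L hL hvan φ
  obtain ⟨ML, ⟨eL⟩⟩ := (hess L).1 hL
  have hML : ∀ i : ℤ, min a b ≤ i → i ≤ max a b →
      IsZero ((homologyFunctor (ModuleCat.{u} R) i).obj ML) := by
    intro i h1 h2
    obtain ⟨e2⟩ := Groth.Agent.Lib.H6xSuppPush.nonempty_homology_mapDerivedCategory_iso
      (tilde.functor R) ML i
    apply Groth.Agent.Lib.H6xRpushQc.isZero_of_isZero_tilde R
    exact (hvan i h1 h2).of_iso (e2.symm ≪≫ (homologyFunctor _ i).mapIso eL)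
  haveI : ∀ i : ℤ, Projective (E.X i) := fun i =>
    haveI := (hP i).2
    ModuleCat.projective_of_categoryTheory_projective _
  have hE' : ∀ i : ℤ, i < min a b ∨ max a b < i → IsZero (E.X i) := by
    intro i hi
    refine hE i ?_
    rcases hi with hi | hi
    · exact Or.inl (lt_of_lt_of_le hi (min_le_left _ _))
    · exact Or.inr (lt_of_le_of_lt (le_max_right _ _) hi)
  have hψ : e.hom ≫ (DCoh.tildeD R).preimage (eK.hom ≫ φ ≫ eL.inv) = 0 :=
    hom_eq_zero_of_vanishing E (min a b) (max a b) hE' ML hML _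
  have h1 : (DCoh.tildeD R).preimage (eK.hom ≫ φ ≫ eL.inv) = 0 := by
    rw [← cancel_epi e.hom, hψ, comp_zero]
  have h2 : eK.hom ≫ φ ≫ eL.inv = 0 := by
    rw [← (DCoh.tildeD R).map_preimage (eK.hom ≫ φ ≫ eL.inv), h1, Functor.map_zero]
  have h3 : φ ≫ eL.inv = 0 := by
    rw [← cancel_epi eK.hom, h2, comp_zero]
  rw [← cancel_mono eL.inv, h3, zero_comp]

end van

end Groth.Agent.Lib.H6xPerfVan
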