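import Mathlib
import Groth.Agent.Lib.H6xRpushQcB
set_option backward.isDefEq.respectTransparency.types false

/-!
# A Mayer–Vietoris induction principle for quasi-compact quasi-separated schemes (helper6)

`qcqs_induction`: a property of schemes which holds for spectra of rings and satisfies the
Mayer–Vietoris patching condition (for a cover by two open subschemes, from the two pieces and the
intersection) holds for all quasi-compact quasi-separated schemes.
-/

set_option autoImplicit false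
set_option linter.style.haveILetI false
universe u
open CategoryTheory CategoryTheory.Limits AlgebraicGeometry TopologicalSpace Opposite

namespace Groth.Agent.Lib.H6xQcqsInd

open Groth.Agent.Lib.H6xRpushQc

/-- the Mayer–Vietoris patching condition for a property of schemes -/
def MVPatch (V : Scheme.{u} → Prop) : Prop :=
  ∀ (X U₁ U₂ W : Scheme.{u}) (j₁ : U₁ ⟶ X) (j₂ : U₂ ⟶ X) (k : W ⟶ X) (i₁ : W ⟶ U₁) (i₂ : W ⟶ U₂)
    [IsOpenImmersion j₁] [IsOpenImmersion j₂] [IsOpenImmersion k] [IsOpenImmersion i₁]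
    [IsOpenImmersion i₂], i₁ ≫ j₁ = k → i₂ ≫ j₂ = k →
    Set.range j₁.base ∪ Set.range j₂.base = Set.univ →
    Set.range k.base = Set.range j₁.base ∩ Set.range j₂.base → V U₁ → V U₂ → V W → V X

section stages

variable {V : Scheme.{u} → Prop} (h_spec : ∀ R : CommRingCat.{u}, V (Spec R)) (h_mv : MVPatch V)

include h_spec h_mv

theorem of_affine {X : Scheme.{u}} (hX : IsAffineOpen (⊤ : X.Opens)) : V X := by
  have g : V (Spec Γ(X, ⊤)) := h_spec _
  refine h_mv X _ _ _ hX.fromSpec hX.fromSpec hX.fromSpec (𝟙 _) (𝟙 _) (Category.id_comp _)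
    (Category.id_comp _) ?_ ?_ g g g
  · rw [Set.union_self]
    exact hX.range_fromSpec
  · rw [Set.inter_self]

theorem of_isEmpty {X : Scheme.{u}} (h : IsEmpty X) : V X := by
  refine of_affine h_spec h_mv ?_
  have : (⊤ : X.Opens) = ⊥ := by
    ext x
    exact h.elim x
  rw [this]
  exact isAffineOpen_bot X

theorem step {X : Scheme.{u}} (U₁ U₂ : X.Opens) (hU₁ : IsAffineOpen U₁)
    (hcov : ∀ x : X, x ∈ U₁ ∨ x ∈ U₂)
    (g₂ : V (U₂ : Scheme.{u})) (gW : V ((U₁ ⊓ U₂ : X.Opens) : Scheme.{u})) : V X := by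
  have g₁ : V (Spec Γ(X, U₁)) := h_spec _
  refine h_mv X _ _ _ hU₁.fromSpec U₂.ι (U₁ ⊓ U₂).ι
    (X.homOfLE inf_le_left ≫ hU₁.isoSpec.hom) (X.homOfLE inf_le_right) ?_ ?_ ?_ ?_ g₁ g₂ gW
  · rw [Category.assoc, hU₁.isoSpec_hom_fromSpec, Scheme.homOfLE_ι]
  · rw [Scheme.homOfLE_ι]
  · rw [hU₁.range_fromSpec, Scheme.Opens.range_ι]
    ext x
    simpa using hcov x
  · rw [hU₁.range_fromSpec, Scheme.Opens.range_ι, Scheme.Opens.range_ι]
    rfl

theorem stage1 : ∀ (n : ℕ) (X : Scheme.{u}), AffInt X → FinAffCov X n → V X := by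
  intro n
  induction n with
  | zero =>
    rintro X - ⟨s, hs, -, hcov⟩
    refine of_isEmpty h_spec h_mv ⟨fun x => ?_⟩
    obtain ⟨U, hU, -⟩ := hcov x
    have : s = ∅ := Finset.card_eq_zero.1 (Nat.le_zero.1 hs)
    simp [this] at hU
  | succ n ih =>
    rintro X hX ⟨s, hs, haff, hcov⟩
    by_cases hemp : s = ∅
    · refine of_isEmpty h_spec h_mv ⟨fun x => ?_⟩
      obtain ⟨U, hU, -⟩ := hcov x
      simp [hemp] at hU
    obtain ⟨U₁, U₂, s', hU₁, hs', haff', hle, hcov', hcov''⟩ :=
      exists_split n s hs haff hcov (Finset.nonempty_iff_ne_empty.2 hemp)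
    refine step h_spec h_mv U₁ U₂ hU₁ hcov'' ?_ ?_
    · exact ih U₂ (affInt_of_isOpenImmersion U₂.ι hX)
        (finAffCov_opens U₂ n s' hs' haff' hle hcov')
    · classical
      refine ih (U₁ ⊓ U₂ : X.Opens) (affInt_of_isOpenImmersion (U₁ ⊓ U₂).ι hX)
        (finAffCov_opens (U₁ ⊓ U₂) n (s'.image (fun V => U₁ ⊓ V)) (Finset.card_image_le.trans hs')
          ?_ ?_ ?_)
      · intro A hA
        obtain ⟨V, hV, rfl⟩ := Finset.mem_image.1 hA
        exact hX _ _ hU₁ (haff' V hV)
      · intro A hA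
        obtain ⟨V, hV, rfl⟩ := Finset.mem_image.1 hA
        exact inf_le_inf_left _ (hle V hV)
      · intro x hx
        obtain ⟨V, hV, hxV⟩ := hcov' x hx.2
        exact ⟨_, Finset.mem_image.2 ⟨V, hV, rfl⟩, ⟨hx.1, hxV⟩⟩

theorem stage2 : ∀ (n : ℕ) (X : Scheme.{u}), QuasiSeparatedSpace X → FinAffCov X n → V X := by
  intro n
  induction n with
  | zero =>
    rintro X - ⟨s, hs, -, hcov⟩
    refine of_isEmpty h_spec h_mv ⟨fun x => ?_⟩
    obtain ⟨U, hU, -⟩ := hcov x
    have : s = ∅ := Finset.card_eq_zero.1 (Nat.le_zero.1 hs)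
    simp [this] at hU
  | succ n ih =>
    rintro X hX ⟨s, hs, haff, hcov⟩
    by_cases hemp : s = ∅
    · refine of_isEmpty h_spec h_mv ⟨fun x => ?_⟩
      obtain ⟨U, hU, -⟩ := hcov x
      simp [hemp] at hU
    obtain ⟨U₁, U₂, s', hU₁, hs', haff', hle, hcov', hcov''⟩ :=
      exists_split n s hs haff hcov (Finset.nonempty_iff_ne_empty.2 hemp)
    refine step h_spec h_mv U₁ U₂ hU₁ hcov'' ?_ ?_
    · haveI : QuasiSeparatedSpace U₂ := U₂.ι.isOpenEmbedding.quasiSeparatedSpace
      exact ih U₂ inferInstance (finAffCov_opens U₂ n s' hs' haff' hle hcov')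
    · have hc : IsCompact ((U₁ ⊓ U₂ : X.Opens) : Set X) := by
        have h2 : IsCompact (U₂ : Set X) := by
          have : (U₂ : Set X) = ⋃ V ∈ s', (V : Set X) := by
            ext x
            simp only [SetLike.mem_coe, Set.mem_iUnion, exists_prop]
            exact ⟨fun hx => hcov' x hx, fun ⟨V, hV, hx⟩ => hle V hV hx⟩
          rw [this]
          exact s'.finite_toSet.isCompact_biUnion (fun V hV => (haff' V hV).isCompact)
        exact QuasiSeparatedSpace.inter_isCompact _ _ U₁.isOpen hU₁.isCompact U₂.isOpen h2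
      haveI : CompactSpace (U₁ ⊓ U₂ : X.Opens) := isCompact_iff_compactSpace.1 hc
      obtain ⟨m, hm⟩ := finAffCov_of_compactSpace (U₁ ⊓ U₂ : X.Opens)
      exact stage1 h_spec h_mv m _ (affInt_of_le hU₁ _ inf_le_left) hm

/-- **Mayer–Vietoris induction for quasi-compact quasi-separated schemes** -/
theorem qcqs_induction (X : Scheme.{u}) [CompactSpace X] [QuasiSeparatedSpace X] : V X := by
  obtain ⟨m, hm⟩ := finAffCov_of_compactSpace X
  exact stage2 h_spec h_mv m X inferInstance hm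

end stages

end Groth.Agent.Lib.H6xQcqsInd
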