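import Mathlib
import Groth.Agent.Lib.H6xPerfVanA
import Groth.Agent.Lib.H6xQcqsInd
import Groth.Agent.Lib.H6xSuppPushC
import Groth.Agent.Lib.H6xFinPushD
set_option backward.isDefEq.respectTransparency.types false

/-!
# Vanishing range for maps out of a perfect object on a qcqs scheme (helper6; S1011)
-/

set_option autoImplicit false
set_option linter.style.haveILetI false
set_option linter.unusedVariables false
set_option linter.unusedSectionVars false
universe u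
open CategoryTheory CategoryTheory.Limits AlgebraicGeometry TopologicalSpace Opposite

attribute [local instance] HasDerivedCategory.standard

namespace Groth.Agent.Lib.H6xPerfVan

open DerivedCategory Pretriangulated Groth.Agent.Lib.H6xPerf23 Groth.Agent.Lib.H6xQcqsInd

section restrict

variable {X U : Scheme.{u}} (j : U ⟶ X) [IsOpenImmersion j]

/-- restriction to an open subscheme preserves perfect objects -/
theorem isPerfect_restrictD (K : DCoh.D X) (hK : DCoh.IsPerfect K) :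
    DCoh.IsPerfect ((DCoh.restrictD j).obj K) := by
  rw [isPerfect_iff_local]
  intro u
  obtain ⟨Z, g, hg, ⟨z, hz⟩, E, hE, ⟨e⟩⟩ := (isPerfect_iff_local K).1 hK (j.base u)
  obtain ⟨w, hw1, hw2⟩ := Scheme.Pullback.exists_preimage_pullback (f := j) (g := g) u z hz.symm
  obtain ⟨c1⟩ := nonempty_restrictD_comp (pullback.fst j g) j (pullback.fst j g ≫ j) rfl K
  obtain ⟨c2⟩ := nonempty_restrictD_comp (pullback.snd j g) g (pullback.fst j g ≫ j)
    pullback.condition.symm K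
  refine ⟨pullback j g, pullback.fst j g, inferInstance, ⟨w, hw1⟩, _,
    Groth.Agent.Lib.H6xPerfLoc.isStrictlyPerfect_restrict (pullback.snd j g) E hE, ⟨?_⟩⟩
  exact c1.symm ≪≫ c2 ≪≫ (DCoh.restrictD (pullback.snd j g)).mapIso e ≪≫
    (Scheme.Modules.restrictFunctor (pullback.snd j g)).mapDerivedCategoryFactors.app E

/-- cohomology sheaves of a restriction -/
lemma isZero_HD_restrictD (L : DCoh.D X) (i : ℤ) (h : IsZero (DCoh.HD L i)) :
    IsZero (DCoh.HD ((DCoh.restrictD j).obj L) i) := by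
  obtain ⟨e2⟩ := Groth.Agent.Lib.H6xSuppPush.nonempty_homology_mapDerivedCategory_iso
    (Scheme.Modules.restrictFunctor j) L i
  exact ((Scheme.Modules.restrictFunctor j).map_isZero h).of_iso e2

variable [DCoh.HasRpush j] [PreservesFiniteLimits (Scheme.Modules.restrictFunctor j)]

/-- maps into `Rj_* N` vanish when maps from the restriction to `N` do -/
lemma hom_Rpush_eq_zero (K : DCoh.D X) (N : DCoh.D U)
    (h : ∀ ψ : (DCoh.restrictD j).obj K ⟶ N, ψ = 0) (f : K ⟶ (DCoh.Rpush j).obj N) : f = 0 := by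
  have h1 := h (((Groth.Agent.Lib.H6xSuppPush.derAdj j).homEquiv K N).symm f)
  have h2 := congrArg ((Groth.Agent.Lib.H6xSuppPush.derAdj j).homEquiv K N) h1
  rw [Equiv.apply_symm_apply] at h2
  rw [h2]
  have h3 := h (((Groth.Agent.Lib.H6xSuppPush.derAdj j).homEquiv K N).symm 0)
  have h4 := congrArg ((Groth.Agent.Lib.H6xSuppPush.derAdj j).homEquiv K N) h3
  rw [Equiv.apply_symm_apply] at h4
  exact h4.symm

/-- the vanishing range of a restriction kills maps into `Rj_*` of restrictions -/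
lemma hom_Rpush_restrict_eq_zero (K : DCoh.D X) (a b : ℤ) (hv : Van ((DCoh.restrictD j).obj K) a b)
    (L : DCoh.D X) (hL : DCoh.IsQCohD L)
    (hz : ∀ i : ℤ, a ≤ i → i ≤ b → IsZero (DCoh.HD L i))
    (f : K ⟶ (DCoh.Rpush j).obj ((DCoh.restrictD j).obj L)) : f = 0 :=
  hom_Rpush_eq_zero j K _ (hv _ (Groth.Agent.Lib.H6xRpushQc.isQCohD_restrictD j L hL)
    (fun i h1 h2 => isZero_HD_restrictD j L i (hz i h1 h2))) f

end restrict

section shift

variable {X : Scheme.{u}}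

/-- the vanishing range of a shift -/
lemma Van.shift {K : DCoh.D X} {a b : ℤ} (h : Van K a b) (n : ℤ) :
    Van (K⟦n⟧) (a - n) (b - n) := by
  intro L hL hv φ
  -- transport along the shift equivalence
  have h0 : (shiftFunctor (DCoh.D X) (-n)).map φ = 0 := by
    have hq : DCoh.IsQCohD (L⟦-n⟧) := Groth.Agent.Lib.H6xFinPush.isQCohD_shift L hL (-n)
    have hz : ∀ i : ℤ, a ≤ i → i ≤ b → IsZero (DCoh.HD (L⟦-n⟧) i) := by
      intro i h1 h2
      exact (hv (-n + i) (by lia) (by lia)).of_iso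
        (((DerivedCategory.homologyFunctor X.Modules 0).shiftIso (-n) i (-n + i) rfl).app L)
    have := h (L⟦-n⟧) hq hz ((shiftFunctorCompIsoId (DCoh.D X) n (-n) (by lia)).inv.app K ≫
      (shiftFunctor (DCoh.D X) (-n)).map φ)
    rw [← cancel_epi ((shiftFunctorCompIsoId (DCoh.D X) n (-n) (by lia)).inv.app K), this,
      comp_zero]
  exact (shiftFunctor (DCoh.D X) (-n)).map_injective (by rw [h0, Functor.map_zero])

end shift

section mv

open Groth.Agent.Lib.H6xMV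

variable {X U₁ U₂ W : Scheme.{u}} (j₁ : U₁ ⟶ X) (j₂ : U₂ ⟶ X) (k : W ⟶ X) (i₁ : W ⟶ U₁) (i₂ : W ⟶ U₂)
  [IsOpenImmersion j₁] [IsOpenImmersion j₂] [IsOpenImmersion k] [IsOpenImmersion i₁]
  [IsOpenImmersion i₂]

/-- the Mayer–Vietoris step for a single object -/
theorem van_mv (h₁ : i₁ ≫ j₁ = k) (h₂ : i₂ ≫ j₂ = k)
    (hcov : Set.range j₁.base ∪ Set.range j₂.base = Set.univ)
    (hint : Set.range k.base = Set.range j₁.base ∩ Set.range j₂.base) (K : DCoh.D X)
    {a₁ b₁ a₂ b₂ a₃ b₃ : ℤ} (v₁ : Van ((DCoh.restrictD j₁).obj K) a₁ b₁)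
    (v₂ : Van ((DCoh.restrictD j₂).obj K) a₂ b₂) (v₃ : Van ((DCoh.restrictD k).obj K) a₃ b₃) :
    Van K (min (min a₁ a₂) (a₃ - 1)) (max (max b₁ b₂) b₃) := by
  intro L hL hz φ
  obtain ⟨α, β, γ, hT⟩ := exists_triangle_Rpush j₁ j₂ k i₁ i₂ h₁ h₂ hcov hint L
  have hz₁ : ∀ i : ℤ, a₁ ≤ i → i ≤ b₁ → IsZero (DCoh.HD L i) := fun i h1 h2 =>
    hz i (le_trans (min_le_left _ _) (le_trans (min_le_left _ _) h1))
      (le_trans h2 (le_trans (le_max_left _ _) (le_max_left _ _)))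
  have hz₂ : ∀ i : ℤ, a₂ ≤ i → i ≤ b₂ → IsZero (DCoh.HD L i) := fun i h1 h2 =>
    hz i (le_trans (min_le_left _ _) (le_trans (min_le_right _ _) h1))
      (le_trans h2 (le_trans (le_max_right _ _) (le_max_left _ _)))
  have hz₃ : ∀ i : ℤ, a₃ - 1 ≤ i → i ≤ b₃ → IsZero (DCoh.HD L i) := fun i h1 h2 =>
    hz i (le_trans (min_le_right _ _) h1) (le_trans h2 (le_max_right _ _))
  have hφα : φ ≫ α = 0 := by
    apply biprod.hom_ext
    · rw [zero_comp]
      exact hom_Rpush_restrict_eq_zero j₁ K a₁ b₁ v₁ L hL hz₁ _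
    · rw [zero_comp]
      exact hom_Rpush_restrict_eq_zero j₂ K a₂ b₂ v₂ L hL hz₂ _
  -- `φ⟦1⟧` factors through `γ`
  obtain ⟨g, hg⟩ := Triangle.coyoneda_exact₁ _ hT (φ⟦(1 : ℤ)⟧') (by
    change φ⟦(1 : ℤ)⟧' ≫ α⟦(1 : ℤ)⟧' = 0
    rw [← Functor.map_comp, hφα, Functor.map_zero])
  have hv₃ : Van ((DCoh.restrictD k).obj (K⟦(1 : ℤ)⟧)) (a₃ - 1) (b₃ - 1) :=
    (v₃.shift 1).of_iso (((DCoh.restrictD k).commShiftIso (1 : ℤ)).app K).symm
  have hg0 : g = 0 := by
    refine hom_Rpush_eq_zero k (K⟦(1 : ℤ)⟧) _ (fun ψ => ?_) g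
    exact hv₃ _ (Groth.Agent.Lib.H6xRpushQc.isQCohD_restrictD k L hL)
      (fun i h1 h2 => isZero_HD_restrictD k L i (hz₃ i h1 (by lia))) ψ
  apply (shiftFunctor (DCoh.D X) (1 : ℤ)).map_injective
  refine hg.trans ?_
  rw [hg0, Functor.map_zero]
  exact zero_comp

/-- the Mayer–Vietoris step for perfect objects -/
theorem vanP_mv : MVPatch VanP := by
  intro X U₁ U₂ W j₁ j₂ k i₁ i₂ _ _ _ _ _ h₁ h₂ hcov hint g₁ g₂ g₃ K hK
  obtain ⟨a₁, b₁, hab₁, v₁⟩ := g₁ _ (isPerfect_restrictD j₁ K hK)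
  obtain ⟨a₂, b₂, hab₂, v₂⟩ := g₂ _ (isPerfect_restrictD j₂ K hK)
  obtain ⟨a₃, b₃, hab₃, v₃⟩ := g₃ _ (isPerfect_restrictD k K hK)
  refine ⟨min (min a₁ a₂) (a₃ - 1), max (max b₁ b₂) b₃, ?_,
    van_mv j₁ j₂ k i₁ i₂ h₁ h₂ hcov hint K v₁ v₂ v₃⟩
  exact le_trans (min_le_left _ _) (le_trans (min_le_left _ _)
    (le_trans hab₁ (le_trans (le_max_left _ _) (le_max_left _ _))))

end mv

end Groth.Agent.Lib.H6xPerfVan
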