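import Mathlib
import Groth.Agent.Lib.H6xPerfVanB
import Groth.Agent.Lib.H6xQcTruncB
import Groth.Agent.Lib.Helper2FPAff
set_option backward.isDefEq.respectTransparency.types false

/-!
# Vanishing range for maps out of a perfect object on a qcqs scheme: main statements (helper6)

S1011, S1022, S1023, S1010.
-/

set_option autoImplicit false
set_option linter.style.haveILetI false
set_option linter.unusedVariables false
set_option linter.unusedSectionVars false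
universe u
open CategoryTheory CategoryTheory.Limits AlgebraicGeometry TopologicalSpace Opposite

attribute [local instance] HasDerivedCategory.standard

namespace Groth.Agent.Lib.H6xPerfVan

open DerivedCategory Pretriangulated Groth.Agent.Lib.H6xPerf23 Groth.Agent.Lib.H6xQcqsInd
  Groth.Agent.S14388

section trunc

variable {X : Scheme.{u}}

lemma isZero_HD_truncLT (E : DCoh.D X) (m j : ℤ) (hj : m ≤ j) :
    IsZero (DCoh.HD ((tt.truncLT m).obj E) j) :=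
  DerivedCategory.isZero_of_isLE ((tt.truncLT m).obj E) (m - 1) j (by lia)

lemma isZero_HD_truncGE (E : DCoh.D X) (m j : ℤ) (hj : j < m) :
    IsZero (DCoh.HD ((tt.truncGE m).obj E) j) :=
  DerivedCategory.isZero_of_isGE ((tt.truncGE m).obj E) m j hj

lemma isQCohD_truncLT (E : DCoh.D X) (hE : DCoh.IsQCohD E) (m : ℤ) :
    DCoh.IsQCohD ((tt.truncLT m).obj E) := by
  intro j
  by_cases hj : j < m
  · have := isIso_homology_truncLTι m j hj E
    exact Groth.Agent.Lib.H6xQcTrunc.isQCoh_of_iso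
      (asIso ((homologyFunctor X.Modules j).map ((tt.truncLTι m).app E))).symm (hE j)
  · exact Groth.Agent.Lib.H6xQcTrunc.isQCoh_of_isZero _ (isZero_HD_truncLT E m j (by lia))

lemma isQCohD_truncGE (E : DCoh.D X) (hE : DCoh.IsQCohD E) (m : ℤ) :
    DCoh.IsQCohD ((tt.truncGE m).obj E) := by
  intro j
  by_cases hj : m ≤ j
  · have := isIso_homology_truncGEπ m j hj E
    exact Groth.Agent.Lib.H6xQcTrunc.isQCoh_of_iso
      (asIso ((homologyFunctor X.Modules j).map ((tt.truncGEπ m).app E))) (hE j)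
  · exact Groth.Agent.Lib.H6xQcTrunc.isQCoh_of_isZero _ (isZero_HD_truncGE E m j (by lia))

/-- cohomology sheaves of a shift -/
noncomputable def HDShiftIso (L : DCoh.D X) (n i : ℤ) : DCoh.HD (L⟦n⟧) i ≅ DCoh.HD L (n + i) :=
  ((DerivedCategory.homologyFunctor X.Modules 0).shiftIso n i (n + i) rfl).app L

end trunc

section main1011

variable (X : Scheme.{u}) [CompactSpace X] [QuasiSeparatedSpace X]

theorem vanP_of_qcqs : VanP X := qcqs_induction vanP_spec vanP_mv X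

variable {X}

lemma Van.hom_shift_eq_zero {P : DCoh.D X} {a₀ b₀ : ℤ} (v : Van P a₀ b₀) (i : ℤ) (L : DCoh.D X)
    (hL : DCoh.IsQCohD L) (hz : ∀ j : ℤ, a₀ + i ≤ j → j ≤ b₀ + i → IsZero (DCoh.HD L j))
    (φ : P⟦-i⟧ ⟶ L) : φ = 0 :=
  (v.shift (-i)) L hL (fun j h1 h2 => hz j (by lia) (by lia)) φ

lemma Van.hom_shift_shift_eq_zero {P : DCoh.D X} {a₀ b₀ : ℤ} (v : Van P a₀ b₀) (i : ℤ)
    (L : DCoh.D X)
    (hL : DCoh.IsQCohD L) (hz : ∀ j : ℤ, a₀ + i - 1 ≤ j → j ≤ b₀ + i - 1 → IsZero (DCoh.HD L j))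
    (φ : (P⟦-i⟧)⟦(1 : ℤ)⟧ ⟶ L) : φ = 0 :=
  ((v.shift (-i)).shift 1) L hL (fun j h1 h2 => hz j (by lia) (by lia)) φ

theorem main_S1011 (K : DCoh.D X) (hK : DCoh.IsPerfect K) :
    (∃ a b : ℤ, a ≤ b ∧ ∀ L : DCoh.D X, DCoh.IsQCohD L →
      (∀ i : ℤ, a ≤ i → i ≤ b → IsZero (DCoh.HD L i)) → ∀ φ : K ⟶ L, φ = 0) ∧
    ∀ (L : DCoh.D X) (a' b' : ℤ), DCoh.IsQCohD L → L.IsGE a' → L.IsLE b' →
      {n : ℤ | ∃ φ : K ⟶ L⟦n⟧, φ ≠ 0}.Finite := by
  obtain ⟨a, b, hab, v⟩ := vanP_of_qcqs X K hK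
  refine ⟨⟨a, b, hab, v⟩, ?_⟩
  intro L a' b' hL hge hle
  refine Set.Finite.subset (Set.finite_Icc (a' - b) (b' - a)) ?_
  rintro n ⟨φ, hφ⟩
  by_contra hn
  apply hφ
  refine v _ (Groth.Agent.Lib.H6xFinPush.isQCohD_shift L hL n) (fun i h1 h2 => ?_) φ
  refine IsZero.of_iso ?_ (HDShiftIso L n i)
  rw [Set.mem_Icc, not_and_or, not_le, not_le] at hn
  rcases hn with hn | hn
  · exact DerivedCategory.isZero_of_isGE L a' (n + i) (by lia)
  · exact DerivedCategory.isZero_of_isLE L b' (n + i) (by lia)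

theorem main_S1022 (P : DCoh.D X) (hP : DCoh.IsPerfect P) (E : DCoh.D X) (hE : DCoh.IsQCohD E)
    (a : ℤ) :
    (∃ N : ℤ, ∀ i : ℤ, N ≤ i → ∀ φ : P⟦-i⟧ ⟶ E, φ = 0) ↔
    (∃ N : ℤ, ∀ i : ℤ, N ≤ i → ∀ φ : P⟦-i⟧ ⟶ (tt.truncGE a).obj E, φ = 0) := by
  obtain ⟨a₀, b₀, hab, v⟩ := vanP_of_qcqs X P hP
  have hT := tt.triangleLTGE_distinguished a E
  constructor
  · rintro ⟨N, hN⟩
    refine ⟨max N (a - a₀), fun i hi φ => ?_⟩
    have h0 : φ ≫ ((tt.triangleLTGE a).obj E).mor₃ = 0 := by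
      refine v.hom_shift_eq_zero i _
        (Groth.Agent.Lib.H6xFinPush.isQCohD_shift _ (isQCohD_truncLT E hE a) 1) (fun j h1 h2 => ?_) _
      refine IsZero.of_iso ?_ (HDShiftIso _ 1 j)
      exact isZero_HD_truncLT E a (1 + j) (by
        have := le_trans (le_max_right _ _) hi
        lia)
    obtain ⟨g, hg⟩ := Triangle.coyoneda_exact₃ _ hT φ h0
    rw [hg, hN i (le_trans (le_max_left _ _) hi) g]
    exact zero_comp
  · rintro ⟨N, hN⟩
    refine ⟨max N (a - a₀), fun i hi φ => ?_⟩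
    have h0 : φ ≫ ((tt.triangleLTGE a).obj E).mor₂ = 0 :=
      hN i (le_trans (le_max_left _ _) hi) _
    obtain ⟨g, hg⟩ := Triangle.coyoneda_exact₂ _ hT φ h0
    have hg0 : g = 0 := by
      refine v.hom_shift_eq_zero i _ (isQCohD_truncLT E hE a) (fun j h1 h2 => ?_) _
      exact isZero_HD_truncLT E a j (by
        have := le_trans (le_max_right _ _) hi
        lia)
    rw [hg, hg0]
    exact zero_comp

theorem main_S1023 (P : DCoh.D X) (hP : DCoh.IsPerfect P) (E : DCoh.D X) (hE : DCoh.IsQCohD E)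
    (a : ℤ) :
    (∃ N : ℤ, ∀ i : ℤ, i ≤ N → ∀ φ : P⟦-i⟧ ⟶ E, φ = 0) ↔
    (∃ N : ℤ, ∀ i : ℤ, i ≤ N → ∀ φ : P⟦-i⟧ ⟶ (tt.truncLE a).obj E, φ = 0) := by
  obtain ⟨a₀, b₀, hab, v⟩ := vanP_of_qcqs X P hP
  have hT := tt.triangleLTGE_distinguished (a + 1) E
  constructor
  · rintro ⟨N, hN⟩
    refine ⟨min N (a - b₀), fun i hi φ => ?_⟩
    change P⟦-i⟧ ⟶ ((tt.triangleLTGE (a + 1)).obj E).obj₁ at φ
    have h0 : φ ≫ ((tt.triangleLTGE (a + 1)).obj E).mor₁ = 0 :=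
      hN i (le_trans hi (min_le_left _ _)) _
    obtain ⟨g, hg⟩ := Triangle.coyoneda_exact₁ _ hT (φ⟦(1 : ℤ)⟧') (by
      rw [← Functor.map_comp, h0, Functor.map_zero])
    have hg0 : g = 0 := by
      refine v.hom_shift_shift_eq_zero i _ (isQCohD_truncGE E hE (a + 1)) (fun j h1 h2 => ?_) _
      exact isZero_HD_truncGE E (a + 1) j (by
        have := le_trans hi (min_le_right _ _)
        lia)
    have h1 : φ⟦(1 : ℤ)⟧' = 0 := by
      rw [hg, hg0]
      exact zero_comp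
    have h2 : φ⟦(1 : ℤ)⟧' = (0 : P⟦-i⟧ ⟶ ((tt.triangleLTGE (a + 1)).obj E).obj₁)⟦(1 : ℤ)⟧' := by
      rw [h1, Functor.map_zero]
    exact (shiftFunctor (DCoh.D X) (1 : ℤ)).map_injective h2
  · rintro ⟨N, hN⟩
    refine ⟨min N (a - b₀), fun i hi φ => ?_⟩
    have h0 : φ ≫ ((tt.triangleLTGE (a + 1)).obj E).mor₂ = 0 := by
      refine v.hom_shift_eq_zero i _ (isQCohD_truncGE E hE (a + 1)) (fun j h1 h2 => ?_) _
      exact isZero_HD_truncGE E (a + 1) j (by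
        have := le_trans hi (min_le_right _ _)
        lia)
    obtain ⟨g, hg⟩ := Triangle.coyoneda_exact₂ _ hT φ h0
    have hg0 : g = 0 := hN i (le_trans hi (min_le_left _ _)) g
    rw [hg, hg0]
    exact zero_comp

end main1011

end Groth.Agent.Lib.H6xPerfVan
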