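import Mathlib
import Groth.Agent.Lib.H6xPerfVanC
import Groth.Agent.Lib.H6xPerfLoc
set_option backward.isDefEq.respectTransparency.types false

/-!
# Uniform vanishing of `Ext^n(F, E)` for finite locally free `F` on a qcqs scheme (helper6; S1010)
-/

set_option autoImplicit false
set_option linter.style.haveILetI false
set_option linter.unusedVariables false
set_option linter.unusedSectionVars false
universe u
open CategoryTheory CategoryTheory.Limits AlgebraicGeometry TopologicalSpace Opposite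

attribute [local instance] HasDerivedCategory.standard

namespace Groth.Agent.Lib.H6xPerfVan

open DerivedCategory Pretriangulated Groth.Agent.Lib.H6xPerf23 Groth.Agent.Lib.H6xQcqsInd
  Groth.Agent.S14388

/-- a uniform vanishing range for all finite locally free modules -/
def VanF (X : Scheme.{u}) : Prop :=
  ∃ d : ℤ, 0 ≤ d ∧ ∀ F : X.Modules, FlatMod.IsFinLocFree F → Van (DCoh.inD X F) (-d) 0

/-- on an affine scheme, `tildeD` of a bounded complex of projectives has the obvious range -/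
theorem van_tildeD_Q (R : CommRingCat.{u}) [PreservesFiniteLimits (tilde.functor R)]
    (E : CochainComplex (ModuleCat.{u} R) ℤ) (a b : ℤ)
    (hE : ∀ i : ℤ, i < a ∨ b < i → IsZero (E.X i)) [∀ i : ℤ, Projective (E.X i)] :
    Van ((DCoh.tildeD R).obj (Q.obj E)) a b := by
  obtain ⟨hfull, hfaith, hess⟩ := Groth.Agent.Lib.H6xTilde.main R
  haveI := hfull
  haveI := hfaith
  intro L hL hvan φ
  obtain ⟨ML, ⟨eL⟩⟩ := (hess L).1 hL
  have hML : ∀ i : ℤ, a ≤ i → i ≤ b →
      IsZero ((homologyFunctor (ModuleCat.{u} R) i).obj ML) := by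
    intro i h1 h2
    obtain ⟨e2⟩ := Groth.Agent.Lib.H6xSuppPush.nonempty_homology_mapDerivedCategory_iso
      (tilde.functor R) ML i
    apply Groth.Agent.Lib.H6xRpushQc.isZero_of_isZero_tilde R
    exact (hvan i h1 h2).of_iso (e2.symm ≪≫ (homologyFunctor _ i).mapIso eL)
  have h1 : (DCoh.tildeD R).preimage (φ ≫ eL.inv) = 0 :=
    hom_eq_zero_of_vanishing E a b hE ML hML _
  have h2 : φ ≫ eL.inv = 0 := by
    rw [← (DCoh.tildeD R).map_preimage (φ ≫ eL.inv), h1, Functor.map_zero]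
  rw [← cancel_mono eL.inv, h2, zero_comp]

theorem vanF_spec (R : CommRingCat.{u}) : VanF (Spec R) := by
  haveI := (Groth.Agent.S9498.aux R).1
  refine ⟨0, le_rfl, fun F hF => ?_⟩
  haveI : F.IsQuasicoherent := Groth.Agent.Lib.R2H2.PullLF.isQuasicoherent_of_isFinLocFree F hF
  haveI : IsIso F.fromTildeΓ := Scheme.Modules.isIso_fromTildeΓ_of_isQuasicoherent F
  obtain ⟨N, ⟨e⟩⟩ : ∃ N : ModuleCat.{u} R, Nonempty (tilde N ≅ F) := ⟨_, ⟨asIso F.fromTildeΓ⟩⟩
  have hN : Module.Finite R N ∧ Module.Projective R N :=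
    (Groth.Agent.Lib.Helper2.FPAff.isFinLocFree_tilde_iff R N).1
      (Groth.Agent.H3.FLF.isFinLocFree_of_iso e.symm hF)
  haveI := hN.2
  haveI : ∀ i : ℤ, Projective (((HomologicalComplex.single (ModuleCat.{u} R)
      (ComplexShape.up ℤ) 0).obj N).X i) := by
    intro i
    by_cases hi : i = 0
    · subst hi
      haveI : Projective N := ModuleCat.projective_of_categoryTheory_projective N
      exact Projective.of_iso (HomologicalComplex.singleObjXSelf (ComplexShape.up ℤ) 0 N).symm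
        inferInstance
    · exact (HomologicalComplex.isZero_single_obj_X (ComplexShape.up ℤ) 0 N i hi).projective
  have hv := van_tildeD_Q R ((HomologicalComplex.single (ModuleCat.{u} R)
      (ComplexShape.up ℤ) 0).obj N) 0 0 (fun i hi =>
        HomologicalComplex.isZero_single_obj_X (ComplexShape.up ℤ) 0 N i (by lia))
  have e1 : (DCoh.tildeD R).obj (Q.obj ((HomologicalComplex.single (ModuleCat.{u} R)
      (ComplexShape.up ℤ) 0).obj N)) ≅ DCoh.inD (Spec R) F :=
    (DCoh.tildeD R).mapIso ((singleFunctorIsoCompQ (ModuleCat.{u} R) 0).app N).symm ≪≫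
      ((tilde.functor R).mapDerivedCategorySingleFunctor 0).app N ≪≫
      (singleFunctor (Spec R).Modules 0).mapIso e
  have := hv.of_iso e1
  simpa using this

theorem vanF_mv : MVPatch VanF := by
  intro X U₁ U₂ W j₁ j₂ k i₁ i₂ _ _ _ _ _ h₁ h₂ hcov hint g₁ g₂ g₃
  obtain ⟨d₁, hd₁, v₁⟩ := g₁
  obtain ⟨d₂, hd₂, v₂⟩ := g₂
  obtain ⟨d₃, hd₃, v₃⟩ := g₃
  refine ⟨max (max d₁ d₂) (d₃ + 1), le_trans hd₁ (le_trans (le_max_left _ _) (le_max_left _ _)),
    fun F hF => ?_⟩
  have w₁ : Van ((DCoh.restrictD j₁).obj (DCoh.inD X F)) (-d₁) 0 :=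
    (v₁ _ (Groth.Agent.Lib.H6xPerfLoc.isFinLocFree_restrict j₁ F hF)).of_iso
      (((Scheme.Modules.restrictFunctor j₁).mapDerivedCategorySingleFunctor 0).app F).symm
  have w₂ : Van ((DCoh.restrictD j₂).obj (DCoh.inD X F)) (-d₂) 0 :=
    (v₂ _ (Groth.Agent.Lib.H6xPerfLoc.isFinLocFree_restrict j₂ F hF)).of_iso
      (((Scheme.Modules.restrictFunctor j₂).mapDerivedCategorySingleFunctor 0).app F).symm
  have w₃ : Van ((DCoh.restrictD k).obj (DCoh.inD X F)) (-d₃) 0 :=
    (v₃ _ (Groth.Agent.Lib.H6xPerfLoc.isFinLocFree_restrict k F hF)).of_iso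
      (((Scheme.Modules.restrictFunctor k).mapDerivedCategorySingleFunctor 0).app F).symm
  refine (van_mv j₁ j₂ k i₁ i₂ h₁ h₂ hcov hint _ w₁ w₂ w₃).mono ?_ ?_
  · rw [le_min_iff, le_min_iff]
    have e1 := le_trans (le_max_left d₁ d₂) (le_max_left (max d₁ d₂) (d₃ + 1))
    have e2 := le_trans (le_max_right d₁ d₂) (le_max_left (max d₁ d₂) (d₃ + 1))
    have e3 := le_max_right (max d₁ d₂) (d₃ + 1)
    refine ⟨⟨?_, ?_⟩, ?_⟩ <;> lia
  · simp

theorem vanF_of_qcqs (X : Scheme.{u}) [CompactSpace X] [QuasiSeparatedSpace X] : VanF X :=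
  qcqs_induction vanF_spec vanF_mv X

theorem main_S1010 (X : Scheme.{u}) [CompactSpace X] [QuasiSeparatedSpace X]
    (E : DCoh.D X) (hE : DCoh.IsQCohD E) (b : ℤ) [E.IsLE b] :
    ∃ n₀ : ℤ, 0 < n₀ ∧ ∀ (F : X.Modules), FlatMod.IsFinLocFree F → ∀ n : ℤ, n₀ ≤ n →
      ∀ φ : DCoh.inD X F ⟶ E⟦n⟧, φ = 0 := by
  obtain ⟨d, hd, v⟩ := vanF_of_qcqs X
  refine ⟨max 1 (b + d + 1), lt_of_lt_of_le one_pos (le_max_left _ _), fun F hF n hn φ => ?_⟩
  refine v F hF _ (Groth.Agent.Lib.H6xFinPush.isQCohD_shift E hE n) (fun i h1 h2 => ?_) φ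
  refine IsZero.of_iso ?_ (HDShiftIso E n i)
  have := le_trans (le_max_right _ _) hn
  exact DerivedCategory.isZero_of_isLE E b (n + i) (by lia)

end Groth.Agent.Lib.H6xPerfVan
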