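import Groth.Agent.Lib.R2H2ProjOver
import Groth.Agent.Lib.Helper27ProjGamma2
import Groth.Agent.Lib.Helper23TensorUnit
import Groth.Agent.Lib.R2H2K0Gen
import Groth.Prelude.Def_KRR
set_option backward.isDefEq.respectTransparency.types false

/-!
# `p_* O_P = O_Y` for `p : P^r_Y ⟶ Y`, and regularity of `O_P` (helper2, round 2)
-/

set_option autoImplicit false
universe u

namespace Groth.Agent.Lib.R2H2.ProjOverPush

open CategoryTheory CategoryTheory.Limits AlgebraicGeometry TopologicalSpace Opposite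
open Groth.Agent.Lib.R2H2.ProjOver

section Local

/-- the canonical map `O_S → f_* O_X` of `O_S`-modules -/
noncomputable def strToPush {X S : Scheme.{u}} (f : X ⟶ S) :
    Coh.structureModule S ⟶ (Scheme.Modules.pushforward f).obj (Coh.structureModule X) :=
  SheafOfModules.unitToPushforwardObjUnit f.toRingCatSheafHom

theorem strToPush_app {X S : Scheme.{u}} (f : X ⟶ S) (U : S.Opens) (a : Γ(S, U)) :
    (strToPush f).app U a = f.app U a := rfl

/-- a morphism of modules that is bijective on the members of a basis of opens is an isomorphism -/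
theorem isIso_of_bijective_on_basis {T : Scheme.{u}} {M N : T.Modules} (φ : M ⟶ N) {ι : Type u}
    (B : ι → T.Opens) (hB : Opens.IsBasis (Set.range B))
    (hφ : ∀ i, Function.Bijective (φ.app (B i))) : IsIso φ := by
  let α : (⟨M.presheaf, M.isSheaf⟩ : TopCat.Sheaf Ab T) ⟶ ⟨N.presheaf, N.isSheaf⟩ :=
    ⟨φ.mapPresheaf⟩
  have h1 : IsIso α := TopCat.Sheaf.isIso_iff_isIso_basis (B := B) hB fun i =>
    (ConcreteCategory.isIso_iff_bijective _).2 (hφ i)
  have h2 : IsIso ((Scheme.Modules.toPresheaf T).map φ) := by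
    have : IsIso ((TopCat.Sheaf.forget Ab T).map α) := Functor.map_isIso _ α
    exact this
  exact isIso_of_reflects_iso φ (Scheme.Modules.toPresheaf T)

theorem isIso_of_bijective_on_affines {T : Scheme.{u}} {M N : T.Modules} (φ : M ⟶ N)
    (h : ∀ V : T.Opens, IsAffineOpen V → Function.Bijective (φ.app V)) : IsIso φ := by
  refine isIso_of_bijective_on_basis φ (fun U : T.affineOpens => (U.1 : T.Opens)) ?_ fun U => h U.1 U.2
  have := T.isBasis_affineOpens
  rwa [← Subtype.range_coe (s := T.affineOpens)] at this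

theorem isFinLocFree_of_iso {Y : Scheme.{u}} {M M' : Y.Modules} (e : M ≅ M')
    (h : FlatMod.IsFinLocFree M) : FlatMod.IsFinLocFree M' := by
  intro x
  obtain ⟨U, n, hxU, ⟨e'⟩⟩ := h x
  exact ⟨U, n, hxU, ⟨(Scheme.Modules.restrictFunctor U.ι).mapIso e.symm ≪≫ e'⟩⟩

theorem isFinLocFree_of_isInvertible {Y : Scheme.{u}} {L : Y.Modules} (h : PicF.IsInvertible L) :
    FlatMod.IsFinLocFree L := by
  intro x
  obtain ⟨U, hxU, ⟨e⟩⟩ := h x
  exact ⟨U, 1, hxU,
    ⟨e ≪≫ (coproductUniqueIso (fun _ : Fin 1 => Coh.structureModule (U : Scheme.{u}))).symm⟩⟩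

end Local

variable (r : ℕ) (Y : Scheme.{u})

theorem isIso_toSpec_app (R : Type u) [CommRing R] :
    ∀ U : (Spec (CommRingCat.of R)).Opens, U = ⊤ →
      IsIso ((CohB1.ProjSpace.toSpec r R).app U) := by
  rintro _ rfl
  exact Groth.Agent.Lib.Helper27ProjGamma.isIso_toSpec_appTop r R

/-- `O_Y(V) → O_P(p⁻¹ V)` is an isomorphism for affine `V` -/
theorem isIso_toBase_app {V : Y.Opens} (hV : IsAffineOpen V) :
    IsIso ((CohB1.ProjSpaceOver.toBase r Y).app V) := by
  let j : Spec (CommRingCat.of Γ(Y, V)) ⟶ Y := hV.fromSpec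
  let A := a r Γ(Y, V) j
  let p := CohB1.ProjSpaceOver.toBase r Y
  let q := CohB1.ProjSpace.toSpec r Γ(Y, V)
  have hsq : A ≫ p = q ≫ j := a_toBase r Γ(Y, V) j
  have hjr : j.opensRange = V := hV.opensRange_fromSpec
  have hAr : A.opensRange = p ⁻¹ᵁ V :=
    (opensRange_a r Γ(Y, V) j).trans (congrArg (fun W : Y.Opens => p ⁻¹ᵁ W) hjr)
  haveI h1 : IsIso (A.app (p ⁻¹ᵁ V)) := A.isIso_app _ (le_of_eq hAr.symm)
  haveI h2 : IsIso (j.app V) := j.isIso_app V (le_of_eq hjr.symm)
  haveI h3 : IsIso (q.app (j ⁻¹ᵁ V)) := isIso_toSpec_app r Γ(Y, V) _ hV.fromSpec_preimage_self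
  have h4 : p.app V ≫ A.app (p ⁻¹ᵁ V) =
      (j.app V ≫ q.app (j ⁻¹ᵁ V)) ≫
        (CohB1.ProjSpace r Γ(Y, V)).presheaf.map
          (eqToHom (show A ⁻¹ᵁ p ⁻¹ᵁ V = q ⁻¹ᵁ j ⁻¹ᵁ V from
            congrArg (fun f : CohB1.ProjSpace r Γ(Y, V) ⟶ Y => f ⁻¹ᵁ V) hsq)).op := by
    rw [← Scheme.Hom.comp_app, ← Scheme.Hom.comp_app]
    exact Scheme.Hom.congr_app hsq V
  haveI h5 : IsIso (p.app V ≫ A.app (p ⁻¹ᵁ V)) := by
    rw [h4]
    infer_instance
  exact IsIso.of_isIso_comp_right (p.app V) (A.app (p ⁻¹ᵁ V))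

/-- `O_Y → p_* O_P` is an isomorphism -/
theorem isIso_strToPush :
    IsIso (strToPush (CohB1.ProjSpaceOver.toBase r Y)) := by
  refine isIso_of_bijective_on_affines _ (fun V hV => ?_)
  haveI := isIso_toBase_app r Y hV
  exact (ConcreteCategory.isIso_iff_bijective
    ((CohB1.ProjSpaceOver.toBase r Y).app V)).1 inferInstance

/-- `p_* O_P ≅ O_Y` -/
theorem nonempty_push_structureModule_iso :
    Nonempty ((Scheme.Modules.pushforward (CohB1.ProjSpaceOver.toBase r Y)).obj
      (Coh.structureModule (CohB1.ProjSpaceOver r Y)) ≅ Coh.structureModule Y) := by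
  haveI := isIso_strToPush r Y
  exact ⟨(asIso (strToPush (CohB1.ProjSpaceOver.toBase r Y))).symm⟩

/-- `R^q p_* (O(d) ⊗ O_P) = 0` outside the exceptional ranges -/
theorem isZero_RpushAb_twF_structureModule (d : ℤ) (q : ℕ)
    (h₀ : ¬ (q = 0 ∧ 0 ≤ d)) (hn : ¬ (q = r ∧ d ≤ -((r : ℤ) + 1))) :
    IsZero ((Coh.RpushAb (KRR.pr r Y) q).obj
      (Coh.toAb (KRR.twF r Y d (Coh.structureModule (KRR.PY r Y))))) := by
  have e : KRR.twF r Y d (Coh.structureModule (KRR.PY r Y)) ≅ Twist.twistOver r Y d :=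
    Groth.Agent.Lib.Helper23.TensorUnit.tensorUnitIso (Twist.twistOver r Y d)
  have e2 : Coh.toAb (KRR.twF r Y d (Coh.structureModule (KRR.PY r Y))) ≅
      Coh.toAb (Twist.twistOver r Y d) :=
    (SheafOfModules.toSheaf (KRR.PY r Y).ringCatSheaf).mapIso e
  exact IsZero.of_iso (isZero_RpushAb_twistOver r Y d q h₀ hn)
    ((Coh.RpushAb (KRR.pr r Y) q).mapIso e2)

/-- `O(m)` is regular for `m ≥ 0` -/
theorem isRegSheaf_twF_structureModule (m : ℕ) :
    ∀ i : ℕ, 1 ≤ i → IsZero ((Coh.RpushAb (KRR.pr r Y) i).obj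
      (Coh.toAb (KRR.twF r Y ((m : ℤ) - i) (Coh.structureModule (KRR.PY r Y))))) := by
  intro i hi
  refine isZero_RpushAb_twF_structureModule r Y _ i (fun h => ?_) (fun h => ?_)
  · omega
  · obtain ⟨h1, h2⟩ := h
    subst h1
    omega

/-- the structure sheaf of `P^r_Y` is regular -/
theorem isRegSheaf_structureModule :
    KRR.IsRegSheaf r Y (Coh.structureModule (KRR.PY r Y)) := by
  intro i hi
  refine isZero_RpushAb_twF_structureModule r Y _ i (fun h => ?_) (fun h => ?_)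
  · omega
  · obtain ⟨h1, h2⟩ := h
    subst h1
    omega

/-- zero modules are finite locally free -/
theorem isFinLocFree_of_isZero {X : Scheme.{u}} (Z : X.Modules) (hZ : IsZero Z) :
    FlatMod.IsFinLocFree Z := by
  intro x
  refine ⟨⊤, 0, trivial, ⟨?_⟩⟩
  have h1 : IsZero (Z.restrict (⊤ : X.Opens).ι) :=
    (Scheme.Modules.restrictFunctor (⊤ : X.Opens).ι).map_isZero hZ
  have h2 : IsZero (FlatMod.freeMod (↑(⊤ : X.Opens)) 0) := by
    rw [IsZero.iff_id_eq_zero]
    exact Sigma.hom_ext _ _ (fun i => i.elim0)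
  exact h1.iso h2

/-- `p_K [O_P] = [O_Y]` on the level of `Kvb` -/
theorem cl_push_structureModule :
    KRR.cl Y ((Scheme.Modules.pushforward (KRR.pr r Y)).obj
      (Coh.structureModule (KRR.PY r Y))) = KRR.cl Y (Coh.structureModule Y) := by
  obtain ⟨e⟩ := nonempty_push_structureModule_iso r Y
  have hO : FlatMod.IsFinLocFree (Coh.structureModule Y) :=
    isFinLocFree_of_isInvertible
      (Groth.Agent.Lib.Helper23.TensorUnit.isInvertible_structureModule Y)
  have hP : FlatMod.IsFinLocFree ((Scheme.Modules.pushforward (KRR.pr r Y)).obj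
      (Coh.structureModule (KRR.PY r Y))) :=
    isFinLocFree_of_iso e.symm hO
  exact Groth.Agent.Lib.R2H2.K0Gen.clSub_of_iso (KRR.vbP Y)
    (fun Z hZ => isFinLocFree_of_isZero Z hZ) e hP hO

/-- S3759 -/
theorem main3759 {KP KY : Type*} [CommRing KP] [CommRing KY]
    (φP : SGA6.Kvb (KRR.PY r Y) →+ KP) (φY : SGA6.Kvb Y →+ KY)
    (hone : φY (KRR.cl Y (Coh.structureModule Y)) = 1)
    (g : KP →+ KY) (hg : KRR.IsPushPr r Y φP φY g) :
    g (φP (KRR.cl (KRR.PY r Y) (Coh.structureModule (KRR.PY r Y)))) = 1 := by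
  have hflf : FlatMod.IsFinLocFree (Coh.structureModule (KRR.PY r Y)) :=
    isFinLocFree_of_isInvertible
      (Groth.Agent.Lib.Helper23.TensorUnit.isInvertible_structureModule _)
  rw [hg _ hflf (isRegSheaf_structureModule r Y), cl_push_structureModule r Y, hone]

end Groth.Agent.Lib.R2H2.ProjOverPush
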