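import Mathlib
import Groth.Agent.Lib.H6xAcPushC
import Groth.Agent.Lib.H6xAffPushD
import Groth.Agent.Lib.H6xPerfVanD
import Groth.Agent.Lib.H6xMVE
import Groth.Agent.Lib.Helper17ExactAdj
import Groth.Agent.Lib.R2H2ProjOverPush
import Groth.Agent.Lib.Helper23TensorUnit
set_option backward.isDefEq.respectTransparency.types false

/-!
# `fr_X(W)` for a quasi-compact quasi-separated open `W`: finite cohomological dimension on
`D_QCoh`, and acyclicity in terms of sheaf cohomology (helper6)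
-/

set_option autoImplicit false
set_option linter.style.haveILetI false

universe u

open CategoryTheory CategoryTheory.Limits Opposite AlgebraicGeometry TopologicalSpace

attribute [local instance] HasDerivedCategory.standard

namespace Groth.Agent.Lib.H6xAcPush

open DerivedCategory Groth.Agent.Lib.Helper17.Hyp Groth.Agent.Lib.H6xQcTrunc
  Groth.Agent.Lib.H6xGamAc Groth.Agent.Lib.H6xTilde Groth.Agent.Lib.H6xAffPush
  Groth.Agent.Lib.H6xPerfVan Groth.Agent.Lib.Helper21 Groth.Agent.Lib.Helper21.FreeAb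
  Groth.Agent.Lib.Helper21.TorsFree

variable {X : Scheme.{u}}

section iso

variable (W : X.Opens)

/-- `Hom(fr(j(⊤)), N) ≃ Hom(j_! O_W, N)`. -/
noncomputable def frEquiv (N : X.Modules) :
    ((frX X).obj (W.ι ''ᵁ ⊤) ⟶ N) ≃ ((CxOX.extZero W.ι).obj (OY (W : Scheme.{u})) ⟶ N) :=
  (secEquiv (OX X) N (W.ι ''ᵁ ⊤)).trans
    ((gamEquiv (N.restrict W.ι)).symm.trans
      ((CxOX.extZeroAdj W.ι).homEquiv (OY (W : Scheme.{u})) N).symm)

lemma frEquiv_comp {N N' : X.Modules} (h : (frX X).obj (W.ι ''ᵁ ⊤) ⟶ N) (p : N ⟶ N') :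
    frEquiv W N' (h ≫ p) = frEquiv W N h ≫ p := by
  have h1 := secEquiv_comp (OX X) h p
  have h2 := ofGam_comp (N := N.restrict W.ι) (N' := N'.restrict W.ι)
    (secEquiv (OX X) N (W.ι ''ᵁ ⊤) h) ((Scheme.Modules.restrictFunctor W.ι).map p)
  have h3 := (CxOX.extZeroAdj W.ι).homEquiv_naturality_right_symm
    (ofGam (N.restrict W.ι) (secEquiv (OX X) N (W.ι ''ᵁ ⊤) h)) p
  refine Eq.trans ?_ h3
  change ((CxOX.extZeroAdj W.ι).homEquiv (OY (W : Scheme.{u})) N').symm
    (ofGam (N'.restrict W.ι) (secEquiv (OX X) N' (W.ι ''ᵁ ⊤) (h ≫ p))) = _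
  congr 1
  rw [h2, h1]
  rfl

theorem nonempty_frX_iso_extZero :
    Nonempty ((frX X).obj W ≅ (CxOX.extZero W.ι).obj (OY (W : Scheme.{u}))) := by
  obtain ⟨e⟩ := Groth.Agent.S6153.iso_of_natural_equiv (frEquiv W)
    (fun {M M'} h p => frEquiv_comp W h p)
  exact ⟨(frX X).mapIso (eqToIso (Scheme.Opens.ι_image_top W).symm) ≪≫ e⟩

end iso

section van

variable (W : X.Opens) [CompactSpace (W : Scheme.{u})] [QuasiSeparatedSpace (W : Scheme.{u})]

theorem exists_van_frX : ∃ a₀ : ℤ, Van (dsgl ((frX X).obj W)) a₀ 0 := by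
  obtain ⟨d, -, v⟩ := vanF_of_qcqs (W : Scheme.{u})
  have hO : FlatMod.IsFinLocFree (OY (W : Scheme.{u})) :=
    Groth.Agent.Lib.R2H2.ProjOverPush.isFinLocFree_of_isInvertible
      (Groth.Agent.Lib.Helper23.TensorUnit.isInvertible_structureModule (W : Scheme.{u}))
  have v0 := v _ hO
  haveI := Groth.Agent.Lib.H6xMV.preservesFiniteLimits_extZero W.ι
  let adj : CxOX.extZeroD W.ι ⊣ DCoh.restrictD W.ι :=
    Groth.Agent.Lib.Helper17.ExactAdj.mapDerivedCategoryAdjunction (CxOX.extZero W.ι)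
      (Scheme.Modules.restrictFunctor W.ι) (CxOX.extZeroAdj W.ι)
  have v1 : Van ((CxOX.extZeroD W.ι).obj (DCoh.inD (W : Scheme.{u}) (OY (W : Scheme.{u}))))
      (-d) 0 := by
    intro L hL hz φ
    have key : ∀ ψ : DCoh.inD (W : Scheme.{u}) (OY (W : Scheme.{u})) ⟶
        (DCoh.restrictD W.ι).obj L, ψ = 0 :=
      v0 _ (Groth.Agent.Lib.H6xRpushQc.isQCohD_restrictD W.ι L hL)
        (fun i h1 h2 => isZero_HD_restrictD W.ι L i (hz i h1 h2))
    apply (adj.homEquiv _ _).injective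
    exact (key _).trans (key _).symm
  obtain ⟨e⟩ := nonempty_frX_iso_extZero W
  refine ⟨-d, v1.of_iso ?_⟩
  exact ((CxOX.extZero W.ι).mapDerivedCategorySingleFunctor 0).app (OY (W : Scheme.{u})) ≪≫
    (singleFunctor X.Modules 0).mapIso e.symm

end van

section acyclic

theorem subsingleton_hom_frX_of_HHon (W : X.Opens) (F : X.Modules) (k : ℕ)
    (h : Subsingleton (Coh.HHon X F W k)) :
    Subsingleton (dsgl ((frX X).obj W) ⟶
      ((DerivedCategory.singleFunctor X.Modules 0).obj F)⟦(k : ℤ)⟧) := by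
  haveI := hasExt_modules (X := X)
  haveI : HasExt.{u} (SheafOfModules.{u} X.ringCatSheaf) := hasExt_modules (X := X)
  obtain ⟨e'⟩ := Groth.Agent.Lib.Helper16.Restr.nonempty_HU_equiv (X := X.carrier) W (Coh.toAb F) k
  have h4 : Subsingleton (CohTop.H (CohTop.restr (Coh.toAb F) W) k) := h
  have h3 : Subsingleton (CohTop.HU (Coh.toAb F) k W) := e'.toEquiv.subsingleton
  obtain ⟨e⟩ := nonempty_ext_freeShR_iso X.ringCatSheaf
    (CohCx.freeSheaf (Opens.grothendieckTopology X) W) (TF_freeSheaf W) F k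
  have h2 : Subsingleton (Abelian.Ext.{u} (CohCx.freeSheaf (Opens.grothendieckTopology X) W)
      ((SheafOfModules.toSheaf X.ringCatSheaf).obj F) k) := h3
  have h1 : Subsingleton (Abelian.Ext.{u} ((frX X).obj W) F k) :=
    @Equiv.subsingleton _ _ e.addCommGroupIsoToAddEquiv.toEquiv h2
  exact @Equiv.subsingleton _ _ (Abelian.Ext.homEquiv
    (X := (frX X).obj W) (Y := F) (n := k)).symm h1

end acyclic

end Groth.Agent.Lib.H6xAcPush
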