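import Mathlib
import Groth.Agent.Lib.Helper13PullbackUnit
set_option backward.isDefEq.respectTransparency.types false

/-!
# Sections of the pullback along an open immersion (helper2, round 2)

`unitSec_bijective`: for an open immersion `f : X ⟶ Y`, an open `W ≤ f.opensRange` and `U = f ⁻¹ᵁ W`,
the map `unitSec f M : Γ(M, W) → Γ(f^* M, U)` is bijective.
-/

set_option autoImplicit false
universe u

open CategoryTheory CategoryTheory.Limits AlgebraicGeometry TopologicalSpace Opposite

namespace Groth.Agent.Lib.R2H2.OpenImmSec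

open Groth.Agent.Helper13PullbackUnit

theorem bijective_map_of_eq {Y : Scheme.{u}} (M : Y.Modules) {U U' : Y.Opens} (e : U' = U)
    (h : U' ≤ U) : Function.Bijective (M.presheaf.map (homOfLE h).op) := by
  subst e
  have h0 : (homOfLE h).op = 𝟙 (op U') := rfl
  rw [h0, M.presheaf.map_id]
  exact Function.bijective_id

theorem bijective_app_of_iso {Y : Scheme.{u}} {M N : Y.Modules} (e : M ≅ N) (U : Y.Opens) :
    Function.Bijective (e.hom.app U) := by
  refine Function.bijective_iff_has_inverse.mpr ⟨e.inv.app U, fun x => ?_, fun x => ?_⟩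
  · exact congrArg (fun ψ => Scheme.Modules.Hom.app ψ U x) e.hom_inv_id
  · exact congrArg (fun ψ => Scheme.Modules.Hom.app ψ U x) e.inv_hom_id

variable {X Y : Scheme.{u}} (f : X ⟶ Y) [IsOpenImmersion f] (M : Y.Modules)

theorem unitSec_bijective {W : Y.Opens} (hW : W ≤ f.opensRange) {U : X.Opens}
    (hle : U ≤ f ⁻¹ᵁ W) (hge : f ⁻¹ᵁ W ≤ U) :
    Function.Bijective (unitSec f M hle) := by
  have key : (Scheme.Modules.pullbackPushforwardAdjunction f).unit.app M =
      (Scheme.Modules.restrictAdjunction f).unit.app M ≫
        (Scheme.Modules.pushforward f).map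
          ((Scheme.Modules.restrictFunctorIsoPullback f).hom.app M) :=
    ((Scheme.Modules.restrictAdjunction f).unit_leftAdjointUniq_hom_app
      (Scheme.Modules.pullbackPushforwardAdjunction f) M).symm
  have h1 : ∀ x : Γ(M, W), unitSec f M hle x =
      ((Scheme.Modules.pullback f).obj M).presheaf.map (homOfLE hle).op
        (((Scheme.Modules.restrictFunctorIsoPullback f).hom.app M).app (f ⁻¹ᵁ W)
          (M.presheaf.map (homOfLE (f.image_preimage_le W)).op x)) := by
    intro x
    rw [unitSec_apply, key]
    rfl
  have hb1 : Function.Bijective (M.presheaf.map (homOfLE (f.image_preimage_le W)).op) :=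
    bijective_map_of_eq M (by
      rw [Scheme.Hom.image_preimage_eq_opensRange_inf]
      exact inf_eq_right.mpr hW) _
  have hb2 := bijective_app_of_iso ((Scheme.Modules.restrictFunctorIsoPullback f).app M)
    (f ⁻¹ᵁ W)
  have hb3 : Function.Bijective
      (((Scheme.Modules.pullback f).obj M).presheaf.map (homOfLE hle).op) :=
    bijective_map_of_eq _ (le_antisymm hle hge) _
  have h2 : (unitSec f M hle : Γ(M, W) → Γ((Scheme.Modules.pullback f).obj M, U)) =
      (((Scheme.Modules.pullback f).obj M).presheaf.map (homOfLE hle).op) ∘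
        ((((Scheme.Modules.restrictFunctorIsoPullback f).app M).hom.app (f ⁻¹ᵁ W)) ∘
          (M.presheaf.map (homOfLE (f.image_preimage_le W)).op)) := funext h1
  rw [h2]
  exact hb3.comp (hb2.comp hb1)

end Groth.Agent.Lib.R2H2.OpenImmSec
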