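import Groth.Agent.Lib.R2H3RpushMV

/-!
# Higher direct images of quasi-coherent modules along quasi-compact quasi-separated morphisms are
quasi-coherent (helper3, round 2)

* `isQuasicoherent_Rpush_of_finite_affine_cover`: affine base, source quasi-separated with a finite
  affine cover (Mayer–Vietoris induction on the size of the cover).
* `isQuasicoherent_Rpush_of_qcqs`: the general statement.
-/

set_option autoImplicit false
set_option linter.style.haveILetI false
set_option linter.unusedSectionVars false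
set_option linter.unusedVariables false
universe u
open CategoryTheory CategoryTheory.Limits TopologicalSpace AlgebraicGeometry Opposite

namespace Groth.Agent.Lib.R2H3.RpushQCohGen

open Groth.Agent.Lib.R2H3.RpushRestrict Groth.Agent.Lib.R2H3.RpushQCohSep
  Groth.Agent.Lib.R2H3.RpushMV Groth.Agent.Lib.Helper23.QCohLocal

attribute [local instance] hasInjectiveResolutions_modules

lemma isAffineOpen_ι_preimage {X : Scheme.{u}} (U W : X.Opens) (hW : IsAffineOpen W) (hWU : W ≤ U) :
    IsAffineOpen (U.ι ⁻¹ᵁ W) := by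
  rw [← Scheme.Hom.isAffineOpen_iff_of_isOpenImmersion U.ι,
    Scheme.Hom.image_preimage_eq_opensRange_inf, Scheme.Opens.opensRange_ι, inf_eq_right.2 hWU]
  exact hW

theorem isQuasicoherent_Rpush_of_finite_affine_cover {S : Scheme.{u}} [IsAffine S] (n : ℕ) :
    ∀ (X : Scheme.{u}) (f : X ⟶ S) [QuasiSeparatedSpace X] (𝒰 : Fin n → X.Opens)
      (h𝒰 : ∀ i, IsAffineOpen (𝒰 i)) (hcov : ∀ x : X, ∃ i, x ∈ 𝒰 i)
      (M : X.Modules) [M.IsQuasicoherent] (p : ℕ),
      ((Coh.Rpush f p).obj M).IsQuasicoherent := by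
  induction n with
  | zero =>
    intro X f _ 𝒰 h𝒰 hcov M _ p
    haveI : IsEmpty X := ⟨fun x => (hcov x).choose.elim0⟩
    haveI : IsAffine X := isAffine_of_isEmpty
    exact isQuasicoherent_Rpush_of_affineDiagonal f M p
  | succ n ih =>
    intro X f _ 𝒰 h𝒰 hcov M _ p
    let U : X.Opens := ⨆ i : Fin n, 𝒰 i.castSucc
    let V : X.Opens := 𝒰 (Fin.last n)
    have hUV : U ⊔ V = ⊤ := by
      rw [eq_top_iff]
      intro x _
      obtain ⟨i, hi⟩ := hcov x
      induction i using Fin.lastCases with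
      | last => exact Or.inr hi
      | cast i => exact Or.inl (Opens.mem_iSup.2 ⟨i, hi⟩)
    have hVa : IsAffineOpen V := h𝒰 _
    haveI : IsAffine (V : Scheme.{u}) := hVa
    have hUc : IsCompact (U : Set X) := by
      have : (U : Set X) = ⋃ i : Fin n, (𝒰 i.castSucc : Set X) := by
        simp [U]
      rw [this]
      exact isCompact_iUnion (fun i => (h𝒰 i.castSucc).isCompact)
    refine isQuasicoherent_Rpush_of_cover f U V hUV M (fun q => ?_) (fun q => ?_) (fun q => ?_) p
    · -- `U`: induction hypothesis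
      haveI : QuasiSeparatedSpace (U : Scheme.{u}) := quasiSeparatedSpace_of_quasiSeparated U.ι
      haveI : (M.restrict U.ι).IsQuasicoherent := Scheme.Modules.isQuasicoherent_restrictFunctor U.ι M
      refine ih (U : Scheme.{u}) (U.ι ≫ f) (fun i => U.ι ⁻¹ᵁ (𝒰 i.castSucc))
        (fun i => isAffineOpen_ι_preimage U _ (h𝒰 _) (le_iSup (fun i : Fin n => 𝒰 i.castSucc) i))
        (fun x => ?_) (M.restrict U.ι) q
      obtain ⟨i, hi⟩ := Opens.mem_iSup.1 x.2
      exact ⟨i, hi⟩
    · -- `V`: affine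
      haveI : (M.restrict V.ι).IsQuasicoherent := Scheme.Modules.isQuasicoherent_restrictFunctor V.ι M
      exact isQuasicoherent_Rpush_of_affineDiagonal (V.ι ≫ f) (M.restrict V.ι) q
    · -- `U ⊓ V`: quasi-compact open in the affine `V`, hence separated
      haveI : (M.restrict (U ⊓ V).ι).IsQuasicoherent :=
        Scheme.Modules.isQuasicoherent_restrictFunctor (U ⊓ V).ι M
      haveI : IsSeparated ((U ⊓ V).ι ≫ f) := by
        rw [← X.homOfLE_ι (inf_le_right : U ⊓ V ≤ V), Category.assoc]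
        infer_instance
      haveI : CompactSpace ((U ⊓ V : X.Opens) : Scheme.{u}) :=
        isCompact_iff_compactSpace.1
          (QuasiSeparatedSpace.inter_isCompact (U : Set X) V U.2 hUc V.2 hVa.isCompact)
      haveI : QuasiCompact ((U ⊓ V).ι ≫ f) := inferInstance
      exact isQuasicoherent_Rpush_of_affineDiagonal ((U ⊓ V).ι ≫ f) (M.restrict (U ⊓ V).ι) q

lemma exists_finite_affine_cover (X : Scheme.{u}) [CompactSpace X] :
    ∃ (n : ℕ) (U : Fin n → X.Opens), (∀ k, IsAffineOpen (U k)) ∧ ∀ x : X, ∃ k, x ∈ U k := by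
  have hloc : ∀ x : X, ∃ V : X.Opens, IsAffineOpen V ∧ x ∈ V := by
    intro x
    obtain ⟨V, hV, hxV, -⟩ := (Opens.isBasis_iff_nbhd.1 X.isBasis_affineOpens) (Opens.mem_top x)
    exact ⟨V, hV, hxV⟩
  choose V hVa hxV using hloc
  obtain ⟨s, hs⟩ := isCompact_univ.elim_finite_subcover (fun x : X => (V x : Set X))
    (fun x => (V x).2) (fun y _ => Set.mem_iUnion.2 ⟨y, hxV y⟩)
  refine ⟨s.card, fun k => V (s.equivFin.symm k).1, fun k => hVa _, fun x => ?_⟩
  obtain ⟨y, hy⟩ := Set.mem_iUnion.1 (hs (Set.mem_univ x))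
  obtain ⟨hys, hxy⟩ := Set.mem_iUnion.1 hy
  refine ⟨s.equivFin ⟨y, hys⟩, ?_⟩
  simpa using hxy

/-- **Higher direct images of quasi-coherent modules along qcqs morphisms are quasi-coherent.** -/
theorem isQuasicoherent_Rpush_of_qcqs {X S : Scheme.{u}} (f : X ⟶ S) [QuasiCompact f]
    [QuasiSeparated f] (M : X.Modules) [M.IsQuasicoherent] (p : ℕ) :
    ((Coh.Rpush f p).obj M).IsQuasicoherent := by
  refine Groth.Agent.Lib.Helper23.FinType.isQuasicoherent_of_open_cover _
    (fun V : S.affineOpens => V.1) (iSup_affineOpens_eq_top S) (fun V => ?_)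
  obtain ⟨e⟩ := nonempty_Rpush_restrict_iso f V.1 M p
  haveI : IsAffine (V.1 : Scheme.{u}) := V.2
  haveI : CompactSpace ((f ⁻¹ᵁ V.1 : X.Opens) : Scheme.{u}) :=
    isCompact_iff_compactSpace.1 (f.isCompact_preimage V.2.isCompact)
  haveI : QuasiSeparatedSpace ((f ⁻¹ᵁ V.1 : X.Opens) : Scheme.{u}) :=
    quasiSeparatedSpace_of_quasiSeparated (f ∣_ V.1)
  haveI : (M.restrict (f ⁻¹ᵁ V.1).ι).IsQuasicoherent :=
    Scheme.Modules.isQuasicoherent_restrictFunctor (f ⁻¹ᵁ V.1).ι M
  obtain ⟨n, 𝒰, h𝒰, hcov⟩ := exists_finite_affine_cover ((f ⁻¹ᵁ V.1 : X.Opens) : Scheme.{u})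
  have h := isQuasicoherent_Rpush_of_finite_affine_cover n _ (f ∣_ V.1) 𝒰 h𝒰 hcov
    (M.restrict (f ⁻¹ᵁ V.1).ι) p
  exact (SheafOfModules.isQuasicoherent (V.1 : Scheme.{u}).ringCatSheaf).prop_of_iso e.symm h

end Groth.Agent.Lib.R2H3.RpushQCohGen
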