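import Groth.Agent.S0032
import Groth.Agent.Lib.R2H3RpushRestrict
import Groth.Agent.Lib.Helper23ModAbBridge
import Groth.Agent.Lib.Helper23ModLocal
import Groth.Agent.Lib.Helper20PullbackAff
import Groth.Agent.Lib.R2H3RpushQCohGen
import Groth.Agent.Lib.R2H2OpenImmSec

/-!
# Vanishing of higher direct images gives vanishing of cohomology over affines (helper2, round 2)

* `subsingleton_HHon_of_isZero_RpushAb` : for `f : X ⟶ S` quasi-compact quasi-separated, `M`
  quasi-coherent with `R^q f_* M = 0` (abelian sheaves) and `V ⊆ S` affine open,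
  `H^q(f⁻¹ V, M) = 0`.
-/

set_option autoImplicit false
set_option linter.unusedSectionVars false
set_option linter.style.haveILetI false
universe u

namespace Groth.Agent.Lib.R2H2.LerayAff

open CategoryTheory CategoryTheory.Limits AlgebraicGeometry TopologicalSpace Opposite

theorem isZero_of_isZero_toAb {X : Scheme.{u}} (N : X.Modules) (h : IsZero (Coh.toAb N)) :
    IsZero N := by
  rw [IsZero.iff_id_eq_zero]
  have h2 : (SheafOfModules.toSheaf X.ringCatSheaf).map (𝟙 N) =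
      (SheafOfModules.toSheaf X.ringCatSheaf).map 0 := h.eq_of_src _ _
  exact (SheafOfModules.toSheaf X.ringCatSheaf).map_injective h2

theorem isZero_toAb_of_isZero {X : Scheme.{u}} (N : X.Modules) (h : IsZero N) :
    IsZero (Coh.toAb N) :=
  (SheafOfModules.toSheaf X.ringCatSheaf).map_isZero h

theorem subsingleton_sections_of_isZero {T : Scheme.{u}}
    (Z : Sheaf (Opens.grothendieckTopology T) AddCommGrpCat.{u}) (hZ : IsZero Z) (U : T.Opens) :
    Subsingleton ↑(Z.obj.obj (op U)) := by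
  have h1 : (𝟙 Z : Z ⟶ Z) = 0 := hZ.eq_of_src _ _
  have h2 : ∀ x : ↑(Z.obj.obj (op U)), x = 0 := fun x => by
    have h3 := congrArg (fun φ : Z ⟶ Z => (φ.hom.app (op U)) x) h1
    exact h3
  exact ⟨fun a b => (h2 a).trans (h2 b).symm⟩

theorem subsingleton_HHon_of_isZero_RpushAb {X S : Scheme.{u}} (f : X ⟶ S) [QuasiCompact f]
    [QuasiSeparated f] (M : X.Modules) [M.IsQuasicoherent] (q : ℕ)
    (h : IsZero ((Coh.RpushAb f q).obj (Coh.toAb M))) (V : S.Opens) (hV : IsAffineOpen V) :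
    Subsingleton (Coh.HHon X M (f ⁻¹ᵁ V) q) := by
  haveI := Groth.Agent.Lib.R2H3.RpushRestrict.hasInjectiveResolutions_modules X
  haveI := Groth.Agent.Lib.R2H3.RpushRestrict.hasInjectiveResolutions_modules
    (f ⁻¹ᵁ V).toScheme
  haveI : IsAffine V := hV
  obtain ⟨e1⟩ := Groth.Agent.Lib.Helper23.ModAbBridge.nonempty_toAb_Rpush_iso f M q
  have h1 : IsZero ((Coh.Rpush f q).obj M) := isZero_of_isZero_toAb _ (IsZero.of_iso h e1)
  have h2 : IsZero (((Coh.Rpush f q).obj M).restrict V.ι) :=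
    (Scheme.Modules.restrictFunctor V.ι).map_isZero h1
  obtain ⟨e2⟩ := Groth.Agent.Lib.R2H3.RpushRestrict.nonempty_Rpush_restrict_iso f V M q
  have h3 : IsZero ((Coh.Rpush (f ∣_ V) q).obj (M.restrict (f ⁻¹ᵁ V).ι)) :=
    IsZero.of_iso h2 e2.symm
  obtain ⟨e3⟩ := Groth.Agent.Lib.Helper23.ModAbBridge.nonempty_toAb_Rpush_iso (f ∣_ V)
    (M.restrict (f ⁻¹ᵁ V).ι) q
  have h4 : IsZero ((Coh.RpushAb (f ∣_ V) q).obj (Coh.toAb (M.restrict (f ⁻¹ᵁ V).ι))) :=
    IsZero.of_iso (isZero_toAb_of_isZero _ h3) e3.symm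
  haveI : Coh.IsQCoh (M.restrict (f ⁻¹ᵁ V).ι) := by
    change (M.restrict (f ⁻¹ᵁ V).ι).IsQuasicoherent
    infer_instance
  obtain ⟨e4⟩ := Groth.Agent.S0032.result (f ∣_ V) (M.restrict (f ⁻¹ᵁ V).ι) q
  haveI := subsingleton_sections_of_isZero _ h4 ⊤
  exact e4.toEquiv.subsingleton

open Groth.Agent.Lib.Helper20.Thickening Groth.Agent.Lib.Helper20.PullbackAff in
/-- a quasi-coherent module with no sections over an affine open vanishes there -/
theorem isZero_restrict_fromSpec_of_subsingleton {T : Scheme.{u}} (N : T.Modules)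
    [N.IsQuasicoherent] {U : T.Opens} (hU : IsAffineOpen U) (h : Subsingleton Γ(N, U)) :
    IsZero (N.restrict hU.fromSpec) := by
  haveI h1 : Subsingleton ((ΓUF hU).obj N) := (ΓUEquiv hU N).symm.toEquiv.subsingleton
  haveI : (N.restrict hU.fromSpec).IsQuasicoherent :=
    Scheme.Modules.isQuasicoherent_restrictFunctor hU.fromSpec N
  have h2 : Epi (0 : N.restrict hU.fromSpec ⟶ N.restrict hU.fromSpec) := by
    refine Groth.Agent.Lib.Helper23.ModLocal.epi_of_surjective_Γ _ _ (fun x => ⟨0, ?_⟩)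
    exact @Subsingleton.elim _ h1 _ _
  rw [IsZero.iff_id_eq_zero]
  haveI := h2
  apply (cancel_epi (0 : N.restrict hU.fromSpec ⟶ N.restrict hU.fromSpec)).1
  rw [zero_comp, zero_comp]

theorem subsingleton_of_sheaf_iso {T : Scheme.{u}}
    {Z Z' : Sheaf (Opens.grothendieckTopology T) AddCommGrpCat.{u}} (e : Z ≅ Z') (U : T.Opens)
    (h : Subsingleton ↑(Z.obj.obj (op U))) : Subsingleton ↑(Z'.obj.obj (op U)) := by
  have key : ∀ x : ↑(Z'.obj.obj (op U)), x = 0 := fun x => by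
    have h1 : (e.hom.hom.app (op U)) ((e.inv.hom.app (op U)) x) = x := by
      have h2 := congrArg (fun φ : Z' ⟶ Z' => (φ.hom.app (op U)) x) e.inv_hom_id
      exact h2
    rw [← h1, @Subsingleton.elim _ h ((e.inv.hom.app (op U)) x) 0, map_zero]
  exact ⟨fun a b => (key a).trans (key b).symm⟩

/-- **the converse**: if `H^q(f⁻¹ V, M) = 0` for the members `V` of an affine open cover of the
base, then `R^q f_* M = 0` -/
theorem isZero_RpushAb_of_affine_cover {X S : Scheme.{u}} (f : X ⟶ S) [QuasiCompact f]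
    [QuasiSeparated f] (M : X.Modules) [M.IsQuasicoherent] (q : ℕ) {ι : Type*}
    (V : ι → S.Opens) (hcov : ∀ y : S, ∃ i, y ∈ V i) (hV : ∀ i, IsAffineOpen (V i))
    (h : ∀ i, Subsingleton (Coh.HHon X M (f ⁻¹ᵁ V i) q)) :
    IsZero ((Coh.RpushAb f q).obj (Coh.toAb M)) := by
  haveI := Groth.Agent.Lib.R2H3.RpushRestrict.hasInjectiveResolutions_modules X
  obtain ⟨e1⟩ := Groth.Agent.Lib.Helper23.ModAbBridge.nonempty_toAb_Rpush_iso f M q
  refine IsZero.of_iso (isZero_toAb_of_isZero _ ?_) e1.symm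
  haveI hKq : ((Coh.Rpush f q).obj M).IsQuasicoherent :=
    Groth.Agent.Lib.R2H3.RpushQCohGen.isQuasicoherent_Rpush_of_qcqs f M q
  refine Groth.Agent.Lib.Helper23.ModLocal.isZero_of_isZero_restrict
    (fun i => Spec Γ(S, V i)) (fun i => (hV i).fromSpec) (fun y => ?_) (fun i => ?_)
  · obtain ⟨i, hi⟩ := hcov y
    have : y ∈ Set.range (hV i).fromSpec := by
      rw [(hV i).range_fromSpec]
      exact hi
    obtain ⟨z, hz⟩ := this
    exact ⟨i, z, hz⟩
  · refine isZero_restrict_fromSpec_of_subsingleton _ (hV i) ?_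
    haveI := Groth.Agent.Lib.R2H3.RpushRestrict.hasInjectiveResolutions_modules
      (f ⁻¹ᵁ V i).toScheme
    haveI : IsAffine (V i) := hV i
    haveI : Coh.IsQCoh (M.restrict (f ⁻¹ᵁ V i).ι) := by
      change (M.restrict (f ⁻¹ᵁ V i).ι).IsQuasicoherent
      infer_instance
    obtain ⟨e4⟩ := Groth.Agent.S0032.result (f ∣_ V i) (M.restrict (f ⁻¹ᵁ V i).ι) q
    have s1 : Subsingleton ↑(((Coh.RpushAb (f ∣_ V i) q).obj
        (Coh.toAb (M.restrict (f ⁻¹ᵁ V i).ι))).obj.obj (op ⊤)) :=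
      @Equiv.subsingleton _ _ e4.symm.toEquiv (h i)
    obtain ⟨e3⟩ := Groth.Agent.Lib.Helper23.ModAbBridge.nonempty_toAb_Rpush_iso (f ∣_ V i)
      (M.restrict (f ⁻¹ᵁ V i).ι) q
    have s2 : Subsingleton Γ((Coh.Rpush (f ∣_ V i) q).obj (M.restrict (f ⁻¹ᵁ V i).ι), ⊤) :=
      subsingleton_of_sheaf_iso e3.symm ⊤ s1
    obtain ⟨e2⟩ := Groth.Agent.Lib.R2H3.RpushRestrict.nonempty_Rpush_restrict_iso f (V i) M q
    have s3 : Subsingleton Γ(((Coh.Rpush f q).obj M).restrict (V i).ι, ⊤) :=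
      @Function.Injective.subsingleton _ _ _
        (Groth.Agent.Lib.R2H2.OpenImmSec.bijective_app_of_iso e2 ⊤).1 s2
    have s4 : Subsingleton Γ((Coh.Rpush f q).obj M, (V i).ι ''ᵁ ⊤) := s3
    have hUU : (V i).ι ''ᵁ ⊤ = V i := by
      rw [Scheme.Hom.image_top_eq_opensRange]
      exact (V i).opensRange_ι
    exact hUU ▸ s4

end Groth.Agent.Lib.R2H2.LerayAff
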