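import Mathlib
import Groth.Agent.Lib.H6xAcPushD
import Groth.Agent.Lib.R2H2LerayAff
import Groth.Agent.Lib.Helper23ModAbBridge
set_option backward.isDefEq.respectTransparency.types false

/-!
# `f_* F ⟶ Rf_* F` is an isomorphism for `f` quasi-compact quasi-separated and `F` a complex of
quasi-coherent `f_*`-acyclic modules (helper6; S1035)
-/

set_option autoImplicit false
set_option linter.style.haveILetI false

universe u

open CategoryTheory CategoryTheory.Limits Opposite AlgebraicGeometry TopologicalSpace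

attribute [local instance] HasDerivedCategory.standard

namespace Groth.Agent.Lib.H6xAcPush

open DerivedCategory Groth.Agent.Lib.Helper17.Hyp Groth.Agent.Lib.H6xQcTrunc
  Groth.Agent.Lib.H6xGamAc Groth.Agent.Lib.H6xTilde Groth.Agent.Lib.H6xAffPush
  Groth.Agent.Lib.H6xPerfVan Groth.Agent.Lib.Helper17.KInj Groth.Agent.Lib.H6xRpushRes

variable {X S : Scheme.{u}} (f : X ⟶ S) [QuasiCompact f] [QuasiSeparated f]

theorem cyc_of_acyclic {F J : CochainComplex X.Modules ℤ}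
    (hF : ∀ n, Coh.IsQCoh (F.X n))
    (hac : ∀ (n : ℤ) (V : S.Opens), IsAffineOpen V → ∀ k : ℕ, 0 < k →
      Subsingleton (Coh.HHon X (F.X n) (f ⁻¹ᵁ V) k))
    [J.IsKInjective] (q : F ⟶ J) [QuasiIso q] (V : S.Opens) (hV : IsAffineOpen V) (n : ℤ) :
    CycSur ((frX X).obj (f ⁻¹ᵁ V)) q n ∧ CycInj ((frX X).obj (f ⁻¹ᵁ V)) q n := by
  haveI : IsAffine (V : Scheme.{u}) := hV
  haveI : CompactSpace ((f ⁻¹ᵁ V : X.Opens) : Scheme.{u}) :=
    QuasiCompact.compactSpace_of_compactSpace (f ∣_ V)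
  haveI : QuasiSeparatedSpace ((f ⁻¹ᵁ V : X.Opens) : Scheme.{u}) :=
    quasiSeparatedSpace_of_quasiSeparated (f ∣_ V)
  obtain ⟨a₀, van⟩ := exists_van_frX (f ⁻¹ᵁ V)
  let P := (frX X).obj (f ⁻¹ᵁ V)
  let R : X.Modules → Prop := fun M => Coh.IsQCoh M ∧ PAc P M
  have hR_iso : ∀ M M' : X.Modules, (M ≅ M') → R M → R M' :=
    fun M M' e h => ⟨isQCoh_of_iso e h.1, h.2.of_iso e⟩
  have hR_zero : ∀ M : X.Modules, IsZero M → R M :=
    fun M h => ⟨isQCoh_of_isZero _ h, PAc.of_isZero h⟩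
  have hR_ac : ∀ M : X.Modules, R M → PAc P M := fun M h => h.2
  have hV' : ∀ (G : CochainComplex X.Modules ℤ) (i : ℤ), (∀ j, R (G.X j)) →
      (∀ j, a₀ + i ≤ j → IsZero (G.X j)) →
      ∀ φ : dsgl P ⟶ ((Q : _ ⥤ DerivedCategory X.Modules).obj G)⟦i⟧, φ = 0 := by
    intro G i hG hz φ
    refine van _ (Groth.Agent.Lib.H6xFinPush.isQCohD_shift _
      (isQCohD_Q G (fun j => (hG j).1)) i) (fun j h1 h2 => ?_) φ
    refine IsZero.of_iso ?_ (HDShiftIso (Q.obj G) i j)
    exact IsZero.of_iso (isZero_homology_of_isZero_X G (i + j) (hz _ (by omega)))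
      ((homologyFunctorFactors X.Modules (i + j)).app G)
  have hFR : ∀ j, R (F.X j) := fun j => ⟨hF j, fun k hk φ => by
    exact @Subsingleton.elim _
      (subsingleton_hom_frX_of_HHon (f ⁻¹ᵁ V) (F.X j) k (hac j V hV k hk)) φ 0⟩
  exact ⟨cycSur_of_acyclic P R hR_iso hR_zero hR_ac a₀ hV' F hFR q n,
    cycInj_of_acyclic P R hR_iso hR_zero hR_ac a₀ hV' F hFR q n⟩

theorem quasiIso_push_of_acyclic {F J : CochainComplex X.Modules ℤ}
    (hF : ∀ n, Coh.IsQCoh (F.X n))
    (hac : ∀ (n : ℤ) (V : S.Opens), IsAffineOpen V → ∀ k : ℕ, 0 < k →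
      Subsingleton (Coh.HHon X (F.X n) (f ⁻¹ᵁ V) k))
    [J.IsKInjective] (q : F ⟶ J) [QuasiIso q] :
    QuasiIso (((Scheme.Modules.pushforward f).mapHomologicalComplex (ComplexShape.up ℤ)).map q) := by
  refine quasiIso_of_cyc (locFr_frX S) {V | IsAffineOpen V} (fun U => ?_) _
    (fun V hV n => ?_) (fun V hV n => ?_)
  · refine ⟨fun V _ => IsAffineOpen V, ?_, fun V g hV => hV⟩
    intro x hx
    obtain ⟨V, hV, hxV, hVU⟩ := (Opens.isBasis_iff_nbhd.1 S.isBasis_affineOpens) hx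
    exact ⟨V, homOfLE hVU, ⟨V, 𝟙 V, homOfLE hVU, hV, Category.id_comp _⟩, hxV⟩
  · exact cycSur_of_equiv (Scheme.Modules.pushforward f) _ _ (pushEquiv f V)
      (fun a g => pushEquiv_comp f V a g) q n (cyc_of_acyclic f hF hac q V hV n).1
  · exact cycInj_of_equiv (Scheme.Modules.pushforward f) _ _ (pushEquiv f V)
      (fun a g => pushEquiv_comp f V a g) q n (cyc_of_acyclic f hF hac q V hV n).2

variable [DCoh.HasRpush f]

theorem isIso_βf_app_of_acyclic (F : CochainComplex X.Modules ℤ)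
    (hF : ∀ n, Coh.IsQCoh (F.X n))
    (hac : ∀ (n : ℤ) (V : S.Opens), IsAffineOpen V → ∀ k : ℕ, 0 < k →
      Subsingleton (Coh.HHon X (F.X n) (f ⁻¹ᵁ V) k)) : IsIso ((βf f).app F) := by
  obtain ⟨J, q, hJ, hq, -, -⟩ := exists_kInjective_resolution.{u} X.Modules F
  haveI := quasiIso_push_of_acyclic f hF hac q
  haveI : IsIso ((βf f).app J) :=
    isIso_app_of_isKInjective.{u} (Scheme.Modules.pushforward f) (DCoh.Rpush f) (βf f) J
  haveI : IsIso (((Scheme.Modules.pushforward f).mapHomologicalComplex (ComplexShape.up ℤ) ⋙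
      DerivedCategory.Q).map q) := by
    dsimp
    rw [DerivedCategory.isIso_Q_map_iff_quasiIso]
    infer_instance
  haveI : IsIso (DerivedCategory.Q.map q) := by
    rw [DerivedCategory.isIso_Q_map_iff_quasiIso]
    infer_instance
  haveI : IsIso ((DerivedCategory.Q ⋙ DCoh.Rpush f).map q) := by
    dsimp
    infer_instance
  have nat := (βf f).naturality q
  have h2 : (βf f).app F =
      ((Scheme.Modules.pushforward f).mapHomologicalComplex (ComplexShape.up ℤ) ⋙
        DerivedCategory.Q).map q ≫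
      (βf f).app J ≫ inv ((DerivedCategory.Q ⋙ DCoh.Rpush f).map q) := by
    rw [← Category.assoc, IsIso.eq_comp_inv]
    exact nat.symm
  rw [h2]
  infer_instance

/-- S1035. -/
theorem main_S1035 [HasInjectiveResolutions X.Modules]
    (F : CochainComplex X.Modules ℤ) (hq : ∀ n : ℤ, Coh.IsQCoh (F.X n))
    (hac : ∀ (n : ℤ) (i : ℕ), 0 < i → IsZero ((Coh.Rpush f i).obj (F.X n))) :
    IsIso (((DCoh.pushKh f).totalRightDerivedUnit DerivedCategory.Qh
      (HomotopyCategory.quasiIso X.Modules (ComplexShape.up ℤ))).app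
      ((HomotopyCategory.quotient X.Modules (ComplexShape.up ℤ)).obj F)) := by
  have hac' : ∀ (n : ℤ) (V : S.Opens), IsAffineOpen V → ∀ k : ℕ, 0 < k →
      Subsingleton (Coh.HHon X (F.X n) (f ⁻¹ᵁ V) k) := by
    intro n V hV k hk
    haveI : (F.X n).IsQuasicoherent := hq n
    obtain ⟨e1⟩ := Groth.Agent.Lib.Helper23.ModAbBridge.nonempty_toAb_Rpush_iso f (F.X n) k
    have h1 : IsZero ((Coh.RpushAb f k).obj (Coh.toAb (F.X n))) :=
      IsZero.of_iso (Groth.Agent.Lib.R2H2.LerayAff.isZero_toAb_of_isZero _ (hac n k hk)) e1.symm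
    exact Groth.Agent.Lib.R2H2.LerayAff.subsingleton_HHon_of_isZero_RpushAb f (F.X n) k h1 V hV
  haveI := isIso_βf_app_of_acyclic f F hq hac'
  exact isIso_totalRightDerivedUnit_app_of_isIso_βf_app f F

end Groth.Agent.Lib.H6xAcPush
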