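import Mathlib
import Groth.Prelude
import Groth.Agent.Lib.Helper1KF8
set_option backward.isDefEq.respectTransparency.types false

/-!
# Every functor on `K(A)` has a left derived functor (helper6)

For a ring `A`, every complex of `A`-modules admits a K-projective resolution, and at a K-projective
complex every functor has a pointwise left derived functor.  Hence `DRing.HasLTensor`,
`DRing.HasLBaseChange` hold unconditionally.
-/

set_option autoImplicit false
set_option linter.style.haveILetI false

universe u v w

open CategoryTheory CategoryTheory.Limits HomologicalComplex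

attribute [local instance] HasDerivedCategory.standard

namespace Groth.Agent.Lib.H6xHasLDerRing

open Groth.Agent.Lib.Helper1.KF

variable {A : Type u} [CommRing A] {H : Type v} [Category.{w} H]

lemma hom_ext_mk (P : CochainComplex (ModuleCat.{u} A) ℤ) [P.IsKProjective]
    {Y : StructuredArrow ((DerivedCategory.Qh (C := ModuleCat.{u} A)).obj
      ((HomotopyCategory.quotient _ _).obj P)) DerivedCategory.Qh}
    (m₁ m₂ : StructuredArrow.mk (Y := (HomotopyCategory.quotient _ _).obj P)
      (𝟙 ((DerivedCategory.Qh (C := ModuleCat.{u} A)).obj
        ((HomotopyCategory.quotient _ _).obj P))) ⟶ Y) : m₁ = m₂ := by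
  apply StructuredArrow.ext
  apply (CochainComplex.IsKProjective.Qh_map_bijective P Y.right).1
  have h1 := StructuredArrow.w m₁
  have h2 := StructuredArrow.w m₂
  simp only [StructuredArrow.mk_hom_eq_self, Category.id_comp] at h1 h2
  exact h1.trans h2.symm

/-- at a K-projective complex, `(P, 𝟙)` is initial among the arrows `Qh P ⟶ Qh Y` -/
noncomputable def isInitialMk (P : CochainComplex (ModuleCat.{u} A) ℤ) [P.IsKProjective] :
    IsInitial (StructuredArrow.mk (Y := (HomotopyCategory.quotient _ _).obj P)
      (𝟙 ((DerivedCategory.Qh (C := ModuleCat.{u} A)).obj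
        ((HomotopyCategory.quotient _ _).obj P)))) :=
  IsInitial.ofUniqueHom (fun Y =>
    StructuredArrow.homMk
      (Classical.choose ((CochainComplex.IsKProjective.Qh_map_bijective P Y.right).2 Y.hom))
      (by
        simp only [StructuredArrow.mk_hom_eq_self, Category.id_comp]
        exact Classical.choose_spec
          ((CochainComplex.IsKProjective.Qh_map_bijective P Y.right).2 Y.hom)))
    (fun Y m => hom_ext_mk P _ _)

/-- every functor on `K(A)` has a pointwise left derived functor at a K-projective complex -/
theorem hasPointwiseLeftDerivedFunctorAt_of_isKProjective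
    (F : HomotopyCategory (ModuleCat.{u} A) (ComplexShape.up ℤ) ⥤ H)
    (P : CochainComplex (ModuleCat.{u} A) ℤ) [P.IsKProjective] :
    F.HasPointwiseLeftDerivedFunctorAt
      (HomotopyCategory.quasiIso (ModuleCat.{u} A) (ComplexShape.up ℤ))
      ((HomotopyCategory.quotient _ _).obj P) := by
  rw [Functor.hasPointwiseLeftDerivedFunctorAt_iff F
    (DerivedCategory.Qh (C := ModuleCat.{u} A))
    (HomotopyCategory.quasiIso (ModuleCat.{u} A) (ComplexShape.up ℤ))]
  haveI : HasInitial (StructuredArrow ((DerivedCategory.Qh (C := ModuleCat.{u} A)).obj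
      ((HomotopyCategory.quotient _ _).obj P)) DerivedCategory.Qh) :=
    (isInitialMk P).hasInitial
  exact hasLimit_of_domain_hasInitial

/-- every functor on `K(A)` has a left derived functor with respect to the quasi-isomorphisms -/
theorem hasLeftDerivedFunctor
    (F : HomotopyCategory (ModuleCat.{u} A) (ComplexShape.up ℤ) ⥤ H) :
    F.HasLeftDerivedFunctor (HomotopyCategory.quasiIso (ModuleCat.{u} A) (ComplexShape.up ℤ)) := by
  haveI : F.HasPointwiseLeftDerivedFunctor
      (HomotopyCategory.quasiIso (ModuleCat.{u} A) (ComplexShape.up ℤ)) := by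
    intro X
    obtain ⟨K, rfl⟩ := HomotopyCategory.quotient_obj_surjective X
    obtain ⟨P, π, hP, -, hπ, -⟩ := exists_kprojective_resolution K
    have hw : HomotopyCategory.quasiIso (ModuleCat.{u} A) (ComplexShape.up ℤ)
        ((HomotopyCategory.quotient _ _).map π) := by
      rw [HomotopyCategory.quotient_map_mem_quasiIso_iff]
      exact hπ
    rw [← Functor.hasPointwiseLeftDerivedFunctorAt_iff_of_mem F _ _ hw]
    exact hasPointwiseLeftDerivedFunctorAt_of_isKProjective F P
  infer_instance

/-- the derived tensor product with a module exists -/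
theorem hasLTensor (M : ModuleCat.{u} A) : DRing.HasLTensor A M := hasLeftDerivedFunctor _

/-- the derived base change exists -/
theorem hasLBaseChange {B : Type u} [CommRing B] (φ : A →+* B) : DRing.HasLBaseChange φ :=
  hasLeftDerivedFunctor _

end Groth.Agent.Lib.H6xHasLDerRing
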