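import Mathlib
import Groth.Agent.Lib.Helper1Sky5
import Groth.Agent.Lib.Helper1LDer4
set_option backward.isDefEq.respectTransparency.types false

/-!
# Existence of the derived tensor products on a scheme (helper6)

* `hasLTensorMod M : DCoh.HasLTensorMod M` for every `O_X`-module `M`;
* `hasLTensorCx E : DCoh.HasLTensorCx E` for every complex `E` of `O_X`-modules.
-/

set_option autoImplicit false
set_option linter.style.haveILetI false

universe u

open CategoryTheory CategoryTheory.Limits AlgebraicGeometry HomologicalComplex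

attribute [local instance] HasDerivedCategory.standard

namespace Groth.Agent.Lib.H6xHasLTens

open Groth.Agent.Lib.Helper1.BKF Groth.Agent.Lib.Helper1.CI Groth.Agent.Lib.Helper1.Sky

variable {X : Scheme.{u}}

/-- the total left derived functor of `- ⊗ M` exists -/
theorem hasLTensorMod (M : X.Modules) : DCoh.HasLTensorMod M := by
  obtain ⟨R, ψ, h⟩ : ∃ (R : CochainComplex X.Modules ℤ ⥤ CochainComplex X.Modules ℤ)
      (ψ : R ⟶ 𝟭 (CochainComplex X.Modules ℤ)),
      ∀ G : CochainComplex X.Modules ℤ, ModSite.IsKFlat (O := X.sheaf) (R.obj G) ∧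
        (∀ n : ℤ, ModSite.IsFlat (O := X.sheaf) ((R.obj G).X n)) ∧ QuasiIso (ψ.app G) ∧
        ∀ n : ℤ, Epi ((ψ.app G).f n) := exists_functorial_kflat_flat_resolution X.sheaf
  have hρ : ∀ G, DCoh.IsKFlat (R.obj G) := fun G => (h G).1
  have hπ : ∀ G, HomologicalComplex.quasiIso X.Modules (ComplexShape.up ℤ) (ψ.app G) :=
    fun G => (h G).2.2.1
  have hF : ∀ {E E' : CochainComplex X.Modules ℤ} (q : E ⟶ E'), DCoh.IsKFlat E →
      DCoh.IsKFlat E' →
      HomologicalComplex.quasiIso X.Modules (ComplexShape.up ℤ) q → IsIso ((FC M).map q) := by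
    intro E E' q hE hE' hq
    have : QuasiIso q := hq
    exact isIso_FC_map M q hE hE'
  have h1 := isLeftDerivedFunctor_res (HomologicalComplex.quasiIso X.Modules (ComplexShape.up ℤ))
    (HomotopyCategory.quotient X.Modules (ComplexShape.up ℤ) ⋙ DerivedCategory.Qh) (FC M)
    (fun E => DCoh.IsKFlat E) R ψ hρ hπ hF
  have h2 := isLeftDerivedFunctor_desc
    (HomologicalComplex.homotopyEquivalences X.Modules (ComplexShape.up ℤ))
    (HomotopyCategory.quasiIso X.Modules (ComplexShape.up ℤ))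
    (HomologicalComplex.quasiIso X.Modules (ComplexShape.up ℤ))
    (HomotopyCategory.quotient X.Modules (ComplexShape.up ℤ)) DerivedCategory.Qh
    (DCoh.tensorModKh M) _ (resCounit (HomologicalComplex.quasiIso X.Modules (ComplexShape.up ℤ))
      (HomotopyCategory.quotient X.Modules (ComplexShape.up ℤ) ⋙ DerivedCategory.Qh) (FC M)
      (fun E => DCoh.IsKFlat E) R ψ hρ hπ hF)
  exact @Functor.HasLeftDerivedFunctor.mk' _ _ _ _ _ _ _ _ _ _ _ _ h2

/-- the total left derived functor of `- ⊗ E` exists -/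
theorem hasLTensorCx (E : CochainComplex X.Modules ℤ) : DCoh.HasLTensorCx E := by
  obtain ⟨R, ψ, h⟩ : ∃ (R : CochainComplex X.Modules ℤ ⥤ CochainComplex X.Modules ℤ)
      (ψ : R ⟶ 𝟭 (CochainComplex X.Modules ℤ)),
      ∀ G : CochainComplex X.Modules ℤ, ModSite.IsKFlat (O := X.sheaf) (R.obj G) ∧
        (∀ n : ℤ, ModSite.IsFlat (O := X.sheaf) ((R.obj G).X n)) ∧ QuasiIso (ψ.app G) ∧
        ∀ n : ℤ, Epi ((ψ.app G).f n) := exists_functorial_kflat_flat_resolution X.sheaf
  have hρ : ∀ G, DCoh.IsKFlat (R.obj G) := fun G => (h G).1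
  have hπ : ∀ G, HomologicalComplex.quasiIso X.Modules (ComplexShape.up ℤ) (ψ.app G) :=
    fun G => (h G).2.2.1
  have hF : ∀ {A B : CochainComplex X.Modules ℤ} (q : A ⟶ B), DCoh.IsKFlat A →
      DCoh.IsKFlat B →
      HomologicalComplex.quasiIso X.Modules (ComplexShape.up ℤ) q →
      IsIso ((DCoh.tensorCxQ E).map q) := by
    intro A B q hA hB hq
    haveI := @quasiIso_TR_map_of_isKFlat_of_isKFlat _ _ _ X.sheaf A B hA hB q hq E
    exact inferInstanceAs (IsIso (DerivedCategory.Q.map ((TR (ModSite.tensorBi X.sheaf) E).map q)))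
  have h1 := isLeftDerivedFunctor_res (HomologicalComplex.quasiIso X.Modules (ComplexShape.up ℤ))
    (DerivedCategory.Q (C := X.Modules)) (DCoh.tensorCxQ E)
    (fun E => DCoh.IsKFlat E) R ψ hρ hπ hF
  exact @Functor.HasLeftDerivedFunctor.mk' _ _ _ _ _ _ _ _ _ _ _ _ h1

end Groth.Agent.Lib.H6xHasLTens
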