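import Mathlib
import Groth.Agent.Lib.H6xHasLTens
import Groth.Agent.Lib.H6xHasLDerRing
import Groth.Agent.Lib.H6xRpushBd
import Groth.Agent.Lib.Helper1CI5
import Groth.Agent.Lib.Helper1KBC5
import Groth.Agent.Lib.Helper1KF9
import Groth.Agent.Lib.Helper1LT
import Groth.Agent.Lib.Helper23TildeTensor
import Groth.Agent.S6945
set_option backward.isDefEq.respectTransparency.types false

/-!
# Flat amplitude of `M~` on `Spec A` (helper6)
-/

set_option autoImplicit false
set_option linter.style.haveILetI false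

universe u

open CategoryTheory CategoryTheory.Limits AlgebraicGeometry HomologicalComplex TopologicalSpace
  Opposite MonoidalCategory

attribute [local instance] HasDerivedCategory.standard

namespace Groth.Agent.Lib.H6xFlatAmpTilde

open Groth.Agent.Lib.Helper1.BKF Groth.Agent.Lib.Helper1.CI Groth.Agent.Lib.Helper1.Sky
  Groth.Agent.Lib.Helper1.KBC Groth.Agent.Lib.Helper1.KF Groth.Agent.Lib.H6xHasLTens
  Groth.Agent.Lib.H6xHasLDerRing

variable (A : Type u) [CommRing A]

/-- the module associated to a flat module is flat -/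
theorem isFlat_tilde (N : ModuleCat.{u} A) [Module.Flat A N] :
    FlatMod.IsFlat ((tilde.functor (CommRingCat.of A)).obj N) := by
  intro x
  let e := (tildeStalkIso (CommRingCat.of A) x).app N
  letI : Algebra A (Ox x) := (toOx (CommRingCat.of A) x).toAlgebra
  have h1 : Module.Flat (Ox x) ((ModuleCat.extendScalars.{u, u, u}
      (toOx (CommRingCat.of A) x)).obj N) :=
    inferInstanceAs (Module.Flat (Ox x) (TensorProduct A (Ox x) N))
  exact Module.Flat.of_linearEquiv e.toLinearEquiv

instance : PreservesFiniteColimits (tilde.functor (CommRingCat.of A)) := by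
  haveI : PreservesColimitsOfSize.{0, 0} (tilde.functor (CommRingCat.of A)) :=
    (tilde.adjunction (R := (CommRingCat.of A))).leftAdjoint_preservesColimits
  exact PreservesColimitsOfSize.preservesFiniteColimits _

variable [PreservesFiniteLimits (tilde.functor (CommRingCat.of A))]

/-- (⇐) -/
theorem hasFlatAmplitudeIn_tildeD (M : Dual.D A) (a b : ℤ)
    (h : DRing.HasTorAmplitudeIn A a b M) :
    DCoh.HasFlatAmplitudeIn a b ((DCoh.tildeD (CommRingCat.of A)).obj M) := by
  obtain ⟨P, hP, hfl, ⟨e⟩⟩ := h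
  refine ⟨((tilde.functor (CommRingCat.of A)).mapHomologicalComplex (ComplexShape.up ℤ)).obj P,
    fun i hi => (tilde.functor (CommRingCat.of A)).map_isZero (hP i hi), fun i => ?_, ⟨?_⟩⟩
  · haveI : Module.Flat A (P.X i) := hfl i
    exact isFlat_tilde A (P.X i)
  · exact ((tilde.functor (CommRingCat.of A)).mapDerivedCategoryFactors.app P).symm ≪≫
      (DCoh.tildeD (CommRingCat.of A)).mapIso e

/-- `(P ⊗ N)~ ≅ P~ ⊗ N~` for complexes -/
noncomputable def tildeTtwIso (N : ModuleCat.{u} A) (P : CochainComplex (ModuleCat.{u} A) ℤ) :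
    ((tilde.functor (CommRingCat.of A)).mapHomologicalComplex (ComplexShape.up ℤ)).obj
      ((Groth.Agent.Lib.Helper1.LDer.tCx N).obj P) ≅
    (Ttw ((tilde.functor (CommRingCat.of A)).obj N)).obj
      (((tilde.functor (CommRingCat.of A)).mapHomologicalComplex (ComplexShape.up ℤ)).obj P) :=
  HomologicalComplex.Hom.isoOfComponents
    (fun i => @asIso _ _ _ _ (Groth.Agent.Lib.Helper23.TildeTensor.αApp (CommRingCat.of A) N (P.X i))
      (Groth.Agent.Lib.Helper23.TildeTensor.isIso_αApp (CommRingCat.of A) N (P.X i)))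
    (fun i j _ => ((Groth.Agent.Lib.Helper23.TildeTensor.α (CommRingCat.of A) N).naturality
      (P.d i j)).symm)

/-- (⇒) -/
theorem hasTorAmplitudeIn_of_tildeD (M : Dual.D A) (a b : ℤ)
    (h : DCoh.HasFlatAmplitudeIn a b ((DCoh.tildeD (CommRingCat.of A)).obj M)) :
    DRing.HasTorAmplitudeIn A a b M := by
  haveI : ∀ N : ModuleCat.{u} A, DRing.HasLTensor A N := fun N => hasLTensor N
  rw [Groth.Agent.S6945.result A M a b]
  intro N i hi
  let M₀ : CochainComplex (ModuleCat.{u} A) ℤ := DerivedCategory.Q.objPreimage M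
  let e₀ : DerivedCategory.Q.obj M₀ ≅ M := DerivedCategory.Q.objObjPreimageIso M
  obtain ⟨P, π, hP, -, hπ, -⟩ := exists_kprojective_resolution M₀
  haveI : IsIso (DerivedCategory.Q.map π) := by
    rw [DerivedCategory.isIso_Q_map_iff_quasiIso]; exact hπ
  let eP : DerivedCategory.Q.obj P ≅ M := asIso (DerivedCategory.Q.map π) ≪≫ e₀
  have h1 : KFlat P := kflat_of_isKProjective P
  have h2 : RKFlat P := fun M hM => h1 M hM
  let tP := ((tilde.functor (CommRingCat.of A)).mapHomologicalComplex (ComplexShape.up ℤ)).obj P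
  have h3 : DCoh.IsKFlat tP := isKFlat_tilde (CommRingCat.of A) P h2
  let e1 : (DCoh.tildeD (CommRingCat.of A)).obj M ≅ DCoh.toD _ tP :=
    (DCoh.tildeD (CommRingCat.of A)).mapIso eP.symm ≪≫
      (tilde.functor (CommRingCat.of A)).mapDerivedCategoryFactors.app P
  let G := (tilde.functor (CommRingCat.of A)).obj N
  haveI : DCoh.HasLTensorMod G := hasLTensorMod G
  have h4 : DCoh.HasTorAmplitudeIn a b (DCoh.toD _ tP) :=
    hasTorAmplitudeIn_of_iso e1 a b (hasTorAmplitudeIn_of_hasFlatAmplitudeIn a b h)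
  have h5 : IsZero (((Ttw G).obj tP).homology i) :=
    IsZero.of_iso (h4 G i hi) (HDltmIso G tP h3 i).symm
  have h6 : IsZero ((((tilde.functor (CommRingCat.of A)).mapHomologicalComplex
      (ComplexShape.up ℤ)).obj ((Groth.Agent.Lib.Helper1.LDer.tCx N).obj P)).homology i) :=
    IsZero.of_iso h5 ((HomologicalComplex.homologyFunctor _ _ i).mapIso (tildeTtwIso A N P))
  have h7 : IsZero ((tilde.functor (CommRingCat.of A)).obj
      (((Groth.Agent.Lib.Helper1.LDer.tCx N).obj P).homology i)) :=
    IsZero.of_iso h6 ((((Groth.Agent.Lib.Helper1.LDer.tCx N).obj P).sc i).mapHomologyIso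
      (tilde.functor (CommRingCat.of A))).symm
  have h8 : IsZero (((Groth.Agent.Lib.Helper1.LDer.tCx N).obj P).homology i) :=
    Groth.Agent.Lib.H6xRpushQc.isZero_of_isZero_tilde _ _ h7
  let e11 : (DRing.LTensor A N).obj M ≅
      DerivedCategory.Q.obj ((Groth.Agent.Lib.Helper1.LDer.tCx N).obj P) :=
    (DRing.LTensor A N).mapIso eP.symm ≪≫ Groth.Agent.Lib.Helper1.LDer.ltIso N P
  have h9 : IsZero ((DerivedCategory.homologyFunctor (ModuleCat.{u} A) i).obj
      ((DRing.LTensor A N).obj M)) :=
    IsZero.of_iso h8 ((DerivedCategory.homologyFunctor (ModuleCat.{u} A) i).mapIso e11 ≪≫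
      (DerivedCategory.homologyFunctorFactors (ModuleCat.{u} A) i).app _)
  exact ModuleCat.subsingleton_of_isZero h9

end Groth.Agent.Lib.H6xFlatAmpTilde
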