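import Mathlib
import Groth.Prelude.Def_DCoh3
import Groth.Prelude.Def_DerSch2
import Groth.Agent.Lib.H6xPC3E
set_option backward.isDefEq.respectTransparency.types false

/-!
# Retracts of pseudo-coherent objects; relative pseudo-coherence of direct summands (helper6)
-/

set_option autoImplicit false
set_option linter.style.haveILetI false
universe u
open CategoryTheory CategoryTheory.Limits AlgebraicGeometry TopologicalSpace Opposite
  CategoryTheory.Pretriangulated ZeroObject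

attribute [local instance] HasDerivedCategory.standard

namespace Groth.Agent.Lib.H6xPC3

variable {X : Scheme.{u}}

lemma isPseudoCoherentD_of_iso {m : ℤ} {K K' : DCoh.D X} (e : K ≅ K')
    (h : DCoh.IsPseudoCoherentD m K) : DCoh.IsPseudoCoherentD m K' := by
  rw [isPseudoCoherentD_iff_pcAt] at h ⊢
  exact fun x => (h x).of_iso e

/-- a retract of an `m`-pseudo-coherent object is `m`-pseudo-coherent -/
theorem isPseudoCoherentD_of_retract {m : ℤ} {K M : DCoh.D X} (i : K ⟶ M) (p : M ⟶ K)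
    (hip : i ≫ p = 𝟙 K) (h : DCoh.IsPseudoCoherentD m M) : DCoh.IsPseudoCoherentD m K := by
  obtain ⟨C, g, w, hT⟩ := distinguished_cocone_triangle i
  have hw : w = 0 := by
    have h1 : w ≫ i⟦(1 : ℤ)⟧' = 0 := comp_distTriang_mor_zero₃₁ _ hT
    have h2 : i⟦(1 : ℤ)⟧' ≫ p⟦(1 : ℤ)⟧' = 𝟙 _ := by
      rw [← Functor.map_comp, hip, CategoryTheory.Functor.map_id]
    calc w = w ≫ i⟦(1 : ℤ)⟧' ≫ p⟦(1 : ℤ)⟧' := by rw [h2, Category.comp_id]
      _ = 0 := by rw [← Category.assoc, h1, zero_comp]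
  obtain ⟨e, -, -⟩ := exists_iso_binaryBiproduct_of_distTriang _ hT hw
  exact (biprod m K C (isPseudoCoherentD_of_iso e h)).1

section rel

variable {Y : Scheme.{u}}

attribute [local instance] preservesBinaryBiproducts_of_preservesBiproducts in
/-- the chart test passes to direct summands -/
lemma chartPC_of_biprod (m : ℤ) (E K : DCoh.D X) [HasBinaryBiproduct E K] (U : X.Opens)
    (V : Y.Opens) {n : ℕ} (φ : MvPolynomial (Fin n) Γ(Y, V) →+* Γ(X, U))
    (h : DerSch.ChartPC m (E ⊞ K) U V φ) :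
    DerSch.ChartPC m E U V φ ∧ DerSch.ChartPC m K U V φ := by
  let Φ : CochainComplex X.Modules ℤ ⥤
      DCoh.D (Spec (CommRingCat.of (MvPolynomial (Fin n) Γ(Y, V)))) :=
    DCoh.restrictCx U ⋙ DerSch.pushCx (DerSch.chartImm U φ) ⋙ DerivedCategory.Q
  constructor
  · intro G ⟨eG⟩
    let G' := (DerivedCategory.Q : _ ⥤ DCoh.D X).objPreimage K
    let eK : DerivedCategory.Q.obj G' ≅ K := DerivedCategory.Q.objObjPreimageIso K
    have e : DCoh.toD X (G ⊞ G') ≅ E ⊞ K :=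
      (DerivedCategory.Q : _ ⥤ DCoh.D X).mapBiprod G G' ≪≫ biprod.mapIso eG eK
    have h1 := h (G ⊞ G') ⟨e⟩
    exact isPseudoCoherentD_of_retract (Φ.map biprod.inl) (Φ.map biprod.fst)
      (by rw [← Functor.map_comp, biprod.inl_fst, CategoryTheory.Functor.map_id]; rfl) h1
  · intro G ⟨eG⟩
    let G' := (DerivedCategory.Q : _ ⥤ DCoh.D X).objPreimage E
    let eE : DerivedCategory.Q.obj G' ≅ E := DerivedCategory.Q.objObjPreimageIso E
    have e : DCoh.toD X (G' ⊞ G) ≅ E ⊞ K :=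
      (DerivedCategory.Q : _ ⥤ DCoh.D X).mapBiprod G' G ≪≫ biprod.mapIso eE eG
    have h1 := h (G' ⊞ G) ⟨e⟩
    exact isPseudoCoherentD_of_retract (Φ.map biprod.inr) (Φ.map biprod.snd)
      (by rw [← Functor.map_comp, biprod.inr_snd, CategoryTheory.Functor.map_id]; rfl) h1

/-- **S7214** -/
theorem rel_biprod (f : X ⟶ Y) (m : ℤ) (E K : DCoh.D X) [HasBinaryBiproduct E K]
    (h : DerSch.IsPseudoCoherentRel f m (E ⊞ K)) :
    DerSch.IsPseudoCoherentRel f m E ∧ DerSch.IsPseudoCoherentRel f m K := by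
  obtain ⟨hf, 𝒱, h𝒱, h2⟩ := h
  constructor
  · refine ⟨hf, 𝒱, h𝒱, fun V hV => ?_⟩
    obtain ⟨𝒰, h𝒰, h3⟩ := h2 V hV
    refine ⟨𝒰, h𝒰, fun U hU hle => ?_⟩
    obtain ⟨n, φ, hφ, hpc⟩ := h3 U hU hle
    exact ⟨n, φ, hφ, (chartPC_of_biprod m E K _ _ φ hpc).1⟩
  · refine ⟨hf, 𝒱, h𝒱, fun V hV => ?_⟩
    obtain ⟨𝒰, h𝒰, h3⟩ := h2 V hV
    refine ⟨𝒰, h𝒰, fun U hU hle => ?_⟩
    obtain ⟨n, φ, hφ, hpc⟩ := h3 U hU hle
    exact ⟨n, φ, hφ, (chartPC_of_biprod m E K _ _ φ hpc).2⟩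

end rel

end Groth.Agent.Lib.H6xPC3
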