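import Mathlib
import Groth.Agent.S6978
set_option backward.isDefEq.respectTransparency.types false

/-!
# A retract of a perfect object of `D(A)` is perfect (via compactness) (helper6)
-/

set_option autoImplicit false
set_option linter.style.haveILetI false

universe v u

open CategoryTheory CategoryTheory.Limits

attribute [local instance] HasDerivedCategory.standard

namespace Groth.Agent.Lib.H6xPerfSumm

section Abstract

variable {D : Type u} [Category.{v} D] [Preadditive D]

open CohDer

/-- bijectivity of `⊕ Hom(K, X i) → Hom(K, ∐ X)` passes to retracts of `K`. -/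
theorem bijective_homSumToHomCoprod_of_retract {M N : D} (s : M ⟶ N) (r : N ⟶ M)
    (hsr : s ≫ r = 𝟙 M) {ι : Type v} (X : ι → D) [HasCoproduct X]
    (hN : Function.Bijective (homSumToHomCoprod N X)) :
    Function.Bijective (homSumToHomCoprod M X) := by
  classical
  let ρ : DirectSum ι (fun i => M ⟶ X i) →+ DirectSum ι (fun i => N ⟶ X i) :=
    DirectSum.map (fun i => Preadditive.leftComp (X i) r)
  let σ : DirectSum ι (fun i => N ⟶ X i) →+ DirectSum ι (fun i => M ⟶ X i) :=
    DirectSum.map (fun i => Preadditive.leftComp (X i) s)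
  have hσρ : ∀ x, σ (ρ x) = x := by
    intro x
    have : σ.comp ρ = AddMonoidHom.id _ := by
      apply DirectSum.addHom_ext
      intro i g
      simp only [AddMonoidHom.comp_apply, AddMonoidHom.id_apply, ρ, σ, DirectSum.map_of]
      congr 1
      change s ≫ r ≫ g = g
      rw [← Category.assoc, hsr, Category.id_comp]
    exact DFunLike.congr_fun this x
  have hρ : ∀ x, homSumToHomCoprod N X (ρ x) = r ≫ homSumToHomCoprod M X x := by
    intro x
    have : (homSumToHomCoprod N X).comp ρ =
        (Preadditive.leftComp (∐ X) r).comp (homSumToHomCoprod M X) := by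
      apply DirectSum.addHom_ext
      intro i g
      simp only [AddMonoidHom.comp_apply, ρ, DirectSum.map_of, homSumToHomCoprod,
        DirectSum.toAddMonoid_of]
      change (r ≫ g) ≫ Sigma.ι X i = r ≫ g ≫ Sigma.ι X i
      rw [Category.assoc]
    exact DFunLike.congr_fun this x
  have hσ : ∀ y, homSumToHomCoprod M X (σ y) = s ≫ homSumToHomCoprod N X y := by
    intro y
    have : (homSumToHomCoprod M X).comp σ =
        (Preadditive.leftComp (∐ X) s).comp (homSumToHomCoprod N X) := by
      apply DirectSum.addHom_ext
      intro i g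
      simp only [AddMonoidHom.comp_apply, σ, DirectSum.map_of, homSumToHomCoprod,
        DirectSum.toAddMonoid_of]
      change (s ≫ g) ≫ Sigma.ι X i = s ≫ g ≫ Sigma.ι X i
      rw [Category.assoc]
    exact DFunLike.congr_fun this y
  constructor
  · rw [injective_iff_map_eq_zero]
    intro x hx
    have h1 : homSumToHomCoprod N X (ρ x) = 0 := by rw [hρ, hx, comp_zero]
    have h2 : ρ x = 0 := (injective_iff_map_eq_zero _).1 hN.1 _ h1
    rw [← hσρ x, h2, map_zero]
  · intro g
    obtain ⟨y, hy⟩ := hN.2 (r ≫ g)
    refine ⟨σ y, ?_⟩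
    rw [hσ, hy, ← Category.assoc, hsr, Category.id_comp]

end Abstract

theorem isPerfect_of_retract (A : Type u) [CommRing A] {M N : Dual.D A} (s : M ⟶ N) (r : N ⟶ M)
    (hsr : s ≫ r = 𝟙 M) (hN : DRing.IsPerfect A N) : DRing.IsPerfect A M := by
  rw [Groth.Agent.S6978.result] at hN ⊢
  intro I E _
  exact bijective_homSumToHomCoprod_of_retract s r hsr _ (hN I E)

end Groth.Agent.Lib.H6xPerfSumm
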