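import Mathlib
import Groth.Agent.Lib.H6xPerfSummA
import Groth.Agent.Lib.H6xPerfAffE
import Groth.Agent.Lib.H6xAffPushC
import Groth.Agent.Lib.H6xRpushQcA
set_option backward.isDefEq.respectTransparency.types false

/-!
# Direct summands of perfect objects of `D(O_X)` are perfect: S0924 (helper6)
-/

set_option autoImplicit false
set_option linter.style.haveILetI false

universe u

open CategoryTheory CategoryTheory.Limits AlgebraicGeometry TopologicalSpace Opposite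

attribute [local instance] HasDerivedCategory.standard

namespace Groth.Agent.Lib.H6xPerfSumm

open DerivedCategory Groth.Agent.Lib.H6xPerfLoc Groth.Agent.Lib.H6xPerf23
  Groth.Agent.Lib.H6xPerfAff Groth.Agent.Lib.H6xTilde Groth.Agent.Lib.H6xQcTrunc

section QC

variable {X : Scheme.{u}}

lemma isQCoh_of_retract {M N : X.Modules} (s : M ⟶ N) (r : N ⟶ M) (hsr : s ≫ r = 𝟙 M)
    (hN : Coh.IsQCoh N) : Coh.IsQCoh M := by
  have hk : Coh.IsQCoh (kernel (𝟙 N - r ≫ s)) := (qc X).prop_kernel _ hN hN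
  have h1 : s ≫ (𝟙 N - r ≫ s) = 0 := by
    rw [Preadditive.comp_sub, Category.comp_id, ← Category.assoc, hsr, Category.id_comp, sub_self]
  have h2 : kernel.ι (𝟙 N - r ≫ s) ≫ r ≫ s = kernel.ι (𝟙 N - r ≫ s) := by
    have := kernel.condition (𝟙 N - r ≫ s)
    rw [Preadditive.comp_sub, Category.comp_id, sub_eq_zero] at this
    exact this.symm
  refine isQCoh_of_iso (?_ : kernel (𝟙 N - r ≫ s) ≅ M) hk
  exact
    { hom := kernel.ι _ ≫ r
      inv := kernel.lift _ s h1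
      hom_inv_id := by
        rw [← cancel_mono (kernel.ι (𝟙 N - r ≫ s)), Category.assoc, kernel.lift_ι, Category.assoc,
          h2, Category.id_comp]
      inv_hom_id := by rw [kernel.lift_ι_assoc, hsr] }

lemma isQCohD_of_retract {K N : DCoh.D X} (s : K ⟶ N) (r : N ⟶ K) (hsr : s ≫ r = 𝟙 K)
    (hN : DCoh.IsQCohD N) : DCoh.IsQCohD K := fun i =>
  isQCoh_of_retract ((homologyFunctor _ i).map s) ((homologyFunctor _ i).map r)
    (by rw [← Functor.map_comp, hsr, CategoryTheory.Functor.map_id]) (hN i)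

/-- perfectness is local for arbitrary open immersions -/
theorem isPerfect_of_local_perfect (K : DCoh.D X)
    (h : ∀ x : X, ∃ (Z : Scheme.{u}) (g : Z ⟶ X) (_ : IsOpenImmersion g),
      x ∈ Set.range g.base ∧ DCoh.IsPerfect ((DCoh.restrictD g).obj K)) : DCoh.IsPerfect K := by
  rw [isPerfect_iff_local]
  intro x
  obtain ⟨Z, g, hg, ⟨z, rfl⟩, hK⟩ := h x
  rw [isPerfect_iff_local] at hK
  obtain ⟨Z', g', hg', ⟨z', hz'⟩, E, hE, ⟨e⟩⟩ := hK z
  obtain ⟨c⟩ := nonempty_restrictD_comp g' g (g' ≫ g) rfl K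
  exact ⟨Z', g' ≫ g, inferInstance, ⟨z', by rw [← hz']; rfl⟩, E, hE, ⟨c ≪≫ e⟩⟩

end QC

section Spec

variable (R : CommRingCat.{u}) [PreservesFiniteLimits (tilde.functor R)]

theorem isPerfect_of_retract_strictlyPerfect (K : DCoh.D (Spec R))
    (E : CochainComplex (Spec R).Modules ℤ) (hE : DCoh.IsStrictlyPerfect E)
    (s : K ⟶ Q.obj E) (r : Q.obj E ⟶ K) (hsr : s ≫ r = 𝟙 K) : DCoh.IsPerfect K := by
  have hQE : DCoh.IsQCohD ((Q : _ ⥤ DerivedCategory (Spec R).Modules).obj E) := fun i =>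
    Groth.Agent.Lib.H6xAffPush.isQCohD_Q E
      (fun n => Groth.Agent.Lib.R2H2.PullLF.isQuasicoherent_of_isFinLocFree _ (hE.2 n)) i
  have hK : DCoh.IsQCohD K := isQCohD_of_retract s r hsr hQE
  obtain ⟨hfull, hfaith, hess⟩ := Groth.Agent.Lib.H6xTilde.main R
  haveI := hfull
  haveI := hfaith
  obtain ⟨M, ⟨eM⟩⟩ := (hess K).1 hK
  obtain ⟨L, a, b, hL0, hLP, ⟨eL⟩⟩ := exists_tilde_iso_of_isStrictlyPerfect R E hE
  have eE : (DCoh.tildeD R).obj (Q.obj L) ≅ Q.obj E :=
    (tilde.functor R).mapDerivedCategoryFactors.app L ≪≫ Q.mapIso eL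
  let s₀ : M ⟶ Q.obj L := (DCoh.tildeD R).preimage (eM.hom ≫ s ≫ eE.inv)
  let r₀ : Q.obj L ⟶ M := (DCoh.tildeD R).preimage (eE.hom ≫ r ≫ eM.inv)
  have h₀ : s₀ ≫ r₀ = 𝟙 M := by
    apply (DCoh.tildeD R).map_injective
    rw [Functor.map_comp, Functor.map_preimage, Functor.map_preimage,
      CategoryTheory.Functor.map_id]
    simp only [Category.assoc, Iso.inv_hom_id_assoc]
    rw [← Category.assoc s r, hsr, Category.id_comp, Iso.hom_inv_id]
  have hM : DRing.IsPerfect R M :=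
    isPerfect_of_retract R s₀ r₀ h₀ ⟨L, a, b, hL0, hLP, ⟨Iso.refl _⟩⟩
  exact isPerfect_of_iso eM (isPerfect_tildeD_of_isPerfect R M hM)

end Spec

end Groth.Agent.Lib.H6xPerfSumm
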