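import Mathlib
import Groth.Agent.Lib.H6xPerfSummB
import Groth.Agent.Lib.H6xPerfCoh
import Groth.Agent.S9498
set_option backward.isDefEq.respectTransparency.types false

/-!
# Direct summands of perfect objects of `D(O_X)` are perfect: S0924 (helper6)
-/

set_option autoImplicit false
set_option linter.style.haveILetI false

universe u

open CategoryTheory CategoryTheory.Limits AlgebraicGeometry TopologicalSpace Opposite

attribute [local instance] HasDerivedCategory.standard

namespace Groth.Agent.Lib.H6xPerfSumm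

open DerivedCategory Groth.Agent.Lib.H6xPerfLoc Groth.Agent.Lib.H6xPerf23
  Groth.Agent.Lib.H6xPerfAff

variable {X : Scheme.{u}}

/-- a retract (in `D(O_X)`) of a perfect object is perfect -/
theorem isPerfect_of_retract_of_isPerfect {K N : DCoh.D X} (s : K ⟶ N) (r : N ⟶ K)
    (hsr : s ≫ r = 𝟙 K) (hN : DCoh.IsPerfect N) : DCoh.IsPerfect K := by
  refine isPerfect_of_local_perfect K (fun x => ?_)
  obtain ⟨V, hxV, E, hE, ⟨e⟩⟩ := (Groth.Agent.Lib.H6xPerfCoh.isPerfect_iff_opens _).1 hN x
  obtain ⟨W, hW, hxW, hWV⟩ := exists_isAffineOpen_mem_and_subset (x := x) (U := V) hxV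
  have hr : Set.range hW.fromSpec.base ⊆ Set.range V.ι.base := by
    rw [hW.range_fromSpec, Scheme.Opens.range_ι]
    exact hWV
  let k : Spec Γ(X, W) ⟶ V := IsOpenImmersion.lift V.ι hW.fromSpec hr
  have hk : k ≫ V.ι = hW.fromSpec := IsOpenImmersion.lift_fac V.ι hW.fromSpec hr
  haveI : IsOpenImmersion k := by
    haveI : IsOpenImmersion (k ≫ V.ι) := by rw [hk]; infer_instance
    exact IsOpenImmersion.of_comp k V.ι
  haveI : PreservesFiniteLimits (tilde.functor Γ(X, W)) := (Groth.Agent.S9498.aux _).1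
  obtain ⟨c⟩ := nonempty_restrictD_comp k V.ι hW.fromSpec hk N
  have θ : (DCoh.restrictD hW.fromSpec).obj N ≅ Q.obj
      (((Scheme.Modules.restrictFunctor k).mapHomologicalComplex (ComplexShape.up ℤ)).obj E) :=
    c ≪≫ (DCoh.restrictD k).mapIso e ≪≫
      (Scheme.Modules.restrictFunctor k).mapDerivedCategoryFactors.app E
  refine ⟨Spec Γ(X, W), hW.fromSpec, inferInstance, ?_, ?_⟩
  · rw [hW.range_fromSpec]
    exact hxW
  · refine isPerfect_of_retract_strictlyPerfect Γ(X, W) _ _ (isStrictlyPerfect_restrict k E hE)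
      ((DCoh.restrictD hW.fromSpec).map s ≫ θ.hom) (θ.inv ≫ (DCoh.restrictD hW.fromSpec).map r) ?_
    simp only [Category.assoc, Iso.hom_inv_id_assoc]
    rw [← Functor.map_comp, hsr, CategoryTheory.Functor.map_id]

theorem isPerfect_of_biprod (K L : DCoh.D X) [HasBinaryBiproduct K L]
    (h : DCoh.IsPerfect (K ⊞ L)) : DCoh.IsPerfect K ∧ DCoh.IsPerfect L :=
  ⟨isPerfect_of_retract_of_isPerfect biprod.inl biprod.fst biprod.inl_fst h,
    isPerfect_of_retract_of_isPerfect biprod.inr biprod.snd biprod.inr_snd h⟩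

end Groth.Agent.Lib.H6xPerfSumm
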