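import Mathlib
import Groth.Agent.Lib.H6xFlatAmpTilde
import Groth.Agent.Lib.H6xPerfSummC
import Groth.Agent.Lib.H6xPCohA
import Groth.Agent.Lib.H6xQcTruncB
import Groth.Agent.Lib.H6xPC3F
import Groth.Agent.Lib.Helper1Sky4
import Groth.Agent.Lib.Helper1CI4
import Groth.Agent.S5611
set_option backward.isDefEq.respectTransparency.types false

/-!
# Flat amplitude + pseudo-coherence ⇒ perfect (helper6)
-/

set_option autoImplicit false
set_option linter.style.haveILetI false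

universe u

open CategoryTheory CategoryTheory.Limits AlgebraicGeometry HomologicalComplex TopologicalSpace
  Opposite MonoidalCategory

attribute [local instance] HasDerivedCategory.standard

namespace Groth.Agent.Lib.H6xPerfFlatPC

open Groth.Agent.Lib.Helper1.CI Groth.Agent.Lib.Helper1.Sky
  Groth.Agent.Lib.H6xPerf23 Groth.Agent.Lib.H6xPerfAff Groth.Agent.Lib.H6xPerfSumm
  Groth.Agent.Lib.H6xPC3

variable {X : Scheme.{u}}

lemma hasFlatAmplitudeIn_of_iso {K K' : DCoh.D X} (e : K ≅ K') (a b : ℤ)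
    (h : DCoh.HasFlatAmplitudeIn a b K) : DCoh.HasFlatAmplitudeIn a b K' := by
  obtain ⟨T, hT, hfl, ⟨e'⟩⟩ := h
  exact ⟨T, hT, hfl, ⟨e' ≪≫ e⟩⟩

/-- flat amplitude restricts to opens -/
theorem hasFlatAmplitudeIn_restrictD {Z : Scheme.{u}} (g : Z ⟶ X) [IsOpenImmersion g]
    (K : DCoh.D X) (a b : ℤ) (h : DCoh.HasFlatAmplitudeIn a b K) :
    DCoh.HasFlatAmplitudeIn a b ((DCoh.restrictD g).obj K) := by
  obtain ⟨T, hT, hfl, ⟨e⟩⟩ := h
  refine ⟨((Scheme.Modules.restrictFunctor g).mapHomologicalComplex (ComplexShape.up ℤ)).obj T,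
    fun i hi => (Scheme.Modules.restrictFunctor g).map_isZero (hT i hi), fun i => ?_,
    ⟨((Scheme.Modules.restrictFunctor g).mapDerivedCategoryFactors.app T).symm ≪≫
      (DCoh.restrictD g).mapIso e⟩⟩
  exact flatMod_isFlat_of_iso ((Scheme.Modules.restrictFunctorIsoPullback g).app (T.X i)).symm
    (isFlat_pullback g (T.X i) (hfl i))

/-- the cohomology of a complex with flat amplitude in `[a, b]` vanishes below `a` -/
lemma isZero_HD_of_hasFlatAmplitudeIn (K : DCoh.D X) (a b : ℤ)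
    (h : DCoh.HasFlatAmplitudeIn a b K) (i : ℤ) (hi : i < a ∨ b < i) : IsZero (DCoh.HD K i) := by
  obtain ⟨T, hT, -, ⟨e⟩⟩ := h
  exact IsZero.of_iso (isZero_homology_of_isZero_X T i (hT i hi))
    ((DerivedCategory.homologyFunctor _ i).mapIso e.symm ≪≫
      (DerivedCategory.homologyFunctorFactors _ i).app T)

/-- the affine case -/
theorem main_affine (R : CommRingCat.{u}) (K : DCoh.D (Spec R)) (a b : ℤ) (hab : a ≤ b)
    (hq : DCoh.IsQCohD K) (h1 : DCoh.HasFlatAmplitudeIn a b K)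
    (h2 : DCoh.IsPseudoCoherentD (a - 1) K) : DCoh.IsPerfect K := by
  haveI := (Groth.Agent.S9498.aux R).1
  obtain ⟨M, ⟨eM⟩⟩ := ((Groth.Agent.Lib.H6xTilde.main R).2.2 K).1 hq
  have hM1 : DRing.IsPseudoCoherent R (a - 1) M :=
    (Groth.Agent.Lib.H6xTildePC.pc_tildeD_iff R M (a - 1)).1 (isPseudoCoherentD_of_iso eM.symm h2)
  have hM2 : DRing.HasTorAmplitudeIn R a b M :=
    Groth.Agent.Lib.H6xFlatAmpTilde.hasTorAmplitudeIn_of_tildeD R M a b
      (hasFlatAmplitudeIn_of_iso eM.symm a b h1)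
  obtain ⟨L, hL, hLP, ⟨eL⟩⟩ := (Groth.Agent.S5611.result M a b hab).1 ⟨hM1, hM2⟩
  have hperf : DRing.IsPerfect R M := ⟨L, a, b, hL, hLP, ⟨eL⟩⟩
  exact isPerfect_of_iso eM (isPerfect_tildeD_of_isPerfect R M hperf)

/-- S0913 -/
theorem main (E : DCoh.D X) (a b : ℤ) (hab : a ≤ b)
    (h1 : DCoh.HasFlatAmplitudeIn a b E) (h2 : DCoh.IsPseudoCoherentD (a - 1) E) :
    DCoh.IsPerfect E := by
  have hq : DCoh.IsQCohD E := fun i => by
    by_cases hi : a - 1 < i
    · exact (Groth.Agent.Lib.H6xPCoh.qcoh_cohomology_of_pseudoCoherent (a - 1) E h2).1 i hi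
    · exact Groth.Agent.Lib.H6xQcTrunc.isQCoh_of_isZero _
        (isZero_HD_of_hasFlatAmplitudeIn E a b h1 i (Or.inl (by omega)))
  refine isPerfect_of_local_perfect E (fun x => ?_)
  obtain ⟨W, hW, hxW, -⟩ := exists_isAffineOpen_mem_and_subset (x := x) (U := ⊤) trivial
  refine ⟨Spec Γ(X, W), hW.fromSpec, inferInstance, by rw [hW.range_fromSpec]; exact hxW, ?_⟩
  refine main_affine Γ(X, W) _ a b hab
    (Groth.Agent.Lib.H6xRpushQc.isQCohD_restrictD hW.fromSpec E hq)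
    (hasFlatAmplitudeIn_restrictD hW.fromSpec E a b h1) ?_
  rw [isPseudoCoherentD_iff_pcAt] at h2 ⊢
  exact fun z => PCAt.restrict hW.fromSpec z (h2 _)

end Groth.Agent.Lib.H6xPerfFlatPC
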