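import Mathlib
import Groth.Agent.Lib.H6xPerfFlatPC
import Groth.Agent.Lib.R2H2PullLF
set_option backward.isDefEq.respectTransparency.types false

/-!
# Perfect iff pseudo-coherent and locally of finite tor dimension (helper6)
-/

set_option autoImplicit false
set_option linter.style.haveILetI false

universe u

open CategoryTheory CategoryTheory.Limits AlgebraicGeometry HomologicalComplex TopologicalSpace
  Opposite MonoidalCategory

attribute [local instance] HasDerivedCategory.standard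

namespace Groth.Agent.Lib.H6xPerfFlatPC

open Groth.Agent.Lib.Helper1.CI Groth.Agent.Lib.Helper1.Sky
  Groth.Agent.Lib.H6xPerf23 Groth.Agent.Lib.H6xPerfAff Groth.Agent.Lib.H6xPerfSumm
  Groth.Agent.Lib.H6xPC3

variable {X : Scheme.{u}}

/-- restriction to an open of two representatives of the same object -/
noncomputable def restrictCxIso (V : X.Opens) (K : DCoh.D X) (F : CochainComplex X.Modules ℤ)
    (e : DCoh.toD X F ≅ K) :
    DerivedCategory.Q.obj ((DCoh.restrictCx V).obj F) ≅ (DCoh.restrictD V.ι).obj K :=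
  ((Scheme.Modules.restrictFunctor V.ι).mapDerivedCategoryFactors.app F).symm ≪≫
    (DCoh.restrictD V.ι).mapIso e

lemma hasFlatAmplitudeIn_mono (K : DCoh.D X) (a b a' b' : ℤ) (ha : a' ≤ a) (hb : b ≤ b')
    (h : DCoh.HasFlatAmplitudeIn a b K) : DCoh.HasFlatAmplitudeIn a' b' K := by
  obtain ⟨T, hT, hfl, e⟩ := h
  exact ⟨T, fun i hi => hT i (by omega), hfl, e⟩

theorem locHasFiniteTorDim_of_isPerfect (E : DCoh.D X) (hE : DCoh.IsPerfect E) :
    DCoh.LocHasFiniteTorDim E := by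
  intro x
  obtain ⟨V, hxV, hV⟩ := hE x
  obtain ⟨P, ⟨⟨a, b, hP⟩, hPf⟩, ⟨e⟩⟩ := hV (DerivedCategory.Q.objPreimage E)
    ⟨DerivedCategory.Q.objObjPreimageIso E⟩
  refine ⟨V, a, b, hxV, fun F' ⟨eF'⟩ => ?_⟩
  refine ⟨P, hP, fun i => Groth.Agent.Lib.R2H2.PullLF.isFlat_of_isFinLocFree _ (hPf i), ⟨?_⟩⟩
  exact e.symm ≪≫ restrictCxIso V E _ (DerivedCategory.Q.objObjPreimageIso E) ≪≫
    (restrictCxIso V E F' eF').symm

theorem isPerfect_of_pc_of_locHasFiniteTorDim (E : DCoh.D X)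
    (h1 : ∀ m : ℤ, DCoh.IsPseudoCoherentD m E) (h2 : DCoh.LocHasFiniteTorDim E) :
    DCoh.IsPerfect E := by
  refine isPerfect_of_local_perfect E (fun x => ?_)
  obtain ⟨V, a, b, hxV, hV⟩ := h2 x
  refine ⟨V, V.ι, inferInstance, by rw [Scheme.Opens.range_ι]; exact hxV, ?_⟩
  have hfl : DCoh.HasFlatAmplitudeIn a b ((DCoh.restrictD V.ι).obj E) :=
    hasFlatAmplitudeIn_of_iso (restrictCxIso V E _ (DerivedCategory.Q.objObjPreimageIso E)) a b
      (hV (DerivedCategory.Q.objPreimage E) ⟨DerivedCategory.Q.objObjPreimageIso E⟩)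
  have hfl' : DCoh.HasFlatAmplitudeIn a (max a b) ((DCoh.restrictD V.ι).obj E) :=
    hasFlatAmplitudeIn_mono _ a b a (max a b) le_rfl (le_max_right a b) hfl
  refine main _ a (max a b) (le_max_left a b) hfl' ?_
  have h := h1 (a - 1)
  rw [isPseudoCoherentD_iff_pcAt] at h ⊢
  exact fun z => PCAt.restrict V.ι z (h _)

/-- S0914 -/
theorem main_iff (E : DCoh.D X) :
    DCoh.IsPerfect E ↔ (∀ m : ℤ, DCoh.IsPseudoCoherentD m E) ∧ DCoh.LocHasFiniteTorDim E :=
  ⟨fun h => ⟨fun m => isPseudoCoherentD_of_isPerfect E h m, locHasFiniteTorDim_of_isPerfect E h⟩,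
    fun h => isPerfect_of_pc_of_locHasFiniteTorDim E h.1 h.2⟩

end Groth.Agent.Lib.H6xPerfFlatPC
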