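import Mathlib
import Groth.Agent.Lib.Helper1Sky4
import Groth.Agent.Lib.Helper1KBC4
set_option backward.isDefEq.respectTransparency.types false

/-!
# The stalk of a pushforward along a topological embedding (helper6)

`(i_* M)_{i x} ≅ M_x` as modules over `O_{Y, i x}`, for `i : X ⟶ Y` inducing on the underlying spaces
(e.g. a closed immersion).
-/

set_option autoImplicit false
set_option linter.style.haveILetI false

universe u

open CategoryTheory CategoryTheory.Limits TopCat TopologicalSpace Opposite AlgebraicGeometry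

namespace Groth.Agent.Lib.H6xPushStalk

open Groth.Agent.Lib.Helper1.StalkTensor Groth.Agent.Lib.Helper1.Sky

variable {X Y : Scheme.{u}} (i : X ⟶ Y) (x : X)

/-- the comparison `(i_* M)_{i x} → M_x` -/
noncomputable def θ (M : X.Modules) :
    St (toPM ((Scheme.Modules.pushforward i).obj M)) (i.base x) →+ St (toPM M) x :=
  (TopCat.Presheaf.stalkPushforward Ab i.base (toPM M).presheaf x).hom

lemma θ_gm (M : X.Modules) (U : Y.Opens) (hx : i.base x ∈ U)
    (s : (toPM ((Scheme.Modules.pushforward i).obj M)).obj (op U)) :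
    θ i x M (gm (toPM ((Scheme.Modules.pushforward i).obj M)) (i.base x) U hx s) =
      gm (toPM M) x (i ⁻¹ᵁ U) hx s :=
  TopCat.Presheaf.stalkPushforward_germ_apply Ab i.base (toPM M).presheaf U x hx s

lemma θ_smul (M : X.Modules) (r : Rx Y.presheaf (i.base x))
    (a : St (toPM ((Scheme.Modules.pushforward i).obj M)) (i.base x)) :
    θ i x M (r • a) = (i.stalkMap x).hom r • θ i x M a := by
  obtain ⟨W, hW, c, p, rfl, rfl⟩ := gm_surj_smul r a
  rw [← gm_smul, θ_gm, θ_gm]
  change gm (toPM M) x (i ⁻¹ᵁ W) hW
    ((i.app W).hom c • (show (toPM M).obj (op (i ⁻¹ᵁ W)) from p)) = _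
  rw [gm_smul]
  congr 1
  exact (Scheme.Hom.germ_stalkMap_apply i W x hW c).symm

lemma θ_bijective (hi : Topology.IsInducing i.base) (M : X.Modules) :
    Function.Bijective (θ i x M) := by
  haveI := TopCat.Presheaf.stalkPushforward.stalkPushforward_iso_of_isInducing (C := Ab) hi
    (toPM M).presheaf x
  exact ConcreteCategory.bijective_of_isIso
    (TopCat.Presheaf.stalkPushforward Ab i.base (toPM M).presheaf x)

lemma θ_naturality {M N : X.Modules} (φ : M ⟶ N)
    (a : St (toPM ((Scheme.Modules.pushforward i).obj M)) (i.base x)) :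
    θ i x N (sm (toPMMap ((Scheme.Modules.pushforward i).map φ)) (i.base x) a) =
      sm (toPMMap φ) x (θ i x M a) := by
  obtain ⟨U, hU, s, rfl⟩ := exists_gm_eq a
  rw [sm_gm, θ_gm, θ_gm, sm_gm]
  rfl

/-- the comparison as a linear equivalence -/
noncomputable def θLin (hi : Topology.IsInducing i.base) (M : X.Modules) :
    ((stalkFun (i.base x)).obj ((Scheme.Modules.pushforward i).obj M)) ≃ₗ[Ox (i.base x)]
      ((ModuleCat.restrictScalars (i.stalkMap x).hom).obj ((stalkFun x).obj M)) :=
  { AddEquiv.ofBijective (θ i x M) (θ_bijective i x hi M) with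
    map_smul' := fun r a => θ_smul i x M r a }

/-- the stalk of a pushforward along an embedding -/
noncomputable def stalkPushforwardIso (hi : Topology.IsInducing i.base) :
    Scheme.Modules.pushforward i ⋙ stalkFun (i.base x) ≅
      stalkFun x ⋙ ModuleCat.restrictScalars.{u} (i.stalkMap x).hom :=
  NatIso.ofComponents (fun M => (θLin i x hi M).toModuleIso) (fun {M N} φ => by
    ext a
    exact θ_naturality i x φ a)

end Groth.Agent.Lib.H6xPushStalk
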