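import Mathlib
import Groth.Agent.Lib.H6xHasLTens
import Groth.Agent.Lib.Helper1KBC4
import Groth.Agent.Lib.Helper1CI3
import Groth.Agent.Lib.Helper1StalkTensorC
import Groth.Agent.Lib.Helper23QCohLocal
import Groth.Agent.Lib.H6xPC3B
set_option backward.isDefEq.respectTransparency.types false

/-!
# Tor amplitude can be tested on quasi-coherent modules (helper6)
-/

set_option autoImplicit false
set_option linter.style.haveILetI false

universe u

open CategoryTheory CategoryTheory.Limits AlgebraicGeometry HomologicalComplex TopologicalSpace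
  Opposite MonoidalCategory

attribute [local instance] HasDerivedCategory.standard

namespace Groth.Agent.Lib.H6xTorQc

open Groth.Agent.Lib.Helper1.BKF Groth.Agent.Lib.Helper1.CI Groth.Agent.Lib.Helper1.Sky
  Groth.Agent.Lib.Helper1.KBC Groth.Agent.Lib.H6xHasLTens


variable {X : Scheme.{u}}

/-- the test module `ι_* Ñ` is quasi-coherent on a quasi-separated scheme -/
theorem isQuasicoherent_GNF [QuasiSeparatedSpace X] (x : X)
    (N : ModuleCat.{u} (Groth.Agent.Lib.Helper1.StalkTensor.Ox x)) :
    ((Groth.Agent.Lib.Helper1.StalkTensor.GNF x).obj N).IsQuasicoherent := by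
  haveI : QuasiCompact (Groth.Agent.Lib.Helper1.StalkTensor.ιx x) := inferInstance
  haveI : QuasiSeparated (Groth.Agent.Lib.Helper1.StalkTensor.ιx x) := inferInstance
  haveI : ((tilde.functor (Groth.Agent.Lib.Helper1.StalkTensor.Ox x)).obj N).IsQuasicoherent :=
    inferInstanceAs (tilde N).IsQuasicoherent
  exact Groth.Agent.Lib.Helper23.QCohLocal.isQuasicoherent_pushforward
    (Groth.Agent.Lib.Helper1.StalkTensor.ιx x)
    ((tilde.functor (Groth.Agent.Lib.Helper1.StalkTensor.Ox x)).obj N)

/-- termwise tensor product with a module over a ring -/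
noncomputable abbrev TtwR {A : Type u} [CommRing A] (N : ModuleCat.{u} A) :
    CochainComplex (ModuleCat.{u} A) ℤ ⥤ CochainComplex (ModuleCat.{u} A) ℤ :=
  (tensorRight N).mapHomologicalComplex (ComplexShape.up ℤ)

/-- the stalk of the termwise tensor product with a module -/
noncomputable def stalkTtwIso (x : X) (F : X.Modules) (K : CochainComplex X.Modules ℤ) :
    (stalkC x).obj ((Ttw F).obj K) ≅ (TtwR ((stalkFun x).obj F)).obj ((stalkC x).obj K) :=
  HomologicalComplex.Hom.isoOfComponents (fun n => stalkTensorApp x (K.X n) F)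
    (fun i j _ => (stalkTensor_naturality_left x (K.d i j) F).symm)

lemma isZero_homology_of_forall_stalk (C : CochainComplex X.Modules ℤ) (i : ℤ)
    (h : ∀ x : X, IsZero (((stalkC x).obj C).homology i)) : IsZero (C.homology i) := by
  apply isZero_of_forall_isZero_stalk
  intro y
  exact IsZero.of_iso (h y) ((C.sc i).mapHomologyIso (stalkFun y)).symm

lemma isZero_homology_stalk (C : CochainComplex X.Modules ℤ) (i : ℤ)
    (h : IsZero (C.homology i)) (x : X) : IsZero (((stalkC x).obj C).homology i) :=
  IsZero.of_iso ((stalkFun x).map_isZero h) ((C.sc i).mapHomologyIso (stalkFun x))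

/-- `TtwR` depends only on the isomorphism class of the module -/
noncomputable def ttwRIso {A : Type u} [CommRing A] {N N' : ModuleCat.{u} A} (e : N ≅ N')
    (L : CochainComplex (ModuleCat.{u} A) ℤ) : (TtwR N).obj L ≅ (TtwR N').obj L :=
  (NatIso.mapHomologicalComplex ((curriedTensor (ModuleCat.{u} A)).flip.mapIso e)
    (ComplexShape.up ℤ)).app L

/-- the key claim: testing against the modules `ι_* Ñ` gives tor amplitude of the stalk -/
theorem isZero_homology_TtwR_stalk [QuasiSeparatedSpace X] (K : CochainComplex X.Modules ℤ)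
    (hK : DCoh.IsKFlat K) (i : ℤ)
    (h : ∀ (G : X.Modules), G.IsQuasicoherent → ∀ [DCoh.HasLTensorMod G],
      IsZero (DCoh.HD ((DCoh.LTensorMod G).obj (DCoh.toD X K)) i))
    (x : X) (N : ModuleCat.{u} (Ox x)) :
    IsZero (((TtwR N).obj ((stalkC x).obj K)).homology i) := by
  let G : X.Modules := (Groth.Agent.Lib.Helper1.StalkTensor.GNF x).obj N
  haveI := hasLTensorMod G
  have h1 : IsZero (((Ttw G).obj K).homology i) :=
    IsZero.of_iso (h G (isQuasicoherent_GNF x N)) (HDltmIso G K hK i).symm
  have h2 := isZero_homology_stalk _ i h1 x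
  have h3 : IsZero (((TtwR ((stalkFun x).obj G)).obj ((stalkC x).obj K)).homology i) :=
    IsZero.of_iso h2 ((HomologicalComplex.homologyFunctor _ _ i).mapIso (stalkTtwIso x G K)).symm
  let e : N ≅ (stalkFun x).obj G := (Groth.Agent.Lib.Helper1.StalkTensor.ψLin N).toModuleIso
  exact IsZero.of_iso h3
    ((HomologicalComplex.homologyFunctor _ _ i).mapIso (ttwRIso e ((stalkC x).obj K)))

/-- S1073 -/
theorem main (X : Scheme.{u}) [QuasiSeparatedSpace ↥X] (E : DCoh.D X) (a b : ℤ) :
    DCoh.HasTorAmplitudeIn a b E ↔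
      ∀ (F : X.Modules), Coh.IsQCoh F → ∀ [DCoh.HasLTensorMod F] (i : ℤ), (i < a ∨ b < i) →
        IsZero (DCoh.HD ((DCoh.LTensorMod F).obj E) i) := by
  constructor
  · intro h F _ _ i hi
    exact h F i hi
  · intro h F _ i hi
    obtain ⟨K, q, hK, -, hq, -⟩ : ∃ (K : CochainComplex X.Modules ℤ)
        (q : K ⟶ DerivedCategory.Q.objPreimage E), DCoh.IsKFlat K ∧
        (∀ n : ℤ, ModSite.IsFlat (O := X.sheaf) (K.X n)) ∧ QuasiIso q ∧ ∀ n : ℤ, Epi (q.f n) :=
      exists_kflat_flat_resolution X.sheaf (DerivedCategory.Q.objPreimage E)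
    have hqi : IsIso (DerivedCategory.Q.map q) := by
      rw [DerivedCategory.isIso_Q_map_iff_quasiIso]; exact hq
    have eK : DCoh.toD X K ≅ E :=
      asIso (DerivedCategory.Q.map q) ≪≫ DerivedCategory.Q.objObjPreimageIso E
    have h' : ∀ (G : X.Modules), G.IsQuasicoherent → ∀ [DCoh.HasLTensorMod G],
        IsZero (DCoh.HD ((DCoh.LTensorMod G).obj (DCoh.toD X K)) i) := fun G hG _ =>
      IsZero.of_iso (h G hG i hi)
        ((DerivedCategory.homologyFunctor _ i).mapIso ((DCoh.LTensorMod G).mapIso eK))
    have key : IsZero (((Ttw F).obj K).homology i) := by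
      apply isZero_homology_of_forall_stalk
      intro x
      exact IsZero.of_iso (isZero_homology_TtwR_stalk K hK i h' x ((stalkFun x).obj F))
        ((HomologicalComplex.homologyFunctor _ _ i).mapIso (stalkTtwIso x F K))
    exact IsZero.of_iso key
      ((DerivedCategory.homologyFunctor _ i).mapIso ((DCoh.LTensorMod F).mapIso eK.symm) ≪≫
        HDltmIso F K hK i)

end Groth.Agent.Lib.H6xTorQc
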