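import Mathlib
import Groth.Agent.Lib.H6xTorQc
import Groth.Agent.Lib.H6xSuppPush
import Groth.Agent.Lib.Helper1TorO
import Groth.Agent.Lib.Helper1CI7
import Groth.Agent.Lib.Helper1LT
set_option backward.isDefEq.respectTransparency.types false

/-!
# Flat amplitude is stalkwise (helper6)
-/

set_option autoImplicit false
set_option linter.style.haveILetI false

universe u

open CategoryTheory CategoryTheory.Limits AlgebraicGeometry HomologicalComplex TopologicalSpace
  Opposite MonoidalCategory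

attribute [local instance] HasDerivedCategory.standard

namespace Groth.Agent.Lib.H6xFlatAmpStalk

open Groth.Agent.Lib.Helper1.BKF Groth.Agent.Lib.Helper1.CI Groth.Agent.Lib.Helper1.Sky
  Groth.Agent.Lib.Helper1.KBC Groth.Agent.Lib.H6xHasLTens Groth.Agent.Lib.H6xTorQc
  Groth.Agent.Lib.Helper1.Tor Groth.Agent.Lib.Helper1.LDer

variable {X : Scheme.{u}}

/-- the stalk functor on derived categories carries isomorphic objects to isomorphic objects -/
theorem nonempty_Q_stalkC_iso (x : X) (E F : CochainComplex X.Modules ℤ)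
    (e : DCoh.toD X E ≅ DCoh.toD X F) :
    Nonempty (DerivedCategory.Q.obj ((stalkC x).obj E) ≅ DerivedCategory.Q.obj ((stalkC x).obj F)) :=
  ⟨((stalkFun x).mapDerivedCategoryFactors.app E).symm ≪≫
    (stalkFun x).mapDerivedCategory.mapIso e ≪≫ (stalkFun x).mapDerivedCategoryFactors.app F⟩

/-- (⇒) -/
theorem hasTorAmp_stalk_of_hasFlatAmplitudeIn (F : CochainComplex X.Modules ℤ) (a b : ℤ)
    (h : DCoh.HasFlatAmplitudeIn a b (DCoh.toD X F)) (x : X) :
    DRing.HasTorAmplitudeIn (Ox x) a b (DerivedCategory.Q.obj ((stalkC x).obj F)) := by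
  obtain ⟨E, hE, hfl, ⟨e⟩⟩ := h
  obtain ⟨e'⟩ := nonempty_Q_stalkC_iso x E F e
  refine ⟨(stalkC x).obj E, fun i hi => (stalkFun x).map_isZero (hE i hi), fun i => ?_, ⟨e'⟩⟩
  exact hfl i x

/-- (⇐), tor form -/
theorem hasTorAmplitudeIn_of_stalk (F : CochainComplex X.Modules ℤ) (a b : ℤ)
    (h : ∀ x : X, DRing.HasTorAmplitudeIn (Ox x) a b
      (DerivedCategory.Q.obj ((stalkC x).obj F))) :
    DCoh.HasTorAmplitudeIn a b (DCoh.toD X F) := by
  intro G _ i hi
  obtain ⟨K, q, hK, -, hq, -⟩ : ∃ (K : CochainComplex X.Modules ℤ)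
      (q : K ⟶ F), DCoh.IsKFlat K ∧
      (∀ n : ℤ, ModSite.IsFlat (O := X.sheaf) (K.X n)) ∧ QuasiIso q ∧ ∀ n : ℤ, Epi (q.f n) :=
    exists_kflat_flat_resolution X.sheaf F
  have hqi : IsIso (DerivedCategory.Q.map q) := by
    rw [DerivedCategory.isIso_Q_map_iff_quasiIso]; exact hq
  have eK : DCoh.toD X K ≅ DCoh.toD X F := asIso (DerivedCategory.Q.map q)
  have key : IsZero (((Ttw G).obj K).homology i) := by
    apply isZero_homology_of_forall_stalk
    intro x
    have hKx : RKFlat ((stalkC x).obj K) := rKFlat_stalk_of_isKFlat x K hK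
    have hKx' : Groth.Agent.Lib.Helper1.KF.KFlat ((stalkC x).obj K) := fun L hL => hKx L hL
    obtain ⟨e'⟩ := nonempty_Q_stalkC_iso x K F eK
    obtain ⟨E, hE, hEf, ⟨e''⟩⟩ := hasTorAmp_of_iso e'.symm (h x)
    have h2 : TorVan ((stalkC x).obj K) a b :=
      Groth.Agent.Lib.Helper1.TorO.torVan_of_iso_kflat _ E hKx' a b hE hEf e''
    have h3 := h2 ((stalkFun x).obj G) i hi
    rw [← exactAt_tCx_iff, exactAt_iff_isZero_homology] at h3
    exact IsZero.of_iso h3 ((HomologicalComplex.homologyFunctor _ _ i).mapIso (stalkTtwIso x G K))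
  exact IsZero.of_iso key
    ((DerivedCategory.homologyFunctor _ i).mapIso ((DCoh.LTensorMod G).mapIso eK.symm) ≪≫
      HDltmIso G K hK i)

open ZeroObject in
/-- (⇐), flat form -/
theorem hasFlatAmplitudeIn_of_stalk (F : CochainComplex X.Modules ℤ) (a b : ℤ)
    (h : ∀ x : X, DRing.HasTorAmplitudeIn (Ox x) a b
      (DerivedCategory.Q.obj ((stalkC x).obj F))) :
    DCoh.HasFlatAmplitudeIn a b (DCoh.toD X F) := by
  by_cases hab : a ≤ b
  · exact hasFlatAmplitudeIn_of_hasTorAmplitudeIn _ a b hab (fun G => hasLTensorMod G)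
      (hasTorAmplitudeIn_of_stalk F a b h)
  · have hac : Acyc F := by
      apply acyc_of_forall_acyc_stalk
      intro x n
      obtain ⟨E, hE, -, ⟨e⟩⟩ := h x
      have h1 : IsZero (E.homology n) :=
        Groth.Agent.Lib.Helper1.CI.isZero_homology_of_isZero_X E n (hE n (by omega))
      exact IsZero.of_iso h1
        (((DerivedCategory.homologyFunctorFactors _ n).app _).symm ≪≫
          (DerivedCategory.homologyFunctor _ n).mapIso e.symm ≪≫
          (DerivedCategory.homologyFunctorFactors _ n).app E)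
    have hz : IsZero (DCoh.toD X F) := Groth.Agent.Lib.H6xSuppPush.isZero_Q_obj_of_acyc F hac
    refine ⟨(0 : CochainComplex X.Modules ℤ), fun i _ =>
      (HomologicalComplex.eval X.Modules (ComplexShape.up ℤ) i).map_isZero (isZero_zero _),
      fun i => ?_, ⟨IsZero.iso (DerivedCategory.Q.map_isZero (isZero_zero _)) hz⟩⟩
    exact Groth.Agent.Lib.Helper1.StalkTensor.isFlat_of_modSite_isFlat _
      (isFlat_of_isZero X.sheaf _
        ((HomologicalComplex.eval X.Modules (ComplexShape.up ℤ) i).map_isZero (isZero_zero _)))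

/-- restriction of scalars along the identity, on complexes of stalks -/
theorem hasTorAmp_restrictScalars_id_iff (x : X) (F : CochainComplex X.Modules ℤ) (a b : ℤ)
    (g : X.presheaf.stalk x ⟶ X.presheaf.stalk x) (hg : g = 𝟙 _) :
    DRing.HasTorAmplitudeIn (X.presheaf.stalk x) a b
      (DRing.toD (((DerSch.stalkFunctor X x ⋙ ModuleCat.restrictScalars g.hom).mapHomologicalComplex
        (ComplexShape.up ℤ)).obj F)) ↔
    DRing.HasTorAmplitudeIn (Ox x) a b (DerivedCategory.Q.obj ((stalkC x).obj F)) := by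
  subst hg
  let e0 : DerSch.stalkFunctor X x ⋙ ModuleCat.restrictScalars
      (𝟙 (X.presheaf.stalk x) : X.presheaf.stalk x ⟶ X.presheaf.stalk x).hom ≅ stalkFun x :=
    Functor.isoWhiskerLeft _ (ModuleCat.restrictScalarsId' _ rfl) ≪≫ Functor.rightUnitor _ ≪≫
      stalkFunctorIso x
  let e1 := (NatIso.mapHomologicalComplex e0 (ComplexShape.up ℤ)).app F
  exact ⟨fun h => hasTorAmp_of_iso (DerivedCategory.Q.mapIso e1) h,
    fun h => hasTorAmp_of_iso (DerivedCategory.Q.mapIso e1).symm h⟩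

/-- S6200 -/
theorem main (F : CochainComplex X.Modules ℤ) (a b : ℤ) :
    DCoh.HasFlatAmplitudeIn a b (DCoh.toD X F) ↔ DerSch.HasTorAmplitude (𝟙 X) a b F := by
  have key : ∀ x : X, DerSch.HasTorAmplitudeAt (𝟙 X) a b F x ↔
      DRing.HasTorAmplitudeIn (Ox x) a b (DerivedCategory.Q.obj ((stalkC x).obj F)) := fun x =>
    hasTorAmp_restrictScalars_id_iff x F a b ((𝟙 X : X ⟶ X).stalkMap x)
      (Scheme.Hom.stalkMap_id X x)
  constructor
  · intro h x
    exact (key x).2 (hasTorAmp_stalk_of_hasFlatAmplitudeIn F a b h x)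
  · intro h
    exact hasFlatAmplitudeIn_of_stalk F a b (fun x => (key x).1 (h x))

end Groth.Agent.Lib.H6xFlatAmpStalk
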