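import Mathlib
import Groth.Prelude.Def_PerfD
import Groth.Agent.Lib.Helper2FPAff
import Groth.Agent.Lib.Helper20LocFree
import Groth.Agent.Lib.R2H2PullLF
import Groth.Agent.S9498
import Groth.Agent.S2374
set_option backward.isDefEq.respectTransparency.types false

/-!
# Euler characteristic of a strictly perfect complex on the spectrum of a field (helper6)
-/

set_option autoImplicit false
set_option linter.style.haveILetI false

universe u

open CategoryTheory CategoryTheory.Limits AlgebraicGeometry TopologicalSpace Opposite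

attribute [local instance] HasDerivedCategory.standard

namespace Groth.Agent.Lib.H6xEulerPt

variable (R : CommRingCat.{u})

/-- ranks of global sections over `Γ(Spec R, ⊤)` versus over `R` -/
theorem finrank_Γtop_eq (M : (Spec R).Modules) :
    Module.finrank (Coh.Γtop (Spec R)) (M.val.obj (op ⊤)) =
      Module.finrank R ((moduleSpecΓFunctor (R := R)).obj M) := by
  obtain ⟨ρ, hρ, e, he⟩ := Groth.Agent.Lib.Helper2.FPAff.exists_semilinear_Γtop R M
  have h := rank_eq_of_equiv_equiv ρ e hρ he
  unfold Module.finrank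
  rw [h]
  rfl

instance additive_moduleSpecΓFunctor' : (moduleSpecΓFunctor (R := R)).Additive :=
  (tilde.adjunction (R := R)).right_adjoint_additive

theorem finrank_Γ_freeMod (n : ℕ) [Nontrivial R] :
    Module.finrank R ((moduleSpecΓFunctor (R := R)).obj (FlatMod.freeMod (Spec R) n)) = n := by
  let N : ModuleCat.{u} R := ModuleCat.of R (Fin n →₀ R)
  have e1 : tilde N ≅ FlatMod.freeMod (Spec R) n :=
    Groth.Agent.Lib.Helper20.LocFree.tildeFreeMod N (Finsupp.basisSingleOne)
  have e2 : N ≅ (moduleSpecΓFunctor (R := R)).obj (tilde N) :=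
    (tilde.toTildeΓNatIso (R := R)).app N
  have e3 : N ≅ (moduleSpecΓFunctor (R := R)).obj (FlatMod.freeMod (Spec R) n) :=
    e2 ≪≫ (moduleSpecΓFunctor (R := R)).mapIso e1
  rw [← e3.toLinearEquiv.finrank_eq]
  change Module.finrank R (Fin n →₀ R) = n
  simp

/-- rank of the `i`-th cohomology of `K ≅ Q C` on `Spec R` in terms of the complex of global sections -/
theorem finrank_HD_eq (C : CochainComplex (Spec R).Modules ℤ)
    (hC : ∀ i, (C.X i).IsQuasicoherent) (K : DCoh.D (Spec R)) (e : K ≅ DCoh.toD (Spec R) C) (i : ℤ) :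
    Module.finrank (Coh.Γtop (Spec R)) ((DCoh.HD K i).val.obj (op ⊤)) =
      Module.finrank R ((((moduleSpecΓFunctor (R := R)).mapHomologicalComplex
        (ComplexShape.up ℤ)).obj C).homology i) := by
  haveI := (Groth.Agent.S9498.aux R).1
  haveI := (Groth.Agent.S9498.aux R).2
  have hiso : ∀ i, IsIso (C.X i).fromTildeΓ := fun i =>
    haveI := hC i
    Scheme.Modules.isIso_fromTildeΓ_of_isQuasicoherent (C.X i)
  set L : CochainComplex (ModuleCat.{u} R) ℤ :=
    ((moduleSpecΓFunctor (R := R)).mapHomologicalComplex (ComplexShape.up ℤ)).obj C with hL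
  let eL : ((tilde.functor R).mapHomologicalComplex (ComplexShape.up ℤ)).obj L ≅ C :=
    HomologicalComplex.Hom.isoOfComponents (fun i => @asIso _ _ _ _ (C.X i).fromTildeΓ (hiso i))
      (fun i j _ => ((Scheme.Modules.fromTildeΓNatTrans (R := R)).naturality (C.d i j)).symm)
  have e1 : DCoh.HD K i ≅ C.homology i :=
    (DerivedCategory.homologyFunctor (Spec R).Modules i).mapIso e ≪≫
      (DerivedCategory.homologyFunctorFactors (Spec R).Modules i).app C
  have e2 : C.homology i ≅
      (((tilde.functor R).mapHomologicalComplex (ComplexShape.up ℤ)).obj L).homology i :=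
    (HomologicalComplex.homologyFunctor _ _ i).mapIso eL.symm
  have e3 : (((tilde.functor R).mapHomologicalComplex (ComplexShape.up ℤ)).obj L).homology i ≅
      (tilde.functor R).obj (L.homology i) := (L.sc i).mapHomologyIso (tilde.functor R)
  have e4 : L.homology i ≅ (moduleSpecΓFunctor (R := R)).obj (tilde (L.homology i)) :=
    (tilde.toTildeΓNatIso (R := R)).app (L.homology i)
  have e5 : L.homology i ≅ (moduleSpecΓFunctor (R := R)).obj (DCoh.HD K i) :=
    e4 ≪≫ (moduleSpecΓFunctor (R := R)).mapIso (e1 ≪≫ e2 ≪≫ e3).symm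
  rw [finrank_Γtop_eq]
  exact e5.toLinearEquiv.finrank_eq.symm

/-- the Euler characteristic of a strictly perfect complex with free terms on the spectrum of a
field -/
theorem eulerChar_spec_field (hF : IsField R) (C : CochainComplex (Spec R).Modules ℤ)
    (hC : DCoh.IsStrictlyPerfect C) (a b : ℤ) (hv : DCoh.VanishesOutside C a b) (n : ℤ → ℕ)
    (hn : ∀ j ∈ Finset.Icc a b, Nonempty (C.X j ≅ FlatMod.freeMod (Spec R) (n j)))
    (K : DCoh.D (Spec R)) (e : K ≅ DCoh.toD (Spec R) C) :
    (finsum fun i : ℤ => ((i.negOnePow : ℤˣ) : ℤ) *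
      (Module.finrank (Coh.Γtop (Spec R)) ((DCoh.HD K i).val.obj (op ⊤)) : ℤ)) =
      ∑ j ∈ Finset.Icc a b, ((j.negOnePow : ℤˣ) : ℤ) * (n j : ℤ) := by
  letI : Field R := hF.toField
  have hqc : ∀ i, (C.X i).IsQuasicoherent := fun i =>
    Groth.Agent.Lib.R2H2.PullLF.isQuasicoherent_of_isFinLocFree _ (hC.2 i)
  set L : CochainComplex (ModuleCat.{u} R) ℤ :=
    ((moduleSpecΓFunctor (R := R)).mapHomologicalComplex (ComplexShape.up ℤ)).obj C with hL
  have hrk : ∀ i, Module.finrank (Coh.Γtop (Spec R)) ((DCoh.HD K i).val.obj (op ⊤)) =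
      Module.finrank R (L.homology i) := fun i => finrank_HD_eq R C hqc K e i
  have hLz : ∀ i, i ∉ Finset.Icc a b → IsZero (L.X i) := fun i hi => by
    refine (moduleSpecΓFunctor (R := R)).map_isZero (hv i ?_)
    rw [Finset.mem_Icc] at hi
    omega
  have hLn : ∀ j ∈ Finset.Icc a b, Module.finrank R (L.X j) = n j := fun j hj => by
    obtain ⟨ej⟩ := hn j hj
    have e' : L.X j ≅ (moduleSpecΓFunctor (R := R)).obj (FlatMod.freeMod (Spec R) (n j)) :=
      (moduleSpecΓFunctor (R := R)).mapIso ej
    rw [← finrank_Γ_freeMod R (n j)]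
    exact e'.toLinearEquiv.finrank_eq
  have hLfin : ∀ i, Module.Finite R (L.X i) := fun i => by
    by_cases hi : i ∈ Finset.Icc a b
    · obtain ⟨ej⟩ := hn i hi
      let N : ModuleCat.{u} R := ModuleCat.of R (Fin (n i) →₀ R)
      have e1 : tilde N ≅ FlatMod.freeMod (Spec R) (n i) :=
        Groth.Agent.Lib.Helper20.LocFree.tildeFreeMod N (Finsupp.basisSingleOne)
      have e2 : N ≅ (moduleSpecΓFunctor (R := R)).obj (tilde N) :=
        (tilde.toTildeΓNatIso (R := R)).app N
      have e3 : N ≅ L.X i :=
        e2 ≪≫ (moduleSpecΓFunctor (R := R)).mapIso (e1 ≪≫ ej.symm)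
      haveI : Module.Finite R N := by
        change Module.Finite R (Fin (n i) →₀ R)
        infer_instance
      exact Module.Finite.equiv e3.toLinearEquiv
    · haveI : Subsingleton (L.X i) := ModuleCat.subsingleton_of_isZero (hLz i hi)
      infer_instance
  have hfl : ∀ i, IsFiniteLength R (L.X i) := fun i => by
    haveI := hLfin i
    rw [← Module.length_ne_top_iff, Module.length_eq_finrank]
    exact ENat.natCast_ne_top _
  have hlen : ∀ (M : Type u) [AddCommGroup M] [Module R M],
      ((Module.length R M).toNat : ℤ) = (Module.finrank R M : ℤ) := fun M _ _ => by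
    rw [Module.length_eq_rank]
    rfl
  have hmain := Groth.Agent.S2374.result L (Finset.Icc a b) hLz hfl
  have hHz : ∀ i, i ∉ Finset.Icc a b → Module.finrank R (L.homology i) = 0 := fun i hi => by
    have hz : IsZero (L.homology i) :=
      ShortComplex.isZero_homology_of_isZero_X₂ _ (hLz i hi)
    haveI : Subsingleton (L.homology i) := ModuleCat.subsingleton_of_isZero hz
    exact Module.finrank_zero_of_subsingleton
  rw [finsum_eq_sum_of_support_subset (s := Finset.Icc a b)]
  · have h1 : ∀ i, ((Module.length R (L.X i)).toNat : ℤ) = (Module.finrank R (L.X i) : ℤ) :=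
      fun i => hlen _
    have h2 : ∀ i, ((Module.length R (L.homology i)).toNat : ℤ) =
        (Module.finrank R (L.homology i) : ℤ) := fun i => hlen _
    simp only [h1, h2] at hmain
    rw [Finset.sum_congr rfl (fun i _ => by rw [hrk i]), ← hmain]
    exact Finset.sum_congr rfl (fun j hj => by rw [hLn j hj])
  · intro i hi
    by_contra hi'
    apply hi
    simp only [hrk i, hHz i hi']
    simp

end Groth.Agent.Lib.H6xEulerPt
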