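import Mathlib
import Groth.Agent.Lib.H6xEulerPtA
import Groth.Agent.Lib.Helper20OmegaAff
set_option backward.isDefEq.respectTransparency.types false

/-!
# Ranks of the cohomology of `tilde` of a complex and of its pullback (helper6)
-/

set_option autoImplicit false
set_option linter.style.haveILetI false

universe u

open CategoryTheory CategoryTheory.Limits AlgebraicGeometry TopologicalSpace Opposite

attribute [local instance] HasDerivedCategory.standard

namespace Groth.Agent.Lib.H6xBettiUsc

open Groth.Agent.Lib.H6xEulerPt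

variable (R : CommRingCat.{u})

/-- rank of the `i`-th cohomology sheaf of `K ≅ Q (tilde N)` on `Spec R` -/
theorem finrank_HD_tilde (N : CochainComplex (ModuleCat.{u} R) ℤ) (K : DCoh.D (Spec R))
    (e : K ≅ DCoh.toD (Spec R) (((tilde.functor R).mapHomologicalComplex (ComplexShape.up ℤ)).obj N))
    (i : ℤ) :
    Module.finrank (Coh.Γtop (Spec R)) ((DCoh.HD K i).val.obj (op ⊤)) =
      Module.finrank R (N.homology i) := by
  haveI := (Groth.Agent.S9498.aux R).1
  haveI := (Groth.Agent.S9498.aux R).2
  set C := ((tilde.functor R).mapHomologicalComplex (ComplexShape.up ℤ)).obj N with hC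
  have e1 : DCoh.HD K i ≅ C.homology i :=
    (DerivedCategory.homologyFunctor (Spec R).Modules i).mapIso e ≪≫
      (DerivedCategory.homologyFunctorFactors (Spec R).Modules i).app C
  have e3 : C.homology i ≅ (tilde.functor R).obj (N.homology i) :=
    (N.sc i).mapHomologyIso (tilde.functor R)
  have e4 : N.homology i ≅ (moduleSpecΓFunctor (R := R)).obj (tilde (N.homology i)) :=
    (tilde.toTildeΓNatIso (R := R)).app (N.homology i)
  have e5 : N.homology i ≅ (moduleSpecΓFunctor (R := R)).obj (DCoh.HD K i) :=
    e4 ≪≫ (moduleSpecΓFunctor (R := R)).mapIso (e1 ≪≫ e3).symm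
  rw [finrank_Γtop_eq]
  exact e5.toLinearEquiv.finrank_eq.symm

variable {R}

/-- the pullback of `tilde` of a complex along `Spec.map ψ` is `tilde` of the base change -/
noncomputable def pullCTildeIso {S : CommRingCat.{u}} (ψ : R ⟶ S)
    (N : CochainComplex (ModuleCat.{u} R) ℤ) :
    ((Scheme.Modules.pullback (Spec.map ψ)).mapHomologicalComplex (ComplexShape.up ℤ)).obj
        (((tilde.functor R).mapHomologicalComplex (ComplexShape.up ℤ)).obj N) ≅
      ((tilde.functor S).mapHomologicalComplex (ComplexShape.up ℤ)).obj
        (((ModuleCat.extendScalars ψ.hom).mapHomologicalComplex (ComplexShape.up ℤ)).obj N) :=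
  HomologicalComplex.Hom.isoOfComponents
    (fun i => (Groth.Agent.Lib.Helper20.OmegaAff.pullbackTildeIso ψ).app (N.X i))
    (fun i j _ => ((Groth.Agent.Lib.Helper20.OmegaAff.pullbackTildeIso ψ).hom.naturality
      (N.d i j)).symm)

end Groth.Agent.Lib.H6xBettiUsc
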