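import Mathlib
import Groth.Prelude.Def_CxOX
import Groth.Agent.Lib.H6xBettiUscB
import Groth.Agent.Lib.H6xTildeE
import Groth.Agent.Lib.Helper1KF8
import Groth.Agent.Lib.Helper1KF9
import Groth.Agent.Lib.Helper1KBC5
import Groth.Agent.Lib.Helper1KBC6
import Groth.Agent.S9498
import Groth.Agent.Lib.H6xRpushQcA
set_option backward.isDefEq.respectTransparency.types false

/-!
# The derived pullback preserves `D_QCoh`: the affine case (helper6)
-/

set_option autoImplicit false
set_option linter.style.haveILetI false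

universe u

open CategoryTheory CategoryTheory.Limits AlgebraicGeometry TopologicalSpace Opposite

attribute [local instance] HasDerivedCategory.standard

namespace Groth.Agent.Lib.H6xLpullQc

open Groth.Agent.Lib.Helper1.Sky Groth.Agent.Lib.Helper1.KBC Groth.Agent.Lib.Helper1.KF
  Groth.Agent.Lib.H6xBettiUsc

variable {A B : CommRingCat.{u}} (φ : A ⟶ B)

/-- `Q` of `tilde` of a complex has quasi-coherent cohomology -/
theorem isQCohD_Q_tilde (N : CochainComplex (ModuleCat.{u} B) ℤ) :
    DCoh.IsQCohD (DerivedCategory.Q.obj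
      (((tilde.functor B).mapHomologicalComplex (ComplexShape.up ℤ)).obj N)) := by
  haveI := (Groth.Agent.S9498.aux B).1
  refine ((Groth.Agent.Lib.H6xTilde.main B).2.2 _).2 ⟨DerivedCategory.Q.obj N, ⟨?_⟩⟩
  exact (tilde.functor B).mapDerivedCategoryFactors.app N

theorem isQCohD_lpull_spec [DCoh.HasLpull (Spec.map φ)] (K : DCoh.D (Spec A))
    (hK : DCoh.IsQCohD K) : DCoh.IsQCohD ((DCoh.Lpull (Spec.map φ)).obj K) := by
  haveI := (Groth.Agent.S9498.aux A).1
  obtain ⟨M, ⟨eM⟩⟩ := ((Groth.Agent.Lib.H6xTilde.main A).2.2 K).1 hK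
  let M₀ : CochainComplex (ModuleCat.{u} A) ℤ := DerivedCategory.Q.objPreimage M
  let e₀ : DerivedCategory.Q.obj M₀ ≅ M := DerivedCategory.Q.objObjPreimageIso M
  obtain ⟨P, π, hP, -, hπ, -⟩ := exists_kprojective_resolution M₀
  haveI : IsIso (DerivedCategory.Q.map π) := by
    rw [DerivedCategory.isIso_Q_map_iff_quasiIso]; exact hπ
  have h1 : KFlat P := kflat_of_isKProjective P
  have h2 : RKFlat P := fun M hM => h1 M hM
  have h3 : DCoh.IsKFlat (((tilde.functor A).mapHomologicalComplex (ComplexShape.up ℤ)).obj P) :=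
    isKFlat_tilde A P h2
  let e1 : DerivedCategory.Q.obj
      (((tilde.functor A).mapHomologicalComplex (ComplexShape.up ℤ)).obj P) ≅ K :=
    ((tilde.functor A).mapDerivedCategoryFactors.app P).symm ≪≫
      (DCoh.tildeD A).mapIso (asIso (DerivedCategory.Q.map π) ≪≫ e₀) ≪≫ eM
  let e2 : (DCoh.Lpull (Spec.map φ)).obj K ≅ DerivedCategory.Q.obj
      (((tilde.functor B).mapHomologicalComplex (ComplexShape.up ℤ)).obj
        (((ModuleCat.extendScalars φ.hom).mapHomologicalComplex (ComplexShape.up ℤ)).obj P)) :=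
    (DCoh.Lpull (Spec.map φ)).mapIso e1.symm ≪≫ lpullIsoK (Spec.map φ) _ h3 ≪≫
      DerivedCategory.Q.mapIso (pullCTildeIso φ P)
  exact Groth.Agent.Lib.H6xRpushQc.isQCohD_of_iso e2.symm (isQCohD_Q_tilde _)

end Groth.Agent.Lib.H6xLpullQc
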