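import Mathlib
import Groth.Agent.Lib.H6xLpullQcA
set_option backward.isDefEq.respectTransparency.types false

/-!
# Complexes of quasi-coherent modules on an affine scheme (helper6)

* `isQuasicoherent_sigmaObj`: coproducts of quasi-coherent modules on `Spec R` are quasi-coherent.
* `nonempty_tilde_iso_of_qcoh_terms`: a complex with quasi-coherent terms on `Spec R` is the complex
  associated to a complex of `R`-modules.
* `isQCohD_Q_of_qcoh_terms`.
-/

set_option autoImplicit false
set_option linter.style.haveILetI false

universe u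

open CategoryTheory CategoryTheory.Limits AlgebraicGeometry TopologicalSpace Opposite

attribute [local instance] HasDerivedCategory.standard

namespace Groth.Agent.Lib.H6xLTensQc

variable (R : CommRingCat.{u})

/-- coproducts of quasi-coherent modules on an affine scheme are quasi-coherent -/
theorem isQuasicoherent_sigmaObj {J : Type} (F : J → (Spec R).Modules) [HasCoproduct F]
    (h : ∀ j, (F j).IsQuasicoherent) : (∐ F).IsQuasicoherent := by
  have h' : ∀ j, (tilde.functor R).essImage (F j) := fun j => by
    rw [essImage_tilde]; exact h j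
  choose M hM using h'
  have e : ∀ j, (tilde.functor R).obj (M j) ≅ F j := fun j => (hM j).some
  have e1 : (∐ fun j => (tilde.functor R).obj (M j)) ≅ ∐ F := Sigma.mapIso e
  have e2 : (tilde.functor R).obj (∐ M) ≅ ∐ fun j => (tilde.functor R).obj (M j) :=
    PreservesCoproduct.iso (tilde.functor R) M
  exact (SheafOfModules.isQuasicoherent.{u} _).prop_of_iso (e2 ≪≫ e1)
    (inferInstanceAs ((tilde.functor R).obj (∐ M)).IsQuasicoherent)

/-- a complex of quasi-coherent modules on an affine scheme comes from a complex of modules -/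
theorem nonempty_tilde_iso_of_qcoh_terms (C : CochainComplex (Spec R).Modules ℤ)
    (h : ∀ n, (C.X n).IsQuasicoherent) :
    ∃ M : CochainComplex (ModuleCat.{u} R) ℤ,
      Nonempty (((tilde.functor R).mapHomologicalComplex (ComplexShape.up ℤ)).obj M ≅ C) := by
  refine ⟨((moduleSpecΓFunctor (R := R)).mapHomologicalComplex (ComplexShape.up ℤ)).obj C, ⟨?_⟩⟩
  have hi : ∀ n, IsIso ((Scheme.Modules.fromTildeΓNatTrans (R := R)).app (C.X n)) := fun n =>
    (isQuasicoherent_iff_isIso_fromTildeΓ (R := R) (C.X n)).1 (h n)
  exact HomologicalComplex.Hom.isoOfComponents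
    (fun n => @asIso _ _ _ _ ((Scheme.Modules.fromTildeΓNatTrans (R := R)).app (C.X n)) (hi n))
    (fun i j _ => ((Scheme.Modules.fromTildeΓNatTrans (R := R)).naturality (C.d i j)).symm)

/-- a complex of quasi-coherent modules on an affine scheme has quasi-coherent cohomology -/
theorem isQCohD_Q_of_qcoh_terms (C : CochainComplex (Spec R).Modules ℤ)
    (h : ∀ n, (C.X n).IsQuasicoherent) : DCoh.IsQCohD (DerivedCategory.Q.obj C) := by
  obtain ⟨M, ⟨e⟩⟩ := nonempty_tilde_iso_of_qcoh_terms R C h
  exact Groth.Agent.Lib.H6xRpushQc.isQCohD_of_iso (DerivedCategory.Q.mapIso e)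
    (Groth.Agent.Lib.H6xLpullQc.isQCohD_Q_tilde M)

end Groth.Agent.Lib.H6xLTensQc
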