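import Mathlib
import Groth.Prelude.Def_ega3
import Groth.Agent.S2380
set_option backward.isDefEq.respectTransparency.types false

/-!
# Ring level: fibre ranks of the cohomology of a complex of finite projective modules (helper6)
-/

set_option autoImplicit false
set_option linter.style.haveILetI false

universe u

open CategoryTheory TensorProduct Topology

namespace Groth.Agent.Lib.H6xBettiUsc

open Groth.Agent.S2380

variable {A : Type u} [CommRing A]

/-- the rank after base change to a field `K` depends only on the kernel of `A → K` -/
theorem finrank_tensor_eq_fd (K : Type u) [Field K] [Algebra A K] (p : PrimeSpectrum A)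
    (hp : p.asIdeal = RingHom.ker (algebraMap A K)) (M : Type u) [AddCommGroup M] [Module A M] :
    Module.finrank K (K ⊗[A] M) = fd M p := by
  have h1 : p.asIdeal ≤ RingHom.ker (algebraMap A K) := hp.le
  have h2 : p.asIdeal.primeCompl ≤ (IsUnit.submonoid K).comap (algebraMap A K) := by
    intro a ha
    change IsUnit (algebraMap A K a)
    rw [isUnit_iff_ne_zero]
    intro h0
    apply ha
    change a ∈ p.asIdeal
    rw [hp]
    exact h0
  let σ : p.asIdeal.ResidueField →+* K := Ideal.ResidueField.lift p.asIdeal (algebraMap A K) h1 h2
  letI : Algebra p.asIdeal.ResidueField K := σ.toAlgebra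
  haveI : IsScalarTower A p.asIdeal.ResidueField K := IsScalarTower.of_algebraMap_eq (fun a =>
    (Ideal.ResidueField.lift_algebraMap p.asIdeal (algebraMap A K) h1 h2 a).symm)
  have e : K ⊗[p.asIdeal.ResidueField] (p.asIdeal.ResidueField ⊗[A] M) ≃ₗ[K] K ⊗[A] M :=
    TensorProduct.AlgebraTensorModule.cancelBaseChange A p.asIdeal.ResidueField K K M
  rw [← e.finrank_eq, Module.finrank_baseChange]
  rfl

/-- the rank formula for the homology of the base change of a complex to a field -/
theorem finrank_homology_bc_add (K : Type u) [Field K] [Algebra A K] {ι : Type}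
    {c : ComplexShape ι} (P : HomologicalComplex (ModuleCat.{u} A) c)
    (hP : ∀ i, Module.Finite A (P.X i)) (i : ι) :
    Module.finrank K ((CohIII.bcCx (algebraMap A K) P).homology i) +
        Module.finrank K (K ⊗[A] P.X (c.next i)) =
      Module.finrank K (K ⊗[A] (P.X i ⧸ LinearMap.range (P.d (c.prev i) i).hom)) +
        Module.finrank K (K ⊗[A] (P.X (c.next i) ⧸ LinearMap.range (P.d i (c.next i)).hom)) := by
  have := hP i
  have := hP (c.next i)
  let S := (CohIII.bcCx (algebraMap A K) P).sc i
  have i2 : Module.Finite K S.X₂ := finite_extendScalars A K (P.X i)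
  have i3 : Module.Finite K S.X₃ := finite_extendScalars A K (P.X (c.next i))
  have key := finrank_homology_add S
  have h1 : Module.finrank K S.X₃ = Module.finrank K (K ⊗[A] P.X (c.next i)) :=
    finrank_extendScalars A K (P.X (c.next i))
  have h2 : Module.finrank K (S.X₂ ⧸ LinearMap.range S.f.hom) =
      Module.finrank K (K ⊗[A] (P.X i ⧸ LinearMap.range (P.d (c.prev i) i).hom)) :=
    finrank_coker_extendScalars A K (P.d (c.prev i) i)
  have h3 : Module.finrank K (S.X₃ ⧸ LinearMap.range S.g.hom) =
      Module.finrank K (K ⊗[A] (P.X (c.next i) ⧸ LinearMap.range (P.d i (c.next i)).hom)) :=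
    finrank_coker_extendScalars A K (P.d i (c.next i))
  rw [h1, h2, h3] at key
  exact key

/-- the rank of the homology of the base change to a field `K` is the `dRank` at the kernel -/
theorem finrank_homology_bc_eq_dRank (K : Type u) [Field K] [Algebra A K] (p : PrimeSpectrum A)
    (hp : p.asIdeal = RingHom.ker (algebraMap A K)) {ι : Type}
    {c : ComplexShape ι} (P : HomologicalComplex (ModuleCat.{u} A) c)
    (hP : ∀ i, Module.Finite A (P.X i)) (i : ι) :
    Module.finrank K ((CohIII.bcCx (algebraMap A K) P).homology i) = CohIII.dRank P i p := by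
  have h1 := finrank_homology_bc_add K P hP i
  have h2 := dRank_add P hP i p
  rw [finrank_tensor_eq_fd K p hp, finrank_tensor_eq_fd K p hp, finrank_tensor_eq_fd K p hp] at h1
  omega

theorem fd_eventually_eq_of_projective (M : Type u) [AddCommGroup M] [Module A M]
    [Module.Finite A M] [Module.Projective A M]
    (x0 : PrimeSpectrum A) : ∀ᶠ x in 𝓝 x0, fd M x = fd M x0 := by
  have : Module.FinitePresentation A M := Module.finitePresentation_of_projective A M
  have h := (Module.isLocallyConstant_rankAtStalk (R := A) (M := M)).eventually_eq x0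
  filter_upwards [h] with x hx
  have e1 : fd M x = Module.rankAtStalk M x := (Module.rankAtStalk_eq x).symm
  have e2 : fd M x0 = Module.rankAtStalk M x0 := (Module.rankAtStalk_eq x0).symm
  rw [e1, e2, hx]

/-- upper semicontinuity of the fibre ranks of the cohomology of a complex of finite projective
modules -/
theorem upperSemicontinuous_dRank {ι : Type} {c : ComplexShape ι}
    (P : HomologicalComplex (ModuleCat.{u} A) c)
    (hP : ∀ i, Module.Finite A (P.X i) ∧ Module.Projective A (P.X i)) (i : ι) :
    UpperSemicontinuous (CohIII.dRank P i) := by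
  intro x0 y hy
  have hfin : ∀ i, Module.Finite A (P.X i) := fun i => (hP i).1
  have := (hP (c.next i)).1
  have := (hP (c.next i)).2
  have := (hP i).1
  have h1 := fd_eventually_le (P.X i ⧸ LinearMap.range (P.d (c.prev i) i).hom) x0
  have h2 := fd_eventually_le (P.X (c.next i) ⧸ LinearMap.range (P.d i (c.next i)).hom) x0
  have h3 := fd_eventually_eq_of_projective (P.X (c.next i)) x0
  filter_upwards [h1, h2, h3] with x hx1 hx2 hx3
  have e := dRank_add P hfin i x
  have e0 := dRank_add P hfin i x0
  omega

end Groth.Agent.Lib.H6xBettiUsc
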