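import Mathlib
import Groth.Prelude.Def_CxOX
import Groth.Agent.Lib.H6xBettiUscA
import Groth.Agent.Lib.H6xBettiUscB
import Groth.Agent.Lib.H6xPerfAffC
import Groth.Agent.Lib.H6xPC3B
import Groth.Agent.Lib.Helper1Sky11
set_option backward.isDefEq.respectTransparency.types false

/-!
# Betti numbers of a pseudo-coherent object in an affine chart (helper6)
-/

set_option autoImplicit false
set_option linter.style.haveILetI false

universe u

open CategoryTheory CategoryTheory.Limits AlgebraicGeometry TopologicalSpace Opposite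

attribute [local instance] HasDerivedCategory.standard

namespace Groth.Agent.Lib.H6xBettiUsc

open Groth.Agent.Lib.Helper1.Sky Groth.Agent.Lib.H6xEulerPt Groth.Agent.Lib.H6xPC3

section openImm

variable {Z X : Scheme.{u}} (g : Z ⟶ X) [IsOpenImmersion g]

instance preservesFiniteLimits_pullback_of_isOpenImmersion :
    PreservesFiniteLimits (Scheme.Modules.pullback g) :=
  Limits.preservesFiniteLimits_of_natIso (Scheme.Modules.restrictFunctorIsoPullback g)

/-- restriction along an open immersion is the derived pullback (on objects) -/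
noncomputable def restrictDIsoLpull [DCoh.HasLpull g] (F₀ : CochainComplex X.Modules ℤ) :
    (DCoh.restrictD g).obj (DerivedCategory.Q.obj F₀) ≅
      (DCoh.Lpull g).obj (DerivedCategory.Q.obj F₀) :=
  (Scheme.Modules.restrictFunctor g).mapDerivedCategoryFactors.app F₀ ≪≫
    DerivedCategory.Q.mapIso ((NatIso.mapHomologicalComplex
      (Scheme.Modules.restrictFunctorIsoPullback g) (ComplexShape.up ℤ)).app F₀) ≪≫
    (lpullIsoOfExact g F₀).symm

end openImm

theorem finrank_Γtop_congr {R : CommRingCat.{u}} {M M' : (Spec R).Modules} (e : M ≅ M') :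
    Module.finrank (Coh.Γtop (Spec R)) (M.val.obj (op ⊤)) =
      Module.finrank (Coh.Γtop (Spec R)) (M'.val.obj (op ⊤)) := by
  rw [finrank_Γtop_eq, finrank_Γtop_eq]
  exact ((moduleSpecΓFunctor (R := R)).mapIso e).toLinearEquiv.finrank_eq

/-- in an affine chart in which `E` receives a map from a strictly perfect complex which is an
isomorphism on `H^i` for `i > m`, the Betti numbers `β_i`, `i > m`, are the fibre ranks of a complex
of finite projective modules -/
theorem exists_betti_eq_dRank (X : Scheme.{u}) (E : DCoh.D X) (A : CommRingCat.{u})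
    (g : Spec A ⟶ X) [IsOpenImmersion g] (m : ℤ) (hpc : PCGlobal m ((DCoh.restrictD g).obj E)) :
    ∃ (L : CochainComplex (ModuleCat.{u} A) ℤ),
      (∀ i, Module.Finite A (L.X i) ∧ Module.Projective A (L.X i)) ∧
      ∀ (i : ℤ), m < i → ∀ (p : Spec A) [DCoh.HasLpull (X.fromSpecResidueField (g p))],
        PerfD.betti E (g p) i = CohIII.dRank L i p := by
  obtain ⟨P, α, hP, h1, h2⟩ := hpc
  obtain ⟨L, a, b, -, hfp, ⟨eL⟩⟩ :=
    Groth.Agent.Lib.H6xPerfAff.exists_tilde_iso_of_isStrictlyPerfect A P hP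
  refine ⟨L, hfp, fun i hi p _ => ?_⟩
  have hrange : Set.range (X.fromSpecResidueField (g p)) ⊆ Set.range g := by
    rw [Scheme.range_fromSpecResidueField]
    rintro _ rfl
    exact ⟨_, rfl⟩
  obtain ⟨k, hfac⟩ : ∃ k : Spec (X.residueField (g p)) ⟶ Spec A,
      k ≫ g = X.fromSpecResidueField (g p) :=
    ⟨IsOpenImmersion.lift g (X.fromSpecResidueField (g p)) hrange, IsOpenImmersion.lift_fac _ _ _⟩
  obtain ⟨ψ, rfl⟩ : ∃ ψ : A ⟶ X.residueField (g p), k = Spec.map ψ :=
    ⟨Spec.preimage k, (Spec.map_preimage k).symm⟩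
  haveI : DCoh.HasLpull (Spec.map ψ) := hasLpull _
  haveI : DCoh.HasLpull g := hasLpull _
  haveI : DCoh.HasLpull (Spec.map ψ ≫ g) := hasLpull _
  obtain ⟨c1⟩ := nonempty_lpull_comp_iso (Spec.map ψ) g
  obtain ⟨c3⟩ := nonempty_lpull_congr hfac
  let F₀ : CochainComplex X.Modules ℤ := DerivedCategory.Q.objPreimage E
  let e₀ : DCoh.toD X F₀ ≅ E := DerivedCategory.Q.objObjPreimageIso E
  -- the pullback to the point through the chart
  let θ : (DCoh.Lpull (X.fromSpecResidueField (g p))).obj E ≅
      (DCoh.Lpull (Spec.map ψ)).obj ((DCoh.restrictD g).obj E) :=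
    (c3.app E).symm ≪≫ (c1.app E).symm ≪≫
      (DCoh.Lpull (Spec.map ψ)).mapIso ((DCoh.Lpull g).mapIso e₀.symm ≪≫
        (restrictDIsoLpull g F₀).symm ≪≫ (DCoh.restrictD g).mapIso e₀)
  have hβ : PropM m ((DCoh.Lpull (Spec.map ψ)).map α) :=
    propM_lpull_map (Spec.map ψ) m α ⟨h1, h2⟩
  haveI : IsIso ((DerivedCategory.homologyFunctor _ i).map ((DCoh.Lpull (Spec.map ψ)).map α)) :=
    hβ.1 i hi
  let N : CochainComplex (ModuleCat.{u} (X.residueField (g p))) ℤ :=
    ((ModuleCat.extendScalars ψ.hom).mapHomologicalComplex (ComplexShape.up ℤ)).obj L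
  let ι : (DCoh.Lpull (Spec.map ψ)).obj (DerivedCategory.Q.obj P) ≅
      DCoh.toD _ (((tilde.functor _).mapHomologicalComplex (ComplexShape.up ℤ)).obj N) :=
    lpullIso (Spec.map ψ) P (kffs_of_isStrictlyPerfect P hP) ≪≫ DerivedCategory.Q.mapIso
      ((pullC (Spec.map ψ)).mapIso eL.symm ≪≫ pullCTildeIso ψ L)
  have e1 : DCoh.HD ((DCoh.Lpull (X.fromSpecResidueField (g p))).obj E) i ≅
      DCoh.HD (DCoh.toD _ (((tilde.functor _).mapHomologicalComplex (ComplexShape.up ℤ)).obj N)) i :=
    (DerivedCategory.homologyFunctor _ i).mapIso θ ≪≫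
      (asIso ((DerivedCategory.homologyFunctor _ i).map ((DCoh.Lpull (Spec.map ψ)).map α))).symm ≪≫
      (DerivedCategory.homologyFunctor _ i).mapIso ι
  have hb : PerfD.betti E (g p) i =
      Module.finrank (X.residueField (g p)) (N.homology i) := by
    unfold PerfD.betti
    rw [finrank_Γtop_congr e1]
    exact finrank_HD_tilde _ N _ (Iso.refl _) i
  rw [hb]
  -- the kernel of `ψ` is `p`
  letI : Algebra A (X.residueField (g p)) := ψ.hom.toAlgebra
  refine finrank_homology_bc_eq_dRank (X.residueField (g p)) p ?_ L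
    (fun i => (hfp i).1) i
  let s : Spec (X.residueField (g p)) := (⟨⊥, Ideal.isPrime_bot⟩ : PrimeSpectrum (X.residueField (g p)))
  have h3 : (Spec.map ψ ≫ g) s = g p := by
    rw [hfac]; exact Scheme.fromSpecResidueField_apply (g p) s
  have h4 : (Spec.map ψ) s = p := g.isOpenEmbedding.injective h3
  rw [Spec.map_apply] at h4
  have h5 : p.asIdeal = Ideal.comap ψ.hom (⊥ : Ideal (X.residueField (g p))) :=
    (congrArg PrimeSpectrum.asIdeal h4).symm
  rw [h5]
  rfl

end Groth.Agent.Lib.H6xBettiUsc
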