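import Mathlib
import Groth.Agent.Lib.H6xLpullQcA
import Groth.Agent.Lib.H6xBettiUscC
import Groth.Agent.Lib.Helper23QCohLocal
set_option backward.isDefEq.respectTransparency.types false

/-!
# The derived pullback preserves `D_QCoh` (helper6)
-/

set_option autoImplicit false
set_option linter.style.haveILetI false

universe u

open CategoryTheory CategoryTheory.Limits AlgebraicGeometry TopologicalSpace Opposite

attribute [local instance] HasDerivedCategory.standard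

namespace Groth.Agent.Lib.H6xLpullQc

open Groth.Agent.Lib.Helper1.Sky Groth.Agent.Lib.H6xBettiUsc

/-- restriction along an open immersion is the derived pullback (on objects) -/
theorem nonempty_restrictD_iso_lpull {Z X : Scheme.{u}} (g : Z ⟶ X) [IsOpenImmersion g]
    [DCoh.HasLpull g] (K : DCoh.D X) :
    Nonempty ((DCoh.restrictD g).obj K ≅ (DCoh.Lpull g).obj K) := by
  let F₀ : CochainComplex X.Modules ℤ := DerivedCategory.Q.objPreimage K
  let e₀ : DCoh.toD X F₀ ≅ K := DerivedCategory.Q.objObjPreimageIso K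
  exact ⟨(DCoh.restrictD g).mapIso e₀.symm ≪≫ restrictDIsoLpull g F₀ ≪≫
    (DCoh.Lpull g).mapIso e₀⟩

/-- restriction of a derived pullback to an open of the source mapping into an open of the
target -/
theorem nonempty_restrictD_lpull_iso {Y X V U : Scheme.{u}} (f : Y ⟶ X) (jV : V ⟶ Y)
    (jU : U ⟶ X) [IsOpenImmersion jV] [IsOpenImmersion jU] (f' : V ⟶ U)
    (h : f' ≫ jU = jV ≫ f) [DCoh.HasLpull f] [DCoh.HasLpull f'] (K : DCoh.D X) :
    Nonempty ((DCoh.restrictD jV).obj ((DCoh.Lpull f).obj K) ≅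
      (DCoh.Lpull f').obj ((DCoh.restrictD jU).obj K)) := by
  haveI : DCoh.HasLpull jV := hasLpull _
  haveI : DCoh.HasLpull jU := hasLpull _
  haveI : DCoh.HasLpull (jV ≫ f) := hasLpull _
  haveI : DCoh.HasLpull (f' ≫ jU) := hasLpull _
  obtain ⟨c1⟩ := nonempty_lpull_comp_iso jV f
  obtain ⟨c2⟩ := nonempty_lpull_comp_iso f' jU
  obtain ⟨c3⟩ := nonempty_lpull_congr h
  obtain ⟨r1⟩ := nonempty_restrictD_iso_lpull jV ((DCoh.Lpull f).obj K)
  obtain ⟨r2⟩ := nonempty_restrictD_iso_lpull jU K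
  exact ⟨r1 ≪≫ c1.app K ≪≫ (c3.app K).symm ≪≫ (c2.app K).symm ≪≫
    (DCoh.Lpull f').mapIso r2.symm⟩

/-- S1054: the derived pullback preserves `D_QCoh` -/
theorem isQCohD_lpull {Y X : Scheme.{u}} (f : Y ⟶ X) [DCoh.HasLpull f] (K : DCoh.D X)
    (hK : DCoh.IsQCohD K) : DCoh.IsQCohD ((DCoh.Lpull f).obj K) := by
  intro i
  have hloc : ∀ y : Y, ∃ V : Y.Opens, y ∈ V ∧ IsAffineOpen V ∧
      ∃ U : X.Opens, IsAffineOpen U ∧ V ≤ f ⁻¹ᵁ U := fun y => by
    obtain ⟨_, ⟨U, hU, rfl⟩, hx, -⟩ := X.isBasis_affineOpens.exists_subset_of_mem_open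
      (Set.mem_univ (f y)) isOpen_univ
    obtain ⟨_, ⟨V, hV, rfl⟩, hyV, hVU⟩ := Y.isBasis_affineOpens.exists_subset_of_mem_open
      (show y ∈ ((f ⁻¹ᵁ U : Y.Opens) : Set Y) from hx) (f ⁻¹ᵁ U).isOpen
    exact ⟨V, hyV, hV, U, hU, hVU⟩
  choose V hyV hVa U hUa hVU using hloc
  have hcov : IsOpenCover V := by
    rw [IsOpenCover]
    exact eq_top_iff.2 (fun y _ => Opens.mem_iSup.2 ⟨y, hyV y⟩)
  change (DCoh.HD ((DCoh.Lpull f).obj K) i).IsQuasicoherent
  refine Groth.Agent.Lib.Helper23.QCohLocal.isQuasicoherent_of_affine_cover _ V hcov hVa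
    (fun y => ?_)
  have hr : Set.range ((hVa y).fromSpec ≫ f) ⊆ Set.range (hUa y).fromSpec := by
    rw [(hUa y).range_fromSpec]
    rintro _ ⟨s, rfl⟩
    have hs : (hVa y).fromSpec s ∈ V y := by
      have : (hVa y).fromSpec s ∈ Set.range (hVa y).fromSpec := ⟨s, rfl⟩
      rw [(hVa y).range_fromSpec] at this
      exact this
    exact hVU y hs
  obtain ⟨f', hf'⟩ : ∃ f' : Spec Γ(Y, V y) ⟶ Spec Γ(X, U y),
      f' ≫ (hUa y).fromSpec = (hVa y).fromSpec ≫ f :=
    ⟨IsOpenImmersion.lift (hUa y).fromSpec ((hVa y).fromSpec ≫ f) hr,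
      IsOpenImmersion.lift_fac _ _ _⟩
  obtain ⟨φ, rfl⟩ : ∃ φ : Γ(X, U y) ⟶ Γ(Y, V y), f' = Spec.map φ :=
    ⟨Spec.preimage f', (Spec.map_preimage f').symm⟩
  haveI : DCoh.HasLpull (Spec.map φ) := hasLpull _
  obtain ⟨c⟩ := nonempty_restrictD_lpull_iso f (hVa y).fromSpec (hUa y).fromSpec (Spec.map φ)
    hf' K
  have hq : DCoh.IsQCohD ((DCoh.restrictD (hVa y).fromSpec).obj ((DCoh.Lpull f).obj K)) :=
    Groth.Agent.Lib.H6xRpushQc.isQCohD_of_iso c.symm
      (isQCohD_lpull_spec φ _ (Groth.Agent.Lib.H6xRpushQc.isQCohD_restrictD _ K hK))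
  obtain ⟨e2⟩ := Groth.Agent.Lib.H6xSuppPush.nonempty_homology_mapDerivedCategory_iso
    (Scheme.Modules.restrictFunctor (hVa y).fromSpec) ((DCoh.Lpull f).obj K) i
  haveI : (DCoh.HD ((DCoh.restrictD (hVa y).fromSpec).obj ((DCoh.Lpull f).obj K)) i).IsQuasicoherent :=
    hq i
  exact (SheafOfModules.isQuasicoherent.{u} _).prop_of_iso e2 inferInstance

end Groth.Agent.Lib.H6xLpullQc
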