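import Mathlib
import Groth.Agent.Lib.H6xLTensQcA
import Groth.Agent.Lib.H6xLpullQcB
import Groth.Agent.Lib.Helper1FLF2
import Groth.Agent.Lib.Helper23TensorQCoh
set_option backward.isDefEq.respectTransparency.types false

/-!
# The derived tensor product preserves `D_QCoh` (helper6)
-/

set_option autoImplicit false
set_option linter.style.haveILetI false

universe u

open CategoryTheory CategoryTheory.Limits AlgebraicGeometry TopologicalSpace Opposite

attribute [local instance] HasDerivedCategory.standard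

namespace Groth.Agent.Lib.H6xLTensQc

open Groth.Agent.Lib.Helper21.ModTensor3 Groth.Agent.Lib.Helper21.ModTensor5
  Groth.Agent.Lib.Helper1.Sky Groth.Agent.Lib.H6xBettiUsc Groth.Agent.Lib.Helper1.KBC
  Groth.Agent.Lib.Helper1.BKF Groth.Agent.Lib.Helper1.PT Groth.Agent.Lib.Helper1.FLF
  Groth.Agent.Lib.Helper1.KF Groth.Agent.Lib.H6xRpushQc

/-- cofan version of `isQuasicoherent_sigmaObj` -/
theorem isQuasicoherent_of_isColimit_cofan (R : CommRingCat.{u}) {J : Type}
    (F : J → (Spec R).Modules) (c : Cofan F) (hc : IsColimit c)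
    (h : ∀ j, (F j).IsQuasicoherent) : c.pt.IsQuasicoherent := by
  haveI : HasCoproduct F := ⟨⟨⟨c, hc⟩⟩⟩
  have e : ∐ F ≅ c.pt := (colimit.isColimit _).coconePointUniqueUpToIso hc
  exact (SheafOfModules.isQuasicoherent.{u} _).prop_of_iso e (isQuasicoherent_sigmaObj R F h)

/-- quasi-coherence of the cohomology sheaves is local for the affine opens -/
theorem isQCohD_of_affine_cover {X : Scheme.{u}} (K : DCoh.D X)
    (h : ∀ V : X.affineOpens, DCoh.IsQCohD ((DCoh.restrictD V.2.fromSpec).obj K)) :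
    DCoh.IsQCohD K := by
  intro i
  change (DCoh.HD K i).IsQuasicoherent
  refine Groth.Agent.Lib.Helper23.QCohLocal.isQuasicoherent_of_affine_cover _
    (fun V : X.affineOpens => (V : X.Opens)) (iSup_affineOpens_eq_top X) (fun V => V.2)
    (fun V => ?_)
  obtain ⟨e2⟩ := Groth.Agent.Lib.H6xSuppPush.nonempty_homology_mapDerivedCategory_iso
    (Scheme.Modules.restrictFunctor V.2.fromSpec) K i
  haveI : (DCoh.HD ((DCoh.restrictD V.2.fromSpec).obj K) i).IsQuasicoherent := h V i
  exact (SheafOfModules.isQuasicoherent.{u} _).prop_of_iso e2 inferInstance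

/-- an object of `D_QCoh(Spec A)` is represented by the complex associated to a complex of
modules -/
theorem exists_tilde_iso (A : CommRingCat.{u}) (K : DCoh.D (Spec A)) (hK : DCoh.IsQCohD K) :
    ∃ M : CochainComplex (ModuleCat.{u} A) ℤ, Nonempty (DerivedCategory.Q.obj
      (((tilde.functor A).mapHomologicalComplex (ComplexShape.up ℤ)).obj M) ≅ K) := by
  haveI := (Groth.Agent.S9498.aux A).1
  obtain ⟨M, ⟨eM⟩⟩ := ((Groth.Agent.Lib.H6xTilde.main A).2.2 K).1 hK
  let M₀ : CochainComplex (ModuleCat.{u} A) ℤ := DerivedCategory.Q.objPreimage M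
  let e₀ : DerivedCategory.Q.obj M₀ ≅ M := DerivedCategory.Q.objObjPreimageIso M
  exact ⟨M₀, ⟨((tilde.functor A).mapDerivedCategoryFactors.app M₀).symm ≪≫
    (DCoh.tildeD A).mapIso e₀ ≪≫ eM⟩⟩

/-- an object of `D_QCoh(Spec A)` is represented by a K-flat complex associated to a complex of
modules -/
theorem exists_tilde_iso_kflat (A : CommRingCat.{u}) (K : DCoh.D (Spec A))
    (hK : DCoh.IsQCohD K) :
    ∃ M : CochainComplex (ModuleCat.{u} A) ℤ,
      DCoh.IsKFlat (((tilde.functor A).mapHomologicalComplex (ComplexShape.up ℤ)).obj M) ∧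
      Nonempty (DerivedCategory.Q.obj
        (((tilde.functor A).mapHomologicalComplex (ComplexShape.up ℤ)).obj M) ≅ K) := by
  haveI := (Groth.Agent.S9498.aux A).1
  obtain ⟨M₀, ⟨e⟩⟩ := exists_tilde_iso A K hK
  obtain ⟨P, π, hP, -, hπ, -⟩ := exists_kprojective_resolution M₀
  haveI : IsIso (DerivedCategory.Q.map π) := by
    rw [DerivedCategory.isIso_Q_map_iff_quasiIso]; exact hπ
  have h1 : KFlat P := kflat_of_isKProjective P
  have h2 : RKFlat P := fun M hM => h1 M hM
  refine ⟨P, isKFlat_tilde A P h2, ⟨?_⟩⟩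
  exact ((tilde.functor A).mapDerivedCategoryFactors.app P).symm ≪≫
    (DCoh.tildeD A).mapIso (asIso (DerivedCategory.Q.map π)) ≪≫
    (tilde.functor A).mapDerivedCategoryFactors.app M₀ ≪≫ e

/-- restriction to an open, computed termwise by the pullback -/
noncomputable def restrictDQIso {Z X : Scheme.{u}} (g : Z ⟶ X) [IsOpenImmersion g]
    (T : CochainComplex X.Modules ℤ) :
    (DCoh.restrictD g).obj (DerivedCategory.Q.obj T) ≅
      DerivedCategory.Q.obj ((pullC g).obj T) :=
  (Scheme.Modules.restrictFunctor g).mapDerivedCategoryFactors.app T ≪≫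
    DerivedCategory.Q.mapIso ((NatIso.mapHomologicalComplex
      (Scheme.Modules.restrictFunctorIsoPullback g) (ComplexShape.up ℤ)).app T)

/-- the terms of the tensor product of two complexes of quasi-coherent modules on an affine
scheme are quasi-coherent -/
theorem isQuasicoherent_tensorCx_X (A : CommRingCat.{u})
    (K L : CochainComplex (Spec A).Modules ℤ) (hK : ∀ n, (K.X n).IsQuasicoherent)
    (hL : ∀ n, (L.X n).IsQuasicoherent) (n : ℤ) :
    (((DCoh.tensorCx.obj K).obj L).X n).IsQuasicoherent := by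
  refine prop_mapBifunctor_X (DCoh.tensorBi (X := Spec A)) (fun M => M.IsQuasicoherent)
    (fun I X c hc h => isQuasicoherent_of_isColimit_cofan A X c hc h) K L n (fun p q _ => ?_)
  haveI := hK p
  haveI := hL q
  exact Groth.Agent.Lib.Helper23.TensorQCoh.isQuasicoherent_tensorMod (K.X p) (L.X q)

/-- local step: the restriction of `P ⊗ F` to an affine open has quasi-coherent cohomology -/
theorem isQCohD_restrictD_tensorCx {X : Scheme.{u}} (A : CommRingCat.{u}) (g : Spec A ⟶ X)
    [IsOpenImmersion g] (P F : CochainComplex X.Modules ℤ) (hP : DCoh.IsKFlat P)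
    (hPq : DCoh.IsQCohD (DerivedCategory.Q.obj P)) (hFq : DCoh.IsQCohD (DerivedCategory.Q.obj F)) :
    DCoh.IsQCohD ((DCoh.restrictD g).obj
      (DerivedCategory.Q.obj ((DCoh.tensorCx.obj P).obj F))) := by
  obtain ⟨t⟩ := nonempty_pullTotIso g P F
  have hPg : DCoh.IsKFlat ((pullC g).obj P) := Groth.Agent.S0960.isKFlat_pullC g P hP
  obtain ⟨M, ⟨eM⟩⟩ := exists_tilde_iso A _
    (isQCohD_of_iso (restrictDQIso g P) (isQCohD_restrictD g _ hPq))
  obtain ⟨N, hN, ⟨eN⟩⟩ := exists_tilde_iso_kflat A _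
    (isQCohD_of_iso (restrictDQIso g F) (isQCohD_restrictD g _ hFq))
  obtain ⟨c⟩ := nonempty_Q_tensor_iso (O := (Spec A).sheaf) ((pullC g).obj F)
    (((tilde.functor A).mapHomologicalComplex (ComplexShape.up ℤ)).obj N) ((pullC g).obj P)
    (((tilde.functor A).mapHomologicalComplex (ComplexShape.up ℤ)).obj M) hPg hN eN.symm eM.symm
  let s := symIso (ModSite.tensorBi (Spec A).sheaf) (brd (Spec A).sheaf) ((pullC g).obj P)
    ((pullC g).obj F)
  refine isQCohD_of_iso (restrictDQIso g _ ≪≫ DerivedCategory.Q.mapIso t ≪≫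
    DerivedCategory.Q.mapIso s ≪≫ c).symm ?_
  exact isQCohD_Q_of_qcoh_terms A _ (fun n => isQuasicoherent_tensorCx_X A _ _
    (fun k => inferInstanceAs ((tilde.functor A).obj (N.X k)).IsQuasicoherent)
    (fun k => inferInstanceAs ((tilde.functor A).obj (M.X k)).IsQuasicoherent) n)

/-- S1062: the derived tensor product preserves `D_QCoh` -/
theorem main (X : Scheme.{u}) (F : CochainComplex X.Modules ℤ)
    (hF : DCoh.IsQCohD (DCoh.toD X F)) [DCoh.HasLTensorCx F]
    (E : DCoh.D X) (hE : DCoh.IsQCohD E) : DCoh.IsQCohD ((DCoh.LTensorCx F).obj E) := by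
  let F0 := (DerivedCategory.Q (C := X.Modules)).objPreimage E
  have e0 : DerivedCategory.Q.obj F0 ≅ E := (DerivedCategory.Q (C := X.Modules)).objObjPreimageIso E
  obtain ⟨P, q, hP, -, hq, -⟩ := exists_kflat_flat_resolution (O := X.sheaf) F0
  haveI : QuasiIso q := hq
  have hP' : DCoh.IsKFlat P := hP
  haveI : IsIso (DerivedCategory.Q.map q) := by
    rw [DerivedCategory.isIso_Q_map_iff_quasiIso]; exact hq
  have eK : E ≅ DerivedCategory.Q.obj P := e0.symm ≪≫ (asIso (DerivedCategory.Q.map q)).symm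
  haveI hI1 : ModSite.HasLTensorCx (O := X.sheaf) F := (inferInstance : DCoh.HasLTensorCx F)
  have i : (DCoh.LTensorCx F).obj (DerivedCategory.Q.obj P) ≅
      DerivedCategory.Q.obj ((DCoh.tensorCx.obj P).obj F) :=
    lTensorCxIsoOfIsKFlat (O := X.sheaf) F P hP
  refine isQCohD_of_iso ((DCoh.LTensorCx F).mapIso eK ≪≫ i).symm ?_
  refine isQCohD_of_affine_cover _ (fun V => ?_)
  exact isQCohD_restrictD_tensorCx _ V.2.fromSpec P F hP' (isQCohD_of_iso eK hE) hF

end Groth.Agent.Lib.H6xLTensQc
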