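import Mathlib
import Groth.Agent.Lib.H6xFlatAmpStalk
import Groth.Agent.Lib.H6xPerfFlatPCB
import Groth.Agent.Lib.Helper1KBC6
import Groth.Agent.S6950
import Groth.Agent.Lib.H6xLTensQcB
set_option backward.isDefEq.respectTransparency.types false

/-!
# Flat amplitude is local (helper6)
-/

set_option autoImplicit false
set_option linter.style.haveILetI false

universe u

open CategoryTheory CategoryTheory.Limits AlgebraicGeometry HomologicalComplex TopologicalSpace
  Opposite MonoidalCategory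

attribute [local instance] HasDerivedCategory.standard

namespace Groth.Agent.Lib.H6xFlatAmpLocal

open Groth.Agent.Lib.Helper1.BKF Groth.Agent.Lib.Helper1.CI Groth.Agent.Lib.Helper1.Sky
  Groth.Agent.Lib.Helper1.KBC Groth.Agent.Lib.H6xFlatAmpStalk Groth.Agent.Lib.H6xPerfFlatPC
  Groth.Agent.Lib.Helper1.Tor

variable {X Z : Scheme.{u}}

/-- the stalk of the pullback of a complex -/
noncomputable def stalkPullCIso (g : Z ⟶ X) (z : Z) (F : CochainComplex X.Modules ℤ) :
    (stalkC z).obj ((pullC g).obj F) ≅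
      ((ext (g.stalkMap z).hom).mapHomologicalComplex (ComplexShape.up ℤ)).obj
        ((stalkC (g z)).obj F) :=
  HomologicalComplex.Hom.isoOfComponents (fun i => (stalkPullbackIso g z).app (F.X i))
    (fun i j _ => ((stalkPullbackIso g z).hom.naturality (F.d i j)).symm)

/-- stalkwise tor amplitude descends along open immersions -/
theorem hasTorAmp_stalk_of_pullC (g : Z ⟶ X) [IsOpenImmersion g] (F : CochainComplex X.Modules ℤ)
    (a b : ℤ) (z : Z)
    (h : DRing.HasTorAmplitudeIn (Ox z) a b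
      (DerivedCategory.Q.obj ((stalkC z).obj ((pullC g).obj F)))) :
    DRing.HasTorAmplitudeIn (Ox (g z)) a b
      (DerivedCategory.Q.obj ((stalkC (g z)).obj F)) := by
  letI : Algebra (Ox (g z)) (Ox z) := (g.stalkMap z).hom.toAlgebra
  haveI : IsIso (g.stalkMap z) := inferInstance
  have hbij : Function.Bijective (g.stalkMap z).hom :=
    ConcreteCategory.bijective_of_isIso (g.stalkMap z)
  haveI : Module.FaithfullyFlat (Ox (g z)) (Ox z) := by
    let e : Ox (g z) ≃ₗ[Ox (g z)] Ox z :=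
      LinearEquiv.ofBijective (Algebra.linearMap (Ox (g z)) (Ox z)) hbij
    exact Module.FaithfullyFlat.of_linearEquiv (Ox (g z)) (Ox (g z)) e.symm
  refine Groth.Agent.S6950.result (R := Ox (g z)) (R' := Ox z) ((stalkC (g z)).obj F) a b ?_
  exact hasTorAmp_of_iso (DerivedCategory.Q.mapIso (stalkPullCIso g z F)) h

/-- flat amplitude is local -/
theorem hasFlatAmplitudeIn_of_local (K : DCoh.D X) (a b : ℤ)
    (h : ∀ x : X, ∃ (Z : Scheme.{u}) (g : Z ⟶ X) (_ : IsOpenImmersion g),
      x ∈ Set.range g.base ∧ DCoh.HasFlatAmplitudeIn a b ((DCoh.restrictD g).obj K)) :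
    DCoh.HasFlatAmplitudeIn a b K := by
  obtain ⟨F, ⟨eF⟩⟩ : ∃ F : CochainComplex X.Modules ℤ, Nonempty (DCoh.toD X F ≅ K) :=
    ⟨DerivedCategory.Q.objPreimage K, ⟨DerivedCategory.Q.objObjPreimageIso K⟩⟩
  refine hasFlatAmplitudeIn_of_iso eF a b (hasFlatAmplitudeIn_of_stalk F a b (fun x => ?_))
  obtain ⟨Z, g, hg, ⟨z, rfl⟩, hZ⟩ := h x
  apply hasTorAmp_stalk_of_pullC g F a b z
  apply hasTorAmp_stalk_of_hasFlatAmplitudeIn
  refine hasFlatAmplitudeIn_of_iso ?_ a b hZ
  exact (DCoh.restrictD g).mapIso eF.symm ≪≫ Groth.Agent.Lib.H6xLTensQc.restrictDQIso g F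

/-- flat amplitude is local, for opens -/
theorem hasFlatAmplitudeIn_of_opens (K : DCoh.D X) (a b : ℤ)
    (h : ∀ x : X, ∃ V : X.Opens, x ∈ V ∧
      DCoh.HasFlatAmplitudeIn a b ((DCoh.restrictD V.ι).obj K)) :
    DCoh.HasFlatAmplitudeIn a b K := by
  refine hasFlatAmplitudeIn_of_local K a b (fun x => ?_)
  obtain ⟨V, hxV, hV⟩ := h x
  exact ⟨V, V.ι, inferInstance, by rw [Scheme.Opens.range_ι]; exact hxV, hV⟩

end Groth.Agent.Lib.H6xFlatAmpLocal
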