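import Mathlib
import Groth.Agent.Lib.Helper1KBC1
import Groth.Agent.Lib.Helper1TorO
import Groth.Agent.Lib.Helper1DT5
set_option backward.isDefEq.respectTransparency.types false

/-!
# Relative tor amplitude: criterion via flat resolutions of test modules (helper6)
-/

set_option autoImplicit false
set_option linter.style.haveILetI false

universe u

open CategoryTheory CategoryTheory.Limits HomologicalComplex MonoidalCategory

attribute [local instance] HasDerivedCategory.standard

namespace Groth.Agent.Lib.H6xRelTorAmp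

open Groth.Agent.Lib.Helper1.BKF Groth.Agent.Lib.Helper1.KBC

section proj

variable {R R' : Type u} [CommRing R] [CommRing R'] (φ : R →+* R')

/-- the projection formula for complexes: `res (L ⊗ ext K) ≅ res L ⊗ K` -/
theorem nonempty_projIso (L : CochainComplex (ModuleCat.{u} R') ℤ)
    (K : CochainComplex (ModuleCat.{u} R) ℤ) :
    Nonempty (((res φ).mapHomologicalComplex (ComplexShape.up ℤ)).obj
        (mapBifunctor L (((ext φ).mapHomologicalComplex (ComplexShape.up ℤ)).obj K)
          (curriedTensor (ModuleCat.{u} R')) (ComplexShape.up ℤ)) ≅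
      mapBifunctor (((res φ).mapHomologicalComplex (ComplexShape.up ℤ)).obj L) K
        (curriedTensor (ModuleCat.{u} R)) (ComplexShape.up ℤ)) := by
  haveI h1 : ((TotMap.map₂ (res φ) (ComplexShape.up ℤ) (ComplexShape.up ℤ)).obj
      (B₁ φ L K)).HasTotal (ComplexShape.up ℤ) :=
    TotMap.hasTotal_map₂ (res φ) (B₁ φ L K) (ComplexShape.up ℤ)
  let e₂ : (TotMap.map₂ (res φ) (ComplexShape.up ℤ) (ComplexShape.up ℤ)).obj (B₁ φ L K) ≅
      (((F₂ φ).mapBifunctorHomologicalComplex (ComplexShape.up ℤ)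
        (ComplexShape.up ℤ)).obj L).obj K :=
    (TotMap.map₂ (res φ) (ComplexShape.up ℤ) (ComplexShape.up ℤ)).mapIso
        (precompIso₂ (curriedTensor (ModuleCat.{u} R')) (ext φ) L K) ≪≫
      (TotMap.mapBifunctorPostcompIso (F₁ φ) (res φ) L K).symm
  haveI h2 : HasMapBifunctor L K (F₂ φ) (ComplexShape.up ℤ) :=
    HomologicalComplex₂.hasTotal_of_iso e₂ (ComplexShape.up ℤ)
  let e₄ : B₄ φ L K ≅ (((F₃ φ).mapBifunctorHomologicalComplex (ComplexShape.up ℤ)
        (ComplexShape.up ℤ)).obj L).obj K :=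
    precompIso₁ (curriedTensor (ModuleCat.{u} R)) (res φ) L K
  haveI h3 : HasMapBifunctor L K (F₃ φ) (ComplexShape.up ℤ) :=
    HomologicalComplex₂.hasTotal_of_iso e₄ (ComplexShape.up ℤ)
  exact ⟨TotMap.mapTotalIso (res φ) (B₁ φ L K) (ComplexShape.up ℤ) ≪≫
    HomologicalComplex₂.total.mapIso e₂ (ComplexShape.up ℤ) ≪≫
    TotMap.mapBifunctorNatIso L K (ComplexShape.up ℤ) (pfIso φ).symm ≪≫
    (HomologicalComplex₂.total.mapIso e₄ (ComplexShape.up ℤ)).symm⟩

end proj

end Groth.Agent.Lib.H6xRelTorAmp
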