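import Mathlib
import Groth.Agent.Lib.H6xRelTorAmpA
import Groth.Agent.Lib.Helper1TorL
set_option backward.isDefEq.respectTransparency.types false

/-!
# Tor amplitude via K-flat resolutions of test modules (helper6)
-/

set_option autoImplicit false
set_option linter.style.haveILetI false

universe u

open CategoryTheory CategoryTheory.Limits HomologicalComplex MonoidalCategory

attribute [local instance] HasDerivedCategory.standard

namespace Groth.Agent.Lib.H6xRelTorAmp

open DerivedCategory Groth.Agent.Lib.Helper1.KF Groth.Agent.Lib.Helper1.Tor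
  Groth.Agent.Lib.Helper1.DT Groth.Agent.Lib.Helper1.TorO

variable {R : Type u} [CommRing R]

/-- the comparison of `S ⊗ F` with `N ⊗ G` on cohomology, for resolutions `G → S` and `F → N` -/
theorem nonempty_homology_iso (S G F : Cx R) (N : ModuleCat.{u} R) (q : G ⟶ S) [QuasiIso q]
    (hG : KFlat G) (π : F ⟶ sgl N) [QuasiIso π] (hF : KFlat F) (i : ℤ) :
    Nonempty ((S ⊗ F).homology i ≅ ((TC N).obj G).homology i) := by
  have q1 : QuasiIso (q ▷ F) := quasiIso_whiskerRight_of_kflat q F hF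
  have q2 : QuasiIso (G ◁ π) := quasiIso_whiskerLeft_of_kflatL π G hG.kflatL
  have a1 : IsIso (homologyMap (q ▷ F) i) :=
    (quasiIsoAt_iff_isIso_homologyMap _ i).1 (q1.quasiIsoAt i)
  have a2 : IsIso (homologyMap (G ◁ π) i) :=
    (quasiIsoAt_iff_isIso_homologyMap _ i).1 (q2.quasiIsoAt i)
  exact ⟨(asIso (homologyMap (q ▷ F) i)).symm ≪≫ asIso (homologyMap (G ◁ π) i) ≪≫
    (HomologicalComplex.homologyFunctor _ _ i).mapIso (swapIso G (sgl N)) ≪≫
    (HomologicalComplex.homologyFunctor _ _ i).mapIso (singleTensorIso N G).symm⟩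

/-- (⇒) -/
theorem isZero_homology_tensor_of_hasTorAmp (S : Cx R) (a b : ℤ)
    (h : DRing.HasTorAmplitudeIn R a b (Q.obj S)) (N : ModuleCat.{u} R) (F : Cx R)
    (hF : KFlat F) (π : F ⟶ sgl N) [QuasiIso π] (i : ℤ) (hi : i < a ∨ b < i) :
    IsZero ((S ⊗ F).homology i) := by
  obtain ⟨G, q, hG, -, hq, -⟩ := exists_kprojective_resolution S
  have hGK : KFlat G := kflat_of_isKProjective G
  have hqi : IsIso (Q.map q) := (DerivedCategory.isIso_Q_map_iff_quasiIso (φ := q)).2 hq
  obtain ⟨E, hE, hEf, ⟨e⟩⟩ := h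
  have h2 : TorVan G a b :=
    torVan_of_iso_kflat G E hGK a b hE hEf (e ≪≫ (asIso (Q.map q)).symm)
  have h3 := h2 N i hi
  rw [HomologicalComplex.exactAt_iff_isZero_homology] at h3
  obtain ⟨e'⟩ := nonempty_homology_iso S G F N q hGK π hF i
  exact IsZero.of_iso h3 e'

/-- (⇐) -/
theorem hasTorAmp_of_isZero_homology_tensor (S : Cx R) (a b : ℤ)
    (h : ∀ (N : ModuleCat.{u} R) (F : Cx R) (π : F ⟶ sgl N), F.IsKProjective → QuasiIso π →
      ∀ i : ℤ, (i < a ∨ b < i) → IsZero ((S ⊗ F).homology i)) :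
    DRing.HasTorAmplitudeIn R a b (Q.obj S) := by
  obtain ⟨G, q, hG, -, hq, -⟩ := exists_kprojective_resolution S
  have hGK : KFlat G := kflat_of_isKProjective G
  have hqi : IsIso (Q.map q) := (DerivedCategory.isIso_Q_map_iff_quasiIso (φ := q)).2 hq
  have h2 : TorVan G a b := by
    intro N i hi
    obtain ⟨F, π, hF, -, hπ, -⟩ := exists_kprojective_resolution (sgl N)
    obtain ⟨e'⟩ := nonempty_homology_iso S G F N q hGK π (kflat_of_isKProjective F) i
    rw [HomologicalComplex.exactAt_iff_isZero_homology]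
    exact IsZero.of_iso (h N F π hF hπ i hi) e'.symm
  exact hasTorAmp_of_iso (asIso (Q.map q)) (hasTorAmp_of_torVan_kflat G hGK a b h2)

end Groth.Agent.Lib.H6xRelTorAmp
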