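import Mathlib
import Groth.Agent.Lib.H6xRelTorAmpB
import Groth.Agent.Lib.Helper1LDer2
set_option backward.isDefEq.respectTransparency.types false

/-!
# Cohomological amplitude of the tensor product with a bounded flat complex (helper6)
-/

set_option autoImplicit false
set_option linter.style.haveILetI false

universe u

open CategoryTheory CategoryTheory.Limits HomologicalComplex MonoidalCategory

attribute [local instance] HasDerivedCategory.standard

namespace Groth.Agent.Lib.H6xRelTorAmp

open DerivedCategory Groth.Agent.Lib.Helper1.KF Groth.Agent.Lib.Helper1.Tor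
  Groth.Agent.Lib.Helper1.DT Groth.Agent.Lib.Helper1.TorO

variable {R : Type u} [CommRing R]

lemma isZero_homology_of_isZero_X' {A : Type*} [Category A] [Abelian A] (K : CochainComplex A ℤ)
    (i : ℤ) (h : IsZero (K.X i)) : IsZero (K.homology i) := by
  rw [← exactAt_iff_isZero_homology]
  exact ShortComplex.exact_of_isZero_X₂ _ h

/-- termwise vanishing of a tensor product of complexes -/
theorem isZero_tensor_X (E W : Cx R) (a b c d : ℤ) (hE : DRing.VanishesOutside E a b)
    (hW : ∀ i : ℤ, (i < c ∨ d < i) → IsZero (W.X i)) (n : ℤ) (hn : n < a + c ∨ b + d < n) :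
    IsZero ((E ⊗ W).X n) := by
  refine Groth.Agent.Lib.Helper1.BKF.prop_mapBifunctor_X (curriedTensor (ModuleCat.{u} R))
    (fun M => IsZero M)
    (fun I X c hc h => Groth.Agent.Lib.Helper1.BKF.isZero_of_isColimit_cofan X c hc h) E W n
    (fun p q hpq => ?_)
  by_cases hp : p < a ∨ b < p
  · exact (tensorRight (W.X q)).map_isZero (hE p hp)
  · have hq : q < c ∨ d < q := by omega
    exact (tensorLeft (E.X p)).map_isZero (hW q hq)

/-- Lemma T -/
theorem isZero_homology_tensor_of_bounded_flat (E W : Cx R) (a b c d : ℤ)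
    (hE : DRing.VanishesOutside E a b) (hEf : DRing.TermwiseFlat E)
    (hW : ∀ i : ℤ, (i < c ∨ d < i) → IsZero (W.homology i)) (n : ℤ)
    (hn : n < a + c ∨ b + d < n) : IsZero ((E ⊗ W).homology n) := by
  have hEK : KFlat E := kflat_of_boundedAbove_flat E b (fun q hq => hE q (Or.inr hq)) hEf
  have hEL : KFlatL E := hEK.kflatL
  by_cases hcd : c ≤ d
  · haveI : W.IsLE d := by
      rw [CochainComplex.isLE_iff]
      exact fun i hi => (HomologicalComplex.exactAt_iff_isZero_homology _ _).2 (hW i (Or.inr hi))
    haveI : (W.truncLE d).IsGE c := by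
      rw [CochainComplex.isGE_iff]
      intro i hi
      have h1 : QuasiIsoAt (W.ιTruncLE d) i := (inferInstance : QuasiIso (W.ιTruncLE d)).quasiIsoAt i
      rw [quasiIsoAt_iff_exactAt' _ _ ((HomologicalComplex.exactAt_iff_isZero_homology _ _).2
        (hW i (Or.inl hi)))] at h1
      exact h1
    have q1 : QuasiIso (E ◁ W.ιTruncLE d) := quasiIso_whiskerLeft_of_kflatL (W.ιTruncLE d) E hEL
    have q2 : QuasiIso (E ◁ (W.truncLE d).πTruncGE c) :=
      quasiIso_whiskerLeft_of_kflatL ((W.truncLE d).πTruncGE c) E hEL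
    have a1 : IsIso (homologyMap (E ◁ W.ιTruncLE d) n) :=
      (quasiIsoAt_iff_isIso_homologyMap _ n).1 (q1.quasiIsoAt n)
    have a2 : IsIso (homologyMap (E ◁ (W.truncLE d).πTruncGE c) n) :=
      (quasiIsoAt_iff_isIso_homologyMap _ n).1 (q2.quasiIsoAt n)
    have hW' : ∀ i : ℤ, (i < c ∨ d < i) → IsZero (((W.truncLE d).truncGE c).X i) := by
      intro i hi
      rcases hi with hi | hi
      · exact ((W.truncLE d).truncGE c).isZero_of_isStrictlyGE c i hi
      · exact ((W.truncLE d).isZero_of_isStrictlyLE d i hi).of_iso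
          ((W.truncLE d).truncGEXIso c i (by omega))
    have hz : IsZero ((E ⊗ (W.truncLE d).truncGE c).homology n) :=
      isZero_homology_of_isZero_X' _ n
        (isZero_tensor_X E _ a b c d hE hW' n hn)
    exact IsZero.of_iso hz ((asIso (homologyMap (E ◁ W.ιTruncLE d) n)).symm ≪≫
      asIso (homologyMap (E ◁ (W.truncLE d).πTruncGE c) n))
  · have hac : Acyc W := fun i => hW i (by omega)
    exact hEL W hac n

end Groth.Agent.Lib.H6xRelTorAmp
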