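import Mathlib
import Groth.Agent.Lib.H6xRelTorAmpC
import Groth.Agent.S6907
set_option backward.isDefEq.respectTransparency.types false

/-!
# Relative tor amplitude of a tensor product (helper6)
-/

set_option autoImplicit false
set_option linter.style.haveILetI false

universe u

open CategoryTheory CategoryTheory.Limits HomologicalComplex MonoidalCategory

attribute [local instance] HasDerivedCategory.standard

namespace Groth.Agent.Lib.H6xRelTorAmp

open DerivedCategory Groth.Agent.Lib.Helper1.KF Groth.Agent.Lib.Helper1.Tor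
  Groth.Agent.Lib.Helper1.DT Groth.Agent.Lib.Helper1.TorO Groth.Agent.Lib.Helper1.KBC

variable {R R' : Type u} [CommRing R] [CommRing R'] (φ : R →+* R')

/-- restriction of scalars on complexes -/
noncomputable abbrev resC : Cx R' ⥤ Cx R := (res φ).mapHomologicalComplex (ComplexShape.up ℤ)

/-- extension of scalars on complexes -/
noncomputable abbrev extC : Cx R ⥤ Cx R' := (ext φ).mapHomologicalComplex (ComplexShape.up ℤ)

/-- the projection formula, monoidal notation -/
theorem nonempty_projIso' (L : Cx R') (K : Cx R) :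
    Nonempty ((resC φ).obj (L ⊗ (extC φ).obj K) ≅ (resC φ).obj L ⊗ K) :=
  nonempty_projIso φ L K

instance : (res φ).Faithful := inferInstanceAs (ModuleCat.restrictScalars.{u} φ).Faithful

lemma isZero_homology_resC_iff (W : Cx R') (j : ℤ) :
    IsZero (((resC φ).obj W).homology j) ↔ IsZero (W.homology j) := by
  have e := (W.sc j).mapHomologyIso (res φ)
  constructor
  · intro h
    have h1 : IsZero ((res φ).obj (W.homology j)) := IsZero.of_iso h e.symm
    rw [IsZero.iff_id_eq_zero] at h1 ⊢
    apply (res φ).map_injective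
    rw [CategoryTheory.Functor.map_id, Functor.map_zero]
    exact h1
  · intro h
    exact IsZero.of_iso ((res φ).map_isZero h) e

/-- a quasi-isomorphism between K-flat complexes stays one after tensoring with any complex -/
theorem quasiIso_whiskerRight_of_kflat_kflat {P E : Cx R} (p : P ⟶ E) [hp : QuasiIso p]
    (hP : KFlat P) (hE : KFlat E) (L : Cx R) : QuasiIso (p ▷ L) := by
  rw [← quasiIso_whiskerLeft_iff_whiskerRight]
  exact (Groth.Agent.S6907.result R).2 P E p hP hE hp L

/-- Theorem RT -/
theorem hasTorAmp_resC_tensor (E L : Cx R') (a b c d : ℤ) (hE : DRing.VanishesOutside E a b)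
    (hEf : DRing.TermwiseFlat E)
    (hL : DRing.HasTorAmplitudeIn R c d (Q.obj ((resC φ).obj L))) :
    DRing.HasTorAmplitudeIn R (a + c) (b + d) (Q.obj ((resC φ).obj (E ⊗ L))) := by
  apply hasTorAmp_of_isZero_homology_tensor
  intro N F π hF hπ i hi
  have hFK : KFlat F := kflat_of_isKProjective F
  obtain ⟨e1⟩ := nonempty_projIso' φ (E ⊗ L) F
  obtain ⟨e2⟩ := nonempty_projIso' φ L F
  have hW : ∀ j : ℤ, (j < c ∨ d < j) → IsZero ((L ⊗ (extC φ).obj F).homology j) := by
    intro j hj
    rw [← isZero_homology_resC_iff φ]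
    exact IsZero.of_iso (isZero_homology_tensor_of_hasTorAmp _ c d hL N F hFK π j hj)
      ((HomologicalComplex.homologyFunctor _ _ j).mapIso e2)
  have h1 : IsZero ((E ⊗ (L ⊗ (extC φ).obj F)).homology i) :=
    isZero_homology_tensor_of_bounded_flat E _ a b c d hE hEf hW i hi
  have h2 : IsZero (((E ⊗ L) ⊗ (extC φ).obj F).homology i) :=
    IsZero.of_iso h1 ((HomologicalComplex.homologyFunctor _ _ i).mapIso (α_ E L ((extC φ).obj F)))
  have h3 := (isZero_homology_resC_iff φ _ i).2 h2
  exact IsZero.of_iso h3 ((HomologicalComplex.homologyFunctor _ _ i).mapIso e1.symm)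

end Groth.Agent.Lib.H6xRelTorAmp
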