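import Mathlib
import Groth.Agent.Lib.H6xRelTorAmpD
set_option backward.isDefEq.respectTransparency.types false

/-!
# S6953 (helper6)
-/

set_option autoImplicit false
set_option linter.style.haveILetI false

universe u

open CategoryTheory CategoryTheory.Limits HomologicalComplex MonoidalCategory

attribute [local instance] HasDerivedCategory.standard

namespace Groth.Agent.Lib.H6xRelTorAmp

open DerivedCategory Groth.Agent.Lib.Helper1.KF Groth.Agent.Lib.Helper1.Tor
  Groth.Agent.Lib.Helper1.DT Groth.Agent.Lib.Helper1.TorO Groth.Agent.Lib.Helper1.KBC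
  Groth.Agent.Lib.Helper1.TorL

/-- `K ⊗^L L` is computed by `E ⊗ L` for a K-flat complex `E` representing `K` -/
theorem nonempty_LTensorCx_iso {B : Type u} [CommRing B] (L : Cx B) [DRing.HasLTensorCx B L]
    (E : Cx B) (hE : KFlat E) :
    Nonempty ((DRing.LTensorCx B L).obj (Q.obj E) ≅ Q.obj (E ⊗ L)) := by
  obtain ⟨P, p, hP, -, hp, -⟩ := exists_kprojective_resolution E
  have hpi : IsIso (Q.map p) := (DerivedCategory.isIso_Q_map_iff_quasiIso (φ := p)).2 hp
  have := isIso_counit_LTensorCx L P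
  have hq : QuasiIso (p ▷ L) :=
    quasiIso_whiskerRight_of_kflat_kflat p (kflat_of_isKProjective P) hE L
  have hqi : IsIso (Q.map (p ▷ L)) :=
    (DerivedCategory.isIso_Q_map_iff_quasiIso (φ := p ▷ L)).2 hq
  exact ⟨(DRing.LTensorCx B L).mapIso (asIso (Q.map p)).symm ≪≫
    asIso (((DRing.tensorCxQ B L).totalLeftDerivedCounit Q
      (HomologicalComplex.quasiIso (ModuleCat.{u} B) (ComplexShape.up ℤ))).app P) ≪≫
    asIso (Q.map (p ▷ L))⟩

/-- S6953 -/
theorem main {A B : Type u} [CommRing A] [CommRing B] [Algebra A B]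
    (K : Dual.D B) (a b c d : ℤ) (hK : DRing.HasTorAmplitudeIn B a b K) (L : DRing.Cx B)
    (hL : DRing.HasTorAmplitudeIn A c d
      (DRing.toD ((DRing.restrictCx (algebraMap A B)).obj L)))
    [DRing.HasLTensorCx B L] :
    DRing.HasTorAmplitudeIn A (a + c) (b + d)
      ((DRing.restrictD (algebraMap A B)).obj ((DRing.LTensorCx B L).obj K)) := by
  obtain ⟨E, hE, hEf, ⟨e⟩⟩ := hK
  have hEK : KFlat E := kflat_of_boundedAbove_flat E b (fun q hq => hE q (Or.inr hq)) hEf
  obtain ⟨e1⟩ := nonempty_LTensorCx_iso L E hEK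
  have h := hasTorAmp_resC_tensor (algebraMap A B) E L a b c d hE hEf hL
  refine hasTorAmp_of_iso ?_ h
  exact ((res (algebraMap A B)).mapDerivedCategoryFactors.app (E ⊗ L)).symm ≪≫
    (DRing.restrictD (algebraMap A B)).mapIso (e1.symm ≪≫ (DRing.LTensorCx B L).mapIso e)

end Groth.Agent.Lib.H6xRelTorAmp
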