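import Mathlib
import Groth.Agent.Lib.H6xRelTorAmpE
set_option backward.isDefEq.respectTransparency.types false

/-!
# Relative tor amplitude for a composite of ring maps (helper6)
-/

set_option autoImplicit false
set_option linter.style.haveILetI false

universe u

open CategoryTheory CategoryTheory.Limits HomologicalComplex MonoidalCategory

attribute [local instance] HasDerivedCategory.standard

namespace Groth.Agent.Lib.H6xRelTorAmp

open DerivedCategory Groth.Agent.Lib.Helper1.KF Groth.Agent.Lib.Helper1.Tor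
  Groth.Agent.Lib.Helper1.DT Groth.Agent.Lib.Helper1.TorO Groth.Agent.Lib.Helper1.KBC
  Groth.Agent.Lib.Helper1.TorL

section

variable {B : Type u} [CommRing B]

/-- tensoring with a K-flat complex on the right preserves isomorphisms in the derived category -/
theorem nonempty_Q_tensor_iso_of_kflat (T E P : Cx B) (hP : KFlat P) (e : Q.obj E ≅ Q.obj T) :
    Nonempty (Q.obj (T ⊗ P) ≅ Q.obj (E ⊗ P)) := by
  obtain ⟨G, t, hG, -, ht, -⟩ := exists_kprojective_resolution T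
  have hti : IsIso (Q.map t) := (DerivedCategory.isIso_Q_map_iff_quasiIso (φ := t)).2 ht
  obtain ⟨s, hs⟩ := Q_map_surjective G E (Q.map t ≫ e.inv)
  have hsi : IsIso (Q.map s) := by rw [hs]; infer_instance
  have hsq : QuasiIso s := (DerivedCategory.isIso_Q_map_iff_quasiIso (φ := s)).1 hsi
  have q1 : QuasiIso (t ▷ P) := quasiIso_whiskerRight_of_kflat t P hP
  have q2 : QuasiIso (s ▷ P) := quasiIso_whiskerRight_of_kflat s P hP
  have i1 : IsIso (Q.map (t ▷ P)) := (DerivedCategory.isIso_Q_map_iff_quasiIso (φ := t ▷ P)).2 q1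
  have i2 : IsIso (Q.map (s ▷ P)) := (DerivedCategory.isIso_Q_map_iff_quasiIso (φ := s ▷ P)).2 q2
  exact ⟨(asIso (Q.map (t ▷ P))).symm ≪≫ asIso (Q.map (s ▷ P))⟩

end

variable {C B A : Type u} [CommRing C] [CommRing B] [CommRing A] (ψ : C →+* B) (φ : B →+* A)

/-- restriction of scalars along a composite, on derived categories -/
theorem nonempty_Q_resC_iso {X Y : Cx B} (e : Q.obj X ≅ Q.obj Y) :
    Nonempty (Q.obj ((resC ψ).obj X) ≅ Q.obj ((resC ψ).obj Y)) :=
  ⟨((res ψ).mapDerivedCategoryFactors.app X).symm ≪≫ (res ψ).mapDerivedCategory.mapIso e ≪≫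
    (res ψ).mapDerivedCategoryFactors.app Y⟩

/-- RL' -/
theorem hasTorAmp_resC_comp_tensor (χ : C →+* A) (hχ : χ = φ.comp ψ) (P : Cx B) (hP : KFlat P)
    (T : Cx A) (a b c d : ℤ)
    (hPt : DRing.HasTorAmplitudeIn C c d (Q.obj ((resC ψ).obj P)))
    (hT : DRing.HasTorAmplitudeIn B a b (Q.obj ((resC φ).obj T))) :
    DRing.HasTorAmplitudeIn C (a + c) (b + d)
      (Q.obj ((resC χ).obj ((extC φ).obj P ⊗ T))) := by
  obtain ⟨E, hE, hEf, ⟨e⟩⟩ := hT
  have h1 := hasTorAmp_resC_tensor ψ E P a b c d hE hEf hPt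
  obtain ⟨e1⟩ := nonempty_Q_tensor_iso_of_kflat ((resC φ).obj T) E P hP e
  obtain ⟨e2⟩ := nonempty_Q_resC_iso ψ e1
  obtain ⟨e3⟩ := nonempty_projIso' φ T P
  let e4 : (resC φ).obj ((extC φ).obj P ⊗ T) ≅ (resC φ).obj T ⊗ P :=
    (resC φ).mapIso (swapIso ((extC φ).obj P) T) ≪≫ e3
  let e5 : (resC χ).obj ((extC φ).obj P ⊗ T) ≅
      (resC ψ).obj ((resC φ).obj ((extC φ).obj P ⊗ T)) :=
    (Functor.mapHomologicalComplexCompIso (F := res φ) (G := res ψ) (H := res χ)
      (ModuleCat.restrictScalarsComp'.{u} ψ φ χ hχ).symm (ComplexShape.up ℤ)).symm.app _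
  refine hasTorAmp_of_iso ?_ h1
  exact e2.symm ≪≫ Q.mapIso ((resC ψ).mapIso e4.symm ≪≫ e5.symm)

/-- RL'' : the form used stalkwise -/
theorem hasTorAmp_resC_of_iso_ext_tensor (χ : C →+* A) (hχ : χ = φ.comp ψ) (P P' : Cx B)
    (hP : KFlat P) (eP : Q.obj P ≅ Q.obj P') (T T' : Cx A) (a b c d : ℤ)
    (hPt : DRing.HasTorAmplitudeIn C c d (Q.obj ((resC ψ).obj P')))
    (hT : DRing.HasTorAmplitudeIn B a b (Q.obj ((resC φ).obj T)))
    (e : Q.obj T' ≅ Q.obj ((extC φ).obj P ⊗ T)) :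
    DRing.HasTorAmplitudeIn C (a + c) (b + d) (Q.obj ((resC χ).obj T')) := by
  obtain ⟨e1⟩ := nonempty_Q_resC_iso ψ eP
  have hPt' := hasTorAmp_of_iso e1.symm hPt
  have h := hasTorAmp_resC_comp_tensor ψ φ χ hχ P hP T a b c d hPt' hT
  obtain ⟨e2⟩ := nonempty_Q_resC_iso χ e
  exact hasTorAmp_of_iso e2.symm h

end Groth.Agent.Lib.H6xRelTorAmp
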