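import Mathlib
import Groth.Agent.Lib.H6xRelTorAmpF
import Groth.Agent.Lib.H6xFlatAmpLocal
import Groth.Agent.S0960
import Groth.Agent.Lib.Helper23UnitStalk
set_option backward.isDefEq.respectTransparency.types false

/-!
# Relative tor amplitude of `Lf^* G ⊗^L F` (S6240, helper6)
-/

set_option autoImplicit false
set_option linter.style.haveILetI false

universe u

open CategoryTheory CategoryTheory.Limits AlgebraicGeometry HomologicalComplex TopologicalSpace
  Opposite MonoidalCategory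

attribute [local instance] HasDerivedCategory.standard

namespace Groth.Agent.Lib.H6xRelTorAmpG

open Groth.Agent.Lib.Helper1.BKF Groth.Agent.Lib.Helper1.CI Groth.Agent.Lib.Helper1.Sky
  Groth.Agent.Lib.Helper1.KBC Groth.Agent.Lib.H6xFlatAmpStalk Groth.Agent.Lib.H6xFlatAmpLocal
  Groth.Agent.Lib.Helper1.Tor Groth.Agent.Lib.H6xRelTorAmp

variable {X Y Z : Scheme.{u}}

/-- the prelude's complex of stalks over the base is the restriction of scalars of our complex of
stalks -/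
noncomputable def stalkCxOverIso (f : X ⟶ Y) (x : X) (F : CochainComplex X.Modules ℤ) :
    (DerSch.stalkCxOver f x).obj F ≅ (resC (f.stalkMap x).hom).obj ((stalkC x).obj F) :=
  HomologicalComplex.Hom.isoOfComponents (fun i => Iso.refl _) (fun i j _ => by
    simp only [Iso.refl_hom]
    rfl)

/-- the key case, at a point: `P` K-flat on `Y` -/
theorem hasTorAmplitudeAt_of_stalk_iso (f : X ⟶ Y) (g : Y ⟶ Z)
    (F : CochainComplex X.Modules ℤ) (a b : ℤ) (G P : CochainComplex Y.Modules ℤ)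
    (hP : DCoh.IsKFlat P) (eP : DCoh.toD Y P ≅ DCoh.toD Y G)
    (c d : ℤ) (F' : CochainComplex X.Modules ℤ) (x : X)
    (hF : DerSch.HasTorAmplitudeAt f a b F x)
    (hG : DerSch.HasTorAmplitudeAt g c d G (f.base x))
    (e : DerivedCategory.Q.obj ((stalkC x).obj F') ≅
      DerivedCategory.Q.obj ((extC (f.stalkMap x).hom).obj ((stalkC (f.base x)).obj P) ⊗
        (stalkC x).obj F)) :
    DerSch.HasTorAmplitudeAt (f ≫ g) (a + c) (b + d) F' x := by
  obtain ⟨e3⟩ := nonempty_Q_stalkC_iso (f.base x) _ _ eP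
  have hPx : RKFlat ((stalkC (f.base x)).obj P) := rKFlat_stalk_of_isKFlat (f.base x) P hP
  have hPx' : Groth.Agent.Lib.Helper1.KF.KFlat ((stalkC (f.base x)).obj P) :=
    fun L hL => hPx L hL
  have hχ : ((f ≫ g).stalkMap x).hom = (f.stalkMap x).hom.comp (g.stalkMap (f.base x)).hom := by
    rw [Scheme.Hom.stalkMap_comp]
    rfl
  have h1 := hasTorAmp_of_iso (DerivedCategory.Q.mapIso (stalkCxOverIso f x F)) hF
  have h2 := hasTorAmp_of_iso (DerivedCategory.Q.mapIso (stalkCxOverIso g (f.base x) G)) hG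
  have key := hasTorAmp_resC_of_iso_ext_tensor (g.stalkMap (f.base x)).hom (f.stalkMap x).hom
    ((f ≫ g).stalkMap x).hom hχ ((stalkC (f.base x)).obj P) ((stalkC (f.base x)).obj G) hPx' e3
    ((stalkC x).obj F) ((stalkC x).obj F') a b c d h2 h1 e
  exact hasTorAmp_of_iso (DerivedCategory.Q.mapIso (stalkCxOverIso (f ≫ g) x F')).symm key

/-- the key case: `P` K-flat on `Y` -/
theorem hasTorAmplitude_of_iso_tensor_pull (f : X ⟶ Y) (g : Y ⟶ Z)
    (F : CochainComplex X.Modules ℤ) (a b : ℤ) (hF : DerSch.HasTorAmplitude f a b F)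
    (G P : CochainComplex Y.Modules ℤ) (hP : DCoh.IsKFlat P) (eP : DCoh.toD Y P ≅ DCoh.toD Y G)
    (c d : ℤ) (hG : DerSch.HasTorAmplitude g c d G) (F' : CochainComplex X.Modules ℤ)
    (e : DCoh.toD X F' ≅ DCoh.toD X ((DCoh.tensorCx.obj ((pullC f).obj P)).obj F)) :
    DerSch.HasTorAmplitude (f ≫ g) (a + c) (b + d) F' := by
  intro x
  obtain ⟨e1⟩ := nonempty_Q_stalkC_iso x _ _ e
  obtain ⟨e2⟩ := nonempty_stalkTotIso x ((pullC f).obj P) F
  exact hasTorAmplitudeAt_of_stalk_iso f g F a b G P hP eP c d F' x (hF x) (hG (f.base x))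
    (e1 ≪≫ DerivedCategory.Q.mapIso (e2 ≪≫
      MonoidalCategory.whiskerRightIso (stalkPullCIso f x P) _))

/-- the stalk of the structure sheaf in degree `0` is the unit complex -/
noncomputable def stalkUnitCxIso (x : X) :
    (stalkC x).obj (DerSch.unitCx X) ≅ 𝟙_ (CochainComplex (ModuleCat.{u} (Ox x)) ℤ) :=
  (HomologicalComplex.singleMapHomologicalComplex (stalkFun x) (ComplexShape.up ℤ) 0).app
      (Coh.structureModule X) ≪≫
    (HomologicalComplex.single _ (ComplexShape.up ℤ) 0).mapIso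
      (Groth.Agent.Lib.Helper23.UnitStalk.unitStalkEquiv x).symm.toModuleIso

/-- the key case for the structure sheaf -/
theorem hasTorAmplitude_of_iso_pull (f : X ⟶ Y) (g : Y ⟶ Z) (m : ℕ)
    (hf : DerSch.HasTorDimLE f m)
    (G P : CochainComplex Y.Modules ℤ) (hP : DCoh.IsKFlat P) (eP : DCoh.toD Y P ≅ DCoh.toD Y G)
    (c d : ℤ) (hG : DerSch.HasTorAmplitude g c d G) (F' : CochainComplex X.Modules ℤ)
    (e : DCoh.toD X F' ≅ DCoh.toD X ((pullC f).obj P)) :
    DerSch.HasTorAmplitude (f ≫ g) (c - m) d F' := by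
  intro x
  obtain ⟨e1⟩ := nonempty_Q_stalkC_iso x _ _ e
  have key := hasTorAmplitudeAt_of_stalk_iso f g (DerSch.unitCx X) (-(m : ℤ)) 0 G P hP eP c d F' x
    (hf x) (hG (f.base x))
    (e1 ≪≫ DerivedCategory.Q.mapIso (stalkPullCIso f x P ≪≫ (ρ_ _).symm ≪≫
      MonoidalCategory.whiskerLeftIso _ (stalkUnitCxIso x).symm))
  have h1 : -(m : ℤ) + c = c - m := by ring
  have h2 : (0 : ℤ) + d = d := by ring
  rw [h1, h2] at key
  exact key

/-- S6240 -/
theorem main (f : X ⟶ Y) (g : Y ⟶ Z)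
    (h : X ⟶ Z) (w : f ≫ g = h) (F : CochainComplex X.Modules ℤ) (a b : ℤ)
    (hF : DerSch.HasTorAmplitude f a b F) (G : CochainComplex Y.Modules ℤ) (c d : ℤ)
    (hG : DerSch.HasTorAmplitude g c d G) [DCoh.HasLpull f] [DCoh.HasLTensorCx F] :
    DerSch.HasTorAmplitudeD h (a + c) (b + d)
      ((DCoh.LTensorCx F).obj ((DCoh.Lpull f).obj (DCoh.toD Y G))) := by
  subst w
  intro F' ⟨e⟩
  obtain ⟨P, q, hP, -, hq, -⟩ := exists_kflat_flat_resolution (O := Y.sheaf) G
  have hP' : DCoh.IsKFlat P := hP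
  have hqi : IsIso (DerivedCategory.Q.map q) := by
    rw [DerivedCategory.isIso_Q_map_iff_quasiIso]; exact hq
  have eP : DCoh.toD Y P ≅ DCoh.toD Y G := @asIso _ _ _ _ (DerivedCategory.Q.map q) hqi
  haveI hI1 : ModSite.HasLTensorCx (O := X.sheaf) F := (inferInstance : DCoh.HasLTensorCx F)
  have i : (DCoh.LTensorCx F).obj (DerivedCategory.Q.obj ((pullC f).obj P)) ≅
      DerivedCategory.Q.obj ((DCoh.tensorCx.obj ((pullC f).obj P)).obj F) :=
    lTensorCxIsoOfIsKFlat (O := X.sheaf) F ((pullC f).obj P)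
      (Groth.Agent.S0960.isKFlat_pullC f P hP')
  refine hasTorAmplitude_of_iso_tensor_pull f g F a b hF G P hP' eP c d hG F' ?_
  exact e ≪≫ (DCoh.LTensorCx F).mapIso ((DCoh.Lpull f).mapIso eP.symm ≪≫ lpullIsoK f P hP') ≪≫ i

/-- S6188 -/
theorem main_unit (f : X ⟶ Y) (g : Y ⟶ Z) (h : X ⟶ Z)
    (w : f ≫ g = h) (m : ℕ) (hf : DerSch.HasTorDimLE f m) [DCoh.HasLpull f]
    (G : CochainComplex Y.Modules ℤ) (c d : ℤ) (hG : DerSch.HasTorAmplitude g c d G) :
    DerSch.HasTorAmplitudeD h (c - m) d ((DCoh.Lpull f).obj (DCoh.toD Y G)) := by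
  subst w
  intro F' ⟨e⟩
  obtain ⟨P, q, hP, -, hq, -⟩ := exists_kflat_flat_resolution (O := Y.sheaf) G
  have hP' : DCoh.IsKFlat P := hP
  have hqi : IsIso (DerivedCategory.Q.map q) := by
    rw [DerivedCategory.isIso_Q_map_iff_quasiIso]; exact hq
  have eP : DCoh.toD Y P ≅ DCoh.toD Y G := @asIso _ _ _ _ (DerivedCategory.Q.map q) hqi
  exact hasTorAmplitude_of_iso_pull f g m hf G P hP' eP c d hG F'
    (e ≪≫ (DCoh.Lpull f).mapIso eP.symm ≪≫ lpullIsoK f P hP')

end Groth.Agent.Lib.H6xRelTorAmpG
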