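import Mathlib
import Groth.Agent.Lib.H6xRelTorAmpF
import Groth.Agent.Lib.Helper1KBC6
set_option backward.isDefEq.respectTransparency.types false

/-!
# Tor amplitude and bijective ring maps (helper6)
-/

set_option autoImplicit false
set_option linter.style.haveILetI false

universe u

open CategoryTheory CategoryTheory.Limits HomologicalComplex MonoidalCategory

attribute [local instance] HasDerivedCategory.standard

namespace Groth.Agent.Lib.H6xRelTorAmp

open DerivedCategory Groth.Agent.Lib.Helper1.KF Groth.Agent.Lib.Helper1.Tor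
  Groth.Agent.Lib.Helper1.DT Groth.Agent.Lib.Helper1.TorO Groth.Agent.Lib.Helper1.KBC
  Groth.Agent.Lib.Helper1.TorL

section

variable {R R' : Type u} [CommRing R] [CommRing R'] (φ : R →+* R')

/-- restriction of scalars of the unit along a bijective ring map -/
noncomputable def resUnitIso (hφ : Function.Bijective φ) :
    (res φ).obj (𝟙_ (ModuleCat.{u} R')) ≅ 𝟙_ (ModuleCat.{u} R) :=
  (LinearEquiv.toModuleIso (LinearEquiv.ofBijective
    ({ toFun := fun r => (φ r : R')
       map_add' := fun x y => map_add φ x y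
       map_smul' := fun r x => by
        change φ (r * x) = φ r * φ x
        exact map_mul φ r x } : R →ₗ[R] ((res φ).obj (𝟙_ (ModuleCat.{u} R')))) hφ)).symm

/-- for a bijective ring map, extension then restriction of scalars is the identity -/
noncomputable def extResIso (hφ : Function.Bijective φ) : ext φ ⋙ res φ ≅ 𝟭 (ModuleCat.{u} R) :=
  resExtIso φ ≪≫ (curriedTensor (ModuleCat.{u} R)).mapIso (resUnitIso φ hφ) ≪≫
    leftUnitorNatIso (ModuleCat.{u} R)

/-- complexes version -/
noncomputable def extResCIso (hφ : Function.Bijective φ) (S : Cx R) :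
    (resC φ).obj ((extC φ).obj S) ≅ S :=
  (Functor.mapHomologicalComplexCompIso (F := ext φ) (G := res φ) (H := 𝟭 _) (extResIso φ hφ)
    (ComplexShape.up ℤ)).app S ≪≫ (Functor.mapHomologicalComplexIdIso _ _).app S

/-- restriction of scalars along a bijective ring map preserves flatness -/
theorem flat_res_of_bijective (hφ : Function.Bijective φ) (M : ModuleCat.{u} R')
    (hM : Module.Flat R' M) : Module.Flat R ((res φ).obj M) := by
  letI : Algebra R R' := φ.toAlgebra
  haveI : Module.Flat R R' := by
    let e : R ≃ₗ[R] R' := LinearEquiv.ofBijective (Algebra.linearMap R R') hφ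
    exact Module.Flat.of_linearEquiv e.symm
  letI : Module R' ((res φ).obj M) := inferInstanceAs (Module R' M)
  haveI : IsScalarTower R R' ((res φ).obj M) := ⟨fun r r' m => by
    change (φ r * r') • (m : M) = φ r • (r' • (m : M))
    exact mul_smul _ _ _⟩
  haveI : Module.Flat R' ((res φ).obj M) := hM
  exact Module.Flat.trans R R' _

/-- restriction of scalars along a bijective ring map preserves tor amplitude -/
theorem hasTorAmp_resC_of_bijective (hφ : Function.Bijective φ) (T : Cx R') (a b : ℤ)
    (h : DRing.HasTorAmplitudeIn R' a b (Q.obj T)) :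
    DRing.HasTorAmplitudeIn R a b (Q.obj ((resC φ).obj T)) := by
  obtain ⟨E, hE, hEf, ⟨e⟩⟩ := h
  obtain ⟨e1⟩ := nonempty_Q_resC_iso φ e
  exact ⟨(resC φ).obj E, fun i hi => (res φ).map_isZero (hE i hi),
    fun i => flat_res_of_bijective φ hφ _ (hEf i), ⟨e1⟩⟩

/-- restriction of scalars along a flat ring map preserves flatness -/
theorem flat_res_of_flat (hφ : φ.Flat) (M : ModuleCat.{u} R')
    (hM : Module.Flat R' M) : Module.Flat R ((res φ).obj M) := by
  letI : Algebra R R' := φ.toAlgebra
  haveI : Module.Flat R R' := hφ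
  letI : Module R' ((res φ).obj M) := inferInstanceAs (Module R' M)
  haveI : IsScalarTower R R' ((res φ).obj M) := ⟨fun r r' m => by
    change (φ r * r') • (m : M) = φ r • (r' • (m : M))
    exact mul_smul _ _ _⟩
  haveI : Module.Flat R' ((res φ).obj M) := hM
  exact Module.Flat.trans R R' _

/-- restriction of scalars along a flat ring map preserves tor amplitude -/
theorem hasTorAmp_resC_of_flat (hφ : φ.Flat) (T : Cx R') (a b : ℤ)
    (h : DRing.HasTorAmplitudeIn R' a b (Q.obj T)) :
    DRing.HasTorAmplitudeIn R a b (Q.obj ((resC φ).obj T)) := by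
  obtain ⟨E, hE, hEf, ⟨e⟩⟩ := h
  obtain ⟨e1⟩ := nonempty_Q_resC_iso φ e
  exact ⟨(resC φ).obj E, fun i hi => (res φ).map_isZero (hE i hi),
    fun i => flat_res_of_flat φ hφ _ (hEf i), ⟨e1⟩⟩

end

variable {B' B A A' : Type u} [CommRing B'] [CommRing B] [CommRing A] [CommRing A']

/-- RP -/
theorem hasTorAmp_resC_ext_of_bijective (γ : B' →+* B) (φ : B →+* A) (α : A →+* A')
    (φ' : B' →+* A') (h : φ' = α.comp (φ.comp γ)) (hγ : Function.Bijective γ)
    (hα : Function.Bijective α) (S : Cx A) (a b : ℤ)
    (hS : DRing.HasTorAmplitudeIn B a b (Q.obj ((resC φ).obj S))) :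
    DRing.HasTorAmplitudeIn B' a b (Q.obj ((resC φ').obj ((extC α).obj S))) := by
  have h1 := hasTorAmp_resC_of_bijective γ hγ _ a b hS
  let e1 : (resC φ').obj ((extC α).obj S) ≅
      (resC (φ.comp γ)).obj ((resC α).obj ((extC α).obj S)) :=
    (Functor.mapHomologicalComplexCompIso (F := res α) (G := res (φ.comp γ)) (H := res φ')
      (ModuleCat.restrictScalarsComp'.{u} (φ.comp γ) α φ' h).symm (ComplexShape.up ℤ)).symm.app _
  let e2 : (resC (φ.comp γ)).obj S ≅ (resC γ).obj ((resC φ).obj S) :=
    (Functor.mapHomologicalComplexCompIso (F := res φ) (G := res γ) (H := res (φ.comp γ))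
      (ModuleCat.restrictScalarsComp'.{u} γ φ (φ.comp γ) rfl).symm (ComplexShape.up ℤ)).symm.app _
  exact hasTorAmp_of_iso (Q.mapIso (e1 ≪≫ (resC (φ.comp γ)).mapIso (extResCIso α hα S) ≪≫
    e2)).symm h1

end Groth.Agent.Lib.H6xRelTorAmp
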