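import Mathlib
import Groth.Agent.Lib.H6xRelTorAmpG
import Groth.Agent.Lib.H6xRelTorAmpH
set_option backward.isDefEq.respectTransparency.types false

/-!
# Relative tor amplitude restricts to opens (helper6)
-/

set_option autoImplicit false
set_option linter.style.haveILetI false

universe u

open CategoryTheory CategoryTheory.Limits AlgebraicGeometry HomologicalComplex TopologicalSpace
  Opposite MonoidalCategory

attribute [local instance] HasDerivedCategory.standard

namespace Groth.Agent.Lib.H6xRelTorAmpG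

open Groth.Agent.Lib.Helper1.BKF Groth.Agent.Lib.Helper1.CI Groth.Agent.Lib.Helper1.Sky
  Groth.Agent.Lib.Helper1.KBC Groth.Agent.Lib.H6xFlatAmpStalk Groth.Agent.Lib.H6xFlatAmpLocal
  Groth.Agent.Lib.Helper1.Tor Groth.Agent.Lib.H6xRelTorAmp

variable {X Y : Scheme.{u}}

/-- restriction of complexes to an open is the termwise pullback -/
noncomputable def restrictCxPullCIso (U : X.Opens) (F : CochainComplex X.Modules ℤ) :
    (DCoh.restrictCx U).obj F ≅ (pullC U.ι).obj F :=
  (NatIso.mapHomologicalComplex (Scheme.Modules.restrictFunctorIsoPullback U.ι)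
    (ComplexShape.up ℤ)).app F

/-- relative tor amplitude restricts to opens of the base -/
theorem hasTorAmplitude_morphismRestrict (f : X ⟶ Y) (V : Y.Opens)
    (F : CochainComplex X.Modules ℤ) (a b : ℤ) (hF : DerSch.HasTorAmplitude f a b F) :
    DerSch.HasTorAmplitude (f ∣_ V) a b ((DCoh.restrictCx (f ⁻¹ᵁ V)).obj F) := by
  intro x'
  have h1 := hasTorAmp_of_iso (DerivedCategory.Q.mapIso
    (stalkCxOverIso f ((f ⁻¹ᵁ V).ι.base x') F)) (hF ((f ⁻¹ᵁ V).ι.base x'))
  have hw := (morphismRestrictStalkMap f V x').hom.w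
  have hα : Function.Bijective ((f ⁻¹ᵁ V).ι.stalkMap x').hom :=
    ConcreteCategory.bijective_of_isIso ((f ⁻¹ᵁ V).ι.stalkMap x')
  have hγ : Function.Bijective (morphismRestrictStalkMap f V x').hom.left.hom :=
    ConcreteCategory.bijective_of_isIso (morphismRestrictStalkMap f V x').hom.left
  have key := hasTorAmp_resC_ext_of_bijective (morphismRestrictStalkMap f V x').hom.left.hom
    (f.stalkMap ((f ⁻¹ᵁ V).ι.base x')).hom ((f ⁻¹ᵁ V).ι.stalkMap x').hom
    ((f ∣_ V).stalkMap x').hom ?_ hγ hα _ a b h1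
  · refine hasTorAmp_of_iso (DerivedCategory.Q.mapIso ?_).symm key
    exact stalkCxOverIso (f ∣_ V) x' _ ≪≫
      (resC ((f ∣_ V).stalkMap x').hom).mapIso
        ((stalkC x').mapIso (restrictCxPullCIso (f ⁻¹ᵁ V) F) ≪≫ stalkPullCIso (f ⁻¹ᵁ V).ι x' F)
  · have hr : (morphismRestrictStalkMap f V x').hom.right = ((f ⁻¹ᵁ V).stalkIso x').hom := rfl
    have h2 : (f ∣_ V).stalkMap x' = (morphismRestrictStalkMap f V x').hom.left ≫
        f.stalkMap ((f ⁻¹ᵁ V).ι.base x') ≫ (f ⁻¹ᵁ V).ι.stalkMap x' := by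
      rw [← Scheme.Opens.stalkIso_inv, ← Category.assoc, Iso.eq_comp_inv, ← hr]
      exact hw.symm
    exact (congrArg CommRingCat.Hom.hom h2).trans rfl

end Groth.Agent.Lib.H6xRelTorAmpG
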