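import Mathlib
import Groth.Agent.Lib.H6xRelTorAmpH
set_option backward.isDefEq.respectTransparency.types false

/-!
# Relative tor amplitude and flat base change squares (helper6)

For a commutative square of rings `φ' ∘ lam = μ ∘ φ` (`φ : R → A`, `lam : R → R'`, `μ : A → A'`,
`φ' : R' → A'`), a complex `M₀` of `A`-modules and a complex `G` of `R`-modules, the complex
`(A' ⊗_A M₀) ⊗_{R'} (R' ⊗_R G)` is `A' ⊗_A (M₀ ⊗_R G)`.
-/

set_option autoImplicit false
set_option linter.style.haveILetI false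

universe u

open CategoryTheory CategoryTheory.Limits HomologicalComplex MonoidalCategory

attribute [local instance] HasDerivedCategory.standard

namespace Groth.Agent.Lib.H6xRelTorAmp

open DerivedCategory Groth.Agent.Lib.Helper1.KF Groth.Agent.Lib.Helper1.Tor
  Groth.Agent.Lib.Helper1.DT Groth.Agent.Lib.Helper1.TorO Groth.Agent.Lib.Helper1.KBC
  Groth.Agent.Lib.Helper1.TorL

section

variable {R : Type u} [CommRing R]

/-- C0': sufficiency with chosen K-flat resolutions -/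
theorem hasTorAmp_of_exists_kflat (S : Cx R) (a b : ℤ)
    (h : ∀ N : ModuleCat.{u} R, ∃ (F : Cx R) (π : F ⟶ sgl N), KFlat F ∧ QuasiIso π ∧
      ∀ i : ℤ, (i < a ∨ b < i) → IsZero ((S ⊗ F).homology i)) :
    DRing.HasTorAmplitudeIn R a b (Q.obj S) := by
  obtain ⟨G, q, hG, -, hq, -⟩ := exists_kprojective_resolution S
  have hGK : KFlat G := kflat_of_isKProjective G
  have hqi : IsIso (Q.map q) := (DerivedCategory.isIso_Q_map_iff_quasiIso (φ := q)).2 hq
  have h2 : TorVan G a b := by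
    intro N i hi
    obtain ⟨F, π, hF, hπ, hz⟩ := h N
    obtain ⟨e'⟩ := nonempty_homology_iso S G F N q hGK π hF i
    rw [HomologicalComplex.exactAt_iff_isZero_homology]
    exact IsZero.of_iso (hz i hi) e'.symm
  exact hasTorAmp_of_iso (asIso (Q.map q)) (hasTorAmp_of_torVan_kflat G hGK a b h2)

/-- termwise tensor product with a flat module preserves vanishing of cohomology -/
noncomputable def homologyTCxIso (M : ModuleCat.{u} R) [PreservesFiniteLimits (tensorLeft M)]
    (Y : Cx R) (i : ℤ) : (TCx M Y).homology i ≅ M ⊗ Y.homology i :=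
  (Y.sc i).mapHomologyIso (tensorLeft M)

end

section

variable {C B A : Type u} [CommRing C] [CommRing B] [CommRing A]

/-- restriction of scalars along a composite, on complexes -/
noncomputable def resCCompIso (ψ : C →+* B) (φ : B →+* A) (χ : C →+* A) (hχ : χ = φ.comp ψ)
    (X : Cx A) : (resC χ).obj X ≅ (resC ψ).obj ((resC φ).obj X) :=
  (Functor.mapHomologicalComplexCompIso (F := res φ) (G := res ψ) (H := res χ)
    (ModuleCat.restrictScalarsComp'.{u} ψ φ χ hχ).symm (ComplexShape.up ℤ)).symm.app X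

end

variable {R A R' A' : Type u} [CommRing R] [CommRing A] [CommRing R'] [CommRing A']
  (φ : R →+* A) (lam : R →+* R') (μ : A →+* A') (φ' : R' →+* A')

/-- `A'` as an `A`-module -/
noncomputable abbrev AA : ModuleCat.{u} A := (res μ).obj (𝟙_ (ModuleCat.{u} A'))

/-- `A' ⊗_A M₀` -/
theorem nonempty_resC_extC_iso (M₀ : Cx A) :
    Nonempty ((resC μ).obj ((extC μ).obj M₀) ≅ sgl (AA μ) ⊗ M₀) := by
  obtain ⟨e⟩ := nonempty_projIso' μ (𝟙_ (Cx A')) M₀
  exact ⟨(resC μ).mapIso (λ_ ((extC μ).obj M₀)).symm ≪≫ e ≪≫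
    MonoidalCategory.whiskerRightIso
      ((HomologicalComplex.singleMapHomologicalComplex (res μ) (ComplexShape.up ℤ) 0).app
        (𝟙_ (ModuleCat.{u} A'))) M₀⟩

/-- the key isomorphism -/
theorem nonempty_keyIso (hsq : φ'.comp lam = μ.comp φ) (M₀ : Cx A) (G : Cx R) :
    Nonempty ((resC lam).obj ((resC φ').obj ((extC μ).obj M₀) ⊗ (extC lam).obj G) ≅
      (resC φ).obj (TCx (AA μ) (M₀ ⊗ (extC φ).obj G))) := by
  obtain ⟨e1⟩ := nonempty_projIso' lam ((resC φ').obj ((extC μ).obj M₀)) G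
  let e2 : (resC lam).obj ((resC φ').obj ((extC μ).obj M₀)) ≅
      (resC φ).obj ((resC μ).obj ((extC μ).obj M₀)) :=
    (resCCompIso lam φ' (φ'.comp lam) rfl _).symm ≪≫ resCCompIso φ μ (φ'.comp lam) hsq _
  obtain ⟨e3⟩ := nonempty_projIso' φ ((resC μ).obj ((extC μ).obj M₀)) G
  obtain ⟨e4⟩ := nonempty_resC_extC_iso μ M₀
  exact ⟨e1 ≪≫ MonoidalCategory.whiskerRightIso e2 G ≪≫ e3.symm ≪≫
    (resC φ).mapIso (MonoidalCategory.whiskerRightIso e4 ((extC φ).obj G) ≪≫ α_ _ _ _ ≪≫
      (singleTensorIso (AA μ) (M₀ ⊗ (extC φ).obj G)).symm)⟩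

/-- (K1) -/
theorem isZero_homology_iff_TCx (hsq : φ'.comp lam = μ.comp φ) (M₀ : Cx A) (G : Cx R) (i : ℤ) :
    IsZero (((resC φ').obj ((extC μ).obj M₀) ⊗ (extC lam).obj G).homology i) ↔
      IsZero ((TCx (AA μ) (M₀ ⊗ (extC φ).obj G)).homology i) := by
  obtain ⟨e⟩ := nonempty_keyIso φ lam μ φ' hsq M₀ G
  rw [← isZero_homology_resC_iff lam, ← isZero_homology_resC_iff φ (TCx _ _)]
  exact ⟨fun h => IsZero.of_iso h ((HomologicalComplex.homologyFunctor _ _ i).mapIso e.symm),
    fun h => IsZero.of_iso h ((HomologicalComplex.homologyFunctor _ _ i).mapIso e)⟩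

/-- (K3) -/
theorem isZero_homology_tensor_ext_iff (M₀ : Cx A) (G : Cx R) (i : ℤ) :
    IsZero ((M₀ ⊗ (extC φ).obj G).homology i) ↔
      IsZero (((resC φ).obj M₀ ⊗ G).homology i) := by
  obtain ⟨e⟩ := nonempty_projIso' φ M₀ G
  rw [← isZero_homology_resC_iff φ]
  exact ⟨fun h => IsZero.of_iso h ((HomologicalComplex.homologyFunctor _ _ i).mapIso e.symm),
    fun h => IsZero.of_iso h ((HomologicalComplex.homologyFunctor _ _ i).mapIso e)⟩

end Groth.Agent.Lib.H6xRelTorAmp
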