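import Mathlib
import Groth.Agent.Lib.H6xPushStalk
import Groth.Agent.Lib.H6xRelTorAmpI
import Groth.Agent.Lib.H6xRelTorLocA
set_option backward.isDefEq.respectTransparency.types false

/-!
# Relative tor amplitude and pushforward along closed immersions (S6191, helper6)
-/

set_option autoImplicit false
set_option linter.style.haveILetI false

universe u

open CategoryTheory CategoryTheory.Limits AlgebraicGeometry HomologicalComplex TopologicalSpace
  Opposite MonoidalCategory

attribute [local instance] HasDerivedCategory.standard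

namespace Groth.Agent.Lib.H6xRelTorAmpG

open Groth.Agent.Lib.Helper1.BKF Groth.Agent.Lib.Helper1.CI Groth.Agent.Lib.Helper1.Sky
  Groth.Agent.Lib.Helper1.KBC Groth.Agent.Lib.H6xFlatAmpStalk Groth.Agent.Lib.H6xFlatAmpLocal
  Groth.Agent.Lib.Helper1.Tor Groth.Agent.Lib.H6xRelTorAmp Groth.Agent.Lib.H6xPushStalk

variable {X X' Y : Scheme.{u}}

/-- the complex of stalks of a termwise pushforward along an embedding -/
noncomputable def stalkPushCIso (i : X ⟶ X') (hi : Topology.IsInducing i.base) (x : X)
    (F : CochainComplex X.Modules ℤ) :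
    (stalkC (i.base x)).obj
      (((Scheme.Modules.pushforward i).mapHomologicalComplex (ComplexShape.up ℤ)).obj F) ≅
      (resC (i.stalkMap x).hom).obj ((stalkC x).obj F) :=
  HomologicalComplex.Hom.isoOfComponents (fun n => (stalkPushforwardIso i x hi).app (F.X n))
    (fun n m _ => ((stalkPushforwardIso i x hi).hom.naturality (F.d n m)).symm)

/-- tor amplitude of the pushforward gives tor amplitude relative to the embedding -/
theorem hasTorAmplitude_of_pushforward (i : X ⟶ X') (hi : Topology.IsInducing i.base)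
    (F : CochainComplex X.Modules ℤ) (a b : ℤ)
    (hF : DCoh.HasFlatAmplitudeIn a b (DCoh.toD X'
      (((Scheme.Modules.pushforward i).mapHomologicalComplex (ComplexShape.up ℤ)).obj F))) :
    DerSch.HasTorAmplitude i a b F := by
  intro x
  have h := hasTorAmp_stalk_of_hasFlatAmplitudeIn _ a b hF (i.base x)
  exact hasTorAmp_of_iso (DerivedCategory.Q.mapIso
    (stalkPushCIso i hi x F ≪≫ (stalkCxOverIso i x F).symm)) h

/-- relative tor amplitude and composition with a flat morphism -/
theorem hasTorAmplitude_comp_flat (i : X ⟶ X') (f' : X' ⟶ Y) [Flat f']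
    (F : CochainComplex X.Modules ℤ) (a b : ℤ) (hF : DerSch.HasTorAmplitude i a b F) :
    DerSch.HasTorAmplitude (i ≫ f') a b F := by
  intro x
  have h1 := hasTorAmp_of_iso (DerivedCategory.Q.mapIso (stalkCxOverIso i x F)) (hF x)
  have h2 := hasTorAmp_resC_of_flat (f'.stalkMap (i.base x)).hom (Flat.stalkMap f' (i.base x))
    _ a b h1
  have hχ : ((i ≫ f').stalkMap x).hom = (i.stalkMap x).hom.comp (f'.stalkMap (i.base x)).hom := by
    rw [Scheme.Hom.stalkMap_comp]
    rfl
  exact hasTorAmp_of_iso (DerivedCategory.Q.mapIso (stalkCxOverIso (i ≫ f') x F ≪≫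
    resCCompIso (f'.stalkMap (i.base x)).hom (i.stalkMap x).hom _ hχ _)).symm h2

/-- S6191 -/
theorem main_push (i : X ⟶ X') [IsClosedImmersion i]
    (f' : X' ⟶ Y) [Smooth f'] (F : CochainComplex X.Modules ℤ) (a b : ℤ)
    (hF : DCoh.HasFlatAmplitudeIn a b (DCoh.toD X'
      (((Scheme.Modules.pushforward i).mapHomologicalComplex (ComplexShape.up ℤ)).obj F))) :
    DerSch.HasTorAmplitude (i ≫ f') a b F :=
  hasTorAmplitude_comp_flat i f' F a b
    (hasTorAmplitude_of_pushforward i i.isClosedEmbedding.isInducing F a b hF)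

end Groth.Agent.Lib.H6xRelTorAmpG
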