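import Mathlib
import Groth.Agent.Lib.H6xRelTorAmpH
import Groth.Agent.Lib.H6xHasLDerRing
import Groth.Agent.Lib.Helper1TorK
import Groth.Agent.S7032
import Groth.Agent.Lib.Helper1TorDim
set_option backward.isDefEq.respectTransparency.types false

/-!
# Tor amplitude over the base gives tor amplitude upstairs, with a shift (ring level, helper6)

If `A → B` is flat and every `B`-module which is flat over `A` has tor dimension `≤ n` over `B`
(e.g. `A → B` smooth of relative dimension `n`), then a complex of `B`-modules with tor amplitude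
in `[a, b]` over `A` has tor amplitude in `[a - n, b]` over `B`.
-/

set_option autoImplicit false
set_option linter.style.haveILetI false

universe u

open CategoryTheory CategoryTheory.Limits HomologicalComplex MonoidalCategory

attribute [local instance] HasDerivedCategory.standard

namespace Groth.Agent.Lib.H6xRelTorAmp

open DerivedCategory Groth.Agent.Lib.Helper1.KF Groth.Agent.Lib.Helper1.Tor
  Groth.Agent.Lib.Helper1.DT Groth.Agent.Lib.Helper1.TorO Groth.Agent.Lib.Helper1.KBC
  Groth.Agent.Lib.Helper1.TorL Groth.Agent.Lib.Helper1.ProjRes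

variable {A B : Type u} [CommRing A] [CommRing B] (β : A →+* B)

/-- Theorem SM -/
theorem hasTorAmp_of_relative_of_flat_modules (hβ : β.Flat) (n : ℕ)
    (Hmod : ∀ Z : ModuleCat.{u} B, Module.Flat A ((res β).obj Z) →
      DRing.HasTorAmplitudeIn B (-(n : ℤ)) 0 (Dual.inD B Z))
    (T : Cx B) (a b : ℤ) (hab : a ≤ b)
    (h : DRing.HasTorAmplitudeIn A a b (Q.obj ((resC β).obj T))) :
    DRing.HasTorAmplitudeIn B (a - n) b (Q.obj T) := by
  haveI : ∀ M : ModuleCat.{u} B, DRing.HasLTensor B M :=
    fun M => Groth.Agent.Lib.H6xHasLDerRing.hasLTensor M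
  obtain ⟨E, hE, hEf, ⟨e⟩⟩ := h
  -- the cohomology of `T` vanishes above `b`
  have hTle : (Q.obj T).IsLE b := by
    rw [DerivedCategory.isLE_iff]
    intro i hi
    have h1 : IsZero (E.homology i) :=
      Groth.Agent.Lib.Helper1.CI.isZero_homology_of_isZero_X E i (hE i (Or.inr hi))
    have h2 : IsZero (((resC β).obj T).homology i) :=
      IsZero.of_iso h1 (((DerivedCategory.homologyFunctorFactors _ i).app _).symm ≪≫
        (DerivedCategory.homologyFunctor _ i).mapIso e.symm ≪≫
        (DerivedCategory.homologyFunctorFactors _ i).app E)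
    rw [isZero_homology_resC_iff] at h2
    exact IsZero.of_iso h2 ((DerivedCategory.homologyFunctorFactors _ i).app T)
  obtain ⟨P, hPle, hPproj, ⟨eP⟩⟩ := exists_iso_Q_proj (Q.obj T) b
  have hPb : DRing.VanishesAbove P b := fun i hi => P.isZero_of_isStrictlyLE b i hi
  have hPf : DRing.TermwiseFlat P := termwiseFlat_of_projective P hPproj
  have hPAb : DRing.VanishesAbove ((resC β).obj P) b :=
    fun i hi => (res β).map_isZero (hPb i hi)
  have hPAf : DRing.TermwiseFlat ((resC β).obj P) :=
    fun i => flat_res_of_flat β hβ _ (hPf i)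
  obtain ⟨e1⟩ := nonempty_Q_resC_iso β eP
  have htv : TorVan ((resC β).obj P) a b :=
    torVan_of_iso _ E b hPAb hPAf a b hE hEf (e ≪≫ e1.symm)
  have hex : ∀ i : ℤ, (i < a ∨ b < i) → P.ExactAt i := fun i hi => by
    have h1 := htv.exactAt i hi
    rw [HomologicalComplex.exactAt_iff_isZero_homology] at h1 ⊢
    rwa [isZero_homology_resC_iff] at h1
  have hflatA : Module.Flat A ((res β).obj (P.opcycles a)) :=
    flat_of_torVan _ hPAf a b htv ((res β).map (P.pOpcycles a)).hom
      ((ModuleCat.epi_iff_surjective (P.pOpcycles a)).1 inferInstance)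
      (fexact_d_pOpcycles P a)
  have hPge : CochainComplex.IsGE P a := by
    rw [CochainComplex.isGE_iff]
    exact fun i hi => hex i (Or.inl hi)
  have hq : QuasiIso (P.πTruncGE a) := (P.quasiIso_πTruncGE_iff a).2 hPge
  have hiso : IsIso (Q.map (P.πTruncGE a)) :=
    (DerivedCategory.isIso_Q_map_iff_quasiIso (φ := P.πTruncGE a)).2 hq
  have hG'out : DRing.VanishesOutside (P.truncGE a) a b := by
    intro i hi
    rcases hi with hi | hi
    · exact (P.truncGE a).isZero_of_isStrictlyGE a i hi
    · have hi1 : a < i := lt_of_le_of_lt hab hi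
      exact (hPb i hi).of_iso (P.truncGEXIso a i hi1)
  have key := Groth.Agent.S7032.result B (a - n) b (P.truncGE a) a b hG'out (fun i => ?_)
  · exact hasTorAmp_of_iso ((asIso (Q.map (P.πTruncGE a))).symm ≪≫ eP) key
  · obtain hi | rfl | hi := lt_trichotomy i a
    · exact hasTorAmp_of_isZero _ ((DerivedCategory.singleFunctor _ 0).map_isZero
        ((P.truncGE a).isZero_of_isStrictlyGE a i hi)) _ _
    · have h1 := Hmod (P.opcycles i) hflatA
      have h2 := hasTorAmp_of_iso ((DerivedCategory.singleFunctor (ModuleCat.{u} B) 0).mapIso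
        (P.truncGEXIsoOpcycles i).symm) h1
      exact hasTorAmp_mono (by omega) (by omega) h2
    · by_cases hib : b < i
      · exact hasTorAmp_of_isZero _ ((DerivedCategory.singleFunctor _ 0).map_isZero
          (hG'out i (Or.inr hib))) _ _
      · haveI : Module.Flat B (P.X i) := hPf i
        have h1 : DRing.HasTorAmplitudeIn B (-((0 : ℕ) : ℤ)) 0 (Dual.inD B (P.X i)) :=
          (Groth.Agent.Lib.Helper1.TorDim.hasTorDimLE_iff_hasTorAmp (P.X i) 0).1
            ((Groth.Agent.Lib.Helper1.TorDim.hasTorDimLE_zero_iff_flat (P.X i)).2 inferInstance)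
        have h2 := hasTorAmp_of_iso ((DerivedCategory.singleFunctor (ModuleCat.{u} B) 0).mapIso
          (P.truncGEXIso a i hi).symm) h1
        exact hasTorAmp_mono (by push_cast; omega) (by omega) h2

end Groth.Agent.Lib.H6xRelTorAmp
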