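import Mathlib
import Groth.Agent.Lib.Helper14TorSyz

set_option autoImplicit false
set_option linter.style.haveILetI false
set_option linter.unusedVariables false
set_option linter.unusedSectionVars false
universe u

open Polynomial TensorProduct

namespace Groth.Agent.Lib.R2H3.PolyTorDim

open Groth.Agent.Lib.Helper14.TorSyz Groth.Agent.Lib.Helper1.TorDim

section CharSeq

variable {R : Type u} [CommRing R] {M : Type u} [AddCommGroup M] [Module R M] [Module R[X] M]
  [IsScalarTower R R[X] M]

/-- multiplication by `X` on an `R[X]`-module as an `R`-linear map -/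
noncomputable def mulX : M →ₗ[R] M where
  toFun m := (X : R[X]) • m
  map_add' := smul_add _
  map_smul' r m := by
    simp only [RingHom.id_apply]
    exact smul_comm _ _ _

omit [IsScalarTower R R[X] M] in
@[simp] lemma mulX_apply [IsScalarTower R R[X] M] (m : M) : mulX (R := R) m = (X : R[X]) • m := rfl

variable (R M) in
/-- the map `X ⊗ 1 - 1 ⊗ X` on `M[X]` -/
noncomputable def delta : PolynomialModule R M →ₗ[R[X]] PolynomialModule R M where
  toFun q := (X : R[X]) • q - PolynomialModule.map R (mulX (R := R) (M := M)) q
  map_add' a b := by simp only [smul_add, map_add]; abel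
  map_smul' p q := by
    simp only [RingHom.id_apply]
    rw [PolynomialModule.map_smul, Algebra.algebraMap_self, Polynomial.map_id, smul_sub,
      smul_smul, smul_smul, mul_comm]

lemma delta_single (i : ℕ) (m : M) :
    delta R M (PolynomialModule.single R i m) =
      PolynomialModule.single R (i + 1) m - PolynomialModule.single R i ((X : R[X]) • m) := by
  show (X : R[X]) • PolynomialModule.single R i m - PolynomialModule.map R mulX _ = _
  rw [PolynomialModule.map_single, ← Polynomial.monomial_one_one_eq_X,
    PolynomialModule.monomial_smul_single, one_smul, add_comm 1 i]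
  rfl

lemma delta_coeff_succ (q : PolynomialModule R M) (n : ℕ) :
    (delta R M q).coeff (n + 1) = q.coeff n - (X : R[X]) • q.coeff (n + 1) := by
  show ((X : R[X]) • q - PolynomialModule.map R mulX q).coeff (n + 1) = _
  rw [← Polynomial.monomial_one_one_eq_X]
  have h1 : ((Polynomial.monomial 1 (1 : R)) • q).coeff (n + 1) = q.coeff n := by
    rw [PolynomialModule.monomial_smul_apply]
    simp
  have h2 : (PolynomialModule.map R (mulX (R := R) (M := M)) q).coeff (n + 1)
      = (Polynomial.monomial 1 (1 : R)) • q.coeff (n + 1) := by
    rw [Polynomial.monomial_one_one_eq_X]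
    rfl
  rw [← h1, ← h2]
  rfl

variable (R M) in
/-- the evaluation map `M[X] → M` -/
noncomputable def eps : PolynomialModule R M →ₗ[R[X]] M :=
  (LinearMap.liftBaseChange R[X] (LinearMap.id : M →ₗ[R] M)) ∘ₗ
    (PolynomialModule.polynomialTensorProductLEquivPolynomialModule R M).symm.toLinearMap

lemma equiv_tmul (p : R[X]) (m : M) :
    PolynomialModule.polynomialTensorProductLEquivPolynomialModule R M (p ⊗ₜ m) =
      p • PolynomialModule.single R 0 m := by
  show (LinearMap.liftBaseChange R[X] (PolynomialModule.lsingle R (M := M) 0)) (p ⊗ₜ m) = _
  rw [LinearMap.liftBaseChange_tmul]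
  rfl

lemma eps_single (i : ℕ) (m : M) :
    eps R M (PolynomialModule.single R i m) = (X ^ i : R[X]) • m := by
  have h : (PolynomialModule.polynomialTensorProductLEquivPolynomialModule R M).symm
      (PolynomialModule.single R i m) = (X ^ i : R[X]) ⊗ₜ m := by
    rw [LinearEquiv.symm_apply_eq, equiv_tmul, ← Polynomial.monomial_one_right_eq_X_pow,
      PolynomialModule.monomial_smul_single, one_smul, add_zero]
  show (LinearMap.liftBaseChange R[X] (LinearMap.id : M →ₗ[R] M))
    ((PolynomialModule.polynomialTensorProductLEquivPolynomialModule R M).symm
      (PolynomialModule.single R i m)) = _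
  rw [h, LinearMap.liftBaseChange_tmul]
  rfl

lemma eps_surjective : Function.Surjective (eps R M) := fun m =>
  ⟨PolynomialModule.single R 0 m, by rw [eps_single, pow_zero, one_smul]⟩

lemma eps_delta (q : PolynomialModule R M) : eps R M (delta R M q) = 0 := by
  induction q using PolynomialModule.induction_linear with
  | zero => simp
  | add a b ha hb => rw [map_add, map_add, ha, hb, add_zero]
  | single i m =>
    rw [delta_single, map_sub, eps_single, eps_single, pow_succ, mul_smul, sub_self]

lemma sub_single_eps_mem (q : PolynomialModule R M) :
    q - PolynomialModule.single R 0 (eps R M q) ∈ LinearMap.range (delta R M) := by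
  induction q using PolynomialModule.induction_linear with
  | zero => simp
  | add a b ha hb =>
    have : a + b - PolynomialModule.single R 0 (eps R M (a + b)) =
        (a - PolynomialModule.single R 0 (eps R M a)) +
          (b - PolynomialModule.single R 0 (eps R M b)) := by
      rw [map_add, PolynomialModule.single_add]; abel
    rw [this]
    exact Submodule.add_mem _ ha hb
  | single i m =>
    induction i with
    | zero => rw [eps_single, pow_zero, one_smul, sub_self]; exact Submodule.zero_mem _
    | succ i ih =>
      have h1 : PolynomialModule.single R (i + 1) m -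
          PolynomialModule.single R 0 (eps R M (PolynomialModule.single R (i + 1) m)) =
          (X : R[X]) • (PolynomialModule.single R i m -
            PolynomialModule.single R 0 (eps R M (PolynomialModule.single R i m))) +
          delta R M (PolynomialModule.single R 0 ((X ^ i : R[X]) • m)) := by
        rw [delta_single, eps_single, eps_single, smul_sub]
        have hX : ∀ (j : ℕ) (m' : M), (X : R[X]) • PolynomialModule.single R j m' =
            PolynomialModule.single R (j + 1) m' := by
          intro j m'
          rw [← Polynomial.monomial_one_one_eq_X, PolynomialModule.monomial_smul_single,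
            one_smul, add_comm]
        rw [hX, hX, pow_succ', mul_smul]
        abel
      rw [h1]
      exact Submodule.add_mem _ (Submodule.smul_mem _ _ ih) (LinearMap.mem_range_self _ _)

lemma exact_delta_eps : Function.Exact (delta R M) (eps R M) := by
  intro q
  constructor
  · intro h
    have := sub_single_eps_mem q
    rw [h, PolynomialModule.single_zero, sub_zero] at this
    exact this
  · rintro ⟨q', rfl⟩
    exact eps_delta q'

lemma delta_injective : Function.Injective (delta R M) := by
  rw [← LinearMap.ker_eq_bot, LinearMap.ker_eq_bot']
  intro q hq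
  have hrec : ∀ n, q.coeff n = (X : R[X]) • q.coeff (n + 1) := by
    intro n
    have := delta_coeff_succ q n
    rw [hq] at this
    have h0 : (0 : PolynomialModule R M).coeff (n + 1) = 0 := rfl
    rw [h0] at this
    exact (sub_eq_zero.1 this.symm)
  have hstep : ∀ k n, q.coeff (n + k) = 0 → q.coeff n = 0 := by
    intro k
    induction k with
    | zero => intro n h; simpa using h
    | succ k ih =>
      intro n h
      rw [hrec n, ih (n + 1) (by rw [add_assoc, add_comm 1 k]; exact h), smul_zero]
  rw [← PolynomialModule.coeff_eq_zero]
  ext n
  refine hstep (q.coeff.support.sup id + 1) n ?_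
  by_contra hne
  have hmem : n + (q.coeff.support.sup id + 1) ∈ q.coeff.support := Finsupp.mem_support_iff.2 hne
  have := Finset.le_sup (f := id) hmem
  simp only [id] at this
  omega


lemma flat_polynomialModule [Module.Flat R M] : Module.Flat R[X] (PolynomialModule R M) :=
  Module.Flat.of_linearEquiv
    (PolynomialModule.polynomialTensorProductLEquivPolynomialModule R M).symm

/-- a flat `R`-module with an `R[X]`-structure has tor dimension `≤ 1` over `R[X]` -/
theorem hasTorDimLE_one_of_flat [Module.Flat R M] : DRing.HasTorDimLE R[X] 1 M := by
  have := flat_polynomialModule (R := R) (M := M)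
  exact hasTorDimLE_coker (delta R M) (eps R M) delta_injective eps_surjective exact_delta_eps 0
    ((hasTorDimLE_zero_iff_flat _).2 this)

end CharSeq

section General

variable {R : Type u} [CommRing R]

/-- tor dimension over `R[X]` is at most one more than over `R` -/
theorem hasTorDimLE_polynomial (d : ℕ) : ∀ (M : Type u) [AddCommGroup M] [Module R M]
    [Module R[X] M] [IsScalarTower R R[X] M],
    DRing.HasTorDimLE R d M → DRing.HasTorDimLE R[X] (d + 1) M := by
  induction d with
  | zero =>
    intro M _ _ _ _ h
    have := (hasTorDimLE_zero_iff_flat M).1 h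
    exact hasTorDimLE_one_of_flat
  | succ d ih =>
    intro M _ _ _ _ h
    let g : (M →₀ R[X]) →ₗ[R[X]] M := Finsupp.linearCombination R[X] id
    have hg : Function.Surjective g := Finsupp.linearCombination_id_surjective R[X] M
    have hflat : Module.Flat R (M →₀ R[X]) := inferInstance
    have hK : DRing.HasTorDimLE R d (LinearMap.ker g) := by
      refine hasTorDimLE_ker ((LinearMap.ker g).subtype.restrictScalars R) (g.restrictScalars R)
        (LinearMap.ker g).injective_subtype hg ?_ d h
      exact (LinearMap.exact_subtype_ker_map g)
    have hK' := ih (LinearMap.ker g) hK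
    exact hasTorDimLE_coker (LinearMap.ker g).subtype g (LinearMap.ker g).injective_subtype hg
      (LinearMap.exact_subtype_ker_map g) (d + 1) hK'

/-- tor dimension transports along a bijective algebra map -/
theorem hasTorDimLE_of_bijective (A B : Type u) [CommRing A] [CommRing B] [Algebra A B]
    (hb : Function.Bijective (algebraMap A B)) (k : ℕ) (N : Type u) [AddCommGroup N]
    [Module A N] [Module B N] [IsScalarTower A B N] (h : DRing.HasTorDimLE A k N) :
    DRing.HasTorDimLE B k N := by
  have : Algebra.Etale A B :=
    Algebra.Etale.of_equiv (AlgEquiv.ofBijective (Algebra.ofId A B) hb)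
  exact hasTorDimLE_of_weaklyEtale A B k N h

end General

section MvPoly

variable (A : Type u) [CommRing A]

/-- tor dimension over `A[x_1, …, x_n]` is at most `n` more than over `A` -/
theorem hasTorDimLE_mvPolynomial (n : ℕ) : ∀ (d : ℕ) (M : Type u) [AddCommGroup M] [Module A M]
    [Module (MvPolynomial (Fin n) A) M] [IsScalarTower A (MvPolynomial (Fin n) A) M],
    DRing.HasTorDimLE A d M → DRing.HasTorDimLE (MvPolynomial (Fin n) A) (d + n) M := by
  induction n with
  | zero =>
    intro d M _ _ _ _ h
    refine hasTorDimLE_of_bijective A (MvPolynomial (Fin 0) A) ?_ d M h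
    have := (MvPolynomial.isEmptyAlgEquiv A (Fin 0)).symm.bijective
    convert this using 1
    ext a
    simp
  | succ n ih =>
    intro d M _ _ _ _ h
    let P := MvPolynomial (Fin n) A
    let S := MvPolynomial (Fin (n + 1)) A
    let e : S ≃ₐ[A] P[X] := MvPolynomial.finSuccEquiv A n
    letI : Module P[X] M := Module.compHom M (e.symm : P[X] →+* S)
    letI : Module P M := Module.compHom M ((e.symm : P[X] →+* S).comp (Polynomial.C))
    haveI : IsScalarTower P P[X] M := ⟨fun p q m => by
      show e.symm (p • q) • m = e.symm (C p) • (e.symm q • m)
      rw [← mul_smul, ← map_mul, Polynomial.smul_eq_C_mul]⟩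
    haveI : IsScalarTower A P M := ⟨fun a p m => by
      show e.symm (C (a • p)) • m = a • (e.symm (C p) • m)
      rw [← Polynomial.smul_C, map_smul, smul_assoc]⟩
    have h1 : DRing.HasTorDimLE P (d + n) M := ih d M h
    have h2 : DRing.HasTorDimLE P[X] (d + n + 1) M := hasTorDimLE_polynomial (d + n) M h1
    letI : Algebra P[X] S := (e.symm : P[X] →+* S).toAlgebra
    haveI : IsScalarTower P[X] S M := ⟨fun q s m => by
      show (e.symm q * s) • m = e.symm q • (s • m)
      rw [mul_smul]⟩
    exact hasTorDimLE_of_bijective P[X] S e.symm.bijective (d + n + 1) M h2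

end MvPoly

end Groth.Agent.Lib.R2H3.PolyTorDim
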