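import Mathlib
import Groth.Prelude.Def_DRing2
import Groth.Agent.S2066
import Groth.Agent.S2068
import Groth.Agent.Lib.Helper1PC

/-!
# A pseudo-coherent module is finitely presented
-/

set_option autoImplicit false
universe u
open CategoryTheory CategoryTheory.Limits
attribute [local instance] HasDerivedCategory.standard

namespace Groth.Agent.Lib.R2H3.PCMod

open DerivedCategory

/-- A pseudo-coherent module (the module in degree `0` is isomorphic in `D(A)` to a bounded above
complex of finite free modules) is finitely presented. -/
theorem finitePresentation_of_isPseudoCoherentModule' {A : Type u} [CommRing A] (M : Type u)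
    [AddCommGroup M] [Module A M] (h : DRing.IsPseudoCoherentModule' A M) :
    Module.FinitePresentation A M := by
  have h1 : DRing.IsPseudoCoherent A (-1) (Dual.inD A M) :=
    (Groth.Agent.S2066.result (Dual.inD A M)).1.2 h (-1)
  have h2 := (Groth.Agent.S2068.result (Dual.inD A M) (-1) h1).2 (by
    intro i hi
    exact Groth.Agent.Lib.Helper1.PC.isZero_homology_single (ModuleCat.of A M) 0 i (by omega))
  have e : ((DerivedCategory.homologyFunctor (ModuleCat.{u} A) (-1 + 1)).obj (Dual.inD A M)) ≅
      ModuleCat.of A M := by
    have : (-1 + 1 : ℤ) = 0 := by norm_num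
    rw [this]
    exact Groth.Agent.Lib.Helper1.PC.homologySingleIso (ModuleCat.of A M) 0
  exact Module.FinitePresentation.of_equiv e.toLinearEquiv

end Groth.Agent.Lib.R2H3.PCMod
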