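import Groth.Agent.Lib.R2H2KoszulLim

/-!
# The top cohomology of the iterated-cone Koszul complex (helper2, round 2)

* `top gs : M ≃ (koszulCx M gs).X 0` (as an injective and surjective linear map), `InBd gs x`
  (recursive form of `x ∈ (gs) M`), `bd_iff` (the boundaries in degree `0`);
* `piTop gs : M → H^0(koszulCx M gs)`: surjective, with kernel `InBd gs`, compatible with
  `koszulTrans` (multiplication by `(∏ fs)^(m-n)`);
* `exists_addEquiv_of_compat`: an additive description of a direct limit over `ℕ` of modules by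
  compatible additive maps;
* `exists_descend`, `restrictScalarsEquiv`.
-/

set_option autoImplicit false
universe u

namespace Groth.Agent.Lib.R2H2.KoszulTop

open CategoryTheory CategoryTheory.Limits CochainComplex CohIII
open Groth.Agent.Lib.Helper21 Groth.Agent.Lib.R2H2.KoszulLow Groth.Agent.Lib.R2H2.KoszulLim

variable {A : Type u} [CommRing A]

section Top

variable (M : Type u) [AddCommGroup M] [Module A M]

/-- membership in `(gs) M`, recursively -/
def InBd : List A → M → Prop
  | [], x => x = 0
  | g :: gs, x => ∃ a : M, InBd gs (x - g • a)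

variable {M}

lemma InBd.map_eq_zero {P : Type*} [AddCommGroup P] (Ψ : M →+ P) :
    ∀ (gs : List A) (_ : ∀ g ∈ gs, ∀ a : M, Ψ (g • a) = 0) (x : M), InBd M gs x → Ψ x = 0
  | [], _, x, hx => by
    have : x = 0 := hx
    rw [this, map_zero]
  | g :: gs, h, x, hx => by
    obtain ⟨a, ha⟩ := hx
    have h1 := InBd.map_eq_zero Ψ gs (fun g' hg' => h g' (List.mem_cons_of_mem _ hg')) _ ha
    rw [map_sub, h g List.mem_cons_self a, sub_zero] at h1
    exact h1

lemma inBd_of_mem_span : ∀ (gs : List A) (x : A), x ∈ Ideal.span {y | y ∈ gs} → InBd A gs x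
  | [], x, hx => by
    have h1 : {y : A | y ∈ ([] : List A)} = ∅ := by
      ext y
      simp
    rw [h1, Ideal.span_empty, Ideal.mem_bot] at hx
    exact hx
  | g :: gs, x, hx => by
    have h1 : {y : A | y ∈ g :: gs} = insert g {y | y ∈ gs} := by
      ext y
      simp [List.mem_cons]
    rw [h1, Ideal.mem_span_insert] at hx
    obtain ⟨a, z, hz, hxz⟩ := hx
    refine ⟨a, inBd_of_mem_span gs _ ?_⟩
    have : x - g • a = z := by
      rw [hxz, smul_eq_mul]
      ring
    rw [this]
    exact hz

variable (M)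

lemma subsingleton_X_pos (gs : List A) (j : ℤ) (hj : 0 < j) :
    Subsingleton ((koszulCx (ModuleCat.of A M) gs).X j) :=
  ModuleCat.subsingleton_of_isZero (isZero_koszulCx_X_pos (ModuleCat.of A M) gs j hj)

/-- the top term of the Koszul complex is the module itself -/
noncomputable def top : ∀ gs : List A, M →ₗ[A] (koszulCx (ModuleCat.of A M) gs).X 0
  | [] => ((HomologicalComplex.singleObjXSelf (ComplexShape.up ℤ) 0
      (ModuleCat.of A M)).symm.toLinearEquiv).toLinearMap
  | g :: gs => (cr (g • 𝟙 (koszulCx (ModuleCat.of A M) gs)) 0).comp (top gs)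

lemma top_cons (g : A) (gs : List A) (x : M) :
    top M (g :: gs) x = cr (g • 𝟙 (koszulCx (ModuleCat.of A M) gs)) 0 (top M gs x) := rfl

lemma top_injective : ∀ gs : List A, Function.Injective (top M gs)
  | [] => ((HomologicalComplex.singleObjXSelf (ComplexShape.up ℤ) 0
      (ModuleCat.of A M)).symm.toLinearEquiv).injective
  | g :: gs => by
    intro x y hxy
    rw [top_cons, top_cons] at hxy
    have h1 := congrArg (cs (g • 𝟙 (koszulCx (ModuleCat.of A M) gs)) 0) hxy
    rw [cs_cr, cs_cr] at h1
    exact top_injective gs h1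

lemma top_surjective : ∀ gs : List A, Function.Surjective (top M gs)
  | [] => ((HomologicalComplex.singleObjXSelf (ComplexShape.up ℤ) 0
      (ModuleCat.of A M)).symm.toLinearEquiv).surjective
  | g :: gs => by
    intro y
    let y' : (mappingCone (g • 𝟙 (koszulCx (ModuleCat.of A M) gs))).X 0 := y
    obtain ⟨x, hx⟩ := top_surjective gs (cs (g • 𝟙 (koszulCx (ModuleCat.of A M) gs)) 0 y')
    refine ⟨x, ?_⟩
    have := subsingleton_X_pos M gs 1 one_pos
    change cr (g • 𝟙 (koszulCx (ModuleCat.of A M) gs)) 0 (top M gs x) = y'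
    apply cone_ext _ 0 1 rfl
    · exact Subsingleton.elim _ _
    · rw [cs_cr, hx]

lemma d_top_eq_zero (gs : List A) (z : (koszulCx (ModuleCat.of A M) gs).X 0) :
    ((koszulCx (ModuleCat.of A M) gs).d 0 1).hom z = 0 := by
  have := subsingleton_X_pos M gs 1 one_pos
  exact Subsingleton.elim _ _

/-- the boundaries in the top degree -/
lemma bd_iff : ∀ (gs : List A) (x : M),
    (∃ y : (koszulCx (ModuleCat.of A M) gs).X (-1),
      ((koszulCx (ModuleCat.of A M) gs).d (-1) 0).hom y = top M gs x) ↔ InBd M gs x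
  | [], x => by
    have : Subsingleton ((koszulCx (ModuleCat.of A M) []).X (-1)) :=
      ModuleCat.subsingleton_of_isZero
        (HomologicalComplex.isZero_single_obj_X (ComplexShape.up ℤ) 0 (ModuleCat.of A M) (-1)
          (by omega))
    constructor
    · rintro ⟨y, hy⟩
      rw [Subsingleton.elim y 0, map_zero] at hy
      apply top_injective (A := A) M []
      rw [← hy, map_zero]
    · intro hx
      have : x = 0 := hx
      exact ⟨0, by rw [this, map_zero, map_zero]⟩
  | g :: gs, x => by
    have := subsingleton_X_pos M gs 1 one_pos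
    constructor
    · rintro ⟨y, hy⟩
      let y' : (mappingCone (g • 𝟙 (koszulCx (ModuleCat.of A M) gs))).X (-1) := y
      have hy' : ((mappingCone (g • 𝟙 (koszulCx (ModuleCat.of A M) gs))).d (-1) 0).hom y' =
          cr (g • 𝟙 (koszulCx (ModuleCat.of A M) gs)) 0 (top M gs x) := hy
      have h1 := cs_d (g • 𝟙 (koszulCx (ModuleCat.of A M) gs)) (-1) 0 (by norm_num) y'
      rw [hy', cs_cr, smul_id_f_apply] at h1
      obtain ⟨a, ha⟩ := top_surjective M gs
        (cf (g • 𝟙 (koszulCx (ModuleCat.of A M) gs)) (-1) 0 (by norm_num) y')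
      refine ⟨a, (bd_iff gs _).mp ⟨cs (g • 𝟙 (koszulCx (ModuleCat.of A M) gs)) (-1) y', ?_⟩⟩
      rw [map_sub, map_smul, ha, h1]
      abel
    · rintro ⟨a, ha⟩
      obtain ⟨b, hb⟩ := (bd_iff gs _).mpr ha
      let y' : (mappingCone (g • 𝟙 (koszulCx (ModuleCat.of A M) gs))).X (-1) :=
        ci (g • 𝟙 (koszulCx (ModuleCat.of A M) gs)) (-1) 0 (by norm_num) (top M gs a) +
          cr (g • 𝟙 (koszulCx (ModuleCat.of A M) gs)) (-1) b
      refine ⟨y', ?_⟩
      change ((mappingCone (g • 𝟙 (koszulCx (ModuleCat.of A M) gs))).d (-1) 0).hom y' =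
          cr (g • 𝟙 (koszulCx (ModuleCat.of A M) gs)) 0 (top M gs x)
      apply cone_ext _ 0 1 rfl
      · exact Subsingleton.elim _ _
      · rw [cs_d (g • 𝟙 (koszulCx (ModuleCat.of A M) gs)) (-1) 0 (by norm_num) y', cs_cr,
          smul_id_f_apply]
        simp only [y']
        rw [map_add, map_add, cf_ci, cf_cr, cs_ci, cs_cr, add_zero, zero_add, hb, map_sub,
          map_smul]
        abel

/-- the transition maps on the top term -/
lemma trans_top (n m : ℕ) (h : n ≤ m) : ∀ (fs : List A) (x : M),
    ((koszulTrans (ModuleCat.of A M) n m h fs).f 0).hom (top M (fs.map (· ^ n)) x) =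
      top M (fs.map (· ^ m)) (fs.prod ^ (m - n) • x)
  | [], x => by
    rw [List.prod_nil, one_pow, one_smul]
    rfl
  | f :: fs, x => by
    have := subsingleton_X_pos M (fs.map (· ^ m)) 1 one_pos
    have ih := trans_top n m h fs x
    rw [koszulTrans_cons]
    change ((mappingCone.map (f ^ n • 𝟙 (koszulCx (ModuleCat.of A M) (fs.map (· ^ n))))
        (f ^ m • 𝟙 (koszulCx (ModuleCat.of A M) (fs.map (· ^ m))))
        (koszulTrans (ModuleCat.of A M) n m h fs)
        (f ^ (m - n) • koszulTrans (ModuleCat.of A M) n m h fs)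
        (trans_comm (ModuleCat.of A M) n m h f fs)).f 0).hom
        (cr (f ^ n • 𝟙 (koszulCx (ModuleCat.of A M) (fs.map (· ^ n)))) 0
          (top M (fs.map (· ^ n)) x)) =
      cr (f ^ m • 𝟙 (koszulCx (ModuleCat.of A M) (fs.map (· ^ m)))) 0
        (top M (fs.map (· ^ m)) ((f :: fs).prod ^ (m - n) • x))
    apply cone_ext _ 0 1 rfl
    · exact Subsingleton.elim _ _
    · rw [cs_map, cs_cr, cs_cr]
      have h1 : ((f ^ (m - n) • koszulTrans (ModuleCat.of A M) n m h fs).f 0).hom
          (top M (fs.map (· ^ n)) x) =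
          f ^ (m - n) • ((koszulTrans (ModuleCat.of A M) n m h fs).f 0).hom
            (top M (fs.map (· ^ n)) x) := by
        simp
      rw [h1, ih, ← map_smul, smul_smul, List.prod_cons, mul_pow]

/-- all top elements are cocycles -/
lemma top_mem_ker (gs : List A) (x : M) :
    top M gs x ∈ LinearMap.ker ((koszulCx (ModuleCat.of A M) gs).d 0 1).hom :=
  d_top_eq_zero M gs _

/-- the projection onto the top cohomology -/
noncomputable def piTop (gs : List A) : M →ₗ[A] (koszulCx (ModuleCat.of A M) gs).homology 0 :=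
  (cls (koszulCx (ModuleCat.of A M) gs) 0 1 rfl).comp
    ((top M gs).codRestrict _ (top_mem_ker M gs))

lemma piTop_apply (gs : List A) (x : M) :
    piTop M gs x = cls (koszulCx (ModuleCat.of A M) gs) 0 1 rfl ⟨top M gs x, top_mem_ker M gs x⟩ :=
  rfl

lemma piTop_surjective (gs : List A) : Function.Surjective (piTop M gs) := by
  intro w
  obtain ⟨z, rfl⟩ := cls_surjective (koszulCx (ModuleCat.of A M) gs) 0 1 rfl w
  obtain ⟨x, hx⟩ := top_surjective M gs z.1
  refine ⟨x, ?_⟩
  rw [piTop_apply]
  congr 1
  exact Subtype.ext hx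

lemma piTop_eq_zero_iff (gs : List A) (x : M) : piTop M gs x = 0 ↔ InBd M gs x := by
  rw [piTop_apply, cls_eq_zero_iff (koszulCx (ModuleCat.of A M) gs) (-1) 0 1 (by norm_num) rfl]
  exact bd_iff M gs x

lemma homologyMap_trans_piTop (fs : List A) (n m : ℕ) (h : n ≤ m) (x : M) :
    (HomologicalComplex.homologyMap (koszulTrans (ModuleCat.of A M) n m h fs) 0).hom
      (piTop M (fs.map (· ^ n)) x) = piTop M (fs.map (· ^ m)) (fs.prod ^ (m - n) • x) := by
  rw [piTop_apply, homologyMap_cls, piTop_apply]
  congr 1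
  exact Subtype.ext (trans_top M n m h fs x)

end Top

section Colim

/-- descending an additive map along a surjection -/
lemma exists_descend {M H P : Type*} [AddCommGroup M] [AddCommGroup H] [AddCommGroup P]
    (π : M →+ H) (hπ : Function.Surjective π) (Ψ : M →+ P) (hker : ∀ x, π x = 0 → Ψ x = 0) :
    ∃ ψ : H →+ P, ∀ x, ψ (π x) = Ψ x := by
  have key : ∀ x y, π x = π y → Ψ x = Ψ y := by
    intro x y hxy
    have h1 : Ψ (x - y) = 0 := hker _ (by rw [map_sub, hxy, sub_self])
    rw [map_sub, sub_eq_zero] at h1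
    exact h1
  have hs : ∀ w, π (Function.surjInv hπ w) = w := Function.surjInv_eq hπ
  refine ⟨⟨⟨fun w => Ψ (Function.surjInv hπ w), ?_⟩, ?_⟩, ?_⟩
  · rw [← map_zero Ψ]
    exact key _ _ (by rw [hs, map_zero])
  · intro w w'
    change Ψ _ = Ψ _ + Ψ _
    rw [← map_add]
    exact key _ _ (by rw [hs, map_add, hs, hs])
  · intro x
    exact key _ _ (hs _)

variable {R : Type*} [CommRing R]

/-- a direct limit over `ℕ` described by compatible, jointly surjective, injective additive maps -/
theorem exists_addEquiv_of_compat {G : ℕ → Type u} [∀ n, AddCommGroup (G n)]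
    [∀ n, Module R (G n)] (f : ∀ n m, n ≤ m → G n →ₗ[R] G m)
    (hf1 : ∀ n x, f n n le_rfl x = x)
    (hf2 : ∀ n m k (h : n ≤ m) (h' : m ≤ k) x, f m k h' (f n m h x) = f n k (h.trans h') x)
    {P : Type*} [AddCommGroup P] (ψ : ∀ n, G n →+ P)
    (hc : ∀ n m (h : n ≤ m) x, ψ m (f n m h x) = ψ n x)
    (hinj : ∀ n x, ψ n x = 0 → x = 0)
    (hsurj : ∀ y, ∃ n x, ψ n x = y) :
    ∃ e : Module.DirectLimit G f ≃+ P, ∀ n x, e (Module.DirectLimit.of R ℕ G f n x) = ψ n x := by
  have : DirectedSystem G (fun i j h => f i j h) :=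
    ⟨fun i x => hf1 i x, fun k j i hij hjk x => hf2 i j k hij hjk x⟩
  -- uniqueness
  have hU : ∀ n m (x : G n) (x' : G m), ψ n x = ψ m x' →
      Module.DirectLimit.of R ℕ G f n x = Module.DirectLimit.of R ℕ G f m x' := by
    intro n m x x' hxx
    have h1 : ψ (max n m) (f n (max n m) (le_max_left n m) x -
        f m (max n m) (le_max_right n m) x') = 0 := by
      rw [map_sub, hc, hc, hxx, sub_self]
    have h2 := hinj _ _ h1
    rw [sub_eq_zero] at h2
    rw [← Module.DirectLimit.of_f (hij := le_max_left n m), h2, Module.DirectLimit.of_f]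
  choose N X hX using hsurj
  let g : P → Module.DirectLimit G f := fun y => Module.DirectLimit.of R ℕ G f (N y) (X y)
  have hg : ∀ n x, g (ψ n x) = Module.DirectLimit.of R ℕ G f n x := by
    intro n x
    exact hU _ _ _ _ (hX (ψ n x))
  have hadd : ∀ y y', g (y + y') = g y + g y' := by
    intro y y'
    let k := max (N y) (N y')
    have h1 : y + y' = ψ k (f (N y) k (le_max_left _ _) (X y) +
        f (N y') k (le_max_right _ _) (X y')) := by
      rw [map_add, hc, hc, hX, hX]
    have h2 : g (y + y') = Module.DirectLimit.of R ℕ G f k (f (N y) k (le_max_left _ _) (X y) +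
        f (N y') k (le_max_right _ _) (X y')) := by
      rw [h1, hg]
    rw [h2, map_add, Module.DirectLimit.of_f, Module.DirectLimit.of_f]
  let gA : P →+ Module.DirectLimit G f := AddMonoidHom.mk' g hadd
  have hbij : Function.Bijective gA := by
    constructor
    · rw [injective_iff_map_eq_zero]
      intro y hy
      have hy' : Module.DirectLimit.of R ℕ G f (N y) (X y) = 0 := hy
      obtain ⟨m, hm, h0⟩ := Module.DirectLimit.of.zero_exact hy'
      rw [← hX y, ← hc _ m hm, h0, map_zero]
    · intro z
      obtain ⟨n, x, rfl⟩ := Module.DirectLimit.exists_of z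
      exact ⟨ψ n x, hg n x⟩
  refine ⟨(AddEquiv.ofBijective gA hbij).symm, ?_⟩
  intro n x
  rw [AddEquiv.symm_apply_eq]
  exact (hg n x).symm

end Colim

section Restrict

/-- an additive equivalence compatible with the scalars of a subring is linear over it -/
noncomputable def restrictScalarsEquiv {R S M P : Type*} [CommRing R] [CommRing S] [Algebra R S]
    [AddCommGroup M] [Module S M] [AddCommGroup P] [Module R P] (e : M ≃+ P)
    (h : ∀ (a : R) (x : M), e (algebraMap R S a • x) = a • e x) :
    RestrictScalars R S M ≃ₗ[R] P :=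
  { (RestrictScalars.addEquiv R S M).trans e with
    map_smul' := fun a x => by
      change e (RestrictScalars.addEquiv R S M (a • x)) =
        a • e (RestrictScalars.addEquiv R S M x)
      rw [RestrictScalars.addEquiv_map_smul]
      exact h a _ }

end Restrict

end Groth.Agent.Lib.R2H2.KoszulTop
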