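import Mathlib
import Groth.Agent.Lib.Helper1TorJ
import Groth.Agent.S6954
import Groth.Agent.Lib.R2H2KoszulTop
import Groth.Agent.Lib.Helper8KoszulScale2
import Groth.Agent.Lib.H9KoszulComp

set_option autoImplicit false
set_option linter.style.haveILetI false
set_option linter.unusedVariables false
set_option linter.unusedSectionVars false
universe u

open CategoryTheory CategoryTheory.Limits TensorProduct
attribute [local instance] HasDerivedCategory.standard

namespace Groth.Agent.Lib.R2H3.PerfLocal

open Groth.Agent.Lib.Helper1.Tor Groth.Agent.Lib.Helper1.Extend DerivedCategory ZeroObject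

section Local

variable {R : Type u} [CommRing R]

lemma isPerfect_of_iso {K K' : Dual.D R} (e : K ≅ K') (h : DRing.IsPerfect R K) :
    DRing.IsPerfect R K' := by
  obtain ⟨E, a, b, hE, hfp, ⟨e'⟩⟩ := h
  exact ⟨E, a, b, hE, hfp, ⟨e' ≪≫ e⟩⟩

/-- perfectness of an object of `D(R)` is local for a finite cover by basic opens -/
theorem isPerfect_of_away {r : ℕ} (f : Fin r → R) (hf : Ideal.span (Set.range f) = ⊤)
    (K : Dual.D R)
    (h : ∀ j, DRing.IsPerfect (Localization.Away (f j))
      ((extD R (Localization.Away (f j))).obj K)) : DRing.IsPerfect R K := by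
  have hB := descFam_away f hf
  rw [Groth.Agent.S6954.result]
  have h' := fun j => (Groth.Agent.S6954.result _ _).1 (h j)
  refine ⟨hB.isPC' K (fun j => (h' j).1), ?_⟩
  choose a b hab using fun j => (h' j).2
  obtain ⟨a₀, ha₀⟩ : ∃ a₀ : ℤ, ∀ j, a₀ ≤ a j := by
    refine ⟨-((Finset.univ.sup fun j => (a j).natAbs : ℕ) : ℤ), fun j => ?_⟩
    have h1 : (a j).natAbs ≤ Finset.univ.sup fun j => (a j).natAbs :=
      Finset.le_sup (f := fun j => (a j).natAbs) (Finset.mem_univ j)
    omega
  obtain ⟨b₀, hb₀⟩ : ∃ b₀ : ℤ, ∀ j, b j ≤ b₀ := by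
    refine ⟨((Finset.univ.sup fun j => (b j).natAbs : ℕ) : ℤ), fun j => ?_⟩
    have h1 : (b j).natAbs ≤ Finset.univ.sup fun j => (b j).natAbs :=
      Finset.le_sup (f := fun j => (b j).natAbs) (Finset.mem_univ j)
    omega
  exact ⟨a₀, b₀, hB.hasTorAmp K a₀ b₀ (fun j => hasTorAmp_mono (ha₀ j) (hb₀ j) (hab j))⟩

/-- perfectness of a module is local for a finite cover by basic opens -/
theorem isPerfectModule_of_away {r : ℕ} (f : Fin r → R) (hf : Ideal.span (Set.range f) = ⊤)
    (M : Type u) [AddCommGroup M] [Module R M]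
    (h : ∀ j, DRing.IsPerfectModule (Localization.Away (f j))
      (Localization.Away (f j) ⊗[R] M)) : DRing.IsPerfectModule R M :=
  isPerfect_of_away f hf _ (fun j => isPerfect_of_iso (extDInDIso M).symm (h j))

lemma isPerfectModule_of_linearEquiv {M N : Type u} [AddCommGroup M] [Module R M]
    [AddCommGroup N] [Module R N] (e : M ≃ₗ[R] N) (h : DRing.IsPerfectModule R M) :
    DRing.IsPerfectModule R N :=
  isPerfect_of_iso ((DerivedCategory.singleFunctor (ModuleCat.{u} R) 0).mapIso e.toModuleIso) h

lemma isPerfectModule_of_subsingleton (M : Type u) [AddCommGroup M] [Module R M]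
    [Subsingleton M] : DRing.IsPerfectModule R M := by
  have hz : IsZero (Dual.inD R M) :=
    (DerivedCategory.singleFunctor (ModuleCat.{u} R) 0).map_isZero
      (ModuleCat.isZero_of_subsingleton _)
  refine ⟨0, 0, 0, fun i _ => ?_, fun i => ?_, ⟨(Functor.map_isZero Q (isZero_zero _)).iso hz⟩⟩
  · exact (HomologicalComplex.eval _ _ i).map_isZero (isZero_zero _)
  · have hz : IsZero ((0 : DRing.Cx R).X i) :=
      (HomologicalComplex.eval _ _ i).map_isZero (isZero_zero _)
    haveI := ModuleCat.subsingleton_of_isZero hz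
    exact ⟨inferInstance, inferInstance⟩

end Local

section Koszul

variable {A : Type u} [CommRing A]

open Groth.Agent.Lib.R2H2.KoszulTop Groth.Agent.Lib.Helper8KoszulScale CohIII

/-- finite projective modules -/
def FP (X : ModuleCat.{u} A) : Prop := Module.Finite A X ∧ Module.Projective A X

lemma FP_of_iso {X Y : ModuleCat.{u} A} (e : X ≅ Y) (h : FP X) : FP Y := by
  have := h.1
  have := h.2
  exact ⟨Module.Finite.equiv e.toLinearEquiv, Module.Projective.of_equiv e.toLinearEquiv⟩

lemma FP_of_isZero {X : ModuleCat.{u} A} (h : IsZero X) : FP X := by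
  haveI := ModuleCat.subsingleton_of_isZero h
  exact ⟨inferInstance, inferInstance⟩

lemma FP_biprod {X Y : ModuleCat.{u} A} (hX : FP X) (hY : FP Y) : FP (X ⊞ Y) := by
  have := hX.1
  have := hX.2
  have := hY.1
  have := hY.2
  refine FP_of_iso (ModuleCat.biprodIsoProd X Y).symm ⟨?_, ?_⟩
  · exact inferInstanceAs (Module.Finite A (X × Y))
  · exact inferInstanceAs (Module.Projective A (X × Y))

lemma FP_koszulCx : ∀ (l : List A) (i : ℤ), FP ((koszulCx (ModuleCat.of A A) l).X i)
  | [], i => by
    by_cases hi : i = 0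
    · subst hi
      refine FP_of_iso (HomologicalComplex.singleObjXSelf (ComplexShape.up ℤ) 0
        (ModuleCat.of A A)).symm ⟨?_, ?_⟩
      · exact inferInstanceAs (Module.Finite A A)
      · exact inferInstanceAs (Module.Projective A A)
    · exact FP_of_isZero (HomologicalComplex.isZero_single_obj_X (ComplexShape.up ℤ) 0 _ i hi)
  | f :: l, i => by
    show FP ((CochainComplex.mappingCone (f • 𝟙 (koszulCx (ModuleCat.of A A) l))).X i)
    exact FP_of_iso (HomologicalComplex.homotopyCofiber.XIsoBiprod
      (f • 𝟙 (koszulCx (ModuleCat.of A A) l)) i (i + 1) rfl).symm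
      (FP_biprod (FP_koszulCx l (i + 1)) (FP_koszulCx l i))

lemma inBd_iff_mem_span (l : List A) (x : A) : InBd A l x ↔ x ∈ Ideal.span {y | y ∈ l} := by
  constructor
  · intro h
    have := InBd.map_eq_zero (M := A)
      (Ideal.Quotient.mk (Ideal.span {y | y ∈ l})).toAddMonoidHom l (fun g hg a => by
        show Ideal.Quotient.mk _ (g • a) = 0
        rw [Ideal.Quotient.eq_zero_iff_mem, smul_eq_mul]
        exact Ideal.mul_mem_right _ _ (Ideal.subset_span hg)) x h
    exact Ideal.Quotient.eq_zero_iff_mem.1 this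
  · exact inBd_of_mem_span l x

/-- `H⁰` of the Koszul complex is `A ⧸ (l)` -/
noncomputable def topEquiv (l : List A) :
    (A ⧸ Ideal.span {y | y ∈ l}) ≃ₗ[A] (koszulCx (ModuleCat.of A A) l).homology 0 :=
  (Submodule.quotEquivOfEq _ _ (by
    ext x
    rw [LinearMap.mem_ker, piTop_eq_zero_iff, inBd_iff_mem_span])).trans
    (LinearMap.quotKerEquivOfSurjective (piTop A l) (piTop_surjective A l))

/-- the quotient by a Koszul-regular sequence is a perfect module -/
theorem isPerfectModule_quotient_of_koszulRegular (l : List A)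
    (hl : LCI.IsKoszulRegularSeq A l) :
    DRing.IsPerfectModule A (A ⧸ Ideal.span {y | y ∈ l}) := by
  have hl' : ∀ i : ℤ, i ≠ 0 → IsZero ((koszulCx (ModuleCat.of A A) l).homology i) := by
    have key : ∀ (K K' : CochainComplex (ModuleCat.{u} A) ℤ), K = K' →
        (∀ i : ℤ, i ≠ 0 → IsZero (K.homology i)) → ∀ i : ℤ, i ≠ 0 → IsZero (K'.homology i) := by
      rintro K _ rfl h
      exact h
    exact key _ _ (koszul_eq' l) hl
  obtain ⟨ε, hε⟩ := Groth.Agent.Lib.H9KoszulComp.exists_quasiIso_single
    (koszulCx (ModuleCat.of A A) l)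
    (Groth.Agent.Lib.Helper21.isZero_koszulCx_X_pos _ l 1 (by norm_num)) hl'
    (ModuleCat.of A (A ⧸ Ideal.span {y | y ∈ l})) (topEquiv l).symm.toModuleIso
  haveI : IsIso (Q.map ε) := by
    rw [DerivedCategory.isIso_Q_map_iff_quasiIso]
    exact hε
  refine ⟨koszulCx (ModuleCat.of A A) l, -(l.length : ℤ), 0, fun i hi => ?_, fun i => FP_koszulCx l i,
    ⟨asIso (Q.map ε) ≪≫ ((singleFunctorIsoCompQ (ModuleCat.{u} A) 0).app _).symm⟩⟩
  rcases hi with hi | hi
  · exact Groth.Agent.Lib.Helper21.isZero_koszulCx_X_neg _ l i hi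
  · exact Groth.Agent.Lib.Helper21.isZero_koszulCx_X_pos _ l i hi

end Koszul

section Ideal

variable {P : Type u} [CommRing P]

/-- local perfectness of the quotient by a Koszul-regular ideal -/
lemma exists_isPerfectModule_away (I : Ideal P) (hI : LCI.IsKoszulRegularIdeal I)
    (p : Ideal P) [p.IsPrime] : ∃ g : P, g ∉ p ∧
      DRing.IsPerfectModule (Localization.Away g) (Localization.Away g ⊗[P] (P ⧸ I)) := by
  by_cases hIp : I ≤ p
  · obtain ⟨g, hg, l, hl, hIl⟩ := hI ⟨p, inferInstance⟩ hIp
    refine ⟨g, hg, ?_⟩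
    have h1 := isPerfectModule_quotient_of_koszulRegular l hl
    let e1 : (Localization.Away g ⊗[P] (P ⧸ I)) ≃ₗ[Localization.Away g]
        (Localization.Away g ⧸ I.map (algebraMap P (Localization.Away g))) :=
      (Algebra.TensorProduct.quotIdealMapEquivTensorQuot (Localization.Away g) I).symm.toLinearEquiv
    let e2 : (Localization.Away g ⧸ I.map (algebraMap P (Localization.Away g))) ≃ₗ[Localization.Away g]
        (Localization.Away g ⧸ Ideal.span {x | x ∈ l}) :=
      Submodule.quotEquivOfEq _ _ hIl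
    exact isPerfectModule_of_linearEquiv (e1.trans e2).symm h1
  · obtain ⟨g, hgI, hgp⟩ := Set.not_subset.1 hIp
    refine ⟨g, hgp, ?_⟩
    have htop : I.map (algebraMap P (Localization.Away g)) = ⊤ := by
      rw [Ideal.eq_top_iff_one]
      have hu : IsUnit (algebraMap P (Localization.Away g) g) :=
        IsLocalization.Away.algebraMap_isUnit g
      have hmem : algebraMap P (Localization.Away g) g ∈ I.map (algebraMap P (Localization.Away g)) :=
        Ideal.mem_map_of_mem _ hgI
      exact (Ideal.eq_top_of_isUnit_mem _ hmem hu) ▸ Submodule.mem_top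
    haveI : Subsingleton (Localization.Away g ⧸ I.map (algebraMap P (Localization.Away g))) :=
      Ideal.Quotient.subsingleton_iff.2 htop
    haveI : Subsingleton (Localization.Away g ⊗[P] (P ⧸ I)) :=
      (Algebra.TensorProduct.quotIdealMapEquivTensorQuot (Localization.Away g) I).symm.injective.subsingleton
    exact isPerfectModule_of_subsingleton _

/-- the quotient by a Koszul-regular ideal is a perfect module -/
theorem isPerfectModule_quotient_of_isKoszulRegularIdeal (I : Ideal P)
    (hI : LCI.IsKoszulRegularIdeal I) : DRing.IsPerfectModule P (P ⧸ I) := by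
  let G : Set P := {g | DRing.IsPerfectModule (Localization.Away g)
    (Localization.Away g ⊗[P] (P ⧸ I))}
  have hG : Ideal.span G = ⊤ := by
    by_contra hne
    obtain ⟨m, hm, hle⟩ := Ideal.exists_le_maximal _ hne
    haveI := hm.isPrime
    obtain ⟨g, hgm, hg⟩ := exists_isPerfectModule_away I hI m
    exact hgm (hle (Ideal.subset_span hg))
  obtain ⟨s, hsG, hs⟩ := (Ideal.span_eq_top_iff_finite G).1 hG
  let f : Fin s.card → P := fun j => (s.equivFin.symm j).1
  have hrange : Set.range f = ↑s := by
    ext x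
    constructor
    · rintro ⟨j, rfl⟩
      exact (s.equivFin.symm j).2
    · intro hx
      exact ⟨s.equivFin ⟨x, hx⟩, by simp [f]⟩
  refine isPerfectModule_of_away f (by rw [hrange]; exact hs) _ (fun j => ?_)
  exact hsG (s.equivFin.symm j).2

end Ideal

end Groth.Agent.Lib.R2H3.PerfLocal
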