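import Mathlib
import Groth.Agent.Lib.R2H3PolyTorDim
import Groth.Agent.Lib.R2H3PerfLocal
import Groth.Agent.Lib.R2H3PCMod
import Groth.Agent.Lib.Helper1PCTower
import Groth.Agent.S6938

set_option autoImplicit false
set_option linter.style.haveILetI false
set_option linter.unusedVariables false
set_option linter.unusedSectionVars false
universe u

open CategoryTheory CategoryTheory.Limits TensorProduct
attribute [local instance] HasDerivedCategory.standard

namespace Groth.Agent.Lib.R2H3.TorLoc

open Groth.Agent.Lib.Helper14.TorSyz Groth.Agent.Lib.Helper1.TorDim Groth.Agent.Lib.Helper1.Tor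

section Transport

variable {R : Type u} [CommRing R]

/-- tor dimension is invariant under linear equivalence -/
lemma hasTorDimLE_of_linearEquiv {M N : Type u} [AddCommGroup M] [Module R M] [AddCommGroup N]
    [Module R N] (e : M ≃ₗ[R] N) (d : ℕ) (h : DRing.HasTorDimLE R d M) :
    DRing.HasTorDimLE R d N :=
  (hasTorDimLE_iff_hasTorAmp N d).2 (hasTorAmp_of_iso
    ((DerivedCategory.singleFunctor (ModuleCat.{u} R) 0).mapIso e.toModuleIso)
    ((hasTorDimLE_iff_hasTorAmp M d).1 h))

/-- tor dimension ascends along a flat algebra along which flatness ascends -/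
theorem hasTorDimLE_of_flat_ascent (A B : Type u) [CommRing A] [CommRing B] [Algebra A B]
    [Module.Flat A B]
    (h0 : ∀ (N : Type u) [AddCommGroup N] [Module A N] [Module B N] [IsScalarTower A B N],
      Module.Flat A N → Module.Flat B N) (k : ℕ) :
    ∀ (N : Type u) [AddCommGroup N] [Module A N] [Module B N] [IsScalarTower A B N],
      DRing.HasTorDimLE A k N → DRing.HasTorDimLE B k N := by
  induction k with
  | zero =>
    intro N _ _ _ _ h
    rw [hasTorDimLE_zero_iff_flat] at h ⊢
    exact h0 N h
  | succ k ih =>
    intro N _ _ _ _ h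
    let g : (N →₀ B) →ₗ[B] N := Finsupp.linearCombination B id
    have hg : Function.Surjective g := Finsupp.linearCombination_id_surjective B N
    have hflat : Module.Flat A (N →₀ B) := by
      classical exact Module.Flat.of_linearEquiv (finsuppLEquivDirectSum A B N)
    have hK : DRing.HasTorDimLE A k (LinearMap.ker g) := by
      refine hasTorDimLE_ker ((LinearMap.ker g).subtype.restrictScalars A) (g.restrictScalars A)
        (LinearMap.ker g).injective_subtype hg ?_ k h
      exact (LinearMap.exact_subtype_ker_map g)
    have hK' := ih (LinearMap.ker g) hK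
    exact hasTorDimLE_coker (LinearMap.ker g).subtype g (LinearMap.ker g).injective_subtype hg
      (LinearMap.exact_subtype_ker_map g) k hK'

/-- tor dimension ascends along a localization -/
theorem hasTorDimLE_of_isLocalization (A B : Type u) [CommRing A] [CommRing B] [Algebra A B]
    (W : Submonoid A) [IsLocalization W B] (k : ℕ) (N : Type u) [AddCommGroup N] [Module A N]
    [Module B N] [IsScalarTower A B N] (h : DRing.HasTorDimLE A k N) :
    DRing.HasTorDimLE B k N := by
  haveI : Module.Flat A B := IsLocalization.flat B W
  exact hasTorDimLE_of_flat_ascent A B (fun N _ _ _ _ hN =>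
    (Module.flat_iff_of_isLocalization B W N).2 hN) k N h

/-- tor dimension descends along restriction of scalars to a ring over which the algebra is flat -/
theorem hasTorDimLE_restrict_of_flat (A B : Type u) [CommRing A] [CommRing B] [Algebra A B]
    [Module.Flat A B] (k : ℕ) (N : Type u) [AddCommGroup N] [Module A N]
    [Module B N] [IsScalarTower A B N] (h : DRing.HasTorDimLE B k N) :
    DRing.HasTorDimLE A k N := by
  have hP : DRing.HasTorAmplitudeIn A (-((0 : ℕ) : ℤ)) 0 (Dual.inD A B) :=
    (hasTorDimLE_iff_hasTorAmp B 0).1 ((hasTorDimLE_zero_iff_flat _).2 inferInstance)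
  have h1 := hasTorAmp_restrictD 0 hP _ _ _ ((hasTorDimLE_iff_hasTorAmp N k).1 h)
  let eL : ((ModuleCat.restrictScalars.{u} (algebraMap A B)).obj (ModuleCat.of B N)) ≃ₗ[A] N :=
    { toFun := fun x => x
      invFun := fun x => x
      left_inv := fun _ => rfl
      right_inv := fun _ => rfl
      map_add' := fun _ _ => rfl
      map_smul' := fun r x => by
        exact algebraMap_smul B r (show N from x) }
  have h2 : DRing.HasTorAmplitudeIn A (-(k : ℤ) - ((0 : ℕ) : ℤ)) 0 (Dual.inD A N) :=
    hasTorAmp_of_iso
      (Groth.Agent.Lib.Helper1.Restrict.restrictDSingleIso (algebraMap A B) (ModuleCat.of B N) 0 ≪≫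
        (DerivedCategory.singleFunctor (ModuleCat.{u} A) 0).mapIso eL.toModuleIso) h1
  exact hasTorDimLE_of_hasTorAmp N k 0 (hasTorAmp_mono (by omega) le_rfl h2)

end Transport

section Syzygy

open Groth.Agent.Lib.Helper1.PC Groth.Agent.Lib.Helper1.PCTower DerivedCategory Groth.Agent.S7017

variable {P : Type u} [CommRing P]

/-- a pseudo-coherent module has a pseudo-coherent first syzygy -/
lemma exists_syzygy (M : Type u) [AddCommGroup M] [Module P M]
    (h : DRing.IsPseudoCoherentModule' P M) :
    ∃ (n : ℕ) (g : (Fin n → P) →ₗ[P] M), Function.Surjective g ∧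
      DRing.IsPseudoCoherentModule' P (LinearMap.ker g) := by
  haveI := Groth.Agent.Lib.R2H3.PCMod.finitePresentation_of_isPseudoCoherentModule' M h
  obtain ⟨n, g, hg⟩ := Module.Finite.exists_fin' P M
  refine ⟨n, g, hg, ?_⟩
  obtain ⟨Tr, hT, h1, h2, h3⟩ := exists_triangle (LinearMap.ker g).subtype g
    (LinearMap.ker g).injective_subtype hg (LinearMap.exact_subtype_ker_map g)
  have hF : FF (ModuleCat.of P (Fin n → P)) :=
    ⟨inferInstanceAs (Module.Finite P (Fin n → P)), inferInstanceAs (Module.Free P (Fin n → P))⟩
  refine isPseudoCoherent'_of_forall _ (fun m => ?_)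
  have hm : m = (m - 1) + 1 := by ring
  rw [hm]
  have := isPC_obj₁ Tr hT (m - 1)
    (h2 ▸ isPC_of_rep _ (rep_single _ hF 0))
    (h3 ▸ Groth.Agent.S6938.isPC_of_pc' _ h (m - 1))
  rw [h1] at this
  exact this

end Syzygy

section Open

variable {P : Type u} [CommRing P]

/-- a finitely presented module flat at a prime is flat on a basic open neighbourhood -/
lemma exists_flat_away_of_flat_atPrime (M : Type u) [AddCommGroup M] [Module P M]
    [Module.FinitePresentation P M] (q : Ideal P) [q.IsPrime]
    (h : Module.Flat (Localization.AtPrime q) (Localization.AtPrime q ⊗[P] M)) :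
    ∃ g : P, g ∉ q ∧ Module.Flat (Localization.Away g) (Localization.Away g ⊗[P] M) := by
  have hfree : Module.Free (Localization.AtPrime q) (Localization.AtPrime q ⊗[P] M) :=
    Module.free_of_flat_of_isLocalRing
  have hmem : (⟨q, inferInstance⟩ : PrimeSpectrum P) ∈ Module.freeLocus P M :=
    (Module.mem_freeLocus_iff_tensor _ (Localization.AtPrime q)).2 hfree
  obtain ⟨_, ⟨_, ⟨g, rfl⟩, rfl⟩, hqg, hsub⟩ :=
    PrimeSpectrum.isBasis_basic_opens.exists_subset_of_mem_open hmem Module.isOpen_freeLocus
  refine ⟨g, hqg, ?_⟩
  have hproj : Module.Projective (Localization.Away g) (LocalizedModule.Away g M) :=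
    Module.basicOpen_subset_freeLocus_iff.1 hsub
  have hflat : Module.Flat (Localization.Away g) (LocalizedModule.Away g M) := inferInstance
  exact Module.Flat.of_linearEquiv
    (IsLocalizedModule.isBaseChange (Submonoid.powers g) (Localization.Away g)
      (LocalizedModule.mkLinearMap (Submonoid.powers g) M)).equiv

section SES

variable (S : Type u) [CommRing S] [Algebra P S] [Module.Flat P S]
  {K F M : Type u} [AddCommGroup K] [Module P K] [AddCommGroup F] [Module P F]
  [AddCommGroup M] [Module P M] (ι : K →ₗ[P] F) (g : F →ₗ[P] M)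

omit [Module.Flat P S] in
lemma baseChange_surjective (hg : Function.Surjective g) :
    Function.Surjective (g.baseChange S) := by
  rw [LinearMap.baseChange_eq_ltensor]
  exact LinearMap.lTensor_surjective S hg

lemma baseChange_injective (hι : Function.Injective ι) :
    Function.Injective (ι.baseChange S) := by
  rw [LinearMap.baseChange_eq_ltensor]
  exact Module.Flat.lTensor_preserves_injective_linearMap ι hι

omit [Module.Flat P S] in
lemma baseChange_exact (hg : Function.Surjective g) (hex : Function.Exact ι g) :
    Function.Exact (ι.baseChange S) (g.baseChange S) := by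
  rw [LinearMap.baseChange_eq_ltensor, LinearMap.baseChange_eq_ltensor]
  exact lTensor_exact S hex hg

end SES

/-- finite tor dimension of a pseudo-coherent module at a prime spreads to a basic open -/
theorem exists_away_hasTorDimLE (m : ℕ) : ∀ (M : Type u) [AddCommGroup M] [Module P M]
    (hM : DRing.IsPseudoCoherentModule' P M) (q : Ideal P) [q.IsPrime],
    DRing.HasTorDimLE (Localization.AtPrime q) m (Localization.AtPrime q ⊗[P] M) →
    ∃ g : P, g ∉ q ∧ DRing.HasTorDimLE (Localization.Away g) m (Localization.Away g ⊗[P] M) := by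
  induction m with
  | zero =>
    intro M _ _ hM q _ h
    haveI := Groth.Agent.Lib.R2H3.PCMod.finitePresentation_of_isPseudoCoherentModule' M hM
    obtain ⟨g, hg, hflat⟩ := exists_flat_away_of_flat_atPrime M q
      ((hasTorDimLE_zero_iff_flat _).1 h)
    exact ⟨g, hg, (hasTorDimLE_zero_iff_flat _).2 hflat⟩
  | succ m ih =>
    intro M _ _ hM q _ h
    obtain ⟨n, g, hg, hK⟩ := exists_syzygy M hM
    have hι := (LinearMap.ker g).injective_subtype
    have hex := LinearMap.exact_subtype_ker_map g
    have h1 : DRing.HasTorDimLE (Localization.AtPrime q) m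
        (Localization.AtPrime q ⊗[P] (LinearMap.ker g)) :=
      hasTorDimLE_ker ((LinearMap.ker g).subtype.baseChange (Localization.AtPrime q))
        (g.baseChange (Localization.AtPrime q))
        (baseChange_injective _ _ hι) (baseChange_surjective _ _ hg)
        (baseChange_exact _ _ _ hg hex) m h
    obtain ⟨g', hg', h2⟩ := ih (LinearMap.ker g) hK q h1
    refine ⟨g', hg', ?_⟩
    exact hasTorDimLE_coker ((LinearMap.ker g).subtype.baseChange (Localization.Away g'))
        (g.baseChange (Localization.Away g'))
        (baseChange_injective _ _ hι) (baseChange_surjective _ _ hg)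
        (baseChange_exact _ _ _ hg hex) m h2

end Open

section Glue

open Groth.Agent.Lib.Helper1.Extend

variable {P : Type u} [CommRing P]

lemma hasTorDimLE_mono {M : Type u} [AddCommGroup M] [Module P M] {d d' : ℕ} (hd : d ≤ d')
    (h : DRing.HasTorDimLE P d M) : DRing.HasTorDimLE P d' M :=
  fun N _ _ p hp => h N p (lt_of_le_of_lt hd hp)

/-- finite tor dimension glues over a finite cover by basic opens -/
theorem hasFiniteTorDim_of_away {r : ℕ} (f : Fin r → P) (hf : Ideal.span (Set.range f) = ⊤)
    (M : Type u) [AddCommGroup M] [Module P M]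
    (h : ∀ j, DRing.HasFiniteTorDim (Localization.Away (f j)) (Localization.Away (f j) ⊗[P] M)) :
    DRing.HasFiniteTorDim P M := by
  have hB := descFam_away f hf
  choose d hd using h
  let D : ℕ := Finset.univ.sup d
  refine ⟨D, (hasTorDimLE_iff_hasTorAmp M D).2 (hB.hasTorAmp _ _ _ (fun j => ?_))⟩
  have h1 : DRing.HasTorDimLE (Localization.Away (f j)) D (Localization.Away (f j) ⊗[P] M) :=
    hasTorDimLE_mono (Finset.le_sup (f := d) (Finset.mem_univ j)) (hd j)
  exact hasTorAmp_of_iso (extDInDIso M).symm ((hasTorDimLE_iff_hasTorAmp _ D).1 h1)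

/-- a pseudo-coherent module with finite tor dimension at all primes has finite tor dimension -/
theorem hasFiniteTorDim_of_forall_atPrime (M : Type u) [AddCommGroup M] [Module P M]
    (hM : DRing.IsPseudoCoherentModule' P M)
    (h : ∀ (q : Ideal P) [q.IsPrime],
      DRing.HasFiniteTorDim (Localization.AtPrime q) (Localization.AtPrime q ⊗[P] M)) :
    DRing.HasFiniteTorDim P M := by
  let G : Set P := {g | DRing.HasFiniteTorDim (Localization.Away g) (Localization.Away g ⊗[P] M)}
  have hG : Ideal.span G = ⊤ := by
    by_contra hne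
    obtain ⟨m, hm, hle⟩ := Ideal.exists_le_maximal _ hne
    haveI := hm.isPrime
    obtain ⟨d, hd⟩ := h m
    obtain ⟨g, hgm, hg⟩ := exists_away_hasTorDimLE d M hM m hd
    exact hgm (hle (Ideal.subset_span ⟨d, hg⟩))
  obtain ⟨s, hsG, hs⟩ := (Ideal.span_eq_top_iff_finite G).1 hG
  let f : Fin s.card → P := fun j => (s.equivFin.symm j).1
  have hrange : Set.range f = ↑s := by
    ext x
    constructor
    · rintro ⟨j, rfl⟩
      exact (s.equivFin.symm j).2
    · intro hx
      exact ⟨s.equivFin ⟨x, hx⟩, by simp [f]⟩
  exact hasFiniteTorDim_of_away f (by rw [hrange]; exact hs) M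
    (fun j => hsG (s.equivFin.symm j).2)

end Glue

section Alg

variable {A B : Type u} [CommRing A] [CommRing B] [Algebra A B]

lemma hasTorDimLE_of_subsingleton {R : Type u} [CommRing R] (M : Type u) [AddCommGroup M]
    [Module R M] [Subsingleton M] (d : ℕ) : DRing.HasTorDimLE R d M :=
  hasTorDimLE_mono (Nat.zero_le d) ((hasTorDimLE_zero_iff_flat M).2 inferInstance)

/-- **localization direction**: finite tor dimension passes to localizations -/
theorem hasTorDimLE_localization (d : ℕ) (h : DRing.HasTorDimLE A d B)
    (q : Ideal B) [q.IsPrime] (p : Ideal A) [p.IsPrime] (hpq : p = q.comap (algebraMap A B)) :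
    letI := (Localization.localRingHom p q (algebraMap A B) hpq).toAlgebra
    DRing.HasTorDimLE (Localization.AtPrime p) d (Localization.AtPrime q) := by
  letI := (Localization.localRingHom p q (algebraMap A B) hpq).toAlgebra
  have h1 : DRing.HasTorDimLE A d (Localization.AtPrime q) :=
    hasTorDimLE_of_flat_algebra d h (Localization.AtPrime q)
  haveI : IsScalarTower A (Localization.AtPrime p) (Localization.AtPrime q) :=
    IsScalarTower.of_algebraMap_eq (fun x => by
      rw [RingHom.algebraMap_toAlgebra, Localization.localRingHom_to_map,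
        ← IsScalarTower.algebraMap_apply])
  exact hasTorDimLE_of_isLocalization A (Localization.AtPrime p) p.primeCompl d _ h1

end Alg

section Alg2

variable {A B : Type u} [CommRing A] [CommRing B] [Algebra A B]

open Groth.Agent.Lib.R2H3.PolyTorDim

/-- key step: finite tor dimension of `B_q` over `A_p` gives finite tor dimension of the
localization of the `P`-module `B` at the preimage of `q`. -/
theorem hasFiniteTorDim_atPrime_of_localization {n : ℕ} (φ : MvPolynomial (Fin n) A →ₐ[A] B)
    (hφ : Function.Surjective φ) (q' : Ideal (MvPolynomial (Fin n) A)) [q'.IsPrime]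
    (q : Ideal B) [q.IsPrime] (hq : q' = q.comap (φ : MvPolynomial (Fin n) A →+* B))
    (h : letI := (Localization.localRingHom (q.comap (algebraMap A B)) q (algebraMap A B) rfl).toAlgebra
      DRing.HasFiniteTorDim (Localization.AtPrime (q.comap (algebraMap A B))) (Localization.AtPrime q)) :
    letI := φ.toRingHom.toAlgebra
    DRing.HasFiniteTorDim (Localization.AtPrime q') (Localization.AtPrime q' ⊗[MvPolynomial (Fin n) A] B) := by
  letI algPB : Algebra (MvPolynomial (Fin n) A) B := φ.toRingHom.toAlgebra
  haveI : IsScalarTower A (MvPolynomial (Fin n) A) B := ⟨fun a p b => by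
    show φ (a • p) * b = a • (φ p * b)
    rw [map_smul, smul_mul_assoc]⟩
  -- step 1: over `A`
  obtain ⟨d, hd⟩ := h
  have h1 : DRing.HasTorDimLE A d (Localization.AtPrime q) := by
    letI := (Localization.localRingHom (q.comap (algebraMap A B)) q (algebraMap A B) rfl).toAlgebra
    haveI : IsScalarTower A (Localization.AtPrime (q.comap (algebraMap A B))) (Localization.AtPrime q) :=
      IsScalarTower.of_algebraMap_eq (fun x => by
        rw [RingHom.algebraMap_toAlgebra, Localization.localRingHom_to_map,
          ← IsScalarTower.algebraMap_apply])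
    exact hasTorDimLE_restrict_of_flat A (Localization.AtPrime (q.comap (algebraMap A B))) d _ hd
  -- step 2: over `P`
  have h2 : DRing.HasTorDimLE (MvPolynomial (Fin n) A) (d + n) (Localization.AtPrime q) :=
    hasTorDimLE_mvPolynomial A n d (Localization.AtPrime q) h1
  -- step 3: over `P_{q'}`
  have key : ∀ z : MvPolynomial (Fin n) A, φ z ∈ q → z ∈ q' := fun z hz => by rw [hq]; exact hz
  have key' : ∀ z : MvPolynomial (Fin n) A, z ∈ q' → φ z ∈ q := fun z hz => by
    rw [hq] at hz; exact hz
  have hunits : ∀ y : q'.primeCompl, IsUnit (algebraMap (MvPolynomial (Fin n) A) (Localization.AtPrime q) y) := by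
    intro y
    rw [IsScalarTower.algebraMap_apply (MvPolynomial (Fin n) A) B (Localization.AtPrime q)]
    refine IsLocalization.map_units (M := q.primeCompl) (Localization.AtPrime q)
      ⟨algebraMap (MvPolynomial (Fin n) A) B (y : MvPolynomial (Fin n) A), ?_⟩
    intro hmem
    exact y.2 (key _ hmem)
  letI algPq : Algebra (Localization.AtPrime q') (Localization.AtPrime q) :=
    (IsLocalization.lift (M := q'.primeCompl) (g := algebraMap (MvPolynomial (Fin n) A) (Localization.AtPrime q))
      hunits).toAlgebra
  haveI : IsScalarTower (MvPolynomial (Fin n) A) (Localization.AtPrime q') (Localization.AtPrime q) :=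
    IsScalarTower.of_algebraMap_eq (fun x => by
      rw [RingHom.algebraMap_toAlgebra, IsLocalization.lift_eq])
  have h3 : DRing.HasTorDimLE (Localization.AtPrime q') (d + n) (Localization.AtPrime q) :=
    hasTorDimLE_of_isLocalization (MvPolynomial (Fin n) A) (Localization.AtPrime q') q'.primeCompl
      (d + n) _ h2
  -- step 4: identify with the base change
  have hsub : Algebra.algebraMapSubmonoid B q'.primeCompl = q.primeCompl := by
    ext b
    constructor
    · rintro ⟨y, hy, rfl⟩
      intro hmem
      exact hy (key _ hmem)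
    · intro hb
      obtain ⟨y, rfl⟩ := hφ b
      exact ⟨y, fun hy => hb (key' _ hy), rfl⟩
  haveI : IsLocalization (Algebra.algebraMapSubmonoid B q'.primeCompl) (Localization.AtPrime q) := by
    rw [hsub]
    infer_instance
  haveI hloc : IsLocalizedModule q'.primeCompl
      (IsScalarTower.toAlgHom (MvPolynomial (Fin n) A) B (Localization.AtPrime q)).toLinearMap :=
    isLocalizedModule_iff_isLocalization.2 inferInstance
  have hbc := IsLocalizedModule.isBaseChange q'.primeCompl (Localization.AtPrime q')
    (IsScalarTower.toAlgHom (MvPolynomial (Fin n) A) B (Localization.AtPrime q)).toLinearMap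
  exact ⟨d + n, hasTorDimLE_of_linearEquiv hbc.equiv.symm (d + n) h3⟩

/-- **global direction**: for a pseudo-coherent presentation, finite tor dimension of all
localizations `B_q` over `A_p` gives finite tor dimension of `B` over `A`. -/
theorem hasFiniteTorDim_of_forall_localization {n : ℕ} (φ : MvPolynomial (Fin n) A →ₐ[A] B)
    (hφ : Function.Surjective φ)
    (hpc : letI := φ.toRingHom.toAlgebra
      DRing.IsPseudoCoherentModule' (MvPolynomial (Fin n) A) B)
    (h : ∀ (q : Ideal B) [q.IsPrime],
      letI := (Localization.localRingHom (q.comap (algebraMap A B)) q (algebraMap A B) rfl).toAlgebra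
      DRing.HasFiniteTorDim (Localization.AtPrime (q.comap (algebraMap A B))) (Localization.AtPrime q)) :
    DRing.HasFiniteTorDim A B := by
  letI algPB : Algebra (MvPolynomial (Fin n) A) B := φ.toRingHom.toAlgebra
  haveI : IsScalarTower A (MvPolynomial (Fin n) A) B := ⟨fun a p b => by
    show φ (a • p) * b = a • (φ p * b)
    rw [map_smul, smul_mul_assoc]⟩
  have hP : DRing.HasFiniteTorDim (MvPolynomial (Fin n) A) B := by
    refine hasFiniteTorDim_of_forall_atPrime B hpc (fun q' _ => ?_)
    by_cases hker : RingHom.ker (φ : MvPolynomial (Fin n) A →+* B) ≤ q'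
    · haveI : (q'.map (φ : MvPolynomial (Fin n) A →+* B)).IsPrime :=
        Ideal.map_isPrime_of_surjective hφ hker
      have hq : q' = (q'.map (φ : MvPolynomial (Fin n) A →+* B)).comap
          (φ : MvPolynomial (Fin n) A →+* B) := by
        rw [Ideal.comap_map_of_surjective (φ : MvPolynomial (Fin n) A →+* B) hφ,
          ← RingHom.ker_eq_comap_bot]
        exact (sup_eq_left.2 hker).symm
      exact hasFiniteTorDim_atPrime_of_localization φ hφ q' _ hq (h _)
    · obtain ⟨g, hgk, hgq⟩ := Set.not_subset.1 hker
      have hg0 : ∀ z : Localization.AtPrime q' ⊗[MvPolynomial (Fin n) A] B, g • z = 0 := by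
        intro z
        induction z using TensorProduct.induction_on with
        | zero => exact smul_zero g
        | tmul x b =>
          have hb : g • b = 0 := by
            show φ g * b = 0
            rw [show φ g = 0 from hgk, zero_mul]
          rw [← TensorProduct.tmul_smul, hb, TensorProduct.tmul_zero]
        | add x y hx hy => rw [smul_add, hx, hy, add_zero]
      have hu : IsUnit (algebraMap (MvPolynomial (Fin n) A) (Localization.AtPrime q') g) :=
        IsLocalization.map_units (M := q'.primeCompl) (Localization.AtPrime q') ⟨g, hgq⟩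
      haveI : Subsingleton (Localization.AtPrime q' ⊗[MvPolynomial (Fin n) A] B) := by
        refine ⟨fun x y => ?_⟩
        have hz : ∀ z : Localization.AtPrime q' ⊗[MvPolynomial (Fin n) A] B, z = 0 := by
          intro z
          obtain ⟨v, hv⟩ := hu
          have h1 : (v : Localization.AtPrime q') • z = 0 := by
            rw [hv, algebraMap_smul]
            exact hg0 z
          calc z = ((v⁻¹ : (Localization.AtPrime q')ˣ) : Localization.AtPrime q') •
                ((v : Localization.AtPrime q') • z) := by
                rw [smul_smul, Units.inv_mul, one_smul]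
            _ = 0 := by rw [h1, smul_zero]
        rw [hz x, hz y]
      exact ⟨0, hasTorDimLE_of_subsingleton _ 0⟩
  obtain ⟨d, hd⟩ := hP
  exact ⟨d, hasTorDimLE_restrict_of_flat A (MvPolynomial (Fin n) A) d B hd⟩

end Alg2

section RingIso

/-- transport of tor dimension of an algebra along an isomorphism of arrows of rings -/
theorem hasTorDimLE_of_ringEquiv {R N R' N' : Type u} [CommRing R] [CommRing N] [CommRing R']
    [CommRing N'] (φ : R →+* N) (ψ : R' →+* N') (e₁ : R ≃+* R') (e₂ : N ≃+* N')
    (hcomm : ∀ r, e₂ (φ r) = ψ (e₁ r)) (d : ℕ)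
    (h : letI := φ.toAlgebra
      DRing.HasTorDimLE R d N) :
    letI := ψ.toAlgebra
    DRing.HasTorDimLE R' d N' := by
  letI := φ.toAlgebra
  letI := ψ.toAlgebra
  letI : Module R N' := Module.compHom N' (e₁ : R →+* R')
  let eL : N ≃ₗ[R] N' :=
    { e₂.toAddEquiv with
      map_smul' := fun r x => by
        show e₂ (φ r * x) = ψ (e₁ r) * e₂ x
        rw [map_mul, hcomm] }
  have h1 : DRing.HasTorDimLE R d N' := hasTorDimLE_of_linearEquiv eL d h
  letI : Algebra R R' := (e₁ : R →+* R').toAlgebra
  haveI : IsScalarTower R R' N' := ⟨fun r r' x => by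
    show ψ (e₁ r * r') * x = ψ (e₁ r) * (ψ r' * x)
    rw [map_mul, mul_assoc]⟩
  exact Groth.Agent.Lib.R2H3.PolyTorDim.hasTorDimLE_of_bijective R R' e₁.bijective d N' h1

end RingIso

end Groth.Agent.Lib.R2H3.TorLoc
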