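import Mathlib
import Groth.Agent.Lib.H6xRelTorSmA
import Groth.Agent.Lib.R2H3PolyTorDim
import Groth.Agent.Lib.R2H3TorLoc
import Groth.Agent.Lib.Helper14TorSyz
set_option backward.isDefEq.respectTransparency.types false

/-!
# Modules flat over the base have bounded tor dimension over a smooth algebra (helper6)
-/

set_option autoImplicit false
set_option linter.style.haveILetI false

universe u

open CategoryTheory CategoryTheory.Limits HomologicalComplex MonoidalCategory

attribute [local instance] HasDerivedCategory.standard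

namespace Groth.Agent.Lib.H6xRelTorAmp

open DerivedCategory Groth.Agent.Lib.Helper1.KF Groth.Agent.Lib.Helper1.Tor
  Groth.Agent.Lib.Helper1.DT Groth.Agent.Lib.Helper1.TorO Groth.Agent.Lib.Helper1.KBC
  Groth.Agent.Lib.Helper1.TorL Groth.Agent.Lib.Helper1.TorDim
  Groth.Agent.Lib.R2H3.PolyTorDim Groth.Agent.Lib.Helper14.TorSyz Groth.Agent.Lib.R2H3.TorLoc

section

variable {A B : Type u} [CommRing A] [CommRing B]

/-- tor dimension of modules along a standard smooth ring map -/
theorem hasTorDimLE_module_of_isStandardSmooth (g : A →+* B) (n : ℕ)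
    (hg : g.IsStandardSmoothOfRelativeDimension n) (d : ℕ)
    (Z : Type u) [AddCommGroup Z] [Module B Z]
    (h : letI := Module.compHom Z g
      DRing.HasTorDimLE A d Z) :
    DRing.HasTorDimLE B (d + n) Z := by
  obtain ⟨φ, hφ, het⟩ := hg.exists_etale_mvPolynomial
  letI := φ.toAlgebra
  letI mA : Module A Z := Module.compHom Z g
  letI mP : Module (MvPolynomial (Fin n) A) Z := Module.compHom Z φ
  haveI : IsScalarTower (MvPolynomial (Fin n) A) B Z := ⟨fun p b z => by
    change (φ p * b) • z = φ p • (b • z)
    exact mul_smul _ _ _⟩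
  haveI : IsScalarTower A (MvPolynomial (Fin n) A) Z := ⟨fun a p z => by
    change φ (a • p) • z = g a • (φ p • z)
    rw [MvPolynomial.smul_eq_C_mul, map_mul, mul_smul, ← hφ]
    rfl⟩
  haveI : Algebra.Etale (MvPolynomial (Fin n) A) B := het
  exact hasTorDimLE_of_weaklyEtale (MvPolynomial (Fin n) A) B (d + n) Z
    (hasTorDimLE_mvPolynomial A n d Z h)

end

section

variable {A B A' B' : Type u} [CommRing A] [CommRing B] [CommRing A'] [CommRing B']

/-- Lemma RS: modules over a localization of a standard smooth algebra which are flat over the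
(localized) base have tor dimension at most the relative dimension -/
theorem hmod_of_isStandardSmooth_localization (φ : A →+* B) (n : ℕ)
    (hφ : φ.IsStandardSmoothOfRelativeDimension n)
    (gA : A →+* A') (gB : B →+* B') (β : A' →+* B') (hsq : β.comp gA = gB.comp φ)
    (MA : Submonoid A) (hA : letI := gA.toAlgebra; IsLocalization MA A')
    (MB : Submonoid B) (hB : letI := gB.toAlgebra; IsLocalization MB B') :
    ∀ Z : ModuleCat.{u} B', Module.Flat A' ((res β).obj Z) →
      DRing.HasTorAmplitudeIn B' (-(n : ℤ)) 0 (Dual.inD B' Z) := by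
  intro Z hZ
  letI algA := gA.toAlgebra
  letI algB := gB.toAlgebra
  haveI := hA
  haveI := hB
  letI mA' : Module A' Z := Module.compHom Z β
  letI mB : Module B Z := Module.compHom Z gB
  letI mA : Module A Z := Module.compHom Z φ
  haveI : IsScalarTower B B' Z := ⟨fun b b' z => by
    change (gB b * b') • z = gB b • (b' • z)
    exact mul_smul _ _ _⟩
  haveI : IsScalarTower A A' Z := ⟨fun a a' z => by
    change β (gA a * a') • z = gB (φ a) • (β a' • z)
    rw [map_mul, mul_smul]
    congr 1
    exact congrArg (fun f : A →+* B' => f a) hsq⟩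
  have hZ' : Module.Flat A' Z := hZ
  haveI : Module.Flat A A' := IsLocalization.flat A' MA
  have hZA : Module.Flat A Z := Module.Flat.trans A A' Z
  have h0 : DRing.HasTorDimLE A 0 Z := (hasTorDimLE_zero_iff_flat Z).2 hZA
  have h1 : DRing.HasTorDimLE B (0 + n) Z :=
    hasTorDimLE_module_of_isStandardSmooth φ n hφ 0 Z h0
  have h2 : DRing.HasTorDimLE B' (0 + n) Z := hasTorDimLE_of_isLocalization B B' MB (0 + n) Z h1
  have h3 := (hasTorDimLE_iff_hasTorAmp Z (0 + n)).1 h2
  rw [zero_add] at h3
  exact h3

end

end Groth.Agent.Lib.H6xRelTorAmp
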