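import Mathlib
import Groth.Agent.Lib.H6xRelTorSmB
import Groth.Agent.Lib.H6xRelTorPush
set_option backward.isDefEq.respectTransparency.types false

/-!
# Relative tor amplitude and smooth morphisms (scheme level, helper6)
-/

set_option autoImplicit false
set_option linter.style.haveILetI false

universe u

open CategoryTheory CategoryTheory.Limits AlgebraicGeometry HomologicalComplex TopologicalSpace
  Opposite MonoidalCategory

attribute [local instance] HasDerivedCategory.standard

namespace Groth.Agent.Lib.H6xRelTorAmpG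

open Groth.Agent.Lib.Helper1.BKF Groth.Agent.Lib.Helper1.CI Groth.Agent.Lib.Helper1.Sky
  Groth.Agent.Lib.Helper1.KBC Groth.Agent.Lib.H6xFlatAmpStalk Groth.Agent.Lib.H6xFlatAmpLocal
  Groth.Agent.Lib.Helper1.Tor Groth.Agent.Lib.H6xRelTorAmp Groth.Agent.Lib.H6xPushStalk

variable {X' Y : Scheme.{u}}

/-- at a point with a standard smooth chart of relative dimension `n`, modules over the local ring
which are flat over the local ring of the base have tor dimension `≤ n` -/
theorem hmod_stalk (f' : X' ⟶ Y) (x' : X') (n : ℕ) (W : Y.Opens) (hW : IsAffineOpen W)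
    (V : X'.Opens) (hV : IsAffineOpen V) (hVW : V ≤ f' ⁻¹ᵁ W) (hx : x' ∈ V)
    (hst : (f'.appLE W V hVW).hom.IsStandardSmoothOfRelativeDimension n) :
    ∀ Z : ModuleCat.{u} (X'.presheaf.stalk x'),
      Module.Flat (Y.presheaf.stalk (f'.base x')) ((res (f'.stalkMap x').hom).obj Z) →
      DRing.HasTorAmplitudeIn (X'.presheaf.stalk x') (-(n : ℤ)) 0 (Dual.inD _ Z) := by
  refine hmod_of_isStandardSmooth_localization (f'.appLE W V hVW).hom n hst
    (Y.presheaf.germ W (f'.base x') (hVW hx)).hom (X'.presheaf.germ V x' hx).hom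
    (f'.stalkMap x').hom ?_ _ (hW.isLocalization_stalk ⟨f'.base x', hVW hx⟩) _
    (hV.isLocalization_stalk ⟨x', hx⟩)
  have h1 : Y.presheaf.germ W (f'.base x') (hVW hx) ≫ f'.stalkMap x' =
      f'.appLE W V hVW ≫ X'.presheaf.germ V x' hx := by
    rw [Scheme.Hom.germ_stalkMap, Scheme.Hom.appLE, Category.assoc, X'.presheaf.germ_res]
  exact congrArg CommRingCat.Hom.hom h1

end Groth.Agent.Lib.H6xRelTorAmpG
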