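import Mathlib
import Groth.Agent.Lib.H6xRelTorSmC
import Groth.Agent.Lib.H6xSuppPush
set_option backward.isDefEq.respectTransparency.types false

/-!
# Relative tor amplitude and smooth morphisms (scheme level, part 2, helper6)
-/

set_option autoImplicit false
set_option linter.style.haveILetI false

universe u

open CategoryTheory CategoryTheory.Limits AlgebraicGeometry HomologicalComplex TopologicalSpace
  Opposite MonoidalCategory

attribute [local instance] HasDerivedCategory.standard

namespace Groth.Agent.Lib.H6xRelTorAmp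

open DerivedCategory Groth.Agent.Lib.Helper1.KF Groth.Agent.Lib.Helper1.Tor
  Groth.Agent.Lib.Helper1.DT Groth.Agent.Lib.Helper1.TorO Groth.Agent.Lib.Helper1.KBC
  Groth.Agent.Lib.Helper1.TorL Groth.Agent.Lib.Helper1.ProjRes

variable {A B : Type u} [CommRing A] [CommRing B] (β : A →+* B)

/-- a standard smooth ring map has some relative dimension -/
theorem exists_relDim_of_isStandardSmooth {R S : Type u} [CommRing R] [CommRing S]
    {f : R →+* S} (hf : f.IsStandardSmooth) :
    ∃ n : ℕ, f.IsStandardSmoothOfRelativeDimension n := by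
  obtain ⟨_, _, _, _, ⟨P⟩⟩ := hf
  letI := f.toAlgebra
  exact ⟨_, ⟨_, _, _, ‹_›, P, rfl⟩⟩

/-- Theorem SM without the hypothesis `a ≤ b` -/
theorem hasTorAmp_of_relative_of_flat_modules' (hβ : β.Flat) (n : ℕ)
    (Hmod : ∀ Z : ModuleCat.{u} B, Module.Flat A ((res β).obj Z) →
      DRing.HasTorAmplitudeIn B (-(n : ℤ)) 0 (Dual.inD B Z))
    (T : Cx B) (a b : ℤ)
    (h : DRing.HasTorAmplitudeIn A a b (Q.obj ((resC β).obj T))) :
    DRing.HasTorAmplitudeIn B (a - n) b (Q.obj T) := by
  by_cases hab : a ≤ b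
  · exact hasTorAmp_of_relative_of_flat_modules β hβ n Hmod T a b hab h
  · rw [not_le] at hab
    obtain ⟨E, hE, _, ⟨e⟩⟩ := h
    have hE0 : ∀ i, IsZero (E.X i) := fun i => hE i (by omega)
    have hz : ∀ i : ℤ, IsZero (T.homology i) := by
      intro i
      have h1 : IsZero (E.homology i) :=
        Groth.Agent.Lib.Helper1.CI.isZero_homology_of_isZero_X E i (hE0 i)
      have h2 : IsZero (((resC β).obj T).homology i) :=
        IsZero.of_iso h1 (((DerivedCategory.homologyFunctorFactors _ i).app _).symm ≪≫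
          (DerivedCategory.homologyFunctor _ i).mapIso e.symm ≪≫
          (DerivedCategory.homologyFunctorFactors _ i).app E)
      rwa [isZero_homology_resC_iff] at h2
    exact hasTorAmp_of_isZero _ (Groth.Agent.Lib.H6xSuppPush.isZero_Q_obj_of_acyc T hz) _ _

end Groth.Agent.Lib.H6xRelTorAmp

namespace Groth.Agent.Lib.H6xRelTorAmpG

open Groth.Agent.Lib.Helper1.BKF Groth.Agent.Lib.Helper1.CI Groth.Agent.Lib.Helper1.Sky
  Groth.Agent.Lib.Helper1.KBC Groth.Agent.Lib.H6xFlatAmpStalk Groth.Agent.Lib.H6xFlatAmpLocal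
  Groth.Agent.Lib.Helper1.Tor Groth.Agent.Lib.H6xRelTorAmp Groth.Agent.Lib.H6xPushStalk

variable {X X' Y : Scheme.{u}}

/-- tor amplitude relative to `g ≫ f'` gives tor amplitude relative to `g` with a shift by the
relative dimension of a smooth chart of `f'` at the image point -/
theorem hasTorAmplitudeAt_of_comp_chart (g : X ⟶ X') (f' : X' ⟶ Y) [Flat f']
    (F : CochainComplex X.Modules ℤ) (a b : ℤ) (x : X) (n : ℕ)
    (W : Y.Opens) (hW : IsAffineOpen W)
    (V : X'.Opens) (hV : IsAffineOpen V) (hVW : V ≤ f' ⁻¹ᵁ W) (hx : g.base x ∈ V)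
    (hst : (f'.appLE W V hVW).hom.IsStandardSmoothOfRelativeDimension n)
    (hF : DerSch.HasTorAmplitudeAt (g ≫ f') a b F x) :
    DerSch.HasTorAmplitudeAt g (a - n) b F x := by
  have hχ : ((g ≫ f').stalkMap x).hom = (g.stalkMap x).hom.comp (f'.stalkMap (g.base x)).hom := by
    rw [Scheme.Hom.stalkMap_comp]
    rfl
  have h1 := hasTorAmp_of_iso (DerivedCategory.Q.mapIso (stalkCxOverIso (g ≫ f') x F ≪≫
    resCCompIso (f'.stalkMap (g.base x)).hom (g.stalkMap x).hom _ hχ _)) hF
  have h2 := hasTorAmp_of_relative_of_flat_modules' (f'.stalkMap (g.base x)).hom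
    (Flat.stalkMap f' (g.base x)) n (hmod_stalk f' (g.base x) n W hW V hV hVW hx hst) _ a b h1
  exact hasTorAmp_of_iso (DerivedCategory.Q.mapIso (stalkCxOverIso g x F)).symm h2

/-- version with a smooth morphism: some shift works -/
theorem exists_hasTorAmplitudeAt_of_comp_smooth (g : X ⟶ X') (f' : X' ⟶ Y) [Smooth f']
    (F : CochainComplex X.Modules ℤ) (a b : ℤ) (x : X)
    (hF : DerSch.HasTorAmplitudeAt (g ≫ f') a b F x) :
    ∃ n : ℕ, DerSch.HasTorAmplitudeAt g (a - n) b F x := by
  obtain ⟨W, hW, V, hV, hx, hVW, hst⟩ := Smooth.exists_isStandardSmooth f' (g.base x)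
  obtain ⟨n, hn⟩ := exists_relDim_of_isStandardSmooth hst
  exact ⟨n, hasTorAmplitudeAt_of_comp_chart g f' F a b x n W hW V hV hVW hx hn hF⟩

end Groth.Agent.Lib.H6xRelTorAmpG
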