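import Mathlib
import Groth.Prelude.Def_DCoh3
import Groth.Agent.Lib.H6xPC4A
set_option backward.isDefEq.respectTransparency.types false

/-!
# Bounded above complexes with pseudo-coherent terms are pseudo-coherent (helper6)
-/

set_option autoImplicit false
set_option linter.style.haveILetI false
universe u
open CategoryTheory CategoryTheory.Limits AlgebraicGeometry TopologicalSpace Opposite
  CategoryTheory.Pretriangulated

attribute [local instance] HasDerivedCategory.standard

namespace Groth.Agent.Lib.H6xPCTerm

open Groth.Agent.Lib.H6xPCoh Groth.Agent.Lib.H6xPC3 DerivedCategory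

variable {X : Scheme.{u}}

/-- a module placed in degree `b` -/
lemma isPseudoCoherentD_single {A : X.Modules} {b m : ℤ}
    (hA : DCoh.IsPseudoCoherentD (m - b) (DCoh.inD X A)) :
    DCoh.IsPseudoCoherentD m ((DerivedCategory.singleFunctor X.Modules b).obj A) := by
  have h := isPseudoCoherentD_shift hA (-b)
  rw [show m - b - -b = m by omega] at h
  exact isPseudoCoherentD_of_iso'
    (((DerivedCategory.singleFunctors X.Modules).shiftIso (-b) b 0 (by omega)).app A) h

lemma isLE_toD_of_isZero (K : CochainComplex X.Modules ℤ) (b : ℤ)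
    (hK : ∀ j, b < j → IsZero (K.X j)) : (DCoh.toD X K).IsLE b := by
  rw [isLE_iff]
  intro i hi
  refine IsZero.of_iso ?_ ((DerivedCategory.homologyFunctorFactors X.Modules i).app K)
  exact ShortComplex.isZero_homology_of_isZero_X₂ _ (hK i hi)

lemma isPseudoCoherentD_of_isZero (E : DCoh.D X) (hE : IsZero E) (m : ℤ) :
    DCoh.IsPseudoCoherentD m E := by
  haveI : E.IsLE (m - 1) := by
    rw [isLE_iff]
    intro i _
    exact (DerivedCategory.homologyFunctor X.Modules i).map_isZero hE
  exact (pcGlobal_of_isLE m E).isPseudoCoherentD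

/-- a bounded above complex whose terms `K^j` are `(m - j)`-pseudo-coherent is
`m`-pseudo-coherent -/
theorem isPseudoCoherentD_of_termwise_aux (m : ℤ) : ∀ (n : ℕ) (K : CochainComplex X.Modules ℤ),
    (∀ j : ℤ, m - 1 + n < j → IsZero (K.X j)) →
    (∀ j : ℤ, DCoh.IsPseudoCoherentD (m - j) (DCoh.inD X (K.X j))) →
    DCoh.IsPseudoCoherentD m (DCoh.toD X K)
  | 0 => fun K hK _ => by
      haveI : (DCoh.toD X K).IsLE (m - 1) :=
        isLE_toD_of_isZero K (m - 1) (fun j hj => hK j (by simpa using hj))
      exact (pcGlobal_of_isLE m _).isPseudoCoherentD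
  | n + 1 => fun K hK hpc => by
      obtain ⟨b, hb⟩ : ∃ b : ℤ, b = m + n := ⟨_, rfl⟩
      have hKz : ∀ j : ℤ, b < j → IsZero (K.X j) := fun j hj => hK j (by push_cast; omega)
      let ι : (HomologicalComplex.single X.Modules (ComplexShape.up ℤ) b).obj (K.X b) ⟶ K :=
        HomologicalComplex.mkHomFromSingle (𝟙 _) (fun k hk => by
          have hk' : b + 1 = k := hk
          exact (hKz k (by omega)).eq_of_tgt _ _)
      have hιb : IsIso (ι.f b) := by
        have : ι.f b = (HomologicalComplex.singleObjXSelf (ComplexShape.up ℤ) b (K.X b)).hom ≫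
            𝟙 _ := HomologicalComplex.mkHomFromSingle_f _ _
        rw [this]
        infer_instance
      haveI : Mono ι := by
        refine HomologicalComplex.mono_of_mono_f _ (fun j => ?_)
        by_cases hj : j = b
        · subst hj
          infer_instance
        · exact IsZero.mono (HomologicalComplex.isZero_single_obj_X (ComplexShape.up ℤ) b _ j hj) _
      let S : ShortComplex (CochainComplex X.Modules ℤ) :=
        ShortComplex.mk ι (cokernel.π ι) (cokernel.condition ι)
      have hS : S.ShortExact :=
        { exact := ShortComplex.exact_cokernel ι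
          mono_f := inferInstanceAs (Mono ι)
          epi_g := inferInstanceAs (Epi (cokernel.π ι)) }
      have hSj : ∀ j : ℤ, (S.map (HomologicalComplex.eval X.Modules (ComplexShape.up ℤ) j)).ShortExact :=
        fun j => hS.map_of_exact _
      have hQb : IsZero ((cokernel ι).X b) := (hSj b).isIso_f_iff.1 hιb
      have hQiso : ∀ j : ℤ, j ≠ b → IsIso ((cokernel.π ι).f j) := fun j hj =>
        (hSj j).isIso_g_iff.2
          (HomologicalComplex.isZero_single_obj_X (ComplexShape.up ℤ) b _ j hj)
      have hQpc : DCoh.IsPseudoCoherentD m (DCoh.toD X (cokernel ι)) := by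
        refine isPseudoCoherentD_of_termwise_aux m n (cokernel ι) (fun j hj => ?_) (fun j => ?_)
        · by_cases hjb : j = b
          · subst hjb; exact hQb
          · haveI := hQiso j hjb
            exact IsZero.of_iso (hKz j (by omega)) (asIso ((cokernel.π ι).f j)).symm
        · by_cases hjb : j = b
          · subst hjb
            exact isPseudoCoherentD_of_isZero _
              ((DerivedCategory.singleFunctor X.Modules 0).map_isZero hQb) _
          · haveI := hQiso j hjb
            exact isPseudoCoherentD_of_iso'
              ((DerivedCategory.singleFunctor X.Modules 0).mapIso (asIso ((cokernel.π ι).f j)))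
              (hpc j)
      have h₁ : DCoh.IsPseudoCoherentD m (DerivedCategory.Q.obj S.X₁) :=
        isPseudoCoherentD_single (hpc b)
      exact (triangle m (triangleOfSES hS) (triangleOfSES_distinguished hS)).2.1 h₁ hQpc

theorem isPseudoCoherentD_of_termwise (m b : ℤ) (K : CochainComplex X.Modules ℤ)
    (hK : ∀ j : ℤ, b < j → IsZero (K.X j))
    (hpc : ∀ j : ℤ, DCoh.IsPseudoCoherentD (m - j) (DCoh.inD X (K.X j))) :
    DCoh.IsPseudoCoherentD m (DCoh.toD X K) :=
  isPseudoCoherentD_of_termwise_aux m (b - m + 1).toNat K
    (fun j hj => hK j (by omega)) hpc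

end Groth.Agent.Lib.H6xPCTerm
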