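import Mathlib
import Groth.Agent.Lib.H6xRelTorLocA
import Groth.Agent.Lib.Helper1DT4
set_option backward.isDefEq.respectTransparency.types false

/-!
# Relative tor amplitude is local (ring level, helper6)
-/

set_option autoImplicit false
set_option linter.style.haveILetI false

universe u v

open CategoryTheory CategoryTheory.Limits HomologicalComplex MonoidalCategory

attribute [local instance] HasDerivedCategory.standard

namespace Groth.Agent.Lib.H6xRelTorAmp

open DerivedCategory Groth.Agent.Lib.Helper1.KF Groth.Agent.Lib.Helper1.Tor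
  Groth.Agent.Lib.Helper1.DT Groth.Agent.Lib.Helper1.TorO Groth.Agent.Lib.Helper1.KBC
  Groth.Agent.Lib.Helper1.TorL

section

variable {R R' : Type u} [CommRing R] [CommRing R'] (lam : R →+* R')

/-- extension of scalars along a flat ring map preserves quasi-isomorphisms -/
lemma quasiIso_extC_map (hlam : lam.Flat) {F F' : Cx R} (π : F ⟶ F') [QuasiIso π] :
    QuasiIso ((extC lam).map π) := by
  haveI : PreservesFiniteLimits (ext lam) :=
    ModuleCat.preservesFiniteLimits_extendScalars_of_flat.{u} hlam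
  haveI : PreservesFiniteColimits (ext lam) := by
    haveI := (ModuleCat.extendRestrictScalarsAdj.{u, u, u} lam).leftAdjoint_preservesColimits
    infer_instance
  exact HomologicalComplex.quasiIso_map_of_preservesHomology π (ext lam)

/-- a resolution of `N ⊗_R R'` from a resolution of `N` -/
noncomputable def extRes {F : Cx R} {N : ModuleCat.{u} R} (π : F ⟶ sgl N) :
    (extC lam).obj F ⟶ sgl ((ext lam).obj N) :=
  (extC lam).map π ≫
    ((HomologicalComplex.singleMapHomologicalComplex (ext lam) (ComplexShape.up ℤ) 0).app N).hom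

lemma quasiIso_extRes (hlam : lam.Flat) {F : Cx R} {N : ModuleCat.{u} R} (π : F ⟶ sgl N)
    [QuasiIso π] : QuasiIso (extRes lam π) := by
  haveI := quasiIso_extC_map lam hlam π
  dsimp only [extRes]
  exact quasiIso_comp _ _

end

variable {R A : Type u} [CommRing R] [CommRing A] (φ : R →+* A)

/-- (G2): relative tor amplitude can be tested on a jointly faithful family of flat squares -/
theorem hasTorAmp_resC_of_family {J : Type v} (R' A' : J → Type u) [∀ j, CommRing (R' j)]
    [∀ j, CommRing (A' j)] (lam : ∀ j, R →+* R' j) (μ : ∀ j, A →+* A' j)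
    (φ' : ∀ j, R' j →+* A' j) (hsq : ∀ j, (φ' j).comp (lam j) = (μ j).comp φ)
    (hlam : ∀ j, (lam j).Flat) (hμ : ∀ j, (μ j).Flat)
    (hfaith : ∀ H : ModuleCat.{u} A, (∀ j, IsZero (AA (μ j) ⊗ H)) → IsZero H)
    (M₀ : Cx A) (a b : ℤ)
    (h : ∀ j, DRing.HasTorAmplitudeIn (R' j) a b
      (Q.obj ((resC (φ' j)).obj ((extC (μ j)).obj M₀)))) :
    DRing.HasTorAmplitudeIn R a b (Q.obj ((resC φ).obj M₀)) := by
  apply hasTorAmp_of_isZero_homology_tensor
  intro N F π hF hπ i hi
  rw [← isZero_homology_tensor_ext_iff φ M₀ F i]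
  apply hfaith
  intro j
  haveI : PreservesFiniteLimits (tensorLeft (AA (μ j))) :=
    ModuleCat.preservesFiniteLimits_tensorLeft_of_ringHomFlat (hμ j)
  refine IsZero.of_iso ?_ (homologyTCxIso (AA (μ j)) _ i).symm
  rw [← isZero_homology_iff_TCx φ (lam j) (μ j) (φ' j) (hsq j) M₀ F i]
  haveI : ((extC (lam j)).obj F).IsKProjective := Groth.Agent.Lib.Helper1.DT.isKProjective_extCx (lam j) F
  haveI : QuasiIso (extRes (lam j) π) := quasiIso_extRes (lam j) (hlam j) π
  exact isZero_homology_tensor_of_hasTorAmp _ a b (h j) ((ext (lam j)).obj N) _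
    (kflat_of_isKProjective _) (extRes (lam j) π) i hi

variable {R' A' : Type u} [CommRing R'] [CommRing A']
  (lam : R →+* R') (μ : A →+* A') (φ' : R' →+* A')

/-- (G1): relative tor amplitude is preserved by flat squares for which every `R'`-module is
extended from `R` -/
theorem hasTorAmp_resC_extC_of_square' (hsq : φ'.comp lam = μ.comp φ) (hlam : lam.Flat)
    (hμ : μ.Flat)
    (hess : ∀ N : ModuleCat.{u} R', ∃ N₀ : ModuleCat.{u} R, Nonempty ((ext lam).obj N₀ ≅ N))
    (M₀ : Cx A) (a b : ℤ) (h : DRing.HasTorAmplitudeIn R a b (Q.obj ((resC φ).obj M₀))) :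
    DRing.HasTorAmplitudeIn R' a b (Q.obj ((resC φ').obj ((extC μ).obj M₀))) := by
  apply hasTorAmp_of_exists_kflat
  intro N
  obtain ⟨N₀, ⟨eN⟩⟩ := hess N
  obtain ⟨G, π, hG, -, hπ, -⟩ := exists_kprojective_resolution (sgl N₀)
  haveI := hG
  haveI := hπ
  haveI : ((extC lam).obj G).IsKProjective :=
    Groth.Agent.Lib.Helper1.DT.isKProjective_extCx lam G
  haveI : QuasiIso (extRes lam π) := quasiIso_extRes lam hlam π
  refine ⟨(extC lam).obj G, extRes lam π ≫
    (HomologicalComplex.single _ (ComplexShape.up ℤ) 0).map eN.hom,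
    kflat_of_isKProjective _, quasiIso_comp _ _, fun i hi => ?_⟩
  rw [isZero_homology_iff_TCx φ lam μ φ' hsq M₀ G i]
  haveI : PreservesFiniteLimits (tensorLeft (AA μ)) :=
    ModuleCat.preservesFiniteLimits_tensorLeft_of_ringHomFlat hμ
  refine IsZero.of_iso ((tensorLeft (AA μ)).map_isZero ?_) (homologyTCxIso (AA μ) _ i)
  rw [isZero_homology_tensor_ext_iff φ M₀ G i]
  exact isZero_homology_tensor_of_hasTorAmp _ a b h N₀ G (kflat_of_isKProjective G) π i hi

/-- (G1): relative tor amplitude is preserved by flat squares whose base is an epimorphism -/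
theorem hasTorAmp_resC_extC_of_square (hsq : φ'.comp lam = μ.comp φ) (hlam : lam.Flat)
    (hμ : μ.Flat)
    (hepi : ∀ N : ModuleCat.{u} R',
      IsIso ((ModuleCat.extendRestrictScalarsAdj.{u, u, u} lam).counit.app N))
    (M₀ : Cx A) (a b : ℤ) (h : DRing.HasTorAmplitudeIn R a b (Q.obj ((resC φ).obj M₀))) :
    DRing.HasTorAmplitudeIn R' a b (Q.obj ((resC φ').obj ((extC μ).obj M₀))) :=
  hasTorAmp_resC_extC_of_square' φ lam μ φ' hsq hlam hμ
    (fun N => ⟨(res lam).obj N, ⟨@asIso _ _ _ _ _ (hepi N)⟩⟩) M₀ a b h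

end Groth.Agent.Lib.H6xRelTorAmp
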