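import Mathlib
import Groth.Agent.Lib.H6xRelTorSmD
set_option backward.isDefEq.respectTransparency.types false

/-!
# Pushforward along a closed immersion into a smooth scheme: tor amplitude (S6190, helper6)
-/

set_option autoImplicit false
set_option linter.style.haveILetI false

universe u

open CategoryTheory CategoryTheory.Limits AlgebraicGeometry HomologicalComplex TopologicalSpace
  Opposite MonoidalCategory

attribute [local instance] HasDerivedCategory.standard

namespace Groth.Agent.Lib.H6xRelTorAmpG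

open Groth.Agent.Lib.Helper1.BKF Groth.Agent.Lib.Helper1.CI Groth.Agent.Lib.Helper1.Sky
  Groth.Agent.Lib.Helper1.KBC Groth.Agent.Lib.H6xFlatAmpStalk Groth.Agent.Lib.H6xFlatAmpLocal
  Groth.Agent.Lib.Helper1.Tor Groth.Agent.Lib.H6xRelTorAmp Groth.Agent.Lib.H6xPushStalk
  Groth.Agent.Lib.Helper1.StalkTensor

variable {X X' Y : Scheme.{u}}

/-- a standard smooth chart of `V.ι ≫ f'` gives a standard smooth chart of `f'` -/
theorem exists_chart_of_restrict (f' : X' ⟶ Y) (V : X'.Opens) (n : ℕ)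
    (hsm : SmoothOfRelativeDimension n (V.ι ≫ f')) (x' : X') (hx : x' ∈ V) :
    ∃ (W : Y.Opens) (_ : IsAffineOpen W) (V' : X'.Opens) (_ : IsAffineOpen V') (_ : x' ∈ V')
      (e : V' ≤ f' ⁻¹ᵁ W), (f'.appLE W V' e).hom.IsStandardSmoothOfRelativeDimension n := by
  obtain ⟨W, hW, V0, hV0, hx0, e0, hst⟩ :=
    SmoothOfRelativeDimension.exists_isStandardSmoothOfRelativeDimension (n := n)
      (f := V.ι ≫ f') ⟨x', hx⟩
  have e1 : V.ι ''ᵁ V0 ≤ f' ⁻¹ᵁ W := by
    rintro _ ⟨y, hy, rfl⟩
    exact e0 hy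
  refine ⟨W, hW, V.ι ''ᵁ V0, hV0.image_of_isOpenImmersion V.ι, ⟨⟨x', hx⟩, hx0, rfl⟩, e1, ?_⟩
  have hcomp : (V.ι ≫ f').appLE W V0 e0 = f'.appLE W (V.ι ''ᵁ V0) e1 ≫ (V.ι.appIso V0).hom := by
    rw [Scheme.Hom.appIso_hom', Scheme.Hom.appLE_comp_appLE]
  rw [hcomp] at hst
  exact (RingHom.isStandardSmoothOfRelativeDimension_respectsIso (n := n)).cancel_right_isIso
    _ _ |>.1 hst

/-- sections of a sheaf of modules over the empty open set -/
theorem subsingleton_sections_of_eq_bot (M : X.Modules) (U : X.Opens) (hU : U = ⊥) :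
    Subsingleton ((toPM M).obj (op U)) := by
  subst hU
  exact Module.subsingleton Γ(X, ⊥) _

/-- the stalk of a pushforward vanishes outside a closed image -/
theorem isZero_stalkFun_pushforward (i : X ⟶ X') (hcl : IsClosed (Set.range i.base))
    (M : X.Modules) (x' : X') (hx' : x' ∉ Set.range i.base) :
    IsZero ((stalkFun x').obj ((Scheme.Modules.pushforward i).obj M)) := by
  haveI : Subsingleton ((stalkFun x').obj ((Scheme.Modules.pushforward i).obj M)) := by
    refine ⟨fun a a' => ?_⟩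
    suffices h : ∀ a : St (toPM ((Scheme.Modules.pushforward i).obj M)) x', a = 0 from
      (h a).trans (h a').symm
    intro a
    obtain ⟨U, hU, p, rfl⟩ := exists_gm_eq a
    let W : X'.Opens := U ⊓ ⟨(Set.range i.base)ᶜ, hcl.isOpen_compl⟩
    have hW : x' ∈ W := ⟨hU, hx'⟩
    rw [← gm_rs (P := toPM ((Scheme.Modules.pushforward i).obj M)) (x := x')
      (homOfLE inf_le_left : W ⟶ U) hW p]
    have hbot : i ⁻¹ᵁ W = ⊥ := by
      ext y
      simp only [Opens.coe_bot, Set.mem_empty_iff_false, iff_false]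
      intro hy
      exact hy.2 ⟨y, rfl⟩
    haveI : Subsingleton ((toPM M).obj (op (i ⁻¹ᵁ W))) :=
      subsingleton_sections_of_eq_bot M _ hbot
    have h0 : rs (toPM ((Scheme.Modules.pushforward i).obj M)) (homOfLE inf_le_left : W ⟶ U) p = 0 :=
      Subsingleton.elim (α := (toPM M).obj (op (i ⁻¹ᵁ W))) _ _
    rw [h0, map_zero]
  exact ModuleCat.isZero_of_subsingleton _

/-- S6190 -/
theorem main_smooth (i : X ⟶ X') [IsClosedImmersion i] (f' : X' ⟶ Y) [Smooth f'] (d : ℕ)
    (hd : ∀ x : X', ∃ (n : ℕ) (V : X'.Opens), n ≤ d ∧ x ∈ V ∧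
      SmoothOfRelativeDimension n (V.ι ≫ f'))
    (F : CochainComplex X.Modules ℤ) (a b : ℤ) (hF : DerSch.HasTorAmplitude (i ≫ f') a b F) :
    DCoh.HasFlatAmplitudeIn (a - d) b (DCoh.toD X'
      (((Scheme.Modules.pushforward i).mapHomologicalComplex (ComplexShape.up ℤ)).obj F)) := by
  apply hasFlatAmplitudeIn_of_stalk
  intro x'
  by_cases hx' : x' ∈ Set.range i.base
  · obtain ⟨x, rfl⟩ := hx'
    obtain ⟨n, V, hnd, hxV, hsm⟩ := hd (i.base x)
    obtain ⟨W, hW, V', hV', hxV', e, hst⟩ := exists_chart_of_restrict f' V n hsm (i.base x) hxV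
    have h1 := hasTorAmplitudeAt_of_comp_chart i f' F a b x n W hW V' hV' e hxV' hst (hF x)
    have h2 := hasTorAmp_of_iso (DerivedCategory.Q.mapIso (stalkCxOverIso i x F ≪≫
      (stalkPushCIso i i.isClosedEmbedding.isInducing x F).symm)) h1
    exact hasTorAmp_mono (by omega) le_rfl h2
  · refine hasTorAmp_of_isZero _ (Groth.Agent.Lib.H6xSuppPush.isZero_Q_obj_of_acyc _ (fun n => ?_))
      _ _
    exact isZero_homology_of_isZero_X _ n
      (isZero_stalkFun_pushforward i i.isClosedEmbedding.isClosed_range (F.X n) x' hx')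

end Groth.Agent.Lib.H6xRelTorAmpG
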