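import Mathlib
import Groth.Agent.Lib.H6xRelTorSmE
import Groth.Agent.Lib.H6xRelTorLocB
set_option backward.isDefEq.respectTransparency.types false

/-!
# Locally finite tor amplitude and pushforward along a closed immersion into a smooth scheme
(S6197, helper6)
-/

set_option autoImplicit false
set_option linter.style.haveILetI false

universe u

open CategoryTheory CategoryTheory.Limits AlgebraicGeometry HomologicalComplex TopologicalSpace
  Opposite MonoidalCategory

attribute [local instance] HasDerivedCategory.standard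

namespace Groth.Agent.Lib.H6xRelTorAmp

open DerivedCategory Groth.Agent.Lib.Helper1.KF Groth.Agent.Lib.Helper1.Tor
  Groth.Agent.Lib.Helper1.DT Groth.Agent.Lib.Helper1.TorO Groth.Agent.Lib.Helper1.KBC

variable {R R' : Type u} [CommRing R] [CommRing R'] (φ : R →+* R')

/-- flat base change preserves isomorphisms in the derived category -/
theorem nonempty_Q_extC_iso (hφ : φ.Flat) {X Y : Cx R} (e : Q.obj X ≅ Q.obj Y) :
    Nonempty (Q.obj ((extC φ).obj X) ≅ Q.obj ((extC φ).obj Y)) := by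
  haveI : PreservesFiniteLimits (ext φ) :=
    ModuleCat.preservesFiniteLimits_extendScalars_of_flat.{u} hφ
  haveI : PreservesFiniteColimits (ext φ) := by
    haveI := (ModuleCat.extendRestrictScalarsAdj.{u, u, u} φ).leftAdjoint_preservesColimits
    infer_instance
  exact ⟨((ext φ).mapDerivedCategoryFactors.app X).symm ≪≫ (ext φ).mapDerivedCategory.mapIso e ≪≫
    (ext φ).mapDerivedCategoryFactors.app Y⟩

/-- flat base change preserves tor amplitude -/
theorem hasTorAmp_extC_of_flat (hφ : φ.Flat) (S : Cx R) (a b : ℤ)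
    (h : DRing.HasTorAmplitudeIn R a b (Q.obj S)) :
    DRing.HasTorAmplitudeIn R' a b (Q.obj ((extC φ).obj S)) := by
  obtain ⟨E, hE, hEf, ⟨e⟩⟩ := h
  obtain ⟨e1⟩ := nonempty_Q_extC_iso φ hφ e
  refine ⟨(extC φ).obj E, fun i hi => (ext φ).map_isZero (hE i hi), fun i => ?_, ⟨e1⟩⟩
  letI := φ.toAlgebra
  haveI : Module.Flat R (E.X i) := hEf i
  exact inferInstanceAs (Module.Flat R' (TensorProduct R R' (E.X i)))

end Groth.Agent.Lib.H6xRelTorAmp

namespace Groth.Agent.Lib.H6xRelTorAmpG

open Groth.Agent.Lib.Helper1.BKF Groth.Agent.Lib.Helper1.CI Groth.Agent.Lib.Helper1.Sky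
  Groth.Agent.Lib.Helper1.KBC Groth.Agent.Lib.H6xFlatAmpStalk Groth.Agent.Lib.H6xFlatAmpLocal
  Groth.Agent.Lib.Helper1.Tor Groth.Agent.Lib.H6xRelTorAmp Groth.Agent.Lib.H6xPushStalk

variable {X X' Y : Scheme.{u}}

/-- pointwise: relative tor amplitude and composition with a flat morphism -/
theorem hasTorAmplitudeAt_comp_flat (i : X ⟶ X') (f' : X' ⟶ Y) [Flat f']
    (F : CochainComplex X.Modules ℤ) (a b : ℤ) (x : X) (hF : DerSch.HasTorAmplitudeAt i a b F x) :
    DerSch.HasTorAmplitudeAt (i ≫ f') a b F x := by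
  have h1 := hasTorAmp_of_iso (DerivedCategory.Q.mapIso (stalkCxOverIso i x F)) hF
  have h2 := hasTorAmp_resC_of_flat (f'.stalkMap (i.base x)).hom (Flat.stalkMap f' (i.base x))
    _ a b h1
  have hχ : ((i ≫ f').stalkMap x).hom = (i.stalkMap x).hom.comp (f'.stalkMap (i.base x)).hom := by
    rw [Scheme.Hom.stalkMap_comp]
    rfl
  exact hasTorAmp_of_iso (DerivedCategory.Q.mapIso (stalkCxOverIso (i ≫ f') x F ≪≫
    resCCompIso (f'.stalkMap (i.base x)).hom (i.stalkMap x).hom _ hχ _)).symm h2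

/-- stalkwise tor amplitude passes to the restriction to an open -/
theorem hasTorAmp_stalk_restrictCx (V : X.Opens) (F : CochainComplex X.Modules ℤ) (a b : ℤ)
    (y : V.toScheme) (h : DRing.HasTorAmplitudeIn (Ox (V.ι.base y)) a b
      (DerivedCategory.Q.obj ((stalkC (V.ι.base y)).obj F))) :
    DRing.HasTorAmplitudeIn (Ox y) a b
      (DerivedCategory.Q.obj ((stalkC y).obj ((DCoh.restrictCx V).obj F))) := by
  haveI : IsIso (V.ι.stalkMap y) := inferInstance
  have hbij : Function.Bijective (V.ι.stalkMap y).hom :=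
    ConcreteCategory.bijective_of_isIso (V.ι.stalkMap y)
  have hflat : (V.ι.stalkMap y).hom.Flat := by
    letI : Algebra (Ox (V.ι.base y)) (Ox y) := (V.ι.stalkMap y).hom.toAlgebra
    let e : Ox (V.ι.base y) ≃ₗ[Ox (V.ι.base y)] Ox y :=
      LinearEquiv.ofBijective (Algebra.linearMap (Ox (V.ι.base y)) (Ox y)) hbij
    exact Module.Flat.of_linearEquiv e.symm
  have h1 := hasTorAmp_extC_of_flat (V.ι.stalkMap y).hom hflat _ a b h
  exact hasTorAmp_of_iso (DerivedCategory.Q.mapIso
    ((stalkC y).mapIso (restrictCxPullCIso V F) ≪≫ stalkPullCIso V.ι y F)).symm h1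

/-- stalkwise tor amplitude on the ambient scheme from the restriction to an open -/
theorem hasTorAmp_stalk_of_restrictCx (V : X.Opens) (F : CochainComplex X.Modules ℤ) (a b : ℤ)
    (y : V.toScheme) (h : DRing.HasTorAmplitudeIn (Ox y) a b
      (DerivedCategory.Q.obj ((stalkC y).obj ((DCoh.restrictCx V).obj F)))) :
    DRing.HasTorAmplitudeIn (Ox (V.ι.base y)) a b
      (DerivedCategory.Q.obj ((stalkC (V.ι.base y)).obj F)) := by
  apply hasTorAmp_stalk_of_pullC V.ι F a b y
  exact hasTorAmp_of_iso (DerivedCategory.Q.mapIso ((stalkC y).mapIso (restrictCxPullCIso V F))) h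

/-- the stalks of a pushforward along a closed immersion -/
theorem hasTorAmp_stalk_push (i : X ⟶ X') [IsClosedImmersion i]
    (F : CochainComplex X.Modules ℤ) (a b : ℤ) (x' : X')
    (h : ∀ x : X, i.base x = x' → DerSch.HasTorAmplitudeAt i a b F x) :
    DRing.HasTorAmplitudeIn (Ox x') a b (DerivedCategory.Q.obj ((stalkC x').obj
      (((Scheme.Modules.pushforward i).mapHomologicalComplex (ComplexShape.up ℤ)).obj F))) := by
  by_cases hx' : x' ∈ Set.range i.base
  · obtain ⟨x, rfl⟩ := hx'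
    exact hasTorAmp_of_iso (DerivedCategory.Q.mapIso (stalkCxOverIso i x F ≪≫
      (stalkPushCIso i i.isClosedEmbedding.isInducing x F).symm)) (h x rfl)
  · refine hasTorAmp_of_isZero _ (Groth.Agent.Lib.H6xSuppPush.isZero_Q_obj_of_acyc _ (fun n => ?_))
      _ _
    exact isZero_homology_of_isZero_X _ n
      (isZero_stalkFun_pushforward i i.isClosedEmbedding.isClosed_range (F.X n) x' hx')

/-- S6197 -/
theorem main_loc (i : X ⟶ X') [IsClosedImmersion i] (f' : X' ⟶ Y) [Smooth f']
    (F : CochainComplex X.Modules ℤ) :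
    DerSch.LocFiniteTorAmplitude (i ≫ f') F ↔
      DCoh.LocHasFiniteTorDim (DCoh.toD X'
        (((Scheme.Modules.pushforward i).mapHomologicalComplex (ComplexShape.up ℤ)).obj F)) := by
  constructor
  · intro hF x'
    -- a common form of the conclusion
    suffices hs : ∃ (V' : X'.Opens) (a b : ℤ), x' ∈ V' ∧ ∀ y : X', y ∈ V' →
        ∀ x : X, i.base x = y → DerSch.HasTorAmplitudeAt i a b F x by
      obtain ⟨V', a, b, hxV', hs⟩ := hs
      refine ⟨V', a, b, hxV', fun F' ⟨e⟩ => ?_⟩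
      apply hasFlatAmplitudeIn_of_stalk
      intro y
      apply hasTorAmp_stalk_restrictCx
      obtain ⟨e1⟩ := nonempty_Q_stalkC_iso (V'.ι.base y) _ _ e
      exact hasTorAmp_of_iso e1.symm (hasTorAmp_stalk_push i F a b _ (hs _ y.2))
    by_cases hx' : x' ∈ Set.range i.base
    · obtain ⟨x, rfl⟩ := hx'
      obtain ⟨V, a, b, hxV, hV⟩ := hF x
      obtain ⟨t, ht, htV⟩ := i.isClosedEmbedding.isInducing.isOpen_iff.1 V.2
      obtain ⟨W, hW, V2, hV2, hxV2, e, hst⟩ := Smooth.exists_isStandardSmooth f' (i.base x)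
      obtain ⟨n, hn⟩ := exists_relDim_of_isStandardSmooth hst
      refine ⟨⟨t, ht⟩ ⊓ V2, a - n, b, ⟨?_, hxV2⟩, ?_⟩
      · change x ∈ i.base ⁻¹' t
        rw [htV]
        exact hxV
      · rintro _ ⟨hy1, hy2⟩ x1 rfl
        have hx1 : x1 ∈ V := by
          have : x1 ∈ i.base ⁻¹' t := hy1
          rw [htV] at this
          exact this
        exact hasTorAmplitudeAt_of_comp_chart i f' F a b x1 n W hW V2 hV2 e hy2 hn (hV x1 hx1)
    · refine ⟨⟨(Set.range i.base)ᶜ, i.isClosedEmbedding.isClosed_range.isOpen_compl⟩, 0, 0, hx', ?_⟩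
      rintro _ hy x1 rfl
      exact absurd ⟨x1, rfl⟩ hy
  · intro hF x
    obtain ⟨V', a, b, hxV', h⟩ := hF (i.base x)
    have h0 := h _ ⟨Iso.refl _⟩
    refine ⟨i ⁻¹ᵁ V', a, b, hxV', fun x1 hx1 => ?_⟩
    apply hasTorAmplitudeAt_comp_flat
    have h1 := hasTorAmp_stalk_of_hasFlatAmplitudeIn _ a b h0 ⟨i.base x1, hx1⟩
    have h2 := hasTorAmp_stalk_of_restrictCx V' _ a b ⟨i.base x1, hx1⟩ h1
    exact hasTorAmp_of_iso (DerivedCategory.Q.mapIso
      (stalkPushCIso i i.isClosedEmbedding.isInducing x1 F ≪≫ (stalkCxOverIso i x1 F).symm)) h2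

end Groth.Agent.Lib.H6xRelTorAmpG
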