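import Mathlib
import Groth.Agent.Lib.H6xRelTorSmF
import Groth.Agent.Lib.Helper1TorH
set_option backward.isDefEq.respectTransparency.types false

/-!
# Tor amplitude of flat base changes of a bounded above flat complex (ring level, helper6)

For a bounded above complex `P` of flat `A`-modules which is exact below `a` and a flat ring map
`A → A'`, the base change `P ⊗ A'` has tor amplitude in `[a, d]` iff `coker(d^{a-1}) ⊗ A'` is flat.
-/

set_option autoImplicit false
set_option linter.style.haveILetI false

universe u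

open CategoryTheory CategoryTheory.Limits HomologicalComplex MonoidalCategory

attribute [local instance] HasDerivedCategory.standard

namespace Groth.Agent.Lib.H6xRelTorAmp

open DerivedCategory Groth.Agent.Lib.Helper1.KF Groth.Agent.Lib.Helper1.Tor
  Groth.Agent.Lib.Helper1.DT Groth.Agent.Lib.Helper1.TorO Groth.Agent.Lib.Helper1.KBC

variable {A A' : Type u} [CommRing A] [CommRing A'] (φ : A →+* A')

lemma preservesFiniteLimits_ext (hφ : φ.Flat) : PreservesFiniteLimits (ext φ) :=
  ModuleCat.preservesFiniteLimits_extendScalars_of_flat.{u} hφ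

lemma preservesFiniteColimits_ext : PreservesFiniteColimits (ext φ) := by
  haveI := (ModuleCat.extendRestrictScalarsAdj.{u, u, u} φ).leftAdjoint_preservesColimits
  infer_instance

/-- opcycles commute with flat base change -/
noncomputable def opcyclesExtCIso (hφ : φ.Flat) (P : Cx A) (a : ℤ) :
    ((extC φ).obj P).opcycles a ≅ (ext φ).obj (P.opcycles a) := by
  haveI := preservesFiniteLimits_ext φ hφ
  haveI := preservesFiniteColimits_ext φ
  exact (P.sc a).mapOpcyclesIso (ext φ)

/-- homology commutes with flat base change -/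
noncomputable def homologyExtCIso (hφ : φ.Flat) (P : Cx A) (a : ℤ) :
    ((extC φ).obj P).homology a ≅ (ext φ).obj (P.homology a) := by
  haveI := preservesFiniteLimits_ext φ hφ
  haveI := preservesFiniteColimits_ext φ
  exact (P.sc a).mapHomologyIso (ext φ)

lemma exactAt_extC (hφ : φ.Flat) (P : Cx A) (i : ℤ) (h : P.ExactAt i) :
    ((extC φ).obj P).ExactAt i := by
  rw [HomologicalComplex.exactAt_iff_isZero_homology] at h ⊢
  exact IsZero.of_iso ((ext φ).map_isZero h) (homologyExtCIso φ hφ P i)

lemma termwiseFlat_extC (P : Cx A) (hPf : DRing.TermwiseFlat P) :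
    DRing.TermwiseFlat ((extC φ).obj P) := by
  intro i
  letI := φ.toAlgebra
  haveI : Module.Flat A (P.X i) := hPf i
  exact inferInstanceAs (Module.Flat A' (TensorProduct A A' (P.X i)))

/-- (1) flatness of the base change of `coker(d^{a-1})` gives tor amplitude -/
theorem hasTorAmp_extC_of_flat_opcycles (hφ : φ.Flat) (P : Cx A) (d : ℤ)
    (hPb : DRing.VanishesAbove P d) (hPf : DRing.TermwiseFlat P) (a : ℤ)
    (hlow : ∀ i : ℤ, i < a → P.ExactAt i)
    (hfl : Module.Flat A' ((ext φ).obj (P.opcycles a))) :
    DRing.HasTorAmplitudeIn A' a d (Q.obj ((extC φ).obj P)) := by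
  have hb : DRing.VanishesAbove ((extC φ).obj P) d := fun i hi => (ext φ).map_isZero (hPb i hi)
  refine hasTorAmp_of_flat_opcycles ((extC φ).obj P) d hb (termwiseFlat_extC φ P hPf) a d
    (fun i hi => exactAt_extC φ hφ P i (hlow i hi)) (fun i hi => ?_) ?_
  · rw [HomologicalComplex.exactAt_iff_isZero_homology]
    exact Groth.Agent.Lib.Helper1.CI.isZero_homology_of_isZero_X _ i (hb i hi)
  · exact Module.Flat.of_linearEquiv (opcyclesExtCIso φ hφ P a).toLinearEquiv

/-- (2) tor amplitude gives flatness of the base change of `coker(d^{a-1})` -/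
theorem flat_ext_opcycles_of_hasTorAmp (hφ : φ.Flat) (P : Cx A) (d : ℤ)
    (hPb : DRing.VanishesAbove P d) (hPf : DRing.TermwiseFlat P) (a b : ℤ)
    (h : DRing.HasTorAmplitudeIn A' a b (Q.obj ((extC φ).obj P))) :
    Module.Flat A' ((ext φ).obj (P.opcycles a)) := by
  have hb : DRing.VanishesAbove ((extC φ).obj P) d := fun i hi => (ext φ).map_isZero (hPb i hi)
  have hf := termwiseFlat_extC φ P hPf
  obtain ⟨E, hE, hEf, ⟨e⟩⟩ := h
  have htv : TorVan ((extC φ).obj P) a b := torVan_of_iso _ E d hb hf a b hE hEf e
  have h1 : Module.Flat A' (((extC φ).obj P).opcycles a) :=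
    flat_of_torVan _ hf a b htv (((extC φ).obj P).pOpcycles a).hom
      ((ModuleCat.epi_iff_surjective (((extC φ).obj P).pOpcycles a)).1 inferInstance)
      (fexact_d_pOpcycles _ a)
  exact Module.Flat.of_linearEquiv (opcyclesExtCIso φ hφ P a).symm.toLinearEquiv

end Groth.Agent.Lib.H6xRelTorAmp
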