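import Mathlib
import Groth.Agent.Lib.H6xTorSpreadA
import Groth.Agent.Lib.Helper2FlatOver2
import Groth.Agent.Lib.Helper1TorO
set_option backward.isDefEq.respectTransparency.types false

/-!
# Ring-level lemmas for relative flat amplitude (helper6)

* `kflat_resC_of_flat`: restriction of scalars along a flat ring map preserves K-flatness;
* `flat_cycles_of_torVan`: for a termwise flat complex with tensor-vanishing above `b`, the cycles
  in degree `b` are flat (no boundedness assumption).
-/

set_option autoImplicit false
set_option linter.style.haveILetI false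

universe u

open CategoryTheory CategoryTheory.Limits HomologicalComplex MonoidalCategory

attribute [local instance] HasDerivedCategory.standard

namespace Groth.Agent.Lib.H6xRelTorAmp

open DerivedCategory Groth.Agent.Lib.Helper1.KF Groth.Agent.Lib.Helper1.Tor
  Groth.Agent.Lib.Helper1.DT Groth.Agent.Lib.Helper1.TorO Groth.Agent.Lib.Helper1.KBC

section KFlat

variable {A B : Type u} [CommRing A] [CommRing B] (φ : A →+* B)

lemma acyc_resC_iff (T : Cx B) : Acyc ((resC φ).obj T) ↔ Acyc T :=
  forall_congr' fun i => isZero_homology_resC_iff φ T i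

lemma acyc_extC (hφ : φ.Flat) (N : Cx A) (hN : Acyc N) : Acyc ((extC φ).obj N) :=
  fun i => IsZero.of_iso ((ext φ).map_isZero (hN i)) (homologyExtCIso φ hφ N i)

/-- restriction of scalars along a flat ring map preserves K-flatness (on the left) -/
theorem kflatL_resC_of_flat (hφ : φ.Flat) (P : Cx B) (hP : KFlatL P) :
    KFlatL ((resC φ).obj P) := by
  intro N hN
  obtain ⟨e⟩ := nonempty_projIso' φ P N
  exact Acyc.of_iso e ((acyc_resC_iff φ _).2 (hP _ (acyc_extC φ hφ N hN)))

end KFlat

section Cycles

variable {R : Type u} [CommRing R]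

lemma fexact_d_pOpcycles' (K : Cx R) (i j : ℤ) (hij : i + 1 = j) :
    Function.Exact (K.d i j).hom (K.pOpcycles j).hom := by
  have hcok := K.opcyclesIsCokernel i j (by simp; omega)
  have hS : (ShortComplex.mk (K.d i j) (K.pOpcycles j) (K.d_pOpcycles i j)).Exact :=
    ShortComplex.exact_of_g_is_cokernel _ hcok
  rw [ShortComplex.ShortExact.moduleCat_exact_iff_function_exact] at hS
  exact hS

lemma fexact_iCycles_d' (K : Cx R) (j k : ℤ) (hjk : j + 1 = k) :
    Function.Exact (K.iCycles j).hom (K.d j k).hom := by
  have hker := K.cyclesIsKernel j k (by simp; omega)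
  have hS : (ShortComplex.mk (K.iCycles j) (K.d j k) (K.iCycles_d j k)).Exact :=
    ShortComplex.exact_of_f_is_kernel _ hker
  rw [ShortComplex.ShortExact.moduleCat_exact_iff_function_exact] at hS
  exact hS

lemma injective_iCycles (K : Cx R) (j : ℤ) : Function.Injective (K.iCycles j).hom :=
  (ModuleCat.mono_iff_injective (K.iCycles j)).1 inferInstance

/-- C1: flat opcycles give flat cycles at an exact spot -/
lemma flat_cycles_of_flat_opcycles (K : Cx R) (j : ℤ) (hex : K.ExactAt j)
    (hX : Module.Flat R (K.X j)) (hO : Module.Flat R (K.opcycles j)) :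
    Module.Flat R (K.cycles j) := by
  have hexact : Function.Exact (K.iCycles j).hom (K.pOpcycles j).hom := by
    intro y
    rw [fexact_d_pOpcycles' K (j - 1) j (by omega) y]
    rw [← (exactAt_iff_fexact K (j - 1) j (j + 1) (by omega) rfl).1 hex y]
    exact fexact_iCycles_d' K j (j + 1) rfl y
  exact (Groth.Agent.Lib.Helper2.FlatOver.flat_iff_of_exact_of_flat (K.iCycles j).hom
    (K.pOpcycles j).hom (injective_iCycles K j)
    ((ModuleCat.epi_iff_surjective (K.pOpcycles j)).1 inferInstance) hexact).1 hX

/-- C2: descending step -/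
lemma flat_cycles_of_flat_cycles_succ (K : Cx R) (j k : ℤ) (hjk : j + 1 = k) (hex : K.ExactAt k)
    (hX : Module.Flat R (K.X j)) (hZ : Module.Flat R (K.cycles k)) :
    Module.Flat R (K.cycles j) := by
  have hti : ∀ x : K.X j, (K.iCycles k).hom ((K.toCycles j k).hom x) = (K.d j k).hom x := fun x => by
    have := K.toCycles_i j k
    exact congrArg (fun f => f.hom x) this
  have hsurj : Function.Surjective (K.toCycles j k).hom := by
    intro z
    have h1 : (K.d k (k + 1)).hom ((K.iCycles k).hom z) = 0 :=
      (fexact_iCycles_d' K k (k + 1) rfl _).2 ⟨z, rfl⟩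
    obtain ⟨x, hx⟩ := ((exactAt_iff_fexact K j k (k + 1) hjk rfl).1 hex _).1 h1
    refine ⟨x, injective_iCycles K k ?_⟩
    rw [hti, hx]
  have hexact : Function.Exact (K.iCycles j).hom (K.toCycles j k).hom := by
    intro y
    rw [← fexact_iCycles_d' K j k hjk y]
    constructor
    · intro h
      rw [← hti, h, map_zero]
    · intro h
      apply injective_iCycles K k
      rw [hti, h, map_zero]
  exact (Groth.Agent.Lib.Helper2.FlatOver.flat_iff_of_exact_of_flat (K.iCycles j).hom
    (K.toCycles j k).hom (injective_iCycles K j) hsurj hexact).1 hX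

/-- B2: the cycles in degree `b` of a termwise flat complex with tensor-vanishing above `b` -/
theorem flat_cycles_of_torVan (K : Cx R) (hflat : DRing.TermwiseFlat K) (a b : ℤ)
    (h : TorVan K a b) : Module.Flat R (K.cycles b) := by
  have hex : ∀ i : ℤ, b < i → K.ExactAt i := fun i hi => h.exactAt i (Or.inr hi)
  have := hflat (b + 2)
  have hO : Module.Flat R (K.opcycles (b + 2)) := by
    refine flat_of_forall_exact_lTensor (K.d b (b + 1)).hom (K.d (b + 1) (b + 2)).hom
      (K.pOpcycles (b + 2)).hom ((ModuleCat.epi_iff_surjective (K.pOpcycles (b + 2))).1 inferInstance)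
      (fexact_d_pOpcycles' K (b + 1) (b + 2) (by omega)) ?_ ?_
    · exact (exactAt_iff_fexact K b (b + 1) (b + 2) rfl (by omega)).1 (hex _ (by omega))
    · intro I
      have h1 := h (ModuleCat.of R (R ⧸ I)) (b + 1) (Or.inr (by omega))
      rw [exactAt_TC_iff _ K b (b + 1) (b + 2) rfl (by omega)] at h1
      exact h1
  have h2 : Module.Flat R (K.cycles (b + 2)) :=
    flat_cycles_of_flat_opcycles K (b + 2) (hex _ (by omega)) (hflat _) hO
  have h1 : Module.Flat R (K.cycles (b + 1)) :=
    flat_cycles_of_flat_cycles_succ K (b + 1) (b + 2) (by omega) (hex _ (by omega)) (hflat _) h2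
  exact flat_cycles_of_flat_cycles_succ K b (b + 1) rfl (hex _ (by omega)) (hflat _) h1

end Cycles

end Groth.Agent.Lib.H6xRelTorAmp
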