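import Mathlib
import Groth.Agent.Lib.H6xPerfFlatPCB
set_option backward.isDefEq.respectTransparency.types false

/-!
# Perfect objects are relatively perfect over a flat base (helper6)
-/

set_option autoImplicit false
set_option linter.style.haveILetI false

universe u

open CategoryTheory CategoryTheory.Limits AlgebraicGeometry HomologicalComplex TopologicalSpace
  Opposite MonoidalCategory

attribute [local instance] HasDerivedCategory.standard

namespace Groth.Agent.Lib.H6xRelPerfOfPerf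

open Groth.Agent.Lib.H6xPerf23 Groth.Agent.Lib.H6xPerfAff Groth.Agent.Lib.H6xPerfFlatPC

variable {X S : Scheme.{u}}

/-- a flat module on `X` is flat over `S` when `X` is flat over `S` -/
theorem isFlatOver_of_isFlat (f : X ⟶ S) [Flat f] (M : X.Modules) (hM : FlatMod.IsFlat M) :
    FlatMod.IsFlatOver f M := by
  intro x
  have hφ : (f.stalkMap x).hom.Flat := Flat.stalkMap f x
  letI : Algebra (S.presheaf.stalk (f.base x)) (X.presheaf.stalk x) := (f.stalkMap x).hom.toAlgebra
  letI : Module (S.presheaf.stalk (f.base x)) (M.presheaf.stalk x) :=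
    FlatMod.moduleStalkOver f M x
  haveI : IsScalarTower (S.presheaf.stalk (f.base x)) (X.presheaf.stalk x)
      (M.presheaf.stalk x) := IsScalarTower.of_algebraMap_smul fun r m => rfl
  haveI : Module.Flat (S.presheaf.stalk (f.base x)) (X.presheaf.stalk x) := hφ
  haveI : Module.Flat (X.presheaf.stalk x) (M.presheaf.stalk x) := hM x
  exact Module.Flat.trans (S.presheaf.stalk (f.base x)) (X.presheaf.stalk x) (M.presheaf.stalk x)

/-- S7248 -/
theorem main (f : X ⟶ S) [Flat f] (E : DCoh.D X) (hE : DCoh.IsPerfect E) :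
    (∀ m : ℤ, DCoh.IsPseudoCoherentD m E) ∧ DCoh.LocHasFiniteRelTorDim f E := by
  refine ⟨fun m => isPseudoCoherentD_of_isPerfect E hE m, fun x => ?_⟩
  obtain ⟨V, hxV, hV⟩ := hE x
  obtain ⟨P, ⟨⟨a, b, hP⟩, hPf⟩, ⟨e⟩⟩ := hV (DerivedCategory.Q.objPreimage E)
    ⟨DerivedCategory.Q.objObjPreimageIso E⟩
  refine ⟨V, a, b, hxV, fun F' ⟨eF'⟩ => ?_⟩
  refine ⟨P, hP, fun i => isFlatOver_of_isFlat (V.ι ≫ f) _
    (Groth.Agent.Lib.R2H2.PullLF.isFlat_of_isFinLocFree _ (hPf i)), ⟨?_⟩⟩
  exact e.symm ≪≫ restrictCxIso V E _ (DerivedCategory.Q.objObjPreimageIso E) ≪≫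
    (restrictCxIso V E F' eF').symm

end Groth.Agent.Lib.H6xRelPerfOfPerf
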