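import Mathlib
import Groth.Agent.Lib.H6xRelFlatA
import Groth.Agent.Lib.H6xRelTorSmF
import Groth.Agent.Lib.H6xRelPerfOfPerf
import Groth.Agent.Lib.H6xTorQc
set_option backward.isDefEq.respectTransparency.types false

/-!
# Stalkwise relative tor amplitude gives a representative with terms flat over the base (helper6)

For a flat morphism `f : X ⟶ S` and a complex `F` of `O_X`-modules with tor amplitude in `[a, b]`
relative to `f` (stalkwise), `F` is isomorphic in `D(O_X)` to a complex of `O_X`-modules flat over `S`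
placed in `[a, b]`.
-/

set_option autoImplicit false
set_option linter.style.haveILetI false

universe u

open CategoryTheory CategoryTheory.Limits AlgebraicGeometry HomologicalComplex TopologicalSpace
  Opposite MonoidalCategory

attribute [local instance] HasDerivedCategory.standard

namespace Groth.Agent.Lib.H6xRelFlat

open Groth.Agent.Lib.Helper1.BKF Groth.Agent.Lib.Helper1.CI Groth.Agent.Lib.Helper1.Sky
  Groth.Agent.Lib.Helper1.KBC Groth.Agent.Lib.H6xFlatAmpStalk Groth.Agent.Lib.H6xFlatAmpLocal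
  Groth.Agent.Lib.Helper1.Tor Groth.Agent.Lib.H6xRelTorAmp Groth.Agent.Lib.H6xRelTorAmpG
  Groth.Agent.Lib.Helper1.KF Groth.Agent.Lib.Helper1.TorO DerivedCategory

variable {X S : Scheme.{u}} (f : X ⟶ S)

/-- unfolding of flatness over the base at a point -/
lemma isFlatOverAt_iff (M : X.Modules) (y : X) :
    FlatMod.IsFlatOverAt f M y ↔
      Module.Flat (Ox (f.base y)) ((res (f.stalkMap y).hom).obj ((stalkFun y).obj M)) := Iff.rfl

lemma isFlatOverAt_of_iso {M M' : X.Modules} (e : M ≅ M') (y : X)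
    (h : FlatMod.IsFlatOverAt f M y) : FlatMod.IsFlatOverAt f M' y := by
  rw [isFlatOverAt_iff] at h ⊢
  exact @Module.Flat.of_linearEquiv _ _ _ _ _ _ _ _ h
    (((res (f.stalkMap y).hom).mapIso ((stalkFun y).mapIso e)).symm.toLinearEquiv)

lemma isFlatOverAt_of_isZero (M : X.Modules) (hM : IsZero M) (y : X) :
    FlatMod.IsFlatOverAt f M y := by
  rw [isFlatOverAt_iff]
  have hz : IsZero ((res (f.stalkMap y).hom).obj ((stalkFun y).obj M)) :=
    (res (f.stalkMap y).hom).map_isZero ((stalkFun y).map_isZero hM)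
  have hs : Subsingleton ((res (f.stalkMap y).hom).obj ((stalkFun y).obj M)) :=
    ModuleCat.subsingleton_of_isZero hz
  exact @Module.Flat.of_free _ _ _ _ _ (@Module.Free.of_subsingleton _ _ _ _ _ hs)

/-- the complex of stalks over the base, as one functor -/
noncomputable abbrev SR (y : X) : X.Modules ⥤ ModuleCat.{u} (Ox (f.base y)) :=
  stalkFun y ⋙ res (f.stalkMap y).hom

instance (y : X) : PreservesFiniteLimits (SR f y) := by
  haveI : PreservesFiniteLimits (res (f.stalkMap y).hom) := by
    haveI := (ModuleCat.extendRestrictScalarsAdj.{u, u, u} (f.stalkMap y).hom).rightAdjoint_preservesLimits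
    infer_instance
  exact comp_preservesFiniteLimits _ _

instance (y : X) : PreservesFiniteColimits (SR f y) := by
  haveI : PreservesFiniteColimits (res (f.stalkMap y).hom) := by
    haveI := (ModuleCat.restrictCoextendScalarsAdj.{u, u, u} (f.stalkMap y).hom).leftAdjoint_preservesColimits
    infer_instance
  exact comp_preservesFiniteColimits _ _

/-- the complex `resC (stalkC K)` -/
noncomputable abbrev SRC (y : X) (K : CochainComplex X.Modules ℤ) : Cx (Ox (f.base y)) :=
  (resC (f.stalkMap y).hom).obj ((stalkC y).obj K)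

/-- cycles of the complex of stalks over the base -/
noncomputable def cyclesSRCIso (y : X) (K : CochainComplex X.Modules ℤ) (i : ℤ) :
    (SRC f y K).cycles i ≅ (SR f y).obj (K.cycles i) :=
  (K.sc i).mapCyclesIso (SR f y)

/-- opcycles of the complex of stalks over the base -/
noncomputable def opcyclesSRCIso (y : X) (K : CochainComplex X.Modules ℤ) (i : ℤ) :
    (SRC f y K).opcycles i ≅ (SR f y).obj (K.opcycles i) :=
  (K.sc i).mapOpcyclesIso (SR f y)

lemma termwiseFlat_SRC (K : CochainComplex X.Modules ℤ)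
    (hKf : ∀ i : ℤ, FlatMod.IsFlatOver f (K.X i)) (y : X) : DRing.TermwiseFlat (SRC f y K) :=
  fun i => (isFlatOverAt_iff f _ y).1 (hKf i y)

/-- the stalkwise tor-vanishing of a K-flat resolution -/
theorem torVan_SRC [Flat f] (F K : CochainComplex X.Modules ℤ) (hK : DCoh.IsKFlat K)
    (eK : DCoh.toD X K ≅ DCoh.toD X F) (a b : ℤ) (y : X)
    (h : DerSch.HasTorAmplitudeAt f a b F y) : TorVan (SRC f y K) a b := by
  have hKy : RKFlat ((stalkC y).obj K) := rKFlat_stalk_of_isKFlat y K hK
  have hKy' : KFlat ((stalkC y).obj K) := fun L hL => hKy L hL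
  have hRy : KFlat (SRC f y K) :=
    (kflatL_resC_of_flat (f.stalkMap y).hom (Flat.stalkMap f y) _ hKy'.kflatL).kflat
  obtain ⟨e1⟩ := nonempty_Q_stalkC_iso y K F eK
  obtain ⟨e2⟩ := nonempty_Q_resC_iso (f.stalkMap y).hom e1
  have h1 := hasTorAmp_of_iso (Q.mapIso (stalkCxOverIso f y F)) h
  obtain ⟨E, hE, hEf, ⟨e3⟩⟩ := hasTorAmp_of_iso e2.symm h1
  exact torVan_of_iso_kflat _ E hRy a b hE hEf e3

/-- bounded above version -/
theorem torVan_SRC_of_bounded [Flat f] (F K : CochainComplex X.Modules ℤ) (d : ℤ)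
    (hKb : ∀ i : ℤ, d < i → IsZero (K.X i)) (hKf : ∀ i : ℤ, FlatMod.IsFlatOver f (K.X i))
    (eK : DCoh.toD X K ≅ DCoh.toD X F) (a b : ℤ) (y : X)
    (h : DerSch.HasTorAmplitudeAt f a b F y) : TorVan (SRC f y K) a b := by
  obtain ⟨e1⟩ := nonempty_Q_stalkC_iso y K F eK
  obtain ⟨e2⟩ := nonempty_Q_resC_iso (f.stalkMap y).hom e1
  have h1 := hasTorAmp_of_iso (Q.mapIso (stalkCxOverIso f y F)) h
  obtain ⟨E, hE, hEf, ⟨e3⟩⟩ := hasTorAmp_of_iso e2.symm h1
  exact torVan_of_iso _ E d (fun i hi => (SR f y).map_isZero (hKb i hi))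
    (termwiseFlat_SRC f K hKf y) a b hE hEf e3

open ZeroObject in
/-- relative analogue of the stalkwise criterion for flat amplitude -/
theorem hasRelFlatAmplitudeIn_of_hasTorAmplitude [Flat f] (F : CochainComplex X.Modules ℤ)
    (a b : ℤ) (h : DerSch.HasTorAmplitude f a b F) :
    DCoh.HasRelFlatAmplitudeIn f a b (DCoh.toD X F) := by
  by_cases hab : a ≤ b
  swap
  · have hac : Acyc F := by
      apply acyc_of_forall_acyc_stalk
      intro x n
      obtain ⟨E, hE, -, ⟨e⟩⟩ := hasTorAmp_of_iso (Q.mapIso (stalkCxOverIso f x F)) (h x)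
      have h1 : IsZero (E.homology n) :=
        Groth.Agent.Lib.Helper1.CI.isZero_homology_of_isZero_X E n (hE n (by omega))
      have h2 : IsZero (((resC (f.stalkMap x).hom).obj ((stalkC x).obj F)).homology n) :=
        IsZero.of_iso h1
          (((DerivedCategory.homologyFunctorFactors _ n).app _).symm ≪≫
            (DerivedCategory.homologyFunctor _ n).mapIso e.symm ≪≫
            (DerivedCategory.homologyFunctorFactors _ n).app E)
      rwa [isZero_homology_resC_iff] at h2
    have hz : IsZero (DCoh.toD X F) := Groth.Agent.Lib.H6xSuppPush.isZero_Q_obj_of_acyc F hac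
    refine ⟨(0 : CochainComplex X.Modules ℤ), fun i _ =>
      (HomologicalComplex.eval X.Modules (ComplexShape.up ℤ) i).map_isZero (isZero_zero _),
      fun i y => ?_, ⟨IsZero.iso (DerivedCategory.Q.map_isZero (isZero_zero _)) hz⟩⟩
    exact isFlatOverAt_of_isZero f _
      ((HomologicalComplex.eval X.Modules (ComplexShape.up ℤ) i).map_isZero (isZero_zero _)) y
  obtain ⟨K, q, hK, hKfl, hq, -⟩ : ∃ (K : CochainComplex X.Modules ℤ) (q : K ⟶ F),
      DCoh.IsKFlat K ∧ (∀ n : ℤ, ModSite.IsFlat (O := X.sheaf) (K.X n)) ∧ QuasiIso q ∧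
        ∀ n : ℤ, Epi (q.f n) := exists_kflat_flat_resolution X.sheaf F
  have hqi : IsIso (DerivedCategory.Q.map q) := by
    rw [DerivedCategory.isIso_Q_map_iff_quasiIso]; exact hq
  have eK : DCoh.toD X K ≅ DCoh.toD X F := asIso (DerivedCategory.Q.map q)
  have htv : ∀ y : X, TorVan (SRC f y K) a b := fun y => torVan_SRC f F K hK eK a b y (h y)
  have hKff : ∀ i : ℤ, FlatMod.IsFlatOver f (K.X i) := fun i =>
    Groth.Agent.Lib.H6xRelPerfOfPerf.isFlatOver_of_isFlat f _
      ((Groth.Agent.Lib.Helper1.StalkTensor.modSite_isFlat_iff _).1 (hKfl i))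
  -- `K` is exact outside `[a, b]`
  have hKex : ∀ i : ℤ, (i < a ∨ b < i) → K.ExactAt i := fun i hi => by
    rw [HomologicalComplex.exactAt_iff_isZero_homology]
    apply Groth.Agent.Lib.H6xTorQc.isZero_homology_of_forall_stalk
    intro y
    have h1 := (htv y).exactAt i hi
    rw [HomologicalComplex.exactAt_iff_isZero_homology, isZero_homology_resC_iff] at h1
    exact h1
  -- the cycles in degree `b`
  have hZ : FlatMod.IsFlatOver f (K.cycles b) := fun y => by
    rw [isFlatOverAt_iff]
    have h1 : Module.Flat (Ox (f.base y)) ((SRC f y K).cycles b) :=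
      flat_cycles_of_torVan _ (termwiseFlat_SRC f K hKff y) a b (htv y)
    exact @Module.Flat.of_linearEquiv _ _ _ _ _ _ _ _ h1 (cyclesSRCIso f y K b).symm.toLinearEquiv
  -- truncation above
  have hKle : K.IsLE b := by
    rw [CochainComplex.isLE_iff]
    exact fun i hi => hKex i (Or.inr hi)
  have hK₂ff : ∀ i : ℤ, FlatMod.IsFlatOver f ((K.truncLE b).X i) := by
    intro i y
    obtain hi | rfl | hi := lt_trichotomy i b
    · exact isFlatOverAt_of_iso f (K.truncLEXIso b i hi).symm y (hKff i y)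
    · exact isFlatOverAt_of_iso f (K.truncLEXIsoCycles i).symm y (hZ y)
    · exact isFlatOverAt_of_isZero f _ ((K.truncLE b).isZero_of_isStrictlyLE b i hi) y
  have hιi : IsIso (DerivedCategory.Q.map (K.ιTruncLE b)) := by
    rw [DerivedCategory.isIso_Q_map_iff_quasiIso]; infer_instance
  have eK₂ : DCoh.toD X (K.truncLE b) ≅ DCoh.toD X F :=
    asIso (DerivedCategory.Q.map (K.ιTruncLE b)) ≪≫ eK
  have htv₂ : ∀ y : X, TorVan (SRC f y (K.truncLE b)) a b := fun y =>
    torVan_SRC_of_bounded f F (K.truncLE b) b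
      (fun i hi => (K.truncLE b).isZero_of_isStrictlyLE b i hi) hK₂ff eK₂ a b y (h y)
  -- the opcycles in degree `a`
  have hC : FlatMod.IsFlatOver f ((K.truncLE b).opcycles a) := fun y => by
    rw [isFlatOverAt_iff]
    have h1 : Module.Flat (Ox (f.base y)) ((SRC f y (K.truncLE b)).opcycles a) :=
      flat_of_torVan _ (termwiseFlat_SRC f _ hK₂ff y) a b (htv₂ y)
        ((SRC f y (K.truncLE b)).pOpcycles a).hom
        ((ModuleCat.epi_iff_surjective ((SRC f y (K.truncLE b)).pOpcycles a)).1 inferInstance)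
        (fexact_d_pOpcycles _ a)
    exact @Module.Flat.of_linearEquiv _ _ _ _ _ _ _ _ h1
      (opcyclesSRCIso f y (K.truncLE b) a).symm.toLinearEquiv
  -- truncation below
  have hK₂ex : ∀ i : ℤ, i < a → (K.truncLE b).ExactAt i := fun i hi => by
    rw [HomologicalComplex.exactAt_iff_isZero_homology]
    apply Groth.Agent.Lib.H6xTorQc.isZero_homology_of_forall_stalk
    intro y
    have h1 := (htv₂ y).exactAt i (Or.inl hi)
    rw [HomologicalComplex.exactAt_iff_isZero_homology, isZero_homology_resC_iff] at h1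
    exact h1
  have hK₂ge : (K.truncLE b).IsGE a := by
    rw [CochainComplex.isGE_iff]
    exact hK₂ex
  have hπi : IsIso (DerivedCategory.Q.map ((K.truncLE b).πTruncGE a)) := by
    rw [DerivedCategory.isIso_Q_map_iff_quasiIso]
    exact ((K.truncLE b).quasiIso_πTruncGE_iff a).2 hK₂ge
  refine ⟨(K.truncLE b).truncGE a, fun i hi => ?_, fun i y => ?_,
    ⟨(asIso (DerivedCategory.Q.map ((K.truncLE b).πTruncGE a))).symm ≪≫ eK₂⟩⟩
  · rcases hi with hi | hi
    · exact ((K.truncLE b).truncGE a).isZero_of_isStrictlyGE a i hi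
    · have hi1 : a < i := lt_of_le_of_lt hab hi
      exact ((K.truncLE b).isZero_of_isStrictlyLE b i hi).of_iso ((K.truncLE b).truncGEXIso a i hi1)
  · obtain hi | rfl | hi := lt_trichotomy i a
    · exact isFlatOverAt_of_isZero f _ (((K.truncLE b).truncGE a).isZero_of_isStrictlyGE a i hi) y
    · exact isFlatOverAt_of_iso f ((K.truncLE b).truncGEXIsoOpcycles i).symm y (hC y)
    · exact isFlatOverAt_of_iso f ((K.truncLE b).truncGEXIso a i hi).symm y (hK₂ff i y)

end Groth.Agent.Lib.H6xRelFlat
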