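import Mathlib
import Groth.Agent.Lib.H6xRelFlatB
set_option backward.isDefEq.respectTransparency.types false

/-!
# `DCoh.LocHasFiniteRelTorDim` is the stalkwise `DerSch.LocFiniteTorAmplitude` (flat `f`, helper6)
-/

set_option autoImplicit false
set_option linter.style.haveILetI false

universe u

open CategoryTheory CategoryTheory.Limits AlgebraicGeometry HomologicalComplex TopologicalSpace
  Opposite MonoidalCategory

attribute [local instance] HasDerivedCategory.standard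

namespace Groth.Agent.Lib.H6xRelFlat

open Groth.Agent.Lib.Helper1.BKF Groth.Agent.Lib.Helper1.CI Groth.Agent.Lib.Helper1.Sky
  Groth.Agent.Lib.Helper1.KBC Groth.Agent.Lib.H6xFlatAmpStalk Groth.Agent.Lib.H6xFlatAmpLocal
  Groth.Agent.Lib.Helper1.Tor Groth.Agent.Lib.H6xRelTorAmp Groth.Agent.Lib.H6xRelTorAmpG
  Groth.Agent.Lib.Helper1.KF Groth.Agent.Lib.Helper1.TorO DerivedCategory

variable {X S : Scheme.{u}} (f : X ⟶ S)

/-- relative tor amplitude at a point only depends on the class in the derived category -/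
theorem hasTorAmplitudeAt_of_iso {F F' : CochainComplex X.Modules ℤ}
    (e : DCoh.toD X F' ≅ DCoh.toD X F) (a b : ℤ) (y : X)
    (h : DerSch.HasTorAmplitudeAt f a b F y) : DerSch.HasTorAmplitudeAt f a b F' y := by
  obtain ⟨e1⟩ := nonempty_Q_stalkC_iso y F' F e
  obtain ⟨e2⟩ := nonempty_Q_resC_iso (f.stalkMap y).hom e1
  exact hasTorAmp_of_iso (Q.mapIso (stalkCxOverIso f y F) ≪≫ e2.symm ≪≫
    (Q.mapIso (stalkCxOverIso f y F')).symm) h

/-- a representative with terms flat over the base gives stalkwise tor amplitude -/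
theorem hasTorAmplitude_of_hasRelFlatAmplitudeIn (F : CochainComplex X.Modules ℤ) (a b : ℤ)
    (h : DCoh.HasRelFlatAmplitudeIn f a b (DCoh.toD X F)) : DerSch.HasTorAmplitude f a b F := by
  obtain ⟨G, hG, hGf, ⟨e⟩⟩ := h
  intro y
  refine hasTorAmplitudeAt_of_iso f e.symm a b y ?_
  refine hasTorAmp_of_iso (Q.mapIso (stalkCxOverIso f y G)).symm ?_
  exact ⟨SRC f y G, fun i hi => (SR f y).map_isZero (hG i hi), termwiseFlat_SRC f G hGf y,
    ⟨Iso.refl _⟩⟩

/-- restriction of the source to an open -/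
theorem hasTorAmplitudeAt_restrictCx_iff (V : X.Opens) (F : CochainComplex X.Modules ℤ)
    (a b : ℤ) (y : V.toScheme) :
    DerSch.HasTorAmplitudeAt (V.ι ≫ f) a b ((DCoh.restrictCx V).obj F) y ↔
      DerSch.HasTorAmplitudeAt f a b F (V.ι.base y) := by
  haveI : IsIso (V.ι.stalkMap y) := inferInstance
  have hbij : Function.Bijective (V.ι.stalkMap y).hom :=
    ConcreteCategory.bijective_of_isIso (V.ι.stalkMap y)
  have hχ : ((V.ι ≫ f).stalkMap y).hom =
      (V.ι.stalkMap y).hom.comp (f.stalkMap (V.ι.base y)).hom := by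
    rw [Scheme.Hom.stalkMap_comp]
    rfl
  let e : (DerSch.stalkCxOver (V.ι ≫ f) y).obj ((DCoh.restrictCx V).obj F) ≅
      (DerSch.stalkCxOver f (V.ι.base y)).obj F :=
    stalkCxOverIso (V.ι ≫ f) y _ ≪≫
      (resC ((V.ι ≫ f).stalkMap y).hom).mapIso
        ((stalkC y).mapIso (restrictCxPullCIso V F) ≪≫ stalkPullCIso V.ι y F) ≪≫
      resCCompIso (f.stalkMap (V.ι.base y)).hom (V.ι.stalkMap y).hom _ hχ _ ≪≫
      (resC (f.stalkMap (V.ι.base y)).hom).mapIso (extResCIso (V.ι.stalkMap y).hom hbij _) ≪≫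
      (stalkCxOverIso f (V.ι.base y) F).symm
  exact ⟨fun h => hasTorAmp_of_iso (Q.mapIso e) h, fun h => hasTorAmp_of_iso (Q.mapIso e).symm h⟩

/-- the comparison of the two notions of "locally of finite tor dimension over the base" -/
theorem locHasFiniteRelTorDim_iff [Flat f] (F : CochainComplex X.Modules ℤ) :
    DCoh.LocHasFiniteRelTorDim f (DCoh.toD X F) ↔ DerSch.LocFiniteTorAmplitude f F := by
  constructor
  · intro h x
    obtain ⟨V, a, b, hxV, hV⟩ := h x
    refine ⟨V, a, b, hxV, fun y hy => ?_⟩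
    have h1 := hasTorAmplitude_of_hasRelFlatAmplitudeIn (V.ι ≫ f) _ a b (hV F ⟨Iso.refl _⟩)
    exact (hasTorAmplitudeAt_restrictCx_iff f V F a b ⟨y, hy⟩).1 (h1 ⟨y, hy⟩)
  · intro h x
    obtain ⟨V, a, b, hxV, hV⟩ := h x
    refine ⟨V, a, b, hxV, fun F' ⟨e⟩ => ?_⟩
    apply hasRelFlatAmplitudeIn_of_hasTorAmplitude (V.ι ≫ f)
    intro y
    rw [hasTorAmplitudeAt_restrictCx_iff]
    exact hasTorAmplitudeAt_of_iso f e a b _ (hV _ y.2)

/-- version for objects of the derived category -/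
theorem locHasFiniteRelTorDim_iff' [Flat f] (E : DCoh.D X) (F : CochainComplex X.Modules ℤ)
    (e : DCoh.toD X F ≅ E) :
    DCoh.LocHasFiniteRelTorDim f E ↔ DerSch.LocFiniteTorAmplitude f F := by
  rw [← locHasFiniteRelTorDim_iff]
  constructor
  · intro h x
    obtain ⟨V, a, b, hxV, hV⟩ := h x
    exact ⟨V, a, b, hxV, fun F' ⟨e'⟩ => hV F' ⟨e' ≪≫ e⟩⟩
  · intro h x
    obtain ⟨V, a, b, hxV, hV⟩ := h x
    exact ⟨V, a, b, hxV, fun F' ⟨e'⟩ => hV F' ⟨e' ≪≫ e.symm⟩⟩

end Groth.Agent.Lib.H6xRelFlat
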