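import Mathlib
import Groth.Agent.Lib.H6xRelTorLocB
import Groth.Agent.Lib.Helper1TorK
set_option backward.isDefEq.respectTransparency.types false

/-!
# S12092: relative tor amplitude can be tested at the maximal ideals (helper6)
-/

set_option autoImplicit false
set_option linter.style.haveILetI false

universe u v

open CategoryTheory CategoryTheory.Limits HomologicalComplex MonoidalCategory

attribute [local instance] HasDerivedCategory.standard

namespace Groth.Agent.Lib.H6xRelTorAmp

open DerivedCategory Groth.Agent.Lib.Helper1.KF Groth.Agent.Lib.Helper1.Tor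
  Groth.Agent.Lib.Helper1.DT Groth.Agent.Lib.Helper1.TorO Groth.Agent.Lib.Helper1.KBC
  Groth.Agent.Lib.Helper1.TorL

section

variable {A A' : Type u} [CommRing A] [CommRing A'] [Algebra A A']

/-- the two `A`-module structures on `A'` -/
noncomputable def aaEquiv : (AA (algebraMap A A')) ≃ₗ[A] A' where
  toFun x := x
  invFun x := x
  left_inv _ := rfl
  right_inv _ := rfl
  map_add' _ _ := rfl
  map_smul' r x := by
    change algebraMap A A' r * (show A' from x) = r • (show A' from x)
    rw [Algebra.smul_def]

lemma subsingleton_tensor_of_isZero (H : ModuleCat.{u} A)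
    (h : IsZero (AA (algebraMap A A') ⊗ H)) : Subsingleton (TensorProduct A A' H) := by
  have h1 : Subsingleton (AA (algebraMap A A') ⊗ H : ModuleCat.{u} A) :=
    ModuleCat.subsingleton_of_isZero h
  exact (TensorProduct.congr (aaEquiv (A := A) (A' := A')) (LinearEquiv.refl A H)).symm.injective.subsingleton

end

/-- S12092 -/
theorem main_maximal (A B : Type u) [CommRing A] [CommRing B]
    [Algebra A B] (K : DRing.Cx B) (a b : ℤ)
    (h3 : ∀ (m : Ideal B) [m.IsMaximal],
      DRing.HasTorAmplitudeIn (Localization.AtPrime (m.comap (algebraMap A B))) a b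
        (DRing.toD ((DRing.restrictCx (Localization.localRingHom (m.comap (algebraMap A B)) m
          (algebraMap A B) rfl)).obj
          (((ModuleCat.extendScalars (algebraMap B (Localization.AtPrime m))).mapHomologicalComplex
            (ComplexShape.up ℤ)).obj K)))) :
    DRing.HasTorAmplitudeIn A a b (DRing.toD ((DRing.restrictCx (algebraMap A B)).obj K)) := by
  refine hasTorAmp_resC_of_family (algebraMap A B) (J := MaximalSpectrum B)
    (fun j => Localization.AtPrime (j.asIdeal.comap (algebraMap A B)))
    (fun j => Localization.AtPrime j.asIdeal)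
    (fun j => algebraMap A _) (fun j => algebraMap B _)
    (fun j => Localization.localRingHom (j.asIdeal.comap (algebraMap A B)) j.asIdeal
      (algebraMap A B) rfl) (fun j => ?_) (fun j => ?_) (fun j => ?_) (fun H hH => ?_) K a b
    (fun j => h3 j.asIdeal)
  · ext x
    exact Localization.localRingHom_to_map _ _ _ rfl x
  · exact RingHom.flat_algebraMap_iff.2 inferInstance
  · exact RingHom.flat_algebraMap_iff.2 inferInstance
  · have : Subsingleton H := descFam'_maximal.zero H (fun j => subsingleton_tensor_of_isZero H (hH j))
    exact ModuleCat.isZero_of_subsingleton H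

end Groth.Agent.Lib.H6xRelTorAmp
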