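import Mathlib
import Groth.Agent.Lib.H6xRelTorLocC
import Groth.Agent.Lib.H6xRelTorAmpG
import Groth.Agent.Lib.Helper1KBC5
import Groth.Agent.Lib.Helper1Extend
set_option backward.isDefEq.respectTransparency.types false

/-!
# S7259: relative tor amplitude of `M~` on an affine scheme (helper6)
-/

set_option autoImplicit false
set_option linter.style.haveILetI false

universe u v

open CategoryTheory CategoryTheory.Limits HomologicalComplex MonoidalCategory AlgebraicGeometry

attribute [local instance] HasDerivedCategory.standard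

namespace Groth.Agent.Lib.H6xRelTorAmp

open DerivedCategory Groth.Agent.Lib.Helper1.KF Groth.Agent.Lib.Helper1.Tor
  Groth.Agent.Lib.Helper1.DT Groth.Agent.Lib.Helper1.TorO Groth.Agent.Lib.Helper1.KBC
  Groth.Agent.Lib.Helper1.TorL Groth.Agent.Lib.Helper1.Sky

section Loc

variable {R S : Type u} [CommRing R] [CommRing S] (lam : R →+* S) (M : Submonoid R)

/-- a localization is flat -/
lemma flat_of_isLocalization (hloc : letI := lam.toAlgebra; IsLocalization M S) : lam.Flat := by
  letI := lam.toAlgebra
  haveI := hloc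
  exact IsLocalization.flat S M

/-- every module over a localization is extended from the base -/
lemma hess_of_isLocalization (hloc : letI := lam.toAlgebra; IsLocalization M S) :
    ∀ N : ModuleCat.{u} S, ∃ N₀ : ModuleCat.{u} R, Nonempty ((ext lam).obj N₀ ≅ N) := by
  intro N
  letI := lam.toAlgebra
  haveI := hloc
  letI : Module R N := Module.compHom N lam
  haveI : IsScalarTower R S N := ⟨fun r s n => by
    change (lam r * s) • n = lam r • (s • n)
    exact mul_smul _ _ _⟩
  haveI : IsLocalizedModule M (LinearMap.id : N →ₗ[R] N) := isLocalizedModule_id M N S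
  have hb : IsBaseChange S (LinearMap.id : N →ₗ[R] N) := IsLocalizedModule.isBaseChange M S _
  exact ⟨ModuleCat.of R N,
    ⟨((Groth.Agent.Lib.Helper1.Extend.extEquiv (A := R) (B := S) N).trans hb.equiv).toModuleIso⟩⟩

end Loc

section Spec

variable (R : CommRingCat.{u}) (x : Spec R)

/-- a point of `Spec R` as a prime -/
def toPS (x : Spec R) : PrimeSpectrum R := x

lemma isLocalization_toOx :
    letI := (toOx R x).toAlgebra
    IsLocalization.AtPrime (Ox x) (toPS R x).asIdeal :=
  StructureSheaf.IsLocalization.to_stalk R (toPS R x)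

lemma toOx_flat : (toOx R x).Flat :=
  flat_of_isLocalization (toOx R x) _ (isLocalization_toOx R x)

lemma toOx_hess : ∀ N : ModuleCat.{u} (Ox x), ∃ N₀ : ModuleCat.{u} R,
    Nonempty ((ext (toOx R x)).obj N₀ ≅ N) :=
  hess_of_isLocalization (toOx R x) _ (isLocalization_toOx R x)

/-- the stalks of `Spec R` form a faithful family -/
lemma isZero_of_forall_stalk (H : ModuleCat.{u} R)
    (hH : ∀ x : Spec R, IsZero (AA (toOx R x) ⊗ H)) : IsZero H := by
  have : Subsingleton H := descFam'_maximal.zero H (fun m => by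
    let x : Spec R := (⟨m.asIdeal, inferInstance⟩ : PrimeSpectrum R)
    letI : Algebra R (Ox x) := (toOx R x).toAlgebra
    haveI : IsLocalization.AtPrime (Ox x) m.asIdeal := isLocalization_toOx R x
    have h1 : Subsingleton (TensorProduct R (Ox x) H) :=
      subsingleton_tensor_of_isZero (A := R) (A' := Ox x) H (hH x)
    let e : Ox x ≃ₐ[R] Localization.AtPrime m.asIdeal :=
      IsLocalization.algEquiv m.asIdeal.primeCompl _ _
    exact (TensorProduct.congr e.toLinearEquiv (LinearEquiv.refl R H)).symm.injective.subsingleton)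
  exact ModuleCat.isZero_of_subsingleton H

end Spec

section Square

variable {R A : CommRingCat.{u}} (φ : R ⟶ A) (x : Spec A)

lemma toOx_square :
    ((Spec.map φ).stalkMap x).hom.comp (toOx R ((Spec.map φ).base x)) =
      (toOx A x).comp φ.hom :=
  congrArg CommRingCat.Hom.hom (AlgebraicGeometry.stalkMap_toStalk φ (toPS A x))

end Square

section Main

open Groth.Agent.Lib.H6xRelTorAmpG Groth.Agent.Lib.H6xFlatAmpStalk

/-- the complex of stalks of `M₀~` -/
noncomputable def stalkTildeCIso (A : CommRingCat.{u}) (x : Spec A)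
    (M₀ : CochainComplex (ModuleCat.{u} A) ℤ) :
    (stalkC x).obj (((tilde.functor A).mapHomologicalComplex (ComplexShape.up ℤ)).obj M₀) ≅
      (extC (toOx A x)).obj M₀ :=
  HomologicalComplex.Hom.isoOfComponents (fun i => (tildeStalkIso A x).app (M₀.X i))
    (fun i j _ => ((tildeStalkIso A x).hom.naturality (M₀.d i j)).symm)

/-- S7259 -/
theorem main_tilde {R A : Type u} [CommRing R] [CommRing A] (φ : R →+* A)
    [PreservesFiniteLimits (tilde.functor (CommRingCat.of A))] (M : Dual.D A)
    (F : CochainComplex (Spec (CommRingCat.of A)).Modules ℤ)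
    (hF : Nonempty (DCoh.toD (Spec (CommRingCat.of A)) F ≅
      (DCoh.tildeD (CommRingCat.of A)).obj M)) (a b : ℤ) :
    DerSch.HasTorAmplitude (Spec.map (CommRingCat.ofHom φ)) a b F ↔
      DRing.HasTorAmplitudeIn R a b ((DRing.restrictD φ).obj M) := by
  obtain ⟨eF0⟩ := hF
  let M₀ : Cx A := Q.objPreimage M
  have eM : Q.obj M₀ ≅ M := Q.objObjPreimageIso M
  have eF : DCoh.toD (Spec (CommRingCat.of A)) F ≅ DCoh.toD (Spec (CommRingCat.of A))
      (((tilde.functor (CommRingCat.of A)).mapHomologicalComplex (ComplexShape.up ℤ)).obj M₀) :=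
    eF0 ≪≫ (DCoh.tildeD (CommRingCat.of A)).mapIso eM.symm ≪≫
      (tilde.functor (CommRingCat.of A)).mapDerivedCategoryFactors.app M₀
  have e1 : (DRing.restrictD φ).obj M ≅ Q.obj ((resC φ).obj M₀) :=
    (DRing.restrictD φ).mapIso eM.symm ≪≫ (res φ).mapDerivedCategoryFactors.app M₀
  have key : ∀ x : Spec (CommRingCat.of A),
      DerSch.HasTorAmplitudeAt (Spec.map (CommRingCat.ofHom φ)) a b F x ↔
      DRing.HasTorAmplitudeIn (Ox ((Spec.map (CommRingCat.ofHom φ)).base x)) a b
        (Q.obj ((resC ((Spec.map (CommRingCat.ofHom φ)).stalkMap x).hom).obj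
          ((extC (toOx (CommRingCat.of A) x)).obj M₀))) := by
    intro x
    obtain ⟨e2⟩ := nonempty_Q_stalkC_iso x _ _ eF
    obtain ⟨e3⟩ := nonempty_Q_resC_iso ((Spec.map (CommRingCat.ofHom φ)).stalkMap x).hom
      (e2 ≪≫ Q.mapIso (stalkTildeCIso (CommRingCat.of A) x M₀))
    have e4 := Q.mapIso (stalkCxOverIso (Spec.map (CommRingCat.ofHom φ)) x F) ≪≫ e3
    exact ⟨fun h => hasTorAmp_of_iso e4 h, fun h => hasTorAmp_of_iso e4.symm h⟩
  constructor
  · intro h
    refine hasTorAmp_of_iso e1.symm ?_
    refine hasTorAmp_resC_of_family φ (J := Spec (CommRingCat.of A))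
      (fun x => Ox ((Spec.map (CommRingCat.ofHom φ)).base x)) (fun x => Ox x)
      (fun x => toOx (CommRingCat.of R) ((Spec.map (CommRingCat.ofHom φ)).base x))
      (fun x => toOx (CommRingCat.of A) x)
      (fun x => ((Spec.map (CommRingCat.ofHom φ)).stalkMap x).hom)
      (fun x => toOx_square (CommRingCat.ofHom φ) x)
      (fun x => toOx_flat _ _) (fun x => toOx_flat _ _)
      (fun H hH => isZero_of_forall_stalk (CommRingCat.of A) H hH) M₀ a b
      (fun x => (key x).1 (h x))
  · intro h x
    rw [key x]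
    exact hasTorAmp_resC_extC_of_square' φ
      (toOx (CommRingCat.of R) ((Spec.map (CommRingCat.ofHom φ)).base x))
      (toOx (CommRingCat.of A) x) ((Spec.map (CommRingCat.ofHom φ)).stalkMap x).hom
      (toOx_square (CommRingCat.ofHom φ) x) (toOx_flat _ _) (toOx_flat _ _) (toOx_hess _ _)
      M₀ a b (hasTorAmp_of_iso e1 h)

end Main

end Groth.Agent.Lib.H6xRelTorAmp
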