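import Mathlib
import Groth.Agent.Lib.H6xRelFlatC
import Groth.Agent.Lib.H6xRelTorLocE
import Groth.Agent.Lib.H6xTildePCA
import Groth.Agent.S2066
set_option backward.isDefEq.respectTransparency.types false

/-!
# S7264: `M~` is `S`-perfect iff `M` is `R`-perfect (affine case, helper6)
-/

set_option autoImplicit false
set_option linter.style.haveILetI false

universe u

open CategoryTheory CategoryTheory.Limits AlgebraicGeometry HomologicalComplex TopologicalSpace
  Opposite MonoidalCategory

attribute [local instance] HasDerivedCategory.standard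

namespace Groth.Agent.Lib.H6xRelFlat

open Groth.Agent.Lib.Helper1.BKF Groth.Agent.Lib.Helper1.CI Groth.Agent.Lib.Helper1.Sky
  Groth.Agent.Lib.Helper1.KBC Groth.Agent.Lib.H6xFlatAmpStalk Groth.Agent.Lib.H6xFlatAmpLocal
  Groth.Agent.Lib.Helper1.Tor Groth.Agent.Lib.H6xRelTorAmp Groth.Agent.Lib.H6xRelTorAmpG
  Groth.Agent.Lib.Helper1.KF Groth.Agent.Lib.Helper1.TorO DerivedCategory

variable {X S : Scheme.{u}} (f : X ⟶ S)

/-- on a quasi-compact scheme, locally finite relative tor amplitude is finite -/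
theorem exists_hasTorAmplitude_of_locFinite [CompactSpace X] (F : CochainComplex X.Modules ℤ)
    (h : DerSch.LocFiniteTorAmplitude f F) : ∃ a b : ℤ, DerSch.HasTorAmplitude f a b F := by
  choose V a b hxV hV using h
  obtain ⟨t, ht⟩ := CompactSpace.elim_nhds_subcover (fun x => (V x : Set X))
    (fun x => (V x).2.mem_nhds (hxV x))
  obtain ⟨B, hB⟩ := (t.image b).exists_le
  obtain ⟨A, hA⟩ := (t.image (fun x => -a x)).exists_le
  refine ⟨-A, B, fun y => ?_⟩
  have hy : y ∈ ⋃ x ∈ t, (V x : Set X) := by rw [ht]; trivial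
  simp only [Set.mem_iUnion] at hy
  obtain ⟨x, hxt, hyx⟩ := hy
  refine hasTorAmp_mono ?_ ?_ (hV x y hyx)
  · have := hA _ (Finset.mem_image_of_mem (fun x => -a x) hxt)
    omega
  · exact hB _ (Finset.mem_image_of_mem b hxt)

theorem locFinite_of_hasTorAmplitude (F : CochainComplex X.Modules ℤ) (a b : ℤ)
    (h : DerSch.HasTorAmplitude f a b F) : DerSch.LocFiniteTorAmplitude f F :=
  fun _ => ⟨⊤, a, b, trivial, fun y _ => h y⟩

/-- S7264 -/
theorem main_affine (R A : Type u) [CommRing R] [CommRing A] [Algebra R A]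
    [Module.Flat R A]
    [PreservesFiniteLimits (tilde.functor (CommRingCat.of A))] (M : Dual.D A) :
    ((∀ m : ℤ, DCoh.IsPseudoCoherentD m ((DCoh.tildeD (CommRingCat.of A)).obj M)) ∧
      DCoh.LocHasFiniteRelTorDim (Spec.map (CommRingCat.ofHom (algebraMap R A)))
        ((DCoh.tildeD (CommRingCat.of A)).obj M)) ↔
    Dual2.IsRelPerfect R A M := by
  haveI : Flat (Spec.map (CommRingCat.ofHom (algebraMap R A))) := by
    rw [HasRingHomProperty.Spec_iff (P := @Flat)]
    exact (RingHom.flat_algebraMap_iff).2 inferInstance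
  let F : CochainComplex (Spec (CommRingCat.of A)).Modules ℤ :=
    Q.objPreimage ((DCoh.tildeD (CommRingCat.of A)).obj M)
  have eF : DCoh.toD _ F ≅ (DCoh.tildeD (CommRingCat.of A)).obj M := Q.objObjPreimageIso _
  have h1 : (∀ m : ℤ, DCoh.IsPseudoCoherentD m ((DCoh.tildeD (CommRingCat.of A)).obj M)) ↔
      DRing.IsPseudoCoherent' A M := by
    rw [← (Groth.Agent.S2066.result M).1]
    exact forall_congr' fun m => Groth.Agent.Lib.H6xTildePC.pc_tildeD_iff (CommRingCat.of A) M m
  have h2 : DCoh.LocHasFiniteRelTorDim (Spec.map (CommRingCat.ofHom (algebraMap R A)))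
      ((DCoh.tildeD (CommRingCat.of A)).obj M) ↔
      DRing.HasFiniteTorDimCx R ((DRing.restrictD (algebraMap R A)).obj M) := by
    rw [locHasFiniteRelTorDim_iff' _ _ F eF]
    constructor
    · intro h
      obtain ⟨a, b, hab⟩ := exists_hasTorAmplitude_of_locFinite _ F h
      exact ⟨a, b, (main_tilde (algebraMap R A) M F ⟨eF⟩ a b).1 hab⟩
    · rintro ⟨a, b, hab⟩
      exact locFinite_of_hasTorAmplitude _ F a b ((main_tilde (algebraMap R A) M F ⟨eF⟩ a b).2 hab)
  unfold Dual2.IsRelPerfect
  rw [h1, h2]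

end Groth.Agent.Lib.H6xRelFlat
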