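import Mathlib
import Groth.Agent.Lib.H6xRelFlatD
import Groth.Agent.Lib.H6xHasLDerRing
import Groth.Agent.Lib.Helper1TorE
import Groth.Agent.Lib.Helper1TorF
import Groth.Agent.Lib.H6xPC3F
import Groth.Agent.Lib.H6xPCTermA
import Groth.Agent.S7027
set_option backward.isDefEq.respectTransparency.types false

/-!
# S7250: `S`-perfect objects form a saturated triangulated subcategory (helper6)
-/

set_option autoImplicit false
set_option linter.style.haveILetI false

universe u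

open CategoryTheory CategoryTheory.Limits AlgebraicGeometry HomologicalComplex TopologicalSpace
  Opposite MonoidalCategory Pretriangulated

attribute [local instance] HasDerivedCategory.standard

namespace Groth.Agent.Lib.H6xRelFlat

open Groth.Agent.Lib.Helper1.BKF Groth.Agent.Lib.Helper1.CI Groth.Agent.Lib.Helper1.Sky
  Groth.Agent.Lib.Helper1.KBC Groth.Agent.Lib.H6xFlatAmpStalk Groth.Agent.Lib.H6xFlatAmpLocal
  Groth.Agent.Lib.Helper1.Tor Groth.Agent.Lib.H6xRelTorAmp Groth.Agent.Lib.H6xRelTorAmpG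
  Groth.Agent.Lib.Helper1.KF Groth.Agent.Lib.Helper1.TorO DerivedCategory

variable {X S : Scheme.{u}} (f : X ⟶ S)

/-- the derived "stalk over the base" functor -/
noncomputable abbrev Φ (y : X) : DCoh.D X ⥤ Dual.D (Ox (f.base y)) :=
  (stalkFun y).mapDerivedCategory ⋙ (res (f.stalkMap y).hom).mapDerivedCategory

/-- `Φ` on a complex -/
noncomputable def ΦIso (y : X) (F : CochainComplex X.Modules ℤ) :
    (Φ f y).obj (DCoh.toD X F) ≅ Q.obj (SRC f y F) :=
  (res (f.stalkMap y).hom).mapDerivedCategory.mapIso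
      ((stalkFun y).mapDerivedCategoryFactors.app F) ≪≫
    (res (f.stalkMap y).hom).mapDerivedCategoryFactors.app _

/-- relative tor amplitude at a point, for objects of the derived category -/
def TorAt (a b : ℤ) (E : DCoh.D X) (y : X) : Prop :=
  DRing.HasTorAmplitudeIn (Ox (f.base y)) a b ((Φ f y).obj E)

variable {f}

lemma torAt_toD_iff (a b : ℤ) (F : CochainComplex X.Modules ℤ) (y : X) :
    TorAt f a b (DCoh.toD X F) y ↔ DerSch.HasTorAmplitudeAt f a b F y := by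
  have e := ΦIso f y F ≪≫ (Q.mapIso (stalkCxOverIso f y F)).symm
  exact ⟨fun h => hasTorAmp_of_iso e h, fun h => hasTorAmp_of_iso e.symm h⟩

lemma TorAt.of_iso {a b : ℤ} {E E' : DCoh.D X} {y : X} (h : TorAt f a b E y) (e : E ≅ E') :
    TorAt f a b E' y :=
  hasTorAmp_of_iso ((Φ f y).mapIso e) h

lemma TorAt.mono {a b a' b' : ℤ} {E : DCoh.D X} {y : X} (h : TorAt f a b E y) (ha : a' ≤ a)
    (hb : b ≤ b') : TorAt f a' b' E y :=
  hasTorAmp_mono ha hb h

lemma torAt_of_isZero (a b : ℤ) (E : DCoh.D X) (hE : IsZero E) (y : X) : TorAt f a b E y :=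
  hasTorAmp_of_isZero _ ((Φ f y).map_isZero hE) _ _

lemma TorAt.shift {a b : ℤ} {E : DCoh.D X} {y : X} (h : TorAt f a b E y) (n : ℤ) :
    TorAt f (a - n) (b - n) (E⟦n⟧) y :=
  hasTorAmp_of_iso (((Φ f y).commShiftIso n).app E).symm
    (hasTorAmp_shift h n (a - n) (b - n) (by omega) (by omega))

lemma torAt_obj₂ (a b : ℤ) (T : Triangle (DCoh.D X)) (hT : T ∈ distTriang (DCoh.D X)) (y : X)
    (h₁ : TorAt f a b T.obj₁ y) (h₃ : TorAt f a b T.obj₃ y) : TorAt f a b T.obj₂ y := by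
  haveI : ∀ M : ModuleCat.{u} (Ox (f.base y)), DRing.HasLTensor (Ox (f.base y)) M :=
    fun M => Groth.Agent.Lib.H6xHasLDerRing.hasLTensor M
  exact (Groth.Agent.S7027.result (Ox (f.base y)) a b ((Φ f y).mapTriangle.obj T)
    ((Φ f y).map_distinguished T hT)).2.1 h₁ h₃

lemma torAt_of_retract (a b : ℤ) {E E' : DCoh.D X} (r : Retract E E') (y : X)
    (h : TorAt f a b E' y) : TorAt f a b E y :=
  hasTorAmp_of_retract _ _ ((Φ f y).map r.i) ((Φ f y).map r.r)
    (by rw [← Functor.map_comp, r.retract, CategoryTheory.Functor.map_id]) a b h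

variable (f)

/-- the derived-category form of the criterion -/
theorem locHasFiniteRelTorDim_iff_torAt [Flat f] (E : DCoh.D X) :
    DCoh.LocHasFiniteRelTorDim f E ↔
      ∀ x : X, ∃ (V : X.Opens) (a b : ℤ), x ∈ V ∧ ∀ y : X, y ∈ V → TorAt f a b E y := by
  rw [locHasFiniteRelTorDim_iff' f E (Q.objPreimage E) (Q.objObjPreimageIso E)]
  refine forall_congr' fun x => ?_
  constructor
  · rintro ⟨V, a, b, hxV, hV⟩
    exact ⟨V, a, b, hxV, fun y hy =>
      ((torAt_toD_iff a b _ y).2 (hV y hy)).of_iso (Q.objObjPreimageIso E)⟩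
  · rintro ⟨V, a, b, hxV, hV⟩
    exact ⟨V, a, b, hxV, fun y hy =>
      (torAt_toD_iff a b _ y).1 ((hV y hy).of_iso (Q.objObjPreimageIso E).symm)⟩

/-- the property "`S`-perfect" -/
def SPerf : ObjectProperty (DCoh.D X) :=
  fun E => (∀ m : ℤ, DCoh.IsPseudoCoherentD m E) ∧ DCoh.LocHasFiniteRelTorDim f E

open ZeroObject in
/-- S7250 -/
theorem main_triangulated [Flat f] :
    (SPerf f).IsTriangulated ∧ (SPerf f).IsStableUnderRetracts := by
  haveI : (SPerf f).IsClosedUnderIsomorphisms := ⟨fun {E E'} e ⟨h1, h2⟩ =>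
    ⟨fun m => Groth.Agent.Lib.H6xPC3.isPseudoCoherentD_of_iso e (h1 m), by
      rw [locHasFiniteRelTorDim_iff_torAt] at h2 ⊢
      intro x
      obtain ⟨V, a, b, hxV, hV⟩ := h2 x
      exact ⟨V, a, b, hxV, fun y hy => (hV y hy).of_iso e⟩⟩⟩
  haveI : (SPerf f).ContainsZero := ⟨⟨0, isZero_zero _,
    fun m => Groth.Agent.Lib.H6xPCTerm.isPseudoCoherentD_of_isZero _ (isZero_zero _) m, by
      rw [locHasFiniteRelTorDim_iff_torAt]
      exact fun x => ⟨⊤, 0, 0, trivial, fun y _ => torAt_of_isZero 0 0 _ (isZero_zero _) y⟩⟩⟩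
  haveI : (SPerf f).IsStableUnderShift ℤ := ⟨fun n => ⟨fun E ⟨h1, h2⟩ => by
    refine ⟨fun m => ?_, ?_⟩
    · have := Groth.Agent.Lib.H6xPC3.isPseudoCoherentD_shift (h1 (m + n)) n
      rwa [show m + n - n = m by omega] at this
    · rw [locHasFiniteRelTorDim_iff_torAt] at h2 ⊢
      intro x
      obtain ⟨V, a, b, hxV, hV⟩ := h2 x
      exact ⟨V, a - n, b - n, hxV, fun y hy => (hV y hy).shift n⟩⟩⟩
  haveI : (SPerf f).IsTriangulatedClosed₂ := ObjectProperty.IsTriangulatedClosed₂.mk'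
    (fun T hT ⟨h1, h1'⟩ ⟨h3, h3'⟩ => by
      refine ⟨fun m => (Groth.Agent.Lib.H6xPC3.triangle m T hT).2.1 (h1 m) (h3 m), ?_⟩
      rw [locHasFiniteRelTorDim_iff_torAt] at h1' h3' ⊢
      intro x
      obtain ⟨V1, a1, b1, hxV1, hV1⟩ := h1' x
      obtain ⟨V3, a3, b3, hxV3, hV3⟩ := h3' x
      refine ⟨V1 ⊓ V3, min a1 a3, max b1 b3, ⟨hxV1, hxV3⟩, fun y hy => ?_⟩
      exact torAt_obj₂ _ _ T hT y
        ((hV1 y hy.1).mono (min_le_left _ _) (le_max_left _ _))
        ((hV3 y hy.2).mono (min_le_right _ _) (le_max_right _ _)))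
  refine ⟨{}, ⟨fun {E E'} r ⟨h1, h2⟩ => ?_⟩⟩
  refine ⟨fun m => Groth.Agent.Lib.H6xPC3.isPseudoCoherentD_of_retract r.i r.r r.retract (h1 m), ?_⟩
  rw [locHasFiniteRelTorDim_iff_torAt] at h2 ⊢
  intro x
  obtain ⟨V, a, b, hxV, hV⟩ := h2 x
  exact ⟨V, a, b, hxV, fun y hy => torAt_of_retract a b r y (hV y hy)⟩

end Groth.Agent.Lib.H6xRelFlat
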