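import Mathlib
import Groth.Agent.Lib.H6xRelFlatE
import Groth.Agent.Lib.H6xRelTorSmF
import Groth.Agent.Lib.H6xPerfFlatPCB
set_option backward.isDefEq.respectTransparency.types false

/-!
# S7249, tor part: perfect ⊗^L (locally finite relative tor dimension) (helper6)
-/

set_option autoImplicit false
set_option linter.style.haveILetI false

universe u

open CategoryTheory CategoryTheory.Limits AlgebraicGeometry HomologicalComplex TopologicalSpace
  Opposite MonoidalCategory Pretriangulated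

attribute [local instance] HasDerivedCategory.standard

namespace Groth.Agent.Lib.H6xSPerfTens

open Groth.Agent.Lib.Helper1.BKF Groth.Agent.Lib.Helper1.CI Groth.Agent.Lib.Helper1.Sky
  Groth.Agent.Lib.Helper1.KBC Groth.Agent.Lib.H6xFlatAmpStalk Groth.Agent.Lib.H6xFlatAmpLocal
  Groth.Agent.Lib.Helper1.Tor Groth.Agent.Lib.H6xRelTorAmp Groth.Agent.Lib.H6xRelTorAmpG
  Groth.Agent.Lib.Helper1.KF Groth.Agent.Lib.Helper1.TorO Groth.Agent.Lib.Helper1.DT
  Groth.Agent.Lib.H6xRelFlat DerivedCategory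

section ring

variable {B : Type u} [CommRing B]

/-- tensoring preserves isomorphisms in the derived category between K-flat complexes -/
theorem nonempty_Q_tensor_iso_of_kflat_kflat (P E L : Cx B) (hP : KFlat P) (hE : KFlat E)
    (e : Q.obj P ≅ Q.obj E) : Nonempty (Q.obj (P ⊗ L) ≅ Q.obj (E ⊗ L)) := by
  obtain ⟨G, t, hG, -, ht, -⟩ := exists_kprojective_resolution P
  have hti : IsIso (Q.map t) := (DerivedCategory.isIso_Q_map_iff_quasiIso (φ := t)).2 ht
  obtain ⟨s, hs⟩ := Q_map_surjective G E (Q.map t ≫ e.hom)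
  have hsi : IsIso (Q.map s) := by rw [hs]; infer_instance
  have hsq : QuasiIso s := (DerivedCategory.isIso_Q_map_iff_quasiIso (φ := s)).1 hsi
  have hGf : KFlat G := kflat_of_isKProjective G
  have q1 : QuasiIso (t ▷ L) := quasiIso_whiskerRight_of_kflat_kflat t hGf hP L
  have q2 : QuasiIso (s ▷ L) := quasiIso_whiskerRight_of_kflat_kflat s hGf hE L
  have i1 : IsIso (Q.map (t ▷ L)) := (DerivedCategory.isIso_Q_map_iff_quasiIso (φ := t ▷ L)).2 q1
  have i2 : IsIso (Q.map (s ▷ L)) := (DerivedCategory.isIso_Q_map_iff_quasiIso (φ := s ▷ L)).2 q2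
  exact ⟨(asIso (Q.map (t ▷ L))).symm ≪≫ asIso (Q.map (s ▷ L))⟩

end ring

variable {X S : Scheme.{u}} (f : X ⟶ S)

/-- stalkwise: a K-flat complex with absolute tor amplitude `[a, b]` at `y` tensored with a complex
of relative tor amplitude `[c, d]` at `y` -/
theorem hasTorAmplitudeAt_tensorCx (P M : CochainComplex X.Modules ℤ) (hP : DCoh.IsKFlat P)
    (a b c d : ℤ) (y : X)
    (hPy : DRing.HasTorAmplitudeIn (Ox y) a b (Q.obj ((stalkC y).obj P)))
    (hM : DerSch.HasTorAmplitudeAt f c d M y) :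
    DerSch.HasTorAmplitudeAt f (a + c) (b + d) ((DCoh.tensorCx.obj P).obj M) y := by
  obtain ⟨E0, hE0, hE0f, ⟨e⟩⟩ := hPy
  have hPx : RKFlat ((stalkC y).obj P) := rKFlat_stalk_of_isKFlat y P hP
  have hPx' : KFlat ((stalkC y).obj P) := fun L hL => hPx L hL
  have hE0k : KFlat E0 := kflat_of_boundedAbove_flat E0 b (fun q hq => hE0 q (Or.inr hq)) hE0f
  obtain ⟨t⟩ := nonempty_stalkTotIso y P M
  obtain ⟨e1⟩ := nonempty_Q_tensor_iso_of_kflat_kflat ((stalkC y).obj P) E0 ((stalkC y).obj M)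
    hPx' hE0k e.symm
  have h1 := hasTorAmp_of_iso (Q.mapIso (stalkCxOverIso f y M)) hM
  have key := hasTorAmp_resC_tensor (f.stalkMap y).hom E0 ((stalkC y).obj M) a b c d hE0 hE0f h1
  obtain ⟨e2⟩ := nonempty_Q_resC_iso (f.stalkMap y).hom (Q.mapIso t ≪≫ e1)
  exact hasTorAmp_of_iso (Q.mapIso (stalkCxOverIso f y _) ≪≫ e2).symm key

/-- S7249, tor part -/
theorem locHasFiniteRelTorDim_LTensorCx [Flat f] (K : DCoh.D X) (hK : DCoh.IsPerfect K)
    (M : CochainComplex X.Modules ℤ) (hMtor : DCoh.LocHasFiniteRelTorDim f (DCoh.toD X M))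
    [DCoh.HasLTensorCx M] :
    DCoh.LocHasFiniteRelTorDim f ((DCoh.LTensorCx M).obj K) := by
  rw [locHasFiniteRelTorDim_iff_torAt]
  intro x
  obtain ⟨V1, c, d, hx1, h1⟩ := (locHasFiniteRelTorDim_iff f M).1 hMtor x
  let F0 := (DerivedCategory.Q (C := X.Modules)).objPreimage K
  have e0 : DerivedCategory.Q.obj F0 ≅ K := (DerivedCategory.Q (C := X.Modules)).objObjPreimageIso K
  obtain ⟨P, q, hP, -, hq, -⟩ := exists_kflat_flat_resolution (O := X.sheaf) F0
  have hP' : DCoh.IsKFlat P := hP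
  haveI : IsIso (DerivedCategory.Q.map q) := by
    rw [DerivedCategory.isIso_Q_map_iff_quasiIso]; exact hq
  have eK : K ≅ DerivedCategory.Q.obj P := e0.symm ≪≫ (asIso (DerivedCategory.Q.map q)).symm
  obtain ⟨V2, a, b, hx2, h2⟩ :=
    Groth.Agent.Lib.H6xPerfFlatPC.locHasFiniteTorDim_of_isPerfect K hK x
  haveI hI1 : ModSite.HasLTensorCx (O := X.sheaf) M := (inferInstance : DCoh.HasLTensorCx M)
  have i : (DCoh.LTensorCx M).obj (DerivedCategory.Q.obj P) ≅
      DerivedCategory.Q.obj ((DCoh.tensorCx.obj P).obj M) :=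
    lTensorCxIsoOfIsKFlat (O := X.sheaf) M P hP
  refine ⟨V1 ⊓ V2, a + c, b + d, ⟨hx1, hx2⟩, fun y hy => ?_⟩
  have hPy : DRing.HasTorAmplitudeIn (Ox y) a b (Q.obj ((stalkC y).obj P)) :=
    hasTorAmp_stalk_of_restrictCx V2 P a b ⟨y, hy.2⟩
      (hasTorAmp_stalk_of_hasFlatAmplitudeIn _ a b (h2 P ⟨eK.symm⟩) ⟨y, hy.2⟩)
  have key := hasTorAmplitudeAt_tensorCx f P M hP' a b c d y hPy (h1 y hy.1)
  exact TorAt.of_iso ((torAt_toD_iff _ _ _ y).2 key) ((DCoh.LTensorCx M).mapIso eK ≪≫ i).symm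

end Groth.Agent.Lib.H6xSPerfTens
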