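import Mathlib
import Groth.Prelude.Def_TotMap
import Groth.Agent.Lib.Helper23TildeTensor
import Groth.Agent.Lib.Helper1PT4
set_option backward.isDefEq.respectTransparency.types false

/-!
# `~` is monoidal, for complexes: `(K ⊗ L)~ ≅ K~ ⊗ L~` (helper6)

Built on helper23's `tildeTensorIso` (naturality in the second variable added here) and the
prelude's `TotMap`.
-/

set_option autoImplicit false
set_option linter.style.haveILetI false
universe u
open CategoryTheory CategoryTheory.Limits AlgebraicGeometry TopologicalSpace Opposite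
  MonoidalCategory TensorProduct HomologicalComplex

namespace Groth.Agent.Lib.H6xTildeTens
open Groth.Agent.Lib.Helper1.PT Groth.Agent.Lib.Helper1.StalkTensor
open Groth.Agent.Lib.Helper21.ModTensor2 Groth.Agent.Lib.Helper21.ModTensor3 Groth.Agent.Lib.Helper21.ModTensor7
open Groth.Agent.Lib.Helper23.TildeTensor

variable (R : CommRingCat.{u})

section right

variable (M : ModuleCat.{u} R)

/-- the map `M~ ⊗ N~ ⟶ M~ ⊗ N'~` -/
noncomputable def mapR {N N' : ModuleCat.{u} R} (h : N ⟶ N') : (Φ₂ R N).obj M ⟶ (Φ₂ R N').obj M :=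
  ((DCoh.tensorBi (X := Spec R)).obj (tilde M)).map (tilde.map h)

lemma aHom_naturality_right {N N' : ModuleCat.{u} R} (h : N ⟶ N') :
    (tensorLeft M).map h ≫ aHom R N' M = aHom R N M ≫ (Γf R).map (mapR R M h) := by
  apply ModuleCat.MonoidalCategory.tensor_ext
  intro m n
  have hL : ((tensorLeft M).map h ≫ aHom R N' M).hom (m ⊗ₜ[R] n) = bilFun R N' M m (h.hom n) := by
    rw [ModuleCat.hom_comp, LinearMap.comp_apply]
    have : ((tensorLeft M).map h).hom (m ⊗ₜ[R] n) = m ⊗ₜ[R] (h.hom n) := rfl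
    rw [this, aHom_tmul]
  have hR : (aHom R N M ≫ (Γf R).map (mapR R M h)).hom (m ⊗ₜ[R] n) =
      (toPMMap (mapR R M h)).app (op ⊤) (bilFun R N M m n) := by
    rw [ModuleCat.hom_comp, LinearMap.comp_apply, aHom_tmul]
    rfl
  rw [hL, hR]
  have e := etaX_naturality (toPM (tilde M) ◁ toPMMap (tilde.map h))
  have e' := congrArg (fun φ => φ.app (op ⊤) (tm _ _ (sec R M m) (sec R N n))) e
  unfold bilFun
  rw [← sec_map, ← whiskerLeft_app_tm]
  exact e'

lemma αApp_naturality_right {N N' : ModuleCat.{u} R} (h : N ⟶ N') :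
    (tilde.functor R).map ((tensorLeft M).map h) ≫ αApp R N' M = αApp R N M ≫ mapR R M h := by
  unfold αApp
  have h1 := (tadj R).homEquiv_naturality_left_symm ((tensorLeft M).map h) (aHom R N' M)
  have h2 := (tadj R).homEquiv_naturality_right_symm (aHom R N M) (mapR R M h)
  rw [aHom_naturality_right] at h1
  exact h1.symm.trans h2

end right

/-- `(M, N) ↦ (M ⊗ N)~` -/
noncomputable abbrev H₁ : ModuleCat.{u} R ⥤ ModuleCat.{u} R ⥤ (Spec R).Modules :=
  curriedTensor (ModuleCat.{u} R) ⋙ (Functor.whiskeringRight _ _ _).obj (tilde.functor R)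

/-- `(M, N) ↦ M~ ⊗ N~` -/
noncomputable abbrev H₂ : ModuleCat.{u} R ⥤ ModuleCat.{u} R ⥤ (Spec R).Modules :=
  tilde.functor R ⋙ DCoh.tensorBi (X := Spec R) ⋙
    (Functor.whiskeringLeft _ _ _).obj (tilde.functor R)

/-- `~` is monoidal -/
noncomputable def tildeTensorBiIso : H₁ R ≅ H₂ R :=
  NatIso.ofComponents (fun M => NatIso.ofComponents
      (fun N => @asIso _ _ _ _ (αApp R N M) (isIso_αApp R N M))
      (fun {_ _} h => αApp_naturality_right R M h))
    (fun {_ _} g => NatTrans.ext (funext fun N => (α R N).naturality g))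

instance preservesTotal_tilde
    (B : HomologicalComplex₂ (ModuleCat.{u} R) (ComplexShape.up ℤ) (ComplexShape.up ℤ)) :
    TotMap.PreservesTotal (tilde.functor R) B (ComplexShape.up ℤ) := fun n => by
  haveI : PreservesColimitsOfSize.{0, 0} (tilde.functor R) := inferInstance
  infer_instance

instance : (H₁ R).PreservesZeroMorphisms := ⟨fun M M' => by
  apply NatTrans.ext
  funext N
  show (tilde.functor R).map ((0 : M ⟶ M') ▷ N) = 0
  rw [MonoidalPreadditive.zero_whiskerRight, Functor.map_zero]⟩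

instance : (H₂ R).PreservesZeroMorphisms := ⟨fun M M' => by
  apply NatTrans.ext
  funext N
  show ((DCoh.tensorBi (X := Spec R)).map ((tilde.functor R).map (0 : M ⟶ M'))).app
    ((tilde.functor R).obj N) = 0
  rw [Functor.map_zero, Functor.map_zero]
  rfl⟩

instance (A : ModuleCat.{u} R) : ((H₁ R).obj A).PreservesZeroMorphisms :=
  (inferInstance : ((curriedTensor (ModuleCat.{u} R)).obj A ⋙
    tilde.functor R).PreservesZeroMorphisms)

instance (A : ModuleCat.{u} R) : ((H₂ R).obj A).PreservesZeroMorphisms :=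
  (inferInstance : (tilde.functor R ⋙
    (DCoh.tensorBi (X := Spec R)).obj ((tilde.functor R).obj A)).PreservesZeroMorphisms)

/-- `~` on complexes -/
noncomputable abbrev tildeC :
    CochainComplex (ModuleCat.{u} R) ℤ ⥤ CochainComplex (Spec R).Modules ℤ :=
  (tilde.functor R).mapHomologicalComplex (ComplexShape.up ℤ)

variable (L K : CochainComplex (ModuleCat.{u} R) ℤ)

/-- `~` of the tensor product of two complexes -/
theorem nonempty_tildeTotIso :
    Nonempty ((tildeC R).obj (L ⊗ K) ≅
      mapBifunctor ((tildeC R).obj L) ((tildeC R).obj K) (DCoh.tensorBi (X := Spec R))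
        (ComplexShape.up ℤ)) := by
  let BY := (((curriedTensor (ModuleCat.{u} R)).mapBifunctorHomologicalComplex (ComplexShape.up ℤ)
    (ComplexShape.up ℤ)).obj L).obj K
  let BXX := (((DCoh.tensorBi (X := Spec R)).mapBifunctorHomologicalComplex (ComplexShape.up ℤ)
    (ComplexShape.up ℤ)).obj ((tildeC R).obj L)).obj ((tildeC R).obj K)
  haveI h1 : ((TotMap.map₂ (tilde.functor R) (ComplexShape.up ℤ) (ComplexShape.up ℤ)).obj
      BY).HasTotal (ComplexShape.up ℤ) :=
    TotMap.hasTotal_map₂ (tilde.functor R) BY (ComplexShape.up ℤ)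
  let e₂ : (TotMap.map₂ (tilde.functor R) (ComplexShape.up ℤ) (ComplexShape.up ℤ)).obj BY ≅
      (((H₁ R).mapBifunctorHomologicalComplex (ComplexShape.up ℤ)
        (ComplexShape.up ℤ)).obj L).obj K :=
    (TotMap.mapBifunctorPostcompIso (curriedTensor (ModuleCat.{u} R)) (tilde.functor R) L K).symm
  haveI h2 : HasMapBifunctor L K (H₁ R) (ComplexShape.up ℤ) :=
    HomologicalComplex₂.hasTotal_of_iso e₂ (ComplexShape.up ℤ)
  let e₄ : BXX ≅ (((H₂ R).mapBifunctorHomologicalComplex (ComplexShape.up ℤ)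
        (ComplexShape.up ℤ)).obj L).obj K :=
    TotMap.mapBifunctorPrecompIso (tilde.functor R) (tilde.functor R)
      (DCoh.tensorBi (X := Spec R)) L K
  haveI h3 : HasMapBifunctor L K (H₂ R) (ComplexShape.up ℤ) :=
    HomologicalComplex₂.hasTotal_of_iso e₄ (ComplexShape.up ℤ)
  exact ⟨TotMap.mapTotalIso (tilde.functor R) BY (ComplexShape.up ℤ) ≪≫
    HomologicalComplex₂.total.mapIso e₂ (ComplexShape.up ℤ) ≪≫
    TotMap.mapBifunctorNatIso L K (ComplexShape.up ℤ) (tildeTensorBiIso R) ≪≫
    (HomologicalComplex₂.total.mapIso e₄ (ComplexShape.up ℤ)).symm⟩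

end Groth.Agent.Lib.H6xTildeTens
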