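import Mathlib
import Groth.Agent.Lib.H6xTildeTensA
import Groth.Agent.Lib.H6xSPerfTensA
import Groth.Agent.Lib.H6xLTensQcB
import Groth.Agent.Lib.H6xTildePCA
import Groth.Agent.Lib.Helper1TensPerf
import Groth.Agent.Lib.H6xPC3F
import Groth.Agent.Lib.H6xPCohA
set_option backward.isDefEq.respectTransparency.types false

/-!
# The derived tensor product of two pseudo-coherent objects on a scheme is pseudo-coherent (helper6)
-/

set_option autoImplicit false
set_option linter.style.haveILetI false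

universe u

open CategoryTheory CategoryTheory.Limits AlgebraicGeometry TopologicalSpace Opposite
  MonoidalCategory HomologicalComplex

attribute [local instance] HasDerivedCategory.standard

namespace Groth.Agent.Lib.H6xTildeTens

open Groth.Agent.Lib.Helper21.ModTensor3 Groth.Agent.Lib.Helper21.ModTensor5
  Groth.Agent.Lib.Helper1.Sky Groth.Agent.Lib.H6xBettiUsc Groth.Agent.Lib.Helper1.KBC
  Groth.Agent.Lib.Helper1.BKF Groth.Agent.Lib.Helper1.PT Groth.Agent.Lib.Helper1.FLF
  Groth.Agent.Lib.Helper1.KF Groth.Agent.Lib.H6xRpushQc Groth.Agent.Lib.H6xLTensQc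
  Groth.Agent.Lib.Helper1.PC Groth.Agent.Lib.Helper1.PCTower Groth.Agent.Lib.Helper1.TensPerf
  Groth.Agent.Lib.Helper1.LDer

section ring

variable {R : Type u} [CommRing R]

/-- ring level: `N ⊗ M` is pseudo-coherent when `N` is K-flat and both are pseudo-coherent -/
theorem isPC_tensor (N M : DRing.Cx R) (hN : KFlat N)
    (h1 : DRing.IsPseudoCoherent' R (DerivedCategory.Q.obj N))
    (h2 : DRing.IsPseudoCoherent' R (DerivedCategory.Q.obj M)) (m : ℤ) :
    DRing.IsPseudoCoherent R m (DerivedCategory.Q.obj (N ⊗ M)) := by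
  obtain ⟨E, b, hE, hEp, ⟨eK⟩⟩ := h1
  obtain ⟨E', b', hE', hEp', ⟨eL⟩⟩ := h2
  have hproj : ∀ i, Module.Projective R (E.X i) := fun i =>
    have := (hEp i).2
    inferInstance
  have hproj' : ∀ i, Module.Projective R (E'.X i) := fun i =>
    have := (hEp' i).2
    inferInstance
  haveI : E.IsKProjective := isKProjective_of_vanishesAbove E b hE hproj
  haveI : E'.IsKProjective := isKProjective_of_vanishesAbove E' b' hE' hproj'
  have hEk : KFlat E := kflat_of_isKProjective E
  have hEk' : KFlat E' := kflat_of_isKProjective E'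
  -- `N ⊗ M ≅ E ⊗ M ≅ M ⊗ E ≅ E' ⊗ E ≅ E ⊗ E'`
  obtain ⟨e1⟩ := Groth.Agent.Lib.H6xSPerfTens.nonempty_Q_tensor_iso_of_kflat_kflat N E M hN hEk
    eK.symm
  obtain ⟨e2⟩ := Groth.Agent.Lib.H6xRelTorAmp.nonempty_Q_tensor_iso_of_kflat M E' E hEk eL
  have e : DerivedCategory.Q.obj (N ⊗ M) ≅ DerivedCategory.Q.obj (E ⊗ E') :=
    e1 ≪≫ DerivedCategory.Q.mapIso (swapIso E M) ≪≫ e2 ≪≫
      DerivedCategory.Q.mapIso (swapIso E' E)
  refine isPC_of_iso e.symm (isPC_of_bddAbove_finProj (E ⊗ E') (b + b') ?_ ?_ m)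
  · intro n hn
    apply isZero_tensor_X
    intro p q hpq
    by_cases hp : b < p
    · exact Or.inl (hE p hp)
    · exact Or.inr (hE' q (by lia))
  · intro n
    refine ⟨finite_tensor_X E E' (fun i => (hEp i).1) (fun i => (hEp' i).1) n
      (Finset.Icc (n - b') b) ?_, projective_tensor_X E E' hproj hproj' n⟩
    intro p q hpq hp
    rw [Finset.mem_Icc] at hp
    by_cases hp' : b < p
    · exact Or.inl (hE p hp')
    · exact Or.inr (hE' q (by lia))

end ring

variable {X : Scheme.{u}}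

/-- pseudo-coherent objects have quasi-coherent cohomology -/
theorem isQCohD_of_forall_pc (K : DCoh.D X) (h : ∀ m : ℤ, DCoh.IsPseudoCoherentD m K) :
    DCoh.IsQCohD K := fun i =>
  (Groth.Agent.Lib.H6xPCoh.qcoh_cohomology_of_pseudoCoherent (i - 1) K (h (i - 1))).1 i (by omega)

/-- pseudo-coherence restricts to opens -/
theorem isPseudoCoherentD_restrictD {Z : Scheme.{u}} (g : Z ⟶ X) [IsOpenImmersion g] (K : DCoh.D X)
    (m : ℤ) (h : DCoh.IsPseudoCoherentD m K) :
    DCoh.IsPseudoCoherentD m ((DCoh.restrictD g).obj K) := by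
  rw [Groth.Agent.Lib.H6xPC3.isPseudoCoherentD_iff_pcAt] at h ⊢
  exact fun z => Groth.Agent.Lib.H6xPC3.PCAt.restrict g z (h (g.base z))

/-- an object of `D_QCoh(Spec A)` is represented by the complex associated to a K-flat complex of
modules -/
theorem exists_tilde_iso_kproj (A : CommRingCat.{u}) (K : DCoh.D (Spec A))
    (hK : DCoh.IsQCohD K) :
    ∃ M : CochainComplex (ModuleCat.{u} A) ℤ, KFlat M ∧
      DCoh.IsKFlat (((tilde.functor A).mapHomologicalComplex (ComplexShape.up ℤ)).obj M) ∧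
      Nonempty (DerivedCategory.Q.obj
        (((tilde.functor A).mapHomologicalComplex (ComplexShape.up ℤ)).obj M) ≅ K) := by
  haveI := (Groth.Agent.S9498.aux A).1
  obtain ⟨M₀, ⟨e⟩⟩ := exists_tilde_iso A K hK
  obtain ⟨P, π, hP, -, hπ, -⟩ := exists_kprojective_resolution M₀
  haveI : IsIso (DerivedCategory.Q.map π) := by
    rw [DerivedCategory.isIso_Q_map_iff_quasiIso]; exact hπ
  have h1 : KFlat P := kflat_of_isKProjective P
  have h2 : RKFlat P := fun M hM => h1 M hM
  refine ⟨P, h1, isKFlat_tilde A P h2, ⟨?_⟩⟩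
  exact ((tilde.functor A).mapDerivedCategoryFactors.app P).symm ≪≫
    (DCoh.tildeD A).mapIso (asIso (DerivedCategory.Q.map π)) ≪≫
    (tilde.functor A).mapDerivedCategoryFactors.app M₀ ≪≫ e

/-- local step: the restriction of `P ⊗ F` to an affine open is pseudo-coherent -/
theorem isPseudoCoherentD_restrictD_tensorCx (A : CommRingCat.{u}) (g : Spec A ⟶ X)
    [IsOpenImmersion g] (P F : CochainComplex X.Modules ℤ) (hP : DCoh.IsKFlat P)
    (hPpc : ∀ m : ℤ, DCoh.IsPseudoCoherentD m (DerivedCategory.Q.obj P))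
    (hFpc : ∀ m : ℤ, DCoh.IsPseudoCoherentD m (DerivedCategory.Q.obj F)) (m : ℤ) :
    DCoh.IsPseudoCoherentD m ((DCoh.restrictD g).obj
      (DerivedCategory.Q.obj ((DCoh.tensorCx.obj P).obj F))) := by
  haveI := (Groth.Agent.S9498.aux A).1
  obtain ⟨t⟩ := nonempty_pullTotIso g P F
  have hPg : DCoh.IsKFlat ((pullC g).obj P) := Groth.Agent.S0960.isKFlat_pullC g P hP
  have hPq := isQCohD_of_forall_pc _ hPpc
  have hFq := isQCohD_of_forall_pc _ hFpc
  obtain ⟨M, ⟨eM⟩⟩ := exists_tilde_iso A _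
    (isQCohD_of_iso (restrictDQIso g P) (isQCohD_restrictD g _ hPq))
  obtain ⟨N, hNk, hN, ⟨eN⟩⟩ := exists_tilde_iso_kproj A _
    (isQCohD_of_iso (restrictDQIso g F) (isQCohD_restrictD g _ hFq))
  obtain ⟨c⟩ := nonempty_Q_tensor_iso (O := (Spec A).sheaf) ((pullC g).obj F)
    (((tilde.functor A).mapHomologicalComplex (ComplexShape.up ℤ)).obj N) ((pullC g).obj P)
    (((tilde.functor A).mapHomologicalComplex (ComplexShape.up ℤ)).obj M) hPg hN eN.symm eM.symm
  let s := symIso (ModSite.tensorBi (Spec A).sheaf) (brd (Spec A).sheaf) ((pullC g).obj P)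
    ((pullC g).obj F)
  obtain ⟨tt⟩ := nonempty_tildeTotIso A N M
  -- ring level pseudo-coherence
  have pcN : ∀ k : ℤ, DRing.IsPseudoCoherent A k (DerivedCategory.Q.obj N) := fun k =>
    (Groth.Agent.Lib.H6xTildePC.pc_tildeD_iff A _ k).1
      (Groth.Agent.Lib.H6xPC3.isPseudoCoherentD_of_iso
        (restrictDQIso g F ≪≫ eN.symm ≪≫
          ((tilde.functor A).mapDerivedCategoryFactors.app N).symm)
        (isPseudoCoherentD_restrictD g _ k (hFpc k)))
  have pcM : ∀ k : ℤ, DRing.IsPseudoCoherent A k (DerivedCategory.Q.obj M) := fun k =>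
    (Groth.Agent.Lib.H6xTildePC.pc_tildeD_iff A _ k).1
      (Groth.Agent.Lib.H6xPC3.isPseudoCoherentD_of_iso
        (restrictDQIso g P ≪≫ eM.symm ≪≫
          ((tilde.functor A).mapDerivedCategoryFactors.app M).symm)
        (isPseudoCoherentD_restrictD g _ k (hPpc k)))
  have key : DRing.IsPseudoCoherent A m (DerivedCategory.Q.obj (N ⊗ M)) :=
    isPC_tensor N M hNk (isPseudoCoherent'_of_forall _ pcN) (isPseudoCoherent'_of_forall _ pcM) m
  have key' := (Groth.Agent.Lib.H6xTildePC.pc_tildeD_iff A _ m).2 key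
  refine Groth.Agent.Lib.H6xPC3.isPseudoCoherentD_of_iso ?_ key'
  exact (restrictDQIso g _ ≪≫ DerivedCategory.Q.mapIso t ≪≫
    DerivedCategory.Q.mapIso s ≪≫ c ≪≫ DerivedCategory.Q.mapIso tt.symm ≪≫
    ((tilde.functor A).mapDerivedCategoryFactors.app (N ⊗ M)).symm).symm

/-- the derived tensor product of pseudo-coherent objects is pseudo-coherent -/
theorem isPseudoCoherentD_LTensorCx (F : CochainComplex X.Modules ℤ)
    (hF : ∀ m : ℤ, DCoh.IsPseudoCoherentD m (DCoh.toD X F)) [DCoh.HasLTensorCx F]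
    (E : DCoh.D X) (hE : ∀ m : ℤ, DCoh.IsPseudoCoherentD m E) (m : ℤ) :
    DCoh.IsPseudoCoherentD m ((DCoh.LTensorCx F).obj E) := by
  let F0 := (DerivedCategory.Q (C := X.Modules)).objPreimage E
  have e0 : DerivedCategory.Q.obj F0 ≅ E := (DerivedCategory.Q (C := X.Modules)).objObjPreimageIso E
  obtain ⟨P, q, hP, -, hq, -⟩ := exists_kflat_flat_resolution (O := X.sheaf) F0
  haveI : QuasiIso q := hq
  have hP' : DCoh.IsKFlat P := hP
  haveI : IsIso (DerivedCategory.Q.map q) := by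
    rw [DerivedCategory.isIso_Q_map_iff_quasiIso]; exact hq
  have eK : E ≅ DerivedCategory.Q.obj P := e0.symm ≪≫ (asIso (DerivedCategory.Q.map q)).symm
  haveI hI1 : ModSite.HasLTensorCx (O := X.sheaf) F := (inferInstance : DCoh.HasLTensorCx F)
  have i : (DCoh.LTensorCx F).obj (DerivedCategory.Q.obj P) ≅
      DerivedCategory.Q.obj ((DCoh.tensorCx.obj P).obj F) :=
    lTensorCxIsoOfIsKFlat (O := X.sheaf) F P hP
  refine Groth.Agent.Lib.H6xPC3.isPseudoCoherentD_of_iso ((DCoh.LTensorCx F).mapIso eK ≪≫ i).symm ?_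
  rw [Groth.Agent.Lib.H6xPC3.isPseudoCoherentD_iff_pcAt]
  intro x
  obtain ⟨W, hW, hxW, -⟩ := exists_isAffineOpen_mem_and_subset (x := x) (U := ⊤) trivial
  have hx : x ∈ Set.range hW.fromSpec.base := by rw [hW.range_fromSpec]; exact hxW
  obtain ⟨z, rfl⟩ := hx
  refine Groth.Agent.Lib.H6xPC3.PCAt.of_restrict hW.fromSpec z ?_
  have := isPseudoCoherentD_restrictD_tensorCx _ hW.fromSpec P F hP'
    (fun k => Groth.Agent.Lib.H6xPC3.isPseudoCoherentD_of_iso eK (hE k)) hF m
  rw [Groth.Agent.Lib.H6xPC3.isPseudoCoherentD_iff_pcAt] at this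
  exact this z

end Groth.Agent.Lib.H6xTildeTens
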