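import Mathlib
import Groth.Agent.Lib.H6xPerfFlatPCB
import Groth.Agent.Lib.H6xRelTorSmD
import Groth.Agent.Lib.H6xTildeTensB
import Groth.Agent.Lib.Helper23QCohLocal
import Groth.Agent.Lib.Helper23Serre
set_option backward.isDefEq.respectTransparency.types false

/-!
# Affine over smooth, flat over the base, pseudo-coherent push-forward ⇒ perfect (helper6, S7872)
-/

set_option autoImplicit false
set_option linter.style.haveILetI false

universe u

open CategoryTheory CategoryTheory.Limits AlgebraicGeometry HomologicalComplex TopologicalSpace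
  Opposite MonoidalCategory

attribute [local instance] HasDerivedCategory.standard

namespace Groth.Agent.Lib.H6xAffSmPerf

variable {X Y S : Scheme.{u}}

theorem image_top (V : Y.Opens) (hV : IsAffineOpen V) : hV.fromSpec ''ᵁ ⊤ = V := by
  rw [Scheme.Hom.image_top_eq_opensRange, hV.opensRange_fromSpec]

theorem claimA (V : Y.Opens) (hV : IsAffineOpen V) :
    (Scheme.ΓSpecIso Γ(Y, V)).inv ≫
      (Spec Γ(Y, V)).presheaf.map (⊤ : (Spec Γ(Y, V)).Opens).leTop.op ≫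
        (hV.fromSpec.appIso ⊤).inv =
      Y.presheaf.map (homOfLE ((image_top V hV).le)).op := by
  rw [← cancel_mono (hV.fromSpec.appIso ⊤).hom]
  simp only [Category.assoc, Iso.inv_hom_id, Category.comp_id]
  rw [Scheme.Hom.appIso_hom, ← Category.assoc (Y.presheaf.map _), hV.fromSpec.naturality]
  rw [hV.fromSpec_app_self]
  simp only [Category.assoc, ← Functor.map_comp]
  congr 1

theorem claimB (f : X ⟶ Y) (g : Y ⟶ S) (W : S.Opens) (V : Y.Opens) (hV : IsAffineOpen V)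
    (hVW : V ≤ g ⁻¹ᵁ W) (e : f ⁻¹ᵁ (hV.fromSpec ''ᵁ ⊤) ≤ (f ≫ g) ⁻¹ᵁ W) :
    g.appLE W V hVW ≫ (Scheme.ΓSpecIso Γ(Y, V)).inv ≫
      (Spec Γ(Y, V)).presheaf.map (⊤ : (Spec Γ(Y, V)).Opens).leTop.op ≫
        (hV.fromSpec.appIso ⊤).inv ≫ f.app (hV.fromSpec ''ᵁ ⊤) =
      (f ≫ g).appLE W (f ⁻¹ᵁ (hV.fromSpec ''ᵁ ⊤)) e := by
  have h := claimA V hV
  rw [← Category.assoc (Scheme.ΓSpecIso Γ(Y, V)).inv, ← Category.assoc ((Scheme.ΓSpecIso Γ(Y, V)).inv ≫ _),
    Category.assoc (Scheme.ΓSpecIso Γ(Y, V)).inv, h, Scheme.Hom.appLE_map_assoc,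
    Scheme.Hom.app_eq_appLE, Scheme.Hom.appLE_comp_appLE]

/-- the `B`-module of sections -/
noncomputable abbrev secMod (f : X ⟶ Y) (V : Y.Opens) (hV : IsAffineOpen V) : ModuleCat.{u} Γ(Y, V) :=
  (modulesSpecToSheaf.obj (((Scheme.Modules.pushforward f).obj (Coh.structureModule X)).restrict
    hV.fromSpec)).presheaf.obj (.op ⊤)

theorem smul_secMod (f : X ⟶ Y) (V : Y.Opens) (hV : IsAffineOpen V) (b : Γ(Y, V))
    (x : secMod f V hV) :
    b • x = (show Γ(X, f ⁻¹ᵁ (hV.fromSpec ''ᵁ ⊤)) from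
      (f.app (hV.fromSpec ''ᵁ ⊤)) ((hV.fromSpec.appIso ⊤).inv
        (((Spec Γ(Y, V)).presheaf.map (⊤ : (Spec Γ(Y, V)).Opens).leTop.op)
          ((Scheme.ΓSpecIso Γ(Y, V)).inv b))) * (show Γ(X, f ⁻¹ᵁ (hV.fromSpec ''ᵁ ⊤)) from x)) := rfl

theorem flat_secMod (f : X ⟶ Y) (g : Y ⟶ S) [IsAffineHom f] [Flat (f ≫ g)] (W : S.Opens)
    (hW : IsAffineOpen W) (V : Y.Opens) (hV : IsAffineOpen V) (hVW : V ≤ g ⁻¹ᵁ W) :
    Module.Flat Γ(S, W)
      ((ModuleCat.restrictScalars (g.appLE W V hVW).hom).obj (secMod f V hV)) := by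
  have hU' : IsAffineOpen (f ⁻¹ᵁ (hV.fromSpec ''ᵁ ⊤)) := by
    rw [image_top]
    exact hV.preimage f
  have e : f ⁻¹ᵁ (hV.fromSpec ''ᵁ ⊤) ≤ (f ≫ g) ⁻¹ᵁ W := by
    rw [image_top]
    intro x hx
    exact hVW hx
  have hfl : ((f ≫ g).appLE W (f ⁻¹ᵁ (hV.fromSpec ''ᵁ ⊤)) e).hom.Flat :=
    Flat.flat_appLE (f ≫ g) hW hU' e
  letI alg : Algebra Γ(S, W) Γ(X, f ⁻¹ᵁ (hV.fromSpec ''ᵁ ⊤)) :=
    ((f ≫ g).appLE W (f ⁻¹ᵁ (hV.fromSpec ''ᵁ ⊤)) e).hom.toAlgebra
  have hfl' : Module.Flat Γ(S, W) Γ(X, f ⁻¹ᵁ (hV.fromSpec ''ᵁ ⊤)) := hfl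
  let eq : Γ(X, f ⁻¹ᵁ (hV.fromSpec ''ᵁ ⊤)) ≃ₗ[Γ(S, W)]
      ((ModuleCat.restrictScalars (g.appLE W V hVW).hom).obj (secMod f V hV)) :=
    { toFun := fun x => x
      invFun := fun x => x
      map_add' := fun _ _ => rfl
      map_smul' := fun r x => by
        have h := congrArg (fun φ => φ.hom r) (claimB f g W V hV hVW e)
        change ((f ≫ g).appLE W (f ⁻¹ᵁ (hV.fromSpec ''ᵁ ⊤)) e).hom r * x = _
        rw [← h]
        rfl
      left_inv := fun _ => rfl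
      right_inv := fun _ => rfl }
  exact Module.Flat.of_linearEquiv eq.symm

end Groth.Agent.Lib.H6xAffSmPerf

namespace Groth.Agent.Lib.H6xAffSmPerf

open Groth.Agent.Lib.H6xRelTorAmp Groth.Agent.Lib.Helper1.TorDim Groth.Agent.Lib.H6xPerfFlatPC
  Groth.Agent.Lib.H6xPerfSumm

theorem hmod_of_isStandardSmooth {A B : Type u} [CommRing A] [CommRing B] (φ : A →+* B) (n : ℕ)
    (hφ : φ.IsStandardSmoothOfRelativeDimension n) (Z : ModuleCat.{u} B)
    (hZ : Module.Flat A ((ModuleCat.restrictScalars φ).obj Z)) :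
    DRing.HasTorAmplitudeIn B (-(n : ℤ)) 0 (Dual.inD B Z) := by
  letI mA : Module A Z := Module.compHom Z φ
  have hZA : Module.Flat A Z := hZ
  have h0 : DRing.HasTorDimLE A 0 Z := (hasTorDimLE_zero_iff_flat Z).2 hZA
  have h1 : DRing.HasTorDimLE B (0 + n) Z :=
    hasTorDimLE_module_of_isStandardSmooth φ n hφ 0 Z h0
  have h3 := (hasTorDimLE_iff_hasTorAmp Z (0 + n)).1 h1
  rw [zero_add] at h3
  exact h3

variable {X Y S : Scheme.{u}}

theorem main (f : X ⟶ Y) (g : Y ⟶ S) [IsAffineHom f] [Smooth g] [Flat (f ≫ g)]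
    (hpc : ∀ m : ℤ, DCoh.IsPseudoCoherentD m
      (DCoh.inD Y ((Coh.push f).obj (Coh.structureModule X)))) :
    DCoh.IsPerfect (DCoh.inD Y ((Coh.push f).obj (Coh.structureModule X))) := by
  refine isPerfect_of_local_perfect _ (fun y => ?_)
  obtain ⟨W, hW, V, hV, hyV, hVW, hst⟩ := Smooth.exists_isStandardSmooth g y
  obtain ⟨n, hn⟩ := exists_relDim_of_isStandardSmooth hst
  refine ⟨Spec Γ(Y, V), hV.fromSpec, inferInstance, ?_, ?_⟩
  · rw [hV.range_fromSpec]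
    exact hyV
  haveI : (Coh.structureModule X).IsQuasicoherent :=
    Groth.Agent.Lib.Helper23.Serre.isQuasicoherent_structureModule' X
  haveI : ((Scheme.Modules.pushforward f).obj (Coh.structureModule X)).IsQuasicoherent :=
    Groth.Agent.Lib.Helper23.QCohLocal.isQuasicoherent_pushforward f _
  let N := ((Scheme.Modules.pushforward f).obj (Coh.structureModule X)).restrict hV.fromSpec
  haveI : N.IsQuasicoherent := inferInstance
  haveI : IsIso N.fromTildeΓ := Scheme.Modules.isIso_fromTildeΓ_of_isQuasicoherent N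
  let eN : tilde (secMod f V hV) ≅ N := asIso N.fromTildeΓ
  haveI := (Groth.Agent.S9498.aux Γ(Y, V)).1
  have htor : DRing.HasTorAmplitudeIn Γ(Y, V) (-(n : ℤ)) 0 (Dual.inD _ (secMod f V hV)) :=
    hmod_of_isStandardSmooth _ n hn _ (flat_secMod f g W hW V hV hVW)
  have h1 : DCoh.HasFlatAmplitudeIn (-(n : ℤ)) 0 ((DCoh.restrictD hV.fromSpec).obj
      (DCoh.inD Y ((Coh.push f).obj (Coh.structureModule X)))) :=
    hasFlatAmplitudeIn_of_iso
      (((tilde.functor Γ(Y, V)).mapDerivedCategorySingleFunctor 0).app (secMod f V hV) ≪≫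
        (DerivedCategory.singleFunctor (Spec Γ(Y, V)).Modules 0).mapIso eN ≪≫
        (((Scheme.Modules.restrictFunctor hV.fromSpec).mapDerivedCategorySingleFunctor 0).app
          ((Scheme.Modules.pushforward f).obj (Coh.structureModule X))).symm) _ _
      (Groth.Agent.Lib.H6xFlatAmpTilde.hasFlatAmplitudeIn_tildeD Γ(Y, V) _ _ _ htor)
  exact Groth.Agent.Lib.H6xPerfFlatPC.main _ (-(n : ℤ)) 0 (by omega) h1
    (Groth.Agent.Lib.H6xTildeTens.isPseudoCoherentD_restrictD _ _ _ (hpc _))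

end Groth.Agent.Lib.H6xAffSmPerf
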