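import Mathlib
import Groth.Agent.Lib.H9FlatModelElem
import Groth.Agent.Lib.Helper1Tor
import Groth.Agent.Lib.Helper13ABLocal
import Groth.Agent.Lib.Helper13TorMore

/-!
# Syzygies of finitely presented modules flat over the base (helper3, round 2)

Let `A → B` be a finitely presented ring map and `M` a finitely presented `B`-module which is flat
over `A`.

* `exists_surjective_fp_ker`: there is a surjection `B^k → M` whose kernel is again finitely
  presented over `B` (noetherian approximation; `B` need not be coherent).
* `flat_of_isZero_tor_one`: a module with `Tor_1(M, N) = 0` for all `N` is flat.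
* `pdLT_of_isZero_tor`: if moreover `B` is flat over `A` and `Tor_i^B(M, N) = 0` for all `i > n` and
  all `N`, then `pd_B M ≤ n`.
-/

set_option autoImplicit false
set_option linter.style.haveILetI false
set_option linter.unusedVariables false
set_option linter.unusedSectionVars false

universe u
open TensorProduct CategoryTheory CategoryTheory.Limits

namespace Groth.Agent.Lib.R2H3.FlatSyz

section Cancel

variable {A₀ A B₀ B : Type*} [CommRing A₀] [CommRing A] [CommRing B₀] [CommRing B]
  [Algebra A₀ A] [Algebra A₀ B₀] [Algebra A₀ B] [Algebra B₀ B] [Algebra A B]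
  [IsScalarTower A₀ B₀ B] [IsScalarTower A₀ A B] [Algebra.IsPushout A₀ A B₀ B]
  {N N' P : Type*} [AddCommGroup N] [Module A₀ N] [Module B₀ N] [IsScalarTower A₀ B₀ N]
  [AddCommGroup N'] [Module A₀ N'] [Module B₀ N'] [IsScalarTower A₀ B₀ N']
  [AddCommGroup P] [Module A₀ P] [Module B₀ P] [IsScalarTower A₀ B₀ P]

/-- naturality of `Algebra.IsPushout.cancelBaseChange` (inverse direction). -/
theorem cancel_symm_lTensor (g : N →ₗ[B₀] N') (t : A ⊗[A₀] N) :
    (Algebra.IsPushout.cancelBaseChange A₀ A B₀ B N').symm
        ((g.restrictScalars A₀).lTensor A t) =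
      g.lTensor B ((Algebra.IsPushout.cancelBaseChange A₀ A B₀ B N).symm t) := by
  induction t using TensorProduct.induction_on with
  | zero => simp
  | tmul a n => simp
  | add x y hx hy => simp only [map_add, hx, hy]

end Cancel

/-- If `B = A ⊗[A₀] B₀` and `0 → N → N' → P → 0` is an exact sequence of `B₀`-modules with `P` flat
over `A₀`, then `B ⊗[B₀] N → B ⊗[B₀] N'` is injective. -/
theorem lTensor_injective_of_flat_coker (A₀ A B₀ B : Type*) [CommRing A₀] [CommRing A] [CommRing B₀]
    [CommRing B] [Algebra A₀ A] [Algebra A₀ B₀] [Algebra A₀ B] [Algebra B₀ B] [Algebra A B]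
    [IsScalarTower A₀ B₀ B] [IsScalarTower A₀ A B] [Algebra.IsPushout A₀ A B₀ B]
    {N N' P : Type*} [AddCommGroup N] [Module A₀ N] [Module B₀ N] [IsScalarTower A₀ B₀ N]
    [AddCommGroup N'] [Module A₀ N'] [Module B₀ N'] [IsScalarTower A₀ B₀ N']
    [AddCommGroup P] [Module A₀ P] [Module B₀ P] [IsScalarTower A₀ B₀ P]
    (g : N →ₗ[B₀] N') (f : N' →ₗ[B₀] P)
    (hg : Function.Injective g) (hf : Function.Surjective f) (hex : Function.Exact g f)
    [Module.Flat A₀ P] : Function.Injective (g.lTensor B) := by
  have h1 : Function.Injective ((g.restrictScalars A₀).lTensor A) :=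
    LinearMap.lTensor_injective_of_exact_of_flat (f.restrictScalars A₀) hf
      (g.restrictScalars A₀) hg hex A
  intro x y hxy
  obtain ⟨x', rfl⟩ := (Algebra.IsPushout.cancelBaseChange A₀ A B₀ B N).symm.surjective x
  obtain ⟨y', rfl⟩ := (Algebra.IsPushout.cancelBaseChange A₀ A B₀ B N).symm.surjective y
  rw [← cancel_symm_lTensor, ← cancel_symm_lTensor] at hxy
  rw [h1 ((Algebra.IsPushout.cancelBaseChange A₀ A B₀ B N').symm.injective hxy)]

section Syzygy

/-- **Syzygies stay finitely presented.** For a finitely presented `A`-algebra `B` and a finitely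
presented `B`-module `M` flat over `A`, there is a surjection from a finite free `B`-module onto `M`
with finitely presented kernel. -/
theorem exists_surjective_fp_ker (A B M : Type u) [CommRing A] [CommRing B] [Algebra A B]
    [Algebra.FinitePresentation A B] [AddCommGroup M] [Module B M] [Module A M]
    [IsScalarTower A B M] [Module.FinitePresentation B M] [Module.Flat A M] :
    ∃ (k : ℕ) (π : (Fin k → B) →ₗ[B] M), Function.Surjective π ∧
      Module.FinitePresentation B (LinearMap.ker π) := by
  classical
  obtain ⟨A₀, _, _, B₀, _, _, _, _, _, _, M₀, _, _, _, _, _, _, _, _, _, f, hA₀, hB₀, hfin, hflat,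
    hpush, hbc, hfb, hT⟩ :=
    Groth.Agent.Lib.H9FlatModelElem.exists_flat_module_model_elem A B M ∅
  haveI : IsNoetherianRing A₀ := Algebra.FiniteType.isNoetherianRing ℤ A₀
  haveI : IsNoetherianRing B₀ := Algebra.FiniteType.isNoetherianRing A₀ B₀
  obtain ⟨k, π₀, hπ₀⟩ := Module.Finite.exists_fin' B₀ M₀
  haveI : Module.Finite B₀ (LinearMap.ker π₀) := inferInstance
  haveI : Module.FinitePresentation B₀ (LinearMap.ker π₀) :=
    Module.finitePresentation_of_finite B₀ _
  let α : B ⊗[B₀] (LinearMap.ker π₀) →ₗ[B] B ⊗[B₀] (Fin k → B₀) :=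
    (LinearMap.ker π₀).subtype.baseChange B
  let β : B ⊗[B₀] (Fin k → B₀) →ₗ[B] B ⊗[B₀] M₀ := π₀.baseChange B
  have hα : Function.Injective α :=
    lTensor_injective_of_flat_coker A₀ A B₀ B
      (LinearMap.ker π₀).subtype π₀ (Submodule.injective_subtype _) hπ₀
      (LinearMap.exact_subtype_ker_map π₀)
  have hex : Function.Exact α β :=
    lTensor_exact B (LinearMap.exact_subtype_ker_map π₀) hπ₀
  have hβ : Function.Surjective β := LinearMap.lTensor_surjective B hπ₀
  let eF : B ⊗[B₀] (Fin k → B₀) ≃ₗ[B] (Fin k → B) := TensorProduct.piScalarRight B₀ B B (Fin k)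
  let eM : B ⊗[B₀] M₀ ≃ₗ[B] M := hbc.equiv
  let π : (Fin k → B) →ₗ[B] M := eM.toLinearMap ∘ₗ β ∘ₗ eF.symm.toLinearMap
  refine ⟨k, π, ?_, ?_⟩
  · exact eM.surjective.comp (hβ.comp eF.symm.surjective)
  · let γ : B ⊗[B₀] (LinearMap.ker π₀) →ₗ[B] LinearMap.ker π :=
      LinearMap.codRestrict _ (eF.toLinearMap ∘ₗ α) (fun t => by
        show eM (β (eF.symm (eF (α t)))) = 0
        rw [eF.symm_apply_apply, hex.apply_apply_eq_zero, map_zero])
    have hγ : Function.Bijective γ := by
      constructor
      · intro x y hxy
        have h1 : eF (α x) = eF (α y) := congrArg Subtype.val hxy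
        exact hα (eF.injective h1)
      · rintro ⟨x, hx⟩
        have hx' : β (eF.symm x) = 0 := eM.injective (by rw [map_zero]; exact hx)
        obtain ⟨t, ht⟩ := (hex _).1 hx'
        refine ⟨t, Subtype.ext ?_⟩
        show eF (α t) = x
        rw [ht, eF.apply_symm_apply]
    exact Module.FinitePresentation.of_equiv (LinearEquiv.ofBijective γ hγ)

end Syzygy

section Tor

variable {B : Type u} [CommRing B]

/-- A module all of whose `Tor_1` vanish is flat. -/
theorem flat_of_isZero_tor_one (M : Type u) [AddCommGroup M] [Module B M]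
    (h : ∀ N : ModuleCat.{u} B,
      IsZero (((Tor (ModuleCat.{u} B) 1).obj (ModuleCat.of B M)).obj N)) :
    Module.Flat B M := by
  rw [Module.Flat.iff_lTensor_injective']
  intro I
  have hS := Groth.Agent.Helper13Ses.sesSub_shortExact (R := B) (M := B) I
  have h₂ : IsZero (((Tor (ModuleCat.{u} B) 1).obj (ModuleCat.of B M)).obj
      (Groth.Agent.Helper13Ses.sesSub (R := B) (M := B) I).X₂) := h _
  have := (Groth.Agent.Helper13Tor.isZero_tor_one_iff_lTensor_injective (ModuleCat.of B M) _ hS
    h₂).1 (h _)
  exact this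

/-- `Tor_i(M, N) = 0` when `M` is the zero module. -/
theorem isZero_tor_of_subsingleton (M : Type u) [AddCommGroup M] [Module B M] [Subsingleton M]
    (i : ℕ) (N : ModuleCat.{u} B) :
    IsZero (((Tor (ModuleCat.{u} B) i).obj (ModuleCat.of B M)).obj N) := by
  rcases Nat.eq_zero_or_pos i with rfl | hi
  · have e1 : ((Tor (ModuleCat.{u} B) 0).obj (ModuleCat.of B M)).obj N ≅
        MonoidalCategory.tensorObj (ModuleCat.of B M) N :=
      (Groth.Agent.Helper13Tor.torZeroIso.app (ModuleCat.of B M)).app N
    refine IsZero.of_iso ?_ e1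
    have : Subsingleton (TensorProduct B M N) := by
      refine ⟨fun x y => ?_⟩
      have hz : ∀ z : TensorProduct B M N, z = 0 := by
        intro z
        induction z using TensorProduct.induction_on with
        | zero => rfl
        | tmul m n => rw [Subsingleton.elim m 0, TensorProduct.zero_tmul]
        | add x y hx hy => rw [hx, hy, add_zero]
      rw [hz x, hz y]
    exact ModuleCat.isZero_of_subsingleton (ModuleCat.of B (TensorProduct B M N))
  · exact Groth.Agent.Helper13Tor.isZero_tor_of_flat N (ModuleCat.of B M) i hi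

end Tor

section Main

/-- **Tor-dimension bounds projective dimension** for finitely presented modules flat over the base
of a flat finitely presented ring map. -/
theorem pdLT_of_isZero_tor (A B : Type u) [CommRing A] [CommRing B] [Algebra A B]
    [Algebra.FinitePresentation A B] [Module.Flat A B] (n : ℕ) :
    ∀ (M : Type u) [AddCommGroup M] [Module B M] [Module A M] [IsScalarTower A B M]
      [Module.FinitePresentation B M] [Module.Flat A M],
      (∀ i : ℕ, n < i → ∀ N : ModuleCat.{u} B,
        IsZero (((Tor (ModuleCat.{u} B) i).obj (ModuleCat.of B M)).obj N)) →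
      HasProjectiveDimensionLT (ModuleCat.of B M) (n + 1) := by
  induction n with
  | zero =>
    intro M _ _ _ _ _ _ h
    haveI : Module.Flat B M := flat_of_isZero_tor_one M (fun N => h 1 (by omega) N)
    haveI : Module.Projective B M := Module.Flat.projective_of_finitePresentation
    exact projective_iff_hasProjectiveDimensionLT_one.1
      ((IsProjective.iff_projective M).1 inferInstance)
  | succ n ih =>
    intro M _ _ _ _ _ _ h
    obtain ⟨k, π, hπ, hfp⟩ := exists_surjective_fp_ker A B M
    haveI := hfp
    haveI : Module.Flat A (Fin k → B) := Module.Flat.trans A B _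
    haveI : Module.Flat A (LinearMap.ker π) :=
      Groth.Agent.Lib.Helper1.Tor.flat_ker ((LinearMap.ker π).subtype.restrictScalars A)
        (π.restrictScalars A) (Submodule.injective_subtype _) hπ
        (LinearMap.exact_subtype_ker_map π)
    have hS := Groth.Agent.Helper13Ses.sesKer_shortExact π hπ
    have hK : HasProjectiveDimensionLT (ModuleCat.of B (LinearMap.ker π)) (n + 1) := by
      apply ih (LinearMap.ker π)
      intro i hi N
      refine Groth.Agent.Helper13Tor.isZero_tor_X₁ (Groth.Agent.Helper13Ses.sesKer π) hS N i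
        (h (i + 1) (by omega) N) ?_
      exact Groth.Agent.Helper13Tor.isZero_tor_of_flat N (ModuleCat.of B (Fin k → B)) i (by omega)
    exact (hS.hasProjectiveDimensionLT_X₃_iff n
      ((IsProjective.iff_projective (Fin k → B)).1 inferInstance)).2 hK

end Main

end Groth.Agent.Lib.R2H3.FlatSyz
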