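import Mathlib
import Groth.Prelude.Def_DRing2
import Groth.Agent.Lib.R2H3FlatSyz
import Groth.Agent.Lib.Helper1PC
import Groth.Agent.S2066

/-!
# Finitely presented modules flat over the base are pseudo-coherent (helper3, round 2)

`A → P` flat of finite presentation, `M` a finitely presented `P`-module flat over `A`: then `M` is a
pseudo-coherent `P`-module (it has a resolution by finite free modules).
-/

set_option autoImplicit false
set_option linter.style.haveILetI false
set_option linter.unusedVariables false
set_option linter.unusedSectionVars false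

universe u
open CategoryTheory CategoryTheory.Limits
attribute [local instance] HasDerivedCategory.standard

namespace Groth.Agent.Lib.R2H3.PCFlat

open DerivedCategory Groth.Agent.Lib.Helper1.PC Groth.Agent.Lib.R2H3.FlatSyz Groth.Agent.S7017

variable (A P : Type u) [CommRing A] [CommRing P] [Algebra A P] [Algebra.FinitePresentation A P]
  [Module.Flat A P]

theorem isPC_neg (j : ℕ) :
    ∀ (M : Type u) [AddCommGroup M] [Module P M] [Module A M] [IsScalarTower A P M]
      [Module.FinitePresentation P M] [Module.Flat A M],
      DRing.IsPseudoCoherent P (-1 - (j : ℤ))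
        ((singleFunctor (ModuleCat.{u} P) 0).obj (ModuleCat.of P M)) := by
  induction j with
  | zero =>
    intro M _ _ _ _ _ _
    have h := isPC_single_of_fp (ModuleCat.of P M)
    simpa using h
  | succ j ih =>
    intro M _ _ _ _ _ _
    obtain ⟨k, π, hπ, hfp⟩ := exists_surjective_fp_ker A P M
    haveI := hfp
    haveI : Module.Flat A (Fin k → P) := Module.Flat.trans A P _
    haveI : Module.Flat A (LinearMap.ker π) := by
      have := Groth.Agent.Lib.Helper1.Tor.flat_ker (R := A) (M' := LinearMap.ker π)
        (M := Fin k → P) (M'' := M) ((LinearMap.ker π).subtype.restrictScalars A)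
        (π.restrictScalars A) (Submodule.injective_subtype _) hπ
        (LinearMap.exact_subtype_ker_map π)
      exact this
    have hF : FF (ModuleCat.of P (Fin k → P)) :=
      ⟨inferInstanceAs (Module.Finite P (Fin k → P)), inferInstanceAs (Module.Free P (Fin k → P))⟩
    have hS := LinearMap.shortExact_shortComplexKer hπ
    have hT := hS.singleTriangle_distinguished
    have h1 : DRing.IsPseudoCoherent P (-1 - ((j + 1 : ℕ) : ℤ) + 1)
        ((singleFunctor (ModuleCat.{u} P) 0).obj (ModuleCat.of P (LinearMap.ker π))) := by
      have h := ih (LinearMap.ker π)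
      have e : (-1 - ((j + 1 : ℕ) : ℤ) + 1) = -1 - (j : ℤ) := by push_cast; ring
      rw [e]
      exact h
    have h2 : DRing.IsPseudoCoherent P (-1 - ((j + 1 : ℕ) : ℤ))
        ((singleFunctor (ModuleCat.{u} P) 0).obj (ModuleCat.of P (Fin k → P))) :=
      isPC_of_rep _ (rep_single _ hF 0)
    exact isPC_obj₃ _ hT _ h1 h2

/-- **Pseudo-coherence of finitely presented modules flat over the base.** -/
theorem isPseudoCoherentModule' (M : Type u) [AddCommGroup M] [Module P M] [Module A M]
    [IsScalarTower A P M] [Module.FinitePresentation P M] [Module.Flat A M] :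
    DRing.IsPseudoCoherentModule' P M := by
  refine (Groth.Agent.S2066.result (Dual.inD P M)).1.1 ?_
  intro m
  obtain ⟨j, hj⟩ : ∃ j : ℕ, -1 - (j : ℤ) ≤ m := ⟨(-m).toNat, by omega⟩
  exact isPC_mono hj (isPC_neg A P j M)

end Groth.Agent.Lib.R2H3.PCFlat
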