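import Mathlib
import Groth.Agent.S1507
import Groth.Agent.S6985
import Groth.Agent.S6987
import Groth.Agent.S7068
import Groth.Agent.Lib.Helper1Extend

/-!
# Pseudo-coherent ring maps as a local property of ring homomorphisms (helper3)

`PC f` : the ring map `f` is pseudo-coherent (`MoreMor.IsPseudoCoherentHom` for `f.toAlgebra`).
We prove that `PC` is stable under composition, satisfies `of_comp`, holds for flat maps of finite
presentation, and is `RingHom.PropertyIsLocal`.
-/

set_option autoImplicit false
set_option linter.style.haveILetI false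
set_option linter.unusedVariables false
set_option linter.unusedSectionVars false
universe u

open CategoryTheory CategoryTheory.Limits TensorProduct
attribute [local instance] HasDerivedCategory.standard

namespace Groth.Agent.Lib.R2H3.PCHom

open Groth.Agent.Lib.Helper1.PC Groth.Agent.Lib.Helper1.PCTower Groth.Agent.Lib.Helper1.Restrict
  Groth.Agent.Lib.Helper1.RelPC Groth.Agent.S7017 DerivedCategory

section Dict

variable (A B : Type u) [CommRing A] [CommRing B] [Algebra A B]

/-- pseudo-coherent ring map = the algebra is pseudo-coherent relative to the base, as a module over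
itself -/
theorem pcHom_iff_relAll :
    MoreMor.IsPseudoCoherentHom A B ↔ DerCA.IsRelPseudoCoherentModuleAll A B B := by
  constructor
  · rintro ⟨n, φ, hφ, hpc⟩ m
    letI algPB : Algebra (MvPolynomial (Fin n) A) B := φ.toRingHom.toAlgebra
    exact ⟨n, φ, hφ, (Groth.Agent.S1507.pc'_algebra_iff (MvPolynomial (Fin n) A) B B).1 hpc m⟩
  · intro h
    obtain ⟨n, φ, hφ, -⟩ := h 0
    refine ⟨n, φ, hφ, ?_⟩
    letI algPB : Algebra (MvPolynomial (Fin n) A) B := φ.toRingHom.toAlgebra
    exact (Groth.Agent.S1507.pc'_algebra_iff (MvPolynomial (Fin n) A) B B).2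
      (fun m => (rel_iff_via φ hφ _ m).1 (h m))

lemma finiteType_of_pcHom (h : MoreMor.IsPseudoCoherentHom A B) : Algebra.FiniteType A B := by
  obtain ⟨n, φ, hφ, -⟩ := h
  exact Algebra.FiniteType.of_surjective φ hφ

end Dict

/-- the ring map `f` is pseudo-coherent -/
def PC {R S : Type u} [CommRing R] [CommRing S] (f : R →+* S) : Prop :=
  letI := f.toAlgebra
  MoreMor.IsPseudoCoherentHom R S

section Basic

variable {R S T : Type u} [CommRing R] [CommRing S] [CommRing T]

lemma pc_iff_of_algebra [Algebra R S] (f : R →+* S) (hf : algebraMap R S = f) :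
    PC f ↔ MoreMor.IsPseudoCoherentHom R S := by
  subst hf
  have : (algebraMap R S).toAlgebra = ‹Algebra R S› := Algebra.algebra_ext _ _ (fun r => rfl)
  unfold PC
  rw [this]

lemma pc_algebraMap_iff [Algebra R S] : PC (algebraMap R S) ↔ MoreMor.IsPseudoCoherentHom R S :=
  pc_iff_of_algebra _ rfl

lemma PC.finiteType {f : R →+* S} (h : PC f) : f.FiniteType := by
  letI := f.toAlgebra
  exact finiteType_of_pcHom R S h

/-- composition of pseudo-coherent ring maps -/
theorem PC.comp {f : R →+* S} {g : S →+* T} (hf : PC f) (hg : PC g) : PC (g.comp f) := by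
  letI := f.toAlgebra
  letI := g.toAlgebra
  letI := (g.comp f).toAlgebra
  haveI : IsScalarTower R S T := IsScalarTower.of_algebraMap_eq' rfl
  haveI h1 : Algebra.FiniteType R S := hf.finiteType
  haveI h2 : Algebra.FiniteType S T := hg.finiteType
  haveI h3 : Algebra.FiniteType R T := Algebra.FiniteType.trans h1 h2
  have hA : DerCA.IsRelPseudoCoherentModuleAll R S S := (pcHom_iff_relAll R S).1 hf
  have hB : DerCA.IsRelPseudoCoherentModuleAll S T T := (pcHom_iff_relAll S T).1 hg
  exact (pcHom_iff_relAll R T).2
    (fun m => ((Groth.Agent.S6985.result hA (Dual.inD T T) m).1).1 (hB m))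

/-- cancellation: if `f` and `g ∘ f` are pseudo-coherent then so is `g` -/
theorem PC.of_comp {f : R →+* S} {g : S →+* T} (hf : PC f) (hgf : PC (g.comp f)) : PC g := by
  letI := f.toAlgebra
  letI := g.toAlgebra
  letI := (g.comp f).toAlgebra
  haveI : IsScalarTower R S T := IsScalarTower.of_algebraMap_eq' rfl
  haveI h1 : Algebra.FiniteType R S := hf.finiteType
  haveI h3 : Algebra.FiniteType R T := hgf.finiteType
  haveI h2 : Algebra.FiniteType S T := Algebra.FiniteType.of_restrictScalars_finiteType R S T
  have hA : DerCA.IsRelPseudoCoherentModuleAll R S S := (pcHom_iff_relAll R S).1 hf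
  have hB : DerCA.IsRelPseudoCoherentModuleAll R T T := (pcHom_iff_relAll R T).1 hgf
  exact (pcHom_iff_relAll S T).2
    (fun m => ((Groth.Agent.S6985.result hA (Dual.inD T T) m).1).2 (hB m))

/-- flat maps of finite presentation are pseudo-coherent -/
theorem PC.of_flat_of_finitePresentation {f : R →+* S} (h1 : f.Flat) (h2 : f.FinitePresentation) :
    PC f := by
  letI := f.toAlgebra
  haveI : Module.Flat R S := h1
  haveI : Algebra.FinitePresentation R S := h2
  exact (Groth.Agent.S7068.result R S).1

lemma PC.of_bijective {f : R →+* S} (hf : Function.Bijective f) : PC f := by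
  refine PC.of_flat_of_finitePresentation ?_ ?_
  · exact RingHom.Flat.of_bijective hf
  · exact RingHom.FinitePresentation.of_surjective f hf.2 (by
      rw [(RingHom.injective_iff_ker_eq_bot f).1 hf.1]
      exact Submodule.fg_bot)

lemma PC.away [Algebra R S] (r : R) [IsLocalization.Away r S] : PC (algebraMap R S) := by
  refine PC.of_flat_of_finitePresentation ?_ ?_
  · rw [RingHom.flat_algebraMap_iff]
    exact IsLocalization.flat S (Submonoid.powers r)
  · rw [RingHom.finitePresentation_algebraMap]
    exact IsLocalization.Away.finitePresentation r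

end Basic


section Local

open Groth.Agent.Lib.Helper1.Extend

lemma rel_of_iso {R A : Type u} [CommRing R] [CommRing A] [Algebra R A] {K K' : Dual.D A}
    (e : K ≅ K') (m : ℤ) (h : DerCA.IsRelPseudoCoherent R A m K) :
    DerCA.IsRelPseudoCoherent R A m K' := by
  obtain ⟨n, α, hα, h⟩ := h
  exact ⟨n, α, hα, isPC_of_iso ((DRing.restrictD (α : MvPolynomial (Fin n) R →+* A)).mapIso e) h⟩

/-- the complex `A[0]` represents `A[0]` -/
noncomputable def singleIso (A : Type u) [CommRing A] (M : ModuleCat.{u} A) :
    DRing.toD ((HomologicalComplex.single (ModuleCat.{u} A) (ComplexShape.up ℤ) 0).obj M) ≅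
      (DerivedCategory.singleFunctor (ModuleCat.{u} A) 0).obj M :=
  ((DerivedCategory.singleFunctorIsoCompQ (ModuleCat.{u} A) 0).app M).symm

/-- the localization of the complex `A[0]` represents `A_g[0]` -/
noncomputable def singleExtIso {A B : Type u} [CommRing A] [CommRing B] [Algebra A B]
    [Module.Flat A B] :
    DRing.toD ((extCx A B).obj
      ((HomologicalComplex.single (ModuleCat.{u} A) (ComplexShape.up ℤ) 0).obj (ModuleCat.of A A))) ≅
      Dual.inD B B :=
  (mapQIso (ext A B) _).symm ≪≫ (extD A B).mapIso (singleIso A (ModuleCat.of A A)) ≪≫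
    extDInDIso (A := A) (B := B) A ≪≫
    (DerivedCategory.singleFunctor (ModuleCat.{u} B) 0).mapIso
      (TensorProduct.AlgebraTensorModule.rid A B B).toModuleIso

variable {R S : Type u} [CommRing R] [CommRing S]

/-- pseudo-coherence of a ring map is local on the target -/
theorem pc_ofLocalizationFiniteSpanTarget : RingHom.OfLocalizationFiniteSpanTarget @PC := by
  intro R S _ _ f s hs H
  letI := f.toAlgebra
  -- finite type
  haveI hft : Algebra.FiniteType R S := by
    have := RingHom.finiteType_ofLocalizationSpanTarget f (s : Set S) hs (fun r => (H r).finiteType)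
    exact this
  let fam : Fin s.card → S := fun j => (s.equivFin.symm j).1
  have hrange : Set.range fam = ↑s := by
    ext x
    constructor
    · rintro ⟨j, rfl⟩
      exact (s.equivFin.symm j).2
    · intro hx
      exact ⟨s.equivFin ⟨x, hx⟩, by simp [fam]⟩
  have hfam : Ideal.span (Set.range fam) = ⊤ := by rw [hrange]; exact hs
  refine (pcHom_iff_relAll R S).2 (fun m => ?_)
  refine rel_of_iso (singleIso S (ModuleCat.of S S)) m ?_
  rw [Groth.Agent.S6987.result _ m fam hfam]
  intro j
  have hj := H ⟨fam j, (s.equivFin.symm j).2⟩
  have hj' : MoreMor.IsPseudoCoherentHom R (Localization.Away (fam j)) :=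
    (pc_iff_of_algebra _ (by
      ext r
      exact IsScalarTower.algebraMap_apply R S (Localization.Away (fam j)) r)).1 hj
  haveI : Module.Flat S (Localization.Away (fam j)) :=
    IsLocalization.flat _ (Submonoid.powers (fam j))
  exact rel_of_iso (singleExtIso (A := S) (B := Localization.Away (fam j))).symm m
    ((pcHom_iff_relAll R (Localization.Away (fam j))).1 hj' m)

theorem pc_ofLocalizationSpanTarget : RingHom.OfLocalizationSpanTarget @PC :=
  (RingHom.ofLocalizationSpanTarget_iff_finite @PC).2 pc_ofLocalizationFiniteSpanTarget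

theorem pc_stableUnderComposition : RingHom.StableUnderComposition @PC :=
  fun _ _ _ _ _ _ _ _ hf hg => hf.comp hg

theorem pc_respectsIso : RingHom.RespectsIso @PC :=
  pc_stableUnderComposition.respectsIso (fun e => PC.of_bijective e.bijective)

theorem pc_holdsForLocalizationAway : RingHom.HoldsForLocalizationAway @PC :=
  fun _ S _ _ _ r _ => PC.away r

theorem pc_stableUnderCompositionWithLocalizationAway :
    RingHom.StableUnderCompositionWithLocalizationAway @PC :=
  pc_stableUnderComposition.stableUnderCompositionWithLocalizationAway pc_holdsForLocalizationAway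

theorem pc_localizationAwayPreserves : RingHom.LocalizationAwayPreserves @PC := by
  intro R S _ _ f r R' S' _ _ _ _ _ _ hf
  have h1 : PC ((algebraMap S S').comp f) := hf.comp (PC.away (f r))
  have h2 : (IsLocalization.Away.map R' S' f r).comp (algebraMap R R') =
      (algebraMap S S').comp f := IsLocalization.map_comp _
  rw [← h2] at h1
  exact PC.of_comp (PC.away r) h1

theorem pc_propertyIsLocal : RingHom.PropertyIsLocal @PC where
  localizationAwayPreserves := pc_localizationAwayPreserves
  ofLocalizationSpanTarget := pc_ofLocalizationSpanTarget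
  ofLocalizationSpan := pc_ofLocalizationSpanTarget.ofLocalizationSpan
    pc_stableUnderCompositionWithLocalizationAway.1
  StableUnderCompositionWithLocalizationAwayTarget :=
    pc_stableUnderCompositionWithLocalizationAway.2

end Local

end Groth.Agent.Lib.R2H3.PCHom
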