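import Mathlib
import Groth.Agent.Lib.R2H3PCHom

/-!
# Pseudo-coherent morphisms of schemes through `HasRingHomProperty` (helper3)
-/

set_option autoImplicit false
set_option linter.style.haveILetI false
set_option linter.unusedVariables false
set_option linter.unusedSectionVars false
universe u

open CategoryTheory CategoryTheory.Limits AlgebraicGeometry
attribute [local instance] HasDerivedCategory.standard

namespace Groth.Agent.Lib.R2H3.PCMor

open Groth.Agent.Lib.R2H3.PCHom

/-- pseudo-coherent morphisms, as the morphism property affine-locally induced by `PC` -/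
def pcMor : MorphismProperty Scheme.{u} := affineLocally @PC

instance : HasRingHomProperty pcMor.{u} @PC where
  isLocal_ringHomProperty := pc_propertyIsLocal
  eq_affineLocally' := rfl

theorem isPseudoCoherentMor_iff {X Y : Scheme.{u}} (f : X ⟶ Y) :
    MoreMor.IsPseudoCoherentMor f ↔ pcMor f := by
  rw [HasRingHomProperty.iff_appLE (P := pcMor)]
  constructor
  · intro h U V e
    exact h V.1 U.1 V.2 U.2 e
  · intro h U V hU hV e
    exact h ⟨V, hV⟩ ⟨U, hU⟩ e

/-- pseudo-coherence of a morphism can be checked on one affine pair around each point -/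
theorem isPseudoCoherentMor_iff_exists {X S : Scheme.{u}} (f : X ⟶ S) :
    MoreMor.IsPseudoCoherentMor f ↔ ∀ x : X, ∃ (U : X.Opens) (V : S.Opens) (hUV : U ≤ f ⁻¹ᵁ V),
      IsAffineOpen U ∧ IsAffineOpen V ∧ x ∈ U ∧
      (letI := (f.appLE V U hUV).hom.toAlgebra
       MoreMor.IsPseudoCoherentHom Γ(S, V) Γ(X, U)) := by
  rw [isPseudoCoherentMor_iff,
    HasRingHomProperty.iff_exists_appLE (P := pcMor) pc_stableUnderCompositionWithLocalizationAway.1]
  constructor
  · intro h x
    obtain ⟨V, U, hx, e, hQ⟩ := h x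
    exact ⟨U.1, V.1, e, U.2, V.2, hx, hQ⟩
  · intro h x
    obtain ⟨U, V, e, hU, hV, hx, hQ⟩ := h x
    exact ⟨⟨V, hV⟩, ⟨U, hU⟩, hx, e, hQ⟩

theorem isPseudoCoherentMor_comp {X Y Z : Scheme.{u}} (f : X ⟶ Y) (g : Y ⟶ Z)
    (hf : MoreMor.IsPseudoCoherentMor f) (hg : MoreMor.IsPseudoCoherentMor g) :
    MoreMor.IsPseudoCoherentMor (f ≫ g) := by
  rw [isPseudoCoherentMor_iff] at hf hg ⊢
  haveI := HasRingHomProperty.stableUnderComposition (P := pcMor) pc_stableUnderComposition
  exact pcMor.comp_mem f g hf hg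

theorem isPseudoCoherentMor_of_comp {X Y S : Scheme.{u}} (f : X ⟶ Y) (g : Y ⟶ S)
    (hX : MoreMor.IsPseudoCoherentMor (f ≫ g)) (hY : MoreMor.IsPseudoCoherentMor g) :
    MoreMor.IsPseudoCoherentMor f := by
  rw [isPseudoCoherentMor_iff_exists]
  intro x
  obtain ⟨W, hW, hxW, -⟩ := TopologicalSpace.Opens.isBasis_iff_nbhd.mp S.isBasis_affineOpens
    (TopologicalSpace.Opens.mem_top (g (f x)))
  obtain ⟨V, hV, hxV, eV⟩ := TopologicalSpace.Opens.isBasis_iff_nbhd.mp Y.isBasis_affineOpens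
    (show f x ∈ g ⁻¹ᵁ W from hxW)
  obtain ⟨U, hU, hxU, eU⟩ := TopologicalSpace.Opens.isBasis_iff_nbhd.mp X.isBasis_affineOpens
    (show x ∈ f ⁻¹ᵁ V from hxV)
  refine ⟨U, V, eU, hU, hV, hxU, ?_⟩
  have eUW : U ≤ (f ≫ g) ⁻¹ᵁ W := fun y hy => eV (eU hy)
  have h1 := hX U W hU hW eUW
  have h2 := hY V W hV hW eV
  have hcomp : (f ≫ g).appLE W U eUW = g.appLE W V eV ≫ f.appLE V U eU :=
    (Scheme.Hom.appLE_comp_appLE f g W V U eV eU).symm
  have h1' : PC ((f.appLE V U eU).hom.comp (g.appLE W V eV).hom) := by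
    have : PC ((f ≫ g).appLE W U eUW).hom := h1
    rw [hcomp] at this
    exact this
  exact PC.of_comp (f := (g.appLE W V eV).hom) h2 h1'

end Groth.Agent.Lib.R2H3.PCMor
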