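import Mathlib
import Groth.Agent.Lib.R2H3PCHom
import Groth.Agent.Lib.R2H3TorLoc

/-!
# Perfect ring maps as a local property of ring homomorphisms (helper3)

`Perf f` : the ring map `f` is perfect (`MoreMor.IsPerfectHom` for `f.toAlgebra`): pseudo-coherent
and of finite tor dimension.  `Perf` is stable under composition and `RingHom.PropertyIsLocal`.
-/

set_option autoImplicit false
set_option linter.style.haveILetI false
set_option linter.unusedVariables false
set_option linter.unusedSectionVars false
universe u

open CategoryTheory CategoryTheory.Limits TensorProduct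
attribute [local instance] HasDerivedCategory.standard

namespace Groth.Agent.Lib.R2H3.PerfHom

open Groth.Agent.Lib.R2H3.PCHom Groth.Agent.Lib.R2H3.TorLoc Groth.Agent.Lib.Helper14.TorSyz
  Groth.Agent.Lib.Helper1.TorDim Groth.Agent.Lib.Helper1.Tor

section Trans

/-- transitivity of finite tor dimension -/
theorem hasTorDimLE_trans (A B : Type u) [CommRing A] [CommRing B] [Algebra A B] (d : ℕ)
    (hB : DRing.HasTorDimLE A d B) (k : ℕ) (N : Type u) [AddCommGroup N] [Module A N]
    [Module B N] [IsScalarTower A B N] (h : DRing.HasTorDimLE B k N) :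
    DRing.HasTorDimLE A (k + d) N := by
  have hP : DRing.HasTorAmplitudeIn A (-(d : ℤ)) 0 (Dual.inD A B) :=
    (hasTorDimLE_iff_hasTorAmp B d).1 hB
  have h1 := hasTorAmp_restrictD d hP _ _ _ ((hasTorDimLE_iff_hasTorAmp N k).1 h)
  let eL : ((ModuleCat.restrictScalars.{u} (algebraMap A B)).obj (ModuleCat.of B N)) ≃ₗ[A] N :=
    { toFun := fun x => x
      invFun := fun x => x
      left_inv := fun _ => rfl
      right_inv := fun _ => rfl
      map_add' := fun _ _ => rfl
      map_smul' := fun r x => by
        exact algebraMap_smul B r (show N from x) }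
  have h2 : DRing.HasTorAmplitudeIn A (-(k : ℤ) - (d : ℤ)) 0 (Dual.inD A N) :=
    hasTorAmp_of_iso
      (Groth.Agent.Lib.Helper1.Restrict.restrictDSingleIso (algebraMap A B) (ModuleCat.of B N) 0 ≪≫
        (DerivedCategory.singleFunctor (ModuleCat.{u} A) 0).mapIso eL.toModuleIso) h1
  exact hasTorDimLE_of_hasTorAmp N (k + d) 0 (hasTorAmp_mono (by push_cast; omega) le_rfl h2)

/-- finite tor dimension of `B_r` over `A` gives finite tor dimension of `B_q` over `A_p` for
every prime `q` of `B` not containing `r` -/
theorem hasTorDimLE_atPrime_of_away {A B : Type u} [CommRing A] [CommRing B] [Algebra A B]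
    (r : B) (q : Ideal B) [q.IsPrime] (hr : r ∉ q) (d : ℕ)
    (h : DRing.HasTorDimLE A d (Localization.Away r)) :
    letI := (Localization.localRingHom (q.comap (algebraMap A B)) q (algebraMap A B) rfl).toAlgebra
    DRing.HasTorDimLE (Localization.AtPrime (q.comap (algebraMap A B))) d
      (Localization.AtPrime q) := by
  have hu : IsUnit (algebraMap B (Localization.AtPrime q) r) :=
    IsLocalization.map_units (Localization.AtPrime q) (⟨r, hr⟩ : q.primeCompl)
  let g : Localization.Away r →+* Localization.AtPrime q := IsLocalization.Away.lift r hu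
  letI algrq : Algebra (Localization.Away r) (Localization.AtPrime q) := g.toAlgebra
  haveI t1 : IsScalarTower B (Localization.Away r) (Localization.AtPrime q) :=
    IsScalarTower.of_algebraMap_eq (fun x => (IsLocalization.Away.lift_eq r hu x).symm)
  haveI t2 : IsScalarTower A (Localization.Away r) (Localization.AtPrime q) :=
    IsScalarTower.of_algebraMap_eq (fun a => by
      rw [IsScalarTower.algebraMap_apply A B (Localization.AtPrime q),
        IsScalarTower.algebraMap_apply A B (Localization.Away r),
        ← IsScalarTower.algebraMap_apply B (Localization.Away r) (Localization.AtPrime q)])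
  have hle : Submonoid.powers r ≤ q.primeCompl := by
    rintro _ ⟨n, rfl⟩
    exact fun hn => hr (Ideal.IsPrime.mem_of_pow_mem inferInstance n hn)
  haveI : IsLocalization (q.primeCompl.map (algebraMap B (Localization.Away r)))
      (Localization.AtPrime q) :=
    IsLocalization.isLocalization_of_submonoid_le (Localization.Away r) (Localization.AtPrime q)
      (Submonoid.powers r) q.primeCompl hle
  haveI : Module.Flat (Localization.Away r) (Localization.AtPrime q) :=
    IsLocalization.flat _ (q.primeCompl.map (algebraMap B (Localization.Away r)))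
  have h1 : DRing.HasTorDimLE A d (Localization.AtPrime q) :=
    hasTorDimLE_of_flat_algebra d h (Localization.AtPrime q)
  letI := (Localization.localRingHom (q.comap (algebraMap A B)) q (algebraMap A B) rfl).toAlgebra
  haveI : IsScalarTower A (Localization.AtPrime (q.comap (algebraMap A B)))
      (Localization.AtPrime q) :=
    IsScalarTower.of_algebraMap_eq (fun x => by
      rw [RingHom.algebraMap_toAlgebra, Localization.localRingHom_to_map,
        ← IsScalarTower.algebraMap_apply])
  exact hasTorDimLE_of_isLocalization A (Localization.AtPrime (q.comap (algebraMap A B)))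
    (q.comap (algebraMap A B)).primeCompl d _ h1

end Trans

variable {R S T : Type u} [CommRing R] [CommRing S] [CommRing T]

/-- the ring map `f` has finite tor dimension -/
def TD (f : R →+* S) : Prop :=
  letI := f.toAlgebra
  DRing.HasFiniteTorDim R S

/-- the ring map `f` is perfect -/
def Perf (f : R →+* S) : Prop :=
  letI := f.toAlgebra
  MoreMor.IsPerfectHom R S

lemma perf_iff (f : R →+* S) : Perf f ↔ PC f ∧ TD f := Iff.rfl

lemma td_iff_of_algebra [Algebra R S] (f : R →+* S) (hf : algebraMap R S = f) :
    TD f ↔ DRing.HasFiniteTorDim R S := by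
  subst hf
  have : (algebraMap R S).toAlgebra = ‹Algebra R S› := Algebra.algebra_ext _ _ (fun r => rfl)
  unfold TD
  rw [this]

lemma perf_iff_of_algebra [Algebra R S] (f : R →+* S) (hf : algebraMap R S = f) :
    Perf f ↔ MoreMor.IsPerfectHom R S := by
  subst hf
  have : (algebraMap R S).toAlgebra = ‹Algebra R S› := Algebra.algebra_ext _ _ (fun r => rfl)
  unfold Perf
  rw [this]

theorem TD.comp {f : R →+* S} {g : S →+* T} (hf : TD f) (hg : TD g) : TD (g.comp f) := by
  letI := f.toAlgebra
  letI := g.toAlgebra
  letI := (g.comp f).toAlgebra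
  haveI : IsScalarTower R S T := IsScalarTower.of_algebraMap_eq' rfl
  obtain ⟨d, hd⟩ := hf
  obtain ⟨k, hk⟩ := hg
  exact ⟨k + d, hasTorDimLE_trans R S d hd k T hk⟩

theorem TD.of_flat {f : R →+* S} (h : f.Flat) : TD f := by
  letI := f.toAlgebra
  haveI : Module.Flat R S := h
  exact ⟨0, (hasTorDimLE_zero_iff_flat S).2 inferInstance⟩

theorem Perf.comp {f : R →+* S} {g : S →+* T} (hf : Perf f) (hg : Perf g) : Perf (g.comp f) :=
  ⟨PC.comp hf.1 hg.1, TD.comp hf.2 hg.2⟩

theorem Perf.of_flat_of_finitePresentation {f : R →+* S} (h1 : f.Flat)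
    (h2 : f.FinitePresentation) : Perf f :=
  ⟨PC.of_flat_of_finitePresentation h1 h2, TD.of_flat h1⟩

lemma Perf.of_bijective {f : R →+* S} (hf : Function.Bijective f) : Perf f :=
  ⟨PC.of_bijective hf, TD.of_flat (RingHom.Flat.of_bijective hf)⟩

lemma Perf.away [Algebra R S] (r : R) [IsLocalization.Away r S] : Perf (algebraMap R S) := by
  refine ⟨PC.away r, TD.of_flat ?_⟩
  rw [RingHom.flat_algebraMap_iff]
  exact IsLocalization.flat S (Submonoid.powers r)

theorem td_localizationAwayPreserves : RingHom.LocalizationAwayPreserves @TD := by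
  intro R S _ _ f r R' S' _ _ _ _ _ _ hf
  letI := f.toAlgebra
  letI algRS' : Algebra R S' := ((algebraMap S S').comp f).toAlgebra
  haveI : IsScalarTower R S S' := IsScalarTower.of_algebraMap_eq' rfl
  haveI : Module.Flat S S' := IsLocalization.flat S' (Submonoid.powers (f r))
  obtain ⟨d, hd⟩ := hf
  have h1 : DRing.HasTorDimLE R d S' := hasTorDimLE_of_flat_algebra d hd S'
  letI := (IsLocalization.Away.map R' S' f r).toAlgebra
  haveI : IsScalarTower R R' S' := IsScalarTower.of_algebraMap_eq' (by
    have h2 : (IsLocalization.Away.map R' S' f r).comp (algebraMap R R') =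
      (algebraMap S S').comp f := IsLocalization.map_comp _
    exact h2.symm)
  exact ⟨d, hasTorDimLE_of_isLocalization R R' (Submonoid.powers r) d S' h1⟩

theorem perf_localizationAwayPreserves : RingHom.LocalizationAwayPreserves @Perf := by
  intro R S _ _ f r R' S' _ _ _ _ _ _ hf
  exact ⟨pc_localizationAwayPreserves f r R' S' hf.1, td_localizationAwayPreserves f r R' S' hf.2⟩

theorem perf_ofLocalizationFiniteSpanTarget : RingHom.OfLocalizationFiniteSpanTarget @Perf := by
  intro R S _ _ f s hs H
  have hpc : PC f := pc_ofLocalizationFiniteSpanTarget f s hs (fun r => (H r).1)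
  refine ⟨hpc, ?_⟩
  letI := f.toAlgebra
  obtain ⟨n, φ, hφ, hpcφ⟩ := hpc
  refine hasFiniteTorDim_of_forall_localization φ hφ hpcφ (fun q _ => ?_)
  -- pick `r ∈ s` outside `q`
  have hex : ∃ r ∈ s, r ∉ q := by
    by_contra hcon
    push_neg at hcon
    have hle : Ideal.span (s : Set S) ≤ q := Ideal.span_le.2 (fun r hr => hcon r hr)
    rw [hs] at hle
    exact (Ideal.IsPrime.ne_top inferInstance) (top_le_iff.1 hle)
  obtain ⟨r, hrs, hrq⟩ := hex
  have hr := (H ⟨r, hrs⟩).2
  obtain ⟨d, hd⟩ := (td_iff_of_algebra _ (by
    ext x
    exact IsScalarTower.algebraMap_apply R S (Localization.Away r) x)).1 hr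
  exact ⟨d, hasTorDimLE_atPrime_of_away r q hrq d hd⟩

theorem perf_ofLocalizationSpanTarget : RingHom.OfLocalizationSpanTarget @Perf :=
  (RingHom.ofLocalizationSpanTarget_iff_finite @Perf).2 perf_ofLocalizationFiniteSpanTarget

theorem perf_stableUnderComposition : RingHom.StableUnderComposition @Perf :=
  fun _ _ _ _ _ _ _ _ hf hg => hf.comp hg

theorem perf_respectsIso : RingHom.RespectsIso @Perf :=
  perf_stableUnderComposition.respectsIso (fun e => Perf.of_bijective e.bijective)

theorem perf_holdsForLocalizationAway : RingHom.HoldsForLocalizationAway @Perf :=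
  fun _ S _ _ _ r _ => Perf.away r

theorem perf_stableUnderCompositionWithLocalizationAway :
    RingHom.StableUnderCompositionWithLocalizationAway @Perf :=
  perf_stableUnderComposition.stableUnderCompositionWithLocalizationAway
    perf_holdsForLocalizationAway

theorem perf_propertyIsLocal : RingHom.PropertyIsLocal @Perf where
  localizationAwayPreserves := perf_localizationAwayPreserves
  ofLocalizationSpanTarget := perf_ofLocalizationSpanTarget
  ofLocalizationSpan := perf_ofLocalizationSpanTarget.ofLocalizationSpan
    perf_stableUnderCompositionWithLocalizationAway.1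
  StableUnderCompositionWithLocalizationAwayTarget :=
    perf_stableUnderCompositionWithLocalizationAway.2

end Groth.Agent.Lib.R2H3.PerfHom
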