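import Mathlib
import Groth.Agent.Lib.R2H3PerfHom
import Groth.Agent.Lib.R2H3PCMor

/-!
# Perfect morphisms of schemes through `HasRingHomProperty` (helper3)
-/

set_option autoImplicit false
set_option linter.style.haveILetI false
set_option linter.unusedVariables false
set_option linter.unusedSectionVars false
universe u

open CategoryTheory CategoryTheory.Limits AlgebraicGeometry
attribute [local instance] HasDerivedCategory.standard

namespace Groth.Agent.Lib.R2H3.PerfMor

open Groth.Agent.Lib.R2H3.PCHom Groth.Agent.Lib.R2H3.PerfHom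

/-- perfect morphisms, as the morphism property affine-locally induced by `Perf` -/
def perfMor : MorphismProperty Scheme.{u} := affineLocally @Perf

instance : HasRingHomProperty perfMor.{u} @Perf where
  isLocal_ringHomProperty := perf_propertyIsLocal
  eq_affineLocally' := rfl

theorem isPerfectMor_iff {X Y : Scheme.{u}} (f : X ⟶ Y) :
    MoreMor.IsPerfectMor f ↔ perfMor f := by
  rw [HasRingHomProperty.iff_appLE (P := perfMor)]
  constructor
  · intro h U V e
    exact h V.1 U.1 V.2 U.2 e
  · intro h U V hU hV e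
    exact h ⟨V, hV⟩ ⟨U, hU⟩ e

/-- perfectness of a morphism can be checked on one affine pair around each point -/
theorem isPerfectMor_iff_exists {X S : Scheme.{u}} (f : X ⟶ S) :
    MoreMor.IsPerfectMor f ↔ ∀ x : X, ∃ (U : X.Opens) (V : S.Opens) (hUV : U ≤ f ⁻¹ᵁ V),
      IsAffineOpen U ∧ IsAffineOpen V ∧ x ∈ U ∧
      (letI := (f.appLE V U hUV).hom.toAlgebra
       MoreMor.IsPerfectHom Γ(S, V) Γ(X, U)) := by
  rw [isPerfectMor_iff,
    HasRingHomProperty.iff_exists_appLE (P := perfMor)
      perf_stableUnderCompositionWithLocalizationAway.1]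
  constructor
  · intro h x
    obtain ⟨V, U, hx, e, hQ⟩ := h x
    exact ⟨U.1, V.1, e, U.2, V.2, hx, hQ⟩
  · intro h x
    obtain ⟨U, V, e, hU, hV, hx, hQ⟩ := h x
    exact ⟨⟨V, hV⟩, ⟨U, hU⟩, hx, e, hQ⟩

theorem isPerfectMor_comp {X Y Z : Scheme.{u}} (f : X ⟶ Y) (g : Y ⟶ Z)
    (hf : MoreMor.IsPerfectMor f) (hg : MoreMor.IsPerfectMor g) :
    MoreMor.IsPerfectMor (f ≫ g) := by
  rw [isPerfectMor_iff] at hf hg ⊢
  haveI := HasRingHomProperty.stableUnderComposition (P := perfMor) perf_stableUnderComposition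
  exact perfMor.comp_mem f g hf hg

end Groth.Agent.Lib.R2H3.PerfMor
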