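import Mathlib
import Groth.Agent.Lib.R2H3PerfMor
import Groth.Agent.Lib.Helper8KoszulScale2
import Groth.Agent.S6984
import Groth.Agent.S7071
import Groth.Agent.S7019
import Groth.Agent.S6954
import Groth.Agent.S7172

/-!
# Finite pseudo-coherent ring maps; Koszul-regular immersions are perfect (helper3)
-/

set_option autoImplicit false
set_option linter.style.haveILetI false
set_option linter.unusedVariables false
set_option linter.unusedSectionVars false
universe u

open CategoryTheory CategoryTheory.Limits AlgebraicGeometry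
attribute [local instance] HasDerivedCategory.standard

namespace Groth.Agent.Lib.R2H3.PerfImm

open Groth.Agent.Lib.R2H3.PCHom Groth.Agent.Lib.R2H3.PerfHom Groth.Agent.Lib.R2H3.PerfMor
  Groth.Agent.Lib.R2H3.PCMor
open Groth.Agent.Lib.Helper1.PC Groth.Agent.Lib.Helper1.PCTower Groth.Agent.Lib.Helper1.Restrict
  Groth.Agent.Lib.Helper1.RelPC Groth.Agent.S7017 DerivedCategory
open Groth.Agent.Lib.R2H3.PerfLocal Groth.Agent.Lib.R2H3.TorLoc Groth.Agent.Lib.Helper14.TorSyz
  Groth.Agent.Lib.Helper1.Tor

section Ring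

variable (A B : Type u) [CommRing A] [CommRing B] [Algebra A B]

/-- a finite ring map is pseudo-coherent iff the target is a pseudo-coherent module -/
theorem pcHom_iff_of_finite [Module.Finite A B] :
    MoreMor.IsPseudoCoherentHom A B ↔ DRing.IsPseudoCoherentModule' A B := by
  have hAA : MoreMor.IsPseudoCoherentHom A A :=
    pc_algebraMap_iff.1 (PC.of_bijective (f := algebraMap A A) Function.bijective_id)
  haveI : Algebra.FiniteType A B := inferInstance
  rw [pcHom_iff_relAll]
  have e : (DRing.restrictD (algebraMap A B)).obj (Dual.inD B B) ≅ Dual.inD A B :=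
    restrictDSingleIso (algebraMap A B) (ModuleCat.of B B) 0 ≪≫
      (DerivedCategory.singleFunctor (ModuleCat.{u} A) 0).mapIso
        (restrictScalarsAlgebraIso (A := A) (B := B) B)
  constructor
  · intro h
    refine isPseudoCoherent'_of_forall _ (fun m => isPC_of_iso e ?_)
    exact (Groth.Agent.S7071.result A A hAA m _).1
      (((Groth.Agent.S6984.result (R := A) (A := A) (B := B) (Dual.inD B B) m).1).1 (h m))
  · intro h m
    exact ((Groth.Agent.S6984.result (R := A) (A := A) (B := B) (Dual.inD B B) m).1).2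
      ((Groth.Agent.S7071.result A A hAA m _).2
        (isPC_of_iso e.symm (Groth.Agent.S6938.isPC_of_pc' _ h m)))

/-- a finite ring map with perfect target module is a perfect ring map -/
theorem isPerfectHom_of_finite_of_isPerfectModule [Module.Finite A B]
    (h : DRing.IsPerfectModule A B) : MoreMor.IsPerfectHom A B := by
  obtain ⟨hpc, a, b, hab⟩ := (Groth.Agent.S6954.result A _).1 h
  refine ⟨(pcHom_iff_of_finite A B).2 hpc, ?_⟩
  have h1 : DRing.HasTorAmplitudeIn A (-(((-a).toNat : ℕ) : ℤ)) b (Dual.inD A B) :=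
    hasTorAmp_mono (by omega) le_rfl hab
  exact ⟨(-a).toNat, hasTorDimLE_of_hasTorAmp B _ b h1⟩

end Ring

section Ring2

variable {A B : Type u} [CommRing A] [CommRing B]

/-- a surjective ring map whose kernel is generated by a Koszul-regular sequence is perfect -/
theorem perf_of_ker_koszul (f : A →+* B) (hf : Function.Surjective f) (rs : List A)
    (hrs : LCI.IsKoszulRegularSeq A rs) (hker : RingHom.ker f = Ideal.ofList rs) : Perf f := by
  letI := f.toAlgebra
  have hsurj : Function.Surjective (Algebra.linearMap A B) := hf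
  haveI : Module.Finite A B := Module.Finite.of_surjective (Algebra.linearMap A B) hsurj
  have hperf : DRing.IsPerfectModule A (A ⧸ Ideal.span {y | y ∈ rs}) :=
    isPerfectModule_quotient_of_koszulRegular rs hrs
  have hk : LinearMap.ker (Algebra.linearMap A B) = Ideal.span {y | y ∈ rs} := by
    rw [← show Ideal.ofList rs = Ideal.span {y | y ∈ rs} from rfl, ← hker]
    ext x
    simp only [LinearMap.mem_ker, Algebra.linearMap_apply, RingHom.mem_ker]
    rfl
  let e : (A ⧸ Ideal.span {y | y ∈ rs}) ≃ₗ[A] B :=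
    (Submodule.quotEquivOfEq _ _ hk.symm).trans
      (LinearMap.quotKerEquivOfSurjective (Algebra.linearMap A B) hsurj)
  exact isPerfectHom_of_finite_of_isPerfectModule A B (isPerfectModule_of_linearEquiv e hperf)

end Ring2

section Sch

/-- surjectivity of sections for a morphism restricting to a closed immersion over an affine -/
theorem app_surjective_of_isClosedImmersion_restrict {Z X : Scheme.{u}} (i : Z ⟶ X)
    (U : X.Opens) (hU : IsAffineOpen U) [IsClosedImmersion (i ∣_ U)] :
    Function.Surjective (i.app U).hom := by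
  haveI : IsAffine U.toScheme := hU
  have h := (i ∣_ U).app_surjective ⊤ (isAffineOpen_top _)
  have h' : Function.Surjective ((i ∣_ U).appTop).hom := h
  rw [morphismRestrict_appTop] at h'
  have key : ∀ (V : X.Opens) (e : V = U) (W : Z.Opens) (φ : Γ(Z, i ⁻¹ᵁ V) ⟶ Γ(Z, W)),
      Function.Surjective (i.app V ≫ φ).hom → IsIso φ → Function.Surjective (i.app U).hom := by
    rintro V rfl W φ h hφ
    intro y
    obtain ⟨x, hx⟩ := h (φ.hom y)
    refine ⟨x, ?_⟩
    have hinj : Function.Injective φ.hom :=
      ((ConcreteCategory.isIso_iff_bijective φ).1 hφ).1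
    apply hinj
    simpa using hx
  exact key _ (Scheme.Opens.ι_image_top U) _ _ h' inferInstance

theorem isAffineOpen_preimage_of_isClosedImmersion_restrict {Z X : Scheme.{u}} (i : Z ⟶ X)
    (U : X.Opens) (hU : IsAffineOpen U) [IsClosedImmersion (i ∣_ U)] :
    IsAffineOpen (i ⁻¹ᵁ U) := by
  haveI : IsAffine U.toScheme := hU
  exact isAffine_of_isAffineHom (i ∣_ U)

/-- a Koszul-regular immersion is a perfect morphism -/
theorem isPerfectMor_of_isRegularImmersion_koszul {Z X : Scheme.{u}} (i : Z ⟶ X)
    (h : RegImm.IsRegularImmersion .koszul i) : MoreMor.IsPerfectMor i := by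
  rw [isPerfectMor_iff_exists]
  intro z
  obtain ⟨U, hzU, hcl, rs, hrs, hker⟩ := h.2 z
  haveI := hcl
  refine ⟨i ⁻¹ᵁ U.1, U.1, le_rfl, isAffineOpen_preimage_of_isClosedImmersion_restrict i U.1 U.2,
    U.2, hzU, ?_⟩
  have hsurj := app_surjective_of_isClosedImmersion_restrict i U.1 U.2
  have hP : Perf (i.app U.1).hom := perf_of_ker_koszul _ hsurj rs hrs hker
  have happ : i.appLE U.1 (i ⁻¹ᵁ U.1) le_rfl = i.app U.1 := (Scheme.Hom.app_eq_appLE i).symm
  have hP' : Perf (i.appLE U.1 (i ⁻¹ᵁ U.1) le_rfl).hom := by rw [happ]; exact hP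
  exact hP'

/-- a regular closed immersion is a perfect morphism -/
theorem isPerfectMor_of_isRegularClosedImmersion {Z X : Scheme.{u}} (i : Z ⟶ X)
    (hi : Mor2.IsRegularClosedImmersion i) : MoreMor.IsPerfectMor i := by
  obtain ⟨hcl, h⟩ := hi
  haveI := hcl
  refine isPerfectMor_of_isRegularImmersion_koszul i ⟨inferInstance, fun z => ?_⟩
  obtain ⟨U, hU, hzU, rs, hrs, hker⟩ := h z
  refine ⟨⟨U, hU⟩, hzU, inferInstance, rs, ?_, ?_⟩
  · intro q hq
    exact Groth.Agent.Lib.Helper8KoszulScale.isZero_homology_koszul_of_weaklyRegular rs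
      hrs.toIsWeaklyRegular q hq
  · rw [← hker, Scheme.Hom.ker_apply]

/-- a morphism that is Koszul at every point is perfect -/
theorem isPerfectMor_of_forall_isKoszulAt {X Y : Scheme.{u}} (f : X ⟶ Y)
    (hf : ∀ x : X, Synt.IsKoszulAt f x) : MoreMor.IsPerfectMor f := by
  rw [isPerfectMor_iff]
  choose U P i π hxU hlft hi hπ hfac using hf
  have hU : iSup U = ⊤ := by
    rw [eq_top_iff]
    intro x _
    exact TopologicalSpace.Opens.mem_iSup.2 ⟨x, hxU x⟩
  rw [IsZariskiLocalAtSource.iff_of_iSup_eq_top (P := perfMor) U hU]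
  intro x
  rw [← hfac x, ← isPerfectMor_iff]
  haveI := hπ x
  refine isPerfectMor_comp (i x) (π x) (isPerfectMor_of_isRegularImmersion_koszul (i x) (hi x)) ?_
  exact Groth.Agent.S7172.result (π x)

end Sch

end Groth.Agent.Lib.R2H3.PerfImm
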