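import Mathlib
import Groth.Agent.Lib.H6xAffSmPerfA
import Groth.Agent.Lib.R2H3PerfImm
import Groth.Agent.Lib.H6xPerfAffE
import Groth.Agent.S6954
set_option backward.isDefEq.respectTransparency.types false

/-!
# Push-forward of the structure sheaf along a perfect closed immersion is perfect (helper6, S7175)
-/

set_option autoImplicit false
set_option linter.style.haveILetI false

universe u

open CategoryTheory CategoryTheory.Limits AlgebraicGeometry HomologicalComplex TopologicalSpace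
  Opposite MonoidalCategory

attribute [local instance] HasDerivedCategory.standard

namespace Groth.Agent.Lib.H6xAffSmPerf

open Groth.Agent.Lib.H6xRelTorAmp Groth.Agent.Lib.Helper1.TorDim Groth.Agent.Lib.H6xPerfFlatPC
  Groth.Agent.Lib.H6xPerfSumm Groth.Agent.Lib.H6xPerfAff

variable {X Y : Scheme.{u}}

theorem claimB' (f : X ⟶ Y) (V : Y.Opens) (hV : IsAffineOpen V)
    (e : f ⁻¹ᵁ (hV.fromSpec ''ᵁ ⊤) ≤ f ⁻¹ᵁ V) :
    (Scheme.ΓSpecIso Γ(Y, V)).inv ≫
      (Spec Γ(Y, V)).presheaf.map (⊤ : (Spec Γ(Y, V)).Opens).leTop.op ≫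
        (hV.fromSpec.appIso ⊤).inv ≫ f.app (hV.fromSpec ''ᵁ ⊤) =
      f.appLE V (f ⁻¹ᵁ (hV.fromSpec ''ᵁ ⊤)) e := by
  have h := claimA V hV
  rw [← Category.assoc (Scheme.ΓSpecIso Γ(Y, V)).inv,
    ← Category.assoc ((Scheme.ΓSpecIso Γ(Y, V)).inv ≫ _),
    Category.assoc (Scheme.ΓSpecIso Γ(Y, V)).inv, h, Scheme.Hom.app_eq_appLE,
    Scheme.Hom.map_appLE]

/-- the module of sections is the ring of sections with its algebra structure -/
noncomputable def secModEquiv (f : X ⟶ Y) (V : Y.Opens) (hV : IsAffineOpen V)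
    (e : f ⁻¹ᵁ (hV.fromSpec ''ᵁ ⊤) ≤ f ⁻¹ᵁ V) :
    letI := (f.appLE V (f ⁻¹ᵁ (hV.fromSpec ''ᵁ ⊤)) e).hom.toAlgebra
    Γ(X, f ⁻¹ᵁ (hV.fromSpec ''ᵁ ⊤)) ≃ₗ[Γ(Y, V)] secMod f V hV :=
  letI := (f.appLE V (f ⁻¹ᵁ (hV.fromSpec ''ᵁ ⊤)) e).hom.toAlgebra
  { toFun := fun x => x
    invFun := fun x => x
    map_add' := fun _ _ => rfl
    map_smul' := fun r x => by
      have h := congrArg (fun φ => φ.hom r) (claimB' f V hV e)
      change (f.appLE V (f ⁻¹ᵁ (hV.fromSpec ''ᵁ ⊤)) e).hom r * x = _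
      rw [← h]
      rfl
    left_inv := fun _ => rfl
    right_inv := fun _ => rfl }

/-- S7175 -/
theorem main_perfImm {Z : Scheme.{u}} (i : Z ⟶ X) [IsClosedImmersion i]
    (hi : MoreMor.IsPerfectMor i) :
    DCoh.IsPerfect (DCoh.inD X ((Coh.push i).obj (Coh.structureModule Z))) := by
  refine isPerfect_of_local_perfect _ (fun x => ?_)
  obtain ⟨V, hV, hxV, -⟩ := exists_isAffineOpen_mem_and_subset (x := x) (U := ⊤) trivial
  refine ⟨Spec Γ(X, V), hV.fromSpec, inferInstance, ?_, ?_⟩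
  · rw [hV.range_fromSpec]
    exact hxV
  haveI : (Coh.structureModule Z).IsQuasicoherent :=
    Groth.Agent.Lib.Helper23.Serre.isQuasicoherent_structureModule' Z
  haveI : ((Scheme.Modules.pushforward i).obj (Coh.structureModule Z)).IsQuasicoherent :=
    Groth.Agent.Lib.Helper23.QCohLocal.isQuasicoherent_pushforward i _
  let N := ((Scheme.Modules.pushforward i).obj (Coh.structureModule Z)).restrict hV.fromSpec
  haveI : N.IsQuasicoherent := inferInstance
  haveI : IsIso N.fromTildeΓ := Scheme.Modules.isIso_fromTildeΓ_of_isQuasicoherent N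
  let eN : tilde (secMod i V hV) ≅ N := asIso N.fromTildeΓ
  haveI := (Groth.Agent.S9498.aux Γ(X, V)).1
  have hU' : IsAffineOpen (i ⁻¹ᵁ (hV.fromSpec ''ᵁ ⊤)) := by
    rw [image_top]
    exact hV.preimage i
  have e : i ⁻¹ᵁ (hV.fromSpec ''ᵁ ⊤) ≤ i ⁻¹ᵁ V := by
    rw [image_top]
  have hperf : DRing.IsPerfect Γ(X, V) (Dual.inD _ (secMod i V hV)) := by
    have h0 := hi _ V hU' hV e
    letI alg := (i.appLE V (i ⁻¹ᵁ (hV.fromSpec ''ᵁ ⊤)) e).hom.toAlgebra
    have hfin0 : (i.app (hV.fromSpec ''ᵁ ⊤)).hom.Finite :=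
      IsFinite.finite_app i _ (by rw [image_top]; exact hV)
    haveI : Module.Finite Γ(X, V) Γ(Z, i ⁻¹ᵁ (hV.fromSpec ''ᵁ ⊤)) := by
      have h1 : (i.appLE V (i ⁻¹ᵁ (hV.fromSpec ''ᵁ ⊤)) e).hom.Finite := by
        have h2 : i.appLE V (i ⁻¹ᵁ (hV.fromSpec ''ᵁ ⊤)) e =
            X.presheaf.map (homOfLE (image_top V hV).le).op ≫ i.app (hV.fromSpec ''ᵁ ⊤) := by
          rw [Scheme.Hom.app_eq_appLE, Scheme.Hom.map_appLE]
        rw [h2]
        refine RingHom.Finite.comp hfin0 ?_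
        refine RingHom.Finite.of_surjective _ ?_
        have : IsIso (X.presheaf.map (homOfLE (image_top V hV).le).op) := by
          have : IsIso (homOfLE (image_top V hV).le) :=
            ⟨⟨homOfLE (image_top V hV).ge, rfl, rfl⟩⟩
          infer_instance
        exact ((ConcreteCategory.isIso_iff_bijective _).1 this).2
      exact h1
    obtain ⟨hpc, n, hn⟩ := h0
    have hpc' : DRing.IsPseudoCoherentModule' Γ(X, V) Γ(Z, i ⁻¹ᵁ (hV.fromSpec ''ᵁ ⊤)) :=
      (Groth.Agent.Lib.R2H3.PerfImm.pcHom_iff_of_finite _ _).1 hpc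
    have htor := (hasTorDimLE_iff_hasTorAmp _ n).1 hn
    have hB : DRing.IsPerfect Γ(X, V) (Dual.inD Γ(X, V) Γ(Z, i ⁻¹ᵁ (hV.fromSpec ''ᵁ ⊤))) :=
      (Groth.Agent.S6954.result _ _).2 ⟨hpc', _, _, htor⟩
    obtain ⟨E, a, b, hE, hP, ⟨eE⟩⟩ := hB
    exact ⟨E, a, b, hE, hP, ⟨eE ≪≫ (DerivedCategory.singleFunctor _ 0).mapIso
      (secModEquiv i V hV e).toModuleIso⟩⟩
  exact Groth.Agent.Lib.H6xPerf23.isPerfect_of_iso
    (((tilde.functor Γ(X, V)).mapDerivedCategorySingleFunctor 0).app (secMod i V hV) ≪≫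
      (DerivedCategory.singleFunctor (Spec Γ(X, V)).Modules 0).mapIso eN ≪≫
      (((Scheme.Modules.restrictFunctor hV.fromSpec).mapDerivedCategorySingleFunctor 0).app
        ((Scheme.Modules.pushforward i).obj (Coh.structureModule Z))).symm)
    (isPerfect_tildeD_of_isPerfect Γ(X, V) _ hperf)

end Groth.Agent.Lib.H6xAffSmPerf
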