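import Mathlib

set_option autoImplicit false
universe u
open CategoryTheory CategoryTheory.Limits AlgebraicGeometry Opposite TopologicalSpace

namespace Groth.Agent.Lib.H6xAffTilde

variable {R S : CommRingCat.{u}} (φ : R ⟶ S)

/-- `Γ(Spec R, f_* N) ≅ Γ(Spec S, N)` as `R`-modules -/
noncomputable def pushΓIso :
    Scheme.Modules.pushforward (Spec.map φ) ⋙ moduleSpecΓFunctor (R := R) ≅
      moduleSpecΓFunctor (R := S) ⋙ ModuleCat.restrictScalars φ.hom :=
  Functor.isoWhiskerRight (pushforwardCompModulesSpecToSheafIso φ)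
    (TopCat.Sheaf.forget _ _ ⋙ (evaluation _ _).obj (op ⊤))

/-- the comparison `(M_R)~ ⟶ f_*(M~)` -/
noncomputable def tildePushHom :
    ModuleCat.restrictScalars φ.hom ⋙ tilde.functor R ⟶
      tilde.functor S ⋙ Scheme.Modules.pushforward (Spec.map φ) :=
  (Functor.leftUnitor _).inv ≫
    Functor.whiskerRight (tilde.toTildeΓNatIso (R := S)).hom
      (ModuleCat.restrictScalars φ.hom ⋙ tilde.functor R) ≫
    (Functor.associator _ _ _).hom ≫
    Functor.whiskerLeft (tilde.functor S) (Functor.associator _ _ _).inv ≫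
    Functor.whiskerLeft (tilde.functor S)
      (Functor.whiskerRight (pushΓIso φ).inv (tilde.functor R)) ≫
    Functor.whiskerLeft (tilde.functor S) (Functor.associator _ _ _).hom ≫
    (Functor.associator _ _ _).inv ≫
    Functor.whiskerLeft (tilde.functor S ⋙ Scheme.Modules.pushforward (Spec.map φ))
      (Scheme.Modules.fromTildeΓNatTrans (R := R)) ≫
    (Functor.rightUnitor _).hom

instance (M : ModuleCat.{u} S) : IsIso ((tildePushHom φ).app M) := by
  haveI : IsIso ((Scheme.Modules.pushforward (Spec.map φ)).obj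
      ((tilde.functor S).obj M)).fromTildeΓ :=
    isIso_fromTildeΓ_pushforward φ ((tilde.functor S).obj M)
  haveI : IsIso ((Scheme.Modules.fromTildeΓNatTrans (R := R)).app
      ((Scheme.Modules.pushforward (Spec.map φ)).obj ((tilde.functor S).obj M))) := this
  dsimp [tildePushHom]
  simp only [Category.id_comp, Category.comp_id]
  infer_instance

instance : IsIso (tildePushHom φ) := NatIso.isIso_of_isIso_app _

/-- `f_*(M~) ≅ (M_R)~` -/
noncomputable def tildePushIso :
    tilde.functor S ⋙ Scheme.Modules.pushforward (Spec.map φ) ≅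
      ModuleCat.restrictScalars φ.hom ⋙ tilde.functor R :=
  (asIso (tildePushHom φ)).symm

end Groth.Agent.Lib.H6xAffTilde
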