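import Mathlib
import Groth.Prelude.Def_DDual2
import Groth.Agent.Lib.H6xAffTildeA
import Groth.Agent.Lib.H6xAffPushD

/-!
# `Rf_*(M~) ≅ (M_A)~` for `f : Spec B ⟶ Spec A` (helper6)
-/

set_option autoImplicit false
set_option linter.style.haveILetI false

universe w₁ w₂ w₃ w₄ v₁ v₂ v₃ v₄ u₁ u₂ u₃ u₄ u

open CategoryTheory CategoryTheory.Limits Opposite AlgebraicGeometry TopologicalSpace

namespace Groth.Agent.Lib.H6xAffTilde

section Abstract

variable {𝓐 : Type u₁} [Category.{v₁} 𝓐] [Abelian 𝓐] [HasDerivedCategory.{w₁} 𝓐]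
  {𝓑 : Type u₂} [Category.{v₂} 𝓑] [Abelian 𝓑] [HasDerivedCategory.{w₂} 𝓑]
  {𝓒 : Type u₃} [Category.{v₃} 𝓒] [Abelian 𝓒] [HasDerivedCategory.{w₃} 𝓒]
  {𝓓 : Type u₄} [Category.{v₄} 𝓓] [Abelian 𝓓] [HasDerivedCategory.{w₄} 𝓓]
  (TB : 𝓑 ⥤ 𝓒) [TB.Additive] [PreservesFiniteLimits TB] [PreservesFiniteColimits TB]
  (G : 𝓒 ⥤ 𝓓) [G.Additive]
  (RG : DerivedCategory 𝓒 ⥤ DerivedCategory 𝓓)
  (β : G.mapHomologicalComplex (ComplexShape.up ℤ) ⋙ DerivedCategory.Q ⟶ DerivedCategory.Q ⋙ RG)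
  (res : 𝓑 ⥤ 𝓐) [res.Additive] [PreservesFiniteLimits res] [PreservesFiniteColimits res]
  (TA : 𝓐 ⥤ 𝓓) [TA.Additive] [PreservesFiniteLimits TA] [PreservesFiniteColimits TA]
  (ν : TB ⋙ G ≅ res ⋙ TA)

/-- the iso on the level of complexes -/
noncomputable def cxIso :
    TB.mapHomologicalComplex (ComplexShape.up ℤ) ⋙ G.mapHomologicalComplex (ComplexShape.up ℤ) ≅
    res.mapHomologicalComplex (ComplexShape.up ℤ) ⋙ TA.mapHomologicalComplex (ComplexShape.up ℤ) :=
  Functor.mapHomologicalComplexCompIso ν (ComplexShape.up ℤ) ≪≫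
    (Functor.mapHomologicalComplexCompIso (Iso.refl (res ⋙ TA)) (ComplexShape.up ℤ)).symm

variable (hβ : ∀ K : CochainComplex 𝓑 ℤ,
  IsIso (β.app ((TB.mapHomologicalComplex (ComplexShape.up ℤ)).obj K)))

include hβ in
lemma isIso_whiskerLeft :
    IsIso (Functor.whiskerLeft (TB.mapHomologicalComplex (ComplexShape.up ℤ)) β) := by
  haveI : ∀ K, IsIso ((Functor.whiskerLeft
      (TB.mapHomologicalComplex (ComplexShape.up ℤ)) β).app K) := fun K => by
    dsimp only [Functor.whiskerLeft_app]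
    exact hβ K
  exact NatIso.isIso_of_isIso_app _

/-- the iso after precomposition with `Q` -/
noncomputable def preIso :
    DerivedCategory.Q ⋙ (TB.mapDerivedCategory ⋙ RG) ≅
    DerivedCategory.Q ⋙ (res.mapDerivedCategory ⋙ TA.mapDerivedCategory) :=
  haveI := isIso_whiskerLeft TB G RG β hβ
  (Functor.associator _ _ _).symm ≪≫
    Functor.isoWhiskerRight TB.mapDerivedCategoryFactors _ ≪≫
    Functor.associator _ _ _ ≪≫
    (asIso (Functor.whiskerLeft (TB.mapHomologicalComplex (ComplexShape.up ℤ)) β)).symm ≪≫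
    (Functor.associator _ _ _).symm ≪≫
    Functor.isoWhiskerRight (cxIso TB G res TA ν) DerivedCategory.Q ≪≫
    Functor.associator _ _ _ ≪≫
    Functor.isoWhiskerLeft _ TA.mapDerivedCategoryFactors.symm ≪≫
    (Functor.associator _ _ _).symm ≪≫
    Functor.isoWhiskerRight res.mapDerivedCategoryFactors.symm _ ≪≫
    Functor.associator _ _ _

/-- the abstract commutation isomorphism -/
noncomputable def absIso :
    TB.mapDerivedCategory ⋙ RG ≅ res.mapDerivedCategory ⋙ TA.mapDerivedCategory :=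
  Localization.liftNatIso DerivedCategory.Q
    (HomologicalComplex.quasiIso 𝓑 (ComplexShape.up ℤ)) _ _ _ _ (preIso TB G RG β res TA ν hβ)

end Abstract

section Concrete

attribute [local instance] HasDerivedCategory.standard

open Groth.Agent.Lib.H6xRpushRes Groth.Agent.Lib.H6xAffPush

theorem nonempty_iso' {R S : CommRingCat.{u}} (φ : R ⟶ S)
    [PreservesFiniteLimits (tilde.functor R)] [PreservesFiniteLimits (tilde.functor S)]
    [DCoh.HasRpush (Spec.map φ)] :
    Nonempty (DCoh.tildeD S ⋙ DCoh.Rpush (Spec.map φ) ≅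
      DRing.restrictD φ.hom ⋙ DCoh.tildeD R) :=
  ⟨absIso (𝓒 := (Spec (CommRingCat.of S)).Modules) (𝓓 := (Spec (CommRingCat.of R)).Modules)
    (tilde.functor S) (Scheme.Modules.pushforward (Spec.map φ)) (DCoh.Rpush (Spec.map φ))
    (βf (Spec.map φ)) (ModuleCat.restrictScalars.{u} φ.hom) (tilde.functor R) (tildePushIso φ)
    (fun K => isIso_βf_app_of_affine (Spec.map φ) _ (fun n =>
      (inferInstance : ((tilde.functor S).obj (K.X n)).IsQuasicoherent)))⟩

theorem nonempty_iso {A B : Type u} [CommRing A] [CommRing B] (φ : A →+* B)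
    [PreservesFiniteLimits (tilde.functor (CommRingCat.of A))]
    [PreservesFiniteLimits (tilde.functor (CommRingCat.of B))]
    [DCoh.HasRpush (Spec.map (CommRingCat.ofHom φ))] :
    Nonempty (DCoh.tildeD (CommRingCat.of B) ⋙ DCoh.Rpush (Spec.map (CommRingCat.ofHom φ)) ≅
      DRing.restrictD φ ⋙ DCoh.tildeD (CommRingCat.of A)) :=
  nonempty_iso' (CommRingCat.ofHom φ)

end Concrete

end Groth.Agent.Lib.H6xAffTilde
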