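import Mathlib
import Groth.Prelude.Def_PerfAux
import Groth.Agent.Lib.Helper23FTsub
import Groth.Agent.Lib.Helper23FinType2
import Groth.Agent.Lib.Helper18OmLS10
import Groth.Agent.Lib.Helper1Sky9
import Groth.Agent.Lib.Helper18Strict6
import Groth.Agent.Lib.Helper2LocFree
set_option backward.isDefEq.respectTransparency.types false

/-!
# Resolution property passes up along affine morphisms (helper6)
-/

set_option autoImplicit false
set_option linter.style.haveILetI false
universe u
open CategoryTheory CategoryTheory.Limits AlgebraicGeometry TopologicalSpace Opposite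

namespace Groth.Agent.Lib.H6xResProp

variable {X Y : Scheme.{u}}

/-- a finite locally free module is quasi-coherent -/
theorem isQuasicoherent_of_isFinLocFree (E : X.Modules) (hE : FlatMod.IsFinLocFree E) :
    E.IsQuasicoherent :=
  Groth.Agent.Helper18Strict.isQCoh_of_isFP E
    (Groth.Agent.Lib.Helper2.LocFree.isFP_of_isFinLocFree E hE)

/-- Key criterion: given `f : X ⟶ Y` affine, `M` quasi-coherent on `X`, a finite affine cover of `Y`
and for each member finitely many sections of `M` over the preimage spanning; if `φ : E ⟶ f_* M`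
hits these sections, then the adjoint map `f^* E ⟶ M` is an epimorphism. -/
theorem epi_adjoint_of_hits (f : X ⟶ Y) [IsAffineHom f] (M : X.Modules) [M.IsQuasicoherent]
    (E : Y.Modules) [((Scheme.Modules.pullback f).obj E).IsQuasicoherent]
    (φ : E ⟶ (Scheme.Modules.pushforward f).obj M)
    {ι : Type*} (V : ι → Y.Opens) (hV : IsOpenCover V) (hVa : ∀ i, IsAffineOpen (V i))
    (T : ∀ i, Set Γ(M, f ⁻¹ᵁ V i))
    (hT : ∀ i, Submodule.span Γ(X, f ⁻¹ᵁ V i) (T i) = ⊤)
    (hφ : ∀ i, ∀ m ∈ T i, ∃ e : Γ(E, V i), φ.app (V i) e = m) :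
    Epi (((Scheme.Modules.pullbackPushforwardAdjunction f).homEquiv E M).symm φ) := by
  set ψ := ((Scheme.Modules.pullbackPushforwardAdjunction f).homEquiv E M).symm φ with hψ
  have hφψ : φ = (Scheme.Modules.pullbackPushforwardAdjunction f).unit.app E ≫
      (Scheme.Modules.pushforward f).map ψ := by
    have h1 := (Scheme.Modules.pullbackPushforwardAdjunction f).homEquiv_unit (X := E) (Y := M)
      (f := ψ)
    rw [← h1, hψ, Equiv.apply_symm_apply]
  refine Groth.Agent.Helper18OmLS.epi_of_surjective_app_cover ψ (fun i => f ⁻¹ᵁ V i) ?_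
    (fun i => (hVa i).preimage f) (fun i => ?_)
  · rw [IsOpenCover] at hV ⊢
    rw [← Scheme.Hom.preimage_iSup, hV]
    rfl
  · intro m
    have hm : m ∈ Submodule.span Γ(X, f ⁻¹ᵁ V i) (T i) := by rw [hT i]; trivial
    induction hm using Submodule.span_induction with
    | mem x hx =>
      obtain ⟨e, he⟩ := hφ i x hx
      refine ⟨((Scheme.Modules.pullbackPushforwardAdjunction f).unit.app E).app (V i) e, ?_⟩
      rw [← he, hφψ]
      rfl
    | zero => exact ⟨0, map_zero _⟩
    | add x y _ _ hx hy =>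
      obtain ⟨a, ha⟩ := hx
      obtain ⟨b, hb⟩ := hy
      exact ⟨a + b, by rw [map_add, ha, hb]⟩
    | smul r x _ hx =>
      obtain ⟨a, ha⟩ := hx
      exact ⟨r • a, by rw [Scheme.Modules.Hom.app_smul, ha]⟩

/-- **Resolution property passes up along affine morphisms** (target qcqs). -/
theorem hasResolutionProperty_of_isAffineHom (f : X ⟶ Y) [IsAffineHom f] [CompactSpace Y]
    [QuasiSeparatedSpace Y] (hY : PerfAux.HasResolutionProperty Y) :
    PerfAux.HasResolutionProperty X := by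
  classical
  intro M hMq hMt
  haveI : M.IsQuasicoherent := hMq
  haveI : SheafOfModules.IsFiniteType (R := X.ringCatSheaf) M := hMt
  set K : Y.Modules := (Scheme.Modules.pushforward f).obj M with hK
  haveI : K.IsQuasicoherent :=
    Groth.Agent.Lib.Helper23.QCohLocal.isQuasicoherent_pushforward f M
  -- a finite affine cover of `Y`
  have hcov : (Set.univ : Set Y) ⊆ ⋃ V : Y.affineOpens, (V.1 : Set Y) := by
    intro y _
    obtain ⟨V, hV, hyV, -⟩ := exists_isAffineOpen_mem_and_subset (x := y) (U := ⊤) trivial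
    exact Set.mem_iUnion.2 ⟨⟨V, hV⟩, hyV⟩
  obtain ⟨t, ht⟩ := isCompact_univ.elim_finite_subcover
    (fun V : Y.affineOpens => (V.1 : Set Y)) (fun V => V.1.2) hcov
  -- finite generating sets
  have hfin : ∀ V : Y.affineOpens, ∃ T : Finset Γ(M, f ⁻¹ᵁ V.1),
      Submodule.span Γ(X, f ⁻¹ᵁ V.1) (T : Set Γ(M, f ⁻¹ᵁ V.1)) = ⊤ := fun V =>
    (Groth.Agent.Lib.Helper23.FinType.finite_of_isFiniteType M (V.2.preimage f)).fg_top
  choose T hT using hfin
  let l : List (Σ U : Y.affineOpens, Γ(K, U.1)) :=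
    t.toList.flatMap (fun V => (T V).toList.map (fun m => (⟨V, m⟩ : Σ U : Y.affineOpens, Γ(K, U.1))))
  let a₀ : Σ U : Y.affineOpens, Γ(K, U.1) := ⟨⟨⊥, isAffineOpen_bot Y⟩, 0⟩
  obtain ⟨G, i, hi, hGq, hGt, hG⟩ := Groth.Agent.Lib.Helper23.FTsub.exists_ft_sub_list K a₀ l
  obtain ⟨E, π, hE, hπ⟩ := hY G hGq hGt
  haveI := hπ
  haveI : G.IsQuasicoherent := hGq
  haveI : E.IsQuasicoherent := isQuasicoherent_of_isFinLocFree E hE
  have hPE : FlatMod.IsFinLocFree ((Scheme.Modules.pullback f).obj E) :=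
    Groth.Agent.Lib.Helper1.Sky.isFinLocFree_pullback f E hE
  haveI : ((Scheme.Modules.pullback f).obj E).IsQuasicoherent :=
    isQuasicoherent_of_isFinLocFree _ hPE
  refine ⟨(Scheme.Modules.pullback f).obj E,
    ((Scheme.Modules.pullbackPushforwardAdjunction f).homEquiv E M).symm (π ≫ i), hPE, ?_⟩
  refine epi_adjoint_of_hits f M E (π ≫ i) (fun V : t => V.1.1) ?_ (fun V => V.1.2)
    (fun V => (T V.1 : Set Γ(M, f ⁻¹ᵁ V.1.1))) (fun V => hT V.1) ?_
  · rw [IsOpenCover, eq_top_iff]
    intro y _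
    obtain ⟨V, hVt, hyV⟩ := Set.mem_iUnion₂.1 (ht (Set.mem_univ y))
    exact Opens.mem_iSup.2 ⟨⟨V, hVt⟩, hyV⟩
  · intro V m hm
    have hmem : (⟨V.1, m⟩ : Σ U : Y.affineOpens, Γ(K, U.1)) ∈ a₀ :: l := by
      refine List.mem_cons_of_mem _ ?_
      refine List.mem_flatMap.2 ⟨V.1, Finset.mem_toList.2 V.2, ?_⟩
      exact List.mem_map.2 ⟨m, Finset.mem_toList.2 hm, rfl⟩
    obtain ⟨g, hg⟩ := hG _ hmem
    obtain ⟨e, he⟩ := Groth.Agent.Lib.Helper23.FinType.surjective_app_of_epi π V.1.2 g
    refine ⟨e, ?_⟩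
    change i.app V.1.1 (π.app V.1.1 e) = m
    rw [he]
    exact hg

end Groth.Agent.Lib.H6xResProp
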