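import Mathlib
import Groth.Agent.Lib.Helper1Sky2
set_option backward.isDefEq.respectTransparency.types false

/-!
# Generating sections and stalks (helper8)

If `F.restrict U.ι` is generated by sections `s j`, then a linear map out of the stalk `F_y` (`y ∈ U`) which
kills the germs of all the `s j` is zero.  Proved with helper1's skyscraper modules.
-/

set_option autoImplicit false
universe u
open CategoryTheory TopCat TopologicalSpace Opposite AlgebraicGeometry

namespace Groth.Agent.Lib.Helper8FTStalk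

open Groth.Agent.Lib.Helper1.Sky Groth.Agent.Lib.Helper1.StalkTensor

variable {X : Scheme.{u}}

theorem linearMap_eq_zero_of_generatingSections (F : X.Modules) (U : X.Opens)
    (Gs : (F.restrict U.ι).GeneratingSections) (y : X) (hy : y ∈ U.ι ''ᵁ ⊤)
    (N : ModuleCat.{u} (Ox y)) (h : St (toPM F) y →ₗ[Ox y] N)
    (h0 : ∀ j, h (gm (toPM F) y (U.ι ''ᵁ ⊤) hy ((Gs.s j).val (op ⊤))) = 0) : h = 0 := by
  let a : F ⟶ skyMod y N := ⟨ofStalk (R := X.presheaf) (x := y) (N := N) (P := toPM F) h⟩
  let a' := (Scheme.Modules.restrictFunctor U.ι).map a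
  have key : Gs.π ≫ a' = Gs.π ≫ 0 := by
    rw [SheafOfModules.GeneratingSections.π, SheafOfModules.freeHomEquiv_symm_comp,
      SheafOfModules.freeHomEquiv_symm_comp]
    congr 1
    funext j
    apply PresheafOfModules.sections_ext
    intro W
    have hc := PresheafOfModules.sections_property (Gs.s j) (X := op ⊤) (Y := W) (homOfLE le_top).op
    change a'.val.app W ((Gs.s j).val W) = 0
    have h1 : a'.val.app (op ⊤) ((Gs.s j).val (op ⊤)) = 0 := by
      change (ofStalk (R := X.presheaf) (x := y) (N := N) (P := toPM F) h).app (op (U.ι ''ᵁ ⊤))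
        ((Gs.s j).val (op ⊤)) = 0
      apply SkyT.ext (R := X.presheaf) (U := U.ι ''ᵁ ⊤)
      intro hx
      rw [ofStalk_app_ev]
      exact h0 j
    rw [← hc, PresheafOfModules.naturality_apply, h1, map_zero]
    rfl
  have ha' : a' = 0 := (cancel_epi Gs.π).1 key
  ext v
  obtain ⟨W, hW, t, rfl⟩ := exists_gm_eq v
  have hyU : y ∈ U := by
    obtain ⟨z, -, rfl⟩ := hy
    exact z.2
  let W' : (U : Scheme.{u}).Opens := U.ι ⁻¹ᵁ W
  have hW' : U.ι ''ᵁ W' ≤ W := by
    rintro _ ⟨z, hz, rfl⟩
    exact hz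
  have hyW' : y ∈ U.ι ''ᵁ W' := ⟨⟨y, hyU⟩, hW, rfl⟩
  rw [← gm_rs (homOfLE hW') hyW' t]
  have h2 := congrArg (fun m => m.val.app (op W') (rs (toPM F) (homOfLE hW') t)) ha'
  have h3 := congrArg (fun m => SkyT.ev X.presheaf (U.ι ''ᵁ W') m hyW') h2
  exact h3

end Groth.Agent.Lib.Helper8FTStalk
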