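import Mathlib
import Groth.Prelude.Def_RefHull
import Groth.Prelude.Def_CohB1
import Groth.Agent.Lib.Helper8FTStalk
import Groth.Agent.Lib.Helper23FinType
set_option backward.isDefEq.respectTransparency.types false

/-!
# The evaluation map `𝓗om(F, G)_x → Hom(F_x, G_x)` is injective for `F` of finite type (helper8)
-/

set_option autoImplicit false
universe u
open CategoryTheory TopCat TopologicalSpace Opposite AlgebraicGeometry

namespace Groth.Agent.Lib.Helper8RefHullFT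

open Groth.Agent.Lib.Helper8FTStalk Groth.Agent.Lib.Helper23.FinType

variable {X : Scheme.{u}}

theorem stalkHom_eq_zero (F G : X.Modules) (U : X.Opens) (Gs : (F.restrict U.ι).GeneratingSections)
    (y : X) (hy : y ∈ U.ι ''ᵁ ⊤) (h : RefHull.StalkHom F G y)
    (h0 : ∀ j, h (F.presheaf.germ (U.ι ''ᵁ ⊤) y hy ((Gs.s j).val (op ⊤))) = 0) : h = 0 :=
  linearMap_eq_zero_of_generatingSections F U Gs y hy (ModuleCat.of _ (G.presheaf.stalk y)) h h0

theorem mem_finset_inf {I : Type*} (W : I → X.Opens) (x : X) (hx : ∀ j, x ∈ W j) (s : Finset I) :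
    x ∈ s.inf W := by
  classical
  induction s using Finset.induction_on with
  | empty => rw [Finset.inf_empty]; trivial
  | insert a s _ ih => rw [Finset.inf_insert]; exact ⟨hx a, ih⟩

theorem evalStalk_injective_of_isFT (F G : X.Modules) (hF : CohB1.IsFT F) (x : X) :
    Function.Injective (RefHull.evalStalk F G x) := by
  rw [injective_iff_map_eq_zero]
  intro θ hθ
  obtain ⟨U₀, hx₀, g, rfl⟩ := TopCat.Presheaf.exists_germ_eq (RefHull.homSh F G).presheaf θ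
  rw [RefHull.evalStalk_germ] at hθ
  haveI := hF
  obtain ⟨ι, U, Gs, hfin, hcov, -⟩ := exists_isOpenCover_generatingSections F
  obtain ⟨i, hxi⟩ := hcov.exists_mem x
  have hxV₀ : x ∈ (U i).ι ''ᵁ ⊤ := ⟨⟨x, hxi⟩, trivial, rfl⟩
  have step : ∀ j : (Gs i).I, ∃ W : X.Opens, x ∈ W ∧ ∃ (hWU : W ≤ U₀) (hWV : W ≤ (U i).ι ''ᵁ ⊤),
      ∀ (y : X) (hy : y ∈ W), g.1 ⟨y, hWU hy⟩
        (F.presheaf.germ ((U i).ι ''ᵁ ⊤) y (hWV hy) (((Gs i).s j).val (op ⊤))) = 0 := by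
    intro j
    obtain ⟨W, hxW, j', n, hn⟩ := RefHull.isLocSect_of_mem g (U₀ ⊓ (U i).ι ''ᵁ ⊤) (homOfLE inf_le_left)
      (F.presheaf.map (homOfLE (inf_le_right : U₀ ⊓ (U i).ι ''ᵁ ⊤ ≤ (U i).ι ''ᵁ ⊤)).op
        (((Gs i).s j).val (op ⊤))) ⟨x, hx₀, hxV₀⟩
    have hnx := hn ⟨x, hxW⟩
    have hgx : g.1 ⟨x, (homOfLE inf_le_left : U₀ ⊓ (U i).ι ''ᵁ ⊤ ⟶ U₀).le (j'.le hxW)⟩ = 0 := hθ
    rw [hgx, LinearMap.zero_apply] at hnx
    obtain ⟨W', hxW', iU, iV, e⟩ := G.presheaf.germ_eq x hxW hxW n 0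
      (hnx.symm.trans (map_zero _).symm)
    rw [map_zero] at e
    refine ⟨W', hxW', iU.le.trans (j'.le.trans inf_le_left), iU.le.trans (j'.le.trans inf_le_right),
      fun y hy => ?_⟩
    have hny := hn ⟨y, iU.le hy⟩
    rw [TopCat.Presheaf.germ_res_apply] at hny
    rw [← TopCat.Presheaf.germ_res_apply G.presheaf iU y hy n, e, map_zero] at hny
    exact hny
  choose W hxW hWU hWV hW0 using step
  haveI := (hfin i).finite
  letI := Fintype.ofFinite (Gs i).I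
  let W₀ : X.Opens := (Finset.univ.inf W) ⊓ (U₀ ⊓ (U i).ι ''ᵁ ⊤)
  have hxW₀ : x ∈ W₀ := ⟨mem_finset_inf W x hxW _, hx₀, hxV₀⟩
  have hW₀U : W₀ ≤ U₀ := inf_le_right.trans inf_le_left
  have hg0 : (RefHull.homSh F G).presheaf.map (homOfLE hW₀U).op g = 0 := by
    refine Subtype.ext (funext fun y => ?_)
    change g.1 ⟨y.1, hW₀U y.2⟩ = 0
    refine stalkHom_eq_zero F G (U i) (Gs i) y.1 y.2.2.2 _ (fun j => ?_)
    exact hW0 j y.1 ((Finset.inf_le (f := W) (Finset.mem_univ j) : Finset.univ.inf W ≤ W j) y.2.1)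
  rw [← TopCat.Presheaf.germ_res_apply _ (homOfLE hW₀U) x hxW₀ g, hg0, map_zero]

end Groth.Agent.Lib.Helper8RefHullFT
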