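import Mathlib
import Groth.Prelude.Def_RefHull
import Groth.Prelude.Def_CohB1
import Groth.Agent.Lib.Helper8RefHullFT
import Groth.Agent.Lib.Helper2FPAff
import Groth.Agent.Lib.Helper2FlatOver
set_option backward.isDefEq.respectTransparency.types false

/-!
# The evaluation map `𝓗om(F, G)_x → Hom(F_x, G_x)` is bijective for `F` of finite presentation (helper8)
-/

set_option autoImplicit false
set_option linter.style.haveILetI false
universe u
open CategoryTheory TopCat TopologicalSpace Opposite AlgebraicGeometry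

namespace Groth.Agent.Lib.Helper8RefHullFP

open Groth.Agent.Lib.Helper2.FlatOver Groth.Agent.Lib.Helper2.QCoh Groth.Agent.Lib.Helper2.FPAff

variable {X : Scheme.{u}}

/-- Part 1: a map `Γ(F,U) → G_y` which is additive and semilinear along the germ map extends to the stalk. -/
theorem exists_stalkHom_of_semilinear (F G : X.Modules) [F.IsQuasicoherent] {U : X.Opens}
    (hU : IsAffineOpen U) (y : X) (hy : y ∈ U) (μ : Γ(F, U) → G.presheaf.stalk y)
    (hadd : ∀ a b, μ (a + b) = μ a + μ b)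
    (hsmul : ∀ (r : Γ(X, U)) (m : Γ(F, U)), μ (r • m) = X.presheaf.germ U y hy r • μ m) :
    ∃ f : RefHull.StalkHom F G y, ∀ m : Γ(F, U), f (F.presheaf.germ U y hy m) = μ m := by
  letI := moduleStalkSections F U y hy
  letI := moduleStalkSections G U y hy
  haveI := isLocalizedModule_germ hU F y hy
  let μ' : Γ(F, U) →ₗ[Γ(X, U)] G.presheaf.stalk y :=
    { toFun := μ, map_add' := hadd, map_smul' := fun r m => hsmul r m }
  have hunit : ∀ s : (hU.primeIdealOf ⟨y, hy⟩).asIdeal.primeCompl,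
      IsUnit ((algebraMap Γ(X, U) (Module.End Γ(X, U) (G.presheaf.stalk y))) s) := by
    rintro ⟨s, hs⟩
    have hs' : IsUnit (X.presheaf.germ U y hy s) := by
      rw [← Scheme.mem_basicOpen X s y hy,
        Groth.Agent.Lib.Helper2.mem_basicOpen_iff_notMem_primeIdealOf hU y hy]
      exact hs
    obtain ⟨u, hu⟩ := hs'
    rw [Module.End.isUnit_iff]
    constructor
    · intro v v' h
      have h' : (u : X.presheaf.stalk y) • v = (u : X.presheaf.stalk y) • v' := by
        rw [hu]; exact h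
      have := congrArg (fun z => (u⁻¹ : (X.presheaf.stalk y)ˣ).1 • z) h'
      simpa [smul_smul] using this
    · intro v
      refine ⟨(u⁻¹ : (X.presheaf.stalk y)ˣ).1 • v, ?_⟩
      change X.presheaf.germ U y hy s • ((u⁻¹ : (X.presheaf.stalk y)ˣ).1 • v) = v
      rw [← hu, smul_smul, Units.mul_inv, one_smul]
  let f₀ := IsLocalizedModule.lift (hU.primeIdealOf ⟨y, hy⟩).asIdeal.primeCompl (germₗ F U y hy) μ' hunit
  have hf₀ : ∀ m, f₀ (F.presheaf.germ U y hy m) = μ m := fun m =>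
    IsLocalizedModule.lift_apply (hU.primeIdealOf ⟨y, hy⟩).asIdeal.primeCompl (germₗ F U y hy) μ' hunit m
  have hf₀s : ∀ (r : Γ(X, U)) (v : F.presheaf.stalk y),
      f₀ (X.presheaf.germ U y hy r • v) = X.presheaf.germ U y hy r • f₀ v := fun r v => f₀.map_smul r v
  refine ⟨{ toFun := f₀, map_add' := f₀.map_add, map_smul' := ?_ }, hf₀⟩
  intro a v
  letI := TopCat.Presheaf.algebra_section_stalk X.presheaf ⟨y, hy⟩
  haveI := hU.isLocalization_stalk ⟨y, hy⟩
  obtain ⟨⟨r, s⟩, hrs⟩ := IsLocalization.surj (hU.primeIdealOf ⟨y, hy⟩).asIdeal.primeCompl a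
  have hrs' : a * X.presheaf.germ U y hy s.1 = X.presheaf.germ U y hy r := hrs
  have hsu : IsUnit (X.presheaf.germ U y hy s.1) :=
    IsLocalization.map_units (M := (hU.primeIdealOf ⟨y, hy⟩).asIdeal.primeCompl) (X.presheaf.stalk y) s
  obtain ⟨w, hw⟩ := hsu
  have h1 : X.presheaf.germ U y hy s.1 • f₀ (a • v) = X.presheaf.germ U y hy s.1 • (a • f₀ v) := by
    rw [← hf₀s, smul_smul, mul_comm, hrs', hf₀s, ← hrs', mul_comm, mul_smul]
  rw [← hw] at h1
  have := congrArg (fun z => (w⁻¹ : (X.presheaf.stalk y)ˣ).1 • z) h1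
  simpa [smul_smul] using this

/-- Part 2: a semilinear map `Γ(F,U) → Γ(G,D)` (`D ≤ U`, `U` affine) defines a section of the sheaf Hom over `D`. -/
theorem exists_section_of_semilinear (F G : X.Modules) [F.IsQuasicoherent] {U : X.Opens}
    (hU : IsAffineOpen U) (D : X.Opens) (hDU : D ≤ U) (lam : Γ(F, U) → Γ(G, D))
    (hadd : ∀ a b, lam (a + b) = lam a + lam b)
    (hsmul : ∀ (r : Γ(X, U)) (m : Γ(F, U)),
      lam (r • m) = X.presheaf.map (homOfLE hDU).op r • lam m) :
    ∃ g : Γ(RefHull.homSh F G, D), ∀ (y : X) (hy : y ∈ D) (m : Γ(F, U)),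
      g.1 ⟨y, hy⟩ (F.presheaf.germ U y (hDU hy) m) = G.presheaf.germ D y hy (lam m) := by
  have hpt : ∀ y : D, ∃ f : RefHull.StalkHom F G y.1, ∀ m : Γ(F, U),
      f (F.presheaf.germ U y.1 (hDU y.2) m) = G.presheaf.germ D y.1 y.2 (lam m) := by
    intro y
    refine exists_stalkHom_of_semilinear F G hU y.1 (hDU y.2)
      (fun m => G.presheaf.germ D y.1 y.2 (lam m)) ?_ ?_
    · intro a b
      rw [hadd, map_add]
    · intro r m
      rw [hsmul, Groth.Agent.Lib.Helper2.QCoh.germ_smul, TopCat.Presheaf.germ_res_apply]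
  choose f hf using hpt
  refine ⟨⟨f, ?_⟩, fun y hy m => hf ⟨y, hy⟩ m⟩
  intro V i m' y₀
  obtain ⟨g, hgV, hy₀g⟩ := hU.exists_basicOpen_le ⟨y₀.1, y₀.2⟩ (hDU (i.le y₀.2))
  obtain ⟨k, m, hm⟩ := exists_extension hU F g (F.presheaf.map (homOfLE hgV).op m')
  have hu' : IsUnit (X.presheaf.map (homOfLE (X.basicOpen_le g)).op g) :=
    RingedSpace.isUnit_res_basicOpen X.toRingedSpace g
  obtain ⟨u, hu⟩ := hu'
  have hgD : X.basicOpen g ≤ D := hgV.trans i.le
  refine ⟨X.basicOpen g, hy₀g, homOfLE hgV,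
    ((u⁻¹ ^ k : (Γ(X, X.basicOpen g))ˣ) : Γ(X, X.basicOpen g)) • G.presheaf.map (homOfLE hgD).op (lam m),
    fun y => ?_⟩
  have e1 := congrArg (F.presheaf.germ (X.basicOpen g) y.1 y.2) hm
  rw [TopCat.Presheaf.germ_res_apply, Groth.Agent.Lib.Helper2.QCoh.germ_smul, map_pow, TopCat.Presheaf.germ_res_apply] at e1
  have e2 := congrArg (f ⟨y.1, hgD y.2⟩) e1
  rw [hf ⟨y.1, hgD y.2⟩ m, map_smul] at e2
  rw [Groth.Agent.Lib.Helper2.QCoh.germ_smul, TopCat.Presheaf.germ_res_apply, e2, smul_smul]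
  have hc : (X.presheaf.germ (X.basicOpen g) y.1 y.2) ((u⁻¹ ^ k : (Γ(X, X.basicOpen g))ˣ) : Γ(X, X.basicOpen g)) *
      (X.presheaf.germ U y.1 (hDU (hgD y.2))) g ^ k = 1 := by
    rw [← TopCat.Presheaf.germ_res_apply X.presheaf (homOfLE (X.basicOpen_le g)) y.1 y.2 g, ← hu,
      ← map_pow, ← map_mul, ← Units.val_pow_eq_pow_val, ← Units.val_mul, ← mul_pow, inv_mul_cancel,
      one_pow, Units.val_one, map_one]
  rw [hc, one_smul, TopCat.Presheaf.germ_res_apply]

open Groth.Agent.Lib.Helper8RefHullFT in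
/-- Part 3: surjectivity of the evaluation map for `F` of finite presentation. -/
theorem evalStalk_surjective_of_isFP (F G : X.Modules) (hF : CohB1.IsFP F) (x : X) :
    Function.Surjective (RefHull.evalStalk F G x) := by
  intro h
  haveI : SheafOfModules.IsFinitePresentation (R := X.ringCatSheaf) F := hF
  haveI : F.IsQuasicoherent := inferInstance
  obtain ⟨U, hU, hxU⟩ : ∃ U : X.Opens, IsAffineOpen U ∧ x ∈ U := by
    obtain ⟨_, ⟨U, hU, rfl⟩, hxU, -⟩ :=
      X.isBasis_affineOpens.exists_subset_of_mem_open (Set.mem_univ x) isOpen_univ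
    exact ⟨U, hU, hxU⟩
  haveI : Module.FinitePresentation Γ(X, U) Γ(F, U) := finitePresentation_sections F hU
  obtain ⟨n, s, hs⟩ := Module.Finite.exists_fin (R := Γ(X, U)) (M := Γ(F, U))
  let π : (Fin n → Γ(X, U)) →ₗ[Γ(X, U)] Γ(F, U) := Fintype.linearCombination Γ(X, U) s
  have hπ : Function.Surjective π := by
    rw [← LinearMap.range_eq_top, Fintype.range_linearCombination]; exact hs
  obtain ⟨S, hS⟩ := Module.FinitePresentation.fg_ker π hπ
  have ht : ∀ i : Fin n, ∃ (W : X.Opens) (hxW : x ∈ W) (t : Γ(G, W)),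
      G.presheaf.germ W x hxW t = h (F.presheaf.germ U x hxU (s i)) :=
    fun i => TopCat.Presheaf.exists_germ_eq G.presheaf _
  choose W hxW t ht using ht
  let W₁ : X.Opens := Finset.univ.inf W ⊓ U
  have hxW₁ : x ∈ W₁ := ⟨mem_finset_inf W x hxW _, hxU⟩
  have hW₁i : ∀ i, W₁ ≤ W i := fun i => inf_le_left.trans (Finset.inf_le (Finset.mem_univ i))
  have hW₁U : W₁ ≤ U := inf_le_right
  let c : (Fin n → Γ(X, U)) → Γ(G, W₁) := fun r =>
    ∑ i, X.presheaf.map (homOfLE hW₁U).op (r i) • G.presheaf.map (homOfLE (hW₁i i)).op (t i)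
  have hcgerm : ∀ r, G.presheaf.germ W₁ x hxW₁ (c r) = h (F.presheaf.germ U x hxU (π r)) := by
    intro r
    change G.presheaf.germ W₁ x hxW₁ (∑ i, X.presheaf.map (homOfLE hW₁U).op (r i) •
      G.presheaf.map (homOfLE (hW₁i i)).op (t i)) =
      h (F.presheaf.germ U x hxU (Fintype.linearCombination Γ(X, U) s r))
    rw [Fintype.linearCombination_apply, map_sum, map_sum, map_sum]
    refine Finset.sum_congr rfl fun i _ => ?_
    rw [Groth.Agent.Lib.Helper2.QCoh.germ_smul, Groth.Agent.Lib.Helper2.QCoh.germ_smul, map_smul,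
      TopCat.Presheaf.germ_res_apply, TopCat.Presheaf.germ_res_apply, ht]
  have hW' : ∀ r : Fin n → Γ(X, U), ∃ W' : X.Opens, x ∈ W' ∧ ∃ hW' : W' ≤ W₁,
      (π r = 0 → G.presheaf.map (homOfLE hW').op (c r) = 0) := by
    intro r
    by_cases hr : π r = 0
    · have h0 : G.presheaf.germ W₁ x hxW₁ (c r) = G.presheaf.germ W₁ x hxW₁ 0 := by
        rw [hcgerm, hr, map_zero, map_zero, map_zero]
      obtain ⟨W', hxW', iU, iV, e⟩ := G.presheaf.germ_eq x hxW₁ hxW₁ (c r) 0 h0
      rw [map_zero] at e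
      exact ⟨W', hxW', iU.le, fun _ => e⟩
    · exact ⟨W₁, hxW₁, le_rfl, fun h => absurd h hr⟩
  choose W' hxW' hW'le hW'0 using hW'
  let W₂ : X.Opens := S.inf W' ⊓ W₁
  have hxW₂ : x ∈ W₂ := ⟨mem_finset_inf W' x hxW' S, hxW₁⟩
  obtain ⟨f, hfW, hxf⟩ := hU.exists_basicOpen_le ⟨x, hxW₂⟩ hxU
  have hDU : X.basicOpen f ≤ U := X.basicOpen_le f
  have hDW₁ : X.basicOpen f ≤ W₁ := hfW.trans inf_le_right
  letI := moduleRes G hDU
  let tD : Fin n → Γ(G, X.basicOpen f) := fun i =>
    G.presheaf.map (homOfLE (hDW₁.trans (hW₁i i))).op (t i)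
  let ρ : (Fin n → Γ(X, U)) →ₗ[Γ(X, U)] Γ(G, X.basicOpen f) := Fintype.linearCombination Γ(X, U) tD
  have hρc : ∀ r, ρ r = G.presheaf.map (homOfLE hDW₁).op (c r) := by
    intro r
    change Fintype.linearCombination Γ(X, U) tD r = G.presheaf.map (homOfLE hDW₁).op
      (∑ i, X.presheaf.map (homOfLE hW₁U).op (r i) • G.presheaf.map (homOfLE (hW₁i i)).op (t i))
    rw [Fintype.linearCombination_apply, map_sum]
    refine Finset.sum_congr rfl fun i _ => ?_
    rw [Scheme.Modules.map_smul]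
    change X.presheaf.map (homOfLE hDU).op (r i) • tD i = _
    congr 1
    · rw [← ConcreteCategory.comp_apply, ← Functor.map_comp]
      rfl
    · rw [← ConcreteCategory.comp_apply, ← Functor.map_comp]
      rfl
  have hle : LinearMap.ker π ≤ LinearMap.ker ρ := by
    rw [← hS, Submodule.span_le]
    intro r hr
    have hr0 : π r = 0 := by
      have h1 : r ∈ Submodule.span Γ(X, U) (S : Set (Fin n → Γ(X, U))) := Submodule.subset_span hr
      rw [hS] at h1
      exact h1
    have hDW' : X.basicOpen f ≤ W' r := hfW.trans (inf_le_left.trans (Finset.inf_le hr))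
    rw [SetLike.mem_coe, LinearMap.mem_ker, hρc]
    have e := congrArg (G.presheaf.map (homOfLE hDW').op) (hW'0 r hr0)
    rw [map_zero, ← ConcreteCategory.comp_apply, ← Functor.map_comp] at e
    exact e
  let lam : Γ(F, U) →ₗ[Γ(X, U)] Γ(G, X.basicOpen f) :=
    (LinearMap.ker π).liftQ ρ hle ∘ₗ (π.quotKerEquivOfSurjective hπ).symm.toLinearMap
  have hlam : ∀ r, lam (π r) = ρ r := by
    intro r
    have h1 : (π.quotKerEquivOfSurjective hπ).symm (π r) = (LinearMap.ker π).mkQ r := by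
      rw [LinearEquiv.symm_apply_eq]
      rfl
    change (LinearMap.ker π).liftQ ρ hle ((π.quotKerEquivOfSurjective hπ).symm (π r)) = ρ r
    rw [h1]
    rfl
  obtain ⟨g, hg⟩ := exists_section_of_semilinear F G hU (X.basicOpen f) hDU lam (map_add lam)
    (fun r m => by rw [map_smul]; rfl)
  refine ⟨(RefHull.homSh F G).presheaf.germ (X.basicOpen f) x hxf g, ?_⟩
  rw [RefHull.evalStalk_germ]
  refine LinearMap.ext fun v => ?_
  obtain ⟨a, m, hxa, ham⟩ := exists_smul_eq_germ hU F x hxU v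
  obtain ⟨r, rfl⟩ := hπ m
  have hua : IsUnit (X.presheaf.germ U x hxU a) := (Scheme.mem_basicOpen X a x hxU).1 hxa
  have key : g.1 ⟨x, hxf⟩ (F.presheaf.germ U x hxU (π r)) = h (F.presheaf.germ U x hxU (π r)) := by
    rw [hg x hxf, hlam, hρc, TopCat.Presheaf.germ_res_apply, hcgerm]
  have e1 := congrArg (g.1 ⟨x, hxf⟩) ham
  rw [map_smul] at e1
  have e2 := congrArg h ham
  rw [map_smul] at e2
  exact hua.smul_left_cancel.1 (e1.trans (key.trans e2.symm))

theorem evalStalk_bijective_of_isFP (F G : X.Modules) (hF : CohB1.IsFP F) (x : X) :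
    Function.Bijective (RefHull.evalStalk F G x) := by
  haveI : SheafOfModules.IsFinitePresentation (R := X.ringCatSheaf) F := hF
  have hFT : CohB1.IsFT F := inferInstance
  exact ⟨Groth.Agent.Lib.Helper8RefHullFT.evalStalk_injective_of_isFT F G hFT x,
    evalStalk_surjective_of_isFP F G hF x⟩

end Groth.Agent.Lib.Helper8RefHullFP
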