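import Mathlib
import Groth.Prelude
import Groth.Agent.Lib.Helper13ModGlue
set_option backward.isDefEq.respectTransparency.types false

/-!
# Sections of the sheaf Hom act on sections (helper2, round 2)

For the sheaf Hom `RefHull.homSh F G` of the prelude (sections = admissible families of stalk maps):

* `actSec h hVU m` : for `h ∈ Γ(𝓗om(F,G), U)`, `V ≤ U`, `m ∈ Γ(F, V)`, the section `h(m) ∈ Γ(G, V)`, characterized by
  its germs (`germ_actSec`, `actSec_unique`); additivity, linearity, compatibility with restrictions.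
* `sec_ext` : sections of the sheaf Hom are determined by their action.
* `toHom : Γ(𝓗om(F,G), ⊤) → (F ⟶ G)`, inverse to `RefHull.ofHom · ⊤` (`homEquiv`).
-/

set_option autoImplicit false
set_option linter.style.haveILetI false
set_option linter.unusedSectionVars false
universe u

open CategoryTheory CategoryTheory.Limits AlgebraicGeometry TopologicalSpace Opposite

noncomputable section

namespace Groth.Agent.Lib.R2H2.HomShA

open RefHull Groth.Agent.Lib.Helper6

variable {X : Scheme.{u}}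

/-- sections of a module are determined by their germs -/
theorem sec_ext_germ (G : X.Modules) {U : X.Opens} (s t : Γ(G, U))
    (h : ∀ (x : X) (hx : x ∈ U), G.presheaf.germ U x hx s = G.presheaf.germ U x hx t) : s = t :=
  TopCat.Presheaf.section_ext ⟨G.presheaf, G.isSheaf⟩ U s t h

variable {F G : X.Modules}

/-- existence and uniqueness of the value of a section of the sheaf Hom on a section -/
theorem existsUnique_actSec {U : X.Opens} (h : Γ(homSh F G, U)) {V : X.Opens} (hVU : V ≤ U)
    (m : Γ(F, V)) :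
    ∃! n : Γ(G, V), ∀ (x : X) (hx : x ∈ V),
      G.presheaf.germ V x hx n = h.1 ⟨x, hVU hx⟩ (F.presheaf.germ V x hx m) := by
  have hloc := isLocSect_of_mem h V (homOfLE hVU) m
  choose W hxW j n hn using hloc
  have hcompat : TopCat.Presheaf.IsCompatible G.presheaf W n := by
    intro x x'
    apply sec_ext_germ
    intro y hy
    rw [TopCat.Presheaf.germ_res_apply, TopCat.Presheaf.germ_res_apply]
    exact ((hn x ⟨y, hy.1⟩).symm.trans (hn x' ⟨y, hy.2⟩))
  have hcover : V ≤ iSup W := fun x hx => Opens.mem_iSup.2 ⟨⟨x, hx⟩, hxW ⟨x, hx⟩⟩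
  obtain ⟨s, hs, -⟩ := TopCat.Sheaf.existsUnique_gluing' ⟨G.presheaf, G.isSheaf⟩ W V j hcover n hcompat
  refine ⟨s, fun x hx => ?_, fun t ht => ?_⟩
  · have h1 := hs ⟨x, hx⟩
    have h2 := hn ⟨x, hx⟩ ⟨x, hxW ⟨x, hx⟩⟩
    have h3 : G.presheaf.germ V x hx s =
        G.presheaf.germ (W ⟨x, hx⟩) x (hxW ⟨x, hx⟩) (G.presheaf.map (j ⟨x, hx⟩).op s) :=
      (TopCat.Presheaf.germ_res_apply G.presheaf (j ⟨x, hx⟩) x (hxW ⟨x, hx⟩) s).symm
    rw [h3]
    exact (congrArg (G.presheaf.germ (W ⟨x, hx⟩) x (hxW ⟨x, hx⟩)) h1).trans h2.symm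
  · apply sec_ext_germ
    intro x hx
    rw [ht x hx]
    have h1 := hs ⟨x, hx⟩
    have h2 := hn ⟨x, hx⟩ ⟨x, hxW ⟨x, hx⟩⟩
    have h3 : G.presheaf.germ V x hx s =
        G.presheaf.germ (W ⟨x, hx⟩) x (hxW ⟨x, hx⟩) (G.presheaf.map (j ⟨x, hx⟩).op s) :=
      (TopCat.Presheaf.germ_res_apply G.presheaf (j ⟨x, hx⟩) x (hxW ⟨x, hx⟩) s).symm
    rw [h3]
    exact h2.trans (congrArg (G.presheaf.germ (W ⟨x, hx⟩) x (hxW ⟨x, hx⟩)) h1).symm

/-- the value `h(m)` of a section `h` of the sheaf Hom over `U` on a section `m` of `F` over `V ≤ U` -/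
def actSec {U : X.Opens} (h : Γ(homSh F G, U)) {V : X.Opens} (hVU : V ≤ U) (m : Γ(F, V)) : Γ(G, V) :=
  (existsUnique_actSec h hVU m).exists.choose

theorem germ_actSec {U : X.Opens} (h : Γ(homSh F G, U)) {V : X.Opens} (hVU : V ≤ U) (m : Γ(F, V))
    (x : X) (hx : x ∈ V) :
    G.presheaf.germ V x hx (actSec h hVU m) = h.1 ⟨x, hVU hx⟩ (F.presheaf.germ V x hx m) :=
  (existsUnique_actSec h hVU m).exists.choose_spec x hx

theorem actSec_unique {U : X.Opens} (h : Γ(homSh F G, U)) {V : X.Opens} (hVU : V ≤ U) (m : Γ(F, V))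
    (n : Γ(G, V)) (hn : ∀ (x : X) (hx : x ∈ V),
      G.presheaf.germ V x hx n = h.1 ⟨x, hVU hx⟩ (F.presheaf.germ V x hx m)) :
    n = actSec h hVU m := by
  apply sec_ext_germ
  intro x hx
  rw [hn x hx, germ_actSec]

section Lemmas

variable {U : X.Opens} (h h' : Γ(homSh F G, U)) {V : X.Opens} (hVU : V ≤ U)

theorem actSec_add (m m' : Γ(F, V)) :
    actSec h hVU (m + m') = actSec h hVU m + actSec h hVU m' := by
  symm
  apply actSec_unique
  intro x hx
  rw [map_add, map_add, map_add, germ_actSec, germ_actSec]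

theorem actSec_zero : actSec h hVU (0 : Γ(F, V)) = 0 := by
  symm
  apply actSec_unique
  intro x hx
  rw [map_zero, map_zero, map_zero]

theorem actSec_smul (r : Γ(X, V)) (m : Γ(F, V)) :
    actSec h hVU (r • m) = r • actSec h hVU m := by
  symm
  apply actSec_unique
  intro x hx
  rw [Mero.germ_smul, Mero.germ_smul, map_smul, germ_actSec]

theorem actSec_res {V' : X.Opens} (hV' : V' ≤ V) (m : Γ(F, V)) :
    res G hV' (actSec h hVU m) = actSec h (hV'.trans hVU) (res F hV' m) := by
  apply actSec_unique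
  intro x hx
  have h1 : G.presheaf.germ V' x hx (res G hV' (actSec h hVU m)) =
      G.presheaf.germ V x (hV' hx) (actSec h hVU m) :=
    TopCat.Presheaf.germ_res_apply G.presheaf (homOfLE hV') x hx _
  have h2 : F.presheaf.germ V' x hx (res F hV' m) = F.presheaf.germ V x (hV' hx) m :=
    TopCat.Presheaf.germ_res_apply F.presheaf (homOfLE hV') x hx _
  rw [h1, h2, germ_actSec]

theorem actSec_res_left {U' : X.Opens} (hU' : U' ≤ U) (hVU' : V ≤ U') (m : Γ(F, V)) :
    actSec (res (homSh F G) hU' h) hVU' m = actSec h (hVU'.trans hU') m := by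
  symm
  apply actSec_unique
  intro x hx
  rw [germ_actSec]
  rfl

theorem actSec_add_left (m : Γ(F, V)) :
    actSec (h + h') hVU m = actSec h hVU m + actSec h' hVU m := by
  symm
  apply actSec_unique
  intro x hx
  rw [map_add, germ_actSec, germ_actSec]
  rfl

theorem actSec_zero_left (m : Γ(F, V)) : actSec (0 : Γ(homSh F G, U)) hVU m = 0 := by
  symm
  apply actSec_unique
  intro x hx
  rw [map_zero]
  rfl

theorem actSec_smul_left (r : Γ(X, U)) (m : Γ(F, V)) :
    actSec (r • h) hVU m = resf hVU r • actSec h hVU m := by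
  symm
  apply actSec_unique
  intro x hx
  rw [Mero.germ_smul, germ_actSec]
  have h1 : X.presheaf.germ V x hx (resf hVU r) = X.presheaf.germ U x (hVU hx) r :=
    TopCat.Presheaf.germ_res_apply X.presheaf (homOfLE hVU) x hx r
  rw [h1]
  rfl

theorem actSec_ofHom (φ : F ⟶ G) (m : Γ(F, V)) :
    actSec (ofHom φ U) hVU m = φ.app V m := by
  symm
  apply actSec_unique
  intro x hx
  exact (stalkMapₗ_germ φ x hx m).symm

end Lemmas

/-- sections of the sheaf Hom are determined by their action on sections -/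
theorem sec_ext {U : X.Opens} (h h' : Γ(homSh F G, U))
    (e : ∀ (V : X.Opens) (hVU : V ≤ U) (m : Γ(F, V)), actSec h hVU m = actSec h' hVU m) : h = h' := by
  apply Subtype.ext
  funext x
  apply LinearMap.ext
  intro v
  obtain ⟨V₀, hxV₀, m₀, rfl⟩ := TopCat.Presheaf.exists_germ_eq F.presheaf v
  have hle : V₀ ⊓ U ≤ V₀ := inf_le_left
  have hle' : V₀ ⊓ U ≤ U := inf_le_right
  have hx : x.1 ∈ V₀ ⊓ U := ⟨hxV₀, x.2⟩
  have h2 : F.presheaf.germ (V₀ ⊓ U) x.1 hx (res F hle m₀) = F.presheaf.germ V₀ x.1 hxV₀ m₀ :=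
    TopCat.Presheaf.germ_res_apply F.presheaf (homOfLE hle) x.1 hx _
  rw [← h2]
  have e1 := germ_actSec h hle' (res F hle m₀) x.1 hx
  have e2 := germ_actSec h' hle' (res F hle m₀) x.1 hx
  rw [e _ hle' _] at e1
  exact e1.symm.trans e2

section ToHom

/-- the homomorphism defined by a global section of the sheaf Hom -/
def toHom (h : Γ(homSh F G, ⊤)) : F ⟶ G :=
  ⟨PresheafOfModules.homMk
    { app := fun U => AddCommGrpCat.ofHom
        { toFun := fun m => actSec h (le_top : U.unop ≤ ⊤) m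
          map_zero' := actSec_zero h _
          map_add' := actSec_add h _ }
      naturality := fun {U V} i => by
        ext s
        change actSec h _ (F.presheaf.map i s) = G.presheaf.map i (actSec h _ s)
        exact (actSec_res h le_top (leOfHom i.unop) s).symm }
    (fun U r s => actSec_smul h le_top r s)⟩

theorem toHom_app (h : Γ(homSh F G, ⊤)) (V : X.Opens) (m : Γ(F, V)) :
    (toHom h).app V m = actSec h le_top m := rfl

theorem ofHom_toHom (h : Γ(homSh F G, ⊤)) : ofHom (toHom h) ⊤ = h := by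
  apply sec_ext
  intro V hVU m
  rw [actSec_ofHom, toHom_app]

theorem toHom_ofHom (φ : F ⟶ G) : toHom (ofHom φ ⊤) = φ := by
  apply Scheme.Modules.hom_ext
  intro V
  ext m
  rw [toHom_app, actSec_ofHom]

/-- homomorphisms are the global sections of the sheaf Hom -/
def homEquiv : (F ⟶ G) ≃ Γ(homSh F G, ⊤) where
  toFun φ := ofHom φ ⊤
  invFun := toHom
  left_inv := toHom_ofHom
  right_inv := ofHom_toHom

theorem toHom_add (h h' : Γ(homSh F G, ⊤)) : toHom (h + h') = toHom h + toHom h' := by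
  apply Scheme.Modules.hom_ext
  intro V
  ext m
  rw [toHom_app, actSec_add_left]
  rfl

end ToHom

end Groth.Agent.Lib.R2H2.HomShA
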