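import Mathlib
import Groth.Prelude
import Groth.Agent.Lib.R2H2HomShA
import Groth.Agent.Lib.Helper8RefHullFP
set_option backward.isDefEq.respectTransparency.types false

/-!
# Sections of the sheaf Hom over affine opens (helper2, round 2)

* `secLin U h : Γ(F, U) →ₗ[Γ(X, U)] Γ(G, U)` for `h ∈ Γ(𝓗om(F, G), U)`; `affLin U` (linear in `h`).
* `affEquiv hU : Γ(𝓗om(F, G), U) ≃ₗ[Γ(X, U)] (Γ(F, U) →ₗ[Γ(X, U)] Γ(G, U))` for `U` affine and `F` quasi-coherent.
* `secLin_res` : compatibility with restrictions.
-/

set_option autoImplicit false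
set_option linter.style.haveILetI false
set_option linter.unusedSectionVars false
universe u

open CategoryTheory CategoryTheory.Limits AlgebraicGeometry TopologicalSpace Opposite

noncomputable section

namespace Groth.Agent.Lib.R2H2.HomShB

open RefHull Groth.Agent.Lib.Helper6 Groth.Agent.Lib.R2H2.HomShA Groth.Agent.Lib.Helper2.FlatOver
  Groth.Agent.Helper13ModGlue

variable {X : Scheme.{u}} {F G : X.Modules}

/-- the linear map on sections over `U` defined by a section of the sheaf Hom over `U` -/
def secLin (U : X.Opens) (h : Γ(homSh F G, U)) : Γ(F, U) →ₗ[Γ(X, U)] Γ(G, U) where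
  toFun m := actSec h le_rfl m
  map_add' := actSec_add h le_rfl
  map_smul' r m := actSec_smul h le_rfl r m

theorem secLin_apply (U : X.Opens) (h : Γ(homSh F G, U)) (m : Γ(F, U)) :
    secLin U h m = actSec h le_rfl m := rfl

/-- `secLin`, linear in the section of the sheaf Hom -/
def affLin (U : X.Opens) : Γ(homSh F G, U) →ₗ[Γ(X, U)] (Γ(F, U) →ₗ[Γ(X, U)] Γ(G, U)) where
  toFun := secLin U
  map_add' h h' := LinearMap.ext fun m => actSec_add_left h h' le_rfl m
  map_smul' r h := LinearMap.ext fun m => by
    change actSec (r • h) le_rfl m = r • actSec h le_rfl m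
    rw [actSec_smul_left, resf_self]

theorem affLin_apply (U : X.Opens) (h : Γ(homSh F G, U)) : affLin U h = secLin U h := rfl

/-- compatibility with restrictions -/
theorem secLin_res {U V : X.Opens} (hVU : V ≤ U) (h : Γ(homSh F G, U)) (m : Γ(F, U)) :
    secLin V (res (homSh F G) hVU h) (res F hVU m) = res G hVU (secLin U h m) := by
  rw [secLin_apply, secLin_apply, actSec_res_left h hVU le_rfl, actSec_res h le_rfl hVU]

theorem affLin_injective {U : X.Opens} (hU : IsAffineOpen U) [F.IsQuasicoherent] :
    Function.Injective (affLin (F := F) (G := G) U) := by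
  intro h h' e
  apply Subtype.ext
  funext x
  apply LinearMap.ext
  intro v
  letI := moduleStalkSections F U x.1 x.2
  haveI := isLocalizedModule_germ hU F x.1 x.2
  obtain ⟨⟨m, s⟩, hs⟩ := IsLocalizedModule.surj (hU.primeIdealOf ⟨x.1, x.2⟩).asIdeal.primeCompl
    (germₗ F U x.1 x.2) v
  have hs' : X.presheaf.germ U x.1 x.2 s.1 • v = F.presheaf.germ U x.1 x.2 m := hs
  have hu : IsUnit (X.presheaf.germ U x.1 x.2 s.1) := by
    rw [← Scheme.mem_basicOpen X s.1 x.1 x.2,
      Groth.Agent.Lib.Helper2.mem_basicOpen_iff_notMem_primeIdealOf hU x.1 x.2]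
    exact s.2
  have e1 : X.presheaf.germ U x.1 x.2 s.1 • h.1 x v = X.presheaf.germ U x.1 x.2 s.1 • h'.1 x v := by
    rw [← map_smul, ← map_smul, hs', ← germ_actSec h le_rfl m x.1 x.2,
      ← germ_actSec h' le_rfl m x.1 x.2]
    have e2 : actSec h le_rfl m = actSec h' le_rfl m := LinearMap.congr_fun e m
    rw [e2]
  exact hu.smul_left_cancel.mp e1

theorem affLin_surjective {U : X.Opens} (hU : IsAffineOpen U) [F.IsQuasicoherent] :
    Function.Surjective (affLin (F := F) (G := G) U) := by
  intro L
  obtain ⟨g, hg⟩ := Groth.Agent.Lib.Helper8RefHullFP.exists_section_of_semilinear F G hU U le_rfl L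
    (map_add L) (fun r m => by
      rw [map_smul]
      congr 1
      exact (resf_self le_rfl r).symm)
  refine ⟨g, LinearMap.ext fun m => ?_⟩
  symm
  exact actSec_unique g le_rfl m (L m) (fun x hx => (hg x hx m).symm)

/-- **sections of the sheaf Hom over an affine open are the linear maps between the modules of sections** -/
def affEquiv {U : X.Opens} (hU : IsAffineOpen U) [F.IsQuasicoherent] :
    Γ(homSh F G, U) ≃ₗ[Γ(X, U)] (Γ(F, U) →ₗ[Γ(X, U)] Γ(G, U)) :=
  LinearEquiv.ofBijective (affLin U) ⟨affLin_injective hU, affLin_surjective hU⟩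

theorem affEquiv_apply {U : X.Opens} (hU : IsAffineOpen U) [F.IsQuasicoherent]
    (h : Γ(homSh F G, U)) : affEquiv hU h = secLin U h := rfl

end Groth.Agent.Lib.R2H2.HomShB
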