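import Mathlib
import Groth.Prelude
import Groth.Agent.Lib.R2H2HomShB
import Groth.Agent.Lib.Helper2FPAff
import Groth.Agent.Lib.Helper23QCohLocal
import Groth.Agent.Lib.Helper23FinType2
set_option backward.isDefEq.respectTransparency.types false

/-!
# Coherence of the sheaf Hom (helper2, round 2)

* `isLocOn_homSh` : for `F` of finite presentation and `G` quasi-coherent, the sheaf Hom localizes on affine opens.
* `isQuasicoherent_homSh`, `isCoh_homSh` (locally Noetherian `X`, `F`, `G` coherent).
-/

set_option autoImplicit false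
set_option linter.style.haveILetI false
set_option linter.unusedSectionVars false
universe u

open CategoryTheory CategoryTheory.Limits AlgebraicGeometry TopologicalSpace Opposite

noncomputable section

namespace Groth.Agent.Lib.R2H2.HomShC

open RefHull Groth.Agent.Lib.Helper6 Groth.Agent.Lib.R2H2.HomShA Groth.Agent.Lib.R2H2.HomShB
  Groth.Agent.Lib.Helper2.FlatOver Groth.Agent.Helper13ModGlue Groth.Agent.Lib.Helper2.FPAff
  Groth.Agent.Lib.Helper2.Push

variable {X : Scheme.{u}} {F G : X.Modules}

/-- linear maps out of the sections over a basic open are determined by their values on restrictions -/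
theorem linearMap_ext_of_res {V : X.Opens} (hV : IsAffineOpen V) [F.IsQuasicoherent] (f : Γ(X, V))
    (L₁ L₂ : Γ(F, X.basicOpen f) →ₗ[Γ(X, X.basicOpen f)] Γ(G, X.basicOpen f))
    (h : ∀ m : Γ(F, V), L₁ (res F (X.basicOpen_le f) m) = L₂ (res F (X.basicOpen_le f) m)) :
    L₁ = L₂ := by
  apply LinearMap.ext
  intro m'
  obtain ⟨n, t, ht⟩ := Groth.Agent.Lib.Helper2.QCoh.exists_extension hV F f m'
  have hu : IsUnit ((X.presheaf.map (homOfLE (X.basicOpen_le f)).op f) ^ n) :=
    (RingedSpace.isUnit_res_basicOpen X.toRingedSpace f).pow n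
  have e := h t
  have ht' : res F (X.basicOpen_le f) t =
      (X.presheaf.map (homOfLE (X.basicOpen_le f)).op f) ^ n • m' := ht
  rw [ht', map_smul, map_smul] at e
  exact hu.smul_left_cancel.mp e

theorem isLocOn_homSh {V : X.Opens} (hV : IsAffineOpen V) [F.IsQuasicoherent] [G.IsQuasicoherent]
    [Module.FinitePresentation Γ(X, V) Γ(F, V)] : IsLocOn (homSh F G) V := by
  constructor
  · intro f s
    have hD : IsAffineOpen (X.basicOpen f) := hV.basicOpen f
    letI := moduleRes G (X.basicOpen_le f)
    haveI := isLocalizedModule_basicOpen G hV f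
    let g : Γ(F, V) →ₗ[Γ(X, V)] Γ(G, X.basicOpen f) :=
      { toFun := fun m => secLin (X.basicOpen f) s (res F (X.basicOpen_le f) m)
        map_add' := fun a b => by
          rw [show res F (X.basicOpen_le f) (a + b) = res F (X.basicOpen_le f) a +
            res F (X.basicOpen_le f) b from map_add _ _ _, map_add]
        map_smul' := fun r m => by
          rw [res_smul, map_smul]
          rfl }
    obtain ⟨t, c, hc⟩ := Module.FinitePresentation.exists_lift_of_isLocalizedModule
      (Submonoid.powers f) (resₗ G (X.basicOpen_le f)) g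
    obtain ⟨c, n, rfl⟩ := c
    refine ⟨n, (affEquiv hV).symm t, ?_⟩
    apply affLin_injective hD
    apply linearMap_ext_of_res hV f
    intro m
    have h1 : secLin V ((affEquiv hV).symm t) = t := (affEquiv hV).apply_symm_apply t
    have h2 := secLin_res (X.basicOpen_le f) ((affEquiv hV).symm t) m
    rw [h1] at h2
    have h3 : res G (X.basicOpen_le f) (t m) = f ^ n • g m := LinearMap.congr_fun hc m
    change secLin (X.basicOpen f) (res (homSh F G) (X.basicOpen_le f) ((affEquiv hV).symm t))
      (res F (X.basicOpen_le f) m) = _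
    rw [h2, h3, map_smul]
    change _ = ((X.presheaf.map (homOfLE (X.basicOpen_le f)).op f) ^ n •
      secLin (X.basicOpen f) s) (res F (X.basicOpen_le f) m)
    rw [LinearMap.smul_apply, ← map_pow]
    rfl
  · intro f T hT
    letI := moduleRes G (X.basicOpen_le f)
    haveI := isLocalizedModule_basicOpen G hV f
    haveI : Module.Finite Γ(X, V) Γ(F, V) := inferInstance
    have hcomp : (resₗ G (X.basicOpen_le f)).comp (secLin V T) =
        (resₗ G (X.basicOpen_le f)).comp (0 : Γ(F, V) →ₗ[Γ(X, V)] Γ(G, V)) := by
      apply LinearMap.ext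
      intro m
      have h2 := secLin_res (X.basicOpen_le f) T m
      have hT' : res (homSh F G) (X.basicOpen_le f) T = 0 := hT
      rw [hT'] at h2
      change res G (X.basicOpen_le f) (secLin V T m) = res G (X.basicOpen_le f) 0
      rw [← h2, show res G (X.basicOpen_le f) (0 : Γ(G, V)) = 0 from map_zero _]
      exact actSec_zero_left le_rfl _
    obtain ⟨c, hc⟩ := Module.Finite.exists_smul_of_comp_eq_of_isLocalizedModule
      (Submonoid.powers f) (resₗ G (X.basicOpen_le f)) (secLin V T) 0 hcomp
    obtain ⟨c, n, rfl⟩ := c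
    refine ⟨n, ?_⟩
    apply affLin_injective hV
    rw [map_smul, map_zero]
    have h4 : f ^ n • secLin V T = f ^ n • (0 : Γ(F, V) →ₗ[Γ(X, V)] Γ(G, V)) := hc
    rw [smul_zero] at h4
    exact h4

section Coherent

open Groth.Agent.Lib.Helper23.QCohLocal Groth.Agent.Lib.Helper23.FinType

variable [IsLocallyNoetherian X]

/-- **the sheaf Hom of coherent modules on a locally Noetherian scheme is coherent** -/
theorem isCoh_homSh (hF : Coh.IsCoh F) (hG : Coh.IsCoh G) : Coh.IsCoh (homSh F G) := by
  haveI := hF.1
  haveI := hG.1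
  haveI := hF.2
  haveI := hG.2
  have hfin : ∀ (M : X.Modules) [M.IsQuasicoherent]
      [SheafOfModules.IsFiniteType (R := X.ringCatSheaf) M] (V : X.Opens) (hV : IsAffineOpen V),
      Module.Finite Γ(X, V) Γ(M, V) := fun M _ _ V hV => finite_of_isFiniteType M hV
  have hq : (homSh F G).IsQuasicoherent := by
    apply isQuasicoherent_of_isLocOn
    intro V hV
    haveI : IsNoetherianRing Γ(X, V) := IsLocallyNoetherian.component_noetherian ⟨V, hV⟩
    haveI := hfin F V hV
    haveI : Module.FinitePresentation Γ(X, V) Γ(F, V) := Module.finitePresentation_of_finite _ _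
    exact isLocOn_homSh hV
  refine ⟨hq, ?_⟩
  haveI := hq
  rw [isFiniteType_iff_forall_affine]
  intro V hV
  haveI : IsNoetherianRing Γ(X, V) := IsLocallyNoetherian.component_noetherian ⟨V, hV⟩
  haveI := hfin F V hV
  haveI := hfin G V hV
  haveI : IsNoetherian Γ(X, V) Γ(G, V) := isNoetherian_of_isNoetherianRing_of_finite _ _
  haveI : Module.Finite Γ(X, V) (Γ(F, V) →ₗ[Γ(X, V)] Γ(G, V)) := inferInstance
  exact Module.Finite.equiv (affEquiv (F := F) (G := G) hV).symm

/-- the support of the sheaf Hom -/
theorem support_homSh_subset (hF : CohB1.IsFT F) :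
    CohB1.support (homSh F G) ⊆ CohB1.support F ∩ CohB1.support G := by
  intro x hx
  have hinj := Groth.Agent.Lib.Helper8RefHullFT.evalStalk_injective_of_isFT F G hF x
  constructor
  · intro hsub
    apply hx
    refine ⟨fun a b => hinj ?_⟩
    apply LinearMap.ext
    intro v
    rw [Subsingleton.elim v 0, map_zero, map_zero]
  · intro hsub
    apply hx
    refine ⟨fun a b => hinj ?_⟩
    apply LinearMap.ext
    intro v
    exact Subsingleton.elim _ _

end Coherent

end Groth.Agent.Lib.R2H2.HomShC
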