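import Mathlib
import Groth.Prelude
import Groth.Agent.Lib.R2H2HomShC
import Groth.Agent.Lib.R2H2HHLin
import Groth.Agent.Lib.Helper6QCohQcqs
import Groth.Agent.Lib.Helper26ModLocFree
import Groth.Agent.Lib.H6xResPropA

/-!
# Annihilation of the cohomology of finite locally free modules (helper6)

Stacks-style argument: on a qcqs scheme `Y`, if `Y_f` is affine and `F` is finite locally free then
`f^K • id_F` factors through a finite free module.
-/

set_option backward.isDefEq.respectTransparency.types false
set_option autoImplicit false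
set_option linter.style.haveILetI false
universe u

open CategoryTheory CategoryTheory.Limits AlgebraicGeometry TopologicalSpace Opposite

noncomputable section

namespace Groth.Agent.Lib.H6xAnnFLF

open RefHull Groth.Agent.Lib.Helper6 Groth.Agent.Lib.R2H2.HomShA Groth.Agent.Lib.R2H2.HomShB
  Groth.Agent.Lib.R2H2.HomShC Groth.Agent.Lib.R2H2.HHLin

variable {Y : Scheme.{u}}

/-- the family of restrictions of a global section -/
def secFam (F : Y.Modules) (s : Γ(F, ⊤)) : F.val.sections :=
  PresheafOfModules.sectionsMk (fun U => F.val.map (homOfLE le_top : U.unop ⟶ ⊤).op s)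
    (fun U V f => by
      rw [← PresheafOfModules.map_comp_apply]
      rfl)

/-- the morphism `O ⟶ F` defined by a global section -/
def secMor (F : Y.Modules) (s : Γ(F, ⊤)) : Coh.structureModule Y ⟶ F :=
  F.unitHomEquiv.symm (secFam F s)

theorem secMor_app_one (F : Y.Modules) (s : Γ(F, ⊤)) (V : Y.Opens) :
    (secMor F s).app V (1 : Γ(Y, V)) = res F le_top s := by
  have h := F.unitHomEquiv.apply_symm_apply (secFam F s)
  have h2 : (F.unitHomEquiv (F.unitHomEquiv.symm (secFam F s))).val (op V) =
      (secFam F s).val (op V) := congrArg (fun t => t.val (op V)) h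
  rw [SheafOfModules.unitHomEquiv_apply_coe] at h2
  exact h2

theorem secMor_app (F : Y.Modules) (s : Γ(F, ⊤)) (V : Y.Opens) (r : Γ(Y, V)) :
    (secMor F s).app V r = r • res F le_top s := by
  rw [← secMor_app_one F s V]
  have h := Scheme.Modules.Hom.app_smul (secMor F s) r (1 : Γ(Y, V))
  rw [← h]
  congr 1
  exact (mul_one r).symm

/-- the sheaf Hom out of a finite locally free module is quasi-coherent -/
theorem isQuasicoherent_homSh (F G : Y.Modules) (hF : FlatMod.IsFinLocFree F)
    [G.IsQuasicoherent] : (homSh F G).IsQuasicoherent := by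
  haveI : F.IsQuasicoherent := Groth.Agent.Lib.H6xResProp.isQuasicoherent_of_isFinLocFree F hF
  haveI : SheafOfModules.IsFinitePresentation (R := Y.ringCatSheaf) F :=
    Groth.Agent.Lib.Helper2.LocFree.isFP_of_isFinLocFree F hF
  apply Groth.Agent.Lib.Helper23.QCohLocal.isQuasicoherent_of_isLocOn
  intro V hV
  haveI : Module.FinitePresentation Γ(Y, V) Γ(F, V) :=
    Groth.Agent.Lib.Helper2.FPAff.finitePresentation_sections F hV
  exact isLocOn_homSh hV

/-- sections of a finite locally free module over an affine open are finite projective -/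
theorem projective_sections (F : Y.Modules) (hF : FlatMod.IsFinLocFree F) {V : Y.Opens}
    (hV : IsAffineOpen V) : Module.Finite Γ(Y, V) Γ(F, V) ∧ Module.Projective Γ(Y, V) Γ(F, V) := by
  haveI : F.IsQuasicoherent := Groth.Agent.Lib.H6xResProp.isQuasicoherent_of_isFinLocFree F hF
  haveI : SheafOfModules.IsFinitePresentation (R := Y.ringCatSheaf) F :=
    Groth.Agent.Lib.Helper2.LocFree.isFP_of_isFinLocFree F hF
  haveI h1 : Module.FinitePresentation Γ(Y, V) Γ(F, V) :=
    Groth.Agent.Lib.Helper2.FPAff.finitePresentation_sections F hV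
  haveI h2 : Module.Flat Γ(Y, V) Γ(F, V) :=
    Groth.Agent.Lib.Helper2.LocFree.flat_sections_of_isFlatAt F hV
      (fun x _ => Groth.Agent.Lib.Helper2.LocFree.isFlat_of_isFinLocFree F hF x)
  exact ⟨inferInstance, Module.Flat.projective_of_finitePresentation⟩

/-- dual basis lemma for finite projective modules -/
theorem exists_dual_basis (R P : Type u) [CommRing R] [AddCommGroup P] [Module R P]
    [Module.Finite R P] [Module.Projective R P] :
    ∃ (n : ℕ) (p : Fin n → P) (β : Fin n → (P →ₗ[R] R)), ∀ m : P, ∑ i, β i m • p i = m := by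
  obtain ⟨n, p, hp⟩ := Module.Finite.exists_fin (R := R) (M := P)
  have hsurj : Function.Surjective (Fintype.linearCombination R p) := by
    rw [← LinearMap.range_eq_top, Fintype.range_linearCombination, hp]
  obtain ⟨σ, hσ⟩ := Module.projective_lifting_property (Fintype.linearCombination R p)
    LinearMap.id hsurj
  refine ⟨n, p, fun i => (LinearMap.proj i).comp σ, fun m => ?_⟩
  have h := LinearMap.congr_fun hσ m
  rw [LinearMap.comp_apply, Fintype.linearCombination_apply] at h
  exact h

theorem abMap_toHom_smul {F G : Y.Modules} (r : Γ(Y, ⊤)) (h : Γ(homSh F G, ⊤)) :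
    abMap (toHom (r • h)) = abMap (toHom h) ≫ Coh.smulAb G (r : Coh.Γtop Y) := by
  apply Sheaf.hom_ext
  apply NatTrans.ext
  funext U
  ext m
  change (toHom (r • h)).app U.unop m = (Coh.smulAb G r).hom.app U ((toHom h).app U.unop m)
  rw [toHom_app, actSec_smul_left, Coh.smulAb_app, toHom_app]
  rfl

theorem HmapL_toHom_smul {F G : Y.Modules} (r : Γ(Y, ⊤)) (h : Γ(homSh F G, ⊤)) (p : ℕ)
    (x : Coh.HH Y F p) :
    HmapL (toHom (r • h)) p x = (r : Coh.Γtop Y) • HmapL (toHom h) p x := by
  rw [HmapL_apply, HmapL_apply, abMap_toHom_smul, Sheaf.H.map_comp_apply]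
  rfl

/-- uniform extension of finitely many sections over `Y_f` -/
theorem exists_uniform_extension (Y : Scheme.{u}) [CompactSpace Y] [QuasiSeparatedSpace Y]
    (f : Γ(Y, ⊤)) (H : Y.Modules) [H.IsQuasicoherent] {n : ℕ}
    (t : Fin n → Γ(H, Y.basicOpen f)) :
    ∃ N : ℕ, ∀ i, ∃ s : Γ(H, ⊤), res H (le_top : Y.basicOpen f ≤ ⊤) s =
      (resf (le_top : Y.basicOpen f ≤ ⊤) f) ^ N • t i := by
  choose N _ s hs using fun i => exists_extension_top_of_qcqs Y f H (t i)
  refine ⟨Finset.univ.sup N, fun i => ⟨f ^ (Finset.univ.sup N - N i) • s i, ?_⟩⟩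
  have hle : N i ≤ Finset.univ.sup N := Finset.le_sup (Finset.mem_univ i)
  rw [res_smul, hs i, resf_pow, ← mul_smul, ← pow_add, Nat.sub_add_cancel hle]

/-- evaluation of morphisms at a section, as an additive map -/
def appHom {M N : Y.Modules} (W : Y.Opens) (m : Γ(M, W)) : (M ⟶ N) →+ Γ(N, W) where
  toFun φ := φ.app W m
  map_zero' := rfl
  map_add' _ _ := rfl

theorem sum_app {M N : Y.Modules} {ι : Type*} (s : Finset ι) (φ : ι → (M ⟶ N)) (W : Y.Opens)
    (m : Γ(M, W)) : (∑ i ∈ s, φ i).app W m = ∑ i ∈ s, (φ i).app W m :=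
  map_sum (appHom W m) φ s

end Groth.Agent.Lib.H6xAnnFLF
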