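import Mathlib
import Groth.Prelude
import Groth.Agent.Lib.H6xAnnFLFA

/-!
# Annihilation of the cohomology of finite locally free modules, core lemma (helper6)
-/

set_option backward.isDefEq.respectTransparency.types false
set_option autoImplicit false
set_option linter.style.haveILetI false
universe u

open CategoryTheory CategoryTheory.Limits AlgebraicGeometry TopologicalSpace Opposite

noncomputable section

namespace Groth.Agent.Lib.H6xAnnFLF

open RefHull Groth.Agent.Lib.Helper6 Groth.Agent.Lib.R2H2.HomShA Groth.Agent.Lib.R2H2.HomShB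
  Groth.Agent.Lib.R2H2.HomShC Groth.Agent.Lib.R2H2.HHLin Groth.Agent.Helper13ModGlue

variable {Y : Scheme.{u}}

theorem isQuasicoherent_structureModule (P : Scheme.{u}) :
    (Coh.structureModule P).IsQuasicoherent := by
  unfold Coh.structureModule
  have h : (SheafOfModules.free (R := P.ringCatSheaf) PUnit.{u+1}).IsQuasicoherent := inferInstance
  exact (SheafOfModules.isQuasicoherent P.ringCatSheaf).prop_of_iso
    (coproductUniqueIso (fun (_ : PUnit.{u+1}) ↦ SheafOfModules.unit P.ringCatSheaf)) h

/-- linear forms on sections as linear maps to the sections of the structure module -/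
def toStr {W : Y.Opens} {P : Type u} [AddCommGroup P] [Module Γ(Y, W) P]
    (β : P →ₗ[Γ(Y, W)] Γ(Y, W)) : P →ₗ[Γ(Y, W)] Γ(Coh.structureModule Y, W) where
  toFun m := β m
  map_add' a b := map_add β a b
  map_smul' r m := by
    rw [map_smul]
    rfl

theorem toStr_apply {W : Y.Opens} {P : Type u} [AddCommGroup P] [Module Γ(Y, W) P]
    (β : P →ₗ[Γ(Y, W)] Γ(Y, W)) (m : P) : (toStr β m : Γ(Y, W)) = β m := rfl

/-- **Key factorization.** On a qcqs scheme, if `Y_f` is affine and `F` is finite locally free,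
then a power of `f` times the identity of `F` factors through a finite free module, up to a power
of `f`. -/
theorem exists_factor (Y : Scheme.{u}) [CompactSpace Y] [QuasiSeparatedSpace Y] (F : Y.Modules)
    (hF : FlatMod.IsFinLocFree F) (f : Γ(Y, ⊤)) (hf : IsAffineOpen (Y.basicOpen f)) :
    ∃ (n K L : ℕ) (b : Fin n → (F ⟶ Coh.structureModule Y))
      (σ : Fin n → (Coh.structureModule Y ⟶ F)),
      f ^ L • ofHom (∑ i, b i ≫ σ i) ⊤ = f ^ K • ofHom (𝟙 F) ⊤ := by
  classical
  haveI : F.IsQuasicoherent := Groth.Agent.Lib.H6xResProp.isQuasicoherent_of_isFinLocFree F hF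
  haveI : (Coh.structureModule Y).IsQuasicoherent := isQuasicoherent_structureModule Y
  haveI := isQuasicoherent_homSh F (Coh.structureModule Y) hF
  haveI := isQuasicoherent_homSh F F hF
  obtain ⟨hfin, hproj⟩ := projective_sections F hF hf
  obtain ⟨n, pp, β, hβ⟩ := exists_dual_basis Γ(Y, Y.basicOpen f) Γ(F, Y.basicOpen f)
  obtain ⟨N, hN⟩ := exists_uniform_extension Y f F pp
  choose s hs using hN
  obtain ⟨N', hN'⟩ := exists_uniform_extension Y f (homSh F (Coh.structureModule Y))
    (fun i => (affEquiv hf).symm (toStr (β i)))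
  choose t ht using hN'
  set g := resf (le_top : Y.basicOpen f ≤ ⊤) f with hg
  -- the difference vanishes on `Y_f`
  set Δ : F ⟶ F := ∑ i, toHom (t i) ≫ secMor F (s i) with hΔ
  set D : Γ(homSh F F, ⊤) := ofHom Δ ⊤ + (-(f ^ (N + N'))) • ofHom (𝟙 F) ⊤ with hD
  have hres : res (homSh F F) (le_top : Y.basicOpen f ≤ ⊤) D = 0 := by
    apply affLin_injective hf
    rw [map_zero]
    apply LinearMap.ext
    intro m
    rw [affLin_apply, secLin_apply, actSec_res_left D le_top le_rfl m, hD, actSec_add_left,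
      actSec_smul_left, actSec_ofHom, actSec_ofHom, LinearMap.zero_apply]
    have h1 : Δ.app (Y.basicOpen f) m = g ^ (N + N') • m := by
      rw [hΔ, sum_app]
      have h2 : ∀ i, (toHom (t i) ≫ secMor F (s i)).app (Y.basicOpen f) m =
          g ^ (N + N') • (β i m • pp i) := by
        intro i
        change (secMor F (s i)).app (Y.basicOpen f) ((toHom (t i)).app (Y.basicOpen f) m) = _
        have h3 : (toHom (t i)).app (Y.basicOpen f) m = g ^ N' • toStr (β i) m := by
          rw [toHom_app, ← actSec_res_left (t i) le_top le_rfl m, ht i, actSec_smul_left,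
            resf_self]
          congr 1
          have h4 := (affEquiv (F := F) (G := Coh.structureModule Y) hf).apply_symm_apply
            (toStr (β i))
          rw [affEquiv_apply] at h4
          exact LinearMap.congr_fun h4 m
        rw [h3]
        have h5 := secMor_app F (s i) (Y.basicOpen f) (g ^ N' • toStr (β i) m)
        refine h5.trans ?_
        rw [hs i, smul_smul, smul_smul]
        congr 1
        change g ^ N' * β i m * g ^ N = g ^ (N + N') * β i m
        ring
      rw [Finset.sum_congr rfl (fun i _ => h2 i), ← Finset.smul_sum, hβ m]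
    rw [h1]
    have h6 : resf (le_top : Y.basicOpen f ≤ ⊤) (-(f ^ (N + N'))) = -(g ^ (N + N')) := by
      rw [hg]
      simp only [resf]
      rw [map_neg, map_pow]
    change g ^ (N + N') • m + resf le_top (-(f ^ (N + N'))) • m = 0
    rw [h6, neg_smul, add_neg_cancel]
  obtain ⟨L, -, hL⟩ := exists_pow_smul_eq_zero_top_of_compactSpace Y f (homSh F F) D hres
  refine ⟨n, N + N' + L, L, fun i => toHom (t i), fun i => secMor F (s i), ?_⟩
  rw [hD, smul_add, smul_smul, add_eq_zero_iff_eq_neg, ← neg_smul] at hL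
  rw [hL]
  congr 1
  ring

/-- **Annihilation.** If `c` kills `H^p(Y, O_Y)` then `f^K c` kills `H^p(Y, F)`. -/
theorem exists_pow_mul_kill (Y : Scheme.{u}) [CompactSpace Y] [QuasiSeparatedSpace Y]
    (F : Y.Modules) (hF : FlatMod.IsFinLocFree F) (f : Coh.Γtop Y)
    (hf : IsAffineOpen (Y.basicOpen (f : Γ(Y, ⊤)))) (p : ℕ) :
    ∃ K : ℕ, ∀ c : Coh.Γtop Y, (∀ y : Coh.HH Y (Coh.structureModule Y) p, c • y = 0) →
      ∀ x : Coh.HH Y F p, (f ^ K * c) • x = 0 := by
  obtain ⟨n, K, L, b, σ, h⟩ := exists_factor Y F hF (f : Γ(Y, ⊤)) hf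
  refine ⟨K, fun c hc x => ?_⟩
  have h1 : HmapL (toHom _) p x = HmapL (toHom _) p x :=
    congrArg (fun u : Γ(homSh F F, ⊤) => HmapL (toHom u) p x) h
  rw [HmapL_toHom_smul, HmapL_toHom_smul, toHom_ofHom, toHom_ofHom, HmapL_id] at h1
  have h2 : c • HmapL (∑ i, b i ≫ σ i) p x = 0 := by
    rw [HmapL_sum, Finset.smul_sum]
    apply Finset.sum_eq_zero
    intro i _
    rw [HmapL_comp, ← map_smul, hc, map_zero]
  have h3 : (f ^ K : Coh.Γtop Y) • x = (f ^ L : Coh.Γtop Y) • HmapL (∑ i, b i ≫ σ i) p x :=
    h1.symm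
  have hcomm : ∀ a b : Coh.Γtop Y, a * b = b * a := fun a b => mul_comm (G := Γ(Y, ⊤)) a b
  rw [hcomm, mul_smul, h3, ← mul_smul, hcomm, mul_smul, h2, smul_zero]

end Groth.Agent.Lib.H6xAnnFLF
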