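import Mathlib
import Groth.Prelude
import Groth.Agent.Lib.H6xAnnFLFB

/-!
# Annihilation of the cohomology of finite locally free modules on a punctured spectrum (helper6)
-/

set_option backward.isDefEq.respectTransparency.types false
set_option autoImplicit false
set_option linter.style.haveILetI false
universe u

open CategoryTheory CategoryTheory.Limits AlgebraicGeometry TopologicalSpace Opposite

noncomputable section

namespace Groth.Agent.Lib.H6xAnnFLF

variable (A : Type u) [CommRing A] (I : Ideal A)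

theorem compactSpace_puncturedOpen (hI : I.FG) :
    CompactSpace ↥(↑(LocCoh.puncturedOpen A I) : Scheme.{u}) := by
  have h : IsCompact ((LocCoh.puncturedOpen A I : (Spec (CommRingCat.of A)).Opens) :
      Set (Spec (CommRingCat.of A))) :=
    (PrimeSpectrum.isCompact_isOpen_iff_ideal.mpr ⟨I, hI, rfl⟩).1
  exact isCompact_iff_compactSpace.mp h

instance quasiSeparatedSpace_puncturedOpen :
    QuasiSeparatedSpace ↥(↑(LocCoh.puncturedOpen A I) : Scheme.{u}) :=
  quasiSeparatedSpace_of_quasiSeparated (LocCoh.puncturedOpen A I).ι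

/-- the image of `a ∈ I` in the global functions of the punctured spectrum has affine
non-vanishing locus -/
theorem isAffineOpen_basicOpen_toGlobal (a : A) (ha : a ∈ I) :
    IsAffineOpen ((↑(LocCoh.puncturedOpen A I) : Scheme.{u}).basicOpen
      (Coh.toGlobal (LocCoh.puncturedOpen A I).ι a : Γ(↑(LocCoh.puncturedOpen A I), ⊤))) := by
  have h1 : (↑(LocCoh.puncturedOpen A I) : Scheme.{u}).basicOpen
      (Coh.toGlobal (LocCoh.puncturedOpen A I).ι a : Γ(↑(LocCoh.puncturedOpen A I), ⊤)) =
      (LocCoh.puncturedOpen A I).ι ⁻¹ᵁ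
        (Spec (CommRingCat.of A)).basicOpen ((Scheme.ΓSpecIso (CommRingCat.of A)).inv a) :=
    (Scheme.preimage_basicOpen_top (LocCoh.puncturedOpen A I).ι _).symm
  rw [h1]
  refine ((isAffineOpen_top (Spec (CommRingCat.of A))).basicOpen _).preimage_of_isOpenImmersion
    (LocCoh.puncturedOpen A I).ι ?_
  rw [Scheme.Opens.opensRange_ι, basicOpen_eq_of_affine]
  intro x hx hx'
  exact hx (hx' ha)

/-- **Main theorem** (Stacks-type): if a power of `J ⊆ I` kills `H^p(U, O_U)`, `U = Spec A ∖ V(I)`,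
then for every finite locally free `F` on `U` some power of `J` kills `H^p(U, F)`. -/
theorem main (J : Ideal A) (hJI : J ≤ I) (hI : I.FG) (p n : ℕ)
    (hO : ∀ a ∈ J ^ n, ∀ x : Coh.HH (↑(LocCoh.puncturedOpen A I))
      (Coh.structureModule (↑(LocCoh.puncturedOpen A I))) p, a • x = 0)
    (F : (↑(LocCoh.puncturedOpen A I) : Scheme.{u}).Modules) (hF : FlatMod.IsFinLocFree F) :
    ∃ m : ℕ, ∀ a ∈ J ^ m, ∀ x : Coh.HH (↑(LocCoh.puncturedOpen A I)) F p, a • x = 0 := by
  classical
  haveI := compactSpace_puncturedOpen A I hI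
  have key : ∀ a : A, a ∈ I → ∃ K : ℕ, ∀ c ∈ J ^ n,
      ∀ x : Coh.HH (↑(LocCoh.puncturedOpen A I)) F p, (a ^ K * c) • x = 0 := by
    intro a ha
    obtain ⟨K, hK⟩ := exists_pow_mul_kill _ F hF (Coh.toGlobal (LocCoh.puncturedOpen A I).ι a)
      (isAffineOpen_basicOpen_toGlobal A I a ha) p
    refine ⟨K, fun c hc x => ?_⟩
    have h := hK (Coh.toGlobal (LocCoh.puncturedOpen A I).ι c) (fun y => hO c hc y) x
    change Coh.toGlobal (LocCoh.puncturedOpen A I).ι (a ^ K * c) • x = 0
    rw [map_mul, map_pow]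
    exact h
  choose! K hK using key
  obtain ⟨S, hS⟩ := hI
  set Kmax := S.sup K with hKmax
  set 𝔞 := Module.annihilator A (Coh.HH (↑(LocCoh.puncturedOpen A I)) F p) with h𝔞
  have h1 : Ideal.span ((fun a => a ^ Kmax) '' (S : Set A)) * J ^ n ≤ 𝔞 := by
    rw [Ideal.mul_le]
    intro r hr c hc
    induction hr using Submodule.span_induction with
    | mem r hr' =>
      obtain ⟨a, haS, rfl⟩ := hr'
      rw [h𝔞, Module.mem_annihilator]
      intro x
      have haI : a ∈ I := hS ▸ Ideal.subset_span haS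
      have hle : K a ≤ Kmax := Finset.le_sup haS
      have h3 : a ^ Kmax * c = a ^ (Kmax - K a) * (a ^ K a * c) := by
        rw [← mul_assoc, ← pow_add, Nat.sub_add_cancel hle]
      rw [h3, mul_smul, hK a haI c hc x, smul_zero]
    | zero => rw [zero_mul]; exact 𝔞.zero_mem
    | add r s _ _ hr hs => rw [add_mul]; exact 𝔞.add_mem hr hs
    | smul t r _ hr => rw [smul_eq_mul, mul_assoc]; exact 𝔞.mul_mem_left t hr
  have h2 : I ≤ (Ideal.span ((fun a => a ^ Kmax) '' (S : Set A))).radical := by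
    rw [← hS, Ideal.span_le]
    intro a ha
    exact ⟨Kmax, Ideal.subset_span ⟨a, ha, rfl⟩⟩
  obtain ⟨k, hk⟩ := Ideal.exists_pow_le_of_le_radical_of_fg h2 ⟨S, hS⟩
  refine ⟨k + n, fun a ha x => ?_⟩
  have h4 : a ∈ 𝔞 := by
    apply h1
    rw [pow_add] at ha
    exact Ideal.mul_mono ((Ideal.pow_right_mono hJI k).trans hk) le_rfl ha
  exact Module.mem_annihilator.mp h4 x

end Groth.Agent.Lib.H6xAnnFLF
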