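import Mathlib
set_option backward.isDefEq.respectTransparency.types false

/-!
# helper6: mates of a commutation isomorphism, independence of the adjunction data
-/

set_option autoImplicit false
set_option linter.style.haveILetI false
open CategoryTheory

namespace Groth.Agent.Lib.H6xBC

section Mates

variable {𝒜 𝒜' ℛ ℛ' : Type*} [Category 𝒜] [Category 𝒜'] [Category ℛ] [Category ℛ']
  {F : 𝒜 ⥤ ℛ} {F' : 𝒜' ⥤ ℛ'} {Lα : 𝒜 ⥤ 𝒜'} {Rα : 𝒜' ⥤ 𝒜} {Lρ : ℛ ⥤ ℛ'} {Rρ : ℛ' ⥤ ℛ}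
  (adjα : Lα ⊣ Rα) (adjρ : Lρ ⊣ Rρ) (c : Rα ⋙ F ⟶ F' ⋙ Rρ)

/-- the mate `Lρ F ⟶ F' Lα` of `c : Rα F ⟶ F' Rρ` -/
def mate (K : 𝒜) : Lρ.obj (F.obj K) ⟶ F'.obj (Lα.obj K) :=
  (adjρ.homEquiv _ _).symm (F.map (adjα.unit.app K) ≫ c.app (Lα.obj K))

lemma mate_eq (K : 𝒜) : mate adjα adjρ c K =
    Lρ.map (F.map (adjα.unit.app K) ≫ c.app (Lα.obj K)) ≫ adjρ.counit.app (F'.obj (Lα.obj K)) := by
  rw [mate, Adjunction.homEquiv_counit]

lemma mate_nat {K K' : 𝒜} (f : K ⟶ K') :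
    Lρ.map (F.map f) ≫ mate adjα adjρ c K' = mate adjα adjρ c K ≫ F'.map (Lα.map f) := by
  rw [mate_eq, mate_eq]
  have h1 := adjα.unit.naturality f
  have h2 := c.naturality (Lα.map f)
  have h3 := adjρ.counit.naturality (F'.map (Lα.map f))
  dsimp at h1 h2 h3
  have h1' : Lρ.map (F.map f) ≫ Lρ.map (F.map (adjα.unit.app K')) =
      Lρ.map (F.map (adjα.unit.app K)) ≫ Lρ.map (F.map (Rα.map (Lα.map f))) := by
    rw [← Functor.map_comp, ← Functor.map_comp, ← Functor.map_comp, ← Functor.map_comp, h1]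
  have h2' : Lρ.map (F.map (Rα.map (Lα.map f))) ≫ Lρ.map (c.app (Lα.obj K')) =
      Lρ.map (c.app (Lα.obj K)) ≫ Lρ.map (Rρ.map (F'.map (Lα.map f))) := by
    rw [← Functor.map_comp, ← Functor.map_comp, h2]
  simp only [Functor.map_comp, Category.assoc]
  rw [reassoc_of% h1', reassoc_of% h2', h3]

lemma isIso_mate_of_iso {K K' : 𝒜} (e : K ≅ K') (h : IsIso (mate adjα adjρ c K)) :
    IsIso (mate adjα adjρ c K') := by
  have h1 := mate_nat adjα adjρ c e.hom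
  have h2 : mate adjα adjρ c K' = inv (Lρ.map (F.map e.hom)) ≫ mate adjα adjρ c K ≫
      F'.map (Lα.map e.hom) := by
    rw [← h1, IsIso.inv_hom_id_assoc]
  rw [h2]
  infer_instance

lemma mate_change (adjα' : Lα ⊣ Rα) (adjρ' : Lρ ⊣ Rρ) (K : 𝒜) :
    mate adjα' adjρ' c K = (adjρ.leftAdjointUniq adjρ').inv.app (F.obj K) ≫ mate adjα adjρ c K ≫
      F'.map ((adjα.leftAdjointUniq adjα').hom.app K) := by
  rw [mate_eq, mate_eq]
  have h1 := Adjunction.unit_leftAdjointUniq_hom_app adjα adjα' K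
  have h2 := c.naturality ((adjα.leftAdjointUniq adjα').hom.app K)
  have h3 := adjρ'.counit.naturality (F'.map ((adjα.leftAdjointUniq adjα').hom.app K))
  have h4 := Adjunction.leftAdjointUniq_hom_app_counit adjρ adjρ' (F'.obj (Lα.obj K))
  have h5 := (adjρ.leftAdjointUniq adjρ').inv.naturality
    (F.map (adjα.unit.app K) ≫ c.app (Lα.obj K))
  dsimp at h2 h3 h5
  have h6 : adjρ'.counit.app (F'.obj (Lα.obj K)) =
      (adjρ.leftAdjointUniq adjρ').inv.app (Rρ.obj (F'.obj (Lα.obj K))) ≫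
        adjρ.counit.app (F'.obj (Lα.obj K)) := by
    rw [← h4, Iso.inv_hom_id_app_assoc]
  have h2' : Lρ.map (F.map (Rα.map ((adjα.leftAdjointUniq adjα').hom.app K))) ≫
      Lρ.map (c.app (Lα.obj K)) = Lρ.map (c.app (Lα.obj K)) ≫
        Lρ.map (Rρ.map (F'.map ((adjα.leftAdjointUniq adjα').hom.app K))) := by
    rw [← Functor.map_comp, ← Functor.map_comp, h2]
  have h5' : Lρ.map (F.map (adjα.unit.app K)) ≫ Lρ.map (c.app (Lα.obj K)) ≫
      (adjρ.leftAdjointUniq adjρ').inv.app (Rρ.obj (F'.obj (Lα.obj K))) =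
      (adjρ.leftAdjointUniq adjρ').inv.app (F.obj K) ≫ Lρ.map (F.map (adjα.unit.app K)) ≫
        Lρ.map (c.app (Lα.obj K)) := by
    rw [← Functor.map_comp_assoc, h5, Functor.map_comp]
  rw [← h1]
  simp only [Functor.map_comp, Category.assoc]
  rw [reassoc_of% h2', h3, h6]
  simp only [Category.assoc]
  rw [reassoc_of% h5']

lemma isIso_mate_iff (adjα' : Lα ⊣ Rα) (adjρ' : Lρ ⊣ Rρ) (K : 𝒜) :
    IsIso (mate adjα' adjρ' c K) ↔ IsIso (mate adjα adjρ c K) := by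
  constructor
  · intro h
    rw [mate_change adjα' adjρ' c adjα adjρ K]
    infer_instance
  · intro h
    rw [mate_change adjα adjρ c adjα' adjρ' K]
    infer_instance

end Mates

end Groth.Agent.Lib.H6xBC
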