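import Mathlib
import Groth.Agent.Lib.Helper1LDer7
import Groth.Agent.Lib.Helper1LBC
import Groth.Agent.Lib.Helper1DT4
set_option backward.isDefEq.respectTransparency.types false

/-!
# helper6: a canonical adjunction `LBaseChange φ ⊣ restrictD φ` with its unit/counit formulas
-/

set_option autoImplicit false
set_option linter.style.haveILetI false
universe u
open CategoryTheory CategoryTheory.Limits
attribute [local instance] HasDerivedCategory.standard

namespace Groth.Agent.Lib.H6xBC

open Groth.Agent.Lib.Helper1 Groth.Agent.Lib.Helper1.LDer Groth.Agent.Lib.Helper1.DT DTen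
  Groth.Agent.Lib.Helper1.KF DerivedCategory

variable {R A : Type u} [CommRing R] [CommRing A] (φ : R →+* A) [DRing.HasLBaseChange φ]

theorem exists_adj : ∃ adj : DRing.LBaseChange φ ⊣ DRing.restrictD φ,
    (∀ X : DRing.Cx R, adj.unit.app (Q.obj X) ≫ (DRing.restrictD φ).map ((lbcCounit φ).app X) =
        Q.map ((extResAdj φ).unit.app X) ≫ (resFactors φ).inv.app ((extCx φ).obj X)) ∧
    (∀ Y : DRing.Cx A, (DRing.LBaseChange φ).map ((resFactors φ).inv.app Y) ≫
        adj.counit.app (Q.obj Y) =
        (lbcCounit φ).app ((resCx φ).obj Y) ≫ Q.map ((extResAdj φ).counit.app Y)) := by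
  let W₁ := HomologicalComplex.quasiIso (ModuleCat.{u} R) (ComplexShape.up ℤ)
  let W₂ := HomologicalComplex.quasiIso (ModuleCat.{u} A) (ComplexShape.up ℤ)
  let α : Q ⋙ DRing.LBaseChange φ ⟶ extCx φ ⋙ Q := lbcCounit φ
  let β : resCx φ ⋙ Q ⟶ Q ⋙ DRing.restrictD φ := (resFactors φ).inv
  have hres : ∀ X : DRing.Cx R, ∃ (Y : DRing.Cx R) (r : Y ⟶ X),
      (fun P : DRing.Cx R => P.IsKProjective) Y ∧ IsIso (Q.map r) := fun X => by
    obtain ⟨P, π, hP, -, hπ, -⟩ := exists_kprojective_resolution X
    exact ⟨P, π, hP, (DerivedCategory.isIso_Q_map_iff_quasiIso (φ := π)).2 hπ⟩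
  have hsurj : ∀ Y : DRing.Cx R, (fun P : DRing.Cx R => P.IsKProjective) Y → ∀ X,
      Function.Surjective (Q.map : (Y ⟶ X) → (Q.obj Y ⟶ Q.obj X)) := fun Y hY X => by
    haveI : Y.IsKProjective := hY
    exact Q_map_surjective Y X
  haveI h1 : (DRing.LBaseChange φ).IsLeftDerivedFunctor α W₁ :=
    LDerRes.isLeftDerivedFunctor_of_isIso_of_surjective Q W₁ (extCx φ ⋙ Q)
      (fun P : DRing.Cx R => P.IsKProjective) hres hsurj _ α
      (fun Y hY => by
        haveI : Y.IsKProjective := hY
        exact isIso_lbcCounit_app φ Y)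
  haveI h2 : (DRing.restrictD φ).IsRightDerivedFunctor β W₂ :=
    Functor.isRightDerivedFunctor_of_inverts W₂ _ (resFactors φ)
  haveI h3 : (DRing.LBaseChange φ ⋙ DRing.restrictD φ).IsLeftDerivedFunctor
      ((Functor.associator _ _ _).inv ≫ Functor.whiskerRight α (DRing.restrictD φ)) W₁ :=
    LDerRes.isLeftDerivedFunctor_of_isIso_of_surjective Q W₁ _
      (fun P : DRing.Cx R => P.IsKProjective) hres hsurj _ _
      (fun Y hY => by
        haveI : Y.IsKProjective := hY
        haveI := isIso_lbcCounit_app φ Y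
        simp only [NatTrans.comp_app, Functor.associator_inv_app, Functor.whiskerRight_app,
          Category.id_comp]
        infer_instance)
  haveI h4 : (DRing.restrictD φ ⋙ DRing.LBaseChange φ).IsRightDerivedFunctor
      (Functor.whiskerRight β (DRing.LBaseChange φ) ≫ (Functor.associator _ _ _).hom) W₂ :=
    Functor.isRightDerivedFunctor_of_inverts W₂ _
      ((Functor.associator _ _ _).symm ≪≫ Functor.isoWhiskerRight (resFactors φ) _)
  refine ⟨(extResAdj φ).derived W₁ W₂ α β, fun X => ?_, fun Y => ?_⟩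
  · exact (extResAdj φ).derivedη_fac_app W₁ α β X
  · exact (extResAdj φ).derivedε_fac_app W₂ α β Y

end Groth.Agent.Lib.H6xBC
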