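import Mathlib
import Groth.Prelude.Def_TrivBC
import Groth.Agent.Lib.H6xBCA
import Groth.Agent.Lib.H6xBCB
set_option backward.isDefEq.respectTransparency.types false

/-!
# helper6: the comparison map `TrivBC.cmp` on K-projective objects, chain-level description
-/

set_option autoImplicit false
set_option linter.style.haveILetI false
universe u
open CategoryTheory CategoryTheory.Limits
attribute [local instance] HasDerivedCategory.standard

namespace Groth.Agent.Lib.H6xBC

open Groth.Agent.Lib.Helper1 Groth.Agent.Lib.Helper1.LDer Groth.Agent.Lib.Helper1.DT DTen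
  Groth.Agent.Lib.Helper1.KF DerivedCategory

variable {R A R' A' : Type u} [CommRing R] [CommRing A] [CommRing R'] [CommRing A']
  {φ : R →+* A} {ρ : R →+* R'} {α : A →+* A'} {φ' : R' →+* A'}

/-- chain-level commutation iso -/
noncomputable def rcIso (h : α.comp φ = φ'.comp ρ) :
    resCx α ⋙ resCx φ ≅ resCx φ' ⋙ resCx ρ :=
  Functor.mapHomologicalComplexCompIso (TrivBC.resCommMod h) (ComplexShape.up ℤ) ≪≫
    (Functor.mapHomologicalComplexCompIso
      (Iso.refl (ModuleCat.restrictScalars.{u} φ' ⋙ ModuleCat.restrictScalars.{u} ρ))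
        (ComplexShape.up ℤ)).symm

lemma resCommCx_hom_app (h : α.comp φ = φ'.comp ρ) (Y : DRing.Cx A') :
    (TrivBC.resCommCx h).hom.app Y = Q.map ((rcIso h).hom.app Y) := by
  simp [TrivBC.resCommCx, rcIso]

lemma lift_hom_app {B C E : Type u} [CommRing B] [CommRing C] [CommRing E] (g : C →+* E) (f : B →+* C)
    (Y : DRing.Cx E) :
    (Localization.Lifting.iso (self := TrivBC.liftingRes₂ g f) _ _ _ _).hom.app Y =
      (DRing.restrictD f).map ((resFactors g).hom.app Y) ≫ (resFactors f).hom.app ((resCx g).obj Y) := by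
  delta TrivBC.liftingRes₂
  simp

lemma lift_inv_app {B C E : Type u} [CommRing B] [CommRing C] [CommRing E] (g : C →+* E) (f : B →+* C)
    (Y : DRing.Cx E) :
    (Localization.Lifting.iso (self := TrivBC.liftingRes₂ g f) _ _ _ _).inv.app Y =
      (resFactors f).inv.app ((resCx g).obj Y) ≫ (DRing.restrictD f).map ((resFactors g).inv.app Y) := by
  delta TrivBC.liftingRes₂
  simp

lemma resComm_RC (h : α.comp φ = φ'.comp ρ) (Y : DRing.Cx A') :
    (resFactors φ).inv.app ((resCx α).obj Y) ≫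
      (DRing.restrictD φ).map ((resFactors α).inv.app Y) ≫
        (TrivBC.resComm h).hom.app (Q.obj Y) =
    Q.map ((rcIso h).hom.app Y) ≫ (resFactors ρ).inv.app ((resCx φ').obj Y) ≫
      (DRing.restrictD ρ).map ((resFactors φ').inv.app Y) := by
  have h1 : (TrivBC.resComm h).hom.app (Q.obj Y) =
      (Localization.Lifting.iso (self := TrivBC.liftingRes₂ α φ) _ _ _ _).hom.app Y ≫ (TrivBC.resCommCx h).hom.app Y ≫
        (Localization.Lifting.iso (self := TrivBC.liftingRes₂ φ' ρ) _ _ _ _).inv.app Y := by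
    letI := TrivBC.liftingRes₂ α φ
    letI := TrivBC.liftingRes₂ φ' ρ
    exact Localization.liftNatTrans_app _ _ _ _ _ _ _ Y
  rw [h1, resCommCx_hom_app, lift_hom_app, lift_inv_app]
  simp only [Category.assoc]
  rw [← Functor.map_comp_assoc, Iso.inv_hom_id_app]
  erw [CategoryTheory.Functor.map_id]
  rw [Category.id_comp, Iso.inv_hom_id_app_assoc]

section Main

variable [DRing.HasLBaseChange ρ] [DRing.HasLBaseChange α]

lemma homEquiv_symm_Q (adjρ : DRing.LBaseChange ρ ⊣ DRing.restrictD ρ)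
    (hcounit : ∀ Y : DRing.Cx R', (DRing.LBaseChange ρ).map ((resFactors ρ).inv.app Y) ≫
        adjρ.counit.app (Q.obj Y) =
        (lbcCounit ρ).app ((resCx ρ).obj Y) ≫ Q.map ((extResAdj ρ).counit.app Y))
    (P₁ : DRing.Cx R) (Y : DRing.Cx R') (s : P₁ ⟶ (resCx ρ).obj Y) :
    (adjρ.homEquiv (Q.obj P₁) (Q.obj Y)).symm (Q.map s ≫ (resFactors ρ).inv.app Y) =
      (lbcCounit ρ).app P₁ ≫ Q.map (((extResAdj ρ).homEquiv P₁ Y).symm s) := by
  rw [Adjunction.homEquiv_counit, CategoryTheory.Functor.map_comp, Category.assoc, hcounit,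
    Adjunction.homEquiv_counit, CategoryTheory.Functor.map_comp]
  have h1 := (lbcCounit ρ).naturality s
  dsimp at h1
  rw [reassoc_of% h1]

/-- the chain-level comparison map -/
noncomputable def cch (h : α.comp φ = φ'.comp ρ) (P : DRing.Cx A) {P₁ : DRing.Cx R}
    (s₁ : P₁ ⟶ (resCx φ).obj P) : (extCx ρ).obj P₁ ⟶ (resCx φ').obj ((extCx α).obj P) :=
  ((extResAdj ρ).homEquiv _ _).symm
    (s₁ ≫ (resCx φ).map ((extResAdj α).unit.app P) ≫ (rcIso h).hom.app ((extCx α).obj P))

theorem cmp_fac (adjρ : DRing.LBaseChange ρ ⊣ DRing.restrictD ρ)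
    (adjα : DRing.LBaseChange α ⊣ DRing.restrictD α)
    (hunit : ∀ X : DRing.Cx A, adjα.unit.app (Q.obj X) ≫
        (DRing.restrictD α).map ((lbcCounit α).app X) =
        Q.map ((extResAdj α).unit.app X) ≫ (resFactors α).inv.app ((extCx α).obj X))
    (hcounit : ∀ Y : DRing.Cx R', (DRing.LBaseChange ρ).map ((resFactors ρ).inv.app Y) ≫
        adjρ.counit.app (Q.obj Y) =
        (lbcCounit ρ).app ((resCx ρ).obj Y) ≫ Q.map ((extResAdj ρ).counit.app Y))
    (h : α.comp φ = φ'.comp ρ) (P : DRing.Cx A) {P₁ : DRing.Cx R}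
    (s₁ : P₁ ⟶ (resCx φ).obj P) :
    (DRing.LBaseChange ρ).map (Q.map s₁ ≫ (resFactors φ).inv.app P) ≫
      TrivBC.cmp adjρ adjα h (Q.obj P) ≫ (DRing.restrictD φ').map ((lbcCounit α).app P) =
    (lbcCounit ρ).app P₁ ≫ Q.map (cch h P s₁) ≫ (resFactors φ').inv.app ((extCx α).obj P) := by
  have e1 : (Q.map s₁ ≫ (resFactors φ).inv.app P) ≫
      ((DRing.restrictD φ).map (adjα.unit.app (Q.obj P)) ≫
        (TrivBC.resComm h).hom.app ((DRing.LBaseChange α).obj (Q.obj P))) ≫
      (DRing.restrictD ρ).map ((DRing.restrictD φ').map ((lbcCounit α).app P)) =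
      (Q.map (s₁ ≫ (resCx φ).map ((extResAdj α).unit.app P) ≫
        (rcIso h).hom.app ((extCx α).obj P)) ≫
        (resFactors ρ).inv.app ((resCx φ').obj ((extCx α).obj P))) ≫
      (DRing.restrictD ρ).map ((resFactors φ').inv.app ((extCx α).obj P)) := by
    have n1 := (TrivBC.resComm h).hom.naturality ((lbcCounit α).app P)
    dsimp at n1
    have n2 := (resFactors φ).inv.naturality ((extResAdj α).unit.app P)
    dsimp at n2
    have n3 := resComm_RC h ((extCx α).obj P)
    simp only [Category.assoc, CategoryTheory.Functor.map_comp]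
    rw [← n1, ← CategoryTheory.Functor.map_comp_assoc, hunit, CategoryTheory.Functor.map_comp,
      Category.assoc]
    rw [← reassoc_of% n2, n3]
  have e2 := Adjunction.homEquiv_naturality_left_symm adjρ
    (Q.map s₁ ≫ (resFactors φ).inv.app P)
    (((DRing.restrictD φ).map (adjα.unit.app (Q.obj P)) ≫
        (TrivBC.resComm h).hom.app ((DRing.LBaseChange α).obj (Q.obj P))) ≫
      (DRing.restrictD ρ).map ((DRing.restrictD φ').map ((lbcCounit α).app P)))
  rw [TrivBC.cmp, ← Adjunction.homEquiv_naturality_right_symm]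
  refine e2.symm.trans ?_
  rw [e1, Adjunction.homEquiv_naturality_right_symm]
  erw [homEquiv_symm_Q adjρ hcounit]
  rw [cch, Category.assoc]

end Main

end Groth.Agent.Lib.H6xBC
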