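import Mathlib
import Groth.Agent.Lib.Helper1DT6
import Groth.Prelude.Def_TotMap
set_option backward.isDefEq.respectTransparency.types false

/-!
# helper6: cross-ring associativity `P ⊗_R M|_R ≅ ((A ⊗_R P) ⊗_A M)|_R` for complexes

For a ring map `φ : R → A`, a complex `P` of `R`-modules and a complex `M` of `A`-modules, the tensor
product `P ⊗_R M|_R` is isomorphic to the restriction of `(A ⊗_R P) ⊗_A M`, naturally in both variables.
-/

set_option autoImplicit false
set_option linter.style.haveILetI false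
universe u
open CategoryTheory CategoryTheory.Limits MonoidalCategory HomologicalComplex TensorProduct

namespace Groth.Agent.Lib.H6xRel

open DTen Groth.Agent.Lib.Helper1.KF

variable {R A : Type u} [CommRing R] [CommRing A] (φ : R →+* A)

/-- restriction of scalars on modules -/
noncomputable abbrev resM : ModuleCat.{u} A ⥤ ModuleCat.{u} R := ModuleCat.restrictScalars.{u} φ
/-- extension of scalars on modules -/
noncomputable abbrev extM : ModuleCat.{u} R ⥤ ModuleCat.{u} A := ModuleCat.extendScalars.{u,u,u} φ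

section Module

variable (X : ModuleCat.{u} R) (Y : ModuleCat.{u} A)

/-- the linear equivalence `X ⊗_R Y ≃ (A ⊗_R X) ⊗_A Y` -/
noncomputable def cancelEquiv :
    (X ⊗ (resM φ).obj Y : ModuleCat.{u} R) ≃ₗ[R] (resM φ).obj ((extM φ).obj X ⊗ Y) := by
  letI : Algebra R A := φ.toAlgebra
  letI : Module R Y := Module.compHom Y φ
  haveI : IsScalarTower R A Y := ⟨fun r a y => by
    change (φ r * a) • y = φ r • (a • y)
    rw [mul_smul]⟩
  exact (TensorProduct.comm R X Y) ≪≫ₗ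
    ((AlgebraTensorModule.cancelBaseChange R A A Y X).symm.restrictScalars R) ≪≫ₗ
    ((TensorProduct.comm A Y (A ⊗[R] X)).restrictScalars R)

open ChangeOfRings in
lemma cancelEquiv_tmul (x : X) (y : Y) :
    cancelEquiv φ X Y (x ⊗ₜ[R] (show (resM φ).obj Y from y)) =
      (show (resM φ).obj ((extM φ).obj X ⊗ Y) from
        ((((1 : A) ⊗ₜ[R,φ] x : (extM φ).obj X)) ⊗ₜ[A] y :
          ((extM φ).obj X ⊗ Y : ModuleCat.{u} A))) := rfl

open ChangeOfRings in
lemma cancelEquiv_symm_tmul (a : A) (x : X) (y : Y) :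
    (cancelEquiv φ X Y).symm (show (resM φ).obj ((extM φ).obj X ⊗ Y) from
        (((a ⊗ₜ[R,φ] x : (extM φ).obj X)) ⊗ₜ[A] y : ((extM φ).obj X ⊗ Y : ModuleCat.{u} A))) =
      (x ⊗ₜ[R] (show (resM φ).obj Y from a • y)) := rfl

/-- the cancellation isomorphism `X ⊗_R Y|_R ≅ ((A ⊗_R X) ⊗_A Y)|_R` -/
noncomputable def cancelIso :
    (X ⊗ (resM φ).obj Y : ModuleCat.{u} R) ≅ (resM φ).obj ((extM φ).obj X ⊗ Y) :=
  (cancelEquiv φ X Y).toModuleIso

end Module

@[reassoc]
lemma cancelIso_hom_nat₁ {X X' : ModuleCat.{u} R} (f : X ⟶ X') (Y : ModuleCat.{u} A) :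
    (f ▷ (resM φ).obj Y) ≫ (cancelIso φ X' Y).hom =
      (cancelIso φ X Y).hom ≫ (resM φ).map ((extM φ).map f ▷ Y) := by
  apply ModuleCat.MonoidalCategory.tensor_ext
  intro x y
  rfl

@[reassoc]
lemma cancelIso_hom_nat₂ (X : ModuleCat.{u} R) {Y Y' : ModuleCat.{u} A} (g : Y ⟶ Y') :
    (X ◁ (resM φ).map g) ≫ (cancelIso φ X Y').hom =
      (cancelIso φ X Y).hom ≫ (resM φ).map ((extM φ).obj X ◁ g) := by
  apply ModuleCat.MonoidalCategory.tensor_ext
  intro x y
  rfl

/-- the tensor bicomplex -/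
noncomputable abbrev tBicx {S : Type u} [CommRing S] (Y Y' : DRing.Cx S) :
    HomologicalComplex₂ (ModuleCat.{u} S) (ComplexShape.up ℤ) (ComplexShape.up ℤ) :=
  (((curriedTensor (ModuleCat.{u} S)).mapBifunctorHomologicalComplex (ComplexShape.up ℤ)
    (ComplexShape.up ℤ)).obj Y).obj Y'

/-- `cancelIso` on the terms of complexes, typed with the terms of `extCx`, `resCx` -/
noncomputable def cancelX (P : DRing.Cx R) (M : DRing.Cx A) (p q : ℤ) :
    P.X p ⊗ ((resCx φ).obj M).X q ≅ (resM φ).obj (((extCx φ).obj P).X p ⊗ M.X q) :=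
  cancelIso φ (P.X p) (M.X q)

@[reassoc]
lemma cancelX_hom_nat₁ {P P' : DRing.Cx R} (f : P ⟶ P') (M : DRing.Cx A) (p q : ℤ) :
    (f.f p ▷ ((resCx φ).obj M).X q) ≫ (cancelX φ P' M p q).hom =
      (cancelX φ P M p q).hom ≫ (resM φ).map (((extCx φ).map f).f p ▷ M.X q) :=
  cancelIso_hom_nat₁ φ (f.f p) (M.X q)

@[reassoc]
lemma cancelX_hom_nat₂ (P : DRing.Cx R) {M M' : DRing.Cx A} (g : M ⟶ M') (p q : ℤ) :
    (P.X p ◁ ((resCx φ).map g).f q) ≫ (cancelX φ P M' p q).hom =
      (cancelX φ P M p q).hom ≫ (resM φ).map (((extCx φ).obj P).X p ◁ g.f q) :=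
  cancelIso_hom_nat₂ φ (P.X p) (g.f q)

/-- restriction of the inclusion of a summand of `(A ⊗_R P) ⊗_A M`, typed with `resCx` -/
noncomputable def resι (P : DRing.Cx R) (M : DRing.Cx A) (p q n : ℤ) (h : p + q = n) :
    (resM φ).obj (((extCx φ).obj P).X p ⊗ M.X q) ⟶ ((resCx φ).obj ((extCx φ).obj P ⊗ M)).X n :=
  (resM φ).map (ιTensorObj ((extCx φ).obj P) M p q n h)

@[reassoc]
lemma resι_nat₁ {P P' : DRing.Cx R} (f : P ⟶ P') (M : DRing.Cx A) (p q n : ℤ) (h : p + q = n) :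
    resι φ P M p q n h ≫ ((resCx φ).map ((extCx φ).map f ▷ M)).f n =
      (resM φ).map (((extCx φ).map f).f p ▷ M.X q) ≫ resι φ P' M p q n h := by
  show (resM φ).map (ιTensorObj ((extCx φ).obj P) M p q n h) ≫
      (resM φ).map (((extCx φ).map f ▷ M).f n) =
    (resM φ).map (((extCx φ).map f).f p ▷ M.X q) ≫
      (resM φ).map (ιTensorObj ((extCx φ).obj P') M p q n h)
  rw [← Functor.map_comp, ← Functor.map_comp, ι_whiskerRight]

@[reassoc]
lemma resι_nat₂ (P : DRing.Cx R) {M M' : DRing.Cx A} (g : M ⟶ M') (p q n : ℤ) (h : p + q = n) :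
    resι φ P M p q n h ≫ ((resCx φ).map ((extCx φ).obj P ◁ g)).f n =
      (resM φ).map (((extCx φ).obj P).X p ◁ g.f q) ≫ resι φ P M' p q n h := by
  show (resM φ).map (ιTensorObj ((extCx φ).obj P) M p q n h) ≫
      (resM φ).map (((extCx φ).obj P ◁ g).f n) =
    (resM φ).map (((extCx φ).obj P).X p ◁ g.f q) ≫
      (resM φ).map (ιTensorObj ((extCx φ).obj P) M' p q n h)
  rw [← Functor.map_comp, ← Functor.map_comp, ι_whiskerLeft]

/-- the isomorphism of bicomplexes `P^p ⊗_R M^q|_R ≅ ((A ⊗_R P^p) ⊗_A M^q)|_R` -/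
noncomputable def crossBicxIso (P : DRing.Cx R) (M : DRing.Cx A) :
    tBicx P ((resCx φ).obj M) ≅
      (TotMap.map₂ (resM φ) (ComplexShape.up ℤ) (ComplexShape.up ℤ)).obj
        (tBicx ((extCx φ).obj P) M) :=
  HomologicalComplex.Hom.isoOfComponents
    (fun p => HomologicalComplex.Hom.isoOfComponents (fun q => cancelX φ P M p q)
      (fun q q' _ => by
        exact (cancelIso_hom_nat₂ φ (P.X p) (M.d q q')).symm))
    (fun p p' _ => HomologicalComplex.hom_ext _ _ (fun q => by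
        exact (cancelIso_hom_nat₁ φ (P.d p p') (M.X q)).symm))

/-- the cross-ring associativity isomorphism `P ⊗_R M|_R ≅ ((A ⊗_R P) ⊗_A M)|_R` of complexes -/
noncomputable def crossIso (P : DRing.Cx R) (M : DRing.Cx A) :
    P ⊗ (resCx φ).obj M ≅ (resCx φ).obj ((extCx φ).obj P ⊗ M) :=
  HomologicalComplex₂.total.mapIso (crossBicxIso φ P M) (ComplexShape.up ℤ) ≪≫
    (TotMap.mapTotalIso (resM φ) (tBicx ((extCx φ).obj P) M) (ComplexShape.up ℤ)).symm

@[reassoc]
lemma ι_crossIso_hom (P : DRing.Cx R) (M : DRing.Cx A) (p q n : ℤ) (h : p + q = n) :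
    ιTensorObj P ((resCx φ).obj M) p q n h ≫ (crossIso φ P M).hom.f n =
      (cancelX φ P M p q).hom ≫ resι φ P M p q n h := by
  dsimp only [crossIso, Iso.trans_hom, Iso.symm_hom]
  simp only [HomologicalComplex.comp_f, HomologicalComplex₂.total.mapIso_hom,
    HomologicalComplex.ιTensorObj, HomologicalComplex.ιMapBifunctor]
  erw [HomologicalComplex₂.ιTotal_map_assoc]
  erw [TotMap.ιTotal_mapTotalIso_inv_f (resM φ) (tBicx ((extCx φ).obj P) M) (ComplexShape.up ℤ)
    p q n h]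
  rfl

@[reassoc]
lemma crossIso_hom_nat₁ {P P' : DRing.Cx R} (f : P ⟶ P') (M : DRing.Cx A) :
    (f ▷ (resCx φ).obj M) ≫ (crossIso φ P' M).hom =
      (crossIso φ P M).hom ≫ (resCx φ).map ((extCx φ).map f ▷ M) := by
  refine HomologicalComplex.hom_ext _ _ (fun n => ?_)
  apply tensor_hom_ext
  intro p q hpq
  rw [HomologicalComplex.comp_f, HomologicalComplex.comp_f, ι_whiskerRight_assoc, ι_crossIso_hom,
    ι_crossIso_hom_assoc, cancelX_hom_nat₁_assoc, resι_nat₁]

@[reassoc]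
lemma crossIso_hom_nat₂ (P : DRing.Cx R) {M M' : DRing.Cx A} (g : M ⟶ M') :
    (P ◁ (resCx φ).map g) ≫ (crossIso φ P M').hom =
      (crossIso φ P M).hom ≫ (resCx φ).map ((extCx φ).obj P ◁ g) := by
  refine HomologicalComplex.hom_ext _ _ (fun n => ?_)
  apply tensor_hom_ext
  intro p q hpq
  rw [HomologicalComplex.comp_f, HomologicalComplex.comp_f, ι_whiskerLeft_assoc, ι_crossIso_hom,
    ι_crossIso_hom_assoc, cancelX_hom_nat₂_assoc, resι_nat₂]

end Groth.Agent.Lib.H6xRel
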