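import Mathlib
import Groth.Agent.Lib.H6xRelB
set_option backward.isDefEq.respectTransparency.types false

/-!
# helper6: the complex `S ⊗_R A[0]` is the termwise extension of scalars of `S`

`chi φ S : S ⊗ A[0] ≅ (A ⊗_R S)|_R` (termwise), its summand formula and naturality, and for a chain map
`e : E ⟶ A[0]` the natural map `etil φ e S : S ⊗ E ⟶ (A ⊗_R S)|_R`, a quasi-isomorphism when `e` is one and
`S` is K-flat.
-/

set_option autoImplicit false
set_option linter.style.haveILetI false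
universe u
open CategoryTheory CategoryTheory.Limits MonoidalCategory HomologicalComplex TensorProduct

namespace Groth.Agent.Lib.H6xRel

open DTen Groth.Agent.Lib.Helper1.KF Groth.Agent.Lib.Helper1.DT

variable {R A : Type u} [CommRing R] [CommRing A] (φ : R →+* A)

section Module

variable (X : ModuleCat.{u} R)

/-- `A ⊗_R X` as an `R`-module is the restriction of the extension of scalars of `X` -/
noncomputable def reEquiv : (resA φ ⊗ X : ModuleCat.{u} R) ≃ₗ[R] (resM φ).obj ((extM φ).obj X) where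
  toFun x := x
  invFun x := x
  left_inv _ := rfl
  right_inv _ := rfl
  map_add' _ _ := rfl
  map_smul' r x := by
    rfl

/-- `A ⊗_R X` as an `R`-module is the restriction of the extension of scalars of `X` -/
noncomputable def reIso : (resA φ ⊗ X : ModuleCat.{u} R) ≅ (resM φ).obj ((extM φ).obj X) :=
  (reEquiv φ X).toModuleIso

/-- `X ⊗_R A ≅ (A ⊗_R X)|_R`, `x ⊗ a ↦ a ⊗ x` -/
noncomputable def swapIso : (X ⊗ resA φ : ModuleCat.{u} R) ≅ (resM φ).obj ((extM φ).obj X) :=
  β_ X (resA φ) ≪≫ reIso φ X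

end Module

@[reassoc]
lemma reIso_hom_nat {X X' : ModuleCat.{u} R} (f : X ⟶ X') :
    (resA φ ◁ f) ≫ (reIso φ X').hom = (reIso φ X).hom ≫ (resM φ).map ((extM φ).map f) := by
  apply ModuleCat.hom_ext
  apply LinearMap.ext
  intro x
  exact (extendScalars_map_apply φ f x).symm

@[reassoc]
lemma swapIso_hom_nat {X X' : ModuleCat.{u} R} (f : X ⟶ X') :
    (f ▷ resA φ) ≫ (swapIso φ X').hom = (swapIso φ X).hom ≫ (resM φ).map ((extM φ).map f) := by
  dsimp only [swapIso, Iso.trans_hom]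
  rw [BraidedCategory.braiding_naturality_left_assoc, reIso_hom_nat, Category.assoc]

section Complex

variable (S : DRing.Cx R)

/-- the termwise identification of `A ⊗_R S^n` with `(A ⊗_R S^n)|_R` -/
noncomputable def termIso : TCx (resA φ) S ≅ (resCx φ).obj ((extCx φ).obj S) :=
  HomologicalComplex.Hom.isoOfComponents (fun n => reIso φ (S.X n))
    (fun n n' _ => by
      exact reIso_hom_nat φ (S.d n n'))

/-- `S ⊗ A[0] ≅ (A ⊗_R S)|_R` -/
noncomputable def chi : S ⊗ sgl (resA φ) ≅ (resCx φ).obj ((extCx φ).obj S) :=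
  braidCx S (sgl (resA φ)) ≪≫ (singleTensorIso (resA φ) S).symm ≪≫ termIso φ S

/-- `swapIso` on the terms of a complex, typed with `resCx`, `extCx` -/
noncomputable def swapX (n : ℤ) :
    (S.X n ⊗ resA φ : ModuleCat.{u} R) ≅ ((resCx φ).obj ((extCx φ).obj S)).X n :=
  swapIso φ (S.X n)

lemma isZero_tensor_sgl (V : ModuleCat.{u} R) (Y : ModuleCat.{u} R) (q : ℤ) (hq : q ≠ 0) :
    IsZero (Y ⊗ (sgl V).X q) :=
  (tensorLeft Y).map_isZero (isZero_single_obj_X (ComplexShape.up ℤ) 0 V q hq)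

@[reassoc]
lemma ι_chi_hom (n : ℤ) :
    ιTensorObj S (sgl (resA φ)) n 0 n (add_zero n) ≫ (chi φ S).hom.f n =
      (S.X n ◁ (singleObjXSelf (ComplexShape.up ℤ) 0 (resA φ)).hom) ≫
        (swapX φ S n).hom := by
  dsimp only [chi, Iso.trans_hom, Iso.symm_hom]
  rw [HomologicalComplex.comp_f, HomologicalComplex.comp_f]
  erw [ι_braidCx_hom_assoc S (sgl (resA φ)) n 0 n (add_zero n)]
  rw [mul_zero, Int.negOnePow_zero, one_smul, Category.assoc]
  have h1 : ιTensorObj (sgl (resA φ)) S 0 n n (by omega) ≫ (singleTensorIso (resA φ) S).inv.f n =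
      (singleObjXSelf (ComplexShape.up ℤ) 0 (resA φ)).hom ▷ S.X n := ι_sglπ_zero (resA φ) S n
  rw [reassoc_of% h1]
  change (β_ (S.X n) ((sgl (resA φ)).X 0)).hom ≫
      (singleObjXSelf (ComplexShape.up ℤ) 0 (resA φ)).hom ▷ S.X n ≫ (reIso φ (S.X n)).hom =
    S.X n ◁ (singleObjXSelf (ComplexShape.up ℤ) 0 (resA φ)).hom ≫
      (β_ (S.X n) (resA φ)).hom ≫ (reIso φ (S.X n)).hom
  rw [BraidedCategory.braiding_naturality_right_assoc]

end Complex

@[reassoc]
lemma swapX_hom_nat {S S' : DRing.Cx R} (f : S ⟶ S') (n : ℤ) :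
    (f.f n ▷ resA φ) ≫ (swapX φ S' n).hom =
      (swapX φ S n).hom ≫ ((resCx φ).map ((extCx φ).map f)).f n :=
  swapIso_hom_nat φ (f.f n)

/-- maps out of `(S ⊗ V[0])^n` are determined on the summand `S^n ⊗ V` -/
lemma tensor_sgl_hom_ext (V : ModuleCat.{u} R) (S : DRing.Cx R) {n : ℤ} {Z : ModuleCat.{u} R}
    {f g : (S ⊗ sgl V).X n ⟶ Z}
    (h : ιTensorObj S (sgl V) n 0 n (add_zero n) ≫ f = ιTensorObj S (sgl V) n 0 n (add_zero n) ≫ g) :
    f = g := by
  apply tensor_hom_ext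
  intro p q hpq
  by_cases hq : q = 0
  · subst hq
    obtain rfl : p = n := by omega
    exact h
  · exact (isZero_tensor_sgl V (S.X p) q hq).eq_of_src _ _

@[reassoc]
lemma chi_hom_nat {S S' : DRing.Cx R} (f : S ⟶ S') :
    (f ▷ sgl (resA φ)) ≫ (chi φ S').hom = (chi φ S).hom ≫ (resCx φ).map ((extCx φ).map f) := by
  refine HomologicalComplex.hom_ext _ _ (fun n => ?_)
  apply tensor_sgl_hom_ext
  rw [HomologicalComplex.comp_f, HomologicalComplex.comp_f, ι_whiskerRight_assoc, ι_chi_hom,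
    ι_chi_hom_assoc, ← whisker_exchange_assoc, swapX_hom_nat]

section Etil

variable {E : DRing.Cx R} (e : E ⟶ sgl (resA φ))

/-- the map `S ⊗ E ⟶ (A ⊗_R S)|_R` induced by `e : E ⟶ A[0]` -/
noncomputable def etil (S : DRing.Cx R) : S ⊗ E ⟶ (resCx φ).obj ((extCx φ).obj S) :=
  (S ◁ e) ≫ (chi φ S).hom

@[reassoc]
lemma etil_nat {S S' : DRing.Cx R} (f : S ⟶ S') :
    (f ▷ E) ≫ etil φ e S' = etil φ e S ≫ (resCx φ).map ((extCx φ).map f) := by
  dsimp only [etil]
  rw [← whisker_exchange_assoc, chi_hom_nat, Category.assoc]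

lemma quasiIso_etil [QuasiIso e] (S : DRing.Cx R) (hS : KFlat S) : QuasiIso (etil φ e S) := by
  haveI : QuasiIso (S ◁ e) := quasiIso_whiskerLeft_of_kflatL (f := e) S hS.kflatL
  dsimp only [etil]
  infer_instance

end Etil

end Groth.Agent.Lib.H6xRel
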