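import Mathlib
import Groth.Agent.Lib.H6xRelC
set_option backward.isDefEq.respectTransparency.types false

/-!
# helper6: the cross-ring associativity isomorphism is compatible with the action of `A`
-/

set_option autoImplicit false
set_option linter.style.haveILetI false
universe u
open CategoryTheory CategoryTheory.Limits MonoidalCategory HomologicalComplex TensorProduct

namespace Groth.Agent.Lib.H6xRel

open DTen Groth.Agent.Lib.Helper1.KF Groth.Agent.Lib.Helper1.DT

section Assoc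

variable {R : Type u} [CommRing R]

/-- the associator of complexes on a triple summand -/
lemma ι_ι_associator_hom (K L N : DRing.Cx R) (p q k m l n : ℤ) (hm : p + q = m) (hl : q + k = l)
    (hn : m + k = n) :
    (ιTensorObj K L p q m hm ▷ N.X k) ≫ ιTensorObj (K ⊗ L) N m k n hn ≫ (α_ K L N).hom.f n =
      (α_ (K.X p) (L.X q) (N.X k)).hom ≫ (K.X p ◁ ιTensorObj L N q k l hl) ≫
        ιTensorObj K (L ⊗ N) p l n (by omega) := by
  have hpqk : p + q + k = n := by omega
  have e1 := GradedObject.Monoidal.ιTensorObj₃'_eq K.X L.X N.X p q k n hpqk m hm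
  have e2 := GradedObject.Monoidal.ιTensorObj₃'_associator_hom K.X L.X N.X p q k n hpqk
  have e3 := GradedObject.Monoidal.ιTensorObj₃_eq K.X L.X N.X p q k n hpqk l hl
  rw [e1, e3] at e2
  simp only [Category.assoc] at e2
  exact e2

end Assoc

variable {R A : Type u} [CommRing R] [CommRing A] (φ : R →+* A)

section ModuleAct

/-- the action `Y|_R ⊗_R A ⟶ Y|_R`, `y ⊗ b ↦ b y` -/
noncomputable def actM (Y : ModuleCat.{u} A) : ((resM φ).obj Y ⊗ resA φ : ModuleCat.{u} R) ⟶ (resM φ).obj Y :=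
  (swapIso φ ((resM φ).obj Y)).hom ≫
    (resM φ).map ((ModuleCat.extendRestrictScalarsAdj.{u, u, u} φ).counit.app Y)

lemma actM_tmul (Y : ModuleCat.{u} A) (y : Y) (b : A) :
    (actM φ Y).hom ((show (resM φ).obj Y from y) ⊗ₜ[R] (show resA φ from b)) =
      (show (resM φ).obj Y from b • y) := rfl

@[reassoc]
lemma actM_nat {Y Y' : ModuleCat.{u} A} (g : Y ⟶ Y') :
    ((resM φ).map g ▷ resA φ) ≫ actM φ Y' = actM φ Y ≫ (resM φ).map g := by
  apply ModuleCat.MonoidalCategory.tensor_ext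
  intro y b
  exact (map_smul g.hom (show A from b) (show Y from y)).symm

open ChangeOfRings in
lemma cancelIso_actM (X : ModuleCat.{u} R) (Y : ModuleCat.{u} A) :
    ((cancelIso φ X Y).hom ▷ resA φ) ≫ actM φ ((extM φ).obj X ⊗ Y) =
      (α_ X ((resM φ).obj Y) (resA φ)).hom ≫ (X ◁ actM φ Y) ≫ (cancelIso φ X Y).hom := by
  apply ModuleCat.MonoidalCategory.tensor_ext₃'
  intro x y b
  change (show (resM φ).obj ((extM φ).obj X ⊗ Y) from
      ((show A from b) • ((((1 : A) ⊗ₜ[R,φ] x : (extM φ).obj X)) ⊗ₜ[A] (show Y from y) :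
        ((extM φ).obj X ⊗ Y : ModuleCat.{u} A)))) =
    (show (resM φ).obj ((extM φ).obj X ⊗ Y) from
      ((((1 : A) ⊗ₜ[R,φ] x : (extM φ).obj X)) ⊗ₜ[A] ((show A from b) • (show Y from y)) :
        ((extM φ).obj X ⊗ Y : ModuleCat.{u} A)))
  exact (TensorProduct.tmul_smul (show A from b) _ _).symm

end ModuleAct

section ComplexAct

/-- the action of `A[0]` on the restriction of a complex of `A`-modules -/
noncomputable def actA (M : DRing.Cx A) : (resCx φ).obj M ⊗ sgl (resA φ) ⟶ (resCx φ).obj M :=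
  (chi φ ((resCx φ).obj M)).hom ≫ (resCx φ).map ((extResAdj φ).counit.app M)

/-- `actM` on the terms of a complex -/
noncomputable def actX (M : DRing.Cx A) (n : ℤ) :
    (((resCx φ).obj M).X n ⊗ resA φ : ModuleCat.{u} R) ⟶ ((resCx φ).obj M).X n :=
  actM φ (M.X n)

@[reassoc]
lemma ι_actA (M : DRing.Cx A) (n : ℤ) :
    ιTensorObj ((resCx φ).obj M) (sgl (resA φ)) n 0 n (add_zero n) ≫ (actA φ M).f n =
      (((resCx φ).obj M).X n ◁ (singleObjXSelf (ComplexShape.up ℤ) 0 (resA φ)).hom) ≫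
        actX φ M n := by
  dsimp only [actA]
  rw [HomologicalComplex.comp_f, ι_chi_hom_assoc]
  rfl

@[reassoc]
lemma actX_nat {M M' : DRing.Cx A} (g : M ⟶ M') (n : ℤ) :
    (((resCx φ).map g).f n ▷ resA φ) ≫ actX φ M' n = actX φ M n ≫ ((resCx φ).map g).f n :=
  actM_nat φ (g.f n)

@[reassoc]
lemma resι_actX (P : DRing.Cx R) (M : DRing.Cx A) (p q n : ℤ) (h : p + q = n) :
    (resι φ P M p q n h ▷ resA φ) ≫ actX φ ((extCx φ).obj P ⊗ M) n =
      actM φ (((extCx φ).obj P).X p ⊗ M.X q) ≫ resι φ P M p q n h :=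
  actM_nat φ (ιTensorObj ((extCx φ).obj P) M p q n h)

lemma cancelX_actM (P : DRing.Cx R) (M : DRing.Cx A) (p q : ℤ) :
    ((cancelX φ P M p q).hom ▷ resA φ) ≫ actM φ (((extCx φ).obj P).X p ⊗ M.X q) =
      (α_ (P.X p) (((resCx φ).obj M).X q) (resA φ)).hom ≫ (P.X p ◁ actX φ M q) ≫
        (cancelX φ P M p q).hom :=
  cancelIso_actM φ (P.X p) (M.X q)

/-- the cross-ring associativity isomorphism is compatible with the action of `A[0]` -/
theorem crossIso_actA (P : DRing.Cx R) (M : DRing.Cx A) :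
    ((crossIso φ P M).hom ▷ sgl (resA φ)) ≫ actA φ ((extCx φ).obj P ⊗ M) =
      (α_ P ((resCx φ).obj M) (sgl (resA φ))).hom ≫ (P ◁ actA φ M) ≫ (crossIso φ P M).hom := by
  refine HomologicalComplex.hom_ext _ _ (fun n => ?_)
  refine GradedObject.Monoidal.tensorObj₃'_ext (X₁ := P.X) (X₂ := ((resCx φ).obj M).X)
    (X₃ := (sgl (resA φ)).X) _ _ (fun p q k h => ?_)
  rw [GradedObject.Monoidal.ιTensorObj₃'_eq _ _ _ p q k n h (p + q) rfl]
  by_cases hk : k = 0
  swap
  · exact (isZero_tensor_sgl (resA φ) (P.X p ⊗ ((resCx φ).obj M).X q) k hk).eq_of_src _ _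
  subst hk
  obtain rfl : p + q = n := by omega
  change (ιTensorObj P ((resCx φ).obj M) p q (p + q) rfl ▷ (sgl (resA φ)).X 0 ≫
      ιTensorObj (P ⊗ (resCx φ).obj M) (sgl (resA φ)) (p + q) 0 (p + q) (add_zero _)) ≫
        (((crossIso φ P M).hom ▷ sgl (resA φ)) ≫ actA φ ((extCx φ).obj P ⊗ M)).f (p + q) =
    (ιTensorObj P ((resCx φ).obj M) p q (p + q) rfl ▷ (sgl (resA φ)).X 0 ≫
      ιTensorObj (P ⊗ (resCx φ).obj M) (sgl (resA φ)) (p + q) 0 (p + q) (add_zero _)) ≫
        ((α_ P ((resCx φ).obj M) (sgl (resA φ))).hom ≫ (P ◁ actA φ M) ≫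
          (crossIso φ P M).hom).f (p + q)
  have R1 := ι_ι_associator_hom P ((resCx φ).obj M) (sgl (resA φ)) p q 0 (p + q) q (p + q) rfl
    (add_zero q) (add_zero _)
  have R2 := ι_whiskerLeft P (actA φ M) p q (p + q) rfl
  have R4 := ι_crossIso_hom φ P M p q (p + q) rfl
  have L1 := ι_whiskerRight (crossIso φ P M).hom (sgl (resA φ)) (p + q) 0 (p + q) (add_zero _)
  have L2 := ι_actA φ ((extCx φ).obj P ⊗ M) (p + q)
  have L5 := resι_actX φ P M p q (p + q) rfl
  have L6 := cancelX_actM φ P M p q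
  have R3 := ι_actA φ M q
  simp only [HomologicalComplex.comp_f, Category.assoc]
  rw [reassoc_of% R1, reassoc_of% R2, R4, ← MonoidalCategory.whiskerLeft_comp_assoc, R3,
    reassoc_of% L1, L2, ← comp_whiskerRight_assoc, R4, ← whisker_exchange_assoc,
    comp_whiskerRight, Category.assoc, L5, reassoc_of% L6,
    MonoidalCategory.whiskerLeft_comp, Category.assoc, associator_naturality_right_assoc]

end ComplexAct

end Groth.Agent.Lib.H6xRel
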