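import Mathlib
import Groth.Agent.Lib.H6xRelD
set_option backward.isDefEq.respectTransparency.types false

/-!
# helper6: the map `E ⊗ S ⟶ (A ⊗_R S)|_R` induced by `e : E ⟶ A[0]` (resolution on the left)
-/

set_option autoImplicit false
set_option linter.style.haveILetI false
universe u
open CategoryTheory CategoryTheory.Limits MonoidalCategory HomologicalComplex TensorProduct

namespace Groth.Agent.Lib.H6xBC

open DTen Groth.Agent.Lib.Helper1.KF Groth.Agent.Lib.Helper1.DT Groth.Agent.Lib.H6xRel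

variable {R A : Type u} [CommRing R] [CommRing A] (φ : R →+* A)

/-- maps out of `(V[0] ⊗ S)^n` are determined on the summand `V ⊗ S^n` -/
lemma sgl_tensor_hom_ext (V : ModuleCat.{u} R) (S : DRing.Cx R) {n : ℤ} {Z : ModuleCat.{u} R}
    {f g : (sgl V ⊗ S).X n ⟶ Z}
    (h : ιTensorObj (sgl V) S 0 n n (zero_add n) ≫ f = ιTensorObj (sgl V) S 0 n n (zero_add n) ≫ g) :
    f = g := by
  apply tensor_hom_ext
  intro p q hpq
  by_cases hp : p = 0
  · subst hp
    obtain rfl : q = n := by omega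
    exact h
  · exact (isZero_sgl_tensor V p hp (S.X q)).eq_of_src _ _

section ChiL

variable (S : DRing.Cx R)

/-- `A[0] ⊗ S ≅ (A ⊗_R S)|_R` -/
noncomputable def chiL : sgl (resA φ) ⊗ S ≅ (resCx φ).obj ((extCx φ).obj S) :=
  (singleTensorIso (resA φ) S).symm ≪≫ termIso φ S

/-- `reIso` on the terms of a complex, typed with `resCx`, `extCx` -/
noncomputable def reX (n : ℤ) :
    (resA φ ⊗ S.X n : ModuleCat.{u} R) ≅ ((resCx φ).obj ((extCx φ).obj S)).X n :=
  reIso φ (S.X n)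

@[reassoc]
lemma ι_chiL_hom (n : ℤ) :
    ιTensorObj (sgl (resA φ)) S 0 n n (zero_add n) ≫ (chiL φ S).hom.f n =
      ((singleObjXSelf (ComplexShape.up ℤ) 0 (resA φ)).hom ▷ S.X n) ≫ (reX φ S n).hom := by
  dsimp only [chiL, Iso.trans_hom, Iso.symm_hom]
  rw [HomologicalComplex.comp_f]
  have h1 : ιTensorObj (sgl (resA φ)) S 0 n n (zero_add n) ≫ (singleTensorIso (resA φ) S).inv.f n =
      (singleObjXSelf (ComplexShape.up ℤ) 0 (resA φ)).hom ▷ S.X n := ι_sglπ_zero (resA φ) S n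
  rw [reassoc_of% h1]
  rfl

end ChiL

@[reassoc]
lemma reX_hom_nat {S S' : DRing.Cx R} (f : S ⟶ S') (n : ℤ) :
    (resA φ ◁ f.f n) ≫ (reX φ S' n).hom =
      (reX φ S n).hom ≫ ((resCx φ).map ((extCx φ).map f)).f n :=
  reIso_hom_nat φ (f.f n)

@[reassoc]
lemma chiL_hom_nat {S S' : DRing.Cx R} (f : S ⟶ S') :
    (sgl (resA φ) ◁ f) ≫ (chiL φ S').hom = (chiL φ S).hom ≫ (resCx φ).map ((extCx φ).map f) := by
  refine HomologicalComplex.hom_ext _ _ (fun n => ?_)
  apply sgl_tensor_hom_ext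
  rw [HomologicalComplex.comp_f, HomologicalComplex.comp_f, ι_whiskerLeft_assoc, ι_chiL_hom,
    ι_chiL_hom_assoc, whisker_exchange_assoc, reX_hom_nat]

section EtilL

variable {E : DRing.Cx R} (e : E ⟶ sgl (resA φ))

/-- the degree `0` component of `e`, with values in `A` -/
noncomputable def e0 : E.X 0 ⟶ resA φ :=
  e.f 0 ≫ (singleObjXSelf (ComplexShape.up ℤ) 0 (resA φ)).hom

/-- the map `E ⊗ S ⟶ (A ⊗_R S)|_R` induced by `e : E ⟶ A[0]` -/
noncomputable def etilL (S : DRing.Cx R) : E ⊗ S ⟶ (resCx φ).obj ((extCx φ).obj S) :=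
  (e ▷ S) ≫ (chiL φ S).hom

@[reassoc]
lemma etilL_nat {S S' : DRing.Cx R} (f : S ⟶ S') :
    (E ◁ f) ≫ etilL φ e S' = etilL φ e S ≫ (resCx φ).map ((extCx φ).map f) := by
  dsimp only [etilL]
  rw [whisker_exchange_assoc, chiL_hom_nat, Category.assoc]

lemma quasiIso_etilL [QuasiIso e] (S : DRing.Cx R) (hS : KFlat S) : QuasiIso (etilL φ e S) := by
  haveI : QuasiIso (e ▷ S) := quasiIso_whiskerRight_of_kflat (f := e) S hS
  dsimp only [etilL]
  infer_instance

@[reassoc]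
lemma ι_etilL_zero (S : DRing.Cx R) (n : ℤ) :
    ιTensorObj E S 0 n n (zero_add n) ≫ (etilL φ e S).f n =
      (e0 φ e ▷ S.X n) ≫ (reX φ S n).hom := by
  dsimp only [etilL, e0]
  rw [HomologicalComplex.comp_f, ι_whiskerRight_assoc, ι_chiL_hom, ← comp_whiskerRight_assoc]

lemma ι_etilL_ne (S : DRing.Cx R) (p q n : ℤ) (h : p + q = n) (hp : p ≠ 0) :
    ιTensorObj E S p q n h ≫ (etilL φ e S).f n = 0 := by
  dsimp only [etilL]
  rw [HomologicalComplex.comp_f, ι_whiskerRight_assoc]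
  have hz : e.f p = 0 := (isZero_single_obj_X (ComplexShape.up ℤ) 0 (resA φ) p hp).eq_of_tgt _ _
  rw [hz, MonoidalPreadditive.zero_whiskerRight, zero_comp]

end EtilL

end Groth.Agent.Lib.H6xBC
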