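import Mathlib
import Groth.Agent.Lib.H6xBCC
import Groth.Agent.Lib.H6xBCD
set_option backward.isDefEq.respectTransparency.types false

/-!
# helper6: chain-level base change: the key identity
-/

set_option autoImplicit false
set_option linter.style.haveILetI false
universe u
open CategoryTheory CategoryTheory.Limits MonoidalCategory HomologicalComplex TensorProduct

namespace Groth.Agent.Lib.H6xBC

open DTen Groth.Agent.Lib.Helper1.KF Groth.Agent.Lib.Helper1.DT Groth.Agent.Lib.H6xRel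

section ActL

variable {R A : Type u} [CommRing R] [CommRing A] (φ : R →+* A)

/-- the action `A ⊗_R Y|_R ⟶ Y|_R`, `b ⊗ y ↦ b y` -/
noncomputable def actLM (Y : ModuleCat.{u} A) :
    (resA φ ⊗ (H6xRel.resM φ).obj Y : ModuleCat.{u} R) ⟶ (H6xRel.resM φ).obj Y :=
  (reIso φ ((H6xRel.resM φ).obj Y)).hom ≫
    (H6xRel.resM φ).map ((ModuleCat.extendRestrictScalarsAdj.{u, u, u} φ).counit.app Y)

lemma actLM_tmul (Y : ModuleCat.{u} A) (b : A) (y : Y) :
    (actLM φ Y).hom ((show resA φ from b) ⊗ₜ[R] (show (H6xRel.resM φ).obj Y from y)) =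
      (show (H6xRel.resM φ).obj Y from b • y) := rfl

variable {E : DRing.Cx R} (e : E ⟶ sgl (resA φ))

/-- the action of `E` (through `e : E ⟶ A[0]`) on the restriction of a complex of `A`-modules -/
noncomputable def actL (M : DRing.Cx A) : E ⊗ (resCx φ).obj M ⟶ (resCx φ).obj M :=
  etilL φ e ((resCx φ).obj M) ≫ (resCx φ).map ((extResAdj φ).counit.app M)

/-- `actLM` on the terms of a complex -/
noncomputable def actLX (M : DRing.Cx A) (n : ℤ) :
    (resA φ ⊗ ((resCx φ).obj M).X n : ModuleCat.{u} R) ⟶ ((resCx φ).obj M).X n :=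
  actLM φ (M.X n)

@[reassoc]
lemma ι_actL_zero (M : DRing.Cx A) (n : ℤ) :
    ιTensorObj E ((resCx φ).obj M) 0 n n (zero_add n) ≫ (actL φ e M).f n =
      (e0 φ e ▷ ((resCx φ).obj M).X n) ≫ actLX φ M n := by
  dsimp only [actL]
  rw [HomologicalComplex.comp_f, ι_etilL_zero_assoc]
  rfl

lemma ι_actL_ne (M : DRing.Cx A) (p q n : ℤ) (h : p + q = n) (hp : p ≠ 0) :
    ιTensorObj E ((resCx φ).obj M) p q n h ≫ (actL φ e M).f n = 0 := by
  dsimp only [actL]
  rw [HomologicalComplex.comp_f, ← Category.assoc, ι_etilL_ne φ e _ p q n h hp, zero_comp]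

lemma res_homEquiv_symm {S : DRing.Cx R} {M : DRing.Cx A} (s : S ⟶ (resCx φ).obj M) :
    etilL φ e S ≫ (resCx φ).map (((extResAdj φ).homEquiv S M).symm s) =
      (E ◁ s) ≫ actL φ e M := by
  rw [Adjunction.homEquiv_counit, Functor.map_comp, ← etilL_nat_assoc]
  rfl

end ActL

section Square

variable {R A R' A' : Type u} [CommRing R] [CommRing A] [CommRing R'] [CommRing A']
  {φ : R →+* A} {ρ : R →+* R'} {α : A →+* A'} {φ' : R' →+* A'}

/-- the `R`-linear map `R' ⟶ A'` -/
noncomputable def wM (h : α.comp φ = φ'.comp ρ) : resA ρ ⟶ (H6xRel.resM φ).obj (resA α) :=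
  ConcreteCategory.ofHom (C := ModuleCat.{u} R) (X := resA ρ) (Y := (H6xRel.resM φ).obj (resA α))
    { toFun := fun x => φ' x
      map_add' := fun x y => map_add φ' x y
      map_smul' := fun r x => by
        change φ' (ρ r * (show R' from x)) = α (φ r) * φ' (show R' from x)
        rw [map_mul]
        congr 1
        exact (RingHom.congr_fun h r).symm }

/-- the `A`-linear map `A ⊗_R X ⟶ A'` induced by `x0 : X ⟶ R'` -/
noncomputable def e'0 (h : α.comp φ = φ'.comp ρ) {X : ModuleCat.{u} R} (x0 : X ⟶ resA ρ) : (H6xRel.extM φ).obj X ⟶ resA α :=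
  ((ModuleCat.extendRestrictScalarsAdj.{u, u, u} φ).homEquiv X (resA α)).symm (x0 ≫ wM h)

open ChangeOfRings in
lemma key_mod (h : α.comp φ = φ'.comp ρ) {X : ModuleCat.{u} R} (x0 : X ⟶ resA ρ)
    (N : ModuleCat.{u} A) :
    (X ◁ ((H6xRel.resM φ).map ((ModuleCat.extendRestrictScalarsAdj.{u, u, u} α).unit.app N) ≫
        (TrivBC.resCommMod h).hom.app ((H6xRel.extM α).obj N))) ≫
      (x0 ▷ (H6xRel.resM ρ).obj ((H6xRel.resM φ').obj ((H6xRel.extM α).obj N))) ≫
        actLM ρ ((H6xRel.resM φ').obj ((H6xRel.extM α).obj N)) =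
    (cancelIso φ X N).hom ≫ (H6xRel.resM φ).map ((e'0 h x0 ▷ N) ≫ (reIso α N).hom) ≫
      (TrivBC.resCommMod h).hom.app ((H6xRel.extM α).obj N) := by
  apply ModuleCat.MonoidalCategory.tensor_ext
  intro x y
  have hL : (ModuleCat.Hom.hom
      (X ◁ ((H6xRel.resM φ).map ((ModuleCat.extendRestrictScalarsAdj.{u, u, u} α).unit.app N) ≫
          (TrivBC.resCommMod h).hom.app ((H6xRel.extM α).obj N)) ≫
        x0 ▷ (H6xRel.resM ρ).obj ((H6xRel.resM φ').obj ((H6xRel.extM α).obj N)) ≫
          actLM ρ ((H6xRel.resM φ').obj ((H6xRel.extM α).obj N)))) (x ⊗ₜ[R] y) =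
      (show (H6xRel.resM ρ).obj ((H6xRel.resM φ').obj ((H6xRel.extM α).obj N)) from
        (((φ' (show R' from x0.hom x) * 1 : A') ⊗ₜ[A,α] (show N from y)) :
          (H6xRel.extM α).obj N)) := rfl
  have hR : (ModuleCat.Hom.hom
      ((H6xRel.cancelIso φ X N).hom ≫
        (H6xRel.resM φ).map (e'0 h x0 ▷ N ≫ (reIso α N).hom) ≫
          (TrivBC.resCommMod h).hom.app ((H6xRel.extM α).obj N))) (x ⊗ₜ[R] y) =
      (show (H6xRel.resM ρ).obj ((H6xRel.resM φ').obj ((H6xRel.extM α).obj N)) from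
        (((α 1 * φ' (show R' from x0.hom x) : A') ⊗ₜ[A,α] (show N from y)) :
          (H6xRel.extM α).obj N)) := rfl
  rw [hL, hR, mul_one, map_one, one_mul]

lemma rcIso_hom_app_f (h : α.comp φ = φ'.comp ρ) (Y : DRing.Cx A') (n : ℤ) :
    ((rcIso h).hom.app Y).f n = (TrivBC.resCommMod h).hom.app (Y.X n) := by
  simp only [rcIso, Iso.trans_hom, Iso.symm_hom, NatTrans.comp_app, HomologicalComplex.comp_f,
    Functor.mapHomologicalComplexCompIso_hom_app_f, Functor.mapHomologicalComplexCompIso_inv_app_f,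
    Iso.refl_inv, NatTrans.id_app]
  exact Category.comp_id _

section Cx

variable (h : α.comp φ = φ'.comp ρ) {E : DRing.Cx R} (e : E ⟶ sgl (resA ρ))

/-- the chain map `A ⊗_R E ⟶ A'[0]` induced by `e : E ⟶ R'[0]` -/
noncomputable def e' : (extCx φ).obj E ⟶ sgl (resA α) :=
  HomologicalComplex.mkHomToSingle (e'0 h (e0 ρ e)) (fun i hi => by
    have h1 : E.d i 0 ≫ e0 ρ e = 0 := by
      dsimp only [e0]
      rw [← Category.assoc, ← e.comm i 0, single_obj_d, comp_zero, zero_comp]
    show (H6xRel.extM φ).map (E.d i 0) ≫ e'0 h (e0 ρ e) = 0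
    dsimp only [e'0]
    rw [← Adjunction.homEquiv_naturality_left_symm, ← Category.assoc, h1, zero_comp,
      Adjunction.homEquiv_counit, Functor.map_zero, zero_comp])

lemma e0_e' : e0 α (e' h e) = e'0 h (e0 ρ e) := by
  dsimp only [e0, e']
  rw [HomologicalComplex.mkHomToSingle_f, Category.assoc, Iso.inv_hom_id, Category.comp_id]

theorem key_cx (P : DRing.Cx A) :
    (E ◁ ((resCx φ).map ((extResAdj α).unit.app P) ≫ (rcIso h).hom.app ((extCx α).obj P))) ≫
        actL ρ e ((resCx φ').obj ((extCx α).obj P)) =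
      (crossIso φ E P).hom ≫ (resCx φ).map (etilL α (e' h e) P) ≫
        (rcIso h).hom.app ((extCx α).obj P) := by
  refine HomologicalComplex.hom_ext _ _ (fun n => ?_)
  apply tensor_hom_ext
  intro p q hpq
  show ιTensorObj E ((resCx φ).obj P) p q n hpq ≫
      ((E ◁ ((resCx φ).map ((extResAdj α).unit.app P) ≫
        (rcIso h).hom.app ((extCx α).obj P))) ≫
        actL ρ e ((resCx φ').obj ((extCx α).obj P))).f n =
    ιTensorObj E ((resCx φ).obj P) p q n hpq ≫
      ((crossIso φ E P).hom ≫ (resCx φ).map (etilL α (e' h e) P) ≫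
        (rcIso h).hom.app ((extCx α).obj P)).f n
  rw [HomologicalComplex.comp_f, HomologicalComplex.comp_f, HomologicalComplex.comp_f,
    ι_whiskerLeft_assoc, ι_crossIso_hom_assoc]
  by_cases hp : p = 0
  · subst hp
    obtain rfl : q = n := by omega
    have h1 := ι_actL_zero ρ e ((resCx φ').obj ((extCx α).obj P)) q
    have h2 : resι φ E P 0 q q (zero_add q) ≫ ((resCx φ).map (etilL α (e' h e) P)).f q =
        (H6xRel.resM φ).map ((e0 α (e' h e) ▷ P.X q) ≫ (reX α P q).hom) := by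
      show (H6xRel.resM φ).map (ιTensorObj ((extCx φ).obj E) P 0 q q (zero_add q)) ≫
        (H6xRel.resM φ).map ((etilL α (e' h e) P).f q) = _
      rw [← Functor.map_comp, ι_etilL_zero]
    rw [reassoc_of% h2, e0_e', rcIso_hom_app_f]
    refine Eq.trans ?_ (key_mod h (e0 ρ e) (P.X q))
    rw [HomologicalComplex.comp_f, rcIso_hom_app_f]
    exact congrArg (fun t => _ ≫ t) h1
  · have h1 := ι_actL_ne ρ e ((resCx φ').obj ((extCx α).obj P)) p q n hpq hp
    have h2 : resι φ E P p q n hpq ≫ ((resCx φ).map (etilL α (e' h e) P)).f n = 0 := by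
      show (H6xRel.resM φ).map (ιTensorObj ((extCx φ).obj E) P p q n hpq) ≫
        (H6xRel.resM φ).map ((etilL α (e' h e) P).f n) = 0
      rw [← Functor.map_comp, ι_etilL_ne _ _ _ p q n hpq hp, Functor.map_zero]
    rw [reassoc_of% h2, zero_comp, comp_zero]
    exact (congrArg (fun t => _ ≫ t) h1).trans comp_zero

end Cx

end Square

end Groth.Agent.Lib.H6xBC
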