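import Mathlib
import Groth.Agent.Lib.H6xBCE
set_option backward.isDefEq.respectTransparency.types false

/-!
# helper6: chain-level base change: the comparison map is a quasi-isomorphism
-/

set_option autoImplicit false
set_option linter.style.haveILetI false
universe u
open CategoryTheory CategoryTheory.Limits MonoidalCategory HomologicalComplex TensorProduct

namespace Groth.Agent.Lib.H6xBC

open DTen Groth.Agent.Lib.Helper1.KF Groth.Agent.Lib.Helper1.DT Groth.Agent.Lib.H6xRel

variable {R A R' A' : Type u} [CommRing R] [CommRing A] [CommRing R'] [CommRing A']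
  {φ : R →+* A} {ρ : R →+* R'} {α : A →+* A'} {φ' : R' →+* A'}

theorem quasiIso_cch (h : α.comp φ = φ'.comp ρ) {E : DRing.Cx R} (e : E ⟶ sgl (resA ρ))
    [QuasiIso e] (hE : KFlat E) (he' : QuasiIso (e' h e))
    (P : DRing.Cx A) (hP : KFlat P) {P₁ : DRing.Cx R} (hP₁ : KFlat P₁)
    (s₁ : P₁ ⟶ (resCx φ).obj P) [QuasiIso s₁] :
    QuasiIso (cch h P s₁) := by
  have key : etilL ρ e P₁ ≫ (resCx ρ).map (cch h P s₁) =
      (E ◁ s₁) ≫ (crossIso φ E P).hom ≫ (resCx φ).map (etilL α (e' h e) P) ≫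
        (rcIso h).hom.app ((extCx α).obj P) := by
    rw [cch, res_homEquiv_symm, MonoidalCategory.whiskerLeft_comp, Category.assoc, key_cx]
  haveI h1 : QuasiIso (etilL ρ e P₁) := quasiIso_etilL ρ e P₁ hP₁
  haveI h2 : QuasiIso (E ◁ s₁) := quasiIso_whiskerLeft_of_kflatL (f := s₁) E hE.kflatL
  haveI := he'
  haveI h3 : QuasiIso (etilL α (e' h e) P) := quasiIso_etilL α (e' h e) P hP
  haveI h4 : QuasiIso ((resCx φ).map (etilL α (e' h e) P)) :=
    (HomologicalComplex.quasiIso_map_iff_of_preservesHomology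
      (etilL α (e' h e) P) (ModuleCat.restrictScalars.{u} φ)).2 h3
  have h5 : QuasiIso (etilL ρ e P₁ ≫ (resCx ρ).map (cch h P s₁)) := by
    rw [key]
    infer_instance
  have h6 : QuasiIso ((resCx ρ).map (cch h P s₁)) := quasiIso_of_comp_left (etilL ρ e P₁) _
  exact (HomologicalComplex.quasiIso_map_iff_of_preservesHomology
    (cch h P s₁) (ModuleCat.restrictScalars.{u} ρ)).1 h6

attribute [local instance] HasDerivedCategory.standard

open DerivedCategory Groth.Agent.Lib.Helper1.LDer in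
/-- the derived base change comparison map is an isomorphism, given a K-flat resolution `E` of `R'`
over `R` whose extension of scalars to `A` resolves `A'` -/
theorem isIso_cmp_of_resolution (h : α.comp φ = φ'.comp ρ) {E : DRing.Cx R}
    (e : E ⟶ sgl (resA ρ)) [QuasiIso e] (hE : KFlat E) (he' : QuasiIso (e' h e))
    [DRing.HasLBaseChange ρ] [DRing.HasLBaseChange α]
    (adjρ : DRing.LBaseChange ρ ⊣ DRing.restrictD ρ)
    (adjα : DRing.LBaseChange α ⊣ DRing.restrictD α) (K : Dual.D A) :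
    IsIso (TrivBC.cmp adjρ adjα h K) := by
  obtain ⟨adjρ₀, -, hcounit⟩ := exists_adj ρ
  obtain ⟨adjα₀, hunit, -⟩ := exists_adj α
  show IsIso (mate adjα adjρ (TrivBC.resComm h).hom K)
  rw [isIso_mate_iff adjα₀ adjρ₀ _ adjα adjρ K]
  obtain ⟨P, π, hP, -, hπ, -⟩ := exists_kprojective_resolution (Q.objPreimage K)
  haveI := hP
  haveI : IsIso (Q.map π) := (DerivedCategory.isIso_Q_map_iff_quasiIso (φ := π)).2 hπ
  let eK : Q.obj P ≅ K := asIso (Q.map π) ≪≫ Q.objObjPreimageIso K
  refine isIso_mate_of_iso adjα₀ adjρ₀ _ eK ?_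
  show IsIso (TrivBC.cmp adjρ₀ adjα₀ h (Q.obj P))
  obtain ⟨P₁, s₁, hP₁, -, hs₁, -⟩ := exists_kprojective_resolution ((resCx φ).obj P)
  haveI := hP₁
  haveI := hs₁
  have fac := cmp_fac adjρ₀ adjα₀ hunit hcounit h P s₁
  haveI : IsIso (Q.map s₁) := (DerivedCategory.isIso_Q_map_iff_quasiIso (φ := s₁)).2 hs₁
  have hq : QuasiIso (cch h P s₁) :=
    quasiIso_cch h e hE he' P (kflat_of_isKProjective P) (kflat_of_isKProjective P₁) s₁
  haveI : IsIso (Q.map (cch h P s₁)) :=
    (DerivedCategory.isIso_Q_map_iff_quasiIso (φ := cch h P s₁)).2 hq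
  haveI i1 : IsIso ((DRing.LBaseChange ρ).map (Q.map s₁ ≫ (resFactors φ).inv.app P)) := by
    haveI : IsIso (Q.map s₁ ≫ (resFactors φ).inv.app P) := inferInstance
    infer_instance
  haveI i2 : IsIso ((DRing.restrictD φ').map ((lbcCounit α).app P)) := inferInstance
  have e1 : TrivBC.cmp adjρ₀ adjα₀ h (Q.obj P) =
      inv ((DRing.LBaseChange ρ).map (Q.map s₁ ≫ (resFactors φ).inv.app P)) ≫
        ((lbcCounit ρ).app P₁ ≫ Q.map (cch h P s₁) ≫ (resFactors φ').inv.app ((extCx α).obj P)) ≫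
          inv ((DRing.restrictD φ').map ((lbcCounit α).app P)) := by
    rw [← fac]
    simp only [Category.assoc, IsIso.hom_inv_id, Category.comp_id, IsIso.inv_hom_id_assoc]
  rw [e1]
  infer_instance

end Groth.Agent.Lib.H6xBC
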