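import Mathlib
import Groth.Agent.Lib.H6xBCE
set_option backward.isDefEq.respectTransparency.types false

/-!
# helper6: the extension of scalars of a resolution of `R'` resolves `A'` (tor independence)
-/

set_option autoImplicit false
set_option linter.style.haveILetI false
universe u
open CategoryTheory CategoryTheory.Limits MonoidalCategory HomologicalComplex TensorProduct

namespace Groth.Agent.Lib.H6xBC

open DTen Groth.Agent.Lib.Helper1.KF Groth.Agent.Lib.Helper1.DT Groth.Agent.Lib.H6xRel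

section General

variable {C : Type*} [Category C] [Abelian C] {K : CochainComplex C ℤ} {M : C}
  (f : K ⟶ (single C (ComplexShape.up ℤ) 0).obj M)

lemma d_comp_f_zero : K.d (-1) 0 ≫ f.f 0 = 0 := by
  rw [← f.comm (-1) 0, single_obj_d, comp_zero]

lemma quasiIsoAt_zero_iff (hz : IsZero (K.X 1)) :
    QuasiIsoAt f 0 ↔ (ShortComplex.mk (K.d (-1) 0) (f.f 0) (d_comp_f_zero f)).Exact ∧ Epi (f.f 0) := by
  rw [quasiIsoAt_iff' f (-1) 0 1 (by simp) (by simp)]
  rw [ShortComplex.quasiIso_iff_of_zeros' _ (hz.eq_of_tgt _ _)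
    (single_obj_d (ComplexShape.up ℤ) 0 M (-1) 0) (single_obj_d (ComplexShape.up ℤ) 0 M 0 1)]
  rfl

end General

section Square

variable {R A R' A' : Type u} [CommRing R] [CommRing A] [CommRing R'] [CommRing A']
  {φ : R →+* A} {ρ : R →+* R'} {α : A →+* A'} {φ' : R' →+* A'} (h : α.comp φ = φ'.comp ρ)

/-- the `A`-linear map `A ⊗_R R' ⟶ A'` -/
noncomputable def μ : (H6xRel.extM φ).obj (resA ρ) ⟶ resA α :=
  ((ModuleCat.extendRestrictScalarsAdj.{u, u, u} φ).homEquiv _ _).symm (wM h)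

lemma e'0_eq {X : ModuleCat.{u} R} (x0 : X ⟶ resA ρ) :
    e'0 h x0 = (H6xRel.extM φ).map x0 ≫ μ h := by
  dsimp only [e'0, μ]
  rw [Adjunction.homEquiv_naturality_left_symm]

instance : PreservesFiniteColimits (H6xRel.extM φ) := by
  have := (ModuleCat.extendRestrictScalarsAdj.{u, u, u} φ).leftAdjoint_preservesColimits
  infer_instance

/-- `μ` on the degree `0` terms of the single complexes -/
noncomputable def ι0 : (H6xRel.extM φ).obj ((sgl (resA ρ)).X 0) ⟶ (sgl (resA α)).X 0 :=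
  (H6xRel.extM φ).map (singleObjXSelf (ComplexShape.up ℤ) 0 (resA ρ)).hom ≫ μ h ≫
    (singleObjXSelf (ComplexShape.up ℤ) 0 (resA α)).inv

lemma isIso_ι0 (hμ : IsIso (μ h)) : IsIso (ι0 h) := by
  haveI := hμ
  dsimp only [ι0]
  infer_instance

/-- the degree `0` component of `extCx`, typed -/
noncomputable def extF0 {E : DRing.Cx R} (e : E ⟶ sgl (resA ρ)) :
    ((extCx φ).obj E).X 0 ⟶ (H6xRel.extM φ).obj ((sgl (resA ρ)).X 0) :=
  (H6xRel.extM φ).map (e.f 0)

lemma e'_f_zero {E : DRing.Cx R} (e : E ⟶ sgl (resA ρ)) :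
    (e' h e).f 0 = extF0 (φ := φ) e ≫ ι0 h := by
  refine (mkHomToSingle_f _ _).trans ?_
  rw [e'0_eq, e0, Functor.map_comp]
  simp only [Category.assoc, ι0]
  rfl

theorem quasiIso_e' {E : DRing.Cx R} (e : E ⟶ sgl (resA ρ)) [QuasiIso e]
    (hpos : ∀ n : ℤ, 0 < n → IsZero (E.X n)) (hμ : IsIso (μ h))
    (hneg : ∀ n : ℤ, n < 0 → ((extCx φ).obj E).ExactAt n) : QuasiIso (e' h e) := by
  rw [quasiIso_iff]
  intro n
  rcases lt_trichotomy n 0 with hn | rfl | hn
  · rw [quasiIsoAt_iff_exactAt' _ _ (exactAt_single_obj _ _ _ _ hn.ne)]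
    exact hneg n hn
  · have hz1 : IsZero (E.X 1) := hpos 1 one_pos
    have hz1' : IsZero (((extCx φ).obj E).X 1) := (H6xRel.extM φ).map_isZero hz1
    rw [quasiIsoAt_zero_iff _ hz1']
    obtain ⟨hex, hepi⟩ := (quasiIsoAt_zero_iff e hz1).1 (inferInstance : QuasiIsoAt e 0)
    have hex' := hex.map_of_epi_of_preservesCokernel (H6xRel.extM φ) hepi inferInstance
    haveI := isIso_ι0 h hμ
    have hf := e'_f_zero h e
    let i1 : (H6xRel.extM φ).obj (E.X (-1)) ≅ ((extCx φ).obj E).X (-1) := Iso.refl _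
    let i2 : (H6xRel.extM φ).obj (E.X 0) ≅ ((extCx φ).obj E).X 0 := Iso.refl _
    constructor
    · refine (ShortComplex.exact_iff_of_iso
        (S₁ := (ShortComplex.mk (E.d (-1) 0) (e.f 0) (d_comp_f_zero e)).map (H6xRel.extM φ))
        (S₂ := ShortComplex.mk (((extCx φ).obj E).d (-1) 0) ((e' h e).f 0)
          (d_comp_f_zero (e' h e)))
        (ShortComplex.isoMk i1 i2 (@asIso _ _ _ _ (ι0 h) (isIso_ι0 h hμ)) ?_ ?_)).1 hex'
      · exact (Category.id_comp _).trans (Category.comp_id _).symm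
      · show 𝟙 _ ≫ (e' h e).f 0 = (H6xRel.extM φ).map (e.f 0) ≫ ι0 h
        rw [hf]
        exact Category.id_comp _
    · rw [hf]
      haveI : Epi (extF0 (φ := φ) e) := by
        haveI := hepi
        haveI : (H6xRel.extM φ).PreservesEpimorphisms :=
          Functor.preservesEpimorphisms_of_adjunction
            (ModuleCat.extendRestrictScalarsAdj.{u, u, u} φ)
        dsimp only [extF0]
        exact (H6xRel.extM φ).map_epi (e.f 0)
      exact epi_comp _ _
  · rw [quasiIsoAt_iff_exactAt' _ _ (exactAt_single_obj _ _ _ _ hn.ne')]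
    exact ShortComplex.exact_of_isZero_X₂ _ ((H6xRel.extM φ).map_isZero (hpos n hn))

end Square

end Groth.Agent.Lib.H6xBC
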