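import Mathlib
import Groth.Agent.Lib.H6xBCF
import Groth.Agent.Lib.H6xBCG
import Groth.Agent.Lib.Helper1TorH
set_option backward.isDefEq.respectTransparency.types false

/-!
# helper6: tor independent base change for a cocartesian square of rings
-/

set_option autoImplicit false
set_option linter.style.haveILetI false
universe u
open CategoryTheory CategoryTheory.Limits MonoidalCategory HomologicalComplex TensorProduct

namespace Groth.Agent.Lib.H6xBC

open DTen Groth.Agent.Lib.Helper1.KF Groth.Agent.Lib.Helper1.DT Groth.Agent.Lib.H6xRel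

section Algebra

variable (R A R' A' : Type u) [CommRing R] [CommRing A] [CommRing R'] [CommRing A']
  [Algebra R A] [Algebra R R'] [Algebra A A'] [Algebra R' A'] [Algebra R A']
  [IsScalarTower R A A'] [IsScalarTower R R' A']

/-- `A` with its algebra module structure is `A` restricted along `algebraMap` -/
noncomputable def resAEquiv : (resA (algebraMap R A) : ModuleCat.{u} R) ≃ₗ[R] A where
  toFun x := x
  invFun x := x
  left_inv _ := rfl
  right_inv _ := rfl
  map_add' _ _ := rfl
  map_smul' r x := (Algebra.smul_def r (show A from x)).symm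

lemma bijective_μ [Algebra.IsPushout R A R' A']
    (h : (algebraMap A A').comp (algebraMap R A) = (algebraMap R' A').comp (algebraMap R R')) :
    Function.Bijective (μ h).hom := by
  let T : TensorProduct R (resA (algebraMap R A)) (resA (algebraMap R R')) ≃ₗ[R] A ⊗[R] R' :=
    TensorProduct.congr (resAEquiv R A) (resAEquiv R R')
  let B : A ⊗[R] R' ≃ₗ[A] A' :=
    (Algebra.IsPushout.out : IsBaseChange A (IsScalarTower.toAlgHom R R' A').toLinearMap).equiv
  have key : ∀ x : TensorProduct R (resA (algebraMap R A)) (resA (algebraMap R R')),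
      (μ h).hom x = B (T x) := by
    have hm0 : (μ h).hom 0 = 0 := map_zero _
    have hmadd : ∀ x y, (μ h).hom (x + y) = (μ h).hom x + (μ h).hom y := map_add _
    intro x
    induction x using TensorProduct.induction_on with
    | zero => exact hm0.trans (by rw [map_zero, map_zero]; rfl)
    | tmul a r' =>
      change algebraMap A A' (show A from a) * algebraMap R' A' (show R' from r') =
        (show A from a) • algebraMap R' A' (show R' from r')
      rw [Algebra.smul_def]
    | add x y hx hy => exact (hmadd x y).trans (by rw [hx, hy, map_add, map_add]; rfl)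
  have : ⇑(μ h).hom = fun x => B (T x) := funext key
  rw [this]
  exact B.bijective.comp T.bijective

attribute [local instance] HasDerivedCategory.standard

open Groth.Agent.Lib.Helper1.Tor in
/-- tor independent base change for a cocartesian square of rings -/
theorem isIso_cmp_of_isPushout [Algebra.IsPushout R A R' A']
    (htor : ∀ p : ℕ, 1 ≤ p → Subsingleton (DRing.Tor R p A R'))
    [DRing.HasLBaseChange (algebraMap R R')] [DRing.HasLBaseChange (algebraMap A A')]
    (adjρ : DRing.LBaseChange (algebraMap R R') ⊣ DRing.restrictD (algebraMap R R'))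
    (adjα : DRing.LBaseChange (algebraMap A A') ⊣ DRing.restrictD (algebraMap A A'))
    (h : (algebraMap A A').comp (algebraMap R A) = (algebraMap R' A').comp (algebraMap R R'))
    (K : Dual.D A) : IsIso (TrivBC.cmp adjρ adjα h K) := by
  let F := ProjectiveResolution.of (ModuleCat.of R R')
  let E : DRing.Cx R := F.cochainComplex
  let j : ModuleCat.of R R' ≅ resA (algebraMap R R') := (resAEquiv R R').symm.toModuleIso
  let π0 : E ⟶ sgl (ModuleCat.of R R') := F.π'
  haveI h1 : QuasiIso π0 := inferInstanceAs (QuasiIso F.π')
  let sj : sgl (ModuleCat.of R R') ⟶ sgl (resA (algebraMap R R')) :=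
    (HomologicalComplex.single (ModuleCat.{u} R) (ComplexShape.up ℤ) 0).map j.hom
  haveI h2 : IsIso sj := by
    dsimp only [sj]
    infer_instance
  haveI h3 : QuasiIso sj := quasiIso_of_isIso sj
  let e : E ⟶ sgl (resA (algebraMap R R')) := π0 ≫ sj
  haveI : QuasiIso e := quasiIso_comp π0 sj
  haveI : E.IsKProjective := CochainComplex.isKProjective_of_projective E 0
  have hE : KFlat E := kflat_of_isKProjective E
  have hpos : ∀ n : ℤ, 0 < n → IsZero (E.X n) := fun n hn =>
    CochainComplex.isZero_of_isStrictlyLE E 0 n hn
  have hμ : IsIso (μ h) := (ConcreteCategory.isIso_iff_bijective _).2 (bijective_μ R A R' A' h)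
  have hneg : ∀ n : ℤ, n < 0 → ((extCx (algebraMap R A)).obj E).ExactAt n := by
    intro n hn
    obtain ⟨q, rfl⟩ : ∃ q : ℕ, n = -((q + 1 : ℕ) : ℤ) := ⟨(-n - 1).toNat, by push_cast; omega⟩
    rw [exactAt_extCx_iff]
    have h1 := exactAt_TC_of_subsingleton_tor A R' F q (htor (q + 1) (by omega))
    let jA : ModuleCat.of R A ≅ resA (algebraMap R A) := (resAEquiv R A).symm.toModuleIso
    exact h1.of_iso ((NatIso.mapHomologicalComplex
      ((tensoringLeft (ModuleCat.{u} R)).mapIso jA) (ComplexShape.up ℤ)).app E)
  exact isIso_cmp_of_resolution h e hE (quasiIso_e' h e hpos hμ hneg) adjρ adjα K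

end Algebra

end Groth.Agent.Lib.H6xBC
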