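import Mathlib
import Groth.Prelude.Def_CxOX
import Groth.Prelude.Def_FlatMod2
import Groth.Agent.Lib.H6xGamAcD
import Groth.Agent.Lib.H6xMVA
import Groth.Agent.Lib.Helper1Sky9
set_option backward.isDefEq.respectTransparency.types false

/-!
# Morphisms `j_! O_V ⟶ N` are sections of `N` over `V`; `∐ j_! O_{V_i}` is flat (helper6)
-/

set_option autoImplicit false
set_option linter.style.haveILetI false
universe u
open CategoryTheory CategoryTheory.Limits AlgebraicGeometry TopologicalSpace Opposite

namespace Groth.Agent.Lib.H6xExtZeroSec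

open Groth.Agent.Lib.H6xGamAc Groth.Agent.Lib.Helper1.Sky Groth.Agent.Lib.H6xMV

variable {X : Scheme.{u}}

/-- a section over `V` as a global section of the restriction to `V` -/
noncomputable def toRes (V : X.Opens) (N : X.Modules) (s : Γ(N, V)) :
    (DCoh.gammaAb (V : Scheme.{u})).obj ((Scheme.Modules.restrictFunctor V.ι).obj N) :=
  N.presheaf.map (homOfLE (le_of_eq V.ι_image_top)).op s

/-- a global section of the restriction to `V` as a section over `V` -/
noncomputable def fromRes (V : X.Opens) (N : X.Modules)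
    (t : (DCoh.gammaAb (V : Scheme.{u})).obj ((Scheme.Modules.restrictFunctor V.ι).obj N)) :
    Γ(N, V) :=
  N.presheaf.map (homOfLE (le_of_eq V.ι_image_top.symm)).op t

lemma fromRes_toRes (V : X.Opens) (N : X.Modules) (s : Γ(N, V)) :
    fromRes V N (toRes V N s) = s := by
  unfold fromRes toRes
  rw [← ConcreteCategory.comp_apply, ← Functor.map_comp]
  have : ((homOfLE (le_of_eq V.ι_image_top)).op ≫ (homOfLE (le_of_eq V.ι_image_top.symm)).op) =
      𝟙 (op V) := Subsingleton.elim _ _
  rw [this, CategoryTheory.Functor.map_id]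
  rfl

lemma toRes_fromRes (V : X.Opens) (N : X.Modules)
    (t : (DCoh.gammaAb (V : Scheme.{u})).obj ((Scheme.Modules.restrictFunctor V.ι).obj N)) :
    toRes V N (fromRes V N t) = t := by
  unfold fromRes toRes
  rw [← ConcreteCategory.comp_apply, ← Functor.map_comp]
  have : ((homOfLE (le_of_eq V.ι_image_top.symm)).op ≫ (homOfLE (le_of_eq V.ι_image_top)).op) =
      𝟙 (op (V.ι ''ᵁ ⊤)) := Subsingleton.elim _ _
  rw [this, CategoryTheory.Functor.map_id]
  rfl

lemma toRes_map (V : X.Opens) {N N' : X.Modules} (g : N ⟶ N') (s : Γ(N, V)) :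
    (DCoh.gammaAb (V : Scheme.{u})).map ((Scheme.Modules.restrictFunctor V.ι).map g) (toRes V N s) =
      toRes V N' (g.app V s) := by
  unfold toRes
  exact ConcreteCategory.congr_hom
    (g.mapPresheaf.naturality (homOfLE (le_of_eq V.ι_image_top)).op) s

/-- the morphism `j_! O_V ⟶ N` attached to a section of `N` over `V` -/
noncomputable def secHom (V : X.Opens) (N : X.Modules) (s : Γ(N, V)) :
    CxOX.extZeroUnit V.ι ⟶ N :=
  ((CxOX.extZeroAdj V.ι).homEquiv _ N).symm (ofGam _ (toRes V N s))

/-- the section of `N` over `V` attached to a morphism `j_! O_V ⟶ N` -/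
noncomputable def homSec (V : X.Opens) (N : X.Modules) (φ : CxOX.extZeroUnit V.ι ⟶ N) : Γ(N, V) :=
  fromRes V N (toGam _ ((CxOX.extZeroAdj V.ι).homEquiv _ N φ))

lemma homSec_secHom (V : X.Opens) (N : X.Modules) (s : Γ(N, V)) : homSec V N (secHom V N s) = s := by
  unfold homSec secHom
  rw [Equiv.apply_symm_apply, toGam_ofGam, fromRes_toRes]

lemma secHom_homSec (V : X.Opens) (N : X.Modules) (φ : CxOX.extZeroUnit V.ι ⟶ N) :
    secHom V N (homSec V N φ) = φ := by
  unfold homSec secHom
  rw [toRes_fromRes, ofGam_toGam, Equiv.symm_apply_apply]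

lemma secHom_injective (V : X.Opens) (N : X.Modules) : Function.Injective (secHom V N) := by
  intro s s' h
  rw [← homSec_secHom V N s, ← homSec_secHom V N s', h]

lemma secHom_comp (V : X.Opens) {N N' : X.Modules} (s : Γ(N, V)) (g : N ⟶ N') :
    secHom V N s ≫ g = secHom V N' (g.app V s) := by
  unfold secHom
  rw [← Adjunction.homEquiv_naturality_right_symm, ofGam_comp, toRes_map]

lemma secHom_zero (V : X.Opens) (N : X.Modules) : secHom V N 0 = 0 := by
  have h := secHom_comp V (0 : Γ(N, V)) (0 : N ⟶ N)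
  rw [comp_zero] at h
  rw [h]
  congr 1

/-- a morphism killing all sections is zero -/
lemma hom_eq_zero_of_app {N N' : X.Modules} (g : N ⟶ N')
    (h : ∀ (V : X.Opens) (s : Γ(N, V)), g.app V s = 0) : g = 0 := by
  apply Scheme.Modules.hom_ext
  intro V
  ext s
  exact h V s

/-- every module is a quotient of a coproduct of `j_! O_V`'s -/
theorem epi_desc_secHom (F : X.Modules) :
    Epi (Sigma.desc (fun i : (Σ V : X.Opens, Γ(F, V)) => secHom i.1 F i.2)) := by
  apply Preadditive.epi_of_cancel_zero
  intro N' g hg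
  apply hom_eq_zero_of_app
  intro V s
  have h1 : Sigma.ι (fun i : (Σ V : X.Opens, Γ(F, V)) => CxOX.extZeroUnit i.1.ι) ⟨V, s⟩ ≫
      Sigma.desc (fun i : (Σ V : X.Opens, Γ(F, V)) => secHom i.1 F i.2) ≫ g = 0 := by
    rw [hg, comp_zero]
  rw [Sigma.ι_desc_assoc] at h1
  change secHom V F s ≫ g = 0 at h1
  rw [secHom_comp, ← secHom_zero V N'] at h1
  exact secHom_injective V N' h1

section flat

/-- the structure module is finite locally free -/
lemma isFinLocFree_structureModule (X : Scheme.{u}) : FlatMod.IsFinLocFree (Coh.structureModule X) := by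
  intro x
  exact ⟨⊤, 1, trivial, ⟨Scheme.Modules.restrictUnitIso _ ≪≫
    (coproductUniqueIso (fun _ : Fin 1 => Coh.structureModule ((⊤ : X.Opens) : Scheme.{u}))).symm⟩⟩

lemma flat_stalk_structureModule (x : X) :
    Module.Flat (Ox x) ((stalkFun x).obj (Coh.structureModule X)) :=
  isFlat_of_isFinLocFree' (Coh.structureModule X) (isFinLocFree_structureModule X) x

lemma flat_stalk_extZeroUnit (V : X.Opens) (x : X) :
    Module.Flat (Ox x) ((stalkFun x).obj (CxOX.extZeroUnit V.ι)) := by
  by_cases hx : x ∈ V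
  · have hx' : x ∈ Set.range V.ι.base := by
      rw [Scheme.Opens.range_ι]; exact hx
    haveI := isIso_stalk_counit V.ι (Coh.structureModule X) x hx'
    let e : (stalkFun x).obj (CxOX.extZeroUnit V.ι) ≅ (stalkFun x).obj (Coh.structureModule X) :=
      (stalkFun x).mapIso ((CxOX.extZero V.ι).mapIso (Scheme.Modules.restrictUnitIso V.ι).symm) ≪≫
        asIso ((stalkFun x).map ((CxOX.extZeroAdj V.ι).counit.app (Coh.structureModule X)))
    haveI := flat_stalk_structureModule x
    exact Module.Flat.of_linearEquiv e.toLinearEquiv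
  · have hx' : x ∉ Set.range V.ι.base := by
      rw [Scheme.Opens.range_ι]; exact hx
    have hz := isZero_stalk_extZero V.ι x hx' (Coh.structureModule (V : Scheme.{u}))
    haveI : Subsingleton ((stalkFun x).obj (CxOX.extZeroUnit V.ι)) :=
      ModuleCat.subsingleton_of_isZero hz
    infer_instance

theorem isFlat_coprod_extZeroUnit {ι : Type u} (U : ι → X.Opens) :
    FlatMod.IsFlat (∐ fun i => CxOX.extZeroUnit (U i).ι) := by
  classical
  intro x
  change Module.Flat (Ox x) ((stalkFun x).obj (∐ fun i => CxOX.extZeroUnit (U i).ι))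
  let e1 : (stalkFun x).obj (∐ fun i => CxOX.extZeroUnit (U i).ι) ≅
      ∐ fun i => (stalkFun x).obj (CxOX.extZeroUnit (U i).ι) :=
    PreservesCoproduct.iso (stalkFun x) _
  let e2 := ModuleCat.coprodIsoDirectSum (fun i => (stalkFun x).obj (CxOX.extZeroUnit (U i).ι))
  haveI : ∀ i, Module.Flat (Ox x) ((stalkFun x).obj (CxOX.extZeroUnit (U i).ι)) :=
    fun i => flat_stalk_extZeroUnit (U i) x
  exact Module.Flat.of_linearEquiv (e1 ≪≫ e2).toLinearEquiv

end flat

end Groth.Agent.Lib.H6xExtZeroSec
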