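import Mathlib
import Groth.Prelude.Def_CxOX
import Groth.Agent.S0484
import Groth.Agent.Lib.Helper23Serre
import Groth.Agent.Lib.H6xExtZeroSec
import Groth.Agent.Lib.H6xBaerFam
set_option backward.isDefEq.respectTransparency.types false

/-!
# Baer's criterion for `O_X`-modules (helper6)

An `O_X`-module `F` is injective as soon as, for every `V` in a basis of opens, every morphism
from a subobject of `j_{V!} O_V` to `F` extends to `j_{V!} O_V`.
-/

set_option autoImplicit false
set_option linter.style.haveILetI false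
universe u
open CategoryTheory CategoryTheory.Limits AlgebraicGeometry TopologicalSpace Opposite

namespace Groth.Agent.Lib.H6xBaerSch

open Groth.Agent.Lib.H6xExtZeroSec

variable {X : Scheme.{u}}

theorem injective_of_extension_basis (𝓑 : Set X.Opens)
    (h𝓑 : ∀ (W : X.Opens) (x : X), x ∈ W → ∃ V ∈ 𝓑, x ∈ V ∧ V ≤ W) (F : X.Modules)
    (hF : ∀ V ∈ 𝓑, ∀ (K : Subobject (CxOX.extZeroUnit V.ι)) (g : (K : X.Modules) ⟶ F),
      ∃ h : CxOX.extZeroUnit V.ι ⟶ F, K.arrow ≫ h = g) : Injective F := by
  haveI : IsGrothendieckAbelian.{u} X.Modules := Groth.Agent.S0484.result _ _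
  apply Groth.Agent.Lib.H6xBaerFam.injective_of_extension.{u}
    (fun V : 𝓑 => CxOX.extZeroUnit V.1.ι) ?_ F (fun V K g => hF V.1 V.2 K g)
  intro A B p _ hp
  by_contra hcon
  push Not at hcon
  apply hp
  haveI : Epi p := by
    apply Groth.Agent.Lib.Helper23.Serre.epi_of_locally_surjective
    intro W t x hxW
    obtain ⟨V, hV, hxV, hVW⟩ := h𝓑 W x hxW
    obtain ⟨a, ha⟩ := hcon ⟨V, hV⟩ (secHom V B (B.presheaf.map (homOfLE hVW).op t))
    refine ⟨V, hVW, hxV, homSec V A a, ?_⟩
    apply secHom_injective V B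
    rw [← secHom_comp, secHom_homSec, ha]
  exact isIso_of_mono_of_epi p

end Groth.Agent.Lib.H6xBaerSch
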