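import Mathlib
import Groth.Agent.Lib.H6xBettiUscC
set_option backward.isDefEq.respectTransparency.types false

/-!
# Upper semicontinuity of the Betti numbers of a pseudo-coherent object (helper6)
-/

set_option autoImplicit false
set_option linter.style.haveILetI false

universe u

open CategoryTheory CategoryTheory.Limits AlgebraicGeometry TopologicalSpace Opposite

attribute [local instance] HasDerivedCategory.standard

namespace Groth.Agent.Lib.H6xBettiUsc

open Groth.Agent.Lib.H6xPC3 Groth.Agent.Lib.H6xPerf23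

/-- an affine chart around a point in which an `m`-pseudo-coherent object has a global
pseudo-coherence datum -/
theorem exists_affine_chart (X : Scheme.{u}) (E : DCoh.D X) (m : ℤ)
    (hE : DCoh.IsPseudoCoherentD m E) (x₀ : X) :
    ∃ (A : CommRingCat.{u}) (g : Spec A ⟶ X) (_ : IsOpenImmersion g) (p₀ : Spec A),
      g p₀ = x₀ ∧ PCGlobal m ((DCoh.restrictD g).obj E) := by
  obtain ⟨Z, g₀, hg₀, ⟨z₀, hz₀⟩, hG⟩ := (isPseudoCoherentD_iff_pcAt m E).1 hE x₀
  let 𝒰 := Z.affineOpenCover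
  obtain ⟨p₀, hp₀⟩ := 𝒰.covers z₀
  let j := 𝒰.f (𝒰.idx z₀)
  obtain ⟨c⟩ := nonempty_restrictD_comp j g₀ (j ≫ g₀) rfl E
  refine ⟨𝒰.X (𝒰.idx z₀), j ≫ g₀, inferInstance, p₀, ?_, (hG.restrict j).of_iso c.symm⟩
  rw [← hz₀]
  exact congrArg g₀ hp₀

/-- the `i`-th Betti number of an `(i-1)`-pseudo-coherent object is upper semicontinuous -/
theorem isOpen_betti_lt' (X : Scheme.{u}) [∀ x : X, DCoh.HasLpull (X.fromSpecResidueField x)]
    (E : DCoh.D X) (i : ℤ) (hE : DCoh.IsPseudoCoherentD (i - 1) E) (n : ℕ) :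
    IsOpen {x : X | PerfD.betti E x i < n} := by
  rw [isOpen_iff_forall_mem_open]
  intro x₀ hx₀
  obtain ⟨A, g, hg, p₀, hp₀, hpc⟩ := exists_affine_chart X E (i - 1) hE x₀
  subst hp₀
  obtain ⟨L, hL, hbetti⟩ := exists_betti_eq_dRank X E A g (i - 1) hpc
  have husc := upperSemicontinuous_dRank L hL i
  have hW : IsOpen {p : PrimeSpectrum A | CohIII.dRank L i p < n} :=
    (upperSemicontinuous_iff_isOpen_preimage.1 husc) n
  refine ⟨g '' {p : Spec A | CohIII.dRank L i p < n}, ?_, g.isOpenEmbedding.isOpenMap _ hW,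
    ⟨p₀, ?_, rfl⟩⟩
  · rintro _ ⟨p, hp, rfl⟩
    change PerfD.betti E (g p) i < n
    rw [hbetti i (by omega) p]
    exact hp
  · change CohIII.dRank L i p₀ < n
    rw [← hbetti i (by omega) p₀]
    exact hx₀

/-- S1060: the Betti numbers of a pseudo-coherent object are upper semicontinuous -/
theorem isOpen_betti_lt (X : Scheme.{u}) [∀ x : X, DCoh.HasLpull (X.fromSpecResidueField x)]
    (E : DCoh.D X) (hE : ∀ m : ℤ, DCoh.IsPseudoCoherentD m E) (i : ℤ) (n : ℕ) :
    IsOpen {x : X | PerfD.betti E x i < n} :=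
  isOpen_betti_lt' X E i (hE (i - 1)) n

end Groth.Agent.Lib.H6xBettiUsc
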