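import Mathlib
import Groth.Prelude.Def_DRing3

/-!
# helper6: `I`-power torsion submodules over Noetherian rings (module level)

* `mem_torsionSub_span_singleton`, `mem_torsionSub_sup`, `torsionSub_mono`
* `injective_torsionSub` : `Γ_I E` is injective for `E` injective over a Noetherian ring
* `exists_sub_smul_mem_torsionSub` : for `E` injective over a Noetherian ring and `f : A`,
  every `x : E` is `f • y` modulo `f`-power torsion
-/

set_option autoImplicit false

universe u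

open CategoryTheory

namespace Groth.Agent.Lib.H6xRGam

variable {A : Type u} [CommRing A]

section Basic

variable (I J : Ideal A) (M : Type u) [AddCommGroup M] [Module A M]

lemma torsionSub_mono {I J : Ideal A} (h : I ≤ J) :
    DRing.torsionSub J M ≤ DRing.torsionSub I M := by
  rintro m ⟨n, hn⟩
  exact ⟨n, fun a ha => hn a (Ideal.pow_right_mono h n ha)⟩

variable {M}

lemma mem_torsionSub_span_singleton {f : A} {m : M} :
    m ∈ DRing.torsionSub (Ideal.span {f}) M ↔ ∃ n : ℕ, f ^ n • m = 0 := by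
  constructor
  · rintro ⟨n, hn⟩
    exact ⟨n, hn _ (Ideal.pow_mem_pow (Ideal.mem_span_singleton_self f) n)⟩
  · rintro ⟨n, hn⟩
    refine ⟨n, fun a ha => ?_⟩
    rw [Ideal.span_singleton_pow, Ideal.mem_span_singleton] at ha
    obtain ⟨b, rfl⟩ := ha
    rw [mul_comm, mul_smul, hn, smul_zero]

lemma mem_torsionSub_sup {m : M} :
    m ∈ DRing.torsionSub (I ⊔ J) M ↔ m ∈ DRing.torsionSub I M ∧ m ∈ DRing.torsionSub J M := by
  constructor
  · intro h
    exact ⟨torsionSub_mono M le_sup_left h, torsionSub_mono M le_sup_right h⟩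
  · rintro ⟨⟨n, hn⟩, ⟨k, hk⟩⟩
    refine ⟨n + k, fun a ha => ?_⟩
    have h1 : a ∈ I ^ n ⊔ J ^ k := Ideal.sup_pow_add_le_pow_sup_pow ha
    obtain ⟨b, hb, c, hc, rfl⟩ := Submodule.mem_sup.1 h1
    rw [add_smul, hn b hb, hk c hc, add_zero]

lemma mem_torsionSub_bot (m : M) : m ∈ DRing.torsionSub (⊥ : Ideal A) M := by
  refine ⟨1, fun a ha => ?_⟩
  rw [pow_one] at ha
  rw [(Submodule.mem_bot A).1 ha, zero_smul]

end Basic

section Noetherian

variable [IsNoetherianRing A] (I : Ideal A) (E : Type u) [AddCommGroup E] [Module A E]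

/-- uniform killing exponent on a finitely generated ideal -/
lemma exists_pow_kill (𝔞 : Ideal A) (g : 𝔞 →ₗ[A] DRing.torsionSub I E) :
    ∃ n : ℕ, ∀ (x : 𝔞), ∀ a ∈ I ^ n, a • ((g x : DRing.torsionSub I E) : E) = 0 := by
  have hfg : 𝔞.FG := IsNoetherian.noetherian 𝔞
  obtain ⟨s, rfl⟩ := hfg
  have hgen : ∀ y : Ideal.span (s : Set A), ∃ n : ℕ, ∀ a ∈ I ^ n,
      a • ((g y : DRing.torsionSub I E) : E) = 0 := fun y => (g y).2
  classical
  choose! N hN using fun (y : A) (hy : y ∈ Ideal.span (s : Set A)) => hgen ⟨y, hy⟩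
  refine ⟨s.sup N, fun x a ha => ?_⟩
  have : ∀ z ∈ Submodule.span A (s : Set A), ∀ hz : z ∈ Ideal.span (s : Set A),
      a • ((g ⟨z, hz⟩ : DRing.torsionSub I E) : E) = 0 := by
    intro z hz
    induction hz using Submodule.span_induction with
    | mem y hy =>
      intro hz
      exact hN y hz a (Ideal.pow_le_pow_right (Finset.le_sup hy) ha)
    | zero =>
      intro hz
      have : (⟨0, hz⟩ : Ideal.span (s : Set A)) = 0 := rfl
      rw [this, map_zero]; simp
    | add y z hy hz ihy ihz =>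
      intro hyz
      have : (⟨y + z, hyz⟩ : Ideal.span (s : Set A)) = ⟨y, hy⟩ + ⟨z, hz⟩ := rfl
      rw [this, map_add, Submodule.coe_add, smul_add, ihy hy, ihz hz, add_zero]
    | smul c y hy ihy =>
      intro hcy
      have : (⟨c • y, hcy⟩ : Ideal.span (s : Set A)) = c • ⟨y, hy⟩ := rfl
      rw [this, map_smul, Submodule.coe_smul, smul_comm, ihy hy, smul_zero]
  exact this x x.2 x.2

theorem baer_torsionSub (hE : Module.Injective A E) : Module.Baer A (DRing.torsionSub I E) := by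
  intro 𝔞 g
  obtain ⟨n, hn⟩ := exists_pow_kill I E 𝔞 g
  -- Artin–Rees
  obtain ⟨k, hk⟩ := Ideal.exists_pow_inf_eq_pow_smul I (𝔞 : Submodule A A)
  -- the map 𝔞 → A ⧸ I^(n+k)
  let φ : 𝔞 →ₗ[A] (A ⧸ (I ^ (n + k))) := (Submodule.mkQ (I ^ (n + k))).comp 𝔞.subtype
  let g₀ : 𝔞 →ₗ[A] E := (DRing.torsionSub I E).subtype.comp g
  have hker : LinearMap.ker φ ≤ LinearMap.ker g₀ := by
    intro x hx
    have hx1 : (x : A) ∈ I ^ (n + k) := by
      have : φ x = 0 := hx
      exact (Submodule.Quotient.mk_eq_zero _).1 this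
    have hx2 : (x : A) ∈ I ^ (n + k) • (⊤ : Submodule A A) ⊓ (𝔞 : Submodule A A) := by
      refine ⟨?_, x.2⟩
      rw [Ideal.smul_top_eq_map, ]
      simpa using hx1
    rw [hk (n + k) (Nat.le_add_left k n), Nat.add_sub_cancel] at hx2
    -- x ∈ I^n • (I^k • ⊤ ⊓ 𝔞)
    rw [LinearMap.mem_ker]
    have : ∀ z ∈ I ^ n • (I ^ k • (⊤ : Submodule A A) ⊓ (𝔞 : Submodule A A)),
        z ∈ 𝔞 ∧ ∀ hz : z ∈ 𝔞, g₀ ⟨z, hz⟩ = 0 := by
      intro z hz
      refine Submodule.smul_induction_on hz (fun r hr y hy => ?_) (fun y z ihy ihz => ?_)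
      · have hy' : y ∈ 𝔞 := hy.2
        refine ⟨𝔞.smul_mem r hy', fun hz => ?_⟩
        have : (⟨r • y, hz⟩ : 𝔞) = r • ⟨y, hy'⟩ := rfl
        rw [this, map_smul]
        exact hn ⟨y, hy'⟩ r hr
      · refine ⟨𝔞.add_mem ihy.1 ihz.1, fun hyz => ?_⟩
        have : (⟨y + z, hyz⟩ : 𝔞) = ⟨y, ihy.1⟩ + ⟨z, ihz.1⟩ := rfl
        rw [this, map_add, ihy.2 ihy.1, ihz.2 ihz.1, add_zero]
    exact (this x hx2).2 x.2
  -- injective map 𝔞 ⧸ ker φ → A ⧸ I^(n+k)
  let f' : (𝔞 ⧸ LinearMap.ker φ) →ₗ[A] (A ⧸ (I ^ (n + k))) := (LinearMap.ker φ).liftQ φ le_rfl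
  have hf' : Function.Injective f' := by
    rw [← LinearMap.ker_eq_bot]
    exact Submodule.ker_liftQ_eq_bot _ _ _ le_rfl
  let g' : (𝔞 ⧸ LinearMap.ker φ) →ₗ[A] E := (LinearMap.ker φ).liftQ g₀ hker
  obtain ⟨h, hh⟩ := hE.out f' hf' g'
  -- the extension A → E
  let e : A →ₗ[A] E := h.comp (Submodule.mkQ (I ^ (n + k)))
  have he : ∀ y : A, e y ∈ DRing.torsionSub I E := by
    intro y
    refine ⟨n + k, fun a ha => ?_⟩
    rw [← map_smul]
    have : (Submodule.mkQ (I ^ (n + k))) (a • y) = 0 := by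
      rw [Submodule.mkQ_apply, Submodule.Quotient.mk_eq_zero]
      exact Ideal.mul_mem_right y _ ha
    change h ((Submodule.mkQ (I ^ (n + k))) (a • y)) = 0
    rw [this, map_zero]
  refine ⟨e.codRestrict (DRing.torsionSub I E) he, fun x hx => ?_⟩
  apply Subtype.ext
  change h (Submodule.mkQ (I ^ (n + k)) x) = (g ⟨x, hx⟩ : E)
  have := hh (Submodule.Quotient.mk ⟨x, hx⟩)
  simpa [f', g', g₀, φ] using this

theorem injective_torsionSub (hE : Module.Injective A E) :
    Module.Injective A (DRing.torsionSub I E) :=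
  (Module.Baer.iff_injective).1 (baer_torsionSub I E hE)

/-- for an injective module over a Noetherian ring, `f` acts surjectively modulo `f`-power
torsion -/
theorem exists_sub_smul_mem_torsionSub (hE : Module.Injective A E) (f : A) (x : E) :
    ∃ y : E, x - f • y ∈ DRing.torsionSub (Ideal.span {f}) E := by
  -- the chain of annihilators of powers of f
  let μ : ℕ → (A →ₗ[A] A) := fun k => LinearMap.lsmul A A (f ^ k)
  let c : ℕ →o Submodule A A :=
    { toFun := fun k => LinearMap.ker (μ k)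
      monotone' := by
        intro k l hkl a ha
        rw [LinearMap.mem_ker] at ha ⊢
        have : f ^ l = f ^ (l - k) * f ^ k := by rw [← pow_add, Nat.sub_add_cancel hkl]
        change f ^ l • a = 0
        change f ^ k • a = 0 at ha
        rw [this, mul_smul, ha, smul_zero] }
  obtain ⟨N, hN⟩ := monotone_stabilizes_iff_noetherian.2 inferInstance c
  have hN1 : LinearMap.ker (μ (N + 1)) = LinearMap.ker (μ N) := (hN (N + 1) (Nat.le_succ N)).symm
  let f' : (A ⧸ LinearMap.ker (μ (N + 1))) →ₗ[A] A := (LinearMap.ker (μ (N + 1))).liftQ (μ (N + 1)) le_rfl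
  have hf' : Function.Injective f' := by
    rw [← LinearMap.ker_eq_bot]
    exact Submodule.ker_liftQ_eq_bot _ _ _ le_rfl
  let ψ : A →ₗ[A] E := LinearMap.toSpanSingleton A E (f ^ N • x)
  have hψ : LinearMap.ker (μ (N + 1)) ≤ LinearMap.ker ψ := by
    rw [hN1]
    intro a ha
    rw [LinearMap.mem_ker] at ha ⊢
    change f ^ N • a = 0 at ha
    change a • (f ^ N • x) = 0
    rw [smul_smul, mul_comm, ← smul_eq_mul, ha, zero_smul]
  let g' : (A ⧸ LinearMap.ker (μ (N + 1))) →ₗ[A] E := (LinearMap.ker (μ (N + 1))).liftQ ψ hψ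
  obtain ⟨h, hh⟩ := hE.out f' hf' g'
  refine ⟨h 1, ?_⟩
  rw [mem_torsionSub_span_singleton]
  refine ⟨N, ?_⟩
  have h1 := hh (Submodule.Quotient.mk 1)
  have h2 : f' (Submodule.Quotient.mk 1) = f ^ (N + 1) := by
    change (LinearMap.ker (μ (N + 1))).liftQ (μ (N + 1)) le_rfl (Submodule.Quotient.mk 1) = _
    rw [Submodule.liftQ_apply]
    simp [μ]
  have h3 : g' (Submodule.Quotient.mk 1) = f ^ N • x := by
    change (LinearMap.ker (μ (N + 1))).liftQ ψ hψ (Submodule.Quotient.mk 1) = _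
    rw [Submodule.liftQ_apply]
    simp [ψ]
  rw [h2, h3] at h1
  -- h (f^(N+1)) = f^N • x
  have h4 : h (f ^ (N + 1)) = f ^ (N + 1) • h 1 := by
    rw [← map_smul, smul_eq_mul, mul_one]
  rw [smul_sub, ← h1, h4, smul_smul, ← pow_succ, sub_self]

end Noetherian

end Groth.Agent.Lib.H6xRGam
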