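import Mathlib
import Groth.Prelude.Def_DRing3
import Groth.Agent.Lib.H6xRGamA
import Groth.Agent.Lib.Helper1KF11

/-!
# helper6: `Γ_I` on complexes of injective modules over a Noetherian ring

Main results (for `A` Noetherian):
* `quasiIso_ιCx_of_torsion` : for a complex `K` of injective modules with `I`-power torsion
  cohomology, the inclusion `Γ_I K → K` is a quasi-isomorphism;
* `acyclic_GamCx` : `Γ_I` of an acyclic complex of injectives is acyclic;
* `injective_GamCx` : `Γ_I K` has injective terms.
-/

set_option autoImplicit false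

universe u

open CategoryTheory CategoryTheory.Limits HomologicalComplex

namespace Groth.Agent.Lib.H6xRGam

variable {A : Type u} [CommRing A]

/-- cochain complexes of `A`-modules -/
abbrev Cx (A : Type u) [CommRing A] := CochainComplex (ModuleCat.{u} A) ℤ

/-- `Γ_I` termwise on complexes -/
noncomputable abbrev GamCx (I : Ideal A) : Cx A ⥤ Cx A :=
  (DRing.gammaI I).mapHomologicalComplex (ComplexShape.up ℤ)

/-- the inclusion `Γ_I K ⟶ K` -/
noncomputable def ιCx (I : Ideal A) (K : Cx A) : (GamCx I).obj K ⟶ K :=
  (NatTrans.mapHomologicalComplex (DRing.gammaIι I) (ComplexShape.up ℤ)).app K ≫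
    (Functor.mapHomologicalComplexIdIso (ModuleCat.{u} A) (ComplexShape.up ℤ)).hom.app K

@[simp]
lemma ιCx_f (I : Ideal A) (K : Cx A) (n : ℤ) :
    (ιCx I K).f n = (DRing.gammaIι I).app (K.X n) := by
  simp only [ιCx, HomologicalComplex.comp_f, NatTrans.mapHomologicalComplex_app_f,
    Functor.mapHomologicalComplexIdIso, NatIso.ofComponents_hom_app,
    HomologicalComplex.Hom.isoOfComponents_hom_f, Iso.refl_hom]
  exact Category.comp_id _

@[reassoc]
lemma ιCx_naturality (I : Ideal A) {K L : Cx A} (φ : K ⟶ L) :
    (GamCx I).map φ ≫ ιCx I L = ιCx I K ≫ φ := by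
  apply HomologicalComplex.hom_ext
  intro n
  simp only [HomologicalComplex.comp_f, ιCx_f, Functor.mapHomologicalComplex_map_f]
  exact (DRing.gammaIι I).naturality (φ.f n)

section Quot

variable (f : A)

/-- the quotient by `f`-power torsion, as a functor -/
noncomputable def quotF : ModuleCat.{u} A ⥤ ModuleCat.{u} A where
  obj M := ModuleCat.of A (M ⧸ DRing.torsionSub (Ideal.span {f}) M)
  map {M N} g := ModuleCat.ofHom
    (Submodule.mapQ _ _ g.hom (fun m hm => DRing.map_mem_torsionSub _ g.hom hm))
  map_id M := by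
    ext x
    rfl
  map_comp g h := by
    ext x
    rfl

instance : (quotF (A := A) f).Additive where
  map_add {M N g h} := by
    ext x
    obtain ⟨x, rfl⟩ := Submodule.Quotient.mk_surjective _ x
    rfl

/-- the projection `M ⟶ M / Γ_f M` -/
noncomputable def πF : 𝟭 (ModuleCat.{u} A) ⟶ quotF f where
  app M := ModuleCat.ofHom (Submodule.mkQ _)
  naturality _ _ _ := rfl

/-- the short complex `Γ_f M ⟶ M ⟶ M / Γ_f M` -/
noncomputable def sesMod (M : ModuleCat.{u} A) : ShortComplex (ModuleCat.{u} A) :=
  ShortComplex.mk ((DRing.gammaIι (Ideal.span {f})).app M) ((πF f).app M) (by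
    ext x
    exact (Submodule.Quotient.mk_eq_zero _).2 x.2)

lemma sesMod_shortExact (M : ModuleCat.{u} A) : (sesMod f M).ShortExact := by
  refine ShortComplex.ShortExact.mk' ?_ ?_ ?_
  · rw [ShortComplex.moduleCat_exact_iff]
    intro x hx
    have : x ∈ DRing.torsionSub (Ideal.span {f}) M := (Submodule.Quotient.mk_eq_zero _).1 hx
    exact ⟨⟨x, this⟩, rfl⟩
  · rw [ModuleCat.mono_iff_injective]
    exact Subtype.val_injective
  · rw [ModuleCat.epi_iff_surjective]
    exact Submodule.mkQ_surjective _

/-- the projection `K ⟶ K / Γ_f K` on complexes -/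
noncomputable def πCx (K : Cx A) :
    K ⟶ ((quotF f).mapHomologicalComplex (ComplexShape.up ℤ)).obj K where
  f n := (πF f).app (K.X n)
  comm' i j _ := ((πF f).naturality (K.d i j)).symm

/-- the short complex of complexes `Γ_f K ⟶ K ⟶ K / Γ_f K` -/
noncomputable def sesCx (K : Cx A) : ShortComplex (Cx A) :=
  ShortComplex.mk (ιCx (Ideal.span {f}) K) (πCx f K) (by
    apply HomologicalComplex.hom_ext
    intro n
    simp only [HomologicalComplex.comp_f, ιCx_f, HomologicalComplex.zero_f]
    exact (sesMod f (K.X n)).zero)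

lemma sesCx_shortExact (K : Cx A) : (sesCx f K).ShortExact := by
  refine HomologicalComplex.shortExact_of_degreewise_shortExact _ (fun n => ?_)
  have h := sesMod_shortExact f (K.X n)
  refine ShortComplex.shortExact_of_iso
    (ShortComplex.isoMk (Iso.refl _) (Iso.refl _) (Iso.refl _) ?_ ?_) h
  · simp [sesCx, sesMod]
  · simp [sesCx, sesMod, πCx]

end Quot

section Homology

/-- the homology of a complex with `I`-power torsion terms is `I`-power torsion -/
lemma homology_mem_torsionSub_of_X (I : Ideal A) (K : Cx A) (n : ℤ)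
    (h : ∀ x : K.X n, x ∈ DRing.torsionSub I (K.X n)) (y : K.homology n) :
    y ∈ DRing.torsionSub I (K.homology n) := by
  have hs : Function.Surjective (K.homologyπ n).hom :=
    (ModuleCat.epi_iff_surjective _).1 inferInstance
  obtain ⟨z, rfl⟩ := hs y
  obtain ⟨k, hk⟩ := h ((K.iCycles n).hom z)
  refine ⟨k, fun a ha => ?_⟩
  have : a • z = 0 := by
    apply (ModuleCat.mono_iff_injective _).1 (inferInstance : Mono (K.iCycles n))
    rw [map_smul, hk a ha, map_zero]
  rw [← map_smul, this, map_zero]

lemma mem_torsionSub_GamCx_X (I : Ideal A) (K : Cx A) (n : ℤ) (x : ((GamCx I).obj K).X n) :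
    x ∈ DRing.torsionSub I (((GamCx I).obj K).X n) := by
  obtain ⟨m, k, hk⟩ := x
  exact ⟨k, fun a ha => Subtype.ext (hk a ha)⟩

lemma homology_GamCx_mem_torsionSub (I : Ideal A) (K : Cx A) (n : ℤ)
    (y : ((GamCx I).obj K).homology n) :
    y ∈ DRing.torsionSub I (((GamCx I).obj K).homology n) :=
  homology_mem_torsionSub_of_X I _ n (mem_torsionSub_GamCx_X I K n) y

lemma homologyMap_smul' {K L : Cx A} (r : A) (φ : K ⟶ L) (n : ℤ) :
    homologyMap (r • φ) n = r • homologyMap φ n := by
  have : (shortComplexFunctor (ModuleCat.{u} A) (ComplexShape.up ℤ) n).map (r • φ) =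
      r • (shortComplexFunctor (ModuleCat.{u} A) (ComplexShape.up ℤ) n).map φ :=
    ShortComplex.hom_ext _ _ rfl rfl rfl
  change ShortComplex.homologyMap _ = r • ShortComplex.homologyMap _
  rw [this, ShortComplex.homologyMap_smul]
  rfl

/-- a complex on whose terms `f` acts bijectively and whose homology is `f`-power torsion is
acyclic -/
lemma isZero_homology_of_smul_bijective_of_torsion (f : A) (N : Cx A)
    (hb : ∀ n, Function.Bijective (fun x : N.X n => f • x))
    (ht : ∀ n (y : N.homology n), ∃ k : ℕ, f ^ k • y = 0) (n : ℤ) : IsZero (N.homology n) := by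
  let φ : N ⟶ N := f • 𝟙 N
  haveI : ∀ i, IsIso (φ.f i) := fun i => by
    rw [ConcreteCategory.isIso_iff_bijective]
    exact hb i
  haveI : IsIso φ := HomologicalComplex.Hom.isIso_of_components φ
  haveI : IsIso (homologyMap φ n) := inferInstance
  have h1 : homologyMap φ n = f • 𝟙 (N.homology n) := by
    rw [homologyMap_smul', homologyMap_id]
  have hinj : Function.Injective (fun y : N.homology n => f • y) := by
    have := ((ConcreteCategory.isIso_iff_bijective (homologyMap φ n)).1 inferInstance).1
    rw [h1] at this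
    exact this
  have hz : ∀ y : N.homology n, y = 0 := by
    intro y
    obtain ⟨k, hk⟩ := ht n y
    induction k with
    | zero => simpa using hk
    | succ k ih =>
      apply ih
      apply hinj
      change f • (f ^ k • y) = f • 0
      rw [smul_zero, smul_smul, ← pow_succ', hk]
  rw [ModuleCat.isZero_iff_subsingleton]
  exact ⟨fun a b => (hz a).trans (hz b).symm⟩

end Homology

end Groth.Agent.Lib.H6xRGam
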