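import Mathlib
import Groth.Prelude.Def_Wider
import Groth.Agent.Lib.H6xRGamB
set_option backward.isDefEq.respectTransparency.types false

/-!
# The complex `Hom_A(M, I)` (helper6)

For a cochain complex `I` of `A`-modules and an `A`-module `M`: the complex `Dcx I M = Hom_A(M, I)`,
contravariantly functorial in `M` (`Dmap`), and the evaluation `evc I M m : Dcx I M ⟶ I`.
-/

set_option autoImplicit false
set_option linter.style.haveILetI false
universe u

namespace Groth.Agent.Lib.H6xBid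

open CategoryTheory CategoryTheory.Limits Category Opposite
open Groth.Agent.Lib.H6xRGam

variable {A : Type u} [CommRing A] (I : Cx A)

/-- the functor `Hom_A(M, -)` on `A`-modules -/
noncomputable abbrev Dfun (M : ModuleCat.{u} A) : ModuleCat.{u} A ⥤ ModuleCat.{u} A :=
  (linearCoyoneda A (ModuleCat.{u} A)).obj (op M)

/-- the complex `Hom_A(M, I)` -/
noncomputable def Dcx (M : ModuleCat.{u} A) : Cx A :=
  ((Dfun M).mapHomologicalComplex (ComplexShape.up ℤ)).obj I

/-- functoriality of `Hom_A(M, I)` in `M` -/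
noncomputable def Dmap {M N : ModuleCat.{u} A} (f : M ⟶ N) : Dcx I N ⟶ Dcx I M :=
  (NatTrans.mapHomologicalComplex ((linearCoyoneda A (ModuleCat.{u} A)).map f.op)
    (ComplexShape.up ℤ)).app I

lemma Dmap_f_apply {M N : ModuleCat.{u} A} (f : M ⟶ N) (n : ℤ) (φ : N ⟶ I.X n) :
    ((Dmap I f).f n).hom φ = f ≫ φ := rfl

lemma Dcx_d_apply (M : ModuleCat.{u} A) (n m : ℤ) (φ : M ⟶ I.X n) :
    ((Dcx I M).d n m).hom φ = φ ≫ I.d n m := rfl

lemma Dmap_id (M : ModuleCat.{u} A) : Dmap I (𝟙 M) = 𝟙 _ := by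
  ext n φ
  change 𝟙 M ≫ φ = φ
  rw [id_comp]

lemma Dmap_comp {M N P : ModuleCat.{u} A} (f : M ⟶ N) (g : N ⟶ P) :
    Dmap I (f ≫ g) = Dmap I g ≫ Dmap I f := by
  ext n φ
  change (f ≫ g) ≫ φ = f ≫ (g ≫ φ)
  rw [assoc]

lemma Dmap_zero (M N : ModuleCat.{u} A) : Dmap I (0 : M ⟶ N) = 0 := by
  ext n φ
  change (0 : M ⟶ N) ≫ φ = 0
  rw [zero_comp]

lemma Dmap_smul {M N : ModuleCat.{u} A} (a : A) (f : M ⟶ N) :
    Dmap I (a • f) = a • Dmap I f := by
  ext n φ
  change (a • f) ≫ φ = a • (f ≫ φ)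
  rw [Linear.smul_comp]

/-- evaluation at `m : M` as a morphism of complexes `Hom_A(M, I) ⟶ I` -/
noncomputable def evc (M : ModuleCat.{u} A) (m : M) : Dcx I M ⟶ I where
  f n := ModuleCat.ofHom
    { toFun := fun φ : M ⟶ I.X n => φ.hom m
      map_add' := fun _ _ => rfl
      map_smul' := fun _ _ => rfl }
  comm' := fun i j _ => by
    ext φ
    rfl

lemma evc_f_apply (M : ModuleCat.{u} A) (m : M) (n : ℤ) (φ : M ⟶ I.X n) :
    ((evc I M m).f n).hom φ = φ.hom m := rfl

lemma evc_add (M : ModuleCat.{u} A) (m m' : M) : evc I M (m + m') = evc I M m + evc I M m' := by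
  ext n φ
  change φ.hom (m + m') = φ.hom m + φ.hom m'
  rw [map_add]

lemma evc_smul (M : ModuleCat.{u} A) (a : A) (m : M) : evc I M (a • m) = a • evc I M m := by
  ext n φ
  change φ.hom (a • m) = a • φ.hom m
  rw [map_smul]

lemma Dmap_evc {M N : ModuleCat.{u} A} (f : M ⟶ N) (m : M) :
    Dmap I f ≫ evc I M m = evc I N (f.hom m) := by
  ext n φ
  rfl

end Groth.Agent.Lib.H6xBid
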