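import Mathlib
import Groth.Prelude.Def_DRing3
import Groth.Agent.Lib.H6xRGamB
import Groth.Agent.Lib.Helper1BKF1

/-!
# helper6: `Γ_I K → K` is a quasi-isomorphism for complexes of injectives with torsion cohomology
(Noetherian rings)
-/

set_option autoImplicit false

universe u

open CategoryTheory CategoryTheory.Limits HomologicalComplex

namespace Groth.Agent.Lib.H6xRGam

open Groth.Agent.Lib.Helper1

variable {A : Type u} [CommRing A]

section Noeth

variable [IsNoetherianRing A]

lemma smul_bijective_quotF (f : A) (M : ModuleCat.{u} A) (hM : Module.Injective A M) :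
    Function.Bijective (fun x : (quotF f).obj M => f • x) := by
  constructor
  · intro x y hxy
    obtain ⟨x, rfl⟩ := Submodule.Quotient.mk_surjective _ x
    obtain ⟨y, rfl⟩ := Submodule.Quotient.mk_surjective _ y
    have h : f • x - f • y ∈ DRing.torsionSub (Ideal.span {f}) M :=
      (Submodule.Quotient.eq _).1 hxy
    rw [← smul_sub, mem_torsionSub_span_singleton] at h
    obtain ⟨k, hk⟩ := h
    refine (Submodule.Quotient.eq _).2 ?_
    rw [mem_torsionSub_span_singleton]
    exact ⟨k + 1, by rw [pow_succ, mul_smul]; exact hk⟩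
  · intro x
    obtain ⟨x, rfl⟩ := Submodule.Quotient.mk_surjective _ x
    obtain ⟨y, hy⟩ := exists_sub_smul_mem_torsionSub M hM f x
    refine ⟨Submodule.Quotient.mk y, ?_⟩
    exact ((Submodule.Quotient.eq _).2 hy).symm

omit [IsNoetherianRing A] in
/-- power-torsion passes to the third term of a short exact sequence of complexes -/
lemma torsion_X₃_of_shortExact (f : A) (S : ShortComplex (Cx A)) (hS : S.ShortExact) (m : ℤ)
    (h1 : ∀ z : S.X₁.homology (m + 1), ∃ k : ℕ, f ^ k • z = 0)
    (h2 : ∀ z : S.X₂.homology m, ∃ k : ℕ, f ^ k • z = 0)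
    (y : S.X₃.homology m) : ∃ k : ℕ, f ^ k • y = 0 := by
  have hrel : (ComplexShape.up ℤ).Rel m (m + 1) := by simp
  obtain ⟨a, ha⟩ := h1 ((hS.δ m (m + 1) hrel).hom y)
  have hex := hS.homology_exact₃ m (m + 1) hrel
  rw [ShortComplex.moduleCat_exact_iff] at hex
  have hδa : (hS.δ m (m + 1) hrel).hom (f ^ a • y) = 0 := by
    rw [LinearMap.map_smul]; exact ha
  obtain ⟨w, hw⟩ := hex (f ^ a • y) hδa
  obtain ⟨b, hb⟩ := h2 w
  refine ⟨b + a, ?_⟩
  rw [pow_add, mul_smul]
  have hw' : (homologyMap S.g m).hom w = f ^ a • y := hw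
  rw [← hw', ← LinearMap.map_smul, hb, map_zero]

lemma isZero_homology_quot (f : A) (K : Cx A) (hinj : ∀ n, Module.Injective A (K.X n))
    (ht : ∀ n (y : K.homology n), ∃ k : ℕ, f ^ k • y = 0) (n : ℤ) :
    IsZero ((((quotF f).mapHomologicalComplex (ComplexShape.up ℤ)).obj K).homology n) := by
  refine isZero_homology_of_smul_bijective_of_torsion f _
    (fun n => smul_bijective_quotF f (K.X n) (hinj n)) ?_ n
  intro m y
  refine torsion_X₃_of_shortExact f (sesCx f K) (sesCx_shortExact f K) m ?_ (ht m) y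
  intro z
  have h1 := homology_GamCx_mem_torsionSub (Ideal.span {f}) K (m + 1) z
  rw [mem_torsionSub_span_singleton] at h1
  exact h1

theorem quasiIso_ιCx_span_singleton (f : A) (K : Cx A)
    (hinj : ∀ n, Module.Injective A (K.X n))
    (ht : ∀ n (y : K.homology n), ∃ k : ℕ, f ^ k • y = 0) :
    QuasiIso (ιCx (Ideal.span {f}) K) :=
  KF.quasiIso_f_of_acyclic_X₃ (sesCx_shortExact f K) (isZero_homology_quot f K hinj ht)

end Noeth

section Comp

variable (I J : Ideal A)

/-- `Γ_J Γ_I M ≃ Γ_{I ⊔ J} M` -/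
noncomputable def gamCompLin (M : Type u) [AddCommGroup M] [Module A M] :
    DRing.torsionSub J (DRing.torsionSub I M) ≃ₗ[A] DRing.torsionSub (I ⊔ J) M where
  toFun x := ⟨x.1.1, (mem_torsionSub_sup I J).2 ⟨x.1.2, by
    obtain ⟨k, hk⟩ := x.2
    exact ⟨k, fun a ha => congrArg Subtype.val (hk a ha)⟩⟩⟩
  map_add' _ _ := rfl
  map_smul' _ _ := rfl
  invFun y := ⟨⟨y.1, ((mem_torsionSub_sup I J).1 y.2).1⟩, by
    obtain ⟨k, hk⟩ := ((mem_torsionSub_sup I J).1 y.2).2
    exact ⟨k, fun a ha => Subtype.ext (hk a ha)⟩⟩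
  left_inv _ := rfl
  right_inv _ := rfl

/-- `Γ_I ⋙ Γ_J ≅ Γ_{I ⊔ J}` -/
noncomputable def gamComp : DRing.gammaI I ⋙ DRing.gammaI J ≅ DRing.gammaI (I ⊔ J) :=
  NatIso.ofComponents (fun M => (gamCompLin I J M).toModuleIso) (by
    intro M N f
    rfl)

/-- `Γ_J Γ_I K ≅ Γ_{I ⊔ J} K` on complexes -/
noncomputable def gamCompCx (K : Cx A) :
    (GamCx J).obj ((GamCx I).obj K) ≅ (GamCx (I ⊔ J)).obj K :=
  HomologicalComplex.Hom.isoOfComponents (fun n => (gamComp I J).app (K.X n)) (by
    intro i j _
    exact (gamComp I J).hom.naturality (K.d i j))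

lemma gamCompCx_hom_ι (K : Cx A) :
    (gamCompCx I J K).hom ≫ ιCx (I ⊔ J) K = ιCx J ((GamCx I).obj K) ≫ ιCx I K := by
  apply HomologicalComplex.hom_ext
  intro n
  simp only [HomologicalComplex.comp_f, ιCx_f]
  rfl

end Comp

section TorsCoh

/-- the cohomology modules are `I`-power torsion -/
def TorsCoh (I : Ideal A) (K : Cx A) : Prop :=
  ∀ n (y : K.homology n), y ∈ DRing.torsionSub I (K.homology n)

lemma TorsCoh.mono {I J : Ideal A} (h : I ≤ J) {K : Cx A} (hK : TorsCoh J K) : TorsCoh I K :=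
  fun n y => torsionSub_mono _ h (hK n y)

lemma TorsCoh.of_quasiIso {I : Ideal A} {K L : Cx A} (φ : K ⟶ L) [QuasiIso φ]
    (hL : TorsCoh I L) : TorsCoh I K := by
  intro n y
  have h := DRing.map_mem_torsionSub I (inv (homologyMap φ n)).hom (hL n ((homologyMap φ n).hom y))
  have e : (inv (homologyMap φ n)).hom ((homologyMap φ n).hom y) = y := by
    rw [← ModuleCat.comp_apply, IsIso.hom_inv_id]; rfl
  rwa [e] at h

lemma TorsCoh.of_quasiIso' {I : Ideal A} {K L : Cx A} (φ : K ⟶ L) [QuasiIso φ]
    (hK : TorsCoh I K) : TorsCoh I L := by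
  intro n y
  have h := DRing.map_mem_torsionSub I (homologyMap φ n).hom (hK n ((inv (homologyMap φ n)).hom y))
  have e : (homologyMap φ n).hom ((inv (homologyMap φ n)).hom y) = y := by
    rw [← ModuleCat.comp_apply, IsIso.inv_hom_id]; rfl
  rwa [e] at h

lemma torsCoh_GamCx (I : Ideal A) (K : Cx A) : TorsCoh I ((GamCx I).obj K) :=
  fun n y => homology_GamCx_mem_torsionSub I K n y

lemma torsCoh_of_acyc (I : Ideal A) (K : Cx A) (h : ∀ n, IsZero (K.homology n)) : TorsCoh I K := by
  intro n y
  have : y = 0 := by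
    haveI := (ModuleCat.isZero_iff_subsingleton.1 (h n))
    exact Subsingleton.elim _ _
  rw [this]
  exact Submodule.zero_mem _

end TorsCoh

section Main

variable [IsNoetherianRing A]

lemma injective_GamCx_X (I : Ideal A) (K : Cx A) (hinj : ∀ n, Module.Injective A (K.X n)) (n : ℤ) :
    Module.Injective A (((GamCx I).obj K).X n) :=
  injective_torsionSub I (K.X n) (hinj n)

/-- **Key theorem**: over a Noetherian ring, for a complex `K` of injective modules with
`I`-power torsion cohomology, the inclusion `Γ_I K ⟶ K` is a quasi-isomorphism. -/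
theorem quasiIso_ιCx_of_torsCoh (I : Ideal A) :
    ∀ (K : Cx A), (∀ n, Module.Injective A (K.X n)) → TorsCoh I K → QuasiIso (ιCx I K) := by
  refine Submodule.fg_induction (R := A) (M := A)
    (motive := fun (I : Ideal A) _ => ∀ (K : Cx A), (∀ n, Module.Injective A (K.X n)) →
      TorsCoh I K → QuasiIso (ιCx I K)) ?_ ?_ I (IsNoetherian.noetherian I)
  · intro f K hinj hK
    refine quasiIso_ιCx_span_singleton f K hinj (fun n y => ?_)
    exact mem_torsionSub_span_singleton.1 (hK n y)
  · intro I J _ _ hI hJ K hinj hK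
    haveI h1 : QuasiIso (ιCx I K) := hI K hinj (hK.mono le_sup_left)
    haveI h2 : QuasiIso (ιCx J ((GamCx I).obj K)) :=
      hJ _ (injective_GamCx_X I K hinj) (TorsCoh.of_quasiIso (ιCx I K) (hK.mono le_sup_right))
    haveI h3 : QuasiIso ((gamCompCx I J K).hom ≫ ιCx (I ⊔ J) K) := by
      rw [gamCompCx_hom_ι]; infer_instance
    exact quasiIso_of_comp_left (gamCompCx I J K).hom (ιCx (I ⊔ J) K)

/-- `Γ_I` preserves acyclicity of complexes of injectives. -/
theorem acyc_GamCx (I : Ideal A) (K : Cx A) (hinj : ∀ n, Module.Injective A (K.X n))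
    (h : ∀ n, IsZero (K.homology n)) (n : ℤ) : IsZero (((GamCx I).obj K).homology n) := by
  haveI := quasiIso_ιCx_of_torsCoh I K hinj (torsCoh_of_acyc I K h)
  exact IsZero.of_iso (h n) (asIso (homologyMap (ιCx I K) n))

omit [IsNoetherianRing A] in
lemma moduleInjective_of_injective (X : ModuleCat.{u} A) [Injective X] : Module.Injective A X :=
  Module.injective_module_of_injective_object A X

omit [IsNoetherianRing A] in
lemma injective_of_moduleInjective (X : ModuleCat.{u} A) (h : Module.Injective A X) :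
    Injective X :=
  Module.injective_object_of_injective_module A X

omit [IsNoetherianRing A] in
lemma injective_mappingCone_X {K L : Cx A} (φ : K ⟶ L)
    (hK : ∀ n, Module.Injective A (K.X n)) (hL : ∀ n, Module.Injective A (L.X n)) (n : ℤ) :
    Module.Injective A ((CochainComplex.mappingCone φ).X n) := by
  haveI := injective_of_moduleInjective _ (hK (n + 1))
  haveI := injective_of_moduleInjective _ (hL n)
  haveI : Injective ((CochainComplex.mappingCone φ).X n) :=
    Injective.of_iso (HomologicalComplex.homotopyCofiber.XIsoBiprod φ n (n + 1) rfl).symm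
      inferInstance
  exact moduleInjective_of_injective _

/-- `Γ_I` preserves quasi-isomorphisms between complexes of injectives. -/
theorem quasiIso_GamCx_map (I : Ideal A) {K L : Cx A} (φ : K ⟶ L) [QuasiIso φ]
    (hK : ∀ n, Module.Injective A (K.X n)) (hL : ∀ n, Module.Injective A (L.X n)) :
    QuasiIso ((GamCx I).map φ) := by
  apply BKF.quasiIso_of_acyc_cone
  refine BKF.Acyc.of_iso
    (CochainComplex.mappingCone.mapHomologicalComplexIso φ (DRing.gammaI I)) ?_
  intro n
  exact acyc_GamCx I (CochainComplex.mappingCone φ) (injective_mappingCone_X φ hK hL)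
    (BKF.acyc_cone_of_quasiIso φ) n

end Main

end Groth.Agent.Lib.H6xRGam
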