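import Mathlib
import Groth.Prelude.Def_DRing3
import Groth.Agent.Lib.H6xRGamC
import Groth.Agent.Lib.Helper17KInjD5

/-!
# helper6: `RΓ_I` computed on K-injective complexes

* `βΓ I : GamCx I ⋙ Q ⟶ Q ⋙ RΓ_I`, a right derived functor structure along `Q`;
* `isIso_βΓ_app_of_isKInjective`;
* `βΓ_app_ε : (βΓ I).app E ≫ ε.app (Q.obj E) = Q.map (ιCx I E)`.
-/

set_option autoImplicit false

universe u

open CategoryTheory CategoryTheory.Limits HomologicalComplex

attribute [local instance] HasDerivedCategory.standard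

namespace Groth.Agent.Lib.H6xRGam

open Groth.Agent.Lib.Helper17

variable {A : Type u} [CommRing A] (I : Ideal A) [DRing.HasRgammaI I]

/-- the unit of `RΓ_I` at the level of complexes -/
noncomputable def βΓ :
    GamCx I ⋙ DerivedCategory.Q ⟶ DerivedCategory.Q ⋙ DRing.RgammaI I :=
  KInj.unitOfK (DRing.gammaI I) (DRing.RgammaI I)
    ((DRing.gammaIKh I).totalRightDerivedUnit DerivedCategory.Qh
      (HomotopyCategory.quasiIso (ModuleCat.{u} A) (ComplexShape.up ℤ)))

instance : (DRing.RgammaI I).IsRightDerivedFunctor (βΓ I)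
    (HomologicalComplex.quasiIso (ModuleCat.{u} A) (ComplexShape.up ℤ)) := by
  unfold βΓ
  infer_instance

lemma isIso_βΓ_app_of_isKInjective (E : Cx A) [E.IsKInjective] : IsIso ((βΓ I).app E) :=
  KInj.isIso_app_of_isKInjective.{u} (DRing.gammaI I) (DRing.RgammaI I) (βΓ I) E

lemma βΓ_app_ε (E : Cx A) :
    (βΓ I).app E ≫ (DRing.RgammaIε I).app (DerivedCategory.Q.obj E) =
      DerivedCategory.Q.map (ιCx I E) := by
  have h1 := Functor.rightDerived_fac_app (DRing.RgammaI I)
    ((DRing.gammaIKh I).totalRightDerivedUnit DerivedCategory.Qh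
      (HomotopyCategory.quasiIso (ModuleCat.{u} A) (ComplexShape.up ℤ)))
    (HomotopyCategory.quasiIso (ModuleCat.{u} A) (ComplexShape.up ℤ)) (𝟭 (Dual.D A))
    (DRing.gammaIτ I ≫ (Functor.rightUnitor _).inv)
    ((HomotopyCategory.quotient _ _).obj E)
  have hnat := (DRing.RgammaIε I).naturality
    ((DerivedCategory.quotientCompQhIso (ModuleCat.{u} A)).hom.app E)
  dsimp [βΓ, KInj.unitOfK, KInj.isoF₀, KInj.γOfK] at h1 hnat ⊢
  simp only [Category.id_comp, Category.comp_id, Category.assoc] at h1 hnat ⊢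
  rw [hnat]
  have h1' : ((DRing.gammaIKh I).totalRightDerivedUnit DerivedCategory.Qh
      (HomotopyCategory.quasiIso (ModuleCat.{u} A) (ComplexShape.up ℤ))).app
        ((HomotopyCategory.quotient (ModuleCat A) (ComplexShape.up ℤ)).obj E) ≫
      (DRing.RgammaIε I).app
        (DerivedCategory.Qh.obj ((HomotopyCategory.quotient (ModuleCat A) (ComplexShape.up ℤ)).obj E)) =
      (DRing.gammaIτ0 I).app E := h1
  rw [reassoc_of% h1']
  dsimp [DRing.gammaIτ0]
  simp only [Category.id_comp, Category.comp_id, Category.assoc]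
  have hid : DerivedCategory.Qh.map
        (((DRing.gammaI I).mapHomotopyCategoryFactors (ComplexShape.up ℤ)).inv.app E) ≫
      DerivedCategory.Qh.map
        (((DRing.gammaI I).mapHomotopyCategoryFactors (ComplexShape.up ℤ)).hom.app E) = 𝟙 _ := by
    rw [← Functor.map_comp, Iso.inv_hom_id_app]
    exact DerivedCategory.Qh.map_id _
  rw [reassoc_of% hid, ← Functor.map_comp_assoc, ← Functor.map_comp]
  have hn := (DerivedCategory.quotientCompQhIso (ModuleCat.{u} A)).hom.naturality (ιCx I E)
  dsimp at hn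
  change _ ≫ DerivedCategory.Qh.map
    ((HomotopyCategory.quotient (ModuleCat A) (ComplexShape.up ℤ)).map (ιCx I E)) ≫ _ = _
  rw [hn, Iso.inv_hom_id_app_assoc]

section Resolutions

omit [DRing.HasRgammaI I] in
/-- every object of `D(A)` is represented by a K-injective complex of injectives -/
lemma exists_kInj_iso (K : Dual.D A) :
    ∃ (E : Cx A), E.IsKInjective ∧ (∀ n, Module.Injective A (E.X n)) ∧
      Nonempty (K ≅ DerivedCategory.Q.obj E) := by
  obtain ⟨E, f, hE, hf, -, hinj⟩ :=
    KInj.exists_kInjective_resolution.{u} (ModuleCat.{u} A)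
      (DerivedCategory.Q.objPreimage K)
  haveI : IsIso (DerivedCategory.Q.map f) := by
    rw [DerivedCategory.isIso_Q_map_iff_quasiIso]; exact hf
  refine ⟨E, hE, fun n => ?_, ⟨(DerivedCategory.Q.objObjPreimageIso K).symm ≪≫
    asIso (DerivedCategory.Q.map f)⟩⟩
  haveI := hinj n
  exact moduleInjective_of_injective _

omit [DRing.HasRgammaI I] in
/-- resolutions of complexes -/
lemma exists_kInj_resolution (K : Cx A) :
    ∃ (E : Cx A) (r : K ⟶ E), E.IsKInjective ∧ (∀ n, Module.Injective A (E.X n)) ∧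
      QuasiIso r := by
  obtain ⟨E, f, hE, hf, -, hinj⟩ :=
    KInj.exists_kInjective_resolution.{u} (ModuleCat.{u} A) K
  refine ⟨E, f, hE, fun n => ?_, hf⟩
  haveI := hinj n
  exact moduleInjective_of_injective _

end Resolutions

section HD

omit [DRing.HasRgammaI I] in
/-- `H^i(Q E) ≃ H^i(E)` -/
noncomputable def HDIso (E : Cx A) (i : ℤ) :
    Dual.HD A (DerivedCategory.Q.obj E) i ≃ₗ[A] E.homology i :=
  ((DerivedCategory.homologyFunctorFactors (ModuleCat.{u} A) i).app E).toLinearEquiv

omit [DRing.HasRgammaI I] in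
lemma isPowerTorsion_iff (M : Type u) [AddCommGroup M] [Module A M] :
    LocCoh.IsPowerTorsion I M ↔ ∀ m : M, m ∈ DRing.torsionSub I M := Iff.rfl

omit [DRing.HasRgammaI I] in
lemma isPowerTorsion_of_linearEquiv {M N : Type u} [AddCommGroup M] [Module A M]
    [AddCommGroup N] [Module A N] (e : M ≃ₗ[A] N) (h : LocCoh.IsPowerTorsion I M) :
    LocCoh.IsPowerTorsion I N := by
  intro y
  have := DRing.map_mem_torsionSub I e.toLinearMap ((isPowerTorsion_iff I M).1 h (e.symm y))
  have e' : e.toLinearMap (e.symm y) = y := by simp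
  rw [e'] at this
  exact this

omit [DRing.HasRgammaI I] in
lemma torsCoh_iff (E : Cx A) :
    (∀ i : ℤ, LocCoh.IsPowerTorsion I (Dual.HD A (DerivedCategory.Q.obj E) i)) ↔ TorsCoh I E := by
  constructor
  · intro h i y
    exact (isPowerTorsion_iff I _).1 (isPowerTorsion_of_linearEquiv I (HDIso E i) (h i)) y
  · intro h i
    exact isPowerTorsion_of_linearEquiv I (HDIso E i).symm ((isPowerTorsion_iff I _).2 (h i))

omit [DRing.HasRgammaI I] in
lemma isPowerTorsion_HD_of_iso {K L : Dual.D A} (e : K ≅ L)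
    (h : ∀ i : ℤ, LocCoh.IsPowerTorsion I (Dual.HD A K i)) (i : ℤ) :
    LocCoh.IsPowerTorsion I (Dual.HD A L i) :=
  isPowerTorsion_of_linearEquiv I
    (((DerivedCategory.homologyFunctor (ModuleCat.{u} A) i).mapIso e).toLinearEquiv) (h i)

end HD

section General

/-- `RΓ_I K` has `I`-power torsion cohomology (any ring) -/
theorem isPowerTorsion_HD_RgammaI (K : Dual.D A) (i : ℤ) :
    LocCoh.IsPowerTorsion I (Dual.HD A ((DRing.RgammaI I).obj K) i) := by
  obtain ⟨E, hE, -, ⟨e⟩⟩ := exists_kInj_iso K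
  haveI := hE
  haveI := isIso_βΓ_app_of_isKInjective I E
  have e' : DerivedCategory.Q.obj ((GamCx I).obj E) ≅ (DRing.RgammaI I).obj K :=
    asIso ((βΓ I).app E) ≪≫ (DRing.RgammaI I).mapIso e.symm
  exact isPowerTorsion_HD_of_iso I e' ((torsCoh_iff I _).2 (torsCoh_GamCx I E)) i

end General

section Noeth

variable [IsNoetherianRing A]

/-- over a Noetherian ring, `RΓ_I` is computed by any complex of injectives -/
theorem isIso_βΓ_app_of_injective (K : Cx A) (hK : ∀ n, Module.Injective A (K.X n)) :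
    IsIso ((βΓ I).app K) := by
  obtain ⟨E, r, hE, hinj, hr⟩ := exists_kInj_resolution K
  haveI := hE
  haveI := hr
  haveI := isIso_βΓ_app_of_isKInjective I E
  haveI : QuasiIso ((GamCx I).map r) := quasiIso_GamCx_map I r hK hinj
  haveI h1 : IsIso ((GamCx I ⋙ DerivedCategory.Q).map r) := by
    change IsIso (DerivedCategory.Q.map ((GamCx I).map r))
    rw [DerivedCategory.isIso_Q_map_iff_quasiIso]; infer_instance
  haveI h2 : IsIso (DerivedCategory.Q.map r) := by
    rw [DerivedCategory.isIso_Q_map_iff_quasiIso]; infer_instance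
  haveI h3 : IsIso ((DerivedCategory.Q ⋙ DRing.RgammaI I).map r) := by
    change IsIso ((DRing.RgammaI I).map (DerivedCategory.Q.map r))
    infer_instance
  have nat := (βΓ I).naturality r
  have : IsIso ((βΓ I).app K ≫ (DerivedCategory.Q ⋙ DRing.RgammaI I).map r) := by
    rw [← nat]; infer_instance
  exact IsIso.of_isIso_comp_right _ ((DerivedCategory.Q ⋙ DRing.RgammaI I).map r)

/-- `ε` is an isomorphism at complexes of injectives with torsion cohomology -/
theorem isIso_ε_app_Q (E : Cx A) (hE : ∀ n, Module.Injective A (E.X n)) (ht : TorsCoh I E) :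
    IsIso ((DRing.RgammaIε I).app (DerivedCategory.Q.obj E)) := by
  haveI := isIso_βΓ_app_of_injective I E hE
  haveI := quasiIso_ιCx_of_torsCoh I E hE ht
  have : IsIso ((βΓ I).app E ≫ (DRing.RgammaIε I).app (DerivedCategory.Q.obj E)) := by
    rw [βΓ_app_ε, DerivedCategory.isIso_Q_map_iff_quasiIso]; infer_instance
  exact IsIso.of_isIso_comp_left ((βΓ I).app E) _

/-- `ε_K` is an isomorphism when `K` has `I`-power torsion cohomology -/
theorem isIso_ε_app (K : Dual.D A) (hK : ∀ i : ℤ, LocCoh.IsPowerTorsion I (Dual.HD A K i)) :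
    IsIso ((DRing.RgammaIε I).app K) := by
  obtain ⟨E, -, hinj, ⟨e⟩⟩ := exists_kInj_iso K
  rw [NatTrans.isIso_app_iff_of_iso _ e]
  exact isIso_ε_app_Q I E hinj ((torsCoh_iff I E).1 (isPowerTorsion_HD_of_iso I e hK))

end Noeth

end Groth.Agent.Lib.H6xRGam
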