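import Mathlib
import Groth.Prelude.Def_DRing3
import Groth.Agent.Lib.H6xRGamD

/-!
# helper6: vanishing of `RΓ_I` on complexes on which some `f ∈ I` acts bijectively
-/

set_option autoImplicit false

universe u

open CategoryTheory CategoryTheory.Limits HomologicalComplex ZeroObject

attribute [local instance] HasDerivedCategory.standard

namespace Groth.Agent.Lib.H6xRGam

open Groth.Agent.Lib.Helper17

variable {A : Type u} [CommRing A]

lemma isZero_Q_obj_of_acyc (K : Cx A) (h : ∀ n, IsZero (K.homology n)) :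
    IsZero (DerivedCategory.Q.obj K) := by
  have hq : QuasiIso (0 : K ⟶ 0) := by
    rw [quasiIso_iff]
    intro i
    rw [quasiIsoAt_iff_exactAt _ _ ((exactAt_iff_isZero_homology _ _).2 (h i)),
      exactAt_iff_isZero_homology]
    exact (homologyFunctor (ModuleCat.{u} A) (ComplexShape.up ℤ) i).map_isZero (isZero_zero _)
  haveI : IsIso (DerivedCategory.Q.map (0 : K ⟶ 0)) := by
    rw [DerivedCategory.isIso_Q_map_iff_quasiIso]; exact hq
  exact IsZero.of_iso (DerivedCategory.Q.map_isZero (isZero_zero _))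
    (asIso (DerivedCategory.Q.map (0 : K ⟶ 0)))

lemma GamCx_map_smul (I : Ideal A) {K L : Cx A} (f : A) (φ : K ⟶ L) :
    (GamCx I).map (f • φ) = f • (GamCx I).map φ := by
  apply HomologicalComplex.hom_ext
  intro n
  rfl

/-- a complex with `f`-power torsion homology on which `f • 𝟙` is a quasi-isomorphism is acyclic -/
lemma isZero_homology_of_quasiIso_smul (f : A) (N : Cx A) (hq : QuasiIso (f • 𝟙 N))
    (ht : ∀ n (y : N.homology n), ∃ k : ℕ, f ^ k • y = 0) (n : ℤ) : IsZero (N.homology n) := by
  haveI : IsIso (homologyMap (f • 𝟙 N) n) := inferInstance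
  have h1 : homologyMap (f • 𝟙 N) n = f • 𝟙 (N.homology n) := by
    rw [homologyMap_smul', homologyMap_id]
  have hinj : Function.Injective (fun y : N.homology n => f • y) := by
    have := ((ConcreteCategory.isIso_iff_bijective (homologyMap (f • 𝟙 N) n)).1 inferInstance).1
    rw [h1] at this
    exact this
  have hz : ∀ y : N.homology n, y = 0 := by
    intro y
    obtain ⟨k, hk⟩ := ht n y
    induction k with
    | zero => simpa using hk
    | succ k ih =>
      apply ih
      apply hinj
      change f • (f ^ k • y) = f • 0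
      rw [smul_zero, smul_smul, ← pow_succ', hk]
  rw [ModuleCat.isZero_iff_subsingleton]
  exact ⟨fun a b => (hz a).trans (hz b).symm⟩

theorem isZero_RgammaI_Q_of_bijective (I : Ideal A) [DRing.HasRgammaI I] (K : Cx A) (f : A)
    (hf : f ∈ I) (hK : ∀ n : ℤ, Function.Bijective (fun x : K.X n => f • x)) :
    IsZero ((DRing.RgammaI I).obj (DerivedCategory.Q.obj K)) := by
  obtain ⟨E, r, hE, -, hr⟩ := exists_kInj_resolution K
  haveI := hE
  haveI := hr
  -- `f • 𝟙 K` is an isomorphism
  haveI : ∀ i, IsIso ((f • 𝟙 K : K ⟶ K).f i) := fun i => by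
    rw [ConcreteCategory.isIso_iff_bijective]
    exact hK i
  haveI : IsIso (f • 𝟙 K : K ⟶ K) := HomologicalComplex.Hom.isIso_of_components _
  -- `f • 𝟙 E` is a quasi-isomorphism
  have hcomm : r ≫ (f • 𝟙 E) = (f • 𝟙 K) ≫ r := by
    rw [Linear.comp_smul, Linear.smul_comp, Category.comp_id, Category.id_comp]
  haveI : QuasiIso (r ≫ (f • 𝟙 E)) := by rw [hcomm]; infer_instance
  haveI hqE : QuasiIso (f • 𝟙 E : E ⟶ E) := quasiIso_of_comp_left r _
  -- hence a homotopy equivalence, hence `Γ_I` of it is a quasi-isomorphism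
  obtain ⟨e, he⟩ := KInj.homotopyEquiv_of_quasiIso (f • 𝟙 E : E ⟶ E)
  have hq' : QuasiIso ((GamCx I).map (f • 𝟙 E)) := by
    rw [← he]
    exact ((DRing.gammaI I).mapHomotopyEquiv e).quasiIso_hom
  rw [GamCx_map_smul, CategoryTheory.Functor.map_id] at hq'
  have hacyc : ∀ n, IsZero (((GamCx I).obj E).homology n) :=
    isZero_homology_of_quasiIso_smul f _ hq' (fun n y => by
      have h1 := torsCoh_GamCx I E n y
      have h2 := torsionSub_mono _ ((Ideal.span_singleton_le_iff_mem I).2 hf) h1
      exact mem_torsionSub_span_singleton.1 h2)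
  haveI := isIso_βΓ_app_of_isKInjective I E
  haveI : IsIso (DerivedCategory.Q.map r) := by
    rw [DerivedCategory.isIso_Q_map_iff_quasiIso]; infer_instance
  exact IsZero.of_iso (isZero_Q_obj_of_acyc _ hacyc)
    ((DRing.RgammaI I).mapIso (asIso (DerivedCategory.Q.map r)) ≪≫
      (asIso ((βΓ I).app E)).symm)

end Groth.Agent.Lib.H6xRGam
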