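import Mathlib
import Groth.Prelude.Def_DRing3
import Groth.Agent.Lib.H6xRGamD

/-!
# helper6: morphisms `M[0] ⟶ (Q E)⟦q⟧` in `D(A)` for a K-injective complex `E`

`Ψ f hf : S(M) ⟶ (Q E)⟦q⟧` for `f : M ⟶ E.X q` with `f ≫ d = 0`; additive, natural in `M`,
surjective, and zero exactly on coboundaries.
-/

set_option autoImplicit false

universe u

open CategoryTheory CategoryTheory.Limits HomologicalComplex CochainComplex

attribute [local instance] HasDerivedCategory.standard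

namespace Groth.Agent.Lib.H6xRGam

open Groth.Agent.Lib.Helper17 CochainComplex.HomComplex

variable {A : Type u} [CommRing A] (E : Cx A) (q : ℤ)

/-- a module placed in degree `0` of `D(A)` -/
noncomputable abbrev SM (M : ModuleCat.{u} A) : Dual.D A :=
  (DerivedCategory.singleFunctor (ModuleCat.{u} A) 0).obj M

/-- the cocycle attached to `f : M ⟶ E.X q` with `f ≫ d = 0` -/
noncomputable abbrev coc {M : ModuleCat.{u} A} (f : M ⟶ E.X q) (hf : f ≫ E.d q (q + 1) = 0) :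
    Cocycle ((CochainComplex.singleFunctor (ModuleCat.{u} A) 0).obj M) E q :=
  Cocycle.fromSingleMk f (zero_add q) (q + 1) rfl hf

/-- the morphism `Q(M[0]) ⟶ (Q E)⟦q⟧` attached to `f : M ⟶ E.X q` with `f ≫ d = 0` -/
noncomputable def ψ₀ {M : ModuleCat.{u} A} (f : M ⟶ E.X q) (hf : f ≫ E.d q (q + 1) = 0) :
    DerivedCategory.Q.obj ((CochainComplex.singleFunctor (ModuleCat.{u} A) 0).obj M) ⟶
      (DerivedCategory.Q.obj E)⟦q⟧ :=
  DerivedCategory.Q.map (Cocycle.equivHomShift.symm (coc E q f hf)) ≫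
    (DerivedCategory.Q.commShiftIso q).hom.app E

lemma ψ₀_add {M : ModuleCat.{u} A} (f g : M ⟶ E.X q) (hf : f ≫ E.d q (q + 1) = 0)
    (hg : g ≫ E.d q (q + 1) = 0) :
    ψ₀ E q (f + g) (by rw [Preadditive.add_comp, hf, hg, add_zero]) =
      ψ₀ E q f hf + ψ₀ E q g hg := by
  unfold ψ₀ coc
  rw [Cocycle.fromSingleMk_add f g (zero_add q) (q + 1) rfl hf hg, map_add, Functor.map_add,
    Preadditive.add_comp]

lemma ψ₀_precomp {M M' : ModuleCat.{u} A} (t : M' ⟶ M) (f : M ⟶ E.X q)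
    (hf : f ≫ E.d q (q + 1) = 0) :
    DerivedCategory.Q.map ((CochainComplex.singleFunctor (ModuleCat.{u} A) 0).map t) ≫
        ψ₀ E q f hf =
      ψ₀ E q (t ≫ f) (by rw [Category.assoc, hf, comp_zero]) := by
  unfold ψ₀ coc
  rw [Cocycle.fromSingleMk_precomp t f (zero_add q) (q + 1) rfl hf,
    Cocycle.equivHomShift_symm_precomp, Functor.map_comp, Category.assoc]

/-- the morphism in `D(A)` attached to `f : M ⟶ E.X q` with `f ≫ d = 0` -/
noncomputable def Ψ {M : ModuleCat.{u} A} (f : M ⟶ E.X q) (hf : f ≫ E.d q (q + 1) = 0) :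
    SM M ⟶ (DerivedCategory.Q.obj E)⟦q⟧ :=
  (DerivedCategory.singleFunctorIsoCompQ (ModuleCat.{u} A) 0).hom.app M ≫ ψ₀ E q f hf

lemma Ψ_add {M : ModuleCat.{u} A} (f g : M ⟶ E.X q) (hf : f ≫ E.d q (q + 1) = 0)
    (hg : g ≫ E.d q (q + 1) = 0) :
    Ψ E q (f + g) (by rw [Preadditive.add_comp, hf, hg, add_zero]) = Ψ E q f hf + Ψ E q g hg := by
  unfold Ψ
  rw [ψ₀_add E q f g hf hg, Preadditive.comp_add]

lemma Ψ_precomp {M M' : ModuleCat.{u} A} (t : M' ⟶ M) (f : M ⟶ E.X q)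
    (hf : f ≫ E.d q (q + 1) = 0) :
    (DerivedCategory.singleFunctor (ModuleCat.{u} A) 0).map t ≫ Ψ E q f hf =
      Ψ E q (t ≫ f) (by rw [Category.assoc, hf, comp_zero]) := by
  unfold Ψ
  rw [← ψ₀_precomp E q t f hf]
  have := (DerivedCategory.singleFunctorIsoCompQ (ModuleCat.{u} A) 0).hom.naturality t
  dsimp only [Functor.comp_map] at this
  rw [← Category.assoc, this, Category.assoc]

section KInj

variable [E.IsKInjective]

lemma ψ₀_surjective {M : ModuleCat.{u} A}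
    (ψ : DerivedCategory.Q.obj ((CochainComplex.singleFunctor (ModuleCat.{u} A) 0).obj M) ⟶
      (DerivedCategory.Q.obj E)⟦q⟧) :
    ∃ (f : M ⟶ E.X q) (hf : f ≫ E.d q (q + 1) = 0), ψ₀ E q f hf = ψ := by
  obtain ⟨g, hg⟩ := KInj.exists_Q_map_eq (ψ ≫ (DerivedCategory.Q.commShiftIso q).inv.app E)
  obtain ⟨f, hf, hfg⟩ := Cocycle.fromSingleMk_surjective (Cocycle.equivHomShift g) q
    (zero_add q) (q + 1) rfl
  refine ⟨f, hf, ?_⟩
  unfold ψ₀ coc
  rw [hfg, AddEquiv.symm_apply_apply, hg, Category.assoc, Iso.inv_hom_id_app]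
  exact Category.comp_id _

lemma ψ₀_eq_zero_iff {M : ModuleCat.{u} A} (f : M ⟶ E.X q) (hf : f ≫ E.d q (q + 1) = 0) :
    ψ₀ E q f hf = 0 ↔ ∃ h : M ⟶ E.X (q - 1), h ≫ E.d (q - 1) q = f := by
  rw [← Cocycle.fromSingleMk_mem_coboundaries_iff f (zero_add q) (q + 1) rfl hf (q - 1) (by simp),
    ← CohomologyClass.toHom_mk_eq_zero_iff, CohomologyClass.toHom_mk,
    HomotopyCategory.quotient_map_eq_zero_iff]
  unfold ψ₀ coc
  constructor
  · intro h0
    have h1 : DerivedCategory.Q.map (Cocycle.equivHomShift.symm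
        (Cocycle.fromSingleMk f (zero_add q) (q + 1) rfl hf)) = DerivedCategory.Q.map 0 := by
      rw [Functor.map_zero, ← cancel_mono ((DerivedCategory.Q.commShiftIso q).hom.app E), h0,
        zero_comp]
    exact KInj.homotopy_of_Q_map_eq h1
  · rintro ⟨H⟩
    rw [DerivedCategory.Q_map_eq_of_homotopy _ H, Functor.map_zero, zero_comp]

lemma Ψ_surjective {M : ModuleCat.{u} A} (ψ : SM M ⟶ (DerivedCategory.Q.obj E)⟦q⟧) :
    ∃ (f : M ⟶ E.X q) (hf : f ≫ E.d q (q + 1) = 0), Ψ E q f hf = ψ := by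
  obtain ⟨f, hf, h⟩ := ψ₀_surjective E q
    ((DerivedCategory.singleFunctorIsoCompQ (ModuleCat.{u} A) 0).inv.app M ≫ ψ)
  refine ⟨f, hf, ?_⟩
  unfold Ψ
  rw [h, Iso.hom_inv_id_app_assoc]

lemma Ψ_eq_zero_iff {M : ModuleCat.{u} A} (f : M ⟶ E.X q) (hf : f ≫ E.d q (q + 1) = 0) :
    Ψ E q f hf = 0 ↔ ∃ h : M ⟶ E.X (q - 1), h ≫ E.d (q - 1) q = f := by
  rw [← ψ₀_eq_zero_iff E q f hf]
  unfold Ψ
  constructor
  · intro h
    rw [← cancel_epi ((DerivedCategory.singleFunctorIsoCompQ (ModuleCat.{u} A) 0).hom.app M), h,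
      comp_zero]
  · intro h
    rw [h, comp_zero]

end KInj

lemma Ψ_smul {M : ModuleCat.{u} A} (a : A) (f : M ⟶ E.X q) (hf : f ≫ E.d q (q + 1) = 0) :
    a • Ψ E q f hf = Ψ E q (a • f) (by rw [Linear.smul_comp, hf, smul_zero]) := by
  have h1 : a • Ψ E q f hf =
      (DerivedCategory.singleFunctor (ModuleCat.{u} A) 0).map (a • 𝟙 M) ≫ Ψ E q f hf := by
    rw [Functor.map_smul, CategoryTheory.Functor.map_id, Linear.smul_comp, Category.id_comp]
  rw [h1, Ψ_precomp]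
  congr 1
  rw [Linear.smul_comp, Category.id_comp]

end Groth.Agent.Lib.H6xRGam
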