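import Mathlib
import Groth.Prelude.Def_DRing3
import Groth.Agent.Lib.H6xRGamG

/-!
# helper6: the class map `(M ⟶ E.X q, cocycle) → (M ⟶ H^q(Γ_I E))` for `I`-power torsion `M`
-/

set_option autoImplicit false

universe u

open CategoryTheory CategoryTheory.Limits HomologicalComplex

namespace Groth.Agent.Lib.H6xRGam

variable {A : Type u} [CommRing A] (I : Ideal A) (E : Cx A) (q : ℤ)

section Elem

variable (K : Cx A) (i : ℤ)

lemma exists_cycle' (x : K.X i) (hx : (K.d i (i + 1)).hom x = 0) :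
    ∃ z : K.cycles i, (K.iCycles i).hom z = x := by
  have h : (ShortComplex.mk (K.iCycles i) (K.d i (i + 1)) (K.iCycles_d i (i + 1))).Exact :=
    ShortComplex.exact_of_f_is_kernel _ (K.cyclesIsKernel i (i + 1) (by simp))
  rw [ShortComplex.moduleCat_exact_iff] at h
  exact h x hx

lemma iCycles_injective' : Function.Injective (K.iCycles i).hom :=
  (ModuleCat.mono_iff_injective (K.iCycles i)).1 inferInstance

lemma homologyπ_surjective' : Function.Surjective (K.homologyπ i).hom :=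
  (ModuleCat.epi_iff_surjective (K.homologyπ i)).1 inferInstance

lemma exists_of_homologyπ_eq_zero' (z : K.cycles i) (hz : (K.homologyπ i).hom z = 0) :
    ∃ w : K.X (i - 1), (K.toCycles (i - 1) i).hom w = z := by
  have h : (ShortComplex.mk (K.toCycles (i - 1) i) (K.homologyπ i)
      (K.toCycles_comp_homologyπ (i - 1) i)).Exact :=
    ShortComplex.exact_of_g_is_cokernel _ (K.homologyIsCokernel (i - 1) i (by simp))
  rw [ShortComplex.moduleCat_exact_iff] at h
  exact h z hz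

lemma iCycles_toCycles' (w : K.X (i - 1)) :
    (K.iCycles i).hom ((K.toCycles (i - 1) i).hom w) = (K.d (i - 1) i).hom w :=
  congrArg (fun t => t.hom w) (K.toCycles_i (i - 1) i)

lemma d_iCycles' (z : K.cycles i) : (K.d i (i + 1)).hom ((K.iCycles i).hom z) = 0 :=
  congrArg (fun t => t.hom z) (K.iCycles_d i (i + 1))

end Elem

section TL

variable {I}

/-- the property of being `I`-power torsion -/
def IsTors (I : Ideal A) (M : ModuleCat.{u} A) : Prop := ∀ m : M, m ∈ DRing.torsionSub I M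

/-- a map from an `I`-power torsion module factors through `Γ_I` -/
noncomputable def tl {M X : ModuleCat.{u} A} (hM : IsTors I M) (f : M ⟶ X) :
    M ⟶ (DRing.gammaI I).obj X :=
  ModuleCat.ofHom (LinearMap.codRestrict (DRing.torsionSub I X) f.hom
    (fun m => DRing.map_mem_torsionSub I f.hom (hM m)))

@[reassoc (attr := simp)]
lemma tl_ι {M X : ModuleCat.{u} A} (hM : IsTors I M) (f : M ⟶ X) :
    tl hM f ≫ (DRing.gammaIι I).app X = f := rfl

instance mono_gammaIι (X : ModuleCat.{u} A) : Mono ((DRing.gammaIι I).app X) := by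
  rw [ModuleCat.mono_iff_injective]
  exact Subtype.val_injective

lemma tl_comp {M X Y : ModuleCat.{u} A} (hM : IsTors I M) (f : M ⟶ X) (g : X ⟶ Y) :
    tl hM f ≫ (DRing.gammaI I).map g = tl hM (f ≫ g) := rfl

lemma tl_precomp {M M' X : ModuleCat.{u} A} (hM : IsTors I M) (hM' : IsTors I M') (t : M' ⟶ M)
    (f : M ⟶ X) : t ≫ tl hM f = tl hM' (t ≫ f) := rfl

lemma tl_add {M X : ModuleCat.{u} A} (hM : IsTors I M) (f g : M ⟶ X) :
    tl hM (f + g) = tl hM f + tl hM g := rfl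

end TL

section Cls

variable {I E q}

/-- `tl` with values in the terms of `Γ_I E` -/
noncomputable def tlE {M : ModuleCat.{u} A} (hM : IsTors I M) (p : ℤ) (f : M ⟶ E.X p) :
    M ⟶ ((GamCx I).obj E).X p := tl hM f

lemma tlE_d {M : ModuleCat.{u} A} (hM : IsTors I M) (p p' : ℤ) (f : M ⟶ E.X p) :
    tlE hM p f ≫ ((GamCx I).obj E).d p p' = tlE hM p' (f ≫ E.d p p') := rfl

lemma tlE_zero {M : ModuleCat.{u} A} (hM : IsTors I M) (p : ℤ) :
    tlE (E := E) hM p 0 = 0 := rfl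

lemma tlE_precomp {M M' : ModuleCat.{u} A} (hM : IsTors I M) (hM' : IsTors I M') (t : M' ⟶ M)
    (p : ℤ) (f : M ⟶ E.X p) : t ≫ tlE hM p f = tlE hM' p (t ≫ f) := rfl

lemma tlE_add {M : ModuleCat.{u} A} (hM : IsTors I M) (p : ℤ) (f g : M ⟶ E.X p) :
    tlE hM p (f + g) = tlE hM p f + tlE hM p g := rfl

lemma tlE_apply_val {M : ModuleCat.{u} A} (hM : IsTors I M) (p : ℤ) (f : M ⟶ E.X p) (m : M) :
    (((tlE hM p f).hom m : ((GamCx I).obj E).X p) : DRing.torsionSub I (E.X p)).1 = f.hom m := rfl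

lemma tl_d_eq_zero {M : ModuleCat.{u} A} (hM : IsTors I M) (f : M ⟶ E.X q)
    (hf : f ≫ E.d q (q + 1) = 0) :
    tlE hM q f ≫ ((GamCx I).obj E).d q (q + 1) = 0 := by
  rw [tlE_d, hf, tlE_zero]

/-- the class map -/
noncomputable def cls {M : ModuleCat.{u} A} (hM : IsTors I M) (f : M ⟶ E.X q)
    (hf : f ≫ E.d q (q + 1) = 0) : M ⟶ ((GamCx I).obj E).homology q :=
  ((GamCx I).obj E).liftCycles (tlE hM q f) (q + 1) (by simp) (tl_d_eq_zero hM f hf) ≫
    ((GamCx I).obj E).homologyπ q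

lemma cls_precomp {M M' : ModuleCat.{u} A} (hM : IsTors I M) (hM' : IsTors I M') (t : M' ⟶ M)
    (f : M ⟶ E.X q) (hf : f ≫ E.d q (q + 1) = 0) :
    t ≫ cls hM f hf = cls hM' (t ≫ f) (by rw [Category.assoc, hf, comp_zero]) := by
  unfold cls
  rw [← Category.assoc]
  congr 1
  rw [← cancel_mono (((GamCx I).obj E).iCycles q), Category.assoc, liftCycles_i, liftCycles_i,
    tlE_precomp hM hM']

lemma cls_add {M : ModuleCat.{u} A} (hM : IsTors I M) (f g : M ⟶ E.X q)
    (hf : f ≫ E.d q (q + 1) = 0) (hg : g ≫ E.d q (q + 1) = 0) :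
    cls hM (f + g) (by rw [Preadditive.add_comp, hf, hg, add_zero]) =
      cls hM f hf + cls hM g hg := by
  unfold cls
  have h : ((GamCx I).obj E).liftCycles (tlE hM q (f + g)) (q + 1) (by simp)
      (tl_d_eq_zero hM (f + g) (by rw [Preadditive.add_comp, hf, hg, add_zero])) =
      ((GamCx I).obj E).liftCycles (tlE hM q f) (q + 1) (by simp) (tl_d_eq_zero hM f hf) +
      ((GamCx I).obj E).liftCycles (tlE hM q g) (q + 1) (by simp) (tl_d_eq_zero hM g hg) := by
    rw [← cancel_mono (((GamCx I).obj E).iCycles q)]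
    simp only [Preadditive.add_comp, liftCycles_i]
    exact tlE_add hM q f g
  rw [h]
  exact Preadditive.add_comp _ _ _ _ _ _

lemma cls_eq_zero_of_boundary {M : ModuleCat.{u} A} (hM : IsTors I M) (h : M ⟶ E.X (q - 1)) :
    cls hM (h ≫ E.d (q - 1) q) (by rw [Category.assoc, E.d_comp_d, comp_zero]) = 0 := by
  unfold cls
  exact ((GamCx I).obj E).liftCycles_homologyπ_eq_zero_of_boundary _ (q + 1) (by simp)
    (tlE hM (q - 1) h) (tlE_d hM (q - 1) q h).symm

end Cls

section Quot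

/-- `A ⧸ I ^ n` as an object of `ModuleCat A` -/
noncomputable abbrev Mq (n : ℕ) : ModuleCat.{u} A := ModuleCat.of A (A ⧸ I ^ n)

/-- the class of `1` -/
noncomputable abbrev one (n : ℕ) : Mq I n := (Submodule.Quotient.mk (1 : A) : A ⧸ I ^ n)

lemma isTors_Mq (n : ℕ) : IsTors I (Mq I n) := by
  intro m
  refine ⟨n, fun a ha => ?_⟩
  obtain ⟨b, rfl⟩ := Submodule.Quotient.mk_surjective _ m
  rw [← Submodule.Quotient.mk_smul, Submodule.Quotient.mk_eq_zero]
  exact Ideal.mul_mem_right b _ ha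

/-- the transition map `A ⧸ I ^ m ⟶ A ⧸ I ^ n` for `n ≤ m` -/
noncomputable def tq {n m : ℕ} (h : n ≤ m) : Mq I m ⟶ Mq I n :=
  ModuleCat.ofHom (Submodule.mapQ _ _ LinearMap.id (by
    simpa using Ideal.pow_le_pow_right h))

lemma tq_one {n m : ℕ} (h : n ≤ m) : (tq I h).hom (one I m) = one I n := rfl

/-- the map `A ⧸ I ^ n ⟶ X` sending `1` to `x`, for `x` killed by `I ^ n` -/
noncomputable def ofElem (n : ℕ) (X : ModuleCat.{u} A) (x : X) (hx : ∀ a ∈ I ^ n, a • x = 0) :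
    Mq I n ⟶ X :=
  ModuleCat.ofHom (Submodule.liftQ (I ^ n) (LinearMap.toSpanSingleton A X x) (fun a ha => by
    rw [LinearMap.mem_ker, LinearMap.toSpanSingleton_apply]
    exact hx a ha))

lemma ofElem_one (n : ℕ) (X : ModuleCat.{u} A) (x : X) (hx : ∀ a ∈ I ^ n, a • x = 0) :
    (ofElem I n X x hx).hom (one I n) = x := by
  change Submodule.liftQ (I ^ n) (LinearMap.toSpanSingleton A X x) _
    (Submodule.Quotient.mk (1 : A)) = x
  rw [Submodule.liftQ_apply, LinearMap.toSpanSingleton_apply, one_smul]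

lemma Mq_hom_ext {n : ℕ} {X : ModuleCat.{u} A} (f g : Mq I n ⟶ X)
    (h : f.hom (one I n) = g.hom (one I n)) : f = g := by
  apply ModuleCat.hom_ext
  apply Submodule.linearMap_qext
  apply LinearMap.ext_ring
  exact h

end Quot

section Key

variable {I E q}

/-- every class in `H^q(Γ_I E)` comes from some `A ⧸ I ^ n` -/
lemma exists_cls_eq (y : ((GamCx I).obj E).homology q) :
    ∃ (n : ℕ) (f : Mq I n ⟶ E.X q) (hf : f ≫ E.d q (q + 1) = 0),
      (cls (isTors_Mq I n) f hf).hom (one I n) = y := by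
  obtain ⟨z, rfl⟩ := homologyπ_surjective' _ q y
  -- the underlying element
  obtain ⟨x₀, n, hn, hx⟩ : ∃ (x₀ : E.X q) (n : ℕ) (hn : ∀ a ∈ I ^ n, a • x₀ = 0),
      ((((GamCx I).obj E).iCycles q).hom z : DRing.torsionSub I (E.X q)) = ⟨x₀, ⟨n, hn⟩⟩ := by
    obtain ⟨x₀, n, hn⟩ := ((((GamCx I).obj E).iCycles q).hom z : DRing.torsionSub I (E.X q))
    exact ⟨x₀, n, hn, rfl⟩
  have hd : (E.d q (q + 1)).hom x₀ = 0 := by
    have h1 := d_iCycles' ((GamCx I).obj E) q z
    have h3 : ((((GamCx I).obj E).d q (q + 1)).hom ((((GamCx I).obj E).iCycles q).hom z) :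
        DRing.torsionSub I (E.X (q + 1))).1 = (E.d q (q + 1)).hom x₀ :=
      congrArg (fun w : DRing.torsionSub I (E.X q) => (E.d q (q + 1)).hom w.1) hx
    rw [← h3, h1]
    rfl
  refine ⟨n, ofElem I n (E.X q) x₀ hn, ?_, ?_⟩
  · apply Mq_hom_ext
    rw [ModuleCat.comp_apply, ofElem_one, hd]
    rfl
  · unfold cls
    rw [ModuleCat.comp_apply]
    congr 1
    apply iCycles_injective' _ q
    rw [← ModuleCat.comp_apply, liftCycles_i]
    refine Eq.trans ?_ hx.symm
    apply Subtype.ext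
    exact (tlE_apply_val _ q _ _).trans (ofElem_one I n (E.X q) x₀ hn)

/-- a class which vanishes is killed at a later stage -/
lemma exists_boundary_of_cls_eq_zero (n : ℕ) (f : Mq I n ⟶ E.X q)
    (hf : f ≫ E.d q (q + 1) = 0) (h0 : (cls (isTors_Mq I n) f hf).hom (one I n) = 0) :
    ∃ (m : ℕ) (hnm : n ≤ m) (h : Mq I m ⟶ E.X (q - 1)),
      h ≫ E.d (q - 1) q = tq I hnm ≫ f := by
  unfold cls at h0
  rw [ModuleCat.comp_apply] at h0
  obtain ⟨w, hw⟩ := exists_of_homologyπ_eq_zero' _ q _ h0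
  have h1 := iCycles_toCycles' ((GamCx I).obj E) q w
  rw [hw, ← ModuleCat.comp_apply, liftCycles_i] at h1
  -- h1 : tlE f (one) = d w  in Γ_I E
  obtain ⟨w₀, k, hk, hw₀⟩ : ∃ (w₀ : E.X (q - 1)) (k : ℕ) (hk : ∀ a ∈ I ^ k, a • w₀ = 0),
      (w : DRing.torsionSub I (E.X (q - 1))) = ⟨w₀, ⟨k, hk⟩⟩ := by
    obtain ⟨w₀, k, hk⟩ := (w : DRing.torsionSub I (E.X (q - 1)))
    exact ⟨w₀, k, hk, rfl⟩
  have h2 : f.hom (one I n) = (E.d (q - 1) q).hom w₀ := by
    have e1 : (((tlE (isTors_Mq I n) q f).hom (one I n) : ((GamCx I).obj E).X q) :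
        DRing.torsionSub I (E.X q)).1 = f.hom (one I n) := rfl
    have e2 : ((((GamCx I).obj E).d (q - 1) q).hom w : DRing.torsionSub I (E.X q)).1 =
        (E.d (q - 1) q).hom w₀ :=
      congrArg (fun v : DRing.torsionSub I (E.X (q - 1)) => (E.d (q - 1) q).hom v.1) hw₀
    rw [← e1, ← e2, h1]
  have hk' : ∀ a ∈ I ^ (max n k), a • w₀ = 0 := fun a ha =>
    hk a (Ideal.pow_le_pow_right (le_max_right n k) ha)
  refine ⟨max n k, le_max_left n k, ofElem I (max n k) (E.X (q - 1)) w₀ hk', ?_⟩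
  apply Mq_hom_ext
  rw [ModuleCat.comp_apply, ModuleCat.comp_apply, ofElem_one, tq_one, h2]

end Key

end Groth.Agent.Lib.H6xRGam
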