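import Mathlib
import Groth.Prelude.Def_DRing3
import Groth.Agent.Lib.Helper17KInjD5
import Groth.Agent.Lib.H6xRGamH
import Groth.Agent.Lib.H6xRGamE

/-!
# helper6: the right adjoint of restriction of scalars `D(B) ⥤ D(A)` and
`Hom(B[n], K) = 0 ∀ n ↔ Hom(E|_A, K) = 0 ∀ E ∈ D(B)`
-/

set_option autoImplicit false
universe u
open CategoryTheory CategoryTheory.Limits HomologicalComplex
attribute [local instance] HasDerivedCategory.standard

namespace Groth.Agent.Lib.H6xCoext

open Groth.Agent.Lib.Helper17 Groth.Agent.Lib.H6xRGam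

section Zero

variable {B : Type u} [CommRing B]

/-- an object of `D(B)` receiving no nonzero map from any shift of `B` is zero -/
lemma isZero_of_forall_subsingleton_hom (L : Dual.D B)
    (h : ∀ n : ℤ, Subsingleton (Dual.inD B B ⟶ L⟦n⟧)) : IsZero L := by
  obtain ⟨E, hE, -, ⟨e⟩⟩ := exists_kInj_iso L
  haveI := hE
  refine IsZero.of_iso (isZero_Q_obj_of_acyc E fun q => ?_) e
  rw [ModuleCat.isZero_iff_subsingleton]
  refine ⟨fun a b => ?_⟩
  suffices H : ∀ c : E.homology q, c = 0 by rw [H a, H b]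
  intro c
  obtain ⟨z, rfl⟩ := homologyπ_surjective' E q c
  -- the cycle as a map from `B`
  let x : E.X q := (E.iCycles q).hom z
  have hx : (E.d q (q + 1)).hom x = 0 := d_iCycles' E q z
  let f : ModuleCat.of B B ⟶ E.X q := ModuleCat.ofHom (LinearMap.toSpanSingleton B (E.X q) x)
  have hf : f ≫ E.d q (q + 1) = 0 := by
    apply ModuleCat.hom_ext
    apply LinearMap.ext_ring
    change (E.d q (q + 1)).hom ((1 : B) • x) = 0
    rw [one_smul, hx]
  have hΨ : Ψ E q f hf = 0 := by
    haveI : Subsingleton (Dual.inD B B ⟶ (DerivedCategory.Q.obj E)⟦q⟧) :=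
      (((shiftFunctor (Dual.D B) q).mapIso e).homToEquiv (Z := Dual.inD B B)).symm.subsingleton
    exact Subsingleton.elim _ _
  obtain ⟨k, hk⟩ := (Ψ_eq_zero_iff E q f hf).1 hΨ
  have hw : (E.d (q - 1) q).hom (k.hom (1 : B)) = x := by
    have := congrArg (fun t => t.hom (1 : B)) hk
    refine this.trans ?_
    change (1 : B) • x = x
    rw [one_smul]
  have hz : (E.toCycles (q - 1) q).hom (k.hom (1 : B)) = z := by
    apply iCycles_injective' E q
    rw [iCycles_toCycles', hw]
  rw [← hz]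
  exact congrArg (fun t => t.hom (k.hom (1 : B))) (E.toCycles_comp_homologyπ (q - 1) q)

end Zero

section Main

variable {A B : Type u} [CommRing A] [CommRing B] (φ : A →+* B)

noncomputable abbrev Fr : ModuleCat.{u} B ⥤ ModuleCat.{u} A := ModuleCat.restrictScalars.{u} φ
noncomputable abbrev Gc : ModuleCat.{u} A ⥤ ModuleCat.{u} B := ModuleCat.coextendScalars.{u,u,u} φ
noncomputable abbrev adjFG : Fr φ ⊣ Gc φ := ModuleCat.restrictCoextendScalarsAdj.{u,u,u} φ

instance : (Gc φ).Additive := (adjFG φ).right_adjoint_additive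

lemma exists_RG : ∃ (RG : Dual.D A ⥤ Dual.D B)
    (β : (Gc φ).mapHomologicalComplex (ComplexShape.up ℤ) ⋙ DerivedCategory.Q ⟶ DerivedCategory.Q ⋙ RG),
    RG.IsRightDerivedFunctor β (HomologicalComplex.quasiIso (ModuleCat.{u} A) (ComplexShape.up ℤ)) := by
  have hder : (KInj.fibLocalizerMorphism (ModuleCat.{u} A)).Derives
      ((Gc φ).mapHomologicalComplex (ComplexShape.up ℤ) ⋙
        (DerivedCategory.Q : _ ⥤ DerivedCategory (ModuleCat.{u} B))) :=
    KInj.fibLocalizerMorphism_derives _ (KInj.isInvertedBy_mapHomologicalComplex_comp_Q _)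
  haveI := hder.hasPointwiseRightDerivedFunctor
  exact ⟨_, ((Gc φ).mapHomologicalComplex (ComplexShape.up ℤ) ⋙
      (DerivedCategory.Q : _ ⥤ DerivedCategory (ModuleCat.{u} B))).totalRightDerivedUnit
        DerivedCategory.Q (HomologicalComplex.quasiIso (ModuleCat.{u} A) (ComplexShape.up ℤ)), inferInstance⟩

/-- restriction of scalars `D(B) ⥤ D(A)` has a right adjoint -/
lemma exists_rightAdjoint : ∃ (RG : Dual.D A ⥤ Dual.D B), Nonempty (DRing.restrictD φ ⊣ RG) := by
  obtain ⟨RG, β, hβ⟩ := exists_RG φ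
  exact ⟨RG, ⟨KInj.derivedAdjunction.{u} (Fr φ) (Gc φ) (adjFG φ) RG β⟩⟩

end Main

section Alg

variable {A B : Type u} [CommRing A] [CommRing B] [Algebra A B]

/-- `B` restricted to `A` is `B` with its algebra module structure -/
noncomputable def restrictSelfEquiv :
    ((ModuleCat.restrictScalars.{u} (algebraMap A B)).obj (ModuleCat.of B B)) ≃ₗ[A] B where
  toFun := fun x => x
  invFun := fun x => x
  left_inv := fun _ => rfl
  right_inv := fun _ => rfl
  map_add' := fun _ _ => rfl
  map_smul' := fun a x => by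
    have h := (Algebra.smul_def (R := A) (A := B) a x).symm
    exact h

noncomputable def restrictSelfIso :
    (ModuleCat.restrictScalars.{u} (algebraMap A B)).obj (ModuleCat.of B B) ≅ ModuleCat.of A B :=
  LinearEquiv.toModuleIso restrictSelfEquiv

noncomputable def singleIso :
    (DRing.restrictD (algebraMap A B)).obj (Dual.inD B B) ≅ Dual.inD A B :=
  ((ModuleCat.restrictScalars.{u} (algebraMap A B)).mapDerivedCategorySingleFunctor 0).app
      (ModuleCat.of B B) ≪≫
    (DerivedCategory.singleFunctor (ModuleCat.{u} A) 0).mapIso restrictSelfIso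

noncomputable def singleShiftIso (n : ℤ) :
    (DRing.restrictD (algebraMap A B)).obj ((Dual.inD B B)⟦n⟧) ≅ (Dual.inD A B)⟦n⟧ :=
  ((DRing.restrictD (algebraMap A B)).commShiftIso n).app _ ≪≫
    (shiftFunctor (Dual.D A) n).mapIso singleIso

/-- moving a shift across a hom set -/
noncomputable def shiftHomEquiv {C : Type*} [Category C] [HasShift C ℤ] (X Y : C) (n : ℤ) :
    (X⟦-n⟧ ⟶ Y) ≃ (X ⟶ Y⟦n⟧) :=
  (shiftEquiv' C (-n) n (neg_add_cancel n)).toAdjunction.homEquiv X Y

theorem main (K : Dual.D A) :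
    (∀ n : ℤ, Subsingleton (Dual.inD A B ⟶ K⟦n⟧)) ↔
      ∀ E : Dual.D B, Subsingleton ((DRing.restrictD (algebraMap A B)).obj E ⟶ K) := by
  obtain ⟨RG, ⟨adj⟩⟩ := exists_rightAdjoint (algebraMap A B)
  have key : ∀ n : ℤ, (Dual.inD B B ⟶ (RG.obj K)⟦n⟧) ≃ (Dual.inD A B ⟶ K⟦n⟧) := fun n =>
    (shiftHomEquiv _ _ n).symm.trans ((adj.homEquiv _ _).symm.trans
      (((singleShiftIso (A := A) (B := B) (-n)).homFromEquiv (Z := K)).trans (shiftHomEquiv _ _ n)))
  constructor
  · intro h E
    have hz : IsZero (RG.obj K) :=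
      isZero_of_forall_subsingleton_hom _ fun n => (key n).subsingleton_congr.2 (h n)
    exact (adj.homEquiv E K).subsingleton_congr.2 ⟨fun a b => hz.eq_of_tgt a b⟩
  · intro h n
    exact ((shiftHomEquiv _ _ n).symm.trans
      ((singleShiftIso (A := A) (B := B) (-n)).homFromEquiv (Z := K)).symm).subsingleton_congr.2 (h _)

end Alg

end Groth.Agent.Lib.H6xCoext
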