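import Mathlib
import Groth.Prelude.Def_DRing3
import Groth.Agent.Lib.H6xCoextA
import Groth.Agent.Lib.Helper1HomFinite

/-!
# helper6: finiteness of the cohomology of `R(K)` for `R` right adjoint to restriction of scalars
along a finite map of Noetherian rings
-/

set_option autoImplicit false
universe u
open CategoryTheory CategoryTheory.Limits HomologicalComplex
attribute [local instance] HasDerivedCategory.standard

namespace Groth.Agent.Lib.H6xCoext

open Groth.Agent.Lib.Helper17 Groth.Agent.Lib.H6xRGam

section HD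

variable {A : Type u} [CommRing A]

lemma Ψ_congr' (E : Cx A) (q : ℤ) {M : ModuleCat.{u} A} {f g : M ⟶ E.X q} (h : f = g)
    (hf : f ≫ E.d q (q + 1) = 0) (hg : g ≫ E.d q (q + 1) = 0) : Ψ E q f hf = Ψ E q g hg := by
  subst h; rfl

/-- the map from a cycle of `E` to `A[0] ⟶ (Q E)⟦q⟧` -/
noncomputable def fz (E : Cx A) (q : ℤ) (z : E.cycles q) : ModuleCat.of A A ⟶ E.X q :=
  ModuleCat.ofHom (LinearMap.toSpanSingleton A (E.X q) ((E.iCycles q).hom z))

lemma fz_d (E : Cx A) (q : ℤ) (z : E.cycles q) : fz E q z ≫ E.d q (q + 1) = 0 := by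
  apply ModuleCat.hom_ext
  apply LinearMap.ext_ring
  change (E.d q (q + 1)).hom ((1 : A) • (E.iCycles q).hom z) = 0
  rw [one_smul, d_iCycles']

lemma fz_add (E : Cx A) (q : ℤ) (z z' : E.cycles q) : fz E q (z + z') = fz E q z + fz E q z' := by
  apply ModuleCat.hom_ext
  apply LinearMap.ext_ring
  change (1 : A) • (E.iCycles q).hom (z + z') =
    (1 : A) • (E.iCycles q).hom z + (1 : A) • (E.iCycles q).hom z'
  rw [map_add, smul_add]

lemma fz_smul (E : Cx A) (q : ℤ) (a : A) (z : E.cycles q) : fz E q (a • z) = a • fz E q z := by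
  apply ModuleCat.hom_ext
  apply LinearMap.ext_ring
  change (1 : A) • (E.iCycles q).hom (a • z) = a • ((1 : A) • (E.iCycles q).hom z)
  rw [map_smul, one_smul, one_smul]

/-- cycles to morphisms in the derived category -/
noncomputable def evZ (E : Cx A) (q : ℤ) :
    E.cycles q →ₗ[A] (SM (ModuleCat.of A A) ⟶ (DerivedCategory.Q.obj E)⟦q⟧) where
  toFun z := Ψ E q (fz E q z) (fz_d E q z)
  map_add' z z' := by
    rw [← Ψ_add]
    exact Ψ_congr' E q (fz_add E q z z') _ _
  map_smul' a z := by
    rw [RingHom.id_apply, Ψ_smul]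
    exact Ψ_congr' E q (fz_smul E q a z) _ _

section KI

variable (E : Cx A) (q : ℤ) [E.IsKInjective]

lemma evZ_surjective : Function.Surjective (evZ E q) := by
  intro ψ
  obtain ⟨f, hf, rfl⟩ := Ψ_surjective E q ψ
  have hx : (E.d q (q + 1)).hom (f.hom (1 : A)) = 0 :=
    congrArg (fun t => t.hom (1 : A)) hf
  obtain ⟨z, hz⟩ := exists_cycle' E q (f.hom (1 : A)) hx
  refine ⟨z, ?_⟩
  refine Ψ_congr' E q ?_ _ _
  apply ModuleCat.hom_ext
  apply LinearMap.ext_ring
  change (1 : A) • (E.iCycles q).hom z = f.hom 1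
  rw [one_smul, hz]

lemma homologyπ_eq_zero_of_evZ (z : E.cycles q) (h : evZ E q z = 0) :
    (E.homologyπ q).hom z = 0 := by
  obtain ⟨k, hk⟩ := (Ψ_eq_zero_iff E q (fz E q z) (fz_d E q z)).1 h
  have hw : (E.d (q - 1) q).hom (k.hom (1 : A)) = (E.iCycles q).hom z := by
    have := congrArg (fun t => t.hom (1 : A)) hk
    refine this.trans ?_
    change (1 : A) • (E.iCycles q).hom z = _
    rw [one_smul]
  have hz : (E.toCycles (q - 1) q).hom (k.hom (1 : A)) = z := by
    apply iCycles_injective' E q
    rw [iCycles_toCycles', hw]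
  rw [← hz]
  exact congrArg (fun t => t.hom (k.hom (1 : A))) (E.toCycles_comp_homologyπ (q - 1) q)

/-- `H^q(E)` is a quotient of `Hom(A[0], (Q E)⟦q⟧)` -/
lemma finite_homology_of_finite_hom
    (h : Module.Finite A (SM (ModuleCat.of A A) ⟶ (DerivedCategory.Q.obj E)⟦q⟧)) :
    Module.Finite A (E.homology q) := by
  let e := (evZ E q).quotKerEquivOfSurjective (evZ_surjective E q)
  let g : (E.cycles q ⧸ LinearMap.ker (evZ E q)) →ₗ[A] E.homology q :=
    (LinearMap.ker (evZ E q)).liftQ (E.homologyπ q).hom
      (fun z hz => homologyπ_eq_zero_of_evZ E q z hz)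
  have hg : Function.Surjective g := by
    intro y
    obtain ⟨z, rfl⟩ := homologyπ_surjective' E q y
    exact ⟨Submodule.Quotient.mk z, rfl⟩
  exact Module.Finite.of_surjective (g ∘ₗ e.symm.toLinearMap) (hg.comp e.symm.surjective)

end KI

/-- finiteness of `H^q(L)` from finiteness of `Hom(A[0], L⟦q⟧)` -/
theorem finite_HD_of_finite_hom (L : Dual.D A) (q : ℤ)
    (h : Module.Finite A (Dual.inD A A ⟶ L⟦q⟧)) : Module.Finite A (Dual.HD A L q) := by
  obtain ⟨E, hE, -, ⟨e⟩⟩ := exists_kInj_iso L
  haveI := hE
  have h1 : Module.Finite A (SM (ModuleCat.of A A) ⟶ (DerivedCategory.Q.obj E)⟦q⟧) := by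
    refine Module.Finite.of_surjective
      (Linear.rightComp A (Dual.inD A A) ((shiftFunctor (Dual.D A) q).map e.hom)) ?_
    intro ψ
    refine ⟨ψ ≫ (shiftFunctor (Dual.D A) q).map e.inv, ?_⟩
    change (ψ ≫ (shiftFunctor (Dual.D A) q).map e.inv) ≫ (shiftFunctor (Dual.D A) q).map e.hom = ψ
    rw [Category.assoc, ← Functor.map_comp, Iso.inv_hom_id, CategoryTheory.Functor.map_id,
      Category.comp_id]
  have h2 := finite_homology_of_finite_hom E q h1
  exact Module.Finite.equiv
    (((DerivedCategory.homologyFunctor (ModuleCat.{u} A) q).mapIso e).toLinearEquiv.trans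
      (HDIso E q)).symm

end HD

section Fin

open DerivedCategory Pretriangulated Groth.Agent.S14388 Groth.Agent.Lib.Helper1.HomFinite

variable {A : Type u} [CommRing A] [IsNoetherianRing A]

/-- `Hom(M[-j], K)` is finite for `M` finite and `K` bounded below with finite cohomology -/
theorem finite_hom_single_of_boundedBelow (M : ModuleCat.{u} A) [Module.Finite A M] (j : ℤ)
    (K : DerivedCategory (ModuleCat.{u} A)) (a : ℤ)
    (hKa : ∀ i : ℤ, i < a → IsZero ((homologyFunctor (ModuleCat.{u} A) i).obj K))
    (hK : ∀ i : ℤ, Module.Finite A ((homologyFunctor (ModuleCat.{u} A) i).obj K)) :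
    Module.Finite A ((singleFunctor (ModuleCat.{u} A) j).obj M ⟶ K) := by
  have hfin2 : Module.Finite A ((singleFunctor (ModuleCat.{u} A) j).obj M ⟶
      (tt.truncLT (j + 1)).obj K) := by
    apply finite_hom_single_of_bounded M j _ a j
    · intro i hi
      by_cases hij : i < j + 1
      · have j1 := isIso_homology_truncLTι (j + 1) i hij K
        rcases hi with hi | hi
        · exact (hKa i hi).of_iso (asIso ((homologyFunctor (ModuleCat.{u} A) i).map
            ((tt.truncLTι (j + 1)).app K)))
        · omega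
      · have hle : ((tt.truncLT (j + 1)).obj K).IsLE j := tt.isLE_truncLT_obj K (j + 1) j (by omega)
        exact isZero_of_isLE _ j i (by omega)
    · intro i
      by_cases hij : i < j + 1
      · have j1 := isIso_homology_truncLTι (j + 1) i hij K
        have : Module.Finite A ((homologyFunctor (ModuleCat.{u} A) i).obj
            ((𝟭 (DerivedCategory (ModuleCat.{u} A))).obj K)) := hK i
        exact Module.Finite.equiv (asIso ((homologyFunctor (ModuleCat.{u} A) i).map
            ((tt.truncLTι (j + 1)).app K))).symm.toLinearEquiv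
      · have hle : ((tt.truncLT (j + 1)).obj K).IsLE j := tt.isLE_truncLT_obj K (j + 1) j (by omega)
        have hz : IsZero ((homologyFunctor (ModuleCat.{u} A) i).obj ((tt.truncLT (j + 1)).obj K)) :=
          isZero_of_isLE _ j i (by omega)
        have := ModuleCat.subsingleton_of_isZero hz
        infer_instance
  refine Module.Finite.of_surjective
    (Linear.rightComp A ((singleFunctor (ModuleCat.{u} A) j).obj M) ((tt.truncLTι (j + 1)).app K)) ?_
  intro f
  have h0 : f ≫ (tt.truncGEπ (j + 1)).app K = 0 :=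
    tt.zero_of_isLE_of_isGE _ j (j + 1) (by omega) inferInstance inferInstance
  obtain ⟨g, hg⟩ := Triangle.coyoneda_exact₂ _ (tt.triangleLTGE_distinguished (j + 1) K) f h0
  exact ⟨g, hg.symm⟩

end Fin

section Semi

variable {A B : Type u} [CommRing A] [CommRing B] [Algebra A B]

/-- multiplication by `b` on `B` as a `B`-module endomorphism -/
noncomputable abbrev mB (b : B) : ModuleCat.of B B ⟶ ModuleCat.of B B := b • 𝟙 _

/-- multiplication by `a` on `B` as an `A`-module endomorphism -/
noncomputable abbrev mA (a : A) : ModuleCat.of A B ⟶ ModuleCat.of A B := a • 𝟙 _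

lemma restrict_mB (a : A) :
    (ModuleCat.restrictScalars.{u} (algebraMap A B)).map (mB (algebraMap A B a)) ≫
      (restrictSelfIso (A := A) (B := B)).hom = (restrictSelfIso (A := A) (B := B)).hom ≫ mA a := by
  apply ModuleCat.hom_ext
  apply LinearMap.ext
  intro x
  have h1 : ((mB (algebraMap A B a) : ModuleCat.of B B ⟶ ModuleCat.of B B).hom : B → B) =
      fun y => algebraMap A B a • y := by
    funext y
    simp [mB, Algebra.smul_def]
  have h2 : ((mA a : ModuleCat.of A B ⟶ ModuleCat.of A B).hom : B → B) = fun y => a • y := by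
    funext y
    simp [mA]
  change ((mB (algebraMap A B a) : ModuleCat.of B B ⟶ ModuleCat.of B B).hom : B → B) x =
    ((mA a : ModuleCat.of A B ⟶ ModuleCat.of A B).hom : B → B) x
  rw [h1, h2]
  exact (Algebra.smul_def (R := A) (A := B) a x).symm

lemma singleIso_naturality (a : A) :
    (DRing.restrictD (algebraMap A B)).map
        ((DerivedCategory.singleFunctor (ModuleCat.{u} B) 0).map (mB (algebraMap A B a))) ≫
      (singleIso (A := A) (B := B)).hom =
    (singleIso (A := A) (B := B)).hom ≫
      (DerivedCategory.singleFunctor (ModuleCat.{u} A) 0).map (mA a) := by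
  unfold singleIso
  have h1 := ((ModuleCat.restrictScalars.{u} (algebraMap A B)).mapDerivedCategorySingleFunctor
    0).hom.naturality (mB (algebraMap A B a))
  dsimp only [Functor.comp_map] at h1
  dsimp only [Iso.trans_hom, Iso.app_hom, Functor.mapIso_hom]
  rw [← Category.assoc, h1, Category.assoc, Category.assoc, ← Functor.map_comp, ← Functor.map_comp,
    restrict_mB]

lemma singleShiftIso_naturality (n : ℤ) (a : A) :
    (DRing.restrictD (algebraMap A B)).map
        ((shiftFunctor (Dual.D B) n).map
          ((DerivedCategory.singleFunctor (ModuleCat.{u} B) 0).map (mB (algebraMap A B a)))) ≫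
      (singleShiftIso (A := A) (B := B) n).hom =
    (singleShiftIso (A := A) (B := B) n).hom ≫
      (shiftFunctor (Dual.D A) n).map
        ((DerivedCategory.singleFunctor (ModuleCat.{u} A) 0).map (mA a)) := by
  unfold singleShiftIso
  have h1 := ((DRing.restrictD (algebraMap A B)).commShiftIso n).hom.naturality
    ((DerivedCategory.singleFunctor (ModuleCat.{u} B) 0).map (mB (algebraMap A B a)))
  dsimp only [Functor.comp_map] at h1
  dsimp only [Iso.trans_hom, Iso.app_hom, Functor.mapIso_hom]
  rw [← Category.assoc, h1, Category.assoc, Category.assoc, ← Functor.map_comp, ← Functor.map_comp,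
    singleIso_naturality]

end Semi

section Thm

variable {A B : Type u} [CommRing A] [CommRing B] [Algebra A B]
  (R : Dual.D A ⥤ Dual.D B) (adj : DRing.restrictD (algebraMap A B) ⊣ R) (K : Dual.D A) (i : ℤ)

/-- the comparison bijection -/
noncomputable def ψ : (Dual.inD B B ⟶ (R.obj K)⟦i⟧) ≃ ((Dual.inD A B)⟦-i⟧ ⟶ K) :=
  (shiftHomEquiv _ _ i).symm.trans ((adj.homEquiv _ _).symm.trans
      ((singleShiftIso (A := A) (B := B) (-i)).homFromEquiv (Z := K)))

lemma ψ_apply (g : Dual.inD B B ⟶ (R.obj K)⟦i⟧) :
    ψ R adj K i g = (singleShiftIso (A := A) (B := B) (-i)).inv ≫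
      (DRing.restrictD (algebraMap A B)).map ((shiftFunctor (Dual.D B) (-i)).map g ≫
        (shiftEquiv' (Dual.D B) (-i) i (neg_add_cancel i)).counit.app (R.obj K)) ≫
      adj.counit.app K := by
  unfold ψ shiftHomEquiv
  simp only [Equiv.trans_apply, Adjunction.homEquiv_counit, Iso.homFromEquiv_apply]
  rfl

lemma ψ_add (g g' : Dual.inD B B ⟶ (R.obj K)⟦i⟧) :
    ψ R adj K i (g + g') = ψ R adj K i g + ψ R adj K i g' := by
  rw [ψ_apply, ψ_apply, ψ_apply, Functor.map_add, Preadditive.add_comp, Functor.map_add,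
    Preadditive.add_comp, Preadditive.comp_add]

lemma ψ_smul (a : A) (g : Dual.inD B B ⟶ (R.obj K)⟦i⟧) :
    ψ R adj K i (algebraMap A B a • g) = a • ψ R adj K i g := by
  have h1 : algebraMap A B a • g =
      (DerivedCategory.singleFunctor (ModuleCat.{u} B) 0).map (mB (algebraMap A B a)) ≫ g := by
    rw [Functor.map_smul, CategoryTheory.Functor.map_id, Linear.smul_comp, Category.id_comp]
  have h2 : (shiftFunctor (Dual.D A) (-i)).map
      ((DerivedCategory.singleFunctor (ModuleCat.{u} A) 0).map (mA (B := B) a)) = a • 𝟙 _ := by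
    rw [Functor.map_smul, CategoryTheory.Functor.map_id, Functor.map_smul,
      CategoryTheory.Functor.map_id]
  have h3 := singleShiftIso_naturality (A := A) (B := B) (-i) a
  have h4 : (singleShiftIso (A := A) (B := B) (-i)).inv ≫
      (DRing.restrictD (algebraMap A B)).map
        ((shiftFunctor (Dual.D B) (-i)).map
          ((DerivedCategory.singleFunctor (ModuleCat.{u} B) 0).map (mB (algebraMap A B a)))) =
      (a • 𝟙 _) ≫ (singleShiftIso (A := A) (B := B) (-i)).inv := by
    rw [← h2, Iso.inv_comp_eq, ← Category.assoc, ← h3, Category.assoc, Iso.hom_inv_id,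
      Category.comp_id]
  have h5 : (DRing.restrictD (algebraMap A B)).map ((shiftFunctor (Dual.D B) (-i)).map
        ((DerivedCategory.singleFunctor (ModuleCat.{u} B) 0).map (mB (algebraMap A B a)) ≫ g) ≫
        (shiftEquiv' (Dual.D B) (-i) i (neg_add_cancel i)).counit.app (R.obj K)) =
      (DRing.restrictD (algebraMap A B)).map
        ((shiftFunctor (Dual.D B) (-i)).map
          ((DerivedCategory.singleFunctor (ModuleCat.{u} B) 0).map (mB (algebraMap A B a)))) ≫
      (DRing.restrictD (algebraMap A B)).map ((shiftFunctor (Dual.D B) (-i)).map g ≫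
        (shiftEquiv' (Dual.D B) (-i) i (neg_add_cancel i)).counit.app (R.obj K)) := by
    rw [← Functor.map_comp, ← Category.assoc, ← Functor.map_comp]
  rw [ψ_apply, ψ_apply, h1, h5, Category.assoc, ← Category.assoc, h4, Category.assoc,
    Linear.smul_comp, Category.id_comp]


/-- transfer of finiteness along a semilinear bijection -/
lemma finite_of_semilinear {HB HA : Type*} [AddCommGroup HB] [Module B HB] [AddCommGroup HA]
    [Module A HA] (ψ : HB ≃ HA) (hadd : ∀ g g', ψ (g + g') = ψ g + ψ g')
    (hsmul : ∀ (a : A) g, ψ (algebraMap A B a • g) = a • ψ g) [Module.Finite A HA] :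
    Module.Finite B HB := by
  letI : Module A HB := Module.compHom HB (algebraMap A B)
  haveI : IsScalarTower A B HB := ⟨fun a b x => by
    have h1 : (a • b) • x = (algebraMap A B a * b) • x := by rw [Algebra.smul_def]
    have h2 : a • (b • x) = algebraMap A B a • (b • x) := rfl
    rw [h1, h2, mul_smul]⟩
  let e : HB ≃ₗ[A] HA :=
    { ψ with
      map_add' := hadd
      map_smul' := fun a g => hsmul a g }
  haveI : Module.Finite A HB := Module.Finite.equiv e.symm
  exact Module.Finite.of_restrictScalars_finite A B HB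

include adj in
theorem finite_HD_rightAdjoint [IsNoetherianRing A] [IsNoetherianRing B] [Module.Finite A B]
    (a₀ : ℤ) (hKa : ∀ j : ℤ, j < a₀ → Subsingleton (Dual.HD A K j))
    (hK : ∀ j : ℤ, Module.Finite A (Dual.HD A K j)) :
    Module.Finite B (Dual.HD B (R.obj K) i) := by
  apply finite_HD_of_finite_hom
  have h1 : Module.Finite A ((DerivedCategory.singleFunctor (ModuleCat.{u} A) i).obj
      (ModuleCat.of A B) ⟶ K) :=
    finite_hom_single_of_boundedBelow (ModuleCat.of A B) i K a₀
      (fun j hj => by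
        haveI := hKa j hj
        exact ModuleCat.isZero_of_subsingleton _) hK
  let σ : (Dual.inD A B)⟦-i⟧ ≅ (DerivedCategory.singleFunctor (ModuleCat.{u} A) i).obj
      (ModuleCat.of A B) :=
    ((DerivedCategory.singleFunctors (ModuleCat.{u} A)).shiftIso (-i) i 0 (by omega)).app
      (ModuleCat.of A B)
  haveI h2 : Module.Finite A ((Dual.inD A B)⟦-i⟧ ⟶ K) := by
    refine Module.Finite.of_surjective (Linear.leftComp A K σ.hom) ?_
    intro f
    refine ⟨σ.inv ≫ f, ?_⟩
    change σ.hom ≫ σ.inv ≫ f = f
    rw [Iso.hom_inv_id_assoc]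
  exact finite_of_semilinear (ψ R adj K i) (ψ_add R adj K i) (fun a g => ψ_smul R adj K i a g)

end Thm

end Groth.Agent.Lib.H6xCoext
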