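import Mathlib
import Groth.Prelude.Def_Wider
import Groth.Agent.Lib.H6xCoextB
set_option backward.isDefEq.respectTransparency.types false

/-!
# Morphisms from modules to an object of `D(A)`: exact sequences (helper6)

For a short exact sequence `0 ⟶ X₁ ⟶ X₂ ⟶ X₃ ⟶ 0` of `A`-modules and `Y` in `D(A)`:
* `exists_of_comp_eq_zero` : exactness of `Hom(X₃, Y) ⟶ Hom(X₂, Y) ⟶ Hom(X₁, Y)`;
* `exists_extension` : if `Hom(X₃, Y⟦1⟧) = 0` then `Hom(X₂, Y) ⟶ Hom(X₁, Y)` is surjective;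
* `subsingleton_hom_mid` : if `Hom(X₁, Y) = 0 = Hom(X₃, Y)` then `Hom(X₂, Y) = 0`.
Also `subsingleton_HD_of_subsingleton_hom`: `Hom(A, K⟦q⟧) = 0` implies `H^q(K) = 0`.
-/

set_option autoImplicit false
set_option linter.style.haveILetI false
universe u

namespace Groth.Agent.Lib.H6xDual

open CategoryTheory CategoryTheory.Limits Category Pretriangulated DerivedCategory
attribute [local instance] HasDerivedCategory.standard

variable {A : Type u} [CommRing A]

/-- a module as an object of `D(A)` in degree `0` -/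
noncomputable abbrev sg (M : ModuleCat.{u} A) : Dual.D A :=
  (DerivedCategory.singleFunctor (ModuleCat.{u} A) 0).obj M

section SES

variable {S : ShortComplex (ModuleCat.{u} A)} (hS : S.ShortExact) (Y : Dual.D A)

include hS in
lemma exists_of_comp_eq_zero (f : sg S.X₂ ⟶ Y)
    (hf : (DerivedCategory.singleFunctor (ModuleCat.{u} A) 0).map S.f ≫ f = 0) :
    ∃ g : sg S.X₃ ⟶ Y, f = (DerivedCategory.singleFunctor (ModuleCat.{u} A) 0).map S.g ≫ g :=
  Triangle.yoneda_exact₂ _ hS.singleTriangle_distinguished f hf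

include hS in
lemma subsingleton_hom_mid (h₁ : Subsingleton (sg S.X₁ ⟶ Y)) (h₃ : Subsingleton (sg S.X₃ ⟶ Y)) :
    Subsingleton (sg S.X₂ ⟶ Y) := by
  have key : ∀ f : sg S.X₂ ⟶ Y, f = 0 := by
    intro f
    obtain ⟨g, hg⟩ := exists_of_comp_eq_zero hS Y f (Subsingleton.elim _ _)
    rw [hg, Subsingleton.elim g 0, comp_zero]
  exact ⟨fun f g => by rw [key f, key g]⟩

include hS in
lemma exists_extension (h₃ : Subsingleton (sg S.X₃ ⟶ Y⟦(1 : ℤ)⟧)) (f : sg S.X₁ ⟶ Y) :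
    ∃ g : sg S.X₂ ⟶ Y, f = (DerivedCategory.singleFunctor (ModuleCat.{u} A) 0).map S.f ≫ g := by
  have hT := inv_rot_of_distTriang _ hS.singleTriangle_distinguished
  have h0 : hS.singleTriangle.invRotate.mor₁ ≫ f = 0 := by
    have hsub : Subsingleton ((sg S.X₃)⟦(-1 : ℤ)⟧ ⟶ Y) :=
      (Groth.Agent.Lib.H6xCoext.shiftHomEquiv (sg S.X₃) Y 1).subsingleton_congr.2 h₃
    exact @Subsingleton.elim _ hsub _ _
  exact Triangle.yoneda_exact₂ _ hT f h0

end SES

/-- `Hom(A, K⟦q⟧) = 0` implies `H^q(K) = 0` -/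
theorem subsingleton_HD_of_subsingleton_hom (L : Dual.D A) (q : ℤ)
    (h : Subsingleton (Dual.inD A A ⟶ L⟦q⟧)) : Subsingleton (Dual.HD A L q) := by
  obtain ⟨E, hE, -, ⟨e⟩⟩ := Groth.Agent.Lib.H6xRGam.exists_kInj_iso L
  haveI := hE
  have h1 : Subsingleton (Groth.Agent.Lib.H6xRGam.SM (ModuleCat.of A A) ⟶
      (DerivedCategory.Q.obj E)⟦q⟧) := by
    refine ⟨fun ψ ψ' => ?_⟩
    have h2 : ψ ≫ (shiftFunctor (Dual.D A) q).map e.inv = ψ' ≫ (shiftFunctor (Dual.D A) q).map e.inv :=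
      h.elim _ _
    have h3 := congrArg (fun t => t ≫ (shiftFunctor (Dual.D A) q).map e.hom) h2
    simpa [← Functor.map_comp] using h3
  have h2 : Subsingleton (E.homology q) := by
    refine ⟨fun y y' => ?_⟩
    obtain ⟨z, rfl⟩ := Groth.Agent.Lib.H6xRGam.homologyπ_surjective' E q y
    obtain ⟨z', rfl⟩ := Groth.Agent.Lib.H6xRGam.homologyπ_surjective' E q y'
    rw [Groth.Agent.Lib.H6xCoext.homologyπ_eq_zero_of_evZ E q z (h1.elim _ _),
      Groth.Agent.Lib.H6xCoext.homologyπ_eq_zero_of_evZ E q z' (h1.elim _ _)]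
  exact (((DerivedCategory.homologyFunctor (ModuleCat.{u} A) q).mapIso e).toLinearEquiv.trans
      (Groth.Agent.Lib.H6xRGam.HDIso E q)).toEquiv.subsingleton

end Groth.Agent.Lib.H6xDual
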