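import Mathlib
import Groth.Prelude.Def_Wider
set_option backward.isDefEq.respectTransparency.types false

/-!
# Injective modules over Artinian local rings with `A = End(M)` (helper6)

`nonempty_linearEquiv_of_end_bijective`: over an Artinian local ring `A`, an injective module `M`
such that `A ⟶ End_A(M)` is bijective is isomorphic to any injective hull of the residue field.
-/

set_option autoImplicit false
set_option linter.style.haveILetI false
universe u

namespace Groth.Agent.Lib.H6xDual

open IsLocalRing

variable {A : Type u} [CommRing A] [IsLocalRing A]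

/-- over an Artinian local ring, a nonzero module has a nonzero element killed by the maximal
ideal -/
lemma exists_socle_element [IsArtinianRing A] (M : Type u) [AddCommGroup M] [Module A M]
    [Nontrivial M] : ∃ y : M, y ≠ 0 ∧ ∀ a ∈ maximalIdeal A, a • y = 0 := by
  obtain ⟨x, hx⟩ := exists_ne (0 : M)
  obtain ⟨n₀, hn₀⟩ : IsNilpotent (maximalIdeal A) := by
    have h := IsArtinianRing.isNilpotent_jacobson_bot (R := A)
    rwa [IsLocalRing.jacobson_eq_maximalIdeal ⊥ bot_ne_top] at h
  have hex : ∃ n : ℕ, ∀ a ∈ maximalIdeal A ^ n, a • x = 0 :=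
    ⟨n₀, fun a ha => by
      rw [hn₀] at ha
      have : a = 0 := ha
      rw [this, zero_smul]⟩
  classical
  let n := Nat.find hex
  have hn : ∀ a ∈ maximalIdeal A ^ n, a • x = 0 := Nat.find_spec hex
  have hn0 : n ≠ 0 := by
    intro h0
    apply hx
    have := hn 1 (by rw [h0, pow_zero, Ideal.one_eq_top]; exact Submodule.mem_top)
    rwa [one_smul] at this
  obtain ⟨k, hk⟩ := Nat.exists_eq_succ_of_ne_zero hn0
  have hkn : ¬ ∀ a ∈ maximalIdeal A ^ k, a • x = 0 := Nat.find_min hex (by omega)
  push Not at hkn
  obtain ⟨a, ha, hax⟩ := hkn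
  refine ⟨a • x, hax, fun b hb => ?_⟩
  rw [smul_smul]
  apply hn
  rw [hk, pow_succ']
  exact Ideal.mul_mem_mul hb ha

theorem nonempty_linearEquiv_of_end_bijective [IsArtinianRing A]
    (M : Type u) [AddCommGroup M] [Module A M] [Module.Injective A M]
    (hend : Function.Bijective (fun a : A => (a • LinearMap.id : M →ₗ[A] M)))
    (E : Type u) [AddCommGroup E] [Module A E] (f : ResidueField A →ₗ[A] E)
    (hf : InjHull.IsInjectiveHull f) : Nonempty (E ≃ₗ[A] M) := by
  haveI : Nontrivial M := by
    by_contra hM
    rw [not_nontrivial_iff_subsingleton] at hM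
    have h1 : (fun a : A => (a • LinearMap.id : M →ₗ[A] M)) 1 =
        (fun a : A => (a • LinearMap.id : M →ₗ[A] M)) 0 := by
      refine LinearMap.ext (fun x => ?_)
      exact Subsingleton.elim (α := M) _ _
    exact one_ne_zero (hend.1 h1)
  obtain ⟨y, hy0, hy⟩ := exists_socle_element (A := A) M
  -- the map `k ⟶ M`
  let g : ResidueField A →ₗ[A] M :=
    Submodule.liftQ (maximalIdeal A) (LinearMap.toSpanSingleton A M y) (fun a ha => by
      rw [LinearMap.mem_ker, LinearMap.toSpanSingleton_apply]
      exact hy a ha)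
  have hg : ∀ a : A, g (Ideal.Quotient.mk _ a) = a • y := fun a => by
    change (Submodule.liftQ (maximalIdeal A) (LinearMap.toSpanSingleton A M y) _)
      (Submodule.Quotient.mk a) = _
    rw [Submodule.liftQ_apply, LinearMap.toSpanSingleton_apply]
  have hginj : Function.Injective g := by
    rw [injective_iff_map_eq_zero]
    intro c hc
    obtain ⟨a, rfl⟩ := Ideal.Quotient.mk_surjective c
    rw [hg] at hc
    by_contra hne
    have ha : a ∉ maximalIdeal A := fun h => hne (Ideal.Quotient.eq_zero_iff_mem.2 h)
    have hu : IsUnit a := by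
      by_contra hnu
      exact ha ((IsLocalRing.mem_maximalIdeal a).2 hnu)
    obtain ⟨u, rfl⟩ := hu
    apply hy0
    have := congrArg (fun t => (↑u⁻¹ : A) • t) hc
    simpa [smul_smul] using this
  -- extend to `E`
  haveI := hf.isInjective
  obtain ⟨h, hh⟩ := Module.Injective.out f hf.injective g
  have hhinj : Function.Injective h := by
    rw [← LinearMap.ker_eq_bot]
    by_contra hne
    have h1 := hf.essential _ hne
    apply h1
    rw [eq_bot_iff]
    rintro z ⟨hz1, ⟨c, rfl⟩⟩
    have hz1' : h (f c) = 0 := hz1
    rw [hh] at hz1'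
    have : c = 0 := hginj (by rw [hz1', map_zero])
    rw [this, map_zero]
    exact Submodule.zero_mem _
  -- retraction
  obtain ⟨r, hr⟩ := Module.Injective.out h hhinj (LinearMap.id : E →ₗ[A] E)
  let p : M →ₗ[A] M := h ∘ₗ r
  have hpp : p ∘ₗ p = p := by
    apply LinearMap.ext
    intro x
    change h (r (h (r x))) = h (r x)
    rw [hr]
    rfl
  obtain ⟨a, ha⟩ := hend.2 p
  have ha : (a • LinearMap.id : M →ₗ[A] M) = p := ha
  have haa : a * a = a := by
    apply hend.1
    change ((a * a) • LinearMap.id : M →ₗ[A] M) = a • LinearMap.id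
    rw [ha, ← hpp, ← ha]
    apply LinearMap.ext
    intro x
    simp [mul_smul]
  have ha01 : a = 0 ∨ a = 1 := by
    rcases IsLocalRing.isUnit_or_isUnit_one_sub_self a with hu | hu
    · right
      obtain ⟨u, rfl⟩ := hu
      have := congrArg (fun t => (↑u⁻¹ : A) * t) haa
      simpa [← mul_assoc] using this
    · left
      obtain ⟨u, hu⟩ := hu
      have h1 : (1 - a) * a = 0 := by rw [sub_mul, one_mul, haa, sub_self]
      rw [← hu] at h1
      have := congrArg (fun t => (↑u⁻¹ : A) * t) h1
      simpa [← mul_assoc] using this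
  rcases ha01 with rfl | rfl
  · exfalso
    apply hy0
    have h1 : p = 0 := by rw [← ha, zero_smul]
    have h2 : h (f (Ideal.Quotient.mk _ 1)) = p (h (f (Ideal.Quotient.mk _ 1))) := by
      change _ = h (r (h _))
      rw [hr]
      rfl
    rw [h1, LinearMap.zero_apply, hh, hg, one_smul] at h2
    exact h2
  · have hsurj : Function.Surjective h := by
      intro x
      refine ⟨r x, ?_⟩
      have h1 : p x = x := by rw [← ha, one_smul]; rfl
      exact h1
    exact ⟨LinearEquiv.ofBijective h ⟨hhinj, hsurj⟩⟩

end Groth.Agent.Lib.H6xDual
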