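import Mathlib
import Groth.Agent.Lib.H6xDualA
import Groth.Agent.Lib.H6xDualB
set_option backward.isDefEq.respectTransparency.types false

/-!
# Dualizing complexes over zero-dimensional local rings (helper6)

* `subsingleton_hom_of_isFiniteLength`: dévissage over finite length modules;
* `exists_iso_sg_of_HD`: an object with cohomology only in degree `0` is a module;
* `injective_of_subsingleton_hom_shift_one`: `Ext¹(A/I, M) = 0` for all ideals implies `M`
  injective;
* `dualizing_dim_zero`: the main theorem.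
-/

set_option autoImplicit false
set_option linter.style.haveILetI false
universe u

namespace Groth.Agent.Lib.H6xDual

open CategoryTheory CategoryTheory.Limits Category Pretriangulated DerivedCategory
attribute [local instance] HasDerivedCategory.standard

variable {A : Type u} [CommRing A]

/-- the short exact sequence `0 ⟶ N ⟶ M ⟶ M/N ⟶ 0` -/
noncomputable abbrev subSES {M : Type u} [AddCommGroup M] [Module A M] (N : Submodule A M) :
    ShortComplex (ModuleCat.{u} A) :=
  ModuleCat.shortComplexOfCompEqZero N.subtype N.mkQ (by ext x; simp)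

lemma subSES_shortExact {M : Type u} [AddCommGroup M] [Module A M] (N : Submodule A M) :
    (subSES N).ShortExact :=
  ModuleCat.shortComplex_shortExact _ (LinearMap.exact_subtype_mkQ N) N.injective_subtype
    N.mkQ_surjective

lemma subsingleton_hom_of_linearEquiv {M N : Type u} [AddCommGroup M] [Module A M]
    [AddCommGroup N] [Module A N] (e : M ≃ₗ[A] N) (K : Dual.D A)
    (h : Subsingleton (Dual.inD A N ⟶ K)) : Subsingleton (Dual.inD A M ⟶ K) :=
  (((DerivedCategory.singleFunctor (ModuleCat.{u} A) 0).mapIso e.toModuleIso).homFromEquiv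
    (Z := K)).subsingleton_congr.2 h

theorem subsingleton_hom_of_isFiniteLength [IsLocalRing A] (K : Dual.D A)
    (hk : Subsingleton (Dual.inD A (IsLocalRing.ResidueField A) ⟶ K))
    (M : Type u) [AddCommGroup M] [Module A M] (hM : IsFiniteLength A M) :
    Subsingleton (Dual.inD A M ⟶ K) := by
  induction hM with
  | of_subsingleton =>
    rename_i M _ _ _
    have hz : IsZero (ModuleCat.of A M) := ModuleCat.isZero_of_subsingleton _
    have hz' : IsZero (Dual.inD A M) := Functor.map_isZero _ hz
    exact ⟨fun f g => hz'.eq_of_src f g⟩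
  | of_simple_quotient hN ih =>
    rename_i M _ _ N hs
    obtain ⟨I, hI, ⟨e⟩⟩ := isSimpleModule_iff_quot_maximal.1 hs
    have hIm : I = IsLocalRing.maximalIdeal A := IsLocalRing.eq_maximalIdeal hI
    subst hIm
    have h3 : Subsingleton (sg (subSES N).X₃ ⟶ K) := subsingleton_hom_of_linearEquiv e K hk
    exact subsingleton_hom_mid (subSES_shortExact N) K ih h3

theorem exists_iso_sg_of_HD (K : Dual.D A)
    (h : ∀ i : ℤ, i ≠ 0 → Subsingleton (Dual.HD A K i)) :
    ∃ M : ModuleCat.{u} A, Nonempty (K ≅ sg M) := by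
  haveI : K.IsGE 0 := by
    rw [DerivedCategory.isGE_iff]
    intro i hi
    haveI := h i (by omega)
    exact ModuleCat.isZero_of_subsingleton _
  haveI : K.IsLE 0 := by
    rw [DerivedCategory.isLE_iff]
    intro i hi
    haveI := h i (by omega)
    exact ModuleCat.isZero_of_subsingleton _
  exact DerivedCategory.exists_iso_singleFunctor_obj_of_isGE_of_isLE K 0

/-- the short exact sequence `0 ⟶ I ⟶ A ⟶ A/I ⟶ 0` -/
theorem injective_of_subsingleton_hom_shift_one (M : ModuleCat.{u} A)
    (h : ∀ I : Ideal A, Subsingleton (Dual.inD A (A ⧸ I) ⟶ (sg M)⟦(1 : ℤ)⟧)) :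
    Module.Injective A M := by
  apply Module.Baer.injective
  intro I g
  have hS := subSES_shortExact (M := A) I
  obtain ⟨g'', hg''⟩ := exists_extension hS (sg M) (h I)
    ((DerivedCategory.singleFunctor (ModuleCat.{u} A) 0).map (ModuleCat.ofHom g))
  obtain ⟨g', rfl⟩ := (DerivedCategory.singleFunctor (ModuleCat.{u} A) 0).map_surjective g''
  rw [← Functor.map_comp] at hg''
  have h1 := (DerivedCategory.singleFunctor (ModuleCat.{u} A) 0).map_injective hg''
  refine ⟨g'.hom, fun x hx => ?_⟩
  have h2 := congrArg (fun t => t.hom ⟨x, hx⟩) h1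
  exact h2.symm

/-- transfer of `A ≃ End` from an object of `D(A)` to the module it is isomorphic to -/
lemma end_bijective_of_iso {K : Dual.D A} {M : ModuleCat.{u} A} (e : K ≅ sg M)
    (h : Function.Bijective (fun a : A => a • 𝟙 K)) :
    Function.Bijective (fun a : A => (a • LinearMap.id : M →ₗ[A] M)) := by
  let F := DerivedCategory.singleFunctor (ModuleCat.{u} A) 0
  have hF : ∀ a : A, a • 𝟙 (sg M) = F.map (a • 𝟙 M) := fun a => by
    rw [Functor.map_smul, CategoryTheory.Functor.map_id]
  have hconj : ∀ a : A, a • 𝟙 K = e.hom ≫ (a • 𝟙 (sg M)) ≫ e.inv := fun a => by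
    rw [Linear.smul_comp, Linear.comp_smul, id_comp, e.hom_inv_id]
  have hhom : ∀ a : A, (a • 𝟙 M : M ⟶ M).hom = a • LinearMap.id := fun a => rfl
  constructor
  · intro a b hab
    apply h.1
    change a • 𝟙 K = b • 𝟙 K
    rw [hconj, hconj, hF, hF]
    have h1 : (a • 𝟙 M : M ⟶ M) = b • 𝟙 M := by
      apply ModuleCat.hom_ext
      rw [hhom, hhom]
      exact hab
    rw [h1]
  · intro p
    obtain ⟨a, ha⟩ := h.2 (e.hom ≫ F.map (ModuleCat.ofHom p) ≫ e.inv)
    refine ⟨a, ?_⟩
    have ha : a • 𝟙 K = e.hom ≫ F.map (ModuleCat.ofHom p) ≫ e.inv := ha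
    rw [hconj, hF] at ha
    have h1 : F.map (a • 𝟙 M) = F.map (ModuleCat.ofHom p) := by
      have h2 := congrArg (fun t => e.inv ≫ t ≫ e.hom) ha
      simpa using h2
    have h2 := F.map_injective h1
    have h3 := congrArg (fun t : M ⟶ M => t.hom) h2
    exact h3

open IsLocalRing in
/-- **Dualizing complexes in dimension zero**: over a Noetherian local ring of dimension `0`, a
normalized dualizing complex is an injective hull of the residue field in degree `0`. -/
theorem dualizing_dim_zero (A : Type u) [CommRing A] [IsLocalRing A] [IsNoetherianRing A]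
    (h0 : ringKrullDim A = 0) (ω : Dual.D A) (hω : Dual.IsDualizing A ω)
    (hn : Dual.IsNormalized A ω) (E : Type u) [AddCommGroup E] [Module A E]
    (f : ResidueField A →ₗ[A] E) (hf : InjHull.IsInjectiveHull f) :
    Nonempty (ω ≅ Dual.inD A E) := by
  haveI : Ring.KrullDimLE 0 A := Ring.krullDimLE_iff.2 (by rw [h0]; rfl)
  haveI : IsArtinianRing A :=
    isArtinianRing_iff_isNoetherianRing_krullDimLE_zero.2 ⟨inferInstance, inferInstance⟩
  have hfl : ∀ (M : Type u) [AddCommGroup M] [Module A M] [Module.Finite A M],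
      IsFiniteLength A M := fun M _ _ _ =>
    isFiniteLength_iff_isNoetherian_isArtinian.2 ⟨inferInstance, inferInstance⟩
  have hvan : ∀ (M : Type u) [AddCommGroup M] [Module A M] [Module.Finite A M] (i : ℤ), i ≠ 0 →
      Subsingleton (Dual.inD A M ⟶ ω⟦i⟧) := fun M _ _ _ i hi =>
    subsingleton_hom_of_isFiniteLength (ω⟦i⟧) (hn i hi) M (hfl M)
  obtain ⟨M, ⟨e⟩⟩ := exists_iso_sg_of_HD ω
    (fun i hi => subsingleton_HD_of_subsingleton_hom ω i (hvan A i hi))
  haveI : Module.Injective A M := by
    apply injective_of_subsingleton_hom_shift_one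
    intro I
    have h1 := hvan (A ⧸ I) 1 one_ne_zero
    exact (((shiftFunctor (Dual.D A) (1 : ℤ)).mapIso e).homToEquiv
      (Z := Dual.inD A (A ⧸ I))).symm.subsingleton_congr.2 h1
  have hend := end_bijective_of_iso e hω.toEnd_bijective
  obtain ⟨eM⟩ := nonempty_linearEquiv_of_end_bijective M hend E f hf
  exact ⟨e ≪≫ (DerivedCategory.singleFunctor (ModuleCat.{u} A) 0).mapIso eM.symm.toModuleIso⟩

end Groth.Agent.Lib.H6xDual
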