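import Mathlib
import Groth.Prelude.Def_DRing3
import Groth.Agent.Lib.H6xCoextB
set_option backward.isDefEq.respectTransparency.types false

/-!
# Adjunction bijection for the right adjoint of restriction of scalars (helper6)

For `R` right adjoint to `restrictD : D(B) ⥤ D(A)`, a `B`-module `N`, `K` in `D(A)`:
`ψN : (N[0] ⟶ (R K)⟦i⟧) ≃ ((N_A)[0] ⟶ K⟦i⟧)`, additive and semilinear over `A ⟶ B`.
-/

set_option autoImplicit false
set_option linter.style.haveILetI false
universe u
open CategoryTheory CategoryTheory.Limits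
attribute [local instance] HasDerivedCategory.standard

namespace Groth.Agent.Lib.H6xDual

open Groth.Agent.Lib.H6xCoext

variable {A B : Type u} [CommRing A] [CommRing B] [Algebra A B]

section Semi

variable (N : ModuleCat.{u} B)

/-- `N` as an `A`-module -/
noncomputable abbrev rN : ModuleCat.{u} A := (ModuleCat.restrictScalars.{u} (algebraMap A B)).obj N

lemma restrict_smul (a : A) :
    (ModuleCat.restrictScalars.{u} (algebraMap A B)).map (algebraMap A B a • 𝟙 N) =
      a • 𝟙 (rN (A := A) N) := by
  apply ModuleCat.hom_ext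
  apply LinearMap.ext
  intro x
  rfl

noncomputable def singleIsoN :
    (DRing.restrictD (algebraMap A B)).obj (Dual.inD B N) ≅
      (DerivedCategory.singleFunctor (ModuleCat.{u} A) 0).obj (rN (A := A) N) :=
  ((ModuleCat.restrictScalars.{u} (algebraMap A B)).mapDerivedCategorySingleFunctor 0).app N

noncomputable def singleShiftIsoN (n : ℤ) :
    (DRing.restrictD (algebraMap A B)).obj ((Dual.inD B N)⟦n⟧) ≅
      ((DerivedCategory.singleFunctor (ModuleCat.{u} A) 0).obj (rN (A := A) N))⟦n⟧ :=
  ((DRing.restrictD (algebraMap A B)).commShiftIso n).app _ ≪≫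
    (shiftFunctor (Dual.D A) n).mapIso (singleIsoN N)

lemma singleIsoN_naturality (a : A) :
    (DRing.restrictD (algebraMap A B)).map
        ((DerivedCategory.singleFunctor (ModuleCat.{u} B) 0).map (algebraMap A B a • 𝟙 N)) ≫
      (singleIsoN (A := A) N).hom =
    (singleIsoN (A := A) N).hom ≫
      (DerivedCategory.singleFunctor (ModuleCat.{u} A) 0).map (a • 𝟙 (rN (A := A) N)) := by
  unfold singleIsoN
  have h1 := ((ModuleCat.restrictScalars.{u} (algebraMap A B)).mapDerivedCategorySingleFunctor
    0).hom.naturality (algebraMap A B a • 𝟙 N)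
  dsimp only [Functor.comp_map] at h1
  dsimp only [Iso.app_hom]
  rw [h1, restrict_smul]

lemma singleShiftIsoN_naturality (n : ℤ) (a : A) :
    (DRing.restrictD (algebraMap A B)).map
        ((shiftFunctor (Dual.D B) n).map
          ((DerivedCategory.singleFunctor (ModuleCat.{u} B) 0).map (algebraMap A B a • 𝟙 N))) ≫
      (singleShiftIsoN (A := A) N n).hom =
    (singleShiftIsoN (A := A) N n).hom ≫
      (shiftFunctor (Dual.D A) n).map
        ((DerivedCategory.singleFunctor (ModuleCat.{u} A) 0).map (a • 𝟙 (rN (A := A) N))) := by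
  unfold singleShiftIsoN
  have h1 := ((DRing.restrictD (algebraMap A B)).commShiftIso n).hom.naturality
    ((DerivedCategory.singleFunctor (ModuleCat.{u} B) 0).map (algebraMap A B a • 𝟙 N))
  dsimp only [Functor.comp_map] at h1
  dsimp only [Iso.trans_hom, Iso.app_hom, Functor.mapIso_hom]
  rw [← Category.assoc, h1, Category.assoc, Category.assoc, ← Functor.map_comp, ← Functor.map_comp,
    singleIsoN_naturality]

end Semi

section Thm

variable (R : Dual.D A ⥤ Dual.D B) (adj : DRing.restrictD (algebraMap A B) ⊣ R)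
  (N : ModuleCat.{u} B) (K : Dual.D A) (i : ℤ)

/-- the comparison bijection -/
noncomputable def ψN : (Dual.inD B N ⟶ (R.obj K)⟦i⟧) ≃
    (((DerivedCategory.singleFunctor (ModuleCat.{u} A) 0).obj (rN (A := A) N))⟦-i⟧ ⟶ K) :=
  (shiftHomEquiv _ _ i).symm.trans ((adj.homEquiv _ _).symm.trans
      ((singleShiftIsoN (A := A) N (-i)).homFromEquiv (Z := K)))

lemma ψN_apply (g : Dual.inD B N ⟶ (R.obj K)⟦i⟧) :
    ψN R adj N K i g = (singleShiftIsoN (A := A) N (-i)).inv ≫
      (DRing.restrictD (algebraMap A B)).map ((shiftFunctor (Dual.D B) (-i)).map g ≫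
        (shiftEquiv' (Dual.D B) (-i) i (neg_add_cancel i)).counit.app (R.obj K)) ≫
      adj.counit.app K := by
  unfold ψN shiftHomEquiv
  simp only [Equiv.trans_apply, Adjunction.homEquiv_counit, Iso.homFromEquiv_apply]
  rfl

lemma ψN_add (g g' : Dual.inD B N ⟶ (R.obj K)⟦i⟧) :
    ψN R adj N K i (g + g') = ψN R adj N K i g + ψN R adj N K i g' := by
  rw [ψN_apply, ψN_apply, ψN_apply, Functor.map_add, Preadditive.add_comp, Functor.map_add,
    Preadditive.add_comp, Preadditive.comp_add]

lemma ψN_zero : ψN R adj N K i 0 = 0 := by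
  have := ψN_add R adj N K i 0 0
  rw [add_zero] at this
  exact left_eq_add.mp this

lemma ψN_smul (a : A) (g : Dual.inD B N ⟶ (R.obj K)⟦i⟧) :
    ψN R adj N K i (algebraMap A B a • g) = a • ψN R adj N K i g := by
  have h1 : algebraMap A B a • g =
      (DerivedCategory.singleFunctor (ModuleCat.{u} B) 0).map (algebraMap A B a • 𝟙 N) ≫ g := by
    rw [Functor.map_smul, CategoryTheory.Functor.map_id, Linear.smul_comp, Category.id_comp]
  have h2 : (shiftFunctor (Dual.D A) (-i)).map
      ((DerivedCategory.singleFunctor (ModuleCat.{u} A) 0).map (a • 𝟙 (rN (A := A) N))) =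
        a • 𝟙 _ := by
    rw [Functor.map_smul, CategoryTheory.Functor.map_id, Functor.map_smul,
      CategoryTheory.Functor.map_id]
  have h3 := singleShiftIsoN_naturality (A := A) N (-i) a
  have h4 : (singleShiftIsoN (A := A) N (-i)).inv ≫
      (DRing.restrictD (algebraMap A B)).map
        ((shiftFunctor (Dual.D B) (-i)).map
          ((DerivedCategory.singleFunctor (ModuleCat.{u} B) 0).map (algebraMap A B a • 𝟙 N))) =
      (a • 𝟙 _) ≫ (singleShiftIsoN (A := A) N (-i)).inv := by
    rw [← h2, Iso.inv_comp_eq, ← Category.assoc, ← h3, Category.assoc, Iso.hom_inv_id,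
      Category.comp_id]
  have h5 : (DRing.restrictD (algebraMap A B)).map ((shiftFunctor (Dual.D B) (-i)).map
        ((DerivedCategory.singleFunctor (ModuleCat.{u} B) 0).map (algebraMap A B a • 𝟙 N) ≫ g) ≫
        (shiftEquiv' (Dual.D B) (-i) i (neg_add_cancel i)).counit.app (R.obj K)) =
      (DRing.restrictD (algebraMap A B)).map
        ((shiftFunctor (Dual.D B) (-i)).map
          ((DerivedCategory.singleFunctor (ModuleCat.{u} B) 0).map (algebraMap A B a • 𝟙 N))) ≫
      (DRing.restrictD (algebraMap A B)).map ((shiftFunctor (Dual.D B) (-i)).map g ≫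
        (shiftEquiv' (Dual.D B) (-i) i (neg_add_cancel i)).counit.app (R.obj K)) := by
    rw [← Functor.map_comp, ← Category.assoc, ← Functor.map_comp]
  rw [ψN_apply, ψN_apply, h1, h5, Category.assoc, ← Category.assoc, h4, Category.assoc,
    Linear.smul_comp, Category.id_comp]

end Thm

end Groth.Agent.Lib.H6xDual
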