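import Mathlib
import Groth.Agent.Lib.H6xDualD
set_option backward.isDefEq.respectTransparency.types false

/-!
# The dimension function of `RHom(B, ω)` for a surjection `A ⟶ B` (helper6)
-/

set_option autoImplicit false
set_option linter.style.haveILetI false
universe u
open CategoryTheory CategoryTheory.Limits
attribute [local instance] HasDerivedCategory.standard

namespace Groth.Agent.Lib.H6xDual

open Groth.Agent.Lib.H6xCoext

section Loc

variable {A B : Type u} [CommRing A] [CommRing B] [Algebra A B]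

/-- transfer of nontriviality of localizations along a semilinear bijection -/
lemma nontrivial_localizedModule_iff {HB HA : Type*} [AddCommGroup HB] [Module B HB]
    [AddCommGroup HA] [Module A HA] (ψ : HB ≃ HA) (h0 : ψ 0 = 0)
    (hsmul : ∀ (a : A) g, ψ (algebraMap A B a • g) = a • ψ g)
    (hs : Function.Surjective (algebraMap A B)) (q : Ideal B) [q.IsPrime] :
    Nontrivial (LocalizedModule q.primeCompl HB) ↔
      Nontrivial (LocalizedModule (q.comap (algebraMap A B)).primeCompl HA) := by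
  rw [← not_subsingleton_iff_nontrivial, ← not_subsingleton_iff_nontrivial,
    LocalizedModule.subsingleton_iff, LocalizedModule.subsingleton_iff]
  apply not_congr
  constructor
  · intro h m
    obtain ⟨r, hr, hrm⟩ := h (ψ.symm m)
    obtain ⟨a, rfl⟩ := hs r
    refine ⟨a, hr, ?_⟩
    have := hsmul a (ψ.symm m)
    rw [hrm, h0, Equiv.apply_symm_apply] at this
    exact this.symm
  · intro h m
    obtain ⟨a, ha, ham⟩ := h (ψ m)
    refine ⟨algebraMap A B a, ha, ?_⟩
    apply ψ.injective
    rw [hsmul, ham, h0]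

end Loc

section Gen

lemma homEquiv_smul_gen {A : Type*} [CommRing A] {C D : Type*} [Category C] [Category D]
    [Preadditive C] [Preadditive D] [Linear A C] [Linear A D] {F : C ⥤ D} {G : D ⥤ C}
    (adj : F ⊣ G) [G.Additive] [G.Linear A] (X : C) (Y : D) (a : A) (f : F.obj X ⟶ Y) :
    adj.homEquiv X Y (a • f) = a • adj.homEquiv X Y f := by
  rw [Adjunction.homEquiv_unit, Adjunction.homEquiv_unit, Functor.map_smul, Linear.comp_smul]

lemma homEquiv_zero_gen {C D : Type*} [Category C] [Category D] [Preadditive C] [Preadditive D]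
    {F : C ⥤ D} {G : D ⥤ C} (adj : F ⊣ G) [G.Additive] (X : C) (Y : D) :
    adj.homEquiv X Y (0 : F.obj X ⟶ Y) = 0 := by
  rw [Adjunction.homEquiv_unit, Functor.map_zero, comp_zero]

variable {A : Type u} [CommRing A]

lemma shiftHomEquiv_smul (X Y : Dual.D A) (n : ℤ) (a : A) (f : X⟦-n⟧ ⟶ Y) :
    shiftHomEquiv X Y n (a • f) = a • shiftHomEquiv X Y n f := by
  letI : (shiftEquiv' (Dual.D A) (-n) n (neg_add_cancel n)).inverse.Additive :=
    inferInstanceAs (shiftFunctor (Dual.D A) n).Additive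
  letI : (shiftEquiv' (Dual.D A) (-n) n (neg_add_cancel n)).inverse.Linear A :=
    inferInstanceAs ((shiftFunctor (Dual.D A) n).Linear A)
  exact homEquiv_smul_gen (shiftEquiv' (Dual.D A) (-n) n (neg_add_cancel n)).toAdjunction X Y a f

lemma shiftHomEquiv_zero (X Y : Dual.D A) (n : ℤ) :
    shiftHomEquiv X Y n (0 : X⟦-n⟧ ⟶ Y) = 0 := by
  letI : (shiftEquiv' (Dual.D A) (-n) n (neg_add_cancel n)).inverse.Additive :=
    inferInstanceAs (shiftFunctor (Dual.D A) n).Additive
  exact homEquiv_zero_gen (shiftEquiv' (Dual.D A) (-n) n (neg_add_cancel n)).toAdjunction X Y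

end Gen

section Main

variable {A B : Type u} [CommRing A] [CommRing B] [Algebra A B]
  (R : Dual.D A ⥤ Dual.D B) (adj : DRing.restrictD (algebraMap A B) ⊣ R)
  (N : ModuleCat.{u} B) (M' : ModuleCat.{u} A) (e : M' ≅ rN (A := A) N) (K : Dual.D A) (i : ℤ)

/-- the full comparison bijection -/
noncomputable def Φ : (Dual.inD B N ⟶ (R.obj K)⟦i⟧) ≃
    ((DerivedCategory.singleFunctor (ModuleCat.{u} A) 0).obj M' ⟶ K⟦i⟧) :=
  (ψN R adj N K i).trans ((shiftHomEquiv _ K i).trans
    (((DerivedCategory.singleFunctor (ModuleCat.{u} A) 0).mapIso e).homFromEquiv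
      (Z := K⟦i⟧)).symm)

lemma Φ_apply (g : Dual.inD B N ⟶ (R.obj K)⟦i⟧) :
    Φ R adj N M' e K i g =
      (DerivedCategory.singleFunctor (ModuleCat.{u} A) 0).map e.hom ≫
        shiftHomEquiv _ K i (ψN R adj N K i g) := by
  rfl

lemma Φ_zero : Φ R adj N M' e K i 0 = 0 := by
  rw [Φ_apply, ψN_zero, shiftHomEquiv_zero, comp_zero]

lemma Φ_smul (a : A) (g : Dual.inD B N ⟶ (R.obj K)⟦i⟧) :
    Φ R adj N M' e K i (algebraMap A B a • g) = a • Φ R adj N M' e K i g := by
  rw [Φ_apply, Φ_apply, ψN_smul, shiftHomEquiv_smul, Linear.comp_smul]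

end Main

section Quot

variable {A B : Type u} [CommRing A] [CommRing B] [Algebra A B]

/-- `A/φ⁻¹(q) ≅ B/q` as `A`-modules, for `φ` surjective -/
noncomputable def quotLinearEquiv (hs : Function.Surjective (algebraMap A B)) (q : Ideal B) :
    (A ⧸ q.comap (algebraMap A B)) ≃ₗ[A] (rN (A := A) (ModuleCat.of B (B ⧸ q))) := by
  let f : A →ₗ[A] (rN (A := A) (ModuleCat.of B (B ⧸ q))) :=
    { toFun := fun a => (Ideal.Quotient.mk q (algebraMap A B a) : B ⧸ q)
      map_add' := fun a b => by
        rw [map_add, map_add]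
        rfl
      map_smul' := fun a b => by
        rw [smul_eq_mul, map_mul, map_mul]
        rfl }
  have hf : Function.Surjective f := by
    intro y
    obtain ⟨b, rfl⟩ := Ideal.Quotient.mk_surjective (I := q) y
    obtain ⟨a, rfl⟩ := hs b
    exact ⟨a, rfl⟩
  have hker : LinearMap.ker f = q.comap (algebraMap A B) := by
    ext a
    rw [LinearMap.mem_ker, Ideal.mem_comap]
    exact Ideal.Quotient.eq_zero_iff_mem
  exact (Submodule.quotEquivOfEq _ _ hker.symm).trans (f.quotKerEquivOfSurjective hf)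

end Quot

/-- **S8970** -/
theorem delta_rightAdjoint (A B : Type u) [CommRing A] [CommRing B] [Algebra A B]
    (hs : Function.Surjective (algebraMap A B)) (R : Dual.D A ⥤ Dual.D B)
    (adj : DRing.restrictD (algebraMap A B) ⊣ R) (ω : Dual.D A) (q : PrimeSpectrum B) (i : ℤ) :
    Nontrivial (LocalizedModule q.asIdeal.primeCompl
        (Dual.inD B (B ⧸ q.asIdeal) ⟶ (R.obj ω)⟦i⟧)) ↔
      Nontrivial (LocalizedModule (q.asIdeal.comap (algebraMap A B)).primeCompl
        (Dual.inD A (A ⧸ q.asIdeal.comap (algebraMap A B)) ⟶ ω⟦i⟧)) :=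
  nontrivial_localizedModule_iff
    (Φ R adj (ModuleCat.of B (B ⧸ q.asIdeal))
      (ModuleCat.of A (A ⧸ q.asIdeal.comap (algebraMap A B)))
      (quotLinearEquiv hs q.asIdeal).toModuleIso ω i)
    (Φ_zero _ _ _ _ _ _ _) (fun a g => Φ_smul _ _ _ _ _ _ _ a g) hs q.asIdeal

end Groth.Agent.Lib.H6xDual
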