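import Mathlib
import Groth.Agent.Lib.H6xDualC
import Groth.Agent.Lib.H6xDualE
set_option backward.isDefEq.respectTransparency.types false

/-!
# Vanishing of `Ext^i(M, ω)` for `i > 0` and a normalized dualizing complex (helper6)
-/

set_option autoImplicit false
set_option linter.style.haveILetI false
universe u

namespace Groth.Agent.Lib.H6xDual

open CategoryTheory CategoryTheory.Limits Category Pretriangulated DerivedCategory
open Groth.Agent.Lib.H6xCoext
attribute [local instance] HasDerivedCategory.standard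

section Gen

lemma homEquiv_add_gen {C D : Type*} [Category C] [Category D] [Preadditive C] [Preadditive D]
    {F : C ⥤ D} {G : D ⥤ C} (adj : F ⊣ G) [G.Additive] (X : C) (Y : D) (f g : F.obj X ⟶ Y) :
    adj.homEquiv X Y (f + g) = adj.homEquiv X Y f + adj.homEquiv X Y g := by
  rw [Adjunction.homEquiv_unit, Adjunction.homEquiv_unit, Adjunction.homEquiv_unit,
    Functor.map_add, Preadditive.comp_add]

variable {A : Type u} [CommRing A]

lemma shiftHomEquiv_add (X Y : Dual.D A) (n : ℤ) (f g : X⟦-n⟧ ⟶ Y) :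
    shiftHomEquiv X Y n (f + g) = shiftHomEquiv X Y n f + shiftHomEquiv X Y n g := by
  letI : (shiftEquiv' (Dual.D A) (-n) n (neg_add_cancel n)).inverse.Additive :=
    inferInstanceAs (shiftFunctor (Dual.D A) n).Additive
  exact homEquiv_add_gen (shiftEquiv' (Dual.D A) (-n) n (neg_add_cancel n)).toAdjunction X Y f g

/-- `shiftHomEquiv` as a linear equivalence -/
noncomputable def shiftHomLinearEquiv (X Y : Dual.D A) (n : ℤ) :
    (X⟦-n⟧ ⟶ Y) ≃ₗ[A] (X ⟶ Y⟦n⟧) :=
  { shiftHomEquiv X Y n with
    map_add' := shiftHomEquiv_add X Y n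
    map_smul' := fun a f => shiftHomEquiv_smul X Y n a f }

/-- `Hom(M[0], K⟦i⟧)` is finite for `M` finite and `K` bounded below with finite cohomology -/
theorem finite_hom_inD_shift [IsNoetherianRing A] (M : ModuleCat.{u} A) [Module.Finite A M]
    (K : Dual.D A) (a : ℤ) (hKa : ∀ j : ℤ, j < a → Subsingleton (Dual.HD A K j))
    (hK : ∀ j : ℤ, Module.Finite A (Dual.HD A K j)) (i : ℤ) :
    Module.Finite A (sg M ⟶ K⟦i⟧) := by
  have h1 : Module.Finite A ((DerivedCategory.singleFunctor (ModuleCat.{u} A) i).obj M ⟶ K) :=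
    finite_hom_single_of_boundedBelow M i K a
      (fun j hj => by
        haveI := hKa j hj
        exact ModuleCat.isZero_of_subsingleton _) hK
  let σ : (sg M)⟦-i⟧ ≅ (DerivedCategory.singleFunctor (ModuleCat.{u} A) i).obj M :=
    ((DerivedCategory.singleFunctors (ModuleCat.{u} A)).shiftIso (-i) i 0 (by omega)).app M
  haveI h2 : Module.Finite A ((sg M)⟦-i⟧ ⟶ K) := by
    refine Module.Finite.of_surjective (Linear.leftComp A K σ.hom) ?_
    intro f
    refine ⟨σ.inv ≫ f, ?_⟩
    change σ.hom ≫ σ.inv ≫ f = f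
    rw [Iso.hom_inv_id_assoc]
  exact Module.Finite.equiv (shiftHomLinearEquiv (sg M) K i)

end Gen

section Nak

variable {A : Type u} [CommRing A]

/-- exact sequences of linear maps give short exact sequences -/
lemma shortExact_of_exact {N₁ N₂ N₃ : Type u} [AddCommGroup N₁] [Module A N₁] [AddCommGroup N₂]
    [Module A N₂] [AddCommGroup N₃] [Module A N₃] (f : N₁ →ₗ[A] N₂) (g : N₂ →ₗ[A] N₃)
    (hf : Function.Injective f) (hg : Function.Surjective g) (hfg : Function.Exact f g) :
    (ModuleCat.shortComplexOfCompEqZero f g hfg.linearMap_comp_eq_zero).ShortExact :=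
  ModuleCat.shortComplex_shortExact _ hfg hf hg

/-- if `Hom(M/xM, Y⟦1⟧) = 0` for `M = A/p` and `x ∉ p`, then every morphism `A/p ⟶ Y` is divisible
by `x` -/
lemma exists_eq_smul (p : Ideal A) [p.IsPrime] (x : A) (hxp : x ∉ p) (Y : Dual.D A)
    (h : Subsingleton (Dual.inD A (QuotSMulTop x (A ⧸ p)) ⟶ Y⟦(1 : ℤ)⟧))
    (f : Dual.inD A (A ⧸ p) ⟶ Y) : ∃ g : Dual.inD A (A ⧸ p) ⟶ Y, f = x • g := by
  let mx : (A ⧸ p) →ₗ[A] (A ⧸ p) := LinearMap.lsmul A (A ⧸ p) x
  let q : (A ⧸ p) →ₗ[A] QuotSMulTop x (A ⧸ p) := Submodule.mkQ _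
  have hinj : Function.Injective mx := by
    rw [injective_iff_map_eq_zero]
    intro y hy
    obtain ⟨y, rfl⟩ := Ideal.Quotient.mk_surjective y
    have h1 : Ideal.Quotient.mk p (x * y) = 0 := by
      rw [map_mul]
      exact hy
    rw [Ideal.Quotient.eq_zero_iff_mem] at h1 ⊢
    exact (Ideal.IsPrime.mem_or_mem inferInstance h1).resolve_left hxp
  have hsurj : Function.Surjective q := Submodule.mkQ_surjective _
  have hex : Function.Exact mx q := by
    intro y
    change Submodule.Quotient.mk y = 0 ↔ _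
    rw [Submodule.Quotient.mk_eq_zero, Submodule.mem_smul_pointwise_iff_exists]
    constructor
    · rintro ⟨z, -, hz⟩
      exact ⟨z, hz⟩
    · rintro ⟨z, hz⟩
      exact ⟨z, Submodule.mem_top, hz⟩
  have hS := shortExact_of_exact mx q hinj hsurj hex
  obtain ⟨g, hg⟩ := exists_extension hS Y h f
  refine ⟨g, ?_⟩
  have h1 : (ModuleCat.ofHom mx : ModuleCat.of A (A ⧸ p) ⟶ ModuleCat.of A (A ⧸ p)) =
      x • 𝟙 _ := by
    apply ModuleCat.hom_ext
    apply LinearMap.ext
    intro y
    rfl
  change f = (DerivedCategory.singleFunctor (ModuleCat.{u} A) 0).map (ModuleCat.ofHom mx) ≫ g at hg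
  rw [hg, h1, Functor.map_smul, CategoryTheory.Functor.map_id, Linear.smul_comp, id_comp]

variable [IsLocalRing A] [IsNoetherianRing A]

open IsLocalRing in
/-- **Vanishing of positive Ext into a normalized dualizing complex** -/
theorem subsingleton_hom_pos (ω : Dual.D A) (hω : Dual.IsDualizing A ω)
    (hn : Dual.IsNormalized A ω) (M : Type u) [AddCommGroup M] [Module A M] [Module.Finite A M]
    (i : ℤ) (hi : 0 < i) : Subsingleton (Dual.inD A M ⟶ ω⟦i⟧) := by
  obtain ⟨a, b, hab⟩ := hω.finite_injective_dimension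
  have hKa : ∀ j : ℤ, j < a → Subsingleton (Dual.HD A ω j) := fun j hj =>
    subsingleton_HD_of_subsingleton_hom ω j (hab A j (Or.inl hj))
  have key : ∀ (n : ℕ) (i : ℤ), b < i + n → 0 < i → ∀ (M : Type u) [AddCommGroup M] [Module A M]
      [Module.Finite A M], Subsingleton (Dual.inD A M ⟶ ω⟦i⟧) := by
    intro n
    induction n with
    | zero =>
      intro i hb _ M _ _ _
      exact hab M i (Or.inr (by simpa using hb))
    | succ n ih =>
      intro i hb hi M _ _ hM
      have ih' : ∀ (N : Type u) [AddCommGroup N] [Module A N] [Module.Finite A N],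
          Subsingleton (Dual.inD A N ⟶ (ω⟦i⟧)⟦(1 : ℤ)⟧) := by
        intro N _ _ _
        have h1 := ih (i + 1) (by push_cast at hb; omega) (by omega) N
        exact (((shiftFunctorAdd' (Dual.D A) i 1 (i + 1) rfl).app ω).homToEquiv
          (Z := Dual.inD A N)).subsingleton_congr.1 h1
      induction hM using IsNoetherianRing.induction_on_isQuotientEquivQuotientPrime A with
      | subsingleton N =>
        have hz : IsZero (ModuleCat.of A N) := ModuleCat.isZero_of_subsingleton _
        have hz' : IsZero (Dual.inD A N) := Functor.map_isZero _ hz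
        exact ⟨fun f g => hz'.eq_of_src f g⟩
      | quotient N p e =>
        refine subsingleton_hom_of_linearEquiv e _ ?_
        by_cases hp : p.asIdeal = maximalIdeal A
        · have h1 := hn i (by omega)
          exact subsingleton_hom_of_linearEquiv
            (Submodule.quotEquivOfEq p.asIdeal (maximalIdeal A) hp) _ h1
        · have hle : p.asIdeal ≤ maximalIdeal A := IsLocalRing.le_maximalIdeal p.2.ne_top
          obtain ⟨x, hxm, hxp⟩ : ∃ x ∈ maximalIdeal A, x ∉ p.asIdeal := by
            by_contra hcon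
            push Not at hcon
            exact hp (le_antisymm hle hcon)
          haveI := p.2
          haveI hfin : Module.Finite A (Dual.inD A (A ⧸ p.asIdeal) ⟶ ω⟦i⟧) :=
            finite_hom_inD_shift (ModuleCat.of A (A ⧸ p.asIdeal)) ω a hKa hω.finite_cohomology i
          have hdiv : ∀ f : Dual.inD A (A ⧸ p.asIdeal) ⟶ ω⟦i⟧, ∃ g, f = x • g := fun f =>
            exists_eq_smul p.asIdeal x hxp (ω⟦i⟧) (ih' (QuotSMulTop x (A ⧸ p.asIdeal))) f
          have htop : (⊤ : Submodule A (Dual.inD A (A ⧸ p.asIdeal) ⟶ ω⟦i⟧)) = ⊥ := by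
            refine Submodule.eq_bot_of_le_smul_of_le_jacobson_bot (maximalIdeal A) ⊤
              Module.Finite.fg_top ?_ ?_
            · intro f _
              obtain ⟨g, rfl⟩ := hdiv f
              exact Submodule.smul_mem_smul hxm Submodule.mem_top
            · rw [IsLocalRing.jacobson_eq_maximalIdeal ⊥ bot_ne_top]
          refine ⟨fun f g => ?_⟩
          have hf : f ∈ (⊤ : Submodule A (Dual.inD A (A ⧸ p.asIdeal) ⟶ ω⟦i⟧)) :=
            Submodule.mem_top
          have hg : g ∈ (⊤ : Submodule A (Dual.inD A (A ⧸ p.asIdeal) ⟶ ω⟦i⟧)) :=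
            Submodule.mem_top
          rw [htop, Submodule.mem_bot] at hf hg
          rw [hf, hg]
      | exact N₁ N₂ N₃ f g hf hg hfg h₁ h₃ =>
        exact subsingleton_hom_mid (shortExact_of_exact f g hf hg hfg) _ h₁ h₃
  exact key (b - i + 1).toNat i (by omega) hi M

end Nak

end Groth.Agent.Lib.H6xDual
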