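import Mathlib
import Groth.Agent.Lib.H6xDualF
set_option backward.isDefEq.respectTransparency.types false

/-!
# Dévissage of bounded complexes with finite cohomology (helper6)
-/

set_option autoImplicit false
set_option linter.style.haveILetI false
universe u

namespace Groth.Agent.Lib.H6xDual

open CategoryTheory CategoryTheory.Limits Category Pretriangulated DerivedCategory
open Groth.Agent.Lib.H6xCoext Groth.Agent.S14388
attribute [local instance] HasDerivedCategory.standard

variable {A : Type u} [CommRing A]

/-- an object of `D(A)` with cohomology only in degree `n` is a module in degree `n` -/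
lemma exists_iso_single_of_HD (G : Dual.D A) (n : ℤ)
    (h : ∀ i : ℤ, i ≠ n → Subsingleton (Dual.HD A G i)) :
    ∃ M : ModuleCat.{u} A, Nonempty (G ≅ (DerivedCategory.singleFunctor (ModuleCat.{u} A) n).obj M) ∧
      Nonempty (M ≃ₗ[A] Dual.HD A G n) := by
  haveI : G.IsGE n := by
    rw [DerivedCategory.isGE_iff]
    intro i hi
    haveI := h i (by omega)
    exact ModuleCat.isZero_of_subsingleton _
  haveI : G.IsLE n := by
    rw [DerivedCategory.isLE_iff]
    intro i hi
    haveI := h i (by omega)
    exact ModuleCat.isZero_of_subsingleton _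
  obtain ⟨M, ⟨e⟩⟩ := DerivedCategory.exists_iso_singleFunctor_obj_of_isGE_of_isLE G n
  refine ⟨M, ⟨e⟩, ⟨?_⟩⟩
  exact (((singleFunctorCompHomologyFunctorIso (ModuleCat.{u} A) n).app M).symm ≪≫
    (DerivedCategory.homologyFunctor (ModuleCat.{u} A) n).mapIso e.symm).toLinearEquiv

theorem subsingleton_hom_of_bounded [IsNoetherianRing A] (Y : Dual.D A)
    (hY : ∀ (M : ModuleCat.{u} A) [Module.Finite A M] (j : ℤ), 0 ≤ j →
      Subsingleton ((DerivedCategory.singleFunctor (ModuleCat.{u} A) j).obj M ⟶ Y))
    (n : ℕ) : ∀ (N : Dual.D A) (_ : ∀ i : ℤ, Module.Finite A (Dual.HD A N i))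
      (_ : ∀ i : ℤ, (n : ℤ) ≤ i → Subsingleton (Dual.HD A N i))
      (_ : ∀ i : ℤ, i < 0 → Subsingleton (Dual.HD A N i)), Subsingleton (N ⟶ Y) := by
  induction n with
  | zero =>
    intro N _ hb hge
    haveI : N.IsGE 0 := by
      rw [DerivedCategory.isGE_iff]
      intro i hi
      haveI := hge i hi
      exact ModuleCat.isZero_of_subsingleton _
    haveI : N.IsLE (-1) := by
      rw [DerivedCategory.isLE_iff]
      intro i hi
      haveI := hb i (by push_cast; omega)
      exact ModuleCat.isZero_of_subsingleton _
    have hz : IsZero N := tt.isZero N (-1) 0 (by omega)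
    exact ⟨fun f g => hz.eq_of_src f g⟩
  | succ n ih =>
    intro N hfin hb hge
    -- the truncation triangle at `n`
    have hT := tt.triangleLTGE_distinguished (n : ℤ) N
    -- the left part
    have h1 : Subsingleton ((tt.truncLT (n : ℤ)).obj N ⟶ Y) := by
      apply ih
      · intro i
        by_cases hi : i < (n : ℤ)
        · have j1 := isIso_homology_truncLTι (n : ℤ) i hi N
          have : Module.Finite A ((homologyFunctor (ModuleCat.{u} A) i).obj
              ((𝟭 (DerivedCategory (ModuleCat.{u} A))).obj N)) := hfin i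
          exact Module.Finite.equiv (asIso ((homologyFunctor (ModuleCat.{u} A) i).map
              ((tt.truncLTι (n : ℤ)).app N))).symm.toLinearEquiv
        · have hle : ((tt.truncLT (n : ℤ)).obj N).IsLE ((n : ℤ) - 1) :=
            tt.isLE_truncLT_obj N (n : ℤ) ((n : ℤ) - 1) (by omega)
          have hz : IsZero ((homologyFunctor (ModuleCat.{u} A) i).obj
              ((tt.truncLT (n : ℤ)).obj N)) := isZero_of_isLE _ ((n : ℤ) - 1) i (by omega)
          have := ModuleCat.subsingleton_of_isZero hz
          infer_instance
      · intro i hi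
        have hle : ((tt.truncLT (n : ℤ)).obj N).IsLE ((n : ℤ) - 1) :=
          tt.isLE_truncLT_obj N (n : ℤ) ((n : ℤ) - 1) (by omega)
        have hz : IsZero ((homologyFunctor (ModuleCat.{u} A) i).obj
            ((tt.truncLT (n : ℤ)).obj N)) := isZero_of_isLE _ ((n : ℤ) - 1) i (by omega)
        exact ModuleCat.subsingleton_of_isZero hz
      · intro i hi
        have j1 := isIso_homology_truncLTι (n : ℤ) i (by omega) N
        haveI : Subsingleton ((homologyFunctor (ModuleCat.{u} A) i).obj
            ((𝟭 (DerivedCategory (ModuleCat.{u} A))).obj N)) := hge i hi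
        have hz : IsZero ((homologyFunctor (ModuleCat.{u} A) i).obj
            ((𝟭 (DerivedCategory (ModuleCat.{u} A))).obj N)) :=
          ModuleCat.isZero_of_subsingleton _
        have hz' := hz.of_iso (asIso ((homologyFunctor (ModuleCat.{u} A) i).map
              ((tt.truncLTι (n : ℤ)).app N)))
        exact ModuleCat.subsingleton_of_isZero hz'
    -- the right part
    have h3 : Subsingleton ((tt.truncGE (n : ℤ)).obj N ⟶ Y) := by
      have hG : ∀ i : ℤ, i ≠ (n : ℤ) →
          Subsingleton (Dual.HD A ((tt.truncGE (n : ℤ)).obj N) i) := by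
        intro i hi
        by_cases hlt : i < (n : ℤ)
        · have hz : IsZero ((homologyFunctor (ModuleCat.{u} A) i).obj
              ((tt.truncGE (n : ℤ)).obj N)) := isZero_of_isGE _ (n : ℤ) i hlt
          exact ModuleCat.subsingleton_of_isZero hz
        · have j1 := isIso_homology_truncGEπ (n : ℤ) i (by omega) N
          haveI : Subsingleton ((homologyFunctor (ModuleCat.{u} A) i).obj
              ((𝟭 (DerivedCategory (ModuleCat.{u} A))).obj N)) := hb i (by push_cast; omega)
          have hz : IsZero ((homologyFunctor (ModuleCat.{u} A) i).obj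
              ((𝟭 (DerivedCategory (ModuleCat.{u} A))).obj N)) :=
            ModuleCat.isZero_of_subsingleton _
          have hz' := hz.of_iso (asIso ((homologyFunctor (ModuleCat.{u} A) i).map
              ((tt.truncGEπ (n : ℤ)).app N))).symm
          exact ModuleCat.subsingleton_of_isZero hz'
      obtain ⟨M, ⟨e⟩, ⟨eM⟩⟩ := exists_iso_single_of_HD _ (n : ℤ) hG
      have j1 := isIso_homology_truncGEπ (n : ℤ) (n : ℤ) le_rfl N
      haveI : Module.Finite A ((homologyFunctor (ModuleCat.{u} A) (n : ℤ)).obj
          ((𝟭 (DerivedCategory (ModuleCat.{u} A))).obj N)) := hfin n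
      haveI : Module.Finite A (Dual.HD A ((tt.truncGE (n : ℤ)).obj N) (n : ℤ)) :=
        Module.Finite.equiv (asIso ((homologyFunctor (ModuleCat.{u} A) (n : ℤ)).map
              ((tt.truncGEπ (n : ℤ)).app N))).toLinearEquiv
      haveI : Module.Finite A M := Module.Finite.equiv eM.symm
      have := hY M (n : ℤ) (by omega)
      exact (e.homFromEquiv (Z := Y)).subsingleton_congr.2 this
    refine ⟨fun f g => ?_⟩
    have key : ∀ f : N ⟶ Y, f = 0 := by
      intro f
      obtain ⟨g, hg⟩ := Triangle.yoneda_exact₂ _ hT f (h1.elim _ _)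
      have hg0 : g = 0 := h3.elim g 0
      rw [hg, hg0]
      exact comp_zero
    rw [key f, key g]

end Groth.Agent.Lib.H6xDual
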