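import Mathlib
import Groth.Agent.Lib.H6xDualG
set_option backward.isDefEq.respectTransparency.types false

/-!
# `RHom(N, ω)` is concentrated in nonpositive degrees (helper6)
-/

set_option autoImplicit false
set_option linter.style.haveILetI false
universe u

namespace Groth.Agent.Lib.H6xDual

open CategoryTheory CategoryTheory.Limits Category Pretriangulated DerivedCategory
open Groth.Agent.Lib.H6xCoext
attribute [local instance] HasDerivedCategory.standard

variable {A : Type u} [CommRing A] [IsLocalRing A] [IsNoetherianRing A]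

theorem hom_shift_dualizing_subsingleton (ω : Dual.D A) (hω : Dual.IsDualizing A ω)
    (hn : Dual.IsNormalized A ω) (N : Dual.D A) (hfin : ∀ i : ℤ, Module.Finite A (Dual.HD A N i))
    (b : ℤ) (hb : ∀ i : ℤ, b < i → Subsingleton (Dual.HD A N i))
    (hge : ∀ i : ℤ, i < 0 → Subsingleton (Dual.HD A N i)) (i : ℤ) (hi : 0 < i) :
    Subsingleton (N ⟶ ω⟦i⟧) := by
  refine subsingleton_hom_of_bounded (ω⟦i⟧) ?_ (b + 1).toNat N hfin
    (fun i' hi' => hb i' (by have := Int.self_le_toNat (b + 1); omega)) hge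
  intro M _ j hj
  have h1 : Subsingleton (Dual.inD A M ⟶ ω⟦i + j⟧) :=
    subsingleton_hom_pos ω hω hn M (i + j) (by omega)
  have h2 : Subsingleton (sg M ⟶ (ω⟦i⟧)⟦j⟧) :=
    (((shiftFunctorAdd' (Dual.D A) i j (i + j) rfl).app ω).homToEquiv
      (Z := sg M)).subsingleton_congr.1 h1
  have h3 : Subsingleton ((sg M)⟦-j⟧ ⟶ ω⟦i⟧) :=
    (shiftHomEquiv (sg M) (ω⟦i⟧) j).subsingleton_congr.2 h2
  let σ : (sg M)⟦-j⟧ ≅ (DerivedCategory.singleFunctor (ModuleCat.{u} A) j).obj M :=
    ((DerivedCategory.singleFunctors (ModuleCat.{u} A)).shiftIso (-j) j 0 (by omega)).app M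
  exact (σ.homFromEquiv (Z := ω⟦i⟧)).subsingleton_congr.1 h3

end Groth.Agent.Lib.H6xDual
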