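import Mathlib
import Groth.Agent.Lib.H6xBidA
import Groth.Agent.Lib.H6xDualH
set_option backward.isDefEq.respectTransparency.types false

/-!
# Exactness of `M ↦ Hom_A(M, I)` for a complex of injectives, and the resulting triangles (helper6)
-/

set_option autoImplicit false
set_option linter.style.haveILetI false
universe u

namespace Groth.Agent.Lib.H6xBid

open CategoryTheory CategoryTheory.Limits Category Opposite Pretriangulated
open Groth.Agent.Lib.H6xRGam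
attribute [local instance] HasDerivedCategory.standard

variable {A : Type u} [CommRing A] (I : Cx A)

/-- the short complex of complexes `Hom(X₃, I) ⟶ Hom(X₂, I) ⟶ Hom(X₁, I)` -/
noncomputable def DS (S : ShortComplex (ModuleCat.{u} A)) : ShortComplex (Cx A) :=
  ShortComplex.mk (Dmap I S.g) (Dmap I S.f) (by rw [← Dmap_comp, S.zero, Dmap_zero])

lemma DS_shortExact (hI : ∀ n, Injective (I.X n)) {S : ShortComplex (ModuleCat.{u} A)}
    (hS : S.ShortExact) : (DS I S).ShortExact := by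
  apply HomologicalComplex.shortExact_of_degreewise_shortExact
  intro n
  haveI := hI n
  haveI := hS.mono_f
  haveI := hS.epi_g
  apply ModuleCat.shortComplex_shortExact
  · -- exactness
    intro φ
    change S.f ≫ (φ : S.X₂ ⟶ I.X n) = 0 ↔ _
    constructor
    · intro h
      exact ⟨hS.exact.desc φ h, hS.exact.g_desc φ h⟩
    · rintro ⟨ψ, rfl⟩
      change S.f ≫ S.g ≫ (ψ : S.X₃ ⟶ I.X n) = 0
      rw [← assoc, S.zero, zero_comp]
  · -- injectivity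
    intro φ φ' h
    change S.g ≫ (φ : S.X₃ ⟶ I.X n) = S.g ≫ (φ' : S.X₃ ⟶ I.X n) at h
    exact (cancel_epi S.g).1 h
  · -- surjectivity
    intro ψ
    refine ⟨Injective.factorThru (ψ : S.X₁ ⟶ I.X n) S.f, ?_⟩
    change S.f ≫ Injective.factorThru (ψ : S.X₁ ⟶ I.X n) S.f = ψ
    exact Injective.comp_factorThru _ _

/-- the object `RHom(M, ω)` of `D(A)`, for `ω = Q I` -/
noncomputable abbrev RH (M : ModuleCat.{u} A) : Dual.D A := DerivedCategory.Q.obj (Dcx I M)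

/-- functoriality of `RH` -/
noncomputable abbrev RHmap {M N : ModuleCat.{u} A} (f : M ⟶ N) : RH I N ⟶ RH I M :=
  DerivedCategory.Q.map (Dmap I f)

lemma RHmap_comp {M N P : ModuleCat.{u} A} (f : M ⟶ N) (g : N ⟶ P) :
    RHmap I (f ≫ g) = RHmap I g ≫ RHmap I f := by
  unfold RHmap
  rw [Dmap_comp, Functor.map_comp]

lemma RHmap_id (M : ModuleCat.{u} A) : RHmap I (𝟙 M) = 𝟙 _ := by
  unfold RHmap
  rw [Dmap_id, CategoryTheory.Functor.map_id]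

lemma RHmap_zero (M N : ModuleCat.{u} A) : RHmap I (0 : M ⟶ N) = 0 := by
  unfold RHmap
  rw [Dmap_zero, Functor.map_zero]

/-- `RH` of an isomorphism -/
noncomputable def RHiso {M N : ModuleCat.{u} A} (e : M ≅ N) : RH I N ≅ RH I M where
  hom := RHmap I e.hom
  inv := RHmap I e.inv
  hom_inv_id := by rw [← RHmap_comp, e.inv_hom_id, RHmap_id]
  inv_hom_id := by rw [← RHmap_comp, e.hom_inv_id, RHmap_id]

lemma isZero_RH {M : ModuleCat.{u} A} (hM : IsZero M) : IsZero (RH I M) := by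
  rw [IsZero.iff_id_eq_zero, ← RHmap_id, hM.eq_of_src (𝟙 M) 0, RHmap_zero]

section Tri

variable (hI : ∀ n, Injective (I.X n)) {S : ShortComplex (ModuleCat.{u} A)} (hS : S.ShortExact)

/-- the connecting morphism `RH(X₁) ⟶ RH(X₃)⟦1⟧` -/
noncomputable def δ : RH I S.X₁ ⟶ (RH I S.X₃)⟦(1 : ℤ)⟧ :=
  DerivedCategory.triangleOfSESδ (DS_shortExact I hI hS)

/-- the distinguished triangle `RH(X₃) ⟶ RH(X₂) ⟶ RH(X₁) ⟶ RH(X₃)⟦1⟧` -/
lemma tri_distinguished :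
    Triangle.mk (RHmap I S.g) (RHmap I S.f) (δ I hI hS) ∈ distTriang (Dual.D A) :=
  DerivedCategory.triangleOfSES_distinguished (DS_shortExact I hI hS)

include hI hS in
/-- exactness of `Hom(RH X₁, Y) ⟶ Hom(RH X₂, Y) ⟶ Hom(RH X₃, Y)` in the middle -/
lemma exists_of_RHmap_comp_eq_zero (Y : Dual.D A) (g : RH I S.X₂ ⟶ Y)
    (hg : RHmap I S.g ≫ g = 0) : ∃ h : RH I S.X₁ ⟶ Y, g = RHmap I S.f ≫ h :=
  Triangle.yoneda_exact₂ _ (tri_distinguished I hI hS) g hg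

include hI hS in
/-- vanishing of `Hom(RH -, Y)` is stable under extensions -/
lemma subsingleton_mid (Y : Dual.D A) (h₁ : Subsingleton (RH I S.X₁ ⟶ Y))
    (h₃ : Subsingleton (RH I S.X₃ ⟶ Y)) : Subsingleton (RH I S.X₂ ⟶ Y) := by
  have key : ∀ g : RH I S.X₂ ⟶ Y, g = 0 := by
    intro g
    obtain ⟨h, hh⟩ := exists_of_RHmap_comp_eq_zero I hI hS Y g (h₃.elim _ _)
    rw [hh, h₁.elim h 0, comp_zero]
  exact ⟨fun f g => by rw [key f, key g]⟩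

include hI hS in
/-- if `Hom(RH X₁, Y⟦1⟧) = 0`, then `Hom(RH X₂, Y) ⟶ Hom(RH X₃, Y)` is surjective -/
lemma exists_lift_of_subsingleton (Y : Dual.D A)
    (h₁ : Subsingleton (RH I S.X₁ ⟶ Y⟦(1 : ℤ)⟧)) (g : RH I S.X₃ ⟶ Y) :
    ∃ h : RH I S.X₂ ⟶ Y, g = RHmap I S.g ≫ h := by
  have hT := inv_rot_of_distTriang _ (tri_distinguished I hI hS)
  have hsub : Subsingleton ((RH I S.X₁)⟦(-1 : ℤ)⟧ ⟶ Y) :=
    (Groth.Agent.Lib.H6xCoext.shiftHomEquiv (RH I S.X₁) Y 1).subsingleton_congr.2 h₁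
  have h0 : (Triangle.mk (RHmap I S.g) (RHmap I S.f) (δ I hI hS)).invRotate.mor₁ ≫ g = 0 :=
    @Subsingleton.elim _ hsub _ _
  exact Triangle.yoneda_exact₂ _ hT g h0

include hI hS in
/-- vanishing of `Hom(RH X₂, Y)` and `Hom(RH X₁, Y⟦1⟧)` gives vanishing of `Hom(RH X₃, Y)` -/
lemma subsingleton_right (Y : Dual.D A) (h₂ : Subsingleton (RH I S.X₂ ⟶ Y))
    (h₁ : Subsingleton (RH I S.X₁ ⟶ Y⟦(1 : ℤ)⟧)) : Subsingleton (RH I S.X₃ ⟶ Y) := by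
  have key : ∀ g : RH I S.X₃ ⟶ Y, g = 0 := by
    intro g
    obtain ⟨h, hh⟩ := exists_lift_of_subsingleton I hI hS Y h₁ g
    rw [hh, h₂.elim h 0, comp_zero]
  exact ⟨fun f g => by rw [key f, key g]⟩

include hI hS in
/-- the connecting map `Hom((RH X₃)⟦1⟧, Y) ⟶ Hom(RH X₁, Y)`: exactness at `Hom(RH X₁, Y)` -/
lemma exists_of_RHmap_f_comp_eq_zero (Y : Dual.D A) (h : RH I S.X₁ ⟶ Y)
    (hh : RHmap I S.f ≫ h = 0) :
    ∃ k : (RH I S.X₃)⟦(1 : ℤ)⟧ ⟶ Y, h = δ I hI hS ≫ k :=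
  Triangle.yoneda_exact₃ _ (tri_distinguished I hI hS) h hh

include hI hS in
/-- if `Hom((RH X₃)⟦1⟧, Y) = 0`, then `Hom(RH X₁, Y) ⟶ Hom(RH X₂, Y)` is injective -/
lemma eq_zero_of_RHmap_comp_eq_zero (Y : Dual.D A)
    (h₃ : Subsingleton ((RH I S.X₃)⟦(1 : ℤ)⟧ ⟶ Y)) (h : RH I S.X₁ ⟶ Y)
    (hh : RHmap I S.f ≫ h = 0) : h = 0 := by
  obtain ⟨k, hk⟩ := exists_of_RHmap_f_comp_eq_zero I hI hS Y h hh
  rw [hk, h₃.elim k 0, comp_zero]

include hI hS in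
/-- exactness at `Hom((RH X₃)⟦1⟧, Y)`: a morphism killed by the connecting map comes from
`Hom((RH X₂)⟦1⟧, Y)` -/
lemma exists_of_δ_comp_eq_zero (Y : Dual.D A) (k : (RH I S.X₃)⟦(1 : ℤ)⟧ ⟶ Y)
    (hk : δ I hI hS ≫ k = 0) :
    ∃ l : (RH I S.X₂)⟦(1 : ℤ)⟧ ⟶ Y, k = (RHmap I S.g)⟦(1 : ℤ)⟧' ≫ l := by
  have hT := rot_of_distTriang _ (tri_distinguished I hI hS)
  obtain ⟨l, hl⟩ := Triangle.yoneda_exact₃ _ hT k hk
  let l' : (RH I S.X₂)⟦(1 : ℤ)⟧ ⟶ Y := l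
  refine ⟨-l', ?_⟩
  have hl' : k = (-(RHmap I S.g)⟦(1 : ℤ)⟧') ≫ l' := hl
  rw [hl', Preadditive.neg_comp, Preadditive.comp_neg]

include hI hS in
/-- if `Hom((RH X₂)⟦1⟧, Y) = 0` and `Hom(RH X₁, Y) ⟶ Hom(RH X₂, Y)` is injective, then
`Hom((RH X₃)⟦1⟧, Y) = 0` -/
lemma subsingleton_shift_right (Y : Dual.D A) (h₂ : Subsingleton ((RH I S.X₂)⟦(1 : ℤ)⟧ ⟶ Y))
    (hinj : ∀ h : RH I S.X₁ ⟶ Y, RHmap I S.f ≫ h = 0 → h = 0) :
    Subsingleton ((RH I S.X₃)⟦(1 : ℤ)⟧ ⟶ Y) := by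
  have key : ∀ k : (RH I S.X₃)⟦(1 : ℤ)⟧ ⟶ Y, k = 0 := by
    intro k
    have h1 : RHmap I S.f ≫ δ I hI hS ≫ k = 0 := by
      have h0 : RHmap I S.f ≫ δ I hI hS = 0 :=
        comp_distTriang_mor_zero₂₃ _ (tri_distinguished I hI hS)
      rw [← assoc, h0, zero_comp]
    obtain ⟨l, hl⟩ := exists_of_δ_comp_eq_zero I hI hS Y k (hinj _ h1)
    rw [hl, h₂.elim l 0, comp_zero]
  exact ⟨fun f g => by rw [key f, key g]⟩

include hI hS in
/-- vanishing of `Hom((RH -)⟦1⟧, Y)` is stable under extensions -/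
lemma subsingleton_shift_mid (Y : Dual.D A) (h₁ : Subsingleton ((RH I S.X₁)⟦(1 : ℤ)⟧ ⟶ Y))
    (h₃ : Subsingleton ((RH I S.X₃)⟦(1 : ℤ)⟧ ⟶ Y)) :
    Subsingleton ((RH I S.X₂)⟦(1 : ℤ)⟧ ⟶ Y) := by
  have hT := rot_of_distTriang _ (rot_of_distTriang _ (rot_of_distTriang _
    (tri_distinguished I hI hS)))
  have key : ∀ g : (RH I S.X₂)⟦(1 : ℤ)⟧ ⟶ Y, g = 0 := by
    intro g
    obtain ⟨h, hh⟩ := Triangle.yoneda_exact₂ _ hT g (h₃.elim _ _)
    have h0 : h = 0 := h₁.elim h 0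
    rw [hh, h0]
    exact comp_zero
  exact ⟨fun f g => by rw [key f, key g]⟩

end Tri

end Groth.Agent.Lib.H6xBid
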