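import Mathlib
import Groth.Agent.Lib.H6xBidB
set_option backward.isDefEq.respectTransparency.types false

/-!
# The evaluation map `M ⟶ Hom(RHom(M, ω), ω)` and the rank one case (helper6)
-/

set_option autoImplicit false
set_option linter.style.haveILetI false
universe u

namespace Groth.Agent.Lib.H6xBid

open CategoryTheory CategoryTheory.Limits Category Opposite Pretriangulated
open Groth.Agent.Lib.H6xRGam Groth.Agent.Lib.H6xDual
attribute [local instance] HasDerivedCategory.standard

variable {A : Type u} [CommRing A] (I : Cx A)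

/-- the evaluation map `M → Hom(RH I M, Q I)` -/
noncomputable def ev (M : ModuleCat.{u} A) : M →ₗ[A] (RH I M ⟶ DerivedCategory.Q.obj I) where
  toFun m := DerivedCategory.Q.map (evc I M m)
  map_add' m m' := by rw [evc_add, Functor.map_add]
  map_smul' a m := by
    rw [evc_smul, Functor.map_smul]
    rfl

lemma ev_apply (M : ModuleCat.{u} A) (m : M) : ev I M m = DerivedCategory.Q.map (evc I M m) := rfl

lemma RHmap_ev {M N : ModuleCat.{u} A} (f : M ⟶ N) (m : M) :
    RHmap I f ≫ ev I M m = ev I N (f.hom m) := by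
  rw [ev_apply, ev_apply, ← Dmap_evc, Functor.map_comp]

/-- moving a shift by one across a hom set -/
noncomputable def shiftHomEquiv1 {C : Type*} [Category C] [HasShift C ℤ] (X Y : C) :
    (X⟦(1 : ℤ)⟧ ⟶ Y) ≃ (X ⟶ Y⟦(-1 : ℤ)⟧) :=
  (shiftEquiv' C (1 : ℤ) (-1) (by norm_num)).toAdjunction.homEquiv X Y

section RankOne

/-- `A` as a module over itself -/
abbrev A1 (A : Type u) [CommRing A] : ModuleCat.{u} A := ModuleCat.of A A

lemma isIso_evc_one : IsIso (evc I (A1 A) (1 : A)) := by
  haveI : ∀ n, IsIso ((evc I (A1 A) (1 : A)).f n) := fun n => by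
    rw [ConcreteCategory.isIso_iff_bijective]
    constructor
    · intro φ φ' h
      apply ModuleCat.hom_ext
      apply LinearMap.ext_ring
      exact h
    · intro x
      refine ⟨ModuleCat.ofHom (LinearMap.toSpanSingleton A _ x), ?_⟩
      change (1 : A) • x = x
      rw [one_smul]
  exact HomologicalComplex.Hom.isIso_of_components _

/-- `RHom(A, ω) ≅ ω` -/
noncomputable def θ : RH I (A1 A) ≅ DerivedCategory.Q.obj I :=
  haveI := isIso_evc_one I
  asIso (DerivedCategory.Q.map (evc I (A1 A) (1 : A)))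

lemma θ_hom : (θ I).hom = ev I (A1 A) (1 : A) := rfl

lemma ev_free (a : A) : ev I (A1 A) a = (θ I).hom ≫ (a • 𝟙 _) := by
  have h1 : (a : A1 A) = a • (1 : A) := by
    change a = a * 1
    rw [mul_one]
  rw [Linear.comp_smul, comp_id, θ_hom, ← map_smul, ← h1]

variable (hω : Dual.IsDualizing A (DerivedCategory.Q.obj I))
include hω

lemma van_free (i : ℤ) (hi : i ≠ 0) :
    Subsingleton (RH I (A1 A) ⟶ (DerivedCategory.Q.obj I)⟦i⟧) :=
  ((θ I).homFromEquiv (Z := (DerivedCategory.Q.obj I)⟦i⟧)).subsingleton_congr.2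
    (hω.ext_self_subsingleton i hi)

lemma vanS_free : Subsingleton ((RH I (A1 A))⟦(1 : ℤ)⟧ ⟶ DerivedCategory.Q.obj I) := by
  have h1 : Subsingleton (RH I (A1 A) ⟶ (DerivedCategory.Q.obj I)⟦(-1 : ℤ)⟧) :=
    van_free I hω (-1) (by norm_num)
  exact (shiftHomEquiv1 (RH I (A1 A)) (DerivedCategory.Q.obj I)).subsingleton_congr.2 h1

lemma ev_free_bijective : Function.Bijective (ev I (A1 A)) := by
  have hb := hω.toEnd_bijective
  constructor
  · intro a a' h
    apply hb.1
    change a • 𝟙 (DerivedCategory.Q.obj I) = a' • 𝟙 (DerivedCategory.Q.obj I)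
    rw [ev_free, ev_free] at h
    exact (cancel_epi (θ I).hom).1 h
  · intro t
    obtain ⟨a, ha⟩ := hb.2 ((θ I).inv ≫ t)
    refine ⟨a, ?_⟩
    change a • 𝟙 (DerivedCategory.Q.obj I) = _ at ha
    rw [ev_free, ha, Iso.hom_inv_id_assoc]

end RankOne

section Induction

variable [IsNoetherianRing A]

/-- the short exact sequence `0 → p → A → A/p → 0` -/
noncomputable abbrev cycS (p : Ideal A) : ShortComplex (ModuleCat.{u} A) :=
  ModuleCat.shortComplexOfCompEqZero (Submodule.subtype p) (Submodule.mkQ p)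
    (LinearMap.exact_subtype_mkQ p).linearMap_comp_eq_zero

omit [IsNoetherianRing A] in
lemma cycS_shortExact (p : Ideal A) : (cycS p).ShortExact :=
  shortExact_of_exact _ _ (Submodule.injective_subtype _) (Submodule.mkQ_surjective _)
    (LinearMap.exact_subtype_mkQ _)

/-- induction principle for finitely generated modules over a Noetherian ring -/
theorem fg_induction (P : ModuleCat.{u} A → Prop)
    (hiso : ∀ (M N : ModuleCat.{u} A), (M ≅ N) → P M → P N)
    (hzero : ∀ M : ModuleCat.{u} A, IsZero M → P M)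
    (hcyc : ∀ (p : Ideal A), p.IsPrime → P (ModuleCat.of A (A ⧸ p)))
    (hext : ∀ (S : ShortComplex (ModuleCat.{u} A)), S.ShortExact → Module.Finite A S.X₁ →
      Module.Finite A S.X₂ → Module.Finite A S.X₃ → P S.X₁ → P S.X₃ → P S.X₂)
    (M : Type u) [AddCommGroup M] [Module A M] [hM : Module.Finite A M] :
    P (ModuleCat.of A M) := by
  induction hM using IsNoetherianRing.induction_on_isQuotientEquivQuotientPrime A with
  | subsingleton N => exact hzero _ (ModuleCat.isZero_of_subsingleton _)
  | quotient N p e => exact hiso _ _ (e.symm.toModuleIso) (hcyc p.asIdeal p.2)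
  | exact N₁ N₂ N₃ f g hf hg hfg h₁ h₃ =>
    exact hext _ (shortExact_of_exact f g hf hg hfg) ‹_› ‹_› ‹_› h₁ h₃

end Induction

end Groth.Agent.Lib.H6xBid
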