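import Mathlib
import Groth.Agent.Lib.H6xBidC
set_option backward.isDefEq.respectTransparency.types false

/-!
# Biduality for finitely generated modules, assuming vanishing in large degrees (helper6)
-/

set_option autoImplicit false
set_option linter.style.haveILetI false
universe u

namespace Groth.Agent.Lib.H6xBid

open CategoryTheory CategoryTheory.Limits Category Opposite Pretriangulated
open Groth.Agent.Lib.H6xRGam Groth.Agent.Lib.H6xDual
attribute [local instance] HasDerivedCategory.standard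

variable {A : Type u} [CommRing A] [IsNoetherianRing A] (I : Cx A)
  (hI : ∀ n, Injective (I.X n)) (hω : Dual.IsDualizing A (DerivedCategory.Q.obj I))


omit [IsNoetherianRing A] in
lemma van_of_iso (Y : Dual.D A) {M N : ModuleCat.{u} A} (e : M ≅ N)
    (h : Subsingleton (RH I M ⟶ Y)) : Subsingleton (RH I N ⟶ Y) :=
  ((RHiso I e).homFromEquiv (Z := Y)).subsingleton_congr.2 h

omit [IsNoetherianRing A] in
lemma vanS_of_iso (Y : Dual.D A) {M N : ModuleCat.{u} A} (e : M ≅ N)
    (h : Subsingleton ((RH I M)⟦(1 : ℤ)⟧ ⟶ Y)) : Subsingleton ((RH I N)⟦(1 : ℤ)⟧ ⟶ Y) :=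
  (((shiftFunctor (Dual.D A) (1 : ℤ)).mapIso (RHiso I e)).homFromEquiv
    (Z := Y)).subsingleton_congr.2 h

omit [IsNoetherianRing A] in
lemma van_of_isZero (Y : Dual.D A) {M : ModuleCat.{u} A} (hM : IsZero M) :
    Subsingleton (RH I M ⟶ Y) :=
  ⟨fun f g => (isZero_RH I hM).eq_of_src f g⟩

omit [IsNoetherianRing A] in
lemma vanS_of_isZero (Y : Dual.D A) {M : ModuleCat.{u} A} (hM : IsZero M) :
    Subsingleton ((RH I M)⟦(1 : ℤ)⟧ ⟶ Y) :=
  ⟨fun f g => ((shiftFunctor (Dual.D A) (1 : ℤ)).map_isZero (isZero_RH I hM)).eq_of_src f g⟩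

include hI hω in
/-- the descending step: vanishing of `T^{i+1}` on all finite modules gives vanishing of `T^i`,
for `i ≠ 0` -/
theorem van_step (i : ℤ) (hi : i ≠ 0)
    (h : ∀ (N : Type u) [AddCommGroup N] [Module A N] [Module.Finite A N],
      Subsingleton (RH I (ModuleCat.of A N) ⟶ (DerivedCategory.Q.obj I)⟦i + 1⟧))
    (M : Type u) [AddCommGroup M] [Module A M] [Module.Finite A M] :
    Subsingleton (RH I (ModuleCat.of A M) ⟶ (DerivedCategory.Q.obj I)⟦i⟧) := by
  refine fg_induction (fun M => Subsingleton (RH I M ⟶ (DerivedCategory.Q.obj I)⟦i⟧)) ?_ ?_ ?_ ?_ M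
  · intro M N e hM
    exact van_of_iso I _ e hM
  · intro M hM
    exact van_of_isZero I _ hM
  · intro p hp
    have h1 : Subsingleton (RH I (ModuleCat.of A p) ⟶ ((DerivedCategory.Q.obj I)⟦i⟧)⟦(1 : ℤ)⟧) :=
      (((shiftFunctorAdd' (Dual.D A) i 1 (i + 1) rfl).app (DerivedCategory.Q.obj I)).homToEquiv
        (Z := RH I (ModuleCat.of A p))).subsingleton_congr.1 (h p)
    exact subsingleton_right I hI (cycS_shortExact p) _ (van_free I hω i hi) h1
  · intro S hS _ _ _ h₁ h₃
    exact subsingleton_mid I hI hS _ h₁ h₃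

include hI hω in
/-- vanishing in all positive degrees, from vanishing in large degrees -/
theorem van_pos (N₀ : ℤ)
    (hlarge : ∀ (i : ℤ), N₀ < i → ∀ (N : Type u) [AddCommGroup N] [Module A N] [Module.Finite A N],
      Subsingleton (RH I (ModuleCat.of A N) ⟶ (DerivedCategory.Q.obj I)⟦i⟧))
    (i : ℤ) (hi : 0 < i) (M : Type u) [AddCommGroup M] [Module A M] [Module.Finite A M] :
    Subsingleton (RH I (ModuleCat.of A M) ⟶ (DerivedCategory.Q.obj I)⟦i⟧) := by
  have key : ∀ (n : ℕ) (i : ℤ), 0 < i → N₀ < i + n →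
      ∀ (N : Type u) [AddCommGroup N] [Module A N] [Module.Finite A N],
      Subsingleton (RH I (ModuleCat.of A N) ⟶ (DerivedCategory.Q.obj I)⟦i⟧) := by
    intro n
    induction n with
    | zero =>
      intro i _ hb N _ _ _
      exact hlarge i (by simpa using hb) N
    | succ n ih =>
      intro i hi hb N _ _ _
      exact van_step I hI hω i (by omega)
        (fun N' _ _ _ => ih (i + 1) (by omega) (by push_cast at hb; omega) N') N
  exact key (N₀ - i + 1).toNat i hi (by omega) M

section Main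

variable (hpos : ∀ (N : Type u) [AddCommGroup N] [Module A N] [Module.Finite A N],
      Subsingleton (RH I (ModuleCat.of A N) ⟶ (DerivedCategory.Q.obj I)⟦(1 : ℤ)⟧))

include hI hω hpos in
/-- surjectivity of the evaluation map -/
theorem ev_surjective (M : Type u) [AddCommGroup M] [Module A M] [Module.Finite A M] :
    Function.Surjective (ev I (ModuleCat.of A M)) := by
  refine fg_induction (fun M => Function.Surjective (ev I M)) ?_ ?_ ?_ ?_ M
  · intro M N e hM t
    obtain ⟨m, hm⟩ := hM (RHmap I e.inv ≫ t)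
    refine ⟨e.hom.hom m, ?_⟩
    rw [← RHmap_ev, hm, ← assoc, ← RHmap_comp, e.inv_hom_id, RHmap_id, id_comp]
  · intro M hM t
    refine ⟨0, ?_⟩
    rw [map_zero]
    exact (isZero_RH I hM).eq_of_src _ _
  · intro p hp t
    obtain ⟨h, hh⟩ := exists_lift_of_subsingleton I hI (cycS_shortExact p) (DerivedCategory.Q.obj I) (hpos p) t
    obtain ⟨a, ha⟩ := (ev_free_bijective I hω).2 h
    refine ⟨(cycS p).g.hom a, ?_⟩
    rw [← RHmap_ev, hh]
    exact congrArg (fun z => RHmap I (cycS p).g ≫ z) ha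
  · intro S hS _ _ _ h₁ h₃ t
    haveI := hS.epi_g
    obtain ⟨x₃, hx₃⟩ := h₃ (RHmap I S.g ≫ t)
    obtain ⟨x₂, rfl⟩ := (ModuleCat.epi_iff_surjective S.g).1 inferInstance x₃
    have h0 : RHmap I S.g ≫ (t - ev I S.X₂ x₂) = 0 := by
      rw [Preadditive.comp_sub, RHmap_ev, hx₃, sub_self]
    obtain ⟨h, hh⟩ := exists_of_RHmap_comp_eq_zero I hI hS (DerivedCategory.Q.obj I) _ h0
    obtain ⟨x₁, hx₁⟩ := h₁ h
    refine ⟨x₂ + S.f.hom x₁, ?_⟩
    rw [map_add, ← RHmap_ev, hx₁, ← hh]
    abel

include hI hω hpos in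
/-- vanishing of `T^{-1}` -/
theorem vanS (M : Type u) [AddCommGroup M] [Module A M] [Module.Finite A M] :
    Subsingleton ((RH I (ModuleCat.of A M))⟦(1 : ℤ)⟧ ⟶ DerivedCategory.Q.obj I) := by
  refine fg_induction (fun M => Subsingleton ((RH I M)⟦(1 : ℤ)⟧ ⟶ DerivedCategory.Q.obj I)) ?_ ?_ ?_ ?_ M
  · intro M N e hM
    exact vanS_of_iso I _ e hM
  · intro M hM
    exact vanS_of_isZero I _ hM
  · intro p hp
    refine subsingleton_shift_right I hI (cycS_shortExact p) (DerivedCategory.Q.obj I) (vanS_free I hω) ?_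
    intro h hh
    obtain ⟨x, rfl⟩ := ev_surjective I hI hω hpos p h
    rw [RHmap_ev] at hh
    have h0 : (cycS p).f.hom x = 0 := by
      apply (ev_free_bijective I hω).1
      rw [map_zero]
      exact hh
    have hx : x = 0 := by
      apply Submodule.injective_subtype p
      rw [map_zero]
      exact h0
    rw [hx, map_zero]
  · intro S hS _ _ _ h₁ h₃
    exact subsingleton_shift_mid I hI hS _ h₁ h₃

include hI hω hpos in
/-- injectivity of the evaluation map -/
theorem ev_injective (M : Type u) [AddCommGroup M] [Module A M] [Module.Finite A M] :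
    Function.Injective (ev I (ModuleCat.of A M)) := by
  refine fg_induction (fun M => Function.Injective (ev I M)) ?_ ?_ ?_ ?_ M
  · intro M N e hM
    rw [injective_iff_map_eq_zero] at hM ⊢
    intro n hn
    have h1 : n = e.hom.hom (e.inv.hom n) := by
      change n = (e.inv ≫ e.hom).hom n
      rw [e.inv_hom_id]
      rfl
    rw [h1, ← RHmap_ev] at hn
    have h2 : ev I M (e.inv.hom n) = 0 := by
      have := congrArg (fun z => RHmap I e.inv ≫ z) hn
      rw [← assoc, ← RHmap_comp, e.hom_inv_id, RHmap_id, id_comp, comp_zero] at this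
      exact this
    rw [h1, hM _ h2, map_zero]
  · intro M hM
    haveI := ModuleCat.subsingleton_of_isZero hM
    exact Function.injective_of_subsingleton _
  · intro p hp
    rw [injective_iff_map_eq_zero]
    intro x hx
    obtain ⟨a, rfl⟩ := Submodule.mkQ_surjective p x
    have hx' : ev I (cycS p).X₃ ((cycS p).g.hom a) = 0 := hx
    rw [← RHmap_ev] at hx'
    obtain ⟨h, hh⟩ := exists_of_RHmap_comp_eq_zero I hI (cycS_shortExact p) (DerivedCategory.Q.obj I) _ hx'
    obtain ⟨y, rfl⟩ := ev_surjective I hI hω hpos p h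
    rw [RHmap_ev] at hh
    have h1 : a = (cycS p).f.hom y := (ev_free_bijective I hω).1 hh
    rw [h1]
    change Submodule.mkQ p (y : A) = 0
    rw [Submodule.mkQ_apply, Submodule.Quotient.mk_eq_zero]
    exact y.2
  · intro S hS _ _ _ h₁ h₃
    rw [injective_iff_map_eq_zero] at h₁ h₃ ⊢
    intro m hm
    have h3 : S.g.hom m = 0 := by
      apply h₃
      rw [← RHmap_ev, hm, comp_zero]
    obtain ⟨x₁, rfl⟩ := (ShortComplex.moduleCat_exact_iff S).1 hS.exact m h3
    rw [← RHmap_ev] at hm
    have hS3 : Subsingleton ((RH I S.X₃)⟦(1 : ℤ)⟧ ⟶ DerivedCategory.Q.obj I) := by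
      have := vanS I hI hω hpos S.X₃
      exact this
    have h1 := eq_zero_of_RHmap_comp_eq_zero I hI hS (DerivedCategory.Q.obj I) hS3 _ hm
    rw [h₁ _ h1, map_zero]

end Main

end Groth.Agent.Lib.H6xBid
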