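import Mathlib
import Groth.Agent.Lib.H6xBidD
set_option backward.isDefEq.respectTransparency.types false

/-!
# Boundedness of `RHom(M, ω)` and vanishing of `T^i` in large degrees (helper6)
-/

set_option autoImplicit false
set_option linter.style.haveILetI false
universe u

namespace Groth.Agent.Lib.H6xBid

open CategoryTheory CategoryTheory.Limits Category Opposite Pretriangulated DerivedCategory
open Groth.Agent.Lib.H6xRGam Groth.Agent.Lib.H6xDual Groth.Agent.Lib.H6xCoext Groth.Agent.S14388
attribute [local instance] HasDerivedCategory.standard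

variable {A : Type u} [CommRing A]

section Coh

variable (I : Cx A) [I.IsKInjective]

/-- `H^j(Hom(M, I)) = 0` if `Hom_{D(A)}(M, (Q I)⟦j⟧) = 0` -/
lemma subsingleton_homology_Dcx (M : ModuleCat.{u} A) (j : ℤ)
    (h : Subsingleton (SM M ⟶ (DerivedCategory.Q.obj I)⟦j⟧)) :
    Subsingleton ((Dcx I M).homology j) := by
  refine ⟨fun c c' => ?_⟩
  suffices H : ∀ c : (Dcx I M).homology j, c = 0 by rw [H c, H c']
  intro c
  obtain ⟨z, rfl⟩ := homologyπ_surjective' (Dcx I M) j c
  let x : M ⟶ I.X j := ((Dcx I M).iCycles j).hom z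
  have hx : x ≫ I.d j (j + 1) = 0 := d_iCycles' (Dcx I M) j z
  have hΨ : Ψ I j x hx = 0 := h.elim _ _
  obtain ⟨k, hk⟩ := (Ψ_eq_zero_iff I j x hx).1 hΨ
  have hz : ((Dcx I M).toCycles (j - 1) j).hom k = z := by
    apply iCycles_injective' (Dcx I M) j
    rw [iCycles_toCycles']
    exact hk
  rw [← hz]
  exact congrArg (fun t => t.hom k) ((Dcx I M).toCycles_comp_homologyπ (j - 1) j)

lemma subsingleton_HD_RH (M : ModuleCat.{u} A) (j : ℤ)
    (h : Subsingleton (SM M ⟶ (DerivedCategory.Q.obj I)⟦j⟧)) :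
    Subsingleton (Dual.HD A (RH I M) j) := by
  haveI := subsingleton_homology_Dcx I M j h
  exact (HDIso (Dcx I M) j).toEquiv.subsingleton

end Coh

section Dev

/-- dévissage: vanishing of `Hom(N, Y)` for `N` with bounded cohomology -/
theorem subsingleton_hom_of_bounded_gen (Y : Dual.D A) (j₀ : ℤ)
    (hY : ∀ (M : ModuleCat.{u} A) (j : ℤ), j₀ ≤ j →
      Subsingleton ((DerivedCategory.singleFunctor (ModuleCat.{u} A) j).obj M ⟶ Y))
    (n : ℕ) : ∀ (N : Dual.D A)
      (_ : ∀ i : ℤ, j₀ + (n : ℤ) ≤ i → Subsingleton (Dual.HD A N i))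
      (_ : ∀ i : ℤ, i < j₀ → Subsingleton (Dual.HD A N i)), Subsingleton (N ⟶ Y) := by
  induction n with
  | zero =>
    intro N hb hge
    haveI : N.IsGE j₀ := by
      rw [DerivedCategory.isGE_iff]
      intro i hi
      haveI := hge i hi
      exact ModuleCat.isZero_of_subsingleton _
    haveI : N.IsLE (j₀ - 1) := by
      rw [DerivedCategory.isLE_iff]
      intro i hi
      haveI := hb i (by push_cast; omega)
      exact ModuleCat.isZero_of_subsingleton _
    have hz : IsZero N := tt.isZero N (j₀ - 1) j₀ (by omega)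
    exact ⟨fun f g => hz.eq_of_src f g⟩
  | succ n ih =>
    intro N hb hge
    -- the truncation triangle at `j₀ + n`
    have hT := tt.triangleLTGE_distinguished (j₀ + (n : ℤ)) N
    -- the left part
    have h1 : Subsingleton ((tt.truncLT (j₀ + (n : ℤ))).obj N ⟶ Y) := by
      apply ih
      · intro i hi
        have hle : ((tt.truncLT (j₀ + (n : ℤ))).obj N).IsLE ((j₀ + (n : ℤ)) - 1) :=
          tt.isLE_truncLT_obj N (j₀ + (n : ℤ)) ((j₀ + (n : ℤ)) - 1) (by omega)
        have hz : IsZero ((homologyFunctor (ModuleCat.{u} A) i).obj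
            ((tt.truncLT (j₀ + (n : ℤ))).obj N)) :=
          isZero_of_isLE _ ((j₀ + (n : ℤ)) - 1) i (by omega)
        exact ModuleCat.subsingleton_of_isZero hz
      · intro i hi
        have j1 := isIso_homology_truncLTι (j₀ + (n : ℤ)) i (by omega) N
        haveI : Subsingleton ((homologyFunctor (ModuleCat.{u} A) i).obj
            ((𝟭 (DerivedCategory (ModuleCat.{u} A))).obj N)) := hge i hi
        have hz : IsZero ((homologyFunctor (ModuleCat.{u} A) i).obj
            ((𝟭 (DerivedCategory (ModuleCat.{u} A))).obj N)) :=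
          ModuleCat.isZero_of_subsingleton _
        have hz' := hz.of_iso (asIso ((homologyFunctor (ModuleCat.{u} A) i).map
              ((tt.truncLTι (j₀ + (n : ℤ))).app N)))
        exact ModuleCat.subsingleton_of_isZero hz'
    -- the right part
    have h3 : Subsingleton ((tt.truncGE (j₀ + (n : ℤ))).obj N ⟶ Y) := by
      have hG : ∀ i : ℤ, i ≠ j₀ + (n : ℤ) →
          Subsingleton (Dual.HD A ((tt.truncGE (j₀ + (n : ℤ))).obj N) i) := by
        intro i hi
        by_cases hlt : i < j₀ + (n : ℤ)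
        · have hz : IsZero ((homologyFunctor (ModuleCat.{u} A) i).obj
              ((tt.truncGE (j₀ + (n : ℤ))).obj N)) := isZero_of_isGE _ (j₀ + (n : ℤ)) i hlt
          exact ModuleCat.subsingleton_of_isZero hz
        · have j1 := isIso_homology_truncGEπ (j₀ + (n : ℤ)) i (by omega) N
          haveI : Subsingleton ((homologyFunctor (ModuleCat.{u} A) i).obj
              ((𝟭 (DerivedCategory (ModuleCat.{u} A))).obj N)) := hb i (by push_cast; omega)
          have hz : IsZero ((homologyFunctor (ModuleCat.{u} A) i).obj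
              ((𝟭 (DerivedCategory (ModuleCat.{u} A))).obj N)) :=
            ModuleCat.isZero_of_subsingleton _
          have hz' := hz.of_iso (asIso ((homologyFunctor (ModuleCat.{u} A) i).map
              ((tt.truncGEπ (j₀ + (n : ℤ))).app N))).symm
          exact ModuleCat.subsingleton_of_isZero hz'
      obtain ⟨M, ⟨e⟩, -⟩ := exists_iso_single_of_HD _ (j₀ + (n : ℤ)) hG
      have := hY M (j₀ + (n : ℤ)) (by omega)
      exact (e.homFromEquiv (Z := Y)).subsingleton_congr.2 this
    refine ⟨fun f g => ?_⟩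
    have key : ∀ f : N ⟶ Y, f = 0 := by
      intro f
      obtain ⟨g, hg⟩ := Triangle.yoneda_exact₂ _ hT f (h1.elim _ _)
      have hg0 : g = 0 := h3.elim g 0
      rw [hg, hg0]
      exact comp_zero
    rw [key f, key g]

end Dev

section Large

variable [IsNoetherianRing A] (I : Cx A) [I.IsKInjective]
  (hω : Dual.IsDualizing A (DerivedCategory.Q.obj I))

include hω in
/-- vanishing of `T^i(M)` for large `i` -/
theorem van_large : ∃ N₀ : ℤ, ∀ (i : ℤ), N₀ < i → ∀ (M : ModuleCat.{u} A),
    Subsingleton (RH I M ⟶ (DerivedCategory.Q.obj I)⟦i⟧) := by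
  obtain ⟨a, b, hab⟩ := hω.finite_injective_dimension
  refine ⟨b - a, fun i hi M => ?_⟩
  refine subsingleton_hom_of_bounded_gen ((DerivedCategory.Q.obj I)⟦i⟧) a ?_ (b - a + 1).toNat
    (RH I M) ?_ ?_
  · intro M' j hj
    have h1 : Subsingleton (Dual.inD A M' ⟶ (DerivedCategory.Q.obj I)⟦i + j⟧) :=
      hab M' (i + j) (Or.inr (by omega))
    have h2 : Subsingleton (sg M' ⟶ ((DerivedCategory.Q.obj I)⟦i⟧)⟦j⟧) :=
      (((shiftFunctorAdd' (Dual.D A) i j (i + j) rfl).app (DerivedCategory.Q.obj I)).homToEquiv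
        (Z := sg M')).subsingleton_congr.1 h1
    have h3 : Subsingleton ((sg M')⟦-j⟧ ⟶ (DerivedCategory.Q.obj I)⟦i⟧) :=
      (shiftHomEquiv (sg M') ((DerivedCategory.Q.obj I)⟦i⟧) j).subsingleton_congr.2 h2
    let σ : (sg M')⟦-j⟧ ≅ (DerivedCategory.singleFunctor (ModuleCat.{u} A) j).obj M' :=
      ((DerivedCategory.singleFunctors (ModuleCat.{u} A)).shiftIso (-j) j 0 (by omega)).app M'
    exact (σ.homFromEquiv (Z := (DerivedCategory.Q.obj I)⟦i⟧)).subsingleton_congr.1 h3
  · intro j hj
    have hj' : b < j := by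
      have := Int.self_le_toNat (b - a + 1)
      omega
    exact subsingleton_HD_RH I M j (hab M j (Or.inr hj'))
  · intro j hj
    exact subsingleton_HD_RH I M j (hab M j (Or.inl hj))

end Large

end Groth.Agent.Lib.H6xBid
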