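import Mathlib
import Groth.Agent.Lib.H6xBidE
set_option backward.isDefEq.respectTransparency.types false

/-!
# Biduality for finitely generated modules over a Noetherian ring with a dualizing complex (helper6)

For a K-injective complex of injectives `I` whose image `Q I` in `D(A)` is a dualizing complex, and a
finitely generated module `M`: `Hom_{D(A)}(RHom(M, ω), ω⟦i⟧) = 0` for `i ≠ 0`, and the evaluation
`M → Hom_{D(A)}(RHom(M, ω), ω)` is bijective.
-/

set_option autoImplicit false
set_option linter.style.haveILetI false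
universe u

namespace Groth.Agent.Lib.H6xBid

open CategoryTheory CategoryTheory.Limits Category Opposite Pretriangulated DerivedCategory
open Groth.Agent.Lib.H6xRGam Groth.Agent.Lib.H6xDual Groth.Agent.Lib.H6xCoext
attribute [local instance] HasDerivedCategory.standard

variable {A : Type u} [CommRing A] [IsNoetherianRing A] (I : Cx A) [I.IsKInjective]
  (hI : ∀ n, Injective (I.X n)) (hω : Dual.IsDualizing A (DerivedCategory.Q.obj I))

include hI hω

theorem van_pos' (i : ℤ) (hi : 0 < i) (M : Type u) [AddCommGroup M] [Module A M]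
    [Module.Finite A M] :
    Subsingleton (RH I (ModuleCat.of A M) ⟶ (DerivedCategory.Q.obj I)⟦i⟧) := by
  obtain ⟨N₀, hN₀⟩ := van_large I hω
  exact van_pos I hI hω N₀ (fun i hi N _ _ _ => hN₀ i hi _) i hi M

theorem ev_bijective (M : Type u) [AddCommGroup M] [Module A M] [Module.Finite A M] :
    Function.Bijective (ev I (ModuleCat.of A M)) :=
  ⟨ev_injective I hI hω (fun N _ _ _ => van_pos' I hI hω 1 one_pos N) M,
    ev_surjective I hI hω (fun N _ _ _ => van_pos' I hI hω 1 one_pos N) M⟩

theorem van_neg_one (M : Type u) [AddCommGroup M] [Module A M] [Module.Finite A M] :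
    Subsingleton (RH I (ModuleCat.of A M) ⟶ (DerivedCategory.Q.obj I)⟦(-1 : ℤ)⟧) :=
  (shiftHomEquiv1 (RH I (ModuleCat.of A M)) (DerivedCategory.Q.obj I)).subsingleton_congr.1
    (vanS I hI hω (fun N _ _ _ => van_pos' I hI hω 1 one_pos N) M)

theorem van_neg (i : ℤ) (hi : i < 0) (M : Type u) [AddCommGroup M] [Module A M]
    [Module.Finite A M] :
    Subsingleton (RH I (ModuleCat.of A M) ⟶ (DerivedCategory.Q.obj I)⟦i⟧) := by
  have key : ∀ (n : ℕ) (i : ℤ), i < 0 → -(n : ℤ) - 1 ≤ i →
      ∀ (N : Type u) [AddCommGroup N] [Module A N] [Module.Finite A N],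
      Subsingleton (RH I (ModuleCat.of A N) ⟶ (DerivedCategory.Q.obj I)⟦i⟧) := by
    intro n
    induction n with
    | zero =>
      intro i hi hb N _ _ _
      obtain rfl : i = -1 := by
        push_cast at hb
        omega
      exact van_neg_one I hI hω N
    | succ n ih =>
      intro i hi hb N _ _ _
      by_cases h1 : i = -1
      · subst h1
        exact van_neg_one I hI hω N
      · exact van_step I hI hω i (by omega)
          (fun N' _ _ _ => ih (i + 1) (by omega) (by push_cast at hb; omega) N') N
  exact key (-i).toNat i hi (by omega) M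

/-- **Biduality** for finitely generated modules. -/
theorem biduality (M : Type u) [AddCommGroup M] [Module A M] [Module.Finite A M] :
    (∀ i : ℤ, i ≠ 0 →
      Subsingleton (RH I (ModuleCat.of A M) ⟶ (DerivedCategory.Q.obj I)⟦i⟧)) ∧
      Function.Bijective (ev I (ModuleCat.of A M)) := by
  refine ⟨fun i hi => ?_, ev_bijective I hI hω M⟩
  rcases lt_or_gt_of_ne hi with h | h
  · exact van_neg I hI hω i h M
  · exact van_pos' I hI hω i h M

end Groth.Agent.Lib.H6xBid
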