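import Mathlib
import Groth.Agent.Lib.H6xBidF
set_option backward.isDefEq.respectTransparency.types false

/-!
# Invariance of dualizing complexes under isomorphism (helper6)
-/

set_option autoImplicit false
set_option linter.style.haveILetI false
universe u

namespace Groth.Agent.Lib.H6xBid

open CategoryTheory CategoryTheory.Limits Category Opposite Pretriangulated DerivedCategory
attribute [local instance] HasDerivedCategory.standard

variable {A : Type u} [CommRing A] {ω ω' : Dual.D A} (e : ω ≅ ω')

include e in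
lemma toEnd_bijective_of_iso (h : Function.Bijective (fun a : A => a • 𝟙 ω)) :
    Function.Bijective (fun a : A => a • 𝟙 ω') := by
  constructor
  · intro a a' haa
    apply h.1
    change a • 𝟙 ω = a' • 𝟙 ω
    have h1 : a • 𝟙 ω' = a' • 𝟙 ω' := haa
    have h2 : ∀ c : A, c • 𝟙 ω = e.hom ≫ (c • 𝟙 ω') ≫ e.inv := by
      intro c
      rw [Linear.smul_comp, Linear.comp_smul, id_comp, e.hom_inv_id]
    rw [h2 a, h2 a', h1]
  · intro t
    obtain ⟨a, ha⟩ := h.2 (e.hom ≫ t ≫ e.inv)
    refine ⟨a, ?_⟩
    change a • 𝟙 ω = _ at ha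
    change a • 𝟙 ω' = t
    have h2 : a • 𝟙 ω' = e.inv ≫ (a • 𝟙 ω) ≫ e.hom := by
      rw [Linear.smul_comp, Linear.comp_smul, id_comp, e.inv_hom_id]
    rw [h2, ha]
    simp

include e in
lemma ext_self_subsingleton_of_iso (i : ℤ) (h : Subsingleton (ω ⟶ ω⟦i⟧)) :
    Subsingleton (ω' ⟶ ω'⟦i⟧) :=
  ((e.homFromEquiv (Z := ω⟦i⟧)).trans
    (((shiftFunctor (Dual.D A) i).mapIso e).homToEquiv (Z := ω'))).subsingleton_congr.1 h

include e in
theorem isDualizing_of_iso (hω : Dual.IsDualizing A ω) : Dual.IsDualizing A ω' where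
  isNoetherianRing := hω.isNoetherianRing
  finite_injective_dimension := by
    obtain ⟨a, b, hab⟩ := hω.finite_injective_dimension
    refine ⟨a, b, fun M _ _ i hi => ?_⟩
    exact (((shiftFunctor (Dual.D A) i).mapIso e).homToEquiv
      (Z := Dual.inD A M)).subsingleton_congr.1 (hab M i hi)
  finite_cohomology := fun i => by
    haveI := hω.finite_cohomology i
    exact Module.Finite.equiv
      ((DerivedCategory.homologyFunctor (ModuleCat.{u} A) i).mapIso e).toLinearEquiv
  toEnd_bijective := toEnd_bijective_of_iso e hω.toEnd_bijective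
  ext_self_subsingleton := fun i hi =>
    ext_self_subsingleton_of_iso e i (hω.ext_self_subsingleton i hi)

end Groth.Agent.Lib.H6xBid
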