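import Mathlib
import Groth.Agent.Lib.H6xBidG
set_option backward.isDefEq.respectTransparency.types false

/-!
# Coextension of scalars as `Hom_A(B, -)` (helper6)
-/

set_option autoImplicit false
set_option linter.style.haveILetI false
universe u

namespace Groth.Agent.Lib.H6xBid

open CategoryTheory CategoryTheory.Limits Category Opposite
open Groth.Agent.Lib.H6xRGam Groth.Agent.Lib.H6xCoext

variable {A B : Type u} [CommRing A] [CommRing B] (φ : A →+* B)

/-- `B` as an `A`-module -/
noncomputable abbrev Bm : ModuleCat.{u} A := (Fr φ).obj (ModuleCat.of B B)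

/-- a linear map out of `B` as a morphism of `ModuleCat A` -/
noncomputable def toHom {X : ModuleCat.{u} A} (l : (Fr φ).obj (ModuleCat.of B B) →ₗ[A] X) :
    Bm φ ⟶ X :=
  @ModuleCat.ofHom A _ (Bm φ) X _ _ _ _ l

lemma toHom_hom {X : ModuleCat.{u} A} (l : (Fr φ).obj (ModuleCat.of B B) →ₗ[A] X) :
    (toHom φ l).hom = l := rfl

/-- `Hom_A(B, X)` with its `A`-module structure restricted from `B`, compared with `Hom_A(B, X)` -/
noncomputable def κ (X : ModuleCat.{u} A) : (Fr φ).obj ((Gc φ).obj X) ⟶ (Dfun (Bm φ)).obj X :=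
  ModuleCat.ofHom (X := (Fr φ).obj ((Gc φ).obj X)) (Y := (Dfun (Bm φ)).obj X)
    { toFun := fun g => toHom φ (ModuleCat.CoextendScalars.equiv φ X g)
      map_add' := fun g g' => rfl
      map_smul' := fun a g => by
        apply ModuleCat.hom_ext
        apply LinearMap.ext
        intro s
        change (ModuleCat.CoextendScalars.equiv φ X g) (((show B from s) * φ a : B)) =
          a • (ModuleCat.CoextendScalars.equiv φ X g) s
        rw [← LinearMap.map_smul]
        congr 1
        exact mul_comm (show B from s) (φ a) }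

lemma κ_apply (X : ModuleCat.{u} A) (g : (Fr φ).obj ((Gc φ).obj X)) :
    (κ φ X).hom g = toHom φ (ModuleCat.CoextendScalars.equiv φ X g) := rfl

lemma κ_bijective (X : ModuleCat.{u} A) : Function.Bijective (κ φ X).hom := by
  constructor
  · intro g g' h
    apply ModuleCat.CoextendScalars.ext
    rw [κ_apply, κ_apply] at h
    exact congrArg ModuleCat.Hom.hom h
  · intro l
    refine ⟨(ModuleCat.CoextendScalars.equiv φ X).symm l.hom, ?_⟩
    rw [κ_apply, LinearEquiv.apply_symm_apply]
    rfl

section Complex

variable (I : Cx A)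

/-- the complex `Hom_A(B, I)` of `B`-modules -/
noncomputable abbrev GI : CochainComplex (ModuleCat.{u} B) ℤ :=
  ((Gc φ).mapHomologicalComplex (ComplexShape.up ℤ)).obj I

/-- the comparison `Hom_A(B, I)|_A ⟶ Hom_A(B, I)` of complexes of `A`-modules -/
noncomputable def κc :
    ((Fr φ).mapHomologicalComplex (ComplexShape.up ℤ)).obj (GI φ I) ⟶ Dcx I (Bm φ) where
  f n := κ φ (I.X n)
  comm' i j _ := by
    ext g
    apply ModuleCat.hom_ext
    apply LinearMap.ext
    intro s
    rfl

lemma isIso_κc : IsIso (κc φ I) := by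
  haveI : ∀ n, IsIso ((κc φ I).f n) := fun n =>
    (ConcreteCategory.isIso_iff_bijective _).2 (κ_bijective φ (I.X n))
  exact HomologicalComplex.Hom.isIso_of_components _

/-- an element of `B` as an element of the `A`-module `B` -/
def toBm (b : B) : Bm φ := b

lemma toBm_bijective : Function.Bijective (toBm φ) := Function.bijective_id

/-- evaluation at `b` corresponds to the counit precomposed with multiplication by `b` -/
lemma κc_evc (b : B) :
    κc φ I ≫ evc I (Bm φ) (toBm φ b) =
      ((Fr φ).mapHomologicalComplex (ComplexShape.up ℤ)).map (b • 𝟙 (GI φ I)) ≫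
        (Groth.Agent.Lib.Helper17.SerreLoc.adjHC (adjFG φ) (ComplexShape.up ℤ)).counit.app I := by
  ext n g
  change (ModuleCat.CoextendScalars.equiv φ (I.X n) g) b =
    (ModuleCat.CoextendScalars.equiv φ (I.X n) g) ((1 : B) * b)
  rw [one_mul]

end Complex

end Groth.Agent.Lib.H6xBid
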