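import Mathlib
import Groth.Agent.Lib.H6xBidH
set_option backward.isDefEq.respectTransparency.types false

/-!
# `R(ω)` is dualizing for `R` right adjoint to restriction along a finite map (helper6)
-/

set_option autoImplicit false
set_option linter.style.haveILetI false
universe u

namespace Groth.Agent.Lib.H6xBid

open CategoryTheory CategoryTheory.Limits Category Opposite
open Groth.Agent.Lib.H6xRGam Groth.Agent.Lib.H6xCoext Groth.Agent.Lib.H6xDual
open Groth.Agent.Lib.Helper17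
attribute [local instance] HasDerivedCategory.standard

section Formal

variable {A B : Type u} [CommRing A] [CommRing B] (φ : A →+* B)
  (RG : Dual.D A ⥤ Dual.D B)
  (β : (Gc φ).mapHomologicalComplex (ComplexShape.up ℤ) ⋙ DerivedCategory.Q ⟶
    DerivedCategory.Q ⋙ RG)
  [RG.IsRightDerivedFunctor β (HomologicalComplex.quasiIso (ModuleCat.{u} A) (ComplexShape.up ℤ))]
  (I : Cx A) [I.IsKInjective]

/-- the derived adjunction -/
noncomputable abbrev adjD : DRing.restrictD φ ⊣ RG :=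
  KInj.derivedAdjunction.{u} (Fr φ) (Gc φ) (adjFG φ) RG β

/-- the object `Q(Hom_A(B, I))` of `D(B)` -/
noncomputable abbrev ΩB : Dual.D B := DerivedCategory.Q.obj (GI φ I)

/-- the restriction of `ΩB` to `A` is `RHom_A(B, ω)` -/
noncomputable def τ : (DRing.restrictD φ).obj (ΩB φ I) ≅ RH I (Bm φ) :=
  haveI := isIso_κc φ I
  (Fr φ).mapDerivedCategoryFactors.app (GI φ I) ≪≫ DerivedCategory.Q.mapIso (asIso (κc φ I))

lemma τ_hom : (τ φ I).hom = (Fr φ).mapDerivedCategoryFactors.hom.app (GI φ I) ≫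
    DerivedCategory.Q.map (κc φ I) := rfl

omit [I.IsKInjective] in
lemma isIso_β_app [I.IsKInjective] : IsIso (β.app I) :=
  KInj.isIso_app_of_isKInjective.{u} (Gc φ) RG β I

/-- the adjunction bijection -/
noncomputable def Λ (X : Dual.D B) :
    (X ⟶ ΩB φ I) ≃ ((DRing.restrictD φ).obj X ⟶ DerivedCategory.Q.obj I) :=
  haveI : IsIso (β.app I) := isIso_β_app φ RG β I
  ((asIso (β.app I)).homToEquiv (Z := X)).trans
    ((adjD φ RG β).homEquiv X (DerivedCategory.Q.obj I)).symm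

lemma Λ_apply (X : Dual.D B) (g : X ⟶ ΩB φ I) :
    Λ φ RG β I X g = (DRing.restrictD φ).map (g ≫ β.app I) ≫
      (adjD φ RG β).counit.app (DerivedCategory.Q.obj I) := by
  unfold Λ
  simp only [Equiv.trans_apply, Adjunction.homEquiv_counit]
  rfl

lemma Λ_smul_id (b : B) :
    Λ φ RG β I (ΩB φ I) (b • 𝟙 _) = (τ φ I).hom ≫ ev I (Bm φ) (toBm φ b) := by
  have h1 : b • 𝟙 (ΩB φ I) = DerivedCategory.Q.map (b • 𝟙 (GI φ I)) := by
    rw [Functor.map_smul, CategoryTheory.Functor.map_id]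
  have h2 := KInj.derivedAdjunction_counit_fac.{u} (Fr φ) (Gc φ) (adjFG φ) RG β I
  have h3 := (Fr φ).mapDerivedCategoryFactors.hom.naturality (b • 𝟙 (GI φ I))
  dsimp only [Functor.comp_map] at h3
  rw [Λ_apply, Functor.map_comp, assoc, h2, h1, ← assoc, h3, assoc, ← Functor.map_comp,
    ← κc_evc, Functor.map_comp, τ_hom, assoc]
  rfl

include β in
theorem toEnd_bijective_ΩB (hev : Function.Bijective (ev I (Bm φ))) :
    Function.Bijective (fun b : B => b • 𝟙 (ΩB φ I)) := by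
  constructor
  · intro b b' hbb
    have h1 : b • 𝟙 (ΩB φ I) = b' • 𝟙 (ΩB φ I) := hbb
    have h2 := congrArg (Λ φ RG β I (ΩB φ I)) h1
    rw [Λ_smul_id, Λ_smul_id] at h2
    exact (toBm_bijective φ).1 (hev.1 ((cancel_epi (τ φ I).hom).1 h2))
  · intro t
    obtain ⟨x, hx⟩ := hev.2 ((τ φ I).inv ≫ Λ φ RG β I (ΩB φ I) t)
    obtain ⟨b, rfl⟩ := (toBm_bijective φ).2 x
    refine ⟨b, ?_⟩
    apply (Λ φ RG β I (ΩB φ I)).injective
    change Λ φ RG β I (ΩB φ I) (b • 𝟙 _) = _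
    rw [Λ_smul_id, hx, Iso.hom_inv_id_assoc]

include β in
theorem ext_self_ΩB (i : ℤ)
    (h : Subsingleton (RH I (Bm φ) ⟶ (DerivedCategory.Q.obj I)⟦i⟧)) :
    Subsingleton (ΩB φ I ⟶ (ΩB φ I)⟦i⟧) := by
  have h1 : Subsingleton ((DRing.restrictD φ).obj (ΩB φ I) ⟶ (DerivedCategory.Q.obj I)⟦i⟧) :=
    ((τ φ I).homFromEquiv (Z := (DerivedCategory.Q.obj I)⟦i⟧)).subsingleton_congr.2 h
  have h2 : Subsingleton (((DRing.restrictD φ).obj (ΩB φ I))⟦-i⟧ ⟶ DerivedCategory.Q.obj I) :=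
    (shiftHomEquiv _ _ i).subsingleton_congr.2 h1
  have h3 : Subsingleton ((DRing.restrictD φ).obj ((ΩB φ I)⟦-i⟧) ⟶ DerivedCategory.Q.obj I) :=
    ((((DRing.restrictD φ).commShiftIso (-i)).app (ΩB φ I)).homFromEquiv
      (Z := DerivedCategory.Q.obj I)).subsingleton_congr.2 h2
  have h4 : Subsingleton ((ΩB φ I)⟦-i⟧ ⟶ ΩB φ I) :=
    (Λ φ RG β I ((ΩB φ I)⟦-i⟧)).subsingleton_congr.2 h3
  exact (shiftHomEquiv _ _ i).subsingleton_congr.1 h4

end Formal

end Groth.Agent.Lib.H6xBid
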