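import Mathlib
import Groth.Agent.Lib.H6xBidI
set_option backward.isDefEq.respectTransparency.types false

/-!
# `R(ω)` is dualizing for `R` right adjoint to restriction along a finite map: the theorem (helper6)
-/

set_option autoImplicit false
set_option linter.style.haveILetI false
universe u

namespace Groth.Agent.Lib.H6xBid

open CategoryTheory CategoryTheory.Limits Category Opposite
open Groth.Agent.Lib.H6xRGam Groth.Agent.Lib.H6xCoext Groth.Agent.Lib.H6xDual
open Groth.Agent.Lib.Helper17
attribute [local instance] HasDerivedCategory.standard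

/-- **S1772** -/
theorem isDualizing_rightAdjoint (A B : Type u) [CommRing A] [CommRing B] [Algebra A B]
    [IsNoetherianRing A] [IsNoetherianRing B] [Module.Finite A B] (R : Dual.D A ⥤ Dual.D B)
    (adj : DRing.restrictD (algebraMap A B) ⊣ R) (ω : Dual.D A) (hω : Dual.IsDualizing A ω) :
    Dual.IsDualizing B (R.obj ω) := by
  obtain ⟨RG, β, hβ⟩ := exists_RG (algebraMap A B)
  let adj' : DRing.restrictD (algebraMap A B) ⊣ RG := adjD (algebraMap A B) RG β
  let iso0 : R ≅ RG := adj.rightAdjointUniq adj'
  obtain ⟨I, hIK, hinj, ⟨e⟩⟩ := exists_kInj_iso ω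
  haveI := hIK
  have hI : ∀ n, Injective (I.X n) := fun n => injective_of_moduleInjective _ (hinj n)
  have hωI : Dual.IsDualizing A (DerivedCategory.Q.obj I) := isDualizing_of_iso e hω
  haveI : Module.Finite A (Bm (algebraMap A B)) :=
    Module.Finite.equiv (restrictSelfEquiv (A := A) (B := B)).symm
  obtain ⟨hvan, hev⟩ := biduality I hI hωI (Bm (algebraMap A B))
  haveI : IsIso (β.app I) := isIso_β_app (algebraMap A B) RG β I
  let ρ : ΩB (algebraMap A B) I ≅ R.obj ω :=
    asIso (β.app I) ≪≫ (RG.mapIso e).symm ≪≫ (iso0.app ω).symm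
  obtain ⟨a, b, hab⟩ := hω.finite_injective_dimension
  refine ⟨inferInstance, ⟨a, b, fun N _ _ i hi => ?_⟩, fun i => ?_, ?_, fun i hi => ?_⟩
  · exact (Φ R adj (ModuleCat.of B N) (rN (A := A) (ModuleCat.of B N)) (Iso.refl _)
      ω i).subsingleton_congr.2 (hab (rN (A := A) (ModuleCat.of B N)) i hi)
  · exact finite_HD_rightAdjoint R adj ω i a
      (fun j hj => subsingleton_HD_of_subsingleton_hom ω j (hab A j (Or.inl hj)))
      hω.finite_cohomology
  · exact toEnd_bijective_of_iso ρ (toEnd_bijective_ΩB (algebraMap A B) RG β I hev)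
  · exact ext_self_subsingleton_of_iso ρ i (ext_self_ΩB (algebraMap A B) RG β I i (hvan i hi))

end Groth.Agent.Lib.H6xBid
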