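import Mathlib
import Groth.Agent.Lib.H6xBidJ
import Groth.Agent.Lib.Helper19ArtBasic
set_option backward.isDefEq.respectTransparency.types false

/-!
# `R(ω)` is normalized for a finite local homomorphism (helper6)
-/

set_option autoImplicit false
set_option linter.style.haveILetI false
universe u

namespace Groth.Agent.Lib.H6xBid

open CategoryTheory CategoryTheory.Limits Category Opposite
open Groth.Agent.Lib.H6xRGam Groth.Agent.Lib.H6xCoext Groth.Agent.Lib.H6xDual
attribute [local instance] HasDerivedCategory.standard

section

variable {A B : Type u} [CommRing A] [CommRing B] [Algebra A B]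

/-- the restriction of a `B`-module `N` which is also an `A`-module compatibly -/
noncomputable def restrictEquiv (N : Type u) [AddCommGroup N] [Module B N] [Module A N]
    [IsScalarTower A B N] :
    (rN (A := A) (ModuleCat.of B N)) ≃ₗ[A] N where
  toFun := fun x => x
  invFun := fun x => x
  left_inv := fun _ => rfl
  right_inv := fun _ => rfl
  map_add' := fun _ _ => rfl
  map_smul' := fun a x => by
    have h := algebraMap_smul (R := A) B a (show N from x)
    exact h

end

/-- **S1773** -/
theorem isNormalized_rightAdjoint (A B : Type u) [CommRing A] [CommRing B] [IsLocalRing A]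
    [IsLocalRing B] [Algebra A B] [IsNoetherianRing A] [IsNoetherianRing B] [Module.Finite A B]
    (R : Dual.D A ⥤ Dual.D B) (adj : DRing.restrictD (algebraMap A B) ⊣ R) (ω : Dual.D A)
    (hn : Dual.IsNormalized A ω) : Dual.IsNormalized B (R.obj ω) := by
  intro i hi
  haveI : Module.Finite A (IsLocalRing.ResidueField B) :=
    Module.Finite.trans B (IsLocalRing.ResidueField B)
  have hfl : IsFiniteLength A (IsLocalRing.ResidueField B) :=
    Groth.Agent.Lib.Helper19.isFiniteLength_residue
  have h1 : Subsingleton (Dual.inD A (IsLocalRing.ResidueField B) ⟶ ω⟦i⟧) :=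
    subsingleton_hom_of_isFiniteLength (ω⟦i⟧) (hn i hi) (IsLocalRing.ResidueField B) hfl
  exact (Φ R adj (ModuleCat.of B (IsLocalRing.ResidueField B))
    (ModuleCat.of A (IsLocalRing.ResidueField B))
    (restrictEquiv (A := A) (B := B) (IsLocalRing.ResidueField B)).symm.toModuleIso
    ω i).subsingleton_congr.2 h1

end Groth.Agent.Lib.H6xBid
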