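import Mathlib
import Groth.Agent.Lib.H6xBidK
set_option backward.isDefEq.respectTransparency.types false

/-!
# `Hom(A, K⟦q⟧) ≃ H^q(K)` and morphisms from single complexes in arbitrary degree (helper6)
-/

set_option autoImplicit false
set_option linter.style.haveILetI false
universe u

namespace Groth.Agent.Lib.H6xBid

open CategoryTheory CategoryTheory.Limits Category Opposite HomologicalComplex CochainComplex
open Groth.Agent.Lib.H6xRGam Groth.Agent.Lib.H6xCoext Groth.Agent.Lib.H6xDual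
open Groth.Agent.Lib.Helper17 CochainComplex.HomComplex
attribute [local instance] HasDerivedCategory.standard

variable {A : Type u} [CommRing A]

section PsiP

variable (E : Cx A)

/-- the morphism `Q(M[-p]) ⟶ (Q E)⟦n⟧` attached to `f : M ⟶ E.X q` with `f ≫ d = 0`, `p + n = q` -/
noncomputable def ψp {M : ModuleCat.{u} A} {p q n : ℤ} (h : p + n = q) (f : M ⟶ E.X q)
    (hf : f ≫ E.d q (q + 1) = 0) :
    DerivedCategory.Q.obj ((CochainComplex.singleFunctor (ModuleCat.{u} A) p).obj M) ⟶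
      (DerivedCategory.Q.obj E)⟦n⟧ :=
  DerivedCategory.Q.map (Cocycle.equivHomShift.symm (Cocycle.fromSingleMk f h (q + 1) rfl hf)) ≫
    (DerivedCategory.Q.commShiftIso n).hom.app E

lemma ψp_eq_zero_iff [E.IsKInjective] {M : ModuleCat.{u} A} {p q n : ℤ} (h : p + n = q)
    (f : M ⟶ E.X q) (hf : f ≫ E.d q (q + 1) = 0) :
    ψp E h f hf = 0 ↔ ∃ k : M ⟶ E.X (q - 1), k ≫ E.d (q - 1) q = f := by
  rw [← Cocycle.fromSingleMk_mem_coboundaries_iff f h (q + 1) rfl hf (q - 1) (by simp),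
    ← CohomologyClass.toHom_mk_eq_zero_iff, CohomologyClass.toHom_mk,
    HomotopyCategory.quotient_map_eq_zero_iff]
  unfold ψp
  constructor
  · intro h0
    have h1 : DerivedCategory.Q.map (Cocycle.equivHomShift.symm
        (Cocycle.fromSingleMk f h (q + 1) rfl hf)) = DerivedCategory.Q.map 0 := by
      rw [Functor.map_zero, ← cancel_mono ((DerivedCategory.Q.commShiftIso n).hom.app E), h0,
        zero_comp]
    exact KInj.homotopy_of_Q_map_eq h1
  · rintro ⟨H⟩
    rw [DerivedCategory.Q_map_eq_of_homotopy _ H, Functor.map_zero, zero_comp]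

end PsiP

section HomHD

variable (E : Cx A) [E.IsKInjective] (q : ℤ)

lemma evZ_eq_zero_of_homologyπ (z : E.cycles q) (h : (E.homologyπ q).hom z = 0) :
    evZ E q z = 0 := by
  obtain ⟨w, hw⟩ := exists_of_homologyπ_eq_zero' E q z h
  refine (Ψ_eq_zero_iff E q (fz E q z) (fz_d E q z)).2
    ⟨ModuleCat.ofHom (LinearMap.toSpanSingleton A (E.X (q - 1)) w), ?_⟩
  apply ModuleCat.hom_ext
  apply LinearMap.ext_ring
  change (E.d (q - 1) q).hom ((1 : A) • w) = (1 : A) • (E.iCycles q).hom z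
  rw [one_smul, one_smul, ← hw, iCycles_toCycles']

lemma ker_evZ : LinearMap.ker (evZ E q) = LinearMap.ker (E.homologyπ q).hom := by
  ext z
  rw [LinearMap.mem_ker, LinearMap.mem_ker]
  exact ⟨homologyπ_eq_zero_of_evZ E q z, evZ_eq_zero_of_homologyπ E q z⟩

/-- `Hom(A[0], (Q E)⟦q⟧) ≃ H^q(E)` -/
noncomputable def homEquivHomology :
    (SM (ModuleCat.of A A) ⟶ (DerivedCategory.Q.obj E)⟦q⟧) ≃ₗ[A] E.homology q :=
  ((evZ E q).quotKerEquivOfSurjective (evZ_surjective E q)).symm ≪≫ₗ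
    (Submodule.quotEquivOfEq _ _ (ker_evZ E q)) ≪≫ₗ
    ((E.homologyπ q).hom.quotKerEquivOfSurjective (homologyπ_surjective' E q))

end HomHD

/-- `Hom(A[0], K⟦q⟧) ≃ H^q(K)` -/
theorem nonempty_hom_linearEquiv_HD (K : Dual.D A) (q : ℤ) :
    Nonempty ((Dual.inD A A ⟶ K⟦q⟧) ≃ₗ[A] Dual.HD A K q) := by
  obtain ⟨E, hE, -, ⟨e⟩⟩ := exists_kInj_iso K
  haveI := hE
  let e1 : (Dual.inD A A ⟶ K⟦q⟧) ≃ₗ[A] (SM (ModuleCat.of A A) ⟶ (DerivedCategory.Q.obj E)⟦q⟧) :=
    { toFun := fun g => g ≫ (CategoryTheory.shiftFunctor (Dual.D A) q).map e.hom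
      invFun := fun g => g ≫ (CategoryTheory.shiftFunctor (Dual.D A) q).map e.inv
      left_inv := fun g => by
        change (g ≫ _) ≫ _ = g
        rw [assoc, ← Functor.map_comp, e.hom_inv_id, CategoryTheory.Functor.map_id, comp_id]
      right_inv := fun g => by
        change (g ≫ _) ≫ _ = g
        rw [assoc, ← Functor.map_comp, e.inv_hom_id, CategoryTheory.Functor.map_id, comp_id]
      map_add' := fun g g' => Preadditive.add_comp _ _ _ g g' _
      map_smul' := fun a g => Linear.smul_comp _ _ _ a g _ }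
  exact ⟨e1 ≪≫ₗ homEquivHomology E q ≪≫ₗ (HDIso E q).symm ≪≫ₗ
    ((DerivedCategory.homologyFunctor (ModuleCat.{u} A) q).mapIso e.symm).toLinearEquiv⟩

end Groth.Agent.Lib.H6xBid
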