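import Mathlib
import Groth.Agent.Lib.H6xBidL
set_option backward.isDefEq.respectTransparency.types false

/-!
# Dualizing complexes over a field (helper6)
-/

set_option autoImplicit false
set_option linter.style.haveILetI false
universe u

namespace Groth.Agent.Lib.H6xBid

open CategoryTheory CategoryTheory.Limits Category Opposite HomologicalComplex
open Groth.Agent.Lib.H6xRGam Groth.Agent.Lib.H6xCoext Groth.Agent.Lib.H6xDual
attribute [local instance] HasDerivedCategory.standard

section Split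

variable {A : Type u} [CommRing A] (J : Cx A) [J.IsKInjective]

/-- the projection of `J` to its cohomology in degree `t`, given a retraction -/
noncomputable def Pt (t : ℤ) (r : J.X t ⟶ J.homology t) (hr : J.iCycles t ≫ r = J.homologyπ t) :
    J ⟶ (HomologicalComplex.single (ModuleCat.{u} A) (ComplexShape.up ℤ) t).obj (J.homology t) :=
  HomologicalComplex.mkHomToSingle r (fun i _ => by
    rw [← J.toCycles_i i t, assoc, hr, J.toCycles_comp_homologyπ])

/-- the inclusion of the cohomology in degree `t` into `J`, given a section -/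
noncomputable def Jt (t : ℤ) (σ : J.homology t ⟶ J.cycles t) :
    (HomologicalComplex.single (ModuleCat.{u} A) (ComplexShape.up ℤ) t).obj (J.homology t) ⟶ J :=
  HomologicalComplex.mkHomFromSingle (σ ≫ J.iCycles t) (fun k _ => by
    rw [assoc, J.iCycles_d, comp_zero])

omit [J.IsKInjective] in
lemma Jt_Pt (t : ℤ) (r : J.X t ⟶ J.homology t) (hr : J.iCycles t ≫ r = J.homologyπ t)
    (σ : J.homology t ⟶ J.cycles t) (hσ : σ ≫ J.homologyπ t = 𝟙 _) :
    Jt J t σ ≫ Pt J t r hr = 𝟙 _ := by
  apply HomologicalComplex.from_single_hom_ext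
  rw [HomologicalComplex.comp_f, HomologicalComplex.id_f]
  unfold Jt Pt
  rw [HomologicalComplex.mkHomFromSingle_f, HomologicalComplex.mkHomToSingle_f]
  simp only [assoc]
  rw [reassoc_of% hr, reassoc_of% hσ, Iso.hom_inv_id]

/-- if `Hom(Q J, (Q J)⟦n⟧) = 0` and `H^t(J)`, `H^s(J)` split off (`s = t + n`), then every map
`H^t(J) ⟶ H^s(J)` vanishes -/
theorem hom_homology_eq_zero (s t n : ℤ) (hn : t + n = s)
    (hJ : Subsingleton (DerivedCategory.Q.obj J ⟶ (DerivedCategory.Q.obj J)⟦n⟧))
    (r : J.X t ⟶ J.homology t) (hr : J.iCycles t ≫ r = J.homologyπ t)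
    (σt : J.homology t ⟶ J.cycles t) (hσt : σt ≫ J.homologyπ t = 𝟙 _)
    (σs : J.homology s ⟶ J.cycles s) (hσs : σs ≫ J.homologyπ s = 𝟙 _)
    (g : J.homology t ⟶ J.homology s) : g = 0 := by
  let w : J.homology t ⟶ J.X s := g ≫ σs ≫ J.iCycles s
  have hw : w ≫ J.d s (s + 1) = 0 := by
    change (g ≫ σs ≫ J.iCycles s) ≫ J.d s (s + 1) = 0
    rw [assoc, assoc, J.iCycles_d, comp_zero, comp_zero]
  have h1 : DerivedCategory.Q.map (Pt J t r hr) ≫ ψp J hn w hw = 0 := hJ.elim _ _
  have h2 : ψp J hn w hw = 0 := by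
    have h3 : DerivedCategory.Q.map (Jt J t σt) ≫ DerivedCategory.Q.map (Pt J t r hr) = 𝟙 _ := by
      rw [← Functor.map_comp, Jt_Pt J t r hr σt hσt, CategoryTheory.Functor.map_id]
    have h4 : (DerivedCategory.Q.map (Jt J t σt) ≫ DerivedCategory.Q.map (Pt J t r hr)) ≫
        ψp J hn w hw = ψp J hn w hw := by
      rw [h3]
      exact id_comp _
    calc ψp J hn w hw = (DerivedCategory.Q.map (Jt J t σt) ≫
          DerivedCategory.Q.map (Pt J t r hr)) ≫ ψp J hn w hw := h4.symm
      _ = DerivedCategory.Q.map (Jt J t σt) ≫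
          (DerivedCategory.Q.map (Pt J t r hr) ≫ ψp J hn w hw) := assoc _ _ _
      _ = DerivedCategory.Q.map (Jt J t σt) ≫ 0 := by rw [h1]
      _ = 0 := comp_zero
  obtain ⟨k, hk⟩ := (ψp_eq_zero_iff J hn w hw).1 h2
  have h4 : g ≫ σs = k ≫ J.toCycles (s - 1) s := by
    rw [← cancel_mono (J.iCycles s), assoc, assoc, J.toCycles_i]
    exact hk.symm
  have h5 : g = (g ≫ σs) ≫ J.homologyπ s := by
    rw [assoc, hσs, comp_id]
  rw [h5, h4, assoc, J.toCycles_comp_homologyπ, comp_zero]

end Split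

section Field

variable {κ : Type u} [Field κ]

lemma exists_retraction (J : Cx κ) (t : ℤ) :
    ∃ r : J.X t ⟶ J.homology t, J.iCycles t ≫ r = J.homologyπ t := by
  have hinj : LinearMap.ker (J.iCycles t).hom = ⊥ :=
    LinearMap.ker_eq_bot.2 (iCycles_injective' J t)
  obtain ⟨g, hg⟩ := LinearMap.exists_leftInverse_of_injective (J.iCycles t).hom hinj
  refine ⟨ModuleCat.ofHom g ≫ J.homologyπ t, ?_⟩
  have h1 : J.iCycles t ≫ ModuleCat.ofHom g = 𝟙 _ := by
    apply ModuleCat.hom_ext
    exact hg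
  rw [← assoc, h1, id_comp]

lemma exists_section (J : Cx κ) (s : ℤ) :
    ∃ σ : J.homology s ⟶ J.cycles s, σ ≫ J.homologyπ s = 𝟙 _ := by
  have hsurj : LinearMap.range (J.homologyπ s).hom = ⊤ :=
    LinearMap.range_eq_top.2 (homologyπ_surjective' J s)
  haveI : Module.Free κ (J.homology s) := Module.Free.of_divisionRing κ _
  haveI : Module.Projective κ (J.homology s) := Module.Projective.of_free
  obtain ⟨g, hg⟩ := LinearMap.exists_rightInverse_of_surjective (J.homologyπ s).hom hsurj
  refine ⟨ModuleCat.ofHom g, ?_⟩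
  apply ModuleCat.hom_ext
  exact hg

variable (κ) in
lemma ker_toSpanSingleton' {V : Type u} [AddCommGroup V] [Module κ V] (v : V) (hv : v ≠ 0) :
    LinearMap.ker (LinearMap.toSpanSingleton κ V v) = ⊥ := by
  rw [LinearMap.ker_eq_bot']
  intro c hc
  rw [LinearMap.toSpanSingleton_apply] at hc
  by_contra hc0
  apply hv
  have h1 : v = c⁻¹ • (c • v) := by rw [smul_smul, inv_mul_cancel₀ hc0, one_smul]
  rw [h1, hc, smul_zero]

variable (κ) in
lemma exists_functional {V : Type u} [AddCommGroup V] [Module κ V] (v : V) (hv : v ≠ 0) :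
    ∃ l : V →ₗ[κ] κ, l v = 1 := by
  obtain ⟨l, hl⟩ := LinearMap.exists_leftInverse_of_injective _ (ker_toSpanSingleton' κ v hv)
  refine ⟨l, ?_⟩
  have := congrArg (fun f => f (1 : κ)) hl
  simpa using this

/-- a nonzero linear map between nonzero vector spaces -/
lemma exists_hom_ne_zero (V W : ModuleCat.{u} κ) [Nontrivial V] [Nontrivial W] :
    ∃ g : V ⟶ W, g ≠ 0 := by
  obtain ⟨v, hv⟩ := exists_ne (0 : V)
  obtain ⟨w, hw⟩ := exists_ne (0 : W)
  obtain ⟨l, h1⟩ := exists_functional κ (V := V) v hv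
  refine ⟨ModuleCat.ofHom (l.smulRight w), fun h0 => hw ?_⟩
  have h2 := congrArg (fun f => f.hom v) h0
  change l v • w = 0 at h2
  rwa [h1, one_smul] at h2

/-- a nonzero vector space all of whose endomorphisms are scalars is one dimensional -/
lemma nonempty_linearEquiv_of_end_scalar (M : Type u) [AddCommGroup M] [Module κ M] [Nontrivial M]
    (h : ∀ φ : M →ₗ[κ] M, ∃ c : κ, φ = c • LinearMap.id) : Nonempty (M ≃ₗ[κ] κ) := by
  obtain ⟨v, hv⟩ := exists_ne (0 : M)
  have hinj : LinearMap.ker (LinearMap.toSpanSingleton κ M v) = ⊥ := ker_toSpanSingleton' κ v hv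
  obtain ⟨l, h1⟩ := exists_functional κ v hv
  have hsurj : Function.Surjective (LinearMap.toSpanSingleton κ M v) := by
    intro w
    obtain ⟨c, hc⟩ := h (l.smulRight w)
    refine ⟨c, ?_⟩
    have h2 := congrArg (fun f => f v) hc
    change l v • w = c • v at h2
    rw [h1, one_smul] at h2
    rw [LinearMap.toSpanSingleton_apply, h2]
  exact ⟨(LinearEquiv.ofBijective _ ⟨LinearMap.ker_eq_bot.1 hinj, hsurj⟩).symm⟩

end Field

end Groth.Agent.Lib.H6xBid
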