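import Mathlib
import Groth.Agent.Lib.H6xBidM
set_option backward.isDefEq.respectTransparency.types false

/-!
# A dualizing complex over a field is a shift of the field (helper6)
-/

set_option autoImplicit false
set_option linter.style.haveILetI false
universe u

namespace Groth.Agent.Lib.H6xBid

open CategoryTheory CategoryTheory.Limits Category Opposite HomologicalComplex
open Groth.Agent.Lib.H6xRGam Groth.Agent.Lib.H6xCoext Groth.Agent.Lib.H6xDual
attribute [local instance] HasDerivedCategory.standard

theorem field_dualizing (κ : Type u) [Field κ] (X : Dual.D κ) (hX : Dual.IsDualizing κ X) :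
    ∃ n : ℤ, (∀ i : ℤ, i ≠ n → Subsingleton (Dual.HD κ X i)) ∧
      Nonempty (Dual.HD κ X n ≃ₗ[κ] κ) := by
  obtain ⟨J, hJK, -, ⟨e⟩⟩ := exists_kInj_iso X
  haveI := hJK
  have hJ : Dual.IsDualizing κ (DerivedCategory.Q.obj J) := isDualizing_of_iso e hX
  -- for `s ≠ t`, the cohomologies in degrees `s` and `t` are not both nonzero
  have h1 : ∀ s t : ℤ, s ≠ t → Nontrivial (J.homology t) → Subsingleton (J.homology s) := by
    intro s t hst hnt
    by_contra hns
    rw [not_subsingleton_iff_nontrivial] at hns
    obtain ⟨g, hg⟩ := exists_hom_ne_zero (J.homology t) (J.homology s)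
    obtain ⟨r, hr⟩ := exists_retraction J t
    obtain ⟨σt, hσt⟩ := exists_section J t
    obtain ⟨σs, hσs⟩ := exists_section J s
    exact hg (hom_homology_eq_zero J s t (s - t) (by omega)
      (hJ.ext_self_subsingleton (s - t) (by omega)) r hr σt hσt σs hσs g)
  -- some cohomology is nonzero
  have h2 : ∃ n : ℤ, Nontrivial (J.homology n) := by
    by_contra hcon
    push Not at hcon
    have hz : IsZero (DerivedCategory.Q.obj J) := isZero_Q_obj_of_acyc J (fun n => by
      haveI : Subsingleton (J.homology n) := hcon n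
      exact ModuleCat.isZero_of_subsingleton _)
    have h3 : (1 : κ) = 0 := hJ.toEnd_bijective.1 (hz.eq_of_src _ _)
    exact one_ne_zero h3
  obtain ⟨n, hn⟩ := h2
  refine ⟨n, fun i hi => ?_, ?_⟩
  · haveI := h1 i n hi hn
    exact (((DerivedCategory.homologyFunctor (ModuleCat.{u} κ) i).mapIso e).toLinearEquiv.trans
      (HDIso J i)).toEquiv.subsingleton
  · have hG : ∀ i : ℤ, i ≠ n → Subsingleton (Dual.HD κ (DerivedCategory.Q.obj J) i) :=
      fun i hi => by
        haveI := h1 i n hi hn
        exact (HDIso J i).toEquiv.subsingleton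
    obtain ⟨M, ⟨eM⟩, ⟨eH⟩⟩ := exists_iso_single_of_HD (DerivedCategory.Q.obj J) n hG
    haveI : Nontrivial M := (eH.trans (HDIso J n)).toEquiv.nontrivial
    have hend : ∀ φ : M →ₗ[κ] M, ∃ c : κ, φ = c • LinearMap.id := by
      intro φ
      have hb := toEnd_bijective_of_iso eM hJ.toEnd_bijective
      obtain ⟨c, hc⟩ := hb.2
        ((DerivedCategory.singleFunctor (ModuleCat.{u} κ) n).map (ModuleCat.ofHom φ))
      refine ⟨c, ?_⟩
      have h3 : (DerivedCategory.singleFunctor (ModuleCat.{u} κ) n).map (c • 𝟙 M) =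
          (DerivedCategory.singleFunctor (ModuleCat.{u} κ) n).map (ModuleCat.ofHom φ) := by
        rw [Functor.map_smul, CategoryTheory.Functor.map_id]
        exact hc
      have h4 := (DerivedCategory.singleFunctor (ModuleCat.{u} κ) n).map_injective h3
      have h5 := congrArg ModuleCat.Hom.hom h4
      exact h5.symm
    obtain ⟨eK⟩ := nonempty_linearEquiv_of_end_scalar (κ := κ) M hend
    exact ⟨((DerivedCategory.homologyFunctor (ModuleCat.{u} κ) n).mapIso e).toLinearEquiv ≪≫ₗ
      eH.symm ≪≫ₗ eK⟩

end Groth.Agent.Lib.H6xBid
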