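import Mathlib
import Groth.Agent.Lib.H6xBidN
set_option backward.isDefEq.respectTransparency.types false

/-!
# `Ext^i(κ, ω)` is concentrated in one degree, where it is `κ` (helper6)
-/

set_option autoImplicit false
set_option linter.style.haveILetI false
universe u

namespace Groth.Agent.Lib.H6xBid

open CategoryTheory CategoryTheory.Limits Category Opposite HomologicalComplex
open Groth.Agent.Lib.H6xRGam Groth.Agent.Lib.H6xCoext Groth.Agent.Lib.H6xDual
attribute [local instance] HasDerivedCategory.standard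

section

variable {A B : Type u} [CommRing A] [CommRing B] [Algebra A B]
  (R : Dual.D A ⥤ Dual.D B) (adj : DRing.restrictD (algebraMap A B) ⊣ R)
  (N : ModuleCat.{u} B) (M' : ModuleCat.{u} A) (e : M' ≅ rN (A := A) N) (K : Dual.D A) (i : ℤ)

lemma Φ_add (g g' : Dual.inD B N ⟶ (R.obj K)⟦i⟧) :
    Φ R adj N M' e K i (g + g') = Φ R adj N M' e K i g + Φ R adj N M' e K i g' := by
  rw [Φ_apply, Φ_apply, Φ_apply, ψN_add, shiftHomEquiv_add, Preadditive.comp_add]

lemma Φ_symm_add (h h' : (DerivedCategory.singleFunctor (ModuleCat.{u} A) 0).obj M' ⟶ K⟦i⟧) :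
    (Φ R adj N M' e K i).symm (h + h') =
      (Φ R adj N M' e K i).symm h + (Φ R adj N M' e K i).symm h' := by
  apply (Φ R adj N M' e K i).injective
  rw [Φ_add, Equiv.apply_symm_apply, Equiv.apply_symm_apply, Equiv.apply_symm_apply]

lemma Φ_symm_smul (a : A) (h : (DerivedCategory.singleFunctor (ModuleCat.{u} A) 0).obj M' ⟶ K⟦i⟧) :
    (Φ R adj N M' e K i).symm (a • h) = algebraMap A B a • (Φ R adj N M' e K i).symm h := by
  apply (Φ R adj N M' e K i).injective
  rw [Φ_smul, Equiv.apply_symm_apply, Equiv.apply_symm_apply]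

end

/-- **S0364** -/
theorem ext_residueField_single_degree (A : Type u) [CommRing A] [IsNoetherianRing A]
    (ω : Dual.D A) (hω : Dual.IsDualizing A ω) (m : Ideal A) [m.IsMaximal] :
    ∃ n : ℤ, (∀ i : ℤ, i ≠ n → Subsingleton (Dual.inD A (A ⧸ m) ⟶ ω⟦i⟧)) ∧
      Nonempty ((Dual.inD A (A ⧸ m) ⟶ ω⟦n⟧) ≃ₗ[A] (A ⧸ m)) := by
  obtain ⟨R, ⟨adj⟩⟩ := exists_rightAdjoint (algebraMap A (A ⧸ m))
  have hX : Dual.IsDualizing (A ⧸ m) (R.obj ω) :=
    isDualizing_rightAdjoint A (A ⧸ m) R adj ω hω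
  obtain ⟨n, hn1, ⟨en⟩⟩ := @field_dualizing (A ⧸ m) (Ideal.Quotient.field m) (R.obj ω) hX
  let N : ModuleCat.{u} (A ⧸ m) := ModuleCat.of (A ⧸ m) (A ⧸ m)
  let M' : ModuleCat.{u} A := ModuleCat.of A (A ⧸ m)
  let e : M' ≅ rN (A := A) N :=
    (restrictEquiv (A := A) (B := A ⧸ m) (A ⧸ m)).symm.toModuleIso
  refine ⟨n, fun i hi => ?_, ?_⟩
  · obtain ⟨eH⟩ := nonempty_hom_linearEquiv_HD (R.obj ω) i
    haveI := hn1 i hi
    have h1 : Subsingleton (Dual.inD (A ⧸ m) (A ⧸ m) ⟶ (R.obj ω)⟦i⟧) :=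
      eH.toEquiv.subsingleton
    exact (Φ R adj N M' e ω i).subsingleton_congr.1 h1
  · obtain ⟨eH⟩ := nonempty_hom_linearEquiv_HD (R.obj ω) n
    let f : (Dual.inD (A ⧸ m) (A ⧸ m) ⟶ (R.obj ω)⟦n⟧) ≃ₗ[A ⧸ m] (A ⧸ m) := eH ≪≫ₗ en
    refine ⟨{ toFun := fun h => f ((Φ R adj N M' e ω n).symm h)
              invFun := fun x => Φ R adj N M' e ω n (f.symm x)
              left_inv := fun h => by
                dsimp only
                rw [LinearEquiv.symm_apply_apply, Equiv.apply_symm_apply]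
              right_inv := fun x => by
                dsimp only
                rw [Equiv.symm_apply_apply, LinearEquiv.apply_symm_apply]
              map_add' := fun h h' => by
                rw [Φ_symm_add, map_add]
              map_smul' := fun a h => by
                rw [Φ_symm_smul, map_smul]
                rfl }⟩

end Groth.Agent.Lib.H6xBid
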