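import Mathlib
import Groth.Agent.Lib.Helper1DT3
import Groth.Prelude.Def_DTen3
set_option backward.isDefEq.respectTransparency.types false

/-!
# Monoidal structure on `D(A)` from the derived tensor product, part A (helper6)

Basic bifunctoriality lemmas for `LTen₂`, the counit `εX K L : QK ⊗ᴸ QL ⟶ Q(K ⊗ L)`, its naturality,
its invertibility on K-flat complexes (`μK`), and the key compatibility of the `D(A)`-level associator
with the associator of complexes (`assoc_εX`).
-/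

set_option autoImplicit false
set_option maxHeartbeats 400000
universe u
open CategoryTheory CategoryTheory.Limits MonoidalCategory HomologicalComplex
attribute [local instance] HasDerivedCategory.standard

namespace Groth.Agent.Lib.H6xDTen

open DerivedCategory Groth.Agent.Lib.Helper1.KF Groth.Agent.Lib.Helper1.DT DTen

variable {A : Type u} [CommRing A]

section basic
variable [HasLTen A]

/-- `a ⊗ᴸ b`. -/
noncomputable abbrev tO (a b : Dual.D A) : Dual.D A := (LTen₂ A).obj (a, b)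

/-- `f ⊗ᴸ g`. -/
noncomputable abbrev tH {a a' b b' : Dual.D A} (f : a ⟶ a') (g : b ⟶ b') : tO a b ⟶ tO a' b' :=
  (LTen₂ A).map (Prod.mkHom f g)

lemma tH_id (a b : Dual.D A) : tH (𝟙 a) (𝟙 b) = 𝟙 (tO a b) := by
  dsimp only [tH]
  rw [← prod_id, CategoryTheory.Functor.map_id]

@[reassoc]
lemma tH_comp {a a' a'' b b' b'' : Dual.D A} (f : a ⟶ a') (f' : a' ⟶ a'') (g : b ⟶ b') (g' : b' ⟶ b'') :
    tH f g ≫ tH f' g' = tH (f ≫ f') (g ≫ g') := by
  dsimp only [tH]
  rw [← Functor.map_comp]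
  rfl

instance isIso_tH {a a' b b' : Dual.D A} (f : a ⟶ a') (g : b ⟶ b') [IsIso f] [IsIso g] :
    IsIso (tH f g) := by
  have : IsIso (Prod.mkHom f g) := by
    rw [isIso_prod_iff]
    exact ⟨inferInstanceAs (IsIso f), inferInstanceAs (IsIso g)⟩
  exact Functor.map_isIso (LTen₂ A) _

/-- the counit `QK ⊗ᴸ QL ⟶ Q(K ⊗ L)` -/
noncomputable abbrev εX (K L : Cx A) : tO (Q.obj K) (Q.obj L) ⟶ Q.obj (K ⊗ L) := (ε A).app (K, L)

@[reassoc]
lemma εX_natural {K K' L L' : Cx A} (f : K ⟶ K') (g : L ⟶ L') :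
    tH (Q.map f) (Q.map g) ≫ εX K' L' = εX K L ≫ Q.map (f ⊗ₘ g) := by
  have e := (ε A).naturality (Prod.mkHom f g : (K, L) ⟶ (K', L'))
  dsimp at e
  rw [← MonoidalCategory.tensorHom_def] at e
  exact e

lemma isIso_εX (K L : Cx A) (h : KFlat K ∨ KFlat L) : IsIso (εX K L) := isIso_ε_of_kflat K L h

/-- `μK`: the counit as an isomorphism, on K-flat complexes. -/
noncomputable def μK (K L : Cx A) (h : KFlat K ∨ KFlat L) : tO (Q.obj K) (Q.obj L) ≅ Q.obj (K ⊗ L) :=
  haveI := isIso_εX K L h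
  asIso (εX K L)

@[simp] lemma μK_hom (K L : Cx A) (h : KFlat K ∨ KFlat L) : (μK K L h).hom = εX K L := rfl

lemma kflat_unit : KFlat (𝟙_ (Cx A)) := fun M hM => Acyc.of_iso (ρ_ M).symm hM

end basic

section assoc
variable [HasLTen A] [HasLTen₃ A] [IsSymMonoidal A]

/-- The key compatibility of the associator of `D(A)` with the associator of complexes. -/
lemma assoc_εX (X₁ X₂ X₃ : Cx A) :
    (DTen.associator (Q.obj X₁) (Q.obj X₂) (Q.obj X₃)).hom ≫ tH (𝟙 (Q.obj X₁)) (εX X₂ X₃) ≫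
      εX X₁ (X₂ ⊗ X₃) =
    tH (εX X₁ X₂) (𝟙 (Q.obj X₃)) ≫ εX (X₁ ⊗ X₂) X₃ ≫ Q.map (α_ X₁ X₂ X₃).hom := by
  have hR := assocR_fac A (X₁, (X₂, X₃))
  have hL := assocL_fac A (X₁, (X₂, X₃))
  have h := DTen.associator_hom_assocR (Q.obj X₁) (Q.obj X₂) (Q.obj X₃)
  have h1 : (DTen.associator (Q.obj X₁) (Q.obj X₂) (Q.obj X₃)).hom ≫ (βR A).app (X₁, (X₂, X₃)) =
      (βL A).app (X₁, (X₂, X₃)) := by
    rw [← hR, ← hL, ← Category.assoc]
    congr 1
  exact h1

/-- naturality of the associator of `D(A)` -/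
@[reassoc]
lemma associator_natural {a a' b b' c c' : Dual.D A} (f : a ⟶ a') (g : b ⟶ b') (h : c ⟶ c') :
    tH (tH f g) h ≫ (DTen.associator a' b' c').hom =
      (DTen.associator a b c).hom ≫ tH f (tH g h) := by
  have h1 := (assocL A).naturality (X := (a, (b, c))) (Y := (a', (b', c')))
    (Prod.mkHom f (Prod.mkHom g h))
  have h2 := (assocR A).naturality (X := (a, (b, c))) (Y := (a', (b', c')))
    (Prod.mkHom f (Prod.mkHom g h))
  simp only [DTen.associator, Iso.trans_hom, Iso.symm_hom, Iso.app_hom, Iso.app_inv, asIso_hom,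
    asIso_inv, Category.assoc]
  dsimp [LTenL, LTenR] at h1 h2
  rw [← Category.assoc, h1, Category.assoc]
  congr 1
  exact (inv (assocR A)).naturality (X := (a, (b, c))) (Y := (a', (b', c')))
    (Prod.mkHom f (Prod.mkHom g h))

end assoc

end Groth.Agent.Lib.H6xDTen
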