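import Mathlib
import Groth.Prelude.Def_DRing2
import Groth.Prelude.Def_DRing4

/-!
# Hom-tensor adjunction for complexes of modules (helper7, round 2)

`Hom•(K, Hom•(L, M)) ≅ Hom•(K ⊗ L, M)` as complexes of `R`-modules (pure currying, no sign needed
with Mathlib's conventions).
-/

set_option autoImplicit false
universe u
open CategoryTheory CategoryTheory.Limits MonoidalCategory HomologicalComplex
open CochainComplex CochainComplex.HomComplex

namespace Groth.Agent.Lib.R2H7.HomTensorCx

variable {R : Type u} [CommRing R] (K L M : DRing.Cx R)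

local macro "FF" : term => `(curriedTensor (ModuleCat _))
local macro "cc" : term => `(ComplexShape.up ℤ)

/-- value of a `homCx`-valued cochain at an element, as a cochain. -/
noncomputable def ev {n : ℤ} (φ : Cochain K (DRing.homCx L M) n) (p s : ℤ) (hps : p + n = s)
    (x : K.X p) : Cochain L M s :=
  (φ.v p s hps).hom x

lemma ev_add {n : ℤ} (φ : Cochain K (DRing.homCx L M) n) (p s : ℤ) (hps : p + n = s)
    (x x' : K.X p) : ev K L M φ p s hps (x + x') = ev K L M φ p s hps x + ev K L M φ p s hps x' :=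
  map_add (φ.v p s hps).hom x x'

lemma ev_smul {n : ℤ} (φ : Cochain K (DRing.homCx L M) n) (p s : ℤ) (hps : p + n = s)
    (a : R) (x : K.X p) : ev K L M φ p s hps (a • x) = a • ev K L M φ p s hps x :=
  map_smul (φ.v p s hps).hom a x

lemma ev_add_left {n : ℤ} (φ φ' : Cochain K (DRing.homCx L M) n) (p s : ℤ) (hps : p + n = s)
    (x : K.X p) : ev K L M (φ + φ') p s hps x = ev K L M φ p s hps x + ev K L M φ' p s hps x := by
  simp only [ev, Cochain.add_v]
  rfl

lemma ev_smul_left {n : ℤ} (a : R) (φ : Cochain K (DRing.homCx L M) n) (p s : ℤ)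
    (hps : p + n = s) (x : K.X p) :
    ev K L M (a • φ) p s hps x = a • ev K L M φ p s hps x := by
  simp only [ev, Cochain.smul_v]
  rfl

lemma ev_units_smul_left {n : ℤ} (a : ℤˣ) (φ : Cochain K (DRing.homCx L M) n) (p s : ℤ)
    (hps : p + n = s) (x : K.X p) :
    ev K L M (a • φ) p s hps x = a • ev K L M φ p s hps x := by
  simp only [ev, Cochain.units_smul_v]
  rfl

/-- the bilinear map attached to a cochain with values in `homCx L M`. -/
noncomputable def bil {n : ℤ} (φ : Cochain K (DRing.homCx L M) n) (p q r : ℤ)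
    (h : p + q + n = r) : K.X p →ₗ[R] L.X q →ₗ[R] M.X r where
  toFun x :=
    { toFun := fun y => ((ev K L M φ p (p + n) rfl x).v q r (by omega)).hom y
      map_add' := fun y y' => map_add _ y y'
      map_smul' := fun a y => map_smul _ a y }
  map_add' x x' := by
    ext y
    simp only [LinearMap.coe_mk, AddHom.coe_mk, LinearMap.add_apply, ev_add, Cochain.add_v]
    rfl
  map_smul' a x := by
    ext y
    simp only [LinearMap.coe_mk, AddHom.coe_mk, LinearMap.smul_apply, ev_smul, Cochain.smul_v,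
      RingHom.id_apply]
    rfl

lemma bil_apply {n : ℤ} (φ : Cochain K (DRing.homCx L M) n) (p q r : ℤ)
    (h : p + q + n = r) (x : K.X p) (y : L.X q) :
    bil K L M φ p q r h x y = ((ev K L M φ p (p + n) rfl x).v q r (by omega)).hom y := rfl

/-- forward map: currying. -/
noncomputable def fwdFun (n : ℤ) (φ : Cochain K (DRing.homCx L M) n) : Cochain (K ⊗ L) M n :=
  Cochain.mk fun m r hmr =>
    mapBifunctorDesc (K₁ := K) (K₂ := L) (F := FF) (c := cc) (fun p q hpq =>
      (ModuleCat.ofHom (TensorProduct.lift (bil K L M φ p q r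
        (by have : p + q = m := hpq; omega))) : (K.X p ⊗ L.X q : ModuleCat R) ⟶ M.X r))

lemma ι_fwdFun (n : ℤ) (φ : Cochain K (DRing.homCx L M) n) (p q m r : ℤ) (hpq : p + q = m)
    (hmr : m + n = r) :
    ιMapBifunctor K L FF cc p q m hpq ≫ (fwdFun K L M n φ).v m r hmr =
      (ModuleCat.ofHom (TensorProduct.lift (bil K L M φ p q r (by omega))) :
        (K.X p ⊗ L.X q : ModuleCat R) ⟶ M.X r) := by
  simp only [fwdFun, Cochain.mk_v]
  exact ι_mapBifunctorDesc _ p q hpq

lemma ι_fwdFun_apply (n : ℤ) (φ : Cochain K (DRing.homCx L M) n) (p q m r : ℤ) (hpq : p + q = m)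
    (hmr : m + n = r) (x : K.X p) (y : L.X q) :
    (ιMapBifunctor K L FF cc p q m hpq ≫ (fwdFun K L M n φ).v m r hmr).hom (x ⊗ₜ[R] y) =
      ((ev K L M φ p (p + n) rfl x).v q r (by omega)).hom y := by
  rw [ι_fwdFun]
  rfl

/-- backward map, inner cochain. -/
noncomputable def bwdInner {n : ℤ} (Ψ : Cochain (K ⊗ L) M n) (p s : ℤ) (hps : p + n = s)
    (x : K.X p) : Cochain L M s :=
  Cochain.mk fun q r hqr => ModuleCat.ofHom
    { toFun := fun y =>
        (ιMapBifunctor K L FF cc p q (p + q) rfl ≫ Ψ.v (p + q) r (by omega)).hom (x ⊗ₜ[R] y)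
      map_add' := fun y y' => by rw [TensorProduct.tmul_add, map_add]
      map_smul' := fun a y => by rw [TensorProduct.tmul_smul, map_smul]; rfl }

lemma bwdInner_v_apply {n : ℤ} (Ψ : Cochain (K ⊗ L) M n) (p s : ℤ) (hps : p + n = s)
    (x : K.X p) (q r : ℤ) (hqr : q + s = r) (y : L.X q) :
    ((bwdInner K L M Ψ p s hps x).v q r hqr).hom y =
      (ιMapBifunctor K L FF cc p q (p + q) rfl ≫ Ψ.v (p + q) r (by omega)).hom (x ⊗ₜ[R] y) := by
  simp only [bwdInner, Cochain.mk_v]
  rfl

/-- backward map. -/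
noncomputable def bwdFun (n : ℤ) (Ψ : Cochain (K ⊗ L) M n) : Cochain K (DRing.homCx L M) n :=
  Cochain.mk fun p s hps => (ModuleCat.ofHom
    ({ toFun := fun x => bwdInner K L M Ψ p s hps x
       map_add' := fun x x' => by
        refine Cochain.ext _ _ fun q r hqr => ?_
        rw [Cochain.add_v]
        apply ModuleCat.hom_ext
        apply LinearMap.ext
        intro y
        rw [ModuleCat.hom_add, LinearMap.add_apply, bwdInner_v_apply, bwdInner_v_apply,
          bwdInner_v_apply, TensorProduct.add_tmul, map_add]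
       map_smul' := fun a x => by
        refine Cochain.ext _ _ fun q r hqr => ?_
        rw [Cochain.smul_v]
        apply ModuleCat.hom_ext
        apply LinearMap.ext
        intro y
        rw [ModuleCat.hom_smul, LinearMap.smul_apply, bwdInner_v_apply, bwdInner_v_apply,
          ← TensorProduct.smul_tmul', map_smul]
        rfl } : K.X p →ₗ[R] Cochain L M s) : K.X p ⟶ (DRing.homCx L M).X s)

lemma ev_bwdFun (n : ℤ) (Ψ : Cochain (K ⊗ L) M n) (p s : ℤ) (hps : p + n = s) (x : K.X p) :
    ev K L M (bwdFun K L M n Ψ) p s hps x = bwdInner K L M Ψ p s hps x := by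
  simp only [ev, bwdFun, Cochain.mk_v]
  rfl

lemma bwd_fwd (n : ℤ) (φ : Cochain K (DRing.homCx L M) n) :
    bwdFun K L M n (fwdFun K L M n φ) = φ := by
  refine Cochain.ext _ _ fun p s hps => ?_
  obtain rfl := hps
  apply ModuleCat.hom_ext
  apply LinearMap.ext
  intro x
  change ev K L M (bwdFun K L M n (fwdFun K L M n φ)) p (p + n) rfl x = ev K L M φ p (p + n) rfl x
  rw [ev_bwdFun]
  refine Cochain.ext _ _ fun q r hqr => ?_
  apply ModuleCat.hom_ext
  apply LinearMap.ext
  intro y
  rw [bwdInner_v_apply, ι_fwdFun_apply]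

lemma fwd_bwd (n : ℤ) (Ψ : Cochain (K ⊗ L) M n) :
    fwdFun K L M n (bwdFun K L M n Ψ) = Ψ := by
  refine Cochain.ext _ _ fun m r hmr => ?_
  apply mapBifunctor.hom_ext
  intro p q hpq
  have hpq' : p + q = m := hpq
  subst hpq'
  apply ModuleCat.MonoidalCategory.tensor_ext
  intro x y
  rw [ι_fwdFun_apply K L M n _ p q (p + q) r rfl hmr, ev_bwdFun, bwdInner_v_apply]

lemma fwdFun_add (n : ℤ) (φ φ' : Cochain K (DRing.homCx L M) n) :
    fwdFun K L M n (φ + φ') = fwdFun K L M n φ + fwdFun K L M n φ' := by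
  refine Cochain.ext _ _ fun m r hmr => ?_
  apply mapBifunctor.hom_ext
  intro p q hpq
  have hpq' : p + q = m := hpq
  subst hpq'
  apply ModuleCat.MonoidalCategory.tensor_ext
  intro x y
  rw [Cochain.add_v, Preadditive.comp_add, ModuleCat.hom_add, LinearMap.add_apply,
    ι_fwdFun_apply K L M n _ p q (p + q) r rfl hmr, ι_fwdFun_apply K L M n _ p q (p + q) r rfl hmr,
    ι_fwdFun_apply K L M n _ p q (p + q) r rfl hmr, ev_add_left, Cochain.add_v, ModuleCat.hom_add,
    LinearMap.add_apply]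

lemma fwdFun_smul (n : ℤ) (a : R) (φ : Cochain K (DRing.homCx L M) n) :
    fwdFun K L M n (a • φ) = a • fwdFun K L M n φ := by
  refine Cochain.ext _ _ fun m r hmr => ?_
  apply mapBifunctor.hom_ext
  intro p q hpq
  have hpq' : p + q = m := hpq
  subst hpq'
  apply ModuleCat.MonoidalCategory.tensor_ext
  intro x y
  rw [Cochain.smul_v, Linear.comp_smul, ModuleCat.hom_smul, LinearMap.smul_apply,
    ι_fwdFun_apply K L M n _ p q (p + q) r rfl hmr, ι_fwdFun_apply K L M n _ p q (p + q) r rfl hmr,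
    ev_smul_left, Cochain.smul_v, ModuleCat.hom_smul, LinearMap.smul_apply]

/-- the currying linear equivalence in each degree. -/
noncomputable def equiv (n : ℤ) :
    Cochain K (DRing.homCx L M) n ≃ₗ[R] Cochain (K ⊗ L) M n where
  toFun := fwdFun K L M n
  invFun := bwdFun K L M n
  map_add' := fwdFun_add K L M n
  map_smul' := fwdFun_smul K L M n
  left_inv := bwd_fwd K L M n
  right_inv := fwd_bwd K L M n

lemma ι_d (p q m : ℤ) (hpq : p + q = m) :
    ιMapBifunctor K L FF cc p q m hpq ≫ (K ⊗ L).d m (m + 1) =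
      (K.d p (p + 1) ▷ L.X q) ≫ ιMapBifunctor K L FF cc (p + 1) q (m + 1) (by
        change p + 1 + q = m + 1; omega) +
      p.negOnePow • ((K.X p ◁ L.d q (q + 1)) ≫ ιMapBifunctor K L FF cc p (q + 1) (m + 1) (by
        change p + (q + 1) = m + 1; omega)) := by
  change ιMapBifunctor K L FF cc p q m hpq ≫ (mapBifunctor K L FF cc).d m (m + 1) = _
  rw [mapBifunctor.d_eq, Preadditive.comp_add, mapBifunctor.ι_D₁, mapBifunctor.ι_D₂,
    mapBifunctor.d₁_eq K L FF cc (show (ComplexShape.up ℤ).Rel p (p + 1) by simp) q (m + 1)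
      (by change p + 1 + q = m + 1; omega),
    mapBifunctor.d₂_eq K L FF cc p (show (ComplexShape.up ℤ).Rel q (q + 1) by simp) (m + 1)
      (by change p + (q + 1) = m + 1; omega)]
  simp [ComplexShape.ε₁, ComplexShape.ε₂, TotalComplexShape.ε₁, TotalComplexShape.ε₂]

lemma ev_δ (n : ℤ) (φ : Cochain K (DRing.homCx L M) n) (p : ℤ) (x : K.X p) :
    ev K L M (δ n (n + 1) φ) p (p + (n + 1)) rfl x =
      δ (p + n) (p + (n + 1)) (ev K L M φ p (p + n) rfl x) +
        (n + 1).negOnePow • ev K L M φ (p + 1) (p + (n + 1)) (by omega) ((K.d p (p + 1)).hom x) := by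
  simp only [ev]
  rw [δ_v n (n + 1) rfl φ p (p + (n + 1)) rfl (p + n) (p + 1) (by omega) rfl]
  rfl

lemma ι_fwdFun_apply' (n : ℤ) (φ : Cochain K (DRing.homCx L M) n) (p q m r s : ℤ)
    (hpq : p + q = m) (hmr : m + n = r) (hps : p + n = s) (x : K.X p) (y : L.X q) :
    (ιMapBifunctor K L FF cc p q m hpq ≫ (fwdFun K L M n φ).v m r hmr).hom (x ⊗ₜ[R] y) =
      ((ev K L M φ p s hps x).v q r (by omega)).hom y := by
  subst hps
  exact ι_fwdFun_apply K L M n φ p q m r hpq hmr x y

lemma ι_fwdFun_apply'' (n : ℤ) (φ : Cochain K (DRing.homCx L M) n) (p q m r s : ℤ)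
    (hpq : p + q = m) (hmr : m + n = r) (hps : p + n = s) (x : K.X p) (y : L.X q) :
    ((fwdFun K L M n φ).v m r hmr).hom
        ((ιMapBifunctor K L FF cc p q m hpq).hom (x ⊗ₜ[R] y)) =
      ((ev K L M φ p s hps x).v q r (by omega)).hom y :=
  ι_fwdFun_apply' K L M n φ p q m r s hpq hmr hps x y

lemma whiskerRight_hom_apply {A B : ModuleCat R} (f : A ⟶ B) (N : ModuleCat R) (a : A) (b : N) :
    (f ▷ N).hom (a ⊗ₜ[R] b) = f.hom a ⊗ₜ[R] b := rfl

lemma whiskerLeft_hom_apply (N : ModuleCat R) {A B : ModuleCat R} (f : A ⟶ B) (b : N) (a : A) :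
    (N ◁ f).hom (b ⊗ₜ[R] a) = b ⊗ₜ[R] f.hom a := rfl

lemma units_smul_hom_apply {A B : ModuleCat R} (u : ℤˣ) (f : A ⟶ B) (a : A) :
    (u • f).hom a = u • f.hom a := by
  rw [Units.smul_def, Units.smul_def, ModuleCat.hom_zsmul, LinearMap.smul_apply]

theorem fwdFun_δ (n : ℤ) (φ : Cochain K (DRing.homCx L M) n) :
    fwdFun K L M (n + 1) (δ n (n + 1) φ) = δ n (n + 1) (fwdFun K L M n φ) := by
  refine Cochain.ext _ _ fun m r hmr => ?_
  apply mapBifunctor.hom_ext
  intro p q hpq
  have hpq' : p + q = m := hpq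
  subst hpq'
  apply ModuleCat.MonoidalCategory.tensor_ext
  intro x y
  -- left hand side
  have hL : (ιMapBifunctor K L FF cc p q (p + q) rfl ≫
      (fwdFun K L M (n + 1) (δ n (n + 1) φ)).v (p + q) r hmr).hom (x ⊗ₜ[R] y) =
      (M.d (r - 1) r).hom (((ev K L M φ p (p + n) rfl x).v q (r - 1) (by omega)).hom y) +
        (p + (n + 1)).negOnePow •
          ((ev K L M φ p (p + n) rfl x).v (q + 1) r (by omega)).hom ((L.d q (q + 1)).hom y) +
        (n + 1).negOnePow • ((ev K L M φ (p + 1) (p + (n + 1)) (by omega)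
          ((K.d p (p + 1)).hom x)).v q r (by omega)).hom y := by
    rw [ι_fwdFun_apply K L M (n + 1) _ p q (p + q) r rfl hmr, ev_δ, Cochain.add_v,
      Cochain.units_smul_v,
      δ_v (p + n) (p + (n + 1)) (by omega) (ev K L M φ p (p + n) rfl x) q r (by omega) (r - 1)
        (q + 1) rfl rfl]
    simp only [ModuleCat.hom_add, LinearMap.add_apply, ModuleCat.hom_comp, LinearMap.comp_apply,
      units_smul_hom_apply]
  -- right hand side
  have hR : (ιMapBifunctor K L FF cc p q (p + q) rfl ≫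
      (δ n (n + 1) (fwdFun K L M n φ)).v (p + q) r hmr).hom (x ⊗ₜ[R] y) =
      (M.d (r - 1) r).hom (((ev K L M φ p (p + n) rfl x).v q (r - 1) (by omega)).hom y) +
        (n + 1).negOnePow • (((ev K L M φ (p + 1) (p + (n + 1)) (by omega)
          ((K.d p (p + 1)).hom x)).v q r (by omega)).hom y +
          p.negOnePow •
          ((ev K L M φ p (p + n) rfl x).v (q + 1) r (by omega)).hom ((L.d q (q + 1)).hom y)) := by
    have hmor : ιMapBifunctor K L FF cc p q (p + q) rfl ≫
        (δ n (n + 1) (fwdFun K L M n φ)).v (p + q) r hmr =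
        ιMapBifunctor K L FF cc p q (p + q) rfl ≫
          (fwdFun K L M n φ).v (p + q) (r - 1) (by omega) ≫ M.d (r - 1) r +
        (n + 1).negOnePow • ((((K.d p (p + 1) ▷ L.X q) ≫
          ιMapBifunctor K L FF cc (p + 1) q (p + q + 1) (by change p + 1 + q = p + q + 1; omega) ≫
            (fwdFun K L M n φ).v (p + q + 1) r (by omega)) :
              ((FF).obj (K.X p)).obj (L.X q) ⟶ M.X r) +
          p.negOnePow • (((K.X p ◁ L.d q (q + 1)) ≫
            ιMapBifunctor K L FF cc p (q + 1) (p + q + 1)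
              (by change p + (q + 1) = p + q + 1; omega) ≫
            (fwdFun K L M n φ).v (p + q + 1) r (by omega)) :
              ((FF).obj (K.X p)).obj (L.X q) ⟶ M.X r)) := by
      rw [δ_v n (n + 1) rfl (fwdFun K L M n φ) (p + q) r hmr (r - 1) (p + q + 1) rfl rfl,
        Preadditive.comp_add, Linear.comp_units_smul, ← Category.assoc _ ((K ⊗ L).d _ _),
        ι_d K L p q (p + q) rfl, Preadditive.add_comp, Linear.units_smul_comp]
      simp only [Category.assoc]
    rw [hmor]
    simp only [ModuleCat.hom_add, LinearMap.add_apply, units_smul_hom_apply, ModuleCat.hom_comp,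
      LinearMap.comp_apply, whiskerRight_hom_apply, whiskerLeft_hom_apply]
    rw [ι_fwdFun_apply'' K L M n φ p q (p + q) (r - 1) (p + n) rfl (by omega) rfl x y]
    erw [whiskerRight_hom_apply, whiskerLeft_hom_apply]
    rw [ι_fwdFun_apply'' K L M n φ (p + 1) q (p + q + 1) r (p + (n + 1)) (by omega) (by omega)
        (by omega),
      ι_fwdFun_apply'' K L M n φ p (q + 1) (p + q + 1) r (p + n) (by omega) (by omega) rfl]
  rw [hL, hR, smul_add, smul_smul, ← Int.negOnePow_add, add_assoc]
  congr 1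
  rw [add_comm]
  congr 3
  omega

/-- The Hom-tensor isomorphism of complexes. -/
theorem main : Nonempty (DRing.homCx K (DRing.homCx L M) ≅ DRing.homCx (K ⊗ L) M) :=
  ⟨HomologicalComplex.Hom.isoOfComponents (fun n => (equiv K L M n).toModuleIso) (by
    rintro i j (rfl : i + 1 = j)
    apply ModuleCat.hom_ext
    apply LinearMap.ext
    intro φ
    exact (fwdFun_δ K L M i φ).symm)⟩

end Groth.Agent.Lib.R2H7.HomTensorCx
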