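import Mathlib
import Groth.Agent.Lib.R2H7HomTensorCx
import Groth.Agent.Lib.Helper1KF1
set_option backward.isDefEq.respectTransparency.types false

/-!
# helper6: chain-level currying `(K ⊗ L ⟶ M) ≃ (K ⟶ Hom•(L, M))`, natural in `K`, homotopy-compatible
-/

set_option autoImplicit false
set_option linter.style.haveILetI false
universe u
open CategoryTheory CategoryTheory.Limits MonoidalCategory HomologicalComplex
open CochainComplex CochainComplex.HomComplex

namespace Groth.Agent.Lib.H6xRH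

open Groth.Agent.Lib.R2H7.HomTensorCx

variable {R : Type u} [CommRing R] (K L M : DRing.Cx R)

lemma fwdFun_δ' (n m : ℤ) (h : n + 1 = m) (φ : Cochain K (DRing.homCx L M) n) :
    fwdFun K L M m (δ n m φ) = δ n m (fwdFun K L M n φ) := by
  subst h
  exact fwdFun_δ K L M n φ

lemma bwdFun_δ' (n m : ℤ) (h : n + 1 = m) (ψ : Cochain (K ⊗ L) M n) :
    bwdFun K L M m (δ n m ψ) = δ n m (bwdFun K L M n ψ) := by
  have h1 := fwdFun_δ' K L M n m h (bwdFun K L M n ψ)
  rw [fwd_bwd] at h1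
  rw [← h1, bwd_fwd]

lemma fwdFun_zero (n : ℤ) : fwdFun K L M n 0 = 0 := (equiv K L M n).map_zero

lemma bwdFun_zero (n : ℤ) : bwdFun K L M n 0 = 0 := (equiv K L M n).symm.map_zero

lemma bwdFun_add (n : ℤ) (ψ ψ' : Cochain (K ⊗ L) M n) :
    bwdFun K L M n (ψ + ψ') = bwdFun K L M n ψ + bwdFun K L M n ψ' :=
  (equiv K L M n).symm.map_add ψ ψ'

/-- uncurrying a morphism of complexes -/
noncomputable def uncurry (g : K ⟶ DRing.homCx L M) : K ⊗ L ⟶ M :=
  Cocycle.homOf (Cocycle.mk (fwdFun K L M 0 (Cochain.ofHom g)) 1 (zero_add 1) (by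
    rw [← fwdFun_δ' K L M 0 1 (zero_add 1), δ_ofHom, fwdFun_zero]))

/-- currying a morphism of complexes -/
noncomputable def curry (g : K ⊗ L ⟶ M) : K ⟶ DRing.homCx L M :=
  Cocycle.homOf (Cocycle.mk (bwdFun K L M 0 (Cochain.ofHom g)) 1 (zero_add 1) (by
    rw [← bwdFun_δ' K L M 0 1 (zero_add 1), δ_ofHom, bwdFun_zero]))

lemma ofHom_uncurry (g : K ⟶ DRing.homCx L M) :
    Cochain.ofHom (uncurry K L M g) = fwdFun K L M 0 (Cochain.ofHom g) := by
  rw [uncurry, Cocycle.cochain_ofHom_homOf_eq_coe]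
  rfl

lemma ofHom_curry (g : K ⊗ L ⟶ M) :
    Cochain.ofHom (curry K L M g) = bwdFun K L M 0 (Cochain.ofHom g) := by
  rw [curry, Cocycle.cochain_ofHom_homOf_eq_coe]
  rfl

lemma curry_uncurry (g : K ⟶ DRing.homCx L M) : curry K L M (uncurry K L M g) = g := by
  apply Cochain.ofHom_injective
  rw [ofHom_curry, ofHom_uncurry, bwd_fwd]

lemma uncurry_curry (g : K ⊗ L ⟶ M) : uncurry K L M (curry K L M g) = g := by
  apply Cochain.ofHom_injective
  rw [ofHom_uncurry, ofHom_curry, fwd_bwd]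

variable {K L M}

lemma homotopy_uncurry {g₁ g₂ : K ⟶ DRing.homCx L M} (h : Homotopy g₁ g₂) :
    Nonempty (Homotopy (uncurry K L M g₁) (uncurry K L M g₂)) := by
  obtain ⟨z, hz⟩ := Cochain.equivHomotopy g₁ g₂ h
  refine ⟨(Cochain.equivHomotopy _ _).symm ⟨fwdFun K L M (-1) z, ?_⟩⟩
  rw [ofHom_uncurry, ofHom_uncurry, hz, fwdFun_add, fwdFun_δ' K L M (-1) 0 (by omega)]

lemma homotopy_curry {g₁ g₂ : K ⊗ L ⟶ M} (h : Homotopy g₁ g₂) :
    Nonempty (Homotopy (curry K L M g₁) (curry K L M g₂)) := by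
  obtain ⟨z, hz⟩ := Cochain.equivHomotopy g₁ g₂ h
  refine ⟨(Cochain.equivHomotopy _ _).symm ⟨bwdFun K L M (-1) z, ?_⟩⟩
  rw [ofHom_curry, ofHom_curry, hz, bwdFun_add, bwdFun_δ' K L M (-1) 0 (by omega)]

lemma ev_precomp {K' : DRing.Cx R} (f : K' ⟶ K) (n : ℤ) (φ : Cochain K (DRing.homCx L M) n)
    (p s : ℤ) (hps : p + n = s) (x : K'.X p) :
    ev K' L M ((Cochain.ofHom f).comp φ (zero_add n)) p s hps x =
      ev K L M φ p s hps ((f.f p).hom x) := by
  simp only [ev, Cochain.zero_cochain_comp_v, Cochain.ofHom_v]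
  rfl

/-- naturality of `fwdFun` in the first variable -/
lemma fwdFun_precomp {K' : DRing.Cx R} (f : K' ⟶ K) (n : ℤ) (φ : Cochain K (DRing.homCx L M) n) :
    fwdFun K' L M n ((Cochain.ofHom f).comp φ (zero_add n)) =
      (Cochain.ofHom (f ▷ L)).comp (fwdFun K L M n φ) (zero_add n) := by
  refine Cochain.ext _ _ fun m r hmr => ?_
  apply mapBifunctor.hom_ext
  intro p q hpq
  have hpq' : p + q = m := hpq
  subst hpq'
  apply ModuleCat.MonoidalCategory.tensor_ext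
  intro x y
  rw [ι_fwdFun_apply K' L M n _ p q (p + q) r rfl hmr, Cochain.zero_cochain_comp_v,
    Cochain.ofHom_v]
  have h2 := Groth.Agent.Lib.Helper1.KF.ι_whiskerRight_assoc f L p q (p + q) rfl
    ((fwdFun K L M n φ).v (p + q) r hmr)
  change ιMapBifunctor K' L (curriedTensor (ModuleCat R)) (ComplexShape.up ℤ) p q (p + q) rfl ≫ _ = _
    at h2
  rw [h2]
  rw [ModuleCat.hom_comp, LinearMap.comp_apply, whiskerRight_hom_apply]
  rw [ev_precomp]
  exact (ι_fwdFun_apply K L M n φ p q (p + q) r rfl hmr ((f.f p).hom x) y).symm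

lemma uncurry_natural {K' : DRing.Cx R} (f : K' ⟶ K) (g : K ⟶ DRing.homCx L M) :
    uncurry K' L M (f ≫ g) = (f ▷ L) ≫ uncurry K L M g := by
  apply Cochain.ofHom_injective
  rw [ofHom_uncurry, Cochain.ofHom_comp, Cochain.ofHom_comp, fwdFun_precomp, ofHom_uncurry]

end Groth.Agent.Lib.H6xRH
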