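import Mathlib
import Groth.Agent.Lib.H6xRHa
import Groth.Agent.Lib.H6xDTenMonA
import Groth.Agent.Lib.Helper1KF9
import Groth.Agent.Lib.Helper17KInjD1
import Groth.Agent.Lib.Helper17KInj12
set_option backward.isDefEq.respectTransparency.types false

/-!
# helper6: `D(R)` is closed — `- ⊗ᴸ L` has a right adjoint for every `L` (unconditional `DTen.HasRHom R`)

The right adjoint at `Q I` (`I` K-injective), for `L = Q P` (`P` K-flat), is `Q (Hom•(P, I))`.
-/

set_option autoImplicit false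
set_option linter.style.haveILetI false
universe u
open CategoryTheory CategoryTheory.Limits MonoidalCategory HomologicalComplex
attribute [local instance] HasDerivedCategory.standard

namespace Groth.Agent.Lib.H6xRH

open DerivedCategory Groth.Agent.Lib.Helper1.KF Groth.Agent.Lib.Helper1.DT DTen
  Groth.Agent.Lib.H6xDTen

variable {R : Type u} [CommRing R] [HasLTen R] (P I : Cx R)

/-- chain-level evaluation `Hom•(P, I) ⊗ P ⟶ I` -/
noncomputable def evCx : DRing.homCx P I ⊗ P ⟶ I := uncurry (DRing.homCx P I) P I (𝟙 _)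

/-- derived-level evaluation -/
noncomputable def evD : tO (Q.obj (DRing.homCx P I)) (Q.obj P) ⟶ Q.obj I :=
  εX (DRing.homCx P I) P ≫ Q.map (evCx P I)

/-- the candidate hom-bijection `Hom(X, Q Hom•(P, I)) → Hom(X ⊗ᴸ QP, QI)` -/
noncomputable def homMap (X : Dual.D R) (f : X ⟶ Q.obj (DRing.homCx P I)) :
    tO X (Q.obj P) ⟶ Q.obj I :=
  tH f (𝟙 (Q.obj P)) ≫ evD P I

lemma homMap_comp {X X' : Dual.D R} (a : X' ⟶ X) (f : X ⟶ Q.obj (DRing.homCx P I)) :
    homMap P I X' (a ≫ f) = tH a (𝟙 (Q.obj P)) ≫ homMap P I X f := by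
  simp only [homMap]
  rw [tH_comp_assoc, Category.comp_id]

lemma εX_natural_left' {K K' : Cx R} (f : K ⟶ K') (L : Cx R) :
    tH (Q.map f) (𝟙 (Q.obj L)) ≫ εX K' L = εX K L ≫ Q.map (f ▷ L) := by
  have := εX_natural f (𝟙 L)
  rw [CategoryTheory.Functor.map_id, MonoidalCategory.tensorHom_id] at this
  exact this

lemma homMap_Q_map (X₀ : Cx R) (g : X₀ ⟶ DRing.homCx P I) :
    homMap P I (Q.obj X₀) (Q.map g) = εX X₀ P ≫ Q.map (uncurry X₀ P I g) := by
  have h1 : uncurry X₀ P I g = (g ▷ P) ≫ evCx P I := by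
    rw [evCx, ← uncurry_natural, Category.comp_id]
  rw [homMap, evD, h1, Functor.map_comp, ← Category.assoc, εX_natural_left', Category.assoc]

theorem homMap_bijective_Q (X₀ : Cx R) [X₀.IsKProjective] (hP : KFlat P) [I.IsKInjective] :
    Function.Bijective (homMap P I (Q.obj X₀)) := by
  haveI := isIso_εX X₀ P (Or.inr hP)
  constructor
  · intro f₁ f₂ h
    obtain ⟨g₁, rfl⟩ := Q_map_surjective X₀ _ f₁
    obtain ⟨g₂, rfl⟩ := Q_map_surjective X₀ _ f₂
    rw [homMap_Q_map, homMap_Q_map, cancel_epi] at h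
    obtain ⟨H⟩ := Groth.Agent.Lib.Helper17.KInj.homotopy_of_Q_map_eq h
    obtain ⟨H'⟩ := homotopy_curry H
    rw [curry_uncurry, curry_uncurry] at H'
    exact Q_map_eq_of_homotopy H'
  · intro ψ
    obtain ⟨g', hg'⟩ := Groth.Agent.Lib.Helper17.KInj.exists_Q_map_eq (inv (εX X₀ P) ≫ ψ)
    refine ⟨Q.map (curry X₀ P I g'), ?_⟩
    rw [homMap_Q_map, uncurry_curry, hg', IsIso.hom_inv_id_assoc]

theorem homMap_bijective (hP : KFlat P) [I.IsKInjective] (X : Dual.D R) :
    Function.Bijective (homMap P I X) := by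
  obtain ⟨X₀, hX₀, -, ⟨e⟩⟩ := exists_kproj_iso X
  have hb := homMap_bijective_Q P I X₀ hP
  constructor
  · intro f₁ f₂ h
    have h2 : homMap P I (Q.obj X₀) (e.hom ≫ f₁) = homMap P I (Q.obj X₀) (e.hom ≫ f₂) := by
      rw [homMap_comp, homMap_comp, h]
    exact (cancel_epi e.hom).1 (hb.1 h2)
  · intro ψ
    obtain ⟨f₀, hf₀⟩ := hb.2 (tH e.hom (𝟙 _) ≫ ψ)
    refine ⟨e.inv ≫ f₀, ?_⟩
    rw [homMap_comp, hf₀, tH_comp_assoc, Iso.inv_hom_id, Category.comp_id, tH_id, Category.id_comp]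

/-- `Q Hom•(P, I)` represents `Hom(- ⊗ᴸ QP, QI)` -/
noncomputable def representableBy (hP : KFlat P) [I.IsKInjective] :
    ((tensorRightD R (Q.obj P)).op ⋙ yoneda.obj (Q.obj I)).RepresentableBy
      (Q.obj (DRing.homCx P I)) where
  homEquiv {X} := Equiv.ofBijective (homMap P I X) (homMap_bijective P I hP X)
  homEquiv_comp {X X'} f g := homMap_comp P I f g

theorem isLeftAdjoint_tensorRightD_Q (hP : KFlat P) :
    (tensorRightD R (Q.obj P)).IsLeftAdjoint := by
  apply Functor.isLeftAdjoint_of_rightAdjointObjIsDefined_eq_top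
  ext Y
  simp only [Pi.top_apply, Prop.top_eq_true, iff_true]
  obtain ⟨I, f, hI, hf, -, -⟩ :=
    Groth.Agent.Lib.Helper17.KInj.exists_kInjective_resolution.{u} (ModuleCat.{u} R)
      (Q.objPreimage Y)
  haveI : IsIso (Q.map f) := (DerivedCategory.isIso_Q_map_iff_quasiIso (φ := f)).2 hf
  let e : Y ≅ Q.obj I := (Q.objObjPreimageIso Y).symm ≪≫ asIso (Q.map f)
  exact ((representableBy P I hP).ofIso
    (Functor.isoWhiskerLeft _ (yoneda.mapIso e.symm))).isRepresentable

/-- `D(R)` is closed: unconditional `HasRHom`. -/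
theorem hasRHom : HasRHom R where
  isLeftAdjoint L := by
    obtain ⟨P, hP, -, ⟨e⟩⟩ := exists_kproj_iso L
    haveI := isLeftAdjoint_tensorRightD_Q P (kflat_of_isKProjective P)
    exact Functor.isLeftAdjoint_of_iso ((LTen R).flip.mapIso e)

end Groth.Agent.Lib.H6xRH
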