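import Mathlib
import Groth.Agent.Lib.H6xRHb
import Groth.Agent.Lib.Helper17KInjD5
set_option backward.isDefEq.respectTransparency.types false

/-!
# helper6: `DRing.RHomCx E` (right derived functor of `Hom•(E, -)`) versus `DTen.RHomR A (Q E)`
(right adjoint of `- ⊗ᴸ Q E`)

* `homotopy_homCxMap`: `Hom•(K, -)` preserves homotopies;
* `isIso_unit_app`: the unit `Q Hom•(E, I) ⟶ RHom(E, Q I)` is an isomorphism for `I` K-injective;
* `homMap_bijective'`: `Q Hom•(E, I)` represents `Hom(- ⊗ᴸ Q E, Q I)` for ARBITRARY `E` and `I` K-injective;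
* `nonempty_RHomCx_iso_RHomR`: `(RHomCx E).obj Y ≅ (RHomR A (Q E)).obj Y`.
-/

set_option autoImplicit false
set_option linter.style.haveILetI false
universe u
open CategoryTheory CategoryTheory.Limits MonoidalCategory HomologicalComplex
open CochainComplex CochainComplex.HomComplex
attribute [local instance] HasDerivedCategory.standard

namespace Groth.Agent.Lib.H6xBrg

variable {A : Type u} [CommRing A]

section Homotopy

variable (K : DRing.Cx A) {L L' : DRing.Cx A}

/-- right composition with a cochain of degree `-1`, as a linear map -/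
noncomputable def compLin (z : Cochain L L' (-1)) (p q : ℤ) (hpq : p + (-1) = q) :
    Cochain K L p →ₗ[A] Cochain K L' q where
  toFun y := y.comp z hpq
  map_add' y y' := Cochain.add_comp _ _ _ _
  map_smul' a y := Cochain.smul_comp _ _ _ _

/-- the homotopy cochain -/
noncomputable def hCochain (z : Cochain L L' (-1)) :
    Cochain (DRing.homCx K L) (DRing.homCx K L') (-1) :=
  Cochain.mk (fun p q hpq => ModuleCat.ofHom (compLin K z p q hpq))

lemma hCochain_spec {f g : L ⟶ L'} (z : Cochain L L' (-1))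
    (hz : Cochain.ofHom f = δ (-1) 0 z + Cochain.ofHom g) :
    Cochain.ofHom (DRing.homCxMap K f) =
      δ (-1) 0 (hCochain K z) + Cochain.ofHom (DRing.homCxMap K g) := by
  ext p
  rw [Cochain.add_v, Cochain.ofHom_v, Cochain.ofHom_v,
    δ_v (-1) 0 (by simp) (hCochain K z) p p (add_zero p) (p - 1) (p + 1) rfl rfl]
  rename_i y
  change Cochain K L p at y
  change y.comp (Cochain.ofHom f) (add_zero p) =
    δ (p - 1) p (y.comp z (by omega)) + (0 : ℤ).negOnePow • (δ p (p + 1) y).comp z (by omega) +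
      y.comp (Cochain.ofHom g) (add_zero p)
  rw [hz, Cochain.comp_add, δ_comp y z (show p + (-1) = p - 1 by omega) (p + 1) 0 p (by omega) rfl
    (by simp)]
  simp

/-- `Hom•(K, -)` preserves homotopies -/
noncomputable def homotopyHomCxMap {f g : L ⟶ L'} (h : Homotopy f g) :
    Homotopy (DRing.homCxMap K f) (DRing.homCxMap K g) :=
  (Cochain.equivHomotopy _ _).symm ⟨hCochain K (Cochain.equivHomotopy f g h).1,
    hCochain_spec K _ (Cochain.equivHomotopy f g h).2⟩

end Homotopy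

section Unit

open Groth.Agent.Lib.Helper17.KInj

variable (E : DRing.Cx A)

lemma isInvertedBy_homCxQ :
    (HomologicalComplex.homotopyEquivalences (ModuleCat.{u} A) (ComplexShape.up ℤ)).IsInvertedBy
      (DRing.homCxQ E) := by
  rintro L L' f ⟨e, rfl⟩
  refine ⟨⟨DerivedCategory.Q.map (DRing.homCxMap E e.inv), ?_, ?_⟩⟩
  · change DerivedCategory.Q.map (DRing.homCxMap E e.hom) ≫
      DerivedCategory.Q.map (DRing.homCxMap E e.inv) = 𝟙 _
    rw [← Functor.map_comp]
    have h1 : DRing.homCxMap E e.hom ≫ DRing.homCxMap E e.inv = DRing.homCxMap E (e.hom ≫ e.inv) :=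
      ((DRing.homCxFunctor E).map_comp e.hom e.inv).symm
    have h2 : DRing.homCxMap E (𝟙 L) = 𝟙 _ := (DRing.homCxFunctor E).map_id L
    rw [h1, DerivedCategory.Q_map_eq_of_homotopy _ (homotopyHomCxMap E e.homotopyHomInvId), h2,
      CategoryTheory.Functor.map_id]
  · change DerivedCategory.Q.map (DRing.homCxMap E e.inv) ≫
      DerivedCategory.Q.map (DRing.homCxMap E e.hom) = 𝟙 _
    rw [← Functor.map_comp]
    have h1 : DRing.homCxMap E e.inv ≫ DRing.homCxMap E e.hom = DRing.homCxMap E (e.inv ≫ e.hom) :=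
      ((DRing.homCxFunctor E).map_comp e.inv e.hom).symm
    have h2 : DRing.homCxMap E (𝟙 L') = 𝟙 _ := (DRing.homCxFunctor E).map_id L'
    rw [h1, DerivedCategory.Q_map_eq_of_homotopy _ (homotopyHomCxMap E e.homotopyInvHomId), h2,
      CategoryTheory.Functor.map_id]

/-- the unit of a right derived functor of a functor inverting homotopy equivalences is an
isomorphism at K-injective complexes -/
lemma isIso_app_of_isKInjective' {H : Type*} [Category H] (F' : DRing.Cx A ⥤ H)
    (hF' : (HomologicalComplex.homotopyEquivalences (ModuleCat.{u} A)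
      (ComplexShape.up ℤ)).IsInvertedBy F')
    (RF : Dual.D A ⥤ H) (β : F' ⟶ DerivedCategory.Q ⋙ RF)
    [RF.IsRightDerivedFunctor β (HomologicalComplex.quasiIso (ModuleCat.{u} A) (ComplexShape.up ℤ))]
    (I : DRing.Cx A) [I.IsKInjective] : IsIso (β.app I) := by
  have hι := trivCof_fibReplι₀ (ModuleCat.{u} A) I
  haveI := hι.2
  haveI := (fibrant_fibRepl₀ (ModuleCat.{u} A) I).isKInjective
  obtain ⟨ι, hι'⟩ : ∃ ι : I ⟶ (fibRepl₀ (ModuleCat.{u} A)).obj I,
    ι = (fibReplι₀ (ModuleCat.{u} A)).app I := ⟨_, rfl⟩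
  haveI : QuasiIso ι := by rw [hι']; infer_instance
  obtain ⟨e, he⟩ := homotopyEquiv_of_quasiIso ι
  rw [hι'] at he
  haveI : IsIso (β.app ((fibRepl₀ (ModuleCat.{u} A)).obj I)) :=
    (fibLocalizerMorphism_derives F' hF').isIso_of_isRightDerivedFunctor β
      ⟨_, fibrant_fibRepl₀ (ModuleCat.{u} A) I⟩
  have nat := β.naturality ((fibReplι₀ (ModuleCat.{u} A)).app I)
  haveI : IsIso (F'.map ((fibReplι₀ (ModuleCat.{u} A)).app I)) := hF' _ ⟨e, he⟩
  haveI : IsIso ((DerivedCategory.Q ⋙ RF).map ((fibReplι₀ (ModuleCat.{u} A)).app I)) := by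
    dsimp
    infer_instance
  have h2 : β.app I = F'.map ((fibReplι₀ (ModuleCat.{u} A)).app I) ≫
      β.app ((fibRepl₀ (ModuleCat.{u} A)).obj I) ≫
      inv ((DerivedCategory.Q ⋙ RF).map ((fibReplι₀ (ModuleCat.{u} A)).app I)) := by
    rw [← Category.assoc, IsIso.eq_comp_inv]
    exact nat.symm
  rw [h2]
  infer_instance

/-- the unit `Q Hom•(E, I) ⟶ RHom(E, Q I)` -/
noncomputable abbrev rhomUnit [DRing.HasRHomCx E] :
    DRing.homCxQ E ⟶ DerivedCategory.Q ⋙ DRing.RHomCx E :=
  (DRing.homCxQ E).totalRightDerivedUnit DerivedCategory.Q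
    (HomologicalComplex.quasiIso (ModuleCat.{u} A) (ComplexShape.up ℤ))

instance isIso_rhomUnit_app [DRing.HasRHomCx E] (I : DRing.Cx A) [I.IsKInjective] :
    IsIso ((rhomUnit E).app I) :=
  isIso_app_of_isKInjective' (DRing.homCxQ E) (isInvertedBy_homCxQ E) (DRing.RHomCx E)
    (rhomUnit E) I

/-- `RHom(E, Q I) ≅ Q Hom•(E, I)` for `I` K-injective -/
noncomputable def rhomCxIso [DRing.HasRHomCx E] (I : DRing.Cx A) [I.IsKInjective] :
    (DRing.RHomCx E).obj (DerivedCategory.Q.obj I) ≅ DerivedCategory.Q.obj (DRing.homCx E I) :=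
  (asIso ((rhomUnit E).app I)).symm

end Unit

section Rep

open DerivedCategory DTen Groth.Agent.Lib.Helper1.KF Groth.Agent.Lib.Helper1.DT
  Groth.Agent.Lib.H6xDTen Groth.Agent.Lib.H6xRH

variable [HasLTen A] (P I : Cx A)

theorem homMap_bijective_Q' (X₀ : Cx A) [X₀.IsKProjective] [I.IsKInjective] :
    Function.Bijective (homMap P I (Q.obj X₀)) := by
  haveI := isIso_εX X₀ P (Or.inl (kflat_of_isKProjective X₀))
  constructor
  · intro f₁ f₂ h
    obtain ⟨g₁, rfl⟩ := Q_map_surjective X₀ _ f₁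
    obtain ⟨g₂, rfl⟩ := Q_map_surjective X₀ _ f₂
    rw [homMap_Q_map, homMap_Q_map, cancel_epi] at h
    obtain ⟨H⟩ := Groth.Agent.Lib.Helper17.KInj.homotopy_of_Q_map_eq h
    obtain ⟨H'⟩ := homotopy_curry H
    rw [curry_uncurry, curry_uncurry] at H'
    exact Q_map_eq_of_homotopy H'
  · intro ψ
    obtain ⟨g', hg'⟩ := Groth.Agent.Lib.Helper17.KInj.exists_Q_map_eq (inv (εX X₀ P) ≫ ψ)
    refine ⟨Q.map (curry X₀ P I g'), ?_⟩
    rw [homMap_Q_map, uncurry_curry, hg', IsIso.hom_inv_id_assoc]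

theorem homMap_bijective' [I.IsKInjective] (X : Dual.D A) :
    Function.Bijective (homMap P I X) := by
  obtain ⟨X₀, hX₀, -, ⟨e⟩⟩ := exists_kproj_iso X
  have hb := homMap_bijective_Q' P I X₀
  constructor
  · intro f₁ f₂ h
    have h2 : homMap P I (Q.obj X₀) (e.hom ≫ f₁) = homMap P I (Q.obj X₀) (e.hom ≫ f₂) := by
      rw [homMap_comp, homMap_comp, h]
    exact (cancel_epi e.hom).1 (hb.1 h2)
  · intro ψ
    obtain ⟨f₀, hf₀⟩ := hb.2 (tH e.hom (𝟙 _) ≫ ψ)
    refine ⟨e.inv ≫ f₀, ?_⟩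
    rw [homMap_comp, hf₀, tH_comp_assoc, Iso.inv_hom_id, Category.comp_id, tH_id, Category.id_comp]

/-- `Q Hom•(P, I)` represents `Hom(- ⊗ᴸ QP, QI)`, for arbitrary `P` and K-injective `I` -/
noncomputable def representableBy' [I.IsKInjective] :
    ((tensorRightD A (Q.obj P)).op ⋙ yoneda.obj (Q.obj I)).RepresentableBy
      (Q.obj (DRing.homCx P I)) where
  homEquiv {X} := Equiv.ofBijective (homMap P I X) (homMap_bijective' P I X)
  homEquiv_comp {X X'} f g := homMap_comp P I f g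

/-- **the bridge**: `RHom(E, Y)` computed as the right derived functor of `Hom•(E, -)` agrees with the
right adjoint of `- ⊗ᴸ Q E` -/
theorem nonempty_RHomCx_iso_RHomR [HasRHom A] (E : Cx A) [DRing.HasRHomCx E] (Y : Dual.D A) :
    Nonempty ((DRing.RHomCx E).obj Y ≅ (RHomR A (Q.obj E)).obj Y) := by
  obtain ⟨I, f, hI, hf, -, -⟩ :=
    Groth.Agent.Lib.Helper17.KInj.exists_kInjective_resolution.{u} (ModuleCat.{u} A)
      (Q.objPreimage Y)
  haveI := hI
  haveI : IsIso (Q.map f) := (DerivedCategory.isIso_Q_map_iff_quasiIso (φ := f)).2 hf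
  let e : Y ≅ Q.obj I := (Q.objObjPreimageIso Y).symm ≪≫ asIso (Q.map f)
  have r1 := representableBy' E I
  have r2 := (rhomAdj A (Q.obj E)).representableBy (Q.obj I)
  exact ⟨(DRing.RHomCx E).mapIso e ≪≫ rhomCxIso E I ≪≫ r1.uniqueUpToIso r2 ≪≫
    (RHomR A (Q.obj E)).mapIso e.symm⟩

/-- the bridge, for an object with a chosen representative -/
theorem nonempty_RHomCx_iso_RHomR_of_iso [HasRHom A] (E : Cx A) [DRing.HasRHomCx E]
    {K : Dual.D A} (eK : Q.obj E ≅ K) (Y : Dual.D A) :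
    Nonempty ((DRing.RHomCx E).obj Y ≅ (RHomR A K).obj Y) := by
  obtain ⟨e1⟩ := nonempty_RHomCx_iso_RHomR E Y
  exact ⟨e1 ≪≫ ((RHom A).mapIso eK.symm.op).app Y⟩

end Rep

end Groth.Agent.Lib.H6xBrg
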