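import Mathlib
import Groth.Agent.Lib.H6xDTenMonA
set_option backward.isDefEq.respectTransparency.types false

/-!
# Monoidal structure on `D(A)` from the derived tensor product, part B (helper6)

Pentagon and triangle identities for `DTen.associator`, `DTen.leftUnitor`, `DTen.rightUnitor`, by
reduction to K-flat complexes, and the resulting `MonoidalCategory (Dual.D A)` (a `def`, to be used as a
local instance).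
-/

set_option autoImplicit false
set_option maxHeartbeats 400000
universe u
open CategoryTheory CategoryTheory.Limits MonoidalCategory HomologicalComplex
attribute [local instance] HasDerivedCategory.standard

namespace Groth.Agent.Lib.H6xDTen

open DerivedCategory Groth.Agent.Lib.Helper1.KF Groth.Agent.Lib.Helper1.DT DTen

variable {A : Type u} [CommRing A] [HasLTen A] [HasLTen₃ A] [IsSymMonoidal A]

/-- abbreviation for the associator of `D(A)` -/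
noncomputable abbrev aD (a b c : Dual.D A) : tO (tO a b) c ⟶ tO a (tO b c) := (DTen.associator a b c).hom

lemma εX_natural_left {K K' : Cx A} (f : K ⟶ K') (L : Cx A) :
    tH (Q.map f) (𝟙 (Q.obj L)) ≫ εX K' L = εX K L ≫ Q.map (f ▷ L) := by
  have := εX_natural f (𝟙 L)
  rw [CategoryTheory.Functor.map_id, MonoidalCategory.tensorHom_id] at this
  exact this

lemma εX_natural_right (K : Cx A) {L L' : Cx A} (g : L ⟶ L') :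
    tH (𝟙 (Q.obj K)) (Q.map g) ≫ εX K L' = εX K L ≫ Q.map (K ◁ g) := by
  have := εX_natural (𝟙 K) g
  rw [CategoryTheory.Functor.map_id, MonoidalCategory.id_tensorHom] at this
  exact this

/-- pentagon on images of complexes, after composing with the iterated counit -/
lemma pentagon_Q_aux (P₁ P₂ P₃ P₄ : Cx A) :
    (tH (aD (Q.obj P₁) (Q.obj P₂) (Q.obj P₃)) (𝟙 (Q.obj P₄)) ≫
      aD (Q.obj P₁) (tO (Q.obj P₂) (Q.obj P₃)) (Q.obj P₄) ≫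
      tH (𝟙 (Q.obj P₁)) (aD (Q.obj P₂) (Q.obj P₃) (Q.obj P₄))) ≫
      (tH (𝟙 (Q.obj P₁)) (tH (𝟙 (Q.obj P₂)) (εX P₃ P₄)) ≫ tH (𝟙 (Q.obj P₁)) (εX P₂ (P₃ ⊗ P₄)) ≫
        εX P₁ (P₂ ⊗ (P₃ ⊗ P₄))) =
    (aD (tO (Q.obj P₁) (Q.obj P₂)) (Q.obj P₃) (Q.obj P₄) ≫
      aD (Q.obj P₁) (Q.obj P₂) (tO (Q.obj P₃) (Q.obj P₄))) ≫
      (tH (𝟙 (Q.obj P₁)) (tH (𝟙 (Q.obj P₂)) (εX P₃ P₄)) ≫ tH (𝟙 (Q.obj P₁)) (εX P₂ (P₃ ⊗ P₄)) ≫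
        εX P₁ (P₂ ⊗ (P₃ ⊗ P₄))) := by
  -- right hand side
  have hR : (aD (tO (Q.obj P₁) (Q.obj P₂)) (Q.obj P₃) (Q.obj P₄) ≫
      aD (Q.obj P₁) (Q.obj P₂) (tO (Q.obj P₃) (Q.obj P₄))) ≫
      (tH (𝟙 (Q.obj P₁)) (tH (𝟙 (Q.obj P₂)) (εX P₃ P₄)) ≫ tH (𝟙 (Q.obj P₁)) (εX P₂ (P₃ ⊗ P₄)) ≫
        εX P₁ (P₂ ⊗ (P₃ ⊗ P₄))) =
      (tH (tH (εX P₁ P₂) (𝟙 _)) (𝟙 _) ≫ tH (εX (P₁ ⊗ P₂) P₃) (𝟙 _) ≫ εX ((P₁ ⊗ P₂) ⊗ P₃) P₄) ≫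
        Q.map ((α_ (P₁ ⊗ P₂) P₃ P₄).hom ≫ (α_ P₁ P₂ (P₃ ⊗ P₄)).hom) := by
    have n1 := associator_natural (𝟙 (Q.obj P₁)) (𝟙 (Q.obj P₂)) (εX P₃ P₄)
    rw [tH_id] at n1
    have k1 := assoc_εX P₁ P₂ (P₃ ⊗ P₄)
    have n2 := associator_natural (εX P₁ P₂) (𝟙 (Q.obj P₃)) (𝟙 (Q.obj P₄))
    rw [tH_id] at n2
    have k2 := assoc_εX (P₁ ⊗ P₂) P₃ P₄
    have i1 : tH (𝟙 (tO (Q.obj P₁) (Q.obj P₂))) (εX P₃ P₄) ≫ tH (εX P₁ P₂) (𝟙 (Q.obj (P₃ ⊗ P₄))) =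
        tH (εX P₁ P₂) (𝟙 (tO (Q.obj P₃) (Q.obj P₄))) ≫ tH (𝟙 (Q.obj (P₁ ⊗ P₂))) (εX P₃ P₄) := by
      rw [tH_comp, tH_comp, Category.id_comp, Category.comp_id, Category.id_comp, Category.comp_id]
    simp only [aD, Category.assoc] at n1 n2 k1 k2 ⊢
    rw [← reassoc_of% n1, k1, reassoc_of% i1, ← reassoc_of% n2, reassoc_of% k2,
      Functor.map_comp]
  -- left hand side
  have hL : (tH (aD (Q.obj P₁) (Q.obj P₂) (Q.obj P₃)) (𝟙 (Q.obj P₄)) ≫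
      aD (Q.obj P₁) (tO (Q.obj P₂) (Q.obj P₃)) (Q.obj P₄) ≫
      tH (𝟙 (Q.obj P₁)) (aD (Q.obj P₂) (Q.obj P₃) (Q.obj P₄))) ≫
      (tH (𝟙 (Q.obj P₁)) (tH (𝟙 (Q.obj P₂)) (εX P₃ P₄)) ≫ tH (𝟙 (Q.obj P₁)) (εX P₂ (P₃ ⊗ P₄)) ≫
        εX P₁ (P₂ ⊗ (P₃ ⊗ P₄))) =
      (tH (tH (εX P₁ P₂) (𝟙 _)) (𝟙 _) ≫ tH (εX (P₁ ⊗ P₂) P₃) (𝟙 _) ≫ εX ((P₁ ⊗ P₂) ⊗ P₃) P₄) ≫
        Q.map ((α_ P₁ P₂ P₃).hom ▷ P₄ ≫ (α_ P₁ (P₂ ⊗ P₃) P₄).hom ≫ P₁ ◁ (α_ P₂ P₃ P₄).hom) := by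
    have k1 := assoc_εX P₂ P₃ P₄
    have j1 : tH (𝟙 (Q.obj P₁)) (aD (Q.obj P₂) (Q.obj P₃) (Q.obj P₄)) ≫
        tH (𝟙 (Q.obj P₁)) (tH (𝟙 (Q.obj P₂)) (εX P₃ P₄)) ≫ tH (𝟙 (Q.obj P₁)) (εX P₂ (P₃ ⊗ P₄)) =
        tH (𝟙 (Q.obj P₁)) (tH (εX P₂ P₃) (𝟙 _)) ≫ tH (𝟙 (Q.obj P₁)) (εX (P₂ ⊗ P₃) P₄) ≫
          tH (𝟙 (Q.obj P₁)) (Q.map (α_ P₂ P₃ P₄).hom) := by
      simp only [tH_comp, Category.comp_id]
      rw [k1]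
    have e1 := εX_natural_right P₁ (α_ P₂ P₃ P₄).hom
    have n1 := associator_natural (𝟙 (Q.obj P₁)) (εX P₂ P₃) (𝟙 (Q.obj P₄))
    have k2 := assoc_εX P₁ (P₂ ⊗ P₃) P₄
    have k3 := assoc_εX P₁ P₂ P₃
    have j2 : tH (aD (Q.obj P₁) (Q.obj P₂) (Q.obj P₃)) (𝟙 (Q.obj P₄)) ≫
        tH (tH (𝟙 (Q.obj P₁)) (εX P₂ P₃)) (𝟙 (Q.obj P₄)) ≫ tH (εX P₁ (P₂ ⊗ P₃)) (𝟙 (Q.obj P₄)) =
        tH (tH (εX P₁ P₂) (𝟙 _)) (𝟙 _) ≫ tH (εX (P₁ ⊗ P₂) P₃) (𝟙 _) ≫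
          tH (Q.map (α_ P₁ P₂ P₃).hom) (𝟙 _) := by
      simp only [tH_comp, Category.comp_id]
      rw [k3]
    have e2 := εX_natural_left (α_ P₁ P₂ P₃).hom P₄
    simp only [aD, Category.assoc] at j1 j2 n1 k2 ⊢
    rw [reassoc_of% j1, e1, ← reassoc_of% n1, reassoc_of% k2, reassoc_of% j2, reassoc_of% e2]
    simp only [Functor.map_comp]
  rw [hL, hR, MonoidalCategory.pentagon]

/-- pentagon on images of K-flat complexes -/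
lemma pentagon_Q (P₁ P₂ P₃ P₄ : Cx A) (h₁ : KFlat P₁) (h₂ : KFlat P₂) (h₃ : KFlat P₃) :
    tH (aD (Q.obj P₁) (Q.obj P₂) (Q.obj P₃)) (𝟙 (Q.obj P₄)) ≫
      aD (Q.obj P₁) (tO (Q.obj P₂) (Q.obj P₃)) (Q.obj P₄) ≫
      tH (𝟙 (Q.obj P₁)) (aD (Q.obj P₂) (Q.obj P₃) (Q.obj P₄)) =
    aD (tO (Q.obj P₁) (Q.obj P₂)) (Q.obj P₃) (Q.obj P₄) ≫
      aD (Q.obj P₁) (Q.obj P₂) (tO (Q.obj P₃) (Q.obj P₄)) := by
  have i1 : IsIso (εX P₃ P₄) := isIso_εX _ _ (Or.inl h₃)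
  have i2 : IsIso (εX P₂ (P₃ ⊗ P₄)) := isIso_εX _ _ (Or.inl h₂)
  have i3 : IsIso (εX P₁ (P₂ ⊗ (P₃ ⊗ P₄))) := isIso_εX _ _ (Or.inl h₁)
  have i4 : IsIso (tH (𝟙 (Q.obj P₁)) (tH (𝟙 (Q.obj P₂)) (εX P₃ P₄)) ≫
      tH (𝟙 (Q.obj P₁)) (εX P₂ (P₃ ⊗ P₄)) ≫ εX P₁ (P₂ ⊗ (P₃ ⊗ P₄))) := inferInstance
  rw [← cancel_mono (tH (𝟙 (Q.obj P₁)) (tH (𝟙 (Q.obj P₂)) (εX P₃ P₄)) ≫
      tH (𝟙 (Q.obj P₁)) (εX P₂ (P₃ ⊗ P₄)) ≫ εX P₁ (P₂ ⊗ (P₃ ⊗ P₄)))]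
  exact pentagon_Q_aux P₁ P₂ P₃ P₄

omit [HasLTen A] [HasLTen₃ A] [IsSymMonoidal A] in
/-- every object of `D(A)` is the image of a K-flat complex -/
lemma exists_kflat_iso (a : Dual.D A) : ∃ P : Cx A, KFlat P ∧ Nonempty (Q.obj P ≅ a) := by
  obtain ⟨P, hP, -, ⟨e⟩⟩ := exists_kproj_iso a
  exact ⟨P, kflat_of_isKProjective P, ⟨e⟩⟩

/-- pentagon for the associator of `D(A)` -/
theorem pentagon_D (a b c d : Dual.D A) :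
    tH (aD a b c) (𝟙 d) ≫ aD a (tO b c) d ≫ tH (𝟙 a) (aD b c d) =
      aD (tO a b) c d ≫ aD a b (tO c d) := by
  obtain ⟨P₁, h₁, ⟨e₁⟩⟩ := exists_kflat_iso a
  obtain ⟨P₂, h₂, ⟨e₂⟩⟩ := exists_kflat_iso b
  obtain ⟨P₃, h₃, ⟨e₃⟩⟩ := exists_kflat_iso c
  obtain ⟨P₄, h₄, ⟨e₄⟩⟩ := exists_kflat_iso d
  have key := pentagon_Q P₁ P₂ P₃ P₄ h₁ h₂ h₃
  -- naturality of both sides
  have nL : tH (tH (tH e₁.hom e₂.hom) e₃.hom) e₄.hom ≫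
      (tH (aD a b c) (𝟙 d) ≫ aD a (tO b c) d ≫ tH (𝟙 a) (aD b c d)) =
      (tH (aD (Q.obj P₁) (Q.obj P₂) (Q.obj P₃)) (𝟙 (Q.obj P₄)) ≫
        aD (Q.obj P₁) (tO (Q.obj P₂) (Q.obj P₃)) (Q.obj P₄) ≫
        tH (𝟙 (Q.obj P₁)) (aD (Q.obj P₂) (Q.obj P₃) (Q.obj P₄))) ≫
        tH e₁.hom (tH e₂.hom (tH e₃.hom e₄.hom)) := by
    have n1 := associator_natural e₁.hom e₂.hom e₃.hom
    have n2 := associator_natural e₁.hom (tH e₂.hom e₃.hom) e₄.hom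
    have n3 := associator_natural e₂.hom e₃.hom e₄.hom
    simp only [aD, Category.assoc] at n1 n2 n3 ⊢
    rw [tH_comp_assoc, n1, Category.comp_id, ← Category.id_comp e₄.hom, ← tH_comp_assoc,
      reassoc_of% n2, tH_comp, tH_comp, Category.id_comp, Category.id_comp, Category.comp_id, n3]
  have nR : tH (tH (tH e₁.hom e₂.hom) e₃.hom) e₄.hom ≫ (aD (tO a b) c d ≫ aD a b (tO c d)) =
      (aD (tO (Q.obj P₁) (Q.obj P₂)) (Q.obj P₃) (Q.obj P₄) ≫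
        aD (Q.obj P₁) (Q.obj P₂) (tO (Q.obj P₃) (Q.obj P₄))) ≫
        tH e₁.hom (tH e₂.hom (tH e₃.hom e₄.hom)) := by
    have n1 := associator_natural (tH e₁.hom e₂.hom) e₃.hom e₄.hom
    have n2 := associator_natural e₁.hom e₂.hom (tH e₃.hom e₄.hom)
    simp only [aD, Category.assoc] at n1 n2 ⊢
    rw [reassoc_of% n1, n2]
  rw [← cancel_epi (tH (tH (tH e₁.hom e₂.hom) e₃.hom) e₄.hom), nL, nR, key]

/-- triangle on images of complexes, after composing with the counit -/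
lemma triangle_Q_aux (P P' : Cx A) :
    (aD (Q.obj P) (DTen.unit A) (Q.obj P') ≫ tH (𝟙 (Q.obj P)) (DTen.leftUnitor (Q.obj P')).hom) ≫
      εX P P' =
    tH (DTen.rightUnitor (Q.obj P)).hom (𝟙 (Q.obj P')) ≫ εX P P' := by
  have k := assoc_εX P (𝟙_ (Cx A)) P'
  have e1 := εX_natural_right P (λ_ P').hom
  have e2 := εX_natural_left (ρ_ P).hom P'
  have hl : (DTen.leftUnitor (Q.obj P')).hom = εX (𝟙_ (Cx A)) P' ≫ Q.map (λ_ P').hom := unitL_app A P'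
  have hr : (DTen.rightUnitor (Q.obj P)).hom = εX P (𝟙_ (Cx A)) ≫ Q.map (ρ_ P).hom := unitR_app A P
  rw [hl, hr]
  have j1 : tH (𝟙 (Q.obj P)) (εX (𝟙_ (Cx A)) P' ≫ Q.map (λ_ P').hom) =
      tH (𝟙 (Q.obj P)) (εX (𝟙_ (Cx A)) P') ≫ tH (𝟙 (Q.obj P)) (Q.map (λ_ P').hom) := by
    rw [tH_comp, Category.comp_id]
  have j2 : tH (εX P (𝟙_ (Cx A)) ≫ Q.map (ρ_ P).hom) (𝟙 (Q.obj P')) =
      tH (εX P (𝟙_ (Cx A))) (𝟙 (Q.obj P')) ≫ tH (Q.map (ρ_ P).hom) (𝟙 (Q.obj P')) := by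
    rw [tH_comp, Category.comp_id]
  rw [j1, j2]
  simp only [aD, Category.assoc] at k ⊢
  rw [e1, reassoc_of% k, e2, ← Functor.map_comp, MonoidalCategory.triangle]

/-- triangle for the structure maps of `D(A)` -/
theorem triangle_D (a b : Dual.D A) :
    aD a (DTen.unit A) b ≫ tH (𝟙 a) (DTen.leftUnitor b).hom = tH (DTen.rightUnitor a).hom (𝟙 b) := by
  obtain ⟨P, h, ⟨e⟩⟩ := exists_kflat_iso a
  obtain ⟨P', h', ⟨e'⟩⟩ := exists_kflat_iso b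
  have i1 : IsIso (εX P P') := isIso_εX _ _ (Or.inl h)
  have key : aD (Q.obj P) (DTen.unit A) (Q.obj P') ≫ tH (𝟙 (Q.obj P)) (DTen.leftUnitor (Q.obj P')).hom =
      tH (DTen.rightUnitor (Q.obj P)).hom (𝟙 (Q.obj P')) := by
    rw [← cancel_mono (εX P P')]
    exact triangle_Q_aux P P'
  have n1 := associator_natural e.hom (𝟙 (DTen.unit A)) e'.hom
  have n2 : tH (𝟙 (DTen.unit A)) e'.hom ≫ (DTen.leftUnitor b).hom =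
      (DTen.leftUnitor (Q.obj P')).hom ≫ e'.hom := (unitL A).naturality e'.hom
  have n3 : tH e.hom (𝟙 (DTen.unit A)) ≫ (DTen.rightUnitor a).hom =
      (DTen.rightUnitor (Q.obj P)).hom ≫ e.hom := (unitR A).naturality e.hom
  rw [← cancel_epi (tH (tH e.hom (𝟙 (DTen.unit A))) e'.hom)]
  have s1 : tH e.hom ((DTen.leftUnitor (Q.obj P')).hom ≫ e'.hom) =
      tH (𝟙 _) (DTen.leftUnitor (Q.obj P')).hom ≫ tH e.hom e'.hom := by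
    rw [tH_comp, Category.id_comp]
  have s2 : tH ((DTen.rightUnitor (Q.obj P)).hom ≫ e.hom) e'.hom =
      tH (DTen.rightUnitor (Q.obj P)).hom (𝟙 _) ≫ tH e.hom e'.hom := by
    rw [tH_comp, Category.id_comp]
  simp only [aD] at n1 key ⊢
  rw [reassoc_of% n1, tH_comp, tH_comp, Category.comp_id, Category.comp_id, n2, n3, s1, s2,
    ← Category.assoc, key]

end Groth.Agent.Lib.H6xDTen
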