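import Mathlib
import Groth.Agent.Lib.H6xDTenMonB
set_option backward.isDefEq.respectTransparency.types false

/-!
# Monoidal structure on `D(A)` from the derived tensor product, part C (helper6)

`monoidalD : MonoidalCategory (Dual.D A)` (a `def`; use `attribute [local instance] monoidalD`), with
tensor product `LTen₂`, unit `DTen.unit A`, associator `DTen.associator`, unitors `DTen.leftUnitor`,
`DTen.rightUnitor`.
-/

set_option autoImplicit false
set_option maxHeartbeats 400000
universe u
open CategoryTheory CategoryTheory.Limits MonoidalCategory HomologicalComplex
attribute [local instance] HasDerivedCategory.standard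

namespace Groth.Agent.Lib.H6xDTen

open DerivedCategory Groth.Agent.Lib.Helper1.KF Groth.Agent.Lib.Helper1.DT DTen

variable (A : Type u) [CommRing A] [HasLTen A] [HasLTen₃ A] [IsSymMonoidal A]

/-- the monoidal structure data on `D(A)` -/
@[reducible]
noncomputable def monoidalStructD : MonoidalCategoryStruct (Dual.D A) where
  tensorObj a b := tO a b
  whiskerLeft a _ _ g := tH (𝟙 a) g
  whiskerRight f b := tH f (𝟙 b)
  tensorHom f g := tH f g
  tensorUnit := DTen.unit A
  associator := DTen.associator
  leftUnitor := DTen.leftUnitor
  rightUnitor := DTen.rightUnitor

/-- The monoidal category structure on `D(A)` given by the derived tensor product. -/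
@[reducible]
noncomputable def monoidalD : MonoidalCategory (Dual.D A) :=
  { monoidalStructD A with
    tensorHom_def := fun f g => by
      change tH f g = tH f (𝟙 _) ≫ tH (𝟙 _) g
      rw [tH_comp, Category.comp_id, Category.id_comp]
    id_tensorHom_id := fun a b => tH_id a b
    tensorHom_comp_tensorHom := fun f₁ f₂ g₁ g₂ => tH_comp f₁ g₁ f₂ g₂
    whiskerLeft_id := fun a b => tH_id a b
    id_whiskerRight := fun a b => tH_id a b
    associator_naturality := fun f₁ f₂ f₃ => associator_natural f₁ f₂ f₃
    leftUnitor_naturality := fun f => (unitL A).naturality f
    rightUnitor_naturality := fun f => (unitR A).naturality f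
    pentagon := fun a b c d => pentagon_D a b c d
    triangle := fun a b => triangle_D a b }

end Groth.Agent.Lib.H6xDTen
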