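import Groth.Prelude.Def_DRing4
import Mathlib.CategoryTheory.Monoidal.Rigid.Basic
import Mathlib.CategoryTheory.GradedObject.Braiding
import Mathlib.CategoryTheory.Monoidal.Rigid.Braided
import Mathlib.CategoryTheory.Monoidal.Rigid.OfEquivalence
import Mathlib.LinearAlgebra.Contraction

/-!
# Dualizable complexes of modules are bounded with finite projective terms (helper6, S7016)

* `exactPairingMap`: a monoidal functor preserves exact pairings.
* In `GradedObject ℤ (ModuleCat R)`: `tensorObj_induction` (elements of a graded tensor product are sums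
  of elements coming from the summands), and for an exact pairing `X, Y`: `finite_projective`, `bounded`.
-/

set_option autoImplicit false
universe u
open CategoryTheory CategoryTheory.Limits MonoidalCategory

namespace H6xDualCx

open Functor.LaxMonoidal Functor.OplaxMonoidal in
/-- A monoidal functor preserves exact pairings. -/
@[instance_reducible]
def exactPairingMap {C D : Type*} [Category C] [Category D] [MonoidalCategory C] [MonoidalCategory D]
    (F : C ⥤ D) [F.Monoidal] (X Y : C) [ExactPairing X Y] : ExactPairing (F.obj X) (F.obj Y) where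
  coevaluation' := ε F ≫ F.map (η_ X Y) ≫ δ F X Y
  evaluation' := μ F Y X ≫ F.map (ε_ X Y) ≫ η F
  coevaluation_evaluation' := by
    rw [Functor.Monoidal.map_associator_inv' F]
    simp only [MonoidalCategory.whiskerLeft_comp, comp_whiskerRight, Category.assoc,
      Functor.Monoidal.whiskerLeft_δ_μ_assoc, Functor.Monoidal.whiskerRight_δ_μ_assoc]
    rw [μ_natural_right_assoc, δ_natural_left_assoc, ← F.map_comp_assoc, ← F.map_comp_assoc,
      Category.assoc, ExactPairing.coevaluation_evaluation]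
    simp
  evaluation_coevaluation' := by
    rw [Functor.Monoidal.map_associator' F]
    simp only [MonoidalCategory.whiskerLeft_comp, comp_whiskerRight, Category.assoc,
      Functor.Monoidal.whiskerLeft_δ_μ_assoc, Functor.Monoidal.whiskerRight_δ_μ_assoc]
    rw [μ_natural_left_assoc, δ_natural_right_assoc, ← F.map_comp_assoc, ← F.map_comp_assoc,
      Category.assoc, ExactPairing.evaluation_coevaluation]
    simp

section Graded
variable {R : Type u} [CommRing R]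
open GradedObject

variable (X Y : GradedObject ℤ (ModuleCat.{u} R))

/-- inclusion of a summand, typed with the monoidal notation -/
noncomputable abbrev ι₂ (p q n : ℤ) (h : p + q = n) :
    (X p ⊗ Y q : ModuleCat.{u} R) ⟶ (X ⊗ Y : GradedObject ℤ (ModuleCat.{u} R)) n :=
  Monoidal.ιTensorObj X Y p q n h

lemma iSup_range_ι (n : ℤ) :
    (⨆ (i : {pq : ℤ × ℤ // pq.1 + pq.2 = n}),
      LinearMap.range (ι₂ X Y i.1.1 i.1.2 n i.2).hom) = ⊤ := by
  set S := ⨆ (i : {pq : ℤ × ℤ // pq.1 + pq.2 = n}),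
      LinearMap.range (ι₂ X Y i.1.1 i.1.2 n i.2).hom with hS
  have h0 : ModuleCat.ofHom S.mkQ =
      (0 : (X ⊗ Y : GradedObject ℤ (ModuleCat.{u} R)) n ⟶ ModuleCat.of R (_ ⧸ S)) := by
    apply Monoidal.tensorObj_ext
    intro p q h
    refine ModuleCat.hom_ext (LinearMap.ext fun x => ?_)
    simp only [ModuleCat.hom_comp, ModuleCat.hom_ofHom, LinearMap.comp_apply, Limits.comp_zero,
      ModuleCat.hom_zero, LinearMap.zero_apply]
    rw [Submodule.mkQ_apply, Submodule.Quotient.mk_eq_zero]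
    exact (le_iSup (fun i : {pq : ℤ × ℤ // pq.1 + pq.2 = n} =>
      LinearMap.range (ι₂ X Y i.1.1 i.1.2 n i.2).hom) ⟨(p, q), h⟩) ⟨x, rfl⟩
  have h1 : S.mkQ = 0 := by
    have := congrArg ModuleCat.Hom.hom h0
    simpa using this
  rw [← Submodule.ker_mkQ S, h1, LinearMap.ker_zero]

/-- Induction principle for elements of a graded tensor product. -/
lemma tensorObj_induction (n : ℤ)
    {motive : ((X ⊗ Y : GradedObject ℤ (ModuleCat.{u} R)) n) → Prop}
    (zero : motive 0) (add : ∀ a b, motive a → motive b → motive (a + b))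
    (mem : ∀ (p q : ℤ) (h : p + q = n) (t : (X p ⊗ Y q : ModuleCat.{u} R)),
      motive ((ι₂ X Y p q n h).hom t))
    (e : (X ⊗ Y : GradedObject ℤ (ModuleCat.{u} R)) n) : motive e := by
  have he : e ∈ (⨆ (i : {pq : ℤ × ℤ // pq.1 + pq.2 = n}),
      LinearMap.range (ι₂ X Y i.1.1 i.1.2 n i.2).hom) := by
    rw [iSup_range_ι]; trivial
  refine Submodule.iSup_induction _ (motive := motive) he ?_ zero add
  rintro ⟨⟨p, q⟩, h⟩ x ⟨t, rfl⟩
  exact mem p q h t


variable [ExactPairing X Y]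

/-- the composite `(X⊗Y)_0 ⊗ X_j → X_j` -/
noncomputable def Gmap (j : ℤ) :
    ((X ⊗ Y : GradedObject ℤ (ModuleCat.{u} R)) 0 ⊗ X j : ModuleCat.{u} R) ⟶ X j :=
  ι₂ (X ⊗ Y) X 0 j j (zero_add j) ≫ (α_ X Y X).hom j ≫ (X ◁ ε_ X Y) j ≫ (ρ_ X).hom j

/-- the unit element map `R → (X ⊗ Y)_0`. -/
noncomputable def unitMap : (𝟙_ (ModuleCat.{u} R)) ⟶ (X ⊗ Y : GradedObject ℤ (ModuleCat.{u} R)) 0 :=
  (Monoidal.tensorUnit₀ (I := ℤ) (C := ModuleCat.{u} R)).inv ≫ (η_ X Y) 0

lemma fact1 (j : ℤ) : (λ_ (X j)).inv ≫ (unitMap X Y ▷ X j) ≫ Gmap X Y j = 𝟙 (X j) := by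
  have h := congr_fun (ExactPairing.evaluation_coevaluation X Y) j
  have h1 : (λ_ X).inv j ≫ (λ_ X).hom j = 𝟙 _ := congr_fun (λ_ X).inv_hom_id j
  have h2 : (ρ_ X).inv j ≫ (ρ_ X).hom j = 𝟙 _ := congr_fun (ρ_ X).inv_hom_id j
  have h3 : (λ_ X).inv j = (λ_ (X j)).inv ≫ (Monoidal.tensorUnit₀ (I := ℤ)).inv ▷ (X j) ≫
      ι₂ (𝟙_ (GradedObject ℤ (ModuleCat.{u} R))) X 0 j j (zero_add j) := Monoidal.leftUnitor_inv_apply X j
  have h4 : ι₂ (𝟙_ (GradedObject ℤ (ModuleCat.{u} R))) X 0 j j (zero_add j) ≫ (η_ X Y ▷ X) j =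
      ((η_ X Y) 0 ▷ X j) ≫ ι₂ (X ⊗ Y) X 0 j j (zero_add j) := by
    have := Monoidal.ι_tensorHom (η_ X Y) (𝟙 X) 0 j j (zero_add j)
    rw [show (𝟙 X : X ⟶ X) j = 𝟙 (X j) from rfl, tensorHom_id] at this
    exact this
  have h5 : (λ_ X).inv j ≫ ((η_ X Y ▷ X) j ≫ (α_ X Y X).hom j ≫ (X ◁ ε_ X Y) j) ≫ (ρ_ X).hom j
      = 𝟙 (X j) := by
    rw [show (η_ X Y ▷ X) j ≫ (α_ X Y X).hom j ≫ (X ◁ ε_ X Y) j = (λ_ X).hom j ≫ (ρ_ X).inv j
      from h, Category.assoc, h2, Category.comp_id, h1]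
  rw [← h5, h3]
  simp only [Category.assoc]
  rw [reassoc_of% h4]
  simp only [unitMap, Gmap, comp_whiskerRight, Category.assoc]

lemma fact2 (j p q k : ℤ) (h : p + q = 0) (hk : q + j = k) :
    (ι₂ X Y p q 0 h ▷ X j) ≫ Gmap X Y j =
      (α_ (X p) (Y q) (X j)).hom ≫ (X p ◁ (ι₂ Y X q j k hk ≫ (ε_ X Y) k)) ≫
        ι₂ X (𝟙_ (GradedObject ℤ (ModuleCat.{u} R))) p k j (by omega) ≫ (ρ_ X).hom j := by
  have hpqj : p + q + j = j := by omega
  have e1 : (ι₂ X Y p q 0 h ▷ X j) ≫ ι₂ (X ⊗ Y) X 0 j j (zero_add j) =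
      Monoidal.ιTensorObj₃' X Y X p q j j hpqj :=
    (Monoidal.ιTensorObj₃'_eq X Y X p q j j hpqj 0 h).symm
  have e2 : Monoidal.ιTensorObj₃' X Y X p q j j hpqj ≫ (α_ X Y X).hom j =
      (α_ _ _ _).hom ≫ Monoidal.ιTensorObj₃ X Y X p q j j hpqj :=
    Monoidal.ιTensorObj₃'_associator_hom X Y X p q j j hpqj
  have e3 : Monoidal.ιTensorObj₃ X Y X p q j j hpqj =
      (X p ◁ ι₂ Y X q j k hk) ≫ ι₂ X (Y ⊗ X) p k j (by omega) :=
    Monoidal.ιTensorObj₃_eq X Y X p q j j hpqj k hk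
  have e4 : ι₂ X (Y ⊗ X) p k j (by omega) ≫ (X ◁ ε_ X Y) j =
      (X p ◁ (ε_ X Y) k) ≫ ι₂ X (𝟙_ (GradedObject ℤ (ModuleCat.{u} R))) p k j (by omega) := by
    have := Monoidal.ι_tensorHom (𝟙 X) (ε_ X Y) p k j (by omega)
    rw [show (𝟙 X : X ⟶ X) p = 𝟙 (X p) from rfl, id_tensorHom] at this
    exact this
  rw [Gmap, reassoc_of% e1, reassoc_of% e2, e3]
  simp only [Category.assoc]
  rw [reassoc_of% e4]
  simp only [MonoidalCategory.whiskerLeft_comp, Category.assoc]

lemma isZero_unit (k : ℤ) (hk : k ≠ 0) :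
    IsZero ((𝟙_ (GradedObject ℤ (ModuleCat.{u} R))) k) :=
  (isZero_zero _).of_iso
    ((Monoidal.isInitialTensorUnitApply (C := ModuleCat.{u} R) k hk).uniqueUpToIso
      HasZeroObject.zeroIsInitial)

lemma fact2a (j p q : ℤ) (h : p + q = 0) (hpj : p ≠ j) :
    (ι₂ X Y p q 0 h ▷ X j) ≫ Gmap X Y j = 0 := by
  rw [fact2 X Y j p q (q + j) h rfl]
  have hz : ι₂ Y X q j (q + j) rfl ≫ (ε_ X Y) (q + j) = 0 :=
    (isZero_unit (R := R) (q + j) (by omega)).eq_of_tgt _ _
  rw [hz]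
  simp

lemma fact2b (j q : ℤ) (h : j + q = 0) (hk : q + j = 0) :
    (ι₂ X Y j q 0 h ▷ X j) ≫ Gmap X Y j =
      (α_ (X j) (Y q) (X j)).hom ≫ (X j ◁ (ι₂ Y X q j 0 hk ≫ (ε_ X Y) 0 ≫
        (Monoidal.tensorUnit₀ (I := ℤ) (C := ModuleCat.{u} R)).hom)) ≫ (ρ_ (X j)).hom := by
  rw [fact2 X Y j j q 0 h hk]
  have h2 : (ρ_ X).inv j ≫ (ρ_ X).hom j = 𝟙 _ := congr_fun (ρ_ X).inv_hom_id j
  have h3 : (ρ_ X).inv j = (ρ_ (X j)).inv ≫ (X j) ◁ (Monoidal.tensorUnit₀ (I := ℤ)).inv ≫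
      ι₂ X (𝟙_ (GradedObject ℤ (ModuleCat.{u} R))) j 0 j (add_zero j) :=
    Monoidal.rightUnitor_inv_apply X j
  have h4 : ι₂ X (𝟙_ (GradedObject ℤ (ModuleCat.{u} R))) j 0 j (add_zero j) ≫ (ρ_ X).hom j =
      (X j ◁ (Monoidal.tensorUnit₀ (I := ℤ) (C := ModuleCat.{u} R)).hom) ≫ (ρ_ (X j)).hom := by
    rw [h3] at h2
    simp only [Category.assoc] at h2
    rw [← cancel_epi ((ρ_ (X j)).inv ≫ (X j) ◁ (Monoidal.tensorUnit₀ (I := ℤ)).inv)]
    simp only [Category.assoc]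
    rw [h2, ← MonoidalCategory.whiskerLeft_comp_assoc]
    simp
  rw [h4]
  simp only [MonoidalCategory.whiskerLeft_comp, Category.assoc]

/-- `Ψ_j : (X⊗Y)_0 → End (X_j)`. -/
noncomputable def Psi (j : ℤ) :
    ((X ⊗ Y : GradedObject ℤ (ModuleCat.{u} R)) 0) →ₗ[R] (X j →ₗ[R] X j) :=
  (TensorProduct.mk R _ _).compr₂ (Gmap X Y j).hom

lemma Psi_apply (j : ℤ) (e : (X ⊗ Y : GradedObject ℤ (ModuleCat.{u} R)) 0) (x : X j) :
    Psi X Y j e x = (Gmap X Y j).hom (e ⊗ₜ[R] x) := rfl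

lemma Psi_unit (j : ℤ) : Psi X Y j ((unitMap X Y).hom (1 : R)) = LinearMap.id := by
  ext x
  have := congrArg (fun f => f.hom x) (fact1 X Y j)
  simp only [ModuleCat.hom_comp, LinearMap.comp_apply, ModuleCat.hom_id, LinearMap.id_apply] at this
  rw [Psi_apply, LinearMap.id_apply]
  rw [ModuleCat.MonoidalCategory.leftUnitor_inv_apply,
    ModuleCat.MonoidalCategory.whiskerRight_apply] at this
  exact this

lemma Psi_ι_ne (j p q : ℤ) (h : p + q = 0) (hpj : p ≠ j) (t : (X p ⊗ Y q : ModuleCat.{u} R)) :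
    Psi X Y j ((ι₂ X Y p q 0 h).hom t) = 0 := by
  ext x
  have := congrArg (fun f => f.hom (t ⊗ₜ[R] x)) (fact2a X Y j p q h hpj)
  simp only [ModuleCat.hom_comp, LinearMap.comp_apply, ModuleCat.hom_zero,
    LinearMap.zero_apply] at this
  rw [ModuleCat.MonoidalCategory.whiskerRight_apply] at this
  rw [Psi_apply, LinearMap.zero_apply]
  exact this

/-- the functional attached to `y ∈ Y_q`, `q + j = 0`. -/
noncomputable def phi (j q : ℤ) (hk : q + j = 0) (y : Y q) : X j →ₗ[R] R :=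
  (Monoidal.tensorUnit₀ (I := ℤ) (C := ModuleCat.{u} R)).hom.hom ∘ₗ ((ε_ X Y) 0).hom ∘ₗ
    (ι₂ Y X q j 0 hk).hom ∘ₗ (TensorProduct.mk R (Y q) (X j) y)

lemma Psi_ι_eq (j q : ℤ) (h : j + q = 0) (hk : q + j = 0) (m : X j) (y : Y q) :
    Psi X Y j ((ι₂ X Y j q 0 h).hom (m ⊗ₜ[R] y)) =
      dualTensorHom R (X j) (X j) (phi X Y j q hk y ⊗ₜ[R] m) := by
  ext x
  have := congrArg (fun f => f.hom ((m ⊗ₜ[R] y) ⊗ₜ[R] x)) (fact2b X Y j q h hk)
  simp only [ModuleCat.hom_comp, LinearMap.comp_apply] at this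
  rw [ModuleCat.MonoidalCategory.whiskerRight_apply,
    ModuleCat.MonoidalCategory.associator_hom_apply,
    ModuleCat.MonoidalCategory.whiskerLeft_apply,
    ModuleCat.MonoidalCategory.rightUnitor_hom_apply] at this
  rw [Psi_apply, dualTensorHom_apply]
  exact this

include Y in
theorem finite_projective (j : ℤ) : Module.Finite R (X j) ∧ Module.Projective R (X j) := by
  have key : ∀ e, Psi X Y j e ∈ LinearMap.range (dualTensorHom R (X j) (X j)) := by
    intro e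
    induction e using tensorObj_induction X Y 0 with
    | zero => rw [map_zero]; exact zero_mem _
    | add a b ha hb => rw [map_add]; exact add_mem ha hb
    | mem p q h t =>
      by_cases hpj : p = j
      · subst hpj
        induction t using TensorProduct.induction_on with
        | zero => rw [map_zero, map_zero]; exact zero_mem _
        | tmul m y => rw [Psi_ι_eq X Y p q h (by omega)]; exact ⟨_, rfl⟩
        | add a b ha hb => rw [map_add, map_add]; exact add_mem ha hb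
      · rw [Psi_ι_ne X Y j p q h hpj]; exact zero_mem _
  have h1 : (1 : Module.End R (X j)) ∈ LinearMap.range (dualTensorHom R (X j) (X j)) := by
    rw [Module.End.one_eq_id, ← Psi_unit X Y j]; exact key _
  exact ⟨Module.Finite.of_one_mem_range_dualTensorHom h1,
    Module.Projective.of_one_mem_range_dualTensorHom h1⟩

include Y in
theorem bounded : ∃ a b : ℤ, ∀ j : ℤ, j < a ∨ b < j → IsZero (X j) := by
  have key : ∀ e, ∃ F : Finset ℤ, ∀ j, j ∉ F → Psi X Y j e = 0 := by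
    intro e
    induction e using tensorObj_induction X Y 0 with
    | zero => exact ⟨∅, fun j _ => map_zero _⟩
    | add a b ha hb =>
      obtain ⟨F1, h1⟩ := ha
      obtain ⟨F2, h2⟩ := hb
      refine ⟨F1 ∪ F2, fun j hj => ?_⟩
      rw [Finset.mem_union, not_or] at hj
      rw [map_add, h1 j hj.1, h2 j hj.2, add_zero]
    | mem p q h t =>
      refine ⟨{p}, fun j hj => ?_⟩
      rw [Finset.mem_singleton] at hj
      exact Psi_ι_ne X Y j p q h (fun h' => hj h'.symm) t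
  obtain ⟨F, hF⟩ := key ((unitMap X Y).hom (1 : R))
  obtain ⟨b, hb⟩ := F.bddAbove
  obtain ⟨a, ha⟩ := F.bddBelow
  refine ⟨a, b, fun j hj => ?_⟩
  have hjF : j ∉ F := by
    intro hmem
    have h1 := ha hmem
    have h2 := hb hmem
    omega
  have h0 := hF j hjF
  rw [Psi_unit] at h0
  have : Subsingleton (X j) := ⟨fun x y => by
    have hx : x = 0 := by
      have := congrArg (fun f => f x) h0
      simpa using this
    have hy : y = 0 := by
      have := congrArg (fun f => f y) h0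
      simpa using this
    rw [hx, hy]⟩
  exact ModuleCat.isZero_of_subsingleton _

end Graded

end H6xDualCx
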