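import Mathlib
import Groth.Agent.Lib.H6xDualCx

/-!
# Exact pairings of graded modules from termwise pairings (helper6)

For graded objects `X, Y : GradedObject ℤ (ModuleCat R)` with a family of pairings
`ev p q : Y q ⊗ X p ⟶ 𝟙`, `co p q : 𝟙 ⟶ X p ⊗ Y q` (`p + q = 0`) satisfying the zigzag identities termwise and
`co p q = 0` for `p` outside a finite set, we construct an `ExactPairing X Y` in graded objects.
-/

set_option autoImplicit false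
universe u
open CategoryTheory CategoryTheory.Limits MonoidalCategory

namespace Groth.Agent.Lib.H6xGrDual

open GradedObject H6xDualCx

variable {R : Type u} [CommRing R]

/-- termwise pairing data between two graded modules -/
structure PairingData (X Y : GradedObject ℤ (ModuleCat.{u} R)) where
  /-- support -/
  S : Finset ℤ
  /-- evaluations -/
  ev : ∀ p q : ℤ, p + q = 0 → ((Y q ⊗ X p : ModuleCat.{u} R) ⟶ 𝟙_ (ModuleCat.{u} R))
  /-- coevaluations -/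
  co : ∀ p q : ℤ, p + q = 0 → (𝟙_ (ModuleCat.{u} R) ⟶ (X p ⊗ Y q : ModuleCat.{u} R))
  hS : ∀ (p q : ℤ) (h : p + q = 0), p ∉ S → co p q h = 0
  z1 : ∀ (p q : ℤ) (h : p + q = 0),
    (λ_ (X p)).inv ≫ co p q h ▷ X p ≫ (α_ _ _ _).hom ≫ X p ◁ ev p q h ≫ (ρ_ _).hom = 𝟙 _
  z2 : ∀ (p q : ℤ) (h : p + q = 0),
    (ρ_ (Y q)).inv ≫ Y q ◁ co p q h ≫ (α_ _ _ _).inv ≫ ev p q h ▷ Y q ≫ (λ_ _).hom = 𝟙 _

variable {X Y : GradedObject ℤ (ModuleCat.{u} R)} (P : PairingData X Y)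

/-- abbreviation for the unit component iso -/
noncomputable abbrev tU : (𝟙_ (GradedObject ℤ (ModuleCat.{u} R))) 0 ≅ 𝟙_ (ModuleCat.{u} R) :=
  Monoidal.tensorUnit₀ (I := ℤ) (C := ModuleCat.{u} R)

namespace PairingData

/-- the degree zero part of the graded evaluation, before the unit isomorphism -/
noncomputable def ev0 : (Y ⊗ X : GradedObject ℤ (ModuleCat.{u} R)) 0 ⟶ 𝟙_ (ModuleCat.{u} R) :=
  Monoidal.tensorObjDesc (fun q p hqp => P.ev p q (by omega))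

lemma ι_ev0 (q p : ℤ) (h : q + p = 0) : ι₂ Y X q p 0 h ≫ P.ev0 = P.ev p q (by omega) :=
  Monoidal.ι_tensorObjDesc _ _ _ _

/-- the graded evaluation -/
noncomputable def evG : (Y ⊗ X : GradedObject ℤ (ModuleCat.{u} R)) ⟶ 𝟙_ _ := fun n =>
  if hn : n = 0 then
    (eqToHom (by rw [hn]) : (Y ⊗ X : GradedObject ℤ (ModuleCat.{u} R)) n ⟶
      (Y ⊗ X : GradedObject ℤ (ModuleCat.{u} R)) 0) ≫ P.ev0 ≫ tU.inv ≫ eqToHom (by rw [hn])
  else 0

lemma evG_zero : P.evG 0 = P.ev0 ≫ tU.inv := by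
  simp [evG]

lemma evG_ne (n : ℤ) (hn : n ≠ 0) : P.evG n = 0 := by
  simp [evG, hn]

/-- the degree zero part of the graded coevaluation, before the unit isomorphism -/
noncomputable def co0 : 𝟙_ (ModuleCat.{u} R) ⟶ (X ⊗ Y : GradedObject ℤ (ModuleCat.{u} R)) 0 :=
  ∑ p ∈ P.S, P.co p (-p) (by omega) ≫ ι₂ X Y p (-p) 0 (by omega)

/-- the graded coevaluation -/
noncomputable def coG : 𝟙_ (GradedObject ℤ (ModuleCat.{u} R)) ⟶ X ⊗ Y := fun n =>
  if hn : n = 0 then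
    (eqToHom (by rw [hn]) : (𝟙_ (GradedObject ℤ (ModuleCat.{u} R))) n ⟶
      (𝟙_ (GradedObject ℤ (ModuleCat.{u} R))) 0) ≫ tU.hom ≫ P.co0 ≫ eqToHom (by rw [hn])
  else 0

lemma coG_zero : P.coG 0 = tU.hom ≫ P.co0 := by
  simp [coG]

end PairingData

section units
variable (Z : GradedObject ℤ (ModuleCat.{u} R))

lemma lam_inv (j : ℤ) : (λ_ Z).inv j = (λ_ (Z j)).inv ≫ tU.inv ▷ Z j ≫
    ι₂ (𝟙_ (GradedObject ℤ (ModuleCat.{u} R))) Z 0 j j (zero_add j) :=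
  Monoidal.leftUnitor_inv_apply Z j

lemma rho_inv (j : ℤ) : (ρ_ Z).inv j = (ρ_ (Z j)).inv ≫ Z j ◁ tU.inv ≫
    ι₂ Z (𝟙_ (GradedObject ℤ (ModuleCat.{u} R))) j 0 j (add_zero j) :=
  Monoidal.rightUnitor_inv_apply Z j

lemma ι_rho_hom (j : ℤ) : ι₂ Z (𝟙_ (GradedObject ℤ (ModuleCat.{u} R))) j 0 j (add_zero j) ≫ (ρ_ Z).hom j =
    Z j ◁ tU.hom ≫ (ρ_ (Z j)).hom := by
  have h2 : (ρ_ Z).inv j ≫ (ρ_ Z).hom j = 𝟙 _ := congr_fun (ρ_ Z).inv_hom_id j
  rw [rho_inv] at h2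
  simp only [Category.assoc] at h2
  rw [← cancel_epi ((ρ_ (Z j)).inv ≫ (Z j) ◁ tU.inv)]
  simp only [Category.assoc]
  rw [h2, ← MonoidalCategory.whiskerLeft_comp_assoc]
  simp

lemma ι_lam_hom (j : ℤ) : ι₂ (𝟙_ (GradedObject ℤ (ModuleCat.{u} R))) Z 0 j j (zero_add j) ≫ (λ_ Z).hom j =
    tU.hom ▷ Z j ≫ (λ_ (Z j)).hom := by
  have h2 : (λ_ Z).inv j ≫ (λ_ Z).hom j = 𝟙 _ := congr_fun (λ_ Z).inv_hom_id j
  rw [lam_inv] at h2
  simp only [Category.assoc] at h2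
  rw [← cancel_epi ((λ_ (Z j)).inv ≫ tU.inv ▷ (Z j))]
  simp only [Category.assoc]
  rw [h2, ← MonoidalCategory.comp_whiskerRight_assoc]
  simp

end units

namespace PairingData

/-- general form of the first zigzag composite on a summand -/
lemma W1_gen (p q j k : ℤ) (h : p + q = 0) (hk : q + j = k) :
    (ι₂ X Y p q 0 h ▷ X j) ≫ ι₂ (X ⊗ Y) X 0 j j (zero_add j) ≫ (α_ X Y X).hom j ≫ (X ◁ P.evG) j ≫
      (ρ_ X).hom j =
    (α_ (X p) (Y q) (X j)).hom ≫ (X p ◁ (ι₂ Y X q j k hk ≫ P.evG k)) ≫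
      ι₂ X (𝟙_ (GradedObject ℤ (ModuleCat.{u} R))) p k j (by omega) ≫ (ρ_ X).hom j := by
  have hpqj : p + q + j = j := by omega
  have e1 : (ι₂ X Y p q 0 h ▷ X j) ≫ ι₂ (X ⊗ Y) X 0 j j (zero_add j) =
      Monoidal.ιTensorObj₃' X Y X p q j j hpqj :=
    (Monoidal.ιTensorObj₃'_eq X Y X p q j j hpqj 0 h).symm
  have e2 : Monoidal.ιTensorObj₃' X Y X p q j j hpqj ≫ (α_ X Y X).hom j =
      (α_ _ _ _).hom ≫ Monoidal.ιTensorObj₃ X Y X p q j j hpqj :=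
    Monoidal.ιTensorObj₃'_associator_hom X Y X p q j j hpqj
  have e3 : Monoidal.ιTensorObj₃ X Y X p q j j hpqj =
      (X p ◁ ι₂ Y X q j k hk) ≫ ι₂ X (Y ⊗ X) p k j (by omega) :=
    Monoidal.ιTensorObj₃_eq X Y X p q j j hpqj k hk
  have e4 : ι₂ X (Y ⊗ X) p k j (by omega) ≫ (X ◁ P.evG) j =
      (X p ◁ P.evG k) ≫ ι₂ X (𝟙_ (GradedObject ℤ (ModuleCat.{u} R))) p k j (by omega) := by
    have := Monoidal.ι_tensorHom (𝟙 X) P.evG p k j (by omega)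
    rw [show (𝟙 X : X ⟶ X) p = 𝟙 (X p) from rfl, id_tensorHom] at this
    exact this
  rw [reassoc_of% e1, reassoc_of% e2, e3]
  simp only [Category.assoc]
  rw [reassoc_of% e4]
  simp only [MonoidalCategory.whiskerLeft_comp, Category.assoc]

lemma W1_ne (p q j : ℤ) (h : p + q = 0) (hpj : p ≠ j) :
    (ι₂ X Y p q 0 h ▷ X j) ≫ ι₂ (X ⊗ Y) X 0 j j (zero_add j) ≫ (α_ X Y X).hom j ≫ (X ◁ P.evG) j ≫
      (ρ_ X).hom j = 0 := by
  rw [P.W1_gen p q j (q + j) h rfl, P.evG_ne (q + j) (by omega)]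
  simp

lemma W1_eq (j q : ℤ) (h : j + q = 0) :
    (ι₂ X Y j q 0 h ▷ X j) ≫ ι₂ (X ⊗ Y) X 0 j j (zero_add j) ≫ (α_ X Y X).hom j ≫ (X ◁ P.evG) j ≫
      (ρ_ X).hom j =
    (α_ (X j) (Y q) (X j)).hom ≫ X j ◁ P.ev j q h ≫ (ρ_ (X j)).hom := by
  rw [P.W1_gen j q j 0 h (by omega), P.evG_zero, ι_rho_hom, ← Category.assoc (ι₂ Y X q j 0 _),
    P.ι_ev0]
  simp only [MonoidalCategory.whiskerLeft_comp, Category.assoc]
  rw [← MonoidalCategory.whiskerLeft_comp_assoc (X j) tU.inv tU.hom]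
  simp

/-- first zigzag identity, in degree `j` -/
lemma zig1 (j : ℤ) :
    (λ_ X).inv j ≫ (P.coG ▷ X) j ≫ (α_ X Y X).hom j ≫ (X ◁ P.evG) j ≫ (ρ_ X).hom j = 𝟙 (X j) := by
  have h4 : ι₂ (𝟙_ (GradedObject ℤ (ModuleCat.{u} R))) X 0 j j (zero_add j) ≫ (P.coG ▷ X) j =
      (P.coG 0 ▷ X j) ≫ ι₂ (X ⊗ Y) X 0 j j (zero_add j) := by
    have := Monoidal.ι_tensorHom P.coG (𝟙 X) 0 j j (zero_add j)
    rw [show (𝟙 X : X ⟶ X) j = 𝟙 (X j) from rfl, tensorHom_id] at this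
    exact this
  rw [lam_inv]
  simp only [Category.assoc]
  rw [reassoc_of% h4, P.coG_zero, comp_whiskerRight, Category.assoc,
    ← MonoidalCategory.comp_whiskerRight_assoc tU.inv tU.hom, Iso.inv_hom_id, id_whiskerRight,
    Category.id_comp, PairingData.co0, CategoryTheory.sum_whiskerRight,
    Preadditive.sum_comp, Preadditive.comp_sum]
  rw [Finset.sum_eq_single j]
  · rw [comp_whiskerRight, Category.assoc, P.W1_eq j (-j) (by omega)]
    exact P.z1 j (-j) (by omega)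
  · intro p _ hpj
    rw [comp_whiskerRight, Category.assoc, P.W1_ne p (-p) j (by omega) hpj]
    simp
  · intro hj
    rw [P.hS j (-j) (by omega) hj]
    simp

lemma term_congr (p p' q : ℤ) (hp : p' = p) (h : p + q = 0) (h' : p' + q = 0) :
    P.co p' q h' ≫ ι₂ X Y p' q 0 h' = P.co p q h ≫ ι₂ X Y p q 0 h := by
  subst hp
  rfl

lemma co0_eq : P.co0 = ∑ q ∈ P.S.image (fun p => -p),
    P.co (-q) q (by omega) ≫ ι₂ X Y (-q) q 0 (by omega) := by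
  rw [Finset.sum_image (fun a _ b _ hab => neg_injective hab), PairingData.co0]
  refine Finset.sum_congr rfl (fun p _ => ?_)
  exact (P.term_congr p (-(-p)) (-p) (neg_neg p) (by omega) (by omega)).symm

/-- general form of the second zigzag composite on a summand -/
lemma W2_gen (p q k m : ℤ) (h : p + q = 0) (hm : k + p = m) :
    (Y k ◁ ι₂ X Y p q 0 h) ≫ ι₂ Y (X ⊗ Y) k 0 k (add_zero k) ≫ (α_ Y X Y).inv k ≫ (P.evG ▷ Y) k ≫
      (λ_ Y).hom k =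
    (α_ (Y k) (X p) (Y q)).inv ≫ ((ι₂ Y X k p m hm ≫ P.evG m) ▷ Y q) ≫
      ι₂ (𝟙_ (GradedObject ℤ (ModuleCat.{u} R))) Y m q k (by omega) ≫ (λ_ Y).hom k := by
  have hkpq : k + p + q = k := by omega
  have e1 : (Y k ◁ ι₂ X Y p q 0 h) ≫ ι₂ Y (X ⊗ Y) k 0 k (add_zero k) =
      Monoidal.ιTensorObj₃ Y X Y k p q k hkpq :=
    (Monoidal.ιTensorObj₃_eq Y X Y k p q k hkpq 0 h).symm
  have e2 : Monoidal.ιTensorObj₃ Y X Y k p q k hkpq ≫ (α_ Y X Y).inv k =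
      (α_ _ _ _).inv ≫ Monoidal.ιTensorObj₃' Y X Y k p q k hkpq :=
    Monoidal.ιTensorObj₃_associator_inv Y X Y k p q k hkpq
  have e3 : Monoidal.ιTensorObj₃' Y X Y k p q k hkpq =
      (ι₂ Y X k p m hm ▷ Y q) ≫ ι₂ (Y ⊗ X) Y m q k (by omega) :=
    Monoidal.ιTensorObj₃'_eq Y X Y k p q k hkpq m hm
  have e4 : ι₂ (Y ⊗ X) Y m q k (by omega) ≫ (P.evG ▷ Y) k =
      (P.evG m ▷ Y q) ≫ ι₂ (𝟙_ (GradedObject ℤ (ModuleCat.{u} R))) Y m q k (by omega) := by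
    have := Monoidal.ι_tensorHom P.evG (𝟙 Y) m q k (by omega)
    rw [show (𝟙 Y : Y ⟶ Y) q = 𝟙 (Y q) from rfl, tensorHom_id] at this
    exact this
  rw [reassoc_of% e1, reassoc_of% e2, e3]
  simp only [Category.assoc]
  rw [reassoc_of% e4]
  simp only [MonoidalCategory.comp_whiskerRight, Category.assoc]

lemma W2_ne (p q k : ℤ) (h : p + q = 0) (hqk : q ≠ k) :
    (Y k ◁ ι₂ X Y p q 0 h) ≫ ι₂ Y (X ⊗ Y) k 0 k (add_zero k) ≫ (α_ Y X Y).inv k ≫ (P.evG ▷ Y) k ≫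
      (λ_ Y).hom k = 0 := by
  rw [P.W2_gen p q k (k + p) h rfl, P.evG_ne (k + p) (by omega)]
  simp

lemma W2_eq (p k : ℤ) (h : p + k = 0) :
    (Y k ◁ ι₂ X Y p k 0 h) ≫ ι₂ Y (X ⊗ Y) k 0 k (add_zero k) ≫ (α_ Y X Y).inv k ≫ (P.evG ▷ Y) k ≫
      (λ_ Y).hom k =
    (α_ (Y k) (X p) (Y k)).inv ≫ P.ev p k h ▷ Y k ≫ (λ_ (Y k)).hom := by
  rw [P.W2_gen p k k 0 h (by omega), P.evG_zero, ι_lam_hom, ← Category.assoc (ι₂ Y X k p 0 _),
    P.ι_ev0]
  simp only [MonoidalCategory.comp_whiskerRight, Category.assoc]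
  rw [← MonoidalCategory.comp_whiskerRight_assoc tU.inv tU.hom (Y k)]
  simp

/-- second zigzag identity, in degree `k` -/
lemma zig2 (k : ℤ) :
    (ρ_ Y).inv k ≫ (Y ◁ P.coG) k ≫ (α_ Y X Y).inv k ≫ (P.evG ▷ Y) k ≫ (λ_ Y).hom k = 𝟙 (Y k) := by
  have h4 : ι₂ Y (𝟙_ (GradedObject ℤ (ModuleCat.{u} R))) k 0 k (add_zero k) ≫ (Y ◁ P.coG) k =
      (Y k ◁ P.coG 0) ≫ ι₂ Y (X ⊗ Y) k 0 k (add_zero k) := by
    have := Monoidal.ι_tensorHom (𝟙 Y) P.coG k 0 k (add_zero k)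
    rw [show (𝟙 Y : Y ⟶ Y) k = 𝟙 (Y k) from rfl, id_tensorHom] at this
    exact this
  rw [rho_inv]
  simp only [Category.assoc]
  rw [reassoc_of% h4, P.coG_zero, MonoidalCategory.whiskerLeft_comp, Category.assoc,
    ← MonoidalCategory.whiskerLeft_comp_assoc (Y k) tU.inv tU.hom, Iso.inv_hom_id,
    MonoidalCategory.whiskerLeft_id, Category.id_comp, P.co0_eq, CategoryTheory.whiskerLeft_sum,
    Preadditive.sum_comp, Preadditive.comp_sum]
  rw [Finset.sum_eq_single k]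
  · rw [MonoidalCategory.whiskerLeft_comp, Category.assoc, P.W2_eq (-k) k (by omega)]
    exact P.z2 (-k) k (by omega)
  · intro q _ hqk
    rw [MonoidalCategory.whiskerLeft_comp, Category.assoc, P.W2_ne (-q) q k (by omega) hqk]
    simp
  · intro hk
    have : -k ∉ P.S := by
      intro hmem
      exact hk (Finset.mem_image.mpr ⟨-k, hmem, neg_neg k⟩)
    rw [P.hS (-k) k (by omega) this]
    simp

/-- The exact pairing of graded modules attached to termwise pairing data. -/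
@[instance_reducible]
noncomputable def exactPairing : ExactPairing X Y where
  coevaluation' := P.coG
  evaluation' := P.evG
  coevaluation_evaluation' := by
    rw [← cancel_epi (ρ_ Y).inv, ← cancel_mono (λ_ Y).hom]
    simp only [Category.assoc, Iso.inv_hom_id, Iso.inv_hom_id_assoc, Category.comp_id]
    funext k
    exact P.zig2 k
  evaluation_coevaluation' := by
    rw [← cancel_epi (λ_ X).inv, ← cancel_mono (ρ_ X).hom]
    simp only [Category.assoc, Iso.inv_hom_id, Iso.inv_hom_id_assoc, Category.comp_id]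
    funext j
    exact P.zig1 j

end PairingData

end Groth.Agent.Lib.H6xGrDual
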