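import Mathlib
import Groth.Agent.Lib.H6xGrDualA
import Groth.Agent.Lib.Helper1KF9
set_option backward.isDefEq.respectTransparency.types false

/-!
# Exact pairings of complexes of modules from termwise pairings (helper6)

Given complexes `E, D` and termwise pairing data between their underlying graded modules, compatible with
the differentials, we construct `ExactPairing E D` in `CochainComplex (ModuleCat R) ℤ`.
-/

set_option autoImplicit false
universe u
open CategoryTheory CategoryTheory.Limits MonoidalCategory HomologicalComplex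

namespace Groth.Agent.Lib.H6xGrDual

open GradedObject H6xDualCx Groth.Agent.Lib.Helper1.KF

variable {R : Type u} [CommRing R]

/-- the forgetful functor to graded modules -/
noncomputable abbrev FF (R : Type u) [CommRing R] :=
  HomologicalComplex.forget (ModuleCat.{u} R) (ComplexShape.up ℤ)

/-- the unit comparison isomorphism -/
noncomputable abbrev uI (R : Type u) [CommRing R] :=
  HomologicalComplex.tensorUnitIso (ModuleCat.{u} R) (ComplexShape.up ℤ)

variable (E D : Cx R)

/-- termwise pairing data between complexes, compatible with the differentials -/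
structure CxPairingData extends PairingData (R := R) (X := E.X) (Y := D.X) where
  dv : ∀ (p q p' q' : ℤ) (h : p + q' = 0) (h' : p' + q = 0) (_ : p + 1 = p') (_ : q + 1 = q'),
    (D.d q q' ▷ E.X p) ≫ ev p q' h + q.negOnePow • (D.X q ◁ E.d p p') ≫ ev p' q h' = 0
  dc : ∀ (p q p' q' : ℤ) (h : p + q' = 0) (h' : p' + q = 0) (_ : p + 1 = p') (_ : q + 1 = q'),
    co p q' h ≫ (E.d p p' ▷ D.X q') + p'.negOnePow • co p' q h' ≫ (E.X p' ◁ D.d q q') = 0

variable {E D} (P : CxPairingData E D)

namespace CxPairingData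

/-- `ev0`, typed with the tensor product of complexes -/
noncomputable def ev0X : (D ⊗ E).X 0 ⟶ 𝟙_ (ModuleCat.{u} R) := P.toPairingData.ev0

lemma ι_ev0X (q p : ℤ) (h : q + p = 0) :
    ιTensorObj D E q p 0 h ≫ P.ev0X = P.ev p q (by omega) :=
  P.toPairingData.ι_ev0 q p h

/-- the unit comparison in degree `0` -/
noncomputable def uI0 : (𝟙_ (GradedObject ℤ (ModuleCat.{u} R))) 0 ≅ (𝟙_ (Cx R)).X 0 where
  hom := (uI R).hom 0
  inv := (uI R).inv 0
  hom_inv_id := congr_fun (uI R).hom_inv_id 0
  inv_hom_id := congr_fun (uI R).inv_hom_id 0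

/-- the unit comparison in degree `0`, as an iso `𝟙 ≅ (𝟙_ (Cx R)).X 0` -/
noncomputable def u0 : 𝟙_ (ModuleCat.{u} R) ≅ (𝟙_ (Cx R)).X 0 := tU.symm ≪≫ uI0

/-- components of the evaluation, typed with complexes -/
noncomputable def evX (n : ℤ) : (D ⊗ E).X n ⟶ (𝟙_ (Cx R)).X n :=
  P.toPairingData.evG n ≫ (uI R).hom n

lemma evX_ne (n : ℤ) (hn : n ≠ 0) : P.evX n = 0 := by
  have : P.toPairingData.evG n ≫ (uI R).hom n = 0 := by
    rw [P.toPairingData.evG_ne n hn, Limits.zero_comp]
  exact this

lemma evX_zero : P.evX 0 = P.ev0X ≫ (u0 (R := R)).hom := by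
  have : P.toPairingData.evG 0 ≫ (uI R).hom 0 = P.toPairingData.ev0 ≫ tU.inv ≫ (uI R).hom 0 := by
    rw [P.toPairingData.evG_zero, Category.assoc]
  exact this

lemma d_ev0X : (D ⊗ E).d (-1) 0 ≫ P.ev0X = 0 := by
  apply tensor_hom_ext
  intro q p hqp
  rw [← Category.assoc, ι_tensor_d D E q p (-1) hqp (q + 1) (p + 1) 0 rfl rfl (by omega)]
  rw [Preadditive.add_comp, Category.assoc, Linear.units_smul_comp, Category.assoc,
    P.ι_ev0X (q + 1) p (by omega), P.ι_ev0X q (p + 1) (by omega), Limits.comp_zero]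
  exact P.dv p q (p + 1) (q + 1) (by omega) (by omega) rfl rfl

/-- the evaluation as a morphism of complexes -/
noncomputable def evCx : D ⊗ E ⟶ 𝟙_ (Cx R) where
  f n := P.evX n
  comm' i j hij := by
    rw [show (𝟙_ (Cx R)).d i j = 0 from HomologicalComplex.single_obj_d _ _ _ _ _, Limits.comp_zero]
    by_cases hj : j = 0
    · subst hj
      obtain rfl : i = -1 := by simp at hij; omega
      rw [P.evX_zero, ← Category.assoc, P.d_ev0X, Limits.zero_comp]
    · rw [P.evX_ne j hj, Limits.comp_zero]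

/-- `co0`, typed with the tensor product of complexes -/
noncomputable def co0X : 𝟙_ (ModuleCat.{u} R) ⟶ (E ⊗ D).X 0 := P.toPairingData.co0

lemma co0X_eq : P.co0X = ∑ p ∈ P.S, P.co p (-p) (by omega) ≫ ιTensorObj E D p (-p) 0 (by omega) := rfl

/-- components of the coevaluation, typed with complexes -/
noncomputable def coX (n : ℤ) : (𝟙_ (Cx R)).X n ⟶ (E ⊗ D).X n :=
  (uI R).inv n ≫ P.toPairingData.coG n

lemma coX_ne (n : ℤ) (hn : n ≠ 0) : P.coX n = 0 := by
  have : (uI R).inv n ≫ P.toPairingData.coG n = 0 := by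
    have h0 : P.toPairingData.coG n = 0 := by simp [PairingData.coG, hn]
    rw [h0]
    exact Limits.comp_zero
  exact this

lemma coX_zero : P.coX 0 = (u0 (R := R)).inv ≫ P.co0X := by
  have : (uI R).inv 0 ≫ P.toPairingData.coG 0 = ((uI R).inv 0 ≫ tU.hom) ≫ P.toPairingData.co0 := by
    rw [P.toPairingData.coG_zero]
    exact (Category.assoc _ _ _).symm
  exact this

/-- the first part of the differential of a term of the coevaluation -/
noncomputable def tA (p : ℤ) : 𝟙_ (ModuleCat.{u} R) ⟶ (E ⊗ D).X 1 :=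
  P.co p (-p) (by omega) ≫ (E.d p (p + 1) ▷ D.X (-p)) ≫ ιTensorObj E D (p + 1) (-p) 1 (by omega)

/-- the second part of the differential of a term of the coevaluation -/
noncomputable def tB (p : ℤ) : 𝟙_ (ModuleCat.{u} R) ⟶ (E ⊗ D).X 1 :=
  p.negOnePow • P.co p (-p) (by omega) ≫ (E.X p ◁ D.d (-p) (-p + 1)) ≫
    ιTensorObj E D p (-p + 1) 1 (by omega)

lemma tA_of_notMem (p : ℤ) (hp : p ∉ P.S) : P.tA p = 0 := by
  rw [tA, P.hS p (-p) (by omega) hp, Limits.zero_comp]

lemma tB_of_notMem (p : ℤ) (hp : p ∉ P.S) : P.tB p = 0 := by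
  rw [tB, P.hS p (-p) (by omega) hp, Limits.zero_comp, smul_zero]

lemma whiskerLeft_d_ι_congr (a q q₁ q₂ : ℤ) (e : q₁ = q₂) (h₁ : a + q₁ = 1) (h₂ : a + q₂ = 1) :
    (E.X a ◁ D.d q q₁) ≫ ιTensorObj E D a q₁ 1 h₁ = (E.X a ◁ D.d q q₂) ≫ ιTensorObj E D a q₂ 1 h₂ := by
  subst e
  rfl

lemma tA_add_tB (p : ℤ) : P.tA p + P.tB (p + 1) = 0 := by
  have h := P.dc p (-(p + 1)) (p + 1) (-p) (by omega) (by omega) rfl (by omega)
  have h' := congrArg (fun f => f ≫ ιTensorObj E D (p + 1) (-p) 1 (by omega)) h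
  simp only [Preadditive.add_comp, Limits.zero_comp, Category.assoc, Linear.units_smul_comp] at h'
  rw [tA, tB, ← h']
  congr 3
  exact whiskerLeft_d_ι_congr (E := E) (D := D) (p + 1) (-(p + 1)) _ _ (by omega) _ _

lemma co0X_d : P.co0X ≫ (E ⊗ D).d 0 1 = 0 := by
  have h1 : P.co0X ≫ (E ⊗ D).d 0 1 = ∑ p ∈ P.S, (P.tA p + P.tB p) := by
    rw [co0X_eq, Preadditive.sum_comp]
    refine Finset.sum_congr rfl (fun p _ => ?_)
    rw [Category.assoc, ι_tensor_d E D p (-p) 0 (by omega) (p + 1) (-p + 1) 1 rfl rfl rfl,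
      Preadditive.comp_add, Linear.comp_units_smul]
    rfl
  rw [h1, Finset.sum_add_distrib]
  -- reindex
  let S' := P.S.image (fun p => p + 1)
  have e1 : ∑ p ∈ P.S, P.tA p = - ∑ p ∈ S', P.tB p := by
    rw [Finset.sum_image (fun a _ b _ hab => by simpa using hab), ← Finset.sum_neg_distrib]
    refine Finset.sum_congr rfl (fun p _ => ?_)
    exact eq_neg_of_add_eq_zero_left (P.tA_add_tB p)
  have e2 : ∑ p ∈ P.S, P.tB p = ∑ p ∈ P.S ∪ S', P.tB p :=
    Finset.sum_subset Finset.subset_union_left (fun p _ hp => P.tB_of_notMem p hp)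
  have e3 : ∑ p ∈ S', P.tB p = ∑ p ∈ P.S ∪ S', P.tB p := by
    refine Finset.sum_subset Finset.subset_union_right (fun p _ hp => ?_)
    have hp1 : p - 1 ∉ P.S := by
      intro hmem
      exact hp (Finset.mem_image.mpr ⟨p - 1, hmem, by omega⟩)
    have := P.tA_add_tB (p - 1)
    rw [P.tA_of_notMem (p - 1) hp1, zero_add, show p - 1 + 1 = p by omega] at this
    exact this
  rw [e1, e2, e3, neg_add_cancel]

/-- the coevaluation as a morphism of complexes -/
noncomputable def coCx : 𝟙_ (Cx R) ⟶ E ⊗ D where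
  f n := P.coX n
  comm' i j hij := by
    rw [show (𝟙_ (Cx R)).d i j = 0 from HomologicalComplex.single_obj_d _ _ _ _ _, Limits.zero_comp]
    by_cases hi : i = 0
    · subst hi
      obtain rfl : j = 1 := by simp at hij; omega
      rw [P.coX_zero, Category.assoc, P.co0X_d, Limits.comp_zero]
    · rw [P.coX_ne i hi, Limits.zero_comp]

open Functor.LaxMonoidal Functor.OplaxMonoidal in
/-- The exact pairing of complexes attached to termwise pairing data compatible with the differentials. -/
@[instance_reducible]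
noncomputable def exactPairing : ExactPairing E D :=
  letI : ExactPairing ((FF R).obj E) ((FF R).obj D) := P.toPairingData.exactPairing
  ExactPairing.ofFaithful (FF R) P.evCx P.coCx
    (by
      funext n
      change P.toPairingData.evG n ≫ (uI R).hom n = 𝟙 _ ≫ P.toPairingData.evG n ≫ (uI R).hom n
      rw [Category.id_comp])
    (by
      funext n
      change (uI R).inv n ≫ P.toPairingData.coG n = (uI R).inv n ≫ P.toPairingData.coG n ≫ 𝟙 _
      rw [Category.comp_id])

end CxPairingData

end Groth.Agent.Lib.H6xGrDual
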