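import Mathlib

/-!
# Duality data for finitely generated projective modules, in `ModuleCat` (helper6)

For a module `M` over a commutative ring: `evM M : M* ⊗ M ⟶ 𝟙` (contraction) and `coM M : 𝟙 ⟶ M ⊗ M*` (the
coevaluation, defined through `dualTensorHom`), with the zigzag identities and naturality when `M` is
finitely generated projective.
-/

set_option autoImplicit false
universe u
open CategoryTheory MonoidalCategory TensorProduct

namespace Groth.Agent.Lib.H6xGrDual

variable {R : Type u} [CommRing R]

section lin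
variable (P : Type u) [AddCommGroup P] [Module R P]

open Classical in
/-- the coevaluation element of `P ⊗ P*` (zero if it does not exist) -/
noncomputable def cE : P ⊗[R] Module.Dual R P :=
  if h : ∃ t : Module.Dual R P ⊗[R] P, dualTensorHom R P P t = LinearMap.id then
    TensorProduct.comm R (Module.Dual R P) P h.choose else 0

lemma cE_spec [Module.Finite R P] [Module.Projective R P] :
    dualTensorHom R P P (TensorProduct.comm R P (Module.Dual R P) (cE (R := R) P)) = LinearMap.id := by
  have h : ∃ t : Module.Dual R P ⊗[R] P, dualTensorHom R P P t = LinearMap.id :=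
    ⟨(dualTensorHomEquiv R P P).symm LinearMap.id,
      (dualTensorHomEquiv R P P).apply_symm_apply LinearMap.id⟩
  rw [cE, dif_pos h]
  have : (TensorProduct.comm R P (Module.Dual R P))
      ((TensorProduct.comm R (Module.Dual R P) P) h.choose) = h.choose := by
    rw [← TensorProduct.comm_symm, LinearEquiv.symm_apply_apply]
  rw [this]
  exact h.choose_spec

lemma cE_of_subsingleton [Subsingleton P] : cE (R := R) P = 0 := Subsingleton.elim _ _

variable {P}

/-- `(x ⊗ φ) ⊗ v ↦ φ(v) • x` -/
lemma rid_lTensor_contract_assoc (c : P ⊗[R] Module.Dual R P) (v : P) :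
    TensorProduct.rid R P ((contractLeft R P).lTensor P (TensorProduct.assoc R P (Module.Dual R P) P (c ⊗ₜ v))) =
      dualTensorHom R P P (TensorProduct.comm R P (Module.Dual R P) c) v := by
  induction c using TensorProduct.induction_on with
  | zero => simp
  | tmul x φ => simp [dualTensorHom_apply]
  | add a b ha hb => simp only [add_tmul, map_add, ha, hb, LinearMap.add_apply]

/-- `φ ⊗ (x ⊗ ψ) ↦ φ(x) • ψ` -/
lemma lid_rTensor_contract_assoc (c : P ⊗[R] Module.Dual R P) (φ : Module.Dual R P) :
    TensorProduct.lid R (Module.Dual R P) ((contractLeft R P).rTensor (Module.Dual R P)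
      ((TensorProduct.assoc R (Module.Dual R P) P (Module.Dual R P)).symm (φ ⊗ₜ c))) =
      φ ∘ₗ dualTensorHom R P P (TensorProduct.comm R P (Module.Dual R P) c) := by
  induction c using TensorProduct.induction_on with
  | zero => simp
  | tmul x ψ =>
    ext v
    simp [dualTensorHom_apply]
    ring
  | add a b ha hb => simp only [tmul_add, map_add, ha, hb, LinearMap.comp_add]

section nat
variable {P' : Type u} [AddCommGroup P'] [Module R P']

lemma dualTensorHom_comm_rTensor (d : P →ₗ[R] P') (c : P ⊗[R] Module.Dual R P) :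
    dualTensorHom R P P' (TensorProduct.comm R P' (Module.Dual R P) (LinearMap.rTensor (Module.Dual R P) d c)) =
      d ∘ₗ dualTensorHom R P P (TensorProduct.comm R P (Module.Dual R P) c) := by
  induction c using TensorProduct.induction_on with
  | zero => simp
  | tmul x φ =>
    ext v
    simp [dualTensorHom_apply]
  | add a b ha hb => simp only [map_add, ha, hb, LinearMap.comp_add]

lemma dualTensorHom_comm_lTensor (d : P →ₗ[R] P') (c : P' ⊗[R] Module.Dual R P') :
    dualTensorHom R P P' (TensorProduct.comm R P' (Module.Dual R P) (LinearMap.lTensor P' d.dualMap c)) =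
      dualTensorHom R P' P' (TensorProduct.comm R P' (Module.Dual R P') c) ∘ₗ d := by
  induction c using TensorProduct.induction_on with
  | zero => simp
  | tmul x φ =>
    ext v
    simp [dualTensorHom_apply]
  | add a b ha hb => simp only [map_add, ha, hb, LinearMap.add_comp]

lemma rTensor_cE [Module.Finite R P] [Module.Projective R P] [Module.Finite R P'] [Module.Projective R P']
    (d : P →ₗ[R] P') :
    LinearMap.rTensor (Module.Dual R P) d (cE (R := R) P) = LinearMap.lTensor P' d.dualMap (cE (R := R) P') := by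
  apply (TensorProduct.comm R P' (Module.Dual R P)).injective
  apply (dualTensorHomEquiv R P P').injective
  change dualTensorHom R P P' _ = dualTensorHom R P P' _
  rw [dualTensorHom_comm_rTensor, dualTensorHom_comm_lTensor, cE_spec, cE_spec]
  rfl

end nat

end lin

section cat
variable (M : ModuleCat.{u} R)

/-- the dual module as an object of `ModuleCat` -/
noncomputable abbrev dM : ModuleCat.{u} R := ModuleCat.of R (Module.Dual R M)

/-- evaluation `M* ⊗ M ⟶ 𝟙` -/
noncomputable def evM : (dM M ⊗ M : ModuleCat.{u} R) ⟶ 𝟙_ (ModuleCat.{u} R) :=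
  ModuleCat.ofHom (contractLeft R M)

/-- coevaluation `𝟙 ⟶ M ⊗ M*` -/
noncomputable def coM : 𝟙_ (ModuleCat.{u} R) ⟶ (M ⊗ dM M : ModuleCat.{u} R) :=
  ModuleCat.ofHom (LinearMap.toSpanSingleton R (M ⊗[R] Module.Dual R M) (cE (R := R) M))

lemma coM_of_subsingleton [Subsingleton M] : coM M = 0 := by
  rw [coM, cE_of_subsingleton]
  ext
  simp

/-- the dual of a morphism -/
noncomputable def dMap {M N : ModuleCat.{u} R} (d : M ⟶ N) : dM N ⟶ dM M :=
  ModuleCat.ofHom d.hom.dualMap

lemma z1M [Module.Finite R M] [Module.Projective R M] :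
    (λ_ M).inv ≫ coM M ▷ M ≫ (α_ _ _ _).hom ≫ M ◁ evM M ≫ (ρ_ M).hom = 𝟙 M := by
  ext v
  have h := rid_lTensor_contract_assoc (R := R) (cE (R := R) M) v
  rw [cE_spec] at h
  simp only [ModuleCat.hom_comp, LinearMap.comp_apply, ModuleCat.hom_id, LinearMap.id_apply]
  rw [ModuleCat.MonoidalCategory.leftUnitor_inv_apply, ModuleCat.MonoidalCategory.whiskerRight_apply]
  rw [ModuleCat.hom_hom_associator, ModuleCat.hom_whiskerLeft, ModuleCat.hom_hom_rightUnitor]
  simp only [coM, evM, ModuleCat.hom_ofHom, LinearEquiv.coe_coe]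
  have e : (LinearMap.toSpanSingleton R (↑M ⊗[R] Module.Dual R ↑M) (cE (R := R) ↑M)) (1 : R) = cE (R := R) ↑M :=
    by rw [LinearMap.toSpanSingleton_apply, one_smul]
  erw [e]
  exact h

lemma z2M [Module.Finite R M] [Module.Projective R M] :
    (ρ_ (dM M)).inv ≫ dM M ◁ coM M ≫ (α_ _ _ _).inv ≫ evM M ▷ dM M ≫ (λ_ (dM M)).hom = 𝟙 (dM M) := by
  ext φ
  have h := lid_rTensor_contract_assoc (R := R) (cE (R := R) M) φ
  rw [cE_spec] at h
  simp only [ModuleCat.hom_comp, LinearMap.comp_apply, ModuleCat.hom_id, LinearMap.id_apply]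
  rw [ModuleCat.MonoidalCategory.rightUnitor_inv_apply, ModuleCat.MonoidalCategory.whiskerLeft_apply]
  rw [ModuleCat.hom_inv_associator, ModuleCat.hom_whiskerRight, ModuleCat.hom_hom_leftUnitor]
  simp only [coM, evM, ModuleCat.hom_ofHom, LinearEquiv.coe_coe]
  have e : (LinearMap.toSpanSingleton R (↑M ⊗[R] Module.Dual R ↑M) (cE (R := R) ↑M)) (1 : R) = cE (R := R) ↑M :=
    by rw [LinearMap.toSpanSingleton_apply, one_smul]
  erw [e]
  exact LinearMap.congr_fun h _

variable {M}

lemma evM_nat {N : ModuleCat.{u} R} (d : M ⟶ N) :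
    (dMap d ▷ M) ≫ evM M = (dM N ◁ d) ≫ evM N := by
  apply ModuleCat.MonoidalCategory.tensor_ext
  intro φ x
  simp only [ModuleCat.hom_comp, LinearMap.comp_apply]
  rw [ModuleCat.MonoidalCategory.whiskerRight_apply, ModuleCat.MonoidalCategory.whiskerLeft_apply]
  simp only [evM, dMap, ModuleCat.hom_ofHom]
  erw [contractLeft_apply, contractLeft_apply]

lemma coM_nat {N : ModuleCat.{u} R} [Module.Finite R M] [Module.Projective R M]
    [Module.Finite R N] [Module.Projective R N] (d : M ⟶ N) :
    coM M ≫ (d ▷ dM M) = coM N ≫ (N ◁ dMap d) := by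
  ext
  simp only [ModuleCat.hom_comp, LinearMap.comp_apply, ModuleCat.hom_whiskerRight,
    ModuleCat.hom_whiskerLeft, coM, dMap, ModuleCat.hom_ofHom, LinearMap.toSpanSingleton_apply,
    one_smul]
  exact rTensor_cE (R := R) d.hom

end cat

end Groth.Agent.Lib.H6xGrDual
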