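import Mathlib
import Groth.Agent.Lib.H6xGrDualB
import Groth.Agent.Lib.H6xGrDualC
import Groth.Agent.Lib.Helper1KF12
set_option backward.isDefEq.respectTransparency.types false

/-!
# The dual of a bounded complex of finitely generated projective modules (helper6)

`dCx E` is the termwise dual complex; for `E` bounded with f.g. projective terms, `E` and `dCx E` form an
exact pairing in `CochainComplex (ModuleCat R) ℤ`, and both are K-flat.
-/

set_option autoImplicit false
universe u
open CategoryTheory CategoryTheory.Limits MonoidalCategory HomologicalComplex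

namespace Groth.Agent.Lib.H6xGrDual

open GradedObject H6xDualCx Groth.Agent.Lib.Helper1.KF

variable {R : Type u} [CommRing R]

lemma dMap_zero (M N : ModuleCat.{u} R) : dMap (0 : M ⟶ N) = 0 := by
  ext φ x
  simp [dMap]

section
variable {C : Type*} [Category C] [Preadditive C] [MonoidalCategory C] [MonoidalPreadditive C]

lemma units_smul_whiskerRight (u : ℤˣ) {Y Z : C} (f : Y ⟶ Z) (X : C) :
    (u • f) ▷ X = u • (f ▷ X) := by
  rcases Int.units_eq_one_or u with rfl | rfl
  · simp
  · rw [Units.neg_smul, Units.neg_smul, one_smul, one_smul]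
    exact (tensorRight X).map_neg

lemma whiskerLeft_units_smul (u : ℤˣ) (X : C) {Y Z : C} (f : Y ⟶ Z) :
    X ◁ (u • f) = u • (X ◁ f) := by
  rcases Int.units_eq_one_or u with rfl | rfl
  · simp
  · rw [Units.neg_smul, Units.neg_smul, one_smul, one_smul]
    exact (tensorLeft X).map_neg

end

lemma dMap_comp {M N P : ModuleCat.{u} R} (f : M ⟶ N) (g : N ⟶ P) :
    dMap (f ≫ g) = dMap g ≫ dMap f := by
  ext φ x
  rfl

/-- the termwise dual complex -/
noncomputable def dCx (E : Cx R) : Cx R where
  X q := dM (E.X (-q))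
  d q q' := (q + 1).negOnePow • dMap (E.d (-q') (-q))
  shape q q' h := by
    rw [E.shape, dMap_zero, smul_zero]
    intro h'
    apply h
    simp only [ComplexShape.up_Rel] at h' ⊢
    omega
  d_comp_d' i j k _ _ := by
    rw [Linear.units_smul_comp, Linear.comp_units_smul, ← dMap_comp, E.d_comp_d, dMap_zero,
      smul_zero, smul_zero]

lemma dCx_d (E : Cx R) (q q' : ℤ) :
    (dCx E).d q q' = (q + 1).negOnePow • dMap (E.d (-q') (-q)) := rfl

/-- the termwise evaluation -/
noncomputable def evD (E : Cx R) (p q : ℤ) (h : p + q = 0) :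
    ((dCx E).X q ⊗ E.X p : ModuleCat.{u} R) ⟶ 𝟙_ (ModuleCat.{u} R) :=
  ((dCx E).X q ◁ (E.XIsoOfEq (show p = -q by omega)).hom) ≫ evM (E.X (-q))

/-- the termwise coevaluation -/
noncomputable def coD (E : Cx R) (p q : ℤ) (h : p + q = 0) :
    𝟙_ (ModuleCat.{u} R) ⟶ (E.X p ⊗ (dCx E).X q : ModuleCat.{u} R) :=
  coM (E.X (-q)) ≫ ((E.XIsoOfEq (show p = -q by omega)).inv ▷ (dCx E).X q)

lemma evD_self (E : Cx R) (q : ℤ) (h : -q + q = 0) : evD E (-q) q h = evM (E.X (-q)) := by
  simp [evD, XIsoOfEq_rfl]

lemma coD_self (E : Cx R) (q : ℤ) (h : -q + q = 0) : coD E (-q) q h = coM (E.X (-q)) := by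
  simp only [coD, XIsoOfEq_rfl, Iso.refl_inv]
  erw [id_whiskerRight, Category.comp_id]

lemma dv_aux {M N : ModuleCat.{u} R} (d : M ⟶ N) (q : ℤ) :
    ((q + 1).negOnePow • dMap d) ▷ M ≫ evM M + q.negOnePow • dM N ◁ d ≫ evM N = 0 := by
  have hn := evM_nat d
  have hs : (q + 1).negOnePow = - q.negOnePow := by
    rw [Int.negOnePow_succ]
  rw [units_smul_whiskerRight, Linear.units_smul_comp, hn, hs, Units.neg_smul]
  exact neg_add_cancel _

lemma dc_aux {M N : ModuleCat.{u} R} [Module.Finite R M] [Module.Projective R M]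
    [Module.Finite R N] [Module.Projective R N] (d : M ⟶ N) (q : ℤ) :
    coM M ≫ d ▷ dM M + (-q).negOnePow • coM N ≫ N ◁ ((q + 1).negOnePow • dMap d) = 0 := by
  have hn := coM_nat d
  have hs : (-q).negOnePow * (q + 1).negOnePow = -1 := by
    rw [← Int.negOnePow_add, show -q + (q + 1) = 1 by ring, Int.negOnePow_one]
  rw [whiskerLeft_units_smul, Linear.comp_units_smul, smul_smul, hs, hn, Units.neg_smul, one_smul]
  exact add_neg_cancel _

/-- the pairing data between `E` and its dual -/
noncomputable def dualPairing (E : Cx R) (a b : ℤ)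
    (hab : ∀ i : ℤ, i < a ∨ b < i → IsZero (E.X i))
    (hE : ∀ i : ℤ, Module.Finite R (E.X i) ∧ Module.Projective R (E.X i)) :
    CxPairingData E (dCx E) where
  S := Finset.Icc a b
  ev := evD E
  co := coD E
  hS p q h hp := by
    obtain rfl : p = -q := by omega
    rw [coD_self]
    have hz : IsZero (E.X (-q)) := hab _ (by
      simp only [Finset.mem_Icc, not_and_or, not_le] at hp
      exact hp)
    haveI : Subsingleton (E.X (-q)) := ModuleCat.subsingleton_of_isZero hz
    exact coM_of_subsingleton _
  z1 p q h := by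
    obtain rfl : p = -q := by omega
    haveI := (hE (-q)).1
    haveI := (hE (-q)).2
    rw [coD_self, evD_self]
    exact z1M _
  z2 p q h := by
    obtain rfl : p = -q := by omega
    haveI := (hE (-q)).1
    haveI := (hE (-q)).2
    rw [coD_self, evD_self]
    exact z2M _
  dv p q p' q' h h' h1 h2 := by
    obtain rfl : p = -q' := by omega
    obtain rfl : p' = -q := by omega
    rw [evD_self, evD_self, dCx_d]
    exact dv_aux (E.d (-q') (-q)) q
  dc p q p' q' h h' h1 h2 := by
    obtain rfl : p = -q' := by omega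
    obtain rfl : p' = -q := by omega
    haveI := (hE (-q)).1
    haveI := (hE (-q)).2
    haveI := (hE (-q')).1
    haveI := (hE (-q')).2
    rw [coD_self, coD_self, dCx_d]
    exact dc_aux (E.d (-q') (-q)) q

/-- A bounded complex of f.g. projective modules and its dual form an exact pairing of complexes. -/
@[instance_reducible]
noncomputable def dualExactPairing (E : Cx R) (a b : ℤ)
    (hab : ∀ i : ℤ, i < a ∨ b < i → IsZero (E.X i))
    (hE : ∀ i : ℤ, Module.Finite R (E.X i) ∧ Module.Projective R (E.X i)) :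
    ExactPairing E (dCx E) :=
  (dualPairing E a b hab hE).exactPairing

lemma kflat_of_bounded_proj (E : Cx R) (b : ℤ) (hb : ∀ i : ℤ, b < i → IsZero (E.X i))
    (hE : ∀ i : ℤ, Module.Projective R (E.X i)) : KFlat E :=
  kflat_of_boundedAbove_flat E b hb (fun q => by
    haveI := hE q
    infer_instance)

lemma kflat_dCx (E : Cx R) (a : ℤ) (ha : ∀ i : ℤ, i < a → IsZero (E.X i))
    (hE : ∀ i : ℤ, Module.Finite R (E.X i) ∧ Module.Projective R (E.X i)) : KFlat (dCx E) := by
  refine kflat_of_boundedAbove_flat (dCx E) (-a) (fun q hq => ?_) (fun q => ?_)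
  · have hz : IsZero (E.X (-q)) := ha _ (by omega)
    haveI : Subsingleton (E.X (-q)) := ModuleCat.subsingleton_of_isZero hz
    haveI : Subsingleton (Module.Dual R (E.X (-q))) := ⟨fun f g => by
      ext x
      rw [Subsingleton.elim x 0, map_zero, map_zero]⟩
    exact ModuleCat.isZero_of_subsingleton (dM (E.X (-q)))
  · haveI := (hE (-q)).1
    haveI := (hE (-q)).2
    change Module.Flat R (Module.Dual R (E.X (-q)))
    infer_instance

end Groth.Agent.Lib.H6xGrDual
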