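import Mathlib
import Groth.Agent.Lib.H6xDTenMonC
import Groth.Agent.Lib.H6xGrDualD
set_option backward.isDefEq.respectTransparency.types false

/-!
# Exact pairings of complexes induce exact pairings in `D(A)` (helper6)

If `E, D` form an exact pairing in `CochainComplex (ModuleCat A) ℤ` and the counit `εX E D` is invertible
(e.g. `E` or `D` K-flat), then `Q E, Q D` form an exact pairing in `D(A)` for `monoidalD`.
-/

set_option autoImplicit false
set_option maxHeartbeats 400000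
universe u
open CategoryTheory CategoryTheory.Limits MonoidalCategory HomologicalComplex
attribute [local instance] HasDerivedCategory.standard

namespace Groth.Agent.Lib.H6xDTen

open DerivedCategory Groth.Agent.Lib.Helper1.KF Groth.Agent.Lib.Helper1.DT DTen

variable {A : Type u} [CommRing A] [HasLTen A] [HasLTen₃ A] [IsSymMonoidal A]

section
variable (E D : Cx A) [ExactPairing E D] [IsIso (εX E D)]

/-- coevaluation in `D(A)` -/
noncomputable def coevQ : DTen.unit A ⟶ tO (Q.obj E) (Q.obj D) := Q.map (η_ E D) ≫ inv (εX E D)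

/-- evaluation in `D(A)` -/
noncomputable def evQ : tO (Q.obj D) (Q.obj E) ⟶ DTen.unit A := εX D E ≫ Q.map (ε_ E D)

lemma coevQ_εX : coevQ E D ≫ εX E D = Q.map (η_ E D) := by
  rw [coevQ, Category.assoc, IsIso.inv_hom_id, Category.comp_id]

lemma zig1_Q :
    tH (coevQ E D) (𝟙 (Q.obj E)) ≫ aD (Q.obj E) (Q.obj D) (Q.obj E) ≫ tH (𝟙 (Q.obj E)) (evQ E D) ≫
      (DTen.rightUnitor (Q.obj E)).hom = (DTen.leftUnitor (Q.obj E)).hom := by
  have hl : (DTen.leftUnitor (Q.obj E)).hom = εX (𝟙_ (Cx A)) E ≫ Q.map (λ_ E).hom := unitL_app A E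
  have hr : (DTen.rightUnitor (Q.obj E)).hom = εX E (𝟙_ (Cx A)) ≫ Q.map (ρ_ E).hom := unitR_app A E
  rw [hl, hr]
  have j1 : tH (𝟙 (Q.obj E)) (evQ E D) =
      tH (𝟙 (Q.obj E)) (εX D E) ≫ tH (𝟙 (Q.obj E)) (Q.map (ε_ E D)) := by
    rw [tH_comp, Category.comp_id, evQ]
  have e1 := εX_natural_right E (ε_ E D)
  have k := assoc_εX E D E
  have j2 : tH (coevQ E D) (𝟙 (Q.obj E)) ≫ tH (εX E D) (𝟙 (Q.obj E)) =
      tH (Q.map (η_ E D)) (𝟙 (Q.obj E)) := by
    rw [tH_comp, Category.comp_id, coevQ_εX]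
  have e2 := εX_natural_left (η_ E D) E
  simp only [aD, Category.assoc] at k ⊢
  rw [j1, Category.assoc, reassoc_of% e1, reassoc_of% k, reassoc_of% j2, reassoc_of% e2]
  simp only [← Functor.map_comp]
  congr 2
  have z := ExactPairing.evaluation_coevaluation E D
  rw [reassoc_of% z]
  simp

lemma zig2_Q :
    tH (𝟙 (Q.obj D)) (coevQ E D) ≫ inv (aD (Q.obj D) (Q.obj E) (Q.obj D)) ≫ tH (evQ E D) (𝟙 (Q.obj D)) ≫
      (DTen.leftUnitor (Q.obj D)).hom = (DTen.rightUnitor (Q.obj D)).hom := by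
  have hl : (DTen.leftUnitor (Q.obj D)).hom = εX (𝟙_ (Cx A)) D ≫ Q.map (λ_ D).hom := unitL_app A D
  have hr : (DTen.rightUnitor (Q.obj D)).hom = εX D (𝟙_ (Cx A)) ≫ Q.map (ρ_ D).hom := unitR_app A D
  rw [hl, hr]
  have j1 : tH (evQ E D) (𝟙 (Q.obj D)) =
      tH (εX D E) (𝟙 (Q.obj D)) ≫ tH (Q.map (ε_ E D)) (𝟙 (Q.obj D)) := by
    rw [tH_comp, Category.comp_id, evQ]
  have e1 := εX_natural_left (ε_ E D) D
  have k := assoc_εX D E D
  have k' : tH (εX D E) (𝟙 (Q.obj D)) ≫ εX (D ⊗ E) D =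
      aD (Q.obj D) (Q.obj E) (Q.obj D) ≫ tH (𝟙 (Q.obj D)) (εX E D) ≫ εX D (E ⊗ D) ≫
        Q.map (α_ D E D).inv := by
    simp only [aD]
    rw [reassoc_of% k, ← Functor.map_comp, Iso.hom_inv_id, CategoryTheory.Functor.map_id, Category.comp_id]
  have j2 : tH (𝟙 (Q.obj D)) (coevQ E D) ≫ tH (𝟙 (Q.obj D)) (εX E D) =
      tH (𝟙 (Q.obj D)) (Q.map (η_ E D)) := by
    rw [tH_comp, Category.comp_id, coevQ_εX]
  have e2 := εX_natural_right D (η_ E D)
  rw [j1, Category.assoc, reassoc_of% e1, reassoc_of% k', IsIso.inv_hom_id_assoc, reassoc_of% j2,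
    reassoc_of% e2]
  simp only [← Functor.map_comp]
  congr 2
  have z := ExactPairing.coevaluation_evaluation E D
  rw [reassoc_of% z]
  simp

attribute [local instance] monoidalD

/-- The exact pairing in `D(A)` induced by an exact pairing of complexes with invertible counit. -/
@[instance_reducible]
noncomputable def exactPairingQ : ExactPairing (Q.obj E) (Q.obj D) where
  coevaluation' := coevQ E D
  evaluation' := evQ E D
  coevaluation_evaluation' := by
    have h := zig2_Q E D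
    change tH (𝟙 (Q.obj D)) (coevQ E D) ≫ (DTen.associator (Q.obj D) (Q.obj E) (Q.obj D)).inv ≫
      tH (evQ E D) (𝟙 (Q.obj D)) = (DTen.rightUnitor (Q.obj D)).hom ≫ (DTen.leftUnitor (Q.obj D)).inv
    rw [← h]
    simp only [aD, IsIso.Iso.inv_hom, Category.assoc, Iso.hom_inv_id, Category.comp_id]
  evaluation_coevaluation' := by
    have h := zig1_Q E D
    change tH (coevQ E D) (𝟙 (Q.obj E)) ≫ (DTen.associator (Q.obj E) (Q.obj D) (Q.obj E)).hom ≫
      tH (𝟙 (Q.obj E)) (evQ E D) = (DTen.leftUnitor (Q.obj E)).hom ≫ (DTen.rightUnitor (Q.obj E)).inv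
    rw [← h]
    simp only [aD, Category.assoc, Iso.hom_inv_id, Category.comp_id]

end

section perfect
variable [HasRHom A]
attribute [local instance] monoidalD

/-- A perfect object of `D(A)` has a dual for the monoidal structure `monoidalD`. -/
theorem exists_exactPairing_of_isPerfect (K : Dual.D A) (hK : DRing.IsPerfect A K) :
    ∃ K' : Dual.D A, Nonempty (ExactPairing K K') := by
  obtain ⟨E, a, b, hab, hE, ⟨e⟩⟩ := hK
  letI : ExactPairing E (H6xGrDual.dCx E) := H6xGrDual.dualExactPairing E a b hab hE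
  have hkf : KFlat E := H6xGrDual.kflat_of_bounded_proj E b (fun i hi => hab i (Or.inr hi))
    (fun i => (hE i).2)
  haveI : IsIso (εX E (H6xGrDual.dCx E)) := isIso_εX _ _ (Or.inl hkf)
  letI : ExactPairing (Q.obj E) (Q.obj (H6xGrDual.dCx E)) := exactPairingQ E (H6xGrDual.dCx E)
  exact ⟨Q.obj (H6xGrDual.dCx E), ⟨exactPairingCongr e.symm (Iso.refl _)⟩⟩

end perfect

end Groth.Agent.Lib.H6xDTen
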