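import Mathlib
import Groth.Agent.Lib.H6xGrDualD
set_option backward.isDefEq.respectTransparency.types false

/-!
# The left dual of a bounded complex of finitely generated projective modules (helper6)

`dCx' E` is the termwise dual complex with the opposite sign convention for the differential; for `E`
bounded with f.g. projective terms, `dCx' E` and `E` form an exact pairing (in this order) in
`CochainComplex (ModuleCat R) ℤ`.
-/

set_option autoImplicit false
universe u
open CategoryTheory CategoryTheory.Limits MonoidalCategory HomologicalComplex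

namespace Groth.Agent.Lib.H6xGrDual

open GradedObject H6xDualCx Groth.Agent.Lib.Helper1.KF

variable {R : Type u} [CommRing R]

section mod
variable (M : ModuleCat.{u} R)

/-- the exact pairing between a f.g. projective module and its dual -/
@[instance_reducible]
noncomputable def exactPairingM [Module.Finite R M] [Module.Projective R M] : ExactPairing M (dM M) where
  coevaluation' := coM M
  evaluation' := evM M
  coevaluation_evaluation' := by
    have h := z2M M
    rw [Iso.inv_comp_eq, Category.comp_id] at h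
    rw [← h]
    simp
  evaluation_coevaluation' := by
    have h := z1M M
    rw [Iso.inv_comp_eq, Category.comp_id] at h
    rw [← h]
    simp

/-- swapped evaluation `M ⊗ M* ⟶ 𝟙` -/
noncomputable def evM' : (M ⊗ dM M : ModuleCat.{u} R) ⟶ 𝟙_ (ModuleCat.{u} R) :=
  (β_ M (dM M)).hom ≫ evM M

/-- swapped coevaluation `𝟙 ⟶ M* ⊗ M` -/
noncomputable def coM' : 𝟙_ (ModuleCat.{u} R) ⟶ (dM M ⊗ M : ModuleCat.{u} R) :=
  coM M ≫ (β_ (dM M) M).inv

lemma coM'_of_subsingleton [Subsingleton M] : coM' M = 0 := by
  rw [coM', coM_of_subsingleton, Limits.zero_comp]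

lemma z1M' [Module.Finite R M] [Module.Projective R M] :
    (λ_ (dM M)).inv ≫ coM' M ▷ dM M ≫ (α_ _ _ _).hom ≫ dM M ◁ evM' M ≫ (ρ_ (dM M)).hom = 𝟙 (dM M) := by
  letI := exactPairingM M
  letI : ExactPairing (dM M) M := BraidedCategory.exactPairing_swap M (dM M)
  have h := ExactPairing.evaluation_coevaluation (dM M) M
  have h1 : η_ (dM M) M = coM' M := rfl
  have h2 : ε_ (dM M) M = evM' M := rfl
  rw [h1, h2] at h
  rw [reassoc_of% h]
  simp

lemma z2M' [Module.Finite R M] [Module.Projective R M] :
    (ρ_ M).inv ≫ M ◁ coM' M ≫ (α_ _ _ _).inv ≫ evM' M ▷ M ≫ (λ_ M).hom = 𝟙 M := by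
  letI := exactPairingM M
  letI : ExactPairing (dM M) M := BraidedCategory.exactPairing_swap M (dM M)
  have h := ExactPairing.coevaluation_evaluation (dM M) M
  have h1 : η_ (dM M) M = coM' M := rfl
  have h2 : ε_ (dM M) M = evM' M := rfl
  rw [h1, h2] at h
  rw [reassoc_of% h]
  simp

variable {M}

lemma evM'_nat {N : ModuleCat.{u} R} (d : M ⟶ N) :
    (d ▷ dM N) ≫ evM' N = (M ◁ dMap d) ≫ evM' M := by
  rw [evM', evM', BraidedCategory.braiding_naturality_left_assoc,
    BraidedCategory.braiding_naturality_right_assoc, evM_nat]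

lemma coM'_nat {N : ModuleCat.{u} R} [Module.Finite R M] [Module.Projective R M]
    [Module.Finite R N] [Module.Projective R N] (d : M ⟶ N) :
    coM' N ≫ (dMap d ▷ N) = coM' M ≫ (dM M ◁ d) := by
  rw [coM', coM', Category.assoc, Category.assoc, ← BraidedCategory.braiding_inv_naturality_left,
    ← BraidedCategory.braiding_inv_naturality_right, ← Category.assoc, ← Category.assoc, coM_nat]

end mod

/-- the termwise dual complex, with the other sign convention -/
noncomputable def dCx' (E : Cx R) : Cx R where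
  X q := dM (E.X (-q))
  d q q' := q.negOnePow • dMap (E.d (-q') (-q))
  shape q q' h := by
    rw [E.shape, dMap_zero, smul_zero]
    intro h'
    apply h
    simp only [ComplexShape.up_Rel] at h' ⊢
    omega
  d_comp_d' i j k _ _ := by
    rw [Linear.units_smul_comp, Linear.comp_units_smul, ← dMap_comp, E.d_comp_d, dMap_zero,
      smul_zero, smul_zero]

lemma dCx'_d (E : Cx R) (q q' : ℤ) :
    (dCx' E).d q q' = q.negOnePow • dMap (E.d (-q') (-q)) := rfl

/-- the termwise evaluation -/
noncomputable def evD' (E : Cx R) (p q : ℤ) (h : p + q = 0) :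
    (E.X q ⊗ (dCx' E).X p : ModuleCat.{u} R) ⟶ 𝟙_ (ModuleCat.{u} R) :=
  ((E.XIsoOfEq (show q = -p by omega)).hom ▷ (dCx' E).X p) ≫ evM' (E.X (-p))

/-- the termwise coevaluation -/
noncomputable def coD' (E : Cx R) (p q : ℤ) (h : p + q = 0) :
    𝟙_ (ModuleCat.{u} R) ⟶ ((dCx' E).X p ⊗ E.X q : ModuleCat.{u} R) :=
  coM' (E.X (-p)) ≫ ((dCx' E).X p ◁ (E.XIsoOfEq (show q = -p by omega)).inv)

lemma evD'_self (E : Cx R) (p : ℤ) (h : p + -p = 0) : evD' E p (-p) h = evM' (E.X (-p)) := by
  simp only [evD', XIsoOfEq_rfl, Iso.refl_hom]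
  erw [id_whiskerRight, Category.id_comp]

lemma coD'_self (E : Cx R) (p : ℤ) (h : p + -p = 0) : coD' E p (-p) h = coM' (E.X (-p)) := by
  simp only [coD', XIsoOfEq_rfl, Iso.refl_inv]
  erw [whiskerLeft_id, Category.comp_id]

lemma dv_aux' {M N : ModuleCat.{u} R} (d : M ⟶ N) (p p' : ℤ) (hp : p + 1 = p') :
    (d ▷ dM N) ≫ evM' N + (-p').negOnePow • (M ◁ (p.negOnePow • dMap d)) ≫ evM' M = 0 := by
  have hn := evM'_nat d
  have hs : (-p').negOnePow * p.negOnePow = -1 := by
    rw [← Int.negOnePow_add, show -p' + p = -1 by omega]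
    rfl
  rw [whiskerLeft_units_smul, Linear.units_smul_comp, smul_smul, hs, ← hn, Units.neg_smul, one_smul]
  exact add_neg_cancel _

lemma dc_aux' {M N : ModuleCat.{u} R} [Module.Finite R M] [Module.Projective R M]
    [Module.Finite R N] [Module.Projective R N] (d : M ⟶ N) (p p' : ℤ) (hp : p + 1 = p') :
    coM' N ≫ ((p.negOnePow • dMap d) ▷ N) + p'.negOnePow • coM' M ≫ (dM M ◁ d) = 0 := by
  have hn := coM'_nat d
  have hs : p'.negOnePow = - p.negOnePow := by
    rw [← hp, Int.negOnePow_succ]
  rw [units_smul_whiskerRight, Linear.comp_units_smul, hn, hs, Units.neg_smul]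
  exact add_neg_cancel _

/-- the pairing data between the dual `dCx' E` and `E` -/
noncomputable def dualPairing' (E : Cx R) (a b : ℤ)
    (hab : ∀ i : ℤ, i < a ∨ b < i → IsZero (E.X i))
    (hE : ∀ i : ℤ, Module.Finite R (E.X i) ∧ Module.Projective R (E.X i)) :
    CxPairingData (dCx' E) E where
  S := Finset.Icc (-b) (-a)
  ev := evD' E
  co := coD' E
  hS p q h hp := by
    obtain rfl : q = -p := by omega
    rw [coD'_self]
    have hz : IsZero (E.X (-p)) := hab _ (by
      simp only [Finset.mem_Icc, not_and_or, not_le] at hp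
      omega)
    haveI : Subsingleton (E.X (-p)) := ModuleCat.subsingleton_of_isZero hz
    exact coM'_of_subsingleton _
  z1 p q h := by
    obtain rfl : q = -p := by omega
    haveI := (hE (-p)).1
    haveI := (hE (-p)).2
    rw [coD'_self, evD'_self]
    exact z1M' _
  z2 p q h := by
    obtain rfl : q = -p := by omega
    haveI := (hE (-p)).1
    haveI := (hE (-p)).2
    rw [coD'_self, evD'_self]
    exact z2M' _
  dv p q p' q' h h' h1 h2 := by
    obtain rfl : q' = -p := by omega
    obtain rfl : q = -p' := by omega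
    rw [evD'_self, evD'_self, dCx'_d]
    exact dv_aux' (E.d (-p') (-p)) p p' h1
  dc p q p' q' h h' h1 h2 := by
    obtain rfl : q' = -p := by omega
    obtain rfl : q = -p' := by omega
    haveI := (hE (-p)).1
    haveI := (hE (-p)).2
    haveI := (hE (-p')).1
    haveI := (hE (-p')).2
    rw [coD'_self, coD'_self, dCx'_d]
    exact dc_aux' (E.d (-p') (-p)) p p' h1

/-- The dual `dCx' E` of a bounded complex `E` of f.g. projective modules is a left dual of `E`. -/
@[instance_reducible]
noncomputable def dualExactPairing' (E : Cx R) (a b : ℤ)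
    (hab : ∀ i : ℤ, i < a ∨ b < i → IsZero (E.X i))
    (hE : ∀ i : ℤ, Module.Finite R (E.X i) ∧ Module.Projective R (E.X i)) :
    ExactPairing (dCx' E) E :=
  (dualPairing' E a b hab hE).exactPairing

end Groth.Agent.Lib.H6xGrDual
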