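import Mathlib
import Groth.Agent.Lib.H6xDTenDualA
import Groth.Agent.Lib.H6xGrDualE
set_option backward.isDefEq.respectTransparency.types false

/-!
# Perfect objects of `D(A)` have left duals (helper6)
-/

set_option autoImplicit false
set_option maxHeartbeats 400000
universe u
open CategoryTheory CategoryTheory.Limits MonoidalCategory HomologicalComplex
attribute [local instance] HasDerivedCategory.standard

namespace Groth.Agent.Lib.H6xDTen

open DerivedCategory Groth.Agent.Lib.Helper1.KF Groth.Agent.Lib.Helper1.DT DTen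

variable {A : Type u} [CommRing A] [HasLTen A] [HasLTen₃ A] [IsSymMonoidal A]

attribute [local instance] monoidalD

/-- A perfect object of `D(A)` has a left dual for the monoidal structure `monoidalD`. -/
theorem exists_exactPairing_left_of_isPerfect (K : Dual.D A) (hK : DRing.IsPerfect A K) :
    ∃ K' : Dual.D A, Nonempty (ExactPairing K' K) := by
  obtain ⟨E, a, b, hab, hE, ⟨e⟩⟩ := hK
  letI : ExactPairing (H6xGrDual.dCx' E) E := H6xGrDual.dualExactPairing' E a b hab hE
  have hkf : KFlat E := H6xGrDual.kflat_of_bounded_proj E b (fun i hi => hab i (Or.inr hi))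
    (fun i => (hE i).2)
  haveI : IsIso (εX (H6xGrDual.dCx' E) E) := isIso_εX _ _ (Or.inr hkf)
  letI : ExactPairing (Q.obj (H6xGrDual.dCx' E)) (Q.obj E) := exactPairingQ (H6xGrDual.dCx' E) E
  exact ⟨Q.obj (H6xGrDual.dCx' E), ⟨exactPairingCongr (Iso.refl _) e.symm⟩⟩

end Groth.Agent.Lib.H6xDTen
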