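import Mathlib

/-!
# Mates of the associator are invertible for dualizable objects (helper6)

In a monoidal category `C`, let `adj : tensorRight M ⊣ G` be an "internal hom" adjunction.  The canonical map
`evT adj K L : K ⊗ G L ⟶ G (K ⊗ L)` (adjunct of associator followed by `K ◁ counit`) is an isomorphism as soon
as `K` has a right dual (`isIso_evT_of_left`) or `M` has a right dual (`isIso_evT_of_right`).
-/

set_option autoImplicit false
universe v u
open CategoryTheory MonoidalCategory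

namespace Groth.Agent.Lib.H6xMonDual

variable {C : Type u} [Category.{v} C] [MonoidalCategory C]

section
variable {M : C} {G : C ⥤ C} (adj : tensorRight M ⊣ G)

/-- the canonical map `K ⊗ G L ⟶ G (K ⊗ L)`, adjunct of `(K ⊗ G L) ⊗ M ≅ K ⊗ (G L ⊗ M) ⟶ K ⊗ L`. -/
def evT (K L : C) : K ⊗ G.obj L ⟶ G.obj (K ⊗ L) :=
  adj.homEquiv _ _ ((α_ K (G.obj L) M).hom ≫ K ◁ adj.counit.app L)

lemma evT_fac (K L : C) :
    (evT adj K L) ▷ M ≫ adj.counit.app (K ⊗ L) = (α_ K (G.obj L) M).hom ≫ K ◁ adj.counit.app L := by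
  have := adj.homEquiv_counit (X := K ⊗ G.obj L) (Y := K ⊗ L)
    (g := evT adj K L)
  rw [evT, Equiv.symm_apply_apply] at this
  exact this.symm

lemma tensorLeftHomEquiv_symm_comp_whiskerLeft {X Y Y' Z Z' : C} [ExactPairing Y Y'] (h : X ⟶ Y ⊗ Z)
    (g : Z ⟶ Z') :
    (tensorLeftHomEquiv X Y Y' Z').symm (h ≫ Y ◁ g) = (tensorLeftHomEquiv X Y Y' Z).symm h ≫ g := by
  apply (tensorLeftHomEquiv X Y Y' Z').injective
  rw [Equiv.apply_symm_apply, tensorLeftHomEquiv_naturality, Equiv.apply_symm_apply]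

/-- If `K` has a right dual, then `evT adj K L` is an isomorphism. -/
theorem isIso_evT_of_left (K K' L : C) [ExactPairing K K'] : IsIso (evT adj K L) := by
  apply isIso_of_yoneda_map_bijective
  intro T
  let e1 : (T ⟶ K ⊗ G.obj L) ≃ (K' ⊗ T ⟶ G.obj L) := (tensorLeftHomEquiv T K K' (G.obj L)).symm
  let e2 : (K' ⊗ T ⟶ G.obj L) ≃ ((K' ⊗ T) ⊗ M ⟶ L) := (adj.homEquiv (K' ⊗ T) L).symm
  let e3 : ((K' ⊗ T) ⊗ M ⟶ L) ≃ (K' ⊗ (T ⊗ M) ⟶ L) := (α_ K' T M).homFromEquiv
  let e4 : (K' ⊗ (T ⊗ M) ⟶ L) ≃ (T ⊗ M ⟶ K ⊗ L) := tensorLeftHomEquiv (T ⊗ M) K K' L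
  let e5 : (T ⊗ M ⟶ K ⊗ L) ≃ (T ⟶ G.obj (K ⊗ L)) := adj.homEquiv T (K ⊗ L)
  have key : ∀ g : T ⟶ K ⊗ G.obj L, g ≫ evT adj K L = e5 (e4 (e3 (e2 (e1 g)))) := by
    intro g
    have h1 : g ≫ evT adj K L =
        e5 ((g ▷ M) ≫ (α_ K (G.obj L) M).hom ≫ K ◁ adj.counit.app L) := by
      have := adj.homEquiv_naturality_left (X := K ⊗ G.obj L) (X' := T) (Y := K ⊗ L) g
        ((α_ K (G.obj L) M).hom ≫ K ◁ adj.counit.app L)
      exact this.symm
    rw [h1]
    congr 1
    apply e4.symm.injective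
    rw [Equiv.symm_apply_apply]
    have h2 : e4.symm ((g ▷ M) ≫ (α_ K (G.obj L) M).hom ≫ K ◁ adj.counit.app L) =
        (α_ K' T M).inv ≫ ((e1 g) ▷ M) ≫ adj.counit.app L := by
      have t := tensorLeftHomEquiv_tensor (Y := K) (Y' := K') g (𝟙 M)
      rw [tensorHom_id, tensorHom_id] at t
      rw [← Category.assoc, tensorLeftHomEquiv_symm_comp_whiskerLeft, t, Category.assoc]
    rw [h2]
    have h3 : e2 (e1 g) = ((e1 g) ▷ M) ≫ adj.counit.app L := adj.homEquiv_counit _ _ _
    simp only [e3, Iso.homFromEquiv_apply]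
    rw [h3]
  have : (fun g : T ⟶ K ⊗ G.obj L => g ≫ evT adj K L) = e5 ∘ e4 ∘ e3 ∘ e2 ∘ e1 := by
    funext g
    exact key g
  rw [this]
  exact e5.bijective.comp (e4.bijective.comp (e3.bijective.comp (e2.bijective.comp e1.bijective)))

end

section right
variable {M M' : C} [ExactPairing M M']

lemma tensorRightAdjunction_homEquiv (X Z : C) :
    (tensorRightAdjunction M M').homEquiv X Z = tensorRightHomEquiv X M M' Z := by
  rw [tensorRightAdjunction, Adjunction.mkOfHomEquiv_homEquiv]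

lemma tensorRightAdjunction_counit (X : C) : (tensorRightAdjunction M M').counit.app X =
    (α_ X M' M).hom ≫ X ◁ ε_ M M' ≫ (ρ_ X).hom := by
  have h := (tensorRightAdjunction M M').homEquiv_counit _ _ (𝟙 ((tensorRight M').obj X))
  rw [CategoryTheory.Functor.map_id, Category.id_comp, tensorRightAdjunction_homEquiv] at h
  rw [← h]
  simp [tensorRightHomEquiv]

lemma evT_tensorRightAdjunction (K L : C) :
    evT (tensorRightAdjunction M M') K L = (α_ K L M').inv := by
  apply ((tensorRightAdjunction M M').homEquiv _ _).symm.injective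
  rw [evT, Equiv.symm_apply_apply, tensorRightAdjunction_homEquiv, tensorRightAdjunction_counit]
  simp only [tensorRightHomEquiv, Equiv.coe_fn_symm_mk]
  dsimp only [tensorRight]
  monoidal

/-- If `M` has a right dual, then `evT adj K L` is an isomorphism. -/
theorem isIso_evT_of_right {G : C ⥤ C} (adj : tensorRight M ⊣ G) (M' : C) [ExactPairing M M']
    (K L : C) : IsIso (evT adj K L) := by
  let adj₀ := tensorRightAdjunction M M'
  let u : G ≅ tensorRight M' := adj.rightAdjointUniq adj₀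
  have hu : ∀ X : C, (u.hom.app X) ▷ M ≫ adj₀.counit.app X = adj.counit.app X := fun X =>
    Adjunction.rightAdjointUniq_hom_app_counit adj adj₀ X
  have key : evT adj K L ≫ u.hom.app (K ⊗ L) = K ◁ u.hom.app L ≫ evT adj₀ K L := by
    apply (adj₀.homEquiv _ _).symm.injective
    rw [Adjunction.homEquiv_counit, Adjunction.homEquiv_counit]
    change (evT adj K L ≫ u.hom.app (K ⊗ L)) ▷ M ≫ _ = (K ◁ u.hom.app L ≫ evT adj₀ K L) ▷ M ≫ _
    rw [comp_whiskerRight, Category.assoc, hu, evT_fac, comp_whiskerRight, Category.assoc, evT_fac,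
      ← hu L, MonoidalCategory.whiskerLeft_comp]
    simp
  have h : evT adj K L = K ◁ u.hom.app L ≫ evT adj₀ K L ≫ u.inv.app (K ⊗ L) := by
    rw [← Category.assoc, ← key, Category.assoc, Iso.hom_inv_id_app, Category.comp_id]
  rw [h, evT_tensorRightAdjunction]
  infer_instance

end right

end Groth.Agent.Lib.H6xMonDual
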