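import Mathlib
import Groth.Agent.Lib.H6xDTenMonC
import Groth.Agent.Lib.H6xMonDualA
set_option backward.isDefEq.respectTransparency.types false

/-!
# `evalTen` is an isomorphism for dualizable objects of `D(A)` (helper6)
-/

set_option autoImplicit false
set_option maxHeartbeats 400000
universe u
open CategoryTheory CategoryTheory.Limits MonoidalCategory HomologicalComplex
attribute [local instance] HasDerivedCategory.standard

namespace Groth.Agent.Lib.H6xDTen

open DerivedCategory DTen Groth.Agent.Lib.H6xMonDual

variable {A : Type u} [CommRing A] [HasLTen A] [HasLTen₃ A] [IsSymMonoidal A] [HasRHom A]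

attribute [local instance] monoidalD

/-- the adjunction `- ⊗ᴸ M ⊣ RHom(M, -)` in terms of the monoidal structure `monoidalD` -/
noncomputable def rhomAdjM (M : Dual.D A) : tensorRight M ⊣ RHomR A M := rhomAdj A M

lemma evalTen_eq (K L M : Dual.D A) : DTen.evalTen K L M = evT (rhomAdjM M) K L := rfl

theorem isIso_evalTen_of_exactPairing_left (K K' L M : Dual.D A) [ExactPairing K K'] :
    IsIso (DTen.evalTen K L M) := by
  rw [evalTen_eq]
  exact isIso_evT_of_left (rhomAdjM M) K K' L

theorem isIso_evalTen_of_exactPairing_right (K L M M' : Dual.D A) [ExactPairing M M'] :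
    IsIso (DTen.evalTen K L M) := by
  rw [evalTen_eq]
  exact isIso_evT_of_right (rhomAdjM M) M' K L

end Groth.Agent.Lib.H6xDTen
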