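import Mathlib
import Groth.Agent.Lib.H6xMonDualA

/-!
# The evaluation map `[L,M] ⊗ K ⟶ [[K,L],M]` is invertible for dualizable `K` (helper6)

In a monoidal category `C` with "internal hom" adjunctions `adjK : - ⊗ K ⊣ G₁`, `adjL : - ⊗ L ⊣ G₂`,
`adjP : - ⊗ G₁ L ⊣ G₃`, and a natural isomorphism `b : K ⊗ - ≅ - ⊗ K`, the canonical map
`evH : G₂ M ⊗ K ⟶ G₃ M` (adjunct of associator, `b`, evaluation, evaluation) is an isomorphism as soon as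
`K` has a left dual `K'` (`ExactPairing K' K`).  No hexagon axiom for `b` is needed.
-/

set_option autoImplicit false
universe v u
open CategoryTheory MonoidalCategory

namespace Groth.Agent.Lib.H6xMonDual

variable {C : Type u} [Category.{v} C] [MonoidalCategory C]

section
variable {K L : C} {G₁ G₂ G₃ : C ⥤ C} (adjK : tensorRight K ⊣ G₁) (adjL : tensorRight L ⊣ G₂)
  (adjP : tensorRight (G₁.obj L) ⊣ G₃) (b : tensorLeft K ⟶ tensorRight K)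

/-- the pairing `K ⊗ [K,L] ⟶ L` : swap, then evaluate -/
def uH : K ⊗ G₁.obj L ⟶ L := b.app (G₁.obj L) ≫ adjK.counit.app L

/-- the map `([L,M] ⊗ K) ⊗ [K,L] ⟶ M` -/
def evHAux (M : C) : (G₂.obj M ⊗ K) ⊗ G₁.obj L ⟶ M :=
  (α_ (G₂.obj M) K (G₁.obj L)).hom ≫ (G₂.obj M ◁ uH (L := L) adjK b) ≫ adjL.counit.app M

/-- the evaluation map `[L,M] ⊗ K ⟶ [[K,L],M]` -/
def evH (M : C) : G₂.obj M ⊗ K ⟶ G₃.obj M := adjP.homEquiv _ _ (evHAux adjK adjL b M)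

variable (K' : C) [ExactPairing K' K]

lemma tensorLeftAdjunction_unit (X : C) : (tensorLeftAdjunction K' K).unit.app X =
    (λ_ X).inv ≫ η_ K' K ▷ X ≫ (α_ K' K X).hom := by
  rw [← Adjunction.homEquiv_id, tensorLeftAdjunction, Adjunction.mkOfHomEquiv_homEquiv]
  simp [tensorLeftHomEquiv]

/-- the mate of the pairing: `[K,L] ⟶ K' ⊗ L` -/
def uHat : G₁.obj L ⟶ K' ⊗ L :=
  (λ_ _).inv ≫ η_ K' K ▷ G₁.obj L ≫ (α_ K' K (G₁.obj L)).hom ≫ K' ◁ uH (L := L) adjK b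

lemma uHat_eq : uHat (L := L) adjK b K' =
    (conjugateEquiv adjK (tensorLeftAdjunction K' K) b).app L := by
  rw [conjugateEquiv_apply_app, tensorLeftAdjunction_unit, uHat, uH]
  simp

instance isIso_uHat [IsIso b] : IsIso (uHat (L := L) adjK b K') := by
  rw [uHat_eq]
  infer_instance

lemma key_evH (M T : C) (g : T ⊗ K' ⟶ G₂.obj M) :
    (((ρ_ T).inv ≫ T ◁ η_ K' K ≫ (α_ T K' K).inv ≫ g ▷ K) ▷ G₁.obj L) ≫
      (α_ (G₂.obj M) K (G₁.obj L)).hom ≫ (G₂.obj M ◁ uH (L := L) adjK b) =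
    (T ◁ uHat (L := L) adjK b K') ≫ (α_ T K' L).inv ≫ g ▷ L := by
  rw [uHat]
  generalize uH (L := L) adjK b = u
  have e1 : g ▷ K ▷ G₁.obj L ≫ (α_ (G₂.obj M) K (G₁.obj L)).hom ≫ G₂.obj M ◁ u =
      (α_ (T ⊗ K') K (G₁.obj L)).hom ≫ (T ⊗ K') ◁ u ≫ g ▷ L := by
    rw [associator_naturality_left_assoc, ← whisker_exchange]
  have e2 : ((ρ_ T).inv ≫ T ◁ η_ K' K ≫ (α_ T K' K).inv) ▷ G₁.obj L ≫
      (α_ (T ⊗ K') K (G₁.obj L)).hom ≫ (T ⊗ K') ◁ u =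
      (T ◁ ((λ_ _).inv ≫ η_ K' K ▷ G₁.obj L ≫ (α_ K' K (G₁.obj L)).hom ≫ K' ◁ u)) ≫
        (α_ T K' L).inv := by
    monoidal
  calc _ = (((ρ_ T).inv ≫ T ◁ η_ K' K ≫ (α_ T K' K).inv) ▷ G₁.obj L) ≫
        (g ▷ K ▷ G₁.obj L ≫ (α_ (G₂.obj M) K (G₁.obj L)).hom ≫ G₂.obj M ◁ u) := by
        simp only [comp_whiskerRight, Category.assoc]
    _ = _ := by
        rw [e1, ← Category.assoc, ← Category.assoc, Category.assoc _ _ ((T ⊗ K') ◁ u), e2,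
          Category.assoc]

/-- If `K` has a left dual `K'` and `b : K ⊗ - ⟶ - ⊗ K` is a natural isomorphism, then
`evH : [L,M] ⊗ K ⟶ [[K,L],M]` is an isomorphism. -/
theorem isIso_evH (K' : C) [ExactPairing K' K] [IsIso b] (M : C) :
    IsIso (evH adjK adjL adjP b M) := by
  apply isIso_of_yoneda_map_bijective
  intro T
  let e1 : (T ⟶ G₂.obj M ⊗ K) ≃ (T ⊗ K' ⟶ G₂.obj M) := (tensorRightHomEquiv T K' K (G₂.obj M)).symm
  let e2 : (T ⊗ K' ⟶ G₂.obj M) ≃ ((T ⊗ K') ⊗ L ⟶ M) := (adjL.homEquiv (T ⊗ K') M).symm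
  let ω : T ⊗ G₁.obj L ≅ (T ⊗ K') ⊗ L :=
    (whiskerLeftIso T (asIso (uHat (L := L) adjK b K'))) ≪≫ (α_ T K' L).symm
  let e3 : ((T ⊗ K') ⊗ L ⟶ M) ≃ (T ⊗ G₁.obj L ⟶ M) := ω.symm.homFromEquiv
  let e4 : (T ⊗ G₁.obj L ⟶ M) ≃ (T ⟶ G₃.obj M) := adjP.homEquiv T M
  have key : ∀ x : T ⟶ G₂.obj M ⊗ K, x ≫ evH adjK adjL adjP b M = e4 (e3 (e2 (e1 x))) := by
    intro x
    have h1 : x ≫ evH adjK adjL adjP b M = e4 ((x ▷ G₁.obj L) ≫ evHAux adjK adjL b M) := by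
      have := adjP.homEquiv_naturality_left (X := G₂.obj M ⊗ K) (X' := T) (Y := M) x
        (evHAux adjK adjL b M)
      exact this.symm
    rw [h1]
    congr 1
    obtain ⟨g, rfl⟩ := e1.symm.surjective x
    rw [Equiv.apply_symm_apply]
    have hx : e1.symm g = (ρ_ T).inv ≫ T ◁ η_ K' K ≫ (α_ T K' K).inv ≫ g ▷ K := rfl
    have h2 : e2 g = g ▷ L ≫ adjL.counit.app M := adjL.homEquiv_counit _ _ _
    rw [hx, h2, evHAux, ← Category.assoc, ← Category.assoc, Category.assoc _ (α_ _ _ _).hom,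
      key_evH]
    simp [e3, ω]
  have : (fun x : T ⟶ G₂.obj M ⊗ K => x ≫ evH adjK adjL adjP b M) = e4 ∘ e3 ∘ e2 ∘ e1 := by
    funext x
    exact key x
  rw [this]
  exact e4.bijective.comp (e3.bijective.comp (e2.bijective.comp e1.bijective))

end

end Groth.Agent.Lib.H6xMonDual
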