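import Mathlib
import Groth.Agent.Lib.H6xDTenMonD
import Groth.Agent.Lib.H6xMonDualB
set_option backward.isDefEq.respectTransparency.types false

/-!
# `evalHom` is an isomorphism for objects of `D(A)` with a left dual (helper6)
-/

set_option autoImplicit false
set_option maxHeartbeats 400000
universe u
open CategoryTheory CategoryTheory.Limits MonoidalCategory HomologicalComplex
attribute [local instance] HasDerivedCategory.standard

namespace Groth.Agent.Lib.H6xDTen

open DerivedCategory DTen Groth.Agent.Lib.H6xMonDual

variable {A : Type u} [CommRing A] [HasLTen A] [HasLTen₃ A] [IsSymMonoidal A] [HasRHom A]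

attribute [local instance] monoidalD

/-- the symmetry as a natural transformation `K ⊗ - ⟶ - ⊗ K` -/
noncomputable def swapK (K : Dual.D A) : tensorLeft K ⟶ tensorRight K where
  app X := (symm A).app (X, K)
  naturality X Y f := (symm A).naturality (X := (X, K)) (Y := (Y, K)) (Prod.mkHom f (𝟙 K))

instance isIso_swapK (K : Dual.D A) : IsIso (swapK K) := by
  haveI : ∀ X, IsIso ((swapK K).app X) := fun X => by
    change IsIso ((symm A).app (X, K))
    infer_instance
  exact NatIso.isIso_of_isIso_app _

lemma evalHom_eq (K L M : Dual.D A) : DTen.evalHom K L M =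
    evH (rhomAdjM K) (rhomAdjM L) (rhomAdjM ((RHomR A K).obj L)) (swapK K) M := rfl

theorem isIso_evalHom_of_exactPairing (K K' L M : Dual.D A) [ExactPairing K' K] :
    IsIso (DTen.evalHom K L M) := by
  rw [evalHom_eq]
  exact isIso_evH (rhomAdjM K) (rhomAdjM L) (rhomAdjM ((RHomR A K).obj L)) (swapK K) K' M

end Groth.Agent.Lib.H6xDTen
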