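import Mathlib
import Groth.Agent.Lib.H6xDTenMonB
set_option backward.isDefEq.respectTransparency.types false

/-!
# helper6: the derived tensor product with a shift of the unit is the shift; `Hom(U⟦-q⟧, RHom(Y, M)) ≃ Hom(Y, M⟦q⟧)`

* `shTen`, `unitShift`: chain-level `K⟦q⟧ ⊗ Y ≅ (K ⊗ Y)⟦q⟧`, `𝟙_⟦q⟧ ⊗ Y ≅ Y⟦q⟧` (natural in `Y`);
* `β q : (U⟦q⟧) ⊗ᴸ - ≅ (-)⟦q⟧` as functors on `D(A)`;
* `homRHomEquiv q Y M : (U⟦-q⟧ ⟶ RHom(Y, M)) ≃ (Y ⟶ M⟦q⟧)`, natural in `Y` (`homRHomEquiv_nat`).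
-/

set_option autoImplicit false
set_option linter.style.haveILetI false
universe u
open CategoryTheory CategoryTheory.Limits MonoidalCategory HomologicalComplex
attribute [local instance] HasDerivedCategory.standard

namespace Groth.Agent.Lib.H6xPCev

open DerivedCategory DTen Groth.Agent.Lib.H6xDTen Groth.Agent.Lib.Helper1.KF Groth.Agent.Lib.Helper1.DT

variable {A : Type u} [CommRing A]

/-- chain level: `K⟦q⟧ ⊗ Y ≅ (K ⊗ Y)⟦q⟧` -/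
noncomputable def shTen (K Y : Cx A) (q : ℤ) : (K⟦q⟧ ⊗ Y : Cx A) ≅ (K ⊗ Y)⟦q⟧ :=
  CochainComplex.mapBifunctorShift₁Iso K Y (curriedTensor (ModuleCat.{u} A)) q

lemma shTen_nat (K : Cx A) {Y Y' : Cx A} (g : Y ⟶ Y') (q : ℤ) :
    (K⟦q⟧ ◁ g) ≫ (shTen K Y' q).hom = (shTen K Y q).hom ≫ (K ◁ g)⟦q⟧' := by
  have h := NatTrans.shift_app_comm
    ((curriedTensor (ModuleCat.{u} A)).map₂CochainComplex.flip.map g) q K
  exact h.symm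

lemma acyc_shift (L : Cx A) (hL : Acyc L) (q : ℤ) : Acyc (L⟦q⟧) := fun i =>
  IsZero.of_iso (hL (q + i))
    (((HomologicalComplex.homologyFunctor (ModuleCat.{u} A) (ComplexShape.up ℤ) 0).shiftIso q i
      (q + i) rfl).app L)

lemma kflat_shift (K : Cx A) (hK : KFlat K) (q : ℤ) : KFlat (K⟦q⟧) := fun L hL =>
  Acyc.of_iso (CochainComplex.mapBifunctorShift₂Iso L K (curriedTensor (ModuleCat.{u} A)) q).symm
    (acyc_shift _ (hK L hL) q)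

/-- chain level: `𝟙_⟦q⟧ ⊗ Y ≅ Y⟦q⟧` -/
noncomputable def unitShift (q : ℤ) (Y : Cx A) : ((𝟙_ (Cx A))⟦q⟧ ⊗ Y : Cx A) ≅ Y⟦q⟧ :=
  shTen (𝟙_ (Cx A)) Y q ≪≫ (shiftFunctor (Cx A) q).mapIso (λ_ Y)

lemma unitShift_nat {Y Y' : Cx A} (g : Y ⟶ Y') (q : ℤ) :
    ((𝟙_ (Cx A))⟦q⟧ ◁ g) ≫ (unitShift q Y').hom = (unitShift q Y).hom ≫ g⟦q⟧' := by
  unfold unitShift
  simp only [Iso.trans_hom, Functor.mapIso_hom]
  rw [reassoc_of% (shTen_nat (𝟙_ (Cx A)) g q), Category.assoc, ← Functor.map_comp,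
    ← Functor.map_comp, leftUnitor_naturality]

variable [HasLTen A]

/-- `tO (U⟦q⟧) (Q Y) ≅ (Q Y)⟦q⟧` -/
noncomputable def βQ (q : ℤ) (Y : Cx A) : tO ((DTen.unit A)⟦q⟧) (Q.obj Y) ≅ (Q.obj Y)⟦q⟧ :=
  (LTen₂ A).mapIso (Iso.prod ((Q.commShiftIso q).app (𝟙_ (Cx A))).symm (Iso.refl (Q.obj Y))) ≪≫
    μK ((𝟙_ (Cx A))⟦q⟧) Y (Or.inl (kflat_shift _ kflat_unit q)) ≪≫ Q.mapIso (unitShift q Y) ≪≫
    ((Q.commShiftIso q).app Y)

end Groth.Agent.Lib.H6xPCev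

namespace Groth.Agent.Lib.H6xPCev

open DerivedCategory DTen Groth.Agent.Lib.H6xDTen Groth.Agent.Lib.Helper1.KF Groth.Agent.Lib.Helper1.DT

variable {A : Type u} [CommRing A] [HasLTen A]

lemma βQ_nat (q : ℤ) {Y Y' : Cx A} (g : Y ⟶ Y') :
    tH (𝟙 ((DTen.unit A)⟦q⟧)) (Q.map g) ≫ (βQ q Y').hom = (βQ q Y).hom ≫ (Q.map g)⟦q⟧' := by
  unfold βQ
  simp only [Iso.trans_hom, Functor.mapIso_hom, Iso.prod_hom, Iso.symm_hom, Iso.refl_hom, μK_hom,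
    Iso.app_hom, Iso.app_inv, Category.assoc]
  have h1 : tH (𝟙 ((DTen.unit A)⟦q⟧)) (Q.map g) ≫
      (LTen₂ A).map (Prod.mkHom ((Q.commShiftIso q).inv.app (𝟙_ (Cx A))) (𝟙 (Q.obj Y'))) =
      (LTen₂ A).map (Prod.mkHom ((Q.commShiftIso q).inv.app (𝟙_ (Cx A))) (𝟙 (Q.obj Y))) ≫
        tH (𝟙 (Q.obj ((𝟙_ (Cx A))⟦q⟧))) (Q.map g) := by
    change tH _ _ ≫ tH _ _ = tH _ _ ≫ tH _ _
    rw [tH_comp, tH_comp, Category.id_comp, Category.comp_id, Category.id_comp]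
    erw [Category.comp_id]
  have h2 : tH (𝟙 (Q.obj ((𝟙_ (Cx A))⟦q⟧))) (Q.map g) ≫ εX ((𝟙_ (Cx A))⟦q⟧) Y' =
      εX ((𝟙_ (Cx A))⟦q⟧) Y ≫ Q.map (((𝟙_ (Cx A))⟦q⟧) ◁ g) := by
    have := εX_natural (𝟙 ((𝟙_ (Cx A))⟦q⟧)) g
    rw [CategoryTheory.Functor.map_id, MonoidalCategory.id_tensorHom] at this
    exact this
  have h3 := congrArg Q.map (unitShift_nat g q)
  rw [Functor.map_comp, Functor.map_comp] at h3
  have h4 := (Q.commShiftIso q).hom.naturality g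
  dsimp only [Functor.comp_map] at h4
  rw [reassoc_of% h1, reassoc_of% h2, reassoc_of% h3, h4]

/-- the two functors compared by `β` -/
noncomputable abbrev tLU (q : ℤ) : Dual.D A ⥤ Dual.D A := (LTen A).obj ((DTen.unit A)⟦q⟧)

/-- `(U⟦q⟧) ⊗ᴸ - ≅ (-)⟦q⟧` as functors on `D(A)` -/
noncomputable def β (q : ℤ) : tLU (A := A) q ≅ shiftFunctor (Dual.D A) q :=
  Localization.liftNatIso Q (qis A) (Q ⋙ tLU q) (Q ⋙ shiftFunctor (Dual.D A) q) _ _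
    (NatIso.ofComponents (fun Y => βQ q Y) (fun g => βQ_nat q g))

lemma β_hom_app_Q (q : ℤ) (Y : Cx A) : (β (A := A) q).hom.app (Q.obj Y) = (βQ q Y).hom := by
  unfold β
  rw [Localization.liftNatIso_hom, Localization.liftNatTrans_app]
  simp

lemma β_nat (q : ℤ) {Y Y' : Dual.D A} (f : Y ⟶ Y') :
    tH (𝟙 ((DTen.unit A)⟦q⟧)) f ≫ (β q).hom.app Y' = (β q).hom.app Y ≫ f⟦q⟧' :=
  (β (A := A) q).hom.naturality f

end Groth.Agent.Lib.H6xPCev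

namespace Groth.Agent.Lib.H6xPCev

open DerivedCategory DTen Groth.Agent.Lib.H6xDTen Groth.Agent.Lib.Helper1.KF Groth.Agent.Lib.Helper1.DT

variable {A : Type u} [CommRing A] [HasLTen A]

/-- moving a shift across a hom set -/
noncomputable def shEquiv {C : Type*} [Category C] [HasShift C ℤ] (X Y : C) (n : ℤ) :
    (X⟦-n⟧ ⟶ Y) ≃ (X ⟶ Y⟦n⟧) :=
  (shiftEquiv' C (-n) n (neg_add_cancel n)).toAdjunction.homEquiv X Y

lemma shEquiv_nat_left {C : Type*} [Category C] [HasShift C ℤ] {X X' : C} (f : X ⟶ X') (Y : C) (n : ℤ)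
    (x : X'⟦-n⟧ ⟶ Y) : shEquiv X Y n (f⟦-n⟧' ≫ x) = f ≫ shEquiv X' Y n x :=
  Adjunction.homEquiv_naturality_left _ _ _

lemma shEquiv_nat_right {C : Type*} [Category C] [HasShift C ℤ] (X : C) {Y Y' : C} (g : Y ⟶ Y') (n : ℤ)
    (x : X⟦-n⟧ ⟶ Y) : shEquiv X Y' n (x ≫ g) = shEquiv X Y n x ≫ g⟦n⟧' :=
  Adjunction.homEquiv_naturality_right _ _ _

variable [HasRHom A]

lemma rhomHomEquiv_symm_nat {T Y Y' M : Dual.D A} (f : Y ⟶ Y') (g : T ⟶ (RHomR A Y').obj M) :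
    (rhomHomEquiv T Y M).symm (g ≫ RHomMap f M) =
      tH (𝟙 T) f ≫ (rhomHomEquiv T Y' M).symm g := by
  have h1 : (rhomHomEquiv T Y M).symm (g ≫ RHomMap f M) =
      tH (g ≫ RHomMap f M) (𝟙 Y) ≫ ev Y M := (rhomAdj A Y).homEquiv_counit _ _ _
  have h2 : (rhomHomEquiv T Y' M).symm g = tH g (𝟙 Y') ≫ ev Y' M := (rhomAdj A Y').homEquiv_counit _ _ _
  have h3 := RHom_map_ev f M
  rw [h1, h2, ← Category.comp_id (𝟙 Y), ← tH_comp, Category.assoc]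
  change _ ≫ tH _ _ ≫ _ = _
  rw [h3]
  change _ ≫ tH _ _ ≫ _ = _
  rw [tH_comp_assoc, tH_comp_assoc, Category.comp_id, Category.id_comp, Category.comp_id,
    Category.id_comp]

/-- `(U⟦-q⟧ ⟶ RHom(Y, M)) ≃ (Y ⟶ M⟦q⟧)` -/
noncomputable def homRHomEquiv (q : ℤ) (Y M : Dual.D A) :
    ((DTen.unit A)⟦-q⟧ ⟶ (RHomR A Y).obj M) ≃ (Y ⟶ M⟦q⟧) :=
  (rhomHomEquiv ((DTen.unit A)⟦-q⟧) Y M).symm.trans
    ((((β (-q)).app Y).homFromEquiv (Z := M)).trans (shEquiv Y M q))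

lemma homRHomEquiv_nat (q : ℤ) {Y Y' : Dual.D A} (f : Y ⟶ Y') (M : Dual.D A)
    (g : (DTen.unit A)⟦-q⟧ ⟶ (RHomR A Y').obj M) :
    homRHomEquiv q Y M (g ≫ RHomMap f M) = f ≫ homRHomEquiv q Y' M g := by
  unfold homRHomEquiv
  simp only [Equiv.trans_apply, Iso.homFromEquiv_apply, Iso.app_inv]
  rw [rhomHomEquiv_symm_nat, ← shEquiv_nat_left]
  congr 1
  have h := (β (A := A) (-q)).inv.naturality f
  rw [← Category.assoc, ← Category.assoc]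
  congr 1
  exact h.symm

end Groth.Agent.Lib.H6xPCev
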