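import Mathlib
import Groth.Agent.Lib.H6xDualA
import Groth.Prelude.Def_DTen
set_option backward.isDefEq.respectTransparency.types false

/-!
# helper6: exactness lemmas for triangles and cone tests for the canonical t-structure on `D(A)`

* `prec_injective/surjective`, `postc_injective/surjective`: injectivity/surjectivity of pre/postcomposition
  with the first map of a distinguished triangle from vanishing of maps from/to the cone;
* `hom_obj₃_eq_zero_of_postc/prec`: the converse;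
* `isGE_obj₃_of_V`, `isLE_obj₃_of_V`: bounds on the cone tested on the shifts `V q = U⟦-q⟧` of the unit;
* `isLE_obj₃_of_prec`: upper bound on the cone tested on maps into bounded below objects.
-/

set_option autoImplicit false
set_option linter.style.haveILetI false
universe u
open CategoryTheory CategoryTheory.Limits MonoidalCategory HomologicalComplex Pretriangulated
attribute [local instance] HasDerivedCategory.standard

namespace Groth.Agent.Lib.H6xPCev

section Tri

variable {D : Type*} [Category D] [Preadditive D] [HasZeroObject D] [HasShift D ℤ]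
  [∀ n : ℤ, (shiftFunctor D n).Additive] [Pretriangulated D]

/-- postcomposition with `f` on maps out of `S` -/
def postc {X Y : D} (S : D) (f : X ⟶ Y) : (S ⟶ X) → (S ⟶ Y) := fun g => g ≫ f

/-- precomposition with `f` on maps into `W` -/
def prec {X Y : D} (f : X ⟶ Y) (W : D) : (Y ⟶ W) → (X ⟶ W) := fun g => f ≫ g

lemma prec_injective (T : Triangle D) (hT : T ∈ distTriang D) (W : D)
    (h : ∀ g : T.obj₃ ⟶ W, g = 0) : Function.Injective (prec T.mor₁ W) := by
  intro g₁ g₂ hg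
  have h0 : T.mor₁ ≫ (g₁ - g₂) = 0 := by
    rw [Preadditive.comp_sub]
    exact sub_eq_zero.2 hg
  obtain ⟨k, hk⟩ := Triangle.yoneda_exact₂ T hT (g₁ - g₂) h0
  have hk0 : k = 0 := h k
  subst hk0
  exact sub_eq_zero.1 (hk.trans comp_zero)

lemma prec_surjective (T : Triangle D) (hT : T ∈ distTriang D) (W : D)
    (h : ∀ g : T.obj₃⟦(-1 : ℤ)⟧ ⟶ W, g = 0) : Function.Surjective (prec T.mor₁ W) := by
  intro x
  have hT' := inv_rot_of_distTriang T hT
  obtain ⟨g, hg⟩ := Triangle.yoneda_exact₂ T.invRotate hT' x (h _)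
  exact ⟨g, hg.symm⟩

lemma postc_surjective (T : Triangle D) (hT : T ∈ distTriang D) (S : D)
    (h : ∀ g : S ⟶ T.obj₃, g = 0) : Function.Surjective (postc S T.mor₁) := by
  intro y
  obtain ⟨x, hx⟩ := Triangle.coyoneda_exact₂ T hT y (h _)
  exact ⟨x, hx.symm⟩

lemma postc_injective (T : Triangle D) (hT : T ∈ distTriang D) (S : D)
    (h : ∀ g : S ⟶ T.obj₃⟦(-1 : ℤ)⟧, g = 0) : Function.Injective (postc S T.mor₁) := by
  intro x₁ x₂ hx
  have h0 : (x₁ - x₂) ≫ T.mor₁ = 0 := by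
    rw [Preadditive.sub_comp]
    exact sub_eq_zero.2 hx
  have hT' := inv_rot_of_distTriang T hT
  obtain ⟨k, hk⟩ := Triangle.coyoneda_exact₂ T.invRotate hT' (x₁ - x₂) h0
  have hk0 : k = 0 := h k
  subst hk0
  exact sub_eq_zero.1 (hk.trans zero_comp)

lemma hom_obj₃_eq_zero_of_postc (T : Triangle D) (hT : T ∈ distTriang D) (S : D)
    (hs : Function.Surjective (postc S T.mor₁))
    (hi : Function.Injective (postc S (T.mor₁⟦(1 : ℤ)⟧'))) (g : S ⟶ T.obj₃) : g = 0 := by
  have h1 : g ≫ T.mor₃ = 0 := by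
    apply hi
    change (g ≫ T.mor₃) ≫ T.mor₁⟦(1 : ℤ)⟧' = 0 ≫ T.mor₁⟦(1 : ℤ)⟧'
    rw [Category.assoc, comp_distTriang_mor_zero₃₁ T hT, comp_zero, zero_comp]
  obtain ⟨y, hy⟩ := Triangle.coyoneda_exact₃ T hT g h1
  obtain ⟨x, hx⟩ := hs y
  change x ≫ T.mor₁ = y at hx
  rw [hy, ← hx, Category.assoc, comp_distTriang_mor_zero₁₂ T hT, comp_zero]

lemma hom_obj₃_eq_zero_of_prec (T : Triangle D) (hT : T ∈ distTriang D) (W : D)
    (hi : Function.Injective (prec T.mor₁ W))
    (hs : Function.Surjective (prec (T.mor₁⟦(1 : ℤ)⟧') W)) (g : T.obj₃ ⟶ W) : g = 0 := by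
  have h1 : T.mor₂ ≫ g = 0 := by
    apply hi
    change T.mor₁ ≫ T.mor₂ ≫ g = T.mor₁ ≫ 0
    rw [← Category.assoc, comp_distTriang_mor_zero₁₂ T hT, zero_comp, comp_zero]
  obtain ⟨k, hk⟩ := Triangle.yoneda_exact₃ T hT g h1
  obtain ⟨k', hk'⟩ := hs k
  change T.mor₁⟦(1 : ℤ)⟧' ≫ k' = k at hk'
  rw [hk, ← hk', ← Category.assoc, comp_distTriang_mor_zero₃₁ T hT, zero_comp]

end Tri

end Groth.Agent.Lib.H6xPCev

namespace Groth.Agent.Lib.H6xPCev

section Tri2

variable {D : Type*} [Category D] [Preadditive D] [HasZeroObject D] [HasShift D ℤ]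
  [∀ n : ℤ, (shiftFunctor D n).Additive] [Pretriangulated D]

/-- moving a shift across a hom set -/
noncomputable def shEquiv' (X Y : D) (n : ℤ) : (X⟦-n⟧ ⟶ Y) ≃ (X ⟶ Y⟦n⟧) :=
  (shiftEquiv' D (-n) n (neg_add_cancel n)).toAdjunction.homEquiv X Y

lemma postc_shift_injective {X Y : D} (f : X ⟶ Y) (S : D)
    (h : Function.Injective (postc (S⟦(-1 : ℤ)⟧) f)) :
    Function.Injective (postc S (f⟦(1 : ℤ)⟧')) := by
  have hfun : postc S (f⟦(1 : ℤ)⟧') =
      (shEquiv' S Y 1) ∘ (postc (S⟦(-1 : ℤ)⟧) f) ∘ (shEquiv' S X 1).symm := by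
    funext x
    obtain ⟨y, rfl⟩ := (shEquiv' S X 1).surjective x
    simp only [Function.comp_apply, Equiv.symm_apply_apply]
    exact (Adjunction.homEquiv_naturality_right _ _ _).symm
  rw [hfun]
  exact (shEquiv' S Y 1).injective.comp (h.comp (shEquiv' S X 1).symm.injective)

/-- the other shift adjunction -/
noncomputable def shEquiv'' (X Y : D) : (X⟦(1 : ℤ)⟧ ⟶ Y) ≃ (X ⟶ Y⟦(-1 : ℤ)⟧) :=
  (shiftEquiv' D (1 : ℤ) (-1) (by norm_num)).toAdjunction.homEquiv X Y

lemma prec_shift_surjective {X Y : D} (f : X ⟶ Y) (W : D)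
    (h : Function.Surjective (prec f (W⟦(-1 : ℤ)⟧))) :
    Function.Surjective (prec (f⟦(1 : ℤ)⟧') W) := by
  have hfun : prec (f⟦(1 : ℤ)⟧') W =
      (shEquiv'' X W).symm ∘ (prec f (W⟦(-1 : ℤ)⟧)) ∘ (shEquiv'' Y W) := by
    funext x
    simp only [Function.comp_apply]
    rw [Equiv.eq_symm_apply]
    exact Adjunction.homEquiv_naturality_left _ _ _
  rw [hfun]
  exact (shEquiv'' X W).symm.surjective.comp (h.comp (shEquiv'' Y W).surjective)

lemma postc_injective_of_iso {X Y : D} (f : X ⟶ Y) {S S' : D} (e : S ≅ S')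
    (h : Function.Injective (postc S f)) : Function.Injective (postc S' f) := by
  intro x₁ x₂ hx
  have := h (a₁ := e.hom ≫ x₁) (a₂ := e.hom ≫ x₂) (by
    change (e.hom ≫ x₁) ≫ f = (e.hom ≫ x₂) ≫ f
    rw [Category.assoc, Category.assoc]
    exact congrArg (fun t => e.hom ≫ t) hx)
  exact (cancel_epi e.hom).1 this

end Tri2

section TStr

open DerivedCategory DTen

variable {A : Type u} [CommRing A]

/-- the unit of `D(A)` is `A[0]` -/
noncomputable def unitIsoInD : DTen.unit A ≅ Dual.inD A A :=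
  ((singleFunctorIsoCompQ (ModuleCat.{u} A) 0).app (ModuleCat.of A A)).symm

/-- `V q = U⟦-q⟧` -/
noncomputable abbrev V (A : Type u) [CommRing A] (q : ℤ) : Dual.D A := (DTen.unit A)⟦-q⟧

/-- `(V q)⟦-1⟧ ≅ V (q+1)` -/
noncomputable def VShiftIso (q : ℤ) : (V A q)⟦(-1 : ℤ)⟧ ≅ V A (q + 1) :=
  ((shiftFunctorAdd' (Dual.D A) (-q) (-1) (-(q + 1)) (by ring)).app (DTen.unit A)).symm

lemma subsingleton_HD_of_V (Z : Dual.D A) (q : ℤ) (h : ∀ g : V A q ⟶ Z, g = 0) :
    Subsingleton (Dual.HD A Z q) := by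
  have hs : Subsingleton (V A q ⟶ Z) := ⟨fun x y => by rw [h x, h y]⟩
  have e : (V A q ⟶ Z) ≃ (Dual.inD A A ⟶ Z⟦q⟧) :=
    (shEquiv' (DTen.unit A) Z q).trans ((unitIsoInD (A := A)).homFromEquiv)
  exact Groth.Agent.Lib.H6xDual.subsingleton_HD_of_subsingleton_hom Z q (e.subsingleton_congr.1 hs)

lemma isGE_of_V (Z : Dual.D A) (N : ℤ) (h : ∀ q : ℤ, q < N → ∀ g : V A q ⟶ Z, g = 0) :
    Z.IsGE N := by
  rw [DerivedCategory.isGE_iff]
  intro i hi
  have := subsingleton_HD_of_V Z i (h i hi)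
  exact ModuleCat.isZero_of_subsingleton _

lemma isLE_of_V (Z : Dual.D A) (m : ℤ) (h : ∀ q : ℤ, m < q → ∀ g : V A q ⟶ Z, g = 0) :
    Z.IsLE m := by
  rw [DerivedCategory.isLE_iff]
  intro i hi
  have := subsingleton_HD_of_V Z i (h i hi)
  exact ModuleCat.isZero_of_subsingleton _

/-- cone test, lower bound -/
lemma isGE_obj₃_of_V (T : Triangle (Dual.D A)) (hT : T ∈ distTriang (Dual.D A)) (N : ℤ)
    (hs : ∀ q : ℤ, q < N → Function.Surjective (postc (V A q) T.mor₁))
    (hi : ∀ q : ℤ, q ≤ N → Function.Injective (postc (V A q) T.mor₁)) : T.obj₃.IsGE N := by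
  apply isGE_of_V
  intro q hq g
  refine hom_obj₃_eq_zero_of_postc T hT (V A q) (hs q hq) ?_ g
  apply postc_shift_injective
  exact postc_injective_of_iso T.mor₁ (VShiftIso q).symm (hi (q + 1) (by omega))

/-- cone test, upper bound -/
lemma isLE_obj₃_of_V (T : Triangle (Dual.D A)) (hT : T ∈ distTriang (Dual.D A)) (m : ℤ)
    (hs : ∀ q : ℤ, m < q → Function.Surjective (postc (V A q) T.mor₁))
    (hi : ∀ q : ℤ, m + 1 < q → Function.Injective (postc (V A q) T.mor₁)) : T.obj₃.IsLE m := by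
  apply isLE_of_V
  intro q hq g
  refine hom_obj₃_eq_zero_of_postc T hT (V A q) (hs q hq) ?_ g
  apply postc_shift_injective
  exact postc_injective_of_iso T.mor₁ (VShiftIso q).symm (hi (q + 1) (by omega))

/-- cone test via maps into bounded below objects -/
lemma isLE_obj₃_of_prec (T : Triangle (Dual.D A)) (hT : T ∈ distTriang (Dual.D A)) (m : ℤ)
    (hi : ∀ W : Dual.D A, W.IsGE (m + 1) → Function.Injective (prec T.mor₁ W))
    (hs : ∀ W : Dual.D A, W.IsGE (m + 2) → Function.Surjective (prec T.mor₁ W)) :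
    T.obj₃.IsLE m := by
  refine (DerivedCategory.TStructure.t.isLE_iff_orthogonal m (m + 1) rfl T.obj₃).2 ?_
  intro W g hW
  refine hom_obj₃_eq_zero_of_prec T hT W (hi W hW) ?_ g
  apply prec_shift_surjective
  apply hs
  exact DerivedCategory.TStructure.t.isGE_shift W (m + 1) (-1) (m + 2) (by ring)

end TStr

end Groth.Agent.Lib.H6xPCev
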