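import Mathlib
import Groth.Agent.Lib.H6xPCevA
import Groth.Agent.Lib.H6xPCevB
set_option backward.isDefEq.respectTransparency.types false

/-!
# helper6: amplitude of cones under `RHom(-, L)`, `X ⊗ᴸ -` and `RHom(-, M)` (`M` of finite injective dimension)
-/

set_option autoImplicit false
set_option linter.style.haveILetI false
universe u
open CategoryTheory CategoryTheory.Limits MonoidalCategory HomologicalComplex Pretriangulated
attribute [local instance] HasDerivedCategory.standard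

namespace Groth.Agent.Lib.H6xPCev

open DerivedCategory DTen Groth.Agent.Lib.H6xDTen

variable {A : Type u} [CommRing A] [HasLTen A] [HasRHom A]

/-- the canonical t-structure -/
noncomputable abbrev tt (A : Type u) [CommRing A] := DerivedCategory.TStructure.t (C := ModuleCat.{u} A)

lemma postc_V_RHomMap_surjective (q : ℤ) {P K : Dual.D A} (α : P ⟶ K) (L : Dual.D A)
    (h : Function.Surjective (prec α (L⟦q⟧))) :
    Function.Surjective (postc (V A q) (RHomMap α L)) := by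
  intro y
  obtain ⟨x, hx⟩ := h (homRHomEquiv q P L y)
  change α ≫ x = _ at hx
  refine ⟨(homRHomEquiv q K L).symm x, ?_⟩
  apply (homRHomEquiv q P L).injective
  change homRHomEquiv q P L ((homRHomEquiv q K L).symm x ≫ RHomMap α L) = _
  rw [homRHomEquiv_nat, Equiv.apply_symm_apply]
  exact hx

lemma postc_V_RHomMap_injective (q : ℤ) {P K : Dual.D A} (α : P ⟶ K) (L : Dual.D A)
    (h : Function.Injective (prec α (L⟦q⟧))) :
    Function.Injective (postc (V A q) (RHomMap α L)) := by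
  intro y₁ y₂ hy
  change y₁ ≫ RHomMap α L = y₂ ≫ RHomMap α L at hy
  have h1 := congrArg (homRHomEquiv q P L) hy
  rw [homRHomEquiv_nat, homRHomEquiv_nat] at h1
  exact (homRHomEquiv q K L).injective (h h1)

/-- (S1) if the cone of `α` is in `D^{≤ a-1}` and `L ∈ D^{≥ n}`, the cone of `RHom(α, L)` is in `D^{≥ n-a}` -/
theorem isGE_cone_RHomMap {P K C : Dual.D A} (α : P ⟶ K) (u : K ⟶ C) (w : C ⟶ P⟦(1 : ℤ)⟧)
    (hT : Triangle.mk α u w ∈ distTriang (Dual.D A)) (a : ℤ) [C.IsLE (a - 1)]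
    (L : Dual.D A) (n : ℤ) [L.IsGE n] {Z' : Dual.D A} (v' : (RHomR A P).obj L ⟶ Z')
    (w' : Z' ⟶ ((RHomR A K).obj L)⟦(1 : ℤ)⟧)
    (hT' : Triangle.mk (RHomMap α L) v' w' ∈ distTriang (Dual.D A)) : Z'.IsGE (n - a) := by
  refine isGE_obj₃_of_V (Triangle.mk (RHomMap α L) v' w') hT' (n - a) (fun q hq => ?_) (fun q hq => ?_)
  · apply postc_V_RHomMap_surjective
    refine prec_surjective (Triangle.mk α u w) hT (L⟦q⟧) (fun g => ?_)
    have h1 : (C⟦(-1 : ℤ)⟧).IsLE a := (tt A).isLE_shift C (a - 1) (-1) a (by ring)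
    have h2 : (L⟦q⟧).IsGE (n - q) := (tt A).isGE_shift L n q (n - q) (by ring)
    exact (tt A).zero_of_isLE_of_isGE g a (n - q) (by omega) h1 h2
  · apply postc_V_RHomMap_injective
    refine prec_injective (Triangle.mk α u w) hT (L⟦q⟧) (fun g => ?_)
    have h1 : C.IsLE (a - 1) := inferInstance
    have h2 : (L⟦q⟧).IsGE (n - q) := (tt A).isGE_shift L n q (n - q) (by ring)
    exact (tt A).zero_of_isLE_of_isGE g (a - 1) (n - q) (by omega) h1 h2

omit [HasLTen A] [HasRHom A] in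
/-- no maps from `D^{≥ N}` to a shift of an object of injective amplitude `[a', b]` when `b - q < N` -/
lemma hom_shift_eq_zero_of_injAmp {M : Dual.D A} {a' b : ℤ} (hM : DRing.HasInjAmplitudeIn A a' b M)
    (X : Dual.D A) (N : ℤ) (hX : X.IsGE N) (q : ℤ) (hq : b - q < N) (f : X ⟶ M⟦q⟧) : f = 0 := by
  obtain ⟨E, hE, hinj, ⟨e⟩⟩ := hM
  have hE' : DRing.VanishesOutside ((shiftFunctor (DRing.Cx A) q).obj E) (a' - q) (b - q) :=
    fun i hi => hE (i + q) (by omega)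
  have hinj' : DRing.TermwiseInjective ((shiftFunctor (DRing.Cx A) q).obj E) := fun i => hinj (i + q)
  let e' : Q.obj ((shiftFunctor (DRing.Cx A) q).obj E) ≅ M⟦q⟧ :=
    (Q.commShiftIso q).app E ≪≫ (shiftFunctor _ q).mapIso e
  haveI : X.IsGE (b - q + 1) := (tt A).isGE_of_ge X (b - q + 1) N (by omega)
  have h0 := Groth.Agent.Lib.Helper1.HomFinite.hom_eq_zero_of_inj _ (a' - q) (b - q) hE' hinj' X
    (f ≫ e'.inv)
  rw [← cancel_mono e'.inv, h0, zero_comp]

/-- (S2) `RHom(L, M) ∈ D^{≤ b-n}` for `L ∈ D^{≥ n}` and `M` of injective amplitude `[a', b]` -/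
theorem isLE_RHom_of_injAmp {M : Dual.D A} {a' b : ℤ} (hM : DRing.HasInjAmplitudeIn A a' b M)
    (L : Dual.D A) (n : ℤ) [hL : L.IsGE n] : ((RHomR A L).obj M).IsLE (b - n) := by
  apply isLE_of_V
  intro q hq g
  have hs : Subsingleton (L ⟶ M⟦q⟧) :=
    ⟨fun x y => by
      rw [hom_shift_eq_zero_of_injAmp hM L n hL q (by omega) x,
        hom_shift_eq_zero_of_injAmp hM L n hL q (by omega) y]⟩
  have hs' : Subsingleton (V A q ⟶ (RHomR A L).obj M) :=
    (homRHomEquiv q L M).subsingleton_congr.2 hs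
  exact hs'.elim _ _

lemma prec_tH_injective {X P K : Dual.D A} (α : P ⟶ K) (W : Dual.D A)
    (h : Function.Injective (postc X (RHomMap α W))) :
    Function.Injective (prec (tH (𝟙 X) α) W) := by
  intro g₁ g₂ hg
  change tH (𝟙 X) α ≫ g₁ = tH (𝟙 X) α ≫ g₂ at hg
  have h1 := rhomHomEquiv_symm_nat α (rhomHomEquiv X K W g₁)
  have h2 := rhomHomEquiv_symm_nat α (rhomHomEquiv X K W g₂)
  rw [Equiv.symm_apply_apply] at h1 h2
  have h3 := (rhomHomEquiv X P W).symm.injective (h1.trans (hg.trans h2.symm))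
  exact (rhomHomEquiv X K W).injective (h h3)

lemma prec_tH_surjective {X P K : Dual.D A} (α : P ⟶ K) (W : Dual.D A)
    (h : Function.Surjective (postc X (RHomMap α W))) :
    Function.Surjective (prec (tH (𝟙 X) α) W) := by
  intro x
  obtain ⟨y, hy⟩ := h (rhomHomEquiv X P W x)
  change y ≫ RHomMap α W = _ at hy
  refine ⟨(rhomHomEquiv X K W).symm y, ?_⟩
  change tH (𝟙 X) α ≫ (rhomHomEquiv X K W).symm y = x
  rw [← rhomHomEquiv_symm_nat, hy, Equiv.symm_apply_apply]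

/-- (S3) if the cone of `α` is in `D^{≤ a-1}` and `X ∈ D^{≤ c}`, the cone of `X ⊗ᴸ α` is in `D^{≤ c+a-1}` -/
theorem isLE_cone_tH {P K C : Dual.D A} (α : P ⟶ K) (u : K ⟶ C) (w : C ⟶ P⟦(1 : ℤ)⟧)
    (hT : Triangle.mk α u w ∈ distTriang (Dual.D A)) (a : ℤ) [C.IsLE (a - 1)]
    (X : Dual.D A) (c : ℤ) [hX : X.IsLE c] {Z'' : Dual.D A} (v'' : tO X K ⟶ Z'')
    (w'' : Z'' ⟶ (tO X P)⟦(1 : ℤ)⟧)
    (hT'' : Triangle.mk (tH (𝟙 X) α) v'' w'' ∈ distTriang (Dual.D A)) : Z''.IsLE (c + a - 1) := by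
  refine isLE_obj₃_of_prec (Triangle.mk (tH (𝟙 X) α) v'' w'') hT'' (c + a - 1) (fun W hW => ?_)
    (fun W hW => ?_)
  · apply prec_tH_injective
    obtain ⟨Z', v', w', hT'⟩ := distinguished_cocone_triangle (RHomMap α W)
    haveI : W.IsGE (c + a) := (tt A).isGE_of_ge W (c + a) (c + a - 1 + 1) (by omega)
    have hZ' : Z'.IsGE (c + a - a) := isGE_cone_RHomMap α u w hT a W (c + a) v' w' hT'
    refine postc_injective _ hT' X (fun g => ?_)
    have h2 : (Z'⟦(-1 : ℤ)⟧).IsGE (c + 1) := (tt A).isGE_shift Z' (c + a - a) (-1) (c + 1) (by ring)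
    exact (tt A).zero_of_isLE_of_isGE g c (c + 1) (by omega) hX h2
  · apply prec_tH_surjective
    obtain ⟨Z', v', w', hT'⟩ := distinguished_cocone_triangle (RHomMap α W)
    haveI : W.IsGE (c + a + 1) := (tt A).isGE_of_ge W (c + a + 1) (c + a - 1 + 2) (by omega)
    have hZ' : Z'.IsGE (c + a + 1 - a) := isGE_cone_RHomMap α u w hT a W (c + a + 1) v' w' hT'
    refine postc_surjective _ hT' X (fun g => ?_)
    exact (tt A).zero_of_isLE_of_isGE g c (c + a + 1 - a) (by omega) hX hZ'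

/-- (S4) if the cone of `g` is in `D^{≥ N}` and `M` has injective amplitude `[a', b]`, the cone of
`RHom(g, M)` is in `D^{≤ b-N-1}` -/
theorem isLE_cone_RHomMap_of_injAmp {Y Y' Z' : Dual.D A} (g : Y ⟶ Y') (v : Y' ⟶ Z')
    (w : Z' ⟶ Y⟦(1 : ℤ)⟧) (hTg : Triangle.mk g v w ∈ distTriang (Dual.D A)) (N : ℤ) [hZ' : Z'.IsGE N]
    {M : Dual.D A} {a' b : ℤ} (hM : DRing.HasInjAmplitudeIn A a' b M) {Z₃ : Dual.D A}
    (v₃ : (RHomR A Y).obj M ⟶ Z₃) (w₃ : Z₃ ⟶ ((RHomR A Y').obj M)⟦(1 : ℤ)⟧)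
    (hT₃ : Triangle.mk (RHomMap g M) v₃ w₃ ∈ distTriang (Dual.D A)) : Z₃.IsLE (b - N - 1) := by
  refine isLE_obj₃_of_V (Triangle.mk (RHomMap g M) v₃ w₃) hT₃ (b - N - 1) (fun q hq => ?_)
    (fun q hq => ?_)
  · apply postc_V_RHomMap_surjective
    refine prec_surjective _ hTg (M⟦q⟧) (fun k => ?_)
    have h2 : (Z'⟦(-1 : ℤ)⟧).IsGE (N + 1) := (tt A).isGE_shift Z' N (-1) (N + 1) (by ring)
    exact hom_shift_eq_zero_of_injAmp hM _ (N + 1) h2 q (by omega) k
  · apply postc_V_RHomMap_injective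
    refine prec_injective _ hTg (M⟦q⟧) (fun k => ?_)
    exact hom_shift_eq_zero_of_injAmp hM _ N hZ' q (by omega) k

end Groth.Agent.Lib.H6xPCev
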