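import Mathlib
import Groth.Agent.Lib.H6xPCevC
import Groth.Agent.Lib.Helper1PC
import Groth.Agent.Lib.H6xDTenMonE
import Groth.Agent.Lib.H6xDTenDualB
set_option backward.isDefEq.respectTransparency.types false

/-!
# helper6: naturality of `evalTen`, `evalHom` in the resolved variable; perfect approximations of
pseudo-coherent objects; `evalHom` is an isomorphism for `K` pseudo-coherent, `L ∈ D^+`, `M` of finite
injective dimension
-/

set_option autoImplicit false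
set_option linter.style.haveILetI false
universe u
open CategoryTheory CategoryTheory.Limits MonoidalCategory HomologicalComplex Pretriangulated
attribute [local instance] HasDerivedCategory.standard

namespace Groth.Agent.Lib.H6xPCev

open DerivedCategory DTen Groth.Agent.Lib.H6xDTen

variable {A : Type u} [CommRing A]

/-- perfect approximations of a pseudo-coherent object -/
theorem exists_perfect_approx (K : Dual.D A) (hK : DRing.IsPseudoCoherent' A K) (a : ℤ) :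
    ∃ (P C : Dual.D A) (α : P ⟶ K) (u : K ⟶ C) (w : C ⟶ P⟦(1 : ℤ)⟧),
      Triangle.mk α u w ∈ distTriang (Dual.D A) ∧ DRing.IsPerfect A P ∧ C.IsLE (a - 1) := by
  obtain ⟨E, b, hb, hff, ⟨e⟩⟩ := hK
  obtain ⟨C, u, w, hT⟩ := distinguished_cocone_triangle
    (Q.map (Groth.Agent.Lib.Helper1.PC.sigmaGEι E a) ≫ e.hom)
  refine ⟨Q.obj (Groth.Agent.Lib.Helper1.PC.sigmaGE E a), C, _, u, w, hT, ?_, ?_⟩
  · refine ⟨Groth.Agent.Lib.Helper1.PC.sigmaGE E a, a, b, fun i hi => ?_, fun i => ?_, ⟨Iso.refl _⟩⟩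
    · rcases hi with hi | hi
      · exact Groth.Agent.Lib.Helper1.PC.isZero_sigmaGE_X E a i hi
      · exact Groth.Agent.Lib.Helper1.PC.isZero_sigmaGE_X' E a i (hb i hi)
    · have h := Groth.Agent.Lib.Helper1.PC.FF_sigmaGE E a i (hff i)
      exact ⟨h.1, Groth.Agent.S7017.FF_proj _ h⟩
  · have hc : Groth.Agent.Lib.Helper1.PC.Conn a
        (Q.map (Groth.Agent.Lib.Helper1.PC.sigmaGEι E a) ≫ e.hom) :=
      (Groth.Agent.Lib.Helper1.PC.conn_sigmaGEι E a).comp
        (Groth.Agent.Lib.Helper1.PC.Conn.of_isIso a e.hom)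
    exact (Groth.Agent.Lib.Helper1.PC.conn_iff_of_distTriang _ hT a).1 hc

variable [HasLTen A] [HasLTen₃ A] [IsSymMonoidal A] [HasRHom A]

/-- naturality of `evalTen N M K` in `K` -/
theorem evalTen_nat (N M : Dual.D A) {P K : Dual.D A} (α : P ⟶ K) :
    evalTen N M K ≫ RHomMap α (tO N M) = tH (𝟙 N) (RHomMap α M) ≫ evalTen N M P := by
  apply (rhomHomEquiv _ P _).symm.injective
  have hL : (rhomHomEquiv _ P _).symm (evalTen N M K ≫ RHomMap α (tO N M)) =
      tH (evalTen N M K ≫ RHomMap α (tO N M)) (𝟙 P) ≫ ev P (tO N M) :=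
    (rhomAdj A P).homEquiv_counit _ _ _
  have hR : (rhomHomEquiv _ P _).symm (tH (𝟙 N) (RHomMap α M) ≫ evalTen N M P) =
      tH (tH (𝟙 N) (RHomMap α M) ≫ evalTen N M P) (𝟙 P) ≫ ev P (tO N M) :=
    (rhomAdj A P).homEquiv_counit _ _ _
  refine hL.trans (Eq.trans ?_ hR.symm)
  have e1 : tH (evalTen N M K ≫ RHomMap α (tO N M)) (𝟙 P) ≫ ev P (tO N M) =
      tH (𝟙 _) α ≫ aD N ((RHomR A K).obj M) K ≫ tH (𝟙 N) (ev K M) := by
    have h1 := RHom_map_ev α (tO N M)
    have h2 : tH (evalTen N M K) (𝟙 K) ≫ ev K (tO N M) = aD N ((RHomR A K).obj M) K ≫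
        tH (𝟙 N) (ev K M) := evalTen_fac N M K
    rw [← Category.comp_id (𝟙 P), ← tH_comp, Category.assoc]
    change _ ≫ tH _ _ ≫ _ = _
    rw [h1]
    change _ ≫ tH _ _ ≫ _ = _
    rw [tH_comp_assoc, Category.comp_id, Category.id_comp, ← h2, tH_comp_assoc, Category.comp_id,
      Category.id_comp]
  have e2 : tH (tH (𝟙 N) (RHomMap α M) ≫ evalTen N M P) (𝟙 P) ≫ ev P (tO N M) =
      aD N ((RHomR A K).obj M) P ≫ tH (𝟙 N) (tH (𝟙 _) α ≫ ev K M) := by
    have h1 := RHom_map_ev α M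
    have h2 : tH (evalTen N M P) (𝟙 P) ≫ ev P (tO N M) = aD N ((RHomR A P).obj M) P ≫
        tH (𝟙 N) (ev P M) := evalTen_fac N M P
    rw [← Category.comp_id (𝟙 P), ← tH_comp, Category.assoc, h2, associator_natural_assoc, tH_comp,
      Category.id_comp]
    change _ ≫ tH _ (tH _ _ ≫ _) = _
    rw [h1]
  rw [e1, e2, ← tH_id N ((RHomR A K).obj M), associator_natural_assoc, tH_comp, Category.id_comp]

omit [HasLTen₃ A] [IsSymMonoidal A] [HasRHom A] in
lemma tH_comp_right {a a' a'' : Dual.D A} (f : a ⟶ a') (f' : a' ⟶ a'') (b : Dual.D A) :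
    tH (f ≫ f') (𝟙 b) = tH f (𝟙 b) ≫ tH f' (𝟙 b) := by
  rw [tH_comp, Category.comp_id]

omit [HasLTen₃ A] [IsSymMonoidal A] [HasRHom A] in
lemma symm_nat {X X' Y Y' : Dual.D A} (f₁ : X ⟶ X') (f₂ : Y ⟶ Y') :
    tH f₂ f₁ ≫ (symm A).app (X', Y') = (symm A).app (X, Y) ≫ tH f₁ f₂ :=
  (symm A).naturality (X := (X, Y)) (Y := (X', Y')) (Prod.mkHom f₁ f₂)

/-- naturality of `evalHom K L M` in `K` -/
theorem evalHom_nat (L M : Dual.D A) {P K : Dual.D A} (α : P ⟶ K) :
    tH (𝟙 ((RHomR A L).obj M)) α ≫ evalHom K L M =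
      evalHom P L M ≫ RHomMap (RHomMap α L) M := by
  apply (rhomHomEquiv _ ((RHomR A K).obj L) _).symm.injective
  have hL : (rhomHomEquiv _ ((RHomR A K).obj L) _).symm
      (tH (𝟙 ((RHomR A L).obj M)) α ≫ evalHom K L M) =
      tH (tH (𝟙 ((RHomR A L).obj M)) α ≫ evalHom K L M) (𝟙 ((RHomR A K).obj L)) ≫
        ev ((RHomR A K).obj L) M :=
    (rhomAdj A ((RHomR A K).obj L)).homEquiv_counit _ _ _
  have hR : (rhomHomEquiv _ ((RHomR A K).obj L) _).symm
      (evalHom P L M ≫ RHomMap (RHomMap α L) M) =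
      tH (evalHom P L M ≫ RHomMap (RHomMap α L) M) (𝟙 ((RHomR A K).obj L)) ≫
        ev ((RHomR A K).obj L) M :=
    (rhomAdj A ((RHomR A K).obj L)).homEquiv_counit _ _ _
  refine hL.trans (Eq.trans ?_ hR.symm)
  have key : tH α (𝟙 ((RHomR A K).obj L)) ≫ (symm A).app ((RHomR A K).obj L, K) ≫ ev K L =
      tH (𝟙 P) (RHomMap α L) ≫ (symm A).app ((RHomR A P).obj L, P) ≫ ev P L := by
    have h1 := symm_nat (𝟙 ((RHomR A K).obj L)) α
    have h2 := symm_nat (RHomMap α L) (𝟙 P)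
    have h3 := RHom_map_ev α L
    rw [reassoc_of% h1, reassoc_of% h2]
    congr 1
    exact h3.symm
  have e1 : tH (tH (𝟙 ((RHomR A L).obj M)) α ≫ evalHom K L M) (𝟙 ((RHomR A K).obj L)) ≫
      ev ((RHomR A K).obj L) M =
      aD ((RHomR A L).obj M) P ((RHomR A K).obj L) ≫
        tH (𝟙 ((RHomR A L).obj M)) (tH α (𝟙 ((RHomR A K).obj L)) ≫
          (symm A).app ((RHomR A K).obj L, K) ≫ ev K L) ≫ ev L M := by
    have h2 : tH (evalHom K L M) (𝟙 ((RHomR A K).obj L)) ≫ ev ((RHomR A K).obj L) M =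
        aD ((RHomR A L).obj M) K ((RHomR A K).obj L) ≫
          tH (𝟙 ((RHomR A L).obj M)) ((symm A).app ((RHomR A K).obj L, K) ≫ ev K L) ≫ ev L M :=
      evalHom_fac K L M
    rw [tH_comp_right, Category.assoc, h2, associator_natural_assoc, tH_comp_assoc,
      Category.id_comp]
  have e2 : tH (evalHom P L M ≫ RHomMap (RHomMap α L) M) (𝟙 ((RHomR A K).obj L)) ≫
      ev ((RHomR A K).obj L) M =
      aD ((RHomR A L).obj M) P ((RHomR A K).obj L) ≫
        tH (𝟙 ((RHomR A L).obj M)) (tH (𝟙 P) (RHomMap α L) ≫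
          (symm A).app ((RHomR A P).obj L, P) ≫ ev P L) ≫ ev L M := by
    have h1 := RHom_map_ev (RHomMap α L) M
    have h2 : tH (evalHom P L M) (𝟙 ((RHomR A P).obj L)) ≫ ev ((RHomR A P).obj L) M =
        aD ((RHomR A L).obj M) P ((RHomR A P).obj L) ≫
          tH (𝟙 ((RHomR A L).obj M)) ((symm A).app ((RHomR A P).obj L, P) ≫ ev P L) ≫ ev L M :=
      evalHom_fac P L M
    have h3 : tH (evalHom P L M) (𝟙 ((RHomR A K).obj L)) ≫
        tH (𝟙 ((RHomR A ((RHomR A P).obj L)).obj M)) (RHomMap α L) =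
        tH (𝟙 (tO ((RHomR A L).obj M) P)) (RHomMap α L) ≫
          tH (evalHom P L M) (𝟙 ((RHomR A P).obj L)) := by
      rw [tH_comp, tH_comp, Category.comp_id, Category.id_comp, Category.comp_id, Category.id_comp]
    rw [tH_comp_right, Category.assoc]
    change _ ≫ tH _ _ ≫ _ = _
    rw [h1]
    change _ ≫ tH _ _ ≫ _ = _
    rw [reassoc_of% h3, h2, ← tH_id ((RHomR A L).obj M) P, associator_natural_assoc, tH_comp_assoc,
      Category.id_comp]
  rw [e1, e2, key]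

attribute [local instance] monoidalD

/-- `evalHom K L M` is an isomorphism for `K` pseudo-coherent, `L ∈ D^{≥ n}`, `M` of finite injective
dimension -/
theorem isIso_evalHom_of_isPseudoCoherent (K L M : Dual.D A) (hK : DRing.IsPseudoCoherent' A K)
    (n : ℤ) (hL : L.IsGE n) (hM : DRing.HasFiniteInjDim A M) : IsIso (evalHom K L M) := by
  obtain ⟨a', b, hM'⟩ := hM
  have hX : ((RHomR A L).obj M).IsLE (b - n) := isLE_RHom_of_injAmp hM' L n
  rw [DerivedCategory.isIso_iff]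
  intro i
  obtain ⟨P, C, α, u, w, hT, hP, hC⟩ := exists_perfect_approx K hK (i - (b - n) - 1)
  -- the tensor side
  obtain ⟨Z₁, v₁, w₁, hT₁⟩ := distinguished_cocone_triangle (tH (𝟙 ((RHomR A L).obj M)) α)
  have hZ₁ : Z₁.IsLE ((b - n) + (i - (b - n) - 1) - 1) :=
    isLE_cone_tH α u w hT (i - (b - n) - 1) ((RHomR A L).obj M) (b - n) v₁ w₁ hT₁
  have conn1 := (Groth.Agent.Lib.Helper1.PC.conn_iff_of_distTriang _ hT₁
    ((b - n) + (i - (b - n) - 1))).2 hZ₁
  -- the hom side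
  obtain ⟨Z', v', w', hT'⟩ := distinguished_cocone_triangle (RHomMap α L)
  have hZ' : Z'.IsGE (n - (i - (b - n) - 1)) :=
    isGE_cone_RHomMap α u w hT (i - (b - n) - 1) L n v' w' hT'
  obtain ⟨Z₃, v₃, w₃, hT₃⟩ := distinguished_cocone_triangle (RHomMap (RHomMap α L) M)
  have hZ₃ : Z₃.IsLE (b - (n - (i - (b - n) - 1)) - 1) :=
    isLE_cone_RHomMap_of_injAmp (RHomMap α L) v' w' hT' (n - (i - (b - n) - 1)) hM' v₃ w₃ hT₃
  have conn3 := (Groth.Agent.Lib.Helper1.PC.conn_iff_of_distTriang _ hT₃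
    (b - (n - (i - (b - n) - 1)))).2 hZ₃
  -- the perfect case
  obtain ⟨P', ⟨hp⟩⟩ := exists_exactPairing_left_of_isPerfect P hP
  haveI := hp
  haveI : IsIso (evalHom P L M) := isIso_evalHom_of_exactPairing P P' L M
  haveI h1 : IsIso ((homologyFunctor (ModuleCat.{u} A) i).map (tH (𝟙 ((RHomR A L).obj M)) α)) :=
    conn1.1 i (by omega)
  haveI h3 : IsIso ((homologyFunctor (ModuleCat.{u} A) i).map (RHomMap (RHomMap α L) M)) :=
    conn3.1 i (by omega)
  have hnat := congrArg (fun t => (homologyFunctor (ModuleCat.{u} A) i).map t) (evalHom_nat L M α)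
  simp only [Functor.map_comp] at hnat
  exact IsIso.of_isIso_fac_left hnat

end Groth.Agent.Lib.H6xPCev
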