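import Mathlib
import Groth.Prelude.Def_DDual2
set_option backward.isDefEq.respectTransparency.types false

/-!
# Restriction of scalars on derived categories: composition, identity, right adjoints (helper6)

* `restrictDComp f g : restrictD g ⋙ restrictD f ≅ restrictD (g.comp f)`
* `restrictDId : restrictD (RingHom.id A) ≅ 𝟭`
* `nonempty_rightAdjoint_comp_iso`: right adjoints of restriction compose
* `rightAdjointShiftIso`: right adjoints of restriction commute with shifts
* `nonempty_iso_rightAdjoint_restrictD_of_inverse`: for mutually inverse ring maps, the right adjoint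
  of restriction along one of them undoes that restriction.
-/

set_option autoImplicit false
set_option linter.style.haveILetI false
universe u

namespace Groth.Agent.Lib.H6xShk

open CategoryTheory CategoryTheory.Limits DerivedCategory
attribute [local instance] HasDerivedCategory.standard

section Abstract

variable {A B C : Type u} [CommRing A] [CommRing B] [CommRing C]
  (F : ModuleCat.{u} A ⥤ ModuleCat.{u} B) [F.Additive] [PreservesFiniteLimits F]
  [PreservesFiniteColimits F]
  (G : ModuleCat.{u} B ⥤ ModuleCat.{u} C) [G.Additive] [PreservesFiniteLimits G]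
  [PreservesFiniteColimits G]
  (H : ModuleCat.{u} A ⥤ ModuleCat.{u} C) [H.Additive] [PreservesFiniteLimits H]
  [PreservesFiniteColimits H]

/-- lifting datum for a composite of derived exact functors -/
noncomputable def liftingComp :
    Localization.Lifting (DerivedCategory.Q (C := ModuleCat.{u} A))
      (HomologicalComplex.quasiIso (ModuleCat.{u} A) (ComplexShape.up ℤ))
      (F.mapHomologicalComplex (ComplexShape.up ℤ) ⋙
        G.mapHomologicalComplex (ComplexShape.up ℤ) ⋙ DerivedCategory.Q)
      (F.mapDerivedCategory ⋙ G.mapDerivedCategory) :=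
  ⟨(Functor.associator _ _ _).symm ≪≫
    Functor.isoWhiskerRight F.mapDerivedCategoryFactors _ ≪≫
      Functor.associator _ _ _ ≪≫
        Functor.isoWhiskerLeft _ G.mapDerivedCategoryFactors⟩

/-- `F ⋙ G ≅ H` induces `D(F) ⋙ D(G) ≅ D(H)` -/
noncomputable def mapDerivedCategoryIsoOfComp (e : F ⋙ G ≅ H) :
    F.mapDerivedCategory ⋙ G.mapDerivedCategory ≅ H.mapDerivedCategory :=
  Localization.liftNatIso (DerivedCategory.Q (C := ModuleCat.{u} A))
    (HomologicalComplex.quasiIso (ModuleCat.{u} A) (ComplexShape.up ℤ))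
    (F.mapHomologicalComplex (ComplexShape.up ℤ) ⋙
        G.mapHomologicalComplex (ComplexShape.up ℤ) ⋙ DerivedCategory.Q)
    (H.mapHomologicalComplex (ComplexShape.up ℤ) ⋙ DerivedCategory.Q) _ _
    (h₁ := liftingComp F G)
    ((Functor.associator _ _ _).symm ≪≫
      Functor.isoWhiskerRight (Functor.mapHomologicalComplexCompIso e (ComplexShape.up ℤ)) _)

variable (F' : ModuleCat.{u} A ⥤ ModuleCat.{u} B) [F'.Additive] [PreservesFiniteLimits F']
  [PreservesFiniteColimits F']

/-- `F ≅ F'` induces `D(F) ≅ D(F')` -/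
noncomputable def mapDerivedCategoryNatIso (e : F ≅ F') :
    F.mapDerivedCategory ≅ F'.mapDerivedCategory :=
  Localization.liftNatIso (DerivedCategory.Q (C := ModuleCat.{u} A))
    (HomologicalComplex.quasiIso (ModuleCat.{u} A) (ComplexShape.up ℤ))
    (F.mapHomologicalComplex (ComplexShape.up ℤ) ⋙ DerivedCategory.Q)
    (F'.mapHomologicalComplex (ComplexShape.up ℤ) ⋙ DerivedCategory.Q) _ _
    (Functor.isoWhiskerRight (NatIso.mapHomologicalComplex e (ComplexShape.up ℤ)) _)

variable (E : ModuleCat.{u} A ⥤ ModuleCat.{u} A) [E.Additive] [PreservesFiniteLimits E]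
  [PreservesFiniteColimits E]

/-- `E ≅ 𝟭` induces `D(E) ≅ 𝟭` -/
noncomputable def mapDerivedCategoryIsoId (e : E ≅ 𝟭 _) :
    E.mapDerivedCategory ≅ 𝟭 (Dual.D A) :=
  Localization.liftNatIso (DerivedCategory.Q (C := ModuleCat.{u} A))
    (HomologicalComplex.quasiIso (ModuleCat.{u} A) (ComplexShape.up ℤ))
    (E.mapHomologicalComplex (ComplexShape.up ℤ) ⋙ DerivedCategory.Q)
    (DerivedCategory.Q) _ _
    (Functor.isoWhiskerRight (NatIso.mapHomologicalComplex e (ComplexShape.up ℤ) ≪≫
      Functor.mapHomologicalComplexIdIso _ (ComplexShape.up ℤ)) _ ≪≫ Functor.leftUnitor _)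

end Abstract

section Rings

variable {A B C : Type u} [CommRing A] [CommRing B] [CommRing C]

/-- restriction of scalars on derived categories is compatible with composition -/
noncomputable def restrictDComp (f : A →+* B) (g : B →+* C) :
    DRing.restrictD g ⋙ DRing.restrictD f ≅ DRing.restrictD (g.comp f) :=
  mapDerivedCategoryIsoOfComp (ModuleCat.restrictScalars.{u} g) (ModuleCat.restrictScalars.{u} f)
    (ModuleCat.restrictScalars.{u} (g.comp f)) (ModuleCat.restrictScalarsComp'.{u} f g _ rfl).symm

/-- restriction of scalars along the identity -/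
noncomputable def restrictDId : DRing.restrictD (RingHom.id A) ≅ 𝟭 (Dual.D A) :=
  mapDerivedCategoryIsoId (ModuleCat.restrictScalars.{u} (RingHom.id A))
    (ModuleCat.restrictScalarsId'.{u} (RingHom.id A) rfl)

/-- restriction along equal ring maps -/
noncomputable def restrictDCongr {f f' : A →+* B} (h : f = f') :
    DRing.restrictD f ≅ DRing.restrictD f' := eqToIso (by rw [h])

/-- right adjoints of restriction of scalars compose -/
theorem nonempty_rightAdjoint_comp_iso (f : A →+* B) (g : B →+* C) (h : A →+* C)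
    (hh : h = g.comp f) (Rf : Dual.D A ⥤ Dual.D B) (adjf : DRing.restrictD f ⊣ Rf)
    (Rg : Dual.D B ⥤ Dual.D C) (adjg : DRing.restrictD g ⊣ Rg)
    (Rh : Dual.D A ⥤ Dual.D C) (adjh : DRing.restrictD h ⊣ Rh) :
    Nonempty (Rh ≅ Rf ⋙ Rg) := by
  subst hh
  exact ⟨adjh.rightAdjointUniq ((adjg.comp adjf).ofNatIsoLeft (restrictDComp f g))⟩

/-- right adjoints of restriction of scalars commute with shifts -/
noncomputable def rightAdjointShiftIso (f : A →+* B) (Rf : Dual.D A ⥤ Dual.D B)
    (adjf : DRing.restrictD f ⊣ Rf) (X : Dual.D A) (a : ℤ) :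
    Rf.obj (X⟦a⟧) ≅ (Rf.obj X)⟦a⟧ :=
  (Adjunction.RightAdjointCommShift.iso adjf a).app X

/-- for mutually inverse ring maps `ι : B → Q`, `σ : Q → B`, any right adjoint of restriction
along `σ` undoes restriction along `σ` -/
theorem nonempty_iso_rightAdjoint_restrictD_of_inverse (ι : A →+* B) (σ : B →+* A)
    (h1 : σ.comp ι = RingHom.id A) (h2 : ι.comp σ = RingHom.id B)
    (Rσ : Dual.D B ⥤ Dual.D A) (adj : DRing.restrictD σ ⊣ Rσ) (L : Dual.D A) :
    Nonempty (Rσ.obj ((DRing.restrictD σ).obj L) ≅ L) := by
  let Eq : Dual.D A ≌ Dual.D B :=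
    CategoryTheory.Equivalence.mk (DRing.restrictD σ) (DRing.restrictD ι)
      ((restrictDId (A := A)).symm ≪≫ (restrictDCongr h1).symm ≪≫ (restrictDComp ι σ).symm)
      (restrictDComp σ ι ≪≫ restrictDCongr h2 ≪≫ restrictDId (A := B))
  haveI : (DRing.restrictD σ).IsEquivalence := Eq.isEquivalence_functor
  exact ⟨(asIso (adj.unit.app L)).symm⟩

end Rings

end Groth.Agent.Lib.H6xShk
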