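import Mathlib
import Groth.Prelude.Def_DTen5
set_option backward.isDefEq.respectTransparency.types false

/-!
# helper6: `rhomBC` is an isomorphism when derived base change is monoidal (formal part)
-/

set_option autoImplicit false
set_option linter.style.haveILetI false
universe u
open CategoryTheory CategoryTheory.Limits
attribute [local instance] HasDerivedCategory.standard

namespace Groth.Agent.Lib.H6xRBC

open DTen

variable {R R' : Type u} [CommRing R] [CommRing R'] (φ : R →+* R')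
  [HasLTen R] [HasLTen R'] [HasLBase φ] [HasResTen φ] [ResLegIso φ]

/-- `T ⊗^L K ⟶ (LT ⊗^L LK)|_R` -/
noncomputable def muD (T K : Dual.D R) :
    (LTen₂ R).obj (T, K) ⟶
      (DRing.restrictD φ).obj ((LTen₂ R').obj ((LBase φ).obj T, (LBase φ).obj K)) :=
  (LTen₂ R).map (Prod.mkHom ((baseAdj φ).unit.app T) ((baseAdj φ).unit.app K)) ≫
    (resPF φ).app ((LBase φ).obj T, (LBase φ).obj K)

/-- the monoidality comparison `L(T ⊗^L K) ⟶ LT ⊗^L LK` -/
noncomputable def monD (T K : Dual.D R) :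
    (LBase φ).obj ((LTen₂ R).obj (T, K)) ⟶
      (LTen₂ R').obj ((LBase φ).obj T, (LBase φ).obj K) :=
  ((baseAdj φ).homEquiv _ _).symm (muD φ T K)

lemma unit_res_monD (T K : Dual.D R) :
    (baseAdj φ).unit.app ((LTen₂ R).obj (T, K)) ≫ (DRing.restrictD φ).map (monD φ T K) =
      muD φ T K := by
  rw [monD]
  erw [← (baseAdj φ).homEquiv_unit]
  exact Equiv.apply_symm_apply _ _

variable [HasRHom R] [HasRHom R']

theorem isIso_rhomBC_of_monD (K : Dual.D R) (M : Dual.D R')
    (hm : ∀ T : Dual.D R, IsIso (monD φ T K)) : IsIso (rhomBC φ K M) := by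
  refine isIso_of_yoneda_map_bijective _ (fun T => ?_)
  let H := (RHomR R' ((LBase φ).obj K)).obj M
  haveI := hm T
  -- the chain of bijections
  let e₁ : (T ⟶ (DRing.restrictD φ).obj H) ≃ ((LBase φ).obj T ⟶ H) :=
    ((baseAdj φ).homEquiv T H).symm
  let e₂ : ((LBase φ).obj T ⟶ H) ≃
      ((LTen₂ R').obj ((LBase φ).obj T, (LBase φ).obj K) ⟶ M) :=
    (rhomHomEquiv ((LBase φ).obj T) ((LBase φ).obj K) M).symm
  let e₃ : ((LTen₂ R').obj ((LBase φ).obj T, (LBase φ).obj K) ⟶ M) ≃
      ((LBase φ).obj ((LTen₂ R).obj (T, K)) ⟶ M) :=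
    (asIso (monD φ T K)).homFromEquiv.symm
  let e₄ : ((LBase φ).obj ((LTen₂ R).obj (T, K)) ⟶ M) ≃
      ((LTen₂ R).obj (T, K) ⟶ (DRing.restrictD φ).obj M) :=
    (baseAdj φ).homEquiv _ _
  let e₅ : ((LTen₂ R).obj (T, K) ⟶ (DRing.restrictD φ).obj M) ≃
      (T ⟶ (RHomR R K).obj ((DRing.restrictD φ).obj M)) :=
    rhomHomEquiv T K ((DRing.restrictD φ).obj M)
  have key : ∀ t : T ⟶ (DRing.restrictD φ).obj H,
      t ≫ rhomBC φ K M = e₅ (e₄ (e₃ (e₂ (e₁ t)))) := by
    intro t
    have ht : t = (baseAdj φ).unit.app T ≫ (DRing.restrictD φ).map (e₁ t) := by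
      have := (baseAdj φ).homEquiv_unit (f := e₁ t)
      rw [← this]
      exact (Equiv.apply_symm_apply _ _).symm
    have h2 : e₂ (e₁ t) = (LTen₂ R').map (Prod.mkHom (e₁ t) (𝟙 ((LBase φ).obj K))) ≫
        ev ((LBase φ).obj K) M := (rhomAdj R' ((LBase φ).obj K)).homEquiv_counit _ _ _
    have h3 : e₃ (e₂ (e₁ t)) = monD φ T K ≫ e₂ (e₁ t) := rfl
    have h4 : e₄ (e₃ (e₂ (e₁ t))) = muD φ T K ≫ (DRing.restrictD φ).map (e₂ (e₁ t)) := by
      have := (baseAdj φ).homEquiv_unit (f := e₃ (e₂ (e₁ t)))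
      refine this.trans ?_
      rw [h3, Functor.map_comp, ← Category.assoc]
      erw [unit_res_monD]
    have h5 : t ≫ rhomBC φ K M = e₅ ((tensorRightD R K).map t ≫ rhomBCCore φ K M) := by
      rw [rhomBC]
      exact ((rhomAdj R K).homEquiv_naturality_left t (rhomBCCore φ K M)).symm
    rw [h5, h4]
    congr 1
    -- the core identity
    have nat := (resPF φ).naturality
      (Prod.mkHom (e₁ t) (𝟙 ((LBase φ).obj K)) :
        ((LBase φ).obj T, (LBase φ).obj K) ⟶ (H, (LBase φ).obj K))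
    dsimp only [Functor.comp_map, Functor.prod_map] at nat
    have e1 : (tensorRightD R K).map t =
        (LTen₂ R).map (Prod.mkHom t (𝟙 K)) := rfl
    rw [e1, rhomBCCore, muD, h2, Functor.map_comp]
    simp only [Category.assoc]
    rw [← reassoc_of% nat, ← Functor.map_comp_assoc, ← Functor.map_comp_assoc]
    congr 2
    apply Prod.ext
    · dsimp
      rw [Category.comp_id]
      exact ht
    · dsimp
      rw [Category.id_comp, CategoryTheory.Functor.map_id, Category.comp_id]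
  have : (fun t : T ⟶ (DRing.restrictD φ).obj H => t ≫ rhomBC φ K M) =
      fun t => e₅ (e₄ (e₃ (e₂ (e₁ t)))) := funext key
  rw [this]
  exact (e₁.trans (e₂.trans (e₃.trans (e₄.trans e₅)))).bijective

end Groth.Agent.Lib.H6xRBC
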