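import Mathlib
import Groth.Agent.Lib.H6xRBCA
import Groth.Agent.Lib.Helper1DT5
set_option backward.isDefEq.respectTransparency.types false

/-!
# helper6: the monoidality comparison of derived base change on K-projective representatives
-/

set_option autoImplicit false
set_option linter.style.haveILetI false
universe u
open CategoryTheory CategoryTheory.Limits MonoidalCategory
attribute [local instance] HasDerivedCategory.standard

namespace Groth.Agent.Lib.H6xRBC

open DTen DerivedCategory Groth.Agent.Lib.Helper1.KF Groth.Agent.Lib.Helper1.DT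

variable {R R' : Type u} [CommRing R] [CommRing R'] (φ : R →+* R')

/-- chain-level: `S ⊗ P ⟶ (ext S ⊗ ext P)|_R` -/
noncomputable def monPre (S P : DRing.Cx R) :
    S ⊗ P ⟶ (resCx φ).obj ((extCx φ).obj S ⊗ (extCx φ).obj P) :=
  ((unitCx φ).app S ⊗ₘ (unitCx φ).app P) ≫ resTenCx φ ((extCx φ).obj S) ((extCx φ).obj P)

/-- chain-level monoidality comparison `ext (S ⊗ P) ⟶ ext S ⊗ ext P` -/
noncomputable def monCx (S P : DRing.Cx R) :
    (extCx φ).obj (S ⊗ P) ⟶ (extCx φ).obj S ⊗ (extCx φ).obj P :=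
  ((extResAdj φ).homEquiv _ _).symm (monPre φ S P)

lemma unit_res_monCx (S P : DRing.Cx R) :
    (unitCx φ).app (S ⊗ P) ≫ (resCx φ).map (monCx φ S P) = monPre φ S P := by
  rw [monCx, ← extResAdj_unit]
  erw [← (extResAdj φ).homEquiv_unit]
  exact Equiv.apply_symm_apply _ _

variable [HasLTen R] [HasLTen R'] [HasLBase φ] [HasResTen φ] [ResLegIso φ]

lemma muD_Q (S P : DRing.Cx R) :
    muD φ (Q.obj S) (Q.obj P) ≫
      (DRing.restrictD φ).map ((LTen₂ R').map
        (Prod.mkHom ((baseCmp φ).app S) ((baseCmp φ).app P))) ≫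
      (resβB φ).app ((extCx φ).obj S, (extCx φ).obj P) =
    (ε R).app (S, P) ≫ Q.map (monPre φ S P) := by
  have nat := (resPF φ).naturality
    (Prod.mkHom ((baseCmp φ).app S) ((baseCmp φ).app P) :
      ((LBase φ).obj (Q.obj S), (LBase φ).obj (Q.obj P)) ⟶
        (Q.obj ((extCx φ).obj S), Q.obj ((extCx φ).obj P)))
  dsimp only [Functor.comp_map, Functor.prod_map] at nat
  have fac := resPF_fac φ ((extCx φ).obj S, (extCx φ).obj P)
  have hS := baseCmp_fac φ S
  have hP := baseCmp_fac φ P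
  have nε := (ε R).naturality (Prod.mkHom ((unitCx φ).app S) ((unitCx φ).app P) :
    (S, P) ⟶ ((resCx φ).obj ((extCx φ).obj S), (resCx φ).obj ((extCx φ).obj P)))
  have hβA : (resβA φ).app ((extCx φ).obj S, (extCx φ).obj P) =
      (LTen₂ R).map (Prod.mkHom ((resFactors φ).hom.app ((extCx φ).obj S))
        ((resFactors φ).hom.app ((extCx φ).obj P))) ≫
      (ε R).app ((resCx φ).obj ((extCx φ).obj S), (resCx φ).obj ((extCx φ).obj P)) ≫
      Q.map (resTenCx φ ((extCx φ).obj S) ((extCx φ).obj P)) := rfl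
  have hγ : ∀ X : DRing.Cx R, (baseγ φ).app X =
      Q.map ((unitCx φ).app X) ≫ (resFactors φ).inv.app ((extCx φ).obj X) := fun _ => rfl
  have hten : (tensorT R).map (Prod.mkHom ((unitCx φ).app S) ((unitCx φ).app P) :
      (S, P) ⟶ ((resCx φ).obj ((extCx φ).obj S), (resCx φ).obj ((extCx φ).obj P))) =
      ((unitCx φ).app S ⊗ₘ (unitCx φ).app P) := by
    dsimp
    rw [← MonoidalCategory.tensorHom_def]
  have step1 : (LTen₂ R).map (Prod.mkHom ((baseAdj φ).unit.app (Q.obj S))
        ((baseAdj φ).unit.app (Q.obj P))) ≫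
      (LTen₂ R).map (Prod.mkHom ((DRing.restrictD φ).map ((baseCmp φ).app S))
        ((DRing.restrictD φ).map ((baseCmp φ).app P))) ≫
      (LTen₂ R).map (Prod.mkHom ((resFactors φ).hom.app ((extCx φ).obj S))
        ((resFactors φ).hom.app ((extCx φ).obj P))) =
      (QQ R ⋙ LTen₂ R).map (Prod.mkHom ((unitCx φ).app S) ((unitCx φ).app P) :
        (S, P) ⟶ ((resCx φ).obj ((extCx φ).obj S), (resCx φ).obj ((extCx φ).obj P))) := by
    rw [← Functor.map_comp, ← Functor.map_comp]
    dsimp only [Functor.comp_map]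
    congr 1
    apply Prod.ext
    · dsimp
      rw [← Category.assoc, hS, hγ, Category.assoc, Iso.inv_hom_id_app]
      exact Category.comp_id _
    · dsimp
      rw [← Category.assoc, hP, hγ, Category.assoc, Iso.inv_hom_id_app]
      exact Category.comp_id _
  rw [muD, Category.assoc, ← reassoc_of% nat]
  erw [fac]
  rw [hβA, reassoc_of% step1, reassoc_of% nε, hten, monPre, Functor.map_comp]

theorem monD_Q (S P : DRing.Cx R) :
    monD φ (Q.obj S) (Q.obj P) ≫
      (LTen₂ R').map (Prod.mkHom ((baseCmp φ).app S) ((baseCmp φ).app P)) ≫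
        (ε R').app ((extCx φ).obj S, (extCx φ).obj P) =
    (LBase φ).map ((ε R).app (S, P)) ≫ (baseCmp φ).app (S ⊗ P) ≫ Q.map (monCx φ S P) := by
  apply ((baseAdj φ).homEquiv _ _).injective
  have hL := (baseAdj φ).homEquiv_unit (f := monD φ (Q.obj S) (Q.obj P) ≫
      (LTen₂ R').map (Prod.mkHom ((baseCmp φ).app S) ((baseCmp φ).app P)) ≫
        (ε R').app ((extCx φ).obj S, (extCx φ).obj P))
  have hR := (baseAdj φ).homEquiv_unit (f := (LBase φ).map ((ε R).app (S, P)) ≫
      (baseCmp φ).app (S ⊗ P) ≫ Q.map (monCx φ S P))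
  refine hL.trans (Eq.trans ?_ hR.symm)
  have h1 := muD_Q φ S P
  have hβB : (resβB φ).app ((extCx φ).obj S, (extCx φ).obj P) =
      (DRing.restrictD φ).map ((ε R').app ((extCx φ).obj S, (extCx φ).obj P)) ≫
        (resFactors φ).hom.app ((extCx φ).obj S ⊗ (extCx φ).obj P) := rfl
  have h2 := (baseAdj φ).unit.naturality ((ε R).app (S, P))
  dsimp only [Functor.id_map, Functor.comp_map] at h2
  have h3 := baseCmp_fac φ (S ⊗ P)
  have hγ : (baseγ φ).app (S ⊗ P) =
      Q.map ((unitCx φ).app (S ⊗ P)) ≫ (resFactors φ).inv.app ((extCx φ).obj (S ⊗ P)) := rfl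
  have h4 := (resFactors φ).inv.naturality (monCx φ S P)
  dsimp only [Functor.comp_map] at h4
  have h5 := unit_res_monCx φ S P
  -- left side
  have eL : (baseAdj φ).unit.app ((LTen₂ R).obj (Q.obj S, Q.obj P)) ≫
      (DRing.restrictD φ).map (monD φ (Q.obj S) (Q.obj P) ≫
        (LTen₂ R').map (Prod.mkHom ((baseCmp φ).app S) ((baseCmp φ).app P)) ≫
          (ε R').app ((extCx φ).obj S, (extCx φ).obj P)) =
      (ε R).app (S, P) ≫ Q.map (monPre φ S P) ≫
        (resFactors φ).inv.app ((extCx φ).obj S ⊗ (extCx φ).obj P) := by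
    rw [Functor.map_comp, Functor.map_comp, ← Category.assoc]
    erw [unit_res_monD]
    rw [hβB] at h1
    have h1' := congrArg (fun t => t ≫ (resFactors φ).inv.app ((extCx φ).obj S ⊗ (extCx φ).obj P)) h1
    simp only [Category.assoc, Iso.hom_inv_id_app] at h1'
    erw [Category.comp_id] at h1'
    exact h1'
  have eR : (baseAdj φ).unit.app ((LTen₂ R).obj (Q.obj S, Q.obj P)) ≫
      (DRing.restrictD φ).map ((LBase φ).map ((ε R).app (S, P)) ≫
        (baseCmp φ).app (S ⊗ P) ≫ Q.map (monCx φ S P)) =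
      (ε R).app (S, P) ≫ Q.map (monPre φ S P) ≫
        (resFactors φ).inv.app ((extCx φ).obj S ⊗ (extCx φ).obj P) := by
    rw [Functor.map_comp, Functor.map_comp, ← Category.assoc]
    erw [← h2]
    rw [Category.assoc, ← Category.assoc ((baseAdj φ).unit.app _)]
    erw [h3]
    rw [hγ, Category.assoc, ← h4, ← h5, Functor.map_comp, Category.assoc]
  exact eL.trans eR.symm


end Groth.Agent.Lib.H6xRBC

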