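import Mathlib
import Groth.Agent.Lib.H6xRBCB
import Groth.Agent.Lib.Helper1DT5
set_option backward.isDefEq.respectTransparency.types false

/-!
# helper6: termwise base change is monoidal on complexes (`monCx` iso), `monD` iso, `rhomBC` iso
-/

set_option autoImplicit false
set_option linter.style.haveILetI false
universe u
open CategoryTheory CategoryTheory.Limits MonoidalCategory
attribute [local instance] HasDerivedCategory.standard

namespace Groth.Agent.Lib.H6xRBC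

open DTen DerivedCategory Groth.Agent.Lib.Helper1.KF Groth.Agent.Lib.Helper1.DT HomologicalComplex

variable {R R' : Type u} [CommRing R] [CommRing R'] (φ : R →+* R')

/-- module-level extension of scalars -/
noncomputable abbrev eM : ModuleCat.{u} R ⥤ ModuleCat.{u} R' := ModuleCat.extendScalars.{u, u, u} φ
/-- module-level restriction of scalars -/
noncomputable abbrev rM : ModuleCat.{u} R' ⥤ ModuleCat.{u} R := ModuleCat.restrictScalars.{u} φ
/-- module-level adjunction -/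
noncomputable abbrev aM : eM φ ⊣ rM φ := ModuleCat.extendRestrictScalarsAdj.{u, u, u} φ

lemma unit_res_δ (X Y : ModuleCat.{u} R) :
    (aM φ).unit.app (X ⊗ Y) ≫ (rM φ).map (Functor.OplaxMonoidal.δ (eM φ) X Y) =
      ((aM φ).unit.app X ⊗ₘ (aM φ).unit.app Y) ≫ resTen₀app φ _ _ := by
  rw [resTen₀app_eq_μ]
  exact Adjunction.unit_app_tensor_comp_map_δ (aM φ) X Y

@[reassoc]
lemma ι_tensorHom {X X' Y Y' : Cx R} (f : X ⟶ Y) (g : X' ⟶ Y') (p q n : ℤ) (h : p + q = n) :
    ιTensorObj X X' p q n h ≫ (f ⊗ₘ g).f n = (f.f p ⊗ₘ g.f q) ≫ ιTensorObj Y Y' p q n h := by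
  rw [MonoidalCategory.tensorHom_def, HomologicalComplex.comp_f, ι_whiskerRight_assoc,
    ι_whiskerLeft, MonoidalCategory.tensorHom_def, Category.assoc]


/-- degree `n` of `monCx`, with a source type in module form -/
noncomputable def monF (S P : Cx R) (n : ℤ) :
    (eM φ).obj ((S ⊗ P).X n) ⟶ ((extCx φ).obj S ⊗ (extCx φ).obj P).X n :=
  (monCx φ S P).f n

lemma ext_hom_ext {S P : Cx R} {n : ℤ} {A : ModuleCat.{u} R'}
    {f g : (eM φ).obj ((S ⊗ P).X n) ⟶ A}
    (h : ∀ (p q : ℤ) (hpq : p + q = n),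
      (eM φ).map (ιTensorObj S P p q n hpq) ≫ f = (eM φ).map (ιTensorObj S P p q n hpq) ≫ g) :
    f = g := by
  apply ((aM φ).homEquiv _ _).injective
  rw [Adjunction.homEquiv_unit, Adjunction.homEquiv_unit]
  apply tensor_hom_ext
  intro p q hpq
  have h1 : ιTensorObj S P p q n hpq ≫ (aM φ).unit.app ((S ⊗ P).X n) =
      (aM φ).unit.app (S.X p ⊗ P.X q) ≫ (rM φ).map ((eM φ).map (ιTensorObj S P p q n hpq)) :=
    (aM φ).unit.naturality (ιTensorObj S P p q n hpq)
  rw [reassoc_of% h1, reassoc_of% h1, ← Functor.map_comp, ← Functor.map_comp, h p q hpq]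

lemma unit_res_monF (S P : Cx R) (n : ℤ) :
    (aM φ).unit.app ((S ⊗ P).X n) ≫ (rM φ).map (monF φ S P n) = (monPre φ S P).f n :=
  congrArg (fun t => t.f n) (unit_res_monCx φ S P)

lemma ι_monF (S P : Cx R) (p q n : ℤ) (h : p + q = n) :
    (eM φ).map (ιTensorObj S P p q n h) ≫ monF φ S P n =
      Functor.OplaxMonoidal.δ (eM φ) (S.X p) (P.X q) ≫
        ιTensorObj ((extCx φ).obj S) ((extCx φ).obj P) p q n h := by
  apply ((aM φ).homEquiv _ _).injective
  rw [Adjunction.homEquiv_unit, Adjunction.homEquiv_unit]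
  have h1 : ιTensorObj S P p q n h ≫ (aM φ).unit.app ((S ⊗ P).X n) =
      (aM φ).unit.app (S.X p ⊗ P.X q) ≫ (rM φ).map ((eM φ).map (ιTensorObj S P p q n h)) :=
    (aM φ).unit.naturality (ιTensorObj S P p q n h)
  have h2 := unit_res_monF φ S P n
  have h3 : ιTensorObj ((resCx φ).obj ((extCx φ).obj S)) ((resCx φ).obj ((extCx φ).obj P)) p q n h ≫
      (resTenCx φ ((extCx φ).obj S) ((extCx φ).obj P)).f n =
    resTen₀app φ ((eM φ).obj (S.X p)) ((eM φ).obj (P.X q)) ≫
      (rM φ).map (ιTensorObj ((extCx φ).obj S) ((extCx φ).obj P) p q n h) :=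
    ι_resTenCx φ ((extCx φ).obj S) ((extCx φ).obj P) p q n h
  have h4 : ιTensorObj S P p q n h ≫ ((unitCx φ).app S ⊗ₘ (unitCx φ).app P).f n =
      ((aM φ).unit.app (S.X p) ⊗ₘ (aM φ).unit.app (P.X q)) ≫
        ιTensorObj ((resCx φ).obj ((extCx φ).obj S)) ((resCx φ).obj ((extCx φ).obj P)) p q n h :=
    ι_tensorHom ((unitCx φ).app S) ((unitCx φ).app P) p q n h
  have h5 := unit_res_δ φ (S.X p) (P.X q)
  have h2' : (monPre φ S P).f n = ((unitCx φ).app S ⊗ₘ (unitCx φ).app P).f n ≫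
      (resTenCx φ ((extCx φ).obj S) ((extCx φ).obj P)).f n := rfl
  have e1 : (aM φ).unit.app (S.X p ⊗ P.X q) ≫
        (rM φ).map ((eM φ).map (ιTensorObj S P p q n h) ≫ monF φ S P n)
      = ιTensorObj S P p q n h ≫ (monPre φ S P).f n := by
    rw [Functor.map_comp, ← Category.assoc, ← h1, Category.assoc, h2]
    rfl
  have e2 : ιTensorObj S P p q n h ≫ (monPre φ S P).f n =
      ((aM φ).unit.app (S.X p) ⊗ₘ (aM φ).unit.app (P.X q)) ≫
          (ιTensorObj ((resCx φ).obj ((extCx φ).obj S)) ((resCx φ).obj ((extCx φ).obj P)) p q n h ≫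
          (resTenCx φ ((extCx φ).obj S) ((extCx φ).obj P)).f n) := by
    rw [h2', ← Category.assoc, h4, Category.assoc]
  have e3a : ((aM φ).unit.app (S.X p) ⊗ₘ (aM φ).unit.app (P.X q)) ≫
          (ιTensorObj ((resCx φ).obj ((extCx φ).obj S)) ((resCx φ).obj ((extCx φ).obj P)) p q n h ≫
          (resTenCx φ ((extCx φ).obj S) ((extCx φ).obj P)).f n) =
      ((aM φ).unit.app (S.X p) ⊗ₘ (aM φ).unit.app (P.X q)) ≫
        (resTen₀app φ ((eM φ).obj (S.X p)) ((eM φ).obj (P.X q)) ≫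
          (rM φ).map (ιTensorObj ((extCx φ).obj S) ((extCx φ).obj P) p q n h)) :=
    congrArg (fun t => ((aM φ).unit.app (S.X p) ⊗ₘ (aM φ).unit.app (P.X q)) ≫ t) h3
  have e3b : ((aM φ).unit.app (S.X p) ⊗ₘ (aM φ).unit.app (P.X q)) ≫
        (resTen₀app φ ((eM φ).obj (S.X p)) ((eM φ).obj (P.X q)) ≫
          (rM φ).map (ιTensorObj ((extCx φ).obj S) ((extCx φ).obj P) p q n h)) =
      (aM φ).unit.app (S.X p ⊗ P.X q) ≫
        (rM φ).map (Functor.OplaxMonoidal.δ (eM φ) (S.X p) (P.X q) ≫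
          ιTensorObj ((extCx φ).obj S) ((extCx φ).obj P) p q n h) := by
    rw [← Category.assoc, ← h5, Category.assoc, ← Functor.map_comp]
  have e3 := e3a.trans e3b
  exact e1.trans (e2.trans e3)

/-- typed summand inclusion for `S ⊗ P` -/
noncomputable def ιR (S P : Cx R) (p q n : ℤ) (h : p + q = n) : S.X p ⊗ P.X q ⟶ (S ⊗ P).X n :=
  ιTensorObj S P p q n h

/-- typed summand inclusion for `ext S ⊗ ext P` -/
noncomputable def ιE (S P : Cx R) (p q n : ℤ) (h : p + q = n) :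
    (eM φ).obj (S.X p) ⊗ (eM φ).obj (P.X q) ⟶ ((extCx φ).obj S ⊗ (extCx φ).obj P).X n :=
  ιTensorObj ((extCx φ).obj S) ((extCx φ).obj P) p q n h

lemma ιR_monF (S P : Cx R) (p q n : ℤ) (h : p + q = n) :
    (eM φ).map (ιR S P p q n h) ≫ monF φ S P n =
      Functor.OplaxMonoidal.δ (eM φ) (S.X p) (P.X q) ≫ ιE φ S P p q n h :=
  ι_monF φ S P p q n h

/-- the inverse of `monF` -/
noncomputable def monInvF (S P : Cx R) (n : ℤ) :
    ((extCx φ).obj S ⊗ (extCx φ).obj P).X n ⟶ (eM φ).obj ((S ⊗ P).X n) :=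
  mapBifunctorDesc (K₁ := (extCx φ).obj S) (K₂ := (extCx φ).obj P)
    (F := curriedTensor (ModuleCat.{u} R')) (c := ComplexShape.up ℤ)
    (fun p q hpq => Functor.LaxMonoidal.μ (eM φ) (S.X p) (P.X q) ≫
      (eM φ).map (ιR S P p q n hpq))

lemma ιE_monInvF (S P : Cx R) (p q n : ℤ) (h : p + q = n) :
    ιE φ S P p q n h ≫ monInvF φ S P n =
      Functor.LaxMonoidal.μ (eM φ) (S.X p) (P.X q) ≫ (eM φ).map (ιR S P p q n h) := by
  rw [monInvF]
  erw [ι_mapBifunctorDesc]
  rfl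

lemma monF_monInvF (S P : Cx R) (n : ℤ) : monF φ S P n ≫ monInvF φ S P n = 𝟙 _ := by
  apply ext_hom_ext φ
  intro p q hpq
  have h1 := ιR_monF φ S P p q n hpq
  have h2 := ιE_monInvF φ S P p q n hpq
  change (eM φ).map (ιR S P p q n hpq) ≫ monF φ S P n ≫ monInvF φ S P n =
    (eM φ).map (ιR S P p q n hpq) ≫ 𝟙 _
  rw [reassoc_of% h1, h2, Functor.Monoidal.δ_μ_assoc, Category.comp_id]

lemma monInvF_monF (S P : Cx R) (n : ℤ) : monInvF φ S P n ≫ monF φ S P n = 𝟙 _ := by
  apply tensor_hom_ext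
  intro p q hpq
  have h1 := ιR_monF φ S P p q n hpq
  have h2 := ιE_monInvF φ S P p q n hpq
  change ιE φ S P p q n hpq ≫ monInvF φ S P n ≫ monF φ S P n = ιE φ S P p q n hpq ≫ 𝟙 _
  rw [reassoc_of% h2, h1, Functor.Monoidal.μ_δ_assoc, Category.comp_id]

instance isIso_monCx (S P : Cx R) : IsIso (monCx φ S P) := by
  have : ∀ n, IsIso ((monCx φ S P).f n) := fun n =>
    ⟨⟨monInvF φ S P n, monF_monInvF φ S P n, monInvF_monF φ S P n⟩⟩
  exact HomologicalComplex.Hom.isIso_of_components _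

section derived

variable [HasLTen R] [HasLTen R'] [HasLBase φ] [HasResTen φ] [ResLegIso φ]

lemma muD_naturality {T T' K K' : Dual.D R} (a : T ⟶ T') (b : K ⟶ K') :
    (LTen₂ R).map (Prod.mkHom a b : (T, K) ⟶ (T', K')) ≫ muD φ T' K' =
      muD φ T K ≫ (DRing.restrictD φ).map ((LTen₂ R').map
        (Prod.mkHom ((LBase φ).map a) ((LBase φ).map b) :
          ((LBase φ).obj T, (LBase φ).obj K) ⟶ ((LBase φ).obj T', (LBase φ).obj K'))) := by
  have nat := (resPF φ).naturality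
    (Prod.mkHom ((LBase φ).map a) ((LBase φ).map b) :
      ((LBase φ).obj T, (LBase φ).obj K) ⟶ ((LBase φ).obj T', (LBase φ).obj K'))
  dsimp only [Functor.comp_map, Functor.prod_map] at nat
  have ha := (baseAdj φ).unit.naturality a
  have hb := (baseAdj φ).unit.naturality b
  dsimp only [Functor.id_map, Functor.comp_map] at ha hb
  rw [muD, muD, Category.assoc, ← nat, ← Category.assoc, ← Category.assoc, ← Functor.map_comp,
    ← Functor.map_comp]
  congr 2
  exact Prod.ext ha hb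

lemma monD_naturality {T T' K K' : Dual.D R} (a : T ⟶ T') (b : K ⟶ K') :
    (LBase φ).map ((LTen₂ R).map (Prod.mkHom a b : (T, K) ⟶ (T', K'))) ≫ monD φ T' K' =
      monD φ T K ≫ (LTen₂ R').map
        (Prod.mkHom ((LBase φ).map a) ((LBase φ).map b) :
          ((LBase φ).obj T, (LBase φ).obj K) ⟶ ((LBase φ).obj T', (LBase φ).obj K')) := by
  rw [monD, monD, ← Adjunction.homEquiv_naturality_left_symm,
    ← Adjunction.homEquiv_naturality_right_symm, muD_naturality]

theorem isIso_monD_Q (S P : Cx R) [S.IsKProjective] [P.IsKProjective] :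
    IsIso (monD φ (Q.obj S) (Q.obj P)) := by
  have h := monD_Q φ S P
  haveI : IsIso ((baseCmp φ).app S) := isIso_baseCmp_of_isKProjective φ S
  haveI : IsIso ((baseCmp φ).app P) := isIso_baseCmp_of_isKProjective φ P
  haveI : IsIso ((ε R').app ((extCx φ).obj S, (extCx φ).obj P)) :=
    isIso_ε_of_isKProjective _ _
  haveI : IsIso ((ε R).app (S, P)) := isIso_ε_of_isKProjective _ _
  haveI : IsIso ((baseCmp φ).app (S ⊗ P)) :=
    isIso_baseCmp_of_kflat φ _ (kflat_tensor (kflat_of_isKProjective S) (kflat_of_isKProjective P))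
  haveI : IsIso (Prod.mkHom ((baseCmp φ).app S) ((baseCmp φ).app P) :
      ((LBase φ).obj (Q.obj S), (LBase φ).obj (Q.obj P)) ⟶
        (Q.obj ((extCx φ).obj S), Q.obj ((extCx φ).obj P))) :=
    (isIso_prod_iff (f := Prod.mkHom ((baseCmp φ).app S) ((baseCmp φ).app P))).2
      ⟨inferInstance, inferInstance⟩
  haveI hR : IsIso ((LBase φ).map ((ε R).app (S, P)) ≫ (baseCmp φ).app (S ⊗ P) ≫
      Q.map (monCx φ S P)) := inferInstance
  rw [← h] at hR
  exact IsIso.of_isIso_comp_right _ ((LTen₂ R').map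
      (Prod.mkHom ((baseCmp φ).app S) ((baseCmp φ).app P)) ≫
        (ε R').app ((extCx φ).obj S, (extCx φ).obj P))

theorem isIso_monD (T K : Dual.D R) : IsIso (monD φ T K) := by
  obtain ⟨S, hS, -, ⟨eS⟩⟩ := exists_kproj_iso T
  obtain ⟨P, hP, -, ⟨eP⟩⟩ := exists_kproj_iso K
  haveI := isIso_monD_Q φ S P
  have nat := monD_naturality φ eS.hom eP.hom
  haveI : IsIso (Prod.mkHom eS.hom eP.hom : (Q.obj S, Q.obj P) ⟶ (T, K)) :=
    (isIso_prod_iff (f := Prod.mkHom eS.hom eP.hom)).2 ⟨inferInstance, inferInstance⟩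
  haveI : IsIso (Prod.mkHom ((LBase φ).map eS.hom) ((LBase φ).map eP.hom) :
      ((LBase φ).obj (Q.obj S), (LBase φ).obj (Q.obj P)) ⟶ ((LBase φ).obj T, (LBase φ).obj K)) :=
    (isIso_prod_iff (f := Prod.mkHom ((LBase φ).map eS.hom) ((LBase φ).map eP.hom))).2
      ⟨inferInstance, inferInstance⟩
  have hR : IsIso (monD φ (Q.obj S) (Q.obj P) ≫ (LTen₂ R').map
        (Prod.mkHom ((LBase φ).map eS.hom) ((LBase φ).map eP.hom) :
          ((LBase φ).obj (Q.obj S), (LBase φ).obj (Q.obj P)) ⟶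
            ((LBase φ).obj T, (LBase φ).obj K))) := inferInstance
  rw [← nat] at hR
  exact IsIso.of_isIso_comp_left ((LBase φ).map ((LTen₂ R).map
    (Prod.mkHom eS.hom eP.hom : (Q.obj S, Q.obj P) ⟶ (T, K)))) _

variable [HasRHom R] [HasRHom R']

theorem isIso_rhomBC (K : Dual.D R) (M : Dual.D R') : IsIso (rhomBC φ K M) :=
  isIso_rhomBC_of_monD φ K M (fun T => isIso_monD φ T K)

end derived

end Groth.Agent.Lib.H6xRBC
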