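import Mathlib
import Groth.Agent.Lib.Helper1KF1
import Groth.Agent.Lib.H6xRBCC
set_option backward.isDefEq.respectTransparency.types false

/-!
# helper6: chain-level associativity of the lax monoidal comparison `resTenCx` of restriction of scalars
-/

set_option autoImplicit false
universe u
open CategoryTheory CategoryTheory.Limits MonoidalCategory HomologicalComplex

namespace Groth.Agent.Lib.H6xPF
open Groth.Agent.Lib.Helper1.KF GradedObject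

variable {R : Type u} [CommRing R]

lemma ι₃_associator_hom (K L M : Cx R) (p q r s t n : ℤ) (hs : p + q = s) (ht : q + r = t)
    (h : s + r = n) :
    (ιTensorObj K L p q s hs ▷ M.X r) ≫ ιTensorObj (K ⊗ L) M s r n h ≫ (α_ K L M).hom.f n =
      (α_ (K.X p) (L.X q) (M.X r)).hom ≫ (K.X p ◁ ιTensorObj L M q r t ht) ≫
        ιTensorObj K (L ⊗ M) p t n (by omega) := by
  have hpqr : p + q + r = n := by omega
  have e1 : (ιTensorObj K L p q s hs ▷ M.X r) ≫ ιTensorObj (K ⊗ L) M s r n h =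
      Monoidal.ιTensorObj₃' K.X L.X M.X p q r n hpqr :=
    (Monoidal.ιTensorObj₃'_eq K.X L.X M.X p q r n hpqr s hs).symm
  have e2 : Monoidal.ιTensorObj₃' K.X L.X M.X p q r n hpqr ≫ (α_ K L M).hom.f n =
      (α_ _ _ _).hom ≫ Monoidal.ιTensorObj₃ K.X L.X M.X p q r n hpqr :=
    Monoidal.ιTensorObj₃'_associator_hom K.X L.X M.X p q r n hpqr
  have e3 : Monoidal.ιTensorObj₃ K.X L.X M.X p q r n hpqr =
      (K.X p ◁ ιTensorObj L M q r t ht) ≫ ιTensorObj K (L ⊗ M) p t n (by omega) :=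
    Monoidal.ιTensorObj₃_eq K.X L.X M.X p q r n hpqr t ht
  have e12 := (congrArg (fun t => t ≫ (α_ K L M).hom.f n) e1).trans e2
  have e := e12.trans (congrArg (fun t => (α_ (K.X p) (L.X q) (M.X r)).hom ≫ t) e3)
  exact (Category.assoc _ _ _).symm.trans e

lemma tensor₃'_hom_ext {K L M : Cx R} {n : ℤ} {A : ModuleCat.{u} R} {f g : ((K ⊗ L) ⊗ M).X n ⟶ A}
    (h : ∀ (p q r s : ℤ) (hs : p + q = s) (hn : s + r = n),
      (ιTensorObj K L p q s hs ▷ M.X r) ≫ ιTensorObj (K ⊗ L) M s r n hn ≫ f =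
        (ιTensorObj K L p q s hs ▷ M.X r) ≫ ιTensorObj (K ⊗ L) M s r n hn ≫ g) : f = g := by
  refine Monoidal.tensorObj₃'_ext (X₁ := K.X) (X₂ := L.X) (X₃ := M.X) f g (fun p q r hpqr => ?_)
  have e1 : Monoidal.ιTensorObj₃' K.X L.X M.X p q r n hpqr =
      (ιTensorObj K L p q (p + q) rfl ▷ M.X r) ≫ ιTensorObj (K ⊗ L) M (p + q) r n hpqr :=
    Monoidal.ιTensorObj₃'_eq K.X L.X M.X p q r n hpqr (p + q) rfl
  have := h p q r (p + q) rfl hpqr
  exact ((congrArg (fun t => t ≫ f) e1).trans ((Category.assoc _ _ _).trans this)).trans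
    (((Category.assoc _ _ _).symm).trans (congrArg (fun t => t ≫ g) e1.symm))

section res

open DTen Groth.Agent.Lib.H6xRBC

variable {R' : Type u} [CommRing R'] (φ : R →+* R')

lemma resTen₀_assoc (a b c : ModuleCat.{u} R') :
    (resTen₀app φ a b ▷ (rM φ).obj c) ≫ resTen₀app φ (a ⊗ b) c ≫ (rM φ).map (α_ a b c).hom =
      (α_ _ _ _).hom ≫ ((rM φ).obj a ◁ resTen₀app φ b c) ≫ resTen₀app φ a (b ⊗ c) := by
  simp only [resTen₀app_eq_μ]
  exact Functor.LaxMonoidal.associativity (rM φ) a b c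

lemma resTen₀_nat_left {a a' : ModuleCat.{u} R'} (f : a ⟶ a') (b : ModuleCat.{u} R') :
    ((rM φ).map f ▷ (rM φ).obj b) ≫ resTen₀app φ a' b = resTen₀app φ a b ≫ (rM φ).map (f ▷ b) := by
  have := resTen₀app_naturality φ f (𝟙 b)
  rw [CategoryTheory.Functor.map_id, MonoidalCategory.tensorHom_id,
    MonoidalCategory.tensorHom_id] at this
  exact this

lemma resTen₀_nat_right (a : ModuleCat.{u} R') {b b' : ModuleCat.{u} R'} (g : b ⟶ b') :
    ((rM φ).obj a ◁ (rM φ).map g) ≫ resTen₀app φ a b' = resTen₀app φ a b ≫ (rM φ).map (a ◁ g) := by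
  have := resTen₀app_naturality φ (𝟙 a) g
  rw [CategoryTheory.Functor.map_id, MonoidalCategory.id_tensorHom,
    MonoidalCategory.id_tensorHom] at this
  exact this

variable (Y₁ Y₂ Y₃ : Cx R')

theorem resTenCx_assoc :
    (resTenCx φ Y₁ Y₂ ▷ (resCx φ).obj Y₃) ≫ resTenCx φ (Y₁ ⊗ Y₂) Y₃ ≫
        (resCx φ).map (α_ Y₁ Y₂ Y₃).hom =
      (α_ ((resCx φ).obj Y₁) ((resCx φ).obj Y₂) ((resCx φ).obj Y₃)).hom ≫
        ((resCx φ).obj Y₁ ◁ resTenCx φ Y₂ Y₃) ≫ resTenCx φ Y₁ (Y₂ ⊗ Y₃) := by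
  refine HomologicalComplex.hom_ext _ _ (fun n => ?_)
  apply tensor₃'_hom_ext
  intro p q r s hs hn
  have ht : q + r = q + r := rfl
  have hn' : p + (q + r) = n := by omega
  have L1 := ι_whiskerRight (resTenCx φ Y₁ Y₂) ((resCx φ).obj Y₃) s r n hn
  have L2 := ι_resTenCx φ Y₁ Y₂ p q s hs
  have L3 := ι_resTenCx φ (Y₁ ⊗ Y₂) Y₃ s r n hn
  have L4 := resTen₀_nat_left φ (ιTensorObj Y₁ Y₂ p q s hs) (Y₃.X r)
  have L5 := ι₃_associator_hom Y₁ Y₂ Y₃ p q r s (q + r) n hs ht hn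
  have R1 := ι₃_associator_hom ((resCx φ).obj Y₁) ((resCx φ).obj Y₂) ((resCx φ).obj Y₃)
    p q r s (q + r) n hs ht hn
  have R2 := ι_whiskerLeft ((resCx φ).obj Y₁) (resTenCx φ Y₂ Y₃) p (q + r) n hn'
  have R3 := ι_resTenCx φ Y₂ Y₃ q r (q + r) ht
  have R4 := ι_resTenCx φ Y₁ (Y₂ ⊗ Y₃) p (q + r) n hn'
  have R5 := resTen₀_nat_right φ (Y₁.X p) (ιTensorObj Y₂ Y₃ q r (q + r) ht)
  have M := resTen₀_assoc φ (Y₁.X p) (Y₂.X q) (Y₃.X r)
  simp only [HomologicalComplex.comp_f]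
  have hL : ιTensorObj ((resCx φ).obj Y₁) ((resCx φ).obj Y₂) p q s hs ▷ ((resCx φ).obj Y₃).X r ≫
      ((resCx φ).obj Y₁ ⊗ (resCx φ).obj Y₂).ιTensorObj ((resCx φ).obj Y₃) s r n hn ≫
        (resTenCx φ Y₁ Y₂ ▷ (resCx φ).obj Y₃).f n ≫
          (resTenCx φ (Y₁ ⊗ Y₂) Y₃).f n ≫ ((resCx φ).map (α_ Y₁ Y₂ Y₃).hom).f n =
      (resTen₀app φ (Y₁.X p) (Y₂.X q) ▷ (rM φ).obj (Y₃.X r)) ≫
        resTen₀app φ (Y₁.X p ⊗ Y₂.X q) (Y₃.X r) ≫
          (rM φ).map ((ιTensorObj Y₁ Y₂ p q s hs ▷ Y₃.X r) ≫ ιTensorObj (Y₁ ⊗ Y₂) Y₃ s r n hn ≫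
            (α_ Y₁ Y₂ Y₃).hom.f n) := by
    erw [reassoc_of% L1]
    erw [reassoc_of% L3]
    rw [← MonoidalCategory.comp_whiskerRight_assoc]
    erw [L2]
    erw [MonoidalCategory.comp_whiskerRight]
    erw [Category.assoc, Category.assoc]
    erw [reassoc_of% L4]
    erw [Functor.map_comp, Functor.map_comp]
    rfl
  have hR : ιTensorObj ((resCx φ).obj Y₁) ((resCx φ).obj Y₂) p q s hs ▷ ((resCx φ).obj Y₃).X r ≫
      ((resCx φ).obj Y₁ ⊗ (resCx φ).obj Y₂).ιTensorObj ((resCx φ).obj Y₃) s r n hn ≫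
        (α_ ((resCx φ).obj Y₁) ((resCx φ).obj Y₂) ((resCx φ).obj Y₃)).hom.f n ≫
          ((resCx φ).obj Y₁ ◁ resTenCx φ Y₂ Y₃).f n ≫ (resTenCx φ Y₁ (Y₂ ⊗ Y₃)).f n =
      (α_ ((rM φ).obj (Y₁.X p)) ((rM φ).obj (Y₂.X q)) ((rM φ).obj (Y₃.X r))).hom ≫
        ((rM φ).obj (Y₁.X p) ◁ resTen₀app φ (Y₂.X q) (Y₃.X r)) ≫
          resTen₀app φ (Y₁.X p) (Y₂.X q ⊗ Y₃.X r) ≫
            (rM φ).map ((Y₁.X p ◁ ιTensorObj Y₂ Y₃ q r (q + r) ht) ≫
              ιTensorObj Y₁ (Y₂ ⊗ Y₃) p (q + r) n hn') := by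
    erw [reassoc_of% R1]
    erw [reassoc_of% R2]
    erw [R4]
    erw [← MonoidalCategory.whiskerLeft_comp_assoc]
    erw [R3]
    erw [MonoidalCategory.whiskerLeft_comp]
    erw [Category.assoc]
    erw [reassoc_of% R5]
    erw [Functor.map_comp]
    rfl
  refine hL.trans (Eq.trans ?_ hR.symm)
  rw [L5, Functor.map_comp, ← Category.assoc, ← Category.assoc, ← Category.assoc]
  erw [Category.assoc (resTen₀app φ (Y₁.X p) (Y₂.X q) ▷ (rM φ).obj (Y₃.X r))]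
  erw [M]
  simp only [Category.assoc]

end res

end Groth.Agent.Lib.H6xPF
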