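import Mathlib
import Groth.Agent.Lib.H6xPFA
import Groth.Agent.Lib.H6xDTenMonC
set_option backward.isDefEq.respectTransparency.types false

/-!
# helper6: associativity of the lax monoidal structure `resPF` of derived restriction of scalars
-/

set_option autoImplicit false
set_option linter.style.haveILetI false
set_option maxHeartbeats 400000
universe u
open CategoryTheory CategoryTheory.Limits MonoidalCategory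
attribute [local instance] HasDerivedCategory.standard

namespace Groth.Agent.Lib.H6xPF

open DTen DerivedCategory Groth.Agent.Lib.Helper1.KF Groth.Agent.Lib.Helper1.DT
  Groth.Agent.Lib.H6xDTen Groth.Agent.Lib.H6xRBC

variable {R R' : Type u} [CommRing R] [CommRing R'] (φ : R →+* R')

/-- derived restriction of scalars -/
noncomputable abbrev rD : Dual.D R' ⥤ Dual.D R := DRing.restrictD φ

/-- `res (Q Y) ≅ Q (res Y)` -/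
noncomputable abbrev rF (Y : Cx R') : (rD φ).obj (Q.obj Y) ⟶ Q.obj ((resCx φ).obj Y) :=
  (resFactors φ).hom.app Y

instance (Y : Cx R') : IsIso (rF φ Y) := inferInstanceAs (IsIso ((resFactors φ).hom.app Y))

@[reassoc]
lemma rF_nat {Y Y' : Cx R'} (f : Y ⟶ Y') :
    (rD φ).map (Q.map f) ≫ rF φ Y' = rF φ Y ≫ Q.map ((resCx φ).map f) :=
  (resFactors φ).hom.naturality f

section
variable [HasLTen R] [HasLTen R'] [HasResTen φ] [ResLegIso φ]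

/-- the lax monoidal comparison of derived restriction -/
noncomputable abbrev pf (a b : Dual.D R') :
    tO ((rD φ).obj a) ((rD φ).obj b) ⟶ (rD φ).obj (tO a b) := (resPF φ).app (a, b)

@[reassoc]
lemma pf_nat {a a' b b' : Dual.D R'} (f : a ⟶ a') (g : b ⟶ b') :
    tH ((rD φ).map f) ((rD φ).map g) ≫ pf φ a' b' = pf φ a b ≫ (rD φ).map (tH f g) :=
  (resPF φ).naturality (Prod.mkHom f g : (a, b) ⟶ (a', b'))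

@[reassoc]
lemma pf_fac (Y Y' : Cx R') :
    pf φ (Q.obj Y) (Q.obj Y') ≫ (rD φ).map (εX Y Y') ≫ rF φ (Y ⊗ Y') =
      tH (rF φ Y) (rF φ Y') ≫ εX ((resCx φ).obj Y) ((resCx φ).obj Y') ≫ Q.map (resTenCx φ Y Y') :=
  resPF_fac φ (Y, Y')

end

section assoc

variable [HasLTen R] [HasLTen₃ R] [IsSymMonoidal R] [HasLTen R'] [HasLTen₃ R'] [IsSymMonoidal R']
  [HasResTen φ] [ResLegIso φ]

/-- the common normal form -/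
noncomputable def cf (Y₁ Y₂ Y₃ : Cx R') :
    tO (tO ((rD φ).obj (Q.obj Y₁)) ((rD φ).obj (Q.obj Y₂))) ((rD φ).obj (Q.obj Y₃)) ⟶
      Q.obj ((resCx φ).obj (Y₁ ⊗ (Y₂ ⊗ Y₃))) :=
  tH (tH (rF φ Y₁) (rF φ Y₂)) (rF φ Y₃) ≫
    tH (εX ((resCx φ).obj Y₁) ((resCx φ).obj Y₂)) (𝟙 (Q.obj ((resCx φ).obj Y₃))) ≫
    εX ((resCx φ).obj Y₁ ⊗ (resCx φ).obj Y₂) ((resCx φ).obj Y₃) ≫
    Q.map ((resTenCx φ Y₁ Y₂ ▷ (resCx φ).obj Y₃) ≫ resTenCx φ (Y₁ ⊗ Y₂) Y₃ ≫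
      (resCx φ).map (α_ Y₁ Y₂ Y₃).hom)

lemma pf_assoc_left (Y₁ Y₂ Y₃ : Cx R') :
    (tH (pf φ (Q.obj Y₁) (Q.obj Y₂)) (𝟙 ((rD φ).obj (Q.obj Y₃))) ≫
      pf φ (tO (Q.obj Y₁) (Q.obj Y₂)) (Q.obj Y₃) ≫
      (rD φ).map (aD (Q.obj Y₁) (Q.obj Y₂) (Q.obj Y₃))) ≫
      ((rD φ).map (tH (𝟙 (Q.obj Y₁)) (εX Y₂ Y₃)) ≫ (rD φ).map (εX Y₁ (Y₂ ⊗ Y₃)) ≫
        rF φ (Y₁ ⊗ (Y₂ ⊗ Y₃))) = cf φ Y₁ Y₂ Y₃ := by
  have hA : (rD φ).map (aD (Q.obj Y₁) (Q.obj Y₂) (Q.obj Y₃)) ≫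
      (rD φ).map (tH (𝟙 (Q.obj Y₁)) (εX Y₂ Y₃)) ≫ (rD φ).map (εX Y₁ (Y₂ ⊗ Y₃)) =
      (rD φ).map (tH (εX Y₁ Y₂) (𝟙 (Q.obj Y₃))) ≫ (rD φ).map (εX (Y₁ ⊗ Y₂) Y₃) ≫
        (rD φ).map (Q.map (α_ Y₁ Y₂ Y₃).hom) := by
    rw [← Functor.map_comp, ← Functor.map_comp, ← Functor.map_comp, ← Functor.map_comp]
    congr 1
    exact assoc_εX Y₁ Y₂ Y₃
  have hB := pf_nat φ (εX Y₁ Y₂) (𝟙 (Q.obj Y₃))
  rw [CategoryTheory.Functor.map_id] at hB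
  have hC := pf_fac φ (Y₁ ⊗ Y₂) Y₃
  have hD := pf_fac φ Y₁ Y₂
  have hE := rF_nat φ (α_ Y₁ Y₂ Y₃).hom
  have hF : tH (Q.map (resTenCx φ Y₁ Y₂)) (𝟙 (Q.obj ((resCx φ).obj Y₃))) ≫
      εX ((resCx φ).obj (Y₁ ⊗ Y₂)) ((resCx φ).obj Y₃) =
      εX ((resCx φ).obj Y₁ ⊗ (resCx φ).obj Y₂) ((resCx φ).obj Y₃) ≫
        Q.map (resTenCx φ Y₁ Y₂ ▷ (resCx φ).obj Y₃) :=
    εX_natural_left (resTenCx φ Y₁ Y₂) ((resCx φ).obj Y₃)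
  have hG : tH (tH (rF φ Y₁) (rF φ Y₂) ≫ εX ((resCx φ).obj Y₁) ((resCx φ).obj Y₂) ≫
        Q.map (resTenCx φ Y₁ Y₂)) (rF φ Y₃) =
      tH (tH (rF φ Y₁) (rF φ Y₂)) (rF φ Y₃) ≫
        tH (εX ((resCx φ).obj Y₁) ((resCx φ).obj Y₂)) (𝟙 (Q.obj ((resCx φ).obj Y₃))) ≫
        tH (Q.map (resTenCx φ Y₁ Y₂)) (𝟙 (Q.obj ((resCx φ).obj Y₃))) := by
    rw [tH_comp, tH_comp, Category.comp_id, Category.comp_id]
  simp only [Category.assoc]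
  rw [reassoc_of% hA, hE, ← reassoc_of% hB, reassoc_of% hC, tH_comp_assoc, Category.id_comp,
    tH_comp_assoc, Category.assoc, hD, Category.id_comp, hG, cf]
  simp only [Category.assoc]
  rw [reassoc_of% hF, ← Functor.map_comp, ← Functor.map_comp]

lemma pf_assoc_right (Y₁ Y₂ Y₃ : Cx R') :
    (aD ((rD φ).obj (Q.obj Y₁)) ((rD φ).obj (Q.obj Y₂)) ((rD φ).obj (Q.obj Y₃)) ≫
      tH (𝟙 ((rD φ).obj (Q.obj Y₁))) (pf φ (Q.obj Y₂) (Q.obj Y₃)) ≫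
      pf φ (Q.obj Y₁) (tO (Q.obj Y₂) (Q.obj Y₃))) ≫
      ((rD φ).map (tH (𝟙 (Q.obj Y₁)) (εX Y₂ Y₃)) ≫ (rD φ).map (εX Y₁ (Y₂ ⊗ Y₃)) ≫
        rF φ (Y₁ ⊗ (Y₂ ⊗ Y₃))) = cf φ Y₁ Y₂ Y₃ := by
  have hB := pf_nat φ (𝟙 (Q.obj Y₁)) (εX Y₂ Y₃)
  rw [CategoryTheory.Functor.map_id] at hB
  have hC := pf_fac φ Y₁ (Y₂ ⊗ Y₃)
  have hD := pf_fac φ Y₂ Y₃
  have hF : tH (𝟙 (Q.obj ((resCx φ).obj Y₁))) (Q.map (resTenCx φ Y₂ Y₃)) ≫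
      εX ((resCx φ).obj Y₁) ((resCx φ).obj (Y₂ ⊗ Y₃)) =
      εX ((resCx φ).obj Y₁) ((resCx φ).obj Y₂ ⊗ (resCx φ).obj Y₃) ≫
        Q.map ((resCx φ).obj Y₁ ◁ resTenCx φ Y₂ Y₃) :=
    εX_natural_right ((resCx φ).obj Y₁) (resTenCx φ Y₂ Y₃)
  have hN := associator_natural (rF φ Y₁) (rF φ Y₂) (rF φ Y₃)
  have hAs := assoc_εX ((resCx φ).obj Y₁) ((resCx φ).obj Y₂) ((resCx φ).obj Y₃)
  have hG : tH (rF φ Y₁) (tH (rF φ Y₂) (rF φ Y₃) ≫ εX ((resCx φ).obj Y₂) ((resCx φ).obj Y₃) ≫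
        Q.map (resTenCx φ Y₂ Y₃)) =
      tH (rF φ Y₁) (tH (rF φ Y₂) (rF φ Y₃)) ≫
        tH (𝟙 (Q.obj ((resCx φ).obj Y₁))) (εX ((resCx φ).obj Y₂) ((resCx φ).obj Y₃)) ≫
        tH (𝟙 (Q.obj ((resCx φ).obj Y₁))) (Q.map (resTenCx φ Y₂ Y₃)) := by
    rw [tH_comp, tH_comp, Category.comp_id, Category.comp_id]
  simp only [Category.assoc]
  rw [← reassoc_of% hB, hC, tH_comp_assoc, Category.id_comp, tH_comp_assoc, Category.id_comp,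
    Category.assoc, hD, hG]
  simp only [Category.assoc]
  rw [← reassoc_of% hN, reassoc_of% hF, reassoc_of% hAs, ← Functor.map_comp, ← Functor.map_comp,
    cf, resTenCx_assoc]

theorem pf_assoc_Q (Y₁ Y₂ Y₃ : Cx R') (h₁ : KFlat Y₁) (h₂ : KFlat Y₂) :
    tH (pf φ (Q.obj Y₁) (Q.obj Y₂)) (𝟙 ((rD φ).obj (Q.obj Y₃))) ≫
      pf φ (tO (Q.obj Y₁) (Q.obj Y₂)) (Q.obj Y₃) ≫
      (rD φ).map (aD (Q.obj Y₁) (Q.obj Y₂) (Q.obj Y₃)) =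
    aD ((rD φ).obj (Q.obj Y₁)) ((rD φ).obj (Q.obj Y₂)) ((rD φ).obj (Q.obj Y₃)) ≫
      tH (𝟙 ((rD φ).obj (Q.obj Y₁))) (pf φ (Q.obj Y₂) (Q.obj Y₃)) ≫
      pf φ (Q.obj Y₁) (tO (Q.obj Y₂) (Q.obj Y₃)) := by
  haveI : IsIso (εX Y₂ Y₃) := isIso_εX Y₂ Y₃ (Or.inl h₂)
  haveI : IsIso (εX Y₁ (Y₂ ⊗ Y₃)) := isIso_εX Y₁ (Y₂ ⊗ Y₃) (Or.inl h₁)
  rw [← cancel_mono ((rD φ).map (tH (𝟙 (Q.obj Y₁)) (εX Y₂ Y₃)) ≫ (rD φ).map (εX Y₁ (Y₂ ⊗ Y₃)) ≫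
        rF φ (Y₁ ⊗ (Y₂ ⊗ Y₃)))]
  exact (pf_assoc_left φ Y₁ Y₂ Y₃).trans (pf_assoc_right φ Y₁ Y₂ Y₃).symm

theorem pf_assoc (a b c : Dual.D R') :
    tH (pf φ a b) (𝟙 ((rD φ).obj c)) ≫ pf φ (tO a b) c ≫ (rD φ).map (aD a b c) =
      aD ((rD φ).obj a) ((rD φ).obj b) ((rD φ).obj c) ≫
        tH (𝟙 ((rD φ).obj a)) (pf φ b c) ≫ pf φ a (tO b c) := by
  obtain ⟨Y₁, h₁, ⟨e₁⟩⟩ := exists_kflat_iso a
  obtain ⟨Y₂, h₂, ⟨e₂⟩⟩ := exists_kflat_iso b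
  obtain ⟨Y₃, h₃, ⟨e₃⟩⟩ := exists_kflat_iso c
  have h := pf_assoc_Q φ Y₁ Y₂ Y₃ h₁ h₂
  have n1 := pf_nat φ e₁.hom e₂.hom
  have n2 := pf_nat φ (tH e₁.hom e₂.hom) e₃.hom
  have n3 := associator_natural e₁.hom e₂.hom e₃.hom
  have n4 := pf_nat φ e₂.hom e₃.hom
  have n5 := pf_nat φ e₁.hom (tH e₂.hom e₃.hom)
  have n6 := associator_natural ((rD φ).map e₁.hom) ((rD φ).map e₂.hom) ((rD φ).map e₃.hom)
  rw [← cancel_epi (tH (tH ((rD φ).map e₁.hom) ((rD φ).map e₂.hom)) ((rD φ).map e₃.hom))]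
  have n3' : (rD φ).map (tH (tH e₁.hom e₂.hom) e₃.hom) ≫ (rD φ).map (aD a b c) =
      (rD φ).map (aD (Q.obj Y₁) (Q.obj Y₂) (Q.obj Y₃)) ≫
        (rD φ).map (tH e₁.hom (tH e₂.hom e₃.hom)) := by
    rw [← Functor.map_comp, ← Functor.map_comp]
    congr 1
  calc tH (tH ((rD φ).map e₁.hom) ((rD φ).map e₂.hom)) ((rD φ).map e₃.hom) ≫
        tH (pf φ a b) (𝟙 ((rD φ).obj c)) ≫ pf φ (tO a b) c ≫ (rD φ).map (aD a b c)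
      = tH (pf φ (Q.obj Y₁) (Q.obj Y₂)) (𝟙 _) ≫
          (tH ((rD φ).map (tH e₁.hom e₂.hom)) ((rD φ).map e₃.hom) ≫ pf φ (tO a b) c) ≫
          (rD φ).map (aD a b c) := by
        rw [tH_comp_assoc, n1, Category.comp_id, Category.assoc, tH_comp_assoc, Category.id_comp]
    _ = (tH (pf φ (Q.obj Y₁) (Q.obj Y₂)) (𝟙 _) ≫ pf φ (tO (Q.obj Y₁) (Q.obj Y₂)) (Q.obj Y₃) ≫
          (rD φ).map (aD (Q.obj Y₁) (Q.obj Y₂) (Q.obj Y₃))) ≫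
          (rD φ).map (tH e₁.hom (tH e₂.hom e₃.hom)) := by
        rw [n2]
        simp only [Category.assoc]
        rw [n3']
    _ = aD _ _ _ ≫ tH (𝟙 _) (pf φ (Q.obj Y₂) (Q.obj Y₃)) ≫
          (tH ((rD φ).map e₁.hom) ((rD φ).map (tH e₂.hom e₃.hom)) ≫ pf φ a (tO b c)) := by
        rw [h, n5]
        simp only [Category.assoc]
    _ = aD _ _ _ ≫ tH ((rD φ).map e₁.hom) (tH ((rD φ).map e₂.hom) ((rD φ).map e₃.hom)) ≫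
          tH (𝟙 _) (pf φ b c) ≫ pf φ a (tO b c) := by
        rw [tH_comp_assoc, Category.id_comp, ← n4, tH_comp_assoc, Category.comp_id]
    _ = tH (tH ((rD φ).map e₁.hom) ((rD φ).map e₂.hom)) ((rD φ).map e₃.hom) ≫
          aD ((rD φ).obj a) ((rD φ).obj b) ((rD φ).obj c) ≫
          tH (𝟙 ((rD φ).obj a)) (pf φ b c) ≫ pf φ a (tO b c) := by
        rw [← reassoc_of% n6]

end assoc

end Groth.Agent.Lib.H6xPF
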