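import Mathlib
import Groth.Agent.Lib.H6xPFB
import Groth.Agent.Lib.H6xBCD
set_option backward.isDefEq.respectTransparency.types false

/-!
# helper6: the projection formula for the unit: `res(R'[0]) ⊗ X ≅ res (L X)`
-/

set_option autoImplicit false
set_option linter.style.haveILetI false
set_option maxHeartbeats 400000
universe u
open CategoryTheory CategoryTheory.Limits MonoidalCategory HomologicalComplex
attribute [local instance] HasDerivedCategory.standard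

namespace Groth.Agent.Lib.H6xPF

open DTen DerivedCategory Groth.Agent.Lib.Helper1.KF Groth.Agent.Lib.Helper1.DT
  Groth.Agent.Lib.H6xDTen Groth.Agent.Lib.H6xRBC

variable {R R' : Type u} [CommRing R] [CommRing R'] (φ : R →+* R')

/-- the summand formula for the left unitor of complexes -/
lemma ι_leftUnitor_hom (K : Cx R') (n : ℤ) :
    ιTensorObj (𝟙_ (Cx R')) K 0 n n (zero_add n) ≫ (λ_ K).hom.f n =
      ((singleObjXSelf (ComplexShape.up ℤ) 0 (𝟙_ (ModuleCat.{u} R'))).hom ▷ K.X n) ≫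
        (λ_ (K.X n)).hom := by
  have h : (λ_ K).inv.f n = (λ_ (K.X n)).inv ≫
      ((singleObjXSelf (ComplexShape.up ℤ) 0 (𝟙_ (ModuleCat.{u} R'))).inv ▷ (K.X n)) ≫
        ιTensorObj (𝟙_ (Cx R')) K 0 n n (zero_add n) := HomologicalComplex.leftUnitor'_inv K n
  have h2 : (λ_ K).inv.f n ≫ (λ_ K).hom.f n = 𝟙 _ := by
    rw [← HomologicalComplex.comp_f, Iso.inv_hom_id, HomologicalComplex.id_f]
  rw [h, Category.assoc, Category.assoc, Iso.inv_comp_eq, Category.comp_id] at h2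
  rw [← cancel_epi ((singleObjXSelf (ComplexShape.up ℤ) 0 (𝟙_ (ModuleCat.{u} R'))).inv ▷ (K.X n)),
    h2, ← MonoidalCategory.comp_whiskerRight_assoc, Iso.inv_hom_id,
    MonoidalCategory.id_whiskerRight, Category.id_comp]

/-- `res (R'[0]) ≅ (R'|_R)[0]` -/
noncomputable def wIso : (resCx φ).obj (𝟙_ (Cx R')) ≅ sgl (resA φ) :=
  (HomologicalComplex.singleMapHomologicalComplex (rM φ) (ComplexShape.up ℤ) 0).app
    (𝟙_ (ModuleCat.{u} R'))

lemma wIso_hom_f_zero :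
    (wIso φ).hom.f 0 =
      (rM φ).map (singleObjXSelf (ComplexShape.up ℤ) 0 (𝟙_ (ModuleCat.{u} R'))).hom ≫
        (singleObjXSelf (ComplexShape.up ℤ) 0 (resA φ)).inv :=
  HomologicalComplex.singleMapHomologicalComplex_hom_app_self (rM φ) (ComplexShape.up ℤ) 0
    (𝟙_ (ModuleCat.{u} R'))

open ChangeOfRings TensorProduct in
/-- module level: `r ⊗ m ↦ r ⊗ (1 ⊗ m) ↦ r • (1 ⊗ m)` is the identity of `R' ⊗_R M` -/
lemma κ_eq (M : ModuleCat.{u} R) :
    ((rM φ).obj (𝟙_ (ModuleCat.{u} R')) ◁ (aM φ).unit.app M) ≫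
      resTen₀app φ (𝟙_ (ModuleCat.{u} R')) ((eM φ).obj M) ≫
        (rM φ).map (λ_ ((eM φ).obj M)).hom = (H6xRel.reIso φ M).hom := by
  apply ModuleCat.MonoidalCategory.tensor_ext
  intro r m
  have hL : (ModuleCat.Hom.hom
        ((rM φ).obj (𝟙_ (ModuleCat R')) ◁ (aM φ).unit.app M ≫
          resTen₀app φ (𝟙_ (ModuleCat R')) ((eM φ).obj M) ≫ (rM φ).map (λ_ ((eM φ).obj M)).hom))
      (r ⊗ₜ[R] m) =
      (show (rM φ).obj ((eM φ).obj M) from
        ((((show R' from r) * 1 : R') ⊗ₜ[R,φ] (show M from m)) : (eM φ).obj M)) := rfl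
  have hR : (ModuleCat.Hom.hom (H6xRel.reIso φ M).hom) (r ⊗ₜ[R] m) =
      (show (rM φ).obj ((eM φ).obj M) from
        ((((show R' from r) : R') ⊗ₜ[R,φ] (show M from m)) : (eM φ).obj M)) := rfl
  rw [hL, hR, mul_one]

/-- chain-level projection formula map for the unit -/
noncomputable def cP (P : Cx R) :
    (resCx φ).obj (𝟙_ (Cx R')) ⊗ P ⟶ (resCx φ).obj ((extCx φ).obj P) :=
  ((resCx φ).obj (𝟙_ (Cx R')) ◁ (unitCx φ).app P) ≫
    resTenCx φ (𝟙_ (Cx R')) ((extCx φ).obj P) ≫ (resCx φ).map (λ_ ((extCx φ).obj P)).hom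

lemma isZero_resUnit_tensor (p : ℤ) (hp : p ≠ 0) (Y : ModuleCat.{u} R) :
    IsZero (((resCx φ).obj (𝟙_ (Cx R'))).X p ⊗ Y) := by
  have h1 : IsZero ((𝟙_ (Cx R')).X p) :=
    isZero_single_obj_X (ComplexShape.up ℤ) 0 (𝟙_ (ModuleCat.{u} R')) p hp
  have h2 : IsZero ((rM φ).obj ((𝟙_ (Cx R')).X p)) := (rM φ).map_isZero h1
  exact (tensorRight Y).map_isZero h2

lemma cP_eq (P : Cx R) : cP φ P = ((wIso φ).hom ▷ P) ≫ (H6xBC.chiL φ P).hom := by
  refine HomologicalComplex.hom_ext _ _ (fun n => ?_)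
  apply tensor_hom_ext
  intro p q hpq
  by_cases hp : p = 0
  · subst hp
    obtain rfl : q = n := by omega
    have a1 := ι_whiskerLeft ((resCx φ).obj (𝟙_ (Cx R'))) ((unitCx φ).app P) 0 q q hpq
    have a2 := ι_resTenCx φ (𝟙_ (Cx R')) ((extCx φ).obj P) 0 q q hpq
    have a3 := ι_leftUnitor_hom ((extCx φ).obj P) q
    have a4 := resTen₀_nat_left φ
      (singleObjXSelf (ComplexShape.up ℤ) 0 (𝟙_ (ModuleCat.{u} R'))).hom ((eM φ).obj (P.X q))
    have a5 := κ_eq φ (P.X q)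
    have b1 := ι_whiskerRight (wIso φ).hom P 0 q q hpq
    have b2 := H6xBC.ι_chiL_hom φ P q
    have b3 := wIso_hom_f_zero φ
    have hL : ιTensorObj ((resCx φ).obj (𝟙_ (Cx R'))) P 0 q q hpq ≫ (cP φ P).f q =
        ((rM φ).map (singleObjXSelf (ComplexShape.up ℤ) 0 (𝟙_ (ModuleCat.{u} R'))).hom ▷ P.X q) ≫
          (H6xRel.reIso φ (P.X q)).hom := by
      rw [cP, HomologicalComplex.comp_f, HomologicalComplex.comp_f]
      erw [reassoc_of% a1]
      erw [reassoc_of% a2]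
      have a3' : (rM φ).map (ιTensorObj (𝟙_ (Cx R')) ((extCx φ).obj P) 0 q q hpq) ≫
          ((resCx φ).map (λ_ ((extCx φ).obj P)).hom).f q =
          (rM φ).map ((singleObjXSelf (ComplexShape.up ℤ) 0 (𝟙_ (ModuleCat.{u} R'))).hom ▷
            (eM φ).obj (P.X q)) ≫ (rM φ).map (λ_ ((eM φ).obj (P.X q))).hom := by
        have := congrArg (fun t => (rM φ).map t) a3
        exact ((rM φ).map_comp _ _).symm.trans (this.trans ((rM φ).map_comp _ _))
      erw [Category.assoc (resTen₀app φ ((𝟙_ (Cx R')).X 0) (((extCx φ).obj P).X q))]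
      erw [a3']
      erw [← reassoc_of% a4]
      erw [MonoidalCategory.whisker_exchange_assoc]
      erw [a5]
      rfl
    have hR : ιTensorObj ((resCx φ).obj (𝟙_ (Cx R'))) P 0 q q hpq ≫
        ((wIso φ).hom ▷ P ≫ (H6xBC.chiL φ P).hom).f q =
        ((rM φ).map (singleObjXSelf (ComplexShape.up ℤ) 0 (𝟙_ (ModuleCat.{u} R'))).hom ▷ P.X q) ≫
          (H6xRel.reIso φ (P.X q)).hom := by
      rw [HomologicalComplex.comp_f, reassoc_of% b1, b2, b3,
        ← MonoidalCategory.comp_whiskerRight_assoc]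
      erw [Category.assoc, Iso.inv_hom_id, Category.comp_id]
    exact hL.trans hR.symm
  · exact (isZero_resUnit_tensor φ p hp (P.X q)).eq_of_src _ _

instance isIso_cP (P : Cx R) : IsIso (cP φ P) := by
  rw [cP_eq]
  infer_instance

section derived

variable [HasLTen R] [HasLTen₃ R] [IsSymMonoidal R] [HasLTen R'] [HasLTen₃ R'] [IsSymMonoidal R']
  [HasLBase φ] [HasResTen φ] [ResLegIso φ]

/-- `N = res (R'[0])` -/
noncomputable abbrev NN : Dual.D R := (rD φ).obj (DTen.unit R')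

/-- the projection formula map for the unit, `N ⊗ᴸ X ⟶ res (L X)` -/
noncomputable def ρD (X : Dual.D R) : tO (NN φ) X ⟶ (rD φ).obj ((LBase φ).obj X) :=
  tH (𝟙 (NN φ)) ((baseAdj φ).unit.app X) ≫ pf φ (DTen.unit R') ((LBase φ).obj X) ≫
    (rD φ).map ((unitL R').app ((LBase φ).obj X))

lemma unitL_nat {A : Type u} [CommRing A] [HasLTen A] {a b : Dual.D A} (f : a ⟶ b) :
    tH (𝟙 (DTen.unit A)) f ≫ (unitL A).app b = (unitL A).app a ≫ f :=
  (unitL A).naturality f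

@[reassoc]
lemma ρD_nat {X X' : Dual.D R} (f : X ⟶ X') :
    tH (𝟙 (NN φ)) f ≫ ρD φ X' = ρD φ X ≫ (rD φ).map ((LBase φ).map f) := by
  have h1 := (baseAdj φ).unit.naturality f
  dsimp only [Functor.id_map, Functor.comp_map] at h1
  have h2 := pf_nat φ (𝟙 (DTen.unit R')) ((LBase φ).map f)
  rw [CategoryTheory.Functor.map_id] at h2
  have h3 := unitL_nat ((LBase φ).map f)
  rw [ρD, ρD, tH_comp_assoc, Category.id_comp, h1, ← Category.comp_id (𝟙 (NN φ)), ← tH_comp_assoc,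
    Category.comp_id, reassoc_of% h2, Category.assoc, Category.assoc, ← Functor.map_comp,
    ← Functor.map_comp, h3]

lemma ρD_Q (P : Cx R) :
    ρD φ (Q.obj P) ≫ (rD φ).map ((baseCmp φ).app P) ≫ rF φ ((extCx φ).obj P) =
      tH (rF φ (𝟙_ (Cx R'))) (𝟙 (Q.obj P)) ≫ εX ((resCx φ).obj (𝟙_ (Cx R'))) P ≫
        Q.map (cP φ P) := by
  have h1 := unitL_nat ((baseCmp φ).app P)
  have h2 := pf_nat φ (𝟙 (DTen.unit R')) ((baseCmp φ).app P)
  rw [CategoryTheory.Functor.map_id] at h2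
  have h3 : (unitL R').app (Q.obj ((extCx φ).obj P)) =
      εX (𝟙_ (Cx R')) ((extCx φ).obj P) ≫ Q.map (λ_ ((extCx φ).obj P)).hom :=
    unitL_app R' ((extCx φ).obj P)
  have h4 := rF_nat φ (λ_ ((extCx φ).obj P)).hom
  have h5 := pf_fac φ (𝟙_ (Cx R')) ((extCx φ).obj P)
  have h6 := baseCmp_fac φ P
  have hγ : (baseγ φ).app P =
      Q.map ((unitCx φ).app P) ≫ (resFactors φ).inv.app ((extCx φ).obj P) := rfl
  have h7 : tH (𝟙 (Q.obj ((resCx φ).obj (𝟙_ (Cx R'))))) (Q.map ((unitCx φ).app P)) ≫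
      εX ((resCx φ).obj (𝟙_ (Cx R'))) ((resCx φ).obj ((extCx φ).obj P)) =
      εX ((resCx φ).obj (𝟙_ (Cx R'))) P ≫
        Q.map ((resCx φ).obj (𝟙_ (Cx R')) ◁ (unitCx φ).app P) :=
    εX_natural_right ((resCx φ).obj (𝟙_ (Cx R'))) ((unitCx φ).app P)
  have h1' : (rD φ).map ((unitL R').app ((LBase φ).obj (Q.obj P))) ≫
      (rD φ).map ((baseCmp φ).app P) =
      (rD φ).map (tH (𝟙 (DTen.unit R')) ((baseCmp φ).app P)) ≫
        (rD φ).map ((unitL R').app (Q.obj ((extCx φ).obj P))) := by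
    rw [← Functor.map_comp, ← Functor.map_comp]
    congr 1
    exact h1.symm
  have hsplit : tH (rF φ (𝟙_ (Cx R'))) (Q.map ((unitCx φ).app P)) =
      tH (rF φ (𝟙_ (Cx R'))) (𝟙 (Q.obj P)) ≫
        tH (𝟙 (Q.obj ((resCx φ).obj (𝟙_ (Cx R'))))) (Q.map ((unitCx φ).app P)) := by
    rw [tH_comp, Category.comp_id, Category.id_comp]
  rw [ρD]
  simp only [Category.assoc]
  rw [reassoc_of% h1', ← reassoc_of% h2, h3, Functor.map_comp, Category.assoc, h4,
    reassoc_of% h5, tH_comp_assoc, Category.id_comp]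
  erw [h6]
  rw [hγ, tH_comp_assoc, Category.id_comp, Category.assoc, Iso.inv_hom_id_app]
  erw [Category.comp_id]
  rw [hsplit, Category.assoc, reassoc_of% h7, ← Functor.map_comp, ← Functor.map_comp, cP]

theorem isIso_ρD (X : Dual.D R) : IsIso (ρD φ X) := by
  obtain ⟨P, hP, -, ⟨e⟩⟩ := exists_kproj_iso X
  have hQ : IsIso (ρD φ (Q.obj P)) := by
    have h := ρD_Q φ P
    haveI : IsIso ((baseCmp φ).app P) := isIso_baseCmp_of_isKProjective φ P
    haveI : IsIso (εX ((resCx φ).obj (𝟙_ (Cx R'))) P) :=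
      isIso_εX _ _ (Or.inr (kflat_of_isKProjective P))
    have hR : IsIso (tH (rF φ (𝟙_ (Cx R'))) (𝟙 (Q.obj P)) ≫ εX ((resCx φ).obj (𝟙_ (Cx R'))) P ≫
        Q.map (cP φ P)) := inferInstance
    rw [← h] at hR
    exact IsIso.of_isIso_comp_right _
      ((rD φ).map ((baseCmp φ).app P) ≫ rF φ ((extCx φ).obj P))
  have nat := ρD_nat φ e.hom
  have hL : IsIso (tH (𝟙 (NN φ)) e.hom ≫ ρD φ X) := by
    rw [nat]
    infer_instance
  exact IsIso.of_isIso_comp_left (tH (𝟙 (NN φ)) e.hom) _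

end derived

end Groth.Agent.Lib.H6xPF
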