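import Mathlib
import Groth.Agent.Lib.H6xPFC
import Groth.Agent.Lib.H6xDTenMonD
set_option backward.isDefEq.respectTransparency.types false

/-!
# helper6: base change for `RHom` is equivalent to the tensor-evaluation map being an isomorphism
-/

set_option autoImplicit false
set_option linter.style.haveILetI false
set_option maxHeartbeats 400000
universe u
open CategoryTheory CategoryTheory.Limits MonoidalCategory HomologicalComplex
attribute [local instance] HasDerivedCategory.standard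

namespace Groth.Agent.Lib.H6xPF

open DTen DerivedCategory Groth.Agent.Lib.Helper1.KF Groth.Agent.Lib.Helper1.DT
  Groth.Agent.Lib.H6xDTen Groth.Agent.Lib.H6xRBC

variable {R R' : Type u} [CommRing R] [CommRing R'] (φ : R →+* R')

/-- derived restriction of scalars reflects isomorphisms -/
theorem isIso_of_isIso_rD_map {X Y : Dual.D R'} (f : X ⟶ Y) (h : IsIso ((rD φ).map f)) :
    IsIso f := by
  obtain ⟨K, hK, -, ⟨eX⟩⟩ := exists_kproj_iso X
  obtain ⟨L, ⟨eY⟩⟩ : ∃ L : Cx R', Nonempty (Q.obj L ≅ Y) := ⟨_, ⟨Q.objObjPreimageIso Y⟩⟩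
  obtain ⟨g, hg⟩ := Q_map_surjective K L (eX.hom ≫ f ≫ eY.inv)
  have h1 : IsIso ((rD φ).map (Q.map g)) := by
    rw [hg, Functor.map_comp, Functor.map_comp]
    infer_instance
  have h2 : IsIso (Q.map ((resCx φ).map g)) := by
    have e := rF_nat φ g
    have : Q.map ((resCx φ).map g) = inv (rF φ K) ≫ (rD φ).map (Q.map g) ≫ rF φ L := by
      rw [e, IsIso.inv_hom_id_assoc]
    rw [this]
    infer_instance
  have h3 : QuasiIso ((resCx φ).map g) :=
    (DerivedCategory.isIso_Q_map_iff_quasiIso (φ := (resCx φ).map g)).1 h2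
  have h4 : QuasiIso g :=
    (HomologicalComplex.quasiIso_map_iff_of_preservesHomology g
      (ModuleCat.restrictScalars.{u} φ)).1 h3
  have h5 : IsIso (Q.map g) := (DerivedCategory.isIso_Q_map_iff_quasiIso (φ := g)).2 h4
  have h6 : f = eX.inv ≫ Q.map g ≫ eY.hom := by
    rw [hg]
    simp
  rw [h6]
  infer_instance

section main

variable [HasLTen R] [HasLTen₃ R] [IsSymMonoidal R] [HasLTen R'] [HasLTen₃ R'] [IsSymMonoidal R']
  [HasLBase φ] [HasResTen φ] [ResLegIso φ]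

lemma unitL_whisker {A : Type u} [CommRing A] [HasLTen A] [HasLTen₃ A] [IsSymMonoidal A]
    (a b : Dual.D A) :
    tH ((unitL A).app a) (𝟙 b) = aD (DTen.unit A) a b ≫ (unitL A).app (tO a b) := by
  letI := monoidalD A
  exact MonoidalCategory.leftUnitor_whiskerRight a b

/-- `ρ` is compatible with tensoring on the right (C2) -/
lemma ρD_tensor (X K : Dual.D R) :
    tH (ρD φ X) ((baseAdj φ).unit.app K) ≫ pf φ ((LBase φ).obj X) ((LBase φ).obj K) =
      aD (NN φ) X K ≫ ρD φ (tO X K) ≫ (rD φ).map (monD φ X K) := by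
  have hA : tH (tH (𝟙 (NN φ)) ((baseAdj φ).unit.app X) ≫ pf φ (DTen.unit R') ((LBase φ).obj X) ≫
        (rD φ).map ((unitL R').app ((LBase φ).obj X))) ((baseAdj φ).unit.app K) =
      tH (tH (𝟙 (NN φ)) ((baseAdj φ).unit.app X)) ((baseAdj φ).unit.app K) ≫
        tH (pf φ (DTen.unit R') ((LBase φ).obj X)) (𝟙 ((rD φ).obj ((LBase φ).obj K))) ≫
        tH ((rD φ).map ((unitL R').app ((LBase φ).obj X)))
          (𝟙 ((rD φ).obj ((LBase φ).obj K))) := by
    rw [tH_comp, tH_comp, Category.comp_id]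
    erw [Category.comp_id]
  have hB : tH ((rD φ).map ((unitL R').app ((LBase φ).obj X)))
        (𝟙 ((rD φ).obj ((LBase φ).obj K))) ≫ pf φ ((LBase φ).obj X) ((LBase φ).obj K) =
      pf φ (tO (DTen.unit R') ((LBase φ).obj X)) ((LBase φ).obj K) ≫
        (rD φ).map (tH ((unitL R').app ((LBase φ).obj X)) (𝟙 ((LBase φ).obj K))) := by
    have := pf_nat φ ((unitL R').app ((LBase φ).obj X)) (𝟙 ((LBase φ).obj K))
    rw [CategoryTheory.Functor.map_id] at this
    exact this
  have hC := unitL_whisker ((LBase φ).obj X) ((LBase φ).obj K)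
  have hD := pf_assoc φ (DTen.unit R') ((LBase φ).obj X) ((LBase φ).obj K)
  have hE := associator_natural (𝟙 (NN φ)) ((baseAdj φ).unit.app X) ((baseAdj φ).unit.app K)
  have hF : (baseAdj φ).unit.app (tO X K) ≫ (rD φ).map (monD φ X K) =
      tH ((baseAdj φ).unit.app X) ((baseAdj φ).unit.app K) ≫
        pf φ ((LBase φ).obj X) ((LBase φ).obj K) := unit_res_monD φ X K
  have hG := pf_nat φ (𝟙 (DTen.unit R')) (monD φ X K)
  rw [CategoryTheory.Functor.map_id] at hG
  have hH := unitL_nat (monD φ X K)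
  -- left side
  have eL : tH (ρD φ X) ((baseAdj φ).unit.app K) ≫ pf φ ((LBase φ).obj X) ((LBase φ).obj K) =
      aD (NN φ) X K ≫ tH (𝟙 (NN φ)) (tH ((baseAdj φ).unit.app X) ((baseAdj φ).unit.app K)) ≫
        tH (𝟙 (NN φ)) (pf φ ((LBase φ).obj X) ((LBase φ).obj K)) ≫
        pf φ (DTen.unit R') (tO ((LBase φ).obj X) ((LBase φ).obj K)) ≫
        (rD φ).map ((unitL R').app (tO ((LBase φ).obj X) ((LBase φ).obj K))) := by
    rw [ρD, hA]
    simp only [Category.assoc]
    rw [hB, hC, Functor.map_comp, reassoc_of% hD, reassoc_of% hE]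
  have eR : aD (NN φ) X K ≫ ρD φ (tO X K) ≫ (rD φ).map (monD φ X K) =
      aD (NN φ) X K ≫ tH (𝟙 (NN φ)) (tH ((baseAdj φ).unit.app X) ((baseAdj φ).unit.app K)) ≫
        tH (𝟙 (NN φ)) (pf φ ((LBase φ).obj X) ((LBase φ).obj K)) ≫
        pf φ (DTen.unit R') (tO ((LBase φ).obj X) ((LBase φ).obj K)) ≫
        (rD φ).map ((unitL R').app (tO ((LBase φ).obj X) ((LBase φ).obj K))) := by
    rw [ρD]
    simp only [Category.assoc]
    rw [← Functor.map_comp, ← hH, Functor.map_comp, ← reassoc_of% hG, tH_comp_assoc,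
      Category.id_comp, hF, ← Category.id_comp (𝟙 (NN φ)), ← tH_comp_assoc, Category.id_comp]
  exact eL.trans eR.symm

variable [HasRHom R] [HasRHom R']

lemma ev_nat {A : Type u} [CommRing A] [HasLTen A] [HasRHom A] (K : Dual.D A) {Z Z' : Dual.D A}
    (f : Z ⟶ Z') :
    tH ((RHomR A K).map f) (𝟙 K) ≫ ev K Z' = ev K Z ≫ f :=
  (rhomAdj A K).counit.naturality f

/-- `bcRHom` is the mate of `monD` (C1) -/
lemma monD_bcRHom_ev (K M : Dual.D R) [IsIso (rhomBC φ K ((LBase φ).obj M))] :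
    monD φ ((RHomR R K).obj M) K ≫
      tH (bcRHom φ K M) (𝟙 ((LBase φ).obj K)) ≫ ev ((LBase φ).obj K) ((LBase φ).obj M) =
    (LBase φ).map (ev K M) := by
  apply ((baseAdj φ).homEquiv _ _).injective
  have hL := (baseAdj φ).homEquiv_unit (f := monD φ ((RHomR R K).obj M) K ≫
      tH (bcRHom φ K M) (𝟙 ((LBase φ).obj K)) ≫ ev ((LBase φ).obj K) ((LBase φ).obj M))
  have hR := (baseAdj φ).homEquiv_unit (f := (LBase φ).map (ev K M))
  refine hL.trans (Eq.trans ?_ hR.symm)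
  have hF : (baseAdj φ).unit.app (tO ((RHomR R K).obj M) K) ≫
      (rD φ).map (monD φ ((RHomR R K).obj M) K) =
      tH ((baseAdj φ).unit.app ((RHomR R K).obj M)) ((baseAdj φ).unit.app K) ≫
        pf φ ((LBase φ).obj ((RHomR R K).obj M)) ((LBase φ).obj K) :=
    unit_res_monD φ ((RHomR R K).obj M) K
  have hN := pf_nat φ (bcRHom φ K M) (𝟙 ((LBase φ).obj K))
  rw [CategoryTheory.Functor.map_id] at hN
  have hfac := bcRHom_fac φ K M
  have hcore : rhomBCCore φ K ((LBase φ).obj M) =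
      tH (𝟙 _) ((baseAdj φ).unit.app K) ≫
        pf φ ((RHomR R' ((LBase φ).obj K)).obj ((LBase φ).obj M)) ((LBase φ).obj K) ≫
        (rD φ).map (ev ((LBase φ).obj K) ((LBase φ).obj M)) := rfl
  have hrf : tH (rhomBC φ K ((LBase φ).obj M)) (𝟙 K) ≫ ev K ((rD φ).obj ((LBase φ).obj M)) =
      rhomBCCore φ K ((LBase φ).obj M) := rhomBC_fac φ K ((LBase φ).obj M)
  have hev := ev_nat K ((baseAdj φ).unit.app M)
  have hun := (baseAdj φ).unit.naturality (ev K M)
  dsimp only [Functor.id_map, Functor.comp_map] at hun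
  have e1 : (baseAdj φ).unit.app (tO ((RHomR R K).obj M) K) ≫
      (rD φ).map (monD φ ((RHomR R K).obj M) K ≫
        tH (bcRHom φ K M) (𝟙 ((LBase φ).obj K)) ≫ ev ((LBase φ).obj K) ((LBase φ).obj M)) =
      tH ((RHomR R K).map ((baseAdj φ).unit.app M) ≫ inv (rhomBC φ K ((LBase φ).obj M))) (𝟙 K) ≫
        rhomBCCore φ K ((LBase φ).obj M) := by
    rw [Functor.map_comp, Functor.map_comp, reassoc_of% hF, ← reassoc_of% hN, tH_comp_assoc,
      Category.comp_id, hfac, hcore, tH_comp_assoc, Category.comp_id, Category.id_comp]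
  rw [e1, ← hrf, tH_comp_assoc, Category.comp_id, Category.assoc, IsIso.inv_hom_id,
    Category.comp_id]
  exact hev.trans hun

/-- the main identity: `res (bcRHom)` is the tensor-evaluation map, up to the projection formula -/
theorem ρD_bcRHom (K M : Dual.D R) [IsIso (rhomBC φ K ((LBase φ).obj M))] :
    ρD φ ((RHomR R K).obj M) ≫ (rD φ).map (bcRHom φ K M) ≫ rhomBC φ K ((LBase φ).obj M) =
      evalTen (NN φ) M K ≫ (RHomR R K).map (ρD φ M) := by
  apply ((rhomAdj R K).homEquiv _ _).symm.injective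
  have hL := (rhomAdj R K).homEquiv_counit (g := ρD φ ((RHomR R K).obj M) ≫
    (rD φ).map (bcRHom φ K M) ≫ rhomBC φ K ((LBase φ).obj M))
  have hR := (rhomAdj R K).homEquiv_counit (g := evalTen (NN φ) M K ≫
    (RHomR R K).map (ρD φ M))
  refine hL.trans (Eq.trans ?_ hR.symm)
  change tH (ρD φ ((RHomR R K).obj M) ≫ (rD φ).map (bcRHom φ K M) ≫
      rhomBC φ K ((LBase φ).obj M)) (𝟙 K) ≫ ev K ((rD φ).obj ((LBase φ).obj M)) =
    tH (evalTen (NN φ) M K ≫ (RHomR R K).map (ρD φ M)) (𝟙 K) ≫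
      ev K ((rD φ).obj ((LBase φ).obj M))
  have hrf : tH (rhomBC φ K ((LBase φ).obj M)) (𝟙 K) ≫ ev K ((rD φ).obj ((LBase φ).obj M)) =
      rhomBCCore φ K ((LBase φ).obj M) := rhomBC_fac φ K ((LBase φ).obj M)
  have hcore : rhomBCCore φ K ((LBase φ).obj M) =
      tH (𝟙 _) ((baseAdj φ).unit.app K) ≫
        pf φ ((RHomR R' ((LBase φ).obj K)).obj ((LBase φ).obj M)) ((LBase φ).obj K) ≫
        (rD φ).map (ev ((LBase φ).obj K) ((LBase φ).obj M)) := rfl
  have hN := pf_nat φ (bcRHom φ K M) (𝟙 ((LBase φ).obj K))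
  rw [CategoryTheory.Functor.map_id] at hN
  have hT := ρD_tensor φ ((RHomR R K).obj M) K
  have hC1 := monD_bcRHom_ev φ K M
  have hρ := ρD_nat φ (ev K M)
  have hev := ev_nat K (ρD φ M)
  have hfac : tH (evalTen (NN φ) M K) (𝟙 K) ≫ ev K (tO (NN φ) M) =
      aD (NN φ) ((RHomR R K).obj M) K ≫ tH (𝟙 (NN φ)) (ev K M) := evalTen_fac (NN φ) M K
  have eL : tH (ρD φ ((RHomR R K).obj M) ≫ (rD φ).map (bcRHom φ K M) ≫
      rhomBC φ K ((LBase φ).obj M)) (𝟙 K) ≫ ev K ((rD φ).obj ((LBase φ).obj M)) =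
      aD (NN φ) ((RHomR R K).obj M) K ≫ tH (𝟙 (NN φ)) (ev K M) ≫ ρD φ M := by
    have s1 : tH (ρD φ ((RHomR R K).obj M) ≫ (rD φ).map (bcRHom φ K M) ≫
        rhomBC φ K ((LBase φ).obj M)) (𝟙 K) =
        tH (ρD φ ((RHomR R K).obj M)) (𝟙 K) ≫ tH ((rD φ).map (bcRHom φ K M)) (𝟙 K) ≫
          tH (rhomBC φ K ((LBase φ).obj M)) (𝟙 K) := by
      rw [tH_comp, tH_comp, Category.comp_id, Category.comp_id]
    have s2 : tH (ρD φ ((RHomR R K).obj M)) (𝟙 K) ≫ tH ((rD φ).map (bcRHom φ K M)) (𝟙 K) ≫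
        tH (𝟙 _) ((baseAdj φ).unit.app K) =
        tH (ρD φ ((RHomR R K).obj M)) ((baseAdj φ).unit.app K) ≫
          tH ((rD φ).map (bcRHom φ K M)) (𝟙 ((rD φ).obj ((LBase φ).obj K))) := by
      rw [tH_comp, tH_comp, tH_comp, Category.comp_id, Category.id_comp, Category.id_comp]
      erw [Category.comp_id]
    rw [s1]
    simp only [Category.assoc]
    rw [hrf, hcore, reassoc_of% s2, reassoc_of% hN, reassoc_of% hT, ← Functor.map_comp,
      ← Functor.map_comp, hC1, ← hρ]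
  have eR : tH (evalTen (NN φ) M K ≫ (RHomR R K).map (ρD φ M)) (𝟙 K) ≫
      ev K ((rD φ).obj ((LBase φ).obj M)) =
      aD (NN φ) ((RHomR R K).obj M) K ≫ tH (𝟙 (NN φ)) (ev K M) ≫ ρD φ M := by
    have s1 : tH (evalTen (NN φ) M K ≫ (RHomR R K).map (ρD φ M)) (𝟙 K) =
        tH (evalTen (NN φ) M K) (𝟙 K) ≫ tH ((RHomR R K).map (ρD φ M)) (𝟙 K) := by
      rw [tH_comp, Category.comp_id]
    rw [s1, Category.assoc, hev, reassoc_of% hfac]
  exact eL.trans eR.symm

theorem isIso_bcRHom_of_isIso_evalTen (K M : Dual.D R)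
    [IsIso (rhomBC φ K ((LBase φ).obj M))] (h : IsIso (evalTen (NN φ) M K)) :
    IsIso (bcRHom φ K M) := by
  apply isIso_of_isIso_rD_map φ
  have e := ρD_bcRHom φ K M
  haveI := isIso_ρD φ ((RHomR R K).obj M)
  haveI := isIso_ρD φ M
  have hR : IsIso (evalTen (NN φ) M K ≫ (RHomR R K).map (ρD φ M)) := inferInstance
  rw [← e] at hR
  have h2 : IsIso ((rD φ).map (bcRHom φ K M) ≫ rhomBC φ K ((LBase φ).obj M)) :=
    IsIso.of_isIso_comp_left (ρD φ ((RHomR R K).obj M)) _
  exact IsIso.of_isIso_comp_right _ (rhomBC φ K ((LBase φ).obj M))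

end main

/-- `res (R'[0]) ≅ (R'|_R)[0]` in `D(R)` -/
noncomputable def NNIso : (rD φ).obj (DTen.unit R') ≅ Q.obj (sgl (resA φ)) :=
  asIso (rF φ (𝟙_ (Cx R'))) ≪≫ Q.mapIso (wIso φ)

section algebra

variable (R R') [Algebra R R']

/-- `R'` restricted along the structure map is `R'` as an `R`-module -/
noncomputable def resAEquivOf : resA (algebraMap R R') ≃ₗ[R] R' where
  toFun x := x
  invFun x := x
  left_inv _ := rfl
  right_inv _ := rfl
  map_add' _ _ := rfl
  map_smul' r x := by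
    change algebraMap R R' r * (show R' from x) = r • (show R' from x)
    exact (Algebra.smul_def r _).symm

/-- `res (R'[0])` is `R'` in degree `0` -/
noncomputable def NNIsoInD : (rD (algebraMap R R')).obj (DTen.unit R') ≅ Dual.inD R R' :=
  NNIso (algebraMap R R') ≪≫
    Q.mapIso ((HomologicalComplex.single (ModuleCat.{u} R) (ComplexShape.up ℤ) 0).mapIso
      (resAEquivOf R R').toModuleIso) ≪≫
    ((DerivedCategory.singleFunctorIsoCompQ (ModuleCat.{u} R) 0).app (ModuleCat.of R R')).symm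

end algebra

end Groth.Agent.Lib.H6xPF
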