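import Mathlib
import Groth.Agent.Lib.Helper1DT3
import Groth.Prelude.Def_DTen3
set_option backward.isDefEq.respectTransparency.types false

/-!
# helper6: the derived tensor products exist unconditionally (`HasLTen`, `HasLTen₃`)

A functor `F : C ⥤ H` has a pointwise right Kan extension along `L : C ⥤ D` at `L.obj X` as soon as
`L.map` is surjective on maps out of `X` and `F` does not distinguish maps out of `X` with the same
image under `L` (`X` is then "weakly initial with `F`-coherence" in the structured arrow category).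
Applied to pairs/triples of K-projective complexes.
-/

set_option autoImplicit false
set_option linter.style.haveILetI false
universe u v₁ v₂ v₃ u₁ u₂ u₃
open CategoryTheory CategoryTheory.Limits MonoidalCategory
attribute [local instance] HasDerivedCategory.standard

namespace Groth.Agent.Lib.H6xUnc

section general

variable {C : Type u₁} {D : Type u₂} {H : Type u₃} [Category.{v₁} C] [Category.{v₂} D]
  [Category.{v₃} H] (L : C ⥤ D) (F : C ⥤ H) (X : C)
  (hsurj : ∀ (Y : C) (g : L.obj X ⟶ L.obj Y), ∃ f : X ⟶ Y, L.map f = g)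
  (hF : ∀ (Y : C) (f f' : X ⟶ Y), L.map f = L.map f' → F.map f = F.map f')

/-- a chosen lift of the structure map -/
noncomputable def liftHom (A : StructuredArrow (L.obj X) L) : X ⟶ A.right :=
  (hsurj A.right A.hom).choose

lemma map_liftHom (A : StructuredArrow (L.obj X) L) : L.map (liftHom L X hsurj A) = A.hom :=
  (hsurj A.right A.hom).choose_spec

/-- the limit cone -/
noncomputable def wiCone : Cone (StructuredArrow.proj (L.obj X) L ⋙ F) where
  pt := F.obj X
  π :=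
    { app := fun A => F.map (liftHom L X hsurj A)
      naturality := fun A B φ => by
        have h1 : L.map (liftHom L X hsurj A ≫ φ.right) = L.map (liftHom L X hsurj B) := by
          rw [Functor.map_comp, map_liftHom, map_liftHom]
          exact StructuredArrow.w φ
        have h2 := hF _ _ _ h1
        rw [Functor.map_comp] at h2
        exact (Category.id_comp _).trans h2.symm }

include hF in
lemma wiCone_π_mk : (wiCone L F X hsurj hF).π.app (StructuredArrow.mk (𝟙 (L.obj X))) = 𝟙 _ := by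
  have h1 : L.map (liftHom L X hsurj (StructuredArrow.mk (𝟙 (L.obj X)))) = L.map (𝟙 X) := by
    rw [map_liftHom, L.map_id]
    rfl
  have h2 := hF _ _ _ h1
  rw [F.map_id] at h2
  exact h2

/-- the cone is a limit -/
noncomputable def wiConeIsLimit : IsLimit (wiCone L F X hsurj hF) where
  lift s := s.π.app (StructuredArrow.mk (𝟙 (L.obj X)))
  fac s A := by
    have h := s.π.naturality (X := StructuredArrow.mk (𝟙 (L.obj X))) (Y := A)
      (StructuredArrow.homMk (liftHom L X hsurj A) (by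
        dsimp
        rw [Category.id_comp]
        exact map_liftHom L X hsurj A))
    dsimp at h
    rw [Category.id_comp] at h
    exact h.symm
  uniq s m hm := by
    have h := hm (StructuredArrow.mk (𝟙 (L.obj X)))
    rw [wiCone_π_mk L F X hsurj hF] at h
    exact (Category.comp_id m).symm.trans h

include hsurj hF in
theorem hasPointwiseRightKanExtensionAt_of_weaklyInitial :
    L.HasPointwiseRightKanExtensionAt F (L.obj X) :=
  ⟨⟨_, wiConeIsLimit L F X hsurj hF⟩⟩

end general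

section tensor

open DTen DerivedCategory Groth.Agent.Lib.Helper1.KF Groth.Agent.Lib.Helper1.DT

variable (A : Type u) [CommRing A]

lemma tensorT_map {K K' L L' : Cx A} (f : K ⟶ K') (g : L ⟶ L') :
    (tensorT A).map (Prod.mkHom f g : (K, L) ⟶ (K', L')) = f ⊗ₘ g := by
  dsimp
  rw [← MonoidalCategory.tensorHom_def]

lemma tensor₂_map_eq_of_Q_map_eq {P P' Y Y' : Cx A} [P.IsKProjective] [P'.IsKProjective]
    (f g : P ⟶ Y) (f' g' : P' ⟶ Y') (h : Q.map f = Q.map g) (h' : Q.map f' = Q.map g') :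
    Q.map (f ⊗ₘ f') = Q.map (g ⊗ₘ g') := by
  obtain ⟨H⟩ := homotopy_of_Q_map_eq P Y f g h
  obtain ⟨H'⟩ := homotopy_of_Q_map_eq P' Y' f' g' h'
  obtain ⟨H''⟩ := homotopy_tensorHom H H'
  exact Q_map_eq_of_homotopy H''

/-- the derived tensor product exists -/
theorem hasLTen : HasLTen A := by
  haveI : (tensor₂ A).HasPointwiseLeftDerivedFunctor (qis₂ A) := by
    rintro ⟨K₁, K₂⟩
    obtain ⟨P₁, π₁, hP₁, -, hπ₁, -⟩ := exists_kprojective_resolution K₁
    obtain ⟨P₂, π₂, hP₂, -, hπ₂, -⟩ := exists_kprojective_resolution K₂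
    have hw : qis₂ A (Prod.mkHom π₁ π₂ : (P₁, P₂) ⟶ (K₁, K₂)) := ⟨hπ₁, hπ₂⟩
    rw [← Functor.hasPointwiseLeftDerivedFunctorAt_iff_of_mem _ _ _ hw,
      Functor.hasPointwiseLeftDerivedFunctorAt_iff (tensor₂ A) (QQ A) (qis₂ A)]
    apply hasPointwiseRightKanExtensionAt_of_weaklyInitial
    · rintro ⟨Y₁, Y₂⟩ ⟨g₁, g₂⟩
      obtain ⟨f₁, rfl⟩ := Q_map_surjective P₁ Y₁ g₁
      obtain ⟨f₂, rfl⟩ := Q_map_surjective P₂ Y₂ g₂
      exact ⟨(f₁, f₂), rfl⟩
    · rintro ⟨Y₁, Y₂⟩ ⟨f₁, f₂⟩ ⟨g₁, g₂⟩ h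
      have h1 : Q.map f₁ = Q.map g₁ := congrArg Prod.fst h
      have h2 : Q.map f₂ = Q.map g₂ := congrArg Prod.snd h
      change Q.map ((tensorT A).map (Prod.mkHom f₁ f₂)) = Q.map ((tensorT A).map (Prod.mkHom g₁ g₂))
      rw [tensorT_map, tensorT_map]
      exact tensor₂_map_eq_of_Q_map_eq A f₁ g₁ f₂ g₂ h1 h2
  exact Functor.hasLeftDerivedFunctor_of_hasPointwiseLeftDerivedFunctor _ _

/-- the jointly derived triple tensor product exists -/
theorem hasLTen₃ : HasLTen₃ A := by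
  haveI : (tensor₃ A).HasPointwiseLeftDerivedFunctor (qis₃ A) := by
    rintro ⟨K₁, K₂, K₃⟩
    obtain ⟨P₁, π₁, hP₁, -, hπ₁, -⟩ := exists_kprojective_resolution K₁
    obtain ⟨P₂, π₂, hP₂, -, hπ₂, -⟩ := exists_kprojective_resolution K₂
    obtain ⟨P₃, π₃, hP₃, -, hπ₃, -⟩ := exists_kprojective_resolution K₃
    have hw : qis₃ A (Prod.mkHom π₁ (Prod.mkHom π₂ π₃) : (P₁, (P₂, P₃)) ⟶ (K₁, (K₂, K₃))) :=
      ⟨hπ₁, hπ₂, hπ₃⟩
    rw [← Functor.hasPointwiseLeftDerivedFunctorAt_iff_of_mem _ _ _ hw,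
      Functor.hasPointwiseLeftDerivedFunctorAt_iff (tensor₃ A) (QQQ A) (qis₃ A)]
    apply hasPointwiseRightKanExtensionAt_of_weaklyInitial
    · rintro ⟨Y₁, Y₂, Y₃⟩ ⟨g₁, g₂, g₃⟩
      obtain ⟨f₁, rfl⟩ := Q_map_surjective P₁ Y₁ g₁
      obtain ⟨f₂, rfl⟩ := Q_map_surjective P₂ Y₂ g₂
      obtain ⟨f₃, rfl⟩ := Q_map_surjective P₃ Y₃ g₃
      exact ⟨(f₁, (f₂, f₃)), rfl⟩
    · rintro ⟨Y₁, Y₂, Y₃⟩ ⟨f₁, f₂, f₃⟩ ⟨g₁, g₂, g₃⟩ h
      have h1 : Q.map f₁ = Q.map g₁ := congrArg Prod.fst h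
      have h2 : Q.map f₂ = Q.map g₂ := congrArg (fun t => t.2.1) h
      have h3 : Q.map f₃ = Q.map g₃ := congrArg (fun t => t.2.2) h
      obtain ⟨H1⟩ := homotopy_of_Q_map_eq P₁ Y₁ f₁ g₁ h1
      obtain ⟨H2⟩ := homotopy_of_Q_map_eq P₂ Y₂ f₂ g₂ h2
      obtain ⟨H3⟩ := homotopy_of_Q_map_eq P₃ Y₃ f₃ g₃ h3
      obtain ⟨H23⟩ := homotopy_tensorHom H2 H3
      obtain ⟨H123⟩ := homotopy_tensorHom H1 H23
      change Q.map ((tensorT A).map (Prod.mkHom f₁ ((tensorT A).map (Prod.mkHom f₂ f₃)))) =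
        Q.map ((tensorT A).map (Prod.mkHom g₁ ((tensorT A).map (Prod.mkHom g₂ g₃))))
      rw [tensorT_map, tensorT_map, tensorT_map, tensorT_map]
      exact Q_map_eq_of_homotopy H123
  exact Functor.hasLeftDerivedFunctor_of_hasPointwiseLeftDerivedFunctor _ _

end tensor

end Groth.Agent.Lib.H6xUnc
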