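import Mathlib
import Groth.Agent.Lib.H6xUncA
import Groth.Agent.Lib.H6xDTenMonB
import Groth.Agent.S13576
set_option backward.isDefEq.respectTransparency.types false

/-!
# helper6: `IsSymMonoidal A` holds unconditionally
-/

set_option autoImplicit false
set_option linter.style.haveILetI false
universe u
open CategoryTheory CategoryTheory.Limits MonoidalCategory
attribute [local instance] HasDerivedCategory.standard

namespace Groth.Agent.Lib.H6xUnc

open DTen DerivedCategory Groth.Agent.Lib.Helper1.KF Groth.Agent.Lib.Helper1.DT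
  Groth.Agent.Lib.H6xDTen

variable (A : Type u) [CommRing A]

theorem isSymMonoidal [HasLTen A] [HasLTen₃ A] : IsSymMonoidal A where
  isIso_symm := by
    haveI : ∀ X, IsIso ((symm A).app X) := fun ⟨K, L⟩ => Groth.Agent.S13576.result A K L
    exact NatIso.isIso_of_isIso_app _
  isIso_unitL := by
    haveI : ∀ a, IsIso ((unitL A).app a) := fun a => by
      obtain ⟨P, hP, ⟨e⟩⟩ := exists_kflat_iso a
      rw [← NatTrans.isIso_app_iff_of_iso _ e, unitL_app]
      haveI := isIso_ε_of_kflat (𝟙_ (Cx A)) P (Or.inr hP)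
      infer_instance
    exact NatIso.isIso_of_isIso_app _
  isIso_unitR := by
    haveI : ∀ a, IsIso ((unitR A).app a) := fun a => by
      obtain ⟨P, hP, ⟨e⟩⟩ := exists_kflat_iso a
      rw [← NatTrans.isIso_app_iff_of_iso _ e, unitR_app]
      haveI := isIso_ε_of_kflat P (𝟙_ (Cx A)) (Or.inl hP)
      infer_instance
    exact NatIso.isIso_of_isIso_app _
  isIso_assocL := by
    haveI : ∀ X, IsIso ((assocL A).app X) := fun ⟨a, b, c⟩ => isIso_assocL_app a b c
    exact NatIso.isIso_of_isIso_app _
  isIso_assocR := by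
    haveI : ∀ X, IsIso ((assocR A).app X) := fun ⟨a, b, c⟩ => isIso_assocR_app a b c
    exact NatIso.isIso_of_isIso_app _

end Groth.Agent.Lib.H6xUnc
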