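import Mathlib
import Groth.Agent.Lib.H6xBCA
set_option backward.isDefEq.respectTransparency.types false

/-!
# helper6: abstract base change for right adjoints of restriction, and its relation with an
"evaluation" map (pure category theory)
-/

set_option autoImplicit false
set_option linter.style.haveILetI false
open CategoryTheory

namespace Groth.Agent.Lib.H6xTB

open Groth.Agent.Lib.H6xBC

section AL

variable {𝒜' 𝒜 ℛ' ℛ : Type*} [Category 𝒜'] [Category 𝒜] [Category ℛ'] [Category ℛ]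
  {rα : 𝒜' ⥤ 𝒜} {rφ : 𝒜 ⥤ ℛ} {rφ' : 𝒜' ⥤ ℛ'} {rρ : ℛ' ⥤ ℛ}
  (c : rα ⋙ rφ ≅ rφ' ⋙ rρ)
  {Lα : 𝒜 ⥤ 𝒜'} {Lρ : ℛ ⥤ ℛ'} {Rφ : ℛ ⥤ 𝒜} {Rφ' : ℛ' ⥤ 𝒜'}
  (adjα : Lα ⊣ rα) (adjρ : Lρ ⊣ rρ) (adj : rφ ⊣ Rφ) (adj' : rφ' ⊣ Rφ')

/-- the abstract base change map for the right adjoints -/
noncomputable def bcA (K : ℛ) [IsIso (mate adjα adjρ c.hom (Rφ.obj K))] :
    Lα.obj (Rφ.obj K) ⟶ Rφ'.obj (Lρ.obj K) :=
  adj'.homEquiv _ _ (inv (mate adjα adjρ c.hom (Rφ.obj K)) ≫ Lρ.map (adj.counit.app K))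

/-- the mate of `c` with respect to the right adjoints -/
def θA (Y : ℛ') : rα.obj (Rφ'.obj Y) ⟶ Rφ.obj (rρ.obj Y) :=
  adj.homEquiv _ _ (c.hom.app (Rφ'.obj Y) ≫ rρ.map (adj'.counit.app Y))

/-- the inverse projection-formula-like map -/
def pfi (X : 𝒜) : rρ.obj (Lρ.obj (rφ.obj X)) ⟶ rφ.obj (rα.obj (Lα.obj X)) :=
  rρ.map (mate adjα adjρ c.hom X) ≫ c.inv.app (Lα.obj X)

instance isIso_pfi (X : 𝒜) [IsIso (mate adjα adjρ c.hom X)] : IsIso (pfi c adjα adjρ X) := by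
  unfold pfi
  infer_instance

/-- the mate as a natural transformation -/
def mateNat : rφ ⋙ Lρ ⟶ Lα ⋙ rφ' where
  app X := mate adjα adjρ c.hom X
  naturality _ _ f := mate_nat adjα adjρ c.hom f

lemma θA_eq_conjugate (Y : ℛ') :
    θA c adj adj' Y =
      (conjugateEquiv (adjα.comp adj') (adj.comp adjρ) (mateNat c adjα adjρ)).app Y := by
  rw [conjugateEquiv_apply_app, Adjunction.comp_unit_app, Adjunction.comp_counit_app]
  dsimp only [mateNat, Functor.comp_obj, Functor.comp_map]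
  rw [θA, Adjunction.homEquiv_unit]
  simp only [Category.assoc, ← Functor.map_comp]
  congr 2
  have h1 := Adjunction.homEquiv_unit adjρ (f := mate adjα adjρ c.hom (rα.obj (Rφ'.obj Y)))
  have h2 : (adjρ.homEquiv _ _) (mate adjα adjρ c.hom (rα.obj (Rφ'.obj Y))) =
      rφ.map (adjα.unit.app (rα.obj (Rφ'.obj Y))) ≫ c.hom.app (Lα.obj (rα.obj (Rφ'.obj Y))) :=
    Equiv.apply_symm_apply _ _
  have h3 := c.hom.naturality (adjα.counit.app (Rφ'.obj Y))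
  dsimp only [Functor.comp_obj, Functor.comp_map] at h3
  have h4 := adjα.right_triangle_components (Rφ'.obj Y)
  simp only [Functor.map_comp]
  rw [← Category.assoc, ← h1, h2, Category.assoc, ← reassoc_of% h3, ← Functor.map_comp_assoc, h4]
  erw [CategoryTheory.Functor.map_id, Category.id_comp]

lemma isIso_θA (hm : ∀ X, IsIso (mate adjα adjρ c.hom X)) (Y : ℛ') : IsIso (θA c adj adj' Y) := by
  haveI : IsIso (mateNat c adjα adjρ) := by
    haveI : ∀ X, IsIso ((mateNat c adjα adjρ).app X) := hm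
    exact NatIso.isIso_of_isIso_app _
  rw [θA_eq_conjugate c adjα adjρ adj adj' Y]
  infer_instance

/-- the transpose of `rα (bcA) ≫ θ`, precomposed with `pfi` -/
lemma pfi_bcA_θA (K : ℛ) [IsIso (mate adjα adjρ c.hom (Rφ.obj K))] :
    pfi c adjα adjρ (Rφ.obj K) ≫
      rφ.map (rα.map (bcA c adjα adjρ adj adj' K) ≫ θA c adj adj' (Lρ.obj K)) ≫
        adj.counit.app (rρ.obj (Lρ.obj K)) = rρ.map (Lρ.map (adj.counit.app K)) := by
  have h1 : rφ.map (θA c adj adj' (Lρ.obj K)) ≫ adj.counit.app (rρ.obj (Lρ.obj K)) =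
      c.hom.app (Rφ'.obj (Lρ.obj K)) ≫ rρ.map (adj'.counit.app (Lρ.obj K)) := by
    have := Adjunction.homEquiv_counit adj (g := θA c adj adj' (Lρ.obj K))
    rw [← this, θA]
    exact Equiv.symm_apply_apply _ _
  have h2 := c.hom.naturality (bcA c adjα adjρ adj adj' K)
  dsimp only [Functor.comp_obj, Functor.comp_map] at h2
  have h3 : rφ'.map (bcA c adjα adjρ adj adj' K) ≫ adj'.counit.app (Lρ.obj K) =
      inv (mate adjα adjρ c.hom (Rφ.obj K)) ≫ Lρ.map (adj.counit.app K) := by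
    have := Adjunction.homEquiv_counit adj' (g := bcA c adjα adjρ adj adj' K)
    rw [← this, bcA]
    exact Equiv.symm_apply_apply _ _
  rw [Functor.map_comp, Category.assoc, h1, reassoc_of% h2, ← Functor.map_comp, h3, pfi,
    Category.assoc, Iso.inv_hom_id_app_assoc, ← Functor.map_comp, IsIso.hom_inv_id_assoc]

variable {T F G' : ℛ ⥤ ℛ} (adjF : F ⊣ G') (τ : T ≅ Lρ ⋙ rρ)
  (σ : ∀ V : ℛ, F.obj (T.obj V) ⟶ T.obj (F.obj V))
  (σ_nat : ∀ {V V' : ℛ} (f : V ⟶ V'), F.map (T.map f) ≫ σ V' = σ V ≫ T.map (F.map f))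
  (actR : ∀ W : 𝒜, F.obj (rφ.obj W) ⟶ rφ.obj W)
  (actR_nat : ∀ {W W' : 𝒜} (f : W ⟶ W'), F.map (rφ.map f) ≫ actR W' = actR W ≫ rφ.map f)
  (γ : ∀ Y : ℛ, rφ.obj (Rφ.obj Y) ≅ G'.obj Y)
  (hγ : ∀ Y, F.map (γ Y).hom ≫ adjF.counit.app Y = actR (Rφ.obj Y) ≫ adj.counit.app Y)
  (E : ∀ K : ℛ, T.obj (G'.obj K) ⟶ G'.obj (T.obj K))
  (hE : ∀ K, F.map (E K) ≫ adjF.counit.app (T.obj K) = σ (G'.obj K) ≫ T.map (adjF.counit.app K))
  (hC : ∀ X : 𝒜, F.map (τ.hom.app (rφ.obj X) ≫ pfi c adjα adjρ X) ≫ actR (rα.obj (Lα.obj X)) =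
      σ (rφ.obj X) ≫ T.map (actR X) ≫ τ.hom.app (rφ.obj X) ≫ pfi c adjα adjρ X)

include σ_nat actR_nat hγ hE hC in
theorem main_identity (K : ℛ) [IsIso (mate adjα adjρ c.hom (Rφ.obj K))] :
    T.map (γ K).inv ≫ (τ.hom.app (rφ.obj (Rφ.obj K)) ≫ pfi c adjα adjρ (Rφ.obj K)) ≫
      rφ.map (rα.map (bcA c adjα adjρ adj adj' K) ≫ θA c adj adj' (Lρ.obj K)) ≫
        (γ (rρ.obj (Lρ.obj K))).hom ≫ G'.map (τ.inv.app K) = E K := by
  apply (adjF.homEquiv _ _).symm.injective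
  rw [Adjunction.homEquiv_counit, Adjunction.homEquiv_counit, hE]
  set u := rα.map (bcA c adjα adjρ adj adj' K) ≫ θA c adj adj' (Lρ.obj K) with hu
  have e1 := adjF.counit.naturality (τ.inv.app K)
  dsimp only [Functor.comp_obj, Functor.comp_map, Functor.id_obj, Functor.id_map] at e1
  have e2 := hγ (rρ.obj (Lρ.obj K))
  have e3 := actR_nat u
  have e4 := hC (Rφ.obj K)
  have e5 := pfi_bcA_θA c adjα adjρ adj adj' K
  rw [← hu] at e5
  have e6 := τ.hom.naturality (adj.counit.app K)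
  dsimp only [Functor.comp_obj, Functor.comp_map] at e6
  have e7 : adjF.counit.app K =
      F.map (γ K).inv ≫ actR (Rφ.obj K) ≫ adj.counit.app K := by
    rw [← hγ K, ← Functor.map_comp_assoc, Iso.inv_hom_id, CategoryTheory.Functor.map_id,
      Category.id_comp]
  have e8 := σ_nat (γ K).inv
  -- left side
  have eL : F.map (T.map (γ K).inv ≫ (τ.hom.app (rφ.obj (Rφ.obj K)) ≫ pfi c adjα adjρ (Rφ.obj K)) ≫
      rφ.map u ≫ (γ (rρ.obj (Lρ.obj K))).hom ≫ G'.map (τ.inv.app K)) ≫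
      adjF.counit.app (T.obj K) =
      F.map (T.map (γ K).inv) ≫ σ (rφ.obj (Rφ.obj K)) ≫ T.map (actR (Rφ.obj K)) ≫
        T.map (adj.counit.app K) := by
    simp only [Functor.map_comp, Category.assoc]
    rw [e1, reassoc_of% e2, reassoc_of% e3]
    have e4' : F.map (τ.hom.app (rφ.obj (Rφ.obj K))) ≫ F.map (pfi c adjα adjρ (Rφ.obj K)) ≫
        actR (rα.obj (Lα.obj (Rφ.obj K))) =
        σ (rφ.obj (Rφ.obj K)) ≫ T.map (actR (Rφ.obj K)) ≫ τ.hom.app (rφ.obj (Rφ.obj K)) ≫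
          pfi c adjα adjρ (Rφ.obj K) := by
      rw [← e4, Functor.map_comp, Category.assoc]
    rw [reassoc_of% e4', reassoc_of% e5, ← reassoc_of% e6, Iso.hom_inv_id_app, Category.comp_id]
  refine eL.trans ?_
  rw [e7, Functor.map_comp, Functor.map_comp, reassoc_of% e8]

include σ_nat actR_nat hγ hE hC in
theorem isIso_bcA_iff (hm : ∀ X, IsIso (mate adjα adjρ c.hom X))
    (hrα : ∀ {X Y : 𝒜'} (f : X ⟶ Y), IsIso (rα.map f) → IsIso f)
    (hrφ : ∀ {X Y : 𝒜} (f : X ⟶ Y), IsIso (rφ.map f) → IsIso f)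
    (K : ℛ) [IsIso (mate adjα adjρ c.hom (Rφ.obj K))] :
    IsIso (bcA c adjα adjρ adj adj' K) ↔ IsIso (E K) := by
  have key := main_identity c adjα adjρ adj adj' adjF τ σ σ_nat actR actR_nat γ hγ E hE hC K
  haveI := isIso_θA c adjα adjρ adj adj' hm (Lρ.obj K)
  haveI : IsIso (T.map (γ K).inv) := inferInstance
  haveI : IsIso (τ.hom.app (rφ.obj (Rφ.obj K)) ≫ pfi c adjα adjρ (Rφ.obj K)) := inferInstance
  haveI : IsIso ((γ (rρ.obj (Lρ.obj K))).hom ≫ G'.map (τ.inv.app K)) := inferInstance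
  constructor
  · intro h
    rw [← key]
    infer_instance
  · intro h
    rw [← key] at h
    have h1 : IsIso ((τ.hom.app (rφ.obj (Rφ.obj K)) ≫ pfi c adjα adjρ (Rφ.obj K)) ≫
      rφ.map (rα.map (bcA c adjα adjρ adj adj' K) ≫ θA c adj adj' (Lρ.obj K)) ≫
        (γ (rρ.obj (Lρ.obj K))).hom ≫ G'.map (τ.inv.app K)) :=
      IsIso.of_isIso_comp_left (T.map (γ K).inv) _
    have h2 : IsIso (rφ.map (rα.map (bcA c adjα adjρ adj adj' K) ≫ θA c adj adj' (Lρ.obj K)) ≫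
        (γ (rρ.obj (Lρ.obj K))).hom ≫ G'.map (τ.inv.app K)) :=
      IsIso.of_isIso_comp_left (τ.hom.app (rφ.obj (Rφ.obj K)) ≫ pfi c adjα adjρ (Rφ.obj K)) _
    have h3 : IsIso (rφ.map (rα.map (bcA c adjα adjρ adj adj' K) ≫
        θA c adj adj' (Lρ.obj K))) :=
      IsIso.of_isIso_comp_right _ ((γ (rρ.obj (Lρ.obj K))).hom ≫ G'.map (τ.inv.app K))
    have h4 := hrφ _ h3
    have h5 : IsIso (rα.map (bcA c adjα adjρ adj adj' K)) :=
      IsIso.of_isIso_comp_right _ (θA c adj adj' (Lρ.obj K))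
    exact hrα _ h5

end AL

end Groth.Agent.Lib.H6xTB
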