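import Mathlib
import Groth.Agent.Lib.H6xUncB
import Groth.Agent.Lib.H6xPFB
import Groth.Agent.Lib.H6xBCB
import Groth.Agent.Lib.H6xHasLDerRing
set_option backward.isDefEq.respectTransparency.types false

/-!
# helper6: the binders `HasResTen`, `ResLegIso`, `HasLBase` hold unconditionally
-/

set_option autoImplicit false
set_option linter.style.haveILetI false
set_option maxHeartbeats 400000
universe u
open CategoryTheory CategoryTheory.Limits MonoidalCategory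
attribute [local instance] HasDerivedCategory.standard

namespace Groth.Agent.Lib.H6xTB

open DTen DerivedCategory Groth.Agent.Lib.Helper1.KF Groth.Agent.Lib.Helper1.DT
  Groth.Agent.Lib.H6xDTen Groth.Agent.Lib.H6xPF

variable {R R' : Type u} [CommRing R] [CommRing R'] (φ : R →+* R')

lemma resTen₂_map_eq {P P' Y Y' : Cx R'} [P.IsKProjective] [P'.IsKProjective]
    (f g : P ⟶ Y) (f' g' : P' ⟶ Y') (h : Q.map f = Q.map g) (h' : Q.map f' = Q.map g') :
    (resTen₂ φ).map (Prod.mkHom f f' : (P, P') ⟶ (Y, Y')) =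
      (resTen₂ φ).map (Prod.mkHom g g' : (P, P') ⟶ (Y, Y')) := by
  obtain ⟨H⟩ := homotopy_of_Q_map_eq P Y f g h
  obtain ⟨H'⟩ := homotopy_of_Q_map_eq P' Y' f' g' h'
  obtain ⟨H''⟩ := homotopy_tensorHom H H'
  have H3 : Homotopy ((resCx φ).map (f ⊗ₘ f')) ((resCx φ).map (g ⊗ₘ g')) :=
    (ModuleCat.restrictScalars.{u} φ).mapHomotopy H''
  change Q.map ((resCx φ).map ((tensorT R').map (Prod.mkHom f f'))) =
    Q.map ((resCx φ).map ((tensorT R').map (Prod.mkHom g g')))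
  rw [Groth.Agent.Lib.H6xUnc.tensorT_map, Groth.Agent.Lib.H6xUnc.tensorT_map]
  exact Q_map_eq_of_homotopy H3

/-- the jointly derived functor of `(Y, Y') ↦ res (Y ⊗ Y')` exists -/
theorem hasResTen : HasResTen φ := by
  haveI : (resTen₂ φ).HasPointwiseLeftDerivedFunctor (qis₂ R') := by
    rintro ⟨K₁, K₂⟩
    obtain ⟨P₁, π₁, hP₁, -, hπ₁, -⟩ := exists_kprojective_resolution K₁
    obtain ⟨P₂, π₂, hP₂, -, hπ₂, -⟩ := exists_kprojective_resolution K₂
    have hw : qis₂ R' (Prod.mkHom π₁ π₂ : (P₁, P₂) ⟶ (K₁, K₂)) := ⟨hπ₁, hπ₂⟩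
    rw [← Functor.hasPointwiseLeftDerivedFunctorAt_iff_of_mem _ _ _ hw,
      Functor.hasPointwiseLeftDerivedFunctorAt_iff (resTen₂ φ) (QQ R') (qis₂ R')]
    apply Groth.Agent.Lib.H6xUnc.hasPointwiseRightKanExtensionAt_of_weaklyInitial
    · rintro ⟨Y₁, Y₂⟩ ⟨g₁, g₂⟩
      obtain ⟨f₁, rfl⟩ := Q_map_surjective P₁ Y₁ g₁
      obtain ⟨f₂, rfl⟩ := Q_map_surjective P₂ Y₂ g₂
      exact ⟨(f₁, f₂), rfl⟩
    · rintro ⟨Y₁, Y₂⟩ ⟨f₁, f₂⟩ ⟨g₁, g₂⟩ h
      have h1 : Q.map f₁ = Q.map g₁ := congrArg Prod.fst h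
      have h2 : Q.map f₂ = Q.map g₂ := congrArg Prod.snd h
      exact resTen₂_map_eq φ f₁ g₁ f₂ g₂ h1 h2
  exact Functor.hasLeftDerivedFunctor_of_hasPointwiseLeftDerivedFunctor _ _

section

variable [HasResTen φ]

theorem isIso_εRes_of_isKProjective (P P' : Cx R') [P.IsKProjective] [P'.IsKProjective] :
    IsIso ((εRes φ).app (P, P')) := by
  have := Functor.IsLeftDerivedFunctor.isRightKanExtension (ResTen φ) (εRes φ) (qis₂ R')
  have hsm : ∀ Z : Dual.D R' × Dual.D R', Small.{u} ((QQ R').obj (P, P') ⟶ Z) := fun Z => by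
    show Small.{u} ((Q.obj P ⟶ Z.1) × (Q.obj P' ⟶ Z.2))
    infer_instance
  refine isIso_counit_app'.{u} (QQ R') (resTen₂ φ) (ResTen φ) (εRes φ) (P, P') ?_ ?_
  · rintro ⟨Y₁, Y₂⟩ ⟨g₁, g₂⟩
    obtain ⟨f₁, rfl⟩ := Q_map_surjective P Y₁ g₁
    obtain ⟨f₂, rfl⟩ := Q_map_surjective P' Y₂ g₂
    exact ⟨(f₁, f₂), rfl⟩
  · rintro ⟨Y₁, Y₂⟩ ⟨f₁, f₂⟩ ⟨g₁, g₂⟩ h
    exact resTen₂_map_eq φ f₁ g₁ f₂ g₂ (congrArg Prod.fst h) (congrArg Prod.snd h)

variable [HasLTen R']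

theorem isIso_resLegB_app (a b : Dual.D R') : IsIso ((resLegB φ).app (a, b)) := by
  obtain ⟨P, hP, -, ⟨e⟩⟩ := exists_kproj_iso a
  obtain ⟨P', hP', -, ⟨e'⟩⟩ := exists_kproj_iso b
  have hQ : IsIso ((resLegB φ).app ((QQ R').obj (P, P'))) := by
    have h := resLegB_fac φ (P, P')
    haveI := isIso_εRes_of_isKProjective φ P P'
    haveI : IsIso ((ε R').app (P, P')) := isIso_ε_of_isKProjective P P'
    have h2 : IsIso ((resβB φ).app (P, P')) := by
      dsimp [resβB]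
      infer_instance
    rw [← h] at h2
    exact IsIso.of_isIso_comp_right _ ((εRes φ).app (P, P'))
  let E : (QQ R').obj (P, P') ≅ (a, b) := Iso.prod e e'
  exact (NatTrans.isIso_app_iff_of_iso (resLegB φ) E).1 hQ

theorem resLegIso : ResLegIso φ where
  isIso := by
    haveI : ∀ X, IsIso ((resLegB φ).app X) := fun ⟨a, b⟩ => isIso_resLegB_app φ a b
    exact NatIso.isIso_of_isIso_app _

end

/-- restriction of scalars on derived categories has a left adjoint -/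
theorem hasLBase : HasLBase φ := by
  haveI := Groth.Agent.Lib.H6xHasLDerRing.hasLBaseChange φ
  obtain ⟨adj, -, -⟩ := Groth.Agent.Lib.H6xBC.exists_adj φ
  exact ⟨adj.isRightAdjoint⟩

end Groth.Agent.Lib.H6xTB
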