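import Mathlib
import Groth.Agent.Lib.H6xPFD
import Groth.Agent.Lib.H6xTBa
set_option backward.isDefEq.respectTransparency.types false

/-!
# helper6: the actions of `res (1)` on restricted objects, the projection formula for an arbitrary
left adjoint of restriction, and the identification of an abstract right adjoint of restriction
(followed by restriction) with `RHom (res 1, -)`
-/

set_option autoImplicit false
set_option linter.style.haveILetI false
set_option maxHeartbeats 400000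
universe u
open CategoryTheory CategoryTheory.Limits MonoidalCategory
attribute [local instance] HasDerivedCategory.standard

namespace Groth.Agent.Lib.H6xTB

open DTen DerivedCategory Groth.Agent.Lib.Helper1.KF Groth.Agent.Lib.Helper1.DT
  Groth.Agent.Lib.H6xDTen Groth.Agent.Lib.H6xPF

variable {R R' : Type u} [CommRing R] [CommRing R'] (φ : R →+* R')
  [HasLTen R] [HasLTen₃ R] [IsSymMonoidal R] [HasLTen R'] [HasLTen₃ R'] [IsSymMonoidal R']
  [HasResTen φ] [ResLegIso φ]

/-- the left action of `N = res 1` on a restricted object -/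
noncomputable def actL (W : Dual.D R') : tO (NN φ) ((rD φ).obj W) ⟶ (rD φ).obj W :=
  pf φ (DTen.unit R') W ≫ (rD φ).map ((unitL R').app W)

@[reassoc]
lemma actL_nat {W W' : Dual.D R'} (f : W ⟶ W') :
    tH (𝟙 (NN φ)) ((rD φ).map f) ≫ actL φ W' = actL φ W ≫ (rD φ).map f := by
  have h2 := pf_nat φ (𝟙 (DTen.unit R')) f
  rw [CategoryTheory.Functor.map_id] at h2
  have h3 := unitL_nat f
  rw [actL, actL, reassoc_of% h2, Category.assoc, ← Functor.map_comp, ← Functor.map_comp, h3]

/-- the symmetry `X ⊗ N ⟶ N ⊗ X` -/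
noncomputable abbrev sw (N X : Dual.D R) : tO X N ⟶ tO N X := (DTen.symm R).app (N, X)

instance (N X : Dual.D R) : IsIso (sw N X) := by
  dsimp only [sw]
  infer_instance

@[reassoc]
lemma sw_nat {N N' X X' : Dual.D R} (a : N ⟶ N') (f : X ⟶ X') :
    tH f a ≫ sw N' X' = sw N X ≫ tH a f :=
  (DTen.symm R).naturality (Prod.mkHom a f : (N, X) ⟶ (N', X'))

/-- the right action of `N = res 1` on a restricted object -/
noncomputable def actR (W : Dual.D R') : tO ((rD φ).obj W) (NN φ) ⟶ (rD φ).obj W :=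
  sw (NN φ) ((rD φ).obj W) ≫ actL φ W

@[reassoc]
lemma actR_nat {W W' : Dual.D R'} (f : W ⟶ W') :
    tH ((rD φ).map f) (𝟙 (NN φ)) ≫ actR φ W' = actR φ W ≫ (rD φ).map f := by
  rw [actR, actR, sw_nat_assoc, actL_nat, Category.assoc]

section adj

variable {L : Dual.D R ⥤ Dual.D R'} (adjL : L ⊣ rD φ)

/-- the projection formula map for the unit, for an arbitrary left adjoint of restriction -/
noncomputable def ρg (X : Dual.D R) : tO (NN φ) X ⟶ (rD φ).obj (L.obj X) :=
  tH (𝟙 (NN φ)) (adjL.unit.app X) ≫ actL φ (L.obj X)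

@[reassoc]
lemma ρg_nat {X X' : Dual.D R} (f : X ⟶ X') :
    tH (𝟙 (NN φ)) f ≫ ρg φ adjL X' = ρg φ adjL X ≫ (rD φ).map (L.map f) := by
  have h1 := adjL.unit.naturality f
  dsimp only [Functor.id_map, Functor.comp_map, Functor.id_obj, Functor.comp_obj] at h1
  rw [ρg, ρg, tH_comp_assoc, Category.id_comp, h1, ← Category.comp_id (𝟙 (NN φ)), ← tH_comp_assoc,
    Category.comp_id, actL_nat, Category.assoc]

lemma ρg_counit (W : Dual.D R') :
    ρg φ adjL ((rD φ).obj W) ≫ (rD φ).map (adjL.counit.app W) = actL φ W := by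
  have h := adjL.right_triangle_components W
  rw [ρg, Category.assoc, ← actL_nat, tH_comp_assoc, Category.id_comp, h, tH_id, Category.id_comp]
  rfl

lemma ρg_change {L' : Dual.D R ⥤ Dual.D R'} (adjL' : L' ⊣ rD φ) (X : Dual.D R) :
    ρg φ adjL' X = ρg φ adjL X ≫ (rD φ).map ((adjL.leftAdjointUniq adjL').hom.app X) := by
  have h := Adjunction.unit_leftAdjointUniq_hom_app adjL adjL' X
  rw [ρg, ρg, Category.assoc, ← actL_nat, tH_comp_assoc, Category.id_comp, h]

lemma ρg_baseAdj [HasLBase φ] (X : Dual.D R) : ρg φ (baseAdj φ) X = ρD φ X := by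
  rw [ρg, ρD, actL]

instance isIso_ρg (X : Dual.D R) : IsIso (ρg φ adjL X) := by
  haveI : HasLBase φ := hasLBase φ
  rw [ρg_change φ (baseAdj φ) adjL X, ρg_baseAdj]
  haveI := isIso_ρD φ X
  infer_instance

/-- `N ⊗ - ≅ res ∘ L` -/
noncomputable def τIso : (LTen R).obj (NN φ) ≅ L ⋙ rD φ :=
  NatIso.ofComponents (fun X => asIso (ρg φ adjL X)) (fun f => ρg_nat φ adjL f)

@[simp] lemma τIso_hom_app (X : Dual.D R) : (τIso φ adjL).hom.app X = ρg φ adjL X := rfl

/-- the projection formula map, right-handed version -/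
noncomputable def lg (X : Dual.D R) : tO X (NN φ) ⟶ (rD φ).obj (L.obj X) :=
  sw (NN φ) X ≫ ρg φ adjL X

instance isIso_lg (X : Dual.D R) : IsIso (lg φ adjL X) := by
  unfold lg
  infer_instance

@[reassoc]
lemma lg_nat {X X' : Dual.D R} (f : X ⟶ X') :
    tH f (𝟙 (NN φ)) ≫ lg φ adjL X' = lg φ adjL X ≫ (rD φ).map (L.map f) := by
  rw [lg, lg, sw_nat_assoc, ρg_nat, Category.assoc]

lemma lg_counit (W : Dual.D R') :
    lg φ adjL ((rD φ).obj W) ≫ (rD φ).map (adjL.counit.app W) = actR φ W := by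
  rw [lg, Category.assoc, ρg_counit, actR]

/-- `- ⊗ N ≅ res ∘ L` -/
noncomputable def ΛIso : tensorRightD R (NN φ) ≅ L ⋙ rD φ :=
  NatIso.ofComponents (fun X => asIso (lg φ adjL X)) (fun f => lg_nat φ adjL f)

@[simp] lemma ΛIso_hom_app (X : Dual.D R) : (ΛIso φ adjL).hom.app X = lg φ adjL X := rfl

variable [HasRHom R] {Rφ : Dual.D R ⥤ Dual.D R'} (adj : rD φ ⊣ Rφ)

/-- the adjunction `- ⊗ N ⊣ res ∘ Rφ` -/
noncomputable def adjG : tensorRightD R (NN φ) ⊣ Rφ ⋙ rD φ :=
  (adjL.comp adj).ofNatIsoLeft (ΛIso φ adjL).symm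

lemma adjG_counit_app (Y : Dual.D R) :
    (adjG φ adjL adj).counit.app Y = actR φ (Rφ.obj Y) ≫ adj.counit.app Y := by
  have h := lg_counit φ adjL (Rφ.obj Y)
  simp only [adjG, Adjunction.ofNatIsoLeft_counit, NatTrans.comp_app, Functor.whiskerLeft_app,
    Iso.symm_inv, ΛIso_hom_app, Adjunction.comp_counit_app, Functor.comp_obj]
  rw [← h, Category.assoc]

/-- `res (Rφ Y) ≅ RHom (N, Y)` -/
noncomputable def γIso (Y : Dual.D R) : (rD φ).obj (Rφ.obj Y) ≅ (RHomR R (NN φ)).obj Y :=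
  ((adjG φ adjL adj).rightAdjointUniq (rhomAdj R (NN φ))).app Y

lemma γIso_ev (Y : Dual.D R) :
    tH (γIso φ adjL adj Y).hom (𝟙 (NN φ)) ≫ ev (NN φ) Y =
      actR φ (Rφ.obj Y) ≫ adj.counit.app Y := by
  have h := Adjunction.rightAdjointUniq_hom_app_counit (adjG φ adjL adj) (rhomAdj R (NN φ)) Y
  rw [adjG_counit_app] at h
  exact h

end adj

end Groth.Agent.Lib.H6xTB
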