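import Mathlib
import Groth.Agent.Lib.H6xTBc
import Groth.Agent.Lib.H6xBCE
set_option backward.isDefEq.respectTransparency.types false

/-!
# helper6: the two actions on a doubly restricted object, on images of complexes
-/

set_option autoImplicit false
set_option linter.style.haveILetI false
set_option maxHeartbeats 400000
universe u
open CategoryTheory CategoryTheory.Limits MonoidalCategory
attribute [local instance] HasDerivedCategory.standard

namespace Groth.Agent.Lib.H6xTB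

open DTen DerivedCategory Groth.Agent.Lib.Helper1.KF Groth.Agent.Lib.Helper1.DT
  Groth.Agent.Lib.H6xDTen Groth.Agent.Lib.H6xPF Groth.Agent.Lib.H6xBC

section single

variable {R R' : Type u} [CommRing R] [CommRing R'] (φ : R →+* R')

/-- chain-level left action of `res 1` on `res Y` -/
noncomputable def νL (Y : Cx R') :
    (resCx φ).obj (𝟙_ (Cx R')) ⊗ (resCx φ).obj Y ⟶ (resCx φ).obj Y :=
  resTenCx φ (𝟙_ (Cx R')) Y ≫ (resCx φ).map (λ_ Y).hom

variable [HasLTen R] [HasLTen₃ R] [IsSymMonoidal R] [HasLTen R'] [HasLTen₃ R'] [IsSymMonoidal R']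
  [HasResTen φ] [ResLegIso φ]

lemma actL_Q (Y : Cx R') :
    actL φ (Q.obj Y) ≫ rF φ Y =
      tH (rF φ (𝟙_ (Cx R'))) (rF φ Y) ≫
        εX ((resCx φ).obj (𝟙_ (Cx R'))) ((resCx φ).obj Y) ≫ Q.map (νL φ Y) := by
  have h3 : (unitL R').app (Q.obj Y) = εX (𝟙_ (Cx R')) Y ≫ Q.map (λ_ Y).hom := unitL_app R' Y
  have h4 := rF_nat φ (λ_ Y).hom
  have h5 := pf_fac φ (𝟙_ (Cx R')) Y
  rw [actL, h3, Functor.map_comp, Category.assoc, Category.assoc, h4, reassoc_of% h5, νL,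
    Functor.map_comp]

end single

section square

variable {R A R' A' : Type u} [CommRing R] [CommRing A] [CommRing R'] [CommRing A']
  {φ : R →+* A} {ρ : R →+* R'} {α : A →+* A'} {φ' : R' →+* A'}
  (h : α.comp φ = φ'.comp ρ)

/-- `res_φ (res_α (Q Y)) ≅ Q (res res Y)` -/
noncomputable def zF (Y : Cx A') :
    (rD φ).obj ((rD α).obj (Q.obj Y)) ⟶ Q.obj ((resCx φ).obj ((resCx α).obj Y)) :=
  (rD φ).map (rF α Y) ≫ rF φ ((resCx α).obj Y)

instance (Y : Cx A') : IsIso (zF (φ := φ) (α := α) Y) := by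
  unfold zF
  infer_instance

include h in
lemma resComm_zF (Y : Cx A') :
    (TrivBC.resComm h).hom.app (Q.obj Y) ≫ zF (φ := ρ) (α := φ') Y =
      zF (φ := φ) (α := α) Y ≫ Q.map ((rcIso h).hom.app Y) := by
  have e := resComm_RC h Y
  have e1 : inv (zF (φ := φ) (α := α) Y) =
      (resFactors φ).inv.app ((resCx α).obj Y) ≫ (DRing.restrictD φ).map ((resFactors α).inv.app Y) := by
    apply IsIso.inv_eq_of_hom_inv_id
    rw [zF, Category.assoc]
    erw [Iso.hom_inv_id_app_assoc]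
    rw [← Functor.map_comp]
    erw [Iso.hom_inv_id_app]
    exact CategoryTheory.Functor.map_id _ _
  have e2 : inv (zF (φ := ρ) (α := φ') Y) =
      (resFactors ρ).inv.app ((resCx φ').obj Y) ≫
        (DRing.restrictD ρ).map ((resFactors φ').inv.app Y) := by
    apply IsIso.inv_eq_of_hom_inv_id
    rw [zF, Category.assoc]
    erw [Iso.hom_inv_id_app_assoc]
    rw [← Functor.map_comp]
    erw [Iso.hom_inv_id_app]
    exact CategoryTheory.Functor.map_id _ _
  rw [← Category.assoc, ← e1] at e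
  rw [← e2] at e
  rw [← cancel_epi (inv (zF (φ := φ) (α := α) Y)), ← Category.assoc, e, IsIso.inv_hom_id_assoc,
    Category.assoc, IsIso.inv_hom_id, Category.comp_id]

variable [HasLTen R] [HasLTen₃ R] [IsSymMonoidal R]
  [HasLTen R'] [HasLTen₃ R'] [IsSymMonoidal R'] [HasResTen ρ] [ResLegIso ρ]
  [HasLTen A] [HasLTen₃ A] [IsSymMonoidal A] [HasResTen φ] [ResLegIso φ]

/-- the action of `N = res_ρ 1` on `res_φ res_α Z` through the commutation isomorphism -/
noncomputable def mN (Z : Dual.D A') :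
    tO (NN ρ) ((rD φ).obj ((rD α).obj Z)) ⟶ (rD φ).obj ((rD α).obj Z) :=
  tH (𝟙 (NN ρ)) ((TrivBC.resComm h).hom.app Z) ≫ actL ρ ((rD φ').obj Z) ≫
    (TrivBC.resComm h).inv.app Z

@[reassoc]
lemma mN_nat {Z Z' : Dual.D A'} (f : Z ⟶ Z') :
    tH (𝟙 (NN ρ)) ((rD φ).map ((rD α).map f)) ≫ mN h Z' = mN h Z ≫ (rD φ).map ((rD α).map f) := by
  have h1 := (TrivBC.resComm h).hom.naturality f
  have h2 := (TrivBC.resComm h).inv.naturality f
  dsimp only [Functor.comp_obj, Functor.comp_map] at h1 h2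
  have h3 := actL_nat ρ ((rD φ').map f)
  rw [mN, mN, tH_comp_assoc, Category.id_comp, h1, ← Category.comp_id (𝟙 (NN ρ)), ← tH_comp_assoc,
    Category.comp_id, reassoc_of% h3, Category.assoc, Category.assoc, h2]

/-- chain-level action of `res_ρ 1` on `res_φ res_α Y` -/
noncomputable def μ₀ (Y : Cx A') :
    (resCx ρ).obj (𝟙_ (Cx R')) ⊗ (resCx φ).obj ((resCx α).obj Y) ⟶
      (resCx φ).obj ((resCx α).obj Y) :=
  ((resCx ρ).obj (𝟙_ (Cx R')) ◁ (rcIso h).hom.app Y) ≫ νL ρ ((resCx φ').obj Y) ≫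
    (rcIso h).inv.app Y

/-- chain-level right action of `res_φ 1` on `res_φ res_α Y` -/
noncomputable def ν₀ (φ : R →+* A) (α : A →+* A') (Y : Cx A') :
    (resCx φ).obj ((resCx α).obj Y) ⊗ (resCx φ).obj (𝟙_ (Cx A)) ⟶
      (resCx φ).obj ((resCx α).obj Y) :=
  (braidCx ((resCx φ).obj ((resCx α).obj Y)) ((resCx φ).obj (𝟙_ (Cx A)))).hom ≫
    νL φ ((resCx α).obj Y)

lemma mN_Q (Y : Cx A') :
    mN h (Q.obj Y) ≫ zF (φ := φ) (α := α) Y =
      tH (rF ρ (𝟙_ (Cx R'))) (zF (φ := φ) (α := α) Y) ≫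
        εX ((resCx ρ).obj (𝟙_ (Cx R'))) ((resCx φ).obj ((resCx α).obj Y)) ≫
          Q.map (μ₀ h Y) := by
  have e1 := resComm_zF h Y
  have e2 : (TrivBC.resComm h).inv.app (Q.obj Y) ≫ zF (φ := φ) (α := α) Y =
      zF (φ := ρ) (α := φ') Y ≫ Q.map ((rcIso h).inv.app Y) := by
    rw [← cancel_epi ((TrivBC.resComm h).hom.app (Q.obj Y)), Iso.hom_inv_id_app_assoc,
      reassoc_of% e1, ← Functor.map_comp, Iso.hom_inv_id_app]
    erw [CategoryTheory.Functor.map_id, Category.comp_id]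
  have e3 := actL_nat ρ (rF φ' Y)
  have e4 := actL_Q ρ ((resCx φ').obj Y)
  have e5 : actL ρ ((rD φ').obj (Q.obj Y)) ≫ zF (φ := ρ) (α := φ') Y =
      tH (rF ρ (𝟙_ (Cx R'))) (zF (φ := ρ) (α := φ') Y) ≫
        εX ((resCx ρ).obj (𝟙_ (Cx R'))) ((resCx ρ).obj ((resCx φ').obj Y)) ≫
          Q.map (νL ρ ((resCx φ').obj Y)) := by
    rw [zF, ← reassoc_of% e3, e4, tH_comp_assoc, Category.id_comp]
  have e6 := εX_natural_right ((resCx ρ).obj (𝟙_ (Cx R'))) ((rcIso h).hom.app Y)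
  rw [mN, Category.assoc, Category.assoc, e2, reassoc_of% e5, tH_comp_assoc, Category.id_comp, e1,
    ← Category.comp_id (rF ρ (𝟙_ (Cx R'))), ← tH_comp_assoc, Category.comp_id, reassoc_of% e6,
    ← Functor.map_comp, ← Functor.map_comp, μ₀]

lemma actR_Q (Y : Cx A') :
    actR φ ((rD α).obj (Q.obj Y)) ≫ zF (φ := φ) (α := α) Y =
      tH (zF (φ := φ) (α := α) Y) (rF φ (𝟙_ (Cx A))) ≫
        εX ((resCx φ).obj ((resCx α).obj Y)) ((resCx φ).obj (𝟙_ (Cx A))) ≫
          Q.map (ν₀ φ α Y) := by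
  have e3 := actL_nat φ (rF α Y)
  have e4 := actL_Q φ ((resCx α).obj Y)
  have e5 : actL φ ((rD α).obj (Q.obj Y)) ≫ zF (φ := φ) (α := α) Y =
      tH (rF φ (𝟙_ (Cx A))) (zF (φ := φ) (α := α) Y) ≫
        εX ((resCx φ).obj (𝟙_ (Cx A))) ((resCx φ).obj ((resCx α).obj Y)) ≫
          Q.map (νL φ ((resCx α).obj Y)) := by
    rw [zF, ← reassoc_of% e3, e4, tH_comp_assoc, Category.id_comp]
  have e6 := sw_nat (rF φ (𝟙_ (Cx A))) (zF (φ := φ) (α := α) Y)
  have e7 : sw (Q.obj ((resCx φ).obj (𝟙_ (Cx A)))) (Q.obj ((resCx φ).obj ((resCx α).obj Y))) ≫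
      εX ((resCx φ).obj (𝟙_ (Cx A))) ((resCx φ).obj ((resCx α).obj Y)) =
      εX ((resCx φ).obj ((resCx α).obj Y)) ((resCx φ).obj (𝟙_ (Cx A))) ≫
        Q.map (braidCx ((resCx φ).obj ((resCx α).obj Y)) ((resCx φ).obj (𝟙_ (Cx A)))).hom :=
    symm_fac R _ _
  rw [actR, Category.assoc, e5, ← reassoc_of% e6, reassoc_of% e7, ← Functor.map_comp, ν₀]

end square

end Groth.Agent.Lib.H6xTB
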