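import Mathlib
import Groth.Agent.Lib.H6xTBd
set_option backward.isDefEq.respectTransparency.types false

/-!
# helper6: module level: the actions of `R'` and of `A` on an `A'`-module commute
-/

set_option autoImplicit false
set_option linter.style.haveILetI false
set_option maxHeartbeats 400000
universe u
open CategoryTheory CategoryTheory.Limits MonoidalCategory TensorProduct

namespace Groth.Agent.Lib.H6xTB

open DTen Groth.Agent.Lib.H6xRBC

section modules

variable {R A R' A' : Type u} [CommRing R] [CommRing A] [CommRing R'] [CommRing A']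
  {φ : R →+* A} {ρ : R →+* R'} {α : A →+* A'} {φ' : R' →+* A'} (h : α.comp φ = φ'.comp ρ)

/-- module-level action of `R'` on an `A'`-module restricted to `R` via `A` -/
noncomputable def μM1 (M : ModuleCat.{u} A') :
    (rM ρ).obj (𝟙_ (ModuleCat.{u} R')) ⊗ (rM φ).obj ((rM α).obj M) ⟶
      (rM φ).obj ((rM α).obj M) :=
  ((rM ρ).obj (𝟙_ (ModuleCat.{u} R')) ◁ (TrivBC.resCommMod h).hom.app M) ≫
    resTen₀app ρ (𝟙_ (ModuleCat.{u} R')) ((rM φ').obj M) ≫
      (rM ρ).map (λ_ ((rM φ').obj M)).hom ≫ (TrivBC.resCommMod h).inv.app M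

/-- module-level right action of `A` on an `A'`-module restricted to `R` via `A` -/
noncomputable def νM1 (φ : R →+* A) (α : A →+* A') (M : ModuleCat.{u} A') :
    (rM φ).obj ((rM α).obj M) ⊗ (rM φ).obj (𝟙_ (ModuleCat.{u} A)) ⟶ (rM φ).obj ((rM α).obj M) :=
  (β_ ((rM φ).obj ((rM α).obj M)) ((rM φ).obj (𝟙_ (ModuleCat.{u} A)))).hom ≫
    resTen₀app φ (𝟙_ (ModuleCat.{u} A)) ((rM α).obj M) ≫ (rM φ).map (λ_ ((rM α).obj M)).hom

lemma μM1_tmul (M : ModuleCat.{u} A') (x : R') (y : M) :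
    (μM1 h M).hom ((show (rM ρ).obj (𝟙_ (ModuleCat.{u} R')) from x) ⊗ₜ[R]
      (show (rM φ).obj ((rM α).obj M) from y)) =
      (show (rM φ).obj ((rM α).obj M) from (φ' x • y : M)) := rfl

lemma νM1_tmul (M : ModuleCat.{u} A') (y : M) (b : A) :
    (νM1 φ α M).hom ((show (rM φ).obj ((rM α).obj M) from y) ⊗ₜ[R]
      (show (rM φ).obj (𝟙_ (ModuleCat.{u} A)) from b)) =
      (show (rM φ).obj ((rM α).obj M) from (α b • y : M)) := rfl

lemma μM1_νM1 (M : ModuleCat.{u} A') :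
    (μM1 h M ▷ (rM φ).obj (𝟙_ (ModuleCat.{u} A))) ≫ νM1 φ α M =
      (α_ _ _ _).hom ≫ ((rM ρ).obj (𝟙_ (ModuleCat.{u} R')) ◁ νM1 φ α M) ≫ μM1 h M := by
  apply ModuleCat.MonoidalCategory.tensor_ext₃'
  intro x y b
  have hL : ((μM1 h M ▷ (rM φ).obj (𝟙_ (ModuleCat.{u} A))) ≫ νM1 φ α M).hom (x ⊗ₜ y ⊗ₜ b) =
      (show (rM φ).obj ((rM α).obj M) from
        (α (show A from b) • (φ' (show R' from x) • (show M from y)) : M)) := rfl
  have hR : ((α_ _ _ _).hom ≫ ((rM ρ).obj (𝟙_ (ModuleCat.{u} R')) ◁ νM1 φ α M) ≫ μM1 h M).hom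
      (x ⊗ₜ y ⊗ₜ b) =
      (show (rM φ).obj ((rM α).obj M) from
        (φ' (show R' from x) • (α (show A from b) • (show M from y)) : M)) := rfl
  exact hL.trans ((smul_comm _ _ _).trans hR.symm)

end modules

end Groth.Agent.Lib.H6xTB
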