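import Mathlib
import Groth.Agent.Lib.H6xTBe
set_option backward.isDefEq.respectTransparency.types false

set_option autoImplicit false
set_option linter.style.haveILetI false
set_option maxHeartbeats 400000
universe u
open CategoryTheory CategoryTheory.Limits MonoidalCategory HomologicalComplex

namespace Groth.Agent.Lib.H6xTB

open DTen Groth.Agent.Lib.Helper1.KF Groth.Agent.Lib.Helper1.DT Groth.Agent.Lib.H6xRBC
  Groth.Agent.Lib.H6xPF Groth.Agent.Lib.H6xBC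

lemma act_comm_aux {C : Type*} [Category C] [MonoidalCategory C] {U U₁ V V₁ M : C}
    (s : U ⟶ U₁) (t : V ⟶ V₁) (μ : U₁ ⊗ M ⟶ M) (ν : M ⊗ V₁ ⟶ M)
    (hc : (μ ▷ V₁) ≫ ν = (α_ U₁ M V₁).hom ≫ (U₁ ◁ ν) ≫ μ) :
    (((s ▷ M) ≫ μ) ▷ V) ≫ (M ◁ t) ≫ ν =
      (α_ U M V).hom ≫ (U ◁ ((M ◁ t) ≫ ν)) ≫ (s ▷ M) ≫ μ := by
  rw [MonoidalCategory.comp_whiskerRight, Category.assoc, ← MonoidalCategory.whisker_exchange_assoc,
    hc, MonoidalCategory.associator_naturality_right_assoc,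
    MonoidalCategory.associator_naturality_left_assoc, MonoidalCategory.whiskerLeft_comp,
    Category.assoc, MonoidalCategory.whisker_exchange_assoc,
    ← MonoidalCategory.whisker_exchange_assoc]

section single

variable {R R' : Type u} [CommRing R] [CommRing R'] (φ : R →+* R')

/-- the unit complex in degree `0` -/
noncomputable abbrev s0 (R' : Type u) [CommRing R'] :
    (𝟙_ (Cx R')).X 0 ≅ 𝟙_ (ModuleCat.{u} R') :=
  singleObjXSelf (ComplexShape.up ℤ) 0 (𝟙_ (ModuleCat.{u} R'))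

lemma isZero_resUnit_X (p : ℤ) (hp : p ≠ 0) : IsZero (((resCx φ).obj (𝟙_ (Cx R'))).X p) := by
  have h1 : IsZero ((𝟙_ (Cx R')).X p) :=
    isZero_single_obj_X (ComplexShape.up ℤ) 0 (𝟙_ (ModuleCat.{u} R')) p hp
  exact (rM φ).map_isZero h1

lemma ι_νL (Y : Cx R') (n : ℤ) :
    ιTensorObj ((resCx φ).obj (𝟙_ (Cx R'))) ((resCx φ).obj Y) 0 n n (zero_add n) ≫ (νL φ Y).f n =
      ((rM φ).map (s0 R').hom ▷ (rM φ).obj (Y.X n)) ≫
        resTen₀app φ (𝟙_ (ModuleCat.{u} R')) (Y.X n) ≫ (rM φ).map (λ_ (Y.X n)).hom := by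
  have a2 := ι_resTenCx φ (𝟙_ (Cx R')) Y 0 n n (zero_add n)
  have a3 := ι_leftUnitor_hom Y n
  have a4 := resTen₀_nat_left φ (s0 R').hom (Y.X n)
  have a3' : (rM φ).map (ιTensorObj (𝟙_ (Cx R')) Y 0 n n (zero_add n)) ≫
      ((resCx φ).map (λ_ Y).hom).f n =
      (rM φ).map ((s0 R').hom ▷ Y.X n) ≫ (rM φ).map (λ_ (Y.X n)).hom := by
    have := congrArg (fun t => (rM φ).map t) a3
    exact ((rM φ).map_comp _ _).symm.trans (this.trans ((rM φ).map_comp _ _))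
  rw [νL, HomologicalComplex.comp_f]
  erw [reassoc_of% a2]
  erw [Category.assoc]
  erw [a3']
  erw [← reassoc_of% a4]
  rfl

end single

section square

variable {R A R' A' : Type u} [CommRing R] [CommRing A] [CommRing R'] [CommRing A']
  {φ : R →+* A} {ρ : R →+* R'} {α : A →+* A'} {φ' : R' →+* A'}
  (h : α.comp φ = φ'.comp ρ)

lemma rcIso_inv_app_f (Y : Cx A') (n : ℤ) :
    ((rcIso h).inv.app Y).f n = (TrivBC.resCommMod h).inv.app (Y.X n) := by
  simp only [rcIso, Iso.trans_inv, Iso.symm_inv, NatTrans.comp_app, HomologicalComplex.comp_f,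
    Functor.mapHomologicalComplexCompIso_hom_app_f, Functor.mapHomologicalComplexCompIso_inv_app_f,
    Iso.refl_hom, NatTrans.id_app]
  exact Category.id_comp _

lemma mod_aux1 {U : ModuleCat.{u} R'} (s : U ⟶ 𝟙_ (ModuleCat.{u} R')) (M : ModuleCat.{u} A') :
    ((rM ρ).obj U ◁ (TrivBC.resCommMod h).hom.app M) ≫
      (((rM ρ).map s ▷ (rM ρ).obj ((rM φ').obj M)) ≫
        resTen₀app ρ (𝟙_ (ModuleCat.{u} R')) ((rM φ').obj M) ≫
          (rM ρ).map (λ_ ((rM φ').obj M)).hom) ≫ (TrivBC.resCommMod h).inv.app M =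
      ((rM ρ).map s ▷ (rM φ).obj ((rM α).obj M)) ≫ μM1 h M := by
  rw [μM1]
  simp only [Category.assoc]
  erw [MonoidalCategory.whisker_exchange_assoc]
  rfl

lemma mod_aux2 {V : ModuleCat.{u} A} (t : V ⟶ 𝟙_ (ModuleCat.{u} A)) (M : ModuleCat.{u} A') :
    (β_ ((rM φ).obj ((rM α).obj M)) ((rM φ).obj V)).hom ≫
      ((rM φ).map t ▷ (rM φ).obj ((rM α).obj M)) ≫
        resTen₀app φ (𝟙_ (ModuleCat.{u} A)) ((rM α).obj M) ≫
          (rM φ).map (λ_ ((rM α).obj M)).hom =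
      ((rM φ).obj ((rM α).obj M) ◁ (rM φ).map t) ≫ νM1 φ α M := by
  rw [νM1, BraidedCategory.braiding_naturality_right_assoc]

lemma ι_μ₀ (Y : Cx A') (n : ℤ) :
    ιTensorObj ((resCx ρ).obj (𝟙_ (Cx R'))) ((resCx φ).obj ((resCx α).obj Y)) 0 n n (zero_add n) ≫
      (μ₀ h Y).f n =
      ((rM ρ).map (s0 R').hom ▷ (rM φ).obj ((rM α).obj (Y.X n))) ≫ μM1 h (Y.X n) := by
  have a1 := ι_whiskerLeft ((resCx ρ).obj (𝟙_ (Cx R'))) ((rcIso h).hom.app Y) 0 n n (zero_add n)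
  have a2 := ι_νL ρ ((resCx φ').obj Y) n
  have a3 := rcIso_hom_app_f h Y n
  have a4 := rcIso_inv_app_f h Y n
  rw [μ₀, HomologicalComplex.comp_f, HomologicalComplex.comp_f]
  dsimp only [Functor.comp_obj] at a1
  rw [← Category.assoc]
  rw [a1]
  rw [Category.assoc, ← Category.assoc (ιTensorObj _ _ 0 n n _)]
  rw [a2]
  rw [a3, a4]
  exact mod_aux1 h (s0 R').hom (Y.X n)

lemma ι_ν₀ (Y : Cx A') (n : ℤ) :
    ιTensorObj ((resCx φ).obj ((resCx α).obj Y)) ((resCx φ).obj (𝟙_ (Cx A))) n 0 n (add_zero n) ≫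
      (ν₀ φ α Y).f n =
      ((rM φ).obj ((rM α).obj (Y.X n)) ◁ (rM φ).map (s0 A).hom) ≫ νM1 φ α (Y.X n) := by
  have a1 := ι_braidCx_hom ((resCx φ).obj ((resCx α).obj Y)) ((resCx φ).obj (𝟙_ (Cx A))) n 0 n
    (add_zero n)
  have a2 := ι_νL φ ((resCx α).obj Y) n
  have hs : (n * 0).negOnePow = 1 := by rw [mul_zero]; exact Int.negOnePow_zero
  rw [hs, one_smul] at a1
  rw [ν₀, HomologicalComplex.comp_f, ← Category.assoc]
  rw [a1]
  rw [Category.assoc]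
  rw [a2]
  exact mod_aux2 (s0 A).hom (Y.X n)

theorem μ₀_ν₀ (Y : Cx A') :
    (μ₀ h Y ▷ (resCx φ).obj (𝟙_ (Cx A))) ≫ ν₀ φ α Y =
      (α_ ((resCx ρ).obj (𝟙_ (Cx R'))) ((resCx φ).obj ((resCx α).obj Y))
        ((resCx φ).obj (𝟙_ (Cx A)))).hom ≫
        ((resCx ρ).obj (𝟙_ (Cx R')) ◁ ν₀ φ α Y) ≫ μ₀ h Y := by
  refine HomologicalComplex.hom_ext _ _ (fun n => ?_)
  apply tensor₃'_hom_ext
  intro p q r s hs hn
  by_cases hp : p = 0
  · by_cases hr : r = 0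
    · subst hp hr
      obtain rfl : q = s := by omega
      obtain rfl : q = n := by omega
      have L1 := ι_whiskerRight (μ₀ h Y) ((resCx φ).obj (𝟙_ (Cx A))) q 0 q hn
      have L2 := ι_μ₀ h Y q
      have L3 := ι_ν₀ (φ := φ) (α := α) Y q
      have R1 := ι₃_associator_hom ((resCx ρ).obj (𝟙_ (Cx R'))) ((resCx φ).obj ((resCx α).obj Y))
        ((resCx φ).obj (𝟙_ (Cx A))) 0 q 0 q q q hs (add_zero q) hn
      have R2 := ι_whiskerLeft ((resCx ρ).obj (𝟙_ (Cx R'))) (ν₀ φ α Y) 0 q q (zero_add q)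
      have M := μM1_νM1 h (Y.X q)
      simp only [HomologicalComplex.comp_f]
      rw [reassoc_of% L1, ← MonoidalCategory.comp_whiskerRight_assoc, L2, L3, reassoc_of% R1,
        reassoc_of% R2, ← MonoidalCategory.whiskerLeft_comp_assoc, L3, L2]
      exact act_comm_aux _ _ _ _ M
    · apply IsZero.eq_of_src
      exact (tensorLeft _).map_isZero (isZero_resUnit_X φ r hr)
  · apply IsZero.eq_of_src
    have h1 : IsZero (((resCx ρ).obj (𝟙_ (Cx R'))).X p ⊗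
        ((resCx φ).obj ((resCx α).obj Y)).X q) :=
      (tensorRight _).map_isZero (isZero_resUnit_X ρ p hp)
    exact (tensorRight _).map_isZero h1

end square

end Groth.Agent.Lib.H6xTB
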