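import Mathlib
import Groth.Agent.Lib.H6xTBf
import Groth.Agent.Lib.H6xTBb
import Groth.Agent.Lib.H6xBCH
import Groth.Agent.Lib.H6xDTenMonD
set_option backward.isDefEq.respectTransparency.types false

/-!
# helper6: the two actions on a doubly restricted object commute; base change for trivial
duality is equivalent to the tensor-evaluation map being an isomorphism
-/

set_option autoImplicit false
set_option linter.style.haveILetI false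
set_option maxHeartbeats 400000
universe u
open CategoryTheory CategoryTheory.Limits MonoidalCategory
attribute [local instance] HasDerivedCategory.standard

namespace Groth.Agent.Lib.H6xTB

open DTen DerivedCategory Groth.Agent.Lib.Helper1.KF Groth.Agent.Lib.Helper1.DT
  Groth.Agent.Lib.H6xDTen Groth.Agent.Lib.H6xPF Groth.Agent.Lib.H6xBC

section square

variable {R A R' A' : Type u} [CommRing R] [CommRing A] [CommRing R'] [CommRing A']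
  {φ : R →+* A} {ρ : R →+* R'} {α : A →+* A'} {φ' : R' →+* A'}
  (h : α.comp φ = φ'.comp ρ)
  [HasLTen R] [HasLTen₃ R] [IsSymMonoidal R]
  [HasLTen R'] [HasLTen₃ R'] [IsSymMonoidal R'] [HasResTen ρ] [ResLegIso ρ]
  [HasLTen A] [HasLTen₃ A] [IsSymMonoidal A] [HasResTen φ] [ResLegIso φ]

lemma mN_actR_Q (Y : Cx A') :
    tH (mN h (Q.obj Y)) (𝟙 (NN φ)) ≫ actR φ ((rD α).obj (Q.obj Y)) =
      aD (NN ρ) ((rD φ).obj ((rD α).obj (Q.obj Y))) (NN φ) ≫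
        tH (𝟙 (NN ρ)) (actR φ ((rD α).obj (Q.obj Y))) ≫ mN h (Q.obj Y) := by
  rw [← cancel_mono (zF (φ := φ) (α := α) Y)]
  have e1 := mN_Q h Y
  have e2 := actR_Q (φ := φ) (α := α) Y
  have e3 := εX_natural_left (μ₀ h Y) ((resCx φ).obj (𝟙_ (Cx A)))
  have e4 := εX_natural_right ((resCx ρ).obj (𝟙_ (Cx R'))) (ν₀ φ α Y)
  have e5 := assoc_εX ((resCx ρ).obj (𝟙_ (Cx R'))) ((resCx φ).obj ((resCx α).obj Y))
    ((resCx φ).obj (𝟙_ (Cx A)))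
  have e6 := associator_natural (rF ρ (𝟙_ (Cx R'))) (zF (φ := φ) (α := α) Y) (rF φ (𝟙_ (Cx A)))
  have e7 := μ₀_ν₀ h Y
  -- left side
  have eL : (tH (mN h (Q.obj Y)) (𝟙 (NN φ)) ≫ actR φ ((rD α).obj (Q.obj Y))) ≫
      zF (φ := φ) (α := α) Y =
      tH (tH (rF ρ (𝟙_ (Cx R'))) (zF (φ := φ) (α := α) Y)) (rF φ (𝟙_ (Cx A))) ≫
        tH (εX ((resCx ρ).obj (𝟙_ (Cx R'))) ((resCx φ).obj ((resCx α).obj Y)))
          (𝟙 (Q.obj ((resCx φ).obj (𝟙_ (Cx A))))) ≫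
        εX ((resCx ρ).obj (𝟙_ (Cx R')) ⊗ (resCx φ).obj ((resCx α).obj Y))
          ((resCx φ).obj (𝟙_ (Cx A))) ≫
        Q.map ((μ₀ h Y ▷ (resCx φ).obj (𝟙_ (Cx A))) ≫ ν₀ φ α Y) := by
    have s1 : tH (mN h (Q.obj Y)) (𝟙 (NN φ)) ≫
        tH (zF (φ := φ) (α := α) Y) (rF φ (𝟙_ (Cx A))) =
        tH (tH (rF ρ (𝟙_ (Cx R'))) (zF (φ := φ) (α := α) Y)) (rF φ (𝟙_ (Cx A))) ≫
          tH (εX ((resCx ρ).obj (𝟙_ (Cx R'))) ((resCx φ).obj ((resCx α).obj Y)))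
            (𝟙 (Q.obj ((resCx φ).obj (𝟙_ (Cx A))))) ≫
          tH (Q.map (μ₀ h Y)) (𝟙 (Q.obj ((resCx φ).obj (𝟙_ (Cx A))))) := by
      rw [tH_comp, Category.id_comp, e1, tH_comp, tH_comp, Category.comp_id, Category.comp_id]
    rw [Category.assoc, e2, reassoc_of% s1, reassoc_of% e3, ← Functor.map_comp]
  -- right side
  have eR : (aD (NN ρ) ((rD φ).obj ((rD α).obj (Q.obj Y))) (NN φ) ≫
      tH (𝟙 (NN ρ)) (actR φ ((rD α).obj (Q.obj Y))) ≫ mN h (Q.obj Y)) ≫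
      zF (φ := φ) (α := α) Y =
      tH (tH (rF ρ (𝟙_ (Cx R'))) (zF (φ := φ) (α := α) Y)) (rF φ (𝟙_ (Cx A))) ≫
        tH (εX ((resCx ρ).obj (𝟙_ (Cx R'))) ((resCx φ).obj ((resCx α).obj Y)))
          (𝟙 (Q.obj ((resCx φ).obj (𝟙_ (Cx A))))) ≫
        εX ((resCx ρ).obj (𝟙_ (Cx R')) ⊗ (resCx φ).obj ((resCx α).obj Y))
          ((resCx φ).obj (𝟙_ (Cx A))) ≫
        Q.map ((α_ ((resCx ρ).obj (𝟙_ (Cx R'))) ((resCx φ).obj ((resCx α).obj Y))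
          ((resCx φ).obj (𝟙_ (Cx A)))).hom ≫
          ((resCx ρ).obj (𝟙_ (Cx R')) ◁ ν₀ φ α Y) ≫ μ₀ h Y) := by
    have s2 : tH (𝟙 (NN ρ)) (actR φ ((rD α).obj (Q.obj Y))) ≫
        tH (rF ρ (𝟙_ (Cx R'))) (zF (φ := φ) (α := α) Y) =
        tH (rF ρ (𝟙_ (Cx R'))) (tH (zF (φ := φ) (α := α) Y) (rF φ (𝟙_ (Cx A)))) ≫
          tH (𝟙 (Q.obj ((resCx ρ).obj (𝟙_ (Cx R')))))
            (εX ((resCx φ).obj ((resCx α).obj Y)) ((resCx φ).obj (𝟙_ (Cx A)))) ≫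
          tH (𝟙 (Q.obj ((resCx ρ).obj (𝟙_ (Cx R'))))) (Q.map (ν₀ φ α Y)) := by
      rw [tH_comp, Category.id_comp, e2, tH_comp, tH_comp, Category.comp_id, Category.comp_id]
    simp only [Category.assoc]
    rw [e1, reassoc_of% s2, ← reassoc_of% e6, reassoc_of% e4]
    rw [reassoc_of% e5, ← Functor.map_comp, ← Functor.map_comp]
  rw [eL, eR, e7]

theorem mN_actR (Z : Dual.D A') :
    tH (mN h Z) (𝟙 (NN φ)) ≫ actR φ ((rD α).obj Z) =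
      aD (NN ρ) ((rD φ).obj ((rD α).obj Z)) (NN φ) ≫
        tH (𝟙 (NN ρ)) (actR φ ((rD α).obj Z)) ≫ mN h Z := by
  obtain ⟨Y, ⟨e⟩⟩ : ∃ Y : Cx A', Nonempty (Q.obj Y ≅ Z) := ⟨_, ⟨Q.objObjPreimageIso Z⟩⟩
  set g := (rD φ).map ((rD α).map e.hom) with hg
  have n1 := mN_nat h e.hom
  have n2 := actR_nat φ ((rD α).map e.hom)
  have n3 := associator_natural (𝟙 (NN ρ)) g (𝟙 (NN φ))
  have hQ := mN_actR_Q h Y
  rw [← hg] at n1 n2
  have eL : tH (tH (𝟙 (NN ρ)) g) (𝟙 (NN φ)) ≫ tH (mN h Z) (𝟙 (NN φ)) ≫ actR φ ((rD α).obj Z) =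
      (tH (mN h (Q.obj Y)) (𝟙 (NN φ)) ≫ actR φ ((rD α).obj (Q.obj Y))) ≫ g := by
    rw [tH_comp_assoc, Category.id_comp, n1, ← Category.comp_id (𝟙 (NN φ)), ← tH_comp_assoc,
      Category.comp_id, n2, Category.assoc]
  have eR : tH (tH (𝟙 (NN ρ)) g) (𝟙 (NN φ)) ≫ aD (NN ρ) ((rD φ).obj ((rD α).obj Z)) (NN φ) ≫
      tH (𝟙 (NN ρ)) (actR φ ((rD α).obj Z)) ≫ mN h Z =
      (aD (NN ρ) ((rD φ).obj ((rD α).obj (Q.obj Y))) (NN φ) ≫
        tH (𝟙 (NN ρ)) (actR φ ((rD α).obj (Q.obj Y))) ≫ mN h (Q.obj Y)) ≫ g := by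
    rw [reassoc_of% n3, tH_comp_assoc, Category.id_comp, n2, ← Category.comp_id (𝟙 (NN ρ)),
      ← tH_comp_assoc, Category.comp_id, n1]
    simp only [Category.assoc]
  haveI : IsIso g := by rw [hg]; infer_instance
  rw [← cancel_epi (tH (tH (𝟙 (NN ρ)) g) (𝟙 (NN φ))), eL, eR, hQ]

end square

section main

variable {R A R' A' : Type u} [CommRing R] [CommRing A] [CommRing R'] [CommRing A']
  {φ : R →+* A} {ρ : R →+* R'} {α : A →+* A'} {φ' : R' →+* A'}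
  (h : α.comp φ = φ'.comp ρ)
  [HasLTen R] [HasLTen₃ R] [IsSymMonoidal R]
  [HasLTen R'] [HasLTen₃ R'] [IsSymMonoidal R'] [HasResTen ρ] [ResLegIso ρ]
  [HasLTen A] [HasLTen₃ A] [IsSymMonoidal A] [HasResTen φ] [ResLegIso φ]
  {Lρ : Dual.D R ⥤ Dual.D R'} {Lα : Dual.D A ⥤ Dual.D A'}
  (adjρ : Lρ ⊣ rD ρ) (adjα : Lα ⊣ rD α)

lemma qi_eq (X : Dual.D A) :
    (τIso ρ adjρ).hom.app ((rD φ).obj X) ≫ pfi (TrivBC.resComm h) adjα adjρ X =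
      tH (𝟙 (NN ρ)) ((rD φ).map (adjα.unit.app X)) ≫ mN h (Lα.obj X) := by
  have e1 := ρg_nat ρ adjρ ((rD φ).map (adjα.unit.app X) ≫ (TrivBC.resComm h).hom.app (Lα.obj X))
  have e2 := ρg_counit ρ adjρ ((rD φ').obj (Lα.obj X))
  have e3 : tH (𝟙 (NN ρ)) ((rD φ).map (adjα.unit.app X) ≫
      (TrivBC.resComm h).hom.app (Lα.obj X)) =
      tH (𝟙 (NN ρ)) ((rD φ).map (adjα.unit.app X)) ≫
        tH (𝟙 (NN ρ)) ((TrivBC.resComm h).hom.app (Lα.obj X)) := by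
    rw [tH_comp, Category.id_comp]
  rw [τIso_hom_app, pfi, mate_eq, Functor.map_comp, Category.assoc, ← reassoc_of% e1,
    reassoc_of% e2, mN, e3, Category.assoc]

lemma hC_main (X : Dual.D A) :
    tH ((τIso ρ adjρ).hom.app ((rD φ).obj X) ≫ pfi (TrivBC.resComm h) adjα adjρ X)
        (𝟙 (NN φ)) ≫ actR φ ((rD α).obj (Lα.obj X)) =
      aD (NN ρ) ((rD φ).obj X) (NN φ) ≫ tH (𝟙 (NN ρ)) (actR φ X) ≫
        (τIso ρ adjρ).hom.app ((rD φ).obj X) ≫ pfi (TrivBC.resComm h) adjα adjρ X := by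
  have e1 := mN_actR h (Lα.obj X)
  have e2 := associator_natural (𝟙 (NN ρ)) ((rD φ).map (adjα.unit.app X)) (𝟙 (NN φ))
  have e3 := actR_nat φ (adjα.unit.app X)
  dsimp only [Functor.id_obj, Functor.comp_obj] at e3
  rw [qi_eq]
  have s1 : tH (tH (𝟙 (NN ρ)) ((rD φ).map (adjα.unit.app X)) ≫ mN h (Lα.obj X)) (𝟙 (NN φ)) =
      tH (tH (𝟙 (NN ρ)) ((rD φ).map (adjα.unit.app X))) (𝟙 (NN φ)) ≫
        tH (mN h (Lα.obj X)) (𝟙 (NN φ)) := by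
    rw [tH_comp, Category.comp_id]
  have s2 : tH (𝟙 (NN ρ)) (tH ((rD φ).map (adjα.unit.app X)) (𝟙 (NN φ))) ≫
      tH (𝟙 (NN ρ)) (actR φ ((rD α).obj (Lα.obj X))) =
      tH (𝟙 (NN ρ)) (actR φ X) ≫ tH (𝟙 (NN ρ)) ((rD φ).map (adjα.unit.app X)) := by
    rw [tH_comp, tH_comp, Category.comp_id, e3]
  rw [s1, Category.assoc, e1, reassoc_of% e2, reassoc_of% s2]

variable [HasRHom R] [HasLBase φ]
  {Rφ : Dual.D R ⥤ Dual.D A} (adj : rD φ ⊣ Rφ) {Rφ' : Dual.D R' ⥤ Dual.D A'} (adj' : rD φ' ⊣ Rφ')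

theorem isIso_bcA_iff_evalTen
    (hm : ∀ X, IsIso (mate adjα adjρ (TrivBC.resComm h).hom X))
    (K : Dual.D R) [IsIso (mate adjα adjρ (TrivBC.resComm h).hom (Rφ.obj K))] :
    IsIso (bcA (TrivBC.resComm h) adjα adjρ adj adj' K) ↔
      IsIso (evalTen (NN ρ) K (NN φ)) := by
  refine isIso_bcA_iff (TrivBC.resComm h) adjα adjρ adj adj'
    (T := (LTen R).obj (NN ρ)) (F := tensorRightD R (NN φ)) (G' := RHomR R (NN φ))
    (rhomAdj R (NN φ)) (τIso ρ adjρ)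
    (fun V => aD (NN ρ) V (NN φ)) ?_
    (fun W => actR φ W) ?_
    (fun Y => γIso φ (baseAdj φ) adj Y) ?_
    (fun K => evalTen (NN ρ) K (NN φ)) ?_ ?_ hm ?_ ?_ K
  · intro V V' f
    exact associator_natural (𝟙 (NN ρ)) f (𝟙 (NN φ))
  · intro W W' f
    exact actR_nat φ f
  · intro Y
    exact γIso_ev φ (baseAdj φ) adj Y
  · intro K
    exact evalTen_fac (NN ρ) K (NN φ)
  · intro X
    exact hC_main h adjρ adjα X
  · intro X Y f hf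
    exact isIso_of_isIso_rD_map α f hf
  · intro X Y f hf
    exact isIso_of_isIso_rD_map φ f hf

end main

end Groth.Agent.Lib.H6xTB
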