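import Mathlib
import Groth.Agent.S13549
import Groth.Agent.S6954
import Groth.Agent.S6942
import Groth.Agent.Lib.Helper13TorBC3
import Groth.Agent.Lib.R2H3PolyTorDim
import Groth.Agent.Lib.Helper1TorDim
import Groth.Agent.Lib.H6xBCB
import Groth.Agent.Lib.H6xShkD
set_option backward.isDefEq.respectTransparency.types false

/-!
# helper6: base change for `RHom_P(A, -)` when `A` is perfect over `P` and tor independent of `P'`
(no boundedness, no flatness of `P → P'`), with the auxiliary facts needed to apply it to upper shrieks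
of flat maps.
-/

set_option autoImplicit false
set_option linter.style.haveILetI false
universe u

namespace Groth.Agent.Lib.H6xSht

open CategoryTheory CategoryTheory.Limits DerivedCategory TensorProduct
attribute [local instance] HasDerivedCategory.standard

section Tor

/-- flat base change for Tor: `Tor^P_p(A, P') = 0` when `A` is flat over `R`, `P` is flat over `R`
and `P' = P ⊗_R R'`. -/
theorem subsingleton_tor_of_isPushout (R P R' P' A : Type u) [CommRing R] [CommRing P] [CommRing R']
    [CommRing P'] [CommRing A] [Algebra R P] [Algebra R R'] [Algebra P P'] [Algebra R' P']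
    [Algebra R P'] [IsScalarTower R P P'] [IsScalarTower R R' P'] [Algebra.IsPushout R P R' P']
    [Module.Flat R P] [Algebra R A] [Algebra P A] [IsScalarTower R P A] [Module.Flat R A]
    (p : ℕ) (hp : 1 ≤ p) : Subsingleton (DRing.Tor P p A P') := by
  obtain ⟨i⟩ := Groth.Agent.Helper13TorBC.nonempty_restrict_tor_iso_left P A
    (ModuleCat.of R R') p
  have h0 : Subsingleton (DRing.Tor R p A R') :=
    (Groth.Agent.Lib.Helper1.TorDim.hasTorDimLE_zero_iff_flat A).2 inferInstance R' p (by omega)
  have hz0 : IsZero (((Tor (ModuleCat.{u} R) p).obj (ModuleCat.of R A)).obj (ModuleCat.of R R')) :=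
    ModuleCat.isZero_of_subsingleton _
  have hz1 := hz0.of_iso i
  have hs1 : Subsingleton (((Tor (ModuleCat.{u} P) p).obj (ModuleCat.of P A)).obj
      ((Groth.Agent.Helper13TorBC.E R P).obj (ModuleCat.of R R'))) := by
    have := ModuleCat.subsingleton_of_isZero hz1
    exact this
  have hz2 : IsZero (((Tor (ModuleCat.{u} P) p).obj (ModuleCat.of P A)).obj
      ((Groth.Agent.Helper13TorBC.E R P).obj (ModuleCat.of R R'))) :=
    ModuleCat.isZero_of_subsingleton _
  let e : (Groth.Agent.Helper13TorBC.E R P).obj (ModuleCat.of R R') ≅ ModuleCat.of P P' :=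
    ((Groth.Agent.S2380.bridge R P (ModuleCat.of R R')).trans
      (Algebra.IsPushout.out (R := R) (S := P) (R' := R') (S' := P')).equiv).toModuleIso
  exact ModuleCat.subsingleton_of_isZero
    (hz2.of_iso (((Tor (ModuleCat.{u} P) p).obj (ModuleCat.of P A)).mapIso e.symm))

end Tor

section Perf

/-- a flat algebra over a Noetherian ring, presented as a quotient of a polynomial ring `P`, is a
perfect `P`-module -/
theorem isPerfectModule_of_flat (R A : Type u) [CommRing R] [CommRing A] [IsNoetherianRing R]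
    [Algebra R A] [Module.Flat R A] (n : ℕ) [Algebra (MvPolynomial (Fin n) R) A]
    [IsScalarTower R (MvPolynomial (Fin n) R) A]
    (hψ : Function.Surjective (algebraMap (MvPolynomial (Fin n) R) A)) :
    DRing.IsPerfectModule (MvPolynomial (Fin n) R) A := by
  haveI : Module.Finite (MvPolynomial (Fin n) R) A :=
    Module.Finite.of_surjective (Algebra.linearMap (MvPolynomial (Fin n) R) A) hψ
  have hpc : DRing.IsPseudoCoherentModule' (MvPolynomial (Fin n) R) A :=
    (Groth.Agent.S6942.result (MvPolynomial (Fin n) R) 0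
      (Dual.inD (MvPolynomial (Fin n) R) A) A).2.2 inferInstance
  have h0 : DRing.HasTorDimLE R 0 A :=
    (Groth.Agent.Lib.Helper1.TorDim.hasTorDimLE_zero_iff_flat A).2 inferInstance
  have h1 := Groth.Agent.Lib.R2H3.PolyTorDim.hasTorDimLE_mvPolynomial R n 0 A h0
  have h2 := (Groth.Agent.Lib.Helper1.TorDim.hasTorDimLE_iff_hasTorAmp A (0 + n)).1 h1
  exact (Groth.Agent.S6954.result (MvPolynomial (Fin n) R)
    (Dual.inD (MvPolynomial (Fin n) R) A)).2 ⟨hpc, ⟨_, _, h2⟩⟩

end Perf

section BC

/-- base change for `RHom_R(A, -)` when `A` is a perfect `R`-module, tor independent of `R'` -/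
theorem nonempty_lbc_rightAdjoint_iso_of_perfect (R A R' A' : Type u) [CommRing R] [CommRing A]
    [CommRing R'] [CommRing A'] [Algebra R A] [Algebra R R'] [Algebra A A'] [Algebra R' A']
    [Algebra R A'] [IsScalarTower R A A'] [IsScalarTower R R' A'] [Algebra.IsPushout R A R' A']
    (hperf : DRing.IsPerfectModule R A)
    (htor : ∀ p : ℕ, 1 ≤ p → Subsingleton (DRing.Tor R p A R'))
    [DRing.HasLBaseChange (algebraMap R R')] [DRing.HasLBaseChange (algebraMap A A')]
    (Rφ : Dual.D R ⥤ Dual.D A) (adj : DRing.restrictD (algebraMap R A) ⊣ Rφ)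
    (Rφ' : Dual.D R' ⥤ Dual.D A') (adj' : DRing.restrictD (algebraMap R' A') ⊣ Rφ')
    (K : Dual.D R) :
    Nonempty ((DRing.LBaseChange (algebraMap A A')).obj (Rφ.obj K) ≅
      Rφ'.obj ((DRing.LBaseChange (algebraMap R R')).obj K)) := by
  obtain ⟨adjρ, -, -⟩ := Groth.Agent.Lib.H6xBC.exists_adj (algebraMap R R')
  obtain ⟨adjα, -, -⟩ := Groth.Agent.Lib.H6xBC.exists_adj (algebraMap A A')
  have h : (algebraMap A A').comp (algebraMap R A) = (algebraMap R' A').comp (algebraMap R R') := by
    rw [← IsScalarTower.algebraMap_eq, ← IsScalarTower.algebraMap_eq]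
  have hc : IsIso (TrivBC.cmp adjρ adjα h (Rφ.obj K)) :=
    Groth.Agent.Lib.H6xBC.isIso_cmp_of_isPushout R A R' A' htor adjρ adjα h _
  haveI := Groth.Agent.S13549.result R A R' A' hperf htor adjρ adjα h Rφ adj Rφ' adj' K hc
  exact ⟨asIso (TrivBC.bcMap adjρ adjα h adj adj' K hc)⟩

end BC

section Comp

variable {R P R' P' : Type u} [CommRing R] [CommRing P] [CommRing R'] [CommRing P']

/-- derived base changes compose: for a commutative square of rings,
`L_{P→P'} ∘ L_{R→P} ≅ L_{R'→P'} ∘ L_{R→R'}` -/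
theorem nonempty_lbc_comp_iso (φ : R →+* P) (ρ : R →+* R') (α : P →+* P') (φ' : R' →+* P')
    (h : α.comp φ = φ'.comp ρ) [DRing.HasLBaseChange φ] [DRing.HasLBaseChange ρ]
    [DRing.HasLBaseChange α] [DRing.HasLBaseChange φ'] :
    Nonempty (DRing.LBaseChange φ ⋙ DRing.LBaseChange α ≅
      DRing.LBaseChange ρ ⋙ DRing.LBaseChange φ') := by
  obtain ⟨a1, -, -⟩ := Groth.Agent.Lib.H6xBC.exists_adj φ
  obtain ⟨a2, -, -⟩ := Groth.Agent.Lib.H6xBC.exists_adj ρ
  obtain ⟨a3, -, -⟩ := Groth.Agent.Lib.H6xBC.exists_adj α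
  obtain ⟨a4, -, -⟩ := Groth.Agent.Lib.H6xBC.exists_adj φ'
  exact ⟨((a1.comp a3).ofNatIsoRight (TrivBC.resComm h)).leftAdjointUniq (a2.comp a4)⟩

/-- derived base change commutes with shifts -/
theorem nonempty_lbc_shift_iso (φ : R →+* P) [DRing.HasLBaseChange φ] (X : Dual.D R) (a : ℤ) :
    Nonempty ((DRing.LBaseChange φ).obj (X⟦a⟧) ≅ ((DRing.LBaseChange φ).obj X)⟦a⟧) := by
  obtain ⟨a1, -, -⟩ := Groth.Agent.Lib.H6xBC.exists_adj φ
  exact ⟨(Adjunction.LeftAdjointCommShift.iso a1 a).app X⟩

end Comp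

end Groth.Agent.Lib.H6xSht
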