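import Mathlib
import Groth.Agent.Lib.H6xShtA
import Groth.Agent.Lib.H6xTBc
import Groth.Agent.Lib.H6xRHb
import Groth.Agent.Lib.H6xUncB
import Groth.Agent.Lib.H6xDTenDualA
import Groth.Agent.Lib.H6xDTenMonD
import Groth.Agent.Lib.H6xHasLDerRing
import Groth.Agent.Lib.Helper17DCompare5
import Groth.Agent.Lib.H6xPCevB
set_option backward.isDefEq.respectTransparency.types false

/-!
# helper6: `RHom_R(A, R)` is perfect over `R` when `A` is a perfect `R`-module
-/

set_option autoImplicit false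
set_option linter.style.haveILetI false
set_option maxHeartbeats 400000
universe u
open CategoryTheory CategoryTheory.Limits MonoidalCategory

namespace Groth.Agent.Lib.H6xSht

open DerivedCategory DTen Groth.Agent.Lib.H6xDTen Groth.Agent.Lib.H6xPF Groth.Agent.Lib.H6xTB
  Groth.Agent.Lib.Helper1.KF Groth.Agent.Lib.Helper17.DCompare
attribute [local instance] HasDerivedCategory.standard

section Dual

variable {A : Type u} [CommRing A] [HasLTen A] [HasLTen₃ A] [IsSymMonoidal A]

attribute [local instance] monoidalD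

/-- the termwise dual of a strictly perfect complex is strictly perfect -/
lemma isPerfect_dCx (E : Cx A) (a b : ℤ) (hab : DRing.VanishesOutside E a b)
    (hE : DRing.TermwiseFiniteProjective E) :
    DRing.IsPerfect A (Q.obj (H6xGrDual.dCx E)) := by
  refine ⟨H6xGrDual.dCx E, -b, -a, fun q hq => ?_, fun q => ?_, ⟨Iso.refl _⟩⟩
  · have hz : IsZero (E.X (-q)) := hab _ (by omega)
    haveI : Subsingleton (E.X (-q)) := ModuleCat.subsingleton_of_isZero hz
    haveI : Subsingleton (Module.Dual A (E.X (-q))) := ⟨fun f g => by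
      ext x
      rw [Subsingleton.elim x 0, map_zero, map_zero]⟩
    exact ModuleCat.isZero_of_subsingleton (H6xGrDual.dM (E.X (-q)))
  · haveI := (hE (-q)).1
    haveI := (hE (-q)).2
    change Module.Finite A (Module.Dual A (E.X (-q))) ∧
      Module.Projective A (Module.Dual A (E.X (-q)))
    exact ⟨inferInstance, inferInstance⟩

/-- a perfect object of `D(A)` has a perfect dual -/
theorem exists_perfect_exactPairing (K : Dual.D A) (hK : DRing.IsPerfect A K) :
    ∃ K' : Dual.D A, DRing.IsPerfect A K' ∧ Nonempty (ExactPairing K K') := by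
  obtain ⟨E, a, b, hab, hE, ⟨e⟩⟩ := hK
  letI : ExactPairing E (H6xGrDual.dCx E) := H6xGrDual.dualExactPairing E a b hab hE
  have hkf : KFlat E := H6xGrDual.kflat_of_bounded_proj E b (fun i hi => hab i (Or.inr hi))
    (fun i => (hE i).2)
  haveI : IsIso (εX E (H6xGrDual.dCx E)) := isIso_εX _ _ (Or.inl hkf)
  letI : ExactPairing (Q.obj E) (Q.obj (H6xGrDual.dCx E)) := exactPairingQ E (H6xGrDual.dCx E)
  exact ⟨Q.obj (H6xGrDual.dCx E), isPerfect_dCx E a b hab hE,
    ⟨exactPairingCongr e.symm (Iso.refl _)⟩⟩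

/-- `RHom(N, Y) ≅ Y ⊗ N'` for a dualizable `N` with dual `N'` -/
theorem nonempty_rhom_iso_tensor_dual [HasRHom A] (N N' Y : Dual.D A) [ExactPairing N N'] :
    Nonempty ((RHomR A N).obj Y ≅ tO Y N') :=
  ⟨((rhomAdjM N).rightAdjointUniq (tensorRightAdjunction N N')).app Y⟩

/-- `RHom(N, 1)` is perfect for `N` perfect -/
theorem isPerfect_rhom_unit [HasRHom A] (N : Dual.D A) (hN : DRing.IsPerfect A N) :
    DRing.IsPerfect A ((RHomR A N).obj (DTen.unit A)) := by
  obtain ⟨N', hN', ⟨hp⟩⟩ := exists_perfect_exactPairing N hN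
  obtain ⟨e⟩ := nonempty_rhom_iso_tensor_dual N N' (DTen.unit A)
  exact isPerfect_of_iso (e ≪≫ DTen.leftUnitor N').symm hN'

end Dual

section Res

variable {R R' : Type u} [CommRing R] [CommRing R'] (φ : R →+* R')

/-- for any right adjoint `Rφ` of restriction along `φ : R → R'` with `R'` perfect over `R`, the
object `Rφ(R)` restricted to `R` is perfect -/
theorem isPerfect_restrictD_rightAdjoint_unit (Rφ : Dual.D R ⥤ Dual.D R')
    (adj : DRing.restrictD φ ⊣ Rφ) (hN : DRing.IsPerfect R ((DRing.restrictD φ).obj (DTen.unit R'))) :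
    DRing.IsPerfect R ((DRing.restrictD φ).obj (Rφ.obj (DTen.unit R))) := by
  haveI : HasLTen R := Groth.Agent.Lib.H6xUnc.hasLTen R
  haveI : HasLTen₃ R := Groth.Agent.Lib.H6xUnc.hasLTen₃ R
  haveI : IsSymMonoidal R := Groth.Agent.Lib.H6xUnc.isSymMonoidal R
  haveI : HasLTen R' := Groth.Agent.Lib.H6xUnc.hasLTen R'
  haveI : HasLTen₃ R' := Groth.Agent.Lib.H6xUnc.hasLTen₃ R'
  haveI : IsSymMonoidal R' := Groth.Agent.Lib.H6xUnc.isSymMonoidal R'
  haveI : HasRHom R := Groth.Agent.Lib.H6xRH.hasRHom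
  haveI : HasResTen φ := hasResTen φ
  haveI : ResLegIso φ := resLegIso φ
  haveI : DRing.HasLBaseChange φ := Groth.Agent.Lib.H6xHasLDerRing.hasLBaseChange φ
  obtain ⟨adjL, -, -⟩ := Groth.Agent.Lib.H6xBC.exists_adj φ
  exact isPerfect_of_iso (γIso φ adjL adj (DTen.unit R)).symm (isPerfect_rhom_unit (NN φ) hN)

end Res

end Groth.Agent.Lib.H6xSht
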