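import Mathlib
import Groth.Agent.Lib.H6xBrgA
import Groth.Agent.Lib.H6xShtE
import Groth.Agent.Lib.H6xDTenDualB
import Groth.Agent.Lib.H6xPCevD
set_option backward.isDefEq.respectTransparency.types false

/-!
# helper6: the dual `RHom(E, A)` of a perfect complex is perfect, and the double dual is the original

* `swapIso K : tensorRight K ≅ tensorLeft K` (from the symmetry of `⊗ᴸ`);
* `nonempty_rhom_iso_leftDual_tensor`: `RHom(K, Y) ≅ K'' ⊗ᴸ Y` for a left dual `K''` of `K`;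
* `isPerfect_dual_and_double_dual`: S6963.
-/

set_option autoImplicit false
set_option linter.style.haveILetI false
universe u
open CategoryTheory CategoryTheory.Limits MonoidalCategory
attribute [local instance] HasDerivedCategory.standard

namespace Groth.Agent.Lib.H6xBrg

open DerivedCategory DTen Groth.Agent.Lib.H6xDTen Groth.Agent.Lib.Helper17.DCompare
  Groth.Agent.Lib.H6xSht Groth.Agent.Lib.H6xPCev

section Dual

variable {A : Type u} [CommRing A] [HasLTen A] [HasLTen₃ A] [IsSymMonoidal A] [HasRHom A]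

attribute [local instance] monoidalD

/-- `- ⊗ᴸ K ≅ K ⊗ᴸ -` -/
noncomputable def swapIso (K : Dual.D A) : tensorRight K ≅ tensorLeft K :=
  NatIso.ofComponents (fun W => DTen.braiding K W) (fun {W W'} f => by
    have := symm_nat (A := A) (𝟙 K) f
    exact this)

/-- `RHom(K, Y) ≅ K'' ⊗ᴸ Y` for a left dual `K''` of `K` -/
theorem nonempty_rhom_iso_leftDual_tensor (K'' K Y : Dual.D A) [ExactPairing K'' K] :
    Nonempty ((RHomR A K).obj Y ≅ tO K'' Y) :=
  ⟨((rhomAdjM K).rightAdjointUniq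
    ((tensorLeftAdjunction K'' K).ofNatIsoLeft (swapIso K).symm)).app Y⟩

end Dual

/-- **S6963** -/
theorem isPerfect_dual_and_double_dual (A : Type u) [CommRing A] (K : Dual.D A)
    (hK : DRing.IsPerfect A K) (E : DRing.Cx A) (eK : DRing.toD E ≅ K) [DRing.HasRHomCx E] :
    DRing.IsPerfect A ((DRing.RHomCx E).obj (Dual.inD A A)) ∧
      ∀ (E' : DRing.Cx A) (_ : DRing.toD E' ≅ (DRing.RHomCx E).obj (Dual.inD A A))
        [DRing.HasRHomCx E'], Nonempty ((DRing.RHomCx E').obj (Dual.inD A A) ≅ K) := by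
  haveI : HasLTen A := Groth.Agent.Lib.H6xUnc.hasLTen _
  haveI : HasLTen₃ A := Groth.Agent.Lib.H6xUnc.hasLTen₃ _
  haveI : IsSymMonoidal A := Groth.Agent.Lib.H6xUnc.isSymMonoidal _
  haveI : HasRHom A := Groth.Agent.Lib.H6xRH.hasRHom
  letI := monoidalD (A := A)
  obtain ⟨e1⟩ := nonempty_RHomCx_iso_RHomR_of_iso E eK (Dual.inD A A)
  let u : DTen.unit A ≅ Dual.inD A A := unitIsoInD
  let e1' : (DRing.RHomCx E).obj (Dual.inD A A) ≅ (RHomR A K).obj (DTen.unit A) :=
    e1 ≪≫ (RHomR A K).mapIso u.symm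
  refine ⟨isPerfect_of_iso e1'.symm (isPerfect_rhom_unit K hK), ?_⟩
  intro E' eK' _
  obtain ⟨K'', ⟨hp⟩⟩ := exists_exactPairing_left_of_isPerfect K hK
  letI := hp
  obtain ⟨e2⟩ := nonempty_rhom_iso_leftDual_tensor K'' K (DTen.unit A)
  let eN : (DRing.RHomCx E).obj (Dual.inD A A) ≅ K'' := e1' ≪≫ e2 ≪≫ DTen.rightUnitor K''
  obtain ⟨e3⟩ := nonempty_RHomCx_iso_RHomR_of_iso E' (eK' ≪≫ eN) (Dual.inD A A)
  obtain ⟨e4⟩ := nonempty_rhom_iso_tensor_dual K'' K (DTen.unit A)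
  exact ⟨e3 ≪≫ (RHomR A K'').mapIso u.symm ≪≫ e4 ≪≫ DTen.leftUnitor K⟩

end Groth.Agent.Lib.H6xBrg
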