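import Mathlib
import Groth.Agent.Lib.H6xBidO
import Groth.Agent.Lib.Helper28Depth
import Groth.Agent.Lib.Helper28DepthLoc
import Groth.Agent.Lib.Helper5CM
set_option backward.isDefEq.respectTransparency.types false

/-!
# `Ext` into a normalized dualizing complex and regular elements (helper6)
-/

set_option autoImplicit false
set_option linter.style.haveILetI false
universe u

namespace Groth.Agent.Lib.H6xDep

open CategoryTheory CategoryTheory.Limits Category Pretriangulated DerivedCategory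
open Groth.Agent.Lib.H6xCoext Groth.Agent.Lib.H6xDual
open Pointwise
attribute [local instance] HasDerivedCategory.standard

lemma subsingleton_shift_hom {C : Type*} [Category C] [HasShift C ℤ] (X Y : C) (n : ℤ)
    (h : Subsingleton (X ⟶ Y)) : Subsingleton (X⟦n⟧ ⟶ Y⟦n⟧) := by
  refine ⟨fun f g => ?_⟩
  obtain ⟨f', rfl⟩ := (shiftFunctor C n).map_surjective f
  obtain ⟨g', rfl⟩ := (shiftFunctor C n).map_surjective g
  rw [h.elim f' g']

variable {A : Type u} [CommRing A]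

section SES

variable {S : ShortComplex (ModuleCat.{u} A)} (hS : S.ShortExact) (Y : Dual.D A)

include hS in
/-- exactness of `Hom(X₁, Y) ⟶ Hom(X₃, Y⟦1⟧) ⟶ Hom(X₂, Y⟦1⟧)` -/
lemma subsingleton_hom_right_shift (h₁ : Subsingleton (sg S.X₁ ⟶ Y))
    (h₂ : Subsingleton (sg S.X₂ ⟶ Y⟦(1 : ℤ)⟧)) : Subsingleton (sg S.X₃ ⟶ Y⟦(1 : ℤ)⟧) := by
  have hT := rot_of_distTriang _ hS.singleTriangle_distinguished
  have h₁' : Subsingleton ((sg S.X₁)⟦(1 : ℤ)⟧ ⟶ Y⟦(1 : ℤ)⟧) := subsingleton_shift_hom _ _ 1 h₁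
  have key : ∀ g : sg S.X₃ ⟶ Y⟦(1 : ℤ)⟧, g = 0 := by
    intro g
    obtain ⟨h, hh⟩ := Triangle.yoneda_exact₂ _ hT g (h₂.elim _ _)
    have h0 : h = 0 := h₁'.elim h 0
    rw [hh, h0]
    exact comp_zero
  exact ⟨fun f g => by rw [key f, key g]⟩

end SES

section Regular

variable (M : Type u) [AddCommGroup M] [Module A M] (x : A)

/-- the short exact sequence `0 → M → M → M/xM → 0` for an `M`-regular element `x` -/
lemma shortExact_smul (hx : IsSMulRegular M x) :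
    (ModuleCat.shortComplexOfCompEqZero (LinearMap.lsmul A M x)
      (Submodule.mkQ (x • (⊤ : Submodule A M))) (by
        ext m
        change Submodule.Quotient.mk (x • m) = 0
        rw [Submodule.Quotient.mk_eq_zero]
        exact Submodule.smul_mem_pointwise_smul m x ⊤ Submodule.mem_top)).ShortExact := by
  refine shortExact_of_exact _ _ (fun a b hab => hx hab) (Submodule.mkQ_surjective _) ?_
  intro y
  change Submodule.Quotient.mk y = 0 ↔ _
  rw [Submodule.Quotient.mk_eq_zero, Submodule.mem_smul_pointwise_iff_exists]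
  constructor
  · rintro ⟨z, -, hz⟩
    exact ⟨z, hz⟩
  · rintro ⟨z, hz⟩
    exact ⟨z, Submodule.mem_top, hz⟩

/-- if `Hom(M/xM, Y⟦1⟧) = 0` then every morphism `M ⟶ Y` is divisible by `x` -/
lemma exists_eq_smul_gen (hx : IsSMulRegular M x) (Y : Dual.D A)
    (h : Subsingleton (Dual.inD A (QuotSMulTop x M) ⟶ Y⟦(1 : ℤ)⟧))
    (f : Dual.inD A M ⟶ Y) : ∃ g : Dual.inD A M ⟶ Y, f = x • g := by
  obtain ⟨g, hg⟩ := exists_extension (shortExact_smul M x hx) Y h f
  refine ⟨g, ?_⟩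
  have h1 : (ModuleCat.ofHom (LinearMap.lsmul A M x) : ModuleCat.of A M ⟶ ModuleCat.of A M) =
      x • 𝟙 _ := by
    apply ModuleCat.hom_ext
    apply LinearMap.ext
    intro y
    rfl
  change f = (DerivedCategory.singleFunctor (ModuleCat.{u} A) 0).map
    (ModuleCat.ofHom (LinearMap.lsmul A M x)) ≫ g at hg
  rw [hg, h1, Functor.map_smul, CategoryTheory.Functor.map_id, Linear.smul_comp, id_comp]

end Regular

section Local

variable [IsLocalRing A] [IsNoetherianRing A] (ω : Dual.D A) (hω : Dual.IsDualizing A ω)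
  (M : Type u) [AddCommGroup M] [Module A M] [Module.Finite A M] (x : A)

include hω in
/-- finiteness of `Ext^j(M, ω)` -/
lemma finite_hom (j : ℤ) : Module.Finite A (Dual.inD A M ⟶ ω⟦j⟧) := by
  obtain ⟨a, b, hab⟩ := hω.finite_injective_dimension
  have hKa : ∀ j : ℤ, j < a → Subsingleton (Dual.HD A ω j) := fun j hj =>
    subsingleton_HD_of_subsingleton_hom ω j (hab A j (Or.inl hj))
  exact finite_hom_inD_shift (ModuleCat.of A M) ω a hKa hω.finite_cohomology j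

include hω in
/-- Nakayama: if `Ext^{j+1}(M/xM, ω) = 0` for an `M`-regular `x ∈ 𝔪`, then `Ext^j(M, ω) = 0` -/
theorem subsingleton_hom_of_regular (hx : IsSMulRegular M x)
    (hxm : x ∈ IsLocalRing.maximalIdeal A) (j : ℤ)
    (h : Subsingleton (Dual.inD A (QuotSMulTop x M) ⟶ ω⟦j + 1⟧)) :
    Subsingleton (Dual.inD A M ⟶ ω⟦j⟧) := by
  have h' : Subsingleton (Dual.inD A (QuotSMulTop x M) ⟶ (ω⟦j⟧)⟦(1 : ℤ)⟧) :=
    (((shiftFunctorAdd' (Dual.D A) j 1 (j + 1) rfl).app ω).homToEquiv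
      (Z := Dual.inD A (QuotSMulTop x M))).subsingleton_congr.1 h
  haveI hfin : Module.Finite A (Dual.inD A M ⟶ ω⟦j⟧) := finite_hom ω hω M j
  have hdiv : ∀ f : Dual.inD A M ⟶ ω⟦j⟧, ∃ g, f = x • g := fun f =>
    exists_eq_smul_gen M x hx (ω⟦j⟧) h' f
  have htop : (⊤ : Submodule A (Dual.inD A M ⟶ ω⟦j⟧)) = ⊥ := by
    refine Submodule.eq_bot_of_le_smul_of_le_jacobson_bot (IsLocalRing.maximalIdeal A) ⊤
      Module.Finite.fg_top ?_ ?_
    · intro f _
      obtain ⟨g, rfl⟩ := hdiv f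
      exact Submodule.smul_mem_smul hxm Submodule.mem_top
    · rw [IsLocalRing.jacobson_eq_maximalIdeal ⊥ bot_ne_top]
  refine ⟨fun f g => ?_⟩
  have hf : f ∈ (⊤ : Submodule A (Dual.inD A M ⟶ ω⟦j⟧)) := Submodule.mem_top
  have hg : g ∈ (⊤ : Submodule A (Dual.inD A M ⟶ ω⟦j⟧)) := Submodule.mem_top
  rw [htop, Submodule.mem_bot] at hf hg
  rw [hf, hg]

omit [IsLocalRing A] [IsNoetherianRing A] [Module.Finite A M] in
/-- if `Ext^j(M, ω) = 0 = Ext^{j+1}(M, ω)` then `Ext^{j+1}(M/xM, ω) = 0` -/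
theorem subsingleton_hom_quotSMulTop (hx : IsSMulRegular M x) (j : ℤ)
    (h₁ : Subsingleton (Dual.inD A M ⟶ ω⟦j⟧)) (h₂ : Subsingleton (Dual.inD A M ⟶ ω⟦j + 1⟧)) :
    Subsingleton (Dual.inD A (QuotSMulTop x M) ⟶ ω⟦j + 1⟧) := by
  have h₂' : Subsingleton (Dual.inD A M ⟶ (ω⟦j⟧)⟦(1 : ℤ)⟧) :=
    (((shiftFunctorAdd' (Dual.D A) j 1 (j + 1) rfl).app ω).homToEquiv
      (Z := Dual.inD A M)).subsingleton_congr.1 h₂
  have h3 : Subsingleton (Dual.inD A (QuotSMulTop x M) ⟶ (ω⟦j⟧)⟦(1 : ℤ)⟧) :=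
    subsingleton_hom_right_shift (shortExact_smul M x hx) (ω⟦j⟧) h₁ h₂'
  exact (((shiftFunctorAdd' (Dual.D A) j 1 (j + 1) rfl).app ω).homToEquiv
      (Z := Dual.inD A (QuotSMulTop x M))).subsingleton_congr.2 h3

end Local

end Groth.Agent.Lib.H6xDep
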