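import Mathlib
import Groth.Agent.Lib.H6xDepA
set_option backward.isDefEq.respectTransparency.types false

/-!
# Depth via `Ext` into a normalized dualizing complex (helper6)
-/

set_option autoImplicit false
set_option linter.style.haveILetI false
universe u

namespace Groth.Agent.Lib.H6xDep

open CategoryTheory CategoryTheory.Limits Category Pretriangulated DerivedCategory
open Groth.Agent.Lib.H6xCoext Groth.Agent.Lib.H6xDual Groth.Agent.Lib.H6xBid
open Groth.Agent.Lib.Helper28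
open Pointwise
attribute [local instance] HasDerivedCategory.standard

variable {A : Type u} [CommRing A] [IsLocalRing A] [IsNoetherianRing A] (ω : Dual.D A)
  (hω : Dual.IsDualizing A ω) (hn : Dual.IsNormalized A ω)

include hω hn in
/-- `Ext^0(κ, ω) ≠ 0` -/
lemma nontrivial_hom_residue (j : ℤ) (hj : j = 0) :
    Nontrivial (Dual.inD A (A ⧸ IsLocalRing.maximalIdeal A) ⟶ ω⟦j⟧) := by
  subst hj
  obtain ⟨n₀, -, ⟨e⟩⟩ := ext_residueField_single_degree A ω hω (IsLocalRing.maximalIdeal A)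
  haveI : Nontrivial (Dual.inD A (A ⧸ IsLocalRing.maximalIdeal A) ⟶ ω⟦n₀⟧) :=
    e.toEquiv.nontrivial
  by_cases h0 : n₀ = 0
  · subst h0
    infer_instance
  · exfalso
    have h1 : Subsingleton (Dual.inD A (A ⧸ IsLocalRing.maximalIdeal A) ⟶ ω⟦n₀⟧) := hn n₀ h0
    exact not_subsingleton _ h1

include hω hn in
/-- a module of depth zero has `Ext^0(M, ω) ≠ 0` -/
lemma nontrivial_hom_of_depth_zero (M : Type u) [AddCommGroup M] [Module A M] [Module.Finite A M]
    (h : LocCoh.depth A M = 0) (j : ℤ) (hj : j = 0) :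
    Nontrivial (Dual.inD A M ⟶ ω⟦j⟧) := by
  have hass := (depth_eq_zero_iff (R := A) (M := M)).1 h
  obtain ⟨-, f, hf⟩ := (isAssociatedPrime_iff_exists_injective_linearMap _ _).1 hass
  have hS := Groth.Agent.Lib.H6xDual.shortExact_of_exact f (Submodule.mkQ (LinearMap.range f)) hf
    (Submodule.mkQ_surjective _) (LinearMap.exact_map_mkQ_range f)
  haveI := nontrivial_hom_residue ω hω hn j hj
  obtain ⟨t, ht⟩ := exists_ne (0 : Dual.inD A (A ⧸ IsLocalRing.maximalIdeal A) ⟶ ω⟦j⟧)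
  have h₃ : Subsingleton (Dual.inD A (M ⧸ LinearMap.range f) ⟶ (ω⟦j⟧)⟦(1 : ℤ)⟧) := by
    have h4 := subsingleton_hom_pos ω hω hn (M ⧸ LinearMap.range f) (j + 1) (by omega)
    exact (((shiftFunctorAdd' (Dual.D A) j 1 (j + 1) rfl).app ω).homToEquiv
      (Z := Dual.inD A (M ⧸ LinearMap.range f))).subsingleton_congr.1 h4
  obtain ⟨g, hg⟩ := exists_extension hS (ω⟦j⟧) h₃ t
  refine ⟨⟨g, 0, fun hg0 => ht ?_⟩⟩
  rw [hg, hg0, comp_zero]

include hω hn in
/-- the depth of `M` is the least `δ` with `Ext^{-δ}(M, ω) ≠ 0` -/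
theorem depth_ext (n : ℕ) : ∀ (M : Type u) [AddCommGroup M] [Module A M] [Module.Finite A M]
    [Nontrivial M], LocCoh.depth A M = n →
    (∀ δ : ℕ, δ < n → Subsingleton (Dual.inD A M ⟶ ω⟦(-(δ : ℤ))⟧)) ∧
      Nontrivial (Dual.inD A M ⟶ ω⟦(-(n : ℤ))⟧) := by
  induction n with
  | zero =>
    intro M _ _ _ _ h
    refine ⟨fun δ hδ => absurd hδ (Nat.not_lt_zero _), ?_⟩
    exact nontrivial_hom_of_depth_zero ω hω hn M (by simpa using h) _ (by simp)
  | succ n ih =>
    intro M _ _ _ _ h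
    have hIM : IsLocalRing.maximalIdeal A • (⊤ : Submodule A M) ≠ ⊤ :=
      maximalIdeal_smul_top_ne_top
    have h1 : 1 ≤ LocCoh.idealDepth (IsLocalRing.maximalIdeal A) M := by
      change 1 ≤ LocCoh.depth A M
      rw [h]
      exact_mod_cast Nat.succ_le_succ (Nat.zero_le n)
    obtain ⟨x, hxm, hreg⟩ := (one_le_idealDepth_iff hIM).1 h1
    have h2 := idealDepth_quotSMulTop_add_one (IsLocalRing.maximalIdeal A) M hIM x hxm hreg
    have h3 : LocCoh.depth A (QuotSMulTop x M) = n := by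
      have h4 : LocCoh.depth A (QuotSMulTop x M) + 1 = (n : ℕ∞) + 1 := by
        change LocCoh.idealDepth (IsLocalRing.maximalIdeal A) (QuotSMulTop x M) + 1 = _
        rw [h2]
        change LocCoh.depth A M = _
        rw [h]
        push_cast
        rfl
      exact (ENat.add_left_injective_of_ne_top ENat.one_ne_top) h4
    haveI : Nontrivial (QuotSMulTop x M) := by
      by_contra hnt
      rw [not_nontrivial_iff_subsingleton] at hnt
      have h5 : LocCoh.depth A (QuotSMulTop x M) = ⊤ := depth_eq_top_of_subsingleton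
      rw [h3] at h5
      exact ENat.natCast_ne_top n h5
    obtain ⟨iha, ihb⟩ := ih (QuotSMulTop x M) h3
    have part1 : ∀ δ : ℕ, δ < n + 1 → Subsingleton (Dual.inD A M ⟶ ω⟦(-(δ : ℤ))⟧) := by
      intro δ hδ
      apply subsingleton_hom_of_regular ω hω M x hreg hxm
      rcases Nat.eq_zero_or_pos δ with rfl | hpos
      · exact subsingleton_hom_pos ω hω hn (QuotSMulTop x M) _ (by simp)
      · have h6 : (-(δ : ℤ) + 1) = -(((δ - 1 : ℕ)) : ℤ) := by
          rw [Nat.cast_sub hpos]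
          push_cast
          ring
        rw [h6]
        exact iha (δ - 1) (by omega)
    refine ⟨part1, ?_⟩
    by_contra hnt
    rw [not_nontrivial_iff_subsingleton] at hnt
    have h7 : Subsingleton (Dual.inD A M ⟶ ω⟦(-((n + 1 : ℕ) : ℤ)) + 1⟧) := by
      have h8 : (-((n + 1 : ℕ) : ℤ)) + 1 = -(n : ℤ) := by
        push_cast
        ring
      rw [h8]
      exact part1 n (Nat.lt_succ_self n)
    have h9 := subsingleton_hom_quotSMulTop ω M x hreg (-((n + 1 : ℕ) : ℤ)) hnt h7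
    have h8 : (-((n + 1 : ℕ) : ℤ)) + 1 = -(n : ℤ) := by
      push_cast
      ring
    rw [h8] at h9
    exact not_subsingleton _ h9

include hω hn in
/-- **S0367** -/
theorem depth_eq_iff_ext (M : Type u) [AddCommGroup M] [Module A M] [Module.Finite A M]
    [Nontrivial M] (n : ℕ) :
    LocCoh.depth A M = n ↔
      ((∀ δ : ℕ, δ < n → Subsingleton (Dual.inD A M ⟶ ω⟦(-(δ : ℤ))⟧)) ∧
        Nontrivial (Dual.inD A M ⟶ ω⟦(-(n : ℤ))⟧)) := by
  constructor
  · intro h
    exact depth_ext ω hω hn n M h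
  · rintro ⟨h1, h2⟩
    have hne : LocCoh.depth A M ≠ ⊤ := Groth.Agent.Lib.Helper5.depth_ne_top
    obtain ⟨d, hd⟩ := ENat.ne_top_iff_exists.1 hne
    obtain ⟨h3, h4⟩ := depth_ext ω hω hn d M hd.symm
    rcases lt_trichotomy d n with hlt | heq | hgt
    · exact absurd (h1 d hlt) (not_subsingleton _)
    · rw [← hd, heq]
    · exact absurd (h3 n hgt) (not_subsingleton _)

include hω hn in
/-- **S0365** -/
theorem depth_self_eq_iff (n : ℕ) :
    LocCoh.depth A A = n ↔
      ((∀ δ : ℕ, δ < n → Subsingleton (Dual.HD A ω (-(δ : ℤ)))) ∧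
        Nontrivial (Dual.HD A ω (-(n : ℤ)))) := by
  rw [depth_eq_iff_ext ω hω hn A n]
  have key : ∀ q : ℤ, Nonempty ((Dual.inD A A ⟶ ω⟦q⟧) ≃ Dual.HD A ω q) := fun q => by
    obtain ⟨e⟩ := nonempty_hom_linearEquiv_HD ω q
    exact ⟨e.toEquiv⟩
  constructor
  · rintro ⟨h1, h2⟩
    refine ⟨fun δ hδ => ?_, ?_⟩
    · obtain ⟨e⟩ := key (-(δ : ℤ))
      haveI := h1 δ hδ
      exact e.symm.subsingleton
    · obtain ⟨e⟩ := key (-(n : ℤ))
      exact e.symm.nontrivial
  · rintro ⟨h1, h2⟩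
    refine ⟨fun δ hδ => ?_, ?_⟩
    · obtain ⟨e⟩ := key (-(δ : ℤ))
      haveI := h1 δ hδ
      exact e.subsingleton
    · obtain ⟨e⟩ := key (-(n : ℤ))
      exact e.nontrivial

end Groth.Agent.Lib.H6xDep
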