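import Mathlib
import Groth.Agent.Lib.H6xDepB
set_option backward.isDefEq.respectTransparency.types false

/-!
# Vanishing of `Ext^{-δ}(M, ω)` for `δ > dim M`, and Cohen–Macaulay modules (helper6)
-/

set_option autoImplicit false
set_option linter.style.haveILetI false
universe u

namespace Groth.Agent.Lib.H6xDep

open CategoryTheory CategoryTheory.Limits Category Pretriangulated DerivedCategory
open Groth.Agent.Lib.H6xCoext Groth.Agent.Lib.H6xDual Groth.Agent.Lib.H6xBid
open Groth.Agent.Lib.Helper28
open Pointwise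
attribute [local instance] HasDerivedCategory.standard

variable {A : Type u} [CommRing A] [IsLocalRing A] [IsNoetherianRing A] (ω : Dual.D A)
  (hω : Dual.IsDualizing A ω) (hn : Dual.IsNormalized A ω)

omit [IsLocalRing A] [IsNoetherianRing A] in
lemma subsingleton_hom_of_subsingleton (M : Type u) [AddCommGroup M] [Module A M]
    [Subsingleton M] (Y : Dual.D A) : Subsingleton (Dual.inD A M ⟶ Y) := by
  have hz : IsZero (ModuleCat.of A M) := ModuleCat.isZero_of_subsingleton _
  have hz' : IsZero (Dual.inD A M) := Functor.map_isZero _ hz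
  exact ⟨fun f g => hz'.eq_of_src f g⟩

lemma withBot_le_of_add_one_le (a : WithBot ℕ∞) (d₀ : ℕ)
    (h : a + 1 ≤ ((d₀ + 1 : ℕ) : WithBot ℕ∞)) : a ≤ (d₀ : WithBot ℕ∞) := by
  induction a using WithBot.recBotCoe with
  | bot => exact bot_le
  | coe a =>
    have h1 : ((a + 1 : ℕ∞) : WithBot ℕ∞) ≤ (((d₀ + 1 : ℕ) : ℕ∞) : WithBot ℕ∞) := by
      exact_mod_cast h
    rw [WithBot.coe_le_coe] at h1
    have h2 : a ≤ (d₀ : ℕ∞) := by
      have h3 : a + 1 ≤ (d₀ : ℕ∞) + 1 := by exact_mod_cast h1
      exact (ENat.add_le_add_iff_right ENat.one_ne_top).1 h3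
    exact_mod_cast WithBot.coe_le_coe.2 h2

lemma withBot_false_of_add_one_le_zero (a : WithBot ℕ∞) (ha : a ≠ ⊥)
    (h : a + 1 ≤ ((0 : ℕ) : WithBot ℕ∞)) : False := by
  induction a using WithBot.recBotCoe with
  | bot => exact ha rfl
  | coe a =>
    have h1 : ((a + 1 : ℕ∞) : WithBot ℕ∞) ≤ ((0 : ℕ∞) : WithBot ℕ∞) := by
      exact_mod_cast h
    rw [WithBot.coe_le_coe] at h1
    simp at h1

include hω hn in
/-- `Ext^{-δ}(M, ω) = 0` for `δ > dim M` -/
theorem subsingleton_hom_of_supportDim_lt (d : ℕ) :
    ∀ (M : Type u) [AddCommGroup M] [Module A M] [Module.Finite A M],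
      Module.supportDim A M ≤ (d : WithBot ℕ∞) → ∀ δ : ℕ, d < δ →
      Subsingleton (Dual.inD A M ⟶ ω⟦(-(δ : ℤ))⟧) := by
  induction d using Nat.strong_induction_on with
  | _ d IH =>
    intro M _ _ hM
    induction hM using IsNoetherianRing.induction_on_isQuotientEquivQuotientPrime A with
    | subsingleton N =>
      intro _ δ _
      exact subsingleton_hom_of_subsingleton N _
    | quotient N p e =>
      intro hdim δ hδ
      refine subsingleton_hom_of_linearEquiv e _ ?_
      have hdim' : Module.supportDim A (A ⧸ p.asIdeal) ≤ (d : WithBot ℕ∞) := by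
        rw [← Module.supportDim_eq_of_equiv e]
        exact hdim
      by_cases hp : p.asIdeal = IsLocalRing.maximalIdeal A
      · have h1 := hn (-(δ : ℤ)) (by omega)
        exact subsingleton_hom_of_linearEquiv
          (Submodule.quotEquivOfEq p.asIdeal (IsLocalRing.maximalIdeal A) hp) _ h1
      · have hle : p.asIdeal ≤ IsLocalRing.maximalIdeal A := IsLocalRing.le_maximalIdeal p.2.ne_top
        obtain ⟨x, hxm, hxp⟩ : ∃ x ∈ IsLocalRing.maximalIdeal A, x ∉ p.asIdeal := by
          by_contra hcon
          push Not at hcon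
          exact hp (le_antisymm hle hcon)
        haveI := p.2
        have hreg : IsSMulRegular (A ⧸ p.asIdeal) x := by
          intro y y' hyy
          obtain ⟨y, rfl⟩ := Ideal.Quotient.mk_surjective y
          obtain ⟨y', rfl⟩ := Ideal.Quotient.mk_surjective y'
          have h1 : Ideal.Quotient.mk p.asIdeal (x * (y - y')) = 0 := by
            rw [mul_sub, map_sub, sub_eq_zero]
            exact hyy
          rw [Ideal.Quotient.eq_zero_iff_mem] at h1
          have h2 := (Ideal.IsPrime.mem_or_mem inferInstance h1).resolve_left hxp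
          rw [← sub_eq_zero, ← map_sub, Ideal.Quotient.eq_zero_iff_mem]
          exact h2
        apply subsingleton_hom_of_regular ω hω (A ⧸ p.asIdeal) x hreg hxm
        rcases subsingleton_or_nontrivial (QuotSMulTop x (A ⧸ p.asIdeal)) with hs | hnt
        · exact subsingleton_hom_of_subsingleton _ _
        · have hdim2 := Module.supportDim_quotSMulTop_succ_eq_supportDim hreg hxm
          have hne : Module.supportDim A (QuotSMulTop x (A ⧸ p.asIdeal)) ≠ ⊥ :=
            Module.supportDim_ne_bot_of_nontrivial A _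
          have hle2 : Module.supportDim A (QuotSMulTop x (A ⧸ p.asIdeal)) + 1 ≤
              (d : WithBot ℕ∞) := by
            rw [hdim2]
            exact hdim'
          rcases Nat.eq_zero_or_pos d with rfl | hdpos
          · exact (withBot_false_of_add_one_le_zero _ hne hle2).elim
          · obtain ⟨d₀, rfl⟩ : ∃ d₀, d = d₀ + 1 := ⟨d - 1, by omega⟩
            have h3 := IH d₀ (Nat.lt_succ_self d₀) (QuotSMulTop x (A ⧸ p.asIdeal))
              (withBot_le_of_add_one_le _ d₀ hle2) (δ - 1) (by omega)
            have h6 : (-(δ : ℤ) + 1) = -(((δ - 1 : ℕ)) : ℤ) := by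
              rw [Nat.cast_sub (by omega)]
              push_cast
              ring
            rw [h6]
            exact h3
    | exact N₁ N₂ N₃ f g hf hg hfg h₁ h₃ =>
      intro hdim δ hδ
      exact subsingleton_hom_mid (Groth.Agent.Lib.H6xDual.shortExact_of_exact f g hf hg hfg) _
        (h₁ (le_trans (Module.supportDim_le_of_injective f hf) hdim) δ hδ)
        (h₃ (le_trans (Module.supportDim_le_of_surjective g hg) hdim) δ hδ)

include hω hn in
/-- **S0368** -/
theorem cohenMacaulay_iff_ext (M : Type u) [AddCommGroup M] [Module A M] [Module.Finite A M]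
    [Nontrivial M] (d : ℕ) (hd : Module.supportDim A M = d) :
    LocCoh.IsCohenMacaulayModule A M ↔
      ∀ i : ℤ, i ≠ d → Subsingleton (Dual.inD A M ⟶ ω⟦(-i)⟧) := by
  have hne : LocCoh.depth A M ≠ ⊤ := Groth.Agent.Lib.Helper5.depth_ne_top
  obtain ⟨d', hd'⟩ := ENat.ne_top_iff_exists.1 hne
  obtain ⟨h3, h4⟩ := depth_ext ω hω hn d' M hd'.symm
  unfold LocCoh.IsCohenMacaulayModule
  rw [hd, ← hd']
  constructor
  · intro hcm i hi
    have hdd : d = d' := by exact_mod_cast hcm
    subst hdd
    rcases lt_trichotomy i (d : ℤ) with hlt | heq | hgt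
    · rcases lt_or_ge i 0 with hneg | hpos
      · exact subsingleton_hom_pos ω hω hn M (-i) (by omega)
      · obtain ⟨k, rfl⟩ := Int.eq_ofNat_of_zero_le hpos
        exact h3 k (by exact_mod_cast hlt)
    · exact absurd heq hi
    · obtain ⟨k, rfl⟩ := Int.eq_ofNat_of_zero_le (by omega : 0 ≤ i)
      exact subsingleton_hom_of_supportDim_lt ω hω hn d M (le_of_eq hd) k (by exact_mod_cast hgt)
  · intro h
    have hdd : d = d' := by
      by_contra hne'
      have hcast : ((d' : ℕ) : ℤ) ≠ (d : ℤ) := by
        intro h'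
        exact hne' (by exact_mod_cast h'.symm)
      have := h (d' : ℤ) hcast
      exact not_subsingleton _ this
    subst hdd
    rfl

end Groth.Agent.Lib.H6xDep
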