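import Mathlib
import Groth.Agent.Lib.H6xDepC
set_option backward.isDefEq.respectTransparency.types false

/-!
# Dimension of the support of `Ext^{-j}(M, ω)` (helper6)
-/

set_option autoImplicit false
set_option linter.style.haveILetI false
universe u

namespace Groth.Agent.Lib.H6xDep

open CategoryTheory CategoryTheory.Limits Category Pretriangulated DerivedCategory
open Groth.Agent.Lib.H6xCoext Groth.Agent.Lib.H6xDual Groth.Agent.Lib.H6xBid
open Pointwise
attribute [local instance] HasDerivedCategory.standard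

section Support

variable {A : Type u} [CommRing A]

/-- the support dimension is subadditive along sequences exact in the middle -/
lemma supportDim_le_of_exact {E₃ E₂ E₁ : Type*} [AddCommGroup E₃] [Module A E₃]
    [AddCommGroup E₂] [Module A E₂] [AddCommGroup E₁] [Module A E₁] (f : E₃ →ₗ[A] E₂)
    (g : E₂ →ₗ[A] E₁) (h : Function.Exact f g) (b : WithBot ℕ∞)
    (h₃ : Module.supportDim A E₃ ≤ b) (h₁ : Module.supportDim A E₁ ≤ b) :
    Module.supportDim A E₂ ≤ b := by
  have hsub : Module.support A E₂ ⊆ Module.support A E₃ ∪ Module.support A E₁ := by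
    have h1 := Module.support_of_exact (LinearMap.exact_subtype_mkQ (LinearMap.range f))
      (Submodule.injective_subtype _) (Submodule.mkQ_surjective _)
    rw [h1]
    apply Set.union_subset_union
    · exact Module.support_subset_of_surjective f.rangeRestrict f.surjective_rangeRestrict
    · have hle : LinearMap.range f ≤ LinearMap.ker g := by
        rw [LinearMap.exact_iff.1 h]
      refine Module.support_subset_of_injective ((LinearMap.range f).liftQ g hle) ?_
      rw [← LinearMap.ker_eq_bot]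
      apply Submodule.ker_liftQ_eq_bot
      rw [LinearMap.exact_iff.1 h]
  unfold Module.supportDim Order.krullDim
  refine iSup_le fun p => ?_
  have key : ∀ (S : Set (PrimeSpectrum A)) (b' : WithBot ℕ∞), Order.krullDim S ≤ b' →
      (∀ x y : PrimeSpectrum A, x ≤ y → x ∈ S → y ∈ S) → (p.head : PrimeSpectrum A) ∈ S →
      (p.length : WithBot ℕ∞) ≤ b' := by
    intro S b' hS hup hhead
    let q : LTSeries S :=
      { length := p.length
        toFun := fun i => ⟨(p i).1, hup _ _ (p.head_le i) hhead⟩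
        step := fun i => p.step i }
    exact le_trans (Order.LTSeries.length_le_krullDim q) hS
  rcases hsub p.head.2 with h3 | h1'
  · exact key _ b h₃ (fun x y hxy hx => Module.mem_support_mono hxy hx) h3
  · exact key _ b h₁ (fun x y hxy hx => Module.mem_support_mono hxy hx) h1'

/-- a module killed by the annihilator of a finite module `M` has support dimension at most that
of `M` -/
lemma supportDim_le_of_annihilator_le (M E : Type*) [AddCommGroup M] [Module A M]
    [Module.Finite A M] [AddCommGroup E] [Module A E]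
    (h : Module.annihilator A M ≤ Module.annihilator A E) :
    Module.supportDim A E ≤ Module.supportDim A M := by
  have hsub : Module.support A E ⊆ Module.support A M := by
    intro p hp
    rw [Module.support_eq_zeroLocus, PrimeSpectrum.mem_zeroLocus]
    exact le_trans h (Module.annihilator_le_of_mem_support hp)
  exact Order.krullDim_le_of_strictMono (Set.inclusion hsub)
    (fun a b hab => hab)

end Support

variable {A : Type u} [CommRing A]

section Conn

variable (ω : Dual.D A) (M : Type u) [AddCommGroup M] [Module A M] (x : A)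

/-- `Ext^j(M, ω)/x ↪ Ext^{j+1}(M/xM, ω)` for an `M`-regular element `x` -/
theorem exists_injective_quotSMulTop_hom (hx : IsSMulRegular M x) (j : ℤ) :
    ∃ Δ : QuotSMulTop x (Dual.inD A M ⟶ ω⟦j⟧) →ₗ[A]
      (Dual.inD A (QuotSMulTop x M) ⟶ ω⟦j + 1⟧), Function.Injective Δ := by
  have hS := shortExact_smul M x hx
  have hT := inv_rot_of_distTriang _ hS.singleTriangle_distinguished
  -- the connecting map
  let Δ₀ : (Dual.inD A M ⟶ ω⟦j⟧) →ₗ[A]
      ((Dual.inD A (QuotSMulTop x M))⟦(-1 : ℤ)⟧ ⟶ ω⟦j⟧) :=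
    Linear.leftComp A (ω⟦j⟧) hS.singleTriangle.invRotate.mor₁
  have h1 : (ModuleCat.ofHom (LinearMap.lsmul A M x) : ModuleCat.of A M ⟶ ModuleCat.of A M) =
      x • 𝟙 _ := by
    apply ModuleCat.hom_ext
    apply LinearMap.ext
    intro y
    rfl
  have hker : ∀ f : Dual.inD A M ⟶ ω⟦j⟧, Δ₀ f = 0 → ∃ g : Dual.inD A M ⟶ ω⟦j⟧, f = x • g := by
    intro f hf
    obtain ⟨g, hg⟩ := Triangle.yoneda_exact₂ _ hT f hf
    refine ⟨g, ?_⟩
    change f = (DerivedCategory.singleFunctor (ModuleCat.{u} A) 0).map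
      (ModuleCat.ofHom (LinearMap.lsmul A M x)) ≫ g at hg
    rw [hg, h1, Functor.map_smul, CategoryTheory.Functor.map_id, Linear.smul_comp, id_comp]
  have hzero : ∀ g : Dual.inD A M ⟶ ω⟦j⟧, Δ₀ (x • g) = 0 := by
    intro g
    have h2 : x • g = (DerivedCategory.singleFunctor (ModuleCat.{u} A) 0).map
        (ModuleCat.ofHom (LinearMap.lsmul A M x)) ≫ g := by
      rw [h1, Functor.map_smul, CategoryTheory.Functor.map_id, Linear.smul_comp, id_comp]
    have h3 : hS.singleTriangle.invRotate.mor₁ ≫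
        (DerivedCategory.singleFunctor (ModuleCat.{u} A) 0).map
          (ModuleCat.ofHom (LinearMap.lsmul A M x)) = 0 :=
      comp_distTriang_mor_zero₁₂ _ hT
    change hS.singleTriangle.invRotate.mor₁ ≫ (x • g) = 0
    rw [h2]
    exact (assoc _ _ _).symm.trans ((congrArg (fun t => t ≫ g) h3).trans zero_comp)
  have hle : x • (⊤ : Submodule A (Dual.inD A M ⟶ ω⟦j⟧)) ≤ LinearMap.ker Δ₀ := by
    intro f hf
    obtain ⟨g, -, rfl⟩ := (Submodule.mem_smul_pointwise_iff_exists _ _ _).1 hf
    exact hzero g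
  let Δ₁ : QuotSMulTop x (Dual.inD A M ⟶ ω⟦j⟧) →ₗ[A]
      ((Dual.inD A (QuotSMulTop x M))⟦(-1 : ℤ)⟧ ⟶ ω⟦j⟧) :=
    Submodule.liftQ _ Δ₀ hle
  have hinj : Function.Injective Δ₁ := by
    rw [← LinearMap.ker_eq_bot]
    apply Submodule.ker_liftQ_eq_bot
    intro f hf
    obtain ⟨g, rfl⟩ := hker f hf
    exact Submodule.smul_mem_pointwise_smul g x ⊤ Submodule.mem_top
  let e₁ : ((Dual.inD A (QuotSMulTop x M))⟦(-1 : ℤ)⟧ ⟶ ω⟦j⟧) ≃ₗ[A]
      (Dual.inD A (QuotSMulTop x M) ⟶ (ω⟦j⟧)⟦(1 : ℤ)⟧) :=
    shiftHomLinearEquiv _ _ 1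
  let e₂ : (Dual.inD A (QuotSMulTop x M) ⟶ (ω⟦j⟧)⟦(1 : ℤ)⟧) ≃ₗ[A]
      (Dual.inD A (QuotSMulTop x M) ⟶ ω⟦j + 1⟧) :=
    Linear.homCongr A (Iso.refl _) ((shiftFunctorAdd' (Dual.D A) j 1 (j + 1) rfl).app ω).symm
  exact ⟨(e₁.trans e₂).toLinearMap ∘ₗ Δ₁, (e₁.trans e₂).injective.comp hinj⟩

end Conn

end Groth.Agent.Lib.H6xDep
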