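import Mathlib
import Groth.Agent.Lib.H6xDepD
set_option backward.isDefEq.respectTransparency.types false

/-!
# `dim Supp Ext^{-j}(M, ω) ≤ j` for a normalized dualizing complex (helper6)
-/

set_option autoImplicit false
set_option linter.style.haveILetI false
universe u

namespace Groth.Agent.Lib.H6xDep

open CategoryTheory CategoryTheory.Limits Category Pretriangulated DerivedCategory
open Groth.Agent.Lib.H6xCoext Groth.Agent.Lib.H6xDual Groth.Agent.Lib.H6xBid
open Pointwise
attribute [local instance] HasDerivedCategory.standard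

variable {A : Type u} [CommRing A]

/-- the annihilator of `M` kills `Hom(M, Y)` -/
lemma annihilator_le_hom (M : Type u) [AddCommGroup M] [Module A M] (Y : Dual.D A) :
    Module.annihilator A M ≤ Module.annihilator A (Dual.inD A M ⟶ Y) := by
  intro a ha
  rw [Module.mem_annihilator] at ha ⊢
  intro f
  have h1 : (a • 𝟙 (ModuleCat.of A M) : ModuleCat.of A M ⟶ ModuleCat.of A M) = 0 := by
    apply ModuleCat.hom_ext
    apply LinearMap.ext
    intro m
    exact ha m
  have h2 : a • f = (DerivedCategory.singleFunctor (ModuleCat.{u} A) 0).map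
      (a • 𝟙 (ModuleCat.of A M)) ≫ f := by
    rw [Functor.map_smul, CategoryTheory.Functor.map_id, Linear.smul_comp, id_comp]
  rw [h2, h1, Functor.map_zero, zero_comp]

section Exact

variable {S : ShortComplex (ModuleCat.{u} A)} (hS : S.ShortExact) (Y : Dual.D A)

include hS in
lemma exact_leftComp : Function.Exact
    (Linear.leftComp A Y ((DerivedCategory.singleFunctor (ModuleCat.{u} A) 0).map S.g))
    (Linear.leftComp A Y ((DerivedCategory.singleFunctor (ModuleCat.{u} A) 0).map S.f)) := by
  intro f
  constructor
  · intro hf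
    obtain ⟨g, hg⟩ := exists_of_comp_eq_zero hS Y f hf
    exact ⟨g, hg.symm⟩
  · rintro ⟨g, rfl⟩
    change (DerivedCategory.singleFunctor (ModuleCat.{u} A) 0).map S.f ≫
      (DerivedCategory.singleFunctor (ModuleCat.{u} A) 0).map S.g ≫ g = 0
    rw [← assoc, ← Functor.map_comp, S.zero, Functor.map_zero, zero_comp]

end Exact

variable [IsLocalRing A] [IsNoetherianRing A] (ω : Dual.D A)
  (hω : Dual.IsDualizing A ω) (hn : Dual.IsNormalized A ω)

include hω hn in
theorem supportDim_hom_le (d : ℕ) :
    ∀ (M : Type u) [AddCommGroup M] [Module A M] [Module.Finite A M],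
      Module.supportDim A M ≤ (d : WithBot ℕ∞) → ∀ j : ℕ,
      Module.supportDim A (Dual.inD A M ⟶ ω⟦(-(j : ℤ))⟧) ≤ (j : WithBot ℕ∞) := by
  induction d using Nat.strong_induction_on with
  | _ d IH =>
    intro M _ _ hM
    induction hM using IsNoetherianRing.induction_on_isQuotientEquivQuotientPrime A with
    | subsingleton N =>
      intro _ j
      haveI := subsingleton_hom_of_subsingleton N (ω⟦(-(j : ℤ))⟧)
      rw [Module.supportDim_eq_bot_of_subsingleton]
      exact bot_le
    | quotient N p e =>
      intro hdim j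
      rw [Module.supportDim_eq_of_equiv (Linear.homCongr A
        ((DerivedCategory.singleFunctor (ModuleCat.{u} A) 0).mapIso e.toModuleIso)
        (Iso.refl (ω⟦(-(j : ℤ))⟧)))]
      change Module.supportDim A (Dual.inD A (A ⧸ p.asIdeal) ⟶ ω⟦(-(j : ℤ))⟧) ≤ _
      have hdim' : Module.supportDim A (A ⧸ p.asIdeal) ≤ (d : WithBot ℕ∞) := by
        rw [← Module.supportDim_eq_of_equiv e]
        exact hdim
      have hgen : Module.supportDim A (Dual.inD A (A ⧸ p.asIdeal) ⟶ ω⟦(-(j : ℤ))⟧) ≤
          Module.supportDim A (A ⧸ p.asIdeal) :=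
        supportDim_le_of_annihilator_le _ _ (annihilator_le_hom _ _)
      rcases le_or_gt d j with hdj | hjd
      · refine le_trans hgen (le_trans hdim' ?_)
        exact_mod_cast hdj
      · by_cases hp : p.asIdeal = IsLocalRing.maximalIdeal A
        · refine le_trans hgen ?_
          rw [hp, Module.supportDim_quotient_eq_ringKrullDim]
          letI : Field (A ⧸ IsLocalRing.maximalIdeal A) :=
            Ideal.Quotient.field (IsLocalRing.maximalIdeal A)
          rw [ringKrullDim_eq_zero_of_field]
          exact_mod_cast Nat.zero_le j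
        · have hle : p.asIdeal ≤ IsLocalRing.maximalIdeal A :=
            IsLocalRing.le_maximalIdeal p.2.ne_top
          obtain ⟨x, hxm, hxp⟩ : ∃ x ∈ IsLocalRing.maximalIdeal A, x ∉ p.asIdeal := by
            by_contra hcon
            push Not at hcon
            exact hp (le_antisymm hle hcon)
          haveI := p.2
          have hreg : IsSMulRegular (A ⧸ p.asIdeal) x := by
            intro y y' hyy
            obtain ⟨y, rfl⟩ := Ideal.Quotient.mk_surjective y
            obtain ⟨y', rfl⟩ := Ideal.Quotient.mk_surjective y'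
            have h1 : Ideal.Quotient.mk p.asIdeal (x * (y - y')) = 0 := by
              rw [mul_sub, map_sub, sub_eq_zero]
              exact hyy
            rw [Ideal.Quotient.eq_zero_iff_mem] at h1
            have h2 := (Ideal.IsPrime.mem_or_mem inferInstance h1).resolve_left hxp
            rw [← sub_eq_zero, ← map_sub, Ideal.Quotient.eq_zero_iff_mem]
            exact h2
          haveI : Module.Finite A (Dual.inD A (A ⧸ p.asIdeal) ⟶ ω⟦(-(j : ℤ))⟧) :=
            finite_hom ω hω _ _
          have hstep := Module.supportDim_le_supportDim_quotSMulTop_succ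
            (M := (Dual.inD A (A ⧸ p.asIdeal) ⟶ ω⟦(-(j : ℤ))⟧)) hxm
          obtain ⟨Δ, hΔ⟩ := exists_injective_quotSMulTop_hom ω (A ⧸ p.asIdeal) x hreg (-(j : ℤ))
          have hinj := Module.supportDim_le_of_injective Δ hΔ
          have hdim2 := Module.supportDim_quotSMulTop_succ_eq_supportDim hreg hxm
          have hle2 : Module.supportDim A (QuotSMulTop x (A ⧸ p.asIdeal)) + 1 ≤
              (d : WithBot ℕ∞) := by
            rw [hdim2]
            exact hdim'
          obtain ⟨d₀, rfl⟩ : ∃ d₀, d = d₀ + 1 := ⟨d - 1, by omega⟩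
          rcases Nat.eq_zero_or_pos j with rfl | hjpos
          · haveI : Subsingleton (Dual.inD A (QuotSMulTop x (A ⧸ p.asIdeal)) ⟶
                ω⟦(-((0 : ℕ) : ℤ)) + 1⟧) :=
              subsingleton_hom_pos ω hω hn _ _ (by simp)
            have hbot : Module.supportDim A (Dual.inD A (QuotSMulTop x (A ⧸ p.asIdeal)) ⟶
                ω⟦(-((0 : ℕ) : ℤ)) + 1⟧) = ⊥ := Module.supportDim_eq_bot_of_subsingleton _ _
            rw [hbot] at hinj
            have h3 : Module.supportDim A (QuotSMulTop x
                (Dual.inD A (A ⧸ p.asIdeal) ⟶ ω⟦(-((0 : ℕ) : ℤ))⟧)) = ⊥ := le_bot_iff.1 hinj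
            rw [h3, WithBot.bot_add] at hstep
            exact le_trans hstep bot_le
          · have h3 := IH d₀ (Nat.lt_succ_self d₀) (QuotSMulTop x (A ⧸ p.asIdeal))
              (withBot_le_of_add_one_le _ d₀ hle2) (j - 1)
            have h6 : (-(j : ℤ) + 1) = -(((j - 1 : ℕ)) : ℤ) := by
              rw [Nat.cast_sub (by omega)]
              push_cast
              ring
            rw [h6] at hinj
            have h7 : Module.supportDim A (QuotSMulTop x
                (Dual.inD A (A ⧸ p.asIdeal) ⟶ ω⟦(-(j : ℤ))⟧)) + 1 ≤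
                ((j - 1 : ℕ) : WithBot ℕ∞) + 1 := by
              gcongr
              exact le_trans hinj h3
            refine le_trans hstep (le_trans h7 ?_)
            have h8 : ((j - 1 : ℕ) : WithBot ℕ∞) + 1 = ((j - 1 + 1 : ℕ) : WithBot ℕ∞) := by
              push_cast
              rfl
            rw [h8, Nat.sub_add_cancel hjpos]
    | exact N₁ N₂ N₃ f g hf hg hfg h₁ h₃ =>
      intro hdim j
      exact supportDim_le_of_exact _ _
        (exact_leftComp (Groth.Agent.Lib.H6xDual.shortExact_of_exact f g hf hg hfg)
          (ω⟦(-(j : ℤ))⟧)) _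
        (h₃ (le_trans (Module.supportDim_le_of_surjective g hg) hdim) j)
        (h₁ (le_trans (Module.supportDim_le_of_injective f hf) hdim) j)

include hω hn in
/-- **S0366** -/
theorem ext_dualizing_vanishing_and_support (M : Type u) [AddCommGroup M] [Module A M]
    [Module.Finite A M] (d : ℕ) (hd : Module.supportDim A M = d) (i : ℤ) :
    (Nontrivial (Dual.inD A M ⟶ ω⟦i⟧) → (-(d : ℤ) ≤ i ∧ i ≤ 0)) ∧
      Module.supportDim A (Dual.inD A M ⟶ ω⟦i⟧) ≤ ((-i).toNat : WithBot ℕ∞) := by
  constructor
  · intro hnt
    constructor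
    · by_contra hlt
      push Not at hlt
      have h1 := subsingleton_hom_of_supportDim_lt ω hω hn d M (le_of_eq hd) (-i).toNat (by omega)
      have h2 : (-(((-i).toNat : ℕ) : ℤ)) = i := by
        rw [Int.toNat_of_nonneg (by omega)]
        ring
      rw [h2] at h1
      exact not_subsingleton _ h1
    · by_contra hgt
      push Not at hgt
      exact not_subsingleton _ (subsingleton_hom_pos ω hω hn M i hgt)
  · rcases lt_or_ge 0 i with hpos | hle
    · haveI := subsingleton_hom_pos ω hω hn M i hpos
      rw [Module.supportDim_eq_bot_of_subsingleton]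
      exact bot_le
    · have h1 := supportDim_hom_le ω hω hn d M (le_of_eq hd) (-i).toNat
      have h2 : (-(((-i).toNat : ℕ) : ℤ)) = i := by
        rw [Int.toNat_of_nonneg (by omega)]
        ring
      rw [h2] at h1
      exact h1

end Groth.Agent.Lib.H6xDep
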