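import Mathlib
import Groth.Agent.Lib.H6xDepE
set_option backward.isDefEq.respectTransparency.types false

/-!
# `H^j(RHom(M, I)) ≃ Hom_{D(A)}(M, (Q I)⟦j⟧)` and dévissage of `Hom(N, Y)` along the cohomology
of `N` (helper6)
-/

set_option autoImplicit false
set_option linter.style.haveILetI false
universe u

namespace Groth.Agent.Lib.H6xDep

open CategoryTheory CategoryTheory.Limits Category Pretriangulated DerivedCategory
open Groth.Agent.Lib.H6xCoext Groth.Agent.Lib.H6xDual Groth.Agent.Lib.H6xBid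
open Groth.Agent.Lib.H6xRGam Groth.Agent.S14388
attribute [local instance] HasDerivedCategory.standard

variable {A : Type u} [CommRing A]

section HomologyHom

variable (I : Cx A) (M : ModuleCat.{u} A) (j : ℤ)

/-- cycles of `Hom_A(M, I)` to morphisms in `D(A)` -/
noncomputable def evH : (Dcx I M).cycles j →ₗ[A] (SM M ⟶ (DerivedCategory.Q.obj I)⟦j⟧) where
  toFun z := Ψ I j (((Dcx I M).iCycles j).hom z) (d_iCycles' (Dcx I M) j z)
  map_add' z z' := by
    rw [← Ψ_add]
    exact Ψ_congr' I j (map_add _ z z') _ _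
  map_smul' a z := by
    rw [RingHom.id_apply, Ψ_smul]
    exact Ψ_congr' I j (map_smul _ a z) _ _

variable [I.IsKInjective]

lemma evH_surjective : Function.Surjective (evH I M j) := by
  intro ψ
  obtain ⟨f, hf, rfl⟩ := Ψ_surjective I j ψ
  obtain ⟨z, hz⟩ := exists_cycle' (Dcx I M) j f hf
  exact ⟨z, Ψ_congr' I j hz _ _⟩

lemma homologyπ_eq_zero_of_evH (z : (Dcx I M).cycles j) (h : evH I M j z = 0) :
    ((Dcx I M).homologyπ j).hom z = 0 := by
  obtain ⟨k, hk⟩ := (Ψ_eq_zero_iff I j (((Dcx I M).iCycles j).hom z)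
    (d_iCycles' (Dcx I M) j z)).1 h
  have hz : ((Dcx I M).toCycles (j - 1) j).hom k = z := by
    apply iCycles_injective' (Dcx I M) j
    rw [iCycles_toCycles']
    exact hk
  rw [← hz]
  exact congrArg (fun t => t.hom k) ((Dcx I M).toCycles_comp_homologyπ (j - 1) j)

lemma evH_eq_zero_of_homologyπ (z : (Dcx I M).cycles j)
    (h : ((Dcx I M).homologyπ j).hom z = 0) : evH I M j z = 0 := by
  obtain ⟨w, hw⟩ := exists_of_homologyπ_eq_zero' (Dcx I M) j z h
  refine (Ψ_eq_zero_iff I j (((Dcx I M).iCycles j).hom z) (d_iCycles' (Dcx I M) j z)).2 ⟨w, ?_⟩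
  rw [← hw, iCycles_toCycles']
  rfl

lemma ker_evH : LinearMap.ker (evH I M j) = LinearMap.ker ((Dcx I M).homologyπ j).hom := by
  ext z
  rw [LinearMap.mem_ker, LinearMap.mem_ker]
  exact ⟨homologyπ_eq_zero_of_evH I M j z, evH_eq_zero_of_homologyπ I M j z⟩

/-- `Hom_{D(A)}(M, (Q I)⟦j⟧) ≃ H^j(Hom_A(M, I))` -/
noncomputable def homEquivHomologyDcx :
    (SM M ⟶ (DerivedCategory.Q.obj I)⟦j⟧) ≃ₗ[A] (Dcx I M).homology j :=
  ((evH I M j).quotKerEquivOfSurjective (evH_surjective I M j)).symm ≪≫ₗ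
    (Submodule.quotEquivOfEq _ _ (ker_evH I M j)) ≪≫ₗ
    (((Dcx I M).homologyπ j).hom.quotKerEquivOfSurjective (homologyπ_surjective' (Dcx I M) j))

/-- `Hom_{D(A)}(M, (Q I)⟦j⟧) ≃ H^j(RHom(M, I))` -/
noncomputable def homEquivHDRH :
    (SM M ⟶ (DerivedCategory.Q.obj I)⟦j⟧) ≃ₗ[A] Dual.HD A (RH I M) j :=
  homEquivHomologyDcx I M j ≪≫ₗ (HDIso (Dcx I M) j).symm

end HomologyHom

section Ann

/-- the annihilator of `M` kills `Hom(M[-j], Y)` -/
lemma annihilator_le_hom_single (M : ModuleCat.{u} A) (j : ℤ) (Y : Dual.D A) :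
    Module.annihilator A M ≤
      Module.annihilator A ((DerivedCategory.singleFunctor (ModuleCat.{u} A) j).obj M ⟶ Y) := by
  intro a ha
  rw [Module.mem_annihilator] at ha ⊢
  intro f
  have h1 : (a • 𝟙 M : M ⟶ M) = 0 := by
    apply ModuleCat.hom_ext
    apply LinearMap.ext
    intro m
    exact ha m
  have h2 : a • f = (DerivedCategory.singleFunctor (ModuleCat.{u} A) j).map (a • 𝟙 M) ≫ f := by
    rw [Functor.map_smul, CategoryTheory.Functor.map_id, Linear.smul_comp, id_comp]
  rw [h2, h1, Functor.map_zero, zero_comp]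

end Ann

section Dev

/-- dévissage: a property of `A`-modules stable under extensions (in the weak sense of sequences
exact in the middle) holds for `Hom(N, Y)` as soon as it holds for the `Hom(H^i(N)[-i], Y)`. -/
theorem hom_devissage (Y : Dual.D A)
    (P : ∀ (E : Type (u + 1)) [AddCommGroup E] [Module A E], Prop)
    (hP_exact : ∀ (E₃ E₂ E₁ : Type (u + 1)) [AddCommGroup E₃] [Module A E₃] [AddCommGroup E₂]
      [Module A E₂] [AddCommGroup E₁] [Module A E₁] (f : E₃ →ₗ[A] E₂) (g : E₂ →ₗ[A] E₁),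
      Function.Exact f g → P E₃ → P E₁ → P E₂)
    (hP_zero : ∀ (E : Type (u + 1)) [AddCommGroup E] [Module A E], Subsingleton E → P E)
    (Qm : ∀ (M : Type u) [AddCommGroup M] [Module A M], Prop)
    (hQ_iso : ∀ (M M' : Type u) [AddCommGroup M] [Module A M] [AddCommGroup M'] [Module A M'],
      (M ≃ₗ[A] M') → Qm M → Qm M')
    (hY : ∀ (M : ModuleCat.{u} A) (j : ℤ), Qm M →
      P ((DerivedCategory.singleFunctor (ModuleCat.{u} A) j).obj M ⟶ Y))
    (j₀ : ℤ) (n : ℕ) : ∀ (N : Dual.D A)
      (_ : ∀ i : ℤ, j₀ + (n : ℤ) ≤ i → Subsingleton (Dual.HD A N i))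
      (_ : ∀ i : ℤ, i < j₀ → Subsingleton (Dual.HD A N i))
      (_ : ∀ i : ℤ, Qm (Dual.HD A N i)), P (N ⟶ Y) := by
  have hP_iso : ∀ (E E' : Type (u + 1)) [AddCommGroup E] [Module A E] [AddCommGroup E']
      [Module A E'], (E ≃ₗ[A] E') → P E → P E' := by
    intro E E' _ _ _ _ e hE
    refine hP_exact E E' PUnit.{u + 2} e.toLinearMap 0 ?_ hE (hP_zero _ inferInstance)
    intro x
    constructor
    · intro _
      exact ⟨e.symm x, e.apply_symm_apply x⟩
    · intro _
      rfl
  induction n with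
  | zero =>
    intro N hb hge _
    haveI : N.IsGE j₀ := by
      rw [DerivedCategory.isGE_iff]
      intro i hi
      haveI := hge i hi
      exact ModuleCat.isZero_of_subsingleton _
    haveI : N.IsLE (j₀ - 1) := by
      rw [DerivedCategory.isLE_iff]
      intro i hi
      haveI := hb i (by push_cast; omega)
      exact ModuleCat.isZero_of_subsingleton _
    have hz : IsZero N := tt.isZero N (j₀ - 1) j₀ (by omega)
    exact hP_zero _ ⟨fun f g => hz.eq_of_src f g⟩
  | succ n ih =>
    intro N hb hge hQ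
    -- the truncation triangle at `j₀ + n`
    have hT := tt.triangleLTGE_distinguished (j₀ + (n : ℤ)) N
    -- the left part
    have h1 : P ((tt.truncLT (j₀ + (n : ℤ))).obj N ⟶ Y) := by
      apply ih
      · intro i hi
        have hle : ((tt.truncLT (j₀ + (n : ℤ))).obj N).IsLE ((j₀ + (n : ℤ)) - 1) :=
          tt.isLE_truncLT_obj N (j₀ + (n : ℤ)) ((j₀ + (n : ℤ)) - 1) (by omega)
        have hz : IsZero ((homologyFunctor (ModuleCat.{u} A) i).obj
            ((tt.truncLT (j₀ + (n : ℤ))).obj N)) :=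
          isZero_of_isLE _ ((j₀ + (n : ℤ)) - 1) i (by omega)
        exact ModuleCat.subsingleton_of_isZero hz
      · intro i hi
        have j1 := isIso_homology_truncLTι (j₀ + (n : ℤ)) i (by omega) N
        haveI : Subsingleton ((homologyFunctor (ModuleCat.{u} A) i).obj
            ((𝟭 (DerivedCategory (ModuleCat.{u} A))).obj N)) := hge i hi
        have hz : IsZero ((homologyFunctor (ModuleCat.{u} A) i).obj
            ((𝟭 (DerivedCategory (ModuleCat.{u} A))).obj N)) :=
          ModuleCat.isZero_of_subsingleton _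
        have hz' := hz.of_iso (asIso ((homologyFunctor (ModuleCat.{u} A) i).map
              ((tt.truncLTι (j₀ + (n : ℤ))).app N)))
        exact ModuleCat.subsingleton_of_isZero hz'
      · intro i
        by_cases hlt : i < j₀ + (n : ℤ)
        · have j1 := isIso_homology_truncLTι (j₀ + (n : ℤ)) i hlt N
          exact hQ_iso _ _ (asIso ((homologyFunctor (ModuleCat.{u} A) i).map
              ((tt.truncLTι (j₀ + (n : ℤ))).app N))).symm.toLinearEquiv (hQ i)
        · have hle : ((tt.truncLT (j₀ + (n : ℤ))).obj N).IsLE ((j₀ + (n : ℤ)) - 1) :=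
            tt.isLE_truncLT_obj N (j₀ + (n : ℤ)) ((j₀ + (n : ℤ)) - 1) (by omega)
          have hz : IsZero ((homologyFunctor (ModuleCat.{u} A) i).obj
              ((tt.truncLT (j₀ + (n : ℤ))).obj N)) :=
            isZero_of_isLE _ ((j₀ + (n : ℤ)) - 1) i (by omega)
          haveI := hb (j₀ + ((n + 1 : ℕ) : ℤ)) le_rfl
          have hz0 : IsZero (ModuleCat.of A (Dual.HD A N (j₀ + ((n + 1 : ℕ) : ℤ)))) :=
            ModuleCat.isZero_of_subsingleton _
          exact hQ_iso _ _ (hz0.iso hz).toLinearEquiv (hQ _)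
    -- the right part
    have h3 : P ((tt.truncGE (j₀ + (n : ℤ))).obj N ⟶ Y) := by
      have hG : ∀ i : ℤ, i ≠ j₀ + (n : ℤ) →
          Subsingleton (Dual.HD A ((tt.truncGE (j₀ + (n : ℤ))).obj N) i) := by
        intro i hi
        by_cases hlt : i < j₀ + (n : ℤ)
        · have hz : IsZero ((homologyFunctor (ModuleCat.{u} A) i).obj
              ((tt.truncGE (j₀ + (n : ℤ))).obj N)) := isZero_of_isGE _ (j₀ + (n : ℤ)) i hlt
          exact ModuleCat.subsingleton_of_isZero hz
        · have j1 := isIso_homology_truncGEπ (j₀ + (n : ℤ)) i (by omega) N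
          haveI : Subsingleton ((homologyFunctor (ModuleCat.{u} A) i).obj
              ((𝟭 (DerivedCategory (ModuleCat.{u} A))).obj N)) := hb i (by push_cast; omega)
          have hz : IsZero ((homologyFunctor (ModuleCat.{u} A) i).obj
              ((𝟭 (DerivedCategory (ModuleCat.{u} A))).obj N)) :=
            ModuleCat.isZero_of_subsingleton _
          have hz' := hz.of_iso (asIso ((homologyFunctor (ModuleCat.{u} A) i).map
              ((tt.truncGEπ (j₀ + (n : ℤ))).app N))).symm
          exact ModuleCat.subsingleton_of_isZero hz'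
      obtain ⟨M, ⟨e⟩, ⟨eM⟩⟩ := exists_iso_single_of_HD _ (j₀ + (n : ℤ)) hG
      have j1 := isIso_homology_truncGEπ (j₀ + (n : ℤ)) (j₀ + (n : ℤ)) le_rfl N
      have hQM : Qm M := by
        refine hQ_iso _ _ ?_ (hQ (j₀ + (n : ℤ)))
        exact (asIso ((homologyFunctor (ModuleCat.{u} A) (j₀ + (n : ℤ))).map
              ((tt.truncGEπ (j₀ + (n : ℤ))).app N))).toLinearEquiv ≪≫ₗ eM.symm
      have h4 := hY M (j₀ + (n : ℤ)) hQM
      exact hP_iso _ _ (Linear.homCongr A e (Iso.refl Y)).symm h4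
    -- exactness
    let T := (tt.triangleLTGE (j₀ + (n : ℤ))).obj N
    have hT' : T ∈ distTriang _ := hT
    refine hP_exact _ _ _ (Linear.leftComp A Y T.mor₂) (Linear.leftComp A Y T.mor₁) ?_ h3 h1
    intro f
    constructor
    · intro hf
      obtain ⟨g, hg⟩ := Triangle.yoneda_exact₂ _ hT' f hf
      exact ⟨g, hg.symm⟩
    · rintro ⟨g, rfl⟩
      change T.mor₁ ≫ T.mor₂ ≫ g = 0
      rw [← assoc, comp_distTriang_mor_zero₁₂ _ hT', zero_comp]

end Dev


section Main

variable [IsLocalRing A] [IsNoetherianRing A] (ω : Dual.D A)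
  (hω : Dual.IsDualizing A ω) (hn : Dual.IsNormalized A ω)

lemma supportDim_lt_of_exact {E₃ E₂ E₁ : Type*} [AddCommGroup E₃] [Module A E₃]
    [AddCommGroup E₂] [Module A E₂] [AddCommGroup E₁] [Module A E₁] (f : E₃ →ₗ[A] E₂)
    (g : E₂ →ₗ[A] E₁) (h : Function.Exact f g) (b : WithBot ℕ∞)
    (h₃ : Module.supportDim A E₃ < b) (h₁ : Module.supportDim A E₁ < b) :
    Module.supportDim A E₂ < b :=
  lt_of_le_of_lt (supportDim_le_of_exact f g h (max (Module.supportDim A E₃)
    (Module.supportDim A E₁)) (le_max_left _ _) (le_max_right _ _)) (max_lt h₃ h₁)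

include hω hn in
/-- `Ext^{-d}(M, ω) ≠ 0` for `d = dim M` -/
theorem nontrivial_ext_neg_supportDim (M : Type u) [AddCommGroup M] [Module A M]
    [Module.Finite A M] (d : ℕ) (hd : Module.supportDim A M = d) :
    Nontrivial (Dual.inD A M ⟶ ω⟦(-(d : ℤ))⟧) := by
  by_contra hcon
  rw [not_nontrivial_iff_subsingleton] at hcon
  obtain ⟨I, hIK, hinj, ⟨e⟩⟩ := exists_kInj_iso ω
  haveI := hIK
  have hI : ∀ n, Injective (I.X n) := fun n => injective_of_moduleInjective _ (hinj n)
  have hωI : Dual.IsDualizing A (DerivedCategory.Q.obj I) := isDualizing_of_iso e hω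
  obtain ⟨-, hev⟩ := biduality I hI hωI M
  -- transfer
  have tr : ∀ j : ℤ, (Dual.inD A M ⟶ ω⟦j⟧) ≃ₗ[A]
      (SM (ModuleCat.of A M) ⟶ (DerivedCategory.Q.obj I)⟦j⟧) := fun j =>
    Linear.homCongr A (Iso.refl _) ((shiftFunctor (Dual.D A) j).mapIso e)
  have hHD : ∀ j : ℤ, Dual.HD A (RH I (ModuleCat.of A M)) j ≃ₗ[A] (Dual.inD A M ⟶ ω⟦j⟧) :=
    fun j => (homEquivHDRH I _ j).symm ≪≫ₗ (tr j).symm
  have hbot : ∀ (E : Type (u + 1)) [AddCommGroup E] [Module A E], Subsingleton E →
      Module.supportDim A E < (d : WithBot ℕ∞) := by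
    intro E _ _ hE
    rw [Module.supportDim_eq_bot_of_subsingleton]
    exact WithBot.bot_lt_coe _
  have hdim : ∀ j : ℤ, Module.supportDim A (Dual.inD A M ⟶ ω⟦j⟧) < (d : WithBot ℕ∞) := by
    intro j
    by_cases h1 : 0 < j
    · exact hbot _ (subsingleton_hom_pos ω hω hn M j h1)
    · by_cases h2 : j ≤ -(d : ℤ)
      · by_cases h3 : j = -(d : ℤ)
        · rw [h3]
          exact hbot _ hcon
        · have h4 := subsingleton_hom_of_supportDim_lt ω hω hn d M (le_of_eq hd) (-j).toNat
            (by omega)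
          have h5 : (-(((-j).toNat : ℕ) : ℤ)) = j := by
            rw [Int.toNat_of_nonneg (by omega)]
            ring
          rw [h5] at h4
          exact hbot _ h4
      · have h4 := supportDim_hom_le ω hω hn d M (le_of_eq hd) (-j).toNat
        have h5 : (-(((-j).toNat : ℕ) : ℤ)) = j := by
          rw [Int.toNat_of_nonneg (by omega)]
          ring
        rw [h5] at h4
        refine lt_of_le_of_lt h4 ?_
        have h6 : (-j).toNat < d := by omega
        exact_mod_cast h6
  have key : Module.supportDim A (RH I (ModuleCat.of A M) ⟶ DerivedCategory.Q.obj I) <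
      (d : WithBot ℕ∞) := by
    refine hom_devissage (DerivedCategory.Q.obj I)
      (fun E _ _ => Module.supportDim A E < (d : WithBot ℕ∞)) ?_ hbot
      (fun M' _ _ => Module.Finite A M' ∧ Module.supportDim A M' < (d : WithBot ℕ∞)) ?_ ?_
      (1 - (d : ℤ)) d (RH I (ModuleCat.of A M)) ?_ ?_ ?_
    · intro E₃ E₂ E₁ _ _ _ _ _ _ f g hfg h₃ h₁
      exact supportDim_lt_of_exact f g hfg _ h₃ h₁
    · intro M₁ M₂ _ _ _ _ e₁ ⟨hf, hs⟩
      refine ⟨Module.Finite.equiv e₁, ?_⟩
      rw [← Module.supportDim_eq_of_equiv e₁]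
      exact hs
    · intro M' j ⟨hf, hs⟩
      haveI := hf
      exact lt_of_le_of_lt (supportDim_le_of_annihilator_le _ _
        (annihilator_le_hom_single M' j _)) hs
    · intro i hi
      haveI := subsingleton_hom_pos ω hω hn M i (by omega)
      exact (hHD i).toEquiv.subsingleton
    · intro i hi
      by_cases h3 : i = -(d : ℤ)
      · haveI : Subsingleton (Dual.inD A M ⟶ ω⟦i⟧) := by
          rw [h3]
          exact hcon
        exact (hHD i).toEquiv.subsingleton
      · have h4 := subsingleton_hom_of_supportDim_lt ω hω hn d M (le_of_eq hd) (-i).toNat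
          (by omega)
        have h5 : (-(((-i).toNat : ℕ) : ℤ)) = i := by
          rw [Int.toNat_of_nonneg (by omega)]
          ring
        rw [h5] at h4
        haveI := h4
        exact (hHD i).toEquiv.subsingleton
    · intro i
      haveI := finite_hom ω hω M i
      refine ⟨Module.Finite.equiv (hHD i).symm, ?_⟩
      rw [Module.supportDim_eq_of_equiv (hHD i)]
      exact hdim i
  have hM : Module.supportDim A M < (d : WithBot ℕ∞) := by
    rw [Module.supportDim_eq_of_equiv
      (LinearEquiv.ofBijective (ev I (ModuleCat.of A M)) hev)]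
    exact key
  rw [hd] at hM
  exact lt_irrefl _ hM

end Main

end Groth.Agent.Lib.H6xDep
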