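import Mathlib
import Groth.Agent.Lib.Helper1Extend
set_option backward.isDefEq.respectTransparency.types false

/-!
# Localization of morphisms between modules (helper6)

For `B = S⁻¹A` and `F = B ⊗_A -` the extension of scalars `ModuleCat A ⥤ ModuleCat B`: for a finitely
presented module `M`, every `B`-linear map `F M ⟶ F N` becomes of the form `F g` after multiplication
by an element of `S`, and `F g = 0` implies `s • g = 0` for some `s ∈ S`.
-/

set_option autoImplicit false
set_option linter.style.haveILetI false
universe u

namespace Groth.Agent.Lib.H6xLoc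

open CategoryTheory CategoryTheory.Limits
open Groth.Agent.Lib.Helper1.Extend

variable {A : Type u} [CommRing A] (S : Submonoid A)

/-- the ring `S⁻¹A` -/
abbrev BS : Type u := Localization S

/-- extension of scalars to `S⁻¹A` -/
noncomputable abbrev FS : ModuleCat.{u} A ⥤ ModuleCat.{u} (Localization S) := ext A (Localization S)

/-- `B` as an `A`-module by restriction of scalars -/
abbrev BR : Type u :=
  (ModuleCat.restrictScalars.{u} (algebraMap A (Localization S))).obj
    (ModuleCat.of (Localization S) (Localization S))

variable (N : ModuleCat.{u} A)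

/-- the map `n ↦ 1 ⊗ n` -/
noncomputable def ιS : N →ₗ[A] TensorProduct A (BR S) N :=
  (c₀ (A := A) (B := Localization S) N).symm.toLinearMap ∘ₗ
    TensorProduct.mk A (Localization S) N 1

lemma ιS_apply (n : N) : ιS S N n = TensorProduct.tmul A (show BR S from (1 : Localization S)) n :=
  rfl

instance : IsLocalizedModule S (ιS S N) := by
  unfold ιS
  exact IsLocalizedModule.of_linearEquiv S _ _


/-- `A`-scalar multiplication on `B ⊗ N` is `B`-scalar multiplication through `A → B` -/
lemma algebraMap_smul_eq (a : A) (x : TensorProduct A (BR S) N) :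
    ((algebraMap A (Localization S) a) • (show ((FS S).obj N) from x) : (FS S).obj N) =
      (show (FS S).obj N from a • x) := by
  apply (extEquiv (A := A) (B := Localization S) N).injective
  have h1 : extEquiv (A := A) (B := Localization S) N
      ((algebraMap A (Localization S) a) • (show ((FS S).obj N) from x)) =
      (algebraMap A (Localization S) a) • extEquiv (A := A) (B := Localization S) N x :=
    (extEquiv (A := A) (B := Localization S) N).map_smul _ _
  have h2 : extEquiv (A := A) (B := Localization S) N (show (FS S).obj N from a • x) =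
      a • c₀ (A := A) (B := Localization S) N x :=
    (c₀ (A := A) (B := Localization S) N).map_smul a x
  rw [h1, h2, algebraMap_smul]
  rfl

variable {S} in
/-- every map `F M ⟶ F N` comes from `M ⟶ N` up to a denominator -/
theorem exists_smul_eq_map (M N : ModuleCat.{u} A) [Module.FinitePresentation A M]
    (h : (FS S).obj M ⟶ (FS S).obj N) :
    ∃ (s : S) (g : M ⟶ N), (algebraMap A (Localization S) (s : A)) • h = (FS S).map g := by
  let g₀ : M →ₗ[A] TensorProduct A (BR S) N :=
    { toFun := fun m => h.hom (ιS S M m)
      map_add' := fun m m' => by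
        rw [map_add]
        exact map_add h.hom _ _
      map_smul' := fun a m => by
        rw [map_smul, RingHom.id_apply]
        have h1 := algebraMap_smul_eq S M a (ιS S M m)
        have h2 := algebraMap_smul_eq S N a (h.hom (ιS S M m))
        refine Eq.trans ?_ h2
        refine Eq.trans (congrArg h.hom h1.symm) ?_
        exact map_smul h.hom _ _ }
  obtain ⟨h', s, hs⟩ := Module.FinitePresentation.exists_lift_of_isLocalizedModule S (ιS S N) g₀
  refine ⟨s, ModuleCat.ofHom h', ?_⟩
  apply ModuleCat.ExtendScalars.hom_ext
  intro m
  have h3 := LinearMap.congr_fun hs m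
  have h4 := algebraMap_smul_eq S N (s : A) (h.hom (ιS S M m))
  exact h4.trans h3.symm

variable {S} in
/-- `F g = 0` implies `s • g = 0` for some `s ∈ S` -/
theorem exists_smul_eq_zero (M N : ModuleCat.{u} A) [Module.Finite A M] (g : M ⟶ N)
    (hg : (FS S).map g = 0) : ∃ s : S, (s : A) • g = 0 := by
  have h1 : (ιS S N).comp g.hom = (ιS S N).comp (0 : M →ₗ[A] N) := by
    apply LinearMap.ext
    intro m
    have h2 : ιS S N (g.hom m) = 0 := congrArg (fun t => t.hom (ιS S M m)) hg
    rw [LinearMap.comp_apply, h2, LinearMap.comp_apply, LinearMap.zero_apply, map_zero]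
  obtain ⟨s, hs⟩ := Module.Finite.exists_smul_of_comp_eq_of_isLocalizedModule S (ιS S N) _ _ h1
  refine ⟨s, ?_⟩
  apply ModuleCat.hom_ext
  rw [smul_zero] at hs
  exact hs


variable {S} in
/-- `F` is linear over `A → B` -/
lemma FS_map_smul (a : A) {M N : ModuleCat.{u} A} (g : M ⟶ N) :
    (FS S).map (a • g) = (algebraMap A (Localization S) a) • (FS S).map g := by
  apply ModuleCat.ExtendScalars.hom_ext
  intro m
  have h := algebraMap_smul_eq S N a (ιS S N (g.hom m))
  refine Eq.trans ?_ h.symm
  have h5 : TensorProduct.tmul A (show BR S from (1 : Localization S)) (a • g.hom m) =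
      a • TensorProduct.tmul A (show BR S from (1 : Localization S)) (g.hom m) :=
    TensorProduct.tmul_smul a _ _
  exact h5

end Groth.Agent.Lib.H6xLoc
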