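import Mathlib
import Groth.Agent.Lib.H6xLocA
set_option backward.isDefEq.respectTransparency.types false

/-!
# Clearing denominators in cochains between complexes (helper6)

`P` a bounded above complex of finitely presented modules, `I` a bounded below complex, `B = S⁻¹A`,
`F = B ⊗_A -`: cochains `F P → F I` come from cochains `P → I` up to a denominator.
-/

set_option autoImplicit false
set_option linter.style.haveILetI false
universe u

namespace Groth.Agent.Lib.H6xLoc

open CategoryTheory CategoryTheory.Limits CochainComplex HomComplex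
open Groth.Agent.Lib.Helper1.Extend

variable {A : Type u} [CommRing A] {S : Submonoid A}

/-- common denominators -/
lemma exists_common (T : Finset ℤ) (Pr : ℤ → S → Prop)
    (hmul : ∀ (p : ℤ) (s t : S), Pr p s → Pr p (t * s))
    (h : ∀ p ∈ T, ∃ s, Pr p s) : ∃ s, ∀ p ∈ T, Pr p s := by
  classical
  induction T using Finset.induction_on with
  | empty => exact ⟨1, fun p hp => absurd hp (Finset.notMem_empty p)⟩
  | insert p₀ T hp₀ ih =>
    obtain ⟨s₁, hs₁⟩ := ih (fun p hp => h p (Finset.mem_insert_of_mem hp))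
    obtain ⟨s₀, hs₀⟩ := h p₀ (Finset.mem_insert_self _ _)
    refine ⟨s₁ * s₀, fun p hp => ?_⟩
    rcases Finset.mem_insert.1 hp with rfl | hp
    · exact hmul _ _ _ hs₀
    · rw [mul_comm]
      exact hmul _ _ _ (hs₁ p hp)

variable (S) in
/-- termwise extension of scalars to `S⁻¹A` -/
noncomputable abbrev FC : DRing.Cx A ⥤ DRing.Cx (Localization S) :=
  (FS S).mapHomologicalComplex (ComplexShape.up ℤ)

section Cochains

variable (P I : DRing.Cx A) (a b : ℤ)
  (hP : ∀ i : ℤ, b < i → IsZero (P.X i)) (hPfp : ∀ i, Module.FinitePresentation A (P.X i))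
  (hI : ∀ i : ℤ, i < a → IsZero (I.X i))

include hP hI in
lemma isZero_or (k p q : ℤ) (hpq : p + k = q) (hp : p ∉ Finset.Icc (a - k) b) :
    IsZero (P.X p) ∨ IsZero (I.X q) := by
  rw [Finset.mem_Icc] at hp
  by_cases h1 : b < p
  · exact Or.inl (hP p h1)
  · exact Or.inr (hI q (by omega))

include hP hI in
lemma v_eq_zero (k p q : ℤ) (hpq : p + k = q) (hp : p ∉ Finset.Icc (a - k) b)
    (x : Cochain P I k) : x.v p q hpq = 0 := by
  rcases isZero_or P I a b hP hI k p q hpq hp with h | h
  · exact h.eq_of_src _ _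
  · exact h.eq_of_tgt _ _

include hP hI in
lemma map_v_eq_zero (k p q : ℤ) (hpq : p + k = q) (hp : p ∉ Finset.Icc (a - k) b)
    (y : Cochain ((FC S).obj P) ((FC S).obj I) k) : y.v p q hpq = 0 := by
  rcases isZero_or P I a b hP hI k p q hpq hp with h | h
  · exact ((FS S).map_isZero h).eq_of_src _ _
  · exact ((FS S).map_isZero h).eq_of_tgt _ _

include hP hPfp hI in
/-- cochains `F P → F I` come from cochains `P → I` up to a denominator -/
theorem cochain_surj (k : ℤ) (y : Cochain ((FC S).obj P) ((FC S).obj I) k) :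
    ∃ (s : S) (x : Cochain P I k),
      (algebraMap A (Localization S) (s : A)) • y = x.map (FS S) := by
  have h1 : ∃ s : S, ∀ p ∈ Finset.Icc (a - k) b, ∀ (q : ℤ) (hpq : p + k = q),
      ∃ g : P.X p ⟶ I.X q,
        (algebraMap A (Localization S) (s : A)) • y.v p q hpq = (FS S).map g := by
    apply exists_common (S := S) (Finset.Icc (a - k) b) (fun p (s : S) =>
      ∀ (q : ℤ) (hpq : p + k = q), ∃ g : P.X p ⟶ I.X q,
        (algebraMap A (Localization S) (s : A)) • y.v p q hpq = (FS S).map g)
    · intro p s t hs q hpq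
      obtain ⟨g, hg⟩ := hs q hpq
      refine ⟨(t : A) • g, ?_⟩
      have e1 : (FS S).map ((t : A) • g) =
          (algebraMap A (Localization S) (t : A)) • (FS S).map g := FS_map_smul _ g
      have e2 : (algebraMap A (Localization S) ((t * s : S) : A)) • y.v p q hpq =
          (algebraMap A (Localization S) (t : A)) •
            ((algebraMap A (Localization S) (s : A)) • y.v p q hpq) := by
        rw [Submonoid.coe_mul, map_mul]
        exact mul_smul _ _ _
      exact e2.trans ((congrArg (fun z => (algebraMap A (Localization S) (t : A)) • z) hg).trans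
        e1.symm)
    · intro p _
      haveI := hPfp p
      obtain ⟨s, g, hsg⟩ := exists_smul_eq_map (P.X p) (I.X (p + k)) (y.v p (p + k) rfl)
      refine ⟨s, fun q hpq => ?_⟩
      subst hpq
      exact ⟨g, hsg⟩
  obtain ⟨s, hs⟩ := h1
  have h2 : ∀ (p q : ℤ) (hpq : p + k = q), ∃ g : P.X p ⟶ I.X q,
      (algebraMap A (Localization S) (s : A)) • y.v p q hpq = (FS S).map g := by
    intro p q hpq
    by_cases hp : p ∈ Finset.Icc (a - k) b
    · exact hs p hp q hpq
    · refine ⟨0, ?_⟩
      rw [map_v_eq_zero P I a b hP hI k p q hpq hp y, smul_zero, Functor.map_zero]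
      rfl
  choose g hg using h2
  refine ⟨s, Cochain.mk g, Cochain.ext _ _ (fun p q hpq => ?_)⟩
  rw [Cochain.smul_v, Cochain.map_v, Cochain.mk_v]
  exact hg p q hpq

include hP hPfp hI in
/-- a cochain `P → I` killed by `F` is killed by some `s ∈ S` -/
theorem cochain_inj (k : ℤ) (x : Cochain P I k) (hx : x.map (FS S) = 0) :
    ∃ s : S, (s : A) • x = 0 := by
  have h1 : ∃ s : S, ∀ p ∈ Finset.Icc (a - k) b, ∀ (q : ℤ) (hpq : p + k = q),
      (s : A) • x.v p q hpq = 0 := by
    apply exists_common (S := S) (Finset.Icc (a - k) b) (fun p (s : S) =>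
      ∀ (q : ℤ) (hpq : p + k = q), (s : A) • x.v p q hpq = 0)
    · intro p s t hs q hpq
      rw [Submonoid.coe_mul, mul_smul, hs q hpq, smul_zero]
    · intro p _
      haveI := hPfp p
      have h3 : (FS S).map (x.v p (p + k) rfl) = 0 := Cochain.congr_v hx p (p + k) rfl
      obtain ⟨s, hs⟩ := exists_smul_eq_zero (P.X p) (I.X (p + k)) (x.v p (p + k) rfl) h3
      refine ⟨s, fun q hpq => ?_⟩
      subst hpq
      exact hs
  obtain ⟨s, hs⟩ := h1
  refine ⟨s, Cochain.ext _ _ (fun p q hpq => ?_)⟩
  rw [Cochain.smul_v, Cochain.zero_v]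
  by_cases hp : p ∈ Finset.Icc (a - k) b
  · exact hs p hp q hpq
  · rw [v_eq_zero P I a b hP hI k p q hpq hp x, smul_zero]

lemma cochain_map_smul (k : ℤ) (t : A) (x : Cochain P I k) :
    ((t • x).map (FS S) : Cochain ((FC S).obj P) ((FC S).obj I) k) =
      (algebraMap A (Localization S) t) • x.map (FS S) := by
  refine Cochain.ext _ _ (fun p q hpq => ?_)
  rw [Cochain.map_v, Cochain.smul_v, Cochain.smul_v, Cochain.map_v, FS_map_smul]
  rfl

include hP hPfp hI in
/-- cocycles `F P → F I` come from cocycles `P → I` up to a denominator -/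
theorem cocycle_surj (k m : ℤ) (y : Cochain ((FC S).obj P) ((FC S).obj I) k)
    (hy : δ k m y = 0) :
    ∃ (s : S) (x : Cochain P I k), δ k m x = 0 ∧
      (algebraMap A (Localization S) (s : A)) • y = x.map (FS S) := by
  obtain ⟨s₁, x₁, h₁⟩ := cochain_surj P I a b hP hPfp hI k y
  have h2 : (δ k m x₁).map (FS S) = 0 := by
    rw [← δ_map, ← h₁, δ_smul, hy, smul_zero]
  obtain ⟨t, ht⟩ := cochain_inj P I a b hP hPfp hI m (δ k m x₁) h2
  refine ⟨t * s₁, (t : A) • x₁, ?_, ?_⟩
  · rw [δ_smul, ht]
  · rw [cochain_map_smul, ← h₁, smul_smul, Submonoid.coe_mul, map_mul]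

include hP hPfp hI in
/-- a cochain `P → I` whose image is a coboundary is a coboundary up to a denominator -/
theorem coboundary_inj (k m : ℤ) (x : Cochain P I m)
    (y' : Cochain ((FC S).obj P) ((FC S).obj I) k) (hy : x.map (FS S) = δ k m y') :
    ∃ (s : S) (x' : Cochain P I k), (s : A) • x = δ k m x' := by
  obtain ⟨s₁, x₁, h₁⟩ := cochain_surj P I a b hP hPfp hI k y'
  have h2 : (((s₁ : A) • x - δ k m x₁).map (FS S) :
      Cochain ((FC S).obj P) ((FC S).obj I) m) = 0 := by
    rw [Cochain.map_sub, cochain_map_smul, hy, ← δ_map, ← h₁, δ_smul, sub_self]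
  obtain ⟨t, ht⟩ := cochain_inj P I a b hP hPfp hI m _ h2
  refine ⟨t * s₁, (t : A) • x₁, ?_⟩
  rw [smul_sub, sub_eq_zero] at ht
  rw [Submonoid.coe_mul, mul_smul, ht, δ_smul]

end Cochains

end Groth.Agent.Lib.H6xLoc
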