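import Mathlib
import Groth.Agent.Lib.H6xLocB
import Groth.Agent.Lib.Helper1LBC
import Groth.Agent.Lib.Helper17DBrown3
set_option backward.isDefEq.respectTransparency.types false

/-!
# Localization of morphisms in the derived category (helper6)

`B = S⁻¹A`, `L = B ⊗_A - : D(A) ⥤ D(B)`.  For `P` a bounded above complex of finite free modules and
`Y` a bounded below complex: `Hom_{D(B)}(L(Q P), L(Q Y))` is the localization of
`Hom_{D(A)}(Q P, Q Y)`.
-/

set_option autoImplicit false
set_option linter.style.haveILetI false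
universe u

namespace Groth.Agent.Lib.H6xLoc

open CategoryTheory CategoryTheory.Limits CochainComplex HomComplex DerivedCategory
open Groth.Agent.Lib.Helper1.Extend Groth.Agent.Lib.Helper1.LDer Groth.Agent.Lib.Helper17.DBrown
attribute [local instance] HasDerivedCategory.standard

variable {A : Type u} [CommRing A] {S : Submonoid A}

section ChainMaps

variable (P I : DRing.Cx A) (a b : ℤ)
  (hP : ∀ i : ℤ, b < i → IsZero (P.X i)) (hPfp : ∀ i, Module.FinitePresentation A (P.X i))
  (hI : ∀ i : ℤ, i < a → IsZero (I.X i))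

lemma ofHom_smul' (t : A) (g : P ⟶ I) : Cochain.ofHom (t • g) = t • Cochain.ofHom g := by
  refine Cochain.ext _ _ (fun p q hpq => ?_)
  obtain rfl : p = q := by omega
  rw [Cochain.smul_v, Cochain.ofHom_v, Cochain.ofHom_v]
  rfl

lemma ofHom_smulB (t : Localization S) (g : (FC S).obj P ⟶ (FC S).obj I) :
    Cochain.ofHom (t • g) = t • Cochain.ofHom g := by
  refine Cochain.ext _ _ (fun p q hpq => ?_)
  obtain rfl : p = q := by omega
  rw [Cochain.smul_v, Cochain.ofHom_v, Cochain.ofHom_v]
  rfl

include hP hPfp hI in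
/-- chain maps `F P → F I` come from chain maps `P → I` up to a denominator -/
theorem chainMap_surj (h : (FC S).obj P ⟶ (FC S).obj I) :
    ∃ (s : S) (g : P ⟶ I), (algebraMap A (Localization S) (s : A)) • h = (FC S).map g := by
  obtain ⟨s, x, hx, hsx⟩ := cocycle_surj P I a b hP hPfp hI 0 1 (Cochain.ofHom h) (δ_ofHom h)
  let z : Cocycle P I 0 := Cocycle.mk x 1 (zero_add 1) hx
  refine ⟨s, Cocycle.homOf z, ?_⟩
  apply Cochain.ofHom_injective
  rw [ofHom_smulB, hsx, ← Cochain.map_ofHom, Cocycle.cochain_ofHom_homOf_eq_coe]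
  rfl

include hP hPfp hI in
/-- a chain map `P → I` whose image is null-homotopic is null-homotopic up to a denominator -/
theorem chainMap_inj (g : P ⟶ I) (H : Homotopy ((FC S).map g) 0) :
    ∃ s : S, Nonempty (Homotopy ((s : A) • g) 0) := by
  obtain ⟨y', hy'⟩ := Cochain.equivHomotopy _ _ H
  have h1 : (Cochain.ofHom g).map (FS S) = δ (-1) 0 y' := by
    rw [Cochain.map_ofHom, hy', Cochain.ofHom_zero, add_zero]
  obtain ⟨s, x', hx'⟩ := coboundary_inj P I a b hP hPfp hI (-1) 0 (Cochain.ofHom g) y' h1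
  refine ⟨s, ⟨(Cochain.equivHomotopy _ _).symm ⟨x', ?_⟩⟩⟩
  rw [ofHom_smul', hx', Cochain.ofHom_zero, add_zero]

end ChainMaps


section Derived

variable (S) in
/-- localization `D(A) ⥤ D(S⁻¹A)` -/
noncomputable abbrev LS : Dual.D A ⥤ Dual.D (Localization S) := extD A (Localization S)

variable (S) in
/-- `L(Q K) ≅ Q(F K)` -/
noncomputable abbrev facS (K : DRing.Cx A) :
    (LS S).obj (Q.obj K) ≅ Q.obj ((FC S).obj K) := mapQIso (ext A (Localization S)) K

lemma facS_naturality {K K' : DRing.Cx A} (g : K ⟶ K') :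
    (LS S).map (Q.map g) ≫ (facS S K').hom = (facS S K).hom ≫ Q.map ((FC S).map g) :=
  (ext A (Localization S)).mapDerivedCategoryFactors_hom_naturality g

variable (P Y : DRing.Cx A) (a b : ℤ)
  (hP : DRing.VanishesAbove P b) (hPff : DRing.TermwiseFiniteFree P)
  (hY : ∀ i : ℤ, i < a → IsZero (Y.X i))

include hP hPff in
lemma isKProjective_P : P.IsKProjective :=
  isKProjective_of_vanishesAbove P b hP (fun i =>
    haveI := (hPff i).2
    inferInstance)

include hP hPff in
lemma isKProjective_FP : ((FC S).obj P).IsKProjective :=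
  isKProjective_of_vanishesAbove _ b
    (vanishesAbove_bc (algebraMap A (Localization S)) P b hP) (fun i =>
    haveI := (hPff i).2
    projective_bc (algebraMap A (Localization S)) (P.X i))

include hP hPff hY in
/-- injectivity part of localization of `Hom` -/
theorem locHom_Q_inj (f : Q.obj P ⟶ Q.obj Y) (hf : (LS S).map f = 0) :
    ∃ s : S, (s : A) • f = 0 := by
  haveI := isKProjective_P P b hP hPff
  haveI := isKProjective_FP (S := S) P b hP hPff
  have hPfp : ∀ i, Module.FinitePresentation A (P.X i) := fun i =>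
    haveI := (hPff i).1
    haveI := (hPff i).2
    Module.finitePresentation_of_projective A (P.X i)
  obtain ⟨g, rfl⟩ := exists_Q_map_eq_of_isKProjective f
  have h1 : Q.map ((FC S).map g) = Q.map (0 : (FC S).obj P ⟶ (FC S).obj Y) := by
    rw [← cancel_epi (facS S P).hom, ← facS_naturality, hf, Functor.map_zero, Limits.zero_comp,
      Limits.comp_zero]
  obtain ⟨H⟩ := homotopy_of_Q_map_eq_of_isKProjective h1
  obtain ⟨s, ⟨H'⟩⟩ := chainMap_inj P Y a b hP hPfp hY g H
  refine ⟨s, ?_⟩
  rw [← Functor.map_smul, DerivedCategory.Q_map_eq_of_homotopy _ H', Functor.map_zero]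

include hP hPff hY in
/-- surjectivity part of localization of `Hom` -/
theorem locHom_Q_surj (γ : (LS S).obj (Q.obj P) ⟶ (LS S).obj (Q.obj Y)) :
    ∃ (s : S) (f : Q.obj P ⟶ Q.obj Y),
      (algebraMap A (Localization S) (s : A)) • γ = (LS S).map f := by
  haveI := isKProjective_FP (S := S) P b hP hPff
  have hPfp : ∀ i, Module.FinitePresentation A (P.X i) := fun i =>
    haveI := (hPff i).1
    haveI := (hPff i).2
    Module.finitePresentation_of_projective A (P.X i)
  obtain ⟨h, hh⟩ := exists_Q_map_eq_of_isKProjective ((facS S P).inv ≫ γ ≫ (facS S Y).hom)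
  obtain ⟨s, g, hsg⟩ := chainMap_surj P Y a b hP hPfp hY h
  refine ⟨s, Q.map g, ?_⟩
  have h2 : (LS S).map (Q.map g) = (facS S P).hom ≫ Q.map ((FC S).map g) ≫ (facS S Y).inv := by
    rw [← Category.assoc, ← facS_naturality, Category.assoc, Iso.hom_inv_id, Category.comp_id]
  rw [h2, ← hsg, Functor.map_smul, hh]
  simp only [Linear.smul_comp, Linear.comp_smul, Category.assoc, Iso.hom_inv_id,
    Category.comp_id, Iso.hom_inv_id_assoc]

end Derived

end Groth.Agent.Lib.H6xLoc
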