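import Mathlib
import Groth.Agent.Lib.H6xLocC
import Groth.Agent.Lib.H6xRGamD
set_option backward.isDefEq.respectTransparency.types false

/-!
# Localization of `Hom` in the derived category: general form (helper6)

`X` pseudo-coherent (isomorphic to a bounded above complex of finite free modules), `W` cohomologically
bounded below: `Hom_{D(S⁻¹A)}(L X, L W)` is the localization of `Hom_{D(A)}(X, W)`.
-/

set_option autoImplicit false
set_option linter.style.haveILetI false
universe u

namespace Groth.Agent.Lib.H6xLoc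

open CategoryTheory CategoryTheory.Limits CochainComplex HomComplex DerivedCategory
open Groth.Agent.Lib.Helper1.Extend Groth.Agent.Lib.Helper1.LDer Groth.Agent.Lib.H6xRGam
attribute [local instance] HasDerivedCategory.standard

variable {A : Type u} [CommRing A] {S : Submonoid A}

/-- a cohomologically bounded below object is represented by a strictly bounded below complex -/
lemma exists_strictlyGE_iso (W : Dual.D A) (a : ℤ)
    (hW : ∀ i : ℤ, i < a → Subsingleton (Dual.HD A W i)) :
    ∃ Y : DRing.Cx A, (∀ i : ℤ, i < a → IsZero (Y.X i)) ∧ Nonempty (W ≅ Q.obj Y) := by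
  let K₀ := Q.objPreimage W
  let e₀ : Q.obj K₀ ≅ W := Q.objObjPreimageIso W
  haveI : K₀.IsGE a := by
    rw [CochainComplex.isGE_iff]
    intro i hi
    rw [HomologicalComplex.exactAt_iff_isZero_homology]
    haveI := hW i hi
    haveI : Subsingleton (K₀.homology i) :=
      ((HDIso K₀ i).symm.toEquiv.trans
        ((DerivedCategory.homologyFunctor (ModuleCat.{u} A) i).mapIso
          e₀).toLinearEquiv.toEquiv).subsingleton
    exact ModuleCat.isZero_of_subsingleton _
  haveI : QuasiIso (K₀.πTruncGE a) := inferInstance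
  haveI : IsIso (Q.map (K₀.πTruncGE a)) := by
    rw [DerivedCategory.isIso_Q_map_iff_quasiIso]
    infer_instance
  refine ⟨K₀.truncGE a, fun i hi => (K₀.truncGE a).isZero_of_isStrictlyGE a i hi,
    ⟨e₀.symm ≪≫ asIso (Q.map (K₀.πTruncGE a))⟩⟩

section Linear

lemma FC_map_smul_id (a : A) (K : DRing.Cx A) :
    (FC S).map (a • 𝟙 K) = (algebraMap A (Localization S) a) • 𝟙 ((FC S).obj K) := by
  ext i : 1
  change (FS S).map (a • 𝟙 (K.X i)) = (algebraMap A (Localization S) a) • 𝟙 ((FS S).obj (K.X i))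
  rw [FS_map_smul, CategoryTheory.Functor.map_id]

lemma LS_map_smul_id (a : A) (X : Dual.D A) :
    (LS S).map (a • 𝟙 X) = (algebraMap A (Localization S) a) • 𝟙 ((LS S).obj X) := by
  let K := Q.objPreimage X
  let e : Q.obj K ≅ X := Q.objObjPreimageIso X
  have h1 : a • 𝟙 X = e.inv ≫ Q.map (a • 𝟙 K) ≫ e.hom := by
    rw [Functor.map_smul, CategoryTheory.Functor.map_id, Linear.smul_comp, Linear.comp_smul,
      Category.id_comp, e.inv_hom_id]
  have h2 : (LS S).map (Q.map (a • 𝟙 K)) =
      (facS S K).hom ≫ Q.map ((FC S).map (a • 𝟙 K)) ≫ (facS S K).inv := by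
    rw [← Category.assoc, ← facS_naturality, Category.assoc, Iso.hom_inv_id, Category.comp_id]
  rw [h1, Functor.map_comp, Functor.map_comp, h2, FC_map_smul_id, Functor.map_smul,
    CategoryTheory.Functor.map_id]
  simp only [Linear.smul_comp, Linear.comp_smul, Category.id_comp, Iso.hom_inv_id,
    Category.comp_id]
  rw [← Functor.map_comp, e.inv_hom_id, CategoryTheory.Functor.map_id]

/-- `L` is linear over `A → S⁻¹A` -/
lemma LS_map_smul (a : A) {X W : Dual.D A} (f : X ⟶ W) :
    (LS S).map (a • f) = (algebraMap A (Localization S) a) • (LS S).map f := by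
  have h1 : a • f = (a • 𝟙 X) ≫ f := by rw [Linear.smul_comp, Category.id_comp]
  rw [h1, Functor.map_comp, LS_map_smul_id, Linear.smul_comp, Category.id_comp]

end Linear

section General

variable (X W : Dual.D A) (hX : DRing.IsPseudoCoherent' A X)
  (hW : ∃ a : ℤ, ∀ i : ℤ, i < a → Subsingleton (Dual.HD A W i))

include hX hW in
/-- injectivity part -/
theorem locHom_inj (f : X ⟶ W) (hf : (LS S).map f = 0) : ∃ s : S, (s : A) • f = 0 := by
  obtain ⟨P, b, hP, hPff, ⟨eX⟩⟩ := hX
  obtain ⟨a, ha⟩ := hW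
  obtain ⟨Y, hY, ⟨eW⟩⟩ := exists_strictlyGE_iso W a ha
  have h1 : (LS S).map (eX.hom ≫ f ≫ eW.hom) = 0 := by
    rw [Functor.map_comp, Functor.map_comp, hf, Limits.zero_comp, Limits.comp_zero]
  obtain ⟨s, hs⟩ := locHom_Q_inj P Y a b hP hPff hY (eX.hom ≫ f ≫ eW.hom) h1
  refine ⟨s, ?_⟩
  have h2 : (s : A) • f = eX.inv ≫ ((s : A) • (eX.hom ≫ f ≫ eW.hom)) ≫ eW.inv := by
    simp only [Linear.smul_comp, Linear.comp_smul, Category.assoc, Iso.hom_inv_id,
      Category.comp_id, Iso.inv_hom_id_assoc]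
  rw [h2, hs, Limits.zero_comp, Limits.comp_zero]

include hX hW in
/-- surjectivity part -/
theorem locHom_surj (γ : (LS S).obj X ⟶ (LS S).obj W) :
    ∃ (s : S) (f : X ⟶ W), (algebraMap A (Localization S) (s : A)) • γ = (LS S).map f := by
  obtain ⟨P, b, hP, hPff, ⟨eX⟩⟩ := hX
  obtain ⟨a, ha⟩ := hW
  obtain ⟨Y, hY, ⟨eW⟩⟩ := exists_strictlyGE_iso W a ha
  obtain ⟨s, f', hs⟩ := locHom_Q_surj P Y a b hP hPff hY
    ((LS S).map eX.hom ≫ γ ≫ (LS S).map eW.hom)
  refine ⟨s, eX.inv ≫ f' ≫ eW.inv, ?_⟩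
  rw [Functor.map_comp, Functor.map_comp, ← hs]
  simp only [Linear.smul_comp, Linear.comp_smul, Category.assoc, ← Functor.map_comp,
    Iso.hom_inv_id, CategoryTheory.Functor.map_id, Category.comp_id]
  rw [← Category.assoc, ← Functor.map_comp, eX.inv_hom_id, CategoryTheory.Functor.map_id,
    Category.id_comp]

end General

end Groth.Agent.Lib.H6xLoc
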