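import Mathlib
import Groth.Agent.Lib.Helper1TorJ
set_option backward.isDefEq.respectTransparency.types false

/-!
# Descent families from finite jointly surjective flat families (helper6)
-/

set_option autoImplicit false
set_option linter.style.haveILetI false
universe u
open CategoryTheory CategoryTheory.Limits TensorProduct
attribute [local instance] HasDerivedCategory.standard

namespace Groth.Agent.Lib.H6xPCDesc

open Groth.Agent.Lib.Helper1.Tor

variable {R : Type u} [CommRing R] {J : Type} (B : J → Type u) [∀ j, CommRing (B j)]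
  [∀ j, Algebra R (B j)] [∀ j, Module.Flat R (B j)]

include B in
/-- vanishing descends along a jointly surjective flat family -/
theorem subsingleton_of_forall_tensor
    (hsurj : ∀ m : Ideal R, m.IsMaximal → ∃ j, Ideal.map (algebraMap R (B j)) m ≠ ⊤)
    (H : Type u) [AddCommGroup H] [Module R H]
    (hz : ∀ j, Subsingleton (B j ⊗[R] H)) : Subsingleton H := by
  refine ⟨fun x y => ?_⟩
  suffices h : ∀ x : H, x = 0 from (h x).trans (h y).symm
  intro x
  by_contra hx
  have hI : Ideal.torsionOf R H x ≠ ⊤ := fun h => hx ((Ideal.torsionOf_eq_top_iff (R := R) (M := H) x).1 h)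
  obtain ⟨m, hm, hIm⟩ := Ideal.exists_le_maximal _ hI
  obtain ⟨j, hj⟩ := hsurj m hm
  let g : (R ⧸ Ideal.torsionOf R H x) →ₗ[R] H :=
    (Submodule.span R {x}).subtype ∘ₗ (Ideal.quotTorsionOfEquivSpanSingleton R H x).toLinearMap
  have hg : Function.Injective g :=
    (Submodule.span R {x}).subtype_injective.comp
      (Ideal.quotTorsionOfEquivSpanSingleton R H x).injective
  have hg' : Function.Injective (g.lTensor (B j)) :=
    Module.Flat.lTensor_preserves_injective_linearMap g hg
  haveI := hz j
  haveI h1 : Subsingleton (B j ⊗[R] (R ⧸ Ideal.torsionOf R H x)) := hg'.subsingleton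
  haveI h2 : Subsingleton (B j ⧸ (Ideal.torsionOf R H x • (⊤ : Submodule R (B j)))) :=
    (TensorProduct.tensorQuotEquivQuotSMul (B j) (Ideal.torsionOf R H x)).symm.injective.subsingleton
  have h3 : (1 : B j) ∈ (Ideal.torsionOf R H x • (⊤ : Submodule R (B j))) := by
    rw [← Submodule.Quotient.mk_eq_zero]
    exact Subsingleton.elim _ _
  apply hj
  rw [Ideal.eq_top_iff_one]
  have h4 : (Ideal.torsionOf R H x • (⊤ : Submodule R (B j))) ≤
      (Ideal.map (algebraMap R (B j)) m).restrictScalars R := by
    rw [Submodule.smul_le]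
    intro r hr b _
    show r • b ∈ Ideal.map (algebraMap R (B j)) m
    rw [Algebra.smul_def]
    exact Ideal.mul_mem_right _ _ (Ideal.mem_map_of_mem _ (hIm hr))
  exact h4 h3


include B in
/-- finiteness descends along a finite jointly surjective flat family -/
theorem finite_of_forall_tensor [Finite J]
    (hsurj : ∀ m : Ideal R, m.IsMaximal → ∃ j, Ideal.map (algebraMap R (B j)) m ≠ ⊤)
    (H : Type u) [AddCommGroup H] [Module R H]
    (hz : ∀ j, Module.Finite (B j) (B j ⊗[R] H)) : Module.Finite R H := by
  classical
  have key : ∀ j, ∃ N' : Submodule R H, N'.FG ∧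
      Function.Surjective (N'.subtype.lTensor (B j)) := by
    intro j
    obtain ⟨s, hs⟩ := (hz j).fg_top
    obtain ⟨N', hN', hsub⟩ := TensorProduct.exists_finite_submodule_right_of_setFinite
      (s : Set (B j ⊗[R] H)) s.finite_toSet
    refine ⟨N', Module.Finite.iff_fg.1 hN', ?_⟩
    have htop : LinearMap.range ((N'.subtype).baseChange (B j)) = ⊤ := by
      rw [eq_top_iff, ← hs, Submodule.span_le]
      intro z hz'
      obtain ⟨w, hw⟩ := hsub hz'
      exact ⟨w, hw⟩
    intro z
    obtain ⟨w, hw⟩ := (LinearMap.range_eq_top.1 htop) z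
    exact ⟨w, hw⟩
  choose N' hN' hsurj' using key
  let H' : Submodule R H := ⨆ j, N' j
  have hfg : H'.FG := Submodule.fg_iSup N' hN'
  have hq : Subsingleton (H ⧸ H') := by
    refine subsingleton_of_forall_tensor B hsurj (H ⧸ H') (fun j => ⟨fun a b => ?_⟩)
    suffices h : ∀ a : B j ⊗[R] (H ⧸ H'), a = 0 from (h a).trans (h b).symm
    intro a
    obtain ⟨z, rfl⟩ := LinearMap.lTensor_surjective (B j) H'.mkQ_surjective a
    obtain ⟨w, rfl⟩ := hsurj' j z
    rw [← LinearMap.comp_apply, ← LinearMap.lTensor_comp]
    have h0 : H'.mkQ ∘ₗ (N' j).subtype = 0 := by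
      ext y
      simp only [LinearMap.comp_apply, Submodule.subtype_apply, Submodule.mkQ_apply,
        LinearMap.zero_apply, Submodule.Quotient.mk_eq_zero]
      exact (le_iSup N' j) y.2
    rw [h0, LinearMap.lTensor_zero, LinearMap.zero_apply]
  have htop : H' = ⊤ := Submodule.Quotient.subsingleton_iff.1 hq
  rw [Module.finite_def, ← htop]
  exact hfg

include B in
/-- flatness descends along a jointly surjective flat family -/
theorem flat_of_forall_tensor
    (hsurj : ∀ m : Ideal R, m.IsMaximal → ∃ j, Ideal.map (algebraMap R (B j)) m ≠ ⊤)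
    (C : Type u) [AddCommGroup C] [Module R C]
    (hz : ∀ j, Module.Flat (B j) (B j ⊗[R] C)) : Module.Flat R C := by
  rw [Module.Flat.iff_lTensor_injectiveₛ]
  intro P _ _ N
  rw [← LinearMap.ker_eq_bot]
  let K : Submodule R (C ⊗[R] N) := LinearMap.ker (N.subtype.lTensor C)
  suffices hK : Subsingleton K from (Submodule.subsingleton_iff_eq_bot).1 hK
  refine subsingleton_of_forall_tensor B hsurj K (fun j => ⟨fun a b => ?_⟩)
  suffices h : ∀ a : B j ⊗[R] K, a = 0 from (h a).trans (h b).symm
  intro a
  haveI := hz j
  haveI : Module.Flat R (B j ⊗[R] C) := Module.Flat.trans R (B j) _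
  have hinj1 : Function.Injective (K.subtype.lTensor (B j)) :=
    Module.Flat.lTensor_preserves_injective_linearMap _ K.subtype_injective
  have hinj2 : Function.Injective ((N.subtype.lTensor C).lTensor (B j)) := by
    have h1 : LinearMap.lTensor (B j) (LinearMap.lTensor C N.subtype) =
        (TensorProduct.assoc R (B j) C P).toLinearMap ∘ₗ
          LinearMap.lTensor (B j ⊗[R] C) N.subtype ∘ₗ
            (TensorProduct.assoc R (B j) C N).symm.toLinearMap := by
      ext
      simp
    rw [h1]
    exact (TensorProduct.assoc R (B j) C P).injective.comp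
      ((Module.Flat.lTensor_preserves_injective_linearMap _ N.subtype_injective).comp
        (TensorProduct.assoc R (B j) C N).symm.injective)
  apply hinj1
  apply hinj2
  rw [map_zero, map_zero, ← LinearMap.comp_apply, ← LinearMap.lTensor_comp]
  have h0 : N.subtype.lTensor C ∘ₗ K.subtype = 0 := by
    ext y
    exact y.2
  rw [h0, LinearMap.lTensor_zero, LinearMap.zero_apply]

include B in
/-- **a finite jointly surjective flat family is a descent family** -/
theorem descFam_of_surjective [Finite J]
    (hsurj : ∀ m : Ideal R, m.IsMaximal → ∃ j, Ideal.map (algebraMap R (B j)) m ≠ ⊤) :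
    DescFam (R := R) B where
  zero H _ _ hz := subsingleton_of_forall_tensor B hsurj H hz
  flatD C _ _ hz := flat_of_forall_tensor B hsurj C hz
  fin H _ _ hz := finite_of_forall_tensor B hsurj H hz

end Groth.Agent.Lib.H6xPCDesc
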