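import Mathlib
import Groth.Agent.Lib.H6xRelFlatE
import Groth.Agent.Lib.H6xLTensQcB
set_option backward.isDefEq.respectTransparency.types false

/-!
# Relative tor amplitude and open immersions on the source and on the base (helper6)
-/

set_option autoImplicit false
set_option linter.style.haveILetI false

universe u

open CategoryTheory CategoryTheory.Limits AlgebraicGeometry HomologicalComplex TopologicalSpace
  Opposite MonoidalCategory Pretriangulated

attribute [local instance] HasDerivedCategory.standard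

namespace Groth.Agent.Lib.H6xRelFlat

open Groth.Agent.Lib.Helper1.BKF Groth.Agent.Lib.Helper1.CI Groth.Agent.Lib.Helper1.Sky
  Groth.Agent.Lib.Helper1.KBC Groth.Agent.Lib.H6xFlatAmpStalk Groth.Agent.Lib.H6xFlatAmpLocal
  Groth.Agent.Lib.Helper1.Tor Groth.Agent.Lib.H6xRelTorAmp Groth.Agent.Lib.H6xRelTorAmpG
  Groth.Agent.Lib.Helper1.KF Groth.Agent.Lib.Helper1.TorO DerivedCategory

section ring

variable {B B' : Type u} [CommRing B] [CommRing B']

/-- restriction of scalars along the identity -/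
noncomputable def resCIdIso (T : Cx B) : (resC (RingHom.id B)).obj T ≅ T :=
  (NatIso.mapHomologicalComplex (ModuleCat.restrictScalarsId'.{u} (RingHom.id B) rfl)
    (ComplexShape.up ℤ)).app T ≪≫ (Functor.mapHomologicalComplexIdIso _ _).app T

/-- tor amplitude is reflected by restriction of scalars along a bijective ring map -/
theorem hasTorAmp_of_resC_bijective (ψ : B →+* B') (hψ : Function.Bijective ψ) (T : Cx B')
    (a b : ℤ) (h : DRing.HasTorAmplitudeIn B a b (Q.obj ((resC ψ).obj T))) :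
    DRing.HasTorAmplitudeIn B' a b (Q.obj T) := by
  let ε : B ≃+* B' := RingEquiv.ofBijective ψ hψ
  let ψinv : B' →+* B := ε.symm.toRingHom
  have hinv : Function.Bijective ψinv := ε.symm.bijective
  have hid : RingHom.id B' = ψ.comp ψinv := by
    ext x
    exact (ε.apply_symm_apply x).symm
  have h1 := hasTorAmp_resC_of_bijective ψinv hinv _ a b h
  exact hasTorAmp_of_iso (Q.mapIso ((resCCompIso ψinv ψ (RingHom.id B') hid T).symm ≪≫
    resCIdIso T)) h1

end ring

variable {X S Z T : Scheme.{u}}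

/-- open immersion on the source, chain level -/
theorem hasTorAmplitudeAt_pullC_iff (g : Z ⟶ X) [IsOpenImmersion g] (f : X ⟶ S)
    (F : CochainComplex X.Modules ℤ) (a b : ℤ) (z : Z) :
    DerSch.HasTorAmplitudeAt (g ≫ f) a b ((pullC g).obj F) z ↔
      DerSch.HasTorAmplitudeAt f a b F (g.base z) := by
  haveI : IsIso (g.stalkMap z) := inferInstance
  have hbij : Function.Bijective (g.stalkMap z).hom :=
    ConcreteCategory.bijective_of_isIso (g.stalkMap z)
  have hχ : ((g ≫ f).stalkMap z).hom =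
      (g.stalkMap z).hom.comp (f.stalkMap (g.base z)).hom := by
    rw [Scheme.Hom.stalkMap_comp]
    rfl
  let e : (DerSch.stalkCxOver (g ≫ f) z).obj ((pullC g).obj F) ≅
      (DerSch.stalkCxOver f (g.base z)).obj F :=
    stalkCxOverIso (g ≫ f) z _ ≪≫
      (resC ((g ≫ f).stalkMap z).hom).mapIso (stalkPullCIso g z F) ≪≫
      resCCompIso (f.stalkMap (g.base z)).hom (g.stalkMap z).hom _ hχ _ ≪≫
      (resC (f.stalkMap (g.base z)).hom).mapIso (extResCIso (g.stalkMap z).hom hbij _) ≪≫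
      (stalkCxOverIso f (g.base z) F).symm
  exact ⟨fun h => hasTorAmp_of_iso (Q.mapIso e) h, fun h => hasTorAmp_of_iso (Q.mapIso e).symm h⟩

/-- open immersion on the source, derived level -/
theorem torAt_restrictD_iff (g : Z ⟶ X) [IsOpenImmersion g] (f : X ⟶ S) (E : DCoh.D X)
    (a b : ℤ) (z : Z) :
    TorAt (g ≫ f) a b ((DCoh.restrictD g).obj E) z ↔ TorAt f a b E (g.base z) := by
  let F : CochainComplex X.Modules ℤ := Q.objPreimage E
  have e : DCoh.toD X F ≅ E := Q.objObjPreimageIso E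
  have e' : (DCoh.restrictD g).obj E ≅ DCoh.toD Z ((pullC g).obj F) :=
    (DCoh.restrictD g).mapIso e.symm ≪≫ Groth.Agent.Lib.H6xLTensQc.restrictDQIso g F
  constructor
  · intro h
    have h1 := (torAt_toD_iff a b _ z).1 (h.of_iso e')
    exact ((torAt_toD_iff a b F (g.base z)).2
      ((hasTorAmplitudeAt_pullC_iff g f F a b z).1 h1)).of_iso e
  · intro h
    have h1 := (torAt_toD_iff a b F (g.base z)).1 (h.of_iso e.symm)
    exact ((torAt_toD_iff a b _ z).2
      ((hasTorAmplitudeAt_pullC_iff g f F a b z).2 h1)).of_iso e'.symm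

/-- open immersion on the base -/
theorem torAt_comp_openImmersion_iff (φ : Z ⟶ T) (j : T ⟶ S) [IsOpenImmersion j] (E : DCoh.D Z)
    (a b : ℤ) (z : Z) :
    TorAt (φ ≫ j) a b E z ↔ TorAt φ a b E z := by
  haveI : IsIso (j.stalkMap (φ.base z)) := inferInstance
  have hbij : Function.Bijective (j.stalkMap (φ.base z)).hom :=
    ConcreteCategory.bijective_of_isIso (j.stalkMap (φ.base z))
  have hχ : ((φ ≫ j).stalkMap z).hom =
      (φ.stalkMap z).hom.comp (j.stalkMap (φ.base z)).hom := by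
    rw [Scheme.Hom.stalkMap_comp]
    rfl
  let F : CochainComplex Z.Modules ℤ := Q.objPreimage E
  have e : DCoh.toD Z F ≅ E := Q.objObjPreimageIso E
  -- both sides in terms of the complex of stalks
  let T1 := (stalkC z).obj F
  have i1 : (Φ (φ ≫ j) z).obj E ≅ Q.obj ((resC (j.stalkMap (φ.base z)).hom).obj
      ((resC (φ.stalkMap z).hom).obj T1)) :=
    (Φ (φ ≫ j) z).mapIso e.symm ≪≫ ΦIso (φ ≫ j) z F ≪≫
      Q.mapIso (resCCompIso (j.stalkMap (φ.base z)).hom (φ.stalkMap z).hom _ hχ T1)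
  have i2 : (Φ φ z).obj E ≅ Q.obj ((resC (φ.stalkMap z).hom).obj T1) :=
    (Φ φ z).mapIso e.symm ≪≫ ΦIso φ z F
  constructor
  · intro h
    have h1 : DRing.HasTorAmplitudeIn _ a b _ := hasTorAmp_of_iso i1 h
    exact hasTorAmp_of_iso i2.symm (hasTorAmp_of_resC_bijective _ hbij _ a b h1)
  · intro h
    have h1 : DRing.HasTorAmplitudeIn _ a b _ := hasTorAmp_of_iso i2 h
    exact hasTorAmp_of_iso i1.symm (hasTorAmp_resC_of_bijective _ hbij _ a b h1)

/-- locally finite relative tor dimension at a point -/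
def LocTorAt (f : X ⟶ S) (E : DCoh.D X) (x : X) : Prop :=
  ∃ (V : X.Opens) (a b : ℤ), x ∈ V ∧ ∀ y : X, y ∈ V → TorAt f a b E y

theorem locHasFiniteRelTorDim_iff_locTorAt (f : X ⟶ S) [Flat f] (E : DCoh.D X) :
    DCoh.LocHasFiniteRelTorDim f E ↔ ∀ x : X, LocTorAt f E x :=
  locHasFiniteRelTorDim_iff_torAt f E

lemma LocTorAt.of_iso {f : X ⟶ S} {E E' : DCoh.D X} {x : X} (h : LocTorAt f E x) (e : E ≅ E') :
    LocTorAt f E' x := by
  obtain ⟨V, a, b, hxV, hV⟩ := h
  exact ⟨V, a, b, hxV, fun y hy => (hV y hy).of_iso e⟩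

/-- transport along a square of open immersions -/
theorem locTorAt_square (g : Z ⟶ X) [IsOpenImmersion g] (j : T ⟶ S) [IsOpenImmersion j]
    (φ : Z ⟶ T) (f : X ⟶ S) (w : g ≫ f = φ ≫ j) (E : DCoh.D X) (z : Z) :
    LocTorAt φ ((DCoh.restrictD g).obj E) z ↔ LocTorAt f E (g.base z) := by
  have key : ∀ (a b : ℤ) (z' : Z),
      TorAt φ a b ((DCoh.restrictD g).obj E) z' ↔ TorAt f a b E (g.base z') := by
    intro a b z'
    rw [← torAt_restrictD_iff g f E a b z', ← torAt_comp_openImmersion_iff φ j _ a b z', w]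
  constructor
  · rintro ⟨W, a, b, hzW, hW⟩
    refine ⟨g ''ᵁ W, a, b, ⟨z, hzW, rfl⟩, ?_⟩
    rintro y ⟨z', hz', rfl⟩
    exact (key a b z').1 (hW z' hz')
  · rintro ⟨V, a, b, hzV, hV⟩
    exact ⟨g ⁻¹ᵁ V, a, b, hzV, fun z' hz' => (key a b z').2 (hV (g.base z') hz')⟩

end Groth.Agent.Lib.H6xRelFlat
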