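import Mathlib
import Groth.Agent.Lib.H6xRelFlatF
import Groth.Agent.Lib.H6xTildeTensB
set_option backward.isDefEq.respectTransparency.types false

/-!
# S7278: `S`-perfectness is the algebraic relative perfectness on affine charts (helper6)
-/

set_option autoImplicit false
set_option linter.style.haveILetI false

universe u

open CategoryTheory CategoryTheory.Limits AlgebraicGeometry HomologicalComplex TopologicalSpace
  Opposite MonoidalCategory Pretriangulated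

attribute [local instance] HasDerivedCategory.standard

namespace Groth.Agent.Lib.H6xRelFlat

open Groth.Agent.Lib.Helper1.BKF Groth.Agent.Lib.Helper1.CI Groth.Agent.Lib.Helper1.Sky
  Groth.Agent.Lib.Helper1.KBC Groth.Agent.Lib.H6xFlatAmpStalk Groth.Agent.Lib.H6xFlatAmpLocal
  Groth.Agent.Lib.Helper1.Tor Groth.Agent.Lib.H6xRelTorAmp Groth.Agent.Lib.H6xRelTorAmpG
  Groth.Agent.Lib.Helper1.KF Groth.Agent.Lib.Helper1.TorO DerivedCategory
  Groth.Agent.Lib.H6xPC3 Groth.Agent.Lib.H6xRpushQc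

variable {X S : Scheme.{u}} (f : X ⟶ S) [Flat f]

/-- `S`-perfectness is a pointwise condition -/
theorem sperf_iff_pointwise (E : DCoh.D X) :
    ((∀ m : ℤ, DCoh.IsPseudoCoherentD m E) ∧ DCoh.LocHasFiniteRelTorDim f E) ↔
      ∀ x : X, (∀ m : ℤ, PCAt m E x) ∧ LocTorAt f E x := by
  rw [locHasFiniteRelTorDim_iff_locTorAt]
  constructor
  · rintro ⟨h1, h2⟩ x
    exact ⟨fun m => (isPseudoCoherentD_iff_pcAt m E).1 (h1 m) x, h2 x⟩
  · intro h
    exact ⟨fun m => (isPseudoCoherentD_iff_pcAt m E).2 (fun x => (h x).1 m), fun x => (h x).2⟩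

/-- the chart lemma -/
theorem isRelPerfect_iff_chart [∀ R : CommRingCat.{u}, PreservesFiniteLimits (tilde.functor R)]
    (E : DCoh.D X) (U : X.Opens) (hU : IsAffineOpen U) (V : S.Opens) (hV : IsAffineOpen V)
    (hUV : U ≤ f ⁻¹ᵁ V) (M : DerivedCategory (ModuleCat.{u} Γ(X, U)))
    (e : (DCoh.restrictD hU.isoSpec.inv).obj ((DCoh.restrictD U.ι).obj E) ≅
      (DCoh.tildeD Γ(X, U)).obj M) :
    @Dual2.IsRelPerfect Γ(S, V) Γ(X, U) _ _ (f.appLE V U hUV).hom.toAlgebra M ↔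
      ∀ x : X, x ∈ U → (∀ m : ℤ, PCAt m E x) ∧ LocTorAt f E x := by
  letI : Algebra Γ(S, V) Γ(X, U) := (f.appLE V U hUV).hom.toAlgebra
  have hfl : (f.appLE V U hUV).hom.Flat :=
    HasRingHomProperty.appLE (P := @Flat) f inferInstance ⟨V, hV⟩ ⟨U, hU⟩ hUV
  haveI : Module.Flat Γ(S, V) Γ(X, U) := hfl
  have hφ : Flat (Spec.map (f.appLE V U hUV)) := by
    rw [HasRingHomProperty.Spec_iff (P := @Flat)]
    exact hfl
  have w : hU.fromSpec ≫ f = Spec.map (f.appLE V U hUV) ≫ hV.fromSpec :=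
    (hV.SpecMap_appLE_fromSpec f hU hUV).symm
  obtain ⟨c⟩ := Groth.Agent.Lib.H6xPerf23.nonempty_restrictD_comp hU.isoSpec.inv U.ι hU.fromSpec
    rfl E
  have eU : (DCoh.restrictD hU.fromSpec).obj E ≅ (DCoh.tildeD Γ(X, U)).obj M := c ≪≫ e
  have hrange : ∀ x : X, x ∈ U → ∃ z, hU.fromSpec.base z = x := by
    intro x hx
    have : x ∈ Set.range hU.fromSpec.base := by rw [hU.range_fromSpec]; exact hx
    exact this
  have hmem : ∀ z, hU.fromSpec.base z ∈ U := by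
    intro z
    have : hU.fromSpec.base z ∈ Set.range hU.fromSpec.base := ⟨z, rfl⟩
    rw [hU.range_fromSpec] at this
    exact this
  refine Iff.trans (main_affine Γ(S, V) Γ(X, U) M).symm ?_
  constructor
  · rintro ⟨hpc, htor⟩ x hx
    obtain ⟨z, rfl⟩ := hrange x hx
    refine ⟨fun m => PCAt.of_restrict hU.fromSpec z ?_,
      (locTorAt_square hU.fromSpec hV.fromSpec (Spec.map (f.appLE V U hUV)) f w E z).1 ?_⟩
    · exact (isPseudoCoherentD_iff_pcAt m _).1 (isPseudoCoherentD_of_iso eU.symm (hpc m)) z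
    · exact (((locHasFiniteRelTorDim_iff_locTorAt _ _).1 htor) z).of_iso eU.symm
  · intro h
    refine ⟨fun m => isPseudoCoherentD_of_iso eU ?_, ?_⟩
    · rw [isPseudoCoherentD_iff_pcAt]
      intro z
      exact PCAt.restrict hU.fromSpec z ((h _ (hmem z)).1 m)
    · rw [locHasFiniteRelTorDim_iff_locTorAt]
      intro z
      exact ((locTorAt_square hU.fromSpec hV.fromSpec (Spec.map (f.appLE V U hUV)) f w E z).2
        (h _ (hmem z)).2).of_iso eU

/-- existence of the module-level representative on an affine open -/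
theorem exists_tildeD_iso [∀ R : CommRingCat.{u}, PreservesFiniteLimits (tilde.functor R)]
    (E : DCoh.D X) (hE : DCoh.IsQCohD E) (U : X.Opens) (hU : IsAffineOpen U) :
    ∃ M : DerivedCategory (ModuleCat.{u} Γ(X, U)),
      Nonempty ((DCoh.restrictD hU.isoSpec.inv).obj ((DCoh.restrictD U.ι).obj E) ≅
        (DCoh.tildeD Γ(X, U)).obj M) := by
  obtain ⟨M, ⟨eM⟩⟩ := Groth.Agent.Lib.H6xLTensQc.exists_tilde_iso Γ(X, U) _
    (isQCohD_restrictD hU.isoSpec.inv _ (isQCohD_restrictD U.ι E hE))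
  exact ⟨Q.obj M, ⟨eM.symm ≪≫ ((tilde.functor Γ(X, U)).mapDerivedCategoryFactors.app M).symm⟩⟩

/-- S7278 -/
theorem main_charts [LocallyOfFinitePresentation f]
    [∀ R : CommRingCat.{u}, PreservesFiniteLimits (tilde.functor R)]
    (E : DCoh.D X) (hE : DCoh.IsQCohD E) :
    (((∀ m : ℤ, DCoh.IsPseudoCoherentD m E) ∧ DCoh.LocHasFiniteRelTorDim f E) ↔
      ∀ (U : X.Opens) (hU : IsAffineOpen U) (V : S.Opens) (hV : IsAffineOpen V) (hUV : U ≤ f ⁻¹ᵁ V)
        (M : DerivedCategory (ModuleCat.{u} Γ(X, U))),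
        Nonempty ((DCoh.restrictD hU.isoSpec.inv).obj ((DCoh.restrictD U.ι).obj E) ≅ (DCoh.tildeD Γ(X, U)).obj M) →
          @Dual2.IsRelPerfect Γ(S, V) Γ(X, U) _ _ (f.appLE V U hUV).hom.toAlgebra M) ∧
    (∀ (ι : Type u) (V : ι → S.Opens) (hV : ∀ i, IsAffineOpen (V i)) (hVcov : ⨆ i, V i = ⊤)
        (κ : ι → Type u) (U : ∀ i, κ i → X.Opens) (hU : ∀ i j, IsAffineOpen (U i j))
        (hUV : ∀ i j, U i j ≤ f ⁻¹ᵁ V i) (hUcov : ∀ i, ⨆ j, U i j = f ⁻¹ᵁ V i),
        (∀ (i : ι) (j : κ i) (M : DerivedCategory (ModuleCat.{u} Γ(X, U i j))),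
          Nonempty ((DCoh.restrictD (hU i j).isoSpec.inv).obj ((DCoh.restrictD (U i j).ι).obj E) ≅
              (DCoh.tildeD Γ(X, U i j)).obj M) →
            @Dual2.IsRelPerfect Γ(S, V i) Γ(X, U i j) _ _ (f.appLE (V i) (U i j) (hUV i j)).hom.toAlgebra M) →
        (∀ m : ℤ, DCoh.IsPseudoCoherentD m E) ∧ DCoh.LocHasFiniteRelTorDim f E) := by
  refine ⟨⟨fun h U hU V hV hUV M ⟨e⟩ => ?_, fun h => ?_⟩, ?_⟩
  · exact (isRelPerfect_iff_chart f E U hU V hV hUV M e).2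
      (fun x _ => (sperf_iff_pointwise f E).1 h x)
  · rw [sperf_iff_pointwise]
    intro x
    obtain ⟨V, hV, hxV, -⟩ := exists_isAffineOpen_mem_and_subset (x := f.base x) (U := ⊤) trivial
    obtain ⟨U, hU, hxU, hUV⟩ := exists_isAffineOpen_mem_and_subset (x := x) (U := f ⁻¹ᵁ V) hxV
    obtain ⟨M, ⟨e⟩⟩ := exists_tildeD_iso E hE U hU
    exact (isRelPerfect_iff_chart f E U hU V hV hUV M e).1 (h U hU V hV hUV M ⟨e⟩) x hxU
  · intro ι V hV hVcov κ U hU hUV hUcov h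
    rw [sperf_iff_pointwise]
    intro x
    have hx1 : f.base x ∈ ⨆ i, V i := by rw [hVcov]; trivial
    obtain ⟨i, hi⟩ := Opens.mem_iSup.1 hx1
    have hx2 : x ∈ ⨆ j, U i j := by rw [hUcov i]; exact hi
    obtain ⟨j, hj⟩ := Opens.mem_iSup.1 hx2
    obtain ⟨M, ⟨e⟩⟩ := exists_tildeD_iso E hE (U i j) (hU i j)
    exact (isRelPerfect_iff_chart f E (U i j) (hU i j) (V i) (hV i) (hUV i j) M e).1
      (h i j M ⟨e⟩) x hj

end Groth.Agent.Lib.H6xRelFlat
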