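import Mathlib
import Groth.Agent.Lib.H6xRelFlatG
set_option backward.isDefEq.respectTransparency.types false

/-!
# The chart lemma for `S`-perfectness, for general affine charts (helper6)
-/

set_option autoImplicit false
set_option linter.style.haveILetI false

universe u

open CategoryTheory CategoryTheory.Limits AlgebraicGeometry HomologicalComplex TopologicalSpace
  Opposite MonoidalCategory Pretriangulated

attribute [local instance] HasDerivedCategory.standard

namespace Groth.Agent.Lib.H6xRelFlat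

open Groth.Agent.Lib.Helper1.BKF Groth.Agent.Lib.Helper1.CI Groth.Agent.Lib.Helper1.Sky
  Groth.Agent.Lib.Helper1.KBC Groth.Agent.Lib.H6xFlatAmpStalk Groth.Agent.Lib.H6xFlatAmpLocal
  Groth.Agent.Lib.Helper1.Tor Groth.Agent.Lib.H6xRelTorAmp Groth.Agent.Lib.H6xRelTorAmpG
  Groth.Agent.Lib.Helper1.KF Groth.Agent.Lib.Helper1.TorO DerivedCategory
  Groth.Agent.Lib.H6xPC3 Groth.Agent.Lib.H6xRpushQc

variable {X S : Scheme.{u}}

/-- the chart lemma, general form -/
theorem isRelPerfect_iff_chart' (R A : Type u) [CommRing R] [CommRing A] [Algebra R A]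
    [Module.Flat R A] [PreservesFiniteLimits (tilde.functor (CommRingCat.of A))]
    (f : X ⟶ S) [Flat f] (E : DCoh.D X)
    (gX : Spec (CommRingCat.of A) ⟶ X) [IsOpenImmersion gX]
    (jS : Spec (CommRingCat.of R) ⟶ S) [IsOpenImmersion jS]
    (w : gX ≫ f = Spec.map (CommRingCat.ofHom (algebraMap R A)) ≫ jS) (M : Dual.D A)
    (e : (DCoh.restrictD gX).obj E ≅ (DCoh.tildeD (CommRingCat.of A)).obj M) :
    Dual2.IsRelPerfect R A M ↔
      ∀ z, (∀ m : ℤ, PCAt m E (gX.base z)) ∧ LocTorAt f E (gX.base z) := by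
  have hφ : Flat (Spec.map (CommRingCat.ofHom (algebraMap R A))) := by
    rw [HasRingHomProperty.Spec_iff (P := @Flat)]
    exact (RingHom.flat_algebraMap_iff).2 inferInstance
  refine Iff.trans (main_affine R A M).symm ?_
  constructor
  · rintro ⟨hpc, htor⟩ z
    refine ⟨fun m => PCAt.of_restrict gX z ?_,
      (locTorAt_square gX jS (Spec.map (CommRingCat.ofHom (algebraMap R A))) f w E z).1 ?_⟩
    · exact (isPseudoCoherentD_iff_pcAt m _).1 (isPseudoCoherentD_of_iso e.symm (hpc m)) z
    · exact (((locHasFiniteRelTorDim_iff_locTorAt _ _).1 htor) z).of_iso e.symm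
  · intro h
    refine ⟨fun m => isPseudoCoherentD_of_iso e ?_, ?_⟩
    · rw [isPseudoCoherentD_iff_pcAt]
      intro z
      exact PCAt.restrict gX z ((h z).1 m)
    · rw [locHasFiniteRelTorDim_iff_locTorAt]
      intro z
      exact ((locTorAt_square gX jS (Spec.map (CommRingCat.ofHom (algebraMap R A))) f w E z).2
        (h z).2).of_iso e

/-- existence of the module-level representative on an affine chart -/
theorem exists_tildeD_iso' (A : Type u) [CommRing A]
    [PreservesFiniteLimits (tilde.functor (CommRingCat.of A))]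
    (E : DCoh.D X) (hE : DCoh.IsQCohD E) (gX : Spec (CommRingCat.of A) ⟶ X) [IsOpenImmersion gX] :
    ∃ M : Dual.D A,
      Nonempty ((DCoh.restrictD gX).obj E ≅ (DCoh.tildeD (CommRingCat.of A)).obj M) := by
  obtain ⟨M, ⟨eM⟩⟩ := Groth.Agent.Lib.H6xLTensQc.exists_tilde_iso (CommRingCat.of A) _
    (isQCohD_restrictD gX E hE)
  exact ⟨Q.obj M, ⟨eM.symm ≪≫
    ((tilde.functor (CommRingCat.of A)).mapDerivedCategoryFactors.app M).symm⟩⟩

/-- the derived pullback along an open immersion is the restriction -/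
theorem nonempty_lpull_restrictD_iso {Z : Scheme.{u}} (g : Z ⟶ X) [IsOpenImmersion g]
    [DCoh.HasLpull g] (E : DCoh.D X) :
    Nonempty ((DCoh.Lpull g).obj E ≅ (DCoh.restrictD g).obj E) := by
  haveI : PreservesFiniteLimits (Scheme.Modules.pullback g) :=
    Limits.preservesFiniteLimits_of_natIso (Scheme.Modules.restrictFunctorIsoPullback g)
  let F : CochainComplex X.Modules ℤ := Q.objPreimage E
  have e : DCoh.toD X F ≅ E := Q.objObjPreimageIso E
  exact ⟨(DCoh.Lpull g).mapIso e.symm ≪≫ lpullIsoOfExact g F ≪≫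
    (Groth.Agent.Lib.H6xLTensQc.restrictDQIso g F).symm ≪≫ (DCoh.restrictD g).mapIso e⟩

end Groth.Agent.Lib.H6xRelFlat
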