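import Mathlib
import Groth.Agent.Lib.H6xRelFlatH
import Groth.Agent.S7075
import Groth.Agent.S1055
import Groth.Agent.S0910
set_option backward.isDefEq.respectTransparency.types false

/-!
# S1100: `S`-perfectness is preserved by base change (helper6)
-/

set_option autoImplicit false
set_option linter.style.haveILetI false

universe u

open CategoryTheory CategoryTheory.Limits AlgebraicGeometry HomologicalComplex TopologicalSpace
  Opposite MonoidalCategory Pretriangulated TensorProduct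

attribute [local instance] HasDerivedCategory.standard

namespace Groth.Agent.Lib.H6xRelFlat

open Groth.Agent.Lib.Helper1.BKF Groth.Agent.Lib.Helper1.CI Groth.Agent.Lib.Helper1.Sky
  Groth.Agent.Lib.Helper1.KBC Groth.Agent.Lib.H6xFlatAmpStalk Groth.Agent.Lib.H6xFlatAmpLocal
  Groth.Agent.Lib.Helper1.Tor Groth.Agent.Lib.H6xRelTorAmp Groth.Agent.Lib.H6xRelTorAmpG
  Groth.Agent.Lib.Helper1.KF Groth.Agent.Lib.Helper1.TorO DerivedCategory
  Groth.Agent.Lib.H6xPC3 Groth.Agent.Lib.H6xRpushQc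

section chart

variable (R R' A : Type u) [CommRing R] [CommRing R'] [CommRing A] [Algebra R A] [Algebra R R']
  {X S S' : Scheme.{u}} (f : X ⟶ S) (g : S' ⟶ S)
  (gX : Spec (.of A) ⟶ X) [IsOpenImmersion gX] (jS : Spec (.of R) ⟶ S) [IsOpenImmersion jS]
  (jS' : Spec (.of R') ⟶ S') [IsOpenImmersion jS']
  (w1 : gX ≫ f = Spec.map (CommRingCat.ofHom (algebraMap R A)) ≫ jS)
  (w2 : jS' ≫ g = Spec.map (CommRingCat.ofHom (algebraMap R R')) ≫ jS)

/-- the chart of the fibre product -/
noncomputable def chartK : Spec (.of (R' ⊗[R] A)) ⟶ pullback f g :=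
  (pullbackSpecIso R R' A).inv ≫ pullback.map _ _ g f jS' gX jS w2.symm w1.symm ≫
    (pullbackSymmetry g f).hom

instance : IsOpenImmersion (chartK R R' A f g gX jS jS' w1 w2) := by
  unfold chartK
  infer_instance

lemma chartK_fst : chartK R R' A f g gX jS jS' w1 w2 ≫ pullback.fst f g =
    Spec.map (CommRingCat.ofHom
      (Algebra.TensorProduct.includeRight.toRingHom : A →+* R' ⊗[R] A)) ≫ gX := by
  unfold chartK
  rw [Category.assoc, Category.assoc, pullbackSymmetry_hom_comp_fst, pullback.map]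
  rw [pullback.lift_snd, ← Category.assoc, pullbackSpecIso_inv_snd]
  rfl

lemma chartK_snd : chartK R R' A f g gX jS jS' w1 w2 ≫ pullback.snd f g =
    Spec.map (CommRingCat.ofHom (algebraMap R' (R' ⊗[R] A))) ≫ jS' := by
  unfold chartK
  rw [Category.assoc, Category.assoc, pullbackSymmetry_hom_comp_snd, pullback.map]
  rw [pullback.lift_fst, ← Category.assoc, pullbackSpecIso_inv_fst]

lemma mem_range_chartK (x' : ↥(pullback f g))
    (h1 : (pullback.fst f g).base x' ∈ Set.range gX.base)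
    (h2 : (pullback.snd f g).base x' ∈ Set.range jS'.base) :
    x' ∈ Set.range (chartK R R' A f g gX jS jS' w1 w2).base := by
  have hy : (pullbackSymmetry g f).inv.base x' ∈
      Set.range (pullback.map _ _ g f jS' gX jS w2.symm w1.symm).base := by
    rw [Scheme.Pullback.range_map]
    refine ⟨?_, ?_⟩
    · show (pullback.fst g f) ((pullbackSymmetry g f).inv x') ∈ Set.range jS'
      rw [← Scheme.Hom.comp_apply, pullbackSymmetry_inv_comp_fst]
      exact h2
    · show (pullback.snd g f) ((pullbackSymmetry g f).inv x') ∈ Set.range gX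
      rw [← Scheme.Hom.comp_apply, pullbackSymmetry_inv_comp_snd]
      exact h1
  obtain ⟨y, hy⟩ := hy
  refine ⟨(pullbackSpecIso R R' A).hom.base y, ?_⟩
  unfold chartK
  rw [Scheme.Hom.comp_apply, Scheme.Hom.comp_apply,
    ← Scheme.Hom.comp_apply (pullbackSpecIso R R' A).hom, Iso.hom_inv_id]
  have h0 : (𝟙 (pullback (Spec.map (CommRingCat.ofHom (algebraMap R R')))
      (Spec.map (CommRingCat.ofHom (algebraMap R A))))) y = y := rfl
  rw [h0, hy, ← Scheme.Hom.comp_apply, Iso.inv_hom_id]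
  rfl

include w1 w2 in
/-- the local statement -/
theorem locTorAt_baseChange_chart [Module.Flat R A] [Algebra.FinitePresentation R A] [Flat f]
    [DCoh.HasLpull (pullback.fst f g)] (K : DCoh.D X)
    (hK : (∀ m : ℤ, DCoh.IsPseudoCoherentD m K) ∧ DCoh.LocHasFiniteRelTorDim f K)
    (x' : ↥(pullback f g)) (h1 : (pullback.fst f g).base x' ∈ Set.range gX.base)
    (h2 : (pullback.snd f g).base x' ∈ Set.range jS'.base) :
    LocTorAt (pullback.snd f g) ((DCoh.Lpull (pullback.fst f g)).obj K) x' := by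
  haveI : ∀ B : CommRingCat.{u}, PreservesFiniteLimits (tilde.functor B) :=
    fun B => (Groth.Agent.S9498.aux B).1
  obtain ⟨z, hz⟩ := mem_range_chartK R R' A f g gX jS jS' w1 w2 x' h1 h2
  have hKq : DCoh.IsQCohD K := Groth.Agent.Lib.H6xTildeTens.isQCohD_of_forall_pc K hK.1
  obtain ⟨M, ⟨eM⟩⟩ := exists_tildeD_iso' A K hKq gX
  have hM : Dual2.IsRelPerfect R A M :=
    (isRelPerfect_iff_chart' R A f K gX jS w1 M eM).2
      (fun z => (sperf_iff_pointwise f K).1 hK _)
  let incl : A →+* R' ⊗[R] A := Algebra.TensorProduct.includeRight.toRingHom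
  haveI : DRing.HasLBaseChange incl := Groth.Agent.Lib.H6xHasLDerRing.hasLBaseChange incl
  have hM' : Dual2.IsRelPerfect R' (R' ⊗[R] A) ((DRing.LBaseChange incl).obj M) :=
    Groth.Agent.S7075.result R A R' M hM
  let k := chartK R R' A f g gX jS jS' w1 w2
  let p : Spec (.of (R' ⊗[R] A)) ⟶ Spec (.of A) := Spec.map (CommRingCat.ofHom incl)
  haveI : DCoh.HasLpull k := hasLpull _
  haveI : DCoh.HasLpull p := hasLpull _
  haveI : DCoh.HasLpull gX := hasLpull _
  haveI : DCoh.HasLpull (k ≫ pullback.fst f g) := hasLpull _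
  haveI : DCoh.HasLpull (p ≫ gX) := hasLpull _
  obtain ⟨a1⟩ := nonempty_lpull_restrictD_iso k ((DCoh.Lpull (pullback.fst f g)).obj K)
  obtain ⟨a2⟩ := nonempty_lpull_comp_iso k (pullback.fst f g)
  obtain ⟨a3⟩ := nonempty_lpull_congr (chartK_fst R R' A f g gX jS jS' w1 w2)
  obtain ⟨a4⟩ := nonempty_lpull_comp_iso p gX
  obtain ⟨a5⟩ := nonempty_lpull_restrictD_iso gX K
  obtain ⟨a6⟩ := Groth.Agent.S1055.result incl
  have e' : (DCoh.restrictD k).obj ((DCoh.Lpull (pullback.fst f g)).obj K) ≅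
      (DCoh.tildeD (CommRingCat.of (R' ⊗[R] A))).obj ((DRing.LBaseChange incl).obj M) :=
    a1.symm ≪≫ a2.app K ≪≫ a3.app K ≪≫ (a4.app K).symm ≪≫ (DCoh.Lpull p).mapIso (a5 ≪≫ eM) ≪≫
      (a6.app M).symm
  have key := (isRelPerfect_iff_chart' R' (R' ⊗[R] A) (pullback.snd f g) _ k jS'
    (chartK_snd R R' A f g gX jS jS' w1 w2) _ e').1 hM' z
  rw [hz] at key
  exact key.2

end chart

/-- S1100 -/
theorem main_baseChange {X S S' : Scheme.{u}} (f : X ⟶ S) [Flat f]
    [LocallyOfFinitePresentation f] (g : S' ⟶ S)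
    [DCoh.HasLpull (pullback.fst f g)] (K : DCoh.D X)
    (hK : ((∀ m : ℤ, DCoh.IsPseudoCoherentD m K) ∧ DCoh.LocHasFiniteRelTorDim f K)) :
    ((∀ m : ℤ, DCoh.IsPseudoCoherentD m ((DCoh.Lpull (pullback.fst f g)).obj K)) ∧
      DCoh.LocHasFiniteRelTorDim (pullback.snd f g) ((DCoh.Lpull (pullback.fst f g)).obj K)) := by
  refine ⟨fun m => Groth.Agent.S0910.result _ m K (hK.1 m), ?_⟩
  rw [locHasFiniteRelTorDim_iff_locTorAt]
  intro x'
  have hcond : f.base ((pullback.fst f g).base x') = g.base ((pullback.snd f g).base x') := by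
    rw [← Scheme.Hom.comp_apply, ← Scheme.Hom.comp_apply, pullback.condition]
  obtain ⟨V, hV, hxV, -⟩ := exists_isAffineOpen_mem_and_subset
    (x := f.base ((pullback.fst f g).base x')) (U := ⊤) trivial
  obtain ⟨U, hU, hxU, hUV⟩ := exists_isAffineOpen_mem_and_subset
    (x := (pullback.fst f g).base x') (U := f ⁻¹ᵁ V) hxV
  obtain ⟨V', hV', hxV', hV'V⟩ := exists_isAffineOpen_mem_and_subset
    (x := (pullback.snd f g).base x') (U := g ⁻¹ᵁ V) (by
      show g.base ((pullback.snd f g).base x') ∈ V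
      rw [← hcond]; exact hxV)
  letI : Algebra Γ(S, V) Γ(X, U) := (f.appLE V U hUV).hom.toAlgebra
  letI : Algebra Γ(S, V) Γ(S', V') := (g.appLE V V' hV'V).hom.toAlgebra
  have hfl : (f.appLE V U hUV).hom.Flat :=
    HasRingHomProperty.appLE (P := @Flat) f inferInstance ⟨V, hV⟩ ⟨U, hU⟩ hUV
  haveI : Module.Flat Γ(S, V) Γ(X, U) := hfl
  have hfp : (f.appLE V U hUV).hom.FinitePresentation :=
    HasRingHomProperty.appLE (P := @LocallyOfFinitePresentation) f inferInstance ⟨V, hV⟩ ⟨U, hU⟩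
      hUV
  haveI : Algebra.FinitePresentation Γ(S, V) Γ(X, U) := hfp
  have w1 : hU.fromSpec ≫ f = Spec.map (f.appLE V U hUV) ≫ hV.fromSpec :=
    (hV.SpecMap_appLE_fromSpec f hU hUV).symm
  have w2 : hV'.fromSpec ≫ g = Spec.map (g.appLE V V' hV'V) ≫ hV.fromSpec :=
    (hV.SpecMap_appLE_fromSpec g hV' hV'V).symm
  refine locTorAt_baseChange_chart Γ(S, V) Γ(S', V') Γ(X, U) f g hU.fromSpec hV.fromSpec
    hV'.fromSpec w1 w2 K hK x' ?_ ?_
  · rw [hU.range_fromSpec]; exact hxU
  · rw [hV'.range_fromSpec]; exact hxV'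

end Groth.Agent.Lib.H6xRelFlat
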