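import Mathlib
import Groth.Agent.Lib.H6xPCDescA
import Groth.Agent.Lib.H6xRelFlatI
set_option backward.isDefEq.respectTransparency.types false

/-!
# Pseudo-coherence descends along flat surjective quasi-compact morphisms (helper6, S1057)
-/

set_option autoImplicit false
set_option linter.style.haveILetI false
universe u
open CategoryTheory CategoryTheory.Limits AlgebraicGeometry TensorProduct
attribute [local instance] HasDerivedCategory.standard

namespace Groth.Agent.Lib.H6xPCDesc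

open Groth.Agent.Lib.Helper1.Tor Groth.Agent.Lib.Helper1.Extend Groth.Agent.Lib.Helper1.KF
  Groth.Agent.Lib.Helper1.LDer Groth.Agent.Lib.Helper1.Sky Groth.Agent.Lib.Helper1.PC
  Groth.Agent.Lib.H6xRelFlat Groth.Agent.Lib.H6xPC3 DerivedCategory

/-- derived base change along a flat map is the exact extension of scalars -/
theorem nonempty_lbc_iso_extD {A B : Type u} [CommRing A] [CommRing B] [Algebra A B]
    [Module.Flat A B] [DRing.HasLBaseChange (algebraMap A B)] (M : Dual.D A) :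
    Nonempty ((DRing.LBaseChange (algebraMap A B)).obj M ≅ (extD A B).obj M) := by
  obtain ⟨P, p, hP, -, hp, -⟩ := exists_kprojective_resolution (Q.objPreimage M)
  haveI := hP
  haveI hpi : IsIso (Q.map p) := (DerivedCategory.isIso_Q_map_iff_quasiIso (φ := p)).2 hp
  let e : Q.obj P ≅ M := asIso (Q.map p) ≪≫ Q.objObjPreimageIso M
  exact ⟨(DRing.LBaseChange (algebraMap A B)).mapIso e.symm ≪≫ lbcIso (algebraMap A B) P ≪≫
    (mapQIso (ext A B) P).symm ≪≫ (extD A B).mapIso e⟩


/-- base change of the module on a chart -/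
theorem isPC_extD_chart {X' X : Scheme.{u}} (f : X' ⟶ X) [DCoh.HasLpull f] (E : DCoh.D X) (m : ℤ)
    (h : DCoh.IsPseudoCoherentD m ((DCoh.Lpull f).obj E))
    (A B : Type u) [CommRing A] [CommRing B] [Algebra A B] [Module.Flat A B]
    [PreservesFiniteLimits (tilde.functor (CommRingCat.of A))]
    (gX : Spec (.of A) ⟶ X) [IsOpenImmersion gX] (k : Spec (.of B) ⟶ X') [IsOpenImmersion k]
    (w : k ≫ f = Spec.map (CommRingCat.ofHom (algebraMap A B)) ≫ gX)
    (M : Dual.D A) (eM : (DCoh.restrictD gX).obj E ≅ (DCoh.tildeD (.of A)).obj M) :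
    DRing.IsPseudoCoherent B m ((extD A B).obj M) := by
  haveI : PreservesFiniteLimits (tilde.functor (CommRingCat.of B)) :=
    (Groth.Agent.S9498.aux (CommRingCat.of B)).1
  haveI : DRing.HasLBaseChange (algebraMap A B) :=
    Groth.Agent.Lib.H6xHasLDerRing.hasLBaseChange (algebraMap A B)
  let p : Spec (.of B) ⟶ Spec (.of A) := Spec.map (CommRingCat.ofHom (algebraMap A B))
  haveI : DCoh.HasLpull k := hasLpull _
  haveI : DCoh.HasLpull p := hasLpull _
  haveI : DCoh.HasLpull gX := hasLpull _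
  haveI : DCoh.HasLpull (k ≫ f) := hasLpull _
  haveI : DCoh.HasLpull (p ≫ gX) := hasLpull _
  obtain ⟨a1⟩ := nonempty_lpull_restrictD_iso k ((DCoh.Lpull f).obj E)
  obtain ⟨a2⟩ := nonempty_lpull_comp_iso k f
  obtain ⟨a3⟩ := nonempty_lpull_congr w
  obtain ⟨a4⟩ := nonempty_lpull_comp_iso p gX
  obtain ⟨a5⟩ := nonempty_lpull_restrictD_iso gX E
  obtain ⟨a6⟩ := Groth.Agent.S1055.result (algebraMap A B)
  have e' : (DCoh.restrictD k).obj ((DCoh.Lpull f).obj E) ≅
      (DCoh.tildeD (CommRingCat.of B)).obj ((DRing.LBaseChange (algebraMap A B)).obj M) :=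
    a1.symm ≪≫ a2.app E ≪≫ a3.app E ≪≫ (a4.app E).symm ≪≫ (DCoh.Lpull p).mapIso (a5 ≪≫ eM) ≪≫
      (a6.app M).symm
  have h1 := isPseudoCoherentD_of_iso e'
    (Groth.Agent.Lib.H6xTildeTens.isPseudoCoherentD_restrictD k _ m h)
  have h2 := (Groth.Agent.Lib.H6xTildePC.pc_tildeD_iff _ _ m).1 h1
  obtain ⟨e⟩ := nonempty_lbc_iso_extD (A := A) (B := B) M
  exact isPC_of_iso e h2

/-- **S1057** -/
theorem main {X' X : Scheme.{u}} (f : X' ⟶ X) [Flat f] [Surjective f] [QuasiCompact f]
    [DCoh.HasLpull f] (E : DCoh.D X) (hE : DCoh.IsQCohD E) (m : ℤ) :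
    DCoh.IsPseudoCoherentD m E ↔ DCoh.IsPseudoCoherentD m ((DCoh.Lpull f).obj E) := by
  constructor
  · exact Groth.Agent.S0910.result f m E
  · intro h
    haveI : ∀ C : CommRingCat.{u}, PreservesFiniteLimits (tilde.functor C) :=
      fun C => (Groth.Agent.S9498.aux C).1
    rw [isPseudoCoherentD_iff_pcAt]
    intro x
    obtain ⟨U, hU, hxU, -⟩ := exists_isAffineOpen_mem_and_subset (x := x) (U := ⊤) trivial
    obtain ⟨z, hz⟩ : x ∈ Set.range hU.fromSpec.base := by
      rw [hU.range_fromSpec]; exact hxU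
    rw [← hz]
    apply PCAt.of_restrict hU.fromSpec z
    obtain ⟨M, ⟨eM⟩⟩ := exists_tildeD_iso' Γ(X, U) E hE hU.fromSpec
    suffices hM : DRing.IsPseudoCoherent Γ(X, U) m M from
      (isPseudoCoherentD_iff_pcAt m _).1 (isPseudoCoherentD_of_iso eM.symm
        ((Groth.Agent.Lib.H6xTildePC.pc_tildeD_iff _ M m).2 hM)) z
    have hc : IsCompact (f ⁻¹ᵁ U : Set X') := f.isCompact_preimage hU.isCompact
    obtain ⟨s, hs, hsU⟩ := isCompact_iff_finite_and_eq_biUnion_affineOpens.1 hc
    obtain ⟨n, W, -, hW⟩ := hs.fin_param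
    have hle : ∀ j, (W j : X'.Opens) ≤ f ⁻¹ᵁ U := by
      intro j
      rw [hsU]
      exact le_iSup₂ (f := fun i (_ : i ∈ s) => (i : X'.Opens)) (W j) (hW ▸ ⟨j, rfl⟩)
    letI alg : ∀ j, Algebra Γ(X, U) Γ(X', W j) :=
      fun j => (f.appLE U (W j) (hle j)).hom.toAlgebra
    haveI flat : ∀ j, Module.Flat Γ(X, U) Γ(X', W j) := fun j =>
      (HasRingHomProperty.appLE (P := @Flat) f inferInstance ⟨U, hU⟩ ⟨W j, (W j).2⟩ (hle j) :
        (f.appLE U (W j) (hle j)).hom.Flat)
    have hB : DescFam (R := Γ(X, U)) (fun j : Fin n => Γ(X', W j)) := by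
      refine descFam_of_surjective _ ?_
      intro mx hmx
      let p : Spec Γ(X, U) := ⟨mx, hmx.isPrime⟩
      obtain ⟨x', hx'⟩ := f.surjective (hU.fromSpec p)
      have hx'U : x' ∈ f ⁻¹ᵁ U := by
        show f x' ∈ U
        rw [hx']
        have : hU.fromSpec p ∈ Set.range hU.fromSpec := ⟨p, rfl⟩
        rw [hU.range_fromSpec] at this
        exact this
      rw [hsU] at hx'U
      obtain ⟨i, hi⟩ := TopologicalSpace.Opens.mem_iSup.1 hx'U
      obtain ⟨his, hx'i⟩ := TopologicalSpace.Opens.mem_iSup.1 hi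
      obtain ⟨j, rfl⟩ : ∃ j, W j = i := by rw [← hW] at his; exact his
      obtain ⟨q, hq⟩ : x' ∈ Set.range (W j).2.fromSpec := by
        rw [(W j).2.range_fromSpec]; exact hx'i
      refine ⟨j, ?_⟩
      have hcomap : Spec.map (f.appLE U (W j) (hle j)) q = p := by
        apply hU.fromSpec.isOpenEmbedding.injective
        rw [← Scheme.Hom.comp_apply, hU.SpecMap_appLE_fromSpec f (W j).2 (hle j),
          Scheme.Hom.comp_apply, hq, hx']
      intro htop
      have hle' : Ideal.map (algebraMap Γ(X, U) Γ(X', W j)) mx ≤ q.asIdeal := by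
        rw [Ideal.map_le_iff_le_comap]
        have h0 := congrArg PrimeSpectrum.asIdeal hcomap
        intro r hr
        have : r ∈ (Spec.map (f.appLE U (W j) (hle j)) q).asIdeal := by rw [h0]; exact hr
        exact this
      exact q.isPrime.ne_top (top_le_iff.1 (htop ▸ hle'))
    exact hB.isPC M m (fun j => isPC_extD_chart f E m h Γ(X, U) Γ(X', W j) hU.fromSpec
      (W j).2.fromSpec (hU.SpecMap_appLE_fromSpec f (W j).2 (hle j)).symm M eM)

end Groth.Agent.Lib.H6xPCDesc
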