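/-
Flat base change of injective modules along ring maps A → B of Noetherian rings with p B_q = q B_q
for all primes q of B (p = q ∩ A): elementary Baer-criterion argument.
Main results: `exists_lift_of_surj`, `exists_of_rel`, `exists_of_rel_tensor`, `key`, `baer_of_key` (Baer criterion over a
Noetherian ring from a local extension property at primes), `main_1745`.
-/
import Mathlib

set_option autoImplicit false
set_option linter.style.haveILetI false
set_option linter.unusedSectionVars false
universe u
open scoped TensorProduct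

namespace Groth.Agent.Lib.R2H1.InjBC

section Part1

/-- Lift a linear map along a surjection killing the kernel. -/
lemma exists_lift_of_surj {R : Type*} [CommRing R] {P N M : Type*} [AddCommGroup P] [AddCommGroup N]
    [AddCommGroup M] [Module R P] [Module R N] [Module R M] (π : P →ₗ[R] N)
    (hπ : Function.Surjective π) (F : P →ₗ[R] M) (hk : LinearMap.ker π ≤ LinearMap.ker F) :
    ∃ f : N →ₗ[R] M, ∀ p, f (π p) = F p := by
  refine ⟨(Submodule.liftQ (LinearMap.ker π) F hk) ∘ₗ
    (π.quotKerEquivOfSurjective hπ).symm.toLinearMap, fun p => ?_⟩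
  have : (π.quotKerEquivOfSurjective hπ).symm (π p) = Submodule.Quotient.mk p := by
    rw [LinearEquiv.symm_apply_eq]
    rfl
  simp only [LinearMap.coe_comp, LinearEquiv.coe_coe, Function.comp_apply, this]
  rfl

variable {A : Type u} [CommRing A]

/-- For an injective module, a tuple satisfying all relations of `a` is a multiple of `a`. -/
lemma exists_of_rel (I : Type u) [AddCommGroup I] [Module A I] [Module.Injective A I] {n : ℕ}
    (a : Fin n → A) (x : Fin n → I)
    (hx : ∀ r : Fin n → A, ∑ i, r i * a i = 0 → ∑ i, r i • x i = 0) :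
    ∃ y : I, ∀ i, x i = a i • y := by
  classical
  have hB : Module.Baer A I := Module.Baer.of_injective inferInstance
  -- the map (Fin n → A) → span (range a)
  let π₀ : (Fin n → A) →ₗ[A] A := Fintype.linearCombination A a
  let F : (Fin n → A) →ₗ[A] I := Fintype.linearCombination A x
  have hrange : LinearMap.range π₀ = Ideal.span (Set.range a) := by
    simp only [π₀, Fintype.range_linearCombination]
  let π : (Fin n → A) →ₗ[A] (Ideal.span (Set.range a) : Ideal A) :=
    LinearMap.codRestrict _ π₀ (fun r => by rw [← hrange]; exact ⟨r, rfl⟩)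
  have hπ : Function.Surjective π := by
    rintro ⟨z, hz⟩
    rw [← hrange] at hz
    obtain ⟨r, rfl⟩ := hz
    exact ⟨r, rfl⟩
  have hk : LinearMap.ker π ≤ LinearMap.ker F := by
    intro r hr
    rw [LinearMap.mem_ker] at hr ⊢
    have h0 : π₀ r = 0 := congrArg Subtype.val hr
    simp only [π₀, Fintype.linearCombination_apply, smul_eq_mul] at h0
    simp only [F, Fintype.linearCombination_apply]
    exact hx r h0
  obtain ⟨g, hg⟩ := exists_lift_of_surj π hπ F hk
  obtain ⟨g', hg'⟩ := hB _ g
  refine ⟨g' 1, fun i => ?_⟩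
  have hai : a i ∈ Ideal.span (Set.range a) := Ideal.subset_span ⟨i, rfl⟩
  have h1 : g ⟨a i, hai⟩ = x i := by
    have : π (Pi.single i 1) = ⟨a i, hai⟩ := by
      apply Subtype.ext
      simp [π, π₀, Fintype.linearCombination_apply_single]
    rw [← this, hg]
    simp [F, Fintype.linearCombination_apply_single]
  rw [← h1, ← hg' (a i) hai]
  rw [← map_smul, smul_eq_mul, mul_one]

end Part1

section Part2

variable {A : Type u} [CommRing A] {B : Type u} [CommRing B] [Algebra A B]

/-- Tensor version of `exists_of_rel` for a flat algebra over a Noetherian ring. -/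
lemma exists_of_rel_tensor [IsNoetherianRing A] [Module.Flat A B]
    (I : Type u) [AddCommGroup I] [Module A I] [Module.Injective A I] {n : ℕ}
    (a : Fin n → A) (m : Fin n → B ⊗[A] I)
    (hm : ∀ r : Fin n → A, ∑ i, r i * a i = 0 → ∑ i, r i • m i = 0) :
    ∃ y : B ⊗[A] I, ∀ i, m i = a i • y := by
  classical
  let π₀ : (Fin n → A) →ₗ[A] A := Fintype.linearCombination A a
  let K : Submodule A (Fin n → A) := LinearMap.ker π₀
  have hKfg : K.FG := IsNoetherian.noetherian K
  obtain ⟨s, ρ, hρ⟩ := Submodule.fg_iff_exists_fin_generating_family.mp hKfg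
  have hρK : ∀ k, ∑ i, ρ k i * a i = 0 := by
    intro k
    have : ρ k ∈ K := by rw [← hρ]; exact Submodule.subset_span ⟨k, rfl⟩
    have h0 : π₀ (ρ k) = 0 := this
    simpa [π₀, Fintype.linearCombination_apply] using h0
  let u : I →ₗ[A] (Fin n → I) := LinearMap.pi (fun i => a i • LinearMap.id)
  let v : (Fin n → I) →ₗ[A] (Fin s → I) :=
    LinearMap.pi (fun k => ∑ i, (ρ k i) • LinearMap.proj i)
  have hu : ∀ y i, u y i = a i • y := fun y i => rfl
  have hv : ∀ x k, v x k = ∑ i, ρ k i • x i := by
    intro x k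
    simp [v]
  have hex : Function.Exact u v := by
    intro x
    constructor
    · intro hvx
      have hrel : ∀ r : Fin n → A, ∑ i, r i * a i = 0 → ∑ i, r i • x i = 0 := by
        intro r hr
        have hrK : r ∈ K := by
          change π₀ r = 0
          simpa [π₀, Fintype.linearCombination_apply] using hr
        have hle : K ≤ LinearMap.ker (Fintype.linearCombination A x) := by
          rw [← hρ, Submodule.span_le]
          rintro _ ⟨k, rfl⟩
          change Fintype.linearCombination A x (ρ k) = 0
          rw [Fintype.linearCombination_apply, ← hv x k, hvx]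
          rfl
        have := hle hrK
        rw [LinearMap.mem_ker, Fintype.linearCombination_apply] at this
        exact this
      obtain ⟨y, hy⟩ := exists_of_rel I a x hrel
      exact ⟨y, funext fun i => by rw [hu, hy i]⟩
    · rintro ⟨y, rfl⟩
      funext k
      rw [hv]
      simp only [hu, smul_smul]
      rw [← Finset.sum_smul, hρK k, zero_smul]
      rfl
  have hexT := Module.Flat.lTensor_exact B hex
  -- the two computation lemmas
  have L1 : ∀ (w : B ⊗[A] (Fin n → I)) (k : Fin s),
      TensorProduct.piRightHom A A B (fun _ : Fin s => I) (v.lTensor B w) k =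
        ∑ i, ρ k i • TensorProduct.piRightHom A A B (fun _ : Fin n => I) w i := by
    intro w k
    induction w using TensorProduct.induction_on with
    | zero => simp
    | tmul b x =>
      simp only [LinearMap.lTensor_tmul, TensorProduct.piRightHom_tmul, hv]
      rw [TensorProduct.tmul_sum]
      refine Finset.sum_congr rfl fun i _ => ?_
      rw [TensorProduct.tmul_smul]
    | add w₁ w₂ h₁ h₂ =>
      simp only [map_add, Pi.add_apply, h₁, h₂, smul_add, Finset.sum_add_distrib]
  have L2 : ∀ (y : B ⊗[A] I) (i : Fin n),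
      TensorProduct.piRightHom A A B (fun _ : Fin n => I) (u.lTensor B y) i = a i • y := by
    intro y i
    induction y using TensorProduct.induction_on with
    | zero => simp
    | tmul b x =>
      simp only [LinearMap.lTensor_tmul, TensorProduct.piRightHom_tmul, hu]
      rw [TensorProduct.tmul_smul]
    | add w₁ w₂ h₁ h₂ =>
      simp only [map_add, Pi.add_apply, h₁, h₂, smul_add]
  let e := TensorProduct.piRight A A B (fun _ : Fin n => I)
  let z : B ⊗[A] (Fin n → I) := e.symm m
  have hez : TensorProduct.piRightHom A A B (fun _ : Fin n => I) z = m := by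
    have := e.apply_symm_apply m
    rwa [TensorProduct.piRight_apply] at this
  have hvz : v.lTensor B z = 0 := by
    apply (TensorProduct.piRight A A B (fun _ : Fin s => I)).injective
    rw [map_zero, TensorProduct.piRight_apply]
    funext k
    rw [L1 z k, hez]
    exact hm (ρ k) (hρK k)
  obtain ⟨y, hy⟩ := (hexT z).mp hvz
  refine ⟨y, fun i => ?_⟩
  rw [← L2 y i, hy, hez]

end Part2

section Part3

variable {A : Type u} [CommRing A] {B : Type u} [CommRing B] [Algebra A B]

/-- Key claim: maps from a prime `q` with `pB_q = qB_q` into `B ⊗ I` are locally multiplication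
by an element. -/
lemma key [IsNoetherianRing A] [IsNoetherianRing B] [Module.Flat A B]
    (I : Type u) [AddCommGroup I] [Module A I] [Module.Injective A I]
    (q : Ideal B) [q.IsPrime]
    (hq : ∀ x ∈ q, ∃ t, t ∉ q ∧ t * x ∈ (q.comap (algebraMap A B)).map (algebraMap A B))
    (φ : q →ₗ[B] B ⊗[A] I) :
    ∃ (y : B ⊗[A] I) (t : B), t ∉ q ∧ ∀ x : q, t • φ x = (t * x.1) • y := by
  classical
  have hpfg : (q.comap (algebraMap A B)).FG := IsNoetherian.noetherian _
  obtain ⟨n, a, ha⟩ := Submodule.fg_iff_exists_fin_generating_family.mp hpfg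
  have hai : ∀ i, algebraMap A B (a i) ∈ q := by
    intro i
    have : a i ∈ q.comap (algebraMap A B) := by rw [← ha]; exact Submodule.subset_span ⟨i, rfl⟩
    exact this
  let m : Fin n → B ⊗[A] I := fun i => φ ⟨algebraMap A B (a i), hai i⟩
  have hm : ∀ r : Fin n → A, ∑ i, r i * a i = 0 → ∑ i, r i • m i = 0 := by
    intro r hr
    have h1 : ∀ i, r i • m i = φ (algebraMap A B (r i) • ⟨algebraMap A B (a i), hai i⟩) := by
      intro i
      rw [map_smul, algebraMap_smul]
    simp only [h1]
    rw [← map_sum]
    have h0 : (∑ i, algebraMap A B (r i) • (⟨algebraMap A B (a i), hai i⟩ : q)) = 0 := by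
      apply Subtype.ext
      rw [Submodule.coe_sum]
      simp only [Submodule.coe_smul, smul_eq_mul, ← map_mul, ← map_sum, hr, map_zero,
        Submodule.coe_zero]
    rw [h0, map_zero]
  obtain ⟨y, hy⟩ := exists_of_rel_tensor I a m hm
  have hmap : (q.comap (algebraMap A B)).map (algebraMap A B) =
      Ideal.span (Set.range fun i => algebraMap A B (a i)) := by
    rw [← ha]
    change Ideal.map (algebraMap A B) (Ideal.span (Set.range a)) = _
    rw [Ideal.map_span, ← Set.range_comp]
    rfl
  -- pointwise statement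
  have hpt : ∀ x (hx : x ∈ q), ∃ t, t ∉ q ∧ t • φ ⟨x, hx⟩ = (t * x) • y := by
    intro x hx
    obtain ⟨t, htq, htx⟩ := hq x hx
    rw [hmap] at htx
    obtain ⟨c, hc⟩ := (Ideal.mem_span_range_iff_exists_fun).mp htx
    refine ⟨t, htq, ?_⟩
    have h2 : t • (⟨x, hx⟩ : q) = ∑ i, c i • (⟨algebraMap A B (a i), hai i⟩ : q) := by
      apply Subtype.ext
      rw [Submodule.coe_sum]
      simp only [Submodule.coe_smul, smul_eq_mul]
      exact hc.symm
    rw [← map_smul, h2, map_sum]
    simp only [map_smul]
    have h3 : ∀ i, φ ⟨algebraMap A B (a i), hai i⟩ = algebraMap A B (a i) • y := by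
      intro i
      rw [algebraMap_smul]
      exact hy i
    simp only [h3, smul_smul]
    rw [← Finset.sum_smul, hc]
  choose! τ hτq hτ using hpt
  obtain ⟨S, hS⟩ := (IsNoetherian.noetherian q : q.FG)
  have hSq : ∀ x ∈ S, x ∈ q := fun x hx => by rw [← hS]; exact Submodule.subset_span hx
  let t : B := ∏ x ∈ S, τ x
  have htq : t ∉ q := by
    have : t ∈ q.primeCompl := Submonoid.prod_mem _ (fun x hx => hτq x (hSq x hx))
    exact this
  refine ⟨y, t, htq, ?_⟩
  rintro ⟨x, hx⟩
  have hxS : x ∈ Submodule.span B (S : Set B) := by rw [hS]; exact hx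
  have : ∀ (x : B) (hxS : x ∈ Submodule.span B (S : Set B)) (hx : x ∈ q),
      t • φ ⟨x, hx⟩ = (t * x) • y := by
    intro x hxS
    induction hxS using Submodule.span_induction with
    | mem x hxs =>
      intro hx
      obtain ⟨d, hd⟩ := Finset.dvd_prod_of_mem τ hxs
      have hd' : t = d * τ x := by rw [mul_comm]; exact hd
      rw [hd', mul_smul, hτ x hx, smul_smul, mul_assoc]
    | zero =>
      intro hx
      have : (⟨0, hx⟩ : q) = 0 := rfl
      rw [this, map_zero, smul_zero, mul_zero, zero_smul]
    | add x₁ x₂ h₁ h₂ ih₁ ih₂ =>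
      intro hx
      have hx₁ : x₁ ∈ q := by rw [← hS]; exact h₁
      have hx₂ : x₂ ∈ q := by rw [← hS]; exact h₂
      have : (⟨x₁ + x₂, hx⟩ : q) = ⟨x₁, hx₁⟩ + ⟨x₂, hx₂⟩ := rfl
      rw [this, map_add, smul_add, ih₁ hx₁, ih₂ hx₂, mul_add, add_smul]
    | smul b x₁ h₁ ih₁ =>
      intro hx
      have hx₁ : x₁ ∈ q := by rw [← hS]; exact h₁
      have : (⟨b • x₁, hx⟩ : q) = b • ⟨x₁, hx₁⟩ := rfl
      rw [this, map_smul, smul_comm, ih₁ hx₁, smul_smul, smul_eq_mul]
      congr 1
      ring
  exact this x hxS hx

end Part3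

section Part4

/-- Baer's criterion from the local extension property at primes, over a Noetherian ring. -/
theorem baer_of_key {B : Type u} [CommRing B] [IsNoetherianRing B]
    (M : Type u) [AddCommGroup M] [Module B M]
    (hkey : ∀ (q : Ideal B) [q.IsPrime] (φ : q →ₗ[B] M),
      ∃ (y : M) (t : B), t ∉ q ∧ ∀ x : q, t • φ x = (t * x.1) • y) :
    Module.Baer B M := by
  classical
  intro J g
  let S : Set (Submodule B B) :=
    {J' | ∃ (hJ : J ≤ J') (φ' : J' →ₗ[B] M), ∀ x (hx : x ∈ J), φ' ⟨x, hJ hx⟩ = g ⟨x, hx⟩}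
  have hne : S.Nonempty := ⟨J, le_rfl, g, fun x hx => rfl⟩
  obtain ⟨J', ⟨hJJ', φ', hφ'⟩, hmax⟩ :=
    set_has_maximal_iff_noetherian.mpr (inferInstance : IsNoetherian B B) S hne
  by_cases htop : J' = ⊤
  · refine ⟨φ' ∘ₗ (LinearMap.codRestrict J' LinearMap.id
      (fun x => by rw [htop]; exact Submodule.mem_top)), fun x hx => ?_⟩
    exact hφ' x hx
  · exfalso
    have hnt : Nontrivial (B ⧸ J') := Ideal.Quotient.nontrivial_iff.mpr htop
    obtain ⟨q, hq⟩ := associatedPrimes.nonempty B (B ⧸ J')
    rw [AssociatedPrimes.mem_iff, isAssociatedPrime_iff] at hq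
    obtain ⟨hqp, xb, hqx⟩ := hq
    obtain ⟨b, rfl⟩ := Ideal.Quotient.mk_surjective xb
    have hmemq : ∀ c : B, c ∈ q ↔ c * b ∈ J' := by
      intro c
      rw [hqx, Submodule.mem_colon_singleton]
      rw [← Ideal.Quotient.eq_zero_iff_mem, map_mul]
      simp only [Submodule.mem_bot, smul_eq_mul]
      rfl
    -- the map ψ : q → M, c ↦ φ' (c * b)
    let ψ : q →ₗ[B] M := φ' ∘ₗ (LinearMap.codRestrict J'
      ((LinearMap.mul B B).flip b ∘ₗ q.subtype) (fun c => (hmemq c.1).mp c.2))
    have hψ : ∀ (c : B) (hc : c ∈ q), ψ ⟨c, hc⟩ = φ' ⟨c * b, (hmemq c).mp hc⟩ := fun c hc => rfl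
    obtain ⟨y, t, htq, hty⟩ := hkey q ψ
    -- extension
    let π₀ : (J' × B) →ₗ[B] B :=
      LinearMap.coprod J'.subtype (LinearMap.toSpanSingleton B B (t * b))
    let F : (J' × B) →ₗ[B] M := LinearMap.coprod φ' (LinearMap.toSpanSingleton B M (t • y))
    have hπ₀ : ∀ (j : J') (c : B), π₀ (j, c) = j.1 + c * (t * b) := by
      intro j c
      simp [π₀, LinearMap.toSpanSingleton_apply]
    have hF : ∀ (j : J') (c : B), F (j, c) = φ' j + c • (t • y) := by
      intro j c
      simp [F, LinearMap.toSpanSingleton_apply]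
    let J'' : Submodule B B := LinearMap.range π₀
    let π : (J' × B) →ₗ[B] J'' := π₀.rangeRestrict
    have hπs : Function.Surjective π := LinearMap.surjective_rangeRestrict π₀
    have hk : LinearMap.ker π ≤ LinearMap.ker F := by
      rintro ⟨j, c⟩ hjc
      rw [LinearMap.mem_ker] at hjc ⊢
      have h0 : π₀ (j, c) = 0 := congrArg Subtype.val hjc
      rw [hπ₀] at h0
      rw [hF]
      -- c * t * b = - j ∈ J'
      have hctb : (c * t) * b ∈ J' := by
        have : (c * t) * b = - j.1 := by
          rw [mul_assoc]; exact eq_neg_of_add_eq_zero_right h0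
        rw [this]; exact J'.neg_mem j.2
      have hct : c * t ∈ q := (hmemq _).mpr hctb
      have hc : c ∈ q := by
        rcases hqp.mem_or_mem hct with h | h
        · exact h
        · exact absurd h htq
      have hj : j = - (⟨(c * t) * b, hctb⟩ : J') := by
        apply Subtype.ext
        rw [Submodule.coe_neg]
        change j.1 = -((c * t) * b)
        rw [mul_assoc]; exact eq_neg_of_add_eq_zero_left h0
      have h1 : φ' ⟨(c * t) * b, hctb⟩ = (t * c) • y := by
        have h2 := hty ⟨c, hc⟩
        have h3 : t • ψ ⟨c, hc⟩ = φ' ⟨(c * t) * b, hctb⟩ := by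
          rw [hψ, ← map_smul]
          congr 1
          apply Subtype.ext
          change t * (c * b) = c * t * b
          ring
        rw [← h3, h2]
      rw [hj, map_neg, h1, smul_smul, mul_comm t c, neg_add_cancel]
    obtain ⟨f, hf⟩ := exists_lift_of_surj π hπs F hk
    have hJ'J'' : J' ≤ J'' := by
      intro j hj
      exact ⟨(⟨j, hj⟩, 0), by rw [hπ₀]; simp⟩
    have hJ''S : J'' ∈ S := by
      refine ⟨hJJ'.trans hJ'J'', f, fun x hx => ?_⟩
      have : (⟨x, (hJJ'.trans hJ'J'') hx⟩ : J'') = π (⟨x, hJJ' hx⟩, 0) := by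
        apply Subtype.ext
        change x = π₀ (⟨x, hJJ' hx⟩, 0)
        rw [hπ₀]; simp
      rw [this, hf, hF, zero_smul, add_zero]
      exact hφ' x hx
    have htb : t * b ∈ J'' := ⟨(0, 1), by rw [hπ₀]; simp⟩
    have htb' : t * b ∉ J' := fun h => htq ((hmemq t).mpr h)
    have hlt : J' < J'' := lt_of_le_of_ne hJ'J'' (fun h => htb' (h ▸ htb))
    exact hmax J'' hJ''S hlt

/-- Main theorem: flat base change of an injective module along a map with `pB_q = qB_q`. -/
theorem main_1745 (A B : Type u) [CommRing A] [CommRing B] [Algebra A B] [IsNoetherianRing A]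
    [IsNoetherianRing B] [Module.Flat A B]
    (h : ∀ q : PrimeSpectrum B, Ideal.map (algebraMap B (Localization.AtPrime q.asIdeal))
      ((q.asIdeal.comap (algebraMap A B)).map (algebraMap A B)) =
        IsLocalRing.maximalIdeal (Localization.AtPrime q.asIdeal))
    (I : Type u) [AddCommGroup I] [Module A I] [Module.Injective A I] :
    Module.Injective B (B ⊗[A] I) := by
  apply Module.Baer.injective
  apply baer_of_key
  intro q hqp φ
  apply key I q _ φ
  intro x hx
  have hx1 : algebraMap B (Localization.AtPrime q) x ∈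
      IsLocalRing.maximalIdeal (Localization.AtPrime q) := by
    rw [← Localization.AtPrime.map_eq_maximalIdeal]
    exact Ideal.mem_map_of_mem _ hx
  rw [← h ⟨q, hqp⟩] at hx1
  rw [IsLocalization.mem_map_algebraMap_iff q.primeCompl] at hx1
  obtain ⟨⟨⟨c, hc⟩, ⟨s, hs⟩⟩, hcs⟩ := hx1
  simp only at hcs
  rw [← map_mul] at hcs
  obtain ⟨⟨u, hu⟩, hu'⟩ := (IsLocalization.eq_iff_exists q.primeCompl _).mp hcs
  simp only at hu'
  refine ⟨u * s, ?_, ?_⟩
  · exact fun hmem => (hqp.mem_or_mem hmem).elim hu hs
  · have : u * s * x = u * c := by rw [← hu']; ring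
    rw [this]
    exact Ideal.mul_mem_left _ _ hc

end Part4

end Groth.Agent.Lib.R2H1.InjBC
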