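import Mathlib
import Groth.Agent.Lib.H6xLocD
import Groth.Agent.Lib.H6xBidG
import Groth.Agent.Lib.H6xPCDescB
import Groth.Agent.Lib.R2H1InjBC
import Groth.Agent.S12537
import Groth.Agent.S6943
set_option backward.isDefEq.respectTransparency.types false

/-!
# Localization of a dualizing complex is dualizing (helper6)
-/

set_option autoImplicit false
set_option linter.style.haveILetI false
universe u

namespace Groth.Agent.Lib.H6xLoc

open CategoryTheory CategoryTheory.Limits DerivedCategory
open Groth.Agent.Lib.Helper1.Extend Groth.Agent.Lib.Helper1.LDer Groth.Agent.Lib.H6xRGam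
open Groth.Agent.Lib.H6xDual Groth.Agent.Lib.H6xBid
attribute [local instance] HasDerivedCategory.standard

variable {A : Type u} [CommRing A] (S : Submonoid A)

lemma moduleInjective_of_equiv {R : Type u} [CommRing R] {M N : Type u} [AddCommGroup M]
    [Module R M] [AddCommGroup N] [Module R N] (e : M ≃ₗ[R] N) (h : Module.Injective R M) :
    Module.Injective R N := by
  rw [← Module.Baer.iff_injective] at h ⊢
  exact Module.Baer.of_equiv e h

/-- the hypothesis of flat base change of injectives holds for localizations -/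
lemma map_comap_eq_maximalIdeal (q : PrimeSpectrum (Localization S)) :
    Ideal.map (algebraMap (Localization S) (Localization.AtPrime q.asIdeal))
      ((q.asIdeal.comap (algebraMap A (Localization S))).map (algebraMap A (Localization S))) =
        IsLocalRing.maximalIdeal (Localization.AtPrime q.asIdeal) := by
  rw [IsLocalization.map_under S (Localization S) q.asIdeal]
  exact Localization.AtPrime.map_eq_maximalIdeal

variable [IsNoetherianRing A]

/-- `S⁻¹I` is an injective `S⁻¹A`-module for an injective `A`-module `I` -/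
lemma injective_FS_obj (M : ModuleCat.{u} A) (hM : Module.Injective A M) :
    Injective ((FS S).obj M) := by
  haveI := hM
  have h1 : Module.Injective (Localization S) (TensorProduct A (Localization S) M) :=
    Groth.Agent.Lib.R2H1.InjBC.main_1745 A (Localization S) (map_comap_eq_maximalIdeal S) M
  exact injective_of_moduleInjective _
    (moduleInjective_of_equiv (extEquiv (A := A) (B := Localization S) M).symm h1)


section Main

variable (ω : Dual.D A) (hω : Dual.IsDualizing A ω)

include hω in
lemma isPseudoCoherent'_dualizing : DRing.IsPseudoCoherent' A ω := by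
  obtain ⟨a, b, hab⟩ := hω.finite_injective_dimension
  refine ((Groth.Agent.S6943.result A (fun I _ => Module.finitePresentation_of_finite A I) ω
    ⟨b, fun i hi => subsingleton_HD_of_subsingleton_hom ω i (hab A i (Or.inr hi))⟩ 0).2).2
    (fun i => ?_)
  haveI := hω.finite_cohomology i
  exact Module.finitePresentation_of_finite A _

include hω in
lemma boundedBelow_shift (i : ℤ) :
    ∃ a : ℤ, ∀ j : ℤ, j < a → Subsingleton (Dual.HD A (ω⟦i⟧) j) := by
  obtain ⟨a, b, hab⟩ := hω.finite_injective_dimension
  refine ⟨a - i, fun j hj => ?_⟩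
  haveI : Subsingleton (Dual.HD A ω (i + j)) :=
    subsingleton_HD_of_subsingleton_hom ω (i + j) (hab A (i + j) (Or.inl (by omega)))
  let eI : (homologyFunctor (ModuleCat.{u} A) j).obj ((shiftFunctor (Dual.D A) i).obj ω) ≅
      (homologyFunctor (ModuleCat.{u} A) (i + j)).obj ω :=
    ((homologyFunctor (ModuleCat.{u} A) 0).shiftIso i j (i + j) rfl).app ω
  exact eI.toLinearEquiv.toEquiv.subsingleton

end Main


section Main2

variable (ω : Dual.D A) (hω : Dual.IsDualizing A ω)

lemma smul_eq_zero_of_unit {X Y : Dual.D (Localization S)} (s : S) (g : X ⟶ Y)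
    (h : (algebraMap A (Localization S) (s : A)) • g = 0) : g = 0 := by
  obtain ⟨u, hu⟩ := IsLocalization.map_units (Localization S) s
  have h1 : g = ((u⁻¹ : (Localization S)ˣ) : Localization S) •
      ((algebraMap A (Localization S) (s : A)) • g) := by
    rw [smul_smul, ← hu, Units.inv_mul, one_smul]
  rw [h1, h, smul_zero]

include hω in
/-- finite injective dimension of the localization -/
lemma finite_injective_dimension_LS :
    ∃ a b : ℤ, ∀ (N : Type u) [AddCommGroup N] [Module (Localization S) N] (i : ℤ),
      (i < a ∨ b < i) → Subsingleton (Dual.inD (Localization S) N ⟶ ((LS S).obj ω)⟦i⟧) := by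
  obtain ⟨a, b, hab⟩ := hω.finite_injective_dimension
  have h1 : ∀ (F : ModuleCat.{u} A) (i : ℤ), (i < a ∨ max a b < i) →
      ∀ φ : (DerivedCategory.singleFunctor (ModuleCat.{u} A) 0).obj F ⟶
        (shiftFunctor (DerivedCategory (ModuleCat.{u} A)) i).obj ω, φ = 0 := by
    intro F i hi φ
    have hi' : i < a ∨ b < i := by
      rcases hi with h | h
      · exact Or.inl h
      · exact Or.inr (lt_of_le_of_lt (le_max_right a b) h)
    exact (hab F i hi').elim φ 0
  obtain ⟨I, hI, hIz, ⟨eI⟩⟩ := (Groth.Agent.S12537.result (ModuleCat.{u} A) ω a (max a b)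
    (le_max_left a b)).1 h1
  have h2 : ∃ J : CochainComplex (ModuleCat.{u} (Localization S)) ℤ,
      (∀ i, Injective (J.X i)) ∧ (∀ i, (i < a ∨ max a b < i) → IsZero (J.X i)) ∧
        Nonempty (DerivedCategory.Q.obj J ≅ (LS S).obj ω) := by
    refine ⟨(FC S).obj I, fun i => ?_, fun i hi => ?_, ⟨(facS S I).symm ≪≫ (LS S).mapIso eI⟩⟩
    · haveI := hI i
      exact injective_FS_obj S (I.X i) (moduleInjective_of_injective _)
    · exact (FS S).map_isZero (hIz i hi)
  have h3 := (Groth.Agent.S12537.result (ModuleCat.{u} (Localization S)) ((LS S).obj ω) a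
    (max a b) (le_max_left a b)).2 h2
  refine ⟨a, max a b, fun N _ _ i hi => ⟨fun f g => ?_⟩⟩
  rw [h3 (ModuleCat.of (Localization S) N) i hi f, h3 (ModuleCat.of (Localization S) N) i hi g]

include hω in
/-- finiteness of the cohomology of the localization -/
lemma finite_cohomology_LS (i : ℤ) :
    Module.Finite (Localization S) (Dual.HD (Localization S) ((LS S).obj ω) i) := by
  haveI := hω.finite_cohomology i
  haveI : Module.Finite (Localization S)
      ((FS S).obj ((homologyFunctor (ModuleCat.{u} A) i).obj ω)) :=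
    finite_bc (algebraMap A (Localization S)) _
  exact Module.Finite.equiv (homologyMapDIso (ext A (Localization S)) ω i).symm.toLinearEquiv

include hω in
/-- `Ext^i(Lω, Lω) = 0` for `i ≠ 0` -/
lemma ext_self_LS (i : ℤ) (hi : i ≠ 0) :
    Subsingleton ((LS S).obj ω ⟶ ((LS S).obj ω)⟦i⟧) := by
  refine ⟨fun f g => ?_⟩
  suffices H : ∀ g : (LS S).obj ω ⟶ ((LS S).obj ω)⟦i⟧, g = 0 by rw [H f, H g]
  intro g
  let c : (LS S).obj (ω⟦i⟧) ≅ ((LS S).obj ω)⟦i⟧ := ((LS S).commShiftIso i).app ω
  obtain ⟨s, f, hsf⟩ := locHom_surj (S := S) ω (ω⟦i⟧) (isPseudoCoherent'_dualizing ω hω)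
    (boundedBelow_shift ω hω i) (g ≫ c.inv)
  haveI := hω.ext_self_subsingleton i hi
  have hf : f = 0 := Subsingleton.elim _ _
  rw [hf, Functor.map_zero] at hsf
  have h1 := smul_eq_zero_of_unit S s _ hsf
  rw [← cancel_mono c.inv, h1, Limits.zero_comp]

include hω in
/-- `S⁻¹A → End(Lω)` is bijective -/
lemma toEnd_bijective_LS :
    Function.Bijective (fun b : Localization S => b • 𝟙 ((LS S).obj ω)) := by
  have hPC := isPseudoCoherent'_dualizing ω hω
  have hBB : ∃ a : ℤ, ∀ j : ℤ, j < a → Subsingleton (Dual.HD A ω j) := by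
    obtain ⟨a, b, hab⟩ := hω.finite_injective_dimension
    exact ⟨a, fun j hj => subsingleton_HD_of_subsingleton_hom ω j (hab A j (Or.inl hj))⟩
  constructor
  · intro b b' hbb'
    rw [← sub_eq_zero]
    have h0 : (b - b') • 𝟙 ((LS S).obj ω) = 0 := by
      rw [sub_smul, sub_eq_zero]
      exact hbb'
    obtain ⟨a, s, has⟩ := IsLocalization.exists_mk'_eq S (b - b')
    have h1 : algebraMap A (Localization S) a = (b - b') * algebraMap A (Localization S) (s : A) := by
      rw [← has, IsLocalization.mk'_spec]
    have h2 : (LS S).map (a • 𝟙 ω) = 0 := by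
      rw [LS_map_smul, CategoryTheory.Functor.map_id, h1, mul_comm, mul_smul, h0, smul_zero]
    obtain ⟨t, ht⟩ := locHom_inj (S := S) ω ω hPC hBB (a • 𝟙 ω) h2
    rw [smul_smul] at ht
    have h3 : (t : A) * a = 0 := hω.toEnd_bijective.1 (by
      change ((t : A) * a) • 𝟙 ω = (0 : A) • 𝟙 ω
      rw [ht, zero_smul])
    rw [← has, IsLocalization.mk'_eq_zero_iff]
    exact ⟨t, h3⟩
  · intro g
    obtain ⟨s, f, hsf⟩ := locHom_surj (S := S) ω ω hPC hBB g
    obtain ⟨a, ha⟩ := hω.toEnd_bijective.2 f
    have ha' : a • 𝟙 ω = f := ha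
    refine ⟨IsLocalization.mk' (Localization S) a s, ?_⟩
    change IsLocalization.mk' (Localization S) a s • 𝟙 ((LS S).obj ω) = g
    rw [← ha', LS_map_smul, CategoryTheory.Functor.map_id] at hsf
    have h1 : (algebraMap A (Localization S) (s : A)) •
        (IsLocalization.mk' (Localization S) a s • 𝟙 ((LS S).obj ω) - g) = 0 := by
      rw [smul_sub, smul_smul, mul_comm, IsLocalization.mk'_spec, hsf, sub_self]
    exact sub_eq_zero.1 (smul_eq_zero_of_unit S s _ h1)

include hω in
/-- **the localization of a dualizing complex is dualizing** -/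
theorem isDualizing_LS : Dual.IsDualizing (Localization S) ((LS S).obj ω) where
  isNoetherianRing := inferInstance
  finite_injective_dimension := finite_injective_dimension_LS S ω hω
  finite_cohomology := finite_cohomology_LS S ω hω
  toEnd_bijective := toEnd_bijective_LS S ω hω
  ext_self_subsingleton := ext_self_LS S ω hω

end Main2


section S1775

variable (ω : Dual.D A) (hω : Dual.IsDualizing A ω)

include hω in
/-- **S1775** -/
theorem isDualizing_LBaseChange_localization
    [DRing.HasLBaseChange (algebraMap A (Localization S))] :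
    Dual.IsDualizing (Localization S)
      ((DRing.LBaseChange (algebraMap A (Localization S))).obj ω) := by
  obtain ⟨e⟩ := Groth.Agent.Lib.H6xPCDesc.nonempty_lbc_iso_extD (A := A) (B := Localization S) ω
  exact isDualizing_of_iso e.symm (isDualizing_LS S ω hω)

end S1775

end Groth.Agent.Lib.H6xLoc
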