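import Mathlib
import Groth.Agent.Lib.H6xLocE
import Groth.Agent.S6942
set_option backward.isDefEq.respectTransparency.types false

/-!
# Shifts of dualizing complexes; localization of `Ext(M, ω)` for finite modules (helper6)
-/

set_option autoImplicit false
set_option linter.style.haveILetI false
universe u

namespace Groth.Agent.Lib.H6xLoc

open CategoryTheory CategoryTheory.Limits DerivedCategory
open Groth.Agent.Lib.Helper1.Extend Groth.Agent.Lib.Helper1.LDer Groth.Agent.Lib.H6xRGam
open Groth.Agent.Lib.H6xDual Groth.Agent.Lib.H6xBid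
attribute [local instance] HasDerivedCategory.standard

variable {A : Type u} [CommRing A]

section Shift

variable (ω : Dual.D A) (hω : Dual.IsDualizing A ω) (n : ℤ)

include hω in
/-- a shift of a dualizing complex is a dualizing complex -/
theorem isDualizing_shift : Dual.IsDualizing A (ω⟦n⟧) where
  isNoetherianRing := hω.isNoetherianRing
  finite_injective_dimension := by
    obtain ⟨a, b, hab⟩ := hω.finite_injective_dimension
    refine ⟨a - n, b - n, fun M _ _ i hi => ?_⟩
    haveI := hab M (n + i) (by omega)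
    exact (((shiftFunctorAdd' (Dual.D A) n i (n + i) rfl).app ω).homToEquiv
      (Z := Dual.inD A M)).subsingleton_congr.1 inferInstance
  finite_cohomology := fun i => by
    haveI := hω.finite_cohomology (n + i)
    let eI : (homologyFunctor (ModuleCat.{u} A) i).obj ((shiftFunctor (Dual.D A) n).obj ω) ≅
        (homologyFunctor (ModuleCat.{u} A) (n + i)).obj ω :=
      ((homologyFunctor (ModuleCat.{u} A) 0).shiftIso n i (n + i) rfl).app ω
    exact Module.Finite.equiv eI.symm.toLinearEquiv
  toEnd_bijective := by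
    have h1 : (fun a : A => a • 𝟙 (ω⟦n⟧)) =
        (fun f : ω ⟶ ω => (shiftFunctor (Dual.D A) n).map f) ∘ (fun a : A => a • 𝟙 ω) := by
      funext a
      change a • 𝟙 (ω⟦n⟧) = (shiftFunctor (Dual.D A) n).map (a • 𝟙 ω)
      rw [Functor.map_smul, CategoryTheory.Functor.map_id]
    rw [h1]
    refine Function.Bijective.comp ⟨?_, ?_⟩ hω.toEnd_bijective
    · exact (shiftFunctor (Dual.D A) n).map_injective
    · exact (shiftFunctor (Dual.D A) n).map_surjective
  ext_self_subsingleton := fun i hi => by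
    haveI := hω.ext_self_subsingleton i hi
    refine ⟨fun f g => ?_⟩
    suffices H : ∀ g : ω⟦n⟧ ⟶ (ω⟦n⟧)⟦i⟧, g = 0 by rw [H f, H g]
    intro g
    let c : (ω⟦n⟧)⟦i⟧ ≅ (ω⟦i⟧)⟦n⟧ := shiftComm ω n i
    obtain ⟨g', hg'⟩ := (shiftFunctor (Dual.D A) n).map_surjective (g ≫ c.hom)
    have h0 : g' = 0 := Subsingleton.elim _ _
    rw [h0, Functor.map_zero] at hg'
    rw [← cancel_mono c.hom, ← hg', Limits.zero_comp]

end Shift


section LocExt

variable (S : Submonoid A) [IsNoetherianRing A] (ω : Dual.D A) (hω : Dual.IsDualizing A ω)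
  (M : Type u) [AddCommGroup M] [Module A M] [Module.Finite A M] (i : ℤ)

include hω in
/-- `Ext^i_{S⁻¹A}(S⁻¹M, S⁻¹ω) = 0` iff `Ext^i_A(M, ω)` is `S`-torsion -/
theorem subsingleton_locExt_iff :
    Subsingleton ((LS S).obj (Dual.inD A M) ⟶ ((LS S).obj ω)⟦i⟧) ↔
      ∀ f : Dual.inD A M ⟶ ω⟦i⟧, ∃ s : S, (s : A) • f = 0 := by
  have hPC : DRing.IsPseudoCoherent' A (Dual.inD A M) :=
    (Groth.Agent.S6942.result A 0 ω M).2.2 inferInstance
  have hBB := boundedBelow_shift ω hω i
  let c : (LS S).obj (ω⟦i⟧) ≅ ((LS S).obj ω)⟦i⟧ := ((LS S).commShiftIso i).app ω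
  constructor
  · intro hsub f
    have h1 : (LS S).map f = 0 := by
      rw [← cancel_mono c.hom, Limits.zero_comp]
      exact Subsingleton.elim _ _
    exact locHom_inj (S := S) _ _ hPC hBB f h1
  · intro h
    refine ⟨fun γ γ' => ?_⟩
    suffices H : ∀ γ : (LS S).obj (Dual.inD A M) ⟶ ((LS S).obj ω)⟦i⟧, γ = 0 by rw [H γ, H γ']
    intro γ
    obtain ⟨s, f, hsf⟩ := locHom_surj (S := S) _ _ hPC hBB (γ ≫ c.inv)
    obtain ⟨t, ht⟩ := h f
    have h1 : (LS S).map f = 0 := by
      apply smul_eq_zero_of_unit S t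
      rw [← LS_map_smul, ht, Functor.map_zero]
    rw [h1] at hsf
    have h2 := smul_eq_zero_of_unit S s _ hsf
    rw [← cancel_mono c.inv, h2, Limits.zero_comp]

include hω in
/-- the same with `S⁻¹M` replaced by an isomorphic `S⁻¹A`-module -/
theorem subsingleton_locExt_iff' (N : Type u) [AddCommGroup N] [Module (Localization S) N]
    (e : TensorProduct A (Localization S) M ≃ₗ[Localization S] N) :
    Subsingleton (Dual.inD (Localization S) N ⟶ ((LS S).obj ω)⟦i⟧) ↔
      ∀ f : Dual.inD A M ⟶ ω⟦i⟧, ∃ s : S, (s : A) • f = 0 := by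
  rw [← subsingleton_locExt_iff S ω hω M i]
  let ε : (LS S).obj (Dual.inD A M) ≅ Dual.inD (Localization S) N :=
    extDInDIso (A := A) (B := Localization S) M ≪≫
      (DerivedCategory.singleFunctor (ModuleCat.{u} (Localization S)) 0).mapIso e.toModuleIso
  exact (ε.homFromEquiv (Z := ((LS S).obj ω)⟦i⟧)).subsingleton_congr.symm

end LocExt

end Groth.Agent.Lib.H6xLoc
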