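import Mathlib
import Groth.Agent.Lib.H6xLocF
import Groth.Agent.Lib.H6xDepF
set_option backward.isDefEq.respectTransparency.types false

/-!
# Localization of a dualizing complex at a prime (helper6)

For a Noetherian local ring `A` with normalized dualizing complex `ω` and a prime `p` with
`dim A/p = e`: `ω_p⟦-e⟧` is a normalized dualizing complex of `A_p`.
-/

set_option autoImplicit false
set_option linter.style.haveILetI false
universe u

namespace Groth.Agent.Lib.H6xLoc

open CategoryTheory CategoryTheory.Limits DerivedCategory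
open Groth.Agent.Lib.Helper1.Extend Groth.Agent.Lib.Helper1.LDer Groth.Agent.Lib.H6xRGam
open Groth.Agent.Lib.H6xDual Groth.Agent.Lib.H6xBid Groth.Agent.Lib.H6xDep
attribute [local instance] HasDerivedCategory.standard

variable {A : Type u} [CommRing A]

section Support

/-- if `p ∈ Supp E` then `dim A/p ≤ dim Supp E` -/
lemma ringKrullDim_quotient_le_supportDim (E : Type*) [AddCommGroup E] [Module A E]
    (p : PrimeSpectrum A) (hp : p ∈ Module.support A E) :
    ringKrullDim (A ⧸ p.asIdeal) ≤ Module.supportDim A E := by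
  rw [← Module.supportDim_quotient_eq_ringKrullDim]
  have hsub : Module.support A (A ⧸ p.asIdeal) ⊆ Module.support A E := by
    intro q hq
    rw [Module.support_eq_zeroLocus, Ideal.annihilator_quotient, PrimeSpectrum.mem_zeroLocus] at hq
    exact Module.mem_support_mono (show p ≤ q from hq) hp
  exact Order.krullDim_le_of_strictMono (Set.inclusion hsub) (fun a b hab => hab)

end Support

section Prime

variable (p : Ideal A) [p.IsPrime]

/-- localization at `p` on derived categories -/
noncomputable abbrev Lp : Dual.D A ⥤ Dual.D (Localization.AtPrime p) := LS p.primeCompl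

/-- `A_p ⊗ A/p ≃ κ(p)` -/
noncomputable def residueTensorEquiv :
    TensorProduct A (Localization.AtPrime p) (A ⧸ p) ≃ₗ[Localization.AtPrime p]
      IsLocalRing.ResidueField (Localization.AtPrime p) :=
  (Algebra.TensorProduct.quotIdealMapEquivTensorQuot (Localization.AtPrime p) p).symm.toLinearEquiv
    ≪≫ₗ Submodule.quotEquivOfEq _ _ (Localization.AtPrime.map_eq_maximalIdeal (I := p))

variable [IsNoetherianRing A] (ω : Dual.D A) (hω : Dual.IsDualizing A ω)

include hω in
/-- `Ext^i(κ(p), ω_p) = 0` iff `p ∉ Supp Ext^i(A/p, ω)` -/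
theorem subsingleton_hom_residue_iff (i : ℤ) :
    Subsingleton (Dual.inD (Localization.AtPrime p)
        (IsLocalRing.ResidueField (Localization.AtPrime p)) ⟶ ((Lp p).obj ω)⟦i⟧) ↔
      (⟨p, inferInstance⟩ : PrimeSpectrum A) ∉
        Module.support A (Dual.inD A (A ⧸ p) ⟶ ω⟦i⟧) := by
  rw [subsingleton_locExt_iff' p.primeCompl ω hω (A ⧸ p) i _ (residueTensorEquiv p),
    Module.notMem_support_iff']
  constructor
  · intro h f
    obtain ⟨s, hs⟩ := h f
    exact ⟨s, s.2, hs⟩
  · intro h f
    obtain ⟨r, hr, hrf⟩ := h f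
    exact ⟨⟨r, hr⟩, hrf⟩

end Prime


section Normalized

variable [IsLocalRing A] [IsNoetherianRing A] (ω : Dual.D A) (hω : Dual.IsDualizing A ω)
  (hn : Dual.IsNormalized A ω) (p : Ideal A) [p.IsPrime] (e : ℕ)
  (he : ringKrullDim (A ⧸ p) = e)

include hω hn he in
/-- `p ∉ Supp Ext^j(A/p, ω)` for `j ≠ -dim A/p` -/
theorem notMem_support_ext_quotient (j : ℤ) (hj : j ≠ -(e : ℤ)) :
    (⟨p, inferInstance⟩ : PrimeSpectrum A) ∉
      Module.support A (Dual.inD A (A ⧸ p) ⟶ ω⟦j⟧) := by
  have hdim : Module.supportDim A (A ⧸ p) ≤ (e : WithBot ℕ∞) := by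
    rw [Module.supportDim_quotient_eq_ringKrullDim, he]
  have hsub : ∀ (E : Type (u + 1)) [AddCommGroup E] [Module A E], Subsingleton E →
      (⟨p, inferInstance⟩ : PrimeSpectrum A) ∉ Module.support A E := by
    intro E _ _ hE
    rw [Module.support_eq_empty]
    exact Set.notMem_empty _
  by_cases h1 : 0 < j
  · exact hsub _ (subsingleton_hom_pos ω hω hn (A ⧸ p) j h1)
  · by_cases h2 : j < -(e : ℤ)
    · have h4 := subsingleton_hom_of_supportDim_lt ω hω hn e (A ⧸ p) hdim (-j).toNat (by omega)
      have h5 : (-(((-j).toNat : ℕ) : ℤ)) = j := by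
        rw [Int.toNat_of_nonneg (by omega)]
        ring
      rw [h5] at h4
      exact hsub _ h4
    · intro hmem
      have h4 := supportDim_hom_le ω hω hn e (A ⧸ p) hdim (-j).toNat
      have h5 : (-(((-j).toNat : ℕ) : ℤ)) = j := by
        rw [Int.toNat_of_nonneg (by omega)]
        ring
      rw [h5] at h4
      have h6 := ringKrullDim_quotient_le_supportDim _ _ hmem
      change ringKrullDim (A ⧸ p) ≤ _ at h6
      rw [he] at h6
      have h7 : ((e : ℕ) : WithBot ℕ∞) ≤ (((-j).toNat : ℕ) : WithBot ℕ∞) := le_trans h6 h4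
      have h8 : e ≤ (-j).toNat := by exact_mod_cast h7
      omega

include hω hn he in
/-- `ω_p⟦-dim A/p⟧` is normalized -/
theorem isNormalized_Lp_shift :
    Dual.IsNormalized (Localization.AtPrime p) (((Lp p).obj ω)⟦(-(e : ℤ))⟧) := by
  intro i hi
  have h1 := (subsingleton_hom_residue_iff p ω hω (-(e : ℤ) + i)).2
    (notMem_support_ext_quotient ω hω hn p e he _ (by omega))
  exact (((shiftFunctorAdd' (Dual.D (Localization.AtPrime p)) (-(e : ℤ)) i (-(e : ℤ) + i) rfl).app
    ((Lp p).obj ω)).homToEquiv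
      (Z := Dual.inD (Localization.AtPrime p)
        (IsLocalRing.ResidueField (Localization.AtPrime p)))).subsingleton_congr.1 h1

include hω in
/-- `ω_p⟦n⟧` is dualizing -/
theorem isDualizing_Lp_shift (n : ℤ) :
    Dual.IsDualizing (Localization.AtPrime p) (((Lp p).obj ω)⟦n⟧) :=
  isDualizing_shift _ (isDualizing_LS p.primeCompl ω hω) n

end Normalized

end Groth.Agent.Lib.H6xLoc
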