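import Mathlib
import Groth.Agent.Lib.H6xLocG
import Groth.Agent.Lib.H6xBidO
import Groth.Agent.S0299
set_option backward.isDefEq.respectTransparency.types false

/-!
# Cohomology of a dualizing complex at minimal primes (helper6)
-/

set_option autoImplicit false
set_option linter.style.haveILetI false
universe u

namespace Groth.Agent.Lib.H6xLoc

open CategoryTheory CategoryTheory.Limits DerivedCategory
open Groth.Agent.Lib.Helper1.Extend Groth.Agent.Lib.Helper1.LDer Groth.Agent.Lib.H6xRGam
open Groth.Agent.Lib.H6xDual Groth.Agent.Lib.H6xBid Groth.Agent.Lib.H6xDep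
attribute [local instance] HasDerivedCategory.standard

section DimZero

variable {B : Type u} [CommRing B] [IsLocalRing B] [IsNoetherianRing B]

/-- over a zero-dimensional local ring, a normalized dualizing complex has cohomology only in
degree `0` -/
theorem HD_nontrivial_iff_of_dim_zero (h0 : ringKrullDim B = 0) (ω' : Dual.D B)
    (hω' : Dual.IsDualizing B ω') (hn' : Dual.IsNormalized B ω') (j : ℤ) :
    Nontrivial (Dual.HD B ω' j) ↔ j = 0 := by
  obtain ⟨E, _, _, f, hf⟩ := Groth.Agent.S0299.result B (IsLocalRing.ResidueField B)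
  obtain ⟨e⟩ := dualizing_dim_zero B h0 ω' hω' hn' E f hf
  let e1 : Dual.HD B ω' j ≃ₗ[B] Dual.HD B (Dual.inD B E) j :=
    ((DerivedCategory.homologyFunctor (ModuleCat.{u} B) j).mapIso e).toLinearEquiv
  constructor
  · intro hnt
    by_contra hj
    have hz : IsZero ((DerivedCategory.homologyFunctor (ModuleCat.{u} B) j).obj
        (Dual.inD B E)) := by
      rcases lt_or_gt_of_ne hj with h | h
      · exact isZero_of_isGE _ 0 j h
      · exact isZero_of_isLE _ 0 j h
    haveI : Subsingleton (Dual.HD B (Dual.inD B E) j) := ModuleCat.subsingleton_of_isZero hz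
    have hs : Subsingleton (Dual.HD B ω' j) := e1.toEquiv.subsingleton
    exact not_subsingleton (Dual.HD B ω' j) hs
  · rintro rfl
    let e2 : Dual.HD B (Dual.inD B E) 0 ≃ₗ[B] E :=
      ((singleFunctorCompHomologyFunctorIso (ModuleCat.{u} B) 0).app
        (ModuleCat.of B E)).toLinearEquiv
    haveI : Nontrivial E := hf.injective.nontrivial
    exact (e1 ≪≫ₗ e2).toEquiv.nontrivial

end DimZero


variable {A : Type u} [CommRing A]

section LocHD

variable (S : Submonoid A) (X : Dual.D A) (i : ℤ)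

/-- `H^i(S⁻¹X) ≃ S⁻¹H^i(X)` -/
noncomputable def localizedHDEquiv :
    LocalizedModule S (Dual.HD A X i) ≃ₗ[Localization S]
      Dual.HD (Localization S) ((LS S).obj X) i :=
  LocalizedModule.equivTensorProduct S (Dual.HD A X i) ≪≫ₗ
    (extEquiv (A := A) (B := Localization S) (Dual.HD A X i)).symm ≪≫ₗ
    (homologyMapDIso (ext A (Localization S)) X i).symm.toLinearEquiv

/-- `H^j(X⟦n⟧) ≃ H^{n+j}(X)` -/
noncomputable def HDShiftEquiv {B : Type u} [CommRing B] (Y : Dual.D B) (n j m : ℤ)
    (h : n + j = m) : Dual.HD B (Y⟦n⟧) j ≃ₗ[B] Dual.HD B Y m :=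
  (((homologyFunctor (ModuleCat.{u} B) 0).shiftIso n j m h).app Y).toLinearEquiv

end LocHD

section MinimalLocal

variable [IsLocalRing A] [IsNoetherianRing A] (ω : Dual.D A) (hω : Dual.IsDualizing A ω)
  (hn : Dual.IsNormalized A ω) (p : Ideal A) [p.IsPrime] (hp : p ∈ minimalPrimes A) (e : ℕ)
  (he : ringKrullDim (A ⧸ p) = e)

include hω hn hp he in
/-- **S1719** -/
theorem nontrivial_localized_HD_iff (i : ℤ) :
    Nontrivial (LocalizedModule p.primeCompl (Dual.HD A ω i)) ↔ i = -(e : ℤ) := by
  have h0 : ringKrullDim (Localization.AtPrime p) = 0 := by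
    rw [IsLocalization.AtPrime.ringKrullDim_eq_height p, Ideal.height_eq_zero_iff.2 hp]
    rfl
  have hD := isDualizing_Lp_shift ω hω p (-(e : ℤ))
  have hN := isNormalized_Lp_shift ω hω hn p e he
  have key := HD_nontrivial_iff_of_dim_zero h0 _ hD hN (i + e)
  let ε : LocalizedModule p.primeCompl (Dual.HD A ω i) ≃
      Dual.HD (Localization.AtPrime p) (((Lp p).obj ω)⟦(-(e : ℤ))⟧) (i + e) :=
    (localizedHDEquiv p.primeCompl ω i).toEquiv.trans
      (HDShiftEquiv ((Lp p).obj ω) (-(e : ℤ)) (i + e) i (by ring)).symm.toEquiv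
  rw [ε.nontrivial_congr, key]
  omega

end MinimalLocal


section Normalizing

/-- over a Noetherian local ring every dualizing complex has a normalized shift -/
theorem exists_normalizing_shift {B : Type u} [CommRing B] [IsLocalRing B] [IsNoetherianRing B]
    (ω' : Dual.D B) (hω' : Dual.IsDualizing B ω') :
    ∃ n : ℤ, Dual.IsNormalized B (ω'⟦n⟧) ∧
      Nontrivial (Dual.inD B (IsLocalRing.ResidueField B) ⟶ ω'⟦n⟧) := by
  obtain ⟨n, hn1, ⟨en⟩⟩ := ext_residueField_single_degree B ω' hω' (IsLocalRing.maximalIdeal B)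
  refine ⟨n, fun i hi => ?_, ?_⟩
  · have h1 : Subsingleton (Dual.inD B (IsLocalRing.ResidueField B) ⟶ ω'⟦n + i⟧) :=
      hn1 (n + i) (by omega)
    exact (((shiftFunctorAdd' (Dual.D B) n i (n + i) rfl).app ω').homToEquiv
      (Z := Dual.inD B (IsLocalRing.ResidueField B))).subsingleton_congr.1 h1
  · haveI : Nontrivial (B ⧸ IsLocalRing.maximalIdeal B) :=
      Ideal.Quotient.nontrivial_iff.2 (IsLocalRing.maximalIdeal.isMaximal B).ne_top
    exact en.toEquiv.nontrivial

end Normalizing

section Minimal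

variable [IsNoetherianRing A] (ω : Dual.D A) (hω : Dual.IsDualizing A ω)
  (p : Ideal A) [p.IsPrime] (hp : p ∈ minimalPrimes A)

include hω hp in
/-- **S1762** -/
theorem existsUnique_nontrivial_localized_HD :
    ∃! i : ℤ, Nontrivial (LocalizedModule p.primeCompl (Dual.HD A ω i)) := by
  have h0 : ringKrullDim (Localization.AtPrime p) = 0 := by
    rw [IsLocalization.AtPrime.ringKrullDim_eq_height p, Ideal.height_eq_zero_iff.2 hp]
    rfl
  obtain ⟨n, hN, -⟩ := exists_normalizing_shift ((Lp p).obj ω)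
    (isDualizing_LS p.primeCompl ω hω)
  have hD := isDualizing_shift _ (isDualizing_LS p.primeCompl ω hω) n
  have key : ∀ i : ℤ, Nontrivial (LocalizedModule p.primeCompl (Dual.HD A ω i)) ↔ i = n := by
    intro i
    have key0 := HD_nontrivial_iff_of_dim_zero h0 _ hD hN (i - n)
    let ε : LocalizedModule p.primeCompl (Dual.HD A ω i) ≃
        Dual.HD (Localization.AtPrime p) (((Lp p).obj ω)⟦n⟧) (i - n) :=
      (localizedHDEquiv p.primeCompl ω i).toEquiv.trans
        (HDShiftEquiv ((Lp p).obj ω) n (i - n) i (by ring)).symm.toEquiv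
    rw [ε.nontrivial_congr, key0]
    omega
  exact ⟨n, (key n).2 rfl, fun i hi => (key i).1 hi⟩

end Minimal

end Groth.Agent.Lib.H6xLoc
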