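import Mathlib
import Groth.Agent.Lib.H6xLocH
set_option backward.isDefEq.respectTransparency.types false

/-!
# A Noetherian ring with a dualizing complex has finite Krull dimension (helper6)
-/

set_option autoImplicit false
set_option linter.style.haveILetI false
universe u

namespace Groth.Agent.Lib.H6xLoc

open CategoryTheory CategoryTheory.Limits DerivedCategory
open Groth.Agent.Lib.Helper1.Extend Groth.Agent.Lib.Helper1.LDer Groth.Agent.Lib.H6xRGam
open Groth.Agent.Lib.H6xDual Groth.Agent.Lib.H6xBid Groth.Agent.Lib.H6xDep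
attribute [local instance] HasDerivedCategory.standard

variable {A : Type u} [CommRing A]

lemma exists_nat_eq_ringKrullDim (B : Type u) [CommRing B] [FiniteRingKrullDim B] :
    ∃ d : ℕ, ringKrullDim B = d := by
  have h1 := ringKrullDim_ne_top (R := B)
  have h2 := ringKrullDim_ne_bot (R := B)
  generalize ringKrullDim B = x at h1 h2
  induction x using WithBot.recBotCoe with
  | bot => exact absurd rfl h2
  | coe x =>
    induction x using ENat.recTopCoe with
    | top => exact absurd rfl h1
    | coe d => exact ⟨d, rfl⟩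

section Local

variable {B : Type u} [CommRing B] [IsLocalRing B] [IsNoetherianRing B] (ω' : Dual.D B)
  (hω' : Dual.IsDualizing B ω') (hn' : Dual.IsNormalized B ω') (d : ℕ)
  (hd : ringKrullDim B = d)

include hω' hn' hd in
/-- `H^{-dim B}(ω) ≠ 0` for a normalized dualizing complex -/
theorem nontrivial_HD_neg_dim : Nontrivial (Dual.HD B ω' (-(d : ℤ))) := by
  have h1 := nontrivial_ext_neg_supportDim ω' hω' hn' B d
    (by rw [Module.supportDim_self_eq_ringKrullDim, hd])
  obtain ⟨e⟩ := nonempty_hom_linearEquiv_HD ω' (-(d : ℤ))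
  exact e.symm.toEquiv.nontrivial

end Local

section Main

variable [IsNoetherianRing A] (ω : Dual.D A) (hω : Dual.IsDualizing A ω)

include hω in
/-- the height of a maximal ideal is bounded by the injective amplitude of `ω` -/
theorem height_le_of_dualizing (a b : ℤ)
    (hab : ∀ (M : Type u) [AddCommGroup M] [Module A M] (i : ℤ),
      (i < a ∨ b < i) → Subsingleton (Dual.inD A M ⟶ ω⟦i⟧))
    (m : Ideal A) [hm : m.IsMaximal] :
    (m.height : WithBot ℕ∞) ≤ ((b - a).toNat : WithBot ℕ∞) := by
  haveI : m.IsPrime := hm.isPrime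
  obtain ⟨d, hd⟩ := exists_nat_eq_ringKrullDim (Localization.AtPrime m)
  obtain ⟨n, hN, hnt⟩ := exists_normalizing_shift ((Lp m).obj ω)
    (isDualizing_LS m.primeCompl ω hω)
  have hD := isDualizing_shift _ (isDualizing_LS m.primeCompl ω hω) n
  -- upper bound for `n`
  have h1 : n ≤ b := by
    by_contra hlt
    push Not at hlt
    have h2 : (⟨m, inferInstance⟩ : PrimeSpectrum A) ∉
        Module.support A (Dual.inD A (A ⧸ m) ⟶ ω⟦n⟧) := by
      haveI := hab (A ⧸ m) n (Or.inr hlt)
      rw [Module.support_eq_empty]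
      exact Set.notMem_empty _
    have h3 := (subsingleton_hom_residue_iff m ω hω n).2 h2
    exact not_subsingleton _ h3
  -- lower bound for `n - d`
  have h4 : a ≤ n - d := by
    by_contra hlt
    push Not at hlt
    have h5 := nontrivial_HD_neg_dim _ hD hN d hd
    haveI : Subsingleton (Dual.HD A ω (n - d)) :=
      subsingleton_HD_of_subsingleton_hom ω (n - d) (hab A (n - d) (Or.inl hlt))
    have h6 : Subsingleton (LocalizedModule m.primeCompl (Dual.HD A ω (n - d))) := inferInstance
    let ε : LocalizedModule m.primeCompl (Dual.HD A ω (n - d)) ≃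
        Dual.HD (Localization.AtPrime m) (((Lp m).obj ω)⟦n⟧) (-(d : ℤ)) :=
      (localizedHDEquiv m.primeCompl ω (n - d)).toEquiv.trans
        (HDShiftEquiv ((Lp m).obj ω) n (-(d : ℤ)) (n - d) (by ring)).symm.toEquiv
    have h7 : Subsingleton (Dual.HD (Localization.AtPrime m) (((Lp m).obj ω)⟦n⟧) (-(d : ℤ))) :=
      ε.symm.subsingleton
    exact not_subsingleton _ h7
  have h8 : ringKrullDim (Localization.AtPrime m) = m.height :=
    IsLocalization.AtPrime.ringKrullDim_eq_height m _
  rw [← h8, hd]
  have h9 : d ≤ (b - a).toNat := by omega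
  exact_mod_cast h9

include hω in
/-- **S0371** -/
theorem ringKrullDim_lt_top_of_dualizing : ringKrullDim A < ⊤ := by
  obtain ⟨a, b, hab⟩ := hω.finite_injective_dimension
  refine lt_of_le_of_lt ((ringKrullDim_le_iff_isMaximal_height_le
    (((b - a).toNat : ℕ) : WithBot ℕ∞)).2 (fun m hm => ?_)) ?_
  · exact height_le_of_dualizing ω hω a b hab m
  · have h : ((((b - a).toNat : ℕ) : ℕ∞) : WithBot ℕ∞) < ((⊤ : ℕ∞) : WithBot ℕ∞) :=
      WithBot.coe_lt_coe.2 (ENat.natCast_lt_top _)
    exact h

end Main

end Groth.Agent.Lib.H6xLoc
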