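import Mathlib
import Groth.Agent.Lib.H6xLocI
set_option backward.isDefEq.respectTransparency.types false

/-!
# A Noetherian ring with a dualizing module is Cohen–Macaulay (helper6)
-/

set_option autoImplicit false
set_option linter.style.haveILetI false
universe u

namespace Groth.Agent.Lib.H6xLoc

open CategoryTheory CategoryTheory.Limits DerivedCategory
open Groth.Agent.Lib.Helper1.Extend Groth.Agent.Lib.Helper1.LDer Groth.Agent.Lib.H6xRGam
open Groth.Agent.Lib.H6xDual Groth.Agent.Lib.H6xBid Groth.Agent.Lib.H6xDep
attribute [local instance] HasDerivedCategory.standard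

variable {A : Type u} [CommRing A]

section Local

variable {B : Type u} [CommRing B] [IsLocalRing B] [IsNoetherianRing B]

/-- a Noetherian local ring with a dualizing complex concentrated in one degree is
Cohen–Macaulay -/
theorem isCohenMacaulayLocalRing_of_single_degree (ω' : Dual.D B)
    (hω' : Dual.IsDualizing B ω') (j₀ : ℤ)
    (hj₀ : ∀ j : ℤ, j ≠ j₀ → Subsingleton (Dual.HD B ω' j)) :
    LocCoh.IsCohenMacaulayLocalRing B := by
  obtain ⟨d, hd⟩ := exists_nat_eq_ringKrullDim B
  obtain ⟨n, hN, -⟩ := exists_normalizing_shift ω' hω'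
  have hD := isDualizing_shift ω' hω' n
  have h5 := nontrivial_HD_neg_dim _ hD hN d hd
  have hnd : n + (-(d : ℤ)) = j₀ := by
    by_contra hne
    haveI := hj₀ _ hne
    exact not_subsingleton _ (HDShiftEquiv ω' n (-(d : ℤ)) _ rfl).toEquiv.subsingleton
  have hsd : Module.supportDim B B = d := by
    rw [Module.supportDim_self_eq_ringKrullDim, hd]
  have hcm : LocCoh.IsCohenMacaulayModule B B := by
    rw [cohenMacaulay_iff_ext _ hD hN B d hsd]
    intro i hi
    obtain ⟨e⟩ := nonempty_hom_linearEquiv_HD (ω'⟦n⟧) (-i)
    haveI : Subsingleton (Dual.HD B ω' (n + -i)) := hj₀ _ (by omega)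
    haveI : Subsingleton (Dual.HD B (ω'⟦n⟧) (-i)) :=
      (HDShiftEquiv ω' n (-i) _ rfl).toEquiv.subsingleton
    exact e.toEquiv.subsingleton
  exact { supportDim_eq_depth := hcm }

end Local

section Main

variable [IsNoetherianRing A] (W : Type u) [AddCommGroup W] [Module A W]
  (h : Dual.IsDualizing A (Dual.inD A W))

include h in
/-- **S0370** -/
theorem isCohenMacaulayRing_of_dualizing_module : LocCoh.IsCohenMacaulayRing A where
  isCohenMacaulayLocalRing_localization := fun p _ => by
    have hD := isDualizing_LS p.primeCompl _ h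
    refine isCohenMacaulayLocalRing_of_single_degree ((Lp p).obj (Dual.inD A W)) hD 0
      (fun j hj => ?_)
    have hz : IsZero ((DerivedCategory.homologyFunctor (ModuleCat.{u} A) j).obj
        (Dual.inD A W)) := by
      rcases lt_or_gt_of_ne hj with h | h
      · exact isZero_of_isGE _ 0 j h
      · exact isZero_of_isLE _ 0 j h
    haveI : Subsingleton (Dual.HD A (Dual.inD A W) j) := ModuleCat.subsingleton_of_isZero hz
    have h6 : Subsingleton (LocalizedModule p.primeCompl (Dual.HD A (Dual.inD A W) j)) :=
      inferInstance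
    exact (localizedHDEquiv p.primeCompl (Dual.inD A W) j).symm.toEquiv.subsingleton

end Main

end Groth.Agent.Lib.H6xLoc
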