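import Mathlib
import Groth.Agent.Lib.H6xLocJ
set_option backward.isDefEq.respectTransparency.types false

/-!
# Support of `Ext^{-j}(M, ω)` in terms of depth and dimension (helper6)
-/

set_option autoImplicit false
set_option linter.style.haveILetI false
universe u

namespace Groth.Agent.Lib.H6xLoc

open CategoryTheory CategoryTheory.Limits DerivedCategory
open Groth.Agent.Lib.Helper1.Extend Groth.Agent.Lib.Helper1.LDer Groth.Agent.Lib.H6xRGam
open Groth.Agent.Lib.H6xDual Groth.Agent.Lib.H6xBid Groth.Agent.Lib.H6xDep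
attribute [local instance] HasDerivedCategory.standard

variable {A : Type u} [CommRing A]

section General

variable [IsNoetherianRing A] (ω : Dual.D A) (hω : Dual.IsDualizing A ω) (p : Ideal A) [p.IsPrime]
  (M : Type u) [AddCommGroup M] [Module A M] [Module.Finite A M]

include hω in
/-- `p ∈ Supp Ext^i(M, ω)` iff `Ext^i_{A_p}(M_p, ω_p) ≠ 0` -/
theorem mem_support_ext_iff (i : ℤ) :
    (⟨p, inferInstance⟩ : PrimeSpectrum A) ∈ Module.support A (Dual.inD A M ⟶ ω⟦i⟧) ↔
      Nontrivial (Dual.inD (Localization.AtPrime p) (LocalizedModule p.primeCompl M) ⟶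
        ((Lp p).obj ω)⟦i⟧) := by
  rw [← not_subsingleton_iff_nontrivial, ← not_iff_not, not_not,
    subsingleton_locExt_iff' p.primeCompl ω hω M i _
      (LocalizedModule.equivTensorProduct p.primeCompl M).symm,
    Module.notMem_support_iff']
  constructor
  · intro h f
    obtain ⟨r, hr, hrf⟩ := h f
    exact ⟨⟨r, hr⟩, hrf⟩
  · intro h f
    obtain ⟨s, hs⟩ := h f
    exact ⟨s, s.2, hs⟩

end General


section Local

variable [IsLocalRing A] [IsNoetherianRing A] (ω : Dual.D A) (hω : Dual.IsDualizing A ω)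
  (hn : Dual.IsNormalized A ω) (M : Type u) [AddCommGroup M] [Module A M] [Module.Finite A M]

lemma depth_eq_top_of_subsingleton {B : Type u} [CommRing B] [IsLocalRing B] (N : Type u)
    [AddCommGroup N] [Module B N] [Subsingleton N] : LocCoh.depth B N = ⊤ := by
  unfold LocCoh.depth LocCoh.idealDepth
  rw [if_pos (Subsingleton.elim _ _)]

include hω hn in
/-- **S1712** -/
theorem support_ext_iff_depth_add_dim (i : ℕ) (p : PrimeSpectrum A) :
    (∃ j : ℕ, j ≤ i ∧ p ∈ Module.support A (Dual.inD A M ⟶ ω⟦(-(j : ℤ))⟧)) ↔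
      ((LocCoh.depth (Localization.AtPrime p.asIdeal)
        (LocalizedModule p.asIdeal.primeCompl M) : ℕ∞) : WithBot ℕ∞) +
          ringKrullDim (A ⧸ p.asIdeal) ≤ (i : WithBot ℕ∞) := by
  haveI := p.2
  haveI : Nontrivial (A ⧸ p.asIdeal) := Ideal.Quotient.nontrivial_iff.2 p.2.ne_top
  haveI : IsLocalRing (A ⧸ p.asIdeal) :=
    IsLocalRing.of_surjective' (Ideal.Quotient.mk p.asIdeal) Ideal.Quotient.mk_surjective
  obtain ⟨e, he⟩ := exists_nat_eq_ringKrullDim (A ⧸ p.asIdeal)
  have hD := isDualizing_Lp_shift ω hω p.asIdeal (-(e : ℤ))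
  have hN := isNormalized_Lp_shift ω hω hn p.asIdeal e he
  -- the translation
  have key : ∀ j : ℤ, p ∈ Module.support A (Dual.inD A M ⟶ ω⟦j⟧) ↔
      Nontrivial (Dual.inD (Localization.AtPrime p.asIdeal)
        (LocalizedModule p.asIdeal.primeCompl M) ⟶
          (((Lp p.asIdeal).obj ω)⟦(-(e : ℤ))⟧)⟦(e : ℤ) + j⟧) := by
    intro j
    have h1 := mem_support_ext_iff ω hω p.asIdeal M j
    rw [h1]
    exact (((shiftFunctorAdd' (Dual.D (Localization.AtPrime p.asIdeal)) (-(e : ℤ))
      ((e : ℤ) + j) j (by ring)).app ((Lp p.asIdeal).obj ω)).homToEquiv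
        (Z := Dual.inD (Localization.AtPrime p.asIdeal)
          (LocalizedModule p.asIdeal.primeCompl M))).nontrivial_congr
  rw [he]
  by_cases hM : Subsingleton (LocalizedModule p.asIdeal.primeCompl M)
  · rw [depth_eq_top_of_subsingleton]
    constructor
    · rintro ⟨j, -, hj⟩
      rw [key] at hj
      haveI := subsingleton_hom_of_subsingleton (LocalizedModule p.asIdeal.primeCompl M)
        ((((Lp p.asIdeal).obj ω)⟦(-(e : ℤ))⟧)⟦(e : ℤ) + -(j : ℤ)⟧)
      exact absurd hj (not_nontrivial _)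
    · intro h
      exfalso
      have h2 : (((⊤ : ℕ∞) : WithBot ℕ∞) + ((e : ℕ) : WithBot ℕ∞)) = ((⊤ : ℕ∞) : WithBot ℕ∞) := by
        have : ((e : ℕ) : WithBot ℕ∞) = (((e : ℕ) : ℕ∞) : WithBot ℕ∞) := rfl
        rw [this, ← WithBot.coe_add, top_add]
      rw [h2] at h
      have h3 : ((⊤ : ℕ∞) : WithBot ℕ∞) ≤ (((i : ℕ) : ℕ∞) : WithBot ℕ∞) := h
      rw [WithBot.coe_le_coe, top_le_iff] at h3
      exact ENat.natCast_ne_top _ h3
  · rw [not_subsingleton_iff_nontrivial] at hM
    have hne : LocCoh.depth (Localization.AtPrime p.asIdeal)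
        (LocalizedModule p.asIdeal.primeCompl M) ≠ ⊤ := Groth.Agent.Lib.Helper5.depth_ne_top
    obtain ⟨δ₀, hδ₀⟩ := ENat.ne_top_iff_exists.1 hne
    obtain ⟨h3, h4⟩ := depth_ext _ hD hN δ₀ (LocalizedModule p.asIdeal.primeCompl M) hδ₀.symm
    rw [← hδ₀]
    have harith : (((δ₀ : ℕ∞) : WithBot ℕ∞) + ((e : ℕ) : WithBot ℕ∞) ≤ ((i : ℕ) : WithBot ℕ∞)) ↔
        δ₀ + e ≤ i := by
      constructor
      · intro h
        exact_mod_cast h
      · intro h
        exact_mod_cast h
    rw [harith]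
    constructor
    · rintro ⟨j, hji, hj⟩
      rw [key] at hj
      by_contra hlt
      push Not at hlt
      by_cases hje : (j : ℤ) < e
      · exact not_subsingleton _ (subsingleton_hom_pos _ hD hN
          (LocalizedModule p.asIdeal.primeCompl M) ((e : ℤ) + -(j : ℤ)) (by omega))
      · have h5 := h3 (j - e) (by omega)
        have h6 : (-(((j - e : ℕ)) : ℤ)) = (e : ℤ) + -(j : ℤ) := by
          rw [Nat.cast_sub (by omega)]
          ring
        rw [h6] at h5
        exact not_subsingleton _ h5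
    · intro h
      refine ⟨δ₀ + e, h, ?_⟩
      rw [key]
      have h6 : (e : ℤ) + -((δ₀ + e : ℕ) : ℤ) = -(δ₀ : ℤ) := by
        push_cast
        ring
      rw [h6]
      exact h4

end Local

end Groth.Agent.Lib.H6xLoc
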