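import Mathlib
import Groth.Agent.Lib.H6xLocK
set_option backward.isDefEq.respectTransparency.types false

/-!
# Local-to-global for dualizing complexes (helper6)

If `K ∈ D^b_coh(A)` has finite injective dimension and `K_m` is dualizing over `A_m` for every
maximal ideal `m`, then `K` is dualizing.
-/

set_option autoImplicit false
set_option linter.style.haveILetI false
universe u

namespace Groth.Agent.Lib.H6xLoc

open CategoryTheory CategoryTheory.Limits DerivedCategory
open Groth.Agent.Lib.Helper1.Extend Groth.Agent.Lib.Helper1.LDer Groth.Agent.Lib.H6xRGam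
open Groth.Agent.Lib.H6xDual Groth.Agent.Lib.H6xBid Groth.Agent.Lib.H6xDep
attribute [local instance] HasDerivedCategory.standard

variable {A : Type u} [CommRing A]

/-- an ideal not contained in any maximal ideal contains `1` -/
lemma one_mem_of_forall_maximal (I : Ideal A)
    (h : ∀ (m : Ideal A) [m.IsMaximal], ∃ s : A, s ∉ m ∧ s ∈ I) : (1 : A) ∈ I := by
  by_contra h1
  have hI : I ≠ ⊤ := fun h2 => h1 (h2 ▸ Submodule.mem_top)
  obtain ⟨m, hm, hIm⟩ := Ideal.exists_le_maximal I hI
  obtain ⟨s, hs, hsI⟩ := h m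
  exact hs (hIm hsI)

/-- boundedness below is preserved by shifts -/
lemma boundedBelow_shift' (K : Dual.D A)
    (hK : ∃ a : ℤ, ∀ j : ℤ, j < a → Subsingleton (Dual.HD A K j)) (i : ℤ) :
    ∃ a : ℤ, ∀ j : ℤ, j < a → Subsingleton (Dual.HD A (K⟦i⟧) j) := by
  obtain ⟨a, ha⟩ := hK
  refine ⟨a - i, fun j hj => ?_⟩
  haveI : Subsingleton (Dual.HD A K (i + j)) := ha (i + j) (by omega)
  let eI : (homologyFunctor (ModuleCat.{u} A) j).obj ((shiftFunctor (Dual.D A) i).obj K) ≅
      (homologyFunctor (ModuleCat.{u} A) (i + j)).obj K :=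
    ((homologyFunctor (ModuleCat.{u} A) 0).shiftIso i j (i + j) rfl).app K
  exact eI.toLinearEquiv.toEquiv.subsingleton

section Glue

variable [IsNoetherianRing A] (X W : Dual.D A) (hX : DRing.IsPseudoCoherent' A X)
  (hW : ∃ a : ℤ, ∀ i : ℤ, i < a → Subsingleton (Dual.HD A W i))

include hX hW in
/-- a morphism vanishing at all maximal ideals vanishes -/
theorem eq_zero_of_forall_maximal (f : X ⟶ W)
    (h : ∀ (m : Ideal A) [m.IsMaximal], (Lp m).map f = 0) : f = 0 := by
  let I : Ideal A :=
    { carrier := {r | r • f = 0}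
      add_mem' := fun {r r'} hr hr' => by
        change (r + r') • f = 0
        rw [add_smul, hr, hr', add_zero]
      zero_mem' := zero_smul A f
      smul_mem' := fun t r hr => by
        change (t • r) • f = 0
        rw [smul_eq_mul, mul_smul, hr, smul_zero] }
  have h1 : (1 : A) ∈ I := by
    refine one_mem_of_forall_maximal I (fun m _ => ?_)
    obtain ⟨s, hs⟩ := locHom_inj (S := m.primeCompl) X W hX hW f (h m)
    exact ⟨(s : A), s.2, hs⟩
  have h2 : (1 : A) • f = 0 := h1
  rwa [one_smul] at h2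

end Glue

section Main

variable [IsNoetherianRing A] (K : Dual.D A) (hPC : DRing.IsPseudoCoherent' A K)
  (hBB : ∃ a : ℤ, ∀ j : ℤ, j < a → Subsingleton (Dual.HD A K j))
  (hloc : ∀ (m : Ideal A) [m.IsMaximal],
    Dual.IsDualizing (Localization.AtPrime m) ((Lp m).obj K))

include hPC hBB hloc in
lemma ext_self_of_forall_maximal (i : ℤ) (hi : i ≠ 0) : Subsingleton (K ⟶ K⟦i⟧) := by
  refine ⟨fun f g => ?_⟩
  suffices H : ∀ g : K ⟶ K⟦i⟧, g = 0 by rw [H f, H g]
  intro g
  refine eq_zero_of_forall_maximal K (K⟦i⟧) hPC (boundedBelow_shift' K hBB i) g (fun m _ => ?_)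
  let c : (Lp m).obj (K⟦i⟧) ≅ ((Lp m).obj K)⟦i⟧ := ((Lp m).commShiftIso i).app K
  haveI := (hloc m).ext_self_subsingleton i hi
  have h1 : (Lp m).map g ≫ c.hom = 0 := Subsingleton.elim _ _
  rw [← cancel_mono c.hom, h1, Limits.zero_comp]

include hloc in
lemma toEnd_injective_of_forall_maximal :
    Function.Injective (fun a : A => a • 𝟙 K) := by
  intro a a' haa'
  have h0 : (a - a') • 𝟙 K = 0 := by
    rw [sub_smul, sub_eq_zero]
    exact haa'
  rw [← sub_eq_zero]
  set c := a - a' with hc
  let I : Ideal A := Ideal.span {c} |>.annihilator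
  have h1 : (1 : A) ∈ (Submodule.span A {c}).annihilator := by
    refine one_mem_of_forall_maximal _ (fun m _ => ?_)
    have h2 : (algebraMap A (Localization.AtPrime m) c) • 𝟙 ((Lp m).obj K) = 0 := by
      have := LS_map_smul (S := m.primeCompl) c (𝟙 K)
      rw [CategoryTheory.Functor.map_id] at this
      rw [← this, h0, Functor.map_zero]
    have h3 : algebraMap A (Localization.AtPrime m) c = 0 := (hloc m).toEnd_bijective.1 (by
      change (algebraMap A (Localization.AtPrime m) c) • 𝟙 ((Lp m).obj K) =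
        (0 : Localization.AtPrime m) • 𝟙 ((Lp m).obj K)
      rw [h2, zero_smul])
    obtain ⟨s, hs⟩ := (IsLocalization.map_eq_zero_iff m.primeCompl
      (Localization.AtPrime m) c).1 h3
    refine ⟨(s : A), s.2, ?_⟩
    rw [Submodule.mem_annihilator_span_singleton]
    exact hs
  rw [Submodule.mem_annihilator_span_singleton, one_smul] at h1
  exact h1

include hPC hBB hloc in
lemma toEnd_surjective_of_forall_maximal :
    Function.Surjective (fun a : A => a • 𝟙 K) := by
  intro f
  let I : Ideal A :=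
    { carrier := {r | ∃ a : A, r • f = a • 𝟙 K}
      add_mem' := fun {r r'} hr hr' => by
        obtain ⟨a, ha⟩ := hr
        obtain ⟨a', ha'⟩ := hr'
        exact ⟨a + a', by rw [add_smul, ha, ha', add_smul]⟩
      zero_mem' := ⟨0, by rw [zero_smul, zero_smul]⟩
      smul_mem' := fun t r hr => by
        obtain ⟨a, ha⟩ := hr
        exact ⟨t * a, by rw [smul_eq_mul, mul_smul, ha, mul_smul]⟩ }
  have h1 : (1 : A) ∈ I := by
    refine one_mem_of_forall_maximal I (fun m _ => ?_)
    obtain ⟨b, hb⟩ := (hloc m).toEnd_bijective.2 ((Lp m).map f)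
    have hb' : b • 𝟙 ((Lp m).obj K) = (Lp m).map f := hb
    obtain ⟨a, s, has⟩ := IsLocalization.exists_mk'_eq m.primeCompl b
    have h2 : algebraMap A (Localization.AtPrime m) a =
        b * algebraMap A (Localization.AtPrime m) (s : A) := by
      rw [← has, IsLocalization.mk'_spec]
    have h3 : (Lp m).map ((s : A) • f - a • 𝟙 K) = 0 := by
      rw [Functor.map_sub, LS_map_smul, LS_map_smul, CategoryTheory.Functor.map_id, h2, ← hb',
        smul_smul, mul_comm, sub_self]
    obtain ⟨t, ht⟩ := locHom_inj (S := m.primeCompl) K K hPC hBB _ h3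
    refine ⟨(t : A) * (s : A), m.primeCompl.mul_mem t.2 s.2, (t : A) * a, ?_⟩
    rw [smul_sub, sub_eq_zero, smul_smul, smul_smul] at ht
    exact ht
  obtain ⟨a, ha⟩ := h1
  refine ⟨a, ?_⟩
  change a • 𝟙 K = f
  rw [← ha, one_smul]

include hPC hBB hloc in
/-- **local-to-global for dualizing complexes** -/
theorem isDualizing_of_forall_maximal
    (hfin : ∀ i : ℤ, Module.Finite A (Dual.HD A K i))
    (hinj : ∃ a b : ℤ, ∀ (M : Type u) [AddCommGroup M] [Module A M] (i : ℤ),
      (i < a ∨ b < i) → Subsingleton (Dual.inD A M ⟶ K⟦i⟧)) :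
    Dual.IsDualizing A K where
  isNoetherianRing := inferInstance
  finite_injective_dimension := hinj
  finite_cohomology := hfin
  toEnd_bijective := ⟨toEnd_injective_of_forall_maximal K hloc,
    toEnd_surjective_of_forall_maximal K hPC hBB hloc⟩
  ext_self_subsingleton := ext_self_of_forall_maximal K hPC hBB hloc

end Main

section Wrap

variable [IsNoetherianRing A] (K : Dual.D A)

/-- pseudo-coherence from bounded-above finite cohomology -/
lemma isPseudoCoherent'_of_finite (hfin : ∀ i : ℤ, Module.Finite A (Dual.HD A K i))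
    (hb : ∃ b : ℤ, ∀ i : ℤ, b < i → Subsingleton (Dual.HD A K i)) :
    DRing.IsPseudoCoherent' A K := by
  refine ((Groth.Agent.S6943.result A (fun I _ => Module.finitePresentation_of_finite A I) K
    hb 0).2).2 (fun i => ?_)
  haveI := hfin i
  exact Module.finitePresentation_of_finite A _

/-- **S7867** in `LBaseChange` form -/
theorem isDualizing_of_forall_maximal_LBaseChange
    (hbdd : ∃ a b : ℤ, ∀ i : ℤ, (i < a ∨ b < i) → Subsingleton (Dual.HD A K i))
    (hfin : ∀ i : ℤ, Module.Finite A (Dual.HD A K i))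
    (hinj : ∃ a b : ℤ, ∀ (M : Type u) [AddCommGroup M] [Module A M] (i : ℤ),
      (i < a ∨ b < i) → Subsingleton (Dual.inD A M ⟶ K⟦i⟧))
    [∀ m : Ideal A, [m.IsMaximal] →
      DRing.HasLBaseChange (algebraMap A (Localization.AtPrime m))]
    (hloc : ∀ (m : Ideal A) [m.IsMaximal],
      Dual.IsDualizing (Localization.AtPrime m)
        ((DRing.LBaseChange (algebraMap A (Localization.AtPrime m))).obj K)) :
    Dual.IsDualizing A K := by
  obtain ⟨a, b, hab⟩ := hbdd
  refine isDualizing_of_forall_maximal K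
    (isPseudoCoherent'_of_finite K hfin ⟨b, fun i hi => hab i (Or.inr hi)⟩)
    ⟨a, fun i hi => hab i (Or.inl hi)⟩ (fun m _ => ?_) hfin hinj
  obtain ⟨e⟩ := Groth.Agent.Lib.H6xPCDesc.nonempty_lbc_iso_extD (A := A)
    (B := Localization.AtPrime m) K
  exact isDualizing_of_iso e (hloc m)

/-- finite injective dimension (complex form) gives the `Hom`-vanishing form -/
lemma hinj_of_hasFiniteInjDim (h : DRing.HasFiniteInjDim A K) :
    ∃ a b : ℤ, ∀ (M : Type u) [AddCommGroup M] [Module A M] (i : ℤ),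
      (i < a ∨ b < i) → Subsingleton (Dual.inD A M ⟶ K⟦i⟧) := by
  obtain ⟨a, b, E, hE, hEinj, ⟨e⟩⟩ := h
  have h2 : ∃ I : CochainComplex (ModuleCat.{u} A) ℤ,
      (∀ i, Injective (I.X i)) ∧ (∀ i, (i < min a b ∨ max a b < i) → IsZero (I.X i)) ∧
        Nonempty (DerivedCategory.Q.obj I ≅ K) := by
    refine ⟨E, fun i => ?_, fun i hi => hE i ?_, ⟨e⟩⟩
    · exact injective_of_moduleInjective _ (hEinj i)
    · rcases hi with hi | hi
      · exact Or.inl (lt_of_lt_of_le hi (min_le_left a b))
      · exact Or.inr (lt_of_le_of_lt (le_max_right a b) hi)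
  have h3 := (Groth.Agent.S12537.result (ModuleCat.{u} A) K (min a b) (max a b)
    (le_trans (min_le_left a b) (le_max_left a b))).2 h2
  refine ⟨min a b, max a b, fun M _ _ i hi => ⟨fun f g => ?_⟩⟩
  rw [h3 (ModuleCat.of A M) i hi f, h3 (ModuleCat.of A M) i hi g]

/-- bounded cohomology from the `Hom`-vanishing form of finite injective dimension -/
lemma hbdd_of_hinj (hinj : ∃ a b : ℤ, ∀ (M : Type u) [AddCommGroup M] [Module A M] (i : ℤ),
      (i < a ∨ b < i) → Subsingleton (Dual.inD A M ⟶ K⟦i⟧)) :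
    ∃ a b : ℤ, ∀ i : ℤ, (i < a ∨ b < i) → Subsingleton (Dual.HD A K i) := by
  obtain ⟨a, b, hab⟩ := hinj
  exact ⟨a, b, fun i hi => subsingleton_HD_of_subsingleton_hom K i (hab A i hi)⟩

end Wrap

end Groth.Agent.Lib.H6xLoc
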