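import Mathlib
import Groth.Agent.Lib.H6xLocL
import Groth.Agent.Lib.Helper23InjAmp
set_option backward.isDefEq.respectTransparency.types false

/-!
# Baer's criterion for complexes (helper6)

If `Hom_{D(A)}(A/I, K⟦i⟧) = 0` for all ideals `I`, then `Hom_{D(A)}(M, K⟦i⟧) = 0` for all modules
`M`.
-/

set_option autoImplicit false
set_option linter.style.haveILetI false
universe u

namespace Groth.Agent.Lib.H6xLoc

open CategoryTheory CategoryTheory.Limits DerivedCategory
open Groth.Agent.Lib.H6xRGam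
attribute [local instance] HasDerivedCategory.standard

variable {A : Type u} [CommRing A]

section ModuleLevel

variable {X Y W : Type u} [AddCommGroup X] [Module A X] [AddCommGroup Y] [Module A Y]
  [AddCommGroup W] [Module A W] (d₁ : X →ₗ[A] Y) (d₂ : Y →ₗ[A] W) (h21 : d₂ ∘ₗ d₁ = 0)
  (hX : Module.Injective A X)
  (h : ∀ (I : Ideal A) (f : A ⧸ I →ₗ[A] Y), d₂ ∘ₗ f = 0 → ∃ g : A ⧸ I →ₗ[A] X, d₁ ∘ₗ g = f)

include h in
lemma ker_le_range_of_cyclic : LinearMap.ker d₂ ≤ LinearMap.range d₁ := by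
  intro y hy
  let f : A ⧸ (⊥ : Ideal A) →ₗ[A] Y :=
    Submodule.liftQ ⊥ (LinearMap.toSpanSingleton A Y y) bot_le
  have hf : d₂ ∘ₗ f = 0 := by
    apply LinearMap.ext
    intro z
    obtain ⟨a, rfl⟩ := Submodule.mkQ_surjective _ z
    change d₂ (f (Submodule.Quotient.mk a)) = 0
    rw [Submodule.liftQ_apply, LinearMap.toSpanSingleton_apply, map_smul,
      LinearMap.mem_ker.1 hy, smul_zero]
  obtain ⟨g, hg⟩ := h ⊥ f hf
  refine ⟨g (Submodule.Quotient.mk 1), ?_⟩
  have := LinearMap.congr_fun hg (Submodule.Quotient.mk 1)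
  rw [LinearMap.comp_apply] at this
  rw [this, Submodule.liftQ_apply, LinearMap.toSpanSingleton_apply, one_smul]

include h21 hX h in
lemma baer_ker_of_cyclic : Module.Baer A (LinearMap.ker d₁) := by
  intro I g
  obtain ⟨g', hg'⟩ := (Module.Baer.of_injective hX) I ((LinearMap.ker d₁).subtype ∘ₗ g)
  have hI : I ≤ LinearMap.ker (d₁ ∘ₗ g') := by
    intro x hx
    rw [LinearMap.mem_ker, LinearMap.comp_apply, hg' x hx]
    exact LinearMap.mem_ker.1 (g ⟨x, hx⟩).2
  let f : A ⧸ I →ₗ[A] Y := Submodule.liftQ I (d₁ ∘ₗ g') hI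
  have hf : d₂ ∘ₗ f = 0 := by
    apply LinearMap.ext
    intro z
    obtain ⟨a, rfl⟩ := Submodule.mkQ_surjective _ z
    change d₂ (f (Submodule.Quotient.mk a)) = 0
    rw [Submodule.liftQ_apply, LinearMap.comp_apply]
    exact LinearMap.congr_fun h21 (g' a)
  obtain ⟨g'', hg''⟩ := h I f hf
  let k : A →ₗ[A] X := g' - g'' ∘ₗ I.mkQ
  have hk : ∀ a, k a ∈ LinearMap.ker d₁ := by
    intro a
    rw [LinearMap.mem_ker]
    change d₁ (g' a - g'' (Submodule.Quotient.mk a)) = 0
    rw [map_sub]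
    have := LinearMap.congr_fun hg'' (Submodule.Quotient.mk a)
    rw [LinearMap.comp_apply] at this
    rw [this, Submodule.liftQ_apply, LinearMap.comp_apply, sub_self]
  refine ⟨LinearMap.codRestrict _ k hk, fun x hx => ?_⟩
  apply Subtype.ext
  change g' x - g'' (Submodule.Quotient.mk x) = (g ⟨x, hx⟩ : X)
  rw [(Submodule.Quotient.mk_eq_zero I).2 hx, map_zero, sub_zero, hg' x hx]
  rfl

include h21 hX h in
/-- **Baer's criterion, lifting form** -/
theorem exists_lift_of_cyclic (M : Type u) [AddCommGroup M] [Module A M] (f : M →ₗ[A] Y)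
    (hf : d₂ ∘ₗ f = 0) : ∃ g : M →ₗ[A] X, d₁ ∘ₗ g = f := by
  have hZ : Module.Injective A (LinearMap.ker d₁) :=
    (baer_ker_of_cyclic d₁ d₂ h21 hX h).injective
  obtain ⟨r, hr⟩ := Module.Injective.extension_property A (LinearMap.ker d₁) _ _
    (LinearMap.ker d₁).subtype (LinearMap.ker d₁).injective_subtype LinearMap.id
  -- `s = id - ι r` kills the kernel
  let s : X →ₗ[A] X := LinearMap.id - (LinearMap.ker d₁).subtype ∘ₗ r
  have hs : LinearMap.ker d₁ ≤ LinearMap.ker s := by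
    intro x hx
    rw [LinearMap.mem_ker]
    change x - ((r x : LinearMap.ker d₁) : X) = 0
    have := LinearMap.congr_fun hr ⟨x, hx⟩
    rw [LinearMap.comp_apply] at this
    change r x = ⟨x, hx⟩ at this
    rw [this, sub_self]
  have hds : ∀ x, d₁ (s x) = d₁ x := by
    intro x
    change d₁ (x - ((r x : LinearMap.ker d₁) : X)) = d₁ x
    rw [map_sub, LinearMap.mem_ker.1 (r x).2, sub_zero]
  have hrange : ∀ m, f m ∈ LinearMap.range d₁ := fun m =>
    ker_le_range_of_cyclic d₁ d₂ h (LinearMap.mem_ker.2 (LinearMap.congr_fun hf m))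
  let sbar : LinearMap.range d₁ →ₗ[A] X :=
    (Submodule.liftQ (LinearMap.ker d₁) s hs) ∘ₗ (d₁.quotKerEquivRange).symm.toLinearMap
  refine ⟨sbar ∘ₗ LinearMap.codRestrict _ f hrange, ?_⟩
  apply LinearMap.ext
  intro m
  obtain ⟨x, hx⟩ := hrange m
  have h1 : LinearMap.codRestrict (LinearMap.range d₁) f hrange m = ⟨d₁ x, ⟨x, rfl⟩⟩ :=
    Subtype.ext hx.symm
  change d₁ (sbar (LinearMap.codRestrict (LinearMap.range d₁) f hrange m)) = f m
  rw [h1]
  change d₁ ((Submodule.liftQ (LinearMap.ker d₁) s hs)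
    ((d₁.quotKerEquivRange).symm ⟨d₁ x, ⟨x, rfl⟩⟩)) = f m
  rw [LinearMap.quotKerEquivRange_symm_apply_image, Submodule.mkQ_apply,
    Submodule.liftQ_apply, hds, hx]

end ModuleLevel

section Derived

/-- **Baer's criterion in `D(A)`**: `Hom(A/I, K⟦i⟧) = 0` for all ideals `I` implies
`Hom(M, K⟦i⟧) = 0` for all modules `M` -/
theorem subsingleton_hom_of_cyclic (K : Dual.D A) (i : ℤ)
    (h : ∀ I : Ideal A, Subsingleton (Dual.inD A (A ⧸ I) ⟶ K⟦i⟧))
    (M : Type u) [AddCommGroup M] [Module A M] : Subsingleton (Dual.inD A M ⟶ K⟦i⟧) := by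
  obtain ⟨E, hE, hinj, ⟨e⟩⟩ := exists_kInj_iso K
  haveI := hE
  have hiff := fun (Y : ModuleCat.{u} A) =>
    Groth.Agent.Lib.Helper23InjAmp.single_forall_eq_zero_iff Y E i (i - 1) (i + 1) (by omega) rfl
  -- transfer along `e`
  have tr : ∀ (Y : ModuleCat.{u} A),
      (∀ φ : (DerivedCategory.singleFunctor (ModuleCat.{u} A) 0).obj Y ⟶ (Q.obj E)⟦i⟧, φ = 0) ↔
      Subsingleton ((DerivedCategory.singleFunctor (ModuleCat.{u} A) 0).obj Y ⟶ K⟦i⟧) := by
    intro Y
    let ε := ((shiftFunctor (Dual.D A) i).mapIso e).homToEquiv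
      (Z := (DerivedCategory.singleFunctor (ModuleCat.{u} A) 0).obj Y)
    constructor
    · intro h0
      refine ⟨fun a b => ε.injective ?_⟩
      rw [h0 (ε a), h0 (ε b)]
    · intro h0 φ
      haveI := h0
      apply ε.symm.injective
      exact Subsingleton.elim _ _
  rw [← tr (ModuleCat.of A M), hiff]
  intro f hf
  have key := exists_lift_of_cyclic (E.d (i - 1) i).hom (E.d i (i + 1)).hom
    (by
      rw [← ModuleCat.hom_comp, E.d_comp_d]
      rfl)
    (hinj (i - 1))
    (fun I f' hf' => by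
      have h1 := (hiff (ModuleCat.of A (A ⧸ I))).1 ((tr _).2 (h I)) (ModuleCat.ofHom f')
        (by
          apply ModuleCat.hom_ext
          exact hf')
      obtain ⟨g, hg⟩ := h1
      refine ⟨g.hom, ?_⟩
      have := congrArg ModuleCat.Hom.hom hg
      exact this)
    M f.hom (by
      have := congrArg ModuleCat.Hom.hom hf
      exact this)
  obtain ⟨g, hg⟩ := key
  refine ⟨ModuleCat.ofHom g, ?_⟩
  apply ModuleCat.hom_ext
  exact hg

end Derived

end Groth.Agent.Lib.H6xLoc
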