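import Mathlib
import Groth.Agent.Lib.H6xLocM
set_option backward.isDefEq.respectTransparency.types false

/-!
# Pointwise dualizing complexes over rings of finite Krull dimension are dualizing (helper6)
-/

set_option autoImplicit false
set_option linter.style.haveILetI false
universe u

namespace Groth.Agent.Lib.H6xLoc

open CategoryTheory CategoryTheory.Limits DerivedCategory
open Groth.Agent.Lib.Helper1.Extend Groth.Agent.Lib.Helper1.LDer Groth.Agent.Lib.H6xRGam
open Groth.Agent.Lib.H6xDual Groth.Agent.Lib.H6xBid Groth.Agent.Lib.H6xDep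
attribute [local instance] HasDerivedCategory.standard

variable {A : Type u} [CommRing A]

section SupportTrans

variable (p : Ideal A) [p.IsPrime] (M : Type u) [AddCommGroup M] [Module A M]

/-- support of a localized module -/
theorem mem_support_localizedModule_iff (Q : PrimeSpectrum (Localization.AtPrime p)) :
    Q ∈ Module.support (Localization.AtPrime p) (LocalizedModule p.primeCompl M) ↔
      PrimeSpectrum.comap (algebraMap A (Localization.AtPrime p)) Q ∈ Module.support A M := by
  constructor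
  · intro hQ
    have h1 := Module.support_subset_preimage_comap (R := A) (A := Localization.AtPrime p)
      (M := LocalizedModule p.primeCompl M) hQ
    rw [Set.mem_preimage, Module.mem_support_iff'] at h1
    obtain ⟨x, hx⟩ := h1
    rw [Module.mem_support_iff']
    induction x using LocalizedModule.induction_on with
    | h m s =>
      refine ⟨m, fun r hr h0 => hx r hr ?_⟩
      rw [LocalizedModule.smul'_mk, h0, LocalizedModule.zero_mk]
  · intro hq
    rw [Module.mem_support_iff'] at hq ⊢
    obtain ⟨m, hm⟩ := hq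
    have hqp : ∀ x : A, x ∈ (PrimeSpectrum.comap (algebraMap A (Localization.AtPrime p)) Q).asIdeal →
        x ∈ p := by
      intro x hx
      by_contra hxp
      have hu : IsUnit (algebraMap A (Localization.AtPrime p) x) :=
        IsLocalization.map_units (Localization.AtPrime p) (⟨x, hxp⟩ : p.primeCompl)
      exact Q.2.ne_top (Ideal.eq_top_of_isUnit_mem _ hx hu)
    refine ⟨LocalizedModule.mk m 1, fun b hb h0 => ?_⟩
    obtain ⟨a, t, rfl⟩ := IsLocalization.exists_mk'_eq p.primeCompl b
    have ha : a ∉ (PrimeSpectrum.comap (algebraMap A (Localization.AtPrime p)) Q).asIdeal := by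
      intro ha
      exact hb ((IsLocalization.mk'_mem_iff).2 ha)
    rw [← Localization.mk_eq_mk', LocalizedModule.mk_smul_mk, ← LocalizedModule.zero_mk 1,
      LocalizedModule.mk_eq] at h0
    obtain ⟨u, hu⟩ := h0
    rw [smul_zero, smul_zero, one_smul] at hu
    have hu' : ((u : A) * a) • m = 0 := by
      rw [mul_smul]
      exact hu
    refine hm ((u : A) * a) ?_ hu'
    intro hmem
    rcases (PrimeSpectrum.comap (algebraMap A (Localization.AtPrime p)) Q).2.mem_or_mem hmem with
      h1 | h1
    · exact u.2 (hqp _ h1)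
    · exact ha h1

end SupportTrans

section LowerVanishing

/-- `Hom(M, K⟦i⟧) = 0` for `i < a` if `H^j(K) = 0` for `j < a` -/
lemma subsingleton_hom_of_lt (K : Dual.D A) (a : ℤ)
    (ha : ∀ j : ℤ, j < a → Subsingleton (Dual.HD A K j)) (M : Type u) [AddCommGroup M]
    [Module A M] (i : ℤ) (hi : i < a) : Subsingleton (Dual.inD A M ⟶ K⟦i⟧) := by
  haveI : K.IsGE a := by
    rw [DerivedCategory.isGE_iff]
    intro j hj
    haveI := ha j hj
    exact ModuleCat.isZero_of_subsingleton _
  haveI : (Dual.inD A M).IsLE 0 :=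
    inferInstanceAs (((singleFunctor (ModuleCat.{u} A) 0).obj (ModuleCat.of A M)).IsLE 0)
  haveI : (K⟦i⟧).IsGE (a - i) :=
    DerivedCategory.TStructure.t.isGE_shift K a i (a - i) (by omega)
  refine ⟨fun f g => ?_⟩
  rw [DerivedCategory.TStructure.t.zero_of_isLE_of_isGE f 0 (a - i) (by omega) inferInstance
    inferInstance,
    DerivedCategory.TStructure.t.zero_of_isLE_of_isGE g 0 (a - i) (by omega) inferInstance
    inferInstance]

end LowerVanishing

section Pointwise

variable [IsNoetherianRing A] (R : Dual.D A)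
  (hloc : ∀ (p : Ideal A) [p.IsPrime],
    Dual.IsDualizing (Localization.AtPrime p) ((Lp p).obj R))

include hloc in
/-- at a minimal prime the cohomology is concentrated in one degree -/
theorem existsUnique_nontrivial_localized_HD' (q : Ideal A) [q.IsPrime]
    (hq : q ∈ minimalPrimes A) :
    ∃! i : ℤ, Nontrivial (LocalizedModule q.primeCompl (Dual.HD A R i)) := by
  have h0 : ringKrullDim (Localization.AtPrime q) = 0 := by
    rw [IsLocalization.AtPrime.ringKrullDim_eq_height q, Ideal.height_eq_zero_iff.2 hq]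
    rfl
  obtain ⟨n, hN, -⟩ := exists_normalizing_shift ((Lp q).obj R) (hloc q)
  have hD := isDualizing_shift _ (hloc q) n
  have key : ∀ i : ℤ, Nontrivial (LocalizedModule q.primeCompl (Dual.HD A R i)) ↔ i = n := by
    intro i
    have key0 := HD_nontrivial_iff_of_dim_zero h0 _ hD hN (i - n)
    let ε : LocalizedModule q.primeCompl (Dual.HD A R i) ≃
        Dual.HD (Localization.AtPrime q) (((Lp q).obj R)⟦n⟧) (i - n) :=
      (localizedHDEquiv q.primeCompl R i).toEquiv.trans
        (HDShiftEquiv ((Lp q).obj R) n (i - n) i (by ring)).symm.toEquiv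
    rw [ε.nontrivial_congr, key0]
    omega
  exact ⟨n, (key n).2 rfl, fun i hi => (key i).1 hi⟩

include hloc in
/-- a uniform bound for the degrees at minimal primes -/
lemma exists_bound_minimal :
    ∃ D : ℤ, ∀ (q : Ideal A) [q.IsPrime], q ∈ minimalPrimes A → ∀ i : ℤ,
      Nontrivial (LocalizedModule q.primeCompl (Dual.HD A R i)) → i ≤ D := by
  classical
  have hfin := minimalPrimes.finite_of_isNoetherianRing A
  have hex : ∀ q : Ideal A, ∃ d : ℤ, ∀ (hq : q ∈ minimalPrimes A) (i : ℤ),
      (haveI : q.IsPrime := hq.1.1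
       Nontrivial (LocalizedModule q.primeCompl (Dual.HD A R i))) → i = d := by
    intro q
    by_cases hq : q ∈ minimalPrimes A
    · haveI : q.IsPrime := hq.1.1
      obtain ⟨d, -, hd⟩ := existsUnique_nontrivial_localized_HD' R hloc q hq
      exact ⟨d, fun _ i hi => hd i hi⟩
    · exact ⟨0, fun h => absurd h hq⟩
  choose d hd using hex
  obtain ⟨D, hD⟩ := Finset.exists_le (hfin.toFinset.image d)
  refine ⟨D, fun q _ hq i hi => ?_⟩
  have h1 := hd q hq i hi
  rw [h1]
  exact hD _ (Finset.mem_image_of_mem d (hfin.mem_toFinset.2 hq))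

lemma exists_nat_eq_of_le (x : WithBot ℕ∞) (h0 : 0 ≤ x) (N : ℕ) (hN : x ≤ (N : WithBot ℕ∞)) :
    ∃ e : ℕ, x = (e : WithBot ℕ∞) ∧ e ≤ N := by
  induction x using WithBot.recBotCoe with
  | bot => exact absurd h0 (by simp)
  | coe x =>
    induction x using ENat.recTopCoe with
    | top =>
      exfalso
      have h1 : ((⊤ : ℕ∞) : WithBot ℕ∞) ≤ ((N : ℕ∞) : WithBot ℕ∞) := hN
      rw [WithBot.coe_le_coe, top_le_iff] at h1
      exact ENat.natCast_ne_top N h1
    | coe e =>
      refine ⟨e, rfl, ?_⟩
      have h1 : ((e : ℕ∞) : WithBot ℕ∞) ≤ ((N : ℕ∞) : WithBot ℕ∞) := hN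
      rw [WithBot.coe_le_coe] at h1
      exact_mod_cast h1

include hloc in
/-- the normalizing shifts are uniformly bounded above -/
theorem normalizing_shift_le (N : ℕ) (hN : ringKrullDim A ≤ (N : WithBot ℕ∞)) (D : ℤ)
    (hD : ∀ (q : Ideal A) [q.IsPrime], q ∈ minimalPrimes A → ∀ i : ℤ,
      Nontrivial (LocalizedModule q.primeCompl (Dual.HD A R i)) → i ≤ D)
    (p : Ideal A) [p.IsPrime] (n : ℤ)
    (hn : Dual.IsNormalized (Localization.AtPrime p) (((Lp p).obj R)⟦n⟧)) : n ≤ D + N := by
  have hω := isDualizing_shift _ (hloc p) n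
  obtain ⟨Q, hQ, -⟩ := Ideal.exists_minimalPrimes_le
    (bot_le : (⊥ : Ideal (Localization.AtPrime p)) ≤
      IsLocalRing.maximalIdeal (Localization.AtPrime p))
  haveI : Q.IsPrime := hQ.1.1
  have hQ' : Q ∈ minimalPrimes (Localization.AtPrime p) := hQ
  have hdim : ringKrullDim (Localization.AtPrime p ⧸ Q) ≤ (N : WithBot ℕ∞) := by
    refine le_trans (ringKrullDim_quotient_le Q) (le_trans ?_ hN)
    rw [IsLocalization.AtPrime.ringKrullDim_eq_height p]
    exact Ideal.height_le_ringKrullDim_of_ne_top (Ideal.IsPrime.ne_top inferInstance)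
  obtain ⟨e, he, heN⟩ := exists_nat_eq_of_le _ ringKrullDim_nonneg_of_nontrivial N hdim
  have h1 := (nontrivial_localized_HD_iff _ hω hn Q hQ' e he (-(e : ℤ))).2 rfl
  -- transport to `A`
  let ε : Dual.HD (Localization.AtPrime p) (((Lp p).obj R)⟦n⟧) (-(e : ℤ)) ≃ₗ[Localization.AtPrime p]
      LocalizedModule p.primeCompl (Dual.HD A R (n - e)) :=
    (HDShiftEquiv ((Lp p).obj R) n (-(e : ℤ)) (n - e) (by ring)) ≪≫ₗ
      (localizedHDEquiv p.primeCompl R (n - e)).symm
  have h2 : (⟨Q, inferInstance⟩ : PrimeSpectrum (Localization.AtPrime p)) ∈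
      Module.support (Localization.AtPrime p)
        (Dual.HD (Localization.AtPrime p) (((Lp p).obj R)⟦n⟧) (-(e : ℤ))) :=
    Module.mem_support_iff.2 h1
  rw [ε.support_eq, mem_support_localizedModule_iff] at h2
  have hq : (Q.comap (algebraMap A (Localization.AtPrime p))) ∈ minimalPrimes A := by
    have h3 := IsLocalization.minimalPrimes_map p.primeCompl (Localization.AtPrime p)
      (⊥ : Ideal A)
    rw [Ideal.map_bot] at h3
    have h4 : Q ∈ Ideal.under A ⁻¹' (⊥ : Ideal A).minimalPrimes := h3 ▸ hQ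
    exact h4
  have h5 := hD (Q.comap (algebraMap A (Localization.AtPrime p))) hq (n - e)
    (Module.mem_support_iff.1 h2)
  have : (e : ℤ) ≤ N := by exact_mod_cast heN
  omega

include hloc in
/-- `R` is bounded above -/
theorem subsingleton_HD_of_pointwise (N : ℕ) (hN : ringKrullDim A ≤ (N : WithBot ℕ∞)) (D : ℤ)
    (hD : ∀ (q : Ideal A) [q.IsPrime], q ∈ minimalPrimes A → ∀ i : ℤ,
      Nontrivial (LocalizedModule q.primeCompl (Dual.HD A R i)) → i ≤ D)
    (i : ℤ) (hi : D + N < i) : Subsingleton (Dual.HD A R i) := by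
  by_contra hns
  rw [not_subsingleton_iff_nontrivial] at hns
  obtain ⟨P, hP⟩ := Module.nonempty_support_of_nontrivial (R := A) (M := Dual.HD A R i)
  have h1 := Module.mem_support_iff.1 hP
  obtain ⟨n, hnN, -⟩ := exists_normalizing_shift ((Lp P.asIdeal).obj R) (hloc P.asIdeal)
  have hn := normalizing_shift_le R hloc N hN D hD P.asIdeal n hnN
  have hω := isDualizing_shift _ (hloc P.asIdeal) n
  let ε : LocalizedModule P.asIdeal.primeCompl (Dual.HD A R i) ≃
      Dual.HD (Localization.AtPrime P.asIdeal) (((Lp P.asIdeal).obj R)⟦n⟧) (i - n) :=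
    (localizedHDEquiv P.asIdeal.primeCompl R i).toEquiv.trans
      (HDShiftEquiv ((Lp P.asIdeal).obj R) n (i - n) i (by ring)).symm.toEquiv
  have h2 : Subsingleton (Dual.HD (Localization.AtPrime P.asIdeal)
      (((Lp P.asIdeal).obj R)⟦n⟧) (i - n)) :=
    subsingleton_HD_of_subsingleton_hom _ _
      (subsingleton_hom_pos _ hω hnN (Localization.AtPrime P.asIdeal) (i - n) (by omega))
  haveI := ε.subsingleton
  exact not_subsingleton (LocalizedModule P.asIdeal.primeCompl (Dual.HD A R i)) inferInstance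

include hloc in
/-- vanishing of `Ext^i(M, R)` for finite `M` and large `i` -/
theorem subsingleton_hom_finite_of_pointwise
    (hBB : ∃ a : ℤ, ∀ j : ℤ, j < a → Subsingleton (Dual.HD A R j))
    (N : ℕ) (hN : ringKrullDim A ≤ (N : WithBot ℕ∞)) (D : ℤ)
    (hD : ∀ (q : Ideal A) [q.IsPrime], q ∈ minimalPrimes A → ∀ i : ℤ,
      Nontrivial (LocalizedModule q.primeCompl (Dual.HD A R i)) → i ≤ D)
    (M : Type u) [AddCommGroup M] [Module A M] [Module.Finite A M]
    (i : ℤ) (hi : D + N < i) : Subsingleton (Dual.inD A M ⟶ R⟦i⟧) := by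
  have hPC : DRing.IsPseudoCoherent' A (Dual.inD A M) :=
    (Groth.Agent.S6942.result A 0 R M).2.2 inferInstance
  refine ⟨fun f g => ?_⟩
  suffices H : ∀ g : Dual.inD A M ⟶ R⟦i⟧, g = 0 by rw [H f, H g]
  intro g
  refine eq_zero_of_forall_maximal _ _ hPC (boundedBelow_shift' R hBB i) g (fun m _ => ?_)
  let c : (Lp m).obj (R⟦i⟧) ≅ ((Lp m).obj R)⟦i⟧ := ((Lp m).commShiftIso i).app R
  obtain ⟨n, hnN, -⟩ := exists_normalizing_shift ((Lp m).obj R) (hloc m)
  have hn := normalizing_shift_le R hloc N hN D hD m n hnN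
  have hω := isDualizing_shift _ (hloc m) n
  let ε : (Lp m).obj (Dual.inD A M) ≅
      Dual.inD (Localization.AtPrime m) (TensorProduct A (Localization.AtPrime m) M) :=
    extDInDIso (A := A) (B := Localization.AtPrime m) M
  have h1 : Subsingleton (Dual.inD (Localization.AtPrime m)
      (TensorProduct A (Localization.AtPrime m) M) ⟶ (((Lp m).obj R)⟦n⟧)⟦i - n⟧) :=
    subsingleton_hom_pos _ hω hnN _ (i - n) (by omega)
  have h2 : Subsingleton ((Lp m).obj (Dual.inD A M) ⟶ ((Lp m).obj R)⟦i⟧) :=
    ((ε.homFromEquiv (Z := ((Lp m).obj R)⟦i⟧)).trans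
      (((shiftFunctorAdd' (Dual.D (Localization.AtPrime m)) n (i - n) i (by ring)).app
        ((Lp m).obj R)).homToEquiv
        (Z := Dual.inD (Localization.AtPrime m)
          (TensorProduct A (Localization.AtPrime m) M)))).subsingleton_congr.2 h1
  have h3 : (Lp m).map g ≫ c.hom = 0 := Subsingleton.elim _ _
  rw [← cancel_mono c.hom, h3, Limits.zero_comp]

include hloc in
/-- **pointwise dualizing complexes over finite-dimensional Noetherian rings are dualizing** -/
theorem isDualizing_of_pointwise (hdim : ringKrullDim A < ⊤)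
    (hfin : ∀ i : ℤ, Module.Finite A (Dual.HD A R i))
    (hBB : ∃ a : ℤ, ∀ j : ℤ, j < a → Subsingleton (Dual.HD A R j)) :
    Dual.IsDualizing A R := by
  obtain ⟨N, hN⟩ : ∃ N : ℕ, ringKrullDim A ≤ (N : WithBot ℕ∞) := by
    generalize ringKrullDim A = x at hdim
    induction x using WithBot.recBotCoe with
    | bot => exact ⟨0, bot_le⟩
    | coe x =>
      induction x using ENat.recTopCoe with
      | top => exact absurd hdim (lt_irrefl _)
      | coe e => exact ⟨e, le_refl _⟩
  obtain ⟨D, hD⟩ := exists_bound_minimal R hloc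
  obtain ⟨a, ha⟩ := hBB
  have hPC : DRing.IsPseudoCoherent' A R :=
    isPseudoCoherent'_of_finite R hfin
      ⟨D + N, fun i hi => subsingleton_HD_of_pointwise R hloc N hN D hD i hi⟩
  refine isDualizing_of_forall_maximal R hPC ⟨a, ha⟩ (fun m _ => hloc m) hfin ?_
  refine ⟨a, D + N, fun M _ _ i hi => ?_⟩
  rcases hi with hi | hi
  · exact subsingleton_hom_of_lt R a ha M i hi
  · exact subsingleton_hom_of_cyclic R i
      (fun I => subsingleton_hom_finite_of_pointwise R hloc ⟨a, ha⟩ N hN D hD (A ⧸ I) i hi) M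

end Pointwise

end Groth.Agent.Lib.H6xLoc
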