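import Mathlib
import Groth.Agent.Lib.H6xLocN
set_option backward.isDefEq.respectTransparency.types false

/-!
# Dualizing complexes glue along covers by localizations (helper6)

If `S_j` is a family of submonoids of `A` such that every maximal ideal misses some `S_j`, and
`ω ∈ D(A)` localizes to a dualizing complex over each `S_j⁻¹A`, with uniformly bounded data, then
`ω` is dualizing.  In particular for a finite cover by basic opens `D(f_j)`.
-/

set_option autoImplicit false
set_option linter.style.haveILetI false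
universe u

namespace Groth.Agent.Lib.H6xLoc

open CategoryTheory CategoryTheory.Limits DerivedCategory
open Groth.Agent.Lib.Helper1.Extend Groth.Agent.Lib.Helper1.LDer Groth.Agent.Lib.H6xRGam
open Groth.Agent.Lib.H6xDual Groth.Agent.Lib.H6xBid Groth.Agent.Lib.H6xDep
attribute [local instance] HasDerivedCategory.standard

variable {A : Type u} [CommRing A]

section Cover

variable {J : Type*} (S : J → Submonoid A)
  (hcov : ∀ (m : Ideal A) [m.IsMaximal], ∃ j, ∀ s ∈ S j, s ∉ m)

include hcov in
lemma one_mem_of_cover (I : Ideal A) (h : ∀ j, ∃ s ∈ S j, s ∈ I) : (1 : A) ∈ I := by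
  refine one_mem_of_forall_maximal I (fun m _ => ?_)
  obtain ⟨j, hj⟩ := hcov m
  obtain ⟨s, hs, hsI⟩ := h j
  exact ⟨s, hj s hs, hsI⟩

include hcov in
/-- a module all of whose localizations in a cover vanish is zero -/
lemma subsingleton_of_cover_localizedModule (H : Type*) [AddCommGroup H] [Module A H]
    (hz : ∀ j, Subsingleton (LocalizedModule (S j) H)) : Subsingleton H := by
  refine ⟨fun x y => ?_⟩
  suffices h : ∀ x : H, x = 0 from (h x).trans (h y).symm
  intro x
  have h1 : (1 : A) ∈ (Submodule.span A {x}).annihilator := by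
    refine one_mem_of_cover S hcov _ (fun j => ?_)
    haveI := hz j
    have h2 : LocalizedModule.mk x (1 : S j) = LocalizedModule.mk 0 (1 : S j) :=
      Subsingleton.elim _ _
    rw [LocalizedModule.mk_eq] at h2
    obtain ⟨u, hu⟩ := h2
    refine ⟨(u : A), u.2, ?_⟩
    rw [Submodule.mem_annihilator_span_singleton]
    have hu' : u • x = 0 := by simpa using hu
    exact hu'
  rw [Submodule.mem_annihilator_span_singleton, one_smul] at h1
  exact h1

section Glue

variable [IsNoetherianRing A] (X W : Dual.D A) (hX : DRing.IsPseudoCoherent' A X)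
  (hW : ∃ a : ℤ, ∀ i : ℤ, i < a → Subsingleton (Dual.HD A W i))

include hcov hX hW in
/-- a morphism vanishing on a cover vanishes -/
theorem eq_zero_of_cover (f : X ⟶ W) (h : ∀ j, (LS (S j)).map f = 0) : f = 0 := by
  let I : Ideal A :=
    { carrier := {r | r • f = 0}
      add_mem' := fun {r r'} hr hr' => by
        change (r + r') • f = 0
        rw [add_smul, hr, hr', add_zero]
      zero_mem' := zero_smul A f
      smul_mem' := fun t r hr => by
        change (t • r) • f = 0
        rw [smul_eq_mul, mul_smul, hr, smul_zero] }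
  have h1 : (1 : A) ∈ I := by
    refine one_mem_of_cover S hcov I (fun j => ?_)
    obtain ⟨s, hs⟩ := locHom_inj (S := S j) X W hX hW f (h j)
    exact ⟨(s : A), s.2, hs⟩
  have h2 : (1 : A) • f = 0 := h1
  rwa [one_smul] at h2

end Glue

section Main

variable [IsNoetherianRing A] (K : Dual.D A) (hPC : DRing.IsPseudoCoherent' A K)
  (hBB : ∃ a : ℤ, ∀ j : ℤ, j < a → Subsingleton (Dual.HD A K j))
  (hloc : ∀ j, Dual.IsDualizing (Localization (S j)) ((LS (S j)).obj K))

include hcov hPC hBB hloc in
lemma ext_self_of_cover (i : ℤ) (hi : i ≠ 0) : Subsingleton (K ⟶ K⟦i⟧) := by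
  refine ⟨fun f g => ?_⟩
  suffices H : ∀ g : K ⟶ K⟦i⟧, g = 0 by rw [H f, H g]
  intro g
  refine eq_zero_of_cover S hcov K (K⟦i⟧) hPC (boundedBelow_shift' K hBB i) g (fun j => ?_)
  let c : (LS (S j)).obj (K⟦i⟧) ≅ ((LS (S j)).obj K)⟦i⟧ := ((LS (S j)).commShiftIso i).app K
  haveI := (hloc j).ext_self_subsingleton i hi
  have h1 : (LS (S j)).map g ≫ c.hom = 0 := Subsingleton.elim _ _
  rw [← cancel_mono c.hom, h1, Limits.zero_comp]

include hcov hloc in
lemma toEnd_injective_of_cover :
    Function.Injective (fun a : A => a • 𝟙 K) := by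
  intro a a' haa'
  have h0 : (a - a') • 𝟙 K = 0 := by
    rw [sub_smul, sub_eq_zero]
    exact haa'
  rw [← sub_eq_zero]
  set c := a - a' with hc
  have h1 : (1 : A) ∈ (Submodule.span A {c}).annihilator := by
    refine one_mem_of_cover S hcov _ (fun j => ?_)
    have h2 : (algebraMap A (Localization (S j)) c) • 𝟙 ((LS (S j)).obj K) = 0 := by
      have := LS_map_smul (S := S j) c (𝟙 K)
      rw [CategoryTheory.Functor.map_id] at this
      rw [← this, h0, Functor.map_zero]
    have h3 : algebraMap A (Localization (S j)) c = 0 := (hloc j).toEnd_bijective.1 (by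
      change (algebraMap A (Localization (S j)) c) • 𝟙 ((LS (S j)).obj K) =
        (0 : Localization (S j)) • 𝟙 ((LS (S j)).obj K)
      rw [h2, zero_smul])
    obtain ⟨s, hs⟩ := (IsLocalization.map_eq_zero_iff (S j)
      (Localization (S j)) c).1 h3
    refine ⟨(s : A), s.2, ?_⟩
    rw [Submodule.mem_annihilator_span_singleton]
    exact hs
  rw [Submodule.mem_annihilator_span_singleton, one_smul] at h1
  exact h1

include hcov hPC hBB hloc in
lemma toEnd_surjective_of_cover :
    Function.Surjective (fun a : A => a • 𝟙 K) := by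
  intro f
  let I : Ideal A :=
    { carrier := {r | ∃ a : A, r • f = a • 𝟙 K}
      add_mem' := fun {r r'} hr hr' => by
        obtain ⟨a, ha⟩ := hr
        obtain ⟨a', ha'⟩ := hr'
        exact ⟨a + a', by rw [add_smul, ha, ha', add_smul]⟩
      zero_mem' := ⟨0, by rw [zero_smul, zero_smul]⟩
      smul_mem' := fun t r hr => by
        obtain ⟨a, ha⟩ := hr
        exact ⟨t * a, by rw [smul_eq_mul, mul_smul, ha, mul_smul]⟩ }
  have h1 : (1 : A) ∈ I := by
    refine one_mem_of_cover S hcov I (fun j => ?_)
    obtain ⟨b, hb⟩ := (hloc j).toEnd_bijective.2 ((LS (S j)).map f)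
    have hb' : b • 𝟙 ((LS (S j)).obj K) = (LS (S j)).map f := hb
    obtain ⟨a, s, has⟩ := IsLocalization.exists_mk'_eq (S j) b
    have h2 : algebraMap A (Localization (S j)) a =
        b * algebraMap A (Localization (S j)) (s : A) := by
      rw [← has, IsLocalization.mk'_spec]
    have h3 : (LS (S j)).map ((s : A) • f - a • 𝟙 K) = 0 := by
      rw [Functor.map_sub, LS_map_smul, LS_map_smul, CategoryTheory.Functor.map_id, h2, ← hb',
        smul_smul, mul_comm, sub_self]
    obtain ⟨t, ht⟩ := locHom_inj (S := S j) K K hPC hBB _ h3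
    refine ⟨(t : A) * (s : A), (S j).mul_mem t.2 s.2, (t : A) * a, ?_⟩
    rw [smul_sub, sub_eq_zero, smul_smul, smul_smul] at ht
    exact ht
  obtain ⟨a, ha⟩ := h1
  refine ⟨a, ?_⟩
  change a • 𝟙 K = f
  rw [← ha, one_smul]

include hcov hPC hBB hloc in
/-- **gluing dualizing complexes along a cover by localizations** -/
theorem isDualizing_of_cover
    (hfin : ∀ i : ℤ, Module.Finite A (Dual.HD A K i))
    (hinj : ∃ a b : ℤ, ∀ (M : Type u) [AddCommGroup M] [Module A M] (i : ℤ),
      (i < a ∨ b < i) → Subsingleton (Dual.inD A M ⟶ K⟦i⟧)) :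
    Dual.IsDualizing A K where
  isNoetherianRing := inferInstance
  finite_injective_dimension := hinj
  finite_cohomology := hfin
  toEnd_bijective := ⟨toEnd_injective_of_cover S hcov K hloc,
    toEnd_surjective_of_cover S hcov K hPC hBB hloc⟩
  ext_self_subsingleton := ext_self_of_cover S hcov K hPC hBB hloc

include hcov hBB in
/-- vanishing of `Ext^i(M, K)` for finite `M` can be checked on a cover -/
lemma subsingleton_hom_finite_of_cover (i : ℤ)
    (h : ∀ j (N : Type u) [AddCommGroup N] [Module (Localization (S j)) N],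
      Subsingleton (Dual.inD (Localization (S j)) N ⟶ ((LS (S j)).obj K)⟦i⟧))
    (M : Type u) [AddCommGroup M] [Module A M] [Module.Finite A M] :
    Subsingleton (Dual.inD A M ⟶ K⟦i⟧) := by
  have hPC : DRing.IsPseudoCoherent' A (Dual.inD A M) :=
    (Groth.Agent.S6942.result A 0 K M).2.2 inferInstance
  refine ⟨fun f g => ?_⟩
  suffices H : ∀ g : Dual.inD A M ⟶ K⟦i⟧, g = 0 by rw [H f, H g]
  intro g
  refine eq_zero_of_cover S hcov _ _ hPC (boundedBelow_shift' K hBB i) g (fun j => ?_)
  let c : (LS (S j)).obj (K⟦i⟧) ≅ ((LS (S j)).obj K)⟦i⟧ := ((LS (S j)).commShiftIso i).app K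
  let ε : (LS (S j)).obj (Dual.inD A M) ≅
      Dual.inD (Localization (S j)) (TensorProduct A (Localization (S j)) M) :=
    extDInDIso (A := A) (B := Localization (S j)) M
  have h2 : Subsingleton ((LS (S j)).obj (Dual.inD A M) ⟶ ((LS (S j)).obj K)⟦i⟧) :=
    (ε.homFromEquiv (Z := ((LS (S j)).obj K)⟦i⟧)).subsingleton_congr.2 (h j _)
  have h3 : (LS (S j)).map g ≫ c.hom = 0 := Subsingleton.elim _ _
  rw [← cancel_mono c.hom, h3, Limits.zero_comp]

end Main

end Cover

section Away

variable [IsNoetherianRing A] {n : ℕ} (f : Fin n → A) (hf : Ideal.span (Set.range f) = ⊤)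
  (ω : Dual.D A)
  (hloc : ∀ i, Dual.IsDualizing (Localization (Submonoid.powers (f i)))
    ((LS (Submonoid.powers (f i))).obj ω))

include hf in
lemma hcov_away : ∀ (m : Ideal A) [m.IsMaximal], ∃ j, ∀ s ∈ Submonoid.powers (f j), s ∉ m := by
  intro m hm
  by_contra hcon
  push Not at hcon
  have h1 : Ideal.span (Set.range f) ≤ m := by
    rw [Ideal.span_le]
    rintro _ ⟨j, rfl⟩
    obtain ⟨s, ⟨k, rfl⟩, hs⟩ := hcon j
    exact hm.isPrime.mem_of_pow_mem k hs
  rw [hf] at h1
  exact hm.ne_top (top_le_iff.1 h1)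

include hf hloc in
/-- **dualizing complexes glue along a finite cover by basic opens** -/
theorem isDualizing_of_away_cover : Dual.IsDualizing A ω := by
  classical
  let S : Fin n → Submonoid A := fun j => Submonoid.powers (f j)
  have hcov := hcov_away f hf
  have hb : ∀ j, ∃ a b : ℤ, ∀ (N : Type u) [AddCommGroup N] [Module (Localization (S j)) N]
      (i : ℤ), (i < a ∨ b < i) →
        Subsingleton (Dual.inD (Localization (S j)) N ⟶ ((LS (S j)).obj ω)⟦i⟧) :=
    fun j => (hloc j).finite_injective_dimension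
  choose a b hab using hb
  obtain ⟨a₁, ha₁⟩ := (Finset.univ.image (fun j => - a j)).exists_le
  obtain ⟨b₀, hb₀⟩ := (Finset.univ.image b).exists_le
  set a₀ : ℤ := -a₁ with ha₀def
  have ha₀' : ∀ j, a₀ ≤ a j := fun j => by
    have := ha₁ _ (Finset.mem_image_of_mem (fun j => - a j) (Finset.mem_univ j))
    omega
  have hb₀' : ∀ j, b j ≤ b₀ := fun j => hb₀ _ (Finset.mem_image_of_mem _ (Finset.mem_univ j))
  have hHD : ∀ i : ℤ, (i < a₀ ∨ b₀ < i) → Subsingleton (Dual.HD A ω i) := by
    intro i hi
    refine subsingleton_of_cover_localizedModule S hcov _ (fun j => ?_)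
    have h1 : Subsingleton (Dual.HD (Localization (S j)) ((LS (S j)).obj ω) i) :=
      subsingleton_HD_of_subsingleton_hom _ i (hab j (Localization (S j)) i (by
        have := ha₀' j
        have := hb₀' j
        omega))
    exact (localizedHDEquiv (S j) ω i).toEquiv.subsingleton
  have hfin : ∀ i : ℤ, Module.Finite A (Dual.HD A ω i) := by
    intro i
    refine Module.Finite.of_localizationSpan (Set.range f) hf (fun g => ?_)
    obtain ⟨g, j, rfl⟩ := g
    haveI := (hloc j).finite_cohomology i
    exact Module.Finite.equiv (localizedHDEquiv (S j) ω i).symm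
  have hBB : ∃ a : ℤ, ∀ j : ℤ, j < a → Subsingleton (Dual.HD A ω j) :=
    ⟨a₀, fun j hj => hHD j (Or.inl hj)⟩
  have hPC : DRing.IsPseudoCoherent' A ω :=
    isPseudoCoherent'_of_finite ω hfin ⟨b₀, fun i hi => hHD i (Or.inr hi)⟩
  refine isDualizing_of_cover S hcov ω hPC hBB hloc hfin ⟨a₀, b₀, fun M _ _ i hi => ?_⟩
  rcases hi with hi | hi
  · exact subsingleton_hom_of_lt ω a₀ (fun j hj => hHD j (Or.inl hj)) M i hi
  · exact subsingleton_hom_of_cyclic ω i (fun I =>
      subsingleton_hom_finite_of_cover S hcov ω hBB i (fun j N _ _ => hab j N i (Or.inr (by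
        have := hb₀' j
        omega))) (A ⧸ I)) M

end Away

end Groth.Agent.Lib.H6xLoc
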