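import Mathlib
import Groth.Agent.Lib.H6xLocO
set_option backward.isDefEq.respectTransparency.types false

/-!
# The Cohen–Macaulay locus of a Noetherian ring with a dualizing complex is open and dense
(helper6)
-/

set_option autoImplicit false
set_option linter.style.haveILetI false
universe u

namespace Groth.Agent.Lib.H6xLoc

open CategoryTheory CategoryTheory.Limits DerivedCategory
open Groth.Agent.Lib.Helper1.Extend Groth.Agent.Lib.Helper1.LDer Groth.Agent.Lib.H6xRGam
open Groth.Agent.Lib.H6xDual Groth.Agent.Lib.H6xBid Groth.Agent.Lib.H6xDep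
attribute [local instance] HasDerivedCategory.standard

variable {A : Type u} [CommRing A]

section Local

variable {B : Type u} [CommRing B] [IsLocalRing B] [IsNoetherianRing B]

/-- over a Cohen–Macaulay local ring a dualizing complex is concentrated in one degree -/
theorem single_degree_of_isCohenMacaulayLocalRing (ω' : Dual.D B)
    (hω' : Dual.IsDualizing B ω') (hB : LocCoh.IsCohenMacaulayLocalRing B) :
    ∃ j₀ : ℤ, ∀ j : ℤ, j ≠ j₀ → Subsingleton (Dual.HD B ω' j) := by
  obtain ⟨d, hd⟩ := exists_nat_eq_ringKrullDim B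
  obtain ⟨n, hN, -⟩ := exists_normalizing_shift ω' hω'
  have hD := isDualizing_shift ω' hω' n
  have hsd : Module.supportDim B B = d := by
    rw [Module.supportDim_self_eq_ringKrullDim, hd]
  have hcm : LocCoh.IsCohenMacaulayModule B B := hB.supportDim_eq_depth
  rw [cohenMacaulay_iff_ext _ hD hN B d hsd] at hcm
  refine ⟨n + -(d : ℤ), fun j hj => ?_⟩
  have h1 := hcm (n - j) (by omega)
  obtain ⟨e⟩ := nonempty_hom_linearEquiv_HD (ω'⟦n⟧) (-(n - j))
  haveI : Subsingleton (Dual.HD B (ω'⟦n⟧) (-(n - j))) := e.symm.toEquiv.subsingleton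
  exact (HDShiftEquiv ω' n (-(n - j)) j (by omega)).symm.toEquiv.subsingleton

end Local

section Main

variable [IsNoetherianRing A] (ω : Dual.D A) (hω : Dual.IsDualizing A ω)

include hω in
/-- `A_p` is Cohen–Macaulay iff `ω_p` has cohomology in a single degree -/
theorem isCohenMacaulayLocalRing_atPrime_iff (p : PrimeSpectrum A) :
    LocCoh.IsCohenMacaulayLocalRing (Localization.AtPrime p.asIdeal) ↔
      ∃ j₀ : ℤ, ∀ j : ℤ, j ≠ j₀ → p ∉ Module.support A (Dual.HD A ω j) := by
  have hD := isDualizing_LS p.asIdeal.primeCompl ω hω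
  constructor
  · intro h
    obtain ⟨j₀, hj₀⟩ := single_degree_of_isCohenMacaulayLocalRing _ hD h
    refine ⟨j₀, fun j hj => ?_⟩
    rw [Module.notMem_support_iff]
    haveI := hj₀ j hj
    exact (localizedHDEquiv p.asIdeal.primeCompl ω j).toEquiv.subsingleton
  · rintro ⟨j₀, hj₀⟩
    refine isCohenMacaulayLocalRing_of_single_degree _ hD j₀ (fun j hj => ?_)
    have h1 := hj₀ j hj
    rw [Module.notMem_support_iff] at h1
    exact (localizedHDEquiv p.asIdeal.primeCompl ω j).symm.toEquiv.subsingleton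

include hω in
/-- **S0372**: the Cohen–Macaulay locus is open and dense -/
theorem isOpen_and_dense_cohenMacaulay_locus :
    IsOpen {p : PrimeSpectrum A |
      LocCoh.IsCohenMacaulayLocalRing (Localization.AtPrime p.asIdeal)} ∧
    Dense {p : PrimeSpectrum A |
      LocCoh.IsCohenMacaulayLocalRing (Localization.AtPrime p.asIdeal)} := by
  classical
  obtain ⟨a, b, hab⟩ := hbdd_of_hinj ω hω.finite_injective_dimension
  have hfin := hω.finite_cohomology
  constructor
  · rw [isOpen_iff_forall_mem_open]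
    intro p hp
    obtain ⟨j₀, hj₀⟩ := (isCohenMacaulayLocalRing_atPrime_iff ω hω p).1 hp
    let V : Set (PrimeSpectrum A) :=
      ⋂ j ∈ (Finset.Icc a b).erase j₀, (Module.support A (Dual.HD A ω j))ᶜ
    refine ⟨V, ?_, ?_, ?_⟩
    · intro q hq
      refine (isCohenMacaulayLocalRing_atPrime_iff ω hω q).2 ⟨j₀, fun j hj => ?_⟩
      by_cases hjab : j ∈ Finset.Icc a b
      · have h1 : q ∈ (Module.support A (Dual.HD A ω j))ᶜ :=
          Set.mem_iInter₂.1 hq j (Finset.mem_erase.2 ⟨hj, hjab⟩)
        exact h1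
      · rw [Finset.mem_Icc] at hjab
        haveI := hab j (by omega)
        rw [Module.notMem_support_iff]
        infer_instance
    · apply Set.Finite.isOpen_biInter (Finset.finite_toSet _)
      intro j _
      haveI := hfin j
      exact (Module.isClosed_support (R := A) (M := Dual.HD A ω j)).isOpen_compl
    · exact Set.mem_iInter₂.2 (fun j hj => hj₀ j (Finset.mem_erase.1 hj).1)
  · rw [dense_iff_inter_open]
    rintro V hV ⟨p, hp⟩
    obtain ⟨q, hq, hqp⟩ := Ideal.exists_minimalPrimes_le (bot_le : (⊥ : Ideal A) ≤ p.asIdeal)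
    haveI : q.IsPrime := hq.1.1
    have hqV : (⟨q, hq.1.1⟩ : PrimeSpectrum A) ∈ V := by
      have hs : (⟨q, hq.1.1⟩ : PrimeSpectrum A) ⤳ p :=
        (PrimeSpectrum.le_iff_specializes _ _).1 hqp
      exact hs.mem_open hV hp
    refine ⟨⟨q, hq.1.1⟩, hqV, ?_⟩
    obtain ⟨j₀, hj₀, hj₀'⟩ := existsUnique_nontrivial_localized_HD ω hω q hq
    refine (isCohenMacaulayLocalRing_atPrime_iff ω hω ⟨q, hq.1.1⟩).2 ⟨j₀, fun j hj => ?_⟩
    rw [Module.notMem_support_iff]
    by_contra hcon
    rw [not_subsingleton_iff_nontrivial] at hcon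
    exact hj (hj₀' j hcon)

end Main

end Groth.Agent.Lib.H6xLoc
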