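import Mathlib
import Groth.Agent.Lib.H6xLocP
set_option backward.isDefEq.respectTransparency.types false

/-!
# The dimension function of a dualizing complex (helper6)

For a dualizing complex `ω` over a Noetherian ring `A` and a prime `p` there is exactly one degree
`n(p)` with `p ∈ Supp Ext^{n(p)}(A/p, ω)`, and `n(p) + 1 = n(q)` whenever `q` covers `p`.
-/

set_option autoImplicit false
set_option linter.style.haveILetI false
universe u

namespace Groth.Agent.Lib.H6xDimFn

open CategoryTheory CategoryTheory.Limits Category Pretriangulated DerivedCategory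
open Groth.Agent.Lib.Helper1.Extend Groth.Agent.Lib.Helper1.LDer Groth.Agent.Lib.H6xRGam
open Groth.Agent.Lib.H6xDual Groth.Agent.Lib.H6xBid Groth.Agent.Lib.H6xDep Groth.Agent.Lib.H6xLoc
open Groth.Agent.Lib.H6xCoext
attribute [local instance] HasDerivedCategory.standard

variable {A : Type u} [CommRing A]

section Tors

variable (S : Submonoid A)

/-- torsion version of `exists_extension` -/
lemma exists_extension_tors {Sc : ShortComplex (ModuleCat.{u} A)} (hS : Sc.ShortExact)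
    (Y : Dual.D A)
    (h₃ : ∀ h : sg Sc.X₃ ⟶ Y⟦(1 : ℤ)⟧, ∃ s : S, (s : A) • h = 0) (f : sg Sc.X₁ ⟶ Y) :
    ∃ (s : S) (g : sg Sc.X₂ ⟶ Y),
      (s : A) • f = (DerivedCategory.singleFunctor (ModuleCat.{u} A) 0).map Sc.f ≫ g := by
  have hT := inv_rot_of_distTriang _ hS.singleTriangle_distinguished
  let m₁ : (sg Sc.X₃)⟦(-1 : ℤ)⟧ ⟶ sg Sc.X₁ := hS.singleTriangle.invRotate.mor₁
  obtain ⟨s, hs⟩ := h₃ (shiftHomLinearEquiv (sg Sc.X₃) Y 1 (m₁ ≫ f))
  have h0 : m₁ ≫ ((s : A) • f) = 0 := by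
    rw [Linear.comp_smul]
    apply (shiftHomLinearEquiv (sg Sc.X₃) Y 1).injective
    rw [map_smul, hs, map_zero]
  obtain ⟨g, hg⟩ := Triangle.yoneda_exact₂ _ hT ((s : A) • f) h0
  exact ⟨s, g, hg⟩

/-- if `Hom(A/(p + xA), Y⟦1⟧)` is `S`-torsion for `x ∉ p`, then every morphism `A/p ⟶ Y` is
divisible by `x` up to `S` -/
lemma exists_smul_eq_smul (p : Ideal A) [p.IsPrime] (x : A) (hxp : x ∉ p) (Y : Dual.D A)
    (h : ∀ h : Dual.inD A (A ⧸ (p ⊔ Ideal.span {x})) ⟶ Y⟦(1 : ℤ)⟧, ∃ s : S, (s : A) • h = 0)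
    (f : Dual.inD A (A ⧸ p) ⟶ Y) :
    ∃ (s : S) (g : Dual.inD A (A ⧸ p) ⟶ Y), (s : A) • f = x • g := by
  let mx : (A ⧸ p) →ₗ[A] (A ⧸ p) := LinearMap.lsmul A (A ⧸ p) x
  let q : (A ⧸ p) →ₗ[A] (A ⧸ (p ⊔ Ideal.span {x})) :=
    Submodule.mapQ p (p ⊔ Ideal.span {x}) LinearMap.id (by
      intro y hy
      exact Ideal.mem_sup_left hy)
  have hinj : Function.Injective mx := by
    rw [injective_iff_map_eq_zero]
    intro y hy
    obtain ⟨y, rfl⟩ := Ideal.Quotient.mk_surjective y
    have h1 : Ideal.Quotient.mk p (x * y) = 0 := by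
      rw [map_mul]
      exact hy
    rw [Ideal.Quotient.eq_zero_iff_mem] at h1 ⊢
    exact (Ideal.IsPrime.mem_or_mem inferInstance h1).resolve_left hxp
  have hsurj : Function.Surjective q := by
    intro y
    obtain ⟨y, rfl⟩ := Ideal.Quotient.mk_surjective y
    exact ⟨Ideal.Quotient.mk p y, rfl⟩
  have hex : Function.Exact mx q := by
    intro y
    obtain ⟨y, rfl⟩ := Ideal.Quotient.mk_surjective y
    change Ideal.Quotient.mk (p ⊔ Ideal.span {x}) y = 0 ↔ _
    rw [Ideal.Quotient.eq_zero_iff_mem, Submodule.mem_sup]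
    constructor
    · rintro ⟨b, hb, c, hc, rfl⟩
      obtain ⟨d, rfl⟩ := Ideal.mem_span_singleton'.1 hc
      refine ⟨Ideal.Quotient.mk p d, ?_⟩
      change x • Ideal.Quotient.mk p d = _
      rw [map_add, Ideal.Quotient.eq_zero_iff_mem.2 hb, zero_add, map_mul, mul_comm]
      rfl
    · rintro ⟨z, hz⟩
      obtain ⟨z, rfl⟩ := Ideal.Quotient.mk_surjective z
      have h1 : Ideal.Quotient.mk p (x * z) = Ideal.Quotient.mk p y := by
        rw [map_mul]
        exact hz
      rw [Ideal.Quotient.eq] at h1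
      refine ⟨y - x * z, ?_, x * z, Ideal.mem_span_singleton'.2 ⟨z, mul_comm z x⟩, by ring⟩
      have h2 : y - x * z = -(x * z - y) := by ring
      rw [h2]
      exact neg_mem h1
  have hS := shortExact_of_exact mx q hinj hsurj hex
  obtain ⟨s, g, hg⟩ := exists_extension_tors S hS Y h f
  refine ⟨s, g, ?_⟩
  have h1 : (ModuleCat.ofHom mx : ModuleCat.of A (A ⧸ p) ⟶ ModuleCat.of A (A ⧸ p)) =
      x • 𝟙 _ := by
    apply ModuleCat.hom_ext
    apply LinearMap.ext
    intro y
    rfl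
  change (s : A) • f =
    (DerivedCategory.singleFunctor (ModuleCat.{u} A) 0).map (ModuleCat.ofHom mx) ≫ g at hg
  rw [hg, h1, Functor.map_smul, CategoryTheory.Functor.map_id, Linear.smul_comp, id_comp]

end Tors

section FL

variable [IsNoetherianRing A]

/-- for `p ⋖ q` and `x ∈ q ∖ p`, `A_q / (p + xA) A_q` has finite length -/
theorem isFiniteLength_of_covBy (p q : PrimeSpectrum A) (hpq : p ⋖ q) (x : A)
    (hxq : x ∈ q.asIdeal) (hxp : x ∉ p.asIdeal) :
    IsFiniteLength (Localization.AtPrime q.asIdeal)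
      (Localization.AtPrime q.asIdeal ⧸
        (p.asIdeal ⊔ Ideal.span {x}).map (algebraMap A (Localization.AtPrime q.asIdeal))) := by
  set B := Localization.AtPrime q.asIdeal with hB
  set I := p.asIdeal ⊔ Ideal.span {x} with hI
  set J := I.map (algebraMap A B) with hJ
  have hIq : I ≤ q.asIdeal :=
    sup_le hpq.lt.le ((Ideal.span_singleton_le_iff_mem _).2 hxq)
  have hcm : (IsLocalRing.maximalIdeal B).comap (algebraMap A B) = q.asIdeal :=
    IsLocalization.AtPrime.under_maximalIdeal B q.asIdeal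
  have hmin : IsLocalRing.maximalIdeal B ∈ J.minimalPrimes := by
    refine ⟨⟨inferInstance, ?_⟩, ?_⟩
    · rw [hJ, Ideal.map_le_iff_le_comap, hcm]
      exact hIq
    · rintro r ⟨hr, hJr⟩ hrm
      haveI := hr
      let r₀ : PrimeSpectrum A := ⟨r.comap (algebraMap A B), inferInstance⟩
      have h1 : I ≤ r₀.asIdeal := Ideal.map_le_iff_le_comap.1 hJr
      have h2 : r₀ ≤ q := by
        change r.comap (algebraMap A B) ≤ q.asIdeal
        exact le_trans (Ideal.comap_mono hrm) hcm.le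
      have h3 : p < r₀ := by
        refine lt_of_le_of_ne (show p.asIdeal ≤ r₀.asIdeal from le_trans le_sup_left h1) ?_
        intro h4
        apply hxp
        rw [h4]
        exact h1 (Ideal.mem_sup_right (Ideal.mem_span_singleton_self x))
      have h4 : r₀ = q := by
        by_contra hne
        exact hpq.2 h3 (lt_of_le_of_ne h2 hne)
      have h5 : IsLocalRing.maximalIdeal B = q.asIdeal.map (algebraMap A B) :=
        (Localization.AtPrime.map_eq_maximalIdeal (I := q.asIdeal)).symm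
      have h6 : q.asIdeal = r.comap (algebraMap A B) := congrArg PrimeSpectrum.asIdeal h4.symm
      rw [h5]
      exact (Ideal.map_mono h6.le).trans Ideal.map_comap_le
  haveI : IsArtinianRing (B ⧸ J) :=
    IsLocalRing.quotient_artinian_of_mem_minimalPrimes_of_isLocalRing J hmin
  rw [isFiniteLength_iff_isNoetherian_isArtinian]
  exact ⟨isNoetherian_quotient J,
    isArtinian_of_surjective_algebraMap (Ideal.Quotient.mk_surjective (I := J))⟩

end FL

section Main

variable [IsNoetherianRing A] (ω : Dual.D A) (hω : Dual.IsDualizing A ω)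

include hω in
/-- for every prime `p` there is exactly one degree `n` with `p ∈ Supp Ext^n(A/p, ω)` -/
theorem exists_degree (p : PrimeSpectrum A) :
    ∃ n : ℤ, (∀ i : ℤ, i ≠ n →
        Subsingleton (Dual.inD (Localization.AtPrime p.asIdeal)
          (IsLocalRing.ResidueField (Localization.AtPrime p.asIdeal)) ⟶
            ((Lp p.asIdeal).obj ω)⟦i⟧)) ∧
      ∀ i : ℤ, p ∈ Module.support A (Dual.inD A (A ⧸ p.asIdeal) ⟶ ω⟦i⟧) ↔ i = n := by
  set B := Localization.AtPrime p.asIdeal with hB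
  obtain ⟨n, hn1, ⟨en⟩⟩ := ext_residueField_single_degree B ((Lp p.asIdeal).obj ω)
    (isDualizing_LS p.asIdeal.primeCompl ω hω) (IsLocalRing.maximalIdeal B)
  refine ⟨n, hn1, fun i => ?_⟩
  have h1 := subsingleton_hom_residue_iff p.asIdeal ω hω i
  constructor
  · intro hi
    by_contra hne
    exact (h1.1 (hn1 i hne)) hi
  · rintro rfl
    by_contra hne
    have h2 := h1.2 hne
    haveI : Nontrivial (B ⧸ IsLocalRing.maximalIdeal B) :=
      Ideal.Quotient.nontrivial_iff.2 (IsLocalRing.maximalIdeal.isMaximal B).ne_top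
    haveI : Nontrivial (Dual.inD B (IsLocalRing.ResidueField B) ⟶
        ((Lp p.asIdeal).obj ω)⟦i⟧) := en.toEquiv.nontrivial
    exact not_subsingleton _ h2

include hω in
/-- for `p ⋖ q`, `q ∉ Supp Ext^j(A/p, ω)` unless `j + 1` is the degree of `q` -/
theorem notMem_support_of_covBy (p q : PrimeSpectrum A) (hpq : p ⋖ q) (n : ℤ)
    (hn : ∀ i : ℤ, i ≠ n →
      Subsingleton (Dual.inD (Localization.AtPrime q.asIdeal)
        (IsLocalRing.ResidueField (Localization.AtPrime q.asIdeal)) ⟶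
          ((Lp q.asIdeal).obj ω)⟦i⟧))
    (j : ℤ) (hj : j + 1 ≠ n) :
    q ∉ Module.support A (Dual.inD A (A ⧸ p.asIdeal) ⟶ ω⟦j⟧) := by
  obtain ⟨x, hxq, hxp⟩ : ∃ x ∈ q.asIdeal, x ∉ p.asIdeal := SetLike.exists_of_lt hpq.lt
  set I := p.asIdeal ⊔ Ideal.span {x} with hI
  set B := Localization.AtPrime q.asIdeal with hB
  have hFL := isFiniteLength_of_covBy p q hpq x hxq hxp
  have h1 : Subsingleton (Dual.inD B (B ⧸ I.map (algebraMap A B)) ⟶
      ((Lp q.asIdeal).obj ω)⟦j + 1⟧) :=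
    subsingleton_hom_of_isFiniteLength _ (hn (j + 1) hj) _ hFL
  have h2 : ∀ f : Dual.inD A (A ⧸ I) ⟶ ω⟦j + 1⟧, ∃ s : q.asIdeal.primeCompl, (s : A) • f = 0 :=
    (subsingleton_locExt_iff' q.asIdeal.primeCompl ω hω (A ⧸ I) (j + 1) _
      ((Algebra.TensorProduct.quotIdealMapEquivTensorQuot B I).symm.toLinearEquiv)).1 h1
  have h3 : ∀ f : Dual.inD A (A ⧸ I) ⟶ (ω⟦j⟧)⟦(1 : ℤ)⟧,
      ∃ s : q.asIdeal.primeCompl, (s : A) • f = 0 := by
    intro f
    let c := (shiftFunctorAdd' (Dual.D A) j 1 (j + 1) rfl).app ω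
    obtain ⟨s, hs⟩ := h2 (f ≫ c.inv)
    refine ⟨s, ?_⟩
    rw [← cancel_mono c.inv, Linear.smul_comp, hs, zero_comp]
  haveI := p.2
  have h4 : ∀ f : Dual.inD A (A ⧸ p.asIdeal) ⟶ ω⟦j⟧,
      ∃ (s : q.asIdeal.primeCompl) (g : Dual.inD A (A ⧸ p.asIdeal) ⟶ ω⟦j⟧),
        (s : A) • f = x • g :=
    exists_smul_eq_smul q.asIdeal.primeCompl p.asIdeal x hxp (ω⟦j⟧) h3
  obtain ⟨a, b, hab⟩ := hω.finite_injective_dimension
  have hKa : ∀ j : ℤ, j < a → Subsingleton (Dual.HD A ω j) := fun j hj =>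
    subsingleton_HD_of_subsingleton_hom ω j (hab A j (Or.inl hj))
  haveI hfin : Module.Finite A (Dual.inD A (A ⧸ p.asIdeal) ⟶ ω⟦j⟧) :=
    finite_hom_inD_shift (ModuleCat.of A (A ⧸ p.asIdeal)) ω a hKa hω.finite_cohomology j
  rw [Module.notMem_support_iff]
  set E := (Dual.inD A (A ⧸ p.asIdeal) ⟶ ω⟦j⟧) with hE
  have hxm : algebraMap A B x ∈ IsLocalRing.maximalIdeal B :=
    (IsLocalization.AtPrime.to_map_mem_maximal_iff B q.asIdeal x).2 hxq
  have htop : (⊤ : Submodule B (LocalizedModule q.asIdeal.primeCompl E)) = ⊥ := by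
    refine Submodule.eq_bot_of_le_smul_of_le_jacobson_bot (IsLocalRing.maximalIdeal B) ⊤
      Module.Finite.fg_top ?_ ?_
    · intro y _
      induction y using LocalizedModule.induction_on with
      | h f s =>
        obtain ⟨t, g, htg⟩ := h4 f
        have h5 : LocalizedModule.mk f s =
            algebraMap A B x • LocalizedModule.mk g (t * s) := by
          rw [algebraMap_smul, LocalizedModule.smul'_mk, ← htg]
          exact (LocalizedModule.mk_cancel_common_left t s f).symm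
        rw [h5]
        exact Submodule.smul_mem_smul hxm Submodule.mem_top
    · rw [IsLocalRing.jacobson_eq_maximalIdeal ⊥ bot_ne_top]
  refine ⟨fun y y' => ?_⟩
  have hy : y ∈ (⊤ : Submodule B (LocalizedModule q.asIdeal.primeCompl E)) := Submodule.mem_top
  have hy' : y' ∈ (⊤ : Submodule B (LocalizedModule q.asIdeal.primeCompl E)) := Submodule.mem_top
  rw [htop, Submodule.mem_bot] at hy hy'
  rw [hy, hy']

include hω in
/-- **the dimension function of a dualizing complex** -/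
theorem exists_dimension_function :
    ∃ δ : PrimeSpectrum A → ℤ,
      (∀ (p : PrimeSpectrum A) (i : ℤ),
        p ∈ Module.support A (Dual.inD A (A ⧸ p.asIdeal) ⟶ ω⟦i⟧) ↔ i = -δ p) ∧
      ∀ p q : PrimeSpectrum A, p ⋖ q → δ p = δ q + 1 := by
  choose n hn1 hn2 using exists_degree ω hω
  refine ⟨fun p => -n p, fun p i => ?_, fun p q hpq => ?_⟩
  · rw [hn2 p i, neg_neg]
  · have h1 : p ∈ Module.support A (Dual.inD A (A ⧸ p.asIdeal) ⟶ ω⟦n p⟧) := (hn2 p (n p)).2 rfl
    have h2 : q ∈ Module.support A (Dual.inD A (A ⧸ p.asIdeal) ⟶ ω⟦n p⟧) :=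
      Module.mem_support_mono hpq.lt.le h1
    have h3 : n p + 1 = n q := by
      by_contra hne
      exact notMem_support_of_covBy ω hω p q hpq (n q) (hn1 q) (n p) hne h2
    change -n p = -n q + 1
    omega

end Main

end Groth.Agent.Lib.H6xDimFn
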