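import Mathlib
import Groth.Agent.Lib.H6xDimFnA
set_option backward.isDefEq.respectTransparency.types false

/-!
# The Cohen–Macaulay locus of a finite module over a ring with a dualizing complex (helper6)
-/

set_option autoImplicit false
set_option linter.style.haveILetI false
universe u

namespace Groth.Agent.Lib.H6xDimFn

open CategoryTheory CategoryTheory.Limits Category Pretriangulated DerivedCategory
open Groth.Agent.Lib.Helper1.Extend Groth.Agent.Lib.Helper1.LDer Groth.Agent.Lib.H6xRGam
open Groth.Agent.Lib.H6xDual Groth.Agent.Lib.H6xBid Groth.Agent.Lib.H6xDep Groth.Agent.Lib.H6xLoc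
open Groth.Agent.Lib.H6xCoext
attribute [local instance] HasDerivedCategory.standard

variable {A : Type u} [CommRing A]

/-- `Hom(X, Y⟦c⟧) ≃ Hom(X, Y⟦a⟧⟦b⟧)` for `a + b = c` -/
noncomputable def shiftAddHomEquiv (X Y : Dual.D A) (a b c : ℤ) (h : a + b = c) :
    (X ⟶ Y⟦c⟧) ≃ (X ⟶ (Y⟦a⟧)⟦b⟧) :=
  ((shiftFunctorAdd' (Dual.D A) a b c h).app Y).homToEquiv (Z := X)

section Local

variable {B : Type u} [CommRing B] [IsLocalRing B] [IsNoetherianRing B]

/-- a nonzero finite module over a Noetherian local ring with a dualizing complex is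
Cohen–Macaulay iff `Ext^j(N, ω')` is nonzero for at most one `j` -/
theorem isCohenMacaulayModule_iff_single_ext (ω' : Dual.D B) (hω' : Dual.IsDualizing B ω')
    (N : Type u) [AddCommGroup N] [Module B N] [Module.Finite B N] [Nontrivial N] :
    LocCoh.IsCohenMacaulayModule B N ↔
      ∃ j₀ : ℤ, ∀ j : ℤ, j ≠ j₀ → Subsingleton (Dual.inD B N ⟶ ω'⟦j⟧) := by
  obtain ⟨n, hN, -⟩ := exists_normalizing_shift ω' hω'
  have hD := isDualizing_shift ω' hω' n
  obtain ⟨d, hd⟩ : ∃ d : ℕ, Module.supportDim B N = d := by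
    have h1 : Module.supportDim B N ≠ ⊥ := Module.supportDim_ne_bot_of_nontrivial B N
    have h2 : Module.supportDim B N ≠ ⊤ := by
      intro h
      have h3 := Module.supportDim_le_ringKrullDim B N
      rw [h, top_le_iff] at h3
      exact (ringKrullDim_lt_top (R := B)).ne h3
    obtain ⟨x, hx⟩ := WithBot.ne_bot_iff_exists.1 h1
    have hx' : x ≠ ⊤ := by
      intro h
      apply h2
      rw [← hx, h]
      rfl
    obtain ⟨d, hd⟩ := ENat.ne_top_iff_exists.1 hx'
    exact ⟨d, by rw [← hx, ← hd]; rfl⟩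
  rw [cohenMacaulay_iff_ext _ hD hN N d hd]
  constructor
  · intro h
    refine ⟨n + -(d : ℤ), fun j hj => ?_⟩
    have h1 := h (n - j) (by omega)
    exact (shiftAddHomEquiv (Dual.inD B N) ω' n (-(n - j)) j (by omega)).subsingleton_congr.2 h1
  · rintro ⟨j₀, hj₀⟩ i hi
    have h1 := nontrivial_ext_neg_supportDim _ hD hN N d hd
    have h2 : n + -(d : ℤ) = j₀ := by
      by_contra hne
      have h3 := hj₀ _ hne
      exact not_subsingleton _
        ((shiftAddHomEquiv (Dual.inD B N) ω' n (-(d : ℤ)) _ rfl).subsingleton_congr.1 h3)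
    exact (shiftAddHomEquiv (Dual.inD B N) ω' n (-i) _ rfl).subsingleton_congr.1
      (hj₀ _ (by omega))

end Local

section Global

variable [IsNoetherianRing A] (ω : Dual.D A) (hω : Dual.IsDualizing A ω)
  (M : Type u) [AddCommGroup M] [Module A M] [Module.Finite A M]

include hω in
/-- `p ∉ Supp Ext^j(M, ω)` iff `Ext^j(M_p, ω_p) = 0` -/
theorem notMem_support_hom_iff (p : PrimeSpectrum A) (j : ℤ) :
    p ∉ Module.support A (Dual.inD A M ⟶ ω⟦j⟧) ↔
      Subsingleton (Dual.inD (Localization.AtPrime p.asIdeal)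
        (LocalizedModule p.asIdeal.primeCompl M) ⟶ ((Lp p.asIdeal).obj ω)⟦j⟧) := by
  rw [subsingleton_locExt_iff' p.asIdeal.primeCompl ω hω M j _
    (LocalizedModule.equivTensorProduct p.asIdeal.primeCompl M).symm,
    Module.notMem_support_iff']
  constructor
  · intro h f
    obtain ⟨r, hr, hrf⟩ := h f
    exact ⟨⟨r, hr⟩, hrf⟩
  · intro h f
    obtain ⟨s, hs⟩ := h f
    exact ⟨s, s.2, hs⟩

include hω in
/-- `M_p` is zero or Cohen–Macaulay iff `p ∈ Supp Ext^j(M, ω)` for at most one `j` -/
theorem subsingleton_or_isCohenMacaulayModule_iff (p : PrimeSpectrum A) :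
    (Subsingleton (LocalizedModule p.asIdeal.primeCompl M) ∨
      LocCoh.IsCohenMacaulayModule (Localization.AtPrime p.asIdeal)
        (LocalizedModule p.asIdeal.primeCompl M)) ↔
      ∃ j₀ : ℤ, ∀ j : ℤ, j ≠ j₀ → p ∉ Module.support A (Dual.inD A M ⟶ ω⟦j⟧) := by
  have hD := isDualizing_LS p.asIdeal.primeCompl ω hω
  rcases subsingleton_or_nontrivial (LocalizedModule p.asIdeal.primeCompl M) with hs | hnt
  · constructor
    · intro _
      refine ⟨0, fun j _ => ?_⟩
      rw [notMem_support_hom_iff ω hω M p j]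
      exact subsingleton_hom_of_subsingleton _ _
    · intro _
      exact Or.inl hs
  · rw [← not_nontrivial_iff_subsingleton]
    constructor
    · rintro (h | h)
      · exact (h hnt).elim
      · obtain ⟨j₀, hj₀⟩ := (isCohenMacaulayModule_iff_single_ext _ hD _).1 h
        exact ⟨j₀, fun j hj => (notMem_support_hom_iff ω hω M p j).2 (hj₀ j hj)⟩
    · rintro ⟨j₀, hj₀⟩
      right
      exact (isCohenMacaulayModule_iff_single_ext _ hD _).2
        ⟨j₀, fun j hj => (notMem_support_hom_iff ω hω M p j).1 (hj₀ j hj)⟩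

include hω in
/-- the locus where `M_p` is zero or Cohen–Macaulay is open -/
theorem isOpen_cohenMacaulay_locus_module :
    IsOpen {p : PrimeSpectrum A | Subsingleton (LocalizedModule p.asIdeal.primeCompl M) ∨
      LocCoh.IsCohenMacaulayModule (Localization.AtPrime p.asIdeal)
        (LocalizedModule p.asIdeal.primeCompl M)} := by
  classical
  obtain ⟨a, b, hab⟩ := hω.finite_injective_dimension
  have hKa : ∀ j : ℤ, j < a → Subsingleton (Dual.HD A ω j) := fun j hj =>
    subsingleton_HD_of_subsingleton_hom ω j (hab A j (Or.inl hj))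
  have hfin : ∀ j : ℤ, Module.Finite A (Dual.inD A M ⟶ ω⟦j⟧) := fun j =>
    finite_hom_inD_shift (ModuleCat.of A M) ω a hKa hω.finite_cohomology j
  rw [isOpen_iff_forall_mem_open]
  intro p hp
  obtain ⟨j₀, hj₀⟩ := (subsingleton_or_isCohenMacaulayModule_iff ω hω M p).1 hp
  let V : Set (PrimeSpectrum A) :=
    ⋂ j ∈ (Finset.Icc a b).erase j₀, (Module.support A (Dual.inD A M ⟶ ω⟦j⟧))ᶜ
  refine ⟨V, ?_, ?_, ?_⟩
  · intro q hq
    refine (subsingleton_or_isCohenMacaulayModule_iff ω hω M q).2 ⟨j₀, fun j hj => ?_⟩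
    by_cases hjab : j ∈ Finset.Icc a b
    · have h1 : q ∈ (Module.support A (Dual.inD A M ⟶ ω⟦j⟧))ᶜ :=
        Set.mem_iInter₂.1 hq j (Finset.mem_erase.2 ⟨hj, hjab⟩)
      exact h1
    · rw [Finset.mem_Icc] at hjab
      haveI := hab M j (by omega)
      rw [Module.notMem_support_iff]
      infer_instance
  · apply Set.Finite.isOpen_biInter (Finset.finite_toSet _)
    intro j _
    haveI := hfin j
    exact (Module.isClosed_support (R := A) (M := (Dual.inD A M ⟶ ω⟦j⟧))).isOpen_compl
  · exact Set.mem_iInter₂.2 (fun j hj => hj₀ j (Finset.mem_erase.1 hj).1)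

end Global

section Dev

variable (q : PrimeSpectrum A) (Y : Dual.D A)

/-- every morphism `N ⟶ Y` is killed by an element outside `q` -/
def TorsAt (N : Type u) [AddCommGroup N] [Module A N] : Prop :=
  ∀ f : Dual.inD A N ⟶ Y, ∃ s : A, s ∉ q.asIdeal ∧ s • f = 0

lemma torsAt_of_linearEquiv {N N' : Type u} [AddCommGroup N] [Module A N] [AddCommGroup N']
    [Module A N'] (e : N ≃ₗ[A] N') (h : TorsAt q Y N') : TorsAt q Y N := by
  intro f
  let ε := (DerivedCategory.singleFunctor (ModuleCat.{u} A) 0).mapIso e.toModuleIso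
  obtain ⟨s, hs, hsf⟩ := h (ε.inv ≫ f)
  refine ⟨s, hs, ?_⟩
  have h1 : s • f = ε.hom ≫ (s • (ε.inv ≫ f)) := by
    rw [Linear.comp_smul, Iso.hom_inv_id_assoc]
  rw [h1, hsf, comp_zero]

lemma torsAt_mid {S : ShortComplex (ModuleCat.{u} A)} (hS : S.ShortExact)
    (h₁ : TorsAt q Y S.X₁) (h₃ : TorsAt q Y S.X₃) : TorsAt q Y S.X₂ := by
  intro f
  obtain ⟨s, hs, hsf⟩ := h₁ ((DerivedCategory.singleFunctor (ModuleCat.{u} A) 0).map S.f ≫ f)
  have h1 : (DerivedCategory.singleFunctor (ModuleCat.{u} A) 0).map S.f ≫ (s • f) = 0 := by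
    rw [Linear.comp_smul]
    exact hsf
  obtain ⟨g, hg⟩ := exists_of_comp_eq_zero hS Y (s • f) h1
  obtain ⟨t, ht, htg⟩ := h₃ g
  refine ⟨t * s, q.2.mul_notMem ht hs, ?_⟩
  rw [mul_smul, hg, ← Linear.comp_smul, htg, comp_zero]

lemma torsAt_of_subsingleton (N : Type u) [AddCommGroup N] [Module A N] [Subsingleton N] :
    TorsAt q Y N := by
  intro f
  haveI := subsingleton_hom_of_subsingleton N Y
  exact ⟨1, fun h => q.2.ne_top ((Ideal.eq_top_iff_one _).2 h), Subsingleton.elim _ _⟩

variable [IsNoetherianRing A]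

/-- dévissage: if `q` is minimal in the support of `N` and `TorsAt` holds for `A/q`, it holds for
`N` -/
theorem torsAt_of_minimal (hq : TorsAt q Y (A ⧸ q.asIdeal))
    (N : Type u) [AddCommGroup N] [Module A N] [hN : Module.Finite A N]
    (hmin : ∀ r ∈ Module.support A N, r ≤ q → r = q) : TorsAt q Y N := by
  induction hN using IsNoetherianRing.induction_on_isQuotientEquivQuotientPrime A with
  | subsingleton N => exact torsAt_of_subsingleton q Y N
  | quotient N r e =>
    apply torsAt_of_linearEquiv q Y e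
    by_cases hrq : r ≤ q
    · have h1 : r ∈ Module.support A N := by
        rw [e.support_eq, Module.support_eq_zeroLocus, Ideal.annihilator_quotient,
          PrimeSpectrum.mem_zeroLocus]
      have h2 : r = q := hmin r h1 hrq
      rw [h2]
      exact hq
    · obtain ⟨s, hsr, hsq⟩ : ∃ s ∈ r.asIdeal, s ∉ q.asIdeal := by
        by_contra hcon
        push Not at hcon
        exact hrq hcon
      intro f
      refine ⟨s, hsq, ?_⟩
      have h1 : s ∈ Module.annihilator A (A ⧸ r.asIdeal) := by
        rw [Ideal.annihilator_quotient]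
        exact hsr
      exact Module.mem_annihilator.1 (annihilator_le_hom (A ⧸ r.asIdeal) Y h1) f
  | exact N₁ N₂ N₃ f g hf hg hfg h₁ h₃ =>
    refine torsAt_mid q Y (shortExact_of_exact f g hf hg hfg) (h₁ ?_) (h₃ ?_)
    · intro r hr
      exact hmin r (Module.support_subset_of_injective f hf hr)
    · intro r hr
      exact hmin r (Module.support_subset_of_surjective g hg hr)

end Dev

section Dense

variable [IsNoetherianRing A] (ω : Dual.D A) (hω : Dual.IsDualizing A ω)
  (M : Type u) [AddCommGroup M] [Module A M] [Module.Finite A M]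

include hω in
/-- at a minimal prime of its support a finite module is Cohen–Macaulay -/
theorem isCohenMacaulayModule_of_minimal (q : PrimeSpectrum A) (hq : q ∈ Module.support A M)
    (hmin : ∀ r ∈ Module.support A M, r ≤ q → r = q) :
    LocCoh.IsCohenMacaulayModule (Localization.AtPrime q.asIdeal)
      (LocalizedModule q.asIdeal.primeCompl M) := by
  obtain ⟨n, -, hn2⟩ := exists_degree ω hω q
  have h1 : ∃ j₀ : ℤ, ∀ j : ℤ, j ≠ j₀ → q ∉ Module.support A (Dual.inD A M ⟶ ω⟦j⟧) := by
    refine ⟨n, fun j hj => ?_⟩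
    rw [Module.notMem_support_iff']
    refine torsAt_of_minimal q (ω⟦j⟧) ?_ M hmin
    intro f
    have h2 : q ∉ Module.support A (Dual.inD A (A ⧸ q.asIdeal) ⟶ ω⟦j⟧) := fun h =>
      hj ((hn2 j).1 h)
    rw [Module.notMem_support_iff'] at h2
    exact h2 f
  rcases (subsingleton_or_isCohenMacaulayModule_iff ω hω M q).2 h1 with h | h
  · rw [Module.mem_support_iff] at hq
    exact (not_subsingleton _ h).elim
  · exact h

include hω in
/-- the Cohen–Macaulay points of the support are dense in the support -/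
theorem support_subset_closure_cohenMacaulay :
    Module.support A M ⊆ closure ({p : PrimeSpectrum A |
      LocCoh.IsCohenMacaulayModule (Localization.AtPrime p.asIdeal)
        (LocalizedModule p.asIdeal.primeCompl M)} ∩ Module.support A M) := by
  intro p hp
  have hp' := hp
  rw [Module.support_eq_zeroLocus, PrimeSpectrum.mem_zeroLocus] at hp'
  haveI := p.2
  obtain ⟨q₀, hq₀, hq₀p⟩ := Ideal.exists_minimalPrimes_le
    (show Module.annihilator A M ≤ p.asIdeal from hp')
  let q : PrimeSpectrum A := ⟨q₀, hq₀.1.1⟩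
  have hq : q ∈ Module.support A M := by
    rw [Module.support_eq_zeroLocus, PrimeSpectrum.mem_zeroLocus]
    exact hq₀.1.2
  have hmin : ∀ r ∈ Module.support A M, r ≤ q → r = q := by
    intro r hr hrq
    rw [Module.support_eq_zeroLocus, PrimeSpectrum.mem_zeroLocus] at hr
    have h3 : r.asIdeal.IsPrime ∧ Module.annihilator A M ≤ r.asIdeal := ⟨r.2, hr⟩
    have h4 : q₀ ≤ r.asIdeal := hq₀.2 h3 hrq
    exact PrimeSpectrum.ext (le_antisymm hrq h4)
  have hcm := isCohenMacaulayModule_of_minimal ω hω M q hq hmin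
  have hs : q ⤳ p := (PrimeSpectrum.le_iff_specializes _ _).1 hq₀p
  have hmem : q ∈ ({p : PrimeSpectrum A |
      LocCoh.IsCohenMacaulayModule (Localization.AtPrime p.asIdeal)
        (LocalizedModule p.asIdeal.primeCompl M)} ∩ Module.support A M) := ⟨hcm, hq⟩
  exact closure_mono (Set.singleton_subset_iff.2 hmem) hs.mem_closure

end Dense

end Groth.Agent.Lib.H6xDimFn
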