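import Mathlib
import Groth.Agent.Lib.H6xDimFnB
import Groth.Agent.S5156
set_option backward.isDefEq.respectTransparency.types false

/-!
# `Ext(N, ω)` for `N` of finite length and `ω` a normalized dualizing complex (helper6)

`Hom_{D(A)}(N, ω⟦i⟧) = 0` for `i ≠ 0` and `Hom_{D(A)}(N, ω) ≃ Hom_A(N, E)`.
-/

set_option autoImplicit false
set_option linter.style.haveILetI false
universe u

namespace Groth.Agent.Lib.H6xLDual

open CategoryTheory CategoryTheory.Limits Category Pretriangulated DerivedCategory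
open Groth.Agent.Lib.Helper1.Extend Groth.Agent.Lib.Helper1.LDer Groth.Agent.Lib.H6xRGam
open Groth.Agent.Lib.H6xDual Groth.Agent.Lib.H6xBid Groth.Agent.Lib.H6xDep Groth.Agent.Lib.H6xLoc
open Groth.Agent.Lib.H6xCoext Groth.Agent.Lib.Helper3.Coext
attribute [local instance] HasDerivedCategory.standard

section Tors

variable {A : Type u} [CommRing A] [IsLocalRing A]

/-- a finite length module over a local ring is killed by a power of the maximal ideal -/
theorem exists_pow_smul_eq_zero (N : Type*) [AddCommGroup N] [Module A N]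
    (hN : IsFiniteLength A N) :
    ∃ k : ℕ, ∀ a ∈ IsLocalRing.maximalIdeal A ^ k, ∀ x : N, a • x = 0 := by
  rw [isFiniteLength_iff_isNoetherian_isArtinian] at hN
  obtain ⟨hNoe, hArt⟩ := hN
  let f : ℕ →o (Submodule A N)ᵒᵈ :=
    ⟨fun k => OrderDual.toDual (IsLocalRing.maximalIdeal A ^ k • (⊤ : Submodule A N)),
      fun k l hkl => Submodule.pow_smul_top_le (IsLocalRing.maximalIdeal A) N hkl⟩
  obtain ⟨n, hn⟩ := IsArtinian.monotone_stabilizes f
  have h1 : IsLocalRing.maximalIdeal A ^ n • (⊤ : Submodule A N) =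
      IsLocalRing.maximalIdeal A ^ (n + 1) • (⊤ : Submodule A N) :=
    congrArg OrderDual.ofDual (hn (n + 1) (Nat.le_succ n))
  have h2 : IsLocalRing.maximalIdeal A ^ n • (⊤ : Submodule A N) = ⊥ := by
    refine Submodule.eq_bot_of_le_smul_of_le_jacobson_bot (IsLocalRing.maximalIdeal A) _
      (IsNoetherian.noetherian _) ?_ ?_
    · rw [← Submodule.mul_smul, ← pow_succ']
      exact h1.le
    · rw [IsLocalRing.jacobson_eq_maximalIdeal ⊥ bot_ne_top]
  refine ⟨n, fun a ha x => ?_⟩
  have h3 : a • x ∈ IsLocalRing.maximalIdeal A ^ n • (⊤ : Submodule A N) :=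
    Submodule.smul_mem_smul ha Submodule.mem_top
  rw [h2] at h3
  exact (Submodule.mem_bot A).1 h3

end Tors

section Coext

variable {A B : Type u} [CommRing A] [CommRing B] [Algebra A B] {M : Type u} [AddCommGroup M]
  [Module A M] {Y : Type u} [AddCommGroup Y] [Module B Y] [Module A Y] [IsScalarTower A B Y]

lemma homToLin_smul (a : A) (φ : Y →ₗ[B] Obj A B M) :
    homToLin (algebraMap A B a • φ) = a • homToLin φ := by
  ext y
  rw [homToLin_apply, LinearMap.smul_apply, LinearMap.smul_apply, homToLin_apply,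
    toLin_smul_apply, one_mul, ← mul_one (algebraMap A B a), ← Algebra.smul_def, map_smul]

/-- the coextension adjunction as an equivalence -/
noncomputable def homToLinEquiv : (Y →ₗ[B] Obj A B M) ≃ (Y →ₗ[A] M) where
  toFun := homToLin
  invFun := linToHom
  left_inv := linToHom_homToLin
  right_inv := homToLin_linToHom

end Coext

section Key

variable {A : Type u} [CommRing A] [IsLocalRing A] [IsNoetherianRing A]
  (ω : Dual.D A) (hω : Dual.IsDualizing A ω) (hn : Dual.IsNormalized A ω)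
  (E : Type u) [AddCommGroup E] [Module A E] (f : IsLocalRing.ResidueField A →ₗ[A] E)
  (hf : InjHull.IsInjectiveHull f)

include hω hn hf in
/-- the key case: `N` is a module over a finite local `A`-algebra `B` of dimension zero -/
theorem nonempty_hom_linearEquiv_of_algebra (B : Type u) [CommRing B] [IsLocalRing B]
    [IsNoetherianRing B] [Algebra A B] [Module.Finite A B] (h0 : ringKrullDim B = 0)
    (N : Type u) [AddCommGroup N] [Module A N] [Module B N] [IsScalarTower A B N] :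
    Nonempty ((Dual.inD A N ⟶ ω) ≃ₗ[A] (N →ₗ[A] E)) := by
  obtain ⟨R, ⟨adj⟩⟩ := exists_rightAdjoint (algebraMap A B)
  have hD := isDualizing_rightAdjoint A B R adj ω hω
  have hNm := isNormalized_rightAdjoint A B R adj ω hn
  obtain ⟨g, hg⟩ := Groth.Agent.S5156.result A B E f hf
  obtain ⟨ε⟩ := dualizing_dim_zero B h0 (R.obj ω) hD hNm _ g hg
  let NB : ModuleCat.{u} B := ModuleCat.of B N
  let NA : ModuleCat.{u} A := ModuleCat.of A N
  let e : NA ≅ rN (A := A) NB := (restrictEquiv (A := A) (B := B) N).symm.toModuleIso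
  let T1 : (Dual.inD A N ⟶ ω) ≃ₗ[A] (Dual.inD A N ⟶ ω⟦(0 : ℤ)⟧) :=
    Linear.homCongr A (Iso.refl _) ((shiftFunctorZero (Dual.D A) ℤ).app ω).symm
  let T2 : (Dual.inD A N ⟶ ω⟦(0 : ℤ)⟧) ≃ (Dual.inD B N ⟶ (R.obj ω)⟦(0 : ℤ)⟧) :=
    (Φ R adj NB NA e ω 0).symm
  let T3 : (Dual.inD B N ⟶ (R.obj ω)⟦(0 : ℤ)⟧) ≃ₗ[B] (Dual.inD B N ⟶ Dual.inD B (Obj A B E)) :=
    Linear.homCongr B (Iso.refl _) (((shiftFunctorZero (Dual.D B) ℤ).app (R.obj ω)) ≪≫ ε)
  let T4 : (NB ⟶ Obj A B E) ≃ₗ[B] (Dual.inD B N ⟶ Dual.inD B (Obj A B E)) :=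
    LinearEquiv.ofBijective
      ((DerivedCategory.singleFunctor (ModuleCat.{u} B) 0).mapLinearMap B)
      ⟨(DerivedCategory.singleFunctor (ModuleCat.{u} B) 0).map_injective,
        (DerivedCategory.singleFunctor (ModuleCat.{u} B) 0).map_surjective⟩
  let T5 : (NB ⟶ Obj A B E) ≃ₗ[B] (N →ₗ[B] Obj A B E) := ModuleCat.homLinearEquiv
  let T6 : (N →ₗ[B] Obj A B E) ≃ (N →ₗ[A] E) := homToLinEquiv
  refine ⟨{ toFun := fun h => T6 (T5 (T4.symm (T3 (T2 (T1 h)))))
            invFun := fun h => T1.symm (T2.symm (T3.symm (T4 (T5.symm (T6.symm h)))))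
            left_inv := fun h => by simp
            right_inv := fun h => by simp
            map_add' := fun h h' => ?_
            map_smul' := fun a h => ?_ }⟩
  · have h2 : ∀ x x', T2 (x + x') = T2 x + T2 x' := fun x x' => Φ_symm_add R adj NB NA e ω 0 x x'
    have h6 : ∀ x x', T6 (x + x') = T6 x + T6 x' := fun x x' => homToLin_add x x'
    rw [map_add, h2, map_add, map_add, map_add, h6]
  · have h2 : ∀ x, T2 (a • x) = algebraMap A B a • T2 x :=
      fun x => Φ_symm_smul R adj NB NA e ω 0 a x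
    have h6 : ∀ x, T6 (algebraMap A B a • x) = a • T6 x := fun x => homToLin_smul a x
    rw [map_smul, h2, map_smul, map_smul, map_smul, h6]
    rfl

end Key

section Main

variable {A : Type u} [CommRing A] [IsLocalRing A] [IsNoetherianRing A]
  (ω : Dual.D A) (hω : Dual.IsDualizing A ω) (hn : Dual.IsNormalized A ω)
  (E : Type u) [AddCommGroup E] [Module A E] (f : IsLocalRing.ResidueField A →ₗ[A] E)
  (hf : InjHull.IsInjectiveHull f)

/-- `A/m^(k+1)` has dimension zero -/
lemma ringKrullDim_quotient_pow_eq_zero (k : ℕ) :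
    ringKrullDim (A ⧸ IsLocalRing.maximalIdeal A ^ (k + 1)) = 0 := by
  have hle : IsLocalRing.maximalIdeal A ^ (k + 1) ≤ IsLocalRing.maximalIdeal A :=
    Ideal.pow_le_self (Nat.succ_ne_zero k)
  have hmin : IsLocalRing.maximalIdeal A ∈ (IsLocalRing.maximalIdeal A ^ (k + 1)).minimalPrimes := by
    refine ⟨⟨inferInstance, hle⟩, ?_⟩
    rintro r ⟨hr, hr'⟩ -
    exact hr.le_of_pow_le hr'
  haveI : IsArtinianRing (A ⧸ IsLocalRing.maximalIdeal A ^ (k + 1)) :=
    IsLocalRing.quotient_artinian_of_mem_minimalPrimes_of_isLocalRing _ hmin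
  haveI : Nontrivial (A ⧸ IsLocalRing.maximalIdeal A ^ (k + 1)) :=
    Ideal.Quotient.nontrivial_iff.2 (fun h => (IsLocalRing.maximalIdeal.isMaximal A).ne_top
      (top_le_iff.1 (h ▸ hle)))
  rw [← ringKrullDimZero_iff_ringKrullDim_eq_zero]
  infer_instance

include hω hn hf in
/-- **S1749** -/
theorem ext_finiteLength (N : Type u) [AddCommGroup N] [Module A N] (hN : IsFiniteLength A N) :
    (∀ i : ℤ, i ≠ 0 → Subsingleton (Dual.inD A N ⟶ ω⟦i⟧)) ∧
      Nonempty ((Dual.inD A N ⟶ ω) ≃ₗ[A] (N →ₗ[A] E)) := by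
  refine ⟨fun i hi => subsingleton_hom_of_isFiniteLength (ω⟦i⟧) (hn i hi) N hN, ?_⟩
  obtain ⟨k, hk⟩ := exists_pow_smul_eq_zero N hN
  set I : Ideal A := IsLocalRing.maximalIdeal A ^ (k + 1) with hI
  have hle : I ≤ IsLocalRing.maximalIdeal A := Ideal.pow_le_self (Nat.succ_ne_zero k)
  have htors : Module.IsTorsionBySet A N I := by
    intro x a
    exact hk a (Ideal.pow_le_pow_right (Nat.le_succ k) a.2) x
  letI : Module (A ⧸ I) N := htors.module
  haveI : IsScalarTower A (A ⧸ I) N := htors.isScalarTower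
  haveI : Nontrivial (A ⧸ I) :=
    Ideal.Quotient.nontrivial_iff.2 (fun h => (IsLocalRing.maximalIdeal.isMaximal A).ne_top
      (top_le_iff.1 (h ▸ hle)))
  haveI : IsLocalRing (A ⧸ I) :=
    IsLocalRing.of_surjective' (Ideal.Quotient.mk I) Ideal.Quotient.mk_surjective
  exact nonempty_hom_linearEquiv_of_algebra ω hω hn E f hf (A ⧸ I)
    (ringKrullDim_quotient_pow_eq_zero k) N

end Main

end Groth.Agent.Lib.H6xLDual
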