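import Mathlib
import Groth.Prelude.Def_DRing3
import Groth.Agent.Lib.H6xRGamD

/-!
# helper6: `RΓ_J ∘ RΓ_I ≅ RΓ_{I ⊔ J}` over a Noetherian ring; `RΓ_I(ε)` is an isomorphism;
the adjunction between torsion objects and `RΓ_I`
-/

set_option autoImplicit false

universe u

open CategoryTheory CategoryTheory.Limits HomologicalComplex

attribute [local instance] HasDerivedCategory.standard

namespace Groth.Agent.Lib.H6xRGam

open Groth.Agent.Lib.Helper17

variable {A : Type u} [CommRing A] [IsNoetherianRing A]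

theorem RgammaI_comp_iso (I J : Ideal A) [DRing.HasRgammaI I] [DRing.HasRgammaI J]
    [DRing.HasRgammaI (I ⊔ J)] (K : Dual.D A) :
    Nonempty ((DRing.RgammaI J).obj ((DRing.RgammaI I).obj K) ≅ (DRing.RgammaI (I ⊔ J)).obj K) := by
  obtain ⟨E, hE, hinj, ⟨e⟩⟩ := exists_kInj_iso K
  haveI := hE
  haveI := isIso_βΓ_app_of_isKInjective I E
  haveI := isIso_βΓ_app_of_isKInjective (I ⊔ J) E
  haveI := isIso_βΓ_app_of_injective J ((GamCx I).obj E) (injective_GamCx_X I E hinj)
  have e1 : (DRing.RgammaI I).obj K ≅ DerivedCategory.Q.obj ((GamCx I).obj E) :=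
    (DRing.RgammaI I).mapIso e ≪≫ (asIso ((βΓ I).app E)).symm
  have e2 : (DRing.RgammaI J).obj (DerivedCategory.Q.obj ((GamCx I).obj E)) ≅
      DerivedCategory.Q.obj ((GamCx J).obj ((GamCx I).obj E)) :=
    (asIso ((βΓ J).app ((GamCx I).obj E))).symm
  have e3 : DerivedCategory.Q.obj ((GamCx (I ⊔ J)).obj E) ≅ (DRing.RgammaI (I ⊔ J)).obj K :=
    asIso ((βΓ (I ⊔ J)).app E) ≪≫ (DRing.RgammaI (I ⊔ J)).mapIso e.symm
  exact ⟨(DRing.RgammaI J).mapIso e1 ≪≫ e2 ≪≫ DerivedCategory.Q.mapIso (gamCompCx I J E) ≪≫ e3⟩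

section Idem

omit [IsNoetherianRing A] in
lemma isIso_gammaI_map_ι (I : Ideal A) (M : ModuleCat.{u} A) :
    IsIso ((DRing.gammaI I).map ((DRing.gammaIι I).app M)) := by
  rw [ConcreteCategory.isIso_iff_bijective]
  constructor
  · intro x y hxy
    apply Subtype.ext
    apply Subtype.ext
    exact congrArg Subtype.val hxy
  · intro y
    obtain ⟨k, hk⟩ := y.2
    exact ⟨⟨⟨y.1, y.2⟩, ⟨k, fun a ha => Subtype.ext (hk a ha)⟩⟩, rfl⟩

omit [IsNoetherianRing A] in
lemma isIso_GamCx_map_ιCx (I : Ideal A) (E : Cx A) : IsIso ((GamCx I).map (ιCx I E)) := by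
  haveI : ∀ n, IsIso (((GamCx I).map (ιCx I E)).f n) := fun n => by
    rw [Functor.mapHomologicalComplex_map_f, ιCx_f]
    exact isIso_gammaI_map_ι I (E.X n)
  exact HomologicalComplex.Hom.isIso_of_components _

variable (I : Ideal A) [DRing.HasRgammaI I]

lemma isIso_RgammaI_map_Q_ιCx (E : Cx A) [E.IsKInjective] (hinj : ∀ n, Module.Injective A (E.X n)) :
    IsIso ((DRing.RgammaI I).map (DerivedCategory.Q.map (ιCx I E))) := by
  haveI := isIso_βΓ_app_of_isKInjective I E
  haveI := isIso_βΓ_app_of_injective I ((GamCx I).obj E) (injective_GamCx_X I E hinj)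
  haveI := isIso_GamCx_map_ιCx I E
  have nat := (βΓ I).naturality (ιCx I E)
  dsimp at nat
  have : IsIso ((βΓ I).app ((GamCx I).obj E) ≫
      (DRing.RgammaI I).map (DerivedCategory.Q.map (ιCx I E))) := by
    rw [← nat]; infer_instance
  exact IsIso.of_isIso_comp_left ((βΓ I).app ((GamCx I).obj E)) _

lemma ε_app_Q_eq (E : Cx A) [E.IsKInjective] :
    haveI := isIso_βΓ_app_of_isKInjective I E
    (DRing.RgammaIε I).app (DerivedCategory.Q.obj E) =
      inv ((βΓ I).app E) ≫ DerivedCategory.Q.map (ιCx I E) := by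
  haveI := isIso_βΓ_app_of_isKInjective I E
  rw [← βΓ_app_ε, IsIso.inv_hom_id_assoc]

/-- `RΓ_I(ε_K)` is an isomorphism -/
theorem isIso_RgammaI_map_ε (K : Dual.D A) :
    IsIso ((DRing.RgammaI I).map ((DRing.RgammaIε I).app K)) := by
  obtain ⟨E, hE, hinj, ⟨e⟩⟩ := exists_kInj_iso K
  haveI := hE
  change IsIso ((Functor.whiskerRight (DRing.RgammaIε I) (DRing.RgammaI I)).app K)
  rw [NatTrans.isIso_app_iff_of_iso _ e]
  change IsIso ((DRing.RgammaI I).map ((DRing.RgammaIε I).app (DerivedCategory.Q.obj E)))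
  haveI := isIso_βΓ_app_of_isKInjective I E
  haveI := isIso_RgammaI_map_Q_ιCx I E hinj
  rw [ε_app_Q_eq, Functor.map_comp]
  infer_instance

end Idem

section Adj

variable (I : Ideal A) [DRing.HasRgammaI I]

/-- the property of having `I`-power torsion cohomology -/
abbrev PT : ObjectProperty (Dual.D A) :=
  fun L : Dual.D A => ∀ i : ℤ, LocCoh.IsPowerTorsion I (Dual.HD A L i)

lemma ε_cancel {L : Dual.D A} (hL : PT I L) {K : Dual.D A}
    (h1 h2 : L ⟶ (DRing.RgammaI I).obj K)
    (h : h1 ≫ (DRing.RgammaIε I).app K = h2 ≫ (DRing.RgammaIε I).app K) : h1 = h2 := by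
  haveI := isIso_RgammaI_map_ε I K
  haveI := isIso_ε_app I L hL
  have e1 : (DRing.RgammaI I).map h1 = (DRing.RgammaI I).map h2 := by
    rw [← cancel_mono ((DRing.RgammaI I).map ((DRing.RgammaIε I).app K)), ← Functor.map_comp,
      ← Functor.map_comp, h]
  have n1 := (DRing.RgammaIε I).naturality h1
  have n2 := (DRing.RgammaIε I).naturality h2
  dsimp at n1 n2
  rw [← cancel_epi ((DRing.RgammaIε I).app L), ← n1, ← n2, e1]

/-- the adjunction `ι ⊣ RΓ_I` -/
noncomputable def adjPT (h : ∀ K : Dual.D A, PT I ((DRing.RgammaI I).obj K)) :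
    ObjectProperty.ι (PT I) ⊣ ObjectProperty.lift (PT I) (DRing.RgammaI I) h :=
  Adjunction.mkOfHomEquiv
    { homEquiv := fun L K =>
        { toFun := fun f =>
            haveI := isIso_ε_app I L.obj L.property
            ObjectProperty.homMk (inv ((DRing.RgammaIε I).app L.obj) ≫ (DRing.RgammaI I).map f)
          invFun := fun g => g.hom ≫ (DRing.RgammaIε I).app K
          left_inv := fun f => by
            haveI := isIso_ε_app I L.obj L.property
            have n := (DRing.RgammaIε I).naturality f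
            dsimp at n ⊢
            rw [Category.assoc, n, IsIso.inv_hom_id_assoc]
          right_inv := fun g => by
            haveI := isIso_ε_app I L.obj L.property
            apply ObjectProperty.hom_ext
            apply ε_cancel I L.property
            have n := (DRing.RgammaIε I).naturality (g.hom ≫ (DRing.RgammaIε I).app K)
            dsimp at n ⊢
            rw [Category.assoc, n, IsIso.inv_hom_id_assoc] }
      homEquiv_naturality_left_symm := fun {L' L K} f g => by
        dsimp
        rw [Category.assoc]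
      homEquiv_naturality_right := fun {L K K'} f g => by
        apply ObjectProperty.hom_ext
        dsimp
        rw [Functor.map_comp, Category.assoc] }

end Adj

end Groth.Agent.Lib.H6xRGam
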