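import Mathlib
import Groth.Prelude.Def_DRing3
import Groth.Prelude.Def_DualLC
import Groth.Agent.Lib.H6xRGamH

/-!
# helper6: `H^q(Γ_I E) ≅ colim_n Hom_{D(A)}(A/I^n, (Q E)⟦q⟧)` for a K-injective complex `E`
-/

set_option autoImplicit false

universe u

open CategoryTheory CategoryTheory.Limits HomologicalComplex Opposite

attribute [local instance] HasDerivedCategory.standard

namespace Groth.Agent.Lib.H6xRGam

variable {A : Type u} [CommRing A] (I : Ideal A) (E : Cx A) (q : ℤ)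

lemma Ψ_congr {M : ModuleCat.{u} A} {f g : M ⟶ E.X q} (h : f = g)
    (hf : f ≫ E.d q (q + 1) = 0) (hg : g ≫ E.d q (q + 1) = 0) : Ψ E q f hf = Ψ E q g hg := by
  subst h; rfl

lemma cls_congr {M : ModuleCat.{u} A} (hM : IsTors I M) {f g : M ⟶ E.X q} (h : f = g)
    (hf : f ≫ E.d q (q + 1) = 0) (hg : g ≫ E.d q (q + 1) = 0) : cls hM f hf = cls hM g hg := by
  subst h; rfl

section

variable [E.IsKInjective]

/-- the class map is well defined on morphisms of `D(A)` -/
lemma cls_eq_of_Ψ_eq {M : ModuleCat.{u} A} (hM : IsTors I M) (f g : M ⟶ E.X q)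
    (hf : f ≫ E.d q (q + 1) = 0) (hg : g ≫ E.d q (q + 1) = 0)
    (h : Ψ E q f hf = Ψ E q g hg) : cls hM f hf = cls hM g hg := by
  have hfg : (f - g) ≫ E.d q (q + 1) = 0 := by rw [Preadditive.sub_comp, hf, hg, sub_zero]
  have h1 : Ψ E q (f - g) hfg = 0 := by
    have := Ψ_add E q (f - g) g hfg hg
    rw [Ψ_congr E q (sub_add_cancel f g) _ hf, h] at this
    exact (add_eq_right.1 this.symm)
  obtain ⟨k, hk⟩ := (Ψ_eq_zero_iff E q (f - g) hfg).1 h1
  have h2 : cls hM (f - g) hfg = 0 := by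
    rw [← cls_eq_zero_of_boundary hM k]
    exact cls_congr I E q hM hk.symm _ _
  have := cls_add hM (f - g) g hfg hg
  rw [cls_congr I E q hM (sub_add_cancel f g) _ hf, h2, zero_add] at this
  exact this

/-- the comparison map on `Hom_{D(A)}(A/I^n, (Q E)⟦q⟧)` -/
noncomputable def cfun (n : ℕ) (ψ : SM (Mq I n) ⟶ (DerivedCategory.Q.obj E)⟦q⟧) :
    ((GamCx I).obj E).homology q :=
  (cls (isTors_Mq I n) (Ψ_surjective E q ψ).choose
    (Ψ_surjective E q ψ).choose_spec.choose).hom (one I n)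

lemma cfun_Ψ (n : ℕ) (f : Mq I n ⟶ E.X q) (hf : f ≫ E.d q (q + 1) = 0) :
    cfun I E q n (Ψ E q f hf) = (cls (isTors_Mq I n) f hf).hom (one I n) := by
  unfold cfun
  rw [cls_eq_of_Ψ_eq I E q (isTors_Mq I n) _ f _ hf
    (Ψ_surjective E q (Ψ E q f hf)).choose_spec.choose_spec]

lemma cfun_add (n : ℕ) (ψ ψ' : SM (Mq I n) ⟶ (DerivedCategory.Q.obj E)⟦q⟧) :
    cfun I E q n (ψ + ψ') = cfun I E q n ψ + cfun I E q n ψ' := by
  obtain ⟨f, hf, rfl⟩ := Ψ_surjective E q ψ
  obtain ⟨g, hg, rfl⟩ := Ψ_surjective E q ψ'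
  rw [← Ψ_add E q f g hf hg, cfun_Ψ, cfun_Ψ, cfun_Ψ, cls_add]
  rfl

lemma cfun_smul (n : ℕ) (a : A) (ψ : SM (Mq I n) ⟶ (DerivedCategory.Q.obj E)⟦q⟧) :
    cfun I E q n (a • ψ) = a • cfun I E q n ψ := by
  obtain ⟨f, hf, rfl⟩ := Ψ_surjective E q ψ
  rw [Ψ_smul, cfun_Ψ, cfun_Ψ]
  have h1 : a • f = (a • 𝟙 (Mq I n)) ≫ f := by rw [Linear.smul_comp, Category.id_comp]
  rw [cls_congr I E q (isTors_Mq I n) h1 _ (by rw [Category.assoc, hf, comp_zero]),
    ← cls_precomp (isTors_Mq I n) (isTors_Mq I n), ModuleCat.comp_apply]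
  have h2 : (a • 𝟙 (Mq I n) : Mq I n ⟶ Mq I n).hom (one I n) = a • one I n := rfl
  rw [h2, map_smul]

lemma cfun_tq {n m : ℕ} (h : n ≤ m) (ψ : SM (Mq I n) ⟶ (DerivedCategory.Q.obj E)⟦q⟧) :
    cfun I E q m ((DerivedCategory.singleFunctor (ModuleCat.{u} A) 0).map (tq I h) ≫ ψ) =
      cfun I E q n ψ := by
  obtain ⟨f, hf, rfl⟩ := Ψ_surjective E q ψ
  rw [Ψ_precomp, cfun_Ψ, cfun_Ψ, ← cls_precomp (isTors_Mq I n) (isTors_Mq I m),
    ModuleCat.comp_apply, tq_one]

/-- the diagram `n ↦ Hom_{D(A)}(A/I^n, K⟦q⟧)` whose colimit is `Dual2.HDI A I K q` -/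
noncomputable abbrev FD (K : Dual.D A) : (ℕᵒᵖ)ᵒᵖ ⥤ ModuleCat.{u + 1} A :=
  (localCohomology.ringModIdeals (localCohomology.idealPowersDiagram I) ⋙
      DerivedCategory.singleFunctor (ModuleCat.{u} A) 0).op ⋙
    (linearYoneda A (Dual.D A)).obj (K⟦q⟧)

omit [E.IsKInjective] in
lemma HDI_eq (K : Dual.D A) : Dual2.HDI A I K q = colimit (FD I q K) := rfl

/-- the comparison as a linear map -/
noncomputable def cLin (n : ℕ) :
    (SM (Mq I n) ⟶ (DerivedCategory.Q.obj E)⟦q⟧) →ₗ[A]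
      ULift.{u + 1} (((GamCx I).obj E).homology q) where
  toFun ψ := ULift.up (cfun I E q n ψ)
  map_add' ψ ψ' := by rw [cfun_add]; rfl
  map_smul' a ψ := by rw [cfun_smul]; rfl

/-- the cocone with point `H^q(Γ_I E)` -/
noncomputable def coconeHDI : Cocone (FD I q (DerivedCategory.Q.obj E)) where
  pt := ModuleCat.of A (ULift.{u + 1} (((GamCx I).obj E).homology q))
  ι :=
    { app := fun j => ModuleCat.ofHom (cLin I E q j.unop.unop)
      naturality := fun j j' g => by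
        apply ModuleCat.hom_ext
        apply LinearMap.ext
        intro ψ
        change ULift.up (cfun I E q j'.unop.unop _) = ULift.up (cfun I E q j.unop.unop ψ)
        congr 1
        exact cfun_tq I E q (leOfHom g.unop.unop) ψ }

end

section Rep

universe v w w'

/-- joint surjectivity of the structure maps of a filtered colimit of modules -/
lemma exists_colimit_rep {J : Type w} [Category.{w'} J] [IsFiltered J]
    (F : J ⥤ ModuleCat.{v} A) [HasColimit F] (x : (colimit F : ModuleCat.{v} A)) :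
    ∃ (j : J) (y : F.obj j), (colimit.ι F j).hom y = x := by
  let S : Submodule A (colimit F : ModuleCat.{v} A) :=
    ⨆ j, LinearMap.range (colimit.ι F j).hom
  have hS : S = ⊤ := by
    have h : (ModuleCat.ofHom S.mkQ :
        (colimit F : ModuleCat.{v} A) ⟶ ModuleCat.of A ((colimit F : ModuleCat.{v} A) ⧸ S)) = 0 := by
      apply colimit.hom_ext
      intro j
      rw [comp_zero]
      apply ModuleCat.hom_ext
      apply LinearMap.ext
      intro y
      change S.mkQ ((colimit.ι F j).hom y) = 0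
      rw [Submodule.mkQ_apply, Submodule.Quotient.mk_eq_zero]
      exact (le_iSup (fun j => LinearMap.range (colimit.ι F j).hom) j) ⟨y, rfl⟩
    have h' : S.mkQ = 0 := congrArg ModuleCat.Hom.hom h
    rw [← Submodule.ker_mkQ S, h', LinearMap.ker_zero]
  have hx : x ∈ S := hS ▸ Submodule.mem_top
  have hdir : Directed (· ≤ ·) (fun j => LinearMap.range (colimit.ι F j).hom) := by
    intro j j'
    refine ⟨IsFiltered.max j j', ?_, ?_⟩
    · rintro _ ⟨y, rfl⟩
      refine ⟨(F.map (IsFiltered.leftToMax j j')).hom y, ?_⟩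
      rw [← ModuleCat.comp_apply, colimit.w]
    · rintro _ ⟨y, rfl⟩
      refine ⟨(F.map (IsFiltered.rightToMax j j')).hom y, ?_⟩
      rw [← ModuleCat.comp_apply, colimit.w]
  haveI : Nonempty J := IsFiltered.nonempty
  obtain ⟨j, y, hy⟩ := (Submodule.mem_iSup_of_directed _ hdir).1 hx
  exact ⟨j, y, hy⟩

end Rep

section

variable [E.IsKInjective]

theorem isIso_desc_coconeHDI :
    IsIso (colimit.desc (FD I q (DerivedCategory.Q.obj E)) (coconeHDI I E q)) := by
  rw [ConcreteCategory.isIso_iff_bijective]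
  constructor
  · -- injective
    intro x x' hxx'
    rw [← sub_eq_zero]
    have hz : (colimit.desc (FD I q (DerivedCategory.Q.obj E)) (coconeHDI I E q)).hom (x - x') = 0 := by
      rw [map_sub]; exact sub_eq_zero.2 hxx'
    obtain ⟨j, y, hy⟩ := exists_colimit_rep (FD I q (DerivedCategory.Q.obj E)) (x - x')
    obtain ⟨n, rfl⟩ : ∃ n : ℕ, j = op (op n) := ⟨j.unop.unop, rfl⟩
    rw [← hy] at hz ⊢
    have h1 := congrArg (fun t => t.hom y) (colimit.ι_desc (coconeHDI I E q) (op (op n)))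
    have h2 : ULift.up (cfun I E q n y) =
        (0 : ULift.{u + 1} (((GamCx I).obj E).homology q)) := h1.symm.trans hz
    have h3 : cfun I E q n y = 0 := congrArg ULift.down h2
    obtain ⟨f, hf, hfy⟩ : ∃ (f : Mq I n ⟶ E.X q) (hf : f ≫ E.d q (q + 1) = 0), Ψ E q f hf = y :=
      Ψ_surjective E q y
    subst hfy
    rw [cfun_Ψ] at h3
    obtain ⟨m, hnm, k, hk⟩ := exists_boundary_of_cls_eq_zero n f hf h3
    have h4 : (DerivedCategory.singleFunctor (ModuleCat.{u} A) 0).map (tq I hnm) ≫ Ψ E q f hf = 0 := by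
      rw [Ψ_precomp, Ψ_eq_zero_iff]
      exact ⟨k, hk⟩
    let g : (op (op n) : ℕᵒᵖᵒᵖ) ⟶ op (op m) := (homOfLE hnm).op.op
    have h5 : ((FD I q (DerivedCategory.Q.obj E)).map g).hom (Ψ E q f hf) = 0 := h4
    have h6 := congrArg (fun t => t.hom (Ψ E q f hf))
      (colimit.w (FD I q (DerivedCategory.Q.obj E)) g)
    refine h6.symm.trans ?_
    change (colimit.ι (FD I q (DerivedCategory.Q.obj E)) (op (op m))).hom
      (((FD I q (DerivedCategory.Q.obj E)).map g).hom (Ψ E q f hf)) = 0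
    rw [h5, map_zero]
  · -- surjective
    intro y
    obtain ⟨n, f, hf, hy⟩ := exists_cls_eq (I := I) (E := E) (q := q) y.down
    refine ⟨(colimit.ι (FD I q (DerivedCategory.Q.obj E)) (op (op n))).hom (Ψ E q f hf), ?_⟩
    have h1 := congrArg (fun t => t.hom (Ψ E q f hf))
      (colimit.ι_desc (coconeHDI I E q) (op (op n)))
    refine h1.trans ?_
    change ULift.up (cfun I E q n (Ψ E q f hf)) = y
    rw [cfun_Ψ, hy]
    rfl

end

end Groth.Agent.Lib.H6xRGam
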