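import Mathlib
import Groth.Prelude.Def_DRing3
import Groth.Prelude.Def_DualLC
import Groth.Agent.Lib.H6xRGamD
import Groth.Agent.Lib.H6xRGamI

/-!
# helper6: `H^q(RΓ_I K) ≅ colim_n Hom_{D(A)}(A/I^n, K⟦q⟧)`
-/

set_option autoImplicit false

universe u

open CategoryTheory CategoryTheory.Limits HomologicalComplex Opposite

attribute [local instance] HasDerivedCategory.standard

namespace Groth.Agent.Lib.H6xRGam

variable {A : Type u} [CommRing A] (I : Ideal A) [DRing.HasRgammaI I]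

theorem nonempty_HD_RgammaI_equiv_HDI (K : Dual.D A) (q : ℤ) :
    Nonempty (Dual.HD A ((DRing.RgammaI I).obj K) q ≃ₗ[A] Dual2.HDI A I K q) := by
  obtain ⟨E, hE, -, ⟨e⟩⟩ := exists_kInj_iso K
  haveI := hE
  haveI := isIso_βΓ_app_of_isKInjective I E
  haveI := isIso_desc_coconeHDI I E q
  let e1 : Dual.HD A ((DRing.RgammaI I).obj K) q ≃ₗ[A]
      Dual.HD A (DerivedCategory.Q.obj ((GamCx I).obj E)) q :=
    ((DerivedCategory.homologyFunctor (ModuleCat.{u} A) q).mapIso
      ((DRing.RgammaI I).mapIso e ≪≫ (asIso ((βΓ I).app E)).symm)).toLinearEquiv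
  let e2 := HDIso ((GamCx I).obj E) q
  let e3 : ((GamCx I).obj E).homology q ≃ₗ[A]
      ULift.{u + 1} (((GamCx I).obj E).homology q) := ULift.moduleEquiv.symm
  let e4 : ULift.{u + 1} (((GamCx I).obj E).homology q) ≃ₗ[A]
      (colimit (FD I q (DerivedCategory.Q.obj E)) : ModuleCat.{u + 1} A) :=
    (asIso (colimit.desc (FD I q (DerivedCategory.Q.obj E)) (coconeHDI I E q))).symm.toLinearEquiv
  let e5 : (colimit (FD I q (DerivedCategory.Q.obj E)) : ModuleCat.{u + 1} A) ≃ₗ[A]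
      (colimit (FD I q K) : ModuleCat.{u + 1} A) :=
    (HasColimit.isoOfNatIso (Functor.isoWhiskerLeft _
      ((linearYoneda A (Dual.D A)).mapIso ((shiftFunctor (Dual.D A) q).mapIso e.symm)))).toLinearEquiv
  exact ⟨e1.trans (e2.trans (e3.trans (e4.trans e5)))⟩

end Groth.Agent.Lib.H6xRGam
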