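import Mathlib
import Groth.Prelude.Def_DRing3
import Groth.Prelude.Def_DualLC
import Groth.Agent.Lib.H6xRGamJ
import Groth.Agent.Lib.H6xRGamF
import Groth.Agent.Lib.H6xHasRD
import Groth.Agent.Lib.H6xLDualA
import Groth.Agent.Lib.H6xDualG
import Groth.Agent.Lib.Helper5LocalFlat
import Groth.Agent.S11174
import Groth.Agent.S0302
import Groth.Agent.S5170
import Groth.Agent.S5155
set_option backward.isDefEq.respectTransparency.types false

/-!
# Local cohomology of a normalized dualizing complex (helper6)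

`RΓ_m(ω) = E[0]` for a normalized dualizing complex `ω` over a Noetherian local ring.
-/

set_option autoImplicit false
set_option linter.style.haveILetI false
universe u

namespace Groth.Agent.Lib.H6xLCDual

open CategoryTheory CategoryTheory.Limits Category DerivedCategory
open Groth.Agent.Lib.H6xRGam Groth.Agent.Lib.H6xDual Groth.Agent.Lib.H6xLDual
attribute [local instance] HasDerivedCategory.standard

section General

variable {A : Type u} [CommRing A]

/-- the unbounded `RΓ_I` exists -/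
theorem hasRgammaI (I : Ideal A) : DRing.HasRgammaI I :=
  Groth.Agent.Lib.H6xHasRD.hasRightDerivedFunctor (DRing.gammaI I)

/-- vanishing of `HDI` from termwise vanishing -/
theorem subsingleton_HDI (I : Ideal A) (K : Dual.D A) (i : ℤ)
    (h : ∀ n : ℕ, Subsingleton (Dual.inD A (A ⧸ I ^ n) ⟶ K⟦i⟧)) :
    Subsingleton (Dual2.HDI A I K i) := by
  have key : ∀ z : Dual2.HDI A I K i, z = 0 := by
    intro z
    obtain ⟨j, y, hy⟩ := exists_colimit_rep (FD I i K) z
    haveI : Subsingleton ((FD I i K).obj j) := h j.unop.unop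
    have hy0 : y = 0 := Subsingleton.elim _ _
    rw [← hy, hy0, map_zero]
  exact ⟨fun x y => by rw [key x, key y]⟩

/-- `Hom(L, RΓ_I K) ≃ Hom(L, K)` when `L` has `I`-power torsion cohomology -/
theorem nonempty_hom_RgammaI_linearEquiv [IsNoetherianRing A] (I : Ideal A) [DRing.HasRgammaI I]
    (L K : Dual.D A) (hL : ∀ i : ℤ, LocCoh.IsPowerTorsion I (Dual.HD A L i)) :
    Nonempty ((L ⟶ (DRing.RgammaI I).obj K) ≃ₗ[A] (L ⟶ K)) := by
  haveI := isIso_ε_app I L hL
  refine ⟨LinearEquiv.ofBijective (Linear.rightComp A L ((DRing.RgammaIε I).app K)) ⟨?_, ?_⟩⟩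
  · intro g1 g2 h
    exact ε_cancel I hL g1 g2 h
  · intro f
    refine ⟨inv ((DRing.RgammaIε I).app L) ≫ (DRing.RgammaI I).map f, ?_⟩
    have n := (DRing.RgammaIε I).naturality f
    dsimp at n
    change (inv ((DRing.RgammaIε I).app L) ≫ (DRing.RgammaI I).map f) ≫
      (DRing.RgammaIε I).app K = f
    rw [Category.assoc, n, IsIso.inv_hom_id_assoc]

/-- power torsion of the cohomology of a module in degree 0 -/
theorem isPowerTorsion_HD_inD (I : Ideal A) (N : Type u) [AddCommGroup N] [Module A N]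
    (hN : LocCoh.IsPowerTorsion I N) (i : ℤ) :
    LocCoh.IsPowerTorsion I (Dual.HD A (Dual.inD A N) i) := by
  by_cases hi : i = 0
  · subst hi
    exact isPowerTorsion_of_linearEquiv I
      ((singleFunctorCompHomologyFunctorIso (ModuleCat.{u} A) 0).app
        (ModuleCat.of A N)).toLinearEquiv.symm hN
  · have hz : IsZero ((DerivedCategory.homologyFunctor (ModuleCat.{u} A) i).obj
        (Dual.inD A N)) := by
      rcases lt_or_gt_of_ne hi with h | h
      · exact isZero_of_isGE _ 0 i h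
      · exact isZero_of_isLE _ 0 i h
    haveI : Subsingleton (Dual.HD A (Dual.inD A N) i) := ModuleCat.subsingleton_of_isZero hz
    intro x
    exact ⟨0, fun a _ => Subsingleton.elim _ _⟩

/-- full faithfulness of `N ↦ N[0]`, linearly -/
noncomputable def inDHomEquiv (N M : Type u) [AddCommGroup N] [Module A N] [AddCommGroup M]
    [Module A M] : (N →ₗ[A] M) ≃ₗ[A] (Dual.inD A N ⟶ Dual.inD A M) :=
  (ModuleCat.homLinearEquiv (S := A) (M := ModuleCat.of A N) (N := ModuleCat.of A M)).symm ≪≫ₗ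
    LinearEquiv.ofBijective
      ((DerivedCategory.singleFunctor (ModuleCat.{u} A) 0).mapLinearMap A)
      ⟨fun g1 g2 h => (DerivedCategory.singleFunctor (ModuleCat.{u} A) 0).map_injective h,
        fun g => (DerivedCategory.singleFunctor (ModuleCat.{u} A) 0).map_surjective g⟩

/-- a simple module over a local ring is the residue field -/
theorem nonempty_linearEquiv_residueField [IsLocalRing A] (S : Type u) [AddCommGroup S]
    [Module A S] (hS : IsSimpleModule A S) : Nonempty (S ≃ₗ[A] IsLocalRing.ResidueField A) := by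
  obtain ⟨I, hI, ⟨e⟩⟩ := isSimpleModule_iff_quot_maximal.1 hS
  have := IsLocalRing.eq_maximalIdeal hI
  subst this
  exact ⟨e⟩

end General

section Main

variable {A : Type u} [CommRing A] [IsLocalRing A] [IsNoetherianRing A]
  (ω : Dual.D A) (hω : Dual.IsDualizing A ω) (hn : Dual.IsNormalized A ω)
  (E : Type u) [AddCommGroup E] [Module A E] (f : IsLocalRing.ResidueField A →ₗ[A] E)
  (hf : InjHull.IsInjectiveHull f)

include hω hn hf in
/-- **S1718**: `RΓ_m(ω) = E[0]` -/
theorem localCohomology_normalized_dualizing :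
    Nonempty (Dual2.HDI A (IsLocalRing.maximalIdeal A) ω 0 ≃ₗ[A] E) ∧
      ∀ i : ℤ, i ≠ 0 → Subsingleton (Dual2.HDI A (IsLocalRing.maximalIdeal A) ω i) := by
  have hfl : ∀ n : ℕ, IsFiniteLength A (A ⧸ IsLocalRing.maximalIdeal A ^ n) := fun n =>
    Groth.Agent.Lib.Helper5.isFiniteLength_quotient_of_pow_le _ n le_rfl
  have h2 : ∀ i : ℤ, i ≠ 0 → Subsingleton (Dual2.HDI A (IsLocalRing.maximalIdeal A) ω i) :=
    fun i hi => subsingleton_HDI _ ω i
      (fun n => (ext_finiteLength ω hω hn E f hf _ (hfl n)).1 i hi)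
  refine ⟨?_, h2⟩
  haveI := hasRgammaI (IsLocalRing.maximalIdeal A)
  set G := (DRing.RgammaI (IsLocalRing.maximalIdeal A)).obj ω with hGdef
  have eq : ∀ q : ℤ, Nonempty (Dual.HD A G q ≃ₗ[A]
      Dual2.HDI A (IsLocalRing.maximalIdeal A) ω q) :=
    nonempty_HD_RgammaI_equiv_HDI (IsLocalRing.maximalIdeal A) ω
  have hG : ∀ i : ℤ, i ≠ 0 → Subsingleton (Dual.HD A G i) := fun i hi => by
    obtain ⟨e⟩ := eq i
    haveI := h2 i hi
    exact e.toEquiv.subsingleton
  obtain ⟨M, ⟨e⟩, ⟨eM⟩⟩ := exists_iso_single_of_HD G 0 hG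
  obtain ⟨e0⟩ := eq 0
  suffices h : Nonempty (M ≃ₗ[A] E) by
    obtain ⟨eE⟩ := h
    exact ⟨e0.symm ≪≫ₗ eM.symm ≪≫ₗ eE⟩
  have hMtors : LocCoh.IsPowerTorsion (IsLocalRing.maximalIdeal A) M :=
    isPowerTorsion_of_linearEquiv _ eM.symm
      (isPowerTorsion_HD_RgammaI (IsLocalRing.maximalIdeal A) ω 0)
  have key : ∀ (N : Type u) [AddCommGroup N] [Module A N], IsFiniteLength A N →
      Nonempty ((N →ₗ[A] M) ≃ₗ[A] (N →ₗ[A] E)) := by
    intro N _ _ hN
    obtain ⟨k, hk⟩ := exists_pow_smul_eq_zero N hN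
    have hNt : LocCoh.IsPowerTorsion (IsLocalRing.maximalIdeal A) N :=
      fun x => ⟨k, fun a ha => hk a ha x⟩
    obtain ⟨e1⟩ := nonempty_hom_RgammaI_linearEquiv (IsLocalRing.maximalIdeal A)
      (Dual.inD A N) ω (isPowerTorsion_HD_inD _ N hNt)
    obtain ⟨e2⟩ := (ext_finiteLength ω hω hn E f hf N hN).2
    let e3 : (Dual.inD A N ⟶ Dual.inD A M) ≃ₗ[A] (Dual.inD A N ⟶ G) :=
      LinearEquiv.ofBijective (Linear.rightComp A (Dual.inD A N) e.inv)
        ⟨fun g1 g2 h => (cancel_mono e.inv).1 h,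
          fun g => ⟨g ≫ e.hom, by
            change (g ≫ e.hom) ≫ e.inv = g
            rw [Category.assoc, e.hom_inv_id, Category.comp_id]⟩⟩
    exact ⟨inDHomEquiv N M ≪≫ₗ e3 ≪≫ₗ e1 ≪≫ₗ e2⟩
  have hk : IsFiniteLength A (IsLocalRing.ResidueField A) := by
    change IsFiniteLength A (A ⧸ IsLocalRing.maximalIdeal A)
    exact Groth.Agent.Lib.Helper5.isFiniteLength_quotient_of_pow_le _ 1 (by rw [pow_one])
  have hb : Nonempty ((IsLocalRing.ResidueField A →ₗ[A] M) ≃ₗ[A] IsLocalRing.ResidueField A) := by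
    obtain ⟨e1⟩ := key (IsLocalRing.ResidueField A) hk
    have hs : IsSimpleModule A (IsLocalRing.ResidueField A →ₗ[A] E) :=
      ((Groth.Agent.S5155.result A E).1 ⟨f, hf⟩).2.2
    obtain ⟨e2⟩ := nonempty_linearEquiv_residueField _ hs
    exact ⟨e1 ≪≫ₗ e2⟩
  have hlen : ∀ n : ℕ, Module.length A (A ⧸ IsLocalRing.maximalIdeal A ^ n) =
      Module.length A ((A ⧸ IsLocalRing.maximalIdeal A ^ n) →ₗ[A] M) := by
    intro n
    obtain ⟨e1⟩ := key (A ⧸ IsLocalRing.maximalIdeal A ^ n) (hfl n)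
    rw [e1.length_eq, Groth.Agent.S5170.result A E f hf _ (hfl n)]
  obtain ⟨f', hf'⟩ := Groth.Agent.S11174.result A M hMtors hb
    (fun n => IsLocalRing.maximalIdeal A ^ n)
    (fun n n' hnn' => Ideal.pow_le_pow_right hnn')
    (fun n => ⟨n, le_rfl⟩) (fun N => ⟨N, le_rfl⟩) hlen
  obtain ⟨eE, -⟩ := Groth.Agent.S0302.result A (IsLocalRing.ResidueField A) M E f' hf' f hf
  exact ⟨eE⟩

end Main

end Groth.Agent.Lib.H6xLCDual
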