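import Mathlib
import Groth.Prelude.Def_DualLC
set_option backward.isDefEq.respectTransparency.types false

/-!
# Local cohomology of objects of `D(A)` as a direct limit of modules (helper6)

`F I X = colim_n Hom_{D(A)}(A/I^n, X)` realised as a `Module.DirectLimit`, functorial in `X`,
exact on distinguished triangles, `I`-power torsion, and compared with `Dual2.HDI`.
-/

set_option autoImplicit false
set_option linter.style.haveILetI false
universe u

namespace Groth.Agent.Lib.H6xLD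

open CategoryTheory CategoryTheory.Limits Category Pretriangulated DerivedCategory Opposite
attribute [local instance] HasDerivedCategory.standard

variable {A : Type u} [CommRing A] (I : Ideal A)

/-- `(A/I^n)[0]` -/
noncomputable abbrev S (n : ℕ) : Dual.D A := Dual.inD A (A ⧸ I ^ n)

/-- the module map `A/I^l → A/I^n` -/
noncomputable def tm {n l : ℕ} (h : n ≤ l) :
    ModuleCat.of A (A ⧸ I ^ l) ⟶ ModuleCat.of A (A ⧸ I ^ n) :=
  ModuleCat.ofHom (Submodule.mapQ (I ^ l) (I ^ n) LinearMap.id (Ideal.pow_le_pow_right h))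

lemma tm_mk {n l : ℕ} (h : n ≤ l) (a : A) :
    (tm I h).hom (Submodule.Quotient.mk a) = Submodule.Quotient.mk a := rfl

lemma tm_refl (n : ℕ) : tm I (le_refl n) = 𝟙 _ := by
  apply ModuleCat.hom_ext
  apply LinearMap.ext
  intro x
  obtain ⟨x, rfl⟩ := Submodule.Quotient.mk_surjective _ x
  rfl

lemma tm_trans {n l p : ℕ} (h : n ≤ l) (h' : l ≤ p) : tm I h' ≫ tm I h = tm I (h.trans h') := by
  apply ModuleCat.hom_ext
  apply LinearMap.ext
  intro x
  obtain ⟨x, rfl⟩ := Submodule.Quotient.mk_surjective _ x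
  rfl

/-- the transition map `(A/I^l)[0] ⟶ (A/I^n)[0]` -/
noncomputable def t {n l : ℕ} (h : n ≤ l) : S I l ⟶ S I n :=
  (DerivedCategory.singleFunctor (ModuleCat.{u} A) 0).map (tm I h)

lemma t_refl (n : ℕ) : t I (le_refl n) = 𝟙 _ := by
  unfold t
  rw [tm_refl]
  exact CategoryTheory.Functor.map_id _ _

lemma t_trans {n l p : ℕ} (h : n ≤ l) (h' : l ≤ p) : t I h' ≫ t I h = t I (h.trans h') := by
  unfold t
  rw [← Functor.map_comp, tm_trans]

/-- the transition maps of the directed system `n ↦ Hom(A/I^n, X)` -/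
noncomputable def fs (X : Dual.D A) (n l : ℕ) (h : n ≤ l) : (S I n ⟶ X) →ₗ[A] (S I l ⟶ X) :=
  Linear.leftComp A X (t I h)

lemma fs_apply (X : Dual.D A) (n l : ℕ) (h : n ≤ l) (φ : S I n ⟶ X) :
    fs I X n l h φ = t I h ≫ φ := rfl

instance (X : Dual.D A) :
    DirectedSystem (fun n : ℕ => S I n ⟶ X) (fun n l h => ⇑(fs I X n l h)) where
  map_self n φ := by
    change t I _ ≫ φ = φ
    rw [t_refl, id_comp]
  map_map n l p h h' φ := by
    change t I h' ≫ t I h ≫ φ = t I _ ≫ φ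
    rw [← assoc, t_trans]

/-- `colim_n Hom_{D(A)}(A/I^n, X)` -/
noncomputable abbrev F (X : Dual.D A) : Type (u + 1) :=
  Module.DirectLimit (fun n : ℕ => S I n ⟶ X) (fs I X)

/-- the structure maps -/
noncomputable abbrev ofF (X : Dual.D A) (n : ℕ) : (S I n ⟶ X) →ₗ[A] F I X :=
  Module.DirectLimit.of A ℕ (fun n : ℕ => S I n ⟶ X) (fs I X) n

lemma ofF_t (X : Dual.D A) {n l : ℕ} (h : n ≤ l) (φ : S I n ⟶ X) :
    ofF I X l (t I h ≫ φ) = ofF I X n φ :=
  Module.DirectLimit.of_f (f := fs I X) (hij := h) (x := φ)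

lemma exists_ofF (X : Dual.D A) (z : F I X) : ∃ (n : ℕ) (φ : S I n ⟶ X), ofF I X n φ = z :=
  Module.DirectLimit.exists_of z

lemma ofF_eq_zero (X : Dual.D A) {n : ℕ} (φ : S I n ⟶ X) (h : ofF I X n φ = 0) :
    ∃ (l : ℕ) (hl : n ≤ l), t I hl ≫ φ = 0 :=
  Module.DirectLimit.of.zero_exact h

/-- functoriality -/
noncomputable def Fmap {X Y : Dual.D A} (g : X ⟶ Y) : F I X →ₗ[A] F I Y :=
  Module.DirectLimit.map (fun n => Linear.rightComp A (S I n) g) (fun n l h => by
    apply LinearMap.ext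
    intro φ
    change (t I h ≫ φ) ≫ g = t I h ≫ φ ≫ g
    rw [assoc])

@[simp]
lemma Fmap_ofF {X Y : Dual.D A} (g : X ⟶ Y) (n : ℕ) (φ : S I n ⟶ X) :
    Fmap I g (ofF I X n φ) = ofF I Y n (φ ≫ g) :=
  Module.DirectLimit.map_apply_of _ _ _

lemma Fmap_id (X : Dual.D A) (z : F I X) : Fmap I (𝟙 X) z = z := by
  obtain ⟨n, φ, rfl⟩ := exists_ofF I X z
  rw [Fmap_ofF, comp_id]

lemma Fmap_comp {X Y Z : Dual.D A} (g : X ⟶ Y) (g' : Y ⟶ Z) (z : F I X) :
    Fmap I (g ≫ g') z = Fmap I g' (Fmap I g z) := by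
  obtain ⟨n, φ, rfl⟩ := exists_ofF I X z
  rw [Fmap_ofF, Fmap_ofF, Fmap_ofF, assoc]

lemma Fmap_add {X Y : Dual.D A} (g g' : X ⟶ Y) (z : F I X) :
    Fmap I (g + g') z = Fmap I g z + Fmap I g' z := by
  obtain ⟨n, φ, rfl⟩ := exists_ofF I X z
  rw [Fmap_ofF, Fmap_ofF, Fmap_ofF, Preadditive.comp_add, map_add]

lemma Fmap_smul {X Y : Dual.D A} (a : A) (g : X ⟶ Y) (z : F I X) :
    Fmap I (a • g) z = a • Fmap I g z := by
  obtain ⟨n, φ, rfl⟩ := exists_ofF I X z
  rw [Fmap_ofF, Fmap_ofF, Linear.comp_smul, map_smul]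

lemma Fmap_zero {X Y : Dual.D A} (z : F I X) : Fmap I (0 : X ⟶ Y) z = 0 := by
  obtain ⟨n, φ, rfl⟩ := exists_ofF I X z
  rw [Fmap_ofF, Limits.comp_zero, map_zero]

/-- an isomorphism induces a linear equivalence -/
noncomputable def FmapEquiv {X Y : Dual.D A} (e : X ≅ Y) : F I X ≃ₗ[A] F I Y :=
  { Fmap I e.hom with
    invFun := Fmap I e.inv
    left_inv := fun z => by
      change Fmap I e.inv (Fmap I e.hom z) = z
      rw [← Fmap_comp, e.hom_inv_id, Fmap_id]
    right_inv := fun z => by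
      change Fmap I e.hom (Fmap I e.inv z) = z
      rw [← Fmap_comp, e.inv_hom_id, Fmap_id] }

lemma FmapEquiv_apply {X Y : Dual.D A} (e : X ≅ Y) (z : F I X) :
    FmapEquiv I e z = Fmap I e.hom z := rfl

/-- exactness on distinguished triangles -/
theorem F_exact (T : Triangle (Dual.D A)) (hT : T ∈ distTriang (Dual.D A)) :
    Function.Exact (Fmap I T.mor₁) (Fmap I T.mor₂) := by
  intro y
  constructor
  · intro hy
    obtain ⟨n, φ, rfl⟩ := exists_ofF I _ y
    rw [Fmap_ofF] at hy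
    obtain ⟨l, hl, h0⟩ := ofF_eq_zero I _ _ hy
    obtain ⟨φ', hφ'⟩ := Triangle.coyoneda_exact₂ T hT (t I hl ≫ φ) (by rw [assoc]; exact h0)
    refine ⟨ofF I _ l φ', ?_⟩
    rw [Fmap_ofF, ← hφ', ofF_t]
  · rintro ⟨x, rfl⟩
    rw [← Fmap_comp, comp_distTriang_mor_zero₁₂ T hT, Fmap_zero]

/-- elements of `I^n` kill `(A/I^n)[0]` -/
lemma smul_id_S_eq_zero (n : ℕ) (a : A) (ha : a ∈ I ^ n) : a • 𝟙 (S I n) = 0 := by
  have h1 : a • 𝟙 (ModuleCat.of A (A ⧸ I ^ n)) = 0 := by
    apply ModuleCat.hom_ext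
    apply LinearMap.ext
    intro x
    obtain ⟨x, rfl⟩ := Submodule.Quotient.mk_surjective _ x
    change a • (Submodule.Quotient.mk x : A ⧸ I ^ n) = 0
    rw [← Submodule.Quotient.mk_smul, Submodule.Quotient.mk_eq_zero]
    exact Ideal.mul_mem_right _ _ ha
  have h2 := congrArg (DerivedCategory.singleFunctor (ModuleCat.{u} A) 0).map h1
  rw [Functor.map_smul, CategoryTheory.Functor.map_id, Functor.map_zero] at h2
  exact h2

lemma smul_ofF_eq_zero (X : Dual.D A) (n : ℕ) (φ : S I n ⟶ X) (a : A) (ha : a ∈ I ^ n) :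
    a • ofF I X n φ = 0 := by
  rw [← map_smul]
  have : a • φ = 0 := by
    rw [← id_comp φ, ← Linear.smul_comp, smul_id_S_eq_zero I n a ha, Limits.zero_comp]
  rw [this, map_zero]

/-- `F I X` is `I`-power torsion -/
theorem isPowerTorsion_F (X : Dual.D A) : LocCoh.IsPowerTorsion I (F I X) := by
  intro z
  obtain ⟨n, φ, rfl⟩ := exists_ofF I X z
  exact ⟨n, fun a ha => smul_ofF_eq_zero I X n φ a ha⟩

/-- vanishing of `F` from termwise vanishing -/
theorem subsingleton_F (X : Dual.D A) (h : ∀ n : ℕ, Subsingleton (S I n ⟶ X)) :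
    Subsingleton (F I X) := by
  refine ⟨fun z z' => ?_⟩
  obtain ⟨n, φ, rfl⟩ := exists_ofF I X z
  obtain ⟨n', φ', rfl⟩ := exists_ofF I X z'
  haveI := h n
  haveI := h n'
  rw [Subsingleton.elim φ 0, Subsingleton.elim φ' 0, map_zero, map_zero]

section Compare

/-- the diagram whose colimit is `Dual2.HDI` -/
noncomputable abbrev Fd (X : Dual.D A) : (ℕᵒᵖ)ᵒᵖ ⥤ ModuleCat.{u + 1} A :=
  (localCohomology.ringModIdeals (localCohomology.idealPowersDiagram I) ⋙
      DerivedCategory.singleFunctor (ModuleCat.{u} A) 0).op ⋙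
    (linearYoneda A (Dual.D A)).obj X

lemma HDI_eq (K : Dual.D A) (i : ℤ) : Dual2.HDI A I K i = colimit (Fd I (K⟦i⟧)) := rfl

lemma Fd_map (X : Dual.D A) {n l : ℕ} (h : n ≤ l) (φ : S I n ⟶ X) :
    ((Fd I X).map (homOfLE h).op.op).hom φ = t I h ≫ φ := rfl

/-- the cocone on `Fd` with point `F I X` -/
noncomputable def coconeF (X : Dual.D A) : Cocone (Fd I X) where
  pt := ModuleCat.of A (F I X)
  ι :=
    { app := fun j => ModuleCat.ofHom (ofF I X j.unop.unop)
      naturality := fun j j' g => by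
        apply ModuleCat.hom_ext
        apply LinearMap.ext
        intro φ
        have hle : j.unop.unop ≤ j'.unop.unop := leOfHom g.unop.unop
        have hg : g = (homOfLE hle).op.op := Subsingleton.elim _ _
        subst hg
        change ofF I X j'.unop.unop (((Fd I X).map (homOfLE hle).op.op).hom φ) =
          ofF I X j.unop.unop φ
        rw [Fd_map, ofF_t] }

/-- the comparison `F I X ⟶ colimit` -/
noncomputable def toColim (X : Dual.D A) : F I X →ₗ[A] (colimit (Fd I X) : ModuleCat.{u + 1} A) :=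
  Module.DirectLimit.lift A ℕ (fun n : ℕ => S I n ⟶ X) (fs I X)
    (fun n => (colimit.ι (Fd I X) (op (op n))).hom)
    (fun n l h φ => by
      have := congrArg (fun k => k.hom φ) (colimit.w (Fd I X) (homOfLE h).op.op)
      exact this)

lemma toColim_ofF (X : Dual.D A) (n : ℕ) (φ : S I n ⟶ X) :
    toColim I X (ofF I X n φ) = (colimit.ι (Fd I X) (op (op n))).hom φ :=
  Module.DirectLimit.lift_of _ _ _

/-- `F I X ≃ colimit`, hence `F I (K⟦i⟧) ≃ Dual2.HDI A I K i` -/
noncomputable def colimEquiv (X : Dual.D A) :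
    F I X ≃ₗ[A] (colimit (Fd I X) : ModuleCat.{u + 1} A) :=
  LinearEquiv.ofLinearMap (toColim I X) (colimit.desc (Fd I X) (coconeF I X)).hom
    (by
      have h : colimit.desc (Fd I X) (coconeF I X) ≫ ModuleCat.ofHom (toColim I X) = 𝟙 _ := by
        apply colimit.hom_ext
        intro j
        rw [colimit.ι_desc_assoc, comp_id]
        apply ModuleCat.hom_ext
        apply LinearMap.ext
        intro φ
        obtain ⟨n, rfl⟩ : ∃ n : ℕ, j = op (op n) := ⟨j.unop.unop, rfl⟩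
        exact toColim_ofF I X n φ
      apply LinearMap.ext
      intro z
      exact congrArg (fun k => k.hom z) h)
    (by
      apply LinearMap.ext
      intro z
      obtain ⟨n, φ, rfl⟩ := exists_ofF I X z
      change (colimit.desc (Fd I X) (coconeF I X)).hom (toColim I X (ofF I X n φ)) = _
      rw [toColim_ofF]
      have := congrArg (fun k => k.hom φ) (colimit.ι_desc (coconeF I X) (op (op n)))
      exact this)

/-- `F I (K⟦i⟧) ≃ Dual2.HDI A I K i` -/
noncomputable def HDIEquiv (K : Dual.D A) (i : ℤ) : F I (K⟦i⟧) ≃ₗ[A] Dual2.HDI A I K i :=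
  colimEquiv I (K⟦i⟧)

end Compare

end Groth.Agent.Lib.H6xLD
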