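import Mathlib
import Groth.Agent.Lib.H6xLDA
set_option backward.isDefEq.respectTransparency.types false

/-!
# The dual functor `G(X) = Hom_A(Hom_{D(A)}(X, ω), E)` and the duality map `η : F ⟶ G` (helper6)
-/

set_option autoImplicit false
set_option linter.style.haveILetI false
universe u

namespace Groth.Agent.Lib.H6xLD

open CategoryTheory CategoryTheory.Limits Category Pretriangulated DerivedCategory Opposite
attribute [local instance] HasDerivedCategory.standard

variable {A : Type u} [CommRing A] (I : Ideal A) (ω : Dual.D A)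
  (E : Type u) [AddCommGroup E] [Module A E]

/-- `G(X) = Hom_A(Hom(X, ω), E)` -/
abbrev G (X : Dual.D A) : Type (u + 1) := (X ⟶ ω) →ₗ[A] E

/-- functoriality of `G` -/
noncomputable def Gmap {X Y : Dual.D A} (g : X ⟶ Y) : G ω E X →ₗ[A] G ω E Y :=
  LinearMap.lcomp A E (Linear.leftComp A ω g)

lemma Gmap_apply {X Y : Dual.D A} (g : X ⟶ Y) (c : G ω E X) (ψ : Y ⟶ ω) :
    Gmap ω E g c ψ = c (g ≫ ψ) := rfl

lemma Gmap_id (X : Dual.D A) (c : G ω E X) : Gmap ω E (𝟙 X) c = c := by
  apply LinearMap.ext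
  intro ψ
  rw [Gmap_apply, id_comp]

lemma Gmap_comp {X Y Z : Dual.D A} (g : X ⟶ Y) (g' : Y ⟶ Z) (c : G ω E X) :
    Gmap ω E (g ≫ g') c = Gmap ω E g' (Gmap ω E g c) := by
  apply LinearMap.ext
  intro ψ
  rw [Gmap_apply, Gmap_apply, Gmap_apply, assoc]

lemma Gmap_zero {X Y : Dual.D A} (c : G ω E X) : Gmap ω E (0 : X ⟶ Y) c = 0 := by
  apply LinearMap.ext
  intro ψ
  rw [Gmap_apply, Limits.zero_comp, map_zero, LinearMap.zero_apply]

lemma Gmap_smul {X Y : Dual.D A} (a : A) (g : X ⟶ Y) (c : G ω E X) :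
    Gmap ω E (a • g) c = a • Gmap ω E g c := by
  apply LinearMap.ext
  intro ψ
  rw [Gmap_apply, LinearMap.smul_apply, Gmap_apply, Linear.smul_comp, map_smul]

/-- an isomorphism induces a linear equivalence -/
noncomputable def GmapEquiv {X Y : Dual.D A} (e : X ≅ Y) : G ω E X ≃ₗ[A] G ω E Y :=
  { Gmap ω E e.hom with
    invFun := Gmap ω E e.inv
    left_inv := fun z => by
      change Gmap ω E e.inv (Gmap ω E e.hom z) = z
      rw [← Gmap_comp, e.hom_inv_id, Gmap_id]
    right_inv := fun z => by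
      change Gmap ω E e.hom (Gmap ω E e.inv z) = z
      rw [← Gmap_comp, e.inv_hom_id, Gmap_id] }

/-- exactness of `G` on distinguished triangles, for `E` injective -/
theorem G_exact [Module.Injective A E] (T : Triangle (Dual.D A))
    (hT : T ∈ distTriang (Dual.D A)) :
    Function.Exact (Gmap ω E T.mor₁) (Gmap ω E T.mor₂) := by
  intro c
  constructor
  · intro hc
    set L : (T.obj₂ ⟶ ω) →ₗ[A] (T.obj₁ ⟶ ω) := Linear.leftComp A ω T.mor₁ with hL
    have hker : LinearMap.ker L ≤ LinearMap.ker c := by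
      intro ψ hψ
      rw [LinearMap.mem_ker] at hψ ⊢
      obtain ⟨χ, rfl⟩ := Triangle.yoneda_exact₂ T hT ψ hψ
      have := congrArg (fun k : G ω E T.obj₃ => k χ) hc
      exact this
    let Lbar : ((T.obj₂ ⟶ ω) ⧸ LinearMap.ker L) →ₗ[A] (T.obj₁ ⟶ ω) :=
      (LinearMap.ker L).liftQ L le_rfl
    have hinj : Function.Injective Lbar := by
      rw [← LinearMap.ker_eq_bot]
      exact Submodule.ker_liftQ_eq_bot _ _ _ le_rfl
    let cbar : ((T.obj₂ ⟶ ω) ⧸ LinearMap.ker L) →ₗ[A] E := (LinearMap.ker L).liftQ c hker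
    obtain ⟨μ, hμ⟩ := Module.Injective.extension_property A E _ _ Lbar hinj cbar
    refine ⟨μ, ?_⟩
    apply LinearMap.ext
    intro ψ
    rw [Gmap_apply]
    have h1 := congrArg (fun k => k (Submodule.Quotient.mk ψ)) hμ
    exact h1
  · rintro ⟨μ, rfl⟩
    rw [← Gmap_comp, comp_distTriang_mor_zero₁₂ T hT, Gmap_zero]

/-- `Hom_A(T, E)` is `I`-power torsion when `T` is finite and `E` is `I`-power torsion -/
theorem isPowerTorsion_linearMap {T : Type*} [AddCommGroup T] [Module A T] [Module.Finite A T]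
    (hE : LocCoh.IsPowerTorsion I E) : LocCoh.IsPowerTorsion I (T →ₗ[A] E) := by
  classical
  intro c
  obtain ⟨s, hs⟩ := (Module.finite_def.1 (inferInstance : Module.Finite A T))
  choose n hn using fun t : T => hE (c t)
  refine ⟨s.sup n, fun a ha => ?_⟩
  apply LinearMap.ext_on hs
  intro t ht
  rw [LinearMap.smul_apply, LinearMap.zero_apply]
  exact hn t a (Ideal.pow_le_pow_right (Finset.le_sup ht) ha)

section Eta

variable (e : F I ω →ₗ[A] E)

/-- the duality map -/
noncomputable def η (X : Dual.D A) : F I X →ₗ[A] G ω E X where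
  toFun z :=
    { toFun := fun ψ => e (Fmap I ψ z)
      map_add' := fun ψ ψ' => by rw [Fmap_add, map_add]
      map_smul' := fun a ψ => by rw [Fmap_smul, map_smul]; rfl }
  map_add' z z' := by
    apply LinearMap.ext
    intro ψ
    change e (Fmap I ψ (z + z')) = e (Fmap I ψ z) + e (Fmap I ψ z')
    rw [map_add, map_add]
  map_smul' a z := by
    apply LinearMap.ext
    intro ψ
    change e (Fmap I ψ (a • z)) = a • e (Fmap I ψ z)
    rw [map_smul, map_smul]

lemma η_apply (X : Dual.D A) (z : F I X) (ψ : X ⟶ ω) : η I ω E e X z ψ = e (Fmap I ψ z) := rfl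

lemma η_natural {X Y : Dual.D A} (g : X ⟶ Y) (z : F I X) :
    η I ω E e Y (Fmap I g z) = Gmap ω E g (η I ω E e X z) := by
  apply LinearMap.ext
  intro ψ
  rw [η_apply, Gmap_apply, η_apply, Fmap_comp]

end Eta

end Groth.Agent.Lib.H6xLD
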