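import Mathlib
import Groth.Agent.Lib.H6xLDB
set_option backward.isDefEq.respectTransparency.types false

/-!
# Dévissage for the duality map `η : F ⟶ G` (helper6)

`P X` says `η` is bijective at all shifts of `X`.  It is invariant under isomorphisms and shifts,
satisfies two-out-of-three on distinguished triangles, and passes from `Z = cone(x : X → X)` to `X`
when `F` and `G` are `x`-power torsion on the shifts of `X`.
-/

set_option autoImplicit false
set_option linter.style.haveILetI false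
universe u

namespace Groth.Agent.Lib.H6xLD

open CategoryTheory CategoryTheory.Limits Category Pretriangulated DerivedCategory Opposite
attribute [local instance] HasDerivedCategory.standard

variable {A : Type u} [CommRing A] (I : Ideal A) (ω : Dual.D A)
  (E : Type u) [AddCommGroup E] [Module A E] (e : F I ω →ₗ[A] E)

section Iso

lemma bijective_of_iso {X Y : Dual.D A} (e' : X ≅ Y)
    (h : Function.Bijective (η I ω E e X)) : Function.Bijective (η I ω E e Y) := by
  have h1 : ∀ z : F I Y, η I ω E e Y z =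
      GmapEquiv ω E e' (η I ω E e X ((FmapEquiv I e').symm z)) := by
    intro z
    change _ = Gmap ω E e'.hom (η I ω E e X (Fmap I e'.inv z))
    rw [← η_natural, ← Fmap_comp, e'.inv_hom_id, Fmap_id]
  have h2 : (η I ω E e Y : F I Y → G ω E Y) =
      (GmapEquiv ω E e') ∘ (η I ω E e X) ∘ (FmapEquiv I e').symm := funext h1
  rw [h2]
  exact (GmapEquiv ω E e').bijective.comp (h.comp (FmapEquiv I e').symm.bijective)

/-- `η` is bijective at all shifts of `X` -/
def P (X : Dual.D A) : Prop := ∀ i : ℤ, Function.Bijective (η I ω E e (X⟦i⟧))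

variable {I ω E e}

lemma P_of_iso {X Y : Dual.D A} (e' : X ≅ Y) (h : P I ω E e X) : P I ω E e Y :=
  fun i => bijective_of_iso I ω E e ((shiftFunctor (Dual.D A) i).mapIso e') (h i)

lemma P_shift {X : Dual.D A} (h : P I ω E e X) (j : ℤ) : P I ω E e (X⟦j⟧) :=
  fun i => bijective_of_iso I ω E e ((shiftFunctorAdd' (Dual.D A) j i (j + i) rfl).app X) (h (j + i))

lemma P_of_isZero {X : Dual.D A} (hX : IsZero X) : P I ω E e X := by
  intro i
  have hXi : IsZero (X⟦i⟧) := (shiftFunctor (Dual.D A) i).map_isZero hX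
  haveI : Subsingleton (F I (X⟦i⟧)) :=
    subsingleton_F I _ (fun n => ⟨fun f g => hXi.eq_of_tgt f g⟩)
  haveI : Subsingleton (G ω E (X⟦i⟧)) := by
    haveI : Subsingleton ((X⟦i⟧) ⟶ ω) := ⟨fun f g => hXi.eq_of_src f g⟩
    infer_instance
  exact ⟨fun a b _ => Subsingleton.elim a b, fun c => ⟨0, Subsingleton.elim _ _⟩⟩

end Iso

section Five

variable [Module.Injective A E]

/-- the five lemma for `η` on a distinguished triangle -/
theorem bijective_mid (T : Triangle (Dual.D A)) (hT : T ∈ distTriang (Dual.D A))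
    (h1 : Function.Surjective (η I ω E e (T.obj₃⟦(-1 : ℤ)⟧)))
    (h2 : Function.Bijective (η I ω E e T.obj₁))
    (h4 : Function.Bijective (η I ω E e T.obj₃))
    (h5 : Function.Injective (η I ω E e (T.obj₁⟦(1 : ℤ)⟧))) :
    Function.Bijective (η I ω E e T.obj₂) := by
  have hT' := inv_rot_of_distTriang T hT
  have hT'' := rot_of_distTriang T hT
  exact LinearMap.bijective_of_surjective_of_bijective_of_bijective_of_injective
    (Fmap I T.invRotate.mor₁) (Fmap I T.mor₁) (Fmap I T.mor₂) (Fmap I T.mor₃)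
    (Gmap ω E T.invRotate.mor₁) (Gmap ω E T.mor₁) (Gmap ω E T.mor₂) (Gmap ω E T.mor₃)
    (η I ω E e (T.obj₃⟦(-1 : ℤ)⟧)) (η I ω E e T.obj₁) (η I ω E e T.obj₂) (η I ω E e T.obj₃)
    (η I ω E e (T.obj₁⟦(1 : ℤ)⟧))
    (LinearMap.ext fun z => (η_natural I ω E e T.invRotate.mor₁ z).symm)
    (LinearMap.ext fun z => (η_natural I ω E e T.mor₁ z).symm)
    (LinearMap.ext fun z => (η_natural I ω E e T.mor₂ z).symm)
    (LinearMap.ext fun z => (η_natural I ω E e T.mor₃ z).symm)
    (F_exact I T.invRotate hT') (F_exact I T hT) (F_exact I T.rotate hT'')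
    (G_exact ω E T.invRotate hT') (G_exact ω E T hT) (G_exact ω E T.rotate hT'')
    h1 h2 h4 h5

variable {I ω E e}

/-- two-out-of-three for `P` -/
theorem P_mid (T : Triangle (Dual.D A)) (hT : T ∈ distTriang (Dual.D A))
    (h1 : P I ω E e T.obj₁) (h3 : P I ω E e T.obj₃) : P I ω E e T.obj₂ := by
  intro i
  have hTi := Triangle.shift_distinguished T hT i
  exact bijective_mid I ω E e _ hTi (P_shift h3 i (-1)).2 (h1 i) (h3 i) (P_shift h1 i 1).1

end Five

section Regular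

variable [Module.Injective A E]
variable {X Z : Dual.D A} (f : X ⟶ X) (g : X ⟶ Z) (h : Z ⟶ X⟦(1 : ℤ)⟧)
  (hT : Triangle.mk f g h ∈ distTriang (Dual.D A)) (x : A) (hf : f = x • 𝟙 X)

include hf in
omit [Module.Injective A E] in
lemma Fmap_f (z : F I X) : Fmap I f z = x • z := by
  rw [hf, Fmap_smul, Fmap_id]

include hf in
omit [Module.Injective A E] in
lemma Gmap_f (c : G ω E X) : Gmap ω E f c = x • c := by
  rw [hf, Gmap_smul, Gmap_id]

include hT hf in
/-- surjectivity of `η_X` from `η_Z` -/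
theorem surjective_of_regular (hGt : ∀ c : G ω E X, ∃ k : ℕ, x ^ k • c = 0)
    (hZi : Function.Injective (η I ω E e Z))
    (hZs : Function.Surjective (η I ω E e (Z⟦(-1 : ℤ)⟧))) :
    Function.Surjective (η I ω E e X) := by
  have hT' := inv_rot_of_distTriang _ hT
  set a : Z⟦(-1 : ℤ)⟧ ⟶ X := (Triangle.mk f g h).invRotate.mor₁ with ha
  have hGa : Function.Exact (Gmap ω E a) (Gmap ω E f) := G_exact ω E _ hT'
  have hFf : Function.Exact (Fmap I f) (Fmap I g) := F_exact I _ hT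
  -- S2: elements of `G X` killed by `x` are in the image
  have S2 : ∀ c : G ω E X, x • c = 0 → c ∈ Set.range (η I ω E e X) := by
    intro c hc
    have h1 : Gmap ω E f c = 0 := by rw [Gmap_f ω E f x hf, hc]
    obtain ⟨c', rfl⟩ := (hGa c).1 h1
    obtain ⟨b', rfl⟩ := hZs c'
    exact ⟨Fmap I a b', η_natural I ω E e a b'⟩
  -- S3: divisibility
  have S3 : ∀ (f₀ : F I X) (c : G ω E X), η I ω E e X f₀ = x • c → ∃ f₁ : F I X, f₀ = x • f₁ := by
    intro f₀ c hc
    have h1 : η I ω E e Z (Fmap I g f₀) = 0 := by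
      rw [η_natural, hc, ← Gmap_f ω E f x hf, ← Gmap_comp]
      have : f ≫ g = 0 := comp_distTriang_mor_zero₁₂ _ hT
      rw [this, Gmap_zero]
    have h2 : Fmap I g f₀ = 0 := hZi (h1.trans (map_zero _).symm)
    obtain ⟨f₁, rfl⟩ := (hFf f₀).1 h2
    exact ⟨f₁, Fmap_f I f x hf f₁⟩
  -- S4: induction on the exponent
  have S4 : ∀ (k : ℕ) (c : G ω E X), x ^ k • c = 0 → c ∈ Set.range (η I ω E e X) := by
    intro k
    induction k with
    | zero =>
      intro c hc
      rw [pow_zero, one_smul] at hc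
      exact ⟨0, by rw [hc, map_zero]⟩
    | succ k ih =>
      intro c hc
      have h1 : x ^ k • (x • c) = 0 := by rw [smul_smul, ← pow_succ]; exact hc
      obtain ⟨f₀, hf₀⟩ := ih (x • c) h1
      obtain ⟨f₁, rfl⟩ := S3 f₀ c hf₀
      have h2 : x • (c - η I ω E e X f₁) = 0 := by
        rw [smul_sub, ← map_smul, hf₀, sub_self]
      obtain ⟨f₂, hf₂⟩ := S2 _ h2
      refine ⟨f₂ + f₁, ?_⟩
      rw [map_add, hf₂, sub_add_cancel]
  intro c
  obtain ⟨k, hk⟩ := hGt c
  exact S4 k c hk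

include hT hf in
/-- injectivity of `η_X` from `η_Z` and surjectivity one degree lower -/
theorem injective_of_regular (hFt : ∀ z : F I X, ∃ k : ℕ, x ^ k • z = 0)
    (hXs : Function.Surjective (η I ω E e (X⟦(-1 : ℤ)⟧)))
    (hZi : Function.Injective (η I ω E e (Z⟦(-1 : ℤ)⟧))) :
    Function.Injective (η I ω E e X) := by
  have hT' := inv_rot_of_distTriang _ hT
  have hT'' := inv_rot_of_distTriang _ hT'
  set a : Z⟦(-1 : ℤ)⟧ ⟶ X := (Triangle.mk f g h).invRotate.mor₁ with ha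
  set b₀ : X⟦(-1 : ℤ)⟧ ⟶ Z⟦(-1 : ℤ)⟧ := (Triangle.mk f g h).invRotate.invRotate.mor₁ with hb₀
  have hFa : Function.Exact (Fmap I a) (Fmap I f) := F_exact I _ hT'
  have hGb : Function.Exact (Gmap ω E b₀) (Gmap ω E a) := G_exact ω E _ hT''
  have hba : b₀ ≫ a = 0 := comp_distTriang_mor_zero₁₂ _ hT''
  -- I1
  have I1 : ∀ f₀ : F I X, x • f₀ = 0 → η I ω E e X f₀ = 0 → f₀ = 0 := by
    intro f₀ h1 h2
    have h3 : Fmap I f f₀ = 0 := by rw [Fmap_f I f x hf, h1]
    obtain ⟨b, rfl⟩ := (hFa f₀).1 h3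
    rw [η_natural] at h2
    obtain ⟨c', hc'⟩ := (hGb _).1 h2
    obtain ⟨b'', rfl⟩ := hXs c'
    rw [← η_natural] at hc'
    have h4 : Fmap I b₀ b'' = b := hZi hc'
    rw [← h4, ← Fmap_comp, hba, Fmap_zero]
  -- I2
  have I2 : ∀ (k : ℕ) (f₀ : F I X), x ^ k • f₀ = 0 → η I ω E e X f₀ = 0 → f₀ = 0 := by
    intro k
    induction k with
    | zero =>
      intro f₀ hk _
      rw [pow_zero, one_smul] at hk
      exact hk
    | succ k ih =>
      intro f₀ hk h0
      have h1 : x ^ k • (x • f₀) = 0 := by rw [smul_smul, ← pow_succ]; exact hk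
      have h2 : x • f₀ = 0 := ih (x • f₀) h1 (by rw [map_smul, h0, smul_zero])
      exact I1 f₀ h2 h0
  rw [injective_iff_map_eq_zero]
  intro f₀ h0
  obtain ⟨k, hk⟩ := hFt f₀
  exact I2 k f₀ hk h0

end Regular

section RegularP

variable [Module.Injective A E]

omit [Module.Injective A E] in
lemma surjective_of_iso {X Y : Dual.D A} (e' : X ≅ Y)
    (h : Function.Surjective (η I ω E e X)) : Function.Surjective (η I ω E e Y) := by
  intro c
  obtain ⟨z, hz⟩ := h (Gmap ω E e'.inv c)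
  refine ⟨Fmap I e'.hom z, ?_⟩
  rw [η_natural, hz, ← Gmap_comp, e'.inv_hom_id, Gmap_id]

variable {I ω E e}
variable {X Z : Dual.D A} (g : X ⟶ Z) (h : Z ⟶ X⟦(1 : ℤ)⟧) (x : A)
  (hT : Triangle.mk (x • 𝟙 X) g h ∈ distTriang (Dual.D A))

include hT in
/-- the regular element step for `P` -/
theorem P_of_regular (hZ : P I ω E e Z)
    (hFt : ∀ (i : ℤ) (z : F I (X⟦i⟧)), ∃ k : ℕ, x ^ k • z = 0)
    (hGt : ∀ (i : ℤ) (c : G ω E (X⟦i⟧)), ∃ k : ℕ, x ^ k • c = 0) : P I ω E e X := by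
  -- the shifted triangles
  have key : ∀ i : ℤ, ∃ (f' : X⟦i⟧ ⟶ X⟦i⟧) (g' : X⟦i⟧ ⟶ Z⟦i⟧) (h' : Z⟦i⟧ ⟶ (X⟦i⟧)⟦(1 : ℤ)⟧),
      Triangle.mk f' g' h' ∈ distTriang (Dual.D A) ∧
        f' = (((i.negOnePow : ℤ) : A) * x) • 𝟙 (X⟦i⟧) := by
    intro i
    have hTi := Triangle.shift_distinguished _ hT i
    refine ⟨_, _, _, hTi, ?_⟩
    change i.negOnePow • (x • 𝟙 X)⟦i⟧' = _
    rw [Functor.map_smul, CategoryTheory.Functor.map_id, Units.smul_def,
      ← Int.cast_smul_eq_zsmul A, smul_smul]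
  have htors : ∀ {M : Type (u + 1)} [AddCommGroup M] [Module A M] (i : ℤ) (z : M)
      (k : ℕ), x ^ k • z = 0 → ((((i.negOnePow : ℤ) : A) * x)) ^ k • z = 0 := by
    intro M _ _ i z k hk
    rw [mul_pow, mul_smul, hk, smul_zero]
  have hsurj : ∀ i : ℤ, Function.Surjective (η I ω E e (X⟦i⟧)) := by
    intro i
    obtain ⟨f', g', h', hTi, hf'⟩ := key i
    refine surjective_of_regular I ω E e f' g' h' hTi _ hf' (fun c => ?_) (hZ i).1
      (P_shift hZ i (-1)).2
    obtain ⟨k, hk⟩ := hGt i c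
    exact ⟨k, htors i c k hk⟩
  intro i
  refine ⟨?_, hsurj i⟩
  obtain ⟨f', g', h', hTi, hf'⟩ := key i
  refine injective_of_regular I ω E e f' g' h' hTi _ hf' (fun z => ?_) ?_ (P_shift hZ i (-1)).1
  · obtain ⟨k, hk⟩ := hFt i z
    exact ⟨k, htors i z k hk⟩
  · exact surjective_of_iso I ω E e ((shiftFunctorAdd' (Dual.D A) i (-1) (i + -1) rfl).app X)
      (hsurj (i + -1))

end RegularP

end Groth.Agent.Lib.H6xLD
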