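import Mathlib
import Groth.Agent.Lib.H6xLDC
import Groth.Agent.Lib.H6xLCDualA
import Groth.Agent.Lib.H6xDepA
import Groth.Agent.S0311
set_option backward.isDefEq.respectTransparency.types false

/-!
# Local duality: the residue field (helper6)

`F(ω) ≃ E`, injectivity of the transition maps of `F(ω)`, and `P(κ[0])`.
-/

set_option autoImplicit false
set_option linter.style.haveILetI false
universe u

namespace Groth.Agent.Lib.H6xLD

open CategoryTheory CategoryTheory.Limits Category Pretriangulated DerivedCategory Opposite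
open Groth.Agent.Lib.H6xRGam Groth.Agent.Lib.H6xDual Groth.Agent.Lib.H6xLDual
  Groth.Agent.Lib.H6xLCDual
attribute [local instance] HasDerivedCategory.standard

section General

variable {A : Type u} [CommRing A]

/-- moving a shift across a hom set, linearly -/
noncomputable def shiftHomLinearEquiv' (X Y : Dual.D A) (i j : ℤ) (h : i + j = 0) :
    (X⟦i⟧ ⟶ Y) ≃ₗ[A] (X ⟶ Y⟦j⟧) := by
  obtain rfl : i = -j := by omega
  exact shiftHomLinearEquiv X Y j

/-- for an `I`-power torsion module `N`: `F I (N[0]⟦i⟧) ≃ H^i(N[0])` -/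
theorem nonempty_F_inD_equiv [IsNoetherianRing A] (I : Ideal A) (N : Type u) [AddCommGroup N]
    [Module A N] (hN : LocCoh.IsPowerTorsion I N) (i : ℤ) :
    Nonempty (F I ((Dual.inD A N)⟦i⟧) ≃ₗ[A] Dual.HD A (Dual.inD A N) i) := by
  haveI := hasRgammaI I
  obtain ⟨e2⟩ := nonempty_HD_RgammaI_equiv_HDI I (Dual.inD A N) i
  haveI := isIso_ε_app I (Dual.inD A N) (isPowerTorsion_HD_inD I N hN)
  let e3 : Dual.HD A ((DRing.RgammaI I).obj (Dual.inD A N)) i ≃ₗ[A] Dual.HD A (Dual.inD A N) i :=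
    ((DerivedCategory.homologyFunctor (ModuleCat.{u} A) i).mapIso
      (asIso ((DRing.RgammaIε I).app (Dual.inD A N)))).toLinearEquiv
  exact ⟨HDIEquiv I (Dual.inD A N) i ≪≫ₗ e2.symm ≪≫ₗ e3⟩

/-- `H^i(N[0]) = 0` for `i ≠ 0` -/
lemma subsingleton_HD_inD (N : Type u) [AddCommGroup N] [Module A N] (i : ℤ) (hi : i ≠ 0) :
    Subsingleton (Dual.HD A (Dual.inD A N) i) := by
  have hz : IsZero ((DerivedCategory.homologyFunctor (ModuleCat.{u} A) i).obj
      (Dual.inD A N)) := by
    rcases lt_or_gt_of_ne hi with h | h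
    · exact isZero_of_isGE _ 0 i h
    · exact isZero_of_isLE _ 0 i h
  exact ModuleCat.subsingleton_of_isZero hz

/-- `H^0(N[0]) ≃ N` -/
noncomputable def HDInDZeroEquiv (N : Type u) [AddCommGroup N] [Module A N] :
    Dual.HD A (Dual.inD A N) 0 ≃ₗ[A] N :=
  ((singleFunctorCompHomologyFunctorIso (ModuleCat.{u} A) 0).app (ModuleCat.of A N)).toLinearEquiv

end General

section Base

variable {A : Type u} [CommRing A] [IsLocalRing A] [IsNoetherianRing A]
  (ω : Dual.D A) (hω : Dual.IsDualizing A ω) (hn : Dual.IsNormalized A ω)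
  (E : Type u) [AddCommGroup E] [Module A E] (f : IsLocalRing.ResidueField A →ₗ[A] E)
  (hf : InjHull.IsInjectiveHull f)

include hω hn hf in
/-- `F(ω) ≃ E` -/
theorem nonempty_F_dualizing_equiv : Nonempty (F (IsLocalRing.maximalIdeal A) ω ≃ₗ[A] E) := by
  obtain ⟨e0⟩ := (localCohomology_normalized_dualizing ω hω hn E f hf).1
  exact ⟨(FmapEquiv (IsLocalRing.maximalIdeal A) ((shiftFunctorZero (Dual.D A) ℤ).app ω)).symm ≪≫ₗ
    HDIEquiv (IsLocalRing.maximalIdeal A) ω 0 ≪≫ₗ e0⟩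

include hω hn hf in
/-- the transition maps of `n ↦ Hom(A/𝔪^n, ω)` are injective -/
theorem eq_zero_of_t_comp_eq_zero {n l : ℕ} (h : n ≤ l)
    (χ : S (IsLocalRing.maximalIdeal A) n ⟶ ω)
    (h0 : t (IsLocalRing.maximalIdeal A) h ≫ χ = 0) : χ = 0 := by
  set q : (A ⧸ IsLocalRing.maximalIdeal A ^ l) →ₗ[A] (A ⧸ IsLocalRing.maximalIdeal A ^ n) :=
    (tm (IsLocalRing.maximalIdeal A) h).hom with hq
  have hsurj : Function.Surjective q := by
    intro y
    obtain ⟨a, rfl⟩ := Submodule.Quotient.mk_surjective _ y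
    exact ⟨Submodule.Quotient.mk a, rfl⟩
  have hS := shortExact_of_exact (LinearMap.ker q).subtype q (LinearMap.ker q).injective_subtype
    hsurj (LinearMap.exact_subtype_ker_map q)
  have hfl : IsFiniteLength A (A ⧸ IsLocalRing.maximalIdeal A ^ l) :=
    Groth.Agent.Lib.Helper5.isFiniteLength_quotient_of_pow_le _ l le_rfl
  have hK : IsFiniteLength A (LinearMap.ker q) := by
    rw [isFiniteLength_iff_isNoetherian_isArtinian] at hfl ⊢
    obtain ⟨h1, h2⟩ := hfl
    exact ⟨inferInstance, inferInstance⟩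
  have hsub : Subsingleton ((Dual.inD A (LinearMap.ker q))⟦(1 : ℤ)⟧ ⟶ ω) :=
    (shiftHomLinearEquiv' (Dual.inD A (LinearMap.ker q)) ω 1 (-1) (by norm_num)).toEquiv.subsingleton_congr.2
      ((ext_finiteLength ω hω hn E f hf _ hK).1 (-1) (by norm_num))
  obtain ⟨g, hg⟩ := Triangle.yoneda_exact₃ _ hS.singleTriangle_distinguished χ h0
  have hg0 : g = 0 := @Subsingleton.elim _ hsub g 0
  rw [hg, hg0]
  exact Limits.comp_zero

variable (e : F (IsLocalRing.maximalIdeal A) ω ≃ₗ[A] E)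

include hω hn hf in
/-- `P` holds for the residue field -/
theorem P_residueField :
    P (IsLocalRing.maximalIdeal A) ω E e.toLinearMap (Dual.inD A (IsLocalRing.ResidueField A)) := by
  have hk : IsFiniteLength A (IsLocalRing.ResidueField A) := by
    change IsFiniteLength A (A ⧸ IsLocalRing.maximalIdeal A)
    exact Groth.Agent.Lib.Helper5.isFiniteLength_quotient_of_pow_le _ 1 (by rw [pow_one])
  have hkt : LocCoh.IsPowerTorsion (IsLocalRing.maximalIdeal A) (IsLocalRing.ResidueField A) := by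
    obtain ⟨k, hk'⟩ := exists_pow_smul_eq_zero (IsLocalRing.ResidueField A) hk
    exact fun x => ⟨k, fun a ha => hk' a ha x⟩
  intro i
  by_cases hi : i = 0
  · subst hi
    -- the simple modules
    obtain ⟨eF⟩ := nonempty_F_inD_equiv (IsLocalRing.maximalIdeal A) (IsLocalRing.ResidueField A)
      hkt 0
    have hsκ : IsSimpleModule A (IsLocalRing.ResidueField A) := by
      rw [isSimpleModule_iff_quot_maximal]
      exact ⟨IsLocalRing.maximalIdeal A, inferInstance, ⟨LinearEquiv.refl A _⟩⟩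
    haveI hsF : IsSimpleModule A (F (IsLocalRing.maximalIdeal A)
        ((Dual.inD A (IsLocalRing.ResidueField A))⟦(0 : ℤ)⟧)) :=
      IsSimpleModule.congr (eF ≪≫ₗ HDInDZeroEquiv (IsLocalRing.ResidueField A))
    have hsE : IsSimpleModule A (IsLocalRing.ResidueField A →ₗ[A] E) :=
      ((Groth.Agent.S5155.result A E).1 ⟨f, hf⟩).2.2
    obtain ⟨eκ⟩ := nonempty_linearEquiv_residueField _ hsE
    obtain ⟨e2⟩ := (ext_finiteLength ω hω hn E f hf _ hk).2
    let iso0 : (Dual.inD A (IsLocalRing.ResidueField A))⟦(0 : ℤ)⟧ ≅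
        Dual.inD A (IsLocalRing.ResidueField A) := (shiftFunctorZero (Dual.D A) ℤ).app _
    let eG : G ω E ((Dual.inD A (IsLocalRing.ResidueField A))⟦(0 : ℤ)⟧) ≃ₗ[A]
        IsLocalRing.ResidueField A :=
      GmapEquiv ω E iso0 ≪≫ₗ LinearEquiv.congrLeft E A (e2 ≪≫ₗ eκ) ≪≫ₗ eκ
    haveI hsG : IsSimpleModule A (G ω E ((Dual.inD A (IsLocalRing.ResidueField A))⟦(0 : ℤ)⟧)) :=
      IsSimpleModule.congr eG
    rcases LinearMap.bijective_or_eq_zero (η (IsLocalRing.maximalIdeal A) ω E e.toLinearMap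
      ((Dual.inD A (IsLocalRing.ResidueField A))⟦(0 : ℤ)⟧)) with hb | h0
    · exact hb
    · exfalso
      -- a nonzero morphism `κ[0]⟦0⟧ ⟶ ω`
      let eH : ((Dual.inD A (IsLocalRing.ResidueField A))⟦(0 : ℤ)⟧ ⟶ ω) ≃ₗ[A]
          IsLocalRing.ResidueField A :=
        { Linear.leftComp A ω iso0.inv with
          invFun := fun ψ => iso0.hom ≫ ψ
          left_inv := fun ψ => by
            change iso0.hom ≫ iso0.inv ≫ ψ = ψ
            rw [Iso.hom_inv_id_assoc]
          right_inv := fun ψ => by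
            change iso0.inv ≫ iso0.hom ≫ ψ = ψ
            rw [Iso.inv_hom_id_assoc] } ≪≫ₗ e2 ≪≫ₗ eκ
      obtain ⟨ψ, hψ⟩ : ∃ ψ : (Dual.inD A (IsLocalRing.ResidueField A))⟦(0 : ℤ)⟧ ⟶ ω, ψ ≠ 0 := by
        refine ⟨eH.symm 1, fun h => ?_⟩
        have h1 : (1 : IsLocalRing.ResidueField A) = 0 := by
          rw [← eH.apply_symm_apply 1, h, map_zero]
        exact one_ne_zero h1
      -- the class of the identity
      let q1 : (A ⧸ IsLocalRing.maximalIdeal A ^ 1) ≃ₗ[A] IsLocalRing.ResidueField A :=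
        Submodule.quotEquivOfEq _ _ (pow_one _)
      let iso1 : S (IsLocalRing.maximalIdeal A) 1 ≅ Dual.inD A (IsLocalRing.ResidueField A) :=
        (DerivedCategory.singleFunctor (ModuleCat.{u} A) 0).mapIso q1.toModuleIso
      let φ₁ : S (IsLocalRing.maximalIdeal A) 1 ⟶
          (Dual.inD A (IsLocalRing.ResidueField A))⟦(0 : ℤ)⟧ := iso1.hom ≫ iso0.inv
      have h1 := congrArg (fun k => k (ofF (IsLocalRing.maximalIdeal A) _ 1 φ₁) ψ) h0
      change e (Fmap (IsLocalRing.maximalIdeal A) ψ (ofF (IsLocalRing.maximalIdeal A) _ 1 φ₁)) = 0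
        at h1
      rw [Fmap_ofF] at h1
      have h2 : ofF (IsLocalRing.maximalIdeal A) ω 1 (φ₁ ≫ ψ) = 0 :=
        e.injective (h1.trans (map_zero _).symm)
      obtain ⟨l, hl, h3⟩ := ofF_eq_zero _ _ _ h2
      have h4 : φ₁ ≫ ψ = 0 := eq_zero_of_t_comp_eq_zero ω hω hn E f hf hl _ h3
      have h5 : ψ = 0 := by
        have : iso0.hom ≫ iso1.inv ≫ φ₁ ≫ ψ = ψ := by
          change iso0.hom ≫ iso1.inv ≫ (iso1.hom ≫ iso0.inv) ≫ ψ = ψ
          rw [assoc, Iso.inv_hom_id_assoc, Iso.hom_inv_id_assoc]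
        rw [← this, h4, Limits.comp_zero, Limits.comp_zero]
      exact hψ h5
  · -- both sides vanish
    obtain ⟨eF⟩ := nonempty_F_inD_equiv (IsLocalRing.maximalIdeal A) (IsLocalRing.ResidueField A)
      hkt i
    haveI := subsingleton_HD_inD (A := A) (IsLocalRing.ResidueField A) i hi
    haveI hF : Subsingleton (F (IsLocalRing.maximalIdeal A)
        ((Dual.inD A (IsLocalRing.ResidueField A))⟦i⟧)) := eF.toEquiv.subsingleton
    haveI hH : Subsingleton ((Dual.inD A (IsLocalRing.ResidueField A))⟦i⟧ ⟶ ω) :=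
      (shiftHomLinearEquiv' (Dual.inD A (IsLocalRing.ResidueField A)) ω i (-i)
        (by omega)).toEquiv.subsingleton_congr.2 (hn (-i) (by omega))
    haveI hG : Subsingleton (G ω E ((Dual.inD A (IsLocalRing.ResidueField A))⟦i⟧)) :=
      inferInstance
    exact ⟨fun a b _ => Subsingleton.elim a b, fun c => ⟨0, Subsingleton.elim _ _⟩⟩

end Base

end Groth.Agent.Lib.H6xLD
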