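import Mathlib
import Groth.Agent.Lib.H6xDTenMonC
set_option backward.isDefEq.respectTransparency.types false

/-!
# helper6: the derived tensor product is bilinear on morphisms
-/

set_option autoImplicit false
set_option linter.style.haveILetI false
set_option maxHeartbeats 400000
universe u
open CategoryTheory CategoryTheory.Limits MonoidalCategory HomologicalComplex
attribute [local instance] HasDerivedCategory.standard

namespace Groth.Agent.Lib.H6xRdc

open DTen DerivedCategory Groth.Agent.Lib.Helper1.KF Groth.Agent.Lib.Helper1.DT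
  Groth.Agent.Lib.H6xDTen

variable {A : Type u} [CommRing A]

lemma smul_id_whiskerRight (p : A) (K L : Cx A) : (p • 𝟙 K) ▷ L = p • 𝟙 (K ⊗ L) := by
  refine HomologicalComplex.hom_ext _ _ (fun n => ?_)
  apply tensor_hom_ext
  intro i j hij
  rw [ι_whiskerRight]
  simp only [HomologicalComplex.smul_f_apply, HomologicalComplex.id_f]
  rw [MonoidalLinear.smul_whiskerRight, MonoidalCategory.id_whiskerRight, Linear.smul_comp,
    Linear.comp_smul, Category.id_comp]
  erw [Category.comp_id]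

lemma whiskerLeft_smul_id (p : A) (K L : Cx A) : K ◁ (p • 𝟙 L) = p • 𝟙 (K ⊗ L) := by
  refine HomologicalComplex.hom_ext _ _ (fun n => ?_)
  apply tensor_hom_ext
  intro i j hij
  rw [ι_whiskerLeft]
  simp only [HomologicalComplex.smul_f_apply, HomologicalComplex.id_f]
  rw [MonoidalLinear.whiskerLeft_smul, MonoidalCategory.whiskerLeft_id, Linear.smul_comp,
    Linear.comp_smul, Category.id_comp]
  erw [Category.comp_id]

variable [HasLTen A]

lemma tH_smul_id_left_Q (p : A) (K L : Cx A) (hK : KFlat K) :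
    tH (p • 𝟙 (Q.obj K)) (𝟙 (Q.obj L)) = p • 𝟙 (tO (Q.obj K) (Q.obj L)) := by
  haveI : IsIso (εX K L) := isIso_εX K L (Or.inl hK)
  have h1 := εX_natural (p • 𝟙 K) (𝟙 L)
  rw [MonoidalCategory.tensorHom_id, smul_id_whiskerRight, Functor.map_smul, Functor.map_smul,
    CategoryTheory.Functor.map_id, CategoryTheory.Functor.map_id, CategoryTheory.Functor.map_id,
    Linear.comp_smul, Category.comp_id] at h1
  rw [← cancel_mono (εX K L), h1, Linear.smul_comp, Category.id_comp]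

lemma tH_id_smul_right_Q (p : A) (K L : Cx A) (hL : KFlat L) :
    tH (𝟙 (Q.obj K)) (p • 𝟙 (Q.obj L)) = p • 𝟙 (tO (Q.obj K) (Q.obj L)) := by
  haveI : IsIso (εX K L) := isIso_εX K L (Or.inr hL)
  have h1 := εX_natural (𝟙 K) (p • 𝟙 L)
  rw [MonoidalCategory.id_tensorHom, whiskerLeft_smul_id, Functor.map_smul, Functor.map_smul,
    CategoryTheory.Functor.map_id, CategoryTheory.Functor.map_id, CategoryTheory.Functor.map_id,
    Linear.comp_smul, Category.comp_id] at h1
  rw [← cancel_mono (εX K L), h1, Linear.smul_comp, Category.id_comp]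

lemma tH_smul_id_left (p : A) (X Y : Dual.D A) :
    tH (p • 𝟙 X) (𝟙 Y) = p • 𝟙 (tO X Y) := by
  obtain ⟨K, hK, ⟨e⟩⟩ := exists_kflat_iso X
  obtain ⟨L, ⟨e'⟩⟩ : ∃ L : Cx A, Nonempty (Q.obj L ≅ Y) := ⟨_, ⟨Q.objObjPreimageIso Y⟩⟩
  have h1 : p • 𝟙 X = e.inv ≫ (p • 𝟙 (Q.obj K)) ≫ e.hom := by
    rw [Linear.smul_comp, Linear.comp_smul, Category.id_comp, Iso.inv_hom_id]
  have h2 : 𝟙 Y = e'.inv ≫ 𝟙 (Q.obj L) ≫ e'.hom := by
    rw [Category.id_comp, Iso.inv_hom_id]
  rw [h1, h2, ← tH_comp, ← tH_comp, tH_smul_id_left_Q p K L hK, Linear.smul_comp,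
    Linear.comp_smul, Category.id_comp, tH_comp, Iso.inv_hom_id, Iso.inv_hom_id, tH_id]

lemma tH_id_smul_right (p : A) (X Y : Dual.D A) :
    tH (𝟙 X) (p • 𝟙 Y) = p • 𝟙 (tO X Y) := by
  obtain ⟨L, hL, ⟨e'⟩⟩ := exists_kflat_iso Y
  obtain ⟨K, ⟨e⟩⟩ : ∃ K : Cx A, Nonempty (Q.obj K ≅ X) := ⟨_, ⟨Q.objObjPreimageIso X⟩⟩
  have h1 : p • 𝟙 Y = e'.inv ≫ (p • 𝟙 (Q.obj L)) ≫ e'.hom := by
    rw [Linear.smul_comp, Linear.comp_smul, Category.id_comp, Iso.inv_hom_id]
  have h2 : 𝟙 X = e.inv ≫ 𝟙 (Q.obj K) ≫ e.hom := by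
    rw [Category.id_comp, Iso.inv_hom_id]
  rw [h1, h2, ← tH_comp, ← tH_comp, tH_id_smul_right_Q p K L hL, Linear.smul_comp,
    Linear.comp_smul, Category.id_comp, tH_comp, Iso.inv_hom_id, Iso.inv_hom_id, tH_id]

/-- the derived tensor product is linear in the first variable -/
theorem tH_smul_left (p : A) {X X' Y Y' : Dual.D A} (f : X ⟶ X') (g : Y ⟶ Y') :
    tH (p • f) g = p • tH f g := by
  have h1 : p • f = (p • 𝟙 X) ≫ f := by rw [Linear.smul_comp, Category.id_comp]
  have h2 : g = 𝟙 Y ≫ g := (Category.id_comp g).symm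
  rw [h1]
  conv_lhs => rw [h2]
  rw [← tH_comp, tH_smul_id_left, Linear.smul_comp, Category.id_comp]

/-- the derived tensor product is linear in the second variable -/
theorem tH_smul_right (p : A) {X X' Y Y' : Dual.D A} (f : X ⟶ X') (g : Y ⟶ Y') :
    tH f (p • g) = p • tH f g := by
  have h1 : p • g = (p • 𝟙 Y) ≫ g := by rw [Linear.smul_comp, Category.id_comp]
  have h2 : f = 𝟙 X ≫ f := (Category.id_comp f).symm
  rw [h1]
  conv_lhs => rw [h2]
  rw [← tH_comp, tH_id_smul_right, Linear.smul_comp, Category.id_comp]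

end Groth.Agent.Lib.H6xRdc
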