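import Mathlib
set_option backward.isDefEq.respectTransparency.types false

/-!
# helper6: generalities on the maps `a ↦ a • 𝟙 X` in a linear category with shifts
-/

set_option autoImplicit false
universe u
open CategoryTheory

namespace Groth.Agent.Lib.H6xRdc

section Ring

variable {A : Type*} [CommRing A] {C : Type*} [Category C] [Preadditive C] [Linear A C]

/-- if `End X` is abstractly isomorphic to `A`, compatibly with the `A`-action, then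
`a ↦ a • 𝟙 X` is bijective -/
theorem bijective_smul_id_of_equiv (X : C) (Θ : (X ⟶ X) ≃ A)
    (hΘ : ∀ (a : A) (f : X ⟶ X), Θ (a • f) = a * Θ f) :
    Function.Bijective (fun a : A => a • 𝟙 X) := by
  have hg1 : Θ (Θ.symm 1) = 1 := Θ.apply_symm_apply 1
  have hg : ∀ f : X ⟶ X, f = Θ f • Θ.symm 1 := fun f => Θ.injective (by rw [hΘ, hg1, mul_one])
  have h1 : 𝟙 X = Θ (𝟙 X) • Θ.symm 1 := hg _
  have h2 : Θ.symm 1 ≫ Θ.symm 1 = Θ (Θ.symm 1 ≫ Θ.symm 1) • Θ.symm 1 := hg _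
  have h3 : Θ.symm 1 = (Θ (𝟙 X) * Θ (Θ.symm 1 ≫ Θ.symm 1)) • Θ.symm 1 := by
    calc Θ.symm 1 = 𝟙 X ≫ Θ.symm 1 := (Category.id_comp _).symm
      _ = (Θ (𝟙 X) • Θ.symm 1) ≫ Θ.symm 1 := by rw [← h1]
      _ = Θ (𝟙 X) • (Θ.symm 1 ≫ Θ.symm 1) := Linear.smul_comp _ _ _ _ _ _
      _ = Θ (𝟙 X) • (Θ (Θ.symm 1 ≫ Θ.symm 1) • Θ.symm 1) := by rw [← h2]
      _ = (Θ (𝟙 X) * Θ (Θ.symm 1 ≫ Θ.symm 1)) • Θ.symm 1 := smul_smul _ _ _
  have h4 : Θ (𝟙 X) * Θ (Θ.symm 1 ≫ Θ.symm 1) = 1 := by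
    have := congrArg Θ h3
    rw [hΘ, hg1, mul_one] at this
    exact this.symm
  have h5 : ∀ a : A, Θ (a • 𝟙 X) = a * Θ (𝟙 X) := fun a => hΘ a (𝟙 X)
  constructor
  · intro a b hab
    have := congrArg Θ hab
    simp only [h5] at this
    have h6 := congrArg (fun t => t * Θ (Θ.symm 1 ≫ Θ.symm 1)) this
    simp only [mul_assoc, h4, mul_one] at h6
    exact h6
  · intro f
    refine ⟨Θ f * Θ (Θ.symm 1 ≫ Θ.symm 1), Θ.injective ?_⟩
    change Θ ((Θ f * Θ (Θ.symm 1 ≫ Θ.symm 1)) • 𝟙 X) = Θ f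
    rw [h5, mul_assoc, mul_comm (Θ (Θ.symm 1 ≫ Θ.symm 1)), h4, mul_one]

theorem bijective_smul_id_of_iso {X Y : C} (e : X ≅ Y)
    (h : Function.Bijective (fun a : A => a • 𝟙 X)) :
    Function.Bijective (fun a : A => a • 𝟙 Y) := by
  have h1 : (fun a : A => a • 𝟙 Y) = (fun f : X ⟶ X => e.inv ≫ f ≫ e.hom) ∘
      (fun a : A => a • 𝟙 X) := by
    funext a
    change a • 𝟙 Y = e.inv ≫ (a • 𝟙 X) ≫ e.hom
    rw [Linear.smul_comp, Linear.comp_smul, Category.id_comp, Iso.inv_hom_id]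
  rw [h1]
  refine Function.Bijective.comp ?_ h
  refine ⟨fun f g hfg => ?_, fun f => ⟨e.hom ≫ f ≫ e.inv, ?_⟩⟩
  · have := congrArg (fun t => e.hom ≫ t ≫ e.inv) hfg
    simpa using this
  · simp

end Ring

section Shift

variable {A : Type*} [CommRing A] {C : Type*} [Category C] [Preadditive C] [Linear A C]
  [HasShift C ℤ] [∀ n : ℤ, (shiftFunctor C n).Linear A]

theorem bijective_smul_id_shift (X : C) (n : ℤ)
    (h : Function.Bijective (fun a : A => a • 𝟙 X)) :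
    Function.Bijective (fun a : A => a • 𝟙 (X⟦n⟧)) := by
  have h1 : (fun a : A => a • 𝟙 (X⟦n⟧)) = (fun f : X ⟶ X => (shiftFunctor C n).map f) ∘
      (fun a : A => a • 𝟙 X) := by
    funext a
    change a • 𝟙 (X⟦n⟧) = (shiftFunctor C n).map (a • 𝟙 X)
    rw [Functor.map_smul, CategoryTheory.Functor.map_id]
  rw [h1]
  exact Function.Bijective.comp
    ⟨(shiftFunctor C n).map_injective, (shiftFunctor C n).map_surjective⟩ h

theorem subsingleton_hom_shift (X : C) (n i : ℤ) (h : Subsingleton (X ⟶ X⟦i⟧)) :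
    Subsingleton (X⟦n⟧ ⟶ (X⟦n⟧)⟦i⟧) := by
  refine ⟨fun f g => ?_⟩
  let c : (X⟦n⟧)⟦i⟧ ≅ (X⟦i⟧)⟦n⟧ := shiftComm X n i
  obtain ⟨f', hf'⟩ := (shiftFunctor C n).map_surjective (f ≫ c.hom)
  obtain ⟨g', hg'⟩ := (shiftFunctor C n).map_surjective (g ≫ c.hom)
  have : f' = g' := Subsingleton.elim _ _
  rw [this, hg'] at hf'
  exact (cancel_mono c.hom).1 hf'.symm

end Shift

end Groth.Agent.Lib.H6xRdc
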