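import Mathlib
import Groth.Agent.Lib.H6xPCevD
import Groth.Agent.Lib.H6xRdcA
import Groth.Agent.Lib.H6xRdcC
import Groth.Agent.Lib.H6xBidL
import Groth.Agent.Lib.H6xLDD
set_option backward.isDefEq.respectTransparency.types false

/-!
# helper6: `A ≅ RHom(ω, ω)` in `D(A)` for a dualizing complex `ω`

* `bijective_smul_id_unit`: `End(𝟙) = A`;
* `cU ω : 𝟙 ⟶ RHom(ω, ω)` (adjunct of the left unitor), `isIso_cU`: it is an isomorphism when `ω`
  is dualizing.
-/

set_option autoImplicit false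
set_option linter.style.haveILetI false
universe u
open CategoryTheory CategoryTheory.Limits MonoidalCategory Pretriangulated
attribute [local instance] HasDerivedCategory.standard

namespace Groth.Agent.Lib.H6xBrg

open DerivedCategory DTen Groth.Agent.Lib.H6xDTen Groth.Agent.Lib.H6xPCev Groth.Agent.Lib.H6xRdc

section Gen

variable {A : Type*} [CommRing A] {C : Type*} [Category C] [Preadditive C] [Linear A C]

lemma bijective_of_semilinear {M N : Type*} [AddCommGroup M] [Module A M] [AddCommGroup N]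
    [Module A N] (Φ : M → N) (hΦ : ∀ (a : A) (m : M), Φ (a • m) = a • Φ m) (m₀ : M)
    (hM : Function.Bijective (fun a : A => a • m₀))
    (hN : Function.Bijective (fun a : A => a • Φ m₀)) : Function.Bijective Φ := by
  refine (Function.Bijective.of_comp_iff Φ hM).1 ?_
  have : Φ ∘ (fun a : A => a • m₀) = (fun a : A => a • Φ m₀) := funext (fun a => hΦ a m₀)
  rw [this]
  exact hN

lemma bijective_smul_iso_of_right {X Y : C} (e : X ≅ Y)
    (h : Function.Bijective (fun a : A => a • 𝟙 Y)) :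
    Function.Bijective (fun a : A => a • e.hom) := by
  have h1 : (fun a : A => a • e.hom) = (fun f : Y ⟶ Y => e.hom ≫ f) ∘ (fun a : A => a • 𝟙 Y) := by
    funext a
    change a • e.hom = e.hom ≫ (a • 𝟙 Y)
    rw [Linear.comp_smul, Category.comp_id]
  rw [h1]
  refine Function.Bijective.comp ?_ h
  refine ⟨fun f g hfg => (cancel_epi e.hom).1 hfg, fun f => ⟨e.inv ≫ f, ?_⟩⟩
  simp

lemma bijective_smul_iso_of_left {X Y : C} (e : X ≅ Y)
    (h : Function.Bijective (fun a : A => a • 𝟙 X)) :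
    Function.Bijective (fun a : A => a • e.hom) := by
  have h1 : (fun a : A => a • e.hom) = (fun f : X ⟶ X => f ≫ e.hom) ∘ (fun a : A => a • 𝟙 X) := by
    funext a
    change a • e.hom = (a • 𝟙 X) ≫ e.hom
    rw [Linear.smul_comp, Category.id_comp]
  rw [h1]
  refine Function.Bijective.comp ?_ h
  refine ⟨fun f g hfg => (cancel_mono e.hom).1 hfg, fun f => ⟨f ≫ e.inv, ?_⟩⟩
  simp

end Gen

section Unit

variable {A : Type u} [CommRing A]

lemma bijective_smul_id_inD : Function.Bijective (fun a : A => a • 𝟙 (Dual.inD A A)) := by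
  have h1 : (fun a : A => a • 𝟙 (Dual.inD A A)) =
      (fun f : ModuleCat.of A A ⟶ ModuleCat.of A A =>
        (DerivedCategory.singleFunctor (ModuleCat.{u} A) 0).map f) ∘
        (fun a : A => a • 𝟙 (ModuleCat.of A A)) := by
    funext a
    change _ = (DerivedCategory.singleFunctor (ModuleCat.{u} A) 0).map (a • 𝟙 _)
    rw [Functor.map_smul, CategoryTheory.Functor.map_id]
  rw [h1]
  refine Function.Bijective.comp
    ⟨(DerivedCategory.singleFunctor (ModuleCat.{u} A) 0).map_injective,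
      (DerivedCategory.singleFunctor (ModuleCat.{u} A) 0).map_surjective⟩ ?_
  constructor
  · intro a b hab
    have := congrArg (fun f => (ModuleCat.Hom.hom f) (1 : A)) hab
    simpa using this
  · intro f
    refine ⟨f.hom (1 : A), ?_⟩
    apply ModuleCat.hom_ext
    apply LinearMap.ext_ring
    simp

lemma bijective_smul_id_unit : Function.Bijective (fun a : A => a • 𝟙 (DTen.unit A)) :=
  bijective_smul_id_of_iso (unitIsoInD (A := A)).symm bijective_smul_id_inD

lemma subsingleton_V_hom_unit (q : ℤ) (hq : q ≠ 0) : Subsingleton (V A q ⟶ DTen.unit A) := by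
  have e : (V A q ⟶ DTen.unit A) ≃ (Dual.inD A A ⟶ (DTen.unit A)⟦q⟧) :=
    (shEquiv' (DTen.unit A) (DTen.unit A) q).trans ((unitIsoInD (A := A)).homFromEquiv)
  obtain ⟨l⟩ := Groth.Agent.Lib.H6xBid.nonempty_hom_linearEquiv_HD (DTen.unit A) q
  haveI : Subsingleton (Dual.HD A (DTen.unit A) q) := by
    haveI := Groth.Agent.Lib.H6xLD.subsingleton_HD_inD (A := A) A q hq
    exact (((DerivedCategory.homologyFunctor (ModuleCat.{u} A) q).mapIso
      (unitIsoInD (A := A))).toLinearEquiv.toEquiv).subsingleton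
  exact (e.trans l.toEquiv).subsingleton

end Unit

section CU

variable {A : Type u} [CommRing A] [HasLTen A] [HasLTen₃ A] [IsSymMonoidal A] [HasRHom A]

/-- the canonical map `𝟙 ⟶ RHom(ω, ω)` -/
noncomputable def cU (ω : Dual.D A) : DTen.unit A ⟶ (RHomR A ω).obj ω :=
  rhomHomEquiv (DTen.unit A) ω ω (DTen.leftUnitor ω).hom

/-- the composite `Hom(V q, 𝟙) → Hom(V q, RHom(ω, ω)) ≃ Hom(ω, ω⟦q⟧)` -/
noncomputable def ΦU (ω : Dual.D A) (q : ℤ) (g : V A q ⟶ DTen.unit A) : ω ⟶ ω⟦q⟧ :=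
  shEquiv ω ω q ((β (A := A) (-q)).inv.app ω ≫ tH g (𝟙 ω) ≫ (DTen.leftUnitor ω).hom)

lemma homRHomEquiv_comp_cU (ω : Dual.D A) (q : ℤ) (g : V A q ⟶ DTen.unit A) :
    homRHomEquiv q ω ω (g ≫ cU ω) = ΦU ω q g := by
  unfold homRHomEquiv ΦU
  simp only [Equiv.trans_apply, Iso.homFromEquiv_apply, Iso.app_inv]
  congr 2
  have h1 : (rhomHomEquiv (V A q) ω ω).symm (g ≫ cU ω) =
      tH g (𝟙 ω) ≫ (rhomHomEquiv (DTen.unit A) ω ω).symm (cU ω) :=
    (rhomAdj A ω).homEquiv_naturality_left_symm g (cU ω)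
  rw [h1, cU, Equiv.symm_apply_apply]

omit [HasLTen A] [HasLTen₃ A] [IsSymMonoidal A] [HasRHom A] in
lemma shEquiv_smul (X Y : Dual.D A) (n : ℤ) (a : A) (x : X⟦-n⟧ ⟶ Y) :
    shEquiv X Y n (a • x) = a • shEquiv X Y n x := by
  have h1 : a • x = x ≫ (a • 𝟙 Y) := by rw [Linear.comp_smul, Category.comp_id]
  rw [h1, shEquiv_nat_right, Functor.map_smul, CategoryTheory.Functor.map_id, Linear.comp_smul,
    Category.comp_id]

lemma ΦU_smul (ω : Dual.D A) (q : ℤ) (a : A) (g : V A q ⟶ DTen.unit A) :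
    ΦU ω q (a • g) = a • ΦU ω q g := by
  unfold ΦU
  rw [tH_smul_left, Linear.smul_comp, Linear.comp_smul, shEquiv_smul]

lemma isIso_shEquiv {C : Type*} [Category C] [HasShift C ℤ] (X Y : C) (n : ℤ) (x : X⟦-n⟧ ⟶ Y)
    [IsIso x] : IsIso (shEquiv X Y n x) := by
  have h : shEquiv X Y n x =
      (shiftEquiv' C (-n) n (neg_add_cancel n)).toAdjunction.unit.app X ≫
        (shiftEquiv' C (-n) n (neg_add_cancel n)).inverse.map x :=
    Adjunction.homEquiv_unit _ _ _ _
  rw [h]
  have h1 : IsIso ((shiftEquiv' C (-n) n (neg_add_cancel n)).inverse.map x) :=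
    Functor.map_isIso _ _
  have h2 : IsIso ((shiftEquiv' C (-n) n (neg_add_cancel n)).toAdjunction.unit.app X) :=
    inferInstanceAs (IsIso ((shiftEquiv' C (-n) n (neg_add_cancel n)).unit.app X))
  exact @IsIso.comp_isIso _ _ _ _ _ _ _ h2 h1

end CU

section Main

variable {A : Type u} [CommRing A] [HasLTen A] [HasLTen₃ A] [IsSymMonoidal A] [HasRHom A]
  (ω : Dual.D A) (hω : Dual.IsDualizing A ω)

/-- `V 0 ≅ 𝟙` -/
noncomputable def V0Iso : V A 0 ≅ DTen.unit A :=
  (shiftFunctorZero' (Dual.D A) (-0 : ℤ) (by simp)).app (DTen.unit A)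

include hω in
lemma bijective_ΦU (q : ℤ) : Function.Bijective (ΦU ω q) := by
  by_cases hq : q = 0
  · subst hq
    refine bijective_of_semilinear (A := A) (ΦU ω 0) (fun a g => ΦU_smul ω 0 a g)
      (V0Iso (A := A)).hom (bijective_smul_iso_of_right _ bijective_smul_id_unit) ?_
    haveI : IsIso (ΦU ω 0 (V0Iso (A := A)).hom) := by
      unfold ΦU
      exact isIso_shEquiv _ _ _ _
    exact bijective_smul_iso_of_left (asIso (ΦU ω 0 (V0Iso (A := A)).hom)) hω.toEnd_bijective
  · haveI := subsingleton_V_hom_unit (A := A) q hq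
    haveI := hω.ext_self_subsingleton q hq
    exact ⟨fun _ _ _ => Subsingleton.elim _ _, fun y => ⟨0, Subsingleton.elim _ _⟩⟩

include hω in
lemma bijective_postc_cU (q : ℤ) : Function.Bijective (postc (V A q) (cU ω)) := by
  have h1 : (homRHomEquiv q ω ω) ∘ (postc (V A q) (cU ω)) = ΦU ω q :=
    funext (fun g => homRHomEquiv_comp_cU ω q g)
  have h2 := bijective_ΦU ω hω q
  rw [← h1] at h2
  exact (Function.Bijective.of_comp_iff' (homRHomEquiv q ω ω).bijective _).1 h2

include hω in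
/-- **`A ≅ RHom(ω, ω)`** for a dualizing complex -/
theorem isIso_cU : IsIso (cU ω) := by
  obtain ⟨Z, v, w, hT⟩ := distinguished_cocone_triangle (cU ω)
  have h1 : Z.IsGE 1 := isGE_obj₃_of_V _ hT 1
    (fun q _ => (bijective_postc_cU ω hω q).2) (fun q _ => (bijective_postc_cU ω hω q).1)
  have h0 : Z.IsLE 0 := isLE_obj₃_of_V _ hT 0
    (fun q _ => (bijective_postc_cU ω hω q).2) (fun q _ => (bijective_postc_cU ω hω q).1)
  have hz : IsZero Z := DerivedCategory.TStructure.t.isZero Z 0 1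
  exact (Triangle.isZero₃_iff_isIso₁ _ hT).1 hz

end Main

end Groth.Agent.Lib.H6xBrg
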