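import Mathlib
import Groth.Agent.Lib.H6xLDD
import Groth.Agent.Lib.Helper28DepthFlat
import Groth.Agent.S0817
import Groth.Agent.S11610
set_option backward.isDefEq.respectTransparency.types false

/-!
# Local duality: all finite modules (helper6)

`P(M[0])` for every finite module `M` over a Noetherian local ring with a normalized dualizing
complex: `colim_n Hom(A/𝔪^n, M⟦i⟧) ≃ Hom_A(Hom(M⟦i⟧, ω), E)` via the duality map.
-/

set_option autoImplicit false
set_option linter.style.haveILetI false
universe u

namespace Groth.Agent.Lib.H6xLD

open CategoryTheory CategoryTheory.Limits Category Pretriangulated DerivedCategory Opposite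
open Groth.Agent.Lib.H6xRGam Groth.Agent.Lib.H6xDual Groth.Agent.Lib.H6xLDual
  Groth.Agent.Lib.H6xLCDual Groth.Agent.Lib.H6xDep
attribute [local instance] HasDerivedCategory.standard

section FL

variable {A : Type u} [CommRing A] [IsLocalRing A] [IsNoetherianRing A]

/-- a finite `𝔪`-power torsion module has finite length -/
lemma isFiniteLength_of_isPowerTorsion (N : Type u) [AddCommGroup N] [Module A N]
    [Module.Finite A N] (hN : LocCoh.IsPowerTorsion (IsLocalRing.maximalIdeal A) N) :
    IsFiniteLength A N := by
  classical
  obtain ⟨s, hs⟩ := Module.finite_def.1 (inferInstance : Module.Finite A N)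
  choose n hn using hN
  have hk : ∀ a ∈ IsLocalRing.maximalIdeal A ^ s.sup n, ∀ x : N, a • x = 0 := by
    intro a ha x
    have h0 : LinearMap.lsmul A N a = 0 :=
      LinearMap.ext_on hs (fun t ht => hn t a (Ideal.pow_le_pow_right (Finset.le_sup ht) ha))
    exact LinearMap.congr_fun h0 x
  have hbot : (IsLocalRing.maximalIdeal A ^ s.sup n • ⊤ : Submodule A N) = ⊥ := by
    rw [eq_bot_iff]
    apply Submodule.smul_le.2
    intro a ha x _
    rw [hk a ha x]
    exact Submodule.zero_mem _
  have h1 := Groth.Agent.Lib.Helper28.isFiniteLength_quotient_maximalIdeal_pow_smul_top (R := A)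
    (s.sup n) N
  exact (Submodule.quotEquivOfEqBot _ hbot).isFiniteLength h1

end FL

section Main

variable {A : Type u} [CommRing A] [IsLocalRing A] [IsNoetherianRing A]
  (ω : Dual.D A) (hω : Dual.IsDualizing A ω) (hn : Dual.IsNormalized A ω)
  (E : Type u) [AddCommGroup E] [Module A E] (f : IsLocalRing.ResidueField A →ₗ[A] E)
  (hf : InjHull.IsInjectiveHull f) (e : F (IsLocalRing.maximalIdeal A) ω ≃ₗ[A] E)

include hω hn hf in
/-- `P` for modules of finite length -/
theorem P_of_isFiniteLength (N : Type u) [AddCommGroup N] [Module A N]
    (hN : IsFiniteLength A N) :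
    P (IsLocalRing.maximalIdeal A) ω E e.toLinearMap (Dual.inD A N) := by
  haveI : Module.Injective A E := hf.isInjective
  induction hN with
  | of_subsingleton =>
    rename_i M _ _ _
    have hz : IsZero (ModuleCat.of A M) := ModuleCat.isZero_of_subsingleton _
    exact P_of_isZero (Functor.map_isZero _ hz)
  | of_simple_quotient hN ih =>
    rename_i M _ _ N hs
    obtain ⟨J, hJ, ⟨e'⟩⟩ := isSimpleModule_iff_quot_maximal.1 hs
    have hJm : J = IsLocalRing.maximalIdeal A := IsLocalRing.eq_maximalIdeal hJ
    subst hJm
    have h3 : P (IsLocalRing.maximalIdeal A) ω E e.toLinearMap (sg (subSES N).X₃) :=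
      P_of_iso ((DerivedCategory.singleFunctor (ModuleCat.{u} A) 0).mapIso e'.toModuleIso).symm
        (P_residueField ω hω hn E f hf e)
    exact P_mid _ (subSES_shortExact N).singleTriangle_distinguished ih h3

include hω hn hf in
/-- `P` for all finite modules -/
theorem P_of_finite (M : Type u) [AddCommGroup M] [Module A M] [Module.Finite A M] :
    P (IsLocalRing.maximalIdeal A) ω E e.toLinearMap (Dual.inD A M) := by
  haveI : Module.Injective A E := hf.isInjective
  have hEt : LocCoh.IsPowerTorsion (IsLocalRing.maximalIdeal A) E :=
    Groth.Agent.S0311.result A E f hf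
  have key : ∀ J : Ideal A, ∀ (M : Type u) [AddCommGroup M] [Module A M] [Module.Finite A M],
      J ≤ Module.annihilator A M →
        P (IsLocalRing.maximalIdeal A) ω E e.toLinearMap (Dual.inD A M) := by
    intro J
    induction J using IsNoetherian.induction with
    | hgt J ih =>
      intro M _ _ _ hJM
      -- the torsion part
      set Γ : Submodule A M := DRing.torsionSub (IsLocalRing.maximalIdeal A) M with hΓ
      have hΓt : LocCoh.IsPowerTorsion (IsLocalRing.maximalIdeal A) Γ := by
        rintro ⟨x, n, hx⟩
        exact ⟨n, fun a ha => Subtype.ext (hx a ha)⟩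
      have hΓfl : IsFiniteLength A Γ := isFiniteLength_of_isPowerTorsion Γ hΓt
      have h1 : P (IsLocalRing.maximalIdeal A) ω E e.toLinearMap (sg (subSES Γ).X₁) :=
        P_of_isFiniteLength ω hω hn E f hf e Γ hΓfl
      -- the torsion free quotient
      have h3 : P (IsLocalRing.maximalIdeal A) ω E e.toLinearMap (sg (subSES Γ).X₃) := by
        change P (IsLocalRing.maximalIdeal A) ω E e.toLinearMap (Dual.inD A (M ⧸ Γ))
        by_cases hsub : Subsingleton (M ⧸ Γ)
        · have hz : IsZero (ModuleCat.of A (M ⧸ Γ)) := ModuleCat.isZero_of_subsingleton _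
          exact P_of_isZero (Functor.map_isZero _ hz)
        · rw [not_subsingleton_iff_nontrivial] at hsub
          have htf := Groth.Agent.S0817.torsionSub_quotient_eq_bot (IsLocalRing.maximalIdeal A) M
          obtain ⟨r, hr, hreg⟩ := Groth.Agent.S11610.result A A (IsLocalRing.maximalIdeal A)
            (M ⧸ Γ) (by
              rw [Algebra.algebraMap_self, Ideal.map_id]
              exact htf)
          rw [Algebra.algebraMap_self, RingHom.id_apply] at hreg
          have hJM' : J ≤ Module.annihilator A (M ⧸ Γ) := by
            intro a ha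
            rw [Module.mem_annihilator]
            intro y
            obtain ⟨x, rfl⟩ := Submodule.Quotient.mk_surjective _ y
            rw [← Submodule.Quotient.mk_smul, (Module.mem_annihilator.1 (hJM ha)) x,
              Submodule.Quotient.mk_zero]
          have hrJ : r ∉ J := by
            intro hrJ
            obtain ⟨y, hy⟩ := exists_ne (0 : M ⧸ Γ)
            apply hy
            apply hreg
            change r • y = r • 0
            rw [(Module.mem_annihilator.1 (hJM' hrJ)) y, smul_zero]
          have hlt : J < J ⊔ Ideal.span {r} := by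
            refine lt_of_le_of_ne le_sup_left (fun h => hrJ ?_)
            rw [h]
            exact Ideal.mem_sup_right (Ideal.subset_span rfl)
          have hann : J ⊔ Ideal.span {r} ≤ Module.annihilator A (QuotSMulTop r (M ⧸ Γ)) := by
            rw [sup_le_iff, Ideal.span_singleton_le_iff_mem]
            constructor
            · intro a ha
              rw [Module.mem_annihilator]
              intro y
              obtain ⟨x, rfl⟩ := Submodule.Quotient.mk_surjective _ y
              rw [← Submodule.Quotient.mk_smul, (Module.mem_annihilator.1 (hJM' ha)) x,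
                Submodule.Quotient.mk_zero]
            · rw [Module.mem_annihilator]
              intro y
              obtain ⟨x, rfl⟩ := Submodule.Quotient.mk_surjective _ y
              rw [← Submodule.Quotient.mk_smul, Submodule.Quotient.mk_eq_zero]
              exact Submodule.smul_mem_pointwise_smul x r ⊤ Submodule.mem_top
          have hZ := ih (J ⊔ Ideal.span {r}) hlt (QuotSMulTop r (M ⧸ Γ)) hann
          have hS := hreg.smulShortComplex_shortExact (M := ModuleCat.of A (M ⧸ Γ))
          have hT := hS.singleTriangle_distinguished
          have hmor : hS.singleTriangle.mor₁ = r • 𝟙 (Dual.inD A (M ⧸ Γ)) := by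
            change (DerivedCategory.singleFunctor (ModuleCat.{u} A) 0).map
              (r • 𝟙 (ModuleCat.of A (M ⧸ Γ))) = _
            rw [Functor.map_smul, CategoryTheory.Functor.map_id]
          have hT' : Triangle.mk (r • 𝟙 (Dual.inD A (M ⧸ Γ))) hS.singleTriangle.mor₂
              hS.singleTriangle.mor₃ ∈ distTriang (Dual.D A) := by
            rw [← hmor]
            exact hT
          refine P_of_regular _ _ r hT' hZ (fun i z => ?_) (fun i c => ?_)
          · obtain ⟨k, hk⟩ := isPowerTorsion_F (IsLocalRing.maximalIdeal A) _ z
            exact ⟨k, hk _ (Ideal.pow_mem_pow hr k)⟩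
          · haveI : Module.Finite A ((Dual.inD A (M ⧸ Γ))⟦i⟧ ⟶ ω) := by
              haveI := finite_hom ω hω (M ⧸ Γ) (-i)
              exact Module.Finite.equiv
                (shiftHomLinearEquiv' (Dual.inD A (M ⧸ Γ)) ω i (-i) (by omega)).symm
            obtain ⟨k, hk⟩ := isPowerTorsion_linearMap (IsLocalRing.maximalIdeal A) E hEt c
            exact ⟨k, hk _ (Ideal.pow_mem_pow hr k)⟩
      exact P_mid _ (subSES_shortExact Γ).singleTriangle_distinguished h1 h3
  exact key ⊥ M bot_le

end Main

end Groth.Agent.Lib.H6xLD
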