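import Mathlib
import Groth.Agent.Lib.H6xLDA
import Groth.Agent.Lib.Helper8LC
import Groth.Agent.Lib.Helper8BridgeT4
set_option backward.isDefEq.respectTransparency.types false

/-!
# Mathlib's local cohomology of a module versus `colim_n Hom_{D(A)}(A/I^n, M⟦i⟧)` (helper6)
-/

set_option autoImplicit false
set_option linter.style.haveILetI false
universe u

namespace Groth.Agent.Lib.H6xLD

open CategoryTheory CategoryTheory.Limits Category Pretriangulated DerivedCategory Opposite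
open Groth.Agent.Lib.Helper8.ExtLES Groth.Agent.Lib.Helper8.LC Groth.Agent.Lib.Helper8.Bridge
open CategoryTheory.Abelian
attribute [local instance] HasDerivedCategory.standard

variable {A : Type u} [CommRing A] (I : Ideal A) (i : ℕ) (M : Type u) [AddCommGroup M] [Module A M]

/-- `Ext^i(A/I^k, M) ≃ Hom_{D(A)}(A/I^k, M⟦i⟧)` -/
noncomputable def Θ (k : ℕ) :
    E i (Xk I k) (ModuleCat.of A M) ≃ₗ[A] (S I k ⟶ (Dual.inD A M)⟦(i : ℤ)⟧) :=
  (Ψ i (Xk I k) (ModuleCat.of A M)) ≪≫ₗ (Ext.homLinearEquiv (R := A))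

lemma Θ_Epre {k l : ℕ} (h : k ≤ l) (x : E i (Xk I k) (ModuleCat.of A M)) :
    Θ I i M l ((Epre i (tr I h) (ModuleCat.of A M)).hom x) = t I h ≫ Θ I i M k x := by
  change (Ext.homLinearEquiv (R := A)) (Ψ i (Xk I l) (ModuleCat.of A M)
    ((Epre i (tr I h) (ModuleCat.of A M)).hom x)) = _
  rw [Ψ_Epre]
  change ((Ext.mk₀ (tr I h)).comp (Ψ i (Xk I k) (ModuleCat.of A M) x) (zero_add i)).hom = _
  rw [Ext.comp_hom, Ext.mk₀_hom, ShiftedHom.mk₀_comp]
  rfl

lemma Θ_symm_t {k l : ℕ} (h : k ≤ l) (φ : S I k ⟶ (Dual.inD A M)⟦(i : ℤ)⟧) :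
    (Θ I i M l).symm (t I h ≫ φ) =
      (Epre i (tr I h) (ModuleCat.of A M)).hom ((Θ I i M k).symm φ) := by
  apply (Θ I i M l).injective
  rw [LinearEquiv.apply_symm_apply, Θ_Epre, LinearEquiv.apply_symm_apply]

/-- the comparison map -/
noncomputable def toH : F I ((Dual.inD A M)⟦(i : ℤ)⟧) →ₗ[A] LocCoh.H I i M :=
  Module.DirectLimit.lift A ℕ (fun n : ℕ => S I n ⟶ (Dual.inD A M)⟦(i : ℤ)⟧)
    (fs I ((Dual.inD A M)⟦(i : ℤ)⟧))
    (fun k => (cls I i (ModuleCat.of A M) k).hom ∘ₗ (Θ I i M k).symm.toLinearMap)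
    (fun k l h φ => by
      change (cls I i (ModuleCat.of A M) l).hom ((Θ I i M l).symm (t I h ≫ φ)) =
        (cls I i (ModuleCat.of A M) k).hom ((Θ I i M k).symm φ)
      rw [Θ_symm_t]
      exact cls_restrict I i (ModuleCat.of A M) h _)

lemma toH_ofF (k : ℕ) (φ : S I k ⟶ (Dual.inD A M)⟦(i : ℤ)⟧) :
    toH I i M (ofF I _ k φ) = (cls I i (ModuleCat.of A M) k).hom ((Θ I i M k).symm φ) :=
  Module.DirectLimit.lift_of _ _ _

theorem toH_bijective : Function.Bijective (toH I i M) := by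
  constructor
  · rw [injective_iff_map_eq_zero]
    intro z hz
    obtain ⟨k, φ, rfl⟩ := exists_ofF I _ z
    rw [toH_ofF] at hz
    obtain ⟨m, hk, h0⟩ := (cls_eq_zero_iff I i (ModuleCat.of A M) _).1 hz
    have h1 : t I hk ≫ φ = 0 := by
      have := congrArg (Θ I i M m) h0
      rw [Θ_Epre, LinearEquiv.apply_symm_apply, map_zero] at this
      exact this
    rw [← ofF_t I _ hk φ, h1, map_zero]
  · intro y
    obtain ⟨k, x, rfl⟩ := exists_rep I i (ModuleCat.of A M) y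
    refine ⟨ofF I _ k (Θ I i M k x), ?_⟩
    rw [toH_ofF, LinearEquiv.symm_apply_apply]

/-- **Bridge**: `colim_n Hom_{D(A)}(A/I^n, M⟦i⟧) ≃ H^i_I(M)` -/
noncomputable def HEquiv : F I ((Dual.inD A M)⟦(i : ℤ)⟧) ≃ₗ[A] LocCoh.H I i M :=
  LinearEquiv.ofBijective (toH I i M) (toH_bijective I i M)

end Groth.Agent.Lib.H6xLD
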