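import Mathlib
import Groth.Agent.Lib.H6xLDE
import Groth.Agent.Lib.H6xLDF
set_option backward.isDefEq.respectTransparency.types false

/-!
# Grothendieck local duality for finite modules (helper6)

`H^i_𝔪(M) ≃ Hom_A(Ext^{-i}(M, ω), E)` for a finite module `M` over a Noetherian local ring with a
normalized dualizing complex `ω` and `E` an injective hull of the residue field.
-/

set_option autoImplicit false
set_option linter.style.haveILetI false
universe u

namespace Groth.Agent.Lib.H6xLD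

open CategoryTheory CategoryTheory.Limits Category Pretriangulated DerivedCategory Opposite
attribute [local instance] HasDerivedCategory.standard

variable {A : Type u} [CommRing A] [IsLocalRing A] [IsNoetherianRing A]
  (ω : Dual.D A) (hω : Dual.IsDualizing A ω) (hn : Dual.IsNormalized A ω)
  (E : Type u) [AddCommGroup E] [Module A E] (f : IsLocalRing.ResidueField A →ₗ[A] E)
  (hf : InjHull.IsInjectiveHull f)
  (M : Type u) [AddCommGroup M] [Module A M] [Module.Finite A M]

include hω hn hf in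
/-- local duality, in terms of `F` -/
theorem nonempty_F_linearEquiv_dual (i : ℤ) :
    Nonempty (F (IsLocalRing.maximalIdeal A) ((Dual.inD A M)⟦i⟧) ≃ₗ[A]
      ((Dual.inD A M ⟶ ω⟦-i⟧) →ₗ[A] E)) := by
  obtain ⟨e⟩ := nonempty_F_dualizing_equiv ω hω hn E f hf
  have hP := P_of_finite ω hω hn E f hf e M i
  exact ⟨LinearEquiv.ofBijective _ hP ≪≫ₗ
    LinearEquiv.congrLeft E A (shiftHomLinearEquiv' (Dual.inD A M) ω i (-i) (by omega))⟩

include hω hn hf in
/-- local duality, in terms of `Dual2.HDI` -/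
theorem nonempty_HDI_linearEquiv_dual (i : ℤ) :
    Nonempty (Dual2.HDI A (IsLocalRing.maximalIdeal A) (Dual.inD A M) i ≃ₗ[A]
      ((Dual.inD A M ⟶ ω⟦-i⟧) →ₗ[A] E)) := by
  obtain ⟨e1⟩ := nonempty_F_linearEquiv_dual ω hω hn E f hf M i
  exact ⟨(HDIEquiv (IsLocalRing.maximalIdeal A) (Dual.inD A M) i).symm ≪≫ₗ e1⟩

include hω hn hf in
/-- **S11172**: Grothendieck local duality -/
theorem localDuality (i : ℕ) :
    Nonempty (LocCoh.H (IsLocalRing.maximalIdeal A) i M ≃ₗ[A]
      ((Dual.inD A M ⟶ ω⟦(-(i : ℤ))⟧) →ₗ[A] E)) := by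
  obtain ⟨e1⟩ := nonempty_F_linearEquiv_dual ω hω hn E f hf M (i : ℤ)
  exact ⟨(HEquiv (IsLocalRing.maximalIdeal A) i M).symm ≪≫ₗ e1⟩

end Groth.Agent.Lib.H6xLD
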