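import Mathlib
import Groth.Agent.Lib.H6xLDG
set_option backward.isDefEq.respectTransparency.types false

/-!
# Cohomological dimension of `F I` on `D(A)`: the algebra of the towers (helper6)

For an antitone family of ideals `J n` and `f : A`, the towers `A/J n`, `A/(J n + f^n)`,
the kernels and ranges of `f^n` on `A/J n`, their short exact sequences and transition maps.
-/

set_option autoImplicit false
set_option linter.style.haveILetI false
universe u

namespace Groth.Agent.Lib.H6xLD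

open CategoryTheory CategoryTheory.Limits Category Pretriangulated DerivedCategory Opposite
open Groth.Agent.Lib.H6xDual Groth.Agent.S14388
attribute [local instance] HasDerivedCategory.standard

section KR

variable {A : Type u} [CommRing A]

section Mul

variable (N : Type u) [AddCommGroup N] [Module A N] (a : A)

/-- multiplication by `a` -/
abbrev mulₗ : N →ₗ[A] N := LinearMap.lsmul A N a

/-- the kernel of multiplication by `a` -/
abbrev Kr : Submodule A N := LinearMap.ker (mulₗ N a)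

/-- the range of multiplication by `a` -/
abbrev Rg : Submodule A N := LinearMap.range (mulₗ N a)

lemma mem_Kr (x : N) : x ∈ Kr N a ↔ a • x = 0 := Iff.rfl

lemma mem_Rg (x : N) : x ∈ Rg N a ↔ ∃ y : N, a • y = x := Iff.rfl

lemma comp_A : (LinearMap.rangeRestrict (mulₗ N a)) ∘ₗ (Kr N a).subtype = 0 := by
  apply LinearMap.ext
  intro x
  apply Subtype.ext
  exact x.2

/-- `0 → N[a] → N → aN → 0` -/
noncomputable def SA : ShortComplex (ModuleCat.{u} A) :=
  ModuleCat.shortComplexOfCompEqZero (Kr N a).subtype (LinearMap.rangeRestrict (mulₗ N a))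
    (comp_A N a)

lemma SA_shortExact : (SA N a).ShortExact :=
  shortExact_of_exact (Kr N a).subtype (LinearMap.rangeRestrict (mulₗ N a))
    (Submodule.injective_subtype _) (LinearMap.surjective_rangeRestrict _)
    (by
      intro x
      constructor
      · intro hx
        exact ⟨⟨x, congrArg Subtype.val hx⟩, rfl⟩
      · rintro ⟨y, rfl⟩
        apply Subtype.ext
        exact y.2)

end Mul

section Cyc

/-- the factor map `A/J → A/J'` -/
noncomputable def facₗ {J J' : Ideal A} (h : J ≤ J') : (A ⧸ J) →ₗ[A] (A ⧸ J') :=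
  Submodule.mapQ J J' LinearMap.id h

lemma facₗ_mk {J J' : Ideal A} (h : J ≤ J') (x : A) :
    facₗ h (Submodule.Quotient.mk x) = Submodule.Quotient.mk x := rfl

lemma facₗ_surjective {J J' : Ideal A} (h : J ≤ J') : Function.Surjective (facₗ h) := by
  intro y
  obtain ⟨y, rfl⟩ := Submodule.Quotient.mk_surjective _ y
  exact ⟨Submodule.Quotient.mk y, rfl⟩

lemma facₗ_comp {J J' J'' : Ideal A} (h : J ≤ J') (h' : J' ≤ J'') :
    facₗ h' ∘ₗ facₗ h = facₗ (h.trans h') := by
  apply LinearMap.ext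
  intro x
  obtain ⟨x, rfl⟩ := Submodule.Quotient.mk_surjective _ x
  rfl

variable (J : Ideal A) (a : A)

lemma exact_B : Function.Exact (Rg (A ⧸ J) a).subtype
    (facₗ (le_sup_left : J ≤ J ⊔ Ideal.span {a})) := by
  intro x
  constructor
  · intro hx
    obtain ⟨x, rfl⟩ := Submodule.Quotient.mk_surjective _ x
    rw [facₗ_mk] at hx
    have hx' : x ∈ J ⊔ Ideal.span {a} := (Submodule.Quotient.mk_eq_zero _).1 hx
    obtain ⟨j, hj, z, hz, rfl⟩ := Submodule.mem_sup.1 hx'
    obtain ⟨b, rfl⟩ := Ideal.mem_span_singleton'.1 hz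
    refine ⟨⟨Submodule.Quotient.mk (j + b * a), ⟨Submodule.Quotient.mk b, ?_⟩⟩, rfl⟩
    change a • (Submodule.Quotient.mk b : A ⧸ J) = Submodule.Quotient.mk (j + b * a)
    rw [← Submodule.Quotient.mk_smul, Submodule.Quotient.eq]
    have : a • b - (j + b * a) = -j := by
      rw [smul_eq_mul]
      ring
    rw [this]
    exact J.neg_mem hj
  · rintro ⟨⟨y, ⟨z, rfl⟩⟩, rfl⟩
    obtain ⟨z, rfl⟩ := Submodule.Quotient.mk_surjective _ z
    change facₗ _ (a • (Submodule.Quotient.mk z : A ⧸ J)) = 0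
    rw [← Submodule.Quotient.mk_smul, facₗ_mk, Submodule.Quotient.mk_eq_zero]
    refine Submodule.mem_sup_right ?_
    rw [smul_eq_mul, mul_comm]
    exact Ideal.mul_mem_left _ _ (Ideal.subset_span rfl)

/-- `0 → a(A/J) → A/J → A/(J + a) → 0` -/
noncomputable def SB : ShortComplex (ModuleCat.{u} A) :=
  ModuleCat.shortComplexOfCompEqZero (Rg (A ⧸ J) a).subtype
    (facₗ (le_sup_left : J ≤ J ⊔ Ideal.span {a})) (exact_B J a).linearMap_comp_eq_zero

lemma SB_shortExact : (SB J a).ShortExact :=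
  shortExact_of_exact (Rg (A ⧸ J) a).subtype (facₗ (le_sup_left : J ≤ J ⊔ Ideal.span {a}))
    (Submodule.injective_subtype _) (facₗ_surjective _) (exact_B J a)

end Cyc

section Trans

variable {J₂ J₁ : Ideal A} (hJ : J₂ ≤ J₁) (a₂ a₁ d : A) (ha : a₂ = d * a₁)

include ha in
lemma fac_mem_Rg (x : A ⧸ J₂) (hx : x ∈ Rg (A ⧸ J₂) a₂) : facₗ hJ x ∈ Rg (A ⧸ J₁) a₁ := by
  obtain ⟨y, rfl⟩ := hx
  refine ⟨d • facₗ hJ y, ?_⟩
  change a₁ • d • facₗ hJ y = facₗ hJ (a₂ • y)
  rw [map_smul, ha, smul_smul, mul_comm]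

include ha in
lemma dfac_mem_Kr (x : A ⧸ J₂) (hx : x ∈ Kr (A ⧸ J₂) a₂) :
    (d • facₗ hJ) x ∈ Kr (A ⧸ J₁) a₁ := by
  change a₁ • (d • facₗ hJ x) = 0
  have h0 : a₂ • x = 0 := hx
  rw [smul_smul, mul_comm, ← ha, ← map_smul, h0, map_zero]

/-- the transition on ranges -/
noncomputable def rT : Rg (A ⧸ J₂) a₂ →ₗ[A] Rg (A ⧸ J₁) a₁ :=
  (facₗ hJ).restrict (fac_mem_Rg hJ a₂ a₁ d ha)

/-- the (twisted) transition on kernels -/
noncomputable def kT : Kr (A ⧸ J₂) a₂ →ₗ[A] Kr (A ⧸ J₁) a₁ :=
  (d • facₗ hJ).restrict (dfac_mem_Kr hJ a₂ a₁ d ha)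

lemma kT_eq_zero (h : ∀ y : A ⧸ J₁, a₂ • y = 0 → d • y = 0) : kT hJ a₂ a₁ d ha = 0 := by
  apply LinearMap.ext
  intro x
  apply Subtype.ext
  change d • facₗ hJ x.1 = 0
  apply h
  rw [← map_smul]
  have h0 : a₂ • x.1 = 0 := x.2
  rw [h0, map_zero]

/-- the morphism of sequences `0 → N[a] → N → aN → 0` -/
noncomputable def mapA : SA (A ⧸ J₂) a₂ ⟶ SA (A ⧸ J₁) a₁ :=
  ShortComplex.homMk (ModuleCat.ofHom (kT hJ a₂ a₁ d ha)) (ModuleCat.ofHom (d • facₗ hJ))
    (ModuleCat.ofHom (rT hJ a₂ a₁ d ha))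
    (by
      apply ModuleCat.hom_ext
      apply LinearMap.ext
      intro x
      rfl)
    (by
      apply ModuleCat.hom_ext
      apply LinearMap.ext
      intro (x : A ⧸ J₂)
      apply Subtype.ext
      change a₁ • (d • facₗ hJ x) = facₗ hJ (a₂ • x)
      rw [map_smul, ha, smul_smul, mul_comm])

include ha in
lemma span_le_span : Ideal.span {a₂} ≤ Ideal.span {a₁} := by
  rw [Ideal.span_singleton_le_span_singleton, ha]
  exact Dvd.intro_left d rfl

/-- the morphism of sequences `0 → aN → N → N/aN → 0` -/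
noncomputable def mapB : SB J₂ a₂ ⟶ SB J₁ a₁ :=
  ShortComplex.homMk (ModuleCat.ofHom (rT hJ a₂ a₁ d ha)) (ModuleCat.ofHom (facₗ hJ))
    (ModuleCat.ofHom (facₗ (sup_le_sup hJ (span_le_span a₂ a₁ d ha))))
    (by
      apply ModuleCat.hom_ext
      apply LinearMap.ext
      intro x
      rfl)
    (by
      apply ModuleCat.hom_ext
      apply LinearMap.ext
      intro x
      obtain ⟨x, rfl⟩ := Submodule.Quotient.mk_surjective _ x
      rfl)

end Trans

section Noeth

/-- in a Noetherian module the `f`-power torsion is killed by a fixed power of `f` -/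
lemma exists_pow_smul_eq_zero_of_pow_smul_eq_zero (N : Type u) [AddCommGroup N] [Module A N]
    [IsNoetherian A N] (f : A) :
    ∃ c : ℕ, ∀ (l : ℕ) (y : N), f ^ l • y = 0 → f ^ c • y = 0 := by
  let K : ℕ →o Submodule A N :=
    { toFun := fun l => LinearMap.ker (mulₗ N (f ^ l))
      monotone' := by
        intro l l' h y hy
        change f ^ l' • y = 0
        have h0 : f ^ l • y = 0 := hy
        obtain ⟨k, rfl⟩ := Nat.exists_eq_add_of_le h
        rw [pow_add, mul_comm, mul_smul, h0, smul_zero] }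
  obtain ⟨c, hc⟩ := monotone_stabilizes_iff_noetherian.2 inferInstance K
  refine ⟨c, fun l y hy => ?_⟩
  rcases le_total c l with h | h
  · have : y ∈ K l := hy
    rw [← hc l h] at this
    exact this
  · exact K.monotone h hy

end Noeth

end KR

end Groth.Agent.Lib.H6xLD
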