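import Mathlib
import Groth.Agent.Lib.H6xLDK
set_option backward.isDefEq.respectTransparency.types false

/-!
# Cohomological dimension of `F I` on `D(A)`: the induction step (helper6)

`Pd J r`: every morphism `A/J n ⟶ Z` with `Z ∈ D^{≤ -r-1}` dies on some `A/J m`.
If `Pd J r` then `Pd (J + f^n) (r+1)` (Noetherian).
-/

set_option autoImplicit false
set_option linter.style.haveILetI false
universe u

namespace Groth.Agent.Lib.H6xLD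

open CategoryTheory CategoryTheory.Limits Category Pretriangulated DerivedCategory Opposite
open Groth.Agent.Lib.H6xDual Groth.Agent.S14388
attribute [local instance] HasDerivedCategory.standard

section Pd

variable {A : Type u} [CommRing A]

/-- `φ[0]` for a linear map `φ` -/
noncomputable abbrev sgm {M N : Type u} [AddCommGroup M] [Module A M] [AddCommGroup N]
    [Module A N] (φ : M →ₗ[A] N) : Dual.inD A M ⟶ Dual.inD A N :=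
  (DerivedCategory.singleFunctor (ModuleCat.{u} A) 0).map (ModuleCat.ofHom φ)

lemma sgm_comp {M N P : Type u} [AddCommGroup M] [Module A M] [AddCommGroup N]
    [Module A N] [AddCommGroup P] [Module A P] (φ : M →ₗ[A] N) (ψ : N →ₗ[A] P) :
    sgm φ ≫ sgm ψ = sgm (ψ ∘ₗ φ) := by
  unfold sgm
  rw [← Functor.map_comp]
  rfl

lemma sgm_smul {M N : Type u} [AddCommGroup M] [Module A M] [AddCommGroup N]
    [Module A N] (a : A) (φ : M →ₗ[A] N) : sgm (a • φ) = a • sgm φ := by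
  unfold sgm
  rw [← Functor.map_smul]
  rfl

lemma sgm_zero {M N : Type u} [AddCommGroup M] [Module A M] [AddCommGroup N]
    [Module A N] : sgm (0 : M →ₗ[A] N) = 0 := by
  unfold sgm
  rw [← Functor.map_zero (DerivedCategory.singleFunctor (ModuleCat.{u} A) 0)]
  rfl

/-- the transfer `Hom(X⟦1⟧, Z) → Hom(X, Z⟦-1⟧)` -/
noncomputable def tr {X Z : Dual.D A} (e : X⟦(1 : ℤ)⟧ ⟶ Z) : X ⟶ Z⟦(-1 : ℤ)⟧ :=
  (shiftFunctorCompIsoId (Dual.D A) (1 : ℤ) (-1) (by norm_num)).inv.app X ≫ e⟦(-1 : ℤ)⟧'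

lemma comp_tr {X' X Z : Dual.D A} (h : X' ⟶ X) (e : X⟦(1 : ℤ)⟧ ⟶ Z) :
    h ≫ tr e = tr (h⟦(1 : ℤ)⟧' ≫ e) := by
  unfold tr
  rw [Functor.map_comp, ← assoc, ← assoc]
  congr 1
  exact (shiftFunctorCompIsoId (Dual.D A) (1 : ℤ) (-1) (by norm_num)).inv.naturality h

lemma eq_zero_of_tr_eq_zero {X Z : Dual.D A} (e : X⟦(1 : ℤ)⟧ ⟶ Z) (h : tr e = 0) : e = 0 := by
  unfold tr at h
  have h1 : e⟦(-1 : ℤ)⟧' = 0 := by
    rw [← cancel_epi ((shiftFunctorCompIsoId (Dual.D A) (1 : ℤ) (-1) (by norm_num)).inv.app X),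
      h, comp_zero]
  apply (shiftFunctor (Dual.D A) (-1 : ℤ)).map_injective
  rw [h1, Functor.map_zero]

/-- pro-projective dimension of the tower `A/J n` -/
def Pd (J : ℕ → Ideal A) (hJ : Antitone J) (r : ℕ) : Prop :=
  ∀ (Z : Dual.D A), Z.IsLE (-(r : ℤ) - 1) → ∀ (n : ℕ) (g : Dual.inD A (A ⧸ J n) ⟶ Z),
    ∃ (m : ℕ) (h : n ≤ m), sgm (facₗ (hJ.imp h)) ≫ g = 0

/-- the tower `J n + (f^n)` -/
abbrev Jf (J : ℕ → Ideal A) (f : A) (n : ℕ) : Ideal A := J n ⊔ Ideal.span {f ^ n}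

lemma antitone_Jf (J : ℕ → Ideal A) (hJ : Antitone J) (f : A) : Antitone (Jf J f) := by
  intro n m h
  refine sup_le_sup (hJ h) ?_
  rw [Ideal.span_singleton_le_span_singleton]
  exact pow_dvd_pow f h

section Conn

variable (J : Ideal A) (a : A)

/-- `A/J → a(A/J)` -/
noncomputable abbrev ρ : (A ⧸ J) →ₗ[A] Rg (A ⧸ J) a := LinearMap.rangeRestrict (mulₗ (A ⧸ J) a)

/-- `A/J → A/(J + a)` -/
noncomputable abbrev πq : (A ⧸ J) →ₗ[A] (A ⧸ (J ⊔ Ideal.span {a})) :=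
  facₗ (le_sup_left : J ≤ J ⊔ Ideal.span {a})

/-- the connecting morphism of `0 → (A/J)[a] → A/J → a(A/J) → 0` -/
noncomputable def δA : Dual.inD A (Rg (A ⧸ J) a) ⟶ (Dual.inD A (Kr (A ⧸ J) a))⟦(1 : ℤ)⟧ :=
  (SA_shortExact (A ⧸ J) a).singleδ

/-- the connecting morphism of `0 → a(A/J) → A/J → A/(J+a) → 0` -/
noncomputable def δB : Dual.inD A (A ⧸ (J ⊔ Ideal.span {a})) ⟶
    (Dual.inD A (Rg (A ⧸ J) a))⟦(1 : ℤ)⟧ :=
  (SB_shortExact J a).singleδ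

lemma exists_of_πq_comp_eq_zero {Z : Dual.D A} (g : Dual.inD A (A ⧸ (J ⊔ Ideal.span {a})) ⟶ Z)
    (h : sgm (πq J a) ≫ g = 0) :
    ∃ e : (Dual.inD A (Rg (A ⧸ J) a))⟦(1 : ℤ)⟧ ⟶ Z, g = δB J a ≫ e :=
  Triangle.yoneda_exact₃ _ (SB_shortExact J a).singleTriangle_distinguished g h

lemma exists_of_ρ_comp_eq_zero {Z : Dual.D A} (g : Dual.inD A (Rg (A ⧸ J) a) ⟶ Z)
    (h : sgm (ρ J a) ≫ g = 0) :
    ∃ k : (Dual.inD A (Kr (A ⧸ J) a))⟦(1 : ℤ)⟧ ⟶ Z, g = δA J a ≫ k :=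
  Triangle.yoneda_exact₃ _ (SA_shortExact (A ⧸ J) a).singleTriangle_distinguished g h

end Conn

section Nat

variable {J₂ J₁ : Ideal A} (hJ : J₂ ≤ J₁) (a₂ a₁ d : A) (ha : a₂ = d * a₁)

lemma δA_naturality :
    sgm (rT hJ a₂ a₁ d ha) ≫ δA J₁ a₁ = δA J₂ a₂ ≫ (sgm (kT hJ a₂ a₁ d ha))⟦(1 : ℤ)⟧' :=
  ((ShortComplex.ShortExact.singleTriangle.map (SA_shortExact (A ⧸ J₂) a₂)
    (SA_shortExact (A ⧸ J₁) a₁) (mapA hJ a₂ a₁ d ha)).comm₃).symm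

lemma δB_naturality :
    sgm (facₗ (sup_le_sup hJ (span_le_span a₂ a₁ d ha))) ≫ δB J₁ a₁ =
      δB J₂ a₂ ≫ (sgm (rT hJ a₂ a₁ d ha))⟦(1 : ℤ)⟧' :=
  ((ShortComplex.ShortExact.singleTriangle.map (SB_shortExact J₂ a₂)
    (SB_shortExact J₁ a₁) (mapB hJ a₂ a₁ d ha)).comm₃).symm

lemma ρ_comm : sgm (d • facₗ hJ) ≫ sgm (ρ J₁ a₁) = sgm (ρ J₂ a₂) ≫ sgm (rT hJ a₂ a₁ d ha) := by
  rw [sgm_comp, sgm_comp]
  congr 1
  apply LinearMap.ext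
  intro x
  apply Subtype.ext
  change a₁ • (d • facₗ hJ x) = facₗ hJ (a₂ • x)
  rw [map_smul, ha, smul_smul, mul_comm]

end Nat

/-- **the induction step** -/
theorem Pd_succ [IsNoetherianRing A] (J : ℕ → Ideal A) (hJ : Antitone J) (f : A) (r : ℕ)
    (h : Pd J hJ r) : Pd (Jf J f) (antitone_Jf J hJ f) (r + 1) := by
  intro Z hZ n g
  haveI := hZ
  haveI hZ1 : Z.IsLE (-(r : ℤ) - 1) :=
    tt.isLE_of_le Z (-((r + 1 : ℕ) : ℤ) - 1) (-(r : ℤ) - 1) (by push_cast; omega)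
  haveI hZ2 : (Z⟦(-1 : ℤ)⟧).IsLE (-(r : ℤ) - 1) :=
    tt.isLE_shift Z (-((r + 1 : ℕ) : ℤ) - 1) (-1) (-(r : ℤ) - 1) (by push_cast; omega)
  have hJ' := antitone_Jf J hJ f
  -- Step 1
  obtain ⟨m, hm, h1⟩ := h Z hZ1 n (sgm (πq (J n) (f ^ n)) ≫ g)
  have c1 : sgm (facₗ (hJ.imp hm)) ≫ sgm (πq (J n) (f ^ n)) =
      sgm (πq (J m) (f ^ m)) ≫ sgm (facₗ (hJ'.imp hm)) := by
    rw [sgm_comp, sgm_comp, facₗ_comp, facₗ_comp]
  have h1' : sgm (πq (J m) (f ^ m)) ≫ (sgm (facₗ (hJ'.imp hm)) ≫ g) = 0 := by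
    rw [← assoc, ← c1, assoc, h1]
  -- Step 2
  obtain ⟨e, he⟩ := exists_of_πq_comp_eq_zero (J m) (f ^ m) _ h1'
  -- Step 3
  obtain ⟨m', hm', h3⟩ := h (Z⟦(-1 : ℤ)⟧) hZ2 m (sgm (ρ (J m) (f ^ m)) ≫ tr e)
  have ha : f ^ m' = f ^ (m' - m) * f ^ m := (pow_sub_mul_pow f hm').symm
  have h3' : sgm (ρ (J m') (f ^ m')) ≫
      (sgm (rT (hJ.imp hm') (f ^ m') (f ^ m) (f ^ (m' - m)) ha) ≫ tr e) = 0 := by
    rw [← assoc, ← ρ_comm, assoc, sgm_smul, Linear.smul_comp, h3, smul_zero]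
  -- Step 4
  obtain ⟨k, hk⟩ := exists_of_ρ_comp_eq_zero (J m') (f ^ m') _ h3'
  -- Step 5
  obtain ⟨c, hc⟩ := exists_pow_smul_eq_zero_of_pow_smul_eq_zero (A ⧸ J m') f
  have ha' : f ^ (m' + c) = f ^ c * f ^ m' := by rw [pow_add, mul_comm]
  have hm'' : m' ≤ m' + c := Nat.le_add_right m' c
  have h5 : sgm (rT (hJ.imp hm'') (f ^ (m' + c)) (f ^ m') (f ^ c) ha') ≫ δA (J m') (f ^ m') = 0 := by
    rw [δA_naturality, kT_eq_zero (hJ.imp hm'') (f ^ (m' + c)) (f ^ m') (f ^ c) ha'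
      (fun y hy => hc _ y hy), sgm_zero, Functor.map_zero, comp_zero]
  -- Step 6
  have h6 : (sgm (rT (hJ.imp hm'') (f ^ (m' + c)) (f ^ m') (f ^ c) ha') ≫
      sgm (rT (hJ.imp hm') (f ^ m') (f ^ m) (f ^ (m' - m)) ha)) ≫ tr e = 0 := by
    rw [assoc, hk, ← assoc, h5, zero_comp]
  rw [comp_tr] at h6
  have h6' := eq_zero_of_tr_eq_zero _ h6
  refine ⟨m' + c, hm.trans (hm'.trans hm''), ?_⟩
  have e1 : sgm (facₗ (hJ'.imp (hm.trans (hm'.trans hm'')))) =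
      sgm (facₗ (sup_le_sup (hJ.imp hm'') (span_le_span (f ^ (m' + c)) (f ^ m') (f ^ c) ha'))) ≫
      sgm (facₗ (sup_le_sup (hJ.imp hm') (span_le_span (f ^ m') (f ^ m) (f ^ (m' - m)) ha))) ≫
        sgm (facₗ (hJ'.imp hm)) := by
    rw [sgm_comp, sgm_comp, facₗ_comp, facₗ_comp]
  have nB1 := δB_naturality (hJ.imp hm') (f ^ m') (f ^ m) (f ^ (m' - m)) ha
  have nB2 := δB_naturality (hJ.imp hm'') (f ^ (m' + c)) (f ^ m') (f ^ c) ha'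
  have e2 : (sgm (rT (hJ.imp hm'') (f ^ (m' + c)) (f ^ m') (f ^ c) ha'))⟦(1 : ℤ)⟧' ≫
      (sgm (rT (hJ.imp hm') (f ^ m') (f ^ m) (f ^ (m' - m)) ha))⟦(1 : ℤ)⟧' ≫ e = 0 := by
    rw [← assoc, ← Functor.map_comp]
    exact h6'
  rw [e1, assoc, assoc, he, ← assoc (sgm (facₗ (sup_le_sup (hJ.imp hm')
    (span_le_span (f ^ m') (f ^ m) (f ^ (m' - m)) ha)))), nB1, assoc, ← assoc, nB2, assoc, e2,
    comp_zero]

end Pd

end Groth.Agent.Lib.H6xLD
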