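import Mathlib
import Groth.Agent.Lib.H6xLDL
set_option backward.isDefEq.respectTransparency.types false

/-!
# Cohomological dimension of `F I` on `D(A)` (helper6)

For a Noetherian ring `A`, a list `l` of elements generating `I` and `X ∈ D^{≤ -|l|-1}(A)`:
`F I X = colim_n Hom(A/I^n, X) = 0`.
-/

set_option autoImplicit false
set_option linter.style.haveILetI false
universe u

namespace Groth.Agent.Lib.H6xLD

open CategoryTheory CategoryTheory.Limits Category Pretriangulated DerivedCategory Opposite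
open Groth.Agent.Lib.H6xDual Groth.Agent.S14388 Groth.Agent.Lib.H6xBid
attribute [local instance] HasDerivedCategory.standard

section CD

variable {A : Type u} [CommRing A]

/-- the ideals `(f₁^n, …, f_r^n)` -/
def Jl : List A → ℕ → Ideal A
  | [], _ => ⊥
  | f :: l, n => Jl l n ⊔ Ideal.span {f ^ n}

lemma Jl_cons (f : A) (l : List A) : Jl (f :: l) = Jf (Jl l) f := rfl

lemma antitone_Jl (l : List A) : Antitone (Jl l) := by
  induction l with
  | nil => exact fun _ _ _ => le_rfl
  | cons f l ih => exact antitone_Jf (Jl l) ih f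

/-- no maps from `A[0]` to `D^{≤ -1}` -/
lemma subsingleton_hom_of_isLE (Z : Dual.D A) (hZ : Z.IsLE (-1)) :
    Subsingleton (Dual.inD A A ⟶ Z) := by
  obtain ⟨e⟩ := nonempty_hom_linearEquiv_HD Z 0
  have hz : IsZero ((DerivedCategory.homologyFunctor (ModuleCat.{u} A) 0).obj Z) :=
    isZero_of_isLE Z (-1) 0 (by omega)
  haveI : Subsingleton (Dual.HD A Z 0) := ModuleCat.subsingleton_of_isZero hz
  haveI : Subsingleton (Dual.inD A A ⟶ Z⟦(0 : ℤ)⟧) := e.toEquiv.subsingleton
  exact (((shiftFunctorZero (Dual.D A) ℤ).app Z).homToEquiv (Z := Dual.inD A A)).subsingleton_congr.1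
    inferInstance

theorem Pd_Jl [IsNoetherianRing A] (l : List A) : Pd (Jl l) (antitone_Jl l) l.length := by
  induction l with
  | nil =>
    intro Z hZ n g
    haveI : Z.IsLE (-1) := by
      have : (-((([] : List A).length : ℕ) : ℤ) - 1) = -1 := by simp
      rw [this] at hZ
      exact hZ
    haveI := subsingleton_hom_of_isLE Z inferInstance
    let eq : (A ⧸ (⊥ : Ideal A)) ≃ₗ[A] A := Submodule.quotEquivOfEqBot ⊥ rfl
    have key : ∀ g : Dual.inD A (A ⧸ (⊥ : Ideal A)) ⟶ Z, g = 0 := by
      intro g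
      have h1 : sgm eq.symm.toLinearMap ≫ g = 0 := Subsingleton.elim _ _
      have h2 : sgm eq.toLinearMap ≫ sgm eq.symm.toLinearMap = 𝟙 _ := by
        rw [sgm_comp]
        have : eq.symm.toLinearMap ∘ₗ eq.toLinearMap = LinearMap.id := by
          apply LinearMap.ext
          intro x
          exact eq.symm_apply_apply x
        rw [this]
        exact CategoryTheory.Functor.map_id _ _
      rw [← id_comp g, ← h2, assoc, h1, comp_zero]
    have hg : g = 0 := key g
    exact ⟨n, le_rfl, by rw [hg, comp_zero]⟩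
  | cons f l ih =>
    exact Pd_succ (Jl l) (antitone_Jl l) f l.length ih

/-- the ideal generated by a list -/
abbrev Il (l : List A) : Ideal A := Ideal.span {x | x ∈ l}

lemma Il_cons (f : A) (l : List A) : Il (f :: l) = Il l ⊔ Ideal.span {f} := by
  unfold Il
  have : {x | x ∈ f :: l} = {x | x ∈ l} ∪ {f} := by
    ext x
    simp
  rw [this, Ideal.span_union]

lemma Jl_le (l : List A) (n : ℕ) : Jl l n ≤ (Il l) ^ n := by
  induction l with
  | nil => exact bot_le
  | cons f l ih =>
    change Jl l n ⊔ Ideal.span {f ^ n} ≤ _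
    refine sup_le (ih.trans (Ideal.pow_right_mono ?_ n)) ?_
    · rw [Il_cons]
      exact le_sup_left
    · rw [Ideal.span_singleton_le_iff_mem]
      exact Ideal.pow_mem_pow (Ideal.subset_span (by simp)) n

lemma pow_le_Jl (l : List A) (n : ℕ) : (Il l) ^ (l.length * n + 1) ≤ Jl l n := by
  induction l with
  | nil =>
    have : Il ([] : List A) = ⊥ := by
      unfold Il
      simp
    rw [this]
    simp
  | cons f l ih =>
    rw [Il_cons]
    have : (f :: l).length * n + 1 = (l.length * n + 1) + n := by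
      rw [List.length_cons]
      ring
    rw [this]
    refine Ideal.sup_pow_add_le_pow_sup_pow.trans ?_
    change _ ≤ Jl l n ⊔ Ideal.span {f ^ n}
    refine sup_le_sup ih ?_
    rw [Ideal.span_singleton_pow]

/-- **cohomological dimension**: `F I X = 0` for `X ∈ D^{≤ -r-1}`, `I` generated by `r` elements -/
theorem subsingleton_F_of_isLE [IsNoetherianRing A] (l : List A) (X : Dual.D A)
    (hX : X.IsLE (-(l.length : ℤ) - 1)) : Subsingleton (F (Il l) X) := by
  refine ⟨fun z z' => ?_⟩
  suffices H : ∀ z : F (Il l) X, z = 0 by rw [H z, H z']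
  intro z
  obtain ⟨n, g, rfl⟩ := exists_ofF (Il l) X z
  obtain ⟨m, hm, h1⟩ := Pd_Jl l X hX n (sgm (facₗ (Jl_le l n)) ≫ g)
  have hp : n ≤ l.length * m + 1 + n := by omega
  have hIp : (Il l) ^ (l.length * m + 1 + n) ≤ Jl l m :=
    (Ideal.pow_le_pow_right (by omega : l.length * m + 1 ≤ l.length * m + 1 + n)).trans
      (pow_le_Jl l m)
  have h2 : t (Il l) hp = sgm (facₗ hIp) ≫ sgm (facₗ ((antitone_Jl l).imp hm)) ≫
      sgm (facₗ (Jl_le l n)) := by
    rw [sgm_comp, sgm_comp, facₗ_comp, facₗ_comp]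
    rfl
  rw [← ofF_t (Il l) X hp g, h2, assoc, assoc, h1, comp_zero, map_zero]

theorem subsingleton_F_shift [IsNoetherianRing A] (l : List A) (Z : Dual.D A) (b i : ℤ)
    (hZ : Z.IsLE b) (hi : b + l.length < i) : Subsingleton (F (Il l) (Z⟦i⟧)) := by
  haveI := hZ
  haveI h1 : (Z⟦i⟧).IsLE (b - i) := tt.isLE_shift Z b i (b - i) (by omega)
  exact subsingleton_F_of_isLE l (Z⟦i⟧)
    (tt.isLE_of_le (Z⟦i⟧) (b - i) (-(l.length : ℤ) - 1) (by omega))

/-- every ideal of a Noetherian ring has bounded cohomological dimension on `D(A)` -/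
theorem exists_cd_bound [IsNoetherianRing A] (I : Ideal A) :
    ∃ d : ℕ, ∀ (Z : Dual.D A) (b i : ℤ), Z.IsLE b → b + d < i → Subsingleton (F I (Z⟦i⟧)) := by
  obtain ⟨s, hs⟩ := (IsNoetherian.noetherian I : I.FG)
  have hI : Il s.toList = I := by
    rw [← hs]
    unfold Il
    congr 1
    ext x
    simp
  refine ⟨s.toList.length, fun Z b i hZ hi => ?_⟩
  rw [← hI]
  exact subsingleton_F_shift s.toList Z b i hZ hi

/-- unshifted form of the bound -/
theorem exists_cd_bound' [IsNoetherianRing A] (I : Ideal A) :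
    ∃ d : ℕ, ∀ (Z : Dual.D A), Z.IsLE (-(d : ℤ) - 1) → Subsingleton (F I Z) := by
  obtain ⟨s, hs⟩ := (IsNoetherian.noetherian I : I.FG)
  have hI : Il s.toList = I := by
    rw [← hs]
    unfold Il
    congr 1
    ext x
    simp
  refine ⟨s.toList.length, fun Z hZ => ?_⟩
  rw [← hI]
  exact subsingleton_F_of_isLE s.toList Z hZ

end CD

end Groth.Agent.Lib.H6xLD
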