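import Mathlib
import Groth.Agent.Lib.H6xLDM
set_option backward.isDefEq.respectTransparency.types false

/-!
# Bounded injective models and vanishing of `Hom(Y, W)` for `Y ∈ D^{> b}` (helper6)

If `W ∈ D^{≥ a}(A)` and `Ext^i(N, W) = 0` for all modules `N` and `i > b`, then `W` is represented
by a complex of injectives concentrated in degrees `[a, b]`; hence `Hom(Y, W) = 0` for every
`Y ∈ D^{≥ b+1}(A)` (possibly unbounded above).
-/

set_option autoImplicit false
set_option linter.style.haveILetI false
universe u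

namespace Groth.Agent.Lib.H6xLD

open CategoryTheory CategoryTheory.Limits Category Pretriangulated DerivedCategory Opposite
open Groth.Agent.Lib.H6xDual Groth.Agent.S14388 Groth.Agent.Lib.H6xBid Groth.Agent.Lib.H6xRGam
attribute [local instance] HasDerivedCategory.standard

section BddInj

variable {A : Type u} [CommRing A]

/-- the cycles in degree `b` are injective if the complex of injectives `L` is exact at `b+1` and
the inclusion of the `(b+1)`-cycles is a coboundary -/
lemma injective_cycles (L : Cx A) (b j : ℤ) (hj : b + 1 = j) [Injective (L.X b)]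
    (k : L.cycles j ⟶ L.X b) (hk : k ≫ L.d b j = L.iCycles j) : Injective (L.cycles b) := by
  have h1 : k ≫ L.toCycles b j = 𝟙 _ := by
    rw [← cancel_mono (L.iCycles j), assoc, HomologicalComplex.toCycles_i, hk, id_comp]
  have h2 : L.iCycles b ≫ L.toCycles b j = 0 := by
    rw [← cancel_mono (L.iCycles j), assoc, HomologicalComplex.toCycles_i,
      HomologicalComplex.iCycles_d, zero_comp]
  let p : L.X b ⟶ L.X b := 𝟙 _ - L.toCycles b j ≫ k
  have hp : p ≫ L.d b j = 0 := by
    change (𝟙 _ - L.toCycles b j ≫ k) ≫ L.d b j = 0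
    rw [Preadditive.sub_comp, id_comp, assoc, hk, HomologicalComplex.toCycles_i, sub_self]
  let r : L.X b ⟶ L.cycles b := L.liftCycles p j (by simp [← hj]) hp
  have hr : L.iCycles b ≫ r = 𝟙 _ := by
    rw [← cancel_mono (L.iCycles b), assoc, HomologicalComplex.liftCycles_i, id_comp]
    change L.iCycles b ≫ (𝟙 _ - L.toCycles b j ≫ k) = _
    rw [Preadditive.comp_sub, comp_id, ← assoc, h2, zero_comp, sub_zero]
  exact Retract.injective ⟨L.iCycles b, r, hr⟩

/-- **bounded injective model** -/
theorem exists_bounded_injective_model (W : Dual.D A) (a b : ℤ) (hW : W.IsGE a)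
    (hb : ∀ (N : Type u) [AddCommGroup N] [Module A N] (i : ℤ), b < i →
      Subsingleton (Dual.inD A N ⟶ W⟦i⟧)) :
    ∃ (I : Cx A), (∀ n, Injective (I.X n)) ∧ I.IsStrictlyGE a ∧ I.IsStrictlyLE b ∧
      Nonempty (W ≅ DerivedCategory.Q.obj I) := by
  haveI := hW
  obtain ⟨K, hK, ⟨e⟩⟩ := DerivedCategory.exists_iso_Q_obj_of_isGE W a
  obtain ⟨L, i, hi, hL, hLa⟩ :=
    CochainComplex.Plus.modelCategoryQuillen.exists_quasiIso_injective K a
  haveI := hL
  haveI : L.IsKInjective := CochainComplex.isKInjective_of_injective L a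
  haveI : IsIso (DerivedCategory.Q.map i) := by
    rw [DerivedCategory.isIso_Q_map_iff_quasiIso]
    exact hi
  let e' : W ≅ DerivedCategory.Q.obj L := e ≪≫ asIso (DerivedCategory.Q.map i)
  -- `L` is cohomologically `≤ b`
  haveI hWb : W.IsLE b := by
    rw [DerivedCategory.isLE_iff]
    intro j hj
    obtain ⟨eq⟩ := nonempty_hom_linearEquiv_HD W j
    haveI := hb A j hj
    haveI : Subsingleton (Dual.HD A W j) := eq.symm.toEquiv.subsingleton
    exact ModuleCat.isZero_of_subsingleton _
  haveI hLb : L.IsLE b := by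
    rw [← DerivedCategory.isLE_Q_obj_iff]
    exact tt.isLE_of_iso e' b
  -- the cycles in degree `b` are injective
  haveI hZ : Injective (L.cycles b) := by
    have hx : L.iCycles (b + 1) ≫ L.d (b + 1) (b + 1 + 1) = 0 := L.iCycles_d _ _
    haveI : Subsingleton (SM (L.cycles (b + 1)) ⟶ (DerivedCategory.Q.obj L)⟦b + 1⟧) := by
      haveI := hb (L.cycles (b + 1)) (b + 1) (by omega)
      exact (((shiftFunctor (Dual.D A) (b + 1)).mapIso e').homToEquiv
        (Z := SM (L.cycles (b + 1)))).subsingleton_congr.1 inferInstance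
    obtain ⟨k, hk⟩ := (Ψ_eq_zero_iff L (b + 1) (L.iCycles (b + 1)) hx).1 (Subsingleton.elim _ _)
    have hbb : b + 1 - 1 = b := by omega
    have h1 := injective_cycles L (b + 1 - 1) (b + 1) (by omega) k hk
    rw [hbb] at h1
    exact h1
  -- the truncation
  haveI : QuasiIso (L.ιTruncLE b) := inferInstance
  haveI : IsIso (DerivedCategory.Q.map (L.ιTruncLE b)) := by
    rw [DerivedCategory.isIso_Q_map_iff_quasiIso]
    infer_instance
  refine ⟨L.truncLE b, fun n => ?_, ?_, inferInstance,
    ⟨e' ≪≫ (asIso (DerivedCategory.Q.map (L.ιTruncLE b))).symm⟩⟩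
  · rcases lt_trichotomy n b with h | h | h
    · exact Injective.of_iso (L.truncLEXIso b n h).symm inferInstance
    · subst h
      exact Injective.of_iso (L.truncLEXIsoCycles n).symm inferInstance
    · exact (CochainComplex.isZero_of_isStrictlyLE (L.truncLE b) b n h).injective
  · rw [CochainComplex.isStrictlyGE_iff]
    intro n hn
    rcases lt_trichotomy n b with h | h | h
    · exact (CochainComplex.isZero_of_isStrictlyGE L a n hn).of_iso (L.truncLEXIso b n h)
    · subst h
      refine IsZero.of_iso ?_ (L.truncLEXIsoCycles n)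
      have hz := CochainComplex.isZero_of_isStrictlyGE L a n hn
      rw [IsZero.iff_id_eq_zero, ← cancel_mono (L.iCycles n)]
      exact hz.eq_of_tgt _ _
    · exact CochainComplex.isZero_of_isStrictlyLE (L.truncLE b) b n h

/-- **finite injective dimension kills maps from `D^{> b}`**, also for unbounded objects -/
theorem subsingleton_hom_of_isGE (W : Dual.D A) (a b : ℤ) (hW : W.IsGE a)
    (hb : ∀ (N : Type u) [AddCommGroup N] [Module A N] (i : ℤ), b < i →
      Subsingleton (Dual.inD A N ⟶ W⟦i⟧))
    (Y : Dual.D A) (hY : Y.IsGE (b + 1)) : Subsingleton (Y ⟶ W) := by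
  obtain ⟨I, hI, hIa, hIb, ⟨eW⟩⟩ := exists_bounded_injective_model W a b hW hb
  haveI := hI
  haveI := hIa
  haveI := hIb
  haveI : I.IsKInjective := CochainComplex.isKInjective_of_injective I a
  haveI := hY
  obtain ⟨Y', hY', ⟨eY⟩⟩ := DerivedCategory.exists_iso_Q_obj_of_isGE Y (b + 1)
  haveI := hY'
  refine ⟨fun g g' => ?_⟩
  suffices H : ∀ g : Y ⟶ W, g = 0 by rw [H g, H g']
  intro g
  obtain ⟨φ, hφ⟩ := Groth.Agent.Lib.Helper17.KInj.exists_Q_map_eq (eY.inv ≫ g ≫ eW.hom)
  have hφ0 : φ = 0 := by
    apply HomologicalComplex.hom_ext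
    intro n
    by_cases hn : n ≤ b
    · exact (CochainComplex.isZero_of_isStrictlyGE Y' (b + 1) n (by omega)).eq_of_src _ _
    · exact (CochainComplex.isZero_of_isStrictlyLE I b n (by omega)).eq_of_tgt _ _
  rw [hφ0, Functor.map_zero] at hφ
  have h1 : g ≫ eW.hom = 0 := by
    rw [← cancel_epi eY.inv, ← hφ, comp_zero]
  rw [← cancel_mono eW.hom, h1, zero_comp]

end BddInj

end Groth.Agent.Lib.H6xLD
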