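import Mathlib
import Groth.Agent.Lib.H6xBrgC
import Groth.Agent.Lib.H6xLDN
import Groth.Agent.S6943
import Groth.Agent.S14388
set_option backward.isDefEq.respectTransparency.types false

/-!
# helper6: biduality `RHom(ω, ω) ⊗ᴸ K ≅ RHom(RHom(K, ω), ω)` for a dualizing complex `ω` and an
UNBOUNDED complex `K` with finite cohomology modules
-/

set_option autoImplicit false
set_option linter.style.haveILetI false
universe u
open CategoryTheory CategoryTheory.Limits MonoidalCategory Pretriangulated
attribute [local instance] HasDerivedCategory.standard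

namespace Groth.Agent.Lib.H6xBrg

open DerivedCategory DTen Groth.Agent.Lib.H6xDTen Groth.Agent.Lib.H6xPCev Groth.Agent.Lib.H6xRdc

section InjAmp

variable {A : Type u} [CommRing A] (ω : Dual.D A) (hω : Dual.IsDualizing A ω)

include hω in
lemma exists_injAmp_of_isDualizing :
    ∃ a b : ℤ, a ≤ b ∧ ω.IsGE a ∧ DRing.HasInjAmplitudeIn A a b ω := by
  obtain ⟨a, b, hab⟩ := hω.finite_injective_dimension
  have hge : ω.IsGE a := by
    rw [DerivedCategory.isGE_iff]
    intro i hi
    haveI := Groth.Agent.Lib.H6xDual.subsingleton_HD_of_subsingleton_hom ω i (hab A i (Or.inl hi))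
    exact ModuleCat.isZero_of_subsingleton _
  obtain ⟨I, hI, hIa, hIb, ⟨e⟩⟩ := Groth.Agent.Lib.H6xLD.exists_bounded_injective_model ω a
    (max a b) hge
    (fun N _ _ i hi => hab N i (Or.inr (lt_of_le_of_lt (le_max_right a b) hi)))
  refine ⟨a, max a b, le_max_left _ _, hge, I, ?_, ?_, ⟨e.symm⟩⟩
  · intro i hi
    rcases hi with hi | hi
    · exact I.isZero_of_isStrictlyGE a i hi
    · exact I.isZero_of_isStrictlyLE (max a b) i hi
  · intro i
    haveI := hI i
    exact Module.injective_module_of_injective_object A (I.X i)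

end InjAmp

section Tri

variable {A : Type u} [CommRing A]

/-- if the cone is in `D^{≥ N}`, the first map of a distinguished triangle is an isomorphism on
`H^i` for `i < N` -/
lemma isIso_homology_mor₁_of_isGE (T : Triangle (Dual.D A)) (hT : T ∈ distTriang (Dual.D A))
    (N : ℤ) (hZ : T.obj₃.IsGE N) (i : ℤ) (hi : i < N) :
    IsIso ((homologyFunctor (ModuleCat.{u} A) i).map T.mor₁) := by
  have hmono : Mono ((homologyFunctor (ModuleCat.{u} A) i).map T.mor₁) := by
    refine (HomologySequence.mono_homologyMap_mor₁_iff _ hT (i - 1) i (by omega)).mpr ?_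
    exact (isZero_of_isGE T.obj₃ N (i - 1) (by omega)).eq_of_src _ _
  have hepi : Epi ((homologyFunctor (ModuleCat.{u} A) i).map T.mor₁) := by
    refine (HomologySequence.epi_homologyMap_mor₁_iff _ hT i).mpr ?_
    exact (isZero_of_isGE T.obj₃ N i hi).eq_of_tgt _ _
  exact isIso_of_mono_of_epi _

end Tri

section Main

open Groth.Agent.S14388

variable {A : Type u} [CommRing A] [HasLTen A] [HasLTen₃ A] [IsSymMonoidal A] [HasRHom A]
  (ω : Dual.D A) (hω : Dual.IsDualizing A ω)

/-- `RHom(ω, ω) ⊗ᴸ K ≅ K` -/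
noncomputable def selfTenIso (K : Dual.D A) [IsIso (cU ω)] :
    tO ((RHomR A ω).obj ω) K ≅ K :=
  (asIso (tH (cU ω) (𝟙 K))).symm ≪≫ DTen.leftUnitor K

lemma selfTenIso_nat [IsIso (cU ω)] {P K : Dual.D A} (α : P ⟶ K) :
    tH (𝟙 ((RHomR A ω).obj ω)) α ≫ (selfTenIso ω K).hom = (selfTenIso ω P).hom ≫ α := by
  unfold selfTenIso
  simp only [Iso.trans_hom, Iso.symm_hom, asIso_inv, DTen.leftUnitor_hom]
  have h1 : tH (𝟙 ((RHomR A ω).obj ω)) α ≫ inv (tH (cU ω) (𝟙 K)) =
      inv (tH (cU ω) (𝟙 P)) ≫ tH (𝟙 (DTen.unit A)) α := by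
    rw [IsIso.comp_inv_eq, Category.assoc, IsIso.eq_inv_comp, tH_comp, tH_comp, Category.comp_id,
      Category.id_comp, Category.comp_id, Category.id_comp]
  have h2 : tH (𝟙 (DTen.unit A)) α ≫ (unitL A).app K = (unitL A).app P ≫ α :=
    (unitL A).naturality α
  rw [reassoc_of% h1, Category.assoc, h2]

/-- truncations of complexes with finite cohomology are pseudo-coherent -/
lemma isPseudoCoherent'_truncLT [IsNoetherianRing A] (K : Dual.D A)
    (hK : ∀ i : ℤ, Module.Finite A (Dual.HD A K i)) (N : ℤ) :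
    DRing.IsPseudoCoherent' A ((tt.truncLT N).obj K) := by
  refine ((Groth.Agent.S6943.result A (fun I _ => Module.finitePresentation_of_finite A I)
    ((tt.truncLT N).obj K) ⟨N - 1, fun i hi => ?_⟩ 0).2).2 (fun i => ?_)
  · have h1 : ((tt.truncLT N).obj K).IsLE (N - 1) := tt.isLE_truncLT_obj K N (N - 1) (by omega)
    exact ModuleCat.subsingleton_of_isZero (isZero_of_isLE _ (N - 1) i hi)
  · by_cases hi : i < N
    · have j1 := isIso_homology_truncLTι N i hi K
      haveI := hK i
      let eI : (homologyFunctor (ModuleCat.{u} A) i).obj ((tt.truncLT N).obj K) ≅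
          (homologyFunctor (ModuleCat.{u} A) i).obj K :=
        asIso ((homologyFunctor (ModuleCat.{u} A) i).map ((tt.truncLTι N).app K))
      haveI : Module.Finite A (Dual.HD A ((tt.truncLT N).obj K) i) :=
        Module.Finite.equiv eI.symm.toLinearEquiv
      exact Module.finitePresentation_of_finite A _
    · have h1 : ((tt.truncLT N).obj K).IsLE (N - 1) := tt.isLE_truncLT_obj K N (N - 1) (by omega)
      haveI : Subsingleton (Dual.HD A ((tt.truncLT N).obj K) i) :=
        ModuleCat.subsingleton_of_isZero (isZero_of_isLE _ (N - 1) i (by omega))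
      exact Module.finitePresentation_of_finite A _

include hω in
/-- **biduality** for a dualizing complex and an unbounded complex with finite cohomology -/
theorem isIso_evalHom_of_isDualizing (K : Dual.D A)
    (hK : ∀ i : ℤ, Module.Finite A (Dual.HD A K i)) : IsIso (evalHom K ω ω) := by
  haveI := hω.isNoetherianRing
  haveI := isIso_cU ω hω
  obtain ⟨a, b, hab, hge, hM⟩ := exists_injAmp_of_isDualizing ω hω
  rw [DerivedCategory.isIso_iff]
  intro i
  obtain ⟨N, hN⟩ : ∃ N : ℤ, N = i + 1 + (b - a) := ⟨_, rfl⟩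
  have hT := tt.triangleLTGE_distinguished N K
  have hC : ((tt.truncGE N).obj K).IsGE N := inferInstance
  have hP := isPseudoCoherent'_truncLT K hK N
  haveI : IsIso (evalHom ((tt.truncLT N).obj K) ω ω) :=
    isIso_evalHom_of_isPseudoCoherent _ ω ω hP a hge ⟨a, b, hM⟩
  -- the tensor side
  have h1 : IsIso ((homologyFunctor (ModuleCat.{u} A) i).map
      (tH (𝟙 ((RHomR A ω).obj ω)) ((tt.truncLTι N).app K))) := by
    have hα : IsIso ((homologyFunctor (ModuleCat.{u} A) i).map ((tt.truncLTι N).app K)) :=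
      isIso_homology_truncLTι N i (by omega) K
    have hnat := congrArg (fun t => (homologyFunctor (ModuleCat.{u} A) i).map t)
      (selfTenIso_nat ω ((tt.truncLTι N).app K))
    simp only [Functor.map_comp] at hnat
    have : (homologyFunctor (ModuleCat.{u} A) i).map
        (tH (𝟙 ((RHomR A ω).obj ω)) ((tt.truncLTι N).app K)) =
        ((homologyFunctor (ModuleCat.{u} A) i).map (selfTenIso ω ((tt.truncLT N).obj K)).hom ≫
          (homologyFunctor (ModuleCat.{u} A) i).map ((tt.truncLTι N).app K)) ≫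
          inv ((homologyFunctor (ModuleCat.{u} A) i).map (selfTenIso ω K).hom) := by
      rw [IsIso.eq_comp_inv]
      exact hnat
    rw [this]
    infer_instance
  -- the hom side
  obtain ⟨Z', v', w', hT'⟩ := distinguished_cocone_triangle
    (RHomMap ((tt.truncLTι N).app K) ω)
  have hZ' : Z'.IsLE (b - N - 1) :=
    isLE_cone_RHomMap_of_injAmp ((tt.truncLTι N).app K) ((tt.truncGEπ N).app K)
      ((tt.truncGEδLT N).app K) hT N hM v' w' hT'
  obtain ⟨Z₃, v₃, w₃, hT₃⟩ := distinguished_cocone_triangle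
    (RHomMap (RHomMap ((tt.truncLTι N).app K) ω) ω)
  haveI : Z'.IsLE (b - N - 1 + 1 - 1) := by
    have : b - N - 1 + 1 - 1 = b - N - 1 := by ring
    rw [this]; exact hZ'
  have hZ₃ : Z₃.IsGE (a - (b - N - 1 + 1)) :=
    isGE_cone_RHomMap (RHomMap ((tt.truncLTι N).app K) ω) v' w' hT' (b - N - 1 + 1) ω a v₃ w₃ hT₃
  have h3 : IsIso ((homologyFunctor (ModuleCat.{u} A) i).map
      (RHomMap (RHomMap ((tt.truncLTι N).app K) ω) ω)) :=
    isIso_homology_mor₁_of_isGE _ hT₃ _ hZ₃ i (by omega)
  have hnat := congrArg (fun t => (homologyFunctor (ModuleCat.{u} A) i).map t)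
    (evalHom_nat ω ω ((tt.truncLTι N).app K))
  simp only [Functor.map_comp] at hnat
  exact IsIso.of_isIso_fac_left hnat

end Main

end Groth.Agent.Lib.H6xBrg
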