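import Mathlib
import Groth.Agent.Lib.H6xBrgA
import Groth.Agent.Lib.H6xBrgD
import Groth.Agent.S1746
import Groth.Agent.Lib.H6xUncB
set_option backward.isDefEq.respectTransparency.types false

/-!
# helper6: `H^i(RHom(K, ω)) ≃ₗ Hom(K, ω⟦i⟧)`; finiteness of the cohomology of `RHom(K, ω)`
-/

set_option autoImplicit false
set_option linter.style.haveILetI false
universe u
open CategoryTheory CategoryTheory.Limits MonoidalCategory Pretriangulated
attribute [local instance] HasDerivedCategory.standard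

namespace Groth.Agent.Lib.H6xBrg

open DerivedCategory DTen Groth.Agent.Lib.H6xDTen Groth.Agent.Lib.H6xPCev Groth.Agent.Lib.H6xRdc

section Lin

variable {A : Type u} [CommRing A] [HasLTen A] [HasRHom A]

instance additive_tensorRightD (L : Dual.D A) : (tensorRightD A L).Additive := by
  haveI : PreservesColimitsOfSize.{0, 0} (tensorRightD A L) :=
    (rhomAdj A L).leftAdjoint_preservesColimits
  haveI := preservesBinaryBiproducts_of_preservesBinaryCoproducts (tensorRightD A L)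
  exact Functor.additive_of_preservesBinaryBiproducts _

omit [HasLTen A] [HasRHom A] in
lemma shEquiv_add (X Y : Dual.D A) (n : ℤ) (x y : X⟦-n⟧ ⟶ Y) :
    shEquiv X Y n (x + y) = shEquiv X Y n x + shEquiv X Y n y := by
  haveI : (shiftEquiv' (Dual.D A) (-n) n (neg_add_cancel n)).functor.Additive :=
    inferInstanceAs ((shiftFunctor (Dual.D A) (-n)).Additive)
  exact map_add ((shiftEquiv' (Dual.D A) (-n) n (neg_add_cancel n)).toAdjunction.homAddEquiv X Y) x y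

lemma rhomHomEquiv_symm_add (T Y M : Dual.D A) (x y : T ⟶ (RHomR A Y).obj M) :
    (rhomHomEquiv T Y M).symm (x + y) =
      (rhomHomEquiv T Y M).symm x + (rhomHomEquiv T Y M).symm y :=
  map_add ((rhomAdj A Y).homAddEquiv T M).symm x y

lemma rhomHomEquiv_symm_smul (T Y M : Dual.D A) (a : A) (x : T ⟶ (RHomR A Y).obj M) :
    (rhomHomEquiv T Y M).symm (a • x) = a • (rhomHomEquiv T Y M).symm x := by
  have h : ∀ x : T ⟶ (RHomR A Y).obj M, (rhomHomEquiv T Y M).symm x = tH x (𝟙 Y) ≫ ev Y M :=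
    fun x => (rhomAdj A Y).homEquiv_counit _ _ _
  rw [h, h, tH_smul_left, Linear.smul_comp]

/-- `(U⟦-q⟧ ⟶ RHom(Y, M)) ≃ₗ (Y ⟶ M⟦q⟧)` -/
noncomputable def homRHomLinearEquiv (q : ℤ) (Y M : Dual.D A) :
    ((DTen.unit A)⟦-q⟧ ⟶ (RHomR A Y).obj M) ≃ₗ[A] (Y ⟶ M⟦q⟧) :=
  { homRHomEquiv q Y M with
    map_add' := fun x y => by
      change homRHomEquiv q Y M (x + y) = homRHomEquiv q Y M x + homRHomEquiv q Y M y
      unfold homRHomEquiv
      simp only [Equiv.trans_apply, Iso.homFromEquiv_apply, Iso.app_inv]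
      rw [rhomHomEquiv_symm_add, Preadditive.comp_add, shEquiv_add]
    map_smul' := fun a x => by
      change homRHomEquiv q Y M (a • x) = a • homRHomEquiv q Y M x
      unfold homRHomEquiv
      simp only [Equiv.trans_apply, Iso.homFromEquiv_apply, Iso.app_inv]
      rw [rhomHomEquiv_symm_smul, Linear.comp_smul, shEquiv_smul] }

omit [HasLTen A] [HasRHom A] in
/-- `(U⟦-q⟧ ⟶ Z) ≃ₗ H^q(Z)` -/
theorem nonempty_V_hom_linearEquiv_HD (Z : Dual.D A) (q : ℤ) :
    Nonempty ((V A q ⟶ Z) ≃ₗ[A] Dual.HD A Z q) := by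
  obtain ⟨l⟩ := Groth.Agent.Lib.H6xBid.nonempty_hom_linearEquiv_HD Z q
  let e1 : (V A q ⟶ Z) ≃ₗ[A] (DTen.unit A ⟶ Z⟦q⟧) :=
    { shEquiv (DTen.unit A) Z q with
      map_add' := fun x y => shEquiv_add _ _ _ x y
      map_smul' := fun a x => shEquiv_smul _ _ _ a x }
  let e2 : (DTen.unit A ⟶ Z⟦q⟧) ≃ₗ[A] (Dual.inD A A ⟶ Z⟦q⟧) :=
    { (unitIsoInD (A := A)).homFromEquiv with
      map_add' := fun x y => Preadditive.comp_add _ _ _ _ _ _
      map_smul' := fun a x => Linear.comp_smul _ _ _ _ _ _ }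
  exact ⟨e1.trans (e2.trans l)⟩

/-- `H^q(RHom(Y, M)) ≃ₗ Hom(Y, M⟦q⟧)` -/
theorem nonempty_HD_RHom_linearEquiv (Y M : Dual.D A) (q : ℤ) :
    Nonempty (Dual.HD A ((RHomR A Y).obj M) q ≃ₗ[A] (Y ⟶ M⟦q⟧)) := by
  obtain ⟨l⟩ := nonempty_V_hom_linearEquiv_HD ((RHomR A Y).obj M) q
  exact ⟨l.symm.trans (homRHomLinearEquiv q Y M)⟩

end Lin

section Fin

variable {A : Type u} [CommRing A] [HasLTen A] [HasLTen₃ A] [IsSymMonoidal A] [HasRHom A]
  (ω : Dual.D A) (hω : Dual.IsDualizing A ω)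

include hω in
/-- the cohomology modules of `RHom(K, ω)` are finite -/
theorem finite_HD_RHom (K : Dual.D A) (hK : ∀ i : ℤ, Module.Finite A (Dual.HD A K i)) (i : ℤ) :
    Module.Finite A (Dual.HD A ((RHomR A K).obj ω) i) := by
  haveI := hω.isNoetherianRing
  obtain ⟨a, b, -, -, hM⟩ := exists_injAmp_of_isDualizing ω hω
  obtain ⟨l⟩ := nonempty_HD_RHom_linearEquiv K ω i
  haveI := Groth.Agent.S1746.result A K ω hK hω.finite_cohomology ⟨a, b, hM⟩ i
  exact Module.Finite.equiv l.symm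

end Fin

/-- **S1819**: biduality for a dualizing complex -/
theorem biduality_dualizing (A : Type u) [CommRing A] (ω : Dual.D A)
    (hω : Dual.IsDualizing A ω) (K : DRing.Cx A) [DRing.HasRHomCx K]
    (hK : ∀ i : ℤ, Module.Finite A (Dual.HD A (DRing.toD K) i)) :
    (∀ i : ℤ, Module.Finite A (Dual.HD A ((DRing.RHomCx K).obj ω) i)) ∧
      ∀ (E : DRing.Cx A) [DRing.HasRHomCx E], Nonempty (DRing.toD E ≅ (DRing.RHomCx K).obj ω) →
        Nonempty ((DRing.RHomCx E).obj ω ≅ DRing.toD K) := by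
  haveI : HasLTen A := Groth.Agent.Lib.H6xUnc.hasLTen _
  haveI : HasLTen₃ A := Groth.Agent.Lib.H6xUnc.hasLTen₃ _
  haveI : IsSymMonoidal A := Groth.Agent.Lib.H6xUnc.isSymMonoidal _
  haveI : HasRHom A := Groth.Agent.Lib.H6xRH.hasRHom
  obtain ⟨e1⟩ := nonempty_RHomCx_iso_RHomR K ω
  refine ⟨fun i => ?_, ?_⟩
  · haveI := finite_HD_RHom ω hω (Q.obj K) hK i
    exact Module.Finite.equiv
      ((homologyFunctor (ModuleCat.{u} A) i).mapIso e1).symm.toLinearEquiv
  · intro E _ ⟨eE⟩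
    obtain ⟨e2⟩ := nonempty_RHomCx_iso_RHomR_of_iso E (eE ≪≫ e1) ω
    haveI := isIso_evalHom_of_isDualizing ω hω (Q.obj K) hK
    haveI := isIso_cU ω hω
    exact ⟨e2 ≪≫ (asIso (evalHom (Q.obj K) ω ω)).symm ≪≫ selfTenIso ω (Q.obj K)⟩

end Groth.Agent.Lib.H6xBrg
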