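import Mathlib
import Groth.Agent.Lib.H6xRBCC
import Groth.Agent.Lib.H6xPFA
set_option backward.isDefEq.respectTransparency.types false

/-!
# helper6: the chain-level projection formula `res Y ⊗ F ≅ res (Y ⊗ ext F)` for restriction and
extension of scalars along a ring map (arbitrary complexes `Y`, `F`)
-/

set_option autoImplicit false
set_option linter.style.haveILetI false
universe u
open CategoryTheory CategoryTheory.Limits MonoidalCategory HomologicalComplex TensorProduct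

namespace Groth.Agent.Lib.H6xPrj

open DTen Groth.Agent.Lib.Helper1.KF Groth.Agent.Lib.H6xRBC

variable {R R' : Type u} [CommRing R] [CommRing R'] (φ : R →+* R')

/-- module-level projection formula map `M|_R ⊗_R V ⟶ (M ⊗_{R'} (R' ⊗_R V))|_R` -/
noncomputable def κ (M : ModuleCat.{u} R') (V : ModuleCat.{u} R) :
    (rM φ).obj M ⊗ V ⟶ (rM φ).obj (M ⊗ (eM φ).obj V) :=
  ((rM φ).obj M ◁ (aM φ).unit.app V) ≫ resTen₀app φ M ((eM φ).obj V)

theorem isIso_κ (M : ModuleCat.{u} R') (V : ModuleCat.{u} R) : IsIso (κ φ M V) := by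
  letI : Algebra R R' := φ.toAlgebra
  letI : Module R M := Module.compHom M φ
  haveI : IsScalarTower R R' M := ⟨fun r a m => by
    change (φ r * a) • m = φ r • (a • m)
    exact mul_smul _ _ _⟩
  let e := (TensorProduct.AlgebraTensorModule.cancelBaseChange R R' R' M V).symm
  rw [ConcreteCategory.isIso_iff_bijective]
  have h : ∀ x : M ⊗[R] V, (κ φ M V).hom x = e x := by
    intro x
    refine TensorProduct.induction_on (motive := fun x => (κ φ M V).hom x = e x) x ?_ ?_ ?_
    · exact (map_zero (κ φ M V).hom).trans (map_zero e).symm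
    · intro m v
      rfl
    · intro x y hx hy
      exact (map_add (κ φ M V).hom x y).trans ((congrArg₂ (· + ·) hx hy).trans (map_add e x y).symm)
  have h2 : (fun x : M ⊗[R] V => (κ φ M V).hom x) = (fun x => e x) := funext h
  have h3 : Function.Bijective (fun x : M ⊗[R] V => (κ φ M V).hom x) := by
    rw [h2]
    exact e.bijective
  exact h3

/-- `κ` on the terms of complexes, as an isomorphism with conveniently typed source and target -/
noncomputable def κX (Y : Cx R') (F : Cx R) (p q : ℤ) :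
    ((resCx φ).obj Y).X p ⊗ F.X q ≅ (rM φ).obj (Y.X p ⊗ ((extCx φ).obj F).X q) :=
  @asIso _ _ _ _ (κ φ (Y.X p) (F.X q)) (isIso_κ φ (Y.X p) (F.X q))

/-- `res` of the summand inclusion, conveniently typed -/
noncomputable def rι (Y Z : Cx R') (p q n : ℤ) (h : p + q = n) :
    (rM φ).obj (Y.X p ⊗ Z.X q) ⟶ ((resCx φ).obj (Y ⊗ Z)).X n :=
  (rM φ).map (ιTensorObj Y Z p q n h)

/-- chain-level projection formula map -/
noncomputable def cPF (Y : Cx R') (F : Cx R) :
    (resCx φ).obj Y ⊗ F ⟶ (resCx φ).obj (Y ⊗ (extCx φ).obj F) :=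
  ((resCx φ).obj Y ◁ (unitCx φ).app F) ≫ resTenCx φ Y ((extCx φ).obj F)

@[reassoc]
lemma ι_cPF (Y : Cx R') (F : Cx R) (p q n : ℤ) (h : p + q = n) :
    ιTensorObj ((resCx φ).obj Y) F p q n h ≫ (cPF φ Y F).f n =
      (κX φ Y F p q).hom ≫ rι φ Y ((extCx φ).obj F) p q n h := by
  have a1 := ι_whiskerLeft ((resCx φ).obj Y) ((unitCx φ).app F) p q n h
  have a2 := ι_resTenCx φ Y ((extCx φ).obj F) p q n h
  rw [cPF, HomologicalComplex.comp_f, reassoc_of% a1]
  erw [a2]
  rfl

/-- the adjunction restriction ⊣ coextension -/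
noncomputable abbrev cM : rM φ ⊣ ModuleCat.coextendScalars.{u, u, u} φ :=
  ModuleCat.restrictCoextendScalarsAdj.{u, u, u} φ

/-- maps out of `res ((Y ⊗ Z)^n)` are determined on the summands -/
lemma res_hom_ext {Y Z : Cx R'} {n : ℤ} {A : ModuleCat.{u} R}
    {f g : ((resCx φ).obj (Y ⊗ Z)).X n ⟶ A}
    (h : ∀ (p q : ℤ) (hpq : p + q = n), rι φ Y Z p q n hpq ≫ f = rι φ Y Z p q n hpq ≫ g) :
    f = g := by
  apply ((cM φ).homEquiv ((Y ⊗ Z).X n) A).injective
  apply tensor_hom_ext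
  intro p q hpq
  have e1 := (cM φ).homEquiv_naturality_left (ιTensorObj Y Z p q n hpq) f
  have e2 := (cM φ).homEquiv_naturality_left (ιTensorObj Y Z p q n hpq) g
  exact e1.symm.trans ((congrArg ((cM φ).homEquiv _ _) (h p q hpq)).trans e2)

/-- the inverse of `cPF` in degree `n` -/
noncomputable def cPFinv (Y : Cx R') (F : Cx R) (n : ℤ) :
    ((resCx φ).obj (Y ⊗ (extCx φ).obj F)).X n ⟶ ((resCx φ).obj Y ⊗ F).X n :=
  ((cM φ).homEquiv ((Y ⊗ (extCx φ).obj F).X n) (((resCx φ).obj Y ⊗ F).X n)).symm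
    (mapBifunctorDesc (K₁ := Y) (K₂ := (extCx φ).obj F) (F := curriedTensor (ModuleCat.{u} R'))
      (c := ComplexShape.up ℤ) (j := n) (fun p q h => (cM φ).homEquiv _ _
        ((κX φ Y F p q).inv ≫ ιTensorObj ((resCx φ).obj Y) F p q n h)))

@[reassoc]
lemma ι_cPFinv (Y : Cx R') (F : Cx R) (p q n : ℤ) (h : p + q = n) :
    rι φ Y ((extCx φ).obj F) p q n h ≫ cPFinv φ Y F n =
      (κX φ Y F p q).inv ≫ ιTensorObj ((resCx φ).obj Y) F p q n h := by
  have e1 := (cM φ).homEquiv_naturality_left_symm (ιTensorObj Y ((extCx φ).obj F) p q n h)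
    (mapBifunctorDesc (K₁ := Y) (K₂ := (extCx φ).obj F) (F := curriedTensor (ModuleCat.{u} R'))
      (c := ComplexShape.up ℤ) (j := n) (fun p q h => (cM φ).homEquiv _ _
        ((κX φ Y F p q).inv ≫ ιTensorObj ((resCx φ).obj Y) F p q n h)))
  have e2 : ιTensorObj Y ((extCx φ).obj F) p q n h ≫
      (mapBifunctorDesc (K₁ := Y) (K₂ := (extCx φ).obj F) (F := curriedTensor (ModuleCat.{u} R'))
      (c := ComplexShape.up ℤ) (j := n) (fun p q h => (cM φ).homEquiv _ _
        ((κX φ Y F p q).inv ≫ ιTensorObj ((resCx φ).obj Y) F p q n h))) =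
      (cM φ).homEquiv _ _ ((κX φ Y F p q).inv ≫ ιTensorObj ((resCx φ).obj Y) F p q n h) :=
    ι_mapBifunctorDesc _ p q h
  rw [e2] at e1
  exact e1.symm.trans (Equiv.symm_apply_apply _ _)

theorem isIso_cPF_f (Y : Cx R') (F : Cx R) (n : ℤ) : IsIso ((cPF φ Y F).f n) := by
  refine ⟨cPFinv φ Y F n, ?_, ?_⟩
  · apply tensor_hom_ext
    intro p q hpq
    rw [reassoc_of% (ι_cPF φ Y F p q n hpq), ι_cPFinv, Iso.hom_inv_id_assoc]
    exact (Category.comp_id _).symm
  · apply res_hom_ext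
    intro p q hpq
    rw [reassoc_of% (ι_cPFinv φ Y F p q n hpq), ι_cPF, Iso.inv_hom_id_assoc]
    exact (Category.comp_id _).symm

instance isIso_cPF (Y : Cx R') (F : Cx R) : IsIso (cPF φ Y F) := by
  haveI : ∀ n, IsIso ((cPF φ Y F).f n) := isIso_cPF_f φ Y F
  exact HomologicalComplex.Hom.isIso_of_components _

end Groth.Agent.Lib.H6xPrj
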