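import Mathlib
import Groth.Agent.Lib.H6xPrjA
import Groth.Agent.Lib.H6xTBc
set_option backward.isDefEq.respectTransparency.types false

/-!
# helper6: the derived projection formula `res W ⊗ᴸ X ≅ res (W ⊗ᴸ L X)` (arbitrary `W`, `X`)
-/

set_option autoImplicit false
set_option linter.style.haveILetI false
set_option maxHeartbeats 400000
universe u
open CategoryTheory CategoryTheory.Limits MonoidalCategory HomologicalComplex
attribute [local instance] HasDerivedCategory.standard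

namespace Groth.Agent.Lib.H6xPrj

open DTen DerivedCategory Groth.Agent.Lib.Helper1.KF Groth.Agent.Lib.Helper1.DT
  Groth.Agent.Lib.H6xDTen Groth.Agent.Lib.H6xRBC Groth.Agent.Lib.H6xPF Groth.Agent.Lib.H6xTB

variable {R R' : Type u} [CommRing R] [CommRing R'] (φ : R →+* R')
  [HasLTen R] [HasLTen₃ R] [IsSymMonoidal R] [HasLTen R'] [HasLTen₃ R'] [IsSymMonoidal R']
  [HasResTen φ] [ResLegIso φ]

section base

variable [HasLBase φ]

/-- the projection formula map for `LBase` -/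
noncomputable def πB (W : Dual.D R') (X : Dual.D R) :
    tO ((rD φ).obj W) X ⟶ (rD φ).obj (tO W ((LBase φ).obj X)) :=
  tH (𝟙 ((rD φ).obj W)) ((baseAdj φ).unit.app X) ≫ pf φ W ((LBase φ).obj X)

lemma πB_Q (Y : Cx R') (P : Cx R) :
    πB φ (Q.obj Y) (Q.obj P) ≫ (rD φ).map (tH (𝟙 (Q.obj Y)) ((baseCmp φ).app P)) ≫
        (rD φ).map (εX Y ((extCx φ).obj P)) ≫ rF φ (Y ⊗ (extCx φ).obj P) =
      tH (rF φ Y) (𝟙 (Q.obj P)) ≫ εX ((resCx φ).obj Y) P ≫ Q.map (cPF φ Y P) := by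
  have h2 := pf_nat φ (𝟙 (Q.obj Y)) ((baseCmp φ).app P)
  rw [CategoryTheory.Functor.map_id] at h2
  have h5 := pf_fac φ Y ((extCx φ).obj P)
  have h6 := baseCmp_fac φ P
  have hγ : (baseγ φ).app P =
      Q.map ((unitCx φ).app P) ≫ (resFactors φ).inv.app ((extCx φ).obj P) := rfl
  have h7 : tH (𝟙 (Q.obj ((resCx φ).obj Y))) (Q.map ((unitCx φ).app P)) ≫
      εX ((resCx φ).obj Y) ((resCx φ).obj ((extCx φ).obj P)) =
      εX ((resCx φ).obj Y) P ≫ Q.map ((resCx φ).obj Y ◁ (unitCx φ).app P) :=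
    εX_natural_right ((resCx φ).obj Y) ((unitCx φ).app P)
  have hsplit : tH (rF φ Y) (Q.map ((unitCx φ).app P)) =
      tH (rF φ Y) (𝟙 (Q.obj P)) ≫
        tH (𝟙 (Q.obj ((resCx φ).obj Y))) (Q.map ((unitCx φ).app P)) := by
    rw [tH_comp, Category.comp_id, Category.id_comp]
  rw [πB]
  simp only [Category.assoc]
  rw [← reassoc_of% h2, h5, tH_comp_assoc, Category.id_comp, tH_comp_assoc,
    Category.id_comp]
  erw [h6]
  rw [hγ, Category.assoc, Iso.inv_hom_id_app]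
  erw [Category.comp_id]
  rw [hsplit, Category.assoc, reassoc_of% h7, ← Functor.map_comp, cPF]

@[reassoc]
lemma πB_nat {W W' : Dual.D R'} {X X' : Dual.D R} (w : W ⟶ W') (f : X ⟶ X') :
    tH ((rD φ).map w) f ≫ πB φ W' X' =
      πB φ W X ≫ (rD φ).map (tH w ((LBase φ).map f)) := by
  have h1 := (baseAdj φ).unit.naturality f
  dsimp only [Functor.id_map, Functor.comp_map, Functor.id_obj, Functor.comp_obj] at h1
  have h2 := pf_nat φ w ((LBase φ).map f)
  rw [πB, πB, tH_comp_assoc, Category.comp_id, h1, Category.assoc, ← h2, tH_comp_assoc,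
    Category.id_comp]

theorem isIso_πB_Q (Y : Cx R') (P : Cx R) [P.IsKProjective] :
    IsIso (πB φ (Q.obj Y) (Q.obj P)) := by
  have h := πB_Q φ Y P
  haveI : IsIso ((baseCmp φ).app P) := isIso_baseCmp_of_isKProjective φ P
  haveI : IsIso (εX ((resCx φ).obj Y) P) := isIso_εX _ _ (Or.inr (kflat_of_isKProjective P))
  haveI : IsIso (εX Y ((extCx φ).obj P)) :=
    isIso_εX _ _ (Or.inr (kflat_of_isKProjective ((extCx φ).obj P)))
  have hR : IsIso (tH (rF φ Y) (𝟙 (Q.obj P)) ≫ εX ((resCx φ).obj Y) P ≫ Q.map (cPF φ Y P)) :=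
    inferInstance
  rw [← h] at hR
  exact IsIso.of_isIso_comp_right _
    ((rD φ).map (tH (𝟙 (Q.obj Y)) ((baseCmp φ).app P)) ≫
        (rD φ).map (εX Y ((extCx φ).obj P)) ≫ rF φ (Y ⊗ (extCx φ).obj P))

theorem isIso_πB (W : Dual.D R') (X : Dual.D R) : IsIso (πB φ W X) := by
  obtain ⟨P, hP, -, ⟨e⟩⟩ := exists_kproj_iso X
  obtain ⟨Y, ⟨eW⟩⟩ : ∃ Y : Cx R', Nonempty (Q.obj Y ≅ W) := ⟨_, ⟨Q.objObjPreimageIso W⟩⟩
  haveI := isIso_πB_Q φ Y P
  have nat := πB_nat φ eW.hom e.hom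
  have hL : IsIso (tH ((rD φ).map eW.hom) e.hom ≫ πB φ W X) := by
    rw [nat]
    infer_instance
  exact IsIso.of_isIso_comp_left (tH ((rD φ).map eW.hom) e.hom) _

end base

section adj

variable {L : Dual.D R ⥤ Dual.D R'} (adjL : L ⊣ rD φ)

/-- the projection formula map for an arbitrary left adjoint of restriction -/
noncomputable def πg (W : Dual.D R') (X : Dual.D R) :
    tO ((rD φ).obj W) X ⟶ (rD φ).obj (tO W (L.obj X)) :=
  tH (𝟙 ((rD φ).obj W)) (adjL.unit.app X) ≫ pf φ W (L.obj X)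

@[reassoc]
lemma πg_nat {W W' : Dual.D R'} {X X' : Dual.D R} (w : W ⟶ W') (f : X ⟶ X') :
    tH ((rD φ).map w) f ≫ πg φ adjL W' X' =
      πg φ adjL W X ≫ (rD φ).map (tH w (L.map f)) := by
  have h1 := adjL.unit.naturality f
  dsimp only [Functor.id_map, Functor.comp_map, Functor.id_obj, Functor.comp_obj] at h1
  have h2 := pf_nat φ w (L.map f)
  rw [πg, πg, tH_comp_assoc, Category.comp_id, h1, Category.assoc, ← h2, tH_comp_assoc,
    Category.id_comp]

lemma πg_change {L' : Dual.D R ⥤ Dual.D R'} (adjL' : L' ⊣ rD φ) (W : Dual.D R') (X : Dual.D R) :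
    πg φ adjL' W X =
      πg φ adjL W X ≫ (rD φ).map (tH (𝟙 W) ((adjL.leftAdjointUniq adjL').hom.app X)) := by
  have h := Adjunction.unit_leftAdjointUniq_hom_app adjL adjL' X
  have h2 := pf_nat φ (𝟙 W) ((adjL.leftAdjointUniq adjL').hom.app X)
  rw [CategoryTheory.Functor.map_id] at h2
  rw [πg, πg, Category.assoc, ← h2, tH_comp_assoc, Category.id_comp, h]

lemma πg_baseAdj [HasLBase φ] (W : Dual.D R') (X : Dual.D R) :
    πg φ (baseAdj φ) W X = πB φ W X := rfl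

instance isIso_πg (W : Dual.D R') (X : Dual.D R) : IsIso (πg φ adjL W X) := by
  haveI : HasLBase φ := hasLBase φ
  rw [πg_change φ (baseAdj φ) adjL W X, πg_baseAdj]
  haveI := isIso_πB φ W X
  infer_instance

/-- the projection formula is compatible with the left actions of `N = res 1` -/
lemma πg_actL (W : Dual.D R') (X : Dual.D R) :
    aD (NN φ) ((rD φ).obj W) X ≫ tH (𝟙 (NN φ)) (πg φ adjL W X) ≫ actL φ (tO W (L.obj X)) =
      tH (actL φ W) (𝟙 X) ≫ πg φ adjL W X := by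
  have hA := associator_natural (𝟙 (NN φ)) (𝟙 ((rD φ).obj W)) (adjL.unit.app X)
  have hD := pf_assoc φ (DTen.unit R') W (L.obj X)
  have hC := unitL_whisker W (L.obj X)
  have hB : tH ((rD φ).map ((unitL R').app W)) (𝟙 ((rD φ).obj (L.obj X))) ≫ pf φ W (L.obj X) =
      pf φ (tO (DTen.unit R') W) (L.obj X) ≫
        (rD φ).map (tH ((unitL R').app W) (𝟙 (L.obj X))) := by
    have := pf_nat φ ((unitL R').app W) (𝟙 (L.obj X))
    rw [CategoryTheory.Functor.map_id] at this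
    exact this
  have eL : aD (NN φ) ((rD φ).obj W) X ≫ tH (𝟙 (NN φ)) (πg φ adjL W X) ≫
      actL φ (tO W (L.obj X)) =
      tH (tH (𝟙 (NN φ)) (𝟙 ((rD φ).obj W))) (adjL.unit.app X) ≫
        tH (pf φ (DTen.unit R') W) (𝟙 ((rD φ).obj (L.obj X))) ≫
        tH ((rD φ).map ((unitL R').app W)) (𝟙 ((rD φ).obj (L.obj X))) ≫ pf φ W (L.obj X) := by
    have s1 : tH (𝟙 (NN φ)) (πg φ adjL W X) =
        tH (𝟙 (NN φ)) (tH (𝟙 ((rD φ).obj W)) (adjL.unit.app X)) ≫
          tH (𝟙 (NN φ)) (pf φ W (L.obj X)) := by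
      rw [πg, tH_comp, Category.comp_id]
    have s2 : (rD φ).map (aD (DTen.unit R') W (L.obj X)) ≫
        (rD φ).map ((unitL R').app (tO W (L.obj X))) =
        (rD φ).map (tH ((unitL R').app W) (𝟙 (L.obj X))) := by
      rw [← Functor.map_comp, hC]
    rw [s1, actL]
    simp only [Category.assoc]
    rw [← reassoc_of% hA, ← reassoc_of% hD, s2, ← hB]
  have eR : tH (actL φ W) (𝟙 X) ≫ πg φ adjL W X =
      tH (tH (𝟙 (NN φ)) (𝟙 ((rD φ).obj W))) (adjL.unit.app X) ≫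
        tH (pf φ (DTen.unit R') W) (𝟙 ((rD φ).obj (L.obj X))) ≫
        tH ((rD φ).map ((unitL R').app W)) (𝟙 ((rD φ).obj (L.obj X))) ≫ pf φ W (L.obj X) := by
    rw [πg, actL, tH_id, tH_comp_assoc, tH_comp_assoc, tH_comp_assoc]
    simp only [Category.comp_id, Category.id_comp]
    erw [Category.comp_id]
  exact eL.trans eR.symm

end adj

end Groth.Agent.Lib.H6xPrj
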