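import Mathlib
import Groth.Agent.Lib.H6xPCevD
import Groth.Agent.Lib.H6xPrjB
import Groth.Agent.Lib.H6xDTenDualA
import Groth.Agent.Lib.H6xDTenMonD
import Groth.Agent.Lib.Helper17DCompare5
set_option backward.isDefEq.respectTransparency.types false

/-!
# helper6: `RHom(X, Y⟦n⟧) ≅ RHom(X, Y)⟦n⟧`, and `Rψ(RHom_P(N, Y)) ≅ RHom_B(L N, Rψ Y)` for a right
adjoint `Rψ` of restriction of scalars along `ψ : P → B` and a left adjoint `L`
-/

set_option autoImplicit false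
set_option linter.style.haveILetI false
universe u
open CategoryTheory CategoryTheory.Limits MonoidalCategory Pretriangulated
attribute [local instance] HasDerivedCategory.standard

namespace Groth.Agent.Lib.H6xBrg

open DerivedCategory DTen Groth.Agent.Lib.H6xDTen Groth.Agent.Lib.H6xPCev
  Groth.Agent.Lib.Helper17.DCompare Groth.Agent.Lib.H6xPF Groth.Agent.Lib.H6xPrj

section RShift

variable {A : Type u} [CommRing A] [HasLTen A] [HasLTen₃ A] [IsSymMonoidal A] [HasRHom A]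

attribute [local instance] monoidalD

/-- `RHom(X, -)` commutes with shifts (objectwise) -/
theorem nonempty_rhom_shift_iso (X Y : Dual.D A) (n : ℤ) :
    Nonempty ((RHomR A X).obj (Y⟦n⟧) ≅ ((RHomR A X).obj Y)⟦n⟧) := by
  have hU : DRing.IsPerfect A ((DTen.unit A)⟦n⟧) :=
    isPerfect_shift (isPerfect_of_iso (unitIsoInD (A := A)).symm (isPerfect_inD_self A)) n
  obtain ⟨D, ⟨hp⟩⟩ := exists_exactPairing_of_isPerfect _ hU
  letI := hp
  haveI := isIso_evalTen_of_exactPairing_left ((DTen.unit A)⟦n⟧) D Y X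
  exact ⟨(RHomR A X).mapIso ((β (A := A) n).app Y).symm ≪≫
    (asIso (evalTen ((DTen.unit A)⟦n⟧) Y X)).symm ≪≫ (β (A := A) n).app ((RHomR A X).obj Y)⟩

end RShift

section FinAdj

variable {R R' : Type u} [CommRing R] [CommRing R'] (φ : R →+* R')
  [HasLTen R] [HasLTen₃ R] [IsSymMonoidal R] [HasLTen R'] [HasLTen₃ R'] [IsSymMonoidal R']
  [HasResTen φ] [ResLegIso φ] [HasRHom R] [HasRHom R']
  {L : Dual.D R ⥤ Dual.D R'} (adjL : L ⊣ rD φ)
  {Rφ : Dual.D R ⥤ Dual.D R'} (adj : rD φ ⊣ Rφ)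

/-- the hom-bijection `Hom(W, Rφ RHom(N, Y)) ≃ Hom(W ⊗ᴸ L N, Rφ Y)` -/
noncomputable def finAdjHomEquiv (N Y : Dual.D R) (W : Dual.D R') :
    (W ⟶ Rφ.obj ((RHomR R N).obj Y)) ≃ (tO W (L.obj N) ⟶ Rφ.obj Y) :=
  ((adj.homEquiv W ((RHomR R N).obj Y)).symm.trans
    ((rhomHomEquiv ((rD φ).obj W) N Y).symm.trans
      ((asIso (πg φ adjL W N)).homFromEquiv (Z := Y)))).trans
    (adj.homEquiv (tO W (L.obj N)) Y)

lemma finAdjHomEquiv_comp (N Y : Dual.D R) {W W' : Dual.D R'} (f : W' ⟶ W)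
    (g : W ⟶ Rφ.obj ((RHomR R N).obj Y)) :
    finAdjHomEquiv φ adjL adj N Y W' (f ≫ g) =
      tH f (𝟙 (L.obj N)) ≫ finAdjHomEquiv φ adjL adj N Y W g := by
  unfold finAdjHomEquiv
  simp only [Equiv.trans_apply, Iso.homFromEquiv_apply, asIso_inv]
  have h1 : (adj.homEquiv W' ((RHomR R N).obj Y)).symm (f ≫ g) =
      (rD φ).map f ≫ (adj.homEquiv W ((RHomR R N).obj Y)).symm g :=
    adj.homEquiv_naturality_left_symm f g
  have h2 : ∀ x : (rD φ).obj W ⟶ (RHomR R N).obj Y,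
      (rhomHomEquiv ((rD φ).obj W') N Y).symm ((rD φ).map f ≫ x) =
        tH ((rD φ).map f) (𝟙 N) ≫ (rhomHomEquiv ((rD φ).obj W) N Y).symm x :=
    fun x => (rhomAdj R N).homEquiv_naturality_left_symm ((rD φ).map f) x
  have h3 : inv (πg φ adjL W' N) ≫ tH ((rD φ).map f) (𝟙 N) =
      (rD φ).map (tH f (𝟙 (L.obj N))) ≫ inv (πg φ adjL W N) := by
    rw [IsIso.inv_comp_eq, ← Category.assoc, IsIso.eq_comp_inv]
    have := πg_nat φ adjL f (𝟙 N)
    rw [CategoryTheory.Functor.map_id] at this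
    exact this
  rw [h1, h2, reassoc_of% h3]
  exact adj.homEquiv_naturality_left _ _

include adjL adj in
/-- `Rφ RHom_R(N, Y)` represents `Hom(- ⊗ᴸ L N, Rφ Y)` -/
noncomputable def finAdjRepresentableBy (N Y : Dual.D R) :
    ((tensorRightD R' (L.obj N)).op ⋙ yoneda.obj (Rφ.obj Y)).RepresentableBy
      (Rφ.obj ((RHomR R N).obj Y)) where
  homEquiv {W} := finAdjHomEquiv φ adjL adj N Y W
  homEquiv_comp {W W'} f g := finAdjHomEquiv_comp φ adjL adj N Y f g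

include adjL adj in
/-- `Rφ(RHom_R(N, Y)) ≅ RHom_{R'}(L N, Rφ Y)` -/
theorem nonempty_rightAdjoint_rhom_iso (N Y : Dual.D R) :
    Nonempty (Rφ.obj ((RHomR R N).obj Y) ≅ (RHomR R' (L.obj N)).obj (Rφ.obj Y)) :=
  ⟨(finAdjRepresentableBy φ adjL adj N Y).uniqueUpToIso
    ((rhomAdj R' (L.obj N)).representableBy (Rφ.obj Y))⟩

end FinAdj

end Groth.Agent.Lib.H6xBrg
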