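import Mathlib
import Groth.Agent.Lib.H6xPCevD
import Groth.Agent.Lib.Helper1KF12
import Groth.Agent.Lib.Helper1KF11
set_option backward.isDefEq.respectTransparency.types false

/-!
# helper6: derived tensor product with an object of finite tor amplitude: lower bounds (objects, cones)
-/

set_option autoImplicit false
set_option linter.style.haveILetI false
universe u
open CategoryTheory CategoryTheory.Limits MonoidalCategory HomologicalComplex Pretriangulated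
attribute [local instance] HasDerivedCategory.standard

namespace Groth.Agent.Lib.H6xPCev

open DerivedCategory DTen Groth.Agent.Lib.H6xDTen Groth.Agent.Lib.Helper1.KF Groth.Agent.Lib.Helper1.DT

variable {A : Type u} [CommRing A]

lemma isZero_tensor_X (K L : Cx A) (k : ℤ)
    (h : ∀ p q : ℤ, p + q = k → IsZero (K.X p) ∨ IsZero (L.X q)) : IsZero ((K ⊗ L : Cx A).X k) := by
  rw [IsZero.iff_id_eq_zero]
  apply tensor_hom_ext
  intro p q hpq
  have hz : IsZero (K.X p ⊗ L.X q) := by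
    rcases h p q hpq with h1 | h1
    · exact (tensorRight (L.X q)).map_isZero h1
    · exact (tensorLeft (K.X p)).map_isZero h1
  exact hz.eq_of_src _ _

section flat

variable (F : Cx A) (hFf : DRing.TermwiseFlat F) (lo hi : ℤ) (hFv : DRing.VanishesOutside F lo hi)

include hFf hFv in
lemma kflat_of_flatAmp : KFlat F :=
  kflat_of_boundedAbove_flat F hi (fun q hq => hFv q (Or.inr hq)) hFf

include hFf in
lemma shortExact_tensorLeft_of_termwiseFlat (S : ShortComplex (Cx A)) (hS : S.ShortExact) :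
    (S.map (tensorLeft F)).ShortExact := by
  apply tensorLeft_shortExact
  intro p q
  haveI : Module.Flat A (F.X p) := hFf p
  have hq : (S.map (eval _ _ q)).ShortExact := by
    have := hS.mono_f
    have := hS.epi_g
    exact hS.map_of_exact (eval _ _ q)
  exact hq.map_of_exact (tensorLeft (F.X p))

variable [HasLTen A]

include hFf hFv in
/-- (TorB1) -/
theorem isGE_tO_Q_of_flatAmp (Z : Dual.D A) (m : ℤ) [hZ : Z.IsGE m] :
    (tO (Q.obj F) Z).IsGE (m + lo) := by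
  obtain ⟨Z', hZ', ⟨e⟩⟩ := exists_iso_Q_obj_of_isGE Z m
  have hkf := kflat_of_flatAmp F hFf lo hi hFv
  let i1 : tO (Q.obj F) Z ≅ Q.obj (F ⊗ Z') :=
    (LTen₂ A).mapIso (Iso.prod (Iso.refl (Q.obj F)) e) ≪≫ μK F Z' (Or.inl hkf)
  haveI : (F ⊗ Z' : Cx A).IsStrictlyGE (m + lo) := by
    rw [CochainComplex.isStrictlyGE_iff]
    intro i hi'
    apply isZero_tensor_X
    intro p q hpq
    by_cases hp : p < lo
    · exact Or.inl (hFv p (Or.inl hp))
    · exact Or.inr (Z'.isZero_of_isStrictlyGE m q (by omega))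
  exact (DerivedCategory.TStructure.t).isGE_of_iso i1.symm (m + lo)

include hFf hFv in
/-- (TorB2) -/
theorem isGE_cone_tH_of_flatAmp {Y Y' Z' : Dual.D A} (g : Y ⟶ Y') (v : Y' ⟶ Z')
    (w : Z' ⟶ Y⟦(1 : ℤ)⟧) (hTg : Triangle.mk g v w ∈ distTriang (Dual.D A)) (N' : ℤ)
    [hZ' : Z'.IsGE N'] {Z₂ : Dual.D A} (v₂ : tO (Q.obj F) Y' ⟶ Z₂)
    (w₂ : Z₂ ⟶ (tO (Q.obj F) Y)⟦(1 : ℤ)⟧)
    (hT₂ : Triangle.mk (tH (𝟙 (Q.obj F)) g) v₂ w₂ ∈ distTriang (Dual.D A)) :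
    Z₂.IsGE (N' + lo) := by
  have hkf := kflat_of_flatAmp F hFf lo hi hFv
  obtain ⟨Y₀, hY₀, -, ⟨eY⟩⟩ := exists_kproj_iso Y
  haveI := hY₀
  let Y₀' : Cx A := Q.objPreimage Y'
  let eY' : Q.obj Y₀' ≅ Y' := Q.objObjPreimageIso Y'
  obtain ⟨g₀, hg₀⟩ := Q_map_surjective Y₀ Y₀' (eY.hom ≫ g ≫ eY'.inv)
  have hπ : QuasiIso (biprod.fst : cyl Y₀ Y₀' ⟶ Y₀') := quasiIso_cyl_fst Y₀ Y₀'
  haveI : IsIso (Q.map (biprod.fst : cyl Y₀ Y₀' ⟶ Y₀')) :=
    (DerivedCategory.isIso_Q_map_iff_quasiIso (φ := (biprod.fst : cyl Y₀ Y₀' ⟶ Y₀'))).2 hπ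
  let e₂ : Q.obj (cyl Y₀ Y₀') ≅ Y' := asIso (Q.map (biprod.fst : cyl Y₀ Y₀' ⟶ Y₀')) ≪≫ eY'
  have hcomm : Q.map (cylι g₀) ≫ e₂.hom = eY.hom ≫ g := by
    change Q.map (cylι g₀) ≫ Q.map biprod.fst ≫ eY'.hom = _
    rw [← Functor.map_comp_assoc, cylι_fst, hg₀, Category.assoc, Category.assoc, Iso.inv_hom_id,
      Category.comp_id]
  let S : ShortComplex (Cx A) := ShortComplex.mk (cylι g₀) (cokernel.π (cylι g₀))
    (cokernel.condition (cylι g₀))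
  have hS : S.ShortExact :=
    { exact := ShortComplex.exact_cokernel (cylι g₀)
      mono_f := inferInstanceAs (Mono (cylι g₀))
      epi_g := inferInstanceAs (Epi (cokernel.π (cylι g₀))) }
  have hT₀ := triangleOfSES_distinguished hS
  let iso₀ := isoTriangleOfIso₁₂ (triangleOfSES hS) (Triangle.mk g v w) hT₀ hTg eY e₂ hcomm
  have hC : (Q.obj (cokernel (cylι g₀))).IsGE N' := by
    haveI : (Triangle.π₃.obj (Triangle.mk g v w)).IsGE N' := hZ'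
    exact (DerivedCategory.TStructure.t).isGE_of_iso (Triangle.π₃.mapIso iso₀).symm N'
  -- tensor with `F`
  have hS' := shortExact_tensorLeft_of_termwiseFlat F hFf S hS
  have hT₀' := triangleOfSES_distinguished hS'
  let i₁ : Q.obj (F ⊗ Y₀) ≅ tO (Q.obj F) Y :=
    (μK F Y₀ (Or.inl hkf)).symm ≪≫ (LTen₂ A).mapIso (Iso.prod (Iso.refl (Q.obj F)) eY)
  let i₂ : Q.obj (F ⊗ cyl Y₀ Y₀') ≅ tO (Q.obj F) Y' :=
    (μK F (cyl Y₀ Y₀') (Or.inl hkf)).symm ≪≫ (LTen₂ A).mapIso (Iso.prod (Iso.refl (Q.obj F)) e₂)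
  have hcomm' : Q.map (F ◁ cylι g₀) ≫ i₂.hom = i₁.hom ≫ tH (𝟙 (Q.obj F)) g := by
    have hn : tH (𝟙 (Q.obj F)) (Q.map (cylι g₀)) ≫ εX F (cyl Y₀ Y₀') =
        εX F Y₀ ≫ Q.map (F ◁ cylι g₀) := by
      have := εX_natural (𝟙 F) (cylι g₀)
      rw [CategoryTheory.Functor.map_id, MonoidalCategory.id_tensorHom] at this
      exact this
    haveI := isIso_εX F Y₀ (Or.inl hkf)
    haveI := isIso_εX F (cyl Y₀ Y₀') (Or.inl hkf)
    have hn' : Q.map (F ◁ cylι g₀) ≫ inv (εX F (cyl Y₀ Y₀')) =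
        inv (εX F Y₀) ≫ tH (𝟙 (Q.obj F)) (Q.map (cylι g₀)) := by
      rw [IsIso.comp_inv_eq, Category.assoc, hn, IsIso.inv_hom_id_assoc]
    change Q.map (F ◁ cylι g₀) ≫ inv (εX F (cyl Y₀ Y₀')) ≫ tH (𝟙 (Q.obj F)) e₂.hom =
      (inv (εX F Y₀) ≫ tH (𝟙 (Q.obj F)) eY.hom) ≫ tH (𝟙 (Q.obj F)) g
    rw [reassoc_of% hn', Category.assoc, tH_comp, tH_comp, Category.comp_id, hcomm]
  let iso₁ := isoTriangleOfIso₁₂ (triangleOfSES hS') (Triangle.mk (tH (𝟙 (Q.obj F)) g) v₂ w₂)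
    hT₀' hT₂ i₁ i₂ hcomm'
  have h3 : (tO (Q.obj F) (Q.obj (cokernel (cylι g₀)))).IsGE (N' + lo) :=
    isGE_tO_Q_of_flatAmp F hFf lo hi hFv _ N'
  have h4 : (Q.obj (F ⊗ cokernel (cylι g₀))).IsGE (N' + lo) :=
    (DerivedCategory.TStructure.t).isGE_of_iso (μK F (cokernel (cylι g₀)) (Or.inl hkf)) (N' + lo)
  haveI : (Triangle.π₃.obj (triangleOfSES hS')).IsGE (N' + lo) := h4
  exact (DerivedCategory.TStructure.t).isGE_of_iso (Triangle.π₃.mapIso iso₁) (N' + lo)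

end flat

section torAmp

variable [HasLTen A] {N : Dual.D A} {lo hi : ℤ} (hN : DRing.HasTorAmplitudeIn A lo hi N)

include hN in
theorem isGE_tO_of_torAmp (Z : Dual.D A) (m : ℤ) [hZ : Z.IsGE m] : (tO N Z).IsGE (m + lo) := by
  obtain ⟨F, hFv, hFf, ⟨e⟩⟩ := hN
  haveI := isGE_tO_Q_of_flatAmp F hFf lo hi hFv Z m
  exact (DerivedCategory.TStructure.t).isGE_of_iso
    ((LTen₂ A).mapIso (Iso.prod e (Iso.refl Z))) (m + lo)

include hN in
theorem isGE_cone_tH_of_torAmp {Y Y' Z' : Dual.D A} (g : Y ⟶ Y') (v : Y' ⟶ Z')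
    (w : Z' ⟶ Y⟦(1 : ℤ)⟧) (hTg : Triangle.mk g v w ∈ distTriang (Dual.D A)) (N' : ℤ)
    [hZ' : Z'.IsGE N'] {Z₂ : Dual.D A} (v₂ : tO N Y' ⟶ Z₂) (w₂ : Z₂ ⟶ (tO N Y)⟦(1 : ℤ)⟧)
    (hT₂ : Triangle.mk (tH (𝟙 N) g) v₂ w₂ ∈ distTriang (Dual.D A)) : Z₂.IsGE (N' + lo) := by
  obtain ⟨F, hFv, hFf, ⟨e⟩⟩ := hN
  obtain ⟨Z₃, v₃, w₃, hT₃⟩ := distinguished_cocone_triangle (tH (𝟙 (Q.obj F)) g)
  have h3 : Z₃.IsGE (N' + lo) := isGE_cone_tH_of_flatAmp F hFf lo hi hFv g v w hTg N' v₃ w₃ hT₃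
  let i₁ : tO (Q.obj F) Y ≅ tO N Y := (LTen₂ A).mapIso (Iso.prod e (Iso.refl Y))
  let i₂ : tO (Q.obj F) Y' ≅ tO N Y' := (LTen₂ A).mapIso (Iso.prod e (Iso.refl Y'))
  have hcomm : tH (𝟙 (Q.obj F)) g ≫ i₂.hom = i₁.hom ≫ tH (𝟙 N) g := by
    change tH (𝟙 (Q.obj F)) g ≫ tH e.hom (𝟙 Y') = tH e.hom (𝟙 Y) ≫ tH (𝟙 N) g
    rw [tH_comp, tH_comp, Category.id_comp, Category.comp_id, Category.id_comp, Category.comp_id]
  let iso := isoTriangleOfIso₁₂ (Triangle.mk (tH (𝟙 (Q.obj F)) g) v₃ w₃)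
    (Triangle.mk (tH (𝟙 N) g) v₂ w₂) hT₃ hT₂ i₁ i₂ hcomm
  haveI : (Triangle.π₃.obj (Triangle.mk (tH (𝟙 (Q.obj F)) g) v₃ w₃)).IsGE (N' + lo) := h3
  exact (DerivedCategory.TStructure.t).isGE_of_iso (Triangle.π₃.mapIso iso) (N' + lo)

end torAmp

omit [CommRing A] in
lemma isIso_homology_map_of_isGE_cone {A : Type u} [CommRing A] (T : Triangle (Dual.D A))
    (hT : T ∈ distTriang (Dual.D A)) (N₀ : ℤ) (h : T.obj₃.IsGE N₀) (j : ℤ) (hj : j < N₀) :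
    IsIso ((homologyFunctor (ModuleCat.{u} A) j).map T.mor₁) := by
  rw [DerivedCategory.isGE_iff] at h
  haveI : Epi ((homologyFunctor (ModuleCat.{u} A) j).map T.mor₁) := by
    rw [HomologySequence.epi_homologyMap_mor₁_iff T hT j]
    exact (h j hj).eq_of_tgt _ _
  haveI : Mono ((homologyFunctor (ModuleCat.{u} A) j).map T.mor₁) := by
    rw [HomologySequence.mono_homologyMap_mor₁_iff T hT (j - 1) j (by omega)]
    exact (h (j - 1) (by omega)).eq_of_src _ _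
  exact isIso_of_mono_of_epi _

section main

variable [HasLTen A] [HasLTen₃ A] [IsSymMonoidal A] [HasRHom A]

attribute [local instance] monoidalD

/-- `evalTen N M K : N ⊗ᴸ RHom(K, M) ⟶ RHom(K, N ⊗ᴸ M)` is an isomorphism for `N` of finite tor
amplitude, `M ∈ D^{≥ n}` and `K` pseudo-coherent -/
theorem isIso_evalTen_of_isPseudoCoherent (N M K : Dual.D A) {lo hi : ℤ}
    (hN : DRing.HasTorAmplitudeIn A lo hi N) (n : ℤ) (hM : M.IsGE n)
    (hK : DRing.IsPseudoCoherent' A K) : IsIso (evalTen N M K) := by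
  rw [DerivedCategory.isIso_iff]
  intro i
  obtain ⟨P, C, α, u, w, hT, hP, hC⟩ := exists_perfect_approx K hK (n + lo - i - 1)
  have hL : (tO N M).IsGE (n + lo) := isGE_tO_of_torAmp hN M n
  -- the hom side
  obtain ⟨Z₁, v₁, w₁, hT₁⟩ := distinguished_cocone_triangle (RHomMap α (tO N M))
  have hZ₁ : Z₁.IsGE (n + lo - (n + lo - i - 1)) :=
    isGE_cone_RHomMap α u w hT (n + lo - i - 1) (tO N M) (n + lo) v₁ w₁ hT₁
  -- the tensor side
  obtain ⟨Z', v', w', hT'⟩ := distinguished_cocone_triangle (RHomMap α M)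
  have hZ' : Z'.IsGE (n - (n + lo - i - 1)) :=
    isGE_cone_RHomMap α u w hT (n + lo - i - 1) M n v' w' hT'
  obtain ⟨Z₂, v₂, w₂, hT₂⟩ := distinguished_cocone_triangle (tH (𝟙 N) (RHomMap α M))
  have hZ₂ : Z₂.IsGE (n - (n + lo - i - 1) + lo) :=
    isGE_cone_tH_of_torAmp hN (RHomMap α M) v' w' hT' (n - (n + lo - i - 1)) v₂ w₂ hT₂
  -- the perfect case
  obtain ⟨P', ⟨hp⟩⟩ := exists_exactPairing_of_isPerfect P hP
  haveI := hp
  haveI : IsIso (evalTen N M P) := isIso_evalTen_of_exactPairing_right N M P P'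
  haveI h1 : IsIso ((homologyFunctor (ModuleCat.{u} A) i).map (RHomMap α (tO N M))) :=
    isIso_homology_map_of_isGE_cone _ hT₁ _ hZ₁ i (by omega)
  haveI h2 : IsIso ((homologyFunctor (ModuleCat.{u} A) i).map (tH (𝟙 N) (RHomMap α M))) :=
    isIso_homology_map_of_isGE_cone _ hT₂ _ hZ₂ i (by omega)
  have hnat := congrArg (fun t => (homologyFunctor (ModuleCat.{u} A) i).map t) (evalTen_nat N M α)
  simp only [Functor.map_comp] at hnat
  haveI : IsIso ((homologyFunctor (ModuleCat.{u} A) i).map (tH (𝟙 N) (RHomMap α M)) ≫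
      (homologyFunctor (ModuleCat.{u} A) i).map (evalTen N M P)) := inferInstance
  exact IsIso.of_isIso_fac_right hnat

end main

end Groth.Agent.Lib.H6xPCev
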