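import Mathlib
import Groth.Agent.Lib.H6xBrgD
import Groth.Agent.Lib.H6xPCevE
set_option backward.isDefEq.respectTransparency.types false

/-!
# helper6: the tensor-evaluation map `N ⊗ᴸ RHom(K, M) ⟶ RHom(K, N ⊗ᴸ M)` is an isomorphism for `K` an
UNBOUNDED complex with finite cohomology over a Noetherian ring, `N` of finite tor amplitude, `M`
bounded below of finite injective dimension, provided `N ⊗ᴸ M` also kills maps from `D^{≫ 0}`
-/

set_option autoImplicit false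
set_option linter.style.haveILetI false
universe u
open CategoryTheory CategoryTheory.Limits MonoidalCategory Pretriangulated
attribute [local instance] HasDerivedCategory.standard

namespace Groth.Agent.Lib.H6xBrg

open DerivedCategory DTen Groth.Agent.Lib.H6xDTen Groth.Agent.Lib.H6xPCev Groth.Agent.S14388

section EvT

variable {A : Type u} [CommRing A] [HasLTen A] [HasLTen₃ A] [IsSymMonoidal A] [HasRHom A]

/-- (S4') if the cone of `g` is in `D^{≥ N}` and `M` kills maps from `D^{≥ N₀}` into `M⟦q⟧` for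
`b - q < N₀`, the cone of `RHom(g, M)` is in `D^{≤ b-N-1}` -/
theorem isLE_cone_RHomMap_of_vanishing {Y Y' Z' : Dual.D A} (g : Y ⟶ Y') (v : Y' ⟶ Z')
    (w : Z' ⟶ Y⟦(1 : ℤ)⟧) (hTg : Triangle.mk g v w ∈ distTriang (Dual.D A)) (N : ℤ) [hZ' : Z'.IsGE N]
    {M : Dual.D A} {b : ℤ}
    (hM : ∀ (X : Dual.D A) (N₀ : ℤ), X.IsGE N₀ → ∀ q : ℤ, b - q < N₀ → ∀ f : X ⟶ M⟦q⟧, f = 0)
    {Z₃ : Dual.D A}
    (v₃ : (RHomR A Y).obj M ⟶ Z₃) (w₃ : Z₃ ⟶ ((RHomR A Y').obj M)⟦(1 : ℤ)⟧)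
    (hT₃ : Triangle.mk (RHomMap g M) v₃ w₃ ∈ distTriang (Dual.D A)) : Z₃.IsLE (b - N - 1) := by
  refine isLE_obj₃_of_V (Triangle.mk (RHomMap g M) v₃ w₃) hT₃ (b - N - 1) (fun q hq => ?_)
    (fun q hq => ?_)
  · apply postc_V_RHomMap_surjective
    refine prec_surjective _ hTg (M⟦q⟧) (fun k => ?_)
    have h2 : (Z'⟦(-1 : ℤ)⟧).IsGE (N + 1) := (tt A).isGE_shift Z' N (-1) (N + 1) (by ring)
    exact hM _ (N + 1) h2 q (by omega) k
  · apply postc_V_RHomMap_injective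
    refine prec_injective _ hTg (M⟦q⟧) (fun k => ?_)
    exact hM _ N hZ' q (by omega) k

/-- the tensor-evaluation map for an unbounded complex with finite cohomology -/
theorem isIso_evalTen_of_finite_cohomology [IsNoetherianRing A] (N M K : Dual.D A) {lo hi : ℤ}
    (hN : DRing.HasTorAmplitudeIn A lo hi N) (c : ℤ) (hNc : N.IsLE c) (n : ℤ) (hM : M.IsGE n)
    {a' b : ℤ} (hMi : DRing.HasInjAmplitudeIn A a' b M) (b'' : ℤ)
    (hV : ∀ (X : Dual.D A) (N₀ : ℤ), X.IsGE N₀ → ∀ q : ℤ, b'' - q < N₀ →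
      ∀ f : X ⟶ (tO N M)⟦q⟧, f = 0)
    (hK : ∀ i : ℤ, Module.Finite A (Dual.HD A K i)) : IsIso (evalTen N M K) := by
  rw [DerivedCategory.isIso_iff]
  intro i
  obtain ⟨Nn, hNn⟩ : ∃ Nn : ℤ, Nn = max (c + b) b'' - i + 1 := ⟨_, rfl⟩
  have h1 : c + b - Nn < i := by have := le_max_left (c + b) b''; omega
  have h2 : b'' - Nn < i := by have := le_max_right (c + b) b''; omega
  have hT := Groth.Agent.S14388.tt.triangleLTGE_distinguished Nn K
  have hC : ((Groth.Agent.S14388.tt.truncGE Nn).obj K).IsGE Nn := inferInstance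
  have hP := isPseudoCoherent'_truncLT K hK Nn
  haveI : IsIso (evalTen N M ((Groth.Agent.S14388.tt.truncLT Nn).obj K)) :=
    isIso_evalTen_of_isPseudoCoherent N M _ hN n hM hP
  -- the cone of `RHom(α, M)`
  obtain ⟨Z₁, v₁, w₁, hT₁⟩ := distinguished_cocone_triangle
    (RHomMap ((Groth.Agent.S14388.tt.truncLTι Nn).app K) M)
  have hZ₁ : Z₁.IsLE (b - Nn - 1) :=
    isLE_cone_RHomMap_of_injAmp ((Groth.Agent.S14388.tt.truncLTι Nn).app K)
      ((Groth.Agent.S14388.tt.truncGEπ Nn).app K)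
      ((Groth.Agent.S14388.tt.truncGEδLT Nn).app K) hT Nn hMi v₁ w₁ hT₁
  -- the cone of `N ⊗ RHom(α, M)`
  obtain ⟨Z₂, v₂, w₂, hT₂⟩ := distinguished_cocone_triangle
    (tH (𝟙 N) (RHomMap ((Groth.Agent.S14388.tt.truncLTι Nn).app K) M))
  haveI : Z₁.IsLE (b - Nn - 1 + 1 - 1) := by
    have : b - Nn - 1 + 1 - 1 = b - Nn - 1 := by ring
    rw [this]; exact hZ₁
  haveI := hNc
  have hZ₂ : Z₂.IsLE (c + (b - Nn - 1 + 1) - 1) :=
    isLE_cone_tH (RHomMap ((Groth.Agent.S14388.tt.truncLTι Nn).app K) M) v₁ w₁ hT₁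
      (b - Nn - 1 + 1) N c v₂ w₂ hT₂
  have conn2 := (Groth.Agent.Lib.Helper1.PC.conn_iff_of_distTriang _ hT₂
    (c + (b - Nn - 1 + 1))).2 hZ₂
  -- the cone of `RHom(α, N ⊗ M)`
  obtain ⟨Z₃, v₃, w₃, hT₃⟩ := distinguished_cocone_triangle
    (RHomMap ((Groth.Agent.S14388.tt.truncLTι Nn).app K) (tO N M))
  have hZ₃ : Z₃.IsLE (b'' - Nn - 1) :=
    isLE_cone_RHomMap_of_vanishing ((Groth.Agent.S14388.tt.truncLTι Nn).app K)
      ((Groth.Agent.S14388.tt.truncGEπ Nn).app K)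
      ((Groth.Agent.S14388.tt.truncGEδLT Nn).app K) hT Nn hV v₃ w₃ hT₃
  have conn3 := (Groth.Agent.Lib.Helper1.PC.conn_iff_of_distTriang _ hT₃ (b'' - Nn)).2 hZ₃
  haveI i2 : IsIso ((homologyFunctor (ModuleCat.{u} A) i).map
      (tH (𝟙 N) (RHomMap ((Groth.Agent.S14388.tt.truncLTι Nn).app K) M))) :=
    conn2.1 i (by omega)
  haveI i3 : IsIso ((homologyFunctor (ModuleCat.{u} A) i).map
      (RHomMap ((Groth.Agent.S14388.tt.truncLTι Nn).app K) (tO N M))) :=
    conn3.1 i (by omega)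
  have hnat := congrArg (fun t => (homologyFunctor (ModuleCat.{u} A) i).map t)
    (evalTen_nat N M ((Groth.Agent.S14388.tt.truncLTι Nn).app K))
  simp only [Functor.map_comp] at hnat
  have hcomp : IsIso ((homologyFunctor (ModuleCat.{u} A) i).map (evalTen N M K) ≫
      (homologyFunctor (ModuleCat.{u} A) i).map
        (RHomMap ((Groth.Agent.S14388.tt.truncLTι Nn).app K) (tO N M))) := by
    have hnat' : (homologyFunctor (ModuleCat.{u} A) i).map (evalTen N M K) ≫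
        (homologyFunctor (ModuleCat.{u} A) i).map
          (RHomMap ((Groth.Agent.S14388.tt.truncLTι Nn).app K) (tO N M)) =
        (homologyFunctor (ModuleCat.{u} A) i).map
          (tH (𝟙 N) (RHomMap ((Groth.Agent.S14388.tt.truncLTι Nn).app K) M)) ≫
        (homologyFunctor (ModuleCat.{u} A) i).map
          (evalTen N M ((Groth.Agent.S14388.tt.truncLT Nn).obj K)) := hnat
    rw [hnat']; infer_instance
  exact IsIso.of_isIso_comp_right _
    ((homologyFunctor (ModuleCat.{u} A) i).map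
      (RHomMap ((Groth.Agent.S14388.tt.truncLTι Nn).app K) (tO N M)))

end EvT

end Groth.Agent.Lib.H6xBrg
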