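import Mathlib
import Groth.Agent.Lib.H6xBrgG
import Groth.Agent.Lib.H6xPCDescB
import Groth.Agent.Lib.H6xBCB
import Groth.Agent.Lib.H6xTBc
import Groth.Agent.Lib.H6xTBa
import Groth.Agent.Lib.H6xPFD
import Groth.Agent.Lib.H6xRBCC
set_option backward.isDefEq.respectTransparency.types false

/-!
# helper6: flat base change of `RHom(K, ω)` for an unbounded complex `K` with finite cohomology:
`L(RHom_A(K, ω)) ≅ RHom_P(L K, L ω)` when `A → P` is flat and `L ω` has finite injective dimension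
over `P`
-/

set_option autoImplicit false
set_option linter.style.haveILetI false
universe u
open CategoryTheory CategoryTheory.Limits MonoidalCategory Pretriangulated
attribute [local instance] HasDerivedCategory.standard

namespace Groth.Agent.Lib.H6xBrg

open DerivedCategory DTen Groth.Agent.Lib.H6xDTen Groth.Agent.Lib.H6xPCev Groth.Agent.Lib.H6xPF
  Groth.Agent.Lib.H6xTB Groth.Agent.Lib.Helper1.Extend

section Tor

variable (A P : Type u) [CommRing A] [CommRing P] [Algebra A P] [Module.Flat A P]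

/-- a flat module in degree `0` has tor amplitude `[0, 0]` -/
lemma hasTorAmplitudeIn_inD_of_flat : DRing.HasTorAmplitudeIn A 0 0 (Dual.inD A P) := by
  refine ⟨(HomologicalComplex.single (ModuleCat.{u} A) (ComplexShape.up ℤ) 0).obj (ModuleCat.of A P),
    fun i hi => ?_, fun i => ?_,
    ⟨((DerivedCategory.singleFunctorIsoCompQ (ModuleCat.{u} A) 0).app (ModuleCat.of A P)).symm⟩⟩
  · exact HomologicalComplex.isZero_single_obj_X _ _ _ _ (by omega)
  · by_cases hi : i = 0
    · subst hi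
      exact Module.Flat.of_linearEquiv
        (HomologicalComplex.singleObjXSelf (ComplexShape.up ℤ) 0 (ModuleCat.of A P)).toLinearEquiv
    · haveI : Subsingleton (((HomologicalComplex.single (ModuleCat.{u} A) (ComplexShape.up ℤ) 0).obj
          (ModuleCat.of A P)).X i) :=
        ModuleCat.subsingleton_of_isZero (HomologicalComplex.isZero_single_obj_X _ _ _ _ hi)
      infer_instance

end Tor

section Van

variable {A P : Type u} [CommRing A] [CommRing P] [Algebra A P] [Module.Flat A P]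
  [HasLTen A] [HasLTen₃ A] [IsSymMonoidal A] [HasLTen P] [HasLTen₃ P] [IsSymMonoidal P]
  [HasResTen (algebraMap A P)] [ResLegIso (algebraMap A P)]
  [DRing.HasLBaseChange (algebraMap A P)]

omit [HasLTen A] [HasLTen₃ A] [IsSymMonoidal A] [HasLTen P] [HasLTen₃ P] [IsSymMonoidal P]
  [HasResTen (algebraMap A P)] [ResLegIso (algebraMap A P)] in
lemma isGE_lbc_obj (X : Dual.D A) (m : ℤ) (hX : X.IsGE m) :
    ((DRing.LBaseChange (algebraMap A P)).obj X).IsGE m := by
  obtain ⟨e⟩ := Groth.Agent.Lib.H6xPCDesc.nonempty_lbc_iso_extD (A := A) (B := P) X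
  haveI := isGE_map (ext A P) X m hX
  exact (DerivedCategory.TStructure.t).isGE_of_iso e.symm m

/-- `res(P) ⊗ᴸ ω` kills maps from `D^{≫ 0}` when `L ω` has finite injective dimension over `P` -/
lemma hom_tO_NN_shift_eq_zero (ω : Dual.D A) {a'' b'' : ℤ}
    (hZ : DRing.HasInjAmplitudeIn P a'' b'' ((DRing.LBaseChange (algebraMap A P)).obj ω))
    (X : Dual.D A) (N₀ : ℤ) (hX : X.IsGE N₀) (q : ℤ) (hq : b'' - q < N₀)
    (f : X ⟶ (tO (NN (algebraMap A P)) ω)⟦q⟧) : f = 0 := by
  obtain ⟨adjL, -, -⟩ := Groth.Agent.Lib.H6xBC.exists_adj (algebraMap A P)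
  let j : tO (NN (algebraMap A P)) ω ≅
      (rD (algebraMap A P)).obj ((DRing.LBaseChange (algebraMap A P)).obj ω) :=
    asIso (ρg (algebraMap A P) adjL ω)
  let cs : ((rD (algebraMap A P)).obj ((DRing.LBaseChange (algebraMap A P)).obj ω))⟦q⟧ ≅
      (rD (algebraMap A P)).obj (((DRing.LBaseChange (algebraMap A P)).obj ω)⟦q⟧) :=
    (((rD (algebraMap A P)).commShiftIso q).app _).symm
  have hg : (adjL.homEquiv X _).symm (f ≫ j.hom⟦q⟧' ≫ cs.hom) = 0 :=
    hom_shift_eq_zero_of_injAmp hZ _ N₀ (isGE_lbc_obj X N₀ hX) q hq _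
  have h1 : f ≫ j.hom⟦q⟧' ≫ cs.hom = 0 := by
    have h := (adjL.homEquiv X _).apply_symm_apply (f ≫ j.hom⟦q⟧' ≫ cs.hom)
    rw [hg, Adjunction.homEquiv_unit, Functor.map_zero, comp_zero] at h
    exact h.symm
  have h2 : f ≫ (j.hom⟦q⟧' ≫ cs.hom) = 0 ≫ (j.hom⟦q⟧' ≫ cs.hom) := by rw [h1, zero_comp]
  exact (cancel_mono _).1 h2

end Van

section BC

variable {A P : Type u} [CommRing A] [CommRing P] [Algebra A P] [Module.Flat A P]
  [HasLTen A] [HasLTen₃ A] [IsSymMonoidal A] [HasLTen P] [HasLTen₃ P] [IsSymMonoidal P]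
  [HasResTen (algebraMap A P)] [ResLegIso (algebraMap A P)]
  [DRing.HasLBaseChange (algebraMap A P)] [HasRHom A] [HasRHom P]

/-- **flat base change of `RHom(K, ω)`** for an unbounded `K` with finite cohomology -/
theorem nonempty_lbc_rhom_iso (ω : Dual.D A) (hω : Dual.IsDualizing A ω) {a'' b'' : ℤ}
    (hZ : DRing.HasInjAmplitudeIn P a'' b'' ((DRing.LBaseChange (algebraMap A P)).obj ω))
    (K : Dual.D A) (hK : ∀ i : ℤ, Module.Finite A (Dual.HD A K i)) :
    Nonempty ((DRing.LBaseChange (algebraMap A P)).obj ((RHomR A K).obj ω) ≅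
      (RHomR P ((DRing.LBaseChange (algebraMap A P)).obj K)).obj
        ((DRing.LBaseChange (algebraMap A P)).obj ω)) := by
  haveI := hω.isNoetherianRing
  haveI : HasLBase (algebraMap A P) := hasLBase _
  obtain ⟨a, b, -, hge, hM⟩ := exists_injAmp_of_isDualizing ω hω
  have hN : DRing.HasTorAmplitudeIn A 0 0 (NN (algebraMap A P)) := by
    obtain ⟨E, h1, h2, ⟨e⟩⟩ := hasTorAmplitudeIn_inD_of_flat A P
    exact ⟨E, h1, h2, ⟨e ≪≫ (NNIsoInD A P).symm⟩⟩
  have hNc : (NN (algebraMap A P)).IsLE 0 :=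
    (DerivedCategory.TStructure.t).isLE_of_iso (NNIsoInD A P).symm 0
  have hev : IsIso (evalTen (NN (algebraMap A P)) ω K) :=
    isIso_evalTen_of_finite_cohomology (NN (algebraMap A P)) ω K hN 0 hNc a hge hM b''
      (hom_tO_NN_shift_eq_zero ω hZ) hK
  haveI := Groth.Agent.Lib.H6xRBC.isIso_rhomBC (algebraMap A P) K
    ((LBase (algebraMap A P)).obj ω)
  haveI hbc : IsIso (bcRHom (algebraMap A P) K ω) :=
    isIso_bcRHom_of_isIso_evalTen (algebraMap A P) K ω hev
  obtain ⟨adjL, -, -⟩ := Groth.Agent.Lib.H6xBC.exists_adj (algebraMap A P)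
  let u : LBase (algebraMap A P) ≅ DRing.LBaseChange (algebraMap A P) :=
    (baseAdj (algebraMap A P)).leftAdjointUniq adjL
  exact ⟨(u.app _).symm ≪≫ asIso (bcRHom (algebraMap A P) K ω) ≪≫
    ((RHom P).mapIso (u.app K).symm.op).app _ ≪≫
    (RHomR P ((DRing.LBaseChange (algebraMap A P)).obj K)).mapIso (u.app ω)⟩

end BC

end Groth.Agent.Lib.H6xBrg
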