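import Mathlib
set_option backward.isDefEq.respectTransparency.types false

/-!
# Semilinear base change maps (helper6)

For a ring map `A → B`, an `A`-module `M`, a `B`-module `N` and a semilinear map `θ : M → N`, the
predicate `IsBC θ` says that the induced `B`-linear map `B ⊗_A M → N` is bijective.  This is
Mathlib's `IsBaseChange`, phrased without an `A`-module structure on `N`.  We prove the stability
properties needed for flat base change of `Hom` in derived categories.
-/

set_option autoImplicit false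
set_option linter.style.haveILetI false
universe u v w v' w' v₁ v₂ v₃ w₁ w₂ w₃

namespace Groth.Agent.Lib.H6xFBC

open TensorProduct

variable {A : Type u} {B : Type u} [CommRing A] [CommRing B] [Algebra A B]

section Def

variable {M : Type v} {N : Type w} [AddCommGroup M] [Module A M] [AddCommGroup N] [Module B N]

/-- the additive map `B ⊗ M → N`, `b ⊗ m ↦ b • θ m` -/
noncomputable def bcLiftAdd (θ : M →ₛₗ[algebraMap A B] N) : B ⊗[A] M →+ N :=
  TensorProduct.liftAddHom
    { toFun := fun b =>
        { toFun := fun m => b • θ m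
          map_zero' := by rw [map_zero, smul_zero]
          map_add' := fun m m' => by rw [map_add, smul_add] }
      map_zero' := by
        ext m
        exact zero_smul B (θ m)
      map_add' := fun b b' => by
        ext m
        exact add_smul b b' (θ m) }
    (fun a b m => by
      change (a • b) • θ m = b • θ (a • m)
      rw [map_smulₛₗ, Algebra.smul_def, mul_comm, mul_smul])

@[simp] lemma bcLiftAdd_tmul (θ : M →ₛₗ[algebraMap A B] N) (b : B) (m : M) :
    bcLiftAdd θ (b ⊗ₜ[A] m) = b • θ m := rfl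

/-- the `B`-linear map `B ⊗ M → N`, `b ⊗ m ↦ b • θ m` -/
noncomputable def bcLift (θ : M →ₛₗ[algebraMap A B] N) : B ⊗[A] M →ₗ[B] N where
  toFun := bcLiftAdd θ
  map_add' := map_add _
  map_smul' := fun b x => by
    rw [RingHom.id_apply]
    induction x using TensorProduct.induction_on with
    | zero => rw [smul_zero, map_zero, smul_zero]
    | tmul b' m =>
      rw [TensorProduct.smul_tmul', bcLiftAdd_tmul, bcLiftAdd_tmul, smul_eq_mul, mul_smul]
    | add x y hx hy => rw [smul_add, map_add, hx, hy, map_add, smul_add]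

@[simp] lemma bcLift_tmul (θ : M →ₛₗ[algebraMap A B] N) (b : B) (m : M) :
    bcLift θ (b ⊗ₜ[A] m) = b • θ m := rfl

/-- `θ` exhibits `N` as the base change of `M` -/
def IsBC (θ : M →ₛₗ[algebraMap A B] N) : Prop := Function.Bijective (bcLift θ)

/-- the canonical map `M → B ⊗ M` -/
noncomputable def tmulOne (M : Type v) [AddCommGroup M] [Module A M] :
    M →ₛₗ[algebraMap A B] B ⊗[A] M where
  toFun := fun m => (1 : B) ⊗ₜ[A] m
  map_add' := fun m m' => TensorProduct.tmul_add _ _ _
  map_smul' := fun a m => by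
    rw [TensorProduct.tmul_smul, algebraMap_smul]

/-- extensionality for `B`-linear maps out of `B ⊗ M` -/
lemma bc_ext {g g' : B ⊗[A] M →ₗ[B] N} (h : ∀ (b : B) (m : M), g (b ⊗ₜ[A] m) = g' (b ⊗ₜ[A] m)) :
    g = g' := by
  apply LinearMap.ext
  intro x
  induction x using TensorProduct.induction_on with
  | zero => rw [map_zero, map_zero]
  | tmul b m => exact h b m
  | add x y hx hy => rw [map_add, map_add, hx, hy]

lemma bcLift_tmulOne : bcLift (tmulOne (A := A) (B := B) M) = LinearMap.id := by
  apply bc_ext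
  intro b m
  change b • ((1 : B) ⊗ₜ[A] m) = b ⊗ₜ[A] m
  rw [TensorProduct.smul_tmul', smul_eq_mul, mul_one]

lemma isBC_tmulOne : IsBC (tmulOne (A := A) (B := B) M) := by
  unfold IsBC
  rw [bcLift_tmulOne]
  exact Function.bijective_id

end Def

section Equiv

variable {M : Type v} {N : Type w} [AddCommGroup M] [Module A M] [AddCommGroup N] [Module B N]
  {M' : Type v'} {N' : Type w'} [AddCommGroup M'] [Module A M'] [AddCommGroup N'] [Module B N']

/-- transport along equivalences -/
theorem IsBC.of_equiv {θ : M →ₛₗ[algebraMap A B] N} (h : IsBC θ)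
    (θ' : M' →ₛₗ[algebraMap A B] N') (e₁ : M ≃ₗ[A] M') (e₂ : N ≃ₗ[B] N')
    (comm : ∀ m, θ' (e₁ m) = e₂ (θ m)) : IsBC θ' := by
  have h1 : (bcLift θ').comp (e₁.toLinearMap.baseChange B) = e₂.toLinearMap.comp (bcLift θ) := by
    apply bc_ext
    intro b m
    change bcLift θ' (b ⊗ₜ[A] e₁ m) = e₂ (bcLift θ (b ⊗ₜ[A] m))
    rw [bcLift_tmul, bcLift_tmul, comm, map_smul]
  have h2 : Function.Bijective (e₁.toLinearMap.baseChange B) :=
    (LinearEquiv.baseChange A B M M' e₁).bijective
  have h3 : Function.Bijective ((bcLift θ').comp (e₁.toLinearMap.baseChange B)) := by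
    rw [h1]
    exact e₂.bijective.comp h
  have h4 : (bcLift θ' : B ⊗[A] M' → N') =
      ((bcLift θ').comp (e₁.toLinearMap.baseChange B)) ∘
        (LinearEquiv.baseChange A B M M' e₁).symm := by
    funext x
    change bcLift θ' x = bcLift θ' ((LinearEquiv.baseChange A B M M' e₁)
      ((LinearEquiv.baseChange A B M M' e₁).symm x))
    rw [LinearEquiv.apply_symm_apply]
  unfold IsBC
  rw [h4]
  exact h3.comp (LinearEquiv.baseChange A B M M' e₁).symm.bijective

end Equiv

section Exact

variable {M₁ : Type v₁} {M₂ : Type v₂} {M₃ : Type v₃} {N₁ : Type w₁} {N₂ : Type w₂} {N₃ : Type w₃}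
  [AddCommGroup M₁] [AddCommGroup M₂]
  [AddCommGroup M₃] [AddCommGroup N₁] [AddCommGroup N₂] [AddCommGroup N₃]
  [Module A M₁] [Module A M₂] [Module A M₃] [Module B N₁] [Module B N₂] [Module B N₃]
  (h₁ : M₁ →ₛₗ[algebraMap A B] N₁) (h₂ : M₂ →ₛₗ[algebraMap A B] N₂)
  (h₃ : M₃ →ₛₗ[algebraMap A B] N₃)
  (f : M₁ →ₗ[A] M₂) (g : M₂ →ₗ[A] M₃) (f' : N₁ →ₗ[B] N₂) (g' : N₂ →ₗ[B] N₃)

include h₁ h₂ in
lemma bcLift_comm (comm₁ : ∀ x, h₂ (f x) = f' (h₁ x)) :
    f'.comp (bcLift h₁) = (bcLift h₂).comp (f.baseChange B) := by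
  apply bc_ext
  intro b m
  change f' (bcLift h₁ (b ⊗ₜ[A] m)) = bcLift h₂ (b ⊗ₜ[A] f m)
  rw [bcLift_tmul, bcLift_tmul, map_smul, comm₁]

/-- kernels commute with flat base change -/
theorem IsBC.of_left_exact [Module.Flat A B] (comm₁ : ∀ x, h₂ (f x) = f' (h₁ x))
    (comm₂ : ∀ x, h₃ (g x) = g' (h₂ x)) (isb₂ : IsBC h₂) (isb₃ : IsBC h₃)
    (exact₁ : Function.Exact f g) (inj₁ : Function.Injective f)
    (exact₂ : Function.Exact f' g') (inj₂ : Function.Injective f') : IsBC h₁ := by
  refine LinearMap.bijective_of_bijective_of_injective_of_left_exact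
    (f.baseChange B) (g.baseChange B) f' g' (bcLift h₁) (bcLift h₂) (bcLift h₃)
    (bcLift_comm h₁ h₂ f f' comm₁) (bcLift_comm h₂ h₃ g g' comm₂) ?_ exact₂ isb₂ isb₃.1 ?_ inj₂
  · exact Module.Flat.lTensor_exact B exact₁
  · exact Module.Flat.lTensor_preserves_injective_linearMap f inj₁

/-- cokernels commute with base change -/
theorem IsBC.of_right_exact (comm₁ : ∀ x, h₂ (f x) = f' (h₁ x))
    (comm₂ : ∀ x, h₃ (g x) = g' (h₂ x)) (isb₁ : IsBC h₁) (isb₂ : IsBC h₂)
    (exact₁ : Function.Exact f g) (surj₁ : Function.Surjective g)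
    (exact₂ : Function.Exact f' g') (surj₂ : Function.Surjective g') : IsBC h₃ := by
  refine LinearMap.bijective_of_surjective_of_bijective_of_right_exact
    (f.baseChange B) (g.baseChange B) f' g' (bcLift h₁) (bcLift h₂) (bcLift h₃)
    (bcLift_comm h₁ h₂ f f' comm₁) (bcLift_comm h₂ h₃ g g' comm₂) ?_ exact₂ isb₁.2 isb₂ ?_ surj₂
  · exact lTensor_exact B exact₁ surj₁
  · exact LinearMap.lTensor_surjective B surj₁

end Exact

section Conseq

variable {M : Type v} {N : Type w} [AddCommGroup M] [Module A M] [AddCommGroup N] [Module B N]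
  {θ : M →ₛₗ[algebraMap A B] N}

theorem IsBC.subsingleton (h : IsBC θ) [Subsingleton M] : Subsingleton N := by
  haveI : Subsingleton (B ⊗[A] M) := inferInstance
  exact h.2.subsingleton

theorem IsBC.subsingleton_of_faithfullyFlat [Module.FaithfullyFlat A B] (h : IsBC θ)
    [Subsingleton N] : Subsingleton M := by
  haveI : Subsingleton (B ⊗[A] M) := h.1.subsingleton
  exact (Module.FaithfullyFlat.subsingleton_tensorProduct_iff_right A B).1 inferInstance

theorem IsBC.injective_of_faithfullyFlat [Module.FaithfullyFlat A B] (h : IsBC θ) :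
    Function.Injective θ := by
  have h1 : (θ : M → N) = bcLift θ ∘ TensorProduct.mk A B M 1 := by
    funext m
    change θ m = bcLift θ ((1 : B) ⊗ₜ[A] m)
    rw [bcLift_tmul, one_smul]
  rw [h1]
  exact h.1.comp (Module.FaithfullyFlat.tensorProduct_mk_injective M)

/-- every element of `N` is a `B`-linear combination of images of elements of `M` -/
theorem IsBC.span_eq_top (h : IsBC θ) : Submodule.span B (Set.range θ) = ⊤ := by
  have key : ∀ x : B ⊗[A] M, bcLift θ x ∈ Submodule.span B (Set.range θ) := by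
    intro x
    induction x using TensorProduct.induction_on with
    | zero => rw [map_zero]; exact Submodule.zero_mem _
    | tmul b m =>
      rw [bcLift_tmul]
      exact Submodule.smul_mem _ _ (Submodule.subset_span ⟨m, rfl⟩)
    | add x y hx hy => rw [map_add]; exact Submodule.add_mem _ hx hy
  rw [eq_top_iff]
  intro y _
  obtain ⟨x, rfl⟩ := h.2 y
  exact key x

end Conseq

section Bij

variable {M₁ : Type v₁} {M₂ : Type v₂} {N₁ : Type w₁} {N₂ : Type w₂} [AddCommGroup M₁]
  [AddCommGroup M₂] [AddCommGroup N₁] [AddCommGroup N₂] [Module A M₁] [Module A M₂] [Module B N₁] [Module B N₂]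
  {h₁ : M₁ →ₛₗ[algebraMap A B] N₁} {h₂ : M₂ →ₛₗ[algebraMap A B] N₂}
  (f : M₁ →ₗ[A] M₂) (f' : N₁ →ₗ[B] N₂)

theorem IsBC.bijective_of_bijective (isb₁ : IsBC h₁) (isb₂ : IsBC h₂)
    (comm : ∀ x, h₂ (f x) = f' (h₁ x)) (hf : Function.Bijective f) : Function.Bijective f' := by
  have h1 := bcLift_comm h₁ h₂ f f' comm
  have h2 : Function.Bijective (f.baseChange B) :=
    (LinearEquiv.baseChange A B M₁ M₂ (LinearEquiv.ofBijective f hf)).bijective
  have h3 : Function.Bijective (f'.comp (bcLift h₁)) := by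
    rw [h1]
    exact isb₂.comp h2
  have h4 : (f' : N₁ → N₂) = (f'.comp (bcLift h₁)) ∘ (LinearEquiv.ofBijective _ isb₁).symm := by
    funext x
    change f' x = f' (bcLift h₁ ((LinearEquiv.ofBijective _ isb₁).symm x))
    congr 1
    exact ((LinearEquiv.ofBijective _ isb₁).apply_symm_apply x).symm
  rw [h4]
  exact h3.comp (LinearEquiv.ofBijective _ isb₁).symm.bijective

theorem IsBC.bijective_of_bijective_of_faithfullyFlat [Module.FaithfullyFlat A B]
    (isb₁ : IsBC h₁) (isb₂ : IsBC h₂)
    (comm : ∀ x, h₂ (f x) = f' (h₁ x)) (hf : Function.Bijective f') : Function.Bijective f := by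
  have h1 := bcLift_comm h₁ h₂ f f' comm
  have h3 : Function.Bijective ((bcLift h₂).comp (f.baseChange B)) := by
    rw [← h1]
    exact hf.comp isb₁
  have h4 : (f.baseChange B : B ⊗[A] M₁ → B ⊗[A] M₂) =
      (LinearEquiv.ofBijective _ isb₂).symm ∘ ((bcLift h₂).comp (f.baseChange B)) := by
    funext x
    exact ((LinearEquiv.ofBijective _ isb₂).symm_apply_apply _).symm
  have h5 : Function.Bijective (f.baseChange B) := by
    rw [h4]
    exact (LinearEquiv.ofBijective _ isb₂).symm.bijective.comp h3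
  exact (Module.FaithfullyFlat.lTensor_bijective_iff_bijective A B f).1 h5

end Bij

end Groth.Agent.Lib.H6xFBC
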