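import Mathlib
import Groth.Agent.Lib.H6xFBCA
set_option backward.isDefEq.respectTransparency.types false

/-!
# Semilinear base change maps: finite products and `Hom` from finite free modules (helper6)
-/

set_option autoImplicit false
set_option linter.style.haveILetI false
universe u v w v' w' x

namespace Groth.Agent.Lib.H6xFBC

open TensorProduct

variable {A : Type u} {B : Type u} [CommRing A] [CommRing B] [Algebra A B]

section Pi

variable {ι : Type x} [Fintype ι] {M : ι → Type v} {N : ι → Type w}
  [∀ i, AddCommGroup (M i)] [∀ i, Module A (M i)] [∀ i, AddCommGroup (N i)] [∀ i, Module B (N i)]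

/-- the product of semilinear maps -/
def piSL (θ : ∀ i, M i →ₛₗ[algebraMap A B] N i) : (∀ i, M i) →ₛₗ[algebraMap A B] (∀ i, N i) where
  toFun := fun x i => θ i (x i)
  map_add' := fun x y => by
    funext i
    exact (θ i).map_add (x i) (y i)
  map_smul' := fun a x => by
    funext i
    exact (θ i).map_smulₛₗ a (x i)

@[simp] lemma piSL_apply (θ : ∀ i, M i →ₛₗ[algebraMap A B] N i) (x : ∀ i, M i) (i : ι) :
    piSL θ x i = θ i (x i) := rfl

/-- base change commutes with finite products -/
theorem IsBC.pi (θ : ∀ i, M i →ₛₗ[algebraMap A B] N i) (h : ∀ i, IsBC (θ i)) : IsBC (piSL θ) := by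
  classical
  let Pm : (∀ i, B ⊗[A] M i) →ₗ[B] (∀ i, N i) :=
    LinearMap.pi (fun i => (bcLift (θ i)).comp (LinearMap.proj i))
  have hPm : Function.Bijective Pm := by
    constructor
    · intro x y hxy
      funext i
      exact (h i).1 (congrFun hxy i)
    · intro y
      choose x hx using fun i => (h i).2 (y i)
      exact ⟨x, funext hx⟩
  have h1 : bcLift (piSL θ) = Pm.comp (TensorProduct.piRight A B B M).toLinearMap := by
    apply bc_ext
    intro b m
    funext i
    change (bcLift (piSL θ) (b ⊗ₜ[A] m)) i =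
      bcLift (θ i) ((TensorProduct.piRight A B B M (b ⊗ₜ[A] m)) i)
    rw [TensorProduct.piRight_apply, TensorProduct.piRightHom_tmul, bcLift_tmul, bcLift_tmul]
    rfl
  unfold IsBC
  rw [h1]
  exact hPm.comp (TensorProduct.piRight A B B M).bijective

end Pi

section Hom

variable {M : Type v} {N : Type v'} {P : Type w} {Q : Type w'} [AddCommGroup M] [Module A M]
  [AddCommGroup N] [Module A N] [AddCommGroup P] [Module B P] [AddCommGroup Q] [Module B Q]
  [Module.Free A M] [Module.Finite A M]

/-- base change of `Hom` out of a finite free module -/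
theorem IsBC.hom {α : M →ₛₗ[algebraMap A B] P} (hα : IsBC α) {β : N →ₛₗ[algebraMap A B] Q}
    (hβ : IsBC β) (Θ : (M →ₗ[A] N) →ₛₗ[algebraMap A B] (P →ₗ[B] Q))
    (hΘ : ∀ (f : M →ₗ[A] N) (m : M), Θ f (α m) = β (f m)) : IsBC Θ := by
  classical
  let ι := Module.Free.ChooseBasisIndex A M
  let b : Module.Basis ι A M := Module.Free.chooseBasis A M
  let e : B ⊗[A] M ≃ₗ[B] P := LinearEquiv.ofBijective (bcLift α) hα
  let bP : Module.Basis ι B P := (Algebra.TensorProduct.basis B b).map e
  have hbP : ∀ i, bP i = α (b i) := by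
    intro i
    change e (Algebra.TensorProduct.basis B b i) = α (b i)
    rw [Algebra.TensorProduct.basis_apply]
    change bcLift α ((1 : B) ⊗ₜ[A] b i) = α (b i)
    rw [bcLift_tmul, one_smul]
  have hpi : IsBC (piSL (fun _ : ι => β)) := IsBC.pi _ (fun _ => hβ)
  refine hpi.of_equiv Θ (b.constr A) (bP.constr B) (fun x => ?_)
  apply bP.ext
  intro i
  rw [hbP, hΘ, Module.Basis.constr_basis, ← hbP, Module.Basis.constr_basis]
  rfl

end Hom

end Groth.Agent.Lib.H6xFBC
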