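import Mathlib
import Groth.Agent.Lib.H6xFBCB
import Groth.Agent.Lib.H6xLocD
set_option backward.isDefEq.respectTransparency.types false

/-!
# Flat base change for cochains between complexes of modules (helper6)

`F = B ⊗_A - : ModuleCat A ⥤ ModuleCat B`.  For `M` finite free, `Hom_A(M, N) → Hom_B(F M, F N)` is a
base change; hence so are the cochain modules `Cochain P Y k → Cochain (F P) (F Y) k` for `P` bounded
above with finite free terms and `Y` bounded below.
-/

set_option autoImplicit false
set_option linter.style.haveILetI false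
universe u

namespace Groth.Agent.Lib.H6xFBC

open CategoryTheory CategoryTheory.Limits CochainComplex HomComplex DerivedCategory TensorProduct
open Groth.Agent.Lib.Helper1.Extend Groth.Agent.Lib.Helper1.LDer Groth.Agent.Lib.H6xLoc

variable {A : Type u} {B : Type u} [CommRing A] [CommRing B] [Algebra A B]

section HomLevel

/-- `m ↦ 1 ⊗ m` as a semilinear map `M → F M` -/
noncomputable def unitSL (M : ModuleCat.{u} A) : M →ₛₗ[algebraMap A B] ((ext A B).obj M) :=
  ((extEquiv (A := A) (B := B) M).symm.toLinearMap).comp (tmulOne (A := A) (B := B) M)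

lemma isBC_unitSL (M : ModuleCat.{u} A) : IsBC (unitSL (A := A) (B := B) M) :=
  (isBC_tmulOne (A := A) (B := B) (M := M)).of_equiv (unitSL M) (LinearEquiv.refl A M)
    (extEquiv (A := A) (B := B) M).symm (fun _ => rfl)

lemma ext_map_unitSL {M N : ModuleCat.{u} A} (g : M ⟶ N) (m : M) :
    ((ext A B).map g).hom (unitSL (A := A) (B := B) M m) = unitSL N (g.hom m) := rfl

/-- `F` is semilinear on morphisms -/
lemma ext_map_smul (a : A) {M N : ModuleCat.{u} A} (g : M ⟶ N) :
    (ext A B).map (a • g) = algebraMap A B a • (ext A B).map g := by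
  apply ModuleCat.ExtendScalars.hom_ext
  intro m
  change unitSL (A := A) (B := B) N (a • g.hom m) = algebraMap A B a • unitSL N (g.hom m)
  exact (unitSL (A := A) (B := B) N).map_smulₛₗ a (g.hom m)

/-- `g ↦ F g` as a semilinear map -/
noncomputable def extMapSL (M N : ModuleCat.{u} A) :
    (M ⟶ N) →ₛₗ[algebraMap A B] ((ext A B).obj M ⟶ (ext A B).obj N) where
  toFun := fun g => (ext A B).map g
  map_add' := fun _ _ => Functor.map_add _
  map_smul' := fun a g => ext_map_smul a g

@[simp] lemma extMapSL_apply (M N : ModuleCat.{u} A) (g : M ⟶ N) :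
    extMapSL (A := A) (B := B) M N g = (ext A B).map g := rfl

/-- base change of `Hom` from a finite free module -/
theorem isBC_extMapSL (M N : ModuleCat.{u} A) [Module.Free A M] [Module.Finite A M] :
    IsBC (extMapSL (A := A) (B := B) M N) := by
  let e₁ : (M ⟶ N) ≃ₗ[A] (M →ₗ[A] N) := ModuleCat.homLinearEquiv (S := A)
  let e₂ : ((ext A B).obj M ⟶ (ext A B).obj N) ≃ₗ[B] ((ext A B).obj M →ₗ[B] (ext A B).obj N) :=
    ModuleCat.homLinearEquiv (S := B)
  let Θ : (M →ₗ[A] N) →ₛₗ[algebraMap A B] ((ext A B).obj M →ₗ[B] (ext A B).obj N) :=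
    { toFun := fun f => e₂ (extMapSL M N (e₁.symm f))
      map_add' := fun f f' => by rw [map_add, map_add, map_add]
      map_smul' := fun a f => by rw [map_smul, map_smulₛₗ, map_smul] }
  have hΘ : IsBC Θ := IsBC.hom (isBC_unitSL M) (isBC_unitSL N) Θ (fun f m => rfl)
  exact hΘ.of_equiv (extMapSL M N) e₁.symm e₂.symm (fun f => (e₂.symm_apply_apply _).symm)

end HomLevel

section CochainEquiv

variable {R : Type u} [CommRing R] (P Y : CochainComplex (ModuleCat.{u} R) ℤ) (a b : ℤ)
  (hP : ∀ i : ℤ, b < i → IsZero (P.X i)) (hY : ∀ i : ℤ, i < a → IsZero (Y.X i)) (k : ℤ)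

/-- the index set of the nonzero components of a cochain of degree `k` -/
abbrev Idx : Type := {p : ℤ // p ∈ Finset.Icc (a - k) b}

/-- the components of a cochain -/
noncomputable def cochainToPi :
    Cochain P Y k →ₗ[R] (∀ p : Idx a b k, (P.X p.1 ⟶ Y.X (p.1 + k))) where
  toFun := fun x p => x.v p.1 (p.1 + k) rfl
  map_add' := fun x y => by
    funext p
    exact Cochain.add_v x y _ _ _
  map_smul' := fun r x => by
    funext p
    exact Cochain.smul_v r x _ _ _

/-- a cochain from its components -/
noncomputable def piToCochain (v : ∀ p : Idx a b k, (P.X p.1 ⟶ Y.X (p.1 + k))) :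
    Cochain P Y k :=
  Cochain.mk (fun p q hpq =>
    if h : p ∈ Finset.Icc (a - k) b then v ⟨p, h⟩ ≫ eqToHom (by rw [hpq]) else 0)

lemma piToCochain_v (v : ∀ p : Idx a b k, (P.X p.1 ⟶ Y.X (p.1 + k))) (p : Idx a b k) :
    (piToCochain P Y a b k v).v p.1 (p.1 + k) rfl = v p := by
  unfold piToCochain
  rw [Cochain.mk_v, dif_pos p.2, eqToHom_refl, Category.comp_id]

lemma piToCochain_v_of_notMem (v : ∀ p : Idx a b k, (P.X p.1 ⟶ Y.X (p.1 + k))) (p q : ℤ)
    (hpq : p + k = q) (hp : p ∉ Finset.Icc (a - k) b) :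
    (piToCochain P Y a b k v).v p q hpq = 0 := by
  unfold piToCochain
  rw [Cochain.mk_v, dif_neg hp]

include hP hY in
/-- cochains are determined by finitely many components -/
noncomputable def cochainEquiv :
    Cochain P Y k ≃ₗ[R] (∀ p : Idx a b k, (P.X p.1 ⟶ Y.X (p.1 + k))) :=
  { cochainToPi P Y a b k with
    invFun := piToCochain P Y a b k
    left_inv := fun x => by
      refine Cochain.ext _ _ (fun p q hpq => ?_)
      subst hpq
      by_cases hp : p ∈ Finset.Icc (a - k) b
      · exact piToCochain_v P Y a b k _ ⟨p, hp⟩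
      · rw [piToCochain_v_of_notMem P Y a b k _ p _ rfl hp,
          v_eq_zero P Y a b hP hY k p _ rfl hp x]
    right_inv := fun v => by
      funext p
      exact piToCochain_v P Y a b k v p }

end CochainEquiv

section CochainLevel

variable (P Y : DRing.Cx A)

/-- `x ↦ F x` on cochains, as a semilinear map -/
noncomputable def cochainMapSL (k : ℤ) :
    Cochain P Y k →ₛₗ[algebraMap A B] Cochain ((extCx A B).obj P) ((extCx A B).obj Y) k where
  toFun := fun x => x.map (ext A B)
  map_add' := fun x y => Cochain.map_add x y (ext A B)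
  map_smul' := fun t x => by
    refine Cochain.ext _ _ (fun p q hpq => ?_)
    rw [Cochain.map_v, Cochain.smul_v, Cochain.smul_v, Cochain.map_v, ext_map_smul]
    rfl

variable (a b : ℤ) (hP : DRing.VanishesAbove P b) (hPff : DRing.TermwiseFiniteFree P)
  (hY : ∀ i : ℤ, i < a → IsZero (Y.X i))

include hP hPff hY in
/-- cochain modules commute with base change -/
theorem isBC_cochainMapSL (k : ℤ) : IsBC (cochainMapSL (B := B) P Y k) := by
  have hP' : ∀ i : ℤ, b < i → IsZero (((extCx A B).obj P).X i) :=
    fun i hi => (ext A B).map_isZero (hP i hi)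
  have hY' : ∀ i : ℤ, i < a → IsZero (((extCx A B).obj Y).X i) :=
    fun i hi => (ext A B).map_isZero (hY i hi)
  let e₁ := cochainEquiv P Y a b hP hY k
  let e₂ : Cochain ((extCx A B).obj P) ((extCx A B).obj Y) k ≃ₗ[B]
      (∀ p : Idx a b k, ((ext A B).obj (P.X p.1) ⟶ (ext A B).obj (Y.X (p.1 + k)))) :=
    cochainEquiv ((extCx A B).obj P) ((extCx A B).obj Y) a b hP' hY' k
  have hpi : IsBC (piSL (fun p : Idx a b k =>
      extMapSL (A := A) (B := B) (P.X p.1) (Y.X (p.1 + k)))) :=
    IsBC.pi _ (fun p => by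
      haveI := (hPff p.1).1
      haveI := (hPff p.1).2
      exact isBC_extMapSL _ _)
  refine hpi.of_equiv (cochainMapSL P Y k) e₁.symm e₂.symm (fun v => ?_)
  apply e₂.injective
  rw [LinearEquiv.apply_symm_apply]
  funext p
  change ((piToCochain P Y a b k v).map (ext A B)).v p.1 (p.1 + k) rfl = (ext A B).map (v p)
  rw [Cochain.map_v, piToCochain_v]

end CochainLevel

end Groth.Agent.Lib.H6xFBC
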