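import Mathlib
import Groth.Agent.Lib.H6xFBCC
set_option backward.isDefEq.respectTransparency.types false

/-!
# Flat base change for `Hom` in the derived category (helper6)

`A → B` flat, `X` pseudo-coherent in `D(A)`, `W` cohomologically bounded below: the map
`Hom_{D(A)}(X, W) → Hom_{D(B)}(X_B, W_B)` exhibits the target as the base change of the source.
-/

set_option autoImplicit false
set_option linter.style.haveILetI false
universe u

namespace Groth.Agent.Lib.H6xFBC

open CategoryTheory CategoryTheory.Limits CochainComplex HomComplex DerivedCategory TensorProduct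
open Groth.Agent.Lib.Helper1.Extend Groth.Agent.Lib.Helper1.LDer Groth.Agent.Lib.H6xLoc
open Groth.Agent.Lib.Helper17.DBrown
attribute [local instance] HasDerivedCategory.standard

section Generic

variable {R : Type u} [CommRing R] (P Y : CochainComplex (ModuleCat.{u} R) ℤ)

/-- `Cochain.ofHom` as a linear map -/
noncomputable def ofHomL : (P ⟶ Y) →ₗ[R] Cochain P Y 0 where
  toFun := Cochain.ofHom
  map_add' := fun g g' => Cochain.ofHom_add g g'
  map_smul' := fun t g => ofHom_smul' P Y t g

lemma ofHomL_injective : Function.Injective (ofHomL P Y) :=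
  fun _ _ h => Cochain.ofHom_injective h

lemma exact_ofHomL_δ : Function.Exact (ofHomL P Y) (δ_hom R P Y 0 1) := by
  intro x
  constructor
  · intro hx
    let z : Cocycle P Y 0 := Cocycle.mk x 1 (zero_add 1) hx
    exact ⟨Cocycle.homOf z, Cocycle.cochain_ofHom_homOf_eq_coe z⟩
  · rintro ⟨g, rfl⟩
    exact δ_ofHom g

/-- the chain map `δ h` attached to a cochain of degree `-1` -/
noncomputable def dFun (h : Cochain P Y (-1)) : P ⟶ Y :=
  Cocycle.homOf (Cocycle.mk (δ (-1) 0 h) 1 (zero_add 1) (δ_δ _ _ _ h))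

lemma ofHom_dFun (h : Cochain P Y (-1)) : Cochain.ofHom (dFun P Y h) = δ (-1) 0 h :=
  Cocycle.cochain_ofHom_homOf_eq_coe _

/-- `h ↦ δ h` as a linear map to chain maps -/
noncomputable def dL : Cochain P Y (-1) →ₗ[R] (P ⟶ Y) where
  toFun := dFun P Y
  map_add' := fun h h' => by
    apply Cochain.ofHom_injective
    rw [Cochain.ofHom_add, ofHom_dFun, ofHom_dFun, ofHom_dFun, δ_add]
  map_smul' := fun t h => by
    apply Cochain.ofHom_injective
    rw [RingHom.id_apply, ofHom_smul', ofHom_dFun, ofHom_dFun, δ_smul]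

/-- `Q.map` as a linear map -/
noncomputable def qL : (P ⟶ Y) →ₗ[R] (Q.obj P ⟶ Q.obj Y) where
  toFun := fun g => Q.map g
  map_add' := fun _ _ => Functor.map_add _
  map_smul' := fun _ _ => Functor.map_smul _ _ _

lemma exact_dL_qL [P.IsKProjective] : Function.Exact (dL P Y) (qL P Y) := by
  intro g
  constructor
  · intro hg
    have h1 : Q.map g = Q.map (0 : P ⟶ Y) := by
      rw [Functor.map_zero]
      exact hg
    obtain ⟨H⟩ := homotopy_of_Q_map_eq_of_isKProjective h1
    obtain ⟨y, hy⟩ := Cochain.equivHomotopy _ _ H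
    refine ⟨y, ?_⟩
    apply Cochain.ofHom_injective
    change Cochain.ofHom (dFun P Y y) = Cochain.ofHom g
    rw [ofHom_dFun, hy, Cochain.ofHom_zero, add_zero]
  · rintro ⟨h, rfl⟩
    have H : Homotopy (dFun P Y h) 0 := (Cochain.equivHomotopy _ _).symm ⟨h, by
      rw [ofHom_dFun, Cochain.ofHom_zero, add_zero]⟩
    change Q.map (dFun P Y h) = 0
    rw [DerivedCategory.Q_map_eq_of_homotopy _ H, Functor.map_zero]

lemma qL_surjective [P.IsKProjective] : Function.Surjective (qL P Y) :=
  fun e => exists_Q_map_eq_of_isKProjective e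

end Generic

variable {A : Type u} {B : Type u} [CommRing A] [CommRing B] [Algebra A B]

section ChainMaps

variable (P Y : DRing.Cx A)

/-- `g ↦ F g` on chain maps -/
noncomputable def chainMapSL :
    (P ⟶ Y) →ₛₗ[algebraMap A B] ((extCx A B).obj P ⟶ (extCx A B).obj Y) where
  toFun := fun g => (extCx A B).map g
  map_add' := fun _ _ => Functor.map_add _
  map_smul' := fun t g => by
    ext i : 1
    exact ext_map_smul t (g.f i)

lemma cochainMapSL_ofHom (g : P ⟶ Y) :
    cochainMapSL (B := B) P Y 0 (Cochain.ofHom g) = Cochain.ofHom (chainMapSL (B := B) P Y g) :=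
  Cochain.map_ofHom (f := g) (Φ := ext A B)

lemma cochainMapSL_δ (k m : ℤ) (x : Cochain P Y k) :
    cochainMapSL (B := B) P Y m (δ k m x) = δ k m (cochainMapSL (B := B) P Y k x) :=
  (δ_map k m x (ext A B)).symm

variable (a b : ℤ) (hP : DRing.VanishesAbove P b) (hPff : DRing.TermwiseFiniteFree P)
  (hY : ∀ i : ℤ, i < a → IsZero (Y.X i))

include hP hPff hY in
/-- chain maps commute with flat base change -/
theorem isBC_chainMapSL [Module.Flat A B] : IsBC (chainMapSL (B := B) P Y) :=
  IsBC.of_left_exact (chainMapSL P Y) (cochainMapSL P Y 0) (cochainMapSL P Y 1)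
    (ofHomL P Y) (δ_hom A P Y 0 1) (ofHomL ((extCx A B).obj P) ((extCx A B).obj Y))
    (δ_hom B ((extCx A B).obj P) ((extCx A B).obj Y) 0 1)
    (fun g => cochainMapSL_ofHom P Y g) (fun x => cochainMapSL_δ P Y 0 1 x)
    (isBC_cochainMapSL P Y a b hP hPff hY 0) (isBC_cochainMapSL P Y a b hP hPff hY 1)
    (exact_ofHomL_δ P Y) (ofHomL_injective P Y) (exact_ofHomL_δ _ _) (ofHomL_injective _ _)

end ChainMaps

section Derived

variable [Module.Flat A B]

/-- `L(Q K) ≅ Q(F K)` -/
noncomputable abbrev fac (K : DRing.Cx A) :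
    (extD A B).obj (Q.obj K) ≅ Q.obj ((extCx A B).obj K) := mapQIso (ext A B) K

lemma fac_naturality {K K' : DRing.Cx A} (g : K ⟶ K') :
    (extD A B).map (Q.map g) ≫ (fac (B := B) K').hom =
      (fac (B := B) K).hom ≫ Q.map ((extCx A B).map g) :=
  (ext A B).mapDerivedCategoryFactors_hom_naturality g

lemma extCx_map_smul_id (a : A) (K : DRing.Cx A) :
    (extCx A B).map (a • 𝟙 K) = (algebraMap A B a) • 𝟙 ((extCx A B).obj K) := by
  ext i : 1
  change (ext A B).map (a • 𝟙 (K.X i)) = (algebraMap A B a) • 𝟙 ((ext A B).obj (K.X i))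
  rw [ext_map_smul, CategoryTheory.Functor.map_id]

lemma extD_map_smul_id (a : A) (X : Dual.D A) :
    (extD A B).map (a • 𝟙 X) = (algebraMap A B a) • 𝟙 ((extD A B).obj X) := by
  let K := Q.objPreimage X
  let e : Q.obj K ≅ X := Q.objObjPreimageIso X
  have h1 : a • 𝟙 X = e.inv ≫ Q.map (a • 𝟙 K) ≫ e.hom := by
    rw [Functor.map_smul, CategoryTheory.Functor.map_id, Linear.smul_comp, Linear.comp_smul,
      Category.id_comp, e.inv_hom_id]
  have h2 : (extD A B).map (Q.map (a • 𝟙 K)) =
      (fac (B := B) K).hom ≫ Q.map ((extCx A B).map (a • 𝟙 K)) ≫ (fac (B := B) K).inv := by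
    rw [← Category.assoc, ← fac_naturality, Category.assoc, Iso.hom_inv_id, Category.comp_id]
  rw [h1, Functor.map_comp, Functor.map_comp, h2, extCx_map_smul_id, Functor.map_smul,
    CategoryTheory.Functor.map_id]
  simp only [Linear.smul_comp, Linear.comp_smul, Category.id_comp, Iso.hom_inv_id]
  rw [← Functor.map_comp, e.inv_hom_id, CategoryTheory.Functor.map_id]

/-- `extD` is semilinear -/
lemma extD_map_smul (a : A) {X W : Dual.D A} (f : X ⟶ W) :
    (extD A B).map (a • f) = (algebraMap A B a) • (extD A B).map f := by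
  have h1 : a • f = (a • 𝟙 X) ≫ f := by rw [Linear.smul_comp, Category.id_comp]
  rw [h1, Functor.map_comp, extD_map_smul_id, Linear.smul_comp, Category.id_comp]

/-- `f ↦ L f` as a semilinear map -/
noncomputable def extDMapSL (X W : Dual.D A) :
    (X ⟶ W) →ₛₗ[algebraMap A B] ((extD A B).obj X ⟶ (extD A B).obj W) where
  toFun := fun f => (extD A B).map f
  map_add' := fun _ _ => Functor.map_add _
  map_smul' := fun a f => extD_map_smul a f

@[simp] lemma extDMapSL_apply (X W : Dual.D A) (f : X ⟶ W) :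
    extDMapSL (B := B) X W f = (extD A B).map f := rfl

section QLevel

variable (P Y : DRing.Cx A)

/-- the base change map on `Hom_{D(A)}(Q P, Q Y)` -/
noncomputable def dSL : (Q.obj P ⟶ Q.obj Y) →ₛₗ[algebraMap A B]
    (Q.obj ((extCx A B).obj P) ⟶ Q.obj ((extCx A B).obj Y)) where
  toFun := fun e => (fac (B := B) P).inv ≫ (extD A B).map e ≫ (fac (B := B) Y).hom
  map_add' := fun e e' => by
    rw [Functor.map_add, Preadditive.add_comp, Preadditive.comp_add]
  map_smul' := fun a e => by
    rw [extD_map_smul, Linear.smul_comp, Linear.comp_smul]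

lemma dSL_Q_map (g : P ⟶ Y) :
    dSL (B := B) P Y (Q.map g) = Q.map ((extCx A B).map g) := by
  change (fac (B := B) P).inv ≫ (extD A B).map (Q.map g) ≫ (fac (B := B) Y).hom = _
  rw [fac_naturality, Iso.inv_hom_id_assoc]

variable (a b : ℤ) (hP : DRing.VanishesAbove P b) (hPff : DRing.TermwiseFiniteFree P)
  (hY : ∀ i : ℤ, i < a → IsZero (Y.X i))

include hP hPff hY in
/-- `Hom_{D(A)}(Q P, Q Y)` commutes with flat base change -/
theorem isBC_dSL : IsBC (dSL (B := B) P Y) := by
  haveI : P.IsKProjective :=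
    isKProjective_of_vanishesAbove P b hP (fun i =>
      haveI := (hPff i).2
      inferInstance)
  haveI : ((extCx A B).obj P).IsKProjective :=
    isKProjective_of_vanishesAbove _ b (vanishesAbove_bc (algebraMap A B) P b hP) (fun i =>
      haveI := (hPff i).2
      projective_bc (algebraMap A B) (P.X i))
  refine IsBC.of_right_exact (cochainMapSL P Y (-1)) (chainMapSL P Y) (dSL P Y)
    (dL P Y) (qL P Y) (dL ((extCx A B).obj P) ((extCx A B).obj Y))
    (qL ((extCx A B).obj P) ((extCx A B).obj Y)) (fun h => ?_) (fun g => dSL_Q_map P Y g)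
    (isBC_cochainMapSL P Y a b hP hPff hY (-1)) (isBC_chainMapSL P Y a b hP hPff hY)
    (exact_dL_qL P Y) (qL_surjective P Y) (exact_dL_qL _ _) (qL_surjective _ _)
  apply Cochain.ofHom_injective
  change Cochain.ofHom (chainMapSL (B := B) P Y (dFun P Y h)) = Cochain.ofHom (dFun _ _ _)
  rw [← cochainMapSL_ofHom, ofHom_dFun, ofHom_dFun, cochainMapSL_δ]

end QLevel

section General

variable (X W : Dual.D A) (hX : DRing.IsPseudoCoherent' A X)
  (hW : ∃ a : ℤ, ∀ i : ℤ, i < a → Subsingleton (Dual.HD A W i))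

include hX hW in
/-- **flat base change for `Hom` in the derived category** -/
theorem isBC_extDMapSL : IsBC (extDMapSL (B := B) X W) := by
  obtain ⟨P, b, hP, hPff, ⟨eX⟩⟩ := hX
  obtain ⟨a, ha⟩ := hW
  obtain ⟨Y, hY, ⟨eW⟩⟩ := exists_strictlyGE_iso W a ha
  have h := isBC_dSL (B := B) P Y a b hP hPff hY
  let e₁ : (Q.obj P ⟶ Q.obj Y) ≃ₗ[A] (X ⟶ W) := Linear.homCongr A eX eW.symm
  let e₂ : (Q.obj ((extCx A B).obj P) ⟶ Q.obj ((extCx A B).obj Y)) ≃ₗ[B]
      ((extD A B).obj X ⟶ (extD A B).obj W) :=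
    Linear.homCongr B ((fac (B := B) P).symm ≪≫ (extD A B).mapIso eX)
      ((fac (B := B) Y).symm ≪≫ ((extD A B).mapIso eW).symm)
  refine h.of_equiv (extDMapSL X W) e₁ e₂ (fun e => ?_)
  change (extD A B).map ((eX.inv ≫ e) ≫ eW.inv) =
    (((extD A B).map eX.inv ≫ (fac (B := B) P).hom) ≫
      ((fac (B := B) P).inv ≫ (extD A B).map e ≫ (fac (B := B) Y).hom)) ≫
        ((fac (B := B) Y).inv ≫ (extD A B).map eW.inv)
  simp only [Functor.map_comp, Category.assoc, Iso.hom_inv_id_assoc]

end General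

end Derived

end Groth.Agent.Lib.H6xFBC
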