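import Mathlib
import Groth.Agent.Lib.H6xFBCD
import Groth.Agent.Lib.H6xLocP
import Groth.Agent.Lib.H6xPCDescB
set_option backward.isDefEq.respectTransparency.types false

/-!
# Consequences of flat base change for `Hom`; faithfully flat descent of dualizing complexes
(helper6)
-/

set_option autoImplicit false
set_option linter.style.haveILetI false
universe u

namespace Groth.Agent.Lib.H6xFBC

open CategoryTheory CategoryTheory.Limits DerivedCategory TensorProduct
open Groth.Agent.Lib.Helper1.Extend Groth.Agent.Lib.Helper1.LDer Groth.Agent.Lib.H6xLoc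
open Groth.Agent.Lib.H6xDual Groth.Agent.Lib.H6xBid
attribute [local instance] HasDerivedCategory.standard

variable {A : Type u} {B : Type u} [CommRing A] [CommRing B] [Algebra A B]

section AlgSL

/-- `algebraMap A B` as a semilinear map -/
def algSL : A →ₛₗ[algebraMap A B] B where
  toFun := algebraMap A B
  map_add' := map_add _
  map_smul' := fun a a' => by
    rw [smul_eq_mul, map_mul, smul_eq_mul]

lemma isBC_algSL : IsBC (algSL (A := A) (B := B)) :=
  (isBC_tmulOne (A := A) (B := B) (M := A)).of_equiv algSL (LinearEquiv.refl A A)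
    (TensorProduct.AlgebraTensorModule.rid A B B) (fun a => by
      change algebraMap A B a = TensorProduct.AlgebraTensorModule.rid A B B ((1 : B) ⊗ₜ[A] a)
      rw [TensorProduct.AlgebraTensorModule.rid_tmul, Algebra.algebraMap_eq_smul_one])

end AlgSL

section Flat

variable [Module.Flat A B] (X W : Dual.D A) (hX : DRing.IsPseudoCoherent' A X)
  (hW : ∃ a : ℤ, ∀ i : ℤ, i < a → Subsingleton (Dual.HD A W i))

include hX hW in
/-- flat ascent of vanishing of `Hom` -/
theorem subsingleton_extD_hom (h : Subsingleton (X ⟶ W)) :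
    Subsingleton ((extD A B).obj X ⟶ (extD A B).obj W) :=
  (isBC_extDMapSL (B := B) X W hX hW).subsingleton

/-- `a ↦ a • 𝟙` as a linear map -/
noncomputable def toEndL (R : Type u) [CommRing R] (Z : Dual.D R) : R →ₗ[R] (Z ⟶ Z) :=
  LinearMap.toSpanSingleton R (Z ⟶ Z) (𝟙 Z)

lemma toEndL_apply (R : Type u) [CommRing R] (Z : Dual.D R) (r : R) : toEndL R Z r = r • 𝟙 Z := rfl

lemma toEnd_comm (a : A) :
    extDMapSL (B := B) X X (toEndL A X a) = toEndL B ((extD A B).obj X) (algSL a) :=
  extD_map_smul_id a X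

include hX in
/-- flat ascent of `A ≅ End(X)` -/
theorem toEnd_bijective_extD
    (hXb : ∃ a : ℤ, ∀ i : ℤ, i < a → Subsingleton (Dual.HD A X i))
    (h : Function.Bijective (fun a : A => a • 𝟙 X)) :
    Function.Bijective (fun b : B => b • 𝟙 ((extD A B).obj X)) :=
  IsBC.bijective_of_bijective (toEndL A X) (toEndL B ((extD A B).obj X)) isBC_algSL
    (isBC_extDMapSL (B := B) X X hX hXb) (fun a => toEnd_comm X a) h

end Flat

section FFlat

variable [Module.FaithfullyFlat A B] (X W : Dual.D A) (hX : DRing.IsPseudoCoherent' A X)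
  (hW : ∃ a : ℤ, ∀ i : ℤ, i < a → Subsingleton (Dual.HD A W i))

include hX hW in
/-- faithfully flat descent of vanishing of `Hom` -/
theorem subsingleton_hom_of_extD
    (h : Subsingleton ((extD A B).obj X ⟶ (extD A B).obj W)) : Subsingleton (X ⟶ W) :=
  (isBC_extDMapSL (B := B) X W hX hW).subsingleton_of_faithfullyFlat

include hX in
/-- faithfully flat descent of `A ≅ End(X)` -/
theorem toEnd_bijective_of_extD
    (hXb : ∃ a : ℤ, ∀ i : ℤ, i < a → Subsingleton (Dual.HD A X i))
    (h : Function.Bijective (fun b : B => b • 𝟙 ((extD A B).obj X))) :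
    Function.Bijective (fun a : A => a • 𝟙 X) :=
  IsBC.bijective_of_bijective_of_faithfullyFlat (toEndL A X) (toEndL B ((extD A B).obj X))
    isBC_algSL (isBC_extDMapSL (B := B) X X hX hXb) (fun a => toEnd_comm X a) h

end FFlat

section Descent

variable [IsNoetherianRing A] [IsNoetherianRing B] [Module.FaithfullyFlat A B]

/-- cohomology vanishing descends along faithfully flat maps -/
lemma subsingleton_HD_of_extD (K : Dual.D A) (i : ℤ)
    (h : Subsingleton (Dual.HD B ((extD A B).obj K) i)) : Subsingleton (Dual.HD A K i) := by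
  have h1 : IsZero ((ext A B).obj ((homologyFunctor (ModuleCat.{u} A) i).obj K)) :=
    (ModuleCat.isZero_of_subsingleton _).of_iso (homologyMapDIso (ext A B) K i).symm
  exact ModuleCat.subsingleton_of_isZero (isZero_of_isZero_ext _ h1)

/-- **faithfully flat descent of dualizing complexes** -/
theorem isDualizing_of_extD (K : Dual.D A) (hK : Dual.IsDualizing B ((extD A B).obj K)) :
    Dual.IsDualizing A K := by
  obtain ⟨a, b, hab⟩ := hK.finite_injective_dimension
  have hbdd : ∀ i : ℤ, (i < a ∨ b < i) → Subsingleton (Dual.HD A K i) := fun i hi =>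
    subsingleton_HD_of_extD K i (subsingleton_HD_of_subsingleton_hom _ i (hab B i hi))
  have hfin : ∀ i : ℤ, Module.Finite A (Dual.HD A K i) := fun i =>
    finite_homology_of_extD K i (hK.finite_cohomology i)
  have hPC : DRing.IsPseudoCoherent' A K :=
    isPC'_of_extD K (isPseudoCoherent'_dualizing _ hK)
  have hBB : ∃ a : ℤ, ∀ i : ℤ, i < a → Subsingleton (Dual.HD A K i) :=
    ⟨a, fun i hi => hbdd i (Or.inl hi)⟩
  have hBBs : ∀ i : ℤ, ∃ a : ℤ, ∀ j : ℤ, j < a → Subsingleton (Dual.HD A (K⟦i⟧) j) :=
    fun i => boundedBelow_shift' K hBB i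
  -- transfer of vanishing
  have key : ∀ (X : Dual.D A) (_ : DRing.IsPseudoCoherent' A X) (X' : Dual.D B)
      (_ : (extD A B).obj X ≅ X') (i : ℤ),
      Subsingleton (X' ⟶ ((extD A B).obj K)⟦i⟧) → Subsingleton (X ⟶ K⟦i⟧) := by
    intro X hX X' eX i h
    apply subsingleton_hom_of_extD (B := B) X (K⟦i⟧) hX (hBBs i)
    let c : (extD A B).obj (K⟦i⟧) ≅ ((extD A B).obj K)⟦i⟧ := ((extD A B).commShiftIso i).app K
    exact ((eX.homFromEquiv (Z := (extD A B).obj (K⟦i⟧))).trans
      (c.homToEquiv (Z := X'))).subsingleton_congr.2 h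
  refine
    { isNoetherianRing := inferInstance
      finite_injective_dimension := ⟨a, b, fun M _ _ i hi => ?_⟩
      finite_cohomology := hfin
      toEnd_bijective := toEnd_bijective_of_extD (B := B) K hPC hBB hK.toEnd_bijective
      ext_self_subsingleton := fun i hi =>
        key K hPC _ (Iso.refl _) i (hK.ext_self_subsingleton i hi) }
  apply subsingleton_hom_of_cyclic K i
  intro I
  have hPCI : DRing.IsPseudoCoherent' A (Dual.inD A (A ⧸ I)) :=
    (Groth.Agent.S6942.result A 0 K (A ⧸ I)).2.2 inferInstance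
  exact key _ hPCI _ (extDInDIso (A := A) (B := B) (A ⧸ I)) i (hab _ i hi)

/-- **S1780** in `LBaseChange` form -/
theorem isDualizing_of_faithfullyFlat_LBaseChange [DRing.HasLBaseChange (algebraMap A B)]
    (K : Dual.D A) (hK : Dual.IsDualizing B ((DRing.LBaseChange (algebraMap A B)).obj K)) :
    Dual.IsDualizing A K := by
  obtain ⟨e⟩ := Groth.Agent.Lib.H6xPCDesc.nonempty_lbc_iso_extD (A := A) (B := B) K
  exact isDualizing_of_extD K (isDualizing_of_iso e hK)

end Descent

end Groth.Agent.Lib.H6xFBC
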