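import Mathlib
import Groth.Agent.Lib.H6xFBCE
import Groth.Agent.Lib.H6xDimFnA
set_option backward.isDefEq.respectTransparency.types false

/-!
# Injective dimension can be tested on residue fields of maximal ideals; ascent of dualizing
complexes along flat maps (helper6)
-/

set_option autoImplicit false
set_option linter.style.haveILetI false
universe u

namespace Groth.Agent.Lib.H6xFBC

open CategoryTheory CategoryTheory.Limits DerivedCategory TensorProduct
open Groth.Agent.Lib.Helper1.Extend Groth.Agent.Lib.Helper1.LDer Groth.Agent.Lib.H6xLoc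
open Groth.Agent.Lib.H6xDual Groth.Agent.Lib.H6xBid Groth.Agent.Lib.H6xDimFn
attribute [local instance] HasDerivedCategory.standard

section Bass

variable {A : Type u} [CommRing A] [IsNoetherianRing A] (K : Dual.D A)

/-- the `x`-trick: if `Ext^{i+1}(A/(p + xA), K) = 0` then `Ext^i(A/p, K)` is divisible by `x` -/
lemma exists_eq_smul' (p : Ideal A) [p.IsPrime] (x : A) (hxp : x ∉ p) (i : ℤ)
    (h : Subsingleton (Dual.inD A (A ⧸ (p ⊔ Ideal.span {x})) ⟶ K⟦i + 1⟧))
    (f : Dual.inD A (A ⧸ p) ⟶ K⟦i⟧) : ∃ g : Dual.inD A (A ⧸ p) ⟶ K⟦i⟧, f = x • g := by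
  have h3 : ∀ f : Dual.inD A (A ⧸ (p ⊔ Ideal.span {x})) ⟶ (K⟦i⟧)⟦(1 : ℤ)⟧,
      ∃ s : (⊥ : Submonoid A), (s : A) • f = 0 := by
    intro f
    let c := (shiftFunctorAdd' (Dual.D A) i 1 (i + 1) rfl).app K
    refine ⟨1, ?_⟩
    rw [← cancel_mono c.inv, Limits.zero_comp]
    exact Subsingleton.elim _ _
  obtain ⟨s, g, hg⟩ := exists_smul_eq_smul (⊥ : Submonoid A) p x hxp (K⟦i⟧) h3 f
  refine ⟨g, ?_⟩
  have hs : (s : A) = 1 := Submonoid.mem_bot.1 s.2
  rw [hs, one_smul] at hg
  exact hg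

/-- the inductive step of Bass' criterion -/
lemma bass_step (b : ℤ)
    (hfin : ∀ (J : Ideal A) (i : ℤ), Module.Finite A (Dual.inD A (A ⧸ J) ⟶ K⟦i⟧))
    (hmax : ∀ (n : Ideal A) [n.IsMaximal] (i : ℤ), b < i →
      Subsingleton (Dual.inD A (A ⧸ n) ⟶ K⟦i⟧))
    (J : Ideal A)
    (IH : ∀ J' : Ideal A, J < J' → ∀ i : ℤ, b < i →
      Subsingleton (Dual.inD A (A ⧸ J') ⟶ K⟦i⟧)) :
    ∀ i : ℤ, b < i → Subsingleton (Dual.inD A (A ⧸ J) ⟶ K⟦i⟧) := by
  intro i hi
  by_cases hJtop : J = ⊤
  · haveI : Subsingleton (A ⧸ J) := by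
      rw [hJtop]
      exact Ideal.Quotient.subsingleton_iff.2 rfl
    exact Groth.Agent.Lib.H6xDep.subsingleton_hom_of_subsingleton _ _
  by_cases hJp : J.IsPrime
  · by_cases hJm : J.IsMaximal
    · exact hmax J i hi
    · obtain ⟨n, hn, hJn⟩ := Ideal.exists_le_maximal J hJtop
      haveI := hn
      haveI := hJp
      obtain ⟨x, hxn, hxJ⟩ : ∃ x ∈ n, x ∉ J := by
        by_contra hcon
        push Not at hcon
        have : J = n := le_antisymm hJn hcon
        exact hJm (this ▸ hn)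
      -- `E = x E`
      haveI := hfin J i
      have hgt1 : J < J ⊔ Ideal.span {x} := by
        refine lt_of_le_of_ne le_sup_left (fun h => hxJ ?_)
        rw [h]
        exact Ideal.mem_sup_right (Ideal.mem_span_singleton_self x)
      have hdiv : ∀ f : Dual.inD A (A ⧸ J) ⟶ K⟦i⟧, ∃ g, f = x • g := fun f =>
        exists_eq_smul' K J x hxJ i (IH _ hgt1 (i + 1) (by omega)) f
      obtain ⟨r, hr1, hr2⟩ := Submodule.exists_sub_one_mem_and_smul_eq_zero_of_fg_of_le_smul
        (Ideal.span {x}) (⊤ : Submodule A (Dual.inD A (A ⧸ J) ⟶ K⟦i⟧)) Module.Finite.fg_top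
        (by
          intro f _
          obtain ⟨g, rfl⟩ := hdiv f
          exact Submodule.smul_mem_smul (Ideal.mem_span_singleton_self x) Submodule.mem_top)
      have hrJ : r ∉ J := by
        intro hrJ
        have h1 : (1 : A) ∈ n := by
          have h2 : r - (r - 1) ∈ n :=
            n.sub_mem (hJn hrJ) ((Ideal.span_singleton_le_iff_mem _).2 hxn hr1)
          have h3 : r - (r - 1) = 1 := by ring
          rwa [h3] at h2
        exact hn.ne_top ((Ideal.eq_top_iff_one _).2 h1)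
      have hgt2 : J < J ⊔ Ideal.span {r} := by
        refine lt_of_le_of_ne le_sup_left (fun h => hrJ ?_)
        rw [h]
        exact Ideal.mem_sup_right (Ideal.mem_span_singleton_self r)
      refine ⟨fun f f' => ?_⟩
      suffices H : ∀ f : Dual.inD A (A ⧸ J) ⟶ K⟦i⟧, f = 0 by rw [H f, H f']
      intro f
      obtain ⟨g, rfl⟩ := exists_eq_smul' K J r hrJ i (IH _ hgt2 (i + 1) (by omega)) f
      exact hr2 g Submodule.mem_top
  · -- `J` is not prime
    obtain ⟨x, hx, y, hy, hxy⟩ := (Ideal.not_isPrime_iff.1 hJp).resolve_left hJtop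
    let c : A →ₗ[A] A ⧸ J := LinearMap.toSpanSingleton A (A ⧸ J) (Ideal.Quotient.mk J x)
    let N : Submodule A (A ⧸ J) := LinearMap.range c
    let J₁ : Ideal A := LinearMap.ker c
    let e₁ : (A ⧸ J₁) ≃ₗ[A] N := c.quotKerEquivRange
    let π : A →ₗ[A] (A ⧸ J) ⧸ N := N.mkQ.comp (Submodule.mkQ J)
    have hπ : Function.Surjective π :=
      (Submodule.mkQ_surjective N).comp (Submodule.mkQ_surjective J)
    let J₂ : Ideal A := LinearMap.ker π
    let e₂ : (A ⧸ J₂) ≃ₗ[A] (A ⧸ J) ⧸ N := π.quotKerEquivOfSurjective hπ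
    have hc : ∀ a : A, c a = Ideal.Quotient.mk J (a * x) := fun a => rfl
    have hJ₁ : J < J₁ := by
      refine lt_of_le_of_ne (fun a ha => ?_) (fun h => hy ?_)
      · change c a = 0
        rw [hc, Ideal.Quotient.eq_zero_iff_mem]
        exact J.mul_mem_right x ha
      · rw [h]
        change c y = 0
        rw [hc, Ideal.Quotient.eq_zero_iff_mem, mul_comm]
        exact hxy
    have hJ₂ : J < J₂ := by
      refine lt_of_le_of_ne (fun a ha => ?_) (fun h => hx ?_)
      · change N.mkQ (Submodule.mkQ J a) = 0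
        have h0 : Submodule.mkQ J a = 0 := (Submodule.Quotient.mk_eq_zero J).2 ha
        rw [h0, map_zero]
      · rw [h]
        change N.mkQ (Submodule.mkQ J x) = 0
        rw [Submodule.mkQ_apply, Submodule.Quotient.mk_eq_zero]
        exact ⟨1, by rw [hc, one_mul]; rfl⟩
    have h1 : Subsingleton (Dual.inD A N ⟶ K⟦i⟧) :=
      subsingleton_hom_of_linearEquiv e₁.symm _ (IH J₁ hJ₁ i hi)
    have h2 : Subsingleton (Dual.inD A ((A ⧸ J) ⧸ N) ⟶ K⟦i⟧) :=
      subsingleton_hom_of_linearEquiv e₂.symm _ (IH J₂ hJ₂ i hi)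
    exact subsingleton_hom_mid (subSES_shortExact N) _ h1 h2

/-- **Bass' criterion**: vanishing of `Ext^i(A/n, K)` for maximal ideals `n` and `i > b` implies
vanishing of `Ext^i(A/J, K)` for all ideals `J` and `i > b` -/
theorem subsingleton_hom_quotient_of_maximal (b : ℤ)
    (hfin : ∀ (J : Ideal A) (i : ℤ), Module.Finite A (Dual.inD A (A ⧸ J) ⟶ K⟦i⟧))
    (hmax : ∀ (n : Ideal A) [n.IsMaximal] (i : ℤ), b < i →
      Subsingleton (Dual.inD A (A ⧸ n) ⟶ K⟦i⟧)) :
    ∀ (J : Ideal A) (i : ℤ), b < i → Subsingleton (Dual.inD A (A ⧸ J) ⟶ K⟦i⟧) := by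
  intro J
  exact IsNoetherian.induction
    (P := fun J : Submodule A A => ∀ i : ℤ, b < i →
      Subsingleton (Dual.inD A (A ⧸ (J : Ideal A)) ⟶ K⟦i⟧))
    (fun J IH => bass_step K b hfin hmax J IH) J

end Bass

section Ascent

variable {A : Type u} {B : Type u} [CommRing A] [CommRing B] [Algebra A B]
  [IsNoetherianRing A] [IsNoetherianRing B] [Module.Flat A B]

/-- **ascent of dualizing complexes along a flat map**, assuming the vanishing of
`Ext^i(B/n, ω_B)` for maximal ideals `n` of `B` and large `i` -/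
theorem isDualizing_extD_of_maximal (ω : Dual.D A) (hω : Dual.IsDualizing A ω) (b' : ℤ)
    (hmax : ∀ (n : Ideal B) [n.IsMaximal] (i : ℤ), b' < i →
      Subsingleton (Dual.inD B (B ⧸ n) ⟶ ((extD A B).obj ω)⟦i⟧)) :
    Dual.IsDualizing B ((extD A B).obj ω) := by
  obtain ⟨a, b, hab⟩ := hω.finite_injective_dimension
  have hKa : ∀ j : ℤ, j < a → Subsingleton (Dual.HD A ω j) := fun j hj =>
    subsingleton_HD_of_subsingleton_hom ω j (hab A j (Or.inl hj))
  have hPC : DRing.IsPseudoCoherent' A ω := isPseudoCoherent'_dualizing ω hω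
  have hBB : ∃ a : ℤ, ∀ i : ℤ, i < a → Subsingleton (Dual.HD A ω i) := ⟨a, hKa⟩
  have hfinB : ∀ j : ℤ, Module.Finite B (Dual.HD B ((extD A B).obj ω) j) := by
    intro j
    haveI := hω.finite_cohomology j
    haveI : Module.Finite B ((ext A B).obj ((homologyFunctor (ModuleCat.{u} A) j).obj ω)) :=
      finite_bc (algebraMap A B) _
    exact Module.Finite.equiv (homologyMapDIso (ext A B) ω j).symm.toLinearEquiv
  have hKaB : ∀ j : ℤ, j < a → Subsingleton (Dual.HD B ((extD A B).obj ω) j) := by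
    intro j hj
    haveI := hKa j hj
    have h1 : IsZero ((ext A B).obj ((homologyFunctor (ModuleCat.{u} A) j).obj ω)) :=
      (ext A B).map_isZero (ModuleCat.isZero_of_subsingleton _)
    exact ModuleCat.subsingleton_of_isZero (h1.of_iso (homologyMapDIso (ext A B) ω j))
  refine
    { isNoetherianRing := inferInstance
      finite_injective_dimension := ⟨a, b', fun M _ _ i hi => ?_⟩
      finite_cohomology := hfinB
      toEnd_bijective := toEnd_bijective_extD (B := B) ω hPC hBB hω.toEnd_bijective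
      ext_self_subsingleton := fun i hi => ?_ }
  · rcases hi with hi | hi
    · exact subsingleton_hom_of_lt _ a hKaB M i hi
    · apply subsingleton_hom_of_cyclic _ i
      intro J
      exact subsingleton_hom_quotient_of_maximal _ b'
        (fun J i => finite_hom_inD_shift (ModuleCat.of B (B ⧸ J)) _ a hKaB hfinB i) hmax J i hi
  · have h1 := subsingleton_extD_hom (B := B) ω (ω⟦i⟧) hPC (boundedBelow_shift' ω hBB i)
      (hω.ext_self_subsingleton i hi)
    let c : (extD A B).obj (ω⟦i⟧) ≅ ((extD A B).obj ω)⟦i⟧ := ((extD A B).commShiftIso i).app ω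
    exact (c.homToEquiv (Z := (extD A B).obj ω)).subsingleton_congr.1 h1

/-- base change of `Ext^i(M, ω)` for a finite module `M`: vanishing ascends -/
theorem subsingleton_hom_tensor (ω : Dual.D A) (hω : Dual.IsDualizing A ω)
    (M : Type u) [AddCommGroup M] [Module A M] [Module.Finite A M] (i : ℤ)
    (h : Subsingleton (Dual.inD A M ⟶ ω⟦i⟧)) (N : Type u) [AddCommGroup N] [Module B N]
    (e : TensorProduct A B M ≃ₗ[B] N) :
    Subsingleton (Dual.inD B N ⟶ ((extD A B).obj ω)⟦i⟧) := by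
  obtain ⟨a, b, hab⟩ := hω.finite_injective_dimension
  have hKa : ∀ j : ℤ, j < a → Subsingleton (Dual.HD A ω j) := fun j hj =>
    subsingleton_HD_of_subsingleton_hom ω j (hab A j (Or.inl hj))
  have hPCM : DRing.IsPseudoCoherent' A (Dual.inD A M) :=
    (Groth.Agent.S6942.result A 0 ω M).2.2 inferInstance
  have h1 := subsingleton_extD_hom (B := B) (Dual.inD A M) (ω⟦i⟧) hPCM
    (boundedBelow_shift' ω ⟨a, hKa⟩ i) h
  let c : (extD A B).obj (ω⟦i⟧) ≅ ((extD A B).obj ω)⟦i⟧ := ((extD A B).commShiftIso i).app ω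
  let ε : (extD A B).obj (Dual.inD A M) ≅ Dual.inD B N :=
    extDInDIso (A := A) (B := B) M ≪≫
      (DerivedCategory.singleFunctor (ModuleCat.{u} B) 0).mapIso e.toModuleIso
  exact ((ε.homFromEquiv (Z := (extD A B).obj (ω⟦i⟧))).trans
    (c.homToEquiv (Z := Dual.inD B N))).subsingleton_congr.1 h1

end Ascent

end Groth.Agent.Lib.H6xFBC
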