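import Mathlib
import Groth.Agent.Lib.H6xFBCF
set_option backward.isDefEq.respectTransparency.types false

/-!
# Ascent of dualizing complexes along flat maps which are isomorphisms modulo an ideal in the
Jacobson radical (helper6)
-/

set_option autoImplicit false
set_option linter.style.haveILetI false
universe u

namespace Groth.Agent.Lib.H6xFBC

open CategoryTheory CategoryTheory.Limits DerivedCategory TensorProduct
open Groth.Agent.Lib.Helper1.Extend Groth.Agent.Lib.Helper1.LDer Groth.Agent.Lib.H6xLoc
open Groth.Agent.Lib.H6xDual Groth.Agent.Lib.H6xBid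
attribute [local instance] HasDerivedCategory.standard

variable {A : Type u} {B : Type u} [CommRing A] [CommRing B] [Algebra A B]
  [IsNoetherianRing A] [IsNoetherianRing B] [Module.Flat A B]

/-- `B ⊗ A/m ≃ B/n` when `mB = n` -/
noncomputable def tensorQuotEquiv (m : Ideal A) (n : Ideal B) (h : m.map (algebraMap A B) = n) :
    TensorProduct A B (A ⧸ m) ≃ₗ[B] (B ⧸ n) :=
  (Algebra.TensorProduct.quotIdealMapEquivTensorQuot B m).symm.toLinearEquiv ≪≫ₗ
    Submodule.quotEquivOfEq _ _ h

/-- ascent when every maximal ideal of `B` is extended from `A` -/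
theorem isDualizing_extD_of_forall_maximal_map (ω : Dual.D A) (hω : Dual.IsDualizing A ω)
    (h : ∀ (n : Ideal B) [n.IsMaximal], (n.comap (algebraMap A B)).map (algebraMap A B) = n) :
    Dual.IsDualizing B ((extD A B).obj ω) := by
  obtain ⟨a, b, hab⟩ := hω.finite_injective_dimension
  refine isDualizing_extD_of_maximal ω hω b (fun n _ i hi => ?_)
  exact subsingleton_hom_tensor ω hω (A ⧸ n.comap (algebraMap A B)) i (hab _ i (Or.inr hi))
    (B ⧸ n) (tensorQuotEquiv _ n (h n))

omit [IsNoetherianRing A] [IsNoetherianRing B] [Module.Flat A B] in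
/-- maximal ideals are extended from `A` when `A/I ≅ B/IB` and `IB` lies in the radical -/
lemma map_comap_eq_of_surjective (I : Ideal A)
    (hs : Function.Surjective
      ((Ideal.Quotient.mk (I.map (algebraMap A B))).comp (algebraMap A B)))
    (hJ : I.map (algebraMap A B) ≤ (⊥ : Ideal B).jacobson) (n : Ideal B) [hn : n.IsMaximal] :
    (n.comap (algebraMap A B)).map (algebraMap A B) = n := by
  have hIn : I.map (algebraMap A B) ≤ n :=
    le_trans hJ (sInf_le ⟨bot_le, hn⟩)
  have hIm : I ≤ n.comap (algebraMap A B) := Ideal.map_le_iff_le_comap.1 hIn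
  refine le_antisymm Ideal.map_comap_le (fun y hy => ?_)
  obtain ⟨a, ha⟩ := hs (Ideal.Quotient.mk _ y)
  have h1 : algebraMap A B a - y ∈ I.map (algebraMap A B) := by
    rw [← Ideal.Quotient.eq]
    exact ha
  have h2 : algebraMap A B a ∈ n := by
    have h3 : algebraMap A B a = (algebraMap A B a - y) + y := by ring
    rw [h3]
    exact n.add_mem (hIn h1) hy
  have h4 : y = algebraMap A B a - (algebraMap A B a - y) := by ring
  rw [h4]
  exact Ideal.sub_mem _ (Ideal.mem_map_of_mem _ h2) (Ideal.map_mono hIm h1)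

/-- **S1778** (in `extD` form) -/
theorem isDualizing_extD_of_iso_mod_ideal (I : Ideal A)
    (hs : Function.Surjective
      ((Ideal.Quotient.mk (I.map (algebraMap A B))).comp (algebraMap A B)))
    (hJ : I.map (algebraMap A B) ≤ (⊥ : Ideal B).jacobson)
    (ω : Dual.D A) (hω : Dual.IsDualizing A ω) : Dual.IsDualizing B ((extD A B).obj ω) :=
  isDualizing_extD_of_forall_maximal_map ω hω
    (fun n _ => map_comap_eq_of_surjective I hs hJ n)

/-- **S1778** -/
theorem isDualizing_LBaseChange_of_iso_mod_ideal (I : Ideal A)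
    (hs : Function.Surjective
      ((Ideal.Quotient.mk (I.map (algebraMap A B))).comp (algebraMap A B)))
    (hJ : I.map (algebraMap A B) ≤ (⊥ : Ideal B).jacobson)
    [DRing.HasLBaseChange (algebraMap A B)]
    (ω : Dual.D A) (hω : Dual.IsDualizing A ω) :
    Dual.IsDualizing B ((DRing.LBaseChange (algebraMap A B)).obj ω) := by
  obtain ⟨e⟩ := Groth.Agent.Lib.H6xPCDesc.nonempty_lbc_iso_extD (A := A) (B := B) ω
  exact isDualizing_of_iso e.symm (isDualizing_extD_of_iso_mod_ideal I hs hJ ω hω)

section Local

variable [IsLocalRing A] [IsLocalRing B]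
  (hm : (IsLocalRing.maximalIdeal A).map (algebraMap A B) = IsLocalRing.maximalIdeal B)

include hm in
/-- **S1777** (in `extD` form) -/
theorem isDualizing_isNormalized_extD_of_local (ω : Dual.D A) (hω : Dual.IsDualizing A ω)
    (hn : Dual.IsNormalized A ω) :
    Dual.IsDualizing B ((extD A B).obj ω) ∧ Dual.IsNormalized B ((extD A B).obj ω) := by
  obtain ⟨a, b, hab⟩ := hω.finite_injective_dimension
  constructor
  · refine isDualizing_extD_of_maximal ω hω b (fun n hn' i hi => ?_)
    have hnm : n = IsLocalRing.maximalIdeal B := IsLocalRing.eq_maximalIdeal hn'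
    exact subsingleton_hom_tensor ω hω (A ⧸ IsLocalRing.maximalIdeal A) i (hab _ i (Or.inr hi))
      (B ⧸ n) (tensorQuotEquiv _ n (hm.trans hnm.symm))
  · intro i hi
    exact subsingleton_hom_tensor ω hω (IsLocalRing.ResidueField A) i (hn i hi)
      (IsLocalRing.ResidueField B) (tensorQuotEquiv _ _ hm)

include hm in
/-- **S1777** -/
theorem isDualizing_isNormalized_LBaseChange_of_local [DRing.HasLBaseChange (algebraMap A B)]
    (ω : Dual.D A) (hω : Dual.IsDualizing A ω) (hn : Dual.IsNormalized A ω) :
    Dual.IsDualizing B ((DRing.LBaseChange (algebraMap A B)).obj ω) ∧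
      Dual.IsNormalized B ((DRing.LBaseChange (algebraMap A B)).obj ω) := by
  obtain ⟨e⟩ := Groth.Agent.Lib.H6xPCDesc.nonempty_lbc_iso_extD (A := A) (B := B) ω
  obtain ⟨h1, h2⟩ := isDualizing_isNormalized_extD_of_local hm ω hω hn
  refine ⟨isDualizing_of_iso e.symm h1, fun i hi => ?_⟩
  have h3 := h2 i hi
  exact (((shiftFunctor (Dual.D B) i).mapIso e).homToEquiv
    (Z := Dual.inD B (IsLocalRing.ResidueField B))).subsingleton_congr.2 h3

end Local

end Groth.Agent.Lib.H6xFBC
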