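import Mathlib
import Groth.Agent.Lib.H6xFBCG
set_option backward.isDefEq.respectTransparency.types false

/-!
# Transitivity of flat extension of scalars on derived categories; localization of `Ext` at a
maximal ideal (helper6)
-/

set_option autoImplicit false
set_option linter.style.haveILetI false
universe u

namespace Groth.Agent.Lib.H6xGor

open CategoryTheory CategoryTheory.Limits Category Pretriangulated DerivedCategory TensorProduct
open Groth.Agent.Lib.Helper1.Extend Groth.Agent.Lib.Helper1.LDer Groth.Agent.Lib.H6xLoc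
open Groth.Agent.Lib.H6xDual Groth.Agent.Lib.H6xBid Groth.Agent.Lib.H6xFBC
attribute [local instance] HasDerivedCategory.standard

section Trans

variable (A B C : Type u) [CommRing A] [CommRing B] [CommRing C] [Algebra A B] [Algebra B C]
  [Algebra A C] [IsScalarTower A B C]

/-- extension of scalars is transitive -/
noncomputable def extCompIso : ext A B ⋙ ext B C ≅ ext A C :=
  (ModuleCat.extendScalarsComp (algebraMap A B) (algebraMap B C)).symm ≪≫
    eqToIso (congrArg (fun φ : A →+* C => ModuleCat.extendScalars.{u, u, u} φ)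
      (IsScalarTower.algebraMap_eq A B C).symm)

variable [Module.Flat A B] [Module.Flat B C] [Module.Flat A C]

/-- transitivity on complexes -/
noncomputable def extCxCompIso (K : DRing.Cx A) :
    (extCx B C).obj ((extCx A B).obj K) ≅ (extCx A C).obj K :=
  HomologicalComplex.Hom.isoOfComponents (fun i => (extCompIso A B C).app (K.X i))
    (fun i j _ => ((extCompIso A B C).hom.naturality (K.d i j)).symm)

/-- **transitivity of flat extension of scalars on derived categories** (objectwise) -/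
theorem nonempty_extD_comp_iso (X : Dual.D A) :
    Nonempty ((extD B C).obj ((extD A B).obj X) ≅ (extD A C).obj X) := by
  let K : DRing.Cx A := Q.objPreimage X
  let e : Q.obj K ≅ X := Q.objObjPreimageIso X
  exact ⟨(extD B C).mapIso ((extD A B).mapIso e.symm ≪≫ mapQIso (ext A B) K) ≪≫
    mapQIso (ext B C) _ ≪≫ Q.mapIso (extCxCompIso A B C K) ≪≫ (mapQIso (ext A C) K).symm ≪≫
    (extD A C).mapIso e⟩

end Trans

section AtPrime

variable {B : Type u} [CommRing B] [IsNoetherianRing B]

/-- **localization of `Ext^i(B/n, W)` at the maximal ideal `n`**: vanishing can be tested after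
localizing at `n` -/
theorem subsingleton_hom_of_isLocalization (n : Ideal B) [hn : n.IsMaximal] (R : Type u)
    [CommRing R] [Algebra B R] [IsLocalization.AtPrime R n] [Module.Flat B R]
    (W : Dual.D B) (hW : ∃ a : ℤ, ∀ j : ℤ, j < a → Subsingleton (Dual.HD B W j)) (i : ℤ)
    (h : Subsingleton (Dual.inD R (R ⧸ n.map (algebraMap B R)) ⟶ ((extD B R).obj W)⟦i⟧)) :
    Subsingleton (Dual.inD B (B ⧸ n) ⟶ W⟦i⟧) := by
  have hX : DRing.IsPseudoCoherent' B (Dual.inD B (B ⧸ n)) :=
    (Groth.Agent.S6942.result B 0 W (B ⧸ n)).2.2 inferInstance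
  have hBC := isBC_extDMapSL (B := R) (Dual.inD B (B ⧸ n)) (W⟦i⟧) hX (boundedBelow_shift' W hW i)
  -- the target vanishes
  let c : (extD B R).obj (W⟦i⟧) ≅ ((extD B R).obj W)⟦i⟧ := ((extD B R).commShiftIso i).app W
  let ε : (extD B R).obj (Dual.inD B (B ⧸ n)) ≅ Dual.inD R (R ⧸ n.map (algebraMap B R)) :=
    extDInDIso (A := B) (B := R) (B ⧸ n) ≪≫
      (DerivedCategory.singleFunctor (ModuleCat.{u} R) 0).mapIso
        (tensorQuotEquiv n (n.map (algebraMap B R)) rfl).toModuleIso
  haveI hT : Subsingleton ((extD B R).obj (Dual.inD B (B ⧸ n)) ⟶ (extD B R).obj (W⟦i⟧)) :=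
    ((ε.homFromEquiv (Z := (extD B R).obj (W⟦i⟧))).trans
      (c.homToEquiv (Z := Dual.inD R (R ⧸ n.map (algebraMap B R))))).subsingleton_congr.2 h
  haveI hTen : Subsingleton (R ⊗[B] (Dual.inD B (B ⧸ n) ⟶ W⟦i⟧)) := hBC.1.subsingleton
  refine ⟨fun f f' => ?_⟩
  suffices H : ∀ f : Dual.inD B (B ⧸ n) ⟶ W⟦i⟧, f = 0 by rw [H f, H f']
  intro f
  -- `n` kills `f`
  have hkill : ∀ y ∈ n, y • f = 0 := by
    intro y hy
    have h1 : y • (𝟙 (ModuleCat.of B (B ⧸ n))) = 0 := by
      apply ModuleCat.hom_ext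
      apply LinearMap.ext
      intro z
      obtain ⟨z, rfl⟩ := Ideal.Quotient.mk_surjective z
      change y • Ideal.Quotient.mk n z = 0
      rw [Algebra.smul_def, Ideal.Quotient.algebraMap_eq, Ideal.Quotient.eq_zero_iff_mem.2 hy,
        zero_mul]
    have h2 : y • f = (DerivedCategory.singleFunctor (ModuleCat.{u} B) 0).map
        (y • (𝟙 (ModuleCat.of B (B ⧸ n)))) ≫ f := by
      rw [Functor.map_smul, CategoryTheory.Functor.map_id, Linear.smul_comp, id_comp]
    refine h2.trans ?_
    rw [h1, Functor.map_zero]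
    exact Limits.zero_comp
  have h0 : TensorProduct.mk B R (Dual.inD B (B ⧸ n) ⟶ W⟦i⟧) 1 f = 0 := Subsingleton.elim _ _
  obtain ⟨⟨t, ht⟩, htf⟩ := (IsLocalizedModule.eq_zero_iff n.primeCompl
    (TensorProduct.mk B R (Dual.inD B (B ⧸ n) ⟶ W⟦i⟧) 1)).1 h0
  obtain ⟨s', hs⟩ := Ideal.Quotient.exists_inv
    (I := n) (a := Ideal.Quotient.mk n t) (by
      intro h0
      exact ht (Ideal.Quotient.eq_zero_iff_mem.1 h0))
  obtain ⟨s, rfl⟩ := Ideal.Quotient.mk_surjective s'
  have h3 : t * s - 1 ∈ n := by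
    rw [← Ideal.Quotient.eq_zero_iff_mem, map_sub, map_mul, hs, map_one, sub_self]
  have h4 : f = (s * t) • f - (t * s - 1) • f := by
    rw [← sub_smul]
    have : s * t - (t * s - 1) = 1 := by ring
    rw [this, one_smul]
  have htf' : t • f = 0 := htf
  rw [h4, hkill _ h3, mul_smul, htf', smul_zero, sub_zero]

end AtPrime

end Groth.Agent.Lib.H6xGor
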