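import Mathlib
import Groth.Agent.Lib.H6xGorA
import Groth.Agent.Lib.H6xDimFnB
import Groth.Agent.Lib.H6xDualG
import Groth.Agent.Lib.H6xBidL
set_option backward.isDefEq.respectTransparency.types false

/-!
# Vanishing of `Ext` into a complex with a single free cohomology module over a ring of finite
injective dimension; transfer along a quotient map (helper6)
-/

set_option autoImplicit false
set_option linter.style.haveILetI false
universe u

namespace Groth.Agent.Lib.H6xGor

open CategoryTheory CategoryTheory.Limits Category Pretriangulated DerivedCategory TensorProduct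
open Groth.Agent.Lib.Helper1.Extend Groth.Agent.Lib.Helper1.LDer Groth.Agent.Lib.H6xLoc
open Groth.Agent.Lib.H6xDual Groth.Agent.Lib.H6xBid Groth.Agent.Lib.H6xFBC
open Groth.Agent.Lib.H6xDimFn
attribute [local instance] HasDerivedCategory.standard

section L1

variable {F : Type u} [CommRing F]

/-- `Ext^m(L, F) = 0` for `m > N` when `F` has injective dimension `≤ N` -/
lemma subsingleton_hom_of_hasInjectiveDimensionLT (N : ℕ)
    (hF : HasInjectiveDimensionLT (ModuleCat.of F F) (N + 1)) (L : ModuleCat.{u} F) (m : ℕ)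
    (hm : N < m) : Subsingleton (sg L ⟶ (sg (ModuleCat.of F F))⟦(m : ℤ)⟧) := by
  haveI : HasExt.{u + 1} (ModuleCat.{u} F) := hasExt_of_hasDerivedCategory _
  haveI : Subsingleton (Abelian.Ext.{u + 1} L (ModuleCat.of F F) m) :=
    HasInjectiveDimensionLT.subsingleton (ModuleCat.of F F) (N + 1) m (by omega) L
  exact @Equiv.subsingleton _ _
    (Abelian.Ext.homEquiv (X := L) (Y := ModuleCat.of F F) (n := m)).symm inferInstance

/-- if `Y` has `Hom(F, Y⟦j⟧) = 0` for `j ≠ d` and `Hom(F, Y⟦d⟧) ≅ F`, and `F` has injective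
dimension `≤ N`, then `Hom(L, Y⟦i⟧) = 0` for every module `L` and `i > d + N` -/
theorem subsingleton_hom_of_single_free (Y : Dual.D F) (d : ℤ)
    (h0 : ∀ j : ℤ, j ≠ d → Subsingleton (Dual.inD F F ⟶ Y⟦j⟧))
    (h1 : Nonempty ((Dual.inD F F ⟶ Y⟦d⟧) ≃ₗ[F] F)) (N : ℕ)
    (hF : HasInjectiveDimensionLT (ModuleCat.of F F) (N + 1)) (L : ModuleCat.{u} F) (i : ℤ)
    (hi : d + N < i) : Subsingleton (sg L ⟶ Y⟦i⟧) := by
  have hHD : ∀ j : ℤ, j ≠ d → Subsingleton (Dual.HD F Y j) := by
    intro j hj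
    obtain ⟨e⟩ := nonempty_hom_linearEquiv_HD Y j
    haveI := h0 j hj
    exact e.symm.toEquiv.subsingleton
  obtain ⟨M, ⟨eY⟩, ⟨eM⟩⟩ := exists_iso_single_of_HD Y d hHD
  obtain ⟨eH⟩ := nonempty_hom_linearEquiv_HD Y d
  obtain ⟨e1⟩ := h1
  let eMF : M ≅ ModuleCat.of F F := (eM ≪≫ₗ eH.symm ≪≫ₗ e1).toModuleIso
  let σ : (sg (ModuleCat.of F F))⟦-d⟧ ≅
      (DerivedCategory.singleFunctor (ModuleCat.{u} F) d).obj (ModuleCat.of F F) :=
    ((DerivedCategory.singleFunctors (ModuleCat.{u} F)).shiftIso (-d) d 0 (by omega)).app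
      (ModuleCat.of F F)
  let eY' : Y ≅ (sg (ModuleCat.of F F))⟦-d⟧ :=
    eY ≪≫ (DerivedCategory.singleFunctor (ModuleCat.{u} F) d).mapIso eMF ≪≫ σ.symm
  obtain ⟨m, hm⟩ : ∃ m : ℕ, (m : ℤ) = -d + i := ⟨(-d + i).toNat, by omega⟩
  have h2 : Subsingleton (sg L ⟶ (sg (ModuleCat.of F F))⟦(m : ℤ)⟧) :=
    subsingleton_hom_of_hasInjectiveDimensionLT N hF L m (by omega)
  have h3 : Subsingleton (sg L ⟶ ((sg (ModuleCat.of F F))⟦-d⟧)⟦i⟧) :=
    (shiftAddHomEquiv (sg L) (sg (ModuleCat.of F F)) (-d) i (m : ℤ) hm.symm).subsingleton_congr.1 h2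
  exact (((shiftFunctor (Dual.D F) i).mapIso eY').homToEquiv (Z := sg L)).subsingleton_congr.2 h3

end L1

section L2

variable {R : Type u} [CommRing R] (I : Ideal R)

/-- transfer along the quotient map `R → R/I`: if `Ext^j_R(R/I, W)` vanishes for `j ≠ d` and is
`R/I` for `j = d`, and `R/I` has injective dimension `≤ N` over itself, then
`Ext^i_R(L, W) = 0` for every `R/I`-module `L` and `i > d + N` -/
theorem subsingleton_hom_of_quotient (W : Dual.D R) (d : ℤ)
    (h0 : ∀ j : ℤ, j ≠ d → Subsingleton (Dual.inD R (R ⧸ I) ⟶ W⟦j⟧))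
    (h1 : Nonempty ((Dual.inD R (R ⧸ I) ⟶ W⟦d⟧) ≃ₗ[R] (R ⧸ I))) (N : ℕ)
    (hF : HasInjectiveDimensionLT (ModuleCat.of (R ⧸ I) (R ⧸ I)) (N + 1))
    (L : Type u) [AddCommGroup L] [Module R L] (hL : Module.IsTorsionBySet R L I) (i : ℤ)
    (hi : d + N < i) : Subsingleton (Dual.inD R L ⟶ W⟦i⟧) := by
  obtain ⟨RG, ⟨adj⟩⟩ := Groth.Agent.Lib.H6xCoext.exists_rightAdjoint (algebraMap R (R ⧸ I))
  obtain ⟨e1⟩ := h1
  let NF : ModuleCat.{u} (R ⧸ I) := ModuleCat.of (R ⧸ I) (R ⧸ I)
  let MF : ModuleCat.{u} R := ModuleCat.of R (R ⧸ I)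
  let eF : MF ≅ rN (A := R) NF :=
    (restrictEquiv (A := R) (B := R ⧸ I) (R ⧸ I)).symm.toModuleIso
  have h0' : ∀ j : ℤ, j ≠ d → Subsingleton (Dual.inD (R ⧸ I) (R ⧸ I) ⟶ (RG.obj W)⟦j⟧) :=
    fun j hj => (Φ RG adj NF MF eF W j).subsingleton_congr.2 (h0 j hj)
  have h1' : Nonempty ((Dual.inD (R ⧸ I) (R ⧸ I) ⟶ (RG.obj W)⟦d⟧) ≃ₗ[R ⧸ I] (R ⧸ I)) := by
    refine ⟨{ toFun := fun x => e1 (Φ RG adj NF MF eF W d x)
              invFun := fun y => (Φ RG adj NF MF eF W d).symm (e1.symm y)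
              left_inv := fun x => by
                dsimp only
                rw [LinearEquiv.symm_apply_apply, Equiv.symm_apply_apply]
              right_inv := fun y => by
                dsimp only
                rw [Equiv.apply_symm_apply, LinearEquiv.apply_symm_apply]
              map_add' := fun x x' => by
                rw [Φ_add, map_add]
              map_smul' := fun f x => by
                obtain ⟨r, rfl⟩ := Ideal.Quotient.mk_surjective f
                have h2 := Φ_smul RG adj NF MF eF W d r x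
                rw [Ideal.Quotient.algebraMap_eq] at h2
                rw [h2, map_smul, RingHom.id_apply, Algebra.smul_def,
                  Ideal.Quotient.algebraMap_eq]
                rfl }⟩
  letI : Module (R ⧸ I) L := hL.module
  haveI : IsScalarTower R (R ⧸ I) L := hL.isScalarTower
  have h3 := subsingleton_hom_of_single_free (RG.obj W) d h0' h1' N hF
    (ModuleCat.of (R ⧸ I) L) i hi
  exact (Φ RG adj (ModuleCat.of (R ⧸ I) L) (ModuleCat.of R L)
    (restrictEquiv (A := R) (B := R ⧸ I) L).symm.toModuleIso W i).subsingleton_congr.1 h3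

end L2

end Groth.Agent.Lib.H6xGor
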