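import Mathlib
import Groth.Agent.Lib.H6xGorB
import Groth.Agent.Lib.H6xLocE
import Groth.Prelude.Def_EGA4b
set_option backward.isDefEq.respectTransparency.types false

/-!
# Ascent of dualizing complexes along flat maps with fibres of finite injective dimension
(helper6)
-/

set_option autoImplicit false
set_option linter.style.haveILetI false
universe u

namespace Groth.Agent.Lib.H6xGor

open CategoryTheory CategoryTheory.Limits Category Pretriangulated DerivedCategory TensorProduct
open Groth.Agent.Lib.Helper1.Extend Groth.Agent.Lib.Helper1.LDer Groth.Agent.Lib.H6xLoc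
open Groth.Agent.Lib.H6xDual Groth.Agent.Lib.H6xBid Groth.Agent.Lib.H6xFBC
open Groth.Agent.Lib.H6xDimFn
attribute [local instance] HasDerivedCategory.standard

section L3

variable {A R : Type u} [CommRing A] [CommRing R] [Algebra A R] [IsNoetherianRing A]
  [IsNoetherianRing R] [Module.Flat A R]

/-- base change of `Ext^d(A/m, ω)` -/
theorem nonempty_hom_linearEquiv_of_flat (ω : Dual.D A) (hω : Dual.IsDualizing A ω)
    (m : Ideal A) (d : ℤ)
    (e : (Dual.inD A (A ⧸ m) ⟶ ω⟦d⟧) ≃ₗ[A] (A ⧸ m)) :
    Nonempty ((Dual.inD R (R ⧸ m.map (algebraMap A R)) ⟶ ((extD A R).obj ω)⟦d⟧) ≃ₗ[R]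
      (R ⧸ m.map (algebraMap A R))) := by
  obtain ⟨a, b, hab⟩ := hω.finite_injective_dimension
  have hKa : ∀ j : ℤ, j < a → Subsingleton (Dual.HD A ω j) := fun j hj =>
    subsingleton_HD_of_subsingleton_hom ω j (hab A j (Or.inl hj))
  have hX : DRing.IsPseudoCoherent' A (Dual.inD A (A ⧸ m)) :=
    (Groth.Agent.S6942.result A 0 ω (A ⧸ m)).2.2 inferInstance
  have hBC := isBC_extDMapSL (B := R) (Dual.inD A (A ⧸ m)) (ω⟦d⟧) hX
    (boundedBelow_shift' ω ⟨a, hKa⟩ d)
  let c : (extD A R).obj (ω⟦d⟧) ≅ ((extD A R).obj ω)⟦d⟧ := ((extD A R).commShiftIso d).app ω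
  let ε : (extD A R).obj (Dual.inD A (A ⧸ m)) ≅ Dual.inD R (R ⧸ m.map (algebraMap A R)) :=
    extDInDIso (A := A) (B := R) (A ⧸ m) ≪≫
      (DerivedCategory.singleFunctor (ModuleCat.{u} R) 0).mapIso
        (tensorQuotEquiv m (m.map (algebraMap A R)) rfl).toModuleIso
  let E₁ := LinearEquiv.ofBijective (bcLift (extDMapSL (B := R) (Dual.inD A (A ⧸ m)) (ω⟦d⟧))) hBC
  let E₂ := Linear.homCongr R ε c
  let E₀ := LinearEquiv.baseChange A R _ _ e
  let E₃ := tensorQuotEquiv (B := R) m (m.map (algebraMap A R)) rfl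
  exact ⟨E₂.symm ≪≫ₗ E₁.symm ≪≫ₗ E₀ ≪≫ₗ E₃⟩

/-- **the local statement**: for a flat map `A → R` to a local ring `R`, a maximal ideal `m` of
`A` with `mR ≤ m_R`, and `R/mR` of injective dimension `≤ N` over itself, `Ext^i_R(R/m_R, ω_R)`
vanishes for `i > b + N` -/
theorem subsingleton_hom_residue_of_flat_local [IsLocalRing R] (ω : Dual.D A)
    (hω : Dual.IsDualizing A ω) (m : Ideal A) [hm : m.IsMaximal] (I : Ideal R)
    (hI : m.map (algebraMap A R) = I) (hIm : I ≤ IsLocalRing.maximalIdeal R) (b : ℤ)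
    (hb : ∀ i : ℤ, b < i → Subsingleton (Dual.inD A (A ⧸ m) ⟶ ω⟦i⟧)) (N : ℕ)
    (hF : HasInjectiveDimensionLT (ModuleCat.of (R ⧸ I) (R ⧸ I)) (N + 1)) (i : ℤ)
    (hi : b + N < i) :
    Subsingleton (Dual.inD R (R ⧸ IsLocalRing.maximalIdeal R) ⟶ ((extD A R).obj ω)⟦i⟧) := by
  subst hI
  obtain ⟨d, hd0, ⟨ed⟩⟩ := ext_residueField_single_degree A ω hω m
  have hdb : d ≤ b := by
    by_contra hlt
    push Not at hlt
    haveI := hb d hlt
    haveI : Subsingleton (A ⧸ m) := ed.symm.toEquiv.subsingleton
    haveI : Nontrivial (A ⧸ m) := Ideal.Quotient.nontrivial_iff.mpr hm.ne_top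
    exact false_of_nontrivial_of_subsingleton (A ⧸ m)
  have h0 : ∀ j : ℤ, j ≠ d → Subsingleton
      (Dual.inD R (R ⧸ m.map (algebraMap A R)) ⟶ ((extD A R).obj ω)⟦j⟧) := fun j hj =>
    subsingleton_hom_tensor ω hω (A ⧸ m) j (hd0 j hj) (R ⧸ m.map (algebraMap A R))
      (tensorQuotEquiv m _ rfl)
  have h1 := nonempty_hom_linearEquiv_of_flat (R := R) ω hω m d ed
  refine subsingleton_hom_of_quotient (m.map (algebraMap A R)) ((extD A R).obj ω) d h0 h1 N hF
    (R ⧸ IsLocalRing.maximalIdeal R) ?_ i (by omega)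
  intro x a
  obtain ⟨x, rfl⟩ := Ideal.Quotient.mk_surjective x
  change (a : R) • Ideal.Quotient.mk _ x = 0
  rw [Algebra.smul_def, Ideal.Quotient.algebraMap_eq, Ideal.Quotient.eq_zero_iff_mem.2 (hIm a.2),
    zero_mul]

end L3

section T

variable {A B : Type u} [CommRing A] [CommRing B] [Algebra A B] [IsNoetherianRing A]
  [IsNoetherianRing B] [Module.Flat A B]

/-- the base change of a bounded below complex is bounded below -/
lemma boundedBelow_extD (ω : Dual.D A) (a : ℤ)
    (hKa : ∀ j : ℤ, j < a → Subsingleton (Dual.HD A ω j)) :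
    ∀ j : ℤ, j < a → Subsingleton (Dual.HD B ((extD A B).obj ω) j) := by
  intro j hj
  haveI := hKa j hj
  have h1 : IsZero ((ext A B).obj ((homologyFunctor (ModuleCat.{u} A) j).obj ω)) :=
    (ext A B).map_isZero (ModuleCat.isZero_of_subsingleton _)
  exact ModuleCat.subsingleton_of_isZero (h1.of_iso (homologyMapDIso (ext A B) ω j))

/-- vanishing of `Ext^i(B/n, ω_B)` for `i > b + N` when the fibre local ring at `n` has injective
dimension `≤ N` -/
theorem subsingleton_hom_of_fibLocRing (ω : Dual.D A) (hω : Dual.IsDualizing A ω) (b : ℤ)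
    (hb : ∀ (M : Type u) [AddCommGroup M] [Module A M] (i : ℤ), b < i →
      Subsingleton (Dual.inD A M ⟶ ω⟦i⟧))
    (n : Ideal B) [hn : n.IsMaximal] (N : ℕ)
    (hF : HasInjectiveDimensionLT (ModuleCat.of (EGA4.FibLocRing A B n) (EGA4.FibLocRing A B n))
      (N + 1)) (i : ℤ) (hi : b + N < i) :
    Subsingleton (Dual.inD B (B ⧸ n) ⟶ ((extD A B).obj ω)⟦i⟧) := by
  obtain ⟨a, b', hab⟩ := hω.finite_injective_dimension
  have hKa : ∀ j : ℤ, j < a → Subsingleton (Dual.HD A ω j) := fun j hj =>
    subsingleton_HD_of_subsingleton_hom ω j (hab A j (Or.inl hj))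
  set p : Ideal A := n.comap (algebraMap A B) with hp
  haveI hpp : p.IsPrime := Ideal.comap_isPrime _ _
  have hlies : n.LiesOver p := ⟨rfl⟩
  letI alg := Localization.AtPrime.algebraOfLiesOver p n
  haveI hflatB : Module.Flat B (Localization.AtPrime n) := IsLocalization.flat _ n.primeCompl
  haveI hflatA : Module.Flat A (Localization.AtPrime n) := Module.Flat.trans A B _
  haveI hflatAp : Module.Flat A (Localization.AtPrime p) := IsLocalization.flat _ p.primeCompl
  haveI hflat : Module.Flat (Localization.AtPrime p) (Localization.AtPrime n) :=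
    (Module.flat_iff_of_isLocalization (Localization.AtPrime p) p.primeCompl _).mpr hflatA
  haveI : IsNoetherianRing (Localization.AtPrime p) :=
    IsLocalization.isNoetherianRing p.primeCompl _ inferInstance
  haveI : IsNoetherianRing (Localization.AtPrime n) :=
    IsLocalization.isNoetherianRing n.primeCompl _ inferInstance
  -- the dualizing complex of `A_p`
  have hωp : Dual.IsDualizing (Localization.AtPrime p)
      ((extD A (Localization.AtPrime p)).obj ω) := isDualizing_LS p.primeCompl ω hω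
  have hpm : p.map (algebraMap A (Localization.AtPrime p)) =
      IsLocalRing.maximalIdeal (Localization.AtPrime p) :=
    IsLocalization.AtPrime.map_eq_maximalIdeal p (Localization.AtPrime p)
  have hbp : ∀ i : ℤ, b < i → Subsingleton
      (Dual.inD (Localization.AtPrime p)
        (Localization.AtPrime p ⧸ IsLocalRing.maximalIdeal (Localization.AtPrime p)) ⟶
        ((extD A (Localization.AtPrime p)).obj ω)⟦i⟧) := fun i hi =>
    subsingleton_hom_tensor ω hω (A ⧸ p) i (hb _ i hi) _ (tensorQuotEquiv p _ hpm)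
  have hI : (IsLocalRing.maximalIdeal (Localization.AtPrime p)).map
      (algebraMap (Localization.AtPrime p) (Localization.AtPrime n)) =
      p.map (algebraMap A (Localization.AtPrime n)) := by
    rw [← hpm, Ideal.map_map, ← IsScalarTower.algebraMap_eq]
  have hnm : n.map (algebraMap B (Localization.AtPrime n)) =
      IsLocalRing.maximalIdeal (Localization.AtPrime n) :=
    IsLocalization.AtPrime.map_eq_maximalIdeal n (Localization.AtPrime n)
  have hIm : p.map (algebraMap A (Localization.AtPrime n)) ≤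
      IsLocalRing.maximalIdeal (Localization.AtPrime n) := by
    rw [IsScalarTower.algebraMap_eq A B (Localization.AtPrime n), ← Ideal.map_map, ← hnm]
    exact Ideal.map_mono Ideal.map_comap_le
  have h1 := subsingleton_hom_residue_of_flat_local (A := Localization.AtPrime p)
    (R := Localization.AtPrime n) _ hωp (IsLocalRing.maximalIdeal (Localization.AtPrime p))
    (p.map (algebraMap A (Localization.AtPrime n))) hI hIm b hbp N hF i hi
  -- transitivity
  obtain ⟨e1⟩ := nonempty_extD_comp_iso A (Localization.AtPrime p) (Localization.AtPrime n) ω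
  obtain ⟨e2⟩ := nonempty_extD_comp_iso A B (Localization.AtPrime n) ω
  let e3 := (shiftFunctor (Dual.D (Localization.AtPrime n)) i).mapIso (e2 ≪≫ e1.symm)
  have h2 : Subsingleton (Dual.inD (Localization.AtPrime n)
      (Localization.AtPrime n ⧸ IsLocalRing.maximalIdeal (Localization.AtPrime n)) ⟶
      ((extD B (Localization.AtPrime n)).obj ((extD A B).obj ω))⟦i⟧) :=
    (e3.homToEquiv (Z := Dual.inD (Localization.AtPrime n)
      (Localization.AtPrime n ⧸ IsLocalRing.maximalIdeal (Localization.AtPrime n)))).subsingleton_congr.2 h1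
  have h3 : Subsingleton (Dual.inD (Localization.AtPrime n)
      (Localization.AtPrime n ⧸ n.map (algebraMap B (Localization.AtPrime n))) ⟶
      ((extD B (Localization.AtPrime n)).obj ((extD A B).obj ω))⟦i⟧) :=
    subsingleton_hom_of_linearEquiv (Submodule.quotEquivOfEq _ _ hnm) _ h2
  exact subsingleton_hom_of_isLocalization n (Localization.AtPrime n) ((extD A B).obj ω)
    ⟨a, boundedBelow_extD ω a hKa⟩ i h3

/-- **ascent of dualizing complexes along flat maps whose fibre local rings at maximal ideals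
have injective dimension `≤ N`** -/
theorem isDualizing_extD_of_fibLocRing (ω : Dual.D A) (hω : Dual.IsDualizing A ω) (N : ℕ)
    (hF : ∀ (n : Ideal B) [n.IsMaximal], HasInjectiveDimensionLT
      (ModuleCat.of (EGA4.FibLocRing A B n) (EGA4.FibLocRing A B n)) (N + 1)) :
    Dual.IsDualizing B ((extD A B).obj ω) := by
  obtain ⟨a, b, hab⟩ := hω.finite_injective_dimension
  exact isDualizing_extD_of_maximal ω hω (b + N) (fun n _ i hi =>
    subsingleton_hom_of_fibLocRing ω hω b (fun M _ _ j hj => hab M j (Or.inr hj)) n N (hF n) i hi)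

end T

end Groth.Agent.Lib.H6xGor
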