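import Mathlib
import Groth.Agent.Lib.H6xGorC
import Groth.Agent.Lib.Helper29Gorenstein
import Groth.Agent.Lib.Helper28FibreTrans
import Groth.Agent.Lib.Helper5GorRing
set_option backward.isDefEq.respectTransparency.types false

/-!
# Ascent of dualizing complexes along flat maps with Gorenstein fibres of bounded dimension
(helper6)
-/

set_option autoImplicit false
set_option linter.style.haveILetI false
universe u

namespace Groth.Agent.Lib.H6xGor

open CategoryTheory CategoryTheory.Limits Category Pretriangulated DerivedCategory TensorProduct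
open Groth.Agent.Lib.Helper1.Extend Groth.Agent.Lib.Helper1.LDer Groth.Agent.Lib.H6xLoc
open Groth.Agent.Lib.H6xDual Groth.Agent.Lib.H6xBid Groth.Agent.Lib.H6xFBC
attribute [local instance] HasDerivedCategory.standard

/-- a Gorenstein local ring of dimension `≤ N` has injective dimension `≤ N` -/
theorem hasInjectiveDimensionLT_of_gorenstein (F : Type u) [CommRing F]
    [hF : LocCoh.IsGorensteinLocalRing F] (N : ℕ) (hN : ringKrullDim F ≤ N) :
    HasInjectiveDimensionLT (ModuleCat.of F F) (N + 1) := by
  have h0 : 0 ≤ ringKrullDim F := ringKrullDim_nonneg_of_nontrivial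
  obtain ⟨n, hn, hnN⟩ : ∃ n : ℕ, ringKrullDim F = n ∧ n ≤ N := by
    generalize ringKrullDim F = x at h0 hN
    induction x using WithBot.recBotCoe with
    | bot => exact absurd h0 (not_le_of_gt (WithBot.bot_lt_coe 0))
    | coe x =>
      have h1 : x ≤ (N : ℕ∞) := by exact_mod_cast hN
      have h2 : x ≠ ⊤ := ne_top_of_le_ne_top (ENat.natCast_ne_top N) h1
      lift x to ℕ using h2
      exact ⟨x, rfl, by exact_mod_cast h1⟩
  have h1 := (Groth.Agent.Lib.Helper29Gorenstein.depth_eq_and_hasInjectiveDimensionLT F n hn).2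
  exact hasInjectiveDimensionLT_of_ge _ (n + 1) (N + 1) (by omega)

section Fiber

variable {A B : Type u} [CommRing A] [CommRing B] [Algebra A B] [IsNoetherianRing A]
  [IsNoetherianRing B] [Module.Flat A B]

/-- ascent when the fibre local rings are Gorenstein of dimension `≤ N` -/
theorem isDualizing_extD_of_gorenstein_fibLocRing (ω : Dual.D A) (hω : Dual.IsDualizing A ω)
    (N : ℕ) (h : ∀ (q : Ideal B) [q.IsPrime], LocCoh.IsGorensteinLocalRing (EGA4.FibLocRing A B q) ∧
      ringKrullDim (EGA4.FibLocRing A B q) ≤ N) :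
    Dual.IsDualizing B ((extD A B).obj ω) :=
  isDualizing_extD_of_fibLocRing ω hω N (fun n hn => by
    haveI : n.IsPrime := hn.isPrime
    haveI := (h n).1
    exact hasInjectiveDimensionLT_of_gorenstein _ N (h n).2)

/-- ascent when the fibre rings `κ(p) ⊗ B` are Gorenstein of dimension `≤ N` -/
theorem isDualizing_extD_of_gorenstein_fiber (ω : Dual.D A) (hω : Dual.IsDualizing A ω)
    (N : ℕ) (h : ∀ (p : Ideal A) [p.IsPrime], LocCoh.IsGorensteinRing (p.Fiber B) ∧
      ringKrullDim (p.Fiber B) ≤ N) :
    Dual.IsDualizing B ((extD A B).obj ω) := by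
  refine isDualizing_extD_of_gorenstein_fibLocRing ω hω N ?_
  refine (Groth.Agent.Lib.Helper28.forall_localization_fiber_iff (A := A) (B := B)
    (fun R _ => LocCoh.IsGorensteinLocalRing R ∧ ringKrullDim R ≤ N) ?_).1 ?_
  · intro R S _ _ e hR
    haveI := hR.1
    refine ⟨Groth.Agent.Lib.Helper5.GorRing.gorLocal_of_ringEquiv e, ?_⟩
    rw [← ringKrullDim_eq_of_ringEquiv e]
    exact hR.2
  · intro p hp Q hQ
    haveI := (h p).1
    refine ⟨LocCoh.IsGorensteinRing.isGorensteinLocalRing_localization Q, ?_⟩
    rw [IsLocalization.AtPrime.ringKrullDim_eq_height Q (Localization.AtPrime Q)]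
    exact le_trans Ideal.height_le_ringKrullDim_of_isPrime (h p).2

omit [IsNoetherianRing A] [IsNoetherianRing B] [Module.Flat A B] in
/-- the fibres of an algebra generated by `r` elements have dimension `≤ r` -/
lemma ringKrullDim_fiber_le (r : ℕ) (f : MvPolynomial (Fin r) A →ₐ[A] B)
    (hf : Function.Surjective f) (p : Ideal A) [p.IsPrime] : ringKrullDim (p.Fiber B) ≤ r := by
  let g : p.ResidueField ⊗[A] MvPolynomial (Fin r) A →ₐ[p.ResidueField] p.ResidueField ⊗[A] B :=
    Algebra.TensorProduct.map (AlgHom.id p.ResidueField p.ResidueField) f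
  have hg : Function.Surjective g := by
    intro x
    induction x using TensorProduct.induction_on with
    | zero => exact ⟨0, map_zero g⟩
    | tmul a b =>
      obtain ⟨q, rfl⟩ := hf b
      exact ⟨a ⊗ₜ q, Algebra.TensorProduct.map_tmul _ _ _ _⟩
    | add x y hx hy =>
      obtain ⟨x', rfl⟩ := hx
      obtain ⟨y', rfl⟩ := hy
      exact ⟨x' + y', map_add g x' y'⟩
  let e := (MvPolynomial.algebraTensorAlgEquiv (σ := Fin r) A p.ResidueField).symm
  have h1 := ringKrullDim_le_of_surjective
    ((g.comp e.toAlgHom).toRingHom)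
    (by
      intro y
      obtain ⟨x, rfl⟩ := hg y
      obtain ⟨z, rfl⟩ := e.surjective x
      exact ⟨z, rfl⟩)
  refine le_trans h1 ?_
  rw [MvPolynomial.ringKrullDim_of_isNoetherianRing, ringKrullDim_eq_zero_of_field, zero_add,
    Nat.card_fin]

end Fiber

end Groth.Agent.Lib.H6xGor
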