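import Mathlib
import Groth.Agent.Lib.H6xGorD
set_option backward.isDefEq.respectTransparency.types false

/-!
# Dualizing complexes and faithfully flat finite type maps with Gorenstein fibres (helper6)
-/

set_option autoImplicit false
set_option linter.style.haveILetI false
universe u

namespace Groth.Agent.Lib.H6xGor

open CategoryTheory CategoryTheory.Limits Category Pretriangulated DerivedCategory TensorProduct
open Groth.Agent.Lib.Helper1.Extend Groth.Agent.Lib.Helper1.LDer Groth.Agent.Lib.H6xLoc
open Groth.Agent.Lib.H6xDual Groth.Agent.Lib.H6xBid Groth.Agent.Lib.H6xFBC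
attribute [local instance] HasDerivedCategory.standard

variable {A B : Type u} [CommRing A] [CommRing B] [Algebra A B] [IsNoetherianRing A]
  [IsNoetherianRing B]

/-- ascent for flat finite type maps with Gorenstein fibres -/
theorem isDualizing_extD_of_finiteType_gorenstein [Module.Flat A B] [Algebra.FiniteType A B]
    (hG : ∀ (p : Ideal A) [p.IsPrime], LocCoh.IsGorensteinRing (p.Fiber B))
    (ω : Dual.D A) (hω : Dual.IsDualizing A ω) : Dual.IsDualizing B ((extD A B).obj ω) := by
  obtain ⟨r, f, hf⟩ := Algebra.FiniteType.iff_quotient_mvPolynomial''.1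
    (inferInstance : Algebra.FiniteType A B)
  exact isDualizing_extD_of_gorenstein_fiber ω hω r
    (fun p _ => ⟨hG p, ringKrullDim_fiber_le r f hf p⟩)

/-- **S1788** -/
theorem isDualizing_iff_LBaseChange_of_gorenstein_fibres [Module.FaithfullyFlat A B]
    [Algebra.FiniteType A B]
    (hG : ∀ p : PrimeSpectrum A, LocCoh.IsGorensteinRing (B ⊗[A] p.asIdeal.ResidueField))
    [DRing.HasLBaseChange (algebraMap A B)] (K : Dual.D A) :
    Dual.IsDualizing A K ↔ Dual.IsDualizing B ((DRing.LBaseChange (algebraMap A B)).obj K) := by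
  constructor
  · intro hK
    obtain ⟨e⟩ := Groth.Agent.Lib.H6xPCDesc.nonempty_lbc_iso_extD (A := A) (B := B) K
    refine isDualizing_of_iso e.symm (isDualizing_extD_of_finiteType_gorenstein (fun p hp => ?_) K hK)
    haveI := hG ⟨p, hp⟩
    exact Groth.Agent.Lib.Helper5.GorRing.gorRing_of_ringEquiv
      (Algebra.TensorProduct.comm A B p.ResidueField).toRingEquiv
  · exact isDualizing_of_faithfullyFlat_LBaseChange K

end Groth.Agent.Lib.H6xGor
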