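import Mathlib
import Groth.Agent.Lib.H6xGorE
import Groth.Agent.Lib.Helper6FSReg
set_option backward.isDefEq.respectTransparency.types false

/-!
# The base change of a dualizing complex along a smooth map is dualizing (helper6)
-/

set_option autoImplicit false
set_option linter.style.haveILetI false
universe u

namespace Groth.Agent.Lib.H6xGor

open CategoryTheory CategoryTheory.Limits Category Pretriangulated DerivedCategory TensorProduct
open Groth.Agent.Lib.Helper1.Extend Groth.Agent.Lib.Helper1.LDer Groth.Agent.Lib.H6xLoc
open Groth.Agent.Lib.H6xDual Groth.Agent.Lib.H6xBid Groth.Agent.Lib.H6xFBC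
attribute [local instance] HasDerivedCategory.standard

variable {A B : Type u} [CommRing A] [CommRing B] [Algebra A B] [IsNoetherianRing A]

/-- **S11177** (in `extD` form) -/
theorem isDualizing_extD_of_smooth [Algebra.Smooth A B] (ω : Dual.D A)
    (hω : Dual.IsDualizing A ω) : Dual.IsDualizing B ((extD A B).obj ω) := by
  haveI : Algebra.FinitePresentation A B := Algebra.Smooth.finitePresentation
  haveI : Algebra.FiniteType A B := inferInstance
  haveI : IsNoetherianRing B := Algebra.FiniteType.isNoetherianRing A B
  refine isDualizing_extD_of_finiteType_gorenstein (fun p hp => ?_) ω hω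
  haveI : IsNoetherianRing (p.Fiber B) := Groth.Agent.Lib.Helper28.isNoetherianRing_fiber p
  haveI : Algebra.FormallySmooth p.ResidueField (p.Fiber B) := inferInstance
  haveI : IsRegularRing (p.Fiber B) :=
    Groth.Agent.Lib.Helper6.FSReg.isRegularRing_of_formallySmooth p.ResidueField (p.Fiber B)
  exact Groth.Agent.Lib.Helper5.GorRing.gorRing_of_isRegularRing (p.Fiber B)

/-- **S11177** -/
theorem isDualizing_LBaseChange_of_smooth [Algebra.Smooth A B]
    [DRing.HasLBaseChange (algebraMap A B)] (ω : Dual.D A) (hω : Dual.IsDualizing A ω) :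
    Dual.IsDualizing B ((DRing.LBaseChange (algebraMap A B)).obj ω) := by
  obtain ⟨e⟩ := Groth.Agent.Lib.H6xPCDesc.nonempty_lbc_iso_extD (A := A) (B := B) ω
  exact isDualizing_of_iso e.symm (isDualizing_extD_of_smooth ω hω)

end Groth.Agent.Lib.H6xGor
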