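import Mathlib
import Groth.Agent.Lib.H6xShtA
import Groth.Agent.Lib.H6xHasLDerRing
set_option backward.isDefEq.respectTransparency.types false

/-!
# helper6: derived base change along composites and involutions; the swap lemma for `A ⊗_R A`
-/

set_option autoImplicit false
set_option linter.style.haveILetI false
universe u

namespace Groth.Agent.Lib.H6xSht

open CategoryTheory CategoryTheory.Limits DerivedCategory
open Groth.Agent.Lib.H6xShk
attribute [local instance] HasDerivedCategory.standard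

section

variable {A B C : Type u} [CommRing A] [CommRing B] [CommRing C]

/-- derived base change along a composite -/
theorem nonempty_lbc_comp (f : A →+* B) (g : B →+* C) (h : A →+* C) (hh : h = g.comp f)
    [DRing.HasLBaseChange f] [DRing.HasLBaseChange g] [DRing.HasLBaseChange h] :
    Nonempty (DRing.LBaseChange f ⋙ DRing.LBaseChange g ≅ DRing.LBaseChange h) := by
  subst hh
  obtain ⟨a1, -, -⟩ := Groth.Agent.Lib.H6xBC.exists_adj f
  obtain ⟨a2, -, -⟩ := Groth.Agent.Lib.H6xBC.exists_adj g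
  obtain ⟨a3, -, -⟩ := Groth.Agent.Lib.H6xBC.exists_adj (g.comp f)
  exact ⟨((a1.comp a2).ofNatIsoRight (restrictDComp f g)).leftAdjointUniq a3⟩

/-- the swap lemma: for an involution `τ` of `B` exchanging `ι₁, ι₂ : A → B` and compatible with
`μ : B → A`, `Rμ (L_{ι₁} X) ≅ Rμ (L_{ι₂} X)` -/
theorem nonempty_rightAdjoint_lbc_swap (ι₁ ι₂ : A →+* B) (τ : B →+* B) (μ : B →+* A)
    (h1 : τ.comp ι₁ = ι₂) (h2 : τ.comp τ = RingHom.id B) (h3 : μ.comp τ = μ)
    [DRing.HasLBaseChange ι₁] [DRing.HasLBaseChange ι₂]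
    (Rμ : Dual.D B ⥤ Dual.D A) (adjμ : DRing.restrictD μ ⊣ Rμ) (X : Dual.D A) :
    Nonempty (Rμ.obj ((DRing.LBaseChange ι₁).obj X) ≅ Rμ.obj ((DRing.LBaseChange ι₂).obj X)) := by
  haveI : DRing.HasLBaseChange τ := Groth.Agent.Lib.H6xHasLDerRing.hasLBaseChange τ
  let E : Dual.D B ≌ Dual.D B :=
    CategoryTheory.Equivalence.mk (DRing.restrictD τ) (DRing.restrictD τ)
      ((restrictDId (A := B)).symm ≪≫ (restrictDCongr h2).symm ≪≫ (restrictDComp τ τ).symm)
      (restrictDComp τ τ ≪≫ restrictDCongr h2 ≪≫ restrictDId (A := B))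
  obtain ⟨aτ, -, -⟩ := Groth.Agent.Lib.H6xBC.exists_adj τ
  let e0 : DRing.LBaseChange τ ≅ DRing.restrictD τ := aτ.leftAdjointUniq E.toAdjunction
  obtain ⟨e1⟩ := nonempty_lbc_comp ι₁ τ ι₂ h1.symm
  let e2 : DRing.restrictD τ ⋙ Rμ ≅ Rμ :=
    ((adjμ.comp E.toAdjunction).ofNatIsoLeft
      (restrictDComp τ μ ≪≫ restrictDCongr h3)).rightAdjointUniq adjμ
  exact ⟨(e2.app _).symm ≪≫ Rμ.mapIso ((e0.app _).symm ≪≫ e1.app X)⟩

end

end Groth.Agent.Lib.H6xSht
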