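import Mathlib
import Groth.Agent.Lib.H6xBrgA
import Groth.Agent.Lib.H6xBrgE
import Groth.Agent.Lib.H6xBrgF
import Groth.Agent.Lib.H6xBrgH
import Groth.Agent.Lib.H6xGorF
import Groth.Agent.Lib.H6xShtD
import Groth.Agent.Lib.H6xHasLDerRing
import Groth.Prelude.Def_DualSh
set_option backward.isDefEq.respectTransparency.types false

/-!
# helper6: `φ^!(K) ≅ RHom_B(Lφ^* RHom_A(K, ω_A), φ^! ω_A)` for a finite type map `φ : A → B` of
Noetherian rings, `ω_A` dualizing and `K` with finite cohomology modules (S8956)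
-/

set_option autoImplicit false
set_option linter.style.haveILetI false
set_option maxHeartbeats 800000
universe u
open CategoryTheory CategoryTheory.Limits MonoidalCategory Pretriangulated
attribute [local instance] HasDerivedCategory.standard

namespace Groth.Agent.Lib.H6xBrg

open DerivedCategory DTen Groth.Agent.Lib.H6xDTen Groth.Agent.Lib.H6xPCev Groth.Agent.Lib.H6xPF
  Groth.Agent.Lib.H6xTB

/-- **S8956** -/
theorem shriekVia_iso_dual_baseChange_dual (A B : Type u) [CommRing A] [CommRing B]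
    [IsNoetherianRing A] [Algebra A B] (n : ℕ)
    (ψ : MvPolynomial (Fin n) A →ₐ[A] B)
    [DRing.HasLBaseChange (algebraMap A (MvPolynomial (Fin n) A))]
    (Rψ : Dual.D (MvPolynomial (Fin n) A) ⥤ Dual.D B)
    (adj : DRing.restrictD ψ.toRingHom ⊣ Rψ) [DRing.HasLBaseChange (algebraMap A B)]
    (ω : Dual.D A) (hω : Dual.IsDualizing A ω) (K : DRing.Cx A) [DRing.HasRHomCx K]
    (hK : ∀ i : ℤ, Module.Finite A (Dual.HD A (DRing.toD K) i)) (E : DRing.Cx B)
    [DRing.HasRHomCx E]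
    (hE : Nonempty (DRing.toD E ≅
      (DRing.LBaseChange (algebraMap A B)).obj ((DRing.RHomCx K).obj ω))) :
    Nonempty (Dual2.shriekVia n Rψ (DRing.toD K) ≅
      (DRing.RHomCx E).obj (Dual2.shriekVia n Rψ ω)) := by
  haveI : HasLTen A := Groth.Agent.Lib.H6xUnc.hasLTen _
  haveI : HasLTen₃ A := Groth.Agent.Lib.H6xUnc.hasLTen₃ _
  haveI : IsSymMonoidal A := Groth.Agent.Lib.H6xUnc.isSymMonoidal _
  haveI : HasRHom A := Groth.Agent.Lib.H6xRH.hasRHom
  haveI : HasLTen (MvPolynomial (Fin n) A) := Groth.Agent.Lib.H6xUnc.hasLTen _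
  haveI : HasLTen₃ (MvPolynomial (Fin n) A) := Groth.Agent.Lib.H6xUnc.hasLTen₃ _
  haveI : IsSymMonoidal (MvPolynomial (Fin n) A) := Groth.Agent.Lib.H6xUnc.isSymMonoidal _
  haveI : HasRHom (MvPolynomial (Fin n) A) := Groth.Agent.Lib.H6xRH.hasRHom
  haveI : HasLTen B := Groth.Agent.Lib.H6xUnc.hasLTen _
  haveI : HasLTen₃ B := Groth.Agent.Lib.H6xUnc.hasLTen₃ _
  haveI : IsSymMonoidal B := Groth.Agent.Lib.H6xUnc.isSymMonoidal _
  haveI : HasRHom B := Groth.Agent.Lib.H6xRH.hasRHom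
  haveI : HasResTen (algebraMap A (MvPolynomial (Fin n) A)) := hasResTen _
  haveI : ResLegIso (algebraMap A (MvPolynomial (Fin n) A)) := resLegIso _
  haveI : HasResTen ψ.toRingHom := hasResTen _
  haveI : ResLegIso ψ.toRingHom := resLegIso _
  haveI : DRing.HasLBaseChange ψ.toRingHom := Groth.Agent.Lib.H6xHasLDerRing.hasLBaseChange _
  haveI : Algebra.Smooth A (MvPolynomial (Fin n) A) := {}
  obtain ⟨eE⟩ := hE
  -- the dual of `K`
  obtain ⟨e1⟩ := nonempty_RHomCx_iso_RHomR K ω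
  have hMfin := finite_HD_RHom ω hω (Q.obj K) hK
  haveI := isIso_evalHom_of_isDualizing ω hω (Q.obj K) hK
  haveI := isIso_cU ω hω
  let bid : (RHomR A ((RHomR A (Q.obj K)).obj ω)).obj ω ≅ Q.obj K :=
    (asIso (evalHom (Q.obj K) ω ω)).symm ≪≫ selfTenIso ω (Q.obj K)
  -- base change to the polynomial ring
  have hωP := Groth.Agent.Lib.H6xGor.isDualizing_LBaseChange_of_smooth
    (B := MvPolynomial (Fin n) A) ω hω
  obtain ⟨a'', b'', -, -, hZ⟩ := exists_injAmp_of_isDualizing _ hωP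
  obtain ⟨e2⟩ := nonempty_lbc_rhom_iso (P := MvPolynomial (Fin n) A) ω hω hZ
    ((RHomR A (Q.obj K)).obj ω) hMfin
  -- the finite part
  obtain ⟨adjLψ, -, -⟩ := Groth.Agent.Lib.H6xBC.exists_adj ψ.toRingHom
  obtain ⟨e3⟩ := nonempty_rightAdjoint_rhom_iso ψ.toRingHom adjLψ adj
    ((DRing.LBaseChange (algebraMap A (MvPolynomial (Fin n) A))).obj ((RHomR A (Q.obj K)).obj ω))
    ((DRing.LBaseChange (algebraMap A (MvPolynomial (Fin n) A))).obj ω)
  obtain ⟨c⟩ := Groth.Agent.Lib.H6xSht.nonempty_lbc_comp (algebraMap A (MvPolynomial (Fin n) A))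
    ψ.toRingHom (algebraMap A B) ψ.comp_algebraMap.symm
  let eE' : Q.obj E ≅ (DRing.LBaseChange ψ.toRingHom).obj
      ((DRing.LBaseChange (algebraMap A (MvPolynomial (Fin n) A))).obj
        ((RHomR A (Q.obj K)).obj ω)) :=
    eE ≪≫ (DRing.LBaseChange (algebraMap A B)).mapIso e1 ≪≫ (c.app _).symm
  obtain ⟨e5⟩ := nonempty_RHomCx_iso_RHomR_of_iso E eE' (Dual2.shriekVia n Rψ ω)
  obtain ⟨e6⟩ := nonempty_rhom_shift_iso
    ((DRing.LBaseChange ψ.toRingHom).obj
      ((DRing.LBaseChange (algebraMap A (MvPolynomial (Fin n) A))).obj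
        ((RHomR A (Q.obj K)).obj ω)))
    (Rψ.obj ((DRing.LBaseChange (algebraMap A (MvPolynomial (Fin n) A))).obj ω)) (n : ℤ)
  exact ⟨(shiftFunctor (Dual.D B) (n : ℤ)).mapIso
      (Rψ.mapIso ((DRing.LBaseChange (algebraMap A (MvPolynomial (Fin n) A))).mapIso bid.symm ≪≫
        e2) ≪≫ e3) ≪≫ e6.symm ≪≫ e5.symm⟩

end Groth.Agent.Lib.H6xBrg
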