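/-
Minimal numbers of generators under faithfully flat local extensions, via Nakayama.
-/
import Mathlib

set_option autoImplicit false

noncomputable section

namespace Groth.Agent.Lib.H6xCI

universe u v w

open IsLocalRing

section nakayama

variable {B : Type u} [CommRing B] [IsLocalRing B] {M : Type v} [AddCommGroup M] [Module B M]

/-- From a generating family of a finitely generated module over a local ring one can extract a
generating subfamily with `μ` elements. -/
theorem exists_finset_span_eq {ι : Type w} (v : ι → M) (N : Submodule B M) (fg : N.FG)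
    (hv : Submodule.span B (Set.range v) = N) :
    ∃ s : Finset ι, s.card = N.spanFinrank ∧ Submodule.span B (v '' (s : Set ι)) = N := by
  classical
  letI : Field (B ⧸ maximalIdeal B) := Ideal.Quotient.field (maximalIdeal B)
  haveI : Module.Finite B ↥N := Module.Finite.iff_fg.mpr fg
  have hmem : ∀ i, v i ∈ N := fun i => hv ▸ Submodule.subset_span ⟨i, rfl⟩
  let vt : ι → ↥N := fun i => ⟨v i, hmem i⟩
  have hvt : Submodule.span B (Set.range vt) = ⊤ := by
    apply Submodule.map_injective_of_injective N.injective_subtype
    rw [Submodule.map_span, ← Set.range_comp, Submodule.map_top, Submodule.range_subtype]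
    exact hv
  let Q := ↥N ⧸ (maximalIdeal B • (⊤ : Submodule B ↥N))
  let w : ι → Q := fun i => Submodule.Quotient.mk (vt i)
  obtain ⟨κ, a, ha, hspan, hli⟩ := exists_linearIndependent' (B ⧸ maximalIdeal B) w
  have hwB : Submodule.span B (Set.range w) = ⊤ := by
    have : Set.range w = (Submodule.mkQ (maximalIdeal B • (⊤ : Submodule B ↥N))) '' Set.range vt := by
      rw [← Set.range_comp]
      rfl
    rw [this, ← Submodule.map_span, hvt, Submodule.map_top, Submodule.range_mkQ]
  have hwk : Submodule.span (B ⧸ maximalIdeal B) (Set.range w) = ⊤ := by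
    rw [← Submodule.restrictScalars_eq_top_iff B,
      Submodule.restrictScalars_span B (B ⧸ maximalIdeal B) Ideal.Quotient.mk_surjective]
    exact hwB
  rw [hwk] at hspan
  let bs : Module.Basis κ (B ⧸ maximalIdeal B) Q := Module.Basis.mk hli (le_of_eq hspan.symm)
  haveI : Module.Finite (B ⧸ maximalIdeal B) Q := Module.Finite.of_restrictScalars_finite B _ _
  haveI : Fintype κ := FiniteDimensional.fintypeBasisIndex bs
  refine ⟨Finset.univ.image a, ?_, ?_⟩
  · rw [Finset.card_image_of_injective _ ha, Finset.card_univ,
      IsLocalRing.spanFinrank_eq_finrank_quotient N fg, Module.finrank_eq_card_basis bs]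
  · have h1 : Submodule.span B (Set.range (vt ∘ a)) = ⊤ := by
      rw [← IsLocalRing.map_mkQ_eq_top, Submodule.map_span, ← Set.range_comp]
      have h2 : Submodule.span (B ⧸ maximalIdeal B) (Set.range (w ∘ a)) = ⊤ := hspan
      rw [← Submodule.restrictScalars_eq_top_iff B,
        Submodule.restrictScalars_span B (B ⧸ maximalIdeal B) Ideal.Quotient.mk_surjective] at h2
      exact h2
    have h3 : v '' ((Finset.univ.image a : Finset ι) : Set ι) = N.subtype '' Set.range (vt ∘ a) := by
      rw [← Set.range_comp]
      ext x
      simp only [Finset.coe_image, Finset.coe_univ, Set.image_univ, Set.mem_image, Set.mem_range,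
        exists_exists_eq_and, Function.comp_apply]
      rfl
    rw [h3, ← Submodule.map_span, h1, Submodule.map_top, Submodule.range_subtype]

end nakayama

section descent

variable {A : Type u} [CommRing A] {B : Type v} [CommRing B] [IsLocalRing B] [Algebra A B]
  [Module.FaithfullyFlat A B]

/-- `μ_A(I) ≤ μ_B(IB)` for a faithfully flat extension with `B` local. -/
theorem spanFinrank_le_spanFinrank_map (I : Ideal A) (fg : I.FG) :
    I.spanFinrank ≤ (I.map (algebraMap A B)).spanFinrank := by
  classical
  let v : ↥I → B := fun x => algebraMap A B x.1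
  have hv : Submodule.span B (Set.range v) = I.map (algebraMap A B) := by
    have : Set.range v = algebraMap A B '' (I : Set A) := by
      ext b
      constructor
      · rintro ⟨x, rfl⟩
        exact ⟨x.1, x.2, rfl⟩
      · rintro ⟨a, ha, rfl⟩
        exact ⟨⟨a, ha⟩, rfl⟩
    rw [this]
    rfl
  obtain ⟨s, hs1, hs2⟩ := exists_finset_span_eq v (I.map (algebraMap A B)) (fg.map _) hv
  let t : Finset A := s.image Subtype.val
  have ht : Ideal.span (t : Set A) = I := by
    have hle : Ideal.span (t : Set A) ≤ I := by
      rw [Ideal.span_le]
      intro a ha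
      rw [Finset.mem_coe, Finset.mem_image] at ha
      obtain ⟨x, -, rfl⟩ := ha
      exact x.2
    have hmap : (Ideal.span (t : Set A)).map (algebraMap A B) = I.map (algebraMap A B) := by
      rw [Ideal.map_span, ← hs2]
      congr 1
      ext b
      simp only [t, Finset.coe_image, Set.mem_image, Finset.mem_coe, exists_exists_and_eq_and]
      rfl
    rw [← Ideal.comap_map_eq_self_of_faithfullyFlat (B := B) (Ideal.span (t : Set A)), hmap,
      Ideal.comap_map_eq_self_of_faithfullyFlat]
  calc I.spanFinrank = (Ideal.span (t : Set A)).spanFinrank := by rw [ht]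
    _ ≤ (t : Set A).ncard := Submodule.spanFinrank_span_le_ncard_of_finite (Finset.finite_toSet t)
    _ = t.card := Set.ncard_coe_finset t
    _ ≤ s.card := Finset.card_image_le
    _ = _ := hs1

end descent

end Groth.Agent.Lib.H6xCI
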