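/-
Complete intersections `R/I` with `R` regular local: `R/I` is a complete intersection iff `I` is
generated by a regular sequence.
-/
import Mathlib
import Groth.Agent.Lib.H6xCIE
import Groth.Agent.Lib.H6xCIF
import Groth.Agent.Lib.Helper19ComplDim
import Groth.Agent.Lib.Helper28ComplQuot
import Groth.Prelude.Def_Pi1

set_option autoImplicit false

noncomputable section

namespace Groth.Agent.Lib.H6xCI

universe u

open IsLocalRing RingTheory.Sequence

section complPres

variable {R : Type u} [CommRing R] [IsLocalRing R] [IsNoetherianRing R] (I : Ideal R)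
  [IsLocalRing (R ⧸ I)]

/-- The presentation `R̂ ↠ (R/I)^` with kernel `I R̂`. -/
theorem exists_completion_presentation :
    ∃ φ : AdicCompletion (maximalIdeal R) R →+* AdicCompletion (maximalIdeal (R ⧸ I)) (R ⧸ I),
      Function.Surjective φ ∧
        RingHom.ker φ = I.map (algebraMap R (AdicCompletion (maximalIdeal R) R)) := by
  obtain ⟨e, -⟩ := Groth.Agent.Lib.Helper28.exists_ringEquiv_adicCompletion_quotient
    (maximalIdeal R) I
  have h : (maximalIdeal R).map (Ideal.Quotient.mk I) = maximalIdeal (R ⧸ I) :=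
    map_maximalIdeal_of_surjective (Ideal.Quotient.mk I) Ideal.Quotient.mk_surjective
  rw [h] at e
  refine ⟨(e : (AdicCompletion (maximalIdeal R) R ⧸
      I.map (algebraMap R (AdicCompletion (maximalIdeal R) R))) →+*
        AdicCompletion (maximalIdeal (R ⧸ I)) (R ⧸ I)).comp (Ideal.Quotient.mk _),
    e.surjective.comp Ideal.Quotient.mk_surjective, ?_⟩
  ext b
  rw [RingHom.mem_ker]
  show e (Ideal.Quotient.mk _ b) = 0 ↔ _
  rw [map_eq_zero_iff _ e.injective, Ideal.Quotient.eq_zero_iff_mem]

end complPres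

theorem exists_natCast_ringKrullDim (S : Type u) [CommRing S] [IsNoetherianRing S]
    [IsLocalRing S] : ∃ n : ℕ, ringKrullDim S = n := by
  have hfin : ringKrullDim S ≠ ⊤ := ringKrullDim_ne_top
  have hbot : ringKrullDim S ≠ ⊥ := ringKrullDim_ne_bot
  obtain ⟨x, hx⟩ := WithBot.ne_bot_iff_exists.mp hbot
  rw [← hx] at hfin ⊢
  have hx' : x ≠ ⊤ := fun h => hfin (by rw [h]; rfl)
  obtain ⟨n, hn⟩ := ENat.ne_top_iff_exists.mp hx'
  exact ⟨n, by rw [← hn]; rfl⟩

section main

variable {R : Type u} [CommRing R] [IsRegularLocalRing R] (I : Ideal R) [IsLocalRing (R ⧸ I)]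

theorem ci_quotient_iff :
    Pi1.IsCompleteIntersection (R ⧸ I) ↔
      ∃ rs : List R, Ideal.ofList rs = I ∧ IsRegular R rs := by
  haveI : IsRegularLocalRing (AdicCompletion (maximalIdeal R) R) :=
    (Groth.Agent.Lib.Helper19.isRegularLocalRing_adicCompletion_iff R).mp inferInstance
  haveI : Module.FaithfullyFlat R (AdicCompletion (maximalIdeal R) R) :=
    Module.FaithfullyFlat.of_flat_of_isLocalHom
  obtain ⟨φ, hφ, hker⟩ := exists_completion_presentation I
  obtain ⟨e, he⟩ := exists_natCast_ringKrullDim R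
  obtain ⟨d, hd⟩ := exists_natCast_ringKrullDim (R ⧸ I)
  have hdc : ringKrullDim (AdicCompletion (maximalIdeal (R ⧸ I)) (R ⧸ I)) = d := by
    rw [Groth.Agent.Lib.Helper19.ringKrullDim_adicCompletion_maximalIdeal, hd]
  have hec : ringKrullDim (AdicCompletion (maximalIdeal R) R) = e := by
    rw [Groth.Agent.Lib.Helper19.ringKrullDim_adicCompletion_maximalIdeal, he]
  have hkerq : RingHom.ker (Ideal.Quotient.mk I) = I := Ideal.mk_ker
  constructor
  · rintro ⟨B', _, _, rs', hmem', hreg', ⟨eq'⟩⟩
    let φ' : B' →+* AdicCompletion (maximalIdeal (R ⧸ I)) (R ⧸ I) :=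
      (eq'.symm : B' ⧸ Ideal.span {r | r ∈ rs'} →+* _).comp (Ideal.Quotient.mk _)
    have hφ' : Function.Surjective φ' := eq'.symm.surjective.comp Ideal.Quotient.mk_surjective
    have hker' : RingHom.ker φ' = Ideal.ofList rs' := by
      ext b
      rw [RingHom.mem_ker]
      show eq'.symm (Ideal.Quotient.mk _ b) = 0 ↔ _
      rw [map_eq_zero_iff _ eq'.symm.injective, Ideal.Quotient.eq_zero_iff_mem]
    obtain ⟨e', he'⟩ := exists_natCast_ringKrullDim B'
    have hinv := invariance φ hφ φ' hφ' e e' hec he'
    have heq := dim_eq_of_isRegular φ' hφ' d e' hdc he' rs' hker'.symm hreg'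
    have hle := dim_le (Ideal.Quotient.mk I) Ideal.Quotient.mk_surjective d e hd he
    have hdesc := spanFinrank_le_spanFinrank_map (B := AdicCompletion (maximalIdeal R) R) I
      (IsNoetherian.noetherian I)
    rw [hker] at hinv
    rw [hkerq] at hle
    have := exists_isRegular_of_dim_eq (Ideal.Quotient.mk I) Ideal.Quotient.mk_surjective d e hd he
      (by rw [hkerq]; omega)
    rw [hkerq] at this
    exact this
  · rintro ⟨rs, hrs, hreg⟩
    have hreg' : IsRegular (AdicCompletion (maximalIdeal R) R)
        (rs.map (algebraMap R (AdicCompletion (maximalIdeal R) R))) :=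
      IsRegular.of_faithfullyFlat hreg
    have hspan : Ideal.span {r | r ∈ rs.map (algebraMap R (AdicCompletion (maximalIdeal R) R))} =
        RingHom.ker φ := by
      rw [hker, ← hrs]
      exact (Ideal.map_ofList _ rs).symm
    refine ⟨AdicCompletion (maximalIdeal R) R, inferInstance, inferInstance,
      rs.map (algebraMap R (AdicCompletion (maximalIdeal R) R)), ?_, hreg', ?_⟩
    · intro r hr
      refine ker_le_maximalIdeal φ ?_
      rw [← hspan]
      exact Ideal.subset_span hr
    · exact ⟨(RingHom.quotientKerEquivOfSurjective hφ).symm.trans (Ideal.quotEquivOfEq hspan.symm)⟩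

end main

end Groth.Agent.Lib.H6xCI
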