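/-
Spreading out `H_1`-regularity of a finite family from a localization to a neighbourhood.
-/
import Mathlib
import Groth.Agent.Lib.H6xCIC
import Groth.Agent.Lib.H9KoszulH1
import Groth.Agent.Lib.H9RegImmFlatBC
import Groth.Agent.Lib.Helper5RLR2
import Groth.Agent.S15821
import Groth.Agent.S2103
import Groth.Agent.S5803

set_option autoImplicit false

noncomputable section

namespace Groth.Agent.Lib.H6xCI

universe u

open RingTheory.Sequence

section h1reg

theorem isH1Regular_iff {R : Type u} [CommRing R] {c : ℕ} (y : Fin c → R) :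
    CAlgX.IsH1Regular y ↔ Rel y ≤ Triv y := by
  constructor
  · intro h v hv
    rw [mem_rel] at hv
    exact h v hv
  · intro h v hv
    exact h ((mem_rel y v).mpr hv)

theorem isH1Regular_of_isWeaklyRegular_ofFn {R : Type u} [CommRing R] {c : ℕ} (y : Fin c → R)
    (h : IsWeaklyRegular R (List.ofFn y)) : CAlgX.IsH1Regular y := by
  have hK := (Groth.Agent.S15821.result R (List.ofFn y) h).1
  have hH1 := Groth.Agent.Lib.H9KoszulH1.isH1Regular_of_isKoszulRegularSeq (List.ofFn y) hK
  have hc : c = (List.ofFn y).length := (List.length_ofFn).symm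
  have h2 := Groth.Agent.Lib.H9RegImmFlatBC.isH1Regular_cast hc _ hH1
  convert h2 using 1
  funext i
  simp

theorem isRegular_ofFn_of_isH1Regular {A : Type u} [CommRing A] [IsNoetherianRing A]
    [IsLocalRing A] {c : ℕ} (y : Fin c → A) (h : CAlgX.IsH1Regular y)
    (hne : Ideal.span (Set.range y) ≠ ⊤) : IsRegular A (List.ofFn y) := by
  have hq := Groth.Agent.S2103.result y h
  have hmem : ∀ i, y i ∈ Ring.jacobson A := by
    intro i
    rw [IsLocalRing.ringJacobson_eq_maximalIdeal]
    exact IsLocalRing.le_maximalIdeal hne (Ideal.subset_span ⟨i, rfl⟩)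
  refine ⟨Groth.Agent.S5803.result A c y hmem hq, ?_⟩
  rw [smul_eq_mul, Ideal.mul_top, Groth.Agent.Lib.Helper5.ofList_ofFn_eq_span_range]
  exact hne.symm

end h1reg

section loc

variable {B : Type u} [CommRing B] (M : Submonoid B) {S : Type u} [CommRing S] [Algebra B S]
  [IsLocalization M S] {ι : Type} [Fintype ι] [DecidableEq ι] (f : ι → B)

omit [IsLocalization M S] in
theorem piMk_mem_triv (v : ι → B) (hv : v ∈ Triv f) :
    piMk (algebraMap B S) v ∈ Triv (ybar (algebraMap B S) f) := by
  have hT : Triv f = Submodule.span B {v | ∃ i j : ι, v = trivElt f i j} := rfl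
  rw [hT] at hv
  refine Submodule.span_induction ?_ ?_ ?_ ?_ hv
  · rintro _ ⟨i, j, rfl⟩
    rw [piMk_trivElt]
    exact trivElt_mem_triv _ i j
  · rw [map_zero]
    exact zero_mem _
  · intro x x' _ _ hx hx'
    rw [map_add]
    exact add_mem hx hx'
  · intro r x _ hx
    rw [(piMk (algebraMap B S)).map_smulₛₗ r x]
    exact Submodule.smul_mem _ _ hx

omit [IsLocalization M S] in
theorem piMk_mem_rel (v : ι → B) (hv : v ∈ Rel f) :
    piMk (algebraMap B S) v ∈ Rel (ybar (algebraMap B S) f) := by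
  unfold Rel at hv ⊢
  rw [LinearMap.mem_ker] at hv ⊢
  rw [relMap_piMk, hv, map_zero]

include M in
theorem exists_smul_eq_piMk (w : ι → S) (hw : w ∈ Triv (ybar (algebraMap B S) f)) :
    ∃ u ∈ M, ∃ τ ∈ Triv f, algebraMap B S u • w = piMk (algebraMap B S) τ := by
  have hT : Triv (ybar (algebraMap B S) f) =
      Submodule.span S {v | ∃ i j : ι, v = trivElt (ybar (algebraMap B S) f) i j} := rfl
  rw [hT] at hw
  refine Submodule.span_induction ?_ ?_ ?_ ?_ hw
  · rintro _ ⟨i, j, rfl⟩
    refine ⟨1, M.one_mem, trivElt f i j, trivElt_mem_triv f i j, ?_⟩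
    rw [map_one, one_smul, piMk_trivElt]
  · exact ⟨1, M.one_mem, 0, zero_mem _, by rw [smul_zero, map_zero]⟩
  · rintro x x' _ _ ⟨u, hu, τ, hτ, h⟩ ⟨u', hu', τ', hτ', h'⟩
    refine ⟨u * u', M.mul_mem hu hu', u' • τ + u • τ',
      add_mem (Submodule.smul_mem _ _ hτ) (Submodule.smul_mem _ _ hτ'), ?_⟩
    rw [map_add, (piMk (algebraMap B S)).map_smulₛₗ, (piMk (algebraMap B S)).map_smulₛₗ, ← h, ← h',
      smul_add, map_mul, smul_smul, smul_smul, mul_comm (algebraMap B S u') (algebraMap B S u)]
  · rintro c x _ ⟨u, hu, τ, hτ, h⟩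
    obtain ⟨b, m, rfl⟩ := IsLocalization.exists_mk'_eq M c
    refine ⟨u * m, M.mul_mem hu m.2, b • τ, Submodule.smul_mem _ _ hτ, ?_⟩
    rw [(piMk (algebraMap B S)).map_smulₛₗ, ← h, smul_smul, smul_smul, map_mul]
    congr 1
    rw [mul_assoc, IsLocalization.mk'_spec' S b m, mul_comm]

include M in
/-- A vector whose image is a trivial relation becomes a trivial relation after multiplication by
an element of `M`. -/
theorem exists_smul_mem_triv (v : ι → B)
    (hv : piMk (algebraMap B S) v ∈ Triv (ybar (algebraMap B S) f)) :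
    ∃ t ∈ M, t • v ∈ Triv f := by
  classical
  obtain ⟨u, hu, τ, hτ, h⟩ := exists_smul_eq_piMk M f _ hv
  have h0 : ∀ k, ∃ m : M, (m : B) * (u * v k - τ k) = 0 := by
    intro k
    rw [← IsLocalization.map_eq_zero_iff M S, map_sub, map_mul, sub_eq_zero]
    have := congrFun h k
    exact this
  choose m hm using h0
  refine ⟨(∏ k, (m k : B)) * u, M.mul_mem (Submonoid.prod_mem _ fun k _ => (m k).2) hu, ?_⟩
  have : ((∏ k, (m k : B)) * u) • v = (∏ k, (m k : B)) • τ := by
    funext k
    show (∏ k, (m k : B)) * u * v k = (∏ k, (m k : B)) * τ k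
    have h1 : (∏ k, (m k : B)) = (∏ j ∈ Finset.univ.erase k, (m j : B)) * m k := by
      rw [Finset.prod_erase_mul _ _ (Finset.mem_univ k)]
    have h2 := hm k
    have h3 : (m k : B) * (u * v k) = (m k : B) * τ k := by
      rw [mul_sub] at h2
      exact sub_eq_zero.mp h2
    rw [h1, mul_assoc, mul_assoc, h3, ← mul_assoc]
  rw [this]
  exact Submodule.smul_mem _ _ hτ

include M in
/-- If the localized family is `H_1`-regular, a single element of `M` multiplies all relations
into the trivial relations (Noetherian case). -/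
theorem exists_smul_rel_le [IsNoetherianRing B]
    (hreg : Rel (ybar (algebraMap B S) f) ≤ Triv (ybar (algebraMap B S) f)) :
    ∃ t ∈ M, ∀ v ∈ Rel f, t • v ∈ Triv f := by
  classical
  obtain ⟨G, hG⟩ : (Rel f).FG := IsNoetherian.noetherian _
  have key : ∀ G' : Finset (ι → B), (↑G' : Set (ι → B)) ⊆ Rel f →
      ∃ t ∈ M, ∀ ρ ∈ G', t • ρ ∈ Triv f := by
    intro G'
    refine Finset.induction_on G' ?_ ?_
    · intro _
      exact ⟨1, M.one_mem, fun ρ hρ => absurd hρ (Finset.notMem_empty ρ)⟩
    · intro ρ G'' _ ih hsub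
      obtain ⟨t, ht, h⟩ := ih (fun x hx => hsub (Finset.mem_insert_of_mem hx))
      have hρ : ρ ∈ Rel f := hsub (Finset.mem_insert_self ρ G'')
      obtain ⟨t', ht', h'⟩ := exists_smul_mem_triv M f ρ (hreg (piMk_mem_rel f ρ hρ))
      refine ⟨t' * t, M.mul_mem ht' ht, ?_⟩
      intro x hx
      rcases Finset.mem_insert.mp hx with rfl | hx
      · rw [mul_comm, mul_smul]
        exact Submodule.smul_mem _ _ h'
      · rw [mul_smul]
        exact Submodule.smul_mem _ _ (h x hx)
  obtain ⟨t, ht, h⟩ := key G (by rw [← hG]; exact Submodule.subset_span)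
  refine ⟨t, ht, ?_⟩
  intro v hv
  rw [← hG] at hv
  refine Submodule.span_induction ?_ ?_ ?_ ?_ hv
  · intro x hx
    exact h x hx
  · rw [smul_zero]
    exact zero_mem _
  · intro x y _ _ hx hy
    rw [smul_add]
    exact add_mem hx hy
  · intro r x _ hx
    rw [smul_comm]
    exact Submodule.smul_mem _ _ hx

include M in
/-- Conversely, if some `t ∈ M` multiplies all relations into the trivial ones, the localized
family is `H_1`-regular. -/
theorem rel_le_triv_of_smul_rel_le (t : B) (ht : t ∈ M) (h : ∀ v ∈ Rel f, t • v ∈ Triv f) :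
    Rel (ybar (algebraMap B S) f) ≤ Triv (ybar (algebraMap B S) f) := by
  classical
  intro a' ha'
  obtain ⟨u, hu⟩ := IsLocalization.exist_integer_multiples M (Finset.univ : Finset ι) a'
  choose a haeq using fun k => hu k (Finset.mem_univ k)
  have h1 : algebraMap B S u • a' = piMk (algebraMap B S) a := by
    funext k
    rw [piMk_apply, haeq k]
    show algebraMap B S u * a' k = (u : B) • a' k
    rw [Algebra.smul_def]
  have h2 : algebraMap B S (relMap f a) = 0 := by
    rw [← relMap_piMk, ← h1, map_smul]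
    unfold Rel at ha'
    rw [LinearMap.mem_ker] at ha'
    rw [ha', smul_zero]
  obtain ⟨m, hm⟩ := (IsLocalization.map_eq_zero_iff M S _).mp h2
  have h3 : (m : B) • a ∈ Rel f := by
    unfold Rel
    rw [LinearMap.mem_ker, map_smul, smul_eq_mul, hm]
  have h4 := piMk_mem_triv (S := S) f _ (h _ h3)
  rw [(piMk (algebraMap B S)).map_smulₛₗ, (piMk (algebraMap B S)).map_smulₛₗ, ← h1, smul_smul,
    smul_smul, ← map_mul, ← map_mul] at h4
  have hunit : IsUnit (algebraMap B S (t * m * u)) :=
    IsLocalization.map_units S ⟨t * m * u, M.mul_mem (M.mul_mem ht m.2) u.2⟩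
  obtain ⟨w, hw⟩ := hunit
  have h5 : a' = (↑w⁻¹ : S) • (algebraMap B S (t * m * u) • a') := by
    rw [smul_smul, ← hw, Units.inv_mul, one_smul]
  rw [h5]
  exact Submodule.smul_mem _ _ h4

end loc

end Groth.Agent.Lib.H6xCI
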