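/-
Openness of the complete intersection locus in `Spec (B/I)` for a regular ring `B`:
the commutative algebra.
-/
import Mathlib
import Groth.Agent.Lib.H6xCIG
import Groth.Agent.Lib.H6xCIH
import Groth.Agent.Lib.Helper28ComplQuot2

set_option autoImplicit false

noncomputable section

namespace Groth.Agent.Lib.H6xCI

universe u

open IsLocalRing RingTheory.Sequence

section pres

variable {B : Type u} [CommRing B] [IsRegularLocalRing B] {C : Type u} [CommRing C]
  [IsLocalRing C] (φ : B →+* C)

/-- Any generating list of `ker φ` of length `dim B - dim C` is a regular sequence. -/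
theorem isRegular_of_length_eq (hφ : Function.Surjective φ) (d e : ℕ)
    (hd : ringKrullDim C = d) (he : ringKrullDim B = e) (xs : List B)
    (hxs : Ideal.ofList xs = RingHom.ker φ) (h : e = d + xs.length) : IsRegular B xs := by
  have hmem : ∀ x ∈ xs, x ∈ maximalIdeal B := by
    intro x hx
    refine ker_le_maximalIdeal φ ?_
    rw [← hxs]
    exact Ideal.subset_span hx
  have hCM : LocCoh.IsCohenMacaulayLocalRing B :=
    Groth.Agent.Lib.Helper5.isCohenMacaulayLocalRing_of_isRegularLocalRing B
  have hCM' : LocCoh.IsCohenMacaulayModule B B := hCM.supportDim_eq_depth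
  have h2 : (Ideal.ofList xs • ⊤ : Submodule B B) = RingHom.ker φ := by
    rw [hxs]
    simp
  have hdim : Module.supportDim B (B ⧸ (Ideal.ofList xs • ⊤ : Submodule B B)) +
      (xs.length : ℕ) = Module.supportDim B B := by
    rw [Module.supportDim_self_eq_ringKrullDim, he, h2,
      Module.supportDim_quotient_eq_ringKrullDim,
      ringKrullDim_eq_of_ringEquiv (RingHom.quotientKerEquivOfSurjective hφ), hd, h]
    norm_cast
  have hw := Groth.Agent.Lib.Helper28.isWeaklyRegular_of_supportDim_add_length_eq xs B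
    hCM' hmem hdim
  refine ⟨hw, ?_⟩
  rw [h2]
  intro htop
  exact RingHom.ker_ne_top φ htop.symm

end pres

section ideal

variable {B : Type u} [CommRing B] (M : Submonoid B) {S : Type u} [CommRing S] [Algebra B S]
  [IsLocalization M S] {ι : Type} (f : ι → B)

omit [IsLocalization M S] in
theorem span_range_ybar' :
    Ideal.span (Set.range (ybar (algebraMap B S) f)) =
      Ideal.map (algebraMap B S) (Ideal.span (Set.range f)) := by
  rw [Ideal.map_span, ← Set.range_comp]
  rfl

include M in
theorem exists_mul_mem_span (I : Ideal B) (fgI : I.FG)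
    (hmap : I.map (algebraMap B S) ≤ Ideal.span (Set.range (ybar (algebraMap B S) f))) :
    ∃ s ∈ M, ∀ x ∈ I, s * x ∈ Ideal.span (Set.range f) := by
  classical
  rw [span_range_ybar'] at hmap
  obtain ⟨G, hG⟩ := fgI
  have key : ∀ G' : Finset B, (↑G' : Set B) ⊆ I →
      ∃ s ∈ M, ∀ x ∈ G', s * x ∈ Ideal.span (Set.range f) := by
    intro G'
    refine Finset.induction_on G' ?_ ?_
    · intro _
      exact ⟨1, M.one_mem, fun x hx => absurd hx (Finset.notMem_empty x)⟩
    · intro x G'' _ ih hsub
      obtain ⟨s, hs, h⟩ := ih (fun y hy => hsub (Finset.mem_insert_of_mem hy))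
      have hx : x ∈ I := hsub (Finset.mem_insert_self x G'')
      obtain ⟨s', hs', h'⟩ := (IsLocalization.algebraMap_mem_map_algebraMap_iff M S _ x).mp
        (hmap (Ideal.mem_map_of_mem _ hx))
      refine ⟨s * s', M.mul_mem hs hs', ?_⟩
      intro y hy
      rcases Finset.mem_insert.mp hy with rfl | hy
      · rw [mul_assoc]
        exact Ideal.mul_mem_left _ _ h'
      · rw [mul_comm s s', mul_assoc]
        exact Ideal.mul_mem_left _ _ (h y hy)
  obtain ⟨s, hs, h⟩ := key G (by rw [← hG]; exact Ideal.subset_span)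
  refine ⟨s, hs, ?_⟩
  intro x hx
  rw [← hG] at hx
  refine Submodule.span_induction ?_ ?_ ?_ ?_ hx
  · intro y hy
    exact h y hy
  · rw [mul_zero]
    exact zero_mem _
  · intro y z _ _ hy hz
    rw [mul_add]
    exact add_mem hy hz
  · intro r y _ hy
    rw [smul_eq_mul, mul_left_comm]
    exact Ideal.mul_mem_left _ _ hy

include M in
theorem span_range_ybar_eq_map (I : Ideal B) (hf : ∀ i, f i ∈ I) (s : B) (hs : s ∈ M)
    (h : ∀ x ∈ I, s * x ∈ Ideal.span (Set.range f)) :
    Ideal.span (Set.range (ybar (algebraMap B S) f)) = I.map (algebraMap B S) := by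
  rw [span_range_ybar']
  refine le_antisymm (Ideal.map_mono ?_) ?_
  · rw [Ideal.span_le]
    rintro _ ⟨i, rfl⟩
    exact hf i
  · rw [Ideal.map_le_iff_le_comap]
    intro x hx
    rw [Ideal.mem_comap]
    have h1 : algebraMap B S (s * x) ∈ (Ideal.span (Set.range f)).map (algebraMap B S) :=
      Ideal.mem_map_of_mem _ (h x hx)
    obtain ⟨w, hw⟩ := IsLocalization.map_units S ⟨s, hs⟩
    have h2 : algebraMap B S x = (↑w⁻¹ : S) * algebraMap B S (s * x) := by
      rw [map_mul, ← mul_assoc]
      show _ = (↑w⁻¹ : S) * algebraMap B S s * _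
      have : algebraMap B S s = w := hw.symm
      rw [this, Units.inv_mul, one_mul]
    rw [h2]
    exact Ideal.mul_mem_left _ _ h1

end ideal

section spread

variable {B : Type u} [CommRing B] [IsNoetherianRing B] (I : Ideal B)

/-- At `P`: if `I S` (with `S = B_P` regular local) is generated by a regular sequence, there
are a family `f` in `I` and elements `t, s ∉ P` with `t • Rel f ≤ Triv f` and `s I ≤ (f)`. -/
theorem exists_spreading_data (P : Ideal B) [P.IsPrime] (S : Type u) [CommRing S] [Algebra B S]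
    [IsLocalization.AtPrime S P] [IsRegularLocalRing S] (hIP : I ≤ P)
    (h : ∃ rs : List S, Ideal.ofList rs = I.map (algebraMap B S) ∧ IsRegular S rs) :
    ∃ (r : ℕ) (f : Fin r → B), (∀ i, f i ∈ I) ∧
      (∃ t ∈ P.primeCompl, ∀ v ∈ Rel f, t • v ∈ Triv f) ∧
      (∃ s ∈ P.primeCompl, ∀ x ∈ I, s * x ∈ Ideal.span (Set.range f)) := by
  classical
  obtain ⟨rs, hrs, hreg⟩ := h
  have hISne : I.map (algebraMap B S) ≠ ⊤ := by
    intro htop
    have h1 : I.map (algebraMap B S) ≤ maximalIdeal S := by
      rw [← IsLocalization.AtPrime.map_eq_maximalIdeal P S]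
      exact Ideal.map_mono hIP
    rw [htop] at h1
    exact (maximalIdeal.isMaximal S).ne_top (top_le_iff.mp h1)
  haveI : IsLocalRing (S ⧸ I.map (algebraMap B S)) :=
    Groth.Agent.Lib.Helper5.isLocalRing_quotient hISne
  have hker : RingHom.ker (Ideal.Quotient.mk (I.map (algebraMap B S))) = I.map (algebraMap B S) :=
    Ideal.mk_ker
  obtain ⟨e, he⟩ := exists_natCast_ringKrullDim S
  obtain ⟨d, hd⟩ := exists_natCast_ringKrullDim (S ⧸ I.map (algebraMap B S))
  have hdim := dim_eq_of_isRegular (Ideal.Quotient.mk (I.map (algebraMap B S)))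
    Ideal.Quotient.mk_surjective d e hd he rs (hrs.trans hker.symm) hreg
  rw [hker] at hdim
  -- generators from `I`
  let v : ↥I → S := fun x => algebraMap B S x.1
  have hv : Submodule.span S (Set.range v) = I.map (algebraMap B S) := by
    have : Set.range v = algebraMap B S '' (I : Set B) := by
      ext b
      constructor
      · rintro ⟨x, rfl⟩
        exact ⟨x.1, x.2, rfl⟩
      · rintro ⟨a, ha, rfl⟩
        exact ⟨⟨a, ha⟩, rfl⟩
    rw [this]
    rfl
  have fgI : I.FG := IsNoetherian.noetherian I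
  obtain ⟨s, hs1, hs2⟩ := exists_finset_span_eq v (I.map (algebraMap B S)) (fgI.map _) hv
  let f : Fin s.card → B := fun i => (s.equivFin.symm i).1.1
  have hfI : ∀ i, f i ∈ I := fun i => (s.equivFin.symm i).1.2
  have hrange : Set.range (ybar (algebraMap B S) f) = v '' (s : Set ↥I) := by
    ext b
    constructor
    · rintro ⟨i, rfl⟩
      exact ⟨(s.equivFin.symm i).1, (s.equivFin.symm i).2, rfl⟩
    · rintro ⟨x, hx, rfl⟩
      refine ⟨s.equivFin ⟨x, hx⟩, ?_⟩
      show algebraMap B S (s.equivFin.symm (s.equivFin ⟨x, hx⟩)).1.1 = _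
      rw [Equiv.symm_apply_apply]
  have hspan : Ideal.span (Set.range (ybar (algebraMap B S) f)) = I.map (algebraMap B S) := by
    rw [hrange]
    exact hs2
  have hxs : Ideal.ofList (List.ofFn (ybar (algebraMap B S) f)) =
      RingHom.ker (Ideal.Quotient.mk (I.map (algebraMap B S))) := by
    rw [Groth.Agent.Lib.Helper5.ofList_ofFn_eq_span_range, hspan, hker]
  have hregP : IsRegular S (List.ofFn (ybar (algebraMap B S) f)) :=
    isRegular_of_length_eq (Ideal.Quotient.mk (I.map (algebraMap B S)))
      Ideal.Quotient.mk_surjective d e hd he _ hxs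
      (by rw [List.length_ofFn, hs1]; exact hdim)
  have hH1 : Rel (ybar (algebraMap B S) f) ≤ Triv (ybar (algebraMap B S) f) :=
    (isH1Regular_iff _).mp (isH1Regular_of_isWeaklyRegular_ofFn _ hregP.toIsWeaklyRegular)
  exact ⟨s.card, f, hfI, exists_smul_rel_le P.primeCompl (S := S) f hH1,
    exists_mul_mem_span P.primeCompl (S := S) f I fgI (le_of_eq hspan.symm)⟩

/-- At `Q`: from spreading data, `I S` (with `S = B_Q`) is generated by a regular sequence. -/
theorem exists_isRegular_of_spreading_data (Q : Ideal B) [Q.IsPrime] (S : Type u) [CommRing S]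
    [Algebra B S] [IsLocalization.AtPrime S Q] [IsLocalRing S] [IsNoetherianRing S] (hIQ : I ≤ Q)
    {r : ℕ} (f : Fin r → B) (hfI : ∀ i, f i ∈ I)
    (t : B) (ht : t ∈ Q.primeCompl) (htrel : ∀ v ∈ Rel f, t • v ∈ Triv f)
    (s : B) (hs : s ∈ Q.primeCompl) (hsI : ∀ x ∈ I, s * x ∈ Ideal.span (Set.range f)) :
    ∃ rs : List S, Ideal.ofList rs = I.map (algebraMap B S) ∧ IsRegular S rs := by
  have hH1Q := rel_le_triv_of_smul_rel_le Q.primeCompl (S := S) f t ht htrel
  have hspanQ := span_range_ybar_eq_map Q.primeCompl (S := S) f I hfI s hs hsI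
  have hneQ : Ideal.span (Set.range (ybar (algebraMap B S) f)) ≠ ⊤ := by
    rw [hspanQ]
    intro htop
    have h1 : I.map (algebraMap B S) ≤ maximalIdeal S := by
      rw [← IsLocalization.AtPrime.map_eq_maximalIdeal Q S]
      exact Ideal.map_mono hIQ
    rw [htop] at h1
    exact (maximalIdeal.isMaximal _).ne_top (top_le_iff.mp h1)
  refine ⟨List.ofFn (ybar (algebraMap B S) f), ?_, ?_⟩
  · rw [Groth.Agent.Lib.Helper5.ofList_ofFn_eq_span_range, hspanQ]
  · exact isRegular_ofFn_of_isH1Regular _ ((isH1Regular_iff _).mpr hH1Q) hneQ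

/-- Spreading out: if `I B_P` is generated by a regular sequence (with `B_P` regular), the same
holds at all primes `Q ⊇ I` of a neighbourhood of `P`. -/
theorem exists_notMem_forall_isRegular (P : Ideal B) [P.IsPrime]
    [IsRegularLocalRing (Localization.AtPrime P)] (hIP : I ≤ P)
    (h : ∃ rs : List (Localization.AtPrime P),
      Ideal.ofList rs = I.map (algebraMap B (Localization.AtPrime P)) ∧
        IsRegular (Localization.AtPrime P) rs) :
    ∃ g ∉ P, ∀ (Q : Ideal B) [Q.IsPrime], g ∉ Q → I ≤ Q →
      ∃ rs : List (Localization.AtPrime Q),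
        Ideal.ofList rs = I.map (algebraMap B (Localization.AtPrime Q)) ∧
          IsRegular (Localization.AtPrime Q) rs := by
  obtain ⟨r, f, hfI, ⟨t, ht, htrel⟩, ⟨s, hs, hsI⟩⟩ :=
    exists_spreading_data I P (Localization.AtPrime P) hIP h
  refine ⟨s * t, fun hmem => (P.primeCompl.mul_mem hs ht) hmem, ?_⟩
  intro Q _ hgQ hIQ
  have hsQ : s ∈ Q.primeCompl := fun hmem => hgQ (Ideal.mul_mem_right _ _ hmem)
  have htQ : t ∈ Q.primeCompl := fun hmem => hgQ (Ideal.mul_mem_left _ _ hmem)
  exact exists_isRegular_of_spreading_data I Q (Localization.AtPrime Q) hIQ f hfI t htQ htrel s hsQ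
    hsI

end spread

end Groth.Agent.Lib.H6xCI
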