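/-
Complete intersections: invariance under ring isomorphisms, presentations by surjections from
regular local rings, localizations of quotients of regular rings.
-/
import Mathlib
import Groth.Agent.Lib.H6xCII

set_option autoImplicit false

noncomputable section

namespace Groth.Agent.Lib.H6xCI

universe u

open IsLocalRing RingTheory.Sequence

/-- Complete intersections are invariant under ring isomorphisms. -/
theorem ci_of_ringEquiv {A A' : Type u} [CommRing A] [CommRing A'] [IsLocalRing A]
    [IsLocalRing A'] [IsNoetherianRing A] (e : A ≃+* A') (h : Pi1.IsCompleteIntersection A) :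
    Pi1.IsCompleteIntersection A' := by
  obtain ⟨B, _, _, rs, hmem, hreg, ⟨eq⟩⟩ := h
  have hmap : (maximalIdeal A).map (e : A →+* A') = maximalIdeal A' :=
    map_maximalIdeal_of_surjective (e : A →+* A') e.surjective
  obtain ⟨ê, -⟩ := Groth.Agent.Lib.Helper28.exists_ringEquiv_adicCompletion_of_ringEquiv
    (maximalIdeal A) (maximalIdeal A') (IsNoetherian.noetherian _) e hmap
  exact ⟨B, inferInstance, inferInstance, rs, hmem, hreg, ⟨ê.symm.trans eq⟩⟩

/-- For a surjection `f : R ↠ A` from a regular local ring: `A` is a complete intersection iff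
`ker f` is generated by a regular sequence. -/
theorem ci_iff_of_surjective {R A : Type u} [CommRing R] [IsRegularLocalRing R] [CommRing A]
    [IsLocalRing A] (f : R →+* A) (hf : Function.Surjective f) :
    Pi1.IsCompleteIntersection A ↔
      ∃ rs : List R, Ideal.ofList rs = RingHom.ker f ∧ IsRegular R rs := by
  let e : R ⧸ RingHom.ker f ≃+* A := RingHom.quotientKerEquivOfSurjective hf
  haveI : IsLocalRing (R ⧸ RingHom.ker f) := e.symm.isLocalRing
  haveI : IsNoetherianRing A := isNoetherianRing_of_surjective R A f hf
  rw [← ci_quotient_iff (RingHom.ker f)]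
  exact ⟨ci_of_ringEquiv e.symm, ci_of_ringEquiv e⟩

section locQuot

variable {B : Type u} [CommRing B] [IsRegularRing B] (I : Ideal B) (q : Ideal (B ⧸ I))
  [q.IsPrime]

/-- The local ring of `B/I` at `q` is a complete intersection iff `I B_Q` is generated by a
regular sequence, `Q` the preimage of `q`. -/
theorem ci_localization_quotient_iff :
    Pi1.IsCompleteIntersection (Localization.AtPrime q) ↔
      ∃ rs : List (Localization.AtPrime (q.comap (Ideal.Quotient.mk I))),
        Ideal.ofList rs = I.map (algebraMap B (Localization.AtPrime (q.comap (Ideal.Quotient.mk I))))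
          ∧ IsRegular (Localization.AtPrime (q.comap (Ideal.Quotient.mk I))) rs := by
  have hsurj : Function.Surjective
      (Localization.localRingHom (q.comap (Ideal.Quotient.mk I)) q (Ideal.Quotient.mk I) rfl) :=
    (RingHom.surjectiveOnStalks_of_surjective Ideal.Quotient.mk_surjective) q inferInstance
  have hT : Submonoid.map (Ideal.Quotient.mk I) (q.comap (Ideal.Quotient.mk I)).primeCompl =
      q.primeCompl := by
    ext y
    constructor
    · rintro ⟨x, hx, rfl⟩
      exact hx
    · intro hy
      obtain ⟨x, rfl⟩ := Ideal.Quotient.mk_surjective y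
      exact ⟨x, hy, rfl⟩
  have hker : RingHom.ker
      (Localization.localRingHom (q.comap (Ideal.Quotient.mk I)) q (Ideal.Quotient.mk I) rfl) =
      I.map (algebraMap B (Localization.AtPrime (q.comap (Ideal.Quotient.mk I)))) := by
    have := IsLocalization.ker_map (S := Localization.AtPrime (q.comap (Ideal.Quotient.mk I)))
      (Localization.AtPrime q) (Ideal.Quotient.mk I) hT
    rw [Ideal.mk_ker] at this
    exact this
  rw [ci_iff_of_surjective _ hsurj, hker]

end locQuot

/-- Regular local rings are complete intersections. -/
theorem ci_of_isRegularLocalRing (A : Type u) [CommRing A] [IsRegularLocalRing A] :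
    Pi1.IsCompleteIntersection A := by
  haveI : IsRegularLocalRing (AdicCompletion (maximalIdeal A) A) :=
    (Groth.Agent.Lib.Helper19.isRegularLocalRing_adicCompletion_iff A).mp inferInstance
  refine ⟨AdicCompletion (maximalIdeal A) A, inferInstance, inferInstance, [], ?_, ?_, ?_⟩
  · intro r hr
    exact absurd hr List.not_mem_nil
  · refine ⟨IsWeaklyRegular.nil _ _, ?_⟩
    rw [Ideal.ofList_nil, Submodule.bot_smul]
    exact bot_ne_top.symm
  · have h : Ideal.span {r | r ∈ ([] : List (AdicCompletion (maximalIdeal A) A))} = ⊥ := by
      rw [Ideal.span_eq_bot]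
      intro x hx
      exact absurd hx List.not_mem_nil
    exact ⟨(RingEquiv.quotientBot _).symm.trans (Ideal.quotEquivOfEq h.symm)⟩

end Groth.Agent.Lib.H6xCI
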