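/-
Bridge: for a local algebra essentially of finite type over a field, the relative notion
`Synt.IsCIOver k S` agrees with the absolute notion `Pi1.IsCompleteIntersection S`.
-/
import Mathlib
import Groth.Agent.Lib.H6xCIJ
import Groth.Agent.Lib.R2H4CIFieldA

set_option autoImplicit false

noncomputable section

namespace Groth.Agent.Lib.H6xCI

universe u

open IsLocalRing RingTheory.Sequence

variable (k : Type u) [Field k] (S : Type u) [CommRing S] [IsLocalRing S] [Algebra k S]

/-- `IsCIOver` implies the absolute notion (no finiteness needed). -/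
theorem ci_of_isCIOver (h : Synt.IsCIOver k S) : Pi1.IsCompleteIntersection S := by
  obtain ⟨R, _, _, _, -, rs, -, hreg, ⟨e⟩⟩ := h
  let φ : R →+* S := (e.symm : R ⧸ Ideal.ofList rs →+* S).comp (Ideal.Quotient.mk _)
  have hφ : Function.Surjective φ := e.symm.surjective.comp Ideal.Quotient.mk_surjective
  have hker : RingHom.ker φ = Ideal.ofList rs := by
    ext b
    rw [RingHom.mem_ker]
    show e.symm (Ideal.Quotient.mk _ b) = 0 ↔ _
    rw [map_eq_zero_iff _ e.symm.injective, Ideal.Quotient.eq_zero_iff_mem]
  exact (ci_iff_of_surjective φ hφ).mpr ⟨rs, hker.symm, hreg⟩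

/-- For local algebras essentially of finite type over a field, the absolute notion implies
`IsCIOver`. -/
theorem isCIOver_of_ci [Algebra.EssFiniteType k S] (h : Pi1.IsCompleteIntersection S) :
    Synt.IsCIOver k S := by
  obtain ⟨n, Q, hQ, π, hπ⟩ := Groth.Agent.Lib.R2H4.CIField.exists_pres k S
  obtain ⟨rs, hrs, hreg⟩ := (ci_iff_of_surjective π.toRingHom hπ).mp h
  have hmem : ∀ r ∈ rs, r ∈ maximalIdeal (Localization.AtPrime Q) := by
    intro r hr
    refine ker_le_maximalIdeal π.toRingHom ?_
    rw [← hrs]
    exact Ideal.subset_span hr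
  refine ⟨Localization.AtPrime Q, inferInstance, inferInstance, inferInstance, inferInstance, rs,
    hmem, hreg, ⟨?_⟩⟩
  exact (Ideal.quotientKerAlgEquivOfSurjective hπ).symm.trans
    (Ideal.quotientEquivAlgOfEq k hrs.symm)

/-- **Bridge**: for a local algebra essentially of finite type over a field,
`Synt.IsCIOver k S ↔ Pi1.IsCompleteIntersection S`. -/
theorem isCIOver_iff_ci [Algebra.EssFiniteType k S] :
    Synt.IsCIOver k S ↔ Pi1.IsCompleteIntersection S :=
  ⟨ci_of_isCIOver k S, isCIOver_of_ci k S⟩

end Groth.Agent.Lib.H6xCI
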