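/-
Complete intersections in towers of flat maps: quotient form of flat ascent, and composition of
a map with complete intersection fibres with a map with regular fibres.
-/
import Mathlib
import Groth.Agent.Lib.H6xCIN
import Groth.Agent.Lib.Helper28FlatEquidim
import Groth.Agent.Lib.Helper5RLR

set_option autoImplicit false

noncomputable section

namespace Groth.Agent.Lib.H6xCI

universe u

open IsLocalRing Groth.Agent.Lib.Helper5 Groth.Agent.Lib.Helper28

section Quot

variable {A₀ B₀ : Type u} [CommRing A₀] [CommRing B₀] [IsLocalRing A₀] [IsLocalRing B₀]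
  [Algebra A₀ B₀] [IsLocalHom (algebraMap A₀ B₀)] [Module.Flat A₀ B₀]

/-- For a flat local homomorphism `A₀ → B₀` of local rings and a proper ideal `a` of `A₀`:
if `A₀/a` and `B₀/𝔪_{A₀} B₀` are complete intersections, so is `B₀/aB₀`. -/
theorem ciLocal_quot_of_flat (a : Ideal A₀) (ha : a ≠ ⊤)
    [IsNoetherianRing (B₀ ⧸ a.map (algebraMap A₀ B₀))]
    (h1 : CILocal (A₀ ⧸ a))
    (h2 : CILocal (B₀ ⧸ (maximalIdeal A₀).map (algebraMap A₀ B₀))) :
    CILocal (B₀ ⧸ a.map (algebraMap A₀ B₀)) := by
  obtain ⟨hS, hSN, h1⟩ := h1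
  obtain ⟨hF, hFN, h2⟩ := h2
  have hJne : a.map (algebraMap A₀ B₀) ≠ ⊤ := map_ne_top_of_isLocalHom a ha
  haveI hT : IsLocalRing (B₀ ⧸ a.map (algebraMap A₀ B₀)) := isLocalRing_quotient hJne
  haveI hlocST := isLocalHom_quotient_map (A := A₀) (A' := B₀) a
  haveI hflatST := flat_quotient_map' (A := A₀) (A' := B₀) a
  have hle : a.map (algebraMap A₀ B₀) ≤ (maximalIdeal A₀).map (algebraMap A₀ B₀) :=
    Ideal.map_mono (IsLocalRing.le_maximalIdeal ha)
  have hker : RingHom.ker (Ideal.Quotient.factor hle) =
      (maximalIdeal (A₀ ⧸ a)).map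
        (algebraMap (A₀ ⧸ a) (B₀ ⧸ a.map (algebraMap A₀ B₀))) := by
    rw [Ideal.Quotient.factor_ker, maximalIdeal_quotient_eq_map]
    have e1 := Ideal.map_map (I := maximalIdeal A₀) (algebraMap A₀ B₀)
      (Ideal.Quotient.mk (a.map (algebraMap A₀ B₀)))
    have e2 := Ideal.map_map (I := maximalIdeal A₀) (Ideal.Quotient.mk a)
      (algebraMap (A₀ ⧸ a) (B₀ ⧸ a.map (algebraMap A₀ B₀)))
    have hcomp : (Ideal.Quotient.mk (a.map (algebraMap A₀ B₀))).comp (algebraMap A₀ B₀) =
        (algebraMap (A₀ ⧸ a) (B₀ ⧸ a.map (algebraMap A₀ B₀))).comp (Ideal.Quotient.mk a) :=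
      RingHom.ext fun x => rfl
    exact e1.trans ((congrArg (fun g => Ideal.map g (maximalIdeal A₀)) hcomp).trans e2.symm)
  exact ⟨hT, inferInstance,
    ci_of_flat_of_ci_of_ci (Ideal.Quotient.factor hle) (Ideal.Quotient.factor_surjective hle)
      hker h1 h2⟩

end Quot

section Comp

variable {A B C : Type u} [CommRing A] [CommRing B] [CommRing C] [IsNoetherianRing C]
  [Algebra A B] [Algebra B C] [Algebra A C] [IsScalarTower A B C] [Module.Flat B C]
  (r : Ideal C) [r.IsPrime]

/-- Transitivity of complete intersection fibre local rings in a tower `A → B → C` with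
`B → C` flat. -/
theorem ciLocal_fibLocRing_comp
    (h1 : CILocal (EGA4.FibLocRing A B (r.comap (algebraMap B C))))
    (h2 : CILocal (EGA4.FibLocRing B C r)) : CILocal (EGA4.FibLocRing A C r) := by
  haveI hlies : r.LiesOver (r.comap (algebraMap B C)) := ⟨rfl⟩
  letI alg := Localization.AtPrime.algebraOfLiesOver (r.comap (algebraMap B C)) r
  haveI hloc : IsLocalHom (algebraMap (Localization.AtPrime (r.comap (algebraMap B C)))
      (Localization.AtPrime r)) := by
    rw [RingHom.algebraMap_toAlgebra]
    exact Localization.isLocalHom_localRingHom (r.comap (algebraMap B C)) r (algebraMap B C)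
      Ideal.LiesOver.over
  have hflatB : Module.Flat B (Localization.AtPrime r) :=
    Module.Flat.trans B C (Localization.AtPrime r)
  haveI hflat : Module.Flat (Localization.AtPrime (r.comap (algebraMap B C)))
      (Localization.AtPrime r) :=
    (Module.flat_iff_of_isLocalization (Localization.AtPrime (r.comap (algebraMap B C)))
      (r.comap (algebraMap B C)).primeCompl _).mpr hflatB
  have hmap : (r.comap (algebraMap B C)).map (algebraMap B (Localization.AtPrime r)) =
      (maximalIdeal (Localization.AtPrime (r.comap (algebraMap B C)))).map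
        (algebraMap (Localization.AtPrime (r.comap (algebraMap B C)))
          (Localization.AtPrime r)) := by
    rw [← IsLocalization.AtPrime.map_eq_maximalIdeal (r.comap (algebraMap B C))
      (Localization.AtPrime (r.comap (algebraMap B C))), Ideal.map_map,
      ← IsScalarTower.algebraMap_eq]
  obtain ⟨hl1, hn1, hc1⟩ := h1
  have ha : ((r.comap (algebraMap B C)).comap (algebraMap A B)).map
      (algebraMap A (Localization.AtPrime (r.comap (algebraMap B C)))) ≠ ⊤ :=
    ne_top_of_isLocalRing_quotient _
  have h2' : CILocal (Localization.AtPrime r ⧸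
      (maximalIdeal (Localization.AtPrime (r.comap (algebraMap B C)))).map
        (algebraMap (Localization.AtPrime (r.comap (algebraMap B C)))
          (Localization.AtPrime r))) :=
    ciLocal_of_ringEquiv _ _ (Ideal.quotEquivOfEq hmap) h2
  have key := ciLocal_quot_of_flat
    (A₀ := Localization.AtPrime (r.comap (algebraMap B C))) (B₀ := Localization.AtPrime r)
    (((r.comap (algebraMap B C)).comap (algebraMap A B)).map
      (algebraMap A (Localization.AtPrime (r.comap (algebraMap B C))))) ha
    ⟨hl1, hn1, hc1⟩ h2'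
  refine ciLocal_of_ringEquiv _ _ (Ideal.quotEquivOfEq ?_) key
  rw [Ideal.map_map, ← IsScalarTower.algebraMap_eq, Ideal.comap_comap,
    ← IsScalarTower.algebraMap_eq]

end Comp

end Groth.Agent.Lib.H6xCI
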