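import Mathlib
import Groth.Prelude.Def_DCoh3
import Groth.Agent.Lib.H6xClImmAdjB
import Groth.Agent.Lib.H6xRpushRes
import Groth.Agent.Lib.H6xPC3D
import Groth.Agent.Lib.H6xPCohD
import Groth.Agent.Lib.R2H2DevH
set_option backward.isDefEq.respectTransparency.types false

/-!
# Direct image along a closed immersion and restriction to opens (helper6)
-/

set_option autoImplicit false
set_option linter.style.haveILetI false
universe u
open CategoryTheory CategoryTheory.Limits AlgebraicGeometry TopologicalSpace Opposite
  CategoryTheory.Pretriangulated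

attribute [local instance] HasDerivedCategory.standard

namespace Groth.Agent.Lib.H6xClPush

open Groth.Agent.Lib.H6xPCoh Groth.Agent.Lib.H6xPC3 DerivedCategory

variable {Z X : Scheme.{u}} (i : Z ⟶ X) [IsClosedImmersion i]

instance preservesFiniteColimits_pushforward :
    PreservesFiniteColimits (Scheme.Modules.pushforward i) := by
  haveI := Groth.Agent.Lib.H6xClImmAdj.pushforward_preservesColimits_of_isClosedEmbedding i
    i.isClosedEmbedding
  exact PreservesColimitsOfSize.preservesFiniteColimits.{u, u} _

instance preservesFiniteLimits_pushforward :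
    PreservesFiniteLimits (Scheme.Modules.pushforward i) := by
  haveI := (Scheme.Modules.pullbackPushforwardAdjunction i).rightAdjoint_preservesLimits
  exact PreservesLimitsOfSize.preservesFiniteLimits.{u, u} _

instance isClosedImmersion_morphismRestrict (V : X.Opens) : IsClosedImmersion (i ∣_ V) :=
  MorphismProperty.of_isPullback (isPullback_morphismRestrict i V).flip inferInstance

/-- every open of `Z` is the preimage of an open of `X` -/
lemma exists_preimage_eq (W : Z.Opens) : ∃ V : X.Opens, i ⁻¹ᵁ V = W := by
  obtain ⟨V', hV', hVW⟩ := i.isClosedEmbedding.isEmbedding.isInducing.isOpen_iff.1 W.2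
  exact ⟨⟨V', hV'⟩, Opens.ext hVW⟩

/-- the open complement of the image -/
def complRange : X.Opens := ⟨(Set.range i)ᶜ, i.isClosedEmbedding.isClosed_range.isOpen_compl⟩

instance isEmpty_preimage_complRange : IsEmpty (i ⁻¹ᵁ complRange i : Scheme.{u}) :=
  ⟨fun z => z.2 ⟨z.1, rfl⟩⟩

/-- chain level base change -/
noncomputable def pushRestrictCxIso (V : X.Opens) (K : CochainComplex Z.Modules ℤ) :
    (DCoh.restrictCx V).obj
        (((Scheme.Modules.pushforward i).mapHomologicalComplex (ComplexShape.up ℤ)).obj K) ≅
      ((Scheme.Modules.pushforward (i ∣_ V)).mapHomologicalComplex (ComplexShape.up ℤ)).obj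
        ((DCoh.restrictCx (i ⁻¹ᵁ V)).obj K) :=
  (Groth.Agent.Lib.H6xRpushRes.θ i V).app K

/-- derived level base change, objectwise -/
theorem nonempty_restrictD_push_iso (V : X.Opens) (E : DCoh.D Z) :
    Nonempty ((DCoh.restrictD V.ι).obj ((Scheme.Modules.pushforward i).mapDerivedCategory.obj E) ≅
      (Scheme.Modules.pushforward (i ∣_ V)).mapDerivedCategory.obj
        ((DCoh.restrictD (i ⁻¹ᵁ V).ι).obj E)) := by
  let K := (DerivedCategory.Q : _ ⥤ DCoh.D Z).objPreimage E
  let eK : DerivedCategory.Q.obj K ≅ E := DerivedCategory.Q.objObjPreimageIso E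
  let G := Scheme.Modules.pushforward i
  let G' := Scheme.Modules.pushforward (i ∣_ V)
  let R := Scheme.Modules.restrictFunctor V.ι
  let R' := Scheme.Modules.restrictFunctor (i ⁻¹ᵁ V).ι
  exact ⟨(DCoh.restrictD V.ι).mapIso (G.mapDerivedCategory.mapIso eK.symm ≪≫
      G.mapDerivedCategoryFactors.app K) ≪≫ R.mapDerivedCategoryFactors.app _ ≪≫
    DerivedCategory.Q.mapIso (pushRestrictCxIso i V K) ≪≫
    (G'.mapDerivedCategoryFactors.app _).symm ≪≫
    G'.mapDerivedCategory.mapIso ((R'.mapDerivedCategoryFactors.app K).symm ≪≫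
      (DCoh.restrictD (i ⁻¹ᵁ V).ι).mapIso eK)⟩

end Groth.Agent.Lib.H6xClPush
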