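import Mathlib
import Groth.Prelude.Def_DCoh3
import Groth.Agent.Lib.H6xClPushA
import Groth.Agent.Lib.H6xPCohC
import Groth.Agent.Lib.H6xPC4A
set_option backward.isDefEq.respectTransparency.types false

/-!
# Pseudo-coherence and restriction to opens; the hypothesis on `i_* O_Z` restricts (helper6)
-/

set_option autoImplicit false
set_option linter.style.haveILetI false
universe u
open CategoryTheory CategoryTheory.Limits AlgebraicGeometry TopologicalSpace Opposite
  CategoryTheory.Pretriangulated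

attribute [local instance] HasDerivedCategory.standard

namespace Groth.Agent.Lib.H6xClPush

open Groth.Agent.Lib.H6xPCoh Groth.Agent.Lib.H6xPC3 DerivedCategory

section general

variable {X : Scheme.{u}}

lemma isPseudoCoherentD_restrictD {m : ℤ} {K : DCoh.D X} (h : DCoh.IsPseudoCoherentD m K)
    {Z' : Scheme.{u}} (g : Z' ⟶ X) [IsOpenImmersion g] :
    DCoh.IsPseudoCoherentD m ((DCoh.restrictD g).obj K) := by
  rw [isPseudoCoherentD_iff_pcAt] at h ⊢
  exact fun z => (h (g.base z)).restrict g z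

lemma pcAt_of_isPseudoCoherentD_restrictD {m : ℤ} {K : DCoh.D X} (V : X.Opens) (x : X)
    (hx : x ∈ V) (h : DCoh.IsPseudoCoherentD m ((DCoh.restrictD V.ι).obj K)) : PCAt m K x := by
  rw [isPseudoCoherentD_iff_pcAt] at h
  obtain ⟨x', hx'⟩ : ∃ x' : (V : Scheme.{u}), V.ι.base x' = x := ⟨⟨x, hx⟩, rfl⟩
  have := PCAt.of_restrict V.ι x' (h x')
  rwa [hx'] at this

/-- pseudo-coherence passes along a morphism which is an isomorphism on cohomology in degrees
`> m` and an epimorphism in degree `m` -/
lemma PCGlobal.of_map {m : ℤ} {A B : DCoh.D X} (h : PCGlobal m A) (β : A ⟶ B)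
    (h1 : ∀ j : ℤ, m < j → IsIso ((DerivedCategory.homologyFunctor _ j).map β))
    (h2 : Epi ((DerivedCategory.homologyFunctor _ m).map β)) : PCGlobal m B := by
  obtain ⟨E, α, hE, h1', h2'⟩ := h
  refine ⟨E, α ≫ β, hE, fun j hj => ?_, ?_⟩
  · haveI := h1 j hj
    haveI := h1' j hj
    rw [Functor.map_comp]
    infer_instance
  · rw [Functor.map_comp]
    exact epi_comp _ _

lemma isPseudoCoherentD_of_map {m : ℤ} {A B : DCoh.D X} (h : DCoh.IsPseudoCoherentD m A)
    (β : A ⟶ B)
    (h1 : ∀ j : ℤ, m < j → IsIso ((DerivedCategory.homologyFunctor _ j).map β))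
    (h2 : Epi ((DerivedCategory.homologyFunctor _ m).map β)) : DCoh.IsPseudoCoherentD m B := by
  rw [isPseudoCoherentD_iff_pcAt] at h ⊢
  intro x
  obtain ⟨Z', g, hg, hx, hG⟩ := h x
  refine ⟨Z', g, hg, hx, PCGlobal.of_map hG ((DCoh.restrictD g).map β) (fun j hj => ?_) ?_⟩
  · haveI := h1 j hj
    exact isIso_homology_mapDerivedCategory_map (Scheme.Modules.restrictFunctor g) β j
  · exact epi_homology_mapDerivedCategory_map (Scheme.Modules.restrictFunctor g) β m

end general

variable {Z X : Scheme.{u}} (i : Z ⟶ X) [IsClosedImmersion i]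

/-- `i_*` of a module placed in degree `0` -/
noncomputable def pushDInD (A : Z.Modules) :
    (Scheme.Modules.pushforward i).mapDerivedCategory.obj (DCoh.inD Z A) ≅
      DCoh.inD X ((Scheme.Modules.pushforward i).obj A) :=
  ((Scheme.Modules.pushforward i).mapDerivedCategorySingleFunctor 0).app A

/-- the hypothesis on `i_* O_Z` -/
def PushOPC : Prop :=
  ∀ m : ℤ, DCoh.IsPseudoCoherentD m
    (DCoh.inD X ((Scheme.Modules.pushforward i).obj (Coh.structureModule Z)))

variable {i}

lemma PushOPC.restrict (hO : PushOPC i) (V : X.Opens) : PushOPC (i ∣_ V) := by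
  intro m
  have h := isPseudoCoherentD_restrictD (hO m) V.ι
  let e1 := restrictDInD ((Scheme.Modules.pushforward i).obj (Coh.structureModule Z)) V
  let e2 : ((Scheme.Modules.pushforward i).obj (Coh.structureModule Z)).restrict V.ι ≅
      (Scheme.Modules.pushforward (i ∣_ V)).obj
        ((Coh.structureModule Z).restrict (i ⁻¹ᵁ V).ι) :=
    (Groth.Agent.Lib.R2H3.RpushRestrict.restrictPushIso i V).app (Coh.structureModule Z)
  let e3 : (Scheme.Modules.pushforward (i ∣_ V)).obj
        ((Coh.structureModule Z).restrict (i ⁻¹ᵁ V).ι) ≅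
      (Scheme.Modules.pushforward (i ∣_ V)).obj (Coh.structureModule (i ⁻¹ᵁ V : Scheme.{u})) :=
    (Scheme.Modules.pushforward (i ∣_ V)).mapIso (Scheme.Modules.restrictUnitIso (i ⁻¹ᵁ V).ι)
  exact isPseudoCoherentD_of_iso'
    (e1 ≪≫ (DerivedCategory.singleFunctor _ 0).mapIso (e2 ≪≫ e3)) h

end Groth.Agent.Lib.H6xClPush
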