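import Groth.Agent.Lib.Helper23Extend2
import Groth.Agent.Lib.R2H2PdSheaf
import Groth.Agent.Lib.Helper26ModSec
set_option backward.isDefEq.respectTransparency.types false

/-!
# A coherent module dominating two coherent extensions (helper2, round 2)

`main8127` : `F₁`, `F₂` coherent on a Noetherian scheme, isomorphic on the open `U`; then there is
a coherent `G` with maps to `F₁` and `F₂` which are isomorphisms on `U` (the closure of the graph
of the isomorphism inside `F₁ ⊞ F₂`).  Stated for any open immersion `j`.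
-/

set_option autoImplicit false
universe u

open CategoryTheory CategoryTheory.Limits AlgebraicGeometry

namespace Groth.Agent.Lib.R2H2.CohGraph

open Groth.Agent.Lib.Helper26.ModSec

theorem exists_graph {X Y : Scheme.{u}} [IsNoetherian X] (j : Y ⟶ X) [IsOpenImmersion j]
    (F₁ F₂ : X.Modules) (h₁ : Coh.IsCoh F₁) (h₂ : Coh.IsCoh F₂)
    (e : (Scheme.Modules.restrictFunctor j).obj F₁ ≅ (Scheme.Modules.restrictFunctor j).obj F₂) :
    ∃ (G : X.Modules) (p₁ : G ⟶ F₁) (p₂ : G ⟶ F₂), Coh.IsCoh G ∧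
      IsIso ((Scheme.Modules.restrictFunctor j).map p₁) ∧
      IsIso ((Scheme.Modules.restrictFunctor j).map p₂) := by
  haveI : PreservesBinaryBiproducts (Scheme.Modules.restrictFunctor j) :=
    preservesBinaryBiproducts_of_preservesBiproducts _
  haveI q₁ : F₁.IsQuasicoherent := h₁.1
  haveI q₂ : F₂.IsQuasicoherent := h₂.1
  have hF : Coh.IsCoh (F₁ ⊞ F₂) := Groth.Agent.Lib.R2H2.PdSheaf.isCoh_biprod F₁ F₂ h₁ h₂
  haveI qF : (F₁ ⊞ F₂).IsQuasicoherent := hF.1
  haveI fF : SheafOfModules.IsFiniteType (R := X.ringCatSheaf) (F₁ ⊞ F₂) := hF.2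
  let φ : (Scheme.Modules.restrictFunctor j).obj F₁ ⟶ (F₁ ⊞ F₂).restrict j :=
    biprod.lift (𝟙 _) e.hom ≫ ((Scheme.Modules.restrictFunctor j).mapBiprod F₁ F₂).inv
  have hφ1 : φ ≫ (Scheme.Modules.restrictFunctor j).map biprod.fst = 𝟙 _ := by
    have : ((Scheme.Modules.restrictFunctor j).mapBiprod F₁ F₂).inv ≫
        (Scheme.Modules.restrictFunctor j).map biprod.fst = biprod.fst := by
      rw [Iso.inv_comp_eq, Functor.mapBiprod_hom, biprod.lift_fst]
    rw [Category.assoc, this, biprod.lift_fst]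
  have hφ2 : φ ≫ (Scheme.Modules.restrictFunctor j).map biprod.snd = e.hom := by
    have : ((Scheme.Modules.restrictFunctor j).mapBiprod F₁ F₂).inv ≫
        (Scheme.Modules.restrictFunctor j).map biprod.snd = biprod.snd := by
      rw [Iso.inv_comp_eq, Functor.mapBiprod_hom, biprod.lift_snd]
    rw [Category.assoc, this, biprod.lift_snd]
  haveI hφm : Mono φ := by
    haveI : Mono (φ ≫ (Scheme.Modules.restrictFunctor j).map biprod.fst) := by
      rw [hφ1]; infer_instance
    exact mono_of_mono φ ((Scheme.Modules.restrictFunctor j).map biprod.fst)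
  obtain ⟨H, ψ, eH, hHq, hcomp, hmono, -⟩ :=
    Groth.Agent.Lib.Helper23.Extend.exists_extension' j (F₁ ⊞ F₂)
      ((Scheme.Modules.restrictFunctor j).obj F₁) φ
  haveI := hmono hφm
  refine ⟨H, ψ ≫ biprod.fst, ψ ≫ biprod.snd, ⟨hHq, ?_⟩, ?_, ?_⟩
  · exact @Groth.Agent.Lib.Helper23.FinType.isFiniteType_of_mono X _ _ _ ψ inferInstance qF fF hHq
  · rw [Functor.map_comp, ← hcomp, Category.assoc, hφ1, Category.comp_id]
    infer_instance
  · rw [Functor.map_comp, ← hcomp, Category.assoc, hφ2]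
    infer_instance

/-- **S8127** -/
theorem main8127 (X : Scheme.{u}) [IsNoetherian X] (U : X.Opens)
    (F₁ F₂ : X.Modules) (h₁ : Coh.IsCoh F₁) (h₂ : Coh.IsCoh F₂)
    (e : F₁.restrict U.ι ≅ F₂.restrict U.ι) :
    ∃ (G : X.Modules) (p₁ : G ⟶ F₁) (p₂ : G ⟶ F₂), Coh.IsCoh G ∧
      IsIso ((Scheme.Modules.restrictFunctor U.ι).map p₁) ∧
      IsIso ((Scheme.Modules.restrictFunctor U.ι).map p₂) :=
  exists_graph U.ι F₁ F₂ h₁ h₂ e

end Groth.Agent.Lib.R2H2.CohGraph
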