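import Mathlib
import Groth.Prelude.Def_KZero
import Groth.Prelude.Def_SGA6
import Groth.Agent.Lib.R2H2K0Gen

/-!
# Quillen's filtration argument for `K₀` (helper2, round 2)

`P = ⋃ Q k` an increasing exhaustive filtration of an object property, with operations `t i`
lowering the filtration degree, additive on `K₀`, and with a "Koszul" relation
`[X] = ∑ c i • [t i X]` in `K₀ (Q k)` for `X ∈ Q k`.  Then `K₀ (Q 0) → K₀ P` is bijective.
-/

set_option autoImplicit false
universe v u w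

namespace Groth.Agent.Lib.R2H2.K0Chain

open CategoryTheory CategoryTheory.Limits KZero
open Groth.Agent.Lib.R2H2.K0Gen

variable {A : Type u} [Category.{v} A] [Abelian A]

theorem hom_ext {G : Type w} [AddCommGroup G] (P : ObjectProperty A) (f g : K0sub P →+ G)
    (h : ∀ X, P X → f (clSub P X) = g (clSub P X)) : f = g := by
  apply AddMonoidHom.ext
  intro x
  exact K0sub_induction P (AddMonoidHom.eqLocus f g) h x

theorem mapSub_clSub {P₀ P₁ : ObjectProperty A} (hle : ∀ X, P₀ X → P₁ X) {X : A} (hX : P₀ X) :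
    SGA6.mapSub (𝟭 A) P₀ P₁ hle (clSub P₀ X) = clSub P₁ X := by
  rw [clSub_of_prop P₀ hX, clSub_of_prop P₁ (hle X hX)]
  unfold SGA6.mapSub
  rw [QuotientAddGroup.map_mk, FreeAbelianGroup.map_of_apply]
  rfl

/-- the hypotheses of the filtration argument -/
structure Hyp (P : ObjectProperty A) (Q : ℕ → ObjectProperty A) (N : ℕ) (c : ℕ → ℤ)
    (t : ℕ → A → A) : Prop where
  mono : ∀ k X, Q k X → Q (k + 1) X
  sub : ∀ k X, Q k X → P X
  exh : ∀ X, P X → ∃ k, Q k X
  tQ : ∀ i k X, Q (k + 1) X → Q k (t i X)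
  tadd : ∀ i k (S : ShortComplex A), S.ShortExact → Q (k + 1) S.X₁ → Q (k + 1) S.X₂ →
    Q (k + 1) S.X₃ → clSub (Q k) (t i S.X₂) = clSub (Q k) (t i S.X₁) + clSub (Q k) (t i S.X₃)
  kos : ∀ k X, Q k X → clSub (Q k) X = ∑ i ∈ Finset.range N, c i • clSub (Q k) (t i X)

variable {P : ObjectProperty A} {Q : ℕ → ObjectProperty A} {N : ℕ} {c : ℕ → ℤ} {t : ℕ → A → A}

theorem Hyp.mono_le (H : Hyp P Q N c t) {k l : ℕ} (hkl : k ≤ l) (X : A) (hX : Q k X) : Q l X := by
  induction l, hkl using Nat.le_induction with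
  | base => exact hX
  | succ l _ ih => exact H.mono l X ih

/-- `K₀ (Q k) → K₀ (Q (k+1))` -/
noncomputable def inc (H : Hyp P Q N c t) (k : ℕ) : K0sub (Q k) →+ K0sub (Q (k + 1)) :=
  liftAdd (Q k) (fun X => clSub (Q (k + 1)) X) (fun S hS h₁ h₂ h₃ =>
    clSub_shortExact (Q (k + 1)) S hS (H.mono k _ h₁) (H.mono k _ h₂) (H.mono k _ h₃))

theorem inc_clSub (H : Hyp P Q N c t) (k : ℕ) {X : A} (hX : Q k X) :
    inc H k (clSub (Q k) X) = clSub (Q (k + 1)) X :=
  liftAdd_clSub (Q k) _ _ hX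

/-- `K₀ (Q k) → K₀ P` -/
noncomputable def incP (H : Hyp P Q N c t) (k : ℕ) : K0sub (Q k) →+ K0sub P :=
  liftAdd (Q k) (fun X => clSub P X) (fun S hS h₁ h₂ h₃ =>
    clSub_shortExact P S hS (H.sub k _ h₁) (H.sub k _ h₂) (H.sub k _ h₃))

theorem incP_clSub (H : Hyp P Q N c t) (k : ℕ) {X : A} (hX : Q k X) :
    incP H k (clSub (Q k) X) = clSub P X :=
  liftAdd_clSub (Q k) _ _ hX

/-- the "Koszul" map `K₀ (Q (k+1)) → K₀ (Q k)` -/
noncomputable def uu (H : Hyp P Q N c t) (k : ℕ) : K0sub (Q (k + 1)) →+ K0sub (Q k) :=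
  liftAdd (Q (k + 1)) (fun X => ∑ i ∈ Finset.range N, c i • clSub (Q k) (t i X))
    (fun S hS h₁ h₂ h₃ => by
      rw [← Finset.sum_add_distrib]
      apply Finset.sum_congr rfl
      intro i _
      rw [H.tadd i k S hS h₁ h₂ h₃, smul_add])

theorem uu_clSub (H : Hyp P Q N c t) (k : ℕ) {X : A} (hX : Q (k + 1) X) :
    uu H k (clSub (Q (k + 1)) X) = ∑ i ∈ Finset.range N, c i • clSub (Q k) (t i X) :=
  liftAdd_clSub (Q (k + 1)) _ _ hX

theorem uu_inc (H : Hyp P Q N c t) (k : ℕ) (x : K0sub (Q k)) : uu H k (inc H k x) = x := by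
  have h : (uu H k).comp (inc H k) = AddMonoidHom.id _ := by
    apply hom_ext
    intro X hX
    rw [AddMonoidHom.comp_apply, inc_clSub H k hX, uu_clSub H k (H.mono k X hX),
      AddMonoidHom.id_apply, ← H.kos k X hX]
  exact DFunLike.congr_fun h x

theorem incP_inc (H : Hyp P Q N c t) (k : ℕ) (x : K0sub (Q k)) :
    incP H (k + 1) (inc H k x) = incP H k x := by
  have h : (incP H (k + 1)).comp (inc H k) = incP H k := by
    apply hom_ext
    intro X hX
    rw [AddMonoidHom.comp_apply, inc_clSub H k hX, incP_clSub H (k + 1) (H.mono k X hX),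
      incP_clSub H k hX]
  exact DFunLike.congr_fun h x

theorem inc_uu (H : Hyp P Q N c t) (k : ℕ) (x : K0sub (Q (k + 1))) :
    inc H k (uu H k x) = x := by
  have h : (inc H k).comp (uu H k) = AddMonoidHom.id _ := by
    apply hom_ext
    intro X hX
    rw [AddMonoidHom.comp_apply, uu_clSub H k hX, AddMonoidHom.id_apply, map_sum,
      H.kos (k + 1) X hX]
    apply Finset.sum_congr rfl
    intro i _
    rw [map_zsmul, inc_clSub H k (H.tQ i k X hX)]
  exact DFunLike.congr_fun h x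

/-- `K₀ (Q k) → K₀ (Q 0)` -/
noncomputable def rho (H : Hyp P Q N c t) : ∀ k : ℕ, K0sub (Q k) →+ K0sub (Q 0)
  | 0 => AddMonoidHom.id _
  | k + 1 => (rho H k).comp (uu H k)

theorem rho_inc (H : Hyp P Q N c t) (k : ℕ) (x : K0sub (Q k)) :
    rho H (k + 1) (inc H k x) = rho H k x := by
  change rho H k (uu H k (inc H k x)) = _
  rw [uu_inc]

theorem rho_clSub_of_le (H : Hyp P Q N c t) {k l : ℕ} (hkl : k ≤ l) {X : A} (hX : Q k X) :
    rho H l (clSub (Q l) X) = rho H k (clSub (Q k) X) := by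
  induction l, hkl using Nat.le_induction with
  | base => rfl
  | succ l hl ih =>
    rw [← ih, ← inc_clSub H l (H.mono_le hl X hX), rho_inc]

theorem incP_rho (H : Hyp P Q N c t) (k : ℕ) (x : K0sub (Q k)) :
    incP H 0 (rho H k x) = incP H k x := by
  induction k with
  | zero => rfl
  | succ k ih =>
    change incP H 0 (rho H k (uu H k x)) = _
    rw [ih, ← incP_inc, inc_uu]

open Classical in
/-- the function underlying the retraction -/
noncomputable def rfun (H : Hyp P Q N c t) (X : A) : K0sub (Q 0) :=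
  if hX : P X then rho H (Nat.find (H.exh X hX)) (clSub (Q _) X) else 0

theorem rfun_eq (H : Hyp P Q N c t) {X : A} {k : ℕ} (hX : Q k X) :
    rfun H X = rho H k (clSub (Q k) X) := by
  classical
  unfold rfun
  rw [dif_pos (H.sub k X hX)]
  exact (rho_clSub_of_le H (Nat.find_min' (H.exh X (H.sub k X hX)) hX)
    (Nat.find_spec (H.exh X (H.sub k X hX)))).symm

theorem rfun_add (H : Hyp P Q N c t) (S : ShortComplex A) (hS : S.ShortExact) (h₁ : P S.X₁)
    (h₂ : P S.X₂) (h₃ : P S.X₃) : rfun H S.X₂ = rfun H S.X₁ + rfun H S.X₃ := by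
  obtain ⟨k₁, hk₁⟩ := H.exh _ h₁
  obtain ⟨k₂, hk₂⟩ := H.exh _ h₂
  obtain ⟨k₃, hk₃⟩ := H.exh _ h₃
  have q₁ : Q (max k₁ (max k₂ k₃)) S.X₁ := H.mono_le (le_max_left _ _) _ hk₁
  have q₂ : Q (max k₁ (max k₂ k₃)) S.X₂ :=
    H.mono_le ((le_max_left _ _).trans (le_max_right _ _)) _ hk₂
  have q₃ : Q (max k₁ (max k₂ k₃)) S.X₃ :=
    H.mono_le ((le_max_right _ _).trans (le_max_right _ _)) _ hk₃
  rw [rfun_eq H q₁, rfun_eq H q₂, rfun_eq H q₃, clSub_shortExact _ S hS q₁ q₂ q₃, map_add]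

/-- the retraction `K₀ P → K₀ (Q 0)` -/
noncomputable def retr (H : Hyp P Q N c t) : K0sub P →+ K0sub (Q 0) :=
  liftAdd P (rfun H) (rfun_add H)

theorem retr_clSub (H : Hyp P Q N c t) {X : A} (hX : P X) : retr H (clSub P X) = rfun H X :=
  liftAdd_clSub P _ _ hX

theorem retr_incP (H : Hyp P Q N c t) (x : K0sub (Q 0)) : retr H (incP H 0 x) = x := by
  have h : (retr H).comp (incP H 0) = AddMonoidHom.id _ := by
    apply hom_ext
    intro X hX
    rw [AddMonoidHom.comp_apply, incP_clSub H 0 hX, retr_clSub H (H.sub 0 X hX), rfun_eq H hX]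
    rfl
  exact DFunLike.congr_fun h x

theorem incP_retr (H : Hyp P Q N c t) (x : K0sub P) : incP H 0 (retr H x) = x := by
  have h : (incP H 0).comp (retr H) = AddMonoidHom.id _ := by
    apply hom_ext
    intro X hX
    obtain ⟨k, hk⟩ := H.exh X hX
    rw [AddMonoidHom.comp_apply, retr_clSub H hX, rfun_eq H hk, incP_rho, incP_clSub H k hk]
    rfl
  exact DFunLike.congr_fun h x

theorem bijective_incP (H : Hyp P Q N c t) : Function.Bijective (incP H 0) :=
  ⟨Function.LeftInverse.injective (retr_incP H), Function.RightInverse.surjective (incP_retr H)⟩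

/-- **Quillen's filtration argument**: `K₀ (Q 0) → K₀ P` is bijective. -/
theorem bijective_mapSub (H : Hyp P Q N c t) (h : ∀ X, Q 0 X → P X) :
    Function.Bijective (SGA6.mapSub (𝟭 A) (Q 0) P h) := by
  have e : SGA6.mapSub (𝟭 A) (Q 0) P h = incP H 0 := by
    apply hom_ext
    intro X hX
    rw [mapSub_clSub h hX, incP_clSub H 0 hX]
  rw [e]
  exact bijective_incP H

end Groth.Agent.Lib.R2H2.K0Chain
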