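import Groth.Agent.Lib.R2H2NilFilt
import Groth.Agent.Lib.R2H2CohGraph
import Groth.Agent.Lib.R2H2K0Chain
import Groth.Agent.Lib.Helper20OmegaUnr
import Groth.Agent.Lib.Helper23ModLocal
import Groth.Agent.S0786
set_option backward.isDefEq.respectTransparency.types false

/-!
# The localization sequence `K_•(X') → K_•(X) → K_•(U) → 0` (helper2, round 2)

`X` Noetherian, `i : X' ⟶ X` a closed immersion, `j : U ⟶ X` the open immersion of the complement.

* `mapSub_clSub_gen`;
* `isZero_restrict_push` : `j^* i_* M = 0`;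
* `exists_coh_extension` : a coherent module on `U` extends to a coherent module on `X`;
* `sub_mem_range_of_isIso_restrict` : `[H] - [M] ∈ im(i_*)` when `H ⟶ M` is an isomorphism on `U`;
* `main3192`.
-/

set_option autoImplicit false
set_option linter.style.haveILetI false
set_option linter.unusedSectionVars false
universe u
open CategoryTheory CategoryTheory.Limits AlgebraicGeometry TopologicalSpace Opposite KZero

noncomputable section

namespace Groth.Agent.Lib.R2H2.KcohLoc

open Groth.Agent.Lib.R2H2.K0Gen Groth.Agent.Lib.R2H2.NilFilt Groth.Agent.Lib.Helper23.Extend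
  Groth.Agent.Lib.Helper26.ModSec Groth.Agent.Lib.Helper23.QCohLocal

section Gen

variable {A : Type*} [Category A] [Abelian A] {B : Type*} [Category B] [Abelian B]

theorem mapSub_clSub_gen {A : Type (u + 1)} [Category.{u} A] [Abelian A] {B : Type (u + 1)}
    [Category.{u} B] [Abelian B] (F : A ⥤ B) [F.Additive] [PreservesFiniteLimits F]
    [PreservesFiniteColimits F] (P : ObjectProperty A) (Q : ObjectProperty B)
    (h : ∀ X, P X → Q (F.obj X)) {X : A} (hX : P X) :
    SGA6.mapSub F P Q h (clSub P X) = clSub Q (F.obj X) := by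
  rw [clSub_of_prop P hX, clSub_of_prop Q (h X hX)]
  unfold SGA6.mapSub
  rw [QuotientAddGroup.map_mk, FreeAbelianGroup.map_of_apply]
  rfl

end Gen

variable {X X' U : Scheme.{u}}

theorem isCoh_of_isZero {Y : Scheme.{u}} {M : Y.Modules} (hM : IsZero M) : Coh.IsCoh M := by
  have hq : M.IsQuasicoherent := by
    have h : (SheafOfModules.free (R := Y.ringCatSheaf) PEmpty.{u+1}).IsQuasicoherent :=
      inferInstance
    have hz : IsZero (SheafOfModules.free (R := Y.ringCatSheaf) PEmpty.{u+1}) := by
      rw [IsZero.iff_id_eq_zero]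
      refine Cofan.IsColimit.hom_ext (SheafOfModules.isColimitFreeCofan _) _ _ ?_
      intro i
      exact i.elim
    exact (SheafOfModules.isQuasicoherent Y.ringCatSheaf).prop_of_iso (hz.iso hM) h
  refine ⟨hq, ?_⟩
  haveI := hq
  refine Groth.Agent.Lib.Helper23.FinType.isFiniteType_of_finite M
    (fun V : Y.affineOpens => (V : Y.Opens)) (iSup_affineOpens_eq_top Y) (fun V => V.2)
    (fun V => ?_)
  haveI := Groth.Agent.Lib.Helper20.OmegaUnr.subsingleton_sections_of_isZero hM V.1
  infer_instance

/-- `j^* i_* M = 0` when the images of `i` and `j` are disjoint -/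
theorem isZero_restrict_push (i : X' ⟶ X) (j : U ⟶ X) [IsOpenImmersion j]
    (hdis : ∀ (x' : X') (y : U), i x' ≠ j y) (M : X'.Modules) :
    IsZero ((Scheme.Modules.restrictFunctor j).obj ((Scheme.Modules.pushforward i).obj M)) := by
  refine Groth.Agent.Lib.Helper23.ModLocal.isZero_of_forall_eq_zero (fun V s => ?_)
  have hle : i ⁻¹ᵁ (j ''ᵁ V) ≤ ⊥ := by
    intro x' hx'
    obtain ⟨y, -, hy⟩ := hx'
    exact (hdis x' y hy.symm).elim
  exact Groth.Agent.Lib.Helper6.eq_zero_of_le_bot M hle (show Γ(M, i ⁻¹ᵁ (j ''ᵁ V)) from s)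

variable [IsNoetherian X]

/-- a coherent module on an open subscheme extends to a coherent module -/
theorem exists_coh_extension (j : U ⟶ X) [IsOpenImmersion j] (G : U.Modules) (hG : Coh.IsCoh G) :
    ∃ G' : X.Modules, Coh.IsCoh G' ∧
      Nonempty ((Scheme.Modules.restrictFunctor j).obj G' ≅ G) := by
  haveI : G.IsQuasicoherent := hG.1
  haveI : SheafOfModules.IsFiniteType (R := U.ringCatSheaf) G := hG.2
  haveI : ((Scheme.Modules.pushforward j).obj G).IsQuasicoherent :=
    isQuasicoherent_pushforward j G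
  let c : (Scheme.Modules.restrictFunctor j).obj ((Scheme.Modules.pushforward j).obj G) ≅ G :=
    asIso ((Scheme.Modules.restrictAdjunction j).counit.app G)
  haveI : SheafOfModules.IsFiniteType (R := U.ringCatSheaf)
      (((Scheme.Modules.pushforward j).obj G).restrict j) :=
    Groth.Agent.Lib.Helper23.FinType.isFiniteType_of_iso c.symm
  have hft : FTOn ((Scheme.Modules.pushforward j).obj G) j.opensRange :=
    ftOn_of_isFiniteType_restrict j _
  obtain ⟨F, ψ, -, hFq, hFft, hiso⟩ := exists_sub_isFiniteType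
    ((Scheme.Modules.pushforward j).obj G) j.opensRange
    (TopologicalSpace.NoetherianSpace.isCompact _) hft
  haveI : IsIso ((Scheme.Modules.restrictFunctor j).map ψ) := (isIso_restrict_iff j ψ).2 hiso
  exact ⟨F, ⟨hFq, hFft⟩, ⟨asIso ((Scheme.Modules.restrictFunctor j).map ψ) ≪≫ c⟩⟩

section Main

variable (i : X' ⟶ X) [IsClosedImmersion i] (j : U ⟶ X) [IsOpenImmersion j]
  (hU : Set.range j = (Set.range i)ᶜ)
  [(Scheme.Modules.pushforward i).Additive] [PreservesFiniteLimits (Scheme.Modules.pushforward i)]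
  [PreservesFiniteColimits (Scheme.Modules.pushforward i)]
  [PreservesFiniteLimits (Scheme.Modules.restrictFunctor j)]
  (hi : ∀ M : X'.Modules, Coh.IsCoh M → Coh.IsCoh ((Scheme.Modules.pushforward i).obj M))
  (hj : ∀ M : X.Modules, Coh.IsCoh M → Coh.IsCoh ((Scheme.Modules.restrictFunctor j).obj M))

/-- the image of `i_*` -/
abbrev R : AddSubgroup (SGA6.Kcoh X) :=
  (SGA6.mapSub (Scheme.Modules.pushforward i) (fun M : X'.Modules => Coh.IsCoh M)
    (fun M : X.Modules => Coh.IsCoh M) hi).range

theorem hz (Y : Scheme.{u}) : ∀ Z : Y.Modules, IsZero Z → Coh.IsCoh Z :=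
  fun _ hZ => isCoh_of_isZero hZ

include hU in
theorem hdis (x' : X') (y : U) : i x' ≠ j y := by
  intro h
  have h1 : j y ∈ Set.range j := ⟨y, rfl⟩
  rw [hU] at h1
  exact h1 ⟨x', h⟩

/-- classes of coherent modules killed by the ideal of `X'` are in the image of `i_*` -/
theorem clSub_mem_R_of_killed (M : X.Modules) (hM : Coh.IsCoh M)
    (hk : ClSub.KilledByIdeal i.ker M) :
    clSub (fun M : X.Modules => Coh.IsCoh M) M ∈ R i hi := by
  obtain ⟨G, hG, ⟨e⟩⟩ := Groth.Agent.S0786.result i M hM hk
  refine ⟨clSub (fun M : X'.Modules => Coh.IsCoh M) G, ?_⟩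
  rw [mapSub_clSub_gen _ _ _ hi hG]
  exact clSub_of_iso (fun M : X.Modules => Coh.IsCoh M) (hz X) e (hi G hG) hM

include hU in
/-- a coherent module vanishing on `U` has its class in the image of `i_*` -/
theorem clSub_mem_R_of_isZero_restrict (T : X.Modules) (hT : Coh.IsCoh T)
    (h0 : IsZero ((Scheme.Modules.restrictFunctor j).obj T)) :
    clSub (fun M : X.Modules => Coh.IsCoh M) T ∈ R i hi := by
  refine clSub_mem_of_vanishing i.ker (R i hi) (clSub_mem_R_of_killed i hi) T hT (fun W hW => ?_)
  have hWj : W ≤ j.opensRange := by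
    intro x hx
    change x ∈ Set.range j
    rw [hU]
    intro hxi
    have hxs : x ∈ (i.ker.support : Set X) := by
      rw [Scheme.Hom.support_ker]
      exact subset_closure hxi
    exact Set.disjoint_left.1 hW hx hxs
  have himg : j ''ᵁ (j ⁻¹ᵁ W) = W := by
    rw [Scheme.Hom.image_preimage_eq_opensRange_inf]
    exact inf_eq_right.2 hWj
  have h1 : Subsingleton Γ((Scheme.Modules.restrictFunctor j).obj T, j ⁻¹ᵁ W) :=
    Groth.Agent.Lib.Helper20.OmegaUnr.subsingleton_sections_of_isZero h0 _
  have h2 : Subsingleton Γ(T, j ''ᵁ (j ⁻¹ᵁ W)) := h1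
  rw [himg] at h2
  exact h2

include hU in
/-- `[H] - [M] ∈ im(i_*)` when `H ⟶ M` is an isomorphism on `U` -/
theorem sub_mem_R_of_isIso_restrict {H M : X.Modules} (hH : Coh.IsCoh H) (hM : Coh.IsCoh M)
    (p : H ⟶ M) [IsIso ((Scheme.Modules.restrictFunctor j).map p)] :
    clSub (fun M : X.Modules => Coh.IsCoh M) H - clSub (fun M : X.Modules => Coh.IsCoh M) M ∈
      R i hi := by
  have hK : Coh.IsCoh (kernel p) := Groth.Agent.Lib.R2H2.PdSheaf.isCoh_kernel hH hM p
  have hC : Coh.IsCoh (cokernel p) := isCoh_cokernel hH hM p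
  have hI : Coh.IsCoh (Abelian.image p) :=
    Groth.Agent.Lib.R2H2.PdSheaf.isCoh_kernel hM hC (cokernel.π p)
  -- the two short exact sequences
  let S₁ : ShortComplex X.Modules :=
    ShortComplex.mk (kernel.ι p) (Abelian.factorThruImage p) (by
      rw [← cancel_mono (Abelian.image.ι p), Category.assoc, Abelian.image.fac,
        kernel.condition, zero_comp])
  have hS₁ : S₁.ShortExact :=
    Groth.Agent.Lib.R2H2.PdSheaf.shortExact_of_factor (kernel.ι p) p (kernel.condition p)
      (kernelIsKernel p) (Abelian.factorThruImage p) (Abelian.image.ι p)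
      (Abelian.image.fac p) _
  let S₂ : ShortComplex X.Modules :=
    ShortComplex.mk (Abelian.image.ι p) (cokernel.π p) (kernel.condition (cokernel.π p))
  have hS₂ : S₂.ShortExact :=
    { exact := ShortComplex.exact_kernel (cokernel.π p)
      mono_f := inferInstanceAs (Mono (kernel.ι (cokernel.π p)))
      epi_g := inferInstanceAs (Epi (cokernel.π p)) }
  have h₁ := clSub_shortExact (fun M : X.Modules => Coh.IsCoh M) S₁ hS₁ hK hH hI
  have h₂ := clSub_shortExact (fun M : X.Modules => Coh.IsCoh M) S₂ hS₂ hI hM hC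
  change clSub _ H = clSub _ (kernel p) + clSub _ (Abelian.image p) at h₁
  change clSub _ M = clSub _ (Abelian.image p) + clSub _ (cokernel p) at h₂
  -- kernel and cokernel vanish on `U`
  haveI : PreservesColimitsOfSize.{0, 0} (Scheme.Modules.restrictFunctor j) :=
    (Scheme.Modules.restrictAdjunction j).leftAdjoint_preservesColimits
  have hK0 : IsZero ((Scheme.Modules.restrictFunctor j).obj (kernel p)) :=
    IsZero.of_iso (isZero_kernel_of_mono _)
      (PreservesKernel.iso (Scheme.Modules.restrictFunctor j) p)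
  have hC0 : IsZero ((Scheme.Modules.restrictFunctor j).obj (cokernel p)) :=
    IsZero.of_iso (isZero_cokernel_of_epi _)
      (PreservesCokernel.iso (Scheme.Modules.restrictFunctor j) p)
  have hKR := clSub_mem_R_of_isZero_restrict i j hU hi _ hK hK0
  have hCR := clSub_mem_R_of_isZero_restrict i j hU hi _ hC hC0
  have : clSub (fun M : X.Modules => Coh.IsCoh M) H - clSub (fun M : X.Modules => Coh.IsCoh M) M =
      clSub (fun M : X.Modules => Coh.IsCoh M) (kernel p) -
        clSub (fun M : X.Modules => Coh.IsCoh M) (cokernel p) := by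
    rw [h₁, h₂]; abel
  rw [this]
  exact (R i hi).sub_mem hKR hCR

include hU in
/-- two coherent modules isomorphic on `U` have the same class modulo the image of `i_*` -/
theorem sub_mem_R_of_iso_restrict {M₁ M₂ : X.Modules} (h₁ : Coh.IsCoh M₁) (h₂ : Coh.IsCoh M₂)
    (e : (Scheme.Modules.restrictFunctor j).obj M₁ ≅ (Scheme.Modules.restrictFunctor j).obj M₂) :
    clSub (fun M : X.Modules => Coh.IsCoh M) M₁ - clSub (fun M : X.Modules => Coh.IsCoh M) M₂ ∈
      R i hi := by
  obtain ⟨G, p₁, p₂, hG, hp₁, hp₂⟩ := Groth.Agent.Lib.R2H2.CohGraph.exists_graph j M₁ M₂ h₁ h₂ e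
  haveI := hp₁
  haveI := hp₂
  have ha := sub_mem_R_of_isIso_restrict i j hU hi hG h₁ p₁
  have hb := sub_mem_R_of_isIso_restrict i j hU hi hG h₂ p₂
  have : clSub (fun M : X.Modules => Coh.IsCoh M) M₁ -
      clSub (fun M : X.Modules => Coh.IsCoh M) M₂ =
      (clSub (fun M : X.Modules => Coh.IsCoh M) G - clSub (fun M : X.Modules => Coh.IsCoh M) M₂) -
      (clSub (fun M : X.Modules => Coh.IsCoh M) G - clSub (fun M : X.Modules => Coh.IsCoh M) M₁) := by
    abel
  rw [this]
  exact (R i hi).sub_mem hb ha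

end Main

end Groth.Agent.Lib.R2H2.KcohLoc
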