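import Groth.Agent.Lib.R2H2ProperFin
import Groth.Agent.Lib.R2H2PdSheaf
import Groth.Agent.Lib.R2H2NilFilt
import Groth.Agent.Lib.Helper23QCohAbelian
import Groth.Agent.Lib.Helper20OmegaUnr
import Groth.Agent.Lib.R2H3RpushQCohGen
import Groth.Agent.Lib.R2H3RpushRestrict
import Groth.Agent.Lib.Helper23ModAbBridge
import Groth.Agent.S0032
import Groth.Agent.S0025
import Groth.Agent.S16463
import Groth.Agent.Lib.Helper17RDer8
import Groth.Agent.Lib.R2H2KcohLoc
set_option backward.isDefEq.respectTransparency.types false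
/-!
# Coherence of higher direct images under proper morphisms: preparations (helper2, round 2)

* `isCoh_of_exact` : on a locally Noetherian scheme, quasi-coherent + exact between coherent
  modules implies coherent;
* `isZero_of_subsingleton_top`, `isZero_Rpush_of_subsingleton_HH` : over an affine base,
  `H^q(X, G) = 0` implies `R^q f_* G = 0`;
* `prS`, `cMap_prS`, `cMap_comp`, `isClosedImmersion_cMap'`, `isClosedImmersion_cMap_comp`
  (Chow data over a general base);
* `exists_good_module'` : the modules `π_* L(m)`, `m ≫ 0`;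
* `coh_two_of_three` : two-out-of-three for coherence of all `R^q f_*`.
-/

set_option autoImplicit false
set_option linter.style.haveILetI false
universe u

open CategoryTheory CategoryTheory.Limits AlgebraicGeometry TopologicalSpace Opposite

namespace Groth.Agent.Lib.R2H2.ProperCoh

section CohExact

variable {X : Scheme.{u}} [IsLocallyNoetherian X]

/-- on a locally Noetherian scheme, a quasi-coherent module sitting in an exact sequence between
two coherent modules is coherent -/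
theorem isCoh_of_exact (T : ShortComplex X.Modules) (hT : T.Exact) (h₁ : Coh.IsCoh T.X₁)
    (h₃ : Coh.IsCoh T.X₃) (h₂ : T.X₂.IsQuasicoherent) : Coh.IsCoh T.X₂ := by
  haveI : T.X₁.IsQuasicoherent := h₁.1
  haveI : T.X₃.IsQuasicoherent := h₃.1
  haveI : SheafOfModules.IsFiniteType (R := X.ringCatSheaf) T.X₁ := h₁.2
  haveI : SheafOfModules.IsFiniteType (R := X.ringCatSheaf) T.X₃ := h₃.2
  -- the kernel of `g` is a quotient of `X₁`
  haveI qK : (kernel T.g).IsQuasicoherent :=
    Groth.Agent.Lib.Helper23.QCohLocal.isQuasicoherent_kernel T.g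
  haveI : Epi (kernel.lift T.g T.f T.zero) := by
    have := (ShortComplex.exact_iff_epi_kernel_lift T).1 hT
    exact this
  have cK : Coh.IsCoh (kernel T.g) :=
    ⟨qK, Groth.Agent.Lib.Helper23.FinType.isFiniteType_of_epi (kernel.lift T.g T.f T.zero)⟩
  -- the image of `g` is a submodule of `X₃`
  haveI qI : (Abelian.image T.g).IsQuasicoherent := by
    haveI : (cokernel T.g).IsQuasicoherent :=
      Groth.Agent.Lib.Helper23.QCohLocal.isQuasicoherent_cokernel T.g
    exact Groth.Agent.Lib.Helper23.QCohLocal.isQuasicoherent_kernel (cokernel.π T.g)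
  have cI : Coh.IsCoh (Abelian.image T.g) :=
    ⟨qI, Groth.Agent.Lib.Helper23.FinType.isFiniteType_of_mono (Abelian.image.ι T.g)⟩
  -- the short exact sequence `0 → ker g → X₂ → im g → 0`
  let T' : ShortComplex X.Modules :=
    ShortComplex.mk (kernel.ι T.g) (Abelian.factorThruImage T.g) (by
      rw [← cancel_mono (Abelian.image.ι T.g), Category.assoc, Abelian.image.fac,
        kernel.condition, zero_comp])
  have hT' : T'.ShortExact := by
    refine ShortComplex.ShortExact.mk ?_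
    have hk : IsLimit (KernelFork.ofι (kernel.ι T.g) (show kernel.ι T.g ≫
        Abelian.factorThruImage T.g = 0 from T'.zero)) := by
      refine KernelFork.IsLimit.ofι _ _ (fun {W'} k hk => kernel.lift T.g k (by
        rw [← Abelian.image.fac T.g, ← Category.assoc, hk, zero_comp]))
        (fun k hk => kernel.lift_ι _ _ _) (fun k hk m hm => ?_)
      rw [← cancel_mono (kernel.ι T.g), hm, kernel.lift_ι]
    exact ShortComplex.exact_of_f_is_kernel T' hk
  exact Groth.Agent.Lib.R2H2.PdSheaf.isCoh_X₂ T' hT' cK cI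

end CohExact

section AffZero

/-- a quasi-coherent module on an affine scheme without nonzero global sections is zero -/
theorem isZero_of_subsingleton_top {S : Scheme.{u}} [IsAffine S] (N : S.Modules)
    [N.IsQuasicoherent] (h : Subsingleton Γ(N, ⊤)) : IsZero N := by
  have hS : IsAffineOpen (⊤ : S.Opens) := isAffineOpen_top S
  have hloc := Groth.Agent.Lib.Helper2.Push.IsLocOn.of_isQuasicoherent hS N
  refine Groth.Agent.Lib.Helper20.OmegaUnr.isZero_of_basis N
    (Set.range (S.basicOpen : Γ(S, ⊤) → S.Opens)) (isBasis_basicOpen S) ?_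
  rintro U ⟨g, rfl⟩
  refine ⟨fun s t => ?_⟩
  have key : ∀ s : Γ(N, S.basicOpen g), s = 0 := by
    intro s
    obtain ⟨n, t, ht⟩ := hloc.exists_extension g s
    have ht0 : t = 0 := Subsingleton.elim _ _
    rw [ht0, map_zero] at ht
    have hu : IsUnit ((S.presheaf.map (homOfLE (S.basicOpen_le g)).op g) ^ n) :=
      (RingedSpace.isUnit_res_basicOpen S.toRingedSpace g).pow n
    obtain ⟨v, hv⟩ := hu
    have h2 : (↑v⁻¹ : Γ(S, S.basicOpen g)) • ((v : Γ(S, S.basicOpen g)) • s) = 0 := by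
      rw [hv, ← ht, smul_zero]
    rwa [smul_smul, Units.inv_mul, one_smul] at h2
  rw [key s, key t]

end AffZero


section RpushZero

variable {X S : Scheme.{u}} (f : X ⟶ S) [QuasiCompact f] [QuasiSeparated f] [IsAffine S]
  [HasInjectiveResolutions X.Modules]

/-- over an affine base, `H^q(X, G) = 0` implies `R^q f_* G = 0` for quasi-coherent `G` -/
theorem isZero_Rpush_of_subsingleton_HH (G : X.Modules) [hG : G.IsQuasicoherent] (q : ℕ)
    (h : Subsingleton (Coh.HH X G q)) : IsZero ((Coh.Rpush f q).obj G) := by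
  haveI : Coh.IsQCoh G := hG
  obtain ⟨e1⟩ := Groth.Agent.S0032.result f G q
  obtain ⟨e2⟩ := Groth.Agent.Lib.Helper23.ModAbBridge.nonempty_toAb_Rpush_iso f G q
  haveI := Groth.Agent.Lib.R2H3.RpushQCohGen.isQuasicoherent_Rpush_of_qcqs f G q
  apply isZero_of_subsingleton_top
  haveI : Subsingleton (((Coh.RpushAb f q).obj (Coh.toAb G)).obj.obj (op ⊤)) :=
    e1.symm.toEquiv.subsingleton
  let e3 : (Coh.toAb ((Coh.Rpush f q).obj G)).obj.obj (op ⊤) ≅
      ((Coh.RpushAb f q).obj (Coh.toAb G)).obj.obj (op ⊤) :=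
    ((sheafToPresheaf _ _).mapIso e2).app (op ⊤)
  exact (e3.addCommGroupIsoToAddEquiv.toEquiv.subsingleton :
    Subsingleton ((Coh.toAb ((Coh.Rpush f q).obj G)).obj.obj (op ⊤)))

end RpushZero


section Base

open Groth.Agent.Lib.R2H2.ChowLocal Groth.Agent.Lib.R2H2.ChowLocal2 Groth.Agent.Lib.R2H2.ProperFin

variable {S W W' : Scheme.{u}} (n : ℕ) (h : W ⟶ S) (π : W' ⟶ W)
  (j : W' ⟶ CohB1.ProjSpaceOver n S)

/-- the map to `P^n_ℤ` -/
noncomputable abbrev jS : W' ⟶ CohB1.ProjSpace n (ULift.{u} ℤ) := j ≫ toZ n S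

theorem prS_comm : toZ n W ≫ CohB1.ProjSpace.toSpec n (ULift.{u} ℤ) =
    (CohB1.ProjSpaceOver.toBase n W ≫ h) ≫ specULiftZIsTerminal.from S := by
  rw [toZ_cond, Category.assoc]
  congr 1
  exact specULiftZIsTerminal.hom_ext _ _

/-- `P^n_W ⟶ P^n_S` -/
noncomputable def prS : CohB1.ProjSpaceOver n W ⟶ CohB1.ProjSpaceOver n S :=
  pullback.lift (toZ n W) (CohB1.ProjSpaceOver.toBase n W ≫ h) (prS_comm n h)

theorem prS_toZ : prS n h ≫ toZ n S = toZ n W := pullback.lift_fst _ _ _

theorem prS_toBase : prS n h ≫ CohB1.ProjSpaceOver.toBase n S =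
    CohB1.ProjSpaceOver.toBase n W ≫ h := pullback.lift_snd _ _ _

theorem cMap_prS (hj : j ≫ CohB1.ProjSpaceOver.toBase n S = π ≫ h) :
    cMap n π (jS n j) ≫ prS n h = j := by
  apply projSpaceOver_hom_ext
  · rw [Category.assoc, prS_toZ]
    exact cMap_fst n π (jS n j)
  · rw [Category.assoc, prS_toBase, ← Category.assoc, cMap_toBase, hj]

theorem cMap_comp (hj : j ≫ CohB1.ProjSpaceOver.toBase n S = π ≫ h) :
    cMap n (π ≫ h) (jS n j) = j := by
  apply projSpaceOver_hom_ext
  · exact cMap_fst n (π ≫ h) (jS n j)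
  · rw [cMap_toBase, hj]

theorem isClosedImmersion_cMap' [IsImmersion j] [IsProper π]
    (hj : j ≫ CohB1.ProjSpaceOver.toBase n S = π ≫ h) :
    IsClosedImmersion (cMap n π (jS n j)) := by
  haveI : IsImmersion (cMap n π (jS n j) ≫ prS n h) := by
    rw [cMap_prS n h π j hj]; infer_instance
  haveI : IsImmersion (cMap n π (jS n j)) := IsImmersion.of_comp _ (prS n h)
  haveI := Groth.Agent.S9705.isProper_toBase n W
  haveI : IsProper (cMap n π (jS n j) ≫ CohB1.ProjSpaceOver.toBase n W) := by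
    rw [cMap_toBase]; infer_instance
  haveI : IsProper (cMap n π (jS n j)) := IsProper.of_comp _ (CohB1.ProjSpaceOver.toBase n W)
  exact isClosedImmersion_of_isProper_of_isImmersion _

theorem isClosedImmersion_cMap_comp [IsImmersion j] [IsProper (π ≫ h)]
    (hj : j ≫ CohB1.ProjSpaceOver.toBase n S = π ≫ h) :
    IsClosedImmersion (cMap n (π ≫ h) (jS n j)) := by
  rw [cMap_comp n h π j hj]
  haveI := Groth.Agent.S9705.isProper_toBase n S
  haveI : IsProper (j ≫ CohB1.ProjSpaceOver.toBase n S) := by rw [hj]; infer_instance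
  haveI : IsProper j := IsProper.of_comp j (CohB1.ProjSpaceOver.toBase n S)
  exact isClosedImmersion_of_isProper_of_isImmersion j

end Base


section Good

open Groth.Agent.Lib.R2H2.ChowLocal Groth.Agent.Lib.R2H2.ChowLocal2 Groth.Agent.Lib.R2H2.ProperFin
  Groth.Agent.Lib.R2H2.AffPushLin Groth.Agent.Lib.R2H2.LerayNat2 Groth.Agent.Lib.R2H2.LerayNat
  Groth.Agent.Lib.Helper23.AffVanish

variable {S W W' : Scheme.{u}} (n : ℕ) (h : W ⟶ S) (π : W' ⟶ W)
  (j : W' ⟶ CohB1.ProjSpaceOver n S)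

/-- **the modules `π_* L(m)`, `m ≫ 0`**: coherent, with coherent direct image on the affine
Noetherian base and without higher cohomology -/
theorem exists_good_module' [IsAffine S] [IsLocallyNoetherian S] [IsLocallyNoetherian W]
    [IsProper h] [IsProper π] [IsImmersion j]
    (hj : j ≫ CohB1.ProjSpaceOver.toBase n S = π ≫ h) :
    ∃ m₀ : ℤ, ∀ m : ℤ, m₀ ≤ m →
      Coh.IsCoh ((Scheme.Modules.pushforward π).obj (L n (jS n j) m)) ∧
      Coh.IsCoh ((Scheme.Modules.pushforward (π ≫ h)).obj (L n (jS n j) m)) ∧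
      ∀ q : ℕ, Subsingleton
        (Coh.HH W ((Scheme.Modules.pushforward π).obj (L n (jS n j) m)) (q + 1)) := by
  haveI c1 := isClosedImmersion_cMap' n h π j hj
  haveI c2 := isClosedImmersion_cMap_comp n h π j hj
  haveI : CompactSpace W := QuasiCompact.compactSpace_of_compactSpace h
  obtain ⟨ι, hfin, V, hcov, hVa, hV⟩ := exists_affine_cover_of_isSeparated h
  obtain ⟨m₀, hm₀⟩ := exists_leray n π (jS n j) V hV
  have hS : IsAffineOpen (⊤ : S.Opens) := isAffineOpen_top S
  haveI : IsNoetherianRing Γ(S, ⊤) := IsLocallyNoetherian.component_noetherian ⟨⊤, hS⟩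
  obtain ⟨m₁, hm₁⟩ := exists_vanishing_HU n (π ≫ h) (jS n j) hS
  refine ⟨max m₀ m₁, fun m hm => ?_⟩
  have cP := isCoh_push_L n π (jS n j) m
  refine ⟨cP, isCoh_push_L n (π ≫ h) (jS n j) m, fun q => ?_⟩
  haveI : ((Scheme.Modules.pushforward π).obj (L n (jS n j) m)).IsQuasicoherent := cP.1
  have hF' : Leray ((CohTop.push π.base).obj (ab' (L n (jS n j) m))) V := by
    intro p a q
    exact subsingleton_HE_of_isAffineOpen (hV p a)
      ((Scheme.Modules.pushforward π).obj (L n (jS n j) m)) q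
  obtain ⟨E, -⟩ := exists_top_natural π.base V (ab' (L n (jS n j) m)) hcov
    (hm₀ m ((le_max_left _ _).trans hm)) hF' (q + 1)
  obtain ⟨e3, -⟩ := exists_HU_equiv (ab' (L n (jS n j) m)) (q + 1) ((π ≫ h) ⁻¹ᵁ ⊤) rfl
  haveI := hm₁ m ((le_max_right _ _).trans hm) q
  haveI : Subsingleton (CohTop.H (ab' (L n (jS n j) m)) (q + 1)) :=
    e3.symm.toEquiv.subsingleton
  exact (E.symm.toEquiv.subsingleton :
    Subsingleton (CohTop.H ((CohTop.push π.base).obj (ab' (L n (jS n j) m))) (q + 1)))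

end Good


section Main

open Groth.Agent.Lib.R2H2.ChowLocal Groth.Agent.Lib.R2H2.ProperFin Groth.Agent.Lib.R2H2.StalkPow
  Groth.Agent.Lib.R2H2.AffPushLin

variable {X S : Scheme.{u}} (f : X ⟶ S) [HasInjectiveResolutions X.Modules]

instance : PreservesFiniteLimits (Coh.push f) := by
  haveI : PreservesLimitsOfSize.{0, 0} (Coh.push f) :=
    (Scheme.Modules.pullbackPushforwardAdjunction f).rightAdjoint_preservesLimits
  exact PreservesLimitsOfSize.preservesFiniteLimits _

/-- the two-out-of-three property of coherence of all higher direct images -/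
theorem coh_two_of_three [QuasiCompact f] [QuasiSeparated f] [IsLocallyNoetherian S]
    (T : ShortComplex X.Modules) (hT : T.ShortExact)
    (q₁ : T.X₁.IsQuasicoherent) (q₂ : T.X₂.IsQuasicoherent) (q₃ : T.X₃.IsQuasicoherent) :
    ((∀ q, Coh.IsCoh ((Coh.Rpush f q).obj T.X₁)) → (∀ q, Coh.IsCoh ((Coh.Rpush f q).obj T.X₂)) →
      ∀ q, Coh.IsCoh ((Coh.Rpush f q).obj T.X₃)) ∧
    ((∀ q, Coh.IsCoh ((Coh.Rpush f q).obj T.X₁)) → (∀ q, Coh.IsCoh ((Coh.Rpush f q).obj T.X₃)) →
      ∀ q, Coh.IsCoh ((Coh.Rpush f q).obj T.X₂)) ∧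
    ((∀ q, Coh.IsCoh ((Coh.Rpush f q).obj T.X₂)) → (∀ q, Coh.IsCoh ((Coh.Rpush f q).obj T.X₃)) →
      ∀ q, Coh.IsCoh ((Coh.Rpush f q).obj T.X₁)) := by
  have := Groth.Agent.S0484.result (Opens.grothendieckTopology X) X.ringCatSheaf
  haveI : EnoughInjectives X.Modules :=
    inferInstanceAs (EnoughInjectives (SheafOfModules.{u} X.ringCatSheaf))
  obtain ⟨Δ⟩ := Groth.Agent.S16463.result (Coh.push f)
  have Q₁ := fun q => Groth.Agent.Lib.R2H3.RpushQCohGen.isQuasicoherent_Rpush_of_qcqs f T.X₁ q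
  have Q₂ := fun q => Groth.Agent.Lib.R2H3.RpushQCohGen.isQuasicoherent_Rpush_of_qcqs f T.X₂ q
  have Q₃ := fun q => Groth.Agent.Lib.R2H3.RpushQCohGen.isQuasicoherent_Rpush_of_qcqs f T.X₃ q
  refine ⟨fun h₁ h₂ q => ?_, fun h₁ h₃ q => ?_, fun h₂ h₃ q => ?_⟩
  · exact isCoh_of_exact _ (Δ.exact₃ T hT q (q + 1) rfl) (h₂ q) (h₁ (q + 1)) (Q₃ q)
  · exact isCoh_of_exact _ (Δ.exact₂ T hT q) (h₁ q) (h₃ q) (Q₂ q)
  · cases q with
    | zero =>
      haveI : Mono (((Coh.push f).rightDerived 0).map T.f) :=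
        Groth.Agent.Lib.Helper17.RDerLib.mono_rightDerived_zero_map_f (Coh.push f)
          (Groth.Agent.Lib.Helper17.RDerLib.horseshoe T hT)
      haveI := Q₁ 0
      haveI := Q₂ 0
      haveI : SheafOfModules.IsFiniteType (R := S.ringCatSheaf) ((Coh.Rpush f 0).obj T.X₂) :=
        (h₂ 0).2
      exact ⟨Q₁ 0, Groth.Agent.Lib.Helper23.FinType.isFiniteType_of_mono
        (((Coh.push f).rightDerived 0).map T.f)⟩
    | succ q =>
      exact isCoh_of_exact _ (Δ.exact₁ T hT q (q + 1) rfl) (h₃ q) (h₂ (q + 1)) (Q₁ (q + 1))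

end Main


end Groth.Agent.Lib.R2H2.ProperCoh
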