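import Groth.Agent.S10865
import Groth.Agent.Lib.R2H2ProperCoh
set_option backward.isDefEq.respectTransparency.types false
/-!
# Coherence of direct images by dévissage (helper2, round 2)

`isCoh_push_of_witness` : for `f : X ⟶ Y` between Noetherian schemes, if every integral closed
subscheme `Z` of `X` carries a coherent module with nonzero generic stalk whose direct image in `Y`
is coherent, then `f_* F` is coherent for every coherent `F` (EGA III 3.1.3 pattern).
-/

set_option autoImplicit false
set_option linter.style.haveILetI false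
universe u

open CategoryTheory CategoryTheory.Limits AlgebraicGeometry TopologicalSpace Opposite

namespace Groth.Agent.Lib.R2H2.PushCoh

open Groth.Agent.Lib.R2H2.ProperCoh

variable {X Y : Scheme.{u}} [IsNoetherian X] [IsNoetherian Y] (f : X ⟶ Y)

instance : PreservesFiniteLimits (Scheme.Modules.pushforward f) :=
  inferInstanceAs (PreservesFiniteLimits (Coh.push f))

omit [AlgebraicGeometry.IsNoetherian X] in
theorem isZero_of_isEmpty [IsEmpty X] (F : X.Modules) : IsZero F := by
  have key : ∀ W : X.Opens, Subsingleton Γ(F, W) := by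
    intro W
    refine ⟨fun s t => ?_⟩
    exact F.isSheaf.section_ext (U := op W) fun x _ => (IsEmpty.false x).elim
  rw [IsZero.iff_id_eq_zero]
  apply Scheme.Modules.hom_ext
  intro U
  ext x
  haveI := key U
  exact Subsingleton.elim _ _

/-- **coherence of direct images from witnesses on the integral closed subschemes** -/
theorem isCoh_push_of_witness
    (hgen : ∀ (Z : Scheme.{u}) (i : Z ⟶ X) [IsClosedImmersion i] [IsIntegral Z],
      ∃ H : Z.Modules, Coh.IsCoh H ∧ Nontrivial (H.presheaf.stalk (genericPoint Z)) ∧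
        Coh.IsCoh ((Scheme.Modules.pushforward (i ≫ f)).obj H))
    (F : X.Modules) (hF : Coh.IsCoh F) : Coh.IsCoh ((Scheme.Modules.pushforward f).obj F) := by
  rcases isEmpty_or_nonempty X with hX | hX
  · exact Groth.Agent.Lib.R2H2.KcohLoc.isCoh_of_isZero
      ((Scheme.Modules.pushforward f).map_isZero (isZero_of_isEmpty F))
  let K : ObjectProperty X.Modules := fun G => Coh.IsCoh ((Scheme.Modules.pushforward f).obj G)
  haveI : K.IsClosedUnderIsomorphisms :=
    ⟨fun {G G'} e hG => Groth.Agent.Lib.R2H2.PdSheaf.isCoh_of_iso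
      ((Scheme.Modules.pushforward f).mapIso e) hG⟩
  have hq : ∀ G : X.Modules, Coh.IsCoh G →
      ((Scheme.Modules.pushforward f).obj G).IsQuasicoherent := fun G hG => by
    haveI : G.IsQuasicoherent := hG.1
    exact Groth.Agent.Lib.Helper23.QCohLocal.isQuasicoherent_pushforward f G
  refine Groth.Agent.S10865.result X K ?_ ?_ ?_ F hF
  · intro S hS c₁ c₂ c₃
    haveI := hS.mono_f
    have hex : (S.map (Scheme.Modules.pushforward f)).Exact :=
      (hS.exact.map_of_mono_of_preservesKernel (Scheme.Modules.pushforward f) inferInstance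
        inferInstance)
    haveI : Mono ((Scheme.Modules.pushforward f).map S.f) := inferInstance
    refine ⟨fun h₂ _ => ?_, fun h₁ h₃ => ?_⟩
    · haveI := hq S.X₁ c₁
      haveI := h₂.1
      haveI : SheafOfModules.IsFiniteType (R := Y.ringCatSheaf)
        ((Scheme.Modules.pushforward f).obj S.X₂) := h₂.2
      exact ⟨hq S.X₁ c₁, Groth.Agent.Lib.Helper23.FinType.isFiniteType_of_mono
        ((Scheme.Modules.pushforward f).map S.f)⟩
    · exact isCoh_of_exact (S.map (Scheme.Modules.pushforward f)) hex h₁ h₃ (hq S.X₂ c₂)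
  · intro G d hd cG hK
    obtain ⟨j⟩ : Nonempty (Fin d) := ⟨⟨0, hd⟩⟩
    haveI := hq G cG
    haveI := hK.1
    haveI : SheafOfModules.IsFiniteType (R := Y.ringCatSheaf)
      ((Scheme.Modules.pushforward f).obj (∐ fun _ : Fin d => G)) := hK.2
    classical
    let ρ : (∐ fun _ : Fin d => G) ⟶ G := Sigma.desc (fun k => if k = j then 𝟙 G else 0)
    have hρ : Sigma.ι (fun _ : Fin d => G) j ≫ ρ = 𝟙 G := by
      rw [Sigma.ι_desc, if_pos rfl]
    haveI : IsSplitEpi ((Scheme.Modules.pushforward f).map ρ) :=
      IsSplitEpi.mk' ⟨(Scheme.Modules.pushforward f).map (Sigma.ι (fun _ : Fin d => G) j), by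
        rw [← Functor.map_comp, hρ, CategoryTheory.Functor.map_id]⟩
    exact ⟨hq G cG, Groth.Agent.Lib.Helper23.FinType.isFiniteType_of_epi
      ((Scheme.Modules.pushforward f).map ρ)⟩
  · intro Z i _ _
    obtain ⟨H, cH, hnt, hc⟩ := hgen Z i
    exact ⟨H, cH, hnt, Groth.Agent.Lib.R2H2.PdSheaf.isCoh_of_iso
      ((Scheme.Modules.pushforwardComp i f).app H).symm hc⟩

end Groth.Agent.Lib.R2H2.PushCoh
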