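import Mathlib
import Groth.Prelude.Def_DCoh3
import Groth.Agent.Lib.H6xClPushB
import Groth.Agent.Lib.H6xPCTermA
import Groth.Agent.Lib.R2H2PushCoh
set_option backward.isDefEq.respectTransparency.types false

/-!
# Direct image along a closed immersion preserves pseudo-coherence (helper6)
-/

set_option autoImplicit false
set_option linter.style.haveILetI false
universe u
open CategoryTheory CategoryTheory.Limits AlgebraicGeometry TopologicalSpace Opposite
  CategoryTheory.Pretriangulated

attribute [local instance] HasDerivedCategory.standard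

namespace Groth.Agent.Lib.H6xClPush

open Groth.Agent.Lib.H6xPCoh Groth.Agent.Lib.H6xPC3 Groth.Agent.Lib.H6xPCTerm DerivedCategory

section coproducts

variable {X : Scheme.{u}}

lemma pc_inD_biprod {m : ℤ} (A B : X.Modules) (hA : DCoh.IsPseudoCoherentD m (DCoh.inD X A))
    (hB : DCoh.IsPseudoCoherentD m (DCoh.inD X B)) :
    DCoh.IsPseudoCoherentD m (DCoh.inD X (A ⊞ B)) := by
  have hS : (ShortComplex.mk (biprod.inl : A ⟶ A ⊞ B) biprod.snd (by simp)).ShortExact :=
    (ShortComplex.Splitting.ofHasBinaryBiproduct A B).shortExact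
  exact (triangle m hS.singleTriangle hS.singleTriangle_distinguished).2.1 hA hB

lemma pc_inD_sigma_fin (m : ℤ) : ∀ (n : ℕ) (f : Fin n → X.Modules),
    (∀ k, DCoh.IsPseudoCoherentD m (DCoh.inD X (f k))) →
      DCoh.IsPseudoCoherentD m (DCoh.inD X (∐ f))
  | 0 => fun f _ => by
      have hz : IsZero (∐ f) := by
        rw [IsZero.iff_id_eq_zero]
        exact Sigma.hom_ext _ _ (fun k => Fin.elim0 k)
      exact isPseudoCoherentD_of_isZero _
        ((DerivedCategory.singleFunctor X.Modules 0).map_isZero hz) _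
  | n + 1 => fun f hf => by
      let c₁ : Cofan fun k : Fin n => f k.succ := Cofan.mk (∐ fun k : Fin n => f k.succ)
        (Sigma.ι _)
      have t₁ : IsColimit c₁ := coproductIsCoproduct _
      let c₂ : BinaryCofan (f 0) c₁.pt := (BinaryBiproduct.bicone (f 0) c₁.pt).toCocone
      have t₂ : IsColimit c₂ := BinaryBiproduct.isColimit (f 0) c₁.pt
      have t := extendCofanIsColimit f t₁ t₂
      let e : ∐ f ≅ f 0 ⊞ (∐ fun k : Fin n => f k.succ) :=
        (coproductIsCoproduct f).coconePointUniqueUpToIso t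
      have h2 := pc_inD_biprod (f 0) (∐ fun k : Fin n => f k.succ) (hf 0)
        (pc_inD_sigma_fin m n _ (fun k => hf k.succ))
      exact isPseudoCoherentD_of_iso'
        ((DerivedCategory.singleFunctor X.Modules 0).mapIso e.symm) h2

end coproducts

variable {Z X : Scheme.{u}} {i : Z ⟶ X} [IsClosedImmersion i]

/-- `i_*` of a free module of finite rank is pseudo-coherent -/
lemma pc_push_free (hO : PushOPC i) (n : ℕ) (P : Z.Modules) (e : P ≅ FlatMod.freeMod Z n)
    (m : ℤ) : DCoh.IsPseudoCoherentD m (DCoh.inD X ((Scheme.Modules.pushforward i).obj P)) := by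
  haveI := Groth.Agent.Lib.H6xClImmAdj.pushforward_preservesColimits_of_isClosedEmbedding i
    i.isClosedEmbedding
  let e2 : (Scheme.Modules.pushforward i).obj (FlatMod.freeMod Z n) ≅
      ∐ fun _ : Fin n => (Scheme.Modules.pushforward i).obj (Coh.structureModule Z) :=
    PreservesCoproduct.iso (Scheme.Modules.pushforward i) _
  have h := pc_inD_sigma_fin m n
    (fun _ : Fin n => (Scheme.Modules.pushforward i).obj (Coh.structureModule Z))
    (fun _ => hO m)
  exact isPseudoCoherentD_of_iso' ((DerivedCategory.singleFunctor X.Modules 0).mapIso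
    ((Scheme.Modules.pushforward i).mapIso e ≪≫ e2).symm) h

end Groth.Agent.Lib.H6xClPush

namespace Groth.Agent.Lib.H6xClPush

open Groth.Agent.Lib.H6xPCoh Groth.Agent.Lib.H6xPC3 Groth.Agent.Lib.H6xPCTerm DerivedCategory

variable {Z X : Scheme.{u}} {i : Z ⟶ X} [IsClosedImmersion i]

/-- `i_*` of a finite locally free module is pseudo-coherent -/
lemma pc_push_finLocFree (hO : PushOPC i) (P : Z.Modules) (hP : FlatMod.IsFinLocFree P) (m : ℤ) :
    DCoh.IsPseudoCoherentD m (DCoh.inD X ((Scheme.Modules.pushforward i).obj P)) := by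
  rw [isPseudoCoherentD_iff_pcAt]
  intro x
  obtain ⟨V, hxV, n, ⟨e⟩⟩ : ∃ V : X.Opens, x ∈ V ∧ ∃ n : ℕ,
      Nonempty (P.restrict (i ⁻¹ᵁ V).ι ≅ FlatMod.freeMod (i ⁻¹ᵁ V : Scheme.{u}) n) := by
    by_cases hx : x ∈ Set.range i
    · obtain ⟨z, rfl⟩ := hx
      obtain ⟨W, n, hzW, ⟨e⟩⟩ := hP z
      obtain ⟨V, rfl⟩ := exists_preimage_eq i W
      exact ⟨V, hzW, n, ⟨e⟩⟩
    · refine ⟨complRange i, hx, 0, ⟨?_⟩⟩
      exact (Groth.Agent.Lib.R2H2.PushCoh.isZero_of_isEmpty _).iso
        (Groth.Agent.Lib.R2H2.PushCoh.isZero_of_isEmpty _)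
  refine pcAt_of_isPseudoCoherentD_restrictD V x hxV ?_
  have h := pc_push_free (hO.restrict V) n (P.restrict (i ⁻¹ᵁ V).ι) e m
  exact isPseudoCoherentD_of_iso'
    ((DerivedCategory.singleFunctor _ 0).mapIso
      ((Groth.Agent.Lib.R2H3.RpushRestrict.restrictPushIso i V).app P).symm ≪≫
      (restrictDInD ((Scheme.Modules.pushforward i).obj P) V).symm) h

/-- `i_*` of a strictly perfect complex is pseudo-coherent -/
lemma pc_push_strictlyPerfect (hO : PushOPC i) (P : CochainComplex Z.Modules ℤ)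
    (hP : DCoh.IsStrictlyPerfect P) (m : ℤ) :
    DCoh.IsPseudoCoherentD m (DCoh.toD X
      (((Scheme.Modules.pushforward i).mapHomologicalComplex (ComplexShape.up ℤ)).obj P)) := by
  obtain ⟨⟨a, b, hab⟩, hflf⟩ := hP
  refine isPseudoCoherentD_of_termwise m b _ (fun j hj => ?_) (fun j => ?_)
  · exact (Scheme.Modules.pushforward i).map_isZero (hab j (Or.inr hj))
  · exact pc_push_finLocFree hO (P.X j) (hflf j) (m - j)

/-- `i_*` of a globally approximated object is pseudo-coherent -/
lemma pc_push_of_pcGlobal (hO : PushOPC i) {m : ℤ} {E : DCoh.D Z} (hE : PCGlobal m E) :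
    DCoh.IsPseudoCoherentD m ((Scheme.Modules.pushforward i).mapDerivedCategory.obj E) := by
  obtain ⟨P, α, hP, h1, h2⟩ := hE
  have hA : DCoh.IsPseudoCoherentD m
      ((Scheme.Modules.pushforward i).mapDerivedCategory.obj (DerivedCategory.Q.obj P)) :=
    isPseudoCoherentD_of_iso'
      ((Scheme.Modules.pushforward i).mapDerivedCategoryFactors.app P).symm
      (pc_push_strictlyPerfect hO P hP m)
  refine isPseudoCoherentD_of_map hA ((Scheme.Modules.pushforward i).mapDerivedCategory.map α)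
    (fun j hj => ?_) ?_
  · haveI := h1 j hj
    exact isIso_homology_mapDerivedCategory_map (Scheme.Modules.pushforward i) α j
  · exact epi_homology_mapDerivedCategory_map (Scheme.Modules.pushforward i) α m

open ZeroObject in
/-- every object on the empty scheme is globally approximated -/
lemma pcGlobal_of_isEmpty {Y : Scheme.{u}} [IsEmpty Y] (m : ℤ) (E : DCoh.D Y) : PCGlobal m E := by
  refine ⟨0, 0, Groth.Agent.Lib.H6xPerfLoc.isStrictlyPerfect_zero Y, fun j _ => ?_, ?_⟩
  · exact IsZero.isIso (Groth.Agent.Lib.R2H2.PushCoh.isZero_of_isEmpty _)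
      (Groth.Agent.Lib.R2H2.PushCoh.isZero_of_isEmpty _) _
  · exact IsZero.epi (Groth.Agent.Lib.R2H2.PushCoh.isZero_of_isEmpty _) _

/-- **S1102**, forward direction -/
theorem pc_push (hO : PushOPC i) {m : ℤ} {E : DCoh.D Z} (hE : DCoh.IsPseudoCoherentD m E) :
    DCoh.IsPseudoCoherentD m ((Scheme.Modules.pushforward i).mapDerivedCategory.obj E) := by
  rw [isPseudoCoherentD_iff_pcAt]
  intro x
  obtain ⟨V, hxV, hG⟩ : ∃ V : X.Opens, x ∈ V ∧
      PCGlobal m ((DCoh.restrictD (i ⁻¹ᵁ V).ι).obj E) := by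
    by_cases hx : x ∈ Set.range i
    · obtain ⟨z, rfl⟩ := hx
      obtain ⟨W, hzW, P, α, hP, h1, h2⟩ := (isPseudoCoherentD_iff_opens m E).1 hE z
      obtain ⟨V, rfl⟩ := exists_preimage_eq i W
      exact ⟨V, hzW, P, α, hP, h1, h2⟩
    · exact ⟨complRange i, hx, pcGlobal_of_isEmpty m _⟩
  refine pcAt_of_isPseudoCoherentD_restrictD V x hxV ?_
  obtain ⟨e⟩ := nonempty_restrictD_push_iso i V E
  exact isPseudoCoherentD_of_iso' e.symm (pc_push_of_pcGlobal (hO.restrict V) hG)

end Groth.Agent.Lib.H6xClPush
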