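import Mathlib
import Groth.Prelude.Def_DCoh3
import Groth.Agent.Lib.H6xClPushC
import Groth.Agent.Lib.Helper18Grp6
import Groth.Agent.Lib.R2H2ClosedPn
import Groth.Agent.Lib.Helper23FinType
set_option backward.isDefEq.respectTransparency.types false

/-!
# Direct image along a closed immersion reflects finite type (local generators) (helper6)
-/

set_option autoImplicit false
set_option linter.style.haveILetI false
universe u
open CategoryTheory CategoryTheory.Limits AlgebraicGeometry TopologicalSpace Opposite
  CategoryTheory.Pretriangulated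

attribute [local instance] HasDerivedCategory.standard

namespace Groth.Agent.Lib.H6xClPush

open Groth.Agent.Lib.H6xPCoh Groth.Agent.Lib.H6xPC3 DerivedCategory

variable {Z X : Scheme.{u}} (i : Z ⟶ X) [IsClosedImmersion i]

/-- epimorphisms from free modules to `i_* N` descend to `N` -/
lemma exists_epi_free_of_epi_push (N : Z.Modules) (I : Type u)
    (p : SheafOfModules.free (R := X.ringCatSheaf) I ⟶ (Scheme.Modules.pushforward i).obj N)
    (hp : Epi p) : ∃ q : SheafOfModules.free (R := Z.ringCatSheaf) I ⟶ N, Epi q := by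
  let adj := Scheme.Modules.pullbackPushforwardAdjunction i
  haveI : Epi (adj.counit.app N) :=
    Groth.Agent.Lib.R2H2.ClosedPn.epi_counit_of_isEmbedding i i.isClosedEmbedding.isEmbedding N
  haveI : (Scheme.Modules.pullback i).PreservesEpimorphisms :=
    Functor.preservesEpimorphisms_of_adjunction adj
  let p' : (SheafOfModules.free (R := X.ringCatSheaf) I : X.Modules) ⟶
    (Scheme.Modules.pushforward i).obj N := p
  haveI hp' : Epi p' := hp
  haveI : Epi ((Scheme.Modules.pullback i).map p') :=
    @Functor.map_epi _ _ _ _ (Scheme.Modules.pullback i) _ _ _ p' hp'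
  refine ⟨(Groth.Agent.Helper18Grp.pullbackFreeIso i I).inv ≫ (Scheme.Modules.pullback i).map p' ≫
    adj.counit.app N, ?_⟩
  haveI h2 : Epi ((Scheme.Modules.pullback i).map p' ≫ adj.counit.app N) :=
    epi_comp' inferInstance inferInstance
  exact epi_comp' inferInstance h2

/-- if `i_* N` is of finite type, then `N` is locally generated by finitely many sections, over
preimages of opens of `X` -/
theorem exists_epi_free_of_isFT_push (N : Z.Modules)
    (hN : CohB1.IsFT ((Scheme.Modules.pushforward i).obj N)) (z : Z) :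
    ∃ V : X.Opens, i z ∈ V ∧ ∃ (I : Type u) (_ : Finite I)
      (q : SheafOfModules.free (R := (i ⁻¹ᵁ V : Scheme.{u}).ringCatSheaf) I ⟶
        N.restrict (i ⁻¹ᵁ V).ι), Epi q := by
  haveI := hN
  obtain ⟨ι, U, G, hfin, hcov, -⟩ :=
    Groth.Agent.Lib.Helper23.FinType.exists_isOpenCover_generatingSections
      ((Scheme.Modules.pushforward i).obj N)
  have hx : i z ∈ (⨆ k, U k) := by rw [hcov.iSup_eq_top]; trivial
  obtain ⟨k, hk⟩ := Opens.mem_iSup.1 hx
  haveI := hfin k
  let p : SheafOfModules.free (R := (U k : Scheme.{u}).ringCatSheaf) (G k).I ⟶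
      (Scheme.Modules.pushforward (i ∣_ U k)).obj (N.restrict (i ⁻¹ᵁ U k).ι) :=
    (G k).π ≫ ((Groth.Agent.Lib.R2H3.RpushRestrict.restrictPushIso i (U k)).app N).hom
  haveI : Epi p := epi_comp _ _
  obtain ⟨q, hq⟩ := exists_epi_free_of_epi_push (i ∣_ U k) (N.restrict (i ⁻¹ᵁ U k).ι) (G k).I p
    inferInstance
  exact ⟨U k, hk, (G k).I, inferInstance, q, hq⟩

end Groth.Agent.Lib.H6xClPush
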