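import Mathlib
import Groth.Prelude.Def_DCoh3
import Groth.Agent.Lib.H6xClPushD
import Groth.Agent.Lib.H6xLocLiftC
set_option backward.isDefEq.respectTransparency.types false

/-!
# Direct image along a closed immersion reflects pseudo-coherence: the inductive step (helper6)
-/

set_option autoImplicit false
set_option linter.style.haveILetI false
universe u
open CategoryTheory CategoryTheory.Limits AlgebraicGeometry TopologicalSpace Opposite
  CategoryTheory.Pretriangulated

attribute [local instance] HasDerivedCategory.standard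

namespace Groth.Agent.Lib.H6xClPush

open Groth.Agent.Lib.H6xPCoh Groth.Agent.Lib.H6xPC3 Groth.Agent.Lib.H6xPCTerm
  Groth.Agent.Lib.H6xLocLift DerivedCategory

section general

variable {X : Scheme.{u}}

/-- a finite locally free module placed in degree `b` is strictly perfect -/
lemma isStrictlyPerfect_single' (b : ℤ) (P : X.Modules) (hP : FlatMod.IsFinLocFree P) :
    DCoh.IsStrictlyPerfect
      ((HomologicalComplex.single X.Modules (ComplexShape.up ℤ) b).obj P) := by
  refine ⟨⟨b, b, fun i hi => ?_⟩, fun i => ?_⟩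
  · exact HomologicalComplex.isZero_single_obj_X (ComplexShape.up ℤ) b P i (by omega)
  · by_cases hi : i = b
    · subst hi
      exact Groth.Agent.H3.FLF.isFinLocFree_of_iso
        (HomologicalComplex.singleObjXSelf (ComplexShape.up ℤ) i P).symm hP
    · exact Groth.Agent.Lib.R2H2.PdSheaf.isFinLocFree_of_isZero _
        (HomologicalComplex.isZero_single_obj_X (ComplexShape.up ℤ) b P i hi)

lemma isLE_restrictD' {U : Scheme.{u}} (j : U ⟶ X) [IsOpenImmersion j] (E : DCoh.D X) (b : ℤ)
    [E.IsLE b] : ((DCoh.restrictD j).obj E).IsLE b := by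
  rw [DerivedCategory.isLE_iff]
  intro i hi
  obtain ⟨e2⟩ := Groth.Agent.Lib.H6xSuppPush.nonempty_homology_mapDerivedCategory_iso
    (Scheme.Modules.restrictFunctor j) E i
  exact IsZero.of_iso (Functor.map_isZero _ (DerivedCategory.isZero_of_isLE E b i hi)) e2

end general

end Groth.Agent.Lib.H6xClPush

namespace Groth.Agent.Lib.H6xClPush

open Groth.Agent.Lib.H6xPCoh Groth.Agent.Lib.H6xPC3 Groth.Agent.Lib.H6xPCTerm
  Groth.Agent.Lib.H6xLocLift DerivedCategory

variable {Z X : Scheme.{u}} {i : Z ⟶ X} [IsClosedImmersion i]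

/-- the inductive step: if the top cohomology is globally generated by finitely many sections -/
theorem step (hO : PushOPC i) (m b : ℤ) (E : DCoh.D Z) [E.IsLE b]
    (hpush : DCoh.IsPseudoCoherentD m
      ((Scheme.Modules.pushforward i).mapDerivedCategory.obj E))
    (P : Z.Modules) (hP : FlatMod.IsFinLocFree P) (σ : P ⟶ DCoh.HD E b) (hσ : Epi σ)
    (IH : ∀ (V : X.Opens) (C : DCoh.D (i ⁻¹ᵁ V : Scheme.{u})), C.IsLE (b - 1) →
      DCoh.IsPseudoCoherentD m
        ((Scheme.Modules.pushforward (i ∣_ V)).mapDerivedCategory.obj C) →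
      DCoh.IsPseudoCoherentD m C)
    (z : Z) : PCAt m E z := by
  -- truncation
  obtain ⟨X₁, X₂, hX₁, hX₂, u', v, w, hT⟩ := TStructure.t.exists_triangle E (b - 1) b (by omega)
  haveI : X₁.IsLE (b - 1) := ⟨hX₁⟩
  haveI : X₂.IsGE b := ⟨hX₂⟩
  let T := Triangle.mk u' v w
  have hX₁z : ∀ j : ℤ, b - 1 < j → IsZero ((homologyFunctor _ j).obj X₁) := fun j hj =>
    isZero_of_isLE X₁ (b - 1) j hj
  have hEz : ∀ j : ℤ, b < j → IsZero ((homologyFunctor _ j).obj E) := fun j hj =>
    isZero_of_isLE E b j hj
  haveI : X₂.IsLE b := by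
    rw [isLE_iff]
    intro j hj
    exact (HomologySequence.exact₃ T hT j (j + 1) rfl).isZero_of_both_zeros
      ((hEz j hj).eq_of_src _ _) ((hX₁z (j + 1) (by omega)).eq_of_tgt _ _)
  obtain ⟨A, ⟨eA⟩⟩ := exists_iso_singleFunctor_obj_of_isGE_of_isLE X₂ b
  haveI hvb : IsIso ((homologyFunctor _ b).map v) := by
    haveI : Mono ((homologyFunctor _ b).map T.mor₂) :=
      (HomologySequence.mono_homologyMap_mor₂_iff T hT b).2
        ((hX₁z b (by omega)).eq_of_src _ _)
    haveI : Epi ((homologyFunctor _ b).map T.mor₂) :=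
      (HomologySequence.epi_homologyMap_mor₂_iff T hT b (b + 1) rfl).2
        ((hX₁z (b + 1) (by omega)).eq_of_tgt _ _)
    exact isIso_of_mono_of_epi ((homologyFunctor _ b).map T.mor₂)
  let eHA : DCoh.HD E b ≅ A :=
    asIso ((homologyFunctor _ b).map v) ≪≫ (homologyFunctor _ b).mapIso eA ≪≫
      (singleFunctorCompHomologyFunctorIso Z.Modules b).app A
  let σ' : P ⟶ A := σ ≫ eHA.hom
  haveI hσ' : Epi σ' := epi_comp' hσ inferInstance
  -- representing complexes
  let K := (DerivedCategory.Q : _ ⥤ DCoh.D Z).objPreimage E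
  let eK : DerivedCategory.Q.obj K ≅ E := DerivedCategory.Q.objObjPreimageIso E
  let SA := (HomologicalComplex.single Z.Modules (ComplexShape.up ℤ) b).obj A
  let g' : DerivedCategory.Q.obj K ⟶ DerivedCategory.Q.obj SA := eK.hom ≫ v ≫ eA.hom
  obtain ⟨F', f', s, hs, hfac⟩ := DerivedCategory.left_fac g'
  have hQf' : DerivedCategory.Q.map f' = g' ≫ DerivedCategory.Q.map s := by
    rw [hfac, Category.assoc, IsIso.inv_hom_id, Category.comp_id]
  have hg'iso : ∀ j : ℤ, b ≤ j → IsIso ((homologyFunctor _ j).map g') := by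
    intro j hj
    rcases hj.eq_or_lt with rfl | h
    · dsimp only [g']
      rw [Functor.map_comp, Functor.map_comp]
      infer_instance
    · refine IsZero.isIso ?_ ?_ _
      · exact IsZero.of_iso (hEz j h) ((homologyFunctor _ j).mapIso eK)
      · exact IsZero.of_iso (isZero_of_isLE X₂ b j h) ((homologyFunctor _ j).mapIso eA.symm)
  have hf'iso : ∀ j : ℤ, b ≤ j → IsIso (HomologicalComplex.homologyMap f' j) := by
    intro j hj
    rw [← isIso_homologyFunctor_Q_map_iff', hQf', Functor.map_comp]
    haveI := hg'iso j hj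
    infer_instance
  -- the map from the free module
  let E₀ := (HomologicalComplex.single Z.Modules (ComplexShape.up ℤ) b).obj P
  have hE₀ : DCoh.IsStrictlyPerfect E₀ := isStrictlyPerfect_single' b _ hP
  let α : E₀ ⟶ F' := (HomologicalComplex.single Z.Modules (ComplexShape.up ℤ) b).map σ' ≫ s
  have hαepi : Epi (HomologicalComplex.homologyMap α b) := by
    haveI : Epi ((homologyFunctor _ b).map (DerivedCategory.Q.map α)) := by
      have e : DerivedCategory.Q.map α =
          (DerivedCategory.singleFunctor Z.Modules b).map σ' ≫ DerivedCategory.Q.map s :=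
        Functor.map_comp _ _ _
      have e2 : (homologyFunctor _ b).map (DerivedCategory.Q.map α) =
          (homologyFunctor _ b).map ((DerivedCategory.singleFunctor Z.Modules b).map σ') ≫
            (homologyFunctor _ b).map (DerivedCategory.Q.map s) := by
        rw [e]
        exact Functor.map_comp _ _ _
      rw [e2]
      haveI h1 : Epi ((DerivedCategory.singleFunctor Z.Modules b ⋙
          homologyFunctor Z.Modules b).map σ') := by
        haveI : Epi ((𝟭 Z.Modules).map σ') := hσ'
        exact epi_map_of_natIso' (singleFunctorCompHomologyFunctorIso Z.Modules b) σ'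
      have h2 : Epi ((homologyFunctor _ b).map
          ((DerivedCategory.singleFunctor Z.Modules b).map σ')) := h1
      have h3 : Epi ((homologyFunctor Z.Modules b).map (DerivedCategory.Q.map s)) :=
        inferInstance
      exact epi_comp' h2 h3
    exact epi_homologyMap_of_epi_homologyFunctor_Q_map α b
  obtain ⟨W', β, hzW', ⟨H⟩⟩ := locLift α f' hE₀ b
    (fun j hj => HomologicalComplex.isZero_single_obj_X (ComplexShape.up ℤ) b _ j (by omega))
    (fun j hj => hf'iso j hj.le) (by haveI := hf'iso b le_rfl; infer_instance) z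
  obtain ⟨V', rfl⟩ := exists_preimage_eq i W'
  let Rf := Scheme.Modules.restrictFunctor (i ⁻¹ᵁ V').ι
  let R := DCoh.restrictCx (i ⁻¹ᵁ V')
  -- `H^b(β)` is an epimorphism
  have hβepi : Epi (HomologicalComplex.homologyMap β b) := by
    have h1 : HomologicalComplex.homologyMap β b ≫ HomologicalComplex.homologyMap (R.map f') b =
        HomologicalComplex.homologyMap (R.map α) b := by
      rw [← HomologicalComplex.homologyMap_comp]
      exact H.homologyMap_eq b
    haveI : IsIso (HomologicalComplex.homologyMap (R.map f') b) := by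
      haveI := hf'iso b le_rfl
      exact isIso_homologyMap_mapHomologicalComplex Rf f' b
    haveI : Epi (HomologicalComplex.homologyMap (R.map α) b) :=
      epi_homologyMap_mapHomologicalComplex Rf α b
    have h2 : HomologicalComplex.homologyMap β b =
        HomologicalComplex.homologyMap (R.map α) b ≫
          inv (HomologicalComplex.homologyMap (R.map f') b) := by
      rw [← h1, Category.assoc, IsIso.hom_inv_id, Category.comp_id]
    rw [h2]
    exact epi_comp _ _
  have hKz : ∀ j : ℤ, b < j → IsZero ((R.obj K).homology j) := by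
    intro j hj
    have h0 : IsZero (K.homology j) :=
      IsZero.of_iso (hEz j hj) (((homologyFunctorFactors Z.Modules j).app K).symm ≪≫
        (homologyFunctor _ j).mapIso eK)
    rw [← HomologicalComplex.exactAt_iff_isZero_homology] at h0 ⊢
    exact ShortComplex.Exact.map h0 Rf
  have hE₀z : ∀ j : ℤ, b < j → IsZero ((R.obj E₀).homology j) := by
    intro j hj
    exact ShortComplex.isZero_homology_of_isZero_X₂ _
      (Rf.map_isZero (HomologicalComplex.isZero_single_obj_X (ComplexShape.up ℤ) b _ j
        (by omega)))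
  have hcone : ∀ j : ℤ, b ≤ j → IsZero ((CochainComplex.mappingCone β).homology j) := by
    intro j hj
    haveI : Epi (HomologicalComplex.homologyMap β j) := by
      rcases hj.eq_or_lt with rfl | h
      · exact hβepi
      · exact IsZero.epi (hKz j h) _
    haveI : Mono (HomologicalComplex.homologyMap β (j + 1)) :=
      IsZero.mono (hE₀z (j + 1) (by omega)) _
    exact isZero_homology_mappingCone β j
  let C : DCoh.D (i ⁻¹ᵁ V' : Scheme.{u}) := DerivedCategory.Q.obj (CochainComplex.mappingCone β)
  haveI hCLE : C.IsLE (b - 1) := by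
    rw [isLE_iff]
    intro j hj
    exact IsZero.of_iso (hcone j (by omega)) ((homologyFunctorFactors _ j).app _)
  have hTβ := DerivedCategory.mappingCone_triangle_distinguished β
  -- push forward
  let G' := Scheme.Modules.pushforward (i ∣_ V')
  let Gc := G'.mapHomologicalComplex (ComplexShape.up ℤ)
  have hTβ' := DerivedCategory.mappingCone_triangle_distinguished (Gc.map β)
  have hE₀' : DCoh.IsStrictlyPerfect (R.obj E₀) :=
    Groth.Agent.Lib.H6xPerfLoc.isStrictlyPerfect_restrict (i ⁻¹ᵁ V').ι E₀ hE₀
  have h₁' : ∀ m' : ℤ, DCoh.IsPseudoCoherentD m' (DerivedCategory.Q.obj (Gc.obj (R.obj E₀))) :=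
    fun m' => pc_push_strictlyPerfect (hO.restrict V') _ hE₀' m'
  have h₂' : DCoh.IsPseudoCoherentD m (DerivedCategory.Q.obj (Gc.obj (R.obj K))) := by
    obtain ⟨e⟩ := nonempty_restrictD_push_iso i V' E
    have h := isPseudoCoherentD_restrictD hpush V'.ι
    exact isPseudoCoherentD_of_iso' (e ≪≫ G'.mapDerivedCategory.mapIso
      ((DCoh.restrictD (i ⁻¹ᵁ V').ι).mapIso eK.symm ≪≫ Rf.mapDerivedCategoryFactors.app K) ≪≫
      G'.mapDerivedCategoryFactors.app _) h
  have h₃' : DCoh.IsPseudoCoherentD m
      (DerivedCategory.Q.obj (CochainComplex.mappingCone (Gc.map β))) :=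
    (triangle m _ hTβ').1 (h₁' (m + 1)) h₂'
  have hC : DCoh.IsPseudoCoherentD m C := by
    refine IH V' C hCLE ?_
    exact isPseudoCoherentD_of_iso'
      (DerivedCategory.Q.mapIso (CochainComplex.mappingCone.mapHomologicalComplexIso β G').symm ≪≫
        (G'.mapDerivedCategoryFactors.app _).symm) h₃'
  have hK' : DCoh.IsPseudoCoherentD m (DerivedCategory.Q.obj (R.obj K)) :=
    (triangle m _ hTβ).2.1 (pcGlobal_of_strictlyPerfect _ hE₀' m).isPseudoCoherentD hC
  refine pcAt_of_isPseudoCoherentD_restrictD (i ⁻¹ᵁ V') z hzW' ?_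
  exact isPseudoCoherentD_of_iso'
    ((Rf.mapDerivedCategoryFactors.app K).symm ≪≫ (DCoh.restrictD (i ⁻¹ᵁ V').ι).mapIso eK) hK'

end Groth.Agent.Lib.H6xClPush
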