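import Mathlib
import Groth.Prelude.Def_DCoh3
import Groth.Agent.Lib.H6xClPushE
import Groth.Agent.Lib.H6xPCohB
import Groth.Agent.Lib.H6xRelQcA
import Groth.Agent.Lib.Helper23FinTypeLocal
set_option backward.isDefEq.respectTransparency.types false

/-!
# Direct image along a closed immersion reflects pseudo-coherence (helper6)
-/

set_option autoImplicit false
set_option linter.style.haveILetI false
universe u
open CategoryTheory CategoryTheory.Limits AlgebraicGeometry TopologicalSpace Opposite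
  CategoryTheory.Pretriangulated

attribute [local instance] HasDerivedCategory.standard

namespace Groth.Agent.Lib.H6xClPush

open Groth.Agent.Lib.H6xPCoh Groth.Agent.Lib.H6xPC3 Groth.Agent.Lib.H6xPCTerm
  Groth.Agent.Lib.H6xSuppPush DerivedCategory

lemma isLE_push {Z X : Scheme.{u}} (i : Z ⟶ X) [IsClosedImmersion i] (E : DCoh.D Z) (b : ℤ)
    [E.IsLE b] : ((Scheme.Modules.pushforward i).mapDerivedCategory.obj E).IsLE b := by
  rw [DerivedCategory.isLE_iff]
  intro j hj
  obtain ⟨e2⟩ := nonempty_homology_mapDerivedCategory_iso (Scheme.Modules.pushforward i) E j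
  exact IsZero.of_iso (Functor.map_isZero _ (DerivedCategory.isZero_of_isLE E b j hj)) e2

/-- bounded above objects whose direct image is `m`-pseudo-coherent are `m`-pseudo-coherent -/
theorem pc_of_push_aux (m : ℤ) : ∀ (n : ℕ) {Z X : Scheme.{u}} (i : Z ⟶ X) [IsClosedImmersion i]
    (_ : PushOPC i) (E : DCoh.D Z), E.IsLE (m - 1 + n) →
    DCoh.IsPseudoCoherentD m ((Scheme.Modules.pushforward i).mapDerivedCategory.obj E) →
    DCoh.IsPseudoCoherentD m E
  | 0, Z, X, i, _, _, E, hE, _ => by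
      haveI : E.IsLE (m - 1) := by simpa using hE
      exact (pcGlobal_of_isLE m E).isPseudoCoherentD
  | n + 1, Z, X, i, _, hO, E, hE, hpush => by
      obtain ⟨b, hb⟩ : ∃ b : ℤ, b = m + n := ⟨_, rfl⟩
      haveI : E.IsLE b := by
        rw [hb]
        convert hE using 1
        push_cast; ring
      haveI := isLE_push i E b
      have hpc_b : DCoh.IsPseudoCoherentD b
          ((Scheme.Modules.pushforward i).mapDerivedCategory.obj E) :=
        isPseudoCoherentD_mono (by omega) hpush
      haveI hFT0 : CohB1.IsFT (DCoh.HD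
          ((Scheme.Modules.pushforward i).mapDerivedCategory.obj E) b) :=
        (top_cohomology b _ hpc_b).1 (fun j hj => isZero_of_isLE _ b j hj)
      obtain ⟨e⟩ := nonempty_homology_mapDerivedCategory_iso (Scheme.Modules.pushforward i) E b
      have hFT : CohB1.IsFT ((Scheme.Modules.pushforward i).obj (DCoh.HD E b)) :=
        Groth.Agent.Lib.Helper23.FinType.isFiniteType_of_iso e
      rw [isPseudoCoherentD_iff_pcAt]
      intro z
      obtain ⟨V, hzV, I, hI, q, hq⟩ := exists_epi_free_of_isFT_push i (DCoh.HD E b) hFT z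
      haveI : ((DCoh.restrictD (i ⁻¹ᵁ V).ι).obj E).IsLE b := isLE_restrictD' (i ⁻¹ᵁ V).ι E b
      obtain ⟨e₁⟩ := nonempty_homology_mapDerivedCategory_iso
        (Scheme.Modules.restrictFunctor (i ⁻¹ᵁ V).ι) E b
      have hpush₁ : DCoh.IsPseudoCoherentD m
          ((Scheme.Modules.pushforward (i ∣_ V)).mapDerivedCategory.obj
            ((DCoh.restrictD (i ⁻¹ᵁ V).ι).obj E)) := by
        obtain ⟨e'⟩ := nonempty_restrictD_push_iso i V E
        exact isPseudoCoherentD_of_iso' e' (isPseudoCoherentD_restrictD hpush V.ι)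
      have key := step (hO.restrict V) m b ((DCoh.restrictD (i ⁻¹ᵁ V).ι).obj E) hpush₁
        (SheafOfModules.free (R := (i ⁻¹ᵁ V : Scheme.{u}).ringCatSheaf) I)
        (isFinLocFree_free I) (q ≫ e₁.inv) (epi_comp' hq inferInstance)
        (fun V' C hC h => pc_of_push_aux m n ((i ∣_ V) ∣_ V') ((hO.restrict V).restrict V') C
          (by convert hC using 1; omega) h)
        ⟨z, hzV⟩
      exact PCAt.of_restrict (i ⁻¹ᵁ V).ι ⟨z, hzV⟩ key

variable {Z X : Scheme.{u}} {i : Z ⟶ X} [IsClosedImmersion i]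

/-- **S1102**, backward direction -/
theorem pc_of_push (hO : PushOPC i) {m : ℤ} {E : DCoh.D Z}
    (hpush : DCoh.IsPseudoCoherentD m
      ((Scheme.Modules.pushforward i).mapDerivedCategory.obj E)) :
    DCoh.IsPseudoCoherentD m E := by
  rw [isPseudoCoherentD_iff_pcAt]
  intro z
  obtain ⟨V, hxV, P, α, ⟨⟨a, bP, hab⟩, -⟩, h1, -⟩ :=
    (isPseudoCoherentD_iff_opens m _).1 hpush (i z)
  obtain ⟨b, hb⟩ : ∃ b : ℤ, b = max m bP := ⟨_, rfl⟩
  have hE₁ : ((DCoh.restrictD (i ⁻¹ᵁ V).ι).obj E).IsLE b := by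
    rw [isLE_iff]
    intro j hj
    have hjm : m < j := lt_of_le_of_lt (hb ▸ le_max_left m bP) hj
    have hjb : bP < j := lt_of_le_of_lt (hb ▸ le_max_right m bP) hj
    obtain ⟨e⟩ := nonempty_restrictD_push_iso i V E
    obtain ⟨e2⟩ := nonempty_homology_mapDerivedCategory_iso
      (Scheme.Modules.pushforward (i ∣_ V)) ((DCoh.restrictD (i ⁻¹ᵁ V).ι).obj E) j
    haveI := h1 j hjm
    have hz : IsZero ((homologyFunctor _ j).obj (DerivedCategory.Q.obj P)) :=
      IsZero.of_iso (ShortComplex.isZero_homology_of_isZero_X₂ _ (hab j (Or.inr hjb)))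
        ((homologyFunctorFactors _ j).app P)
    have hz2 := IsZero.of_iso hz (asIso ((homologyFunctor _ j).map α)).symm
    have hz3 : IsZero ((Scheme.Modules.pushforward (i ∣_ V)).obj
        ((homologyFunctor _ j).obj ((DCoh.restrictD (i ⁻¹ᵁ V).ι).obj E))) :=
      IsZero.of_iso hz2 (e2.symm ≪≫ (homologyFunctor _ j).mapIso e.symm)
    exact Groth.Agent.Lib.H6xRelQc.isZero_of_pushforward (i ∣_ V) _ hz3
  have hpush₁ : DCoh.IsPseudoCoherentD m
      ((Scheme.Modules.pushforward (i ∣_ V)).mapDerivedCategory.obj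
        ((DCoh.restrictD (i ⁻¹ᵁ V).ι).obj E)) := by
    obtain ⟨e'⟩ := nonempty_restrictD_push_iso i V E
    exact isPseudoCoherentD_of_iso' e' (isPseudoCoherentD_restrictD hpush V.ι)
  have h := pc_of_push_aux m (b - m + 1).toNat (i ∣_ V) (hO.restrict V) _
    (by
      have hbm : m ≤ b := hb ▸ le_max_left m bP
      convert hE₁ using 1
      omega) hpush₁
  exact pcAt_of_isPseudoCoherentD_restrictD (i ⁻¹ᵁ V) z hxV h

/-- **S1102** -/
theorem pc_iff_push (hO : PushOPC i) (E : DCoh.D Z) (m : ℤ) :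
    DCoh.IsPseudoCoherentD m E ↔ DCoh.IsPseudoCoherentD m
      ((Scheme.Modules.pushforward i).mapDerivedCategory.obj E) :=
  ⟨fun h => pc_push hO h, fun h => pc_of_push hO h⟩

end Groth.Agent.Lib.H6xClPush
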