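import Mathlib
import Groth.Prelude.Def_DerSch2
import Groth.Agent.Lib.H6xClPushF
import Groth.Agent.Lib.H6xPC3F
import Groth.Agent.Lib.H6xAffTildeA
import Groth.Agent.Lib.H6xTildePCA
import Groth.Agent.Lib.Helper1PC
import Groth.Agent.S7100
import Groth.Agent.S9498
set_option backward.isDefEq.respectTransparency.types false

/-!
# Relative pseudo-coherence in chart form: change of chart (helper6)

* `pushOPC_Spec`: for a surjection `σ : P' → P` with `P` pseudo-coherent over `P'`, the direct image of the
  structure sheaf along `Spec σ` is pseudo-coherent.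
* `isPC_restrict_of_flat_fp`: `R → B ↠ A` with `B`, `A` flat of finite presentation over `R`: `A` is pseudo-coherent
  over `B`.
* `pc_comp_iff`: pseudo-coherence of a termwise direct image is insensitive to a further closed immersion `s` with
  `s_* O` pseudo-coherent.
-/

set_option autoImplicit false
set_option linter.style.haveILetI false

universe u

open CategoryTheory CategoryTheory.Limits AlgebraicGeometry HomologicalComplex TopologicalSpace
  Opposite

attribute [local instance] HasDerivedCategory.standard

namespace Groth.Agent.Lib.H6xChart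

open Groth.Agent.Lib.H6xClPush Groth.Agent.Lib.H6xPC3 Groth.Agent.Lib.Helper1.PC

/-- `Spec` of a surjection is a closed immersion -/
lemma isClosedImmersion_Spec {P' P : Type u} [CommRing P'] [CommRing P] (σ : P' →+* P)
    (hσ : Function.Surjective σ) : IsClosedImmersion (Spec.map (CommRingCat.ofHom σ)) :=
  IsClosedImmersion.spec_of_surjective _ hσ

theorem pushOPC_Spec {P' P : Type u} [CommRing P'] [CommRing P] (σ : P' →+* P)
    (hσ : Function.Surjective σ)
    (hpc : ∀ m : ℤ, DRing.IsPseudoCoherent P' m
      ((DerivedCategory.singleFunctor (ModuleCat.{u} P') 0).obj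
        ((ModuleCat.restrictScalars σ).obj (ModuleCat.of P P)))) :
    haveI := isClosedImmersion_Spec σ hσ
    PushOPC (Spec.map (CommRingCat.ofHom σ)) := by
  haveI := isClosedImmersion_Spec σ hσ
  intro m
  haveI := (Groth.Agent.S9498.aux (CommRingCat.of P')).1
  haveI : PreservesFiniteColimits (tilde.functor (CommRingCat.of P')) := by
    haveI : PreservesColimitsOfSize.{0, 0} (tilde.functor (CommRingCat.of P')) :=
      (tilde.adjunction (R := (CommRingCat.of P'))).leftAdjoint_preservesColimits
    exact PreservesColimitsOfSize.preservesFiniteColimits _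
  have h1 := (Groth.Agent.Lib.H6xTildePC.pc_tildeD_iff (CommRingCat.of P') _ m).2 (hpc m)
  refine isPseudoCoherentD_of_iso ?_ h1
  refine ((tilde.functor (CommRingCat.of P')).mapDerivedCategorySingleFunctor 0).app _ ≪≫
    (DerivedCategory.singleFunctor _ 0).mapIso ?_
  exact ((Groth.Agent.Lib.H6xAffTilde.tildePushIso (CommRingCat.ofHom σ)).app
    (ModuleCat.of P P)).symm

theorem isPC_restrict_of_flat_fp (R B A : Type u) [CommRing R] [CommRing B] [CommRing A]
    [Algebra R B] [Algebra R A] [Algebra B A] [IsScalarTower R B A]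
    (hφ : Function.Surjective (algebraMap B A))
    [Module.Flat R B] [Algebra.FinitePresentation R B] [Module.Flat R A]
    [Algebra.FinitePresentation R A] (m : ℤ) :
    DRing.IsPseudoCoherent B m
      ((DerivedCategory.singleFunctor (ModuleCat.{u} B) 0).obj
        ((ModuleCat.restrictScalars (algebraMap B A)).obj (ModuleCat.of A A))) := by
  have h0 : DRing.IsPseudoCoherent A m
      ((DerivedCategory.singleFunctor (ModuleCat.{u} A) 0).obj (ModuleCat.of A A)) :=
    isPC_of_rep m (rep_single _ ⟨inferInstanceAs (Module.Finite A A),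
      inferInstanceAs (Module.Free A A)⟩ 0)
  have h1 := ((Groth.Agent.S7100.result R B A hφ _).2 m).1 h0
  exact isPC_of_iso
    (((ModuleCat.restrictScalars (algebraMap B A)).mapDerivedCategorySingleFunctor 0).app _) h1

theorem pc_comp_iff {Z W W' : Scheme.{u}} (i : Z ⟶ W) (s : W ⟶ W') [IsClosedImmersion s]
    (hO : PushOPC s) (G : CochainComplex Z.Modules ℤ) (m : ℤ) :
    DCoh.IsPseudoCoherentD m (DCoh.toD W ((DerSch.pushCx i).obj G)) ↔
      DCoh.IsPseudoCoherentD m (DCoh.toD W' ((DerSch.pushCx (i ≫ s)).obj G)) := by
  rw [pc_iff_push hO]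
  have e : (Scheme.Modules.pushforward s).mapDerivedCategory.obj
      (DCoh.toD W ((DerSch.pushCx i).obj G)) ≅ DCoh.toD W' ((DerSch.pushCx (i ≫ s)).obj G) :=
    (Scheme.Modules.pushforward s).mapDerivedCategoryFactors.app _ ≪≫
      DerivedCategory.Q.mapIso ((Functor.mapHomologicalComplexCompIso
        (Scheme.Modules.pushforwardComp i s) _).app G)
  exact ⟨isPseudoCoherentD_of_iso e, isPseudoCoherentD_of_iso e.symm⟩

end Groth.Agent.Lib.H6xChart
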