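import Mathlib
import Groth.Agent.Lib.H6xChartA
set_option backward.isDefEq.respectTransparency.types false

/-!
# Relative pseudo-coherence in chart form: independence of the chart (helper6, S7207)
-/

set_option autoImplicit false
set_option linter.style.haveILetI false

universe u

open CategoryTheory CategoryTheory.Limits AlgebraicGeometry HomologicalComplex TopologicalSpace
  Opposite

attribute [local instance] HasDerivedCategory.standard

namespace Groth.Agent.Lib.H6xChart

open Groth.Agent.Lib.H6xClPush Groth.Agent.Lib.H6xPC3 Groth.Agent.Lib.Helper1.PC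

variable {X : Scheme.{u}}

/-- the morphism `U ⟶ Spec P` attached to a ring map `P → Γ(X, U)` -/
noncomputable def chartImm' (U : X.Opens) {P : Type u} [CommRing P] (φ : P →+* Γ(X, U)) :
    (U : Scheme.{u}) ⟶ Spec (CommRingCat.of P) :=
  U.toSpecΓ ≫ Spec.map (CommRingCat.ofHom φ)

lemma chartImm_eq (U : X.Opens) {R : Type u} [CommRing R] {n : ℕ}
    (φ : MvPolynomial (Fin n) R →+* Γ(X, U)) : DerSch.chartImm U φ = chartImm' U φ := rfl

lemma chartImm'_comp (U : X.Opens) {P' P : Type u} [CommRing P'] [CommRing P]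
    (φ : P →+* Γ(X, U)) (σ : P' →+* P) :
    chartImm' U (φ.comp σ) = chartImm' U φ ≫ Spec.map (CommRingCat.ofHom σ) := by
  unfold chartImm'
  rw [Category.assoc, ← Spec.map_comp]
  rfl

/-- change of chart along a surjection `σ : P' → P` with `P` pseudo-coherent over `P'` -/
theorem pc_chart_comp_iff (U : X.Opens) {P' P : Type u} [CommRing P'] [CommRing P]
    (φ : P →+* Γ(X, U)) (σ : P' →+* P) (hσ : Function.Surjective σ)
    (hpc : ∀ m : ℤ, DRing.IsPseudoCoherent P' m
      ((DerivedCategory.singleFunctor (ModuleCat.{u} P') 0).obj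
        ((ModuleCat.restrictScalars σ).obj (ModuleCat.of P P))))
    (G : CochainComplex (U : Scheme.{u}).Modules ℤ) (m : ℤ) :
    DCoh.IsPseudoCoherentD m (DCoh.toD (Spec (CommRingCat.of P))
        ((DerSch.pushCx (chartImm' U φ)).obj G)) ↔
      DCoh.IsPseudoCoherentD m (DCoh.toD (Spec (CommRingCat.of P'))
        ((DerSch.pushCx (chartImm' U (φ.comp σ))).obj G)) := by
  haveI := isClosedImmersion_Spec σ hσ
  rw [chartImm'_comp]
  exact pc_comp_iff (chartImm' U φ) (Spec.map (CommRingCat.ofHom σ)) (pushOPC_Spec σ hσ hpc) G m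

/-- change of chart along a surjection of flat finitely presented `R`-algebras -/
theorem pc_chart_comp_iff_of_flat_fp (U : X.Opens) (R : Type u) [CommRing R]
    {P' P : Type u} [CommRing P'] [CommRing P] [Algebra R P'] [Algebra R P]
    [Module.Flat R P'] [Algebra.FinitePresentation R P'] [Module.Flat R P]
    [Algebra.FinitePresentation R P]
    (φ : P →+* Γ(X, U)) (σ : P' →ₐ[R] P) (hσ : Function.Surjective σ)
    (G : CochainComplex (U : Scheme.{u}).Modules ℤ) (m : ℤ) :
    DCoh.IsPseudoCoherentD m (DCoh.toD (Spec (CommRingCat.of P))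
        ((DerSch.pushCx (chartImm' U φ)).obj G)) ↔
      DCoh.IsPseudoCoherentD m (DCoh.toD (Spec (CommRingCat.of P'))
        ((DerSch.pushCx (chartImm' U (φ.comp σ.toRingHom))).obj G)) := by
  refine pc_chart_comp_iff U φ σ.toRingHom hσ (fun m' => ?_) G m
  letI : Algebra P' P := σ.toRingHom.toAlgebra
  haveI : IsScalarTower R P' P := IsScalarTower.of_algebraMap_eq' σ.comp_algebraMap.symm
  exact isPC_restrict_of_flat_fp R P' P hσ m'

section algebra

variable {R A : Type u} [CommRing R] [CommRing A] {ι κ : Type} [Finite ι] [Finite κ]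

/-- the combined chart -/
noncomputable def chi (φ : MvPolynomial ι R →+* A) (ψ : MvPolynomial κ R →+* A) :
    MvPolynomial (ι ⊕ κ) R →+* A :=
  MvPolynomial.eval₂Hom (φ.comp MvPolynomial.C)
    (Sum.elim (fun i => φ (MvPolynomial.X i)) (fun j => ψ (MvPolynomial.X j)))

lemma exists_left (φ : MvPolynomial ι R →+* A) (hφ : Function.Surjective φ)
    (ψ : MvPolynomial κ R →+* A) :
    ∃ σ : MvPolynomial (ι ⊕ κ) R →ₐ[R] MvPolynomial ι R, Function.Surjective σ ∧
      φ.comp σ.toRingHom = chi φ ψ := by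
  choose g hg using fun j : κ => hφ (ψ (MvPolynomial.X j))
  refine ⟨MvPolynomial.aeval (Sum.elim MvPolynomial.X g), fun p => ⟨MvPolynomial.rename Sum.inl p, ?_⟩,
    ?_⟩
  · rw [MvPolynomial.aeval_rename]
    have : (Sum.elim MvPolynomial.X g ∘ Sum.inl : ι → MvPolynomial ι R) = MvPolynomial.X := rfl
    rw [this, MvPolynomial.aeval_X_left]
    rfl
  · refine MvPolynomial.ringHom_ext (fun r => ?_) (fun l => ?_)
    · simp [chi]
    · rcases l with i | j
      · simp [chi]
      · simp [chi, hg]

lemma exists_right (φ : MvPolynomial ι R →+* A)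
    (ψ : MvPolynomial κ R →+* A) (hψ : Function.Surjective ψ)
    (hC : φ.comp MvPolynomial.C = ψ.comp MvPolynomial.C) :
    ∃ τ : MvPolynomial (ι ⊕ κ) R →ₐ[R] MvPolynomial κ R, Function.Surjective τ ∧
      ψ.comp τ.toRingHom = chi φ ψ := by
  choose g hg using fun i : ι => hψ (φ (MvPolynomial.X i))
  refine ⟨MvPolynomial.aeval (Sum.elim g MvPolynomial.X), fun p => ⟨MvPolynomial.rename Sum.inr p, ?_⟩,
    ?_⟩
  · rw [MvPolynomial.aeval_rename]
    have : (Sum.elim g MvPolynomial.X ∘ Sum.inr : κ → MvPolynomial κ R) = MvPolynomial.X := rfl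
    rw [this, MvPolynomial.aeval_X_left]
    rfl
  · refine MvPolynomial.ringHom_ext (fun r => ?_) (fun l => ?_)
    · have := congrArg (fun F => F r) hC
      simp only [RingHom.comp_apply] at this
      simp [chi, this]
    · rcases l with i | j
      · simp [chi, hg]
      · simp [chi]

end algebra

/-- independence of the chart, chain level -/
theorem pc_chart_iff {R : Type u} [CommRing R] (U : X.Opens) {n k : ℕ}
    (φ : MvPolynomial (Fin n) R →+* Γ(X, U)) (hφ : Function.Surjective φ)
    (ψ : MvPolynomial (Fin k) R →+* Γ(X, U)) (hψ : Function.Surjective ψ)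
    (hC : φ.comp MvPolynomial.C = ψ.comp MvPolynomial.C)
    (G : CochainComplex (U : Scheme.{u}).Modules ℤ) (m : ℤ) :
    DCoh.IsPseudoCoherentD m (DCoh.toD (Spec (CommRingCat.of (MvPolynomial (Fin n) R)))
        ((DerSch.pushCx (DerSch.chartImm U φ)).obj G)) ↔
      DCoh.IsPseudoCoherentD m (DCoh.toD (Spec (CommRingCat.of (MvPolynomial (Fin k) R)))
        ((DerSch.pushCx (DerSch.chartImm U ψ)).obj G)) := by
  obtain ⟨σ, hσ, e1⟩ := exists_left φ hφ ψ
  obtain ⟨τ, hτ, e2⟩ := exists_right φ ψ hψ hC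
  rw [chartImm_eq, chartImm_eq, pc_chart_comp_iff_of_flat_fp U R φ σ hσ G m,
    pc_chart_comp_iff_of_flat_fp U R ψ τ hτ G m, e1, e2]

end Groth.Agent.Lib.H6xChart
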