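import Mathlib
import Groth.Prelude.Def_DCoh3
set_option backward.isDefEq.respectTransparency.types false

/-!
# Restriction along open immersions commutes with direct image (morphism form) (helper6)

For a commutative square `i' ≫ j = k ≫ i` with `k`, `j` open immersions which is cartesian on the level of opens,
`i_* ⋙ j^* ≅ k^* ⋙ i'_*`.
-/

set_option autoImplicit false
set_option linter.style.haveILetI false

universe u

open CategoryTheory CategoryTheory.Limits AlgebraicGeometry TopologicalSpace Opposite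

namespace Groth.Agent.Lib.H6xChart

section

variable {Z Z' W W' : Scheme.{u}} (i : Z ⟶ W) (i' : Z' ⟶ W') (k : Z' ⟶ Z) (j : W' ⟶ W)
  [IsOpenImmersion k] [IsOpenImmersion j]

/-- the two composite functors on opens agree. -/
noncomputable def opensIso' (hcart : ∀ O : W'.Opens, k ''ᵁ (i' ⁻¹ᵁ O) = i ⁻¹ᵁ (j ''ᵁ O)) :
    Opens.map i'.base ⋙ k.opensFunctor ≅ j.opensFunctor ⋙ Opens.map i.base :=
  NatIso.ofComponents (fun O => eqToIso (hcart O)) (fun _ => rfl)

lemma appLE_congr_hom {A B : Scheme.{u}} {a b : A ⟶ B} (h : a = b) (U : B.Opens) (V : A.Opens)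
    (e : V ≤ a ⁻¹ᵁ U) : a.appLE U V e = b.appLE U V (h ▸ e) := by
  subst h
  rfl

lemma key (comm : i' ≫ j = k ≫ i)
    (hcart : ∀ O : W'.Opens, k ''ᵁ (i' ⁻¹ᵁ O) = i ⁻¹ᵁ (j ''ᵁ O)) (O : W'.Opens) :
    (j.appIso O).inv ≫ i.app (j ''ᵁ O) ≫ Z.presheaf.map (eqToHom (hcart O)).op =
      i'.app O ≫ (k.appIso (i' ⁻¹ᵁ O)).inv := by
  rw [← cancel_mono (k.appIso (i' ⁻¹ᵁ O)).hom, ← cancel_epi (j.appIso O).hom]
  simp only [Category.assoc, Iso.inv_hom_id, Category.comp_id, Iso.hom_inv_id_assoc]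
  rw [Scheme.Hom.appIso_hom', Scheme.Hom.appIso_hom', Scheme.Hom.app_eq_appLE,
    Scheme.Hom.app_eq_appLE, Scheme.Hom.appLE_map_assoc, Scheme.Hom.appLE_comp_appLE,
    Scheme.Hom.appLE_comp_appLE]
  exact (appLE_congr_hom comm _ _ _).symm

set_option backward.isDefEq.respectTransparency false in
/-- `i_* ⋙ j^* ≅ k^* ⋙ i'_*`. -/
noncomputable def restrictPushIso' (comm : i' ≫ j = k ≫ i)
    (hcart : ∀ O : W'.Opens, k ''ᵁ (i' ⁻¹ᵁ O) = i ⁻¹ᵁ (j ''ᵁ O)) :
    Scheme.Modules.pushforward i ⋙ Scheme.Modules.restrictFunctor j ≅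
      Scheme.Modules.restrictFunctor k ⋙ Scheme.Modules.pushforward i' := by
  letI i1 := CategoryTheory.Functor.isContinuous_comp.{u} j.opensFunctor (Opens.map i.base)
    (Opens.grothendieckTopology W') (Opens.grothendieckTopology W) (Opens.grothendieckTopology Z)
  letI i2 := CategoryTheory.Functor.isContinuous_comp.{u} (Opens.map i'.base)
    k.opensFunctor (Opens.grothendieckTopology W')
    (Opens.grothendieckTopology Z') (Opens.grothendieckTopology Z)
  refine (SheafOfModules.pushforwardComp _ _) ≪≫ ?_ ≪≫ (SheafOfModules.pushforwardComp _ _).symm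
  refine SheafOfModules.pushforwardCongr₂ _ (opensIso' i i' k j hcart) ?_
  ext U x
  exact congr($(key i i' k j comm hcart U.unop) x)

end

/-- the cartesian condition on opens follows from the inclusion of ranges -/
lemma hcart_of_le {Z Z' W W' : Scheme.{u}} (i : Z ⟶ W) (i' : Z' ⟶ W') (k : Z' ⟶ Z) (j : W' ⟶ W)
    [IsOpenImmersion k] [IsOpenImmersion j] (comm : i' ≫ j = k ≫ i)
    (hle : i ⁻¹ᵁ j.opensRange ≤ k.opensRange) (O : W'.Opens) :
    k ''ᵁ (i' ⁻¹ᵁ O) = i ⁻¹ᵁ (j ''ᵁ O) := by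
  ext z
  constructor
  · rintro ⟨z', hz', rfl⟩
    refine ⟨i'.base z', hz', ?_⟩
    have := congrArg (fun f => f.base z') comm
    simpa using this
  · rintro ⟨w', hw', hw⟩
    have hz : z ∈ i ⁻¹ᵁ j.opensRange := ⟨w', hw⟩
    obtain ⟨z', rfl⟩ := hle hz
    refine ⟨z', ?_, rfl⟩
    have h1 : j.base (i'.base z') = i.base (k.base z') := by
      have := congrArg (fun f => f.base z') comm
      simpa using this
    have h2 : j.base (i'.base z') = j.base w' := by rw [h1]; exact hw.symm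
    have h3 := j.isOpenEmbedding.injective h2
    change i'.base z' ∈ O
    rw [h3]
    exact hw'

end Groth.Agent.Lib.H6xChart
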