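import Mathlib
import Groth.Agent.Lib.H6xChartB
import Groth.Agent.Lib.H6xChartC
import Groth.Agent.Lib.H6xPC4A
set_option backward.isDefEq.respectTransparency.types false

/-!
# Pseudo-coherence of a direct image is local on the target (helper6)

Chain-level lemmas: restriction of `i_* G` along an open immersion `j` (cartesian square), and glueing.
-/

set_option autoImplicit false
set_option linter.style.haveILetI false

universe u

open CategoryTheory CategoryTheory.Limits AlgebraicGeometry HomologicalComplex TopologicalSpace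
  Opposite

attribute [local instance] HasDerivedCategory.standard

namespace Groth.Agent.Lib.H6xChart

open Groth.Agent.Lib.H6xClPush Groth.Agent.Lib.H6xPC3 Groth.Agent.Lib.H6xPCoh

/-- termwise restriction of complexes along an open immersion -/
noncomputable abbrev restrCx {Z' Z : Scheme.{u}} (k : Z' ⟶ Z) [IsOpenImmersion k] :
    CochainComplex Z.Modules ℤ ⥤ CochainComplex Z'.Modules ℤ :=
  (Scheme.Modules.restrictFunctor k).mapHomologicalComplex (ComplexShape.up ℤ)

section square

variable {Z Z' W W' : Scheme.{u}} (i : Z ⟶ W) (i' : Z' ⟶ W') (k : Z' ⟶ Z) (j : W' ⟶ W)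
  [IsOpenImmersion k] [IsOpenImmersion j] (comm : i' ≫ j = k ≫ i)
  (hcart : ∀ O : W'.Opens, k ''ᵁ (i' ⁻¹ᵁ O) = i ⁻¹ᵁ (j ''ᵁ O))

/-- chain-level base change along a cartesian square of open immersions -/
noncomputable def restrictPushCxIso (G : CochainComplex Z.Modules ℤ) :
    (restrCx j).obj ((DerSch.pushCx i).obj G) ≅ (DerSch.pushCx i').obj ((restrCx k).obj G) :=
  ((Functor.mapHomologicalComplexCompIso (restrictPushIso' i i' k j comm hcart)
      (ComplexShape.up ℤ)) ≪≫
    (Functor.mapHomologicalComplexCompIso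
      (Iso.refl (Scheme.Modules.restrictFunctor k ⋙ Scheme.Modules.pushforward i'))
      (ComplexShape.up ℤ)).symm).app G

/-- `j^*` of the class of a complex -/
noncomputable def restrictDToD {W' W : Scheme.{u}} (j : W' ⟶ W) [IsOpenImmersion j]
    (H : CochainComplex W.Modules ℤ) :
    (DCoh.restrictD j).obj (DCoh.toD W H) ≅ DCoh.toD W' ((restrCx j).obj H) :=
  (Scheme.Modules.restrictFunctor j).mapDerivedCategoryFactors.app H

include comm hcart in
theorem pc_restrict_push (G : CochainComplex Z.Modules ℤ) (m : ℤ)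
    (h : DCoh.IsPseudoCoherentD m (DCoh.toD W ((DerSch.pushCx i).obj G))) :
    DCoh.IsPseudoCoherentD m (DCoh.toD W' ((DerSch.pushCx i').obj ((restrCx k).obj G))) := by
  have h1 := isPseudoCoherentD_restrictD h j
  exact isPseudoCoherentD_of_iso (restrictDToD j _ ≪≫
    DerivedCategory.Q.mapIso (restrictPushCxIso i i' k j comm hcart G)) h1

include comm hcart in
theorem pcAt_of_restrict_push (G : CochainComplex Z.Modules ℤ) (m : ℤ)
    (h : DCoh.IsPseudoCoherentD m (DCoh.toD W' ((DerSch.pushCx i').obj ((restrCx k).obj G))))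
    (w' : W') : PCAt m (DCoh.toD W ((DerSch.pushCx i).obj G)) (j.base w') := by
  have h1 : DCoh.IsPseudoCoherentD m
      ((DCoh.restrictD j).obj (DCoh.toD W ((DerSch.pushCx i).obj G))) :=
    isPseudoCoherentD_of_iso (restrictDToD j _ ≪≫
      DerivedCategory.Q.mapIso (restrictPushCxIso i i' k j comm hcart G)).symm h
  rw [isPseudoCoherentD_iff_pcAt] at h1
  exact PCAt.of_restrict j w' (h1 w')

end square

open ZeroObject in
/-- a zero object is pseudo-coherent -/
lemma pc_of_isZero {X : Scheme.{u}} (m : ℤ) (K : DCoh.D X) (hK : IsZero K) :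
    DCoh.IsPseudoCoherentD m K := by
  refine PCGlobal.isPseudoCoherentD ⟨0, 0, Groth.Agent.Lib.H6xPerfLoc.isStrictlyPerfect_zero X,
    fun j _ => ?_, ?_⟩
  · exact IsZero.isIso ((DerivedCategory.homologyFunctor _ j).map_isZero
      (DerivedCategory.Q.map_isZero (isZero_zero _)))
      ((DerivedCategory.homologyFunctor _ j).map_isZero hK) _
  · exact IsZero.epi ((DerivedCategory.homologyFunctor _ m).map_isZero hK) _

/-- the class of a complex with zero terms is zero -/
lemma isZero_toD_of_isZero_X {X : Scheme.{u}} (H : CochainComplex X.Modules ℤ)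
    (h : ∀ n, IsZero (H.X n)) : IsZero (DCoh.toD X H) := by
  refine DerivedCategory.Q.map_isZero ?_
  rw [IsZero.iff_id_eq_zero]
  refine HomologicalComplex.hom_ext _ _ (fun n => ?_)
  exact (h n).eq_of_src _ _

/-- away from the range of a morphism with closed range, the direct image is pseudo-coherent -/
theorem pcAt_push_of_not_mem_range {Z W : Scheme.{u}} (i : Z ⟶ W)
    (hcl : IsClosed (Set.range i.base)) (G : CochainComplex Z.Modules ℤ) (m : ℤ) (w : W)
    (hw : w ∉ Set.range i.base) : PCAt m (DCoh.toD W ((DerSch.pushCx i).obj G)) w := by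
  let O : W.Opens := ⟨(Set.range i.base)ᶜ, hcl.isOpen_compl⟩
  haveI : IsEmpty (i ⁻¹ᵁ O : Scheme.{u}) := ⟨fun z => z.2 ⟨z.1, rfl⟩⟩
  have comm : (i ∣_ O) ≫ O.ι = (i ⁻¹ᵁ O).ι ≫ i := morphismRestrict_ι i O
  have hcart := hcart_of_le i (i ∣_ O) (i ⁻¹ᵁ O).ι O.ι comm (by
    rw [Scheme.Opens.opensRange_ι, Scheme.Opens.opensRange_ι])
  have h0 : DCoh.IsPseudoCoherentD m (DCoh.toD (O : Scheme.{u})
      ((DerSch.pushCx (i ∣_ O)).obj ((restrCx (i ⁻¹ᵁ O).ι).obj G))) := by
    refine pc_of_isZero m _ (isZero_toD_of_isZero_X _ (fun n => ?_))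
    exact (Scheme.Modules.pushforward (i ∣_ O)).map_isZero
      (Groth.Agent.Lib.R2H2.PushCoh.isZero_of_isEmpty _)
  have := pcAt_of_restrict_push i (i ∣_ O) (i ⁻¹ᵁ O).ι O.ι comm hcart G m h0 ⟨w, hw⟩
  exact this

/-- glueing: pseudo-coherence of `i_* G` can be tested on opens covering the range of `i` -/
theorem pc_push_of_cover {Z W : Scheme.{u}} (i : Z ⟶ W) (hcl : IsClosed (Set.range i.base))
    (G : CochainComplex Z.Modules ℤ) (m : ℤ)
    (h : ∀ z : Z, ∃ (Z' W' : Scheme.{u}) (i' : Z' ⟶ W') (k : Z' ⟶ Z) (j : W' ⟶ W)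
      (_ : IsOpenImmersion k) (_ : IsOpenImmersion j) (_ : i' ≫ j = k ≫ i)
      (_ : i ⁻¹ᵁ j.opensRange ≤ k.opensRange), i.base z ∈ Set.range j.base ∧
      DCoh.IsPseudoCoherentD m (DCoh.toD W' ((DerSch.pushCx i').obj ((restrCx k).obj G)))) :
    DCoh.IsPseudoCoherentD m (DCoh.toD W ((DerSch.pushCx i).obj G)) := by
  rw [isPseudoCoherentD_iff_pcAt]
  intro w
  by_cases hw : w ∈ Set.range i.base
  · obtain ⟨z, rfl⟩ := hw
    obtain ⟨Z', W', i', k, j, hk, hj, comm, hle, ⟨w', hw'⟩, hpc⟩ := h z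
    rw [← hw']
    exact pcAt_of_restrict_push i i' k j comm (hcart_of_le i i' k j comm hle) G m hpc w'
  · exact pcAt_push_of_not_mem_range i hcl G m w hw

end Groth.Agent.Lib.H6xChart
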