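import Mathlib
import Groth.Agent.Lib.H6xChartD
set_option backward.isDefEq.respectTransparency.types false

/-!
# Charts and localization on the source (helper6)
-/

set_option autoImplicit false
set_option linter.style.haveILetI false

universe u

open CategoryTheory CategoryTheory.Limits AlgebraicGeometry HomologicalComplex TopologicalSpace
  Opposite

attribute [local instance] HasDerivedCategory.standard

namespace Groth.Agent.Lib.H6xChart

open Groth.Agent.Lib.H6xClPush Groth.Agent.Lib.H6xPC3 Groth.Agent.Lib.H6xPCoh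

/-- pure algebra: a surjection induces a surjection on localizations -/
lemma exists_loc_surj {P A B : Type u} [CommRing P] [CommRing A] [CommRing B] (φ : P →+* A)
    (hφ : Function.Surjective φ) (ρ : A →+* B) (Gt : P)
    (hloc : @IsLocalization.Away A _ (φ Gt) B _ ρ.toAlgebra) :
    ∃ φ' : Localization.Away Gt →+* B, Function.Surjective φ' ∧
      φ'.comp (algebraMap P (Localization.Away Gt)) = ρ.comp φ := by
  letI := ρ.toAlgebra
  haveI : IsLocalization ((Submonoid.powers Gt).map φ) B := by
    rw [Submonoid.map_powers]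
    exact hloc
  exact ⟨IsLocalization.map B φ (Submonoid.powers Gt).le_comap_map,
    IsLocalization.map_surjective_of_surjective (Submonoid.powers Gt) (Localization.Away Gt) B hφ,
    IsLocalization.map_comp _⟩

variable {X : Scheme.{u}}

/-- restriction in two steps -/
noncomputable def restrCxHomOfLE {U' U : X.Opens} (le : U' ≤ U) (G : CochainComplex X.Modules ℤ) :
    (restrCx (X.homOfLE le)).obj ((DCoh.restrictCx U).obj G) ≅ (DCoh.restrictCx U').obj G :=
  (Functor.mapHomologicalComplexCompIso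
    ((Scheme.Modules.restrictFunctorComp (X.homOfLE le) U.ι).symm ≪≫
      Scheme.Modules.restrictFunctorCongr (X.homOfLE_ι le)) (ComplexShape.up ℤ)).app G

section C1

variable (U : X.Opens) {P : Type u} [CommRing P] (φ : P →+* Γ(X, U)) (Gt : P)
  (φ' : Localization.Away Gt →+* Γ(X, X.basicOpen (φ Gt)))
  (hφ' : φ'.comp (algebraMap P (Localization.Away Gt)) =
    (X.presheaf.map (homOfLE (X.basicOpen_le (φ Gt))).op).hom.comp φ)

include hφ' in
lemma c1_comm : chartImm' (X.basicOpen (φ Gt)) φ' ≫
      Spec.map (CommRingCat.ofHom (algebraMap P (Localization.Away Gt))) =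
    X.homOfLE (X.basicOpen_le (φ Gt)) ≫ chartImm' U φ := by
  rw [← chartImm'_comp, hφ']
  unfold chartImm'
  rw [← Scheme.Opens.toSpecΓ_SpecMap_presheaf_map_assoc, ← Spec.map_comp]
  rfl

lemma c1_le : chartImm' U φ ⁻¹ᵁ
      (Spec.map (CommRingCat.ofHom (algebraMap P (Localization.Away Gt)))).opensRange ≤
    (X.homOfLE (X.basicOpen_le (φ Gt))).opensRange := by
  rw [Scheme.opensRange_homOfLE]
  have h1 : (Spec.map (CommRingCat.ofHom (algebraMap P (Localization.Away Gt)))).opensRange =
      PrimeSpectrum.basicOpen Gt :=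
    Scheme.Hom.opensRange_localizationAway (R := CommRingCat.of P) Gt
  rw [h1]
  unfold chartImm'
  rw [Scheme.Hom.comp_preimage]
  have h2 : Spec.map (CommRingCat.ofHom φ) ⁻¹ᵁ PrimeSpectrum.basicOpen Gt =
      PrimeSpectrum.basicOpen (φ Gt) := by
    ext x
    rfl
  rw [h2, Scheme.Opens.toSpecΓ_preimage_basicOpen]

include hφ' in
/-- restriction of a chart to a basic open -/
theorem pc_localize (G : CochainComplex X.Modules ℤ) (m : ℤ)
    (h : DCoh.IsPseudoCoherentD m (DCoh.toD (Spec (CommRingCat.of P))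
      ((DerSch.pushCx (chartImm' U φ)).obj ((DCoh.restrictCx U).obj G)))) :
    DCoh.IsPseudoCoherentD m (DCoh.toD (Spec (CommRingCat.of (Localization.Away Gt)))
      ((DerSch.pushCx (chartImm' (X.basicOpen (φ Gt)) φ')).obj
        ((DCoh.restrictCx (X.basicOpen (φ Gt))).obj G))) := by
  have comm := c1_comm U φ Gt φ' hφ'
  have h1 := pc_restrict_push (chartImm' U φ) (chartImm' (X.basicOpen (φ Gt)) φ')
    (X.homOfLE (X.basicOpen_le (φ Gt)))
    (Spec.map (CommRingCat.ofHom (algebraMap P (Localization.Away Gt)))) comm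
    (hcart_of_le _ _ _ _ comm (c1_le U φ Gt)) _ m h
  exact isPseudoCoherentD_of_iso (DerivedCategory.Q.mapIso
    ((DerSch.pushCx (chartImm' (X.basicOpen (φ Gt)) φ')).mapIso
      (restrCxHomOfLE (X.basicOpen_le (φ Gt)) G))) h1

end C1

/-- glueing charts on a cover by basic opens -/
theorem pc_of_localize (U : X.Opens) (hU : IsAffineOpen U) {P : Type u} [CommRing P]
    (φ : P →+* Γ(X, U)) (hφ : Function.Surjective φ)
    {ι : Type*} (Gt : ι → P) (hGt : Ideal.span (Set.range fun j => φ (Gt j)) = ⊤)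
    (φ' : ∀ j, Localization.Away (Gt j) →+* Γ(X, X.basicOpen (φ (Gt j))))
    (hφ' : ∀ j, (φ' j).comp (algebraMap P (Localization.Away (Gt j))) =
      (X.presheaf.map (homOfLE (X.basicOpen_le (φ (Gt j)))).op).hom.comp φ)
    (G : CochainComplex X.Modules ℤ) (m : ℤ)
    (h : ∀ j, DCoh.IsPseudoCoherentD m
      (DCoh.toD (Spec (CommRingCat.of (Localization.Away (Gt j))))
        ((DerSch.pushCx (chartImm' (X.basicOpen (φ (Gt j))) (φ' j))).obj
          ((DCoh.restrictCx (X.basicOpen (φ (Gt j)))).obj G)))) :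
    DCoh.IsPseudoCoherentD m (DCoh.toD (Spec (CommRingCat.of P))
      ((DerSch.pushCx (chartImm' U φ)).obj ((DCoh.restrictCx U).obj G))) := by
  haveI : IsClosedImmersion (chartImm' U φ) := by
    unfold chartImm'
    haveI : IsIso U.toSpecΓ := hU.isoSpec.isIso_hom
    haveI := isClosedImmersion_Spec φ hφ
    infer_instance
  refine pc_push_of_cover _ (chartImm' U φ).isClosedEmbedding.isClosed_range _ m (fun z => ?_)
  have hcov : (⨆ j, X.basicOpen (φ (Gt j))) = U := by
    have := hU.iSup_basicOpen_eq_self_iff.2 hGt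
    conv_rhs => rw [← this]
    apply le_antisymm
    · exact iSup_le fun j => le_iSup_of_le ⟨_, ⟨j, rfl⟩⟩ le_rfl
    · exact iSup_le fun ⟨_, ⟨j, hj⟩⟩ => by
        subst hj
        exact le_iSup_of_le j le_rfl
  have hz : z.1 ∈ (⨆ j, X.basicOpen (φ (Gt j))) := by rw [hcov]; exact z.2
  obtain ⟨j, hj⟩ := Opens.mem_iSup.1 hz
  have comm := c1_comm U φ (Gt j) (φ' j) (hφ' j)
  refine ⟨_, _, chartImm' (X.basicOpen (φ (Gt j))) (φ' j), X.homOfLE (X.basicOpen_le (φ (Gt j))),
    Spec.map (CommRingCat.ofHom (algebraMap P (Localization.Away (Gt j)))), inferInstance,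
    inferInstance, comm, c1_le U φ (Gt j), ?_, ?_⟩
  · refine ⟨(chartImm' (X.basicOpen (φ (Gt j))) (φ' j)).base ⟨z.1, hj⟩, ?_⟩
    have := congrArg (fun f => f.base ⟨z.1, hj⟩) comm
    simp only [Scheme.Hom.comp_base, TopCat.comp_app] at this
    rw [this]
    congr 1
    exact Scheme.homOfLE_apply' _ _ _
  · exact isPseudoCoherentD_of_iso (DerivedCategory.Q.mapIso
      ((DerSch.pushCx (chartImm' (X.basicOpen (φ (Gt j))) (φ' j))).mapIso
        (restrCxHomOfLE (X.basicOpen_le (φ (Gt j))) G))).symm (h j)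

end Groth.Agent.Lib.H6xChart
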