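import Mathlib
import Groth.Agent.Lib.H6xChartE
set_option backward.isDefEq.respectTransparency.types false

/-!
# Polynomial charts: algebra (helper6)
-/

set_option autoImplicit false
set_option linter.style.haveILetI false

universe u

open CategoryTheory CategoryTheory.Limits AlgebraicGeometry HomologicalComplex TopologicalSpace
  Opposite

attribute [local instance] HasDerivedCategory.standard

namespace Groth.Agent.Lib.H6xChart

section alg

variable {R : Type u} [CommRing R] {ι : Type} [Finite ι]

instance flat_locAway (Gt : MvPolynomial ι R) : Module.Flat R (Localization.Away Gt) :=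
  Module.Flat.trans R (MvPolynomial ι R) (Localization.Away Gt)

instance fp_locAway (Gt : MvPolynomial ι R) :
    Algebra.FinitePresentation R (Localization.Away Gt) :=
  haveI : Algebra.FinitePresentation (MvPolynomial ι R) (Localization.Away Gt) :=
    IsLocalization.Away.finitePresentation Gt
  Algebra.FinitePresentation.trans R (MvPolynomial ι R) (Localization.Away Gt)

/-- the presentation of `R[x]_G` as a quotient of `R[x, t]` -/
noncomputable def sigmaLoc (Gt : MvPolynomial ι R) :
    MvPolynomial (Option ι) R →ₐ[R] Localization.Away Gt :=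
  MvPolynomial.aeval (fun o => Option.elim o (IsLocalization.Away.invSelf Gt)
    (fun i => algebraMap (MvPolynomial ι R) (Localization.Away Gt) (MvPolynomial.X i)))

lemma sigmaLoc_rename (Gt : MvPolynomial ι R) (p : MvPolynomial ι R) :
    sigmaLoc Gt (MvPolynomial.rename some p) = algebraMap _ (Localization.Away Gt) p := by
  unfold sigmaLoc
  rw [MvPolynomial.aeval_rename]
  have := MvPolynomial.aeval_unique (IsScalarTower.toAlgHom R (MvPolynomial ι R)
    (Localization.Away Gt))
  exact (congrArg (fun F => F p) this).symm

lemma sigmaLoc_surjective (Gt : MvPolynomial ι R) : Function.Surjective (sigmaLoc Gt) := by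
  intro y
  obtain ⟨⟨p, ⟨_, n, rfl⟩⟩, hy⟩ := IsLocalization.surj (Submonoid.powers Gt) y
  refine ⟨MvPolynomial.rename some p * (MvPolynomial.X none) ^ n, ?_⟩
  rw [map_mul, map_pow, sigmaLoc_rename]
  have h1 : sigmaLoc Gt (MvPolynomial.X none) = IsLocalization.Away.invSelf Gt := by
    unfold sigmaLoc
    rw [MvPolynomial.aeval_X]
    rfl
  rw [h1, ← hy]
  simp only [map_pow]
  rw [mul_assoc, ← mul_pow, IsLocalization.Away.mul_invSelf, one_pow, mul_one]

variable {R' : Type u} [CommRing R'] [Algebra R R']

lemma flat_mvPoly_loc (r : R) [IsLocalization.Away r R'] : Module.Flat R (MvPolynomial ι R') :=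
  haveI : Module.Flat R R' := IsLocalization.flat R' (Submonoid.powers r)
  Module.Flat.trans R R' (MvPolynomial ι R')

lemma fp_mvPoly_loc (r : R) [IsLocalization.Away r R'] :
    Algebra.FinitePresentation R (MvPolynomial ι R') :=
  haveI : Algebra.FinitePresentation R R' := IsLocalization.Away.finitePresentation r
  Algebra.FinitePresentation.trans R R' (MvPolynomial ι R')

/-- the presentation of `R_r[x]` as a quotient of `R[x, t]` -/
noncomputable def sigmaBase (r : R) [IsLocalization.Away r R'] :
    MvPolynomial (Option ι) R →ₐ[R] MvPolynomial ι R' :=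
  MvPolynomial.aeval (fun o => Option.elim o (MvPolynomial.C (IsLocalization.Away.invSelf r))
    (fun i => MvPolynomial.X i))

lemma sigmaBase_surjective (r : R) [IsLocalization.Away r R'] :
    Function.Surjective (sigmaBase (ι := ι) (R' := R') r) := by
  intro y
  induction y using MvPolynomial.induction_on with
  | C b =>
    obtain ⟨⟨a, ⟨_, n, rfl⟩⟩, hb⟩ := IsLocalization.surj (Submonoid.powers r) b
    refine ⟨MvPolynomial.C a * (MvPolynomial.X none) ^ n, ?_⟩
    rw [map_mul, map_pow]
    have h1 : sigmaBase (ι := ι) (R' := R') r (MvPolynomial.X none) =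
        MvPolynomial.C (IsLocalization.Away.invSelf r) := by
      unfold sigmaBase
      rw [MvPolynomial.aeval_X]
      rfl
    have h2 : sigmaBase (ι := ι) (R' := R') r (MvPolynomial.C a) =
        MvPolynomial.C (algebraMap R R' a) := by
      unfold sigmaBase
      rw [MvPolynomial.aeval_C]
      rfl
    rw [h1, h2, ← hb, ← map_pow, ← map_mul]
    congr 1
    simp only [map_pow]
    rw [mul_assoc, ← mul_pow, IsLocalization.Away.mul_invSelf, one_pow, mul_one]
  | add p q hp hq =>
    obtain ⟨p', rfl⟩ := hp
    obtain ⟨q', rfl⟩ := hq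
    exact ⟨p' + q', map_add _ _ _⟩
  | mul_X p i hp =>
    obtain ⟨p', rfl⟩ := hp
    refine ⟨p' * MvPolynomial.X (some i), ?_⟩
    rw [map_mul]
    congr 1
    unfold sigmaBase
    rw [MvPolynomial.aeval_X]
    rfl

end alg

end Groth.Agent.Lib.H6xChart
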