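import Mathlib
import Groth.Agent.Lib.H6xChartF
set_option backward.isDefEq.respectTransparency.types false

/-!
# Polynomial charts: localization on the source and on the base (helper6)
-/

set_option autoImplicit false
set_option linter.style.haveILetI false

universe u

open CategoryTheory CategoryTheory.Limits AlgebraicGeometry HomologicalComplex TopologicalSpace
  Opposite

attribute [local instance] HasDerivedCategory.standard

namespace Groth.Agent.Lib.H6xChart

open Groth.Agent.Lib.H6xClPush Groth.Agent.Lib.H6xPC3 Groth.Agent.Lib.H6xPCoh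

variable {X : Scheme.{u}}

/-- the chain-level chart test -/
def PCCx (m : ℤ) (G : CochainComplex X.Modules ℤ) (U : X.Opens) {P : Type u} [CommRing P]
    (φ : P →+* Γ(X, U)) : Prop :=
  DCoh.IsPseudoCoherentD m (DCoh.toD (Spec (CommRingCat.of P))
    ((DerSch.pushCx (chartImm' U φ)).obj ((DCoh.restrictCx U).obj G)))

/-- independence of the chart, chain level, arbitrary finite index types -/
theorem pcCx_chart_iff {R : Type u} [CommRing R] (U : X.Opens) {ι κ : Type} [Finite ι] [Finite κ]
    (φ : MvPolynomial ι R →+* Γ(X, U)) (hφ : Function.Surjective φ)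
    (ψ : MvPolynomial κ R →+* Γ(X, U)) (hψ : Function.Surjective ψ)
    (hC : φ.comp MvPolynomial.C = ψ.comp MvPolynomial.C)
    (G : CochainComplex X.Modules ℤ) (m : ℤ) :
    PCCx m G U φ ↔ PCCx m G U ψ := by
  obtain ⟨σ, hσ, e1⟩ := exists_left φ hφ ψ
  obtain ⟨τ, hτ, e2⟩ := exists_right φ ψ hψ hC
  unfold PCCx
  rw [pc_chart_comp_iff_of_flat_fp U R φ σ hσ _ m,
    pc_chart_comp_iff_of_flat_fp U R ψ τ hτ _ m, e1, e2]

/-- **T1**: restriction of a polynomial chart to a basic open -/
theorem exists_chart_basicOpen {R : Type u} [CommRing R] (U : X.Opens) (hU : IsAffineOpen U)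
    {ι : Type} [Finite ι] (φ : MvPolynomial ι R →+* Γ(X, U)) (hφ : Function.Surjective φ)
    (g : Γ(X, U)) :
    ∃ φ'' : MvPolynomial (Option ι) R →+* Γ(X, X.basicOpen g), Function.Surjective φ'' ∧
      φ''.comp MvPolynomial.C =
        (X.presheaf.map (homOfLE (X.basicOpen_le g)).op).hom.comp (φ.comp MvPolynomial.C) ∧
      ∀ (G : CochainComplex X.Modules ℤ) (m : ℤ), PCCx m G U φ → PCCx m G (X.basicOpen g) φ'' := by
  obtain ⟨Gt, rfl⟩ := hφ g
  obtain ⟨φ', hφ's, hφ'⟩ := exists_loc_surj φ hφ
    (X.presheaf.map (homOfLE (X.basicOpen_le (φ Gt))).op).hom Gt (hU.isLocalization_basicOpen (φ Gt))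
  refine ⟨φ'.comp (sigmaLoc Gt).toRingHom, hφ's.comp (sigmaLoc_surjective Gt), ?_, ?_⟩
  · refine RingHom.ext fun a => ?_
    have h1 : (sigmaLoc Gt) (MvPolynomial.C a) =
        algebraMap (MvPolynomial ι R) (Localization.Away Gt) (MvPolynomial.C a) := by
      unfold sigmaLoc
      rw [MvPolynomial.aeval_C]
      rfl
    have h2 := congrArg (fun F => F (MvPolynomial.C a)) hφ'
    simp only [RingHom.comp_apply] at h2
    simp only [RingHom.comp_apply, AlgHom.toRingHom_eq_coe, RingHom.coe_coe, h1, h2]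
  · intro G m h
    have h1 := pc_localize U φ Gt φ' hφ' G m h
    exact (pc_chart_comp_iff_of_flat_fp (X.basicOpen (φ Gt)) R φ' (sigmaLoc Gt)
      (sigmaLoc_surjective Gt) _ m).1 h1

/-- **T2**: glueing polynomial charts along a cover by basic opens -/
theorem pcCx_of_basicOpen_cover {R : Type u} [CommRing R] (U : X.Opens) (hU : IsAffineOpen U)
    {ι : Type} [Finite ι] (φ : MvPolynomial ι R →+* Γ(X, U)) (hφ : Function.Surjective φ)
    {J : Type*} (g : J → Γ(X, U)) (hg : Ideal.span (Set.range g) = ⊤)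
    (κ : J → Type) [∀ j, Finite (κ j)]
    (ψ : ∀ j, MvPolynomial (κ j) R →+* Γ(X, X.basicOpen (g j)))
    (hψ : ∀ j, Function.Surjective (ψ j))
    (hψC : ∀ j, (ψ j).comp MvPolynomial.C =
      (X.presheaf.map (homOfLE (X.basicOpen_le (g j))).op).hom.comp (φ.comp MvPolynomial.C))
    (G : CochainComplex X.Modules ℤ) (m : ℤ)
    (h : ∀ j, PCCx m G (X.basicOpen (g j)) (ψ j)) :
    PCCx m G U φ := by
  choose Gt hGt using fun j => hφ (g j)
  obtain rfl : g = fun j => φ (Gt j) := funext fun j => (hGt j).symm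
  choose φ' hφ's hφ' using fun j => exists_loc_surj φ hφ
    (X.presheaf.map (homOfLE (X.basicOpen_le (φ (Gt j)))).op).hom (Gt j)
    (hU.isLocalization_basicOpen (φ (Gt j)))
  refine pc_of_localize U hU φ hφ Gt hg φ' hφ' G m (fun j => ?_)
  refine (pc_chart_comp_iff_of_flat_fp (X.basicOpen (φ (Gt j))) R (φ' j) (sigmaLoc (Gt j))
      (sigmaLoc_surjective (Gt j)) _ m).2 ?_
  refine (pcCx_chart_iff (X.basicOpen (φ (Gt j))) _
    ((hφ's j).comp (sigmaLoc_surjective (Gt j))) (ψ j) (hψ j) ?_ G m).2 (h j)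
  rw [hψC j]
  refine RingHom.ext fun a => ?_
  have h1 : (sigmaLoc (Gt j)) (MvPolynomial.C a) =
      algebraMap (MvPolynomial ι R) (Localization.Away (Gt j)) (MvPolynomial.C a) := by
    unfold sigmaLoc
    rw [MvPolynomial.aeval_C]
    rfl
  have h2 := congrArg (fun F => F (MvPolynomial.C a)) (hφ' j)
  simp only [RingHom.comp_apply] at h2
  simp only [RingHom.comp_apply, AlgHom.toRingHom_eq_coe, RingHom.coe_coe, h1, h2]

section base

variable {R R' : Type u} [CommRing R] [CommRing R'] [Algebra R R'] {ι : Type} [Finite ι]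

/-- **T3**: a chart over a localization `R_r` of the base ring gives a chart over `R` -/
theorem exists_chart_of_base_loc (r : R) [IsLocalization.Away r R'] (U : X.Opens)
    (φ : MvPolynomial ι R' →+* Γ(X, U)) (hφ : Function.Surjective φ) :
    ∃ ψ : MvPolynomial (Option ι) R →+* Γ(X, U), Function.Surjective ψ ∧
      ψ.comp MvPolynomial.C = (φ.comp MvPolynomial.C).comp (algebraMap R R') ∧
      ∀ (G : CochainComplex X.Modules ℤ) (m : ℤ), PCCx m G U φ ↔ PCCx m G U ψ := by
  haveI := flat_mvPoly_loc (ι := ι) (R' := R') r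
  haveI := fp_mvPoly_loc (ι := ι) (R' := R') r
  refine ⟨φ.comp (sigmaBase r).toRingHom, hφ.comp (sigmaBase_surjective r), ?_, fun G m => ?_⟩
  · refine RingHom.ext fun a => ?_
    have h2 : sigmaBase (ι := ι) (R' := R') r (MvPolynomial.C a) =
        MvPolynomial.C (algebraMap R R' a) := by
      unfold sigmaBase
      rw [MvPolynomial.aeval_C]
      rfl
    simp only [RingHom.comp_apply, AlgHom.toRingHom_eq_coe, RingHom.coe_coe, h2]
  · exact pc_chart_comp_iff_of_flat_fp U R φ (sigmaBase r) (sigmaBase_surjective r) _ m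

attribute [local instance] MvPolynomial.algebraMvPolynomial in
lemma isOpenImmersion_map_loc (r : R) [IsLocalization.Away r R'] : IsOpenImmersion (Spec.map (CommRingCat.ofHom
    (MvPolynomial.map (σ := ι) (algebraMap R R')))) := by
  haveI : IsLocalization.Away (MvPolynomial.C (σ := ι) r) (MvPolynomial ι R') := by
    have := MvPolynomial.isLocalization (σ := ι) (Submonoid.powers r) R'
    rwa [Submonoid.map_powers] at this
  exact IsOpenImmersion.of_isLocalization (MvPolynomial.C (σ := ι) r)

/-- **T3b**: a chart over `R` gives a chart over a localization `R_r` through which the structure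
map factors -/
theorem exists_chart_base_loc (r : R) [IsLocalization.Away r R'] (U : X.Opens)
    (φ : MvPolynomial ι R →+* Γ(X, U)) (hφ : Function.Surjective φ) (ρ' : R' →+* Γ(X, U))
    (hρ' : ρ'.comp (algebraMap R R') = φ.comp MvPolynomial.C) :
    ∃ φr : MvPolynomial ι R' →+* Γ(X, U), Function.Surjective φr ∧
      φr.comp MvPolynomial.C = ρ' ∧
      ∀ (G : CochainComplex X.Modules ℤ) (m : ℤ), PCCx m G U φ → PCCx m G U φr := by
  let φr : MvPolynomial ι R' →+* Γ(X, U) :=
    MvPolynomial.eval₂Hom ρ' (fun i => φ (MvPolynomial.X i))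
  have hcomp : φr.comp (MvPolynomial.map (algebraMap R R')) = φ := by
    refine MvPolynomial.ringHom_ext (fun a => ?_) (fun i => ?_)
    · have := congrArg (fun F => F a) hρ'
      simp only [RingHom.comp_apply] at this
      simp [φr, this]
    · simp [φr]
  refine ⟨φr, ?_, ?_, fun G m h => ?_⟩
  · intro a
    obtain ⟨p, rfl⟩ := hφ a
    exact ⟨MvPolynomial.map (algebraMap R R') p, congrArg (fun F => F p) hcomp⟩
  · refine RingHom.ext fun a => ?_
    simp [φr]
  · haveI := isOpenImmersion_map_loc (ι := ι) (R' := R') r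
    unfold PCCx at h ⊢
    have comm : chartImm' U φr ≫ Spec.map (CommRingCat.ofHom
        (MvPolynomial.map (σ := ι) (algebraMap R R'))) = 𝟙 _ ≫ chartImm' U φ := by
      rw [← chartImm'_comp, hcomp, Category.id_comp]
    have h1 := pc_restrict_push (chartImm' U φ) (chartImm' U φr) (𝟙 _) _ comm
      (hcart_of_le _ _ _ _ comm (by
        intro x _
        exact ⟨x, rfl⟩)) _ m h
    refine isPseudoCoherentD_of_iso (DerivedCategory.Q.mapIso
      ((DerSch.pushCx (chartImm' U φr)).mapIso ?_)) h1
    exact ((NatIso.mapHomologicalComplex Scheme.Modules.restrictFunctorId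
      (ComplexShape.up ℤ)).app _ ≪≫ (Functor.mapHomologicalComplexIdIso _ _).app _)

end base

end Groth.Agent.Lib.H6xChart
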