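import Mathlib
import Groth.Agent.Lib.H6xChartG
set_option backward.isDefEq.respectTransparency.types false

/-!
# Relative pseudo-coherence in chart form: all affine pairs (helper6; S7208, S7217, S7218)
-/

set_option autoImplicit false
set_option linter.style.haveILetI false

universe u

open CategoryTheory CategoryTheory.Limits AlgebraicGeometry HomologicalComplex TopologicalSpace
  Opposite

attribute [local instance] HasDerivedCategory.standard

namespace Groth.Agent.Lib.H6xChart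

open Groth.Agent.Lib.H6xClPush Groth.Agent.Lib.H6xPC3 Groth.Agent.Lib.H6xPCoh

variable {X S : Scheme.{u}}

/-- reindexing a polynomial chart by `Fin n` -/
theorem exists_fin_chart {R : Type u} [CommRing R] (U : X.Opens) {ι : Type} [Finite ι]
    (ψ : MvPolynomial ι R →+* Γ(X, U)) (hψ : Function.Surjective ψ) :
    ∃ (n : ℕ) (ψ' : MvPolynomial (Fin n) R →+* Γ(X, U)), Function.Surjective ψ' ∧
      ψ'.comp MvPolynomial.C = ψ.comp MvPolynomial.C ∧
      ∀ (G : CochainComplex X.Modules ℤ) (m : ℤ), PCCx m G U ψ ↔ PCCx m G U ψ' := by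
  let e := Finite.equivFin ι
  let σ : MvPolynomial (Fin (Nat.card ι)) R →ₐ[R] MvPolynomial ι R :=
    (MvPolynomial.renameEquiv R e.symm).toAlgHom
  have hσ : Function.Surjective σ := (MvPolynomial.renameEquiv R e.symm).surjective
  refine ⟨Nat.card ι, ψ.comp σ.toRingHom, hψ.comp hσ, ?_, fun G m => ?_⟩
  · refine RingHom.ext fun a => ?_
    have : σ (MvPolynomial.C a) = MvPolynomial.C a := MvPolynomial.rename_C _ _
    simp only [RingHom.comp_apply, AlgHom.toRingHom_eq_coe, RingHom.coe_coe, this]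
  · exact pc_chart_comp_iff_of_flat_fp U R ψ σ hσ _ m

/-- a ring map of finite type has a polynomial chart -/
lemma exists_chart_of_finiteType {R A : Type u} [CommRing R] [CommRing A] (ρ : R →+* A)
    (h : ρ.FiniteType) :
    ∃ (n : ℕ) (φ : MvPolynomial (Fin n) R →+* A), Function.Surjective φ ∧
      φ.comp MvPolynomial.C = ρ := by
  letI := ρ.toAlgebra
  obtain ⟨n, f, hf⟩ := Algebra.FiniteType.iff_quotient_mvPolynomial''.1 h
  refine ⟨n, f.toRingHom, hf, RingHom.ext fun a => ?_⟩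
  change f (MvPolynomial.C a) = ρ a
  rw [← MvPolynomial.algebraMap_eq, f.commutes]
  rfl

/-- **S7218** -/
theorem main_S7218 (f : X ⟶ S) (V : S.affineOpens)
    (r : Γ(S, (V : S.Opens))) (U : X.affineOpens) (hU : (U : X.Opens) ≤ f ⁻¹ᵁ S.basicOpen r)
    (g : Γ(X, (U : X.Opens))) (h' : X.basicOpen g ≤ f ⁻¹ᵁ (V : S.Opens))
    (m : ℤ) (E : DCoh.D X)
    (hE : ∃ (n : ℕ) (φ : MvPolynomial (Fin n) Γ(S, S.basicOpen r) →+* Γ(X, (U : X.Opens))),
      DerSch.IsChart f (U : X.Opens) (S.basicOpen r) hU φ ∧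
        DerSch.ChartPC m E (U : X.Opens) (S.basicOpen r) φ) :
    ∃ (k : ℕ) (ψ : MvPolynomial (Fin k) Γ(S, (V : S.Opens)) →+* Γ(X, X.basicOpen g)),
      DerSch.IsChart f (X.basicOpen g) (V : S.Opens) h' ψ ∧
        DerSch.ChartPC m E (X.basicOpen g) (V : S.Opens) ψ := by
  obtain ⟨n, φ, ⟨hφs, hφC⟩, hpc⟩ := hE
  obtain ⟨φ₁, h1s, h1C, h1pc⟩ := exists_chart_basicOpen U.1 U.2 φ hφs g
  haveI : IsLocalization.Away r Γ(S, S.basicOpen r) := V.2.isLocalization_basicOpen r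
  obtain ⟨φ₂, h2s, h2C, h2pc⟩ := exists_chart_of_base_loc r (X.basicOpen g) φ₁ h1s
  obtain ⟨k, ψ, h3s, h3C, h3pc⟩ := exists_fin_chart (X.basicOpen g) φ₂ h2s
  refine ⟨k, ψ, ⟨h3s, ?_⟩, fun G hG => ?_⟩
  · rw [h3C, h2C, h1C, hφC]
    refine RingHom.ext fun a => ?_
    have : (S.presheaf.map (homOfLE (S.basicOpen_le r)).op ≫ f.appLE (S.basicOpen r) U.1 hU ≫
        X.presheaf.map (homOfLE (X.basicOpen_le g)).op) = f.appLE V.1 (X.basicOpen g) h' := by
      rw [Scheme.Hom.appLE_map, Scheme.Hom.map_appLE]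
    exact congrArg (fun F => F.hom a) this
  · exact (h3pc G m).1 ((h2pc G m).1 (h1pc G m (hpc G hG)))

/-- **S7217** -/
theorem main_S7217 (f : X ⟶ S) (U : X.affineOpens)
    (V : S.affineOpens) (h : (U : X.Opens) ≤ f ⁻¹ᵁ (V : S.Opens))
    (hft : (f.appLE (V : S.Opens) (U : X.Opens) h).hom.FiniteType) (m : ℤ) (E : DCoh.D X)
    {k : ℕ} (g : Fin k → Γ(X, (U : X.Opens))) (hg : Ideal.span (Set.range g) = ⊤) :
    (∀ j : Fin k, ∃ (n : ℕ) (φ : MvPolynomial (Fin n) Γ(S, (V : S.Opens)) →+*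
          Γ(X, X.basicOpen (g j))),
        DerSch.IsChart f (X.basicOpen (g j)) (V : S.Opens) ((X.basicOpen_le (g j)).trans h) φ ∧
          DerSch.ChartPC m E (X.basicOpen (g j)) (V : S.Opens) φ) ↔
      ∃ (n : ℕ) (φ : MvPolynomial (Fin n) Γ(S, (V : S.Opens)) →+* Γ(X, (U : X.Opens))),
        DerSch.IsChart f (U : X.Opens) (V : S.Opens) h φ ∧
          DerSch.ChartPC m E (U : X.Opens) (V : S.Opens) φ := by
  have hres : ∀ j, (X.presheaf.map (homOfLE (X.basicOpen_le (g j))).op).hom.comp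
      (f.appLE V.1 U.1 h).hom = (f.appLE V.1 (X.basicOpen (g j))
        ((X.basicOpen_le (g j)).trans h)).hom := by
    intro j
    refine RingHom.ext fun a => ?_
    have : f.appLE V.1 U.1 h ≫ X.presheaf.map (homOfLE (X.basicOpen_le (g j))).op =
        f.appLE V.1 (X.basicOpen (g j)) ((X.basicOpen_le (g j)).trans h) := by
      rw [Scheme.Hom.appLE_map]
    exact congrArg (fun F => F.hom a) this
  constructor
  · intro hj
    obtain ⟨n₀, φ₀, hφ₀s, hφ₀C⟩ := exists_chart_of_finiteType _ hft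
    refine ⟨n₀, φ₀, ⟨hφ₀s, hφ₀C⟩, fun G hG => ?_⟩
    choose n φ hφ hpc using hj
    refine pcCx_of_basicOpen_cover U.1 U.2 φ₀ hφ₀s g hg (fun j => Fin (n j)) φ
      (fun j => (hφ j).1) (fun j => ?_) G m (fun j => hpc j G hG)
    rw [(hφ j).2, hφ₀C, hres]
  · rintro ⟨n, φ, ⟨hφs, hφC⟩, hpc⟩ j
    obtain ⟨φ₁, h1s, h1C, h1pc⟩ := exists_chart_basicOpen U.1 U.2 φ hφs (g j)
    obtain ⟨k', ψ, h3s, h3C, h3pc⟩ := exists_fin_chart (X.basicOpen (g j)) φ₁ h1s
    refine ⟨k', ψ, ⟨h3s, ?_⟩, fun G hG => ?_⟩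
    · rw [h3C, h1C, hφC, hres]
    · exact (h3pc G m).1 (h1pc G m (hpc G hG))

end Groth.Agent.Lib.H6xChart
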