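import Mathlib
import Groth.Agent.Lib.H6xChartH
set_option backward.isDefEq.respectTransparency.types false

/-!
# Relative pseudo-coherence in chart form is local; all affine pairs (helper6; S7208)
-/

set_option autoImplicit false
set_option linter.style.haveILetI false

universe u

open CategoryTheory CategoryTheory.Limits AlgebraicGeometry HomologicalComplex TopologicalSpace
  Opposite

attribute [local instance] HasDerivedCategory.standard

namespace Groth.Agent.Lib.H6xChart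

open Groth.Agent.Lib.H6xClPush Groth.Agent.Lib.H6xPC3 Groth.Agent.Lib.H6xPCoh

variable {X S : Scheme.{u}}

/-- transporting a chart over `W = D(r)` on `U'' = D(g)` to a chart over `V` -/
lemma chart_transport (f : X ⟶ S) (V : S.Opens) (hV : IsAffineOpen V) (r : Γ(S, V))
    (U : X.Opens) (g : Γ(X, U)) (hgV : X.basicOpen g ≤ f ⁻¹ᵁ V)
    (W : S.Opens) (hW : W = S.basicOpen r) (U'' : X.Opens) (hU'' : U'' = X.basicOpen g)
    (hle : U'' ≤ f ⁻¹ᵁ W) {κ : Type} [Finite κ]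
    (φ₂ : MvPolynomial κ Γ(S, W) →+* Γ(X, U'')) (h2s : Function.Surjective φ₂)
    (h2C : φ₂.comp MvPolynomial.C = (f.appLE W U'' hle).hom) :
    ∃ ψ : MvPolynomial (Option κ) Γ(S, V) →+* Γ(X, X.basicOpen g), Function.Surjective ψ ∧
      ψ.comp MvPolynomial.C = (f.appLE V (X.basicOpen g) hgV).hom ∧
      ∀ (G : CochainComplex X.Modules ℤ) (m : ℤ), PCCx m G U'' φ₂ → PCCx m G (X.basicOpen g) ψ := by
  subst hW hU''
  haveI : IsLocalization.Away r Γ(S, S.basicOpen r) := hV.isLocalization_basicOpen r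
  obtain ⟨ψ, hs, hC, hpc⟩ := exists_chart_of_base_loc r (X.basicOpen g) φ₂ h2s
  refine ⟨ψ, hs, ?_, fun G m h => (hpc G m).1 h⟩
  rw [hC, h2C]
  refine RingHom.ext fun a => ?_
  have : (S.presheaf.map (homOfLE (S.basicOpen_le r)).op ≫
      f.appLE (S.basicOpen r) (X.basicOpen g) hle) = f.appLE V (X.basicOpen g) hgV := by
    rw [Scheme.Hom.map_appLE]
  exact congrArg (fun F => F.hom a) this

/-- the local form of relative pseudo-coherence -/
def RelPCLocal (f : X ⟶ S) (m : ℤ) (E : DCoh.D X) : Prop :=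
  ∀ x : X, ∃ (U : X.affineOpens) (V : S.affineOpens) (h : (U : X.Opens) ≤ f ⁻¹ᵁ (V : S.Opens))
    (n : ℕ) (φ : MvPolynomial (Fin n) Γ(S, (V : S.Opens)) →+* Γ(X, (U : X.Opens))),
    x ∈ (U : X.Opens) ∧ DerSch.IsChart f (U : X.Opens) (V : S.Opens) h φ ∧
      DerSch.ChartPC m E (U : X.Opens) (V : S.Opens) φ

lemma relPCLocal_of_rel (f : X ⟶ S) (m : ℤ) (E : DCoh.D X)
    (hE : DerSch.IsPseudoCoherentRel f m E) : RelPCLocal f m E := by
  obtain ⟨-, 𝒱, h𝒱, h2⟩ := hE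
  intro x
  have hx : f.base x ∈ (⨆ V ∈ 𝒱, (V : S.Opens)) := by rw [h𝒱]; trivial
  simp only [Opens.mem_iSup] at hx
  obtain ⟨V, hV, hxV⟩ := hx
  obtain ⟨𝒰, h𝒰, h3⟩ := h2 V hV
  have hx' : x ∈ (⨆ U ∈ 𝒰, (U : X.Opens)) := by rw [h𝒰]; exact hxV
  simp only [Opens.mem_iSup] at hx'
  obtain ⟨U, hU, hxU⟩ := hx'
  have hle : (U : X.Opens) ≤ f ⁻¹ᵁ (V : S.Opens) := by
    rw [← h𝒰]
    exact le_iSup₂_of_le U hU le_rfl
  obtain ⟨n, φ, hφ, hpc⟩ := h3 U hU hle
  exact ⟨U, V, hle, n, φ, hxU, hφ, hpc⟩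

/-- the main theorem: a local chart test gives a chart test on every affine pair -/
theorem exists_chart_of_local (f : X ⟶ S) [LocallyOfFiniteType f] (m : ℤ) (E : DCoh.D X)
    (hloc : RelPCLocal f m E) (U : X.affineOpens) (V : S.affineOpens)
    (h : (U : X.Opens) ≤ f ⁻¹ᵁ (V : S.Opens)) :
    ∃ (n : ℕ) (φ : MvPolynomial (Fin n) Γ(S, (V : S.Opens)) →+* Γ(X, (U : X.Opens))),
      DerSch.IsChart f (U : X.Opens) (V : S.Opens) h φ ∧
        DerSch.ChartPC m E (U : X.Opens) (V : S.Opens) φ := by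
  obtain ⟨n₀, φ₀, hφ₀s, hφ₀C⟩ := exists_chart_of_finiteType _
    (LocallyOfFiniteType.finiteType_appLE f V.2 U.2 h)
  refine ⟨n₀, φ₀, ⟨hφ₀s, hφ₀C⟩, ?_⟩
  -- local data at each point of `U`
  have key : ∀ x : (U : X.Opens), ∃ (g : Γ(X, (U : X.Opens))) (κ : Type) (_ : Finite κ)
      (ψ : MvPolynomial κ Γ(S, (V : S.Opens)) →+* Γ(X, X.basicOpen g)),
      x.1 ∈ X.basicOpen g ∧ Function.Surjective ψ ∧
      ψ.comp MvPolynomial.C = (X.presheaf.map (homOfLE (X.basicOpen_le g)).op).hom.comp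
        (φ₀.comp MvPolynomial.C) ∧
      ∀ G : CochainComplex X.Modules ℤ, Nonempty (DCoh.toD X G ≅ E) →
        PCCx m G (X.basicOpen g) ψ := by
    intro x
    obtain ⟨U', V', h'', n, φ', hxU', ⟨hφ's, hφ'C⟩, hpc⟩ := hloc x.1
    obtain ⟨r, r', hrr', hxr⟩ := exists_basicOpen_le_affine_inter V.2 V'.2 (f.base x.1)
      ⟨h x.2, h'' hxU'⟩
    obtain ⟨a, a', haa', hxa⟩ := exists_basicOpen_le_affine_inter U.2 U'.2 x.1 ⟨x.2, hxU'⟩
    let g : Γ(X, (U : X.Opens)) := a * (f.appLE V.1 U.1 h).hom r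
    let g' : Γ(X, (U' : X.Opens)) := a' * (f.appLE V'.1 U'.1 h'').hom r'
    have hg : X.basicOpen g = X.basicOpen a ⊓ f ⁻¹ᵁ S.basicOpen r := by
      change X.basicOpen (a * (f.appLE V.1 U.1 h).hom r) = _
      rw [Scheme.basicOpen_mul]
      erw [Scheme.basicOpen_appLE]
      rw [← inf_assoc, inf_eq_left.2 (X.basicOpen_le a)]
    have hg' : X.basicOpen g' = X.basicOpen a ⊓ f ⁻¹ᵁ S.basicOpen r := by
      change X.basicOpen (a' * (f.appLE V'.1 U'.1 h'').hom r') = _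
      rw [Scheme.basicOpen_mul]
      erw [Scheme.basicOpen_appLE]
      rw [← inf_assoc, inf_eq_left.2 (X.basicOpen_le a'), haa', hrr']
    have hgg' : X.basicOpen g' = X.basicOpen g := hg'.trans hg.symm
    have hxg : x.1 ∈ X.basicOpen g := by
      rw [hg]
      exact ⟨hxa, hxr⟩
    -- restrict the chart on `U'` to `D(g')`
    obtain ⟨φ₁, h1s, h1C, h1pc⟩ := exists_chart_basicOpen U'.1 U'.2 φ' hφ's g'
    have hle' : X.basicOpen g' ≤ f ⁻¹ᵁ S.basicOpen r' := by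
      rw [hg', hrr']
      exact inf_le_right
    haveI : IsLocalization.Away r' Γ(S, S.basicOpen r') := V'.2.isLocalization_basicOpen r'
    have hρ' : (f.appLE (S.basicOpen r') (X.basicOpen g') hle').hom.comp
        (algebraMap Γ(S, V'.1) Γ(S, S.basicOpen r')) = φ₁.comp MvPolynomial.C := by
      rw [h1C, hφ'C]
      refine RingHom.ext fun b => ?_
      have : (S.presheaf.map (homOfLE (S.basicOpen_le r')).op ≫
          f.appLE (S.basicOpen r') (X.basicOpen g') hle') =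
          f.appLE V'.1 U'.1 h'' ≫ X.presheaf.map (homOfLE (X.basicOpen_le g')).op := by
        rw [Scheme.Hom.map_appLE, Scheme.Hom.appLE_map]
      exact congrArg (fun F => F.hom b) this
    obtain ⟨φ₂, h2s, h2C, h2pc⟩ := exists_chart_base_loc r' (X.basicOpen g') φ₁ h1s _ hρ'
    have hgV : X.basicOpen g ≤ f ⁻¹ᵁ V.1 := (X.basicOpen_le g).trans h
    obtain ⟨ψ, hψs, hψC, hψpc⟩ := chart_transport f V.1 V.2 r U.1 g hgV (S.basicOpen r')
      hrr'.symm (X.basicOpen g') hgg' hle' φ₂ h2s h2C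
    refine ⟨g, _, inferInstance, ψ, hxg, hψs, ?_, fun G hG => ?_⟩
    · rw [hψC, hφ₀C]
      refine RingHom.ext fun b => ?_
      have : f.appLE V.1 (X.basicOpen g) hgV =
          f.appLE V.1 U.1 h ≫ X.presheaf.map (homOfLE (X.basicOpen_le g)).op := by
        rw [Scheme.Hom.appLE_map]
      exact congrArg (fun F => F.hom b) this
    · exact hψpc G m (h2pc G m (h1pc G m (hpc G hG)))
  choose g κ hκ ψ hxg hψs hψC hψpc using key
  have hspan : Ideal.span (Set.range g) = ⊤ := by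
    rw [← U.2.self_le_iSup_basicOpen_iff]
    intro x hx
    rw [Opens.mem_iSup]
    exact ⟨⟨g ⟨x, hx⟩, ⟨⟨x, hx⟩, rfl⟩⟩, hxg ⟨x, hx⟩⟩
  intro G hG
  exact pcCx_of_basicOpen_cover U.1 U.2 φ₀ hφ₀s g hspan κ ψ hψs hψC G m (fun x => hψpc x G hG)

/-- **S7208** -/
theorem main_S7208 (f : X ⟶ S) [LocallyOfFiniteType f] (m : ℤ) (E : DCoh.D X) :
    DerSch.IsPseudoCoherentRel f m E ↔
      ∀ (U : X.affineOpens) (V : S.affineOpens) (h : (U : X.Opens) ≤ f ⁻¹ᵁ (V : S.Opens)),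
        ∃ (n : ℕ) (φ : MvPolynomial (Fin n) Γ(S, (V : S.Opens)) →+* Γ(X, (U : X.Opens))),
          DerSch.IsChart f (U : X.Opens) (V : S.Opens) h φ ∧
            DerSch.ChartPC m E (U : X.Opens) (V : S.Opens) φ := by
  constructor
  · intro hE
    exact exists_chart_of_local f m E (relPCLocal_of_rel f m E hE)
  · intro hall
    refine ⟨inferInstance, Set.univ, ?_, fun V _ => ⟨{U | (U : X.Opens) ≤ f ⁻¹ᵁ (V : S.Opens)}, ?_,
      fun U _ hle => hall U V hle⟩⟩
    · rw [eq_top_iff]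
      intro s _
      obtain ⟨V, hV, hsV, -⟩ := Opens.isBasis_iff_nbhd.1 S.isBasis_affineOpens
        (show s ∈ (⊤ : S.Opens) from trivial)
      simp only [Opens.mem_iSup]
      exact ⟨⟨V, hV⟩, Set.mem_univ _, hsV⟩
    · apply le_antisymm
      · exact iSup₂_le fun U hU => hU
      · intro x hx
        obtain ⟨U, hU, hxU, hUle⟩ := Opens.isBasis_iff_nbhd.1 X.isBasis_affineOpens hx
        simp only [Opens.mem_iSup]
        exact ⟨⟨U, hU⟩, hUle, hxU⟩

end Groth.Agent.Lib.H6xChart
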