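import Mathlib
import Groth.Prelude.Def_ClSub2
import Groth.Agent.Lib.H6xChartI
import Groth.Agent.Lib.R2H2ProjOverPush
import Groth.Agent.Lib.Helper23TensorUnit
set_option backward.isDefEq.respectTransparency.types false

/-!
# Relative pseudo-coherence: independence of the representative; isomorphisms; generalized charts
(helper6)
-/

set_option autoImplicit false
set_option linter.style.haveILetI false

universe u

open CategoryTheory CategoryTheory.Limits AlgebraicGeometry HomologicalComplex TopologicalSpace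
  Opposite

attribute [local instance] HasDerivedCategory.standard

namespace Groth.Agent.Lib.H6xChart

open Groth.Agent.Lib.H6xClPush Groth.Agent.Lib.H6xPC3 Groth.Agent.Lib.H6xPCoh

instance isIso_unitToPush {Z W : Scheme.{u}} (e : Z ⟶ W) [IsIso e] :
    IsIso (ClSub.unitToPush e) := by
  rw [Scheme.Modules.Hom.isIso_iff_isIso_app]
  intro U
  rw [ConcreteCategory.isIso_iff_bijective]
  exact (ConcreteCategory.isIso_iff_bijective (e.app U)).1 inferInstance

/-- the structure sheaf in degree `0` is pseudo-coherent -/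
lemma pc_inD_structureModule (W : Scheme.{u}) (m : ℤ) :
    DCoh.IsPseudoCoherentD m (DCoh.inD W (Coh.structureModule W)) := by
  have hO : FlatMod.IsFinLocFree (Coh.structureModule W) :=
    Groth.Agent.Lib.R2H2.ProjOverPush.isFinLocFree_of_isInvertible
      (Groth.Agent.Lib.Helper23.TensorUnit.isInvertible_structureModule W)
  have h := (pcGlobal_of_strictlyPerfect _ (isStrictlyPerfect_single' 0 _ hO) m).isPseudoCoherentD
  exact isPseudoCoherentD_of_iso
    ((DerivedCategory.singleFunctorIsoCompQ W.Modules 0).app (Coh.structureModule W)).symm h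

lemma pushOPC_of_isIso {Z W : Scheme.{u}} (e : Z ⟶ W) [IsIso e] : PushOPC e := by
  intro m
  exact isPseudoCoherentD_of_iso ((DerivedCategory.singleFunctor _ 0).mapIso
    (asIso (ClSub.unitToPush e))) (pc_inD_structureModule W m)

/-- direct image along an isomorphism does not change pseudo-coherence -/
theorem pc_pushCx_iso_iff {Z W : Scheme.{u}} (e : Z ⟶ W) [IsIso e]
    (H : CochainComplex Z.Modules ℤ) (m : ℤ) :
    DCoh.IsPseudoCoherentD m (DCoh.toD W ((DerSch.pushCx e).obj H)) ↔
      DCoh.IsPseudoCoherentD m (DCoh.toD Z H) := by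
  rw [pc_iff_push (pushOPC_of_isIso e) (DCoh.toD Z H) m]
  have e' : (Scheme.Modules.pushforward e).mapDerivedCategory.obj (DCoh.toD Z H) ≅
      DCoh.toD W ((DerSch.pushCx e).obj H) :=
    (Scheme.Modules.pushforward e).mapDerivedCategoryFactors.app _
  exact ⟨isPseudoCoherentD_of_iso e'.symm, isPseudoCoherentD_of_iso e'⟩

variable {X : Scheme.{u}}

lemma isClosedImmersion_chartImm' (U : X.Opens) (hU : IsAffineOpen U) {P : Type u} [CommRing P]
    (φ : P →+* Γ(X, U)) (hφ : Function.Surjective φ) : IsClosedImmersion (chartImm' U φ) := by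
  unfold chartImm'
  haveI : IsIso U.toSpecΓ := hU.isoSpec.isIso_hom
  haveI := isClosedImmersion_Spec φ hφ
  infer_instance

/-- the chart functor on complexes -/
noncomputable abbrev chartCx (U : X.Opens) {P : Type u} [CommRing P] (φ : P →+* Γ(X, U)) :
    CochainComplex X.Modules ℤ ⥤ DCoh.D (Spec (CommRingCat.of P)) :=
  DCoh.restrictCx U ⋙ DerSch.pushCx (chartImm' U φ) ⋙ DerivedCategory.Q

/-- the chart functor on the derived category (for a closed immersion) -/
noncomputable abbrev chartD (U : X.Opens) {P : Type u} [CommRing P] (φ : P →+* Γ(X, U))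
    [IsClosedImmersion (chartImm' U φ)] : DCoh.D X ⥤ DCoh.D (Spec (CommRingCat.of P)) :=
  DCoh.restrictD U.ι ⋙ (Scheme.Modules.pushforward (chartImm' U φ)).mapDerivedCategory

noncomputable def chartCxIso (U : X.Opens) {P : Type u} [CommRing P] (φ : P →+* Γ(X, U))
    [IsClosedImmersion (chartImm' U φ)] :
    chartCx U φ ≅ DerivedCategory.Q ⋙ chartD U φ :=
  (Functor.isoWhiskerLeft (DCoh.restrictCx U)
      (Scheme.Modules.pushforward (chartImm' U φ)).mapDerivedCategoryFactors.symm) ≪≫
    (Functor.associator _ _ _).symm ≪≫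
    Functor.isoWhiskerRight (Scheme.Modules.restrictFunctor U.ι).mapDerivedCategoryFactors.symm _ ≪≫
    Functor.associator _ _ _

lemma pcCx_iff_chartD (U : X.Opens) {P : Type u} [CommRing P] (φ : P →+* Γ(X, U))
    [IsClosedImmersion (chartImm' U φ)] (G : CochainComplex X.Modules ℤ) (m : ℤ) :
    PCCx m G U φ ↔ DCoh.IsPseudoCoherentD m ((chartD U φ).obj (DCoh.toD X G)) := by
  have e := (chartCxIso U φ).app G
  exact ⟨isPseudoCoherentD_of_iso e, isPseudoCoherentD_of_iso e.symm⟩

/-- **Lemma A**: the chart test does not depend on the representative -/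
theorem pcCx_iff_of_iso (U : X.Opens) (hU : IsAffineOpen U) {P : Type u} [CommRing P]
    (φ : P →+* Γ(X, U)) (hφ : Function.Surjective φ) {G G' : CochainComplex X.Modules ℤ}
    (e : DCoh.toD X G ≅ DCoh.toD X G') (m : ℤ) : PCCx m G U φ ↔ PCCx m G' U φ := by
  haveI := isClosedImmersion_chartImm' U hU φ hφ
  rw [pcCx_iff_chartD, pcCx_iff_chartD]
  have e' := (chartD U φ).mapIso e
  exact ⟨isPseudoCoherentD_of_iso e', isPseudoCoherentD_of_iso e'.symm⟩

theorem chartPC_iff_pcCx {S : Scheme.{u}} (U : X.Opens) (hU : IsAffineOpen U) (V : S.Opens) {n : ℕ}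
    (φ : MvPolynomial (Fin n) Γ(S, V) →+* Γ(X, U)) (hφ : Function.Surjective φ)
    (G : CochainComplex X.Modules ℤ) (K : DCoh.D X) (e : DCoh.toD X G ≅ K) (m : ℤ) :
    DerSch.ChartPC m K U V φ ↔ PCCx m G U φ := by
  constructor
  · intro h
    exact h G ⟨e⟩
  · intro h G' ⟨e'⟩
    exact (pcCx_iff_of_iso U hU φ hφ (e ≪≫ e'.symm) m).1 h

/-- the chart test in terms of the chart functor on the derived category -/
theorem chartPC_iff_chartD {S : Scheme.{u}} (U : X.Opens) (hU : IsAffineOpen U) (V : S.Opens)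
    {n : ℕ} (φ : MvPolynomial (Fin n) Γ(S, V) →+* Γ(X, U)) (hφ : Function.Surjective φ)
    (K : DCoh.D X) (m : ℤ) :
    haveI := isClosedImmersion_chartImm' U hU φ hφ
    DerSch.ChartPC m K U V φ ↔ DCoh.IsPseudoCoherentD m ((chartD U φ).obj K) := by
  haveI := isClosedImmersion_chartImm' U hU φ hφ
  let G := (DerivedCategory.Q : _ ⥤ DCoh.D X).objPreimage K
  let e : DCoh.toD X G ≅ K := DerivedCategory.Q.objObjPreimageIso K
  rw [chartPC_iff_pcCx U hU V φ hφ G K e m, pcCx_iff_chartD]
  have e' := (chartD U φ).mapIso e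
  exact ⟨isPseudoCoherentD_of_iso e', isPseudoCoherentD_of_iso e'.symm⟩

end Groth.Agent.Lib.H6xChart
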