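import Mathlib
import Groth.Agent.Lib.H6xChartJ
set_option backward.isDefEq.respectTransparency.types false

/-!
# Relative pseudo-coherence: generalized charts (surjections from flat finitely presented algebras)
(helper6)
-/

set_option autoImplicit false
set_option linter.style.haveILetI false

universe u

open CategoryTheory CategoryTheory.Limits AlgebraicGeometry HomologicalComplex TopologicalSpace
  Opposite

attribute [local instance] HasDerivedCategory.standard

namespace Groth.Agent.Lib.H6xChart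

open Groth.Agent.Lib.H6xClPush Groth.Agent.Lib.H6xPC3 Groth.Agent.Lib.H6xPCoh

variable {X S : Scheme.{u}}

theorem rel_iff_local (f : X ⟶ S) [LocallyOfFiniteType f] (m : ℤ) (E : DCoh.D X) :
    DerSch.IsPseudoCoherentRel f m E ↔ RelPCLocal f m E :=
  ⟨relPCLocal_of_rel f m E, fun h => (main_S7208 f m E).2 (exists_chart_of_local f m E h)⟩

/-- a generalized chart tests relative pseudo-coherence -/
theorem gen_chart_iff (f : X ⟶ S) (U : X.affineOpens) (V : S.affineOpens)
    (h : (U : X.Opens) ≤ f ⁻¹ᵁ (V : S.Opens))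
    {P : Type u} [CommRing P] [Algebra Γ(S, (V : S.Opens)) P] [Module.Flat Γ(S, (V : S.Opens)) P]
    [Algebra.FinitePresentation Γ(S, (V : S.Opens)) P]
    (φ : P →+* Γ(X, (U : X.Opens))) (hφ : Function.Surjective φ)
    (hφC : φ.comp (algebraMap Γ(S, (V : S.Opens)) P) = (f.appLE (V : S.Opens) (U : X.Opens) h).hom)
    (G : CochainComplex X.Modules ℤ) (m : ℤ) :
    (∃ (n : ℕ) (ψ : MvPolynomial (Fin n) Γ(S, (V : S.Opens)) →+* Γ(X, (U : X.Opens))),
        DerSch.IsChart f (U : X.Opens) (V : S.Opens) h ψ ∧ PCCx m G (U : X.Opens) ψ) ↔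
      PCCx m G (U : X.Opens) φ := by
  obtain ⟨n₀, π, hπ⟩ := Algebra.FiniteType.iff_quotient_mvPolynomial''.1
    (inferInstance : Algebra.FiniteType Γ(S, (V : S.Opens)) P)
  have hψ₀C : (φ.comp π.toRingHom).comp MvPolynomial.C =
      (f.appLE (V : S.Opens) (U : X.Opens) h).hom := by
    rw [← hφC]
    refine RingHom.ext fun a => ?_
    change φ (π (MvPolynomial.C a)) = φ (algebraMap _ P a)
    rw [← MvPolynomial.algebraMap_eq, π.commutes]
  have h0 : PCCx m G (U : X.Opens) φ ↔ PCCx m G (U : X.Opens) (φ.comp π.toRingHom) :=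
    pc_chart_comp_iff_of_flat_fp (U : X.Opens) Γ(S, (V : S.Opens)) φ π hπ _ m
  constructor
  · rintro ⟨n, ψ, ⟨hψs, hψC⟩, hpc⟩
    rw [h0]
    exact (pcCx_chart_iff (U : X.Opens) ψ hψs _ (hφ.comp hπ) (hψC.trans hψ₀C.symm) G m).1 hpc
  · intro hpc
    exact ⟨n₀, φ.comp π.toRingHom, ⟨hφ.comp hπ, hψ₀C⟩, h0.1 hpc⟩

/-- relative pseudo-coherence can be tested on any cover by affine pairs with generalized charts -/
theorem rel_iff_of_gen_charts (f : X ⟶ S) [LocallyOfFiniteType f] (m : ℤ)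
    (G : CochainComplex X.Modules ℤ) {I : Type*} (U : I → X.affineOpens) (V : I → S.affineOpens)
    (h : ∀ i, ((U i : X.affineOpens) : X.Opens) ≤ f ⁻¹ᵁ ((V i : S.affineOpens) : S.Opens))
    (hcov : ∀ x : X, ∃ i, x ∈ ((U i : X.affineOpens) : X.Opens))
    (P : I → Type u) [∀ i, CommRing (P i)] [∀ i, Algebra Γ(S, ((V i : S.affineOpens) : S.Opens)) (P i)]
    [∀ i, Module.Flat Γ(S, ((V i : S.affineOpens) : S.Opens)) (P i)]
    [∀ i, Algebra.FinitePresentation Γ(S, ((V i : S.affineOpens) : S.Opens)) (P i)]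
    (φ : ∀ i, P i →+* Γ(X, ((U i : X.affineOpens) : X.Opens)))
    (hφ : ∀ i, Function.Surjective (φ i))
    (hφC : ∀ i, (φ i).comp (algebraMap Γ(S, ((V i : S.affineOpens) : S.Opens)) (P i)) =
      (f.appLE _ _ (h i)).hom) :
    DerSch.IsPseudoCoherentRel f m (DCoh.toD X G) ↔
      ∀ i, PCCx m G ((U i : X.affineOpens) : X.Opens) (φ i) := by
  constructor
  · intro hE i
    obtain ⟨n, ψ, hψ, hpc⟩ := (main_S7208 f m _).1 hE (U i) (V i) (h i)
    exact (gen_chart_iff f (U i) (V i) (h i) (φ i) (hφ i) (hφC i) G m).1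
      ⟨n, ψ, hψ, hpc G ⟨Iso.refl _⟩⟩
  · intro hall
    rw [rel_iff_local]
    intro x
    obtain ⟨i, hi⟩ := hcov x
    obtain ⟨n, ψ, hψ, hpc⟩ := (gen_chart_iff f (U i) (V i) (h i) (φ i) (hφ i) (hφC i) G m).2
      (hall i)
    exact ⟨U i, V i, h i, n, ψ, hi, hψ,
      (chartPC_iff_pcCx _ (U i).2 _ ψ hψ.1 G _ (Iso.refl _) m).2 hpc⟩

end Groth.Agent.Lib.H6xChart
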