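import Mathlib
import Groth.Agent.Lib.H6xChartK
set_option backward.isDefEq.respectTransparency.types false

/-!
# Relative pseudo-coherence: flat finitely presented towers (helper6; S7226)
-/

set_option autoImplicit false
set_option linter.style.haveILetI false

universe u

open CategoryTheory CategoryTheory.Limits AlgebraicGeometry HomologicalComplex TopologicalSpace
  Opposite

attribute [local instance] HasDerivedCategory.standard

namespace Groth.Agent.Lib.H6xChart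

open Groth.Agent.Lib.H6xClPush Groth.Agent.Lib.H6xPC3 Groth.Agent.Lib.H6xPCoh

variable {X S : Scheme.{u}}

lemma chartPC_of_iso {K K' : DCoh.D X} (e : K ≅ K') (m : ℤ) (U : X.Opens) (V : S.Opens) {n : ℕ}
    (φ : MvPolynomial (Fin n) Γ(S, V) →+* Γ(X, U)) (h : DerSch.ChartPC m K U V φ) :
    DerSch.ChartPC m K' U V φ :=
  fun G ⟨eG⟩ => h G ⟨eG ≪≫ e.symm⟩

lemma rel_of_iso (f : X ⟶ S) {K K' : DCoh.D X} (e : K ≅ K') (m : ℤ)
    (h : DerSch.IsPseudoCoherentRel f m K) : DerSch.IsPseudoCoherentRel f m K' := by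
  obtain ⟨hf, 𝒱, h𝒱, h2⟩ := h
  refine ⟨hf, 𝒱, h𝒱, fun V hV => ?_⟩
  obtain ⟨𝒰, h𝒰, h3⟩ := h2 V hV
  refine ⟨𝒰, h𝒰, fun U hU hle => ?_⟩
  obtain ⟨n, φ, hφ, hpc⟩ := h3 U hU hle
  exact ⟨n, φ, hφ, chartPC_of_iso e m _ _ φ hpc⟩

lemma rel_iff_of_iso (f : X ⟶ S) {K K' : DCoh.D X} (e : K ≅ K') (m : ℤ) :
    DerSch.IsPseudoCoherentRel f m K ↔ DerSch.IsPseudoCoherentRel f m K' :=
  ⟨rel_of_iso f e m, rel_of_iso f e.symm m⟩

/-- every point has an affine neighbourhood mapping into a given affine open containing its image -/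
lemma exists_affine_nhd_le {Y : Scheme.{u}} (f : X ⟶ Y) (x : X) (W : Y.Opens)
    (hx : f.base x ∈ W) : ∃ U : X.affineOpens, x ∈ (U : X.Opens) ∧ (U : X.Opens) ≤ f ⁻¹ᵁ W := by
  obtain ⟨U, hU, hxU, hUle⟩ := Opens.isBasis_iff_nbhd.1 X.isBasis_affineOpens
    (show x ∈ f ⁻¹ᵁ W from hx)
  exact ⟨⟨U, hU⟩, hxU, hUle⟩

lemma exists_affine_nhd (x : X) : ∃ U : X.affineOpens, x ∈ (U : X.Opens) := by
  obtain ⟨U, hU, hxU, -⟩ := Opens.isBasis_iff_nbhd.1 X.isBasis_affineOpens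
    (show x ∈ (⊤ : X.Opens) from trivial)
  exact ⟨⟨U, hU⟩, hxU⟩

/-- **S7226** -/
theorem main_S7226 {T : Scheme.{u}} (a : X ⟶ T) (b : T ⟶ S) [LocallyOfFiniteType a] [Flat b]
    [LocallyOfFinitePresentation b] (m : ℤ) (E : DCoh.D X) :
    DerSch.IsPseudoCoherentRel (a ≫ b) m E ↔ DerSch.IsPseudoCoherentRel a m E := by
  let G := (DerivedCategory.Q : _ ⥤ DCoh.D X).objPreimage E
  let e : DCoh.toD X G ≅ E := DerivedCategory.Q.objObjPreimageIso E
  rw [← rel_iff_of_iso (a ≫ b) e m, ← rel_iff_of_iso a e m]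
  -- the index set
  let I := {t : X.affineOpens × T.affineOpens × S.affineOpens //
    (t.1 : X.Opens) ≤ a ⁻¹ᵁ (t.2.1 : T.Opens) ∧ (t.2.1 : T.Opens) ≤ b ⁻¹ᵁ (t.2.2 : S.Opens)}
  have hcov : ∀ x : X, ∃ i : I, x ∈ (i.1.1 : X.Opens) := by
    intro x
    obtain ⟨V, hV⟩ := exists_affine_nhd (b.base (a.base x))
    obtain ⟨W, hW, hWV⟩ := exists_affine_nhd_le b (a.base x) V hV
    obtain ⟨U, hU, hUW⟩ := exists_affine_nhd_le a x W hW
    exact ⟨⟨⟨U, W, V⟩, hUW, hWV⟩, hU⟩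
  have hch : ∀ i : I, ∃ (n : ℕ) (φ : MvPolynomial (Fin n) Γ(T, (i.1.2.1 : T.Opens)) →+*
      Γ(X, (i.1.1 : X.Opens))), Function.Surjective φ ∧
      φ.comp MvPolynomial.C = (a.appLE _ _ i.2.1).hom := fun i =>
    exists_chart_of_finiteType _ (LocallyOfFiniteType.finiteType_appLE a i.1.2.1.2 i.1.1.2 i.2.1)
  choose n φ hφs hφC using hch
  have h1 := rel_iff_of_gen_charts a m G (fun i : I => i.1.1) (fun i : I => i.1.2.1)
    (fun i => i.2.1) hcov (fun i => MvPolynomial (Fin (n i)) Γ(T, (i.1.2.1 : T.Opens))) φ hφs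
    (fun i => by rw [← hφC i]; rfl)
  letI alg : ∀ i : I, Algebra Γ(S, (i.1.2.2 : S.Opens)) Γ(T, (i.1.2.1 : T.Opens)) := fun i =>
    (b.appLE _ _ i.2.2).hom.toAlgebra
  haveI : ∀ i : I, Module.Flat Γ(S, (i.1.2.2 : S.Opens)) Γ(T, (i.1.2.1 : T.Opens)) := fun i =>
    Flat.flat_appLE b i.1.2.2.2 i.1.2.1.2 i.2.2
  haveI : ∀ i : I, Algebra.FinitePresentation Γ(S, (i.1.2.2 : S.Opens))
      Γ(T, (i.1.2.1 : T.Opens)) := fun i =>
    LocallyOfFinitePresentation.finitePresentation_appLE b i.1.2.2.2 i.1.2.1.2 i.2.2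
  haveI : ∀ i : I, Module.Flat Γ(S, (i.1.2.2 : S.Opens))
      (MvPolynomial (Fin (n i)) Γ(T, (i.1.2.1 : T.Opens))) := fun i =>
    Module.Flat.trans _ Γ(T, (i.1.2.1 : T.Opens)) _
  haveI : ∀ i : I, Algebra.FinitePresentation Γ(S, (i.1.2.2 : S.Opens))
      (MvPolynomial (Fin (n i)) Γ(T, (i.1.2.1 : T.Opens))) := fun i =>
    Algebra.FinitePresentation.trans _ Γ(T, (i.1.2.1 : T.Opens)) _
  have h2 := rel_iff_of_gen_charts (a ≫ b) m G (fun i : I => i.1.1) (fun i : I => i.1.2.2)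
    (fun i => i.2.1.trans (fun x hx => i.2.2 hx)) hcov
    (fun i => MvPolynomial (Fin (n i)) Γ(T, (i.1.2.1 : T.Opens))) φ hφs
    (fun i => by
      refine RingHom.ext fun r => ?_
      have h3 : (b.appLE _ _ i.2.2 ≫ a.appLE _ _ i.2.1) = (a ≫ b).appLE (i.1.2.2 : S.Opens)
          (i.1.1 : X.Opens) (i.2.1.trans (fun x hx => i.2.2 hx)) := by
        rw [Scheme.Hom.appLE_comp_appLE]
      have h4 := congrArg (fun F => F.hom r) h3
      have h5 := congrArg (fun F => F ((b.appLE _ _ i.2.2).hom r)) (hφC i)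
      simp only [RingHom.comp_apply] at h5
      simp only [CommRingCat.hom_comp, RingHom.comp_apply] at h4
      rw [← h4, ← h5]
      rfl)
  rw [h1, h2]

end Groth.Agent.Lib.H6xChart
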