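import Mathlib
import Groth.Agent.Lib.H6xChartL
set_option backward.isDefEq.respectTransparency.types false

/-!
# Relative versus absolute pseudo-coherence (helper6; S7211, S6201, S6207)
-/

set_option autoImplicit false
set_option linter.style.haveILetI false

universe u

open CategoryTheory CategoryTheory.Limits AlgebraicGeometry HomologicalComplex TopologicalSpace
  Opposite

attribute [local instance] HasDerivedCategory.standard

namespace Groth.Agent.Lib.H6xChart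

open Groth.Agent.Lib.H6xClPush Groth.Agent.Lib.H6xPC3 Groth.Agent.Lib.H6xPCoh

variable {X S : Scheme.{u}}

/-- pseudo-coherence of the class of a complex is local: restriction direction -/
lemma pc_restrictCx {Y : Scheme.{u}} (H : CochainComplex Y.Modules ℤ) (m : ℤ)
    (h : DCoh.IsPseudoCoherentD m (DCoh.toD Y H)) (W : Y.Opens) :
    DCoh.IsPseudoCoherentD m (DCoh.toD (W : Scheme.{u}) ((DCoh.restrictCx W).obj H)) :=
  isPseudoCoherentD_of_iso (restrictDToD W.ι H) (isPseudoCoherentD_restrictD h W.ι)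

/-- pseudo-coherence of the class of a complex is local: glueing direction -/
lemma pc_of_restrictCx {Y : Scheme.{u}} (H : CochainComplex Y.Modules ℤ) (m : ℤ)
    (h : ∀ y : Y, ∃ W : Y.Opens, y ∈ W ∧
      DCoh.IsPseudoCoherentD m (DCoh.toD (W : Scheme.{u}) ((DCoh.restrictCx W).obj H))) :
    DCoh.IsPseudoCoherentD m (DCoh.toD Y H) := by
  rw [isPseudoCoherentD_iff_pcAt]
  intro y
  obtain ⟨W, hyW, hW⟩ := h y
  exact pcAt_of_isPseudoCoherentD_restrictD W y hyW
    (isPseudoCoherentD_of_iso (restrictDToD W.ι H).symm hW)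

/-- **API-H**: along a chart with pseudo-coherent structure sheaf, the chart test is the absolute
test on the open -/
theorem pcCx_iff_pc_restrict_of_pushOPC (W : X.Opens) {P : Type u} [CommRing P]
    (φ : P →+* Γ(X, W)) [IsClosedImmersion (chartImm' W φ)] (hO : PushOPC (chartImm' W φ))
    (G : CochainComplex X.Modules ℤ) (m : ℤ) :
    PCCx m G W φ ↔
      DCoh.IsPseudoCoherentD m (DCoh.toD (W : Scheme.{u}) ((DCoh.restrictCx W).obj G)) := by
  rw [pc_iff_push hO]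
  have e : (Scheme.Modules.pushforward (chartImm' W φ)).mapDerivedCategory.obj
      (DCoh.toD (W : Scheme.{u}) ((DCoh.restrictCx W).obj G)) ≅
      DCoh.toD _ ((DerSch.pushCx (chartImm' W φ)).obj ((DCoh.restrictCx W).obj G)) :=
    (Scheme.Modules.pushforward (chartImm' W φ)).mapDerivedCategoryFactors.app _
  exact ⟨isPseudoCoherentD_of_iso e.symm, isPseudoCoherentD_of_iso e⟩

lemma chartImm'_id (W : X.Opens) : chartImm' W (RingHom.id Γ(X, W)) = W.toSpecΓ := by
  unfold chartImm'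
  have : CommRingCat.ofHom (RingHom.id Γ(X, W)) = 𝟙 _ := rfl
  rw [this, Spec.map_id]
  exact Category.comp_id _

/-- **API-F** -/
theorem pcCx_id_iff (W : X.Opens) (hW : IsAffineOpen W) (G : CochainComplex X.Modules ℤ) (m : ℤ) :
    PCCx m G W (RingHom.id Γ(X, W)) ↔
      DCoh.IsPseudoCoherentD m (DCoh.toD (W : Scheme.{u}) ((DCoh.restrictCx W).obj G)) := by
  haveI : IsIso (chartImm' W (RingHom.id Γ(X, W))) := by
    rw [chartImm'_id]
    exact hW.isoSpec.isIso_hom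
  exact pc_pushCx_iso_iff _ _ m

/-- for a flat morphism locally of finite presentation, relative and absolute pseudo-coherence agree -/
theorem rel_iff_pc_of_flat_lfp (g : X ⟶ S) [Flat g] [LocallyOfFinitePresentation g]
    (H : CochainComplex X.Modules ℤ) (m : ℤ) :
    DerSch.IsPseudoCoherentRel g m (DCoh.toD X H) ↔ DCoh.IsPseudoCoherentD m (DCoh.toD X H) := by
  let I := {t : X.affineOpens × S.affineOpens // (t.1 : X.Opens) ≤ g ⁻¹ᵁ (t.2 : S.Opens)}
  have hcov : ∀ x : X, ∃ i : I, x ∈ (i.1.1 : X.Opens) := by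
    intro x
    obtain ⟨V, hV⟩ := exists_affine_nhd (g.base x)
    obtain ⟨W, hW, hWV⟩ := exists_affine_nhd_le g x V hV
    exact ⟨⟨⟨W, V⟩, hWV⟩, hW⟩
  letI alg : ∀ i : I, Algebra Γ(S, (i.1.2 : S.Opens)) Γ(X, (i.1.1 : X.Opens)) := fun i =>
    (g.appLE _ _ i.2).hom.toAlgebra
  haveI : ∀ i : I, Module.Flat Γ(S, (i.1.2 : S.Opens)) Γ(X, (i.1.1 : X.Opens)) := fun i =>
    Flat.flat_appLE g i.1.2.2 i.1.1.2 i.2
  haveI : ∀ i : I, Algebra.FinitePresentation Γ(S, (i.1.2 : S.Opens))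
      Γ(X, (i.1.1 : X.Opens)) := fun i =>
    LocallyOfFinitePresentation.finitePresentation_appLE g i.1.2.2 i.1.1.2 i.2
  have h1 := rel_iff_of_gen_charts g m H (fun i : I => i.1.1) (fun i : I => i.1.2)
    (fun i => i.2) hcov (fun i => Γ(X, (i.1.1 : X.Opens)))
    (fun i => RingHom.id _) (fun i => Function.surjective_id) (fun i => rfl)
  rw [h1]
  constructor
  · intro h
    refine pc_of_restrictCx H m (fun y => ?_)
    obtain ⟨i, hi⟩ := hcov y
    exact ⟨i.1.1, hi, (pcCx_id_iff _ i.1.1.2 H m).1 (h i)⟩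
  · intro h i
    exact (pcCx_id_iff _ i.1.1.2 H m).2 (pc_restrictCx H m h _)

section closedImm

variable {Z : Scheme.{u}} (i : Z ⟶ X) [IsClosedImmersion i]

lemma chartImm'_app (W : X.Opens) :
    chartImm' (i ⁻¹ᵁ W) (i.app W).hom = i ∣_ W ≫ W.toSpecΓ := by
  unfold chartImm'
  exact Scheme.Opens.toSpecΓ_naturality i W

/-- the chart test for the tautological chart `Γ(X, W) → Γ(Z, i⁻¹W)` of a closed immersion -/
theorem pcCx_app_iff (W : X.Opens) (hW : IsAffineOpen W) (F : CochainComplex Z.Modules ℤ)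
    (m : ℤ) :
    PCCx m F (i ⁻¹ᵁ W) (i.app W).hom ↔
      DCoh.IsPseudoCoherentD m (DCoh.toD (W : Scheme.{u})
        ((DCoh.restrictCx W).obj ((DerSch.pushCx i).obj F))) := by
  unfold PCCx
  rw [chartImm'_app]
  haveI : IsIso W.toSpecΓ := hW.isoSpec.isIso_hom
  have e1 : (DerSch.pushCx (i ∣_ W ≫ W.toSpecΓ)).obj ((DCoh.restrictCx (i ⁻¹ᵁ W)).obj F) ≅
      (DerSch.pushCx W.toSpecΓ).obj ((DCoh.restrictCx W).obj ((DerSch.pushCx i).obj F)) :=
    ((Functor.mapHomologicalComplexCompIso (Scheme.Modules.pushforwardComp (i ∣_ W) W.toSpecΓ)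
      (ComplexShape.up ℤ)).app _).symm ≪≫
      (DerSch.pushCx W.toSpecΓ).mapIso (pushRestrictCxIso i W F).symm
  rw [← pc_pushCx_iso_iff W.toSpecΓ _ m]
  exact ⟨isPseudoCoherentD_of_iso (DerivedCategory.Q.mapIso e1),
    isPseudoCoherentD_of_iso (DerivedCategory.Q.mapIso e1).symm⟩

/-- **S7211**, first part -/
theorem rel_comp_iff_pc_push (g : X ⟶ S) [Flat g] [LocallyOfFinitePresentation g] (m : ℤ)
    (F : CochainComplex Z.Modules ℤ) :
    DerSch.IsPseudoCoherentRel (i ≫ g) m (DCoh.toD Z F) ↔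
      DCoh.IsPseudoCoherentD m (DCoh.toD X ((DerSch.pushCx i).obj F)) := by
  let I := {t : X.affineOpens × S.affineOpens // (t.1 : X.Opens) ≤ g ⁻¹ᵁ (t.2 : S.Opens)}
  have hcovX : ∀ x : X, ∃ j : I, x ∈ (j.1.1 : X.Opens) := by
    intro x
    obtain ⟨V, hV⟩ := exists_affine_nhd (g.base x)
    obtain ⟨W, hW, hWV⟩ := exists_affine_nhd_le g x V hV
    exact ⟨⟨⟨W, V⟩, hWV⟩, hW⟩
  have hcov : ∀ z : Z, ∃ j : I, z ∈ i ⁻¹ᵁ (j.1.1 : X.Opens) := fun z => hcovX (i.base z)
  letI alg : ∀ j : I, Algebra Γ(S, (j.1.2 : S.Opens)) Γ(X, (j.1.1 : X.Opens)) := fun j =>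
    (g.appLE _ _ j.2).hom.toAlgebra
  haveI : ∀ j : I, Module.Flat Γ(S, (j.1.2 : S.Opens)) Γ(X, (j.1.1 : X.Opens)) := fun j =>
    Flat.flat_appLE g j.1.2.2 j.1.1.2 j.2
  haveI : ∀ j : I, Algebra.FinitePresentation Γ(S, (j.1.2 : S.Opens))
      Γ(X, (j.1.1 : X.Opens)) := fun j =>
    LocallyOfFinitePresentation.finitePresentation_appLE g j.1.2.2 j.1.1.2 j.2
  have hle : ∀ j : I, i ⁻¹ᵁ (j.1.1 : X.Opens) ≤ (i ≫ g) ⁻¹ᵁ (j.1.2 : S.Opens) := fun j z hz =>
    j.2 hz
  have h1 := rel_iff_of_gen_charts (i ≫ g) m F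
    (fun j : I => (⟨i ⁻¹ᵁ (j.1.1 : X.Opens), j.1.1.2.preimage i⟩ : Z.affineOpens))
    (fun j : I => j.1.2) hle hcov (fun j => Γ(X, (j.1.1 : X.Opens)))
    (fun j => (i.app (j.1.1 : X.Opens)).hom)
    (fun j => Scheme.Hom.app_surjective i _ j.1.1.2)
    (fun j => by
      refine RingHom.ext fun r => ?_
      have h3 : g.appLE _ _ j.2 ≫ i.app (j.1.1 : X.Opens) =
          (i ≫ g).appLE (j.1.2 : S.Opens) (i ⁻¹ᵁ (j.1.1 : X.Opens)) (hle j) := by
        rw [Scheme.Hom.app_eq_appLE, Scheme.Hom.appLE_comp_appLE]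
      exact congrArg (fun F => F.hom r) h3)
  rw [h1]
  constructor
  · intro h
    refine pc_of_restrictCx _ m (fun y => ?_)
    obtain ⟨j, hj⟩ := hcovX y
    exact ⟨j.1.1, hj, (pcCx_app_iff i _ j.1.1.2 F m).1 (h j)⟩
  · intro h j
    exact (pcCx_app_iff i _ j.1.1.2 F m).2 (pc_restrictCx _ m h _)

end closedImm

end Groth.Agent.Lib.H6xChart
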