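import Mathlib
import Groth.Agent.Lib.H6xChartM
set_option backward.isDefEq.respectTransparency.types false

/-!
# Pseudo-coherent morphisms: relative = absolute (helper6; S6207)
-/

set_option autoImplicit false
set_option linter.style.haveILetI false

universe u

open CategoryTheory CategoryTheory.Limits AlgebraicGeometry HomologicalComplex TopologicalSpace
  Opposite

attribute [local instance] HasDerivedCategory.standard

namespace Groth.Agent.Lib.H6xChart

open Groth.Agent.Lib.H6xClPush Groth.Agent.Lib.H6xPC3 Groth.Agent.Lib.H6xPCoh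

variable {X S : Scheme.{u}}

/-- the class of `F` applied to a module in degree `0` -/
noncomputable def toDMapSingle {A B : Type*} [Category A] [Category B] [Abelian A] [Abelian B]
    [HasDerivedCategory A] [HasDerivedCategory B] (F : A ⥤ B) [F.Additive] (M : A) :
    (DerivedCategory.Q : _ ⥤ DerivedCategory B).obj
      ((F.mapHomologicalComplex (ComplexShape.up ℤ)).obj
        ((HomologicalComplex.single A (ComplexShape.up ℤ) 0).obj M)) ≅
    (DerivedCategory.singleFunctor B 0).obj (F.obj M) :=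
  DerivedCategory.Q.mapIso
      ((HomologicalComplex.singleMapHomologicalComplex F (ComplexShape.up ℤ) 0).app M) ≪≫
    ((DerivedCategory.singleFunctorIsoCompQ B 0).app (F.obj M)).symm

/-- the chart test for the structure sheaf in degree `0` -/
theorem pcCx_unitCx_iff (W : X.Opens) {P : Type u} [CommRing P] (φ : P →+* Γ(X, W)) (m : ℤ) :
    PCCx m (DerSch.unitCx X) W φ ↔
      DCoh.IsPseudoCoherentD m (DCoh.inD (Spec (CommRingCat.of P))
        ((Scheme.Modules.pushforward (chartImm' W φ)).obj (Coh.structureModule (W : Scheme.{u})))) := by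
  unfold PCCx
  have e1 : (DCoh.restrictCx W).obj (DerSch.unitCx X) ≅ DerSch.unitCx (W : Scheme.{u}) :=
    (HomologicalComplex.singleMapHomologicalComplex (Scheme.Modules.restrictFunctor W.ι)
      (ComplexShape.up ℤ) 0).app _ ≪≫
    (HomologicalComplex.single _ (ComplexShape.up ℤ) 0).mapIso (Scheme.Modules.restrictUnitIso W.ι)
  have e : DCoh.toD (Spec (CommRingCat.of P)) ((DerSch.pushCx (chartImm' W φ)).obj
      ((DCoh.restrictCx W).obj (DerSch.unitCx X))) ≅
      DCoh.inD (Spec (CommRingCat.of P))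
        ((Scheme.Modules.pushforward (chartImm' W φ)).obj (Coh.structureModule (W : Scheme.{u}))) :=
    DerivedCategory.Q.mapIso ((DerSch.pushCx (chartImm' W φ)).mapIso e1) ≪≫
      toDMapSingle (Scheme.Modules.pushforward (chartImm' W φ)) _
  exact ⟨isPseudoCoherentD_of_iso e, isPseudoCoherentD_of_iso e.symm⟩

/-- for a pseudo-coherent morphism, the chart closed immersions have pseudo-coherent structure sheaf -/
theorem pushOPC_of_isNPseudoCoherent (g : X ⟶ S) [LocallyOfFiniteType g]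
    (hg : ∀ n : ℤ, DerSch.IsNPseudoCoherent g n) (W : X.affineOpens) (V : S.affineOpens)
    (h : (W : X.Opens) ≤ g ⁻¹ᵁ (V : S.Opens)) {k : ℕ}
    (φ : MvPolynomial (Fin k) Γ(S, (V : S.Opens)) →+* Γ(X, (W : X.Opens)))
    (hφ : DerSch.IsChart g (W : X.Opens) (V : S.Opens) h φ) :
    haveI := isClosedImmersion_chartImm' (W : X.Opens) W.2 φ hφ.1
    PushOPC (chartImm' (W : X.Opens) φ) := by
  haveI := isClosedImmersion_chartImm' (W : X.Opens) W.2 φ hφ.1
  intro n
  obtain ⟨k', ψ, hψ, hpc⟩ := (main_S7208 g n _).1 (hg n) W V h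
  have h1 : PCCx n (DerSch.unitCx X) (W : X.Opens) ψ := hpc _ ⟨Iso.refl _⟩
  have h2 := (pcCx_chart_iff (W : X.Opens) ψ hψ.1 φ hφ.1 (hψ.2.trans hφ.2.symm) _ n).1 h1
  exact (pcCx_unitCx_iff (W : X.Opens) φ n).1 h2

/-- **S6207** (no boundedness needed) -/
theorem rel_iff_pc_of_pseudoCoherent (g : X ⟶ S) [LocallyOfFiniteType g]
    (hg : ∀ n : ℤ, DerSch.IsNPseudoCoherent g n) (r : ℤ) (E : DCoh.D X) :
    DCoh.IsPseudoCoherentD r E ↔ DerSch.IsPseudoCoherentRel g r E := by
  let G := (DerivedCategory.Q : _ ⥤ DCoh.D X).objPreimage E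
  let e : DCoh.toD X G ≅ E := DerivedCategory.Q.objObjPreimageIso E
  rw [← rel_iff_of_iso g e r]
  have hE : DCoh.IsPseudoCoherentD r E ↔ DCoh.IsPseudoCoherentD r (DCoh.toD X G) :=
    ⟨isPseudoCoherentD_of_iso e.symm, isPseudoCoherentD_of_iso e⟩
  rw [hE]
  let I := {t : X.affineOpens × S.affineOpens // (t.1 : X.Opens) ≤ g ⁻¹ᵁ (t.2 : S.Opens)}
  have hcov : ∀ x : X, ∃ i : I, x ∈ (i.1.1 : X.Opens) := by
    intro x
    obtain ⟨V, hV⟩ := exists_affine_nhd (g.base x)
    obtain ⟨W, hW, hWV⟩ := exists_affine_nhd_le g x V hV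
    exact ⟨⟨⟨W, V⟩, hWV⟩, hW⟩
  have hch : ∀ i : I, ∃ (n : ℕ) (φ : MvPolynomial (Fin n) Γ(S, (i.1.2 : S.Opens)) →+*
      Γ(X, (i.1.1 : X.Opens))), Function.Surjective φ ∧
      φ.comp MvPolynomial.C = (g.appLE _ _ i.2).hom := fun i =>
    exists_chart_of_finiteType _ (LocallyOfFiniteType.finiteType_appLE g i.1.2.2 i.1.1.2 i.2)
  choose n φ hφs hφC using hch
  have h1 := rel_iff_of_gen_charts g r G (fun i : I => i.1.1) (fun i : I => i.1.2)
    (fun i => i.2) hcov (fun i => MvPolynomial (Fin (n i)) Γ(S, (i.1.2 : S.Opens))) φ hφs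
    (fun i => by rw [← hφC i]; rfl)
  rw [h1]
  have key : ∀ i : I, PCCx r G (i.1.1 : X.Opens) (φ i) ↔ DCoh.IsPseudoCoherentD r
      (DCoh.toD ((i.1.1 : X.Opens) : Scheme.{u}) ((DCoh.restrictCx (i.1.1 : X.Opens)).obj G)) := by
    intro i
    haveI := isClosedImmersion_chartImm' (i.1.1 : X.Opens) i.1.1.2 (φ i) (hφs i)
    exact pcCx_iff_pc_restrict_of_pushOPC _ (φ i)
      (pushOPC_of_isNPseudoCoherent g hg i.1.1 i.1.2 i.2 (φ i) ⟨hφs i, hφC i⟩) G r
  constructor
  · intro h i
    exact (key i).2 (pc_restrictCx G r h _)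
  · intro h
    refine pc_of_restrictCx G r (fun y => ?_)
    obtain ⟨i, hi⟩ := hcov y
    exact ⟨i.1.1, hi, (key i).1 (h i)⟩

end Groth.Agent.Lib.H6xChart
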