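import Mathlib
import Groth.Agent.Lib.H6xChartN
import Groth.Agent.Lib.H6xPC3D
set_option backward.isDefEq.respectTransparency.types false

/-!
# Relative pseudo-coherence and distinguished triangles (helper6; S6204)
-/

set_option autoImplicit false
set_option linter.style.haveILetI false

universe u

open CategoryTheory CategoryTheory.Limits AlgebraicGeometry HomologicalComplex TopologicalSpace
  Opposite CategoryTheory.Pretriangulated

attribute [local instance] HasDerivedCategory.standard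

namespace Groth.Agent.Lib.H6xChart

open Groth.Agent.Lib.H6xClPush Groth.Agent.Lib.H6xPC3 Groth.Agent.Lib.H6xPCoh

variable {X S : Scheme.{u}}

/-- the chart functor with explicit proofs -/
noncomputable def chartF (U : X.Opens) (hU : IsAffineOpen U) {P : Type u} [CommRing P]
    (φ : P →+* Γ(X, U)) (hφ : Function.Surjective φ) :
    DCoh.D X ⥤ DCoh.D (Spec (CommRingCat.of P)) :=
  haveI := isClosedImmersion_chartImm' U hU φ hφ
  chartD U φ

noncomputable instance (U : X.Opens) (hU : IsAffineOpen U) {P : Type u} [CommRing P]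
    (φ : P →+* Γ(X, U)) (hφ : Function.Surjective φ) : (chartF U hU φ hφ).CommShift ℤ := by
  haveI := isClosedImmersion_chartImm' U hU φ hφ
  unfold chartF
  infer_instance

instance (U : X.Opens) (hU : IsAffineOpen U) {P : Type u} [CommRing P]
    (φ : P →+* Γ(X, U)) (hφ : Function.Surjective φ) : (chartF U hU φ hφ).IsTriangulated := by
  haveI := isClosedImmersion_chartImm' U hU φ hφ
  unfold chartF
  infer_instance

lemma chartPC_indep (m : ℤ) (E : DCoh.D X) (U : X.Opens) (V : S.Opens) {n k : ℕ}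
    (φ : MvPolynomial (Fin n) Γ(S, V) →+* Γ(X, U)) (hφ : Function.Surjective φ)
    (ψ : MvPolynomial (Fin k) Γ(S, V) →+* Γ(X, U)) (hψ : Function.Surjective ψ)
    (hC : φ.comp MvPolynomial.C = ψ.comp MvPolynomial.C)
    (hE : DerSch.ChartPC m E U V φ) : DerSch.ChartPC m E U V ψ :=
  fun G hG => (pc_chart_iff U φ hφ ψ hψ hC _ m).1 (hE G hG)

theorem chartPC_iff_chartF (U : X.Opens) (hU : IsAffineOpen U) (V : S.Opens)
    {n : ℕ} (φ : MvPolynomial (Fin n) Γ(S, V) →+* Γ(X, U)) (hφ : Function.Surjective φ)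
    (K : DCoh.D X) (m : ℤ) :
    DerSch.ChartPC m K U V φ ↔ DCoh.IsPseudoCoherentD m ((chartF U hU φ hφ).obj K) :=
  chartPC_iff_chartD U hU V φ hφ K m

theorem rel_iff_forall_chartF (f : X ⟶ S) [LocallyOfFiniteType f] (m : ℤ) (E : DCoh.D X) :
    DerSch.IsPseudoCoherentRel f m E ↔
      ∀ (U : X.affineOpens) (V : S.affineOpens) (h : (U : X.Opens) ≤ f ⁻¹ᵁ (V : S.Opens))
        (n : ℕ) (φ : MvPolynomial (Fin n) Γ(S, (V : S.Opens)) →+* Γ(X, (U : X.Opens)))
        (hφ : DerSch.IsChart f (U : X.Opens) (V : S.Opens) h φ),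
        DCoh.IsPseudoCoherentD m ((chartF (U : X.Opens) U.2 φ hφ.1).obj E) := by
  rw [main_S7208]
  constructor
  · intro hall U V h n φ hφ
    obtain ⟨k, ψ, hψ, hpc⟩ := hall U V h
    rw [← chartPC_iff_chartF (U : X.Opens) U.2 (V : S.Opens) φ hφ.1 E m]
    exact chartPC_indep m E _ _ ψ hψ.1 φ hφ.1 (hψ.2.trans hφ.2.symm) hpc
  · intro hall U V h
    obtain ⟨n, φ, hφs, hφC⟩ := exists_chart_of_finiteType _
      (LocallyOfFiniteType.finiteType_appLE f V.2 U.2 h)
    exact ⟨n, φ, ⟨hφs, hφC⟩,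
      (chartPC_iff_chartF (U : X.Opens) U.2 (V : S.Opens) φ hφs E m).2
        (hall U V h n φ ⟨hφs, hφC⟩)⟩

/-- **S6204** -/
theorem main_S6204 (f : X ⟶ S) [LocallyOfFiniteType f] (n : ℤ)
    (T : Triangle (DCoh.D X)) (hT : T ∈ distinguishedTriangles) :
    (DerSch.IsPseudoCoherentRel f (n + 1) T.obj₁ → DerSch.IsPseudoCoherentRel f n T.obj₂ →
        DerSch.IsPseudoCoherentRel f n T.obj₃) ∧
      (DerSch.IsPseudoCoherentRel f n T.obj₁ → DerSch.IsPseudoCoherentRel f n T.obj₃ →
        DerSch.IsPseudoCoherentRel f n T.obj₂) ∧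
      (DerSch.IsPseudoCoherentRel f n T.obj₂ → DerSch.IsPseudoCoherentRel f (n - 1) T.obj₃ →
        DerSch.IsPseudoCoherentRel f n T.obj₁) := by
  simp only [rel_iff_forall_chartF]
  refine ⟨fun h1 h2 U V h k φ hφ => ?_, fun h1 h3 U V h k φ hφ => ?_,
    fun h2 h3 U V h k φ hφ => ?_⟩
  · exact (triangle n _ ((chartF (U : X.Opens) U.2 φ hφ.1).map_distinguished T hT)).1
      (h1 U V h k φ hφ) (h2 U V h k φ hφ)
  · exact (triangle n _ ((chartF (U : X.Opens) U.2 φ hφ.1).map_distinguished T hT)).2.1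
      (h1 U V h k φ hφ) (h3 U V h k φ hφ)
  · have := (triangle (n - 1) _ ((chartF (U : X.Opens) U.2 φ hφ.1).map_distinguished T hT)).2.2
    rw [show n - 1 + 1 = n by omega] at this
    exact this (h2 U V h k φ hφ) (h3 U V h k φ hφ)

end Groth.Agent.Lib.H6xChart
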