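import Mathlib
import Groth.Agent.Lib.H6xChartO
import Groth.Agent.Lib.H6xPCTermA
set_option backward.isDefEq.respectTransparency.types false

/-!
# Relative pseudo-coherence: termwise criterion (helper6; S7215)
-/

set_option autoImplicit false
set_option linter.style.haveILetI false

universe u

open CategoryTheory CategoryTheory.Limits AlgebraicGeometry HomologicalComplex TopologicalSpace
  Opposite CategoryTheory.Pretriangulated

attribute [local instance] HasDerivedCategory.standard

namespace Groth.Agent.Lib.H6xChart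

open Groth.Agent.Lib.H6xClPush Groth.Agent.Lib.H6xPC3 Groth.Agent.Lib.H6xPCoh

variable {X S : Scheme.{u}}

/-- the chart test for a module in degree `0` -/
theorem pcCx_single_iff (M : X.Modules) (W : X.Opens) {P : Type u} [CommRing P]
    (φ : P →+* Γ(X, W)) (m : ℤ) :
    PCCx m ((HomologicalComplex.single X.Modules (ComplexShape.up ℤ) 0).obj M) W φ ↔
      DCoh.IsPseudoCoherentD m (DCoh.inD (Spec (CommRingCat.of P))
        ((Scheme.Modules.pushforward (chartImm' W φ)).obj (M.restrict W.ι))) := by
  unfold PCCx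
  have e1 : (DCoh.restrictCx W).obj
      ((HomologicalComplex.single X.Modules (ComplexShape.up ℤ) 0).obj M) ≅
      (HomologicalComplex.single _ (ComplexShape.up ℤ) 0).obj (M.restrict W.ι) :=
    (HomologicalComplex.singleMapHomologicalComplex (Scheme.Modules.restrictFunctor W.ι)
      (ComplexShape.up ℤ) 0).app _
  have e : DCoh.toD (Spec (CommRingCat.of P)) ((DerSch.pushCx (chartImm' W φ)).obj
      ((DCoh.restrictCx W).obj
        ((HomologicalComplex.single X.Modules (ComplexShape.up ℤ) 0).obj M))) ≅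
      DCoh.inD (Spec (CommRingCat.of P))
        ((Scheme.Modules.pushforward (chartImm' W φ)).obj (M.restrict W.ι)) :=
    DerivedCategory.Q.mapIso ((DerSch.pushCx (chartImm' W φ)).mapIso e1) ≪≫
      toDMapSingle (Scheme.Modules.pushforward (chartImm' W φ)) _
  exact ⟨isPseudoCoherentD_of_iso e, isPseudoCoherentD_of_iso e.symm⟩

/-- relative pseudo-coherence in terms of all charts on all affine pairs, chain level -/
theorem rel_toD_iff_forall_pcCx (f : X ⟶ S) [LocallyOfFiniteType f] (m : ℤ)
    (G : CochainComplex X.Modules ℤ) :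
    DerSch.IsPseudoCoherentRel f m (DCoh.toD X G) ↔
      ∀ (U : X.affineOpens) (V : S.affineOpens) (h : (U : X.Opens) ≤ f ⁻¹ᵁ (V : S.Opens))
        (n : ℕ) (φ : MvPolynomial (Fin n) Γ(S, (V : S.Opens)) →+* Γ(X, (U : X.Opens)))
        (_ : DerSch.IsChart f (U : X.Opens) (V : S.Opens) h φ), PCCx m G (U : X.Opens) φ := by
  rw [rel_iff_forall_chartF]
  refine forall_congr' fun U => forall_congr' fun V => forall_congr' fun h => forall_congr' fun n =>
    forall_congr' fun φ => forall_congr' fun hφ => ?_
  rw [← chartPC_iff_chartF (U : X.Opens) U.2 (V : S.Opens) φ hφ.1 _ m]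
  exact chartPC_iff_pcCx (U : X.Opens) U.2 (V : S.Opens) φ hφ.1 G _ (Iso.refl _) m

/-- **S7215** -/
theorem main_S7215 (f : X ⟶ S) (m : ℤ)
    (F : CochainComplex X.Modules ℤ) (b : ℤ) (hb : ∀ i : ℤ, b < i → IsZero (F.X i))
    (h : ∀ i : ℤ, DerSch.IsPseudoCoherentRel f (m - i) (DCoh.inD X (F.X i))) :
    DerSch.IsPseudoCoherentRel f m (DCoh.toD X F) := by
  haveI : LocallyOfFiniteType f := (h 0).1
  rw [rel_toD_iff_forall_pcCx]
  intro U V hUV n φ hφ
  refine Groth.Agent.Lib.H6xPCTerm.isPseudoCoherentD_of_termwise m b _ (fun j hj => ?_)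
    (fun j => ?_)
  · exact (Scheme.Modules.pushforward _).map_isZero
      ((Scheme.Modules.restrictFunctor _).map_isZero (hb j hj))
  · have h1 := rel_of_iso f
      ((DerivedCategory.singleFunctorIsoCompQ X.Modules 0).app (F.X j)) (m - j) (h j)
    have h2 := (rel_toD_iff_forall_pcCx f (m - j) _).1 h1 U V hUV n φ hφ
    exact (pcCx_single_iff (F.X j) (U : X.Opens) φ (m - j)).1 h2

end Groth.Agent.Lib.H6xChart
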