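import Mathlib
import Groth.Agent.Lib.H6xChartP
set_option backward.isDefEq.respectTransparency.types false

/-!
# Pseudo-coherence from the cohomology sheaves (absolute and relative) (helper6; S7216)
-/

set_option autoImplicit false
set_option linter.style.haveILetI false

universe u

open CategoryTheory CategoryTheory.Limits AlgebraicGeometry HomologicalComplex TopologicalSpace
  Opposite CategoryTheory.Pretriangulated DerivedCategory

attribute [local instance] HasDerivedCategory.standard

namespace Groth.Agent.Lib.H6xChart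

open Groth.Agent.Lib.H6xClPush Groth.Agent.Lib.H6xPC3 Groth.Agent.Lib.H6xPCoh

/-- absolute version: bounded above with `H^i` being `(m - i)`-pseudo-coherent -/
theorem pc_of_homology_aux {Y : Scheme.{u}} (m : ℤ) : ∀ (d : ℕ) (b : ℤ) (K : DCoh.D Y),
    K.IsLE b → b - m + 1 ≤ d →
    (∀ i : ℤ, DCoh.IsPseudoCoherentD (m - i) (DCoh.inD Y (DCoh.HD K i))) →
    DCoh.IsPseudoCoherentD m K
  | 0, b, K, hK, hd, _ => by
      haveI : K.IsLE (m - 1) :=
        TStructure.t.isLE_of_le K b (m - 1) (by push_cast at hd; omega)
      exact (pcGlobal_of_isLE m K).isPseudoCoherentD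
  | d + 1, b, K, hK, hd, h => by
      obtain ⟨X₁, X₂, hX₁, hX₂, u', v, w, hT⟩ :=
        TStructure.t.exists_triangle K (b - 1) b (by omega)
      haveI : X₁.IsLE (b - 1) := ⟨hX₁⟩
      haveI : X₂.IsGE b := ⟨hX₂⟩
      let T := Triangle.mk u' v w
      have hX₁z : ∀ j : ℤ, b - 1 < j → IsZero ((homologyFunctor _ j).obj X₁) := fun j hj =>
        isZero_of_isLE X₁ (b - 1) j hj
      have hKz : ∀ j : ℤ, b < j → IsZero ((homologyFunctor _ j).obj K) := fun j hj =>
        isZero_of_isLE K b j hj
      haveI : X₂.IsLE b := by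
        rw [isLE_iff]
        intro j hj
        exact (HomologySequence.exact₃ T hT j (j + 1) rfl).isZero_of_both_zeros
          ((hKz j hj).eq_of_src _ _) ((hX₁z (j + 1) (by omega)).eq_of_tgt _ _)
      obtain ⟨A, ⟨eA⟩⟩ := exists_iso_singleFunctor_obj_of_isGE_of_isLE X₂ b
      haveI hvb : IsIso ((homologyFunctor _ b).map v) := by
        haveI : Mono ((homologyFunctor _ b).map T.mor₂) :=
          (HomologySequence.mono_homologyMap_mor₂_iff T hT b).2
            ((hX₁z b (by omega)).eq_of_src _ _)
        haveI : Epi ((homologyFunctor _ b).map T.mor₂) :=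
          (HomologySequence.epi_homologyMap_mor₂_iff T hT b (b + 1) rfl).2
            ((hX₁z (b + 1) (by omega)).eq_of_tgt _ _)
        exact isIso_of_mono_of_epi ((homologyFunctor _ b).map T.mor₂)
      let eHA : DCoh.HD K b ≅ A :=
        asIso ((homologyFunctor _ b).map v) ≪≫ (homologyFunctor _ b).mapIso eA ≪≫
          (singleFunctorCompHomologyFunctorIso Y.Modules b).app A
      -- `X₂` is pseudo-coherent
      have h2 : DCoh.IsPseudoCoherentD m X₂ := by
        have h0 : DCoh.IsPseudoCoherentD (m - b) (DCoh.inD Y A) :=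
          isPseudoCoherentD_of_iso ((singleFunctor Y.Modules 0).mapIso eHA) (h b)
        have h1 := isPseudoCoherentD_shift h0 (-b)
        rw [show m - b - -b = m by omega] at h1
        exact isPseudoCoherentD_of_iso
          (((singleFunctors Y.Modules).shiftIso (-b) b 0 (by omega)).app A ≪≫ eA.symm) h1
      -- `X₁` satisfies the hypotheses
      have hX₂z : ∀ j : ℤ, j ≠ b → IsZero ((homologyFunctor _ j).obj X₂) := by
        intro j hj
        rcases lt_or_gt_of_ne hj with hj | hj
        · exact isZero_of_isGE X₂ b j hj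
        · exact isZero_of_isLE X₂ b j hj
      have h1 : DCoh.IsPseudoCoherentD m X₁ := by
        refine pc_of_homology_aux m d (b - 1) X₁ inferInstance (by push_cast at hd ⊢; omega)
          (fun i => ?_)
        by_cases hi : i ≤ b - 1
        · haveI : IsIso ((homologyFunctor _ i).map u') := by
            haveI : Mono ((homologyFunctor _ i).map T.mor₁) :=
              (HomologySequence.mono_homologyMap_mor₁_iff T hT (i - 1) i (by omega)).2
                ((hX₂z (i - 1) (by omega)).eq_of_src _ _)
            haveI : Epi ((homologyFunctor _ i).map T.mor₁) :=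
              (HomologySequence.epi_homologyMap_mor₁_iff T hT i).2
                ((hX₂z i (by omega)).eq_of_tgt _ _)
            exact isIso_of_mono_of_epi ((homologyFunctor _ i).map T.mor₁)
          exact isPseudoCoherentD_of_iso ((singleFunctor Y.Modules 0).mapIso
            (asIso ((homologyFunctor _ i).map u')).symm) (h i)
        · exact pc_of_isZero _ _ ((singleFunctor Y.Modules 0).map_isZero
            (hX₁z i (by omega)))
      exact (triangle m T hT).2.1 h1 h2

theorem pc_of_homology {Y : Scheme.{u}} (m b : ℤ) (K : DCoh.D Y) [K.IsLE b]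
    (h : ∀ i : ℤ, DCoh.IsPseudoCoherentD (m - i) (DCoh.inD Y (DCoh.HD K i))) :
    DCoh.IsPseudoCoherentD m K :=
  pc_of_homology_aux m (b - m + 1).toNat b K inferInstance (Int.self_le_toNat _) h

variable {X S : Scheme.{u}}

/-- **S7216** -/
theorem main_S7216 (f : X ⟶ S) (m : ℤ) (E : DCoh.D X)
    (b : ℤ) [E.IsLE b]
    (h : ∀ i : ℤ, DerSch.IsPseudoCoherentRel f (m - i) (DCoh.inD X (DCoh.HD E i))) :
    DerSch.IsPseudoCoherentRel f m E := by
  haveI : LocallyOfFiniteType f := (h 0).1
  rw [rel_iff_forall_chartF]
  intro U V hUV n φ hφ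
  haveI := isClosedImmersion_chartImm' (U : X.Opens) U.2 φ hφ.1
  haveI : ((chartF (U : X.Opens) U.2 φ hφ.1).obj E).IsLE b := by
    unfold chartF
    haveI := isLE_restrictD' (U : X.Opens).ι E b
    exact isLE_push (chartImm' (U : X.Opens) φ) ((DCoh.restrictD (U : X.Opens).ι).obj E) b
  refine pc_of_homology m b _ (fun i => ?_)
  have h1 := rel_of_iso f
    ((DerivedCategory.singleFunctorIsoCompQ X.Modules 0).app (DCoh.HD E i)) (m - i) (h i)
  have h2 := (rel_toD_iff_forall_pcCx f (m - i) _).1 h1 U V hUV n φ hφ
  have h3 := (pcCx_single_iff (DCoh.HD E i) (U : X.Opens) φ (m - i)).1 h2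
  refine isPseudoCoherentD_of_iso ((singleFunctor _ 0).mapIso ?_) h3
  exact ((Scheme.Modules.pushforward (chartImm' (U : X.Opens) φ)).mapIso
    ((mapDerivedCategoryHomologyIso (Scheme.Modules.restrictFunctor (U : X.Opens).ι) i).app E)).symm ≪≫
    ((mapDerivedCategoryHomologyIso (Scheme.Modules.pushforward (chartImm' (U : X.Opens) φ)) i).app
      ((DCoh.restrictD (U : X.Opens).ι).obj E)).symm

end Groth.Agent.Lib.H6xChart
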