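import Mathlib
import Groth.Agent.Lib.H6xChartQ
set_option backward.isDefEq.respectTransparency.types false

/-!
# Relative pseudo-coherence: restriction to opens of the source and open covers (helper6; S6202, S6203)
-/

set_option autoImplicit false
set_option linter.style.haveILetI false

universe u

open CategoryTheory CategoryTheory.Limits AlgebraicGeometry HomologicalComplex TopologicalSpace
  Opposite

attribute [local instance] HasDerivedCategory.standard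

namespace Groth.Agent.Lib.H6xChart

open Groth.Agent.Lib.H6xClPush Groth.Agent.Lib.H6xPC3 Groth.Agent.Lib.H6xPCoh

variable {X S : Scheme.{u}}

lemma topIso_inv_eq (U : X.Opens) : U.topIso.inv = U.ι.appLE U ⊤ (by simp) := by
  rw [Scheme.Opens.ι_appLE]
  rfl

lemma appTop_eq_appLE {A B : Scheme.{u}} (f : A ⟶ B) : f.appTop = f.appLE ⊤ ⊤ le_top := by
  simp [Scheme.Hom.appLE, Scheme.Hom.appTop]

lemma claimA0 (U : X.Opens) (U₀ : U.toScheme.Opens) :
    (U.ι ''ᵁ U₀).topIso.inv ≫ (U.ι.isoImage U₀).hom.appTop = U₀.topIso.inv := by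
  rw [topIso_inv_eq, topIso_inv_eq, appTop_eq_appLE, Scheme.Hom.appLE_comp_appLE,
    appLE_congr_hom (Scheme.Hom.isoImage_hom_ι U.ι U₀),
    ← Scheme.Hom.appLE_comp_appLE _ _ (U.ι ''ᵁ U₀) U₀ ⊤ (by simp) (by simp)]
  rw [Scheme.Opens.ι_appLE]
  simp
  rfl

lemma claimA (U : X.Opens) (U₀ : U.toScheme.Opens) :
    (U.ι.isoImage U₀).hom ≫ (U.ι ''ᵁ U₀).toSpecΓ = U₀.toSpecΓ := by
  apply ext_of_isAffine
  rw [Scheme.Hom.comp_appTop, Scheme.Opens.toSpecΓ_appTop, Category.assoc, claimA0]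
  exact (Scheme.Opens.toSpecΓ_appTop U₀).symm

/-- the chart test on an open of an open subscheme -/
theorem pcCx_restrict_iff (U : X.Opens) (U₀ : U.toScheme.Opens) (G : CochainComplex X.Modules ℤ)
    {P : Type u} [CommRing P] (φ : P →+* Γ(X, U.ι ''ᵁ U₀)) (m : ℤ) :
    PCCx (X := U.toScheme) m ((DCoh.restrictCx U).obj G) U₀ φ ↔ PCCx m G (U.ι ''ᵁ U₀) φ := by
  let e := U.ι.isoImage U₀
  let i₁ := chartImm' (U.ι ''ᵁ U₀) φ
  let i₀ := chartImm' (X := U.toScheme) U₀ φ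
  have hi : i₀ = e.hom ≫ i₁ := by
    change U₀.toSpecΓ ≫ Spec.map (CommRingCat.ofHom φ) =
      e.hom ≫ (U.ι ''ᵁ U₀).toSpecΓ ≫ Spec.map (CommRingCat.ofHom φ)
    rw [← Category.assoc, claimA]
    rfl
  have comm : i₀ ≫ 𝟙 _ = e.hom ≫ i₁ := by rw [Category.comp_id, hi]
  have hcart := hcart_of_le i₁ i₀ e.hom (𝟙 _) comm (by
    intro x _
    exact ⟨e.inv.base x, by
      rw [← Scheme.Hom.comp_apply, e.inv_hom_id]
      rfl⟩)
  let H := (DCoh.restrictCx (U.ι ''ᵁ U₀)).obj G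
  have e1 : (restrCx (𝟙 _)).obj ((DerSch.pushCx i₁).obj H) ≅
      (DerSch.pushCx i₀).obj ((restrCx e.hom).obj H) :=
    restrictPushCxIso i₁ i₀ e.hom (𝟙 _) comm hcart H
  have e2 : (restrCx (𝟙 _)).obj ((DerSch.pushCx i₁).obj H) ≅ (DerSch.pushCx i₁).obj H :=
    (NatIso.mapHomologicalComplex Scheme.Modules.restrictFunctorId
      (ComplexShape.up ℤ)).app _ ≪≫ (Functor.mapHomologicalComplexIdIso _ _).app _
  have e3 : (restrCx e.hom).obj H ≅
      (DCoh.restrictCx (X := U.toScheme) U₀).obj ((DCoh.restrictCx U).obj G) :=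
    (Functor.mapHomologicalComplexCompIso
      ((Scheme.Modules.restrictFunctorComp e.hom (U.ι ''ᵁ U₀).ι).symm ≪≫
        Scheme.Modules.restrictFunctorCongr (Scheme.Hom.isoImage_hom_ι U.ι U₀) ≪≫
        Scheme.Modules.restrictFunctorComp U₀.ι U.ι) (ComplexShape.up ℤ)).app G
  have e4 : (DerSch.pushCx i₁).obj H ≅ (DerSch.pushCx i₀).obj
      ((DCoh.restrictCx (X := U.toScheme) U₀).obj ((DCoh.restrictCx U).obj G)) :=
    e2.symm ≪≫ e1 ≪≫ (DerSch.pushCx i₀).mapIso e3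
  exact ⟨isPseudoCoherentD_of_iso (DerivedCategory.Q.mapIso e4).symm,
    isPseudoCoherentD_of_iso (DerivedCategory.Q.mapIso e4)⟩

end Groth.Agent.Lib.H6xChart
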