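import Mathlib
import Groth.Agent.Lib.H6xChartR
set_option backward.isDefEq.respectTransparency.types false

/-!
# Relative pseudo-coherence is local on the source (helper6; S6202, S6203)
-/

set_option autoImplicit false
set_option linter.style.haveILetI false

universe u

open CategoryTheory CategoryTheory.Limits AlgebraicGeometry HomologicalComplex TopologicalSpace
  Opposite

attribute [local instance] HasDerivedCategory.standard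

namespace Groth.Agent.Lib.H6xChart

open Groth.Agent.Lib.H6xClPush Groth.Agent.Lib.H6xPC3 Groth.Agent.Lib.H6xPCoh

variable {X S : Scheme.{u}}

lemma appLE_ι_comp (f : X ⟶ S) (U : X.Opens) (U₀ : U.toScheme.Opens) (V : S.Opens)
    (h₀ : U₀ ≤ (U.ι ≫ f) ⁻¹ᵁ V) (h₁ : U.ι ''ᵁ U₀ ≤ f ⁻¹ᵁ V) :
    (U.ι ≫ f).appLE V U₀ h₀ = f.appLE V (U.ι ''ᵁ U₀) h₁ := by
  rw [← Scheme.Hom.appLE_comp_appLE U.ι f V (U.ι ''ᵁ U₀) U₀ h₁ (by simp),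
    Scheme.Opens.ι_appLE]
  have : (homOfLE (Set.image_subset_iff.mpr (by simp : U₀ ≤ U.ι ⁻¹ᵁ (U.ι ''ᵁ U₀))) :
      U.ι ''ᵁ U₀ ⟶ U.ι ''ᵁ U₀) = 𝟙 _ := rfl
  rw [this, op_id, X.presheaf.map_id]
  exact Category.comp_id _

lemma image_le_of_le (f : X ⟶ S) (U : X.Opens) (U₀ : U.toScheme.Opens) (V : S.Opens)
    (h₀ : U₀ ≤ (U.ι ≫ f) ⁻¹ᵁ V) : U.ι ''ᵁ U₀ ≤ f ⁻¹ᵁ V := by
  rintro _ ⟨x, hx, rfl⟩
  exact h₀ hx

lemma isChart_ι_comp_iff (f : X ⟶ S) (U : X.Opens) (U₀ : U.toScheme.Opens) (V : S.Opens)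
    (h₀ : U₀ ≤ (U.ι ≫ f) ⁻¹ᵁ V) {n : ℕ}
    (φ : MvPolynomial (Fin n) Γ(S, V) →+* Γ(X, U.ι ''ᵁ U₀)) :
    DerSch.IsChart (X := U.toScheme) (U.ι ≫ f) U₀ V h₀ φ ↔
      DerSch.IsChart f (U.ι ''ᵁ U₀) V (image_le_of_le f U U₀ V h₀) φ := by
  unfold DerSch.IsChart
  rw [appLE_ι_comp f U U₀ V h₀ (image_le_of_le f U U₀ V h₀)]
  exact Iff.rfl

/-- **S6202** -/
theorem main_S6202 (f : X ⟶ S) (n : ℤ) (E : CochainComplex X.Modules ℤ)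
    (hE : DerSch.IsPseudoCoherentRel f n (DCoh.toD X E)) (U : X.Opens) :
    DerSch.IsPseudoCoherentRel (U.ι ≫ f) n
      (DCoh.toD (U : Scheme.{u}) ((DCoh.restrictCx U).obj E)) := by
  haveI : LocallyOfFiniteType f := hE.1
  rw [rel_iff_local]
  intro x
  obtain ⟨V, hV⟩ := exists_affine_nhd ((U.ι ≫ f).base x)
  obtain ⟨U₀, hxU₀, hU₀V⟩ := exists_affine_nhd_le (U.ι ≫ f) x V hV
  have hU₁ : IsAffineOpen (U.ι ''ᵁ (U₀ : U.toScheme.Opens)) := U₀.2.image_of_isOpenImmersion U.ι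
  have h₁ := image_le_of_le f U U₀ V hU₀V
  obtain ⟨k, φ, hφ, hpc⟩ := (main_S7208 f n _).1 hE ⟨_, hU₁⟩ V h₁
  refine ⟨U₀, V, hU₀V, k, φ, hxU₀, (isChart_ι_comp_iff f U U₀ V hU₀V φ).2 hφ, ?_⟩
  refine (chartPC_iff_pcCx (X := U.toScheme) (U₀ : U.toScheme.Opens) U₀.2 (V : S.Opens) φ hφ.1
    ((DCoh.restrictCx U).obj E) _ (Iso.refl _) n).2 ?_
  exact (pcCx_restrict_iff U U₀ E φ n).2 (hpc E ⟨Iso.refl _⟩)

/-- **S6203** -/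
theorem main_S6203 (f : X ⟶ S) [LocallyOfFiniteType f] (n : ℤ)
    (E : CochainComplex X.Modules ℤ) {ι : Type u} (U : ι → X.Opens) (hU : ⨆ i, U i = ⊤)
    (h : ∀ i : ι, DerSch.IsPseudoCoherentRel ((U i).ι ≫ f) n
      (DCoh.toD (U i : Scheme.{u}) ((DCoh.restrictCx (U i)).obj E))) :
    DerSch.IsPseudoCoherentRel f n (DCoh.toD X E) := by
  rw [rel_iff_local]
  intro x
  have hx : x ∈ ⨆ i, U i := by rw [hU]; trivial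
  obtain ⟨i, hi⟩ := Opens.mem_iSup.1 hx
  obtain ⟨U₀, V, h₀, k, φ, hxU₀, hφ, hpc⟩ := relPCLocal_of_rel _ n _ (h i) ⟨x, hi⟩
  have hU₁ : IsAffineOpen ((U i).ι ''ᵁ (U₀ : (U i).toScheme.Opens)) :=
    U₀.2.image_of_isOpenImmersion (U i).ι
  have hφ' := (isChart_ι_comp_iff f (U i) U₀ V h₀ φ).1 hφ
  refine ⟨⟨_, hU₁⟩, V, image_le_of_le f (U i) U₀ V h₀, k, φ, ⟨⟨x, hi⟩, hxU₀, rfl⟩, hφ', ?_⟩
  refine (chartPC_iff_pcCx _ hU₁ (V : S.Opens) φ hφ'.1 E _ (Iso.refl _) n).2 ?_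
  exact (pcCx_restrict_iff (U i) U₀ E φ n).1 (hpc _ ⟨Iso.refl _⟩)

end Groth.Agent.Lib.H6xChart
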