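import Mathlib
import Groth.Agent.Lib.H6xChartS
import Groth.Agent.S6935
set_option backward.isDefEq.respectTransparency.types false

/-!
# `(-1)`-pseudo-coherent morphisms are the morphisms locally of finite presentation (helper6; S6225)
-/

set_option autoImplicit false
set_option linter.style.haveILetI false

universe u

open CategoryTheory CategoryTheory.Limits AlgebraicGeometry HomologicalComplex TopologicalSpace
  Opposite

attribute [local instance] HasDerivedCategory.standard

namespace Groth.Agent.Lib.H6xChart

open Groth.Agent.Lib.H6xClPush Groth.Agent.Lib.H6xPC3 Groth.Agent.Lib.H6xPCoh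

variable {X S : Scheme.{u}}

/-- the direct image of the structure sheaf of an affine open along a chart morphism -/
noncomputable def pushChartUnitIso (U : X.Opens) (hU : IsAffineOpen U) {P : Type u} [CommRing P]
    (φ : P →+* Γ(X, U)) :
    (Scheme.Modules.pushforward (chartImm' U φ)).obj (Coh.structureModule (U : Scheme.{u})) ≅
      (tilde.functor (CommRingCat.of P)).obj
        ((ModuleCat.restrictScalars φ).obj (ModuleCat.of Γ(X, U) Γ(X, U))) :=
  haveI : IsIso U.toSpecΓ := hU.isoSpec.isIso_hom
  ((Scheme.Modules.pushforwardComp U.toSpecΓ (Spec.map (CommRingCat.ofHom φ))).app _).symm ≪≫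
    (Scheme.Modules.pushforward (Spec.map (CommRingCat.ofHom φ))).mapIso
      (asIso (ClSub.unitToPush U.toSpecΓ)).symm ≪≫
    (Groth.Agent.Lib.H6xAffTilde.tildePushIso (CommRingCat.ofHom φ)).app
      (ModuleCat.of Γ(X, U) Γ(X, U))

/-- the chart test for the structure sheaf is a ring-level condition -/
theorem pcCx_unitCx_iff_ring (U : X.Opens) (hU : IsAffineOpen U) {P : Type u} [CommRing P]
    (φ : P →+* Γ(X, U)) (m : ℤ) :
    PCCx m (DerSch.unitCx X) U φ ↔ DRing.IsPseudoCoherent P m
      ((DerivedCategory.singleFunctor (ModuleCat.{u} P) 0).obj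
        ((ModuleCat.restrictScalars φ).obj (ModuleCat.of Γ(X, U) Γ(X, U)))) := by
  rw [pcCx_unitCx_iff]
  haveI := (Groth.Agent.S9498.aux (CommRingCat.of P)).1
  haveI : PreservesFiniteColimits (tilde.functor (CommRingCat.of P)) := by
    haveI : PreservesColimitsOfSize.{0, 0} (tilde.functor (CommRingCat.of P)) :=
      (tilde.adjunction (R := (CommRingCat.of P))).leftAdjoint_preservesColimits
    exact PreservesColimitsOfSize.preservesFiniteColimits _
  rw [← Groth.Agent.Lib.H6xTildePC.pc_tildeD_iff (CommRingCat.of P) _ m]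
  have e := ((tilde.functor (CommRingCat.of P)).mapDerivedCategorySingleFunctor 0).app
      ((ModuleCat.restrictScalars φ).obj (ModuleCat.of Γ(X, U) Γ(X, U))) ≪≫
    (DerivedCategory.singleFunctor _ 0).mapIso (pushChartUnitIso U hU φ).symm
  exact ⟨isPseudoCoherentD_of_iso e.symm, isPseudoCoherentD_of_iso e⟩

/-- ring-level: for a surjection `φ : P → A`, `A` is a finitely presented `P`-module iff `ker φ` is
finitely generated -/
lemma isPC_negOne_iff_ker_fg {P A : Type u} [CommRing P] [CommRing A] (φ : P →+* A)
    (hφ : Function.Surjective φ) :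
    DRing.IsPseudoCoherent P (-1)
      ((DerivedCategory.singleFunctor (ModuleCat.{u} P) 0).obj
        ((ModuleCat.restrictScalars φ).obj (ModuleCat.of A A))) ↔ (RingHom.ker φ).FG := by
  have h := (Groth.Agent.S6935.result P ((ModuleCat.restrictScalars φ).obj (ModuleCat.of A A))).2
  rw [show DRing.IsPseudoCoherent P (-1)
      ((DerivedCategory.singleFunctor (ModuleCat.{u} P) 0).obj
        ((ModuleCat.restrictScalars φ).obj (ModuleCat.of A A))) ↔
      DRing.IsPseudoCoherentModule P (-1) ((ModuleCat.restrictScalars φ).obj (ModuleCat.of A A))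
      from Iff.rfl, h]
  letI := φ.toAlgebra
  let l : P →ₗ[P] ((ModuleCat.restrictScalars φ).obj (ModuleCat.of A A)) :=
    { toFun := fun p => φ p
      map_add' := fun a b => map_add φ a b
      map_smul' := fun a b => by
        change φ (a * b) = φ a * φ b
        exact map_mul φ a b }
  have hl : Function.Surjective l := hφ
  have hker : (LinearMap.ker l).FG ↔ (RingHom.ker φ).FG := by
    have : LinearMap.ker l = RingHom.ker φ := by
      ext p
      rfl
    rw [this]
    exact Iff.rfl
  rw [← hker]
  exact (Module.FinitePresentation.fg_ker_iff l hl).symm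

/-- **S6225** -/
theorem main_S6225 (f : X ⟶ S) [LocallyOfFiniteType f] :
    DerSch.IsNPseudoCoherent f (-1) ↔ LocallyOfFinitePresentation f := by
  unfold DerSch.IsNPseudoCoherent
  rw [rel_toD_iff_forall_pcCx]
  constructor
  · intro h
    refine ⟨fun {V} hV {U} hU e => ?_⟩
    obtain ⟨n, φ, hφs, hφC⟩ := exists_chart_of_finiteType _
      (LocallyOfFiniteType.finiteType_appLE f hV hU e)
    have h1 := h ⟨U, hU⟩ ⟨V, hV⟩ e n φ ⟨hφs, hφC⟩
    have h2 := (isPC_negOne_iff_ker_fg φ hφs).1 ((pcCx_unitCx_iff_ring U hU φ (-1)).1 h1)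
    letI := (f.appLE V U e).hom.toAlgebra
    let φa : MvPolynomial (Fin n) Γ(S, V) →ₐ[Γ(S, V)] Γ(X, U) :=
      { φ with
        commutes' := fun r => by
          have := congrArg (fun F => F r) hφC
          exact this }
    exact Algebra.FinitePresentation.of_surjective (f := φa) hφs h2
  · intro h U V e n φ hφ
    rw [pcCx_unitCx_iff_ring (U : X.Opens) U.2 φ (-1), isPC_negOne_iff_ker_fg φ hφ.1]
    letI := (f.appLE (V : S.Opens) (U : X.Opens) e).hom.toAlgebra
    haveI : Algebra.FinitePresentation Γ(S, (V : S.Opens)) Γ(X, (U : X.Opens)) :=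
      LocallyOfFinitePresentation.finitePresentation_appLE f V.2 U.2 e
    let φa : MvPolynomial (Fin n) Γ(S, (V : S.Opens)) →ₐ[Γ(S, (V : S.Opens))]
        Γ(X, (U : X.Opens)) :=
      { φ with
        commutes' := fun r => by
          have := congrArg (fun F => F r) hφ.2
          exact this }
    exact Algebra.FinitePresentation.ker_fG_of_surjective φa hφ.1

end Groth.Agent.Lib.H6xChart
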