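import Mathlib
import Groth.Agent.Lib.H6xFlatAmpLocal
set_option backward.isDefEq.respectTransparency.types false

/-!
# Perfect amplitude iff pseudo-coherent with flat amplitude (helper6)
-/

set_option autoImplicit false
set_option linter.style.haveILetI false

universe u

open CategoryTheory CategoryTheory.Limits AlgebraicGeometry HomologicalComplex TopologicalSpace
  Opposite MonoidalCategory

attribute [local instance] HasDerivedCategory.standard

namespace Groth.Agent.Lib.H6xPerfAmp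

open Groth.Agent.Lib.Helper1.CI Groth.Agent.Lib.Helper1.Sky
  Groth.Agent.Lib.H6xPerf23 Groth.Agent.Lib.H6xPerfAff Groth.Agent.Lib.H6xPerfSumm
  Groth.Agent.Lib.H6xPC3 Groth.Agent.Lib.H6xPerfFlatPC Groth.Agent.Lib.H6xFlatAmpLocal
  Groth.Agent.Lib.H6xPerfLoc

variable {X : Scheme.{u}}

/-- local criterion for perfect amplitude -/
theorem hasPerfectAmplitudeIn_of_local (K : DCoh.D X) (m n : ℤ)
    (h : ∀ x : X, ∃ (Z : Scheme.{u}) (g : Z ⟶ X) (_ : IsOpenImmersion g),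
      x ∈ Set.range g.base ∧ ∃ E : CochainComplex Z.Modules ℤ, DCoh.VanishesOutside E m n ∧
        (∀ i : ℤ, FlatMod.IsFinLocFree (E.X i)) ∧
        Nonempty ((DCoh.restrictD g).obj K ≅ DerivedCategory.Q.obj E)) :
    KSix.HasPerfectAmplitudeIn m n K := by
  intro x
  obtain ⟨Z, g, hg, hx, E, hE0, hEf, ⟨e⟩⟩ := h x
  refine ⟨g.opensRange, hx, fun F ⟨eF⟩ => ?_⟩
  obtain ⟨e2⟩ := nonempty_Q_restrict_iso g.isoOpensRange.inv g g.opensRange.ι
    g.isoOpensRange_inv_comp F E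
    (((Scheme.Modules.restrictFunctor g).mapDerivedCategoryFactors.app F).symm ≪≫
      (DCoh.restrictD g).mapIso eF ≪≫ e)
  exact ⟨_, fun i hi => (Scheme.Modules.restrictFunctor g.isoOpensRange.inv).map_isZero (hE0 i hi),
    fun i => isFinLocFree_restrict g.isoOpensRange.inv _ (hEf i), ⟨e2⟩⟩

theorem isPerfect_of_hasPerfectAmplitudeIn (K : DCoh.D X) (m n : ℤ)
    (h : KSix.HasPerfectAmplitudeIn m n K) : DCoh.IsPerfect K := by
  intro x
  obtain ⟨V, hxV, hV⟩ := h x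
  refine ⟨V, hxV, fun F hF => ?_⟩
  obtain ⟨E, hE0, hEf, he⟩ := hV F hF
  exact ⟨E, ⟨⟨m, n, hE0⟩, hEf⟩, he⟩

theorem hasFlatAmplitudeIn_of_hasPerfectAmplitudeIn (K : DCoh.D X) (m n : ℤ)
    (h : KSix.HasPerfectAmplitudeIn m n K) : DCoh.HasFlatAmplitudeIn m n K := by
  refine hasFlatAmplitudeIn_of_opens K m n (fun x => ?_)
  obtain ⟨V, hxV, hV⟩ := h x
  obtain ⟨P, hP0, hPf, ⟨e⟩⟩ := hV (DerivedCategory.Q.objPreimage K)
    ⟨DerivedCategory.Q.objObjPreimageIso K⟩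
  refine ⟨V, hxV, P, hP0, fun i => Groth.Agent.Lib.R2H2.PullLF.isFlat_of_isFinLocFree _ (hPf i),
    ⟨?_⟩⟩
  exact e.symm ≪≫ restrictCxIso V K _ (DerivedCategory.Q.objObjPreimageIso K)

/-- the affine case -/
theorem exists_affine (R : CommRingCat.{u}) (K : DCoh.D (Spec R)) (a b : ℤ) (hab : a ≤ b)
    (hq : DCoh.IsQCohD K) (h1 : DCoh.HasFlatAmplitudeIn a b K)
    (h2 : DCoh.IsPseudoCoherentD (a - 1) K) :
    ∃ E : CochainComplex (Spec R).Modules ℤ, DCoh.VanishesOutside E a b ∧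
      (∀ i : ℤ, FlatMod.IsFinLocFree (E.X i)) ∧ Nonempty (K ≅ DerivedCategory.Q.obj E) := by
  haveI := (Groth.Agent.S9498.aux R).1
  obtain ⟨M, ⟨eM⟩⟩ := ((Groth.Agent.Lib.H6xTilde.main R).2.2 K).1 hq
  have hM1 : DRing.IsPseudoCoherent R (a - 1) M :=
    (Groth.Agent.Lib.H6xTildePC.pc_tildeD_iff R M (a - 1)).1 (isPseudoCoherentD_of_iso eM.symm h2)
  have hM2 : DRing.HasTorAmplitudeIn R a b M :=
    Groth.Agent.Lib.H6xFlatAmpTilde.hasTorAmplitudeIn_of_tildeD R M a b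
      (hasFlatAmplitudeIn_of_iso eM.symm a b h1)
  obtain ⟨L, hL, hLP, ⟨eL⟩⟩ := (Groth.Agent.S5611.result M a b hab).1 ⟨hM1, hM2⟩
  refine ⟨((tilde.functor R).mapHomologicalComplex (ComplexShape.up ℤ)).obj L,
    fun i hi => (tilde.functor R).map_isZero (hL i hi),
    fun i => (Groth.Agent.Lib.Helper2.FPAff.isFinLocFree_tilde_iff R (L.X i)).2 (hLP i), ⟨?_⟩⟩
  exact eM.symm ≪≫ (DCoh.tildeD R).mapIso eL.symm ≪≫
    (tilde.functor R).mapDerivedCategoryFactors.app L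

/-- S4275 -/
theorem main (X : Scheme.{u}) (E : DCoh.D X) (m n : ℤ) (hmn : m ≤ n) :
    KSix.HasPerfectAmplitudeIn m n E ↔
      DCoh.IsPseudoCoherentD (m - 1) E ∧ DCoh.HasFlatAmplitudeIn m n E := by
  constructor
  · intro h
    exact ⟨isPseudoCoherentD_of_isPerfect E (isPerfect_of_hasPerfectAmplitudeIn E m n h) (m - 1),
      hasFlatAmplitudeIn_of_hasPerfectAmplitudeIn E m n h⟩
  · rintro ⟨h2, h1⟩
    have hq : DCoh.IsQCohD E := fun i => by
      by_cases hi : m - 1 < i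
      · exact (Groth.Agent.Lib.H6xPCoh.qcoh_cohomology_of_pseudoCoherent (m - 1) E h2).1 i hi
      · exact Groth.Agent.Lib.H6xQcTrunc.isQCoh_of_isZero _
          (isZero_HD_of_hasFlatAmplitudeIn E m n h1 i (Or.inl (by omega)))
    refine hasPerfectAmplitudeIn_of_local E m n (fun x => ?_)
    obtain ⟨W, hW, hxW, -⟩ := exists_isAffineOpen_mem_and_subset (x := x) (U := ⊤) trivial
    refine ⟨Spec Γ(X, W), hW.fromSpec, inferInstance, by rw [hW.range_fromSpec]; exact hxW, ?_⟩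
    refine exists_affine Γ(X, W) _ m n hmn
      (Groth.Agent.Lib.H6xRpushQc.isQCohD_restrictD hW.fromSpec E hq)
      (hasFlatAmplitudeIn_restrictD hW.fromSpec E m n h1) ?_
    rw [isPseudoCoherentD_iff_pcAt] at h2 ⊢
    exact fun z => PCAt.restrict hW.fromSpec z (h2 _)

end Groth.Agent.Lib.H6xPerfAmp
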