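import Mathlib
import Groth.Agent.Lib.H6xChartM
import Groth.Agent.Lib.H6xRelTorSmF
import Groth.Agent.Lib.H6xPerfAmp
import Groth.Agent.Lib.H6xPerfAffE
set_option backward.isDefEq.respectTransparency.types false

/-!
# Perfect amplitude relative to a closed immersion into a smooth scheme (helper6; S6218, S6219)
-/

set_option autoImplicit false
set_option linter.style.haveILetI false

universe u

open CategoryTheory CategoryTheory.Limits AlgebraicGeometry HomologicalComplex TopologicalSpace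
  Opposite

attribute [local instance] HasDerivedCategory.standard

namespace Groth.Agent.Lib.H6xChart

open Groth.Agent.Lib.H6xClPush Groth.Agent.Lib.H6xPC3 Groth.Agent.Lib.H6xPCoh
  Groth.Agent.Lib.H6xRelTorAmpG Groth.Agent.Lib.H6xFlatAmpStalk Groth.Agent.Lib.Helper1.Tor
  Groth.Agent.Lib.H6xPushStalk

variable {X Y S : Scheme.{u}}

/-- S6218 -/
theorem main_S6218 (i : X ⟶ Y) [IsClosedImmersion i]
    (g : Y ⟶ S) [Smooth g] (a b : ℤ) (F : CochainComplex X.Modules ℤ)
    (hF : KSix.HasPerfectAmplitudeIn a b (DCoh.toD Y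
      (((Scheme.Modules.pushforward i).mapHomologicalComplex (ComplexShape.up ℤ)).obj F))) :
    DerSch.HasPerfAmplitudeRel (i ≫ g) a b F := by
  refine ⟨fun m => ?_, fun x => ?_⟩
  · rw [rel_comp_iff_pc_push i g m F]
    exact Groth.Agent.Lib.H6xPerfAff.isPseudoCoherentD_of_isPerfect _
      (Groth.Agent.Lib.H6xPerfAmp.isPerfect_of_hasPerfectAmplitudeIn _ a b hF) m
  · have h0 := Groth.Agent.Lib.H6xPerfAmp.hasFlatAmplitudeIn_of_hasPerfectAmplitudeIn _ a b hF
    apply hasTorAmplitudeAt_comp_flat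
    have h1 := hasTorAmp_stalk_of_hasFlatAmplitudeIn _ a b h0 (i.base x)
    exact hasTorAmp_of_iso (DerivedCategory.Q.mapIso
      (stalkPushCIso i i.isClosedEmbedding.isInducing x F ≪≫ (stalkCxOverIso i x F).symm)) h1

end Groth.Agent.Lib.H6xChart

namespace Groth.Agent.Lib.H6xChart

open Groth.Agent.Lib.H6xClPush Groth.Agent.Lib.H6xPC3 Groth.Agent.Lib.H6xPCoh
  Groth.Agent.Lib.H6xRelTorAmpG Groth.Agent.Lib.H6xFlatAmpStalk Groth.Agent.Lib.Helper1.Tor
  Groth.Agent.Lib.H6xPushStalk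

variable {X Y S : Scheme.{u}}

open ZeroObject in
/-- a zero object has perfect amplitude in any interval -/
lemma hasPerfectAmplitudeIn_of_isZero (K : DCoh.D X) (hK : IsZero K) (m n : ℤ) :
    KSix.HasPerfectAmplitudeIn m n K := by
  intro x
  refine ⟨⊤, trivial, fun F ⟨e⟩ => ⟨0, fun i _ => ?_, fun i => ?_, ⟨?_⟩⟩⟩
  · exact (HomologicalComplex.eval _ _ i).map_isZero (isZero_zero _)
  · exact Groth.Agent.Lib.R2H2.PdSheaf.isFinLocFree_of_isZero _
      ((HomologicalComplex.eval _ _ i).map_isZero (isZero_zero _))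
  · have h1 : IsZero (DCoh.toD X F) := hK.of_iso e
    have h2 : IsZero ((DCoh.restrictD (⊤ : X.Opens).ι).obj (DCoh.toD X F)) :=
      (DCoh.restrictD (⊤ : X.Opens).ι).map_isZero h1
    have h3 : IsZero (DerivedCategory.Q.obj ((DCoh.restrictCx (⊤ : X.Opens)).obj F)) :=
      h2.of_iso (restrictDToD (⊤ : X.Opens).ι F).symm
    exact h3.iso (DerivedCategory.Q.map_isZero (isZero_zero _))

/-- flat amplitude in an empty interval forces the object to vanish -/
lemma isZero_of_hasFlatAmplitudeIn (K : DCoh.D X) (m n : ℤ) (hmn : n < m)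
    (h : DCoh.HasFlatAmplitudeIn m n K) : IsZero K := by
  obtain ⟨E, hE, -, ⟨e⟩⟩ := h
  have hE0 : IsZero E := by
    rw [IsZero.iff_id_eq_zero]
    ext i : 1
    exact (hE i (by omega)).eq_of_src _ _
  exact (DerivedCategory.Q.map_isZero hE0).of_iso e.symm

/-- S6219 -/
theorem main_S6219 (i : X ⟶ Y) [IsClosedImmersion i]
    (g : Y ⟶ S) [Smooth g] (d : ℕ)
    (hd : ∀ y : Y, ∃ (n : ℕ) (V : Y.Opens), n ≤ d ∧ y ∈ V ∧
      SmoothOfRelativeDimension n (V.ι ≫ g))
    (a b : ℤ) (F : CochainComplex X.Modules ℤ) (hF : DerSch.HasPerfAmplitudeRel (i ≫ g) a b F) :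
    KSix.HasPerfectAmplitudeIn (a - d) b (DCoh.toD Y
      (((Scheme.Modules.pushforward i).mapHomologicalComplex (ComplexShape.up ℤ)).obj F)) := by
  have h1 := main_smooth i g d hd F a b hF.2
  by_cases hab : a - d ≤ b
  · rw [Groth.Agent.Lib.H6xPerfAmp.main _ _ _ _ hab]
    exact ⟨(rel_comp_iff_pc_push i g _ F).1 (hF.1 _), h1⟩
  · exact hasPerfectAmplitudeIn_of_isZero _ (isZero_of_hasFlatAmplitudeIn _ _ _ (by omega) h1) _ _

end Groth.Agent.Lib.H6xChart
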