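import Groth.Prelude.Def_KZero
import Groth.Prelude.Def_DRing2
import Groth.Prelude.Def_Koszul
import Mathlib.RingTheory.Support
import Mathlib.RingTheory.Regular.RegularSequence
import Mathlib.RingTheory.LocalRing.MaximalIdeal.Basic
import Mathlib.RingTheory.Spectrum.Prime.Topology
import Groth.Agent.S7031
import Groth.Agent.S15821
import Groth.Agent.Lib.Helper17K0e
import Groth.Agent.Lib.Helper17K0Perf3
import Groth.Agent.Lib.Helper5SuppDim

set_option autoImplicit false
universe u
open CategoryTheory CategoryTheory.Limits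
attribute [local instance] HasDerivedCategory.standard
open KZero

namespace Groth.Agent.Lib.R2Lead.K0Kz

open DerivedCategory Pretriangulated HomologicalComplex
open Groth.Agent.Lib.Helper17.K0a Groth.Agent.Lib.Helper17.K0b Groth.Agent.Lib.Helper17.K0c
  Groth.Agent.Lib.Helper17.K0e Groth.Agent.S7030

variable (R : Type u) [CommRing R]

/-- finite length modules -/
def fl : ObjectProperty (ModuleCat.{u} R) := fun M => IsFiniteLength R M

instance : (fl R).IsClosedUnderIsomorphisms where
  of_iso := by
    rintro M N e h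
    exact e.toLinearEquiv.isFiniteLength h

instance : (fl R).ContainsZero where
  exists_zero := ⟨ModuleCat.of R PUnit, ModuleCat.isZero_of_subsingleton _, IsFiniteLength.of_subsingleton⟩

instance : (fl R).IsClosedUnderKernels where
  kernels_le := by
    rintro _ ⟨f, k, hk, hf⟩
    refine (fl R).prop_of_iso (IsLimit.conePointUniqueUpToIso (kernelIsKernel f) hk) ?_
    show IsFiniteLength R ((kernel f : ModuleCat.{u} R))
    exact IsFiniteLength.of_injective (f := (kernel.ι f).hom) hf.1
      ((ModuleCat.mono_iff_injective _).1 inferInstance)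

/-! ### the Koszul complex is a bounded complex of finite free modules -/

theorem koszul_vanishesOutside (l : List R) :
    DRing.VanishesOutside (Koszul.koszul R l) (-(l.length : ℤ)) 0 := by
  induction l with
  | nil =>
    intro i hi
    exact isZero_single_obj_X (ComplexShape.up ℤ) 0 _ i (by simp at hi; omega)
  | cons x l ih =>
    have h := Groth.Agent.Lib.Helper17.K0Perf.cone_vanishesOutside (x • 𝟙 (Koszul.koszul R l))
      (-(l.length : ℤ)) 0 ih ih
    intro i hi
    apply h i
    simp only [List.length_cons, Nat.cast_add, Nat.cast_one] at hi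
    omega

theorem koszul_tfp (l : List R) : DRing.TermwiseFiniteProjective (Koszul.koszul R l) := by
  induction l with
  | nil =>
    intro i
    by_cases hi : i = 0
    · subst hi
      exact Groth.Agent.S7010.finite_projective_of_iso
        (singleObjXSelf (ComplexShape.up ℤ) 0 (ModuleCat.of R R)).symm ⟨inferInstance, inferInstance⟩
    · exact Groth.Agent.S7010.finite_projective_of_isZero
        (isZero_single_obj_X (ComplexShape.up ℤ) 0 _ i hi)
  | cons x l ih =>
    exact Groth.Agent.Lib.Helper17.K0Perf.cone_tfp (x • 𝟙 (Koszul.koszul R l)) ih ih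

theorem isPerfect_koszul (l : List R) : DRing.IsPerfect R (DRing.toD (Koszul.koszul R l)) :=
  ⟨Koszul.koszul R l, _, _, koszul_vanishesOutside R l, koszul_tfp R l, ⟨Iso.refl _⟩⟩

/-! ### the Koszul complex of a regular sequence resolves the quotient -/

theorem exists_iso_koszul (l : List R) (hl : RingTheory.Sequence.IsWeaklyRegular R l) :
    Nonempty (DRing.toD (Koszul.koszul R l) ≅ Dual.inD R (R ⧸ Ideal.ofList l)) := by
  obtain ⟨hK, ⟨e0⟩⟩ := Groth.Agent.S15821.result R l hl
  have eH : ∀ i : ℤ, (homologyFunctor (ModuleCat.{u} R) i).obj (Q.obj (Koszul.koszul R l)) ≅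
      (Koszul.koszul R l).homology i := fun i =>
    (homologyFunctorFactors (ModuleCat.{u} R) i).app _
  haveI : (Q.obj (Koszul.koszul R l)).IsGE 0 :=
    (DerivedCategory.isGE_iff _ 0).2 (fun i hi => (hK i (by omega)).of_iso (eH i))
  haveI : (Q.obj (Koszul.koszul R l)).IsLE 0 :=
    (DerivedCategory.isLE_iff _ 0).2 (fun i hi => (hK i (by omega)).of_iso (eH i))
  obtain ⟨e⟩ := Groth.Agent.S0973.iso_single_of_amp (Q.obj (Koszul.koszul R l)) 0
  exact ⟨e ≪≫ (singleFunctor (ModuleCat.{u} R) 0).mapIso (eH 0 ≪≫ e0)⟩

/-! ### finite length modules over a local ring whose residue field is perfect -/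

section loc

variable [IsLocalRing R]

/-- a simple module over a local ring is the residue field -/
theorem exists_equiv_of_isSimpleModule (S : Type u) [AddCommGroup S] [Module R S] [IsSimpleModule R S] :
    Nonempty (S ≃ₗ[R] (R ⧸ IsLocalRing.maximalIdeal R)) := by
  obtain ⟨I, hI, ⟨e⟩⟩ := isSimpleModule_iff_quot_maximal.1 (inferInstance : IsSimpleModule R S)
  have : I = IsLocalRing.maximalIdeal R := IsLocalRing.eq_maximalIdeal hI
  subst this
  exact ⟨e⟩

/-- the short exact sequence of a submodule -/
noncomputable abbrev scSub {M : Type u} [AddCommGroup M] [Module R M] (N : Submodule R M) :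
    ShortComplex (ModuleCat.{u} R) :=
  ShortComplex.mk (ModuleCat.ofHom N.subtype) (ModuleCat.ofHom N.mkQ) (by ext x; simp)

omit [IsLocalRing R] in
theorem shortExact_sub {M : Type u} [AddCommGroup M] [Module R M] (N : Submodule R M) :
    (scSub R N).ShortExact :=
  ModuleCat.shortComplex_shortExact _ (LinearMap.exact_subtype_mkQ N) N.injective_subtype
    N.mkQ_surjective

theorem isPerfect_of_isFiniteLength
    (hk : DRing.IsPerfect R (Dual.inD R (R ⧸ IsLocalRing.maximalIdeal R)))
    (M : Type u) [AddCommGroup M] [Module R M] (h : IsFiniteLength R M) :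
    DRing.IsPerfect R (Dual.inD R M) := by
  induction h with
  | of_subsingleton =>
    exact Groth.Agent.S7030.isPerfect_of_isZero
      (Functor.map_isZero _ (ModuleCat.isZero_of_subsingleton _))
  | @of_simple_quotient M _ _ N hs hN ih =>
    obtain ⟨e⟩ := exists_equiv_of_isSimpleModule R (M ⧸ N)
    have hS := shortExact_sub R N
    have h3 : DRing.IsPerfect R (Dual.inD R (M ⧸ N)) :=
      Groth.Agent.S7030.isPerfect_of_iso
        ((singleFunctor (ModuleCat.{u} R) 0).mapIso e.toModuleIso).symm hk
    exact isPerfect_ext _ hS.singleTriangle_distinguished ih h3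

theorem clSub_mem_closure (M : Type u) [AddCommGroup M] [Module R M] (h : IsFiniteLength R M) :
    clSub (fl R) (ModuleCat.of R M) ∈
      AddSubgroup.closure {clSub (fl R) (ModuleCat.of R (R ⧸ IsLocalRing.maximalIdeal R))} := by
  induction h with
  | @of_subsingleton M _ _ _ =>
    rw [clSub_of_isZero (fl R) (X := ModuleCat.of R M) (ModuleCat.isZero_of_subsingleton _)]
    exact zero_mem _
  | @of_simple_quotient M _ _ N hs hN ih =>
    obtain ⟨e⟩ := exists_equiv_of_isSimpleModule R (M ⧸ N)
    have hS := shortExact_sub R N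
    have hk : fl R (ModuleCat.of R (R ⧸ IsLocalRing.maximalIdeal R)) :=
      e.isFiniteLength (isFiniteLength_iff_isNoetherian_isArtinian.2 ⟨inferInstance, inferInstance⟩)
    have h3 : fl R (ModuleCat.of R (M ⧸ N)) := e.symm.isFiniteLength hk
    have h2 : fl R (ModuleCat.of R M) := IsFiniteLength.of_simple_quotient hN
    have := clSub_shortExact (fl R) (scSub R N) hS hN h2 h3
    have h' : clSub (fl R) (ModuleCat.of R M) = clSub (fl R) (ModuleCat.of R N) +
        clSub (fl R) (ModuleCat.of R (M ⧸ N)) := this
    rw [h']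
    refine add_mem ih ?_
    rw [clSub_of_iso (fl R) e.toModuleIso h3]
    exact AddSubgroup.subset_closure rfl

theorem closure_clSub_eq_top :
    AddSubgroup.closure {clSub (fl R) (ModuleCat.of R (R ⧸ IsLocalRing.maximalIdeal R))} = ⊤ := by
  rw [eq_top_iff]
  rintro x -
  induction x using QuotientAddGroup.induction_on with
  | H z =>
    induction z using FreeAbelianGroup.induction_on with
    | zero => exact zero_mem _
    | of X =>
      have h1 : ((FreeAbelianGroup.of X : FreeAbelianGroup (Subtype (fl R))) : K0sub (fl R)) =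
          clSub (fl R) X.1 := (clSub_of_prop (fl R) X.2).symm
      rw [h1]
      exact clSub_mem_closure R X.1 X.2
    | neg X ih =>
      rw [QuotientAddGroup.mk_neg]
      exact neg_mem ih
    | add x y hx hy =>
      rw [QuotientAddGroup.mk_add]
      exact add_mem hx hy

/-- the predicate of the statement -/
def Pst : ObjectProperty (Dual.D R) := fun K => DRing.IsPerfect R K ∧
  ∀ i : ℤ, Module.support R (Dual.HD R K i) ⊆ {IsLocalRing.closedPoint R}

theorem pst_of_dbP (hk : DRing.IsPerfect R (Dual.inD R (R ⧸ IsLocalRing.maximalIdeal R)))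
    (K : Dual.D R) (hK : DbP (fl R) K) : Pst R K := by
  obtain ⟨hfl, a, b, hGE, hLE⟩ := hK
  have hGE' : K.IsGE a := hGE
  have hLE' : K.IsLE b := hLE
  refine ⟨?_, fun i p hp => ?_⟩
  · refine Groth.Agent.Lib.Helper1.Devissage.induction_homology' (perf R)
      (fun K hK => isPerfect_of_isZero hK) (fun T hT h1 h3 => isPerfect_ext T hT h1 h3) K a b ?_ ?_
    · rintro i (hi | hi)
      · exact K.isZero_of_isGE a i hi
      · exact K.isZero_of_isLE b i hi
    · intro j _ _
      exact isPerfect_single _ (isPerfect_of_isFiniteLength R hk _ (hfl j)) j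
  · have hmax : p.asIdeal.IsMaximal :=
      Groth.Agent.Lib.Helper5.isMaximal_of_annihilator_le_of_isFiniteLength (hfl i) p.asIdeal
        (Module.annihilator_le_of_mem_support hp)
    rw [Set.mem_singleton_iff]
    exact PrimeSpectrum.ext (IsLocalRing.eq_maximalIdeal hmax)

theorem dbP_of_pst [IsNoetherianRing R] (K : Dual.D R) (hK : Pst R K) : DbP (fl R) K := by
  obtain ⟨hperf, hsupp⟩ := hK
  obtain ⟨⟨a, b, hab⟩, hfin⟩ := Groth.Agent.S6962.finite_homology_of_isPerfect K hperf
  refine ⟨fun i => ?_, a, b, ?_, ?_⟩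
  · haveI := hfin i
    refine Groth.Agent.Lib.Helper5.isFiniteLength_of_supportDim_le_zero
      (Groth.Agent.Lib.Helper5.supportDim_le_zero_of_forall_isMaximal (fun p hp => ?_))
    have := hsupp i hp
    rw [Set.mem_singleton_iff] at this
    subst this
    exact IsLocalRing.maximalIdeal.isMaximal R
  · have : K.IsGE a := (DerivedCategory.isGE_iff K a).2 (fun i hi => by
      haveI := hab i (Or.inl hi)
      exact ModuleCat.isZero_of_subsingleton _)
    exact this
  · have : K.IsLE b := (DerivedCategory.isLE_iff K b).2 (fun i hi => by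
      haveI := hab i (Or.inr hi)
      exact ModuleCat.isZero_of_subsingleton _)
    exact this

theorem main_aux [IsNoetherianRing R] (Q' : ObjectProperty (Dual.D R)) (hQ : Q' = DbP (fl R))
    (Kz : Dual.D R) (e : Kz ≅ Dual.inD R (R ⧸ IsLocalRing.maximalIdeal R)) :
    AddSubgroup.closure {clTr Q' Kz} = ⊤ := by
  subst hQ
  have hkfl : fl R (ModuleCat.of R (R ⧸ IsLocalRing.maximalIdeal R)) := by
    haveI : IsSimpleModule R (R ⧸ IsLocalRing.maximalIdeal R) :=
      isSimpleModule_iff_quot_maximal.2 ⟨_, IsLocalRing.maximalIdeal.isMaximal R,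
        ⟨LinearEquiv.refl _ _⟩⟩
    exact isFiniteLength_iff_isNoetherian_isArtinian.2 ⟨inferInstance, inferInstance⟩
  have h1 : clTr (DbP (fl R)) Kz =
      phi (fl R) (clSub (fl R) (ModuleCat.of R (R ⧸ IsLocalRing.maximalIdeal R))) := by
    rw [phi_clSub (fl R) _ hkfl]
    exact clTr_of_iso (DbP (fl R)) e ((DbP (fl R)).prop_of_iso e.symm (dbP_single (fl R) _ hkfl 0))
  rw [h1, ← Set.image_singleton, ← AddMonoidHom.map_closure, closure_clSub_eq_top,
    ← AddMonoidHom.range_eq_map, AddMonoidHom.range_eq_top]
  exact phi_surjective (fl R)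

end loc

theorem main [IsNoetherianRing R] [IsLocalRing R] (fs : List R)
    (hreg : RingTheory.Sequence.IsRegular R fs)
    (hgen : Ideal.ofList fs = IsLocalRing.maximalIdeal R) :
    AddSubgroup.closure
        {KZero.clTr (fun K : Dual.D R => DRing.IsPerfect R K ∧
            ∀ i : ℤ, Module.support R (Dual.HD R K i) ⊆ {IsLocalRing.closedPoint R})
          (DRing.toD (Koszul.koszul R fs))} = ⊤ := by
  obtain ⟨e⟩ := exists_iso_koszul R fs hreg.toIsWeaklyRegular
  rw [hgen] at e
  have hk : DRing.IsPerfect R (Dual.inD R (R ⧸ IsLocalRing.maximalIdeal R)) :=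
    isPerfect_of_iso e (isPerfect_koszul R fs)
  refine main_aux R _ ?_ _ e
  funext K
  exact propext ⟨fun h => dbP_of_pst R K h, fun h => pst_of_dbP R hk K h⟩

end Groth.Agent.Lib.R2Lead.K0Kz
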