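import Mathlib
import Groth.Agent.Lib.H9KoszulComp
import Groth.Agent.Lib.R2LeadK0Kz
import Groth.Agent.Lib.Helper1PC
import Groth.Agent.Lib.H6xRelTorLocB
set_option backward.isDefEq.respectTransparency.types false

/-!
# The Koszul complex of a Koszul-regular sequence: pseudo-coherence and tor amplitude of the
quotient (helper6)
-/

set_option autoImplicit false
set_option linter.style.haveILetI false

universe u

open CategoryTheory CategoryTheory.Limits HomologicalComplex

attribute [local instance] HasDerivedCategory.standard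

namespace Groth.Agent.Lib.H6xKoszulPC

open DerivedCategory Groth.Agent.Lib.Helper1.PC Groth.Agent.Lib.Helper1.Tor
  Groth.Agent.Lib.Helper1.KBC Groth.Agent.Lib.H6xRelTorAmp Groth.Agent.Lib.Helper1.DT

variable (R : Type u) [CommRing R]

/-- the Koszul complex is pseudo-coherent -/
theorem isPC_koszul : ∀ (l : List R) (m : ℤ),
    DRing.IsPseudoCoherent R m (DRing.toD (Koszul.koszul R l))
  | [], m => by
    refine isPC_of_iso ((singleFunctorIsoCompQ (ModuleCat.{u} R) 0).app (ModuleCat.of R R))
      (isPC_of_rep m (rep_single (ModuleCat.of R R) ⟨?_, ?_⟩ 0))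
    · exact inferInstanceAs (Module.Finite R R)
    · exact inferInstanceAs (Module.Free R R)
  | f :: l, m => by
    have hT := DerivedCategory.mappingCone_triangle_distinguished (f • 𝟙 (Koszul.koszul R l))
    exact isPC_obj₃ _ hT m (isPC_koszul l (m + 1)) (isPC_koszul l m)

/-- the Koszul complex has tor amplitude in `[-length, 0]` -/
theorem hasTorAmp_koszul (l : List R) :
    DRing.HasTorAmplitudeIn R (-(l.length : ℤ)) 0 (DRing.toD (Koszul.koszul R l)) := by
  refine ⟨Koszul.koszul R l, Groth.Agent.Lib.R2Lead.K0Kz.koszul_vanishesOutside R l, fun i => ?_,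
    ⟨Iso.refl _⟩⟩
  obtain ⟨h1, h2⟩ := Groth.Agent.Lib.R2Lead.K0Kz.koszul_tfp R l i
  infer_instance

/-- the Koszul complex of a Koszul-regular sequence resolves the quotient -/
theorem nonempty_iso_koszul (l : List R) (hl : LCI.IsKoszulRegularSeq R l) :
    Nonempty (DRing.toD (Koszul.koszul R l) ≅ Dual.inD R (R ⧸ Ideal.ofList l)) := by
  obtain ⟨e0⟩ := Groth.Agent.S11917.main R l
  have h : Ideal.ofList l • (⊤ : Submodule R R) = Ideal.ofList l := by simp
  have e : (CohIII.koszulCx (ModuleCat.of R R) l).homology 0 ≅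
      ModuleCat.of R (R ⧸ Ideal.ofList l) :=
    (e0.trans (Submodule.quotEquivOfEq _ _ h)).toModuleIso
  obtain ⟨ε, hε⟩ := Groth.Agent.Lib.H9KoszulComp.exists_quasiIso_single
    (CohIII.koszulCx (ModuleCat.of R R) l)
    (Groth.Agent.Lib.Helper21.isZero_koszulCx_X_pos _ l 1 one_pos)
    (fun i hi => (Groth.Agent.Helper13KzLift.isZero_congr
      (Groth.Agent.Helper13KzLift.koszul_eq R l) i).mp (hl i hi)) _ e
  rw [Groth.Agent.Helper13KzLift.koszul_eq R l]
  haveI := hε
  exact ⟨asIso (Q.map ε) ≪≫
    ((singleFunctorIsoCompQ (ModuleCat.{u} R) 0).app _).symm⟩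

variable {R}
variable {A : Type u} [CommRing A] (φ : R →+* A)

/-- `φ` as an `R`-linear map onto the restriction of scalars of `A` -/
noncomputable def toRes : R →ₗ[R] ((ModuleCat.restrictScalars φ).obj (ModuleCat.of A A)) where
  toFun x := (φ x : A)
  map_add' x y := map_add φ x y
  map_smul' r x := map_mul φ r x

lemma toRes_apply (x : R) : toRes φ x = (φ x : A) := rfl

/-- `A` as an `R`-module is the quotient of `R` by the kernel -/
noncomputable def resQuotIso (hφ : Function.Surjective φ) (I : Ideal R)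
    (hI : RingHom.ker φ = I) :
    ModuleCat.of R (R ⧸ I) ≅ (ModuleCat.restrictScalars φ).obj (ModuleCat.of A A) := by
  have hsurj : Function.Surjective (toRes φ) := hφ
  have hker : LinearMap.ker (toRes φ) = I := by
    rw [← hI]
    ext x
    rfl
  exact ((Submodule.quotEquivOfEq _ _ hker).symm.trans
    ((toRes φ).quotKerEquivOfSurjective hsurj)).toModuleIso

/-- the quotient by a Koszul-regular sequence is pseudo-coherent -/
theorem isPC_res_of_koszulRegular (hφ : Function.Surjective φ) (l : List R)
    (hl : LCI.IsKoszulRegularSeq R l) (hI : RingHom.ker φ = Ideal.ofList l) (m : ℤ) :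
    DRing.IsPseudoCoherent R m ((DerivedCategory.singleFunctor (ModuleCat.{u} R) 0).obj
      ((ModuleCat.restrictScalars φ).obj (ModuleCat.of A A))) := by
  obtain ⟨e⟩ := nonempty_iso_koszul R l hl
  exact isPC_of_iso (e ≪≫ (DerivedCategory.singleFunctor (ModuleCat.{u} R) 0).mapIso
    (resQuotIso φ hφ _ hI)) (isPC_koszul R l m)

/-- the quotient by a Koszul-regular sequence has tor amplitude in `[-length, 0]` -/
theorem hasTorAmp_res_of_koszulRegular (hφ : Function.Surjective φ) (l : List R)
    (hl : LCI.IsKoszulRegularSeq R l) (hI : RingHom.ker φ = Ideal.ofList l) :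
    DRing.HasTorAmplitudeIn R (-(l.length : ℤ)) 0
      (Q.obj ((resC φ).obj (sgl (ModuleCat.of A A)))) := by
  obtain ⟨e⟩ := nonempty_iso_koszul R l hl
  refine hasTorAmp_of_iso (e ≪≫ (DerivedCategory.singleFunctor (ModuleCat.{u} R) 0).mapIso
    (resQuotIso φ hφ _ hI) ≪≫ (singleFunctorIsoCompQ (ModuleCat.{u} R) 0).app _ ≪≫
    Q.mapIso ?_) (hasTorAmp_koszul R l)
  exact ((HomologicalComplex.singleMapHomologicalComplex (res φ) (ComplexShape.up ℤ) 0).app
    (ModuleCat.of A A)).symm

end Groth.Agent.Lib.H6xKoszulPC
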