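import Mathlib
import Groth.Agent.Lib.H6xChartU
import Groth.Agent.Lib.H6xChartT
import Groth.Agent.Lib.H6xKoszulPC
import Groth.Agent.Lib.H6xRelTorLocE
import Groth.Agent.Lib.H6xRelTorSmC
import Groth.Agent.Lib.H9RegImmStalk
set_option backward.isDefEq.respectTransparency.types false

/-!
# Koszul-regular immersions have finite perfect dimension (helper6; S6238)
-/

set_option autoImplicit false
set_option linter.style.haveILetI false

universe u

open CategoryTheory CategoryTheory.Limits AlgebraicGeometry HomologicalComplex TopologicalSpace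
  Opposite MonoidalCategory

attribute [local instance] HasDerivedCategory.standard

namespace Groth.Agent.Lib.H6xChart

open Groth.Agent.Lib.H6xClPush Groth.Agent.Lib.H6xPC3 Groth.Agent.Lib.H6xPCoh
  Groth.Agent.Lib.H6xRelTorAmpG Groth.Agent.Lib.H6xFlatAmpStalk Groth.Agent.Lib.Helper1.Tor
  Groth.Agent.Lib.H6xPushStalk Groth.Agent.Lib.H6xRelTorAmp Groth.Agent.Lib.Helper1.KBC
  Groth.Agent.Lib.Helper1.DT

/-- extension of scalars of the ring itself -/
noncomputable def extSelfIso {A A' : Type u} [CommRing A] [CommRing A'] (μ : A →+* A') :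
    (ext μ).obj (ModuleCat.of A A) ≅ ModuleCat.of A' A' :=
  letI := μ.toAlgebra
  Groth.Agent.Lib.Helper1.Extend.extIso (A := A) (B := A') A ≪≫
    (TensorProduct.AlgebraTensorModule.rid A A' A').toModuleIso

variable {X Y : Scheme.{u}}

/-- the complex of stalks of the structure sheaf, as an extension of scalars from an affine open -/
noncomputable def stalkUnitCxExtIso (U : X.Opens) (x : X) (hx : x ∈ U) :
    (stalkC x).obj (DerSch.unitCx X) ≅
      (extC (X.presheaf.germ U x hx).hom).obj (sgl (ModuleCat.of Γ(X, U) Γ(X, U))) :=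
  stalkUnitCxIso x ≪≫
    (HomologicalComplex.single _ (ComplexShape.up ℤ) 0).mapIso
      (extSelfIso (X.presheaf.germ U x hx).hom).symm ≪≫
    ((HomologicalComplex.singleMapHomologicalComplex (ext (X.presheaf.germ U x hx).hom)
      (ComplexShape.up ℤ) 0).app (ModuleCat.of Γ(X, U) Γ(X, U))).symm

/-- affine-local criterion for the relative tor amplitude of the structure sheaf at a point -/
theorem hasTorAmplitudeAt_unitCx_of_ring (f : X ⟶ Y) (W : Y.Opens) (hW : IsAffineOpen W)
    (U : X.Opens) (hU : IsAffineOpen U) (e : U ≤ f ⁻¹ᵁ W) (x : X) (hx : x ∈ U) (a b : ℤ)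
    (h : DRing.HasTorAmplitudeIn Γ(Y, W) a b (DerivedCategory.Q.obj
      ((resC (f.appLE W U e).hom).obj (sgl (ModuleCat.of Γ(X, U) Γ(X, U)))))) :
    DerSch.HasTorAmplitudeAt f a b (DerSch.unitCx X) x := by
  have h1 : Y.presheaf.germ W (f.base x) (e hx) ≫ f.stalkMap x =
      f.appLE W U e ≫ X.presheaf.germ U x hx := by
    rw [Scheme.Hom.germ_stalkMap, Scheme.Hom.appLE, Category.assoc, X.presheaf.germ_res]
  have hsq : (f.stalkMap x).hom.comp (Y.presheaf.germ W (f.base x) (e hx)).hom =
      (X.presheaf.germ U x hx).hom.comp (f.appLE W U e).hom :=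
    congrArg CommRingCat.Hom.hom h1
  have key := hasTorAmp_resC_extC_of_square' (f.appLE W U e).hom
    (Y.presheaf.germ W (f.base x) (e hx)).hom (X.presheaf.germ U x hx).hom (f.stalkMap x).hom
    hsq
    (flat_of_isLocalization _ _ (hW.isLocalization_stalk ⟨f.base x, e hx⟩))
    (flat_of_isLocalization _ _ (hU.isLocalization_stalk ⟨x, hx⟩))
    (hess_of_isLocalization _ _ (hW.isLocalization_stalk ⟨f.base x, e hx⟩))
    (sgl (ModuleCat.of Γ(X, U) Γ(X, U))) a b h
  exact hasTorAmp_of_iso (DerivedCategory.Q.mapIso (stalkCxOverIso f x (DerSch.unitCx X) ≪≫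
    (resC (f.stalkMap x).hom).mapIso (stalkUnitCxExtIso U x hx))).symm key

/-- **S6238** -/
theorem main_S6238 {Z : Scheme.{u}} (i : Z ⟶ X) (d : ℕ)
    (hi : RegImm.IsRegularImmersionOfCodim RegImm.Kind.koszul d i) :
    DerSch.HasPerfDimLE i d := by
  haveI : IsImmersion i := hi.1
  choose U hzU hcl rs hlen hreg hker using hi.2
  have hU' : ∀ z, IsAffineOpen (i ⁻¹ᵁ (U z).1) := fun z => by
    haveI : IsAffine (U z).1.toScheme := (U z).2
    haveI := hcl z
    exact isAffine_of_isAffineHom (i ∣_ (U z).1)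
  have hsurj : ∀ z, Function.Surjective (i.app (U z).1).hom := fun z => by
    haveI : IsAffine (U z).1.toScheme := (U z).2
    haveI := hcl z
    exact Groth.Agent.Lib.H9RegImmStalk.app_surjective_of_restrict i (U z).1
  have happ : ∀ z, i.appLE (U z).1 (i ⁻¹ᵁ (U z).1) le_rfl = i.app (U z).1 := fun z =>
    (Scheme.Hom.app_eq_appLE (f := i) (U := (U z).1)).symm
  refine ⟨fun m => ?_, fun z => ?_⟩
  · rw [rel_iff_of_gen_charts i m (DerSch.unitCx Z) (fun z => ⟨i ⁻¹ᵁ (U z).1, hU' z⟩) U
      (fun z => le_rfl) (fun z => ⟨z, hzU z⟩) (fun z => Γ(X, (U z).1))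
      (fun z => (i.app (U z).1).hom) hsurj (fun z => by
        rw [happ z]
        rfl)]
    intro z
    rw [pcCx_unitCx_iff_ring _ (hU' z)]
    exact Groth.Agent.Lib.H6xKoszulPC.isPC_res_of_koszulRegular _ (hsurj z) (rs z) (hreg z)
      (hker z) m
  · have h0 := Groth.Agent.Lib.H6xKoszulPC.hasTorAmp_res_of_koszulRegular _ (hsurj z) (rs z)
      (hreg z) (hker z)
    rw [hlen z] at h0
    refine hasTorAmplitudeAt_unitCx_of_ring i (U z).1 (U z).2 (i ⁻¹ᵁ (U z).1) (hU' z) le_rfl z
      (hzU z) _ _ ?_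
    rw [happ z]
    exact h0

end Groth.Agent.Lib.H6xChart
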