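import Mathlib
import Groth.Agent.Lib.H6xChartV
import Groth.Agent.Lib.Helper1Extend
set_option backward.isDefEq.respectTransparency.types false

/-!
# Relative pseudo-coherence and composition with a pseudo-coherent morphism
(helper6; S12088, S6228)
-/

set_option autoImplicit false
set_option linter.style.haveILetI false

universe u

open CategoryTheory CategoryTheory.Limits AlgebraicGeometry HomologicalComplex TopologicalSpace
  Opposite MonoidalCategory

attribute [local instance] HasDerivedCategory.standard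

namespace Groth.Agent.Lib.H6xChart

open Groth.Agent.Lib.H6xClPush Groth.Agent.Lib.H6xPC3 Groth.Agent.Lib.H6xPCoh
  Groth.Agent.Lib.Helper1.PC

section ring

attribute [local instance] MvPolynomial.algebraMvPolynomial

/-- polynomial extension preserves pseudo-coherence of an algebra as a module -/
theorem isPC_mvPolynomial_of_isPC {Q B : Type u} [CommRing Q] [CommRing B] [Algebra Q B]
    (ι : Type) (m : ℤ) (h : DRing.IsPseudoCoherent Q m (Dual.inD Q B)) :
    DRing.IsPseudoCoherent (MvPolynomial ι Q) m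
      (Dual.inD (MvPolynomial ι Q) (MvPolynomial ι B)) := by
  have h1 := Groth.Agent.Lib.Helper1.Extend.isPC_extD (A := Q) (B := MvPolynomial ι Q) _ m h
  have hb : IsBaseChange (MvPolynomial ι Q)
      (IsScalarTower.toAlgHom Q B (MvPolynomial ι B)).toLinearMap := Algebra.IsPushout.out
  exact isPC_of_iso (Groth.Agent.Lib.Helper1.Extend.extDInDIso B ≪≫
    (DerivedCategory.singleFunctor _ 0).mapIso hb.equiv.toModuleIso) h1

/-- the same for ring homomorphisms and restriction of scalars -/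
theorem isPC_res_map {Q B : Type u} [CommRing Q] [CommRing B] (ψ : Q →+* B) (ι : Type) (m : ℤ)
    (h : DRing.IsPseudoCoherent Q m ((DerivedCategory.singleFunctor (ModuleCat.{u} Q) 0).obj
      ((ModuleCat.restrictScalars ψ).obj (ModuleCat.of B B)))) :
    DRing.IsPseudoCoherent (MvPolynomial ι Q) m
      ((DerivedCategory.singleFunctor (ModuleCat.{u} (MvPolynomial ι Q)) 0).obj
        ((ModuleCat.restrictScalars (MvPolynomial.map ψ)).obj
          (ModuleCat.of (MvPolynomial ι B) (MvPolynomial ι B)))) := by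
  letI := ψ.toAlgebra
  have h0 : DRing.IsPseudoCoherent Q m (Dual.inD Q B) :=
    isPC_of_iso ((DerivedCategory.singleFunctor (ModuleCat.{u} Q) 0).mapIso
      (Groth.Agent.Lib.Helper1.Extend.e₀ (A := Q) (B := B)).toModuleIso) h
  have h1 := isPC_mvPolynomial_of_isPC ι m h0
  exact isPC_of_iso ((DerivedCategory.singleFunctor (ModuleCat.{u} (MvPolynomial ι Q)) 0).mapIso
    (Groth.Agent.Lib.Helper1.Extend.e₀ (A := MvPolynomial ι Q)
      (B := MvPolynomial ι B)).toModuleIso.symm) h1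

end ring

variable {X Y S : Scheme.{u}}

/-- ring-level form of pseudo-coherence of a morphism on a chart -/
theorem ring_pc_of_isNPseudoCoherent (g : Y ⟶ S) [LocallyOfFiniteType g] (m : ℤ)
    (hg : DerSch.IsNPseudoCoherent g m) (V : Y.affineOpens) (W : S.affineOpens)
    (hVW : (V : Y.Opens) ≤ g ⁻¹ᵁ (W : S.Opens)) {k : ℕ}
    (ψ : MvPolynomial (Fin k) Γ(S, (W : S.Opens)) →+* Γ(Y, (V : Y.Opens)))
    (hψ : DerSch.IsChart g (V : Y.Opens) (W : S.Opens) hVW ψ) :
    DRing.IsPseudoCoherent (MvPolynomial (Fin k) Γ(S, (W : S.Opens))) m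
      ((DerivedCategory.singleFunctor (ModuleCat.{u} (MvPolynomial (Fin k) Γ(S, (W : S.Opens)))) 0).obj
        ((ModuleCat.restrictScalars ψ).obj
          (ModuleCat.of Γ(Y, (V : Y.Opens)) Γ(Y, (V : Y.Opens))))) := by
  obtain ⟨k', ψ', hψ', hpc⟩ := (main_S7208 g m _).1 hg V W hVW
  have h1 := (chartPC_iff_pcCx (V : Y.Opens) V.2 (W : S.Opens) ψ' hψ'.1 (DerSch.unitCx Y) _
    (Iso.refl _) m).1 hpc
  have h2 := (gen_chart_iff g V W hVW ψ hψ.1 hψ.2 (DerSch.unitCx Y) m).1 ⟨k', ψ', hψ', h1⟩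
  exact (pcCx_unitCx_iff_ring (V : Y.Opens) V.2 ψ m).1 h2

/-- the composite chart tests the same thing, when the second chart is pseudo-coherent -/
theorem pcCx_compChart_iff (U : X.Opens) {A Q : Type u} [CommRing A] [CommRing Q] {n : ℕ}
    (φ : MvPolynomial (Fin n) A →+* Γ(X, U)) (ψ : Q →+* A) (hψ : Function.Surjective ψ)
    (hpc : ∀ m : ℤ, DRing.IsPseudoCoherent Q m
      ((DerivedCategory.singleFunctor (ModuleCat.{u} Q) 0).obj
        ((ModuleCat.restrictScalars ψ).obj (ModuleCat.of A A))))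
    (G : CochainComplex X.Modules ℤ) (m : ℤ) :
    PCCx m G U φ ↔ PCCx m G U (φ.comp (MvPolynomial.map ψ)) :=
  pc_chart_comp_iff U φ (MvPolynomial.map ψ) (MvPolynomial.map_surjective ψ hψ)
    (fun m' => isPC_res_map ψ (Fin n) m' (hpc m')) _ m

/-- **S12088**, chain level -/
theorem rel_comp_iff_of_pseudoCoherent (f : X ⟶ Y) (g : Y ⟶ S) [LocallyOfFiniteType f]
    [LocallyOfFiniteType g] (hg : ∀ n : ℤ, DerSch.IsNPseudoCoherent g n) (m : ℤ)
    (G : CochainComplex X.Modules ℤ) :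
    DerSch.IsPseudoCoherentRel f m (DCoh.toD X G) ↔
      DerSch.IsPseudoCoherentRel (f ≫ g) m (DCoh.toD X G) := by
  let I := {t : X.affineOpens × Y.affineOpens × S.affineOpens //
    (t.1 : X.Opens) ≤ f ⁻¹ᵁ (t.2.1 : Y.Opens) ∧ (t.2.1 : Y.Opens) ≤ g ⁻¹ᵁ (t.2.2 : S.Opens)}
  have hcov : ∀ x : X, ∃ t : I, x ∈ (t.1.1 : X.Opens) := by
    intro x
    obtain ⟨W, hW⟩ := exists_affine_nhd (g.base (f.base x))
    obtain ⟨V, hV, hVW⟩ := exists_affine_nhd_le g (f.base x) W hW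
    obtain ⟨U, hU, hUV⟩ := exists_affine_nhd_le f x V hV
    exact ⟨⟨⟨U, V, W⟩, hUV, hVW⟩, hU⟩
  have hUW : ∀ t : I, (t.1.1 : X.Opens) ≤ (f ≫ g) ⁻¹ᵁ (t.1.2.2 : S.Opens) := fun t x hx =>
    t.2.2 (t.2.1 hx)
  have hexφ : ∀ t : I, ∃ (n : ℕ)
      (φ : MvPolynomial (Fin n) Γ(Y, (t.1.2.1 : Y.Opens)) →+* Γ(X, (t.1.1 : X.Opens))),
      Function.Surjective φ ∧ φ.comp MvPolynomial.C = (f.appLE _ _ t.2.1).hom := fun t =>
    exists_chart_of_finiteType _
      (LocallyOfFiniteType.finiteType_appLE f t.1.2.1.2 t.1.1.2 t.2.1)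
  have hexψ : ∀ t : I, ∃ (k : ℕ)
      (ψ : MvPolynomial (Fin k) Γ(S, (t.1.2.2 : S.Opens)) →+* Γ(Y, (t.1.2.1 : Y.Opens))),
      Function.Surjective ψ ∧ ψ.comp MvPolynomial.C = (g.appLE _ _ t.2.2).hom := fun t =>
    exists_chart_of_finiteType _
      (LocallyOfFiniteType.finiteType_appLE g t.1.2.2.2 t.1.2.1.2 t.2.2)
  choose n φ hφs hφC using hexφ
  choose k ψ hψs hψC using hexψ
  have hpc : ∀ (t : I) (m' : ℤ), DRing.IsPseudoCoherent _ m'
      ((DerivedCategory.singleFunctor _ 0).obj ((ModuleCat.restrictScalars (ψ t)).obj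
        (ModuleCat.of Γ(Y, (t.1.2.1 : Y.Opens)) Γ(Y, (t.1.2.1 : Y.Opens))))) := fun t m' =>
    ring_pc_of_isNPseudoCoherent g m' (hg m') t.1.2.1 t.1.2.2 t.2.2 (ψ t) ⟨hψs t, hψC t⟩
  have hC : ∀ t : I, ((φ t).comp (MvPolynomial.map (ψ t))).comp
      (algebraMap Γ(S, (t.1.2.2 : S.Opens))
        (MvPolynomial (Fin (n t)) (MvPolynomial (Fin (k t)) Γ(S, (t.1.2.2 : S.Opens))))) =
      ((f ≫ g).appLE _ _ (hUW t)).hom := by
    intro t
    refine RingHom.ext fun r => ?_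
    change (φ t) (MvPolynomial.map (ψ t) (MvPolynomial.C (MvPolynomial.C r))) = _
    rw [MvPolynomial.map_C]
    have h1 : (ψ t) (MvPolynomial.C r) = (g.appLE _ _ t.2.2).hom r :=
      congrArg (fun χ : _ →+* _ => χ r) (hψC t)
    have h2 : (φ t) (MvPolynomial.C ((g.appLE _ _ t.2.2).hom r)) =
        (f.appLE _ _ t.2.1).hom ((g.appLE _ _ t.2.2).hom r) :=
      congrArg (fun χ : _ →+* _ => χ ((g.appLE _ _ t.2.2).hom r)) (hφC t)
    rw [h1, h2, ← Scheme.Hom.appLE_comp_appLE f g _ _ _ t.2.2 t.2.1]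
    rfl
  rw [rel_iff_of_gen_charts f m G (fun t : I => t.1.1) (fun t => t.1.2.1) (fun t => t.2.1) hcov
      (fun t => MvPolynomial (Fin (n t)) Γ(Y, (t.1.2.1 : Y.Opens))) φ hφs hφC,
    rel_iff_of_gen_charts (f ≫ g) m G (fun t : I => t.1.1) (fun t => t.1.2.2) hUW hcov
      (fun t => MvPolynomial (Fin (n t)) (MvPolynomial (Fin (k t)) Γ(S, (t.1.2.2 : S.Opens))))
      (fun t => (φ t).comp (MvPolynomial.map (ψ t)))
      (fun t => (hφs t).comp (MvPolynomial.map_surjective (ψ t) (hψs t))) hC]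
  exact forall_congr' fun t => pcCx_compChart_iff _ (φ t) (ψ t) (hψs t) (hpc t) G m

section tor

open Groth.Agent.Lib.H6xRelTorAmp Groth.Agent.Lib.H6xRelTorAmpG Groth.Agent.Lib.Helper1.KBC
  Groth.Agent.Lib.Helper1.DT Groth.Agent.Lib.Helper1.Tor Groth.Agent.Lib.Helper1.KF
  Groth.Agent.Lib.H6xFlatAmpStalk

/-- ring level: tor amplitude along a composite -/
theorem hasTorAmp_resC_comp {C B A : Type u} [CommRing C] [CommRing B] [CommRing A]
    (ψ : C →+* B) (φ : B →+* A) (χ : C →+* A) (hχ : χ = φ.comp ψ) (T : Cx A) (a b c d : ℤ)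
    (hB : DRing.HasTorAmplitudeIn C c d (DerivedCategory.Q.obj ((resC ψ).obj (𝟙_ (Cx B)))))
    (hT : DRing.HasTorAmplitudeIn B a b (DerivedCategory.Q.obj ((resC φ).obj T))) :
    DRing.HasTorAmplitudeIn C (a + c) (b + d) (DerivedCategory.Q.obj ((resC χ).obj T)) := by
  obtain ⟨E, hE, hEf, ⟨e⟩⟩ := hT
  have h1 := hasTorAmp_resC_tensor ψ E (𝟙_ (Cx B)) a b c d hE hEf hB
  obtain ⟨e2⟩ := nonempty_Q_resC_iso ψ e
  exact hasTorAmp_of_iso (DerivedCategory.Q.mapIso ((resC ψ).mapIso (ρ_ E)) ≪≫ e2 ≪≫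
    DerivedCategory.Q.mapIso (resCCompIso ψ φ χ hχ T).symm) h1

/-- relative tor amplitude along a composite, pointwise -/
theorem hasTorAmplitudeAt_comp (f : X ⟶ Y) (g : Y ⟶ S) (F : CochainComplex X.Modules ℤ)
    (a b c d : ℤ) (x : X) (hF : DerSch.HasTorAmplitudeAt f a b F x)
    (hg : DerSch.HasTorAmplitudeAt g c d (DerSch.unitCx Y) (f.base x)) :
    DerSch.HasTorAmplitudeAt (f ≫ g) (a + c) (b + d) F x := by
  have h1 := hasTorAmp_of_iso (DerivedCategory.Q.mapIso (stalkCxOverIso f x F)) hF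
  have h2 := hasTorAmp_of_iso (DerivedCategory.Q.mapIso
    (stalkCxOverIso g (f.base x) (DerSch.unitCx Y) ≪≫
      (resC (g.stalkMap (f.base x)).hom).mapIso (stalkUnitCxIso (f.base x)))) hg
  have hχ : ((f ≫ g).stalkMap x).hom = (f.stalkMap x).hom.comp (g.stalkMap (f.base x)).hom := by
    rw [Scheme.Hom.stalkMap_comp]
    rfl
  have key := hasTorAmp_resC_comp (g.stalkMap (f.base x)).hom (f.stalkMap x).hom
    ((f ≫ g).stalkMap x).hom hχ ((stalkC x).obj F) a b c d h2 h1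
  exact hasTorAmp_of_iso (DerivedCategory.Q.mapIso (stalkCxOverIso (f ≫ g) x F)).symm key

end tor

/-- **S6228** -/
theorem main_S6228 (f : X ⟶ Y) (g : Y ⟶ S) [LocallyOfFiniteType f] [LocallyOfFiniteType g]
    (n : ℕ) (hg : DerSch.HasPerfDimLE g n) (a b : ℤ) (F : CochainComplex X.Modules ℤ)
    (hF : DerSch.HasPerfAmplitudeRel f a b F) :
    DerSch.HasPerfAmplitudeRel (f ≫ g) (a - n) b F := by
  refine ⟨fun m => (rel_comp_iff_of_pseudoCoherent f g hg.1 m F).1 (hF.1 m), fun x => ?_⟩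
  have h := hasTorAmplitudeAt_comp f g F a b (-(n : ℤ)) 0 x (hF.2 x) (hg.2 (f.base x))
  have h1 : a + -(n : ℤ) = a - n := by ring
  rw [h1, add_zero] at h
  exact h

/-- **S12088** -/
theorem main_S12088 (f : X ⟶ Y) (g : Y ⟶ S) [LocallyOfFiniteType f] [LocallyOfFiniteType g]
    (hg : ∀ n : ℤ, DerSch.IsNPseudoCoherent g n) (m : ℤ) (E : DCoh.D X) :
    DerSch.IsPseudoCoherentRel f m E ↔ DerSch.IsPseudoCoherentRel (f ≫ g) m E := by
  have e : DCoh.toD X (DerivedCategory.Q.objPreimage E) ≅ E :=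
    DerivedCategory.Q.objObjPreimageIso E
  rw [← rel_iff_of_iso f e m, ← rel_iff_of_iso (f ≫ g) e m]
  exact rel_comp_iff_of_pseudoCoherent f g hg m _

end Groth.Agent.Lib.H6xChart
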