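import Mathlib
import Groth.Agent.Lib.H6xChartW
import Groth.Agent.Lib.H6xRelFlatG
set_option backward.isDefEq.respectTransparency.types false

/-!
# Relative pseudo-coherence in terms of the ring-level notion on affine opens (helper6; S7234)
-/

set_option autoImplicit false
set_option linter.style.haveILetI false

universe u

open CategoryTheory CategoryTheory.Limits AlgebraicGeometry HomologicalComplex TopologicalSpace
  Opposite MonoidalCategory

attribute [local instance] HasDerivedCategory.standard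

namespace Groth.Agent.Lib.H6xChart

open Groth.Agent.Lib.H6xClPush Groth.Agent.Lib.H6xPC3 Groth.Agent.Lib.H6xPCoh
  Groth.Agent.Lib.Helper1.PC

section tildePush

variable {P A : Type u} [CommRing P] [CommRing A] (φ : P →+* A)
  [PreservesFiniteLimits (tilde.functor (CommRingCat.of A))]

/-- the direct image of `M~` along `Spec A → Spec P`, on derived categories -/
theorem nonempty_pushD_tildeD_iso (hφ : Function.Surjective φ)
    [PreservesFiniteLimits (tilde.functor (CommRingCat.of P))]
    (M : Dual.D A) :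
    haveI := isClosedImmersion_Spec φ hφ
    Nonempty ((Scheme.Modules.pushforward (Spec.map (CommRingCat.ofHom φ))).mapDerivedCategory.obj
        ((DCoh.tildeD (CommRingCat.of A)).obj M) ≅
      (DCoh.tildeD (CommRingCat.of P)).obj ((DRing.restrictD φ).obj M)) := by
  haveI := isClosedImmersion_Spec φ hφ
  let M₀ := (DerivedCategory.Q : _ ⥤ Dual.D A).objPreimage M
  let eM : DerivedCategory.Q.obj M₀ ≅ M := DerivedCategory.Q.objObjPreimageIso M
  let s := Spec.map (CommRingCat.ofHom φ)
  let e1 : (DCoh.tildeD (CommRingCat.of A)).obj M ≅ DerivedCategory.Q.obj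
      (((tilde.functor (CommRingCat.of A)).mapHomologicalComplex (ComplexShape.up ℤ)).obj M₀) :=
    (DCoh.tildeD (CommRingCat.of A)).mapIso eM.symm ≪≫
      (tilde.functor (CommRingCat.of A)).mapDerivedCategoryFactors.app M₀
  let e2 : (Scheme.Modules.pushforward s).mapDerivedCategory.obj (DerivedCategory.Q.obj
      (((tilde.functor (CommRingCat.of A)).mapHomologicalComplex (ComplexShape.up ℤ)).obj M₀)) ≅
      DerivedCategory.Q.obj ((DerSch.pushCx s).obj
        (((tilde.functor (CommRingCat.of A)).mapHomologicalComplex (ComplexShape.up ℤ)).obj M₀)) :=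
    (Scheme.Modules.pushforward s).mapDerivedCategoryFactors.app _
  let e3 : (DerSch.pushCx s).obj
      (((tilde.functor (CommRingCat.of A)).mapHomologicalComplex (ComplexShape.up ℤ)).obj M₀) ≅
      ((tilde.functor (CommRingCat.of P)).mapHomologicalComplex (ComplexShape.up ℤ)).obj
        (((ModuleCat.restrictScalars φ).mapHomologicalComplex (ComplexShape.up ℤ)).obj M₀) :=
    (Functor.mapHomologicalComplexCompIso (Iso.refl _) (ComplexShape.up ℤ)).app M₀ ≪≫
      (NatIso.mapHomologicalComplex
        (Groth.Agent.Lib.H6xAffTilde.tildePushIso (CommRingCat.ofHom φ))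
        (ComplexShape.up ℤ)).app M₀ ≪≫
      ((Functor.mapHomologicalComplexCompIso (Iso.refl _) (ComplexShape.up ℤ)).app M₀).symm
  let e4 : DerivedCategory.Q.obj
      (((tilde.functor (CommRingCat.of P)).mapHomologicalComplex (ComplexShape.up ℤ)).obj
        (((ModuleCat.restrictScalars φ).mapHomologicalComplex (ComplexShape.up ℤ)).obj M₀)) ≅
      (DCoh.tildeD (CommRingCat.of P)).obj ((DRing.restrictD φ).obj M) :=
    ((tilde.functor (CommRingCat.of P)).mapDerivedCategoryFactors.app _).symm ≪≫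
      (DCoh.tildeD (CommRingCat.of P)).mapIso
        (((ModuleCat.restrictScalars φ).mapDerivedCategoryFactors.app M₀).symm ≪≫
          (DRing.restrictD φ).mapIso eM)
  exact ⟨(Scheme.Modules.pushforward s).mapDerivedCategory.mapIso e1 ≪≫ e2 ≪≫
    DerivedCategory.Q.mapIso e3 ≪≫ e4⟩

end tildePush

variable {X S : Scheme.{u}}

/-- **the bridge**: the chart test on an affine open in terms of the module-level representative -/
theorem pcCx_iff_ring_of_tildeD (U : X.Opens) (hU : IsAffineOpen U) {P : Type u} [CommRing P]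
    (φ : P →+* Γ(X, U)) (hφ : Function.Surjective φ) (G : CochainComplex X.Modules ℤ)
    [PreservesFiniteLimits (tilde.functor (X.presheaf.obj (op U)))]
    (M : Dual.D Γ(X, U))
    (e : (DCoh.tildeD (X.presheaf.obj (op U))).obj M ≅
      DCoh.toD _ ((DerSch.pushCx hU.isoSpec.hom).obj ((DCoh.restrictCx U).obj G))) (m : ℤ) :
    PCCx m G U φ ↔ DRing.IsPseudoCoherent P m ((DRing.restrictD φ).obj M) := by
  haveI := (Groth.Agent.S9498.aux (CommRingCat.of P)).1
  haveI : PreservesFiniteColimits (tilde.functor (CommRingCat.of P)) := by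
    haveI : PreservesColimitsOfSize.{0, 0} (tilde.functor (CommRingCat.of P)) :=
      (tilde.adjunction (R := (CommRingCat.of P))).leftAdjoint_preservesColimits
    exact PreservesColimitsOfSize.preservesFiniteColimits _
  haveI := isClosedImmersion_Spec φ hφ
  rw [← Groth.Agent.Lib.H6xTildePC.pc_tildeD_iff (CommRingCat.of P) _ m]
  obtain ⟨e1⟩ := nonempty_pushD_tildeD_iso φ hφ M
  have e0 : (Scheme.Modules.pushforward (Spec.map (CommRingCat.ofHom φ))).mapDerivedCategory.obj
      (DCoh.toD _ ((DerSch.pushCx U.toSpecΓ).obj ((DCoh.restrictCx U).obj G))) ≅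
      DCoh.toD _ ((DerSch.pushCx (chartImm' U φ)).obj ((DCoh.restrictCx U).obj G)) :=
    (Scheme.Modules.pushforward (Spec.map (CommRingCat.ofHom φ))).mapDerivedCategoryFactors.app _ ≪≫
      DerivedCategory.Q.mapIso ((Functor.mapHomologicalComplexCompIso
        (Scheme.Modules.pushforwardComp U.toSpecΓ (Spec.map (CommRingCat.ofHom φ))) _).app _)
  have e2 := (Scheme.Modules.pushforward
    (Spec.map (CommRingCat.ofHom φ))).mapDerivedCategory.mapIso e ≪≫ e0
  exact ⟨isPseudoCoherentD_of_iso (e2.symm ≪≫ e1), isPseudoCoherentD_of_iso (e1.symm ≪≫ e2)⟩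

/-- direct image along an isomorphism is restriction along the inverse -/
noncomputable def pushIsoRestrictInv {Z W : Scheme.{u}} (e : Z ≅ W) :
    Scheme.Modules.pushforward e.hom ≅ Scheme.Modules.restrictFunctor e.inv :=
  (Functor.rightUnitor _).symm ≪≫
    Functor.isoWhiskerLeft _ (Scheme.Modules.restrictFunctorAdjCounitIso e.inv).symm ≪≫
    (Functor.associator _ _ _).symm ≪≫
    Functor.isoWhiskerRight (Scheme.Modules.pushforwardComp e.hom e.inv ≪≫
      Scheme.Modules.pushforwardCongr e.hom_inv_id ≪≫ Scheme.Modules.pushforwardId Z) _ ≪≫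
    Functor.leftUnitor _

/-- the class of the direct image of `G|_U` along `U ≅ Spec Γ(X, U)` -/
noncomputable def toDPushIsoSpecIso (U : X.Opens) (hU : IsAffineOpen U)
    (G : CochainComplex X.Modules ℤ) :
    DCoh.toD _ ((DerSch.pushCx hU.isoSpec.hom).obj ((DCoh.restrictCx U).obj G)) ≅
      (DCoh.restrictD hU.isoSpec.inv).obj ((DCoh.restrictD U.ι).obj (DCoh.toD X G)) :=
  DerivedCategory.Q.mapIso ((NatIso.mapHomologicalComplex (pushIsoRestrictInv hU.isoSpec)
      (ComplexShape.up ℤ)).app _) ≪≫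
    ((Scheme.Modules.restrictFunctor hU.isoSpec.inv).mapDerivedCategoryFactors.app _).symm ≪≫
    (DCoh.restrictD hU.isoSpec.inv).mapIso
      ((Scheme.Modules.restrictFunctor U.ι).mapDerivedCategoryFactors.app G).symm

/-- **S7234** -/
theorem main_S7234 (f : X ⟶ S) [LocallyOfFiniteType f]
    [∀ U : X.affineOpens, PreservesFiniteLimits
      (tilde.functor (X.presheaf.obj (op (U : X.Opens))))]
    (E : DCoh.D X) (hE : DCoh.IsQCohD E) (m : ℤ) :
    DerSch.IsPseudoCoherentRel f m E ↔
      ∀ (U : X.affineOpens) (V : S.affineOpens) (h : (U : X.Opens) ≤ f ⁻¹ᵁ (V : S.Opens))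
        (G : CochainComplex X.Modules ℤ), Nonempty (DCoh.toD X G ≅ E) →
        ∀ M : Dual.D Γ(X, (U : X.Opens)),
          Nonempty ((DCoh.tildeD (X.presheaf.obj (op (U : X.Opens)))).obj M ≅
            DCoh.toD _ ((DerSch.pushCx U.2.isoSpec.hom).obj
              ((DCoh.restrictCx (U : X.Opens)).obj G))) →
          letI := (f.appLE (V : S.Opens) (U : X.Opens) h).hom.toAlgebra
          DerCA.IsRelPseudoCoherent Γ(S, (V : S.Opens)) Γ(X, (U : X.Opens)) m M := by
  constructor
  · intro hrel U V h G ⟨eG⟩ M ⟨eM⟩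
    obtain ⟨n, φ, hφ, hpc⟩ := (main_S7208 f m E).1 hrel U V h
    have h1 := (chartPC_iff_pcCx (U : X.Opens) U.2 (V : S.Opens) φ hφ.1 G E eG m).1 hpc
    have h2 := (pcCx_iff_ring_of_tildeD (U : X.Opens) U.2 φ hφ.1 G M eM m).1 h1
    letI := (f.appLE (V : S.Opens) (U : X.Opens) h).hom.toAlgebra
    refine ⟨n, { toRingHom := φ, commutes' := fun r => ?_ }, hφ.1, h2⟩
    exact congrArg (fun χ : _ →+* _ => χ r) hφ.2
  · intro hall
    rw [main_S7208 f m E]
    intro U V h
    let G := (DerivedCategory.Q : _ ⥤ DCoh.D X).objPreimage E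
    let eG : DCoh.toD X G ≅ E := DerivedCategory.Q.objObjPreimageIso E
    haveI : ∀ R : CommRingCat.{u}, PreservesFiniteLimits (tilde.functor R) := fun R =>
      (Groth.Agent.S9498.aux R).1
    obtain ⟨M, ⟨eM⟩⟩ := Groth.Agent.Lib.H6xRelFlat.exists_tildeD_iso E hE (U : X.Opens) U.2
    have eM' : (DCoh.tildeD (X.presheaf.obj (op (U : X.Opens)))).obj M ≅
        DCoh.toD _ ((DerSch.pushCx U.2.isoSpec.hom).obj
          ((DCoh.restrictCx (U : X.Opens)).obj G)) :=
      eM.symm ≪≫ (DCoh.restrictD U.2.isoSpec.inv).mapIso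
        ((DCoh.restrictD (U : X.Opens).ι).mapIso eG.symm) ≪≫
        (toDPushIsoSpecIso (U : X.Opens) U.2 G).symm
    obtain ⟨n, α, hα, hvia⟩ := hall U V h G ⟨eG⟩ M ⟨eM'⟩
    letI := (f.appLE (V : S.Opens) (U : X.Opens) h).hom.toAlgebra
    let φ : MvPolynomial (Fin n) Γ(S, (V : S.Opens)) →+* Γ(X, (U : X.Opens)) := α
    have hchart : DerSch.IsChart f (U : X.Opens) (V : S.Opens) h φ := by
      refine ⟨hα, RingHom.ext fun r => ?_⟩
      exact α.commutes r
    refine ⟨n, φ, hchart, ?_⟩
    rw [chartPC_iff_pcCx (U : X.Opens) U.2 (V : S.Opens) φ hα G E eG m]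
    exact (pcCx_iff_ring_of_tildeD (U : X.Opens) U.2 φ hα G M eM' m).2 hvia

end Groth.Agent.Lib.H6xChart
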