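import Mathlib
import Groth.Prelude.Def_DCoh3
import Groth.Agent.Lib.H6xClPushF
set_option backward.isDefEq.respectTransparency.types false

/-!
# Direct image along a closed immersion whose structure sheaf is only `s`-pseudo-coherent
(helper6; towards S6205, S6209)
-/

set_option autoImplicit false
set_option linter.style.haveILetI false
universe u
open CategoryTheory CategoryTheory.Limits AlgebraicGeometry TopologicalSpace Opposite
  CategoryTheory.Pretriangulated

attribute [local instance] HasDerivedCategory.standard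

namespace Groth.Agent.Lib.H6xClPush

open Groth.Agent.Lib.H6xPCoh Groth.Agent.Lib.H6xPC3 Groth.Agent.Lib.H6xPCTerm
  Groth.Agent.Lib.H6xLocLift DerivedCategory

section localCone

variable {Z : Scheme.{u}}

/-- killing the top cohomology locally: the local cone construction -/
theorem exists_local_cone (b : ℤ) (E : DCoh.D Z) [E.IsLE b]
    (P : Z.Modules) (hP : FlatMod.IsFinLocFree P) (σ : P ⟶ DCoh.HD E b) (hσ : Epi σ) (z : Z) :
    ∃ (W : Z.Opens) (_ : z ∈ W) (K : CochainComplex Z.Modules ℤ)
      (_ : DerivedCategory.Q.obj K ≅ E)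
      (β : (DCoh.restrictCx W).obj
          ((HomologicalComplex.single Z.Modules (ComplexShape.up ℤ) b).obj P) ⟶
        (DCoh.restrictCx W).obj K),
      (DerivedCategory.Q.obj (CochainComplex.mappingCone β)).IsLE (b - 1) := by
  -- truncation
  obtain ⟨X₁, X₂, hX₁, hX₂, u', v, w, hT⟩ := TStructure.t.exists_triangle E (b - 1) b (by omega)
  haveI : X₁.IsLE (b - 1) := ⟨hX₁⟩
  haveI : X₂.IsGE b := ⟨hX₂⟩
  let T := Triangle.mk u' v w
  have hX₁z : ∀ j : ℤ, b - 1 < j → IsZero ((homologyFunctor _ j).obj X₁) := fun j hj =>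
    isZero_of_isLE X₁ (b - 1) j hj
  have hEz : ∀ j : ℤ, b < j → IsZero ((homologyFunctor _ j).obj E) := fun j hj =>
    isZero_of_isLE E b j hj
  haveI : X₂.IsLE b := by
    rw [isLE_iff]
    intro j hj
    exact (HomologySequence.exact₃ T hT j (j + 1) rfl).isZero_of_both_zeros
      ((hEz j hj).eq_of_src _ _) ((hX₁z (j + 1) (by omega)).eq_of_tgt _ _)
  obtain ⟨A, ⟨eA⟩⟩ := exists_iso_singleFunctor_obj_of_isGE_of_isLE X₂ b
  haveI hvb : IsIso ((homologyFunctor _ b).map v) := by
    haveI : Mono ((homologyFunctor _ b).map T.mor₂) :=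
      (HomologySequence.mono_homologyMap_mor₂_iff T hT b).2
        ((hX₁z b (by omega)).eq_of_src _ _)
    haveI : Epi ((homologyFunctor _ b).map T.mor₂) :=
      (HomologySequence.epi_homologyMap_mor₂_iff T hT b (b + 1) rfl).2
        ((hX₁z (b + 1) (by omega)).eq_of_tgt _ _)
    exact isIso_of_mono_of_epi ((homologyFunctor _ b).map T.mor₂)
  let eHA : DCoh.HD E b ≅ A :=
    asIso ((homologyFunctor _ b).map v) ≪≫ (homologyFunctor _ b).mapIso eA ≪≫
      (singleFunctorCompHomologyFunctorIso Z.Modules b).app A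
  let σ' : P ⟶ A := σ ≫ eHA.hom
  haveI hσ' : Epi σ' := epi_comp' hσ inferInstance
  -- representing complexes
  let K := (DerivedCategory.Q : _ ⥤ DCoh.D Z).objPreimage E
  let eK : DerivedCategory.Q.obj K ≅ E := DerivedCategory.Q.objObjPreimageIso E
  let SA := (HomologicalComplex.single Z.Modules (ComplexShape.up ℤ) b).obj A
  let g' : DerivedCategory.Q.obj K ⟶ DerivedCategory.Q.obj SA := eK.hom ≫ v ≫ eA.hom
  obtain ⟨F', f', s, hs, hfac⟩ := DerivedCategory.left_fac g'
  have hQf' : DerivedCategory.Q.map f' = g' ≫ DerivedCategory.Q.map s := by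
    rw [hfac, Category.assoc, IsIso.inv_hom_id, Category.comp_id]
  have hg'iso : ∀ j : ℤ, b ≤ j → IsIso ((homologyFunctor _ j).map g') := by
    intro j hj
    rcases hj.eq_or_lt with rfl | h
    · dsimp only [g']
      rw [Functor.map_comp, Functor.map_comp]
      infer_instance
    · refine IsZero.isIso ?_ ?_ _
      · exact IsZero.of_iso (hEz j h) ((homologyFunctor _ j).mapIso eK)
      · exact IsZero.of_iso (isZero_of_isLE X₂ b j h) ((homologyFunctor _ j).mapIso eA.symm)
  have hf'iso : ∀ j : ℤ, b ≤ j → IsIso (HomologicalComplex.homologyMap f' j) := by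
    intro j hj
    rw [← isIso_homologyFunctor_Q_map_iff', hQf', Functor.map_comp]
    haveI := hg'iso j hj
    infer_instance
  -- the map from the free module
  let E₀ := (HomologicalComplex.single Z.Modules (ComplexShape.up ℤ) b).obj P
  have hE₀ : DCoh.IsStrictlyPerfect E₀ := isStrictlyPerfect_single' b _ hP
  let α : E₀ ⟶ F' := (HomologicalComplex.single Z.Modules (ComplexShape.up ℤ) b).map σ' ≫ s
  have hαepi : Epi (HomologicalComplex.homologyMap α b) := by
    haveI : Epi ((homologyFunctor _ b).map (DerivedCategory.Q.map α)) := by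
      have e : DerivedCategory.Q.map α =
          (DerivedCategory.singleFunctor Z.Modules b).map σ' ≫ DerivedCategory.Q.map s :=
        Functor.map_comp _ _ _
      have e2 : (homologyFunctor _ b).map (DerivedCategory.Q.map α) =
          (homologyFunctor _ b).map ((DerivedCategory.singleFunctor Z.Modules b).map σ') ≫
            (homologyFunctor _ b).map (DerivedCategory.Q.map s) := by
        rw [e]
        exact Functor.map_comp _ _ _
      rw [e2]
      haveI h1 : Epi ((DerivedCategory.singleFunctor Z.Modules b ⋙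
          homologyFunctor Z.Modules b).map σ') := by
        haveI : Epi ((𝟭 Z.Modules).map σ') := hσ'
        exact epi_map_of_natIso' (singleFunctorCompHomologyFunctorIso Z.Modules b) σ'
      have h2 : Epi ((homologyFunctor _ b).map
          ((DerivedCategory.singleFunctor Z.Modules b).map σ')) := h1
      have h3 : Epi ((homologyFunctor Z.Modules b).map (DerivedCategory.Q.map s)) :=
        inferInstance
      exact epi_comp' h2 h3
    exact epi_homologyMap_of_epi_homologyFunctor_Q_map α b
  obtain ⟨W', β, hzW', ⟨H⟩⟩ := locLift α f' hE₀ b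
    (fun j hj => HomologicalComplex.isZero_single_obj_X (ComplexShape.up ℤ) b _ j (by omega))
    (fun j hj => hf'iso j hj.le) (by haveI := hf'iso b le_rfl; infer_instance) z
  let Rf := Scheme.Modules.restrictFunctor W'.ι
  let R := DCoh.restrictCx W'
  -- `H^b(β)` is an epimorphism
  have hβepi : Epi (HomologicalComplex.homologyMap β b) := by
    have h1 : HomologicalComplex.homologyMap β b ≫ HomologicalComplex.homologyMap (R.map f') b =
        HomologicalComplex.homologyMap (R.map α) b := by
      rw [← HomologicalComplex.homologyMap_comp]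
      exact H.homologyMap_eq b
    haveI : IsIso (HomologicalComplex.homologyMap (R.map f') b) := by
      haveI := hf'iso b le_rfl
      exact isIso_homologyMap_mapHomologicalComplex Rf f' b
    haveI : Epi (HomologicalComplex.homologyMap (R.map α) b) :=
      epi_homologyMap_mapHomologicalComplex Rf α b
    have h2 : HomologicalComplex.homologyMap β b =
        HomologicalComplex.homologyMap (R.map α) b ≫
          inv (HomologicalComplex.homologyMap (R.map f') b) := by
      rw [← h1, Category.assoc, IsIso.hom_inv_id, Category.comp_id]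
    rw [h2]
    exact epi_comp _ _
  have hKz : ∀ j : ℤ, b < j → IsZero ((R.obj K).homology j) := by
    intro j hj
    have h0 : IsZero (K.homology j) :=
      IsZero.of_iso (hEz j hj) (((homologyFunctorFactors Z.Modules j).app K).symm ≪≫
        (homologyFunctor _ j).mapIso eK)
    rw [← HomologicalComplex.exactAt_iff_isZero_homology] at h0 ⊢
    exact ShortComplex.Exact.map h0 Rf
  have hE₀z : ∀ j : ℤ, b < j → IsZero ((R.obj E₀).homology j) := by
    intro j hj
    exact ShortComplex.isZero_homology_of_isZero_X₂ _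
      (Rf.map_isZero (HomologicalComplex.isZero_single_obj_X (ComplexShape.up ℤ) b _ j
        (by omega)))
  have hcone : ∀ j : ℤ, b ≤ j → IsZero ((CochainComplex.mappingCone β).homology j) := by
    intro j hj
    haveI : Epi (HomologicalComplex.homologyMap β j) := by
      rcases hj.eq_or_lt with rfl | h
      · exact hβepi
      · exact IsZero.epi (hKz j h) _
    haveI : Mono (HomologicalComplex.homologyMap β (j + 1)) :=
      IsZero.mono (hE₀z (j + 1) (by omega)) _
    exact isZero_homology_mappingCone β j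
  refine ⟨W', hzW', K, eK, β, ?_⟩
  rw [isLE_iff]
  intro j hj
  exact IsZero.of_iso (hcone j (by omega)) ((homologyFunctorFactors _ j).app _)

end localCone

variable {Z X : Scheme.{u}} (i : Z ⟶ X) [IsClosedImmersion i]

/-- the hypothesis that `i_* O_Z` is `s`-pseudo-coherent -/
def PushOPCn (s : ℤ) : Prop :=
  DCoh.IsPseudoCoherentD s
    (DCoh.inD X ((Scheme.Modules.pushforward i).obj (Coh.structureModule Z)))

variable {i}

lemma PushOPC.toN (hO : PushOPC i) (s : ℤ) : PushOPCn i s := hO s

lemma PushOPCn.mono {s s' : ℤ} (hO : PushOPCn i s) (h : s ≤ s') : PushOPCn i s' :=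
  isPseudoCoherentD_mono h hO

lemma PushOPCn.restrict {s : ℤ} (hO : PushOPCn i s) (V : X.Opens) : PushOPCn (i ∣_ V) s := by
  have h := isPseudoCoherentD_restrictD hO V.ι
  let e1 := restrictDInD ((Scheme.Modules.pushforward i).obj (Coh.structureModule Z)) V
  let e2 : ((Scheme.Modules.pushforward i).obj (Coh.structureModule Z)).restrict V.ι ≅
      (Scheme.Modules.pushforward (i ∣_ V)).obj
        ((Coh.structureModule Z).restrict (i ⁻¹ᵁ V).ι) :=
    (Groth.Agent.Lib.R2H3.RpushRestrict.restrictPushIso i V).app (Coh.structureModule Z)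
  let e3 : (Scheme.Modules.pushforward (i ∣_ V)).obj
        ((Coh.structureModule Z).restrict (i ⁻¹ᵁ V).ι) ≅
      (Scheme.Modules.pushforward (i ∣_ V)).obj (Coh.structureModule (i ⁻¹ᵁ V : Scheme.{u})) :=
    (Scheme.Modules.pushforward (i ∣_ V)).mapIso (Scheme.Modules.restrictUnitIso (i ⁻¹ᵁ V).ι)
  exact isPseudoCoherentD_of_iso'
    (e1 ≪≫ (DerivedCategory.singleFunctor _ 0).mapIso (e2 ≪≫ e3)) h

/-- `i_*` of a free module of finite rank -/
lemma pc_push_free_n {s : ℤ} (hO : PushOPCn i s) (n : ℕ) (P : Z.Modules)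
    (e : P ≅ FlatMod.freeMod Z n) :
    DCoh.IsPseudoCoherentD s (DCoh.inD X ((Scheme.Modules.pushforward i).obj P)) := by
  haveI := Groth.Agent.Lib.H6xClImmAdj.pushforward_preservesColimits_of_isClosedEmbedding i
    i.isClosedEmbedding
  let e2 : (Scheme.Modules.pushforward i).obj (FlatMod.freeMod Z n) ≅
      ∐ fun _ : Fin n => (Scheme.Modules.pushforward i).obj (Coh.structureModule Z) :=
    PreservesCoproduct.iso (Scheme.Modules.pushforward i) _
  have h := pc_inD_sigma_fin s n
    (fun _ : Fin n => (Scheme.Modules.pushforward i).obj (Coh.structureModule Z))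
    (fun _ => hO)
  exact isPseudoCoherentD_of_iso' ((DerivedCategory.singleFunctor X.Modules 0).mapIso
    ((Scheme.Modules.pushforward i).mapIso e ≪≫ e2).symm) h

/-- `i_*` of a finite locally free module -/
lemma pc_push_finLocFree_n {s : ℤ} (hO : PushOPCn i s) (P : Z.Modules)
    (hP : FlatMod.IsFinLocFree P) :
    DCoh.IsPseudoCoherentD s (DCoh.inD X ((Scheme.Modules.pushforward i).obj P)) := by
  rw [isPseudoCoherentD_iff_pcAt]
  intro x
  obtain ⟨V, hxV, n, ⟨e⟩⟩ : ∃ V : X.Opens, x ∈ V ∧ ∃ n : ℕ,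
      Nonempty (P.restrict (i ⁻¹ᵁ V).ι ≅ FlatMod.freeMod (i ⁻¹ᵁ V : Scheme.{u}) n) := by
    by_cases hx : x ∈ Set.range i
    · obtain ⟨z, rfl⟩ := hx
      obtain ⟨W, n, hzW, ⟨e⟩⟩ := hP z
      obtain ⟨V, rfl⟩ := exists_preimage_eq i W
      exact ⟨V, hzW, n, ⟨e⟩⟩
    · refine ⟨complRange i, hx, 0, ⟨?_⟩⟩
      exact (Groth.Agent.Lib.R2H2.PushCoh.isZero_of_isEmpty _).iso
        (Groth.Agent.Lib.R2H2.PushCoh.isZero_of_isEmpty _)
  refine pcAt_of_isPseudoCoherentD_restrictD V x hxV ?_
  have h := pc_push_free_n (hO.restrict V) n (P.restrict (i ⁻¹ᵁ V).ι) e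
  exact isPseudoCoherentD_of_iso'
    ((DerivedCategory.singleFunctor _ 0).mapIso
      ((Groth.Agent.Lib.R2H3.RpushRestrict.restrictPushIso i V).app P).symm ≪≫
      (restrictDInD ((Scheme.Modules.pushforward i).obj P) V).symm) h

/-- `i_*` of a finite locally free module placed in degree `b` -/
lemma pc_push_single_n {s : ℤ} (hO : PushOPCn i s) (b : ℤ) (P : Z.Modules)
    (hP : FlatMod.IsFinLocFree P) (m : ℤ) (hs : s + b ≤ m) :
    DCoh.IsPseudoCoherentD m (DCoh.toD X
      (((Scheme.Modules.pushforward i).mapHomologicalComplex (ComplexShape.up ℤ)).obj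
        ((HomologicalComplex.single Z.Modules (ComplexShape.up ℤ) b).obj P))) := by
  refine isPseudoCoherentD_of_termwise m b _ (fun j hj => ?_) (fun j => ?_)
  · exact (Scheme.Modules.pushforward i).map_isZero
      (HomologicalComplex.isZero_single_obj_X (ComplexShape.up ℤ) b P j (by omega))
  · by_cases hj : j = b
    · subst hj
      have h := pc_push_finLocFree_n hO P hP
      exact isPseudoCoherentD_mono (by omega) (isPseudoCoherentD_of_iso'
        ((DerivedCategory.singleFunctor X.Modules 0).mapIso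
          ((Scheme.Modules.pushforward i).mapIso
            (HomologicalComplex.singleObjXSelf (ComplexShape.up ℤ) j P).symm)) h)
    · exact isPseudoCoherentD_of_isZero _
        ((DerivedCategory.singleFunctor X.Modules 0).map_isZero
          ((Scheme.Modules.pushforward i).map_isZero
            (HomologicalComplex.isZero_single_obj_X (ComplexShape.up ℤ) b P j hj))) _

/-- `i_*` of a strictly perfect complex vanishing above degree `b` -/
lemma pc_push_strictlyPerfect_n {s : ℤ} (hO : PushOPCn i s) (P : CochainComplex Z.Modules ℤ)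
    (hP : DCoh.IsStrictlyPerfect P) (b : ℤ) (hb : ∀ j : ℤ, b < j → IsZero (P.X j)) (m : ℤ)
    (hs : s + b ≤ m) :
    DCoh.IsPseudoCoherentD m (DCoh.toD X
      (((Scheme.Modules.pushforward i).mapHomologicalComplex (ComplexShape.up ℤ)).obj P)) := by
  refine isPseudoCoherentD_of_termwise m b _ (fun j hj => ?_) (fun j => ?_)
  · exact (Scheme.Modules.pushforward i).map_isZero (hb j hj)
  · by_cases hj : j ≤ b
    · exact isPseudoCoherentD_mono (by omega) (pc_push_finLocFree_n hO (P.X j) (hP.2 j))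
    · exact isPseudoCoherentD_of_isZero _
        ((DerivedCategory.singleFunctor X.Modules 0).map_isZero
          ((Scheme.Modules.pushforward i).map_isZero (hb j (by omega)))) _

/-- the inductive step, reflecting pseudo-coherence -/
theorem step_n {s : ℤ} (hO : PushOPCn i s) (m b : ℤ) (hs : s + b ≤ m + 1) (E : DCoh.D Z)
    [E.IsLE b]
    (hpush : DCoh.IsPseudoCoherentD m
      ((Scheme.Modules.pushforward i).mapDerivedCategory.obj E))
    (P : Z.Modules) (hP : FlatMod.IsFinLocFree P) (σ : P ⟶ DCoh.HD E b) (hσ : Epi σ)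
    (IH : ∀ (V : X.Opens) (C : DCoh.D (i ⁻¹ᵁ V : Scheme.{u})), C.IsLE (b - 1) →
      DCoh.IsPseudoCoherentD m
        ((Scheme.Modules.pushforward (i ∣_ V)).mapDerivedCategory.obj C) →
      DCoh.IsPseudoCoherentD m C)
    (z : Z) : PCAt m E z := by
  obtain ⟨W, hzW', K, eK, β, hC⟩ := exists_local_cone b E P hP σ hσ z
  obtain ⟨V', rfl⟩ := exists_preimage_eq i W
  let E₀ := (HomologicalComplex.single Z.Modules (ComplexShape.up ℤ) b).obj P
  have hE₀ : DCoh.IsStrictlyPerfect E₀ := isStrictlyPerfect_single' b _ hP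
  let Rf := Scheme.Modules.restrictFunctor (i ⁻¹ᵁ V').ι
  let R := DCoh.restrictCx (i ⁻¹ᵁ V')
  let C : DCoh.D (i ⁻¹ᵁ V' : Scheme.{u}) := DerivedCategory.Q.obj (CochainComplex.mappingCone β)
  haveI hCLE : C.IsLE (b - 1) := hC
  have hTβ := DerivedCategory.mappingCone_triangle_distinguished β
  let G' := Scheme.Modules.pushforward (i ∣_ V')
  let Gc := G'.mapHomologicalComplex (ComplexShape.up ℤ)
  have hTβ' := DerivedCategory.mappingCone_triangle_distinguished (Gc.map β)
  have hE₀' : DCoh.IsStrictlyPerfect (R.obj E₀) :=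
    Groth.Agent.Lib.H6xPerfLoc.isStrictlyPerfect_restrict (i ⁻¹ᵁ V').ι E₀ hE₀
  have hE₀z : ∀ j : ℤ, b < j → IsZero ((R.obj E₀).X j) := fun j hj =>
    Rf.map_isZero (HomologicalComplex.isZero_single_obj_X (ComplexShape.up ℤ) b _ j (by omega))
  have h₁' : DCoh.IsPseudoCoherentD (m + 1) (DerivedCategory.Q.obj (Gc.obj (R.obj E₀))) :=
    pc_push_strictlyPerfect_n (hO.restrict V') _ hE₀' b hE₀z (m + 1) hs
  have h₂' : DCoh.IsPseudoCoherentD m (DerivedCategory.Q.obj (Gc.obj (R.obj K))) := by
    obtain ⟨e⟩ := nonempty_restrictD_push_iso i V' E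
    have h := isPseudoCoherentD_restrictD hpush V'.ι
    exact isPseudoCoherentD_of_iso' (e ≪≫ G'.mapDerivedCategory.mapIso
      ((DCoh.restrictD (i ⁻¹ᵁ V').ι).mapIso eK.symm ≪≫ Rf.mapDerivedCategoryFactors.app K) ≪≫
      G'.mapDerivedCategoryFactors.app _) h
  have h₃' : DCoh.IsPseudoCoherentD m
      (DerivedCategory.Q.obj (CochainComplex.mappingCone (Gc.map β))) :=
    (triangle m _ hTβ').1 h₁' h₂'
  have hCpc : DCoh.IsPseudoCoherentD m C := by
    refine IH V' C hCLE ?_
    exact isPseudoCoherentD_of_iso'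
      (DerivedCategory.Q.mapIso (CochainComplex.mappingCone.mapHomologicalComplexIso β G').symm ≪≫
        (G'.mapDerivedCategoryFactors.app _).symm) h₃'
  have hK' : DCoh.IsPseudoCoherentD m (DerivedCategory.Q.obj (R.obj K)) :=
    (triangle m _ hTβ).2.1 (pcGlobal_of_strictlyPerfect _ hE₀' m).isPseudoCoherentD hCpc
  refine pcAt_of_isPseudoCoherentD_restrictD (i ⁻¹ᵁ V') z hzW' ?_
  exact isPseudoCoherentD_of_iso'
    ((Rf.mapDerivedCategoryFactors.app K).symm ≪≫ (DCoh.restrictD (i ⁻¹ᵁ V').ι).mapIso eK) hK'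

open Groth.Agent.Lib.H6xSuppPush in
/-- bounded above objects whose direct image is `m`-pseudo-coherent are `m`-pseudo-coherent,
when `i_* O_Z` is sufficiently pseudo-coherent -/
theorem pc_of_push_aux_n (m s : ℤ) : ∀ (n : ℕ) {Z X : Scheme.{u}} (i : Z ⟶ X)
    [IsClosedImmersion i] (_ : PushOPCn i s) (_ : s + n ≤ 2) (E : DCoh.D Z),
    E.IsLE (m - 1 + n) →
    DCoh.IsPseudoCoherentD m ((Scheme.Modules.pushforward i).mapDerivedCategory.obj E) →
    DCoh.IsPseudoCoherentD m E
  | 0, Z, X, i, _, _, _, E, hE, _ => by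
      haveI : E.IsLE (m - 1) := by simpa using hE
      exact (pcGlobal_of_isLE m E).isPseudoCoherentD
  | n + 1, Z, X, i, _, hO, hs, E, hE, hpush => by
      obtain ⟨b, hb⟩ : ∃ b : ℤ, b = m + n := ⟨_, rfl⟩
      haveI : E.IsLE b := by
        rw [hb]
        convert hE using 1
        push_cast; ring
      haveI := isLE_push i E b
      have hpc_b : DCoh.IsPseudoCoherentD b
          ((Scheme.Modules.pushforward i).mapDerivedCategory.obj E) :=
        isPseudoCoherentD_mono (by omega) hpush
      haveI hFT0 : CohB1.IsFT (DCoh.HD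
          ((Scheme.Modules.pushforward i).mapDerivedCategory.obj E) b) :=
        (top_cohomology b _ hpc_b).1 (fun j hj => isZero_of_isLE _ b j hj)
      obtain ⟨e⟩ := nonempty_homology_mapDerivedCategory_iso (Scheme.Modules.pushforward i) E b
      have hFT : CohB1.IsFT ((Scheme.Modules.pushforward i).obj (DCoh.HD E b)) :=
        Groth.Agent.Lib.Helper23.FinType.isFiniteType_of_iso e
      rw [isPseudoCoherentD_iff_pcAt]
      intro z
      obtain ⟨V, hzV, I, hI, q, hq⟩ := exists_epi_free_of_isFT_push i (DCoh.HD E b) hFT z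
      haveI : ((DCoh.restrictD (i ⁻¹ᵁ V).ι).obj E).IsLE b := isLE_restrictD' (i ⁻¹ᵁ V).ι E b
      obtain ⟨e₁⟩ := nonempty_homology_mapDerivedCategory_iso
        (Scheme.Modules.restrictFunctor (i ⁻¹ᵁ V).ι) E b
      have hpush₁ : DCoh.IsPseudoCoherentD m
          ((Scheme.Modules.pushforward (i ∣_ V)).mapDerivedCategory.obj
            ((DCoh.restrictD (i ⁻¹ᵁ V).ι).obj E)) := by
        obtain ⟨e'⟩ := nonempty_restrictD_push_iso i V E
        exact isPseudoCoherentD_of_iso' e' (isPseudoCoherentD_restrictD hpush V.ι)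
      have key := step_n (hO.restrict V) m b (by push_cast at hs; omega)
        ((DCoh.restrictD (i ⁻¹ᵁ V).ι).obj E) hpush₁
        (SheafOfModules.free (R := (i ⁻¹ᵁ V : Scheme.{u}).ringCatSheaf) I)
        (isFinLocFree_free I) (q ≫ e₁.inv) (epi_comp' hq inferInstance)
        (fun V' C hC h => pc_of_push_aux_n m s n ((i ∣_ V) ∣_ V') ((hO.restrict V).restrict V')
          (by push_cast at hs; omega) C (by convert hC using 1; omega) h)
        ⟨z, hzV⟩
      exact PCAt.of_restrict (i ⁻¹ᵁ V).ι ⟨z, hzV⟩ key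

/-- **(T')** reflecting pseudo-coherence along a closed immersion with `i_* O_Z` only
`s`-pseudo-coherent, `s ≤ m + 1 - b` -/
theorem pc_of_push_n {s : ℤ} (hO : PushOPCn i s) {m b : ℤ} (hs : s + b ≤ m + 1) {E : DCoh.D Z}
    [E.IsLE b]
    (hpush : DCoh.IsPseudoCoherentD m
      ((Scheme.Modules.pushforward i).mapDerivedCategory.obj E)) :
    DCoh.IsPseudoCoherentD m E := by
  by_cases hbm : b < m
  · haveI : E.IsLE (m - 1) := DerivedCategory.TStructure.t.isLE_of_le E b (m - 1) (by omega)
    exact (pcGlobal_of_isLE m E).isPseudoCoherentD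
  · refine pc_of_push_aux_n m s (b - m + 1).toNat i hO ?_ E ?_ hpush
    · have := Int.toNat_of_nonneg (show 0 ≤ b - m + 1 by omega)
      omega
    · have h1 := Int.toNat_of_nonneg (show 0 ≤ b - m + 1 by omega)
      have h2 : m - 1 + ((b - m + 1).toNat : ℤ) = b := by omega
      rw [h2]
      infer_instance


/-- the derived category of the empty scheme is trivial -/
lemma isZero_D_of_isEmpty {Y : Scheme.{u}} [IsEmpty Y] (E : DCoh.D Y) : IsZero E := by
  haveI : E.IsLE 0 := by
    rw [isLE_iff]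
    intro j _
    exact Groth.Agent.Lib.R2H2.PushCoh.isZero_of_isEmpty _
  haveI : E.IsGE 1 := by
    rw [isGE_iff]
    intro j _
    exact Groth.Agent.Lib.R2H2.PushCoh.isZero_of_isEmpty _
  exact DerivedCategory.TStructure.t.isZero E 0 1

/-- the inductive step, preserving pseudo-coherence -/
theorem step_push_n {s : ℤ} (hO : PushOPCn i s) (m b : ℤ) (hs : s + b ≤ m) (E : DCoh.D Z)
    [E.IsLE b] (hE : DCoh.IsPseudoCoherentD m E)
    (P : Z.Modules) (hP : FlatMod.IsFinLocFree P) (σ : P ⟶ DCoh.HD E b) (hσ : Epi σ)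
    (IH : ∀ (V : X.Opens) (C : DCoh.D (i ⁻¹ᵁ V : Scheme.{u})), C.IsLE (b - 1) →
      DCoh.IsPseudoCoherentD m C →
      DCoh.IsPseudoCoherentD m
        ((Scheme.Modules.pushforward (i ∣_ V)).mapDerivedCategory.obj C))
    (z : Z) : PCAt m ((Scheme.Modules.pushforward i).mapDerivedCategory.obj E) (i z) := by
  obtain ⟨W, hzW', K, eK, β, hC⟩ := exists_local_cone b E P hP σ hσ z
  obtain ⟨V', rfl⟩ := exists_preimage_eq i W
  let E₀ := (HomologicalComplex.single Z.Modules (ComplexShape.up ℤ) b).obj P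
  have hE₀ : DCoh.IsStrictlyPerfect E₀ := isStrictlyPerfect_single' b _ hP
  let Rf := Scheme.Modules.restrictFunctor (i ⁻¹ᵁ V').ι
  let R := DCoh.restrictCx (i ⁻¹ᵁ V')
  let C : DCoh.D (i ⁻¹ᵁ V' : Scheme.{u}) := DerivedCategory.Q.obj (CochainComplex.mappingCone β)
  haveI hCLE : C.IsLE (b - 1) := hC
  have hTβ := DerivedCategory.mappingCone_triangle_distinguished β
  let G' := Scheme.Modules.pushforward (i ∣_ V')
  let Gc := G'.mapHomologicalComplex (ComplexShape.up ℤ)
  have hTβ' := DerivedCategory.mappingCone_triangle_distinguished (Gc.map β)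
  have hE₀' : DCoh.IsStrictlyPerfect (R.obj E₀) :=
    Groth.Agent.Lib.H6xPerfLoc.isStrictlyPerfect_restrict (i ⁻¹ᵁ V').ι E₀ hE₀
  have hE₀z : ∀ j : ℤ, b < j → IsZero ((R.obj E₀).X j) := fun j hj =>
    Rf.map_isZero (HomologicalComplex.isZero_single_obj_X (ComplexShape.up ℤ) b _ j (by omega))
  have h₁ : DCoh.IsPseudoCoherentD (m + 1) (DerivedCategory.Q.obj (R.obj E₀)) :=
    (pcGlobal_of_strictlyPerfect _ hE₀' (m + 1)).isPseudoCoherentD
  have h₂ : DCoh.IsPseudoCoherentD m (DerivedCategory.Q.obj (R.obj K)) :=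
    isPseudoCoherentD_of_iso'
      ((DCoh.restrictD (i ⁻¹ᵁ V').ι).mapIso eK.symm ≪≫ Rf.mapDerivedCategoryFactors.app K)
      (isPseudoCoherentD_restrictD hE (i ⁻¹ᵁ V').ι)
  have hCpc : DCoh.IsPseudoCoherentD m C := (triangle m _ hTβ).1 h₁ h₂
  have hpushC := IH V' C hCLE hCpc
  have h₃' : DCoh.IsPseudoCoherentD m
      (DerivedCategory.Q.obj (CochainComplex.mappingCone (Gc.map β))) :=
    isPseudoCoherentD_of_iso'
      ((G'.mapDerivedCategoryFactors.app _) ≪≫
        DerivedCategory.Q.mapIso (CochainComplex.mappingCone.mapHomologicalComplexIso β G'))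
      hpushC
  have h₁' : DCoh.IsPseudoCoherentD m (DerivedCategory.Q.obj (Gc.obj (R.obj E₀))) :=
    pc_push_strictlyPerfect_n (hO.restrict V') _ hE₀' b hE₀z m hs
  have h₂' : DCoh.IsPseudoCoherentD m (DerivedCategory.Q.obj (Gc.obj (R.obj K))) :=
    (triangle m _ hTβ').2.1 h₁' h₃'
  refine pcAt_of_isPseudoCoherentD_restrictD V' (i z) hzW' ?_
  obtain ⟨e⟩ := nonempty_restrictD_push_iso i V' E
  exact isPseudoCoherentD_of_iso' ((e ≪≫ G'.mapDerivedCategory.mapIso
      ((DCoh.restrictD (i ⁻¹ᵁ V').ι).mapIso eK.symm ≪≫ Rf.mapDerivedCategoryFactors.app K) ≪≫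
      G'.mapDerivedCategoryFactors.app _).symm) h₂'

open Groth.Agent.Lib.H6xSuppPush in
/-- direct images of bounded above `m`-pseudo-coherent objects are `m`-pseudo-coherent,
when `i_* O_Z` is sufficiently pseudo-coherent -/
theorem pc_push_aux_n (m s : ℤ) : ∀ (n : ℕ) {Z X : Scheme.{u}} (i : Z ⟶ X)
    [IsClosedImmersion i] (_ : PushOPCn i s) (_ : s + n ≤ 1) (E : DCoh.D Z),
    E.IsLE (m - 1 + n) → DCoh.IsPseudoCoherentD m E →
    DCoh.IsPseudoCoherentD m ((Scheme.Modules.pushforward i).mapDerivedCategory.obj E)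
  | 0, Z, X, i, _, _, _, E, hE, _ => by
      haveI : E.IsLE (m - 1) := by simpa using hE
      haveI := isLE_push i E (m - 1)
      exact (pcGlobal_of_isLE m _).isPseudoCoherentD
  | n + 1, Z, X, i, _, hO, hs, E, hE, hpc => by
      obtain ⟨b, hb⟩ : ∃ b : ℤ, b = m + n := ⟨_, rfl⟩
      haveI : E.IsLE b := by
        rw [hb]
        convert hE using 1
        push_cast; ring
      have hpc_b : DCoh.IsPseudoCoherentD b E := isPseudoCoherentD_mono (by omega) hpc
      haveI hFT : CohB1.IsFT (DCoh.HD E b) :=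
        (top_cohomology b _ hpc_b).1 (fun j hj => isZero_of_isLE _ b j hj)
      rw [isPseudoCoherentD_iff_pcAt]
      intro x
      by_cases hx : x ∈ Set.range i
      · obtain ⟨z, rfl⟩ := hx
        obtain ⟨ι, U, G, hfin, hcov, -⟩ :=
          Groth.Agent.Lib.Helper23.FinType.exists_isOpenCover_generatingSections (DCoh.HD E b)
        have hz : z ∈ (⨆ k, U k) := by rw [hcov.iSup_eq_top]; trivial
        obtain ⟨k, hk⟩ := Opens.mem_iSup.1 hz
        haveI := hfin k
        obtain ⟨V, hV⟩ := exists_preimage_eq i (U k)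
        obtain ⟨I, hI, q, hq⟩ : ∃ (I : Type u) (_ : Finite I)
            (q : SheafOfModules.free (R := (i ⁻¹ᵁ V : Scheme.{u}).ringCatSheaf) I ⟶
              (DCoh.HD E b).restrict (i ⁻¹ᵁ V).ι), Epi q := by
          rw [hV]
          exact ⟨(G k).I, inferInstance, (G k).π, inferInstance⟩
        have hzV : i z ∈ V := by
          have : z ∈ i ⁻¹ᵁ V := by rw [hV]; exact hk
          exact this
        haveI : ((DCoh.restrictD (i ⁻¹ᵁ V).ι).obj E).IsLE b := isLE_restrictD' (i ⁻¹ᵁ V).ι E b
        obtain ⟨e₁⟩ := nonempty_homology_mapDerivedCategory_iso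
          (Scheme.Modules.restrictFunctor (i ⁻¹ᵁ V).ι) E b
        have hpc₁ : DCoh.IsPseudoCoherentD m ((DCoh.restrictD (i ⁻¹ᵁ V).ι).obj E) :=
          isPseudoCoherentD_restrictD hpc (i ⁻¹ᵁ V).ι
        have key := step_push_n (hO.restrict V) m b (by push_cast at hs; omega)
          ((DCoh.restrictD (i ⁻¹ᵁ V).ι).obj E) hpc₁
          (SheafOfModules.free (R := (i ⁻¹ᵁ V : Scheme.{u}).ringCatSheaf) I)
          (isFinLocFree_free I) (q ≫ e₁.inv) (epi_comp' hq inferInstance)
          (fun V' C hC h => pc_push_aux_n m s n ((i ∣_ V) ∣_ V') ((hO.restrict V).restrict V')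
            (by push_cast at hs; omega) C (by convert hC using 1; omega) h)
          ⟨z, hzV⟩
        obtain ⟨e'⟩ := nonempty_restrictD_push_iso i V E
        have key' : PCAt m ((DCoh.restrictD V.ι).obj
            ((Scheme.Modules.pushforward i).mapDerivedCategory.obj E)) ⟨i z, hzV⟩ :=
          by
          have hpt : (i ∣_ V) ⟨z, hzV⟩ = (⟨i z, hzV⟩ : V) :=
            Subtype.ext (morphismRestrict_base_coe i V ⟨z, hzV⟩)
          rw [hpt] at key
          exact PCAt.of_iso e'.symm key
        exact PCAt.of_restrict V.ι ⟨i z, hzV⟩ key'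
      · refine pcAt_of_isPseudoCoherentD_restrictD (complRange i) x hx ?_
        obtain ⟨e'⟩ := nonempty_restrictD_push_iso i (complRange i) E
        refine isPseudoCoherentD_of_iso' e'.symm (isPseudoCoherentD_of_isZero _ ?_ _)
        refine Functor.map_isZero _ ?_
        haveI : IsEmpty ↥(i ⁻¹ᵁ complRange i : Scheme.{u}) :=
          ⟨fun w => w.2 ⟨w.1, rfl⟩⟩
        exact isZero_D_of_isEmpty _

/-- **(T)** preserving pseudo-coherence along a closed immersion with `i_* O_Z` only
`s`-pseudo-coherent, `s ≤ m - b` -/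
theorem pc_push_n {s : ℤ} (hO : PushOPCn i s) {m b : ℤ} (hs : s + b ≤ m) {E : DCoh.D Z}
    [E.IsLE b] (hE : DCoh.IsPseudoCoherentD m E) :
    DCoh.IsPseudoCoherentD m ((Scheme.Modules.pushforward i).mapDerivedCategory.obj E) := by
  by_cases hbm : b < m
  · haveI : E.IsLE (m - 1) := DerivedCategory.TStructure.t.isLE_of_le E b (m - 1) (by omega)
    haveI := isLE_push i E (m - 1)
    exact (pcGlobal_of_isLE m _).isPseudoCoherentD
  · refine pc_push_aux_n m s (b - m + 1).toNat i hO ?_ E ?_ hE
    · have := Int.toNat_of_nonneg (show 0 ≤ b - m + 1 by omega)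
      omega
    · have h1 := Int.toNat_of_nonneg (show 0 ≤ b - m + 1 by omega)
      have h2 : m - 1 + ((b - m + 1).toNat : ℤ) = b := by omega
      rw [h2]
      infer_instance

end Groth.Agent.Lib.H6xClPush
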