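import Mathlib
import Groth.Agent.Lib.H6xChartW
import Groth.Agent.Lib.H6xClPushG
set_option backward.isDefEq.respectTransparency.types false

/-!
# Composition and cancellation for `n`-pseudo-coherent morphisms with level tracking
(helper6; S6209, S6205)
-/

set_option autoImplicit false
set_option linter.style.haveILetI false

universe u

open CategoryTheory CategoryTheory.Limits AlgebraicGeometry HomologicalComplex TopologicalSpace
  Opposite MonoidalCategory

attribute [local instance] HasDerivedCategory.standard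

namespace Groth.Agent.Lib.H6xChart

open Groth.Agent.Lib.H6xClPush Groth.Agent.Lib.H6xPC3 Groth.Agent.Lib.H6xPCoh
  Groth.Agent.Lib.Helper1.PC

/-- level `s` version of `pushOPC_Spec` -/
theorem pushOPCn_Spec {P' P : Type u} [CommRing P'] [CommRing P] (σ : P' →+* P)
    (hσ : Function.Surjective σ) (s : ℤ)
    (hpc : DRing.IsPseudoCoherent P' s
      ((DerivedCategory.singleFunctor (ModuleCat.{u} P') 0).obj
        ((ModuleCat.restrictScalars σ).obj (ModuleCat.of P P)))) :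
    haveI := isClosedImmersion_Spec σ hσ
    PushOPCn (Spec.map (CommRingCat.ofHom σ)) s := by
  haveI := isClosedImmersion_Spec σ hσ
  haveI := (Groth.Agent.S9498.aux (CommRingCat.of P')).1
  haveI : PreservesFiniteColimits (tilde.functor (CommRingCat.of P')) := by
    haveI : PreservesColimitsOfSize.{0, 0} (tilde.functor (CommRingCat.of P')) :=
      (tilde.adjunction (R := (CommRingCat.of P'))).leftAdjoint_preservesColimits
    exact PreservesColimitsOfSize.preservesFiniteColimits _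
  have h1 := (Groth.Agent.Lib.H6xTildePC.pc_tildeD_iff (CommRingCat.of P') _ s).2 hpc
  refine isPseudoCoherentD_of_iso ?_ h1
  refine ((tilde.functor (CommRingCat.of P')).mapDerivedCategorySingleFunctor 0).app _ ≪≫
    (DerivedCategory.singleFunctor _ 0).mapIso ?_
  exact ((Groth.Agent.Lib.H6xAffTilde.tildePushIso (CommRingCat.ofHom σ)).app
    (ModuleCat.of P P)).symm

variable {X Y S : Scheme.{u}}

/-- the chart complex is bounded above when the object is -/
lemma isLE_chartCx (U : X.Opens) (hU : IsAffineOpen U) {P : Type u} [CommRing P]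
    (φ : P →+* Γ(X, U)) (hφ : Function.Surjective φ) (G : CochainComplex X.Modules ℤ) (b : ℤ)
    [(DCoh.toD X G).IsLE b] :
    (DCoh.toD (Spec (CommRingCat.of P))
      ((DerSch.pushCx (chartImm' U φ)).obj ((DCoh.restrictCx U).obj G))).IsLE b := by
  haveI := isClosedImmersion_chartImm' U hU φ hφ
  haveI h1 : ((DCoh.restrictD U.ι).obj (DCoh.toD X G)).IsLE b := isLE_restrictD' U.ι _ b
  haveI h2 := isLE_push (chartImm' U φ) ((DCoh.restrictD U.ι).obj (DCoh.toD X G)) b
  have e : (Scheme.Modules.pushforward (chartImm' U φ)).mapDerivedCategory.obj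
      ((DCoh.restrictD U.ι).obj (DCoh.toD X G)) ≅
      DCoh.toD (Spec (CommRingCat.of P))
        ((DerSch.pushCx (chartImm' U φ)).obj ((DCoh.restrictCx U).obj G)) :=
    (Scheme.Modules.pushforward (chartImm' U φ)).mapDerivedCategory.mapIso
      ((Scheme.Modules.restrictFunctor U.ι).mapDerivedCategoryFactors.app G) ≪≫
      (Scheme.Modules.pushforward (chartImm' U φ)).mapDerivedCategoryFactors.app _
  exact DerivedCategory.TStructure.t.isLE_of_iso e b

/-- change of chart along a surjection `σ : P' → P` with `P` only `lvl`-pseudo-coherent over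
`P'` -/
theorem pcCx_comp_n (U : X.Opens) (hU : IsAffineOpen U) {P' P : Type u} [CommRing P']
    [CommRing P] (φ : P →+* Γ(X, U)) (hφ : Function.Surjective φ) (σ : P' →+* P)
    (hσ : Function.Surjective σ) (lvl : ℤ)
    (hpc : DRing.IsPseudoCoherent P' lvl
      ((DerivedCategory.singleFunctor (ModuleCat.{u} P') 0).obj
        ((ModuleCat.restrictScalars σ).obj (ModuleCat.of P P))))
    (G : CochainComplex X.Modules ℤ) (m b : ℤ) [(DCoh.toD X G).IsLE b] :
    (lvl + b ≤ m → PCCx m G U φ → PCCx m G U (φ.comp σ)) ∧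
      (lvl + b ≤ m + 1 → PCCx m G U (φ.comp σ) → PCCx m G U φ) := by
  haveI := isClosedImmersion_Spec σ hσ
  haveI := isLE_chartCx U hU φ hφ G b
  have hO := pushOPCn_Spec σ hσ lvl hpc
  have e : (Scheme.Modules.pushforward (Spec.map (CommRingCat.ofHom σ))).mapDerivedCategory.obj
      (DCoh.toD _ ((DerSch.pushCx (chartImm' U φ)).obj ((DCoh.restrictCx U).obj G))) ≅
      DCoh.toD _ ((DerSch.pushCx (chartImm' U (φ.comp σ))).obj ((DCoh.restrictCx U).obj G)) := by
    rw [chartImm'_comp]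
    exact (Scheme.Modules.pushforward _).mapDerivedCategoryFactors.app _ ≪≫
      DerivedCategory.Q.mapIso ((Functor.mapHomologicalComplexCompIso
        (Scheme.Modules.pushforwardComp (chartImm' U φ) (Spec.map (CommRingCat.ofHom σ))) _).app _)
  constructor
  · intro hs h
    exact isPseudoCoherentD_of_iso e (pc_push_n hO hs h)
  · intro hs h
    exact pc_of_push_n hO hs (isPseudoCoherentD_of_iso e.symm h)


/-- relative pseudo-coherence is monotone in the level -/
theorem rel_mono (f : X ⟶ Y) {m m' : ℤ} (h : m ≤ m') {K : DCoh.D X}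
    (hK : DerSch.IsPseudoCoherentRel f m K) : DerSch.IsPseudoCoherentRel f m' K := by
  obtain ⟨h1, 𝒱, h𝒱, H⟩ := hK
  refine ⟨h1, 𝒱, h𝒱, fun V hV => ?_⟩
  obtain ⟨𝒰, h𝒰, H'⟩ := H V hV
  refine ⟨𝒰, h𝒰, fun U hU hUV => ?_⟩
  obtain ⟨n, φ, hφ, hpc⟩ := H' U hU hUV
  exact ⟨n, φ, hφ, fun G hG => isPseudoCoherentD_mono h (hpc G hG)⟩

/-- composition and cancellation with level tracking, chain level -/
theorem rel_comp_n (f : X ⟶ Y) (g : Y ⟶ S) [LocallyOfFiniteType f]
    [LocallyOfFiniteType g] (lvl : ℤ) (hg : DerSch.IsNPseudoCoherent g lvl) (m b : ℤ)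
    (G : CochainComplex X.Modules ℤ) [(DCoh.toD X G).IsLE b] :
    (lvl + b ≤ m → DerSch.IsPseudoCoherentRel f m (DCoh.toD X G) →
      DerSch.IsPseudoCoherentRel (f ≫ g) m (DCoh.toD X G)) ∧
    (lvl + b ≤ m + 1 → DerSch.IsPseudoCoherentRel (f ≫ g) m (DCoh.toD X G) →
      DerSch.IsPseudoCoherentRel f m (DCoh.toD X G)) := by
  let I := {t : X.affineOpens × Y.affineOpens × S.affineOpens //
    (t.1 : X.Opens) ≤ f ⁻¹ᵁ (t.2.1 : Y.Opens) ∧ (t.2.1 : Y.Opens) ≤ g ⁻¹ᵁ (t.2.2 : S.Opens)}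
  have hcov : ∀ x : X, ∃ t : I, x ∈ (t.1.1 : X.Opens) := by
    intro x
    obtain ⟨W, hW⟩ := exists_affine_nhd (g.base (f.base x))
    obtain ⟨V, hV, hVW⟩ := exists_affine_nhd_le g (f.base x) W hW
    obtain ⟨U, hU, hUV⟩ := exists_affine_nhd_le f x V hV
    exact ⟨⟨⟨U, V, W⟩, hUV, hVW⟩, hU⟩
  have hUW : ∀ t : I, (t.1.1 : X.Opens) ≤ (f ≫ g) ⁻¹ᵁ (t.1.2.2 : S.Opens) := fun t x hx =>
    t.2.2 (t.2.1 hx)
  have hexφ : ∀ t : I, ∃ (n : ℕ)
      (φ : MvPolynomial (Fin n) Γ(Y, (t.1.2.1 : Y.Opens)) →+* Γ(X, (t.1.1 : X.Opens))),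
      Function.Surjective φ ∧ φ.comp MvPolynomial.C = (f.appLE _ _ t.2.1).hom := fun t =>
    exists_chart_of_finiteType _
      (LocallyOfFiniteType.finiteType_appLE f t.1.2.1.2 t.1.1.2 t.2.1)
  have hexψ : ∀ t : I, ∃ (k : ℕ)
      (ψ : MvPolynomial (Fin k) Γ(S, (t.1.2.2 : S.Opens)) →+* Γ(Y, (t.1.2.1 : Y.Opens))),
      Function.Surjective ψ ∧ ψ.comp MvPolynomial.C = (g.appLE _ _ t.2.2).hom := fun t =>
    exists_chart_of_finiteType _
      (LocallyOfFiniteType.finiteType_appLE g t.1.2.2.2 t.1.2.1.2 t.2.2)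
  choose n φ hφs hφC using hexφ
  choose k ψ hψs hψC using hexψ
  have hpc : ∀ (t : I), DRing.IsPseudoCoherent _ lvl
      ((DerivedCategory.singleFunctor _ 0).obj ((ModuleCat.restrictScalars (ψ t)).obj
        (ModuleCat.of Γ(Y, (t.1.2.1 : Y.Opens)) Γ(Y, (t.1.2.1 : Y.Opens))))) := fun t =>
    ring_pc_of_isNPseudoCoherent g lvl hg t.1.2.1 t.1.2.2 t.2.2 (ψ t) ⟨hψs t, hψC t⟩
  have hC : ∀ t : I, ((φ t).comp (MvPolynomial.map (ψ t))).comp
      (algebraMap Γ(S, (t.1.2.2 : S.Opens))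
        (MvPolynomial (Fin (n t)) (MvPolynomial (Fin (k t)) Γ(S, (t.1.2.2 : S.Opens))))) =
      ((f ≫ g).appLE _ _ (hUW t)).hom := by
    intro t
    refine RingHom.ext fun r => ?_
    change (φ t) (MvPolynomial.map (ψ t) (MvPolynomial.C (MvPolynomial.C r))) = _
    rw [MvPolynomial.map_C]
    have h1 : (ψ t) (MvPolynomial.C r) = (g.appLE _ _ t.2.2).hom r :=
      congrArg (fun χ : _ →+* _ => χ r) (hψC t)
    have h2 : (φ t) (MvPolynomial.C ((g.appLE _ _ t.2.2).hom r)) =
        (f.appLE _ _ t.2.1).hom ((g.appLE _ _ t.2.2).hom r) :=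
      congrArg (fun χ : _ →+* _ => χ ((g.appLE _ _ t.2.2).hom r)) (hφC t)
    rw [h1, h2, ← Scheme.Hom.appLE_comp_appLE f g _ _ _ t.2.2 t.2.1]
    rfl
  rw [rel_iff_of_gen_charts f m G (fun t : I => t.1.1) (fun t => t.1.2.1) (fun t => t.2.1) hcov
      (fun t => MvPolynomial (Fin (n t)) Γ(Y, (t.1.2.1 : Y.Opens))) φ hφs hφC,
    rel_iff_of_gen_charts (f ≫ g) m G (fun t : I => t.1.1) (fun t => t.1.2.2) hUW hcov
      (fun t => MvPolynomial (Fin (n t)) (MvPolynomial (Fin (k t)) Γ(S, (t.1.2.2 : S.Opens))))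
      (fun t => (φ t).comp (MvPolynomial.map (ψ t)))
      (fun t => (hφs t).comp (MvPolynomial.map_surjective (ψ t) (hψs t))) hC]
  have key := fun t : I => pcCx_comp_n (t.1.1 : X.Opens) t.1.1.2 (φ t) (hφs t)
    (MvPolynomial.map (ψ t)) (MvPolynomial.map_surjective (ψ t) (hψs t)) lvl
    (isPC_res_map (ψ t) (Fin (n t)) lvl (hpc t)) G m b
  exact ⟨fun hs h t => (key t).1 hs (h t), fun hs h t => (key t).2 hs (h t)⟩

/-- **S6209** -/
theorem main_S6209 (f : X ⟶ Y) (g : Y ⟶ S) [LocallyOfFiniteType f] [LocallyOfFiniteType g]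
    (r s : ℤ) (hf : DerSch.IsNPseudoCoherent f r) (hg : DerSch.IsNPseudoCoherent g s) :
    DerSch.IsNPseudoCoherent (f ≫ g) (max r s) := by
  haveI : (DCoh.toD X (DerSch.unitCx X)).IsLE 0 :=
    inferInstanceAs (((DerivedCategory.singleFunctor X.Modules 0).obj
      (Coh.structureModule X)).IsLE 0)
  exact (rel_comp_n f g s hg (max r s) 0 (DerSch.unitCx X)).1 (by simp)
    (rel_mono f (le_max_left r s) hf)

/-- **S6205** -/
theorem main_S6205 (f : X ⟶ Y) (g : Y ⟶ S) [LocallyOfFiniteType f] [LocallyOfFiniteType g]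
    (a b : ℤ) (E : DCoh.D X) [E.IsLE b]
    (hE : DerSch.IsPseudoCoherentRel (f ≫ g) a E)
    (hg : DerSch.IsNPseudoCoherent g (a + 1 - b)) :
    DerSch.IsPseudoCoherentRel f a E := by
  let G := (DerivedCategory.Q : _ ⥤ DCoh.D X).objPreimage E
  let e : DCoh.toD X G ≅ E := DerivedCategory.Q.objObjPreimageIso E
  haveI : (DCoh.toD X G).IsLE b := DerivedCategory.TStructure.t.isLE_of_iso e.symm b
  refine rel_of_iso f e a ?_
  exact (rel_comp_n f g (a + 1 - b) hg a b G).2 (by omega) (rel_of_iso (f ≫ g) e.symm a hE)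

end Groth.Agent.Lib.H6xChart
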