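import Mathlib
set_option backward.isDefEq.respectTransparency.types false

/-!
# Dévissage for bounded complexes (helper6)

`devissage`: a property of objects of the derived category which is invariant under isomorphisms, holds
for zero objects, is inherited by the middle term of a distinguished triangle from the outer terms, and
holds for `A[k]` for all `A` in a class `S` of objects (closed under isomorphisms), holds for all
bounded complexes with terms in `S`.
-/

set_option autoImplicit false
set_option linter.style.haveILetI false
set_option linter.unusedVariables false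
set_option linter.unusedSectionVars false
universe w v u
open CategoryTheory CategoryTheory.Limits

namespace Groth.Agent.Lib.H6xDevissage

open DerivedCategory Pretriangulated

variable {C : Type u} [Category.{v} C] [Abelian C]

section top

variable (E : CochainComplex C ℤ) (b : ℤ)

/-- the inclusion of the top term of a complex -/
noncomputable def topIncl (hE : IsZero (E.X (b + 1))) :
    (HomologicalComplex.single C (ComplexShape.up ℤ) b).obj (E.X b) ⟶ E :=
  HomologicalComplex.mkHomFromSingle (𝟙 _) (fun k hk => by
    obtain rfl : b + 1 = k := hk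
    exact hE.eq_of_tgt _ _)

variable (hE : IsZero (E.X (b + 1)))

lemma isIso_topIncl_f : IsIso ((topIncl E b hE).f b) := by
  rw [topIncl, HomologicalComplex.mkHomFromSingle_f]
  infer_instance

instance mono_topIncl : Mono (topIncl E b hE) := by
  apply HomologicalComplex.mono_of_mono_f
  intro i
  by_cases hi : i = b
  · subst hi
    haveI := isIso_topIncl_f E i hE
    infer_instance
  · exact ⟨fun g h _ => (HomologicalComplex.isZero_single_obj_X (ComplexShape.up ℤ) b _ i hi).eq_of_tgt
      _ _⟩

/-- the short exact sequence `0 → E^b[-b] → E → E/E^b[-b] → 0` -/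
noncomputable def topSES : ShortComplex (CochainComplex C ℤ) :=
  ShortComplex.mk (topIncl E b hE) (cokernel.π (topIncl E b hE)) (cokernel.condition _)

lemma topSES_shortExact : (topSES E b hE).ShortExact where
  exact := ShortComplex.exact_of_g_is_cokernel _ (cokernelIsCokernel _)
  mono_f := mono_topIncl E b hE
  epi_g := by
    change Epi (cokernel.π (topIncl E b hE))
    infer_instance

/-- the terms of the quotient -/
noncomputable def quotXIso (i : ℤ) :
    (cokernel (topIncl E b hE)).X i ≅ cokernel ((topIncl E b hE).f i) :=
  PreservesCokernel.iso (HomologicalComplex.eval C (ComplexShape.up ℤ) i) (topIncl E b hE)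

lemma isZero_quot_X_top : IsZero ((cokernel (topIncl E b hE)).X b) := by
  haveI := isIso_topIncl_f E b hE
  exact (isZero_cokernel_of_epi ((topIncl E b hE).f b)).of_iso (quotXIso E b hE b)

lemma isZero_quot_X_of_isZero (i : ℤ) (h : IsZero (E.X i)) :
    IsZero ((cokernel (topIncl E b hE)).X i) := by
  refine IsZero.of_iso ?_ (quotXIso E b hE i)
  rw [IsZero.iff_id_eq_zero, ← cancel_epi (cokernel.π _)]
  exact h.eq_of_src _ _

/-- away from the top degree the quotient has the same terms -/
noncomputable def quotXIsoOfNe (i : ℤ) (hi : i ≠ b) :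
    (cokernel (topIncl E b hE)).X i ≅ E.X i :=
  quotXIso E b hE i ≪≫
    (haveI : IsIso (cokernel.π ((topIncl E b hE).f i)) := by
      have h0 : (topIncl E b hE).f i = 0 :=
        (HomologicalComplex.isZero_single_obj_X (ComplexShape.up ℤ) b _ i hi).eq_of_src _ _
      rw [h0]
      infer_instance
    (asIso (cokernel.π ((topIncl E b hE).f i))).symm)

end top

section main

variable [HasDerivedCategory.{w} C]

lemma isZero_Q_obj (E : CochainComplex C ℤ) (hE : ∀ i : ℤ, IsZero (E.X i)) :
    IsZero ((Q : _ ⥤ DerivedCategory C).obj E) := by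
  have h : IsZero E := by
    rw [IsZero.iff_id_eq_zero]
    ext i
    exact (hE i).eq_of_src _ _
  exact Q.map_isZero h

theorem devissage (S : C → Prop) (hSiso : ∀ A B : C, (A ≅ B) → S A → S B)
    (P : DerivedCategory C → Prop) (hPiso : ∀ X Y : DerivedCategory C, (X ≅ Y) → P X → P Y)
    (hzero : ∀ X : DerivedCategory C, IsZero X → P X)
    (htri : ∀ T : Triangle (DerivedCategory C), T ∈ distTriang (DerivedCategory C) →
      P T.obj₁ → P T.obj₃ → P T.obj₂)
    (hsingle : ∀ (A : C) (k : ℤ), S A → P ((singleFunctor C k).obj A))
    (E : CochainComplex C ℤ) (a b : ℤ) (hE : ∀ i : ℤ, i < a ∨ b < i → IsZero (E.X i))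
    (hS : ∀ i : ℤ, a ≤ i → i ≤ b → S (E.X i)) : P (Q.obj E) := by
  suffices H : ∀ (n : ℕ) (E : CochainComplex C ℤ) (a b : ℤ), b - a + 1 ≤ n →
      (∀ i : ℤ, i < a ∨ b < i → IsZero (E.X i)) → (∀ i : ℤ, a ≤ i → i ≤ b → S (E.X i)) →
      P (Q.obj E) from H (b - a + 1).toNat E a b (Int.self_le_toNat _) hE hS
  intro n
  induction n with
  | zero =>
    intro E a b hn hE hS
    exact hzero _ (isZero_Q_obj E (fun i => hE i (by lia)))
  | succ n ih =>
    intro E a b hn hE hS
    by_cases hab : b < a
    · exact hzero _ (isZero_Q_obj E (fun i => hE i (by lia)))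
    have hE1 : IsZero (E.X (b + 1)) := hE _ (Or.inr (by lia))
    have hT := triangleOfSES_distinguished (topSES_shortExact E b hE1)
    refine htri _ hT ?_ ?_
    · exact hPiso _ _ ((singleFunctorIsoCompQ C b).app (E.X b)) (hsingle _ b (hS b (by lia) le_rfl))
    · refine ih (cokernel (topIncl E b hE1)) a (b - 1) (by push_cast at hn ⊢; lia) ?_ ?_
      · intro i hi
        by_cases hib : i = b
        · subst hib
          exact isZero_quot_X_top E i hE1
        · exact isZero_quot_X_of_isZero E b hE1 i (hE i (by lia))
      · intro i h1 h2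
        exact hSiso _ _ (quotXIsoOfNe E b hE1 i (by lia)).symm (hS i h1 (by lia))

end main

end Groth.Agent.Lib.H6xDevissage
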