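import Mathlib
import Groth.Agent.Lib.H6xDevissage
import Groth.Agent.S6990
import Groth.Agent.S14388
set_option backward.isDefEq.respectTransparency.types false

/-!
# Countability of `Hom` from bounded complexes of projectives (helper6; towards S1099)
-/

set_option autoImplicit false
set_option linter.style.haveILetI false
set_option linter.unusedVariables false
set_option linter.unusedSectionVars false
universe w v u
open CategoryTheory CategoryTheory.Limits

namespace Groth.Agent.Lib.H6xCntHom

open DerivedCategory Pretriangulated Groth.Agent.S14388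

section abstract

variable {C : Type u} [Category.{v} C] [Abelian C] [HasDerivedCategory.{w} C]

/-- `Hom(P[0], Z)` is countable for `P` projective when `Hom(P, H^0 Z)` is -/
theorem countable_hom_single_zero (P : C) [Projective P] (Z : DerivedCategory C)
    (h : ∀ H : C, Nonempty (H ≅ (homologyFunctor C 0).obj Z) → Countable (P ⟶ H)) :
    Countable ((singleFunctor C 0).obj P ⟶ Z) := by
  set X := (tt.truncLT 1).obj Z with hX
  set Y := (tt.truncGE 0).obj X with hY
  have hT := tt.triangleLTGE_distinguished 1 Z
  have hT' := tt.triangleLTGE_distinguished 0 X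
  haveI hXle : X.IsLE 0 := (inferInstance : tt.IsLE ((tt.truncLT 1).obj Z) (1 - 1))
  haveI hYge : Y.IsGE 0 := (inferInstance : tt.IsGE ((tt.truncGE 0).obj X) 0)
  haveI hYle : Y.IsLE 0 := by
    rw [isLE_iff]
    intro i hi
    have := isIso_homology_truncGEπ 0 i (by lia) X
    exact (DerivedCategory.isZero_of_isLE X 0 i hi).of_iso
      (asIso ((homologyFunctor C i).map ((tt.truncGEπ 0).app X))).symm
  obtain ⟨H, ⟨θ⟩⟩ := exists_iso_singleFunctor_obj_of_isGE_of_isLE Y 0
  have eH : H ≅ (homologyFunctor C 0).obj Z := by
    have i1 := isIso_homology_truncGEπ 0 0 le_rfl X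
    have i2 := isIso_homology_truncLTι 1 0 (by lia) Z
    exact ((singleFunctorCompHomologyFunctorIso C 0).app H).symm ≪≫
      (homologyFunctor C 0).mapIso θ.symm ≪≫
      (asIso ((homologyFunctor C 0).map ((tt.truncGEπ 0).app X))).symm ≪≫
      asIso ((homologyFunctor C 0).map ((tt.truncLTι 1).app Z))
  haveI : Countable (P ⟶ H) := h H ⟨eH⟩
  -- `Hom(P[0], Y)` is countable
  haveI c1 : Countable ((singleFunctor C 0).obj P ⟶ Y) := by
    have hinj : Function.Injective (fun f : (singleFunctor C 0).obj P ⟶ Y =>
        (singleFunctor C 0).preimage (f ≫ θ.hom)) := by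
      intro f g hfg
      have := congrArg (singleFunctor C 0).map hfg
      simp only [Functor.map_preimage] at this
      exact (cancel_mono θ.hom).1 this
    exact hinj.countable
  -- `Hom(P[0], X)` is countable
  haveI c2 : Countable ((singleFunctor C 0).obj P ⟶ X) := by
    have hinj : Function.Injective (fun f : (singleFunctor C 0).obj P ⟶ X =>
        f ≫ (tt.truncGEπ 0).app X) := by
      intro f g hfg
      have h0 : (f - g) ≫ ((tt.triangleLTGE 0).obj X).mor₂ = 0 := by
        rw [Preadditive.sub_comp]
        exact sub_eq_zero.2 hfg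
      obtain ⟨k, hk⟩ := Triangle.coyoneda_exact₂ _ hT' (f - g) h0
      haveI : ((tt.truncLT 0).obj X).IsLE (0 - 1) :=
        (inferInstance : tt.IsLE ((tt.truncLT 0).obj X) (0 - 1))
      haveI : ∀ i : ℤ, Projective (((HomologicalComplex.single C (ComplexShape.up ℤ) 0).obj P).X i) := by
        intro i
        by_cases hi : i = 0
        · subst hi
          exact Projective.of_iso (HomologicalComplex.singleObjXSelf (ComplexShape.up ℤ) 0 P).symm
            inferInstance
        · exact (HomologicalComplex.isZero_single_obj_X (ComplexShape.up ℤ) 0 P i hi).projective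
      have hk0 : ((singleFunctorIsoCompQ C 0).app P).inv ≫ k = 0 :=
        Groth.Agent.S6990.hom_eq_zero ((HomologicalComplex.single C (ComplexShape.up ℤ) 0).obj P) 0 0
          (fun i hi => HomologicalComplex.isZero_single_obj_X (ComplexShape.up ℤ) 0 P i (by lia))
          ((tt.truncLT 0).obj X) _
      have hk1 : k = 0 := by
        rw [← cancel_epi ((singleFunctorIsoCompQ C 0).app P).inv, hk0, comp_zero]
      rw [hk1, zero_comp] at hk
      exact sub_eq_zero.1 hk
    exact hinj.countable
  -- `Hom(P[0], X) → Hom(P[0], Z)` is surjective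
  have hsurj : Function.Surjective (fun f : (singleFunctor C 0).obj P ⟶ X =>
      f ≫ (tt.truncLTι 1).app Z) := by
    intro f
    have h0 : f ≫ ((tt.triangleLTGE 1).obj Z).mor₂ = 0 := tt.zero _ 0 1 (by lia)
    obtain ⟨k, hk⟩ := Triangle.coyoneda_exact₂ _ hT f h0
    exact ⟨k, hk.symm⟩
  exact hsurj.countable

end abstract

end Groth.Agent.Lib.H6xCntHom

namespace Groth.Agent.Lib.H6xCntHom

open DerivedCategory Pretriangulated Groth.Agent.S14388

/-- countability of the middle term of an "exact sequence" of sets -/
lemma countable_middle {A B C : Type*} [Add B] [Countable A] [Countable C] (φ : A → B) (ψ : B → C)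
    (h : ∀ b b' : B, ψ b = ψ b' → ∃ a, b = φ a + b') : Countable B := by
  classical
  let s : Set.range ψ → B := fun c => c.2.choose
  have hs : ∀ c : Set.range ψ, ψ (s c) = c.1 := fun c => c.2.choose_spec
  have hsurj : Function.Surjective (fun p : A × Set.range ψ => φ p.1 + s p.2) := by
    intro b
    obtain ⟨a, ha⟩ := h b (s ⟨ψ b, ⟨b, rfl⟩⟩) (hs ⟨ψ b, ⟨b, rfl⟩⟩).symm
    exact ⟨(a, ⟨ψ b, ⟨b, rfl⟩⟩), ha.symm⟩
  exact hsurj.countable

section abstract2

variable {C : Type u} [Category.{v} C] [Abelian C] [HasDerivedCategory.{w} C]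

/-- the property: `Hom(M, N)` is countable for all `N` satisfying a shift-stable condition -/
def CntOut (W : DerivedCategory C → Prop) (M : DerivedCategory C) : Prop :=
  ∀ N : DerivedCategory C, W N → Countable (M ⟶ N)

lemma cntOut_of_iso (W : DerivedCategory C → Prop) {X Y : DerivedCategory C} (e : X ≅ Y)
    (h : CntOut W X) : CntOut W Y := fun N hN =>
  haveI := h N hN
  (show Function.Injective (fun f : Y ⟶ N => e.hom ≫ f) from
    fun f g hfg => (cancel_epi e.hom).1 hfg).countable

lemma cntOut_of_isZero (W : DerivedCategory C → Prop) {X : DerivedCategory C} (h : IsZero X) :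
    CntOut W X := fun N _ =>
  haveI : Subsingleton (X ⟶ N) := ⟨fun f g => h.eq_of_src f g⟩
  inferInstance

lemma cntOut_of_distTriang (W : DerivedCategory C → Prop) (T : Triangle (DerivedCategory C))
    (hT : T ∈ distTriang (DerivedCategory C)) (h₁ : CntOut W T.obj₁) (h₃ : CntOut W T.obj₃) :
    CntOut W T.obj₂ := fun N hN => by
  haveI := h₁ N hN
  haveI := h₃ N hN
  refine countable_middle (fun g : T.obj₃ ⟶ N => T.mor₂ ≫ g) (fun f : T.obj₂ ⟶ N => T.mor₁ ≫ f)
    (fun f f' hff' => ?_)
  have h0 : T.mor₁ ≫ (f - f') = 0 := by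
    rw [Preadditive.comp_sub]
    exact sub_eq_zero.2 hff'
  obtain ⟨g, hg⟩ := Triangle.yoneda_exact₂ _ hT (f - f') h0
  exact ⟨g, by rw [← hg]; abel⟩

/-- the single-degree case, in degree `k` -/
theorem cntOut_single (W : DerivedCategory C → Prop) (P : C) [Projective P] (k : ℤ)
    (h : ∀ N : DerivedCategory C, W N → ∀ H : C, Nonempty (H ≅ (homologyFunctor C k).obj N) →
      Countable (P ⟶ H)) :
    CntOut W ((singleFunctor C k).obj P) := by
  intro N hN
  let e : ((singleFunctor C k).obj P)⟦k⟧ ≅ (singleFunctor C 0).obj P :=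
    ((singleFunctors C).shiftIso k 0 k (add_zero k)).app P
  haveI : Countable ((singleFunctor C 0).obj P ⟶ N⟦k⟧) := by
    refine countable_hom_single_zero P (N⟦k⟧) (fun H ⟨eH⟩ => ?_)
    exact h N hN H ⟨eH ≪≫ ((homologyFunctor C 0).shiftIso k 0 k (add_zero k)).app N⟩
  have hinj : Function.Injective (fun f : (singleFunctor C k).obj P ⟶ N => e.inv ≫ f⟦k⟧') := by
    intro f g hfg
    exact (shiftFunctor (DerivedCategory C) k).map_injective ((cancel_epi e.inv).1 hfg)
  exact hinj.countable

end abstract2

section ring

attribute [local instance] HasDerivedCategory.standard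

variable (R : Type u) [CommRing R]

lemma countable_hom_of_finite (P H : ModuleCat.{u} R) [Module.Finite R P] [Countable H] :
    Countable (P ⟶ H) := by
  obtain ⟨n, s, hs⟩ := Module.Finite.exists_fin (R := R) (M := P)
  have hinj : Function.Injective (fun f : P ⟶ H => fun i : Fin n => f.hom (s i)) := by
    intro f g hfg
    ext x
    have hx : x ∈ Submodule.span R (Set.range s) := by rw [hs]; trivial
    have : f.hom = g.hom := by
      apply LinearMap.ext_on_range hs
      intro i
      exact congrFun hfg i
    rw [this]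
  exact hinj.countable

/-- the condition on the target: countable cohomology modules -/
def CntCoh (N : Dual.D R) : Prop :=
  ∀ i : ℤ, Countable ((homologyFunctor (ModuleCat.{u} R) i).obj N)

theorem countable_hom_of_isPerfect (M : Dual.D R) (hM : DRing.IsPerfect R M) (N : Dual.D R)
    (hN : CntCoh R N) : Countable (M ⟶ N) := by
  obtain ⟨E, a, b, hE, hP, ⟨e⟩⟩ := hM
  suffices H : CntOut (CntCoh R) (Q.obj E) from cntOut_of_iso _ e H N hN
  refine Groth.Agent.Lib.H6xDevissage.devissage
    (fun A : ModuleCat.{u} R => Module.Finite R A ∧ Module.Projective R A) ?_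
    (CntOut (CntCoh R)) (fun X Y e h => cntOut_of_iso _ e h) (fun X h => cntOut_of_isZero _ h)
    (fun T hT h1 h3 => cntOut_of_distTriang _ T hT h1 h3) ?_ E a b hE (fun i _ _ => hP i)
  · rintro A B e ⟨h1, h2⟩
    exact ⟨Module.Finite.equiv e.toLinearEquiv, Module.Projective.of_equiv e.toLinearEquiv⟩
  · rintro A k ⟨h1, h2⟩
    haveI : Projective A := ModuleCat.projective_of_categoryTheory_projective A
    refine cntOut_single _ A k (fun N hN H ⟨eH⟩ => ?_)
    haveI : Countable ((homologyFunctor (ModuleCat.{u} R) k).obj N) := hN k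
    haveI : Countable H := (show Function.Injective eH.hom.hom from
      (ModuleCat.mono_iff_injective eH.hom).1 inferInstance).countable
    exact countable_hom_of_finite R A H

end ring

end Groth.Agent.Lib.H6xCntHom
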