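import Mathlib
import Groth.Agent.Lib.H6xCntHomA
import Groth.Agent.Lib.H6xPerfVanC
set_option backward.isDefEq.respectTransparency.types false

/-!
# Countability of `Hom` from perfect objects on qcqs schemes (helper6; S1099)
-/

set_option autoImplicit false
set_option linter.style.haveILetI false
set_option linter.unusedVariables false
set_option linter.unusedSectionVars false
universe u
open CategoryTheory CategoryTheory.Limits AlgebraicGeometry TopologicalSpace Opposite

attribute [local instance] HasDerivedCategory.standard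

namespace Groth.Agent.Lib.H6xCntHom

open DerivedCategory Pretriangulated Groth.Agent.Lib.H6xPerf23 Groth.Agent.Lib.H6xQcqsInd
  Groth.Agent.Lib.H6xPerfVan Groth.Agent.Lib.H6xMV

section sections

variable {X : Scheme.{u}}

lemma countable_sections_of_iso {M N : X.Modules} (φ : M ≅ N) (U : X.Opens)
    (h : Countable (N.val.obj (op U))) : Countable (M.val.obj (op U)) := by
  have h1 : φ.hom.val.app (op U) ≫ φ.inv.val.app (op U) = 𝟙 _ := by
    have h0 : φ.hom ≫ φ.inv = 𝟙 M := φ.hom_inv_id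
    have h2 := congrArg (fun ψ : M ⟶ M => ψ.val.app (op U)) h0
    exact h2
  have hinj : Function.Injective (fun x : M.val.obj (op U) => (φ.hom.val.app (op U)).hom x) := by
    intro x y hxy
    have := congrArg (fun z => (φ.inv.val.app (op U)).hom z) hxy
    simp only [← LinearMap.comp_apply, ← ModuleCat.hom_comp, h1] at this
    simpa using this
  exact hinj.countable

/-- the condition on `K`: countable sections of the cohomology sheaves over affine opens -/
def CntSec (K : DCoh.D X) : Prop :=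
  ∀ V : X.Opens, IsAffineOpen V → ∀ i : ℤ, Countable ((DCoh.HD K i).val.obj (op V))

lemma CntSec.shift {K : DCoh.D X} (h : CntSec K) (n : ℤ) : CntSec (K⟦n⟧) := fun V hV i =>
  countable_sections_of_iso (HDShiftIso K n i) V (h V hV (n + i))

lemma CntSec.restrictD {U : Scheme.{u}} (j : U ⟶ X) [IsOpenImmersion j] {K : DCoh.D X}
    (h : CntSec K) : CntSec ((DCoh.restrictD j).obj K) := fun V hV i => by
  obtain ⟨e2⟩ := Groth.Agent.Lib.H6xSuppPush.nonempty_homology_mapDerivedCategory_iso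
    (Scheme.Modules.restrictFunctor j) K i
  refine countable_sections_of_iso e2 V ?_
  exact h (j ''ᵁ V) (hV.image_of_isOpenImmersion j) i

end sections

/-- the countability property of a scheme -/
def CntP (Y : Scheme.{u}) : Prop :=
  ∀ K E : DCoh.D Y, DCoh.IsQCohD K → CntSec K → DCoh.IsPerfect E → Countable (E ⟶ K)

theorem cntP_spec (R : CommRingCat.{u}) : CntP (Spec R) := by
  haveI := (Groth.Agent.S9498.aux R).1
  intro K E hK hKc hE
  obtain ⟨hfull, hfaith, hess⟩ := Groth.Agent.Lib.H6xTilde.main R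
  haveI := hfull
  haveI := hfaith
  obtain ⟨ME, ⟨eE⟩⟩ := (hess E).1 (isQCohD_of_isPerfect E hE)
  obtain ⟨MK, ⟨eK⟩⟩ := (hess K).1 hK
  have hME : DRing.IsPerfect R ME :=
    Groth.Agent.Lib.H6xPerfAff.isPerfect_of_isPerfect_tildeD R ME
      (Groth.Agent.Lib.H6xPerf23.isPerfect_of_iso eE.symm hE)
  have hMK : CntCoh R MK := by
    intro i
    obtain ⟨e2⟩ := Groth.Agent.Lib.H6xSuppPush.nonempty_homology_mapDerivedCategory_iso
      (tilde.functor R) MK i
    have h1 : Countable ((tilde ((homologyFunctor (ModuleCat.{u} R) i).obj MK)).val.obj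
        (op (⊤ : (Spec R).Opens))) :=
      countable_sections_of_iso (e2.symm ≪≫ (homologyFunctor _ i).mapIso eK) ⊤
        (hKc ⊤ (isAffineOpen_top (Spec R)) i)
    have e : (homologyFunctor (ModuleCat.{u} R) i).obj MK ≅
        (moduleSpecΓFunctor (R := R)).obj (tilde ((homologyFunctor (ModuleCat.{u} R) i).obj MK)) :=
      (tilde.toTildeΓNatIso (R := R)).app _
    have hinj : Function.Injective e.hom.hom :=
      (ModuleCat.mono_iff_injective e.hom).1 inferInstance
    exact @Function.Injective.countable _ _ h1 _ hinj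
  haveI := countable_hom_of_isPerfect R ME hME MK hMK
  have hinj : Function.Injective (fun f : E ⟶ K =>
      (DCoh.tildeD R).preimage (eE.hom ≫ f ≫ eK.inv)) := by
    intro f g hfg
    have := congrArg (DCoh.tildeD R).map hfg
    simp only [Functor.map_preimage] at this
    have h2 := (cancel_epi eE.hom).1 this
    exact (cancel_mono eK.inv).1 h2
  exact hinj.countable

section mv

variable {U X : Scheme.{u}} (j : U ⟶ X) [IsOpenImmersion j]

/-- `Hom(E, Rj_* N)` is countable when `Hom(E|_U, N)` is -/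
lemma countable_hom_Rpush (E : DCoh.D X) (N : DCoh.D U)
    (h : Countable ((DCoh.restrictD j).obj E ⟶ N)) : Countable (E ⟶ (DCoh.Rpush j).obj N) :=
  ((Groth.Agent.Lib.H6xSuppPush.derAdj j).homEquiv E N).symm.injective.countable

end mv

theorem cntP_mv : MVPatch CntP := by
  intro X U₁ U₂ W j₁ j₂ k i₁ i₂ _ _ _ _ _ h₁ h₂ hcov hint g₁ g₂ g₃ K E hK hKc hE
  obtain ⟨α, β, γ, hT⟩ := exists_triangle_Rpush j₁ j₂ k i₁ i₂ h₁ h₂ hcov hint K
  have hT' := inv_rot_of_distTriang _ hT
  -- the three countable sets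
  haveI c₁ : Countable (E ⟶ (DCoh.Rpush j₁).obj ((DCoh.restrictD j₁).obj K)) :=
    countable_hom_Rpush j₁ E _ (g₁ _ _ (Groth.Agent.Lib.H6xRpushQc.isQCohD_restrictD j₁ K hK)
      (hKc.restrictD j₁) (isPerfect_restrictD j₁ E hE))
  haveI c₂ : Countable (E ⟶ (DCoh.Rpush j₂).obj ((DCoh.restrictD j₂).obj K)) :=
    countable_hom_Rpush j₂ E _ (g₂ _ _ (Groth.Agent.Lib.H6xRpushQc.isQCohD_restrictD j₂ K hK)
      (hKc.restrictD j₂) (isPerfect_restrictD j₂ E hE))
  haveI c₃ : Countable (E⟦(1 : ℤ)⟧ ⟶ (DCoh.Rpush k).obj ((DCoh.restrictD k).obj K)) :=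
    countable_hom_Rpush k (E⟦(1 : ℤ)⟧) _ (g₃ _ _
      (Groth.Agent.Lib.H6xRpushQc.isQCohD_restrictD k K hK)
      (hKc.restrictD k) (isPerfect_restrictD k _ (isPerfect_shift E hE 1)))
  haveI c₁₂ : Countable (E ⟶ ((DCoh.Rpush j₁).obj ((DCoh.restrictD j₁).obj K) ⊞
      (DCoh.Rpush j₂).obj ((DCoh.restrictD j₂).obj K))) := by
    have hinj : Function.Injective (fun f : E ⟶ ((DCoh.Rpush j₁).obj ((DCoh.restrictD j₁).obj K) ⊞
        (DCoh.Rpush j₂).obj ((DCoh.restrictD j₂).obj K)) => (f ≫ biprod.fst, f ≫ biprod.snd)) := by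
      intro f g hfg
      have h1 := congrArg Prod.fst hfg
      have h2 := congrArg Prod.snd hfg
      exact biprod.hom_ext _ _ h1 h2
    exact hinj.countable
  haveI c₃' : Countable (E ⟶ ((DCoh.Rpush k).obj ((DCoh.restrictD k).obj K))⟦(-1 : ℤ)⟧) := by
    have hinj : Function.Injective (fun f : E ⟶
        ((DCoh.Rpush k).obj ((DCoh.restrictD k).obj K))⟦(-1 : ℤ)⟧ =>
        (f⟦(1 : ℤ)⟧' ≫ (shiftFunctorCompIsoId (DCoh.D X) (-1 : ℤ) 1 (by lia)).hom.app _ :
          E⟦(1 : ℤ)⟧ ⟶ (DCoh.Rpush k).obj ((DCoh.restrictD k).obj K))) := by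
      intro f g hfg
      have h1 := (cancel_mono ((shiftFunctorCompIsoId (DCoh.D X) (-1 : ℤ) 1 (by lia)).hom.app
        ((DCoh.Rpush k).obj ((DCoh.restrictD k).obj K)))).1 hfg
      exact (shiftFunctor (DCoh.D X) (1 : ℤ)).map_injective h1
    exact hinj.countable
  refine countable_middle
    (fun g : E ⟶ ((DCoh.Rpush k).obj ((DCoh.restrictD k).obj K))⟦(-1 : ℤ)⟧ =>
      g ≫ (Triangle.mk α β γ).invRotate.mor₁)
    (fun f : E ⟶ K => f ≫ α) (fun f f' hff' => ?_)
  have h0 : (f - f') ≫ (Triangle.mk α β γ).invRotate.mor₂ = 0 := by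
    change (f - f') ≫ α = 0
    rw [Preadditive.sub_comp]
    exact sub_eq_zero.2 hff'
  obtain ⟨g, hg⟩ := Triangle.coyoneda_exact₂ _ hT' (f - f') h0
  refine ⟨g, ?_⟩
  have h3 : f = (f - f') + f' := by abel
  exact h3.trans (congrArg (· + f') hg)

theorem cntP_of_qcqs (X : Scheme.{u}) [CompactSpace X] [QuasiSeparatedSpace X] : CntP X :=
  qcqs_induction cntP_spec cntP_mv X

theorem main_S1099 (X : Scheme.{u}) [CompactSpace ↥X] [QuasiSeparatedSpace ↥X]
    (K : DCoh.D X) (hK : DCoh.IsQCohD K)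
    (hKc : ∀ V : X.Opens, IsAffineOpen V → ∀ i : ℤ, Countable ((DCoh.HD K i).val.obj (op V)))
    (E : DCoh.D X) (hE : DCoh.IsPerfect E) (U : X.Opens) (hU : IsCompact (U : Set X))
    [PreservesFiniteLimits (Scheme.Modules.restrictFunctor U.ι)] (i : ℤ) :
    Countable ((DCoh.restrictD U.ι).obj E ⟶ ((DCoh.restrictD U.ι).obj K)⟦i⟧) := by
  haveI : CompactSpace (U : Scheme.{u}) := isCompact_iff_compactSpace.1 hU
  haveI : QuasiSeparatedSpace (U : Scheme.{u}) :=
    QuasiSeparatedSpace.of_isOpenEmbedding U.ι.isOpenEmbedding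
  have hKc' : CntSec K := hKc
  exact cntP_of_qcqs (U : Scheme.{u}) _ _
    (Groth.Agent.Lib.H6xFinPush.isQCohD_shift _
      (Groth.Agent.Lib.H6xRpushQc.isQCohD_restrictD U.ι K hK) i)
    ((hKc'.restrictD U.ι).shift i) (isPerfect_restrictD U.ι E hE)

end Groth.Agent.Lib.H6xCntHom
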