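import Groth.Agent.S11625
import Groth.Agent.Lib.Helper8LC2
import Groth.Agent.Lib.Helper8LCAdd
import Groth.Agent.Lib.Helper29Conn

/-!
# Right exactness of top local cohomology (helper6)
-/

set_option autoImplicit false
universe u

namespace Groth.Agent.Lib.H6xCoass

open CategoryTheory IsLocalRing
open Groth.Agent.Lib.Helper8.LC

section

variable {R : Type u} [CommRing R] [IsNoetherianRing R] (I : Ideal R) (n : ℕ)

/-- `H^n_I` is right exact on modules of dimension `≤ n`. -/
theorem H_map_surjective {A B : Type u} [AddCommGroup A] [Module R A] [AddCommGroup B]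
    [Module R B] (g : A →ₗ[R] B) (hg : Function.Surjective g)
    (hk : Module.supportDim R (LinearMap.ker g) < ((n + 1 : ℕ) : WithBot ℕ∞)) :
    Function.Surjective ((localCohomology I n).map (ModuleCat.ofHom g)).hom := by
  have hex : Function.Exact (LinearMap.ker g).subtype g := LinearMap.exact_subtype_ker_map g
  have hS := Sfg_shortExact (LinearMap.ker g).subtype g (Submodule.injective_subtype _) hg hex
  haveI : Subsingleton (LocCoh.H I (n + 1) (LinearMap.ker g)) :=
    Groth.Agent.S11625.result R I (LinearMap.ker g) (n + 1) hk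
  intro z
  exact H_exact₃ I n _ hS z (Subsingleton.elim _ _)

omit [IsNoetherianRing R] in
/-- If `H^n_I(B) = 0` for the cokernel `B` of an injection `f : A → M`, then `H^n_I(f)` is
surjective. -/
theorem H_map_surjective_of_coker {A M B : Type u} [AddCommGroup A] [Module R A] [AddCommGroup M]
    [Module R M] [AddCommGroup B] [Module R B] (f : A →ₗ[R] M) (g : M →ₗ[R] B)
    (hf : Function.Injective f) (hg : Function.Surjective g) (hex : Function.Exact f g)
    (hB : ∀ y : LocCoh.H I n B, y = 0) :
    Function.Surjective ((localCohomology I n).map (ModuleCat.ofHom f)).hom := by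
  have hS := Sfg_shortExact f g hf hg hex
  intro y
  exact H_exact₂ I n _ hS y (hB _)

omit [IsNoetherianRing R] in
theorem supportDim_le_of_annihilator_le {A B : Type u} [AddCommGroup A] [Module R A]
    [Module.Finite R A] [AddCommGroup B] [Module R B] [Module.Finite R B]
    (h : Module.annihilator R A ≤ Module.annihilator R B) :
    Module.supportDim R B ≤ Module.supportDim R A := by
  rw [Module.supportDim_eq_ringKrullDim_quotient_annihilator,
    Module.supportDim_eq_ringKrullDim_quotient_annihilator]
  exact Groth.Agent.Lib.Helper29.Conn.dim_quot_mono h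

variable (M : Type u) [AddCommGroup M] [Module R M] [Module.Finite R M]
  (hM : Module.supportDim R M ≤ (n : WithBot ℕ∞))

include hM in
/-- If `H^n_I(M/pM) = 0` then `H^n_I(M) = p H^n_I(M)`. -/
theorem mem_smul_top_of_H_quotient_eq_zero (p : Ideal R)
    (h0 : ∀ y : LocCoh.H I n (M ⧸ (p • ⊤ : Submodule R M)), y = 0) (h : LocCoh.H I n M) :
    h ∈ p • (⊤ : Submodule R (LocCoh.H I n M)) := by
  classical
  obtain ⟨r, a, ha⟩ : ∃ (r : ℕ) (a : Fin r → R), Ideal.span (Set.range a) = p := by
    obtain ⟨s, hs⟩ := (IsNoetherian.noetherian p : p.FG)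
    refine ⟨s.card, fun i => (s.equivFin.symm i : R), ?_⟩
    rw [← hs]
    congr 1
    ext x
    constructor
    · rintro ⟨i, rfl⟩
      exact (s.equivFin.symm i).2
    · intro hx
      exact ⟨s.equivFin ⟨x, hx⟩, by simp⟩
  have hap : ∀ j, a j ∈ p := fun j => ha ▸ Ideal.subset_span ⟨j, rfl⟩
  -- the map `σ : M^r → M`
  let σ : (Fin r → M) →ₗ[R] M := ∑ j, (LinearMap.lsmul R M (a j)) ∘ₗ (LinearMap.proj j)
  have hσ : ∀ v : Fin r → M, σ v = ∑ j, a j • v j := by
    intro v
    simp only [σ, LinearMap.sum_apply, LinearMap.comp_apply, LinearMap.proj_apply,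
      LinearMap.lsmul_apply]
  have hrange : LinearMap.range σ = (p • ⊤ : Submodule R M) := by
    apply le_antisymm
    · rintro _ ⟨v, rfl⟩
      rw [hσ]
      exact Submodule.sum_mem _ (fun j _ => Submodule.smul_mem_smul (hap j) Submodule.mem_top)
    · rw [Submodule.smul_le]
      intro b hb m _
      rw [← ha] at hb
      refine Submodule.span_induction (p := fun b _ => b • m ∈ LinearMap.range σ) ?_ ?_ ?_ ?_ hb
      · rintro _ ⟨j, rfl⟩
        refine ⟨Pi.single j m, ?_⟩
        rw [hσ, Finset.sum_eq_single j]
        · rw [Pi.single_eq_same]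
        · intro k _ hk
          rw [Pi.single_eq_of_ne hk, smul_zero]
        · intro hj
          exact absurd (Finset.mem_univ j) hj
      · rw [zero_smul]; exact Submodule.zero_mem _
      · intro x y _ _ hx hy
        rw [add_smul]; exact Submodule.add_mem _ hx hy
      · intro c x _ hx
        rw [smul_eq_mul, mul_smul]; exact Submodule.smul_mem _ c hx
  -- surjectivity of `H(σ)`
  have hdimPi : Module.supportDim R (Fin r → M) ≤ (n : WithBot ℕ∞) := by
    refine le_trans (supportDim_le_of_annihilator_le (A := M) ?_) hM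
    intro c hc
    rw [Module.mem_annihilator] at hc ⊢
    intro v
    funext j
    exact hc (v j)
  have hs1 : Function.Surjective ((localCohomology I n).map
      (ModuleCat.ofHom σ.rangeRestrict)).hom := by
    apply H_map_surjective I n σ.rangeRestrict σ.surjective_rangeRestrict
    refine lt_of_le_of_lt (Module.supportDim_le_of_injective (Submodule.subtype _)
      (Submodule.injective_subtype _)) (lt_of_le_of_lt hdimPi ?_)
    exact_mod_cast Nat.lt_succ_self n
  let e : LinearMap.range σ ≃ₗ[R] (p • ⊤ : Submodule R M) := LinearEquiv.ofEq _ _ hrange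
  have hs2 : Function.Surjective ((localCohomology I n).map
      (ModuleCat.ofHom (p • ⊤ : Submodule R M).subtype)).hom :=
    H_map_surjective_of_coker I n (p • ⊤ : Submodule R M).subtype (Submodule.mkQ _)
      (Submodule.injective_subtype _) (Submodule.mkQ_surjective _)
      (LinearMap.exact_subtype_mkQ _) h0
  have hcomp : ModuleCat.ofHom σ = ModuleCat.ofHom σ.rangeRestrict ≫
      ModuleCat.ofHom e.toLinearMap ≫ ModuleCat.ofHom (p • ⊤ : Submodule R M).subtype := by
    apply ModuleCat.hom_ext
    apply LinearMap.ext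
    intro v
    rfl
  obtain ⟨y2, hy2⟩ := hs2 h
  have hse : Function.Surjective ((localCohomology I n).map
      (ModuleCat.ofHom e.toLinearMap)).hom :=
    ((localCohomology I n).mapIso (LinearEquiv.toModuleIso e)).toLinearEquiv.surjective
  obtain ⟨y1, hy1⟩ := hse y2
  obtain ⟨y0, hy0⟩ := hs1 y1
  have hh : h = ((localCohomology I n).map (ModuleCat.ofHom σ)).hom y0 := by
    rw [hcomp, Functor.map_comp, Functor.map_comp]
    change h = ((localCohomology I n).map (ModuleCat.ofHom (p • ⊤ : Submodule R M).subtype)).hom
      (((localCohomology I n).map (ModuleCat.ofHom e.toLinearMap)).hom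
        (((localCohomology I n).map (ModuleCat.ofHom σ.rangeRestrict)).hom y0))
    rw [hy0, hy1, hy2]
  rw [hh]
  have hσ' : ModuleCat.ofHom σ = ∑ j ∈ (Finset.univ : Finset (Fin r)),
      (ModuleCat.ofHom (LinearMap.proj (R := R) (φ := fun _ : Fin r => M) j) ≫
        ModuleCat.ofHom (LinearMap.lsmul R M (a j))) := by
    apply ModuleCat.hom_ext
    rw [ModuleCat.hom_sum]
    rfl
  rw [hσ']
  change (localCohomology I n).map _ y0 ∈ _
  rw [H_map_sum]
  refine Submodule.sum_mem _ (fun j _ => ?_)
  rw [Functor.map_comp]
  change (localCohomology I n).map (ModuleCat.ofHom (LinearMap.lsmul R M (a j)))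
    ((localCohomology I n).map (ModuleCat.ofHom (LinearMap.proj (R := R)
      (φ := fun _ : Fin r => M) j)) y0) ∈ _
  rw [H_map_lsmul]
  exact Submodule.smul_mem_smul (hap j) Submodule.mem_top

include hM in
omit [Module.Finite R M] in
/-- If `H^n_I(M/aM) = 0` then `a` acts surjectively on `H^n_I(M)`. -/
theorem exists_smul_eq_of_H_quotient_eq_zero (a : R)
    (h0 : ∀ y : LocCoh.H I n (M ⧸ LinearMap.range (LinearMap.lsmul R M a)), y = 0)
    (h : LocCoh.H I n M) : ∃ h' : LocCoh.H I n M, a • h' = h := by
  have hs1 : Function.Surjective ((localCohomology I n).map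
      (ModuleCat.ofHom (LinearMap.lsmul R M a).rangeRestrict)).hom := by
    apply H_map_surjective I n _ (LinearMap.lsmul R M a).surjective_rangeRestrict
    refine lt_of_le_of_lt (Module.supportDim_le_of_injective (Submodule.subtype _)
      (Submodule.injective_subtype _)) (lt_of_le_of_lt hM ?_)
    exact_mod_cast Nat.lt_succ_self n
  have hs2 : Function.Surjective ((localCohomology I n).map
      (ModuleCat.ofHom (LinearMap.range (LinearMap.lsmul R M a)).subtype)).hom :=
    H_map_surjective_of_coker I n _ (Submodule.mkQ _)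
      (Submodule.injective_subtype _) (Submodule.mkQ_surjective _)
      (LinearMap.exact_subtype_mkQ _) h0
  obtain ⟨y2, hy2⟩ := hs2 h
  obtain ⟨y1, hy1⟩ := hs1 y2
  refine ⟨y1, ?_⟩
  rw [← H_map_lsmul]
  have hcomp : ModuleCat.ofHom (LinearMap.lsmul R M a) =
      ModuleCat.ofHom (LinearMap.lsmul R M a).rangeRestrict ≫
        ModuleCat.ofHom (LinearMap.range (LinearMap.lsmul R M a)).subtype := by
    apply ModuleCat.hom_ext
    apply LinearMap.ext
    intro v
    rfl
  rw [hcomp, Functor.map_comp]
  change ((localCohomology I n).map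
      (ModuleCat.ofHom (LinearMap.range (LinearMap.lsmul R M a)).subtype)).hom
    (((localCohomology I n).map (ModuleCat.ofHom (LinearMap.lsmul R M a).rangeRestrict)).hom y1) = h
  rw [hy1, hy2]

end

end Groth.Agent.Lib.H6xCoass
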