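import Groth.Agent.S11614
import Groth.Agent.S2935
import Groth.Agent.Lib.Helper8Acyc
import Groth.Agent.Lib.Helper8LC3
import Groth.Agent.Lib.Helper29HLVT
import Groth.Agent.Lib.Helper18ComplProd
import Groth.Agent.Lib.Helper5RLR

/-!
# Top local cohomology of modules over `R/p` (helper6)
-/

set_option autoImplicit false
universe u

namespace Groth.Agent.Lib.H6xCoass

open CategoryTheory IsLocalRing
open Groth.Agent.Lib.Helper8.LC

section

variable {R : Type u} [CommRing R] [IsNoetherianRing R] (I : Ideal R) (p : Ideal R)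
  (N : Type u) [AddCommGroup N] [Module R N] [Module (R ⧸ p) N] [IsScalarTower R (R ⧸ p) N]

/-- Change of rings `R → R/p`. -/
theorem H_subsingleton_iff_map (i : ℕ) :
    Subsingleton (LocCoh.H I i N) ↔
      Subsingleton (LocCoh.H (I.map (algebraMap R (R ⧸ p))) i N) := by
  obtain ⟨φ, -⟩ := Groth.Agent.S11614.result R (R ⧸ p) I N i
  exact ⟨fun h => φ.toEquiv.subsingleton, fun h => φ.symm.toEquiv.subsingleton⟩

omit [IsNoetherianRing R] in
theorem map_radical_eq (J : Ideal R) (hJ : (I ⊔ p).radical = J) (hpJ : p ≤ J) (hJr : J.radical = J) :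
    (I.map (algebraMap R (R ⧸ p))).radical = (J.map (algebraMap R (R ⧸ p))).radical := by
  have hπ : Function.Surjective (algebraMap R (R ⧸ p)) := Ideal.Quotient.mk_surjective
  have hker : RingHom.ker (algebraMap R (R ⧸ p)) = p := Ideal.mk_ker
  have h1 : I.map (algebraMap R (R ⧸ p)) = (I ⊔ p).map (algebraMap R (R ⧸ p)) := by
    rw [Ideal.map_sup]
    have : p.map (algebraMap R (R ⧸ p)) = ⊥ := by
      change p.map (Ideal.Quotient.mk p) = ⊥
      exact Ideal.map_quotient_self p
    rw [this, sup_bot_eq]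
  rw [h1, ← Ideal.map_radical_of_surjective hπ (by rw [hker]; exact le_sup_right), hJ,
    ← Ideal.map_radical_of_surjective hπ (by rw [hker]; exact hpJ), hJr]

end

section Local

variable {R : Type u} [CommRing R] [IsNoetherianRing R] [IsLocalRing R] (I : Ideal R)
  (p : Ideal R) [hp : p.IsPrime]
  (N : Type u) [AddCommGroup N] [Module R N] [Module (R ⧸ p) N] [IsScalarTower R (R ⧸ p) N]

/-- Nonvanishing of `H^n_I(N)` for an `R/p`-module `N` of dimension `n` when `I + p` is
`m`-primary. -/
theorem H_nontrivial_of_radical_eq [Module.Finite R N] [Nontrivial N] (n : ℕ)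
    (hn : Module.supportDim R N = n) (hrad : (I ⊔ p).radical = maximalIdeal R) :
    Nontrivial (LocCoh.H I n N) := by
  by_contra hcon
  rw [not_nontrivial_iff_subsingleton] at hcon
  rw [H_subsingleton_iff_map I p N n] at hcon
  have hr := map_radical_eq I p (maximalIdeal R) hrad (le_maximalIdeal hp.ne_top)
    (Ideal.IsPrime.radical inferInstance)
  have h2 : Subsingleton (LocCoh.H ((maximalIdeal R).map (algebraMap R (R ⧸ p))) n N) :=
    Groth.Agent.Lib.Helper8.Acyc.subsingleton_of_radical_eq hr.symm n N hcon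
  rw [← H_subsingleton_iff_map (maximalIdeal R) p N n] at h2
  haveI := Groth.Agent.S2935.result R N n hn
  exact not_subsingleton _ h2

variable [IsAdicComplete (maximalIdeal R) R]

omit [IsScalarTower R (R ⧸ p) N] in
include hp in
/-- Hartshorne–Lichtenbaum vanishing for modules over a complete local domain `R/p`. -/
theorem H_subsingleton_of_radical_ne (n : ℕ) [IsScalarTower R (R ⧸ p) N]
    (hn : ringKrullDim (R ⧸ p) = n) (hrad : (I ⊔ p).radical ≠ maximalIdeal R) :
    Subsingleton (LocCoh.H I n N) := by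
  rw [H_subsingleton_iff_map I p N n]
  haveI : IsLocalRing (R ⧸ p) := Groth.Agent.Lib.Helper5.isLocalRing_quotient hp.ne_top
  haveI : IsDomain (R ⧸ p) := Ideal.Quotient.isDomain p
  haveI : IsAdicComplete (maximalIdeal (R ⧸ p)) (R ⧸ p) :=
    (Groth.Agent.Lib.Helper18ComplProd.isAdicComplete_of_finite R (R ⧸ p)).2
  have hπ : Function.Surjective (algebraMap R (R ⧸ p)) := Ideal.Quotient.mk_surjective
  by_cases hJ : I.map (algebraMap R (R ⧸ p)) = ⊤
  · refine ⟨fun x y => ?_⟩
    have key : ∀ z : LocCoh.H (I.map (algebraMap R (R ⧸ p))) n N, z = 0 := by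
      intro z
      obtain ⟨k, hk⟩ := isPowerTorsion_H (I.map (algebraMap R (R ⧸ p))) n
        (ModuleCat.of (R ⧸ p) N) z
      have := hk 1 (by rw [hJ, Ideal.top_pow]; trivial)
      rwa [one_smul] at this
    rw [key x, key y]
  · have hex : ∃ Q : Ideal (R ⧸ p), Q.IsPrime ∧ I.map (algebraMap R (R ⧸ p)) ≤ Q ∧
        Q ≠ maximalIdeal (R ⧸ p) := by
      by_contra hno
      push Not at hno
      apply hrad
      have h1 : (I.map (algebraMap R (R ⧸ p))).radical = maximalIdeal (R ⧸ p) := by
        rw [Ideal.radical_eq_sInf]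
        apply le_antisymm
        · exact sInf_le ⟨le_maximalIdeal hJ, inferInstance⟩
        · refine le_sInf ?_
          rintro Q ⟨hQ1, hQ2⟩
          rw [hno Q hQ2 hQ1]
      have h2 : (I ⊔ p) = (I.map (algebraMap R (R ⧸ p))).comap (algebraMap R (R ⧸ p)) := by
        rw [Ideal.comap_map_of_surjective _ hπ, ← RingHom.ker_eq_comap_bot]
        congr 1
        exact Ideal.mk_ker.symm
      rw [h2, ← Ideal.comap_radical, h1]
      exact IsLocalRing.eq_maximalIdeal (Ideal.comap_isMaximal_of_surjective _ hπ)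
    obtain ⟨Q, hQ, hJQ, hQm⟩ := hex
    have hn1 : 1 ≤ n := by
      have hlt : (⟨Q, hQ⟩ : PrimeSpectrum (R ⧸ p)) < ⟨maximalIdeal (R ⧸ p), inferInstance⟩ :=
        lt_of_le_of_ne (le_maximalIdeal hQ.ne_top) (fun h => hQm (PrimeSpectrum.ext_iff.mp h))
      have h1 : (0 : WithBot ℕ∞) < ringKrullDim (R ⧸ p) :=
        Order.krullDim_pos_iff.mpr ⟨_, _, hlt⟩
      rw [hn] at h1
      have h2 : 0 < n := by exact_mod_cast h1
      omega
    have hb := Groth.Agent.Lib.Helper29.HLVT.bound_of_complete_domain (R ⧸ p) n hn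
      (I.map (algebraMap R (R ⧸ p))) ⟨Q, hQ, hJQ, hQm⟩
    refine ⟨fun x y => ?_⟩
    rw [hb N n (by omega) x, hb N n (by omega) y]

end Local

end Groth.Agent.Lib.H6xCoass
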