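import Groth.Agent.Lib.H6xCoassA
import Groth.Agent.Lib.H6xCoassB
import Groth.Agent.Lib.Helper8LocDualK
import Groth.Agent.Lib.Helper28DepthCM

/-!
# Coassociated primes of top local cohomology (helper6)
-/

set_option autoImplicit false
universe u

namespace Groth.Agent.Lib.H6xCoass

open CategoryTheory IsLocalRing
open Groth.Agent.Lib.Helper8.LC

section

variable {R : Type u} [CommRing R]

theorem dim_quot_succ_le_of_mem {p q : Ideal R} [p.IsPrime] (hpq : p ≤ q) {r : R} (hrq : r ∈ q)
    (hrp : r ∉ p) : ringKrullDim (R ⧸ q) + 1 ≤ ringKrullDim (R ⧸ p) := by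
  have hdom : IsDomain (R ⧸ p) := Ideal.Quotient.isDomain p
  let r' : R ⧸ p := Ideal.Quotient.mk p r
  have hr' : r' ≠ 0 := by
    intro h0
    exact hrp (Ideal.Quotient.eq_zero_iff_mem.mp h0)
  have h1 := ringKrullDim_quotient_succ_le_of_nonZeroDivisor (mem_nonZeroDivisors_of_ne_zero hr')
  let φ : (R ⧸ p) ⧸ Ideal.span {r'} →+* R ⧸ q :=
    Ideal.Quotient.lift _ (Ideal.Quotient.factor hpq) (by
      intro a ha
      obtain ⟨b, rfl⟩ := Ideal.mem_span_singleton'.mp ha
      rw [map_mul]
      have : Ideal.Quotient.factor hpq r' = 0 := by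
        change Ideal.Quotient.factor hpq (Ideal.Quotient.mk p r) = 0
        rw [Ideal.Quotient.factor_mk]
        exact Ideal.Quotient.eq_zero_iff_mem.mpr hrq
      rw [this, mul_zero])
  have hφ : Function.Surjective φ := by
    intro x
    obtain ⟨x, rfl⟩ := Ideal.Quotient.mk_surjective x
    refine ⟨Ideal.Quotient.mk _ (Ideal.Quotient.mk p x), ?_⟩
    change Ideal.Quotient.lift _ (Ideal.Quotient.factor hpq) _ (Ideal.Quotient.mk _ _) = _
    rw [Ideal.Quotient.lift_mk, Ideal.Quotient.factor_mk]
  have h2 := ringKrullDim_le_of_surjective φ hφ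
  exact (add_le_add_left h2 1).trans h1

theorem lt_of_add_one_le_natCast {x : WithBot ℕ∞} {n : ℕ} (h : x + 1 ≤ (n : WithBot ℕ∞)) :
    x < (n : WithBot ℕ∞) := by
  by_contra hcon
  rw [not_lt] at hcon
  have h3 : ((n : WithBot ℕ∞)) + 1 ≤ n := le_trans (add_le_add_left hcon 1) h
  have h4 : ((n + 1 : ℕ) : WithBot ℕ∞) ≤ (n : WithBot ℕ∞) := by
    push_cast
    exact h3
  have h5 : n + 1 ≤ n := by exact_mod_cast h4
  omega

variable (M : Type u) [AddCommGroup M] [Module R M]

theorem le_annihilator_quotient_smul_top (p : Ideal R) :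
    p ≤ Module.annihilator R (M ⧸ (p • ⊤ : Submodule R M)) := by
  intro a ha
  rw [Module.mem_annihilator]
  intro z
  obtain ⟨m, rfl⟩ := Submodule.mkQ_surjective _ z
  rw [← map_smul, Submodule.mkQ_apply, Submodule.Quotient.mk_eq_zero]
  exact Submodule.smul_mem_smul ha Submodule.mem_top

variable [Module.Finite R M]

theorem supportDim_quotient_smul_top_le (p : Ideal R) :
    Module.supportDim R (M ⧸ (p • ⊤ : Submodule R M)) ≤ ringKrullDim (R ⧸ p) := by
  rw [Module.supportDim_eq_ringKrullDim_quotient_annihilator]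
  exact Groth.Agent.Lib.Helper29.Conn.dim_quot_mono (le_annihilator_quotient_smul_top M p)

theorem supportDim_quotient_smul_top_eq (p : Ideal R) [hpp : p.IsPrime]
    (hp : Module.annihilator R M ≤ p) :
    Module.supportDim R (M ⧸ (p • ⊤ : Submodule R M)) = ringKrullDim (R ⧸ p) := by
  apply le_antisymm (supportDim_quotient_smul_top_le M p)
  have hps : (⟨p, hpp⟩ : PrimeSpectrum R) ∈ Module.support R M := by
    rw [Module.mem_support_iff_of_finite]
    exact hp
  exact Groth.Agent.Lib.Helper28.supportDim_quotient_smul_top_ge (p := ⟨p, hpp⟩) hps le_rfl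

end

section Local

variable {R : Type u} [CommRing R] [IsNoetherianRing R] [IsLocalRing R] (I : Ideal R)
  (M : Type u) [AddCommGroup M] [Module R M] [Module.Finite R M] (n : ℕ)
  (hn : Module.supportDim R M = n)
  (E : Type u) [AddCommGroup E] [Module R E]

include hn in
/-- Coassociated primes of `H^n_I(M)` satisfy the expected conditions. -/
theorem of_mem_associatedPrimes [IsAdicComplete (maximalIdeal R) R] (p : Ideal R)
    (hp : p ∈ associatedPrimes R (LocCoh.H I n M →ₗ[R] E)) :
    p.IsPrime ∧ Module.annihilator R M ≤ p ∧ ringKrullDim (R ⧸ p) = n ∧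
      (I ⊔ p).radical = maximalIdeal R := by
  obtain ⟨hpp, x, hx⟩ := isAssociatedPrime_iff.mp hp
  haveI := hpp
  have hmem : ∀ a : R, a ∈ p ↔ a • x = 0 := by
    intro a
    rw [hx, Submodule.mem_colon_singleton, Submodule.mem_bot]
  have hx0 : x ≠ 0 := by
    intro h0
    apply hpp.ne_top
    rw [Ideal.eq_top_iff_one, hmem, h0, smul_zero]
  have hann : Module.annihilator R M ≤ p := by
    intro a ha
    rw [hmem]
    apply LinearMap.ext
    intro h
    rw [LinearMap.smul_apply, ← map_smul,
      smul_H_eq_zero_of_smul_eq_zero I n a M (fun m => Module.mem_annihilator.mp ha m), map_zero]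
    rfl
  have hnz : ¬ ∀ y : LocCoh.H I n (M ⧸ (p • ⊤ : Submodule R M)), y = 0 := by
    intro h0
    apply hx0
    apply LinearMap.ext
    intro h
    have hh := mem_smul_top_of_H_quotient_eq_zero I n M hn.le p h0 h
    refine Submodule.smul_induction_on hh ?_ ?_
    · intro a ha h' _
      rw [map_smul, ← LinearMap.smul_apply, (hmem a).mp ha]
      rfl
    · intro h1 h2 e1 e2
      rw [map_add, e1, e2]
      simp
  have hpsupp : (⟨p, hpp⟩ : PrimeSpectrum R) ∈ Module.support R M := by
    rw [Module.mem_support_iff_of_finite]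
    exact hann
  have hle : ringKrullDim (R ⧸ p) ≤ n := by
    rw [← hn]
    exact Groth.Agent.Lib.Helper28.ringKrullDim_quotient_le_supportDim (p := ⟨p, hpp⟩) hpsupp
  have hdim : ringKrullDim (R ⧸ p) = n := by
    by_contra hne
    have hlt : ringKrullDim (R ⧸ p) < n := lt_of_le_of_ne hle hne
    apply hnz
    haveI : Subsingleton (LocCoh.H I n (M ⧸ (p • ⊤ : Submodule R M))) :=
      Groth.Agent.S11625.result R I _ n
        (lt_of_le_of_lt (supportDim_quotient_smul_top_le M p) hlt)
    intro y
    exact Subsingleton.elim _ _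
  refine ⟨hpp, hann, hdim, ?_⟩
  by_contra hrad
  apply hnz
  haveI := H_subsingleton_of_radical_ne I p (M ⧸ (p • ⊤ : Submodule R M)) n hdim hrad
  intro y
  exact Subsingleton.elim _ _

include hn in
/-- Primes satisfying the conditions are coassociated to `H^n_I(M)`. -/
theorem mem_associatedPrimes [Module.Injective R E] (f : ResidueField R →ₗ[R] E)
    (hf : Function.Injective f) (p : Ideal R) [hpp : p.IsPrime]
    (hann : Module.annihilator R M ≤ p) (hdim : ringKrullDim (R ⧸ p) = n)
    (hrad : (I ⊔ p).radical = maximalIdeal R) :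
    p ∈ associatedPrimes R (LocCoh.H I n M →ₗ[R] E) := by
  have hNdim : Module.supportDim R (M ⧸ (p • ⊤ : Submodule R M)) = n := by
    rw [supportDim_quotient_smul_top_eq M p hann, hdim]
  haveI : Nontrivial (M ⧸ (p • ⊤ : Submodule R M)) := by
    rw [← Module.supportDim_ne_bot_iff_nontrivial R, hNdim]
    exact WithBot.coe_ne_bot
  haveI : Nontrivial (LocCoh.H I n (M ⧸ (p • ⊤ : Submodule R M))) :=
    H_nontrivial_of_radical_eq I p _ n hNdim hrad
  obtain ⟨y, hy⟩ : ∃ y : LocCoh.H I n (M ⧸ (p • ⊤ : Submodule R M)) →ₗ[R] E, y ≠ 0 := by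
    by_contra hcon
    push Not at hcon
    have := Groth.Agent.Lib.Helper8.LocDualK.subsingleton_of_hom_eq_zero E f hf
      (LocCoh.H I n (M ⧸ (p • ⊤ : Submodule R M))) hcon
    exact not_subsingleton _ this
  have hπ : Function.Surjective ((localCohomology I n).map
      (ModuleCat.ofHom (Submodule.mkQ (p • ⊤ : Submodule R M)))).hom := by
    refine H_map_surjective I n _ (Submodule.mkQ_surjective _) ?_
    refine lt_of_le_of_lt (Module.supportDim_le_of_injective (Submodule.subtype _)
      (Submodule.injective_subtype _)) ?_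
    rw [hn]
    exact_mod_cast Nat.lt_succ_self n
  change IsAssociatedPrime p _
  rw [isAssociatedPrime_iff]
  refine ⟨hpp, y ∘ₗ ((localCohomology I n).map
      (ModuleCat.ofHom (Submodule.mkQ (p • ⊤ : Submodule R M)))).hom, ?_⟩
  ext a
  rw [Submodule.mem_colon_singleton, Submodule.mem_bot]
  constructor
  · intro ha
    apply LinearMap.ext
    intro h
    rw [LinearMap.smul_apply, LinearMap.comp_apply, ← map_smul,
      smul_H_eq_zero_of_smul_eq_zero I n a (M ⧸ (p • ⊤ : Submodule R M))
        (fun m => Module.mem_annihilator.mp (le_annihilator_quotient_smul_top M p ha) m),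
      map_zero]
    rfl
  · intro ha
    by_contra hap
    apply hy
    apply LinearMap.ext
    intro z
    have hlt : Module.supportDim R ((M ⧸ (p • ⊤ : Submodule R M)) ⧸
        LinearMap.range (LinearMap.lsmul R (M ⧸ (p • ⊤ : Submodule R M)) a)) <
        (n : WithBot ℕ∞) := by
      rw [Module.supportDim_eq_ringKrullDim_quotient_annihilator]
      have hq : p ⊔ Ideal.span {a} ≤ Module.annihilator R ((M ⧸ (p • ⊤ : Submodule R M)) ⧸
          LinearMap.range (LinearMap.lsmul R (M ⧸ (p • ⊤ : Submodule R M)) a)) := by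
        refine sup_le ?_ ?_
        · intro b hb
          rw [Module.mem_annihilator]
          intro w
          obtain ⟨w, rfl⟩ := Submodule.mkQ_surjective _ w
          rw [← map_smul,
            Module.mem_annihilator.mp (le_annihilator_quotient_smul_top M p hb) w, map_zero]
        · rw [Ideal.span_singleton_le_iff_mem, Module.mem_annihilator]
          intro w
          obtain ⟨w, rfl⟩ := Submodule.mkQ_surjective _ w
          rw [← map_smul, Submodule.mkQ_apply, Submodule.Quotient.mk_eq_zero]
          exact ⟨w, rfl⟩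
      refine lt_of_le_of_lt (Groth.Agent.Lib.Helper29.Conn.dim_quot_mono hq) ?_
      apply lt_of_add_one_le_natCast
      rw [← hdim]
      exact dim_quot_succ_le_of_mem le_sup_left
        (Ideal.mem_sup_right (Ideal.mem_span_singleton_self a)) hap
    have h0 : ∀ w : LocCoh.H I n ((M ⧸ (p • ⊤ : Submodule R M)) ⧸
        LinearMap.range (LinearMap.lsmul R (M ⧸ (p • ⊤ : Submodule R M)) a)), w = 0 := by
      haveI : Subsingleton (LocCoh.H I n ((M ⧸ (p • ⊤ : Submodule R M)) ⧸
          LinearMap.range (LinearMap.lsmul R (M ⧸ (p • ⊤ : Submodule R M)) a))) :=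
        Groth.Agent.S11625.result R I _ n hlt
      intro w
      exact Subsingleton.elim _ _
    obtain ⟨z', rfl⟩ := exists_smul_eq_of_H_quotient_eq_zero I n
      (M ⧸ (p • ⊤ : Submodule R M)) hNdim.le a h0 z
    obtain ⟨h, rfl⟩ := hπ z'
    have h1 := LinearMap.congr_fun ha h
    rw [LinearMap.smul_apply, LinearMap.comp_apply, ← map_smul] at h1
    rw [h1]
    rfl

end Local

end Groth.Agent.Lib.H6xCoass
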