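import Mathlib
import Groth.Prelude.Def_DRing3
import Groth.Agent.Lib.H6xCoextA

/-!
# helper6: the triangle `RHom_A(A/(f), K) → K → K →` for a nonzerodivisor `f`
-/

set_option autoImplicit false
universe u
open CategoryTheory CategoryTheory.Limits HomologicalComplex
attribute [local instance] HasDerivedCategory.standard

namespace Groth.Agent.Lib.H6xCoext

open Groth.Agent.Lib.Helper17 Groth.Agent.Lib.H6xRGam

section Quot

variable {A : Type u} [CommRing A] (f : A)

/-- the quotient map `A → A/(f)` -/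
abbrev qm : A →+* A ⧸ Ideal.span {f} := Ideal.Quotient.mk (Ideal.span {f})

variable (X : ModuleCat.{u} A)

/-- the counit `Hom_A(A/(f), X) → X`, `g ↦ g 1` -/
noncomputable abbrev cu : (Fr (qm f)).obj ((Gc (qm f)).obj X) ⟶ X := (adjFG (qm f)).counit.app X

lemma cu_apply (g : (Fr (qm f)).obj ((Gc (qm f)).obj X)) :
    (cu f X).hom g = (ModuleCat.CoextendScalars.equiv (qm f) X g) (1 : A ⧸ Ideal.span {f}) := rfl

lemma one_smul_eq (a : A) :
    (a • (1 : A ⧸ Ideal.span {f}) : (Fr (qm f)).obj (ModuleCat.of (A ⧸ Ideal.span {f}) (A ⧸ Ideal.span {f}))) =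
      qm f a := by
  change qm f a * 1 = qm f a
  rw [mul_one]

lemma equiv_apply_mk (g : (Fr (qm f)).obj ((Gc (qm f)).obj X)) (a : A) :
    (ModuleCat.CoextendScalars.equiv (qm f) X g) (qm f a) =
      a • (ModuleCat.CoextendScalars.equiv (qm f) X g) (1 : A ⧸ Ideal.span {f}) := by
  have h1 := (ModuleCat.CoextendScalars.equiv (qm f) X g).map_smul a (1 : A ⧸ Ideal.span {f})
  convert h1 using 2
  exact (one_smul_eq f a).symm

lemma cu_injective : Function.Injective (cu f X).hom := by
  intro g g' h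
  rw [cu_apply, cu_apply] at h
  apply ModuleCat.CoextendScalars.ext
  apply LinearMap.ext
  intro s
  obtain ⟨a, rfl⟩ := Ideal.Quotient.mk_surjective s
  exact (equiv_apply_mk f X g a).trans ((congrArg (fun t => a • t) h).trans
    (equiv_apply_mk f X g' a).symm)

lemma smul_cu (g : (Fr (qm f)).obj ((Gc (qm f)).obj X)) : f • (cu f X).hom g = 0 := by
  rw [cu_apply, ← equiv_apply_mk]
  have h0 : qm f f = 0 := Ideal.Quotient.eq_zero_iff_mem.2 (Ideal.mem_span_singleton_self f)
  rw [h0]
  exact (ModuleCat.CoextendScalars.equiv (qm f) X g).map_zero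

lemma exists_cu_eq (x : X) (hx : f • x = 0) : ∃ g, (cu f X).hom g = x := by
  have hle : (Ideal.span {f} : Submodule A A) ≤ LinearMap.ker (LinearMap.toSpanSingleton A X x) := by
    intro a ha
    obtain ⟨c, rfl⟩ := Ideal.mem_span_singleton'.1 ha
    rw [LinearMap.mem_ker, LinearMap.toSpanSingleton_apply, mul_smul, hx, smul_zero]
  let g0 : (A ⧸ Ideal.span {f}) →ₗ[A] X :=
    Submodule.liftQ (Ideal.span {f} : Submodule A A) (LinearMap.toSpanSingleton A X x) hle
  let g : (Fr (qm f)).obj (ModuleCat.of (A ⧸ Ideal.span {f}) (A ⧸ Ideal.span {f})) →ₗ[A] X :=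
    { toFun := fun s => g0 s
      map_add' := fun s s' => g0.map_add s s'
      map_smul' := fun a s => by
        obtain ⟨b, rfl⟩ := Ideal.Quotient.mk_surjective s
        have h1 : (a • (Ideal.Quotient.mk (Ideal.span {f}) b :
            (Fr (qm f)).obj (ModuleCat.of (A ⧸ Ideal.span {f}) (A ⧸ Ideal.span {f})))) =
            (a • (Submodule.Quotient.mk b : A ⧸ (Ideal.span {f} : Submodule A A))) := rfl
        change g0 (a • (Ideal.Quotient.mk (Ideal.span {f}) b :
            (Fr (qm f)).obj (ModuleCat.of (A ⧸ Ideal.span {f}) (A ⧸ Ideal.span {f})))) = _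
        rw [h1, g0.map_smul]
        rfl }
  refine ⟨(ModuleCat.CoextendScalars.equiv (qm f) X).symm g, ?_⟩
  rw [cu_apply, LinearEquiv.apply_symm_apply]
  change g0 (Submodule.Quotient.mk (1 : A)) = x
  rw [Submodule.liftQ_apply, LinearMap.toSpanSingleton_apply, one_smul]

lemma smul_surjective_of_injective (hf : f ∈ nonZeroDivisors A) [Module.Injective A X] (x : X) :
    ∃ y : X, f • y = x := by
  have hinj : Function.Injective (LinearMap.mulLeft A f) := by
    intro a b hab
    have h0 : f * (a - b) = 0 := by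
      rw [mul_sub]; exact sub_eq_zero.2 hab
    have := (mem_nonZeroDivisors_iff.1 hf).1 (a - b) h0
    exact sub_eq_zero.1 this
  obtain ⟨h, hh⟩ := Module.Injective.out (R := A) (Q := X) (LinearMap.mulLeft A f) hinj
    (LinearMap.toSpanSingleton A X x)
  refine ⟨h 1, ?_⟩
  have h1 := hh 1
  rw [LinearMap.mulLeft_apply, mul_one, LinearMap.toSpanSingleton_apply, one_smul] at h1
  rw [← h.map_smul, smul_eq_mul, mul_one, h1]

end Quot

section Cx

variable {A : Type u} [CommRing A] (f : A) (J : Cx A)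

/-- `Hom_A(A/(f), J)` as a complex of `A`-modules -/
noncomputable abbrev X₁ : Cx A :=
  ((Fr (qm f)).mapHomologicalComplex (ComplexShape.up ℤ)).obj
    (((Gc (qm f)).mapHomologicalComplex (ComplexShape.up ℤ)).obj J)

noncomputable def ιJ : X₁ f J ⟶ J where
  f n := cu f (J.X n)
  comm' i j _ := (adjFG (qm f)).counit.naturality (J.d i j)

noncomputable def sesJ : ShortComplex (Cx A) :=
  ShortComplex.mk (ιJ f J) (f • 𝟙 J) (by
    apply HomologicalComplex.hom_ext
    intro n
    apply ModuleCat.hom_ext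
    apply LinearMap.ext
    intro g
    exact smul_cu f (J.X n) g)

lemma sesJ_shortExact (hf : f ∈ nonZeroDivisors A) (hJ : ∀ n, Module.Injective A (J.X n)) :
    (sesJ f J).ShortExact := by
  apply HomologicalComplex.shortExact_of_degreewise_shortExact
  intro n
  haveI := hJ n
  refine ShortComplex.ShortExact.mk' ?_ ?_ ?_
  · rw [ShortComplex.moduleCat_exact_iff]
    intro x hx
    exact exists_cu_eq f (J.X n) x hx
  · exact (ModuleCat.mono_iff_injective _).2 (cu_injective f (J.X n))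
  · refine (ModuleCat.epi_iff_surjective _).2 ?_
    intro x
    exact smul_surjective_of_injective f (J.X n) hf x

end Cx


section Main

open Pretriangulated

variable {A : Type u} [CommRing A] (f : A)

theorem exists_triangle_of_nonZeroDivisor (hf : f ∈ nonZeroDivisors A)
    (R : Dual.D A ⥤ Dual.D (A ⧸ Ideal.span {f})) (adj : DRing.restrictD (qm f) ⊣ R)
    (K : Dual.D A) :
    ∃ (u : (DRing.restrictD (qm f)).obj (R.obj K) ⟶ K)
      (w : K ⟶ ((DRing.restrictD (qm f)).obj (R.obj K))⟦(1 : ℤ)⟧),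
      Triangle.mk u (f • 𝟙 K) w ∈ distinguishedTriangles := by
  obtain ⟨RG, β, hβ⟩ := exists_RG (qm f)
  let adj' : DRing.restrictD (qm f) ⊣ RG :=
    KInj.derivedAdjunction.{u} (Fr (qm f)) (Gc (qm f)) (adjFG (qm f)) RG β
  let iso0 : R ≅ RG := adj.rightAdjointUniq adj'
  obtain ⟨J, hJ, hinj, ⟨e⟩⟩ := exists_kInj_iso K
  haveI := hJ
  haveI : IsIso (β.app J) := KInj.isIso_app_of_isKInjective.{u} (Gc (qm f)) RG β J
  let e₁ : (DRing.restrictD (qm f)).obj (R.obj K) ≅ DerivedCategory.Q.obj (X₁ f J) :=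
    (DRing.restrictD (qm f)).mapIso (iso0.app K ≪≫ RG.mapIso e ≪≫ (asIso (β.app J)).symm) ≪≫
      (Fr (qm f)).mapDerivedCategoryFactors.app _
  have hS := sesJ_shortExact f J hf hinj
  obtain ⟨δ, hT⟩ : ∃ δ : DerivedCategory.Q.obj J ⟶ (DerivedCategory.Q.obj (X₁ f J))⟦(1 : ℤ)⟧,
      Triangle.mk (DerivedCategory.Q.map (ιJ f J)) (DerivedCategory.Q.map (f • 𝟙 J)) δ ∈
        distinguishedTriangles :=
    ⟨DerivedCategory.triangleOfSESδ hS, DerivedCategory.triangleOfSES_distinguished hS⟩
  refine ⟨e₁.hom ≫ DerivedCategory.Q.map (ιJ f J) ≫ e.inv,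
    e.hom ≫ δ ≫ (shiftFunctor (Dual.D A) (1 : ℤ)).map e₁.inv, ?_⟩
  refine isomorphic_distinguished _ hT _ ?_
  refine Triangle.isoMk _ _ e₁ e e ?_ ?_ ?_
  · change (e₁.hom ≫ DerivedCategory.Q.map (ιJ f J) ≫ e.inv) ≫ e.hom =
      e₁.hom ≫ DerivedCategory.Q.map (ιJ f J)
    rw [Category.assoc, Category.assoc, Iso.inv_hom_id, Category.comp_id]
  · change (f • 𝟙 K) ≫ e.hom = e.hom ≫ DerivedCategory.Q.map (f • 𝟙 J)
    rw [Functor.map_smul, CategoryTheory.Functor.map_id, Linear.smul_comp, Linear.comp_smul,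
      Category.id_comp, Category.comp_id]
  · change (e.hom ≫ δ ≫
        (shiftFunctor (Dual.D A) (1 : ℤ)).map e₁.inv) ≫ (shiftFunctor (Dual.D A) (1 : ℤ)).map e₁.hom =
      e.hom ≫ δ
    rw [Category.assoc, Category.assoc, ← Functor.map_comp, Iso.inv_hom_id,
      CategoryTheory.Functor.map_id, Category.comp_id]

end Main

end Groth.Agent.Lib.H6xCoext
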