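import Mathlib
import Groth.Agent.Lib.Helper8ExtBC

/-!
# `Ext` into Artinian modules (helper6)

* `ext_smul_eq_zero_of_left/right`: `Ext^i(X, Y)` is killed by the annihilators of `X` and `Y`.
* `isArtinian_ext`: `Ext^i(N, A)` is Artinian for `N` finite and `A` Artinian (Noetherian ring).
* `isFiniteLength_of_isArtinian_of_pow_le`: an Artinian module over a Noetherian local ring killed
  by a power of the maximal ideal has finite length.
* `isFiniteLength_ext_of_exact`: finite length in the middle of the covariant long exact sequence.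
-/

set_option autoImplicit false
universe u

namespace Groth.Agent.Lib.H6xCofin

open CategoryTheory CategoryTheory.Abelian IsLocalRing
open Groth.Agent.Lib.Helper8.ExtBC

section Smul

variable {R : Type u} [CommRing R]

theorem ext_smul_eq_zero_of_right {X Y : ModuleCat.{u} R} (r : R) (h : ∀ y : Y, r • y = 0) {i : ℕ}
    (e : Ext.{u} X Y i) : r • e = 0 := by
  rw [Ext.smul_eq_comp_mk₀]
  have h0 : (r • 𝟙 Y : Y ⟶ Y) = 0 := by
    apply ModuleCat.hom_ext
    apply LinearMap.ext
    intro y
    exact h y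
  rw [h0, Ext.mk₀_zero, Ext.comp_zero]

theorem ext_smul_eq_zero_of_left {X Y : ModuleCat.{u} R} (r : R) (h : ∀ x : X, r • x = 0) {i : ℕ}
    (e : Ext.{u} X Y i) : r • e = 0 := by
  have h1 : e = (Ext.mk₀ (𝟙 X)).comp e (zero_add i) := by simp
  rw [h1, ← Ext.smul_comp, ← Ext.mk₀_smul]
  have h0 : (r • 𝟙 X : X ⟶ X) = 0 := by
    apply ModuleCat.hom_ext
    apply LinearMap.ext
    intro x
    exact h x
  rw [h0, Ext.mk₀_zero, Ext.zero_comp]

theorem ext_subsingleton_of_subsingleton_right {X Y : ModuleCat.{u} R} [Subsingleton Y] (i : ℕ) :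
    Subsingleton (Ext.{u} X Y i) := by
  refine ⟨fun a b => ?_⟩
  have key : ∀ e : Ext.{u} X Y i, e = 0 := by
    intro e
    have := ext_smul_eq_zero_of_right (1 : R) (fun y : Y => Subsingleton.elim _ _) e
    rwa [one_smul] at this
  rw [key a, key b]

end Smul

section Art

variable {R : Type u} [CommRing R]

theorem isArtinian_hom (N A : Type u) [AddCommGroup N] [Module R N] [Module.Finite R N]
    [AddCommGroup A] [Module R A] [IsArtinian R A] : IsArtinian R (N →ₗ[R] A) := by
  classical
  obtain ⟨b, p, hp⟩ := Module.Finite.exists_fin' R N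
  let ψ : (N →ₗ[R] A) →ₗ[R] (Fin b → A) :=
    LinearMap.pi (fun j => LinearMap.applyₗ (p (Pi.single j 1)))
  have hψ : Function.Injective ψ := by
    rw [← LinearMap.ker_eq_bot, LinearMap.ker_eq_bot']
    intro g hg
    have h1 : ∀ j, g (p (Pi.single j 1)) = 0 := fun j => congrFun hg j
    have h2 : g ∘ₗ p = 0 := by
      apply LinearMap.pi_ext'
      intro j
      apply LinearMap.ext_ring
      simpa using h1 j
    apply LinearMap.ext
    intro x
    obtain ⟨y, rfl⟩ := hp x
    exact LinearMap.congr_fun h2 y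
  exact isArtinian_of_injective ψ hψ

variable [IsNoetherianRing R] (A : Type u) [AddCommGroup A] [Module R A] [IsArtinian R A]

omit [IsNoetherianRing R] in
theorem isArtinian_ext_zero (N : Type u) [AddCommGroup N] [Module R N] [Module.Finite R N] :
    IsArtinian R (Ext.{u} (ModuleCat.of R N) (ModuleCat.of R A) 0) := by
  haveI : IsArtinian R (↑(ModuleCat.of R N) →ₗ[R] ↑(ModuleCat.of R A)) := isArtinian_hom N A
  exact isArtinian_of_linearEquiv (ext0 (ModuleCat.of R N) (ModuleCat.of R A)).symm

theorem isArtinian_ext_one (N : Type u) [AddCommGroup N] [Module R N] [Module.Finite R N] :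
    IsArtinian R (Ext.{u} (ModuleCat.of R N) (ModuleCat.of R A) 1) := by
  obtain ⟨b, p, hp⟩ := Module.Finite.exists_fin' R N
  let Sh := p.shortComplexKer
  have hSh : Sh.ShortExact := LinearMap.shortExact_shortComplexKer hp
  have : Projective Sh.X₂ := (inferInstance : Projective (ModuleCat.of R (Fin b → R)))
  haveI : IsArtinian R (Ext.{u} Sh.X₁ (ModuleCat.of R A) 0) :=
    isArtinian_ext_zero A (LinearMap.ker p)
  exact isArtinian_of_surjective _ (δ Sh hSh (ModuleCat.of R A) 0 1 (add_zero 1))
    (δ_surjective Sh hSh (ModuleCat.of R A) 0)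

theorem isArtinian_ext : ∀ (i : ℕ) (N : Type u) [AddCommGroup N] [Module R N] [Module.Finite R N],
    IsArtinian R (Ext.{u} (ModuleCat.of R N) (ModuleCat.of R A) i) := by
  intro i
  cases i with
  | zero => exact fun N _ _ _ => isArtinian_ext_zero A N
  | succ n =>
    induction n with
    | zero => exact fun N _ _ _ => isArtinian_ext_one A N
    | succ n ih =>
      intro N _ _ _
      obtain ⟨b, p, hp⟩ := Module.Finite.exists_fin' R N
      let Sh := p.shortComplexKer
      have hSh : Sh.ShortExact := LinearMap.shortExact_shortComplexKer hp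
      have : Projective Sh.X₂ := (inferInstance : Projective (ModuleCat.of R (Fin b → R)))
      haveI : IsArtinian R (Ext.{u} Sh.X₁ (ModuleCat.of R A) (n + 1)) := ih (LinearMap.ker p)
      exact isArtinian_of_linearEquiv (δEquiv Sh hSh (ModuleCat.of R A) n)

end Art

section FinLen

variable {R : Type u} [CommRing R] [IsNoetherianRing R] [IsLocalRing R]

theorem isFiniteLength_of_isArtinian_of_pow_le (X : Type u) [AddCommGroup X] [Module R X]
    [IsArtinian R X] (k : ℕ) (hk : maximalIdeal R ^ k ≤ Module.annihilator R X) :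
    IsFiniteLength R X := by
  rw [isFiniteLength_iff_isNoetherian_isArtinian]
  refine ⟨?_, inferInstance⟩
  cases k with
  | zero =>
    rw [pow_zero, Ideal.one_eq_top, top_le_iff] at hk
    haveI : Subsingleton X := by
      refine ⟨fun a b => ?_⟩
      have h1 : ∀ x : X, x = 0 := by
        intro x
        have : (1 : R) ∈ Module.annihilator R X := hk ▸ Submodule.mem_top
        simpa using Module.mem_annihilator.mp this x
      rw [h1 a, h1 b]
    infer_instance
  | succ n =>
    let m := maximalIdeal R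
    have hne : m ^ (n + 1) ≠ ⊤ := by
      intro htop
      have : m ^ (n + 1) ≤ m := Ideal.pow_le_self (Nat.succ_ne_zero n)
      rw [htop] at this
      exact (IsLocalRing.maximalIdeal.isMaximal R).ne_top (top_le_iff.mp this)
    haveI : Nontrivial (R ⧸ m ^ (n + 1)) := Ideal.Quotient.nontrivial_iff.mpr hne
    haveI : IsLocalRing (R ⧸ m ^ (n + 1)) :=
      IsLocalRing.of_surjective' (Ideal.Quotient.mk _) Ideal.Quotient.mk_surjective
    haveI : IsArtinianRing (R ⧸ m ^ (n + 1)) := by
      apply IsLocalRing.quotient_artinian_of_mem_minimalPrimes_of_isLocalRing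
      refine ⟨⟨inferInstance, Ideal.pow_le_self (Nat.succ_ne_zero n)⟩, ?_⟩
      rintro q ⟨hq, hle⟩ -
      exact hq.le_of_pow_le hle
    have hT : Module.IsTorsionBySet R X ((m ^ (n + 1) : Ideal R) : Set R) :=
      fun x a => Module.mem_annihilator.mp (hk a.2) x
    letI := hT.module
    have hA : IsArtinian (R ⧸ m ^ (n + 1)) X :=
      (hT.semilinearMap.isArtinian_iff_of_bijective Function.bijective_id).mp inferInstance
    have hN : IsNoetherian (R ⧸ m ^ (n + 1)) X :=
      ((IsArtinianRing.tfae (R ⧸ m ^ (n + 1)) X).out 2 1).mp hA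
    exact (hT.semilinearMap.isNoetherian_iff_of_bijective Function.bijective_id).mpr hN

end FinLen

section LES

variable {R : Type u} [CommRing R]

/-- Finite length passes to the middle term of `Ext^i(X, -)` of a short exact sequence. -/
theorem isFiniteLength_ext_of_shortExact (X : ModuleCat.{u} R)
    {S : ShortComplex (ModuleCat.{u} R)} (hS : S.ShortExact) (i : ℕ)
    (h1 : IsFiniteLength R (Ext.{u} X S.X₁ i)) (h3 : IsFiniteLength R (Ext.{u} X S.X₃ i)) :
    IsFiniteLength R (Ext.{u} X S.X₂ i) := by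
  rw [isFiniteLength_iff_isNoetherian_isArtinian] at h1 h3 ⊢
  obtain ⟨h1n, h1a⟩ := h1
  obtain ⟨h3n, h3a⟩ := h3
  let φ₁ : Ext.{u} X S.X₁ i →ₗ[R] Ext.{u} X S.X₂ i :=
    Ext.postcompOfLinear (Ext.mk₀ S.f) R X (add_zero i)
  let φ₂ : Ext.{u} X S.X₂ i →ₗ[R] Ext.{u} X S.X₃ i :=
    Ext.postcompOfLinear (Ext.mk₀ S.g) R X (add_zero i)
  have hex : LinearMap.range φ₁ = LinearMap.ker φ₂ := by
    apply le_antisymm
    · rintro _ ⟨x, rfl⟩
      rw [LinearMap.mem_ker]
      change (x.comp (Ext.mk₀ S.f) (add_zero i)).comp (Ext.mk₀ S.g) (add_zero i) = 0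
      rw [Ext.comp_assoc_of_third_deg_zero, Ext.mk₀_comp_mk₀, S.zero, Ext.mk₀_zero, Ext.comp_zero]
    · intro x hx
      rw [LinearMap.mem_ker] at hx
      obtain ⟨x₁, hx₁⟩ := Ext.covariant_sequence_exact₂ X hS x hx
      exact ⟨x₁, hx₁⟩
  exact ⟨isNoetherian_of_range_eq_ker φ₁ φ₂ hex, isArtinian_of_range_eq_ker φ₁ φ₂ hex⟩

end LES

end Groth.Agent.Lib.H6xCofin
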