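import Groth.Agent.Lib.H6xCofinA
import Groth.Agent.Lib.H6xCoassC
import Groth.Agent.S3262

/-!
# Cofiniteness of top local cohomology over a complete local ring (helper6)
-/

set_option autoImplicit false
universe u

namespace Groth.Agent.Lib.H6xCofin

open CategoryTheory CategoryTheory.Abelian IsLocalRing
open Groth.Agent.Lib.Helper8.LC Groth.Agent.Lib.H6xCoass

section Good

variable {R : Type u} [CommRing R]

variable (R) in
/-- `A` is Artinian and `Ext^i(N, Q)` has finite length for every quotient `Q` of `A`. -/
def Good (N : Type u) [AddCommGroup N] [Module R N] (A : Type u) [AddCommGroup A] [Module R A] :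
    Prop :=
  IsArtinian R A ∧ ∀ (Q : Type u) [AddCommGroup Q] [Module R Q] (π : A →ₗ[R] Q),
    Function.Surjective π →
      ∀ i : ℕ, IsFiniteLength R (Ext.{u} (ModuleCat.of R N) (ModuleCat.of R Q) i)

variable {N : Type u} [AddCommGroup N] [Module R N]
  {A B C : Type u} [AddCommGroup A] [Module R A] [AddCommGroup B] [Module R B]
  [AddCommGroup C] [Module R C]

theorem Good.of_surjective (h : Good R N A) (π : A →ₗ[R] B) (hπ : Function.Surjective π) :
    Good R N B := by
  haveI := h.1
  refine ⟨isArtinian_of_surjective A π hπ, ?_⟩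
  intro Q _ _ ρ hρ i
  exact h.2 Q (ρ ∘ₗ π) (hρ.comp hπ) i

theorem Good.of_subsingleton [Subsingleton A] : Good R N A := by
  refine ⟨inferInstance, ?_⟩
  intro Q _ _ π hπ i
  haveI : Subsingleton Q := hπ.subsingleton
  haveI : Subsingleton (ModuleCat.of R Q) := ‹Subsingleton Q›
  haveI := ext_subsingleton_of_subsingleton_right (X := ModuleCat.of R N)
    (Y := ModuleCat.of R Q) i
  exact IsFiniteLength.of_subsingleton

theorem Good.of_exact (hB : Good R N B) (hC : Good R N C) (f : B →ₗ[R] A) (g : A →ₗ[R] C)
    (hex : Function.Exact f g) (hg : Function.Surjective g) : Good R N A := by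
  haveI := hB.1
  haveI := hC.1
  refine ⟨isArtinian_of_range_eq_ker f g hex.linearMap_ker_eq.symm, ?_⟩
  intro Q _ _ π hπ i
  let B' : Submodule R Q := LinearMap.range (π ∘ₗ f)
  have h1 := hB.2 B' (π ∘ₗ f).rangeRestrict (LinearMap.surjective_rangeRestrict _) i
  let ρ : A →ₗ[R] Q ⧸ B' := B'.mkQ ∘ₗ π
  have hρ : LinearMap.ker g ≤ LinearMap.ker ρ := by
    intro a ha
    obtain ⟨b, rfl⟩ := (hex a).mp ha
    rw [LinearMap.mem_ker]
    change B'.mkQ (π (f b)) = 0
    rw [Submodule.mkQ_apply, Submodule.Quotient.mk_eq_zero]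
    exact ⟨b, rfl⟩
  let σ : C →ₗ[R] Q ⧸ B' :=
    (LinearMap.ker g).liftQ ρ hρ ∘ₗ (g.quotKerEquivOfSurjective hg).symm.toLinearMap
  have hσ : Function.Surjective σ := by
    intro z
    obtain ⟨q, rfl⟩ := B'.mkQ_surjective z
    obtain ⟨a, rfl⟩ := hπ q
    refine ⟨g a, ?_⟩
    change (LinearMap.ker g).liftQ ρ hρ ((g.quotKerEquivOfSurjective hg).symm (g a)) = _
    have : (g.quotKerEquivOfSurjective hg).symm (g a) = (LinearMap.ker g).mkQ a := by
      rw [LinearEquiv.symm_apply_eq]
      rfl
    rw [this, Submodule.mkQ_apply, Submodule.liftQ_apply]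
    rfl
  have h3 := hC.2 (Q ⧸ B') σ hσ i
  have hS := Sfg_shortExact B'.subtype B'.mkQ (Submodule.injective_subtype _)
    (Submodule.mkQ_surjective _) (LinearMap.exact_subtype_mkQ _)
  exact isFiniteLength_ext_of_shortExact (ModuleCat.of R N) hS i h1 h3

theorem Good.of_pow_le [IsNoetherianRing R] [IsLocalRing R] [Module.Finite R N] [IsArtinian R A]
    (k : ℕ) (hk : maximalIdeal R ^ k ≤ Module.annihilator R N ⊔ Module.annihilator R A) :
    Good R N A := by
  refine ⟨inferInstance, ?_⟩
  intro Q _ _ π hπ i
  haveI : IsArtinian R Q := isArtinian_of_surjective A π hπ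
  haveI := isArtinian_ext (R := R) Q i N
  refine isFiniteLength_of_isArtinian_of_pow_le _ k (hk.trans ?_)
  refine sup_le ?_ ?_
  · intro r hr
    rw [Module.mem_annihilator]
    intro e
    exact ext_smul_eq_zero_of_left r (fun x => Module.mem_annihilator.mp hr x) e
  · intro r hr
    rw [Module.mem_annihilator]
    intro e
    refine ext_smul_eq_zero_of_right r (fun y => ?_) e
    obtain ⟨a, rfl⟩ := hπ y
    change r • π a = 0
    rw [← map_smul, Module.mem_annihilator.mp hr a, map_zero]

end Good

section Main

variable {R : Type u} [CommRing R] [IsNoetherianRing R] [IsLocalRing R]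
  [IsAdicComplete (maximalIdeal R) R] (I : Ideal R) (n : ℕ)
  (N : Type u) [AddCommGroup N] [Module R N] [Module.Finite R N]
  (hN : I ≤ Module.annihilator R N)

include hN in
theorem good_H_of_complete (M : Type u) [AddCommGroup M] [Module R M] [hfin : Module.Finite R M]
    (hM : Module.supportDim R M ≤ n) : Good R N (LocCoh.H I n M) := by
  refine IsNoetherianRing.induction_on_isQuotientEquivQuotientPrime R (M := M) hfin
    (motive := fun M _ _ _ => Module.supportDim R M ≤ n → Good R N (LocCoh.H I n M)) ?_ ?_ ?_ hM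
  · intro M _ _ _ _ _
    haveI : Subsingleton (LocCoh.H I n M) := by
      apply Groth.Agent.S11625.result R I M n
      rw [Module.supportDim_eq_bot_of_subsingleton]
      exact WithBot.bot_lt_coe _
    exact Good.of_subsingleton
  · intro M _ _ _ p e hM
    by_cases hlt : Module.supportDim R M < n
    · haveI : Subsingleton (LocCoh.H I n M) := Groth.Agent.S11625.result R I M n hlt
      exact Good.of_subsingleton
    have hsd : Module.supportDim R M = n := le_antisymm hM (not_lt.mp hlt)
    haveI := p.2
    have hdim : ringKrullDim (R ⧸ p.1) = n := by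
      rw [← Module.supportDim_quotient_eq_ringKrullDim, ← Module.supportDim_eq_of_equiv e, hsd]
    by_cases hrad : (I ⊔ p.1).radical = maximalIdeal R
    · haveI : Nontrivial M := by
        rw [← Module.supportDim_ne_bot_iff_nontrivial R, hsd]
        exact WithBot.coe_ne_bot
      haveI : IsArtinian R (LocCoh.H I n M) := Groth.Agent.S3262.result R I M n hsd
      obtain ⟨k, hk⟩ := Ideal.exists_radical_pow_le_of_fg (I ⊔ p.1)
        (IsNoetherian.noetherian _)
      rw [hrad] at hk
      refine Good.of_pow_le k (hk.trans (sup_le_sup hN ?_))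
      intro a ha
      rw [Module.mem_annihilator]
      intro x
      refine smul_H_eq_zero_of_smul_eq_zero I n a M (fun m => ?_) x
      apply e.injective
      rw [map_smul, map_zero]
      obtain ⟨r, hr⟩ := Ideal.Quotient.mk_surjective (e m)
      rw [← hr, ← Ideal.Quotient.algebraMap_eq, Algebra.smul_def, ← map_mul,
        Ideal.Quotient.algebraMap_eq, Ideal.Quotient.eq_zero_iff_mem]
      exact Ideal.mul_mem_right _ _ ha
    · haveI : Subsingleton (LocCoh.H I n (R ⧸ p.1)) :=
        H_subsingleton_of_radical_ne I p.1 (R ⧸ p.1) n hdim hrad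
      haveI : Subsingleton (LocCoh.H I n M) :=
        ((localCohomology I n).mapIso (LinearEquiv.toModuleIso e)).toLinearEquiv.toEquiv.subsingleton
      exact Good.of_subsingleton
  · intro M₁ _ _ _ M₂ _ _ _ M₃ _ _ _ f g hf hg hex h₁ h₃ hM
    have hM₁ : Module.supportDim R M₁ ≤ n := (Module.supportDim_le_of_injective f hf).trans hM
    have hM₃ : Module.supportDim R M₃ ≤ n := (Module.supportDim_le_of_surjective g hg).trans hM
    have hS := Sfg_shortExact f g hf hg hex
    refine Good.of_exact (h₁ hM₁) (h₃ hM₃)
      ((localCohomology I n).map (ModuleCat.ofHom f)).hom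
      ((localCohomology I n).map (ModuleCat.ofHom g)).hom ?_ ?_
    · intro y
      constructor
      · intro hy
        obtain ⟨x, hx⟩ := H_exact₂ I n _ hS y hy
        exact ⟨x, hx⟩
      · rintro ⟨x, rfl⟩
        change ((localCohomology I n).map (ModuleCat.ofHom f) ≫
          (localCohomology I n).map (ModuleCat.ofHom g)).hom x = 0
        rw [← Functor.map_comp]
        have h0 : ModuleCat.ofHom f ≫ ModuleCat.ofHom g = 0 := (Sfg f g hex).zero
        rw [h0]
        exact H_map_zero I n x
    · refine H_map_surjective I n g hg ?_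
      refine lt_of_le_of_lt (Module.supportDim_le_of_injective (Submodule.subtype _)
        (Submodule.injective_subtype _)) (lt_of_le_of_lt hM ?_)
      exact_mod_cast Nat.lt_succ_self n

end Main

end Groth.Agent.Lib.H6xCofin
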