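import Groth.Agent.Lib.H6xCofinB
import Groth.Agent.Lib.H6xCanComplC
import Groth.Agent.Lib.Helper28ComplCat
import Groth.Agent.Lib.Helper18Ann3
import Groth.Agent.S11617

/-!
# Cofiniteness of top local cohomology: reduction to the complete case (helper6)
-/

set_option autoImplicit false
universe u

namespace Groth.Agent.Lib.H6xCofin

open CategoryTheory CategoryTheory.Abelian IsLocalRing TensorProduct
open Groth.Agent.Lib.Helper8.LC Groth.Agent.Lib.H6xCoass

section Descent

variable {R S : Type*} [CommRing R] [CommRing S] [Algebra R S] [Module.FaithfullyFlat R S]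
  (X : Type*) [AddCommGroup X] [Module R X]

theorem mem_of_tmul_mem_baseChange (p : Submodule R X) (x : X)
    (hx : (1 : S) ⊗ₜ[R] x ∈ p.baseChange S) : x ∈ p := by
  obtain ⟨y, hy⟩ := hx
  have h0 : (p.mkQ.baseChange S) ((1 : S) ⊗ₜ[R] x) = 0 := by
    rw [← hy, ← LinearMap.comp_apply, ← LinearMap.baseChange_comp]
    have : p.mkQ ∘ₗ p.subtype = 0 := by
      apply LinearMap.ext
      intro z
      simp
    rw [this, LinearMap.baseChange_zero, LinearMap.zero_apply]
  rw [LinearMap.baseChange_tmul] at h0
  have hinj := Module.FaithfullyFlat.tensorProduct_mk_injective (A := R) (B := S) (X ⧸ p)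
  have h1 : p.mkQ x = 0 := by
    apply hinj
    rw [map_zero]
    exact h0
  rwa [Submodule.mkQ_apply, Submodule.Quotient.mk_eq_zero] at h1

theorem strictMono_baseChange :
    StrictMono (fun p : Submodule R X => p.baseChange S) := by
  intro p q hpq
  refine lt_of_le_of_ne (Submodule.baseChange_mono S hpq.le) ?_
  intro heq
  apply hpq.not_ge
  intro x hx
  apply mem_of_tmul_mem_baseChange (S := S) X p x
  change (1 : S) ⊗ₜ[R] x ∈ (fun p : Submodule R X => p.baseChange S) p
  rw [heq]
  exact Submodule.tmul_mem_baseChange_of_mem 1 hx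

theorem isFiniteLength_of_baseChange (h : IsFiniteLength S (S ⊗[R] X)) : IsFiniteLength R X := by
  rw [isFiniteLength_iff_isNoetherian_isArtinian] at h ⊢
  obtain ⟨hn, ha⟩ := h
  constructor
  · rw [isNoetherian_iff'] at hn ⊢
    exact (strictMono_baseChange (S := S) X).wellFoundedGT
  · exact (strictMono_baseChange (S := S) X).wellFoundedLT

end Descent

section Compl

variable (R : Type u) [CommRing R] [IsNoetherianRing R] [IsLocalRing R]

theorem supportDim_completion_le (M : Type u) [AddCommGroup M] [Module R M] [Module.Finite R M]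
    [Nontrivial M] :
    Module.supportDim (AdicCompletion (maximalIdeal R) R)
      (AdicCompletion (maximalIdeal R) R ⊗[R] M) ≤ Module.supportDim R M := by
  rw [Module.supportDim_eq_ringKrullDim_quotient_annihilator,
    Module.supportDim_eq_ringKrullDim_quotient_annihilator,
    Groth.Agent.Helper18Ann.annihilator_baseChange]
  have hne : Module.annihilator R M ≠ ⊤ := by
    intro htop
    obtain ⟨x, hx⟩ := exists_ne (0 : M)
    apply hx
    have h1 : (1 : R) ∈ Module.annihilator R M := htop ▸ Submodule.mem_top
    simpa using Module.mem_annihilator.mp h1 x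
  rw [Groth.Agent.Lib.H6xCanCompl.ringKrullDim_completion_quotient R _ hne]

theorem isFiniteLength_ext_H (I : Ideal R) (M : Type u) [AddCommGroup M] [Module R M]
    [Module.Finite R M] (n : ℕ) (hn : Module.supportDim R M = n) (i : ℕ) :
    IsFiniteLength R (Ext.{u} (ModuleCat.of R (R ⧸ I)) (ModuleCat.of R (LocCoh.H I n M)) i) := by
  haveI : Nontrivial M := by
    rw [← Module.supportDim_ne_bot_iff_nontrivial R, hn]
    exact WithBot.coe_ne_bot
  haveI : Module.FaithfullyFlat R (AdicCompletion (maximalIdeal R) R) :=
    Module.FaithfullyFlat.of_flat_of_isLocalHom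
  haveI := Groth.Agent.Lib.Helper28.isAdicComplete_maximalIdeal_adicCompletion R
  have hM' : Module.supportDim (AdicCompletion (maximalIdeal R) R)
      (AdicCompletion (maximalIdeal R) R ⊗[R] M) ≤ n := by
    rw [← hn]
    exact supportDim_completion_le R M
  have hN' : I.map (algebraMap R (AdicCompletion (maximalIdeal R) R)) ≤
      Module.annihilator (AdicCompletion (maximalIdeal R) R)
        (AdicCompletion (maximalIdeal R) R ⊗[R] (R ⧸ I)) := by
    rw [Ideal.map_le_iff_le_comap]
    intro a ha
    rw [Ideal.mem_comap, Module.mem_annihilator]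
    intro z
    rw [algebraMap_smul]
    induction z using TensorProduct.induction_on with
    | zero => rw [smul_zero]
    | add x y hx hy => rw [smul_add, hx, hy, add_zero]
    | tmul s x =>
      rw [TensorProduct.smul_tmul', TensorProduct.smul_tmul]
      have : a • x = 0 := by
        obtain ⟨r, rfl⟩ := Ideal.Quotient.mk_surjective x
        rw [← Ideal.Quotient.algebraMap_eq, Algebra.smul_def, ← map_mul,
          Ideal.Quotient.algebraMap_eq, Ideal.Quotient.eq_zero_iff_mem]
        exact Ideal.mul_mem_right _ _ ha
      rw [this, TensorProduct.tmul_zero]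
  have hgood := good_H_of_complete (I.map (algebraMap R (AdicCompletion (maximalIdeal R) R))) n
    (AdicCompletion (maximalIdeal R) R ⊗[R] (R ⧸ I)) hN'
    (AdicCompletion (maximalIdeal R) R ⊗[R] M) hM'
  obtain ⟨e5⟩ := Groth.Agent.S11617.result R (AdicCompletion (maximalIdeal R) R) I M n
  have h1 := hgood.2 (AdicCompletion (maximalIdeal R) R ⊗[R] LocCoh.H I n M)
    e5.symm.toLinearMap e5.symm.surjective i
  obtain ⟨e⟩ := Groth.Agent.Lib.Helper8.ExtBC.ext_baseChange R (AdicCompletion (maximalIdeal R) R)
    (LocCoh.H I n M) i (R ⧸ I)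
  exact isFiniteLength_of_baseChange (S := AdicCompletion (maximalIdeal R) R) _
    (e.symm.isFiniteLength h1)

end Compl

end Groth.Agent.Lib.H6xCofin
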