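import Groth.Agent.Lib.R2H2LerayNat

/-!
# Naturality of the Čech-to-derived comparison, family version (helper2, round 2)

The isomorphisms `Ȟ^p(𝒰, M) ≃+ H^p(X, M)` can be chosen simultaneously for all quasi-coherent `M`,
compatibly with all morphisms of the underlying abelian sheaves.
-/

set_option autoImplicit false
set_option linter.unusedSectionVars false
universe u

namespace Groth.Agent.Lib.R2H2.LerayNat2

open CategoryTheory CategoryTheory.Limits Opposite TopologicalSpace Abelian CechEdge
open Groth.Agent.Lib.Helper16.CechLow Groth.Agent.Lib.Helper16.CechH1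
  Groth.Agent.Lib.Helper16.CechCmp Groth.Agent.Lib.Helper16.CechLES
  Groth.Agent.Lib.R2H2.LerayNat

section Top

variable {X : TopCat.{u}}

open Groth.Agent.Lib.Helper23.AffVanish in
lemma exists_HU_equiv_family (p : ℕ) (V : Opens X) (hV : V = ⊤) :
    ∃ e3 : ∀ F : CohTop.Ab X, CohTop.HU F p V ≃+ CohTop.H F p,
      ∀ (F G : CohTop.Ab X) (ψ : F ⟶ G) (x : CohTop.HU F p V),
        e3 G (CohTop.HUmap ψ p V x) = Sheaf.H.map ψ p (e3 F x) := by
  subst hV
  exact ⟨fun F => HETopEquivH X F p, fun F G ψ x => HETopEquivH_natural ψ p x⟩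

/-- the hypothesis of Leray's theorem for a cover -/
def Leray (F : CohTop.Ab X) {ι : Type u} (U : ι → Opens X) : Prop :=
  ∀ (p : ℕ) (a : Fin (p + 1) → ι) (q : ℕ),
    Subsingleton (CohTop.HU F (q + 1) (iInf fun k => U (a k)))

/-- the Čech-to-derived isomorphisms on a space, compatible with all morphisms -/
theorem exists_natural_top_family {ι : Type u} (U : ι → Opens X) (hcov : iSup U = ⊤) (p : ℕ) :
    ∃ e : ∀ (F : CohTop.Ab X), Leray F U → (CohTop.cechH F.obj U p ≃+ CohTop.H F p),
      ∀ (F G : CohTop.Ab X) (hF : Leray F U) (hG : Leray G U) (ψ : F ⟶ G)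
        (x : CohTop.cechH F.obj U p),
        e G hG (HomologicalComplex.homologyMap ((cechComplexFunctor U).map ψ.hom) p x) =
          Sheaf.H.map ψ p (e F hF x) := by
  let Y := fam U (iSup U) (le_iSup U)
  have hY : Sieve.ofArrows (fun i => (Y i).left) (fun i => (Y i).hom) ∈
      Opens.grothendieckTopology X (iSup U) := covering_of_iSup Y le_rfl
  have hh : ∀ (F : CohTop.Ab X), Leray F U → ∀ (p : ℕ) (a : Fin (p + 1) → ι) (q : ℕ),
      Subsingleton (CohSite.HU F (q + 1) (∏ᶜ fun k => Y (a k)).left) := by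
    intro F h p a q
    have e : (∏ᶜ fun k => Y (a k)).left = iInf fun k => U (a k) := by
      rw [← Groth.Agent.S0493.prod_eq_iInf]
      exact le_antisymm (left_le Y a) (le_left Y a)
    rw [e]
    exact h p a q
  obtain ⟨ed, hed⟩ := Groth.Agent.S16019.result (Opens.grothendieckTopology X) Y hY
  have bij := fun (F : CohTop.Ab X) (hF : Leray F U) =>
    Groth.Agent.S16022.result (Opens.grothendieckTopology X) Y ed hed F (hh F hF) p
  obtain ⟨e3, he3⟩ := exists_HU_equiv_family (X := X) p (iSup U) hcov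
  let e1 : ∀ F : CohTop.Ab X, CohTop.cechH F.obj U p ≃+ CohCx.cechH F.obj Y p := fun F =>
    (isoH F.obj Y p).addCommGroupIsoToAddEquiv
  let e2 : ∀ (F : CohTop.Ab X), Leray F U → (CohCx.cechH F.obj Y p ≃+ CohSite.HU F p (iSup U)) :=
    fun F hF => AddEquiv.ofBijective (edgeSh ed F p) (bij F hF)
  refine ⟨fun F hF => (e1 F).trans ((e2 F hF).trans (e3 F)), fun F G hF hG ψ x => ?_⟩
  change e3 G (edgeSh ed G p ((isoH G.obj Y p).hom
    (HomologicalComplex.homologyMap ((cechComplexFunctor U).map ψ.hom) p x))) =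
    Sheaf.H.map ψ p (e3 F (edgeSh ed F p ((isoH F.obj Y p).hom x)))
  have h1 : (isoH G.obj Y p).hom
      (HomologicalComplex.homologyMap ((cechComplexFunctor U).map ψ.hom) p x) =
      cechHMap Y ψ.hom p ((isoH F.obj Y p).hom x) := isoH_natural ψ.hom Y p x
  rw [h1, edgeSh_natural ed hed ψ p, ← he3]

end Top

section Scheme

open AlgebraicGeometry Groth.Agent.Lib.Helper23.AffVanish

/-- **the Čech-to-derived isomorphisms of S0013, for all quasi-coherent modules simultaneously,
compatible with all morphisms of the underlying abelian sheaves** -/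
theorem exists_natural_family (X : Scheme.{u}) {ι : Type u} (U : ι → X.Opens)
    (hcov : ⨆ i, U i = ⊤)
    (hU : ∀ s : Finset ι, s.Nonempty → IsAffineOpen (⨅ i ∈ s, U i)) (p : ℕ) :
    ∃ e : ∀ (M : X.Modules), Coh.IsQCoh M → (↑(CohB1.cechH U M p) ≃+ Coh.HH X M p),
      ∀ (M N : X.Modules) (hM : Coh.IsQCoh M) (hN : Coh.IsQCoh N)
        (ψ : Coh.toAb M ⟶ Coh.toAb N) (x : ↑(CohB1.cechH U M p)),
        e N hN (HomologicalComplex.homologyMap ((cechComplexFunctor U).map ψ.hom) p x) =
          Sheaf.H.map ψ p (e M hM x) := by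
  have h : ∀ (M : X.Modules), Coh.IsQCoh M → Leray (ab' M) U := by
    intro M hM p a q
    have : M.IsQuasicoherent := hM
    have haff : IsAffineOpen (iInf fun k => U (a k)) := by
      classical
      have := hU (Finset.image a Finset.univ) (Finset.image_nonempty.2 Finset.univ_nonempty)
      have e : (⨅ i ∈ Finset.image a Finset.univ, U i) = iInf fun k => U (a k) := by
        apply le_antisymm
        · refine le_iInf fun k => ?_
          exact iInf₂_le (a k) (Finset.mem_image.2 ⟨k, Finset.mem_univ k, rfl⟩)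
        · refine le_iInf₂ fun i hi => ?_
          obtain ⟨k, -, rfl⟩ := Finset.mem_image.1 hi
          exact iInf_le _ k
      rwa [e] at this
    exact subsingleton_HE_of_isAffineOpen haff M q
  obtain ⟨e, he⟩ := exists_natural_top_family (X := X.toTopCat) U hcov p
  exact ⟨fun M hM => e (ab' M) (h M hM), fun M N hM hN ψ x => he (ab' M) (ab' N) _ _ ψ x⟩

end Scheme

end Groth.Agent.Lib.R2H2.LerayNat2
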