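import Groth.Agent.Lib.R2H2CoprodSec
import Groth.Agent.Lib.R2H2LerayNat2
import Groth.Agent.Lib.R2H2Cls
import Groth.Agent.Lib.R2H2CechOpens
import Groth.Agent.Lib.R2H2HHLin
import Groth.Agent.Lib.Helper23QCohAbelian

/-!
# Cohomology classes of an arbitrary coproduct of quasi-coherent modules are finitely supported
(helper2, round 2)

On a scheme with a finite cover by opens with affine finite intersections, every cohomology class
of `∐ E` (`E j` quasi-coherent) is fixed by `H^p(eS E S)` for some finite set `S` of indices; hence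
it is a finite sum of classes coming from the summands.
-/

set_option autoImplicit false
set_option linter.unusedSectionVars false
set_option linter.style.haveILetI false
universe u
open CategoryTheory CategoryTheory.Limits AlgebraicGeometry TopologicalSpace Opposite

noncomputable section

namespace Groth.Agent.Lib.R2H2.CoprodCoh

open Groth.Agent.Lib.R2H2.CoprodSec Groth.Agent.Lib.R2H2.HHLin
  Groth.Agent.Lib.Helper16.CechLow Groth.Agent.Lib.R2H2.CechCmp Groth.Agent.Lib.R2H2.Cls

variable {X : Scheme.{u}} {J : Type u} [DecidableEq J] (E : J → X.Modules)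

lemma isQuasicoherent_sigma (hE : ∀ j, (E j).IsQuasicoherent) : (∐ E).IsQuasicoherent :=
  Groth.Agent.Lib.Helper23.QCohLocal.isQuasicoherent_colimit (Discrete.functor E)
    (fun j => hE j.as)

lemma isCompact_Ux {ι : Type u} (U : ι → X.Opens)
    (hU : ∀ s : Finset ι, s.Nonempty → IsAffineOpen (⨅ i ∈ s, U i)) {n : ℕ}
    (a : Fin (n + 1) → ι) : IsCompact ((Ux U a : X.Opens) : Set X) := by
  classical
  have h := hU (Finset.image a Finset.univ) (Finset.image_nonempty.2 Finset.univ_nonempty)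
  have e : Ux U a = ⨅ i ∈ Finset.image a Finset.univ, U i := by
    apply le_antisymm
    · refine le_iInf₂ fun i hi => ?_
      obtain ⟨k, -, rfl⟩ := Finset.mem_image.1 hi
      exact Groth.Agent.Lib.R2H2.CechOpens.Ux_le U a k
    · refine Groth.Agent.Lib.R2H2.CechOpens.le_Ux U a _ (fun k => ?_)
      exact iInf₂_le (a k) (Finset.mem_image.2 ⟨k, Finset.mem_univ k, rfl⟩)
  rw [e]
  exact h.isCompact

/-- **cohomology classes of a coproduct are finitely supported** -/
theorem exists_eS_HH {ι : Type u} [Finite ι] (U : ι → X.Opens) (hcov : ⨆ i, U i = ⊤)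
    (hU : ∀ s : Finset ι, s.Nonempty → IsAffineOpen (⨅ i ∈ s, U i))
    (hE : ∀ j, (E j).IsQuasicoherent) (p : ℕ) (x : Coh.HH X (∐ E) p) :
    ∃ S : Finset J, HmapL (eS E S) p x = x := by
  classical
  obtain ⟨e, he⟩ := Groth.Agent.Lib.R2H2.LerayNat2.exists_natural_family X U hcov hU p
  have hM : Coh.IsQCoh (∐ E) := isQuasicoherent_sigma E hE
  obtain ⟨c, rfl⟩ := (e (∐ E) hM).surjective x
  obtain ⟨z, rfl⟩ := cls_surjective (CK U (∐ E).presheaf) p c
  have hz : ∀ a : Fin (p + 1) → ι, ∃ S : Finset J,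
      (eS E S).app (Ux U a) (pr U (∐ E).presheaf p a z.1) = pr U (∐ E).presheaf p a z.1 :=
    fun a => exists_eS_eq E (isCompact_Ux U hU a) _
  choose Sa hSa using hz
  letI : Fintype (Fin (p + 1) → ι) := Fintype.ofFinite _
  refine ⟨Finset.univ.biUnion Sa, ?_⟩
  rw [HmapL_apply]
  refine (he _ _ hM hM (abMap (eS E (Finset.univ.biUnion Sa))) _).symm.trans ?_
  congr 1
  refine (homologyMap_cls ((cechComplexFunctor U).map
    (abMap (eS E (Finset.univ.biUnion Sa))).hom) p z).trans ?_
  congr 1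
  apply Subtype.ext
  apply elt_ext U (∐ E).presheaf p
  intro a
  refine (map_pr_apply U (abMap (eS E (Finset.univ.biUnion Sa))).hom p a z.1).trans ?_
  exact app_eS_of_subset (Finset.subset_biUnion_of_mem Sa (Finset.mem_univ a)) _ (hSa a)

/-- the class is the finite sum of its components -/
theorem exists_sum_HH {ι : Type u} [Finite ι] (U : ι → X.Opens) (hcov : ⨆ i, U i = ⊤)
    (hU : ∀ s : Finset ι, s.Nonempty → IsAffineOpen (⨅ i ∈ s, U i))
    (hE : ∀ j, (E j).IsQuasicoherent) (p : ℕ) (x : Coh.HH X (∐ E) p) :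
    ∃ S : Finset J, x = ∑ j ∈ S, HmapL (Sigma.ι E j) p (HmapL (Sigma.π E j) p x) := by
  obtain ⟨S, hS⟩ := exists_eS_HH E U hcov hU hE p x
  refine ⟨S, ?_⟩
  have h1 : HmapL (eS E S) p x = ∑ j ∈ S, HmapL (Sigma.π E j ≫ Sigma.ι E j) p x :=
    HmapL_sum S (fun j => Sigma.π E j ≫ Sigma.ι E j) p x
  rw [← hS] 
  refine h1.trans (Finset.sum_congr rfl (fun j _ => ?_))
  rw [HmapL_comp, hS]

end Groth.Agent.Lib.R2H2.CoprodCoh
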