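import Groth.Agent.Lib.R2H2DevB
set_option backward.isDefEq.respectTransparency.types false

/-!
# Dévissage of coherent modules, part C: the local input from generic stalks (helper2, round 2)

* `prop_pow` : an extension-closed property containing `0` passes from `G` to `pow G n`.
* `hloc_of_gen` : the local input `hloc` of `DevB.core`, from modules `G` attached to the irreducible
  closed subsets whose stalk at the generic point is comparable with every finite module killed by
  the maximal ideal.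
* `devissage` : the resulting theorem.
-/

set_option autoImplicit false
set_option linter.style.haveILetI false
universe u

open CategoryTheory CategoryTheory.Limits AlgebraicGeometry TopologicalSpace

namespace Groth.Agent.Lib.R2H2.DevC

open Groth.Agent.Lib.R2H2.StalkPow Groth.Agent.Lib.R2H2.DevA Groth.Agent.Lib.R2H2.DevB

variable {X : Scheme.{u}} [IsNoetherian X]

theorem prop_pow (P : X.Modules → Prop) (h0 : ∀ M : X.Modules, IsZero M → P M) (X' : Set X)
    (hext : ∀ S : ShortComplex X.Modules, S.ShortExact → Coh.IsCoh S.X₁ → Coh.IsCoh S.X₂ →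
      Coh.IsCoh S.X₃ → CohB1.support S.X₂ ⊆ X' → P S.X₁ → P S.X₃ → P S.X₂)
    (G : X.Modules) (cG : Coh.IsCoh G) (sG : CohB1.support G ⊆ X') (PG : P G) :
    ∀ n, P (pow G n)
  | 0 => h0 _ (isZero_pow_zero G)
  | n + 1 => by
    rw [pow_succ]
    have hS := (ShortComplex.Splitting.ofHasBinaryBiproduct G (pow G n)).shortExact
    refine hext _ hS cG (Groth.Agent.Lib.R2H2.PdSheaf.isCoh_biprod G (pow G n) cG (isCoh_pow G cG n))
      (isCoh_pow G cG n) ?_ PG (prop_pow P h0 X' hext G cG sG PG n)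
    refine (support_biprod G (pow G n)).trans (Set.union_subset sG ((support_pow G n).trans sG))

/-- the local input of the dévissage, from the generic stalks -/
theorem hloc_of_gen (P : X.Modules → Prop) (X' : Set X) (good : ℕ → Prop)
    (hPpow : ∀ G : X.Modules, Coh.IsCoh G → CohB1.support G ⊆ X' → P G → ∀ n, P (pow G n))
    (hroot : ∀ (F : X.Modules) (s : ℕ), Coh.IsCoh F → good s → P (pow F s) → P F)
    (hgen : ∀ (Z : Set X), IsClosed Z → IsIrreducible Z → Z ⊆ X' → ∀ y : X, closure {y} = Z →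
      ∃ G : X.Modules, Coh.IsCoh G ∧ P G ∧ CohB1.support G ⊆ Z ∧
        ∀ (N : Type u) [AddCommGroup N] [Module (X.presheaf.stalk y) N]
          [Module.Finite (X.presheaf.stalk y) N],
          (∀ a ∈ IsLocalRing.maximalIdeal (X.presheaf.stalk y), ∀ n : N, a • n = 0) →
          ∃ r s : ℕ, good s ∧
            Nonempty ((Fin s → N) ≃ₗ[X.presheaf.stalk y] (Fin r → G.presheaf.stalk y)))
    (Y : Closeds X) (hYX' : (Y : Set X) ⊆ X') (hne : (Y : Set X).Nonempty)
    (F : X.Modules) (hF : Coh.IsCoh F) (hs : CohB1.support F ⊆ (Y : Set X))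
    (hk : ClSub.KilledByIdeal (Scheme.IdealSheafData.vanishingIdeal Y) F) :
    ∃ (F' G' : X.Modules) (D : X.Opens), Coh.IsCoh F' ∧ Coh.IsCoh G' ∧
      CohB1.support F' ⊆ (Y : Set X) ∧ CohB1.support G' ⊆ (Y : Set X) ∧ P G' ∧
      (P F' → P F) ∧ ((D : Set X) ∩ (Y : Set X)).Nonempty ∧
      Nonempty (F'.restrict D.ι ≅ G'.restrict D.ι) := by
  obtain ⟨y, V, hV, hyY, hyV, hYV⟩ := exists_generic_component (Y : Set X) Y.2 hne
  have hZY : closure {y} ⊆ (Y : Set X) :=
    Y.2.closure_subset_iff.2 (Set.singleton_subset_iff.2 hyY)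
  obtain ⟨G, cG, PG, sG, hG⟩ := hgen (closure {y}) isClosed_closure
    isIrreducible_singleton.closure (hZY.trans hYX') y rfl
  haveI := finite_stalk F hF y
  obtain ⟨r, s, hgs, ⟨e⟩⟩ := hG (F.presheaf.stalk y)
    (stalk_smul_eq_zero Y F hk y V hV hyV hYV)
  obtain ⟨D, hyD, hiso⟩ := exists_local_iso F G hF cG y r s e
  exact ⟨pow F s, pow G r, D, isCoh_pow F hF s, isCoh_pow G cG r, (support_pow F s).trans hs,
    (support_pow G r).trans (sG.trans hZY), hPpow G cG (sG.trans (hZY.trans hYX')) PG r,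
    hroot F s hF hgs, ⟨y, hyD, hyY⟩, hiso⟩

/-- **dévissage** (EGA III 3.1.2 / Stacks 01YG, two-out-of-three form) -/
theorem devissage (P : X.Modules → Prop) (h0 : ∀ M : X.Modules, IsZero M → P M) (X' : Set X)
    (hX' : IsClosed X') (good : ℕ → Prop)
    (hex : ∀ S : ShortComplex X.Modules, S.ShortExact → Coh.IsCoh S.X₁ → Coh.IsCoh S.X₂ →
      Coh.IsCoh S.X₃ → CohB1.support S.X₂ ⊆ X' →
      (P S.X₁ → P S.X₂ → P S.X₃) ∧ (P S.X₁ → P S.X₃ → P S.X₂) ∧ (P S.X₂ → P S.X₃ → P S.X₁))
    (hroot : ∀ (F : X.Modules) (s : ℕ), Coh.IsCoh F → good s → P (pow F s) → P F)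
    (hgen : ∀ (Z : Set X), IsClosed Z → IsIrreducible Z → Z ⊆ X' → ∀ y : X, closure {y} = Z →
      ∃ G : X.Modules, Coh.IsCoh G ∧ P G ∧ CohB1.support G ⊆ Z ∧
        ∀ (N : Type u) [AddCommGroup N] [Module (X.presheaf.stalk y) N]
          [Module.Finite (X.presheaf.stalk y) N],
          (∀ a ∈ IsLocalRing.maximalIdeal (X.presheaf.stalk y), ∀ n : N, a • n = 0) →
          ∃ r s : ℕ, good s ∧
            Nonempty ((Fin s → N) ≃ₗ[X.presheaf.stalk y] (Fin r → G.presheaf.stalk y)))
    (F : X.Modules) (hF : Coh.IsCoh F) (hsupp : CohB1.support F ⊆ X') : P F := by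
  have hPpow : ∀ G : X.Modules, Coh.IsCoh G → CohB1.support G ⊆ X' → P G → ∀ n, P (pow G n) :=
    fun G cG sG PG => prop_pow P h0 X'
      (fun S hS c₁ c₂ c₃ hs h₁ h₃ => (hex S hS c₁ c₂ c₃ hs).2.1 h₁ h₃) G cG sG PG
  exact core P h0 X' hex
    (fun Y hYX' hne _ F hF hs hk => hloc_of_gen P X' good hPpow hroot hgen Y hYX' hne F hF hs hk)
    ⟨X', hX'⟩ (fun _ hx => hx) F hF hsupp

end Groth.Agent.Lib.R2H2.DevC
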