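import Groth.Agent.Lib.R2H2DevC
import Groth.Agent.Lib.Helper10RedInd
set_option backward.isDefEq.respectTransparency.types false

/-!
# Dévissage of coherent modules, part D: integral closed subschemes (helper2, round 2)

* `exists_integral_closed` : an irreducible closed subset with generic point `y` is the image of an
  integral closed subscheme whose generic point maps to `y`.
* `prop_zero_of_two_of_three` : a two-out-of-three property which holds for some module holds for
  the zero modules.
-/

set_option autoImplicit false
set_option linter.style.haveILetI false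
universe u

open CategoryTheory CategoryTheory.Limits AlgebraicGeometry TopologicalSpace

namespace Groth.Agent.Lib.R2H2.DevD

variable {X : Scheme.{u}}

theorem exists_integral_closed (Z : Set X) (hZ : IsClosed Z) (hirr : IsIrreducible Z) (y : X)
    (hy : closure {y} = Z) :
    ∃ (W : Scheme.{u}) (i : W ⟶ X) (_ : IsClosedImmersion i) (_ : IsIntegral W),
      Set.range ⇑i = Z ∧ i (genericPoint W) = y := by
  let T : Closeds X := ⟨Z, hZ⟩
  let I := Scheme.IdealSheafData.vanishingIdeal T
  let i : I.subscheme ⟶ X := I.subschemeι
  have hrange : Set.range i = Z := by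
    rw [Scheme.IdealSheafData.range_subschemeι, Scheme.IdealSheafData.coe_support_vanishingIdeal]
    rfl
  have hred : IsReduced I.subscheme :=
    Groth.Agent.Lib.Helper10.RedInd.isReduced_subscheme_vanishingIdeal T
  obtain ⟨z', hz'⟩ : y ∈ Set.range i := by
    rw [hrange, ← hy]; exact subset_closure rfl
  have hirrS : IrreducibleSpace I.subscheme := by
    have h1 : IrreducibleSpace (Set.range i) := Subtype.irreducibleSpace (hrange ▸ hirr)
    have : Nonempty I.subscheme := ⟨z'⟩
    exact (i.isClosedEmbedding.isEmbedding.toHomeomorph.symm.symm.isOpenEmbedding).irreducibleSpace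
  have hint : IsIntegral I.subscheme := isIntegral_of_irreducibleSpace_of_isReduced _
  refine ⟨I.subscheme, i, inferInstance, hint, hrange, ?_⟩
  have h1 : IsGenericPoint (i (genericPoint I.subscheme)) Z := by
    change closure {i (genericPoint I.subscheme)} = Z
    rw [← Set.image_singleton, i.isClosedEmbedding.closure_image_eq,
      (genericPoint_spec I.subscheme).def, Set.image_univ, hrange]
  have h2 : IsGenericPoint y Z := hy
  exact h1.eq h2

theorem prop_zero_of_two_of_three (P : X.Modules → Prop)
    (h₁ : ∀ S : ShortComplex X.Modules, S.ShortExact → Coh.IsCoh S.X₁ → Coh.IsCoh S.X₂ →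
      Coh.IsCoh S.X₃ → (P S.X₁ → P S.X₂ → P S.X₃))
    (G : X.Modules) (cG : Coh.IsCoh G) (PG : P G) : ∀ M : X.Modules, IsZero M → P M := by
  intro M hM
  let S : ShortComplex X.Modules := ShortComplex.mk (𝟙 G) (0 : G ⟶ M) (by simp)
  have hS : S.ShortExact :=
    (ShortComplex.Splitting.ofIsIsoOfIsZero S (inferInstanceAs (IsIso (𝟙 G))) hM).shortExact
  exact h₁ S hS cG cG (Groth.Agent.Lib.R2H2.KcohLoc.isCoh_of_isZero hM) PG PG

end Groth.Agent.Lib.R2H2.DevD
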