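import Groth.Agent.Lib.R2H2DevH
set_option backward.isDefEq.respectTransparency.types false

/-!
# Dévissage of coherent modules, part I: the modules `i_* M` for integral closed subschemes
(helper2, round 2)

For a closed immersion `i : W ⟶ X` with `W` integral, `Z = range i` and `y = i (genericPoint W)`:
* `killed_push_vanishingIdeal` : `i_* M` is killed by the vanishing ideal of `Z`.
* `stalk_push_smul_eq_zero` : the stalk of `i_* M` at `y` is killed by the maximal ideal.
* `nonempty_stalk_pushO_equiv'` : the stalk of `i_* O_W` at `y` is the residue field.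
-/

set_option autoImplicit false
set_option linter.style.haveILetI false
universe u

open CategoryTheory CategoryTheory.Limits AlgebraicGeometry TopologicalSpace

namespace Groth.Agent.Lib.R2H2.DevI

open Groth.Agent.Lib.R2H2.DevA Groth.Agent.Lib.R2H2.DevE

variable {W X : Scheme.{u}} (i : W ⟶ X) [IsClosedImmersion i] [IsIntegral W]

omit [IsClosedImmersion i] in
theorem ker_eq_vanishingIdeal (Z : Set X) (hZ : IsClosed Z) (hrange : Set.range ⇑i = Z) :
    i.ker = Scheme.IdealSheafData.vanishingIdeal ⟨Z, hZ⟩ := by
  rw [Groth.Agent.Lib.Helper10.RedInd.ker_eq_vanishingIdeal_of_isReduced i]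
  congr 1
  apply TopologicalSpace.Closeds.ext
  change closure (Set.range ⇑i) = Z
  rw [hrange, hZ.closure_eq]

theorem killed_push_vanishingIdeal (Z : Set X) (hZ : IsClosed Z) (hrange : Set.range ⇑i = Z)
    (M : W.Modules) :
    ClSub.KilledByIdeal (Scheme.IdealSheafData.vanishingIdeal ⟨Z, hZ⟩)
      ((Scheme.Modules.pushforward i).obj M) :=
  ker_eq_vanishingIdeal i Z hZ hrange ▸ killed_push i M

theorem stalk_push_smul_eq_zero (M : W.Modules)
    (a : X.presheaf.stalk (i (genericPoint W)))
    (ha : a ∈ IsLocalRing.maximalIdeal (X.presheaf.stalk (i (genericPoint W))))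
    (g : ((Scheme.Modules.pushforward i).obj M).presheaf.stalk (i (genericPoint W))) :
    a • g = 0 := by
  have hZ : IsClosed (Set.range ⇑i) := i.isClosedEmbedding.isClosed_range
  have hcl : closure {i (genericPoint W)} = Set.range ⇑i := by
    rw [← Set.image_singleton, i.isClosedEmbedding.closure_image_eq,
      (genericPoint_spec W).def, Set.image_univ]
  exact stalk_smul_eq_zero ⟨Set.range ⇑i, hZ⟩ _ (killed_push_vanishingIdeal i _ hZ rfl M)
    (i (genericPoint W)) Set.univ isOpen_univ trivial (fun x hx => by rw [hcl]; exact hx.1) a ha g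

theorem nonempty_stalk_pushO_equiv' :
    Nonempty (((Scheme.Modules.pushforward i).obj (Coh.structureModule W)).presheaf.stalk
        (i (genericPoint W)) ≃ₗ[X.presheaf.stalk (i (genericPoint W))]
      IsLocalRing.ResidueField (X.presheaf.stalk (i (genericPoint W)))) :=
  nonempty_stalk_pushO_equiv i (genericPoint W)
    (fun a ha g => stalk_push_smul_eq_zero i (Coh.structureModule W) a ha g)

end Groth.Agent.Lib.R2H2.DevI
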