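import Groth.Agent.Lib.R2H2DualRep
import Groth.Prelude.Def_KLin

/-!
# Dimension counting in the long exact sequences of `Ext` and of cohomology (helper2, round 2)
-/

set_option autoImplicit false
set_option linter.unusedSectionVars false
universe u

namespace Groth.Agent.Lib.R2H2.DualExtGen

open CategoryTheory CategoryTheory.Limits AlgebraicGeometry Opposite Abelian
open Groth.Agent.Lib.R2H2.HHLin Groth.Agent.Lib.R2H2.DualRep
open Groth.Agent.Lib.Helper23.QCohLocal

section LinAlg

variable {k : Type*} [Field k] {A B C D : Type*} [AddCommGroup A] [AddCommGroup B]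
  [AddCommGroup C] [AddCommGroup D] [Module k A] [Module k B] [Module k C] [Module k D]

/-- the alternating sum of the dimensions in a four term exact sequence -/
theorem four_term [Module.Finite k A] [Module.Finite k B] [Module.Finite k C]
    (f : A →ₗ[k] B) (g : B →ₗ[k] C) (h : C →ₗ[k] D)
    (hf : Function.Injective f) (hfg : ∀ b, g b = 0 ↔ ∃ a, f a = b)
    (hgh : ∀ c, h c = 0 ↔ ∃ b, g b = c) (hh : Function.Surjective h) :
    Module.Finite k D ∧
      Module.finrank k D + Module.finrank k B = Module.finrank k C + Module.finrank k A := by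
  have hD : Module.Finite k D := Module.Finite.of_surjective h hh
  refine ⟨hD, ?_⟩
  have h1 := LinearMap.finrank_range_add_finrank_ker g
  have h2 := LinearMap.finrank_range_add_finrank_ker h
  have h3 : LinearMap.ker g = LinearMap.range f := by
    ext b
    rw [LinearMap.mem_ker, LinearMap.mem_range]
    exact hfg b
  have h4 : LinearMap.ker h = LinearMap.range g := by
    ext c
    rw [LinearMap.mem_ker, LinearMap.mem_range]
    exact hgh c
  have h5 : Module.finrank k (LinearMap.range f) = Module.finrank k A :=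
    LinearMap.finrank_range_of_inj hf
  have h6 : Module.finrank k (LinearMap.range h) = Module.finrank k D := by
    rw [LinearMap.range_eq_top.mpr hh, finrank_top]
  rw [h3, h5] at h1
  rw [h4, h6] at h2
  omega

end LinAlg

section ExtSeq

variable {k : Type*} [CommRing k] {C : Type*} [Category C] [Abelian C] [Linear k C]
  [HasExt.{u} C] {S : ShortComplex C} (hS : S.ShortExact) (Y : C)

include hS in
/-- dimension shifting: `Ext^i(X₁, Y) ≅ Ext^{i+1}(X₃, Y)` when `Ext^i(X₂, Y) = Ext^{i+1}(X₂, Y) = 0` -/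
theorem nonempty_ext_shift (i : ℕ) (h1 : Subsingleton (Ext S.X₂ Y i))
    (h2 : Subsingleton (Ext S.X₂ Y (i + 1))) :
    Nonempty (Ext S.X₁ Y i ≃ₗ[k] Ext S.X₃ Y (i + 1)) := by
  refine ⟨LinearEquiv.ofBijective (Ext.precompOfLinear hS.extClass k Y (add_comm 1 i)) ⟨?_, ?_⟩⟩
  · rw [injective_iff_map_eq_zero]
    intro x hx
    obtain ⟨x₂, rfl⟩ := Ext.contravariant_sequence_exact₁ hS Y x (add_comm 1 i) hx
    rw [Subsingleton.elim x₂ 0, Ext.comp_zero]
  · intro x₃
    exact Ext.contravariant_sequence_exact₃ hS Y x₃ (Subsingleton.elim _ _) (add_comm 1 i)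

end ExtSeq

section ExtSeqField

variable {k : Type*} [Field k] {C : Type*} [Category C] [Abelian C] [Linear k C]
  [HasExt.{u} C] {S : ShortComplex C} (hS : S.ShortExact) (Y : C)

include hS in
/-- the beginning of the contravariant long exact sequence of `Ext`, as a dimension count -/
theorem ext_four_term (h1 : Subsingleton (Ext S.X₂ Y 1))
    [Module.Finite k (Ext S.X₃ Y 0)] [Module.Finite k (Ext S.X₂ Y 0)]
    [Module.Finite k (Ext S.X₁ Y 0)] :
    Module.Finite k (Ext S.X₃ Y 1) ∧
      Module.finrank k (Ext S.X₃ Y 1) + Module.finrank k (Ext S.X₂ Y 0) =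
        Module.finrank k (Ext S.X₁ Y 0) + Module.finrank k (Ext S.X₃ Y 0) := by
  have := hS.epi_g
  refine four_term (Ext.precompOfLinear (Ext.mk₀ S.g) k Y (zero_add 0))
    (Ext.precompOfLinear (Ext.mk₀ S.f) k Y (zero_add 0))
    (Ext.precompOfLinear hS.extClass k Y (add_zero 1)) ?_ ?_ ?_ ?_
  · exact Ext.precomp_mk₀_injective_of_epi Y S.g
  · intro b
    constructor
    · intro hb
      exact Ext.contravariant_sequence_exact₂ hS Y b hb
    · rintro ⟨a, rfl⟩
      change (Ext.mk₀ S.f).comp ((Ext.mk₀ S.g).comp a (zero_add 0)) (zero_add 0) = 0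
      rw [Ext.mk₀_comp_mk₀_assoc, S.zero, Ext.mk₀_zero, Ext.zero_comp]
  · intro c
    constructor
    · intro hc
      exact Ext.contravariant_sequence_exact₁ hS Y c (add_zero 1) hc
    · rintro ⟨b, rfl⟩
      change hS.extClass.comp ((Ext.mk₀ S.f).comp b (zero_add 0)) (add_zero 1) = 0
      rw [← Ext.comp_assoc_of_second_deg_zero, hS.extClass_comp, Ext.zero_comp]
  · intro x₃
    exact Ext.contravariant_sequence_exact₃ hS Y x₃ (Subsingleton.elim _ _) (add_zero 1)

end ExtSeqField

section HHSeq

variable {k : Type u} [Field k] {X : Scheme.{u}} [X.Over (Spec (CommRingCat.of k))]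
  (S : ShortComplex X.Modules) (hS : S.ShortExact)

lemma HmapL_f_deltaL (i : ℕ) (x : Coh.HH X S.X₃ i) :
    HmapL S.f (i + 1) (deltaL S hS i x) = 0 := by
  change (x.comp (shortExact_toAbF S hS).extClass rfl).comp (Ext.mk₀ (abMap S.f))
    (add_zero (i + 1)) = 0
  refine (Ext.comp_assoc_of_third_deg_zero x (shortExact_toAbF S hS).extClass
    (Ext.mk₀ (abMap S.f)) rfl).trans ?_
  have h : (shortExact_toAbF S hS).extClass.comp (Ext.mk₀ (abMap S.f)) (add_zero 1) = 0 :=
    (shortExact_toAbF S hS).extClass_comp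
  exact (congrArg (fun z => Ext.comp x z rfl) h).trans (Ext.comp_zero _ _ _ _ _)

lemma HmapL_g_f (i : ℕ) (x : Coh.HH X S.X₁ i) : HmapL S.g i (HmapL S.f i x) = 0 := by
  rw [← HmapL_comp, S.zero, HmapL_zero]

lemma injective_HmapL_zero {M N : X.Modules} (φ : M ⟶ N) [Mono φ] :
    Function.Injective (HmapL φ 0) := by
  have : Mono (abMap φ) := by
    change Mono ((toAbF X).map φ)
    infer_instance
  exact Ext.postcomp_mk₀_injective_of_mono _ (abMap φ)

include hS in
/-- dimension shifting in cohomology -/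
theorem nonempty_hh_shift (j : ℕ) (h1 : Subsingleton (Coh.HH X S.X₂ j))
    (h2 : Subsingleton (Coh.HH X S.X₂ (j + 1))) :
    Nonempty (Coh.HH X S.X₃ j ≃ₗ[k] Coh.HH X S.X₁ (j + 1)) := by
  refine ⟨LinearEquiv.ofBijective (deltaA k S hS j) ⟨?_, ?_⟩⟩
  · rw [injective_iff_map_eq_zero]
    intro x hx
    obtain ⟨x₂, rfl⟩ := exact₃ S hS j x hx
    rw [Subsingleton.elim x₂ 0, map_zero]
  · intro x₁
    exact exact₁ S hS j x₁ (Subsingleton.elim _ _)

include hS in
/-- a four term piece of the long exact cohomology sequence, as a dimension count -/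
theorem hh_four_term (m : ℕ) (h0 : Subsingleton (Coh.HH X S.X₂ m))
    (h1 : Subsingleton (Coh.HH X S.X₁ (m + 1 + 1)))
    [Module.Finite k (Coh.HH X S.X₃ m)] [Module.Finite k (Coh.HH X S.X₁ (m + 1))]
    [Module.Finite k (Coh.HH X S.X₂ (m + 1))] :
    Module.Finite k (Coh.HH X S.X₃ (m + 1)) ∧
      Module.finrank k (Coh.HH X S.X₃ (m + 1)) + Module.finrank k (Coh.HH X S.X₁ (m + 1)) =
        Module.finrank k (Coh.HH X S.X₂ (m + 1)) + Module.finrank k (Coh.HH X S.X₃ m) := by
  refine four_term (deltaA k S hS m) (HmapA k S.f (m + 1)) (HmapA k S.g (m + 1)) ?_ ?_ ?_ ?_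
  · rw [injective_iff_map_eq_zero]
    intro x hx
    obtain ⟨x₂, rfl⟩ := exact₃ S hS m x hx
    rw [Subsingleton.elim x₂ 0, map_zero]
  · intro b
    constructor
    · intro hb
      exact exact₁ S hS m b hb
    · rintro ⟨a, rfl⟩
      exact HmapL_f_deltaL S hS m a
  · intro c
    constructor
    · intro hc
      exact exact₂ S hS (m + 1) c hc
    · rintro ⟨b, rfl⟩
      exact HmapL_g_f S (m + 1) b
  · intro x₃
    exact exact₃ S hS (m + 1) x₃ (Subsingleton.elim _ _)

include hS in
/-- the beginning of the long exact cohomology sequence, as a dimension count -/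
theorem hh_three_term (h1 : Subsingleton (Coh.HH X S.X₁ 1))
    [Module.Finite k (Coh.HH X S.X₁ 0)] [Module.Finite k (Coh.HH X S.X₂ 0)]
    [Module.Finite k (Coh.HH X S.X₃ 0)] :
    Module.finrank k (Coh.HH X S.X₂ 0) =
      Module.finrank k (Coh.HH X S.X₃ 0) + Module.finrank k (Coh.HH X S.X₁ 0) := by
  have := hS.mono_f
  have h := four_term (HmapA k S.f 0) (HmapA k S.g 0) (deltaA k S hS 0) ?_ ?_ ?_ ?_
  · have h0 : Module.finrank k (Coh.HH X S.X₁ (0 + 1)) = 0 :=
      Module.finrank_zero_of_subsingleton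
    have h2 := h.2
    rw [h0] at h2
    omega
  · exact injective_HmapL_zero S.f
  · intro b
    constructor
    · intro hb
      exact exact₂ S hS 0 b hb
    · rintro ⟨a, rfl⟩
      exact HmapL_g_f S 0 a
  · intro c
    constructor
    · intro hc
      exact exact₃ S hS 0 c hc
    · intro _
      exact Subsingleton.elim _ _
  · intro x
    exact ⟨0, Subsingleton.elim _ _⟩

end HHSeq

section Duality

variable {A : Type u} [CommRing A] {X : Scheme.{u}} [X.Over (Spec (CommRingCat.of A))]
variable {ω : X.Modules} {n : ℕ} (t : Coh.HH X ω n →ₗ[A] A)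

lemma HmapL_smulMod (F : X.Modules) (a : A) (i : ℕ) (x : Coh.HH X F i) :
    HmapL (Formal.smulMod A F a) i x = a • x := rfl

/-- the duality map `φ ↦ t ∘ H^n(φ)`, as a linear map -/
noncomputable def dualityL (F : X.Modules) : (F ⟶ ω) →ₗ[A] Module.Dual A (Coh.HH X F n) where
  toFun φ := t ∘ₗ HmapA A φ n
  map_add' φ ψ := by
    ext x
    change t (HmapL (φ + ψ) n x) = t (HmapL φ n x) + t (HmapL ψ n x)
    rw [HmapL_add, map_add]
  map_smul' a φ := by
    ext x
    change t (HmapL (Formal.smulMod A F a ≫ φ) n x) = a • t (HmapL φ n x)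
    rw [HmapL_comp, HmapL_smulMod, ← HmapA_apply A φ n (a • x), map_smul, map_smul]
    rfl

lemma dualityL_apply (F : X.Modules) (φ : F ⟶ ω) (x : Coh.HH X F n) :
    dualityL t F φ x = t (HmapL φ n x) := rfl

/-- if `F` satisfies `Rep` then the duality map is a linear equivalence -/
noncomputable def dualityEquiv {F : X.Modules} (h : Rep t F) :
    (F ⟶ ω) ≃ₗ[A] Module.Dual A (Coh.HH X F n) :=
  LinearEquiv.ofBijective (dualityL t F) (by
    constructor
    · rw [injective_iff_map_eq_zero]
      intro φ hφ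
      exact h.inj φ (fun x => by
        have := LinearMap.congr_fun hφ x
        exact this)
    · intro ψ
      obtain ⟨φ, hφ⟩ := h.sur ψ
      refine ⟨φ, ?_⟩
      ext x
      exact (hφ x).symm)

end Duality

end Groth.Agent.Lib.R2H2.DualExtGen
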