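import Mathlib

/-!
# Finitely generated modules over a local ring killed by the maximal ideal (helper2, round 2)

* `exists_equiv_pi_residueField` : such a module is `κ^r` as an `R`-module.
* `nonempty_equiv_residueField_of_length_eq_one` : a module of length one is `κ`.
* `exists_equiv_pow` : for two such modules `M`, `N ≠ 0` there are `r`, `s ≥ 1` with `M^s ≃ N^r`.
* `exists_equiv_pow_one` : if `N ≃ κ`, then `M ≃ N^r`.
-/

set_option autoImplicit false
universe u v w

namespace Groth.Agent.Lib.R2H2.ResField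

open IsLocalRing

variable {R : Type u} [CommRing R] [IsLocalRing R]

theorem exists_equiv_pi_residueField (M : Type v) [AddCommGroup M] [Module R M] [Module.Finite R M]
    (hk : ∀ a ∈ maximalIdeal R, ∀ m : M, a • m = 0) :
    ∃ r : ℕ, Nonempty (M ≃ₗ[R] (Fin r → ResidueField R)) := by
  have hT : Module.IsTorsionBySet R M (maximalIdeal R : Set R) := by
    intro m a
    exact hk a.1 a.2 m
  letI : Module (R ⧸ maximalIdeal R) M := hT.module
  haveI : IsScalarTower R (R ⧸ maximalIdeal R) M := hT.isScalarTower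
  letI : Module (ResidueField R) M := inferInstanceAs (Module (R ⧸ maximalIdeal R) M)
  haveI : IsScalarTower R (ResidueField R) M :=
    inferInstanceAs (IsScalarTower R (R ⧸ maximalIdeal R) M)
  haveI : Module.Finite (ResidueField R) M := Module.Finite.of_restrictScalars_finite R _ M
  let b := Module.finBasis (ResidueField R) M
  exact ⟨_, ⟨(b.equivFun).restrictScalars R⟩⟩

theorem nonempty_equiv_residueField_of_length_eq_one (N : Type v) [AddCommGroup N] [Module R N]
    (h : Module.length R N = 1) : Nonempty (N ≃ₗ[R] ResidueField R) := by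
  rw [Module.length_eq_one_iff] at h
  obtain ⟨I, hI, ⟨e⟩⟩ := isSimpleModule_iff_quot_maximal.mp h
  have : I = maximalIdeal R := IsLocalRing.eq_maximalIdeal hI
  subst this
  exact ⟨e⟩

/-- swapping the two indices -/
noncomputable def piSwap (A : Type v) [AddCommGroup A] [Module R A] (r s : ℕ) :
    (Fin s → Fin r → A) ≃ₗ[R] (Fin r → Fin s → A) :=
  (LinearEquiv.curry R A (Fin s) (Fin r)).symm ≪≫ₗ
    LinearEquiv.funCongrLeft R A (Equiv.prodComm (Fin r) (Fin s)) ≪≫ₗ
    LinearEquiv.curry R A (Fin r) (Fin s)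

theorem exists_equiv_pow (M : Type v) (N : Type w) [AddCommGroup M] [Module R M] [Module.Finite R M]
    [AddCommGroup N] [Module R N] [Module.Finite R N]
    (hM : ∀ a ∈ maximalIdeal R, ∀ m : M, a • m = 0)
    (hN : ∀ a ∈ maximalIdeal R, ∀ m : N, a • m = 0) (hN0 : Nontrivial N) :
    ∃ r s : ℕ, 1 ≤ s ∧ Nonempty ((Fin s → M) ≃ₗ[R] (Fin r → N)) := by
  obtain ⟨r, ⟨eM⟩⟩ := exists_equiv_pi_residueField M hM
  obtain ⟨s, ⟨eN⟩⟩ := exists_equiv_pi_residueField N hN
  have hs : 1 ≤ s := by
    by_contra hlt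
    have h0 : s = 0 := by omega
    subst h0
    haveI : Subsingleton N := eN.toEquiv.subsingleton
    exact not_subsingleton N inferInstance
  refine ⟨r, s, hs, ⟨?_⟩⟩
  exact LinearEquiv.piCongrRight (fun _ => eM) ≪≫ₗ piSwap (ResidueField R) r s ≪≫ₗ
    (LinearEquiv.piCongrRight (fun _ => eN)).symm

theorem exists_equiv_pow_one (M : Type v) (N : Type w) [AddCommGroup M] [Module R M]
    [Module.Finite R M] [AddCommGroup N] [Module R N]
    (hM : ∀ a ∈ maximalIdeal R, ∀ m : M, a • m = 0)
    (eN : N ≃ₗ[R] ResidueField R) :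
    ∃ r : ℕ, Nonempty (M ≃ₗ[R] (Fin r → N)) := by
  obtain ⟨r, ⟨eM⟩⟩ := exists_equiv_pi_residueField M hM
  exact ⟨r, ⟨eM ≪≫ₗ (LinearEquiv.piCongrRight (fun _ => eN)).symm⟩⟩

end Groth.Agent.Lib.R2H2.ResField
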