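import Groth.Agent.Lib.R2H2ChowLocal2
import Groth.Agent.Lib.R2H2AffPushLin
import Groth.Agent.Lib.Helper26ModLim
import Groth.Agent.Lib.Helper20InvGen
import Groth.Agent.Lib.R2H2DevI
import Groth.Agent.Lib.R2H2DevC
import Groth.Agent.Lib.R2H2DevD
import Groth.Agent.Lib.R2H2ResField
import Groth.Agent.S9705
import Groth.Agent.Lib.R2H2KoszulShift
import Groth.Agent.Lib.R2H2DualExtGen
set_option backward.isDefEq.respectTransparency.types false
/-!
# Finiteness of coherent cohomology for proper schemes, from Chow's lemma (helper2, round 2)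

* `exists_push_linear_of_leray` : `H^p(X, M) ≃ₗ[A] H^p(Y, f_* M)` from acyclic covers;
* `exists_affine_cover_of_isSeparated`, `exists_leray` (uniform Serre vanishing over a finite cover);
* `isClosedImmersion_cMap`, `finite_HH_L`, `exists_good_module`, `nontrivial_stalk_push_L`;
* `ChowLemma` : the statement of Chow's lemma (`S0025`);
* `finite_HH_of_chow` : **Chow's lemma implies that `H^q(X, M)` is a finite `A`-module for `X`
  proper over a Noetherian ring `A` and `M` coherent** (dévissage, EGA III 3.2.1).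
-/

set_option autoImplicit false
set_option linter.style.haveILetI false
universe u

open CategoryTheory CategoryTheory.Limits AlgebraicGeometry TopologicalSpace Opposite

namespace Groth.Agent.Lib.R2H2.ProperFin

open Groth.Agent.Lib.R2H2.AffPushLin Groth.Agent.Lib.R2H2.LerayNat2
  Groth.Agent.Lib.Helper23.AffVanish

section Gen

variable {X Y : Scheme.{u}} (f : X ⟶ Y)

/-- multiplication by a global function on `f_* M` is the pushforward of multiplication by its
pullback -/
lemma smulAb_push' (M : X.Modules) (r : Coh.Γtop Y) :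
    Coh.smulAb ((Scheme.Modules.pushforward f).obj M) r =
      (CohTop.push f.base).map (Coh.smulAb M ((f.appTop).hom r)) := by
  apply Sheaf.hom_ext
  ext U m
  change Coh.resTop Y U r • (show ((Scheme.Modules.pushforward f).obj M).val.obj U from m) = _
  have h1 : (Coh.smulAb M ((f.appTop).hom r)).hom.app (op (f ⁻¹ᵁ U.unop)) m =
      @HSMul.hSMul (X.ringCatSheaf.obj.obj (op (f ⁻¹ᵁ U.unop))) (M.val.obj (op (f ⁻¹ᵁ U.unop)))
        (M.val.obj (op (f ⁻¹ᵁ U.unop))) _
        (Coh.resTop X (op (f ⁻¹ᵁ U.unop)) ((f.appTop).hom r)) m := rfl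
  refine Eq.trans ?_ h1.symm
  have h2 : Coh.resTop X (op (f ⁻¹ᵁ U.unop)) ((f.appTop).hom r) =
      (f.app U.unop).hom (Coh.resTop Y U r) := by
    have := f.naturality (homOfLE (le_top (a := U.unop))).op
    exact (ConcreteCategory.congr_hom this r).symm
  rw [h2]
  rfl

variable {ι : Type u} (V : ι → Y.Opens)
variable (A : Type u) [CommRing A] [X.Over (Spec (CommRingCat.of A))]
  [Y.Over (Spec (CommRingCat.of A))]

/-- **`H^p(X, M) ≃ₗ[A] H^p(Y, f_* M)`** when the preimage of a cover of `Y` is `M`-acyclic and the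
cover is `f_* M`-acyclic -/
theorem exists_push_linear_of_leray
    (hf : f ≫ (Y ↘ Spec (CommRingCat.of A)) = X ↘ Spec (CommRingCat.of A))
    (hcov : ⨆ i, V i = ⊤) (M : X.Modules)
    (hF : Leray (ab' M) (preU f.base V))
    (hF' : Leray ((CohTop.push f.base).obj (ab' M)) V) (p : ℕ) :
    Nonempty (Coh.HH X M p ≃ₗ[A] Coh.HH Y ((Scheme.Modules.pushforward f).obj M) p) := by
  obtain ⟨E, hE⟩ := exists_top_natural f.base V (ab' M) hcov hF hF' p
  let E' : Coh.HH X M p ≃+ Coh.HH Y ((Scheme.Modules.pushforward f).obj M) p := E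
  refine ⟨{ E' with map_smul' := fun r z => ?_ }⟩
  change E (Sheaf.H.map (Coh.smulAb M (Coh.toGlobal (X ↘ Spec (CommRingCat.of A)) r)) p z) =
    Sheaf.H.map (Coh.smulAb ((Scheme.Modules.pushforward f).obj M)
      (Coh.toGlobal (Y ↘ Spec (CommRingCat.of A)) r)) p (E z)
  have h1 : (f.appTop).hom (Coh.toGlobal (Y ↘ Spec (CommRingCat.of A)) r) =
      Coh.toGlobal (X ↘ Spec (CommRingCat.of A)) r := by
    rw [← hf]
    simp only [Coh.toGlobal, Scheme.Hom.comp_appTop, CommRingCat.hom_comp]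
    rfl
  rw [hE, smulAb_push', h1]
  rfl

end Gen

section Cover

theorem isAffineHom_diagonal_of_isSeparated {X S : Scheme.{u}} (f : X ⟶ S) [IsSeparated f]
    [IsAffine S] : IsAffineHom (pullback.diagonal (terminal.from X)) := by
  have h : terminal.from X = f ≫ terminal.from S := terminal.hom_ext _ _
  haveI : IsSeparated (terminal.from X) := by rw [h]; infer_instance
  infer_instance

/-- a finite affine open cover with affine finite intersections -/
theorem exists_affine_cover_of_isSeparated {X S : Scheme.{u}} (f : X ⟶ S) [IsSeparated f]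
    [IsAffine S] [CompactSpace X] :
    ∃ (ι : Type u) (_ : Finite ι) (V : ι → X.Opens), (⨆ i, V i = ⊤) ∧
      (∀ i, IsAffineOpen (V i)) ∧
      ∀ (p : ℕ) (a : Fin (p + 1) → ι), IsAffineOpen (iInf fun k => V (a k)) := by
  haveI := isAffineHom_diagonal_of_isSeparated f
  obtain ⟨s, hs⟩ := Groth.Agent.Lib.Helper26.ModLim.exists_finite_affine_cover X
  refine ⟨s, inferInstance, fun k => (k.1 : X.Opens), hs.iSup_eq_top, fun k => k.1.2,
    fun p a => ?_⟩
  exact IsAffineOpen.iInf (fun k => (a k).1.2)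

end Cover


section LerayUniform

open Groth.Agent.Lib.R2H2.ChowLocal Groth.Agent.Lib.R2H2.ChowLocal2

variable {Z Z' : Scheme.{u}} (n : ℕ) (π : Z' ⟶ Z)
  (j' : Z' ⟶ CohB1.ProjSpace n (ULift.{u} ℤ))

lemma iInf_preU_eq {ι : Type u} (V : ι → Z.Opens) (p : ℕ) (a : Fin (p + 1) → ι) :
    (iInf fun k => preU π.base V (a k)) = π ⁻¹ᵁ (iInf fun k => V (a k)) := by
  apply Opens.ext
  rw [Opens.coe_iInf]
  change _ = π.base ⁻¹' ((iInf fun k => V (a k) : Z.Opens) : Set Z)
  rw [Opens.coe_iInf, Set.preimage_iInter]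
  rfl

/-- **uniform Serre vanishing over a finite cover**: for `m ≫ 0` the preimage of the cover is
`L(m)`-acyclic -/
theorem exists_leray [IsClosedImmersion (cMap n π j')] [IsLocallyNoetherian Z] {ι : Type u}
    [Finite ι] (V : ι → Z.Opens)
    (hV : ∀ (p : ℕ) (a : Fin (p + 1) → ι), IsAffineOpen (iInf fun k => V (a k))) :
    ∃ m₀ : ℤ, ∀ m : ℤ, m₀ ≤ m → Leray (ab' (L n j' m)) (preU π.base V) := by
  classical
  haveI := Fintype.ofFinite ι
  have key : ∀ s : Finset ι, ∃ m₀ : ℤ, IsAffineOpen (⨅ i ∈ s, V i) → ∀ m : ℤ, m₀ ≤ m →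
      ∀ q : ℕ, Subsingleton (CohTop.HU (X := Z'.carrier) (Coh.toAb (L n j' m)) (q + 1)
        (π ⁻¹ᵁ (⨅ i ∈ s, V i))) := by
    intro s
    by_cases h : IsAffineOpen (⨅ i ∈ s, V i)
    · haveI : IsNoetherianRing Γ(Z, ⨅ i ∈ s, V i) :=
        IsLocallyNoetherian.component_noetherian ⟨_, h⟩
      obtain ⟨m₀, hm₀⟩ := exists_vanishing_HU n π j' h
      exact ⟨m₀, fun _ => hm₀⟩
    · exact ⟨0, fun h' => (h h').elim⟩
  choose m₀ hm₀ using key
  obtain ⟨M, hM⟩ := (Finset.univ.image m₀).exists_le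
  refine ⟨M, fun m hm p a q => ?_⟩
  have e : (⨅ i ∈ Finset.image a Finset.univ, V i) = iInf fun k => V (a k) := by
    apply le_antisymm
    · refine le_iInf fun k => ?_
      exact iInf₂_le (a k) (Finset.mem_image.2 ⟨k, Finset.mem_univ k, rfl⟩)
    · refine le_iInf₂ fun i hi => ?_
      obtain ⟨k, -, rfl⟩ := Finset.mem_image.1 hi
      exact iInf_le _ k
  have h1 := hm₀ (Finset.image a Finset.univ) (e ▸ hV p a) m
    ((hM _ (Finset.mem_image.2 ⟨_, Finset.mem_univ _, rfl⟩)).trans hm) q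
  rw [iInf_preU_eq, ← e]
  exact h1

end LerayUniform


section Stalk

theorem nontrivial_stalk_of_isInvertible {X : Scheme.{u}} (L : X.Modules)
    (hL : PicF.IsInvertible L) (x : X) : Nontrivial (L.presheaf.stalk x) := by
  obtain ⟨W, t, hxW, hbij⟩ := Groth.Agent.Lib.Helper20.InvGen.exists_local_generator L hL x
  exact (hbij x hxW).1.nontrivial

theorem nontrivial_stalk_push_of_nhds {X Y : Scheme.{u}} (f : Y ⟶ X) (M : Y.Modules) (y : Y)
    (hnb : ∀ V' : Y.Opens, y ∈ V' → ∃ V : X.Opens, f y ∈ V ∧ f ⁻¹ᵁ V ≤ V')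
    (h : Nontrivial (M.presheaf.stalk y)) :
    Nontrivial (((Scheme.Modules.pushforward f).obj M).presheaf.stalk (f y)) := by
  by_contra hne
  rw [not_nontrivial_iff_subsingleton] at hne
  have : Subsingleton (M.presheaf.stalk y) := by
    refine ⟨fun a b => ?_⟩
    have key : ∀ c : M.presheaf.stalk y, c = 0 := by
      intro c
      obtain ⟨V', hyV', s₀, rfl⟩ := M.presheaf.exists_germ_eq c
      obtain ⟨U, hfyU, hUV'⟩ := hnb V' hyV'
      have hyU : y ∈ f ⁻¹ᵁ U := hfyU
      rw [← TopCat.Presheaf.germ_res_apply M.presheaf (homOfLE hUV') y hyU s₀]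
      let s' : Γ((Scheme.Modules.pushforward f).obj M, U) := M.presheaf.map (homOfLE hUV').op s₀
      have h0 : ((Scheme.Modules.pushforward f).obj M).presheaf.germ U (f y) hfyU s' =
          ((Scheme.Modules.pushforward f).obj M).presheaf.germ U (f y) hfyU 0 :=
        Subsingleton.elim _ _
      obtain ⟨W, hW, iU, iV, hres⟩ :=
        ((Scheme.Modules.pushforward f).obj M).presheaf.germ_eq (f y) hfyU hfyU s' 0 h0
      rw [map_zero] at hres
      have hyW : y ∈ f ⁻¹ᵁ W := hW
      have hle : f ⁻¹ᵁ W ≤ f ⁻¹ᵁ U := fun w hw => iU.le hw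
      have hres' : M.presheaf.map (homOfLE hle).op
          (M.presheaf.map (homOfLE hUV').op s₀) = 0 := hres
      rw [← TopCat.Presheaf.germ_res_apply M.presheaf (homOfLE hle) y hyW
        (M.presheaf.map (homOfLE hUV').op s₀), hres', map_zero]
    rw [key a, key b]
  exact not_nontrivial_iff_subsingleton.2 this h

/-- a closed map with a one-point fibre has the neighbourhood property at that point -/
theorem nhds_of_isClosedMap {X Y : Scheme.{u}} (f : Y ⟶ X) (hf : IsClosedMap f) (y : Y)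
    (hfib : ∀ x : Y, f x = f y → x = y) (V' : Y.Opens) (hy : y ∈ V') :
    ∃ V : X.Opens, f y ∈ V ∧ f ⁻¹ᵁ V ≤ V' := by
  have hC : IsClosed (f '' ((V' : Set Y)ᶜ)) := hf _ V'.2.isClosed_compl
  refine ⟨⟨(f '' ((V' : Set Y)ᶜ))ᶜ, hC.isOpen_compl⟩, ?_, ?_⟩
  · rintro ⟨x, hx, hxy⟩
    exact hx (hfib x hxy ▸ hy)
  · intro x hx
    by_contra hxV
    exact hx ⟨x, hxV, rfl⟩

end Stalk


section Global

open Groth.Agent.Lib.R2H2.ChowLocal Groth.Agent.Lib.R2H2.ChowLocal2 Groth.Agent.Lib.R2H2.ProjOver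
  Groth.Agent.Lib.R2H2.HHLin

attribute [local instance] Groth.Agent.Lib.R2H2.ProjOver.algZ

variable (A : Type u) [CommRing A]
variable {W W' : Scheme.{u}} [W.Over (Spec (CommRingCat.of A))]
  [W'.Over (Spec (CommRingCat.of A))]
  (n : ℕ) (π : W' ⟶ W) (j : W' ⟶ CohB1.ProjSpaceOver n (Spec (CommRingCat.of A)))

/-- the map to `P^n_ℤ` -/
noncomputable abbrev jZ : W' ⟶ CohB1.ProjSpace n (ULift.{u} ℤ) :=
  j ≫ pullback.fst (CohB1.ProjSpace.toSpec n (ULift.{u} ℤ))
    (specULiftZIsTerminal.from (Spec (CommRingCat.of A)))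

/-- the first projection `P^n_S ⟶ P^n_ℤ` -/
noncomputable abbrev toZ (S : Scheme.{u}) : CohB1.ProjSpaceOver n S ⟶ CohB1.ProjSpace n (ULift.{u} ℤ) :=
  pullback.fst (CohB1.ProjSpace.toSpec n (ULift.{u} ℤ)) (specULiftZIsTerminal.from S)

theorem toZ_cond (S : Scheme.{u}) : toZ n S ≫ CohB1.ProjSpace.toSpec n (ULift.{u} ℤ) =
    CohB1.ProjSpaceOver.toBase n S ≫ specULiftZIsTerminal.from S := pullback.condition

theorem prA_comm : toZ n W ≫ CohB1.ProjSpace.toSpec n (ULift.{u} ℤ) =
    (CohB1.ProjSpaceOver.toBase n W ≫ (W ↘ Spec (CommRingCat.of A))) ≫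
      specULiftZIsTerminal.from (Spec (CommRingCat.of A)) := by
  rw [toZ_cond, Category.assoc]
  congr 1
  exact specULiftZIsTerminal.hom_ext _ _

/-- `P^n_W ⟶ P^n_A` -/
noncomputable def prA : CohB1.ProjSpaceOver n W ⟶ CohB1.ProjSpaceOver n (Spec (CommRingCat.of A)) :=
  pullback.lift (toZ n W) (CohB1.ProjSpaceOver.toBase n W ≫ (W ↘ Spec (CommRingCat.of A)))
    (prA_comm A n)

theorem prA_toZ : prA A n (W := W) ≫ toZ n (Spec (CommRingCat.of A)) = toZ n W :=
  pullback.lift_fst _ _ _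

theorem prA_toBase : prA A n (W := W) ≫ CohB1.ProjSpaceOver.toBase n (Spec (CommRingCat.of A)) =
    CohB1.ProjSpaceOver.toBase n W ≫ (W ↘ Spec (CommRingCat.of A)) :=
  pullback.lift_snd _ _ _

theorem projSpaceOver_hom_ext {S T : Scheme.{u}} {f g : T ⟶ CohB1.ProjSpaceOver n S}
    (h1 : f ≫ toZ n S = g ≫ toZ n S)
    (h2 : f ≫ CohB1.ProjSpaceOver.toBase n S = g ≫ CohB1.ProjSpaceOver.toBase n S) : f = g :=
  pullback.hom_ext h1 h2

theorem cMap_prA (hπ : π ≫ (W ↘ Spec (CommRingCat.of A)) = W' ↘ Spec (CommRingCat.of A))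
    (hj : j ≫ CohB1.ProjSpaceOver.toBase n (Spec (CommRingCat.of A)) =
      W' ↘ Spec (CommRingCat.of A)) :
    cMap n π (jZ A n j) ≫ prA A n = j := by
  apply projSpaceOver_hom_ext
  · rw [Category.assoc, prA_toZ]
    exact cMap_fst n π (jZ A n j)
  · rw [Category.assoc, prA_toBase, ← Category.assoc, cMap_toBase, hπ, hj]

theorem isClosedImmersion_of_isProper_of_isImmersion {X Y : Scheme.{u}} (f : X ⟶ Y) [IsProper f]
    [IsImmersion f] : IsClosedImmersion f :=
  IsClosedImmersion.of_isPreimmersion f f.isClosedMap.isClosed_range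

theorem isClosedImmersion_cMap [IsImmersion j] [IsProper π]
    (hπ : π ≫ (W ↘ Spec (CommRingCat.of A)) = W' ↘ Spec (CommRingCat.of A))
    (hj : j ≫ CohB1.ProjSpaceOver.toBase n (Spec (CommRingCat.of A)) =
      W' ↘ Spec (CommRingCat.of A)) :
    IsClosedImmersion (cMap n π (jZ A n j)) := by
  haveI : IsImmersion (cMap n π (jZ A n j) ≫ prA A n) := by
    rw [cMap_prA A n π j hπ hj]; infer_instance
  haveI : IsImmersion (cMap n π (jZ A n j)) := IsImmersion.of_comp _ (prA A n)
  haveI := Groth.Agent.S9705.isProper_toBase n W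
  haveI : IsProper (cMap n π (jZ A n j) ≫ CohB1.ProjSpaceOver.toBase n W) := by
    rw [cMap_toBase]; infer_instance
  haveI : IsProper (cMap n π (jZ A n j)) := IsProper.of_comp _ (CohB1.ProjSpaceOver.toBase n W)
  exact isClosedImmersion_of_isProper_of_isImmersion _

theorem finite_HH_of_iso {X : Scheme.{u}} [X.Over (Spec (CommRingCat.of A))] {M N : X.Modules}
    (e : M ≅ N) (q : ℕ) [Module.Finite A (Coh.HH X M q)] : Module.Finite A (Coh.HH X N q) :=
  Module.Finite.of_surjective (HmapA A e.hom q) (fun y => ⟨HmapA A e.inv q y, by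
    rw [HmapA_apply, HmapA_apply, ← HmapL_comp, e.inv_hom_id, HmapL_id]⟩)

instance isIso_a_id : IsIso (a n A (𝟙 (Spec (CommRingCat.of A)))) :=
  (isPullback_a n A (𝟙 (Spec (CommRingCat.of A)))).isIso_fst_of_isIso

/-- **`H^q(W', L(m))` is a finite `A`-module** -/
theorem finite_HH_L [IsNoetherianRing A] [IsImmersion j]
    [IsProper (W' ↘ Spec (CommRingCat.of A))]
    (hj : j ≫ CohB1.ProjSpaceOver.toBase n (Spec (CommRingCat.of A)) =
      W' ↘ Spec (CommRingCat.of A)) (m : ℤ) (q : ℕ) :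
    Module.Finite A (Coh.HH W' (L n (jZ A n j) m) q) := by
  haveI := Groth.Agent.S9705.isProper_toBase n (Spec (CommRingCat.of A))
  haveI : IsProper (j ≫ CohB1.ProjSpaceOver.toBase n (Spec (CommRingCat.of A))) := by
    rw [hj]; infer_instance
  haveI : IsProper j := IsProper.of_comp j (CohB1.ProjSpaceOver.toBase n (Spec (CommRingCat.of A)))
  haveI : IsClosedImmersion j := isClosedImmersion_of_isProper_of_isImmersion j
  let aA := a n A (𝟙 (Spec (CommRingCat.of A)))
  let kA : W' ⟶ CohB1.ProjSpace n A := j ≫ inv aA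
  haveI : IsClosedImmersion kA := inferInstance
  have h1 : inv aA ≫ CohB1.ProjSpace.toSpec n A =
      CohB1.ProjSpaceOver.toBase n (Spec (CommRingCat.of A)) := by
    rw [IsIso.inv_comp_eq, a_toBase, Category.comp_id]
  have hk : kA ≫ CohB1.ProjSpace.toSpec n A = W' ↘ Spec (CommRingCat.of A) := by
    rw [Category.assoc, h1, hj]
  have h2 : inv aA ≫ Proj.map (phi n (ULift.{u} ℤ) A) (irrelevant_le_map n (ULift.{u} ℤ) A) =
      toZ n (Spec (CommRingCat.of A)) := by
    rw [IsIso.inv_comp_eq]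
    exact (a_fst n A (𝟙 (Spec (CommRingCat.of A)))).symm
  have hcomm : jZ A n j = kA ≫
      Proj.map (phi n (ULift.{u} ℤ) A) (irrelevant_le_map n (ULift.{u} ℤ) A) := by
    rw [Category.assoc, h2]
    rfl
  obtain ⟨e⟩ := nonempty_pullback_twist_iso n (ULift.{u} ℤ) A m
  let e2 : (Scheme.Modules.pullback (kA ≫
      Proj.map (phi n (ULift.{u} ℤ) A) (irrelevant_le_map n (ULift.{u} ℤ) A))).obj
        (Twist.twistProjSpace n (ULift.{u} ℤ) m) ≅
      (Scheme.Modules.pullback kA).obj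
        ((Scheme.Modules.pullback (Proj.map (phi n (ULift.{u} ℤ) A)
          (irrelevant_le_map n (ULift.{u} ℤ) A))).obj
            (Twist.twistProjSpace n (ULift.{u} ℤ) m)) :=
    ((Scheme.Modules.pullbackComp kA _).app _).symm
  let E : L n (jZ A n j) m ≅ (Scheme.Modules.pullback kA).obj (Twist.twistProjSpace n A m) :=
    (Scheme.Modules.pullbackCongr hcomm).app _ ≪≫ e2 ≪≫ (Scheme.Modules.pullback kA).mapIso e
  haveI := Groth.Agent.Lib.R2H2.ProjAff.finite_HH_pullback_twist n A kA hk m q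
  exact finite_HH_of_iso A E.symm q


/-- **the modules `π_* L(m)`, `m ≫ 0`, are coherent with finite cohomology** -/
theorem exists_good_module [IsNoetherianRing A] [IsLocallyNoetherian W]
    [IsProper (W ↘ Spec (CommRingCat.of A))] [IsProper π] [IsImmersion j]
    (hπ : π ≫ (W ↘ Spec (CommRingCat.of A)) = W' ↘ Spec (CommRingCat.of A))
    (hj : j ≫ CohB1.ProjSpaceOver.toBase n (Spec (CommRingCat.of A)) =
      W' ↘ Spec (CommRingCat.of A)) :
    ∃ m₀ : ℤ, ∀ m : ℤ, m₀ ≤ m →
      Coh.IsCoh ((Scheme.Modules.pushforward π).obj (L n (jZ A n j) m)) ∧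
      ∀ p : ℕ, Module.Finite A
        (Coh.HH W ((Scheme.Modules.pushforward π).obj (L n (jZ A n j) m)) p) := by
  haveI := isClosedImmersion_cMap A n π j hπ hj
  haveI : CompactSpace W :=
    QuasiCompact.compactSpace_of_compactSpace (W ↘ Spec (CommRingCat.of A))
  haveI : IsProper (W' ↘ Spec (CommRingCat.of A)) := by rw [← hπ]; infer_instance
  obtain ⟨ι, hfin, V, hcov, hVa, hV⟩ :=
    exists_affine_cover_of_isSeparated (W ↘ Spec (CommRingCat.of A))
  obtain ⟨m₀, hm₀⟩ := exists_leray n π (jZ A n j) V hV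
  refine ⟨m₀, fun m hm => ?_⟩
  have cP := isCoh_push_L n π (jZ A n j) m
  refine ⟨cP, fun p => ?_⟩
  haveI : ((Scheme.Modules.pushforward π).obj (L n (jZ A n j) m)).IsQuasicoherent := cP.1
  have hF' : Leray ((CohTop.push π.base).obj (ab' (L n (jZ A n j) m))) V := by
    intro p a q
    exact subsingleton_HE_of_isAffineOpen (hV p a)
      ((Scheme.Modules.pushforward π).obj (L n (jZ A n j) m)) q
  obtain ⟨e⟩ := exists_push_linear_of_leray π V A hπ hcov (L n (jZ A n j) m) (hm₀ m hm) hF' p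
  haveI := finite_HH_L A n j hj m p
  exact Module.Finite.equiv e


end Global


section GenericStalk

open Groth.Agent.Lib.R2H2.ChowLocal

variable {W W' : Scheme.{u}} (n : ℕ) (π : W' ⟶ W) (j' : W' ⟶ CohB1.ProjSpace n (ULift.{u} ℤ))

theorem fibre_eq_of_isIso_restrict (U : W.Opens) [IsIso (π ∣_ U)] (x y : W') (hy : π y ∈ U)
    (hxy : π x = π y) : x = y := by
  have hx : π x ∈ U := hxy ▸ hy
  let x' : ↥(π ⁻¹ᵁ U) := ⟨x, hx⟩
  let y' : ↥(π ⁻¹ᵁ U) := ⟨y, hy⟩
  have h1 : (π ∣_ U) x' = (π ∣_ U) y' := by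
    apply Subtype.ext
    rw [morphismRestrict_base_coe, morphismRestrict_base_coe]
    exact hxy
  have hinj : Function.Injective (π ∣_ U) :=
    (ConcreteCategory.bijective_of_isIso (π ∣_ U).base).1
  exact congrArg Subtype.val (hinj h1)

/-- the stalk of `π_* L(m)` at the generic point is nonzero when `π` is a closed surjective map
which is an isomorphism over a dense open -/
theorem nontrivial_stalk_push_L [IsIntegral W] [IsProper π] (hsurj : Function.Surjective π)
    (U : W.Opens) (hU : Dense (U : Set W)) [IsIso (π ∣_ U)] (m : ℤ) :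
    Nontrivial (((Scheme.Modules.pushforward π).obj (L n j' m)).presheaf.stalk
      (genericPoint W)) := by
  have hzU : genericPoint W ∈ U := by
    have h := (genericPoint_spec W).mem_open_set_iff U.2
    obtain ⟨x, hx⟩ := hU.nonempty
    exact h.2 ⟨x, trivial, hx⟩
  obtain ⟨z', hz'⟩ := hsurj (genericPoint W)
  have hnb := nhds_of_isClosedMap π π.isClosedMap z'
    (fun x hx => fibre_eq_of_isIso_restrict π U x z' (hz' ▸ hzU) hx)
  have h1 := nontrivial_stalk_push_of_nhds π (L n j' m) z' hnb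
    (nontrivial_stalk_of_isInvertible _ (isInvertible_L n j' m) z')
  rw [hz'] at h1
  exact h1

end GenericStalk


section Main

open Groth.Agent.Lib.R2H2.ChowLocal Groth.Agent.Lib.R2H2.HHLin Groth.Agent.Lib.R2H2.StalkPow

/-- the statement of Chow's lemma (`S0025`) -/
def ChowLemma : Prop :=
  ∀ {X S : Scheme.{u}} (f : X ⟶ S) [IsNoetherian S] [IsSeparated f]
    [LocallyOfFiniteType f] [QuasiCompact f],
    ∃ (n : ℕ) (X' : Scheme.{u}) (π : X' ⟶ X) (j : X' ⟶ CohB1.ProjSpaceOver n S),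
      IsImmersion j ∧ j ≫ CohB1.ProjSpaceOver.toBase n S = π ≫ f ∧ IsProper π ∧ Surjective π ∧
      ∃ U : X.Opens, Dense (U : Set X) ∧ IsIso (π ∣_ U)

variable (A : Type u) [CommRing A] [IsNoetherianRing A] (X : Scheme.{u})
  [X.Over (Spec (CommRingCat.of A))]

/-- the two-out-of-three property of finiteness of cohomology -/
theorem finite_two_of_three (S : ShortComplex X.Modules) (hS : S.ShortExact) :
    ((∀ q, Module.Finite A (Coh.HH X S.X₁ q)) → (∀ q, Module.Finite A (Coh.HH X S.X₂ q)) →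
      ∀ q, Module.Finite A (Coh.HH X S.X₃ q)) ∧
    ((∀ q, Module.Finite A (Coh.HH X S.X₁ q)) → (∀ q, Module.Finite A (Coh.HH X S.X₃ q)) →
      ∀ q, Module.Finite A (Coh.HH X S.X₂ q)) ∧
    ((∀ q, Module.Finite A (Coh.HH X S.X₂ q)) → (∀ q, Module.Finite A (Coh.HH X S.X₃ q)) →
      ∀ q, Module.Finite A (Coh.HH X S.X₁ q)) := by
  refine ⟨fun h₁ h₂ q => ?_, fun h₁ h₃ q => ?_, fun h₂ h₃ q => ?_⟩
  · haveI := h₂ q
    haveI := h₁ (q + 1)
    exact finite_of_exact (HmapA A S.g q) (deltaA A S hS q) (fun y hy => exact₃ S hS q y hy)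
  · haveI := h₁ q
    haveI := h₃ q
    exact finite_of_exact (HmapA A S.f q) (HmapA A S.g q) (fun y hy => exact₂ S hS q y hy)
  · cases q with
    | zero =>
      haveI := h₂ 0
      haveI := hS.mono_f
      haveI : IsNoetherian A (Coh.HH X S.X₂ 0) := isNoetherian_of_isNoetherianRing_of_finite A _
      exact Module.Finite.of_injective (HmapA A S.f 0)
        (Groth.Agent.Lib.R2H2.DualExtGen.injective_HmapL_zero S.f)
    | succ q =>
      haveI := h₃ q
      haveI := h₂ (q + 1)
      exact finite_of_exact (deltaA A S hS q) (HmapA A S.f (q + 1))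
        (fun y hy => exact₁ S hS q y hy)

/-- **Finiteness of coherent cohomology for proper schemes over a Noetherian ring**, assuming
Chow's lemma -/
theorem finite_HH_of_chow (hChow : ChowLemma.{u}) [IsProper (X ↘ Spec (CommRingCat.of A))]
    (M : X.Modules) (hM : Coh.IsCoh M) (q : ℕ) : Module.Finite A (Coh.HH X M q) := by
  haveI : IsLocallyNoetherian X :=
    LocallyOfFiniteType.isLocallyNoetherian (X ↘ Spec (CommRingCat.of A))
  haveI : CompactSpace X :=
    QuasiCompact.compactSpace_of_compactSpace (X ↘ Spec (CommRingCat.of A))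
  haveI : IsNoetherian X := {}
  obtain ⟨ιX, hfinX, VX, hcovX, hVaX, hVX⟩ :=
    exists_affine_cover_of_isSeparated (X ↘ Spec (CommRingCat.of A))
  refine Groth.Agent.Lib.R2H2.DevC.devissage
    (fun F : X.Modules => ∀ q, Module.Finite A (Coh.HH X F q)) ?_ Set.univ isClosed_univ
    (fun s => 1 ≤ s) ?_ ?_ ?_ M hM (Set.subset_univ _) q
  · intro F hF q
    haveI := Groth.Agent.Lib.R2H2.KoszulShift.subsingleton_HH_of_isZero hF q
    infer_instance
  · intro S hS _ _ _ _
    exact finite_two_of_three A X S hS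
  · intro F s _ hs hP q
    obtain ⟨s', rfl⟩ : ∃ s', s = s' + 1 := ⟨s - 1, by omega⟩
    haveI := hP q
    exact Module.Finite.of_surjective (HmapA A (powπ F s') q) (fun y =>
      ⟨HmapA A (powι F s') q y, by
        rw [HmapA_apply, HmapA_apply, ← HmapL_comp, powι_π, HmapL_id]⟩)
  · intro Z hZ hirr _ y hy
    obtain ⟨W, i, hci, hint, hrange, hgenpt⟩ :=
      Groth.Agent.Lib.R2H2.DevD.exists_integral_closed Z hZ hirr y hy
    subst hgenpt
    letI : W.Over (Spec (CommRingCat.of A)) := ⟨i ≫ (X ↘ Spec (CommRingCat.of A))⟩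
    haveI : IsProper (W ↘ Spec (CommRingCat.of A)) :=
      (inferInstance : IsProper (i ≫ (X ↘ Spec (CommRingCat.of A))))
    haveI : IsLocallyNoetherian W :=
      LocallyOfFiniteType.isLocallyNoetherian (W ↘ Spec (CommRingCat.of A))
    obtain ⟨n, W', π, j, hj, hcomm, hπ, hsurj, U, hU, hiso⟩ :=
      hChow (W ↘ Spec (CommRingCat.of A))
    letI : W'.Over (Spec (CommRingCat.of A)) := ⟨π ≫ (W ↘ Spec (CommRingCat.of A))⟩
    obtain ⟨m₀, hm₀⟩ := exists_good_module A n π j rfl hcomm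
    obtain ⟨cG, fG⟩ := hm₀ m₀ le_rfl
    have cG' := Groth.Agent.Lib.R2H2.ClosedPn.isCoh_push i _ cG
    refine ⟨_, cG', fun p => ?_, ?_, ?_⟩
    · obtain ⟨e⟩ := exists_push_linear i VX A rfl hcovX hVX _ cG.1 p
      haveI := fG p
      exact Module.Finite.equiv e
    · exact (Groth.Agent.Lib.R2H2.DevE.support_push_subset i _).trans hrange.le
    · intro N _ _ _ hkN
      haveI := Groth.Agent.Lib.R2H2.DevA.finite_stalk _ cG' (i (genericPoint W))
      exact Groth.Agent.Lib.R2H2.ResField.exists_equiv_pow N _ hkN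
        (fun a ha g => Groth.Agent.Lib.R2H2.DevI.stalk_push_smul_eq_zero i _ a ha g)
        (Groth.Agent.Lib.R2H2.DevE.nontrivial_stalk_push i i.isClosedEmbedding.isEmbedding _
          (genericPoint W) (nontrivial_stalk_push_L n π (jZ A n j) hsurj.surj U hU m₀))


end Main


end Groth.Agent.Lib.R2H2.ProperFin
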