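import Groth.Agent.Lib.R2H2SubFamMod

/-!
# Sections of an arbitrary coproduct of `O_X`-modules over a quasi-compact open are finitely
supported (helper2, round 2)

For a family `E : J → X.Modules` and a finite set `S` of indices, `eS E S` is the idempotent
endomorphism `∑_{j ∈ S} π_j ≫ ι_j` of `∐ E`.  Every section of `∐ E` is locally fixed by some
`eS E S` (`mem_locFin`), hence every section over a quasi-compact open is fixed by some `eS E S`
(`exists_eS_eq`).
-/

set_option autoImplicit false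
set_option linter.unusedSectionVars false
universe u
open CategoryTheory CategoryTheory.Limits AlgebraicGeometry TopologicalSpace Opposite

noncomputable section

namespace Groth.Agent.Lib.R2H2.CoprodSec

open Groth.Agent.Lib.R2H2.SubFam Groth.Agent.Lib.Helper23.Extend

variable {X : Scheme.{u}} {J : Type u} [DecidableEq J] (E : J → X.Modules)

/-- the idempotent of `∐ E` cutting out the finite subsum `S` -/
def eS (S : Finset J) : (∐ E) ⟶ ∐ E := ∑ j ∈ S, Sigma.π E j ≫ Sigma.ι E j

lemma ι_eS (S : Finset J) (j : J) :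
    Sigma.ι E j ≫ eS E S = if j ∈ S then Sigma.ι E j else 0 := by
  unfold eS
  rw [Preadditive.comp_sum]
  split_ifs with h
  · rw [Finset.sum_eq_single j]
    · rw [Sigma.ι_π_eq_id_assoc]
    · intro b _ hb
      rw [Sigma.ι_π_of_ne_assoc E (Ne.symm hb), zero_comp]
    · intro hj
      exact absurd h hj
  · refine Finset.sum_eq_zero (fun b hb => ?_)
    have hjb : j ≠ b := fun e => h (e ▸ hb)
    rw [Sigma.ι_π_of_ne_assoc E hjb, zero_comp]

lemma eS_comp_eS (S S' : Finset J) (h : S ⊆ S') : eS E S ≫ eS E S' = eS E S := by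
  apply Sigma.hom_ext
  intro j
  rw [← Category.assoc, ι_eS]
  split_ifs with hj
  · rw [ι_eS, if_pos (h hj)]
  · rw [zero_comp]

/-- the section `t` is supported in the finite subsum `S` -/
def FS {T : X.Opens} (t : Γ(∐ E, T)) : Prop := ∃ S : Finset J, (eS E S).app T t = t

variable {E}

lemma app_eS_of_subset {S S' : Finset J} (h : S ⊆ S') {T : X.Opens} (t : Γ(∐ E, T))
    (ht : (eS E S).app T t = t) : (eS E S').app T t = t :=
  calc (eS E S').app T t = (eS E S').app T ((eS E S).app T t) := by rw [ht]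
    _ = (eS E S ≫ eS E S').app T t := rfl
    _ = (eS E S).app T t := by rw [eS_comp_eS E S S' h]
    _ = t := ht

lemma FS.res {T' T : X.Opens} (h : T' ≤ T) {t : Γ(∐ E, T)} (ht : FS E t) :
    FS E (rs (∐ E) h t) := by
  obtain ⟨S, hS⟩ := ht
  refine ⟨S, ?_⟩
  have := app_map (eS E S) (homOfLE h) t
  rw [hS] at this
  exact this

lemma FS.add {T : X.Opens} {t t' : Γ(∐ E, T)} (ht : FS E t) (ht' : FS E t') : FS E (t + t') := by
  obtain ⟨S, hS⟩ := ht
  obtain ⟨S', hS'⟩ := ht'
  refine ⟨S ∪ S', ?_⟩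
  rw [map_add, app_eS_of_subset Finset.subset_union_left t hS,
    app_eS_of_subset Finset.subset_union_right t' hS']

lemma FS.zero {T : X.Opens} : FS E (0 : Γ(∐ E, T)) := ⟨∅, map_zero _⟩

lemma FS.smul {T : X.Opens} (r : Γ(X, T)) {t : Γ(∐ E, T)} (ht : FS E t) : FS E (r • t) := by
  obtain ⟨S, hS⟩ := ht
  exact ⟨S, by rw [Scheme.Modules.Hom.app_smul, hS]⟩

lemma FS.ι {T : X.Opens} (j : J) (s : Γ(E j, T)) : FS E ((Sigma.ι E j).app T s) := by
  refine ⟨{j}, ?_⟩
  change (Sigma.ι E j ≫ eS E {j}).app T s = _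
  rw [ι_eS, if_pos (Finset.mem_singleton_self j)]

variable (E)

/-- the sub-module of locally finitely supported sections -/
def locFin : Fam (∐ E) where
  obj T :=
    { carrier := {t | ∀ x ∈ T, ∃ (T' : X.Opens) (h : T' ≤ T), x ∈ T' ∧ FS E (rs (∐ E) h t)}
      add_mem' := by
        intro t t' ht ht' x hx
        obtain ⟨T₁, h₁, hx₁, f₁⟩ := ht x hx
        obtain ⟨T₂, h₂, hx₂, f₂⟩ := ht' x hx
        refine ⟨T₁ ⊓ T₂, inf_le_left.trans h₁, ⟨hx₁, hx₂⟩, ?_⟩
        rw [rs_add]
        refine FS.add ?_ ?_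
        · have := f₁.res (inf_le_left : T₁ ⊓ T₂ ≤ T₁)
          rwa [rs_rs] at this
        · have := f₂.res (inf_le_right : T₁ ⊓ T₂ ≤ T₂)
          rwa [rs_rs] at this
      zero_mem' := by
        intro x hx
        refine ⟨T, le_rfl, hx, ?_⟩
        rw [rs_zero]
        exact FS.zero
      smul_mem' := by
        intro r t ht x hx
        obtain ⟨T₁, h₁, hx₁, f₁⟩ := ht x hx
        refine ⟨T₁, h₁, hx₁, ?_⟩
        rw [rs_smul]
        exact f₁.smul _ }
  res_mem := by
    intro T' T h t ht x hx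
    obtain ⟨T₁, h₁, hx₁, f₁⟩ := ht x (h hx)
    refine ⟨T₁ ⊓ T', inf_le_right, ⟨hx₁, hx⟩, ?_⟩
    rw [rs_rs]
    have := f₁.res (inf_le_left : T₁ ⊓ T' ≤ T₁)
    rwa [rs_rs] at this
  loc := by
    intro T t ht x hx
    obtain ⟨T', h, hx', hmem⟩ := ht x hx
    obtain ⟨T'', h', hx'', f⟩ := hmem x hx'
    refine ⟨T'', h'.trans h, hx'', ?_⟩
    rwa [rs_rs] at f

lemma cokernel_π_locFin_ι : cokernel.π (locFin E).ι = 0 := by
  apply Sigma.hom_ext
  intro j
  rw [comp_zero]
  apply Scheme.Modules.hom_ext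
  intro T
  ext s
  have hmem : (Sigma.ι E j).app T s ∈ (locFin E).obj T := by
    intro x hx
    refine ⟨T, le_rfl, hx, ?_⟩
    rw [rs_self]
    exact FS.ι j s
  have h1 : (locFin E).ι.app T ((locFin E).sec _ hmem) = (Sigma.ι E j).app T s :=
    (locFin E).ι_app_sec _ hmem
  change (cokernel.π (locFin E).ι).app T ((Sigma.ι E j).app T s) = 0
  rw [← h1]
  change ((locFin E).ι ≫ cokernel.π (locFin E).ι).app T _ = 0
  rw [cokernel.condition]
  rfl

/-- **every section of a coproduct is locally finitely supported** -/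
theorem mem_locFin {T : X.Opens} (t : Γ(∐ E, T)) : t ∈ (locFin E).obj T := by
  have hepi : Epi (locFin E).ι := Abelian.epi_of_cokernel_π_eq_zero _ (cokernel_π_locFin_ι E)
  have hiso : IsIso (locFin E).ι := isIso_of_mono_of_epi _
  have hsurj : Function.Surjective ((locFin E).ι.app T) :=
    (ConcreteCategory.bijective_of_isIso ((locFin E).ι.app T)).2
  obtain ⟨s, rfl⟩ := hsurj t
  exact (locFin E).ι_app_mem s

/-- **every section of a coproduct over a quasi-compact open is finitely supported** -/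
theorem exists_eS_eq {T : X.Opens} (hT : IsCompact (T : Set X)) (t : Γ(∐ E, T)) :
    ∃ S : Finset J, (eS E S).app T t = t := by
  have h := mem_locFin E t
  choose! W hW hxW S hS using h
  obtain ⟨F, hF⟩ := hT.elim_finite_subcover (fun x : T => ((W x.1 : X.Opens) : Set X))
    (fun x => (W x.1).2) (fun y hy => Set.mem_iUnion.mpr ⟨⟨y, hy⟩, hxW y hy⟩)
  refine ⟨F.biUnion (fun x => S x.1), ?_⟩
  refine eq_of_locally_eq _ _ (fun y hy => ?_)
  obtain ⟨x, hxF, hyx⟩ : ∃ x ∈ F, y ∈ W x.1 := by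
    have := hF hy
    simpa using this
  refine ⟨W x.1, hW x.1 x.2, hyx, ?_⟩
  have h1 := app_map (eS E (F.biUnion (fun x => S x.1))) (homOfLE (hW x.1 x.2)) t
  refine h1.symm.trans ?_
  exact app_eS_of_subset (Finset.subset_biUnion_of_mem (fun x : T => S x.1) hxF) _ (hS x.1 x.2)

end Groth.Agent.Lib.R2H2.CoprodSec
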