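import Mathlib
import Groth.Prelude.Def_ega3
import Groth.Prelude.Def_Formal2
import Groth.Agent.S9530
import Groth.Agent.Lib.R2H2CoprodCoh
import Groth.Agent.Lib.Helper23QCohLocal

/-!
# The submodules `J·F` and multiplication maps between them (helper2, round 2)

For `X` over `Spec A`, `F : X.Modules`, ideals `J, J'` of `A` and `a : A` with `a·J ⊆ J'`:
* `mulTo F a h : idealMul J F ⟶ idealMul J' F` with `mulTo_ι`, additivity, composition;
* `nu F a ha : F ⟶ idealMul J F` for `a ∈ J`;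
* `mulMap_eq_mulTo`;
* `Hmul` : the induced maps on cohomology.
-/

set_option autoImplicit false
universe u
open CategoryTheory CategoryTheory.Limits AlgebraicGeometry Opposite

namespace Groth.Agent.Lib.R2H2.IdealMul

variable {A : Type u} [CommRing A] {X : Scheme.{u}} [X.Over (Spec (CommRingCat.of A))]
  (F : X.Modules)

instance mono_idealMulι (J : Ideal A) : Mono (CohIII.idealMulι J F) :=
  inferInstanceAs (Mono (image.ι (Formal.smulFamily J F)))

/-- the epimorphism `∐_{b ∈ J} F ⟶ J·F` -/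
noncomputable abbrev idealMulπ (J : Ideal A) : (∐ fun _ : J => F) ⟶ CohIII.idealMul J F :=
  factorThruImage (Formal.smulFamily J F)

instance epi_idealMulπ (J : Ideal A) : Epi (idealMulπ F J) :=
  inferInstanceAs (Epi (factorThruImage (Formal.smulFamily J F)))

theorem idealMulπ_ι (J : Ideal A) : idealMulπ F J ≫ CohIII.idealMulι J F = Formal.smulFamily J F :=
  image.fac _

/-- the square defining `mulTo` -/
noncomputable def mulToSq {J J' : Ideal A} (a : A) (h : ∀ b ∈ J, a * b ∈ J') :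
    Arrow.mk (Formal.smulFamily J F) ⟶ Arrow.mk (Formal.smulFamily J' F) :=
  Arrow.homMk (Sigma.map' (fun b : J => (⟨a * b, h b b.2⟩ : ↥J')) (fun _ => 𝟙 F))
    (Formal.smulMod A F a) (by
      apply Sigma.hom_ext
      intro b
      simp only [Arrow.mk_hom, Arrow.mk_left, Arrow.mk_right, Formal.smulFamily,
        Sigma.ι_comp_map'_assoc, Sigma.ι_desc, Sigma.ι_desc_assoc, Category.id_comp,
        CohIII.smulMod_mul])

/-- multiplication by `a` as a map `J·F ⟶ J'·F` when `a·J ⊆ J'` -/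
noncomputable def mulTo {J J' : Ideal A} (a : A) (h : ∀ b ∈ J, a * b ∈ J') :
    CohIII.idealMul J F ⟶ CohIII.idealMul J' F :=
  image.map (mulToSq F a h)

@[reassoc]
theorem mulTo_ι {J J' : Ideal A} (a : A) (h : ∀ b ∈ J, a * b ∈ J') :
    mulTo F a h ≫ CohIII.idealMulι J' F = CohIII.idealMulι J F ≫ Formal.smulMod A F a :=
  image.map_ι (mulToSq F a h)

theorem mulMap_eq_mulTo (I J : Ideal A) (a : I) :
    CohIII.mulMap I J F a = mulTo F (a : A) (fun _ hb => Ideal.mul_mem_mul a.2 hb) := by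
  rw [← cancel_mono (CohIII.idealMulι (I * J) F), mulTo_ι]
  exact image.map_ι (CohIII.mulSq I J F a)

theorem smulMod_add (a b : A) :
    Formal.smulMod A F (a + b) = Formal.smulMod A F a + Formal.smulMod A F b := by
  unfold Formal.smulMod
  rw [map_add]
  apply Scheme.Modules.hom_ext
  intro U
  ext m
  change (show Γ(X, U) from Coh.resTop X (op U) (_ + _)) • (show Γ(F, U) from m) =
    (show Γ(X, U) from Coh.resTop X (op U) _) • (show Γ(F, U) from m) +
      (show Γ(X, U) from Coh.resTop X (op U) _) • (show Γ(F, U) from m)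
  rw [← add_smul]
  congr 1
  exact map_add (Coh.resTop X (op U)) _ _

theorem smulMod_one : Formal.smulMod A F 1 = 𝟙 F := by
  unfold Formal.smulMod
  rw [map_one]
  apply Scheme.Modules.hom_ext
  intro U
  ext m
  change (show Γ(X, U) from Coh.resTop X (op U) 1) • (show Γ(F, U) from m) = m
  have : (show Γ(X, U) from Coh.resTop X (op U) 1) = 1 := map_one (Coh.resTop X (op U))
  rw [this, one_smul]

theorem mulTo_add {J J' : Ideal A} (a a' : A) (h : ∀ b ∈ J, a * b ∈ J')
    (h' : ∀ b ∈ J, a' * b ∈ J') (h'' : ∀ b ∈ J, (a + a') * b ∈ J') :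
    mulTo F (a + a') h'' = mulTo F a h + mulTo F a' h' := by
  rw [← cancel_mono (CohIII.idealMulι J' F), mulTo_ι, Preadditive.add_comp, mulTo_ι, mulTo_ι,
    smulMod_add, Preadditive.comp_add]

theorem mulTo_comp {J J' J'' : Ideal A} (a a' : A) (h : ∀ b ∈ J, a * b ∈ J')
    (h' : ∀ b ∈ J', a' * b ∈ J'') (h'' : ∀ b ∈ J, (a' * a) * b ∈ J'') :
    mulTo F a h ≫ mulTo F a' h' = mulTo F (a' * a) h'' := by
  rw [← cancel_mono (CohIII.idealMulι J'' F), Category.assoc, mulTo_ι, mulTo_ι_assoc, mulTo_ι,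
    CohIII.smulMod_mul]

theorem mulTo_one_self (J : Ideal A) (h : ∀ b ∈ J, (1 : A) * b ∈ J) :
    mulTo F (1 : A) h = 𝟙 _ := by
  rw [← cancel_mono (CohIII.idealMulι J F), mulTo_ι, smulMod_one, Category.comp_id, Category.id_comp]

/-- multiplication by `a ∈ J` as a map `F ⟶ J·F` -/
noncomputable def nu {J : Ideal A} (a : A) (ha : a ∈ J) : F ⟶ CohIII.idealMul J F :=
  Sigma.ι (fun _ : J => F) ⟨a, ha⟩ ≫ idealMulπ F J

@[reassoc]
theorem nu_ι {J : Ideal A} (a : A) (ha : a ∈ J) :
    nu F a ha ≫ CohIII.idealMulι J F = Formal.smulMod A F a := by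
  unfold nu
  rw [Category.assoc, idealMulπ_ι, Formal.smulFamily, Sigma.ι_desc]

/-- `J·F` is quasi-coherent when `F` is -/
theorem isQuasicoherent_idealMul [F.IsQuasicoherent] (J : Ideal A) :
    (CohIII.idealMul J F).IsQuasicoherent := by
  classical
  haveI : (∐ fun _ : J => F).IsQuasicoherent :=
    Groth.Agent.Lib.R2H2.CoprodCoh.isQuasicoherent_sigma (fun _ : J => F) (fun _ => inferInstance)
  haveI : (cokernel (Formal.smulFamily J F)).IsQuasicoherent :=
    Groth.Agent.Lib.Helper23.QCohLocal.isQuasicoherent_cokernel _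
  haveI : (kernel (cokernel.π (Formal.smulFamily J F))).IsQuasicoherent :=
    Groth.Agent.Lib.Helper23.QCohLocal.isQuasicoherent_kernel _
  exact (SheafOfModules.isQuasicoherent X.ringCatSheaf).prop_of_iso
    (Abelian.imageIsoImage (Formal.smulFamily J F)) inferInstance

/-- the maps on cohomology -/
noncomputable def Hmul {J J' : Ideal A} (a : A) (h : ∀ b ∈ J, a * b ∈ J') (p : ℕ) :
    Coh.HH X (CohIII.idealMul J F) p →+ Coh.HH X (CohIII.idealMul J' F) p :=
  Sheaf.H.map ((SheafOfModules.toSheaf _).map (mulTo F a h)) p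

theorem Hmul_add {J J' : Ideal A} (a a' : A) (h : ∀ b ∈ J, a * b ∈ J')
    (h' : ∀ b ∈ J, a' * b ∈ J') (h'' : ∀ b ∈ J, (a + a') * b ∈ J') (p : ℕ)
    (x : Coh.HH X (CohIII.idealMul J F) p) :
    Hmul F (a + a') h'' p x = Hmul F a h p x + Hmul F a' h' p x := by
  unfold Hmul
  rw [mulTo_add F a a' h h' h'']
  have : (SheafOfModules.toSheaf X.ringCatSheaf).map (mulTo F a h + mulTo F a' h') =
      (SheafOfModules.toSheaf X.ringCatSheaf).map (mulTo F a h) +
        (SheafOfModules.toSheaf X.ringCatSheaf).map (mulTo F a' h') := Functor.map_add _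
  rw [this, Sheaf.H.map_add_apply]

theorem Hmul_comp {J J' J'' : Ideal A} (a a' : A) (h : ∀ b ∈ J, a * b ∈ J')
    (h' : ∀ b ∈ J', a' * b ∈ J'') (h'' : ∀ b ∈ J, (a' * a) * b ∈ J'') (p : ℕ)
    (x : Coh.HH X (CohIII.idealMul J F) p) :
    Hmul F a' h' p (Hmul F a h p x) = Hmul F (a' * a) h'' p x := by
  unfold Hmul
  rw [← mulTo_comp F a a' h h' h'']
  exact Formal.HHmap_comp _ _ p x

end Groth.Agent.Lib.R2H2.IdealMul
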