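import Mathlib
import Groth.Agent.Lib.Helper13PullbackUnit

/-!
# Units of pullback/pushforward adjunctions and composition (helper3, round 2)

For `f : X ⟶ Y`, `g : Y ⟶ Z`, `p : X ⟶ Z` with `e : f ≫ g = p`:
* `T e G : f^* g^* G ≅ p^* G` (the iso `pullbackComp ≪≫ pullbackCongr` of the milestone statements);
* `T_hom_unitSec`: `T` sends `unitSec_f (unitSec_g n)` to `unitSec_p n`;
* `kappa e G : g_* g^* G ⟶ p_* p^* G` with `kappa_app` and the key formula `kappa_smul_unitSec`;
* `pullback_hom_ext`: morphisms out of `p^* F` are determined by their values on pulled back sections.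
-/

set_option autoImplicit false
set_option linter.unusedSectionVars false
universe u
open CategoryTheory CategoryTheory.Limits AlgebraicGeometry TopologicalSpace Opposite

namespace Groth.Agent.Lib.R2H3.PullUnit

open Groth.Agent.Helper13PullbackUnit

section comp

variable {X Y Z : Scheme.{u}} (f : X ⟶ Y) (g : Y ⟶ Z)

theorem unit_pullbackComp (G : Z.Modules) :
    (Scheme.Modules.pullbackPushforwardAdjunction (f ≫ g)).unit.app G ≫
      (Scheme.Modules.pushforward (f ≫ g)).map ((Scheme.Modules.pullbackComp f g).inv.app G) =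
    ((Scheme.Modules.pullbackPushforwardAdjunction g).comp
      (Scheme.Modules.pullbackPushforwardAdjunction f)).unit.app G ≫
        (Scheme.Modules.pushforwardComp f g).hom.app _ := by
  have h := unit_conjugateEquiv ((Scheme.Modules.pullbackPushforwardAdjunction g).comp
      (Scheme.Modules.pullbackPushforwardAdjunction f))
    (Scheme.Modules.pullbackPushforwardAdjunction (f ≫ g)) (Scheme.Modules.pullbackComp f g).inv G
  rw [Scheme.Modules.conjugateEquiv_pullbackComp_inv] at h
  exact h.symm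

theorem pullbackComp_hom_unit (G : Z.Modules) (V : Z.Opens) (n : Γ(G, V)) :
    ((Scheme.Modules.pullbackComp f g).hom.app G).app ((f ≫ g) ⁻¹ᵁ V)
      (((Scheme.Modules.pullbackPushforwardAdjunction f).unit.app
          ((Scheme.Modules.pullback g).obj G)).app (g ⁻¹ᵁ V)
        (((Scheme.Modules.pullbackPushforwardAdjunction g).unit.app G).app V n)) =
    ((Scheme.Modules.pullbackPushforwardAdjunction (f ≫ g)).unit.app G).app V n := by
  have h := unit_pullbackComp f g G
  have h2 := congrArg (fun ψ => Scheme.Modules.Hom.app ψ V n) h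
  simp only [Adjunction.comp_unit_app] at h2
  have h3 : ((Scheme.Modules.pullbackComp f g).inv.app G).app ((f ≫ g) ⁻¹ᵁ V)
      (((Scheme.Modules.pullbackPushforwardAdjunction (f ≫ g)).unit.app G).app V n) =
      ((Scheme.Modules.pullbackPushforwardAdjunction f).unit.app
          ((Scheme.Modules.pullback g).obj G)).app (g ⁻¹ᵁ V)
        (((Scheme.Modules.pullbackPushforwardAdjunction g).unit.app G).app V n) := h2
  rw [← h3]
  have h4 : (Scheme.Modules.pullbackComp f g).inv.app G ≫ (Scheme.Modules.pullbackComp f g).hom.app G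
      = 𝟙 _ := by
    rw [← NatTrans.comp_app, Iso.inv_hom_id]
    rfl
  have h5 := congrArg (fun ψ => Scheme.Modules.Hom.app ψ ((f ≫ g) ⁻¹ᵁ V)
    (((Scheme.Modules.pullbackPushforwardAdjunction (f ≫ g)).unit.app G).app V n)) h4
  exact h5

end comp

section transport

variable {X Y Z : Scheme.{u}} {f : X ⟶ Y} {g : Y ⟶ Z} {p : X ⟶ Z} (e : f ≫ g = p)

/-- the transport isomorphism `f^* g^* G ≅ p^* G` -/
noncomputable def T (G : Z.Modules) :
    (Scheme.Modules.pullback f).obj ((Scheme.Modules.pullback g).obj G) ≅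
      (Scheme.Modules.pullback p).obj G :=
  (Scheme.Modules.pullbackComp f g ≪≫ Scheme.Modules.pullbackCongr e).app G

theorem T_eq (G : Z.Modules) :
    T e G = (Scheme.Modules.pullbackComp f g ≪≫ Scheme.Modules.pullbackCongr e).app G := rfl

theorem T_naturality {F G : Z.Modules} (a : F ⟶ G) :
    (Scheme.Modules.pullback f).map ((Scheme.Modules.pullback g).map a) ≫ (T e G).hom =
      (T e F).hom ≫ (Scheme.Modules.pullback p).map a :=
  (Scheme.Modules.pullbackComp f g ≪≫ Scheme.Modules.pullbackCongr e).hom.naturality a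

include e in
theorem preimage_le (V : Z.Opens) : p ⁻¹ᵁ V ≤ f ⁻¹ᵁ (g ⁻¹ᵁ V) := by
  subst e
  exact le_rfl

theorem unitSec_le_rfl {X Y : Scheme.{u}} (f : Y ⟶ X) (F : X.Modules) (V : X.Opens) (x : Γ(F, V)) :
    unitSec f F (le_refl (f ⁻¹ᵁ V)) x =
      ((Scheme.Modules.pullbackPushforwardAdjunction f).unit.app F).app V x := by
  rw [unitSec_apply]
  have h0 : (homOfLE (le_refl (f ⁻¹ᵁ V))).op = 𝟙 (op (f ⁻¹ᵁ V)) := rfl
  rw [h0, CategoryTheory.Functor.map_id]
  rfl

/-- `T` sends `unitSec_f (unitSec_g n)` to `unitSec_p n` -/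
theorem T_hom_unitSec (G : Z.Modules) (V : Z.Opens) (n : Γ(G, V)) :
    (T e G).hom.app (p ⁻¹ᵁ V)
      (unitSec f ((Scheme.Modules.pullback g).obj G) (preimage_le e V) (unitSec g G le_rfl n)) =
    unitSec p G le_rfl n := by
  subst e
  rw [unitSec_le_rfl, unitSec_le_rfl]
  have h1 : unitSec f ((Scheme.Modules.pullback g).obj G) (preimage_le rfl V)
      (((Scheme.Modules.pullbackPushforwardAdjunction g).unit.app G).app V n) =
      ((Scheme.Modules.pullbackPushforwardAdjunction f).unit.app
          ((Scheme.Modules.pullback g).obj G)).app (g ⁻¹ᵁ V)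
        (((Scheme.Modules.pullbackPushforwardAdjunction g).unit.app G).app V n) :=
    unitSec_le_rfl f _ _ _
  rw [h1]
  have h2 : (T (rfl : f ≫ g = f ≫ g) G).hom = (Scheme.Modules.pullbackComp f g).hom.app G := by
    simp [T, Scheme.Modules.pullbackCongr]
  rw [h2]
  exact pullbackComp_hom_unit f g G V n

end transport

section kappa

variable {X Y Z : Scheme.{u}} {f : X ⟶ Y} {g : Y ⟶ Z} {p : X ⟶ Z} (e : f ≫ g = p)

/-- the canonical map `g_* g^* G ⟶ p_* p^* G` -/
noncomputable def kappa (G : Z.Modules) :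
    (Scheme.Modules.pushforward g).obj ((Scheme.Modules.pullback g).obj G) ⟶
      (Scheme.Modules.pushforward p).obj ((Scheme.Modules.pullback p).obj G) :=
  (Scheme.Modules.pushforward g).map
      ((Scheme.Modules.pullbackPushforwardAdjunction f).unit.app
        ((Scheme.Modules.pullback g).obj G)) ≫
    (Scheme.Modules.pushforwardComp f g).hom.app _ ≫
    (Scheme.Modules.pushforwardCongr e).hom.app _ ≫
    (Scheme.Modules.pushforward p).map (T e G).hom

theorem kappa_app (G : Z.Modules) (V : Z.Opens)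
    (x : Γ((Scheme.Modules.pullback g).obj G, g ⁻¹ᵁ V)) :
    (kappa e G).app V x = (T e G).hom.app (p ⁻¹ᵁ V)
      (unitSec f ((Scheme.Modules.pullback g).obj G) (preimage_le e V) x) := by
  subst e
  rfl

/-- key formula: `κ (a • unitSec_g n) = f♯ a • unitSec_p n` -/
theorem kappa_smul_unitSec (G : Z.Modules) (V : Z.Opens) (a : Γ(Y, g ⁻¹ᵁ V)) (n : Γ(G, V)) :
    (kappa e G).app V (a • unitSec g G le_rfl n) =
      (f.appLE (g ⁻¹ᵁ V) (p ⁻¹ᵁ V) (preimage_le e V) a) • unitSec p G le_rfl n := by
  rw [kappa_app, unitSec_smul, Scheme.Modules.Hom.app_smul, T_hom_unitSec]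

theorem kappa_smul (G : Z.Modules) (V : Z.Opens) (a : Γ(Y, g ⁻¹ᵁ V))
    (x : Γ((Scheme.Modules.pullback g).obj G, g ⁻¹ᵁ V)) :
    (kappa e G).app V (a • x) =
      (f.appLE (g ⁻¹ᵁ V) (p ⁻¹ᵁ V) (preimage_le e V) a) •
        (show Γ((Scheme.Modules.pullback p).obj G, p ⁻¹ᵁ V) from (kappa e G).app V x) := by
  rw [kappa_app, unitSec_smul, Scheme.Modules.Hom.app_smul, ← kappa_app]

end kappa

section adj

variable {X Z : Scheme.{u}} (p : X ⟶ Z)

theorem app_res {M N : X.Modules} (φ : M ⟶ N) {U V : X.Opens} (e : V ≤ U) (m : Γ(M, U)) :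
    φ.app V (M.presheaf.map (homOfLE e).op m) = N.presheaf.map (homOfLE e).op (φ.app U m) :=
  congr($((Scheme.Modules.Hom.mapPresheaf φ).naturality (homOfLE e).op) m)

/-- naturality of the adjunction unit on sections -/
theorem map_unitSec {M N : Z.Modules} (φ : M ⟶ N) {V : Z.Opens} {U : X.Opens} (hle : U ≤ p ⁻¹ᵁ V)
    (m : Γ(M, V)) :
    ((Scheme.Modules.pullback p).map φ).app U (unitSec p M hle m) = unitSec p N hle (φ.app V m) := by
  rw [unitSec_apply, unitSec_apply]
  refine (app_res ((Scheme.Modules.pullback p).map φ) hle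
    (((Scheme.Modules.pullbackPushforwardAdjunction p).unit.app M).app V m)).trans ?_
  congr 1
  have h2 := (Scheme.Modules.pullbackPushforwardAdjunction p).unit.naturality φ
  have h3 := congrArg (fun ψ => Scheme.Modules.Hom.app ψ V m) h2
  exact h3.symm

theorem homEquiv_app {F : Z.Modules} {M : X.Modules} (h : (Scheme.Modules.pullback p).obj F ⟶ M)
    (V : Z.Opens) (m : Γ(F, V)) :
    (((Scheme.Modules.pullbackPushforwardAdjunction p).homEquiv F M) h).app V m =
      h.app (p ⁻¹ᵁ V) (unitSec p F le_rfl m) := by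
  rw [Adjunction.homEquiv_unit, unitSec_le_rfl]
  rfl

theorem homEquiv_symm_app {F : Z.Modules} {M : X.Modules}
    (t : F ⟶ (Scheme.Modules.pushforward p).obj M) (V : Z.Opens) (m : Γ(F, V)) :
    (((Scheme.Modules.pullbackPushforwardAdjunction p).homEquiv F M).symm t).app (p ⁻¹ᵁ V)
      (unitSec p F le_rfl m) = t.app V m := by
  rw [← homEquiv_app, Equiv.apply_symm_apply]

/-- morphisms out of a pullback are determined by their values on pulled back sections -/
theorem pullback_hom_ext {F : Z.Modules} {M : X.Modules}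
    (a b : (Scheme.Modules.pullback p).obj F ⟶ M)
    (h : ∀ (V : Z.Opens) (m : Γ(F, V)),
      a.app (p ⁻¹ᵁ V) (unitSec p F le_rfl m) = b.app (p ⁻¹ᵁ V) (unitSec p F le_rfl m)) : a = b := by
  apply ((Scheme.Modules.pullbackPushforwardAdjunction p).homEquiv F M).injective
  apply Scheme.Modules.hom_ext
  intro V
  ext m
  rw [homEquiv_app, homEquiv_app]
  exact h V m

end adj

section final

variable {X Y Z : Scheme.{u}} {f : X ⟶ Y} {g : Y ⟶ Z} {p : X ⟶ Z} (e : f ≫ g = p)

theorem T_inv_unitSec (G : Z.Modules) (V : Z.Opens) (n : Γ(G, V)) :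
    (T e G).inv.app (p ⁻¹ᵁ V) (unitSec p G le_rfl n) =
      unitSec f ((Scheme.Modules.pullback g).obj G) (preimage_le e V) (unitSec g G le_rfl n) := by
  rw [← T_hom_unitSec e G V n]
  have h4 : (T e G).hom ≫ (T e G).inv = 𝟙 _ := (T e G).hom_inv_id
  exact congrArg (fun ψ => Scheme.Modules.Hom.app ψ (p ⁻¹ᵁ V)
    (unitSec f ((Scheme.Modules.pullback g).obj G) (preimage_le e V) (unitSec g G le_rfl n))) h4

/-- the formal step: a factorization of the transpose of `h` through `κ` gives a descent of `h`. -/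
theorem descent_of_factor {F G : Z.Modules}
    (h : (Scheme.Modules.pullback p).obj F ⟶ (Scheme.Modules.pullback p).obj G)
    (t : F ⟶ (Scheme.Modules.pushforward g).obj ((Scheme.Modules.pullback g).obj G))
    (ht : t ≫ kappa e G =
      ((Scheme.Modules.pullbackPushforwardAdjunction p).homEquiv F _) h) :
    (T e F).inv ≫ (Scheme.Modules.pullback f).map
        (((Scheme.Modules.pullbackPushforwardAdjunction g).homEquiv F _).symm t) ≫ (T e G).hom = h := by
  apply pullback_hom_ext
  intro V m
  change (T e G).hom.app (p ⁻¹ᵁ V) (((Scheme.Modules.pullback f).map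
    (((Scheme.Modules.pullbackPushforwardAdjunction g).homEquiv F _).symm t)).app (p ⁻¹ᵁ V)
      ((T e F).inv.app (p ⁻¹ᵁ V) (unitSec p F le_rfl m))) = _
  rw [T_inv_unitSec, map_unitSec, homEquiv_symm_app]
  refine (kappa_app e G V (t.app V m)).symm.trans ?_
  rw [← homEquiv_app, ← ht]
  rfl

end final

end Groth.Agent.Lib.R2H3.PullUnit
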