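import Mathlib
import Groth.Agent.Lib.Helper13PullbackUnit
import Groth.Agent.Lib.R2H3PullUnit

set_option autoImplicit false
set_option linter.style.haveILetI false
universe u
open CategoryTheory CategoryTheory.Limits AlgebraicGeometry TopologicalSpace Opposite

namespace Groth.Agent.Lib.R2H2.PullSec

open Groth.Agent.Helper13PullbackUnit Groth.Agent.Lib.R2H3.PullUnit

variable {X Y : Scheme.{u}} (f : Y ⟶ X) (F : X.Modules) [F.IsQuasicoherent]
  {V : X.Opens} (hV : IsAffineOpen V) (hU : IsAffineOpen (f ⁻¹ᵁ V))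

/-- the unit on sections over `V` and `f⁻¹ V`. -/
noncomputable abbrev uS : Γ(F, V) →+ Γ((Scheme.Modules.pullback f).obj F, f ⁻¹ᵁ V) :=
  unitSec f F (le_refl (f ⁻¹ᵁ V))

omit [F.IsQuasicoherent] in
theorem uS_smul (r : Γ(X, V)) (x : Γ(F, V)) :
    uS f F (V := V) (r • x) = (f.app V).hom r • uS f F x := by
  have h := unitSec_smul f F (le_refl (f ⁻¹ᵁ V)) r x
  rw [h]
  congr 1
  exact congrArg (fun φ => φ.hom r) (Scheme.Hom.appLE_eq_app f)

include hV hU in
/-- the sections of the pullback are generated by the pulled back sections. -/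
theorem span_range_uS :
    Submodule.span Γ(Y, f ⁻¹ᵁ V) (Set.range (uS f F (V := V))) = ⊤ := by
  set S := Submodule.span Γ(Y, f ⁻¹ᵁ V) (Set.range (uS f F (V := V))) with hS
  obtain ⟨l', -, huniq⟩ := existsUnique_lift f F hV hU (le_refl _)
    (Γ((Scheme.Modules.pullback f).obj F, f ⁻¹ᵁ V) ⧸ S) (0 : Γ(F, V) →+ _)
    (fun r x => by simp)
  have h1 := huniq S.mkQ (fun x => by
    show S.mkQ (uS f F x) = 0
    rw [Submodule.mkQ_apply, Submodule.Quotient.mk_eq_zero]
    exact Submodule.subset_span ⟨x, rfl⟩)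
  have h2 := huniq 0 (fun x => rfl)
  have h3 : S.mkQ = 0 := h1.trans h2.symm
  rw [eq_top_iff]
  intro z _
  have : S.mkQ z = 0 := by rw [h3]; rfl
  rwa [Submodule.mkQ_apply, Submodule.Quotient.mk_eq_zero] at this

include hV hU in
theorem uS_surjective (hs : Function.Surjective (f.app V).hom) :
    Function.Surjective (uS f F (V := V)) := by
  intro z
  have hz : z ∈ Submodule.span Γ(Y, f ⁻¹ᵁ V) (Set.range (uS f F (V := V))) := by
    rw [span_range_uS f F hV hU]; trivial
  induction hz using Submodule.span_induction with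
  | mem x hx => exact hx
  | zero => exact ⟨0, map_zero _⟩
  | add x y _ _ hx hy =>
    obtain ⟨a, rfl⟩ := hx
    obtain ⟨b, rfl⟩ := hy
    exact ⟨a + b, map_add _ _ _⟩
  | smul s x _ hx =>
    obtain ⟨a, rfl⟩ := hx
    obtain ⟨r, rfl⟩ := hs s
    exact ⟨r • a, uS_smul f F r a⟩

include hV hU in
theorem uS_eq_zero_iff (hs : Function.Surjective (f.app V).hom) (x : Γ(F, V)) :
    uS f F x = 0 ↔
      x ∈ (RingHom.ker (f.app V).hom) • (⊤ : Submodule Γ(X, V) Γ(F, V)) := by
  constructor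
  · intro hx
    set K := RingHom.ker (f.app V).hom with hK
    let Q := Γ(F, V) ⧸ (K • (⊤ : Submodule Γ(X, V) Γ(F, V)))
    let σ : Γ(Y, f ⁻¹ᵁ V) →+* Γ(X, V) ⧸ K :=
      (RingHom.quotientKerEquivOfSurjective hs).symm.toRingHom
    have hσ : ∀ r : Γ(X, V), σ ((f.app V).hom r) = Ideal.Quotient.mk K r := by
      intro r
      show (RingHom.quotientKerEquivOfSurjective hs).symm ((f.app V).hom r) = _
      rw [RingEquiv.symm_apply_eq]
      rfl
    letI : Module Γ(Y, f ⁻¹ᵁ V) Q := Module.compHom Q σ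
    let l : Γ(F, V) →+ Q := (Submodule.mkQ _).toAddMonoidHom
    obtain ⟨l', hl', -⟩ := existsUnique_lift f F hV hU (le_refl _) Q l (fun r y => by
      show Submodule.Quotient.mk (r • y) = σ ((f.appLE V (f ⁻¹ᵁ V) (le_refl _)).hom r) •
        (Submodule.Quotient.mk y : Q)
      have : (f.appLE V (f ⁻¹ᵁ V) (le_refl _)).hom r = (f.app V).hom r :=
        congrArg (fun φ => φ.hom r) (Scheme.Hom.appLE_eq_app f)
      rw [this, hσ]
      rfl)
    have h1 := hl' x
    have h2 : l' (unitSec f F (le_refl _) x) = 0 := by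
      show l' (uS f F x) = 0
      rw [hx, map_zero]
    rw [h2] at h1
    exact (Submodule.Quotient.mk_eq_zero _).mp h1.symm
  · intro hx
    refine Submodule.smul_induction_on hx (fun r hr y _ => ?_) (fun a b ha hb => ?_)
    · rw [uS_smul, (RingHom.mem_ker).mp hr, zero_smul]
    · rw [map_add, ha, hb, add_zero]

section top

variable [IsAffine X] [IsAffine Y]

omit [F.IsQuasicoherent] [IsAffine X] in
theorem map_bijective_top (G : Y.Modules) (W : Y.Opens) : Function.Bijective
    (G.presheaf.map (homOfLE ((isAffineOpen_top Y).fromSpec.image_preimage_le W)).op) := by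
  refine map_bijective_of_eq G ?_ _
  rw [Scheme.Hom.image_preimage_eq_opensRange_inf, (isAffineOpen_top Y).opensRange_fromSpec,
    top_inf_eq]

/-- maps out of the pullback of a quasi-coherent module (affine source and target) are determined
by their values on pulled back global sections. -/
theorem hom_ext_uS (G : Y.Modules) (a b : (Scheme.Modules.pullback f).obj F ⟶ G)
    (h : ∀ x : Γ(F, ⊤), a.app (f ⁻¹ᵁ ⊤) (uS f F x) = b.app (f ⁻¹ᵁ ⊤) (uS f F x)) : a = b := by
  haveI : ((Scheme.Modules.pullback f).obj F).IsQuasicoherent :=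
    Groth.Agent.Lib.Helper2.PullbackSec.isQuasicoherent_pullback f F
  have key : ∀ z : Γ((Scheme.Modules.pullback f).obj F, f ⁻¹ᵁ ⊤),
      a.app (f ⁻¹ᵁ ⊤) z = b.app (f ⁻¹ᵁ ⊤) z := by
    intro z
    have hz : z ∈ Submodule.span Γ(Y, f ⁻¹ᵁ ⊤) (Set.range (uS f F (V := ⊤))) := by
      rw [span_range_uS f F (isAffineOpen_top X) (isAffineOpen_top Y)]; trivial
    induction hz using Submodule.span_induction with
    | mem x hx => obtain ⟨y, rfl⟩ := hx; exact h y
    | zero => rw [map_zero, map_zero]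
    | add x y _ _ hx hy => rw [map_add, map_add, hx, hy]
    | smul s x _ hx => rw [Scheme.Modules.Hom.app_smul, Scheme.Modules.Hom.app_smul, hx]
  exact hom_ext_of_app_eq (isAffineOpen_top Y) _ G (fun W => (map_bijective_top G W).1) a b
    (fun z => key z)

/-- existence of maps out of the pullback from semilinear maps on global sections. -/
theorem exists_hom_uS (G : Y.Modules) (l : Γ(F, ⊤) →+ Γ(G, f ⁻¹ᵁ ⊤))
    (hl : ∀ (r : Γ(X, ⊤)) (x : Γ(F, ⊤)), l (r • x) = (f.app ⊤).hom r • l x) :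
    ∃ ψ : (Scheme.Modules.pullback f).obj F ⟶ G,
      ∀ x : Γ(F, ⊤), ψ.app (f ⁻¹ᵁ ⊤) (uS f F x) = l x := by
  haveI : ((Scheme.Modules.pullback f).obj F).IsQuasicoherent :=
    Groth.Agent.Lib.Helper2.PullbackSec.isQuasicoherent_pullback f F
  have hU : IsAffineOpen (f ⁻¹ᵁ (⊤ : X.Opens)) := isAffineOpen_top Y
  obtain ⟨l', hl', -⟩ := existsUnique_lift f F (isAffineOpen_top X) hU
    (le_refl (f ⁻¹ᵁ ⊤)) Γ(G, f ⁻¹ᵁ ⊤) l (fun r x => by
      rw [hl]
      congr 1
      exact (congrArg (fun φ => φ.hom r) (Scheme.Hom.appLE_eq_app f)).symm)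
  have key : ∀ (W : Y.Opens) (_ : W = ⊤)
      (l'' : Γ((Scheme.Modules.pullback f).obj F, W) →ₗ[Γ(Y, W)] Γ(G, W)),
      ∃ ψ : (Scheme.Modules.pullback f).obj F ⟶ G,
        ∀ x : Γ((Scheme.Modules.pullback f).obj F, W), ψ.app W x = l'' x := by
    rintro W rfl l''
    exact exists_hom_of_app (isAffineOpen_top Y) ((Scheme.Modules.pullback f).obj F) G
      (map_bijective_top G) l''.toAddMonoidHom (fun r x => map_smul l'' r x)
  obtain ⟨ψ, hψ⟩ := key (f ⁻¹ᵁ ⊤) rfl l'
  exact ⟨ψ, fun x => (hψ _).trans (hl' x)⟩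

end top

end Groth.Agent.Lib.R2H2.PullSec
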