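import Mathlib
import Groth.Agent.Lib.R2H2PullSec

/-!
# Sections of a pullback over affine opens, general `U ≤ f⁻¹ V` (helper2, round 2)

Versions of the `R2H2PullSec` lemmas for `unitSec f F hle : Γ(F, V) →+ Γ(f^*F, U)` with an arbitrary affine
`U ≤ f ⁻¹ᵁ V`: `span_range_unitSec`, `unitSec_surjective`, `unitSec_eq_zero_iff`.
-/

set_option autoImplicit false
set_option linter.style.haveILetI false
universe u
open CategoryTheory CategoryTheory.Limits AlgebraicGeometry TopologicalSpace Opposite

namespace Groth.Agent.Lib.R2H2.PullSecLE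

open Groth.Agent.Helper13PullbackUnit Groth.Agent.Lib.R2H3.PullUnit Groth.Agent.Lib.R2H2.PullSec

variable {X Y : Scheme.{u}} (f : Y ⟶ X) (F : X.Modules) [F.IsQuasicoherent]
  {V : X.Opens} (hV : IsAffineOpen V) {U : Y.Opens} (hU : IsAffineOpen U) (hle : U ≤ f ⁻¹ᵁ V)

include hV hU in
/-- the sections of the pullback are generated by the pulled back sections. -/
theorem span_range_unitSec :
    Submodule.span Γ(Y, U) (Set.range (unitSec f F hle)) = ⊤ := by
  set S := Submodule.span Γ(Y, U) (Set.range (unitSec f F hle)) with hS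
  obtain ⟨l', -, huniq⟩ := existsUnique_lift f F hV hU hle
    (Γ((Scheme.Modules.pullback f).obj F, U) ⧸ S) (0 : Γ(F, V) →+ _)
    (fun r x => by simp)
  have h1 := huniq S.mkQ (fun x => by
    show S.mkQ (unitSec f F hle x) = 0
    rw [Submodule.mkQ_apply, Submodule.Quotient.mk_eq_zero]
    exact Submodule.subset_span ⟨x, rfl⟩)
  have h2 := huniq 0 (fun x => rfl)
  have h3 : S.mkQ = 0 := h1.trans h2.symm
  rw [eq_top_iff]
  intro z _
  have : S.mkQ z = 0 := by rw [h3]; rfl
  rwa [Submodule.mkQ_apply, Submodule.Quotient.mk_eq_zero] at this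

include hV hU in
theorem unitSec_surjective (hs : Function.Surjective (f.appLE V U hle).hom) :
    Function.Surjective (unitSec f F hle) := by
  intro z
  have hz : z ∈ Submodule.span Γ(Y, U) (Set.range (unitSec f F hle)) := by
    rw [span_range_unitSec f F hV hU hle]; trivial
  induction hz using Submodule.span_induction with
  | mem x hx => exact hx
  | zero => exact ⟨0, map_zero _⟩
  | add x y _ _ hx hy =>
    obtain ⟨a, rfl⟩ := hx
    obtain ⟨b, rfl⟩ := hy
    exact ⟨a + b, map_add _ _ _⟩
  | smul s x _ hx =>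
    obtain ⟨a, rfl⟩ := hx
    obtain ⟨r, rfl⟩ := hs s
    exact ⟨r • a, unitSec_smul f F hle r a⟩

include hV hU in
theorem unitSec_eq_zero_iff (hs : Function.Surjective (f.appLE V U hle).hom) (x : Γ(F, V)) :
    unitSec f F hle x = 0 ↔
      x ∈ (RingHom.ker (f.appLE V U hle).hom) • (⊤ : Submodule Γ(X, V) Γ(F, V)) := by
  constructor
  · intro hx
    set K := RingHom.ker (f.appLE V U hle).hom with hK
    let Q := Γ(F, V) ⧸ (K • (⊤ : Submodule Γ(X, V) Γ(F, V)))
    let σ : Γ(Y, U) →+* Γ(X, V) ⧸ K :=
      (RingHom.quotientKerEquivOfSurjective hs).symm.toRingHom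
    have hσ : ∀ r : Γ(X, V), σ ((f.appLE V U hle).hom r) = Ideal.Quotient.mk K r := by
      intro r
      show (RingHom.quotientKerEquivOfSurjective hs).symm ((f.appLE V U hle).hom r) = _
      rw [RingEquiv.symm_apply_eq]
      rfl
    letI : Module Γ(Y, U) Q := Module.compHom Q σ
    let l : Γ(F, V) →+ Q := (Submodule.mkQ _).toAddMonoidHom
    obtain ⟨l', hl', -⟩ := existsUnique_lift f F hV hU hle Q l (fun r y => by
      show Submodule.Quotient.mk (r • y) = σ ((f.appLE V U hle).hom r) •
        (Submodule.Quotient.mk y : Q)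
      rw [hσ]
      rfl)
    have h1 := hl' x
    rw [hx, map_zero] at h1
    exact (Submodule.Quotient.mk_eq_zero _).mp h1.symm
  · intro hx
    refine Submodule.smul_induction_on hx (fun r hr y _ => ?_) (fun a b ha hb => ?_)
    · rw [unitSec_smul]
      have : (f.appLE V U hle) r = 0 := (RingHom.mem_ker).mp hr
      rw [this, zero_smul]
    · rw [map_add, ha, hb, add_zero]

end Groth.Agent.Lib.R2H2.PullSecLE
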