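import Mathlib

/-!
# Algebra for the Rees-algebra proof of finiteness of `⊕ H^p(X, I^n F)` (helper2, round 2)

* `exists_sum_of_isPushout` : in a pushout square of commutative rings every element of the pushout
  is a sum of products `inl s * inr a`;
* `eq_zero_of_sum_pow_smul` : if `u : M → MT` is a base change along `φ : R → RT` and `RT` maps to
  `R[X]` compatibly (`t ↦ X`), then `∑ tⁿ • u (mₙ) = 0` forces all `mₙ = 0`;
* `smul_mem_closure` : the `RB`-span of `u(M)` inside `MT` consists of sums `∑ tⁿ • u (aₙ mₙ)`,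
  `aₙ ∈ Iⁿ` (`RB` generated by `R` and the Rees algebra);
* `reesNoeth` : the abstract graded Noetherianity argument.
-/

set_option autoImplicit false
universe u
open CategoryTheory CategoryTheory.Limits Polynomial

namespace Groth.Agent.Lib.R2H2.ReesAlg

section Pushout

variable {R S A P : CommRingCat.{u}} {f : R ⟶ S} {g : R ⟶ A} {inl : S ⟶ P} {inr : A ⟶ P}

/-- the additive submonoid of sums of products, as a subring -/
def prodSubring (inl : S ⟶ P) (inr : A ⟶ P) : Subring P where
  carrier := AddSubmonoid.closure {w : P | ∃ s a, w = inl.hom s * inr.hom a}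
  mul_mem' := by
    intro x y hx hy
    induction hx using AddSubmonoid.closure_induction with
    | mem x hx =>
      obtain ⟨s, a, rfl⟩ := hx
      induction hy using AddSubmonoid.closure_induction with
      | mem y hy =>
        obtain ⟨s', a', rfl⟩ := hy
        refine AddSubmonoid.subset_closure ⟨s * s', a * a', ?_⟩
        rw [map_mul, map_mul]; ring
      | zero => rw [mul_zero]; exact AddSubmonoid.zero_mem _
      | add y z _ _ hy hz => rw [mul_add]; exact AddSubmonoid.add_mem _ hy hz
    | zero => rw [zero_mul]; exact AddSubmonoid.zero_mem _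
    | add x z _ _ hx hz => rw [add_mul]; exact AddSubmonoid.add_mem _ hx hz
  one_mem' := AddSubmonoid.subset_closure ⟨1, 1, by rw [map_one, map_one, mul_one]⟩
  add_mem' := fun hx hy => AddSubmonoid.add_mem _ hx hy
  zero_mem' := AddSubmonoid.zero_mem _
  neg_mem' := by
    intro x hx
    induction hx using AddSubmonoid.closure_induction with
    | mem x hx =>
      obtain ⟨s, a, rfl⟩ := hx
      exact AddSubmonoid.subset_closure ⟨-s, a, by rw [map_neg, neg_mul]⟩
    | zero => rw [neg_zero]; exact AddSubmonoid.zero_mem _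
    | add x z _ _ hx hz => rw [neg_add]; exact AddSubmonoid.add_mem _ hx hz

theorem exists_sum_of_isPushout (h : IsPushout f g inl inr) (z : P) :
    z ∈ AddSubmonoid.closure {w : P | ∃ s a, w = inl.hom s * inr.hom a} := by
  let T := prodSubring inl inr
  let inl' : S ⟶ CommRingCat.of T := CommRingCat.ofHom (inl.hom.codRestrict T (fun s =>
    AddSubmonoid.subset_closure ⟨s, 1, by rw [map_one, mul_one]⟩))
  let inr' : A ⟶ CommRingCat.of T := CommRingCat.ofHom (inr.hom.codRestrict T (fun a =>
    AddSubmonoid.subset_closure ⟨1, a, by rw [map_one, one_mul]⟩))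
  have hw : f ≫ inl' = g ≫ inr' := by
    ext r
    exact ConcreteCategory.congr_hom h.w r
  let d := h.desc inl' inr' hw
  let incl : CommRingCat.of T ⟶ P := CommRingCat.ofHom T.subtype
  have hd : d ≫ incl = 𝟙 P := by
    apply h.hom_ext
    · rw [← Category.assoc, h.inl_desc, Category.comp_id]; rfl
    · rw [← Category.assoc, h.inr_desc, Category.comp_id]; rfl
  have : z = incl.hom (d.hom z) := (ConcreteCategory.congr_hom hd z).symm
  rw [this]
  exact (d.hom z).2

end Pushout

section Poly

variable {R RT : Type u} [CommRing R] [CommRing RT] (φ : R →+* RT) (e : RT →+* R[X])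
  (he : ∀ r, e (φ r) = C r) (t : RT) (het : e t = X)
  {M MT : Type u} [AddCommGroup M] [Module R M] [AddCommGroup MT] [Module RT MT]
  (u : M →+ MT)
  (hlift : ∀ (N : Type u) [AddCommGroup N] [Module RT N] (l : M →+ N),
    (∀ (r : R) (m : M), l (r • m) = φ r • l m) → ∃ l' : MT →ₗ[RT] N, ∀ m, l' (u m) = l m)

include he het hlift in
theorem eq_zero_of_sum_pow_smul (S : Finset ℕ) (m : ℕ → M)
    (h0 : ∑ n ∈ S, t ^ n • u (m n) = 0) : ∀ n ∈ S, m n = 0 := by
  classical
  letI : Module RT (PolynomialModule R M) := Module.compHom _ e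
  have hsm : ∀ (x : RT) (y : PolynomialModule R M), x • y = e x • y := fun _ _ => rfl
  let l : M →+ PolynomialModule R M := (PolynomialModule.lsingle R 0).toAddMonoidHom
  have hl0 : ∀ m, l m = PolynomialModule.single R 0 m := fun _ => rfl
  obtain ⟨l', hl'⟩ := hlift (PolynomialModule R M) l (by
    intro r m
    rw [hsm, he, hl0, hl0, ← Polynomial.monomial_zero_left, PolynomialModule.monomial_smul_single,
      add_zero])
  have h1 := congrArg l' h0
  rw [map_zero, map_sum] at h1
  have h2 : ∀ n ∈ S, l' (t ^ n • u (m n)) = PolynomialModule.single R n (m n) := by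
    intro n _
    rw [map_smul, hl', hsm, map_pow, het, hl0, X_pow_eq_monomial,
      PolynomialModule.monomial_smul_single, add_zero, one_smul]
  rw [Finset.sum_congr rfl h2] at h1
  intro k hk
  have h3 := congrArg (fun p : PolynomialModule R M => p.coeff k) h1
  simp only [PolynomialModule.coeff_sum, PolynomialModule.coeff_single, PolynomialModule.coeff_zero,
    Finsupp.coe_finset_sum, Finset.sum_apply, Finsupp.coe_zero, Pi.zero_apply] at h3
  rw [← h3, Finset.sum_eq_single k]
  · rw [Finsupp.single_apply, if_pos rfl]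
  · intro n _ hnk
    rw [Finsupp.single_apply, if_neg hnk]
  · intro hk'; exact absurd hk hk'

end Poly

section Span

variable {A : Type u} [CommRing A] (I : Ideal A)
  {R RB RT : Type u} [CommRing R] [CommRing RB] [CommRing RT]
  (ψ : A →+* R) (φ₁ : R →+* RB) (κ : RB →+* RT) (β : reesAlgebra I →+* RB) (cT : A[X] →+* RT)
  (h1 : ∀ b : reesAlgebra I, κ (β b) = cT (b : A[X]))
  (h2 : ∀ a : A, cT (C a) = κ (φ₁ (ψ a)))
  {M MT : Type u} [AddCommGroup M] [Module R M] [AddCommGroup MT] [Module RT MT]
  (u : M →+ MT) (hu : ∀ (r : R) (m : M), u (r • m) = κ (φ₁ r) • u m)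
  (hgen : ∀ z : RB, z ∈ AddSubmonoid.closure {w : RB | ∃ r b, w = φ₁ r * β b})

include h1 h2 hu hgen in
theorem smul_mem_closure (z : RB) (m : M) :
    κ z • u m ∈ AddSubgroup.closure {w : MT | ∃ (n : ℕ) (a : A) (m' : M), a ∈ I ^ n ∧
      w = cT X ^ n • u (ψ a • m')} := by
  have hz := hgen z
  induction hz using AddSubmonoid.closure_induction with
  | mem z hz =>
    obtain ⟨r, b, rfl⟩ := hz
    rw [map_mul, mul_comm, mul_smul, ← hu, h1]
    generalize r • m = m'
    have hb : ((b : A[X])) = ∑ i ∈ (b : A[X]).support, monomial i ((b : A[X]).coeff i) :=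
      Polynomial.as_sum_support _
    rw [hb, map_sum, Finset.sum_smul]
    refine AddSubgroup.sum_mem _ (fun n _ => ?_)
    refine AddSubgroup.subset_closure ⟨n, (b : A[X]).coeff n, m', (mem_reesAlgebra_iff I _).1 b.2 n, ?_⟩
    rw [← C_mul_X_pow_eq_monomial, map_mul, map_pow, h2, mul_comm, mul_smul, ← hu]
  | zero => rw [map_zero, zero_smul]; exact AddSubgroup.zero_mem _
  | add x y _ _ hx hy => rw [map_add, add_smul]; exact AddSubgroup.add_mem _ hx hy

end Span

section Noeth

variable {A : Type u} [CommRing A] (I : Ideal A)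

/-- the homogeneous element `a Tᵈ` of the Rees algebra -/
noncomputable def mono (d : ℕ) (a : A) (ha : a ∈ I ^ d) : reesAlgebra I :=
  ⟨monomial d a, reesAlgebra.monomial_mem.2 ha⟩

theorem eq_sum_mono (b : reesAlgebra I) :
    b = ∑ d ∈ (b : A[X]).support.attach,
      mono I d.1 ((b : A[X]).coeff d.1) ((mem_reesAlgebra_iff I _).1 b.2 d.1) := by
  apply Subtype.ext
  rw [AddSubmonoidClass.coe_finset_sum]
  change (b : A[X]) = ∑ d ∈ (b : A[X]).support.attach, monomial d.1 ((b : A[X]).coeff d.1)
  rw [Finset.sum_attach _ (fun d => monomial d ((b : A[X]).coeff d))]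
  exact Polynomial.as_sum_support _

theorem mono_mul (d e : ℕ) (a a' : A) (ha : a ∈ I ^ d) (ha' : a' ∈ I ^ e) :
    mono I e a' ha' * mono I d a ha =
      mono I (e + d) (a' * a) (by rw [pow_add]; exact Ideal.mul_mem_mul ha' ha) := by
  apply Subtype.ext
  change monomial e a' * monomial d a = monomial (e + d) (a' * a)
  rw [monomial_mul_monomial]

variable (M : ℕ → Type u) [∀ n, AddCommGroup (M n)]
  (μ : ∀ (n m : ℕ) (a : A), (∀ b ∈ I ^ n, a * b ∈ I ^ m) → M n →+ M m)
  (μ_add : ∀ (n m : ℕ) (a a' : A) (h : ∀ b ∈ I ^ n, a * b ∈ I ^ m)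
    (h' : ∀ b ∈ I ^ n, a' * b ∈ I ^ m) (h'' : ∀ b ∈ I ^ n, (a + a') * b ∈ I ^ m) (x : M n),
    μ n m (a + a') h'' x = μ n m a h x + μ n m a' h' x)
  (μ_comp : ∀ (n m l : ℕ) (a a' : A) (h : ∀ b ∈ I ^ n, a * b ∈ I ^ m)
    (h' : ∀ b ∈ I ^ m, a' * b ∈ I ^ l) (h'' : ∀ b ∈ I ^ n, (a' * a) * b ∈ I ^ l) (x : M n),
    μ m l a' h' (μ n m a h x) = μ n l (a' * a) h'' x)
  {H : Type u} [AddCommGroup H] [Module (reesAlgebra I) H] [IsNoetherian (reesAlgebra I) H]
  (J : ∀ n, M n →+ H) (pr : ∀ n, H →+ M n)
  (pr_J : ∀ (n : ℕ) (x : M n), pr n (J n x) = x)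
  (pr_J_ne : ∀ (n m : ℕ) (x : M n), n ≠ m → pr m (J n x) = 0)
  (hfin : ∀ h : H, ∃ S : Finset ℕ, h = ∑ k ∈ S, J k (pr k h))
  (hact : ∀ (d : ℕ) (a : A) (ha : a ∈ I ^ d) (k : ℕ) (x : M k)
    (hh : ∀ b ∈ I ^ k, a * b ∈ I ^ (k + d)),
    mono I d a ha • J k x = J (k + d) (μ k (k + d) a hh x))

theorem mul_mem_pow_add {d k : ℕ} {a : A} (ha : a ∈ I ^ d) : ∀ b ∈ I ^ k, a * b ∈ I ^ (k + d) := by
  intro b hb
  rw [add_comm, pow_add]
  exact Ideal.mul_mem_mul ha hb

include μ_add μ_comp pr_J pr_J_ne hfin hact in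
theorem reesNoeth (K : ∀ n, AddSubgroup (M n))
    (hK : ∀ (n m : ℕ) (a : A) (h : ∀ b ∈ I ^ n, a * b ∈ I ^ m), ∀ x ∈ K n, μ n m a h x ∈ K m) :
    ∃ c : ℕ, ∀ n : ℕ, c ≤ n → ∀ m : ℕ, n ≤ m → ∀ y ∈ K m,
      y ∈ AddSubgroup.closure {z : M m | ∃ (a : A) (h : ∀ b ∈ I ^ n, a * b ∈ I ^ m),
        a ∈ I ^ (m - n) ∧ ∃ x ∈ K n, z = μ n m a h x} := by
  classical
  -- `pr n (J k y) ∈ K n` for `y ∈ K k`
  have prJ_mem : ∀ (k n : ℕ) (y : M k), y ∈ K k → pr n (J k y) ∈ K n := by
    intro k n y hy
    by_cases hkn : k = n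
    · subst hkn; rw [pr_J]; exact hy
    · rw [pr_J_ne k n y hkn]; exact (K n).zero_mem
  -- action of a monomial on `h`
  have hmono : ∀ (d : ℕ) (a : A) (ha : a ∈ I ^ d) (h : H), (∀ k, pr k h ∈ K k) →
      ∀ n, pr n (mono I d a ha • h) ∈ K n := by
    intro d a ha h hh n
    obtain ⟨S, hS⟩ := hfin h
    rw [hS, Finset.smul_sum, map_sum]
    refine (K n).sum_mem (fun k _ => ?_)
    rw [hact d a ha k _ (mul_mem_pow_add I ha)]
    exact prJ_mem _ _ _ (hK _ _ _ _ _ (hh k))
  -- the submodule of `H`
  let KH : Submodule (reesAlgebra I) H :=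
    { carrier := {h | ∀ n, pr n h ∈ K n}
      add_mem' := fun {x y} hx hy n => by rw [map_add]; exact (K n).add_mem (hx n) (hy n)
      zero_mem' := fun n => by rw [map_zero]; exact (K n).zero_mem
      smul_mem' := fun b h hh n => by
        rw [eq_sum_mono I b, Finset.sum_smul, map_sum]
        exact (K n).sum_mem (fun d _ => hmono _ _ _ h hh n) }
  obtain ⟨G, hG⟩ := (IsNoetherian.noetherian KH : KH.FG)
  choose S hS using hfin
  let c : ℕ := G.sup (fun g => (S g).sup id)
  refine ⟨c, fun n hn m hnm y hy => ?_⟩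
  set T : AddSubgroup (M m) := AddSubgroup.closure {z : M m | ∃ (a : A)
    (h : ∀ b ∈ I ^ n, a * b ∈ I ^ m), a ∈ I ^ (m - n) ∧ ∃ x ∈ K n, z = μ n m a h x} with hT
  let KH' : Submodule (reesAlgebra I) H :=
    Submodule.span (reesAlgebra I) {w | ∃ (k : ℕ) (x : M k), k ≤ c ∧ x ∈ K k ∧ w = J k x}
  have hle : KH ≤ KH' := by
    rw [← hG, Submodule.span_le]
    intro g hg
    have hgK : g ∈ KH := by rw [← hG]; exact Submodule.subset_span hg
    change g ∈ KH'
    rw [hS g]
    refine Submodule.sum_mem _ (fun k hk => ?_)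
    refine Submodule.subset_span ⟨k, pr k g, ?_, hgK k, rfl⟩
    exact le_trans (Finset.le_sup (f := id) hk) (Finset.le_sup (f := fun g => (S g).sup id) hg)
  -- key property on `KH'`
  have key : ∀ h ∈ KH', ∀ b : reesAlgebra I, pr m (b • h) ∈ T := by
    intro h hh
    induction hh using Submodule.span_induction with
    | mem h hmem =>
      obtain ⟨k, x, hkc, hx, rfl⟩ := hmem
      intro b
      rw [eq_sum_mono I b, Finset.sum_smul, map_sum]
      refine T.sum_mem (fun d _ => ?_)
      revert d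
      suffices hm : ∀ (e : ℕ) (a : A) (ha : a ∈ I ^ e), pr m (mono I e a ha • J k x) ∈ T from
        fun d _ => hm _ _ _
      intro e a ha
      rw [hact e a ha k x (mul_mem_pow_add I ha)]
      by_cases hke : k + e = m
      · subst hke
        rw [pr_J]
        have hkn : k ≤ n := hkc.trans hn
        have he : e = (k + e - n) + (n - k) := by omega
        have ha' : a ∈ I ^ (k + e - n) * I ^ (n - k) := by rw [← pow_add, ← he]; exact ha
        have hgoal : ∀ (a : A), a ∈ I ^ (k + e - n) * I ^ (n - k) →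
            ∀ (h : ∀ b ∈ I ^ k, a * b ∈ I ^ (k + e)), μ k (k + e) a h x ∈ T := by
          intro a ha'
          induction ha' using Submodule.mul_induction_on' with
          | mem_mul_mem a' ha1 a'' ha2 =>
            intro h
            have h1 : ∀ b ∈ I ^ k, a'' * b ∈ I ^ n := by
              intro b hb
              have : n = (n - k) + k := by omega
              rw [this, pow_add]
              exact Ideal.mul_mem_mul ha2 hb
            have h2 : ∀ b ∈ I ^ n, a' * b ∈ I ^ (k + e) := by
              intro b hb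
              have : k + e = (k + e - n) + n := by omega
              rw [this, pow_add]
              exact Ideal.mul_mem_mul ha1 hb
            rw [← μ_comp k n (k + e) a'' a' h1 h2 h x]
            exact AddSubgroup.subset_closure ⟨a', h2, ha1, _, hK _ _ _ h1 x hx, rfl⟩
          | add a₁ _ a₂ _ h₁ h₂ =>
            intro h
            have e1 : ∀ b ∈ I ^ k, a₁ * b ∈ I ^ (k + e) := by
              intro b hb
              have hm : a₁ ∈ I ^ e := by
                have : a₁ ∈ I ^ (k + e - n) * I ^ (n - k) := by assumption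
                rwa [← pow_add, ← he] at this
              exact mul_mem_pow_add I hm b hb
            have e2 : ∀ b ∈ I ^ k, a₂ * b ∈ I ^ (k + e) := by
              intro b hb
              have hm : a₂ ∈ I ^ e := by
                have : a₂ ∈ I ^ (k + e - n) * I ^ (n - k) := by assumption
                rwa [← pow_add, ← he] at this
              exact mul_mem_pow_add I hm b hb
            rw [μ_add k (k + e) a₁ a₂ e1 e2 h x]
            exact T.add_mem (h₁ e1) (h₂ e2)
        exact hgoal a ha' _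
      · rw [pr_J_ne _ _ _ hke]; exact T.zero_mem
    | zero => intro b; rw [smul_zero, map_zero]; exact T.zero_mem
    | add x y _ _ hx hy => intro b; rw [smul_add, map_add]; exact T.add_mem (hx b) (hy b)
    | smul b' x _ hx => intro b; rw [← mul_smul]; exact hx _
  have hJ : J m y ∈ KH := fun n' => prJ_mem m n' y hy
  have := key (J m y) (hle hJ) 1
  rwa [one_smul, pr_J] at this

end Noeth

end Groth.Agent.Lib.R2H2.ReesAlg
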