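import Mathlib
import Groth.Prelude.Def_ega3
import Groth.Agent.Lib.R2H2ReesAlg
import Groth.Agent.Lib.R2H2IdealMul
import Groth.Agent.Lib.R2H2PullSecLE
import Groth.Agent.Lib.R2H3PullUnit
import Groth.Agent.Lib.Helper20FormalPull
import Groth.Agent.Lib.R2H2CoprodSec
import Groth.Agent.Lib.Helper23FinTypeLocal
import Groth.Agent.Lib.Helper23Extend
import Groth.Agent.Lib.R2H2ProjOverPush

/-!
# The Rees construction: `∐ₙ Iⁿ F ≅ π_* F'` for a coherent `F'` on `X ×_A Spec (⊕ Iⁿ)` (helper2, round 2)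
-/

set_option autoImplicit false
set_option linter.unusedSectionVars false
universe u
open CategoryTheory CategoryTheory.Limits AlgebraicGeometry TopologicalSpace Opposite Polynomial

noncomputable section

namespace Groth.Agent.Lib.R2H2.ReesGeom

open Groth.Agent.Lib.R2H2.ReesAlg Groth.Agent.Lib.R2H2.IdealMul

variable {A : Type u} [CommRing A] (I : Ideal A) (X : Scheme.{u}) [X.Over (Spec (CommRingCat.of A))]

/-- `A → ⊕ Iⁿ` -/
def φB : CommRingCat.of A ⟶ CommRingCat.of (reesAlgebra I) :=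
  CommRingCat.ofHom (algebraMap A (reesAlgebra I))

/-- `A → A[T]` -/
def φC : CommRingCat.of A ⟶ CommRingCat.of A[X] := CommRingCat.ofHom C

/-- `⊕ Iⁿ → A[T]` -/
def φBC : CommRingCat.of (reesAlgebra I) ⟶ CommRingCat.of A[X] :=
  CommRingCat.ofHom (reesAlgebra I).val.toRingHom

theorem φB_φBC : φB I ≫ φBC I = φC := rfl

/-- `X ×_A Spec (⊕ Iⁿ)` -/
def XB : Scheme.{u} := pullback (X ↘ Spec (CommRingCat.of A)) (Spec.map (φB I))

/-- `X ×_A Spec A[T]` -/
def XC (_I : Ideal A) (X : Scheme.{u}) [X.Over (Spec (CommRingCat.of A))] : Scheme.{u} :=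
  pullback (X ↘ Spec (CommRingCat.of A)) (Spec.map (φC (A := A)))

def π : XB I X ⟶ X := pullback.fst _ _
def gB : XB I X ⟶ Spec (CommRingCat.of (reesAlgebra I)) := pullback.snd _ _
def σ₀ : XC I X ⟶ X := pullback.fst _ _
def gC : XC I X ⟶ Spec (CommRingCat.of A[X]) := pullback.snd _ _

theorem π_f : π I X ≫ (X ↘ Spec (CommRingCat.of A)) = gB I X ≫ Spec.map (φB I) := pullback.condition
theorem σ₀_f : σ₀ I X ≫ (X ↘ Spec (CommRingCat.of A)) = gC I X ≫ Spec.map (φC (A := A)) :=
  pullback.condition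

/-- `X_{A[T]} → X_B` -/
def ρ : XC I X ⟶ XB I X :=
  pullback.lift (σ₀ I X) (gC I X ≫ Spec.map (φBC I)) (by
    rw [σ₀_f, Category.assoc, ← Spec.map_comp, φB_φBC])

theorem ρ_π : ρ I X ≫ π I X = σ₀ I X := pullback.lift_fst _ _ _
theorem ρ_gB : ρ I X ≫ gB I X = gC I X ≫ Spec.map (φBC I) := pullback.lift_snd _ _ _

instance : (XB I X).Over (Spec (CommRingCat.of (reesAlgebra I))) := ⟨gB I X⟩
instance : (XC I X).Over (Spec (CommRingCat.of A[X])) := ⟨gC I X⟩

theorem isPullback_B : IsPullback (π I X) (gB I X) (X ↘ Spec (CommRingCat.of A)) (Spec.map (φB I)) :=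
  IsPullback.of_hasPullback _ _

theorem isPullback_C : IsPullback (ρ I X ≫ π I X) (gC I X) (X ↘ Spec (CommRingCat.of A))
    (Spec.map (φC (A := A))) := by
  rw [ρ_π]
  exact IsPullback.of_hasPullback _ _

instance : IsAffineHom (π I X) :=
  MorphismProperty.pullback_fst (P := @IsAffineHom) _ _ inferInstance

instance : IsAffineHom (σ₀ I X) :=
  MorphismProperty.pullback_fst (P := @IsAffineHom) _ _ inferInstance

instance : IsAffineHom (ρ I X) := by
  have h : IsAffineHom (ρ I X ≫ π I X) := by rw [ρ_π]; infer_instance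
  exact MorphismProperty.of_postcomp (W := @IsAffineHom) (W' := @IsSeparated) (ρ I X) (π I X)
    inferInstance h

instance [IsProper (X ↘ Spec (CommRingCat.of A))] :
    IsProper ((XB I X) ↘ Spec (CommRingCat.of (reesAlgebra I))) :=
  inferInstanceAs (IsProper (pullback.snd (X ↘ Spec (CommRingCat.of A)) (Spec.map (φB I))))

section Global

theorem toGlobal_comp {Y Z : Scheme.{u}} {R : Type u} [CommRing R] (h : Y ⟶ Z)
    (g : Z ⟶ Spec (CommRingCat.of R)) (r : R) :
    Coh.toGlobal (h ≫ g) r = h.appTop.hom (Coh.toGlobal g r) := rfl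

theorem toGlobal_comp_SpecMap {Z : Scheme.{u}} {R S : Type u} [CommRing R] [CommRing S]
    (g : Z ⟶ Spec (CommRingCat.of S)) (φ : CommRingCat.of R ⟶ CommRingCat.of S) (r : R) :
    Coh.toGlobal (g ≫ Spec.map φ) r = Coh.toGlobal g (φ.hom r) := by
  have h := ConcreteCategory.congr_hom (Scheme.ΓSpecIso_inv_naturality φ) r
  change g.appTop.hom ((Spec.map φ).appTop.hom ((Scheme.ΓSpecIso (CommRingCat.of R)).inv.hom r)) =
    g.appTop.hom ((Scheme.ΓSpecIso (CommRingCat.of S)).inv.hom (φ.hom r))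
  congr 1
  exact h.symm

/-- the global function on `X` attached to `a : A` -/
abbrev aX (a : A) : Coh.Γtop X := Coh.toGlobal (X ↘ Spec (CommRingCat.of A)) a
/-- the global function on `X_B` attached to `b : ⊕ Iⁿ` -/
abbrev bB (b : reesAlgebra I) : Coh.Γtop (XB I X) := Coh.toGlobal (gB I X) b
/-- the global function on `X_{A[T]}` attached to `c : A[T]` -/
abbrev cC (c : A[X]) : Coh.Γtop (XC I X) := Coh.toGlobal (gC I X) c

theorem π_aX (a : A) : (π I X).appTop.hom (aX X a) = bB I X (algebraMap A (reesAlgebra I) a) := by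
  have h1 := toGlobal_comp (π I X) (X ↘ Spec (CommRingCat.of A)) a
  rw [π_f, toGlobal_comp_SpecMap] at h1
  exact h1.symm

theorem ρ_bB (b : reesAlgebra I) : (ρ I X).appTop.hom (bB I X b) = cC I X (b : A[X]) := by
  have h1 := toGlobal_comp (ρ I X) (gB I X) b
  rw [ρ_gB, toGlobal_comp_SpecMap] at h1
  exact h1.symm

theorem ρ_π_aX (a : A) : (ρ I X).appTop.hom ((π I X).appTop.hom (aX X a)) = cC I X (C a) := by
  rw [π_aX, ρ_bB]; rfl

end Global

section Modules

variable (F : X.Modules)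

/-- `π^* F` -/
abbrev E : (XB I X).Modules := (Scheme.Modules.pullback (π I X)).obj F
/-- `ρ^* π^* F` -/
abbrev P : (XC I X).Modules := (Scheme.Modules.pullback (ρ I X)).obj (E I X F)
/-- `ρ_* ρ^* π^* F` -/
abbrev G : (XB I X).Modules := (Scheme.Modules.pushforward (ρ I X)).obj (P I X F)
/-- the unit `π^* F ⟶ ρ_* ρ^* π^* F` -/
def α : E I X F ⟶ G I X F := (Scheme.Modules.pullbackPushforwardAdjunction (ρ I X)).unit.app (E I X F)
/-- the coherent module on `X_B` with `π_* F' = ∐ Iⁿ F` -/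
abbrev F' : (XB I X).Modules := Limits.image (α I X F)
def ιF' : F' I X F ⟶ G I X F := Limits.image.ι (α I X F)
def qF' : E I X F ⟶ F' I X F := factorThruImage (α I X F)

instance : Mono (ιF' I X F) := inferInstanceAs (Mono (Limits.image.ι (α I X F)))
instance : Epi (qF' I X F) := inferInstanceAs (Epi (factorThruImage (α I X F)))

@[reassoc]
theorem qF'_ιF' : qF' I X F ≫ ιF' I X F = α I X F := image.fac _

/-- `π_* ρ_* ρ^* π^* F` -/
abbrev GG : X.Modules := (Scheme.Modules.pushforward (π I X)).obj (G I X F)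
/-- `π_* F'` -/
abbrev NN : X.Modules := (Scheme.Modules.pushforward (π I X)).obj (F' I X F)
def ιNN : NN I X F ⟶ GG I X F := (Scheme.Modules.pushforward (π I X)).map (ιF' I X F)

instance : Mono (ιNN I X F) := by
  haveI := (Scheme.Modules.pullbackPushforwardAdjunction (π I X)).rightAdjoint_preservesLimits
  unfold ιNN; infer_instance

/-- the unit `F ⟶ π_* ρ_* ρ^* π^* F` -/
def η : F ⟶ GG I X F :=
  (Scheme.Modules.pullbackPushforwardAdjunction (π I X)).unit.app F ≫
    (Scheme.Modules.pushforward (π I X)).map (α I X F)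

/-- the action of global functions of `X_{A[T]}` on `π_* ρ_* ρ^* π^* F` -/
def act (c : Coh.Γtop (XC I X)) : GG I X F ⟶ GG I X F :=
  (Scheme.Modules.pushforward (π I X)).map
    ((Scheme.Modules.pushforward (ρ I X)).map (Formal.smulModΓ (P I X F) c))

theorem act_mul (c c' : Coh.Γtop (XC I X)) :
    act I X F (c * c') = act I X F c' ≫ act I X F c := by
  unfold act
  rw [CohIII.smulModΓ_mul, Functor.map_comp, Functor.map_comp]

theorem push_smul (y : Coh.Γtop (XB I X)) :
    (Scheme.Modules.pushforward (π I X)).map (Formal.smulModΓ (G I X F) y) =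
      act I X F ((ρ I X).appTop.hom y) := by
  unfold act
  rw [Groth.Agent.Lib.Helper20.FormalPull.pushforward_map_smulModΓ]

theorem η_act (x : Coh.Γtop X) :
    Formal.smulModΓ F x ≫ η I X F =
      η I X F ≫ act I X F ((ρ I X).appTop.hom ((π I X).appTop.hom x)) := by
  unfold η act
  have h1 := ((Scheme.Modules.pullbackPushforwardAdjunction (π I X)).unit.naturality
    (Formal.smulModΓ F x)).symm
  simp only [Functor.id_obj, Functor.id_map, Functor.comp_obj, Functor.comp_map] at h1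
  rw [Groth.Agent.Lib.Helper20.FormalPull.pullback_map_smulModΓ] at h1
  have h2 := ((Scheme.Modules.pullbackPushforwardAdjunction (ρ I X)).unit.naturality
    (Formal.smulModΓ (E I X F) ((π I X).appTop.hom x))).symm
  simp only [Functor.id_obj, Functor.id_map, Functor.comp_obj, Functor.comp_map] at h2
  rw [Groth.Agent.Lib.Helper20.FormalPull.pullback_map_smulModΓ] at h2
  rw [← Category.assoc, ← h1, Category.assoc, Category.assoc, ← Functor.map_comp, ← Functor.map_comp]
  congr 2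
  exact h2.symm

end Modules

section Theta

variable (F : X.Modules)

/-- `T` as a global function on `X_{A[T]}` -/
abbrev τ : Coh.Γtop (XC I X) := cC I X Polynomial.X

/-- `m ↦ Tⁿ · m` -/
def tn (n : ℕ) : F ⟶ GG I X F := η I X F ≫ act I X F (τ I X ^ n)

theorem cC_monomial (n : ℕ) (a : A) : cC I X (monomial n a) = τ I X ^ n * cC I X (C a) := by
  rw [← C_mul_X_pow_eq_monomial]
  have h1 := (Coh.toGlobal (gC I X)).map_mul (C a) (Polynomial.X ^ n)
  have h2 := (Coh.toGlobal (gC I X)).map_pow Polynomial.X n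
  rw [h2] at h1
  exact h1.trans (@mul_comm Γ(XC I X, ⊤) _ _ _)

theorem smulMod_tn (n : ℕ) (a : A) :
    Formal.smulMod A F a ≫ tn I X F n = η I X F ≫ act I X F (cC I X (monomial n a)) := by
  unfold tn Formal.smulMod
  rw [← Category.assoc, η_act, Category.assoc, ← act_mul, ρ_π_aX, cC_monomial]

/-- multiplication by `a Tⁿ` as a map `F ⟶ π_* F'` -/
def lam (n : ℕ) (a : A) (ha : a ∈ I ^ n) : F ⟶ NN I X F :=
  (Scheme.Modules.pullbackPushforwardAdjunction (π I X)).unit.app F ≫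
    (Scheme.Modules.pushforward (π I X)).map
      (qF' I X F ≫ Formal.smulModΓ (F' I X F) (bB I X (mono I n a ha)))

theorem lam_ιNN (n : ℕ) (a : A) (ha : a ∈ I ^ n) :
    lam I X F n a ha ≫ ιNN I X F = Formal.smulMod A F a ≫ tn I X F n := by
  rw [smulMod_tn]
  unfold lam ιNN η
  rw [Category.assoc, ← Functor.map_comp, Category.assoc,
    Groth.Agent.S9530.smulModΓ_comp, qF'_ιF'_assoc, Functor.map_comp, push_smul, ρ_bB]
  rfl

theorem θ_sq (n : ℕ) :
    CommSq (Sigma.desc (fun a : ↥(I ^ n) => lam I X F n a a.2)) (idealMulπ F (I ^ n))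
      (ιNN I X F) (CohIII.idealMulι (I ^ n) F ≫ tn I X F n) := by
  constructor
  apply Sigma.hom_ext
  intro a
  rw [← Category.assoc, Sigma.ι_desc, lam_ιNN, ← Category.assoc (Sigma.ι _ a),
    ← Category.assoc, Category.assoc (Sigma.ι _ a), idealMulπ_ι, Formal.smulFamily, Sigma.ι_desc]

/-- `Iⁿ F ⟶ π_* F'`, `m ↦ Tⁿ m` -/
def θ (n : ℕ) : CohIII.idealMul (I ^ n) F ⟶ NN I X F :=
  haveI : StrongEpi (idealMulπ F (I ^ n)) := strongEpi_of_epi _
  (θ_sq I X F n).lift

@[reassoc]
theorem θ_ιNN (n : ℕ) :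
    θ I X F n ≫ ιNN I X F = CohIII.idealMulι (I ^ n) F ≫ tn I X F n := by
  haveI : StrongEpi (idealMulπ F (I ^ n)) := strongEpi_of_epi _
  exact (θ_sq I X F n).fac_right

/-- compatibility of `θ` with the action of the Rees algebra -/
theorem θ_smul (n d : ℕ) (a : A) (ha : a ∈ I ^ d) :
    θ I X F n ≫ (Scheme.Modules.pushforward (π I X)).map
        (Formal.smulModΓ (F' I X F) (bB I X (mono I d a ha))) =
      mulTo F a (mul_mem_pow_add I ha) ≫ θ I X F (n + d) := by
  rw [← cancel_mono (ιNN I X F), Category.assoc, Category.assoc, θ_ιNN, mulTo_ι_assoc, smulMod_tn]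
  unfold ιNN
  rw [← Functor.map_comp, Groth.Agent.S9530.smulModΓ_comp, Functor.map_comp, push_smul, ρ_bB]
  change θ I X F n ≫ ιNN I X F ≫ _ = _
  rw [θ_ιNN_assoc]
  unfold tn
  rw [Category.assoc, ← act_mul]
  congr 3
  change cC I X (monomial d a) * τ I X ^ n = cC I X (monomial (n + d) a)
  rw [cC_monomial, cC_monomial, pow_add]
  generalize τ I X ^ n = x
  generalize τ I X ^ d = y
  generalize cC I X (C a) = z
  change (show Γ(XC I X, ⊤) from y) * (show Γ(XC I X, ⊤) from z) * (show Γ(XC I X, ⊤) from x) =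
    (show Γ(XC I X, ⊤) from x) * (show Γ(XC I X, ⊤) from y) * (show Γ(XC I X, ⊤) from z)
  ring

/-- the family `n ↦ Iⁿ F` -/
abbrev Nfam : ULift.{u} ℕ → X.Modules := fun n => CohIII.idealMul (I ^ n.down) F

/-- the comparison map `∐ₙ Iⁿ F ⟶ π_* F'` -/
def Θ : (∐ Nfam I X F) ⟶ NN I X F := Sigma.desc (fun n => θ I X F n.down)

end Theta

section Rings

variable (V : X.Opens)

/-- `π⁻¹ V` -/
abbrev UB : (XB I X).Opens := π I X ⁻¹ᵁ V
/-- `ρ⁻¹ π⁻¹ V` -/
abbrev WC : (XC I X).Opens := ρ I X ⁻¹ᵁ (π I X ⁻¹ᵁ V)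

/-- `A → Γ(X, V)` -/
def ψc : CommRingCat.of A ⟶ Γ(X, V) :=
  (Scheme.ΓSpecIso (CommRingCat.of A)).inv ≫ (X ↘ Spec (CommRingCat.of A)).appLE ⊤ V le_top
/-- `⊕ Iⁿ → Γ(X_B, π⁻¹ V)` -/
def βc : CommRingCat.of (reesAlgebra I) ⟶ Γ(XB I X, UB I X V) :=
  (Scheme.ΓSpecIso (CommRingCat.of (reesAlgebra I))).inv ≫ (gB I X).appLE ⊤ (UB I X V) le_top
/-- `A[T] → Γ(X_{A[T]}, ρ⁻¹ π⁻¹ V)` -/
def cTc : CommRingCat.of A[X] ⟶ Γ(XC I X, WC I X V) :=
  (Scheme.ΓSpecIso (CommRingCat.of A[X])).inv ≫ (gC I X).appLE ⊤ (WC I X V) le_top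

variable {V}

theorem isPushout_B (hV : IsAffineOpen V) :
    IsPushout ((X ↘ Spec (CommRingCat.of A)).appLE ⊤ V le_top)
      ((Spec.map (φB I)).appLE ⊤ ⊤ le_top) ((π I X).appLE V (UB I X V) le_rfl)
      ((gB I X).appLE ⊤ (UB I X V) le_top) := by
  have h := isIso_pushoutSection_of_isAffineOpen (isPullback_B I X)
    (US := ⊤) (UT := ⊤) (UX := V) (UY := UB I X V) le_top le_top (by simp)
    (isAffineOpen_top _) (isAffineOpen_top _) hV
  exact (isIso_pushoutSection_iff (isPullback_B I X) le_top le_top (by simp)).1 h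

theorem isPushout_C (hV : IsAffineOpen V) :
    IsPushout ((X ↘ Spec (CommRingCat.of A)).appLE ⊤ V le_top)
      ((Spec.map (φC (A := A))).appLE ⊤ ⊤ le_top) ((ρ I X ≫ π I X).appLE V (WC I X V) le_rfl)
      ((gC I X).appLE ⊤ (WC I X V) le_top) := by
  have h := isIso_pushoutSection_of_isAffineOpen (isPullback_C I X)
    (US := ⊤) (UT := ⊤) (UX := V) (UY := WC I X V) le_top le_top (by simp)
    (isAffineOpen_top _) (isAffineOpen_top _) hV
  exact (isIso_pushoutSection_iff (isPullback_C I X) le_top le_top (by simp)).1 h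

/-- generation of `Γ(X_B, π⁻¹ V)` by `Γ(X, V)` and the Rees algebra -/
theorem gen_B (hV : IsAffineOpen V) (z : Γ(XB I X, UB I X V)) :
    z ∈ AddSubmonoid.closure {w : Γ(XB I X, UB I X V) | ∃ (r : Γ(X, V)) (b : reesAlgebra I),
      w = ((π I X).app V).hom r * (βc I X V).hom b} := by
  have h := exists_sum_of_isPushout (isPushout_B I X hV) z
  refine AddSubmonoid.closure_mono ?_ h
  rintro w ⟨s, y, rfl⟩
  refine ⟨s, (Scheme.ΓSpecIso (CommRingCat.of (reesAlgebra I))).hom.hom y, ?_⟩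
  have e1 : ((π I X).appLE V (UB I X V) le_rfl).hom s = ((π I X).app V).hom s := by
    rw [Scheme.Hom.appLE_eq_app]
  have e2 : (βc I X V).hom ((Scheme.ΓSpecIso (CommRingCat.of (reesAlgebra I))).hom.hom y) =
      ((gB I X).appLE ⊤ (UB I X V) le_top).hom y := by
    unfold βc
    rw [CommRingCat.comp_apply]
    congr 1
    exact ConcreteCategory.congr_hom (Scheme.ΓSpecIso (CommRingCat.of (reesAlgebra I))).hom_inv_id y
  rw [e1, e2]

theorem ΓSpecIso_ψc : (Scheme.ΓSpecIso (CommRingCat.of A)).hom ≫ ψc X V =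
    (X ↘ Spec (CommRingCat.of A)).appLE ⊤ V le_top := by
  unfold ψc
  rw [Iso.hom_inv_id_assoc]

theorem φC_map : φC (A := A) ≫ CommRingCat.ofHom (Polynomial.mapRingHom (ψc X V).hom) =
    ψc X V ≫ CommRingCat.ofHom C := by
  apply CommRingCat.hom_ext
  apply RingHom.ext
  intro a
  change Polynomial.map (ψc X V).hom (C a) = C ((ψc X V).hom a)
  rw [Polynomial.map_C]

theorem eC_w :
    (X ↘ Spec (CommRingCat.of A)).appLE ⊤ V le_top ≫ CommRingCat.ofHom C =
      (Spec.map (φC (A := A))).appLE ⊤ ⊤ le_top ≫ (Scheme.ΓSpecIso (CommRingCat.of A[X])).hom ≫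
        CommRingCat.ofHom (Polynomial.mapRingHom (ψc X V).hom) := by
  have h1 : (Spec.map (φC (A := A))).appLE ⊤ ⊤ le_top ≫
      (Scheme.ΓSpecIso (CommRingCat.of A[X])).hom =
      (Scheme.ΓSpecIso (CommRingCat.of A)).hom ≫ φC := by
    rw [← Scheme.ΓSpecIso_naturality]
    congr 1
  rw [← Category.assoc, h1, Category.assoc, φC_map, ← Category.assoc, ΓSpecIso_ψc]

/-- the test ring map `Γ(X_{A[T]}, ρ⁻¹ π⁻¹ V) → Γ(X, V)[T]` -/
def eC (hV : IsAffineOpen V) : Γ(XC I X, WC I X V) ⟶ CommRingCat.of (Γ(X, V))[X] :=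
  (isPushout_C I X hV).desc (CommRingCat.ofHom C)
    ((Scheme.ΓSpecIso (CommRingCat.of A[X])).hom ≫
      CommRingCat.ofHom (Polynomial.mapRingHom (ψc X V).hom)) (eC_w X)

theorem appLE_ρπ : (ρ I X ≫ π I X).appLE V (WC I X V) le_rfl =
    (π I X).app V ≫ (ρ I X).app (UB I X V) := by
  rw [Scheme.Hom.comp_appLE]
  congr 1
  exact Scheme.Hom.appLE_eq_app _

theorem eC_app (hV : IsAffineOpen V) (r : Γ(X, V)) :
    (eC I X hV).hom (((ρ I X).app (UB I X V)).hom (((π I X).app V).hom r)) = C r := by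
  have h := ConcreteCategory.congr_hom ((isPushout_C I X hV).inl_desc (CommRingCat.ofHom C)
    ((Scheme.ΓSpecIso (CommRingCat.of A[X])).hom ≫
      CommRingCat.ofHom (Polynomial.mapRingHom (ψc X V).hom)) (eC_w X)) r
  rw [CommRingCat.comp_apply] at h
  have h' := ConcreteCategory.congr_hom (appLE_ρπ I X (V := V)) r
  rw [CommRingCat.comp_apply] at h'
  rw [← h']
  exact h

theorem eC_cTc (hV : IsAffineOpen V) (c : A[X]) :
    (eC I X hV).hom ((cTc I X V).hom c) = Polynomial.map (ψc X V).hom c := by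
  have h := ConcreteCategory.congr_hom ((isPushout_C I X hV).inr_desc (CommRingCat.ofHom C)
    ((Scheme.ΓSpecIso (CommRingCat.of A[X])).hom ≫
      CommRingCat.ofHom (Polynomial.mapRingHom (ψc X V).hom)) (eC_w X))
    ((Scheme.ΓSpecIso (CommRingCat.of A[X])).inv.hom c)
  unfold cTc
  rw [CommRingCat.comp_apply]
  refine h.trans ?_
  rw [CommRingCat.comp_apply]
  have h2 := ConcreteCategory.congr_hom (Scheme.ΓSpecIso (CommRingCat.of A[X])).inv_hom_id c
  rw [CommRingCat.comp_apply] at h2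
  rw [h2]
  rfl

theorem appLE_congr_hom {Y Z : Scheme.{u}} {f g : Y ⟶ Z} (h : f = g) (U : Z.Opens) (W : Y.Opens)
    (e : W ≤ f ⁻¹ᵁ U) : f.appLE U W e = g.appLE U W (h ▸ e) := by
  subst h; rfl

theorem βc_ρ : βc I X V ≫ (ρ I X).app (UB I X V) = φBC I ≫ cTc I X V := by
  unfold βc cTc
  rw [Category.assoc, Scheme.Hom.app_eq_appLE, Scheme.Hom.appLE_comp_appLE,
    appLE_congr_hom (ρ_gB I X), Scheme.Hom.comp_appLE, ← Category.assoc, ← Category.assoc]
  congr 1
  exact (Scheme.ΓSpecIso_inv_naturality (φBC I)).symm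

theorem ψc_πρ : ψc X V ≫ (π I X).app V ≫ (ρ I X).app (UB I X V) = φC ≫ cTc I X V := by
  unfold ψc cTc
  rw [← appLE_ρπ, Category.assoc, Scheme.Hom.appLE_comp_appLE,
    appLE_congr_hom (isPullback_C I X).w, Scheme.Hom.comp_appLE, ← Category.assoc, ← Category.assoc]
  congr 1
  exact (Scheme.ΓSpecIso_inv_naturality (φC (A := A))).symm

theorem κ_β (b : reesAlgebra I) :
    ((ρ I X).app (UB I X V)).hom ((βc I X V).hom b) = (cTc I X V).hom (b : A[X]) :=
  ConcreteCategory.congr_hom (βc_ρ I X (V := V)) b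

theorem cT_C (a : A) :
    (cTc I X V).hom (C a) =
      ((ρ I X).app (UB I X V)).hom (((π I X).app V).hom ((ψc X V).hom a)) :=
  (ConcreteCategory.congr_hom (ψc_πρ I X (V := V)) a).symm

end Rings

section Sections

open Groth.Agent.Helper13PullbackUnit

variable (F : X.Modules) [F.IsQuasicoherent]

instance isQuasicoherent_E : (E I X F).IsQuasicoherent :=
  Groth.Agent.Lib.Helper20.PullbackAff.isQuasicoherent_pullback _ _

instance isQuasicoherent_P : (P I X F).IsQuasicoherent :=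
  Groth.Agent.Lib.Helper20.PullbackAff.isQuasicoherent_pullback _ _

instance isQuasicoherent_G : (G I X F).IsQuasicoherent :=
  Groth.Agent.Lib.Helper23.QCohLocal.isQuasicoherent_pushforward _ _

instance isQuasicoherent_F' : (F' I X F).IsQuasicoherent := by
  haveI : (cokernel (α I X F)).IsQuasicoherent :=
    Groth.Agent.Lib.Helper23.QCohLocal.isQuasicoherent_cokernel _
  haveI : (kernel (cokernel.π (α I X F))).IsQuasicoherent :=
    Groth.Agent.Lib.Helper23.QCohLocal.isQuasicoherent_kernel _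
  exact (SheafOfModules.isQuasicoherent (XB I X).ringCatSheaf).prop_of_iso
    (Abelian.imageIsoImage (α I X F)) inferInstance

variable {V : X.Opens}

/-- `m ↦ 1 ⊗ m : Γ(F, V) → Γ(ρ^* π^* F, ρ⁻¹ π⁻¹ V)` -/
def uV : Γ(F, V) →+ Γ(P I X F, WC I X V) :=
  (unitSec (ρ I X) (E I X F) (le_refl (WC I X V))).comp (unitSec (π I X) F (le_refl (UB I X V)))

omit [F.IsQuasicoherent] in
theorem η_app (m : Γ(F, V)) : (η I X F).app V m = uV I X F m := by
  unfold uV
  rw [AddMonoidHom.comp_apply, Groth.Agent.Lib.R2H3.PullUnit.unitSec_le_rfl,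
    Groth.Agent.Lib.R2H3.PullUnit.unitSec_le_rfl]
  rfl

omit [F.IsQuasicoherent] in
theorem uV_smul (r : Γ(X, V)) (m : Γ(F, V)) :
    uV I X F (r • m) = ((ρ I X).app (UB I X V)).hom (((π I X).app V).hom r) • uV I X F m := by
  unfold uV
  rw [AddMonoidHom.comp_apply, AddMonoidHom.comp_apply, unitSec_smul, unitSec_smul]
  congr 1
  have h1 : ((π I X).appLE V (UB I X V) le_rfl) = (π I X).app V := Scheme.Hom.appLE_eq_app _
  have h2 : ((ρ I X).appLE (UB I X V) (WC I X V) le_rfl) = (ρ I X).app (UB I X V) :=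
    Scheme.Hom.appLE_eq_app _
  rw [h1, h2]

theorem uV_lift (hV : IsAffineOpen V) (N : Type u) [AddCommGroup N] [Module Γ(XC I X, WC I X V) N]
    (l : Γ(F, V) →+ N)
    (hl : ∀ (r : Γ(X, V)) (m : Γ(F, V)),
      l (r • m) = ((ρ I X).app (UB I X V)).hom (((π I X).app V).hom r) • l m) :
    ∃ l' : Γ(P I X F, WC I X V) →ₗ[Γ(XC I X, WC I X V)] N, ∀ m, l' (uV I X F m) = l m := by
  have hU : IsAffineOpen (UB I X V) := hV.preimage (π I X)
  have hW : IsAffineOpen (WC I X V) := hU.preimage (ρ I X)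
  letI : Module Γ(XB I X, UB I X V) N := Module.compHom N ((ρ I X).app (UB I X V)).hom
  have hsm : ∀ (z : Γ(XB I X, UB I X V)) (y : N), z • y = ((ρ I X).app (UB I X V)).hom z • y :=
    fun _ _ => rfl
  have h1 : ((π I X).appLE V (UB I X V) le_rfl) = (π I X).app V := Scheme.Hom.appLE_eq_app _
  have h2 : ((ρ I X).appLE (UB I X V) (WC I X V) le_rfl) = (ρ I X).app (UB I X V) :=
    Scheme.Hom.appLE_eq_app _
  obtain ⟨l₁, hl₁, -⟩ := existsUnique_lift (π I X) F hV hU (le_refl _) N l (by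
    intro r m
    rw [hl, hsm, h1])
  obtain ⟨l₂, hl₂, -⟩ := existsUnique_lift (ρ I X) (E I X F) hU hW (le_refl _) N
    l₁.toAddMonoidHom (by
    intro z e
    rw [h2]
    exact (l₁.map_smul z e).trans (hsm z _))
  refine ⟨l₂, fun m => ?_⟩
  unfold uV
  rw [AddMonoidHom.comp_apply, hl₂]
  exact hl₁ m

omit [F.IsQuasicoherent] in
theorem act_app (c : A[X]) (y : Γ(P I X F, WC I X V)) :
    (act I X F (cC I X c)).app V y = (cTc I X V).hom c • y := by
  rfl

omit [F.IsQuasicoherent] in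
theorem smulMod_app (a : A) (m : Γ(F, V)) :
    (Formal.smulMod A F a).app V m = (ψc X V).hom a • m := by
  rfl

omit [F.IsQuasicoherent] in
theorem tn_app (n : ℕ) (m : Γ(F, V)) :
    (tn I X F n).app V m = (cTc I X V).hom Polynomial.X ^ n • uV I X F m := by
  unfold tn
  have h : τ I X ^ n = cC I X (Polynomial.X ^ n) :=
    ((Coh.toGlobal (gC I X)).map_pow Polynomial.X n).symm
  rw [h, ← map_pow, ← η_app]
  exact act_app I X F (Polynomial.X ^ n) _

end Sections

section Iso

open Groth.Agent.Helper13PullbackUnit Groth.Agent.Lib.R2H2.CoprodSec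

variable (F : X.Modules) [F.IsQuasicoherent] {V : X.Opens}

theorem sum_app {T : Scheme.{u}} {M N : T.Modules} {ι : Type*} (S : Finset ι) (φ : ι → (M ⟶ N))
    (U : T.Opens) (t : Γ(M, U)) : (∑ j ∈ S, φ j).app U t = ∑ j ∈ S, (φ j).app U t := by
  classical
  induction S using Finset.induction_on with
  | empty => rfl
  | insert j S hj ih =>
    rw [Finset.sum_insert hj, Finset.sum_insert hj, ← ih]
    rfl

omit [F.IsQuasicoherent] in
theorem Θι_app (n : ℕ) (s : Γ(CohIII.idealMul (I ^ n) F, V)) :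
    (ιNN I X F).app V ((Θ I X F).app V ((Sigma.ι (Nfam I X F) ⟨n⟩).app V s)) =
      (cTc I X V).hom Polynomial.X ^ n •
        uV I X F ((CohIII.idealMulι (I ^ n) F).app V s) := by
  have h : Sigma.ι (Nfam I X F) ⟨n⟩ ≫ Θ I X F ≫ ιNN I X F =
      CohIII.idealMulι (I ^ n) F ≫ tn I X F n := by
    unfold Θ
    rw [← Category.assoc, Sigma.ι_desc, θ_ιNN]
  have h2 := congrArg (fun φ => (Scheme.Modules.Hom.app φ V) s) h
  exact h2.trans (tn_app I X F n _)

theorem Θ_app_injective (hV : IsAffineOpen V) : Function.Injective ((Θ I X F).app V) := by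
  classical
  rw [injective_iff_map_eq_zero]
  intro s hs
  obtain ⟨S, hS⟩ := exists_eS_eq (E := Nfam I X F) hV.isCompact s
  have hsum : s = ∑ n ∈ S, (Sigma.ι (Nfam I X F) n).app V ((Sigma.π (Nfam I X F) n).app V s) := by
    conv_lhs => rw [← hS]
    unfold eS
    rw [sum_app]
    rfl
  have h0 : ∑ n ∈ S.image ULift.down, (cTc I X V).hom Polynomial.X ^ n •
      uV I X F ((CohIII.idealMulι (I ^ n) F).app V
        ((Sigma.π (Nfam I X F) ⟨n⟩).app V s)) = 0 := by
    have h1 : (ιNN I X F).app V ((Θ I X F).app V s) = 0 := by rw [hs, map_zero]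
    rw [hsum, map_sum, map_sum] at h1
    refine Eq.trans ?_ h1
    rw [Finset.sum_image (fun a _ b _ h => ULift.ext a b h)]
    exact Finset.sum_congr rfl (fun n _ => (Θι_app I X F n.down _).symm)
  have hz := eq_zero_of_sum_pow_smul
    (((ρ I X).app (UB I X V)).hom.comp ((π I X).app V).hom) (eC I X hV).hom
    (fun r => eC_app I X hV r) ((cTc I X V).hom Polynomial.X)
    ((eC_cTc I X hV Polynomial.X).trans (Polynomial.map_X _)) (uV I X F)
    (fun N _ _ l hl => uV_lift I X F hV N l hl) (S.image ULift.down)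
    (fun n => (CohIII.idealMulι (I ^ n) F).app V ((Sigma.π (Nfam I X F) ⟨n⟩).app V s)) h0
  rw [hsum]
  refine Finset.sum_eq_zero (fun n hn => ?_)
  have := Groth.Agent.Lib.Helper23.Extend.injective_app_of_mono
    (CohIII.idealMulι (I ^ n.down) F) V
    ((hz n.down (Finset.mem_image_of_mem _ hn)).trans (map_zero _).symm)
  rw [this, map_zero]

theorem Θ_app_surjective (hV : IsAffineOpen V) : Function.Surjective ((Θ I X F).app V) := by
  classical
  have hU : IsAffineOpen (UB I X V) := hV.preimage (π I X)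
  intro y
  let 𝒮 : AddSubgroup Γ(P I X F, WC I X V) := AddSubgroup.closure
    {w | ∃ (n : ℕ) (a : A) (m' : Γ(F, V)), a ∈ I ^ n ∧
      w = (cTc I X V).hom Polynomial.X ^ n • uV I X F ((ψc X V).hom a • m')}
  have hrange : ∀ w ∈ 𝒮, ∃ s : Γ(∐ Nfam I X F, V),
      (ιNN I X F).app V ((Θ I X F).app V s) = w := by
    intro w hw
    induction hw using AddSubgroup.closure_induction with
    | mem w hw =>
      obtain ⟨n, a, m', ha, rfl⟩ := hw
      refine ⟨(Sigma.ι (Nfam I X F) ⟨n⟩).app V ((nu F a ha).app V m'), ?_⟩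
      rw [Θι_app]
      congr 2
      have := congrArg (fun φ => (Scheme.Modules.Hom.app φ V) m') (nu_ι F a ha)
      exact this.trans (smulMod_app X F a m')
    | zero => exact ⟨0, by rw [map_zero, map_zero]; rfl⟩
    | add a b _ _ ha hb =>
      obtain ⟨sa, rfl⟩ := ha
      obtain ⟨sb, rfl⟩ := hb
      exact ⟨sa + sb, by rw [map_add, map_add]; rfl⟩
    | neg a _ ha =>
      obtain ⟨sa, rfl⟩ := ha
      exact ⟨-sa, by rw [map_neg, map_neg]; rfl⟩
  obtain ⟨e, he⟩ := Groth.Agent.Lib.Helper23.FinType.surjective_app_of_epi (qF' I X F) hU y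
  have hy : (ιNN I X F).app V y = unitSec (ρ I X) (E I X F) (le_refl (WC I X V)) e := by
    rw [← he, Groth.Agent.Lib.R2H3.PullUnit.unitSec_le_rfl]
    exact congrArg (fun φ => (Scheme.Modules.Hom.app φ (UB I X V)) e) (qF'_ιF' I X F)
  have hspan := Groth.Agent.Lib.R2H2.PullSecLE.span_range_unitSec (π I X) F hV hU (le_refl _)
  have hmem : ∀ e : Γ(E I X F, UB I X V), e ∈ Submodule.span Γ(XB I X, UB I X V)
      (Set.range (unitSec (π I X) F (le_refl (UB I X V)))) → ∀ z : Γ(XB I X, UB I X V),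
      unitSec (ρ I X) (E I X F) (le_refl (WC I X V)) (z • e) ∈ 𝒮 := by
    intro e he
    induction he using Submodule.span_induction with
    | mem e hmem =>
      obtain ⟨m, rfl⟩ := hmem
      intro z
      rw [unitSec_smul]
      have h2 : ((ρ I X).appLE (UB I X V) (WC I X V) le_rfl) = (ρ I X).app (UB I X V) :=
        Scheme.Hom.appLE_eq_app _
      rw [h2]
      exact smul_mem_closure I (ψc X V).hom ((π I X).app V).hom ((ρ I X).app (UB I X V)).hom
        (βc I X V).hom (cTc I X V).hom (κ_β I X) (cT_C I X) (uV I X F) (uV_smul I X F)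
        (gen_B I X hV) z m
    | zero => intro z; rw [smul_zero, map_zero]; exact 𝒮.zero_mem
    | add a b _ _ ha hb => intro z; rw [smul_add, map_add]; exact 𝒮.add_mem (ha z) (hb z)
    | smul z' a _ ha => intro z; rw [← mul_smul]; exact ha _
  have h1 := hmem e (by rw [hspan]; trivial) 1
  rw [one_smul, ← hy] at h1
  obtain ⟨s, hs⟩ := hrange _ h1
  exact ⟨s, Groth.Agent.Lib.Helper23.Extend.injective_app_of_mono (ιNN I X F) V hs⟩

instance isIso_Θ : IsIso (Θ I X F) :=
  Groth.Agent.Lib.R2H2.ProjOverPush.isIso_of_bijective_on_affines _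
    (fun _ hV => ⟨Θ_app_injective I X F hV, Θ_app_surjective I X F hV⟩)

end Iso

end Groth.Agent.Lib.R2H2.ReesGeom
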