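import Mathlib
import Groth.Agent.Lib.R2H2ReesGeom
import Groth.Agent.Lib.R2H2AffPushLin
import Groth.Agent.Lib.R2H2CoprodCoh
import Groth.Agent.Lib.R2H2ProperFin
import Groth.Agent.S0002

/-!
# `⊕ H^p(X, Iⁿ F)` is a Noetherian graded module over the Rees algebra (helper2, round 2)

`reesNoeth_HH` : for `X` proper over a Noetherian ring `A`, `F` coherent, and a family of subgroups
`K n ⊆ H^p(X, Iⁿ F)` stable under all multiplication maps, there is `c` such that for `c ≤ n ≤ m`,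
`K m` is generated by the `a · K n`, `a ∈ I^(m-n)`.
-/

set_option autoImplicit false
set_option linter.unusedSectionVars false
universe u
open CategoryTheory CategoryTheory.Limits AlgebraicGeometry TopologicalSpace Opposite Polynomial

noncomputable section

namespace Groth.Agent.Lib.R2H2.ReesCoh

open Groth.Agent.Lib.R2H2.ReesAlg Groth.Agent.Lib.R2H2.IdealMul Groth.Agent.Lib.R2H2.ReesGeom
  Groth.Agent.Lib.R2H2.HHLin

variable {A : Type u} [CommRing A] (I : Ideal A) (X : Scheme.{u}) [X.Over (Spec (CommRingCat.of A))]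

theorem isCoh_F' (F : X.Modules) (hF : Coh.IsCoh F) : Coh.IsCoh (F' I X F) := by
  haveI : F.IsQuasicoherent := hF.1
  haveI : SheafOfModules.IsFiniteType (R := X.ringCatSheaf) F := hF.2
  haveI := Groth.Agent.Lib.Helper20.FormalPull.isFiniteType_pullback (π I X) F
  exact ⟨inferInstance, Groth.Agent.Lib.Helper23.FinType.isFiniteType_of_epi (qF' I X F)⟩

/-- from the `Fin`-indexed to the `Finset`-indexed form of "finite intersections are affine" -/
theorem isAffineOpen_biInf_of_fin {ι : Type u} (V : ι → X.Opens)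
    (hV : ∀ (p : ℕ) (a : Fin (p + 1) → ι), IsAffineOpen (iInf fun k => V (a k)))
    (s : Finset ι) (hs : s.Nonempty) : IsAffineOpen (⨅ i ∈ s, V i) := by
  obtain ⟨p, hp⟩ : ∃ p, s.card = p + 1 := ⟨s.card - 1, by
    have := Finset.card_pos.2 hs; omega⟩
  let e := Finset.equivFinOfCardEq hp
  have h := hV p (fun k => (e.symm k).1)
  have e' : (⨅ i ∈ s, V i) = iInf fun k => V ((e.symm k).1) := by
    apply le_antisymm
    · exact le_iInf fun k => iInf₂_le (e.symm k).1 (e.symm k).2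
    · refine le_iInf₂ fun i hi => ?_
      have := iInf_le (fun k => V ((e.symm k).1)) (e ⟨i, hi⟩)
      simpa using this
  rwa [e']

section Main

variable (F : X.Modules) (p : ℕ)

/-- the map on cohomology induced by a morphism of modules, as an additive map -/
abbrev Hm {Y : Scheme.{u}} {M N : Y.Modules} (φ : M ⟶ N) (p : ℕ) : Coh.HH Y M p →+ Coh.HH Y N p :=
  Sheaf.H.map (abMap φ) p

theorem Hm_comp {Y : Scheme.{u}} {M N P : Y.Modules} (φ : M ⟶ N) (ψ : N ⟶ P) (p : ℕ)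
    (x : Coh.HH Y M p) : Hm (φ ≫ ψ) p x = Hm ψ p (Hm φ p x) := HmapL_comp φ ψ p x

theorem Hm_id {Y : Scheme.{u}} (M : Y.Modules) (p : ℕ) (x : Coh.HH Y M p) : Hm (𝟙 M) p x = x :=
  HmapL_id M p x

theorem Hm_zero {Y : Scheme.{u}} {M N : Y.Modules} (p : ℕ) (x : Coh.HH Y M p) :
    Hm (0 : M ⟶ N) p x = 0 := HmapL_zero p x

theorem push_smulAb (r : Coh.Γtop (XB I X)) :
    (CohTop.push (π I X).base).map (Coh.smulAb (F' I X F) r) =
      abMap ((Scheme.Modules.pushforward (π I X)).map (Formal.smulModΓ (F' I X F) r)) := by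
  rfl

theorem smul_H (b : reesAlgebra I) (h : Coh.HH (XB I X) (F' I X F) p) :
    b • h = Sheaf.H.map (Coh.smulAb (F' I X F) (bB I X b)) p h := rfl

theorem Hmul_eq_Hm {J J' : Ideal A} (a : A) (h : ∀ b ∈ J, a * b ∈ J')
    (x : Coh.HH X (CohIII.idealMul J F) p) : Hmul F a h p x = Hm (mulTo F a h) p x := rfl

variable [IsNoetherianRing A] [IsProper (X ↘ Spec (CommRingCat.of A))]

theorem finite_H (hF : Coh.IsCoh F) :
    Module.Finite (reesAlgebra I) (Coh.HH (XB I X) (F' I X F) p) :=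
  Groth.Agent.S0002.result (reesAlgebra I) (XB I X) (F' I X F) (isCoh_F' I X F hF) p

/-- **Graded Noetherianity of `⊕ₙ H^p(X, Iⁿ F)` over the Rees algebra.** -/
theorem reesNoeth_HH (hF : Coh.IsCoh F)
    (K : ∀ n, AddSubgroup (Coh.HH X (CohIII.idealMul (I ^ n) F) p))
    (hK : ∀ (n m : ℕ) (a : A) (h : ∀ b ∈ I ^ n, a * b ∈ I ^ m), ∀ x ∈ K n, Hmul F a h p x ∈ K m) :
    ∃ c : ℕ, ∀ n : ℕ, c ≤ n → ∀ m : ℕ, n ≤ m → ∀ y ∈ K m,
      y ∈ AddSubgroup.closure {z : Coh.HH X (CohIII.idealMul (I ^ m) F) p |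
        ∃ (a : A) (h : ∀ b ∈ I ^ n, a * b ∈ I ^ m), a ∈ I ^ (m - n) ∧ ∃ x ∈ K n,
          z = Hmul F a h p x} := by
  classical
  haveI : F.IsQuasicoherent := hF.1
  haveI : CompactSpace X :=
    QuasiCompact.compactSpace_of_compactSpace (X ↘ Spec (CommRingCat.of A))
  obtain ⟨ι, hfinι, V, hcov, -, hVint⟩ :=
    Groth.Agent.Lib.R2H2.ProperFin.exists_affine_cover_of_isSeparated
      (X ↘ Spec (CommRingCat.of A))
  obtain ⟨E₁, hE₁⟩ := Groth.Agent.Lib.R2H2.AffPushLin.exists_push_natural (π I X) V hcov hVint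
    (F' I X F) (inferInstance : (F' I X F).IsQuasicoherent) p
  haveI := finite_H I X F p hF
  haveI : IsNoetherian (reesAlgebra I) (Coh.HH (XB I X) (F' I X F) p) :=
    isNoetherian_of_isNoetherianRing_of_finite _ _
  have hΘ1 : ∀ x, Hm (inv (Θ I X F)) p (Hm (Θ I X F) p x) = x := fun x => by
    rw [← Hm_comp, IsIso.hom_inv_id, Hm_id]
  have hΘ2 : ∀ x, Hm (Θ I X F) p (Hm (inv (Θ I X F)) p x) = x := fun x => by
    rw [← Hm_comp, IsIso.inv_hom_id, Hm_id]
  let J : ∀ n, Coh.HH X (CohIII.idealMul (I ^ n) F) p →+ Coh.HH (XB I X) (F' I X F) p := fun n =>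
    E₁.symm.toAddMonoidHom.comp ((Hm (Θ I X F) p).comp (Hm (Sigma.ι (Nfam I X F) ⟨n⟩) p))
  let pr : ∀ n, Coh.HH (XB I X) (F' I X F) p →+ Coh.HH X (CohIII.idealMul (I ^ n) F) p := fun n =>
    (Hm (Sigma.π (Nfam I X F) ⟨n⟩) p).comp ((Hm (inv (Θ I X F)) p).comp E₁.toAddMonoidHom)
  have hJ : ∀ n x, J n x = E₁.symm (Hm (Θ I X F) p (Hm (Sigma.ι (Nfam I X F) ⟨n⟩) p x)) :=
    fun _ _ => rfl
  have hpr : ∀ n h, pr n h = Hm (Sigma.π (Nfam I X F) ⟨n⟩) p (Hm (inv (Θ I X F)) p (E₁ h)) :=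
    fun _ _ => rfl
  refine reesNoeth I (fun n => Coh.HH X (CohIII.idealMul (I ^ n) F) p)
    (fun n m a h => Hmul F a h p)
    (fun n m a a' h h' h'' x => Hmul_add F a a' h h' h'' p x)
    (fun n m l a a' h h' h'' x => Hmul_comp F a a' h h' h'' p x) J pr ?_ ?_ ?_ ?_ K hK
  · -- pr_J
    intro n x
    rw [hpr, hJ, AddEquiv.apply_symm_apply, hΘ1, ← Hm_comp, Sigma.ι_π_eq_id, Hm_id]
  · -- pr_J_ne
    intro n m x hnm
    rw [hpr, hJ, AddEquiv.apply_symm_apply, hΘ1, ← Hm_comp,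
      Sigma.ι_π_of_ne (Nfam I X F) (fun h => hnm (congrArg ULift.down h)), Hm_zero]
  · -- finiteness
    intro h
    obtain ⟨S, hS⟩ := Groth.Agent.Lib.R2H2.CoprodCoh.exists_sum_HH (Nfam I X F) V hcov
      (isAffineOpen_biInf_of_fin X V hVint)
      (fun j => isQuasicoherent_idealMul F (I ^ j.down)) p (Hm (inv (Θ I X F)) p (E₁ h))
    refine ⟨S.image ULift.down, ?_⟩
    rw [Finset.sum_image (fun a _ b _ h => ULift.ext a b h)]
    have h1 : h = E₁.symm (Hm (Θ I X F) p (Hm (inv (Θ I X F)) p (E₁ h))) := by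
      rw [hΘ2, AddEquiv.symm_apply_apply]
    conv_lhs => rw [h1, hS]
    rw [map_sum, map_sum]
    rfl
  · -- action
    intro d a ha k x hh
    apply E₁.injective
    rw [smul_H, hE₁, push_smulAb, hJ, hJ, AddEquiv.apply_symm_apply, AddEquiv.apply_symm_apply]
    change Hm _ p (Hm (Θ I X F) p (Hm (Sigma.ι (Nfam I X F) ⟨k⟩) p x)) =
      Hm (Θ I X F) p (Hm (Sigma.ι (Nfam I X F) ⟨k + d⟩) p (Hm (mulTo F a hh) p x))
    rw [← Hm_comp, ← Hm_comp, ← Hm_comp, ← Hm_comp]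
    congr 2
    have e1 : ∀ n : ℕ, Sigma.ι (Nfam I X F) ⟨n⟩ ≫ Θ I X F = θ I X F n := fun n => by
      unfold Θ; rw [Sigma.ι_desc]
    rw [← Category.assoc, e1 k, e1 (k + d)]
    exact θ_smul I X F k d a ha

end Main

end Groth.Agent.Lib.R2H2.ReesCoh
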