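import Mathlib
import Groth.Agent.Lib.R2H2ReesCoh

/-!
# Consequences of the graded Noetherianity of `⊕ H^p(X, Iⁿ F)` (helper2, round 2)
-/

set_option autoImplicit false
set_option linter.unusedSectionVars false
universe u
open CategoryTheory CategoryTheory.Limits AlgebraicGeometry TopologicalSpace Opposite

noncomputable section

namespace Groth.Agent.Lib.R2H2.ReesFin

open Groth.Agent.Lib.R2H2.IdealMul Groth.Agent.Lib.R2H2.ReesCoh Groth.Agent.Lib.R2H2.HHLin

variable {A : Type u} [CommRing A] (I : Ideal A) (X : Scheme.{u}) [X.Over (Spec (CommRingCat.of A))]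
  (F : X.Modules) (p : ℕ)

theorem mulTo_congr {J J' : Ideal A} {a a' : A} (e : a = a') (h : ∀ b ∈ J, a * b ∈ J')
    (h' : ∀ b ∈ J, a' * b ∈ J') : mulTo F a h = mulTo F a' h' := by
  subst e; rfl

theorem Hmul_congr {J J' : Ideal A} {a a' : A} (e : a = a') (h : ∀ b ∈ J, a * b ∈ J')
    (h' : ∀ b ∈ J, a' * b ∈ J') (x : Coh.HH X (CohIII.idealMul J F) p) :
    Hmul F a h p x = Hmul F a' h' p x := by
  subst e; rfl

theorem Hmul_one_self (J : Ideal A) (h : ∀ b ∈ J, (1 : A) * b ∈ J)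
    (x : Coh.HH X (CohIII.idealMul J F) p) : Hmul F 1 h p x = x := by
  rw [Hmul_eq_Hm, mulTo_one_self, Hm_id]

theorem HmulMap_eq (J J' : Ideal A) (a : J) (x : Coh.HH X (CohIII.idealMul J' F) p) :
    CohIII.HmulMap J J' F a p x = Hmul F (a : A) (fun _ hb => Ideal.mul_mem_mul a.2 hb) p x := by
  unfold CohIII.HmulMap Hmul
  rw [mulMap_eq_mulTo]

variable [IsNoetherianRing A] [IsProper (X ↘ Spec (CommRingCat.of A))]

/-- `S2435` -/
theorem rees_fin (hF : Coh.IsCoh F) :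
    ∃ k₀ : ℕ, ∀ k : ℕ, k₀ ≤ k → ∀ r : ℕ,
      (⨆ a : ↥(I ^ r), (CohIII.HmulMap (I ^ r) (I ^ k) F a p).range) = ⊤ := by
  obtain ⟨c, hc⟩ := reesNoeth_HH I X F p hF (fun _ => ⊤) (fun _ _ _ _ _ _ => trivial)
  refine ⟨c, fun k hk r => ?_⟩
  rw [eq_top_iff]
  intro z _
  have h1 : ∀ b ∈ I ^ r * I ^ k, (1 : A) * b ∈ I ^ (k + r) := by
    intro b hb; rw [one_mul, add_comm, pow_add]; exact hb
  have h2 : ∀ b ∈ I ^ (k + r), (1 : A) * b ∈ I ^ r * I ^ k := by
    intro b hb; rw [one_mul, ← pow_add, add_comm]; exact hb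
  have hz : z = Hmul F 1 h2 p (Hmul F 1 h1 p z) := by
    rw [Hmul_comp F 1 1 h1 h2 (by intro b hb; rw [mul_one, one_mul]; exact hb),
      Hmul_congr X F p (mul_one 1) _ (by intro b hb; rw [one_mul]; exact hb), Hmul_one_self]
  have hy := hc k hk (k + r) (Nat.le_add_right k r) (Hmul F 1 h1 p z) trivial
  rw [hz]
  generalize Hmul F 1 h1 p z = y at hy
  induction hy using AddSubgroup.closure_induction with
  | mem y hy =>
    obtain ⟨a, h, ha, x, -, rfl⟩ := hy
    have ha' : a ∈ I ^ r := by rwa [Nat.add_sub_cancel_left] at ha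
    rw [Hmul_comp F a 1 h h2 (by
      intro b hb; rw [one_mul]; exact Ideal.mul_mem_mul ha' hb),
      Hmul_congr X F p (one_mul a) _ (fun _ hb => Ideal.mul_mem_mul ha' hb)]
    refine AddSubgroup.mem_iSup_of_mem ⟨a, ha'⟩ ⟨x, ?_⟩
    exact HmulMap_eq X F p (I ^ r) (I ^ k) ⟨a, ha'⟩ x
  | zero => rw [map_zero]; exact AddSubgroup.zero_mem _
  | add a b _ _ ha hb => rw [map_add]; exact AddSubgroup.add_mem _ ha hb
  | neg a _ ha => rw [map_neg]; exact AddSubgroup.neg_mem _ ha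

end Groth.Agent.Lib.R2H2.ReesFin
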