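import Mathlib
import Groth.Prelude.Def_Formal2
import Groth.Agent.Lib.R2H2ReesFin

/-!
# Artin–Rees type consequences for `H^p(X, Iⁿ F)` (helper2, round 2)
-/

set_option autoImplicit false
set_option linter.unusedSectionVars false
universe u
open CategoryTheory CategoryTheory.Limits AlgebraicGeometry TopologicalSpace Opposite

noncomputable section

namespace Groth.Agent.Lib.R2H2.ReesAR

open Groth.Agent.Lib.R2H2.IdealMul Groth.Agent.Lib.R2H2.ReesCoh Groth.Agent.Lib.R2H2.HHLin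
  Groth.Agent.Lib.R2H2.ReesFin

variable {A : Type u} [CommRing A] (I : Ideal A) (X : Scheme.{u}) [X.Over (Spec (CommRingCat.of A))]
  (F : X.Modules) (p : ℕ)

/-- `Iⁿ F` as an image is `Iⁿ F` as a kernel -/
def κ (n : ℕ) : CohIII.idealMul (I ^ n) F ≅ Formal2.idealPowMod I n F :=
  (Abelian.imageIsoImage (Formal.smulFamily (I ^ n) F)).symm

@[reassoc]
theorem κ_ι (n : ℕ) : (κ I X F n).hom ≫ Formal2.idealPowModι I n F = CohIII.idealMulι (I ^ n) F := by
  unfold κ
  rw [Iso.symm_hom, Iso.inv_comp_eq]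
  exact (Abelian.imageIsoImage_hom_comp_image_ι (Formal.smulFamily (I ^ n) F)).symm

@[reassoc]
theorem κ_inv_ι (n : ℕ) :
    (κ I X F n).inv ≫ CohIII.idealMulι (I ^ n) F = Formal2.idealPowModι I n F := by
  rw [Iso.inv_comp_eq, κ_ι]

theorem one_mul_mem_of_le {m n : ℕ} (h : m ≤ n) : ∀ b ∈ I ^ n, (1 : A) * b ∈ I ^ m := by
  intro b hb
  rw [one_mul]
  exact Ideal.pow_le_pow_right h hb

@[reassoc]
theorem κ_incl {m n : ℕ} (h : m ≤ n) :
    (κ I X F n).hom ≫ Formal2.idealPowIncl I h F =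
      mulTo F 1 (one_mul_mem_of_le I h) ≫ (κ I X F m).hom := by
  rw [← cancel_mono (Formal2.idealPowModι I m F), Category.assoc, Category.assoc, κ_ι, mulTo_ι,
    smulMod_one, Category.comp_id]
  unfold Formal2.idealPowIncl
  rw [kernel.lift_ι]
  exact κ_ι I X F n

/-- for `a ∈ J'`, multiplication `J·F ⟶ J'·F` factors through `F` -/
theorem ι_nu {J J' : Ideal A} (a : A) (ha : a ∈ J') (h : ∀ b ∈ J, a * b ∈ J') :
    CohIII.idealMulι J F ≫ nu F a ha = mulTo F a h := by
  rw [← cancel_mono (CohIII.idealMulι J' F), Category.assoc, nu_ι, mulTo_ι]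

/-- multiplication `J·F ⟶ J'·F` by `a` is the inclusion followed by multiplication by `a` -/
theorem mulTo_eq_smul {J J' : Ideal A} (a : A) (h : ∀ b ∈ J, a * b ∈ J')
    (h1 : ∀ b ∈ J, (1 : A) * b ∈ J') :
    mulTo F a h = mulTo F 1 h1 ≫ Formal.smulMod A (CohIII.idealMul J' F) a := by
  rw [← cancel_mono (CohIII.idealMulι J' F), Category.assoc, mulTo_ι,
    Groth.Agent.S9530.smulMod_comp, mulTo_ι_assoc, smulMod_one, Category.id_comp]

omit [X.Over (Spec (CommRingCat.of A))] in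
theorem Hm_smulModΓ (N : X.Modules) (r : Coh.Γtop X) (x : Coh.HH X N p) :
    Hm (Formal.smulModΓ N r) p x = r • x := rfl

theorem Hm_smulMod (N : X.Modules) (a : A) (x : Coh.HH X N p) :
    Hm (Formal.smulMod A N a) p x = a • x := rfl

theorem Hm_smul {M N : X.Modules} (φ : M ⟶ N) (a : A) (x : Coh.HH X M p) :
    Hm φ p (a • x) = a • Hm φ p x :=
  (HmapA A φ p).map_smul a x

theorem Hm_ι_Hmul {J J' : Ideal A} (a : A) (h : ∀ b ∈ J, a * b ∈ J')
    (x : Coh.HH X (CohIII.idealMul J F) p) :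
    Hm (CohIII.idealMulι J' F) p (Hmul F a h p x) = a • Hm (CohIII.idealMulι J F) p x := by
  rw [Hmul_eq_Hm, ← Hm_comp, mulTo_ι, Hm_comp, Hm_smulMod]

section Proper

variable [IsNoetherianRing A] [IsProper (X ↘ Spec (CommRingCat.of A))]

theorem Hm_κ_inv_hom (n : ℕ) (w : Coh.HH X (Formal2.idealPowMod I n F) p) :
    Hm (κ I X F n).hom p (Hm (κ I X F n).inv p w) = w := by
  rw [← Hm_comp, Iso.inv_hom_id, Hm_id]

/-- the kernel family `ker (H^p(Iⁿ F) → H^p(F))` is stable -/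
theorem ker_stable (n m : ℕ) (a : A) (h : ∀ b ∈ I ^ n, a * b ∈ I ^ m)
    (x : Coh.HH X (CohIII.idealMul (I ^ n) F) p) (hx : x ∈ (Hm (CohIII.idealMulι (I ^ n) F) p).ker) :
    Hmul F a h p x ∈ (Hm (CohIII.idealMulι (I ^ m) F) p).ker := by
  rw [AddMonoidHom.mem_ker] at hx ⊢
  rw [Hm_ι_Hmul, hx, smul_zero]

/-- `S0837` -/
theorem ker_eq (hF : Coh.IsCoh F) :
    ∃ c : ℕ, ∀ (n : ℕ) (_ : c ≤ n),
      (Hm (Formal2.idealPowModι I n F) p).ker =
        (Hm (Formal2.idealPowIncl I (Nat.sub_le n c) F) p).ker := by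
  obtain ⟨c, hc⟩ := reesNoeth_HH I X F p hF
    (fun n => (Hm (CohIII.idealMulι (I ^ n) F) p).ker) (ker_stable I X F p)
  refine ⟨c, fun n hn => ?_⟩
  ext w
  rw [AddMonoidHom.mem_ker, AddMonoidHom.mem_ker]
  constructor
  · intro hw
    have hy : Hm (κ I X F n).inv p w ∈ (Hm (CohIII.idealMulι (I ^ n) F) p).ker := by
      rw [AddMonoidHom.mem_ker, ← Hm_comp, κ_inv_ι]
      exact hw
    have hcl := hc c le_rfl n hn _ hy
    rw [← Hm_κ_inv_hom I X F p n w, ← Hm_comp, κ_incl, Hm_comp]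
    suffices h0 : Hm (mulTo F 1 (one_mul_mem_of_le I (Nat.sub_le n c))) p
        (Hm (κ I X F n).inv p w) = 0 by rw [h0, map_zero]
    generalize Hm (κ I X F n).inv p w = y at hcl
    induction hcl using AddSubgroup.closure_induction with
    | mem y hy =>
      obtain ⟨a, h, ha, x, hx, rfl⟩ := hy
      rw [AddMonoidHom.mem_ker] at hx
      have ha1 : (1 : A) * a ∈ I ^ (n - c) := by rw [one_mul]; exact ha
      have hh : ∀ b ∈ I ^ c, (1 : A) * a * b ∈ I ^ (n - c) := fun b _ =>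
        Ideal.mul_mem_right b _ ha1
      rw [Hmul_eq_Hm, ← Hm_comp, mulTo_comp F a 1 h _ hh, ← ι_nu X F (1 * a) ha1 hh, Hm_comp, hx,
        map_zero]
    | zero => rw [map_zero]
    | add a b _ _ ha hb => rw [map_add, ha, hb, add_zero]
    | neg a _ ha => rw [map_neg, ha, neg_zero]
  · intro hw
    have e : Formal2.idealPowModι I n F =
        Formal2.idealPowIncl I (Nat.sub_le n c) F ≫ Formal2.idealPowModι I (n - c) F := by
      unfold Formal2.idealPowIncl
      rw [kernel.lift_ι]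
    rw [e, Hm_comp, hw, map_zero]

/-- `S0853` -/
theorem range_subset (hF : Coh.IsCoh F) :
    ∃ c : ℕ, ∀ (n m : ℕ), c ≤ n + m →
      Set.range (Hm (Formal2.idealPowIncl I (Nat.le_add_right n m) F) p) ⊆
        SetLike.coe (I ^ (m - (c - n)) •
          (⊤ : Submodule A (Coh.HH X (Formal2.idealPowMod I n F) p))) := by
  obtain ⟨c, hc⟩ := reesNoeth_HH I X F p hF (fun _ => ⊤) (fun _ _ _ _ _ _ => trivial)
  refine ⟨c, fun n m hnm => ?_⟩
  rintro _ ⟨w, rfl⟩
  have h1 : c ≤ max n c := le_max_right _ _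
  have h2 : max n c ≤ n + m := max_le (Nat.le_add_right n m) hnm
  have he : n + m - max n c = m - (c - n) := by omega
  have hcl := hc (max n c) h1 (n + m) h2 (Hm (κ I X F (n + m)).inv p w) trivial
  rw [← Hm_κ_inv_hom I X F p (n + m) w, ← Hm_comp, κ_incl]
  generalize Hm (κ I X F (n + m)).inv p w = y at hcl
  rw [← he, Hm_comp (mulTo F 1 (one_mul_mem_of_le I (Nat.le_add_right n m))) (κ I X F n).hom]
  induction hcl using AddSubgroup.closure_induction with
  | mem y hy =>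
    obtain ⟨a, h, ha, x, -, rfl⟩ := hy
    have ha1 : (1 : A) * a ∈ I ^ (n + m - max n c) := by rw [one_mul]; exact ha
    have hh1 : ∀ b ∈ I ^ (max n c), (1 : A) * b ∈ I ^ n := one_mul_mem_of_le I (le_max_left n c)
    have hh : ∀ b ∈ I ^ (max n c), (1 : A) * a * b ∈ I ^ n := fun b hb => by
      rw [mul_assoc]
      exact hh1 _ (Ideal.mul_mem_left _ _ hb)
    rw [Hmul_eq_Hm, ← Hm_comp (mulTo F a h), mulTo_comp F a 1 h _ hh,
      mulTo_eq_smul X F (1 * a) hh hh1, Hm_comp, Hm_smulMod, Hm_smul]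
    exact Submodule.smul_mem_smul ha1 trivial
  | zero => rw [map_zero, map_zero]; exact Submodule.zero_mem _
  | add a b _ _ ha hb => rw [map_add, map_add]; exact Submodule.add_mem _ ha hb
  | neg a _ ha => rw [map_neg, map_neg]; exact Submodule.neg_mem _ ha

end Proper

end Groth.Agent.Lib.R2H2.ReesAR
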