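import Mathlib
import Groth.Prelude.Def_Formal2
import Groth.Agent.Lib.R2H2ReesAR

/-!
# The theorem on formal functions: cohomological part (helper2, round 2)
-/

set_option autoImplicit false
set_option linter.unusedSectionVars false
universe u
open CategoryTheory CategoryTheory.Limits AlgebraicGeometry TopologicalSpace Opposite

noncomputable section

namespace Groth.Agent.Lib.R2H2.FormalFn

open Groth.Agent.Lib.R2H2.IdealMul Groth.Agent.Lib.R2H2.ReesCoh Groth.Agent.Lib.R2H2.HHLin
  Groth.Agent.Lib.R2H2.ReesFin Groth.Agent.Lib.R2H2.ReesAR Groth.Agent.Lib.Helper23.QCohLocal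

section Delta

variable {X : Scheme.{u}}

/-- naturality of the connecting map -/
theorem deltaL_naturality {S S' : ShortComplex X.Modules} (hS : S.ShortExact) (hS' : S'.ShortExact)
    (φ : S ⟶ S') (i : ℕ) (x : Coh.HH X S.X₃ i) :
    deltaL S' hS' i (HmapL φ.τ₃ i x) = HmapL φ.τ₁ (i + 1) (deltaL S hS i x) := by
  rw [deltaL_apply, deltaL_apply, HmapL_apply, HmapL_apply, Sheaf.H.map_apply, Sheaf.H.map_apply]
  change (Abelian.Ext.comp (Y := (S.map (toAbF X)).X₃) x
      (Abelian.Ext.mk₀ (show (S.map (toAbF X)).X₃ ⟶ (S'.map (toAbF X)).X₃ from abMap φ.τ₃))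
      (add_zero i)).comp (shortExact_toAbF S' hS').extClass rfl =
    (Abelian.Ext.comp (Y := (S.map (toAbF X)).X₃) x (shortExact_toAbF S hS).extClass rfl).comp
      (Abelian.Ext.mk₀ (show (S.map (toAbF X)).X₁ ⟶ (S'.map (toAbF X)).X₁ from abMap φ.τ₁))
      (add_zero (i + 1))
  have h := ShortComplex.ShortExact.extClass_naturality (shortExact_toAbF S hS)
    (shortExact_toAbF S' hS') ((toAbF X).mapShortComplex.map φ)
  rw [Abelian.Ext.comp_assoc _ _ _ (add_zero i) (zero_add 1) (by omega),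
    Abelian.Ext.comp_assoc _ _ _ rfl (add_zero 1) (by omega)]
  congr 1
  exact h.symm

/-- `f ∘ δ = 0` -/
theorem HmapL_f_deltaL (S : ShortComplex X.Modules) (hS : S.ShortExact) (i : ℕ)
    (x : Coh.HH X S.X₃ i) : HmapL S.f (i + 1) (deltaL S hS i x) = 0 := by
  rw [deltaL_apply, HmapL_apply, Sheaf.H.map_apply]
  change (Abelian.Ext.comp (Y := (S.map (toAbF X)).X₃) x (shortExact_toAbF S hS).extClass rfl).comp
      (Abelian.Ext.mk₀ (show (S.map (toAbF X)).X₁ ⟶ (S.map (toAbF X)).X₂ from abMap S.f))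
      (add_zero (i + 1)) = 0
  rw [Abelian.Ext.comp_assoc _ _ _ rfl (add_zero 1) (by omega)]
  have h := (shortExact_toAbF S hS).extClass_comp
  erw [h, Abelian.Ext.comp_zero]

end Delta

section Ses

variable {A : Type u} [CommRing A] (I : Ideal A) (X : Scheme.{u}) [X.Over (Spec (CommRingCat.of A))]
  (F : X.Modules) (p : ℕ)

/-- `0 → Iⁿ F → F → F/Iⁿ F → 0` -/
def sesPow (n : ℕ) : ShortComplex X.Modules :=
  ShortComplex.mk (Formal2.idealPowModι I n F) (Formal.modPowπ I n F) (kernel.condition _)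

theorem sesPow_shortExact (n : ℕ) : (sesPow I X F n).ShortExact where
  exact := ShortComplex.exact_kernel _
  mono_f := inferInstanceAs (Mono (kernel.ι _))
  epi_g := inferInstanceAs (Epi (cokernel.π _))

/-- the kernel of `H^p(F) → H^p(F/Iⁿ F)` is the image of `H^p(Iⁿ F)` -/
theorem mem_ker_iff (n : ℕ) (x : Coh.HH X F p) :
    Hm (Formal.modPowπ I n F) p x = 0 ↔
      ∃ y : Coh.HH X (CohIII.idealMul (I ^ n) F) p, Hm (CohIII.idealMulι (I ^ n) F) p y = x := by
  constructor
  · intro hx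
    obtain ⟨x₁, hx₁⟩ := exact₂ (sesPow I X F n) (sesPow_shortExact I X F n) p x hx
    refine ⟨Hm (κ I X F n).inv p x₁, ?_⟩
    rw [← Hm_comp, κ_inv_ι]
    exact hx₁
  · rintro ⟨y, rfl⟩
    rw [← Hm_comp, ← κ_ι, Category.assoc]
    have : Formal2.idealPowModι I n F ≫ Formal.modPowπ I n F = 0 := kernel.condition _
    rw [this, comp_zero, Hm_zero]

/-- `F/Iⁿ F` is killed by `Iⁿ` -/
theorem smulMod_modPow (n : ℕ) (a : A) (ha : a ∈ I ^ n) :
    Formal.smulMod A (Formal.modPow I n F) a = 0 := by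
  haveI : Epi (Formal.modPowπ I n F) := inferInstanceAs (Epi (cokernel.π _))
  rw [← cancel_epi (Formal.modPowπ I n F), ← Groth.Agent.S9530.smulMod_comp, comp_zero]
  have h1 : Formal.smulMod A F a = Sigma.ι (fun _ : ↥(I ^ n) => F) ⟨a, ha⟩ ≫
      Formal.smulFamily (I ^ n) F := by
    rw [Formal.smulFamily, Sigma.ι_desc]
  rw [h1, Category.assoc]
  have h2 : Formal.smulFamily (I ^ n) F ≫ Formal.modPowπ I n F = 0 := cokernel.condition _
  rw [h2, comp_zero]

/-- `Iⁿ H^p(F) ⊆ ker (H^p(F) → H^p(F/Iⁿ F))` -/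
theorem pow_smul_le_ker (n : ℕ) (x : Coh.HH X F p)
    (hx : x ∈ I ^ n • (⊤ : Submodule A (Coh.HH X F p))) :
    Hm (Formal.modPowπ I n F) p x = 0 := by
  refine Submodule.smul_induction_on hx (fun a ha y _ => ?_) (fun y z hy hz => ?_)
  · rw [Hm_smul, ← Hm_smulMod, smulMod_modPow I X F n a ha, Hm_zero]
  · rw [map_add, hy, hz, add_zero]

end Ses

section Compl

variable {A : Type u} [CommRing A] (I : Ideal A) (X : Scheme.{u}) [X.Over (Spec (CommRingCat.of A))]
  (F : X.Modules) (p : ℕ)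

theorem completion_map_succ (k : ℕ) :
    (Formal.completion I F).map (homOfLE (Nat.le_add_right k 1)).op =
      Formal.modPowTrans I (k + 1) F :=
  Functor.ofOpSequence_map_homOfLE_succ _ k

theorem completion_π {n k : ℕ} (h : n ≤ k) :
    Formal.modPowπ I (k + 1) F ≫ (Formal.completion I F).map (homOfLE h).op =
      Formal.modPowπ I (n + 1) F := by
  induction k, h using Nat.le_induction with
  | base =>
    have h1 : (homOfLE (le_refl n)).op = 𝟙 (op n) := rfl
    rw [h1]
    exact (congrArg (fun φ => Formal.modPowπ I (n + 1) F ≫ φ)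
      ((Formal.completion I F).map_id (op n))).trans (Category.comp_id _)
  | succ k hk ih =>
    have e : (homOfLE (hk.trans (Nat.le_succ k))).op =
        (homOfLE (Nat.le_add_right k 1)).op ≫ (homOfLE hk).op := rfl
    rw [e, Functor.map_comp, completion_map_succ]
    exact ((Category.assoc (Formal.modPowπ I (k + 1 + 1) F) (Formal.modPowTrans I (k + 1) F)
      ((Formal.completion I F).map (homOfLE hk).op)).symm.trans
      (congrArg (fun φ => φ ≫ (Formal.completion I F).map (homOfLE hk).op)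
        (Formal.modPowπ_trans I (k + 1) F))).trans ih

theorem idealPowIncl_ι {m n : ℕ} (h : m ≤ n) :
    Formal2.idealPowIncl I h F ≫ Formal2.idealPowModι I m F = Formal2.idealPowModι I n F := by
  unfold Formal2.idealPowIncl
  rw [kernel.lift_ι]

theorem idealPowIncl_comp {a b d : ℕ} (h1 : a ≤ b) (h2 : b ≤ d) :
    Formal2.idealPowIncl I h2 F ≫ Formal2.idealPowIncl I h1 F =
      Formal2.idealPowIncl I (h1.trans h2) F := by
  rw [← cancel_mono (Formal2.idealPowModι I a F), Category.assoc, idealPowIncl_ι, idealPowIncl_ι,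
    idealPowIncl_ι]

/-- the morphism of short exact sequences `(I^(k+1) F → F → F/I^(k+1)) ⟶ (I^(n+1) F → F → F/I^(n+1))` -/
def sesMap {n k : ℕ} (h : n ≤ k) : sesPow I X F (k + 1) ⟶ sesPow I X F (n + 1) where
  τ₁ := Formal2.idealPowIncl I (Nat.succ_le_succ h) F
  τ₂ := 𝟙 F
  τ₃ := (Formal.completion I F).map (homOfLE h).op
  comm₁₂ := by
    change Formal2.idealPowIncl I (Nat.succ_le_succ h) F ≫ Formal2.idealPowModι I (n + 1) F =
      Formal2.idealPowModι I (k + 1) F ≫ 𝟙 F
    rw [idealPowIncl_ι, Category.comp_id]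
  comm₂₃ := by
    change 𝟙 F ≫ Formal.modPowπ I (n + 1) F =
      Formal.modPowπ I (k + 1) F ≫ (Formal.completion I F).map (homOfLE h).op
    rw [completion_π, Category.id_comp]

end Compl

section Proper

variable {A : Type u} [CommRing A] (I : Ideal A) (X : Scheme.{u}) [X.Over (Spec (CommRingCat.of A))]
  (F : X.Modules) (p : ℕ) [IsNoetherianRing A] [IsProper (X ↘ Spec (CommRingCat.of A))]

omit [IsNoetherianRing A] [IsProper (X ↘ Spec (CommRingCat.of A))] in
theorem toHHmodPow_eq (n : ℕ) (x : Coh.HH X F p) :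
    Formal.toHHmodPow I F p n x = Hm (Formal.modPowπ I (n + 1) F) p x := rfl

/-- `S0057` -/
theorem ker_subset (hF : Coh.IsCoh F) :
    ∃ c : ℕ, ∀ n : ℕ, c ≤ n →
      ((Formal.toHHmodPow I F p n).ker : Set (Coh.HH X F p)) ⊆
        ((I ^ (n - c) • (⊤ : Submodule A (Coh.HH X F p)) : Submodule A (Coh.HH X F p)) :
          Set (Coh.HH X F p)) := by
  obtain ⟨c, hc⟩ := reesNoeth_HH I X F p hF (fun _ => ⊤) (fun _ _ _ _ _ _ => trivial)
  refine ⟨c, fun n hn x hx => ?_⟩
  have hx' : Hm (Formal.modPowπ I (n + 1) F) p x = 0 := hx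
  obtain ⟨y, rfl⟩ := (mem_ker_iff I X F p (n + 1) x).1 hx'
  have hle : I ^ (n + 1 - c) ≤ I ^ (n - c) := Ideal.pow_le_pow_right (by omega)
  have key : ∀ y : Coh.HH X (CohIII.idealMul (I ^ (n + 1)) F) p,
      y ∈ AddSubgroup.closure {z | ∃ (a : A) (h : ∀ b ∈ I ^ c, a * b ∈ I ^ (n + 1)),
        a ∈ I ^ (n + 1 - c) ∧ ∃ x ∈ (⊤ : AddSubgroup _), z = Hmul F a h p x} →
      Hm (CohIII.idealMulι (I ^ (n + 1)) F) p y ∈
        (I ^ (n - c) • (⊤ : Submodule A (Coh.HH X F p))) := by
    intro y hcl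
    induction hcl using AddSubgroup.closure_induction with
    | mem y hy =>
      obtain ⟨a, h, ha, z, -, rfl⟩ := hy
      rw [Hm_ι_Hmul]
      exact Submodule.smul_mem_smul (hle ha) trivial
    | zero => rw [map_zero]; exact Submodule.zero_mem _
    | add a b _ _ ha hb => rw [map_add]; exact Submodule.add_mem _ ha hb
    | neg a _ ha => rw [map_neg]; exact Submodule.neg_mem _ ha
  exact key y (hc c le_rfl (n + 1) (by omega) y trivial)

/-- `S4461` -/
theorem good_filtration (hF : Coh.IsCoh F) :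
    ∃ k₀ : ℕ, ∀ k : ℕ, k₀ ≤ k →
      ((Formal.toHHmodPow I F p (k + 1)).ker : Set (Coh.HH X F p)) =
        ((I • Submodule.span A ((Formal.toHHmodPow I F p k).ker : Set (Coh.HH X F p)) :
          Submodule A (Coh.HH X F p)) : Set (Coh.HH X F p)) := by
  obtain ⟨c, hc⟩ := reesNoeth_HH I X F p hF (fun _ => ⊤) (fun _ _ _ _ _ _ => trivial)
  refine ⟨c, fun k hk => ?_⟩
  apply Set.Subset.antisymm
  · intro x hx
    have hx' : Hm (Formal.modPowπ I (k + 1 + 1) F) p x = 0 := hx
    obtain ⟨y, rfl⟩ := (mem_ker_iff I X F p (k + 1 + 1) x).1 hx'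
    have key : ∀ y : Coh.HH X (CohIII.idealMul (I ^ (k + 1 + 1)) F) p,
        y ∈ AddSubgroup.closure {z | ∃ (a : A) (h : ∀ b ∈ I ^ (k + 1), a * b ∈ I ^ (k + 1 + 1)),
          a ∈ I ^ (k + 1 + 1 - (k + 1)) ∧ ∃ x ∈ (⊤ : AddSubgroup _), z = Hmul F a h p x} →
        Hm (CohIII.idealMulι (I ^ (k + 1 + 1)) F) p y ∈
          (I • Submodule.span A ((Formal.toHHmodPow I F p k).ker : Set (Coh.HH X F p))) := by
      intro y hcl
      induction hcl using AddSubgroup.closure_induction with
      | mem y hy =>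
        obtain ⟨a, h, ha, z, -, rfl⟩ := hy
        rw [Hm_ι_Hmul]
        have ha' : a ∈ I := by
          have e : k + 1 + 1 - (k + 1) = 1 := by omega
          rwa [e, pow_one] at ha
        refine Submodule.smul_mem_smul ha' (Submodule.subset_span ?_)
        exact (mem_ker_iff I X F p (k + 1) _).2 ⟨z, rfl⟩
      | zero => rw [map_zero]; exact Submodule.zero_mem _
      | add a b _ _ ha hb => rw [map_add]; exact Submodule.add_mem _ ha hb
      | neg a _ ha => rw [map_neg]; exact Submodule.neg_mem _ ha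
    exact key y (hc (k + 1) (by omega) (k + 1 + 1) (by omega) y trivial)
  · intro x hx
    have hsp : Submodule.span A ((Formal.toHHmodPow I F p k).ker : Set (Coh.HH X F p)) =
        LinearMap.ker (HmapA A (Formal.modPowπ I (k + 1) F) p) := by
      apply le_antisymm
      · rw [Submodule.span_le]
        intro z hz
        exact hz
      · intro z hz
        exact Submodule.subset_span hz
    rw [hsp] at hx
    change Hm (Formal.modPowπ I (k + 1 + 1) F) p x = 0
    refine Submodule.smul_induction_on hx (fun a ha y hy => ?_) (fun y z hy hz => ?_)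
    · have hy' : Hm (Formal.modPowπ I (k + 1) F) p y = 0 := hy
      obtain ⟨z, rfl⟩ := (mem_ker_iff I X F p (k + 1) y).1 hy'
      have hab : ∀ b ∈ I ^ (k + 1), a * b ∈ I ^ (k + 1 + 1) := fun b hb => by
        rw [pow_succ' I (k + 1)]; exact Ideal.mul_mem_mul ha hb
      rw [← Hm_ι_Hmul X F p a hab]
      exact (mem_ker_iff I X F p (k + 1 + 1) _).2 ⟨_, rfl⟩
    · rw [map_add, hy, hz, add_zero]

/-- `S0058` -/
theorem range_eq (hF : Coh.IsCoh F) :
    ∃ c : ℕ, ∀ (n k : ℕ) (h : n ≤ k), n + c ≤ k →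
      Set.range (Hm ((Formal.completion I F).map (homOfLE h).op) p) =
        Set.range (Formal.toHHmodPow I F p n) := by
  obtain ⟨c, hc⟩ := ker_eq I X F (p + 1) hF
  refine ⟨c, fun n k h hnk => ?_⟩
  apply Set.Subset.antisymm
  · rintro _ ⟨ξ, rfl⟩
    -- the boundary of `T ξ` vanishes
    have hnat := deltaL_naturality (sesPow_shortExact I X F (k + 1))
      (sesPow_shortExact I X F (n + 1)) (sesMap I X F h) p ξ
    set d := deltaL (sesPow I X F (k + 1)) (sesPow_shortExact I X F (k + 1)) p ξ with hd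
    have hd0 : Hm (Formal2.idealPowModι I (k + 1) F) (p + 1) d = 0 :=
      HmapL_f_deltaL (sesPow I X F (k + 1)) (sesPow_shortExact I X F (k + 1)) p ξ
    have hd1 : Hm (Formal2.idealPowIncl I (Nat.sub_le (k + 1) c) F) (p + 1) d = 0 := by
      have := hc (k + 1) (by omega)
      have hmem : d ∈ (Hm (Formal2.idealPowModι I (k + 1) F) (p + 1)).ker := hd0
      rw [this] at hmem
      exact hmem
    have hd2 : Hm (Formal2.idealPowIncl I (Nat.succ_le_succ h) F) (p + 1) d = 0 := by
      have hle : n + 1 ≤ k + 1 - c := by omega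
      rw [← idealPowIncl_comp I X F hle (Nat.sub_le (k + 1) c), Hm_comp, hd1, map_zero]
    have hzero : deltaL (sesPow I X F (n + 1)) (sesPow_shortExact I X F (n + 1)) p
        (Hm ((Formal.completion I F).map (homOfLE h).op) p ξ) = 0 :=
      hnat.trans hd2
    obtain ⟨x, hx⟩ := exact₃ (sesPow I X F (n + 1)) (sesPow_shortExact I X F (n + 1)) p _ hzero
    exact ⟨x, hx⟩
  · rintro _ ⟨x, rfl⟩
    refine ⟨Formal.toHHmodPow I F p k x, ?_⟩
    rw [toHHmodPow_eq, toHHmodPow_eq]
    exact (Hm_comp (Formal.modPowπ I (k + 1) F) ((Formal.completion I F).map (homOfLE h).op) p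
      x).symm.trans (congrArg (fun φ => Hm φ p x) (completion_π I X F h))

end Proper

end Groth.Agent.Lib.R2H2.FormalFn
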