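import Mathlib

/-!
# R2H2FormalLim: the abstract algebra of the theorem on formal functions

`H` an `A`-module, `L n` a tower of `A`-modules with transition maps `t n : L (n+1) → L n` and
compatible linear maps `q n : H → L n` such that
* (a) `ker (q n) ⊆ I^(n-c) H` for `n ≥ c`,
* (b) `I^(n+1) H ⊆ ker (q n)`,
* (c) every compatible family `y` has `y n ∈ range (q n)`.
Then `AdicCompletion I H ≃+ lim L` (`nonempty_addEquiv`), and if `H` is `I`-adically complete the
canonical map `H → lim L` is bijective (`bijective_of_isAdicComplete`).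
-/

namespace Groth.Agent.Lib.R2H2.FormalLim

open Submodule

variable {A : Type*} [CommRing A] (I : Ideal A) {H : Type*} [AddCommGroup H] [Module A H]
  {L : ℕ → Type*} [∀ n, AddCommGroup (L n)] [∀ n, Module A (L n)]
  (q : ∀ n, H →ₗ[A] L n) (t : ∀ n, L (n + 1) →+ L n)
  (S : AddSubgroup (∀ n, L n)) (hS : ∀ y, y ∈ S ↔ ∀ n, t n (y (n + 1)) = y n)
  (htq : ∀ n x, t n (q (n + 1) x) = q n x)
  (hb : ∀ n x, x ∈ I ^ (n + 1) • (⊤ : Submodule A H) → q n x = 0)

include htq in
theorem q_of_le {n k : ℕ} (h : n ≤ k) (x : H) (hx : q k x = 0) : q n x = 0 := by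
  induction k, h using Nat.le_induction with
  | base => exact hx
  | succ k hk ih =>
    apply ih
    rw [← htq, hx, map_zero]

/-- the map `H / I^(n+1) H → L n` induced by `q n` -/
noncomputable def qbar (n : ℕ) : H ⧸ (I ^ (n + 1) • ⊤ : Submodule A H) →ₗ[A] L n :=
  Submodule.liftQ _ (q n) (fun x hx => hb n x hx)

theorem qbar_mk (n : ℕ) (x : H) :
    qbar I q hb n (Submodule.Quotient.mk x) = q n x := rfl

theorem qbar_mkQ (n : ℕ) (x : H) :
    qbar I q hb n (Submodule.mkQ _ x) = q n x := rfl

include htq hS in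
theorem compat (x : AdicCompletion I H) :
    (fun n => qbar I q hb n (x.val (n + 1))) ∈ S := by
  rw [hS]
  intro n
  obtain ⟨f, rfl⟩ := AdicCompletion.mk_surjective I H x
  change t n (qbar I q hb (n + 1) (Submodule.mkQ _ (f (n + 1 + 1)))) =
    qbar I q hb n (Submodule.mkQ _ (f (n + 1)))
  rw [qbar_mkQ, qbar_mkQ, htq]
  have h1 : f (n + 1) ≡ f (n + 1 + 1) [SMOD (I ^ (n + 1) • ⊤ : Submodule A H)] :=
    f.property (Nat.le_succ (n + 1))
  rw [SModEq.sub_mem] at h1
  have h2 := hb n _ h1
  rw [map_sub, sub_eq_zero] at h2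
  exact h2.symm

/-- the comparison map `AdicCompletion I H → lim L` -/
noncomputable def Φ : AdicCompletion I H →+ S where
  toFun x := ⟨fun n => qbar I q hb n (x.val (n + 1)), compat I q t S hS htq hb x⟩
  map_zero' := by
    apply Subtype.ext
    funext n
    change qbar I q hb n ((0 : AdicCompletion I H).val (n + 1)) = 0
    rw [AdicCompletion.val_zero_apply, map_zero]
  map_add' x y := by
    apply Subtype.ext
    funext n
    change qbar I q hb n ((x + y).val (n + 1)) =
      qbar I q hb n (x.val (n + 1)) + qbar I q hb n (y.val (n + 1))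
    rw [AdicCompletion.val_add_apply, map_add]

theorem Φ_mk (f : AdicCompletion.AdicCauchySequence I H) (n : ℕ) :
    (Φ I q t S hS htq hb (AdicCompletion.mk I H f)).1 n = q n (f (n + 1)) := rfl

theorem Φ_of (x : H) (n : ℕ) :
    (Φ I q t S hS htq hb (AdicCompletion.of I H x)).1 n = q n x := rfl

variable (c : ℕ)
  (ha : ∀ n, c ≤ n → ∀ x, q n x = 0 → x ∈ I ^ (n - c) • (⊤ : Submodule A H))
  (hc : ∀ y : ∀ n, L n, y ∈ S → ∀ n, ∃ h, q n h = y n)

include ha in
theorem Φ_injective : Function.Injective (Φ I q t S hS htq hb) := by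
  rw [injective_iff_map_eq_zero]
  intro x hx
  obtain ⟨f, rfl⟩ := AdicCompletion.mk_surjective I H x
  apply AdicCompletion.ext
  intro m
  have h1 : q (m + c) (f (m + c + 1)) = 0 := by
    have := congrArg (fun z : S => z.1 (m + c)) hx
    exact this
  have h2 := ha (m + c) (Nat.le_add_left c m) _ h1
  rw [Nat.add_sub_cancel] at h2
  have h3 : f m ≡ f (m + c + 1) [SMOD (I ^ m • ⊤ : Submodule A H)] :=
    f.property (by omega)
  change Submodule.mkQ _ (f m) = 0
  rw [Submodule.mkQ_apply, Submodule.Quotient.mk_eq_zero]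
  rw [SModEq.sub_mem] at h3
  have := add_mem h3 h2
  rwa [sub_add_cancel] at this

include ha hc in
theorem Φ_surjective : Function.Surjective (Φ I q t S hS htq hb) := by
  rintro ⟨y, hy⟩
  have hy' := (hS y).1 hy
  choose h hh using hc y hy
  have hdiff : ∀ k, q k (h (k + 1) - h k) = 0 := by
    intro k
    rw [map_sub, ← htq, hh, hh, hy', sub_self]
  have hstab : ∀ n k, n ≤ k → q n (h k) = y n := by
    intro n k hnk
    induction k, hnk using Nat.le_induction with
    | base => exact hh n
    | succ k hk ih =>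
      have := q_of_le q t htq hk _ (hdiff k)
      rw [map_sub, sub_eq_zero] at this
      rw [this, ih]
  let g : AdicCompletion.AdicCauchySequence I H :=
    AdicCompletion.AdicCauchySequence.mk I H (fun m => h (m + c)) (by
      intro m
      refine SModEq.symm ?_
      rw [SModEq.sub_mem]
      have := ha (m + c) (Nat.le_add_left c m) _ (hdiff (m + c))
      rw [Nat.add_sub_cancel] at this
      have e : m + 1 + c = m + c + 1 := by omega
      change h (m + 1 + c) - h (m + c) ∈ _
      rw [e]
      exact this)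
  refine ⟨AdicCompletion.mk I H g, ?_⟩
  apply Subtype.ext
  funext n
  change q n (h (n + 1 + c)) = y n
  exact hstab n _ (by omega)

include q t hS htq hb ha hc in
theorem nonempty_addEquiv : Nonempty (AdicCompletion I H ≃+ S) :=
  ⟨AddEquiv.ofBijective (Φ I q t S hS htq hb)
    ⟨Φ_injective I q t S hS htq hb c ha, Φ_surjective I q t S hS htq hb c ha hc⟩⟩

include t hS htq hb ha hc in
theorem bijective_of_isAdicComplete [IsAdicComplete I H] (f : H →+ S)
    (hf : ∀ x n, (f x).1 n = q n x) : Function.Bijective f := by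
  have e : (f : H → S) = (Φ I q t S hS htq hb) ∘ (AdicCompletion.of I H) := by
    funext x
    apply Subtype.ext
    funext n
    rw [hf]
    rfl
  rw [e]
  exact Function.Bijective.comp
    ⟨Φ_injective I q t S hS htq hb c ha, Φ_surjective I q t S hS htq hb c ha hc⟩
    (AdicCompletion.of_bijective I H)

end Groth.Agent.Lib.R2H2.FormalLim
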