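import Mathlib
import Groth.Prelude.Def_Formal2
import Groth.Agent.Lib.R2H2FormalFn
import Groth.Agent.Lib.R2H2FormalLim
import Groth.Agent.Lib.Helper14InvLim
import Groth.Agent.Lib.Helper18ComplProd
import Groth.Agent.S0002

/-!
# The theorem on formal functions (helper2, round 2): limit statements

* `adicCompletion_equiv` (= S0059): `AdicCompletion I H^p(X,F) ≃+ lim H^p(X, F/I^(n+1)F)`;
* `toHHlim_bijective` (= S0003): for `A` `I`-adically complete the canonical map is bijective.
-/

set_option autoImplicit false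
set_option linter.unusedSectionVars false
universe u
open CategoryTheory CategoryTheory.Limits AlgebraicGeometry TopologicalSpace Opposite

noncomputable section

namespace Groth.Agent.Lib.R2H2.FormalFn2

open Groth.Agent.Lib.R2H2.IdealMul Groth.Agent.Lib.R2H2.ReesCoh Groth.Agent.Lib.R2H2.HHLin
  Groth.Agent.Lib.R2H2.ReesFin Groth.Agent.Lib.R2H2.ReesAR Groth.Agent.Lib.Helper23.QCohLocal
  Groth.Agent.Lib.R2H2.FormalFn

section Compl

variable {A : Type u} [CommRing A] (I : Ideal A) (X : Scheme.{u}) [X.Over (Spec (CommRingCat.of A))]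
  (F : X.Modules) (p : ℕ)

theorem HHlim_le (y : ∀ n, Formal.HHmodPow I F p n) (hy : y ∈ Formal.HHlim I F p) {n k : ℕ}
    (h : n ≤ k) : Hm ((Formal.completion I F).map (homOfLE h).op) p (y k) = y n := by
  induction k, h using Nat.le_induction with
  | base =>
    have h1 : (homOfLE (le_refl n)).op = 𝟙 (op n) := rfl
    rw [h1]
    exact (congrArg (fun φ => Hm φ p (y n)) ((Formal.completion I F).map_id (op n))).trans
      (Hm_id _ p (y n))
  | succ k hk ih =>
    have e : (homOfLE (hk.trans (Nat.le_succ k))).op =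
        (homOfLE (Nat.le_add_right k 1)).op ≫ (homOfLE hk).op := rfl
    rw [e, Functor.map_comp, Hm_comp]
    refine Eq.trans ?_ ih
    congr 1
    exact (congrArg (fun φ => Hm φ p (y (k + 1))) (completion_map_succ I X F k)).trans (hy k)

end Compl

section Proper

variable {A : Type u} [CommRing A] (I : Ideal A) (X : Scheme.{u}) [X.Over (Spec (CommRingCat.of A))]
  (F : X.Modules) (p : ℕ) [IsNoetherianRing A] [IsProper (X ↘ Spec (CommRingCat.of A))]

theorem mem_range (hF : Coh.IsCoh F) (y : ∀ n, Formal.HHmodPow I F p n)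
    (hy : y ∈ Formal.HHlim I F p) (n : ℕ) :
    ∃ x : Coh.HH X F p, HmapA A (Formal.modPowπ I (n + 1) F) p x = y n := by
  obtain ⟨c, hc⟩ := range_eq I X F p hF
  have h1 := hc n (n + c) (Nat.le_add_right n c) le_rfl
  have h2 : y n ∈ Set.range (Hm ((Formal.completion I F).map
      (homOfLE (Nat.le_add_right n c)).op) p) := ⟨y (n + c), HHlim_le I X F p y hy _⟩
  rw [h1] at h2
  obtain ⟨x, hx⟩ := h2
  exact ⟨x, hx⟩

/-- the hypotheses of the abstract limit lemma -/
theorem htq (n : ℕ) (x : Coh.HH X F p) :
    Formal.HHmodPowTrans I F p n (HmapA A (Formal.modPowπ I (n + 1 + 1) F) p x) =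
      HmapA A (Formal.modPowπ I (n + 1) F) p x :=
  ((Formal.toHHlim I F p x).2 n)

/-- `S0059` -/
theorem adicCompletion_equiv (hF : Coh.IsCoh F) :
    Nonempty (AdicCompletion I (Coh.HH X F p) ≃+ Formal.HHlim I F p) := by
  obtain ⟨c, hc⟩ := ker_subset I X F p hF
  exact FormalLim.nonempty_addEquiv I (fun n => HmapA A (Formal.modPowπ I (n + 1) F) p)
    (fun n => Formal.HHmodPowTrans I F p n) (Formal.HHlim I F p) (fun y => Iff.rfl)
    (htq I X F p) (fun n x hx => pow_smul_le_ker I X F p (n + 1) x hx) c
    (fun n hn x hx => hc n hn hx) (mem_range I X F p hF)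

/-- finite modules over an adically complete noetherian ring are adically complete -/
theorem isAdicComplete_of_finite [IsAdicComplete I A] (H : Type u) [AddCommGroup H] [Module A H]
    [Module.Finite A H] : IsAdicComplete I H := by
  haveI : IsHausdorff I H := IsHausdorff.of_le_jacobson I H (IsAdicComplete.le_jacobson_bot I)
  haveI : IsPrecomplete I H := by
    obtain ⟨n, f, hf⟩ := Module.Finite.exists_fin' A H
    haveI := Groth.Agent.Lib.Helper14.isPrecomplete_pi I n
    exact Groth.Agent.Lib.Helper18ComplProd.isPrecomplete_of_surjective I f hf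
  exact { }

/-- `S0003` -/
theorem toHHlim_bijective [IsAdicComplete I A] (hF : Coh.IsCoh F) :
    Function.Bijective (Formal.toHHlim I F p) := by
  obtain ⟨c, hc⟩ := ker_subset I X F p hF
  haveI : Module.Finite A (Coh.HH X F p) := Groth.Agent.S0002.result A X F hF p
  haveI : IsAdicComplete I (Coh.HH X F p) := isAdicComplete_of_finite I (Coh.HH X F p)
  exact FormalLim.bijective_of_isAdicComplete I (fun n => HmapA A (Formal.modPowπ I (n + 1) F) p)
    (fun n => Formal.HHmodPowTrans I F p n) (Formal.HHlim I F p) (fun y => Iff.rfl)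
    (htq I X F p) (fun n x hx => pow_smul_le_ker I X F p (n + 1) x hx) c
    (fun n hn x hx => hc n hn hx) (mem_range I X F p hF) (Formal.toHHlim I F p)
    (fun x n => rfl)

end Proper

end Groth.Agent.Lib.R2H2.FormalFn2
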