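import Groth.Agent.Lib.Helper16AcyclicCx
import Groth.Agent.Lib.Helper17RDer6

/-!
# Degenerate Leray: `Rⁿ(F ⋙ G)(X) ≅ G(RⁿF X)` when all `RᵇF X` are `G`-acyclic (helper3, round 2)

`G : ℬ ⥤ 𝒞` additive and left exact, `ℬ` with injective resolutions.

* `GAcyc G M`: `R^{p+1} G (M) = 0` for all `p`; two-out-of-three lemmas `GAcyc.X₂`, `GAcyc.X₃`, and
  `epi_map_g`: `G` preserves the epimorphism of a short exact sequence with `G`-acyclic kernel.
* `homologyMapIso`: `Hⁿ(G K) ≅ G (Hⁿ K)` for a complex `K` with `G`-acyclic terms and cohomology.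
* `nonempty_rightDerived_comp_iso_of_acyclic`: the degenerate Leray isomorphism.
-/

set_option autoImplicit false
set_option linter.style.haveILetI false
set_option linter.unusedSectionVars false
set_option linter.unusedVariables false
universe v v' v'' u u' u''
open CategoryTheory CategoryTheory.Limits

namespace Groth.Agent.Lib.R2H3.LerayDeg

open Groth.Agent.Lib.Helper16.AcyclicCx Groth.Agent.Lib.Helper17.RDerLib

variable {ℬ : Type u} [Category.{v} ℬ] [Abelian ℬ] [EnoughInjectives ℬ]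
  {𝒞 : Type u'} [Category.{v'} 𝒞] [Abelian 𝒞] (G : ℬ ⥤ 𝒞) [G.Additive]

/-- `G`-acyclic objects. -/
def GAcyc (M : ℬ) : Prop := ∀ p : ℕ, IsZero ((G.rightDerived (p + 1)).obj M)

variable {G}

lemma GAcyc.of_iso {M N : ℬ} (e : M ≅ N) (h : GAcyc G M) : GAcyc G N :=
  fun p => IsZero.of_iso (h p) ((G.rightDerived (p + 1)).mapIso e.symm)

lemma GAcyc.X₃ {S : ShortComplex ℬ} (hS : S.ShortExact) (h₁ : GAcyc G S.X₁) (h₂ : GAcyc G S.X₂) :
    GAcyc G S.X₃ := by
  intro p
  obtain ⟨T⟩ := nonempty_sesRes S hS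
  have h := exact₃ G T (p + 1) (p + 2) rfl
  exact h.isZero_X₂ ((h₂ p).eq_of_src _ _) ((h₁ (p + 1)).eq_of_tgt _ _)

lemma GAcyc.X₂ {S : ShortComplex ℬ} (hS : S.ShortExact) (h₁ : GAcyc G S.X₁) (h₃ : GAcyc G S.X₃) :
    GAcyc G S.X₂ := by
  intro p
  obtain ⟨T⟩ := nonempty_sesRes S hS
  have h := exact₂ G T (p + 1)
  exact h.isZero_X₂ ((h₁ p).eq_of_src _ _) ((h₃ p).eq_of_tgt _ _)

variable [PreservesFiniteLimits G]

/-- `G` preserves the epimorphism of a short exact sequence with `G`-acyclic kernel. -/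
lemma epi_map_g {S : ShortComplex ℬ} (hS : S.ShortExact) (h₁ : GAcyc G S.X₁) : Epi (G.map S.g) := by
  obtain ⟨T⟩ := nonempty_sesRes S hS
  have h := exact₃ G T 0 1 rfl
  haveI : Epi ((G.rightDerived 0).map S.g) := h.epi_f ((h₁ 0).eq_of_tgt _ _)
  have hn := (Functor.rightDerivedZeroIsoSelf G).hom.naturality S.g
  have : G.map S.g = (Functor.rightDerivedZeroIsoSelf G).inv.app S.X₂ ≫
      (G.rightDerived 0).map S.g ≫ (Functor.rightDerivedZeroIsoSelf G).hom.app S.X₃ := by
    rw [hn, ← Category.assoc, ← NatTrans.comp_app, Iso.inv_hom_id, NatTrans.id_app, Category.id_comp]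
  rw [this]
  infer_instance

section Coker

variable {P Q : ℬ} (f : P ⟶ Q) (hk : GAcyc G (kernel f)) (hi : GAcyc G (Abelian.image f))

include hi in
lemma scG_epi : Epi (G.map (cokernel.π f)) :=
  epi_map_g (scB_shortExact f) hi

include hk in
lemma scG_exact : (ShortComplex.mk (G.map f) (G.map (cokernel.π f)) (by
    rw [← G.map_comp, cokernel.condition, G.map_zero])).Exact := by
  have hB := scB_shortExact f
  haveI : Mono (scB f).f := hB.mono_f
  have h1 : ((scB f).map G).Exact :=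
    hB.exact.map_of_mono_of_preservesKernel G inferInstance inferInstance
  haveI : Epi (G.map (Abelian.factorThruImage f)) := epi_map_g (scA_shortExact f) hk
  let φ : ShortComplex.mk (G.map f) (G.map (cokernel.π f)) (by
      rw [← G.map_comp, cokernel.condition, G.map_zero]) ⟶ (scB f).map G :=
    { τ₁ := G.map (Abelian.factorThruImage f)
      τ₂ := 𝟙 _
      τ₃ := 𝟙 _
      comm₁₂ := by
        change G.map (Abelian.factorThruImage f) ≫ G.map (Abelian.image.ι f) = G.map f ≫ 𝟙 _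
        rw [Category.comp_id, ← G.map_comp, Abelian.image.fac]
      comm₂₃ := by
        change 𝟙 _ ≫ G.map (cokernel.π f) = G.map (cokernel.π f) ≫ 𝟙 _
        rw [Category.comp_id, Category.id_comp] }
  haveI : Epi φ.τ₁ := ‹Epi (G.map (Abelian.factorThruImage f))›
  haveI : IsIso φ.τ₂ := inferInstanceAs (IsIso (𝟙 _))
  haveI : Mono φ.τ₃ := inferInstanceAs (Mono (𝟙 _))
  exact (ShortComplex.exact_iff_of_epi_of_isIso_of_mono φ).2 h1

/-- `coker (G f) ≅ G (coker f)` when `ker f` and `im f` are `G`-acyclic. -/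
noncomputable def cokerIso : cokernel (G.map f) ≅ G.obj (cokernel f) := by
  haveI := scG_epi f hi
  exact IsColimit.coconePointUniqueUpToIso (colimit.isColimit _) (scG_exact f hk).gIsCokernel

end Coker

section Main

variable (K : CochainComplex ℬ ℕ) (hK : ∀ n, GAcyc G (K.X n)) (hH : ∀ n, GAcyc G (K.homology n))

include hK hH in
lemma acyc_cycles : ∀ n, GAcyc G (kernel (K.d n (n + 1)))
  | 0 => (hH 0).of_iso (homologyZeroIso' K)
  | n + 1 => by
    have h1 : GAcyc G (kernel (toZ K n)) := by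
      refine (acyc_cycles n).of_iso ?_
      have e : toZ K n ≫ kernel.ι (K.d (n + 1) (n + 2)) = K.d n (n + 1) := kernel.lift_ι _ _ _
      exact (kernelIsoOfEq e.symm) ≪≫ kernelCompMono _ _
    have h2 : GAcyc G (Abelian.image (toZ K n)) := GAcyc.X₃ (scA_shortExact (toZ K n)) h1 (hK n)
    have h3 : GAcyc G (cokernel (toZ K n)) := (hH (n + 1)).of_iso (homologySuccIso' K n)
    exact GAcyc.X₂ (scB_shortExact (toZ K n)) h2 h3

include hK hH in
lemma acyc_kernel_toZ (n : ℕ) : GAcyc G (kernel (toZ K n)) := by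
  refine (acyc_cycles K hK hH n).of_iso ?_
  have e : toZ K n ≫ kernel.ι (K.d (n + 1) (n + 2)) = K.d n (n + 1) := kernel.lift_ι _ _ _
  exact (kernelIsoOfEq e.symm) ≪≫ kernelCompMono _ _

include hK hH in
lemma acyc_image_toZ (n : ℕ) : GAcyc G (Abelian.image (toZ K n)) :=
  GAcyc.X₃ (scA_shortExact (toZ K n)) (acyc_kernel_toZ K hK hH n) (hK n)

/-- `Hⁿ(G K) ≅ G (Hⁿ K)` when the terms and the cohomology of `K` are `G`-acyclic. -/
noncomputable def homologyMapIso : ∀ n : ℕ,
    ((G.mapHomologicalComplex (ComplexShape.up ℕ)).obj K).homology n ≅ G.obj (K.homology n)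
  | 0 => homologyZeroIso G K ≪≫ G.mapIso (homologyZeroIso' K).symm
  | n + 1 => homologySuccIso G K n ≪≫
      cokerIso (toZ K n) (acyc_kernel_toZ K hK hH n) (acyc_image_toZ K hK hH n) ≪≫
      G.mapIso (homologySuccIso' K n).symm

end Main

/-- **Degenerate Leray**: `Rⁿ(F ⋙ G)(X) ≅ G(RⁿF X)` when `F` sends injectives to `G`-acyclics and
all `RᵇF X` are `G`-acyclic. -/
theorem nonempty_rightDerived_comp_iso_of_acyclic {𝒜 : Type u''} [Category.{v''} 𝒜] [Abelian 𝒜]
    [HasInjectiveResolutions 𝒜] (F : 𝒜 ⥤ ℬ) [F.Additive]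
    (hI : ∀ I : 𝒜, Injective I → GAcyc G (F.obj I)) (X : 𝒜)
    (hX : ∀ b : ℕ, GAcyc G ((F.rightDerived b).obj X)) (n : ℕ) :
    Nonempty (((F ⋙ G).rightDerived n).obj X ≅ G.obj ((F.rightDerived n).obj X)) := by
  let I := injectiveResolution X
  let K : CochainComplex ℬ ℕ := (F.mapHomologicalComplex (ComplexShape.up ℕ)).obj I.cocomplex
  have hK : ∀ m, GAcyc G (K.X m) := fun m => hI _ (I.injective m)
  have hH : ∀ m, GAcyc G (K.homology m) := fun m => (hX m).of_iso (I.isoRightDerivedObj F m)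
  let e1 : ((F ⋙ G).rightDerived n).obj X ≅
      ((G.mapHomologicalComplex (ComplexShape.up ℕ)).obj K).homology n :=
    I.isoRightDerivedObj (F ⋙ G) n
  let e2 := homologyMapIso K hK hH n
  let e3 : G.obj (K.homology n) ≅ G.obj ((F.rightDerived n).obj X) :=
    G.mapIso (I.isoRightDerivedObj F n).symm
  exact ⟨e1 ≪≫ e2 ≪≫ e3⟩

end Groth.Agent.Lib.R2H3.LerayDeg
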