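import Groth.Agent.Lib.R2H3RpushRestrict
import Groth.Agent.Lib.Helper23PushAcyclic
import Groth.Agent.Lib.Helper23AffOpen2

/-!
# Vanishing of higher direct images along affine morphisms, and of their stalks (helper3, round 2)

* `isZero_Rpush_of_isAffineHom`: `R^{q+1} f_* M = 0` for `f` affine and `M` quasi-coherent.
* `isZero_stalk_of_isZero_restrict`: a module vanishing on an open `V` has zero stalks at points of `V`.
* `isZero_stalk_RpushAb_of_isAffineHom_restrict`: if `f ∣_ V` is affine and `y ∈ V`, the stalk at `y`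
  of `R^{q+1} f_* (toAb M)` vanishes (`M` quasi-coherent).
-/

set_option autoImplicit false
set_option linter.style.haveILetI false
set_option linter.unusedSectionVars false
set_option linter.unusedVariables false
universe u
open CategoryTheory CategoryTheory.Limits TopologicalSpace AlgebraicGeometry Opposite

namespace Groth.Agent.Lib.R2H3.RpushAffVanish

open Groth.Agent.Lib.R2H3.RpushRestrict Groth.Agent.Lib.Helper23.AffVanish

attribute [local instance] hasInjectiveResolutions_modules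

/-- `R^{q+1} f_* M = 0` for `f` affine and `M` quasi-coherent. -/
theorem isZero_Rpush_of_isAffineHom {X S : Scheme.{u}} (f : X ⟶ S) [IsAffineHom f]
    (M : X.Modules) [M.IsQuasicoherent] (q : ℕ) : IsZero ((Coh.Rpush f (q + 1)).obj M) := by
  apply Groth.Agent.Lib.Helper21.RelExtSS.isZero_of_isZero_toAb
  obtain ⟨e1⟩ := Groth.Agent.Lib.Helper23.ModAbBridge.nonempty_toAb_Rpush_iso f M (q + 1)
  refine IsZero.of_iso ?_ e1
  refine isZero_Rpush_of_basis f.base S.affineOpens S.isBasis_affineOpens (ab' M) ?_ q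
  intro V hV i
  exact subsingleton_HE_of_isAffineOpen (IsAffineOpen.preimage hV f) M i

/-- sections of a zero module vanish. -/
lemma eq_zero_of_isZero {Z : Scheme.{u}} (N : Z.Modules) (hN : IsZero N) (U : Z.Opens)
    (s : N.presheaf.obj (op U)) : s = 0 := by
  have h : 𝟙 N = 0 := hN.eq_of_src _ _
  have h1 : (𝟙 N : N ⟶ N).app U s = s := by
    rw [Scheme.Modules.Hom.id_app]; rfl
  have h2 : (0 : N ⟶ N).app U s = 0 := rfl
  rw [← h1, h, h2]

/-- a module vanishing on an open `V` has zero stalks at points of `V`. -/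
theorem isZero_stalk_of_isZero_restrict {Y : Scheme.{u}} (N : Y.Modules) (V : Y.Opens)
    (hN : IsZero (N.restrict V.ι)) (y : Y) (hy : y ∈ V) :
    IsZero (TopCat.Presheaf.stalk (Coh.toAb N).obj y) := by
  have key : ∀ t : ↑(TopCat.Presheaf.stalk (Coh.toAb N).obj y), t = 0 := by
    intro t
    obtain ⟨W, hWV, hyW, s, rfl⟩ := TopCat.Presheaf.exists_le_germ_eq (Coh.toAb N).obj t hy
    have hle : V.ι ''ᵁ (V.ι ⁻¹ᵁ W) ≤ W := V.ι.image_preimage_le W
    have hy' : y ∈ V.ι ''ᵁ (V.ι ⁻¹ᵁ W) := by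
      rw [Scheme.Hom.image_preimage_eq_opensRange_inf, Scheme.Opens.opensRange_ι]
      exact ⟨hy, hyW⟩
    have h0 : (Coh.toAb N).obj.map (homOfLE hle).op s = 0 :=
      eq_zero_of_isZero (N.restrict V.ι) hN (V.ι ⁻¹ᵁ W) _
    rw [← TopCat.Presheaf.germ_res_apply (Coh.toAb N).obj (homOfLE hle) y hy' s, h0, map_zero]
  rw [IsZero.iff_id_eq_zero]
  ext t
  exact (key _).trans (key _).symm

/-- if `f ∣_ V` is affine and `y ∈ V`, the stalk at `y` of `R^{q+1} f_* (toAb M)` vanishes. -/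
theorem isZero_stalk_RpushAb_of_isAffineHom_restrict {X Y : Scheme.{u}} (f : X ⟶ Y) (V : Y.Opens)
    [IsAffineHom (f ∣_ V)] (M : X.Modules) [M.IsQuasicoherent] (y : Y) (hy : y ∈ V) (q : ℕ) :
    IsZero (TopCat.Presheaf.stalk ((Coh.RpushAb f (q + 1)).obj (Coh.toAb M)).obj y) := by
  obtain ⟨e1⟩ := Groth.Agent.Lib.Helper23.ModAbBridge.nonempty_toAb_Rpush_iso f M (q + 1)
  obtain ⟨e2⟩ := nonempty_Rpush_restrict_iso f V M (q + 1)
  haveI : (M.restrict (f ⁻¹ᵁ V).ι).IsQuasicoherent :=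
    Scheme.Modules.isQuasicoherent_restrictFunctor (f ⁻¹ᵁ V).ι M
  have h0 : IsZero (((Coh.Rpush f (q + 1)).obj M).restrict V.ι) :=
    IsZero.of_iso (isZero_Rpush_of_isAffineHom (f ∣_ V) (M.restrict (f ⁻¹ᵁ V).ι) q) e2
  have h1 := isZero_stalk_of_isZero_restrict ((Coh.Rpush f (q + 1)).obj M) V h0 y hy
  let E : Sheaf (Opens.grothendieckTopology Y) AddCommGrpCat.{u} ⥤ AddCommGrpCat.{u} :=
    sheafToPresheaf (Opens.grothendieckTopology Y) AddCommGrpCat.{u} ⋙
      TopCat.Presheaf.stalkFunctor AddCommGrpCat.{u} y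
  exact IsZero.of_iso h1 (E.mapIso e1.symm)

end Groth.Agent.Lib.R2H3.RpushAffVanish
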