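import Groth.Prelude.Def_CohPull
import Groth.Agent.Lib.R2H3LerayDeg
import Groth.Agent.Lib.Helper16Flasque
import Groth.Agent.Lib.R2H3ModLocBridge
import Groth.Agent.Lib.R2H3RpushAffVanish
import Groth.Agent.Lib.Helper23QCohExt
import Groth.Agent.Lib.Helper23ModAbBridge

/-!
# The Leray edge map `H^p(Y, f_* G) ⟶ H^p(X, G)` is bijective when `R^q f_* G = 0` for `q > 0`
(helper3, round 2)

Dimension shifting along an injective embedding `G ↪ I` of O-modules: `pushEdge` is natural in `G`
and commutes with the connecting homomorphisms.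
-/

set_option autoImplicit false
set_option linter.style.haveILetI false
set_option linter.unusedSectionVars false
set_option linter.unusedVariables false
universe u
open CategoryTheory CategoryTheory.Limits TopologicalSpace AlgebraicGeometry Opposite Abelian

namespace Groth.Agent.Lib.R2H3.PushEdge

section Generic

universe v₁ v₂ u₁ u₂ w₁ w₂

variable {𝒜 : Type u₁} [Category.{v₁} 𝒜] [Abelian 𝒜] [HasExt.{w₁} 𝒜]
  {ℬ : Type u₂} [Category.{v₂} ℬ] [Abelian ℬ] [HasExt.{w₂} ℬ]
  (F : 𝒜 ⥤ ℬ) [F.Additive] [PreservesFiniteLimits F] [PreservesFiniteColimits F]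

/-- naturality of the connecting homomorphism, composed on the left -/
lemma comp_extClass_naturality {T S : ShortComplex ℬ} (hT : T.ShortExact) (hS : S.ShortExact)
    (Φ : T ⟶ S) {W : ℬ} (n : ℕ) (y : Ext W T.X₃ n) :
    (y.comp hT.extClass rfl).comp (Ext.mk₀ Φ.τ₁) (add_zero (n + 1)) =
      (y.comp (Ext.mk₀ Φ.τ₃) (add_zero n)).comp hS.extClass rfl := by
  rw [Ext.comp_assoc_of_third_deg_zero, ShortComplex.ShortExact.extClass_naturality hT hS Φ,
    Ext.comp_assoc_of_second_deg_zero]

/-- compatibility of "apply an exact functor, then compose" with connecting homomorphisms -/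
lemma generic_extClass {S' : ShortComplex 𝒜} (hS' : S'.ShortExact) {S : ShortComplex ℬ}
    (hS : S.ShortExact) (Φ : S'.map F ⟶ S) {Z : 𝒜} {Z' : ℬ} (o : Ext Z' (F.obj Z) 0) (n : ℕ)
    (x : Ext Z S'.X₃ n) :
    o.comp (((x.comp hS'.extClass rfl).mapExactFunctor F).comp (Ext.mk₀ Φ.τ₁) (add_zero (n + 1)))
        (zero_add (n + 1)) =
      (o.comp ((x.mapExactFunctor F).comp (Ext.mk₀ Φ.τ₃) (add_zero n)) (zero_add n)).comp
        hS.extClass rfl := by
  have h1 := Ext.mapExactFunctor_comp F x hS'.extClass (rfl : n + 1 = n + 1)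
  have h2 := Ext.mapExactFunctor_extClass F hS'
  have h3 : (x.comp hS'.extClass rfl).mapExactFunctor F =
      (x.mapExactFunctor F).comp (hS'.map_of_exact F).extClass rfl :=
    h1.trans (congrArg (fun t => (x.mapExactFunctor F).comp t rfl) h2)
  have h4 := comp_extClass_naturality (hS'.map_of_exact F) hS Φ n (x.mapExactFunctor F)
  calc o.comp (((x.comp hS'.extClass rfl).mapExactFunctor F).comp (Ext.mk₀ Φ.τ₁)
          (add_zero (n + 1))) (zero_add (n + 1))
      = o.comp (((x.mapExactFunctor F).comp (hS'.map_of_exact F).extClass rfl).comp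
          (Ext.mk₀ Φ.τ₁) (add_zero (n + 1))) (zero_add (n + 1)) :=
        congrArg (fun t => o.comp (Ext.comp t (Ext.mk₀ Φ.τ₁) (add_zero (n + 1)))
          (zero_add (n + 1))) h3
    _ = o.comp (((x.mapExactFunctor F).comp (Ext.mk₀ Φ.τ₃) (add_zero n)).comp hS.extClass rfl)
          (zero_add (n + 1)) := congrArg (fun t => o.comp t (zero_add (n + 1))) h4
    _ = _ := (Ext.comp_assoc _ _ _ (zero_add n) rfl (by omega)).symm

end Generic

section AbLevel

open Groth.Agent.Lib.R2H3.LerayDeg

variable {X Y : TopCat.{u}} (g : X ⟶ Y)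

/-- the edge map on cohomology of abelian sheaves, as an additive map -/
noncomputable def edgeAb (B : CohTop.Ab X) (p : ℕ) :
    Sheaf.H ((CohTop.push g).obj B) p →+ Sheaf.H B p :=
  (Sheaf.H.map ((CohPull.invPushAdj g).counit.app B) p).comp
    (CohPull.pullAb g ((CohTop.push g).obj B) p)

lemma edgeAb_apply (B : CohTop.Ab X) (p : ℕ) (x : Sheaf.H ((CohTop.push g).obj B) p) :
    edgeAb g B p x =
      (Ext.mk₀ (CohPull.oneTo g)).comp
        ((x.mapExactFunctor (CohPull.inv g)).comp
          (Ext.mk₀ ((CohPull.invPushAdj g).counit.app B)) (add_zero p)) (zero_add p) := by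
  have h1 : edgeAb g B p x =
      ((Ext.mk₀ (CohPull.oneTo g)).comp (x.mapExactFunctor (CohPull.inv g))
        (zero_add p)).comp (Ext.mk₀ ((CohPull.invPushAdj g).counit.app B)) (add_zero p) := rfl
  rw [h1, Ext.comp_assoc_of_third_deg_zero]

/-- naturality of the edge map -/
lemma edgeAb_naturality {B B' : CohTop.Ab X} (φ : B ⟶ B') (p : ℕ)
    (x : Sheaf.H ((CohTop.push g).obj B) p) :
    edgeAb g B' p (x.comp (Ext.mk₀ ((CohTop.push g).map φ)) (add_zero p)) =
      (edgeAb g B p x).comp (Ext.mk₀ φ) (add_zero p) := by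
  rw [edgeAb_apply, edgeAb_apply, Ext.mapExactFunctor_comp, Ext.mapExactFunctor_mk₀,
    Ext.comp_assoc_of_third_deg_zero, Ext.comp_assoc_of_third_deg_zero,
    Ext.comp_assoc_of_third_deg_zero, Ext.mk₀_comp_mk₀, Ext.mk₀_comp_mk₀]
  congr 3
  exact (CohPull.invPushAdj g).counit.naturality φ

/-- the morphism of short complexes `g⁻¹ g_* S ⟶ S` given by the counit -/
noncomputable def counitSC (S : ShortComplex (CohTop.Ab X)) :
    ((S.map (CohTop.push g)).map (CohPull.inv g)) ⟶ S where
  τ₁ := (CohPull.invPushAdj g).counit.app S.X₁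
  τ₂ := (CohPull.invPushAdj g).counit.app S.X₂
  τ₃ := (CohPull.invPushAdj g).counit.app S.X₃
  comm₁₂ := ((CohPull.invPushAdj g).counit.naturality S.f).symm
  comm₂₃ := ((CohPull.invPushAdj g).counit.naturality S.g).symm

/-- the edge map commutes with connecting homomorphisms -/
lemma edgeAb_extClass (S : ShortComplex (CohTop.Ab X)) (hS : S.ShortExact)
    (hS' : (S.map (CohTop.push g)).ShortExact) (n : ℕ)
    (x : Sheaf.H ((CohTop.push g).obj S.X₃) n) :
    edgeAb g S.X₁ (n + 1) (x.comp hS'.extClass rfl) =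
      (edgeAb g S.X₃ n x).comp hS.extClass rfl :=
  (edgeAb_apply g S.X₁ (n + 1) _).trans
    ((generic_extClass (CohPull.inv g) hS' hS (counitSC g S) (Ext.mk₀ (CohPull.oneTo g)) n x).trans
      (congrArg (fun t => t.comp hS.extClass rfl) (edgeAb_apply g S.X₃ n x).symm))

/-- in degree zero the edge map is the identity on global sections -/
lemma equiv₀_edgeAb (B : CohTop.Ab X) (x : Sheaf.H ((CohTop.push g).obj B) 0) :
    Sheaf.H.equiv₀ B isTerminalTop (edgeAb g B 0 x) =
      Sheaf.H.equiv₀ ((CohTop.push g).obj B) isTerminalTop x := by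
  have h1 : edgeAb g B 0 x = Sheaf.H.map ((CohPull.invPushAdj g).counit.app B) 0
      (CohPull.pullAb g ((CohTop.push g).obj B) 0 x) := rfl
  have e1 := Sheaf.H.equiv₀_naturality (hT := (isTerminalTop : IsTerminal (⊤ : Opens X)))
    ((CohPull.invPushAdj g).counit.app B) (CohPull.pullAb g ((CohTop.push g).obj B) 0 x)
  have e2 := CohPull.equiv₀_pullAb g ((CohTop.push g).obj B) x
  have h2 := (CohPull.invPushAdj g).right_triangle_components B
  have h3 := congrArg (fun t => (t.hom.app (op ⊤))
    (Sheaf.H.equiv₀ ((CohTop.push g).obj B) isTerminalTop x)) h2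
  rw [h1]
  refine e1.symm.trans ?_
  refine (congrArg (fun z => ((CohPull.invPushAdj g).counit.app B).hom.app (op ⊤) z) e2).trans ?_
  exact h3

lemma edgeAb_zero_bijective (B : CohTop.Ab X) : Function.Bijective (edgeAb g B 0) := by
  have h : ∀ x, edgeAb g B 0 x = (Sheaf.H.equiv₀ B isTerminalTop).symm
      (Sheaf.H.equiv₀ ((CohTop.push g).obj B) isTerminalTop x) := by
    intro x
    rw [AddEquiv.eq_symm_apply]
    exact equiv₀_edgeAb g B x
  constructor
  · intro x y hxy
    rw [h, h] at hxy
    exact (Sheaf.H.equiv₀ ((CohTop.push g).obj B) isTerminalTop).injective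
      ((Sheaf.H.equiv₀ B isTerminalTop).symm.injective hxy)
  · intro z
    refine ⟨(Sheaf.H.equiv₀ ((CohTop.push g).obj B) isTerminalTop).symm
      (Sheaf.H.equiv₀ B isTerminalTop z), ?_⟩
    rw [h, AddEquiv.apply_symm_apply, AddEquiv.symm_apply_apply]

/-- **Degenerate Leray, edge-map form.**  If `R^q g_* B = 0` for `q > 0` then the edge map
`H^p(Y, g_* B) ⟶ H^p(X, B)` is bijective. -/
theorem edgeAb_bijective (B : CohTop.Ab X) (hB : GAcyc (CohTop.push g) B) (p : ℕ) :
    Function.Bijective (edgeAb g B p) := by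
  induction p generalizing B with
  | zero => exact edgeAb_zero_bijective g B
  | succ n ih =>
    let ι := Injective.ι B
    let S : ShortComplex (CohTop.Ab X) := ShortComplex.mk ι (cokernel.π ι) (cokernel.condition ι)
    have hS : S.ShortExact := { exact := ShortComplex.exact_cokernel ι }
    haveI : Injective S.X₂ := inferInstanceAs (Injective (Injective.under B))
    have hI : GAcyc (CohTop.push g) S.X₂ := fun q =>
      Functor.isZero_rightDerived_obj_injective_succ _ q S.X₂
    have hQ : GAcyc (CohTop.push g) S.X₃ := GAcyc.X₃ hS hB hI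
    haveI : PreservesFiniteLimits (CohTop.push g) := by
      have : (CohTop.push g).IsRightAdjoint := (CohPull.invPushAdj g).isRightAdjoint
      infer_instance
    have hS' : (S.map (CohTop.push g)).ShortExact := by
      haveI : Mono S.f := hS.mono_f
      haveI : Mono (S.map (CohTop.push g)).f := by
        change Mono ((CohTop.push g).map S.f)
        infer_instance
      haveI : Epi (S.map (CohTop.push g)).g := epi_map_g hS hB
      have hex : (S.map (CohTop.push g)).Exact :=
        hS.exact.map_of_mono_of_preservesKernel (CohTop.push g) inferInstance inferInstance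
      exact { exact := hex }
    haveI : TopCat.Sheaf.IsFlasque S.X₂ := Groth.Agent.Lib.Helper16.Flasque.injective_isFlasque S.X₂
    have hsubX : Subsingleton (CohTop.H S.X₂ (n + 1)) :=
      Groth.Agent.Lib.Helper16.Flasque.H_subsingleton S.X₂ n
    have hsubY : Subsingleton (CohTop.H ((CohTop.push g).obj S.X₂) (n + 1)) :=
      Groth.Agent.Lib.Helper16.Flasque.H_subsingleton ((CohTop.push g).obj S.X₂) n
    let ZY := (constantSheaf (Opens.grothendieckTopology Y) AddCommGrpCat.{u}).obj
      (AddCommGrpCat.of (ULift.{u} ℤ))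
    let ZX := (constantSheaf (Opens.grothendieckTopology X) AddCommGrpCat.{u}).obj
      (AddCommGrpCat.of (ULift.{u} ℤ))
    refine AddMonoidHom.bijective_of_surjective_of_bijective_of_right_exact
      ((Ext.mk₀ (S.map (CohTop.push g)).g).postcomp ZY (add_zero n))
      (hS'.extClass.postcomp ZY (rfl : n + 1 = n + 1))
      ((Ext.mk₀ S.g).postcomp ZX (add_zero n))
      (hS.extClass.postcomp ZX (rfl : n + 1 = n + 1))
      (edgeAb g S.X₂ n) (edgeAb g S.X₃ n) (edgeAb g S.X₁ (n + 1)) ?_ ?_ ?_ ?_
      (ih S.X₂ hI).surjective (ih S.X₃ hQ) ?_ ?_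
    · ext x
      exact (edgeAb_naturality g S.g n x).symm
    · ext x
      exact (edgeAb_extClass g S hS hS' n x).symm
    · exact (ShortComplex.ab_exact_iff_function_exact _).mp
        (Ext.covariant_sequence_exact₃' ZY hS' n (n + 1) rfl)
    · exact (ShortComplex.ab_exact_iff_function_exact _).mp
        (Ext.covariant_sequence_exact₃' ZX hS n (n + 1) rfl)
    · intro x₁
      exact Ext.covariant_sequence_exact₁ _ hS' x₁ (hsubY.elim _ _) rfl
    · intro x₁
      exact Ext.covariant_sequence_exact₁ _ hS x₁ (hsubX.elim _ _) rfl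

end AbLevel

variable {X Y : Scheme.{u}} (f : X ⟶ Y)

/-- the abelian-sheaf counit `f⁻¹ f_* G ⟶ G` through which `pushEdge` factors -/
noncomputable def kappa (G : X.Modules) :
    (CohPull.inv f.base).obj (Coh.toAb ((Scheme.Modules.pushforward f).obj G)) ⟶ Coh.toAb G :=
  CohPull.theta f _ ≫ (SheafOfModules.toSheaf X.ringCatSheaf).map
    ((Scheme.Modules.pullbackPushforwardAdjunction f).counit.app G)

lemma kappa_eq (G : X.Modules) :
    kappa f G = (CohPull.invPushAdj f.base).counit.app (Coh.toAb G) := by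
  have h3 : (SheafOfModules.toSheaf Y.ringCatSheaf).map
        ((Scheme.Modules.pullbackPushforwardAdjunction f).unit.app
          ((Scheme.Modules.pushforward f).obj G)) ≫
      (SheafOfModules.toSheaf Y.ringCatSheaf).map ((Scheme.Modules.pushforward f).map
        ((Scheme.Modules.pullbackPushforwardAdjunction f).counit.app G)) =
      𝟙 ((SheafOfModules.toSheaf Y.ringCatSheaf).obj ((Scheme.Modules.pushforward f).obj G)) :=
    ((SheafOfModules.toSheaf Y.ringCatSheaf).map_comp _ _).symm.trans
      ((congrArg (SheafOfModules.toSheaf Y.ringCatSheaf).map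
        ((Scheme.Modules.pullbackPushforwardAdjunction f).right_triangle_components G)).trans
        ((SheafOfModules.toSheaf Y.ringCatSheaf).map_id _))
  have h2 : (SheafOfModules.toSheaf Y.ringCatSheaf).map
        ((Scheme.Modules.pullbackPushforwardAdjunction f).unit.app
          ((Scheme.Modules.pushforward f).obj G)) ≫
      (CohTop.push f.base).map ((SheafOfModules.toSheaf X.ringCatSheaf).map
        ((Scheme.Modules.pullbackPushforwardAdjunction f).counit.app G)) =
      𝟙 ((CohTop.push f.base).obj (Coh.toAb G)) := h3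
  have h4 := (CohPull.invPushAdj f.base).homEquiv_naturality_right_symm
    ((SheafOfModules.toSheaf Y.ringCatSheaf).map
        ((Scheme.Modules.pullbackPushforwardAdjunction f).unit.app
          ((Scheme.Modules.pushforward f).obj G)))
    ((SheafOfModules.toSheaf X.ringCatSheaf).map
        ((Scheme.Modules.pullbackPushforwardAdjunction f).counit.app G))
  have h5 : ((CohPull.invPushAdj f.base).homEquiv _ _).symm
      (𝟙 ((CohTop.push f.base).obj (Coh.toAb G))) =
      (CohPull.invPushAdj f.base).counit.app (Coh.toAb G) := by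
    rw [Adjunction.homEquiv_counit, CategoryTheory.Functor.map_id, Category.id_comp]
  exact h4.symm.trans ((congrArg _ h2).trans h5)

/-- `pushEdge` as a composition of `Ext` classes -/
lemma pushEdge_apply (G : X.Modules) (p : ℕ)
    (x : Coh.HH Y ((Scheme.Modules.pushforward f).obj G) p) :
    CohPull.pushEdge f G p x =
      (Ext.mk₀ (CohPull.oneTo f.base)).comp
        ((x.mapExactFunctor (CohPull.inv f.base)).comp (Ext.mk₀ (kappa f G)) (add_zero p))
        (zero_add p) := by
  unfold kappa
  rw [← Ext.mk₀_comp_mk₀]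
  have h1 : CohPull.pushEdge f G p x =
      (((Ext.mk₀ (CohPull.oneTo f.base)).comp (x.mapExactFunctor (CohPull.inv f.base))
        (zero_add p)).comp (Ext.mk₀ (CohPull.theta f _)) (add_zero p)).comp
        (Ext.mk₀ ((SheafOfModules.toSheaf X.ringCatSheaf).map
          ((Scheme.Modules.pullbackPushforwardAdjunction f).counit.app G))) (add_zero p) := rfl
  rw [h1, Ext.comp_assoc_of_third_deg_zero, Ext.comp_assoc_of_third_deg_zero]

/-- the prelude's edge map is the abelian edge map of the underlying sheaf -/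
lemma pushEdge_eq_edgeAb (G : X.Modules) (p : ℕ)
    (x : Coh.HH Y ((Scheme.Modules.pushforward f).obj G) p) :
    CohPull.pushEdge f G p x = edgeAb f.base (Coh.toAb G) p x :=
  (pushEdge_apply f G p x).trans
    ((congrArg (fun k => (Ext.mk₀ (CohPull.oneTo f.base)).comp
        ((x.mapExactFunctor (CohPull.inv f.base)).comp (Ext.mk₀ k) (add_zero p)) (zero_add p))
        (kappa_eq f G)).trans (edgeAb_apply f.base (Coh.toAb G) p x).symm)

/-- **S16952.**  If `R^q f_* G = 0` for all `q > 0`, the edge map is bijective in every degree. -/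
theorem pushEdge_bijective [HasInjectiveResolutions X.Modules] (G : X.Modules)
    (hG : ∀ q : ℕ, 0 < q → IsZero ((Coh.Rpush f q).obj G)) (p : ℕ) :
    Function.Bijective (CohPull.pushEdge f G p) := by
  have hB : Groth.Agent.Lib.R2H3.LerayDeg.GAcyc (CohTop.push f.base) (Coh.toAb G) := by
    intro q
    obtain ⟨e⟩ := Groth.Agent.Lib.Helper23.ModAbBridge.nonempty_toAb_Rpush_iso f G (q + 1)
    have h0 : IsZero (Coh.toAb ((Coh.Rpush f (q + 1)).obj G)) :=
      (SheafOfModules.toSheaf Y.ringCatSheaf).map_isZero (hG (q + 1) (Nat.succ_pos q))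
    exact IsZero.of_iso h0 e.symm
  have h := edgeAb_bijective f.base (Coh.toAb G) hB p
  have heq : ⇑(CohPull.pushEdge f G p) = ⇑(edgeAb f.base (Coh.toAb G) p) :=
    funext (pushEdge_eq_edgeAb f G p)
  rw [heq]
  exact h

/-- **S16953.**  The affine case, in degree one. -/
theorem pushEdge_one_bijective_of_isAffineHom [IsAffineHom f] (F : X.Modules)
    [F.IsQuasicoherent] : Function.Bijective (CohPull.pushEdge f F 1) := by
  haveI := Groth.Agent.Lib.R2H3.RpushRestrict.hasInjectiveResolutions_modules X
  refine pushEdge_bijective f F ?_ 1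
  intro q hq
  obtain ⟨q, rfl⟩ : ∃ k, q = k + 1 := ⟨q - 1, by omega⟩
  exact Groth.Agent.Lib.R2H3.RpushAffVanish.isZero_Rpush_of_isAffineHom f F q

end Groth.Agent.Lib.R2H3.PushEdge
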