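import Mathlib
import Groth.Prelude.Def_Formal2
import Groth.Agent.Lib.R2H2FormalFn2
import Groth.Agent.Lib.H6xClImmAdjB
import Groth.Agent.Lib.Helper20FormalPull
import Groth.Agent.Lib.R2H3PushEdge
import Groth.Agent.Lib.R2H3RpushRestrict

/-!
# Pushforward along a closed immersion and `M / Iⁿ M` (helper2, round 2)

For a closed immersion `i : T ⟶ X` of `A`-schemes and `φ : M ≅ i_* G`:
* `isQuasicoherent_modPow`;
* `cIso n : M / Iⁿ M ≅ i_*(G / Iⁿ G)`, compatible with the projections (`π_cIso`) and the
  transition maps (`trans_cIso`);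
* `edge G p : H^p(X, i_* G) ≃+ H^p(T, G)` (the Leray edge map, bijective for quasi-coherent `G`),
  natural (`edge_natural`) and `A`-linear (`edge_smul`).
-/

set_option autoImplicit false
set_option linter.unusedSectionVars false
universe u
open CategoryTheory CategoryTheory.Limits AlgebraicGeometry TopologicalSpace Opposite

noncomputable section

namespace Groth.Agent.Lib.R2H2.PushModPow

open Groth.Agent.Lib.R2H2.ReesCoh Groth.Agent.Lib.R2H2.HHLin Groth.Agent.Lib.R2H2.ReesAR
  Groth.Agent.Lib.R2H2.FormalFn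

section QC

variable {A : Type u} [CommRing A] (I : Ideal A) {X : Scheme.{u}} [X.Over (Spec (CommRingCat.of A))]
  (F : X.Modules)

theorem isQuasicoherent_modPow (n : ℕ) [F.IsQuasicoherent] :
    (Formal.modPow I n F).IsQuasicoherent := by
  classical
  haveI : (∐ fun _ : ↥(I ^ n) => F).IsQuasicoherent :=
    Groth.Agent.Lib.R2H2.CoprodCoh.isQuasicoherent_sigma (fun _ : ↥(I ^ n) => F)
      (fun _ => inferInstance)
  exact Groth.Agent.Lib.Helper23.QCohLocal.isQuasicoherent_cokernel _

end QC

section Push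

variable {A : Type u} [CommRing A] (I : Ideal A) {X T : Scheme.{u}}
  [X.Over (Spec (CommRingCat.of A))] [T.Over (Spec (CommRingCat.of A))]
  (i : T ⟶ X) [IsClosedImmersion i]
  (hi : i ≫ (X ↘ Spec (CommRingCat.of A)) = T ↘ Spec (CommRingCat.of A))

include hi in
theorem push_smulMod (G : T.Modules) (a : A) :
    (Scheme.Modules.pushforward i).map (Formal.smulMod A G a) =
      Formal.smulMod A ((Scheme.Modules.pushforward i).obj G) a := by
  rw [Formal.smulMod, Formal.smulMod, Groth.Agent.Lib.Helper20.FormalPull.toGlobal_eq i hi,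
    Groth.Agent.Lib.Helper20.FormalPull.pushforward_map_smulModΓ]

include hi in
theorem smulFamily_push (J : Ideal A) (G : T.Modules) :
    Formal.smulFamily J ((Scheme.Modules.pushforward i).obj G) =
      sigmaComparison (Scheme.Modules.pushforward i) (fun _ : J => G) ≫
        (Scheme.Modules.pushforward i).map (Formal.smulFamily J G) := by
  apply Sigma.hom_ext
  intro a
  rw [ι_comp_sigmaComparison_assoc, ← Functor.map_comp]
  simp only [Formal.smulFamily, colimit.ι_desc, Cofan.mk_ι_app]
  exact (push_smulMod i hi G a).symm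

theorem smulFamily_natural (J : Ideal A) {M N : X.Modules} (φ : M ⟶ N) :
    Limits.Sigma.map (fun _ : J => φ) ≫ Formal.smulFamily J N = Formal.smulFamily J M ≫ φ := by
  apply Sigma.hom_ext
  intro a
  rw [Sigma.ι_map_assoc]
  simp only [Formal.smulFamily, Sigma.ι_desc, Sigma.ι_desc_assoc]
  exact (Groth.Agent.S9530.smulMod_comp φ (a : A)).symm

end Push

section CIso

variable {A : Type u} [CommRing A] (I : Ideal A) {X T : Scheme.{u}}
  [X.Over (Spec (CommRingCat.of A))] [T.Over (Spec (CommRingCat.of A))]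
  (i : T ⟶ X) [IsClosedImmersion i]
  (hi : i ≫ (X ↘ Spec (CommRingCat.of A)) = T ↘ Spec (CommRingCat.of A))

include hi in
theorem smulFamily_push_π (J : Ideal A) (G : T.Modules) :
    Formal.smulFamily J ((Scheme.Modules.pushforward i).obj G) ≫
      (Scheme.Modules.pushforward i).map (cokernel.π (Formal.smulFamily J G)) = 0 := by
  rw [smulFamily_push i hi, Category.assoc, ← Functor.map_comp, cokernel.condition,
    Functor.map_zero, comp_zero]

/-- `i_*(G → G/JG)` is a cokernel of `smulFamily J (i_* G)` -/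
def isColimitPush (J : Ideal A) (G : T.Modules) :
    IsColimit (CokernelCofork.ofπ
      ((Scheme.Modules.pushforward i).map (cokernel.π (Formal.smulFamily J G)))
      (smulFamily_push_π i hi J G)) := by
  haveI := Groth.Agent.Lib.H6xClImmAdj.pushforward_preservesColimits_of_isClosedEmbedding i
    i.isClosedEmbedding
  have hc : IsColimit ((CokernelCofork.ofπ _ (cokernel.condition (Formal.smulFamily J G))).map
      (Scheme.Modules.pushforward i)) :=
    CokernelCofork.mapIsColimit _ (cokernelIsCokernel _) (Scheme.Modules.pushforward i)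
  exact isCokernelEpiComp hc (sigmaComparison (Scheme.Modules.pushforward i) (fun _ : J => G))
    (smulFamily_push i hi J G)

variable {M : X.Modules} {G : T.Modules} (φ : M ≅ (Scheme.Modules.pushforward i).obj G)

include hi in
theorem smulFamily_φ_π (J : Ideal A) :
    Formal.smulFamily J M ≫ φ.hom ≫
      (Scheme.Modules.pushforward i).map (cokernel.π (Formal.smulFamily J G)) = 0 := by
  rw [← Category.assoc, ← smulFamily_natural, Category.assoc, smulFamily_push_π i hi, comp_zero]

/-- `M → i_* G → i_*(G/JG)` is a cokernel of `smulFamily J M` -/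
def isColimitφ (J : Ideal A) :
    IsColimit (CokernelCofork.ofπ
      (φ.hom ≫ (Scheme.Modules.pushforward i).map (cokernel.π (Formal.smulFamily J G)))
      (smulFamily_φ_π i hi φ J)) :=
  IsCokernel.ofIso _ (isColimitPush i hi J G) _
    (Limits.Sigma.mapIso (fun _ : J => φ.symm)) φ.symm (Iso.refl _)
    (smulFamily_natural J φ.inv)
    (by
      change φ.inv ≫ φ.hom ≫ _ = _ ≫ 𝟙 _
      rw [Iso.inv_hom_id_assoc, Category.comp_id]
      rfl)

/-- `M / Iⁿ M ≅ i_*(G / Iⁿ G)` -/
def cIso (n : ℕ) :
    Formal.modPow I n M ≅ (Scheme.Modules.pushforward i).obj (Formal.modPow I n G) :=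
  IsColimit.coconePointUniqueUpToIso (cokernelIsCokernel (Formal.smulFamily (I ^ n) M))
    (isColimitφ i hi φ (I ^ n))

@[reassoc]
theorem π_cIso (n : ℕ) :
    Formal.modPowπ I n M ≫ (cIso I i hi φ n).hom =
      φ.hom ≫ (Scheme.Modules.pushforward i).map (Formal.modPowπ I n G) :=
  IsColimit.comp_coconePointUniqueUpToIso_hom
    (cokernelIsCokernel (Formal.smulFamily (I ^ n) M)) (isColimitφ i hi φ (I ^ n))
    WalkingParallelPair.one

theorem trans_cIso (n : ℕ) :
    Formal.modPowTrans I n M ≫ (cIso I i hi φ n).hom =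
      (cIso I i hi φ (n + 1)).hom ≫ (Scheme.Modules.pushforward i).map (Formal.modPowTrans I n G) := by
  haveI : Epi (Formal.modPowπ I (n + 1) M) := inferInstanceAs (Epi (cokernel.π _))
  rw [← cancel_epi (Formal.modPowπ I (n + 1) M), ← Category.assoc, Formal.modPowπ_trans,
    π_cIso, π_cIso_assoc, ← Functor.map_comp, Formal.modPowπ_trans]

end CIso

section Edge

variable {X T : Scheme.{u}} (i : T ⟶ X) [IsClosedImmersion i] (p : ℕ)

/-- the Leray edge map `H^p(X, i_* G) → H^p(T, G)` -/
def edge (G : T.Modules) : Coh.HH X ((Scheme.Modules.pushforward i).obj G) p →+ Coh.HH T G p :=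
  Groth.Agent.Lib.R2H3.PushEdge.edgeAb i.base (Coh.toAb G) p

theorem edge_natural {G G' : T.Modules} (ψ : G ⟶ G')
    (x : Coh.HH X ((Scheme.Modules.pushforward i).obj G) p) :
    edge i p G' (Hm ((Scheme.Modules.pushforward i).map ψ) p x) = Hm ψ p (edge i p G x) :=
  Groth.Agent.Lib.R2H3.PushEdge.edgeAb_naturality i.base (abMap ψ) p x

theorem edge_bijective (G : T.Modules) [G.IsQuasicoherent] :
    Function.Bijective (edge i p G) := by
  haveI := Groth.Agent.Lib.R2H3.RpushRestrict.hasInjectiveResolutions_modules T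
  have h := Groth.Agent.Lib.R2H3.PushEdge.pushEdge_bijective i G (fun q hq => by
    obtain ⟨q, rfl⟩ : ∃ k, q = k + 1 := ⟨q - 1, by omega⟩
    exact Groth.Agent.Lib.R2H3.RpushAffVanish.isZero_Rpush_of_isAffineHom i G q) p
  have heq : ⇑(CohPull.pushEdge i G p) = ⇑(edge i p G) :=
    funext (Groth.Agent.Lib.R2H3.PushEdge.pushEdge_eq_edgeAb i G p)
  rw [← heq]
  exact h

end Edge

section EdgeLin

variable {A : Type u} [CommRing A] {X T : Scheme.{u}}
  [X.Over (Spec (CommRingCat.of A))] [T.Over (Spec (CommRingCat.of A))]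
  (i : T ⟶ X) [IsClosedImmersion i]
  (hi : i ≫ (X ↘ Spec (CommRingCat.of A)) = T ↘ Spec (CommRingCat.of A)) (p : ℕ)

include hi in
theorem edge_smul (G : T.Modules) (a : A)
    (x : Coh.HH X ((Scheme.Modules.pushforward i).obj G) p) :
    edge i p G (a • x) = a • edge i p G x := by
  rw [← Hm_smulMod, ← Hm_smulMod, ← push_smulMod i hi, edge_natural]

end EdgeLin

end Groth.Agent.Lib.R2H2.PushModPow
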