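import Mathlib
import Groth.Prelude.Def_Formal2
import Groth.Agent.Lib.R2H2PushModPow
import Groth.Agent.Lib.R2H2NilFilt
import Groth.Agent.Lib.Helper1ProperOver
import Groth.Agent.Lib.Helper23Support
import Groth.Agent.S0786

/-!
# Formal functions for coherent modules with proper support (helper2, round 2)

* `FormalLimTr.limEquiv`, `FormalLimTr.bijective_transport` : transport of inverse limits along
  isomorphisms of towers.
* `exists_closed_model` : a coherent module on a Noetherian `A`-scheme of finite type with support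
  proper over `A` is `i_* G` for a closed immersion `i : T ⟶ X` with `T` proper over `A`.
* `toHHlim_bijective_of_proper_support` (= S4460), `adicCompletion_equiv_of_proper_support`
  (= S4478).
-/

set_option autoImplicit false
set_option linter.unusedSectionVars false
universe u
open CategoryTheory CategoryTheory.Limits AlgebraicGeometry TopologicalSpace Opposite

noncomputable section

namespace Groth.Agent.Lib.R2H2.FormalLimTr

variable {L L' : ℕ → Type*} [∀ n, AddCommGroup (L n)] [∀ n, AddCommGroup (L' n)]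
  (t : ∀ n, L (n + 1) →+ L n) (t' : ∀ n, L' (n + 1) →+ L' n)
  (S : AddSubgroup (∀ n, L n)) (hS : ∀ y, y ∈ S ↔ ∀ n, t n (y (n + 1)) = y n)
  (S' : AddSubgroup (∀ n, L' n)) (hS' : ∀ y, y ∈ S' ↔ ∀ n, t' n (y (n + 1)) = y n)
  (eL : ∀ n, L n ≃+ L' n) (ht : ∀ n y, eL n (t n y) = t' n (eL (n + 1) y))

/-- isomorphic towers have isomorphic limits -/
def limEquiv : S ≃+ S' where
  toFun y := ⟨fun n => eL n (y.1 n), (hS' _).2 fun n => by rw [← ht, (hS _).1 y.2 n]⟩
  invFun y := ⟨fun n => (eL n).symm (y.1 n), (hS _).2 fun n => by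
    apply (eL n).injective
    rw [ht, AddEquiv.apply_symm_apply, AddEquiv.apply_symm_apply, (hS' _).1 y.2 n]⟩
  left_inv y := Subtype.ext (funext fun n => (eL n).symm_apply_apply _)
  right_inv y := Subtype.ext (funext fun n => (eL n).apply_symm_apply _)
  map_add' y z := Subtype.ext (funext fun n => map_add (eL n) _ _)

theorem limEquiv_apply (y : S) (n : ℕ) :
    (limEquiv t t' S hS S' hS' eL ht y).1 n = eL n (y.1 n) := rfl

include hS hS' ht in
theorem bijective_transport {H H' : Type*} [AddCommGroup H] [AddCommGroup H'] (e : H ≃+ H')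
    (q : ∀ n, H →+ L n) (q' : ∀ n, H' →+ L' n) (hq : ∀ n x, eL n (q n x) = q' n (e x))
    (f : H →+ S) (hf : ∀ x n, (f x).1 n = q n x) (f' : H' →+ S')
    (hf' : ∀ x n, (f' x).1 n = q' n x) (hbij : Function.Bijective f') :
    Function.Bijective f := by
  have h1 : ∀ x, limEquiv t t' S hS S' hS' eL ht (f x) = f' (e x) := by
    intro x
    apply Subtype.ext
    funext n
    rw [limEquiv_apply, hf, hf', hq]
  have h2 : (f : H → S) = (limEquiv t t' S hS S' hS' eL ht).symm ∘ f' ∘ e := by
    funext x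
    rw [Function.comp_apply, Function.comp_apply, ← h1, AddEquiv.symm_apply_apply]
  rw [h2]
  exact (limEquiv t t' S hS S' hS' eL ht).symm.bijective.comp (hbij.comp e.bijective)

end Groth.Agent.Lib.R2H2.FormalLimTr

namespace Groth.Agent.Lib.R2H2.ProperSupp

open Groth.Agent.Lib.R2H2.ReesCoh Groth.Agent.Lib.R2H2.HHLin Groth.Agent.Lib.R2H2.ReesAR
  Groth.Agent.Lib.R2H2.FormalFn Groth.Agent.Lib.R2H2.PushModPow

section Model

variable {A : Type u} [CommRing A] [IsNoetherianRing A] (X : Scheme.{u})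
  [X.Over (Spec (CommRingCat.of A))]
  [LocallyOfFiniteType (X ↘ Spec (CommRingCat.of A))] [QuasiCompact (X ↘ Spec (CommRingCat.of A))]

include A in
theorem isNoetherian_of_finiteType : IsNoetherian X := by
  haveI : IsLocallyNoetherian X :=
    LocallyOfFiniteType.isLocallyNoetherian (X ↘ Spec (CommRingCat.of A))
  haveI : CompactSpace X :=
    QuasiCompact.compactSpace_of_compactSpace (X ↘ Spec (CommRingCat.of A))
  exact { }

theorem exists_closed_model (M : X.Modules) (hM : Coh.IsCoh M)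
    (hs : ClSub.IsProperOver (X ↘ Spec (CommRingCat.of A)) (CohB1.support M)) :
    ∃ (T : Scheme.{u}) (i : T ⟶ X) (_ : IsClosedImmersion i)
      (_ : IsProper (i ≫ (X ↘ Spec (CommRingCat.of A)))) (G : T.Modules),
      Coh.IsCoh G ∧ Nonempty (M ≅ (Scheme.Modules.pushforward i).obj G) := by
  haveI : IsNoetherian X := isNoetherian_of_finiteType (A := A) X
  obtain ⟨hcl, -⟩ := id hs
  set J : X.IdealSheafData := Scheme.IdealSheafData.vanishingIdeal ⟨CohB1.support M, hcl⟩ with hJ
  have hJs : (J.support : Set X) = CohB1.support M := by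
    rw [hJ, Scheme.IdealSheafData.coe_support_vanishingIdeal]
    rfl
  have hvan : ∀ W : X.Opens, Disjoint (W : Set X) (J.support : Set X) →
      Subsingleton Γ(M, W) := by
    intro W hW
    rw [hJs] at hW
    refine ⟨fun s s' => ?_⟩
    have h0 : ∀ r : Γ(M, W), r = 0 := fun r =>
      Groth.Agent.Lib.Helper23.Support.eq_zero_of_disjoint_support M W
        (fun x hx hx' => Set.disjoint_left.1 hW hx hx') r
    rw [h0 s, h0 s']
  obtain ⟨k, hk⟩ := Groth.Agent.Lib.R2H2.NilFilt.exists_killed_pow J M hM hvan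
  have hk' : ClSub.KilledByIdeal (J ^ (k + 1)) M := by
    intro U a ha m
    refine hk U a ?_ m
    have hle : J ^ (k + 1) ≤ J ^ k := by
      rw [pow_succ]
      exact mul_le_of_le_one_right' le_top
    exact hle U ha
  set K : X.IdealSheafData := J ^ (k + 1) with hK
  have hker : K.subschemeι.ker = K := Scheme.IdealSheafData.ker_subschemeι K
  have hrange : Set.range K.subschemeι = CohB1.support M := by
    rw [Scheme.IdealSheafData.range_subschemeι, hK,
      Scheme.IdealSheafData.support_pow J (k + 1) (Nat.succ_ne_zero k), hJs]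
  obtain ⟨G, hG, ⟨e⟩⟩ := Groth.Agent.S0786.result K.subschemeι M hM (by rw [hker]; exact hk')
  have hprop : IsProper (K.subschemeι ≫ (X ↘ Spec (CommRingCat.of A))) :=
    (Groth.Agent.Lib.Helper1.isProperOver_iff_isProper_comp (X ↘ Spec (CommRingCat.of A))
      K.subschemeι (CohB1.support M) hrange).1 hs
  exact ⟨K.subscheme, K.subschemeι, inferInstance, hprop, G, hG, ⟨e.symm⟩⟩

end Model

section Transport

theorem Hm_iso_bijective {Y : Scheme.{u}} {M N : Y.Modules} (φ : M ≅ N) (p : ℕ) :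
    Function.Bijective (Hm φ.hom p) := by
  refine Function.bijective_iff_has_inverse.2 ⟨Hm φ.inv p, fun x => ?_, fun x => ?_⟩
  · rw [← Hm_comp, Iso.hom_inv_id, Hm_id]
  · rw [← Hm_comp, Iso.inv_hom_id, Hm_id]

variable {A : Type u} [CommRing A] (I : Ideal A) {X T : Scheme.{u}}
  [X.Over (Spec (CommRingCat.of A))] [T.Over (Spec (CommRingCat.of A))]
  (i : T ⟶ X) [IsClosedImmersion i]
  (hi : i ≫ (X ↘ Spec (CommRingCat.of A)) = T ↘ Spec (CommRingCat.of A))
  {M : X.Modules} {G : T.Modules} [G.IsQuasicoherent]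
  (φ : M ≅ (Scheme.Modules.pushforward i).obj G) (p : ℕ)

/-- `H^p(X, M) ≃+ H^p(T, G)` for `M ≅ i_* G` -/
def eH : Coh.HH X M p ≃+ Coh.HH T G p :=
  AddEquiv.ofBijective ((edge i p G).comp (Hm φ.hom p))
    ((edge_bijective i p G).comp (Hm_iso_bijective φ p))

theorem eH_apply (x : Coh.HH X M p) : eH i φ p x = edge i p G (Hm φ.hom p x) := rfl

include hi in
theorem eH_smul (a : A) (x : Coh.HH X M p) : eH i φ p (a • x) = a • eH i φ p x := by
  rw [eH_apply, eH_apply, Hm_smul, edge_smul i hi]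

/-- `H^p(X, M/I^(n+1)M) ≃+ H^p(T, G/I^(n+1)G)` -/
def eLn (n : ℕ) : Formal.HHmodPow I M p n ≃+ Formal.HHmodPow I G p n :=
  haveI : (Formal.modPow I (n + 1) G).IsQuasicoherent := isQuasicoherent_modPow I G (n + 1)
  AddEquiv.ofBijective ((edge i p (Formal.modPow I (n + 1) G)).comp
      (Hm (cIso I i hi φ (n + 1)).hom p))
    ((edge_bijective i p (Formal.modPow I (n + 1) G)).comp
      (Hm_iso_bijective (cIso I i hi φ (n + 1)) p))

theorem eLn_apply (n : ℕ) (y : Formal.HHmodPow I M p n) :
    eLn I i hi φ p n y =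
      edge i p (Formal.modPow I (n + 1) G) (Hm (cIso I i hi φ (n + 1)).hom p y) := rfl

theorem eLn_q (n : ℕ) (x : Coh.HH X M p) :
    eLn I i hi φ p n (Formal.toHHmodPow I M p n x) =
      Formal.toHHmodPow I G p n (eH i φ p x) := by
  rw [eLn_apply, eH_apply, toHHmodPow_eq, toHHmodPow_eq, ← Hm_comp, π_cIso, Hm_comp,
    edge_natural]

theorem eLn_t (n : ℕ) (y : Formal.HHmodPow I M p (n + 1)) :
    eLn I i hi φ p n (Formal.HHmodPowTrans I M p n y) =
      Formal.HHmodPowTrans I G p n (eLn I i hi φ p (n + 1) y) := by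
  rw [eLn_apply, eLn_apply]
  change edge i p _ (Hm _ p (Hm (Formal.modPowTrans I (n + 1) M) p y)) =
    Hm (Formal.modPowTrans I (n + 1) G) p _
  rw [← Hm_comp, trans_cIso, Hm_comp, edge_natural]

/-- `lim H^p(X, M/I^(n+1)M) ≃+ lim H^p(T, G/I^(n+1)G)` -/
def eLim : Formal.HHlim I M p ≃+ Formal.HHlim I G p :=
  FormalLimTr.limEquiv (fun n => Formal.HHmodPowTrans I M p n)
    (fun n => Formal.HHmodPowTrans I G p n) (Formal.HHlim I M p) (fun _ => Iff.rfl)
    (Formal.HHlim I G p) (fun _ => Iff.rfl) (eLn I i hi φ p) (eLn_t I i hi φ p)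

include i hi φ in
theorem toHHlim_bijective_of_push (h : Function.Bijective (Formal.toHHlim I G p)) :
    Function.Bijective (Formal.toHHlim I M p) :=
  FormalLimTr.bijective_transport (fun n => Formal.HHmodPowTrans I M p n)
    (fun n => Formal.HHmodPowTrans I G p n) (Formal.HHlim I M p) (fun _ => Iff.rfl)
    (Formal.HHlim I G p) (fun _ => Iff.rfl) (eLn I i hi φ p) (eLn_t I i hi φ p)
    (eH i φ p) (fun n => Formal.toHHmodPow I M p n) (fun n => Formal.toHHmodPow I G p n)
    (eLn_q I i hi φ p) (Formal.toHHlim I M p) (fun _ _ => rfl) (Formal.toHHlim I G p)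
    (fun _ _ => rfl) h

/-- the linear version of `eH` -/
def eHlin : Coh.HH X M p ≃ₗ[A] Coh.HH T G p :=
  { eH i φ p with
    map_smul' := fun a x => eH_smul i hi φ p a x }

include i hi φ in
theorem adicCompletion_equiv_of_push
    (h : Nonempty (AdicCompletion I (Coh.HH T G p) ≃+ Formal.HHlim I G p)) :
    Nonempty (AdicCompletion I (Coh.HH X M p) ≃+ Formal.HHlim I M p) := by
  obtain ⟨ε⟩ := h
  exact ⟨((AdicCompletion.congr I (eHlin i hi φ p)).toAddEquiv.trans ε).trans
    (eLim I i hi φ p).symm⟩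

end Transport

section Main

variable {A : Type u} [CommRing A] [IsNoetherianRing A] (I : Ideal A) (X : Scheme.{u})
  [X.Over (Spec (CommRingCat.of A))]
  [LocallyOfFiniteType (X ↘ Spec (CommRingCat.of A))] [QuasiCompact (X ↘ Spec (CommRingCat.of A))]
  (M : X.Modules) (hM : Coh.IsCoh M)
  (hs : ClSub.IsProperOver (X ↘ Spec (CommRingCat.of A)) (CohB1.support M)) (p : ℕ)

include hM hs in
/-- `S4460` -/
theorem toHHlim_bijective_of_proper_support [IsAdicComplete I A] :
    Function.Bijective (Formal.toHHlim I M p) := by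
  obtain ⟨T, i, hcl, hprop, G, hG, ⟨φ⟩⟩ := exists_closed_model X M hM hs
  letI : T.Over (Spec (CommRingCat.of A)) := ⟨i ≫ (X ↘ Spec (CommRingCat.of A))⟩
  have hi : i ≫ (X ↘ Spec (CommRingCat.of A)) = T ↘ Spec (CommRingCat.of A) := rfl
  haveI : IsProper (T ↘ Spec (CommRingCat.of A)) := hprop
  haveI : G.IsQuasicoherent := hG.1
  exact toHHlim_bijective_of_push I i hi φ p
    (Groth.Agent.Lib.R2H2.FormalFn2.toHHlim_bijective I T G p hG)

include hM hs in
/-- `S4478` -/
theorem adicCompletion_equiv_of_proper_support :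
    Nonempty (AdicCompletion I (Coh.HH X M p) ≃+ Formal.HHlim I M p) := by
  obtain ⟨T, i, hcl, hprop, G, hG, ⟨φ⟩⟩ := exists_closed_model X M hM hs
  letI : T.Over (Spec (CommRingCat.of A)) := ⟨i ≫ (X ↘ Spec (CommRingCat.of A))⟩
  have hi : i ≫ (X ↘ Spec (CommRingCat.of A)) = T ↘ Spec (CommRingCat.of A) := rfl
  haveI : IsProper (T ↘ Spec (CommRingCat.of A)) := hprop
  haveI : G.IsQuasicoherent := hG.1
  exact adicCompletion_equiv_of_push I i hi φ p
    (Groth.Agent.Lib.R2H2.FormalFn2.adicCompletion_equiv I T G p hG)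

end Main

end Groth.Agent.Lib.R2H2.ProperSupp
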