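import Groth.Agent.Lib.R2H2ProperCoh
set_option backward.isDefEq.respectTransparency.types false
/-!
# Coherence of higher direct images under proper morphisms (helper2, round 2)

* `isCoh_Rpush_of_isAffine` : affine Noetherian base (dévissage + Chow's lemma);
* `isCoh_Rpush` : `R^q f_* M` is coherent for `f` proper, the base locally Noetherian and `M`
  coherent (EGA III 3.2.1).
-/

set_option autoImplicit false
set_option linter.style.haveILetI false
universe u

open CategoryTheory CategoryTheory.Limits AlgebraicGeometry TopologicalSpace Opposite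

namespace Groth.Agent.Lib.R2H2.ProperCoh2

open Groth.Agent.Lib.R2H2.ChowLocal Groth.Agent.Lib.R2H2.ProperFin Groth.Agent.Lib.R2H2.StalkPow
  Groth.Agent.Lib.R2H2.AffPushLin Groth.Agent.Lib.R2H2.ProperCoh

variable {X S : Scheme.{u}} (f : X ⟶ S) [HasInjectiveResolutions X.Modules]

/-- **coherence of the higher direct images under a proper morphism, affine Noetherian base** -/
theorem isCoh_Rpush_of_isAffine [IsProper f] [IsAffine S] [IsLocallyNoetherian S]
    (M : X.Modules) (hM : Coh.IsCoh M) (q : ℕ) : Coh.IsCoh ((Coh.Rpush f q).obj M) := by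
  haveI : IsNoetherian S := {}
  haveI : IsLocallyNoetherian X := LocallyOfFiniteType.isLocallyNoetherian f
  haveI : CompactSpace X := QuasiCompact.compactSpace_of_compactSpace f
  haveI : IsNoetherian X := {}
  obtain ⟨ιX, hfinX, VX, hcovX, hVaX, hVX⟩ := exists_affine_cover_of_isSeparated f
  refine Groth.Agent.Lib.R2H2.DevC.devissage
    (fun F : X.Modules => ∀ q, Coh.IsCoh ((Coh.Rpush f q).obj F)) ?_ Set.univ isClosed_univ
    (fun s => 1 ≤ s) ?_ ?_ ?_ M hM (Set.subset_univ _) q
  · intro F hF q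
    exact Groth.Agent.Lib.R2H2.KcohLoc.isCoh_of_isZero ((Coh.Rpush f q).map_isZero hF)
  · intro T hT c₁ c₂ c₃ _
    exact coh_two_of_three f T hT c₁.1 c₂.1 c₃.1
  · intro F s cF hs hP q
    obtain ⟨s', rfl⟩ : ∃ s', s = s' + 1 := ⟨s - 1, by omega⟩
    haveI : F.IsQuasicoherent := cF.1
    haveI : (pow F (s' + 1)).IsQuasicoherent := (isCoh_pow F cF (s' + 1)).1
    haveI Q1 := Groth.Agent.Lib.R2H3.RpushQCohGen.isQuasicoherent_Rpush_of_qcqs f F q
    haveI Q2 := Groth.Agent.Lib.R2H3.RpushQCohGen.isQuasicoherent_Rpush_of_qcqs f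
      (pow F (s' + 1)) q
    haveI : SheafOfModules.IsFiniteType (R := S.ringCatSheaf)
      ((Coh.Rpush f q).obj (pow F (s' + 1))) := (hP q).2
    haveI : IsSplitEpi ((Coh.Rpush f q).map (powπ F s')) :=
      IsSplitEpi.mk' ⟨(Coh.Rpush f q).map (powι F s'), by
        rw [← Functor.map_comp, powι_π, CategoryTheory.Functor.map_id]⟩
    exact ⟨Q1, Groth.Agent.Lib.Helper23.FinType.isFiniteType_of_epi
      ((Coh.Rpush f q).map (powπ F s'))⟩
  · intro Z hZ hirr _ y hy
    obtain ⟨W, i, hci, hint, hrange, hgenpt⟩ :=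
      Groth.Agent.Lib.R2H2.DevD.exists_integral_closed Z hZ hirr y hy
    subst hgenpt
    haveI : IsLocallyNoetherian W := LocallyOfFiniteType.isLocallyNoetherian (i ≫ f)
    obtain ⟨n, W', π, j, hj, hcomm, hπ, hsurj, U, hU, hiso⟩ := Groth.Agent.S0025.result (i ≫ f)
    obtain ⟨m₀, hm₀⟩ := exists_good_module' n (i ≫ f) π j hcomm
    obtain ⟨cG, cGS, vG⟩ := hm₀ m₀ le_rfl
    have cG' := Groth.Agent.Lib.R2H2.ClosedPn.isCoh_push i _ cG
    refine ⟨_, cG', fun p => ?_, ?_, ?_⟩
    · cases p with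
      | zero =>
        let e0 := (Functor.rightDerivedZeroIsoSelf (Coh.push f)).app
          ((Scheme.Modules.pushforward i).obj
            ((Scheme.Modules.pushforward π).obj (L n (jS n j) m₀)))
        let e1 := (Scheme.Modules.pushforwardComp i f).app
          ((Scheme.Modules.pushforward π).obj (L n (jS n j) m₀))
        let e2 := (Scheme.Modules.pushforwardComp π (i ≫ f)).app (L n (jS n j) m₀)
        exact Groth.Agent.Lib.R2H2.PdSheaf.isCoh_of_iso (e0 ≪≫ e1 ≪≫ e2).symm cGS
      | succ p =>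
        haveI := cG'.1
        obtain ⟨E, -⟩ := exists_push_natural i VX hcovX hVX _ cG.1 (p + 1)
        haveI := vG p
        exact Groth.Agent.Lib.R2H2.KcohLoc.isCoh_of_isZero
          (isZero_Rpush_of_subsingleton_HH f _ (p + 1) E.symm.toEquiv.subsingleton)
    · exact (Groth.Agent.Lib.R2H2.DevE.support_push_subset i _).trans hrange.le
    · intro N _ _ _ hkN
      haveI := Groth.Agent.Lib.R2H2.DevA.finite_stalk _ cG' (i (genericPoint W))
      exact Groth.Agent.Lib.R2H2.ResField.exists_equiv_pow N _ hkN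
        (fun a ha g => Groth.Agent.Lib.R2H2.DevI.stalk_push_smul_eq_zero i _ a ha g)
        (Groth.Agent.Lib.R2H2.DevE.nontrivial_stalk_push i i.isClosedEmbedding.isEmbedding _
          (genericPoint W) (nontrivial_stalk_push_L n π (jS n j) hsurj.surj U hU m₀))

/-- **coherence of the higher direct images under a proper morphism to a locally Noetherian
scheme** (EGA III 3.2.1) -/
theorem isCoh_Rpush [IsProper f] [IsLocallyNoetherian S] (M : X.Modules) (hM : Coh.IsCoh M)
    (q : ℕ) : Coh.IsCoh ((Coh.Rpush f q).obj M) := by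
  haveI : M.IsQuasicoherent := hM.1
  haveI : SheafOfModules.IsFiniteType (R := X.ringCatSheaf) M := hM.2
  haveI Q := Groth.Agent.Lib.R2H3.RpushQCohGen.isQuasicoherent_Rpush_of_qcqs f M q
  refine ⟨Q, ?_⟩
  refine Groth.Agent.Lib.Helper23.FinType.isFiniteType_of_open_cover _
    (fun V : S.affineOpens => V.1) (iSup_affineOpens_eq_top S) (fun V => ?_)
  haveI := Groth.Agent.Lib.R2H3.RpushRestrict.hasInjectiveResolutions_modules
    ((f ⁻¹ᵁ V.1 : X.Opens) : Scheme.{u})
  obtain ⟨e⟩ := Groth.Agent.Lib.R2H3.RpushRestrict.nonempty_Rpush_restrict_iso f V.1 M q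
  haveI : IsAffine (V.1 : Scheme.{u}) := V.2
  haveI : IsLocallyNoetherian (V.1 : Scheme.{u}) := isLocallyNoetherian_of_isOpenImmersion V.1.ι
  haveI : (M.restrict (f ⁻¹ᵁ V.1).ι).IsQuasicoherent :=
    Scheme.Modules.isQuasicoherent_restrictFunctor (f ⁻¹ᵁ V.1).ι M
  have cM : Coh.IsCoh (M.restrict (f ⁻¹ᵁ V.1).ι) :=
    ⟨inferInstance, Groth.Agent.Lib.Helper23.FinType.isFiniteType_restrict (f ⁻¹ᵁ V.1).ι M⟩
  have h := isCoh_Rpush_of_isAffine (f ∣_ V.1) _ cM q
  haveI := h.2
  exact Groth.Agent.Lib.Helper23.FinType.isFiniteType_of_iso e.symm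


end Groth.Agent.Lib.R2H2.ProperCoh2
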