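import Groth.Agent.Lib.R2H3LocCohQCoh
import Groth.Agent.Lib.Helper21DerLES2
import Groth.Agent.Lib.Helper23QCohExt

/-!
# Local cohomology sheaves with supports in a locally closed subset: quasi-coherence (helper3, round 2)

For open immersions `k : U' ⟶ U`, `j : U ⟶ Y` (so that `Z = U ∖ U'` is locally closed in `Y`) the functor
`Hf j k = j^* ⋙ Γ_Z ⋙ j_*` on `O_Y`-modules sits in a sequence `Hf ⟶ Af ⟶ Bf` (with `Af = j^* ⋙ j_*`,
`Bf = j^* ⋙ k^* ⋙ k_* ⋙ j_*`) which is short exact on injectives; if `j` and `k ≫ j` are quasi-compact,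
the right derived functors of `Hf` take quasi-coherent modules to quasi-coherent modules
(`isQuasicoherent_rightDerived_Hf`).
-/

set_option autoImplicit false
set_option linter.style.haveILetI false
set_option linter.unusedSectionVars false
set_option linter.unusedVariables false
universe u
open CategoryTheory CategoryTheory.Limits TopologicalSpace AlgebraicGeometry Opposite

namespace Groth.Agent.Lib.R2H3.LocCohLC

open Groth.Agent.Lib.R2H3.RpushRestrict Groth.Agent.Lib.R2H3.RpushQCohSep
  Groth.Agent.Lib.Helper23.QCohLocal Groth.Agent.Lib.R2H3.LocCohQCoh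

section Five

variable {Y : Scheme.{u}}

/-- left end: `0 ⟶ X ⟶ B₁ ⟶ B₂` exact with `B₁`, `B₂` quasi-coherent. -/
theorem isQuasicoherent_of_left {X B₁ B₂ : Y.Modules} (p : X ⟶ B₁) (q : B₁ ⟶ B₂) (w : p ≫ q = 0)
    (hm : Mono p) (he : (ShortComplex.mk p q w).Exact)
    [B₁.IsQuasicoherent] [B₂.IsQuasicoherent] : X.IsQuasicoherent := by
  have hk : IsLimit (KernelFork.ofι p w) := he.fIsKernel
  let e : X ≅ kernel q := IsLimit.conePointUniqueUpToIso hk (limit.isLimit _)
  exact (SheafOfModules.isQuasicoherent Y.ringCatSheaf).prop_of_iso e.symm (isQuasicoherent_kernel q)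

/-- five-term: `A₁ ⟶ A₂ ⟶ X ⟶ B₁ ⟶ B₂` exact with the outer four quasi-coherent. -/
theorem isQuasicoherent_of_five {A₁ A₂ X B₁ B₂ : Y.Modules} (f : A₁ ⟶ A₂) (g : A₂ ⟶ X)
    (p : X ⟶ B₁) (q : B₁ ⟶ B₂) (w₁ : f ≫ g = 0) (w₂ : g ≫ p = 0) (w₃ : p ≫ q = 0)
    (h₁ : (ShortComplex.mk f g w₁).Exact) (h₂ : (ShortComplex.mk g p w₂).Exact)
    (h₃ : (ShortComplex.mk p q w₃).Exact)
    [A₁.IsQuasicoherent] [A₂.IsQuasicoherent] [B₁.IsQuasicoherent] [B₂.IsQuasicoherent] :
    X.IsQuasicoherent := by
  -- `coker f ⟶ X` is mono, `X ⟶ ker q` is epi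
  have hm : Mono (cokernel.desc f g w₁) := (ShortComplex.exact_iff_mono_cokernel_desc _).1 h₁
  have hepi : Epi (kernel.lift q p w₃) := (ShortComplex.exact_iff_epi_kernel_lift _).1 h₃
  have w' : cokernel.desc f g w₁ ≫ kernel.lift q p w₃ = 0 := by
    apply (cancel_epi (cokernel.π f)).1
    apply (cancel_mono (kernel.ι q)).1
    simp [w₂]
  -- exactness in the middle
  let S' : ShortComplex Y.Modules := ShortComplex.mk _ _ w'
  have w'' : cokernel.desc f g w₁ ≫ p = 0 := by
    apply (cancel_epi (cokernel.π f)).1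
    simp [w₂]
  let S'' : ShortComplex Y.Modules := ShortComplex.mk (cokernel.desc f g w₁) p w''
  let φ₁ : ShortComplex.mk g p w₂ ⟶ S'' :=
    { τ₁ := cokernel.π f, τ₂ := 𝟙 _, τ₃ := 𝟙 _ }
  let φ₂ : S' ⟶ S'' :=
    { τ₁ := 𝟙 _, τ₂ := 𝟙 _, τ₃ := kernel.ι q }
  have e1 : S''.Exact := (ShortComplex.exact_iff_of_epi_of_isIso_of_mono φ₁).1 h₂
  have e2 : S'.Exact := (ShortComplex.exact_iff_of_epi_of_isIso_of_mono φ₂).2 e1
  have hS : S'.ShortExact := { exact := e2, mono_f := hm, epi_g := hepi }
  exact isQuasicoherent_of_shortExact S' hS (isQuasicoherent_cokernel f) (isQuasicoherent_kernel q)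

end Five

section Functors

variable {U' U Y : Scheme.{u}} (j : U ⟶ Y) [IsOpenImmersion j] (k : U' ⟶ U) [IsOpenImmersion k]

/-- `j^* ⋙ Γ_Z ⋙ j_*` where `Z = U ∖ U'`. -/
noncomputable abbrev Hf : Y.Modules ⥤ Y.Modules :=
  Scheme.Modules.restrictFunctor j ⋙ DCoh.gammaZ k ⋙ Scheme.Modules.pushforward j

/-- `j^* ⋙ j_*`. -/
noncomputable abbrev Af : Y.Modules ⥤ Y.Modules :=
  Scheme.Modules.restrictFunctor j ⋙ Scheme.Modules.pushforward j

/-- `j^* ⋙ k^* ⋙ k_* ⋙ j_*`. -/
noncomputable abbrev Bf : Y.Modules ⥤ Y.Modules :=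
  Scheme.Modules.restrictFunctor j ⋙ TT k ⋙ Scheme.Modules.pushforward j

noncomputable def α : Hf j k ⟶ Af j where
  app M := (Scheme.Modules.pushforward j).map ((gι k).app ((Scheme.Modules.restrictFunctor j).obj M))
  naturality M N φ := by
    dsimp only [Functor.comp_map]
    rw [← Functor.map_comp, ← Functor.map_comp]
    congr 1
    exact (gι k).naturality _

noncomputable def β : Af j ⟶ Bf j k where
  app M := (Scheme.Modules.pushforward j).map ((gβ k).app ((Scheme.Modules.restrictFunctor j).obj M))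
  naturality M N φ := by
    dsimp only [Functor.comp_map]
    rw [← Functor.map_comp, ← Functor.map_comp]
    congr 1
    exact (gβ k).naturality _

theorem w : α j k ≫ β j k = 0 := by
  ext M : 2
  change (Scheme.Modules.pushforward j).map _ ≫ (Scheme.Modules.pushforward j).map _ = 0
  rw [← Functor.map_comp]
  have : (gι k).app ((Scheme.Modules.restrictFunctor j).obj M) ≫
      (gβ k).app ((Scheme.Modules.restrictFunctor j).obj M) = 0 := by
    rw [← NatTrans.comp_app, gw]; rfl
  rw [this, Functor.map_zero]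

theorem epi_push_unit_of_isFlasque (Q : U.Modules) (hQ : TopCat.Sheaf.IsFlasque (Coh.toAb Q)) :
    Epi ((Scheme.Modules.pushforward j).map ((Scheme.Modules.restrictAdjunction k).unit.app Q)) := by
  apply epi_of_surjective_app
  intro V
  change Function.Surjective (((Scheme.Modules.restrictAdjunction k).unit.app Q).app (j ⁻¹ᵁ V))
  rw [Scheme.Modules.restrictAdjunction_unit_app_app]
  have h := hQ.epi (homOfLE (k.image_preimage_le (j ⁻¹ᵁ V))).op
  exact (AddCommGrpCat.epi_iff_surjective _).1 h

theorem hexLC (Q : Y.Modules) (hQ : Injective Q) :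
    (ShortComplex.mk ((α j k).app Q) ((β j k).app Q) (by
      rw [← NatTrans.comp_app, w]; rfl)).ShortExact := by
  have hfl : TopCat.Sheaf.IsFlasque (Coh.toAb (Q.restrict j)) :=
    isFlasque_toAb_restrict j Q (Groth.Agent.Lib.R2H3.ModLocBridge.isFlasque_toAb_of_injective Q)
  let Q' : U.Modules := (Scheme.Modules.restrictFunctor j).obj Q
  let S : ShortComplex U.Modules := ShortComplex.mk ((gι k).app Q') ((gβ k).app Q') (by
    rw [← NatTrans.comp_app, gw]; rfl)
  have hS : S.Exact := ShortComplex.exact_of_f_is_kernel _ (kernelIsKernel _)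
  haveI hm : Mono S.f := by
    change Mono (kernel.ι _)
    infer_instance
  have hS' : (S.map (Scheme.Modules.pushforward j)).Exact :=
    hS.map_of_mono_of_preservesKernel (Scheme.Modules.pushforward j) hm inferInstance
  haveI : Epi (S.map (Scheme.Modules.pushforward j)).g := epi_push_unit_of_isFlasque j k Q' hfl
  haveI : Mono (S.map (Scheme.Modules.pushforward j)).f := by
    change Mono ((Scheme.Modules.pushforward j).map S.f)
    infer_instance
  have hS'' : (S.map (Scheme.Modules.pushforward j)).ShortExact := ShortComplex.ShortExact.mk hS'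
  exact hS''

end Functors

section Main

variable {U' U Y : Scheme.{u}} (j : U ⟶ Y) [IsOpenImmersion j] (k : U' ⟶ U) [IsOpenImmersion k]
  [QuasiCompact j] [QuasiCompact (k ≫ j)]

theorem isQuasicoherent_rightDerived_Af [HasInjectiveResolutions Y.Modules]
    (M : Y.Modules) [M.IsQuasicoherent] (q : ℕ) :
    (((Af j).rightDerived q).obj M).IsQuasicoherent := by
  haveI := hasInjectiveResolutions_modules U
  have := Groth.Agent.S0484.result (Opens.grothendieckTopology Y) Y.ringCatSheaf
  have := Groth.Agent.S0484.result (Opens.grothendieckTopology U) U.ringCatSheaf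
  have : EnoughInjectives Y.Modules :=
    inferInstanceAs (EnoughInjectives (SheafOfModules.{u} Y.ringCatSheaf))
  have : EnoughInjectives U.Modules :=
    inferInstanceAs (EnoughInjectives (SheafOfModules.{u} U.ringCatSheaf))
  haveI := restrictFunctor_isRightAdjoint j
  let E := Scheme.Modules.restrictFunctor j
  let G := Scheme.Modules.pushforward j
  haveI : PreservesFiniteLimits E := by infer_instance
  haveI : PreservesFiniteColimits E := by infer_instance
  haveI : E.PreservesHomology := by infer_instance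
  haveI : PreservesFiniteLimits G := by infer_instance
  haveI : (M.restrict j).IsQuasicoherent := Scheme.Modules.isQuasicoherent_restrictFunctor j M
  have hE : ∀ I : Y.Modules, Injective I → ∀ q : ℕ, 0 < q →
      IsZero ((G.rightDerived q).obj (E.obj I)) := by
    intro I hI q hq
    obtain ⟨q, rfl⟩ : ∃ k, q = k + 1 := ⟨q - 1, by omega⟩
    exact Groth.Agent.Lib.Helper21.RelExtSS.isZero_Rpush_of_isFlasque j _
      (isFlasque_toAb_restrict j I
        (Groth.Agent.Lib.R2H3.ModLocBridge.isFlasque_toAb_of_injective I)) q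
  obtain ⟨e3⟩ := Groth.Agent.Lib.Helper21.DerAcyc.nonempty_rightDerived_comp_iso E G hE M q
  have h := isQuasicoherent_Rpush_of_affineDiagonal j (M.restrict j) q
  exact (SheafOfModules.isQuasicoherent Y.ringCatSheaf).prop_of_iso e3.symm h

theorem isQuasicoherent_rightDerived_Bf [HasInjectiveResolutions Y.Modules]
    (M : Y.Modules) [M.IsQuasicoherent] (q : ℕ) :
    (((Bf j k).rightDerived q).obj M).IsQuasicoherent := by
  haveI := hasInjectiveResolutions_modules U'
  have := Groth.Agent.S0484.result (Opens.grothendieckTopology Y) Y.ringCatSheaf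
  have := Groth.Agent.S0484.result (Opens.grothendieckTopology U') U'.ringCatSheaf
  have : EnoughInjectives Y.Modules :=
    inferInstanceAs (EnoughInjectives (SheafOfModules.{u} Y.ringCatSheaf))
  have : EnoughInjectives U'.Modules :=
    inferInstanceAs (EnoughInjectives (SheafOfModules.{u} U'.ringCatSheaf))
  haveI := restrictFunctor_isRightAdjoint j
  haveI := restrictFunctor_isRightAdjoint k
  let E₁ := Scheme.Modules.restrictFunctor j
  let E₂ := Scheme.Modules.restrictFunctor k
  haveI : PreservesFiniteLimits E₁ := by infer_instance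
  haveI : PreservesFiniteColimits E₁ := by infer_instance
  haveI : PreservesFiniteLimits E₂ := by infer_instance
  haveI : PreservesFiniteColimits E₂ := by infer_instance
  let E : Y.Modules ⥤ U'.Modules := E₁ ⋙ E₂
  haveI : PreservesFiniteLimits E := comp_preservesFiniteLimits E₁ E₂
  haveI : PreservesFiniteColimits E := comp_preservesFiniteColimits E₁ E₂
  haveI : E.Additive := by infer_instance
  haveI : E.PreservesHomology := by infer_instance
  let G : U'.Modules ⥤ Y.Modules := Scheme.Modules.pushforward k ⋙ Scheme.Modules.pushforward j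
  let G' : U'.Modules ⥤ Y.Modules := Scheme.Modules.pushforward (k ≫ j)
  let eG : G ≅ G' := Scheme.Modules.pushforwardComp k j
  haveI : PreservesFiniteLimits G := comp_preservesFiniteLimits _ _
  haveI : G.Additive := by infer_instance
  haveI hq1 : (M.restrict j).IsQuasicoherent := Scheme.Modules.isQuasicoherent_restrictFunctor j M
  haveI hq2 : ((M.restrict j).restrict k).IsQuasicoherent :=
    Scheme.Modules.isQuasicoherent_restrictFunctor k _
  have hE : ∀ I : Y.Modules, Injective I → ∀ q : ℕ, 0 < q →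
      IsZero ((G.rightDerived q).obj (E.obj I)) := by
    intro I hI q hq
    obtain ⟨q, rfl⟩ : ∃ k, q = k + 1 := ⟨q - 1, by omega⟩
    refine IsZero.of_iso ?_
      ((Groth.Agent.Lib.Helper21.DerPost.natIsoRightDerived eG (q + 1)).app (E.obj I))
    exact Groth.Agent.Lib.Helper21.RelExtSS.isZero_Rpush_of_isFlasque (k ≫ j) _
      (isFlasque_toAb_restrict k _ (isFlasque_toAb_restrict j I
        (Groth.Agent.Lib.R2H3.ModLocBridge.isFlasque_toAb_of_injective I))) q
  obtain ⟨e3⟩ := Groth.Agent.Lib.Helper21.DerAcyc.nonempty_rightDerived_comp_iso E G hE M q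
  have h := isQuasicoherent_Rpush_of_affineDiagonal (k ≫ j) ((M.restrict j).restrict k) q
  let e4 := (Groth.Agent.Lib.Helper21.DerPost.natIsoRightDerived eG q).app (E.obj M)
  exact (SheafOfModules.isQuasicoherent Y.ringCatSheaf).prop_of_iso (e3 ≪≫ e4).symm h

open Groth.Agent.Lib.Helper23DerLES in
/-- **Quasi-coherence of local cohomology sheaves with supports in a locally closed subset**
(module level). -/
theorem isQuasicoherent_rightDerived_Hf [HasInjectiveResolutions Y.Modules]
    (M : Y.Modules) [M.IsQuasicoherent] (q : ℕ) :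
    (((Hf j k).rightDerived q).obj M).IsQuasicoherent := by
  haveI := restrictFunctor_isRightAdjoint j
  haveI := restrictFunctor_isRightAdjoint k
  haveI : PreservesFiniteLimits (Scheme.Modules.restrictFunctor j) := by infer_instance
  haveI : PreservesFiniteLimits (Scheme.Modules.pushforward j) := by infer_instance
  haveI : PreservesFiniteLimits (DCoh.gammaZ k) := preservesFiniteLimits_gammaZ k
  haveI : PreservesFiniteLimits (DCoh.gammaZ k ⋙ Scheme.Modules.pushforward j) :=
    comp_preservesFiniteLimits _ _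
  haveI : PreservesFiniteLimits (Hf j k) := comp_preservesFiniteLimits _ _
  haveI : PreservesFiniteLimits (Af j) := comp_preservesFiniteLimits _ _
  haveI hA := fun n => isQuasicoherent_rightDerived_Af j M n
  haveI hB := fun n => isQuasicoherent_rightDerived_Bf j k M n
  have hmono : Mono ((α j k).app M) := by
    change Mono ((Scheme.Modules.pushforward j).map (kernel.ι _))
    infer_instance
  obtain ⟨hm0, hex2, -⟩ := Groth.Agent.Lib.Helper21.DerLES2.les (α j k) (β j k) (w j k)
    (hexLC j k) M hmono
  rcases q with _ | n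
  · obtain ⟨w0, h0⟩ := hex2 0
    exact isQuasicoherent_of_left _ _ w0 hm0 h0
  · obtain ⟨w3, h3⟩ := Groth.Agent.Lib.Helper21.DerLES2.exact₃ (α j k) (β j k) (w j k)
      (hexLC j k) n M
    obtain ⟨w1, h1⟩ := Groth.Agent.Lib.Helper21.DerLES2.exact₁ (α j k) (β j k) (w j k)
      (hexLC j k) n M
    obtain ⟨w2, h2⟩ := hex2 (n + 1)
    exact isQuasicoherent_of_five _ _ _ _ w3 w1 w2 h3 h1 h2

end Main

end Groth.Agent.Lib.R2H3.LocCohLC
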