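import Mathlib
import Groth.Agent.Lib.H6xPropSuppD
import Groth.Agent.Lib.H6xRpushTriC
import Groth.Agent.Lib.H6xPerfVanC
import Groth.Agent.Lib.R2H3LocCohLC
set_option backward.isDefEq.respectTransparency.types false

/-!
# Dévissage for `Rf_*` along canonical truncations; coherent cohomology in triangles (helper6)
-/

set_option autoImplicit false
set_option linter.style.haveILetI false
set_option linter.unusedVariables false
set_option linter.unusedSectionVars false
universe u
open CategoryTheory CategoryTheory.Limits AlgebraicGeometry TopologicalSpace Opposite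

attribute [local instance] HasDerivedCategory.standard

namespace Groth.Agent.Lib.H6xCohDev

open DerivedCategory Pretriangulated Groth.Agent.S14388 Groth.Agent.Lib.H6xPerfVan
  Groth.Agent.Lib.H6xRpushTri Groth.Agent.Lib.H6xSuppPush

section coh

variable {S : Scheme.{u}} [IsLocallyNoetherian S]

/-- the middle term of a distinguished triangle has coherent cohomology in degree `p` -/
theorem isCoh_HD_of_distTriang (T : Triangle (DCoh.D S)) (hT : T ∈ distTriang (DCoh.D S)) (p : ℤ)
    (h₁ : Coh.IsCoh (DCoh.HD T.obj₁ p)) (h₁' : (DCoh.HD T.obj₁ (p + 1)).IsQuasicoherent)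
    (h₃ : Coh.IsCoh (DCoh.HD T.obj₃ p)) (h₃' : (DCoh.HD T.obj₃ (p - 1)).IsQuasicoherent) :
    Coh.IsCoh (DCoh.HD T.obj₂ p) := by
  haveI := h₁.1
  haveI := h₃.1
  haveI := h₁'
  haveI := h₃'
  have hq : (DCoh.HD T.obj₂ p).IsQuasicoherent :=
    Groth.Agent.Lib.R2H3.LocCohLC.isQuasicoherent_of_five
      (HomologySequence.δ T (p - 1) p (by omega))
      ((homologyFunctor S.Modules p).map T.mor₁) ((homologyFunctor S.Modules p).map T.mor₂)
      (HomologySequence.δ T p (p + 1) rfl) _ _ _
      (HomologySequence.exact₁ T hT (p - 1) p (by omega)) (HomologySequence.exact₂ T hT p)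
      (HomologySequence.exact₃ T hT p (p + 1) rfl)
  exact Groth.Agent.Lib.R2H2.ProperCoh.isCoh_of_exact _ (HomologySequence.exact₂ T hT p) h₁ h₃ hq

theorem isCohD_of_distTriang (T : Triangle (DCoh.D S)) (hT : T ∈ distTriang (DCoh.D S))
    (h₁ : DCoh.IsCohD T.obj₁) (h₃ : DCoh.IsCohD T.obj₃) : DCoh.IsCohD T.obj₂ := fun p =>
  isCoh_HD_of_distTriang T hT p (h₁ p) (h₁ (p + 1)).1 (h₃ p) (h₃ (p - 1)).1

theorem isCohD_of_iso {K L : DCoh.D S} (e : K ≅ L) (h : DCoh.IsCohD K) : DCoh.IsCohD L := fun p =>
  Groth.Agent.Lib.R2H2.PdSheaf.isCoh_of_iso ((homologyFunctor S.Modules p).mapIso e) (h p)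

theorem isCohD_of_isZero {K : DCoh.D S} (h : IsZero K) : DCoh.IsCohD K := fun p =>
  Groth.Agent.Lib.R2H2.KcohLoc.isCoh_of_isZero ((homologyFunctor S.Modules p).map_isZero h)

theorem isCohD_shift {K : DCoh.D S} (h : DCoh.IsCohD K) (n : ℤ) : DCoh.IsCohD (K⟦n⟧) := fun p =>
  Groth.Agent.Lib.R2H2.PdSheaf.isCoh_of_iso (HDShiftIso K n p).symm (h (n + p))

end coh

section devissage

variable {X S : Scheme.{u}} (f : X ⟶ S) [DCoh.HasRpush f]
  (PP : X.Modules → Prop) (QQ : DCoh.D S → Prop)

/-- the data for a dévissage along canonical truncations -/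
structure DevData : Prop where
  p_iso : ∀ {M N : X.Modules}, (M ≅ N) → PP M → PP N
  q_iso : ∀ {K L : DCoh.D S}, (K ≅ L) → QQ K → QQ L
  q_zero : ∀ K : DCoh.D S, IsZero K → QQ K
  q_tri : ∀ T : Triangle (DCoh.D S), T ∈ distTriang (DCoh.D S) → QQ T.obj₁ → QQ T.obj₃ → QQ T.obj₂
  q_shift : ∀ (K : DCoh.D S) (n : ℤ), QQ K → QQ (K⟦n⟧)
  heart : ∀ F : X.Modules, PP F →
    QQ ((DCoh.Rpush f).obj ((DerivedCategory.singleFunctor X.Modules 0).obj F))

variable {f PP QQ}

/-- the case of an object concentrated in one degree -/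
theorem DevData.of_single (h : DevData f PP QQ) (E : DCoh.D X) (b : ℤ) [E.IsGE b] [E.IsLE b]
    (hE : PP (DCoh.HD E b)) : QQ ((DCoh.Rpush f).obj E) := by
  obtain ⟨A, ⟨e⟩⟩ := exists_iso_singleFunctor_obj_of_isGE_of_isLE E b
  have eA : DCoh.HD E b ≅ A := (homologyFunctor X.Modules b).mapIso e ≪≫
    (singleFunctorCompHomologyFunctorIso X.Modules b).app A
  have hA : PP A := h.p_iso eA hE
  have e₁ : ((DerivedCategory.singleFunctor X.Modules 0).obj A)⟦-b⟧ ≅
      (DerivedCategory.singleFunctor X.Modules b).obj A :=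
    ((DerivedCategory.singleFunctors X.Modules).shiftIso (-b) b 0 (by omega)).app A
  obtain ⟨e₂⟩ := nonempty_Rpush_shift_iso f ((DerivedCategory.singleFunctor X.Modules 0).obj A) (-b)
  exact h.q_iso (e₂.symm ≪≫ (DCoh.Rpush f).mapIso (e₁ ≪≫ e.symm))
    (h.q_shift _ (-b) (h.heart A hA))

theorem DevData.bounded (h : DevData f PP QQ) : ∀ (n : ℕ) (E : DCoh.D X) (a b : ℤ),
    E.IsGE a → E.IsLE b → b + 1 - a ≤ n → (∀ i, a ≤ i → i ≤ b → PP (DCoh.HD E i)) →
    QQ ((DCoh.Rpush f).obj E) := by
  intro n
  induction n with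
  | zero =>
    intro E a b hEa hEb hn hE
    have hz : IsZero E := tt.isZero E b a (by omega)
    exact h.q_zero _ (isZero_Rpush f E hz)
  | succ n ih =>
    intro E a b hEa hEb hn hE
    by_cases hab : b < a
    · have hz : IsZero E := tt.isZero E b a hab
      exact h.q_zero _ (isZero_Rpush f E hz)
    · have hT := tt.triangleLTGE_distinguished b E
      -- the truncation below `b`
      have h₁ : QQ ((DCoh.Rpush f).obj ((tt.truncLT b).obj E)) := by
        haveI : ((tt.truncLT b).obj E).IsGE a := by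
          rw [isGE_iff]
          intro i hi
          have := isIso_homology_truncLTι b i (by omega) E
          exact IsZero.of_iso (isZero_of_isGE E a i hi)
            (asIso ((homologyFunctor X.Modules i).map ((tt.truncLTι b).app E)))
        haveI : ((tt.truncLT b).obj E).IsLE (b - 1) := inferInstance
        refine ih _ a (b - 1) inferInstance inferInstance (by omega) (fun i hi₁ hi₂ => ?_)
        have := isIso_homology_truncLTι b i (by omega) E
        exact h.p_iso (asIso ((homologyFunctor X.Modules i).map ((tt.truncLTι b).app E))).symm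
          (hE i hi₁ (by omega))
      -- the top cohomology
      have h₃ : QQ ((DCoh.Rpush f).obj ((tt.truncGE b).obj E)) := by
        haveI : ((tt.truncGE b).obj E).IsLE b := by
          rw [isLE_iff]
          intro i hi
          have := isIso_homology_truncGEπ b i (by omega) E
          exact IsZero.of_iso (isZero_of_isLE E b i hi)
            (asIso ((homologyFunctor X.Modules i).map ((tt.truncGEπ b).app E))).symm
        haveI : ((tt.truncGE b).obj E).IsGE b := inferInstance
        refine h.of_single _ b ?_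
        have := isIso_homology_truncGEπ b b le_rfl E
        exact h.p_iso (asIso ((homologyFunctor X.Modules b).map ((tt.truncGEπ b).app E)))
          (hE b (by omega) le_rfl)
      obtain ⟨T', hT', ⟨e₁⟩, ⟨e₂⟩, ⟨e₃⟩⟩ := exists_distTriang_Rpush f _ hT
      exact h.q_iso e₂ (h.q_tri T' hT' (h.q_iso e₁.symm h₁) (h.q_iso e₃.symm h₃))

end devissage

end Groth.Agent.Lib.H6xCohDev
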