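import Mathlib
import Groth.Agent.Lib.H6xCohDevA
set_option backward.isDefEq.respectTransparency.types false

/-!
# `Rf_*` of complexes with coherent cohomology with proper supports (helper6; S1001, S1107, S5186)
-/

set_option autoImplicit false
set_option linter.style.haveILetI false
set_option linter.unusedVariables false
set_option linter.unusedSectionVars false
universe u
open CategoryTheory CategoryTheory.Limits AlgebraicGeometry TopologicalSpace Opposite

attribute [local instance] HasDerivedCategory.standard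

namespace Groth.Agent.Lib.H6xCohDev

open DerivedCategory Pretriangulated Groth.Agent.S14388 Groth.Agent.Lib.H6xPerfVan
  Groth.Agent.Lib.H6xRpushTri Groth.Agent.Lib.H6xSuppPush Groth.Agent.Lib.H6xPropSupp

section general

variable {X S : Scheme.{u}} (f : X ⟶ S) [DCoh.HasRpush f] [IsLocallyNoetherian S]

/-- from the classical higher direct images to the cohomology sheaves of `Rf_* F[0]` -/
theorem isCohD_Rpush_single (F : X.Modules)
    (h : ∀ k : ℕ, Coh.IsCoh ((Coh.Rpush f k).obj F)) :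
    DCoh.IsCohD ((DCoh.Rpush f).obj ((DerivedCategory.singleFunctor X.Modules 0).obj F)) := by
  intro p
  haveI := isGE_Rpush f ((DerivedCategory.singleFunctor X.Modules 0).obj F) 0
  by_cases hp : p < 0
  · exact Groth.Agent.Lib.R2H2.KcohLoc.isCoh_of_isZero (isZero_of_isGE _ 0 p hp)
  · obtain ⟨k, rfl⟩ := Int.eq_ofNat_of_zero_le (not_lt.1 hp)
    obtain ⟨e⟩ := nonempty_Rpush_HD_iso f F k
    exact Groth.Agent.Lib.R2H2.PdSheaf.isCoh_of_iso e (h k)

/-- comparing `Rf_* E` with `Rf_*` of a truncation, in low degrees -/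
theorem isCoh_HD_Rpush_of_truncLT (E : DCoh.D X) (m p : ℤ) (hp : p < m)
    (h : DCoh.IsCohD ((DCoh.Rpush f).obj ((tt.truncLT m).obj E))) :
    Coh.IsCoh (DCoh.HD ((DCoh.Rpush f).obj E) p) := by
  have hT := tt.triangleLTGE_distinguished m E
  obtain ⟨T', hT', ⟨e₁⟩, ⟨e₂⟩, ⟨e₃⟩⟩ := exists_distTriang_Rpush f _ hT
  haveI : ((DCoh.Rpush f).obj ((tt.truncGE m).obj E)).IsGE m := isGE_Rpush f _ m
  have e₃' : T'.obj₃ ≅ (DCoh.Rpush f).obj ((tt.truncGE m).obj E) := e₃
  haveI : T'.obj₃.IsGE m := TStructure.t.isGE_of_iso e₃'.symm m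
  have h₁ : DCoh.IsCohD T'.obj₁ := isCohD_of_iso e₁.symm h
  have hz : ∀ q : ℤ, q < m → Coh.IsCoh (DCoh.HD T'.obj₃ q) := fun q hq =>
    Groth.Agent.Lib.R2H2.KcohLoc.isCoh_of_isZero (isZero_of_isGE _ m q hq)
  exact Groth.Agent.Lib.R2H2.PdSheaf.isCoh_of_iso ((homologyFunctor S.Modules p).mapIso e₂)
    (isCoh_HD_of_distTriang T' hT' p (h₁ p) (h₁ (p + 1)).1 (hz p hp) (hz (p - 1) (by omega)).1)

/-- dévissage data for coherent cohomology -/
theorem devData_isCohD (PP : X.Modules → Prop)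
    (p_iso : ∀ {M N : X.Modules}, (M ≅ N) → PP M → PP N)
    (heart : ∀ F : X.Modules, PP F →
      DCoh.IsCohD ((DCoh.Rpush f).obj ((DerivedCategory.singleFunctor X.Modules 0).obj F))) :
    DevData f PP (fun K => DCoh.IsCohD K) where
  p_iso := p_iso
  q_iso := fun e h => isCohD_of_iso e h
  q_zero := fun K h => isCohD_of_isZero h
  q_tri := fun T hT h₁ h₃ => isCohD_of_distTriang T hT h₁ h₃
  q_shift := fun K n h => isCohD_shift h n
  heart := heart

/-- bounded below objects: coherence of `H^p(Rf_* E)` for `p < m` from the cohomology of `E` in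
degrees `< m` -/
theorem isCoh_HD_Rpush_of_isGE (PP : X.Modules → Prop)
    (p_iso : ∀ {M N : X.Modules}, (M ≅ N) → PP M → PP N)
    (heart : ∀ F : X.Modules, PP F →
      DCoh.IsCohD ((DCoh.Rpush f).obj ((DerivedCategory.singleFunctor X.Modules 0).obj F)))
    (E : DCoh.D X) (a : ℤ) [E.IsGE a] (m : ℤ) (hE : ∀ i, a ≤ i → i < m → PP (DCoh.HD E i))
    (p : ℤ) (hp : p < m) : Coh.IsCoh (DCoh.HD ((DCoh.Rpush f).obj E) p) := by
  refine isCoh_HD_Rpush_of_truncLT f E m p hp ?_
  haveI : ((tt.truncLT m).obj E).IsGE a := by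
    rw [isGE_iff]
    intro i hi
    by_cases him : i < m
    · have := isIso_homology_truncLTι m i him E
      exact IsZero.of_iso (isZero_of_isGE E a i hi)
        (asIso ((homologyFunctor X.Modules i).map ((tt.truncLTι m).app E)))
    · exact isZero_HD_truncLT E m i (by omega)
  haveI : ((tt.truncLT m).obj E).IsLE (m - 1) := inferInstance
  refine (devData_isCohD f PP p_iso heart).bounded (m - a).toNat _ a (m - 1) inferInstance
    inferInstance (by omega) (fun i hi₁ hi₂ => ?_)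
  have := isIso_homology_truncLTι m i (by omega) E
  exact p_iso (asIso ((homologyFunctor X.Modules i).map ((tt.truncLTι m).app E))).symm
    (hE i hi₁ (by omega))

end general

section proper_support

variable {X S : Scheme.{u}} (f : X ⟶ S) [LocallyOfFiniteType f] [DCoh.HasRpush f]

/-- the class of coherent modules with support proper over the base -/
def PSupp (F : X.Modules) : Prop := Coh.IsCoh F ∧ ClSub.IsProperOver f (CohB1.support F)

lemma PSupp.of_iso {M N : X.Modules} (e : M ≅ N) (h : PSupp f M) : PSupp f N :=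
  ⟨Groth.Agent.Lib.R2H2.PdSheaf.isCoh_of_iso e h.1, by
    rw [← Groth.Agent.Lib.H6xSuppPush.support_eq_of_iso e]; exact h.2⟩

theorem isCohD_Rpush_single_of_pSupp [IsLocallyNoetherian S] (F : X.Modules) (hF : PSupp f F) :
    DCoh.IsCohD ((DCoh.Rpush f).obj ((DerivedCategory.singleFunctor X.Modules 0).obj F)) := by
  haveI := Groth.Agent.Lib.R2H3.RpushRestrict.hasInjectiveResolutions_modules X
  exact isCohD_Rpush_single f F (fun k => isCoh_Rpush_of_properSupport f F hF.1 hF.2 k)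

/-- **S1107** -/
theorem main_S1107 [IsNoetherian S] (E : DCoh.D X) (a : ℤ) [E.IsGE a] (hE : DCoh.IsCohD E)
    (hsupp : ∀ i : ℤ, ClSub.IsProperOver f (CohB1.support (DCoh.HD E i))) :
    DCoh.IsCohD ((DCoh.Rpush f).obj E) ∧ ((DCoh.Rpush f).obj E).IsGE a := by
  refine ⟨fun p => ?_, isGE_Rpush f E a⟩
  exact isCoh_HD_Rpush_of_isGE f (PSupp f) (fun e h => h.of_iso f e)
    (isCohD_Rpush_single_of_pSupp f) E a (p + 1) (fun i _ _ => ⟨hE i, hsupp i⟩) p (by omega)

/-- a uniform vanishing bound for `Rf_* F[0]` when `F` has proper support -/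
theorem exists_isLE_Rpush_single [IsNoetherian S] (F : X.Modules) (hF : PSupp f F) :
    ∃ N : ℤ, ((DCoh.Rpush f).obj ((DerivedCategory.singleFunctor X.Modules 0).obj F)).IsLE N := by
  haveI : IsLocallyNoetherian X := LocallyOfFiniteType.isLocallyNoetherian f
  have hc := isCompact_of_isProperOver f _ hF.2
  obtain ⟨T, i, hcl, hprop, G, hG, ⟨φ⟩⟩ := exists_closed_model' f F hF.1 hF.2 hc
  obtain ⟨e₂⟩ := nonempty_Rpush_single_iso i G hG.1
  obtain ⟨e₃⟩ := Groth.Agent.S0922.result i f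
  obtain ⟨N, hN⟩ := Groth.Agent.Lib.H6xRpushQc.main_bd (i ≫ f)
  haveI : ((DerivedCategory.singleFunctor T.Modules 0).obj G).IsLE 0 := inferInstance
  have h1 := isLE_Rpush_of_bd (i ≫ f) hN ((DerivedCategory.singleFunctor T.Modules 0).obj G)
    (Groth.Agent.Lib.H6xQcTrunc.isQCohD_single G hG.1) 0
  refine ⟨N + 0 - 1, ?_⟩
  have e : (DCoh.Rpush f).obj ((DerivedCategory.singleFunctor X.Modules 0).obj F) ≅
      (DCoh.Rpush (i ≫ f)).obj ((DerivedCategory.singleFunctor T.Modules 0).obj G) :=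
    (DCoh.Rpush f).mapIso ((DerivedCategory.singleFunctor X.Modules 0).mapIso φ ≪≫ e₂.symm) ≪≫
      e₃.app _
  exact TStructure.t.isLE_of_iso e.symm _

/-- **S1001** -/
theorem main_S1001 [IsNoetherian S] (E : DCoh.D X) (a b : ℤ) [E.IsGE a] [E.IsLE b]
    (hE : DCoh.IsCohD E)
    (hsupp : ∀ i : ℤ, ClSub.IsProperOver f (CohB1.support (DCoh.HD E i))) :
    DCoh.IsCohD ((DCoh.Rpush f).obj E) ∧ ((DCoh.Rpush f).obj E).IsGE a ∧
      ∃ b' : ℤ, ((DCoh.Rpush f).obj E).IsLE b' := by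
  obtain ⟨h1, h2⟩ := main_S1107 f E a hE hsupp
  refine ⟨h1, h2, ?_⟩
  have hd : DevData f (PSupp f) (fun K : DCoh.D S => ∃ b' : ℤ, K.IsLE b') :=
    { p_iso := fun e h => h.of_iso f e
      q_iso := fun e ⟨b', hb'⟩ => ⟨b', TStructure.t.isLE_of_iso e b'⟩
      q_zero := fun K hK => ⟨0, TStructure.t.isLE_of_isZero hK 0⟩
      q_tri := by
        rintro T hT ⟨b₁, hb₁⟩ ⟨b₃, hb₃⟩
        refine ⟨max b₁ b₃, ?_⟩
        rw [isLE_iff]
        intro i hi
        refine (HomologySequence.exact₂ T hT i).isZero_of_both_zeros ?_ ?_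
        · exact (isZero_of_isLE T.obj₁ b₁ i (lt_of_le_of_lt (le_max_left _ _) hi)).eq_of_src _ _
        · exact (isZero_of_isLE T.obj₃ b₃ i (lt_of_le_of_lt (le_max_right _ _) hi)).eq_of_tgt _ _
      q_shift := fun K n ⟨b', hb'⟩ => ⟨b' - n, TStructure.t.isLE_shift K b' n (b' - n) (by omega)⟩
      heart := fun F hF => exists_isLE_Rpush_single f F hF }
  exact hd.bounded (b + 1 - a).toNat E a b inferInstance inferInstance (by omega)
    (fun i _ _ => ⟨hE i, hsupp i⟩)

end proper_support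

section open_in_proper

/-- **S5186** -/
theorem main_S5186 {X S : Scheme.{u}} (f : X ⟶ S) [IsProper f] [IsLocallyNoetherian S]
    (U : X.Opens) [HasInjectiveResolutions (U : Scheme.{u}).Modules]
    [HasInjectiveResolutions X.Modules] (F : (U : Scheme.{u}).Modules) (n : ℕ)
    (hg : ∀ i : ℕ, i ≤ n → Coh.IsCoh ((Coh.Rpush U.ι i).obj F)) (i : ℕ) (hi : i ≤ n) :
    Coh.IsCoh ((Coh.Rpush (U.ι ≫ f) i).obj F) := by
  haveI : IsLocallyNoetherian X := LocallyOfFiniteType.isLocallyNoetherian f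
  set E : DCoh.D X := (DCoh.Rpush U.ι).obj
    ((DerivedCategory.singleFunctor (U : Scheme.{u}).Modules 0).obj F) with hEdef
  haveI : E.IsGE 0 := isGE_Rpush U.ι _ 0
  have hE : ∀ j : ℤ, 0 ≤ j → j < (n : ℤ) + 1 → Coh.IsCoh (DCoh.HD E j) := by
    intro j hj₁ hj₂
    obtain ⟨k, rfl⟩ := Int.eq_ofNat_of_zero_le hj₁
    obtain ⟨e⟩ := nonempty_Rpush_HD_iso U.ι F k
    exact Groth.Agent.Lib.R2H2.PdSheaf.isCoh_of_iso e (hg k (by omega))
  have h1 := isCoh_HD_Rpush_of_isGE f (fun M : X.Modules => Coh.IsCoh M)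
    (fun e h => Groth.Agent.Lib.R2H2.PdSheaf.isCoh_of_iso e h)
    (fun F' hF' => isCohD_Rpush_single f F' (fun k => Groth.Agent.S0036.result f F' hF' k))
    E 0 ((n : ℤ) + 1) hE (i : ℤ) (by omega)
  obtain ⟨e₃⟩ := Groth.Agent.S0922.result U.ι f
  obtain ⟨e₄⟩ := nonempty_Rpush_HD_iso (U.ι ≫ f) F i
  exact Groth.Agent.Lib.R2H2.PdSheaf.isCoh_of_iso
    ((homologyFunctor S.Modules (i : ℤ)).mapIso (e₃.app _) ≪≫ e₄.symm) h1

end open_in_proper

end Groth.Agent.Lib.H6xCohDev
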