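import Groth.Agent.Lib.H6xPlaneConic

set_option autoImplicit false

/-! `2 × 2` matrices of linear forms in three variables whose determinant is a reducible conic. -/

namespace Groth.Agent.Lib.H6xConicMatrix

open MvPolynomial Matrix Module Groth.Agent.Lib.H6xPlaneConic

variable {k : Type*} [Field k]

/-- a singular `2 × 2` matrix is an outer product. -/
theorem exists_vecMulVec (A : Matrix (Fin 2) (Fin 2) k) (hA : A.det = 0) :
    ∃ u v : Fin 2 → k, A = vecMulVec u v := by
  rw [det_fin_two] at hA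
  by_cases h0 : A 0 0 = 0
  · by_cases h1 : A 0 1 = 0
    · refine ⟨![0, 1], ![A 1 0, A 1 1], ?_⟩
      ext i j
      fin_cases i <;> fin_cases j <;> simp [vecMulVec_apply, h0, h1]
    · have h10 : A 1 0 = 0 := by
        rw [h0, zero_mul, zero_sub, neg_eq_zero] at hA
        exact (mul_eq_zero.mp hA).resolve_left h1
      refine ⟨![1, A 1 1 / A 0 1], ![A 0 0, A 0 1], ?_⟩
      ext i j
      fin_cases i <;> fin_cases j <;> simp [vecMulVec_apply, h0, h10]
      field_simp
  · refine ⟨![1, A 1 0 / A 0 0], ![A 0 0, A 0 1], ?_⟩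
    ext i j
    fin_cases i <;> fin_cases j <;> simp [vecMulVec_apply]
    · field_simp
    · field_simp
      linear_combination hA

theorem det_add_vecMulVec (u v u' v' : Fin 2 → k) :
    (vecMulVec u v + vecMulVec u' v').det =
      (u 0 * u' 1 - u 1 * u' 0) * (v 0 * v' 1 - v 1 * v' 0) := by
  rw [det_fin_two]
  simp only [Matrix.add_apply, vecMulVec_apply]
  ring

/-- a vector orthogonal to two proportional vectors. -/
theorem exists_orth (u u' : Fin 2 → k) (h : u 0 * u' 1 - u 1 * u' 0 = 0) :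
    ∃ r : Fin 2 → k, r ≠ 0 ∧ r ⬝ᵥ u = 0 ∧ r ⬝ᵥ u' = 0 := by
  by_cases hu : u = 0
  · by_cases hu' : u' = 0
    · refine ⟨![1, 0], ?_, ?_, ?_⟩
      · intro h0
        have := congrFun h0 0
        simp at this
      · rw [hu]; simp
      · rw [hu']; simp
    · refine ⟨![u' 1, -u' 0], ?_, ?_, ?_⟩
      · intro h0
        apply hu'
        have e0 := congrFun h0 0
        have e1 := congrFun h0 1
        simp at e0 e1
        ext i
        fin_cases i
        · exact e1
        · exact e0
      · rw [hu]; simp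
      · simp [dotProduct, Fin.sum_univ_two]; ring
  · refine ⟨![u 1, -u 0], ?_, ?_, ?_⟩
    · intro h0
      apply hu
      have e0 := congrFun h0 0
      have e1 := congrFun h0 1
      simp at e0 e1
      ext i
      fin_cases i
      · exact e1
      · exact e0
    · simp [dotProduct, Fin.sum_univ_two]; ring
    · simp [dotProduct, Fin.sum_univ_two]
      linear_combination -h

/-- a pencil of singular `2 × 2` matrices has a common kernel or a common cokernel. -/
theorem common_kernel_or_cokernel (A B : Matrix (Fin 2) (Fin 2) k) (hA : A.det = 0)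
    (hB : B.det = 0) (hAB : (A + B).det = 0) :
    (∃ c : Fin 2 → k, c ≠ 0 ∧ A *ᵥ c = 0 ∧ B *ᵥ c = 0) ∨
    (∃ r : Fin 2 → k, r ≠ 0 ∧ r ᵥ* A = 0 ∧ r ᵥ* B = 0) := by
  obtain ⟨u, v, rfl⟩ := exists_vecMulVec A hA
  obtain ⟨u', v', rfl⟩ := exists_vecMulVec B hB
  rw [det_add_vecMulVec] at hAB
  rcases mul_eq_zero.mp hAB with h | h
  · right
    obtain ⟨r, hr0, h1, h2⟩ := exists_orth u u' h
    refine ⟨r, hr0, ?_, ?_⟩
    · ext j
      simp only [Matrix.vecMul, dotProduct, vecMulVec_apply, Fin.sum_univ_two, Pi.zero_apply] at h1 ⊢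
      linear_combination (v j) * h1
    · ext j
      simp only [Matrix.vecMul, dotProduct, vecMulVec_apply, Fin.sum_univ_two, Pi.zero_apply] at h2 ⊢
      linear_combination (v' j) * h2
  · left
    obtain ⟨c, hc0, h1, h2⟩ := exists_orth v v' h
    refine ⟨c, hc0, ?_, ?_⟩
    · ext j
      simp only [Matrix.mulVec, dotProduct, vecMulVec_apply, Fin.sum_univ_two, Pi.zero_apply] at h1 ⊢
      linear_combination (u j) * h1
    · ext j
      simp only [Matrix.mulVec, dotProduct, vecMulVec_apply, Fin.sum_univ_two, Pi.zero_apply] at h2 ⊢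
      linear_combination (u' j) * h2

/-- a basis of the plane orthogonal to `α`. -/
theorem exists_basis_orth (α : Fin 3 → k) (hα : α ≠ 0) :
    ∃ p q : Fin 3 → k, α ⬝ᵥ p = 0 ∧ α ⬝ᵥ q = 0 ∧
      ∀ x : Fin 3 → k, α ⬝ᵥ x = 0 → ∃ s t : k, x = s • p + t • q := by
  obtain ⟨i, hi⟩ : ∃ i, α i ≠ 0 := by
    by_contra hcon
    push Not at hcon
    exact hα (funext hcon)
  fin_cases i
  · have hi' : α 0 ≠ 0 := hi
    refine ⟨![-α 1, α 0, 0], ![-α 2, 0, α 0], ?_, ?_, ?_⟩
    · simp [dotProduct, Fin.sum_univ_three]; ring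
    · simp [dotProduct, Fin.sum_univ_three]; ring
    · intro x hx
      simp only [dotProduct, Fin.sum_univ_three] at hx
      refine ⟨x 1 / α 0, x 2 / α 0, ?_⟩
      ext j
      fin_cases j <;> simp
      · field_simp
        linear_combination hx
      · field_simp
      · field_simp
  · have hi' : α 1 ≠ 0 := hi
    refine ⟨![α 1, -α 0, 0], ![0, -α 2, α 1], ?_, ?_, ?_⟩
    · simp [dotProduct, Fin.sum_univ_three]; ring
    · simp [dotProduct, Fin.sum_univ_three]; ring
    · intro x hx
      simp only [dotProduct, Fin.sum_univ_three] at hx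
      refine ⟨x 0 / α 1, x 2 / α 1, ?_⟩
      ext j
      fin_cases j <;> simp
      · field_simp
      · field_simp
        linear_combination hx
      · field_simp
  · have hi' : α 2 ≠ 0 := hi
    refine ⟨![α 2, 0, -α 0], ![0, α 2, -α 1], ?_, ?_, ?_⟩
    · simp [dotProduct, Fin.sum_univ_three]; ring
    · simp [dotProduct, Fin.sum_univ_three]; ring
    · intro x hx
      simp only [dotProduct, Fin.sum_univ_three] at hx
      refine ⟨x 0 / α 2, x 1 / α 2, ?_⟩
      ext j
      fin_cases j <;> simp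
      · field_simp
      · field_simp
      · field_simp
        linear_combination hx

/-- a linear form vanishing on the plane orthogonal to `α` is a multiple of `α`. -/
theorem exists_smul_of_orth [CharZero k] (α γ : Fin 3 → k) (hα : α ≠ 0)
    (h : ∀ x : Fin 3 → k, α ⬝ᵥ x = 0 → γ ⬝ᵥ x = 0) : ∃ c : k, γ = c • α := by
  have h1 : α ⨯₃ γ = 0 := by
    apply dotProduct_eq_zero
    intro y
    rw [dotProduct_comm, triple_product_permutation, triple_product_permutation]
    exact h (y ⨯₃ α) (dot_cross_self y α)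
  have h2 : ¬ LinearIndependent k ![α, γ] := fun hli =>
    crossProduct_ne_zero_iff_linearIndependent.mpr hli h1
  rcases not_linearIndependent_cases α γ h2 with h3 | h3
  · exact absurd h3 hα
  · exact h3

theorem lin_add (v w : Fin 3 → k) : lin (v + w) = lin v + lin w := by
  simp [lin, add_smul, Finset.sum_add_distrib]

theorem lin_smul (s : k) (v : Fin 3 → k) : lin (s • v) = C s * lin v := by
  simp only [lin, Pi.smul_apply, smul_eq_mul, Finset.mul_sum, smul_eq_C_mul, map_mul, mul_assoc]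

theorem lin_zero : lin (0 : Fin 3 → k) = 0 := by simp [lin]

theorem exists_GL_row (r : Fin 2 → k) (hr : r ≠ 0) :
    ∃ g : GL (Fin 2) k, ∀ a, g.val 0 a = r a := by
  by_cases h0 : r 0 = 0
  · have h1 : r 1 ≠ 0 := by
      intro h1
      apply hr
      ext i
      fin_cases i <;> assumption
    refine ⟨Matrix.GeneralLinearGroup.mkOfDetNeZero !![r 0, r 1; 1, 0] ?_, ?_⟩
    · rw [det_fin_two]; simpa using h1
    · intro a; fin_cases a <;> rfl
  · refine ⟨Matrix.GeneralLinearGroup.mkOfDetNeZero !![r 0, r 1; 0, 1] ?_, ?_⟩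
    · rw [det_fin_two]; simpa using h0
    · intro a; fin_cases a <;> rfl

theorem exists_GL_col (c : Fin 2 → k) (hc : c ≠ 0) :
    ∃ h : GL (Fin 2) k, ∀ b, h.val b 1 = c b := by
  by_cases h0 : c 0 = 0
  · have h1 : c 1 ≠ 0 := by
      intro h1
      apply hc
      ext i
      fin_cases i <;> assumption
    refine ⟨Matrix.GeneralLinearGroup.mkOfDetNeZero !![1, c 0; 0, c 1] ?_, ?_⟩
    · rw [det_fin_two]; simpa using h1
    · intro b; fin_cases b <;> rfl
  · refine ⟨Matrix.GeneralLinearGroup.mkOfDetNeZero !![0, c 0; 1, c 1] ?_, ?_⟩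
    · rw [det_fin_two]; simpa using h0
    · intro b; fin_cases b <;> rfl

section main

variable [CharZero k]

/-- the entry `(0, 1)` of `g M h` for a matrix `M` of linear forms. -/
theorem entry_eq (M : Matrix (Fin 2) (Fin 2) (MvPolynomial (Fin 3) k))
    (m : Fin 2 → Fin 2 → Fin 3 → k) (hm : ∀ a b, M a b = lin (m a b)) (g h : GL (Fin 2) k) :
    ((C : k →+* MvPolynomial (Fin 3) k).mapMatrix g.val * M *
      (C : k →+* MvPolynomial (Fin 3) k).mapMatrix h.val) 0 1 =
    lin (∑ a, ∑ b, (g.val 0 a * h.val b 1) • m a b) := by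
  simp only [Matrix.mul_apply, Fin.sum_univ_two, RingHom.mapMatrix_apply, Matrix.map_apply, hm,
    lin_add, lin_smul, map_mul]
  ring

theorem forward (M : Matrix (Fin 2) (Fin 2) (MvPolynomial (Fin 3) k))
    (hM : ∀ a b : Fin 2, (M a b).IsHomogeneous 1)
    (l₁ l₂ : MvPolynomial (Fin 3) k) (h1 : l₁.IsHomogeneous 1) (h2 : l₂.IsHomogeneous 1)
    (hdet : M.det = l₁ * l₂) :
    ∃ g h : GL (Fin 2) k,
      ((C : k →+* MvPolynomial (Fin 3) k).mapMatrix g.val * M *
        (C : k →+* MvPolynomial (Fin 3) k).mapMatrix h.val) 0 1 = 0 := by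
  choose m hm using fun a b => exists_lin_of_isHomogeneous_one (M a b) (hM a b)
  -- the two linear factors, the first one nonzero
  obtain ⟨α, β, hα, hdet'⟩ : ∃ α β : Fin 3 → k, α ≠ 0 ∧ M.det = lin α * lin β := by
    obtain ⟨α, rfl⟩ := exists_lin_of_isHomogeneous_one l₁ h1
    obtain ⟨β, rfl⟩ := exists_lin_of_isHomogeneous_one l₂ h2
    by_cases hα : α = 0
    · refine ⟨Pi.single 0 1, 0, ?_, ?_⟩
      · intro h0
        have := congrFun h0 0
        simp at this
      · rw [hdet, hα, lin_zero, zero_mul, mul_zero]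
    · exact ⟨α, β, hα, hdet⟩
  -- the matrix of values
  obtain ⟨N, hN⟩ : ∃ N : (Fin 3 → k) → Matrix (Fin 2) (Fin 2) k,
      ∀ x a b, N x a b = m a b ⬝ᵥ x := ⟨fun x => Matrix.of fun a b => m a b ⬝ᵥ x, fun _ _ _ => rfl⟩
  have hNdet : ∀ x, (N x).det = (α ⬝ᵥ x) * (β ⬝ᵥ x) := by
    intro x
    have e1 : (eval x) M.det = ((eval x).mapMatrix M).det := RingHom.map_det _ _
    have e2 : (eval x).mapMatrix M = N x := by
      ext a b
      rw [RingHom.mapMatrix_apply, Matrix.map_apply, hm, eval_lin, hN]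
    rw [← e2, ← e1, hdet', map_mul, eval_lin, eval_lin]
  have hNadd : ∀ x y, N (x + y) = N x + N y := by
    intro x y
    ext a b
    rw [Matrix.add_apply, hN, hN, hN, dotProduct_add]
  have hNsmul : ∀ (s : k) x, N (s • x) = s • N x := by
    intro s x
    ext a b
    rw [Matrix.smul_apply, hN, hN, dotProduct_smul]
  obtain ⟨p, q, hp, hq, hpq⟩ := exists_basis_orth α hα
  have hA : (N p).det = 0 := by rw [hNdet, hp, zero_mul]
  have hB : (N q).det = 0 := by rw [hNdet, hq, zero_mul]
  have hAB : (N p + N q).det = 0 := by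
    rw [← hNadd, hNdet, dotProduct_add, hp, hq, add_zero, zero_mul]
  -- key: nonzero `r`, `c` with `r M c = 0`
  obtain ⟨r, c, hr0, hc0, hrc⟩ : ∃ r c : Fin 2 → k, r ≠ 0 ∧ c ≠ 0 ∧
      ∑ a, ∑ b, (r a * c b) • m a b = 0 := by
    rcases common_kernel_or_cokernel (N p) (N q) hA hB hAB with ⟨c, hc0, hcp, hcq⟩ | ⟨r, hr0, hrp, hrq⟩
    · have hker : ∀ x, α ⬝ᵥ x = 0 → N x *ᵥ c = 0 := by
        intro x hx
        obtain ⟨s, t, rfl⟩ := hpq x hx
        rw [hNadd, hNsmul, hNsmul, Matrix.add_mulVec, Matrix.smul_mulVec, Matrix.smul_mulVec,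
          hcp, hcq]
        simp
      have hγ : ∀ a, ∃ lam : k, ∑ b, c b • m a b = lam • α := by
        intro a
        apply exists_smul_of_orth α _ hα
        intro x hx
        have := congrFun (hker x hx) a
        simp only [Matrix.mulVec, dotProduct, Fin.sum_univ_two, hN, Pi.zero_apply,
          Fin.sum_univ_three] at this
        simp only [dotProduct, Fin.sum_univ_two, Fin.sum_univ_three, Pi.add_apply, Pi.smul_apply,
          smul_eq_mul]
        linear_combination this
      choose lam hlam using hγ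
      obtain ⟨r, hr0, hr, -⟩ := exists_orth lam lam (by ring)
      refine ⟨r, c, hr0, hc0, ?_⟩
      have : ∑ a, ∑ b, (r a * c b) • m a b = ∑ a, r a • ∑ b, c b • m a b := by
        simp only [Finset.smul_sum, smul_smul]
      rw [this]
      simp only [hlam, Fin.sum_univ_two, smul_smul, ← add_smul]
      simp only [dotProduct, Fin.sum_univ_two] at hr
      rw [hr, zero_smul]
    · have hker : ∀ x, α ⬝ᵥ x = 0 → r ᵥ* N x = 0 := by
        intro x hx
        obtain ⟨s, t, rfl⟩ := hpq x hx
        rw [hNadd, hNsmul, hNsmul, Matrix.vecMul_add, Matrix.vecMul_smul, Matrix.vecMul_smul,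
          hrp, hrq]
        simp
      have hδ : ∀ b, ∃ mu : k, ∑ a, r a • m a b = mu • α := by
        intro b
        apply exists_smul_of_orth α _ hα
        intro x hx
        have := congrFun (hker x hx) b
        simp only [Matrix.vecMul, dotProduct, Fin.sum_univ_two, hN, Pi.zero_apply,
          Fin.sum_univ_three] at this
        simp only [dotProduct, Fin.sum_univ_two, Fin.sum_univ_three, Pi.add_apply, Pi.smul_apply,
          smul_eq_mul]
        linear_combination this
      choose mu hmu using hδ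
      obtain ⟨c, hc0, hc, -⟩ := exists_orth mu mu (by ring)
      refine ⟨r, c, hr0, hc0, ?_⟩
      have : ∑ a, ∑ b, (r a * c b) • m a b = ∑ b, c b • ∑ a, r a • m a b := by
        rw [Finset.sum_comm]
        simp only [Finset.smul_sum, smul_smul, mul_comm]
      rw [this]
      simp only [hmu, Fin.sum_univ_two, smul_smul, ← add_smul]
      simp only [dotProduct, Fin.sum_univ_two] at hc
      rw [hc, zero_smul]
  obtain ⟨g, hg⟩ := exists_GL_row r hr0
  obtain ⟨h, hh⟩ := exists_GL_col c hc0
  refine ⟨g, h, ?_⟩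
  rw [entry_eq M m hm g h]
  simp only [hg, hh, hrc, lin_zero]

theorem backward (M : Matrix (Fin 2) (Fin 2) (MvPolynomial (Fin 3) k))
    (hM : ∀ a b : Fin 2, (M a b).IsHomogeneous 1) (g h : GL (Fin 2) k)
    (hgh : ((C : k →+* MvPolynomial (Fin 3) k).mapMatrix g.val * M *
        (C : k →+* MvPolynomial (Fin 3) k).mapMatrix h.val) 0 1 = 0) :
    ∃ l₁ l₂ : MvPolynomial (Fin 3) k, l₁.IsHomogeneous 1 ∧ l₂.IsHomogeneous 1 ∧
      M.det = l₁ * l₂ := by
  obtain ⟨M', hM'⟩ : ∃ M' : Matrix (Fin 2) (Fin 2) (MvPolynomial (Fin 3) k),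
      M' = (C : k →+* MvPolynomial (Fin 3) k).mapMatrix g.val * M *
        (C : k →+* MvPolynomial (Fin 3) k).mapMatrix h.val := ⟨_, rfl⟩
  rw [← hM'] at hgh
  have hhom : ∀ a b, (M' a b).IsHomogeneous 1 := by
    intro a b
    rw [hM']
    simp only [Matrix.mul_apply, RingHom.mapMatrix_apply, Matrix.map_apply]
    refine IsHomogeneous.sum _ _ _ fun j _ => ?_
    refine IsHomogeneous.mul (n := 0) (IsHomogeneous.sum _ _ _ fun i _ => ?_) (isHomogeneous_C _ _)
    exact IsHomogeneous.C_mul (hM i j) _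
  have hdg : g.val.det ≠ 0 := by
    have := (Matrix.isUnit_iff_isUnit_det g.val).mp g.isUnit
    exact this.ne_zero
  have hdh : h.val.det ≠ 0 := by
    have := (Matrix.isUnit_iff_isUnit_det h.val).mp h.isUnit
    exact this.ne_zero
  have hdet : M'.det = C g.val.det * M.det * C h.val.det := by
    rw [hM', det_mul, det_mul]
    congr 1
    · congr 1
      exact (RingHom.map_det _ _).symm
    · exact (RingHom.map_det _ _).symm
  have hdet2 : M'.det = M' 0 0 * M' 1 1 := by
    rw [det_fin_two, hgh, zero_mul, sub_zero]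
  refine ⟨C ((g.val.det)⁻¹ * (h.val.det)⁻¹) * M' 0 0, M' 1 1, IsHomogeneous.C_mul (hhom 0 0) _,
    hhom 1 1, ?_⟩
  have e : (C ((g.val.det)⁻¹ * (h.val.det)⁻¹) : MvPolynomial (Fin 3) k) * (C g.val.det *
      C h.val.det) = 1 := by
    rw [← map_mul, ← map_mul, ← C_1]
    congr 1
    field_simp
  calc M.det = (C ((g.val.det)⁻¹ * (h.val.det)⁻¹) * (C g.val.det * C h.val.det)) * M.det := by
        rw [e, one_mul]
    _ = C ((g.val.det)⁻¹ * (h.val.det)⁻¹) * (C g.val.det * M.det * C h.val.det) := by ring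
    _ = _ := by rw [← hdet, hdet2]; ring

end main

end Groth.Agent.Lib.H6xConicMatrix
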