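import Mathlib

set_option autoImplicit false

/-! Elementary calculus of cubic forms: directional derivative `D`, the symmetric trilinear
form `T`, and the Taylor-type identities, proved by reduction to monomials `X i * X j * X l`. -/

namespace Groth.Agent.Lib.H6xCubicForm

open MvPolynomial

variable {σ : Type*} [Fintype σ] [DecidableEq σ] {R : Type*} [CommRing R]

/-- directional derivative of `f` at `x` in direction `v`. -/
noncomputable def D (f : MvPolynomial σ R) (x v : σ → R) : R :=
  ∑ i, v i * eval x (pderiv i f)

/-- second directional derivative of `f` at `x` in directions `y`, `w`. -/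
noncomputable def T (f : MvPolynomial σ R) (x y w : σ → R) : R :=
  ∑ i, ∑ j, y i * w j * eval x (pderiv i (pderiv j f))

theorem D_add (f g : MvPolynomial σ R) (x v : σ → R) : D (f + g) x v = D f x v + D g x v := by
  simp [D, mul_add, Finset.sum_add_distrib]

theorem D_C_mul (a : R) (f : MvPolynomial σ R) (x v : σ → R) : D (C a * f) x v = a * D f x v := by
  simp only [D, Finset.mul_sum]
  refine Finset.sum_congr rfl fun i _ => ?_
  rw [Derivation.leibniz]
  simp
  ring

theorem D_zero (x v : σ → R) : D (0 : MvPolynomial σ R) x v = 0 := by simp [D]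

theorem D_mul (f g : MvPolynomial σ R) (x v : σ → R) :
    D (f * g) x v = D f x v * eval x g + eval x f * D g x v := by
  simp only [D, Finset.sum_mul, Finset.mul_sum, ← Finset.sum_add_distrib]
  refine Finset.sum_congr rfl fun i _ => ?_
  rw [Derivation.leibniz]
  simp
  ring

theorem D_X (i : σ) (x v : σ → R) : D (X i : MvPolynomial σ R) x v = v i := by
  simp [D, pderiv_X, Pi.single_apply, apply_ite, Finset.sum_ite_eq]

theorem D_add_right (f : MvPolynomial σ R) (x v w : σ → R) :
    D f x (v + w) = D f x v + D f x w := by
  simp [D, add_mul, Finset.sum_add_distrib]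

theorem D_smul_right (f : MvPolynomial σ R) (x v : σ → R) (c : R) :
    D f x (c • v) = c * D f x v := by
  simp [D, Finset.mul_sum, mul_assoc]

theorem T_add (f g : MvPolynomial σ R) (x y w : σ → R) :
    T (f + g) x y w = T f x y w + T g x y w := by
  simp [T, mul_add, Finset.sum_add_distrib]

theorem T_zero (x y w : σ → R) : T (0 : MvPolynomial σ R) x y w = 0 := by simp [T]

theorem T_add_mid (f : MvPolynomial σ R) (x y y' w : σ → R) :
    T f x (y + y') w = T f x y w + T f x y' w := by
  simp [T, add_mul, Finset.sum_add_distrib]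

theorem T_smul_mid (f : MvPolynomial σ R) (x y w : σ → R) (c : R) :
    T f x (c • y) w = c * T f x y w := by
  simp [T, Finset.mul_sum, mul_assoc]

theorem T_add_right (f : MvPolynomial σ R) (x y w w' : σ → R) :
    T f x y (w + w') = T f x y w + T f x y w' := by
  simp [T, add_mul, mul_add, Finset.sum_add_distrib]

theorem T_smul_right (f : MvPolynomial σ R) (x y w : σ → R) (c : R) :
    T f x y (c • w) = c * T f x y w := by
  simp only [T, Finset.mul_sum, Pi.smul_apply, smul_eq_mul]
  refine Finset.sum_congr rfl fun i _ => Finset.sum_congr rfl fun j _ => ?_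
  ring

theorem T_mul (f g : MvPolynomial σ R) (x y w : σ → R) :
    T (f * g) x y w = T f x y w * eval x g + D f x y * D g x w + D f x w * D g x y +
      eval x f * T g x y w := by
  have key : ∀ i j, eval x (pderiv i (pderiv j (f * g))) =
      eval x (pderiv i (pderiv j f)) * eval x g + eval x (pderiv j f) * eval x (pderiv i g) +
        eval x (pderiv i f) * eval x (pderiv j g) + eval x f * eval x (pderiv i (pderiv j g)) := by
    intro i j
    rw [Derivation.leibniz, map_add, smul_eq_mul, smul_eq_mul, Derivation.leibniz,
      Derivation.leibniz]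
    simp
    ring
  have h1 : D f x y * D g x w =
      ∑ i, ∑ j, (y i * eval x (pderiv i f)) * (w j * eval x (pderiv j g)) := by
    simp only [D]
    rw [Finset.sum_mul_sum]
  have h2 : D f x w * D g x y =
      ∑ i, ∑ j, (w j * eval x (pderiv j f)) * (y i * eval x (pderiv i g)) := by
    simp only [D]
    rw [Finset.sum_mul_sum, Finset.sum_comm]
  rw [h1, h2]
  simp only [T, key, Finset.sum_mul, Finset.mul_sum, ← Finset.sum_add_distrib]
  refine Finset.sum_congr rfl fun i _ => Finset.sum_congr rfl fun j _ => ?_
  ring

theorem T_X (i : σ) (x y w : σ → R) : T (X i : MvPolynomial σ R) x y w = 0 := by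
  simp only [T]
  refine Finset.sum_eq_zero fun a _ => Finset.sum_eq_zero fun b _ => ?_
  rw [pderiv_X]
  by_cases h : i = b
  · subst h; simp
  · simp [h]

theorem T_C_mul (a : R) (f : MvPolynomial σ R) (x y w : σ → R) :
    T (C a * f) x y w = a * T f x y w := by
  simp only [T, Finset.mul_sum]
  refine Finset.sum_congr rfl fun i _ => Finset.sum_congr rfl fun j _ => ?_
  rw [Derivation.leibniz, map_add, smul_eq_mul, smul_eq_mul, Derivation.leibniz,
    Derivation.leibniz]
  simp
  ring

theorem D_monomial (i j l : σ) (x v : σ → R) :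
    D (X i * X j * X l : MvPolynomial σ R) x v =
      v i * x j * x l + x i * v j * x l + x i * x j * v l := by
  simp only [D_mul, D_X, map_mul, eval_X]
  ring

theorem T_monomial (i j l : σ) (x y w : σ → R) :
    T (X i * X j * X l : MvPolynomial σ R) x y w =
      x i * (y j * w l + w j * y l) + x j * (y i * w l + w i * y l) +
        x l * (y i * w j + w i * y j) := by
  simp only [T_mul, T_X, D_mul, D_X, map_mul, eval_X]
  ring

/-- a monomial exponent of degree `n+1` splits off a variable. -/
theorem exists_single_add (m : σ →₀ ℕ) (n : ℕ) (hm : m.degree = n + 1) :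
    ∃ (i : σ) (m' : σ →₀ ℕ), m = Finsupp.single i 1 + m' ∧ m'.degree = n := by
  have hne : m ≠ 0 := by
    rintro rfl
    simp at hm
  obtain ⟨i, hi⟩ : ∃ i, m i ≠ 0 := by
    by_contra hcon
    push Not at hcon
    exact hne (Finsupp.ext hcon)
  have hle : Finsupp.single i 1 ≤ m := by
    rw [Finsupp.single_le_iff]
    omega
  refine ⟨i, m - Finsupp.single i 1, (add_tsub_cancel_of_le hle).symm, ?_⟩
  have h1 : (Finsupp.single i 1 + (m - Finsupp.single i 1)).degree = n + 1 := by
    rw [add_tsub_cancel_of_le hle]; exact hm
  rw [map_add] at h1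
  simp at h1
  omega

theorem cubic_induction {P : MvPolynomial σ R → Prop} (h0 : P 0)
    (hadd : ∀ f g, P f → P g → P (f + g)) (hsmul : ∀ (a : R) f, P f → P (C a * f))
    (hmon : ∀ i j l, P (X i * X j * X l)) {f : MvPolynomial σ R} (hf : f.IsHomogeneous 3) :
    P f := by
  rw [← support_sum_monomial_coeff f]
  refine Finset.sum_induction _ P hadd h0 ?_
  intro m hm
  have hdeg : m.degree = 3 := by
    have := hf (mem_support_iff.mp hm)
    rw [Finsupp.degree_eq_weight_one]
    exact this
  obtain ⟨i, m1, rfl, h1⟩ := exists_single_add m 2 hdeg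
  obtain ⟨j, m2, rfl, h2⟩ := exists_single_add m1 1 h1
  obtain ⟨l, m3, rfl, h3⟩ := exists_single_add m2 0 h2
  have hm3 : m3 = 0 := by
    rwa [Finsupp.degree_eq_zero_iff] at h3
  subst hm3
  have : monomial (Finsupp.single i 1 + (Finsupp.single j 1 + (Finsupp.single l 1 + 0)))
      (coeff (Finsupp.single i 1 + (Finsupp.single j 1 + (Finsupp.single l 1 + 0))) f) =
      C (coeff (Finsupp.single i 1 + (Finsupp.single j 1 + (Finsupp.single l 1 + 0))) f) *
        (X i * X j * X l) := by
    rw [monomial_single_add, monomial_single_add, monomial_single_add]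
    simp only [pow_one, monomial_zero']
    ring
  rw [this]
  exact hsmul _ _ (hmon i j l)

section cubic

variable {f : MvPolynomial σ R} (hf : f.IsHomogeneous 3)

include hf

theorem eval_add (x v : σ → R) :
    eval (x + v) f = eval x f + D f x v + D f v x + eval v f := by
  revert x v
  refine cubic_induction (P := fun f => ∀ x v : σ → R,
    eval (x + v) f = eval x f + D f x v + D f v x + eval v f) ?_ ?_ ?_ ?_ hf
  · intro x v; simp [D_zero]
  · intro f g hf hg x v
    simp only [map_add, D_add, hf x v, hg x v]; ring
  · intro a f hf x v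
    simp only [map_mul, eval_C, D_C_mul, hf x v]; ring
  · intro i j l x v
    simp only [map_mul, eval_X, D_monomial, Pi.add_apply]; ring

theorem D_add_left (x y w : σ → R) :
    D f (x + y) w = D f x w + D f y w + T f x y w := by
  revert x y w
  refine cubic_induction (P := fun f => ∀ x y w : σ → R,
    D f (x + y) w = D f x w + D f y w + T f x y w) ?_ ?_ ?_ ?_ hf
  · intro x y w; simp [D_zero, T_zero]
  · intro f g hf hg x y w
    simp only [D_add, T_add, hf x y w, hg x y w]; ring
  · intro a f hf x y w
    simp only [D_C_mul, T_C_mul, hf x y w]; ring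
  · intro i j l x y w
    simp only [D_monomial, T_monomial, Pi.add_apply]; ring

theorem T_symm12 (x y w : σ → R) : T f x y w = T f y x w := by
  revert x y w
  refine cubic_induction (P := fun f => ∀ x y w : σ → R, T f x y w = T f y x w) ?_ ?_ ?_ ?_ hf
  · intro x y w; simp [T_zero]
  · intro f g hf hg x y w
    simp only [T_add, hf x y w, hg x y w]
  · intro a f hf x y w
    simp only [T_C_mul, hf x y w]
  · intro i j l x y w
    simp only [T_monomial]; ring

theorem T_symm23 (x y w : σ → R) : T f x y w = T f x w y := by
  revert x y w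
  refine cubic_induction (P := fun f => ∀ x y w : σ → R, T f x y w = T f x w y) ?_ ?_ ?_ ?_ hf
  · intro x y w; simp [T_zero]
  · intro f g hf hg x y w
    simp only [T_add, hf x y w, hg x y w]
  · intro a f hf x y w
    simp only [T_C_mul, hf x y w]
  · intro i j l x y w
    simp only [T_monomial]; ring

theorem T_add_left (x x' y w : σ → R) : T f (x + x') y w = T f x y w + T f x' y w := by
  rw [T_symm12 hf, T_add_mid, T_symm12 hf y x, T_symm12 hf y x']

theorem T_smul_left (c : R) (x y w : σ → R) : T f (c • x) y w = c * T f x y w := by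
  rw [T_symm12 hf, T_smul_mid, T_symm12 hf y x]

theorem eval_smul (c : R) (x : σ → R) : eval (c • x) f = c ^ 3 * eval x f := by
  revert x
  refine cubic_induction (P := fun f => ∀ x : σ → R, eval (c • x) f = c ^ 3 * eval x f)
    ?_ ?_ ?_ ?_ hf
  · intro x; simp
  · intro f g hf hg x
    simp only [map_add, hf x, hg x]; ring
  · intro a f hf x
    simp only [map_mul, eval_C, hf x]; ring
  · intro i j l x
    simp only [map_mul, eval_X, Pi.smul_apply, smul_eq_mul]; ring

theorem D_smul_left (c : R) (x v : σ → R) : D f (c • x) v = c ^ 2 * D f x v := by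
  revert x v
  refine cubic_induction (P := fun f => ∀ x v : σ → R, D f (c • x) v = c ^ 2 * D f x v)
    ?_ ?_ ?_ ?_ hf
  · intro x v; simp [D_zero]
  · intro f g hf hg x v
    simp only [D_add, hf x v, hg x v]; ring
  · intro a f hf x v
    simp only [D_C_mul, hf x v]; ring
  · intro i j l x v
    simp only [D_monomial, Pi.smul_apply, smul_eq_mul]; ring

theorem D_self (x : σ → R) : D f x x = 3 * eval x f := by
  revert x
  refine cubic_induction (P := fun f => ∀ x : σ → R, D f x x = 3 * eval x f) ?_ ?_ ?_ ?_ hf
  · intro x; simp [D_zero]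
  · intro f g hf hg x
    simp only [D_add, map_add, hf x, hg x]; ring
  · intro a f hf x
    simp only [D_C_mul, map_mul, eval_C, hf x]; ring
  · intro i j l x
    simp only [D_monomial, map_mul, eval_X]; ring

theorem T_self (x w : σ → R) : T f x x w = 2 * D f x w := by
  revert x w
  refine cubic_induction (P := fun f => ∀ x w : σ → R, T f x x w = 2 * D f x w) ?_ ?_ ?_ ?_ hf
  · intro x w; simp [D_zero, T_zero]
  · intro f g hf hg x w
    simp only [D_add, T_add, hf x w, hg x w]; ring
  · intro a f hf x w
    simp only [D_C_mul, T_C_mul, hf x w]; ring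
  · intro i j l x w
    simp only [D_monomial, T_monomial]; ring

theorem T_self' (x y : σ → R) : T f x y y = 2 * D f y x := by
  rw [T_symm12 hf, T_symm23 hf, T_self hf]

theorem T_self'' (x y : σ → R) : T f y x y = 2 * D f y x := by
  rw [T_symm23 hf, T_self hf]

end cubic

end Groth.Agent.Lib.H6xCubicForm
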