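import Mathlib

set_option autoImplicit false

/-! A symmetric `3 × 3` matrix of polynomials whose value at `μ₀` has one-dimensional kernel
`⟨n⟩`: the determinant has a simple root at `μ₀` as soon as `nᵀ A' n ≠ 0`. -/

namespace Groth.Agent.Lib.H6xSimpleRoot

open Matrix Polynomial

variable {k : Type*} [Field k]

theorem exists_basis_matrix (n : Fin 3 → k) (hn : n ≠ 0) :
    ∃ P : Matrix (Fin 3) (Fin 3) k, P.det ≠ 0 ∧ ∀ i, P i 2 = n i := by
  by_cases h2 : n 2 = 0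
  · by_cases h1 : n 1 = 0
    · have h0 : n 0 ≠ 0 := by
        intro h0
        apply hn
        ext i
        fin_cases i <;> assumption
      refine ⟨!![0, 0, n 0; 1, 0, n 1; 0, 1, n 2], ?_, ?_⟩
      · rw [Matrix.det_fin_three]
        simpa using h0
      · intro i; fin_cases i <;> rfl
    · refine ⟨!![1, 0, n 0; 0, 0, n 1; 0, 1, n 2], ?_, ?_⟩
      · rw [Matrix.det_fin_three]
        simpa using h1
      · intro i; fin_cases i <;> rfl
  · refine ⟨!![1, 0, n 0; 0, 1, n 1; 0, 0, n 2], ?_, ?_⟩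
    · rw [Matrix.det_fin_three]
      simpa using h2
    · intro i; fin_cases i <;> rfl

/-- derivative at `a` of `(X - a) * A + (X - a)^2 * R`. -/
theorem eval_derivative_of_eq (F A R : k[X]) (a : k)
    (h : F = (X - C a) * A + (X - C a) ^ 2 * R) : eval a (derivative F) = eval a A := by
  rw [h]
  simp [derivative_mul, derivative_pow]

theorem det_symm_three (B : Matrix (Fin 3) (Fin 3) k[X]) (hB : B.IsSymm) (a : k) (h0 h1 h2 : k[X])
    (e0 : B 0 2 = (X - C a) * h0) (e1 : B 1 2 = (X - C a) * h1) (e2 : B 2 2 = (X - C a) * h2) :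
    B.det = (X - C a) * (h2 * (B 0 0 * B 1 1 - B 0 1 * B 1 0)) +
      (X - C a) ^ 2 * (-(B 0 0 * h1 * h1) + B 0 1 * h1 * h0 + h0 * B 1 0 * h1 - h0 * B 1 1 * h0) := by
  have s20 : B 2 0 = B 0 2 := hB.apply 0 2
  have s21 : B 2 1 = B 1 2 := hB.apply 1 2
  rw [Matrix.det_fin_three, s20, s21, e0, e1, e2]
  ring

theorem simple_root (A : Matrix (Fin 3) (Fin 3) k[X]) (hA : A.IsSymm) (μ₀ : k)
    (n : Fin 3 → k) (hn0 : n ≠ 0)
    (hn : (A.map (eval μ₀)) *ᵥ n = 0)
    (hrad : ∀ m, (A.map (eval μ₀)) *ᵥ m = 0 → m ∈ Submodule.span k {n})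
    (hψ : eval μ₀ (derivative (∑ i, ∑ j, C (n i) * A i j * C (n j))) ≠ 0) :
    eval μ₀ (derivative A.det) ≠ 0 := by
  obtain ⟨P, hPdet, hPn⟩ := exists_basis_matrix n hn0
  obtain ⟨PC, hPC⟩ : ∃ PC : Matrix (Fin 3) (Fin 3) k[X], PC = P.map C := ⟨_, rfl⟩
  obtain ⟨B, hBdef⟩ : ∃ B : Matrix (Fin 3) (Fin 3) k[X], B = PCᵀ * A * PC := ⟨_, rfl⟩
  obtain ⟨A₀, hA₀⟩ : ∃ A₀ : Matrix (Fin 3) (Fin 3) k, A₀ = A.map (eval μ₀) := ⟨_, rfl⟩
  rw [← hA₀] at hn hrad
  have hPCdet : PC.det = C P.det := by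
    rw [hPC]
    exact (RingHom.map_det C P).symm
  have hBdet : B.det = C (P.det ^ 2) * A.det := by
    rw [hBdef, det_mul, det_mul, det_transpose, hPCdet, C_pow]
    ring
  have hBsymm : B.IsSymm := by
    unfold Matrix.IsSymm
    rw [hBdef, transpose_mul, transpose_mul, transpose_transpose, hA.eq, Matrix.mul_assoc]
  -- the value of `B` at `μ₀`
  have hPC0 : PC.map (eval μ₀) = P := by
    rw [hPC]
    ext i j
    simp
  have hB0 : B.map (eval μ₀) = Pᵀ * A₀ * P := by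
    have h1 : B.map (evalRingHom μ₀) =
        (PCᵀ.map (evalRingHom μ₀)) * (A.map (evalRingHom μ₀)) * (PC.map (evalRingHom μ₀)) := by
      rw [hBdef, Matrix.map_mul, Matrix.map_mul]
    have h2 : PCᵀ.map (evalRingHom μ₀) = Pᵀ := by
      rw [← hPC0]; rfl
    have h3 : PC.map (evalRingHom μ₀) = P := hPC0
    have h4 : A.map (evalRingHom μ₀) = A₀ := hA₀.symm
    rw [h2, h3, h4] at h1
    exact h1
  have hPe2 : P *ᵥ (Pi.single 2 1) = n := by
    ext i
    rw [Matrix.mulVec_single_one]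
    exact hPn i
  have hcol : ∀ i, eval μ₀ (B i 2) = 0 := by
    intro i
    have h1 : (B.map (eval μ₀)) *ᵥ (Pi.single 2 1) = 0 := by
      rw [hB0, ← Matrix.mulVec_mulVec, ← Matrix.mulVec_mulVec, hPe2, hn]
      simp
    have h2 := congrFun h1 i
    rw [Matrix.mulVec_single_one] at h2
    exact h2
  obtain ⟨h0, e0⟩ : ∃ h0, B 0 2 = (X - C μ₀) * h0 := dvd_iff_isRoot.mpr (hcol 0)
  obtain ⟨h1, e1⟩ : ∃ h1, B 1 2 = (X - C μ₀) * h1 := dvd_iff_isRoot.mpr (hcol 1)
  obtain ⟨h2, e2⟩ : ∃ h2, B 2 2 = (X - C μ₀) * h2 := dvd_iff_isRoot.mpr (hcol 2)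
  have hdet := det_symm_three B hBsymm μ₀ h0 h1 h2 e0 e1 e2
  have hder := eval_derivative_of_eq _ _ _ μ₀ hdet
  -- `h2 μ₀ = ψ' μ₀`
  have hB22 : B 2 2 = ∑ i, ∑ j, C (n i) * A i j * C (n j) := by
    rw [hBdef, Matrix.mul_apply]
    simp only [Matrix.mul_apply, Matrix.transpose_apply, hPC, Matrix.map_apply, hPn,
      Finset.sum_mul]
    rw [Finset.sum_comm]
  have hh2 : eval μ₀ h2 = eval μ₀ (derivative (∑ i, ∑ j, C (n i) * A i j * C (n j))) := by
    rw [← hB22, e2]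
    simp [derivative_mul]
  -- the `2 × 2` block is nondegenerate
  have hG : eval μ₀ (B 0 0 * B 1 1 - B 0 1 * B 1 0) ≠ 0 := by
    intro hG0
    obtain ⟨B₀, hB₀⟩ : ∃ B₀ : Matrix (Fin 3) (Fin 3) k, B₀ = B.map (eval μ₀) := ⟨_, rfl⟩
    have hent : ∀ i j, eval μ₀ (B i j) = B₀ i j := by
      intro i j; rw [hB₀]; rfl
    have hG0' : B₀ 0 0 * B₀ 1 1 - B₀ 0 1 * B₀ 1 0 = 0 := by
      rw [← hent, ← hent, ← hent, ← hent]
      simpa using hG0
    have hz02 : B₀ 0 2 = 0 := by rw [← hent]; exact hcol 0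
    have hz12 : B₀ 1 2 = 0 := by rw [← hent]; exact hcol 1
    have hz22 : B₀ 2 2 = 0 := by rw [← hent]; exact hcol 2
    have hs : B₀.IsSymm := by
      rw [hB₀]
      apply Matrix.IsSymm.ext
      intro i j
      simp only [Matrix.map_apply]
      rw [hBsymm.apply i j]
    have hz20 : B₀ 2 0 = 0 := by rw [hs.apply 0 2]; exact hz02
    have hz21 : B₀ 2 1 = 0 := by rw [hs.apply 1 2]; exact hz12
    -- a kernel vector `g = (x, y, 0)` of `B₀` other than `e₂`
    obtain ⟨x, y, hxy, hg⟩ : ∃ x y : k, (x ≠ 0 ∨ y ≠ 0) ∧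
        B₀ *ᵥ ![x, y, 0] = 0 := by
      by_cases hrow : B₀ 0 0 = 0 ∧ B₀ 0 1 = 0
      · -- first row zero on the block: by symmetry `B₀ 1 0 = 0`, take `(1, 0)` if also ... 
        have h10 : B₀ 1 0 = 0 := by rw [hs.apply 0 1]; exact hrow.2
        refine ⟨1, 0, Or.inl one_ne_zero, ?_⟩
        ext i
        fin_cases i <;> simp [Matrix.mulVec, dotProduct, Fin.sum_univ_three, hrow.1, h10, hz20]
      · refine ⟨B₀ 0 1, -B₀ 0 0, ?_, ?_⟩
        · by_contra hcon
          push Not at hcon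
          exact hrow ⟨by simpa using hcon.2, hcon.1⟩
        · have h10 : B₀ 1 0 = B₀ 0 1 := hs.apply 0 1
          ext i
          fin_cases i
          · simp [Matrix.mulVec, dotProduct, Fin.sum_univ_three]; ring
          · simp [Matrix.mulVec, dotProduct, Fin.sum_univ_three]
            rw [h10] at hG0' ⊢
            linear_combination -hG0'
          · simp [Matrix.mulVec, dotProduct, Fin.sum_univ_three, hz20, hz21]
    rw [hB₀, hB0, ← Matrix.mulVec_mulVec, ← Matrix.mulVec_mulVec] at hg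
    have hPt : Pᵀ.det ≠ 0 := by rw [det_transpose]; exact hPdet
    have hker : A₀ *ᵥ (P *ᵥ ![x, y, 0]) = 0 := Matrix.eq_zero_of_mulVec_eq_zero hPt hg
    obtain ⟨κ, hκ⟩ := Submodule.mem_span_singleton.mp (hrad _ hker)
    have hdiff : P *ᵥ (![x, y, 0] - κ • Pi.single 2 1) = 0 := by
      rw [Matrix.mulVec_sub, Matrix.mulVec_smul, hPe2, hκ, sub_self]
    have hz := Matrix.eq_zero_of_mulVec_eq_zero hPdet hdiff
    have hx : x = 0 := by simpa using congrFun hz 0
    have hy : y = 0 := by simpa using congrFun hz 1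
    exact hxy.elim (fun h => h hx) (fun h => h hy)
  -- conclusion
  intro hcon
  have h3 : eval μ₀ (derivative B.det) = 0 := by
    rw [hBdet, derivative_C_mul, eval_mul, hcon, mul_zero]
  rw [hder] at h3
  rw [eval_mul, hh2] at h3
  rcases mul_eq_zero.mp h3 with h4 | h4
  · exact hψ h4
  · exact hG h4

end Groth.Agent.Lib.H6xSimpleRoot
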