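import Groth.Agent.Lib.H6xTernaryQuad
import Groth.Agent.Lib.H6xSimpleRoot

set_option autoImplicit false

/-! Classification of plane conics by the rank of the Gram matrix. -/

namespace Groth.Agent.Lib.H6xPlaneConic

open MvPolynomial Matrix Module Groth.Agent.Lib.H6xTernaryQuad

variable {k : Type*} [Field k]

/-- the linear form with coefficient vector `a` -/
noncomputable def lin (a : Fin 3 → k) : MvPolynomial (Fin 3) k := ∑ i, a i • X i

/-- the quadratic form with Gram matrix `Q` -/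
noncomputable def quad (Q : Matrix (Fin 3) (Fin 3) k) : MvPolynomial (Fin 3) k :=
  ∑ i, ∑ j, Q i j • (X i * X j)

theorem eval_lin (a u : Fin 3 → k) : eval u (lin a) = a ⬝ᵥ u := by
  simp [lin, dotProduct, smul_eval]

theorem eval_quad (Q : Matrix (Fin 3) (Fin 3) k) (u : Fin 3 → k) : eval u (quad Q) = Qf Q u := by
  simp only [quad, Qf, bM, dotProduct, Matrix.mulVec, Fin.sum_univ_three, map_add, smul_eval,
    map_mul, eval_X]
  ring

/-- the symmetrised outer product -/
def S (a b : Fin 3 → k) : Matrix (Fin 3) (Fin 3) k :=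
  Matrix.of fun i j => (a i * b j + a j * b i) / 2

theorem S_apply (a b : Fin 3 → k) (i j : Fin 3) : S a b i j = (a i * b j + a j * b i) / 2 := rfl

theorem S_symm (a b : Fin 3 → k) : (S a b).IsSymm := by
  apply Matrix.IsSymm.ext
  intro i j
  rw [S_apply, S_apply]
  ring

section charzero

variable [CharZero k]

theorem Qf_S (a b u : Fin 3 → k) : Qf (S a b) u = (a ⬝ᵥ u) * (b ⬝ᵥ u) := by
  simp only [Qf, bM, dotProduct, Matrix.mulVec, Fin.sum_univ_three, S_apply]
  field_simp
  ring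

theorem det_S (a b : Fin 3 → k) : (S a b).det = 0 := by
  rw [Matrix.det_fin_three]
  simp only [S_apply]
  field_simp
  ring

theorem eq_of_Qf_eq (Q Q' : Matrix (Fin 3) (Fin 3) k) (hQ : Q.IsSymm) (hQ' : Q'.IsSymm)
    (h : ∀ u, Qf Q u = Qf Q' u) : Q = Q' := by
  ext i j
  have key : ∀ M : Matrix (Fin 3) (Fin 3) k, M.IsSymm → M i j =
      (Qf M (Pi.single i 1 + Pi.single j 1) - Qf M (Pi.single i 1) - Qf M (Pi.single j 1)) / 2 := by
    intro M hM
    rw [Qf_add M hM]
    have : bM M (Pi.single i 1) (Pi.single j 1) = M i j := by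
      simp [bM]
    rw [this]
    field_simp
    ring
  rw [key Q hQ, key Q' hQ', h, h, h]

theorem lin_mul_lin (a b : Fin 3 → k) : lin a * lin b = quad (S a b) := by
  apply MvPolynomial.funext
  intro u
  rw [map_mul, eval_lin, eval_lin, eval_quad, Qf_S]

theorem quad_injective (Q Q' : Matrix (Fin 3) (Fin 3) k) (hQ : Q.IsSymm) (hQ' : Q'.IsSymm)
    (h : quad Q = quad Q') : Q = Q' := by
  apply eq_of_Qf_eq Q Q' hQ hQ'
  intro u
  rw [← eval_quad, ← eval_quad, h]

theorem quad_eq_lin_mul_lin_iff (Q : Matrix (Fin 3) (Fin 3) k) (hQ : Q.IsSymm) (a b : Fin 3 → k) :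
    quad Q = lin a * lin b ↔ Q = S a b := by
  rw [lin_mul_lin]
  exact ⟨fun h => quad_injective Q _ hQ (S_symm a b) h, fun h => by rw [h]⟩

theorem exists_binary_factor [IsAlgClosed k] (α β γ : k) :
    ∃ p r p' r' : k, ∀ x y : k, α * x ^ 2 + β * x * y + γ * y ^ 2 = (p * x + r * y) * (p' * x + r' * y) := by
  by_cases hα : α = 0
  · refine ⟨0, 1, β, γ, fun x y => ?_⟩
    rw [hα]; ring
  · obtain ⟨t, ht⟩ : ∃ t : k, α * t ^ 2 + β * t + γ = 0 := by
      have hdeg : (Polynomial.C α * Polynomial.X ^ 2 + Polynomial.C β * Polynomial.X +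
          Polynomial.C γ).degree = 2 := Polynomial.degree_quadratic hα
      obtain ⟨t, ht⟩ := IsAlgClosed.exists_root (Polynomial.C α * Polynomial.X ^ 2 +
        Polynomial.C β * Polynomial.X + Polynomial.C γ) (by rw [hdeg]; norm_num)
      refine ⟨t, ?_⟩
      simpa using ht
    refine ⟨1, -t, α, β + α * t, fun x y => ?_⟩
    linear_combination (y ^ 2) * ht

/-- a degenerate ternary quadratic form over an algebraically closed field is a product of two
linear forms. -/
theorem exists_factor [IsAlgClosed k] (Q : Matrix (Fin 3) (Fin 3) k) (hQ : Q.IsSymm)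
    (hdet : Q.det = 0) : ∃ a b : Fin 3 → k, Q = S a b := by
  obtain ⟨n, hn0, hn⟩ := Matrix.exists_mulVec_eq_zero_iff.mpr hdet
  obtain ⟨P, hPdet, hPn⟩ := Groth.Agent.Lib.H6xSimpleRoot.exists_basis_matrix n hn0
  have hPe2 : P *ᵥ (Pi.single 2 1) = n := by
    ext i
    rw [Matrix.mulVec_single_one]
    exact hPn i
  obtain ⟨Q', hQ'def⟩ : ∃ Q' : Matrix (Fin 3) (Fin 3) k, Q' = Pᵀ * Q * P := ⟨_, rfl⟩
  have hQ'symm : Q'.IsSymm := by
    unfold Matrix.IsSymm
    rw [hQ'def, transpose_mul, transpose_mul, transpose_transpose, hQ.eq, Matrix.mul_assoc]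
  have hcol : ∀ i, Q' i 2 = 0 := by
    intro i
    have h1 : Q' *ᵥ (Pi.single 2 1) = 0 := by
      rw [hQ'def, ← Matrix.mulVec_mulVec, ← Matrix.mulVec_mulVec, hPe2, hn]
      simp
    have h2 := congrFun h1 i
    rw [Matrix.mulVec_single_one] at h2
    exact h2
  have hrow : ∀ j, Q' 2 j = 0 := fun j => by rw [hQ'symm.apply j 2]; exact hcol j
  have hQf' : ∀ y : Fin 3 → k, Qf Q' y = Q' 0 0 * y 0 ^ 2 + (2 * Q' 0 1) * y 0 * y 1 +
      Q' 1 1 * y 1 ^ 2 := by
    intro y
    simp only [Qf, bM, dotProduct, Matrix.mulVec, Fin.sum_univ_three, hcol 0, hcol 1, hcol 2,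
      hrow 0, hrow 1, hQ'symm.apply 0 1]
    ring
  have hQfP : ∀ y : Fin 3 → k, Qf Q' y = Qf Q (P *ᵥ y) := by
    intro y
    simp only [Qf, bM]
    rw [hQ'def, ← Matrix.mulVec_mulVec, ← Matrix.mulVec_mulVec, Matrix.dotProduct_mulVec,
      Matrix.vecMul_transpose]
  obtain ⟨p, r, p', r', hfac⟩ := exists_binary_factor (Q' 0 0) (2 * Q' 0 1) (Q' 1 1)
  have hPinv : P * P⁻¹ = 1 := Matrix.mul_nonsing_inv P (isUnit_iff_ne_zero.mpr hPdet)
  refine ⟨![p, r, 0] ᵥ* P⁻¹, ![p', r', 0] ᵥ* P⁻¹, ?_⟩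
  apply eq_of_Qf_eq Q _ hQ (S_symm _ _)
  intro u
  have hu : P *ᵥ (P⁻¹ *ᵥ u) = u := by rw [Matrix.mulVec_mulVec, hPinv, Matrix.one_mulVec]
  rw [Qf_S, ← Matrix.dotProduct_mulVec, ← Matrix.dotProduct_mulVec]
  conv_lhs => rw [← hu]
  rw [← hQfP, hQf', hfac]
  simp [dotProduct, Fin.sum_univ_three]

theorem mulVec_S (a b v : Fin 3 → k) :
    S a b *ᵥ v = (2 : k)⁻¹ • ((b ⬝ᵥ v) • a + (a ⬝ᵥ v) • b) := by
  ext i
  simp only [Matrix.mulVec, dotProduct, S_apply, Fin.sum_univ_three, Pi.smul_apply, Pi.add_apply,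
    smul_eq_mul]
  field_simp
  ring

theorem ker_S (a b : Fin 3 → k) (hab : LinearIndependent k ![a, b]) :
    LinearMap.ker (S a b).mulVecLin = Submodule.span k {a ⨯₃ b} := by
  have hn : a ⨯₃ b ≠ 0 := crossProduct_ne_zero_iff_linearIndependent.mpr hab
  apply le_antisymm
  · intro v hv
    have hv' : S a b *ᵥ v = 0 := hv
    rw [mulVec_S] at hv'
    have h2 : (b ⬝ᵥ v) • a + (a ⬝ᵥ v) • b = 0 :=
      (smul_eq_zero.mp hv').resolve_left (by norm_num)
    obtain ⟨h3, h4⟩ := LinearIndependent.pair_iff.mp hab _ _ h2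
    have h5 : (a ⨯₃ b) ⨯₃ v = 0 := by
      rw [cross_cross_eq_smul_sub_smul, h3, h4]; simp
    have h6 : ¬ LinearIndependent k ![a ⨯₃ b, v] := fun h =>
      crossProduct_ne_zero_iff_linearIndependent.mpr h h5
    rw [LinearIndependent.pair_iff' hn] at h6
    push Not at h6
    obtain ⟨c, hc⟩ := h6
    exact Submodule.mem_span_singleton.mpr ⟨c, hc⟩
  · rw [Submodule.span_le]
    intro v hv
    rw [Set.mem_singleton_iff] at hv
    show S a b *ᵥ v = 0
    rw [hv, mulVec_S, dot_self_cross, dot_cross_self]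
    simp

theorem rank_S (a b : Fin 3 → k) (hab : LinearIndependent k ![a, b]) : (S a b).rank = 2 := by
  have hn : a ⨯₃ b ≠ 0 := crossProduct_ne_zero_iff_linearIndependent.mpr hab
  have h1 := LinearMap.finrank_range_add_finrank_ker (S a b).mulVecLin
  rw [ker_S a b hab, finrank_span_singleton hn] at h1
  simp only [finrank_fintype_fun_eq_card, Fintype.card_fin] at h1
  unfold Matrix.rank
  omega

theorem rank_S_smul_le (a : Fin 3 → k) (c : k) : (S a (c • a)).rank ≤ 1 := by
  have : S a (c • a) = Matrix.vecMulVec a (c • a) := by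
    ext i j
    rw [S_apply, Matrix.vecMulVec_apply]
    simp only [Pi.smul_apply, smul_eq_mul]
    field_simp
    ring
  rw [this]
  exact Matrix.rank_vecMulVec_le _ _

theorem S_zero_left (b : Fin 3 → k) : S 0 b = 0 := by
  ext i j
  simp [S_apply]

theorem eq_zero_of_rank_eq_zero (Q : Matrix (Fin 3) (Fin 3) k) (h : Q.rank = 0) : Q = 0 := by
  rw [Matrix.rank, Submodule.finrank_eq_zero, LinearMap.range_eq_bot] at h
  ext i j
  have h1 : Q.mulVecLin (Pi.single j 1) i = 0 := by rw [h]; rfl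
  rw [Matrix.mulVecLin_apply, Matrix.mulVec_single_one] at h1
  exact h1

theorem det_eq_zero_of_rank_lt (Q : Matrix (Fin 3) (Fin 3) k) (h : Q.rank < 3) : Q.det = 0 := by
  by_contra hdet
  have := Matrix.rank_of_det_ne_zero hdet
  simp at this
  omega

theorem not_linearIndependent_cases (a b : Fin 3 → k) (h : ¬ LinearIndependent k ![a, b]) :
    a = 0 ∨ ∃ c : k, b = c • a := by
  by_cases ha : a = 0
  · exact Or.inl ha
  · right
    rw [LinearIndependent.pair_iff' ha] at h
    push Not at h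
    obtain ⟨c, hc⟩ := h
    exact ⟨c, hc.symm⟩

theorem eval_pderiv_quad (Q : Matrix (Fin 3) (Fin 3) k) (hQ : Q.IsSymm) (u : Fin 3 → k)
    (i : Fin 3) : eval u (pderiv i (quad Q)) = 2 * (Q *ᵥ u) i := by
  have h01 := hQ.apply 0 1
  have h02 := hQ.apply 0 2
  have h12 := hQ.apply 1 2
  fin_cases i <;>
    simp [quad, Fin.sum_univ_three, Matrix.mulVec, dotProduct, Derivation.leibniz, pderiv_X,
      h01, h02, h12] <;> ring

theorem isHomogeneous_quad (Q : Matrix (Fin 3) (Fin 3) k) : (quad Q).IsHomogeneous 2 := by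
  unfold quad
  refine IsHomogeneous.sum _ _ _ fun i _ => IsHomogeneous.sum _ _ _ fun j _ => ?_
  rw [smul_eq_C_mul]
  exact IsHomogeneous.C_mul ((isHomogeneous_X k i).mul (isHomogeneous_X k j)) _

theorem not_isUnit_lin (a : Fin 3 → k) : ¬ IsUnit (lin a) := by
  intro h
  have h2 := h.map (eval (0 : Fin 3 → k))
  rw [eval_lin] at h2
  simp at h2

theorem exists_lin_of_isHomogeneous_one (g : MvPolynomial (Fin 3) k) (hg : g.IsHomogeneous 1) :
    ∃ a : Fin 3 → k, g = lin a := by
  have h1 : g ∈ homogeneousSubmodule (Fin 3) k 1 := hg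
  rw [homogeneousSubmodule_one_eq_span_X] at h1
  obtain ⟨a, ha⟩ := (Submodule.mem_span_range_iff_exists_fun k).mp h1
  exact ⟨a, ha.symm⟩

/-- a factorisation of a ternary quadratic form into non-units is a factorisation into linear
forms. -/
theorem exists_lin_factor_of_mul (Q : Matrix (Fin 3) (Fin 3) k) (hQ0 : quad Q ≠ 0)
    (g h : MvPolynomial (Fin 3) k) (hgh : quad Q = g * h) (hg : ¬ IsUnit g) (hh : ¬ IsUnit h) :
    ∃ a b : Fin 3 → k, quad Q = lin a * lin b := by
  have hg0 : g ≠ 0 := by rintro rfl; exact hQ0 (by rw [hgh, zero_mul])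
  have hh0 : h ≠ 0 := by rintro rfl; exact hQ0 (by rw [hgh, mul_zero])
  have hdeg : g.totalDegree + h.totalDegree = 2 := by
    rw [← totalDegree_mul_of_isDomain hg0 hh0, ← hgh]
    exact (isHomogeneous_quad Q).totalDegree hQ0
  have hconst : ∀ p : MvPolynomial (Fin 3) k, p ≠ 0 → p.totalDegree = 0 → IsUnit p := by
    intro p hp0 hp
    rw [totalDegree_eq_zero_iff_eq_C] at hp
    rw [hp]
    apply IsUnit.map
    rw [isUnit_iff_ne_zero]
    intro hc
    apply hp0
    rw [hp, hc, map_zero]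
  have hg1 : g.totalDegree = 1 := by
    have h1 : g.totalDegree ≠ 0 := fun h0 => hg (hconst g hg0 h0)
    have h2 : h.totalDegree ≠ 0 := fun h0 => hh (hconst h hh0 h0)
    omega
  have hh1 : h.totalDegree = 1 := by omega
  have hgsum : g = homogeneousComponent 0 g + homogeneousComponent 1 g := by
    have := sum_homogeneousComponent g
    rw [hg1, Finset.sum_range_succ, Finset.sum_range_succ, Finset.sum_range_zero, zero_add] at this
    exact this.symm
  have hhsum : h = homogeneousComponent 0 h + homogeneousComponent 1 h := by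
    have := sum_homogeneousComponent h
    rw [hh1, Finset.sum_range_succ, Finset.sum_range_succ, Finset.sum_range_zero, zero_add] at this
    exact this.symm
  have hg0' : (homogeneousComponent 0 g).IsHomogeneous 0 := homogeneousComponent_isHomogeneous 0 g
  have hg1' : (homogeneousComponent 1 g).IsHomogeneous 1 := homogeneousComponent_isHomogeneous 1 g
  have hh0' : (homogeneousComponent 0 h).IsHomogeneous 0 := homogeneousComponent_isHomogeneous 0 h
  have hh1' : (homogeneousComponent 1 h).IsHomogeneous 1 := homogeneousComponent_isHomogeneous 1 h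
  have key : quad Q = homogeneousComponent 1 g * homogeneousComponent 1 h := by
    have e1 : homogeneousComponent 2 (quad Q) = quad Q := by
      rw [homogeneousComponent_of_mem (isHomogeneous_quad Q)]; simp
    have e2 : g * h = homogeneousComponent 0 g * homogeneousComponent 0 h +
        homogeneousComponent 0 g * homogeneousComponent 1 h +
        homogeneousComponent 1 g * homogeneousComponent 0 h +
        homogeneousComponent 1 g * homogeneousComponent 1 h := by
      conv_lhs => rw [hgsum, hhsum]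
      ring
    rw [← e1, hgh, e2, map_add, map_add, map_add,
      homogeneousComponent_of_mem (hg0'.mul hh0'), homogeneousComponent_of_mem (hg0'.mul hh1'),
      homogeneousComponent_of_mem (hg1'.mul hh0'), homogeneousComponent_of_mem (hg1'.mul hh1')]
    simp
  obtain ⟨a, ha⟩ := exists_lin_of_isHomogeneous_one _ hg1'
  obtain ⟨b, hb⟩ := exists_lin_of_isHomogeneous_one _ hh1'
  exact ⟨a, b, by rw [key, ha, hb]⟩

theorem quad_zero : quad (0 : Matrix (Fin 3) (Fin 3) k) = 0 := by simp [quad]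

theorem main [IsAlgClosed k] (Q : Matrix (Fin 3) (Fin 3) k) (hQ : Q.IsSymm) (hQ0 : Q ≠ 0) :
    (Irreducible (quad Q) ↔ Q.det ≠ 0) ∧
    ((∃ u : Fin 3 → k, u ≠ 0 ∧ ∀ i : Fin 3, eval u (pderiv i (quad Q)) = 0) ↔ Q.det = 0) ∧
    ((∃ a b : Fin 3 → k, LinearIndependent k ![a, b] ∧ quad Q = lin a * lin b) ↔ Q.rank = 2) ∧
    ((∃ a : Fin 3 → k, quad Q = lin a ^ 2) ↔ Q.rank = 1) := by
  have hq0 : quad Q ≠ 0 := by
    intro h
    apply hQ0
    apply quad_injective Q 0 hQ (by simp [Matrix.IsSymm])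
    rw [h, quad_zero]
  have hrank0 : Q.rank ≠ 0 := fun h => hQ0 (eq_zero_of_rank_eq_zero Q h)
  refine ⟨⟨?_, ?_⟩, ⟨?_, ?_⟩, ⟨?_, ?_⟩, ⟨?_, ?_⟩⟩
  · intro hirr hdet
    obtain ⟨a, b, hab⟩ := exists_factor Q hQ hdet
    have h1 := (quad_eq_lin_mul_lin_iff Q hQ a b).mpr hab
    rcases hirr.isUnit_or_isUnit h1 with h2 | h2
    · exact not_isUnit_lin a h2
    · exact not_isUnit_lin b h2
  · intro hdet
    refine ⟨?_, ?_⟩
    · intro hu
      have h2 := hu.map (eval (0 : Fin 3 → k))
      rw [eval_quad] at h2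
      simp [Qf, bM] at h2
    · intro g h hgh
      by_contra hcon
      push Not at hcon
      obtain ⟨a, b, hab⟩ := exists_lin_factor_of_mul Q hq0 g h hgh hcon.1 hcon.2
      have h1 := (quad_eq_lin_mul_lin_iff Q hQ a b).mp hab
      apply hdet
      rw [h1, det_S]
  · rintro ⟨u, hu0, hu⟩
    refine Matrix.exists_mulVec_eq_zero_iff.mp ⟨u, hu0, ?_⟩
    ext i
    have h1 := hu i
    rw [eval_pderiv_quad Q hQ] at h1
    exact (mul_eq_zero.mp h1).resolve_left two_ne_zero
  · intro hdet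
    obtain ⟨u, hu0, hu⟩ := Matrix.exists_mulVec_eq_zero_iff.mpr hdet
    refine ⟨u, hu0, fun i => ?_⟩
    rw [eval_pderiv_quad Q hQ, hu]
    simp
  · rintro ⟨a, b, hab, hf⟩
    rw [(quad_eq_lin_mul_lin_iff Q hQ a b).mp hf]
    exact rank_S a b hab
  · intro hr
    obtain ⟨a, b, hab⟩ := exists_factor Q hQ (det_eq_zero_of_rank_lt Q (by omega))
    refine ⟨a, b, ?_, (quad_eq_lin_mul_lin_iff Q hQ a b).mpr hab⟩
    by_contra hli
    rcases not_linearIndependent_cases a b hli with h | ⟨c, hc⟩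
    · apply hQ0
      rw [hab, h, S_zero_left]
    · have := rank_S_smul_le a c
      rw [← hc, ← hab] at this
      omega
  · rintro ⟨a, hf⟩
    rw [pow_two] at hf
    have h1 := (quad_eq_lin_mul_lin_iff Q hQ a a).mp hf
    have h2 := rank_S_smul_le a 1
    rw [one_smul, ← h1] at h2
    omega
  · intro hr
    obtain ⟨a, b, hab⟩ := exists_factor Q hQ (det_eq_zero_of_rank_lt Q (by omega))
    by_cases hli : LinearIndependent k ![a, b]
    · have := rank_S a b hli
      rw [← hab] at this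
      omega
    · rcases not_linearIndependent_cases a b hli with h | ⟨c, hc⟩
      · exfalso
        apply hQ0
        rw [hab, h, S_zero_left]
      · obtain ⟨z, hz⟩ := IsAlgClosed.exists_pow_nat_eq c (n := 2) (by norm_num)
        refine ⟨z • a, ?_⟩
        rw [pow_two, quad_eq_lin_mul_lin_iff Q hQ, hab, hc]
        ext i j
        simp only [S_apply, Pi.smul_apply, smul_eq_mul]
        rw [← hz]
        ring

end charzero

end Groth.Agent.Lib.H6xPlaneConic
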