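import Groth.Agent.Lib.H6xCubicSingA
import Groth.Agent.Lib.H6xPlaneConic

set_option autoImplicit false

/-! Smooth points of cubic surfaces: the first polar restricted to the tangent plane. -/

namespace Groth.Agent.Lib.H6xCubicPolar

open MvPolynomial Groth.Agent.Lib.H6xCubicForm Groth.Agent.Lib.H6xNodalCubic
  Groth.Agent.Lib.H6xCubicSing Module

section basis

variable {K : Type*} [Field K]

/-- A basis of `K^4` adapted to a hyperplane `ker l` and a nonzero vector `a` in it. -/
theorem exists_adapted_basis (l : (Fin 4 → K) →ₗ[K] K) (hl : l ≠ 0) (a : Fin 4 → K)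
    (ha : a ≠ 0) (hla : l a = 0) :
    ∃ bas : Basis (Fin 4) K (Fin 4 → K), bas 0 = a ∧ l (bas 1) = 0 ∧ l (bas 2) = 0 ∧
      l (bas 3) = 1 := by
  have h3 := finrank_ker_functional l hl
  set aW : LinearMap.ker l := ⟨a, hla⟩ with haW
  obtain ⟨x, hx⟩ := Groth.Agent.Lib.H6xTernaryQuad.exists_not_mem_span2 (k := K) h3 aW aW
  have hx1 : x.1 ∉ Submodule.span K {a} := by
    intro hmem
    obtain ⟨c, hc⟩ := Submodule.mem_span_singleton.mp hmem
    apply hx
    have : x = c • aW := Subtype.ext hc.symm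
    rw [this]
    exact Submodule.smul_mem _ _ (Submodule.subset_span (by simp))
  obtain ⟨h2, hlh2, hh2, -⟩ := exists_frame l hl a x.1 ha hla x.2 hx1
  obtain ⟨w, hw⟩ := l.surjective_or_eq_zero.resolve_right hl 1
  have hw' : w ∉ Submodule.span K {a, x.1, h2} := by
    intro hmem
    have hle : Submodule.span K {a, x.1, h2} ≤ LinearMap.ker l := by
      rw [Submodule.span_le]
      intro z hz
      simp only [Set.mem_insert_iff, Set.mem_singleton_iff] at hz
      rcases hz with h | h | h <;> rw [h]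
      · exact hla
      · exact x.2
      · exact hlh2
    have := hle hmem
    rw [LinearMap.mem_ker, hw] at this
    exact one_ne_zero this
  have htop := span_four_eq_top (k := K) (by simp) ha hx1 hh2 hw'
  have hrange : Set.range ![a, x.1, h2, w] = {a, x.1, h2, w} := by
    ext z
    simp only [Matrix.range_cons, Matrix.range_empty, Set.union_empty, Set.mem_union,
      Set.mem_singleton_iff, Set.mem_insert_iff]
  refine ⟨basisOfTopLeSpanOfCardEqFinrank ![a, x.1, h2, w] (by rw [hrange, htop]) (by simp),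
    ?_, ?_, ?_, ?_⟩
  · simp
  · simp
  · simpa using hlh2
  · simpa using hw

end basis

section alg

variable {K : Type*} [Field K] [IsAlgClosed K] [CharZero K]

theorem exists_binary_cubic_factor (c0 c1 c2 c3 : K) :
    ∃ α1 β1 α2 β2 α3 β3 : K, ∀ x y : K,
      c0 * x ^ 3 + c1 * x ^ 2 * y + c2 * x * y ^ 2 + c3 * y ^ 3 =
        (α1 * x + β1 * y) * (α2 * x + β2 * y) * (α3 * x + β3 * y) := by
  by_cases hc0 : c0 = 0
  · obtain ⟨p, r, p', r', h⟩ := Groth.Agent.Lib.H6xPlaneConic.exists_binary_factor c1 c2 c3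
    refine ⟨0, 1, p, r, p', r', fun x y => ?_⟩
    have := h x y
    rw [hc0]
    linear_combination y * this
  · obtain ⟨t, ht⟩ : ∃ t : K, c0 * t ^ 3 + c1 * t ^ 2 + c2 * t + c3 = 0 := by
      have hdeg : (Polynomial.C c0 * Polynomial.X ^ 3 + Polynomial.C c1 * Polynomial.X ^ 2 +
          Polynomial.C c2 * Polynomial.X + Polynomial.C c3).degree = 3 :=
        Polynomial.degree_cubic hc0
      obtain ⟨t, ht⟩ := IsAlgClosed.exists_root (Polynomial.C c0 * Polynomial.X ^ 3 +
        Polynomial.C c1 * Polynomial.X ^ 2 + Polynomial.C c2 * Polynomial.X +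
        Polynomial.C c3) (by rw [hdeg]; norm_num)
      refine ⟨t, ?_⟩
      simpa using ht
    obtain ⟨p, r, p', r', h⟩ := Groth.Agent.Lib.H6xPlaneConic.exists_binary_factor c0
      (c1 + c0 * t) (c2 + c1 * t + c0 * t ^ 2)
    refine ⟨1, -t, p, r, p', r', fun x y => ?_⟩
    have := h x y
    linear_combination (y ^ 3) * ht + (x - t * y) * this

theorem irreducible_linpoly (l : (Fin 4 → K) →ₗ[K] K) (hl : l ≠ 0) :
    Irreducible (linpoly l) := by
  have h0 := linpoly_ne_zero l hl
  refine irreducible_of_totalDegree_eq_one ((linpoly_isHomogeneous l).totalDegree h0) ?_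
  intro x hx
  obtain ⟨m, hm⟩ := MvPolynomial.ne_zero_iff.mp h0
  have hx0 : x ≠ 0 := by
    rintro rfl
    exact hm (zero_dvd_iff.mp (hx m))
  exact isUnit_iff_ne_zero.mpr hx0

/-- a polynomial vanishing on a hyperplane is a multiple of its equation -/
theorem mem_span_linpoly_of_vanish (l : (Fin 4 → K) →ₗ[K] K) (hl : l ≠ 0)
    (g : MvPolynomial (Fin 4) K) (hg : ∀ x, l x = 0 → eval x g = 0) :
    g ∈ Ideal.span {linpoly l} := by
  have hprime : (Ideal.span {linpoly l}).IsPrime := by
    rw [Ideal.span_singleton_prime (linpoly_ne_zero l hl)]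
    exact (irreducible_linpoly l hl).prime
  rw [← IsPrime.vanishingIdeal_zeroLocus (K := K) (Ideal.span {linpoly l}),
    mem_vanishingIdeal_iff]
  intro x hx
  have h1 : aeval x (linpoly l) = 0 := hx _ (Ideal.subset_span rfl)
  rw [aeval_eq_eval] at h1 ⊢
  rw [eval_linpoly] at h1
  exact hg x h1

end alg

end Groth.Agent.Lib.H6xCubicPolar
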