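import Groth.Agent.Lib.H6xCubicPolarA

set_option autoImplicit false

/-! Smooth points of cubic surfaces: the first polar restricted to the tangent plane is a pair of
lines unless the point is a T-point. -/

namespace Groth.Agent.Lib.H6xCubicPolar

open MvPolynomial Groth.Agent.Lib.H6xCubicForm Groth.Agent.Lib.H6xNodalCubic
  Groth.Agent.Lib.H6xCubicSing Module

section setting

variable {K : Type*} [Field K] [CharZero K]
  (f : MvPolynomial (Fin 4) K) (hf : f.IsHomogeneous 3) (a : Fin 4 → K) (hFa : eval a f = 0)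

include hf hFa in
theorem D_a_a : D f a a = 0 := by rw [D_self hf, hFa, mul_zero]

include hf hFa in
theorem taylor (s : K) (u : Fin 4 → K) :
    eval (s • a + u) f = s ^ 2 * D f a u + s * Q f a u + eval u f := by
  rw [eval_add hf, eval_smul hf, hFa, D_smul_left hf, D_smul_right]
  simp [Q]

include hf hFa in
theorem Q_add_a (s : K) (u : Fin 4 → K) (hu : D f a u = 0) : Q f a (s • a + u) = Q f a u := by
  have h1 : Q f a a = 0 := D_a_a f hf a hFa
  have h2 : B f a a u = 0 := by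
    show T f a a u = 0
    rw [T_self hf, hu, mul_zero]
  rw [Q_add f hf, Q_smul f hf, h1, B_smul_left, h2]
  ring

include hf hFa in
/-- every line of the surface through `a` lies in the tangent plane and in the first polar. -/
theorem line_subset_polar (ha : a ≠ 0) (U : Submodule K (Fin 4 → K)) (haU : a ∈ U)
    (hU : finrank K U = 2) (hFU : ∀ u ∈ U, eval u f = 0) (u : Fin 4 → K) (hu : u ∈ U) :
    D f a u = 0 ∧ Q f a u = 0 := by
  obtain ⟨u0, hu0U, -, hUeq⟩ := exists_span_pair U hU a haU ha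
  have e1 := taylor f hf a hFa 1 u0
  have e2 := taylor f hf a hFa (-1) u0
  rw [hFU _ (U.add_mem (U.smul_mem _ haU) hu0U), hFU _ hu0U] at e1 e2
  have hD : D f a u0 = 0 := by linear_combination (-1 / 2 : K) * e1 + (-1 / 2 : K) * e2
  have hQ : Q f a u0 = 0 := by linear_combination (-1 / 2 : K) * e1 + (1 / 2 : K) * e2
  rw [hUeq] at hu
  obtain ⟨s, t, rfl⟩ := Submodule.mem_span_pair.mp hu
  have hD' : D f a (t • u0) = 0 := by rw [D_smul_right, hD, mul_zero]
  refine ⟨?_, ?_⟩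
  · rw [D_add_right, D_smul_right, D_a_a f hf a hFa, hD', mul_zero, add_zero]
  · rw [Q_add_a f hf a hFa s _ hD', Q_smul f hf, hQ, mul_zero]

section coords

variable (bas : Basis (Fin 4) K (Fin 4 → K))

omit [CharZero K] in
theorem decomp (x : Fin 4 → K) :
    x = bas.coord 0 x • bas 0 + bas.coord 1 x • bas 1 + bas.coord 2 x • bas 2 +
      bas.coord 3 x • bas 3 := by
  have h := bas.sum_repr x
  rw [Fin.sum_univ_four] at h
  simpa using h.symm

omit [CharZero K] in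
theorem coord_self (i j : Fin 4) : bas.coord i (bas j) = if j = i then 1 else 0 := by
  simp [Finsupp.single_apply]

omit [CharZero K] in
theorem finrank_ker_prod (p r : K) (hpr : p ≠ 0 ∨ r ≠ 0) :
    finrank K (LinearMap.ker ((bas.coord 3).prod (p • bas.coord 1 + r • bas.coord 2))) = 2 := by
  set φ := (bas.coord 3).prod (p • bas.coord 1 + r • bas.coord 2) with hφ
  have hsurj : Function.Surjective φ := by
    obtain ⟨v, hv3, hv⟩ : ∃ v, bas.coord 3 v = 0 ∧
        (p • bas.coord 1 + r • bas.coord 2) v = 1 := by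
      by_cases hp : p = 0
      · have hr : r ≠ 0 := hpr.resolve_left (not_not.mpr hp)
        refine ⟨r⁻¹ • bas 2, ?_, ?_⟩
        · simp
        · simp [hp, hr]
      · refine ⟨p⁻¹ • bas 1, ?_, ?_⟩
        · simp
        · simp [hp]
    rintro ⟨y1, y2⟩
    refine ⟨y1 • bas 3 + y2 • v, ?_⟩
    have h33 : bas.coord 3 (bas 3) = 1 := by simp
    have hμ3 : (p • bas.coord 1 + r • bas.coord 2) (bas 3) = 0 := by simp
    rw [hφ, LinearMap.prod_apply]
    show (bas.coord 3 (y1 • bas 3 + y2 • v),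
      (p • bas.coord 1 + r • bas.coord 2) (y1 • bas 3 + y2 • v)) = (y1, y2)
    rw [map_add, map_add, map_smul, map_smul, map_smul, map_smul, h33, hv3, hμ3, hv]
    simp
  have h1 := LinearMap.finrank_range_add_finrank_ker φ
  rw [LinearMap.range_eq_top.mpr hsurj, finrank_top] at h1
  simp at h1
  omega

variable (h0 : bas 0 = a) (h1 : D f a (bas 1) = 0) (h2 : D f a (bas 2) = 0)
  (h3 : D f a (bas 3) = 1)

include hf hFa h0 h1 h2 h3 in
theorem D_eq_coord (x : Fin 4 → K) : D f a x = bas.coord 3 x := by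
  conv_lhs => rw [decomp bas x]
  simp only [D_add_right, D_smul_right, h0, D_a_a f hf a hFa, h1, h2, h3]
  ring

include hf hFa h0 h1 h2 h3 in
theorem Q_eq_coord (x : Fin 4 → K) (hx : D f a x = 0) :
    Q f a x = Q f a (bas 1) * (bas.coord 1 x) ^ 2 + B f a (bas 1) (bas 2) * bas.coord 1 x *
      bas.coord 2 x + Q f a (bas 2) * (bas.coord 2 x) ^ 2 := by
  have hc3 : bas.coord 3 x = 0 := by rw [← D_eq_coord f hf a hFa bas h0 h1 h2 h3, hx]
  have hD : D f a (bas.coord 1 x • bas 1 + bas.coord 2 x • bas 2) = 0 := by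
    rw [D_add_right, D_smul_right, D_smul_right, h1, h2]; ring
  conv_lhs => rw [decomp bas x, hc3, zero_smul, add_zero, h0, add_assoc,
    Q_add_a f hf a hFa _ _ hD]
  rw [Q_add f hf, Q_smul f hf, Q_smul f hf, B_smul_left, B_smul_right]
  ring

include hf hFa h0 h1 h2 h3 in
theorem F_eq_coord (hQ1 : Q f a (bas 1) = 0) (hQ2 : Q f a (bas 2) = 0)
    (hB : B f a (bas 1) (bas 2) = 0) (x : Fin 4 → K) (hx : D f a x = 0) :
    eval x f = eval (bas 1) f * (bas.coord 1 x) ^ 3 + D f (bas 1) (bas 2) * (bas.coord 1 x) ^ 2 *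
      bas.coord 2 x + D f (bas 2) (bas 1) * bas.coord 1 x * (bas.coord 2 x) ^ 2 +
      eval (bas 2) f * (bas.coord 2 x) ^ 3 := by
  have hc3 : bas.coord 3 x = 0 := by rw [← D_eq_coord f hf a hFa bas h0 h1 h2 h3, hx]
  have hD : D f a (bas.coord 1 x • bas 1 + bas.coord 2 x • bas 2) = 0 := by
    rw [D_add_right, D_smul_right, D_smul_right, h1, h2]; ring
  have hQ : Q f a (bas.coord 1 x • bas 1 + bas.coord 2 x • bas 2) = 0 := by
    rw [Q_add f hf, Q_smul f hf, Q_smul f hf, B_smul_left, B_smul_right, hQ1, hQ2, hB]; ring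
  conv_lhs => rw [decomp bas x, hc3, zero_smul, add_zero, h0, add_assoc,
    taylor f hf a hFa, hD, hQ]
  rw [eval_add hf, eval_smul hf, eval_smul hf, D_smul_left hf, D_smul_right, D_smul_left hf,
    D_smul_right]
  ring

variable [IsAlgClosed K]

include hf hFa h0 h1 h2 h3 in
/-- if the first polar vanishes on the tangent plane, `a` is a T-point -/
theorem exists_three_lines (hsm : Dlin f a ≠ 0) (hQ1 : Q f a (bas 1) = 0)
    (hQ2 : Q f a (bas 2) = 0) (hB : B f a (bas 1) (bas 2) = 0) :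
    ∃ L₁ L₂ L₃ : MvPolynomial (Fin 4) K, L₁.IsHomogeneous 1 ∧ L₂.IsHomogeneous 1 ∧
      L₃.IsHomogeneous 1 ∧ f - L₁ * L₂ * L₃ ∈ Ideal.span {linpoly (Dlin f a)} := by
  obtain ⟨α1, β1, α2, β2, α3, β3, hfac⟩ := exists_binary_cubic_factor (eval (bas 1) f)
    (D f (bas 1) (bas 2)) (D f (bas 2) (bas 1)) (eval (bas 2) f)
  refine ⟨linpoly (α1 • bas.coord 1 + β1 • bas.coord 2),
    linpoly (α2 • bas.coord 1 + β2 • bas.coord 2),
    linpoly (α3 • bas.coord 1 + β3 • bas.coord 2), linpoly_isHomogeneous _,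
    linpoly_isHomogeneous _, linpoly_isHomogeneous _, ?_⟩
  apply mem_span_linpoly_of_vanish _ hsm
  intro x hx
  have hx' : D f a x = 0 := hx
  rw [map_sub, map_mul, map_mul, eval_linpoly, eval_linpoly, eval_linpoly,
    F_eq_coord f hf a hFa bas h0 h1 h2 h3 hQ1 hQ2 hB x hx']
  have := hfac (bas.coord 1 x) (bas.coord 2 x)
  simp only [LinearMap.add_apply, LinearMap.smul_apply, smul_eq_mul]
  linear_combination this

include hf hFa h0 h1 h2 h3 in
/-- the first polar meets the tangent plane in two lines through `a`. -/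
theorem polar_zero_set
    (hne : ¬ (Q f a (bas 1) = 0 ∧ Q f a (bas 2) = 0 ∧ B f a (bas 1) (bas 2) = 0)) :
    ∃ U₁ U₂ : Submodule K (Fin 4 → K), finrank K U₁ = 2 ∧ finrank K U₂ = 2 ∧ a ∈ U₁ ∧ a ∈ U₂ ∧
      (∀ x ∈ U₁, D f a x = 0) ∧ (∀ x ∈ U₂, D f a x = 0) ∧
      {x : Fin 4 → K | D f a x = 0 ∧ Q f a x = 0} = (U₁ : Set (Fin 4 → K)) ∪ U₂ := by
  obtain ⟨p, r, p', r', hfac⟩ := Groth.Agent.Lib.H6xPlaneConic.exists_binary_factor
    (Q f a (bas 1)) (B f a (bas 1) (bas 2)) (Q f a (bas 2))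
  have hzero : ∀ p r p' r' : K, (∀ x y : K, Q f a (bas 1) * x ^ 2 + B f a (bas 1) (bas 2) * x * y
      + Q f a (bas 2) * y ^ 2 = (p * x + r * y) * (p' * x + r' * y)) → p ≠ 0 ∨ r ≠ 0 := by
    intro p r p' r' hfac
    by_contra hcon
    push Not at hcon
    obtain ⟨rfl, rfl⟩ := hcon
    apply hne
    have e1 := hfac 1 0
    have e2 := hfac 0 1
    have e3 := hfac 1 1
    simp only [zero_mul, add_zero, mul_zero, mul_one, one_pow, ne_eq, OfNat.ofNat_ne_zero,
      not_false_eq_true, zero_pow, zero_add] at e1 e2 e3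
    refine ⟨e1, e2, ?_⟩
    rw [e1, e2] at e3
    simpa using e3
  have hpr := hzero p r p' r' hfac
  have hpr' := hzero p' r' p r (fun x y => by rw [hfac x y, mul_comm])
  have hmem : ∀ p r : K, ∀ x, x ∈ LinearMap.ker
      ((bas.coord 3).prod (p • bas.coord 1 + r • bas.coord 2)) ↔
      D f a x = 0 ∧ p * bas.coord 1 x + r * bas.coord 2 x = 0 := by
    intro p r x
    rw [LinearMap.mem_ker, LinearMap.prod_apply, D_eq_coord f hf a hFa bas h0 h1 h2 h3]
    show ((bas.coord 3 x, (p • bas.coord 1 + r • bas.coord 2) x) = (0, 0)) ↔ _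
    rw [Prod.mk.injEq]
    simp
  have ha1 : bas.coord 1 a = 0 := by rw [← h0]; simp
  have ha2 : bas.coord 2 a = 0 := by rw [← h0]; simp
  have haD : D f a a = 0 := D_a_a f hf a hFa
  refine ⟨_, _, finrank_ker_prod bas p r hpr, finrank_ker_prod bas p' r' hpr', ?_, ?_, ?_, ?_, ?_⟩
  · rw [hmem]; exact ⟨haD, by rw [ha1, ha2]; ring⟩
  · rw [hmem]; exact ⟨haD, by rw [ha1, ha2]; ring⟩
  · intro x hx; exact ((hmem _ _ x).mp hx).1
  · intro x hx; exact ((hmem _ _ x).mp hx).1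
  · ext x
    simp only [Set.mem_ofPred_eq, Set.mem_union, SetLike.mem_coe, hmem]
    constructor
    · rintro ⟨hD, hQ⟩
      rw [Q_eq_coord f hf a hFa bas h0 h1 h2 h3 x hD, hfac] at hQ
      rcases mul_eq_zero.mp hQ with h | h
      · exact Or.inl ⟨hD, h⟩
      · exact Or.inr ⟨hD, h⟩
    · rintro (⟨hD, h⟩ | ⟨hD, h⟩)
      · refine ⟨hD, ?_⟩
        rw [Q_eq_coord f hf a hFa bas h0 h1 h2 h3 x hD, hfac, h, zero_mul]
      · refine ⟨hD, ?_⟩
        rw [Q_eq_coord f hf a hFa bas h0 h1 h2 h3 x hD, hfac, h, mul_zero]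

end coords

end setting

section main

universe u

theorem main (K : Type u) [Field K] [IsAlgClosed K] [CharZero K]
    (F : MvPolynomial (Fin 4) K) (hF : F.IsHomogeneous 3)
    (a : Fin 4 → K) (ha : a ≠ 0) (hFa : MvPolynomial.eval a F = 0)
    (hsm : ∃ i : Fin 4, MvPolynomial.eval a (MvPolynomial.pderiv i F) ≠ 0)
    (ℓ : MvPolynomial (Fin 4) K)
    (hℓ : ℓ = ∑ i : Fin 4, MvPolynomial.C (MvPolynomial.eval a (MvPolynomial.pderiv i F)) * MvPolynomial.X i)
    (hT : ¬ ∃ L₁ L₂ L₃ : MvPolynomial (Fin 4) K, L₁.IsHomogeneous 1 ∧ L₂.IsHomogeneous 1 ∧ L₃.IsHomogeneous 1 ∧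
      F - L₁ * L₂ * L₃ ∈ Ideal.span {ℓ})
    (P : MvPolynomial (Fin 4) K) (hP : P = ∑ i : Fin 4, a i • MvPolynomial.pderiv i F)
    (H : Submodule K (Fin 4 → K)) (hH : ∀ x : Fin 4 → K, x ∈ H ↔ MvPolynomial.eval x ℓ = 0) :
    (∃ U₁ U₂ : Submodule K (Fin 4 → K), Module.finrank K ↥U₁ = 2 ∧ Module.finrank K ↥U₂ = 2 ∧ a ∈ U₁ ∧ a ∈ U₂ ∧
        U₁ ≤ H ∧ U₂ ≤ H ∧ {x : Fin 4 → K | x ∈ H ∧ MvPolynomial.eval x P = 0} = (U₁ : Set (Fin 4 → K)) ∪ (U₂ : Set (Fin 4 → K))) ∧
      ∀ U : Submodule K (Fin 4 → K), a ∈ U → Module.finrank K ↥U = 2 → (∀ u ∈ U, MvPolynomial.eval u F = 0) →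
        U ≤ H ∧ ∀ u ∈ U, MvPolynomial.eval u P = 0 := by
  have hℓ' : ℓ = linpoly (Dlin F a) := by
    rw [hℓ, linpoly]
    exact Finset.sum_congr rfl fun i _ => by rw [Dlin_single]
  have hevℓ : ∀ x, eval x ℓ = D F a x := by
    intro x
    rw [hℓ', eval_linpoly]
    rfl
  have hevP : ∀ x, eval x P = Q F a x := by
    intro x
    rw [hP]
    simp [Q, D, smul_eval]
  have hl0 : Dlin F a ≠ 0 := by
    obtain ⟨i, hi⟩ := hsm
    intro h0
    apply hi
    rw [← Dlin_single, h0]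
    simp
  have hla : Dlin F a a = 0 := D_a_a F hF a hFa
  obtain ⟨bas, h0, h1, h2, h3⟩ := exists_adapted_basis (Dlin F a) hl0 a ha hla
  have hne : ¬ (Q F a (bas 1) = 0 ∧ Q F a (bas 2) = 0 ∧ B F a (bas 1) (bas 2) = 0) := by
    rintro ⟨hQ1, hQ2, hB⟩
    apply hT
    rw [hℓ']
    exact exists_three_lines F hF a hFa bas h0 h1 h2 h3 hl0 hQ1 hQ2 hB
  refine ⟨?_, ?_⟩
  · obtain ⟨U₁, U₂, hU1, hU2, ha1, ha2, hD1, hD2, hset⟩ :=
      polar_zero_set F hF a hFa bas h0 h1 h2 h3 hne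
    refine ⟨U₁, U₂, hU1, hU2, ha1, ha2, ?_, ?_, ?_⟩
    · intro x hx
      rw [hH, hevℓ]
      exact hD1 x hx
    · intro x hx
      rw [hH, hevℓ]
      exact hD2 x hx
    · rw [← hset]
      ext x
      simp only [Set.mem_ofPred_eq, hH, hevℓ, hevP]
  · intro U haU hU hFU
    have key := line_subset_polar F hF a hFa ha U haU hU hFU
    refine ⟨fun x hx => ?_, fun x hx => ?_⟩
    · rw [hH, hevℓ]
      exact (key x hx).1
    · rw [hevP]
      exact (key x hx).2

end main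

end Groth.Agent.Lib.H6xCubicPolar
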