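import Groth.Agent.Lib.H6xNodalCubicC

set_option autoImplicit false

/-! Ternary quadratic forms `u ↦ uᵀ M u` over an algebraically closed field: isotropic planes. -/

namespace Groth.Agent.Lib.H6xTernaryQuad

open Module Matrix Groth.Agent.Lib.H6xNodalCubic

section linalg

variable {k V : Type*} [Field k] [AddCommGroup V] [Module k V] [FiniteDimensional k V]

theorem span_three_eq_top (h3 : finrank k V = 3) {a b c : V} (ha : a ≠ 0)
    (hb : b ∉ Submodule.span k {a}) (hc : c ∉ Submodule.span k {a, b}) :
    Submodule.span k {a, b, c} = ⊤ := by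
  have l1 : LinearIndependent k ![a] := LinearIndependent.of_subsingleton 0 (by simpa using ha)
  have l2 : LinearIndependent k ![b, a] := by
    refine LinearIndependent.finCons l1 ?_
    simpa [Matrix.range_cons] using hb
  have l3 : LinearIndependent k ![c, b, a] := by
    refine LinearIndependent.finCons l2 ?_
    have : Set.range ![b, a] = {a, b} := by
      ext z; simp [Matrix.range_cons]
    rw [this]; exact hc
  have h := l3.span_eq_top_of_card_eq_finrank' (by simp [h3])
  have : Set.range ![c, b, a] = {a, b, c} := by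
    ext z; simp [Matrix.range_cons]
  rwa [this] at h

theorem exists_not_mem_span2 (h3 : finrank k V = 3) (a b : V) :
    ∃ x, x ∉ Submodule.span k {a, b} := by
  classical
  by_contra hcon
  push Not at hcon
  have htop : Submodule.span k ({a, b} : Set V) = ⊤ := by
    rw [eq_top_iff]; intro x _; exact hcon x
  have h1 := finrank_span_finset_le_card (R := k) ({a, b} : Finset V)
  have h2 : ((({a, b} : Finset V) : Set V)) = {a, b} := by simp
  rw [Set.finrank, h2, htop, finrank_top, h3] at h1
  have h4 := Finset.card_le_two (a := a) (b := b)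
  omega

end linalg

theorem exists_binary_zero {k : Type*} [Field k] [IsAlgClosed k] (A B C : k) :
    ∃ s t : k, (s ≠ 0 ∨ t ≠ 0) ∧ A * s ^ 2 + B * s * t + C * t ^ 2 = 0 := by
  by_cases hA : A = 0
  · exact ⟨1, 0, Or.inl one_ne_zero, by rw [hA]; ring⟩
  · let P : Polynomial k := Polynomial.C A * Polynomial.X ^ 2 +
      Polynomial.C B * Polynomial.X + Polynomial.C C
    have hdeg : P.degree = 2 := by
      simp only [P]
      compute_degree!
    obtain ⟨y, hy⟩ := IsAlgClosed.exists_root P (by rw [hdeg]; norm_num)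
    refine ⟨y, 1, Or.inr one_ne_zero, ?_⟩
    have : Polynomial.eval y P = 0 := hy
    simp only [P] at this
    simp at this
    linear_combination this

section form

variable {k : Type*} [Field k] (M : Matrix (Fin 3) (Fin 3) k)

/-- the bilinear form of `M` -/
def bM (u v : Fin 3 → k) : k := u ⬝ᵥ (M *ᵥ v)

/-- the quadratic form of `M` -/
def Qf (u : Fin 3 → k) : k := bM M u u

theorem bM_add_left (u u' v : Fin 3 → k) : bM M (u + u') v = bM M u v + bM M u' v := by
  simp [bM, add_dotProduct]

theorem bM_smul_left (c : k) (u v : Fin 3 → k) : bM M (c • u) v = c * bM M u v := by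
  simp [bM, smul_dotProduct]

theorem bM_add_right (u v v' : Fin 3 → k) : bM M u (v + v') = bM M u v + bM M u v' := by
  simp [bM, Matrix.mulVec_add, dotProduct_add]

theorem bM_smul_right (c : k) (u v : Fin 3 → k) : bM M u (c • v) = c * bM M u v := by
  simp [bM, Matrix.mulVec_smul, dotProduct_smul]

theorem bM_zero_right (u : Fin 3 → k) : bM M u 0 = 0 := by simp [bM]

variable (hM : M.IsSymm)

include hM in
theorem bM_symm (u v : Fin 3 → k) : bM M u v = bM M v u := by
  unfold bM
  rw [Matrix.dotProduct_mulVec, ← Matrix.mulVec_transpose, hM.eq, dotProduct_comm]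

include hM in
theorem Qf_add (u v : Fin 3 → k) : Qf M (u + v) = Qf M u + Qf M v + 2 * bM M u v := by
  unfold Qf
  rw [bM_add_left, bM_add_right, bM_add_right, bM_symm M hM v u]
  ring

theorem Qf_smul (c : k) (u : Fin 3 → k) : Qf M (c • u) = c ^ 2 * Qf M u := by
  unfold Qf
  rw [bM_smul_left, bM_smul_right]
  ring

theorem bM_eq_zero_of_mulVec (n u : Fin 3 → k) (hn : M *ᵥ n = 0) : bM M u n = 0 := by
  simp [bM, hn]

/-- the linear functional `z ↦ bM z n` -/
def bMlin (n : Fin 3 → k) : (Fin 3 → k) →ₗ[k] k where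
  toFun z := bM M z n
  map_add' z z' := bM_add_left M z z' n
  map_smul' c z := by simp [bM_smul_left]

theorem mulVec_eq_zero_of_span (n : Fin 3 → k) (S : Set (Fin 3 → k))
    (hS : Submodule.span k S = ⊤) (h : ∀ z ∈ S, bM M z n = 0) : M *ᵥ n = 0 := by
  have hker : LinearMap.ker (bMlin M n) = ⊤ := by
    rw [eq_top_iff, ← hS, Submodule.span_le]
    intro z hz
    exact h z hz
  ext i
  have : Pi.single i (1 : k) ∈ LinearMap.ker (bMlin M n) := by rw [hker]; trivial
  have h2 : bM M (Pi.single i 1) n = 0 := this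
  simpa [bM] using h2

section closed

variable [CharZero k]

include hM in
/-- a totally isotropic plane forces the form to be degenerate. -/
theorem det_eq_zero_of_isotropic_plane (U : Submodule k (Fin 3 → k)) (hU : finrank k U = 2)
    (hQ : ∀ u ∈ U, Qf M u = 0) : M.det = 0 := by
  obtain ⟨u1, hu1U, hu10⟩ := exists_mem_ne_zero_of_finrank_two U hU
  obtain ⟨u2, hu2U, hu2, hUeq⟩ := exists_span_pair U hU u1 hu1U hu10
  have h12 : bM M u1 u2 = 0 := by
    have h := hQ _ (Submodule.add_mem _ hu1U hu2U)
    rw [Qf_add M hM, hQ u1 hu1U, hQ u2 hu2U] at h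
    have : (2 : k) * bM M u1 u2 = 0 := by linear_combination h
    exact (mul_eq_zero.mp this).resolve_left two_ne_zero
  obtain ⟨u3, hu3⟩ := exists_not_mem_span2 (k := k) (V := Fin 3 → k) (by simp) u1 u2
  have htop := span_three_eq_top (k := k) (by simp) hu10 hu2 hu3
  rw [← Matrix.exists_mulVec_eq_zero_iff]
  by_cases h13 : bM M u1 u3 = 0
  · refine ⟨u1, hu10, ?_⟩
    apply mulVec_eq_zero_of_span M u1 _ htop
    intro z hz
    simp only [Set.mem_insert_iff, Set.mem_singleton_iff] at hz
    rcases hz with h | h | h <;> rw [h]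
    · exact hQ u1 hu1U
    · rw [bM_symm M hM]; exact h12
    · rw [bM_symm M hM]; exact h13
  · refine ⟨bM M u2 u3 • u1 + (-(bM M u1 u3)) • u2, ?_, ?_⟩
    · intro h0
      apply hu2
      have : u2 = ((bM M u1 u3)⁻¹ * bM M u2 u3) • u1 := by
        have h1 : bM M u1 u3 • u2 = bM M u2 u3 • u1 := by
          rw [neg_smul, ← sub_eq_add_neg, sub_eq_zero] at h0
          exact h0.symm
        calc u2 = (bM M u1 u3)⁻¹ • (bM M u1 u3 • u2) := by
              rw [smul_smul, inv_mul_cancel₀ h13, one_smul]
          _ = _ := by rw [h1, smul_smul]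
      rw [this]
      exact Submodule.smul_mem _ _ (Submodule.mem_span_singleton_self u1)
    · apply mulVec_eq_zero_of_span M _ _ htop
      intro z hz
      simp only [Set.mem_insert_iff, Set.mem_singleton_iff] at hz
      have hq1 : bM M u1 u1 = 0 := hQ u1 hu1U
      have hq2 : bM M u2 u2 = 0 := hQ u2 hu2U
      have h21 : bM M u2 u1 = 0 := by rw [bM_symm M hM]; exact h12
      rcases hz with h | h | h <;> rw [h] <;>
        rw [bM_add_right, bM_smul_right, bM_smul_right]
      · rw [hq1, h12]; ring
      · rw [h21, hq2]; ring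
      · rw [bM_symm M hM u3 u1, bM_symm M hM u3 u2]; ring

include hM in
theorem isotropic_span_pair (n w : Fin 3 → k) (hn : M *ᵥ n = 0) (hw : Qf M w = 0)
    (u : Fin 3 → k) (hu : u ∈ Submodule.span k {n, w}) : Qf M u = 0 := by
  obtain ⟨x, y, rfl⟩ := Submodule.mem_span_pair.mp hu
  rw [Qf_add M hM, Qf_smul, Qf_smul, hw, bM_smul_left, bM_smul_right,
    bM_symm M hM n w, bM_eq_zero_of_mulVec M n w hn]
  have : Qf M n = 0 := bM_eq_zero_of_mulVec M n n hn
  rw [this]; ring

include hM in
theorem exists_two_isotropic_planes_aux (n : Fin 3 → k) (hn0 : n ≠ 0) (hn : M *ᵥ n = 0)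
    (hrad : ∀ m, M *ᵥ m = 0 → m ∈ Submodule.span k {n})
    (w1 w2 : Fin 3 → k) (hw1 : w1 ∉ Submodule.span k {n}) (hw2 : w2 ∉ Submodule.span k {n, w1})
    (hQ1 : Qf M w1 = 0) :
    ∃ U₁ U₂ : Submodule k (Fin 3 → k), finrank k U₁ = 2 ∧ finrank k U₂ = 2 ∧ U₁ ≠ U₂ ∧
      (∀ u ∈ U₁, Qf M u = 0) ∧ (∀ u ∈ U₂, Qf M u = 0) := by
  have htop := span_three_eq_top (k := k) (by simp) hn0 hw1 hw2
  have h12 : bM M w1 w2 ≠ 0 := by
    intro h0
    apply hw1
    apply hrad
    apply mulVec_eq_zero_of_span M w1 _ htop
    intro z hz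
    simp only [Set.mem_insert_iff, Set.mem_singleton_iff] at hz
    rcases hz with h | h | h <;> rw [h]
    · rw [bM_symm M hM]; exact bM_eq_zero_of_mulVec M n w1 hn
    · exact hQ1
    · rw [bM_symm M hM]; exact h0
  obtain ⟨w3, hw3def⟩ : ∃ w3, w3 = w2 + (-(Qf M w2 / (2 * bM M w1 w2))) • w1 := ⟨_, rfl⟩
  have hQ3 : Qf M w3 = 0 := by
    rw [hw3def, Qf_add M hM, Qf_smul, hQ1, bM_smul_right, bM_symm M hM w2 w1]
    field_simp
    ring
  have hw3 : w3 ∉ Submodule.span k {n, w1} := by
    intro hmem
    apply hw2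
    have : w2 = w3 - (-(Qf M w2 / (2 * bM M w1 w2))) • w1 := by rw [hw3def]; abel
    rw [this]
    exact Submodule.sub_mem _ hmem (Submodule.smul_mem _ _ (Submodule.subset_span (by simp)))
  have hw3' : w3 ∉ Submodule.span k {n} := fun hmem =>
    hw3 (Submodule.span_mono (by simp) hmem)
  refine ⟨Submodule.span k {n, w1}, Submodule.span k {n, w3},
    finrank_span_pair_eq_two hn0 hw1, finrank_span_pair_eq_two hn0 hw3', ?_,
    isotropic_span_pair M hM n w1 hn hQ1, isotropic_span_pair M hM n w3 hn hQ3⟩
  intro heq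
  apply hw3
  rw [heq]
  exact Submodule.subset_span (by simp)

include hM in
/-- a ternary form with one-dimensional radical vanishes on exactly (at least) two planes. -/
theorem exists_two_isotropic_planes [IsAlgClosed k] (n : Fin 3 → k) (hn0 : n ≠ 0)
    (hn : M *ᵥ n = 0) (hrad : ∀ m, M *ᵥ m = 0 → m ∈ Submodule.span k {n}) :
    ∃ U₁ U₂ : Submodule k (Fin 3 → k), finrank k U₁ = 2 ∧ finrank k U₂ = 2 ∧ U₁ ≠ U₂ ∧
      (∀ u ∈ U₁, Qf M u = 0) ∧ (∀ u ∈ U₂, Qf M u = 0) := by
  obtain ⟨u1, hu1⟩ := exists_not_mem_span2 (k := k) (V := Fin 3 → k) (by simp) n n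
  have hu1' : u1 ∉ Submodule.span k {n} := by simpa using hu1
  obtain ⟨u2, hu2⟩ := exists_not_mem_span2 (k := k) (V := Fin 3 → k) (by simp) n u1
  obtain ⟨s, t, hst, hz⟩ := exists_binary_zero (Qf M u1) (2 * bM M u1 u2) (Qf M u2)
  have hQ : Qf M (s • u1 + t • u2) = 0 := by
    rw [Qf_add M hM, Qf_smul, Qf_smul, bM_smul_left, bM_smul_right]
    linear_combination hz
  by_cases hs : s = 0
  · -- `v₁ = t • u2`, complement `u1`
    have ht : t ≠ 0 := hst.resolve_left (fun h => h hs)
    subst hs
    rw [zero_smul, zero_add] at hQ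
    have hu2' : u2 ∉ Submodule.span k {n} := fun hmem =>
      hu2 (Submodule.span_mono (by simp) hmem)
    have hQ2 : Qf M u2 = 0 := by
      rw [Qf_smul] at hQ
      exact (mul_eq_zero.mp hQ).resolve_left (pow_ne_zero 2 ht)
    refine exists_two_isotropic_planes_aux M hM n hn0 hn hrad u2 u1 hu2' ?_ hQ2
    intro hmem
    obtain ⟨x, y, hxy⟩ := Submodule.mem_span_pair.mp hmem
    by_cases hy : y = 0
    · subst hy
      apply hu1'
      rw [← hxy, zero_smul, add_zero]
      exact Submodule.smul_mem _ _ (Submodule.mem_span_singleton_self n)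
    · apply hu2
      have : u2 = (-(y⁻¹ * x)) • n + y⁻¹ • u1 := by
        rw [← hxy, smul_add, smul_smul, smul_smul, inv_mul_cancel₀ hy, one_smul, neg_smul]
        abel
      rw [this]
      exact Submodule.add_mem _ (Submodule.smul_mem _ _ (Submodule.subset_span (by simp)))
        (Submodule.smul_mem _ _ (Submodule.subset_span (by simp)))
  · -- `v₁ = s • u1 + t • u2`, complement `u2`
    refine exists_two_isotropic_planes_aux M hM n hn0 hn hrad (s • u1 + t • u2) u2 ?_ ?_ hQ
    · intro hmem
      obtain ⟨c, hc⟩ := Submodule.mem_span_singleton.mp hmem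
      by_cases ht : t = 0
      · subst ht
        apply hu1'
        have : u1 = (s⁻¹ * c) • n := by
          rw [← smul_smul, hc, zero_smul, add_zero, smul_smul, inv_mul_cancel₀ hs, one_smul]
        rw [this]
        exact Submodule.smul_mem _ _ (Submodule.mem_span_singleton_self n)
      · apply hu2
        have : u2 = (t⁻¹ * c) • n + (-(t⁻¹ * s)) • u1 := by
          have h1 : t • u2 = c • n - s • u1 := by rw [hc]; abel
          calc u2 = t⁻¹ • (t • u2) := by rw [smul_smul, inv_mul_cancel₀ ht, one_smul]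
            _ = _ := by rw [h1, smul_sub, smul_smul, smul_smul, neg_smul, sub_eq_add_neg]
        rw [this]
        exact Submodule.add_mem _ (Submodule.smul_mem _ _ (Submodule.subset_span (by simp)))
          (Submodule.smul_mem _ _ (Submodule.subset_span (by simp)))
    · intro hmem
      obtain ⟨x, y, hxy⟩ := Submodule.mem_span_pair.mp hmem
      -- `u2 = x n + y (s u1 + t u2)`, so `(1 - y t) u2 = x n + y s u1`
      by_cases hy : y = 0
      · subst hy
        apply hu2
        rw [← hxy, zero_smul, add_zero]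
        exact Submodule.smul_mem _ _ (Submodule.subset_span (by simp))
      · have h3 : u2 = x • n + (y * s) • u1 + (y * t) • u2 := by
          conv_lhs => rw [← hxy]
          rw [smul_add, smul_smul, smul_smul, add_assoc]
        have h2' : (1 - y * t) • u2 = x • n + (y * s) • u1 := by
          rw [sub_smul, one_smul, sub_eq_iff_eq_add]
          exact h3
        by_cases h1 : 1 - y * t = 0
        · -- then `x n + y s u1 = 0`, so `u1 ∈ span n`
          apply hu1'
          have h2 : x • n + (y * s) • u1 = (1 - y * t) • u2 := h2'.symm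
          rw [h1, zero_smul] at h2
          have : u1 = (-((y * s)⁻¹ * x)) • n := by
            have h3 : (y * s) • u1 = -(x • n) := by
              rw [eq_neg_iff_add_eq_zero, add_comm]; exact h2
            calc u1 = (y * s)⁻¹ • ((y * s) • u1) := by
                  rw [smul_smul, inv_mul_cancel₀ (mul_ne_zero hy hs), one_smul]
              _ = _ := by rw [h3, smul_neg, smul_smul, neg_smul]
          rw [this]
          exact Submodule.smul_mem _ _ (Submodule.mem_span_singleton_self n)
        · apply hu2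
          have h2 : (1 - y * t) • u2 = x • n + (y * s) • u1 := h2'
          have : u2 = ((1 - y * t)⁻¹ * x) • n + ((1 - y * t)⁻¹ * (y * s)) • u1 := by
            calc u2 = (1 - y * t)⁻¹ • ((1 - y * t) • u2) := by
                  rw [smul_smul, inv_mul_cancel₀ h1, one_smul]
              _ = _ := by rw [h2, smul_add, smul_smul, smul_smul]
          rw [this]
          exact Submodule.add_mem _ (Submodule.smul_mem _ _ (Submodule.subset_span (by simp)))
            (Submodule.smul_mem _ _ (Submodule.subset_span (by simp)))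

end closed

end form

end Groth.Agent.Lib.H6xTernaryQuad
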