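import Groth.Agent.Lib.H6xNodalCubicC
import Groth.Agent.Lib.H6xTernaryQuad
import Mathlib.RingTheory.Nullstellensatz

set_option autoImplicit false

/-! Singular points of irreducible cubic surfaces: Nullstellensatz input and lines in a hyperplane
through the singular point on which the tangent cone vanishes. -/

namespace Groth.Agent.Lib.H6xCubicSing

open MvPolynomial Groth.Agent.Lib.H6xCubicForm Groth.Agent.Lib.H6xNodalCubic Module

section N

variable {K : Type*} [Field K] [IsAlgClosed K]

/-- An irreducible cubic form does not vanish on the whole zero locus of a nonzero form of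
degree 1 or 2. -/
theorem exists_zero_ne_zero (F g : MvPolynomial (Fin 4) K) (hirr : Irreducible F)
    (hF : F.IsHomogeneous 3) {d : ℕ} (hd0 : 0 < d) (hd : d < 3) (hg : g.IsHomogeneous d)
    (hg0 : g ≠ 0) : ∃ x : Fin 4 → K, eval x g = 0 ∧ eval x F ≠ 0 := by
  by_contra hcon
  push Not at hcon
  have hF0 : F ≠ 0 := hirr.ne_zero
  have hmem : F ∈ vanishingIdeal K (zeroLocus K (Ideal.span {g})) := by
    rw [mem_vanishingIdeal_iff]
    intro x hx
    have h1 : aeval x g = 0 := hx g (Ideal.subset_span rfl)
    rw [aeval_eq_eval] at h1 ⊢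
    exact hcon x h1
  rw [vanishingIdeal_zeroLocus_eq_radical] at hmem
  obtain ⟨n, hn⟩ := hmem
  have hdvd : g ∣ F ^ n := Ideal.mem_span_singleton.mp hn
  have hgd : g.totalDegree = d := hg.totalDegree hg0
  have hFd : F.totalDegree = 3 := hF.totalDegree hF0
  have hgu : ¬ IsUnit g := by
    intro hu
    obtain ⟨c, hc⟩ := (isUnit_iff_eq_C_of_isReduced).mp hu
    rw [hc.2, totalDegree_C] at hgd
    omega
  obtain ⟨π, hπ, hπg⟩ := WfDvdMonoid.exists_irreducible_factor hgu hg0
  have hπF : π ∣ F := hπ.prime.dvd_of_dvd_pow (hπg.trans hdvd)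
  have hassoc : Associated π F := hπ.associated_of_dvd hirr hπF
  have hFg : F ∣ g := hassoc.symm.dvd.trans hπg
  have := totalDegree_le_of_dvd_of_isDomain hFg hg0
  omega

end N

section polys

variable {K : Type*} [Field K]

/-- the first polar of `f` with respect to `p`, as a polynomial -/
noncomputable def qpoly (f : MvPolynomial (Fin 4) K) (p : Fin 4 → K) : MvPolynomial (Fin 4) K :=
  ∑ i, C (p i) * pderiv i f

theorem eval_qpoly (f : MvPolynomial (Fin 4) K) (p u : Fin 4 → K) :
    eval u (qpoly f p) = D f u p := by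
  simp [qpoly, D]

theorem qpoly_isHomogeneous (f : MvPolynomial (Fin 4) K) (hf : f.IsHomogeneous 3)
    (p : Fin 4 → K) : (qpoly f p).IsHomogeneous 2 := by
  unfold qpoly
  refine IsHomogeneous.sum _ _ _ fun i _ => ?_
  have h1 : (pderiv i f).IsHomogeneous 2 := hf.pderiv
  have h2 := (isHomogeneous_C (Fin 4) (p i)).mul h1
  simpa using h2

/-- a linear functional as a polynomial -/
noncomputable def linpoly (l : (Fin 4 → K) →ₗ[K] K) : MvPolynomial (Fin 4) K :=
  ∑ i, C (l (Pi.single i 1)) * X i

theorem eval_linpoly (l : (Fin 4 → K) →ₗ[K] K) (u : Fin 4 → K) :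
    eval u (linpoly l) = l u := by
  have h : u = ∑ i, u i • (Pi.single i 1 : Fin 4 → K) := by
    ext j
    simp [Finset.sum_apply, Pi.single_apply]
  conv_rhs => rw [h]
  simp [linpoly, mul_comm]

theorem linpoly_isHomogeneous (l : (Fin 4 → K) →ₗ[K] K) : (linpoly l).IsHomogeneous 1 := by
  unfold linpoly
  refine IsHomogeneous.sum _ _ _ fun i _ => ?_
  have h2 := (isHomogeneous_C (Fin 4) (l (Pi.single i 1))).mul (isHomogeneous_X K i)
  simpa using h2

theorem linpoly_ne_zero (l : (Fin 4 → K) →ₗ[K] K) (hl : l ≠ 0) : linpoly l ≠ 0 := by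
  intro h
  apply hl
  refine LinearMap.ext fun u => ?_
  have := eval_linpoly l u
  rw [h] at this
  simpa using this.symm

end polys

section frame

variable {K : Type*} [Field K]

theorem finrank_ker_functional (l : (Fin 4 → K) →ₗ[K] K) (hl : l ≠ 0) :
    finrank K (LinearMap.ker l) = 3 := by
  have h1 := LinearMap.finrank_range_add_finrank_ker l
  have h2 : LinearMap.range l = ⊤ :=
    LinearMap.range_eq_top.mpr (l.surjective_or_eq_zero.resolve_right hl)
  rw [h2, finrank_top] at h1
  simp at h1
  omega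

/-- an adapted frame of a hyperplane `ker l` containing `p` and `h`. -/
theorem exists_frame (l : (Fin 4 → K) →ₗ[K] K) (hl : l ≠ 0) (p h : Fin 4 → K) (hp : p ≠ 0)
    (hlp : l p = 0) (hlh : l h = 0) (hh : h ∉ Submodule.span K {p}) :
    ∃ h2, l h2 = 0 ∧ h2 ∉ Submodule.span K {p, h} ∧
      ∀ u, l u = 0 → ∃ a b c : K, u = a • p + b • h + c • h2 := by
  have h3 := finrank_ker_functional l hl
  set pW : LinearMap.ker l := ⟨p, hlp⟩ with hpW
  set hW : LinearMap.ker l := ⟨h, hlh⟩ with hhW
  obtain ⟨x, hx⟩ := Groth.Agent.Lib.H6xTernaryQuad.exists_not_mem_span2 (k := K) h3 pW hW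
  have hpW0 : pW ≠ 0 := fun h0 => hp (congrArg Subtype.val h0)
  have hhW' : hW ∉ Submodule.span K {pW} := by
    intro hmem
    obtain ⟨c, hc⟩ := Submodule.mem_span_singleton.mp hmem
    exact hh (Submodule.mem_span_singleton.mpr ⟨c, congrArg Subtype.val hc⟩)
  have htop := Groth.Agent.Lib.H6xTernaryQuad.span_three_eq_top (k := K) h3 hpW0 hhW' hx
  refine ⟨x.1, x.2, ?_, ?_⟩
  · intro hmem
    obtain ⟨a, b, hab⟩ := Submodule.mem_span_pair.mp hmem
    apply hx
    rw [Submodule.mem_span_pair]
    exact ⟨a, b, Subtype.ext hab⟩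
  · intro u hu
    have hmem : (⟨u, hu⟩ : LinearMap.ker l) ∈ Submodule.span K {pW, hW, x} := by
      rw [htop]; trivial
    obtain ⟨a, b, c, habc⟩ := Submodule.mem_span_triple.mp hmem
    exact ⟨a, b, c, (congrArg Subtype.val habc).symm⟩

end frame

section hyperplane

variable {K : Type*} [Field K] [CharZero K]
  (f : MvPolynomial (Fin 4) K) (hf : f.IsHomogeneous 3) (p : Fin 4 → K) (hp : p ≠ 0)
  (hsing : ∀ i : Fin 4, eval p (pderiv i f) = 0)

include hf hp hsing in
/-- a line through `p` on the surface is spanned by `p` and a vector of the cone `Q = F = 0`. -/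
theorem line_char (U : Submodule K (Fin 4 → K)) (hpU : p ∈ U) (hU : finrank K U = 2)
    (hFU : ∀ u ∈ U, eval u f = 0) :
    ∃ u ∈ U, u ∉ Submodule.span K {p} ∧ U = Submodule.span K {p, u} ∧ Q f p u = 0 ∧
      eval u f = 0 := by
  obtain ⟨u, huU, hu, hUeq⟩ := exists_span_pair U hU p hpU hp
  refine ⟨u, huU, hu, hUeq, ?_, hFU u huU⟩
  have h1 := F_add_p f hf p hsing 1 u
  rw [hFU u huU, hFU _ (U.add_mem (U.smul_mem 1 hpU) huU)] at h1
  simpa using h1.symm

/-- the binary cubic `F(t h + h2)` as a polynomial in `t` -/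
noncomputable def cpoly (h h2 : Fin 4 → K) : Polynomial K :=
  Polynomial.C (eval h f) * Polynomial.X ^ 3 + Polynomial.C (D f h h2) * Polynomial.X ^ 2 +
    Polynomial.C (D f h2 h) * Polynomial.X + Polynomial.C (eval h2 f)

include hf in
theorem eval_cpoly (h h2 : Fin 4 → K) (t : K) :
    Polynomial.eval t (cpoly f h h2) = eval (t • h + h2) f := by
  rw [eval_add hf, eval_smul hf, D_smul_left hf, D_smul_right, cpoly]
  simp
  ring

omit [CharZero K] in
theorem encard_roots_le (P : Polynomial K) (hP : P ≠ 0) :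
    {t : K | Polynomial.eval t P = 0}.encard ≤ P.natDegree := by
  classical
  have h1 : {t : K | Polynomial.eval t P = 0} = ↑P.roots.toFinset := by
    ext t
    simp [Polynomial.mem_roots hP]
  rw [h1, Set.encard_coe_eq_coe_finsetCard]
  exact_mod_cast (Multiset.toFinset_card_le _).trans (Polynomial.card_roots' _)

theorem natDegree_cpoly_le (h h2 : Fin 4 → K) : (cpoly f h h2).natDegree ≤ 3 := by
  unfold cpoly
  compute_degree

variable [IsAlgClosed K]

include hf hp hsing in
/-- at most three lines of the surface through `p` lie in a hyperplane through `p`. -/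
theorem encard_lines_in_hyperplane_le (hirr : Irreducible f) (l : (Fin 4 → K) →ₗ[K] K)
    (hl : l ≠ 0) (hlp : l p = 0) :
    {U : Submodule K (Fin 4 → K) | p ∈ U ∧ finrank K U = 2 ∧ (∀ u ∈ U, eval u f = 0) ∧
      ∀ u ∈ U, l u = 0}.encard ≤ 3 := by
  obtain ⟨h, hlh, hFh⟩ := exists_zero_ne_zero f (linpoly l) hirr hf (d := 1) (by norm_num)
    (by norm_num) (linpoly_isHomogeneous l) (linpoly_ne_zero l hl)
  rw [eval_linpoly] at hlh
  have hFp : eval p f = 0 := F_p f hf p hsing
  have hh : h ∉ Submodule.span K {p} := by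
    intro hmem
    obtain ⟨c, rfl⟩ := Submodule.mem_span_singleton.mp hmem
    apply hFh
    rw [eval_smul hf, hFp, mul_zero]
  obtain ⟨h2, hlh2, hh2, hdec⟩ := exists_frame l hl p h hp hlp hlh hh
  have hP0 : cpoly f h h2 ≠ 0 := by
    intro h0
    have : (cpoly f h h2).coeff 3 = eval h f := by
      unfold cpoly
      simp [Polynomial.coeff_X, Polynomial.coeff_C]
    rw [h0] at this
    exact hFh (by simpa using this.symm)
  have hsub : {U : Submodule K (Fin 4 → K) | p ∈ U ∧ finrank K U = 2 ∧
      (∀ u ∈ U, eval u f = 0) ∧ ∀ u ∈ U, l u = 0} ⊆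
      (fun t : K => Submodule.span K {p, t • h + h2}) ''
        {t : K | Polynomial.eval t (cpoly f h h2) = 0} := by
    rintro U ⟨hpU, hU, hFU, hlU⟩
    obtain ⟨u, huU, hu, hUeq, -, -⟩ := line_char f hf p hp hsing U hpU hU hFU
    obtain ⟨a, b, c, habc⟩ := hdec u (hlU u huU)
    have hu' : b • h + c • h2 ∈ U := by
      have : b • h + c • h2 = u - a • p := by rw [habc]; abel
      rw [this]
      exact U.sub_mem huU (U.smul_mem a hpU)
    have hc : c ≠ 0 := by
      rintro rfl
      have h1 := hFU _ hu'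
      rw [zero_smul, add_zero, eval_smul hf] at h1
      have hb : b = 0 := by
        rcases mul_eq_zero.mp h1 with h1 | h1
        · exact pow_eq_zero_iff (by norm_num) |>.mp h1
        · exact absurd h1 hFh
      apply hu
      rw [habc, hb]
      simp only [zero_smul, add_zero]
      exact Submodule.smul_mem _ _ (Submodule.subset_span rfl)
    have hx : (b / c) • h + h2 ∈ U := by
      have : (b / c) • h + h2 = c⁻¹ • (b • h + c • h2) := by
        rw [smul_add, smul_smul, smul_smul, inv_mul_cancel₀ hc, one_smul, div_eq_inv_mul]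
      rw [this]
      exact U.smul_mem _ hu'
    have hxp : (b / c) • h + h2 ∉ Submodule.span K {p} := by
      intro hmem
      obtain ⟨s, hs⟩ := Submodule.mem_span_singleton.mp hmem
      apply hh2
      have : h2 = s • p + (-(b / c)) • h := by
        rw [hs]; simp
      rw [this]
      exact Submodule.add_mem _ (Submodule.smul_mem _ _ (Submodule.subset_span (by simp)))
        (Submodule.smul_mem _ _ (Submodule.subset_span (by simp)))
    refine ⟨b / c, ?_, ?_⟩
    · show Polynomial.eval (b / c) (cpoly f h h2) = 0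
      rw [eval_cpoly f hf]
      exact hFU _ hx
    · have hle : Submodule.span K {p, (b / c) • h + h2} ≤ U := by
        rw [Submodule.span_le]
        intro z hz
        simp only [Set.mem_insert_iff, Set.mem_singleton_iff] at hz
        rcases hz with h | h <;> rw [h] <;> assumption
      exact Submodule.eq_of_le_of_finrank_eq hle
        (by rw [finrank_span_pair_eq_two hp hxp, hU])
  refine (Set.encard_mono hsub).trans ((Set.encard_image_le _ _).trans ?_)
  refine (encard_roots_le _ hP0).trans ?_
  exact_mod_cast natDegree_cpoly_le f h h2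

end hyperplane

end Groth.Agent.Lib.H6xCubicSing
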