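import Groth.Agent.Lib.H6xCubicSingA

set_option autoImplicit false

/-! Singular points of irreducible cubic surfaces: at most six lines through a singular point. -/

namespace Groth.Agent.Lib.H6xCubicSing

open MvPolynomial Groth.Agent.Lib.H6xCubicForm Groth.Agent.Lib.H6xNodalCubic Module

section setting

variable {K : Type*} [Field K] [CharZero K]
  (f : MvPolynomial (Fin 4) K) (hf : f.IsHomogeneous 3) (p : Fin 4 → K) (hp : p ≠ 0)
  (hsing : ∀ i : Fin 4, eval p (pderiv i f) = 0)

include hf in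
/-- If `Q` vanishes on the hyperplane `ker l`, it factors as `l * m`. -/
theorem Q_eq_mul (l : (Fin 4 → K) →ₗ[K] K) (w : Fin 4 → K) (hw : l w = 1)
    (hQ : ∀ u, l u = 0 → Q f p u = 0) (u : Fin 4 → K) :
    Q f p u = l u * (Blin f p w - Q f p w • l) u := by
  have hh : l (u - l u • w) = 0 := by simp [hw]
  have h1 := hQ _ hh
  have h2 : u = (u - l u • w) + l u • w := by abel
  have h3 : Q f p u = Q f p ((u - l u • w) + l u • w) := by rw [← h2]
  rw [Q_add f hf, h1, Q_smul f hf, B_smul_right] at h3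
  have h4 : B f p (u - l u • w) w = B f p u w - l u * (2 * Q f p w) := by
    have : u - l u • w = u + (-(l u)) • w := by rw [neg_smul, sub_eq_add_neg]
    rw [this, B_add_left, B_smul_left, B_self f hf]
    ring
  rw [h4] at h3
  rw [h3]
  simp only [LinearMap.sub_apply, LinearMap.smul_apply, smul_eq_mul]
  show _ = l u * (B f p w u - Q f p w * l u)
  rw [B_symm f hf p w u]
  ring

variable [IsAlgClosed K]

include hf hp hsing in
/-- Case A: the tangent cone contains a plane through `p`. -/
theorem encard_le_six_of_hyperplane (hirr : Irreducible f) (hQne : ∃ u, Q f p u ≠ 0)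
    (l : (Fin 4 → K) →ₗ[K] K) (hl : l ≠ 0) (hlp : l p = 0)
    (hQ : ∀ u, l u = 0 → Q f p u = 0) :
    {U : Submodule K (Fin 4 → K) | p ∈ U ∧ finrank K U = 2 ∧
      ∀ u ∈ U, eval u f = 0}.encard ≤ 6 := by
  obtain ⟨w0, hw0⟩ := l.surjective_or_eq_zero.resolve_right hl 1
  set m : (Fin 4 → K) →ₗ[K] K := Blin f p w0 - Q f p w0 • l with hm
  have hQm : ∀ u, Q f p u = l u * m u := Q_eq_mul f hf p l w0 hw0 hQ
  have hm0 : m ≠ 0 := by
    intro h0
    obtain ⟨u, hu⟩ := hQne
    apply hu
    rw [hQm, h0]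
    simp
  have hmp : m p = 0 := by
    simp only [hm, LinearMap.sub_apply, LinearMap.smul_apply, smul_eq_mul, hlp, mul_zero,
      sub_zero]
    exact B_p_right f hf p hsing w0
  have hsub : {U : Submodule K (Fin 4 → K) | p ∈ U ∧ finrank K U = 2 ∧
      ∀ u ∈ U, eval u f = 0} ⊆
      {U : Submodule K (Fin 4 → K) | p ∈ U ∧ finrank K U = 2 ∧ (∀ u ∈ U, eval u f = 0) ∧
        ∀ u ∈ U, l u = 0} ∪
      {U : Submodule K (Fin 4 → K) | p ∈ U ∧ finrank K U = 2 ∧ (∀ u ∈ U, eval u f = 0) ∧
        ∀ u ∈ U, m u = 0} := by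
    rintro U ⟨hpU, hU, hFU⟩
    obtain ⟨u, huU, hu, hUeq, hQu, -⟩ := line_char f hf p hp hsing U hpU hU hFU
    rw [hQm] at hQu
    have key : ∀ l' : (Fin 4 → K) →ₗ[K] K, l' p = 0 → l' u = 0 → ∀ x ∈ U, l' x = 0 := by
      intro l' h1 h2 x hx
      rw [hUeq] at hx
      obtain ⟨a, b, rfl⟩ := Submodule.mem_span_pair.mp hx
      simp [h1, h2]
    rcases mul_eq_zero.mp hQu with h | h
    · exact Or.inl ⟨hpU, hU, hFU, key l hlp h⟩
    · exact Or.inr ⟨hpU, hU, hFU, key m hmp h⟩
  refine (Set.encard_mono hsub).trans ((Set.encard_union_le _ _).trans ?_)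
  have h1 := encard_lines_in_hyperplane_le f hf p hp hsing hirr l hl hlp
  have h2 := encard_lines_in_hyperplane_le f hf p hp hsing hirr m hm0 hmp
  calc _ ≤ (3 : ℕ∞) + 3 := add_le_add h1 h2
    _ = 6 := by norm_num

include hf hp hsing in
theorem exists_NF' (hrad : ∀ u, (∀ w, B f p u w = 0) → u ∈ Submodule.span K {p})
    (e0 : Fin 4 → K) (h0 : e0 ∉ Submodule.span K {p}) (hq0 : Q f p e0 = 0) :
    ∃ e1 e2, NF f p e0 e1 e2 := by
  obtain ⟨w0, hw0⟩ : ∃ w, B f p e0 w ≠ 0 := by
    by_contra hcon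
    push Not at hcon
    exact h0 (hrad e0 hcon)
  have hb00 : B f p e0 e0 = 0 := by rw [B_self f hf, hq0, mul_zero]
  obtain ⟨e2', hb02'⟩ : ∃ e2', B f p e0 e2' = 1 :=
    ⟨(B f p e0 w0)⁻¹ • w0, by rw [B_smul_right, inv_mul_cancel₀ hw0]⟩
  obtain ⟨e2, hb02, hq2⟩ : ∃ e2, B f p e0 e2 = 1 ∧ Q f p e2 = 0 := by
    refine ⟨e2' + (-(Q f p e2')) • e0, ?_, ?_⟩
    · rw [B_add_right, B_smul_right, hb00, hb02']; ring
    · rw [Q_add f hf, Q_smul f hf, hq0, B_smul_right, B_symm f hf p e2' e0, hb02']; ring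
  have he2 : e2 ∉ Submodule.span K {p, e0} := by
    intro hmem
    have hle : Submodule.span K {p, e0} ≤ LinearMap.ker (Blin f p e0) := by
      rw [Submodule.span_le]
      intro z hz
      simp only [Set.mem_insert_iff, Set.mem_singleton_iff] at hz
      show B f p e0 z = 0
      rcases hz with h | h <;> rw [h]
      · exact B_p_right f hf p hsing e0
      · exact hb00
    have : B f p e0 e2 = 0 := hle hmem
    rw [hb02] at this
    exact one_ne_zero this
  obtain ⟨e1', he1'⟩ := exists_not_mem_span3 (k := K) (V := Fin 4 → K) (by simp) p e0 e2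
  obtain ⟨e1'', he1'', hb10, hb12⟩ : ∃ e1'', e1'' ∉ Submodule.span K {p, e0, e2} ∧
      B f p e1'' e0 = 0 ∧ B f p e1'' e2 = 0 := by
    have hcorr : (-(B f p e1' e2)) • e0 + (-(B f p e1' e0)) • e2 ∈
        Submodule.span K {p, e0, e2} :=
      Submodule.add_mem _ (Submodule.smul_mem _ _ (Submodule.subset_span (by simp)))
        (Submodule.smul_mem _ _ (Submodule.subset_span (by simp)))
    refine ⟨e1' + ((-(B f p e1' e2)) • e0 + (-(B f p e1' e0)) • e2), ?_, ?_, ?_⟩
    · intro hmem
      apply he1'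
      have : e1' = (e1' + ((-(B f p e1' e2)) • e0 + (-(B f p e1' e0)) • e2)) -
          ((-(B f p e1' e2)) • e0 + (-(B f p e1' e0)) • e2) := by abel
      rw [this]
      exact Submodule.sub_mem _ hmem hcorr
    · rw [B_add_left, B_add_left, B_smul_left, B_smul_left, hb00, B_symm f hf p e2 e0, hb02]
      ring
    · rw [B_add_left, B_add_left, B_smul_left, B_smul_left, hb02, B_self f hf p e2, hq2]
      ring
  have hq1 : Q f p e1'' ≠ 0 := by
    intro hq
    apply he1''
    have htop := span_four_eq_top (k := K) (by simp) hp h0 he2 he1''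
    have hker : LinearMap.ker (Blin f p e1'') = ⊤ := by
      rw [eq_top_iff, ← htop, Submodule.span_le]
      intro z hz
      simp only [Set.mem_insert_iff, Set.mem_singleton_iff] at hz
      show B f p e1'' z = 0
      rcases hz with h | h | h | h <;> rw [h]
      · exact B_p_right f hf p hsing _
      · exact hb10
      · exact hb12
      · rw [B_self f hf, hq, mul_zero]
    have hrad' : ∀ w, B f p e1'' w = 0 := by
      intro w
      have hw : w ∈ LinearMap.ker (Blin f p e1'') := by rw [hker]; trivial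
      exact hw
    exact Submodule.span_mono (by simp) (hrad e1'' hrad')
  obtain ⟨c, hc⟩ := IsAlgClosed.exists_pow_nat_eq (-(Q f p e1'')⁻¹) (n := 2) (by norm_num)
  have hc0 : c ≠ 0 := by
    rintro rfl
    have h := hc
    simp at h
    exact hq1 h
  have he1 : c • e1'' ∉ Submodule.span K {p, e0, e2} := by
    intro hmem
    apply he1''
    have : e1'' = c⁻¹ • (c • e1'') := by rw [smul_smul, inv_mul_cancel₀ hc0, one_smul]
    rw [this]
    exact Submodule.smul_mem _ _ hmem
  refine ⟨c • e1'', e2, ⟨hq0, ?_, hq2, ?_, hb02, ?_, ?_⟩⟩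
  · rw [Q_smul f hf, hc]
    field_simp
  · rw [B_smul_right, B_symm f hf p e0 e1'', hb10, mul_zero]
  · rw [B_smul_left, hb12, mul_zero]
  · have htop := span_four_eq_top (k := K) (by simp) hp h0 he2 he1
    intro u
    have hu : u ∈ Submodule.span K {p, e0, e2, c • e1''} := by rw [htop]; trivial
    obtain ⟨a, z, hz, rfl⟩ := Submodule.mem_span_insert.mp hu
    obtain ⟨b, c', d, rfl⟩ := Submodule.mem_span_triple.mp hz
    exact ⟨b, d, c', a, by abel⟩


include hf hp hsing in
/-- Case B, step 1: if no plane through `p` lies in the tangent cone, the radical of `B` is `K p`. -/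
theorem radical_of_no_hyperplane
    (hA : ¬ ∃ l : (Fin 4 → K) →ₗ[K] K, l ≠ 0 ∧ l p = 0 ∧ ∀ u, l u = 0 → Q f p u = 0)
    (u : Fin 4 → K) (hu : ∀ w, B f p u w = 0) : u ∈ Submodule.span K {p} := by
  by_contra hup
  apply hA
  have hQu : Q f p u = 0 := by
    have h := B_self f hf p u
    rw [hu] at h
    have h2 : (2 : K) ≠ 0 := by norm_num
    exact (mul_eq_zero.mp h.symm).resolve_left h2
  obtain ⟨v, hv⟩ := exists_not_mem_span3 (k := K) (V := Fin 4 → K) (by simp) p u u
  have hv1 : v ∉ Submodule.span K {p, u} := by simpa using hv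
  obtain ⟨v', hv'⟩ := exists_not_mem_span3 (k := K) (V := Fin 4 → K) (by simp) p u v
  obtain ⟨s, t, hst, hzero⟩ := Groth.Agent.Lib.H6xTernaryQuad.exists_binary_zero
    (Q f p v) (B f p v v') (Q f p v')
  set z : Fin 4 → K := s • v + t • v' with hz
  have hQz : Q f p z = 0 := by
    rw [hz, Q_add f hf, Q_smul f hf, Q_smul f hf, B_smul_left, B_smul_right]
    linear_combination hzero
  have hz1 : z ∉ Submodule.span K {p, u} := by
    intro hmem
    obtain ⟨a, b, hab⟩ := Submodule.mem_span_pair.mp hmem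
    by_cases ht : t = 0
    · have hs : s ≠ 0 := by
        rcases hst with h | h
        · exact h
        · exact absurd ht h
      apply hv1
      have : v = (s⁻¹ * a) • p + (s⁻¹ * b) • u := by
        have h1 : s • v = a • p + b • u := by rw [hab, hz, ht]; simp
        calc v = s⁻¹ • (s • v) := by rw [smul_smul, inv_mul_cancel₀ hs, one_smul]
          _ = _ := by rw [h1, smul_add, smul_smul, smul_smul]
      rw [this]
      exact Submodule.add_mem _ (Submodule.smul_mem _ _ (Submodule.subset_span (by simp)))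
        (Submodule.smul_mem _ _ (Submodule.subset_span (by simp)))
    · apply hv'
      have : v' = (t⁻¹ * a) • p + (t⁻¹ * b) • u + (-(t⁻¹ * s)) • v := by
        have h1 : t • v' = a • p + b • u - s • v := by rw [hab, hz]; abel
        calc v' = t⁻¹ • (t • v') := by rw [smul_smul, inv_mul_cancel₀ ht, one_smul]
          _ = _ := by
            rw [h1, smul_sub, smul_add, smul_smul, smul_smul, smul_smul, neg_smul,
              sub_eq_add_neg]
      rw [this]
      exact Submodule.add_mem _ (Submodule.add_mem _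
        (Submodule.smul_mem _ _ (Submodule.subset_span (by simp)))
        (Submodule.smul_mem _ _ (Submodule.subset_span (by simp))))
        (Submodule.smul_mem _ _ (Submodule.subset_span (by simp)))
  obtain ⟨z', hz'⟩ := exists_not_mem_span3 (k := K) (V := Fin 4 → K) (by simp) p u z
  have htop := span_four_eq_top (k := K) (by simp) hp hup hz1 hz'
  obtain ⟨l, hlz', hle⟩ := Submodule.exists_le_ker_of_notMem hz'
  have hlp : l p = 0 := hle (Submodule.subset_span (by simp))
  have hlu : l u = 0 := hle (Submodule.subset_span (by simp))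
  have hlz : l z = 0 := hle (Submodule.subset_span (by simp))
  refine ⟨l, fun h0 => hlz' (by rw [h0]; simp), hlp, ?_⟩
  intro x hx
  have hxmem : x ∈ Submodule.span K {p, u, z, z'} := by rw [htop]; trivial
  obtain ⟨a, y, hy, rfl⟩ := Submodule.mem_span_insert.mp hxmem
  obtain ⟨b, c, d, rfl⟩ := Submodule.mem_span_triple.mp hy
  have hd : d = 0 := by
    simp only [map_add, map_smul, hlp, hlu, hlz, smul_eq_mul, mul_zero, zero_add] at hx
    exact (mul_eq_zero.mp hx).resolve_right hlz'
  rw [hd, zero_smul, add_zero, Q_add_p f hf p hsing, Q_add f hf, Q_smul f hf, Q_smul f hf, hQu,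
    hQz, B_smul_left, hu]
  ring

variable {e0 e1 e2 : Fin 4 → K}

include hf hsing in
omit [IsAlgClosed K] in
/-- points of the tangent cone in normal form coordinates -/
theorem cone_cases (h : NF f p e0 e1 e2) (x : Fin 4 → K) (hQx : Q f p x = 0) :
    (∃ a c s : K, c ≠ 0 ∧ x = c • gam e0 e1 e2 a + s • p) ∨ (∃ c s : K, x = c • e0 + s • p) := by
  obtain ⟨x0, x1, x2, x3, rfl⟩ := h.decomp x
  rw [h.Q_comb f hf p hsing] at hQx
  by_cases hx2 : x2 = 0
  · right
    have hx1 : x1 = 0 := by
      rw [hx2, mul_zero, zero_sub, neg_eq_zero] at hQx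
      exact pow_eq_zero_iff (by norm_num) |>.mp hQx
    exact ⟨x0, x3, by rw [hx1, hx2]; simp⟩
  · left
    refine ⟨x1 / x2, x2, x3, hx2, ?_⟩
    have hx0 : x0 = x2 * (x1 / x2) ^ 2 := by
      field_simp
      linear_combination hQx
    rw [gam, smul_add, smul_add, smul_smul, smul_smul, ← hx0, mul_div_cancel₀ _ hx2]

include hf hp hsing in
/-- Case B: the tangent cone is a nondegenerate conic. -/
theorem encard_le_six_of_NF (hirr : Irreducible f) (hq0 : qpoly f p ≠ 0)
    (h : NF f p e0 e1 e2) (he0 : e0 ∉ Submodule.span K {p}) :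
    {U : Submodule K (Fin 4 → K) | p ∈ U ∧ finrank K U = 2 ∧
      ∀ u ∈ U, eval u f = 0}.encard ≤ 6 := by
  have hc6 : (gpoly f e0 e1 e2).coeff 6 = eval e0 f := by
    unfold gpoly
    simp only [Polynomial.coeff_add, Polynomial.coeff_C_mul, Polynomial.coeff_X_pow,
      Polynomial.coeff_X, Polynomial.coeff_C]
    norm_num
  have hg0 : gpoly f e0 e1 e2 ≠ 0 := by
    intro hg
    obtain ⟨x, hx1, hx2⟩ := exists_zero_ne_zero f (qpoly f p) hirr hf (d := 2) (by norm_num)
      (by norm_num) (qpoly_isHomogeneous f hf p) hq0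
    rw [eval_qpoly] at hx1
    apply hx2
    rcases cone_cases f hf p hsing h x hx1 with ⟨a, c, s, -, rfl⟩ | ⟨c, s, rfl⟩
    · rw [add_comm, F_add_p f hf p hsing, Q_smul f hf, h.Q_gam f hf p hsing, eval_smul hf,
        ← eval_gpoly f hf, hg]
      simp
    · rw [add_comm, F_add_p f hf p hsing, Q_smul f hf, h.q0, eval_smul hf, ← hc6, hg]
      simp
  -- every line is of the form `span {p, gam a}` or `span {p, e0}`
  have hcases : ∀ U : Submodule K (Fin 4 → K), p ∈ U → finrank K U = 2 →
      (∀ u ∈ U, eval u f = 0) →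
      (∃ a : K, Polynomial.eval a (gpoly f e0 e1 e2) = 0 ∧
        Submodule.span K {p, gam e0 e1 e2 a} = U) ∨
      (eval e0 f = 0 ∧ U = Submodule.span K {p, e0}) := by
    intro U hpU hU hFU
    obtain ⟨u, huU, hu, hUeq, hQu, -⟩ := line_char f hf p hp hsing U hpU hU hFU
    have hspan : ∀ y ∈ U, y ∉ Submodule.span K {p} → Submodule.span K {p, y} = U := by
      intro y hyU hy
      have hle : Submodule.span K {p, y} ≤ U := by
        rw [Submodule.span_le]
        intro z hz
        simp only [Set.mem_insert_iff, Set.mem_singleton_iff] at hz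
        rcases hz with h | h <;> rw [h] <;> assumption
      exact Submodule.eq_of_le_of_finrank_eq hle
        (by rw [finrank_span_pair_eq_two hp hy, hU])
    rcases cone_cases f hf p hsing h u hQu with ⟨a, c, s, hc, hx⟩ | ⟨c, s, hx⟩
    · left
      have hmem : gam e0 e1 e2 a ∈ U := by
        have : gam e0 e1 e2 a = c⁻¹ • (u - s • p) := by
          rw [hx, add_sub_cancel_right, smul_smul, inv_mul_cancel₀ hc, one_smul]
        rw [this]
        exact U.smul_mem _ (U.sub_mem huU (U.smul_mem _ hpU))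
      refine ⟨a, ?_, hspan _ hmem (h.gam_not_mem f hf p hsing a)⟩
      rw [eval_gpoly f hf]
      exact hFU _ hmem
    · right
      have hc : c ≠ 0 := by
        rintro rfl
        apply hu
        rw [hx, zero_smul, zero_add]
        exact Submodule.smul_mem _ _ (Submodule.subset_span rfl)
      have hmem : e0 ∈ U := by
        have : e0 = c⁻¹ • (u - s • p) := by
          rw [hx, add_sub_cancel_right, smul_smul, inv_mul_cancel₀ hc, one_smul]
        rw [this]
        exact U.smul_mem _ (U.sub_mem huU (U.smul_mem _ hpU))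
      exact ⟨hFU _ hmem, (hspan _ hmem he0).symm⟩
  by_cases hF0 : eval e0 f = 0
  · have hdeg : (gpoly f e0 e1 e2).natDegree ≤ 5 := by
      unfold gpoly
      rw [hF0]
      simp only [map_zero, zero_mul, zero_add]
      compute_degree
    have hsub : {U : Submodule K (Fin 4 → K) | p ∈ U ∧ finrank K U = 2 ∧
        ∀ u ∈ U, eval u f = 0} ⊆
        (fun a : K => Submodule.span K {p, gam e0 e1 e2 a}) ''
          {a : K | Polynomial.eval a (gpoly f e0 e1 e2) = 0} ∪ {Submodule.span K {p, e0}} := by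
      rintro U ⟨hpU, hU, hFU⟩
      rcases hcases U hpU hU hFU with ⟨a, ha, hUa⟩ | ⟨-, hUe⟩
      · exact Or.inl ⟨a, ha, hUa⟩
      · exact Or.inr hUe
    refine (Set.encard_mono hsub).trans ((Set.encard_union_le _ _).trans ?_)
    rw [Set.encard_singleton]
    have h1 := (Set.encard_image_le (fun a : K => Submodule.span K {p, gam e0 e1 e2 a})
      {a : K | Polynomial.eval a (gpoly f e0 e1 e2) = 0}).trans (encard_roots_le _ hg0)
    have h2 : ((gpoly f e0 e1 e2).natDegree : ℕ∞) ≤ 5 := by exact_mod_cast hdeg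
    calc _ ≤ (5 : ℕ∞) + 1 := add_le_add (h1.trans h2) le_rfl
      _ = 6 := by norm_num
  · have hdeg : (gpoly f e0 e1 e2).natDegree ≤ 6 := by
      unfold gpoly
      compute_degree
    have hsub : {U : Submodule K (Fin 4 → K) | p ∈ U ∧ finrank K U = 2 ∧
        ∀ u ∈ U, eval u f = 0} ⊆
        (fun a : K => Submodule.span K {p, gam e0 e1 e2 a}) ''
          {a : K | Polynomial.eval a (gpoly f e0 e1 e2) = 0} := by
      rintro U ⟨hpU, hU, hFU⟩
      rcases hcases U hpU hU hFU with ⟨a, ha, hUa⟩ | ⟨h0, -⟩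
      · exact ⟨a, ha, hUa⟩
      · exact absurd h0 hF0
    refine (Set.encard_mono hsub).trans ((Set.encard_image_le _ _).trans ?_)
    refine (encard_roots_le _ hg0).trans ?_
    exact_mod_cast hdeg

end setting

section main

universe u

theorem main (K : Type u) [Field K] [IsAlgClosed K] [CharZero K]
    (F : MvPolynomial (Fin 4) K) (hF : F.IsHomogeneous 3) (hirr : Irreducible F)
    (hcone : ¬ ∃ v : Fin 4 → K, v ≠ 0 ∧ ∑ i : Fin 4, v i • MvPolynomial.pderiv i F = 0)
    (a : Fin 4 → K) (ha : a ≠ 0)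
    (hsing : ∀ i : Fin 4, MvPolynomial.eval a (MvPolynomial.pderiv i F) = 0) :
    {U : Submodule K (Fin 4 → K) | a ∈ U ∧ Module.finrank K ↥U = 2 ∧
      ∀ u ∈ U, MvPolynomial.eval u F = 0}.encard ≤ 6 := by
  have hq0 : qpoly F a ≠ 0 := by
    intro h0
    apply hcone
    refine ⟨a, ha, ?_⟩
    rw [← h0, qpoly]
    exact Finset.sum_congr rfl fun i _ => smul_eq_C_mul _ _
  have hQne : ∃ u, Q F a u ≠ 0 := by
    by_contra hcon
    push Not at hcon
    apply hq0
    apply MvPolynomial.funext
    intro x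
    rw [eval_qpoly, map_zero]
    exact hcon x
  by_cases hA : ∃ l : (Fin 4 → K) →ₗ[K] K, l ≠ 0 ∧ l a = 0 ∧ ∀ u, l u = 0 → Q F a u = 0
  · obtain ⟨l, hl, hla, hQ⟩ := hA
    exact encard_le_six_of_hyperplane F hF a ha hsing hirr hQne l hl hla hQ
  · have hrad := radical_of_no_hyperplane F hF a ha hsing hA
    obtain ⟨e0, he0, hqe0⟩ := exists_isotropic F hF a
    obtain ⟨e1, e2, hNF⟩ := exists_NF' F hF a ha hsing hrad e0 he0 hqe0
    exact encard_le_six_of_NF F hF a ha hsing hirr hq0 hNF he0

end main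

end Groth.Agent.Lib.H6xCubicSing
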