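import Mathlib
import Groth.Prelude.Def_DRing3
import Groth.Agent.Lib.H6xCoextA

/-!
# The derived completion of a complex on which some `f ∈ I` acts bijectively vanishes (helper6)
-/

set_option autoImplicit false
universe u
open CategoryTheory CategoryTheory.Limits HomologicalComplex
attribute [local instance] HasDerivedCategory.standard

namespace Groth.Agent.Lib.H6xDCompZero

section Loc

variable {A : Type u} [CommRing A] (S : Submonoid A)

/-- the localization map `M ⟶ (M_S)|_A` -/
noncomputable def locMap (M : ModuleCat.{u} A) :
    M ⟶ (ModuleCat.restrictScalars.{u} (algebraMap A (Localization S))).obj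
      ((ModuleCat.localizedModuleFunctor S).obj M) :=
  ModuleCat.ofHom (Y := (ModuleCat.restrictScalars.{u} (algebraMap A (Localization S))).obj
      (M.localizedModule S))
    { toFun := fun m => M.localizedModuleMkLinearMap S m
      map_add' := fun m m' => map_add _ m m'
      map_smul' := fun a m => by
        have h1 := (M.localizedModuleMkLinearMap S).map_smul a m
        have h2 : (algebraMap A (Localization S) a) • (M.localizedModuleMkLinearMap S m) =
            a • (M.localizedModuleMkLinearMap S m) :=
          IsScalarTower.algebraMap_smul (Localization S) a _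
        exact h1.trans h2.symm }

lemma locMap_apply (M : ModuleCat.{u} A) (m : M) :
    (locMap S M).hom m = M.localizedModuleMkLinearMap S m := rfl

lemma locMap_naturality {M N : ModuleCat.{u} A} (g : M ⟶ N) :
    locMap S M ≫ (ModuleCat.restrictScalars.{u} (algebraMap A (Localization S))).map
      ((ModuleCat.localizedModuleFunctor S).map g) = g ≫ locMap S N := by
  ext m
  change (IsLocalizedModule.mapExtendScalars S (M.localizedModuleMkLinearMap S)
    (N.localizedModuleMkLinearMap S) (Localization S) g.hom) (M.localizedModuleMkLinearMap S m) =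
      N.localizedModuleMkLinearMap S (g.hom m)
  rw [IsLocalizedModule.mapExtendScalars_apply_apply]
  exact IsLocalizedModule.map_apply S _ _ g.hom m

lemma bijective_mkLinearMap (f : A) (M : ModuleCat.{u} A)
    (hM : Function.Bijective (fun x : M => f • x)) :
    Function.Bijective (M.localizedModuleMkLinearMap (Submonoid.powers f)) := by
  have hpow : ∀ n : ℕ, Function.Bijective (fun x : M => f ^ n • x) := by
    intro n
    induction n with
    | zero =>
      have : (fun x : M => f ^ 0 • x) = id := by
        funext x
        simp
      rw [this]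
      exact Function.bijective_id
    | succ n ih =>
      have : (fun x : M => f ^ (n + 1) • x) = (fun x => f ^ n • x) ∘ (fun x => f • x) := by
        funext x
        simp [pow_succ, mul_smul]
      rw [this]
      exact ih.comp hM
  constructor
  · intro m m' h
    have h0 : M.localizedModuleMkLinearMap (Submonoid.powers f) (m - m') = 0 := by
      rw [map_sub, sub_eq_zero]
      exact h
    obtain ⟨c, hc⟩ := (IsLocalizedModule.eq_zero_iff (Submonoid.powers f)
      (M.localizedModuleMkLinearMap (Submonoid.powers f))).1 h0
    obtain ⟨n, hn⟩ := c.2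
    have hn' : f ^ n = (c : A) := hn
    rw [Submonoid.smul_def, ← hn'] at hc
    have h1 : m - m' = 0 := (hpow n).1 (hc.trans (smul_zero _).symm)
    exact sub_eq_zero.1 h1
  · intro y
    obtain ⟨⟨m, c⟩, hmc⟩ := IsLocalizedModule.surj (Submonoid.powers f)
      (M.localizedModuleMkLinearMap (Submonoid.powers f)) y
    obtain ⟨n, hn⟩ := c.2
    have hn' : f ^ n = (c : A) := hn
    obtain ⟨m', hm'⟩ := (hpow n).2 m
    refine ⟨m', ?_⟩
    apply IsLocalizedModule.smul_injective (M.localizedModuleMkLinearMap (Submonoid.powers f)) c
    dsimp only at hmc hm' ⊢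
    rw [hmc, ← hm', hn', ← Submonoid.smul_def, LinearMap.map_smul_of_tower]

lemma isIso_locMap (f : A) (M : ModuleCat.{u} A)
    (hM : Function.Bijective (fun x : M => f • x)) :
    IsIso (locMap (Submonoid.powers f) M) := by
  rw [ConcreteCategory.isIso_iff_bijective]
  exact bijective_mkLinearMap f M hM

end Loc

section Cx

variable {A : Type u} [CommRing A] (f : A)

/-- the chain map `K ⟶ (K_f)|_A` -/
noncomputable def locCx (K : CochainComplex (ModuleCat.{u} A) ℤ) :
    K ⟶ ((ModuleCat.restrictScalars.{u}
        (algebraMap A (Localization (Submonoid.powers f)))).mapHomologicalComplex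
          (ComplexShape.up ℤ)).obj
      (((ModuleCat.localizedModuleFunctor (Submonoid.powers f)).mapHomologicalComplex
        (ComplexShape.up ℤ)).obj K) where
  f i := locMap (Submonoid.powers f) (K.X i)
  comm' i j _ := locMap_naturality _ (K.d i j)

lemma isIso_locCx (K : CochainComplex (ModuleCat.{u} A) ℤ)
    (hK : ∀ i : ℤ, Function.Bijective (fun x : K.X i => f • x)) : IsIso (locCx f K) := by
  haveI : ∀ i, IsIso ((locCx f K).f i) := fun i => isIso_locMap f (K.X i) (hK i)
  exact HomologicalComplex.Hom.isIso_of_components _

theorem main (I : Ideal A) [DRing.HasDerivedCompletion I] (K : DRing.Cx A) (hf : f ∈ I)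
    (hK : ∀ i : ℤ, Function.Bijective (fun x : K.X i => f • x)) :
    IsZero ((DRing.derivedCompletion I).obj (DRing.toD K)).obj := by
  haveI := isIso_locCx f K hK
  let K' : CochainComplex (ModuleCat.{u} (Localization.Away f)) ℤ :=
    ((ModuleCat.localizedModuleFunctor (Submonoid.powers f)).mapHomologicalComplex
      (ComplexShape.up ℤ)).obj K
  let e : DRing.toD K ≅
      (DRing.restrictD (algebraMap A (Localization.Away f))).obj (DerivedCategory.Q.obj K') :=
    asIso (DerivedCategory.Q.map (locCx f K)) ≪≫
      ((ModuleCat.restrictScalars.{u}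
        (algebraMap A (Localization.Away f))).mapDerivedCategoryFactors.app K').symm
  have hsub : ∀ C : Dual.D A, DRing.IsDerivedComplete I C → Subsingleton (DRing.toD K ⟶ C) := by
    intro C hC
    have h1 := (Groth.Agent.Lib.H6xCoext.main (A := A) (B := Localization.Away f) C).1
      (hC f hf) (DerivedCategory.Q.obj K')
    exact (e.homFromEquiv (Z := C)).subsingleton_congr.2 h1
  let L := (DRing.derivedCompletion I).obj (DRing.toD K)
  haveI : Subsingleton (DRing.toD K ⟶ (ObjectProperty.ι (DRing.IsDerivedComplete I)).obj L) :=
    hsub L.obj L.property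
  have h2 : Subsingleton (L ⟶ L) :=
    ((DRing.derivedCompletionAdj I).homEquiv (DRing.toD K) L).subsingleton
  rw [IsZero.iff_id_eq_zero]
  have h3 : 𝟙 L = 0 := Subsingleton.elim _ _
  have h4 : (ObjectProperty.ι (DRing.IsDerivedComplete I)).map (𝟙 L) =
      (ObjectProperty.ι (DRing.IsDerivedComplete I)).map 0 := by rw [h3]
  rw [CategoryTheory.Functor.map_id] at h4
  exact h4.trans (Functor.map_zero _ _ _)

end Cx

end Groth.Agent.Lib.H6xDCompZero
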