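import Mathlib
import Groth.Agent.Lib.Helper21DCoprod

/-!
# Homology of coproducts of complexes and of coproducts in the derived category (helper6)

* `homologySigmaIso` : under AB4, `H^n` of the termwise coproduct of complexes is the coproduct
  of the `H^n`;
* `nonempty_homology_sigma_iso` : in `D(A)` (AB4), `H^n (∐ K) ≅ ∐ H^n (K i)`.
-/

set_option autoImplicit false
universe w v u v'
open CategoryTheory Limits

noncomputable section

namespace Groth.Agent.Lib.H6xDCoprodH

open Groth.Agent.Lib.Helper21.DCoprod

section Complexes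

variable {A : Type u} [Category.{v} A] [Abelian A] {ι : Type*} (c : ComplexShape ι)
  {J : Type w} [HasColimitsOfShape (Discrete J) A] [HasExactColimitsOfShape (Discrete J) A]

/-- homology of `bigK` evaluated at `j` -/
def bigKHomologyAppIso (K : J → HomologicalComplex A c) (n : ι) (j : J) :
    ((bigK c K).homology n).obj ⟨j⟩ ≅ (K j).homology n :=
  (((bigK c K).sc n).mapHomologyIso ((evaluation (Discrete J) A).obj ⟨j⟩)).symm ≪≫
    ShortComplex.homologyMapIso (ShortComplex.isoMk (Iso.refl _) (Iso.refl _) (Iso.refl _)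
      (by simp) (by simp))

/-- homology of `bigK` -/
def bigKHomologyIso (K : J → HomologicalComplex A c) (n : ι) :
    (bigK c K).homology n ≅ Discrete.functor (fun j => (K j).homology n) :=
  Discrete.natIso (fun ⟨j⟩ => bigKHomologyAppIso c K n j)

/-- under AB4, homology commutes with termwise coproducts -/
def homologySigmaIso (K : J → HomologicalComplex A c) (n : ι) :
    (sigmaK c K).homology n ≅ ∐ (fun j => (K j).homology n) :=
  ((bigK c K).sc n).mapHomologyIso (colim : (Discrete J ⥤ A) ⥤ A) ≪≫
    (colim : (Discrete J ⥤ A) ⥤ A).mapIso (bigKHomologyIso c K n)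

end Complexes

section Derived

variable {A : Type u} [Category.{v} A] [Abelian A] [HasDerivedCategory.{v'} A]
  {J : Type w} [HasColimitsOfShape (Discrete J) A] [HasExactColimitsOfShape (Discrete J) A]

/-- In the derived category of an AB4 abelian category, homology commutes with coproducts. -/
theorem nonempty_homology_sigma_iso (K : J → DerivedCategory A) [HasCoproduct K] (n : ℤ) :
    Nonempty ((DerivedCategory.homologyFunctor A n).obj (∐ K) ≅
      ∐ (fun j => (DerivedCategory.homologyFunctor A n).obj (K j))) := by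
  haveI := hasCoproductsOfShape_derivedCategory (A := A) J
  let C : J → CochainComplex A ℤ := fun j => DerivedCategory.Q.objPreimage (K j)
  let e : ∀ j, DerivedCategory.Q.obj (C j) ≅ K j := fun j =>
    DerivedCategory.Q.objObjPreimageIso (K j)
  have hcol := isColimitQMapCofan (fun j => (cofanK (ComplexShape.up ℤ) C).inj j)
    (isColimitCofanK (ComplexShape.up ℤ) C)
  haveI : HasCoproduct (fun j => DerivedCategory.Q.obj (C j)) := ⟨⟨⟨_, hcol⟩⟩⟩
  let e₁ : ∐ K ≅ ∐ (fun j => DerivedCategory.Q.obj (C j)) :=
    (Sigma.mapIso e).symm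
  let e₂ : ∐ (fun j => DerivedCategory.Q.obj (C j)) ≅
      DerivedCategory.Q.obj (sigmaK (ComplexShape.up ℤ) C) :=
    IsColimit.coconePointUniqueUpToIso (colimit.isColimit _) hcol
  let e₃ : (DerivedCategory.homologyFunctor A n).obj
      (DerivedCategory.Q.obj (sigmaK (ComplexShape.up ℤ) C)) ≅
      (sigmaK (ComplexShape.up ℤ) C).homology n :=
    (DerivedCategory.homologyFunctorFactors A n).app _
  let e₄ : ∀ j, (C j).homology n ≅ (DerivedCategory.homologyFunctor A n).obj (K j) := fun j =>
    ((DerivedCategory.homologyFunctorFactors A n).app (C j)).symm ≪≫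
      (DerivedCategory.homologyFunctor A n).mapIso (e j)
  exact ⟨(DerivedCategory.homologyFunctor A n).mapIso (e₁ ≪≫ e₂) ≪≫ e₃ ≪≫
    homologySigmaIso (ComplexShape.up ℤ) C n ≪≫ Sigma.mapIso e₄⟩

end Derived

end Groth.Agent.Lib.H6xDCoprodH
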