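import Mathlib.Tactic
import Groth.Prelude.Def_Red2
import Groth.Agent.Lib.Helper27GaGm

/-!
# Points of diagonalisable groups `D_S(M)` (helper6)

For `X : Over S` and a point `x : X ⟶ Red.DS S M`, `dsFn x m : Γ(X.left, ⊤)` is the value of the
character `m` on `x`.  The map `x ↦ dsFn x` identifies `Hom(X, D_S(M))` with the monoid homs
`Multiplicative M →* Γ(X.left, ⊤)`.
-/

set_option autoImplicit false
universe u

open CategoryTheory MonoidalCategory CartesianMonoidalCategory MonObj GrpObj AlgebraicGeometry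
  CategoryTheory.Limits
open scoped TensorProduct
open Groth.Agent.Lib.Helper27.GaGm

namespace Groth.Agent.Lib.H6xDSPts

variable {S : Scheme.{u}} {M N : Type} [AddCommGroup M] [AddCommGroup N]

/-- the underlying morphism to `Spec ℤ[M]` of a point of `D_S(M)`. -/
noncomputable def dsPt {X : Over S} (x : X ⟶ Red.DS S M) :
    X.left ⟶ Spec (CommRingCat.of (MonoidAlgebra (ULift.{u} ℤ) (Multiplicative M))) :=
  x.left ≫ pullback.fst _ _

/-- the value of the character `m` on the point `x`. -/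
noncomputable def dsFn {X : Over S} (x : X ⟶ Red.DS S M) (m : M) : Γ(X.left, ⊤) :=
  fn (dsPt x) (MonoidAlgebra.single (Multiplicative.ofAdd m) 1)

lemma dsFn_eq_fn {X : Over S} (x : X ⟶ Red.DS S M) (m : M) :
    dsFn x m = fn (adjEquiv (Limits.IsTerminal.from specULiftZIsTerminal S)
      (Red.diag (ULift.{u} ℤ) M) X x).left
      (MonoidAlgebra.single (Multiplicative.ofAdd m) 1) := rfl

lemma gmFn_eq_dsFn {X : Over S} (x : X ⟶ Red.Gm S) : Red.gmFn x = dsFn x (1 : ℤ) := rfl

theorem dsFn_mul {X : Over S} (x y : X ⟶ Red.DS S M) (m : M) :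
    dsFn (x * y) m = dsFn x m * dsFn y m := by
  rw [dsFn_eq_fn, dsFn_eq_fn, dsFn_eq_fn, adjEquiv_mul]
  refine fn_mul_left_of_grouplike _ _ _ ?_
  simp

theorem dsFn_add {X : Over S} (x : X ⟶ Red.DS S M) (m m' : M) :
    dsFn x (m + m') = dsFn x m * dsFn x m' := by
  unfold dsFn
  rw [fn_eq, fn_eq, fn_eq, ← map_mul, MonoidAlgebra.single_mul_single, ofAdd_add, _root_.mul_one]

theorem dsFn_zero {X : Over S} (x : X ⟶ Red.DS S M) : dsFn x (0 : M) = 1 := by
  unfold dsFn
  rw [fn_eq, ofAdd_zero, ← MonoidAlgebra.one_def, map_one]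

theorem dsFn_isUnit {X : Over S} (x : X ⟶ Red.DS S M) (m : M) : IsUnit (dsFn x m) := by
  refine IsUnit.of_mul_eq_one (dsFn x (-m)) ?_
  rw [← dsFn_add, add_neg_cancel, dsFn_zero]

theorem dsFn_one {X : Over S} (m : M) : dsFn (1 : X ⟶ Red.DS S M) m = 1 := by
  have := dsFn_mul (1 : X ⟶ Red.DS S M) 1 m
  have h11 : (1 : X ⟶ Red.DS S M) * 1 = 1 := _root_.mul_one (1 : X ⟶ Red.DS S M)
  rw [h11] at this
  exact (dsFn_isUnit (1 : X ⟶ Red.DS S M) m).mul_left_cancel (by rw [← this, _root_.mul_one])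

theorem dsFn_pow {X : Over S} (x : X ⟶ Red.DS S M) (j : ℕ) (m : M) :
    dsFn (x ^ j) m = dsFn x m ^ j := by
  induction j with
  | zero => simp [dsFn_one]
  | succ j ih => rw [pow_succ, pow_succ, dsFn_mul, ih]

theorem dsFn_nsmul {X : Over S} (x : X ⟶ Red.DS S M) (j : ℕ) (m : M) :
    dsFn x (j • m) = dsFn x m ^ j := by
  induction j with
  | zero => simp [dsFn_zero]
  | succ j ih => rw [succ_nsmul, pow_succ, dsFn_add, ih]

theorem dsFn_comp {X X' : Over S} (g : X' ⟶ X) (x : X ⟶ Red.DS S M) (m : M) :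
    dsFn (g ≫ x) m = g.left.appTop (dsFn x m) := by
  unfold dsFn dsPt
  rw [Over.comp_left, Category.assoc, fn_comp]

theorem dsFn_ext {X : Over S} (x y : X ⟶ Red.DS S M) (h : ∀ m, dsFn x m = dsFn y m) : x = y := by
  have h2 : dsPt x = dsPt y := by
    apply fn_ext
    intro a
    refine congrArg (fun k : _ →+* _ => k a) (?_ : fnHom (dsPt x) = fnHom (dsPt y))
    apply MonoidAlgebra.ringHom_ext'
    · exact ulift_int_ringHom_ext _ _
    · ext m
      exact h (Multiplicative.toAdd m)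
  apply (adjEquiv (Limits.IsTerminal.from specULiftZIsTerminal S)
    (Red.diag (ULift.{u} ℤ) M) X).injective
  apply Over.OverMorphism.ext
  exact h2

theorem dsFn_surj {X : Over S} (χ : Multiplicative M →* Γ(X.left, ⊤)) :
    ∃ x : X ⟶ Red.DS S M, ∀ m, dsFn x m = χ (Multiplicative.ofAdd m) := by
  let _ : Algebra (ULift.{u} ℤ) Γ(X.left, ⊤) := ULift.algebra' ℤ _
  obtain ⟨y', hy'⟩ := fn_surj (Y := X.left)
    (MonoidAlgebra.lift (ULift.{u} ℤ) Γ(X.left, ⊤) (Multiplicative M) χ).toRingHom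
  refine ⟨(adjEquiv (Limits.IsTerminal.from specULiftZIsTerminal S)
    (Red.diag (ULift.{u} ℤ) M) X).symm
    (Over.homMk y' (specULiftZIsTerminal.hom_ext _ _)), fun m => ?_⟩
  rw [dsFn_eq_fn, Equiv.apply_symm_apply]
  refine (hy' _).trans ?_
  simp

theorem dsPt_DSmap {X : Over S} (φ : M →+ N) (x : X ⟶ Red.DS S N) :
    dsPt (x ≫ Red.DSmap S φ) = dsPt x ≫ Spec.map (CommRingCat.ofHom
      (MonoidAlgebra.mapDomainAlgHom (ULift.{u} ℤ) (ULift.{u} ℤ)
        (AddMonoidHom.toMultiplicative φ)).toRingHom) := by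
  unfold dsPt Red.DSmap
  rw [Over.comp_left, Category.assoc, Category.assoc]
  congr 1
  simp only [Red.diagMap, Over.pullback_map_left, Scheme.Hom.asOver, Over.homMk_left,
    AlgHom.toRingHom_eq_coe]
  exact pullback.lift_fst _ _ _

theorem dsFn_DSmap {X : Over S} (φ : M →+ N) (x : X ⟶ Red.DS S N) (m : M) :
    dsFn (x ≫ Red.DSmap S φ) m = dsFn x (φ m) := by
  unfold dsFn
  rw [dsPt_DSmap, fn_specMap]
  congr 1
  simp

theorem isMonHom_of_pts {C : Type*} [Category C] [CartesianMonoidalCategory C] {X Y : C}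
    [MonObj X] [MonObj Y]
    (f : X ⟶ Y) (h1 : (1 : 𝟙_ C ⟶ X) ≫ f = 1)
    (hmul : ∀ (T : C) (x y : T ⟶ X), (x * y) ≫ f = (x ≫ f) * (y ≫ f)) :
    IsMonHom f where
  one_hom := by
    rw [Hom.one_def, Hom.one_def, toUnit_unique (toUnit (𝟙_ C)) (𝟙 _), Category.id_comp,
      Category.id_comp] at h1
    exact h1
  mul_hom := by
    have h := hmul _ (fst X X) (snd X X)
    rw [Hom.mul_def, Hom.mul_def, lift_fst_snd, Category.id_comp, lift_fst_comp_snd_comp] at h
    exact h

instance isMonHom_DSmap (φ : M →+ N) : IsMonHom (Red.DSmap S φ) := by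
  apply isMonHom_of_pts
  · apply dsFn_ext
    intro m
    rw [dsFn_DSmap, dsFn_one, dsFn_one]
  · intro T x y
    apply dsFn_ext
    intro m
    rw [dsFn_DSmap, dsFn_mul, dsFn_mul, dsFn_DSmap, dsFn_DSmap]

instance isMonHom_chi (m : M) : IsMonHom (Red.chi S m) := by
  unfold Red.chi
  infer_instance

theorem gmFn_chi {X : Over S} (x : X ⟶ Red.DS S M) (m : M) :
    Red.gmFn (x ≫ Red.chi S m) = dsFn x m := by
  rw [gmFn_eq_dsFn]
  unfold Red.chi
  rw [dsFn_DSmap]
  simp

theorem dsFn_eq_appTop {X : Over S} (x : X ⟶ Red.DS S M) (m : M) :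
    dsFn x m = x.left.appTop (dsFn (𝟙 (Red.DS S M)) m) := by
  rw [← dsFn_comp, Category.comp_id]

/-- the characters of `D_S(M)` are pairwise distinct over a non-empty base. -/
theorem dsFn_id_injective [Nonempty S] :
    Function.Injective (fun m : M => dsFn (𝟙 (Red.DS S M)) m) := by
  intro m m' h
  simp only at h
  obtain ⟨s⟩ := ‹Nonempty S›
  let K := S.residueField s
  let X : Over S := Over.mk (Spec.map (CommRingCat.ofHom
    (algebraMap K (MonoidAlgebra K (Multiplicative M)))) ≫ S.fromSpecResidueField s)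
  let χ : Multiplicative M →* Γ(X.left, ⊤) :=
    ((Scheme.ΓSpecIso (CommRingCat.of (MonoidAlgebra K (Multiplicative M)))).inv.hom :
      MonoidAlgebra K (Multiplicative M) →+* Γ(X.left, ⊤)).toMonoidHom.comp
      (MonoidAlgebra.of K (Multiplicative M))
  obtain ⟨x, hx⟩ := dsFn_surj (S := S) (X := X) χ
  have h1 : dsFn x m = dsFn x m' := by
    rw [dsFn_eq_appTop x m, dsFn_eq_appTop x m', h]
  rw [hx, hx] at h1
  have hinj : Function.Injective
      ((Scheme.ΓSpecIso (CommRingCat.of (MonoidAlgebra K (Multiplicative M)))).inv.hom :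
      MonoidAlgebra K (Multiplicative M) →+* Γ(X.left, ⊤)) :=
    (ConcreteCategory.bijective_of_isIso
      (Scheme.ΓSpecIso (CommRingCat.of (MonoidAlgebra K (Multiplicative M)))).inv).1
  have h2 := MonoidAlgebra.of_injective (hinj h1)
  exact Multiplicative.ofAdd.injective h2

end Groth.Agent.Lib.H6xDSPts
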