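import Mathlib
import Groth.Prelude.Def_DRing3
import Groth.Agent.Lib.Helper10DerComplete4
import Groth.Agent.Lib.Helper10DerComplete5
import Groth.Agent.Lib.Helper10DerComplete6
import Groth.Agent.Lib.Helper1PC
set_option backward.isDefEq.respectTransparency.types false

/-!
# helper6: derived complete objects form a triangulated subcategory; derived completion is a
triangulated functor
-/

set_option autoImplicit false
set_option linter.style.haveILetI false
universe u
open CategoryTheory CategoryTheory.Limits Pretriangulated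
attribute [local instance] HasDerivedCategory.standard

namespace Groth.Agent.Lib.H6xDc

open DerivedCategory

section Tri

variable {A : Type u} [CommRing A] (I : Ideal A)

lemma isDerivedComplete_of_iso {K K' : Dual.D A} (e : K ≅ K') (h : DRing.IsDerivedComplete I K) :
    DRing.IsDerivedComplete I K' := fun f hf n => by
  haveI := h f hf n
  exact ((Linear.homCongr A (Iso.refl (Dual.inD A (Localization.Away f)))
    ((shiftFunctor (Dual.D A) n).mapIso e)).symm).toEquiv.subsingleton

lemma isDerivedComplete_shift {K : Dual.D A} (h : DRing.IsDerivedComplete I K) (m : ℤ) :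
    DRing.IsDerivedComplete I (K⟦m⟧) := fun f hf n => by
  haveI := h f hf (m + n)
  let e : K⟦m⟧⟦n⟧ ≅ K⟦m + n⟧ := ((shiftFunctorAdd' (Dual.D A) m n (m + n) rfl).app K).symm
  exact ((Linear.homCongr A (Iso.refl (Dual.inD A (Localization.Away f))) e).toEquiv).subsingleton

lemma isDerivedComplete_ext₂ (T : Triangle (Dual.D A)) (hT : T ∈ distTriang _)
    (h1 : DRing.IsDerivedComplete I T.obj₁) (h3 : DRing.IsDerivedComplete I T.obj₃) :
    DRing.IsDerivedComplete I T.obj₂ := fun f hf n => by
  have hT' := Triangle.shift_distinguished T hT n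
  refine ⟨fun g g' => ?_⟩
  suffices h : ∀ g : Dual.inD A (Localization.Away f) ⟶ T.obj₂⟦n⟧, g = 0 by rw [h g, h g']
  intro g
  have s1 : ∀ k : Dual.inD A (Localization.Away f) ⟶ T.obj₁⟦n⟧, k = 0 := fun k =>
    (h1 f hf n).elim _ _
  have s3 : ∀ k : Dual.inD A (Localization.Away f) ⟶ T.obj₃⟦n⟧, k = 0 := fun k =>
    (h3 f hf n).elim _ _
  obtain ⟨k, hk⟩ := Triangle.coyoneda_exact₂ _ hT' g (s3 _)
  have hk0 : k = 0 := s1 k
  subst hk0
  exact hk.trans zero_comp

open ZeroObject in
instance isTriangulated_isDerivedComplete : (DRing.IsDerivedComplete I).IsTriangulated where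
  exists_zero := ⟨0, isZero_zero _, fun f hf n =>
    ⟨fun a b => ((shiftFunctor (Dual.D A) n).map_isZero (isZero_zero _)).eq_of_tgt a b⟩⟩
  isStableUnderShiftBy n := { le_shift := fun K hK => isDerivedComplete_shift I hK n }
  ext₂' := fun T hT h1 h3 =>
    ⟨T.obj₂, isDerivedComplete_ext₂ I T hT h1 h3, ⟨Iso.refl _⟩⟩

variable [DRing.HasDerivedCompletion I]

/-- the commutation of derived completion with shifts -/
@[instance_reducible]
noncomputable def commShiftDC : (DRing.derivedCompletion I).CommShift ℤ :=
  (DRing.derivedCompletionAdj I).leftAdjointCommShift ℤ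

attribute [local instance] commShiftDC

lemma adjCommShift : (DRing.derivedCompletionAdj I).CommShift ℤ :=
  (DRing.derivedCompletionAdj I).commShift_of_rightAdjoint ℤ

lemma isTriangulated_derivedCompletion : (DRing.derivedCompletion I).IsTriangulated := by
  haveI := adjCommShift I
  exact (DRing.derivedCompletionAdj I).isTriangulated_leftAdjoint

open Groth.Agent.Lib.Helper10.DerComplete Groth.Agent.S14388

omit [DRing.HasDerivedCompletion I] in
lemma crit_of_subsingleton (f : A) (M : Type u) [AddCommGroup M] [Module A M] [Subsingleton M] :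
    Crit f M :=
  ⟨fun m _ n => Subsingleton.elim _ _, fun y => ⟨fun _ => 0, fun n => Subsingleton.elim _ _⟩⟩

omit [DRing.HasDerivedCompletion I] in
/-- truncations of derived complete objects are derived complete -/
lemma isDerivedComplete_truncGE (K : Dual.D A) (hK : DRing.IsDerivedComplete I K) (m : ℤ) :
    DRing.IsDerivedComplete I ((tt.truncGE m).obj K) := by
  rw [isDerivedComplete_iff_forall_crit] at hK ⊢
  intro f hf j
  by_cases hj : m ≤ j
  · haveI := isIso_homology_truncGEπ m j hj K
    exact Crit.of_linearEquiv
      (asIso ((homologyFunctor (ModuleCat.{u} A) j).map ((tt.truncGEπ m).app K))).toLinearEquiv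
      (hK f hf j)
  · haveI : Subsingleton (Dual.HD A ((tt.truncGE m).obj K) j) :=
      ModuleCat.subsingleton_of_isZero
        (DerivedCategory.isZero_of_isGE ((tt.truncGE m).obj K) m j (by omega))
    exact crit_of_subsingleton f _

/-- derived completion is right t-exact -/
lemma isLE_completion (X : Dual.D A) (n : ℤ) [X.IsLE n] :
    ((DRing.derivedCompletion I).obj X).obj.IsLE n := by
  set Y := (DRing.derivedCompletion I).obj X with hY
  let Z : DRing.DComp I := ⟨(tt.truncGE (n + 1)).obj Y.obj,
    isDerivedComplete_truncGE I Y.obj Y.property (n + 1)⟩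
  let t : Y ⟶ Z := ObjectProperty.homMk ((tt.truncGEπ (n + 1)).app Y.obj)
  have h0 : (DRing.derivedCompletionAdj I).homEquiv X Z t = 0 :=
    tt.zero_of_isLE_of_isGE _ n (n + 1) (by omega) inferInstance
      (by change ((tt.truncGE (n + 1)).obj Y.obj).IsGE (n + 1); infer_instance)
  have ht : t = 0 := by
    apply ((DRing.derivedCompletionAdj I).homEquiv X Z).injective
    rw [h0, Adjunction.homEquiv_unit, Functor.map_zero, comp_zero]
  have ht' : (tt.truncGEπ (n + 1)).app Y.obj = 0 := by
    have := congrArg (fun g => g.hom) ht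
    exact this
  rw [DerivedCategory.isLE_iff]
  intro j hj
  haveI := isIso_homology_truncGEπ (n + 1) j (by omega) Y.obj
  have h1 : (homologyFunctor (ModuleCat.{u} A) j).map ((tt.truncGEπ (n + 1)).app Y.obj) = 0 := by
    rw [ht', Functor.map_zero]
  exact IsZero.of_mono_eq_zero _ h1

open Groth.Agent.Lib.Helper1.PC in
/-- derived completion preserves `m`-connected morphisms -/
theorem conn_completion {K L : Dual.D A} (φ : K ⟶ L) (m : ℤ) (h : Conn m φ) :
    Conn m ((DRing.derivedCompletion I).map φ).hom := by
  obtain ⟨C, q, r, hT⟩ := distinguished_cocone_triangle φ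
  haveI hC : C.IsLE (m - 1) := (conn_iff_of_distTriang _ hT m).1 h
  haveI := isTriangulated_derivedCompletion I
  have hT' := (DRing.derivedCompletion I ⋙
    ObjectProperty.ι (DRing.IsDerivedComplete I)).map_distinguished _ hT
  exact (conn_iff_of_distTriang _ hT' m).2 (isLE_completion I C (m - 1))

end Tri

end Groth.Agent.Lib.H6xDc
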