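import Mathlib
import Groth.Agent.Lib.H6xDcA
import Groth.Agent.Lib.Helper1TorN
import Groth.Agent.Lib.Helper1TorM
import Groth.Agent.Lib.Helper1TorD
import Groth.Agent.Lib.Helper1LT
set_option backward.isDefEq.respectTransparency.types false

/-!
# helper6: derived Nakayama for derived complete objects
-/

set_option autoImplicit false
set_option linter.style.haveILetI false
universe u
open CategoryTheory CategoryTheory.Limits Pretriangulated MonoidalCategory
attribute [local instance] HasDerivedCategory.standard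

namespace Groth.Agent.Lib.H6xDc

open DerivedCategory Groth.Agent.Lib.Helper1.KF Groth.Agent.Lib.Helper1.Tor
  Groth.Agent.Lib.Helper1.DT Groth.Agent.Lib.Helper1.LDer Groth.Agent.Lib.Helper1.TorM
  Groth.Agent.Lib.Helper1.TorN Groth.Agent.Lib.Helper1.PC Groth.Agent.Lib.Helper10.DerComplete

variable {A : Type u} [CommRing A]

section Linear

lemma homologyMap_smul'' {K L : Cx A} (φ : K ⟶ L) (a : A) (i : ℤ) :
    HomologicalComplex.homologyMap (a • φ) i = a • HomologicalComplex.homologyMap φ i := by
  have h : (HomologicalComplex.shortComplexFunctor (ModuleCat.{u} A) (ComplexShape.up ℤ) i).map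
      (a • φ) =
      a • (HomologicalComplex.shortComplexFunctor (ModuleCat.{u} A) (ComplexShape.up ℤ) i).map φ := by
    ext <;> rfl
  show ShortComplex.homologyMap
    ((HomologicalComplex.shortComplexFunctor (ModuleCat.{u} A) (ComplexShape.up ℤ) i).map
      (a • φ)) = _
  rw [h]
  exact ShortComplex.homologyMap_smul _ _

instance homologyFunctor_linear_cx (i : ℤ) :
    (HomologicalComplex.homologyFunctor (ModuleCat.{u} A) (ComplexShape.up ℤ) i).Linear A where
  map_smul φ a := homologyMap_smul'' φ a i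

instance homologyFunctor_linear (i : ℤ) :
    (DerivedCategory.homologyFunctor (ModuleCat.{u} A) i).Linear A := by
  haveI : Localization.Lifting (Q : Cx A ⥤ _)
      (HomologicalComplex.quasiIso (ModuleCat.{u} A) (ComplexShape.up ℤ))
      (HomologicalComplex.homologyFunctor (ModuleCat.{u} A) (ComplexShape.up ℤ) i)
      (DerivedCategory.homologyFunctor (ModuleCat.{u} A) i) :=
    ⟨homologyFunctorFactors _ i⟩
  exact (Localization.functor_linear_iff (Q : Cx A ⥤ _)
    (HomologicalComplex.quasiIso (ModuleCat.{u} A) (ComplexShape.up ℤ)) A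
    (HomologicalComplex.homologyFunctor (ModuleCat.{u} A) (ComplexShape.up ℤ) i)
    (DerivedCategory.homologyFunctor (ModuleCat.{u} A) i)).1 inferInstance

/-- on a derived complete object, if `f ∈ I` acts surjectively on `H^i` then `H^i = 0` -/
lemma isZero_homology_of_epi_smul (I : Ideal A) (K : Dual.D A) (hK : DRing.IsDerivedComplete I K)
    (f : A) (hf : f ∈ I) (i : ℤ)
    (h : Epi ((homologyFunctor (ModuleCat.{u} A) i).map (f • 𝟙 K))) :
    IsZero ((homologyFunctor (ModuleCat.{u} A) i).obj K) := by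
  have hc : Crit f (Dual.HD A K i) := (isDerivedComplete_iff_forall_crit I K).1 hK f hf i
  rw [Functor.map_smul, CategoryTheory.Functor.map_id] at h
  have hs : Function.Surjective fun x : Dual.HD A K i => f • x :=
    (ModuleCat.epi_iff_surjective _).1 h
  haveI : Subsingleton (Dual.HD A K i) :=
    ⟨fun x y => by rw [hc.eq_zero_of_surjective hs x, hc.eq_zero_of_surjective hs y]⟩
  exact ModuleCat.isZero_of_subsingleton _

end Linear

section Cone

open CochainComplex

/-- multiplication by `f` on a module -/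
noncomputable abbrev mulBy (f : A) (N : ModuleCat.{u} A) : N →ₗ[A] N := LinearMap.lsmul A N f

/-- `0 → N[f] → N → fN → 0` -/
noncomputable def S1 (f : A) (N : ModuleCat.{u} A) : ShortComplex (ModuleCat.{u} A) :=
  ShortComplex.mk (ModuleCat.ofHom (LinearMap.ker (mulBy f N)).subtype)
    (ModuleCat.ofHom (mulBy f N).rangeRestrict)
    (ModuleCat.hom_ext (LinearMap.ext fun x => Subtype.ext x.2))

/-- `0 → fN → N → N/fN → 0` -/
noncomputable def S2 (f : A) (N : ModuleCat.{u} A) : ShortComplex (ModuleCat.{u} A) :=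
  ShortComplex.mk (ModuleCat.ofHom (LinearMap.range (mulBy f N)).subtype)
    (ModuleCat.ofHom (LinearMap.range (mulBy f N)).mkQ) (by
      ext x
      simp)

lemma S1_shortExact (f : A) (N : ModuleCat.{u} A) : (S1 f N).ShortExact :=
  { exact := by
      rw [ShortComplex.ShortExact.moduleCat_exact_iff_function_exact]
      intro x
      constructor
      · intro hx
        exact ⟨⟨x, congrArg Subtype.val hx⟩, rfl⟩
      · rintro ⟨y, rfl⟩
        apply Subtype.ext
        exact y.2
    mono_f := (ModuleCat.mono_iff_injective _).2 (LinearMap.ker (mulBy f N)).subtype_injective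
    epi_g := (ModuleCat.epi_iff_surjective _).2 (mulBy f N).surjective_rangeRestrict }

lemma S2_shortExact (f : A) (N : ModuleCat.{u} A) : (S2 f N).ShortExact :=
  { exact := by
      rw [ShortComplex.ShortExact.moduleCat_exact_iff_function_exact]
      exact LinearMap.exact_subtype_mkQ _
    mono_f := (ModuleCat.mono_iff_injective _).2 (LinearMap.range (mulBy f N)).subtype_injective
    epi_g := (ModuleCat.epi_iff_surjective _).2 (LinearMap.range (mulBy f N)).mkQ_surjective }

lemma S1_g_S2_f (f : A) (N : ModuleCat.{u} A) : (S1 f N).g ≫ (S2 f N).f = f • 𝟙 N := by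
  ext x
  rfl

lemma TC_map_smul (N : ModuleCat.{u} A) (F : Cx A) (f : A) :
    (TC N).map (f • 𝟙 F) = f • 𝟙 ((TC N).obj F) := by
  rw [Functor.map_smul, CategoryTheory.Functor.map_id]

lemma TCmap_comp_eq' {N R : ModuleCat.{u} A} (g : N ⟶ R) (h : R ⟶ N) (f : A)
    (hgh : g ≫ h = f • 𝟙 N) (F : Cx A) :
    (TCmap g).app F ≫ (TCmap h).app F = (TC N).map (f • 𝟙 F) := by
  rw [TC_map_smul]
  ext n : 1
  have h : (g ▷ F.X n) ≫ (h ▷ F.X n) = f • 𝟙 (N ⊗ F.X n) := by
    rw [← comp_whiskerRight, hgh, MonoidalLinear.smul_whiskerRight, id_whiskerRight]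
  exact h

lemma TCmap_comp_eq (f : A) (N : ModuleCat.{u} A) (F : Cx A) :
    (TCmap (S1 f N).g).app F ≫ (TCmap (S2 f N).f).app F = (TC N).map (f • 𝟙 F) :=
  TCmap_comp_eq' (S1 f N).g (S2 f N).f f (S1_g_S2_f f N) F

/-- key step: if `N[f] ⊗ F` and `(N/fN) ⊗ F` are in `D^{≤ n}`, then so is `N ⊗ cone(f : F → F)` -/
lemma isLE_TC_cone (F : Cx A) (hF : DRing.TermwiseFlat F) (f : A) (N : ModuleCat.{u} A) (n : ℤ)
    (h1 : (Q.obj ((TC (S1 f N).X₁).obj F)).IsLE n)
    (h3 : (Q.obj ((TC (S2 f N).X₃).obj F)).IsLE n) :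
    (Q.obj ((TC N).obj (mappingCone (f • 𝟙 F)))).IsLE n := by
  have hT1 := triangleOfSES_distinguished (TCshort_shortExact (S1 f N) (S1_shortExact f N) F hF)
  have hT2 := triangleOfSES_distinguished (TCshort_shortExact (S2 f N) (S2_shortExact f N) F hF)
  have ha : Conn n (Q.map ((TCmap (S1 f N).g).app F)) := by
    have hr := rot_of_distTriang _ hT1
    refine (conn_iff_of_distTriang _ hr n).2 ?_
    change ((Q.obj ((TC (S1 f N).X₁).obj F))⟦(1 : ℤ)⟧).IsLE (n - 1)
    exact DerivedCategory.TStructure.t.isLE_shift _ n 1 (n - 1) (by omega)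
  have hb : Conn (n + 1) (Q.map ((TCmap (S2 f N).f).app F)) := by
    refine (conn_iff_of_distTriang _ hT2 (n + 1)).2 ?_
    change (Q.obj ((TC (S2 f N).X₃).obj F)).IsLE (n + 1 - 1)
    rw [show n + 1 - 1 = n by omega]
    exact h3
  have hab : Conn (n + 1) (Q.map ((TC N).map (f • 𝟙 F))) := by
    have h5 : Q.map ((TC N).map (f • 𝟙 F)) =
        Q.map ((TCmap (S1 f N).g).app F) ≫ Q.map ((TCmap (S2 f N).f).app F) := by
      rw [← TCmap_comp_eq]
      exact Q.map_comp _ _
    rw [h5]
    exact (ha.mono (by omega)).comp hb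
  have hT3 := mappingCone_triangle_distinguished ((TC N).map (f • 𝟙 F))
  have h4 : (Q.obj (mappingCone ((TC N).map (f • 𝟙 F)))).IsLE (n + 1 - 1) :=
    (conn_iff_of_distTriang _ hT3 (n + 1)).1 hab
  rw [show n + 1 - 1 = n by omega] at h4
  exact DerivedCategory.TStructure.t.isLE_of_iso
    (Q.mapIso (mappingCone.mapHomologicalComplexIso (f • 𝟙 F) (tensorLeft N))).symm n

end Cone

section Induction

open CochainComplex

/-- `N` is killed by all elements of the list -/
def Killed (fs : List A) (N : ModuleCat.{u} A) : Prop := ∀ f ∈ fs, ∀ x : N, f • x = 0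

lemma killed_S1 (f : A) (fs : List A) (N : ModuleCat.{u} A) (h : Killed fs N) :
    Killed (f :: fs) (S1 f N).X₁ := by
  intro g hg x
  rcases List.mem_cons.1 hg with rfl | hg
  · exact Subtype.ext x.2
  · exact Subtype.ext (h g hg x.1)

lemma killed_S2 (f : A) (fs : List A) (N : ModuleCat.{u} A) (h : Killed fs N) :
    Killed (f :: fs) (S2 f N).X₃ := by
  intro g hg
  change ∀ x : (N ⧸ LinearMap.range (mulBy f N)), g • x = 0
  intro x
  induction x using Submodule.Quotient.induction_on with
  | _ y =>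
    rw [← Submodule.Quotient.mk_smul]
    rcases List.mem_cons.1 hg with rfl | hg
    · rw [Submodule.Quotient.mk_eq_zero]
      exact ⟨y, rfl⟩
    · rw [h g hg y, Submodule.Quotient.mk_zero]

instance isClosedUnderIsomorphisms_isDerivedComplete (J : Ideal A) :
    (DRing.IsDerivedComplete J).IsClosedUnderIsomorphisms where
  of_iso e h := isDerivedComplete_of_iso J e h

/-- `A ⊗ F ≅ F` -/
noncomputable def TCunitIso (F : Cx A) : (TC (𝟙_ (ModuleCat.{u} A))).obj F ≅ F :=
  HomologicalComplex.Hom.isoOfComponents (fun i => λ_ (F.X i)) (fun i j _ => by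
    exact (leftUnitor_naturality (F.d i j)).symm)

theorem isLE_of_killed (J : Ideal A) (n : ℤ) : ∀ (fs : List A), (∀ f ∈ fs, f ∈ J) →
    ∀ (F : Cx A), DRing.TermwiseFlat F → DRing.IsDerivedComplete J (Q.obj F) →
    (∀ N : ModuleCat.{u} A, Killed fs N → (Q.obj ((TC N).obj F)).IsLE n) → (Q.obj F).IsLE n := by
  intro fs
  induction fs with
  | nil =>
    intro _ F _ _ h
    haveI := h (𝟙_ _) (fun f hf => by simp at hf)
    exact DerivedCategory.TStructure.t.isLE_of_iso (Q.mapIso (TCunitIso F)) n
  | cons f fs ih =>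
    intro hfs F hF hc h
    have hfJ : f ∈ J := hfs f (List.mem_cons_self)
    have hT := mappingCone_triangle_distinguished (f • 𝟙 F)
    have hc' : DRing.IsDerivedComplete J (Q.obj (mappingCone (f • 𝟙 F))) :=
      (DRing.IsDerivedComplete J).ext_of_isTriangulatedClosed₃ _ hT hc hc
    have h' : ∀ N : ModuleCat.{u} A, Killed fs N →
        (Q.obj ((TC N).obj (mappingCone (f • 𝟙 F)))).IsLE n := fun N hN =>
      isLE_TC_cone F hF f N n (h _ (killed_S1 f fs N hN)) (h _ (killed_S2 f fs N hN))
    haveI hle : (Q.obj (mappingCone (f • 𝟙 F))).IsLE (n + 1 - 1) := by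
      rw [show n + 1 - 1 = n by omega]
      exact ih (fun g hg => hfs g (List.mem_cons_of_mem _ hg)) _
        (termwiseFlat_mappingCone _ hF hF) hc' h'
    have hconn : Conn (n + 1) (Q.map (f • 𝟙 F)) := (conn_iff_of_distTriang _ hT (n + 1)).2 hle
    rw [DerivedCategory.isLE_iff]
    intro i hi
    refine isZero_homology_of_epi_smul J _ hc f hfJ i ?_
    have h6 : Q.map (f • 𝟙 F) = f • 𝟙 (Q.obj F) := by
      rw [Functor.map_smul, CategoryTheory.Functor.map_id]
    rw [← h6]
    rcases (show n + 1 ≤ i by omega).eq_or_lt with rfl | hlt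
    · exact hconn.2
    · haveI := hconn.1 i hlt
      infer_instance

end Induction

section Main

variable (I : Ideal A)

/-- **derived Nakayama, bounded-above form**: if `K` is derived complete with respect to the
finitely generated ideal `I` and `K ⊗^L A/I ∈ D^{≤ n}`, then `K ∈ D^{≤ n}` -/
theorem isLE_of_isLE_LTensor_quotient (hI : I.FG) [DRing.HasLTensor A (ModuleCat.of A (A ⧸ I))]
    (K : Dual.D A) (hc : DRing.IsDerivedComplete I K) (n : ℤ)
    (h : ((DRing.LTensor A (ModuleCat.of A (A ⧸ I))).obj K).IsLE n) : K.IsLE n := by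
  obtain ⟨F, hF, hproj, ⟨e⟩⟩ := exists_kproj_iso K
  have hFf : DRing.TermwiseFlat F := fun i =>
    have := hproj i
    have : Module.Projective A (F.X i) := ModuleCat.projective_of_module_projective _
    inferInstance
  have h0 : ∀ j : ℤ, n < j → ((TC (ModuleCat.of A (A ⧸ I))).obj F).ExactAt j := by
    intro j hj
    have hz : IsZero ((homologyFunctor (ModuleCat.{u} A) j).obj
        ((DRing.LTensor A (ModuleCat.of A (A ⧸ I))).obj K)) :=
      (DerivedCategory.isLE_iff _ n).1 h j hj
    have hz' : IsZero ((homologyFunctor (ModuleCat.{u} A) j).obj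
        (Q.obj ((tCx (ModuleCat.of A (A ⧸ I))).obj F))) :=
      hz.of_iso ((homologyFunctor _ j).mapIso
        ((ltIso (ModuleCat.of A (A ⧸ I)) F).symm ≪≫
          (DRing.LTensor A (ModuleCat.of A (A ⧸ I))).mapIso e))
    rw [← exactAt_iff_isZero_H, exactAt_tCx_iff] at hz'
    exact hz'
  obtain ⟨s, hs⟩ := hI
  haveI : (Q.obj F).IsLE n := by
    refine isLE_of_killed I n s.toList (fun f hf => ?_) F hFf (isDerivedComplete_of_iso I e.symm hc)
      (fun N hN => ?_)
    · rw [← hs]
      exact Ideal.subset_span (Finset.mem_toList.1 hf)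
    · have hN' : ∀ r ∈ I, ∀ x : N, r • x = 0 := by
        intro r hr x
        rw [← hs] at hr
        induction hr using Submodule.span_induction with
        | mem y hy => exact hN y (Finset.mem_toList.2 hy) x
        | zero => exact zero_smul _ _
        | add a b _ _ ha hb => rw [add_smul, ha, hb, add_zero]
        | smul a b _ hb => rw [smul_eq_mul, mul_smul, hb, smul_zero]
      rw [DerivedCategory.isLE_iff]
      intro i hi
      rw [← exactAt_iff_isZero_H]
      exact exactAt_TC_of_smul_eq_zero I F n h0 N hN' i hi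
  exact DerivedCategory.TStructure.t.isLE_of_iso e n

/-- **derived Nakayama** -/
theorem isZero_of_isZero_LTensor_quotient (hI : I.FG)
    [DRing.HasLTensor A (ModuleCat.of A (A ⧸ I))]
    (K : Dual.D A) (hc : DRing.IsDerivedComplete I K)
    (h0 : IsZero ((DRing.LTensor A (ModuleCat.of A (A ⧸ I))).obj K)) : IsZero K := by
  have hle : ∀ n : ℤ, K.IsLE n := fun n =>
    isLE_of_isLE_LTensor_quotient I hI K hc n (DerivedCategory.TStructure.t.isLE_of_isZero h0 n)
  haveI := hle 0
  haveI : K.IsGE 1 := by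
    rw [DerivedCategory.isGE_iff]
    intro i _
    exact (DerivedCategory.isLE_iff K (i - 1)).1 (hle (i - 1)) i (by omega)
  exact DerivedCategory.TStructure.t.isZero K 0 1 (by omega)

/-- right t-exactness of `- ⊗^L M` -/
theorem isLE_LTensor (M : ModuleCat.{u} A) [DRing.HasLTensor A M] (K : Dual.D A) (n : ℤ)
    [K.IsLE n] : ((DRing.LTensor A M).obj K).IsLE n := by
  obtain ⟨F, hF, hproj, ⟨e⟩⟩ := exists_kproj_iso K
  have hle : ∀ i : ℤ, n < i → F.ExactAt i := fun i hi => by
    rw [exactAt_iff_isZero_H]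
    exact ((DerivedCategory.isLE_iff K n).1 inferInstance i hi).of_iso
      ((homologyFunctor _ i).mapIso e)
  rw [DerivedCategory.isLE_iff]
  intro i hi
  have h1 := exactAt_TC_of_exactAt_above F (kflat_of_isKProjective F) n hle M i hi
  rw [← exactAt_tCx_iff, exactAt_iff_isZero_H] at h1
  exact h1.of_iso ((homologyFunctor _ i).mapIso
    ((DRing.LTensor A M).mapIso e.symm ≪≫ ltIso M F))

/-- S7056 -/
theorem homology_pos_vanishing_iff (hI : I.FG) [DRing.HasLTensor A (ModuleCat.of A (A ⧸ I))]
    (K : Dual.D A) (hc : DRing.IsDerivedComplete I K) :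
    (∀ i : ℤ, 0 < i → Subsingleton (Dual.HD A K i)) ↔
      ∀ i : ℤ, 0 < i →
        Subsingleton (Dual.HD A ((DRing.LTensor A (ModuleCat.of A (A ⧸ I))).obj K) i) := by
  constructor
  · intro h
    haveI : K.IsLE 0 := by
      rw [DerivedCategory.isLE_iff]
      intro i hi
      haveI := h i hi
      exact ModuleCat.isZero_of_subsingleton _
    have := isLE_LTensor (ModuleCat.of A (A ⧸ I)) K 0
    intro i hi
    exact ModuleCat.subsingleton_of_isZero ((DerivedCategory.isLE_iff _ 0).1 this i hi)
  · intro h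
    have : ((DRing.LTensor A (ModuleCat.of A (A ⧸ I))).obj K).IsLE 0 := by
      rw [DerivedCategory.isLE_iff]
      intro i hi
      haveI := h i hi
      exact ModuleCat.isZero_of_subsingleton _
    have := isLE_of_isLE_LTensor_quotient I hI K hc 0 this
    intro i hi
    exact ModuleCat.subsingleton_of_isZero ((DerivedCategory.isLE_iff _ 0).1 this i hi)

end Main

end Groth.Agent.Lib.H6xDc
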