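import Mathlib
import Groth.Agent.Lib.Helper1Extend
set_option backward.isDefEq.respectTransparency.types false

/-!
# helper6: natural transformations `𝟭 ⟶ E` to an exact endofunctor and quasi-isomorphisms
-/

set_option autoImplicit false
set_option linter.style.haveILetI false
universe u
open CategoryTheory CategoryTheory.Limits
attribute [local instance] HasDerivedCategory.standard

namespace Groth.Agent.Lib.H6xFg

section General

variable {R : Type u} [CommRing R] (E : ModuleCat.{u} R ⥤ ModuleCat.{u} R) [E.Additive]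
  [PreservesFiniteLimits E] [PreservesFiniteColimits E] (τ : 𝟭 (ModuleCat.{u} R) ⟶ E)

/-- the chain map `K ⟶ E(K)` induced by `τ` -/
noncomputable def τCx (K : DRing.Cx R) :
    K ⟶ (E.mapHomologicalComplex (ComplexShape.up ℤ)).obj K where
  f i := τ.app (K.X i)
  comm' i j _ := (τ.naturality (K.d i j)).symm

lemma isIso_homologyMap_τCx (K : DRing.Cx R) (i : ℤ) (h : IsIso (τ.app (K.homology i))) :
    IsIso (HomologicalComplex.homologyMap (τCx E τ K) i) := by
  have h1 := NatTrans.app_homology τ (K.sc i)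
  have h2 : IsIso (ShortComplex.homologyMap ((K.sc i).mapNatTrans τ)) := by
    have h3 : ShortComplex.homologyMap ((K.sc i).mapNatTrans τ) =
        ((K.sc i).mapHomologyIso (𝟭 _)).hom ≫ τ.app (K.sc i).homology ≫
          ((K.sc i).mapHomologyIso E).inv := by
      rw [h1]
      simp
    rw [h3]
    haveI : IsIso (τ.app (K.sc i).homology) := h
    infer_instance
  exact h2

lemma quasiIso_τCx (K : DRing.Cx R) (h : ∀ i : ℤ, IsIso (τ.app (K.homology i))) :
    QuasiIso (τCx E τ K) := by
  rw [quasiIso_iff]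
  intro i
  rw [quasiIsoAt_iff_isIso_homologyMap]
  exact isIso_homologyMap_τCx E τ K i (h i)

open DerivedCategory

/-- the morphism `Q K ⟶ E(Q K)` in the derived category -/
noncomputable def τD (K : DRing.Cx R) : Q.obj K ⟶ E.mapDerivedCategory.obj (Q.obj K) :=
  Q.map (τCx E τ K) ≫ (E.mapDerivedCategoryFactors.app K).inv

lemma isIso_τD (K : DRing.Cx R) (h : ∀ i : ℤ, IsIso (τ.app (K.homology i))) :
    IsIso (τD E τ K) := by
  haveI := quasiIso_τCx E τ K h
  haveI : IsIso (Q.map (τCx E τ K)) := inferInstance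
  unfold τD
  infer_instance

/-- `H^j(Q K) ≅ H^j(K)` -/
noncomputable def isoA (K : DRing.Cx R) (j : ℤ) :
    (homologyFunctor (ModuleCat.{u} R) j).obj (Q.obj K) ≅ K.homology j :=
  (homologyFunctorFactors (ModuleCat.{u} R) j).app K ≪≫ (K.sc j).mapHomologyIso (𝟭 _)

/-- `H^j(E(Q K)) ≅ E(H^j(K))` -/
noncomputable def isoB (K : DRing.Cx R) (j : ℤ) :
    (homologyFunctor (ModuleCat.{u} R) j).obj (E.mapDerivedCategory.obj (Q.obj K)) ≅
      E.obj (K.homology j) :=
  (homologyFunctor (ModuleCat.{u} R) j).mapIso (E.mapDerivedCategoryFactors.app K) ≪≫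
    (homologyFunctorFactors (ModuleCat.{u} R) j).app _ ≪≫ (K.sc j).mapHomologyIso E

lemma homology_τD (K : DRing.Cx R) (j : ℤ) :
    (homologyFunctor (ModuleCat.{u} R) j).map (τD E τ K) ≫ (isoB E K j).hom =
      (isoA K j).hom ≫ τ.app (K.homology j) := by
  have h1 := NatTrans.app_homology τ (K.sc j)
  have h2 : (homologyFunctor (ModuleCat.{u} R) j).map (Q.map (τCx E τ K)) ≫
      (homologyFunctorFactors (ModuleCat.{u} R) j).hom.app _ =
      (homologyFunctorFactors (ModuleCat.{u} R) j).hom.app K ≫
        HomologicalComplex.homologyMap (τCx E τ K) j :=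
    (homologyFunctorFactors (ModuleCat.{u} R) j).hom.naturality (τCx E τ K)
  have h3 : HomologicalComplex.homologyMap (τCx E τ K) j =
      ShortComplex.homologyMap ((K.sc j).mapNatTrans τ) := rfl
  have h4 : (homologyFunctor (ModuleCat.{u} R) j).map (τD E τ K) ≫
      (homologyFunctor (ModuleCat.{u} R) j).map (E.mapDerivedCategoryFactors.app K).hom =
      (homologyFunctor (ModuleCat.{u} R) j).map (Q.map (τCx E τ K)) := by
    rw [← Functor.map_comp]
    unfold τD
    rw [Category.assoc, Iso.inv_hom_id, Category.comp_id]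
  have h5 : ShortComplex.homologyMap ((K.sc j).mapNatTrans τ) ≫
      ((K.sc j).mapHomologyIso E).hom =
      ((K.sc j).mapHomologyIso (𝟭 _)).hom ≫ τ.app (K.sc j).homology := by
    rw [h1, Iso.hom_inv_id_assoc]
  change (homologyFunctor (ModuleCat.{u} R) j).map (τD E τ K) ≫
    ((homologyFunctor (ModuleCat.{u} R) j).map (E.mapDerivedCategoryFactors.app K).hom ≫
      (homologyFunctorFactors (ModuleCat.{u} R) j).hom.app _ ≫
        ((K.sc j).mapHomologyIso E).hom) =
    ((homologyFunctorFactors (ModuleCat.{u} R) j).hom.app K ≫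
      ((K.sc j).mapHomologyIso (𝟭 _)).hom) ≫ τ.app (K.homology j)
  rw [reassoc_of% h4, reassoc_of% h2, h3, Category.assoc]
  exact congrArg (fun z => (homologyFunctorFactors (ModuleCat.{u} R) j).hom.app K ≫ z) h5

end General

end Groth.Agent.Lib.H6xFg
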