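import Mathlib
import Groth.Prelude.Def_Wider
set_option backward.isDefEq.respectTransparency.types false

/-!
# helper6: `M → S ⊗_R M` is bijective for `I`-power torsion `M` when `R → S` is flat with
`R/I ≅ S/IS`
-/

set_option autoImplicit false
set_option linter.style.haveILetI false
universe u

namespace Groth.Agent.Lib.H6xFg

open TensorProduct

section Alg

variable {R S : Type u} [CommRing R] [CommRing S] [Algebra R S] (I : Ideal R)
  (hs : Function.Surjective ((Ideal.Quotient.mk (I.map (algebraMap R S))).comp (algebraMap R S)))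
  (hk : RingHom.ker ((Ideal.Quotient.mk (I.map (algebraMap R S))).comp (algebraMap R S)) = I)

include hs in
/-- `S = R + I^n S` -/
lemma range_sup_pow_smul_top (n : ℕ) :
    LinearMap.range (Algebra.linearMap R S) ⊔ (I ^ n • (⊤ : Submodule R S)) = ⊤ := by
  have h1 : LinearMap.range (Algebra.linearMap R S) ⊔ (I • (⊤ : Submodule R S)) = ⊤ := by
    rw [eq_top_iff]
    intro s _
    obtain ⟨r, hr⟩ := hs (Ideal.Quotient.mk (I.map (algebraMap R S)) s)
    have h2 : s - algebraMap R S r ∈ I.map (algebraMap R S) := by
      rw [← Ideal.Quotient.eq]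
      exact hr.symm
    have h3 : s - algebraMap R S r ∈ (I • (⊤ : Submodule R S)) := by
      rw [Ideal.smul_top_eq_map]
      exact h2
    have h4 : s = algebraMap R S r + (s - algebraMap R S r) := by ring
    rw [h4]
    exact Submodule.add_mem_sup ⟨r, rfl⟩ h3
  induction n with
  | zero =>
    rw [pow_zero, Ideal.one_eq_top, Submodule.top_smul]
    exact sup_top_eq _
  | succ n ih =>
    have h7 : I ^ n • (⊤ : Submodule R S) ≤
        LinearMap.range (Algebra.linearMap R S) ⊔ (I ^ (n + 1) • (⊤ : Submodule R S)) := by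
      have h5 : I ^ n • (⊤ : Submodule R S) =
          I ^ n • (LinearMap.range (Algebra.linearMap R S) ⊔ (I • (⊤ : Submodule R S))) := by
        rw [h1]
      rw [h5, Submodule.smul_sup]
      refine sup_le ?_ ?_
      · have h6 : I ^ n • LinearMap.range (Algebra.linearMap R S) ≤
            LinearMap.range (Algebra.linearMap R S) := Submodule.smul_le_right
        exact le_trans h6 le_sup_left
      · rw [← Submodule.mul_smul, ← pow_succ]
        exact le_sup_right
    rw [eq_top_iff]
    calc (⊤ : Submodule R S) = LinearMap.range (Algebra.linearMap R S) ⊔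
          (I ^ n • (⊤ : Submodule R S)) := ih.symm
      _ ≤ _ := sup_le le_sup_left h7

variable (M : Type u) [AddCommGroup M] [Module R M]

include hs in
/-- surjectivity -/
lemma surjective_unit_of_isPowerTorsion (hM : LocCoh.IsPowerTorsion I M) :
    Function.Surjective (TensorProduct.mk R S M 1) := by
  intro x
  change x ∈ LinearMap.range (TensorProduct.mk R S M 1)
  induction x using TensorProduct.induction_on with
  | zero => exact Submodule.zero_mem _
  | tmul s m =>
    obtain ⟨n, hn⟩ := hM m
    have h2 : ∀ z ∈ (I ^ n • (⊤ : Submodule R S)), z ⊗ₜ[R] m = 0 := by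
      intro z hz
      induction hz using Submodule.smul_induction_on' with
      | smul a ha s' _ =>
        rw [TensorProduct.smul_tmul, hn a ha, TensorProduct.tmul_zero]
      | add x _ y _ hx hy => rw [TensorProduct.add_tmul, hx, hy, add_zero]
    have h1 : s ∈ LinearMap.range (Algebra.linearMap R S) ⊔ (I ^ n • (⊤ : Submodule R S)) := by
      rw [range_sup_pow_smul_top I hs n]
      trivial
    obtain ⟨y, ⟨r, rfl⟩, z, hz, rfl⟩ := Submodule.mem_sup.1 h1
    rw [TensorProduct.add_tmul, h2 z hz, add_zero]
    refine ⟨r • m, ?_⟩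
    rw [TensorProduct.mk_apply, Algebra.linearMap_apply, Algebra.algebraMap_eq_smul_one,
      TensorProduct.smul_tmul]
  | add x y hx hy => exact Submodule.add_mem _ hx hy

section Retraction

variable {M}
variable (hM1 : ∀ a ∈ I, ∀ m : M, a • m = 0)

include hs hk hM1 in
/-- for a module killed by `I`, the map `M → S ⊗ M` has a retraction -/
lemma exists_retraction_of_killed :
    ∃ σ : S ⊗[R] M →ₗ[R] M, ∀ m : M, σ ((1 : S) ⊗ₜ[R] m) = m := by
  let J : Ideal S := I.map (algebraMap R S)
  let q : R →ₗ[R] S ⧸ J := (Ideal.Quotient.mkₐ R J).toLinearMap ∘ₗ Algebra.linearMap R S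
  have hq : Function.Surjective q := hs
  have hqk : LinearMap.ker q = I := by
    ext x
    rw [LinearMap.mem_ker, ← hk, RingHom.mem_ker]
    rfl
  let e : (R ⧸ I) ≃ₗ[R] S ⧸ J :=
    (Submodule.quotEquivOfEq _ _ hqk.symm).trans (q.quotKerEquivOfSurjective hq)
  have he : e (Submodule.Quotient.mk 1) = 1 := by
    change q 1 = 1
    change Ideal.Quotient.mk J (algebraMap R S 1) = 1
    rw [map_one, map_one]
  let act : (R ⧸ I) →ₗ[R] Module.End R M :=
    Submodule.liftQ I (LinearMap.lsmul R M) (fun a ha => by
      rw [LinearMap.mem_ker]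
      apply LinearMap.ext
      intro m
      exact hM1 a ha m)
  let ρ : S →ₗ[R] Module.End R M :=
    act ∘ₗ e.symm.toLinearMap ∘ₗ (Ideal.Quotient.mkₐ R J).toLinearMap
  refine ⟨TensorProduct.lift ρ, fun m => ?_⟩
  rw [TensorProduct.lift.tmul]
  change act (e.symm (Ideal.Quotient.mk J 1)) m = m
  have h1 : e.symm (Ideal.Quotient.mk J 1) = Submodule.Quotient.mk 1 := by
    rw [LinearEquiv.symm_apply_eq, he, map_one]
  rw [h1]
  change (LinearMap.lsmul R M 1) m = m
  rw [LinearMap.lsmul_apply, one_smul]

end Retraction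

section Inj

variable [Module.Flat R S]

include hs hk in
/-- injectivity for modules killed by a power of `I` -/
lemma eq_zero_of_tmul_eq_zero_of_killed_pow (n : ℕ) :
    ∀ (T : Type u) [AddCommGroup T] [Module R T], (∀ a ∈ I ^ n, ∀ t : T, a • t = 0) →
      ∀ t : T, (1 : S) ⊗ₜ[R] t = 0 → t = 0 := by
  induction n with
  | zero =>
    intro T _ _ hT t _
    have := hT 1 (by rw [pow_zero, Ideal.one_eq_top]; trivial) t
    rwa [one_smul] at this
  | succ n ih =>
    intro T _ _ hT t ht
    let T' : Submodule R T := I • ⊤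
    -- the quotient is killed by `I`
    have hQ : ∀ a ∈ I, ∀ x : T ⧸ T', a • x = 0 := by
      intro a ha x
      obtain ⟨y, rfl⟩ := Submodule.Quotient.mk_surjective T' x
      rw [← Submodule.Quotient.mk_smul, Submodule.Quotient.mk_eq_zero]
      exact Submodule.smul_mem_smul ha Submodule.mem_top
    obtain ⟨σ, hσ⟩ := exists_retraction_of_killed (S := S) I hs hk hQ
    have h1 : (1 : S) ⊗ₜ[R] (T'.mkQ t) = 0 := by
      have := congrArg (LinearMap.lTensor S T'.mkQ) ht
      rwa [LinearMap.lTensor_tmul, map_zero] at this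
    have h2 : T'.mkQ t = 0 := by
      rw [← hσ (T'.mkQ t), h1, map_zero]
    have h3 : t ∈ T' := (Submodule.Quotient.mk_eq_zero T').1 h2
    -- `T'` is killed by `I ^ n`
    have hT' : ∀ a ∈ I ^ n, ∀ x : T', a • x = 0 := by
      intro a ha x
      apply Subtype.ext
      rw [Submodule.coe_smul, Submodule.coe_zero]
      have key : ∀ y ∈ I • (⊤ : Submodule R T), a • y = 0 := by
        intro y hy
        induction hy using Submodule.smul_induction_on' with
        | smul b hb y _ =>
          rw [← mul_smul]
          exact hT (a * b) (by rw [pow_succ]; exact Ideal.mul_mem_mul ha hb) y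
        | add x _ y _ hx hy => rw [smul_add, hx, hy, add_zero]
      exact key _ x.2
    have h4 : (1 : S) ⊗ₜ[R] (⟨t, h3⟩ : T') = 0 := by
      apply Module.Flat.lTensor_preserves_injective_linearMap (M := S) T'.subtype
        T'.injective_subtype
      rw [LinearMap.lTensor_tmul, map_zero]
      exact ht
    have h5 := ih T' hT' ⟨t, h3⟩ h4
    exact congrArg Subtype.val h5

include hs hk in
/-- **Stacks 05E9**: for `I`-power torsion `M` the map `M → S ⊗_R M` is bijective -/
theorem bijective_unit_of_isPowerTorsion (hM : LocCoh.IsPowerTorsion I M) :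
    Function.Bijective (TensorProduct.mk R S M 1) := by
  refine ⟨?_, surjective_unit_of_isPowerTorsion I hs M hM⟩
  rw [← LinearMap.ker_eq_bot, LinearMap.ker_eq_bot']
  intro m hm
  obtain ⟨n, hn⟩ := hM m
  let T : Submodule R M := Submodule.span R {m}
  have hT : ∀ a ∈ I ^ n, ∀ x : T, a • x = 0 := by
    intro a ha x
    apply Subtype.ext
    rw [Submodule.coe_smul, Submodule.coe_zero]
    obtain ⟨r, hr⟩ := Submodule.mem_span_singleton.1 x.2
    rw [← hr, smul_comm, hn a ha, smul_zero]
  have hmT : m ∈ T := Submodule.mem_span_singleton_self m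
  have h4 : (1 : S) ⊗ₜ[R] (⟨m, hmT⟩ : T) = 0 := by
    apply Module.Flat.lTensor_preserves_injective_linearMap (M := S) T.subtype
      T.injective_subtype
    rw [LinearMap.lTensor_tmul, map_zero]
    exact hm
  have h5 := eq_zero_of_tmul_eq_zero_of_killed_pow I hs hk n T hT ⟨m, hmT⟩ h4
  exact congrArg Subtype.val h5

end Inj

end Alg

end Groth.Agent.Lib.H6xFg
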