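import Mathlib
import Groth.Agent.Lib.H6xFgA
import Groth.Agent.Lib.H6xFgB
set_option backward.isDefEq.respectTransparency.types false

/-!
# helper6: the exact endofunctor `M ↦ (B ⊗_R M)|_R` for a flat `R`-algebra `B`
-/

set_option autoImplicit false
set_option linter.style.haveILetI false
universe u
open CategoryTheory CategoryTheory.Limits
attribute [local instance] HasDerivedCategory.standard

namespace Groth.Agent.Lib.H6xFg

open Groth.Agent.Lib.Helper1.Extend TensorProduct

section EB

variable (R B : Type u) [CommRing R] [CommRing B] [Algebra R B]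

/-- `M ↦ (B ⊗_R M)|_R` -/
noncomputable abbrev EB : ModuleCat.{u} R ⥤ ModuleCat.{u} R :=
  ext R B ⋙ ModuleCat.restrictScalars.{u} (algebraMap R B)

/-- `m ↦ 1 ⊗ m` -/
noncomputable abbrev τB : 𝟭 (ModuleCat.{u} R) ⟶ EB R B :=
  (ModuleCat.extendRestrictScalarsAdj.{u, u, u} (algebraMap R B)).unit

/-- the underlying `R`-module of `(EB R B).obj M` is `B ⊗_R M` -/
noncomputable def eB (M : ModuleCat.{u} R) : ((EB R B).obj M) ≃ₗ[R] B ⊗[R] M where
  toFun x := extEquiv (A := R) (B := B) M x
  invFun y := (extEquiv (A := R) (B := B) M).symm y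
  left_inv x := (extEquiv (A := R) (B := B) M).symm_apply_apply x
  right_inv y := (extEquiv (A := R) (B := B) M).apply_symm_apply y
  map_add' x y := (extEquiv (A := R) (B := B) M).map_add x y
  map_smul' r x := by
    change extEquiv (A := R) (B := B) M ((algebraMap R B r) • (show (ext R B).obj M from x)) = _
    rw [map_smul]
    exact algebraMap_smul B r _

lemma eB_τB (M : ModuleCat.{u} R) (m : M) :
    eB R B M (((τB R B).app M).hom m) = (1 : B) ⊗ₜ[R] m := rfl

instance [Module.Flat R B] : PreservesFiniteLimits (EB R B) := by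
  unfold EB
  infer_instance

instance : PreservesFiniteColimits (EB R B) := by
  unfold EB
  infer_instance

/-- `g`-power torsion modules -/
def IsTors {R : Type u} [CommRing R] (g : R) (N : Type u) [AddCommGroup N] [Module R N] : Prop :=
  ∀ x : N, ∃ n : ℕ, g ^ n • x = 0

variable {R}

lemma isTors_of_isPowerTorsion (I : Ideal R) (g : R) (hg : g ∈ I) (N : Type u) [AddCommGroup N]
    [Module R N] (hN : LocCoh.IsPowerTorsion I N) : IsTors g N := by
  intro x
  obtain ⟨n, hn⟩ := hN x
  exact ⟨n, hn _ (Ideal.pow_mem_pow hg n)⟩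

lemma isTors_of_linearEquiv (g : R) {N N' : Type u} [AddCommGroup N] [Module R N]
    [AddCommGroup N'] [Module R N'] (e : N ≃ₗ[R] N') (hN : IsTors g N) : IsTors g N' := by
  intro x
  obtain ⟨n, hn⟩ := hN (e.symm x)
  refine ⟨n, ?_⟩
  have := congrArg e hn
  rwa [map_smul, e.apply_symm_apply, map_zero] at this

variable (R)

/-- `B ⊗ N` is `g`-power torsion if `N` is -/
lemma isTors_EB (g : R) (N : ModuleCat.{u} R) (hN : IsTors g N) :
    IsTors g ((EB R B).obj N) := by
  refine isTors_of_linearEquiv g (eB R B N).symm ?_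
  intro x
  induction x using TensorProduct.induction_on with
  | zero => exact ⟨0, smul_zero _⟩
  | tmul b y =>
    obtain ⟨n, hn⟩ := hN y
    exact ⟨n, by rw [TensorProduct.smul_tmul', TensorProduct.smul_tmul, hn,
      TensorProduct.tmul_zero]⟩
  | add x y hx hy =>
    obtain ⟨n, hn⟩ := hx
    obtain ⟨m, hm⟩ := hy
    refine ⟨n + m, ?_⟩
    rw [smul_add, pow_add, mul_smul, mul_smul, hm, smul_zero, add_zero, smul_comm, hn,
      smul_zero]

/-- `f` acts bijectively on `B ⊗ N` if it does on `N` -/
lemma bijective_smul_EB (f : R) (N : ModuleCat.{u} R)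
    (hN : Function.Bijective (fun x : N => f • x)) :
    Function.Bijective (fun x : (EB R B).obj N => f • x) := by
  let φ : N ≃ₗ[R] N := LinearEquiv.ofBijective (LinearMap.lsmul R N f) hN
  let ψ : B ⊗[R] N ≃ₗ[R] B ⊗[R] N := LinearEquiv.lTensor B φ
  have h1 : ∀ x : (EB R B).obj N, f • x = (eB R B N).symm (ψ (eB R B N x)) := by
    intro x
    apply (eB R B N).injective
    rw [LinearEquiv.apply_symm_apply, map_smul]
    generalize eB R B N x = y
    induction y using TensorProduct.induction_on with
    | zero => rw [smul_zero, map_zero]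
    | tmul b y =>
      rw [TensorProduct.smul_tmul', TensorProduct.smul_tmul]
      rfl
    | add x y hx hy => rw [smul_add, hx, hy, map_add]
  have h2 : (fun x : (EB R B).obj N => f • x) =
      (eB R B N).symm ∘ ψ ∘ (eB R B N) := funext h1
  rw [h2]
  exact (eB R B N).symm.bijective.comp (ψ.bijective.comp (eB R B N).bijective)

/-- `f` acts bijectively on `B ⊗ N` if `f` is a unit in `B` -/
lemma bijective_smul_EB_of_isUnit (f : R) (hf : IsUnit (algebraMap R B f)) (N : ModuleCat.{u} R) :
    Function.Bijective (fun x : (EB R B).obj N => f • x) := by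
  have h1 : (fun x : (EB R B).obj N => f • x) =
      (fun x : (ext R B).obj N => hf.unit • x) := by
    funext x
    rfl
  rw [h1]
  exact MulAction.bijective (α := Bˣ) (β := (ext R B).obj N) hf.unit

section Away

variable (f : R)

/-- the kernel of `N → N_f` is `f`-power torsion -/
lemma ker_τB_away (N : ModuleCat.{u} R) (y : N)
    (hy : ((τB R (Localization.Away f)).app N).hom y = 0) : ∃ n : ℕ, f ^ n • y = 0 := by
  have h1 : TensorProduct.mk R (Localization.Away f) N 1 y =
      TensorProduct.mk R (Localization.Away f) N 1 0 := by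
    rw [map_zero]
    have := congrArg (eB R (Localization.Away f) N) hy
    rwa [eB_τB, map_zero] at this
  obtain ⟨⟨c, n, rfl⟩, hc⟩ := IsLocalizedModule.exists_of_eq (S := Submonoid.powers f) h1
  rw [smul_zero] at hc
  exact ⟨n, hc⟩

/-- the cokernel of `N → N_f` is `f`-power torsion -/
lemma coker_τB_away (N : ModuleCat.{u} R) (z : (EB R (Localization.Away f)).obj N) :
    ∃ (n : ℕ) (w : N), f ^ n • z = ((τB R (Localization.Away f)).app N).hom w := by
  obtain ⟨⟨w, ⟨c, n, rfl⟩⟩, hw⟩ := IsLocalizedModule.surj (Submonoid.powers f)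
    (TensorProduct.mk R (Localization.Away f) N 1) (eB R (Localization.Away f) N z)
  refine ⟨n, w, ?_⟩
  apply (eB R (Localization.Away f) N).injective
  rw [map_smul, eB_τB]
  exact hw

end Away

section Iso

variable (S : Type u) [CommRing S] [Algebra R S] [Module.Flat R S] (I : Ideal R)
  (hs : Function.Surjective ((Ideal.Quotient.mk (I.map (algebraMap R S))).comp (algebraMap R S)))
  (hk : RingHom.ker ((Ideal.Quotient.mk (I.map (algebraMap R S))).comp (algebraMap R S)) = I)

include hs hk in
lemma isIso_τB_of_isPowerTorsion (N : ModuleCat.{u} R) (hN : LocCoh.IsPowerTorsion I N) :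
    IsIso ((τB R S).app N) := by
  rw [ConcreteCategory.isIso_iff_bijective]
  have h1 : ⇑(ConcreteCategory.hom ((τB R S).app N)) =
      (eB R S N).symm ∘ (TensorProduct.mk R S N 1) := by
    funext y
    apply (eB R S N).injective
    rw [Function.comp_apply, LinearEquiv.apply_symm_apply]
    rfl
  rw [h1]
  exact (eB R S N).symm.bijective.comp (bijective_unit_of_isPowerTorsion I hs hk N hN)

end Iso

end EB

end Groth.Agent.Lib.H6xFg
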