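import Mathlib
import Groth.Agent.Lib.H6xDcB
import Groth.Agent.Lib.H6xFgB
import Groth.Agent.Lib.H6xFgC
import Groth.Agent.Lib.H6xDCompZero
import Groth.Agent.Lib.H6xCoextA
import Groth.Agent.Lib.H6xBrgE
import Groth.Agent.Lib.H6xBrgF
import Groth.Agent.Lib.H6xUncB
import Groth.Agent.Lib.H6xRHb
set_option backward.isDefEq.respectTransparency.types false

/-!
# helper6: `Hom(Y, E⟦n⟧)` is derived `f`-complete when `E` is
-/

set_option autoImplicit false
set_option linter.style.haveILetI false
universe u
open CategoryTheory CategoryTheory.Limits Pretriangulated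
attribute [local instance] HasDerivedCategory.standard

namespace Groth.Agent.Lib.H6xDc

open DerivedCategory Groth.Agent.Lib.Helper10.DerComplete Groth.Agent.Lib.H6xFg

variable {A : Type u} [CommRing A]

/-- derived `f`-completeness -/
def DCf (f : A) (E : Dual.D A) : Prop :=
  ∀ n : ℤ, Subsingleton (Dual.inD A (Localization.Away f) ⟶ E⟦n⟧)

lemma DCf.shift {f : A} {E : Dual.D A} (h : DCf f E) (m : ℤ) : DCf f (E⟦m⟧) := fun n => by
  haveI := h (m + n)
  let e : E⟦m⟧⟦n⟧ ≅ E⟦m + n⟧ := ((shiftFunctorAdd' (Dual.D A) m n (m + n) rfl).app E).symm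
  exact ((Linear.homCongr A (Iso.refl (Dual.inD A (Localization.Away f))) e).toEquiv).subsingleton

lemma DCf.of_isDerivedComplete {I : Ideal A} {E : Dual.D A} (h : DRing.IsDerivedComplete I E)
    {f : A} (hf : f ∈ I) : DCf f E := h f hf

/-- `N → N_f` is an isomorphism if `f` acts bijectively on `N` -/
lemma isIso_τB_of_bijective (f : A) (N : ModuleCat.{u} A)
    (hN : Function.Bijective (fun x : N => f • x)) :
    IsIso ((τB A (Localization.Away f)).app N) := by
  have hpow : ∀ n : ℕ, Function.Bijective (fun x : N => f ^ n • x) := by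
    intro n
    induction n with
    | zero =>
      have : (fun x : N => f ^ 0 • x) = id := by
        funext x
        simp
      rw [this]
      exact Function.bijective_id
    | succ n ih =>
      have : (fun x : N => f ^ (n + 1) • x) = (fun x : N => f ^ n • x) ∘ (fun x : N => f • x) := by
        funext x
        simp [pow_succ, mul_smul]
      rw [this]
      exact ih.comp hN
  have hunit : IsUnit (algebraMap A (Localization.Away f) f) :=
    IsLocalization.Away.algebraMap_isUnit f
  have hE := bijective_smul_EB_of_isUnit A (Localization.Away f) f hunit N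
  have hEpow : ∀ n : ℕ, Function.Injective
      (fun x : (EB A (Localization.Away f)).obj N => f ^ n • x) := by
    intro n
    induction n with
    | zero =>
      have : (fun x : (EB A (Localization.Away f)).obj N => f ^ 0 • x) = id := by
        funext x
        simp
      rw [this]
      exact Function.injective_id
    | succ n ih =>
      have : (fun x : (EB A (Localization.Away f)).obj N => f ^ (n + 1) • x) =
          (fun x : (EB A (Localization.Away f)).obj N => f ^ n • x) ∘
            (fun x : (EB A (Localization.Away f)).obj N => f • x) := by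
        funext x
        change f ^ (n + 1) • x = f ^ n • (f • x)
        rw [pow_succ, mul_smul]
      rw [this]
      exact ih.comp hE.1
  rw [ConcreteCategory.isIso_iff_bijective]
  constructor
  · rw [injective_iff_map_eq_zero]
    intro y hy
    obtain ⟨n, hn⟩ := ker_τB_away A f N y hy
    exact (hpow n).1 (show f ^ n • y = f ^ n • (0 : N) by rw [hn, smul_zero])
  · intro z
    obtain ⟨n, w, hw⟩ := coker_τB_away A f N z
    obtain ⟨w', rfl⟩ := (hpow n).2 w
    refine ⟨w', hEpow n ?_⟩
    change f ^ n • _ = f ^ n • z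
    rw [hw, map_smul]

lemma isIso_smul_of_iso {C : Type*} [Category C] [Preadditive C] [Linear A C] {M N : C}
    (φ : M ≅ N) (f : A) (h : IsIso (f • 𝟙 M)) : IsIso (f • 𝟙 N) := by
  have : f • 𝟙 N = φ.inv ≫ (f • 𝟙 M) ≫ φ.hom := by
    rw [Linear.smul_comp, Category.id_comp, Linear.comp_smul, Iso.inv_hom_id]
  rw [this]
  infer_instance

/-- **(L-inv)**: if `f` acts invertibly on `X` and `E` is derived `f`-complete, then
`Hom(X, E) = 0` -/
theorem subsingleton_hom_of_isIso_smul (f : A) (X E : Dual.D A) (hX : IsIso (f • 𝟙 X))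
    (hE : DCf f E) : Subsingleton (X ⟶ E) := by
  let B := Localization.Away f
  let K : DRing.Cx A := Q.objPreimage X
  let e : Q.obj K ≅ X := Q.objObjPreimageIso X
  have hbij : ∀ i : ℤ, Function.Bijective (fun x : K.homology i => f • x) := by
    intro i
    have h1 : IsIso (f • 𝟙 ((homologyFunctor (ModuleCat.{u} A) i).obj X)) := by
      have := Functor.map_isIso (homologyFunctor (ModuleCat.{u} A) i) (f • 𝟙 X)
      rwa [Functor.map_smul, CategoryTheory.Functor.map_id] at this
    have h2 : IsIso (f • 𝟙 (K.homology i)) :=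
      isIso_smul_of_iso ((homologyFunctor (ModuleCat.{u} A) i).mapIso e.symm ≪≫ isoA K i) f h1
    exact (ConcreteCategory.isIso_iff_bijective _).1 h2
  have hτ : ∀ i : ℤ, IsIso ((τB A B).app (K.homology i)) := fun i =>
    isIso_τB_of_bijective f _ (hbij i)
  haveI := isIso_τD (EB A B) (τB A B) K hτ
  let EBK : DRing.Cx A := ((EB A B).mapHomologicalComplex (ComplexShape.up ℤ)).obj K
  have hunit : IsUnit (algebraMap A B f) := IsLocalization.Away.algebraMap_isUnit f
  have hEBK : ∀ i : ℤ, Function.Bijective (fun x : EBK.X i => f • x) := fun i =>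
    bijective_smul_EB_of_isUnit A B f hunit (K.X i)
  haveI := Groth.Agent.Lib.H6xDCompZero.isIso_locCx f EBK hEBK
  let K' : CochainComplex (ModuleCat.{u} B) ℤ :=
    ((ModuleCat.localizedModuleFunctor (Submonoid.powers f)).mapHomologicalComplex
      (ComplexShape.up ℤ)).obj EBK
  let e' : X ≅ (DRing.restrictD (algebraMap A B)).obj (Q.obj K') :=
    e.symm ≪≫ asIso (τD (EB A B) (τB A B) K) ≪≫ (EB A B).mapDerivedCategoryFactors.app K ≪≫
      asIso (Q.map (Groth.Agent.Lib.H6xDCompZero.locCx f EBK)) ≪≫
      ((ModuleCat.restrictScalars.{u} (algebraMap A B)).mapDerivedCategoryFactors.app K').symm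
  haveI := (Groth.Agent.Lib.H6xCoext.main (A := A) (B := B) E).1 hE (Q.obj K')
  exact e'.homFromEquiv.subsingleton

section RH

open DTen Groth.Agent.Lib.H6xDTen Groth.Agent.Lib.H6xRdc Groth.Agent.Lib.H6xBrg

/-- `f` acts invertibly on `A_f[0]` -/
lemma isIso_smul_inD_away (f : A) : IsIso (f • 𝟙 (Dual.inD A (Localization.Away f))) := by
  have h1 : f • 𝟙 (Dual.inD A (Localization.Away f)) =
      (DerivedCategory.singleFunctor (ModuleCat.{u} A) 0).map
        (f • 𝟙 (ModuleCat.of A (Localization.Away f))) := by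
    rw [Functor.map_smul, CategoryTheory.Functor.map_id]
  rw [h1]
  have hunit : IsUnit (algebraMap A (Localization.Away f) f) :=
    IsLocalization.Away.algebraMap_isUnit f
  haveI : IsIso (f • 𝟙 (ModuleCat.of A (Localization.Away f))) := by
    rw [ConcreteCategory.isIso_iff_bijective]
    have : ⇑(ConcreteCategory.hom (f • 𝟙 (ModuleCat.of A (Localization.Away f)))) =
        fun x : Localization.Away f => hunit.unit • x := by
      funext x
      change f • x = algebraMap A (Localization.Away f) f * x
      rw [Algebra.smul_def]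
    rw [this]
    exact MulAction.bijective hunit.unit
  infer_instance

/-- **(RH)/(CritHom)**: for `E` derived `f`-complete and any `Y`, the `A`-module `Hom(Y, E⟦n⟧)` is
derived `f`-complete -/
theorem crit_hom (f : A) (Y E : Dual.D A) (hE : DCf f E) (n : ℤ) : Crit f (Y ⟶ E⟦n⟧) := by
  haveI : HasLTen A := Groth.Agent.Lib.H6xUnc.hasLTen _
  haveI : HasLTen₃ A := Groth.Agent.Lib.H6xUnc.hasLTen₃ _
  haveI : IsSymMonoidal A := Groth.Agent.Lib.H6xUnc.isSymMonoidal _
  haveI : HasRHom A := Groth.Agent.Lib.H6xRH.hasRHom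
  let Z := (RHomR A Y).obj E
  have hZ : ∀ m : ℤ, V f (Z⟦m⟧) := by
    intro m
    rw [V_iff_subsingleton]
    obtain ⟨em⟩ := nonempty_rhom_shift_iso Y E m
    haveI : IsIso (f • 𝟙 (tO (Dual.inD A (Localization.Away f)) Y)) := by
      have h1 : f • 𝟙 (tO (Dual.inD A (Localization.Away f)) Y) =
          tH (f • 𝟙 (Dual.inD A (Localization.Away f))) (𝟙 Y) := by
        rw [tH_smul_left, tH_id]
      rw [h1]
      haveI := isIso_smul_inD_away f
      infer_instance
    haveI : Subsingleton (tO (Dual.inD A (Localization.Away f)) Y ⟶ E⟦m⟧) :=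
      subsingleton_hom_of_isIso_smul f _ _ inferInstance (hE.shift m)
    haveI : Subsingleton (Dual.inD A (Localization.Away f) ⟶ (RHomR A Y).obj (E⟦m⟧)) :=
      (rhomHomEquiv (Dual.inD A (Localization.Away f)) Y (E⟦m⟧)).symm.subsingleton
    exact em.symm.homToEquiv.subsingleton
  have hc : Crit f (Dual.HD A Z n) := (V_shift_iff_crit f Z).1 hZ n
  obtain ⟨l⟩ := nonempty_HD_RHom_linearEquiv Y E n
  exact hc.of_linearEquiv l

/-- if `f` acts surjectively on `Hom(Y, E⟦n⟧)` with `E` derived `f`-complete, then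
`Hom(Y, E⟦n⟧) = 0` -/
theorem subsingleton_hom_of_surjective_smul (f : A) (Y E : Dual.D A) (hE : DCf f E) (n : ℤ)
    (hs : Function.Surjective (fun x : Y ⟶ E⟦n⟧ => f • x)) : Subsingleton (Y ⟶ E⟦n⟧) :=
  ⟨fun x y => by
    rw [(crit_hom f Y E hE n).eq_zero_of_surjective hs x,
      (crit_hom f Y E hE n).eq_zero_of_surjective hs y]⟩

theorem subsingleton_hom_of_surjective_smul₀ (f : A) (Y E : Dual.D A) (hE : DCf f E)
    (hs : Function.Surjective (fun x : Y ⟶ E => f • x)) : Subsingleton (Y ⟶ E) := by
  let e : E⟦(0 : ℤ)⟧ ≅ E := (shiftFunctorZero (Dual.D A) ℤ).app E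
  haveI : Subsingleton (Y ⟶ E⟦(0 : ℤ)⟧) := by
    refine subsingleton_hom_of_surjective_smul f Y E hE 0 (fun x => ?_)
    obtain ⟨y', hy'⟩ := hs (x ≫ e.hom)
    refine ⟨y' ≫ e.inv, ?_⟩
    change f • (y' ≫ e.inv) = x
    rw [← Linear.smul_comp]
    change (f • y') ≫ e.inv = x
    rw [show f • y' = x ≫ e.hom from hy', Category.assoc, Iso.hom_inv_id, Category.comp_id]
  exact (Iso.homToEquiv e.symm).subsingleton

end RH

end Groth.Agent.Lib.H6xDc
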