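import Mathlib
import Groth.Agent.Lib.H6xDcC
set_option backward.isDefEq.respectTransparency.types false

/-!
# helper6: the left orthogonal of derived complete objects and completion equivalences
-/

set_option autoImplicit false
set_option linter.style.haveILetI false
universe u
open CategoryTheory CategoryTheory.Limits Pretriangulated
attribute [local instance] HasDerivedCategory.standard

namespace Groth.Agent.Lib.H6xDc

section Abstract

variable {C : Type*} [Category C] [HasZeroObject C] [HasShift C ℤ] [Preadditive C]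
  [∀ n : ℤ, (shiftFunctor C n).Additive] [Pretriangulated C] [IsTriangulated C]
  (P : ObjectProperty C) [P.IsTriangulated] [P.IsClosedUnderIsomorphisms]

/-- given two distinguished triangles `Z →a C →b P₁` and `P₂ →a' C →b' Z`, the composite `a ≫ b'`
has its cone in `P` iff `a' ≫ b` does -/
theorem trW_two_tri {Z Cc P₁ P₂ : C} (a : Z ⟶ Cc) (b : Cc ⟶ P₁) (c : P₁ ⟶ Z⟦(1 : ℤ)⟧)
    (h1 : Triangle.mk a b c ∈ distTriang C)
    (a' : P₂ ⟶ Cc) (b' : Cc ⟶ Z) (c' : Z ⟶ P₂⟦(1 : ℤ)⟧)
    (h2 : Triangle.mk a' b' c' ∈ distTriang C) :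
    P.trW (a ≫ b') ↔ P.trW (a' ≫ b) := by
  obtain ⟨Z₁₃, v₁₃, w₁₃, H₁₃⟩ := distinguished_cocone_triangle (a ≫ b')
  have H₂₃ : Triangle.mk b' c' (-a'⟦(1 : ℤ)⟧') ∈ distTriang C := rot_of_distTriang _ h2
  have o := Triangulated.someOctahedron rfl h1 H₂₃ H₁₃
  have hm := o.mem
  have h0 : P.trW (a ≫ b') ↔ P Z₁₃ := P.trW_iff_of_distinguished _ H₁₃
  rw [h0]
  have hr := rot_of_distTriang _ hm
  have h3 : P.trW ((-a'⟦(1 : ℤ)⟧') ≫ b⟦(1 : ℤ)⟧') ↔ P Z₁₃ :=
    P.trW_iff_of_distinguished' _ hr
  rw [← h3]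
  have h4 : (-a'⟦(1 : ℤ)⟧') ≫ b⟦(1 : ℤ)⟧' = (-1 : ℤˣ) • ((a' ≫ b)⟦(1 : ℤ)⟧') := by
    rw [Functor.map_comp, Preadditive.neg_comp, Units.smul_def]
    simp
  rw [h4, P.smul_mem_trW_iff]
  exact ⟨fun h => h.unshift, fun h => h.shift 1⟩

omit [IsTriangulated C] in
/-- annihilation of the cone -/
lemma smul_mul_eq_zero_of_triangle {R : Type*} [CommRing R] [Linear R C]
    (T : Triangle C) (hT : T ∈ distTriang C) (a b : R)
    (ha : a • T.mor₂ = 0) (hb : b • T.mor₃ = 0) : (b * a) • 𝟙 T.obj₃ = 0 := by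
  have h1 : T.mor₂ ≫ (a • 𝟙 T.obj₃) = 0 := by
    rw [Linear.comp_smul, Category.comp_id, ha]
  obtain ⟨s, hs⟩ := Triangle.yoneda_exact₃ T hT (a • 𝟙 T.obj₃) h1
  rw [mul_smul, hs, ← Linear.smul_comp, hb, zero_comp]

omit [IsTriangulated C] in
/-- annihilation of the cone, explicit form -/
lemma smul_mul_eq_zero_of_triangle' {R : Type*} [CommRing R] [Linear R C]
    [∀ n : ℤ, (shiftFunctor C n).Linear R]
    {X Y Z : C} (u : X ⟶ Y) (v : Y ⟶ Z) (w : Z ⟶ X⟦(1 : ℤ)⟧)
    (hT : Triangle.mk u v w ∈ distTriang C) (a b : R)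
    (ha : (a • 𝟙 Y) ≫ v = 0) (hb : w ≫ (b • 𝟙 X)⟦(1 : ℤ)⟧' = 0) : (b * a) • 𝟙 Z = 0 := by
  refine smul_mul_eq_zero_of_triangle _ hT a b ?_ ?_
  · change a • v = 0
    rw [← ha, Linear.smul_comp, Category.id_comp]
  · change b • w = 0
    rw [← hb, Functor.map_smul, CategoryTheory.Functor.map_id, Linear.comp_smul, Category.comp_id]

end Abstract

section DC

open Groth.Agent.Lib.Helper10.DerComplete DerivedCategory

variable {A : Type u} [CommRing A] (I : Ideal A)

/-- the left orthogonal of the derived complete objects -/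
abbrev LO : ObjectProperty (Dual.D A) := (DRing.IsDerivedComplete I).leftOrthogonal

lemma LO_iff (Z : Dual.D A) :
    LO I Z ↔ ∀ E : Dual.D A, DRing.IsDerivedComplete I E → Subsingleton (Z ⟶ E) :=
  ⟨fun h E hE => ⟨fun x y => by rw [h x hE, h y hE]⟩,
    fun h E g hE => (h E hE).elim _ _⟩

/-- for `f ∈ I`, multiplication by `f` on `Z` is a completion equivalence iff `Z` is left
orthogonal to the derived complete objects -/
theorem trW_smul_iff {f : A} (hf : f ∈ I) (Z : Dual.D A) :
    (LO I).trW (f • 𝟙 Z) ↔ LO I Z := by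
  constructor
  · rintro ⟨Z₁, g, h, hT, hZ₁⟩
    rw [LO_iff]
    intro E hE
    refine subsingleton_hom_of_surjective_smul₀ f Z E (hE f hf) (fun x => ?_)
    have hT' := inv_rot_of_distTriang _ hT
    have h0 : (Triangle.mk (f • 𝟙 Z) g h).invRotate.mor₁ ≫ x = 0 :=
      ((LO I).le_shift (-1) _ hZ₁) _ hE
    obtain ⟨y, hy⟩ : ∃ y : Z ⟶ E, x = (f • 𝟙 Z) ≫ y := Triangle.yoneda_exact₂ _ hT' x h0
    refine ⟨y, ?_⟩
    change f • y = x
    rw [hy, Linear.smul_comp, Category.id_comp]
  · intro hZ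
    obtain ⟨Z₁, g, h, hT⟩ := distinguished_cocone_triangle (f • 𝟙 Z)
    exact ⟨Z₁, g, h, hT, (LO I).ext_of_isTriangulatedClosed₃ _ hT hZ hZ⟩

theorem isZero_of_LO_of_isDerivedComplete (Z : Dual.D A) (h1 : LO I Z)
    (h2 : DRing.IsDerivedComplete I Z) : IsZero Z := by
  rw [IsZero.iff_id_eq_zero]
  exact h1 _ h2

theorem isIso_of_trW_of_isDerivedComplete {X Y : Dual.D A} (u : X ⟶ Y) (hu : (LO I).trW u)
    (hX : DRing.IsDerivedComplete I X) (hY : DRing.IsDerivedComplete I Y) : IsIso u := by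
  obtain ⟨Z, g, h, hT, hZ⟩ := hu
  have hZ' : DRing.IsDerivedComplete I Z :=
    (DRing.IsDerivedComplete I).ext_of_isTriangulatedClosed₃ _ hT hX hY
  exact (Triangle.isZero₃_iff_isIso₁ _ hT).1 (isZero_of_LO_of_isDerivedComplete I Z hZ hZ')

/-- completion equivalences induce bijections on maps to derived complete objects -/
theorem bijective_of_trW {X Y : Dual.D A} (u : X ⟶ Y) (hu : (LO I).trW u) (E : Dual.D A)
    (hE : DRing.IsDerivedComplete I E) : Function.Bijective (fun g : Y ⟶ E => u ≫ g) := by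
  have h1 : (LO I).rightOrthogonal E := fun Z g hZ => hZ g hE
  rw [← ObjectProperty.isLocal_trW] at h1
  exact h1 u hu

section Completion

variable [DRing.HasDerivedCompletion I]

lemma completion_hom_ext (K E : Dual.D A) (hE : DRing.IsDerivedComplete I E)
    (u v : ((DRing.derivedCompletion I).obj K).obj ⟶ E)
    (h : DRing.toDerivedCompletion I K ≫ u = DRing.toDerivedCompletion I K ≫ v) : u = v := by
  let E' : DRing.DComp I := ⟨E, hE⟩
  let u' : (DRing.derivedCompletion I).obj K ⟶ E' := ObjectProperty.homMk u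
  let v' : (DRing.derivedCompletion I).obj K ⟶ E' := ObjectProperty.homMk v
  have h1 : (DRing.derivedCompletionAdj I).homEquiv K E' u' =
      (DRing.derivedCompletionAdj I).homEquiv K E' v' := by
    rw [Adjunction.homEquiv_unit, Adjunction.homEquiv_unit]
    exact h
  have h2 := ((DRing.derivedCompletionAdj I).homEquiv K E').injective h1
  exact congrArg (fun g => g.hom) h2

lemma completion_exists_lift (K E : Dual.D A) (hE : DRing.IsDerivedComplete I E) (w : K ⟶ E) :
    ∃ u : ((DRing.derivedCompletion I).obj K).obj ⟶ E, DRing.toDerivedCompletion I K ≫ u = w := by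
  let E' : DRing.DComp I := ⟨E, hE⟩
  refine ⟨(((DRing.derivedCompletionAdj I).homEquiv K E').symm w).hom, ?_⟩
  have := ((DRing.derivedCompletionAdj I).homEquiv K E').apply_symm_apply w
  rw [Adjunction.homEquiv_unit] at this
  exact this

/-- the canonical map to the derived completion is a completion equivalence -/
theorem trW_toDerivedCompletion (K : Dual.D A) :
    (LO I).trW (DRing.toDerivedCompletion I K) := by
  obtain ⟨Z₁, g, h, hT⟩ := distinguished_cocone_triangle (DRing.toDerivedCompletion I K)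
  refine ⟨Z₁, g, h, hT, fun E z hE => ?_⟩
  have h1 : g ≫ z = 0 := by
    apply completion_hom_ext I K E hE
    rw [comp_zero, ← Category.assoc]
    have := comp_distTriang_mor_zero₁₂ _ hT
    change DRing.toDerivedCompletion I K ≫ g = 0 at this
    rw [this, zero_comp]
  obtain ⟨t, ht⟩ : ∃ t : K⟦(1 : ℤ)⟧ ⟶ E, z = h ≫ t := Triangle.yoneda_exact₃ _ hT z h1
  let ψ : (E⟦(-1 : ℤ)⟧)⟦(1 : ℤ)⟧ ≅ E := (shiftEquiv (Dual.D A) (1 : ℤ)).counitIso.app E
  obtain ⟨t₀, ht₀⟩ := (shiftFunctor (Dual.D A) (1 : ℤ)).map_surjective (t ≫ ψ.inv)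
  obtain ⟨t₀', ht₀'⟩ := completion_exists_lift I K (E⟦(-1 : ℤ)⟧)
    (isDerivedComplete_shift I hE (-1)) t₀
  have h2 : t = (DRing.toDerivedCompletion I K)⟦(1 : ℤ)⟧' ≫ t₀'⟦(1 : ℤ)⟧' ≫ ψ.hom := by
    rw [← Category.assoc, ← Functor.map_comp, ht₀', ht₀, Category.assoc, Iso.inv_hom_id,
      Category.comp_id]
  have h3 := comp_distTriang_mor_zero₃₁ _ hT
  change h ≫ (DRing.toDerivedCompletion I K)⟦(1 : ℤ)⟧' = 0 at h3
  rw [ht, h2, ← Category.assoc, h3, zero_comp]

/-- uniqueness of derived completion: a completion equivalence to a derived complete object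
identifies its target with the derived completion -/
theorem exists_iso_completion {K Y : Dual.D A} (u : K ⟶ Y) (hu : (LO I).trW u)
    (hY : DRing.IsDerivedComplete I Y) :
    ∃ e : ((DRing.derivedCompletion I).obj K).obj ≅ Y,
      DRing.toDerivedCompletion I K ≫ e.hom = u := by
  set X := ((DRing.derivedCompletion I).obj K).obj with hXdef
  have hX : DRing.IsDerivedComplete I X := ((DRing.derivedCompletion I).obj K).property
  obtain ⟨v, hv⟩ := completion_exists_lift I K Y hY u
  have hη := trW_toDerivedCompletion I K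
  have key : ∀ E : Dual.D A, DRing.IsDerivedComplete I E →
      Function.Bijective (fun g : Y ⟶ E => v ≫ g) := by
    intro E hE
    have b1 := bijective_of_trW I _ hη E hE
    have b2 := bijective_of_trW I _ hu E hE
    have : (fun g : Y ⟶ E => u ≫ g) =
        (fun g : X ⟶ E => DRing.toDerivedCompletion I K ≫ g) ∘ (fun g : Y ⟶ E => v ≫ g) := by
      funext g
      change u ≫ g = DRing.toDerivedCompletion I K ≫ v ≫ g
      rw [← Category.assoc, hv]
    rw [this] at b2
    exact (Function.Bijective.of_comp_iff' b1 _).1 b2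
  obtain ⟨w, hw⟩ := (key X hX).2 (𝟙 X)
  have hw' : w ≫ v = 𝟙 Y := by
    apply (key Y hY).1
    change v ≫ w ≫ v = v ≫ 𝟙 Y
    rw [← Category.assoc, show v ≫ w = 𝟙 X from hw, Category.id_comp, Category.comp_id]
  exact ⟨⟨v, w, hw, hw'⟩, hv⟩

end Completion

section Nil

/-- a module killed by a power of `f` is derived `f`-complete -/
lemma crit_of_pow_smul_eq_zero (f : A) (k : ℕ) (M : Type*) [AddCommGroup M] [Module A M]
    (h : ∀ x : M, f ^ k • x = 0) : Crit f M := by
  constructor
  · intro m hm n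
    have hk : ∀ j n, m n = f ^ j • m (n + j) := by
      intro j
      induction j with
      | zero => intro n; simp
      | succ j ih =>
        intro n
        rw [ih n, hm (n + j), smul_smul, ← pow_succ, add_assoc]
    rw [hk k n, h]
  · intro y
    refine ⟨fun n => ∑ j ∈ Finset.range k, f ^ j • y (n + j), fun n => ?_⟩
    have h1 : f • ∑ j ∈ Finset.range k, f ^ j • y (n + 1 + j) =
        ∑ j ∈ Finset.range k, f ^ (j + 1) • y (n + (j + 1)) := by
      rw [Finset.smul_sum]
      refine Finset.sum_congr rfl (fun j _ => ?_)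
      rw [smul_smul, ← pow_succ', add_assoc, add_comm 1 j]
    rw [h1]
    have h2 := Finset.sum_range_succ_sub_sum (fun j => f ^ j • y (n + j)) (n := k)
    have h3 : ∑ j ∈ Finset.range k, f ^ (j + 1) • y (n + (j + 1)) =
        ∑ j ∈ Finset.range (k + 1), f ^ j • y (n + j) - y n := by
      rw [Finset.sum_range_succ' (fun j => f ^ j • y (n + j)) k]
      simp
    rw [h3, Finset.sum_range_succ, h]
    simp

/-- an object annihilated by powers of generators of `I` is derived `I`-complete -/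
theorem isDerivedComplete_of_pow_smul_eq_zero (s : Set A) (hs : Ideal.span s = I) (X : Dual.D A)
    (h : ∀ f ∈ s, ∃ k : ℕ, (f ^ k) • 𝟙 X = 0) : DRing.IsDerivedComplete I X := by
  rw [isDerivedComplete_iff_forall_crit]
  intro g hg i
  have hle : I ≤ critIdeal A (Dual.HD A X i) := by
    rw [← hs, Ideal.span_le]
    intro f hf
    obtain ⟨k, hk⟩ := h f hf
    refine crit_of_pow_smul_eq_zero f k _ (fun x => ?_)
    have h1 : (homologyFunctor (ModuleCat.{u} A) i).map ((f ^ k) • 𝟙 X) = 0 := by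
      rw [hk, Functor.map_zero]
    rw [Functor.map_smul, CategoryTheory.Functor.map_id] at h1
    have := congrArg (fun φ => φ.hom x) h1
    exact this
  exact hle hg

end Nil

end DC

end Groth.Agent.Lib.H6xDc
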