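import Mathlib
import Groth.Agent.Lib.H6xDcD
set_option backward.isDefEq.respectTransparency.types false

/-!
# helper6: chain-level Koszul cones and completion equivalences
-/

set_option autoImplicit false
set_option linter.style.haveILetI false
universe u
open CategoryTheory CategoryTheory.Limits Pretriangulated
attribute [local instance] HasDerivedCategory.standard

namespace Groth.Agent.Lib.H6xDc

open DerivedCategory CochainComplex Groth.Agent.Lib.Helper1.KF

variable {A : Type u} [CommRing A]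

section Oct

variable {C : Type*} [Category C] [Abelian C] [HasDerivedCategory C]

/-- the octahedral triangle of mapping cones is distinguished in the derived category -/
lemma mappingConeCompTriangle_distinguished {X₁ X₂ X₃ : CochainComplex C ℤ} (u : X₁ ⟶ X₂)
    (v : X₂ ⟶ X₃) :
    (DerivedCategory.Q (C := C)).mapTriangle.obj (mappingConeCompTriangle u v) ∈
      distTriang (DerivedCategory C) := by
  refine isomorphic_distinguished _
    ((DerivedCategory.Qh (C := C)).map_distinguished _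
      (HomotopyCategory.mappingConeCompTriangleh_distinguished u v)) _ ?_
  exact ((Functor.mapTriangleIso (DerivedCategory.quotientCompQhIso C)).symm.app _ ≪≫
    (Functor.mapTriangleCompIso (HomotopyCategory.quotient C _) DerivedCategory.Qh).app _)

/-- variant with the composite named -/
lemma mappingConeComp_distinguished {X₁ X₂ X₃ : CochainComplex C ℤ} (u : X₁ ⟶ X₂)
    (v : X₂ ⟶ X₃) (w : X₁ ⟶ X₃) (hw : u ≫ v = w) :
    ∃ δ, Triangle.mk
      ((DerivedCategory.Q (C := C)).map (mappingCone.map u w (𝟙 X₁) v (by rw [Category.id_comp, hw])))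
      ((DerivedCategory.Q (C := C)).map (mappingCone.map w v u (𝟙 X₃) (by rw [Category.comp_id, hw])))
      δ ∈ distTriang (DerivedCategory C) := by
  subst hw
  exact ⟨_, mappingConeCompTriangle_distinguished u v⟩

end Oct

section Kf

/-- the Koszul cone on one element: `cone(f : F → F)` -/
noncomputable abbrev Kf (f : A) (F : Cx A) : Cx A := mappingCone (f • 𝟙 F)

lemma smul_id_comm (f : A) {F G : Cx A} (υ : F ⟶ G) : (f • 𝟙 F) ≫ υ = υ ≫ (f • 𝟙 G) := by
  rw [Linear.smul_comp, Category.id_comp, Linear.comp_smul, Category.comp_id]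

/-- functoriality of the Koszul cone -/
noncomputable def Kfmap (f : A) {F G : Cx A} (υ : F ⟶ G) : Kf f F ⟶ Kf f G :=
  mappingCone.map (f • 𝟙 F) (f • 𝟙 G) υ υ (smul_id_comm f υ)

lemma map_smul_smul_eq (f : A) {F G : Cx A} (υ : F ⟶ G) :
    mappingCone.map υ υ (f • 𝟙 F) (f • 𝟙 G) (smul_id_comm f υ).symm = f • 𝟙 (mappingCone υ) := by
  apply HomologicalComplex.hom_ext
  intro n
  rw [mappingCone.ext_from_iff _ (n + 1) n rfl]
  simp [mappingCone.map]

lemma mappingCone_map_congr {K₁ L₁ K₂ L₂ : Cx A} (φ₁ : K₁ ⟶ L₁) (φ₂ : K₂ ⟶ L₂)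
    {a a' : K₁ ⟶ K₂} {b b' : L₁ ⟶ L₂} (ha : a = a') (hb : b = b') (comm : φ₁ ≫ b = a ≫ φ₂) :
    mappingCone.map φ₁ φ₂ a b comm =
      mappingCone.map φ₁ φ₂ a' b' (by rw [← ha, ← hb]; exact comm) := by
  subst ha hb
  rfl

/-- **(W-iff)**: for `f ∈ I`, a chain map is a completion equivalence iff the induced map on
Koszul cones is -/
theorem trW_Kfmap_iff (I : Ideal A) {f : A} (hf : f ∈ I) {F G : Cx A} (υ : F ⟶ G) :
    (LO I).trW (Q.map (Kfmap f υ)) ↔ (LO I).trW (Q.map υ) := by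
  have hw' : (f • 𝟙 F) ≫ υ = υ ≫ (f • 𝟙 G) := smul_id_comm f υ
  obtain ⟨c, h1⟩ := mappingConeComp_distinguished υ (f • 𝟙 G) (υ ≫ (f • 𝟙 G)) rfl
  obtain ⟨c', h2⟩ := mappingConeComp_distinguished (f • 𝟙 F) υ (υ ≫ (f • 𝟙 G)) hw'
  have key := trW_two_tri (LO I) _ _ c h1 _ _ c' h2
  have e1 : Q.map (mappingCone.map υ (υ ≫ (f • 𝟙 G)) (𝟙 F) (f • 𝟙 G)
        (by rw [Category.id_comp])) ≫
      Q.map (mappingCone.map (υ ≫ (f • 𝟙 G)) υ (f • 𝟙 F) (𝟙 G)
        (by rw [Category.comp_id, hw'])) = f • 𝟙 (Q.obj (mappingCone υ)) := by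
    rw [← Functor.map_comp, ← mappingCone.map_comp,
      mappingCone_map_congr υ υ (Category.id_comp _) (Category.comp_id _), map_smul_smul_eq,
      Functor.map_smul, CategoryTheory.Functor.map_id]
  have e2 : Q.map (mappingCone.map (f • 𝟙 F) (υ ≫ (f • 𝟙 G)) (𝟙 F) υ
        (by rw [Category.id_comp, hw'])) ≫
      Q.map (mappingCone.map (υ ≫ (f • 𝟙 G)) (f • 𝟙 G) υ (𝟙 G)
        (by rw [Category.comp_id])) = Q.map (Kfmap f υ) := by
    rw [← Functor.map_comp, ← mappingCone.map_comp,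
      mappingCone_map_congr (f • 𝟙 F) (f • 𝟙 G) (Category.id_comp _) (Category.comp_id _)]
    rfl
  rw [e1, e2] at key
  rw [← key, trW_smul_iff I hf]
  exact ((LO I).trW_iff_of_distinguished _ (mappingCone_triangle_distinguished υ)).symm

end Kf

section Kfs

/-- iterated Koszul cone -/
noncomputable def Kfs : List A → Cx A → Cx A
  | [], F => F
  | f :: fs, F => Kfs fs (Kf f F)

/-- functoriality of the iterated Koszul cone -/
noncomputable def Kfsmap : (fs : List A) → {F G : Cx A} → (F ⟶ G) → (Kfs fs F ⟶ Kfs fs G)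
  | [], _, _, υ => υ
  | f :: fs, _, _, υ => Kfsmap fs (Kfmap f υ)

/-- **(C-iff)** -/
theorem trW_Kfsmap_iff (I : Ideal A) : ∀ (fs : List A), (∀ f ∈ fs, f ∈ I) →
    ∀ {F G : Cx A} (υ : F ⟶ G), (LO I).trW (Q.map (Kfsmap fs υ)) ↔ (LO I).trW (Q.map υ) := by
  intro fs
  induction fs with
  | nil => intro _ F G υ; rfl
  | cons f fs ih =>
    intro hfs F G υ
    change (LO I).trW (Q.map (Kfsmap fs (Kfmap f υ))) ↔ _
    rw [ih (fun g hg => hfs g (List.mem_cons_of_mem _ hg)) (Kfmap f υ),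
      trW_Kfmap_iff I (hfs f List.mem_cons_self) υ]

lemma Q_map_smul_id (f : A) (F : Cx A) : Q.map (f • 𝟙 F) = f • 𝟙 (Q.obj F) := by
  rw [Functor.map_smul, CategoryTheory.Functor.map_id]

/-- the distinguished triangle `F →f F → Kf f F →` -/
lemma exists_Kf_triangle (f : A) (F : Cx A) :
    ∃ w : Q.obj (Kf f F) ⟶ (Q.obj F)⟦(1 : ℤ)⟧,
      Triangle.mk (f • 𝟙 (Q.obj F)) (Q.map (mappingCone.inr (f • 𝟙 F))) w ∈
        distTriang (Dual.D A) := by
  rw [← Q_map_smul_id]
  exact ⟨_, mappingCone_triangle_distinguished (f • 𝟙 F)⟩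

/-- nilpotence propagates to Koszul cones -/
lemma pow_smul_Kf_eq_zero (f g : A) (k : ℕ) (F : Cx A) (h : (g ^ k) • 𝟙 (Q.obj F) = 0) :
    (g ^ (k + k)) • 𝟙 (Q.obj (Kf f F)) = 0 := by
  obtain ⟨w, hT⟩ := exists_Kf_triangle f F
  rw [pow_add]
  refine smul_mul_eq_zero_of_triangle' _ _ _ hT (g ^ k) (g ^ k) ?_ ?_
  · rw [h, zero_comp]
  · rw [h, Functor.map_zero, comp_zero]

lemma sq_smul_Kf_eq_zero (f : A) (F : Cx A) : (f ^ (1 + 1)) • 𝟙 (Q.obj (Kf f F)) = 0 := by
  obtain ⟨w, hT⟩ := exists_Kf_triangle f F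
  rw [pow_add, pow_one]
  refine smul_mul_eq_zero_of_triangle' _ _ _ hT f f ?_ ?_
  · exact comp_distTriang_mor_zero₁₂ _ hT
  · exact comp_distTriang_mor_zero₃₁ _ hT

/-- all elements of `S` act nilpotently on `X` -/
def NilOn (S : Set A) (X : Dual.D A) : Prop := ∀ g ∈ S, ∃ k : ℕ, (g ^ k) • 𝟙 X = 0

lemma nilOn_Kfs : ∀ (fs : List A) (S : Set A) (F : Cx A), NilOn S (Q.obj F) →
    NilOn (S ∪ {x | x ∈ fs}) (Q.obj (Kfs fs F)) := by
  intro fs
  induction fs with
  | nil =>
    intro S F h g hg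
    rcases hg with hg | hg
    · exact h g hg
    · simp at hg
  | cons f fs ih =>
    intro S F h
    have h1 : NilOn (S ∪ {f}) (Q.obj (Kf f F)) := by
      intro g hg
      rcases hg with hg | hg
      · obtain ⟨k, hk⟩ := h g hg
        exact ⟨k + k, pow_smul_Kf_eq_zero f g k F hk⟩
      · obtain rfl : g = f := hg
        exact ⟨1 + 1, sq_smul_Kf_eq_zero g F⟩
    have h2 := ih (S ∪ {f}) (Kf f F) h1
    intro g hg
    apply h2 g
    rcases hg with hg | hg
    · exact Or.inl (Or.inl hg)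
    · rcases List.mem_cons.1 hg with rfl | hg
      · exact Or.inl (Or.inr rfl)
      · exact Or.inr hg

/-- the iterated Koszul cone on generators of `I` is derived `I`-complete -/
theorem isDerivedComplete_Kfs (I : Ideal A) (fs : List A) (hfs : Ideal.span {x | x ∈ fs} = I)
    (F : Cx A) : DRing.IsDerivedComplete I (Q.obj (Kfs fs F)) := by
  refine isDerivedComplete_of_pow_smul_eq_zero I {x | x ∈ fs} hfs _ (fun f hf => ?_)
  exact nilOn_Kfs fs ∅ F (fun g hg => by simp at hg) f (Or.inr hf)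

/-- **(C2)**: a completion equivalence becomes an isomorphism on iterated Koszul cones -/
theorem isIso_Q_Kfsmap (I : Ideal A) (fs : List A) (hfs : Ideal.span {x | x ∈ fs} = I)
    {F G : Cx A} (υ : F ⟶ G) (hυ : (LO I).trW (Q.map υ)) : IsIso (Q.map (Kfsmap fs υ)) := by
  have hmem : ∀ f ∈ fs, f ∈ I := fun f hf => by
    rw [← hfs]
    exact Ideal.subset_span hf
  exact isIso_of_trW_of_isDerivedComplete I _ ((trW_Kfsmap_iff I fs hmem υ).2 hυ)
    (isDerivedComplete_Kfs I fs hfs F) (isDerivedComplete_Kfs I fs hfs G)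

end Kfs

section Amp

open DerivedCategory.TStructure

lemma isDerivedComplete_Kf (I : Ideal A) (f : A) (F : Cx A)
    (hc : DRing.IsDerivedComplete I (Q.obj F)) : DRing.IsDerivedComplete I (Q.obj (Kf f F)) := by
  obtain ⟨w, hT⟩ := exists_Kf_triangle f F
  exact (DRing.IsDerivedComplete I).ext_of_isTriangulatedClosed₃ _ hT hc hc

lemma isDerivedComplete_Kfs' (I : Ideal A) : ∀ (fs : List A) (F : Cx A),
    DRing.IsDerivedComplete I (Q.obj F) → DRing.IsDerivedComplete I (Q.obj (Kfs fs F)) := by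
  intro fs
  induction fs with
  | nil => intro F h; exact h
  | cons f fs ih => intro F h; exact ih _ (isDerivedComplete_Kf I f F h)

/-- the Koszul cone lowers the lower cohomological bound by at most one -/
lemma isGE_Kf (f : A) (F : Cx A) (a : ℤ) (h : (Q.obj F).IsGE a) : (Q.obj (Kf f F)).IsGE (a - 1) := by
  obtain ⟨w, hT⟩ := exists_Kf_triangle f F
  have hr := rot_of_distTriang _ hT
  haveI := h
  have h1 : (Q.obj F).IsGE (a - 1) := t.isGE_of_ge _ (a - 1) a (by omega)
  have h3 : ((Q.obj F)⟦(1 : ℤ)⟧).IsGE (a - 1) := t.isGE_shift _ a 1 (a - 1) (by omega)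
  exact t.isGE₂ _ hr (a - 1) h1 h3

lemma isGE_Kfs : ∀ (fs : List A) (F : Cx A) (a : ℤ), (Q.obj F).IsGE a →
    (Q.obj (Kfs fs F)).IsGE (a - fs.length) := by
  intro fs
  induction fs with
  | nil =>
    intro F a h
    rw [show a - (([] : List A).length : ℤ) = a by simp]
    exact h
  | cons f fs ih =>
    intro F a h
    have := ih (Kf f F) (a - 1) (isGE_Kf f F a h)
    rw [show a - ((f :: fs).length : ℤ) = a - 1 - (fs.length : ℤ) by
      rw [List.length_cons]; push_cast; ring]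
    exact this

/-- amplitude transfer: a derived complete object whose Koszul cone lies in `D^{≥ m}` lies in
`D^{≥ m}` -/
lemma isGE_of_isGE_Kf (I : Ideal A) {f : A} (hf : f ∈ I) (F : Cx A)
    (hc : DRing.IsDerivedComplete I (Q.obj F)) (m : ℤ) (h : (Q.obj (Kf f F)).IsGE m) :
    (Q.obj F).IsGE m := by
  obtain ⟨w, hT⟩ := exists_Kf_triangle f F
  rw [DerivedCategory.isGE_iff]
  intro i hi
  refine isZero_homology_of_epi_smul I _ hc f hf i ?_
  have h1 := (HomologySequence.epi_homologyMap_mor₁_iff _ hT i).2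
    (((DerivedCategory.isGE_iff _ m).1 h i hi).eq_of_tgt _ _)
  exact h1

lemma isGE_of_isGE_Kfs (I : Ideal A) : ∀ (fs : List A), (∀ f ∈ fs, f ∈ I) → ∀ (F : Cx A),
    DRing.IsDerivedComplete I (Q.obj F) → ∀ (m : ℤ), (Q.obj (Kfs fs F)).IsGE m →
    (Q.obj F).IsGE m := by
  intro fs
  induction fs with
  | nil => intro _ F _ m h; exact h
  | cons f fs ih =>
    intro hfs F hc m h
    exact isGE_of_isGE_Kf I (hfs f List.mem_cons_self) F hc m
      (ih (fun g hg => hfs g (List.mem_cons_of_mem _ hg)) _ (isDerivedComplete_Kf I f F hc) m h)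

end Amp

end Groth.Agent.Lib.H6xDc
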