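import Mathlib
import Groth.Agent.Lib.H6xDcE
set_option backward.isDefEq.respectTransparency.types false

/-!
# helper6: cohomological amplitude of derived completion
-/

set_option autoImplicit false
set_option linter.style.haveILetI false
universe u
open CategoryTheory CategoryTheory.Limits Pretriangulated
attribute [local instance] HasDerivedCategory.standard

namespace Groth.Agent.Lib.H6xDc

open DerivedCategory CochainComplex Groth.Agent.Lib.Helper1.KF Groth.Agent.Lib.Helper1.DT
  DerivedCategory.TStructure

variable {A : Type u} [CommRing A] (I : Ideal A) [DRing.HasDerivedCompletion I]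

/-- a chain-level representative of the canonical map to the derived completion -/
lemma exists_chain_rep (K : Dual.D A) :
    ∃ (F G : Cx A) (_ : F.IsKProjective) (υ : F ⟶ G) (e : Q.obj F ≅ K)
      (e' : Q.obj G ≅ ((DRing.derivedCompletion I).obj K).obj),
      Q.map υ = e.hom ≫ DRing.toDerivedCompletion I K ≫ e'.inv ∧ (LO I).trW (Q.map υ) := by
  obtain ⟨F, hF, -, ⟨e⟩⟩ := exists_kproj_iso K
  haveI := hF
  let X := ((DRing.derivedCompletion I).obj K).obj
  let G : Cx A := Q.objPreimage X
  let e' : Q.obj G ≅ X := Q.objObjPreimageIso X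
  obtain ⟨υ, hυ⟩ := Q_map_surjective F G (e.hom ≫ DRing.toDerivedCompletion I K ≫ e'.inv)
  refine ⟨F, G, hF, υ, e, e', hυ, ?_⟩
  rw [hυ, (LO I).trW.cancel_left_of_respectsIso, (LO I).trW.cancel_right_of_respectsIso]
  exact trW_toDerivedCompletion I K

omit [DRing.HasDerivedCompletion I] in
lemma span_toList (s : Finset A) (hs : Ideal.span (s : Set A) = I) :
    Ideal.span {x | x ∈ s.toList} = I := by
  rw [← hs]
  congr 1
  ext x
  simp

/-- **lower bound**: derived completion with respect to an ideal generated by `r` elements maps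
`D^{≥ a}` to `D^{≥ a - r}` -/
theorem isGE_completion (s : Finset A) (hs : Ideal.span (s : Set A) = I) (K : Dual.D A) (a : ℤ)
    (hK : K.IsGE a) : ((DRing.derivedCompletion I).obj K).obj.IsGE (a - s.card) := by
  obtain ⟨F, G, hF, υ, e, e', hυ, hW⟩ := exists_chain_rep I K
  have hfs := span_toList I s hs
  have hmem : ∀ f ∈ s.toList, f ∈ I := fun f hf => by
    rw [← hfs]
    exact Ideal.subset_span hf
  haveI := isIso_Q_Kfsmap I s.toList hfs υ hW
  haveI := hK
  have h1 : (Q.obj F).IsGE a := t.isGE_of_iso e.symm a
  have h2 := isGE_Kfs s.toList F a h1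
  rw [Finset.length_toList] at h2
  haveI := h2
  have h3 : (Q.obj (Kfs s.toList G)).IsGE (a - s.card) :=
    t.isGE_of_iso (asIso (Q.map (Kfsmap s.toList υ))) _
  have hc : DRing.IsDerivedComplete I (Q.obj G) :=
    isDerivedComplete_of_iso I e'.symm ((DRing.derivedCompletion I).obj K).property
  haveI := isGE_of_isGE_Kfs I s.toList hmem G hc _ h3
  exact t.isGE_of_iso e' _

/-- S7832 -/
theorem amplitude_completion (r : ℕ)
    (hI : ∃ s : Finset A, s.card ≤ r ∧ Ideal.span (s : Set A) = I)
    (K : Dual.D A) (a : WithBot ℤ) (b : WithTop ℤ)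
    (hKa : ∀ i : ℤ, (i : WithBot ℤ) < a → Subsingleton (Dual.HD A K i))
    (hKb : ∀ i : ℤ, b < (i : WithTop ℤ) → Subsingleton (Dual.HD A K i)) (i : ℤ)
    (hi : ((i + r : ℤ) : WithBot ℤ) < a ∨ b < (i : WithTop ℤ)) :
    Subsingleton (Dual.HD A ((DRing.derivedCompletion I).obj K).obj i) := by
  obtain ⟨s, hsr, hs⟩ := hI
  rcases hi with hi | hi
  · induction a using WithBot.recBotCoe with
    | bot => exact absurd hi (not_lt_bot)
    | coe a₀ =>
      have hK : K.IsGE a₀ := by
        rw [DerivedCategory.isGE_iff]
        intro j hj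
        haveI := hKa j (by exact_mod_cast hj)
        exact ModuleCat.isZero_of_subsingleton _
      have h1 := isGE_completion I s hs K a₀ hK
      have hi' : i + r < a₀ := by exact_mod_cast hi
      have hc : (s.card : ℤ) ≤ r := by exact_mod_cast hsr
      exact ModuleCat.subsingleton_of_isZero
        ((DerivedCategory.isGE_iff _ _).1 h1 i (by omega))
  · induction b using WithTop.recTopCoe with
    | top => exact absurd hi (not_top_lt)
    | coe b₀ =>
      haveI hK : K.IsLE b₀ := by
        rw [DerivedCategory.isLE_iff]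
        intro j hj
        haveI := hKb j (by exact_mod_cast hj)
        exact ModuleCat.isZero_of_subsingleton _
      have h1 := isLE_completion I K b₀
      have hi' : b₀ < i := by exact_mod_cast hi
      exact ModuleCat.subsingleton_of_isZero
        ((DerivedCategory.isLE_iff _ _).1 h1 i hi')

attribute [local instance] commShiftDC in
/-- S7092 -/
theorem completion_map_homology_neg (s : Finset A) (hs : Ideal.span (s : Set A) = I)
    {K L : Dual.D A} (φ : K ⟶ L)
    (hiso : ∀ i : ℤ, i ≤ -1 → IsIso ((homologyFunctor (ModuleCat.{u} A) i).map φ))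
    (hmono : Mono ((homologyFunctor (ModuleCat.{u} A) 0).map φ)) :
    (∀ i : ℤ, i ≤ -(s.card : ℤ) - 1 → IsIso ((homologyFunctor (ModuleCat.{u} A) i).map
        ((DRing.derivedCompletion I).map φ).hom)) ∧
      Mono ((homologyFunctor (ModuleCat.{u} A) (-(s.card : ℤ))).map
        ((DRing.derivedCompletion I).map φ).hom) := by
  obtain ⟨C, q, r, hT⟩ := distinguished_cocone_triangle φ
  have hC : C.IsGE 0 := by
    rw [DerivedCategory.isGE_iff]
    intro i hi
    have hepi : Epi ((homologyFunctor (ModuleCat.{u} A) i).map φ) := by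
      haveI := hiso i (by omega)
      infer_instance
    have hmono' : Mono ((homologyFunctor (ModuleCat.{u} A) (i + 1)).map φ) := by
      rcases (show i + 1 ≤ 0 by omega).eq_or_lt with h | h
      · rw [h]
        exact hmono
      · haveI := hiso (i + 1) (by omega)
        infer_instance
    have e1 := (HomologySequence.epi_homologyMap_mor₁_iff _ hT i).1 hepi
    have e2 := (HomologySequence.mono_homologyMap_mor₁_iff _ hT i (i + 1) rfl).1 hmono'
    have ex := HomologySequence.exact₃ _ hT i (i + 1) rfl
    exact ex.isZero_of_both_zeros e1 e2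
  haveI := isTriangulated_derivedCompletion I
  have hT' := (DRing.derivedCompletion I ⋙
    ObjectProperty.ι (DRing.IsDerivedComplete I)).map_distinguished _ hT
  have hC' : ((DRing.derivedCompletion I).obj C).obj.IsGE (0 - s.card) :=
    isGE_completion I s hs C 0 hC
  have hz : ∀ j : ℤ, j < 0 - (s.card : ℤ) → IsZero ((homologyFunctor (ModuleCat.{u} A) j).obj
      ((DRing.derivedCompletion I).obj C).obj) := (DerivedCategory.isGE_iff _ _).1 hC'
  have hepi : ∀ i : ℤ, i < 0 - (s.card : ℤ) → Epi ((homologyFunctor (ModuleCat.{u} A) i).map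
      ((DRing.derivedCompletion I).map φ).hom) := by
    intro i hi
    refine (HomologySequence.epi_homologyMap_mor₁_iff _ hT' i).2 ?_
    exact (hz i hi).eq_of_tgt _ _
  have hmono' : ∀ i : ℤ, i ≤ 0 - (s.card : ℤ) → Mono ((homologyFunctor (ModuleCat.{u} A) i).map
      ((DRing.derivedCompletion I).map φ).hom) := by
    intro i hi
    refine (HomologySequence.mono_homologyMap_mor₁_iff _ hT' (i - 1) i (by omega)).2 ?_
    exact (hz (i - 1) (by omega)).eq_of_src _ _
  refine ⟨fun i hi => ?_, hmono' _ (by omega)⟩
  haveI := hepi i (by omega)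
  haveI := hmono' i (by omega)
  exact isIso_of_mono_of_epi _

end Groth.Agent.Lib.H6xDc
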