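import Mathlib
import Groth.Agent.Lib.H6xDcF
set_option backward.isDefEq.respectTransparency.types false

/-!
# helper6: object-level Koszul criterion for the left orthogonal of derived complete objects,
and its stability under `N ⊗ -`
-/

set_option autoImplicit false
set_option linter.style.haveILetI false
universe u
open CategoryTheory CategoryTheory.Limits Pretriangulated MonoidalCategory
attribute [local instance] HasDerivedCategory.standard

namespace Groth.Agent.Lib.H6xDc

open DerivedCategory CochainComplex Groth.Agent.Lib.Helper1.KF Groth.Agent.Lib.Helper1.DT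
  Groth.Agent.Lib.Helper1.Tor Groth.Agent.Lib.Helper1.TorM Groth.Agent.Lib.Helper1.LDer
  DerivedCategory.TStructure

variable {A : Type u} [CommRing A]

section Obj

variable (I : Ideal A)

lemma LO_Kf (f : A) (Z : Cx A) (h : LO I (Q.obj Z)) : LO I (Q.obj (Kf f Z)) := by
  obtain ⟨w, hT⟩ := exists_Kf_triangle f Z
  exact (LO I).ext_of_isTriangulatedClosed₃ _ hT h h

lemma LO_Kfs : ∀ (fs : List A) (Z : Cx A), LO I (Q.obj Z) → LO I (Q.obj (Kfs fs Z)) := by
  intro fs
  induction fs with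
  | nil => intro Z h; exact h
  | cons f fs ih => intro Z h; exact ih _ (LO_Kf I f Z h)

/-- **(O1)** -/
theorem isZero_Q_Kfs_of_LO (fs : List A) (hfs : Ideal.span {x | x ∈ fs} = I) (Z : Cx A)
    (h : LO I (Q.obj Z)) : IsZero (Q.obj (Kfs fs Z)) :=
  isZero_of_LO_of_isDerivedComplete I _ (LO_Kfs I fs Z h) (isDerivedComplete_Kfs I fs hfs Z)

/-- **(O3)** -/
theorem LO_of_isZero_Q_Kfs : ∀ (fs : List A), (∀ f ∈ fs, f ∈ I) → ∀ (Y : Cx A),
    IsZero (Q.obj (Kfs fs Y)) → LO I (Q.obj Y) := by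
  intro fs
  induction fs with
  | nil =>
    intro _ Y h E g _
    exact h.eq_of_src _ _
  | cons f fs ih =>
    intro hfs Y h
    have h1 : LO I (Q.obj (Kf f Y)) := ih (fun g hg => hfs g (List.mem_cons_of_mem _ hg)) _ h
    obtain ⟨w, hT⟩ := exists_Kf_triangle f Y
    exact (trW_smul_iff I (hfs f List.mem_cons_self) _).1 ⟨_, _, _, hT, h1⟩

lemma kflat_Kf (f : A) (Z : Cx A) (h : KFlat Z) : KFlat (Kf f Z) := KFlat.cone _ h h

lemma kflat_Kfs : ∀ (fs : List A) (Z : Cx A), KFlat Z → KFlat (Kfs fs Z) := by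
  intro fs
  induction fs with
  | nil => intro Z h; exact h
  | cons f fs ih => intro Z h; exact ih _ (kflat_Kf f Z h)

end Obj

section Iso

lemma Kfmap_id (f : A) (F : Cx A) : Kfmap f (𝟙 F) = 𝟙 (Kf f F) := mappingCone.map_id _

lemma Kfmap_comp (f : A) {F G H : Cx A} (a : F ⟶ G) (b : G ⟶ H) :
    Kfmap f (a ≫ b) = Kfmap f a ≫ Kfmap f b :=
  mappingCone.map_comp _ _ _ _ _ _ _ _ _

/-- `Kf` on isomorphisms -/
noncomputable def KfIso (f : A) {F G : Cx A} (e : F ≅ G) : Kf f F ≅ Kf f G where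
  hom := Kfmap f e.hom
  inv := Kfmap f e.inv
  hom_inv_id := by rw [← Kfmap_comp, e.hom_inv_id, Kfmap_id]
  inv_hom_id := by rw [← Kfmap_comp, e.inv_hom_id, Kfmap_id]

/-- `Kfs` on isomorphisms -/
noncomputable def KfsIso : (fs : List A) → {F G : Cx A} → (F ≅ G) → (Kfs fs F ≅ Kfs fs G)
  | [], _, _, e => e
  | f :: fs, _, _, e => KfsIso fs (KfIso f e)

/-- mapping cones of equal morphisms -/
noncomputable def mappingConeCongr {F G : Cx A} {φ φ' : F ⟶ G} (h : φ = φ') :
    mappingCone φ ≅ mappingCone φ' := eqToIso (by rw [h])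

/-- `N ⊗ Kf f F ≅ Kf f (N ⊗ F)` -/
noncomputable def TCKfIso (N : ModuleCat.{u} A) (f : A) (F : Cx A) :
    (TC N).obj (Kf f F) ≅ Kf f ((TC N).obj F) :=
  mappingCone.mapHomologicalComplexIso (f • 𝟙 F) (tensorLeft N) ≪≫
    mappingConeCongr (TC_map_smul N F f)

/-- `N ⊗ Kfs fs F ≅ Kfs fs (N ⊗ F)` -/
noncomputable def TCKfsIso (N : ModuleCat.{u} A) : (fs : List A) → (F : Cx A) →
    ((TC N).obj (Kfs fs F) ≅ Kfs fs ((TC N).obj F))
  | [], _ => Iso.refl _
  | f :: fs, F => TCKfsIso N fs (Kf f F) ≪≫ KfsIso fs (TCKfIso N f F)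

end Iso

section Tensor

variable (I : Ideal A)

/-- **(O-chain)**: the left orthogonal of the derived complete objects is stable under
`N ⊗ -` on K-flat complexes -/
theorem LO_TC (s : Finset A) (hs : Ideal.span (s : Set A) = I) (N : ModuleCat.{u} A) (Z : Cx A)
    (hZ : KFlat Z) (h : LO I (Q.obj Z)) : LO I (Q.obj ((TC N).obj Z)) := by
  have hfs := span_toList I s hs
  have hmem : ∀ f ∈ s.toList, f ∈ I := fun f hf => by
    rw [← hfs]
    exact Ideal.subset_span hf
  have h1 := isZero_Q_Kfs_of_LO I s.toList hfs Z h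
  have h2 : Acyc (Kfs s.toList Z) := fun i => by
    rw [← HomologicalComplex.exactAt_iff_isZero_homology]
    exact exactAt_of_isZero_Q _ h1 i
  have h3 : Acyc ((TC N).obj (Kfs s.toList Z)) :=
    acyc_TCx_of_kflat_of_acyc (kflat_Kfs s.toList Z hZ) h2 N
  have h4 : Acyc (Kfs s.toList ((TC N).obj Z)) := Acyc.of_iso (TCKfsIso N s.toList Z) h3
  refine LO_of_isZero_Q_Kfs I s.toList hmem _ (isZero_Q_of_exactAt _ (fun j => ?_))
  rw [HomologicalComplex.exactAt_iff_isZero_homology]
  exact h4 j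

/-- a chain-level representative of the canonical map to the derived completion, between
K-projective complexes -/
lemma exists_chain_rep' [DRing.HasDerivedCompletion I] (K : Dual.D A) :
    ∃ (F G : Cx A) (_ : F.IsKProjective) (_ : G.IsKProjective) (υ : F ⟶ G) (e : Q.obj F ≅ K)
      (e' : Q.obj G ≅ ((DRing.derivedCompletion I).obj K).obj),
      Q.map υ = e.hom ≫ DRing.toDerivedCompletion I K ≫ e'.inv ∧ (LO I).trW (Q.map υ) := by
  obtain ⟨F, hF, -, ⟨e⟩⟩ := exists_kproj_iso K
  haveI := hF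
  obtain ⟨G, hG, -, ⟨e'⟩⟩ := exists_kproj_iso ((DRing.derivedCompletion I).obj K).obj
  obtain ⟨υ, hυ⟩ := Q_map_surjective F G (e.hom ≫ DRing.toDerivedCompletion I K ≫ e'.inv)
  refine ⟨F, G, hF, hG, υ, e, e', hυ, ?_⟩
  rw [hυ, (LO I).trW.cancel_left_of_respectsIso, (LO I).trW.cancel_right_of_respectsIso]
  exact trW_toDerivedCompletion I K

/-- `- ⊗^L M` preserves the completion equivalence `K → K^` -/
theorem trW_LTensor_map_toDerivedCompletion [DRing.HasDerivedCompletion I] (s : Finset A)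
    (hs : Ideal.span (s : Set A) = I) (M : ModuleCat.{u} A) [DRing.HasLTensor A M]
    (K : Dual.D A) :
    (LO I).trW ((DRing.LTensor A M).map (DRing.toDerivedCompletion I K)) := by
  obtain ⟨F, G, hF, hG, υ, e, e', hυ, hW⟩ := exists_chain_rep' I K
  haveI := hF
  haveI := hG
  have h1 : DRing.toDerivedCompletion I K = e.inv ≫ Q.map υ ≫ e'.hom := by
    rw [hυ]
    simp
  have hcone : LO I (Q.obj (mappingCone υ)) :=
    ((LO I).trW_iff_of_distinguished _ (mappingCone_triangle_distinguished υ)).1 hW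
  have hK : KFlat (mappingCone υ) :=
    KFlat.cone υ (kflat_of_isKProjective F) (kflat_of_isKProjective G)
  have h2 : LO I (Q.obj ((TC M).obj (mappingCone υ))) := LO_TC I s hs M _ hK hcone
  have h3 : LO I (Q.obj (mappingCone ((TC M).map υ))) :=
    (LO I).prop_of_iso (Q.mapIso (mappingCone.mapHomologicalComplexIso υ (tensorLeft M))) h2
  have h4 : (LO I).trW (Q.map ((TC M).map υ)) :=
    ⟨_, _, _, mappingCone_triangle_distinguished ((TC M).map υ), h3⟩
  have h5 : (LO I).trW (Q.map ((tCx M).map υ)) := by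
    have hn : (tCx M).map υ = ((tCxIsoTC M).app F).hom ≫ (TC M).map υ ≫
        ((tCxIsoTC M).app G).inv := by
      rw [Iso.app_inv, Iso.app_hom, ← (tCxIsoTC M).hom.naturality_assoc υ, Iso.hom_inv_id_app,
        Category.comp_id]
    rw [hn, Functor.map_comp, Functor.map_comp, (LO I).trW.cancel_left_of_respectsIso,
      (LO I).trW.cancel_right_of_respectsIso]
    exact h4
  have h6 : (LO I).trW ((DRing.LTensor A M).map (Q.map υ)) := by
    have hn : (DRing.LTensor A M).map (Q.map υ) =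
        (ltIso M F).hom ≫ Q.map ((tCx M).map υ) ≫ (ltIso M G).inv := by
      rw [← Category.assoc, ← ltIso_hom_naturality, Category.assoc, Iso.hom_inv_id,
        Category.comp_id]
    rw [hn, (LO I).trW.cancel_left_of_respectsIso, (LO I).trW.cancel_right_of_respectsIso]
    exact h5
  rw [h1, Functor.map_comp, Functor.map_comp, (LO I).trW.cancel_left_of_respectsIso,
    (LO I).trW.cancel_right_of_respectsIso]
  exact h6

end Tensor

end Groth.Agent.Lib.H6xDc
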