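import Mathlib
import Groth.Agent.Lib.H6xDcG
set_option backward.isDefEq.respectTransparency.types false

/-!
# helper6: `K ⊗^L M` is derived complete for `K` derived complete and bounded above and `M` a finite
module over a Noetherian ring
-/

set_option autoImplicit false
set_option linter.style.haveILetI false
universe u
open CategoryTheory CategoryTheory.Limits Pretriangulated MonoidalCategory
attribute [local instance] HasDerivedCategory.standard

namespace Groth.Agent.Lib.H6xDc

open DerivedCategory CochainComplex Groth.Agent.Lib.Helper1.KF Groth.Agent.Lib.Helper1.DT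
  Groth.Agent.Lib.Helper1.Tor Groth.Agent.Lib.Helper1.TorM Groth.Agent.Lib.Helper1.TorN
  Groth.Agent.Lib.Helper1.LDer Groth.Agent.Lib.Helper10.DerComplete DerivedCategory.TStructure

variable {A : Type u} [CommRing A]

section Free

/-- `a ↦ (a, 0, …, 0)` -/
def ιf (n : ℕ) : A →ₗ[A] (Fin (n + 1) → A) where
  toFun a := Fin.cons a 0
  map_add' a b := by
    funext i
    refine Fin.cases ?_ (fun j => ?_) i <;> simp
  map_smul' c a := by
    funext i
    refine Fin.cases ?_ (fun j => ?_) i <;> simp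

/-- `(a₀, a₁, …, aₙ) ↦ (a₁, …, aₙ)` -/
def πf (n : ℕ) : (Fin (n + 1) → A) →ₗ[A] (Fin n → A) where
  toFun g := Fin.tail g
  map_add' a b := rfl
  map_smul' c a := rfl

lemma πf_ιf (n : ℕ) (a : A) : πf n (ιf n a) = 0 := by
  funext i
  change Fin.tail (Fin.cons a 0 : Fin (n + 1) → A) i = 0
  rw [Fin.tail_cons]
  rfl

lemma exact_ιf_πf (n : ℕ) : Function.Exact (ιf (A := A) n) (πf n) := by
  intro g
  constructor
  · intro hg
    refine ⟨g 0, ?_⟩
    have h1 : Fin.tail g = 0 := hg
    change (Fin.cons (g 0) 0 : Fin (n + 1) → A) = g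
    rw [← h1]
    exact Fin.cons_self_tail g
  · rintro ⟨a, rfl⟩
    exact πf_ιf n a

lemma injective_ιf (n : ℕ) : Function.Injective (ιf (A := A) n) := fun a b h => by
  have := congrFun h 0
  simpa [ιf] using this

lemma surjective_πf (n : ℕ) : Function.Surjective (πf (A := A) n) := fun g =>
  ⟨Fin.cons 0 g, Fin.tail_cons (α := fun _ => A) 0 g⟩

/-- `0 → A → A^{n+1} → A^n → 0` -/
noncomputable def Sfree (n : ℕ) : ShortComplex (ModuleCat.{u} A) :=
  ShortComplex.mk
    (ModuleCat.ofHom (ιf n) : ModuleCat.of A A ⟶ ModuleCat.of A (Fin (n + 1) → A))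
    (ModuleCat.ofHom (πf n) : ModuleCat.of A (Fin (n + 1) → A) ⟶ ModuleCat.of A (Fin n → A))
    (ModuleCat.hom_ext (LinearMap.ext fun a => πf_ιf n a))

lemma Sfree_shortExact (n : ℕ) : (Sfree (A := A) n).ShortExact := by
  have h1 : Function.Exact (ιf (A := A) n) (πf n) := exact_ιf_πf n
  have h2 : Function.Injective (ιf (A := A) n) := injective_ιf n
  have h3 : Function.Surjective (πf (A := A) n) := surjective_πf n
  exact ModuleCat.shortComplex_shortExact (Sfree (A := A) n) h1 h2 h3

end Free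

section Tower

variable (I : Ideal A)

/-- `T M = Q (M ⊗ P)` -/
noncomputable abbrev TT (P : Cx A) (M : ModuleCat.{u} A) : Dual.D A := Q.obj ((TC M).obj P)

lemma TT_dist (P : Cx A) (hP : DRing.TermwiseFlat P) (S : ShortComplex (ModuleCat.{u} A))
    (hS : S.ShortExact) :
    ∃ δ : TT P S.X₃ ⟶ (TT P S.X₁)⟦(1 : ℤ)⟧,
      Triangle.mk (Q.map ((TCmap S.f).app P)) (Q.map ((TCmap S.g).app P)) δ ∈
        distTriang (Dual.D A) :=
  ⟨_, triangleOfSES_distinguished (TCshort_shortExact S hS P hP)⟩

lemma isDerivedComplete_TT_of_subsingleton (P : Cx A) (N : ModuleCat.{u} A) [Subsingleton N] :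
    DRing.IsDerivedComplete I (TT P N) := by
  apply ObjectProperty.prop_of_isZero
  exact isZero_Q_of_exactAt _ (fun j => exactAt_TC_of_subsingleton N P j)

lemma isDerivedComplete_TT_free (P : Cx A) (hP : DRing.TermwiseFlat P)
    (hc : DRing.IsDerivedComplete I (Q.obj P)) (n : ℕ) :
    DRing.IsDerivedComplete I (TT P (ModuleCat.of A (Fin n → A))) := by
  induction n with
  | zero =>
    haveI : Subsingleton (ModuleCat.of A (Fin 0 → A)) :=
      inferInstanceAs (Subsingleton (Fin 0 → A))
    exact isDerivedComplete_TT_of_subsingleton I P _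
  | succ n ih =>
    obtain ⟨δ, hδ⟩ := TT_dist P hP (Sfree (A := A) n) (Sfree_shortExact n)
    have h1 : DRing.IsDerivedComplete I (TT P (Sfree (A := A) n).X₁) :=
      (DRing.IsDerivedComplete I).prop_of_iso (Q.mapIso (TCunitIso P)).symm hc
    exact (DRing.IsDerivedComplete I).ext_of_isTriangulatedClosed₂ _ hδ h1 ih

lemma isLE_TT (P : Cx A) (hK : KFlat P) (b : ℤ) [(Q.obj P).IsLE b] (M : ModuleCat.{u} A) :
    (TT P M).IsLE b := by
  have hle : ∀ i : ℤ, b < i → P.ExactAt i := fun i hi => by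
    rw [exactAt_iff_isZero_H]
    exact (DerivedCategory.isLE_iff (Q.obj P) b).1 inferInstance i hi
  rw [DerivedCategory.isLE_iff]
  intro i hi
  have h1 := exactAt_TC_of_exactAt_above P hK b hle M i hi
  rw [exactAt_iff_isZero_H] at h1
  exact h1

theorem tower [IsNoetherianRing A] (P : Cx A) (hP : DRing.TermwiseFlat P) (hK : KFlat P)
    (hc : DRing.IsDerivedComplete I (Q.obj P)) (b : ℤ) [(Q.obj P).IsLE b] :
    ∀ (N : ℕ) (M : Type u) [AddCommGroup M] [Module A M] [Module.Finite A M],
      ∃ (Y : Dual.D A) (β : TT P (ModuleCat.of A M) ⟶ Y),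
        (DRing.IsDerivedComplete I).trW β ∧ Y.IsLE (b - N) := by
  intro N
  induction N with
  | zero =>
    intro M _ _ _
    refine ⟨_, 𝟙 _, MorphismProperty.id_mem _ _, ?_⟩
    haveI := isLE_TT P hK b (ModuleCat.of A M)
    exact DerivedCategory.TStructure.t.isLE_of_le _ b _ (by simp)
  | succ N ih =>
    intro M _ _ _
    obtain ⟨n, p, hp⟩ := Module.Finite.exists_fin' A M
    obtain ⟨δ, hδ⟩ := TT_dist P hP p.shortComplexKer (LinearMap.shortExact_shortComplexKer hp)
    obtain ⟨Y₁, β₁, hβ₁, hY₁⟩ := ih (LinearMap.ker p)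
    have h2 : DRing.IsDerivedComplete I (TT P (ModuleCat.of A (Fin n → A))) :=
      isDerivedComplete_TT_free I P hP hc n
    have hδW : (DRing.IsDerivedComplete I).trW δ :=
      ObjectProperty.trW.mk' (DRing.IsDerivedComplete I) (T := (Triangle.mk (Q.map ((TCmap p.shortComplexKer.g).app P)) δ
        (-(Q.map ((TCmap p.shortComplexKer.f).app P))⟦(1 : ℤ)⟧'))) (rot_of_distTriang _ hδ) h2
    refine ⟨Y₁⟦(1 : ℤ)⟧, δ ≫ β₁⟦(1 : ℤ)⟧', MorphismProperty.comp_mem _ _ _ hδW (hβ₁.shift 1), ?_⟩
    exact DerivedCategory.TStructure.t.isLE_shift Y₁ (b - N) 1 _ (by push_cast; omega)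

theorem isDerivedComplete_TT [IsNoetherianRing A] (P : Cx A) (hP : DRing.TermwiseFlat P)
    (hK : KFlat P) (hc : DRing.IsDerivedComplete I (Q.obj P)) (b : ℤ) [(Q.obj P).IsLE b]
    (M : Type u) [AddCommGroup M] [Module A M] [Module.Finite A M] :
    DRing.IsDerivedComplete I (TT P (ModuleCat.of A M)) := by
  rw [isDerivedComplete_iff_forall_crit]
  intro f hf i
  obtain ⟨Y, β, hβ, hY⟩ := tower I P hP hK hc b (b - i + 2).toNat M
  rw [ObjectProperty.trW_iff'] at hβ
  obtain ⟨X, g, h, hT, hX⟩ := hβ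
  have hYle : ∀ j : ℤ, i - 1 ≤ j →
      IsZero ((homologyFunctor (ModuleCat.{u} A) j).obj Y) := fun j hj =>
    (DerivedCategory.isLE_iff Y _).1 hY j (by
      have := Int.self_le_toNat (b - i + 2)
      omega)
  have hepi : Epi ((homologyFunctor (ModuleCat.{u} A) i).map g) :=
    (HomologySequence.epi_homologyMap_mor₁_iff _ hT i).2 ((hYle i (by omega)).eq_of_tgt _ _)
  have hmono : Mono ((homologyFunctor (ModuleCat.{u} A) i).map g) :=
    (HomologySequence.mono_homologyMap_mor₁_iff _ hT (i - 1) i (by omega)).2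
      ((hYle (i - 1) le_rfl).eq_of_src _ _)
  haveI : IsIso ((homologyFunctor (ModuleCat.{u} A) i).map g) := isIso_of_mono_of_epi _
  have hcrit : Crit f (Dual.HD A X i) := (isDerivedComplete_iff_forall_crit I X).1 hX f hf i
  exact hcrit.of_linearEquiv (asIso ((homologyFunctor (ModuleCat.{u} A) i).map g)).toLinearEquiv

/-- **`- ⊗^L M` preserves bounded above derived complete objects** when `M` is a finite module over
a Noetherian ring -/
theorem isDerivedComplete_LTensor_finite [IsNoetherianRing A] (M : Type u) [AddCommGroup M]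
    [Module A M] [Module.Finite A M] [DRing.HasLTensor A (ModuleCat.of A M)] (X : Dual.D A)
    (hX : DRing.IsDerivedComplete I X) (b : ℤ) [X.IsLE b] :
    DRing.IsDerivedComplete I ((DRing.LTensor A (ModuleCat.of A M)).obj X) := by
  obtain ⟨P, hP, hproj, ⟨e⟩⟩ := exists_kproj_iso X
  haveI := hP
  have hPf : DRing.TermwiseFlat P := fun i =>
    have := hproj i
    have : Module.Projective A (P.X i) := ModuleCat.projective_of_module_projective _
    inferInstance
  haveI : (Q.obj P).IsLE b := DerivedCategory.TStructure.t.isLE_of_iso e.symm b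
  have hc : DRing.IsDerivedComplete I (Q.obj P) :=
    (DRing.IsDerivedComplete I).prop_of_iso e.symm hX
  have h1 := isDerivedComplete_TT I P hPf (kflat_of_isKProjective P) hc b M
  exact (DRing.IsDerivedComplete I).prop_of_iso
    ((DRing.LTensor A (ModuleCat.of A M)).mapIso e.symm ≪≫ ltIso (ModuleCat.of A M) P ≪≫
      Q.mapIso ((tCxIsoTC (ModuleCat.of A M)).app P)).symm h1

end Tower

end Groth.Agent.Lib.H6xDc
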