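import Mathlib
import Groth.Agent.Lib.H6xFgC
import Groth.Agent.Lib.H6xDCompZero
import Groth.Agent.Lib.H6xBCB
import Groth.Agent.Lib.H6xPCDescB
import Groth.Agent.Lib.H6xHasLDerRing
set_option backward.isDefEq.respectTransparency.types false

/-!
# helper6: no maps from an `f`-power torsion module to a complex on which `f` is invertible
-/

set_option autoImplicit false
set_option linter.style.haveILetI false
universe u
open CategoryTheory CategoryTheory.Limits
attribute [local instance] HasDerivedCategory.standard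

namespace Groth.Agent.Lib.H6xFg

open Groth.Agent.Lib.Helper1.Extend TensorProduct DerivedCategory

section W1

variable {R : Type u} [CommRing R] (f : R)

lemma subsingleton_away_tensor (M : Type u) [AddCommGroup M] [Module R M] (hM : IsTors f M) :
    Subsingleton (Localization.Away f ⊗[R] M) := by
  have hf : IsUnit (algebraMap R (Localization.Away f) f) :=
    IsLocalization.Away.algebraMap_isUnit f
  refine ⟨fun x y => ?_⟩
  suffices h : ∀ z : Localization.Away f ⊗[R] M, z = 0 by rw [h x, h y]
  intro z
  induction z using TensorProduct.induction_on with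
  | zero => rfl
  | tmul b m =>
    obtain ⟨n, hn⟩ := hM m
    have h1 : b = f ^ n • ((↑(hf.unit⁻¹ ^ n) : Localization.Away f) * b) := by
      rw [Algebra.smul_def, map_pow, ← mul_assoc]
      have : algebraMap R (Localization.Away f) f ^ n * ↑(hf.unit⁻¹ ^ n) = 1 := by
        rw [Units.val_pow_eq_pow_val, ← mul_pow]
        have : algebraMap R (Localization.Away f) f * ↑(hf.unit⁻¹) = 1 := by
          exact hf.mul_val_inv
        rw [this, one_pow]
      rw [this, one_mul]
    rw [h1, TensorProduct.smul_tmul, hn, TensorProduct.tmul_zero]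
  | add x y hx hy => rw [hx, hy, add_zero]

/-- **(W1)** -/
theorem subsingleton_hom_of_isTors_of_bijective (M : Type u) [AddCommGroup M] [Module R M]
    (hM : IsTors f M) (K : DRing.Cx R)
    (hK : ∀ i : ℤ, Function.Bijective (fun x : K.X i => f • x)) (i : ℤ) :
    Subsingleton (Dual.inD R M ⟶ (Q.obj K)⟦i⟧) := by
  haveI := Groth.Agent.Lib.H6xDCompZero.isIso_locCx f K hK
  let B := Localization.Away f
  let K' : CochainComplex (ModuleCat.{u} B) ℤ :=
    ((ModuleCat.localizedModuleFunctor (Submonoid.powers f)).mapHomologicalComplex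
      (ComplexShape.up ℤ)).obj K
  let e : Q.obj K ≅ (DRing.restrictD (algebraMap R B)).obj (Q.obj K') :=
    asIso (Q.map (Groth.Agent.Lib.H6xDCompZero.locCx f K)) ≪≫
      ((ModuleCat.restrictScalars.{u} (algebraMap R B)).mapDerivedCategoryFactors.app K').symm
  let e' : (Q.obj K)⟦i⟧ ≅ (DRing.restrictD (algebraMap R B)).obj ((Q.obj K')⟦i⟧) :=
    (shiftFunctor (Dual.D R) i).mapIso e ≪≫
      (((DRing.restrictD (algebraMap R B)).commShiftIso i).app (Q.obj K')).symm
  haveI : DRing.HasLBaseChange (algebraMap R B) :=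
    Groth.Agent.Lib.H6xHasLDerRing.hasLBaseChange _
  obtain ⟨adj, -, -⟩ := Groth.Agent.Lib.H6xBC.exists_adj (algebraMap R B)
  obtain ⟨e1⟩ := Groth.Agent.Lib.H6xPCDesc.nonempty_lbc_iso_extD (A := R) (B := B) (Dual.inD R M)
  let e2 : (DRing.LBaseChange (algebraMap R B)).obj (Dual.inD R M) ≅ Dual.inD B (B ⊗[R] M) :=
    e1 ≪≫ extDInDIso M
  haveI := subsingleton_away_tensor f M hM
  have hz : IsZero (Dual.inD B (B ⊗[R] M)) :=
    (DerivedCategory.singleFunctor (ModuleCat.{u} B) 0).map_isZero
      (ModuleCat.isZero_of_subsingleton _)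
  have hz' : IsZero ((DRing.LBaseChange (algebraMap R B)).obj (Dual.inD R M)) := hz.of_iso e2
  refine ⟨fun g h => ?_⟩
  apply (cancel_mono e'.hom).1
  apply (adj.homEquiv _ _).symm.injective
  exact hz'.eq_of_src _ _

end W1

end Groth.Agent.Lib.H6xFg
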