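import Mathlib
import Groth.Agent.Lib.H6xFgD
import Groth.Agent.Lib.H6xPCevB
import Groth.Agent.Lib.H6xDualF
set_option backward.isDefEq.respectTransparency.types false

/-!
# helper6: triangle lemmas for torsion and orthogonality
-/

set_option autoImplicit false
set_option linter.style.haveILetI false
universe u
open CategoryTheory CategoryTheory.Limits Pretriangulated
attribute [local instance] HasDerivedCategory.standard

namespace Groth.Agent.Lib.H6xFg

open DerivedCategory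

section Tri

variable {R : Type u} [CommRing R]

/-- `g`-power torsion of the cohomology of the first vertex of a triangle -/
lemma tors_of_triangle (g : R) (T : Triangle (Dual.D R)) (hT : T ∈ distTriang _) (j₀ j : ℤ)
    (hj : j₀ + 1 = j)
    (h1 : ∀ y : (homologyFunctor (ModuleCat.{u} R) j).obj T.obj₂,
      ((homologyFunctor (ModuleCat.{u} R) j).map T.mor₂).hom y = 0 → ∃ n : ℕ, g ^ n • y = 0)
    (h2 : ∀ z : (homologyFunctor (ModuleCat.{u} R) j₀).obj T.obj₃, ∃ (n : ℕ)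
      (w : (homologyFunctor (ModuleCat.{u} R) j₀).obj T.obj₂),
      g ^ n • z = ((homologyFunctor (ModuleCat.{u} R) j₀).map T.mor₂).hom w) :
    IsTors g ((homologyFunctor (ModuleCat.{u} R) j).obj T.obj₁) := by
  intro x
  have hx : ((homologyFunctor (ModuleCat.{u} R) j).map T.mor₂).hom
      (((homologyFunctor (ModuleCat.{u} R) j).map T.mor₁).hom x) = 0 := by
    rw [← ModuleCat.comp_apply, ← Functor.map_comp, comp_distTriang_mor_zero₁₂ T hT,
      Functor.map_zero]
    rfl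
  obtain ⟨n, hn⟩ := h1 _ hx
  have hn' : ((homologyFunctor (ModuleCat.{u} R) j).map T.mor₁).hom (g ^ n • x) = 0 := by
    rw [map_smul, hn]
  obtain ⟨z, hz⟩ := (ShortComplex.moduleCat_exact_iff _).1
    (HomologySequence.exact₁ T hT j₀ j hj) (g ^ n • x) hn'
  obtain ⟨m, w, hw⟩ := h2 z
  refine ⟨m + n, ?_⟩
  have h3 : (HomologySequence.δ T j₀ j hj).hom (g ^ m • z) = 0 := by
    rw [hw, ← ModuleCat.comp_apply, HomologySequence.comp_δ T hT j₀ j hj]
    rfl
  rw [pow_add, mul_smul]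
  change g ^ m • g ^ n • x = 0
  rw [← hz]
  change g ^ m • (HomologySequence.δ T j₀ j hj).hom z = 0
  rw [← map_smul]
  exact h3

/-- no maps from `M[0]` to any shift of `W` -/
def Orth (M : Type u) [AddCommGroup M] [Module R M] (W : Dual.D R) : Prop :=
  ∀ i : ℤ, Subsingleton (Dual.inD R M ⟶ W⟦i⟧)

variable (M : Type u) [AddCommGroup M] [Module R M]

lemma Orth.of_iso {W W' : Dual.D R} (h : Orth M W) (e : W ≅ W') : Orth M W' := fun i => by
  haveI := h i
  exact ((Linear.homCongr R (Iso.refl (Dual.inD R M))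
    ((shiftFunctor (Dual.D R) i).mapIso e)).symm).toEquiv.subsingleton

lemma Orth.shift {W : Dual.D R} (h : Orth M W) (n : ℤ) : Orth M (W⟦n⟧) := fun i => by
  haveI := h (n + i)
  let e : W⟦n⟧⟦i⟧ ≅ W⟦n + i⟧ := ((shiftFunctorAdd' (Dual.D R) n i (n + i) rfl).app W).symm
  exact ((Linear.homCongr R (Iso.refl (Dual.inD R M)) e).toEquiv).subsingleton

/-- a triangle whose third vertex is orthogonal to `M[0]` induces bijections on maps from
`M[0]` -/
lemma nonempty_addEquiv_of_triangle (T : Triangle (Dual.D R)) (hT : T ∈ distTriang _)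
    (h3 : Orth M T.obj₃) (i : ℤ) :
    Nonempty ((Dual.inD R M ⟶ T.obj₁⟦i⟧) ≃+ (Dual.inD R M ⟶ T.obj₂⟦i⟧)) := by
  have ha : ∀ g : (Dual.inD R M)⟦-i⟧ ⟶ T.obj₃, g = 0 := by
    intro g
    haveI := h3 i
    apply (Groth.Agent.Lib.H6xDual.shiftHomLinearEquiv (Dual.inD R M) T.obj₃ i).injective
    exact Subsingleton.elim _ _
  have hb : ∀ g : (Dual.inD R M)⟦-i⟧ ⟶ T.obj₃⟦(-1 : ℤ)⟧, g = 0 := by
    intro g
    haveI := (h3.shift M (-1)) i
    apply (Groth.Agent.Lib.H6xDual.shiftHomLinearEquiv (Dual.inD R M)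
      (T.obj₃⟦(-1 : ℤ)⟧) i).injective
    exact Subsingleton.elim _ _
  have hbij : Function.Bijective
      (Groth.Agent.Lib.H6xPCev.postc ((Dual.inD R M)⟦-i⟧) T.mor₁) :=
    ⟨Groth.Agent.Lib.H6xPCev.postc_injective T hT _ hb,
      Groth.Agent.Lib.H6xPCev.postc_surjective T hT _ ha⟩
  let φ : ((Dual.inD R M)⟦-i⟧ ⟶ T.obj₁) ≃+ ((Dual.inD R M)⟦-i⟧ ⟶ T.obj₂) :=
    AddEquiv.ofBijective
      ({ toFun := fun g => g ≫ T.mor₁
         map_zero' := zero_comp
         map_add' := fun g g' => Preadditive.add_comp _ _ _ _ _ _ } :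
        ((Dual.inD R M)⟦-i⟧ ⟶ T.obj₁) →+ ((Dual.inD R M)⟦-i⟧ ⟶ T.obj₂)) hbij
  exact ⟨(Groth.Agent.Lib.H6xDual.shiftHomLinearEquiv (Dual.inD R M) T.obj₁ i).symm.toAddEquiv.trans
    (φ.trans (Groth.Agent.Lib.H6xDual.shiftHomLinearEquiv (Dual.inD R M) T.obj₂ i).toAddEquiv)⟩

end Tri

end Groth.Agent.Lib.H6xFg
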