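import Mathlib
import Groth.Agent.Lib.H6xFgE
set_option backward.isDefEq.respectTransparency.types false

/-!
# helper6: torsion approximation by iterated homotopy fibres of localization maps
-/

set_option autoImplicit false
set_option linter.style.haveILetI false
universe u
open CategoryTheory CategoryTheory.Limits Pretriangulated
attribute [local instance] HasDerivedCategory.standard

namespace Groth.Agent.Lib.H6xFg

open DerivedCategory

section Ind

variable {R : Type u} [CommRing R] (S : Type u) [CommRing S] [Algebra R S] [Module.Flat R S]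
  (M : Type u) [AddCommGroup M] [Module R M]

/-- `- ⊗_R S` on `D(R)`, with values in `D(R)` -/
noncomputable abbrev GS : Dual.D R ⥤ Dual.D R := (EB R S).mapDerivedCategory

lemma orth_Q (f : R) (hM : IsTors f M) (K : DRing.Cx R)
    (hK : ∀ i : ℤ, Function.Bijective (fun x : K.X i => f • x)) : Orth M (Q.obj K) :=
  fun i => subsingleton_hom_of_isTors_of_bijective f M hM K hK i

/-- the comparison of `H^j(T₀)` with `H^j(K)` for `T₀ ≅ Q K` -/
noncomputable def compL (K : DRing.Cx R) (T₀ : Dual.D R) (e₀ : Q.obj K ≅ T₀) (j : ℤ) :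
    (homologyFunctor (ModuleCat.{u} R) j).obj T₀ ≃ₗ[R] K.homology j :=
  ((homologyFunctor (ModuleCat.{u} R) j).mapIso e₀.symm ≪≫ isoA K j).toLinearEquiv

lemma compL_apply (K : DRing.Cx R) (T₀ : Dual.D R) (e₀ : Q.obj K ≅ T₀) (j : ℤ)
    (y : (homologyFunctor (ModuleCat.{u} R) j).obj T₀) :
    compL K T₀ e₀ j y =
      (isoA K j).hom.hom (((homologyFunctor (ModuleCat.{u} R) j).map e₀.inv).hom y) := rfl

/-- the square of `homology_τD` on elements -/
lemma isoB_τD_apply (E : ModuleCat.{u} R ⥤ ModuleCat.{u} R) [E.Additive]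
    [PreservesFiniteLimits E] [PreservesFiniteColimits E] (τ : 𝟭 (ModuleCat.{u} R) ⟶ E)
    (K : DRing.Cx R) (j : ℤ) (y : (homologyFunctor (ModuleCat.{u} R) j).obj (Q.obj K)) :
    (isoB E K j).hom.hom (((homologyFunctor (ModuleCat.{u} R) j).map (τD E τ K)).hom y) =
      (τ.app (K.homology j)).hom ((isoA K j).hom.hom y) := by
  have := congrArg (fun φ => φ.hom y) (homology_τD E τ K j)
  exact this

theorem exists_approx (fs : List R) (hM : ∀ g ∈ fs, IsTors g M) (X : Dual.D R) :
    ∃ T : Dual.D R, (∀ g ∈ fs, ∀ j : ℤ, IsTors g (Dual.HD R T j)) ∧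
      (∀ i : ℤ, Nonempty ((Dual.inD R M ⟶ T⟦i⟧) ≃+ (Dual.inD R M ⟶ X⟦i⟧))) ∧
      (∀ i : ℤ, Nonempty ((Dual.inD R M ⟶ ((GS S).obj T)⟦i⟧) ≃+
        (Dual.inD R M ⟶ ((GS S).obj X)⟦i⟧))) := by
  induction fs with
  | nil =>
    exact ⟨X, fun g hg => absurd hg (List.not_mem_nil), fun i => ⟨AddEquiv.refl _⟩,
      fun i => ⟨AddEquiv.refl _⟩⟩
  | cons f fs ih =>
    obtain ⟨T₀, ht, h2, h3⟩ := ih (fun g hg => hM g (List.mem_cons_of_mem _ hg))
    let K : DRing.Cx R := Q.objPreimage T₀
    let e₀ : Q.obj K ≅ T₀ := Q.objObjPreimageIso T₀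
    let Ef := EB R (Localization.Away f)
    let τf := τB R (Localization.Away f)
    let φ : T₀ ⟶ Ef.mapDerivedCategory.obj (Q.obj K) := e₀.inv ≫ τD Ef τf K
    obtain ⟨T', u, δ, hT⟩ := distinguished_cocone_triangle₁ φ
    have hf : IsTors f M := hM f List.mem_cons_self
    have hunit : IsUnit (algebraMap R (Localization.Away f) f) :=
      IsLocalization.Away.algebraMap_isUnit f
    have ho3 : Orth M (Ef.mapDerivedCategory.obj (Q.obj K)) :=
      (orth_Q M f hf ((Ef.mapHomologicalComplex (ComplexShape.up ℤ)).obj K)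
        (fun i => bijective_smul_EB_of_isUnit R _ f hunit (K.X i))).of_iso M
          (Ef.mapDerivedCategoryFactors.app K).symm
    have ho3' : Orth M ((GS S).obj (Ef.mapDerivedCategory.obj (Q.obj K))) :=
      (orth_Q M f hf (((EB R S).mapHomologicalComplex (ComplexShape.up ℤ)).obj
          ((Ef.mapHomologicalComplex (ComplexShape.up ℤ)).obj K))
        (fun i => bijective_smul_EB R S f _
          (bijective_smul_EB_of_isUnit R _ f hunit (K.X i)))).of_iso M
          (((EB R S).mapDerivedCategoryFactors.app _).symm ≪≫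
            (GS S).mapIso (Ef.mapDerivedCategoryFactors.app K).symm)
    refine ⟨T', ?_, ?_, ?_⟩
    · intro g hg j
      have H1 : ∀ y : (homologyFunctor (ModuleCat.{u} R) j).obj T₀,
          ((homologyFunctor (ModuleCat.{u} R) j).map φ).hom y = 0 → ∃ n : ℕ, g ^ n • y = 0 := by
        intro y hy
        rcases List.mem_cons.1 hg with rfl | hg'
        · -- `g = f`
          have hy' : ((homologyFunctor (ModuleCat.{u} R) j).map (τD Ef τf K)).hom
              (((homologyFunctor (ModuleCat.{u} R) j).map e₀.inv).hom y) = 0 := by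
            rw [← ModuleCat.comp_apply, ← Functor.map_comp]
            exact hy
          have h4 := isoB_τD_apply Ef τf K j
            (((homologyFunctor (ModuleCat.{u} R) j).map e₀.inv).hom y)
          rw [hy', map_zero] at h4
          obtain ⟨n, hn⟩ := ker_τB_away R g (K.homology j) _ h4.symm
          refine ⟨n, ?_⟩
          apply (compL K T₀ e₀ j).injective
          rw [map_smul, map_zero, compL_apply]
          exact hn
        · exact ht g hg' j y
      have H2 : ∀ z : (homologyFunctor (ModuleCat.{u} R) (j - 1)).obj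
          (Ef.mapDerivedCategory.obj (Q.obj K)), ∃ (n : ℕ)
          (w : (homologyFunctor (ModuleCat.{u} R) (j - 1)).obj T₀),
          g ^ n • z = ((homologyFunctor (ModuleCat.{u} R) (j - 1)).map φ).hom w := by
        intro z
        rcases List.mem_cons.1 hg with rfl | hg'
        · obtain ⟨n, w', hw'⟩ := coker_τB_away R g (K.homology (j - 1))
            ((isoB Ef K (j - 1)).hom.hom z)
          refine ⟨n, (compL K T₀ e₀ (j - 1)).symm w', ?_⟩
          apply (isoB Ef K (j - 1)).toLinearEquiv.injective
          change (isoB Ef K (j - 1)).hom.hom (g ^ n • z) =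
            (isoB Ef K (j - 1)).hom.hom
              (((homologyFunctor (ModuleCat.{u} R) (j - 1)).map (e₀.inv ≫ τD Ef τf K)).hom
                ((compL K T₀ e₀ (j - 1)).symm w'))
          rw [map_smul, hw', Functor.map_comp, ModuleCat.comp_apply, isoB_τD_apply,
            ← compL_apply, LinearEquiv.apply_symm_apply]
        · have h5 : IsTors g (K.homology (j - 1)) :=
            isTors_of_linearEquiv g (compL K T₀ e₀ (j - 1)) (ht g hg' (j - 1))
          have h6 : IsTors g ((homologyFunctor (ModuleCat.{u} R) (j - 1)).obj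
              (Ef.mapDerivedCategory.obj (Q.obj K))) :=
            isTors_of_linearEquiv g (isoB Ef K (j - 1)).toLinearEquiv.symm
              (isTors_EB R _ g _ h5)
          obtain ⟨n, hn⟩ := h6 z
          exact ⟨n, 0, by rw [map_zero]; exact hn⟩
      exact tors_of_triangle g (Triangle.mk u φ δ) hT (j - 1) j (by omega) H1 H2
    · intro i
      obtain ⟨a⟩ := nonempty_addEquiv_of_triangle M (Triangle.mk u φ δ) hT ho3 i
      obtain ⟨b⟩ := h2 i
      exact ⟨a.trans b⟩
    · intro i
      obtain ⟨a⟩ := nonempty_addEquiv_of_triangle M ((GS S).mapTriangle.obj (Triangle.mk u φ δ))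
        ((GS S).map_distinguished _ hT) ho3' i
      obtain ⟨b⟩ := h3 i
      exact ⟨a.trans b⟩

end Ind

end Groth.Agent.Lib.H6xFg
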