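import Mathlib
import Groth.Agent.Lib.H6xFgF
set_option backward.isDefEq.respectTransparency.types false

/-!
# helper6: `Ext` and flat base change for power torsion modules
-/

set_option autoImplicit false
set_option linter.style.haveILetI false
universe u
open CategoryTheory CategoryTheory.Limits Pretriangulated
attribute [local instance] HasDerivedCategory.standard

namespace Groth.Agent.Lib.H6xFg

open DerivedCategory Groth.Agent.Lib.Helper1.Extend TensorProduct

section Alg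

variable {R : Type u} [CommRing R]

lemma isPowerTorsion_span_of_forall_isTors (fs : List R) (N : Type u) [AddCommGroup N]
    [Module R N] (h : ∀ g ∈ fs, IsTors g N) :
    LocCoh.IsPowerTorsion (Ideal.span {x | x ∈ fs}) N := by
  induction fs with
  | nil =>
    intro x
    refine ⟨1, fun a ha => ?_⟩
    have : ({x : R | x ∈ ([] : List R)} : Set R) = ∅ := by
      ext y
      simp
    rw [this, Ideal.span_empty, pow_one] at ha
    rw [(Ideal.mem_bot.1 ha), zero_smul]
  | cons f fs ih =>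
    intro x
    obtain ⟨a, ha⟩ := ih (fun g hg => h g (List.mem_cons_of_mem _ hg)) x
    obtain ⟨b, hb⟩ := h f List.mem_cons_self x
    refine ⟨b + a, fun c hc => ?_⟩
    have h1 : ({x : R | x ∈ f :: fs} : Set R) = {f} ∪ {x | x ∈ fs} := by
      ext y
      simp
    rw [h1, Ideal.span_union] at hc
    have h2 := Ideal.sup_pow_add_le_pow_sup_pow (n := b) (m := a) hc
    obtain ⟨c1, hc1, c2, hc2, rfl⟩ := Submodule.mem_sup.1 h2
    rw [Ideal.span_singleton_pow, Ideal.mem_span_singleton'] at hc1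
    obtain ⟨r, rfl⟩ := hc1
    rw [add_smul, mul_smul, hb, smul_zero, zero_add]
    exact ha c2 hc2

end Alg

section Main

variable {R : Type u} [CommRing R] (S : Type u) [CommRing S] [Algebra R S] [Module.Flat R S]

/-- **Stacks 05EB-type statement**: `Ext^i_R(M, N) ≅ Ext^i_S(S ⊗ M, S ⊗ N)` for `I`-power torsion
`M`, `R → S` flat with `R/I ≅ S/IS`, `I` finitely generated -/
theorem nonempty_addEquiv_ext_baseChange (I : Ideal R) (hI : I.FG)
    (hs : Function.Surjective ((Ideal.Quotient.mk (I.map (algebraMap R S))).comp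
      (algebraMap R S)))
    (hk : RingHom.ker ((Ideal.Quotient.mk (I.map (algebraMap R S))).comp (algebraMap R S)) = I)
    (M N : Type u) [AddCommGroup M] [Module R M] [AddCommGroup N] [Module R N]
    (hM : LocCoh.IsPowerTorsion I M) (i : ℤ) :
    Nonempty ((Dual.inD R M ⟶ (Dual.inD R N)⟦i⟧) ≃+
      (Dual.inD S (S ⊗[R] M) ⟶ (Dual.inD S (S ⊗[R] N))⟦i⟧)) := by
  obtain ⟨s, hs'⟩ := hI
  let fs := s.toList
  have hspan : Ideal.span {x | x ∈ fs} = I := by
    rw [← hs']
    congr 1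
    ext y
    simp [fs]
  have hMt : ∀ g ∈ fs, IsTors g M := fun g hg =>
    isTors_of_isPowerTorsion I g
      (by rw [← hs']; exact Ideal.subset_span (Finset.mem_toList.1 hg)) M hM
  obtain ⟨T, ht, h2, h3⟩ := exists_approx S M fs hMt (Dual.inD R N)
  obtain ⟨a⟩ := h2 i
  obtain ⟨b⟩ := h3 i
  let K : DRing.Cx R := Q.objPreimage T
  let e₀ : Q.obj K ≅ T := Q.objObjPreimageIso T
  have hK : ∀ j : ℤ, LocCoh.IsPowerTorsion I (K.homology j) := fun j => by
    rw [← hspan]
    exact isPowerTorsion_span_of_forall_isTors fs (K.homology j)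
      (fun g hg => isTors_of_linearEquiv g (compL K T e₀ j) (ht g hg j))
  haveI : IsIso (τD (EB R S) (τB R S) K) :=
    isIso_τD _ _ K (fun j => isIso_τB_of_isPowerTorsion R S I hs hk (K.homology j) (hK j))
  let θ : T ≅ (GS S).obj T :=
    e₀.symm ≪≫ asIso (τD (EB R S) (τB R S) K) ≪≫ (GS S).mapIso e₀
  let c : (Dual.inD R M ⟶ T⟦i⟧) ≃+ (Dual.inD R M ⟶ ((GS S).obj T)⟦i⟧) :=
    (Linear.homCongr R (Iso.refl (Dual.inD R M))
      ((shiftFunctor (Dual.D R) i).mapIso θ)).toAddEquiv
  -- the adjunction step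
  let Y : ModuleCat.{u} S := (ext R S).obj (ModuleCat.of R N)
  let d : (GS S).obj (Dual.inD R N) ≅
      (DRing.restrictD (algebraMap R S)).obj (Dual.inD S (S ⊗[R] N)) :=
    mapSingleIso (EB R S) (ModuleCat.of R N) 0 ≪≫
      (mapSingleIso (ModuleCat.restrictScalars.{u} (algebraMap R S)) Y 0).symm ≪≫
      (DRing.restrictD (algebraMap R S)).mapIso
        ((DerivedCategory.singleFunctor (ModuleCat.{u} S) 0).mapIso (extIso N))
  let d' : ((GS S).obj (Dual.inD R N))⟦i⟧ ≅
      (DRing.restrictD (algebraMap R S)).obj ((Dual.inD S (S ⊗[R] N))⟦i⟧) :=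
    (shiftFunctor (Dual.D R) i).mapIso d ≪≫
      (((DRing.restrictD (algebraMap R S)).commShiftIso i).app _).symm
  haveI : DRing.HasLBaseChange (algebraMap R S) :=
    Groth.Agent.Lib.H6xHasLDerRing.hasLBaseChange _
  obtain ⟨adj, -, -⟩ := Groth.Agent.Lib.H6xBC.exists_adj (algebraMap R S)
  haveI : (DRing.LBaseChange (algebraMap R S)).Additive := adj.left_adjoint_additive
  obtain ⟨e1⟩ := Groth.Agent.Lib.H6xPCDesc.nonempty_lbc_iso_extD (A := R) (B := S) (Dual.inD R M)
  let e2 : (DRing.LBaseChange (algebraMap R S)).obj (Dual.inD R M) ≅ Dual.inD S (S ⊗[R] M) :=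
    e1 ≪≫ extDInDIso M
  let c2 : (Dual.inD R M ⟶ ((GS S).obj (Dual.inD R N))⟦i⟧) ≃+
      (Dual.inD R M ⟶ (DRing.restrictD (algebraMap R S)).obj
        ((Dual.inD S (S ⊗[R] N))⟦i⟧)) :=
    (Linear.homCongr R (Iso.refl (Dual.inD R M)) d').toAddEquiv
  let c3 := (adj.homAddEquiv (Dual.inD R M) ((Dual.inD S (S ⊗[R] N))⟦i⟧)).symm
  let c4 : ((DRing.LBaseChange (algebraMap R S)).obj (Dual.inD R M) ⟶
      (Dual.inD S (S ⊗[R] N))⟦i⟧) ≃+
      (Dual.inD S (S ⊗[R] M) ⟶ (Dual.inD S (S ⊗[R] N))⟦i⟧) :=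
    (Linear.homCongr S e2 (Iso.refl _)).toAddEquiv
  exact ⟨a.symm.trans (c.trans (b.trans (c2.trans (c3.trans c4))))⟩

end Main

end Groth.Agent.Lib.H6xFg
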