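import Mathlib
import Groth.Agent.Lib.H6xDcH
import Groth.Agent.Lib.H6xFgG
set_option backward.isDefEq.respectTransparency.types false

/-!
# helper6: an exact endofunctor `H` of `A`-modules with `τ : 𝟭 ⟶ H` and Koszul cones
-/

set_option autoImplicit false
set_option linter.style.haveILetI false
universe u
open CategoryTheory CategoryTheory.Limits Pretriangulated MonoidalCategory
attribute [local instance] HasDerivedCategory.standard

namespace Groth.Agent.Lib.H6xDc

open DerivedCategory CochainComplex Groth.Agent.Lib.Helper1.KF Groth.Agent.Lib.Helper1.DT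
  Groth.Agent.Lib.Helper10.DerComplete DerivedCategory.TStructure Groth.Agent.Lib.H6xFg

variable {A : Type u} [CommRing A]

section Gen

variable (H : ModuleCat.{u} A ⥤ ModuleCat.{u} A) [H.Additive]
  [PreservesFiniteLimits H] [PreservesFiniteColimits H] (τ : 𝟭 (ModuleCat.{u} A) ⟶ H)

/-- `H` on complexes -/
noncomputable abbrev HC : Cx A ⥤ Cx A := H.mapHomologicalComplex (ComplexShape.up ℤ)

lemma τCx_naturality {F G : Cx A} (φ : F ⟶ G) :
    φ ≫ τCx H τ G = τCx H τ F ≫ (HC H).map φ := by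
  apply HomologicalComplex.hom_ext
  intro n
  exact τ.naturality (φ.f n)

lemma τCx_mappingCone {F G : Cx A} (φ : F ⟶ G) :
    τCx H τ (mappingCone φ) ≫ (mappingCone.mapHomologicalComplexIso φ H).hom =
      mappingCone.map φ ((HC H).map φ) (τCx H τ F) (τCx H τ G) (τCx_naturality H τ φ) := by
  apply HomologicalComplex.hom_ext
  intro n
  rw [mappingCone.ext_from_iff _ (n + 1) n rfl]
  have h1 : (mappingCone.mapHomologicalComplexIso φ H).hom.f n =
      (mappingCone.mapHomologicalComplexXIso' φ H n (n + 1) rfl).hom := rfl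
  have hτ1 : (mappingCone.inl φ).v (n + 1) n (by omega) ≫ τ.app ((mappingCone φ).X n) =
      τ.app (F.X (n + 1)) ≫ H.map ((mappingCone.inl φ).v (n + 1) n (by omega)) :=
    τ.naturality _
  have hτ2 : (mappingCone.inr φ).f n ≫ τ.app ((mappingCone φ).X n) =
      τ.app (G.X n) ≫ H.map ((mappingCone.inr φ).f n) :=
    τ.naturality _
  constructor
  · rw [HomologicalComplex.comp_f, h1, mappingCone.mapHomologicalComplexXIso'_hom]
    change (mappingCone.inl φ).v (n + 1) n _ ≫ τ.app ((mappingCone φ).X n) ≫ _ = _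
    rw [reassoc_of% hτ1]
    simp only [Preadditive.comp_add, ← H.map_comp_assoc, mappingCone.inl_v_fst_v,
      mappingCone.inl_v_snd_v, H.map_id, H.map_zero, Category.id_comp, zero_comp, add_zero]
    simp [mappingCone.map, τCx]
    rfl
  · rw [HomologicalComplex.comp_f, h1, mappingCone.mapHomologicalComplexXIso'_hom]
    change (mappingCone.inr φ).f n ≫ τ.app ((mappingCone φ).X n) ≫ _ = _
    rw [reassoc_of% hτ2]
    simp only [Preadditive.comp_add, ← H.map_comp_assoc, mappingCone.inr_f_fst_v,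
      mappingCone.inr_f_snd_v, H.map_id, H.map_zero, Category.id_comp, zero_comp, zero_add]
    simp [mappingCone.map, τCx]
    rfl

lemma mappingCone_map_comp_congr {K₁ L₁ K₂ L₂ : Cx A} (φ₁ : K₁ ⟶ L₁) {φ₂ φ₂' : K₂ ⟶ L₂}
    (h : φ₂ = φ₂') (a : K₁ ⟶ K₂) (b : L₁ ⟶ L₂) (comm : φ₁ ≫ b = a ≫ φ₂) :
    mappingCone.map φ₁ φ₂ a b comm ≫ (mappingConeCongr h).hom =
      mappingCone.map φ₁ φ₂' a b (by rw [← h]; exact comm) := by
  subst h
  simp [mappingConeCongr]

variable (hH : ∀ (f : A) (X : ModuleCat.{u} A), H.map (f • 𝟙 X) = f • 𝟙 (H.obj X))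

include hH in
lemma HC_map_smul (f : A) (F : Cx A) : (HC H).map (f • 𝟙 F) = f • 𝟙 ((HC H).obj F) := by
  apply HomologicalComplex.hom_ext
  intro n
  exact hH f (F.X n)

/-- `H (Kf f F) ≅ Kf f (H F)` -/
noncomputable def HKfIso (f : A) (F : Cx A) : (HC H).obj (Kf f F) ≅ Kf f ((HC H).obj F) :=
  mappingCone.mapHomologicalComplexIso (f • 𝟙 F) H ≪≫ mappingConeCongr (HC_map_smul H hH f F)

lemma τCx_Kf (f : A) (F : Cx A) :
    τCx H τ (Kf f F) ≫ (HKfIso H hH f F).hom = Kfmap f (τCx H τ F) := by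
  unfold HKfIso
  rw [Iso.trans_hom, ← Category.assoc, τCx_mappingCone, mappingCone_map_comp_congr]
  rfl

lemma KfsIso_hom : ∀ (fs : List A) {F G : Cx A} (e : F ≅ G), (KfsIso fs e).hom = Kfsmap fs e.hom := by
  intro fs
  induction fs with
  | nil => intro F G e; rfl
  | cons f fs ih => intro F G e; exact ih (KfIso f e)

lemma Kfsmap_comp : ∀ (fs : List A) {F G K : Cx A} (a : F ⟶ G) (b : G ⟶ K),
    Kfsmap fs (a ≫ b) = Kfsmap fs a ≫ Kfsmap fs b := by
  intro fs
  induction fs with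
  | nil => intro F G K a b; rfl
  | cons f fs ih =>
    intro F G K a b
    change Kfsmap fs (Kfmap f (a ≫ b)) = Kfsmap fs (Kfmap f a) ≫ Kfsmap fs (Kfmap f b)
    rw [Kfmap_comp, ih]

/-- `H (Kfs fs F) ≅ Kfs fs (H F)` -/
noncomputable def HKfsIso : (fs : List A) → (F : Cx A) →
    ((HC H).obj (Kfs fs F) ≅ Kfs fs ((HC H).obj F))
  | [], _ => Iso.refl _
  | f :: fs, F => HKfsIso fs (Kf f F) ≪≫ KfsIso fs (HKfIso H hH f F)

lemma τCx_Kfs : ∀ (fs : List A) (F : Cx A),
    τCx H τ (Kfs fs F) ≫ (HKfsIso H hH fs F).hom = Kfsmap fs (τCx H τ F) := by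
  intro fs
  induction fs with
  | nil =>
    intro F
    exact Category.comp_id _
  | cons f fs ih =>
    intro F
    change τCx H τ (Kfs fs (Kf f F)) ≫ (HKfsIso H hH fs (Kf f F) ≪≫
      KfsIso fs (HKfIso H hH f F)).hom = Kfsmap fs (Kfmap f (τCx H τ F))
    rw [Iso.trans_hom, ← Category.assoc, ih, KfsIso_hom, ← Kfsmap_comp, τCx_Kf]

omit [H.Additive] [PreservesFiniteLimits H] [PreservesFiniteColimits H] in
lemma isTors_homology_of_pow_smul_eq_zero (K : Cx A) (g : A) (k : ℕ)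
    (h : (g ^ k) • 𝟙 (Q.obj K) = 0) (j : ℤ) : IsTors g (K.homology j) := by
  intro x
  refine ⟨k, ?_⟩
  obtain ⟨y, rfl⟩ : ∃ y, (isoA K j).hom.hom y = x :=
    ⟨(isoA K j).inv.hom x, by
      rw [← ModuleCat.comp_apply, Iso.inv_hom_id]
      rfl⟩
  rw [← map_smul]
  have h2 : (homologyFunctor (ModuleCat.{u} A) j).map ((g ^ k) • 𝟙 (Q.obj K)) =
      (g ^ k) • 𝟙 _ := by
    rw [Functor.map_smul, CategoryTheory.Functor.map_id]
  rw [h, Functor.map_zero] at h2
  have h3 : (g ^ k) • y = 0 := by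
    have := congrArg (fun φ => φ.hom y) h2
    exact this.symm
  rw [h3, map_zero]

include hH in
/-- if `τ` is an isomorphism on `I`-power torsion modules, then `K ⟶ H K` is a derived completion
equivalence -/
theorem trW_τD (I : Ideal A) (fs : List A) (hfs : Ideal.span {x | x ∈ fs} = I) (F : Cx A)
    (hτ : ∀ N : ModuleCat.{u} A, LocCoh.IsPowerTorsion I N → IsIso (τ.app N)) :
    (LO I).trW (τD H τ F) := by
  have hmem : ∀ f ∈ fs, f ∈ I := fun f hf => by
    rw [← hfs]
    exact Ideal.subset_span hf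
  have hnil : ∀ g ∈ fs, ∃ k : ℕ, (g ^ k) • 𝟙 (Q.obj (Kfs fs F)) = 0 := fun g hg =>
    nilOn_Kfs fs ∅ F (fun g hg => by simp at hg) g (Or.inr hg)
  have htors : ∀ j : ℤ, LocCoh.IsPowerTorsion I ((Kfs fs F).homology j) := fun j => by
    rw [← hfs]
    refine isPowerTorsion_span_of_forall_isTors fs _ (fun g hg => ?_)
    obtain ⟨k, hk⟩ := hnil g hg
    exact isTors_homology_of_pow_smul_eq_zero (Kfs fs F) g k hk j
  haveI : QuasiIso (τCx H τ (Kfs fs F)) := quasiIso_τCx H τ _ (fun j => hτ _ (htors j))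
  haveI : IsIso (Q.map (τCx H τ (Kfs fs F))) := inferInstance
  haveI : IsIso (Q.map (Kfsmap fs (τCx H τ F))) := by
    rw [← τCx_Kfs H τ hH fs F, Functor.map_comp]
    infer_instance
  have h1 : (LO I).trW (Q.map (Kfsmap fs (τCx H τ F))) := (LO I).trW_of_isIso _
  have h2 : (LO I).trW (Q.map (τCx H τ F)) := (trW_Kfsmap_iff I fs hmem _).1 h1
  unfold τD
  rw [(LO I).trW.cancel_right_of_respectsIso]
  exact h2

end Gen

end Groth.Agent.Lib.H6xDc
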