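import Mathlib
import Groth.Agent.Lib.H6xDcI
import Groth.Agent.S7048
set_option backward.isDefEq.respectTransparency.types false

/-!
# helper6: derived completion of complexes with finite cohomology over a Noetherian ring
-/

set_option autoImplicit false
set_option linter.style.haveILetI false
universe u
open CategoryTheory CategoryTheory.Limits Pretriangulated MonoidalCategory
attribute [local instance] HasDerivedCategory.standard

namespace Groth.Agent.Lib.H6xDc

open DerivedCategory CochainComplex Groth.Agent.Lib.Helper1.KF Groth.Agent.Lib.Helper1.DT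
  Groth.Agent.Lib.Helper10.DerComplete DerivedCategory.TStructure Groth.Agent.Lib.H6xFg
  Groth.Agent.Lib.Helper1.Extend TensorProduct

variable {A : Type u} [CommRing A]

section EBlin

variable (B : Type u) [CommRing B] [Algebra A B]

lemma EB_map_smul (f : A) (X : ModuleCat.{u} A) :
    (EB A B).map (f • 𝟙 X) = f • 𝟙 ((EB A B).obj X) := by
  have key : (eB A B X).toLinearMap ∘ₗ ((EB A B).map (f • 𝟙 X)).hom ∘ₗ
      (eB A B X).symm.toLinearMap =
      (eB A B X).toLinearMap ∘ₗ (f • 𝟙 ((EB A B).obj X) : (EB A B).obj X ⟶ _).hom ∘ₗ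
        (eB A B X).symm.toLinearMap := by
    apply TensorProduct.ext'
    intro b m
    have h1 : ((eB A B X).toLinearMap ∘ₗ ((EB A B).map (f • 𝟙 X)).hom ∘ₗ
      (eB A B X).symm.toLinearMap) (b ⊗ₜ[A] m) = b ⊗ₜ[A] (f • m) := rfl
    have h2 : ((eB A B X).toLinearMap ∘ₗ (f • 𝟙 ((EB A B).obj X) : (EB A B).obj X ⟶ _).hom ∘ₗ
        (eB A B X).symm.toLinearMap) (b ⊗ₜ[A] m) = (algebraMap A B f * b) ⊗ₜ[A] m := rfl
    rw [h1, h2, TensorProduct.tmul_smul, ← Algebra.smul_def, TensorProduct.smul_tmul']
  apply ModuleCat.hom_ext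
  apply LinearMap.ext
  intro x
  have := LinearMap.congr_fun key (eB A B X x)
  simp only [LinearMap.comp_apply, LinearEquiv.coe_coe, LinearEquiv.symm_apply_apply] at this
  exact (eB A B X).injective this

end EBlin

section Adic

variable [IsNoetherianRing A] (I : Ideal A)

lemma surjective_mk_adic :
    Function.Surjective ((Ideal.Quotient.mk (I.map (algebraMap A (AdicCompletion I A)))).comp
      (algebraMap A (AdicCompletion I A))) := by
  have fg : I.FG := IsNoetherian.noetherian I
  intro y
  obtain ⟨b, rfl⟩ := Ideal.Quotient.mk_surjective y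
  obtain ⟨a, ha⟩ := Ideal.Quotient.mk_surjective (AdicCompletion.evalOneₐ I b)
  refine ⟨a, ?_⟩
  rw [RingHom.comp_apply, Ideal.Quotient.eq, ← AdicCompletion.ker_evalOneₐ_eq_map I fg,
    RingHom.mem_ker]
  show AdicCompletion.evalOneₐ I (algebraMap A (AdicCompletion I A) a - b) = 0
  rw [map_sub, sub_eq_zero, ← ha]
  exact (AdicCompletion.evalOneₐ_of I a)

lemma ker_mk_adic :
    RingHom.ker ((Ideal.Quotient.mk (I.map (algebraMap A (AdicCompletion I A)))).comp
      (algebraMap A (AdicCompletion I A))) = I := by
  have fg : I.FG := IsNoetherian.noetherian I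
  ext x
  rw [RingHom.mem_ker, RingHom.comp_apply, Ideal.Quotient.eq_zero_iff_mem,
    ← AdicCompletion.ker_evalOneₐ_eq_map I fg, RingHom.mem_ker]
  change AdicCompletion.evalOneₐ I (AdicCompletion.of I A x) = 0 ↔ _
  rw [AdicCompletion.evalOneₐ_of, Ideal.Quotient.eq_zero_iff_mem]

/-- `Â ⊗ M ≅ M^` for finite `M` -/
noncomputable def adicEquiv (M : ModuleCat.{u} A) [Module.Finite A M] :
    ((EB A (AdicCompletion I A)).obj M) ≃ₗ[A] AdicCompletion I M :=
  (eB A (AdicCompletion I A) M).trans
    ((AdicCompletion.ofTensorProductEquivOfFiniteNoetherian I M).restrictScalars A)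

lemma adicEquiv_τB (M : ModuleCat.{u} A) [Module.Finite A M] (m : M) :
    adicEquiv I M (((τB A (AdicCompletion I A)).app M).hom m) = AdicCompletion.of I M m := by
  unfold adicEquiv
  rw [LinearEquiv.trans_apply, eB_τB]
  change AdicCompletion.ofTensorProduct I M ((1 : AdicCompletion I A) ⊗ₜ[A] m) = _
  rw [AdicCompletion.ofTensorProduct_tmul, one_smul]

/-- **S7060**: over a Noetherian ring, the derived completion of a complex with finite cohomology
modules has cohomology the adic completions of the cohomology modules -/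
theorem exists_homology_completion_equiv [DRing.HasDerivedCompletion I] (K : Dual.D A)
    (hK : ∀ n : ℤ, Module.Finite A (Dual.HD A K n)) (n : ℤ) :
    ∃ e : Dual.HD A ((DRing.derivedCompletion I).obj K).obj n ≃ₗ[A]
        AdicCompletion I (Dual.HD A K n),
      ∀ x : Dual.HD A K n,
        e (((homologyFunctor (ModuleCat.{u} A) n).map (DRing.toDerivedCompletion I K)).hom x) =
          AdicCompletion.of I (Dual.HD A K n) x := by
  classical
  have fg : I.FG := IsNoetherian.noetherian I
  let F : Cx A := Q.objPreimage K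
  let e₀ : Q.obj F ≅ K := Q.objObjPreimageIso K
  let φ : ∀ j : ℤ, F.homology j ≃ₗ[A] Dual.HD A K j := fun j =>
    ((isoA F j).symm ≪≫ (homologyFunctor (ModuleCat.{u} A) j).mapIso e₀).toLinearEquiv
  have hF : ∀ j : ℤ, Module.Finite A (F.homology j) := fun j =>
    haveI := hK j
    Module.Finite.equiv (φ j).symm
  let L : Dual.D A := (EB A (AdicCompletion I A)).mapDerivedCategory.obj (Q.obj F)
  have hL : DRing.IsDerivedComplete I L := by
    rw [isDerivedComplete_iff_cohomology]
    intro j
    haveI := hF j
    let ε : Dual.HD A L j ≃ₗ[A] AdicCompletion I (F.homology j) :=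
      (isoB (EB A (AdicCompletion I A)) F j).toLinearEquiv.trans (adicEquiv I (F.homology j))
    haveI : IsAdicComplete I (AdicCompletion I (F.homology j)) :=
      AdicCompletion.isAdicComplete fg
    have h1 := Groth.Agent.S7048.result I (AdicCompletion I (F.homology j))
    rw [isDerivedComplete_iff_crit] at h1 ⊢
    exact fun f hf => (h1 f hf).of_linearEquiv ε.symm
  obtain ⟨s, hs⟩ := fg
  have hW : (LO I).trW (τD (EB A (AdicCompletion I A)) (τB A (AdicCompletion I A)) F) :=
    trW_τD _ _ (EB_map_smul (AdicCompletion I A)) I s.toList (span_toList I s hs) F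
      (fun N hN => isIso_τB_of_isPowerTorsion A (AdicCompletion I A) I (surjective_mk_adic I)
        (ker_mk_adic I) N hN)
  have hu : (LO I).trW
      (e₀.inv ≫ τD (EB A (AdicCompletion I A)) (τB A (AdicCompletion I A)) F) := by
    rw [(LO I).trW.cancel_left_of_respectsIso]
    exact hW
  obtain ⟨e, he⟩ := exists_iso_completion I _ hu hL
  haveI := hF n
  let ε : Dual.HD A ((DRing.derivedCompletion I).obj K).obj n ≃ₗ[A]
      AdicCompletion I (Dual.HD A K n) :=
    ((homologyFunctor (ModuleCat.{u} A) n).mapIso e).toLinearEquiv.trans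
      ((isoB (EB A (AdicCompletion I A)) F n).toLinearEquiv.trans
        ((adicEquiv I (F.homology n)).trans
          ((AdicCompletion.congr I (φ n)).restrictScalars A)))
  refine ⟨ε, fun x => ?_⟩
  obtain ⟨y, hy⟩ : ∃ y : Dual.HD A (Q.obj F) n,
    y = ((homologyFunctor (ModuleCat.{u} A) n).map e₀.inv).hom x := ⟨_, rfl⟩
  have s1 : ((homologyFunctor (ModuleCat.{u} A) n).map e.hom).hom
      (((homologyFunctor (ModuleCat.{u} A) n).map (DRing.toDerivedCompletion I K)).hom x) =
      ((homologyFunctor (ModuleCat.{u} A) n).map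
        (τD (EB A (AdicCompletion I A)) (τB A (AdicCompletion I A)) F)).hom y := by
    rw [hy, ← ModuleCat.comp_apply, ← ModuleCat.comp_apply, ← Functor.map_comp,
      ← Functor.map_comp, he]
  have s2 : (isoB (EB A (AdicCompletion I A)) F n).hom.hom
      (((homologyFunctor (ModuleCat.{u} A) n).map
        (τD (EB A (AdicCompletion I A)) (τB A (AdicCompletion I A)) F)).hom y) =
      ((τB A (AdicCompletion I A)).app (F.homology n)).hom ((isoA F n).hom.hom y) := by
    rw [← ModuleCat.comp_apply, ← ModuleCat.comp_apply, homology_τD]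
  have s4 : φ n ((isoA F n).hom.hom y) = x := by
    change ((homologyFunctor (ModuleCat.{u} A) n).map e₀.hom).hom
      ((isoA F n).inv.hom ((isoA F n).hom.hom y)) = x
    rw [← ModuleCat.comp_apply (isoA F n).hom, Iso.hom_inv_id, ModuleCat.id_apply, hy,
      ← ModuleCat.comp_apply, ← Functor.map_comp, Iso.inv_hom_id,
      CategoryTheory.Functor.map_id, ModuleCat.id_apply]
  change AdicCompletion.map I (φ n).toLinearMap (adicEquiv I (F.homology n)
    ((isoB (EB A (AdicCompletion I A)) F n).hom.hom
      (((homologyFunctor (ModuleCat.{u} A) n).map e.hom).hom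
        (((homologyFunctor (ModuleCat.{u} A) n).map (DRing.toDerivedCompletion I K)).hom x)))) = _
  rw [s1, s2, adicEquiv_τB, AdicCompletion.map_of]
  exact congrArg _ s4

end Adic

end Groth.Agent.Lib.H6xDc
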