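import Mathlib
import Groth.Agent.Lib.H6xPrjB
set_option backward.isDefEq.respectTransparency.types false

/-!
# helper6: `Rφ(M) ≅ Rφ(1) ⊗ᴸ L M` for a right adjoint `Rφ` of restriction of scalars along `φ : R → R'`
when `R'` is dualizable (perfect) over `R`
-/

set_option autoImplicit false
set_option linter.style.haveILetI false
set_option maxHeartbeats 400000
universe u
open CategoryTheory CategoryTheory.Limits MonoidalCategory
attribute [local instance] HasDerivedCategory.standard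

namespace Groth.Agent.Lib.H6xPrj

section Abs

variable {C : Type*} [Category C] [MonoidalCategory C] {N : C}

lemma tensorLeftAdjunction_counit_app (D : C) [ExactPairing D N] (Z : C) :
    (tensorLeftAdjunction D N).counit.app Z =
      (α_ N D Z).inv ≫ ε_ D N ▷ Z ≫ (λ_ Z).hom := by
  have h := Adjunction.homEquiv_counit (tensorLeftAdjunction D N) (g := 𝟙 ((tensorLeft D).obj Z))
  rw [CategoryTheory.Functor.map_id, Category.id_comp] at h
  rw [← h]
  simp [tensorLeftAdjunction, tensorLeftHomEquiv]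

variable {G : C ⥤ C} (a : tensorLeft N ⊣ G) (M : C) (σ : G.obj (𝟙_ C) ⊗ M ⟶ G.obj M)

/-- if `N` has a left dual and `G` is right adjoint to `N ⊗ -`, then a map `G(1) ⊗ M ⟶ G(M)`
compatible with the counits is an isomorphism -/
theorem isIso_of_counit_compat (D : C) [ExactPairing D N]
    (hσ : N ◁ σ ≫ a.counit.app M =
      (α_ N (G.obj (𝟙_ C)) M).inv ≫ (a.counit.app (𝟙_ C) ▷ M) ≫ (λ_ M).hom) : IsIso σ := by
  let b := tensorLeftAdjunction D N
  let u := a.rightAdjointUniq b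
  have hu : ∀ Z, N ◁ u.hom.app Z ≫ b.counit.app Z = a.counit.app Z :=
    fun Z => Adjunction.rightAdjointUniq_hom_app_counit a b Z
  have key : σ ≫ u.hom.app M = (u.hom.app (𝟙_ C) ≫ (ρ_ D).hom) ▷ M := by
    apply (b.homEquiv _ _).symm.injective
    rw [Adjunction.homEquiv_counit, Adjunction.homEquiv_counit]
    change N ◁ (σ ≫ u.hom.app M) ≫ b.counit.app M =
      N ◁ ((u.hom.app (𝟙_ C) ≫ (ρ_ D).hom) ▷ M) ≫ b.counit.app M
    rw [MonoidalCategory.whiskerLeft_comp, Category.assoc, hu M, hσ, ← hu (𝟙_ C)]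
    rw [tensorLeftAdjunction_counit_app D, tensorLeftAdjunction_counit_app D]
    monoidal
  have h2 : σ = ((u.hom.app (𝟙_ C) ≫ (ρ_ D).hom) ▷ M) ≫ u.inv.app M := by
    rw [← key, Category.assoc, Iso.hom_inv_id_app, Category.comp_id]
  rw [h2]
  infer_instance

end Abs

open DTen DerivedCategory Groth.Agent.Lib.Helper1.KF Groth.Agent.Lib.Helper1.DT
  Groth.Agent.Lib.H6xDTen Groth.Agent.Lib.H6xRBC Groth.Agent.Lib.H6xPF Groth.Agent.Lib.H6xTB

variable {R R' : Type u} [CommRing R] [CommRing R'] (φ : R →+* R')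
  [HasLTen R] [HasLTen₃ R] [IsSymMonoidal R] [HasLTen R'] [HasLTen₃ R'] [IsSymMonoidal R']
  [HasResTen φ] [ResLegIso φ]
  {L : Dual.D R ⥤ Dual.D R'} (adjL : L ⊣ rD φ)
  {Rφ : Dual.D R ⥤ Dual.D R'} (adj : rD φ ⊣ Rφ)

/-- the comparison map `Rφ(1) ⊗ᴸ L M ⟶ Rφ(M)` -/
noncomputable def τM (M : Dual.D R) : tO (Rφ.obj (DTen.unit R)) (L.obj M) ⟶ Rφ.obj M :=
  adj.homEquiv _ _ (inv (πg φ adjL (Rφ.obj (DTen.unit R)) M) ≫
    tH (adj.counit.app (DTen.unit R)) (𝟙 M) ≫ (unitL R).app M)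

lemma res_τM_counit (M : Dual.D R) :
    (rD φ).map (τM φ adjL adj M) ≫ adj.counit.app M =
      inv (πg φ adjL (Rφ.obj (DTen.unit R)) M) ≫
        tH (adj.counit.app (DTen.unit R)) (𝟙 M) ≫ (unitL R).app M := by
  have h := Adjunction.homEquiv_counit adj (g := τM φ adjL adj M)
  rw [← h, τM]
  exact Equiv.symm_apply_apply _ _

/-- the map `res(Rφ 1) ⊗ M ⟶ res (Rφ M)` -/
noncomputable def σM (M : Dual.D R) :
    tO ((rD φ).obj (Rφ.obj (DTen.unit R))) M ⟶ (rD φ).obj (Rφ.obj M) :=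
  πg φ adjL (Rφ.obj (DTen.unit R)) M ≫ (rD φ).map (τM φ adjL adj M)

lemma σM_counit (M : Dual.D R) :
    aD (NN φ) ((rD φ).obj (Rφ.obj (DTen.unit R))) M ≫ tH (𝟙 (NN φ)) (σM φ adjL adj M) ≫
        actL φ (Rφ.obj M) ≫ adj.counit.app M =
      tH (actL φ (Rφ.obj (DTen.unit R)) ≫ adj.counit.app (DTen.unit R)) (𝟙 M) ≫
        (unitL R).app M := by
  have h1 := actL_nat φ (τM φ adjL adj M)
  have h2 := res_τM_counit φ adjL adj M
  have h3 := πg_actL φ adjL (Rφ.obj (DTen.unit R)) M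
  have s1 : tH (𝟙 (NN φ)) (σM φ adjL adj M) =
      tH (𝟙 (NN φ)) (πg φ adjL (Rφ.obj (DTen.unit R)) M) ≫
        tH (𝟙 (NN φ)) ((rD φ).map (τM φ adjL adj M)) := by
    rw [σM, tH_comp, Category.comp_id]
  rw [s1]
  simp only [Category.assoc]
  rw [reassoc_of% h1, h2, reassoc_of% h3, IsIso.hom_inv_id_assoc, tH_comp_assoc, Category.comp_id]

section Main

attribute [local instance] monoidalD

/-- `N ⊗ - ≅ res ∘ L`, with source Mathlib's `tensorLeft` -/
noncomputable def tlIso : tensorLeft (NN φ) ≅ L ⋙ rD φ :=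
  NatIso.ofComponents (fun X => asIso (ρg φ adjL X)) (fun f => ρg_nat φ adjL f)

/-- the adjunction `N ⊗ - ⊣ res ∘ Rφ` -/
noncomputable def adjGl : tensorLeft (NN φ) ⊣ Rφ ⋙ rD φ :=
  (adjL.comp adj).ofNatIsoLeft (tlIso φ adjL).symm

lemma adjGl_counit_app (Y : Dual.D R) :
    (adjGl φ adjL adj).counit.app Y = actL φ (Rφ.obj Y) ≫ adj.counit.app Y := by
  have h := ρg_counit φ adjL (Rφ.obj Y)
  simp only [adjGl, Adjunction.ofNatIsoLeft_counit, NatTrans.comp_app, Functor.whiskerLeft_app,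
    Iso.symm_inv, Adjunction.comp_counit_app, Functor.comp_obj]
  rw [← h, Category.assoc]
  rfl

theorem isIso_σM (D : Dual.D R) [ExactPairing D (NN φ)] (M : Dual.D R) :
    IsIso (σM φ adjL adj M) := by
  refine isIso_of_counit_compat (adjGl φ adjL adj) M (σM φ adjL adj M) D ?_
  rw [adjGl_counit_app, adjGl_counit_app]
  have h := σM_counit φ adjL adj M
  have h2 : NN φ ◁ σM φ adjL adj M ≫ actL φ (Rφ.obj M) ≫ adj.counit.app M =
      (α_ (NN φ) ((rD φ).obj (Rφ.obj (DTen.unit R))) M).inv ≫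
        (aD (NN φ) ((rD φ).obj (Rφ.obj (DTen.unit R))) M ≫ tH (𝟙 (NN φ)) (σM φ adjL adj M) ≫
          actL φ (Rφ.obj M) ≫ adj.counit.app M) :=
    (Iso.inv_hom_id_assoc (α_ (NN φ) ((rD φ).obj (Rφ.obj (DTen.unit R))) M) _).symm
  rw [h] at h2
  exact h2

theorem isIso_τM (D : Dual.D R) [ExactPairing D (NN φ)] (M : Dual.D R) :
    IsIso (τM φ adjL adj M) := by
  apply isIso_of_isIso_rD_map φ
  haveI := isIso_σM φ adjL adj D M
  have h : IsIso (πg φ adjL (Rφ.obj (DTen.unit R)) M ≫ (rD φ).map (τM φ adjL adj M)) :=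
    inferInstanceAs (IsIso (σM φ adjL adj M))
  exact IsIso.of_isIso_comp_left (πg φ adjL (Rφ.obj (DTen.unit R)) M) _

end Main

end Groth.Agent.Lib.H6xPrj
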