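import Mathlib
import Groth.Agent.Lib.H6xPrjC
import Groth.Agent.Lib.Helper1KF2
import Groth.Agent.Lib.Helper1TorL
set_option backward.isDefEq.respectTransparency.types false

/-!
# helper6: auxiliary isomorphisms: the derived tensor product and shifts, comparison of `LTen₂` with
the prelude's one-variable `LTensorCx`
-/

set_option autoImplicit false
set_option linter.style.haveILetI false
set_option maxHeartbeats 400000
universe u
open CategoryTheory CategoryTheory.Limits MonoidalCategory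
attribute [local instance] HasDerivedCategory.standard

namespace Groth.Agent.Lib.H6xPrj

open DTen DerivedCategory Groth.Agent.Lib.Helper1.KF Groth.Agent.Lib.Helper1.DT
  Groth.Agent.Lib.H6xDTen

variable {A : Type u} [CommRing A] [HasLTen A]

/-- the derived tensor product commutes with shifts in the first variable -/
theorem nonempty_tO_shift_left (X Y : Dual.D A) (n : ℤ) :
    Nonempty (tO (X⟦n⟧) Y ≅ (tO X Y)⟦n⟧) := by
  obtain ⟨P, hP, ⟨e⟩⟩ := exists_kflat_iso X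
  obtain ⟨L, ⟨eY⟩⟩ : ∃ L : Cx A, Nonempty (Q.obj L ≅ Y) := ⟨_, ⟨Q.objObjPreimageIso Y⟩⟩
  have hPn : KFlat (P⟦n⟧) := hP.shift n
  let c : Q.obj (P⟦n⟧) ≅ (Q.obj P)⟦n⟧ := (Q.commShiftIso n).app P
  let e1 : tO (X⟦n⟧) Y ≅ tO (Q.obj (P⟦n⟧)) (Q.obj L) :=
    (asIso (tH ((shiftFunctor (Dual.D A) n).map e.hom) eY.hom)).symm ≪≫
      (asIso (tH c.hom (𝟙 (Q.obj L)))).symm
  let e2 : tO (Q.obj (P⟦n⟧)) (Q.obj L) ≅ Q.obj ((P⟦n⟧) ⊗ L) := μK _ _ (Or.inl hPn)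
  let e3 : Q.obj ((P⟦n⟧) ⊗ L) ≅ Q.obj ((P ⊗ L)⟦n⟧) := Q.mapIso (tensorShiftLeftIso P L n)
  let e4 : Q.obj ((P ⊗ L)⟦n⟧) ≅ (Q.obj (P ⊗ L))⟦n⟧ := (Q.commShiftIso n).app (P ⊗ L)
  let e5 : (Q.obj (P ⊗ L))⟦n⟧ ≅ (tO X Y)⟦n⟧ :=
    (shiftFunctor (Dual.D A) n).mapIso ((μK P L (Or.inl hP)).symm ≪≫ asIso (tH e.hom eY.hom))
  exact ⟨e1 ≪≫ e2 ≪≫ e3 ≪≫ e4 ≪≫ e5⟩

/-- the jointly derived tensor product agrees with the one-variable derived functor `- ⊗ᴸ W` -/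
theorem nonempty_LTensorCx_iso (W : Cx A) [DRing.HasLTensorCx A W] (X : Dual.D A) :
    Nonempty ((DRing.LTensorCx A W).obj X ≅ tO X (Q.obj W)) := by
  obtain ⟨P, hP, -, ⟨e⟩⟩ := exists_kproj_iso X
  have hfac := DTen.toLTensorCx_fac A W P
  haveI := Groth.Agent.Lib.Helper1.TorL.isIso_counit_LTensorCx W P
  haveI : IsIso (εX P W) := isIso_εX _ _ (Or.inl (kflat_of_isKProjective P))
  have h1 : IsIso ((DTen.toLTensorCx A W).app (Q.obj P) ≫
      ((DRing.tensorCxQ A W).totalLeftDerivedCounit Q (qis A)).app P) := by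
    rw [hfac]
    exact inferInstanceAs (IsIso (εX P W))
  have h2 : IsIso ((DTen.toLTensorCx A W).app (Q.obj P)) :=
    IsIso.of_isIso_comp_right _ (((DRing.tensorCxQ A W).totalLeftDerivedCounit Q (qis A)).app P)
  let i : tO (Q.obj P) (Q.obj W) ≅ (DRing.LTensorCx A W).obj (Q.obj P) :=
    @asIso _ _ _ _ ((DTen.toLTensorCx A W).app (Q.obj P)) h2
  exact ⟨(DRing.LTensorCx A W).mapIso e.symm ≪≫ i.symm ≪≫ asIso (tH e.hom (𝟙 (Q.obj W)))⟩

end Groth.Agent.Lib.H6xPrj
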