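import Mathlib
import Groth.Agent.Lib.H6xDcJ
import Groth.Agent.Lib.H6xPCevD
import Groth.Agent.Lib.H6xBrgB
import Groth.Agent.Lib.H6xPrjD
set_option backward.isDefEq.respectTransparency.types false

/-!
# helper6: derived completion and `- ⊗ᴸ Y` for pseudo-coherent `Y`; `RHom(Y, -)` preserves derived
complete objects
-/

set_option autoImplicit false
set_option linter.style.haveILetI false
universe u
open CategoryTheory CategoryTheory.Limits Pretriangulated MonoidalCategory
attribute [local instance] HasDerivedCategory.standard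

namespace Groth.Agent.Lib.H6xDc

open DerivedCategory Groth.Agent.Lib.Helper10.DerComplete DerivedCategory.TStructure
  DTen Groth.Agent.Lib.H6xDTen Groth.Agent.Lib.H6xBrg Groth.Agent.Lib.H6xPCev

section Mon

variable {A : Type u} [CommRing A] [HasLTen A] [HasLTen₃ A] [IsSymMonoidal A] [HasRHom A]
  (I : Ideal A)

/-- **(RH)**: `RHom(Y, E)` is derived complete when `E` is -/
theorem isDerivedComplete_RHomR (Y E : Dual.D A) (hE : DRing.IsDerivedComplete I E) :
    DRing.IsDerivedComplete I ((RHomR A Y).obj E) := by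
  rw [isDerivedComplete_iff_forall_crit]
  intro f hf i
  obtain ⟨l⟩ := nonempty_HD_RHom_linearEquiv Y E i
  exact (crit_hom f Y E (hE f hf) i).of_linearEquiv l.symm

attribute [local instance] monoidalD

/-- `X ⊗ᴸ P` is derived complete for `X` derived complete and `P` perfect -/
theorem isDerivedComplete_tO_of_isPerfect (X P : Dual.D A) (hX : DRing.IsDerivedComplete I X)
    (hP : DRing.IsPerfect A P) : DRing.IsDerivedComplete I (tO X P) := by
  obtain ⟨P', ⟨hp⟩⟩ := exists_exactPairing_of_isPerfect P hP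
  letI := hp
  obtain ⟨e⟩ := nonempty_rhom_iso_leftDual_tensor P P' X
  have h1 : DRing.IsDerivedComplete I (tO P X) :=
    (DRing.IsDerivedComplete I).prop_of_iso e (isDerivedComplete_RHomR I P' X hX)
  exact (DRing.IsDerivedComplete I).prop_of_iso ((swapIso P).app X).symm h1

/-- `X ⊗ᴸ Y` is derived complete for `X` derived complete and bounded above and `Y`
pseudo-coherent -/
theorem isDerivedComplete_tO_of_isPseudoCoherent (X Y : Dual.D A)
    (hX : DRing.IsDerivedComplete I X) (b : ℤ) [X.IsLE b] (hY : DRing.IsPseudoCoherent' A Y) :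
    DRing.IsDerivedComplete I (tO X Y) := by
  rw [isDerivedComplete_iff_forall_crit]
  intro f hf i
  obtain ⟨P, C, α, u, w, hT, hP, hC⟩ := exists_perfect_approx Y hY (i - b - 1)
  obtain ⟨Z, v, w', hT'⟩ := distinguished_cocone_triangle (tH (𝟙 X) α)
  have hZ : Z.IsLE (b + (i - b - 1) - 1) := isLE_cone_tH α u w hT (i - b - 1) X b v w' hT'
  have conn := (Groth.Agent.Lib.Helper1.PC.conn_iff_of_distTriang _ hT' (b + (i - b - 1))).2 hZ
  haveI : IsIso ((homologyFunctor (ModuleCat.{u} A) i).map (tH (𝟙 X) α)) :=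
    conn.1 i (by omega)
  have hXP := isDerivedComplete_tO_of_isPerfect I X P hX hP
  exact ((isDerivedComplete_iff_forall_crit I _).1 hXP f hf i).of_linearEquiv
    (asIso ((homologyFunctor (ModuleCat.{u} A) i).map (tH (𝟙 X) α))).toLinearEquiv

/-- `- ⊗ᴸ Y` preserves completion equivalences, in the form of the universal property -/
theorem bijective_tH_comp (Y : Dual.D A) {K K' : Dual.D A} (u : K ⟶ K') (hu : (LO I).trW u)
    (E : Dual.D A) (hE : DRing.IsDerivedComplete I E) :
    Function.Bijective (fun φ : tO K' Y ⟶ E => tH u (𝟙 Y) ≫ φ) := by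
  have hb := bijective_of_trW I u hu _ (isDerivedComplete_RHomR I Y E hE)
  have hnat : ∀ φ : tO K' Y ⟶ E,
      rhomHomEquiv K Y E (tH u (𝟙 Y) ≫ φ) = u ≫ rhomHomEquiv K' Y E φ := fun φ =>
    (rhomAdj A Y).homEquiv_naturality_left u φ
  have h2 : (fun φ : tO K' Y ⟶ E => tH u (𝟙 Y) ≫ φ) =
      (rhomHomEquiv K Y E).symm ∘ (fun g : K' ⟶ (RHomR A Y).obj E => u ≫ g) ∘
        (rhomHomEquiv K' Y E) := by
    funext φ
    simp only [Function.comp_apply]
    rw [← hnat, Equiv.symm_apply_apply]
  rw [h2]
  exact (rhomHomEquiv K Y E).symm.bijective.comp (hb.comp (rhomHomEquiv K' Y E).bijective)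

end Mon

section Cx

open Groth.Agent.Lib.Helper1.KF Groth.Agent.Lib.Helper1.DT Groth.Agent.Lib.H6xPrj

variable {A : Type u} [CommRing A] [HasLTen A]

/-- the comparison `- ⊗ᴸ Q W ⟶ LTensorCx W` is an isomorphism -/
theorem isIso_toLTensorCx_app (W : Cx A) [DRing.HasLTensorCx A W] (X : Dual.D A) :
    IsIso ((DTen.toLTensorCx A W).app X) := by
  obtain ⟨P, hP, -, ⟨e⟩⟩ := exists_kproj_iso X
  have hfac := DTen.toLTensorCx_fac A W P
  haveI := Groth.Agent.Lib.Helper1.TorL.isIso_counit_LTensorCx W P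
  haveI : IsIso (εX P W) := isIso_εX _ _ (Or.inl (kflat_of_isKProjective P))
  have h1 : IsIso ((DTen.toLTensorCx A W).app (Q.obj P) ≫
      ((DRing.tensorCxQ A W).totalLeftDerivedCounit Q (qis A)).app P) := by
    rw [hfac]
    exact inferInstanceAs (IsIso (εX P W))
  have h2 : IsIso ((DTen.toLTensorCx A W).app (Q.obj P)) :=
    IsIso.of_isIso_comp_right _ (((DRing.tensorCxQ A W).totalLeftDerivedCounit Q (qis A)).app P)
  have hn := (DTen.toLTensorCx A W).naturality e.hom
  have h3 : (DTen.toLTensorCx A W).app X =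
      ((LTen A).flip.obj (Q.obj W)).map e.inv ≫ (DTen.toLTensorCx A W).app (Q.obj P) ≫
        (DRing.LTensorCx A W).map e.hom := by
    rw [← hn, ← Functor.map_comp_assoc, Iso.inv_hom_id, CategoryTheory.Functor.map_id,
      Category.id_comp]
  rw [h3]
  infer_instance

/-- `- ⊗ᴸ Q W ≅ LTensorCx W` -/
noncomputable def toLTensorCxIso (W : Cx A) [DRing.HasLTensorCx A W] :
    (LTen A).flip.obj (Q.obj W) ≅ DRing.LTensorCx A W :=
  haveI : ∀ X, IsIso ((DTen.toLTensorCx A W).app X) := isIso_toLTensorCx_app W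
  haveI := NatIso.isIso_of_isIso_app (DTen.toLTensorCx A W)
  asIso (DTen.toLTensorCx A W)

variable [HasLTen₃ A] [IsSymMonoidal A] [HasRHom A] (I : Ideal A)

/-- **S7103, general form** -/
theorem completion_LTensorCx [DRing.HasDerivedCompletion I] (F : Cx A) [DRing.HasLTensorCx A F]
    (hF : DRing.IsPseudoCoherent' A (Q.obj F)) (K : Dual.D A) (b : ℤ) [K.IsLE b] :
    DRing.IsDerivedComplete I
        ((DRing.LTensorCx A F).obj ((DRing.derivedCompletion I).obj K).obj) ∧
      ∀ E : Dual.D A, DRing.IsDerivedComplete I E →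
        Function.Bijective
          (fun φ : (DRing.LTensorCx A F).obj ((DRing.derivedCompletion I).obj K).obj ⟶ E =>
            (DRing.LTensorCx A F).map (DRing.toDerivedCompletion I K) ≫ φ) := by
  haveI := isLE_completion I K b
  set θ := toLTensorCxIso F
  refine ⟨(DRing.IsDerivedComplete I).prop_of_iso (θ.app _)
    (isDerivedComplete_tO_of_isPseudoCoherent I _ (Q.obj F)
      ((DRing.derivedCompletion I).obj K).property b hF), fun E hE => ?_⟩
  have hb := bijective_tH_comp I (Q.obj F) (DRing.toDerivedCompletion I K)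
    (trW_toDerivedCompletion I K) E hE
  have h2 : (fun φ : (DRing.LTensorCx A F).obj ((DRing.derivedCompletion I).obj K).obj ⟶ E =>
      (DRing.LTensorCx A F).map (DRing.toDerivedCompletion I K) ≫ φ) =
      (fun ψ => (θ.app K).inv ≫ ψ) ∘
        (fun φ : tO ((DRing.derivedCompletion I).obj K).obj (Q.obj F) ⟶ E =>
          tH (DRing.toDerivedCompletion I K) (𝟙 (Q.obj F)) ≫ φ) ∘
        (fun φ => (θ.app ((DRing.derivedCompletion I).obj K).obj).hom ≫ φ) := by
    funext φ
    simp only [Function.comp_apply]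
    have hn := θ.hom.naturality (DRing.toDerivedCompletion I K)
    have hn' : tH (DRing.toDerivedCompletion I K) (𝟙 (Q.obj F)) ≫
        (θ.app ((DRing.derivedCompletion I).obj K).obj).hom =
        (θ.app K).hom ≫ (DRing.LTensorCx A F).map (DRing.toDerivedCompletion I K) := hn
    rw [reassoc_of% hn', Iso.inv_hom_id_assoc]
  rw [h2]
  exact ((Iso.homFromEquiv (θ.app K)).bijective).comp
    (hb.comp (Iso.homFromEquiv (θ.app ((DRing.derivedCompletion I).obj K).obj).symm).bijective)

end Cx

end Groth.Agent.Lib.H6xDc
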