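import Mathlib
import Groth.Agent.Lib.H6xDcK
import Groth.Agent.Lib.H6xBrgA
set_option backward.isDefEq.respectTransparency.types false

/-!
# helper6: `Hom•(K, -)` commutes with mapping cones
-/

set_option autoImplicit false
set_option linter.style.haveILetI false
universe u
open CategoryTheory CategoryTheory.Limits Pretriangulated
open CochainComplex CochainComplex.HomComplex
attribute [local instance] HasDerivedCategory.standard

namespace Groth.Agent.Lib.H6xDc

variable {A : Type u} [CommRing A]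

section Post

variable (K : DRing.Cx A) {L L' L'' : DRing.Cx A}

/-- right composition with a cochain, as a linear map -/
noncomputable def compLin' {d : ℤ} (γ : Cochain L L' d) (p q : ℤ) (hpq : p + d = q) :
    Cochain K L p →ₗ[A] Cochain K L' q where
  toFun y := y.comp γ hpq
  map_add' y y' := Cochain.add_comp _ _ _ _
  map_smul' a y := Cochain.smul_comp _ _ _ _

/-- postcomposition with a cochain `γ`, as a cochain between `Hom` complexes -/
noncomputable def postCochain {d : ℤ} (γ : Cochain L L' d) :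
    Cochain (DRing.homCx K L) (DRing.homCx K L') d :=
  Cochain.mk (fun p q hpq => ModuleCat.ofHom (compLin' K γ p q hpq))

lemma postCochain_v_apply {d : ℤ} (γ : Cochain L L' d) (p q : ℤ) (hpq : p + d = q)
    (y : Cochain K L p) :
    ((postCochain K γ).v p q hpq).hom y = y.comp γ hpq := rfl

lemma postCochain_ofHom (f : L ⟶ L') :
    postCochain K (Cochain.ofHom f) = Cochain.ofHom (DRing.homCxMap K f) := by
  ext p
  rw [Cochain.ofHom_v]
  rfl

lemma postCochain_add {d : ℤ} (γ γ' : Cochain L L' d) :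
    postCochain K (γ + γ') = postCochain K γ + postCochain K γ' := by
  ext p q hpq y
  change Cochain K L p at y
  rw [Cochain.add_v]
  change y.comp (γ + γ') hpq = y.comp γ hpq + y.comp γ' hpq
  rw [Cochain.comp_add]

lemma postCochain_zero (d : ℤ) : postCochain K (0 : Cochain L L' d) = 0 := by
  ext p q hpq y
  change Cochain K L p at y
  rw [Cochain.zero_v]
  change y.comp (0 : Cochain L L' d) hpq = 0
  rw [Cochain.comp_zero]

lemma postCochain_neg {d : ℤ} (γ : Cochain L L' d) :
    postCochain K (-γ) = -postCochain K γ := by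
  ext p q hpq y
  change Cochain K L p at y
  rw [Cochain.neg_v]
  change y.comp (-γ) hpq = -(y.comp γ hpq)
  rw [Cochain.comp_neg]

lemma postCochain_comp {d d' d'' : ℤ} (γ : Cochain L L' d) (γ' : Cochain L' L'' d')
    (h : d + d' = d'') :
    postCochain K (γ.comp γ' h) = (postCochain K γ).comp (postCochain K γ') h := by
  ext p q hpq y
  change Cochain K L p at y
  rw [Cochain.comp_v _ _ h p (p + d) q rfl (by omega)]
  change y.comp (γ.comp γ' h) hpq = (y.comp γ rfl).comp γ' (by omega)
  rw [Cochain.comp_assoc _ _ _ rfl h (by omega)]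

lemma δ_postCochain {d d' : ℤ} (γ : Cochain L L' d) (h : d + 1 = d') :
    δ d d' (postCochain K γ) = postCochain K (δ d d' γ) := by
  ext p q hpq y
  change Cochain K L p at y
  rw [δ_v d d' h (postCochain K γ) p q hpq (q - 1) (p + 1) rfl rfl]
  change δ (q - 1) q (y.comp γ (by omega)) + d'.negOnePow • (δ p (p + 1) y).comp γ (by omega) =
    y.comp (δ d d' γ) hpq
  rw [δ_comp y γ (show p + d = q - 1 by omega) (p + 1) d' q (by omega) rfl h]
  subst h
  rw [Int.negOnePow_succ, add_assoc, Units.neg_smul, add_neg_cancel, add_zero]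

end Post

section Cone

variable (K : DRing.Cx A) {F G : DRing.Cx A} (φ : F ⟶ G)

lemma postCochain_comp_v {L L' L'' : DRing.Cx A} {d d' d'' : ℤ} (γ : Cochain L L' d)
    (γ' : Cochain L' L'' d') (h : d + d' = d'') (p q r : ℤ) (hpq : p + d = q) (hqr : q + d' = r) :
    (postCochain K γ).v p q hpq ≫ (postCochain K γ').v q r hqr =
      (postCochain K (γ.comp γ' h)).v p r (by omega) := by
  rw [postCochain_comp, Cochain.comp_v _ _ h p q r hpq hqr]

lemma homCxMap_f_eq {L L' : DRing.Cx A} (f : L ⟶ L') (n : ℤ) :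
    (DRing.homCxMap K f).f n = (postCochain K (Cochain.ofHom f)).v n n (add_zero n) := by
  rw [postCochain_ofHom, Cochain.ofHom_v]

lemma homCxMap_comp' {L L' L'' : DRing.Cx A} (f : L ⟶ L') (g : L' ⟶ L'') :
    DRing.homCxMap K (f ≫ g) = DRing.homCxMap K f ≫ DRing.homCxMap K g :=
  (DRing.homCxFunctor K).map_comp f g

lemma homCxMap_id' (L : DRing.Cx A) : DRing.homCxMap K (𝟙 L) = 𝟙 _ :=
  (DRing.homCxFunctor K).map_id L

/-- `Hom•(K, cone φ) ⟶ cone (Hom•(K, φ))` -/
noncomputable def homCxConeHom :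
    DRing.homCx K (mappingCone φ) ⟶ mappingCone (DRing.homCxMap K φ) :=
  mappingCone.lift (DRing.homCxMap K φ)
    (Cocycle.mk (postCochain K (mappingCone.fst φ).1) 2 (by omega) (by
      rw [δ_postCochain K _ (by omega), Cocycle.δ_eq_zero, postCochain_zero]))
    (postCochain K (mappingCone.snd φ)) (by
      rw [δ_postCochain K _ (zero_add 1), mappingCone.δ_snd, ← postCochain_ofHom]
      change _ + (postCochain K (mappingCone.fst φ).1).comp _ _ = 0
      rw [← postCochain_comp, ← postCochain_add, neg_add_cancel, postCochain_zero])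

/-- `cone (Hom•(K, φ)) ⟶ Hom•(K, cone φ)` -/
noncomputable def homCxConeInv :
    mappingCone (DRing.homCxMap K φ) ⟶ DRing.homCx K (mappingCone φ) :=
  mappingCone.desc (DRing.homCxMap K φ) (postCochain K (mappingCone.inl φ))
    (DRing.homCxMap K (mappingCone.inr φ)) (by
      rw [δ_postCochain K _ (neg_add_cancel 1), mappingCone.δ_inl, postCochain_ofHom,
        homCxMap_comp'])

lemma homCxConeHom_inv : homCxConeHom K φ ≫ homCxConeInv K φ = 𝟙 _ := by
  apply HomologicalComplex.hom_ext
  intro n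
  rw [HomologicalComplex.comp_f]
  unfold homCxConeHom homCxConeInv
  rw [mappingCone.lift_desc_f _ _ _ _ _ _ _ n (n + 1) rfl]
  change (postCochain K (mappingCone.fst φ).1).v n (n + 1) rfl ≫
    (postCochain K (mappingCone.inl φ)).v (n + 1) n (by omega) +
    (postCochain K (mappingCone.snd φ)).v n n (add_zero n) ≫
      (DRing.homCxMap K (mappingCone.inr φ)).f n = _
  rw [homCxMap_f_eq, postCochain_comp_v K _ _ (add_neg_cancel 1),
    postCochain_comp_v K _ _ (add_zero 0), ← Cochain.add_v, ← postCochain_add, mappingCone.id,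
    postCochain_ofHom, Cochain.ofHom_v, homCxMap_id']

lemma homCxConeInv_hom : homCxConeInv K φ ≫ homCxConeHom K φ = 𝟙 _ := by
  apply HomologicalComplex.hom_ext
  intro n
  rw [mappingCone.ext_from_iff _ (n + 1) n rfl]
  unfold homCxConeHom homCxConeInv
  constructor
  · rw [HomologicalComplex.comp_f, mappingCone.inl_v_desc_f_assoc,
      mappingCone.ext_to_iff _ n (n + 1) rfl]
    constructor
    · rw [Category.assoc, mappingCone.lift_f_fst_v]
      change (postCochain K (mappingCone.inl φ)).v (n + 1) n (by omega) ≫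
        (postCochain K (mappingCone.fst φ).1).v n (n + 1) rfl = _
      rw [postCochain_comp_v K _ _ (neg_add_cancel 1), mappingCone.inl_fst, postCochain_ofHom,
        Cochain.ofHom_v, homCxMap_id']
      simp
    · rw [Category.assoc, mappingCone.lift_f_snd_v]
      rw [postCochain_comp_v K _ _ (add_zero (-1)), mappingCone.inl_snd, postCochain_zero]
      simp
  · rw [HomologicalComplex.comp_f, mappingCone.inr_f_desc_f_assoc,
      mappingCone.ext_to_iff _ n (n + 1) rfl]
    constructor
    · rw [Category.assoc, mappingCone.lift_f_fst_v]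
      change (DRing.homCxMap K (mappingCone.inr φ)).f n ≫
        (postCochain K (mappingCone.fst φ).1).v n (n + 1) rfl = _
      rw [homCxMap_f_eq, postCochain_comp_v K _ _ (zero_add 1), mappingCone.inr_fst,
        postCochain_zero]
      simp
    · rw [Category.assoc, mappingCone.lift_f_snd_v]
      rw [homCxMap_f_eq, postCochain_comp_v K _ _ (zero_add 0), mappingCone.inr_snd,
        postCochain_ofHom, Cochain.ofHom_v, homCxMap_id']
      simp

/-- `Hom•(K, cone φ) ≅ cone (Hom•(K, φ))` -/
noncomputable def homCxConeIso :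
    DRing.homCx K (mappingCone φ) ≅ mappingCone (DRing.homCxMap K φ) where
  hom := homCxConeHom K φ
  inv := homCxConeInv K φ
  hom_inv_id := homCxConeHom_inv K φ
  inv_hom_id := homCxConeInv_hom K φ

end Cone

section LOhom

open DerivedCategory Groth.Agent.Lib.Helper1.KF Groth.Agent.Lib.Helper1.DT
  Groth.Agent.Lib.H6xBrg Groth.Agent.Lib.Helper17.KInj Groth.Agent.Lib.Helper1.Tor

variable (K : DRing.Cx A)

lemma homCxMap_zero (L L' : DRing.Cx A) : DRing.homCxMap K (0 : L ⟶ L') = 0 := by
  have h : Cochain.ofHom (DRing.homCxMap K (0 : L ⟶ L')) = 0 := by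
    rw [← postCochain_ofHom, Cochain.ofHom_zero, postCochain_zero]
  apply HomologicalComplex.hom_ext
  intro n
  have := Cochain.congr_v h n n (add_zero n)
  rw [Cochain.ofHom_v, Cochain.zero_v] at this
  exact this

lemma homCxMap_smul_id (f : A) (L : DRing.Cx A) :
    DRing.homCxMap K (f • 𝟙 L) = f • 𝟙 (DRing.homCx K L) := by
  apply HomologicalComplex.hom_ext
  intro n
  apply ModuleCat.hom_ext
  apply LinearMap.ext
  intro y
  change Cochain K L n at y
  change y.comp (Cochain.ofHom (f • 𝟙 L)) (add_zero n) = f • y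
  have h1 : Cochain.ofHom (f • 𝟙 L) = f • Cochain.ofHom (𝟙 L) := by
    ext p
    rw [Cochain.smul_v, Cochain.ofHom_v, Cochain.ofHom_v]
    rfl
  rw [h1, Cochain.comp_smul, Cochain.comp_id]

/-- `Hom•(K, Kf f Z) ≅ Kf f (Hom•(K, Z))` -/
noncomputable def homKfIso (f : A) (Z : DRing.Cx A) :
    DRing.homCx K (Kf f Z) ≅ Kf f (DRing.homCx K Z) :=
  homCxConeIso K (f • 𝟙 Z) ≪≫ mappingConeCongr (homCxMap_smul_id K f Z)

/-- `Hom•(K, -)` on isomorphisms -/
noncomputable def homCxMapIso {L L' : DRing.Cx A} (e : L ≅ L') :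
    DRing.homCx K L ≅ DRing.homCx K L' :=
  (DRing.homCxFunctor K).mapIso e

/-- `Hom•(K, Kfs fs Z) ≅ Kfs fs (Hom•(K, Z))` -/
noncomputable def homKfsIso : (fs : List A) → (Z : DRing.Cx A) →
    (DRing.homCx K (Kfs fs Z) ≅ Kfs fs (DRing.homCx K Z))
  | [], _ => Iso.refl _
  | f :: fs, Z => homKfsIso fs (Kf f Z) ≪≫ KfsIso fs (homKfIso K f Z)

lemma isKInjective_Kfs : ∀ (fs : List A) (Z : DRing.Cx A), Z.IsKInjective →
    (Kfs fs Z).IsKInjective := by
  intro fs
  induction fs with
  | nil => intro Z h; exact h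
  | cons f fs ih =>
    intro Z h
    haveI := h
    exact ih _ (isKInjective_mappingCone (f • 𝟙 Z))

/-- `Hom•(K, J)` is acyclic for `J` acyclic and K-injective -/
lemma isZero_Q_homCx (J : DRing.Cx A) [J.IsKInjective] (hJ : IsZero (Q.obj J)) :
    IsZero (Q.obj (DRing.homCx K J)) := by
  have hac : J.Acyclic := fun i => exactAt_of_isZero_Q J hJ i
  have h := CochainComplex.IsKInjective.homotopyZero (𝟙 J) hac
  have h2 := Q_map_eq_of_homotopy (homotopyHomCxMap K h)
  rw [homCxMap_id', homCxMap_zero, CategoryTheory.Functor.map_id, Functor.map_zero] at h2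
  exact (IsZero.iff_id_eq_zero _).2 h2

variable (I : Ideal A)

/-- `Hom•(K, -)` preserves the left orthogonal of the derived complete objects, on K-injective
complexes -/
theorem LO_homCx (s : Finset A) (hs : Ideal.span (s : Set A) = I) (Z : DRing.Cx A)
    [Z.IsKInjective] (h : LO I (Q.obj Z)) : LO I (Q.obj (DRing.homCx K Z)) := by
  have hfs := span_toList I s hs
  have hmem : ∀ f ∈ s.toList, f ∈ I := fun f hf => by
    rw [← hfs]
    exact Ideal.subset_span hf
  have h1 := isZero_Q_Kfs_of_LO I s.toList hfs Z h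
  haveI := isKInjective_Kfs s.toList Z inferInstance
  have h2 := isZero_Q_homCx K (Kfs s.toList Z) h1
  exact LO_of_isZero_Q_Kfs I s.toList hmem _
    (h2.of_iso (Q.mapIso (homKfsIso K s.toList Z)).symm)

/-- `RHom(K, -)` preserves completion equivalences -/
theorem trW_RHomCx_map (s : Finset A) (hs : Ideal.span (s : Set A) = I) [DRing.HasRHomCx K]
    {L L' : Dual.D A} (u : L ⟶ L') (hu : (LO I).trW u) :
    (LO I).trW ((DRing.RHomCx K).map u) := by
  obtain ⟨J₁, f₁, hJ₁, hf₁, -, -⟩ :=
    exists_kInjective_resolution.{u} (ModuleCat.{u} A) (Q.objPreimage L)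
  obtain ⟨J₂, f₂, hJ₂, hf₂, -, -⟩ :=
    exists_kInjective_resolution.{u} (ModuleCat.{u} A) (Q.objPreimage L')
  haveI := hJ₁
  haveI := hJ₂
  haveI : IsIso (Q.map f₁) := (DerivedCategory.isIso_Q_map_iff_quasiIso (φ := f₁)).2 hf₁
  haveI : IsIso (Q.map f₂) := (DerivedCategory.isIso_Q_map_iff_quasiIso (φ := f₂)).2 hf₂
  let e₁ : L ≅ Q.obj J₁ := (Q.objObjPreimageIso L).symm ≪≫ asIso (Q.map f₁)
  let e₂ : L' ≅ Q.obj J₂ := (Q.objObjPreimageIso L').symm ≪≫ asIso (Q.map f₂)
  obtain ⟨υ, hυ⟩ := exists_Q_map_eq (K := J₁) (L := J₂) (e₁.inv ≫ u ≫ e₂.hom)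
  have hW : (LO I).trW (Q.map υ) := by
    rw [hυ, (LO I).trW.cancel_left_of_respectsIso, (LO I).trW.cancel_right_of_respectsIso]
    exact hu
  have hcone : LO I (Q.obj (mappingCone υ)) :=
    ((LO I).trW_iff_of_distinguished _ (mappingCone_triangle_distinguished υ)).1 hW
  haveI : (mappingCone υ).IsKInjective := isKInjective_mappingCone υ
  have h2 : LO I (Q.obj (DRing.homCx K (mappingCone υ))) := LO_homCx K I s hs _ hcone
  have h3 : LO I (Q.obj (mappingCone (DRing.homCxMap K υ))) :=
    (LO I).prop_of_iso (Q.mapIso (homCxConeIso K υ)) h2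
  have h4 : (LO I).trW (Q.map (DRing.homCxMap K υ)) :=
    ⟨_, _, _, mappingCone_triangle_distinguished (DRing.homCxMap K υ), h3⟩
  have hn : (DRing.homCxQ K).map υ ≫ (rhomUnit K).app J₂ =
      (rhomUnit K).app J₁ ≫ (Q ⋙ DRing.RHomCx K).map υ := (rhomUnit K).naturality υ
  have h5 : (LO I).trW ((Q ⋙ DRing.RHomCx K).map υ) := by
    have h6 : (Q ⋙ DRing.RHomCx K).map υ =
        inv ((rhomUnit K).app J₁) ≫ (DRing.homCxQ K).map υ ≫ (rhomUnit K).app J₂ := by
      rw [hn, IsIso.inv_hom_id_assoc]
    rw [h6, (LO I).trW.cancel_left_of_respectsIso, (LO I).trW.cancel_right_of_respectsIso]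
    exact h4
  have h7 : u = e₁.hom ≫ Q.map υ ≫ e₂.inv := by
    rw [hυ]
    simp
  rw [h7, Functor.map_comp, Functor.map_comp, (LO I).trW.cancel_left_of_respectsIso,
    (LO I).trW.cancel_right_of_respectsIso]
  exact h5

end LOhom

end Groth.Agent.Lib.H6xDc
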