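import Mathlib

/-!
# Divided-power calculus for "partial derivative" operators on a module (helper6)

`D i (x i • z) = z + x i • D i z` and `D i (x j • z) = x j • D i z` for `j ≠ i`.  Starting from a
vector `v` killed by all `x i`, the vector `w = ∏ (D i)^N v` is killed by all `x i ^ (N+1)` and
`(∏ x i ^ N) • w = ((-1)^N N!)^d • v`.
-/

set_option autoImplicit false
universe u v

namespace Groth.Agent.Lib.H6xDer

variable {A : Type u} [CommRing A] {M : Type v} [AddCommGroup M] [Module A M]

section single

variable (x : A) (D : M →+ M) (hD : ∀ z, D (x • z) = z + x • D z)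
include hD

theorem smul_iterate_succ {u : M} (hu : x • u = 0) (N : ℕ) :
    x • D^[N + 1] u = -((N + 1) • D^[N] u) := by
  induction N with
  | zero =>
    have h1 := hD u
    rw [hu, map_zero] at h1
    simp only [Function.iterate_one, Function.iterate_zero, id_eq, zero_add, one_smul]
    exact eq_neg_of_add_eq_zero_right h1.symm
  | succ N ih =>
    have h1 := hD (D^[N + 1] u)
    rw [ih, map_neg, map_nsmul] at h1
    rw [Function.iterate_succ_apply' D (N + 1) u]
    have h2 : x • D (D^[N + 1] u) = -((N + 1) • D (D^[N] u)) - D^[N + 1] u := by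
      rw [h1]; abel
    rw [h2, ← Function.iterate_succ_apply' D N u, succ_nsmul (D^[N + 1] u) (N + 1)]
    abel

/-- `x^N • D^N u = (-1)^N N! • u`. -/
theorem pow_smul_iterate {u : M} (hu : x • u = 0) (N : ℕ) :
    x ^ N • D^[N] u = ((-1 : ℤ) ^ N * (N.factorial : ℤ)) • u := by
  induction N with
  | zero => simp
  | succ N ih =>
    have h1 : x ^ (N + 1) • D^[N + 1] u = -((N + 1) • (x ^ N • D^[N] u)) := by
      rw [pow_succ, mul_smul, smul_iterate_succ x D hD hu N, smul_neg, smul_comm (x ^ N)]
    rw [h1, ih, ← natCast_zsmul, smul_smul, ← neg_smul]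
    congr 1
    rw [Nat.factorial_succ, pow_succ]
    push_cast
    ring

theorem pow_succ_smul_iterate {u : M} (hu : x • u = 0) (N : ℕ) :
    x ^ (N + 1) • D^[N] u = 0 := by
  rw [pow_succ', mul_smul, pow_smul_iterate x D hD hu N, smul_comm, hu, smul_zero]

end single

section commute

/-- The scalars commuting with an additive operator. -/
theorem iterate_smul_comm (D : M →+ M) (a : A) (h : ∀ z, D (a • z) = a • D z) (N : ℕ) (z : M) :
    D^[N] (a • z) = a • D^[N] z := by
  induction N generalizing z with
  | zero => rfl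
  | succ N ih => rw [Function.iterate_succ_apply, h, ih, ← Function.iterate_succ_apply]

theorem smul_comm_mul (D : M →+ M) (a b : A) (ha : ∀ z, D (a • z) = a • D z)
    (hb : ∀ z, D (b • z) = b • D z) (z : M) : D ((a * b) • z) = (a * b) • D z := by
  rw [mul_smul, ha, hb, mul_smul]

theorem smul_comm_pow (D : M →+ M) (a : A) (ha : ∀ z, D (a • z) = a • D z) (n : ℕ) (z : M) :
    D ((a ^ n) • z) = (a ^ n) • D z := by
  induction n generalizing z with
  | zero => simp
  | succ n ih => rw [pow_succ, mul_smul, ih, ha, ← mul_smul]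

end commute

section multi

variable {ι : Type*} (x : ι → A) (D : ι → M →+ M)
  (hD1 : ∀ i z, D i (x i • z) = z + x i • D i z)
  (hD2 : ∀ i j, i ≠ j → ∀ z, D i (x j • z) = x j • D i z)

/-- The iterated operator `∏_{i ∈ l} (D i)^N`. -/
def Dl (N : ℕ) : List ι → M → M
  | [], v => v
  | i :: l, v => (D i)^[N] (Dl N l v)

include hD1 hD2

theorem Dl_spec (N : ℕ) {v : M} (hv : ∀ i, x i • v = 0) :
    ∀ l : List ι, l.Nodup →
      (∀ i, i ∉ l → x i • Dl D N l v = 0) ∧ (∀ i, i ∈ l → x i ^ (N + 1) • Dl D N l v = 0) ∧
        (l.map (fun i => x i ^ N)).prod • Dl D N l v =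
          (((-1 : ℤ) ^ N * (N.factorial : ℤ)) ^ l.length) • v
  | [], _ => by
    refine ⟨fun i _ => hv i, fun i hi => absurd hi List.not_mem_nil, ?_⟩
    simp [Dl]
  | i :: l, hnd => by
    obtain ⟨hil, hl⟩ := List.nodup_cons.1 hnd
    obtain ⟨hA, hB, hC⟩ := Dl_spec N hv l hl
    have hu : x i • Dl D N l v = 0 := hA i hil
    refine ⟨?_, ?_, ?_⟩
    · intro j hj
      have hji : j ≠ i := fun h => hj (h ▸ List.mem_cons_self)
      have hjl : j ∉ l := fun h => hj (List.mem_cons_of_mem _ h)
      change x j • (D i)^[N] (Dl D N l v) = 0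
      rw [← iterate_smul_comm (D i) (x j) (hD2 i j hji.symm), hA j hjl]
      exact iterate_map_zero (D i) N
    · intro j hj
      change x j ^ (N + 1) • (D i)^[N] (Dl D N l v) = 0
      rcases List.mem_cons.1 hj with rfl | hjl
      · exact pow_succ_smul_iterate (x j) (D j) (hD1 j) hu N
      · have hji : j ≠ i := fun h => hil (h ▸ hjl)
        rw [← iterate_smul_comm (D i) (x j ^ (N + 1))
          (smul_comm_pow (D i) (x j) (hD2 i j hji.symm) (N + 1)), hB j hjl]
        exact iterate_map_zero (D i) N
    · change ((x i ^ N) * (l.map (fun i => x i ^ N)).prod) • (D i)^[N] (Dl D N l v) = _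
      have hcomm : ∀ z, D i ((l.map (fun i => x i ^ N)).prod • z) =
          (l.map (fun i => x i ^ N)).prod • D i z := by
        have : ∀ l' : List ι, i ∉ l' → ∀ z, D i ((l'.map (fun i => x i ^ N)).prod • z) =
            (l'.map (fun i => x i ^ N)).prod • D i z := by
          intro l'
          induction l' with
          | nil => intro _ z; simp
          | cons j l' ih =>
            intro hi z
            have hij : i ≠ j := fun h => hi (h ▸ List.mem_cons_self)
            have hil' : i ∉ l' := fun h => hi (List.mem_cons_of_mem _ h)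
            rw [List.map_cons, List.prod_cons]
            exact smul_comm_mul (D i) _ _ (smul_comm_pow (D i) (x j) (hD2 i j hij) N) (ih hil') z
        exact this l hil
      rw [mul_smul, ← iterate_smul_comm (D i) _ hcomm, hC]
      have h1 : (D i)^[N] ((((-1 : ℤ) ^ N * (N.factorial : ℤ)) ^ l.length) • v) =
          (((-1 : ℤ) ^ N * (N.factorial : ℤ)) ^ l.length) • (D i)^[N] v :=
        iterate_map_zsmul (D i) N v _
      rw [h1, smul_comm, pow_smul_iterate (x i) (D i) (hD1 i) (hv i) N, smul_smul,
        List.length_cons, pow_succ]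

end multi

end Groth.Agent.Lib.H6xDer
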