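import Mathlib
import Groth.Agent.S0300

/-!
# Injectivity of a power-torsion module from injectivity of its torsion pieces (helper6)
-/

set_option autoImplicit false
universe u

namespace Groth.Agent.Lib.H6xFSt

section transport

theorem injective_of_linearEquiv {R : Type u} [CommRing R] {M N : Type u} [AddCommGroup M]
    [Module R M] [AddCommGroup N] [Module R N] (e : M ≃ₗ[R] N) (h : Module.Injective R M) :
    Module.Injective R N := by
  refine ⟨fun X Y _ _ _ _ f hf g => ?_⟩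
  obtain ⟨G, hG⟩ := h.out f hf (e.symm.toLinearMap ∘ₗ g)
  refine ⟨e.toLinearMap ∘ₗ G, fun x => ?_⟩
  rw [LinearMap.comp_apply, hG x]
  simp

/-- Bass: free modules over a self-injective noetherian ring are injective. -/
theorem injective_finsupp_self (R : Type u) [CommRing R] [IsNoetherianRing R]
    (h : Module.Injective R R) (J : Type u) : Module.Injective R (J →₀ R) := by
  classical
  have h1 : Module.Injective R (DirectSum J (fun _ => R)) :=
    Groth.Agent.S0300.result R (fun _ : J => R) (fun _ => h)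
  exact injective_of_linearEquiv (finsuppLEquivDirectSum R R J).symm h1

end transport

section pieces

variable {A : Type u} [CommRing A] [IsNoetherianRing A]
variable {M : Type u} [AddCommGroup M] [Module A M]

/-- **Injectivity from pieces** (Baer + Artin–Rees). -/
theorem injective_of_pieces (𝔞 : Ideal A) (hM : ∀ m : M, ∃ n : ℕ, ∀ a ∈ 𝔞 ^ n, a • m = 0)
    (I : ℕ → Ideal A) (hI : ∀ n, ∃ e, I e ≤ 𝔞 ^ n)
    (hext : ∀ (e : ℕ) (K : Ideal A) (g : K →ₗ[A] M), (∀ x : K, ∀ a ∈ I e, a • g x = 0) →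
      (∀ x : K, (x : A) ∈ I e → g x = 0) → ∃ m₀ : M, ∀ x : K, g x = (x : A) • m₀) :
    Module.Injective A M := by
  apply Module.Baer.injective
  intro K g
  -- a uniform power killing the image
  have hfg : (⊤ : Submodule A K).FG := Module.Finite.fg_top
  obtain ⟨T, hT⟩ := hfg
  have hn : ∃ n : ℕ, ∀ x : K, ∀ a ∈ 𝔞 ^ n, a • g x = 0 := by
    choose nf hnf using fun t : K => hM (g t)
    refine ⟨T.sup nf, fun x a ha => ?_⟩
    have hx : x ∈ Submodule.span A (T : Set K) := by rw [hT]; trivial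
    induction hx using Submodule.span_induction with
    | mem t ht =>
      exact hnf t a (Ideal.pow_le_pow_right (Finset.le_sup (f := nf) ht) ha)
    | zero => rw [map_zero, smul_zero]
    | add x y _ _ hx hy => rw [map_add, smul_add, hx, hy, add_zero]
    | smul c x _ hx => rw [map_smul, smul_comm, hx, smul_zero]
  obtain ⟨n, hn⟩ := hn
  -- Artin–Rees
  obtain ⟨c, hc⟩ := Ideal.exists_pow_inf_eq_pow_smul 𝔞 (K : Submodule A A)
  have hkill : ∀ x : K, (x : A) ∈ 𝔞 ^ (n + c) → g x = 0 := by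
    intro x hx
    have h1 : (x : A) ∈ 𝔞 ^ (n + c) • (⊤ : Submodule A A) ⊓ K := by
      refine ⟨?_, x.2⟩
      rw [smul_eq_mul, Ideal.mul_top]
      exact hx
    rw [hc (n + c) (Nat.le_add_left c n), Nat.add_sub_cancel] at h1
    -- `x ∈ 𝔞^n • (… ⊓ K)`
    have h2 : ∀ z ∈ 𝔞 ^ n • (𝔞 ^ c • (⊤ : Submodule A A) ⊓ K), ∃ hz : z ∈ K, g ⟨z, hz⟩ = 0 := by
      intro z hz
      refine Submodule.smul_induction_on hz ?_ ?_
      · intro a ha k hk
        refine ⟨K.smul_mem a hk.2, ?_⟩
        have : (⟨a • k, K.smul_mem a hk.2⟩ : K) = a • ⟨k, hk.2⟩ := rfl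
        rw [this, map_smul]
        exact hn _ a ha
      · rintro z1 z2 ⟨hz1, h1⟩ ⟨hz2, h2⟩
        refine ⟨K.add_mem hz1 hz2, ?_⟩
        have : (⟨z1 + z2, K.add_mem hz1 hz2⟩ : K) = ⟨z1, hz1⟩ + ⟨z2, hz2⟩ := rfl
        rw [this, map_add, h1, h2, add_zero]
    obtain ⟨_, h3⟩ := h2 _ h1
    exact h3
  obtain ⟨e, he⟩ := hI (n + c)
  have he' : I e ≤ 𝔞 ^ n := he.trans (Ideal.pow_le_pow_right (Nat.le_add_right n c))
  obtain ⟨m₀, hm₀⟩ := hext e K g (fun x a ha => hn x a (he' ha)) (fun x hx => hkill x (he hx))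
  refine ⟨LinearMap.toSpanSingleton A M m₀, fun x mem => ?_⟩
  rw [LinearMap.toSpanSingleton_apply]
  exact (hm₀ ⟨x, mem⟩).symm

/-- **Extension property of a free torsion piece**: if `M[I]` is free over the self-injective ring
`A ⧸ I`, maps from ideals into `M[I]` killing `K ∩ I` are multiplications. -/
theorem ext_of_free_torsion (I : Ideal A) (hinj : Module.Injective (A ⧸ I) (A ⧸ I)) (J : Type u)
    (ψ : (J →₀ A ⧸ I) ≃ₗ[A] Submodule.torsionBySet A M (I : Set A))
    (K : Ideal A) (g : K →ₗ[A] M) (h1 : ∀ x : K, ∀ a ∈ I, a • g x = 0)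
    (h2 : ∀ x : K, (x : A) ∈ I → g x = 0) : ∃ m₀ : M, ∀ x : K, g x = (x : A) • m₀ := by
  have hP : Module.Injective (A ⧸ I) (J →₀ A ⧸ I) := injective_finsupp_self (A ⧸ I) hinj J
  let g₁ : K →ₗ[A] Submodule.torsionBySet A M (I : Set A) :=
    g.codRestrict _ (fun x => (Submodule.mem_torsionBySet_iff _ _).2 (fun a => h1 x a a.2))
  let g₂ : K →ₗ[A] (J →₀ A ⧸ I) := ψ.symm.toLinearMap ∘ₗ g₁
  let Kbar : Ideal (A ⧸ I) := K.map (Ideal.Quotient.mk I)
  let π : K →ₗ[A] Kbar :=
    { toFun := fun x => ⟨Ideal.Quotient.mk I x, Ideal.mem_map_of_mem _ x.2⟩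
      map_add' := fun x y => by
        apply Subtype.ext
        simp
      map_smul' := fun a x => by
        apply Subtype.ext
        simp [Algebra.smul_def] }
  have hπ : Function.Surjective π := by
    rintro ⟨y, hy⟩
    obtain ⟨x, hx, rfl⟩ :=
      (Ideal.mem_map_iff_of_surjective _ Ideal.Quotient.mk_surjective).1 hy
    exact ⟨⟨x, hx⟩, rfl⟩
  have hker : LinearMap.ker π ≤ LinearMap.ker g₂ := by
    intro x hx
    rw [LinearMap.mem_ker] at hx ⊢
    have hxI : (x : A) ∈ I := by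
      have := congrArg Subtype.val hx
      exact Ideal.Quotient.eq_zero_iff_mem.1 this
    have h3 : g₁ x = 0 := by
      apply Subtype.ext
      exact h2 x hxI
    change ψ.symm (g₁ x) = 0
    rw [h3, map_zero]
  let gbarA : Kbar →ₗ[A] (J →₀ A ⧸ I) :=
    (LinearMap.ker π).liftQ g₂ hker ∘ₗ (LinearMap.quotKerEquivOfSurjective π hπ).symm.toLinearMap
  have hgbarA : ∀ x : K, gbarA (π x) = g₂ x := by
    intro x
    have : (LinearMap.quotKerEquivOfSurjective π hπ).symm (π x) = Submodule.Quotient.mk x := by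
      rw [LinearEquiv.symm_apply_eq]
      rfl
    change (LinearMap.ker π).liftQ g₂ hker ((LinearMap.quotKerEquivOfSurjective π hπ).symm (π x)) = _
    rw [this]
    rfl
  have hsurj : Function.Surjective (algebraMap A (A ⧸ I)) := Ideal.Quotient.mk_surjective
  let gbar : Kbar →ₗ[A ⧸ I] (J →₀ A ⧸ I) := gbarA.extendScalarsOfSurjective hsurj
  obtain ⟨G, hG⟩ := Module.Baer.of_injective hP Kbar gbar
  refine ⟨(ψ (G 1) : M), fun x => ?_⟩
  have h4 : g₂ x = (x : A) • G 1 := by
    rw [← hgbarA x]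
    have h5 := hG (Ideal.Quotient.mk I x) (Ideal.mem_map_of_mem _ x.2)
    change G (Ideal.Quotient.mk I x) = gbarA (π x) at h5
    rw [← h5]
    have h6 : Ideal.Quotient.mk I (x : A) = (Ideal.Quotient.mk I (x : A)) • (1 : A ⧸ I) := by
      rw [smul_eq_mul, mul_one]
    rw [h6, map_smul]
    rfl
  have h7 : g₁ x = ψ (g₂ x) := by
    change g₁ x = ψ (ψ.symm (g₁ x))
    rw [LinearEquiv.apply_symm_apply]
  have h8 : g x = ((g₁ x : Submodule.torsionBySet A M (I : Set A)) : M) := rfl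
  rw [h8, h7, h4, map_smul]
  rfl

end pieces

end Groth.Agent.Lib.H6xFSt
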