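import Mathlib
import Groth.Agent.Lib.H6xFStB
import Groth.Agent.S0300
import Groth.Agent.S0302
import Groth.Agent.S0311

/-!
# Injective power-torsion modules over a noetherian local ring are sums of copies of `E` (helper6)
-/

set_option autoImplicit false
universe u

namespace Groth.Agent.Lib.H6xFSt

open IsLocalRing

section ess

variable {A : Type u} [CommRing A] [IsLocalRing A]

/-- In a power-torsion module every nonzero submodule meets the socle. -/
theorem inf_ne_bot_of_powerTorsion {X : Type u} [AddCommGroup X] [Module A X]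
    (hX : ∀ x : X, ∃ n : ℕ, ∀ a ∈ maximalIdeal A ^ n, a • x = 0) (W : Submodule A X)
    (hW : Submodule.torsionBySet A X (maximalIdeal A : Set A) ≤ W) (N : Submodule A X)
    (hN : N ≠ ⊥) : N ⊓ W ≠ ⊥ := by
  classical
  obtain ⟨x, hxN, hx0⟩ := (Submodule.ne_bot_iff N).1 hN
  have hex := hX x
  have hfind := Nat.find_spec hex
  have hmin := fun m hm => Nat.find_min hex (m := m) hm
  generalize Nat.find hex = n at hfind hmin
  cases n with
  | zero =>
    exfalso
    apply hx0
    have := hfind 1 (by rw [pow_zero, Ideal.one_eq_top]; trivial)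
    rwa [one_smul] at this
  | succ k =>
    have h1 := hmin k (Nat.lt_succ_self k)
    push Not at h1
    obtain ⟨a, ha, hax⟩ := h1
    intro hbot
    apply hax
    have hmem : a • x ∈ N ⊓ W := by
      refine ⟨N.smul_mem a hxN, hW ?_⟩
      rw [Submodule.mem_torsionBySet_iff]
      rintro ⟨b, hb⟩
      rw [smul_smul]
      apply hfind
      rw [pow_succ']
      exact Ideal.mul_mem_mul hb ha
    rw [hbot] at hmem
    exact (Submodule.mem_bot A).1 hmem

variable {E : Type u} [AddCommGroup E] [Module A E]

/-- The socle of an essential extension of the residue field is the residue field. -/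
theorem socle_le_range {f : (A ⧸ maximalIdeal A) →ₗ[A] E} (hf : InjHull.IsEssentialInj f) :
    Submodule.torsionBySet A E (maximalIdeal A : Set A) ≤ LinearMap.range f := by
  intro x hx
  by_cases hx0 : x = 0
  · rw [hx0]; exact Submodule.zero_mem _
  have hne : Submodule.span A {x} ≠ ⊥ := by
    rw [Ne, Submodule.span_singleton_eq_bot]
    exact hx0
  obtain ⟨z, hz, hz0⟩ := (Submodule.ne_bot_iff _).1 (hf.essential _ hne)
  obtain ⟨a, rfl⟩ := Submodule.mem_span_singleton.1 hz.1
  obtain ⟨c, hc⟩ := hz.2
  have hunit : IsUnit a := by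
    by_contra h
    apply hz0
    exact (Submodule.mem_torsionBySet_iff _ _).1 hx ⟨a, (mem_maximalIdeal _).2 h⟩
  obtain ⟨b, hb⟩ := hunit.exists_left_inv
  refine ⟨b • c, ?_⟩
  rw [map_smul, hc, smul_smul, hb, one_smul]

end ess

section main

variable {A : Type u} [CommRing A] [IsLocalRing A] [IsNoetherianRing A]
variable {E : Type u} [AddCommGroup E] [Module A E]
variable {M : Type u} [AddCommGroup M] [Module A M]

omit [IsNoetherianRing A] in
theorem finsupp_powerTorsion (J : Type u)
    (hE : ∀ x : E, ∃ n : ℕ, ∀ a ∈ maximalIdeal A ^ n, a • x = 0) (v : J →₀ E) :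
    ∃ n : ℕ, ∀ a ∈ maximalIdeal A ^ n, a • v = 0 := by
  classical
  choose nf hnf using hE
  refine ⟨v.support.sup (fun j => nf (v j)), fun a ha => ?_⟩
  ext j
  rw [Finsupp.smul_apply, Finsupp.zero_apply]
  by_cases hj : j ∈ v.support
  · exact hnf (v j) a (Ideal.pow_le_pow_right (Finset.le_sup (f := fun j => nf (v j)) hj) ha)
  · rw [Finsupp.notMem_support_iff.1 hj, smul_zero]

/-- The hull of a sum of copies of the residue field. -/
theorem isInjectiveHull_mapRange {f : (A ⧸ maximalIdeal A) →ₗ[A] E}
    (hf : InjHull.IsInjectiveHull f)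
    (hE : ∀ x : E, ∃ n : ℕ, ∀ a ∈ maximalIdeal A ^ n, a • x = 0) (J : Type u) :
    InjHull.IsInjectiveHull
      (Finsupp.mapRange.linearMap f : (J →₀ A ⧸ maximalIdeal A) →ₗ[A] (J →₀ E)) := by
  classical
  refine ⟨⟨?_, ?_⟩, ?_⟩
  · exact Finsupp.mapRange_injective f (map_zero f) hf.injective
  · apply inf_ne_bot_of_powerTorsion (finsupp_powerTorsion J hE)
    intro v hv
    -- each coordinate lies in the socle of `E`
    have hcoord : ∀ j, v j ∈ LinearMap.range f := by
      intro j
      apply socle_le_range hf.toIsEssentialInj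
      rw [Submodule.mem_torsionBySet_iff]
      intro a
      have := (Submodule.mem_torsionBySet_iff _ _).1 hv a
      have h2 := DFunLike.congr_fun this j
      rwa [Finsupp.smul_apply, Finsupp.zero_apply] at h2
    let g : E → A ⧸ maximalIdeal A := fun x =>
      if h : x ∈ LinearMap.range f then h.choose else 0
    have hg : ∀ x ∈ LinearMap.range f, f (g x) = x := by
      intro x hx
      simp only [g, dif_pos hx]
      exact hx.choose_spec
    have hg0 : g 0 = 0 := by
      apply hf.injective
      rw [hg 0 (Submodule.zero_mem _), map_zero]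
    refine ⟨Finsupp.mapRange g hg0 v, ?_⟩
    ext j
    change f (g (v j)) = v j
    exact hg _ (hcoord j)
  · have h1 : Module.Injective A (DirectSum J (fun _ => E)) :=
      Groth.Agent.S0300.result A (fun _ : J => E) (fun _ => hf.isInjective)
    exact injective_of_linearEquiv (finsuppLEquivDirectSum A E J).symm h1

/-- **Injective power-torsion modules are sums of copies of the hull of the residue field.** -/
theorem exists_equiv_finsupp_of_injective {f : (A ⧸ maximalIdeal A) →ₗ[A] E}
    (hf : InjHull.IsInjectiveHull f)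
    (hE : ∀ x : E, ∃ n : ℕ, ∀ a ∈ maximalIdeal A ^ n, a • x = 0)
    (hM : ∀ m : M, ∃ n : ℕ, ∀ a ∈ maximalIdeal A ^ n, a • m = 0)
    (hinj : Module.Injective A M) (J : Type u)
    (ψ : (J →₀ A ⧸ maximalIdeal A) ≃ₗ[A] Submodule.torsionBySet A M (maximalIdeal A : Set A)) :
    Nonempty (M ≃ₗ[A] (J →₀ E)) := by
  let ι₁ : (J →₀ A ⧸ maximalIdeal A) →ₗ[A] M :=
    (Submodule.torsionBySet A M (maximalIdeal A : Set A)).subtype ∘ₗ ψ.toLinearMap
  have h1 : InjHull.IsInjectiveHull ι₁ := by
    refine ⟨⟨?_, ?_⟩, hinj⟩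
    · exact (Submodule.injective_subtype _).comp ψ.injective
    · apply inf_ne_bot_of_powerTorsion hM
      intro x hx
      exact ⟨ψ.symm ⟨x, hx⟩, by simp [ι₁]⟩
  obtain ⟨e, -⟩ := Groth.Agent.S0302.result A (J →₀ A ⧸ maximalIdeal A) M (J →₀ E) ι₁ h1 _
    (isInjectiveHull_mapRange hf hE J)
  exact ⟨e⟩

omit [IsNoetherianRing A] in
/-- The socle is a vector space, hence free. -/
theorem exists_socle_basis :
    ∃ (J : Type u), Nonempty ((J →₀ A ⧸ maximalIdeal A) ≃ₗ[A]
      Submodule.torsionBySet A M (maximalIdeal A : Set A)) := by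
  letI : Field (A ⧸ maximalIdeal A) := Ideal.Quotient.field _
  let b := Module.Basis.ofVectorSpace (A ⧸ maximalIdeal A)
    (Submodule.torsionBySet A M (maximalIdeal A : Set A))
  exact ⟨_, ⟨(b.repr.restrictScalars A).symm⟩⟩

end main

end Groth.Agent.Lib.H6xFSt
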