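import Mathlib
import Groth.Agent.Lib.H6xFStB
import Groth.Agent.Lib.H6xFStE

/-!
# Freeness of a torsion piece from lifts of a socle basis (helper6)
-/

set_option autoImplicit false
universe u

namespace Groth.Agent.Lib.H6xDer

open IsLocalRing Groth.Agent.Lib.H6xFSt

variable {A : Type u} [CommRing A] [IsLocalRing A] [IsNoetherianRing A]
variable {M : Type u} [AddCommGroup M] [Module A M]

/-- Multiplication by a socle representative `σ`, as a map `A ⧸ 𝔪 → A ⧸ I`. -/
noncomputable def socMap (I : Ideal A) (σ : A) (hσ : ∀ a ∈ maximalIdeal A, a * σ ∈ I) :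
    (A ⧸ maximalIdeal A) →ₗ[A] (A ⧸ I) :=
  Submodule.liftQ (maximalIdeal A) ((Submodule.mkQ I) ∘ₗ (LinearMap.toSpanSingleton A A σ)) (by
    intro a ha
    rw [LinearMap.mem_ker, LinearMap.comp_apply, LinearMap.toSpanSingleton_apply, smul_eq_mul]
    exact (Submodule.Quotient.mk_eq_zero _).2 (hσ a ha))

omit [IsNoetherianRing A] in
theorem socMap_mk (I : Ideal A) (σ : A) (hσ : ∀ a ∈ maximalIdeal A, a * σ ∈ I) (a : A) :
    socMap I σ hσ (Ideal.Quotient.mk _ a) = Ideal.Quotient.mk I (a * σ) := rfl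

/-- **Freeness from lifts of the socle.** -/
theorem nonempty_equiv_of_socle_lift (hM : ∀ m : M, ∃ n : ℕ, ∀ a ∈ maximalIdeal A ^ n, a • m = 0)
    (I : Ideal A) (hinj : Module.Injective (A ⧸ I) (A ⧸ I))
    (hpow : ∃ N : ℕ, maximalIdeal A ^ N ≤ I) (σ : A) (hσ : ∀ a ∈ maximalIdeal A, a * σ ∈ I)
    (hsoc : ∀ b : A, (∀ a ∈ maximalIdeal A, a * b ∈ I) → ∃ c : A, b - c * σ ∈ I)
    (J : Type u)
    (ψ₀ : (J →₀ A ⧸ maximalIdeal A) ≃ₗ[A] Submodule.torsionBySet A M (maximalIdeal A : Set A))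
    (w : J → M) (hw1 : ∀ j, ∀ a ∈ I, a • w j = 0)
    (hw2 : ∀ j, σ • w j = (ψ₀ (Finsupp.single j 1) : M)) :
    Nonempty ((J →₀ A ⧸ I) ≃ₗ[A] Submodule.torsionBySet A M (I : Set A)) := by
  classical
  let w' : J → Submodule.torsionBySet A M (I : Set A) :=
    fun j => ⟨w j, (Submodule.mem_torsionBySet_iff _ _).2 (fun a => hw1 j a a.2)⟩
  let Ψ : (J →₀ A ⧸ I) →ₗ[A ⧸ I] Submodule.torsionBySet A M (I : Set A) :=
    Finsupp.linearCombination (A ⧸ I) w'
  let Φ : (J →₀ A ⧸ maximalIdeal A) →ₗ[A] (J →₀ A ⧸ I) :=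
    Finsupp.mapRange.linearMap (socMap I σ hσ)
  -- `Ψ ∘ Φ = ψ₀`
  have hΨΦ : ∀ t, ((Ψ (Φ t) : Submodule.torsionBySet A M (I : Set A)) : M) = (ψ₀ t : M) := by
    intro t
    induction t using Finsupp.induction_linear with
    | zero => simp
    | add s t hs ht =>
      rw [map_add, map_add, map_add, Submodule.coe_add, hs, ht, Submodule.coe_add]
    | single j b =>
      obtain ⟨a, rfl⟩ := Ideal.Quotient.mk_surjective b
      have h1 : Φ (Finsupp.single j (Ideal.Quotient.mk _ a)) =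
          Finsupp.single j (Ideal.Quotient.mk I (a * σ)) := by
        simp only [Φ, Finsupp.mapRange.linearMap_apply, Finsupp.mapRange_single]
        rfl
      rw [h1]
      have h2 : Ψ (Finsupp.single j (Ideal.Quotient.mk I (a * σ))) =
          (Ideal.Quotient.mk I (a * σ)) • w' j :=
        Finsupp.linearCombination_single (A ⧸ I) _ _
      rw [h2]
      have h3 : (((Ideal.Quotient.mk I (a * σ)) • w' j :
          Submodule.torsionBySet A M (I : Set A)) : M) = (a * σ) • w j := rfl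
      rw [h3, mul_smul, hw2 j]
      have h4 : (Finsupp.single j (Ideal.Quotient.mk (maximalIdeal A) a) :
          J →₀ A ⧸ maximalIdeal A) = a • Finsupp.single j 1 := by
        rw [Finsupp.smul_single]
        congr 1
        rw [Algebra.smul_def, mul_one]
        rfl
      rw [h4, map_smul]
      rfl
  -- the socle of `(A/I)^(J)` is the image of `Φ`
  have hX : ∀ x : J →₀ A ⧸ I, ∃ n : ℕ, ∀ a ∈ maximalIdeal A ^ n, a • x = 0 := by
    obtain ⟨N, hN⟩ := hpow
    intro x
    refine ⟨N, fun a ha => ?_⟩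
    ext j
    rw [Finsupp.smul_apply, Finsupp.zero_apply, Algebra.smul_def]
    have : algebraMap A (A ⧸ I) a = 0 := Ideal.Quotient.eq_zero_iff_mem.2 (hN ha)
    rw [this, zero_mul]
  have hsocle : Submodule.torsionBySet A (J →₀ A ⧸ I) (maximalIdeal A : Set A) ≤
      LinearMap.range Φ := by
    intro y hy
    have hcoord : ∀ j, y j ∈ LinearMap.range (socMap I σ hσ) := by
      intro j
      obtain ⟨b, hb⟩ := Ideal.Quotient.mk_surjective (y j)
      have hb2 : ∀ a ∈ maximalIdeal A, a * b ∈ I := by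
        intro a ha
        have h1 := (Submodule.mem_torsionBySet_iff _ _).1 hy ⟨a, ha⟩
        have h2 := DFunLike.congr_fun h1 j
        rw [Finsupp.smul_apply, Finsupp.zero_apply, ← hb, Algebra.smul_def] at h2
        rw [← Ideal.Quotient.eq_zero_iff_mem, map_mul]
        exact h2
      obtain ⟨c, hc⟩ := hsoc b hb2
      refine ⟨Ideal.Quotient.mk _ c, ?_⟩
      rw [socMap_mk, ← hb]
      exact (Ideal.Quotient.eq.2 hc).symm
    let g : (A ⧸ I) → (A ⧸ maximalIdeal A) := fun x =>
      if h : x = 0 then 0 else if h' : x ∈ LinearMap.range (socMap I σ hσ) then h'.choose else 0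
    have hg : ∀ x ∈ LinearMap.range (socMap I σ hσ), socMap I σ hσ (g x) = x := by
      intro x hx
      by_cases h0 : x = 0
      · simp only [g, dif_pos h0, map_zero]; exact h0.symm
      · simp only [g, dif_neg h0, dif_pos hx]
        exact hx.choose_spec
    have hg0 : g 0 = 0 := by simp [g]
    refine ⟨Finsupp.mapRange g hg0 y, ?_⟩
    ext j
    change socMap I σ hσ (g (y j)) = y j
    exact hg _ (hcoord j)
  -- injectivity of `Ψ`
  have hΨinj : Function.Injective Ψ := by
    rw [← LinearMap.ker_eq_bot]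
    by_contra hne
    let N : Submodule A (J →₀ A ⧸ I) := (LinearMap.ker Ψ).restrictScalars A
    have hN : N ≠ ⊥ := by
      intro h
      apply hne
      rw [eq_bot_iff]
      intro x hx
      have : x ∈ N := hx
      rw [h] at this
      exact this
    have h1 := inf_ne_bot_of_powerTorsion hX _ le_rfl N hN
    obtain ⟨y, ⟨hyN, hysoc⟩, hy0⟩ := (Submodule.ne_bot_iff _).1 h1
    obtain ⟨t, rfl⟩ := hsocle hysoc
    have h2 : Ψ (Φ t) = 0 := hyN
    have h3 : (ψ₀ t : M) = 0 := by rw [← hΨΦ t, h2]; rfl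
    have h4 : t = 0 := by
      apply ψ₀.injective
      rw [map_zero]
      exact Subtype.ext h3
    exact hy0 (by rw [h4, map_zero])
  -- a retraction
  have hP : Module.Injective (A ⧸ I) (J →₀ A ⧸ I) := injective_finsupp_self (A ⧸ I) hinj J
  obtain ⟨ρ, hρ⟩ := Module.Injective.extension_property (A ⧸ I) (J →₀ A ⧸ I) _ _ Ψ hΨinj
    LinearMap.id
  have hρΨ : ∀ x, ρ (Ψ x) = x := fun x => LinearMap.congr_fun hρ x
  -- `ker ρ = 0`
  have hρinj : Function.Injective ρ := by
    rw [← LinearMap.ker_eq_bot]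
    by_contra hne
    let N : Submodule A M := Submodule.map (Submodule.torsionBySet A M (I : Set A)).subtype
      ((LinearMap.ker ρ).restrictScalars A)
    have hN : N ≠ ⊥ := by
      intro h
      apply hne
      rw [eq_bot_iff]
      intro x hx
      have : (x : M) ∈ N := ⟨x, hx, rfl⟩
      rw [h] at this
      exact Subtype.ext ((Submodule.mem_bot A).1 this)
    have h1 := inf_ne_bot_of_powerTorsion hM _ le_rfl N hN
    obtain ⟨z, ⟨⟨z', hz', rfl⟩, hzsoc⟩, hz0⟩ := (Submodule.ne_bot_iff _).1 h1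
    obtain ⟨t, ht⟩ := ψ₀.surjective ⟨_, hzsoc⟩
    have h2 : z' = Ψ (Φ t) := by
      apply Subtype.ext
      rw [hΨΦ t, ht]
      rfl
    have h3 : ρ z' = 0 := hz'
    rw [h2, hρΨ] at h3
    apply hz0
    rw [h2, h3, map_zero]
    rfl
  have hΨsurj : Function.Surjective Ψ := by
    intro z
    refine ⟨ρ z, hρinj ?_⟩
    rw [hρΨ]
  exact ⟨(LinearEquiv.ofBijective Ψ ⟨hΨinj, hΨsurj⟩).restrictScalars A⟩

end Groth.Agent.Lib.H6xDer
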