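import Mathlib
import Groth.Agent.Lib.H6xDerA
import Groth.Agent.Lib.H6xDerB
import Groth.Agent.Lib.H6xFStB
import Groth.Agent.Lib.H6xFStE
import Groth.Agent.Lib.Helper19PsDim
import Groth.Agent.Lib.Helper13KzTor
import Groth.Agent.Lib.Helper5KoszulGor
import Groth.Agent.Lib.Helper5GorArt
import Groth.Agent.Lib.Helper5RLR
import Groth.Agent.Lib.Helper5RegSeqPow
import Groth.Agent.Lib.Helper5JacFlat
import Groth.Agent.S0342
import Groth.Agent.S0311

/-!
# Quotients of a regular local ring by powers of a regular system of parameters (helper6)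
-/

set_option autoImplicit false
universe u

namespace Groth.Agent.Lib.H6xDer

open IsLocalRing Groth.Agent.Lib.H6xFSt

section regular

variable {A : Type u} [CommRing A] [IsRegularLocalRing A] {d : ℕ} (hd : ringKrullDim A = d)
  (x : Fin d → A) (hx : Ideal.span (Set.range x) = maximalIdeal A)

/-- The ideal `(x_1^n, …, x_d^n)`. -/
def powIdeal (n : ℕ) : Ideal A := Ideal.span (Set.range fun i => x i ^ n)

include hx

theorem powIdeal_le_pow (n : ℕ) : powIdeal x n ≤ maximalIdeal A ^ n := by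
  rw [powIdeal, Ideal.span_le]
  rintro _ ⟨i, rfl⟩
  exact Ideal.pow_mem_pow (hx ▸ Ideal.subset_span ⟨i, rfl⟩) n

theorem powIdeal_ne_top (n : ℕ) (hn : 0 < n) : powIdeal x n ≠ ⊤ := fun h =>
  (maximalIdeal.isMaximal A).ne_top (top_le_iff.1 (h ▸ (powIdeal_le_pow x hx n).trans
    (Ideal.pow_le_self hn.ne')))

theorem isLocalRing_quot_powIdeal (n : ℕ) (hn : 0 < n) : IsLocalRing (A ⧸ powIdeal x n) :=
  Groth.Agent.Lib.Helper5.isLocalRing_quotient (powIdeal_ne_top x hx n hn)

theorem isArtinianRing_quot_powIdeal (n : ℕ) (hn : 0 < n) :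
    IsArtinianRing (A ⧸ powIdeal x n) := by
  have hNoeth : IsNoetherianRing A := inferInstance
  haveI := isLocalRing_quot_powIdeal x hx n hn
  rw [isArtinianRing_iff_krullDimLE_zero, Ring.krullDimLE_zero_iff]
  intro P hP
  have hle : maximalIdeal (A ⧸ powIdeal x n) ≤ P := by
    rw [← IsLocalRing.map_maximalIdeal_of_surjective (Ideal.Quotient.mk (powIdeal x n))
      Ideal.Quotient.mk_surjective, ← hx, Ideal.map_span, Ideal.span_le]
    rintro _ ⟨_, ⟨i, rfl⟩, rfl⟩
    have h0 : (Ideal.Quotient.mk (powIdeal x n) (x i)) ^ n = 0 := by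
      rw [← map_pow]
      exact Ideal.Quotient.eq_zero_iff_mem.2 (Ideal.subset_span ⟨i, rfl⟩)
    exact hP.mem_of_pow_mem _ (h0 ▸ P.zero_mem)
  have := (maximalIdeal.isMaximal (A ⧸ powIdeal x n)).eq_of_le hP.ne_top hle
  rw [← this]
  exact maximalIdeal.isMaximal _

include hd

theorem isGorensteinLocalRing_quot_powIdeal (n : ℕ) (hn : 0 < n) :
    LocCoh.IsGorensteinLocalRing (A ⧸ powIdeal x n) := by
  have hNoeth : IsNoetherianRing A := inferInstance
  haveI : LocCoh.IsGorensteinLocalRing A := Groth.Agent.S0342.result A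
  have hreg := Groth.Agent.Lib.Helper5.isRegular_ofFn_of_span_eq_maximalIdeal hd x hx
  have hpow : RingTheory.Sequence.IsWeaklyRegular A (List.ofFn fun i => x i ^ n) :=
    Groth.Agent.Lib.Helper5.isWeaklyRegular_ofFn_pow d x (fun _ => n) (fun _ => hn)
      hreg.toIsWeaklyRegular
  have hG := Groth.Agent.Lib.Helper5.KoszulGor.gorLocal_quotient_of_koszul A
    (List.ofFn fun i => x i ^ n) (by
      intro y hy
      obtain ⟨i, rfl⟩ := (List.mem_ofFn' _ _).1 hy
      exact Ideal.pow_mem_of_mem _ (hx ▸ Ideal.subset_span ⟨i, rfl⟩) _ hn) (by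
      intro i hi
      exact ModuleCat.subsingleton_of_isZero
        (Groth.Agent.Helper13Kz.isZero_KH_of_weaklyRegular _ (ModuleCat.of A A) hpow i hi))
  rw [Groth.Agent.Lib.Helper5.ofList_ofFn] at hG
  exact hG

theorem injective_quot_powIdeal (n : ℕ) (hn : 0 < n) :
    Module.Injective (A ⧸ powIdeal x n) (A ⧸ powIdeal x n) := by
  haveI := isLocalRing_quot_powIdeal x hx n hn
  haveI := isArtinianRing_quot_powIdeal x hx n hn
  haveI := isGorensteinLocalRing_quot_powIdeal hd x hx n hn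
  exact Groth.Agent.Lib.Helper5.GorArt.injective_of_T1
    (Groth.Agent.Lib.Helper5.GorArt.T1_of_gor _)

omit hd in
theorem exists_pow_le_powIdeal (n : ℕ) (hn : 0 < n) :
    ∃ N : ℕ, maximalIdeal A ^ N ≤ powIdeal x n := by
  haveI := isLocalRing_quot_powIdeal x hx n hn
  haveI := isArtinianRing_quot_powIdeal x hx n hn
  obtain ⟨N, hN⟩ := IsArtinianRing.isNilpotent_jacobson_bot (R := A ⧸ powIdeal x n)
  rw [IsLocalRing.jacobson_eq_maximalIdeal ⊥ bot_ne_top,
    ← IsLocalRing.map_maximalIdeal_of_surjective (Ideal.Quotient.mk (powIdeal x n))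
      Ideal.Quotient.mk_surjective, ← Ideal.map_pow, Ideal.zero_eq_bot,
    Ideal.map_eq_bot_iff_le_ker, Ideal.mk_ker] at hN
  exact ⟨N, hN⟩

/-- The socle of `A ⧸ (x^n)` is generated by any nonzero socle element. -/
theorem socle_quot_powIdeal (n : ℕ) (hn : 0 < n) (σ : A)
    (hσ : ∀ a ∈ maximalIdeal A, a * σ ∈ powIdeal x n) (hσ0 : σ ∉ powIdeal x n) (b : A)
    (hb : ∀ a ∈ maximalIdeal A, a * b ∈ powIdeal x n) : ∃ c : A, b - c * σ ∈ powIdeal x n := by
  haveI := isLocalRing_quot_powIdeal x hx n hn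
  haveI := isArtinianRing_quot_powIdeal x hx n hn
  haveI := isGorensteinLocalRing_quot_powIdeal hd x hx n hn
  obtain ⟨s, hs0, hs⟩ := Groth.Agent.Lib.Helper5.GorArt.T1_of_gor (A ⧸ powIdeal x n)
  have hmem : ∀ t : A, (∀ a ∈ maximalIdeal A, a * t ∈ powIdeal x n) →
      Ideal.Quotient.mk (powIdeal x n) t ∈ Groth.Agent.Lib.Helper5.GorArt.soc (A ⧸ powIdeal x n) := by
    intro t ht y hy
    obtain ⟨a, rfl⟩ := Ideal.Quotient.mk_surjective y
    have ha : a ∈ maximalIdeal A := by
      by_contra hna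
      have hu : IsUnit a := by
        by_contra h
        exact hna ((mem_maximalIdeal _).2 h)
      exact (mem_maximalIdeal _).1 hy (hu.map _)
    rw [← map_mul]
    exact Ideal.Quotient.eq_zero_iff_mem.2 (ht a ha)
  have h1 := hmem σ hσ
  have h2 := hmem b hb
  rw [hs] at h1 h2
  obtain ⟨u, hu⟩ := Ideal.mem_span_singleton'.1 h1
  obtain ⟨c, hc⟩ := Ideal.mem_span_singleton'.1 h2
  have huu : IsUnit u := by
    by_contra h
    have h3 : u * s = 0 := by
      have hsm : s ∈ Groth.Agent.Lib.Helper5.GorArt.soc (A ⧸ powIdeal x n) := by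
        rw [hs]; exact Ideal.subset_span rfl
      exact hsm u ((mem_maximalIdeal _).2 h)
    apply hσ0
    rw [← Ideal.Quotient.eq_zero_iff_mem, ← hu, h3]
  obtain ⟨u', hu'⟩ := huu.exists_left_inv
  obtain ⟨c', hc'⟩ := Ideal.Quotient.mk_surjective (c * u')
  refine ⟨c', ?_⟩
  rw [← Ideal.Quotient.eq, map_mul, hc', ← hc, ← hu]
  calc c * s = c * ((u' * u) * s) := by rw [hu', one_mul]
    _ = c * u' * (u * s) := by ring

end regular

end Groth.Agent.Lib.H6xDer
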