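import Mathlib
import Groth.Agent.Lib.H6xDerC

/-!
# Power-torsion modules with "partial derivatives" over a regular local ring containing `ℚ` are
sums of copies of the injective hull of the residue field (helper6)
-/

set_option autoImplicit false
universe u

namespace Groth.Agent.Lib.H6xDer

open IsLocalRing Groth.Agent.Lib.H6xFSt

section

variable {A : Type u} [CommRing A] [IsRegularLocalRing A] {d : ℕ} (hd : ringKrullDim A = d)
  (x : Fin d → A) (hx : Ideal.span (Set.range x) = maximalIdeal A)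
  (hQ : ∀ m : ℕ, m ≠ 0 → IsUnit ((m : ℕ) : A))
variable {M : Type u} [AddCommGroup M] [Module A M]
  (hM : ∀ m : M, ∃ n : ℕ, ∀ a ∈ maximalIdeal A ^ n, a • m = 0)
  (D : Fin d → M →+ M)
  (hD1 : ∀ i z, D i (x i • z) = z + x i • D i z)
  (hD2 : ∀ i j, i ≠ j → ∀ z, D i (x j • z) = x j • D i z)

omit [IsRegularLocalRing A] in
theorem isUnit_intCast (hQ : ∀ m : ℕ, m ≠ 0 → IsUnit ((m : ℕ) : A)) (c : ℤ) (hc : c ≠ 0) :
    IsUnit ((c : ℤ) : A) := by
  rcases Int.natAbs_eq c with h | h
  · rw [h, Int.cast_natCast]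
    exact hQ _ (Int.natAbs_ne_zero.2 hc)
  · rw [h, Int.cast_neg, Int.cast_natCast]
    exact (hQ _ (Int.natAbs_ne_zero.2 hc)).neg

include hd hx hQ hM hD1 hD2

/-- The torsion pieces are free. -/
theorem nonempty_equiv_torsion_powIdeal (J : Type u)
    (ψ₀ : (J →₀ A ⧸ maximalIdeal A) ≃ₗ[A] Submodule.torsionBySet A M (maximalIdeal A : Set A))
    (N : ℕ) :
    Nonempty ((J →₀ A ⧸ powIdeal x (N + 1)) ≃ₗ[A]
      Submodule.torsionBySet A M (powIdeal x (N + 1) : Set A)) := by
  have hNoeth : IsNoetherianRing A := inferInstance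
  rcases isEmpty_or_nonempty J with hJ | hJ
  · -- everything vanishes
    have hsub : Subsingleton M := by
      by_contra hns
      rw [not_subsingleton_iff_nontrivial] at hns
      have h1 := inf_ne_bot_of_powerTorsion hM
        (Submodule.torsionBySet A M (maximalIdeal A : Set A)) le_rfl ⊤ top_ne_bot
      obtain ⟨z, ⟨-, hz⟩, hz0⟩ := (Submodule.ne_bot_iff _).1 h1
      apply hz0
      have : (⟨z, hz⟩ : Submodule.torsionBySet A M (maximalIdeal A : Set A)) = 0 := by
        rw [← ψ₀.apply_symm_apply ⟨z, hz⟩, Subsingleton.elim (ψ₀.symm ⟨z, hz⟩) 0, map_zero]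
      exact congrArg Subtype.val this
    exact ⟨LinearEquiv.ofSubsingleton _ _⟩
  · obtain ⟨j0⟩ := hJ
    have hn : 0 < N + 1 := Nat.succ_pos N
    set σ : A := ((List.finRange d).map (fun i => x i ^ N)).prod with hσdef
    have hσprod : σ = ∏ i, x i ^ N := by
      rw [hσdef, ← List.ofFn_eq_map, List.prod_ofFn]
    let v : J → M := fun j => (ψ₀ (Finsupp.single j 1) : M)
    have hv : ∀ j i, x i • v j = 0 := by
      intro j i
      have h1 := (ψ₀ (Finsupp.single j 1)).2
      rw [Submodule.mem_torsionBySet_iff] at h1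
      exact h1 ⟨x i, hx ▸ Ideal.subset_span ⟨i, rfl⟩⟩
    let cZ : ℤ := ((-1 : ℤ) ^ N * (N.factorial : ℤ)) ^ d
    have hcZ : cZ ≠ 0 := by
      apply pow_ne_zero
      apply mul_ne_zero (pow_ne_zero _ (by norm_num))
      exact_mod_cast N.factorial_ne_zero
    obtain ⟨uinv, huinv⟩ := (isUnit_intCast hQ cZ hcZ).exists_left_inv
    let W : J → M := fun j => Dl D N (List.finRange d) (v j)
    have hspec := fun j => Dl_spec x D hD1 hD2 N (hv j) (List.finRange d) (List.nodup_finRange d)
    let w : J → M := fun j => uinv • W j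
    have hw1 : ∀ j, ∀ a ∈ powIdeal x (N + 1), a • w j = 0 := by
      intro j a ha
      have hmem : w j ∈ Submodule.torsionBySet A M
          (Ideal.span (Set.range fun i => x i ^ (N + 1)) : Set A) := by
        rw [← Submodule.torsionBySet_eq_torsionBySet_span, Submodule.mem_torsionBySet_iff]
        rintro ⟨_, ⟨i, rfl⟩⟩
        change x i ^ (N + 1) • (uinv • W j) = 0
        rw [smul_comm, (hspec j).2.1 i (List.mem_finRange i), smul_zero]
      exact (Submodule.mem_torsionBySet_iff _ _).1 hmem ⟨a, ha⟩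
    have hw2 : ∀ j, σ • w j = (ψ₀ (Finsupp.single j 1) : M) := by
      intro j
      change σ • (uinv • W j) = v j
      rw [smul_comm, (hspec j).2.2, List.length_finRange, ← Int.cast_smul_eq_zsmul A, smul_smul,
        huinv, one_smul]
    have hσ : ∀ a ∈ maximalIdeal A, a * σ ∈ powIdeal x (N + 1) := by
      intro a ha
      rw [← hx] at ha
      induction ha using Submodule.span_induction with
      | mem y hy =>
        obtain ⟨i, rfl⟩ := hy
        rw [hσprod, ← Finset.mul_prod_erase Finset.univ _ (Finset.mem_univ i), ← mul_assoc,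
          ← pow_succ']
        exact Ideal.mul_mem_right _ _ (Ideal.subset_span ⟨i, rfl⟩)
      | zero => rw [zero_mul]; exact Ideal.zero_mem _
      | add y z _ _ hy hz => rw [add_mul]; exact Ideal.add_mem _ hy hz
      | smul c y _ hy => rw [smul_eq_mul, mul_assoc]; exact Ideal.mul_mem_left _ _ hy
    have hσ0 : σ ∉ powIdeal x (N + 1) := by
      intro h
      have h1 := hw1 j0 σ h
      rw [hw2 j0] at h1
      have h2 : ψ₀ (Finsupp.single j0 1) = 0 := Subtype.ext h1
      rw [LinearEquiv.map_eq_zero_iff, Finsupp.single_eq_zero] at h2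
      exact one_ne_zero h2
    exact nonempty_equiv_of_socle_lift hM (powIdeal x (N + 1))
      (injective_quot_powIdeal hd x hx (N + 1) hn) (exists_pow_le_powIdeal x hx (N + 1) hn) σ hσ
      (socle_quot_powIdeal hd x hx (N + 1) hn σ hσ hσ0) J ψ₀ w hw1 hw2

/-- The module is injective. -/
theorem injective_of_derivations : Module.Injective A M := by
  have hNoeth : IsNoetherianRing A := inferInstance
  obtain ⟨J, ⟨ψ₀⟩⟩ := exists_socle_basis (A := A) (M := M)
  apply injective_of_pieces (maximalIdeal A) hM (fun e => powIdeal x (e + 1))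
  · intro n
    exact ⟨n, (powIdeal_le_pow x hx (n + 1)).trans (Ideal.pow_le_pow_right (Nat.le_succ n))⟩
  · intro e K g h1 h2
    obtain ⟨ψe⟩ := nonempty_equiv_torsion_powIdeal hd x hx hQ hM D hD1 hD2 J ψ₀ e
    exact ext_of_free_torsion _ (injective_quot_powIdeal hd x hx (e + 1) (Nat.succ_pos e)) J ψe
      K g h1 h2

/-- **Main theorem.** -/
theorem exists_equiv_finsupp_of_derivations {E : Type u} [AddCommGroup E] [Module A E]
    {f : (A ⧸ maximalIdeal A) →ₗ[A] E} (hf : InjHull.IsInjectiveHull f)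
    (hE : ∀ y : E, ∃ n : ℕ, ∀ a ∈ maximalIdeal A ^ n, a • y = 0) :
    ∃ J : Type u, Nonempty (M ≃ₗ[A] (J →₀ E)) := by
  have hNoeth : IsNoetherianRing A := inferInstance
  obtain ⟨J, ⟨ψ₀⟩⟩ := exists_socle_basis (A := A) (M := M)
  have hinj := injective_of_derivations hd x hx hQ hM D hD1 hD2
  exact ⟨J, exists_equiv_finsupp_of_injective hf hE hM hinj J ψ₀⟩

end

end Groth.Agent.Lib.H6xDer
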