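import Groth.Agent.Lib.H6xBasisCohB
import Groth.Agent.S0881
import Groth.Agent.S0943
import Groth.Agent.Lib.Helper17KInjD1
import Groth.Agent.Lib.Helper17Hyp6
import Groth.Agent.Lib.Helper17Hyp9
import Mathlib.CategoryTheory.Functor.OfSequence

/-!
# Cohomology sheaves of a derived limit (helper6)

* `limOneIsZero_of_equiv`: transfer of `CohCx.LimOneIsZero` along additive equivalences;
* `towerLift`, `towerLift_π`, `tower_π_succ`, `tower_hom_ext`: limits of `CohCx.opSequence`;
* `cm_bijective_of_acyOn`: on a site, `cm` is bijective over objects `U ∈ B` when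
  `H^p(U, H^q(E)) = 0` for `p > 0` (members of `B` covering every object);
* `isIso_towerLift_homology`: `H^q(R lim K_n) ≅ lim H^q(K_n)`.
-/

set_option autoImplicit false
set_option linter.style.haveILetI false

universe w v u

open CategoryTheory CategoryTheory.Limits Opposite

namespace Groth.Agent.Lib.H6xDerLim

open DerivedCategory Groth.Agent.Lib.Helper17.Hyp

section LimOne

theorem limOneIsZero_of_equiv {A A' : ℕ → Type u} [∀ n, AddCommGroup (A n)]
    [∀ n, AddCommGroup (A' n)] (t : ∀ n, A (n + 1) →+ A n) (t' : ∀ n, A' (n + 1) →+ A' n)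
    (e : ∀ n, A n ≃+ A' n) (he : ∀ n x, e n (t n x) = t' n (e (n + 1) x))
    (h : CohCx.LimOneIsZero A' t') : CohCx.LimOneIsZero A t := by
  intro b
  obtain ⟨a', ha'⟩ := h (fun n => e n (b n))
  refine ⟨fun n => (e n).symm (a' n), ?_⟩
  funext n
  apply (e n).injective
  have := congrFun ha' n
  dsimp only at this ⊢
  rw [map_sub, he, AddEquiv.apply_symm_apply, AddEquiv.apply_symm_apply]
  exact this

theorem limOneIsZero_of_subsingleton {A : ℕ → Type u} [∀ n, AddCommGroup (A n)]
    (t : ∀ n, A (n + 1) →+ A n) [∀ n, Subsingleton (A n)] : CohCx.LimOneIsZero A t := by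
  intro b
  exact ⟨fun _ => 0, funext fun n => Subsingleton.elim _ _⟩

end LimOne

section Tower

variable {T : Type*} [Category T] {G : ℕ → T} (τ : ∀ n, G (n + 1) ⟶ G n)
  [HasLimit (CohCx.opSequence G τ)]

/-- the cone over a tower given by compatible maps. -/
noncomputable def towerCone {W : T} (app : ∀ n, W ⟶ G n) (h : ∀ n, app (n + 1) ≫ τ n = app n) :
    Cone (CohCx.opSequence G τ) where
  pt := W
  π := NatTrans.ofOpSequence (F := (Functor.const ℕᵒᵖ).obj W) (G := CohCx.opSequence G τ)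
    app (fun n => (Category.id_comp (app n)).trans ((h n).symm.trans
      (congrArg (fun z => app (n + 1) ≫ z) (Functor.ofOpSequence_map_homOfLE_succ τ n).symm)))

noncomputable def towerLift {W : T} (app : ∀ n, W ⟶ G n) (h : ∀ n, app (n + 1) ≫ τ n = app n) :
    W ⟶ limit (CohCx.opSequence G τ) :=
  limit.lift _ (towerCone τ app h)

lemma towerLift_π {W : T} (app : ∀ n, W ⟶ G n) (h : ∀ n, app (n + 1) ≫ τ n = app n) (n : ℕ) :
    towerLift τ app h ≫ limit.π (CohCx.opSequence G τ) (op n) = app n :=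
  limit.lift_π _ _

lemma tower_π_succ (n : ℕ) :
    limit.π (CohCx.opSequence G τ) (op (n + 1)) ≫ τ n = limit.π (CohCx.opSequence G τ) (op n) := by
  have := limit.w (CohCx.opSequence G τ) (homOfLE (Nat.le_add_right n 1)).op
  rwa [Functor.ofOpSequence_map_homOfLE_succ] at this

lemma tower_hom_ext {W : T} {f g : W ⟶ limit (CohCx.opSequence G τ)}
    (h : ∀ n, f ≫ limit.π (CohCx.opSequence G τ) (op n) =
      g ≫ limit.π (CohCx.opSequence G τ) (op n)) : f = g :=
  limit.hom_ext (fun j => h j.unop)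

end Tower

section Site

variable {C : Type u} [SmallCategory C] {J : GrothendieckTopology C}
  [HasDerivedCategory.{u} (Sheaf J AddCommGrpCat.{u})]

theorem hasLimitsOfShape_nat :
    HasLimitsOfShape (Discrete ℕ) (DerivedCategory (Sheaf J AddCommGrpCat.{u})) := by
  haveI : HasProducts.{u} (DerivedCategory (Sheaf J AddCommGrpCat.{u})) :=
    Groth.Agent.Lib.Helper17.KInj.hasProducts_derivedCategory
  haveI : HasLimitsOfShape (Discrete (ULift.{u} ℕ))
      (DerivedCategory (Sheaf J AddCommGrpCat.{u})) := inferInstance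
  exact hasLimitsOfShape_of_equivalence (Discrete.equivalence Equiv.ulift.{u, 0})

theorem cm_bijective_of_acyOn (E : DerivedCategory (Sheaf J AddCommGrpCat.{u})) (B : Set C)
    (hB : ∀ U : C, ∃ (ι : Type u) (Y : ι → C) (f : ∀ i, Y i ⟶ U),
      Sieve.ofArrows Y f ∈ J U ∧ ∀ i, Y i ∈ B)
    (h : ∀ U ∈ B, ∀ (p : ℕ) (q : ℤ), Subsingleton (CohSite.HU (CohCx.HD E q) (p + 1) U))
    (U : C) (hU : U ∈ B) (q : ℤ) :
    Function.Bijective (cm (P := CohCx.freeSheaf J U) (K := E) (m := q)) := by
  haveI := hasLimitsOfShape_nat (J := J)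
  choose ιB YB fB hcovB hYB using hB
  have hL := Groth.Agent.S0881.result E B (fun U => ⟨ιB U, YB U, fB U, hcovB U, hYB U⟩)
    (fun V _ => ⟨fun _ => 0, fun T hT => by
      let ι : Type u := Σ (W : C), Σ (g : {g : W ⟶ V // T.arrows g}), ιB W
      refine ⟨ι, fun i => YB i.1 i.2.2, fun i => fB i.1 i.2.2 ≫ i.2.1.1, ?_, ?_, ?_⟩
      · intro i
        exact T.downward_closed i.2.1.2 _
      · refine J.superset_covering ?_
          (J.bind_covering hT (fun W g _ => hcovB W))
        rintro Z _ ⟨W, k, g, hg, ⟨Z', l, _, ⟨i⟩, rfl⟩, rfl⟩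
        rw [Category.assoc]
        exact Sieve.downward_closed _ (Sieve.ofArrows_mk (fun i : ι => YB i.1 i.2.2)
          (fun i : ι => fB i.1 i.2.2 ≫ i.2.1.1) (⟨W, ⟨g, hg⟩, i⟩ : ι)) l
      · intro i m k hk
        have hk' : (0 : ℤ) < (k : ℤ) := hk
        obtain ⟨p, rfl⟩ : ∃ p : ℕ, k = p + 1 := ⟨k - 1, by omega⟩
        exact h _ (hYB i.1 i.2.2) p _⟩)
  exact Groth.Agent.Lib.H6xBasisCoh.cm_bijective_of_isRlimVia
    (CohCx.freeSheaf J U) E hL q (fun j k hk => by
      obtain ⟨p, rfl⟩ : ∃ p : ℕ, k = p + 1 := ⟨k - 1, by omega⟩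
      exact @Equiv.subsingleton _ _ (Abelian.Ext.homEquiv
        (X := CohCx.freeSheaf J U)
        (Y := CohCx.HD E j) (n := p + 1)).symm (h U hU p j))

end Site

end Groth.Agent.Lib.H6xDerLim
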