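import Groth.Agent.Lib.H6xDerLimA

/-!
# `H^q(R lim K_n) ≅ lim H^q(K_n)` under acyclicity and Mittag-Leffler on a generating class
(helper6)
-/

set_option autoImplicit false
set_option linter.style.haveILetI false

universe w v v' u'

open CategoryTheory CategoryTheory.Limits Opposite

namespace Groth.Agent.Lib.H6xDerLim

open DerivedCategory Groth.Agent.Lib.Helper17.Hyp

variable {A : Type (v + 1)} [Category.{v} A] [Abelian A] [HasDerivedCategory.{w} A]
  {C : Type u'} [Category.{v'} C] {J : GrothendieckTopology C} {fr : C ⥤ A}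

lemma zero_of_B (hfr : LocFr J fr) (B : Set C)
    (hB : ∀ U : C, ∃ R : Presieve U, Sieve.generate R ∈ J U ∧ ∀ ⦃V : C⦄ (g : V ⟶ U), R g → V ∈ B)
    {G : A} (U : C) (s : fr.obj U ⟶ G)
    (hs : ∀ (V : C) (_ : V ∈ B) (g : V ⟶ U), fr.map g ≫ s = 0) : s = 0 := by
  obtain ⟨R, hR, hRB⟩ := hB U
  exact hfr.zero_of_generate U s R hR (fun V g hg => hs V (hRB g hg) g)

theorem isIso_towerLift_homology (hfr : LocFr J fr) {K : ℕ → DerivedCategory A}
    {t : ∀ n, K (n + 1) ⟶ K n} [HasProduct K] {L : DerivedCategory A} {a : ∀ n, L ⟶ K n}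
    (hL : CohCx.IsRlimVia K t L a) (q : ℤ)
    [HasLimit (CohCx.opSequence (fun n => (homologyFunctor A q).obj (K n))
      (fun n => (homologyFunctor A q).map (t n)))]
    (B : Set C)
    (hB : ∀ U : C, ∃ R : Presieve U, Sieve.generate R ∈ J U ∧ ∀ ⦃V : C⦄ (g : V ⟶ U), R g → V ∈ B)
    (hcm : ∀ U ∈ B, ∀ n, Function.Bijective (cm (P := fr.obj U) (K := K n) (m := q)))
    (hlim : ∀ U ∈ B, CohCx.LimOneIsZero (fun n => dsgl (fr.obj U) ⟶ (K n)⟦q - 1⟧)
      (fun n => Preadditive.rightComp _ ((t n)⟦q - 1⟧'))) :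
    IsIso (towerLift (fun n => (homologyFunctor A q).map (t n))
      (fun n => (homologyFunctor A q).map (a n))
      (fun n => by rw [← Functor.map_comp, isRlimVia_comp_t hL])) := by
  set φ := towerLift (fun n => (homologyFunctor A q).map (t n))
      (fun n => (homologyFunctor A q).map (a n))
      (fun n => by rw [← Functor.map_comp, isRlimVia_comp_t hL]) with hφ
  obtain ⟨π', hπ'⟩ : ∃ π' : ∀ n, limit (CohCx.opSequence
      (fun n => (homologyFunctor A q).obj (K n)) (fun n => (homologyFunctor A q).map (t n))) ⟶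
      (homologyFunctor A q).obj (K n), ∀ n, π' n = limit.π _ (op n) := ⟨_, fun _ => rfl⟩
  have hφπ : ∀ n, φ ≫ π' n = (homologyFunctor A q).map (a n) := fun n => by
    rw [hπ' n]
    exact towerLift_π _ _ _ n
  have hsucc : ∀ n, π' (n + 1) ≫ (homologyFunctor A q).map (t n) = π' n := fun n => by
    rw [hπ' n, hπ' (n + 1)]
    exact tower_π_succ _ n
  have hext : ∀ {W : A} (f g : W ⟶ limit (CohCx.opSequence
      (fun n => (homologyFunctor A q).obj (K n)) (fun n => (homologyFunctor A q).map (t n)))),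
      (∀ n, f ≫ π' n = g ≫ π' n) → f = g := fun f g h =>
    tower_hom_ext _ (fun n => by rw [← hπ' n]; exact h n)
  -- Claim A
  have claimA : ∀ V ∈ B, ∀ ξ : dsgl (fr.obj V) ⟶ L⟦q⟧, cm ξ ≫ φ = 0 → ξ = 0 := by
    intro V hV ξ hξ
    refine (Groth.Agent.S0943.milnor_general hL (dsgl (fr.obj V)) q).2 (hlim V hV) ξ (fun n => ?_)
    apply (hcm V hV n).1
    rw [cm_comp, cm_zero, ← hφπ n, ← Category.assoc, hξ, zero_comp]
  haveI : Mono φ := by
    apply Abelian.mono_of_kernel_ι_eq_zero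
    apply hfr.gen
    intro U s
    have hs' : (s ≫ kernel.ι φ) ≫ φ = 0 := by rw [Category.assoc, kernel.condition, comp_zero]
    obtain ⟨T, hT, hT'⟩ := exists_lift_cm hfr L q U (s ≫ kernel.ι φ)
    refine hfr.sep U _ T hT (fun W k hk => ?_)
    obtain ⟨ξ, hξ⟩ := hT' k hk
    rw [← hξ]
    refine zero_of_B hfr B hB W _ (fun V hV g => ?_)
    rw [← cm_res]
    have : res fr g ξ = 0 := by
      apply claimA V hV
      rw [cm_res, hξ, Category.assoc, Category.assoc, hs', comp_zero, comp_zero]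
    rw [this, cm_zero]
  haveI : Epi φ := by
    apply epi_of_local_lift hfr φ
    intro U s
    obtain ⟨R, hR, hRB⟩ := hB U
    refine ⟨R, hR, fun V g hg => ?_⟩
    have hV := hRB g hg
    choose x hx using fun n => (hcm V hV n).2 ((fr.map g ≫ s) ≫ π' n)
    have hcompat : ∀ n, x (n + 1) ≫ (t n)⟦q⟧' = x n := by
      intro n
      apply (hcm V hV n).1
      rw [cm_comp, hx, hx, Category.assoc, hsucc]
    obtain ⟨y, hy⟩ := (Groth.Agent.S0943.milnor_general hL (dsgl (fr.obj V)) q).1 x hcompat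
    refine ⟨cm y, ?_⟩
    apply hext
    intro n
    rw [Category.assoc, hφπ n, ← cm_comp, hy, hx]
  exact isIso_of_mono_of_epi φ

end Groth.Agent.Lib.H6xDerLim
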