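import Groth.Agent.Lib.H6xDerLimB

/-!
# Site-level transfer lemmas for derived limits (helper6)
-/

set_option autoImplicit false
set_option linter.style.haveILetI false

universe u

open CategoryTheory CategoryTheory.Limits Opposite

namespace Groth.Agent.Lib.H6xDerLim

open DerivedCategory Groth.Agent.Lib.Helper17.Hyp

variable {C : Type u} [SmallCategory C] {J : GrothendieckTopology C}
  [HasDerivedCategory.{u} (Sheaf J AddCommGrpCat.{u})]

lemma canonU_comp {K K' : DerivedCategory (Sheaf J AddCommGrpCat.{u})} (φ : K ⟶ K') (q : ℤ)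
    (U : C) (y : CohCx.HDU K q U) :
    canonU K' q U (y ≫ φ⟦q⟧') =
      (((homologyFunctor (Sheaf J AddCommGrpCat.{u}) q).map φ).hom.app (op U)).hom
        (canonU K q U y) := by
  obtain ⟨y', rfl⟩ : ∃ y' : dsgl (CohCx.freeSheaf J U) ⟶ K⟦q⟧, y' = y := ⟨y, rfl⟩
  have h1 : cm (P := CohCx.freeSheaf J U) (y' ≫ φ⟦q⟧') =
      cm y' ≫ (homologyFunctor (Sheaf J AddCommGrpCat.{u}) q).map φ := cm_comp y' φ
  change CohFree.evalGen J U (CohCx.HD K' q) (cm (P := CohCx.freeSheaf J U) (y' ≫ φ⟦q⟧')) = _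
  rw [h1]
  rfl

/-- `canonU` as an additive equivalence, when `cm` is bijective. -/
noncomputable def canonEquiv (K : DerivedCategory (Sheaf J AddCommGrpCat.{u})) (q : ℤ) (U : C)
    (h : Function.Bijective (cm (P := CohCx.freeSheaf J U) (K := K) (m := q))) :
    CohCx.HDU K q U ≃+ (CohCx.HD K q).obj.obj (op U) :=
  AddEquiv.ofBijective (canonU K q U)
    ((CohFree.homEquivSect J U (CohCx.HD K q)).bijective.comp h)

theorem limOneIsZero_hom (K : ℕ → DerivedCategory (Sheaf J AddCommGrpCat.{u}))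
    (t : ∀ n, K (n + 1) ⟶ K n) (U : C) (q : ℤ)
    (hcm : ∀ n, Function.Bijective (cm (P := CohCx.freeSheaf J U) (K := K n) (m := q)))
    (h2 : CohCx.LimOneIsZero (fun n => (CohCx.HD (K n) q).obj.obj (op U))
      (fun n => (((homologyFunctor _ q).map (t n)).hom.app (op U)).hom)) :
    CohCx.LimOneIsZero (fun n => dsgl (CohCx.freeSheaf J U) ⟶ (K n)⟦q⟧)
      (fun n => Preadditive.rightComp _ ((t n)⟦q⟧')) :=
  limOneIsZero_of_equiv _ _ (fun n => canonEquiv (K n) q U (hcm n))
    (fun n x => canonU_comp (t n) q U x) h2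

end Groth.Agent.Lib.H6xDerLim
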