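import Groth.Agent.Lib.H6xDerLimC
import Groth.Prelude.Def_DCoh2

/-!
# `lim F_n` is a derived limit of an acyclic Mittag-Leffler system of sheaves (helper6)
-/

set_option autoImplicit false
set_option linter.style.haveILetI false

universe u

open CategoryTheory CategoryTheory.Limits Opposite

namespace Groth.Agent.Lib.H6xDerLim

open DerivedCategory Groth.Agent.Lib.Helper17.Hyp Groth.Agent.S14388

section General

variable {C : Type u} [SmallCategory C] {J : GrothendieckTopology C}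
  [HasDerivedCategory.{u} (Sheaf J AddCommGrpCat.{u})]

/-- `Ext^n(ℤ_U, G) = 0` iff `Hom_D(ℤ_U[0], G[0][n]) = 0`. -/
lemma subsingleton_HU_iff (G : Sheaf J AddCommGrpCat.{u}) (n : ℕ) (U : C) :
    Subsingleton (CohSite.HU G n U) ↔
      Subsingleton (dsgl (CohCx.freeSheaf J U) ⟶
        ((singleFunctor (Sheaf J AddCommGrpCat.{u}) 0).obj G)⟦(n : ℤ)⟧) :=
  (Abelian.Ext.homEquiv (X := CohCx.freeSheaf J U) (Y := G) (n := n)).subsingleton_congr

lemma subsingleton_HU_of_iso {G G' : Sheaf J AddCommGrpCat.{u}} (e : G ≅ G') (n : ℕ) (U : C)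
    (h : Subsingleton (CohSite.HU G n U)) : Subsingleton (CohSite.HU G' n U) := by
  rw [subsingleton_HU_iff] at h ⊢
  exact subsingleton_hom_of_iso ((shiftFunctor _ (n : ℤ)).mapIso
    ((singleFunctor (Sheaf J AddCommGrpCat.{u}) 0).mapIso e)) h

lemma subsingleton_HU_of_isZero {G : Sheaf J AddCommGrpCat.{u}} (hG : IsZero G) (n : ℕ) (U : C) :
    Subsingleton (CohSite.HU G n U) := by
  rw [subsingleton_HU_iff]
  have hz : IsZero (((singleFunctor (Sheaf J AddCommGrpCat.{u}) 0).obj G)⟦(n : ℤ)⟧) :=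
    (shiftFunctor _ (n : ℤ)).map_isZero ((singleFunctor _ 0).map_isZero hG)
  exact ⟨fun y y' => hz.eq_of_tgt _ _⟩

end General

section Tower

variable {T : Type*} [Category T] [HasZeroMorphisms T] {G : ℕ → T} (τ : ∀ n, G (n + 1) ⟶ G n)
  [HasLimit (CohCx.opSequence G τ)]

lemma isZero_limit_tower (h : ∀ n, IsZero (G n)) : IsZero (limit (CohCx.opSequence G τ)) := by
  rw [IsZero.iff_id_eq_zero]
  apply tower_hom_ext
  intro n
  exact (h n).eq_of_tgt _ _

end Tower

section Main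

variable {C : Type u} [SmallCategory C] {J : GrothendieckTopology C}
  [HasDerivedCategory.{u} (Sheaf J AddCommGrpCat.{u})]

/-- sections of isomorphic sheaves. -/
noncomputable def sectionsEquiv {G G' : Sheaf J AddCommGrpCat.{u}} (θ : G ≅ G') (U : C) :
    G.obj.obj (op U) ≃+ G'.obj.obj (op U) where
  toFun := (θ.hom.hom.app (op U)).hom
  invFun := (θ.inv.hom.app (op U)).hom
  left_inv x := congrArg (fun f : G ⟶ G => (f.hom.app (op U)).hom x) θ.hom_inv_id
  right_inv x := congrArg (fun f : G' ⟶ G' => (f.hom.app (op U)).hom x) θ.inv_hom_id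
  map_add' := map_add _

lemma subsingleton_sections_of_isZero {G : Sheaf J AddCommGrpCat.{u}} (hG : IsZero G) (U : C) :
    Subsingleton (G.obj.obj (op U)) :=
  (CohFree.homEquivSect J U G).toEquiv.subsingleton_congr.1
    ⟨fun y y' => hG.eq_of_tgt _ _⟩

theorem isRlim_single_limit (F : ℕ → Sheaf J AddCommGrpCat.{u}) (t : ∀ n, F (n + 1) ⟶ F n)
    [HasProduct fun n => (singleFunctor (Sheaf J AddCommGrpCat.{u}) 0).obj (F n)]
    (B : Set C)
    (hB : ∀ U : C, ∃ (ι : Type u) (Y : ι → C) (f : ∀ i, Y i ⟶ U),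
      Sieve.ofArrows Y f ∈ J U ∧ ∀ i, Y i ∈ B)
    (h1 : ∀ U ∈ B, ∀ (p n : ℕ), Subsingleton (CohSite.HU (F n) (p + 1) U))
    (h2 : ∀ U ∈ B, CohCx.LimOneIsZero (fun n => (F n).obj.obj (op U))
      (fun n => ((t n).hom.app (op U)).hom)) :
    DCoh.IsRlim (fun n => (singleFunctor (Sheaf J AddCommGrpCat.{u}) 0).obj (F n))
      (fun n => (singleFunctor (Sheaf J AddCommGrpCat.{u}) 0).map (t n))
      ((singleFunctor (Sheaf J AddCommGrpCat.{u}) 0).obj (limit (CohCx.opSequence F t))) ∧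
    ∀ U ∈ B, ∀ p : ℕ, Subsingleton (CohSite.HU (limit (CohCx.opSequence F t)) (p + 1) U) := by
  obtain ⟨K, hK⟩ : ∃ K : ℕ → DerivedCategory (Sheaf J AddCommGrpCat.{u}),
      K = fun n => (singleFunctor (Sheaf J AddCommGrpCat.{u}) 0).obj (F n) := ⟨_, rfl⟩
  subst hK
  obtain ⟨L, a, hL⟩ := exists_isRlimVia
    (fun n => (singleFunctor (Sheaf J AddCommGrpCat.{u}) 0).obj (F n))
    (fun n => (singleFunctor (Sheaf J AddCommGrpCat.{u}) 0).map (t n))
  have hfr := locFr_frSh J
  have hB' : ∀ U : C, ∃ R : Presieve U, Sieve.generate R ∈ J U ∧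
      ∀ ⦃V : C⦄ (g : V ⟶ U), R g → V ∈ B := by
    intro U
    obtain ⟨ι, Y, f, hcov, hYB⟩ := hB U
    refine ⟨Presieve.ofArrows Y f, hcov, ?_⟩
    rintro V g ⟨i⟩
    exact hYB i
  have hKz : ∀ (n : ℕ) (q : ℤ), q ≠ 0 → IsZero ((homologyFunctor (Sheaf J AddCommGrpCat.{u}) q).obj
      ((singleFunctor (Sheaf J AddCommGrpCat.{u}) 0).obj (F n))) := fun n q hq =>
    isZero_homology_of_amp _ 0 q hq
  have h1' : ∀ n, ∀ U ∈ B, ∀ (p : ℕ) (q : ℤ), Subsingleton (CohSite.HU
      (CohCx.HD ((singleFunctor (Sheaf J AddCommGrpCat.{u}) 0).obj (F n)) q) (p + 1) U) := by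
    intro n U hU p q
    by_cases hq : q = 0
    · subst hq
      exact subsingleton_HU_of_iso (e₀ (F n)).symm (p + 1) U (h1 U hU p n)
    · exact subsingleton_HU_of_isZero (hKz n q hq) (p + 1) U
  have hcm : ∀ U ∈ B, ∀ (m : ℤ) (n : ℕ), Function.Bijective
      (cm (P := CohCx.freeSheaf J U)
        (K := (singleFunctor (Sheaf J AddCommGrpCat.{u}) 0).obj (F n)) (m := m)) :=
    fun U hU m n => cm_bijective_of_acyOn _ B hB (h1' n) U hU m
  have hnat : ∀ n, (homologyFunctor (Sheaf J AddCommGrpCat.{u}) 0).map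
      ((singleFunctor (Sheaf J AddCommGrpCat.{u}) 0).map (t n)) ≫ (e₀ (F n)).hom =
      (e₀ (F (n + 1))).hom ≫ t n := fun n => (e₀NatIso (A := Sheaf J AddCommGrpCat.{u})).hom.naturality (t n)
  have h2' : ∀ U ∈ B, ∀ q : ℤ, CohCx.LimOneIsZero
      (fun n => (CohCx.HD ((singleFunctor (Sheaf J AddCommGrpCat.{u}) 0).obj (F n)) q).obj.obj (op U))
      (fun n => (((homologyFunctor _ q).map
        ((singleFunctor (Sheaf J AddCommGrpCat.{u}) 0).map (t n))).hom.app (op U)).hom) := by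
    intro U hU q
    by_cases hq : q = 0
    · subst hq
      refine limOneIsZero_of_equiv _ _ (fun n => sectionsEquiv (e₀ (F n)) U) (fun n x => ?_)
        (h2 U hU)
      exact congrArg (fun f : (homologyFunctor (Sheaf J AddCommGrpCat.{u}) 0).obj
        ((singleFunctor (Sheaf J AddCommGrpCat.{u}) 0).obj (F (n + 1))) ⟶ F n =>
          (f.hom.app (op U)).hom x) (hnat n)
    · haveI : ∀ n, Subsingleton ((CohCx.HD
          ((singleFunctor (Sheaf J AddCommGrpCat.{u}) 0).obj (F n)) q).obj.obj (op U)) :=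
        fun n => subsingleton_sections_of_isZero (hKz n q hq) U
      exact limOneIsZero_of_subsingleton _
  have hiso : ∀ q : ℤ, IsIso (towerLift
      (fun n => (homologyFunctor (Sheaf J AddCommGrpCat.{u}) q).map
        ((singleFunctor (Sheaf J AddCommGrpCat.{u}) 0).map (t n)))
      (fun n => (homologyFunctor (Sheaf J AddCommGrpCat.{u}) q).map (a n))
      (fun n => by rw [← Functor.map_comp, isRlimVia_comp_t hL])) := fun q =>
    isIso_towerLift_homology (fr := frSh J) hfr hL q B hB' (fun U hU n => hcm U hU q n)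
      (fun U hU => limOneIsZero_hom _ _ U (q - 1) (fun n => hcm U hU (q - 1) n)
        (h2' U hU (q - 1)))
  have hLz : ∀ q : ℤ, q ≠ 0 → IsZero ((homologyFunctor (Sheaf J AddCommGrpCat.{u}) q).obj L) := by
    intro q hq
    haveI := hiso q
    exact IsZero.of_iso (isZero_limit_tower _ (fun n => hKz n q hq)) (asIso (towerLift
      (fun n => (homologyFunctor (Sheaf J AddCommGrpCat.{u}) q).map
        ((singleFunctor (Sheaf J AddCommGrpCat.{u}) 0).map (t n)))
      (fun n => (homologyFunctor (Sheaf J AddCommGrpCat.{u}) q).map (a n))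
      (fun n => by rw [← Functor.map_comp, isRlimVia_comp_t hL])))
  haveI : L.IsGE 0 := (isGE_iff L 0).2 (fun i hi => hLz i (by omega))
  haveI : L.IsLE 0 := (isLE_iff L 0).2 (fun i hi => hLz i (by omega))
  obtain ⟨Y, ⟨θ⟩⟩ := exists_iso_singleFunctor_obj_of_isGE_of_isLE L 0
  haveI := hiso 0
  let e1 : Y ≅ (homologyFunctor (Sheaf J AddCommGrpCat.{u}) 0).obj L :=
    (e₀ Y).symm ≪≫ (homologyFunctor (Sheaf J AddCommGrpCat.{u}) 0).mapIso θ.symm
  let e2 := asIso (towerLift
      (fun n => (homologyFunctor (Sheaf J AddCommGrpCat.{u}) 0).map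
        ((singleFunctor (Sheaf J AddCommGrpCat.{u}) 0).map (t n)))
      (fun n => (homologyFunctor (Sheaf J AddCommGrpCat.{u}) 0).map (a n))
      (fun n => by rw [← Functor.map_comp, isRlimVia_comp_t hL]))
  let α : CohCx.opSequence (fun n => (homologyFunctor (Sheaf J AddCommGrpCat.{u}) 0).obj
        ((singleFunctor (Sheaf J AddCommGrpCat.{u}) 0).obj (F n)))
      (fun n => (homologyFunctor (Sheaf J AddCommGrpCat.{u}) 0).map
        ((singleFunctor (Sheaf J AddCommGrpCat.{u}) 0).map (t n))) ⟶ CohCx.opSequence F t :=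
    NatTrans.ofOpSequence (fun n => (e₀ (F n)).hom) (fun n => by
      rw [Functor.ofOpSequence_map_homOfLE_succ, Functor.ofOpSequence_map_homOfLE_succ]
      exact hnat n)
  haveI : ∀ j, IsIso (α.app j) := fun j => by
    change IsIso (e₀ (F j.unop)).hom
    infer_instance
  haveI : IsIso α := NatIso.isIso_of_isIso_app α
  let e3 := HasLimit.isoOfNatIso (asIso α)
  let ε : L ≅ (singleFunctor (Sheaf J AddCommGrpCat.{u}) 0).obj (limit (CohCx.opSequence F t)) :=
    θ ≪≫ (singleFunctor (Sheaf J AddCommGrpCat.{u}) 0).mapIso (e1 ≪≫ e2 ≪≫ e3)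
  refine ⟨?_, ?_⟩
  · obtain ⟨c, hc⟩ := isRlimVia_of_iso hL ε.inv (fun n => ε.inv ≫ a n) (fun n => rfl)
    exact ⟨_, c, hc⟩
  · intro U hU p
    rw [subsingleton_HU_iff]
    refine subsingleton_hom_of_iso ((shiftFunctor _ ((p + 1 : ℕ) : ℤ)).mapIso ε) ⟨fun y y' => ?_⟩
    have key : ∀ y : dsgl (CohCx.freeSheaf J U) ⟶ L⟦((p + 1 : ℕ) : ℤ)⟧, y = 0 := by
      intro y
      refine (Groth.Agent.S0943.milnor_general hL (dsgl (CohCx.freeSheaf J U))
        ((p + 1 : ℕ) : ℤ)).2 ?_ y (fun n => ?_)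
      · exact limOneIsZero_hom _ _ U (((p + 1 : ℕ) : ℤ) - 1) (fun n => hcm U hU _ n)
          (h2' U hU _)
      · haveI := (subsingleton_HU_iff (F n) (p + 1) U).1 (h1 U hU p n)
        exact Subsingleton.elim _ _
    rw [key y, key y']

end Main

end Groth.Agent.Lib.H6xDerLim
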