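import Mathlib
import Groth.Agent.Lib.Helper5FBC
import Groth.Agent.Lib.Helper4TensorDim

/-!
# Support dimension is invariant under base field extension (helper6)
-/

set_option autoImplicit false
universe u
open TensorProduct

namespace Groth.Agent.Lib.H6xFibDim

section A

variable (k k' A A' : Type u) [Field k] [Field k'] [Algebra k k'] [CommRing A] [CommRing A']
  [Algebra k A] [Algebra.FiniteType k A] [Algebra k' A'] [Algebra k A'] [Algebra A A']
  [IsScalarTower k k' A'] [IsScalarTower k A A'] [Algebra.IsPushout k k' A A']

include k k' in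
theorem flat_of_isPushout : Module.Flat A A' := by
  have h : Algebra.IsPushout k A k' A' := Algebra.IsPushout.symm inferInstance
  exact Module.Flat.isBaseChange k A k' A' h.out

/-- quotient by an extended ideal is again a pushout. -/
theorem isPushout_quotient (I : Ideal A) :
    Algebra.IsPushout A (A ⧸ I) A' (A' ⧸ I.map (algebraMap A A')) := by
  constructor
  refine IsBaseChange.of_equiv
    (Algebra.TensorProduct.quotIdealMapEquivQuotTensor A' I).symm.toLinearEquiv fun x => ?_
  apply (Algebra.TensorProduct.quotIdealMapEquivQuotTensor A' I).injective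
  change (Algebra.TensorProduct.quotIdealMapEquivQuotTensor A' I)
    ((Algebra.TensorProduct.quotIdealMapEquivQuotTensor A' I).symm _) = _
  rw [AlgEquiv.apply_symm_apply]
  change _ = (Algebra.TensorProduct.quotIdealMapEquivQuotTensor A' I)
    (Ideal.Quotient.mk _ x)
  simp [Algebra.TensorProduct.quotIdealMapEquivQuotTensor]

include k k' in
theorem ringKrullDim_quotient_map_eq (I : Ideal A) :
    ringKrullDim (A' ⧸ I.map (algebraMap A A')) = ringKrullDim (A ⧸ I) := by
  have h1 : Algebra.IsPushout k A k' A' := Algebra.IsPushout.symm inferInstance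
  have h2 := isPushout_quotient A A' I
  haveI : IsScalarTower k (A ⧸ I) (A' ⧸ I.map (algebraMap A A')) :=
    IsScalarTower.of_algebraMap_eq fun x => by
      rw [IsScalarTower.algebraMap_apply k A (A ⧸ I),
        ← IsScalarTower.algebraMap_apply A (A ⧸ I) (A' ⧸ I.map (algebraMap A A')),
        IsScalarTower.algebraMap_apply k A' (A' ⧸ I.map (algebraMap A A')),
        IsScalarTower.algebraMap_apply k A A',
        ← IsScalarTower.algebraMap_apply A A' (A' ⧸ I.map (algebraMap A A'))]
  have h3 : Algebra.IsPushout k (A ⧸ I) k' (A' ⧸ I.map (algebraMap A A')) :=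
    (Algebra.IsPushout.comp_iff k A k' A').mpr h2
  have e := Algebra.IsPushout.equiv k (A ⧸ I) k' (A' ⧸ I.map (algebraMap A A'))
  rw [← ringKrullDim_eq_of_ringEquiv e.toRingEquiv,
    Groth.Agent.Lib.Helper4.TensorDim.ringKrullDim_tensor_eq_add k (A ⧸ I) k',
    ringKrullDim_eq_zero_of_field, add_zero]

variable (M M' : Type u) [AddCommGroup M] [Module A M] [Module.Finite A M] [AddCommGroup M']
  [Module A' M'] [Module A M'] [IsScalarTower A A' M']

include k k' in
/-- the dimension of the support is invariant under base field extension. -/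
theorem supportDim_eq_of_isBaseChange (f : M →ₗ[A] M') (hf : IsBaseChange A' f) :
    Module.supportDim A' M' = Module.supportDim A M := by
  have hflat : Module.Flat A A' := flat_of_isPushout k k' A A'
  have hfin : Module.Finite A' M' := Module.Finite.equiv hf.equiv
  rw [Module.supportDim_eq_ringKrullDim_quotient_annihilator,
    Module.supportDim_eq_ringKrullDim_quotient_annihilator,
    ← hf.equiv.annihilator_eq,
    Groth.Agent.Lib.Helper5.FBC.annihilator_baseChange,
    ringKrullDim_quotient_map_eq k k' A A']

end A

section Fiber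

variable (R S R' S' k k' A A' : Type u) [CommRing R] [CommRing S] [CommRing R'] [CommRing S']
  [Field k] [Field k'] [CommRing A] [CommRing A']
  [Algebra R S] [Algebra R R'] [Algebra R' S'] [Algebra R S'] [Algebra S S']
  [IsScalarTower R R' S'] [IsScalarTower R S S'] [Algebra.IsPushout R R' S S']
  [Algebra R k] [Algebra R' k'] [Algebra R k'] [Algebra k k'] [IsScalarTower R R' k']
  [IsScalarTower R k k']
  [Algebra k A] [Algebra S A] [Algebra R A] [IsScalarTower R k A] [IsScalarTower R S A]
  [Algebra.IsPushout R k S A]
  [Algebra k' A'] [Algebra S' A'] [Algebra R' A'] [IsScalarTower R' k' A'] [IsScalarTower R' S' A']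
  [Algebra.IsPushout R' k' S' A']
  [Algebra.FiniteType R S]
  (N N' M M' : Type u) [AddCommGroup N] [Module S N] [Module.Finite S N] [AddCommGroup N']
  [Module S' N'] [Module S N'] [IsScalarTower S S' N']
  [AddCommGroup M] [Module A M] [Module S M] [IsScalarTower S A M]
  [AddCommGroup M'] [Module A' M'] [Module S' M'] [IsScalarTower S' A' M']

include R S R' S' k k' N N' in
/-- The dimension of the support of the fibre module is invariant under base change:
`A = k ⊗_R S`, `A' = k' ⊗_{R'} S'`, `S' = R' ⊗_R S`, `M = A ⊗_S N`, `N' = S' ⊗_S N`,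
`M' = A' ⊗_{S'} N'`. -/
theorem supportDim_fiber_eq
    (f : N →ₗ[S] N') (hf : IsBaseChange S' f) (i : N →ₗ[S] M) (hi : IsBaseChange A i)
    (i' : N' →ₗ[S'] M') (hi' : IsBaseChange A' i') :
    Module.supportDim A' M' = Module.supportDim A M := by
  letI aRA' : Algebra R A' := ((algebraMap R' A').comp (algebraMap R R')).toAlgebra
  haveI : IsScalarTower R R' A' := .of_algebraMap_eq fun _ => rfl
  letI aSA' : Algebra S A' := ((algebraMap S' A').comp (algebraMap S S')).toAlgebra
  haveI : IsScalarTower S S' A' := .of_algebraMap_eq fun _ => rfl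
  letI akA' : Algebra k A' := ((algebraMap k' A').comp (algebraMap k k')).toAlgebra
  haveI : IsScalarTower k k' A' := .of_algebraMap_eq fun _ => rfl
  haveI : IsScalarTower R k' A' := .of_algebraMap_eq fun x => by
    rw [IsScalarTower.algebraMap_apply R R' A', IsScalarTower.algebraMap_apply R' k' A',
      ← IsScalarTower.algebraMap_apply R R' k']
  haveI : IsScalarTower R S' A' := .of_algebraMap_eq fun x => by
    rw [IsScalarTower.algebraMap_apply R R' A', IsScalarTower.algebraMap_apply R' S' A',
      ← IsScalarTower.algebraMap_apply R R' S']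
  haveI : IsScalarTower R S A' := .of_algebraMap_eq fun x => by
    rw [IsScalarTower.algebraMap_apply R S' A', IsScalarTower.algebraMap_apply R S S',
      ← IsScalarTower.algebraMap_apply S S' A']
  haveI : IsScalarTower R k A' := .of_algebraMap_eq fun x => by
    rw [IsScalarTower.algebraMap_apply R k' A', IsScalarTower.algebraMap_apply R k k',
      ← IsScalarTower.algebraMap_apply k k' A']
  let φ : A →ₐ[R] A' := Algebra.pushoutDesc A (IsScalarTower.toAlgHom R k A')
    (IsScalarTower.toAlgHom R S A') (fun _ _ => mul_comm _ _)
  letI aAA' : Algebra A A' := φ.toRingHom.toAlgebra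
  haveI : IsScalarTower k A A' := .of_algebraMap_eq fun x =>
    (Algebra.pushoutDesc_left A (IsScalarTower.toAlgHom R k A')
      (IsScalarTower.toAlgHom R S A') (fun _ _ => mul_comm _ _) x).symm
  haveI : IsScalarTower S A A' := .of_algebraMap_eq fun x =>
    (Algebra.pushoutDesc_right A (IsScalarTower.toAlgHom R k A')
      (IsScalarTower.toAlgHom R S A') (fun _ _ => mul_comm _ _) x).symm
  haveI : IsScalarTower R A A' := .of_algebraMap_eq fun x => (φ.commutes x).symm
  have hP1 : Algebra.IsPushout R k' S A' :=
    (Algebra.IsPushout.comp_iff R R' S S').mpr inferInstance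
  haveI hP2 : Algebra.IsPushout k k' A A' := (Algebra.IsPushout.comp_iff R k S A).mp hP1
  haveI : Algebra.FiniteType k A :=
    Algebra.FiniteType.equiv (inferInstance : Algebra.FiniteType k (k ⊗[R] S))
      (Algebra.IsPushout.equiv R k S A)
  haveI : Module.Finite A M := Module.Finite.equiv hi.equiv
  -- module structures on `M'`
  letI mSM' : Module S M' := Module.compHom M' (algebraMap S S')
  haveI : IsScalarTower S S' M' := .of_algebraMap_smul fun _ _ => rfl
  haveI : IsScalarTower S A' M' := .of_algebraMap_smul fun s x => by
    rw [IsScalarTower.algebraMap_apply S S' A', algebraMap_smul, algebraMap_smul]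
  letI mAM' : Module A M' := Module.compHom M' (algebraMap A A')
  haveI : IsScalarTower A A' M' := .of_algebraMap_smul fun _ _ => rfl
  haveI : IsScalarTower S A M' := .of_algebraMap_smul fun s x => by
    rw [← algebraMap_smul A' (algebraMap S A s) x, ← IsScalarTower.algebraMap_apply S A A',
      algebraMap_smul]
  have hc : IsBaseChange A' ((i'.restrictScalars S).comp f) := IsBaseChange.comp hf hi'
  let F : M →ₗ[A] M' := hi.lift ((i'.restrictScalars S).comp f)
  have hF : IsBaseChange A' F := by
    refine IsBaseChange.of_comp hi ?_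
    have : (F.restrictScalars S).comp i = (i'.restrictScalars S).comp f := hi.lift_comp _
    rw [this]
    exact hc
  exact supportDim_eq_of_isBaseChange k k' A A' M M' F hF

end Fiber

end Groth.Agent.Lib.H6xFibDim
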