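import Mathlib
import Groth.Prelude.Def_FlatCA
import Groth.Agent.Lib.H6xFibDim
import Groth.Agent.Lib.Helper7TopDim

/-!
# Fibres under a base change with trivial residue field extension (helper6)
-/

set_option autoImplicit false
universe u
open TensorProduct

namespace Groth.Agent.Lib.H6xFibIso

/-- a base change along a bijective ring map is bijective. -/
theorem bijective_of_isBaseChange {R S M N : Type*} [CommRing R] [CommRing S] [Algebra R S]
    [AddCommGroup M] [AddCommGroup N] [Module R M] [Module R N] [Module S N] [IsScalarTower R S N]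
    (f : M →ₗ[R] N) (hf : IsBaseChange S f) (h : Function.Bijective (algebraMap R S)) :
    Function.Bijective f := by
  let e : R ≃ₗ[R] S := LinearEquiv.ofBijective (Algebra.linearMap R S) h
  let g : M ≃ₗ[R] S ⊗[R] M := (TensorProduct.lid R M).symm ≪≫ₗ TensorProduct.congr e (LinearEquiv.refl R M)
  have hfg : ∀ m, f m = hf.equiv (g m) := by
    intro m
    simp [g, e, IsBaseChange.equiv_tmul]
  have : (f : M → N) = (hf.equiv : S ⊗[R] M → N) ∘ g := funext hfg
  rw [this]
  exact hf.equiv.bijective.comp g.bijective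

section Generic

theorem mem_support_iff_comap {A A' M M' : Type*} [CommRing A] [CommRing A'] [AddCommGroup M]
    [AddCommGroup M'] [Module A M] [Module A' M'] (φ : A →+* A') (hφ : Function.Surjective φ)
    (F : M →+ M') (hF : ∀ a m, F (a • m) = φ a • F m) (hFb : Function.Bijective F)
    (P' : PrimeSpectrum A') :
    P' ∈ Module.support A' M' ↔ PrimeSpectrum.comap φ P' ∈ Module.support A M := by
  rw [Module.mem_support_iff', Module.mem_support_iff']
  constructor
  · rintro ⟨m', hm'⟩
    obtain ⟨m, rfl⟩ := hFb.2 m'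
    refine ⟨m, fun r hr h0 => hm' (φ r) hr ?_⟩
    rw [← hF, h0, map_zero]
  · rintro ⟨m, hm⟩
    refine ⟨F m, fun r' hr' h0 => ?_⟩
    obtain ⟨r, rfl⟩ := hφ r'
    exact hm r hr' (hFb.1 (by rw [hF, h0, map_zero]))

open TopologicalSpace Topology in
theorem localDim_eq_of_isOpenEmbedding {α β : Type*} [TopologicalSpace α] [TopologicalSpace β]
    {f : α → β} (hf : IsOpenEmbedding f) (x : α) :
    FlatMor.localDim α x = FlatMor.localDim β (f x) := by
  apply le_antisymm
  · rw [Groth.Agent.Lib.Helper7.TopDim.le_localDim_iff]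
    intro W' hW'
    let W : Opens α := ⟨f ⁻¹' (W' : Set β), W'.isOpen.preimage hf.continuous⟩
    have hxW : x ∈ W := hW'
    refine (Groth.Agent.Lib.Helper7.TopDim.localDim_le x W hxW).trans ?_
    let g : ↥W → ↥W' := fun w => ⟨f w.1, w.2⟩
    have hg : IsInducing g := by
      apply IsInducing.of_comp (g := (Subtype.val : ↥W' → β))
      · exact Continuous.subtype_mk (hf.continuous.comp continuous_subtype_val) _
      · exact continuous_subtype_val
      · exact hf.isInducing.comp IsInducing.subtypeVal
    exact hg.topologicalKrullDim_le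
  · rw [Groth.Agent.Lib.Helper7.TopDim.le_localDim_iff]
    intro W hW
    let g : ↥W → β := fun w => f w.1
    have hg : IsOpenEmbedding g := hf.comp W.isOpen.isOpenEmbedding_subtypeVal
    let W' : Opens β := ⟨Set.range g, hg.isOpen_range⟩
    have hxW' : f x ∈ W' := ⟨⟨x, hW⟩, rfl⟩
    refine (Groth.Agent.Lib.Helper7.TopDim.localDim_le (f x) W' hxW').trans ?_
    exact (IsHomeomorph.topologicalKrullDim_eq _
      hg.isEmbedding.toHomeomorph.isHomeomorph).ge

theorem localDim_eq_of_homeomorph {α β : Type*} [TopologicalSpace α] [TopologicalSpace β]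
    (e : α ≃ₜ β) (a : α) : FlatMor.localDim α a = FlatMor.localDim β (e a) :=
  localDim_eq_of_isOpenEmbedding e.isOpenEmbedding a

/-- transport of the local dimension of a support along a bijective semilinear map. -/
theorem localDim_support_eq {A A' M M' : Type*} [CommRing A] [CommRing A'] [AddCommGroup M]
    [AddCommGroup M'] [Module A M] [Module A' M'] (φ : A →+* A') (hφ : Function.Bijective φ)
    (F : M →+ M') (hF : ∀ a m, F (a • m) = φ a • F m) (hFb : Function.Bijective F)
    (ξ' : PrimeSpectrum A') (hξ' : ξ' ∈ Module.support A' M') :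
    ∃ hξ : PrimeSpectrum.comap φ ξ' ∈ Module.support A M,
      FlatMor.localDim (Module.support A' M') ⟨ξ', hξ'⟩ =
        FlatMor.localDim (Module.support A M) ⟨PrimeSpectrum.comap φ ξ', hξ⟩ := by
  have hξ := (mem_support_iff_comap φ hφ.2 F hF hFb ξ').mp hξ'
  refine ⟨hξ, ?_⟩
  let ψ : A ≃+* A' := RingEquiv.ofBijective φ hφ
  let h0 : PrimeSpectrum A' ≃ₜ PrimeSpectrum A := (PrimeSpectrum.homeomorphOfRingEquiv ψ).symm
  have h0a : ∀ x, h0 x = PrimeSpectrum.comap φ x := fun x => rfl
  let h1 : Module.support A' M' ≃ₜ Module.support A M :=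
    h0.subtype (fun x => by
      rw [h0a]
      exact mem_support_iff_comap φ hφ.2 F hF hFb x)
  exact localDim_eq_of_homeomorph h1 ⟨ξ', hξ'⟩

/-- semilinear transport of a purely transcendental generating family. -/
theorem transcendence_transport {k K k' K' ι : Type*} [Field k] [Field K] [Field k'] [Field K']
    [Algebra k K] [Algebra k' K'] (σ : k →+* k') (hσ : Function.Bijective σ) (τ : K →+* K')
    (hτ : Function.Bijective τ) (hc : ∀ a, τ (algebraMap k K a) = algebraMap k' K' (σ a))
    (x : ι → K) (hx : IsTranscendenceBasis k x)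
    (hx2 : IntermediateField.adjoin k (Set.range x) = ⊤) :
    IsTranscendenceBasis k' (τ ∘ x) ∧ IntermediateField.adjoin k' (Set.range (τ ∘ x)) = ⊤ := by
  letI : Algebra k K' := ((algebraMap k' K').comp σ).toAlgebra
  letI : Algebra k k' := σ.toAlgebra
  haveI : IsScalarTower k k' K' := .of_algebraMap_eq fun _ => rfl
  let τa : K ≃ₐ[k] K' := AlgEquiv.ofBijective
    { toRingHom := τ, commutes' := fun a => hc a } hτ
  have h1 : IsTranscendenceBasis k (τ ∘ x) := (AlgEquiv.isTranscendenceBasis_iff τa).mpr hx
  have h2 : IntermediateField.adjoin k (Set.range (τ ∘ x)) = ⊤ := by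
    have := congrArg (IntermediateField.map τa.toAlgHom) hx2
    rw [IntermediateField.adjoin_map, ← Set.range_comp] at this
    rw [show (τ ∘ x) = (τa.toAlgHom ∘ x) from rfl, this, ← AlgHom.fieldRange_eq_map,
      AlgHom.fieldRange_eq_top]
    exact τa.surjective
  have key : ∀ (s : Set K'), AlgebraicIndepOn k' id s ↔ AlgebraicIndepOn k id s := by
    intro s
    exact algebraicIndependent_ringHom_iff_of_comp_eq (RingEquiv.ofBijective σ hσ)
      (RingHom.id K') Function.injective_id rfl
  refine ⟨?_, ?_⟩
  · refine ⟨?_, fun s hs hsub => h1.2 s ((key s).mp hs) hsub⟩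
    exact (algebraicIndependent_ringHom_iff_of_comp_eq (x := τ ∘ x) (RingEquiv.ofBijective σ hσ)
      (RingHom.id K') Function.injective_id rfl).mpr h1.1
  · rw [eq_top_iff]
    intro z _
    have hz : z ∈ IntermediateField.adjoin k (Set.range (τ ∘ x)) := by rw [h2]; trivial
    have hle : IntermediateField.adjoin k (Set.range (τ ∘ x)) ≤
        (IntermediateField.adjoin k' (Set.range (τ ∘ x))).restrictScalars k :=
      IntermediateField.adjoin_le_iff.mpr (IntermediateField.subset_adjoin k' _)
    exact hle hz

end Generic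

section Fiber

variable (R S R' S' k k' A A' : Type u) [CommRing R] [CommRing S] [CommRing R'] [CommRing S']
  [Field k] [Field k'] [CommRing A] [CommRing A']
  [Algebra R S] [Algebra R R'] [Algebra R' S'] [Algebra R S'] [Algebra S S']
  [IsScalarTower R R' S'] [IsScalarTower R S S'] [Algebra.IsPushout R R' S S']
  [Algebra R k] [Algebra R' k'] [Algebra R k'] [Algebra k k'] [IsScalarTower R R' k']
  [IsScalarTower R k k']
  [Algebra k A] [Algebra S A] [Algebra R A] [IsScalarTower R k A] [IsScalarTower R S A]
  [Algebra.IsPushout R k S A]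
  [Algebra k' A'] [Algebra S' A'] [Algebra R' A'] [IsScalarTower R' k' A'] [IsScalarTower R' S' A']
  [Algebra.IsPushout R' k' S' A']

include R R' in
/-- the comparison map of fibre rings `A = k ⊗_R S → A' = k' ⊗_{R'} S'`, together with its
properties, packaged as an existence statement. -/
theorem exists_fiberHom :
    ∃ φ : A →+* A', (∀ x : k, φ (algebraMap k A x) = algebraMap k' A' (algebraMap k k' x)) ∧
      (∀ s : S, φ (algebraMap S A s) = algebraMap S' A' (algebraMap S S' s)) ∧
      (Function.Bijective (algebraMap k k') → Function.Bijective φ) ∧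
      ∀ (N N' M M' : Type u) [AddCommGroup N] [Module S N] [AddCommGroup N']
        [Module S' N'] [Module S N'] [IsScalarTower S S' N']
        [AddCommGroup M] [Module A M] [Module S M] [IsScalarTower S A M]
        [AddCommGroup M'] [Module A' M'] [Module S' M'] [IsScalarTower S' A' M']
        (f : N →ₗ[S] N') (_ : IsBaseChange S' f) (i : N →ₗ[S] M) (_ : IsBaseChange A i)
        (i' : N' →ₗ[S'] M') (_ : IsBaseChange A' i'),
        ∃ F : M →+ M', (∀ a m, F (a • m) = φ a • F m) ∧ (∀ n, F (i n) = i' (f n)) ∧
          (Function.Bijective (algebraMap k k') → Function.Bijective F) := by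
  letI aRA' : Algebra R A' := ((algebraMap R' A').comp (algebraMap R R')).toAlgebra
  haveI : IsScalarTower R R' A' := .of_algebraMap_eq fun _ => rfl
  letI aSA' : Algebra S A' := ((algebraMap S' A').comp (algebraMap S S')).toAlgebra
  haveI : IsScalarTower S S' A' := .of_algebraMap_eq fun _ => rfl
  letI akA' : Algebra k A' := ((algebraMap k' A').comp (algebraMap k k')).toAlgebra
  haveI : IsScalarTower k k' A' := .of_algebraMap_eq fun _ => rfl
  haveI : IsScalarTower R k' A' := .of_algebraMap_eq fun x => by
    rw [IsScalarTower.algebraMap_apply R R' A', IsScalarTower.algebraMap_apply R' k' A',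
      ← IsScalarTower.algebraMap_apply R R' k']
  haveI : IsScalarTower R S' A' := .of_algebraMap_eq fun x => by
    rw [IsScalarTower.algebraMap_apply R R' A', IsScalarTower.algebraMap_apply R' S' A',
      ← IsScalarTower.algebraMap_apply R R' S']
  haveI : IsScalarTower R S A' := .of_algebraMap_eq fun x => by
    rw [IsScalarTower.algebraMap_apply R S' A', IsScalarTower.algebraMap_apply R S S',
      ← IsScalarTower.algebraMap_apply S S' A']
  haveI : IsScalarTower R k A' := .of_algebraMap_eq fun x => by
    rw [IsScalarTower.algebraMap_apply R k' A', IsScalarTower.algebraMap_apply R k k',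
      ← IsScalarTower.algebraMap_apply k k' A']
  let φ : A →ₐ[R] A' := Algebra.pushoutDesc A (IsScalarTower.toAlgHom R k A')
    (IsScalarTower.toAlgHom R S A') (fun _ _ => mul_comm _ _)
  have hφl : ∀ x : k, φ (algebraMap k A x) = algebraMap k A' x := fun x =>
    Algebra.pushoutDesc_left A (IsScalarTower.toAlgHom R k A')
      (IsScalarTower.toAlgHom R S A') (fun _ _ => mul_comm _ _) x
  have hφr : ∀ s : S, φ (algebraMap S A s) = algebraMap S A' s := fun x =>
    Algebra.pushoutDesc_right A (IsScalarTower.toAlgHom R k A')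
      (IsScalarTower.toAlgHom R S A') (fun _ _ => mul_comm _ _) x
  letI aAA' : Algebra A A' := φ.toRingHom.toAlgebra
  haveI : IsScalarTower k A A' := .of_algebraMap_eq fun x => (hφl x).symm
  haveI : IsScalarTower S A A' := .of_algebraMap_eq fun x => (hφr x).symm
  haveI : IsScalarTower R A A' := .of_algebraMap_eq fun x => (φ.commutes x).symm
  have hP1 : Algebra.IsPushout R k' S A' :=
    (Algebra.IsPushout.comp_iff R R' S S').mpr inferInstance
  haveI hP2 : Algebra.IsPushout k k' A A' := (Algebra.IsPushout.comp_iff R k S A).mp hP1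
  have hbij : Function.Bijective (algebraMap k k') → Function.Bijective φ := by
    intro hk
    have h4 : IsBaseChange k' (IsScalarTower.toAlgHom k A A').toLinearMap := hP2.out
    exact bijective_of_isBaseChange _ h4 hk
  refine ⟨φ.toRingHom, hφl, hφr, hbij, ?_⟩
  intro N N' M M' _ _ _ _ _ _ _ _ _ _ _ _ _ _ f hf i hi i' hi'
  letI mSM' : Module S M' := Module.compHom M' (algebraMap S S')
  haveI : IsScalarTower S S' M' := .of_algebraMap_smul fun _ _ => rfl
  haveI : IsScalarTower S A' M' := .of_algebraMap_smul fun s x => by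
    rw [IsScalarTower.algebraMap_apply S S' A', algebraMap_smul, algebraMap_smul]
  letI mAM' : Module A M' := Module.compHom M' (algebraMap A A')
  haveI : IsScalarTower A A' M' := .of_algebraMap_smul fun _ _ => rfl
  haveI : IsScalarTower S A M' := .of_algebraMap_smul fun s x => by
    rw [← algebraMap_smul A' (algebraMap S A s) x, ← IsScalarTower.algebraMap_apply S A A',
      algebraMap_smul]
  have hc : IsBaseChange A' ((i'.restrictScalars S).comp f) := IsBaseChange.comp hf hi'
  let F : M →ₗ[A] M' := hi.lift ((i'.restrictScalars S).comp f)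
  have hF : IsBaseChange A' F := by
    refine IsBaseChange.of_comp hi ?_
    have : (F.restrictScalars S).comp i = (i'.restrictScalars S).comp f := hi.lift_comp _
    rw [this]
    exact hc
  refine ⟨F.toAddMonoidHom, fun a m => ?_, fun n => ?_, fun hk => ?_⟩
  · exact F.map_smul a m
  · exact hi.lift_eq _ n
  · exact bijective_of_isBaseChange F hF (hbij hk)

end Fiber

section Concrete

attribute [local instance] Algebra.TensorProduct.rightAlgebra

variable (R S : Type u) [CommRing R] [CommRing S] [Algebra R S] (p : Ideal R) [p.IsPrime]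
  (R' : Type u) [CommRing R'] [Algebra R R'] (p' : Ideal R') [p'.IsPrime] [hp' : p'.LiesOver p]
  (S' : Type u) [CommRing S'] [Algebra R' S'] [Algebra R S'] [Algebra S S'] [IsScalarTower R R' S']
  [IsScalarTower R S S'] [Algebra.IsPushout R R' S S']

theorem exists_fiberHom_concrete
    (hκ : Function.Bijective (Ideal.ResidueField.mapₐ p p' (Algebra.ofId R R') (p'.over_def p))) :
    ∃ φ : p.Fiber S →+* p'.Fiber S', Function.Bijective φ ∧
      (∀ s : S, φ (1 ⊗ₜ s) = 1 ⊗ₜ (algebraMap S S' s)) ∧
      ∀ (N N' : Type u) [AddCommGroup N] [Module S N] [Module R N] [IsScalarTower R S N]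
        [AddCommGroup N'] [Module S' N'] [Module R' N'] [IsScalarTower R' S' N'] [Module S N']
        [IsScalarTower S S' N'] (f : N →ₗ[S] N') (_ : IsBaseChange S' f),
        ∃ F : FlatCA.fiberMod p S N →+ FlatCA.fiberMod p' S' N',
          (∀ a m, F (a • m) = φ a • F m) ∧ Function.Bijective F := by
  letI : Algebra p.ResidueField p'.ResidueField :=
    (Ideal.ResidueField.mapₐ p p' (Algebra.ofId R R') (p'.over_def p)).toRingHom.toAlgebra
  haveI : IsScalarTower R p.ResidueField p'.ResidueField := .of_algebraMap_eq fun x =>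
    ((Ideal.ResidueField.mapₐ p p' (Algebra.ofId R R') (p'.over_def p)).commutes x).symm
  obtain ⟨φ, -, hr, hb, hM⟩ := exists_fiberHom R S R' S' p.ResidueField p'.ResidueField
    (p.Fiber S) (p'.Fiber S')
  refine ⟨φ, hb hκ, fun s => hr s, ?_⟩
  intro N N' _ _ _ _ _ _ _ _ _ _ f hf
  haveI hT1 : IsScalarTower S (p.Fiber S) (FlatCA.fiberMod p S N) :=
    inferInstanceAs (IsScalarTower S (p.Fiber S) ((p.Fiber S) ⊗[S] N))
  letI : Module S' (FlatCA.fiberMod p' S' N') :=
    inferInstanceAs (Module S' ((p'.Fiber S') ⊗[S'] N'))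
  haveI hT2 : IsScalarTower S' (p'.Fiber S') (FlatCA.fiberMod p' S' N') :=
    inferInstanceAs (IsScalarTower S' (p'.Fiber S') ((p'.Fiber S') ⊗[S'] N'))
  obtain ⟨F, h1, -, h3⟩ := @hM N N' (FlatCA.fiberMod p S N) (FlatCA.fiberMod p' S' N')
    _ _ _ _ _ _ _ _ _ hT1 _ _ _ hT2 f hf
    (FlatCA.toFiberMod p S N) (TensorProduct.isBaseChange S N (p.Fiber S))
    (FlatCA.toFiberMod p' S' N') (TensorProduct.isBaseChange S' N' (p'.Fiber S'))
  exact ⟨F, h1, h3 hκ⟩

omit hp' in
/-- the prime of the fibre ring attached to a prime over `p`. -/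
theorem exists_fiber_prime (q : Ideal S) [q.IsPrime] [q.LiesOver p] :
    ∃ Q : PrimeSpectrum (p.Fiber S),
      Q.asIdeal.comap (Algebra.TensorProduct.includeRight (R := R) (A := p.ResidueField)
        (B := S)).toRingHom = q := by
  let e := PrimeSpectrum.primesOverOrderIsoFiber R S p
  refine ⟨e ⟨q, ⟨inferInstance, inferInstance⟩⟩, ?_⟩
  have h := e.symm_apply_apply ⟨q, ⟨inferInstance, inferInstance⟩⟩
  have h2 := congrArg Subtype.val h
  rw [PrimeSpectrum.coe_primesOverOrderIsoFiber_symm_apply] at h2
  exact h2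

omit hp' in
theorem fiber_prime_ext (Q₁ Q₂ : PrimeSpectrum (p.Fiber S))
    (h : Q₁.asIdeal.comap (Algebra.TensorProduct.includeRight (R := R) (A := p.ResidueField)
        (B := S)).toRingHom = Q₂.asIdeal.comap (Algebra.TensorProduct.includeRight (R := R)
        (A := p.ResidueField) (B := S)).toRingHom) : Q₁ = Q₂ := by
  let e := PrimeSpectrum.primesOverOrderIsoFiber R S p
  apply e.symm.injective
  apply Subtype.ext
  rw [PrimeSpectrum.coe_primesOverOrderIsoFiber_symm_apply,
    PrimeSpectrum.coe_primesOverOrderIsoFiber_symm_apply]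
  exact h

omit hp' in
theorem comap_fiberIdeal (q : Ideal S) [q.IsPrime] [q.LiesOver p] :
    (FlatCA.fiberIdeal p q).comap (Algebra.TensorProduct.includeRight (R := R)
      (A := p.ResidueField) (B := S)).toRingHom = q := by
  obtain ⟨Q, hQ⟩ := exists_fiber_prime R S p q
  apply le_antisymm
  · have : FlatCA.fiberIdeal p q ≤ Q.asIdeal := by
      unfold FlatCA.fiberIdeal
      rw [Ideal.map_le_iff_le_comap, hQ]
    exact (Ideal.comap_mono this).trans hQ.le
  · exact Ideal.le_comap_map

/-- uniqueness of the prime over `(q, p')` when the residue field extension is trivial. -/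
theorem prime_unique
    (hκ : Function.Bijective (Ideal.ResidueField.mapₐ p p' (Algebra.ofId R R') (p'.over_def p)))
    (q₁ q₂ : Ideal S') [q₁.IsPrime] [q₂.IsPrime] [q₁.LiesOver p'] [q₂.LiesOver p']
    (h : q₁.comap (algebraMap S S') = q₂.comap (algebraMap S S')) : q₁ = q₂ := by
  obtain ⟨φ, hφb, hφr, -⟩ := exists_fiberHom_concrete R S p R' p' S' hκ
  obtain ⟨Q₁, hQ₁⟩ := exists_fiber_prime R' S' p' q₁
  obtain ⟨Q₂, hQ₂⟩ := exists_fiber_prime R' S' p' q₂
  have hcomp : φ.comp (Algebra.TensorProduct.includeRight (R := R) (A := p.ResidueField)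
      (B := S)).toRingHom = ((Algebra.TensorProduct.includeRight (R := R')
      (A := p'.ResidueField) (B := S')).toRingHom).comp (algebraMap S S') :=
    RingHom.ext fun s => hφr s
  have key : PrimeSpectrum.comap φ Q₁ = PrimeSpectrum.comap φ Q₂ := by
    apply fiber_prime_ext R S p
    rw [PrimeSpectrum.comap_asIdeal, PrimeSpectrum.comap_asIdeal, Ideal.comap_comap,
      Ideal.comap_comap, hcomp, ← Ideal.comap_comap, ← Ideal.comap_comap, hQ₁, hQ₂, h]
  have : Q₁ = Q₂ := PrimeSpectrum.comap_injective_of_surjective φ hφb.2 key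
  rw [← hQ₁, ← hQ₂, this]

/-- the local dimension of the fibre support transfers under a base change with trivial residue
field extension. -/
theorem exists_localDim_fiber
    (hκ : Function.Bijective (Ideal.ResidueField.mapₐ p p' (Algebra.ofId R R') (p'.over_def p)))
    (N N' : Type u) [AddCommGroup N] [Module S N] [Module R N] [IsScalarTower R S N]
    [AddCommGroup N'] [Module S' N'] [Module R' N'] [IsScalarTower R' S' N'] [Module S N']
    [IsScalarTower S S' N'] (f : N →ₗ[S] N') (hf : IsBaseChange S' f)
    (q : Ideal S) [q.IsPrime] [q.LiesOver p] (q' : Ideal S') [q'.IsPrime] [q'.LiesOver q]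
    [q'.LiesOver p'] (d : WithBot ℕ∞)
    (h1 : ∃ (ξ : PrimeSpectrum (p.Fiber S))
      (hξ : ξ ∈ Module.support (p.Fiber S) (FlatCA.fiberMod p S N)),
      ξ.asIdeal = FlatCA.fiberIdeal p q ∧
      FlatMor.localDim (Module.support (p.Fiber S) (FlatCA.fiberMod p S N)) ⟨ξ, hξ⟩ = d) :
    ∃ (ξ' : PrimeSpectrum (p'.Fiber S'))
      (hξ' : ξ' ∈ Module.support (p'.Fiber S') (FlatCA.fiberMod p' S' N')),
      ξ'.asIdeal = FlatCA.fiberIdeal p' q' ∧
      FlatMor.localDim (Module.support (p'.Fiber S') (FlatCA.fiberMod p' S' N')) ⟨ξ', hξ'⟩ = d := by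
  obtain ⟨ξ, hξ, hξq, hdim⟩ := h1
  obtain ⟨φ, hφb, hφr, hM⟩ := exists_fiberHom_concrete R S p R' p' S' hκ
  obtain ⟨F, hF, hFb⟩ := hM N N' f hf
  let ψ : p.Fiber S ≃+* p'.Fiber S' := RingEquiv.ofBijective φ hφb
  let ξ' : PrimeSpectrum (p'.Fiber S') := PrimeSpectrum.comap (ψ.symm : p'.Fiber S' →+* p.Fiber S) ξ
  have hcomap : PrimeSpectrum.comap φ ξ' = ξ := by
    have : φ = (ψ : p.Fiber S →+* p'.Fiber S') := rfl
    rw [this, ← PrimeSpectrum.comap_comp_apply]
    simp
  have hξ' : ξ' ∈ Module.support (p'.Fiber S') (FlatCA.fiberMod p' S' N') :=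
    (mem_support_iff_comap φ hφb.2 F hF hFb ξ').mpr (hcomap ▸ hξ)
  refine ⟨ξ', hξ', ?_, ?_⟩
  · -- the ideal
    have hcomp : φ.comp (Algebra.TensorProduct.includeRight (R := R) (A := p.ResidueField)
        (B := S)).toRingHom = ((Algebra.TensorProduct.includeRight (R := R')
        (A := p'.ResidueField) (B := S')).toRingHom).comp (algebraMap S S') :=
      RingHom.ext fun s => hφr s
    have hQ' : ξ'.asIdeal = (q.map (algebraMap S S')).map (Algebra.TensorProduct.includeRight
        (R := R') (A := p'.ResidueField) (B := S')).toRingHom := by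
      have h1 : ξ'.asIdeal = ξ.asIdeal.map φ := by
        change Ideal.comap (ψ.symm : p'.Fiber S' →+* p.Fiber S) ξ.asIdeal = _
        exact Ideal.comap_symm ψ
      rw [h1, hξq]
      unfold FlatCA.fiberIdeal
      rw [Ideal.map_map, Ideal.map_map, hcomp]
    -- the contraction of ξ' to S' is q'
    haveI hprime : (ξ'.asIdeal.comap (Algebra.TensorProduct.includeRight (R := R')
        (A := p'.ResidueField) (B := S')).toRingHom).IsPrime := Ideal.comap_isPrime _ _
    haveI hover : (ξ'.asIdeal.comap (Algebra.TensorProduct.includeRight (R := R')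
        (A := p'.ResidueField) (B := S')).toRingHom).LiesOver p' := by
      have h1 := ((PrimeSpectrum.primesOverOrderIsoFiber R' S' p').symm ξ').2.2
      rw [PrimeSpectrum.coe_primesOverOrderIsoFiber_symm_apply] at h1
      exact h1
    have hq1 : ξ'.asIdeal.comap (Algebra.TensorProduct.includeRight (R := R')
        (A := p'.ResidueField) (B := S')).toRingHom = q' := by
      apply prime_unique R S p R' p' S' hκ
      rw [Ideal.comap_comap, ← hcomp, ← Ideal.comap_comap]
      have h2 : Ideal.comap φ ξ'.asIdeal = ξ.asIdeal := congrArg PrimeSpectrum.asIdeal hcomap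
      rw [h2, hξq, comap_fiberIdeal R S p q]
      exact (q'.over_def q)
    apply le_antisymm
    · rw [hQ']
      unfold FlatCA.fiberIdeal
      apply Ideal.map_mono
      rw [Ideal.map_le_iff_le_comap]
      exact (q'.over_def q).le
    · unfold FlatCA.fiberIdeal
      rw [Ideal.map_le_iff_le_comap, hq1]
  · obtain ⟨h, e⟩ := localDim_support_eq φ hφb F hF hFb ξ' hξ'
    rw [e]
    have : (⟨PrimeSpectrum.comap φ ξ', h⟩ : Module.support (p.Fiber S) (FlatCA.fiberMod p S N)) =
        ⟨ξ, hξ⟩ := Subtype.ext hcomap
    rw [this]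
    exact hdim

/-- purely transcendental residue field extensions transfer under a base change with trivial
residue field extension. -/
theorem purelyTranscendental_baseChange
    (hκ : Function.Bijective (Ideal.ResidueField.mapₐ p p' (Algebra.ofId R R') (p'.over_def p)))
    (y : Ideal S) [y.IsPrime] [y.LiesOver p] (y' : Ideal S') [y'.IsPrime] [y'.LiesOver y]
    [y'.LiesOver p'] (h : FlatCA.PurelyTranscendental p y) : FlatCA.PurelyTranscendental p' y' := by
  obtain ⟨φ, hφb, hφr, -⟩ := exists_fiberHom_concrete R S p R' p' S' hκ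
  have hcomp : φ.comp (Algebra.TensorProduct.includeRight (R := R) (A := p.ResidueField)
      (B := S)).toRingHom = ((Algebra.TensorProduct.includeRight (R := R')
      (A := p'.ResidueField) (B := S')).toRingHom).comp (algebraMap S S') :=
    RingHom.ext fun s => hφr s
  obtain ⟨Y', hY'⟩ := exists_fiber_prime R' S' p' y'
  let Y : Ideal (p.Fiber S) := Y'.asIdeal.comap φ
  haveI : Y.IsPrime := Ideal.comap_isPrime _ _
  have hY : Y.comap (Algebra.TensorProduct.includeRight (R := R) (A := p.ResidueField)
      (B := S)).toRingHom = y := by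
    change (Y'.asIdeal.comap φ).comap _ = y
    rw [Ideal.comap_comap, hcomp, ← Ideal.comap_comap, hY']
    exact (y'.over_def y).symm
  let a := Ideal.ResidueField.map y Y (Algebra.TensorProduct.includeRight (R := R)
    (A := p.ResidueField) (B := S)).toRingHom hY.symm
  have ha : Function.Bijective a :=
    RingHom.SurjectiveOnStalks.residueFieldMap_bijective
      (RingHom.SurjectiveOnStalks.baseChange' (Ideal.surjectiveOnStalks_residueField p)) _ _ _
  let b := Ideal.ResidueField.map Y Y'.asIdeal φ rfl
  have hb : Function.Bijective b :=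
    RingHom.SurjectiveOnStalks.residueFieldMap_bijective
      (RingHom.surjectiveOnStalks_of_surjective hφb.2) _ _ _
  let a' := Ideal.ResidueField.map y' Y'.asIdeal (Algebra.TensorProduct.includeRight (R := R')
    (A := p'.ResidueField) (B := S')).toRingHom hY'.symm
  have ha' : Function.Bijective a' :=
    RingHom.SurjectiveOnStalks.residueFieldMap_bijective
      (RingHom.SurjectiveOnStalks.baseChange' (Ideal.surjectiveOnStalks_residueField p')) _ _ _
  let c := Ideal.ResidueField.map y y' (algebraMap S S') (y'.over_def y)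
  have hcomm : a'.comp c = b.comp a := by
    apply Ideal.ResidueField.ringHom_ext
    ext s
    simp only [RingHom.comp_apply, a', c, b, a, Ideal.ResidueField.map_algebraMap]
    congr 1
    exact (hφr s).symm
  have hc : Function.Bijective c := by
    have h1 : Function.Bijective (a' ∘ c) := by
      have : (a' ∘ c) = (b ∘ a) := by
        ext x
        exact RingHom.congr_fun hcomm x
      rw [this]
      exact hb.comp ha
    exact ⟨(Function.Injective.of_comp h1.1), by
      intro z
      obtain ⟨w, hw⟩ := h1.2 (a' z)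
      exact ⟨w, ha'.1 hw⟩⟩
  obtain ⟨ι, x, hx, hx2⟩ := h
  refine ⟨ι, c ∘ x, ?_⟩
  letI i1 : Algebra p.ResidueField y.ResidueField :=
    (Ideal.ResidueField.mapₐ p y (Algebra.ofId R S) (y.over_def p)).toRingHom.toAlgebra
  letI i2 : Algebra p'.ResidueField y'.ResidueField :=
    (Ideal.ResidueField.mapₐ p' y' (Algebra.ofId R' S') (y'.over_def p')).toRingHom.toAlgebra
  refine transcendence_transport
    (Ideal.ResidueField.mapₐ p p' (Algebra.ofId R R') (p'.over_def p)).toRingHom hκ c hc ?_ x hx hx2
  intro a0
  have : c.comp (Ideal.ResidueField.mapₐ p y (Algebra.ofId R S) (y.over_def p)).toRingHom =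
      ((Ideal.ResidueField.mapₐ p' y' (Algebra.ofId R' S') (y'.over_def p')).toRingHom).comp
        (Ideal.ResidueField.mapₐ p p' (Algebra.ofId R R') (p'.over_def p)).toRingHom := by
    apply Ideal.ResidueField.ringHom_ext
    ext r
    simp only [RingHom.comp_apply, c, AlgHom.toRingHom_eq_coe, RingHom.coe_coe,
      Ideal.ResidueField.mapₐ_apply, Ideal.ResidueField.map_algebraMap]
    congr 1
    simp only [Algebra.ofId_apply, AlgHom.coe_toRingHom]
    rw [← IsScalarTower.algebraMap_apply, ← IsScalarTower.algebraMap_apply]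
  exact RingHom.congr_fun this a0

end Concrete

end Groth.Agent.Lib.H6xFibIso
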