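import Mathlib
import Groth.Prelude.Def_FlatCA
import Groth.Agent.Lib.H6xFibIso

/-!
# Helper lemmas for base change of a complete dévissage at a point (helper6)
-/

set_option autoImplicit false
universe u
open TensorProduct

namespace Groth.Agent.Lib.H6xDevAt

open Groth.Agent.Lib.H6xFibIso

/-- a base change along `A → A'` is a base change along `B → B'` when `A' = B' ⊗_B A`. -/
theorem isBaseChange_restrictScalars_of_isPushout (B B' A A' M M' : Type*) [CommRing B]
    [CommRing B'] [CommRing A] [CommRing A'] [Algebra B B'] [Algebra B A] [Algebra A A']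
    [Algebra B' A'] [Algebra B A'] [IsScalarTower B B' A'] [IsScalarTower B A A']
    [Algebra.IsPushout B B' A A']
    [AddCommGroup M] [Module A M] [Module B M] [IsScalarTower B A M]
    [AddCommGroup M'] [Module A' M'] [Module B' M'] [IsScalarTower B' A' M'] [Module A M']
    [IsScalarTower A A' M'] [Module B M'] [IsScalarTower B B' M'] [IsScalarTower B A M']
    (g : M →ₗ[A] M') (hg : IsBaseChange A' g) : IsBaseChange B' (g.restrictScalars B) := by
  refine IsBaseChange.of_equiv
    ((Algebra.IsPushout.cancelBaseChange B B' A A' M).symm ≪≫ₗ hg.equiv.restrictScalars B')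
    fun m => ?_
  simp [IsBaseChange.equiv_tmul]

section Concrete

attribute [local instance] Algebra.TensorProduct.rightAlgebra

variable (R S : Type u) [CommRing R] [CommRing S] [Algebra R S] (p : Ideal R) [p.IsPrime]
  (R' : Type u) [CommRing R'] [Algebra R R'] (p' : Ideal R') [p'.IsPrime] [hp' : p'.LiesOver p]
  (S' : Type u) [CommRing S'] [Algebra R' S'] [Algebra R S'] [Algebra S S'] [IsScalarTower R R' S']
  [IsScalarTower R S S'] [Algebra.IsPushout R R' S S']

/-- existence of a prime over `(q, p')`. -/
theorem exists_prime_over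
    (hκ : Function.Bijective (Ideal.ResidueField.mapₐ p p' (Algebra.ofId R R') (p'.over_def p)))
    (q : Ideal S) [q.IsPrime] [q.LiesOver p] :
    ∃ q' : Ideal S', q'.IsPrime ∧ q'.LiesOver q ∧ q'.LiesOver p' := by
  obtain ⟨φ, hφb, hφr, -⟩ := exists_fiberHom_concrete R S p R' p' S' hκ
  have hcomp : φ.comp (Algebra.TensorProduct.includeRight (R := R) (A := p.ResidueField)
      (B := S)).toRingHom = ((Algebra.TensorProduct.includeRight (R := R')
      (A := p'.ResidueField) (B := S')).toRingHom).comp (algebraMap S S') :=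
    RingHom.ext fun s => hφr s
  obtain ⟨Q, hQ⟩ := exists_fiber_prime R S p q
  let ψ : p.Fiber S ≃+* p'.Fiber S' := RingEquiv.ofBijective φ hφb
  let Q' : PrimeSpectrum (p'.Fiber S') := PrimeSpectrum.comap (ψ.symm : p'.Fiber S' →+* p.Fiber S) Q
  have hcomap : PrimeSpectrum.comap φ Q' = Q := by
    have : φ = (ψ : p.Fiber S →+* p'.Fiber S') := rfl
    rw [this, ← PrimeSpectrum.comap_comp_apply]
    simp
  refine ⟨Q'.asIdeal.comap (Algebra.TensorProduct.includeRight (R := R')
      (A := p'.ResidueField) (B := S')).toRingHom, Ideal.comap_isPrime _ _, ⟨?_⟩, ?_⟩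
  · change q = Ideal.comap (algebraMap S S') _
    rw [Ideal.comap_comap, ← hcomp, ← Ideal.comap_comap]
    have h2 : Ideal.comap φ Q'.asIdeal = Q.asIdeal := congrArg PrimeSpectrum.asIdeal hcomap
    rw [h2, hQ]
  · have h1 := ((PrimeSpectrum.primesOverOrderIsoFiber R' S' p').symm Q').2.2
    rw [PrimeSpectrum.coe_primesOverOrderIsoFiber_symm_apply] at h1
    exact h1

omit [Algebra R S] [Algebra R' S'] [Algebra R S'] [Algebra S S'] [IsScalarTower R R' S']
  [IsScalarTower R S S'] [Algebra.IsPushout R R' S S'] in
/-- the local dimension of the fibre support of a module over `A`, finite over `B`, transfers. -/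
theorem exists_localDim_fiber_of_pushout
    (hκ : Function.Bijective (Ideal.ResidueField.mapₐ p p' (Algebra.ofId R R') (p'.over_def p)))
    (B A B' A' : Type u) [CommRing B] [CommRing A] [CommRing B'] [CommRing A']
    [Algebra R B] [Algebra R A] [Algebra B A] [IsScalarTower R B A]
    [Algebra R' B'] [Algebra R' A'] [Algebra B' A'] [IsScalarTower R' B' A']
    [Algebra R B'] [Algebra B B'] [IsScalarTower R R' B'] [IsScalarTower R B B']
    [Algebra.IsPushout R R' B B']
    [Algebra R A'] [Algebra A A'] [IsScalarTower R R' A'] [IsScalarTower R A A']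
    [Algebra.IsPushout R R' A A']
    [Algebra B A'] [IsScalarTower B A A'] [IsScalarTower B B' A']
    (M M' : Type u) [AddCommGroup M] [Module A M] [Module B M] [IsScalarTower B A M] [Module R M]
    [IsScalarTower R B M]
    [AddCommGroup M'] [Module A' M'] [Module B' M'] [IsScalarTower B' A' M'] [Module R' M']
    [IsScalarTower R' B' M'] [Module A M'] [IsScalarTower A A' M']
    (g : M →ₗ[A] M') (hg : IsBaseChange A' g)
    (qB : Ideal B) [qB.IsPrime] [qB.LiesOver p] (qB' : Ideal B') [qB'.IsPrime] [qB'.LiesOver qB]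
    [qB'.LiesOver p'] (d : WithBot ℕ∞)
    (h1 : ∃ (ξ : PrimeSpectrum (p.Fiber B))
      (hξ : ξ ∈ Module.support (p.Fiber B) (FlatCA.fiberMod p B M)),
      ξ.asIdeal = FlatCA.fiberIdeal p qB ∧
      FlatMor.localDim (Module.support (p.Fiber B) (FlatCA.fiberMod p B M)) ⟨ξ, hξ⟩ = d) :
    ∃ (ξ' : PrimeSpectrum (p'.Fiber B'))
      (hξ' : ξ' ∈ Module.support (p'.Fiber B') (FlatCA.fiberMod p' B' M')),
      ξ'.asIdeal = FlatCA.fiberIdeal p' qB' ∧
      FlatMor.localDim (Module.support (p'.Fiber B') (FlatCA.fiberMod p' B' M')) ⟨ξ', hξ'⟩ = d := by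
  haveI : IsScalarTower R B' A' := .of_algebraMap_eq fun x => by
    rw [IsScalarTower.algebraMap_apply R R' A', IsScalarTower.algebraMap_apply R' B' A',
      ← IsScalarTower.algebraMap_apply R R' B']
  haveI hRB : Algebra.IsPushout R B R' B' := Algebra.IsPushout.symm inferInstance
  haveI hRA : Algebra.IsPushout R A R' A' := Algebra.IsPushout.symm inferInstance
  have hBA : Algebra.IsPushout B A B' A' := (Algebra.IsPushout.comp_iff R B R' B').mp hRA
  haveI hBA' : Algebra.IsPushout B B' A A' := hBA.symm
  letI : Module B M' := Module.compHom M' (algebraMap B B')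
  haveI : IsScalarTower B B' M' := .of_algebraMap_smul fun _ _ => rfl
  haveI : IsScalarTower B A M' := .of_algebraMap_smul fun b x => by
    rw [← algebraMap_smul A' (algebraMap B A b) x, ← IsScalarTower.algebraMap_apply B A A',
      IsScalarTower.algebraMap_apply B B' A', algebraMap_smul, algebraMap_smul]
  have hgB := isBaseChange_restrictScalars_of_isPushout B B' A A' M M' g hg
  exact exists_localDim_fiber R B p R' p' B' hκ M M' (g.restrictScalars B) hgB qB qB' d h1

end Concrete

end Groth.Agent.Lib.H6xDevAt
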